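import Mathlib
import Cfsg.Agent.Lib.KBSolv75Section
import Cfsg.Agent.S4958

/-!
A solvable group without nontrivial normal `p'`-subgroup, with Sylow `p`-subgroups of order `p ^ d`,
has at most `3 ^ (d - 1) * p ^ d` conjugacy classes.
-/

set_option autoImplicit false
set_option linter.style.haveILetI false

namespace Cfsg.Agent.KBSolv75

open Cfsg.Agent.OddBase75 Cfsg.Agent.KGBound86

universe u

variable {p : ℕ}

/-- No nontrivial normal subgroup has order prime to `p`. -/
def NoP' (p : ℕ) (G : Type*) [Group G] : Prop :=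
  ∀ M : Subgroup G, M.Normal → ¬ p ∣ Nat.card M → M = ⊥

/-- A largest normal subgroup of order prime to `p`. -/
theorem exists_pPrime_max (hp : p.Prime) (G : Type*) [Group G] [Finite G] :
    ∃ M : Subgroup G, M.Normal ∧ ¬ p ∣ Nat.card M ∧
      ∀ M' : Subgroup G, M'.Normal → ¬ p ∣ Nat.card M' → M' ≤ M := by
  classical
  obtain ⟨M, ⟨hMn, hMp⟩, hmax⟩ := Set.exists_max_image {M : Subgroup G | M.Normal ∧ ¬ p ∣ Nat.card M}
    (fun M : Subgroup G => Nat.card M) (Set.toFinite _) ⟨⊥, inferInstance, by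
      rw [Subgroup.card_bot]; exact hp.not_dvd_one⟩
  refine ⟨M, hMn, hMp, fun M' hM'n hM'p => ?_⟩
  haveI := hMn
  haveI := hM'n
  have h : ¬ p ∣ Nat.card (M' ⊔ M : Subgroup G) := by
    intro hd
    rw [← (M.subgroupOf (M' ⊔ M)).card_mul_index,
      Nat.card_congr (Subgroup.subgroupOfEquivOfLe le_sup_right).toEquiv] at hd
    rcases (Nat.Prime.dvd_mul hp).1 hd with h | h
    · exact hMp h
    · refine hM'p (h.trans ?_)
      show M.relIndex (M' ⊔ M) ∣ _
      rw [Subgroup.relIndex_sup_right]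
      exact Subgroup.relIndex_dvd_card _ _
  exact le_sup_left.trans (Subgroup.eq_of_le_of_card_ge le_sup_right (hmax _ ⟨inferInstance, h⟩)).ge

theorem noP_normal (hp : p.Prime) {G : Type*} [Group G] [Finite G] (h : NoP' p G) (N : Subgroup G)
    [N.Normal] : NoP' p N := by
  obtain ⟨M, hMn, hMp, hmax⟩ := exists_pPrime_max hp N
  intro M' hM'n hM'p
  have hK : (M.map N.subtype).Normal := ⟨fun x hx g => by
    obtain ⟨y, hy, rfl⟩ := hx
    let φ : N ≃* N := MulAut.conjNormal g
    have h1 : M.map φ.toMonoidHom ≤ M := hmax _ (hMn.map _ φ.surjective) (by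
      rwa [Subgroup.card_map_of_injective (f := φ.toMonoidHom) φ.injective])
    exact ⟨φ y, h1 ⟨y, hy, rfl⟩, MulAut.conjNormal_apply g y⟩⟩
  have hbot := h _ hK (by rwa [Subgroup.card_map_of_injective N.subtype_injective])
  rw [Subgroup.map_eq_bot_iff_of_injective _ N.subtype_injective] at hbot
  exact le_bot_iff.1 (hbot ▸ hmax M' hM'n hM'p)

/-- The quotient by the preimage of the largest normal `p'`-subgroup. -/
theorem exists_Q (hp : p.Prime) {G : Type*} [Group G] [Finite G] (V : Subgroup G) [V.Normal] :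
    ∃ (Q : Subgroup G) (_ : Q.Normal), V ≤ Q ∧ ¬ p ∣ V.relIndex Q ∧ NoP' p (G ⧸ Q) := by
  classical
  obtain ⟨M, hMn, hMp, hmax⟩ := exists_pPrime_max hp (G ⧸ V)
  refine ⟨M.comap (QuotientGroup.mk' V), inferInstance, ?_, ?_, ?_⟩
  · intro x hx
    rw [Subgroup.mem_comap, QuotientGroup.mk'_apply, (QuotientGroup.eq_one_iff x).2 hx]
    exact one_mem M
  · have h := Subgroup.relIndex_ker (M.comap (QuotientGroup.mk' V)) (QuotientGroup.mk' V)
    rw [QuotientGroup.ker_mk', Subgroup.map_comap_eq_self_of_surjective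
      (QuotientGroup.mk'_surjective V)] at h
    rwa [h]
  · intro M' hM'n hM'p
    set Q := M.comap (QuotientGroup.mk' V)
    have hVQ : V ≤ Q := fun x hx => by
      rw [Subgroup.mem_comap, QuotientGroup.mk'_apply, (QuotientGroup.eq_one_iff x).2 hx]
      exact one_mem M
    let J := M'.comap (QuotientGroup.mk' Q)
    have hQJ : Q ≤ J := fun x hx => by
      rw [Subgroup.mem_comap, QuotientGroup.mk'_apply, (QuotientGroup.eq_one_iff x).2 hx]
      exact one_mem M'
    have hJ : J.map (QuotientGroup.mk' V) ≤ M := by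
      refine hmax _ ((inferInstance : J.Normal).map _ (QuotientGroup.mk'_surjective V)) ?_
      have h1 := Subgroup.relIndex_ker J (QuotientGroup.mk' V)
      rw [QuotientGroup.ker_mk'] at h1
      rw [← h1, ← Subgroup.relIndex_mul_relIndex V Q J hVQ hQJ]
      intro hd
      rcases (Nat.Prime.dvd_mul hp).1 hd with h | h
      · have h2 := Subgroup.relIndex_ker Q (QuotientGroup.mk' V)
        rw [QuotientGroup.ker_mk', Subgroup.map_comap_eq_self_of_surjective
          (QuotientGroup.mk'_surjective V)] at h2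
        exact hMp (h2 ▸ h)
      · have h2 := Subgroup.relIndex_ker J (QuotientGroup.mk' Q)
        rw [QuotientGroup.ker_mk', Subgroup.map_comap_eq_self_of_surjective
          (QuotientGroup.mk'_surjective Q)] at h2
        exact hM'p (h2 ▸ h)
    refine (Subgroup.eq_bot_iff_forall M').2 fun y hy => ?_
    obtain ⟨x, rfl⟩ := QuotientGroup.mk'_surjective Q y
    exact (QuotientGroup.eq_one_iff x).2 (hJ ⟨x, hy, rfl⟩)

/-- The exponent of `p` in the group order. -/
noncomputable def pExp (p : ℕ) (G : Type*) : ℕ := (Nat.card G).factorization p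

theorem pExp_mul (G : Type*) [Group G] [Finite G] (N : Subgroup G) [N.Normal] :
    pExp p G = pExp p N + pExp p (G ⧸ N) := by
  rw [pExp, pExp, pExp, N.card_eq_card_quotient_mul_card_subgroup,
    Nat.factorization_mul Nat.card_pos.ne' Nat.card_pos.ne', Finsupp.add_apply, add_comm]

/-- The bound for one group. -/
def Bd (p : ℕ) (G : Type u) [Group G] [Finite G] : Prop :=
  3 * Nat.card (ConjClasses G) ≤ (3 * p) ^ pExp p G

/-- Several independent normal `p`-subgroups. -/
theorem multi (hp : p.Prime) {m : ℕ}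
    (IH : ∀ (G : Type u) [Group G] [Finite G] [Group.IsSolvable G] [Nontrivial G],
      Nat.card G < m → NoP' p G → Bd p G) :
    ∀ (t : ℕ) (G : Type u) [Group G] [Finite G] [Group.IsSolvable G], Nat.card G ≤ m →
      (1 ≤ t ∧ (2 ≤ t ∨ Nat.card G < m)) → NoP' p G → ∀ (P₀ : Subgroup G) (V : Fin t → Subgroup G),
      IsPGroup p P₀ → (∀ i, V i ≤ P₀) → (∀ i, (V i).Normal) → (∀ i, V i ≠ ⊥) →
      (∀ i, V i ⊓ ⨆ j, ⨆ (_ : j ≠ i), V j = ⊥) →
      3 ^ t * Nat.card (ConjClasses G) ≤ (3 * p) ^ pExp p G := by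
  intro t
  induction t with
  | zero => intro G _ _ _ _ h; omega
  | succ t iht =>
  intro G _ _ _ hGm ht hno P₀ V hP₀ hVP hVn hV1 hind
  classical
  haveI := Fact.mk hp
  haveI : Nontrivial G := by
    obtain ⟨x, -, hx⟩ := (Subgroup.ne_bot_iff_exists_ne_one.1 (hV1 0)).elim fun x hx =>
      (⟨(x : G), trivial, fun h => hx (Subtype.ext h)⟩ : ∃ x : G, True ∧ x ≠ 1)
    exact ⟨⟨x, 1, hx⟩⟩
  by_cases ht0 : t = 0
  · subst ht0
    simpa [Bd] using IH G (by omega) hno
  haveI := hVn 0
  obtain ⟨Q, hQn, hVQ, hQp, hnoQ⟩ := exists_Q hp (V 0)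
  haveI := hQn
  have hWP : (⨆ j : Fin t, V j.succ) ≤ P₀ := iSup_le fun j => hVP _
  have hQW : ∀ x ∈ Q, x ∈ (⨆ j : Fin t, V j.succ) → x = 1 := by
    intro x hxQ hxW
    have hxV : x ∈ V 0 := by
      have h1 : orderOf (QuotientGroup.mk' (V 0) x) ∣ Nat.card (Q.map (QuotientGroup.mk' (V 0))) := by
        rw [← Subgroup.orderOf_mk (H := Q.map (QuotientGroup.mk' (V 0))) (QuotientGroup.mk' (V 0) x) ⟨x, hxQ, rfl⟩]
        exact orderOf_dvd_natCard _
      have h2 := Subgroup.relIndex_ker Q (QuotientGroup.mk' (V 0))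
      rw [QuotientGroup.ker_mk'] at h2
      rw [← h2] at h1
      obtain ⟨k, hk⟩ := hP₀ ⟨x, hWP hxW⟩
      have hk' : x ^ p ^ k = 1 := congrArg Subtype.val hk
      have h3 : orderOf (QuotientGroup.mk' (V 0) x) ∣ p ^ k := by
        refine orderOf_dvd_of_pow_eq_one ?_
        rw [← map_pow, hk', map_one]
      have h4 : Nat.Coprime ((V 0).relIndex Q) (p ^ k) :=
        Nat.Coprime.pow_right _ ((Nat.Prime.coprime_iff_not_dvd hp).2 hQp).symm
      have h5 := Nat.eq_one_of_dvd_coprimes h4 h1 h3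
      rw [orderOf_eq_one_iff] at h5
      exact (QuotientGroup.eq_one_iff x).1 h5
    have h : x ∈ V 0 ⊓ ⨆ j, ⨆ (_ : j ≠ 0), V j := by
      refine Subgroup.mem_inf.2 ⟨hxV, ?_⟩
      exact (show (⨆ j : Fin t, V j.succ) ≤ ⨆ j, ⨆ (_ : j ≠ 0), V j from iSup_le fun j =>
        le_iSup₂_of_le (f := fun i (_ : i ≠ (0 : Fin (t + 1))) => V i) j.succ (Fin.succ_ne_zero j)
          le_rfl) hxW
    rwa [hind 0, Subgroup.mem_bot] at h
  have hne : Q ≠ ⊤ := by
    intro h
    obtain ⟨j⟩ : Nonempty (Fin t) := Fin.pos_iff_nonempty.1 (Nat.pos_of_ne_zero ht0)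
    refine hV1 j.succ ((Subgroup.eq_bot_iff_forall _).2 fun x hx => hQW x (h ▸ Subgroup.mem_top x) ?_)
    exact le_iSup (fun j : Fin t => V j.succ) j hx
  have hQm : Nat.card Q < m := lt_of_lt_of_le (lt_of_le_of_ne (Subgroup.card_le_card_group Q)
    fun h => hne (Subgroup.eq_top_of_card_eq Q h)) hGm
  have hQ0 : Q ≠ ⊥ := fun h => hV1 0 (le_bot_iff.1 (h ▸ hVQ))
  haveI : Nontrivial Q := (Subgroup.nontrivial_iff_ne_bot Q).2 hQ0
  have hbQ : Bd p Q := IH Q hQm (noP_normal hp hno Q)
  let mk := QuotientGroup.mk' Q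
  have hGQm : Nat.card (G ⧸ Q) < m := by
    refine lt_of_lt_of_le ?_ hGm
    rw [Subgroup.card_eq_card_quotient_mul_card_subgroup Q]
    exact lt_mul_of_one_lt_right Nat.card_pos ((Subgroup.one_lt_card_iff_ne_bot Q).2 hQ0)
  have hrec := iht (G ⧸ Q) hGQm.le ⟨Nat.pos_of_ne_zero ht0, Or.inr hGQm⟩ hnoQ (P₀.map mk)
    (fun j => (V j.succ).map mk) (hP₀.map mk) (fun j => Subgroup.map_mono (hVP _))
    (fun j => (hVn _).map mk (QuotientGroup.mk'_surjective Q))
    (fun j h => hV1 j.succ ((Subgroup.eq_bot_iff_forall _).2 fun x hx => hQW x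
      ((QuotientGroup.eq_one_iff x).1 (by
        have : mk x ∈ (V j.succ).map mk := ⟨x, hx, rfl⟩
        rwa [h, Subgroup.mem_bot] at this)) (le_iSup (fun j : Fin t => V j.succ) j hx)))
    (fun j => by
      refine (Subgroup.eq_bot_iff_forall _).2 fun y hy => ?_
      obtain ⟨⟨a, ha, rfl⟩, hy2⟩ := hy
      simp only [← Subgroup.map_iSup] at hy2
      obtain ⟨b, hb, hab⟩ := hy2
      have hb' : b ∈ (⨆ i : Fin t, V i.succ) :=
        iSup_le (fun i => iSup_le fun _ => le_iSup (fun i : Fin t => V i.succ) i) hb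
      have hba : b⁻¹ * a = 1 := hQW _ ((QuotientGroup.eq_one_iff _).1 (by
        show mk (b⁻¹ * a) = 1
        rw [map_mul, map_inv, hab, inv_mul_cancel]))
        (mul_mem (inv_mem hb') (le_iSup (fun i : Fin t => V i.succ) j ha))
      rw [inv_mul_eq_one] at hba
      subst hba
      have h : b ∈ V j.succ ⊓ ⨆ i, ⨆ (_ : i ≠ j.succ), V i := Subgroup.mem_inf.2 ⟨ha,
        (show (⨆ i : Fin t, ⨆ (_ : i ≠ j), V i.succ) ≤ ⨆ i, ⨆ (_ : i ≠ j.succ), V i from
          iSup_le fun i => iSup_le fun hi => le_iSup₂_of_le (f := fun k (_ : k ≠ j.succ) => V k)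
            i.succ (fun e => hi (Fin.succ_injective _ e)) le_rfl) hb⟩
      rw [hind j.succ, Subgroup.mem_bot] at h
      rw [h, map_one])
  calc 3 ^ (t + 1) * Nat.card (ConjClasses G)
      ≤ 3 ^ (t + 1) * (Nat.card (ConjClasses Q) * Nat.card (ConjClasses (G ⧸ Q))) :=
        Nat.mul_le_mul_left _ (Cfsg.Agent.S4201.result Q)
    _ = (3 * Nat.card (ConjClasses Q)) * (3 ^ t * Nat.card (ConjClasses (G ⧸ Q))) := by ring
    _ ≤ (3 * p) ^ pExp p Q * (3 * p) ^ pExp p (G ⧸ Q) := Nat.mul_le_mul hbQ hrec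
    _ = _ := by rw [← pow_add, ← pExp_mul]

/-- The case of a self-centralising minimal normal Sylow subgroup. -/
theorem coprime_case (hp : p.Prime) {m : ℕ}
    (IH : ∀ (G : Type u) [Group G] [Finite G] [Group.IsSolvable G] [Nontrivial G],
      Nat.card G < m → NoP' p G → Bd p G)
    (G : Type u) [Group G] [Finite G] [Group.IsSolvable G] (hGm : Nat.card G ≤ m) (hno : NoP' p G)
    (V : Subgroup G) [V.Normal] {a : ℕ} (ha : Nat.card V = p ^ a) (ha1 : 1 ≤ a)
    (hexp : ∀ v ∈ V, v ^ p = 1) (hab : ∀ x ∈ V, ∀ y ∈ V, x * y = y * x)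
    (hmin : ∀ K : Subgroup G, K.Normal → K ≤ V → K = ⊥ ∨ K = V) (hidx : ¬ p ∣ V.index)
    (hself : Subgroup.centralizer (V : Set G) = V) : Bd p G := by
  classical
  haveI := Fact.mk hp
  have hpe : pExp p G = a := by
    rw [pExp, ← V.card_mul_index, ha, Nat.factorization_mul (pow_ne_zero _ hp.pos.ne')
      Subgroup.index_ne_zero_of_finite, Finsupp.add_apply, hp.factorization_pow,
      Finsupp.single_eq_same, Nat.factorization_eq_zero_of_not_dvd hidx, add_zero]
  obtain ⟨H, hH⟩ := Subgroup.exists_right_complement'_of_coprime (N := V)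
    (ha ▸ Nat.Coprime.pow_left _ ((Nat.Prime.coprime_iff_not_dvd hp).2 hidx))
  let e : H →* G ⧸ V := (QuotientGroup.mk' V).comp H.subtype
  have he : Function.Bijective e := by
    refine ⟨(injective_iff_map_eq_one e).2 fun h hh => ?_, fun q => ?_⟩
    · have h1 : (h : G) ∈ V ⊓ H := ⟨(QuotientGroup.eq_one_iff (h : G)).1 hh, h.2⟩
      rw [hH.disjoint.eq_bot, Subgroup.mem_bot] at h1
      exact Subtype.ext h1
    · obtain ⟨g, rfl⟩ := QuotientGroup.mk'_surjective V q
      obtain ⟨⟨v, h⟩, hvh⟩ := hH.2 g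
      refine ⟨h, ?_⟩
      show ((h : G) : G ⧸ V) = (g : G ⧸ V)
      rw [← hvh]
      show _ = (((v : G) * (h : G) : G) : G ⧸ V)
      rw [QuotientGroup.mk_mul, (QuotientGroup.eq_one_iff (v : G)).2 v.2, one_mul]
  let π : G →* H := (MulEquiv.ofBijective e he).symm.toMonoidHom.comp (QuotientGroup.mk' V)
  have hπH : ∀ h : H, π h = h := fun h => (MulEquiv.ofBijective e he).symm_apply_apply h
  have hπker : ∀ g, π g = 1 ↔ g ∈ V := fun g => by
    show (MulEquiv.ofBijective e he).symm (g : G ⧸ V) = 1 ↔ _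
    rw [MulEquiv.map_eq_one_iff, QuotientGroup.eq_one_iff]
  have hπs : Function.Surjective π := fun h => ⟨h, hπH h⟩
  have hVN : ∀ K : Subgroup H, V ≤ K.comap π := fun K v hv => by
    rw [Subgroup.mem_comap, (hπker v).2 hv]; exact one_mem K
  letI : CommGroup V := { (inferInstance : Group V) with
    mul_comm := fun x y => Subtype.ext (hab _ x.2 _ y.2) }
  letI : DistribMulAction H (Additive V) :=
    { smul := fun h y => Additive.ofMul (MulAut.conjNormal (h : G) (Additive.toMul y))
      one_smul := fun y => by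
        show Additive.ofMul (MulAut.conjNormal (1 : G) (Additive.toMul y)) = y
        rw [map_one]; rfl
      mul_smul := fun h h' y => by
        show Additive.ofMul (MulAut.conjNormal ((h : G) * h') (Additive.toMul y)) =
          Additive.ofMul (MulAut.conjNormal (h : G) (MulAut.conjNormal (h' : G) (Additive.toMul y)))
        rw [map_mul]; rfl
      smul_zero := fun h => congrArg Additive.ofMul (map_one (MulAut.conjNormal (h : G)))
      smul_add := fun h y y' =>
        congrArg Additive.ofMul (map_mul (MulAut.conjNormal (h : G)) (Additive.toMul y) (Additive.toMul y')) }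
  have hsmul : ∀ (h : H) (y : Additive V), ((Additive.toMul (h • y) : V) : G) =
      (h : G) * (Additive.toMul y : V) * (h : G)⁻¹ := fun h y => MulAut.conjNormal_apply _ _
  have hfix : ∀ (h : H) (y : Additive V), h • y = y ↔
      (h : G) * (Additive.toMul y : V) = (Additive.toMul y : V) * (h : G) := fun h y => by
    constructor
    · intro e'
      have := hsmul h y
      rw [e'] at this
      exact mul_inv_eq_iff_eq_mul.1 this.symm
    · intro e'
      refine Additive.toMul.injective (Subtype.ext ?_)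
      rw [hsmul, e', mul_inv_cancel_right]
  haveI : FaithfulSMul H (Additive V) := ⟨fun {h h'} hh => by
    have h1 : ((h'⁻¹ * h : H) : G) ∈ Subgroup.centralizer (V : Set G) :=
      Subgroup.mem_centralizer_iff.2 fun v hv => ((hfix _ (Additive.ofMul ⟨v, hv⟩)).1 (by
        rw [mul_smul, hh, inv_smul_smul])).symm
    rw [hself] at h1
    have h2 : ((h'⁻¹ * h : H) : G) ∈ V ⊓ H := ⟨h1, (h'⁻¹ * h).2⟩
    rw [hH.disjoint.eq_bot, Subgroup.mem_bot] at h2
    exact (inv_mul_eq_one.1 (Subtype.ext h2 : h'⁻¹ * h = 1)).symm⟩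
  have hirr : Irred H (Additive V) := by
    intro U hU
    let K : Subgroup G := (AddSubgroup.toSubgroup' U).map V.subtype
    have hK : K.Normal := ⟨fun x hx g => by
      obtain ⟨y, hy, rfl⟩ := hx
      obtain ⟨⟨v, h⟩, hvh⟩ := hH.2 g
      refine ⟨Additive.toMul (h • Additive.ofMul y), hU h _ hy, ?_⟩
      show ((Additive.toMul (h • Additive.ofMul y) : V) : G) = g * (y : G) * g⁻¹
      rw [hsmul, ← hvh]
      show (h : G) * (y : G) * (h : G)⁻¹ = (v : G) * h * (y : G) * ((v : G) * h)⁻¹
      have := hab _ v.2 _ ((inferInstance : V.Normal).conj_mem _ y.2 (h : G))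
      rw [mul_inv_rev, show (v : G) * h * (y : G) * ((h : G)⁻¹ * (v : G)⁻¹) =
        (v : G) * ((h : G) * y * (h : G)⁻¹) * (v : G)⁻¹ by group, this, mul_inv_cancel_right]⟩
    rcases hmin K hK (by rintro _ ⟨y, -, rfl⟩; exact y.2) with h | h
    · refine Or.inl ((AddSubgroup.eq_bot_iff_forall U).2 fun y hy => ?_)
      have h2 : ((Additive.toMul y : V) : G) ∈ K := ⟨Additive.toMul y, hy, rfl⟩
      rw [h, Subgroup.mem_bot] at h2
      exact congrArg Additive.ofMul (Subtype.ext h2 : Additive.toMul y = 1)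
    · refine Or.inr (eq_top_iff.2 fun y _ => ?_)
      obtain ⟨z, hz, hzy⟩ : ((Additive.toMul y : V) : G) ∈ K := h.symm ▸ (Additive.toMul y).2
      have hz' : z = Additive.toMul y := Subtype.ext hzy
      rw [hz'] at hz
      exact hz
  haveI : Nontrivial (Additive V) := Finite.one_lt_card_iff_nontrivial.1 (by
    rw [Nat.card_congr Additive.toMul, ha]; exact Nat.one_lt_pow (by omega) hp.one_lt)
  haveI : Group.IsSolvable H := inferInstance
  rw [Bd, hpe]
  have hkN : ∀ (K : Subgroup H) [K.Normal], Nat.card (ConjClasses G) ≤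
      Nat.card (ConjClasses (K.comap π)) * Nat.card (ConjClasses (H ⧸ K)) := fun K _ => by
    let ψ : G →* H ⧸ K := (QuotientGroup.mk' K).comp π
    have hψ : Function.Surjective ψ := (QuotientGroup.mk'_surjective K).comp hπs
    have hker : ψ.ker = K.comap π := by
      ext g
      rw [MonoidHom.mem_ker, Subgroup.mem_comap]
      exact QuotientGroup.eq_one_iff _
    refine (Cfsg.Agent.S4201.result (K.comap π)).trans (Nat.mul_le_mul_left _ (le_of_eq ?_))
    exact k_congr ((QuotientGroup.quotientMulEquivOfEq hker.symm).trans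
      (QuotientGroup.quotientKerEquivOfSurjective ψ hψ))
  rcases blocks_or_prim hirr with ⟨Ω, _, _, B, hΩ⟩ | ⟨⟨P⟩⟩
  · haveI := Fintype.ofFinite Ω
    let K := (MulAction.toPermHom H Ω).ker
    set N := K.comap π with hN
    have hnoN := noP_normal hp hno N
    let img : AddSubgroup (Additive V) → Subgroup G := fun U => (AddSubgroup.toSubgroup' U).map V.subtype
    have himgV : ∀ U, img U ≤ V := fun U => by rintro _ ⟨y, -, rfl⟩; exact y.2
    have himgN : ∀ U, img U ≤ N := fun U => (himgV U).trans (hVN K)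
    have hconj : ∀ i, ∀ g ∈ N, ∀ x ∈ img (B.blk i), g * x * g⁻¹ ∈ img (B.blk i) := by
      rintro i g hg _ ⟨y, hy, rfl⟩
      have hst : π g ∈ MulAction.stabilizer H i :=
        MulAction.mem_stabilizer_iff.2 (Equiv.ext_iff.1 hg i)
      refine ⟨Additive.toMul ((π g) • Additive.ofMul y), B.smul_mem ⟨π g, hst⟩ hy, ?_⟩
      show ((Additive.toMul ((π g) • Additive.ofMul y) : V) : G) = g * (y : G) * g⁻¹
      rw [hsmul]
      have hv : g * (π g : G)⁻¹ ∈ V := by
        rw [← hπker, map_mul, map_inv, hπH, mul_inv_cancel]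
      have := hab _ hv _ ((inferInstance : V.Normal).conj_mem _ y.2 (π g : G))
      show (π g : G) * (y : G) * (π g : G)⁻¹ = _
      rw [show g * (y : G) * g⁻¹ = g * (π g : G)⁻¹ * ((π g : G) * y * (π g : G)⁻¹) *
        (g * (π g : G)⁻¹)⁻¹ by group, this, mul_inv_cancel_right]
    let eΩ : Fin (Fintype.card Ω) ≃ Ω := (Fintype.equivFin Ω).symm
    have hmulti := multi hp IH (Fintype.card Ω) N ((Subgroup.card_le_card_group N).trans hGm)
      ⟨by rw [← Nat.card_eq_fintype_card]; omega, Or.inl (by rw [← Nat.card_eq_fintype_card]; omega)⟩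
      hnoN (V.subgroupOf N) (fun i => (img (B.blk (eΩ i))).subgroupOf N)
      ((IsPGroup.of_card ha).of_equiv (Subgroup.subgroupOfEquivOfLe (hVN K)).symm)
      (fun i => Subgroup.comap_mono (himgV _))
      (fun i => ⟨fun x hx g => hconj _ g g.2 _ hx⟩)
      (fun i h => by
        obtain ⟨x, hx⟩ := B.ne (eΩ i)
        have hm : ((Additive.toMul (B.π (eΩ i) x) : V) : G) ∈ img (B.blk (eΩ i)) :=
          ⟨_, ⟨x, rfl⟩, rfl⟩
        have h1 : (⟨_, himgN _ hm⟩ : N) ∈ (img (B.blk (eΩ i))).subgroupOf N := hm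
        rw [h, Subgroup.mem_bot] at h1
        exact hx (congrArg Additive.ofMul (Subtype.ext (congrArg (fun z : N => (z : G)) h1 :) :
          Additive.toMul (B.π (eΩ i) x) = 1)))
      (fun i => by
        have hle : (⨆ j, ⨆ (_ : j ≠ i), (img (B.blk (eΩ j))).subgroupOf N) ≤
            (img (B.π (eΩ i)).ker).subgroupOf N := by
          refine iSup_le fun j => iSup_le fun hji => Subgroup.comap_mono ?_
          rintro _ ⟨y, ⟨z, hz⟩, rfl⟩
          refine ⟨y, ?_, rfl⟩
          show B.π (eΩ i) (Additive.ofMul y) = 0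
          rw [show (Additive.ofMul y : Additive V) = B.π (eΩ j) z from hz.symm]
          exact B.orth _ _ (fun e => hji (eΩ.injective e).symm) z
        refine (Subgroup.eq_bot_iff_forall _).2 fun x hx => ?_
        obtain ⟨y, hy, hyx⟩ := hx.1
        obtain ⟨y', hy', hyx'⟩ := hle hx.2
        have hyy : y' = y := Subtype.ext (hyx'.trans hyx.symm)
        subst hyy
        have h0 : (Additive.ofMul y' : Additive V) = 0 := by
          rw [← B.mem_blk hy]; exact hy'
        have h1 : y' = 1 := congrArg Additive.toMul h0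
        subst h1
        exact Subtype.ext hyx.symm)
    have hpN : pExp p N = a := by
      rw [pExp, ← (V.subgroupOf N).card_mul_index,
        Nat.card_congr (Subgroup.subgroupOfEquivOfLe (hVN K)).toEquiv, ha,
        Nat.factorization_mul (pow_ne_zero _ hp.pos.ne') Subgroup.index_ne_zero_of_finite,
        Finsupp.add_apply, hp.factorization_pow, Finsupp.single_eq_same]
      have h0 : (V.subgroupOf N).index.factorization p = 0 :=
        Nat.factorization_eq_zero_of_not_dvd fun h => hidx (h.trans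
          (Dvd.intro _ (Subgroup.relIndex_mul_index (hVN K))))
      rw [h0, add_zero]
    rw [hpN] at hmulti
    haveI : Group.IsSolvable (MulAction.toPermHom H Ω).range :=
      Group.isSolvable_of_surjective (MulAction.toPermHom H Ω).rangeRestrict_surjective
    have hperm : Nat.card (ConjClasses (H ⧸ K)) * 3 ≤ 3 ^ Fintype.card Ω := by
      rw [k_congr (QuotientGroup.quotientKerEquivRange _)]
      have h1 := card_solvable_perm_le (G := (MulAction.toPermHom H Ω).range) (Ω := Ω)
      rw [Nat.card_eq_fintype_card (α := Ω)] at h1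
      have h2 : 1 ≤ Fintype.card Ω := by rw [← Nat.card_eq_fintype_card]; omega
      calc _ ≤ 3 ^ (Fintype.card Ω - 1) * 3 :=
            Nat.mul_le_mul_right _ ((Nat.card_le_card_of_surjective _ ConjClasses.mk_surjective).trans h1)
        _ = _ := by rw [← pow_succ, Nat.sub_add_cancel h2]
    calc 3 * Nat.card (ConjClasses G)
        ≤ 3 * (Nat.card (ConjClasses N) * Nat.card (ConjClasses (H ⧸ K))) :=
          Nat.mul_le_mul_left _ (hkN K)
      _ = Nat.card (ConjClasses N) * (Nat.card (ConjClasses (H ⧸ K)) * 3) := by ring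
      _ ≤ Nat.card (ConjClasses N) * 3 ^ Fintype.card Ω := Nat.mul_le_mul_left _ hperm
      _ ≤ _ := (mul_comm _ _).trans_le hmulti
  · obtain ⟨S⟩ := exists_symp P
    obtain ⟨f, hf, haf, hf1, hl⟩ := field_data P hp
      (by rw [Nat.card_congr Additive.toMul, ha] : Nat.card (Additive V) = p ^ a)
    haveI := S.normal
    set N := S.E.comap π with hN
    have hVN' := hVN S.E
    -- the abelian stabiliser criterion
    have hN1 : Nat.card (ConjClasses N) ≤ p ^ a := by
      obtain ⟨w, hw⟩ := exists_ne (0 : Additive V)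
      rw [← ha, ← Nat.card_congr (Subgroup.subgroupOfEquivOfLe hVN').toEquiv]
      have hEN : S.E.map H.subtype ≤ N := by
        rintro _ ⟨h, hh, rfl⟩
        rw [Subgroup.mem_comap]
        exact (hπH h).symm ▸ hh
      refine Cfsg.Agent.S4958.result p (V.subgroupOf N) (fun v hv => Subtype.ext (hexp _ hv))
        (fun h => hidx (h.trans (Dvd.intro _ (Subgroup.relIndex_mul_index hVN')))) ?_
        ((S.E.map H.subtype).subgroupOf N) ?_ ⟨_, hVN' (Additive.toMul w).2⟩ (Additive.toMul w).2 ?_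
      · ext x
        constructor
        · intro hx
          show (x : G) ∈ V
          rw [← hself, Subgroup.mem_centralizer_iff]
          intro v hv
          exact congrArg Subtype.val (Subgroup.mem_centralizer_iff.1 hx ⟨v, hVN' hv⟩ hv)
        · intro hx
          rw [Subgroup.mem_centralizer_iff]
          intro v hv
          exact Subtype.ext (hab _ hv _ hx)
      · have hdis : Disjoint (V.subgroupOf N) ((S.E.map H.subtype).subgroupOf N) := by
          rw [disjoint_iff]
          refine (Subgroup.eq_bot_iff_forall _).2 fun x hx => Subtype.ext ?_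
          obtain ⟨h, -, hh⟩ := hx.2
          have hh' : (x : G) = h := hh.symm
          have h1 : (x : G) ∈ V ⊓ H := ⟨hx.1, by rw [hh']; exact h.2⟩
          rwa [hH.disjoint.eq_bot, Subgroup.mem_bot] at h1
        refine Subgroup.isComplement'_of_disjoint_and_mul_eq_univ hdis ?_
        refine Set.eq_univ_of_forall fun x => ?_
        refine ⟨⟨(x : G) * (π x : G)⁻¹, hVN' ?_⟩, ?_, ⟨(π x : G), hEN ⟨π x, x.2, rfl⟩⟩, ⟨π x, x.2, rfl⟩,
          Subtype.ext (inv_mul_cancel_right (x : G) (π x : G))⟩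
        · rw [← hπker, map_mul, map_inv, hπH, mul_inv_cancel]
        · show (x : G) * (π x : G)⁻¹ ∈ V
          rw [← hπker, map_mul, map_inv, hπH, mul_inv_cancel]
      · rintro x ⟨⟨h, hh, hhx⟩, hxc⟩ y ⟨⟨h', hh', hhy⟩, hyc⟩
        refine Subtype.ext ?_
        show (x : G) * y = y * x
        rw [show (x : G) = h from hhx.symm, show (y : G) = h' from hhy.symm]
        have hf' : ∀ (k : H) (z : N), H.subtype k = (z : G) →
            z * ⟨_, hVN' (Additive.toMul w).2⟩ = ⟨_, hVN' (Additive.toMul w).2⟩ * z → k • w = w := by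
          intro k z hkz hz
          refine (hfix k w).2 ?_
          have := congrArg Subtype.val hz
          rw [show (k : G) = z from hkz]
          exact this
        have h1 := hf' h x hhx (Subgroup.mem_centralizer_singleton_iff.1 hxc)
        have h2 := hf' h' y hhy (Subgroup.mem_centralizer_singleton_iff.1 hyc)
        have hc : h * h' * h⁻¹ * h'⁻¹ = 1 := by
          refine Prim.fixed_eq_one P (S.comm_mem h hh h' hh') hw ?_
          rw [mul_smul, mul_smul, mul_smul, inv_smul_eq_iff.2 h2.symm,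
            inv_smul_eq_iff.2 h1.symm, h2, h1]
        have hcc : h * h' = h' * h := mul_inv_eq_iff_eq_mul.1 (mul_inv_eq_one.1 hc)
        exact congrArg Subtype.val hcc
    -- the quotient
    let mkE := QuotientGroup.mk' S.E
    have hY : Nat.card (ConjClasses (H ⧸ S.E)) ≤ f * Nat.card (ConjClasses (secHom S).range) := by
      refine (Cfsg.Agent.S4200.result (P.C.map mkE)).2.1.trans (Nat.mul_le_mul ?_ (le_of_eq ?_))
      · rw [Subgroup.index_map_eq _ (QuotientGroup.mk'_surjective _) (by
          rw [QuotientGroup.ker_mk']; exact S.le_C)]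
        exact hl
      · let ψ : P.C →* P.C.map mkE := mkE.subgroupMap P.C
        have hψ : Function.Surjective ψ := MonoidHom.subgroupMap_surjective _ _
        have hker : ψ.ker = (secHom S).ker := by
          rw [ker_secHom]
          ext c
          rw [MonoidHom.mem_ker, Subgroup.mem_subgroupOf, ← QuotientGroup.eq_one_iff (c : H)]
          exact ⟨fun h => congrArg Subtype.val h, fun h => Subtype.ext h⟩
        exact k_congr (((QuotientGroup.quotientKerEquivOfSurjective ψ hψ).symm.trans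
          (QuotientGroup.quotientMulEquivOfEq hker)).trans (QuotientGroup.quotientKerEquivRange _))
    calc 3 * Nat.card (ConjClasses G)
        ≤ 3 * (p ^ a * (f * Nat.card (ConjClasses (secHom S).range))) :=
          Nat.mul_le_mul_left _ ((hkN S.E).trans (Nat.mul_le_mul hN1 hY))
      _ = p ^ a * (3 * f * Nat.card (ConjClasses (secHom S).range)) := by ring
      _ ≤ p ^ a * 3 ^ (f * dimK P) := Nat.mul_le_mul_left _ (section_k S hf1 hl)
      _ = _ := by rw [mul_pow, ← haf, mul_comm]

/-- The class number bound. -/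
theorem class_le (hp : p.Prime) : ∀ (G : Type u) [Group G] [Finite G] [Group.IsSolvable G]
    [Nontrivial G], NoP' p G → Bd p G := by
  suffices h : ∀ (m : ℕ) (G : Type u) [Group G] [Finite G] [Group.IsSolvable G] [Nontrivial G],
      Nat.card G = m → NoP' p G → Bd p G by
    intro G _ _ _ _ hno
    exact h _ G rfl hno
  intro m
  induction m using Nat.strong_induction_on with
  | _ m IH =>
  intro G _ _ _ _ hm hno
  classical
  haveI := Fact.mk hp
  obtain ⟨V, ⟨hVn, hV1⟩, hmin'⟩ := Set.exists_min_image {N : Subgroup G | N.Normal ∧ N ≠ ⊥}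
    (fun N : Subgroup G => Nat.card N) (Set.toFinite _) ⟨⊤, inferInstance, top_ne_bot⟩
  haveI := hVn
  have hmin : ∀ K : Subgroup G, K.Normal → K ≤ V → K = ⊥ ∨ K = V := fun K hK hKV =>
    or_iff_not_imp_left.2 fun h => Subgroup.eq_of_le_of_card_ge hKV (hmin' K ⟨hK, h⟩)
  have hab : ∀ x ∈ V, ∀ y ∈ V, x * y = y * x := by
    rcases hmin ⁅V, V⁆ inferInstance (Subgroup.commutator_le_self V) with h | h
    · intro x hx y hy
      have h2 := Subgroup.commutator_mem_commutator hx hy
      rw [h, Subgroup.mem_bot] at h2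
      exact commutatorElement_eq_one_iff_mul_comm.1 h2
    · exfalso
      obtain ⟨d, hd⟩ := (Group.isSolvable_def G).1 inferInstance
      have : ∀ i, V ≤ derivedSeries G i := by
        intro i
        induction i with
        | zero => rw [derivedSeries_zero]; exact le_top
        | succ i ih => rw [derivedSeries_succ, ← h]; exact Subgroup.commutator_mono ih ih
      exact hV1 (le_bot_iff.1 (hd ▸ this d))
  have hpV : p ∣ Nat.card V := by
    by_contra h
    exact hV1 (hno V hVn h)
  let O : Subgroup G :=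
    { carrier := {x | x ∈ V ∧ x ^ p = 1}
      one_mem' := ⟨one_mem _, one_pow _⟩
      mul_mem' := fun {x y} hx hy => ⟨mul_mem hx.1 hy.1, by
        rw [(show Commute x y from hab x hx.1 y hy.1).mul_pow, hx.2, hy.2, one_mul]⟩
      inv_mem' := fun {x} hx => ⟨inv_mem hx.1, by rw [inv_pow, hx.2, inv_one]⟩ }
  have hexp : ∀ v ∈ V, v ^ p = 1 := by
    have hOn : O.Normal := ⟨fun x hx g => ⟨hVn.conj_mem x hx.1 g, by rw [conj_pow, hx.2]; group⟩⟩
    obtain ⟨x, hx⟩ := exists_prime_orderOf_dvd_card' p hpV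
    have hO : O = V := (hmin O hOn fun y hy => hy.1).resolve_left fun e => by
      have hm' : (x : G) ∈ O := ⟨x.2, by
        have := pow_orderOf_eq_one x
        rw [hx] at this
        exact congrArg Subtype.val this⟩
      rw [e, Subgroup.mem_bot] at hm'
      rw [show x = 1 from Subtype.ext hm', orderOf_one] at hx
      exact hp.one_lt.ne hx
    exact fun v hv => (hO.symm ▸ hv : v ∈ O).2
  obtain ⟨a, ha⟩ := IsPGroup.iff_card.1 (show IsPGroup p V from fun v => ⟨1, Subtype.ext (by
    rw [Subgroup.coe_pow, pow_one]; exact hexp _ v.2)⟩)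
  have ha1 : 1 ≤ a := by
    rcases Nat.eq_zero_or_pos a with rfl | h
    · exact absurd (Subgroup.card_eq_one.1 (by rw [ha, pow_zero])) hV1
    · exact h
  obtain ⟨Q, hQn, hVQ, hQp, hnoQ⟩ := exists_Q hp V
  haveI := hQn
  by_cases hQ : Q = ⊤
  · subst hQ
    rw [Subgroup.relIndex_top_right] at hQp
    have hVC : V ≤ Subgroup.centralizer (V : Set G) := fun v hv =>
      Subgroup.mem_centralizer_iff.2 fun w hw => hab w hw v hv
    refine coprime_case hp (fun G' _ _ _ _ h => IH _ (hm ▸ h) G' rfl) G le_rfl hno V ha ha1 hexp hab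
      hmin hQp ?_
    refine le_antisymm ?_ hVC
    -- a complement in the centraliser would be a normal `p'`-subgroup
    set C := Subgroup.centralizer (V : Set G)
    have hco : Nat.Coprime (Nat.card (V.subgroupOf C)) (V.subgroupOf C).index := by
      rw [Nat.card_congr (Subgroup.subgroupOfEquivOfLe hVC).toEquiv, ha]
      refine Nat.Coprime.pow_left _ ((Nat.Prime.coprime_iff_not_dvd hp).2 fun h => hQp ?_)
      exact h.trans (Dvd.intro _ (Subgroup.relIndex_mul_index hVC))
    obtain ⟨D, hD⟩ := Subgroup.exists_right_complement'_of_coprime hco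
    have hDn : D.Normal := ⟨fun d hd g => by
      obtain ⟨⟨v, d'⟩, hvd⟩ := hD.2 g
      rw [← hvd]
      show (v : C) * d' * d * ((v : C) * d')⁻¹ ∈ D
      have hc : (v : C) * ((d' : C) * d * (d' : C)⁻¹) = ((d' : C) * d * (d' : C)⁻¹) * v :=
        Subtype.ext (Subgroup.mem_centralizer_iff.1 ((d' : C) * d * (d' : C)⁻¹).2 _ v.2)
      rw [show (v : C) * d' * d * ((v : C) * d')⁻¹ =
        (v : C) * ((d' : C) * d * (d' : C)⁻¹) * (v : C)⁻¹ by group, hc, mul_inv_cancel_right]
      exact mul_mem (mul_mem d'.2 hd) (inv_mem d'.2)⟩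
    have hDp : ¬ p ∣ Nat.card D := by
      intro hd
      have h2 : p ∣ (V.subgroupOf C).index := by
        rwa [hD.symm.index_eq_card]
      exact hQp (h2.trans (Dvd.intro _ (Subgroup.relIndex_mul_index hVC)))
    have hbot := noP_normal hp hno C D hDn hDp
    intro x hx
    have : (⟨x, hx⟩ : C) ∈ V.subgroupOf C := by
      rw [hbot, Subgroup.isComplement'_bot_right] at hD
      rw [hD]
      exact Subgroup.mem_top _
    exact this
  have hQ0 : Q ≠ ⊥ := fun h => hV1 (le_bot_iff.1 (h ▸ hVQ))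
  haveI : Nontrivial Q := (Subgroup.nontrivial_iff_ne_bot Q).2 hQ0
  have hQm : Nat.card Q < m := hm ▸ lt_of_le_of_ne (Subgroup.card_le_card_group Q)
    fun h => hQ (Subgroup.eq_top_of_card_eq Q h)
  have h1 : Bd p Q := IH _ hQm Q rfl (noP_normal hp hno Q)
  haveI : Nontrivial (G ⧸ Q) := Finite.one_lt_card_iff_nontrivial.1 (by
    rw [← Subgroup.index_eq_card]; exact Subgroup.one_lt_index_of_ne_top hQ)
  have hGQm : Nat.card (G ⧸ Q) < m := by
    rw [← hm, Subgroup.card_eq_card_quotient_mul_card_subgroup Q]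
    exact lt_mul_of_one_lt_right Nat.card_pos ((Subgroup.one_lt_card_iff_ne_bot Q).2 hQ0)
  have h2 : Bd p (G ⧸ Q) := IH _ hGQm (G ⧸ Q) rfl hnoQ
  unfold Bd at *
  rw [pExp_mul G Q, pow_add]
  calc 3 * Nat.card (ConjClasses G) ≤ 3 * (Nat.card (ConjClasses Q) * Nat.card (ConjClasses (G ⧸ Q))) :=
        Nat.mul_le_mul_left _ (Cfsg.Agent.S4201.result Q)
    _ ≤ (3 * Nat.card (ConjClasses Q)) * (3 * Nat.card (ConjClasses (G ⧸ Q))) := by
        rw [← mul_assoc]
        exact Nat.mul_le_mul_left _ (Nat.le_mul_of_pos_left _ (by norm_num))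
    _ ≤ _ := Nat.mul_le_mul h1 h2

end Cfsg.Agent.KBSolv75
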