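import Mathlib
import Cfsg.Agent.S0867
import Cfsg.Agent.Lib.CharGallagher
import Cfsg.Agent.Lib.CharKernel
import Cfsg.Agent.Lib.CharCliffordCorr
import Cfsg.Agent.Lib.H74ThreeDegBasic
import Cfsg.Agent.Lib.CharDet73
import Cfsg.Agent.Lib.GlaubermanNormalSylow
import Cfsg.Agent.Lib.GlaubermanCyclic

/-!
Tools for solvable groups without divisibility among the character degrees: fixed characters
under automorphisms, canonical coprime extensions, and the counting lemmas.
-/

set_option autoImplicit false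
open Cfsg

namespace Cfsg.Agent.NonDiv9

open Cfsg.Agent.CharBasic Cfsg.Agent.CharBasicOrth Cfsg.Agent.CharBasicDecomp Cfsg.Agent.CharBasicLinear
open Cfsg.Agent.CharInduced
open scoped commutatorElement

universe u

variable {G : Type u} [Group G]

/-- The automorphism `α` fixes the function `θ` on the subgroup `A`. -/
def Fix {A : Subgroup G} (α : MulAut G) (θ : A → ℂ) : Prop :=
  ∀ a b : A, (b : G) = α a → θ b = θ a

theorem Fix.mul {A : Subgroup G} {α β : MulAut G} {θ : A → ℂ} (hβA : ∀ a ∈ A, β a ∈ A)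
    (hα : Fix α θ) (hβ : Fix β θ) : Fix (α * β) θ := fun a b h =>
  (hα ⟨β a, hβA a a.2⟩ b h).trans (hβ a _ rfl)

theorem fix_conj_iff {A : Subgroup G} [A.Normal] {θ : A → ℂ} {g : G} :
    Fix (MulAut.conj g) θ ↔ g ∈ inertia A θ := by
  rw [mem_inertia_iff]
  exact ⟨fun h n => h n _ rfl, fun h a b e =>
    (congrArg θ (Subtype.ext (by rw [e]; rfl))).trans (h a)⟩

/-- A character all of whose commutators lie in its kernel is linear. -/
theorem apply_one_of_comm_ker [Finite G] {χ : G → ℂ} (hχ : IsIrrCharacter G χ)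
    (h : ∀ a b : G, χ ⁅a, b⁆ = χ 1) : χ 1 = 1 := by
  let x : IrrCharacter G := ⟨χ, hχ⟩
  haveI := CharKernel.irrKer_normal x
  have hle : commutator G ≤ CharKernel.irrKer x := by
    rw [_root_.commutator_def, Subgroup.commutator_le]
    exact fun a _ b _ => h a b
  obtain ⟨ψ, hψ⟩ := CharKernel.exists_quot_irr (commutator G) x fun n hn => hle hn
  have hc : ∀ a b : G ⧸ commutator G, a * b = b * a := by
    intro a b
    induction a using QuotientGroup.induction_on with
    | H a =>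
      induction b using QuotientGroup.induction_on with
      | H b =>
        rw [← commutatorElement_eq_one_iff_mul_comm, ← QuotientGroup.mk'_apply,
          ← QuotientGroup.mk'_apply, ← map_commutatorElement]
        exact (QuotientGroup.eq_one_iff _).2
          (Subgroup.commutator_mem_commutator (Subgroup.mem_top a) (Subgroup.mem_top b))
  have h1 := hψ 1
  rw [QuotientGroup.mk_one, apply_one_eq_one_of_comm hc ψ.2] at h1
  exact h1

/-- An element of scalar absolute value acts by that scalar. -/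
theorem mul_apply_of_scalar [Finite G] {χ : G → ℂ} (hχ : IsIrrCharacter G χ) {z : G} {c : ℂ}
    (hc : ‖c‖ = 1) (h : χ z = χ 1 * c) (g : G) : χ (z * g) = c * χ g := by
  obtain ⟨n, ρ, hρ, rfl⟩ := hχ
  have hn : ρ.character 1 = (Module.finrank ℂ (Fin n → ℂ) : ℂ) := Representation.char_one ρ
  obtain ⟨ω, hω, hωc⟩ := exists_scalar_of_norm_eq ρ z (by
    rw [h, norm_mul, hc, mul_one, hn, Complex.norm_natCast])
  have hne : (Module.finrank ℂ (Fin n → ℂ) : ℂ) ≠ 0 := hn ▸ isIrrCharacter_apply_one_ne_zero ⟨n, ρ, hρ, rfl⟩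
  rw [hωc, hn] at h
  have he : ω = c := mul_left_cancel₀ hne h
  subst he
  show LinearMap.trace ℂ _ (ρ (z * g)) = ω * LinearMap.trace ℂ _ (ρ g)
  rw [map_mul, hω, Module.End.mul_eq_comp, LinearMap.smul_comp, LinearMap.id_comp, map_smul, smul_eq_mul]

/-- An element central modulo the kernel does not vanish. -/
theorem ne_zero_of_comm_ker [Finite G] {χ : G → ℂ} (hχ : IsIrrCharacter G χ) {x : G}
    (h : ∀ y : G, χ ⁅x, y⁆ = χ 1) : χ x ≠ 0 := by
  obtain ⟨n, ρ, hρ, rfl⟩ := hχ
  haveI := hρ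
  have hx : ∀ y : G, ρ x * ρ y = ρ y * ρ x := fun y => by
    have h1 : ρ ⁅x, y⁆ = 1 := (mem_charKer_rep ρ).1 (show ⁅x, y⁆ ∈ charKer _ _ from h y)
    rw [← map_mul, ← map_mul, show x * y = ⁅x, y⁆ * (y * x) by rw [commutatorElement_def]; group,
      map_mul, h1, one_mul]
  obtain ⟨c, hc, htr⟩ := exists_scalar_of_commute ρ (ρ x) fun g v => by
    rw [← Module.End.mul_apply, hx, Module.End.mul_apply]
  intro h0
  have h0' : (Module.finrank ℂ (Fin n → ℂ) : ℂ) * c = 0 := htr ▸ h0
  have hne : (Module.finrank ℂ (Fin n → ℂ) : ℂ) ≠ 0 :=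
    Representation.char_one ρ ▸ isIrrCharacter_apply_one_ne_zero ⟨n, ρ, hρ, rfl⟩
  rw [(mul_eq_zero.1 h0').resolve_left hne, zero_smul] at hc
  have h2 : ρ x * ρ x⁻¹ = 1 := by rw [← map_mul, mul_inv_cancel, map_one]
  rw [hc, zero_mul] at h2
  refine hne ?_
  have h3 := congrArg (LinearMap.trace ℂ (Fin n → ℂ)) h2
  rw [map_zero, LinearMap.trace_one] at h3
  exact h3.symm

/-- A linear character separating an element from a subgroup with abelian quotient, on a subgroup. -/
theorem twist_injective [Finite G] (A T : Subgroup G) [A.Normal] (hAT : A ≤ T) {ψ : T → ℂ}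
    (hψ : IsIrrCharacter T ψ) {θ : A → ℂ} (hθ : IsIrrCharacter A θ)
    (hres : ∀ a : A, ψ ⟨a, hAT a.2⟩ = θ a) (μ ν : T →* ℂˣ)
    (hμ : ∀ a : T, (a : G) ∈ A → μ a = 1) (hν : ∀ a : T, (a : G) ∈ A → ν a = 1)
    (h : ∀ t : T, ψ t * (μ t : ℂ) = ψ t * (ν t : ℂ)) : μ = ν := by
  classical
  have := Fintype.ofFinite G
  have := Fintype.ofFinite T
  have := Fintype.ofFinite (A.subgroupOf T)
  have hb := (CharGallagher.bijOn_one (A.subgroupOf T)
    (θ := toSubgroupOf θ) (isIrrCharacter_toSubgroupOf A T hAT hθ) hψ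
    (fun a => by
      rw [toSubgroupOf_eq_comp A T hAT]
      exact hres (Subgroup.subgroupOfEquivOfLe hAT a))).injOn
  have e : (fun t : T => (μ t : ℂ)) = fun t : T => (ν t : ℂ) :=
    hb ⟨isIrrCharacter_linear μ, fun a => by simp [hμ a a.2]⟩
      ⟨isIrrCharacter_linear ν, fun a => by simp [hν a a.2]⟩ (funext fun t => by
        show (μ t : ℂ) * ψ t = (ν t : ℂ) * ψ t
        rw [mul_comm, h, mul_comm])
  exact MonoidHom.ext fun t => Units.ext (congrFun e t)

/-- The canonical coprime extension and its uniqueness under automorphisms. -/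
theorem exists_ext [Finite G] (A T : Subgroup G) [A.Normal] (hAT : A ≤ T) {θ : A → ℂ}
    (hθ : IsIrrCharacter A θ) {d : ℕ} (hd : θ 1 = d) (hT : T ≤ inertia A θ)
    (hcop : (A.relIndex T).Coprime (Cfsg.detOrder θ * d)) :
    ∃ ψ : T → ℂ, IsIrrCharacter T ψ ∧ (∀ a : A, ψ ⟨a, hAT a.2⟩ = θ a) ∧
      ∀ e : T ≃* T, (∀ a : A, ψ (e ⟨a, hAT a.2⟩) = θ a) → ∀ t, ψ (e t) = ψ t := by
  classical
  have := Fintype.ofFinite G
  let φ := Subgroup.subgroupOfEquivOfLe hAT
  have hθ' : IsIrrCharacter (A.subgroupOf T) (toSubgroupOf θ) := isIrrCharacter_toSubgroupOf A T hAT hθ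
  have hto : (toSubgroupOf θ : A.subgroupOf T → ℂ) = θ ∘ φ.toMonoidHom := toSubgroupOf_eq_comp A T hAT θ
  have hdet : Cfsg.detOrder (toSubgroupOf θ : A.subgroupOf T → ℂ) ∣ Cfsg.detOrder θ := by
    rw [Cfsg.detOrder, Cfsg.detOrder, orderOf_dvd_iff_pow_eq_one, hto]
    funext x
    have h1 := congrFun (pow_orderOf_eq_one (Cfsg.detChar θ)) (φ x)
    rw [Pi.pow_apply] at h1 ⊢
    rw [show Cfsg.detChar (θ ∘ φ.toMonoidHom) x = Cfsg.detChar θ (φ.toMonoidHom x) from
      CharDet73.detChar_comap φ.toMonoidHom (isCharacter_of_isIrrCharacter hθ) x]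
    exact h1
  obtain ⟨ψ, ⟨hψ, hres, hord⟩, huniq⟩ := S0867.result (A.subgroupOf T) (toSubgroupOf θ) hθ'
    (fun g n => by
      rw [hto]
      exact ((congrArg θ (Subtype.ext rfl)).trans ((mem_inertia_iff A).1 (hT g.2) (φ n))))
    d (by rw [hto]; simpa using hd)
    (Nat.Coprime.coprime_dvd_right (Nat.mul_dvd_mul_right hdet d) hcop)
  refine ⟨ψ, hψ, fun a => ?_, fun e he => ?_⟩
  · refine (hres ⟨⟨a, hAT a.2⟩, a.2⟩).trans ?_
    rw [hto]; rfl
  · refine congrFun (huniq (fun t => ψ (e t)) (isIrrCharacter_comap e.toMonoidHom e.surjective hψ) (fun n => ?_) ?_)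
    · rw [hto]
      exact he ⟨n.1, n.2⟩
    · refine Nat.Coprime.coprime_dvd_right ?_ hcop
      exact ((GlaubermanNormalSylow.detOrder_comp_dvd e (isCharacter_of_isIrrCharacter hψ)).trans
        (hord ▸ hdet)).trans (dvd_mul_right _ _)

/-- A constituent of the restriction is nonzero along a chain. -/
theorem classInner_res_trans [Fintype G] (A T : Subgroup G) [Fintype A] [Fintype T] (hAT : A ≤ T)
    {χ : G → ℂ} (hχ : IsCharacter G χ) {ψ : T → ℂ} (hψ : IsIrrCharacter T ψ)
    (h : classInner (fun t : T => χ t) ψ ≠ 0) {θ : A → ℂ} (hθ : IsIrrCharacter A θ)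
    (hne : classInner (fun a : A => ψ ⟨a, hAT a.2⟩) θ ≠ 0) :
    classInner (fun a : A => χ a) θ ≠ 0 := by
  have hθc := isCharacter_of_isIrrCharacter hθ
  obtain ⟨d, hd⟩ := classInner_isCharacter (isCharacter_comap (Subgroup.inclusion hAT)
    (isCharacter_sub_constituent (isCharacter_res T hχ) hψ h)) hθc
  obtain ⟨e, he⟩ := classInner_isCharacter (isCharacter_comap (Subgroup.inclusion hAT)
    (isCharacter_of_isIrrCharacter hψ)) hθc
  change classInner (fun a : A => ψ ⟨a, hAT a.2⟩) θ = (e : ℂ) at he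
  change classInner ((fun a : A => χ a) - fun a : A => ψ ⟨a, hAT a.2⟩) θ = (d : ℂ) at hd
  rw [CharInduced.inner_sub_left, he] at hd
  rw [he] at hne
  intro h0
  rw [h0, zero_sub, neg_eq_iff_add_eq_zero] at hd
  have h1 : e + d = 0 := by exact_mod_cast hd
  exact hne (by rw [show e = 0 by omega, Nat.cast_zero])

/-- Clifford: constituents of one restriction are conjugate. -/
theorem exists_conj_eq [Fintype G] (A : Subgroup G) [A.Normal] [Fintype A] {χ : G → ℂ}
    (hχ : IsIrrCharacter G χ) {θ φ : A → ℂ} (hθ : IsIrrCharacter A θ) (hφ : IsIrrCharacter A φ)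
    (h : classInner (fun a : A => χ a) θ ≠ 0) (h' : classInner (fun a : A => χ a) φ ≠ 0) :
    ∃ g : G, conjFun A θ g = φ := by
  by_contra hh
  push Not at hh
  refine h' ?_
  rw [clifford A hχ hθ h, classInner_smul_left, classInner_sum_left, Finset.sum_eq_zero, mul_zero]
  intro ψ hψ
  obtain ⟨g, rfl⟩ := (mem_orbitFin A).1 hψ
  exact classInner_irr_ne (isIrrCharacter_conjFun A hθ g) hφ (hh g)

/-- An action in which all points have one stabilizer. -/
theorem index_dvd_card {X : Type*} [MulAction G X] [Finite G] [Finite X] (S : Subgroup G)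
    (h : ∀ x : X, MulAction.stabilizer G x = S) : S.index ∣ Nat.card X := by
  have := Fintype.ofFinite (Quotient (MulAction.orbitRel G X))
  rw [Nat.card_congr (MulAction.selfEquivSigmaOrbitsQuotientStabilizer G X), Nat.card_sigma]
  refine Finset.dvd_sum fun ω _ => ?_
  rw [show Nat.card (G ⧸ MulAction.stabilizer G ω.out) = (MulAction.stabilizer G ω.out).index from rfl, h]

/-- A cover of the nonidentity elements by few pairwise trivially meeting subgroups. -/
theorem cover_false {ι : Type*} [Fintype ι] (v : ℕ) (hv : 2 ≤ v) (a : ι → ℕ) (ha1 : ∀ i, 1 ≤ a i)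
    (hpair : ∀ i j, i ≠ j → a i * a j ≤ v) (hlt : ∀ i, a i < v)
    (hcov : v - 1 ≤ ∑ i, (a i - 1)) (hd : Fintype.card ι * Fintype.card ι ≤ v) : False := by
  classical
  obtain ⟨v, rfl⟩ : ∃ v', v = v' + 1 := ⟨v - 1, by omega⟩
  rw [Nat.add_sub_cancel] at hcov
  rcases isEmpty_or_nonempty ι with hι | hι
  · simp at hcov; omega
  obtain ⟨i0, -, hmax⟩ := Finset.exists_max_image Finset.univ a ⟨Classical.arbitrary ι, Finset.mem_univ _⟩
  set d := Fintype.card ι with hdd
  obtain ⟨b, hb⟩ : ∃ b, a i0 = b + 1 := ⟨a i0 - 1, by have := ha1 i0; omega⟩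
  by_cases hsq : a i0 * a i0 ≤ v + 1
  · have h1 : ∑ i, (a i - 1) ≤ d * b := by
      refine (Finset.sum_le_sum fun i hi => show a i - 1 ≤ b by have := hmax i hi; omega).trans ?_
      simp [hdd]
    rw [hb] at hsq
    have h2 : v * v ≤ (d * d) * (b * b) := by nlinarith [hcov.trans h1]
    nlinarith [Nat.mul_le_mul_right (b * b) hd]
  · rw [← Finset.add_sum_erase _ _ (Finset.mem_univ i0), hb, Nat.add_sub_cancel] at hcov
    have hbig : d < b + 1 := by
      by_contra hh
      exact hsq (by rw [hb]; nlinarith)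
    have h1 : ∀ i ∈ Finset.univ.erase i0, (b + 1) * (a i - 1) ≤ v - b := fun i hi => by
      have h2 := hpair i0 i (Finset.ne_of_mem_erase hi).symm
      rw [hb] at h2
      have h3 := ha1 i
      obtain ⟨x, hx⟩ : ∃ x, a i = x + 1 := ⟨a i - 1, by omega⟩
      rw [hx, Nat.add_sub_cancel]
      rw [hx, mul_add, mul_one] at h2
      omega
    have h4 := (Finset.mul_sum (Finset.univ.erase i0) (fun i => a i - 1) (b + 1)).le.trans
      (Finset.sum_le_sum h1)
    simp only [Finset.sum_const, Finset.card_erase_of_mem (Finset.mem_univ i0), Finset.card_univ,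
      smul_eq_mul] at h4
    have hbv := hlt i0
    rw [hb] at hbv
    obtain ⟨d', hd'⟩ : ∃ d', d = d' + 1 := ⟨d - 1, by have := Fintype.card_pos (α := ι); omega⟩
    rw [← hdd, hd', Nat.add_sub_cancel] at h4
    generalize (∑ i ∈ Finset.univ.erase i0, (a i - 1)) = s at h4 hcov
    have h5 : (b + 1) * (v - b) ≤ d' * (v - b) := (Nat.mul_le_mul_left _ (by omega)).trans h4
    have := Nat.le_of_mul_le_mul_right h5 (by omega)
    omega

/-- No large number divides both `p ^ n - 1` and `p ^ e - 1` for `e < n`. -/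
theorem gcd_false {p n e d : ℕ} (hp : 2 ≤ p) (he : 0 < e) (hen : e < n) (hdn : d ∣ p ^ n - 1)
    (hde : d ∣ p ^ e - 1) (hd : p ^ n < d * d) : False := by
  have hg : d ∣ p ^ (n.gcd e) - 1 := by
    rw [← Nat.pow_sub_one_gcd_pow_sub_one]; exact Nat.dvd_gcd hdn hde
  set g := n.gcd e with hgd
  have hg0 : 0 < g := Nat.gcd_pos_of_pos_right _ he
  have hge : g ≤ e := Nat.gcd_le_right _ he
  obtain ⟨k, hk⟩ : g ∣ n := Nat.gcd_dvd_left n e
  have h2 : 2 * g ≤ n := by
    rcases k with _ | _ | k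
    · omega
    · omega
    · rw [hk]; nlinarith
  have h3 : p ^ (2 * g) ≤ p ^ n := Nat.pow_le_pow_right (by omega) h2
  have h4 : 1 < p ^ g := Nat.one_lt_pow hg0.ne' hp
  have h5 : d ≤ p ^ g - 1 := Nat.le_of_dvd (by omega) hg
  have h6 : d * d ≤ p ^ g * p ^ g := Nat.mul_le_mul (by omega) (by omega)
  rw [← pow_add, ← two_mul] at h6
  omega

end Cfsg.Agent.NonDiv9
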