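import Mathlib
import Cfsg.Agent.S0886
import Cfsg.Agent.Lib.NonDiv9Tools
import Cfsg.Agent.Lib.BrauerBlocksCovering

/-!
The irreducible characters over an invariant character of a normal subgroup `N` are at most as many
as the conjugacy classes of the quotient by `N`.
-/

set_option autoImplicit false
set_option linter.style.haveILetI false

namespace Cfsg.Agent.KBSolv75

open Cfsg Cfsg.Agent.CharBasic Cfsg.Agent.CharBasicOrth Cfsg.Agent.CharBasicDecomp
  Cfsg.Agent.CharInduced

universe u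

variable {G : Type u} [Group G] [Fintype G] (N : Subgroup G) [hN : N.Normal] [Fintype N]

/-- On a coset of `N` all characters over `θ` are proportional. -/
theorem coset_fun {θ : N → ℂ} (hθ : IsIrrCharacter N θ)
    (hinv : ∀ g : G, conjFun N θ g = θ) (g : G) :
    ∃ w : N → ℂ, ∀ χ : G → ℂ, IsIrrCharacter G χ → classInner (fun n : N => χ n) θ ≠ 0 →
      ∃ c : ℂ, ∀ n : N, χ (g * n) = c * w n := by
  classical
  set L := (Subgroup.zpowers (g : G ⧸ N)).comap (QuotientGroup.mk' N) with hL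
  haveI : Fintype L := Fintype.ofFinite L
  have hNL : N ≤ L := fun n hn => by
    rw [hL, Subgroup.mem_comap, QuotientGroup.mk'_apply, (QuotientGroup.eq_one_iff n).2 hn]
    exact one_mem _
  have hgL : g ∈ L := Subgroup.mem_zpowers (g : G ⧸ N)
  haveI : Fintype (N.subgroupOf L) := Fintype.ofFinite _
  let e : N.subgroupOf L ≃* N := Subgroup.subgroupOfEquivOfLe hNL
  have hθ' : IsIrrCharacter (N.subgroupOf L) (θ ∘ e.toMonoidHom) :=
    isIrrCharacter_comap _ e.surjective hθ
  have hcyc : IsCyclic (L ⧸ N.subgroupOf L) := by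
    refine ⟨⟨((⟨g, hgL⟩ : L) : L ⧸ N.subgroupOf L), fun q => ?_⟩⟩
    obtain ⟨l, rfl⟩ := QuotientGroup.mk_surjective q
    obtain ⟨k, hk⟩ := Subgroup.mem_zpowers_iff.1 (show (((l : G) : G ⧸ N)) ∈
      Subgroup.zpowers (g : G ⧸ N) from l.2)
    refine ⟨k, ?_⟩
    show ((⟨g, hgL⟩ : L) : L ⧸ N.subgroupOf L) ^ k = (l : L ⧸ N.subgroupOf L)
    rw [← QuotientGroup.mk_zpow, QuotientGroup.eq, Subgroup.mem_subgroupOf, Subgroup.coe_mul,
      Subgroup.coe_inv, Subgroup.coe_zpow, ← QuotientGroup.eq, QuotientGroup.mk_zpow]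
    exact hk
  obtain ⟨η, hη, hres⟩ := Cfsg.Agent.S0886.result (N.subgroupOf L) hcyc (θ ∘ e.toMonoidHom) hθ'
    fun l n => congrFun (hinv (l : G)) (e n)
  refine ⟨fun n => η ⟨g * n, mul_mem hgL (hNL n.2)⟩, fun χ hχ hχθ => ?_⟩
  have hχc := isCharacter_of_isIrrCharacter hχ
  have hdec := eq_sum_classInner (isClassFunction_res L (isClassFunction_irr hχ))
  have key : ∀ β : IrrCharacter L, ∃ c : ℂ, ∀ n : N,
      classInner (fun l : L => χ l) (β : L → ℂ) * (β : L → ℂ) ⟨g * n, mul_mem hgL (hNL n.2)⟩ =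
        c * η ⟨g * n, mul_mem hgL (hNL n.2)⟩ := by
    intro β
    by_cases hβ : classInner (fun l : L => χ l) (β : L → ℂ) = 0
    · exact ⟨0, fun n => by rw [hβ, zero_mul, zero_mul]⟩
    -- `β` lies over `θ`
    have hβN : classInner (fun n : N => (β : L → ℂ) ⟨n, hNL n.2⟩) θ ≠ 0 := by
      obtain ⟨φ, hφ⟩ := BrauerBlocksCovering.exists_constituent (G := N)
        (f := fun n : N => (β : L → ℂ) ⟨n, hNL n.2⟩)
        (isCharacter_comap (Subgroup.inclusion hNL) (isCharacter_of_isIrrCharacter β.2))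
        (isIrrCharacter_apply_one_ne_zero β.2)
      have h1 := NonDiv9.classInner_res_trans N L hNL hχc β.2 hβ φ.2 hφ
      obtain ⟨x, hx⟩ := NonDiv9.exists_conj_eq N hχ hθ φ.2 hχθ h1
      rw [hinv x] at hx
      rwa [hx]
    have hmem : classInner (fun n : N.subgroupOf L => (β : L → ℂ) n) (θ ∘ e.toMonoidHom) ≠ 0 := by
      refine fun h0 => hβN ?_
      rw [← h0]
      simp only [classInner]
      rw [Nat.card_congr e.toEquiv]
      congr 1
      exact (Fintype.sum_equiv e.toEquiv _ _ fun _ => rfl).symm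
    obtain ⟨lam, ⟨hlam, hlamN⟩, hlamη⟩ :=
      (CharGallagher.bijOn_one (N.subgroupOf L) hθ' hη hres).surjOn ⟨β.2, hmem⟩
    obtain ⟨ψ, hψ⟩ := CharKernel.exists_quot_irr (N.subgroupOf L) ⟨lam, hlam⟩
      fun n hn => hlamN ⟨n, hn⟩
    refine ⟨classInner (fun l : L => χ l) (β : L → ℂ) * lam ⟨g, hgL⟩, fun n => ?_⟩
    rw [show (β : L → ℂ) = lam * η from hlamη.symm, Pi.mul_apply, mul_assoc]
    congr 2
    have h1 := hψ ⟨g * n, mul_mem hgL (hNL n.2)⟩
    have h2 := hψ ⟨g, hgL⟩
    change lam _ = _ at h1 h2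
    rw [h1, h2]
    refine congrArg _ (QuotientGroup.eq.2 ?_)
    rw [Subgroup.mem_subgroupOf]
    show (g * (n : G))⁻¹ * g ∈ N
    rw [mul_inv_rev, inv_mul_cancel_right]
    exact inv_mem n.2
  choose c hc using key
  refine ⟨∑ β, c β, fun n => ?_⟩
  have h := congrFun hdec ⟨g * n, mul_mem hgL (hNL n.2)⟩
  rw [Finset.sum_apply] at h
  refine h.trans ?_
  rw [Finset.sum_mul]
  exact Finset.sum_congr rfl fun β _ => by rw [Pi.smul_apply, smul_eq_mul, hc]

/-- The characters over an invariant character are no more than the classes of the quotient. -/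
theorem card_over_le {θ : N → ℂ} (hθ : IsIrrCharacter N θ) (hinv : ∀ g : G, conjFun N θ g = θ) :
    Nat.card {χ : IrrCharacter G // classInner (fun n : N => (χ : G → ℂ) n) θ ≠ 0} ≤
      Nat.card (ConjClasses (G ⧸ N)) := by
  classical
  haveI : Finite (IrrCharacter G) := finite_irrCharacter
  let A := {χ : IrrCharacter G // classInner (fun n : N => (χ : G → ℂ) n) θ ≠ 0}
  haveI : Fintype A := Fintype.ofFinite A
  haveI : Fintype (ConjClasses (G ⧸ N)) := Fintype.ofFinite _
  choose w hw using fun g : G => coset_fun N hθ hinv g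
  choose c hc using fun (g : G) (a : A) => hw g _ a.1.2 a.2
  have hsurj : ∀ C : ConjClasses (G ⧸ N), ∃ g : G, ConjClasses.mk (g : G ⧸ N) = C := fun C => by
    obtain ⟨q, rfl⟩ := ConjClasses.mk_surjective C
    obtain ⟨g, rfl⟩ := QuotientGroup.mk_surjective q
    exact ⟨g, rfl⟩
  choose r hr using hsurj
  have hn0 : ∀ g : G, ∃ n₀ : N, w g n₀ = 0 → ∀ n, w g n = 0 := fun g => by
    by_cases h : ∃ n, w g n ≠ 0
    · obtain ⟨n, hn⟩ := h
      exact ⟨n, fun h0 => absurd h0 hn⟩
    · exact ⟨1, fun _ n => not_not.1 fun hn => h ⟨n, hn⟩⟩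
  choose n₀ hn₀ using hn0
  let Ψ : (A → ℂ) →ₗ[ℂ] (ConjClasses (G ⧸ N) → ℂ) :=
    { toFun := fun v C => ∑ a : A, v a * (a.1 : G → ℂ) (r C * n₀ (r C))
      map_add' := fun v v' => funext fun C => by
        simp only [Pi.add_apply, add_mul, Finset.sum_add_distrib]
      map_smul' := fun z v => funext fun C => by
        simp only [Pi.smul_apply, smul_eq_mul, RingHom.id_apply, Finset.mul_sum, mul_assoc] }
  have hΨ : Function.Injective Ψ := by
    refine (injective_iff_map_eq_zero Ψ).2 fun v hv => ?_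
    set f : G → ℂ := ∑ a : A, v a • (a.1 : G → ℂ) with hf
    have happ : ∀ x, f x = ∑ a : A, v a * (a.1 : G → ℂ) x := fun x => by
      rw [hf, Finset.sum_apply]
      rfl
    have hf0 : f = 0 := funext fun x => by
      set C := ConjClasses.mk (x : G ⧸ N)
      obtain ⟨y, hy⟩ := isConj_iff.1 (ConjClasses.mk_eq_mk_iff_isConj.1 (hr C))
      obtain ⟨y, rfl⟩ := QuotientGroup.mk_surjective y
      have hy' : (y * r C * y⁻¹)⁻¹ * x ∈ N := QuotientGroup.eq.1 (by
        rw [QuotientGroup.mk_mul, QuotientGroup.mk_mul, QuotientGroup.mk_inv]; exact hy)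
      let n : N := ⟨y⁻¹ * ((y * r C * y⁻¹)⁻¹ * x) * y, by
        simpa using hN.conj_mem _ hy' y⁻¹⟩
      have hx : x = y * (r C * (n : G)) * y⁻¹ := by simp only [n]; group
      rw [Pi.zero_apply, hx, happ]
      have h0 : (∑ a : A, v a * c (r C) a) * w (r C) (n₀ (r C)) = 0 := by
        refine Eq.trans ?_ (congrFun hv C)
        rw [Finset.sum_mul]
        show _ = ∑ a : A, v a * (a.1 : G → ℂ) (r C * n₀ (r C))
        exact Finset.sum_congr rfl fun a _ => by rw [hc, mul_assoc]
      rw [Finset.sum_congr rfl fun a _ => show v a * (a.1 : G → ℂ) (y * (r C * (n : G)) * y⁻¹) =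
        v a * c (r C) a * w (r C) n by rw [isClassFunction_irr a.1.2, hc, mul_assoc],
        ← Finset.sum_mul]
      rcases mul_eq_zero.1 h0 with h | h
      · rw [h, zero_mul]
      · rw [hn₀ _ h n, mul_zero]
    funext b
    have h := congrArg (fun F => classInner F (b.1 : G → ℂ)) hf0
    rw [hf, classInner_sum_left, Finset.sum_eq_single b
      (fun a _ hab => by
        rw [classInner_smul_left, classInner_irr_ne a.1.2 b.1.2
          (fun h => hab (Subtype.ext (Subtype.ext h))), mul_zero])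
      (by simp), classInner_smul_left, classInner_irr_self b.1.2, mul_one] at h
    rw [h, Pi.zero_apply, classInner]
    simp
  have h := LinearMap.finrank_le_finrank_of_injective hΨ
  rwa [Module.finrank_pi, Module.finrank_pi, ← Nat.card_eq_fintype_card, ← Nat.card_eq_fintype_card] at h

end Cfsg.Agent.KBSolv75
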