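import Mathlib
import Cfsg.Agent.Lib.KBSolv75Main
import Cfsg.Agent.Lib.KBSolv75Over
import Cfsg.Agent.Lib.BlockTheoryHeightSolv

/-!
A `p`-block of positive defect `d` of a solvable group has at most `3 ^ (d - 1) * p ^ d` irreducible
characters.
-/

set_option autoImplicit false
set_option linter.style.haveILetI false

namespace Cfsg.Agent.KBSolv75

open Cfsg Cfsg.Agent.BlockTheoryLocalRing Cfsg.Agent.BlockTheoryCentre
open Cfsg.Agent.BlockTheoryIdem Cfsg.Agent.CharInduced Cfsg.Agent.BlockTheoryDefect

attribute [local instance] Classical.propDecidable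

universe u

variable {p : ℕ}

/-- The quotient by the `p'`-core has no nontrivial normal `p'`-subgroup. -/
theorem noP_quot (hp : p.Prime) (G : Type u) [Group G] [Finite G] [hN : (pPrimeCore p G).Normal]
    (hNp : ¬ p ∣ Nat.card (pPrimeCore p G)) : NoP' p (G ⧸ pPrimeCore p G) := by
  intro M hMn hMp
  set N := pPrimeCore p G with hNdef
  set J := M.comap (QuotientGroup.mk' N) with hJ
  have hNJ : N ≤ J := fun x hx => by
    rw [hJ, Subgroup.mem_comap, QuotientGroup.mk'_apply, (QuotientGroup.eq_one_iff x).2 hx]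
    exact one_mem M
  have hJp : ¬ p ∣ Nat.card J := by
    rw [← (N.subgroupOf J).card_mul_index, Nat.card_congr (Subgroup.subgroupOfEquivOfLe hNJ).toEquiv]
    intro hd
    rcases (Nat.Prime.dvd_mul hp).1 hd with h | h
    · exact hNp h
    · have h2 := Subgroup.relIndex_ker J (QuotientGroup.mk' N)
      rw [QuotientGroup.ker_mk', hJ, Subgroup.map_comap_eq_self_of_surjective
        (QuotientGroup.mk'_surjective N)] at h2
      exact hMp (h2 ▸ h)
  have hle : J ≤ N := by
    rw [hNdef]
    exact le_sSup ⟨hMn.comap _, ((Nat.Prime.coprime_iff_not_dvd hp).2 hJp).symm⟩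
  refine (Subgroup.eq_bot_iff_forall M).2 fun y hy => ?_
  obtain ⟨x, rfl⟩ := QuotientGroup.mk'_surjective N y
  exact (QuotientGroup.eq_one_iff x).2 (hle hy)

theorem block_le [Fact p.Prime] {M : Ideal AlgInt} (hM : IsPModular p M) :
    ∀ (n : ℕ) {G : Type u} [Group G] [Finite G], Nat.card G = n → Group.IsSolvable G →
      ∀ {B : Set (IrrCharacter G)}, IsPBlock M B → 0 < blockDefect p B →
      B.ncard ≤ 3 ^ (blockDefect p B - 1) * p ^ blockDefect p B := by
  intro n
  induction n using Nat.strong_induction_on with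
  | _ n ih =>
  intro G _ _ hn hsolv B hB hd
  have : Fintype G := Fintype.ofFinite G
  have hp : p.Prime := Fact.out
  haveI : Finite (IrrCharacter G) := CharBasicOrth.finite_irrCharacter
  have hps : IsPSolvable p G := HallSolvable.isPSolvable_of_solvable p
  set N := pPrimeCore p G with hNdef
  have hNp : ¬ p ∣ Nat.card N := HallCore.not_dvd_card_pPrimeCore p G
  haveI : N.Normal := HallCore.pPrimeCore_normal p G
  obtain ⟨χ, hBχ⟩ := hB
  have hB : IsPBlock M B := ⟨χ, hBχ⟩
  have hχ : χ ∈ B := hBχ ▸ self_mem_blockOf hM χ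
  obtain ⟨θ, hθ⟩ := BrauerBlocksCovering.exists_constituent (G := N)
    (f := fun n : N => (χ : G → ℂ) n)
    (isCharacter_res N (CharBasic.isCharacter_of_isIrrCharacter χ.2)) (irr_one_ne_zero χ)
  have hb := BlockTheoryFong.isPBlock_single N θ hM hNp
  set T := inertia N (θ : N → ℂ)
  have hNT : N ≤ T := le_inertia N (irr_classFun θ)
  by_cases htop : T = ⊤
  · have hinv : ∀ g : G, conjFun N (θ : N → ℂ) g = (θ : N → ℂ) := fun g =>
      (mem_inertia N).mp (htop ▸ Subgroup.mem_top g : g ∈ T)
    obtain ⟨B0, hB0, hmem, -, hdef⟩ :=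
      S4492.result p M hM hps N hNdef θ fun g x => congrFun (hinv g) x
    obtain rfl : B = B0 := block_eq_of_mem hM hB hB0 hχ ((hmem χ).mpr hθ)
    obtain ⟨D, hD⟩ := exists_defectGroup hM hB
    obtain ⟨P', rfl⟩ := hdef D hD
    have hz : blockDefect p B = (Nat.card G).factorization p := by
      have h1 := BlockContrib.minExp_add_defect hM hB
      have h2 := BlockContribBounds.card_defectGroup hM hB hD
      rw [P'.card_eq_multiplicity] at h2
      have := Nat.pow_right_injective hp.two_le h2
      omega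
    have hpe : pExp p (G ⧸ N) = blockDefect p B := by
      have h := pExp_mul (p := p) G N
      have h0 : pExp p N = 0 := Nat.factorization_eq_zero_of_not_dvd hNp
      rw [h0, zero_add] at h
      rw [← h, hz, pExp]
    haveI : Nontrivial (G ⧸ N) := by
      by_contra hnt
      rw [not_nontrivial_iff_subsingleton] at hnt
      rw [← hpe, pExp, Nat.card_eq_one_iff_unique.2 ⟨hnt, inferInstance⟩] at hd
      simp at hd
    haveI : Group.IsSolvable (G ⧸ N) :=
      Group.isSolvable_of_surjective (QuotientGroup.mk'_surjective N)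
    have hk := class_le hp (G ⧸ N) (noP_quot hp G hNp)
    rw [Bd, hpe] at hk
    have hcard : B.ncard ≤ Nat.card (ConjClasses (G ⧸ N)) := by
      refine le_trans (le_of_eq ?_) (card_over_le N θ.2 hinv)
      rw [← Nat.card_coe_set_eq]
      exact Nat.card_congr (Equiv.subtypeEquivRight hmem)
    refine hcard.trans (Nat.le_of_mul_le_mul_left ?_ (by norm_num : 0 < 3))
    refine hk.trans (le_of_eq ?_)
    rw [mul_pow, ← mul_assoc, ← pow_succ', Nat.sub_add_cancel hd]
  · have hstab : ∀ g : G, g ∈ T ↔ ∀ θ₀ ∈ ({θ} : Set (IrrCharacter N)), ∀ θ' : IrrCharacter N,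
        (∀ x : N, (θ' : N → ℂ) x = (θ₀ : N → ℂ) ⟨g * x * g⁻¹,
          (inferInstance : N.Normal).conj_mem x x.2 g⟩) → θ' ∈ ({θ} : Set (IrrCharacter N)) := by
      intro g
      rw [mem_inertia_iff]
      constructor
      · intro h θ₀ hθ₀ θ' h'
        obtain rfl : θ₀ = θ := hθ₀
        exact Set.mem_singleton_iff.mpr (Subtype.ext (funext fun x => (h' x).trans (h x)))
      · intro h x
        have h' := h θ rfl
          ⟨conjFun N (θ : N → ℂ) g, isIrrCharacter_conjFun N θ.2 g⟩ (fun _ => rfl)
        exact congrFun (congrArg Subtype.val (Set.mem_singleton_iff.mp h')) x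
    have hS := FongReynolds78.isStab_of_statement N hstab
    obtain ⟨ψ, hov, hm⟩ := FongReynolds78.exists_over (b := ({θ} : Set (IrrCharacter N))) hNT
      (χ := χ) ⟨θ, rfl, hθ⟩
    have hχψ := (FongReynolds78.constituent_key hS hNT hM hb χ hov hm).1
    have hB' : IsPBlock M (blockOf M (ψ : T → ℂ)) := isPBlock_blockOf ψ
    have hψ := self_mem_blockOf hM ψ
    obtain ⟨B1, hind, -, hirr, hiff⟩ := FongReynolds78.correspondence hS hNT hM hb hB' ⟨ψ, hψ, hov⟩
    obtain rfl : B = B1 := block_eq_of_mem hM hB hind.2.1 hχ ((hiff χ).mpr ⟨ψ, hψ, hχψ⟩)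
    set B' := blockOf M (ψ : T → ℂ)
    haveI : Finite (IrrCharacter T) := CharBasicOrth.finite_irrCharacter
    have hdeg : ∀ φ ∈ B', ∀ η : IrrCharacter G, (η : G → ℂ) = indFun T (φ : T → ℂ) →
        (charDegree (η : G → ℂ)).factorization p =
          T.index.factorization p + (charDegree (φ : T → ℂ)).factorization p := by
      intro φ _ η he
      have h1 : (η : G → ℂ) 1 = (T.index : ℂ) * (φ : T → ℂ) 1 := by
        rw [he, ind_one_apply]
      rw [CharAverage.irr_apply_one, CharAverage.irr_apply_one, ← Nat.cast_mul, Nat.cast_inj] at h1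
      have hne : charDegree (φ : T → ℂ) ≠ 0 := fun h0 =>
        irr_one_ne_zero φ (by rw [CharAverage.irr_apply_one, h0, Nat.cast_zero])
      rw [h1, Nat.factorization_mul Subgroup.index_ne_zero_of_finite hne, Finsupp.add_apply]
    have hmin : BlockContrib.minExp p B =
        T.index.factorization p + BlockContrib.minExp p B' := by
      obtain ⟨φ, hφ, hφe⟩ := Nat.sInf_mem
        (s := (fun φ : IrrCharacter T => (charDegree (φ : T → ℂ)).factorization p) '' B')
        ⟨_, ψ, hψ, rfl⟩
      obtain ⟨η, hη, hηe⟩ := Nat.sInf_mem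
        (s := (fun η : IrrCharacter G => (charDegree (η : G → ℂ)).factorization p) '' B)
        ⟨_, χ, hχ, rfl⟩
      obtain ⟨φ', hφ', he'⟩ := (hiff η).1 hη
      let η' : IrrCharacter G := ⟨_, hirr φ hφ⟩
      have hη' : η' ∈ B := (hiff η').2 ⟨φ, hφ, rfl⟩
      have h1 := BlockContrib.minExp_le (p := p) hη'
      have h2 := BlockContrib.minExp_le (p := p) hφ'
      have h3 := hdeg φ hφ η' rfl
      have h4 := hdeg φ' hφ' η he'
      have h5 : (charDegree (φ : T → ℂ)).factorization p = BlockContrib.minExp p B' := hφe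
      have h6 : (charDegree (η : G → ℂ)).factorization p = BlockContrib.minExp p B := hηe
      omega
    have hdef : blockDefect p B = blockDefect p B' := by
      rw [BlockContrib.blockDefect_eq, BlockContrib.blockDefect_eq, hmin, ← T.card_mul_index,
        Nat.factorization_mul Nat.card_pos.ne' Subgroup.index_ne_zero_of_finite, Finsupp.add_apply]
      omega
    have hcard : B.ncard ≤ B'.ncard := by
      have hch : ∀ η ∈ B, ∃ φ ∈ B', (η : G → ℂ) = indFun T (φ : T → ℂ) := fun η hη => (hiff η).1 hη
      choose F hF1 hF2 using hch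
      refine Set.ncard_le_ncard_of_injOn (fun η => if h : η ∈ B then F η h else ψ)
        (fun η hη => by simp only [dif_pos hη]; exact hF1 η hη) ?_ (Set.toFinite _)
      intro η hη η' hη' he
      simp only [dif_pos hη, dif_pos hη'] at he
      exact Subtype.ext (by rw [hF2 η hη, hF2 η' hη', he])
    have hlt : Nat.card T < n := hn ▸ lt_of_le_of_ne
      (Nat.le_of_dvd Nat.card_pos T.card_subgroup_dvd_card)
      fun h => htop (Subgroup.eq_top_of_card_eq T h)
    rw [hdef] at hd ⊢
    exact hcard.trans (ih _ hlt rfl inferInstance hB' hd)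

end Cfsg.Agent.KBSolv75
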