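import Mathlib
import Cfsg.Agent.Lib.KGBound86Basic

/-!
A group of order 24 with a self-centralising four group, and class numbers of central extensions of
such groups.
-/

set_option autoImplicit false

namespace Cfsg.Agent.KGBound86

variable {X : Type*} [Group X] [Finite X]

/-- Everything commuting with `x` is a power of `x`. -/
def SelfPow (x : X) : Prop := ∀ y : X, y * x = x * y → y ∈ Subgroup.zpowers x

omit [Finite X] in
theorem SelfPow.conj {x : X} (h : SelfPow x) (c : X) : SelfPow (c * x * c⁻¹) := by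
  intro y hy
  have h1 : c⁻¹ * y * c * x = x * (c⁻¹ * y * c) := by
    calc c⁻¹ * y * c * x = c⁻¹ * (y * (c * x * c⁻¹)) * c := by group
      _ = c⁻¹ * (c * x * c⁻¹ * y) * c := by rw [hy]
      _ = _ := by group
  obtain ⟨i, hi⟩ := h _ h1
  refine ⟨i, ?_⟩
  simp only at hi ⊢
  rw [conj_zpow, hi]
  group

theorem exists_selfPow (K : Subgroup X) [K.Normal] (hX : Nat.card X = 24) (hK : Nat.card K = 4)
    (hexp : ∀ y ∈ K, y * y = 1) (hcen : ∀ x : X, (∀ y ∈ K, x * y = y * x) → x ∈ K) :
    ∃ g u : X, orderOf g = 3 ∧ orderOf u = 4 ∧ SelfPow g ∧ SelfPow u := by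
  classical
  haveI := Fact.mk Nat.prime_three
  haveI := Fact.mk Nat.prime_two
  have hKab : ∀ a ∈ K, ∀ b ∈ K, a * b = b * a := fun a ha b hb => by
    have hi : ∀ c ∈ K, c⁻¹ = c := fun c hc => inv_eq_of_mul_eq_one_right (hexp c hc)
    rw [← hi (a * b) (mul_mem ha hb), mul_inv_rev, hi a ha, hi b hb]
  have hidx : K.index = 6 := by
    have := K.card_mul_index; rw [hX, hK] at this; omega
  obtain ⟨g, hg⟩ := exists_prime_orderOf_dvd_card' 3 (G := X) (by rw [hX]; norm_num)
  have hgK : g ∉ K := fun h => by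
    have h1 := orderOf_dvd_of_pow_eq_one (x := g) (n := 2) (by rw [pow_two]; exact hexp g h)
    rw [hg] at h1; norm_num at h1
  have hg3 : g ^ 3 = 1 := hg ▸ pow_orderOf_eq_one g
  -- `g` fixes only the identity
  have hfix : ∀ y ∈ K, g * y = y * g → y = 1 := by
    intro k hk hkg
    by_contra hk1
    obtain ⟨l, hl, hlk⟩ : ∃ l ∈ K, l ∉ ({1, k} : Set X) := by
      by_contra hall
      push Not at hall
      have h2 := Set.ncard_le_ncard (s := (K : Set X)) hall (Set.toFinite _)
      rw [Set.ncard_pair (Ne.symm hk1), ← Nat.card_coe_set_eq] at h2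
      simp only [SetLike.coe_sort_coe] at h2
      omega
    simp only [Set.mem_insert_iff, Set.mem_singleton_iff, not_or] at hlk
    have hKeq : ({1, k, l, k * l} : Set X) = K := by
      refine Set.eq_of_subset_of_ncard_le ?_ ?_ (Set.toFinite _)
      · rintro y (rfl | rfl | rfl | rfl)
        · exact one_mem _
        · exact hk
        · exact hl
        · exact mul_mem hk hl
      · rw [← Nat.card_coe_set_eq]
        simp only [SetLike.coe_sort_coe]
        rw [hK, Set.ncard_insert_of_notMem (by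
            simp only [Set.mem_insert_iff, Set.mem_singleton_iff, not_or]
            exact ⟨Ne.symm hk1, Ne.symm hlk.1, fun e => hlk.2 (by
              calc l = (k * k) * l := by rw [hexp k hk, one_mul]
                _ = k * (k * l) := mul_assoc _ _ _
                _ = k := by rw [← e, mul_one])⟩),
          Set.ncard_insert_of_notMem (by
            simp only [Set.mem_insert_iff, Set.mem_singleton_iff, not_or]
            exact ⟨Ne.symm hlk.2, fun e => hlk.1 (mul_eq_left.1 e.symm)⟩),
          Set.ncard_pair (fun e => hk1 (mul_eq_right.1 e.symm))]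
    have hgl : g * l * g⁻¹ ∈ ({1, k, l, k * l} : Set X) := hKeq ▸ ‹K.Normal›.conj_mem l hl g
    have hgk : g * k * g⁻¹ = k := by rw [hkg, mul_inv_cancel_right]
    have hgl' : g * l = l * g := by
      rcases hgl with e | e | e | e
      · exact absurd (conj_eq_one_iff.1 e) hlk.1
      · exact absurd (mul_left_cancel (mul_right_cancel (e.trans hgk.symm))) hlk.2
      · exact mul_inv_eq_iff_eq_mul.1 e
      · exfalso
        have e2 : g * (g * l * g⁻¹) * g⁻¹ = l := by
          rw [e]
          calc g * (k * l) * g⁻¹ = (g * k * g⁻¹) * (g * l * g⁻¹) := by group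
            _ = k * (k * l) := by rw [hgk, e]
            _ = l := by rw [← mul_assoc, hexp k hk, one_mul]
        have e3 : g * l * g⁻¹ = l := by
          conv_lhs => rw [← e2]
          calc g * (g * (g * l * g⁻¹) * g⁻¹) * g⁻¹ = g ^ 3 * l * (g ^ 3)⁻¹ := by
                simp only [pow_succ, pow_zero, one_mul]; group
            _ = l := by rw [hg3, one_mul, inv_one, mul_one]
        rw [e3] at e
        exact hk1 (mul_eq_right.1 e.symm)
    refine hgK (hcen g fun y hy => ?_)
    have hy' : y ∈ ({1, k, l, k * l} : Set X) := hKeq ▸ hy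
    rcases hy' with rfl | rfl | rfl | rfl
    · rw [mul_one, one_mul]
    · exact hkg
    · exact hgl'
    · rw [← mul_assoc, hkg, mul_assoc, hgl', mul_assoc]
  -- centralisers modulo `K`
  have hdiv : ∀ H : Subgroup X, (K.subgroupOf H).index ∣ 6 := by
    intro H
    rw [← hidx]
    exact Subgroup.relIndex_dvd_index_of_normal K H
  set Cg := Subgroup.centralizer ({g} : Set X) with hCg
  have hCgK : Nat.card (K.subgroupOf Cg) = 1 := by
    refine Subgroup.card_eq_one.2 ((Subgroup.eq_bot_iff_forall _).2 fun y hy => Subtype.ext ?_)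
    exact hfix y hy (Subgroup.mem_centralizer_singleton_iff.1 y.2).symm
  have hgCg : g ∈ Cg := Subgroup.mem_centralizer_singleton_iff.2 rfl
  have h3Cg : 3 ∣ Nat.card Cg := by
    rw [← hg, ← Nat.card_zpowers]
    exact Subgroup.card_dvd_of_le (Subgroup.zpowers_le.2 hgCg)
  have hCg6 : Nat.card Cg ∣ 6 := by
    rw [← (K.subgroupOf Cg).card_mul_index, hCgK, one_mul]
    exact hdiv Cg
  have hCg3 : Nat.card Cg = 3 := by
    have h6 : Nat.card Cg = 3 ∨ Nat.card Cg = 6 := by
      have := Nat.le_of_dvd (by norm_num) hCg6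
      have h0 : 0 < Nat.card Cg := Nat.card_pos
      omega
    refine h6.resolve_right fun h => ?_
    obtain ⟨t, ht⟩ := exists_prime_orderOf_dvd_card' 2 (G := Cg) (by rw [h]; norm_num)
    rw [← Subgroup.orderOf_coe] at ht
    set s : X := (t : X) with hs
    have hsg : s * g = g * s := Subgroup.mem_centralizer_singleton_iff.1 t.2
    have hs2 : s * s = 1 := by rw [← pow_two, ← ht, pow_orderOf_eq_one]
    have hsK : s ∉ K := fun hm => by
      have := hfix s hm hsg.symm
      rw [this, orderOf_one] at ht; omega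
    obtain ⟨k, hk, hk1⟩ : ∃ k ∈ K, k ≠ 1 := K.bot_or_exists_ne_one.resolve_left fun e => by
      rw [e, Subgroup.card_bot] at hK; omega
    obtain ⟨k', hk', hk'1, hks⟩ : ∃ k' ∈ K, k' ≠ 1 ∧ s * k' = k' * s := by
      by_cases e : s * k = k * s
      · exact ⟨k, hk, hk1, e⟩
      have hsk := ‹K.Normal›.conj_mem k hk s
      have hsi : s⁻¹ = s := inv_eq_of_mul_eq_one_right hs2
      refine ⟨k * (s * k * s⁻¹), mul_mem hk hsk, fun h1 => e ?_, ?_⟩
      · refine mul_inv_eq_iff_eq_mul.1 ?_
        rw [← inv_eq_of_mul_eq_one_right h1]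
        exact inv_eq_of_mul_eq_one_right (hexp k hk)
      · calc s * (k * (s * k * s⁻¹)) = (s * k * s⁻¹) * (s * s) * k * s⁻¹ := by group
          _ = (s * k * s⁻¹) * k * s⁻¹ := by rw [hs2, mul_one]
          _ = k * (s * k * s⁻¹) * s⁻¹ := by rw [hKab k hk _ hsk]
          _ = _ := by rw [hsi]
    have hgk := ‹K.Normal›.conj_mem k' hk' g
    have hne : g * k' * g⁻¹ ≠ k' := fun e => hk'1 (hfix k' hk' (mul_inv_eq_iff_eq_mul.1 e))
    have hs' : s * (g * k' * g⁻¹) = g * k' * g⁻¹ * s := by
      calc s * (g * k' * g⁻¹) = (s * g) * k' * g⁻¹ := by group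
        _ = g * (s * k') * g⁻¹ := by rw [hsg]; group
        _ = g * k' * (s * g⁻¹) := by rw [hks]; group
        _ = g * k' * (g⁻¹ * s) := by
            rw [show s * g⁻¹ = g⁻¹ * s from (Commute.inv_right hsg).eq]
        _ = _ := by group
    refine hsK (hcen s fun y hy => ?_)
    have hKeq : ({1, k', g * k' * g⁻¹, k' * (g * k' * g⁻¹)} : Set X) = K := by
      refine Set.eq_of_subset_of_ncard_le ?_ ?_ (Set.toFinite _)
      · rintro z (rfl | rfl | rfl | rfl)
        · exact one_mem _
        · exact hk'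
        · exact hgk
        · exact mul_mem hk' hgk
      · have h1 : g * k' * g⁻¹ ≠ 1 := fun e => hk'1 (conj_eq_one_iff.1 e)
        have h2 : k' * (g * k' * g⁻¹) ≠ 1 := fun e => hne (by
          rw [← inv_eq_of_mul_eq_one_right e]
          exact inv_eq_of_mul_eq_one_right (hexp k' hk'))
        rw [← Nat.card_coe_set_eq]
        simp only [SetLike.coe_sort_coe]
        rw [hK, Set.ncard_insert_of_notMem (by
            simp only [Set.mem_insert_iff, Set.mem_singleton_iff, not_or]
            exact ⟨Ne.symm hk'1, Ne.symm h1, Ne.symm h2⟩),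
          Set.ncard_insert_of_notMem (by
            simp only [Set.mem_insert_iff, Set.mem_singleton_iff, not_or]
            exact ⟨Ne.symm hne, fun e => h1 (mul_eq_left.1 e.symm)⟩),
          Set.ncard_pair (fun e => hk'1 (mul_eq_right.1 e.symm))]
    have hy' : y ∈ ({1, k', g * k' * g⁻¹, k' * (g * k' * g⁻¹)} : Set X) := hKeq ▸ hy
    rcases hy' with rfl | rfl | rfl | rfl
    · rw [mul_one, one_mul]
    · exact hks
    · exact hs'
    · exact (Commute.mul_right (show Commute s k' from hks) hs').eq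
  have hgz : Subgroup.zpowers g = Cg :=
    Subgroup.eq_of_le_of_card_ge (Subgroup.zpowers_le.2 hgCg) (by rw [Nat.card_zpowers, hg, hCg3])
  have hgood : SelfPow g := fun y hy => hgz ▸ Subgroup.mem_centralizer_singleton_iff.2 hy
  -- an element of order four
  obtain ⟨P⟩ : Nonempty (Sylow 2 X) := inferInstance
  have hP : Nat.card P = 8 := by
    rw [P.card_eq_multiplicity, hX]
    have : (24 : ℕ).factorization 2 = 3 := by
      rw [show (24 : ℕ) = 2 ^ 3 * 3 by norm_num, Nat.factorization_mul (by norm_num) (by norm_num),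
        Finsupp.add_apply, Nat.Prime.factorization_pow Nat.prime_two, Finsupp.single_eq_same,
        Nat.factorization_eq_zero_of_not_dvd (by norm_num)]
    rw [this]
    norm_num
  have hKP : K ≤ (P : Subgroup X) := by
    have hKp : IsPGroup 2 K := IsPGroup.of_card (n := 2) (by rw [hK]; norm_num)
    obtain ⟨Q, hQ⟩ := hKp.exists_le_sylow
    obtain ⟨c, hc⟩ := MulAction.exists_smul_eq X Q P
    intro y hy
    rw [← hc, Sylow.coe_subgroup_smul, Subgroup.mem_pointwise_smul_iff_inv_smul_mem,
      ← map_inv, MulAut.smul_def, MulAut.conj_apply]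
    exact hQ (‹K.Normal›.conj_mem y hy _)
  obtain ⟨u, huP, hu⟩ : ∃ u ∈ (P : Subgroup X), u * u ≠ 1 := by
    by_contra hall
    push Not at hall
    have hsub : (P : Subgroup X) ≤ K := fun a ha => hcen a fun b hb => by
      have hi : ∀ c ∈ (P : Subgroup X), c⁻¹ = c := fun c hc => inv_eq_of_mul_eq_one_right (hall c hc)
      rw [← hi (a * b) (mul_mem ha (hKP hb)), mul_inv_rev, hi a ha, hi b (hKP hb)]
    have := Subgroup.card_le_of_le hsub
    simp only [hK] at this
    omega
  have huK : u ∉ K := fun h => hu (hexp u h)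
  have hu2 : u * u ∈ K := by
    obtain ⟨j, hj⟩ := P.isPGroup' ⟨u, huP⟩
    have hj' : (u : X ⧸ K) ^ 2 ^ j = 1 := by
      rw [← QuotientGroup.mk_pow, show u ^ 2 ^ j = 1 from congrArg Subtype.val hj, QuotientGroup.mk_one]
    have h6 : (u : X ⧸ K) ^ 6 = 1 := by rw [← hidx, Subgroup.index_eq_card, pow_card_eq_one']
    have h := pow_gcd_eq_one.2 ⟨hj', h6⟩
    have hd : Nat.gcd (2 ^ j) 6 ∣ 2 := by
      rcases j with _ | j
      · simp
      · rw [pow_succ', show (6 : ℕ) = 2 * 3 by norm_num, Nat.gcd_mul_left]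
        rw [(Nat.Coprime.pow_left j (by norm_num : Nat.Coprime 2 3))]
    obtain ⟨c, hc⟩ := hd
    have : (u : X ⧸ K) ^ 2 = 1 := by rw [hc, pow_mul, h, one_pow]
    rw [pow_two] at this
    exact (QuotientGroup.eq_one_iff _).1 this
  have hu4 : orderOf u = 4 := by
    refine orderOf_eq_prime_pow (p := 2) (n := 1) ?_ ?_
    · rw [pow_one, pow_two]; exact hu
    · rw [show 2 ^ (1 + 1) = 2 + 2 by norm_num, pow_add, pow_two]; exact hexp _ hu2
  set Cu := Subgroup.centralizer ({u} : Set X) with hCu
  have huCu : u ∈ Cu := Subgroup.mem_centralizer_singleton_iff.2 rfl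
  have h3 : ¬ 3 ∣ Nat.card Cu := by
    intro h
    obtain ⟨t, ht⟩ := exists_prime_orderOf_dvd_card' 3 (G := Cu) h
    rw [← Subgroup.orderOf_coe] at ht
    have htu : (t : X) * u = u * t := Subgroup.mem_centralizer_singleton_iff.1 t.2
    -- every element of order three is conjugate to a power of `g`
    have hsyl : ∀ a : X, orderOf a = 3 → Subgroup.zpowers a = Cg → u ∈ Cg → False := by
      intro a _ _ hu'
      have := orderOf_dvd_natCard (⟨u, hu'⟩ : Cg)
      rw [← Subgroup.orderOf_coe, hCg3] at this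
      simp only [hu4] at this
      norm_num at this
    have h9 : ∀ Q : Sylow 3 X, Nat.card Q = 3 := fun Q => by
      rw [Q.card_eq_multiplicity, hX]
      have : (24 : ℕ).factorization 3 = 1 := by
        rw [show (24 : ℕ) = 3 ^ 1 * 8 by norm_num, Nat.factorization_mul (by norm_num) (by norm_num),
          Finsupp.add_apply, Nat.Prime.factorization_pow Nat.prime_three, Finsupp.single_eq_same,
          Nat.factorization_eq_zero_of_not_dvd (by norm_num)]
      rw [this, pow_one]
    have hmk : ∀ a : X, orderOf a = 3 → ∃ Q : Sylow 3 X, (Q : Subgroup X) = Subgroup.zpowers a := by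
      intro a ha
      have hp : IsPGroup 3 (Subgroup.zpowers a) :=
        IsPGroup.of_card (n := 1) (by rw [Nat.card_zpowers, ha, pow_one])
      obtain ⟨Q, hQ⟩ := hp.exists_le_sylow
      exact ⟨Q, (Subgroup.eq_of_le_of_card_ge hQ (by rw [Nat.card_zpowers, ha, h9 Q])).symm⟩
    obtain ⟨Q, hQ⟩ := hmk _ ht
    obtain ⟨Q', hQ'⟩ := hmk g hg
    obtain ⟨c, hc⟩ := MulAction.exists_smul_eq X Q Q'
    -- move `u` along
    have htg : c * (t : X) * c⁻¹ ∈ Subgroup.zpowers g := by
      rw [← hQ', ← hc, Sylow.coe_subgroup_smul, Subgroup.mem_pointwise_smul_iff_inv_smul_mem,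
        ← map_inv, MulAut.smul_def, MulAut.conj_apply, hQ]
      simp only [inv_inv]
      rw [show c⁻¹ * (c * (t : X) * c⁻¹) * c = (t : X) by group]
      exact Subgroup.mem_zpowers _
    have hzeq : Subgroup.zpowers (c * (t : X) * c⁻¹) = Subgroup.zpowers g :=
      Subgroup.eq_of_le_of_card_ge (Subgroup.zpowers_le.2 htg) (by
        rw [Nat.card_zpowers, Nat.card_zpowers, hg, ← MulAut.conj_apply, ← ht]
        exact (orderOf_injective (MulAut.conj c).toMonoidHom (MulEquiv.injective _) _).ge)
    obtain ⟨i, hi⟩ : g ∈ Subgroup.zpowers (c * (t : X) * c⁻¹) := hzeq ▸ Subgroup.mem_zpowers g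
    have hcu : c * u * c⁻¹ ∈ Cg := by
      refine Subgroup.mem_centralizer_singleton_iff.2 ?_
      have h1 : Commute (c * u * c⁻¹) (c * (t : X) * c⁻¹) := by
        show c * u * c⁻¹ * (c * (t : X) * c⁻¹) = c * (t : X) * c⁻¹ * (c * u * c⁻¹)
        calc _ = c * (u * t) * c⁻¹ := by group
          _ = c * ((t : X) * u) * c⁻¹ := by rw [htu]
          _ = _ := by group
      simp only at hi
      rw [← hi]
      exact (h1.zpow_right i).eq
    have := orderOf_dvd_natCard (⟨_, hcu⟩ : Cg)
    rw [← Subgroup.orderOf_coe, hCg3] at this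
    simp only at this
    rw [← MulAut.conj_apply] at this
    rw [show orderOf (MulAut.conj c u) = orderOf u from
      orderOf_injective (MulAut.conj c).toMonoidHom (MulEquiv.injective _) u, hu4] at this
    norm_num at this
  have hCu4 : Nat.card Cu ≤ 4 := by
    have hmul := (K.subgroupOf Cu).card_mul_index
    have hle : Nat.card (K.subgroupOf Cu) ≤ 2 := by
      have hdvd : Nat.card (K.subgroupOf Cu) ∣ 4 := by
        rw [← hK]
        exact Subgroup.card_comap_dvd_of_injective K Cu.subtype Cu.subtype_injective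
      have hlt : Nat.card (K.subgroupOf Cu) ≠ 4 := fun e => huK (hcen u fun y hy => by
        have htop : (K.subgroupOf Cu).map Cu.subtype = K := Subgroup.eq_of_le_of_card_ge
          (by rintro _ ⟨z, hz, rfl⟩; exact hz)
          (by rw [Subgroup.card_map_of_injective Cu.subtype_injective, e, hK])
        obtain ⟨z, -, rfl⟩ : y ∈ (K.subgroupOf Cu).map Cu.subtype := htop.symm ▸ hy
        exact (Subgroup.mem_centralizer_singleton_iff.1 z.2).symm)
      have := Nat.le_of_dvd (by norm_num) hdvd
      rcases hdvd with ⟨c, hc⟩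
      have : Nat.card (K.subgroupOf Cu) ≠ 3 := fun e => by rw [e] at hc; omega
      omega
    have hi : (K.subgroupOf Cu).index ≤ 2 := by
      have h6 := hdiv Cu
      have hpos : 0 < (K.subgroupOf Cu).index := Nat.pos_of_ne_zero Subgroup.index_ne_zero_of_finite
      have := Nat.le_of_dvd (by norm_num) h6
      by_contra hgt
      have h36 : (K.subgroupOf Cu).index = 3 ∨ (K.subgroupOf Cu).index = 6 := by
        generalize (K.subgroupOf Cu).index = j at *
        interval_cases j <;> omega
      apply h3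
      rw [← hmul]
      rcases h36 with e | e <;> rw [e]
      · exact dvd_mul_left 3 _
      · exact (by norm_num : (3 : ℕ) ∣ 6).mul_left _
    rw [← hmul]
    calc _ ≤ 2 * 2 := Nat.mul_le_mul hle hi
      _ = 4 := rfl
  have huz : Subgroup.zpowers u = Cu :=
    Subgroup.eq_of_le_of_card_ge (Subgroup.zpowers_le.2 huCu) (by rw [Nat.card_zpowers, hu4]; exact hCu4)
  exact ⟨g, u, hg, hu4, hgood, fun y hy => huz ▸ Subgroup.mem_centralizer_singleton_iff.2 hy⟩

theorem one_fibre {C : Type*} [Group C] [Finite C] (A : Subgroup C) [A.Normal]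
    (hcen : A ≤ Subgroup.center C) : Nat.card A ≤ Nat.card {c : ConjClasses C //
      ConjClasses.map (QuotientGroup.mk' A) c = ConjClasses.mk (1 : C ⧸ A)} := by
  refine le_of_le_of_eq (central_fibre A hcen _ (d := 1) fun y hy => ?_) (one_mul _)
  rw [commSet_one A y ((QuotientGroup.eq_one_iff y).1
    (isConj_one_left.1 (ConjClasses.mk_eq_mk_iff_isConj.1 hy))) hcen, Set.ncard_singleton]

/-- Four classes for each element of the centre. -/
theorem four_z_le {C : Type*} [Group C] [Finite C] (A : Subgroup C) [A.Normal]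
    (hcen : A ≤ Subgroup.center C) (hd : ∀ g : C, (commSet A g).ncard ≤ 2) (g u : C ⧸ A)
    (hg : orderOf g = 3) (hu : orderOf u = 4) (hgood : SelfPow g) (hugood : SelfPow u)
    (hk : 5 ≤ Nat.card (ConjClasses (C ⧸ A))) : 4 * Nat.card A ≤ Nat.card (ConjClasses C) := by
  classical
  haveI := Fintype.ofFinite (ConjClasses (C ⧸ A))
  let F : ConjClasses (C ⧸ A) → ℕ := fun q =>
    Nat.card {c : ConjClasses C // ConjClasses.map (QuotientGroup.mk' A) c = q}
  have hone : ∀ x : C ⧸ A, SelfPow x → Nat.card A ≤ F (ConjClasses.mk x) := by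
    intro x hx
    refine le_of_le_of_eq (central_fibre A hcen _ (d := 1) fun y hy => ?_) (one_mul _)
    obtain ⟨c, hc⟩ := isConj_iff.1 (ConjClasses.mk_eq_mk_iff_isConj.1 hy.symm)
    have hy' : SelfPow (y : C ⧸ A) := hc ▸ hx.conj c
    refine le_trans (Set.ncard_le_ncard (t := ({1} : Set C)) ?_ (Set.toFinite _))
      (Set.ncard_singleton 1).le
    rintro a ⟨haA, h, hh⟩
    have h1 : (h : C ⧸ A) * (y : C ⧸ A) = (y : C ⧸ A) * h := by
      rw [← QuotientGroup.mk_mul, mul_inv_eq_iff_eq_mul.1 hh, QuotientGroup.mk_mul,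
        QuotientGroup.mk_mul, (QuotientGroup.eq_one_iff a).2 haA, mul_one]
    obtain ⟨i, hi⟩ := hy' _ h1
    simp only at hi
    rw [← QuotientGroup.mk_zpow, QuotientGroup.eq] at hi
    have hcomm : Commute h y := by
      rw [show h = y ^ i * ((y ^ i)⁻¹ * h) by group]
      exact Commute.mul_left ((Commute.refl y).zpow_left i)
        (Subgroup.mem_center_iff.1 (hcen hi) y).symm
    rw [hcomm.eq, mul_inv_cancel_right] at hh
    exact left_eq_mul.1 hh
  set o : ConjClasses (C ⧸ A) := ConjClasses.mk 1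
  have hF1 : Nat.card A ≤ F o := one_fibre A hcen
  have hne : ∀ a b : C ⧸ A, orderOf a ≠ orderOf b → ConjClasses.mk a ≠ ConjClasses.mk b :=
    fun a b hab e => hab (by
      obtain ⟨c, rfl⟩ := isConj_iff.1 (ConjClasses.mk_eq_mk_iff_isConj.1 e)
      exact (orderOf_injective (MulAut.conj c).toMonoidHom (MulEquiv.injective _) a).symm)
  have h1g : o ≠ ConjClasses.mk g := hne _ _ (by rw [orderOf_one, hg]; norm_num)
  have h1u : o ≠ ConjClasses.mk u := hne _ _ (by rw [orderOf_one, hu]; norm_num)
  have hgu : ConjClasses.mk g ≠ ConjClasses.mk u := hne _ _ (by rw [hg, hu]; norm_num)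
  set T : Finset (ConjClasses (C ⧸ A)) := {o, ConjClasses.mk g, ConjClasses.mk u}
  have hT : T.card = 3 := by
    simp only [T]
    rw [Finset.card_insert_of_notMem (by simp [h1g, h1u]), Finset.card_pair hgu]
  have hTsum : 3 * Nat.card A ≤ ∑ q ∈ T, F q := by
    have h2 := hone g hgood
    have h3 := hone u hugood
    simp only [T]
    rw [Finset.sum_insert (by simp [h1g, h1u]), Finset.sum_pair hgu]
    omega
  have hrest : (Finset.univ \ T).card * Nat.card A ≤ ∑ q ∈ Finset.univ \ T, 2 * F q := by
    rw [← smul_eq_mul]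
    exact Finset.card_nsmul_le_sum _ _ _ fun q _ => central_fibre A hcen q fun y _ => hd y
  rw [Finset.card_sdiff_of_subset (Finset.subset_univ T), hT, Finset.card_univ,
    ← Nat.card_eq_fintype_card, ← Finset.mul_sum] at hrest
  have hsum : Nat.card (ConjClasses C) = ∑ q ∈ Finset.univ \ T, F q + ∑ q ∈ T, F q := by
    rw [Finset.sum_sdiff (Finset.subset_univ T)]
    exact k_eq_sum_fibres A
  have h4 : 2 * Nat.card A ≤ (Nat.card (ConjClasses (C ⧸ A)) - 3) * Nat.card A :=
    Nat.mul_le_mul_right _ (by omega)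
  omega

end Cfsg.Agent.KGBound86
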