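import Mathlib
import Cfsg.Agent.Lib.KGBound86Basic
import Cfsg.Agent.Lib.KGBound86Perm

/-!
A solvable group with at most four classes has order at most twelve.
-/

set_option autoImplicit false

namespace Cfsg.Agent.KGBound86

universe u

variable {G : Type u} [Group G] [Finite G] [Group.IsSolvable G]

theorem card_of_k_le_one (h : Nat.card (ConjClasses G) ≤ 1) : Nat.card G = 1 := by
  haveI := Finite.card_le_one_iff_subsingleton.1 h
  refine Nat.card_eq_one_iff_unique.2 ⟨⟨fun a b => ?_⟩, ⟨1⟩⟩
  have h1 : ∀ c : G, c = 1 := fun c =>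
    isConj_one_left.1 (ConjClasses.mk_eq_mk_iff_isConj.1 (Subsingleton.elim _ (ConjClasses.mk 1)))
  rw [h1 a, h1 b]

/-- The data of a reduction step. -/
theorem step (hG : ¬ Nat.card (ConjClasses G) = Nat.card G) :
    ∃ N : Subgroup G, ∃ _ : N.Normal, ∃ r, 1 < Nat.card N ∧ 2 ≤ Nat.card (ConjClasses (G ⧸ N)) ∧
      1 ≤ r ∧ Nat.card (ConjClasses (G ⧸ N)) + r ≤ Nat.card (ConjClasses G) ∧
      Nat.card N ≤ r * Nat.card (G ⧸ N) + 1 ∧ Nat.card G = Nat.card (G ⧸ N) * Nat.card N ∧
      ∀ a ∈ N, ∀ b ∈ N, a * b = b * a := by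
  haveI : Nontrivial G := by
    refine not_subsingleton_iff_nontrivial.1 fun h => hG (k_comm fun x y => ?_)
    rw [Subsingleton.elim x 1, Subsingleton.elim y 1]
  obtain ⟨N, hN, hN1, hab⟩ := exists_abelian_normal G
  haveI := hN
  obtain ⟨r, h1, h2, h3⟩ := k_abelian_normal N hab
  refine ⟨N, hN, r, ?_, ?_, h3 hN1, h1, by rwa [← Subgroup.index_eq_card],
    Subgroup.card_eq_card_quotient_mul_card_subgroup N, hab⟩
  · exact (Subgroup.one_lt_card_iff_ne_bot N).2 hN1
  · by_contra hlt
    have h4 := card_of_k_le_one (G := G ⧸ N) (by omega)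
    rw [← Subgroup.index_eq_card, Subgroup.index_eq_one] at h4
    exact hG (k_comm fun x y => hab x (h4 ▸ Subgroup.mem_top x) y (h4 ▸ Subgroup.mem_top y))

theorem card_of_k_le_two (h : Nat.card (ConjClasses G) ≤ 2) :
    Nat.card G = Nat.card (ConjClasses G) := by
  by_contra hne
  obtain ⟨N, hN, r, -, h1, h2, h3, -, -⟩ := step (G := G) (fun e => hne e.symm)
  omega

theorem card_of_k_le_three (h : Nat.card (ConjClasses G) ≤ 3) :
    Nat.card G = Nat.card (ConjClasses G) ∨ Nat.card G = 6 ∧ Nat.card (ConjClasses G) = 3 := by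
  by_cases hk : Nat.card G = Nat.card (ConjClasses G)
  · exact Or.inl hk
  obtain ⟨N, hN, r, hm, h1, h2, h3, h4, h5, habN⟩ := step (G := G) (fun e => hk e.symm)
  have hQ : Nat.card (G ⧸ N) = 2 := by
    rw [card_of_k_le_two (G := G ⧸ N) (by omega)]
    omega
  obtain rfl : r = 1 := by omega
  rw [hQ] at h4 h5
  refine Or.inr ⟨?_, by omega⟩
  have : Nat.card N = 2 ∨ Nat.card N = 3 := by omega
  rcases this with h6 | h6
  · exfalso
    rw [h6] at h5
    haveI := Fact.mk Nat.prime_two
    exact hk (k_comm fun x y => (IsPGroup.isMulCommutative_of_card_eq_prime_sq (p := 2) (G := G)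
      (by rw [h5, pow_two])).is_comm.comm x y).symm
  · rw [h6] at h5; omega

theorem card_le_twelve (h : Nat.card (ConjClasses G) ≤ 4) : Nat.card G ≤ 12 := by
  classical
  by_cases hk : Nat.card G = Nat.card (ConjClasses G)
  · omega
  obtain ⟨N, hN, r, hm, h1, h2, h3, h4, h5, habN⟩ := step (G := G) (fun e => hk e.symm)
  rcases Nat.lt_or_ge (Nat.card (ConjClasses (G ⧸ N))) 3 with hk3 | hk3
  · have hQ := card_of_k_le_two (G := G ⧸ N) (by omega)
    have hQ2 : Nat.card (G ⧸ N) = 2 := by omega
    rw [hQ2] at h4 h5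
    have hr : r ≤ 2 := by omega
    have : Nat.card N ≤ 5 := by omega
    omega
  obtain rfl : r = 1 := by omega
  have hk4 : Nat.card (ConjClasses G) = 4 := by omega
  have hkQ : Nat.card (ConjClasses (G ⧸ N)) = 3 := by omega
  rcases card_of_k_le_three (G := G ⧸ N) (by omega) with hQ | ⟨hQ, -⟩
  · rw [hQ, hkQ] at h4 h5
    omega
  rw [hQ] at h4 h5
  by_contra hbig
  have hN3 : 3 ≤ Nat.card N := by omega
  -- each nontrivial class of the quotient lifts to one class
  haveI := Fintype.ofFinite (ConjClasses (G ⧸ N))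
  haveI := Fintype.ofFinite (ConjClasses G)
  let π := ConjClasses.map (QuotientGroup.mk' N)
  set o : ConjClasses (G ⧸ N) := ConjClasses.mk 1 with ho
  have hone : ∀ q, q ≠ o → Nat.card {c : ConjClasses G // π c = q} ≤ 1 := by
    intro q hq
    have hsum := k_eq_sum_fibres N
    rw [hk4, ← Finset.add_sum_erase _ _ (Finset.mem_univ o),
      ← Finset.add_sum_erase _ _ (Finset.mem_erase.2 ⟨hq, Finset.mem_univ q⟩)] at hsum
    have h0 : 2 ≤ Nat.card {c : ConjClasses G // π c = o} := by
      obtain ⟨x, hx, hx1⟩ := N.bot_or_exists_ne_one.resolve_left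
        ((Subgroup.one_lt_card_iff_ne_bot N).1 hm)
      refine Finite.one_lt_card_iff_nontrivial.2 ⟨⟨ConjClasses.mk 1, ?_⟩, ⟨ConjClasses.mk x, ?_⟩,
        fun e => hx1 (isConj_one_right.1 (ConjClasses.mk_eq_mk_iff_isConj.1 (congrArg Subtype.val e)))⟩
      · show ConjClasses.mk (QuotientGroup.mk' N 1) = o
        rw [map_one]
      · show ConjClasses.mk (QuotientGroup.mk' N x) = o
        rw [QuotientGroup.mk'_apply, (QuotientGroup.eq_one_iff x).2 hx]
    have hcard : ((Finset.univ.erase o).erase q).card = 1 := by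
      rw [Finset.card_erase_of_mem (Finset.mem_erase.2 ⟨hq, Finset.mem_univ q⟩),
        Finset.card_erase_of_mem (Finset.mem_univ o), Finset.card_univ, ← Nat.card_eq_fintype_card,
        hkQ]
    obtain ⟨q', hq'⟩ := Finset.card_eq_one.1 hcard
    have h0' : 1 ≤ Nat.card {c : ConjClasses G // π c = q'} := by
      obtain ⟨c, hc⟩ := ConjClasses.map_surjective (QuotientGroup.mk'_surjective N) q'
      haveI : Nonempty {c : ConjClasses G // π c = q'} := ⟨⟨c, hc⟩⟩
      exact Nat.card_pos
    rw [hq', Finset.sum_singleton] at hsum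
    change 4 = Nat.card {c : ConjClasses G // π c = o} + (Nat.card {c : ConjClasses G // π c = q}
      + Nat.card {c : ConjClasses G // π c = q'}) at hsum
    omega
  -- so centralisers outside `N` are small
  have hcent : ∀ g : G, g ∉ N →
      Nat.card (Subgroup.centralizer {g}) * (ConjClasses.mk (g : G ⧸ N)).carrier.ncard ≤ 6 := by
    intro g hg
    set q := ConjClasses.mk (g : G ⧸ N) with hq
    have hqo : q ≠ o := fun e => hg ((QuotientGroup.eq_one_iff g).1
      (isConj_one_left.1 (ConjClasses.mk_eq_mk_iff_isConj.1 e)))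
    have hcar : (QuotientGroup.mk' N) ⁻¹' q.carrier ⊆ (ConjClasses.mk g).carrier := by
      intro y hy
      have hy' : π (ConjClasses.mk y) = q := ConjClasses.mem_carrier_iff_mk_eq.1 hy
      haveI := Finite.card_le_one_iff_subsingleton.1 (hone q hqo)
      exact ConjClasses.mem_carrier_iff_mk_eq.2 (congrArg Subtype.val
        (Subsingleton.elim (⟨_, hy'⟩ : {c : ConjClasses G // π c = q}) ⟨ConjClasses.mk g, rfl⟩))
    have h6 : Nat.card N * q.carrier.ncard ≤ (ConjClasses.mk g).carrier.ncard := by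
      refine le_trans (le_of_eq ?_) (Set.ncard_le_ncard hcar (Set.toFinite _))
      rw [← Nat.card_coe_set_eq, ← Nat.card_coe_set_eq, ← Nat.card_prod]
      exact (Nat.card_congr (QuotientGroup.preimageMkEquivSubgroupProdSet N q.carrier)).symm
    have h7 : (ConjClasses.mk g).carrier.ncard * Nat.card (Subgroup.centralizer {g}) = Nat.card G := by
      rw [← Subgroup.card_mul_index (Subgroup.centralizer {g}), mul_comm]
      congr 1
      rw [← ConjAct.orbit_eq_carrier_conjClasses, ← MulAction.index_stabilizer]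
      rw [ConjAct.stabilizer_eq_centralizer]
      rfl
    have h8 := Nat.mul_le_mul_right (Nat.card (Subgroup.centralizer {g})) h6
    rw [h7, h5] at h8
    refine Nat.le_of_mul_le_mul_right ?_ (show 0 < Nat.card N by omega)
    calc _ = Nat.card N * q.carrier.ncard * Nat.card (Subgroup.centralizer {g}) := by ring
      _ ≤ _ := h8
  -- the quotient has trivial centre
  haveI := Fintype.ofFinite (G ⧸ N)
  have hZ : Subgroup.center (G ⧸ N) = ⊥ := by
    by_contra hne
    have hdvd := Subgroup.card_subgroup_dvd_card (Subgroup.center (G ⧸ N))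
    have h1' := (Subgroup.one_lt_card_iff_ne_bot _).2 hne
    have hmul := (Subgroup.center (G ⧸ N)).card_mul_index
    rw [hQ] at hdvd hmul
    have hi : (Subgroup.center (G ⧸ N)).index ≤ 3 := by nlinarith
    haveI : IsCyclic ((G ⧸ N) ⧸ Subgroup.center (G ⧸ N)) := by
      have hc := Subgroup.index_eq_card (Subgroup.center (G ⧸ N))
      rcases (show (Subgroup.center (G ⧸ N)).index = 1 ∨ (Subgroup.center (G ⧸ N)).index = 2 ∨
          (Subgroup.center (G ⧸ N)).index = 3 by
        have := Subgroup.index_ne_zero_of_finite (H := Subgroup.center (G ⧸ N)); omega) with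
        e | e | e
      · haveI : Subsingleton ((G ⧸ N) ⧸ Subgroup.center (G ⧸ N)) :=
          Finite.card_le_one_iff_subsingleton.1 (by omega)
        infer_instance
      · exact @isCyclic_of_prime_card _ _ 2 ⟨Nat.prime_two⟩ (by omega)
      · exact @isCyclic_of_prime_card _ _ 3 ⟨Nat.prime_three⟩ (by omega)
    have := k_comm (G := G ⧸ N) fun x y =>
      commutative_of_cyclic_center_quotient (QuotientGroup.mk' (Subgroup.center (G ⧸ N)))
        (by rw [QuotientGroup.ker_mk']) x y
    omega
  -- an involution and a conjugate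
  haveI := Fact.mk Nat.prime_two
  obtain ⟨tq, htq⟩ := exists_prime_orderOf_dvd_card' 2 (G := G ⧸ N) (by rw [hQ]; norm_num)
  obtain ⟨t, rfl⟩ := QuotientGroup.mk_surjective tq
  obtain ⟨cq, hcq⟩ : ∃ c : G ⧸ N, c * (t : G ⧸ N) * c⁻¹ ≠ (t : G ⧸ N) := by
    by_contra hall
    push Not at hall
    have h1' : (t : G ⧸ N) ∈ Subgroup.center (G ⧸ N) :=
      Subgroup.mem_center_iff.2 fun c => mul_inv_eq_iff_eq_mul.1 (hall c)
    rw [hZ, Subgroup.mem_bot] at h1'
    rw [h1', orderOf_one] at htq
    omega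
  obtain ⟨c, rfl⟩ := QuotientGroup.mk_surjective cq
  set t' := c * t * c⁻¹ with ht'
  have ho2 : ∀ s : G, orderOf (s : G ⧸ N) = 2 → 3 ≤ (ConjClasses.mk (s : G ⧸ N)).carrier.ncard := by
    intro s hs
    have h1' : (ConjClasses.mk (s : G ⧸ N)).carrier.ncard
        = (Subgroup.centralizer {(s : G ⧸ N)}).index := by
      rw [← ConjAct.orbit_eq_carrier_conjClasses, ← MulAction.index_stabilizer,
        ConjAct.stabilizer_eq_centralizer]
      rfl
    have hmul := (Subgroup.centralizer {(s : G ⧸ N)}).card_mul_index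
    have hne : Subgroup.centralizer {(s : G ⧸ N)} ≠ ⊤ := by
      intro htop
      have : (s : G ⧸ N) ∈ Subgroup.center (G ⧸ N) := Subgroup.mem_center_iff.2 fun x =>
        (Subgroup.mem_centralizer_singleton_iff.1 (htop ▸ Subgroup.mem_top x))
      rw [hZ, Subgroup.mem_bot] at this
      rw [this, orderOf_one] at hs
      omega
    have hi1 : (Subgroup.centralizer {(s : G ⧸ N)}).index ≠ 1 :=
      fun e => hne (Subgroup.index_eq_one.1 e)
    have h2' : 2 ∣ Nat.card (Subgroup.centralizer {(s : G ⧸ N)}) := by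
      rw [← hs, ← Nat.card_zpowers]
      refine Subgroup.card_dvd_of_le (Subgroup.zpowers_le.2 ?_)
      exact Subgroup.mem_centralizer_singleton_iff.2 rfl
    obtain ⟨j, hj⟩ := h2'
    rw [hQ, hj] at hmul
    rw [h1']
    rcases Nat.lt_or_ge (Subgroup.centralizer {(s : G ⧸ N)}).index 3 with hlt | hge
    · have : (Subgroup.centralizer {(s : G ⧸ N)}).index = 0 ∨
          (Subgroup.centralizer {(s : G ⧸ N)}).index = 2 := by omega
      rcases this with e | e <;> rw [e] at hmul <;> omega
    · exact hge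
  -- both invert `N`
  have hinv : ∀ s : G, orderOf (s : G ⧸ N) = 2 → ∀ n ∈ N, s * n * s⁻¹ = n⁻¹ := by
    intro s hs n hn
    have hsN : s ∉ N := fun e => by
      rw [(QuotientGroup.eq_one_iff s).2 e, orderOf_one] at hs; omega
    have hC : Nat.card (Subgroup.centralizer {s}) ≤ 2 := by
      have h1' := hcent s hsN
      have h2' := ho2 s hs
      nlinarith
    have hmem : ∀ x : G, x * s = s * x → x = 1 ∨ x = s := by
      intro x hx
      by_contra hne
      push Not at hne
      have : ({1, s, x} : Set G) ⊆ Subgroup.centralizer {s} := by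
        intro y hy
        rcases hy with rfl | rfl | rfl
        · exact one_mem _
        · exact Subgroup.mem_centralizer_singleton_iff.2 rfl
        · exact Subgroup.mem_centralizer_singleton_iff.2 hx
      have h2' := Set.ncard_le_ncard this (Set.toFinite _)
      rw [← Nat.card_coe_set_eq (Subgroup.centralizer {s} : Set G)] at h2'
      have h3' : ({1, s, x} : Set G).ncard = 3 := by
        rw [Set.ncard_eq_three]
        exact ⟨1, s, x, fun e => hsN (e ▸ one_mem N), fun e => hne.1 e.symm,
          fun e => hne.2 e.symm, rfl⟩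
      simp only [SetLike.coe_sort_coe] at h2'
      omega
    have hs2 : s * s = 1 := by
      rcases hmem (s * s) (mul_assoc _ _ _) with e | e
      · exact e
      · exact absurd ((mul_eq_right.1 e).symm ▸ one_mem N) hsN
    have hsi : s⁻¹ = s := inv_eq_of_mul_eq_one_left hs2
    have hsn : s * n * s⁻¹ ∈ N := hN.conj_mem n hn s
    have hcomm := N.mul_mem hn hsn
    have hx : n * (s * n * s⁻¹) * s = s * (n * (s * n * s⁻¹)) := by
      calc n * (s * n * s⁻¹) * s = (s * n * s⁻¹) * n * s := by rw [habN n hn _ hsn]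
        _ = s * (n * (s⁻¹ * n * s)) := by group
        _ = _ := by rw [hsi]
    rcases hmem _ hx with e | e
    · exact (eq_inv_of_mul_eq_one_right e)
    · exact absurd (e ▸ hcomm) hsN
  have ht'o : orderOf (t' : G ⧸ N) = 2 := by
    rw [ht', QuotientGroup.mk_mul, QuotientGroup.mk_mul, QuotientGroup.mk_inv, ← MulAut.conj_apply,
      ← htq]
    exact orderOf_injective (MulAut.conj (c : G ⧸ N)).toMonoidHom (MulEquiv.injective _) _
  set x := t' * t with hx
  have hxN : x ∉ N := fun e => hcq (by
    have e' : (x : G ⧸ N) = 1 := (QuotientGroup.eq_one_iff x).2 e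
    rw [hx, QuotientGroup.mk_mul, mul_eq_one_iff_eq_inv] at e'
    rw [ht', QuotientGroup.mk_mul, QuotientGroup.mk_mul, QuotientGroup.mk_inv] at e'
    rw [e']
    exact inv_eq_of_mul_eq_one_left (by rw [← pow_two, ← htq, pow_orderOf_eq_one]))
  have hxn : ∀ n ∈ N, n * x = x * n := by
    intro n hn
    have e1 := hinv t htq n hn
    have e2 := hinv t' ht'o n⁻¹ (inv_mem hn)
    rw [inv_inv] at e2
    have : x * n * x⁻¹ = n := by
      calc x * n * x⁻¹ = t' * (t * n * t⁻¹) * t'⁻¹ := by rw [hx]; group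
        _ = n := by rw [e1, e2]
    exact (mul_inv_eq_iff_eq_mul.1 this).symm
  have hsub : insert x (N : Set G) ⊆ Subgroup.centralizer {x} := by
    intro y hy
    rcases hy with rfl | hy
    · exact Subgroup.mem_centralizer_singleton_iff.2 rfl
    · exact Subgroup.mem_centralizer_singleton_iff.2 (hxn y hy)
  have h9 := Set.ncard_le_ncard hsub (Set.toFinite _)
  rw [Set.ncard_insert_of_notMem hxN, ← Nat.card_coe_set_eq, ← Nat.card_coe_set_eq] at h9
  have h10 := hcent x hxN
  have h11 : 2 ≤ (ConjClasses.mk (x : G ⧸ N)).carrier.ncard := by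
    obtain ⟨y, hy⟩ : ∃ y : G ⧸ N, y * (x : G ⧸ N) * y⁻¹ ≠ (x : G ⧸ N) := by
      by_contra hall
      push Not at hall
      have h1' : (x : G ⧸ N) ∈ Subgroup.center (G ⧸ N) :=
        Subgroup.mem_center_iff.2 fun d => mul_inv_eq_iff_eq_mul.1 (hall d)
      rw [hZ, Subgroup.mem_bot] at h1'
      exact hxN ((QuotientGroup.eq_one_iff x).1 h1')
    exact (Set.one_lt_ncard).2 ⟨_, ConjClasses.mem_carrier_mk, y * (x : G ⧸ N) * y⁻¹,
      ConjClasses.mem_carrier_iff_mk_eq.2 (ConjClasses.mk_eq_mk_iff_isConj.2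
        (isConj_iff.2 ⟨y, rfl⟩).symm), fun e => hy e.symm⟩
  have h12 : Nat.card (Subgroup.centralizer {x}) * 2 ≤ 6 :=
    (Nat.mul_le_mul_left _ h11).trans h10
  simp only [SetLike.coe_sort_coe] at h9
  omega

end Cfsg.Agent.KGBound86
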