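import Mathlib
import Cfsg.Agent.Lib.KGBound86CR
import Cfsg.Agent.Lib.KGBound86Small
import Cfsg.Agent.Lib.KGBound86Octa

/-!
`|H| / k(H)` for irreducible solvable linear groups over a prime field with at least eleven elements.
-/

set_option autoImplicit false

namespace Cfsg.Agent.KGBound86

open Cfsg.Agent.OddBase75

universe v

/-- One hundred times the bound for `|H| / k(H)`. -/
def bnd (p n : ℕ) : ℕ :=
  if n ≤ 1 then 100 else if n = 2 then 800 else if n = 3 then 8100 else 599 * p ^ (n - 2)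

theorem bnd_ge_four {p n : ℕ} (hn : 4 ≤ n) : bnd p n = 599 * p ^ (n - 2) := by
  rw [bnd, if_neg (by omega), if_neg (by omega), if_neg (by omega)]

theorem RB.rescale {G : Type*} [Group G] {a b a' b' : ℕ} (h : RB G a b) (ha : 0 < a)
    (h' : b * a' ≤ b' * a) : RB G a' b' := by
  refine Nat.le_of_mul_le_mul_left ?_ ha
  calc a * (a' * Nat.card G) = a' * (a * Nat.card G) := by ring
    _ ≤ a' * (b * Nat.card (ConjClasses G)) := Nat.mul_le_mul_left _ h
    _ = b * a' * Nat.card (ConjClasses G) := by ring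
    _ ≤ b' * a * Nat.card (ConjClasses G) := Nat.mul_le_mul_right _ h'
    _ = _ := by ring

theorem comm_of_prime_card {H W : Type*} [Group H] [AddCommGroup W] [DistribMulAction H W]
    [FaithfulSMul H W] {p : ℕ} [Fact p.Prime] (hW : Nat.card W = p) (g h : H) : g * h = h * g := by
  haveI := isAddCyclic_of_prime_card hW
  obtain ⟨x, hx⟩ := IsAddCyclic.exists_generator (α := W)
  refine eq_of_smul_eq_smul (α := W) fun y => ?_
  obtain ⟨i, rfl⟩ := hx y
  obtain ⟨a, ha⟩ := hx (g • x)
  obtain ⟨b, hb⟩ := hx (h • x)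
  simp only at ha hb ⊢
  have e1 : g • h • x = b • a • x := by rw [← hb, smul_comm g b, ← ha]
  have e2 : h • g • x = a • b • x := by rw [← ha, smul_comm h a, ← hb]
  rw [mul_smul, mul_smul, smul_comm h i, smul_comm g i, smul_comm g i, smul_comm h i, e1, e2,
    smul_comm b a]

theorem nine_pow_le : ∀ k, 5 ≤ k → 100 * (3 ^ (k - 1)) ^ 2 ≤ 599 * 11 ^ (k - 2) := by
  intro k hk
  induction k, hk using Nat.le_induction with
  | base => norm_num
  | succ n hn ih =>
    rw [show n + 1 - 1 = (n - 1) + 1 by omega, show n + 1 - 2 = (n - 2) + 1 by omega, pow_succ 3,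
      pow_succ 11, mul_pow]
    calc 100 * ((3 ^ (n - 1)) ^ 2 * 3 ^ 2) = 100 * (3 ^ (n - 1)) ^ 2 * 9 := by ring
      _ ≤ 599 * 11 ^ (n - 2) * 11 := Nat.mul_le_mul ih (by norm_num)
      _ = _ := by ring

theorem eight_nine_le : ∀ k, 2 ≤ k → 100 * (8 ^ k * 9 ^ (k - 1)) ≤ 599 * 11 ^ (2 * k - 2) := by
  intro k hk
  induction k, hk using Nat.le_induction with
  | base => norm_num
  | succ n hn ih =>
    rw [show n + 1 - 1 = (n - 1) + 1 by omega, show 2 * (n + 1) - 2 = (2 * n - 2) + 2 by omega,
      pow_succ 8, pow_succ 9, pow_add]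
    calc 100 * (8 ^ n * 8 * (9 ^ (n - 1) * 9)) = 100 * (8 ^ n * 9 ^ (n - 1)) * 72 := by ring
      _ ≤ 599 * 11 ^ (2 * n - 2) * 121 := Nat.mul_le_mul ih (by norm_num)
      _ = _ := by ring

theorem sq_le : ∀ n, 4 ≤ n → 100 * n ^ 2 ≤ 599 * 11 ^ (n - 2) := by
  intro n hn
  induction n, hn using Nat.le_induction with
  | base => norm_num
  | succ m hm ih =>
    rw [show m + 1 - 2 = (m - 2) + 1 by omega, pow_succ 11]
    calc 100 * (m + 1) ^ 2 ≤ 100 * m ^ 2 * 11 := by nlinarith
      _ ≤ 599 * 11 ^ (m - 2) * 11 := Nat.mul_le_mul_right _ ih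
      _ = _ := by ring

theorem sq_le' : ∀ f, 2 ≤ f → f ^ 2 ≤ 4 * 11 ^ (f - 2) := by
  intro f hf
  induction f, hf using Nat.le_induction with
  | base => norm_num
  | succ m hm ih =>
    rw [show m + 1 - 2 = (m - 2) + 1 by omega, pow_succ 11]
    nlinarith

/-- Bound for the group induced on a section of order `e ^ 2`. -/
def secBound (e : ℕ) : ℕ := if e = 4 then 72 else if e = 8 then 1296 else spBound e

theorem secBound_le_eleven {e : ℕ} (he : 9 ≤ e) : e * e * secBound e ≤ 11 ^ (e - 2) := by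
  rw [secBound, if_neg (by omega), if_neg (by omega), ← pow_two]
  exact eleven_le e he

theorem val_linear {e w : ℕ} (he : 2 ≤ e) (hew : e ≤ w) (hw : 4 ≤ w) (h44 : ¬ (e = 4 ∧ w = 4)) :
    100 * (e * e * secBound e) ≤ 599 * 11 ^ (w - 2) := by
  by_cases h9 : 9 ≤ e
  · calc 100 * (e * e * secBound e) ≤ 599 * (e * e * secBound e) :=
          Nat.mul_le_mul_right _ (by norm_num)
      _ ≤ 599 * 11 ^ (e - 2) := Nat.mul_le_mul_left _ (secBound_le_eleven h9)
      _ ≤ _ := Nat.mul_le_mul_left _ (Nat.pow_le_pow_right (by norm_num) (by omega))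
  have hmono : ∀ j, j ≤ w - 2 → ∀ v, v ≤ 599 * 11 ^ j → v ≤ 599 * 11 ^ (w - 2) := fun j hj v hv =>
    hv.trans (Nat.mul_le_mul_left _ (Nat.pow_le_pow_right (by norm_num) hj))
  interval_cases e
  · exact hmono 2 (by omega) _ (by decide)
  · exact hmono 2 (by omega) _ (by decide)
  · exact hmono 3 (by omega) _ (by decide)
  · exact hmono 3 (by omega) _ (by decide)
  · exact hmono 4 (by omega) _ (by decide)
  · exact hmono 5 (by omega) _ (by decide)
  · exact hmono 6 (by omega) _ (by decide)

theorem val_field {e : ℕ} (he : 2 ≤ e) : 400 * (e * e * secBound e) ≤ 599 * 11 ^ e := by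
  by_cases h9 : 9 ≤ e
  · calc 400 * (e * e * secBound e) ≤ 599 * (e * e * secBound e) :=
          Nat.mul_le_mul_right _ (by norm_num)
      _ ≤ 599 * 11 ^ (e - 2) := Nat.mul_le_mul_left _ (secBound_le_eleven h9)
      _ ≤ _ := Nat.mul_le_mul_left _ (Nat.pow_le_pow_right (by norm_num) (by omega))
  interval_cases e <;> decide

section Prim

variable {G V : Type v} [Group G] [Finite G] [Group.IsSolvable G] [AddCommGroup V] [Finite V]
  [DistribMulAction G V] [FaithfulSMul G V] [Nontrivial V] {P : Prim G V} (S : Symp P)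

theorem sec_le {e : ℕ} (he : Nat.card S.M = e * e) (hm : Nat.card (secHom S).range ≤ spBound e) :
    Nat.card (secHom S).range ≤ secBound e := by
  unfold secBound
  split_ifs with h4 h8
  · exact section_small S (j := 4) (by norm_num) (by rw [he, h4]; norm_num)
  · exact section_small S (j := 6) le_rfl (by rw [he, h8]; norm_num)
  · exact hm

/-- The bound for `|G| / k(G)` from a bound on the section. -/
theorem prim_RB {B : ℕ}
    (h : 100 * (Nat.card S.M * Nat.card (secHom S).range) * dimK P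
      ≤ B * (dimK P + Nat.card (ConjClasses (P.C ⧸ P.A.subgroupOf P.C)) - 1)) :
    RB G 100 (B * P.C.index ^ 2) := by
  refine RB.of_index P.C ?_
  refine Nat.le_of_mul_le_mul_right ?_ (dimK_pos P)
  have hk := k_C_ge P
  set w := dimK P
  set kb := Nat.card (ConjClasses (P.C ⧸ P.A.subgroupOf P.C))
  calc 100 * Nat.card P.C * w
      = Nat.card P.A * (100 * (Nat.card S.M * Nat.card (secHom S).range) * w) := by
        rw [card_C S]; ring
    _ ≤ Nat.card P.A * (B * (w + kb - 1)) := Nat.mul_le_mul_left _ h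
    _ = B * (Nat.card P.A * (w + kb - 1)) := by ring
    _ ≤ B * (w * Nat.card (ConjClasses P.C)) := Nat.mul_le_mul_left _ hk
    _ = _ := by ring

theorem prim_crude :
    RB G 100 (100 * (Nat.card S.M * Nat.card (secHom S).range) * P.C.index ^ 2) := by
  refine RB.of_index P.C ?_
  calc 100 * Nat.card P.C
      = 100 * (Nat.card S.M * Nat.card (secHom S).range) * Nat.card P.A := by rw [card_C S]; ring
    _ ≤ _ := Nat.mul_le_mul_left _ (card_A_le_k P)

theorem prim_one (hM : Nat.card S.M = 1) (hm : Nat.card (secHom S).range ≤ spBound 1) :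
    RB G 100 (100 * P.C.index ^ 2) := by
  refine (prim_crude S).mono (Nat.mul_le_mul_right _ ?_)
  rw [hM]
  have : spBound 1 = 1 := by decide
  omega

/-- The case of the section of order four in dimension two. -/
theorem prim_two (hl : P.C.index = 1) (hw : dimK P = 2) (he : Nat.card S.M = 4)
    (hm : Nat.card (secHom S).range ≤ 6) :
    RB G 100 594 ∨ Nat.card G = 24 * Nat.card P.A ∧
      4 * Nat.card P.A ≤ Nat.card (ConjClasses G) := by
  haveI : Group.IsSolvable (secHom S).range :=
    Group.isSolvable_of_surjective (secHom S).rangeRestrict_surjective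
  have hkR := k_quot_C S (by omega)
  have hQ := card_quot_C S
  rw [he] at hQ
  have hpos : 0 < Nat.card (secHom S).range := Nat.card_pos
  have hkpos := k_pos (secHom S).range
  by_cases h6 : Nat.card (secHom S).range = 6 ∧ 5 ≤ Nat.card (ConjClasses (P.C ⧸ P.A.subgroupOf P.C))
  · right
    rw [h6.1] at hQ
    let K : Subgroup (P.C ⧸ P.A.subgroupOf P.C) :=
      (S.E.subgroupOf P.C).map (QuotientGroup.mk' (P.A.subgroupOf P.C))
    haveI : (S.E.subgroupOf P.C).Normal := inferInstance
    haveI : K.Normal := Subgroup.Normal.map inferInstance _ (QuotientGroup.mk'_surjective _)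
    have hK : Nat.card K = 4 := by
      have h1 := Subgroup.card_eq_card_quotient_mul_card_subgroup
        ((P.A.subgroupOf P.C).subgroupOf (S.E.subgroupOf P.C))
      have hle : P.A.subgroupOf P.C ≤ S.E.subgroupOf P.C := fun a ha => S.le ha
      rw [Nat.card_congr (Subgroup.subgroupOfEquivOfLe hle).toEquiv, card_A_sub,
        Nat.card_congr (Subgroup.subgroupOfEquivOfLe (show S.E ≤ P.C from S.le_C)).toEquiv] at h1
      have h2 := Subgroup.card_eq_card_quotient_mul_card_subgroup (P.A.subgroupOf S.E)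
      rw [Nat.card_congr (Subgroup.subgroupOfEquivOfLe S.le).toEquiv] at h2
      have h3 : Nat.card K * Nat.card P.A = Nat.card S.E := by
        have h4 := (((QuotientGroup.mk' (P.A.subgroupOf P.C)).comp
          (S.E.subgroupOf P.C).subtype)).ker.card_mul_index
        rw [Subgroup.index_ker, MonoidHom.range_comp, Subgroup.range_subtype,
          Nat.card_congr (Subgroup.subgroupOfEquivOfLe (show S.E ≤ P.C from S.le_C)).toEquiv] at h4
        rw [← h4, mul_comm]
        congr 1
        rw [← MonoidHom.comap_ker, QuotientGroup.ker_mk']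
        exact ((Nat.card_congr (Subgroup.subgroupOfEquivOfLe hle).toEquiv).trans (card_A_sub P)).symm
      rw [h2, show Nat.card (S.E ⧸ P.A.subgroupOf S.E) = 4 from he] at h3
      exact Nat.eq_of_mul_eq_mul_right Nat.card_pos h3
    have hexp : ∀ y ∈ K, y * y = 1 := by
      rintro _ ⟨y, hy, rfl⟩
      have h4 : (((⟨(y : G), hy⟩ : S.E) : S.M)) ^ 4 = 1 := by rw [← he]; exact pow_card_eq_one'
      have h2 := sq_free S 2 _ Nat.prime_two h4
      rw [← QuotientGroup.mk_pow, S.mk_eq_one, pow_two] at h2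
      rw [← map_mul, QuotientGroup.mk'_apply, QuotientGroup.eq_one_iff]
      exact h2
    have hcen : ∀ x : P.C ⧸ P.A.subgroupOf P.C, (∀ y ∈ K, x * y = y * x) → x ∈ K := by
      intro x hx
      obtain ⟨c, rfl⟩ := QuotientGroup.mk_surjective x
      refine ⟨c, S.mem_E_of_central c.2 fun y hy => ?_, rfl⟩
      have h := hx _ ⟨⟨y, S.le_C hy⟩, hy, rfl⟩
      rw [QuotientGroup.mk'_apply, ← QuotientGroup.mk_mul, ← QuotientGroup.mk_mul,
        QuotientGroup.eq, Subgroup.mem_subgroupOf] at h
      have h' := P.normal.conj_mem _ h ((c : G) * y)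
      have h'' := inv_mem h'
      simp only [Subgroup.coe_mul, Subgroup.coe_inv] at h''
      rw [commutatorElement_def]
      convert h'' using 1
      simp only [Subgroup.coe_subtype]
      group
    obtain ⟨g, u, hg, hu, hgood, hugood⟩ := exists_selfPow K (by rw [hQ]) hK hexp hcen
    have hd : ∀ x : P.C, (commSet (P.A.subgroupOf P.C) x).ncard ≤ 2 := hw ▸ commSet_le P
    have h4 := four_z_le (P.A.subgroupOf P.C) (A_central P) hd g u hg hu hgood hugood h6.2
    rw [card_A_sub] at h4
    have htop : P.C = ⊤ := Subgroup.index_eq_one.1 hl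
    let e : P.C ≃* G := (MulEquiv.subgroupCongr htop).trans Subgroup.topEquiv
    rw [← k_congr e, ← Nat.card_congr e.toEquiv, card_C S, he, h6.1]
    exact ⟨by ring, h4⟩
  left
  refine (prim_RB S (B := 594) ?_).mono (by rw [hl]; norm_num)
  rw [hw, he]
  set m := Nat.card (secHom S).range with hmdef
  set kb := Nat.card (ConjClasses (P.C ⧸ P.A.subgroupOf P.C)) with hkb
  set kR := Nat.card (ConjClasses (secHom S).range) with hkRdef
  have hk12 : kb ≤ 4 → 4 * m ≤ 12 := fun h => hQ ▸ card_le_twelve (G := P.C ⧸ P.A.subgroupOf P.C) h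
  have hR3 : kR ≤ 3 → m = kR ∨ m = 6 ∧ kR = 3 := fun h => card_of_k_le_three (G := (secHom S).range) h
  have hR4 : kR ≤ 4 → m ≤ 12 := fun h => card_le_twelve (G := (secHom S).range) h
  have h5 : m = 5 → 5 ≤ kR := by
    intro h
    haveI := Fact.mk (by norm_num : Nat.Prime 5)
    have hc : IsCyclic (secHom S).range := isCyclic_of_prime_card h
    rw [hkRdef, k_comm fun a b => (IsCyclic.commGroup.mul_comm a b)]
    omega
  rcases Nat.lt_or_ge kb 5 with hkb5 | hkb5
  · have := hk12 (by omega)
    interval_cases m <;> omega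
  · interval_cases m <;> omega

end Prim

variable {p : ℕ}

/-- The general bound. -/
theorem rb_bound (hp : p.Prime) (hp11 : 11 ≤ p) : ∀ n, ∀ (H W : Type v) [Group H] [Finite H]
    [Group.IsSolvable H] [AddCommGroup W] [Finite W] [DistribMulAction H W] [FaithfulSMul H W],
    1 ≤ n → Irred H W → Nat.card W = p ^ n → RB H 100 (bnd p n) := by
  intro n
  induction n using Nat.strong_induction_on with
  | _ n IH =>
  intro H W _ _ _ _ _ _ _ hn hirr hW
  haveI := Fact.mk hp
  haveI : Nontrivial W := Finite.one_lt_card_iff_nontrivial.1 (by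
    rw [hW]; exact Nat.one_lt_pow (by omega) hp.one_lt)
  by_cases h1 : n = 1
  · subst h1
    rw [pow_one] at hW
    exact RB.of_comm (comm_of_prime_card hW) 100
  have hn2 : 2 ≤ n := by omega
  have hp2 : ∀ j, 11 ^ j ≤ p ^ j := fun j => Nat.pow_le_pow_left hp11 j
  rcases blocks_or_prim hirr with ⟨Ω, _, _, B, hΩ⟩ | ⟨⟨P⟩⟩
  · obtain ⟨k, d, t, hk, hd, hV, -, ht3, htf, hrb, -⟩ := blocks_bound hirr B hΩ
    rw [hW] at hV
    obtain ⟨w, -, rfl⟩ := (Nat.dvd_prime_pow hp).1 (hV ▸ dvd_pow_self d (show k ≠ 0 by omega))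
    rw [← pow_mul] at hV
    have hn' := Nat.pow_right_injective hp.two_le hV
    subst hn'
    have hw : 1 ≤ w := by
      rcases Nat.eq_zero_or_pos w with rfl | h
      · simp at hd
      · exact h
    have h := hrb 100 (bnd p w) fun H' W' _ _ _ _ _ _ _ hirr' hW' =>
      IH w (by nlinarith) H' W' hw hirr' hW'
    refine h.rescale (by positivity) ?_
    rcases Nat.lt_or_ge w 2 with hw1 | hw2
    · obtain rfl : w = 1 := by omega
      rw [one_mul, show bnd p 1 = 100 from rfl, mul_assoc, mul_comm (bnd p k)]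
      refine Nat.mul_le_mul_left _ ?_
      rcases Nat.lt_or_ge k 5 with hk5 | hk5
      · interval_cases k
        · have : t ≤ 2 := htf
          show t ^ 2 * 100 ≤ 800
          nlinarith
        · have : t ≤ 6 := htf
          show t ^ 2 * 100 ≤ 8100
          nlinarith
        · have : t ≤ 24 := htf
          rw [bnd_ge_four le_rfl]
          have := hp2 2
          show t ^ 2 * 100 ≤ 599 * p ^ 2
          nlinarith
      · rw [bnd_ge_four (by omega), mul_comm]
        calc 100 * t ^ 2 ≤ 100 * (3 ^ (k - 1)) ^ 2 :=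
              Nat.mul_le_mul_left _ (Nat.pow_le_pow_left ht3 2)
          _ ≤ 599 * 11 ^ (k - 2) := nine_pow_le k hk5
          _ ≤ _ := Nat.mul_le_mul_left _ (hp2 _)
    · have hb : bnd p w ≤ 800 * p ^ (w - 2) := by
        unfold bnd
        rw [if_neg (by omega)]
        split_ifs with h2 h3
        · subst h2; norm_num
        · subst h3; norm_num; omega
        · exact Nat.mul_le_mul_right _ (by norm_num)
      have ht2 : t ^ 2 ≤ 9 ^ (k - 1) := by
        refine (Nat.pow_le_pow_left ht3 2).trans (le_of_eq ?_)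
        rw [← pow_mul, mul_comm, pow_mul]
        norm_num
      rw [bnd_ge_four (show 4 ≤ w * k by nlinarith)]
      calc bnd p w ^ k * t ^ 2 * 100
          ≤ (800 * p ^ (w - 2)) ^ k * 9 ^ (k - 1) * 100 :=
            Nat.mul_le_mul_right _ (Nat.mul_le_mul (Nat.pow_le_pow_left hb k) ht2)
        _ = 100 * (8 ^ k * 9 ^ (k - 1)) * p ^ ((w - 2) * k) * 100 ^ k := by
            rw [show (800 : ℕ) = 8 * 100 by norm_num, mul_pow, mul_pow, ← pow_mul]
            ring
        _ ≤ 599 * 11 ^ (2 * k - 2) * p ^ ((w - 2) * k) * 100 ^ k :=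
            Nat.mul_le_mul_right _ (Nat.mul_le_mul_right _ (eight_nine_le k hk))
        _ ≤ 599 * p ^ (2 * k - 2) * p ^ ((w - 2) * k) * 100 ^ k :=
            Nat.mul_le_mul_right _ (Nat.mul_le_mul_right _ (Nat.mul_le_mul_left _ (hp2 _)))
        _ = 599 * p ^ (w * k - 2) * 100 ^ k := by
            rw [mul_assoc 599, ← pow_add]
            congr 2
            congr 1
            obtain ⟨w', rfl⟩ : ∃ w', w = w' + 2 := ⟨w - 2, by omega⟩
            rw [Nat.add_sub_cancel, add_mul]
            omega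
  obtain ⟨S⟩ := exists_symp P
  obtain ⟨f, hf, hn', hf1, hl⟩ := field_data P hp hW
  obtain ⟨e, he, he1, hew, hm, -⟩ := section_data S
  have hl2 : P.C.index ^ 2 ≤ f ^ 2 := Nat.pow_le_pow_left hl 2
  have hw1 := dimK_pos P
  rcases Nat.lt_or_ge e 2 with he2 | he2
  · obtain rfl : e = 1 := by omega
    refine (prim_one S (by rw [he]) hm).mono ?_
    have hfn : f ≤ n := by rw [hn']; exact Nat.le_mul_of_pos_right f hw1
    have hsq : f ^ 2 ≤ n ^ 2 := Nat.pow_le_pow_left hfn 2
    rcases Nat.lt_or_ge n 4 with hn4 | hn4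
    · interval_cases n
      · show _ ≤ 800; omega
      · show _ ≤ 8100; omega
    · rw [bnd_ge_four hn4]
      calc 100 * P.C.index ^ 2 ≤ 100 * n ^ 2 := Nat.mul_le_mul_left _ (hl2.trans hsq)
        _ ≤ 599 * 11 ^ (n - 2) := sq_le n hn4
        _ ≤ _ := Nat.mul_le_mul_left _ (hp2 _)
  have hsec := sec_le S he hm
  haveI : Group.IsSolvable (secHom S).range :=
    Group.isSolvable_of_surjective (secHom S).rangeRestrict_surjective
  have hM1 : 1 < Nat.card S.M := by rw [he]; nlinarith
  have hkR := k_quot_C S hM1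
  have hQ := card_quot_C S
  have hk12 := fun h => hQ ▸ card_le_twelve (G := P.C ⧸ P.A.subgroupOf P.C) h
  have hR12 := fun h => card_le_twelve (G := (secHom S).range) h
  have hcrude : RB H 100 (100 * (e * e * secBound e) * f ^ 2) := (prim_crude S).mono
    (Nat.mul_le_mul (Nat.mul_le_mul_left _ (by rw [he]; exact Nat.mul_le_mul_left _ hsec)) hl2)
  have hkR1 := k_pos (secHom S).range
  rcases Nat.lt_or_ge n 4 with hn4 | hn4
  · have hfw : f = 1 ∧ dimK P = n := by
      rcases Nat.lt_or_ge f 2 with hf2 | hf2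
      · obtain rfl : f = 1 := by omega
        exact ⟨rfl, by rw [hn', one_mul]⟩
      · exfalso; nlinarith
    obtain ⟨rfl, hwn⟩ := hfw
    have hl1 : P.C.index = 1 := by
      have := Subgroup.index_ne_zero_of_finite (H := P.C); omega
    interval_cases n
    · -- dimension two
      obtain rfl : e = 2 := by omega
      have hm6 : Nat.card (secHom S).range ≤ 6 := hsec
      rcases prim_two S hl1 hwn he hm6 with h | ⟨hc, hk⟩
      · exact h.mono (by show (594 : ℕ) ≤ 800; norm_num)
      · show 100 * Nat.card H ≤ 800 * Nat.card (ConjClasses H)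
        omega
    · rcases (show e = 2 ∨ e = 3 by omega) with rfl | rfl
      · exact hcrude.mono (by show 100 * (2 * 2 * secBound 2) * 1 ^ 2 ≤ 8100; decide)
      · refine (prim_RB S (B := 8100) ?_).mono (by rw [hl1]; show 8100 * 1 ^ 2 ≤ 8100; norm_num)
        rw [hwn, he]
        rw [he] at hk12
        have hm24 : Nat.card (secHom S).range ≤ 24 := hsec
        by_cases hkR4 : Nat.card (ConjClasses (secHom S).range) ≤ 4
        · have := hR12 hkR4; omega
        · omega
  rw [bnd_ge_four hn4]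
  rcases Nat.lt_or_ge f 2 with hf2 | hf2
  · obtain rfl : f = 1 := by omega
    rw [one_mul] at hn'
    by_cases h44 : e = 4 ∧ dimK P = 4
    · obtain ⟨rfl, hw4⟩ := h44
      have hl1 : P.C.index = 1 := by
        have := Subgroup.index_ne_zero_of_finite (H := P.C); omega
      refine (prim_RB S (B := 599 * p ^ (n - 2)) ?_).mono (by rw [hl1]; simp)
      rw [hw4, he, hn', hw4]
      rw [he] at hk12
      have hm72 : Nat.card (secHom S).range ≤ 72 := hsec
      have hk5 : 5 ≤ Nat.card (ConjClasses (P.C ⧸ P.A.subgroupOf P.C)) := by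
        by_contra hlt
        have := hk12 (by omega)
        have : 0 < Nat.card (secHom S).range := Nat.card_pos
        omega
      have h121 := hp2 2
      calc 100 * (4 * 4 * Nat.card (secHom S).range) * 4 ≤ 100 * (4 * 4 * 72) * 4 := by omega
        _ ≤ 599 * 11 ^ 2 * 8 := by norm_num
        _ ≤ 599 * p ^ (4 - 2) * (4 + Nat.card (ConjClasses (P.C ⧸ P.A.subgroupOf P.C)) - 1) :=
            Nat.mul_le_mul (Nat.mul_le_mul_left _ h121) (by omega)
    · refine hcrude.mono ?_
      rw [one_pow, mul_one, hn']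
      exact (val_linear he2 hew (by omega) h44).trans (Nat.mul_le_mul_left _ (hp2 _))
  · refine hcrude.mono ?_
    have hw2 : 2 ≤ dimK P := by omega
    calc 100 * (e * e * secBound e) * f ^ 2 ≤ 100 * (e * e * secBound e) * (4 * 11 ^ (f - 2)) :=
          Nat.mul_le_mul_left _ (sq_le' f hf2)
      _ = 400 * (e * e * secBound e) * 11 ^ (f - 2) := by ring
      _ ≤ 599 * 11 ^ e * 11 ^ (f - 2) := Nat.mul_le_mul_right _ (val_field he2)
      _ ≤ 599 * 11 ^ (n - 2) := by
          rw [mul_assoc, ← pow_add]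
          refine Nat.mul_le_mul_left _ (Nat.pow_le_pow_right (by norm_num) ?_)
          have : f + dimK P ≤ f * dimK P := by nlinarith
          omega
      _ ≤ _ := Nat.mul_le_mul_left _ (hp2 _)

/-- Dimension two. -/
theorem two_case {H W : Type v} [Group H] [Finite H] [Group.IsSolvable H] [AddCommGroup W] [Finite W]
    [DistribMulAction H W] [FaithfulSMul H W] (hp : p.Prime) (hirr : Irred H W)
    (hW : Nat.card W = p ^ 2) :
    RB H 100 594 ∨ ∃ z : ℕ, z ∣ p - 1 ∧ Nat.card H = 24 * z ∧ 4 * z ≤ Nat.card (ConjClasses H) := by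
  haveI := Fact.mk hp
  haveI : Nontrivial W := Finite.one_lt_card_iff_nontrivial.1 (by
    rw [hW]; exact Nat.one_lt_pow (by norm_num) hp.one_lt)
  rcases blocks_or_prim hirr with ⟨Ω, _, _, B, hΩ⟩ | ⟨⟨P⟩⟩
  · obtain ⟨k, d, t, hk, hd, hV, -, -, htf, hrb, -⟩ := blocks_bound hirr B hΩ
    rw [hW] at hV
    obtain ⟨w, -, rfl⟩ := (Nat.dvd_prime_pow hp).1 (hV ▸ dvd_pow_self d (show k ≠ 0 by omega))
    rw [← pow_mul] at hV
    have hn' := Nat.pow_right_injective hp.two_le hV
    have hw : 1 ≤ w := by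
      rcases Nat.eq_zero_or_pos w with rfl | h
      · simp at hd
      · exact h
    obtain rfl : w = 1 := by nlinarith
    obtain rfl : k = 2 := by omega
    refine Or.inl ((hrb 100 100 fun H' W' _ _ _ _ _ _ _ _ hW' =>
      RB.of_comm (comm_of_prime_card (p := p) (by rw [hW', pow_one])) 100).rescale (by norm_num) ?_)
    have ht : t ≤ 2 := htf
    have ht2 : t ^ 2 ≤ 2 ^ 2 := Nat.pow_le_pow_left ht 2
    norm_num at ht2 ⊢
    omega
  obtain ⟨S⟩ := exists_symp P
  obtain ⟨f, hf, hn', hf1, hl⟩ := field_data P hp hW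
  obtain ⟨e, he, he1, hew, hm, -⟩ := section_data S
  have hl2 : P.C.index ^ 2 ≤ f ^ 2 := Nat.pow_le_pow_left hl 2
  have hw1 := dimK_pos P
  rcases Nat.lt_or_ge e 2 with he2 | he2
  · obtain rfl : e = 1 := by omega
    refine Or.inl ((prim_one S (by rw [he]) hm).mono ?_)
    have hf2 : f ≤ 2 := by rw [hn']; exact Nat.le_mul_of_pos_right f hw1
    have : f ^ 2 ≤ 2 ^ 2 := Nat.pow_le_pow_left hf2 2
    omega
  have hf' : f = 1 := by nlinarith
  subst hf'
  have hw : dimK P = 2 := by omega
  obtain rfl : e = 2 := by omega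
  have hl1 : P.C.index = 1 := by
    have := Subgroup.index_ne_zero_of_finite (H := P.C); omega
  rcases prim_two S hl1 hw he (hm : Nat.card (secHom S).range ≤ 6) with h | ⟨hc, hk⟩
  · exact Or.inl h
  · refine Or.inr ⟨_, ?_, hc, hk⟩
    have := card_A_dvd P hf
    rwa [pow_one] at this

end Cfsg.Agent.KGBound86
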