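import Mathlib
import Cfsg.Agent.Lib.KGBound86Bound

/-!
Abelian normal subgroups spanning fields: the Galois part, and `|C| / k(C)` for their centralisers.
-/

set_option autoImplicit false

namespace Cfsg.Agent.KGBound86

open Module
open Cfsg.Agent.OddBase75

universe v

theorem RB.pi' {ι : Type*} [Fintype ι] {M : ι → Type*} [∀ i, Group (M i)] [∀ i, Finite (M i)]
    {a b : ι → ℕ} (h : ∀ i, RB (M i) (a i) (b i)) : RB (∀ i, M i) (∏ i, a i) (∏ i, b i) := by
  have h1 : Nat.card (ConjClasses (∀ i, M i)) = ∏ i, Nat.card (ConjClasses (M i)) := by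
    have e := commProb_pi M
    rw [commProb_def'] at e
    simp only [commProb_def', Finset.prod_div_distrib, ← Nat.cast_prod, ← Nat.card_pi] at e
    rw [div_left_inj' (Nat.cast_ne_zero.2 Nat.card_pos.ne'), Nat.cast_inj] at e
    rw [e, Nat.card_pi]
  unfold RB
  rw [h1, Nat.card_pi, ← Finset.prod_mul_distrib, ← Finset.prod_mul_distrib]
  exact Finset.prod_le_prod' fun i _ => h i

variable {G V : Type v} [Group G] [Finite G] [AddCommGroup V] [Finite V] [DistribMulAction G V]

/-- The ring spanned by `A` is a field. -/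
def Inv (A : Subgroup G) : Prop :=
  ∀ r ∈ ringOf (V := V) A, r ≠ 0 → ∃ s ∈ ringOf A, r * s = 1

/-- The idempotent of a block. -/
abbrev Blocks.e {Ω : Type v} [MulAction G Ω] (B : Blocks G V Ω) (i : Ω) : AddMonoid.End V := B.π i

/-- Blocks by primitive idempotents of the ring spanned by `A`. -/
theorem exists_blocks_min (hirr : Irred G V) (A : Subgroup G) [A.Normal]
    (hab : ∀ a ∈ A, ∀ b ∈ A, a * b = b * a) (h : ¬ NoIdem (V := V) A) :
    ∃ (Ω : Type v) (_ : MulAction G Ω) (_ : Finite Ω) (B : Blocks G V Ω), 1 < Nat.card Ω ∧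
      (∀ i, B.e i ∈ ringOf (V := V) A) ∧
      ∀ i, ∀ r ∈ ringOf (V := V) A, r * r = r →
        r * B.e i = 0 ∨ r * B.e i = B.e i := by
  classical
  haveI : Finite (AddMonoid.End V) := finite_end
  simp only [NoIdem, not_forall, not_or, exists_prop] at h
  obtain ⟨e₁, he₁R, he₁, he₁0, he₁1⟩ := h
  let P : AddMonoid.End V → Prop := fun e => e ∈ ringOf A ∧ e * e = e ∧ e ≠ 0 ∧ e ≠ 1
  obtain ⟨e, ⟨heR, he, he0, he1⟩, hmin⟩ := Set.exists_min_image {e | P e}
    (fun e => Nat.card (Set.range e)) (Set.toFinite _) ⟨e₁, he₁R, he₁, he₁0, he₁1⟩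
  have hprim : ∀ f ∈ ringOf A, f * f = f → f * e = 0 ∨ f * e = e := by
    intro f hfR hf
    by_cases h0 : f * e = 0
    · exact Or.inl h0
    refine Or.inr ?_
    have hc := ringOf_comm hab hfR heR
    have hid : f * e * (f * e) = f * e := by
      calc f * e * (f * e) = f * (e * f) * e := by simp only [mul_assoc]
        _ = f * (f * e) * e := by rw [hc]
        _ = (f * f) * (e * e) := by simp only [mul_assoc]
        _ = f * e := by rw [hf, he]
    have hne1 : f * e ≠ 1 := fun h1 => he1 (by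
      calc e = (f * e) * e := by rw [h1, one_mul]
        _ = f * e := by rw [mul_assoc, he]
        _ = 1 := h1)
    have hle := hmin (f * e) ⟨mul_mem hfR heR, hid, h0, hne1⟩
    have hsub : Set.range (f * e) ⊆ Set.range e := by
      rintro _ ⟨x, rfl⟩
      exact ⟨f x, by rw [← end_mul_apply, hc]⟩
    have heq : Set.range (f * e) = Set.range e :=
      Set.eq_of_subset_of_ncard_le hsub (by simpa [Nat.card_coe_set_eq] using hle) (Set.toFinite _)
    refine AddMonoidHom.ext fun x => ?_
    obtain ⟨y, hy⟩ : e x ∈ Set.range (f * e) := heq ▸ ⟨x, rfl⟩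
    have h1 := congrArg f hy
    rw [← end_mul_apply, ← end_mul_apply, ← mul_assoc, hf] at h1
    exact h1.symm.trans hy
  let Ω := {f : AddMonoid.End V // ∃ g : G, cj g e = f}
  letI : MulAction G Ω :=
    { smul := fun g f => ⟨cj g f.1, by
        obtain ⟨h, hh⟩ := f.2
        exact ⟨g * h, by rw [cj_mul, hh]⟩⟩
      one_smul := fun f => Subtype.ext (cj_one f.1)
      mul_smul := fun g h f => Subtype.ext (cj_mul g h f.1) }
  have hΩR : ∀ f : Ω, f.1 ∈ ringOf A := fun f => by
    obtain ⟨g, hg⟩ := f.2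
    exact hg ▸ cj_mem g heR
  have hΩi : ∀ f : Ω, f.1 * f.1 = f.1 := fun f => by
    obtain ⟨g, hg⟩ := f.2
    rw [← hg, ← map_mul, he]
  have hΩ0 : ∀ f : Ω, f.1 ≠ 0 := fun f h0 => by
    obtain ⟨g, hg⟩ := f.2
    apply he0
    have := congrArg (cj g⁻¹) (hg.trans h0)
    rwa [← cj_mul, inv_mul_cancel, cj_one, map_zero] at this
  have hprimΩ : ∀ (f : Ω), ∀ r ∈ ringOf A, r * r = r → r * f.1 = 0 ∨ r * f.1 = f.1 := by
    intro f r hr hri
    obtain ⟨g, hg⟩ := f.2
    have h1 : ∀ s : AddMonoid.End V, cj g (cj g⁻¹ s) = s := fun s => by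
      rw [← cj_mul, mul_inv_cancel, cj_one]
    rcases hprim (cj g⁻¹ r) (cj_mem _ hr) (by rw [← map_mul, hri]) with h | h
    · left
      have := congrArg (cj g) h
      rwa [map_mul, h1, map_zero, hg] at this
    · right
      have := congrArg (cj g) h
      rwa [map_mul, h1, hg] at this
  have horth : ∀ f f' : Ω, f ≠ f' → f.1 * f'.1 = 0 := by
    intro f f' hne
    rcases hprimΩ f' f.1 (hΩR f) (hΩi f) with h | h
    · exact h
    rcases hprimΩ f f'.1 (hΩR f') (hΩi f') with h' | h'
    · rw [ringOf_comm hab (hΩR f) (hΩR f'), h']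
    · exact absurd (Subtype.ext (by rw [← h, ringOf_comm hab (hΩR f) (hΩR f'), h'])) hne
  haveI : Fintype Ω := Fintype.ofFinite Ω
  set s : AddMonoid.End V := ∑ f : Ω, f.1 with hsdef
  have hsR : s ∈ ringOf A := Subring.sum_mem _ fun f _ => hΩR f
  have hfs : ∀ f : Ω, f.1 * s = f.1 := fun f => by
    rw [hsdef, Finset.mul_sum, Finset.sum_eq_single f (fun f' _ h => horth f f' h.symm)
      (fun h => absurd (Finset.mem_univ f) h), hΩi]
  have hss : s * s = s := by
    conv_lhs => rw [hsdef, Finset.sum_mul]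
    rw [hsdef]
    exact Finset.sum_congr rfl fun f _ => hfs f
  have hcjs : ∀ g : G, cj g s = s := fun g => by
    rw [hsdef, map_sum]
    exact Fintype.sum_equiv (MulAction.toPerm g) _ _ fun f => rfl
  have hs1 : s = 1 := by
    rcases hirr s.range (fun g x hx => by
      obtain ⟨y, rfl⟩ := hx
      refine ⟨g • y, ?_⟩
      show s (g • y) = g • s y
      rw [smul_end, hcjs]) with h | h
    · exfalso
      apply hΩ0 ⟨e, 1, cj_one e⟩
      have hs0 : s = 0 := AddMonoidHom.ext fun x => by
        have : s x ∈ s.range := ⟨x, rfl⟩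
        rwa [h, AddSubgroup.mem_bot] at this
      rw [← hfs ⟨e, 1, cj_one e⟩, hs0, mul_zero]
    · refine AddMonoidHom.ext fun x => ?_
      obtain ⟨y, hy⟩ : x ∈ s.range := h ▸ AddSubgroup.mem_top x
      show s x = x
      rw [← hy]
      exact DFunLike.congr_fun hss y
  refine ⟨Ω, inferInstance, inferInstance, ⟨fun f => f.1, fun f x => ?_, fun f f' h x => ?_,
    fun x => ?_, fun g f x => smul_end g f.1 x, ?_, fun f => ?_⟩, ?_, hΩR, hprimΩ⟩
  · exact DFunLike.congr_fun (hΩi f) x
  · exact DFunLike.congr_fun (horth f f' h) x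
  · refine ⟨Finset.univ, Finset.mem_univ, ?_⟩
    conv_lhs => rw [show x = s x by rw [hs1]; rfl]
    exact AddMonoidHom.finsetSum_apply _ _ _
  · rintro ⟨_, g, rfl⟩ ⟨_, h, rfl⟩
    refine ⟨h * g⁻¹, Subtype.ext ?_⟩
    show cj (h * g⁻¹) (cj g e) = cj h e
    rw [← cj_mul, inv_mul_cancel_right]
  · by_contra hall
    push Not at hall
    exact hΩ0 f (AddMonoidHom.ext hall)
  · by_contra hall
    push Not at hall
    apply he1
    let o : Ω := ⟨e, 1, cj_one e⟩
    haveI := Finite.card_le_one_iff_subsingleton.1 hall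
    have : s = e := by
      rw [hsdef, Finset.sum_eq_single o (fun f _ hf => absurd (Subsingleton.elim f o) hf)
        (fun h => absurd (Finset.mem_univ o) h)]
    rw [← this, hs1]

namespace Blocks

variable {Ω : Type v} [MulAction G Ω] (B : Blocks G V Ω) {A : Subgroup G}

theorem e_injective : Function.Injective B.e := by
  intro i j h
  by_contra hne
  obtain ⟨x, hx⟩ := B.ne j
  apply hx
  have h1 := B.orth i j hne x
  rw [show B.π i = B.π j from h, B.idem] at h1
  exact h1

/-- What centralises `A` fixes every block cut out in the ring of `A`. -/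
theorem fixes (hmem : ∀ i, B.e i ∈ ringOf (V := V) A) {g : G}
    (hg : g ∈ Subgroup.centralizer (A : Set G)) (i : Ω) : g • i = i := by
  refine B.e_injective (AddMonoidHom.ext fun x => ?_)
  have h1 := cj_eq_self (g := g) (fun a ha => (Subgroup.mem_centralizer_iff.1 hg a ha).symm) (hmem i)
  have h2 : g • B.π i (g⁻¹ • x) = B.π i x := DFunLike.congr_fun h1 x
  rw [B.comp, smul_inv_smul] at h2
  exact h2

/-- The elements of the ring commuting with the idempotent act on the block. -/
def res (R : Subring (AddMonoid.End V)) (i : Ω) (hR : ∀ r ∈ R, r * B.e i = B.e i * r) :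
    R →+* AddMonoid.End (B.blk i) where
  toFun r :=
    { toFun := fun x => ⟨(r : AddMonoid.End V) x.1, (r : AddMonoid.End V) x.1, by
        have h := DFunLike.congr_fun (hR r r.2) x.1
        conv_rhs => rw [← B.mem_blk x.2]
        exact h.symm⟩
      map_zero' := Subtype.ext (map_zero (r : AddMonoid.End V))
      map_add' := fun x y => Subtype.ext (map_add (r : AddMonoid.End V) x.1 y.1) }
  map_one' := AddMonoidHom.ext fun x => Subtype.ext rfl
  map_mul' r s := AddMonoidHom.ext fun x => Subtype.ext rfl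
  map_zero' := AddMonoidHom.ext fun x => Subtype.ext rfl
  map_add' r s := AddMonoidHom.ext fun x => Subtype.ext rfl

theorem res_apply {R : Subring (AddMonoid.End V)} {i : Ω} (hR : ∀ r ∈ R, r * B.e i = B.e i * r)
    (r : R) (x : B.blk i) : ((B.res R i hR r x : B.blk i) : V) = (r : AddMonoid.End V) x.1 := rfl

variable (Z : Subgroup G)

/-- The image of `Z` in the group of a block. -/
def img (i : Ω) : Subgroup (B.act i).range :=
  ((Z.subgroupOf (MulAction.stabilizer G i)).map (B.act i).rangeRestrict)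

theorem img_normal [Z.Normal] (i : Ω) : (B.img Z i).Normal :=
  Subgroup.Normal.map inferInstance _ (B.act i).rangeRestrict_surjective

theorem img_comm (hab : ∀ a ∈ Z, ∀ b ∈ Z, a * b = b * a) (i : Ω) :
    ∀ a ∈ B.img Z i, ∀ b ∈ B.img Z i, a * b = b * a := by
  rintro _ ⟨a, ha, rfl⟩ _ ⟨b, hb, rfl⟩
  rw [← map_mul, ← map_mul]
  exact congrArg _ (Subtype.ext (hab _ ha _ hb))

/-- The ring of the image consists of the restrictions. -/
theorem ring_img {i : Ω} (hZ : ∀ a ∈ Z, a • i = i)
    (hR : ∀ r ∈ ringOf (V := V) Z, r * B.e i = B.e i * r) :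
    ((ringOf (V := B.blk i) (B.img Z i) : Subring (AddMonoid.End (B.blk i)))) =
      (B.res (ringOf Z) i hR).range := by
  refine le_antisymm ?_ ?_
  · refine Subring.closure_le.2 ?_
    rintro _ ⟨_, ⟨a, ha, rfl⟩, rfl⟩
    exact ⟨⟨rho (a : G), rho_mem ha⟩, AddMonoidHom.ext fun x => Subtype.ext rfl⟩
  · rintro _ ⟨⟨r, hr⟩, rfl⟩
    have key : ∀ r ∈ ringOf (V := V) Z, ∃ r' ∈ ringOf (V := B.blk i) (B.img Z i),
        ∀ x : B.blk i, ((r' x : B.blk i) : V) = r x.1 := by
      intro r hr
      induction hr using Subring.closure_induction with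
      | mem y hy =>
        obtain ⟨a, ha, rfl⟩ := hy
        refine ⟨rho ((B.act i).rangeRestrict ⟨a, hZ a ha⟩), rho_mem ⟨⟨a, hZ a ha⟩, ha, rfl⟩,
          fun x => rfl⟩
      | zero => exact ⟨0, zero_mem _, fun x => rfl⟩
      | one => exact ⟨1, one_mem _, fun x => rfl⟩
      | add y z _ _ hy hz =>
        obtain ⟨y', hy', ey⟩ := hy
        obtain ⟨z', hz', ez⟩ := hz
        exact ⟨y' + z', add_mem hy' hz', fun x => (congrArg₂ (· + ·) (ey x) (ez x) : _)⟩
      | neg y _ hy =>
        obtain ⟨y', hy', ey⟩ := hy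
        exact ⟨-y', neg_mem hy', fun x => (congrArg Neg.neg (ey x) : _)⟩
      | mul y z _ _ hy hz =>
        obtain ⟨y', hy', ey⟩ := hy
        obtain ⟨z', hz', ez⟩ := hz
        exact ⟨y' * z', mul_mem hy' hz', fun x => (ey (z' x)).trans (congrArg y (ez x))⟩
    obtain ⟨r', hr', e⟩ := key r hr
    rwa [show B.res (ringOf Z) i hR ⟨r, hr⟩ = r' from
      AddMonoidHom.ext fun x => Subtype.ext (e x).symm]

end Blocks

/-- Field automorphisms fixing a subfield. -/
theorem galois_index_le [Nontrivial V] [FaithfulSMul G V] {A : Subgroup G} [A.Normal]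
    (hab : ∀ a ∈ A, ∀ b ∈ A, a * b = b * a) (hinv : Inv (V := V) A)
    (S : Subring (AddMonoid.End V)) (hS : S ≤ ringOf A) (H' : Subgroup G)
    (hfix : ∀ h ∈ H', ∀ r ∈ S, cj h r = r) :
    ∃ d, Nat.card (ringOf (V := V) A) = Nat.card S ^ d ∧
      (Subgroup.centralizer (A : Set G)).relIndex H' ≤ d := by
  classical
  haveI : Finite (AddMonoid.End V) := finite_end
  have hK : IsField (ringOf (V := V) A) :=
    { exists_pair_ne := ⟨0, 1, fun h => by
        obtain ⟨x, hx⟩ := exists_ne (0 : V)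
        exact hx (DFunLike.congr_fun (congrArg Subtype.val h) x).symm⟩
      mul_comm := fun a b => Subtype.ext (ringOf_comm hab a.2 b.2)
      mul_inv_cancel := fun {a} ha => by
        obtain ⟨s, hs, h⟩ := hinv a a.2 (fun h => ha (Subtype.ext h))
        exact ⟨⟨s, hs⟩, Subtype.ext h⟩ }
  letI := hK.toField
  let S' : Subring (ringOf (V := V) A) := S.comap (ringOf (V := V) A).subtype
  have hcardS : Nat.card S' = Nat.card S := Nat.card_congr
    { toFun := fun x => ⟨(x.1 : AddMonoid.End V), x.2⟩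
      invFun := fun x => ⟨⟨x.1, hS x.2⟩, x.2⟩
      left_inv := fun x => rfl
      right_inv := fun x => rfl }
  haveI : IsDomain S' := inferInstance
  letI : Field S' := (Finite.isField_of_domain S').toField
  refine ⟨Module.finrank S' (ringOf (V := V) A), by
    rw [← hcardS]; exact Module.natCard_eq_pow_finrank, ?_⟩
  let τ : H' → ((ringOf (V := V) A) →ₐ[S'] (ringOf (V := V) A)) := fun c =>
    { toFun := fun r => ⟨cj (c : G) r.1, cj_mem _ r.2⟩
      map_one' := Subtype.ext (map_one (cj (c : G)))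
      map_mul' := fun r s => Subtype.ext (map_mul (cj (c : G)) r.1 s.1)
      map_zero' := Subtype.ext (map_zero (cj (c : G)))
      map_add' := fun r s => Subtype.ext (map_add (cj (c : G)) r.1 s.1)
      commutes' := fun r => Subtype.ext (hfix c c.2 _ r.2) }
  have hinj : Function.Injective fun q : H' ⧸ (Subgroup.centralizer (A : Set G)).subgroupOf H' =>
      τ q.out := by
    intro q q' h
    rw [← QuotientGroup.out_eq' q, ← QuotientGroup.out_eq' q']
    refine QuotientGroup.eq.2 (Subgroup.mem_subgroupOf.2 (Subgroup.mem_centralizer_iff.2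
      fun a ha => eq_of_smul_eq_smul (α := V) fun x => ?_))
    have h1 : ∀ r ∈ ringOf (V := V) A, cj (q.out : G) r = cj (q'.out : G) r := fun r hr =>
      congrArg Subtype.val (DFunLike.congr_fun h (⟨r, hr⟩ : ringOf (V := V) A))
    have h2 : cj (((q.out⁻¹ * q'.out : H') : G)) (rho a : AddMonoid.End V) = rho a := by
      rw [Subgroup.coe_mul, Subgroup.coe_inv, cj_mul, ← h1 _ (rho_mem ha), ← cj_mul, inv_mul_cancel,
        cj_one]
    have h3 := smul_end ((q.out⁻¹ * q'.out : H') : G) (rho a : AddMonoid.End V) x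
    rw [h2] at h3
    rw [mul_smul, mul_smul]
    exact h3.symm
  have h1 := Nat.card_le_card_of_injective _ hinj
  rw [← Subgroup.index_eq_card, Nat.card_eq_fintype_card
    (α := (ringOf (V := V) A) →ₐ[S'] (ringOf (V := V) A))] at h1
  exact h1.trans AlgHom.card_le

theorem sq_le_25 : ∀ d : ℕ, 1 ≤ d → d ^ 2 ≤ 25 ^ (d - 1) := by
  intro d hd
  induction d, hd using Nat.le_induction with
  | base => norm_num
  | succ m hm ih =>
    rw [show m + 1 - 1 = (m - 1) + 1 by omega, pow_succ 25]
    nlinarith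

theorem val_le_25 {e : ℕ} (he : 1 ≤ e) : e * e * secBound e ≤ 25 ^ (e - 1) := by
  by_cases h9 : 9 ≤ e
  · exact (secBound_le_eleven h9).trans ((Nat.pow_le_pow_left (by norm_num) _).trans
      (Nat.pow_le_pow_right (by norm_num) (by omega)))
  interval_cases e <;> decide

/-- The bound for centralisers of subgroups spanning fields. -/
def CentBound (N : ℕ) : Prop :=
  ∀ (G V : Type v) [Group G] [Finite G] [Group.IsSolvable G] [AddCommGroup V] [Finite V]
    [DistribMulAction G V] [FaithfulSMul G V] [Nontrivial V], Nat.card V = N → Irred G V →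
    ∀ (Z : Subgroup G) [Z.Normal], (∀ a ∈ Z, ∀ b ∈ Z, a * b = b * a) → Inv (V := V) Z →
    ∀ w : ℕ, Nat.card V = Nat.card (ringOf (V := V) Z) ^ w →
      RB (Subgroup.centralizer (Z : Set G)) 1 (25 ^ (w - 1))

theorem centBound : ∀ N, CentBound.{v} N := by
  intro N
  induction N using Nat.strong_induction_on with
  | _ N IH =>
  intro G V _ _ _ _ _ _ _ _ hN hirr Z _ hZab hZinv w hw
  classical
  haveI : Finite (AddMonoid.End V) := finite_end
  set q := Nat.card (ringOf (V := V) Z) with hq
  have hq1 : 1 < q := by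
    haveI : Nontrivial (ringOf (V := V) Z) := ⟨⟨0, 1, fun h => by
      obtain ⟨x, hx⟩ := exists_ne (0 : V)
      exact hx (DFunLike.congr_fun (congrArg Subtype.val h) x).symm⟩⟩
    exact Finite.one_lt_card
  obtain ⟨A, ⟨hAn, hab, hZA⟩, hmax⟩ := Set.exists_max_image
    {A : Subgroup G | A.Normal ∧ (∀ a ∈ A, ∀ b ∈ A, a * b = b * a) ∧ Z ≤ A}
    (fun A : Subgroup G => Nat.card A) (Set.toFinite _) ⟨Z, inferInstance, hZab, le_rfl⟩
  haveI := hAn
  have hsub : ringOf (V := V) Z ≤ ringOf A := Subring.closure_mono fun r ⟨a, ha, h⟩ => ⟨a, hZA ha, h⟩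
  set C := Subgroup.centralizer (Z : Set G) with hC
  haveI : C.Normal := inferInstance
  by_cases hno : NoIdem (V := V) A
  · let P : Prim G V :=
      { A := A, normal := hAn, ab := hab
        hmax := fun B hB hAB hBab =>
          (Subgroup.eq_of_le_of_card_ge hAB (hmax B ⟨hB, hBab, hZA.trans hAB⟩)).symm
        inv := fun r hr hr0 => exists_inverse hirr A hab hno hr hr0 }
    obtain ⟨S⟩ := exists_symp P
    obtain ⟨e, he, he1, hew, hm, -⟩ := section_data S
    have hsec := sec_le S he hm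
    obtain ⟨d, hd, hrel⟩ := galois_index_le (V := V) hab
      (fun r hr hr0 => exists_inverse hirr A hab hno hr hr0) (ringOf Z) hsub C
      (fun h hh r hr => cj_eq_self
        (fun a ha => (Subgroup.mem_centralizer_iff.1 hh a ha).symm) hr)
    have hwd : w = d * dimK P := by
      refine Nat.pow_right_injective hq1 ?_
      show q ^ w = q ^ (d * dimK P)
      rw [pow_mul, ← hd, ← hw]
      exact P.card_V
    have hle : P.C ≤ C := Subgroup.centralizer_le hZA
    have hd1 : 1 ≤ d := by
      rcases Nat.eq_zero_or_pos d with h0 | h0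
      · exfalso
        haveI : Nontrivial P.K := ⟨P.isField.exists_pair_ne⟩
        have : 1 < Nat.card P.K := Finite.one_lt_card
        rw [show Nat.card P.K = q ^ d from hd, h0] at this
        simp at this
      · exact h0
    have h1 : RB P.C 1 (25 ^ (dimK P - 1)) := by
      show 1 * Nat.card P.C ≤ _
      rw [one_mul, card_C S, mul_comm, mul_comm (Nat.card P.A), ← mul_assoc]
      refine Nat.mul_le_mul ?_ (card_A_le_k P)
      rw [he, mul_comm (Nat.card (secHom S).range)]
      exact (Nat.mul_le_mul_left _ hsec).trans ((val_le_25 he1).trans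
        (Nat.pow_le_pow_right (by norm_num) (by omega)))
    have h2 := RB.of_index (P.C.subgroupOf C) (h1.congr (Subgroup.subgroupOfEquivOfLe hle))
    refine h2.mono ?_
    have hw1 := dimK_pos P
    calc 25 ^ (dimK P - 1) * (P.C.subgroupOf C).index ^ 2
        ≤ 25 ^ (dimK P - 1) * 25 ^ (d - 1) :=
          Nat.mul_le_mul_left _ ((Nat.pow_le_pow_left hrel 2).trans (sq_le_25 d hd1))
      _ = 25 ^ (dimK P - 1 + (d - 1)) := by rw [← pow_add]
      _ ≤ _ := Nat.pow_le_pow_right (by norm_num) (by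
          rw [hwd]
          obtain ⟨a, ha⟩ : ∃ a, dimK P = a + 1 := ⟨dimK P - 1, by omega⟩
          obtain ⟨b, rfl⟩ : ∃ b, d = b + 1 := ⟨d - 1, by omega⟩
          rw [ha]
          have : (b + 1) * (a + 1) = b * a + a + b + 1 := by ring
          omega)
  obtain ⟨Ω, _, _, B, hΩ, hmem, -⟩ := exists_blocks_min hirr A hab hno
  haveI := Fintype.ofFinite Ω
  have hcomm : ∀ i, ∀ r ∈ ringOf (V := V) Z, r * B.e i = B.e i * r := fun i r hr =>
    ringOf_comm hab (hsub hr) (hmem i)
  have hZfix : ∀ i, ∀ a ∈ Z, a • i = i := fun i a ha => B.fixes hmem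
    (Subgroup.mem_centralizer_iff.2 fun b hb => hab b hb a (hZA ha)) i
  let f : C →* Equiv.Perm Ω := (MulAction.toPermHom G Ω).comp C.subtype
  haveI : Group.IsSolvable f.range := Group.isSolvable_of_surjective f.rangeRestrict_surjective
  haveI : ∀ i, Group.IsSolvable (B.act i).range := fun i =>
    Group.isSolvable_of_surjective (B.act i).rangeRestrict_surjective
  haveI : ∀ i, Finite (B.act i).range := fun i =>
    Finite.of_surjective _ (B.act i).rangeRestrict_surjective
  haveI : ∀ i, FaithfulSMul (B.act i).range (B.blk i) := fun i =>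
    ⟨fun {g h} hgh => Subtype.ext (Units.ext (AddMonoidHom.ext hgh))⟩
  haveI : ∀ i, Nontrivial (B.blk i) := fun i => by
    obtain ⟨x, hx⟩ := B.ne i
    exact ⟨⟨0, zero_mem _⟩, ⟨_, x, rfl⟩, fun e => hx (congrArg Subtype.val e).symm⟩
  haveI : ∀ i, (B.img Z i).Normal := fun i => B.img_normal Z i
  have hresinj : ∀ i, Function.Injective (B.res (ringOf Z) i (hcomm i)) := by
    intro i
    refine (injective_iff_map_eq_zero _).2 fun r hr => ?_
    by_contra hr0
    obtain ⟨s, hs, hrs⟩ := hZinv r r.2 (fun h => hr0 (Subtype.ext h))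
    have hsr : s * r.1 = 1 := by rw [ringOf_comm hZab hs r.2, hrs]
    obtain ⟨x, hx⟩ := B.ne i
    apply hx
    have h0 : (r.1) (B.π i x) = 0 :=
      congrArg Subtype.val (DFunLike.congr_fun hr (⟨B.π i x, x, rfl⟩ : B.blk i))
    have := congrArg s h0
    rw [map_zero, ← end_mul_apply, hsr] at this
    exact this
  have hringcard : ∀ i, Nat.card (ringOf (V := B.blk i) (B.img Z i)) = q := by
    intro i
    rw [B.ring_img Z (hZfix i) (hcomm i)]
    exact (Nat.card_congr
      (Equiv.ofBijective (B.res (ringOf Z) i (hcomm i)).rangeRestrict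
        ⟨fun a b h => hresinj i (congrArg Subtype.val h),
          (B.res (ringOf Z) i (hcomm i)).rangeRestrict_surjective⟩)).symm
  have hinvi : ∀ i, Inv (V := B.blk i) (B.img Z i) := by
    intro i r hr hr0
    rw [B.ring_img Z (hZfix i) (hcomm i)] at hr ⊢
    obtain ⟨r₀, rfl⟩ := hr
    obtain ⟨s, hs, hrs⟩ := hZinv r₀ r₀.2 (fun h => hr0 (by
      rw [show r₀ = 0 from Subtype.ext h, map_zero]))
    refine ⟨B.res (ringOf Z) i (hcomm i) ⟨s, hs⟩, ⟨_, rfl⟩, ?_⟩
    rw [← map_mul, show r₀ * (⟨s, hs⟩ : ringOf (V := V) Z) = 1 from Subtype.ext hrs, map_one]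
  -- dimensions
  obtain ⟨o⟩ : Nonempty Ω := Finite.card_pos_iff.1 (by omega)
  have hcardV : Nat.card V = Nat.card (B.blk o) ^ Nat.card Ω := by
    rw [B.card_V, Finset.prod_congr rfl (fun i _ => B.card_blk i o), Finset.prod_const,
      Finset.card_univ, Nat.card_eq_fintype_card (α := Ω)]
  obtain ⟨w₁, hw₁⟩ : ∃ w₁, Nat.card (B.blk o) = q ^ w₁ := by
    have hF : IsField (ringOf (V := B.blk o) (B.img Z o)) :=
      { exists_pair_ne := ⟨0, 1, fun h => by
          obtain ⟨x, hx⟩ := exists_ne (0 : B.blk o)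
          exact hx (DFunLike.congr_fun (congrArg Subtype.val h) x).symm⟩
        mul_comm := fun a b => Subtype.ext (ringOf_comm (B.img_comm Z hZab o) a.2 b.2)
        mul_inv_cancel := fun {a} ha => by
          obtain ⟨s, hs, h⟩ := hinvi o a a.2 (fun h => ha (Subtype.ext h))
          exact ⟨⟨s, hs⟩, Subtype.ext h⟩ }
    letI := hF.toField
    exact ⟨Module.finrank (ringOf (V := B.blk o) (B.img Z o)) (B.blk o), by
      rw [← hringcard o]; exact Module.natCard_eq_pow_finrank⟩
  have hwk : w = w₁ * Nat.card Ω := by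
    refine Nat.pow_right_injective hq1 ?_
    show q ^ w = q ^ (w₁ * Nat.card Ω)
    rw [pow_mul, ← hw₁, ← hw, hcardV]
  have hw₁1 : 1 ≤ w₁ := by
    rcases Nat.eq_zero_or_pos w₁ with rfl | h0
    · rw [pow_zero] at hw₁
      have : 1 < Nat.card (B.blk o) := Finite.one_lt_card
      omega
    · exact h0
  have hlt : Nat.card (B.blk o) < N := by
    rw [← hN, hcardV]
    calc Nat.card (B.blk o) = Nat.card (B.blk o) ^ 1 := (pow_one _).symm
      _ < _ := Nat.pow_lt_pow_right Finite.one_lt_card hΩ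
  -- the embedding
  have hker : ∀ (g : f.ker) (i : Ω), ((g : C) : G) • i = i := fun g i => Equiv.ext_iff.1 g.2 i
  let Φ : f.ker →* ∀ i, Subgroup.centralizer (B.img Z i : Set (B.act i).range) :=
    Pi.monoidHom fun i =>
      ((B.act i).rangeRestrict.comp
        { toFun := fun g : f.ker => (⟨((g : C) : G), hker g i⟩ : MulAction.stabilizer G i)
          map_one' := rfl
          map_mul' := fun _ _ => rfl }).codRestrict _ (fun g => by
        refine Subgroup.mem_centralizer_iff.2 ?_
        rintro _ ⟨a, ha, rfl⟩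
        rw [MonoidHom.comp_apply, ← map_mul, ← map_mul]
        exact congrArg _ (Subtype.ext (Subgroup.mem_centralizer_iff.1 (g : C).2 _ ha)))
  have hsum : ∀ x, x = ∑ i, B.π i x := by
    intro x
    obtain ⟨s, hmem', h⟩ := B.total x
    rwa [Finset.eq_univ_iff_forall.2 hmem'] at h
  have hΦ : Function.Injective Φ := by
    refine (injective_iff_map_eq_one Φ).2 fun g hg => Subtype.ext (Subtype.ext
      (eq_of_smul_eq_smul (α := V) fun x => ?_))
    show ((g : C) : G) • x = (1 : G) • x
    rw [one_smul]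
    conv_lhs => rw [hsum x, Finset.smul_sum]
    conv_rhs => rw [hsum x]
    refine Finset.sum_congr rfl fun i _ => ?_
    have h1 := congrArg Subtype.val (congrArg Subtype.val (congrFun hg i))
    have h2 := congrArg (fun u : (AddMonoid.End (B.blk i))ˣ =>
      ((u • (⟨B.π i x, x, rfl⟩ : B.blk i) : B.blk i) : V)) h1
    exact h2.trans (congrArg Subtype.val (one_smul _ (⟨B.π i x, x, rfl⟩ : B.blk i)))
  have hall : ∀ i, RB (Subgroup.centralizer (B.img Z i : Set (B.act i).range)) 1 (25 ^ (w₁ - 1)) :=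
    fun i => IH _ hlt (B.act i).range (B.blk i) (B.card_blk i o) (B.blk_irred hirr i) (B.img Z i)
      (B.img_comm Z hZab i) (hinvi i) w₁ (by rw [hringcard i, B.card_blk i o, hw₁])
  have h3 := ((RB.pi hall).of_injective Φ hΦ).of_index f.ker
  rw [one_pow, ← Nat.card_eq_fintype_card] at h3
  refine h3.mono ?_
  have ht : f.ker.index ≤ 3 ^ (Nat.card Ω - 1) := by
    rw [Subgroup.index_ker]; exact card_solvable_perm_le
  calc (25 ^ (w₁ - 1)) ^ Nat.card Ω * f.ker.index ^ 2
      ≤ (25 ^ (w₁ - 1)) ^ Nat.card Ω * (3 ^ (Nat.card Ω - 1)) ^ 2 :=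
        Nat.mul_le_mul_left _ (Nat.pow_le_pow_left ht 2)
    _ ≤ (25 ^ (w₁ - 1)) ^ Nat.card Ω * 25 ^ (Nat.card Ω - 1) := Nat.mul_le_mul_left _ (by
        rw [← pow_mul, mul_comm, pow_mul]; exact Nat.pow_le_pow_left (by norm_num) _)
    _ = _ := by
        rw [← pow_mul, ← pow_add]
        congr 1
        obtain ⟨a, rfl⟩ : ∃ a, w₁ = a + 1 := ⟨w₁ - 1, by omega⟩
        rw [hwk, Nat.add_sub_cancel, add_mul]
        omega

end Cfsg.Agent.KGBound86
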