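import Mathlib
import Cfsg.Agent.Lib.KGBound86Field

/-!
Irreducible solvable linear groups with a normal abelian subgroup of prime exponent `p`, `p` different
from the characteristic.
-/

set_option autoImplicit false

namespace Cfsg.Agent.KGBound86

open Module
open Cfsg.Agent.OddBase75

universe v

variable {G V : Type v} [Group G] [Finite G] [AddCommGroup V] [Finite V] [DistribMulAction G V]

/-- The system with one block. -/
def trivialBlocks [Nontrivial V] :
    letI : MulAction G PUnit.{v + 1} :=
      { smul := fun _ i => i, one_smul := fun _ => rfl, mul_smul := fun _ _ _ => rfl }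
    Blocks G V PUnit.{v + 1} :=
  letI : MulAction G PUnit.{v + 1} :=
    { smul := fun _ i => i, one_smul := fun _ => rfl, mul_smul := fun _ _ _ => rfl }
  { π := fun _ => AddMonoidHom.id V
    idem := fun _ _ => rfl
    orth := fun i j h => absurd (Subsingleton.elim i j) h
    total := fun x => ⟨{PUnit.unit}, fun _ => Finset.mem_singleton.2 rfl, by simp⟩
    comp := fun _ _ _ => rfl
    trans := fun i _ => ⟨1, Subsingleton.elim _ _⟩
    ne := fun _ => exists_ne 0 }

/-- Blocks with minimal idempotents, one of them allowed. -/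
theorem exists_blocks_any [Nontrivial V] (hirr : Irred G V) (A : Subgroup G) [A.Normal]
    (hab : ∀ a ∈ A, ∀ b ∈ A, a * b = b * a) :
    ∃ (Ω : Type v) (_ : MulAction G Ω) (_ : Finite Ω) (B : Blocks G V Ω),
      (∀ i, B.e i ∈ ringOf (V := V) A) ∧
      ∀ i, ∀ r ∈ ringOf (V := V) A, r * r = r → r * B.e i = 0 ∨ r * B.e i = B.e i := by
  by_cases h : NoIdem (V := V) A
  · letI : MulAction G PUnit.{v + 1} :=
      { smul := fun _ i => i, one_smul := fun _ => rfl, mul_smul := fun _ _ _ => rfl }
    refine ⟨PUnit.{v + 1}, inferInstance, inferInstance, trivialBlocks, fun i => one_mem _,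
      fun i r hr hrr => ?_⟩
    rcases h r hr hrr with h' | h'
    · exact Or.inl (by rw [h', zero_mul])
    · exact Or.inr (by rw [h', one_mul])
  · obtain ⟨Ω, i1, i2, B, -, h1, h2⟩ := exists_blocks_min hirr A hab h
    exact ⟨Ω, i1, i2, B, h1, h2⟩

/-- The numerical data used for the class number bound. -/
structure LinData (G : Type v) [Group G] (p r n a : ℕ) (R : ℕ → Prop) where
  /-- number of blocks -/
  k : ℕ
  /-- degree of a block -/
  u : ℕ
  /-- field degrees -/
  f : Fin k → ℕ
  /-- dimensions over the fields -/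
  w : Fin k → ℕ
  /-- a bound for the group induced on the blocks -/
  t : ℕ
  /-- a bound for the index of the centraliser of the subgroup -/
  E : ℕ
  k_pos : 1 ≤ k
  n_eq : n = k * u
  f_pos : ∀ i, 1 ≤ f i
  w_pos : ∀ i, 1 ≤ w i
  u_eq : ∀ i, f i * w i = u
  dvd : ∀ i, p ∣ r ^ f i - 1
  t_le : t ≤ 3 ^ (k - 1)
  rb_blocks : RB G 1 (t ^ 2 * ∏ i, (25 ^ (w i - 1) * f i ^ 2))
  rb_cent : RB G 1 (E ^ 2 * ∏ i, 25 ^ (w i - 1))
  E_le_one : a = 1 → E ≤ n
  E_le_block : k = 1 → ∀ i, E ≤ f i
  a_one : k = 1 → a = 1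
  classes : p ^ a - 1 ≤ (Nat.card (ConjClasses G) - 1) * n ^ a
  support : R k

theorem card_zero_or_pos_of_pow {r n : ℕ} (hr : r.Prime) {X : Type*} [Finite X] [Nonempty X]
    (h : Nat.card X ∣ r ^ n) : ∃ j, Nat.card X = r ^ j :=
  let ⟨j, _, hj⟩ := (Nat.dvd_prime_pow hr).1 h
  ⟨j, hj⟩

theorem exists_poly_aux {W : Type*} [AddCommGroup W] [Finite W] {r n : ℕ} [Fact r.Prime]
    [Module (ZMod r) W] (hW : Nat.card W = r ^ n) (T : AddMonoid.End W) :
    ∃ P : Polynomial ℤ, P.Monic ∧ P.natDegree = n ∧ Polynomial.aeval T P = 0 := by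
  classical
  have hfin : Module.Finite (ZMod r) W := Module.Finite.of_finite
  have hn : finrank (ZMod r) W = n := by
    have h : Nat.card W = Nat.card (ZMod r) ^ finrank (ZMod r) W :=
      @Module.natCard_eq_pow_finrank (ZMod r) W _ _ _ hfin
    rw [hW, Nat.card_zmod] at h
    exact (Nat.pow_right_injective (Fact.out : r.Prime).two_le h).symm
  let φ : Module.End (ZMod r) W →+* AddMonoid.End W :=
    { toFun := fun f => f.toAddMonoidHom
      map_one' := rfl
      map_mul' := fun _ _ => rfl
      map_zero' := rfl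
      map_add' := fun f g => AddMonoidHom.ext fun x => LinearMap.add_apply f g x }
  let T' : Module.End (ZMod r) W := AddMonoidHom.toZModLinearMap r T
  have hT : φ T' = T := AddMonoidHom.ext fun _ => rfl
  have hlift : T'.charpoly ∈ Polynomial.lifts (algebraMap ℤ (ZMod r)) := by
    obtain ⟨q, hq⟩ := Polynomial.map_surjective (algebraMap ℤ (ZMod r)) ZMod.intCast_surjective
      T'.charpoly
    exact ⟨q, hq⟩
  obtain ⟨P, hP, hdeg, hmon⟩ :=
    Polynomial.lifts_and_natDegree_eq_and_monic hlift (LinearMap.charpoly_monic T')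
  refine ⟨P, hmon, by rw [hdeg, LinearMap.charpoly_natDegree, hn], ?_⟩
  have h0 : Polynomial.aeval T' P = 0 := by
    rw [← Polynomial.aeval_map_algebraMap (ZMod r) T' P, hP]
    exact LinearMap.aeval_self_charpoly T'
  have := Polynomial.aeval_algHom_apply φ.toIntAlgHom T' P
  rw [h0, map_zero] at this
  rw [← hT]
  exact this

/-- A monic polynomial over `ℤ` of degree `n` killing an endomorphism of an elementary abelian group. -/
theorem exists_poly {W : Type*} [AddCommGroup W] [Finite W] {r n : ℕ} [Fact r.Prime]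
    (hW : Nat.card W = r ^ n) (hexp : ∀ x : W, r • x = 0) (T : AddMonoid.End W) :
    ∃ P : Polynomial ℤ, P.Monic ∧ P.natDegree = n ∧ Polynomial.aeval T P = 0 :=
  @exists_poly_aux W _ _ r n _ (AddCommGroup.zmodModule hexp) hW T

theorem irred_data [Group.IsSolvable G] [FaithfulSMul G V] [Nontrivial V] {p r n a : ℕ}
    [Fact p.Prime] [Fact r.Prime] (hirr : Irred G V) (hV : Nat.card V = r ^ n) (Z : Subgroup G)
    [Z.Normal] (hab : ∀ x ∈ Z, ∀ y ∈ Z, x * y = y * x) (hexpZ : ∀ x ∈ Z, x ^ p = 1)
    (hcard : Nat.card Z = p ^ a) (ha : 1 ≤ a) :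
    Nonempty (LinData G p r n a (fun k => ∃ S : Finset V, S.card = k ∧ (∀ x ∈ S, x ≠ 0) ∧
      ∀ x ∈ S, ∀ y ∈ S, ∀ g : G, g • x = y → x = y)) := by
  classical
  have hp : p.Prime := Fact.out
  have hr : r.Prime := Fact.out
  haveI : Finite (AddMonoid.End V) := finite_end
  have hexp : ∀ x : V, r • x = 0 := by
    let U : AddSubgroup V :=
      { carrier := {x | r • x = 0}
        zero_mem' := smul_zero r
        add_mem' := fun {x y} hx hy => by
          show r • (x + y) = 0
          rw [smul_add, hx, hy, add_zero]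
        neg_mem' := fun {x} hx => by
          show r • (-x) = 0
          rw [smul_neg, hx, neg_zero] }
    have hinv : ∀ g : G, ∀ x ∈ U, g • x ∈ U := fun g x hx => by
      show r • (g • x) = 0
      rw [smul_comm, show r • x = 0 from hx, smul_zero]
    rcases hirr U hinv with h | h
    · exfalso
      have hn : n ≠ 0 := fun hn0 => by
        have : 1 < Nat.card V := Finite.one_lt_card
        rw [hV, hn0, pow_zero] at this
        omega
      obtain ⟨x, hx⟩ := exists_prime_addOrderOf_dvd_card' r (G := V) (hV ▸ dvd_pow_self r hn)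
      have hxU : x ∈ U := by
        show r • x = 0
        rw [← hx]; exact addOrderOf_nsmul_eq_zero x
      rw [h, AddSubgroup.mem_bot] at hxU
      rw [hxU, addOrderOf_zero] at hx
      exact hr.one_lt.ne hx
    · exact fun x => (h.symm ▸ AddSubgroup.mem_top x : x ∈ U)
  obtain ⟨Ω, _, _, B, hmem, hmin⟩ := exists_blocks_any hirr Z hab
  haveI := Fintype.ofFinite Ω
  obtain ⟨o⟩ : Nonempty Ω := by
    by_contra he
    obtain ⟨x, hx⟩ := exists_ne (0 : V)
    obtain ⟨s, hs, h⟩ := B.total x
    rw [Finset.sum_eq_zero (fun i _ => absurd ⟨i⟩ he)] at h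
    exact hx h
  have hcent : ∀ z ∈ Z, z ∈ Subgroup.centralizer (Z : Set G) := fun z hz =>
    Subgroup.mem_centralizer_iff.2 fun b hb => hab b hb z hz
  have hZfix : ∀ i, ∀ z ∈ Z, z • i = i := fun i z hz => B.fixes hmem (hcent z hz) i
  have hcomm : ∀ i, ∀ s ∈ ringOf (V := V) Z, s * B.e i = B.e i * s := fun i s hs =>
    ringOf_comm hab hs (hmem i)
  haveI : ∀ i, Group.IsSolvable (B.act i).range := fun i =>
    Group.isSolvable_of_surjective (B.act i).rangeRestrict_surjective
  haveI : ∀ i, Finite (B.act i).range := fun i =>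
    Finite.of_surjective _ (B.act i).rangeRestrict_surjective
  haveI : ∀ i, FaithfulSMul (B.act i).range (B.blk i) := fun i =>
    ⟨fun {g h} hgh => Subtype.ext (Units.ext (AddMonoidHom.ext hgh))⟩
  haveI : ∀ i, Nontrivial (B.blk i) := fun i => by
    obtain ⟨x, hx⟩ := B.ne i
    exact ⟨⟨0, zero_mem _⟩, ⟨_, x, rfl⟩, fun e => hx (congrArg Subtype.val e).symm⟩
  haveI : ∀ i, (B.img Z i).Normal := fun i => B.img_normal Z i
  have habi : ∀ i, ∀ x ∈ B.img Z i, ∀ y ∈ B.img Z i, x * y = y * x := fun i => B.img_comm Z hab i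
  have hinvi : ∀ i, Inv (V := B.blk i) (B.img Z i) := by
    intro i s hs hs0
    refine exists_inverse (B.blk_irred hirr i) (B.img Z i) (habi i) ?_ hs hs0
    intro e he hee
    rw [B.ring_img Z (hZfix i) (hcomm i)] at he
    obtain ⟨⟨s₀, hs₀⟩, rfl⟩ := he
    have hidem : s₀ * B.e i * (s₀ * B.e i) = s₀ * B.e i := by
      refine AddMonoidHom.ext fun x => ?_
      show s₀ (B.π i (s₀ (B.π i x))) = s₀ (B.π i x)
      have hfix : B.π i (s₀ (B.π i x)) = s₀ (B.π i x) := by
        have h := DFunLike.congr_fun (hcomm i s₀ hs₀) (B.π i x)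
        have h' : s₀ (B.π i (B.π i x)) = B.π i (s₀ (B.π i x)) := h
        rw [B.idem] at h'
        exact h'.symm
      rw [hfix]
      exact congrArg Subtype.val (DFunLike.congr_fun hee (⟨B.π i x, x, rfl⟩ : B.blk i))
    rcases hmin i (s₀ * B.e i) (mul_mem hs₀ (hmem i)) hidem with h | h
    · left
      refine AddMonoidHom.ext fun x => Subtype.ext ?_
      have h' := DFunLike.congr_fun h x.1
      show s₀ x.1 = 0
      have h'' : s₀ (B.π i (B.π i x.1)) = 0 := h'
      rwa [B.idem, B.mem_blk x.2] at h''
    · right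
      refine AddMonoidHom.ext fun x => Subtype.ext ?_
      have h' := DFunLike.congr_fun h x.1
      show s₀ x.1 = x.1
      have h'' : s₀ (B.π i (B.π i x.1)) = B.π i x.1 := h'
      rwa [B.idem, B.mem_blk x.2] at h''
  -- an element moves a block unless trivial
  have hmoved : ∀ z ∈ Z, (∀ i, ∀ x : B.blk i, z • (x : V) = x) → z = 1 := by
    intro z _ h
    refine eq_of_smul_eq_smul (α := V) fun x => ?_
    obtain ⟨s, hs, hx⟩ := B.total x
    rw [one_smul, hx, Finset.smul_sum]
    exact Finset.sum_congr rfl fun i _ => h i ⟨B.π i x, x, rfl⟩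
  have hne : ∀ i, ∃ z ∈ Z, ∃ x : B.blk i, z • (x : V) ≠ x := by
    intro i
    by_contra hall
    push Not at hall
    have h1 : Z = ⊥ := (Subgroup.eq_bot_iff_forall Z).2 fun z hz => hmoved z hz fun j x => by
      obtain ⟨g, rfl⟩ := B.trans i j
      have hx' : g⁻¹ • (x : V) ∈ B.blk i := ⟨g⁻¹ • (x : V), by
        have h := B.comp g i (g⁻¹ • x.1)
        rw [smul_inv_smul, B.mem_blk x.2] at h
        exact eq_inv_smul_iff.2 h⟩
      have h := hall (g⁻¹ * z * g) (by
        have := ‹Z.Normal›.conj_mem z hz g⁻¹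
        rwa [inv_inv] at this) ⟨_, hx'⟩
      rw [show ((⟨g⁻¹ • (x : V), hx'⟩ : B.blk i) : V) = g⁻¹ • (x : V) from rfl, mul_smul, mul_smul,
        smul_inv_smul, inv_smul_eq_iff, smul_inv_smul] at h
      exact h
    rw [h1, Subgroup.card_bot] at hcard
    exact (Nat.one_lt_pow (by omega) hp.one_lt).ne hcard
  -- data of one block
  have hblock : ∀ i, ∃ f w, 1 ≤ f ∧ 1 ≤ w ∧ Nat.card (B.blk i) = r ^ (f * w) ∧ p ∣ r ^ f - 1 ∧
      (Subgroup.centralizer (B.img Z i : Set (B.act i).range)).index ≤ f ∧
      RB (Subgroup.centralizer (B.img Z i : Set (B.act i).range)) 1 (25 ^ (w - 1)) := by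
    intro i
    have hF : IsField (ringOf (V := B.blk i) (B.img Z i)) :=
      { exists_pair_ne := ⟨0, 1, fun h => by
          obtain ⟨x, hx⟩ := exists_ne (0 : B.blk i)
          exact hx (DFunLike.congr_fun (congrArg Subtype.val h) x).symm⟩
        mul_comm := fun a b => Subtype.ext (ringOf_comm (habi i) a.2 b.2)
        mul_inv_cancel := fun {a} ha => by
          obtain ⟨s, hs, h⟩ := hinvi i a a.2 (fun h => ha (Subtype.ext h))
          exact ⟨⟨s, hs⟩, Subtype.ext h⟩ }
    letI := hF.toField
    haveI : Finite (AddMonoid.End (B.blk i)) :=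
      Finite.of_injective (fun f : AddMonoid.End (B.blk i) => (f : B.blk i → B.blk i)) DFunLike.coe_injective
    have hWdvd : Nat.card (B.blk i) ∣ r ^ n := hV ▸ AddSubgroup.card_addSubgroup_dvd_card _
    obtain ⟨m, hm⟩ := card_zero_or_pos_of_pow hr hWdvd
    have hKW := Module.natCard_eq_pow_finrank (K := ringOf (V := B.blk i) (B.img Z i)) (V := B.blk i)
    have hw1 : 1 ≤ finrank (ringOf (V := B.blk i) (B.img Z i)) (B.blk i) := finrank_pos
    have hKdvd : Nat.card (ringOf (V := B.blk i) (B.img Z i)) ∣ r ^ m := by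
      rw [← hm, hKW]; exact dvd_pow_self _ (by omega)
    obtain ⟨f, -, hf⟩ := (Nat.dvd_prime_pow hr).1 hKdvd
    have hf1 : 1 ≤ f := by
      rcases Nat.eq_zero_or_pos f with rfl | h
      · have : 1 < Nat.card (ringOf (V := B.blk i) (B.img Z i)) := Finite.one_lt_card
        rw [hf, pow_zero] at this; omega
      · exact h
    refine ⟨f, finrank (ringOf (V := B.blk i) (B.img Z i)) (B.blk i), hf1, hw1, ?_, ?_, ?_, ?_⟩
    · rw [pow_mul, ← hf]; exact hKW
    · obtain ⟨z, hz, x, hzx⟩ := hne i
      let zi : (B.act i).range := (B.act i).rangeRestrict ⟨z, hZfix i z hz⟩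
      have hzi : zi ∈ B.img Z i := ⟨_, hz, rfl⟩
      let sh : (B.img Z i) →* ringOf (V := B.blk i) (B.img Z i) :=
        { toFun := fun y => ⟨rho (y : (B.act i).range), rho_mem y.2⟩
          map_one' := Subtype.ext (map_one rho)
          map_mul' := fun y y' => Subtype.ext (map_mul rho (y : (B.act i).range) (y' : (B.act i).range)) }
      have ho : orderOf (sh.toHomUnits ⟨zi, hzi⟩) = p := by
        refine orderOf_eq_prime ?_ ?_
        · rw [← map_pow, show (⟨zi, hzi⟩ : B.img Z i) ^ p = 1 from Subtype.ext (by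
            show zi ^ p = 1
            rw [← map_pow]
            convert map_one (B.act i).rangeRestrict using 2
            exact Subtype.ext (hexpZ z hz)), map_one]
        · intro h
          apply hzx
          have h1 : (rho zi : AddMonoid.End (B.blk i)) = 1 :=
            congrArg Subtype.val (congrArg Units.val h)
          exact congrArg Subtype.val (DFunLike.congr_fun h1 x)
      have := orderOf_dvd_natCard (sh.toHomUnits ⟨zi, hzi⟩)
      rwa [ho, Nat.card_units, hf] at this
    · obtain ⟨d, hd, hrel⟩ := galois_index_le (V := B.blk i) (habi i) (hinvi i)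
        (Int.castRingHom (AddMonoid.End (B.blk i))).range
        (by rintro _ ⟨j, rfl⟩; exact intCast_mem _ j) ⊤
        (by rintro g - _ ⟨j, rfl⟩; exact map_intCast (cj g) j)
      rw [Subgroup.relIndex_top_right] at hrel
      have hS : r ≤ Nat.card (Int.castRingHom (AddMonoid.End (B.blk i))).range := by
        let ι : Fin r → (Int.castRingHom (AddMonoid.End (B.blk i))).range := fun j => ⟨_, (j : ℤ), rfl⟩
        have hinj : Function.Injective ι := by
          intro j j' h
          obtain ⟨x, hx⟩ := exists_ne (0 : B.blk i)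
          have h1 : ((j : ℤ)) • x = ((j' : ℤ)) • x := by
            have h2 := DFunLike.congr_fun (congrArg Subtype.val h) x
            simpa [ι, AddMonoid.End.intCast_apply] using h2
          have hox : addOrderOf x = r := addOrderOf_eq_prime (Subtype.ext (by
            rw [AddSubgroup.coe_nsmul]; exact hexp _)) hx
          have h3 := (zsmul_eq_zsmul_iff_modEq (x := x)).1 h1
          rw [hox] at h3
          exact Fin.ext (by
            have hj := j.2; have hj' := j'.2
            have := Int.natCast_modEq_iff.1 h3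
            exact Nat.ModEq.eq_of_lt_of_lt this hj hj')
        exact (Nat.card_fin r).symm.le.trans (Nat.card_le_card_of_injective ι hinj)
      refine hrel.trans ((Nat.pow_le_pow_iff_right hr.one_lt).1 ?_)
      rw [← hf, hd]
      exact Nat.pow_le_pow_left hS d
    · exact centBound _ (B.act i).range (B.blk i) rfl (B.blk_irred hirr i) (B.img Z i) (habi i)
        (hinvi i) _ hKW
  choose f w hf1 hw1 hcardi hdvd hidx hrbC using hblock
  obtain ⟨u, hu⟩ : ∃ u, Nat.card (B.blk o) = r ^ u := ⟨_, hcardi o⟩
  have hfw : ∀ i, f i * w i = u := fun i =>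
    Nat.pow_right_injective hr.two_le (show r ^ (f i * w i) = r ^ u by rw [← hcardi i, ← hu, B.card_blk i o])
  have hnu : n = Nat.card Ω * u := by
    refine Nat.pow_right_injective hr.two_le (show r ^ n = r ^ (Nat.card Ω * u) from ?_)
    rw [← hV, B.card_V, Finset.prod_congr rfl (fun i _ => B.card_blk i o), Finset.prod_const,
      Finset.card_univ, hu, ← pow_mul, mul_comm, Nat.card_eq_fintype_card (α := Ω)]
  -- embeddings
  let φ : G →* Equiv.Perm Ω := MulAction.toPermHom G Ω
  haveI : Group.IsSolvable φ.range := Group.isSolvable_of_surjective φ.rangeRestrict_surjective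
  set C := Subgroup.centralizer (Z : Set G) with hC
  have hsum : ∀ x, x = ∑ i, B.π i x := by
    intro x
    obtain ⟨s, hmem', h⟩ := B.total x
    rwa [Finset.eq_univ_iff_forall.2 hmem'] at h
  have hextG : ∀ g : G, (∀ (i : Ω) (x : B.blk i), g • (x : V) = x) → g = 1 := fun g h =>
    eq_of_smul_eq_smul (α := V) fun x => by
      rw [one_smul]
      conv_lhs => rw [hsum x, Finset.smul_sum]
      conv_rhs => rw [hsum x]
      exact Finset.sum_congr rfl fun i _ => h i ⟨B.π i x, x, rfl⟩
  have hkfix : ∀ (g : φ.ker) (i : Ω), (g : G) • i = i := fun g i => Equiv.ext_iff.1 g.2 i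
  let Φ : φ.ker →* ∀ i, (B.act i).range := Pi.monoidHom fun i => (B.act i).rangeRestrict.comp
    { toFun := fun g : φ.ker => (⟨(g : G), hkfix g i⟩ : MulAction.stabilizer G i)
      map_one' := rfl
      map_mul' := fun _ _ => rfl }
  have hΦ : Function.Injective Φ := by
    refine (injective_iff_map_eq_one Φ).2 fun g hg => Subtype.ext (hextG _ fun i x => ?_)
    have h1 := congrArg Subtype.val (congrFun hg i)
    exact (congrArg (fun u : (AddMonoid.End (B.blk i))ˣ => ((u • x : B.blk i) : V)) h1).trans
      (congrArg Subtype.val (one_smul _ x))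
  let Ψ : C →* ∀ i, Subgroup.centralizer (B.img Z i : Set (B.act i).range) :=
    Pi.monoidHom fun i => ((B.act i).rangeRestrict.comp
      { toFun := fun g : C => (⟨(g : G), B.fixes hmem g.2 i⟩ : MulAction.stabilizer G i)
        map_one' := rfl
        map_mul' := fun _ _ => rfl }).codRestrict _ (fun g => by
      refine Subgroup.mem_centralizer_iff.2 ?_
      rintro _ ⟨z, hz, rfl⟩
      rw [MonoidHom.comp_apply, ← map_mul, ← map_mul]
      exact congrArg _ (Subtype.ext (Subgroup.mem_centralizer_iff.1 g.2 _ hz)))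
  have hΨ : Function.Injective Ψ := by
    refine (injective_iff_map_eq_one Ψ).2 fun g hg => Subtype.ext (hextG _ fun i x => ?_)
    have h1 := congrArg Subtype.val (congrArg Subtype.val (congrFun hg i))
    exact (congrArg (fun u : (AddMonoid.End (B.blk i))ˣ => ((u • x : B.blk i) : V)) h1).trans
      (congrArg Subtype.val (one_smul _ x))
  -- classes of elements of `Z`
  have hroots : ∀ z ∈ Z, Nat.card {y : Z // IsConj (z : G) (y : G)} ≤ n ^ a := by
    intro z hz
    obtain ⟨P, hmon, hdeg, hP⟩ := exists_poly hV hexp (rho z : AddMonoid.End V)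
    have hyP : ∀ y : G, IsConj z y → Polynomial.aeval (rho y : AddMonoid.End V) P = 0 := by
      intro y hy
      obtain ⟨g, rfl⟩ := isConj_iff.1 hy
      have h := Polynomial.aeval_algHom_apply (cj (V := V) g).toIntAlgHom (rho z : AddMonoid.End V) P
      rw [hP, map_zero] at h
      rw [show (rho (g * z * g⁻¹) : AddMonoid.End V) = cj g (rho z) by
        rw [map_mul, map_mul]; rfl]
      exact h
    -- few blocks separate `Z`
    have hsep : ∀ (s : ℕ) (K : Subgroup G), K ≤ Z → Nat.card K = s → ∃ J : Finset Ω,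
        p ^ J.card ≤ s ∧ ∀ y ∈ K, (∀ i ∈ J, ∀ x : B.blk i, y • (x : V) = x) → y = 1 := by
      intro s
      induction s using Nat.strong_induction_on with
      | _ s ih =>
      intro K hK hs
      by_cases hK1 : K = ⊥
      · exact ⟨∅, by rw [← hs, hK1, Subgroup.card_bot]; simp, fun y hy _ => by
          rw [hK1, Subgroup.mem_bot] at hy; exact hy⟩
      obtain ⟨y, hy, hy1⟩ := K.bot_or_exists_ne_one.resolve_left hK1
      obtain ⟨i, x, hx⟩ : ∃ (i : Ω) (x : B.blk i), y • (x : V) ≠ x := by
        by_contra hall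
        push Not at hall
        exact hy1 (hextG y hall)
      let K' : Subgroup G :=
        { carrier := {y | y ∈ K ∧ ∀ x : B.blk i, y • (x : V) = x}
          one_mem' := ⟨one_mem _, fun x => one_smul _ _⟩
          mul_mem' := fun {a b} ha hb => ⟨mul_mem ha.1 hb.1, fun x => by rw [mul_smul, hb.2, ha.2]⟩
          inv_mem' := fun {a} ha => ⟨inv_mem ha.1, fun x => by rw [inv_smul_eq_iff, ha.2]⟩ }
      have hle : K' ≤ K := fun y hy => hy.1
      obtain ⟨c, hc⟩ := Subgroup.card_dvd_of_le hle
      obtain ⟨j, -, hj⟩ := (Nat.dvd_prime_pow hp).1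
        ((hs ▸ hcard ▸ Subgroup.card_dvd_of_le hK : s ∣ p ^ a))
      rw [hs] at hc
      have hcp : p ≤ c := by
        obtain ⟨j', -, hj'⟩ := (Nat.dvd_prime_pow hp).1 (hj ▸ Dvd.intro_left _ hc.symm : c ∣ p ^ j)
        rw [hj']
        refine Nat.le_self_pow (fun h0 => hx ?_) p
        have hKK : K' = K := Subgroup.eq_of_le_of_card_ge hle (by
          rw [hs, hc, hj', h0, pow_zero, mul_one])
        exact (hKK.symm ▸ hy : y ∈ K').2 x
      have hlt : Nat.card K' < s := by
        rw [hc]; exact lt_mul_of_one_lt_right Nat.card_pos (lt_of_lt_of_le hp.one_lt hcp)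
      obtain ⟨J, hJ, hJ'⟩ := ih _ hlt K' (hle.trans hK) rfl
      refine ⟨insert i J, ?_, fun y hy h => ?_⟩
      · calc p ^ (insert i J).card ≤ p ^ (J.card + 1) :=
              Nat.pow_le_pow_right hp.pos (Finset.card_insert_le _ _)
          _ = p ^ J.card * p := pow_succ _ _
          _ ≤ Nat.card K' * c := Nat.mul_le_mul hJ hcp
          _ = s := hc.symm
      · exact hJ' y ⟨hy, h i (Finset.mem_insert_self _ _)⟩
          fun l hl => h l (Finset.mem_insert_of_mem hl)
    obtain ⟨J, hJ, hJ'⟩ := hsep _ Z le_rfl rfl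
    have hJa : J.card ≤ a := (Nat.pow_le_pow_iff_right hp.one_lt).1 (hcard ▸ hJ)
    -- the images are roots
    let F : ∀ i : Ω, Z → AddMonoid.End (B.blk i) := fun i y =>
      rho ((B.act i).rangeRestrict ⟨(y : G), hZfix i _ y.2⟩)
    have hroot : ∀ i, ∃ T : Finset (AddMonoid.End (B.blk i)), T.card ≤ n ∧
        ∀ y : Z, IsConj z (y : G) → F i y ∈ T := by
      intro i
      have hF : IsField (ringOf (V := B.blk i) (B.img Z i)) :=
        { exists_pair_ne := ⟨0, 1, fun h => by
            obtain ⟨x, hx⟩ := exists_ne (0 : B.blk i)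
            exact hx (DFunLike.congr_fun (congrArg Subtype.val h) x).symm⟩
          mul_comm := fun a b => Subtype.ext (ringOf_comm (habi i) a.2 b.2)
          mul_inv_cancel := fun {a} ha => by
            obtain ⟨s, hs, h⟩ := hinvi i a a.2 (fun h => ha (Subtype.ext h))
            exact ⟨⟨s, hs⟩, Subtype.ext h⟩ }
      letI := hF.toField
      let Q := P.map (Int.castRingHom (ringOf (V := B.blk i) (B.img Z i)))
      refine ⟨Q.roots.toFinset.image Subtype.val, ?_, fun y hy => ?_⟩
      · refine Finset.card_image_le.trans ((Multiset.toFinset_card_le _).trans ?_)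
        refine (Polynomial.card_roots' _).trans (Polynomial.natDegree_map_le.trans hdeg.le)
      · refine Finset.mem_image.2 ⟨⟨F i y, rho_mem ⟨_, y.2, rfl⟩⟩, ?_, rfl⟩
        rw [Multiset.mem_toFinset, Polynomial.mem_roots (hmon.map _).ne_zero, Polynomial.IsRoot,
          Polynomial.eval_map]
        refine Subtype.ext ?_
        let yR : ringOf (V := V) Z := ⟨rho (y : G), rho_mem y.2⟩
        have h0 : Polynomial.aeval yR P = 0 := by
          refine Subtype.ext ?_
          have h := Polynomial.aeval_algHom_apply (ringOf (V := V) Z).subtype.toIntAlgHom yR P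
          exact h.symm.trans (hyP _ hy)
        have h1 := Polynomial.aeval_algHom_apply (B.res (ringOf (V := V) Z) i (hcomm i)).toIntAlgHom yR P
        rw [h0, map_zero] at h1
        have h2 := Polynomial.aeval_algHom_apply
          (ringOf (V := B.blk i) (B.img Z i)).subtype.toIntAlgHom
          (⟨F i y, rho_mem ⟨_, y.2, rfl⟩⟩ : ringOf (V := B.blk i) (B.img Z i)) P
        rw [← algebraMap_int_eq, ← Polynomial.aeval_def]
        refine h2.symm.trans (Eq.trans ?_ h1)
        congr 1
    choose T hT hTmem using hroot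
    have hinj : Function.Injective fun (y : {y : Z // IsConj z (y : G)}) =>
        fun (i : J) => (⟨F i y.1, hTmem i y.1 y.2⟩ : T i) := by
      intro y y' h
      refine Subtype.ext (Subtype.ext (inv_mul_eq_one.1 (hJ' _ (mul_mem (inv_mem y'.1.2) y.1.2)
        fun i hi x => ?_)).symm)
      have h1 := DFunLike.congr_fun (congrArg Subtype.val (congrFun h ⟨i, hi⟩)) x
      have h2 : (y.1 : G) • (x : V) = (y'.1 : G) • (x : V) := congrArg Subtype.val h1
      rw [mul_smul, h2, inv_smul_smul]
    refine (Nat.card_le_card_of_injective _ hinj).trans ?_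
    rw [Nat.card_pi]
    refine (Finset.prod_le_prod' (fun (i : J) _ => (Nat.card_eq_finsetCard (T i.1)).trans_le (hT i.1))).trans ?_
    rw [Finset.prod_const, Finset.card_univ, Fintype.card_coe]
    refine Nat.pow_le_pow_right ?_ hJa
    rcases Nat.eq_zero_or_pos n with h0 | h0
    · exfalso
      have : 1 < Nat.card V := Finite.one_lt_card
      rw [hV, h0, pow_zero] at this; omega
    · exact h0
  let e := Fintype.equivFin Ω
  haveI hZne : Nontrivial Z := Finite.one_lt_card_iff_nontrivial.1 (by
    rw [hcard]; exact Nat.one_lt_pow (by omega) hp.one_lt)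
  have hidxC : a = 1 → C.index ≤ n := by
    intro ha1
    obtain ⟨z, hz⟩ := exists_ne (1 : Z)
    have hgen : Subgroup.zpowers (z : G) = Z := by
      refine Subgroup.eq_of_le_of_card_ge (Subgroup.zpowers_le.2 z.2) ?_
      rw [Nat.card_zpowers, hcard, ha1, pow_one]
      exact (orderOf_eq_prime (hexpZ _ z.2) (fun h => hz (Subtype.ext h))).ge
    have hC' : C = Subgroup.centralizer {(z : G)} := by
      rw [hC]
      refine le_antisymm (Subgroup.centralizer_le (Set.singleton_subset_iff.2 z.2)) fun g hg => ?_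
      refine Subgroup.mem_centralizer_iff.2 fun y hy => ?_
      obtain ⟨j, rfl⟩ : y ∈ Subgroup.zpowers (z : G) := hgen.symm ▸ hy
      exact (Commute.zpow_left (Subgroup.mem_centralizer_singleton_iff.1 hg : Commute g (z : G)).symm j).eq
    have h1 : C.index = (ConjClasses.mk (z : G)).carrier.ncard := by
      rw [hC', ← ConjAct.orbit_eq_carrier_conjClasses, ← MulAction.index_stabilizer,
        ConjAct.stabilizer_eq_centralizer]
      rfl
    have hle : (ConjClasses.mk (z : G)).carrier.ncard ≤ Nat.card {y : Z // IsConj (z : G) (y : G)} := by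
      rw [← Nat.card_coe_set_eq]
      refine Nat.card_le_card_of_injective (fun y => ⟨⟨y.1, ?_⟩, ?_⟩) fun y y' h =>
        Subtype.ext (congrArg (fun t => ((t.1 : Z) : G)) h)
      · obtain ⟨g, hg⟩ := isConj_iff.1 (ConjClasses.mk_eq_mk_iff_isConj.1
          (ConjClasses.mem_carrier_iff_mk_eq.1 y.2).symm)
        rw [← hg]; exact ‹Z.Normal›.conj_mem _ z.2 g
      · exact ConjClasses.mk_eq_mk_iff_isConj.1 (ConjClasses.mem_carrier_iff_mk_eq.1 y.2).symm
    rw [h1]
    refine hle.trans ((hroots _ z.2).trans ?_)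
    rw [ha1, pow_one]
  have hclasses : p ^ a - 1 ≤ (Nat.card (ConjClasses G) - 1) * n ^ a := by
    haveI := Fintype.ofFinite (ConjClasses G)
    haveI := Fintype.ofFinite Z
    have hU : (Finset.univ.erase (1 : Z)).card ≤ n ^ a * ((Finset.univ.erase
        (ConjClasses.mk (1 : G)))).card := by
      refine Finset.card_le_mul_card_image_of_maps_to (f := fun y : Z => ConjClasses.mk (y : G))
        (fun y hy => Finset.mem_erase.2 ⟨fun h => (Finset.mem_erase.1 hy).1
          (Subtype.ext (isConj_one_left.1 (ConjClasses.mk_eq_mk_iff_isConj.1 h))),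
          Finset.mem_univ _⟩) _ fun c _ => ?_
      by_cases hc : ∃ y₀ : Z, ConjClasses.mk (y₀ : G) = c
      · obtain ⟨y₀, rfl⟩ := hc
        refine le_trans ?_ (hroots _ y₀.2)
        rw [← Nat.card_eq_finsetCard]
        refine Nat.card_le_card_of_injective (fun y => ⟨y.1,
          (ConjClasses.mk_eq_mk_iff_isConj.1 (Finset.mem_filter.1 y.2).2).symm⟩) fun y y' h =>
            Subtype.ext (Subtype.mk.injEq .. ▸ h :)
      · rw [Finset.card_eq_zero.2 (Finset.filter_eq_empty_iff.2 fun y _ h => hc ⟨y, h⟩)]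
        exact Nat.zero_le _
    rw [Finset.card_erase_of_mem (Finset.mem_univ _), Finset.card_erase_of_mem (Finset.mem_univ _),
      Finset.card_univ, Finset.card_univ, ← Nat.card_eq_fintype_card, ← Nat.card_eq_fintype_card,
      hcard] at hU
    rwa [mul_comm]
  -- supports
  let supp : V → Finset Ω := fun x => Finset.univ.filter fun i => B.π i x ≠ 0
  have hsupp : ∀ (g : G) (x : V), (supp (g • x)).card = (supp x).card := by
    intro g x
    rw [show supp (g • x) = (supp x).map (MulAction.toPerm g).toEmbedding from ?_, Finset.card_map]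
    ext i
    simp only [supp, Finset.mem_filter, Finset.mem_univ, true_and, Finset.mem_map_equiv]
    show B.π i (g • x) ≠ 0 ↔ B.π (g⁻¹ • i) x ≠ 0
    have h := B.comp g (g⁻¹ • i) x
    rw [smul_inv_smul] at h
    rw [← h, Ne, smul_eq_zero_iff_eq]
  choose v hv using fun i : Ω => B.ne i
  let vec : Finset Ω → V := fun J => ∑ i ∈ J, B.π i (v i)
  have hvec : ∀ J, supp (vec J) = J := by
    intro J
    ext i
    simp only [supp, vec, Finset.mem_filter, Finset.mem_univ, true_and, map_sum]
    by_cases hi : i ∈ J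
    · rw [Finset.sum_eq_single i (fun j _ hj => B.orth i j (Ne.symm hj) _)
        (fun h => absurd hi h), B.idem]
      exact iff_of_true (hv i) hi
    · rw [Finset.sum_eq_zero fun j hj => B.orth i j (fun h => hi (h ▸ hj)) _]
      exact iff_of_false (fun h => h rfl) hi
  let Jof : Fin (Nat.card Ω) → Finset Ω := fun j =>
    Finset.univ.filter fun i => ((e i : Fin _) : ℕ) ≤ (j : ℕ)
  have hJcard : ∀ j, (Jof j).card = (j : ℕ) + 1 := by
    intro j
    have hjlt : (j : ℕ) + 1 ≤ Fintype.card Ω := by
      have := j.2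
      have := Nat.card_eq_fintype_card (α := Ω)
      omega
    rw [show Jof j = (Finset.univ : Finset (Fin ((j : ℕ) + 1))).map
      ((Fin.castLEEmb hjlt).trans e.symm.toEmbedding) from ?_, Finset.card_map, Finset.card_univ,
      Fintype.card_fin]
    ext i
    simp only [Jof, Finset.mem_filter, Finset.mem_univ, true_and, Finset.mem_map,
      Function.Embedding.trans_apply, Equiv.toEmbedding_apply, Fin.castLEEmb_apply]
    constructor
    · intro hi
      exact ⟨⟨(e i : ℕ), by omega⟩, by simp⟩
    · rintro ⟨l, rfl⟩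
      rw [Equiv.apply_symm_apply]
      show (l : ℕ) ≤ j
      have := l.2; omega
  refine ⟨{
    k := Nat.card Ω
    u := u
    f := fun j => f (e.symm (j.cast Nat.card_eq_fintype_card))
    w := fun j => w (e.symm (j.cast Nat.card_eq_fintype_card))
    t := φ.ker.index
    E := C.index
    k_pos := Nat.card_pos_iff.2 ⟨⟨o⟩, inferInstance⟩
    n_eq := hnu
    f_pos := fun j => hf1 _
    w_pos := fun j => hw1 _
    u_eq := fun j => hfw _
    dvd := fun j => hdvd _
    t_le := by rw [Subgroup.index_ker]; exact card_solvable_perm_le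
    rb_blocks := ?_
    rb_cent := ?_
    E_le_one := hidxC
    E_le_block := ?_
    a_one := ?_
    classes := hclasses
    support := ?_ }⟩
  · have h := ((RB.pi' (a := fun _ => 1) (b := fun i => 25 ^ (w i - 1) * f i ^ 2) fun i =>
      (RB.of_index (Subgroup.centralizer (B.img Z i : Set (B.act i).range)) (hrbC i)).mono
        (Nat.mul_le_mul_left _ (Nat.pow_le_pow_left (hidx i) 2))).of_injective Φ hΦ).of_index φ.ker
    rw [Finset.prod_const_one] at h
    refine h.mono (le_of_eq ?_)
    rw [mul_comm]
    congr 1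
    exact (Fintype.prod_equiv ((finCongr Nat.card_eq_fintype_card).trans e.symm) _ _ fun j => rfl).symm
  · have h := ((RB.pi' (a := fun _ => 1) (b := fun i => 25 ^ (w i - 1)) fun i =>
      hrbC i).of_injective Ψ hΨ).of_index C
    rw [Finset.prod_const_one] at h
    refine h.mono (le_of_eq ?_)
    rw [mul_comm]
    congr 1
    exact (Fintype.prod_equiv ((finCongr Nat.card_eq_fintype_card).trans e.symm) _ _ fun j => rfl).symm
  · intro hk1 j
    haveI := Finite.card_le_one_iff_subsingleton.1 hk1.le
    set i := e.symm (j.cast Nat.card_eq_fintype_card)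
    have hall : ∀ g : G, g • i = i := fun g => Subsingleton.elim _ _
    let ψ : G →* (B.act i).range := (B.act i).rangeRestrict.comp
      { toFun := fun g => (⟨g, hall g⟩ : MulAction.stabilizer G i)
        map_one' := rfl
        map_mul' := fun _ _ => rfl }
    have hψ : Function.Surjective ψ := by
      rintro ⟨_, ⟨g, hg⟩, rfl⟩; exact ⟨g, rfl⟩
    have hle : (Subgroup.centralizer (B.img Z i : Set (B.act i).range)).comap ψ ≤ C := by
      intro g hg
      refine Subgroup.mem_centralizer_iff.2 fun z hz => eq_of_smul_eq_smul (α := V) fun x => ?_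
      have hxi : x ∈ B.blk i := by
        rw [hsum x]
        exact AddSubgroup.sum_mem _ fun l _ => by rw [Subsingleton.elim l i]; exact ⟨x, rfl⟩
      have h := Subgroup.mem_centralizer_iff.1 (Subgroup.mem_comap.1 hg)
        ((B.act i).rangeRestrict ⟨z, hZfix i z hz⟩) ⟨_, hz, rfl⟩
      have h' := congrArg (fun u : (B.act i).range => ((u • (⟨x, hxi⟩ : B.blk i) : B.blk i) : V)) h
      rw [mul_smul, mul_smul]
      exact h'
    refine le_trans ?_ ((Subgroup.index_comap_of_surjective _ hψ).trans_le (hidx i))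
    exact Subgroup.index_antitone hle
  · intro hk1
    haveI := Finite.card_le_one_iff_subsingleton.1 hk1.le
    haveI : Finite (AddMonoid.End (B.blk o)) :=
      Finite.of_injective (fun f : AddMonoid.End (B.blk o) => (f : B.blk o → B.blk o)) DFunLike.coe_injective
    have hF : IsField (ringOf (V := B.blk o) (B.img Z o)) :=
      { exists_pair_ne := ⟨0, 1, fun h => by
          obtain ⟨x, hx⟩ := exists_ne (0 : B.blk o)
          exact hx (DFunLike.congr_fun (congrArg Subtype.val h) x).symm⟩
        mul_comm := fun a b => Subtype.ext (ringOf_comm (habi o) a.2 b.2)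
        mul_inv_cancel := fun {a} ha => by
          obtain ⟨s, hs, h⟩ := hinvi o a a.2 (fun h => ha (Subtype.ext h))
          exact ⟨⟨s, hs⟩, Subtype.ext h⟩ }
    letI := hF.toField
    let sh : Z →* ringOf (V := B.blk o) (B.img Z o) :=
      { toFun := fun y => ⟨rho ((B.act o).rangeRestrict ⟨(y : G), hZfix o _ y.2⟩),
          rho_mem ⟨_, y.2, rfl⟩⟩
        map_one' := Subtype.ext (by
          show rho ((B.act o).rangeRestrict (1 : MulAction.stabilizer G o)) = 1
          rw [map_one, map_one])
        map_mul' := fun y y' => Subtype.ext (by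
          show rho ((B.act o).rangeRestrict (⟨(y : G), hZfix o _ y.2⟩ * ⟨(y' : G), hZfix o _ y'.2⟩)) = _
          rw [map_mul, map_mul]; rfl) }
    have hsh : Function.Injective sh.toHomUnits := by
      refine (injective_iff_map_eq_one _).2 fun y hy => Subtype.ext (hextG _ fun i x => ?_)
      obtain rfl := Subsingleton.elim i o
      have h1 := DFunLike.congr_fun (congrArg Subtype.val (congrArg Units.val hy)) x
      exact congrArg Subtype.val h1
    haveI : IsCyclic Z := isCyclic_of_injective sh.toHomUnits hsh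
    obtain ⟨g, hg⟩ := IsCyclic.exists_ofOrder_eq_natCard (α := Z)
    have h1 := orderOf_dvd_of_pow_eq_one (x := g) (n := p) (Subtype.ext (hexpZ _ g.2))
    rw [hg, hcard] at h1
    have h2 := Nat.le_of_dvd hp.pos h1
    by_contra hne
    have : p ^ 2 ≤ p ^ a := Nat.pow_le_pow_right hp.pos (by omega)
    have : p < p ^ 2 := by rw [pow_two]; exact lt_mul_of_one_lt_right hp.pos hp.one_lt
    omega
  · refine ⟨Finset.univ.image fun j => vec (Jof j), ?_, ?_, ?_⟩
    · rw [Finset.card_image_of_injective _ fun j j' h => ?_, Finset.card_univ, Fintype.card_fin]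
      have h1 := congrArg Finset.card ((hvec (Jof j)).symm.trans ((congrArg supp h).trans (hvec _)))
      rw [hJcard, hJcard] at h1
      exact Fin.ext (by omega)
    · intro x hx
      obtain ⟨j, -, rfl⟩ := Finset.mem_image.1 hx
      intro h0
      have h1 : (supp (vec (Jof j))).card = 0 := by
        rw [h0, Finset.card_eq_zero]; simp [supp]
      rw [hvec, hJcard] at h1
      omega
    · intro x hx y hy g hg
      obtain ⟨j, -, rfl⟩ := Finset.mem_image.1 hx
      obtain ⟨j', -, rfl⟩ := Finset.mem_image.1 hy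
      have h1 := hsupp g (vec (Jof j))
      rw [hg, hvec, hvec, hJcard, hJcard] at h1
      rw [show j' = j from Fin.ext (by omega)]

end Cfsg.Agent.KGBound86
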