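import Mathlib
import Cfsg.Agent.Lib.KGBound86Linear

/-!
The arithmetic giving `p / (3 log₂ p)` classes.
-/

set_option autoImplicit false

namespace Cfsg.Agent.KGBound86

theorem field_sq {p Q L f : ℕ} (hL : 6 ≤ L) (hp : p < 2 ^ (L + 1)) (hpQ : p < Q) (hQ : 2 ^ f ≤ Q) :
    f ^ 2 * p ≤ (L + 1) ^ 2 * Q := by
  rcases Nat.lt_or_ge (L + 1) f with hlt | hge
  · have key : ∀ g, L + 1 ≤ g → g ^ 2 * 2 ^ (L + 1) ≤ (L + 1) ^ 2 * 2 ^ g := by
      intro g hg
      induction g, hg using Nat.le_induction with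
      | base => exact le_rfl
      | succ m hm ih =>
        have h2 : (m + 1) ^ 2 ≤ 2 * m ^ 2 := by nlinarith
        calc (m + 1) ^ 2 * 2 ^ (L + 1) ≤ 2 * m ^ 2 * 2 ^ (L + 1) := Nat.mul_le_mul_right _ h2
          _ = 2 * (m ^ 2 * 2 ^ (L + 1)) := by ring
          _ ≤ 2 * ((L + 1) ^ 2 * 2 ^ m) := Nat.mul_le_mul_left _ ih
          _ = _ := by rw [pow_succ 2 m]; ring
    calc f ^ 2 * p ≤ f ^ 2 * 2 ^ (L + 1) := Nat.mul_le_mul_left _ hp.le
      _ ≤ (L + 1) ^ 2 * 2 ^ f := key f hlt.le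
      _ ≤ _ := Nat.mul_le_mul_left _ hQ
  · exact Nat.mul_le_mul (Nat.pow_le_pow_left hge 2) hpQ.le

theorem single_big {p Q L f : ℕ} (hL : 6 ≤ L) (hp : p < 2 ^ (L + 1)) (hf : 3 * L < f)
    (hQ : 2 ^ f ≤ Q) : f ^ 2 * p ^ 2 ≤ 35 * L ^ 2 * Q := by
  have key : ∀ g, 3 * L + 1 ≤ g → g ^ 2 * 2 ^ (2 * L + 2) ≤ 35 * L ^ 2 * 2 ^ g := by
    intro g hg
    induction g, hg using Nat.le_induction with
    | base =>
      rw [show 3 * L + 1 = (2 * L + 2) + (L - 1) by omega, pow_add 2 (2 * L + 2) (L - 1)]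
      have h1 : 2 ^ 5 ≤ 2 ^ (L - 1) := Nat.pow_le_pow_right (by norm_num) (by omega)
      have h2 : (2 * L + 2 + (L - 1)) ^ 2 ≤ 35 * L ^ 2 * 2 ^ (L - 1) := by
        have h3 : (2 * L + 2 + (L - 1)) ^ 2 ≤ (4 * L) ^ 2 := Nat.pow_le_pow_left (by omega) 2
        nlinarith
      calc _ ≤ 35 * L ^ 2 * 2 ^ (L - 1) * 2 ^ (2 * L + 2) := Nat.mul_le_mul_right _ h2
        _ = _ := by ring
    | succ m hm ih =>
      have h2 : (m + 1) ^ 2 ≤ 2 * m ^ 2 := by nlinarith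
      calc (m + 1) ^ 2 * 2 ^ (2 * L + 2) ≤ 2 * m ^ 2 * 2 ^ (2 * L + 2) := Nat.mul_le_mul_right _ h2
        _ = 2 * (m ^ 2 * 2 ^ (2 * L + 2)) := by ring
        _ ≤ 2 * (35 * L ^ 2 * 2 ^ m) := Nat.mul_le_mul_left _ ih
        _ = _ := by rw [pow_succ 2 m]; ring
  calc f ^ 2 * p ^ 2 ≤ f ^ 2 * (2 ^ (L + 1)) ^ 2 := Nat.mul_le_mul_left _ (Nat.pow_le_pow_left hp.le 2)
    _ = f ^ 2 * 2 ^ (2 * L + 2) := by rw [← pow_mul]; congr 2; ring
    _ ≤ 35 * L ^ 2 * 2 ^ f := key f (by omega)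
    _ ≤ _ := Nat.mul_le_mul_left _ hQ

theorem pow25_le {Q w : ℕ} (hQ : 98 ≤ Q) : 25 ^ (w - 1) ≤ Q ^ (w - 1) :=
  Nat.pow_le_pow_left (by omega) _

theorem sq_pow25_le {Q w : ℕ} (hQ : 98 ≤ Q) (hw : 1 ≤ w) :
    w ^ 2 * 25 ^ (w - 1) ≤ 2 * Q ^ (w - 1) := by
  induction w, hw using Nat.le_induction with
  | base => norm_num
  | succ m hm ih =>
    rcases Nat.lt_or_ge m 2 with h | h
    · obtain rfl : m = 1 := by omega
      norm_num; omega
    rw [show m + 1 - 1 = (m - 1) + 1 by omega, pow_succ 25, pow_succ Q]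
    have h2 : (m + 1) ^ 2 * 25 ≤ m ^ 2 * Q := by nlinarith
    calc (m + 1) ^ 2 * (25 ^ (m - 1) * 25) = (m + 1) ^ 2 * 25 * 25 ^ (m - 1) := by ring
      _ ≤ m ^ 2 * Q * 25 ^ (m - 1) := Nat.mul_le_mul_right _ h2
      _ = m ^ 2 * 25 ^ (m - 1) * Q := by ring
      _ ≤ 2 * Q ^ (m - 1) * Q := Nat.mul_le_mul_right _ ih
      _ = _ := by ring

theorem block_step {Q f w : ℕ} (hQ : 98 ≤ Q) (h2 : 2 ^ f ≤ Q) {c w₀ : ℕ} (hw : w₀ ≤ w) (hw₀ : 1 ≤ w₀)
    (h : (c * 25 ^ (w₀ - 1)) ^ 8 * 2 ^ (f * w₀) ≤ Q ^ (8 * w₀)) :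
    (c * 25 ^ (w - 1)) ^ 8 * 2 ^ (f * w) ≤ Q ^ (8 * w) := by
  induction w, hw using Nat.le_induction with
  | base => exact h
  | succ m hm ih =>
    rw [show m + 1 - 1 = (m - 1) + 1 by omega, pow_succ 25, show f * (m + 1) = f * m + f by ring,
      pow_add 2, show 8 * (m + 1) = 8 * m + 8 by ring, pow_add Q]
    have h25 : 25 ^ 8 * 2 ^ f ≤ Q ^ 8 := by
      calc 25 ^ 8 * 2 ^ f ≤ 98 ^ 7 * Q := Nat.mul_le_mul (by norm_num) h2
        _ ≤ Q ^ 7 * Q := Nat.mul_le_mul_right _ (Nat.pow_le_pow_left hQ 7)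
        _ = _ := (pow_succ Q 7).symm
    calc (c * (25 ^ (m - 1) * 25)) ^ 8 * (2 ^ (f * m) * 2 ^ f)
        = (c * 25 ^ (m - 1)) ^ 8 * 2 ^ (f * m) * (25 ^ 8 * 2 ^ f) := by ring
      _ ≤ Q ^ (8 * m) * Q ^ 8 := Nat.mul_le_mul ih h25

theorem field_key {p r f : ℕ} (hp : p.Prime) (hp97 : 97 ≤ p) (hr : r.Prime) (hf : 1 ≤ f)
    (hdvd : p ∣ r ^ f - 1) : (9 * f ^ 2) ^ 8 * 2 ^ f ≤ (r ^ f) ^ 8 ∨ p = 127 ∧ r = 2 ∧ f = 7 := by
  have hpos : 0 < r ^ f - 1 := by
    have := Nat.one_lt_pow (show f ≠ 0 by omega) hr.one_lt; omega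
  have hpQ : p < r ^ f := by have := Nat.le_of_dvd hpos hdvd; omega
  by_cases hf12 : 12 ≤ f
  · left
    have key : ∀ g, 12 ≤ g → (9 * g ^ 2) ^ 8 ≤ 2 ^ (7 * g) := by
      intro g hg
      induction g, hg using Nat.le_induction with
      | base => norm_num
      | succ m hm ih =>
        have h2 : 12 * (m + 1) ≤ 13 * m := by omega
        have h3 : 12 ^ 16 * (m + 1) ^ 16 ≤ 12 ^ 16 * (2 ^ 7 * m ^ 16) := by
          rw [← mul_pow]
          refine (Nat.pow_le_pow_left h2 16).trans ?_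
          rw [mul_pow, ← mul_assoc]
          exact Nat.mul_le_mul_right _ (by norm_num)
        have h4 := Nat.le_of_mul_le_mul_left h3 (by norm_num)
        calc (9 * (m + 1) ^ 2) ^ 8 = 9 ^ 8 * (m + 1) ^ 16 := by ring
          _ ≤ 9 ^ 8 * (2 ^ 7 * m ^ 16) := Nat.mul_le_mul_left _ h4
          _ = 2 ^ 7 * (9 * m ^ 2) ^ 8 := by ring
          _ ≤ 2 ^ 7 * 2 ^ (7 * m) := Nat.mul_le_mul_left _ ih
          _ = _ := by rw [← pow_add]; congr 1; ring
    calc (9 * f ^ 2) ^ 8 * 2 ^ f ≤ 2 ^ (7 * f) * 2 ^ f := Nat.mul_le_mul_right _ (key f hf12)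
      _ = (2 ^ f) ^ 8 := by rw [← pow_add, ← pow_mul]; congr 1; ring
      _ ≤ _ := Nat.pow_le_pow_left (Nat.pow_le_pow_left hr.two_le f) 8
  rcases Nat.lt_or_ge r 4 with hr4 | hr4
  swap
  · left
    have hr5 : 5 ≤ r := by
      rcases Nat.lt_or_ge r 5 with h | h
      · obtain rfl : r = 4 := by omega
        norm_num at hr
      · exact h
    by_cases hf3 : f < 3
    · have hQ98 : 98 ^ 8 ≤ (r ^ f) ^ 8 := Nat.pow_le_pow_left (by omega) 8
      refine le_trans ?_ hQ98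
      interval_cases f <;> norm_num
    refine le_trans ?_ (Nat.pow_le_pow_left (Nat.pow_le_pow_left hr5 f) 8)
    have key : ∀ g < 12, 3 ≤ g → (9 * g ^ 2) ^ 8 * 2 ^ g ≤ (5 ^ g) ^ 8 := by decide +kernel
    exact key f (by omega) (by omega)
  have hsmall : ∀ a b, r ^ f - 1 = a * b → a < 97 → b < 97 → False := by
    intro a b hab ha hb
    rw [hab] at hdvd
    rcases hp.dvd_mul.1 hdvd with h | h
    · have : 0 < a := by rcases Nat.eq_zero_or_pos a with rfl | h0 <;> [simp at hab; exact h0] <;> omega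
      have := Nat.le_of_dvd this h; omega
    · have : 0 < b := by rcases Nat.eq_zero_or_pos b with rfl | h0 <;> [simp at hab; exact h0] <;> omega
      have := Nat.le_of_dvd this h; omega
  have hr2 := hr.two_le
  interval_cases r
  · interval_cases f
    all_goals try omega
    · right
      refine ⟨((Nat.prime_dvd_prime_iff_eq hp (by norm_num)).1 hdvd), rfl, rfl⟩
    · exact absurd (hsmall 15 17 (by norm_num) (by norm_num) (by norm_num)) id
    · exact absurd (hsmall 7 73 (by norm_num) (by norm_num) (by norm_num)) id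
    · exact absurd (hsmall 33 31 (by norm_num) (by norm_num) (by norm_num)) id
    · exact absurd (hsmall 23 89 (by norm_num) (by norm_num) (by norm_num)) id
  · interval_cases f
    all_goals try omega
    · exact absurd (hsmall 22 11 (by norm_num) (by norm_num) (by norm_num)) id
    all_goals (left; norm_num)

set_option maxHeartbeats 4000000 in
/-- The endgame for an irreducible module. -/
theorem lin_end {G : Type*} [Group G] [Finite G] {p r n a : ℕ} {S : ℕ → Prop}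
    (D : LinData G p r n a S) (hp : p.Prime) (hp97 : 97 ≤ p) (hr : r.Prime) (ha : 1 ≤ a) {K R : ℕ}
    (hK : Nat.card (ConjClasses G) + R ≤ K) (hR : r ^ n ≤ R * Nat.card G + 1)
    (hKk : Nat.card (ConjClasses G) + D.k ≤ K) : p ≤ 3 * K * Nat.log 2 p := by
  classical
  revert hKk
  obtain ⟨k, u, f, w, t, E, hk, hn, hf, hw, hu, hdvd, ht, hrb1, hrb2, hE1, hEb, ha1, hcl, -⟩ := D
  intro hKk
  change Nat.card (ConjClasses G) + k ≤ K at hKk
  set L := Nat.log 2 p with hLdef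
  have hL6 : 6 ≤ L := Nat.le_log_of_pow_le (by norm_num) (by omega)
  have hpL : p < 2 ^ (L + 1) := Nat.lt_pow_succ_log_self (by norm_num) p
  have h3L : 3 * L ≤ p := by
    have h1 : 2 ^ L ≤ p := Nat.pow_log_le_self 2 (by omega)
    have h2 : ∀ j, 6 ≤ j → 3 * j ≤ 2 ^ j := by
      intro j hj
      induction j, hj using Nat.le_induction with
      | base => norm_num
      | succ m hm ih => rw [pow_succ]; omega
    have := h2 L hL6
    omega
  set kH := Nat.card (ConjClasses G) with hkH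
  have hkH1 : 1 ≤ kH := k_pos G
  by_contra hcon
  push Not at hcon
  -- the dimension is large
  have hnpos : 0 < n := by
    rcases Nat.eq_zero_or_pos n with h0 | h0
    · exfalso
      rw [h0, zero_pow (by omega), mul_zero] at hcl
      have := Nat.one_lt_pow (show a ≠ 0 by omega) hp.one_lt
      omega
    · exact h0
  have hn3L : 3 * L < n := by
    by_contra hle
    push Not at hle
    obtain ⟨b, rfl⟩ : ∃ b, a = b + 1 := ⟨a - 1, by omega⟩
    have h1 : p ^ b * (p - 1) ≤ p ^ b * ((kH - 1) * n) := by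
      calc p ^ b * (p - 1) ≤ p ^ (b + 1) - 1 := by
            rw [Nat.mul_sub, mul_one, ← pow_succ]
            have := Nat.one_le_pow b p hp.pos
            omega
        _ ≤ (kH - 1) * n ^ (b + 1) := hcl
        _ ≤ (kH - 1) * (p ^ b * n) := Nat.mul_le_mul_left _ (by
            rw [pow_succ]; exact Nat.mul_le_mul_right _ (Nat.pow_le_pow_left (by omega) b))
        _ = _ := by ring
    have h2 := Nat.le_of_mul_le_mul_left h1 (pow_pos hp.pos b)
    have h3 : (kH - 1) * n ≤ (kH - 1) * (3 * L) := Nat.mul_le_mul_left _ hle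
    have h4 : (kH - 1 + 1) * (3 * L) ≤ K * (3 * L) := Nat.mul_le_mul_right _ (by omega)
    rw [Nat.add_mul, one_mul] at h4
    have h5 : K * (3 * L) = 3 * K * L := by ring
    omega
  -- `|G| / k(G)` must be large
  have hrho : ∀ B, RB G 1 B → 35 * L ^ 2 * r ^ n < B * p ^ 2 := by
    intro B hB
    by_contra hle
    push Not at hle
    have hrn : 2 ^ 18 ≤ r ^ n := (Nat.pow_le_pow_left hr.two_le 18).trans
      (Nat.pow_le_pow_right hr.pos (by omega))
    have h1 : r ^ n - 1 ≤ R * (B * kH) := by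
      refine le_trans (show r ^ n - 1 ≤ R * Nat.card G by omega) (Nat.mul_le_mul_left _ ?_)
      have := hB
      unfold RB at this
      rwa [one_mul] at this
    have h2 : 35 * r ^ n ≤ 36 * (r ^ n - 1) := by omega
    have h3 : 4 * (R * kH) ≤ K ^ 2 := by
      refine le_trans ?_ (Nat.pow_le_pow_left (show R + kH ≤ K by omega) 2)
      have := four_mul_le_sq_add R kH
      linarith
    have h4 : B * p ^ 2 ≤ B * (9 * L ^ 2 * K ^ 2) := by
      calc B * p ^ 2 ≤ 35 * L ^ 2 * r ^ n := hle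
        _ = L ^ 2 * (35 * r ^ n) := by ring
        _ ≤ L ^ 2 * (36 * (r ^ n - 1)) := Nat.mul_le_mul_left _ h2
        _ ≤ L ^ 2 * (36 * (R * (B * kH))) := Nat.mul_le_mul_left _ (Nat.mul_le_mul_left _ h1)
        _ = 9 * L ^ 2 * B * (4 * (R * kH)) := by ring
        _ ≤ 9 * L ^ 2 * B * K ^ 2 := Nat.mul_le_mul_left _ h3
        _ = _ := by ring
    have hB0 : 0 < B := by
      rcases Nat.eq_zero_or_pos B with rfl | h0
      · unfold RB at hB
        have : 0 < Nat.card G := Nat.card_pos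
        omega
      · exact h0
    have h5 := Nat.le_of_mul_le_mul_left h4 hB0
    have h6 : (3 * K * L) ^ 2 < p ^ 2 := Nat.pow_lt_pow_left hcon (by norm_num)
    nlinarith
  have hQ : ∀ i, p < r ^ f i := fun i => by
    have h0 := Nat.one_lt_pow (show f i ≠ 0 by have := hf i; omega) hr.one_lt
    have := Nat.le_of_dvd (by omega) (hdvd i)
    omega
  have hQ98 : ∀ i, 98 ≤ r ^ f i := fun i => by have := hQ i; omega
  have h2Q : ∀ i, 2 ^ f i ≤ r ^ f i := fun i => Nat.pow_le_pow_left hr.two_le _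
  have hrn : r ^ n = ∏ i : Fin k, (r ^ f i) ^ w i := by
    rw [Finset.prod_congr rfl (fun i _ => by rw [← pow_mul, hu i]), Finset.prod_const,
      Finset.card_univ, Fintype.card_fin, ← pow_mul, hn, mul_comm]
  let i₀ : Fin k := ⟨0, by omega⟩
  rcases Nat.lt_or_ge k 2 with hk2 | hk2
  · -- one block
    have hk1 : k = 1 := by omega
    have hall : ∀ i : Fin k, i = i₀ := fun i => Fin.ext (by have := i.2; simp [i₀]; omega)
    have huniv : (Finset.univ : Finset (Fin k)) = {i₀} := by ext i; simp [hall i]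
    have h := hrho _ (hrb2.mono (Nat.mul_le_mul_right _ (Nat.pow_le_pow_left (hEb hk1 i₀) 2)))
    rw [huniv, Finset.prod_singleton, hrn, huniv, Finset.prod_singleton] at h
    set Q := r ^ f i₀ with hQd
    rcases Nat.lt_or_ge (w i₀) 2 with hw2 | hw2
    · have hw1 : w i₀ = 1 := by have := hw i₀; omega
      rw [hw1] at h
      have hfn : 3 * L < f i₀ := by
        have := hu i₀
        rw [hw1, mul_one] at this
        rw [hn, hk1, one_mul, ← this] at hn3L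
        exact hn3L
      have hsb := single_big hL6 hpL hfn (h2Q i₀)
      rw [← hQd] at hsb
      simp only [Nat.sub_self, pow_zero, mul_one, pow_one] at h
      omega
    · obtain ⟨j, hj⟩ : ∃ j, w i₀ = j + 2 := ⟨w i₀ - 2, by omega⟩
      rw [hj] at h
      have h1 := field_sq hL6 hpL (hQ i₀) (h2Q i₀)
      have h2 : 25 ^ (j + 1) * (L + 1) ^ 2 ≤ 35 * L ^ 2 * Q ^ j := by
        have h25 : 25 ^ j ≤ Q ^ j := Nat.pow_le_pow_left (by have := hQ98 i₀; omega) j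
        have hLL : 25 * (L + 1) ^ 2 ≤ 35 * L ^ 2 := by nlinarith
        calc 25 ^ (j + 1) * (L + 1) ^ 2 = 25 ^ j * (25 * (L + 1) ^ 2) := by rw [pow_succ]; ring
          _ ≤ Q ^ j * (35 * L ^ 2) := Nat.mul_le_mul h25 hLL
          _ = _ := by ring
      refine absurd h (not_lt.2 ?_)
      rw [show j + 2 - 1 = j + 1 from rfl]
      calc f i₀ ^ 2 * 25 ^ (j + 1) * p ^ 2 = (f i₀ ^ 2 * p) * 25 ^ (j + 1) * p := by ring
        _ ≤ ((L + 1) ^ 2 * Q) * 25 ^ (j + 1) * Q :=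
            Nat.mul_le_mul (Nat.mul_le_mul_right _ h1) (hQ i₀).le
        _ = 25 ^ (j + 1) * (L + 1) ^ 2 * Q ^ 2 := by ring
        _ ≤ 35 * L ^ 2 * Q ^ j * Q ^ 2 := Nat.mul_le_mul_right _ h2
        _ = _ := by rw [pow_add]; ring
  rcases Nat.lt_or_ge a 2 with ha2 | ha2
  · -- cyclic subgroup
    let i₁ : Fin k := ⟨1, by omega⟩
    have h01 : i₁ ≠ i₀ := fun e => by simp [i₀, i₁] at e
    have hEn : E ≤ n := hE1 (by omega)
    have h := hrho _ (hrb2.mono (Nat.mul_le_mul_right _ (Nat.pow_le_pow_left hEn 2)))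
    refine absurd h (not_lt.2 ?_)
    set Q₀ := r ^ f i₀ with hQ₀
    set Q₁ := r ^ f i₁ with hQ₁
    set T := ((Finset.univ : Finset (Fin k)).erase i₀).erase i₁ with hT
    have hsplit : ∀ g : Fin k → ℕ, ∏ i, g i = g i₀ * (g i₁ * ∏ i ∈ T, g i) := fun g => by
      rw [← Finset.mul_prod_erase _ _ (Finset.mem_univ i₀),
        ← Finset.mul_prod_erase _ _ (Finset.mem_erase.2 ⟨h01, Finset.mem_univ i₁⟩)]
    rw [hsplit, hrn, hsplit]
    have hTcard : T.card = k - 2 := by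
      rw [hT, Finset.card_erase_of_mem (Finset.mem_erase.2 ⟨h01, Finset.mem_univ i₁⟩),
        Finset.card_erase_of_mem (Finset.mem_univ i₀), Finset.card_univ, Fintype.card_fin]
      omega
    have hTle : 98 ^ (k - 2) * ∏ i ∈ T, 25 ^ (w i - 1) ≤ ∏ i ∈ T, (r ^ f i) ^ w i := by
      rw [← hTcard, ← Finset.prod_const, ← Finset.prod_mul_distrib]
      refine Finset.prod_le_prod' fun i _ => ?_
      obtain ⟨j, hj⟩ : ∃ j, w i = j + 1 := ⟨w i - 1, by have := hw i; omega⟩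
      rw [hj, Nat.add_sub_cancel, pow_succ' (r ^ f i)]
      exact Nat.mul_le_mul (hQ98 i) (Nat.pow_le_pow_left (by have := hQ98 i; omega) j)
    have hk98 : 98 * k ^ 2 ≤ 1260 * 98 ^ (k - 2) := by
      have key : ∀ m, 2 ≤ m → 98 * m ^ 2 ≤ 1260 * 98 ^ (m - 2) := by
        intro m hm
        induction m, hm using Nat.le_induction with
        | base => norm_num
        | succ j hj ih =>
          rw [show j + 1 - 2 = (j - 2) + 1 by omega, pow_succ 98]
          nlinarith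
      exact key k hk2
    have h0 := field_sq hL6 hpL (hQ i₀) (h2Q i₀)
    have hw0 := sq_pow25_le (hQ98 i₀) (hw i₀)
    have hw1 : 25 ^ (w i₁ - 1) ≤ Q₁ ^ (w i₁ - 1) := pow25_le (hQ98 i₁)
    have hpow : ∀ i, (r ^ f i) ^ w i = r ^ f i * (r ^ f i) ^ (w i - 1) := fun i => by
      rw [← pow_succ']; congr 1; have := hw i; omega
    have hnu : n = k * (f i₀ * w i₀) := by rw [hu i₀, ← hn]
    have hL49 : 36 * (L + 1) ^ 2 ≤ 49 * L ^ 2 := by nlinarith
    rw [hpow i₀, hpow i₁, hnu]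
    refine Nat.le_of_mul_le_mul_left ?_ (show 0 < 36 by norm_num)
    set P := ∏ i ∈ T, 25 ^ (w i - 1)
    set V' := ∏ i ∈ T, (r ^ f i) ^ w i
    set a₀ := Q₀ ^ (w i₀ - 1)
    set a₁ := Q₁ ^ (w i₁ - 1)
    calc 36 * ((k * (f i₀ * w i₀)) ^ 2 * (25 ^ (w i₀ - 1) * (25 ^ (w i₁ - 1) * P)) * p ^ 2)
        = 36 * (k ^ 2 * (f i₀ ^ 2 * p) * (w i₀ ^ 2 * 25 ^ (w i₀ - 1)) * 25 ^ (w i₁ - 1) * P * p) := by
          ring
      _ ≤ 36 * (k ^ 2 * ((L + 1) ^ 2 * Q₀) * (2 * a₀) * a₁ * P * Q₁) :=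
          Nat.mul_le_mul_left _ (Nat.mul_le_mul (Nat.mul_le_mul_right _ (Nat.mul_le_mul
            (Nat.mul_le_mul (Nat.mul_le_mul_left _ h0) hw0) hw1)) (hQ i₁).le)
      _ = 36 * (L + 1) ^ 2 * (2 * k ^ 2) * (Q₀ * a₀ * (Q₁ * a₁)) * P := by ring
      _ ≤ 49 * L ^ 2 * (2 * k ^ 2) * (Q₀ * a₀ * (Q₁ * a₁)) * P :=
          Nat.mul_le_mul_right _ (Nat.mul_le_mul_right _ (Nat.mul_le_mul_right _ hL49))
      _ = L ^ 2 * (98 * k ^ 2) * (Q₀ * a₀ * (Q₁ * a₁)) * P := by ring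
      _ ≤ L ^ 2 * (1260 * 98 ^ (k - 2)) * (Q₀ * a₀ * (Q₁ * a₁)) * P :=
          Nat.mul_le_mul_right _ (Nat.mul_le_mul_right _ (Nat.mul_le_mul_left _ hk98))
      _ = 1260 * L ^ 2 * (Q₀ * a₀ * (Q₁ * a₁)) * (98 ^ (k - 2) * P) := by ring
      _ ≤ 1260 * L ^ 2 * (Q₀ * a₀ * (Q₁ * a₁)) * V' := Nat.mul_le_mul_left _ hTle
      _ = _ := by ring
  -- noncyclic subgroup
  have hKk' : k + 1 ≤ K := by omega
  have hn2 : 3 * L * p < n ^ 2 := by
    by_contra hle
    push Not at hle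
    have hnp : n ≤ p := by
      by_contra h
      push Not at h
      have : p * p < n ^ 2 := by rw [pow_two]; exact Nat.mul_lt_mul'' h h
      have : 3 * L * p ≤ p * p := Nat.mul_le_mul_right _ h3L
      omega
    obtain ⟨b, rfl⟩ : ∃ b, a = b + 2 := ⟨a - 2, by omega⟩
    have h1 : p ^ b * (p ^ 2 - 1) ≤ p ^ b * ((kH - 1) * n ^ 2) := by
      calc p ^ b * (p ^ 2 - 1) ≤ p ^ (b + 2) - 1 := by
            rw [Nat.mul_sub, mul_one, ← pow_add]
            have := Nat.one_le_pow b p hp.pos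
            omega
        _ ≤ (kH - 1) * n ^ (b + 2) := hcl
        _ ≤ (kH - 1) * (p ^ b * n ^ 2) := Nat.mul_le_mul_left _ (by
            rw [pow_add]; exact Nat.mul_le_mul_right _ (Nat.pow_le_pow_left hnp b))
        _ = _ := by ring
    have h2 := Nat.le_of_mul_le_mul_left h1 (pow_pos hp.pos b)
    have h3 : (kH - 1) * n ^ 2 ≤ (kH - 1) * (3 * L * p) := Nat.mul_le_mul_left _ hle
    have h4 : p * (p - 1) < (kH - 1) * (3 * L) * p := by
      have h41 : p * (p - 1) < p ^ 2 - 1 := by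
        rw [Nat.mul_sub, mul_one, pow_two]
        have : p * 1 ≤ p * p := Nat.mul_le_mul_left p hp.one_lt.le
        omega
      have : (kH - 1) * (3 * L) * p = (kH - 1) * (3 * L * p) := by ring
      omega
    rw [mul_comm p] at h4
    have h5 := Nat.lt_of_mul_lt_mul_right h4
    have h6 : (kH - 1) * (3 * L) ≤ K * (3 * L) := Nat.mul_le_mul_right _ (by omega)
    have h7 : K * (3 * L) = 3 * K * L := by ring
    omega
  by_cases hexc : ∃ i, p = 127 ∧ r = 2 ∧ f i = 7 ∧ w i ≤ 2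
  · obtain ⟨i, hp127, -, hfi, hwi⟩ := hexc
    subst hp127
    have hL : L = 6 := by rw [hLdef]; decide +kernel
    rw [hL] at hcon
    have hK7 : K ≤ 7 := by omega
    have hu14 : u ≤ 14 := by rw [← hu i, hfi]; omega
    have hn14 : n ≤ 14 * k := by rw [hn, mul_comm 14]; exact Nat.mul_le_mul_left _ hu14
    have hn127 : n ≤ 127 := by omega
    obtain ⟨b, rfl⟩ : ∃ b, a = b + 2 := ⟨a - 2, by omega⟩
    have h1 : 127 ^ b * (127 ^ 2 - 1) ≤ 127 ^ b * ((kH - 1) * n ^ 2) := by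
      calc 127 ^ b * (127 ^ 2 - 1) ≤ 127 ^ (b + 2) - 1 := by
            rw [Nat.mul_sub, mul_one, ← pow_add]
            have := Nat.one_le_pow b 127 (by norm_num)
            omega
        _ ≤ (kH - 1) * n ^ (b + 2) := hcl
        _ ≤ (kH - 1) * (127 ^ b * n ^ 2) := Nat.mul_le_mul_left _ (by
            rw [pow_add]; exact Nat.mul_le_mul_right _ (Nat.pow_le_pow_left hn127 b))
        _ = _ := by ring
    have h2 := Nat.le_of_mul_le_mul_left h1 (pow_pos (by norm_num) b)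
    have h3 : (kH - 1) * n ^ 2 ≤ (kH - 1) * (14 * k) ^ 2 :=
      Nat.mul_le_mul_left _ (Nat.pow_le_pow_left hn14 2)
    have hkH7 : kH - 1 ≤ 6 - k := by omega
    have h4 : (kH - 1) * (14 * k) ^ 2 ≤ (6 - k) * (14 * k) ^ 2 := Nat.mul_le_mul_right _ hkH7
    have hk7 : k ≤ 6 := by omega
    interval_cases k <;> omega
  push Not at hexc
  have hblk : ∀ i, (9 * f i ^ 2 * 25 ^ (w i - 1)) ^ 8 * 2 ^ (f i * w i) ≤ (r ^ f i) ^ (8 * w i) := by
    intro i
    rcases field_key hp hp97 hr (hf i) (hdvd i) with h | ⟨h127, h2', h7⟩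
    · exact block_step (hQ98 i) (h2Q i) (hw i) le_rfl (by simpa using h)
    · have hw3 : 3 ≤ w i := hexc i h127 h2' h7
      refine block_step (hQ98 i) (h2Q i) hw3 (by norm_num) ?_
      rw [h2', h7]
      norm_num
  have h := hrho _ hrb1
  have h9 : (9 * (t ^ 2 * ∏ i, (25 ^ (w i - 1) * f i ^ 2))) ^ 8 * 2 ^ n ≤ (r ^ n) ^ 8 := by
    have ht2 : 9 * t ^ 2 ≤ 9 ^ k := by
      calc 9 * t ^ 2 ≤ 9 * (3 ^ (k - 1)) ^ 2 := Nat.mul_le_mul_left _ (Nat.pow_le_pow_left ht 2)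
        _ = 9 * 9 ^ (k - 1) := by rw [← pow_mul, mul_comm (k - 1), pow_mul]; norm_num
        _ = 9 ^ k := by rw [← pow_succ']; congr 1; omega
    have h2n : 2 ^ n = ∏ i : Fin k, 2 ^ (f i * w i) := by
      rw [Finset.prod_congr rfl (fun i _ => by rw [hu i]), Finset.prod_const, Finset.card_univ,
        Fintype.card_fin, ← pow_mul, hn, mul_comm]
    calc (9 * (t ^ 2 * ∏ i, (25 ^ (w i - 1) * f i ^ 2))) ^ 8 * 2 ^ n
        = (9 * t ^ 2 * ∏ i, (25 ^ (w i - 1) * f i ^ 2)) ^ 8 * 2 ^ n := by rw [mul_assoc]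
      _ ≤ (9 ^ k * ∏ i, (25 ^ (w i - 1) * f i ^ 2)) ^ 8 * 2 ^ n :=
          Nat.mul_le_mul_right _ (Nat.pow_le_pow_left (Nat.mul_le_mul_right _ ht2) 8)
      _ = ∏ i, (9 * f i ^ 2 * 25 ^ (w i - 1)) ^ 8 * 2 ^ (f i * w i) := by
          rw [h2n, show (9 : ℕ) ^ k = ∏ _i : Fin k, 9 by simp, ← Finset.prod_mul_distrib,
            ← Finset.prod_pow, ← Finset.prod_mul_distrib]
          exact Finset.prod_congr rfl fun i _ => by ring
      _ ≤ ∏ i, (r ^ f i) ^ (8 * w i) := Finset.prod_le_prod' fun i _ => hblk i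
      _ = _ := by
          rw [hrn, ← Finset.prod_pow]
          exact Finset.prod_congr rfl fun i _ => by rw [← pow_mul (r ^ f i), mul_comm]
  set B := t ^ 2 * ∏ i, (25 ^ (w i - 1) * f i ^ 2) with hB
  -- compare the two bounds
  have h10 : (9 * (35 * L ^ 2 * r ^ n)) ^ 8 * 2 ^ n < (r ^ n) ^ 8 * (p ^ 2) ^ 8 := by
    calc (9 * (35 * L ^ 2 * r ^ n)) ^ 8 * 2 ^ n < (9 * (B * p ^ 2)) ^ 8 * 2 ^ n := by
          refine Nat.mul_lt_mul_of_pos_right (Nat.pow_lt_pow_left ?_ (by norm_num)) (Nat.two_pow_pos n)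
          omega
      _ = (9 * B) ^ 8 * 2 ^ n * (p ^ 2) ^ 8 := by ring
      _ ≤ _ := Nat.mul_le_mul_right _ h9
  have h11 : (315 * L ^ 2) ^ 8 * 2 ^ n < (p ^ 2) ^ 8 := by
    refine Nat.lt_of_mul_lt_mul_left (a := (r ^ n) ^ 8) ?_
    calc (r ^ n) ^ 8 * ((315 * L ^ 2) ^ 8 * 2 ^ n) = (9 * (35 * L ^ 2 * r ^ n)) ^ 8 * 2 ^ n := by ring
      _ < _ := h10
  have h12 : 2 ^ (104 + n) < 2 ^ (16 * L + 16) := by
    calc 2 ^ (104 + n) = (2 ^ 13) ^ 8 * 2 ^ n := by rw [pow_add, ← pow_mul]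
      _ ≤ (315 * L ^ 2) ^ 8 * 2 ^ n := by
          refine Nat.mul_le_mul_right _ (Nat.pow_le_pow_left ?_ 8)
          nlinarith
      _ < (p ^ 2) ^ 8 := h11
      _ ≤ ((2 ^ (L + 1)) ^ 2) ^ 8 := Nat.pow_le_pow_left (Nat.pow_le_pow_left hpL.le 2) 8
      _ = _ := by rw [← pow_mul, ← pow_mul]; congr 1; ring
  have h13 : 104 + n < 16 * L + 16 := (Nat.pow_lt_pow_iff_right (by norm_num)).1 h12
  have key : ∀ j, 6 ≤ j → (16 * j - 88) ^ 2 ≤ 3 * j * 2 ^ j := by
    intro j hj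
    rcases Nat.lt_or_ge j 8 with h8 | h8
    · interval_cases j <;> norm_num
    induction j, h8 using Nat.le_induction with
    | base => norm_num
    | succ m hm ih =>
      have ih' := ih (by omega)
      have h14 : 5 * (16 * (m + 1) - 88) ≤ 7 * (16 * m - 88) := by omega
      have h15 := Nat.pow_le_pow_left h14 2
      rw [mul_pow, mul_pow] at h15
      rw [pow_succ 2 m]
      have : 3 * m * (2 ^ m * 2) ≤ 3 * (m + 1) * (2 ^ m * 2) := Nat.mul_le_mul_right _ (by omega)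
      have : 3 * m * (2 ^ m * 2) = 2 * (3 * m * 2 ^ m) := by ring
      omega
  have h16 : n ^ 2 ≤ (16 * L - 88) ^ 2 := Nat.pow_le_pow_left (by omega) 2
  have h17 : 3 * L * 2 ^ L ≤ 3 * L * p := Nat.mul_le_mul_left _ (Nat.pow_log_le_self 2 (by omega))
  have := key L hL6
  omega

end Cfsg.Agent.KGBound86
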