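import Mathlib
import Cfsg.Agent.Lib.KGBound86CR

/-!
An induction principle for completely reducible solvable linear groups.
-/

set_option autoImplicit false

namespace Cfsg.Agent.KGBound86

open Cfsg.Agent.OddBase75

/-- A bound `β n` on some invariant propagates through sums, blocks and primitive groups. -/
theorem cr_induction (Φ : ∀ (H : Type) [Group H] [Finite H], ℕ → Prop)
    (hmono : ∀ (H : Type) [Group H] [Finite H] (a b : ℕ), Φ H a → a ≤ b → Φ H b)
    (hprod : ∀ (H H₁ H₂ : Type) [Group H] [Finite H] [Group H₁] [Finite H₁] [Group H₂] [Finite H₂]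
      (f : H →* H₁ × H₂) (a b : ℕ), Function.Injective f → Φ H₁ a → Φ H₂ b → Φ H (b * a))
    (hidx : ∀ (H : Type) [Group H] [Finite H] (B : Subgroup H) [B.Normal] (b : ℕ),
      Φ B b → Φ H (B.index * b))
    (hpi : ∀ (H : Type) [Group H] [Finite H] (ι : Type) [Fintype ι] (M : ι → Type) [∀ i, Group (M i)]
      [∀ i, Finite (M i)] (f : H →* ∀ i, M i) (b : ℕ), Function.Injective f →
      (∀ i, Φ (M i) b) → Φ H (b ^ Fintype.card ι))
    {p : ℕ} [Fact p.Prime] (β : ℕ → ℕ) (N : ℕ)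
    (hred : ∀ a b, 1 ≤ a → 1 ≤ b → a + b ≤ N → β b * β a ≤ β (a + b))
    (hblk : ∀ k w, 2 ≤ k → 1 ≤ w → k * w ≤ N →
      min (3 ^ (k - 1)) k.factorial * β w ^ k ≤ β (k * w))
    (hprim : ∀ (H W : Type) [Group H] [Finite H] [Group.IsSolvable H] [AddCommGroup W] [Finite W]
      [DistribMulAction H W] [FaithfulSMul H W] [Nontrivial W], Prim H W →
      ∀ n, 1 ≤ n → n ≤ N → Nat.card W = p ^ n → Φ H (β n)) :
    ∀ n, 1 ≤ n → n ≤ N → ∀ (H W : Type) [Group H] [Finite H] [Group.IsSolvable H] [AddCommGroup W]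
      [Finite W] [DistribMulAction H W] [FaithfulSMul H W], CR H W → Nat.card W = p ^ n →
      Φ H (β n) := by
  intro n
  induction n using Nat.strong_induction_on with
  | _ n IH =>
  intro hn1 hnN H W _ _ _ _ _ _ _ hcr hW
  classical
  have hp : p.Prime := Fact.out
  haveI : Nontrivial W := Finite.one_lt_card_iff_nontrivial.1 (by
    rw [hW]; exact Nat.one_lt_pow (by omega) hp.one_lt)
  by_cases hirr : Irred H W
  swap
  · simp only [Irred, not_forall, not_or, exists_prop] at hirr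
    obtain ⟨U, hU, hU0, hU1⟩ := hirr
    obtain ⟨U', hU', hd, hs⟩ := hcr U hU
    letI i1 := subAct U hU
    letI i2 := subAct U' hU'
    have hprod' : Nat.card W = Nat.card U * Nat.card U' := by
      rw [← Nat.card_prod]
      refine (Nat.card_congr (Equiv.ofBijective (fun p : U × U' => (p.1 : W) + p.2) ⟨?_, ?_⟩)).symm
      · exact AddSubgroup.add_injective_of_disjoint (disjoint_iff.2 hd)
      · intro x
        obtain ⟨a, ha, b, hb, hab⟩ := AddSubgroup.mem_sup.1 (hs ▸ AddSubgroup.mem_top x : x ∈ U ⊔ U')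
        exact ⟨(⟨a, ha⟩, ⟨b, hb⟩), hab⟩
    rw [hW] at hprod'
    obtain ⟨a, -, ha⟩ := (Nat.dvd_prime_pow hp).1 ⟨_, hprod'⟩
    obtain ⟨b, -, hb⟩ := (Nat.dvd_prime_pow hp).1 ⟨_, hprod'.trans (mul_comm _ _)⟩
    have hab : n = a + b := Nat.pow_right_injective hp.two_le (by
      show p ^ n = p ^ (a + b)
      rw [pow_add, ← ha, ← hb]; exact hprod')
    have ha1 : 1 ≤ a := by
      by_contra h
      exact hU0 (AddSubgroup.eq_bot_of_card_eq U (by rw [ha, show a = 0 by omega, pow_zero]))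
    have hb1 : 1 ≤ b := by
      by_contra h
      refine hU1 (AddSubgroup.eq_top_of_card_eq U ?_)
      rw [hW, hab, show b = 0 by omega, add_zero, ha]
    haveI : Finite (actHom H U).range := Finite.of_surjective _ (actHom H U).rangeRestrict_surjective
    haveI : Finite (actHom H U').range :=
      Finite.of_surjective _ (actHom H U').rangeRestrict_surjective
    haveI : Group.IsSolvable (actHom H U).range :=
      Group.isSolvable_of_surjective (actHom H U).rangeRestrict_surjective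
    haveI : Group.IsSolvable (actHom H U').range :=
      Group.isSolvable_of_surjective (actHom H U').rangeRestrict_surjective
    haveI := faithful_range (H := H) (W := U)
    haveI := faithful_range (H := H) (W := U')
    have h1 := IH a (by omega) ha1 (by omega) (actHom H U).range U (cr_range (cr_sub hcr U hU)) ha
    have h2 := IH b (by omega) hb1 (by omega) (actHom H U').range U' (cr_range (cr_sub hcr U' hU')) hb
    have hinj : Function.Injective
        ((actHom H U).rangeRestrict.prod (actHom H U').rangeRestrict) := by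
      intro g h e
      refine eq_of_smul_eq_smul (α := W) fun x => ?_
      obtain ⟨u, hu, w, hw, rfl⟩ := AddSubgroup.mem_sup.1 (hs ▸ AddSubgroup.mem_top x : x ∈ U ⊔ U')
      have e1 : g • (⟨u, hu⟩ : U) = h • (⟨u, hu⟩ : U) := by
        have t : (actHom H U) g = (actHom H U) h := congrArg (fun p => p.1.1) e
        exact congrArg (fun v : (AddMonoid.End U)ˣ => v • (⟨u, hu⟩ : U)) t
      have e2 : g • (⟨w, hw⟩ : U') = h • (⟨w, hw⟩ : U') := by
        have t : (actHom H U') g = (actHom H U') h := congrArg (fun p => p.2.1) e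
        exact congrArg (fun v : (AddMonoid.End U')ˣ => v • (⟨w, hw⟩ : U')) t
      rw [smul_add, smul_add]
      exact congrArg₂ (· + ·) (congrArg Subtype.val e1) (congrArg Subtype.val e2)
    refine hmono _ _ _ (hprod _ _ _ _ _ _ hinj h1 h2) ?_
    rw [hab]
    exact hred a b ha1 hb1 (by omega)
  rcases blocks_or_prim hirr with ⟨Ω, _, _, B, hΩ⟩ | ⟨⟨P⟩⟩
  swap
  · exact hprim H W P n hn1 hnN hW
  haveI := Fintype.ofFinite Ω
  obtain ⟨o⟩ : Nonempty Ω := Finite.card_pos_iff.1 (by omega)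
  let f : H →* Equiv.Perm Ω := MulAction.toPermHom H Ω
  haveI : Group.IsSolvable f.range := Group.isSolvable_of_surjective f.rangeRestrict_surjective
  have hker : ∀ (g : f.ker) (i : Ω), (g : H) ∈ MulAction.stabilizer H i := fun g i =>
    MulAction.mem_stabilizer_iff.2 (Equiv.ext_iff.1 g.2 i)
  let Ψ : f.ker →* ∀ i, (B.act i).range :=
    Pi.monoidHom fun i => (B.act i).rangeRestrict.comp
      { toFun := fun g : f.ker => ⟨(g : H), hker g i⟩
        map_one' := rfl
        map_mul' := fun _ _ => rfl }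
  have hsum : ∀ x, x = ∑ i, B.π i x := by
    intro x
    obtain ⟨s, hmem, h⟩ := B.total x
    rwa [Finset.eq_univ_iff_forall.2 hmem] at h
  have hΨ : Function.Injective Ψ := by
    refine (injective_iff_map_eq_one Ψ).2 fun g hg => Subtype.ext (eq_of_smul_eq_smul (α := W) fun x => ?_)
    show (g : H) • x = (1 : H) • x
    rw [one_smul]
    conv_lhs => rw [hsum x, Finset.smul_sum]
    conv_rhs => rw [hsum x]
    refine Finset.sum_congr rfl fun i _ => ?_
    have h1 := congrArg Subtype.val (congrFun hg i)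
    have h2 := congrArg (fun u : (AddMonoid.End (B.blk i))ˣ =>
      ((u • (⟨B.π i x, x, rfl⟩ : B.blk i) : B.blk i) : W)) h1
    exact h2.trans (congrArg Subtype.val (one_smul _ (⟨B.π i x, x, rfl⟩ : B.blk i)))
  haveI : ∀ i, Group.IsSolvable (B.act i).range := fun i =>
    Group.isSolvable_of_surjective (B.act i).rangeRestrict_surjective
  haveI : ∀ i, Finite (B.act i).range := fun i =>
    Finite.of_surjective _ (B.act i).rangeRestrict_surjective
  haveI : ∀ i, FaithfulSMul (B.act i).range (B.blk i) := fun i =>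
    ⟨fun {g h} hgh => Subtype.ext (Units.ext (AddMonoidHom.ext hgh))⟩
  set k := Fintype.card Ω with hk
  have hk2 : 2 ≤ k := by rw [hk, ← Nat.card_eq_fintype_card]; exact hΩ
  have hcard : Nat.card W = Nat.card (B.blk o) ^ k := by
    rw [B.card_V, Finset.prod_congr rfl (fun i _ => B.card_blk i o), Finset.prod_const,
      Finset.card_univ]
  rw [hW] at hcard
  obtain ⟨w, -, hw⟩ := (Nat.dvd_prime_pow hp).1
    (hcard ▸ dvd_pow_self (Nat.card (B.blk o)) (show k ≠ 0 by omega))
  rw [hw, ← pow_mul] at hcard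
  have hn : n = k * w := (Nat.pow_right_injective hp.two_le hcard).trans (mul_comm _ _)
  have hw1 : 1 ≤ w := by
    rcases Nat.eq_zero_or_pos w with rfl | h
    · omega
    · exact h
  have hwn : w < n := by
    rw [hn]; exact lt_mul_of_one_lt_left hw1 hk2
  have hb := hidx H f.ker _ (hpi f.ker Ω (fun i => (B.act i).range) Ψ (β w) hΨ fun i =>
    IH w hwn hw1 (by omega) _ (B.blk i) (B.blk_irred hirr i).cr (by rw [B.card_blk i o, hw]))
  refine hmono _ _ _ hb (le_trans (Nat.mul_le_mul_right _ ?_) (hn ▸ hblk k w hk2 hw1 (hn ▸ hnN)))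
  refine le_min ?_ ?_
  · rw [Subgroup.index_ker, hk, ← Nat.card_eq_fintype_card]
    exact card_solvable_perm_le
  · rw [Subgroup.index_ker]
    refine (Subgroup.card_le_card_group _).trans (le_of_eq ?_)
    rw [Nat.card_perm, Nat.card_eq_fintype_card]

/-- Orders of completely reducible solvable groups in small dimension. -/
def ordTable (p n : ℕ) : ℕ :=
  if p = 2 then [1, 1, 6, 21, 72, 155, 1944, 2268, 34992, 83349, 629856].getD n 0
  else [1, 2, 48, 96, 4608].getD n 0

set_option synthInstance.maxSize 2000 in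
set_option maxRecDepth 4000 in
theorem card_cr_le {p n : ℕ} [Fact p.Prime] (hpn : p = 2 ∧ n ≤ 10 ∨ p = 3 ∧ n ≤ 4) (hn : 1 ≤ n)
    {H W : Type} [Group H] [Finite H] [Group.IsSolvable H] [AddCommGroup W] [Finite W]
    [DistribMulAction H W] [FaithfulSMul H W] (hcr : CR H W) (hW : Nat.card W = p ^ n) :
    Nat.card H ≤ ordTable p n := by
  refine cr_induction (fun H _ _ b => Nat.card H ≤ b) (fun _ _ _ _ _ h h' => h.trans h')
    ?_ ?_ ?_ (p := p) (ordTable p) (if p = 2 then 10 else 4) ?_ ?_ ?_ n hn ?_ H W hcr hW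
  · intro H H₁ H₂ _ _ _ _ _ _ f a b hf h1 h2
    refine (Nat.card_le_card_of_injective f hf).trans ?_
    rw [Nat.card_prod, mul_comm b]
    exact Nat.mul_le_mul h1 h2
  · intro H _ _ B _ b h
    rw [← B.index_mul_card]
    exact Nat.mul_le_mul_left _ h
  · intro H _ _ ι _ M _ _ f b hf h
    refine (Nat.card_le_card_of_injective f hf).trans ?_
    rw [Nat.card_pi, ← Finset.card_univ, ← Finset.prod_const]
    exact Finset.prod_le_prod' fun i _ => h i
  · rcases hpn with ⟨rfl, -⟩ | ⟨rfl, -⟩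
    · have key : ∀ a < 11, ∀ b < 11, 1 ≤ a → 1 ≤ b → a + b ≤ 10 →
          ordTable 2 b * ordTable 2 a ≤ ordTable 2 (a + b) := by decide +kernel
      exact fun a b ha hb hab => key a (by norm_num at hab; omega) b (by norm_num at hab; omega) ha hb
        (by simpa using hab)
    · have key : ∀ a < 5, ∀ b < 5, 1 ≤ a → 1 ≤ b → a + b ≤ 4 →
          ordTable 3 b * ordTable 3 a ≤ ordTable 3 (a + b) := by decide +kernel
      exact fun a b ha hb hab => key a (by norm_num at hab; omega) b (by norm_num at hab; omega) ha hb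
        (by simpa using hab)
  · rcases hpn with ⟨rfl, -⟩ | ⟨rfl, -⟩
    · have key : ∀ k < 11, ∀ w < 11, 2 ≤ k → 1 ≤ w → k * w ≤ 10 →
          min (3 ^ (k - 1)) k.factorial * ordTable 2 w ^ k ≤ ordTable 2 (k * w) := by decide +kernel
      intro k w hk hw hkw
      norm_num at hkw
      exact key k (by nlinarith) w (by nlinarith) hk hw hkw
    · have key : ∀ k < 5, ∀ w < 5, 2 ≤ k → 1 ≤ w → k * w ≤ 4 →
          min (3 ^ (k - 1)) k.factorial * ordTable 3 w ^ k ≤ ordTable 3 (k * w) := by decide +kernel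
      intro k w hk hw hkw
      norm_num at hkw
      exact key k (by nlinarith) w (by nlinarith) hk hw hkw
  · intro H W _ _ _ _ _ _ _ _ P n hn1 hnN hW
    have hp : p.Prime := Fact.out
    obtain ⟨S⟩ := exists_symp P
    obtain ⟨f, hf, hn', hf1, hl⟩ := field_data P hp hW
    obtain ⟨e, he, he1, hew, hm, hprimes⟩ := section_data S
    have hz : Nat.card P.A ≤ p ^ f - 1 := Nat.le_of_dvd (by
      have := Nat.one_lt_pow (show f ≠ 0 by omega) hp.one_lt; omega) (card_A_dvd P hf)
    have hs2 : ∀ j, j ≤ 6 → e * e = 2 ^ j → Nat.card (secHom S).range ≤ ordTwo j := fun j hj hej =>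
      section_small S hj (he.trans hej)
    have hH : Nat.card H ≤ f * ((p ^ f - 1) * (e * e) * Nat.card (secHom S).range) := by
      rw [← P.C.card_mul_index, mul_comm, card_C S, he]
      exact Nat.mul_le_mul hl (Nat.mul_le_mul_right _ (Nat.mul_le_mul hz le_rfl))
    refine hH.trans ?_
    have hw := dimK_pos P
    subst hn'
    rcases hpn with ⟨rfl, -⟩ | ⟨rfl, -⟩
    · norm_num at hnN
      have h8 : e = 8 → Nat.card (secHom S).range ≤ 1296 := fun h => hs2 6 le_rfl (by rw [h]; rfl)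
      have key : ∀ f < 11, ∀ w < 11, ∀ e < 11, 1 ≤ f → 1 ≤ e → e ≤ w → f * w ≤ 10 →
          (2 ∣ e → 2 ∣ 2 ^ f - 1) → (3 ∣ e → 3 ∣ 2 ^ f - 1) → (5 ∣ e → 5 ∣ 2 ^ f - 1) →
          (7 ∣ e → 7 ∣ 2 ^ f - 1) →
          f * ((2 ^ f - 1) * (e * e) * spBound e) ≤ ordTable 2 (f * w) := by
        have key' : ∀ f w e : Fin 11, (1 ≤ f.1 ∧ 1 ≤ e.1 ∧ e.1 ≤ w.1 ∧ f.1 * w.1 ≤ 10 ∧
            (2 ∣ e.1 → 2 ∣ 2 ^ f.1 - 1) ∧ (3 ∣ e.1 → 3 ∣ 2 ^ f.1 - 1) ∧ (5 ∣ e.1 → 5 ∣ 2 ^ f.1 - 1) ∧
            (7 ∣ e.1 → 7 ∣ 2 ^ f.1 - 1)) →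
            f.1 * ((2 ^ f.1 - 1) * (e.1 * e.1) * spBound e.1) ≤ ordTable 2 (f.1 * w.1) := by
          decide +kernel
        exact fun f hf w hw e he a b c d h2 h3 h5 h7 =>
          key' ⟨f, hf⟩ ⟨w, hw⟩ ⟨e, he⟩ ⟨a, b, c, d, h2, h3, h5, h7⟩
      refine le_trans (Nat.mul_le_mul_left _ (Nat.mul_le_mul_left _ hm)) (key f (by nlinarith)
        _ (by nlinarith) e (by nlinarith) hf1 he1 hew hnN ?_ ?_ ?_ ?_) <;>
        (intro hre; have := hprimes _ (by norm_num) hre; rwa [hf] at this)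
    · norm_num at hnN
      have h4 : e = 4 → Nat.card (secHom S).range ≤ 72 := fun h => hs2 4 (by norm_num) (by rw [h]; rfl)
      have key : ∀ f < 5, ∀ w < 5, ∀ e < 5, 1 ≤ f → 1 ≤ e → e ≤ w → f * w ≤ 4 →
          (2 ∣ e → 2 ∣ 3 ^ f - 1) → (3 ∣ e → 3 ∣ 3 ^ f - 1) →
          f * ((3 ^ f - 1) * (e * e) * (if e = 4 then 72 else spBound e)) ≤ ordTable 3 (f * w) := by
        have key' : ∀ f w e : Fin 5, (1 ≤ f.1 ∧ 1 ≤ e.1 ∧ e.1 ≤ w.1 ∧ f.1 * w.1 ≤ 4 ∧
            (2 ∣ e.1 → 2 ∣ 3 ^ f.1 - 1) ∧ (3 ∣ e.1 → 3 ∣ 3 ^ f.1 - 1)) →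
            f.1 * ((3 ^ f.1 - 1) * (e.1 * e.1) * (if e.1 = 4 then 72 else spBound e.1)) ≤
              ordTable 3 (f.1 * w.1) := by
          decide +kernel
        exact fun f hf w hw e he a b c d h2 h3 => key' ⟨f, hf⟩ ⟨w, hw⟩ ⟨e, he⟩ ⟨a, b, c, d, h2, h3⟩
      refine le_trans (Nat.mul_le_mul_left _ (Nat.mul_le_mul_left _ ?_)) (key f (by nlinarith)
        _ (by nlinarith) e (by nlinarith) hf1 he1 hew hnN ?_ ?_)
      · split_ifs with h
        · exact h4 h
        · exact hm
      all_goals (intro hre; have := hprimes _ (by norm_num) hre; rwa [hf] at this)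
  · rcases hpn with ⟨rfl, h⟩ | ⟨rfl, h⟩ <;> simpa using h

end Cfsg.Agent.KGBound86
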