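import Mathlib

/-! Elementary bound: a permutation group of degree `d` has at most `5^(d-1)` classes. -/

set_option autoImplicit false
set_option linter.style.haveILetI false

namespace Cfsg.Agent.PermClassBound87

open scoped Pointwise
open MulAction

/-- Number of commuting pairs with coordinates in two sets. -/
abbrev PairsIn {G : Type} [Group G] (U V : G → Prop) : Type :=
  {p : G × G // U p.1 ∧ V p.2 ∧ Commute p.1 p.2}

theorem pairs_coset_snd {G : Type} [Group G] [Finite G] (H : Subgroup G) (U V : G → Prop)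
    (hV : ∀ x y, V x → V y → x⁻¹ * y ∈ H) :
    Nat.card (PairsIn U V) ≤ Nat.card (PairsIn U (· ∈ H)) := by
  classical
  let b : G → G := fun a => if h : ∃ x, V x ∧ Commute a x then h.choose else 1
  have hb : ∀ a x, V x → Commute a x → V (b a) ∧ Commute a (b a) := by
    intro a x hx hc
    have h : ∃ x, V x ∧ Commute a x := ⟨x, hx, hc⟩
    simp only [b, dif_pos h]
    exact h.choose_spec
  refine Nat.card_le_card_of_injective
    (fun p => ⟨(p.1.1, (b p.1.1)⁻¹ * p.1.2), p.2.1,
      hV _ _ (hb _ _ p.2.2.1 p.2.2.2).1 p.2.2.1,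
      ((hb _ _ p.2.2.1 p.2.2.2).2.inv_right).mul_right p.2.2.2⟩) ?_
  rintro ⟨⟨a, x⟩, hp⟩ ⟨⟨a', x'⟩, hq⟩ h
  simp only [Subtype.mk.injEq, Prod.mk.injEq] at h ⊢
  obtain ⟨rfl, h⟩ := h
  exact ⟨rfl, mul_left_cancel h⟩

theorem pairs_swap {G : Type} [Group G] [Finite G] (U V : G → Prop) :
    Nat.card (PairsIn U V) = Nat.card (PairsIn V U) :=
  Nat.card_congr
    { toFun := fun p => ⟨p.1.swap, p.2.2.1, p.2.1, p.2.2.2.symm⟩
      invFun := fun p => ⟨p.1.swap, p.2.2.1, p.2.1, p.2.2.2.symm⟩
      left_inv := fun p => by simp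
      right_inv := fun p => by simp }

theorem pairs_coset_le {G : Type} [Group G] [Finite G] (H : Subgroup G) (U V : G → Prop)
    (hU : ∀ x y, U x → U y → x⁻¹ * y ∈ H) (hV : ∀ x y, V x → V y → x⁻¹ * y ∈ H) :
    Nat.card (PairsIn U V) ≤ Nat.card (ConjClasses H) * Nat.card H := by
  refine (pairs_coset_snd H U V hV).trans ?_
  rw [pairs_swap]
  refine (pairs_coset_snd H _ U hU).trans ?_
  rw [← card_comm_eq_card_conjClasses_mul_card H]
  refine Nat.card_le_card_of_injective
    (fun p => ⟨(⟨p.1.1, p.2.1⟩, ⟨p.1.2, p.2.2.1⟩), Subtype.ext p.2.2.2⟩) ?_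
  intro p q h
  exact Subtype.ext (congrArg (fun r => ((r.1.1 : G), (r.1.2 : G))) h)

theorem card_le_mul_of_fibre {A B : Type} [Finite A] [Finite B] (f : A → B) (k : ℕ)
    (h : ∀ b, Nat.card {a // f a = b} ≤ k) : Nat.card A ≤ Nat.card B * k := by
  classical
  haveI := Fintype.ofFinite B
  rw [← Nat.card_congr (Equiv.sigmaFiberEquiv f), Nat.card_sigma]
  refine (Finset.sum_le_sum (fun b _ => h b)).trans ?_
  simp [Nat.card_eq_fintype_card]

/-- `k(G) ≤ [G:H] k(H)`. -/
theorem k_le_index_mul {G : Type} [Group G] [Finite G] (H : Subgroup G) :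
    Nat.card (ConjClasses G) ≤ H.index * Nat.card (ConjClasses H) := by
  have key : Nat.card (ConjClasses G) * Nat.card G
      ≤ Nat.card ((G ⧸ H) × (G ⧸ H)) * (Nat.card (ConjClasses H) * Nat.card H) := by
    rw [← card_comm_eq_card_conjClasses_mul_card G]
    refine card_le_mul_of_fibre
      (fun p => ((p.1.1 : G ⧸ H), (p.1.2 : G ⧸ H))) _ fun b => ?_
    refine le_trans ?_ (pairs_coset_le H (fun x => (x : G ⧸ H) = b.1)
      (fun x => (x : G ⧸ H) = b.2)
      (fun x y hx hy => QuotientGroup.eq.1 (hx.trans hy.symm))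
      (fun x y hx hy => QuotientGroup.eq.1 (hx.trans hy.symm)))
    refine Nat.card_le_card_of_injective
      (fun p => ⟨p.1.1, congrArg Prod.fst p.2, congrArg Prod.snd p.2, p.1.2⟩) ?_
    rintro ⟨⟨a, ha⟩, hp⟩ ⟨⟨a', ha'⟩, hq⟩ h
    simpa using h
  rw [Nat.card_prod, ← H.card_mul_index, ← Subgroup.index] at key
  have hH : 0 < Nat.card H * H.index := by
    rw [H.card_mul_index]; exact Nat.card_pos
  refine Nat.le_of_mul_le_mul_right ?_ hH
  refine key.trans (le_of_eq ?_)
  ring

/-- `k(G) ≤ k(ker f) k(range f)`. -/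
theorem k_le_ker_mul_range {G M : Type} [Group G] [Finite G] [Group M] (f : G →* M) :
    Nat.card (ConjClasses G)
      ≤ Nat.card (ConjClasses f.ker) * Nat.card (ConjClasses f.range) := by
  haveI : Finite f.range := Finite.of_surjective _ f.rangeRestrict_surjective
  have key : Nat.card (ConjClasses G) * Nat.card G
      ≤ (Nat.card (ConjClasses f.range) * Nat.card f.range)
        * (Nat.card (ConjClasses f.ker) * Nat.card f.ker) := by
    rw [← card_comm_eq_card_conjClasses_mul_card G,
      ← card_comm_eq_card_conjClasses_mul_card f.range]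
    refine card_le_mul_of_fibre
      (fun p => ⟨(f.rangeRestrict p.1.1, f.rangeRestrict p.1.2), p.2.map f.rangeRestrict⟩) _
      fun b => ?_
    have hc : ∀ (u : f.range) x y, f.rangeRestrict x = u → f.rangeRestrict y = u →
        x⁻¹ * y ∈ f.ker := by
      intro u x y hx hy
      rw [← f.ker_rangeRestrict, MonoidHom.mem_ker, map_mul, map_inv, hx, hy, inv_mul_cancel]
    refine le_trans ?_ (pairs_coset_le f.ker (fun x => f.rangeRestrict x = b.1.1)
      (fun x => f.rangeRestrict x = b.1.2) (hc _) (hc _))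
    refine Nat.card_le_card_of_injective
      (fun p => ⟨p.1.1, congrArg Prod.fst (congrArg Subtype.val p.2),
        congrArg Prod.snd (congrArg Subtype.val p.2), p.1.2⟩) ?_
    rintro ⟨⟨a, ha⟩, hp⟩ ⟨⟨a', ha'⟩, hq⟩ h
    simpa using h
  have hG : Nat.card G = Nat.card f.range * Nat.card f.ker := by
    rw [← Subgroup.index_ker, mul_comm, Subgroup.card_mul_index]
  refine Nat.le_of_mul_le_mul_right ?_ (Nat.card_pos (α := G))
  refine key.trans (le_of_eq ?_)
  rw [hG]; ring

/-- `k(H) ≤ [G:H] k(G)`. -/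
theorem k_sub_le_index_mul {G : Type} [Group G] [Finite G] (H : Subgroup G) :
    Nat.card (ConjClasses H) ≤ H.index * Nat.card (ConjClasses G) := by
  have key : Nat.card (ConjClasses H) * Nat.card H ≤ Nat.card (ConjClasses G) * Nat.card G := by
    rw [← card_comm_eq_card_conjClasses_mul_card G, ← card_comm_eq_card_conjClasses_mul_card H]
    refine Nat.card_le_card_of_injective (fun p => ⟨(↑p.1.1, ↑p.1.2), p.2.map H.subtype⟩) ?_
    intro p q h
    have h' := congrArg (fun r => (r.1.1, r.1.2)) h
    simp only [Prod.mk.injEq] at h'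
    exact Subtype.ext (Prod.ext (Subtype.ext h'.1) (Subtype.ext h'.2))
  rw [← H.card_mul_index] at key
  refine Nat.le_of_mul_le_mul_right ?_ (Nat.card_pos (α := H))
  refine key.trans (le_of_eq ?_)
  ring

theorem k_congr {G M : Type} [Group G] [Group M] (e : G ≃* M) :
    Nat.card (ConjClasses G) = Nat.card (ConjClasses M) :=
  Nat.card_congr <| Equiv.ofBijective (ConjClasses.map e.toMonoidHom)
    ⟨Function.LeftInverse.injective (g := ConjClasses.map e.symm.toMonoidHom) (by
        intro x
        obtain ⟨a, rfl⟩ := ConjClasses.mk_surjective x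
        exact congrArg ConjClasses.mk (e.symm_apply_apply a)),
      ConjClasses.map_surjective e.surjective⟩

theorem k_perm (α : Type) [Finite α] :
    Nat.card (ConjClasses (Equiv.Perm α)) ≤ 2 ^ (Nat.card α - 1) := by
  classical
  haveI := Fintype.ofFinite α
  have hinj : Function.Injective (Quotient.lift (fun σ : Equiv.Perm α => σ.partition)
      (fun _ _ h => Equiv.Perm.partition_eq_of_isConj.1 h) :
      ConjClasses (Equiv.Perm α) → (Fintype.card α).Partition) := by
    intro x y
    induction x using Quotient.inductionOn with | _ a =>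
    induction y using Quotient.inductionOn with | _ b =>
    intro h
    exact Quotient.sound (Equiv.Perm.partition_eq_of_isConj.2 h)
  refine (Nat.card_le_card_of_injective _ hinj).trans ?_
  refine (Nat.card_le_card_of_surjective _ Nat.Partition.ofComposition_surj).trans ?_
  rw [Nat.card_eq_fintype_card, Nat.card_eq_fintype_card, composition_card]

/-- Restriction to an invariant subset. -/
def res {α : Type} (S : Subgroup (Equiv.Perm α)) (p : α → Prop)
    (h : ∀ g ∈ S, ∀ x, p (g x) ↔ p x) : S →* Equiv.Perm (Subtype p) where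
  toFun g := (g : Equiv.Perm α).subtypePerm (h g g.2)
  map_one' := Equiv.ext fun _ => rfl
  map_mul' _ _ := Equiv.ext fun _ => rfl

/-- Bochert: a primitive group not containing the alternating group has a base of at most
half the points. -/
theorem exists_small_base {α : Type} [Fintype α] [DecidableEq α] (S : Subgroup (Equiv.Perm α))
    [IsPreprimitive S α] (hA : ¬ alternatingGroup α ≤ S) :
    ∃ Δ : Finset α, 2 * Δ.card ≤ Fintype.card α ∧
      ∀ g ∈ S, (∀ x ∈ Δ, g x = x) → g = 1 := by
  classical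
  let bases : Finset (Finset α) :=
    Finset.univ.filter fun Δ => ∀ g ∈ S, (∀ x ∈ Δ, g x = x) → g = 1
  have hne : bases.Nonempty := by
    refine ⟨Finset.univ, ?_⟩
    simp only [bases, Finset.mem_filter, Finset.mem_univ, true_and]
    intro g _ h
    exact Equiv.ext fun x => h x trivial
  obtain ⟨Δ, hΔ, hmin⟩ := bases.exists_min_image Finset.card hne
  have hb : ∀ g ∈ S, (∀ x ∈ Δ, g x = x) → g = 1 := by
    simpa [bases] using hΔ
  refine ⟨Δ, ?_, hb⟩
  by_contra hbig
  have hnot : ∀ T : Finset α, T.card < Δ.card → ∃ g ∈ S, (∀ x ∈ T, g x = x) ∧ g ≠ 1 := by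
    intro T hT
    by_contra hc
    push Not at hc
    have : T ∈ bases := by simpa [bases] using hc
    have := hmin T this
    omega
  have hcompl : (Δᶜ).card < Δ.card := by
    rw [Finset.card_compl]; omega
  obtain ⟨h, hhS, hhfix, hh1⟩ := hnot _ hcompl
  have hhfix' : ∀ x, x ∉ Δ → h x = x := fun x hx => hhfix x (Finset.mem_compl.2 hx)
  obtain ⟨δ, hδ⟩ : ∃ δ, h δ ≠ δ := by
    by_contra hc
    push Not at hc
    exact hh1 (Equiv.ext hc)
  have hδΔ : δ ∈ Δ := by
    by_contra hc
    exact hδ (hhfix' δ hc)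
  obtain ⟨g, hgS, hgfix, hg1⟩ := hnot (Δ.erase δ) (Finset.card_erase_lt_of_mem hδΔ)
  have hgδ : g δ ≠ δ := by
    intro hc
    apply hg1
    apply hb g hgS
    intro x hx
    by_cases hxd : x = δ
    · rw [hxd, hc]
    · exact hgfix x (Finset.mem_erase.2 ⟨hxd, hx⟩)
  -- a point moved by `h` is fixed by `g` unless it is `δ`
  have hsep : ∀ x, h x ≠ x → x ≠ δ → g x = x := by
    intro x hx hxd
    exact hgfix x (Finset.mem_erase.2 ⟨hxd, by_contra fun hc => hx (hhfix' x hc)⟩)
  have hsep' : ∀ x, g x ≠ x → x ≠ δ → h x = x := fun x hx hxd =>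
    by_contra fun hc => hx (hsep x hc hxd)
  have hga : g (h δ) = h δ := hsep (h δ) (fun hc => hδ (h.injective hc)) hδ
  have hhb : h (g δ) = g δ := hsep' (g δ) (fun hc => hgδ (g.injective hc)) hgδ
  have hab : h δ ≠ g δ := by
    intro hc
    rw [hc] at hga
    exact hgδ (g.injective hga)
  -- the commutator is a three-cycle
  have hcyc : g * h * g⁻¹ * h⁻¹ = Equiv.swap δ (h δ) * Equiv.swap δ (g δ) := by
    suffices hs : g * h = Equiv.swap δ (h δ) * Equiv.swap δ (g δ) * (h * g) by
      rw [hs]; group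
    ext x
    simp only [Equiv.Perm.mul_apply]
    -- cases according to `g x`
    by_cases hxd : x = δ
    · subst hxd
      rw [hga, hhb, Equiv.swap_apply_right, Equiv.swap_apply_left]
    · by_cases hhx : h x = x
      · rw [hhx]
        by_cases hgxd : g x = δ
        · rw [hgxd, Equiv.swap_apply_of_ne_of_ne hδ hab, Equiv.swap_apply_right]
        · have h1 : g x ≠ g δ := fun hc => hxd (g.injective hc)
          have h2 : h (g x) = g x := by
            by_cases hgx : g x = x
            · rw [hgx, hhx]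
            · exact hsep' (g x) (fun hc => hgx (g.injective hc)) hgxd
          have h3 : g x ≠ h δ := by
            intro hc
            rw [← hga] at hc
            have := g.injective hc
            rw [this] at hhx
            exact hδ (h.injective hhx)
          rw [h2, Equiv.swap_apply_of_ne_of_ne hgxd h1, Equiv.swap_apply_of_ne_of_ne hgxd h3]
      · have hgx : g x = x := hsep x hhx hxd
        rw [hgx]
        by_cases hhxd : h x = δ
        · rw [hhxd, Equiv.swap_apply_left,
            Equiv.swap_apply_of_ne_of_ne hgδ (Ne.symm hab)]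
        · have h1 : h x ≠ h δ := fun hc => hxd (h.injective hc)
          have h2 : g (h x) = h x := hsep (h x) (fun hc => hhx (h.injective hc)) hhxd
          have h3 : h x ≠ g δ := by
            intro hc
            rw [← hhb] at hc
            have := h.injective hc
            rw [this] at hgx
            exact hgδ (g.injective hgx)
          rw [h2, Equiv.swap_apply_of_ne_of_ne hhxd h3, Equiv.swap_apply_of_ne_of_ne hhxd h1]
  have h3c : (g * h * g⁻¹ * h⁻¹).IsThreeCycle := by
    rw [hcyc]
    exact Equiv.Perm.isThreeCycle_swap_mul_swap_same (Ne.symm hδ) (Ne.symm hgδ) hab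
  exact hA (Equiv.Perm.alternatingGroup_le_of_isPreprimitive_of_isThreeCycle_mem
    ‹_› h3c (S.mul_mem (S.mul_mem (S.mul_mem hgS hhS) (S.inv_mem hgS)) (S.inv_mem hhS)))

/-- The inductive statement: `k(S) ≤ 5^(n - number of labels)` for an invariant labelling. -/
def Bound (n : ℕ) : Prop :=
  ∀ (α : Type) [Finite α], Nat.card α = n → ∀ (S : Subgroup (Equiv.Perm α)) (ι : Type)
    [Finite ι] [Nonempty ι] (c : α → ι), Function.Surjective c →
    (∀ g ∈ S, ∀ x, c (g x) = c x) →
    Nat.card (ConjClasses S) ≤ 5 ^ (n - Nat.card ι)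

theorem bound_one_label {m : ℕ} (hm : Bound m) (α : Type) [Finite α] [Nonempty α]
    (hα : Nat.card α = m) (S : Subgroup (Equiv.Perm α)) :
    Nat.card (ConjClasses S) ≤ 5 ^ (m - 1) := by
  simpa using hm α hα S Unit (fun _ => ())
    (fun _ => ⟨Classical.arbitrary α, rfl⟩) (fun _ _ _ => rfl)

/-- At least two labels. -/
theorem bound_labels {n : ℕ} (IH : ∀ m < n, Bound m) (α : Type) [Finite α]
    (hn : Nat.card α = n) (S : Subgroup (Equiv.Perm α)) (ι : Type) [Finite ι] (c : α → ι)
    (hc : Function.Surjective c) (hinv : ∀ g ∈ S, ∀ x, c (g x) = c x) (h2 : 2 ≤ Nat.card ι) :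
    Nat.card (ConjClasses S) ≤ 5 ^ (n - Nat.card ι) := by
  classical
  haveI := Fintype.ofFinite α
  haveI := Fintype.ofFinite ι
  haveI : Nonempty ι := Nat.card_pos_iff.1 (by omega) |>.1
  obtain ⟨i, j, hij⟩ : ∃ i j : ι, i ≠ j := by
    haveI : Nontrivial ι := Finite.one_lt_card_iff_nontrivial.1 (by omega)
    exact exists_pair_ne ι
  have hp : ∀ g ∈ S, ∀ x, c (g x) = i ↔ c x = i := fun g hg x => by rw [hinv g hg x]
  let f := res S (fun x => c x = i) hp
  haveI : Nonempty {x // c x = i} := by
    obtain ⟨x, hx⟩ := hc i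
    exact ⟨⟨x, hx⟩⟩
  haveI : Nonempty {x // c x ≠ i} := by
    obtain ⟨x, hx⟩ := hc j
    exact ⟨⟨x, by rw [hx]; exact hij.symm⟩⟩
  have hsum : Nat.card {x // c x = i} + Nat.card {x // c x ≠ i} = n := by
    rw [← Nat.card_sum, Nat.card_congr (Equiv.sumCompl _), hn]
  have hpos1 : 0 < Nat.card {x // c x = i} := Nat.card_pos
  have hpos2 : 0 < Nat.card {x // c x ≠ i} := Nat.card_pos
  have hR := bound_one_label (IH _ (by omega)) {x // c x = i} rfl f.range
  -- the kernel acts faithfully on the other points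
  let S' : Subgroup (Equiv.Perm α) := f.ker.map S.subtype
  have hp' : ∀ g ∈ S', ∀ x, c (g x) ≠ i ↔ c x ≠ i := by
    rintro _ ⟨g, _, rfl⟩ x
    exact not_congr (hp _ g.2 x)
  let f' := res S' (fun x => c x ≠ i) hp'
  have hinj : Function.Injective f' := by
    rw [← MonoidHom.ker_eq_bot_iff, Subgroup.eq_bot_iff_forall]
    intro ⟨g, hg⟩ hk
    obtain ⟨g₀, hg₀, rfl⟩ := hg
    refine Subtype.ext (Equiv.ext fun x => ?_)
    by_cases hx : c x = i
    · have := congrArg (fun (e : Equiv.Perm {x // c x = i}) => (e ⟨x, hx⟩ : α))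
        (MonoidHom.mem_ker.1 hg₀)
      exact this
    · have := congrArg (fun (e : Equiv.Perm {x // c x ≠ i}) => (e ⟨x, hx⟩ : α))
        (MonoidHom.mem_ker.1 hk)
      exact this
  haveI : Nonempty {k : ι // k ≠ i} := ⟨⟨j, hij.symm⟩⟩
  have hK := IH (Nat.card {x // c x ≠ i}) (by omega) {x // c x ≠ i} rfl f'.range
    {k : ι // k ≠ i} (fun x => ⟨c x.1, x.2⟩)
    (fun k => by
      obtain ⟨x, hx⟩ := hc k.1
      exact ⟨⟨x, by rw [hx]; exact k.2⟩, Subtype.ext hx⟩)
    (by
      rintro _ ⟨⟨g, hg⟩, rfl⟩ x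
      obtain ⟨g₀, _, rfl⟩ := hg
      exact Subtype.ext (hinv _ g₀.2 x.1))
  have hcard : Nat.card {k : ι // k ≠ i} = Nat.card ι - 1 := by
    simp [Nat.card_eq_fintype_card]
  have hge : Nat.card {k : ι // k ≠ i} ≤ Nat.card {x // c x ≠ i} :=
    Nat.card_le_card_of_surjective (fun x : {x // c x ≠ i} => (⟨c x.1, x.2⟩ : {k : ι // k ≠ i}))
      (fun k => by
        obtain ⟨x, hx⟩ := hc k.1
        exact ⟨⟨x, by rw [hx]; exact k.2⟩, Subtype.ext hx⟩)
  have hker : Nat.card (ConjClasses f.ker)
      ≤ 5 ^ (Nat.card {x // c x ≠ i} - Nat.card {k : ι // k ≠ i}) := by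
    rw [k_congr (Subgroup.equivMapOfInjective f.ker S.subtype S.subtype_injective),
      k_congr (MonoidHom.ofInjective hinj)]
    exact hK
  refine (k_le_ker_mul_range f).trans ((Nat.mul_le_mul hker hR).trans ?_)
  rw [← pow_add]
  exact Nat.pow_le_pow_right (by norm_num) (by omega)

theorem bound_all : ∀ n, Bound n := by
  intro n
  induction n using Nat.strong_induction_on with
  | _ n IH =>
  intro α _ hn S ι _ _ c hc hinv
  classical
  haveI := Fintype.ofFinite α
  by_cases h2 : 2 ≤ Nat.card ι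
  · exact bound_labels IH α hn S ι c hc hinv h2
  have hι : Nat.card ι = 1 := by
    have : 0 < Nat.card ι := Nat.card_pos
    omega
  rw [hι]
  haveI : Nonempty α := ⟨(hc (Classical.arbitrary ι)).choose⟩
  have hn1 : 1 ≤ n := hn ▸ Nat.card_pos
  rcases hn1.eq_or_lt with h1 | h1
  · haveI : Subsingleton α := (Nat.card_eq_one_iff_unique.1 (hn.trans h1.symm)).1
    haveI : Subsingleton S := inferInstance
    haveI : Subsingleton (ConjClasses S) := Quotient.instSubsingletonQuotient _
    exact (Finite.card_le_one_iff_subsingleton.2 this).trans (Nat.one_le_pow _ _ (by norm_num))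
  by_cases htr : IsPretransitive S α
  swap
  · -- intransitive
    obtain ⟨a, b, hab⟩ : ∃ a b : α, b ∉ orbit S a := by
      by_contra hc'
      push Not at hc'
      exact htr ⟨fun x y => hc' x y⟩
    refine (bound_labels IH α hn S Bool (fun x => decide (x ∈ orbit S a)) ?_ ?_ (by simp)).trans
      (Nat.pow_le_pow_right (by norm_num) (by simp; omega))
    · rintro (_ | _)
      · exact ⟨b, decide_eq_false hab⟩
      · exact ⟨a, decide_eq_true (mem_orbit_self a)⟩
    · intro g hg x
      have hiff : g x ∈ orbit S a ↔ x ∈ orbit S a := by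
        have : g x = (⟨g, hg⟩ : S) • x := rfl
        rw [this, ← orbit_eq_iff, ← orbit_eq_iff, orbit_smul]
      simp only [hiff]
  by_cases hprim : IsPreprimitive S α
  swap
  · -- imprimitive
    obtain ⟨B, hB, hBt⟩ : ∃ B : Set α, IsBlock S B ∧ ¬ IsTrivialBlock B := by
      by_contra hc'
      push Not at hc'
      exact hprim { toIsPretransitive := htr, isTrivialBlock_of_isBlock := fun {B} h => hc' B h }
    simp only [IsTrivialBlock, not_or, Set.not_subsingleton_iff] at hBt
    obtain ⟨hnt, hnuniv⟩ := hBt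
    have hpart := (hB.isBlockSystem hnt.nonempty).1
    let ι' := ↥(orbit S B)
    have huniq : ∀ x, ∀ s t : ι', x ∈ (s : Set α) → x ∈ (t : Set α) → s = t := fun x s t hs ht =>
      Subtype.ext ((hpart.2 x).unique ⟨s.2, hs⟩ ⟨t.2, ht⟩)
    let lab : α → ι' := fun x => ⟨_, (hpart.2 x).exists.choose_spec.1⟩
    have hlab : ∀ x, x ∈ (lab x : Set α) := fun x => (hpart.2 x).exists.choose_spec.2
    have hlabsurj : Function.Surjective lab := by
      intro s
      obtain ⟨x, hx⟩ : ((s : Set α)).Nonempty :=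
        Set.nonempty_iff_ne_empty.2 fun he => hpart.1 (he ▸ s.2)
      exact ⟨x, huniq x _ _ (hlab x) hx⟩
    have hm2 : 2 ≤ Nat.card ι' := by
      by_contra hc'
      haveI : Subsingleton ι' := Finite.card_le_one_iff_subsingleton.1 (by omega)
      apply hnuniv
      refine Set.eq_univ_of_forall fun x => ?_
      have := hlab x
      rwa [Subsingleton.elim (lab x) ⟨B, mem_orbit_self B⟩] at this
    have hmlt : Nat.card ι' < n := by
      rcases (Nat.card_le_card_of_surjective lab hlabsurj).eq_or_lt with he | he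
      · exfalso
        haveI := Fintype.ofFinite ι'
        have hbij : Function.Bijective lab := by
          rw [Fintype.bijective_iff_surjective_and_card]
          exact ⟨hlabsurj, by rw [← Nat.card_eq_fintype_card, ← Nat.card_eq_fintype_card, he]⟩
        obtain ⟨x, hx, y, hy, hxy⟩ := hnt
        exact hxy (hbij.1 ((huniq x (lab x) ⟨B, mem_orbit_self B⟩ (hlab x) hx).trans
          (huniq y (lab y) ⟨B, mem_orbit_self B⟩ (hlab y) hy).symm))
      · exact hn ▸ he
    let f : S →* Equiv.Perm ι' := MulAction.toPermHom S ι'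
    haveI : Nonempty ι' := ⟨⟨B, mem_orbit_self B⟩⟩
    have hR := bound_one_label (IH _ hmlt) ι' rfl f.range
    have hK := bound_labels IH α hn (f.ker.map S.subtype) ι' lab hlabsurj
      (by
        rintro _ ⟨g, hg, rfl⟩ x
        refine huniq (S.subtype g x) _ _ (hlab _) ?_
        have hfix : g • lab x = lab x := by
          have := congrArg (fun e : Equiv.Perm ι' => e (lab x)) (MonoidHom.mem_ker.1 hg)
          simpa [f] using this
        have h2' : g • x ∈ ((g • lab x : ι') : Set α) := Set.smul_mem_smul_set (hlab x)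
        rw [hfix] at h2'
        exact h2') hm2
    rw [← k_congr (Subgroup.equivMapOfInjective f.ker S.subtype S.subtype_injective)] at hK
    refine (k_le_ker_mul_range f).trans ((Nat.mul_le_mul hK hR).trans ?_)
    rw [← pow_add]
    exact Nat.pow_le_pow_right (by norm_num) (by omega)
  by_cases hA : alternatingGroup α ≤ S
  · -- alternating or symmetric
    haveI : Nontrivial α := Finite.one_lt_card_iff_nontrivial.1 (hn ▸ h1)
    have hidx : S.index ≤ 2 := by
      have := Subgroup.index_dvd_of_le hA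
      rw [alternatingGroup.index_eq_two] at this
      exact Nat.le_of_dvd (by norm_num) this
    refine (k_sub_le_index_mul S).trans ((Nat.mul_le_mul hidx (k_perm α)).trans ?_)
    rw [hn]
    obtain ⟨k, rfl⟩ : ∃ k, n = k + 2 := ⟨n - 2, by omega⟩
    calc 2 * 2 ^ (k + 2 - 1) = 4 * 2 ^ k := by
          rw [show k + 2 - 1 = k + 1 by omega, pow_succ]; ring
      _ ≤ 5 * 5 ^ k := by gcongr <;> norm_num
      _ = 5 ^ (k + 2 - 1) := by rw [show k + 2 - 1 = k + 1 by omega, pow_succ]; ring
  -- primitive with a small base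
  haveI := hprim
  obtain ⟨Δ, hΔ, hbase⟩ := exists_small_base S hA
  have hcα : Fintype.card α = n := by rw [← hn, Nat.card_eq_fintype_card]
  rcases Finset.eq_empty_or_nonempty Δ with rfl | hne
  · haveI : Subsingleton S := ⟨fun a b => by
      apply Subtype.ext
      rw [hbase a a.2 (by simp), hbase b b.2 (by simp)]⟩
    haveI : Subsingleton (ConjClasses S) := Quotient.instSubsingletonQuotient _
    exact (Finite.card_le_one_iff_subsingleton.2 this).trans (Nat.one_le_pow _ _ (by norm_num))
  let H : Subgroup S := stabilizer S (Δ : Set α)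
  have hH : ∀ g ∈ H.map S.subtype, ∀ x, g x ∈ Δ ↔ x ∈ Δ := by
    rintro _ ⟨g, hg, rfl⟩ x
    have he : g • (Δ : Set α) = (Δ : Set α) := hg
    calc S.subtype g x ∈ Δ ↔ g • x ∈ g • (Δ : Set α) := by rw [he]; rfl
      _ ↔ x ∈ Δ := Set.smul_mem_smul_set_iff
  let f := res (H.map S.subtype) (fun x => x ∈ Δ) hH
  have hinj : Function.Injective f := by
    rw [← MonoidHom.ker_eq_bot_iff, Subgroup.eq_bot_iff_forall]
    intro ⟨g, hg⟩ hk
    refine Subtype.ext (hbase g ?_ fun x hx => ?_)
    · obtain ⟨g₀, _, rfl⟩ := hg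
      exact g₀.2
    · exact congrArg (fun (e : Equiv.Perm {x // x ∈ Δ}) => (e ⟨x, hx⟩ : α))
        (MonoidHom.mem_ker.1 hk)
  haveI : Nonempty {x // x ∈ Δ} := hne.to_subtype
  have hd : Nat.card {x // x ∈ Δ} = Δ.card := by simp [Nat.card_eq_fintype_card]
  have hkH := bound_one_label (IH Δ.card (by omega)) {x // x ∈ Δ} hd f.range
  rw [← k_congr (MonoidHom.ofInjective hinj),
    ← k_congr (Subgroup.equivMapOfInjective H S.subtype S.subtype_injective)] at hkH
  have hidx : H.index ≤ 2 ^ n := by
    rw [MulAction.index_stabilizer]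
    refine (Set.ncard_le_card _).trans ?_
    rw [Nat.card_eq_fintype_card, Fintype.card_set, hcα]
  refine (k_le_index_mul H).trans ((Nat.mul_le_mul hidx hkH).trans ?_)
  have hdpos : 0 < Δ.card := hne.card_pos
  have key : 2 ^ n * 5 ^ Δ.card ≤ 5 ^ n := by
    apply (Nat.pow_le_pow_iff_left (n := 2) (by norm_num)).1
    calc (2 ^ n * 5 ^ Δ.card) ^ 2 = 4 ^ n * 5 ^ (2 * Δ.card) := by
          rw [mul_pow, ← pow_mul, ← pow_mul, mul_comm n 2, pow_mul, mul_comm Δ.card 2]; norm_num
      _ ≤ 5 ^ n * 5 ^ n :=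
          Nat.mul_le_mul (Nat.pow_le_pow_left (by norm_num) n)
            (Nat.pow_le_pow_right (by norm_num) (by omega))
      _ = (5 ^ n) ^ 2 := by ring
  refine Nat.le_of_mul_le_mul_right ?_ (by norm_num : 0 < 5)
  rw [mul_assoc, ← pow_succ, ← pow_succ,
    show Δ.card - 1 + 1 = Δ.card by omega, show n - 1 + 1 = n by omega]
  exact key

end Cfsg.Agent.PermClassBound87
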