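import Mathlib
import Cfsg.Prelude.Def_Solvable
import Cfsg.Agent.Lib.PermClassBound87
import Cfsg.Agent.Lib.ComponentsFitting

/-!
Class numbers of subgroups of `G ⧸ F(G)`: general tools.
-/

set_option autoImplicit false

namespace Cfsg.Agent.KGFit86

open Cfsg.Agent.PermClassBound87

/-- Every subgroup of `Q` has at most `b` classes. -/
def SK (Q : Type) [Group Q] (b : ℕ) : Prop := ∀ X : Subgroup Q, Nat.card (ConjClasses X) ≤ b

/-- Modulo some normal nilpotent subgroup every subgroup has at most `b` classes. -/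
def KF (G : Type) [Group G] (b : ℕ) : Prop :=
  ∃ (Q : Type) (_ : Group Q) (_ : Finite Q) (φ : G →* Q), Group.IsNilpotent φ.ker ∧ SK Q b

theorem k_surj {G M : Type} [Group G] [Finite G] [Group M] (f : G →* M) (hf : Function.Surjective f) :
    Nat.card (ConjClasses M) ≤ Nat.card (ConjClasses G) :=
  Nat.card_le_card_of_surjective _ (ConjClasses.map_surjective hf)

theorem k_le_card (G : Type) [Group G] [Finite G] : Nat.card (ConjClasses G) ≤ Nat.card G :=
  Nat.card_le_card_of_surjective ConjClasses.mk ConjClasses.mk_surjective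

theorem SK.mono {Q : Type} [Group Q] {a b : ℕ} (h : SK Q a) (hab : a ≤ b) : SK Q b :=
  fun X => (h X).trans hab

theorem KF.mono {G : Type} [Group G] {a b : ℕ} (h : KF G a) (hab : a ≤ b) : KF G b := by
  obtain ⟨Q, i1, i2, φ, hn, hs⟩ := h
  exact ⟨Q, i1, i2, φ, hn, hs.mono hab⟩

theorem SK.of_card {Q : Type} [Group Q] [Finite Q] {b : ℕ} (h : Nat.card Q ≤ b) : SK Q b :=
  fun X => (k_le_card X).trans ((Subgroup.card_le_card_group X).trans h)

/-- A group abelian-free bound. -/
theorem k_noncomm_le {X : Type} [Group X] [Finite X] (h : ¬ ∀ a b : X, a * b = b * a) :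
    8 * Nat.card (ConjClasses X) ≤ 5 * Nat.card X := by
  classical
  haveI := Fintype.ofFinite X
  haveI := Fintype.ofFinite (ConjClasses X)
  have hidx : 4 ≤ (Subgroup.center X).index := by
    by_contra hlt
    push Not at hlt
    have h0 := Subgroup.index_ne_zero_of_finite (H := Subgroup.center X)
    have hcyc : IsCyclic (X ⧸ Subgroup.center X) := by
      rcases (by omega : (Subgroup.center X).index = 1 ∨ (Subgroup.center X).index = 2 ∨
          (Subgroup.center X).index = 3) with e | e | e <;> rw [Subgroup.index_eq_card] at e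
      · haveI := (Nat.card_eq_one_iff_unique.1 e).1
        exact isCyclic_of_subsingleton
      · haveI : Fact (Nat.Prime 2) := ⟨Nat.prime_two⟩
        exact isCyclic_of_prime_card e
      · haveI : Fact (Nat.Prime 3) := ⟨Nat.prime_three⟩
        exact isCyclic_of_prime_card e
    exact h fun a b => commutative_of_cyclic_center_quotient (QuotientGroup.mk' (Subgroup.center X))
      (by rw [QuotientGroup.ker_mk']) a b
  have hz : 4 * Nat.card (Subgroup.center X) ≤ Nat.card X := by
    rw [← (Subgroup.center X).card_mul_index, mul_comm 4]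
    exact Nat.mul_le_mul_left _ hidx
  have hsum := Group.nat_card_center_add_sum_card_noncenter_eq_card X
  have hk : Nat.card (ConjClasses X) =
      Nat.card (Subgroup.center X) + (ConjClasses.noncenter X).ncard := by
    have hb := ConjClasses.mk_bijOn X
    have h1 : Nat.card (Subgroup.center X) = ((ConjClasses.noncenter X)ᶜ).ncard := by
      rw [← hb.image_eq, Set.ncard_image_of_injOn hb.injOn, ← Nat.card_coe_set_eq]
      rfl
    rw [h1, add_comm, Set.ncard_add_ncard_compl]
  have h2 : 2 * (ConjClasses.noncenter X).ncard ≤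
      ∑ᶠ x ∈ ConjClasses.noncenter X, Nat.card x.carrier := by
    rw [finsum_mem_eq_toFinset_sum, Set.ncard_eq_toFinset_card', mul_comm]
    refine le_trans (le_of_eq (smul_eq_mul _ _).symm) (Finset.card_nsmul_le_sum _ _ _ fun c hc => ?_)
    rw [Set.mem_toFinset] at hc
    rw [Nat.card_coe_set_eq]
    exact (Set.one_lt_ncard_iff_nontrivial).2 hc
  omega

/-- Subgroups of the image of `ψ` are images of subgroups seen through `φ`. -/
theorem SK.of_range {B Q R : Type} [Group B] [Group Q] [Finite Q] [Group R] (φ : B →* Q)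
    (ψ : B →* R) (hker : φ.ker ≤ ψ.ker) {b : ℕ} (hQ : SK Q b) : SK ψ.range b := by
  intro Y
  let X₀ : Subgroup B := Y.comap ψ.rangeRestrict
  let f := φ.subgroupMap X₀
  let g : X₀ →* Y := (ψ.rangeRestrict.comp X₀.subtype).codRestrict Y fun x => x.2
  have hg : Function.Surjective g := by
    rintro ⟨y, hy⟩
    obtain ⟨x, rfl⟩ := ψ.rangeRestrict_surjective y
    exact ⟨⟨x, hy⟩, rfl⟩
  have hfg : f.ker ≤ g.ker := fun x hx => by
    have h1 : φ (x : B) = 1 := congrArg Subtype.val hx
    have h2 : ψ (x : B) = 1 := hker h1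
    exact Subtype.ext (Subtype.ext h2)
  let l : X₀.map φ →* Y :=
    f.liftOfSurjective (φ.subgroupMap_surjective X₀) ⟨g, hfg⟩
  refine (k_surj l fun y => ?_).trans (hQ _)
  obtain ⟨x, rfl⟩ := hg y
  exact ⟨f x, MonoidHom.liftOfRightInverse_comp_apply f _ _ ⟨g, hfg⟩ x⟩

/-- Subgroups of a group embedded in a group. -/
theorem SK.of_injective {Q R : Type} [Group Q] [Group R] (f : Q →* R) (hf : Function.Injective f)
    {b : ℕ} (hR : SK R b) : SK Q b := fun X => by
  rw [k_congr (X.equivMapOfInjective f hf)]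
  exact hR _

theorem SK.pi {ι : Type} [Fintype ι] {Q : ι → Type} [∀ i, Group (Q i)] [∀ i, Finite (Q i)] {b : ℕ}
    (h : ∀ i, SK (Q i) b) : SK (∀ i, Q i) (b ^ Fintype.card ι) := by
  classical
  suffices hs : ∀ (s : Finset ι) (X : Subgroup (∀ i, Q i)),
      (∀ x ∈ X, ∀ i, i ∉ s → x i = 1) → Nat.card (ConjClasses X) ≤ b ^ s.card from fun X =>
    hs Finset.univ X fun x _ i hi => absurd (Finset.mem_univ i) hi
  intro s
  induction s using Finset.induction_on with
  | empty =>
    intro X hX
    have : Subsingleton X := ⟨fun x y => Subtype.ext (funext fun i => by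
      rw [hX _ x.2 i (Finset.notMem_empty i), hX _ y.2 i (Finset.notMem_empty i)])⟩
    rw [Finset.card_empty, pow_zero]
    exact (k_le_card X).trans (Finite.card_le_one_iff_subsingleton.2 this)
  | insert j s hj ih =>
    intro X hX
    let f : X →* Q j := (Pi.evalMonoidHom Q j).comp X.subtype
    rw [Finset.card_insert_of_notMem hj, pow_succ]
    refine (k_le_ker_mul_range f).trans (Nat.mul_le_mul ?_ (h j _))
    rw [k_congr (f.ker.equivMapOfInjective X.subtype X.subtype_injective)]
    refine ih _ fun x hx i hi => ?_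
    obtain ⟨y, hy, rfl⟩ := hx
    by_cases hij : i = j
    · subst hij
      exact hy
    · exact hX _ y.2 i fun h' => (Finset.mem_insert.1 h').elim hij hi

theorem SK.prod {Q R : Type} [Group Q] [Finite Q] [Group R] [Finite R] {a b : ℕ} (hQ : SK Q a)
    (hR : SK R b) : SK (Q × R) (b * a) := by
  intro X
  let f : X →* Q := (MonoidHom.fst Q R).comp X.subtype
  refine (k_le_ker_mul_range f).trans (Nat.mul_le_mul ?_ (hQ _))
  refine SK.of_injective (((MonoidHom.snd Q R).comp X.subtype).comp f.ker.subtype) ?_ hR ⊤ |>.trans' ?_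
  · refine (injective_iff_map_eq_one _).2 fun x hx => Subtype.ext (Subtype.ext (Prod.ext ?_ hx))
    exact x.2
  · rw [k_congr Subgroup.topEquiv]

/-- Passing to an overgroup of finite index. -/
theorem KF.of_normal {G : Type} [Group G] [Finite G] (B : Subgroup G) [B.Normal] {b : ℕ}
    (h : KF B b) : KF G (B.index * b) := by
  obtain ⟨Q, _, _, φ, hn, hs⟩ := h
  have hle : φ.ker ≤ Cfsg.fittingSubgroup B := ComponentsCores.le_fitting hn
  let N : Subgroup G := (Cfsg.fittingSubgroup B).map B.subtype
  haveI : N.Normal := inferInstance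
  refine ⟨G ⧸ N, inferInstance, inferInstance, QuotientGroup.mk' N, ?_, fun X => ?_⟩
  · rw [QuotientGroup.ker_mk']
    exact (Group.isNilpotent_congr ((Cfsg.fittingSubgroup B).equivMapOfInjective B.subtype
      B.subtype_injective)).1 inferInstance
  let ψ : B →* G ⧸ N := (QuotientGroup.mk' N).comp B.subtype
  have hker : φ.ker ≤ ψ.ker := fun x hx =>
    (QuotientGroup.eq_one_iff (x : G)).2 ⟨x, hle hx, rfl⟩
  have hψ : ψ.range = B.map (QuotientGroup.mk' N) := by
    rw [MonoidHom.range_comp, Subgroup.range_subtype]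
  haveI : ψ.range.Normal := hψ ▸ Subgroup.Normal.map inferInstance _
    (QuotientGroup.mk'_surjective N)
  have hidx : (ψ.range.subgroupOf X).index ≤ B.index := by
    refine le_trans (Nat.le_of_dvd (Nat.pos_of_ne_zero Subgroup.index_ne_zero_of_finite)
      (Subgroup.relIndex_dvd_index_of_normal ψ.range X)) ?_
    rw [hψ]
    exact Nat.le_of_dvd (Nat.pos_of_ne_zero Subgroup.index_ne_zero_of_finite)
      (Subgroup.index_map_dvd B (QuotientGroup.mk'_surjective N))
  refine (k_le_index_mul (ψ.range.subgroupOf X)).trans (Nat.mul_le_mul hidx ?_)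
  have hs' := SK.of_range φ ψ hker hs
  let f : ψ.range.subgroupOf X →* ψ.range :=
    { toFun := fun x => ⟨((x : X) : G ⧸ N), x.2⟩
      map_one' := rfl
      map_mul' := fun _ _ => rfl }
  refine le_trans ?_ (SK.of_injective f (fun x y e => Subtype.ext (Subtype.ext
    (Subtype.ext_iff.1 e :))) hs' ⊤)
  rw [k_congr Subgroup.topEquiv]

/-- The consequence for the Fitting subgroup. -/
theorem KF.apply {G : Type} [Group G] [Finite G] {b : ℕ} (h : KF G b) (H : Subgroup G)
    [((Cfsg.fittingSubgroup G).subgroupOf H).Normal] :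
    Nat.card (ConjClasses (H ⧸ (Cfsg.fittingSubgroup G).subgroupOf H)) ≤ b := by
  obtain ⟨Q, _, _, φ, hn, hs⟩ := h
  have hle : φ.ker ≤ Cfsg.fittingSubgroup G := ComponentsCores.le_fitting hn
  let ψ := QuotientGroup.mk' ((Cfsg.fittingSubgroup G).subgroupOf H)
  have hsr := SK.of_range (φ.comp H.subtype) ψ (fun x hx => by
    rw [QuotientGroup.ker_mk', Subgroup.mem_subgroupOf]
    exact hle hx) hs
  rw [← k_congr Subgroup.topEquiv]
  refine SK.of_injective (MonoidHom.codRestrict (MonoidHom.id _) ψ.range fun x =>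
    QuotientGroup.mk'_surjective _ x) (fun x y e => congrArg Subtype.val e) hsr ⊤

end Cfsg.Agent.KGFit86
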