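import Mathlib
import Cfsg.Agent.Lib.KGBound86FitIndex

/-!
Classes of groups acting faithfully on a group of order `q ^ 2`.
-/

set_option autoImplicit false

namespace Cfsg.Agent.KGFit86

/-- A group acting faithfully on an elementary group of order `q ^ 2` has few classes. -/
theorem k_two_dim {q : ℕ} [Fact q.Prime] {M : Type} [CommGroup M] [Finite M] {X : Type} [Group X]
    [Finite X] [MulDistribMulAction X M] [FaithfulSMul X M] (hM : Nat.card M = q * q)
    (hexp : ∀ m : M, m ^ q = 1) : Nat.card (ConjClasses X) ≤ q * q + q - 3 := by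
  classical
  have hq : q.Prime := Fact.out
  have hq2 := hq.two_le
  haveI := Fintype.ofFinite X
  have hord : ∀ m : M, m ≠ 1 → orderOf m = q := fun m hm => orderOf_eq_prime (hexp m) hm
  have hzle : ∀ (g : X) (m : M) (i : ℤ), g • m ^ i = (g • m) ^ i := fun g m i =>
    map_zpow (MulDistribMulAction.toMonoidHom M g) m i
  -- a moved line gives generators
  have hgen : ∀ v w : M, v ≠ 1 → w ∉ Subgroup.zpowers v →
      Subgroup.zpowers v ⊔ Subgroup.zpowers w = ⊤ := by
    intro v w hv hw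
    refine Subgroup.eq_top_of_card_eq _ ?_
    have h1 : Nat.card (Subgroup.zpowers v) < Nat.card
        (Subgroup.zpowers v ⊔ Subgroup.zpowers w : Subgroup M) := by
      refine lt_of_le_of_ne (Subgroup.card_le_of_le le_sup_left) fun h => hw ?_
      rw [Subgroup.eq_of_le_of_card_ge le_sup_left h.ge]
      exact le_sup_right (a := Subgroup.zpowers v) (Subgroup.mem_zpowers w)
    rw [Nat.card_zpowers, hord v hv] at h1
    have h2 := Subgroup.card_subgroup_dvd_card (Subgroup.zpowers v ⊔ Subgroup.zpowers w : Subgroup M)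
    rw [hM, ← pow_two] at h2
    obtain ⟨i, hi, he⟩ := (Nat.dvd_prime_pow hq).1 h2
    rw [he] at h1 ⊢
    rw [hM, ← pow_two]
    have : i = 2 := by
      interval_cases i
      · simp at h1; omega
      · simp at h1
      · rfl
    rw [this]
  let Sc : X → Prop := fun g => ∀ m : M, g • m ∈ Subgroup.zpowers m
  have hsame : ∀ (g h : X) (v w : M), v ≠ 1 → w ∉ Subgroup.zpowers v → g • v = h • v →
      g • w = h • w → g = h := by
    intro g h v w hv hw h1 h2
    refine eq_of_smul_eq_smul (α := M) fun m => ?_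
    obtain ⟨a, ha, b, hb, rfl⟩ := Subgroup.mem_sup.1 ((hgen v w hv hw).symm ▸ Subgroup.mem_top m :
      m ∈ Subgroup.zpowers v ⊔ Subgroup.zpowers w)
    obtain ⟨i, rfl⟩ := ha
    obtain ⟨j, rfl⟩ := hb
    rw [smul_mul', smul_mul', hzle, hzle, hzle, hzle, h1, h2]
  haveI : Nontrivial M := Finite.one_lt_card_iff_nontrivial.1 (by rw [hM]; nlinarith)
  obtain ⟨v₀, hv₀⟩ := exists_ne (1 : M)
  obtain ⟨w₀, hw₀⟩ : ∃ w, w ∉ Subgroup.zpowers v₀ := by
    by_contra h
    push Not at h
    have h1 : Nat.card (Subgroup.zpowers v₀) = Nat.card M :=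
      (Subgroup.card_eq_iff_eq_top _).2 (eq_top_iff.2 fun m _ => h m)
    rw [Nat.card_zpowers, hord v₀ hv₀, hM] at h1
    nlinarith
  -- scalar elements are powers
  have hscal : ∀ g, Sc g → ∃ s : ℤ, ∀ m : M, g • m = m ^ s := by
    intro g hg
    obtain ⟨a, ha⟩ := hg v₀
    obtain ⟨i, hi⟩ := hg w₀
    obtain ⟨s, hs⟩ := hg (v₀ * w₀)
    simp only at ha hi hs
    rw [smul_mul', ← ha, ← hi, mul_zpow] at hs
    have hdiff : v₀ ^ (a - s) = w₀ ^ (s - i) := by
      rw [zpow_sub, zpow_sub, mul_inv_eq_iff_eq_mul, mul_right_comm, mul_comm (w₀ ^ s), hs,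
        mul_inv_cancel_right]
    have hbot : w₀ ^ (s - i) = 1 := by
      by_contra hne
      have h1 : Subgroup.zpowers (w₀ ^ (s - i)) = Subgroup.zpowers w₀ := by
        refine Subgroup.eq_of_le_of_card_ge (Subgroup.zpowers_le.2 (zpow_mem (Subgroup.mem_zpowers _) _)) ?_
        rw [Nat.card_zpowers, Nat.card_zpowers, hord _ hne]
        by_cases hw1 : w₀ = 1
        · rw [hw1, orderOf_one]; omega
        · rw [hord _ hw1]
      refine hw₀ ?_
      have h2 : w₀ ∈ Subgroup.zpowers (w₀ ^ (s - i)) := h1.symm ▸ Subgroup.mem_zpowers w₀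
      rw [← hdiff] at h2
      exact (Subgroup.zpowers_le.2 (zpow_mem (Subgroup.mem_zpowers v₀) _)) h2
    refine ⟨s, fun m => ?_⟩
    have hw : g • w₀ = w₀ ^ s := by
      rw [zpow_sub, mul_inv_eq_one] at hbot
      rw [← hi, hbot]
    have hv : g • v₀ = v₀ ^ s := by
      rw [hbot] at hdiff
      rw [zpow_sub, mul_inv_eq_one] at hdiff
      rw [← ha, hdiff]
    obtain ⟨x, hx, y, hy, rfl⟩ := Subgroup.mem_sup.1
      ((hgen v₀ w₀ hv₀ hw₀).symm ▸ Subgroup.mem_top m :
        m ∈ Subgroup.zpowers v₀ ⊔ Subgroup.zpowers w₀)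
    obtain ⟨k, rfl⟩ := hx
    obtain ⟨l, rfl⟩ := hy
    rw [smul_mul', hzle, hzle, hv, hw, mul_zpow, ← zpow_mul, ← zpow_mul, ← zpow_mul, ← zpow_mul,
      mul_comm s k, mul_comm s l]
  have hSccard : Nat.card {g : X // Sc g} ≤ q - 1 := by
    let f : {g : X // Sc g} → {u : Subgroup.zpowers v₀ // u ≠ 1} := fun g =>
      ⟨⟨g.1 • v₀, g.2 v₀⟩, fun e => hv₀ (MulAction.injective g.1 ((congrArg Subtype.val e).trans (smul_one g.1).symm))⟩
    refine (Nat.card_le_card_of_injective f fun g h e => ?_).trans (le_of_eq ?_)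
    · obtain ⟨s, hs⟩ := hscal g.1 g.2
      obtain ⟨t, ht⟩ := hscal h.1 h.2
      have h1 : g.1 • v₀ = h.1 • v₀ := congrArg (fun u => (u.1 : M)) e
      rw [hs, ht, zpow_eq_zpow_iff_modEq, hord v₀ hv₀] at h1
      refine Subtype.ext (hsame _ _ v₀ w₀ hv₀ hw₀ (congrArg (fun u => (u.1 : M)) e) ?_)
      rw [hs, ht, zpow_eq_zpow_iff_modEq, hord w₀ (fun e => hw₀ (e ▸ one_mem _))]
      exact h1
    · haveI := Fintype.ofFinite (Subgroup.zpowers v₀)
      rw [Nat.card_eq_fintype_card, Fintype.card_subtype_compl, Fintype.card_subtype_eq,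
        ← Nat.card_eq_fintype_card, Nat.card_zpowers, hord v₀ hv₀]
  -- centralisers of other elements
  have hnon : ∀ g, ¬ Sc g → Nat.card {h : X // g * h = h * g} ≤ q * q - 1 ∧
      ∀ h₁ h₂ : X, g * h₁ = h₁ * g → g * h₂ = h₂ * g → h₁ * h₂ = h₂ * h₁ := by
    intro g hg
    simp only [Sc, not_forall] at hg
    obtain ⟨v, hv⟩ := hg
    have hv1 : v ≠ 1 := fun e => hv (by rw [e, smul_one]; exact one_mem _)
    have hcg : ∀ h : X, g * h = h * g → h • (g • v) = g • (h • v) := fun h hh => by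
      rw [← mul_smul, ← mul_smul, hh]
    have hdet : ∀ h h' : X, g * h = h * g → g * h' = h' * g → h • v = h' • v → h = h' := by
      intro h h' hh hh' e
      exact hsame h h' v (g • v) hv1 hv e (by rw [hcg h hh, hcg h' hh', e])
    constructor
    · let f : {h : X // g * h = h * g} → {m : M // m ≠ 1} := fun h =>
        ⟨h.1 • v, fun e => hv1 (MulAction.injective h.1 (e.trans (smul_one h.1).symm))⟩
      refine (Nat.card_le_card_of_injective f fun h h' e =>
        Subtype.ext (hdet _ _ h.2 h'.2 (congrArg Subtype.val e))).trans (le_of_eq ?_)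
      haveI := Fintype.ofFinite M
      rw [Nat.card_eq_fintype_card, Fintype.card_subtype_compl, Fintype.card_subtype_eq,
        ← Nat.card_eq_fintype_card, hM]
    · intro h₁ h₂ e₁ e₂
      refine hdet _ _ (by rw [← mul_assoc, e₁, mul_assoc, e₂, mul_assoc])
        (by rw [← mul_assoc, e₂, mul_assoc, e₁, mul_assoc]) ?_
      obtain ⟨a, ha, b, hb, hab⟩ := Subgroup.mem_sup.1 ((hgen v (g • v) hv1 hv).symm ▸
        Subgroup.mem_top (h₁ • v) : h₁ • v ∈ Subgroup.zpowers v ⊔ Subgroup.zpowers (g • v))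
      obtain ⟨c, hc, d, hd, hcd⟩ := Subgroup.mem_sup.1 ((hgen v (g • v) hv1 hv).symm ▸
        Subgroup.mem_top (h₂ • v) : h₂ • v ∈ Subgroup.zpowers v ⊔ Subgroup.zpowers (g • v))
      obtain ⟨a, rfl⟩ := ha
      obtain ⟨b, rfl⟩ := hb
      obtain ⟨c, rfl⟩ := hc
      obtain ⟨d, rfl⟩ := hd
      rw [mul_smul, mul_smul, ← hab, ← hcd, smul_mul', smul_mul', hzle, hzle, hzle, hzle,
        hcg h₁ e₁, hcg h₂ e₂, ← hab, ← hcd]
      simp only [smul_mul', hzle, mul_zpow, ← zpow_mul]
      rw [mul_comm c a, mul_comm c b, mul_comm d a, mul_comm d b]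
      ac_rfl
  by_cases hall : ∀ g : X, Sc g
  · have h1 : Nat.card X ≤ q - 1 := by
      rw [← Nat.card_congr (Equiv.subtypeUnivEquiv hall)]
      exact hSccard
    have := k_le_card X
    have : 4 ≤ q * q := Nat.mul_le_mul hq2 hq2
    omega
  push Not at hall
  obtain ⟨g₀, hg₀⟩ := hall
  by_cases hcomm : ∀ a b : X, a * b = b * a
  · have h1 := (hnon g₀ hg₀).1
    rw [Nat.card_congr (Equiv.subtypeUnivEquiv fun h => hcomm g₀ h)] at h1
    have := k_le_card X
    omega
  have hcent : ∀ g, g ∈ Subgroup.center X ↔ Sc g := by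
    intro g
    constructor
    · intro hz
      by_contra hns
      exact hcomm fun a b => (hnon g hns).2 a b (Subgroup.mem_center_iff.1 hz a).symm
        (Subgroup.mem_center_iff.1 hz b).symm
    · intro hs
      obtain ⟨s, hs⟩ := hscal g hs
      refine Subgroup.mem_center_iff.2 fun h => eq_of_smul_eq_smul (α := M) fun m => ?_
      rw [mul_smul, mul_smul, hs, hs, hzle]
  -- count commuting pairs
  have hpairs : Nat.card (ConjClasses X) * Nat.card X =
      ∑ g : X, Nat.card {h : X // g * h = h * g} := by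
    rw [← card_comm_eq_card_conjClasses_mul_card X, ← Nat.card_sigma]
    exact Nat.card_congr
      { toFun := fun p => ⟨p.1.1, p.1.2, p.2⟩
        invFun := fun p => ⟨(p.1, p.2.1), p.2.2⟩
        left_inv := fun p => rfl
        right_inv := fun p => rfl }
  set z := Nat.card {g : X // Sc g} with hz
  have hbound : ∑ g : X, Nat.card {h : X // g * h = h * g} ≤
      z * Nat.card X + (Nat.card X - z) * (q * q - 1) := by
    rw [← Finset.sum_filter_add_sum_filter_not Finset.univ Sc]
    refine Nat.add_le_add ((Finset.sum_le_card_nsmul _ _ (Nat.card X) fun g _ =>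
      Nat.card_le_card_of_injective _ Subtype.val_injective).trans (le_of_eq ?_))
      ((Finset.sum_le_card_nsmul _ _ (q * q - 1) fun g hg =>
        (hnon g (Finset.mem_filter.1 hg).2).1).trans (le_of_eq ?_))
    · rw [smul_eq_mul, hz, Nat.card_eq_fintype_card (α := {g : X // Sc g}), Fintype.card_subtype]
    · rw [smul_eq_mul, hz, Nat.card_eq_fintype_card (α := {g : X // Sc g}), Fintype.card_subtype,
        Nat.card_eq_fintype_card, ← Finset.card_univ]
      congr 1
      rw [← Finset.compl_filter, Finset.card_compl, Finset.card_univ]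
  have hz1 : 1 ≤ z := Nat.pos_of_ne_zero (Nat.card_ne_zero.2
    ⟨⟨⟨1, fun m => by rw [one_smul]; exact Subgroup.mem_zpowers m⟩⟩, inferInstance⟩)
  have hzX : z ≤ Nat.card X := Nat.card_le_card_of_injective _ Subtype.val_injective
  by_contra hgt
  push Not at hgt
  have h1 : (q * q + q - 2) * Nat.card X ≤ Nat.card (ConjClasses X) * Nat.card X :=
    Nat.mul_le_mul_right _ (by omega)
  rw [hpairs] at h1
  have h2 := h1.trans hbound
  have h3 : z * Nat.card X ≤ (q - 1) * Nat.card X := Nat.mul_le_mul_right _ hSccard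
  have h4 : (q * q + q - 2) * Nat.card X = (q - 1) * Nat.card X + (q * q - 1) * Nat.card X := by
    rw [← Nat.add_mul]; congr 1
    have : 4 ≤ q * q := Nat.mul_le_mul hq2 hq2
    omega
  have h5 : (Nat.card X - z) * (q * q - 1) + z * (q * q - 1) = (q * q - 1) * Nat.card X := by
    rw [← Nat.add_mul, Nat.sub_add_cancel hzX, mul_comm]
  have h6 : 1 * 1 ≤ z * (q * q - 1) := Nat.mul_le_mul hz1 (by
    have : 4 ≤ q * q := Nat.mul_le_mul hq2 hq2
    omega)
  omega

end Cfsg.Agent.KGFit86
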