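import Mathlib
import Cfsg.Agent.Lib.KGBound86TwoDim
import Cfsg.Agent.Lib.KGBound86Cases

/-!
Classes of subgroups of completely reducible solvable subgroups of `GL(4,2)`.
-/

set_option autoImplicit false

namespace Cfsg.Agent.KGFit86

open Cfsg.Agent.KGBound86
open Cfsg.Agent.OddBase75

theorem SK.of_normal {H : Type} [Group H] [Finite H] (B : Subgroup H) [B.Normal] {b : ℕ}
    (h : SK B b) : SK H (B.index * b) := by
  intro X
  refine (PermClassBound87.k_le_index_mul (B.subgroupOf X)).trans (Nat.mul_le_mul ?_ ?_)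
  · exact Nat.le_of_dvd (Nat.pos_of_ne_zero Subgroup.index_ne_zero_of_finite)
      (Subgroup.relIndex_dvd_index_of_normal B X)
  let f : B.subgroupOf X →* B :=
    { toFun := fun x => ⟨((x : X) : H), x.2⟩
      map_one' := rfl
      map_mul' := fun _ _ => rfl }
  refine le_trans ?_ (SK.of_injective f (fun x y e => Subtype.ext (Subtype.ext
    (Subtype.ext_iff.1 e :))) h ⊤)
  rw [PermClassBound87.k_congr Subgroup.topEquiv]

theorem SK.prod_of_injective {H H₁ H₂ : Type} [Group H] [Group H₁] [Finite H₁] [Group H₂] [Finite H₂]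
    (f : H →* H₁ × H₂) (hf : Function.Injective f) {a b : ℕ} (h₁ : SK H₁ a) (h₂ : SK H₂ b) :
    SK H (b * a) := SK.of_injective f hf (h₁.prod h₂)

theorem SK.two_dim {H W : Type} [Group H] [Finite H] [AddCommGroup W] [Finite W]
    [DistribMulAction H W] [FaithfulSMul H W] {q : ℕ} [Fact q.Prime] (hW : Nat.card W = q * q)
    (hexp : ∀ x : W, q • x = 0) : SK H (q * q + q - 3) := by
  intro X
  letI : MulDistribMulAction X (Multiplicative W) :=
    { smul := fun g m => Multiplicative.ofAdd ((g : H) • Multiplicative.toAdd m)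
      one_smul := fun m => congrArg Multiplicative.ofAdd (one_smul H (Multiplicative.toAdd m))
      mul_smul := fun g h m => congrArg Multiplicative.ofAdd
        (mul_smul (g : H) (h : H) (Multiplicative.toAdd m))
      smul_one := fun g => congrArg Multiplicative.ofAdd (smul_zero (g : H))
      smul_mul := fun g m m' => congrArg Multiplicative.ofAdd
        (smul_add (g : H) (Multiplicative.toAdd m) (Multiplicative.toAdd m')) }
  haveI : FaithfulSMul X (Multiplicative W) := ⟨fun {g h} e => Subtype.ext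
    (eq_of_smul_eq_smul (α := W) fun x =>
      congrArg Multiplicative.toAdd (e (Multiplicative.ofAdd x)))⟩
  exact k_two_dim (M := Multiplicative W) (by rw [Nat.card_congr Multiplicative.toAdd, hW])
    fun m => congrArg Multiplicative.ofAdd (hexp (Multiplicative.toAdd m))

/-- The bounds. -/
def skTable (n : ℕ) : ℕ := [1, 1, 3, 21, 27].getD n 0

set_option maxHeartbeats 1000000 in
theorem prim_four {H W : Type} [Group H] [Finite H] [Group.IsSolvable H] [AddCommGroup W] [Finite W]
    [DistribMulAction H W] [FaithfulSMul H W] [Nontrivial W] (P : Prim H W) {n : ℕ} (hn1 : 1 ≤ n)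
    (hn4 : n ≤ 4) (hW : Nat.card W = 2 ^ n) : SK H (skTable n) := by
  classical
  haveI : Fact (Nat.Prime 2) := ⟨Nat.prime_two⟩
  by_cases h2 : n = 2
  · subst h2
    refine (SK.two_dim (q := 2) (by rw [hW]; norm_num) fun x => ?_).mono (by decide)
    obtain ⟨U, hU⟩ : ∃ U : AddSubgroup W, ∀ x, x ∈ U ↔ 2 • x = 0 :=
      ⟨(nsmulAddMonoidHom (α := W) 2).ker, fun x => AddMonoidHom.mem_ker⟩
    obtain ⟨f, hf, hn', -, -⟩ := field_data P Nat.prime_two hW
    have hchar : CharP P.K 2 := by
      haveI := Fintype.ofFinite P.K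
      obtain ⟨c, hc⟩ := CharP.exists P.K
      haveI : Fact c.Prime := ⟨(CharP.char_is_prime_or_zero P.K c).resolve_right fun h => by
        subst h
        haveI : CharZero P.K := CharP.charP_to_charZero P.K
        exact not_finite P.K⟩
      obtain ⟨m, hc1, hc2⟩ := FiniteField.card P.K c
      rw [← Nat.card_eq_fintype_card, hf] at hc2
      have : c = 2 := by
        refine (Nat.prime_dvd_prime_iff_eq hc1 Nat.prime_two).1 (hc1.dvd_of_dvd_pow (n := f) ?_)
        rw [hc2]; exact dvd_pow_self c (PNat.ne_zero m)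
      exact this ▸ hc
    rw [← Nat.cast_smul_eq_nsmul P.K, CharP.cast_eq_zero, zero_smul]
  obtain ⟨S⟩ := exists_symp P
  obtain ⟨f, hf, hn', hf1, hl⟩ := field_data P Nat.prime_two hW
  obtain ⟨e, he, he1, hew, hm, hprimes⟩ := section_data S
  have hw := dimK_pos P
  have he2 : e = 1 := by
    have h2e : 2 ∣ e → False := fun h => by
      have := hprimes 2 Nat.prime_two h
      rw [hf] at this
      have h1 : 1 ≤ 2 ^ f := Nat.one_le_two_pow
      have h3 : 2 ∣ 2 ^ f := dvd_pow_self 2 (by omega)
      omega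
    have h3e : e = 3 → False := fun h => by
      have := hprimes 3 Nat.prime_three (by rw [h])
      rw [hf] at this
      have : dimK P ≥ 3 := h ▸ hew
      have : f = 1 := by nlinarith
      subst this
      omega
    have : e ≤ 4 := hew.trans (by nlinarith)
    interval_cases e
    · rfl
    · exact (h2e (dvd_refl 2)).elim
    · exact (h3e rfl).elim
    · exact (h2e (by norm_num)).elim
  subst he2
  have hz := card_A_dvd P hf
  have hC : Nat.card P.C = Nat.card P.A := by
    rw [card_C S, he]
    have h0 : 0 < Nat.card (secHom S).range := Nat.card_pos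
    rw [show Nat.card (secHom S).range = 1 from le_antisymm (hm.trans (by decide)) h0]
    ring
  have hpos : 0 < 2 ^ f - 1 := by
    have := Nat.one_lt_two_pow (show f ≠ 0 by omega)
    omega
  have hAle : Nat.card P.A ≤ 2 ^ f - 1 := Nat.le_of_dvd hpos hz
  have hH : Nat.card H = P.C.index * Nat.card P.A := by
    rw [← P.C.index_mul_card, hC]
  have hfn : f ≤ n := hn' ▸ Nat.le_mul_of_pos_right f hw
  by_cases hf4 : f < 4 ∨ Nat.card P.A ≤ 5
  · refine SK.of_card ?_
    rw [hH]
    refine (Nat.mul_le_mul hl le_rfl).trans ?_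
    rcases hf4 with h | h
    · refine (Nat.mul_le_mul_left f hAle).trans ?_
      have key : ∀ f w : Fin 5, (1 ≤ f.1 ∧ f.1 < 4 ∧ 1 ≤ w.1 ∧ f.1 * w.1 ≤ 4 ∧ f.1 * w.1 ≠ 2) →
          f.1 * (2 ^ f.1 - 1) ≤ skTable (f.1 * w.1) := by decide +kernel
      rw [hn']
      exact key ⟨f, by omega⟩ ⟨dimK P, by nlinarith⟩ ⟨hf1, h, hw, hn' ▸ hn4, hn' ▸ h2⟩
    · rcases Nat.lt_or_ge f 4 with h4 | h4
      · refine (Nat.mul_le_mul_left f hAle).trans ?_
        have key : ∀ f w : Fin 5, (1 ≤ f.1 ∧ f.1 < 4 ∧ 1 ≤ w.1 ∧ f.1 * w.1 ≤ 4 ∧ f.1 * w.1 ≠ 2) →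
            f.1 * (2 ^ f.1 - 1) ≤ skTable (f.1 * w.1) := by decide +kernel
        rw [hn']
        exact key ⟨f, by omega⟩ ⟨dimK P, by nlinarith⟩ ⟨hf1, h4, hw, hn' ▸ hn4, hn' ▸ h2⟩
      · have : n = 4 := by omega
        rw [this]
        refine (Nat.mul_le_mul (show f ≤ 4 by omega) h).trans (by decide)
  push Not at hf4
  obtain ⟨hf4, hA5⟩ := hf4
  have hf4' : f = 4 := by omega
  subst hf4'
  have hn4' : n = 4 := by omega
  subst hn4'
  have hA15 : Nat.card P.A = 15 := by
    have h1 : Nat.card P.A ∣ 15 := by simpa using hz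
    have h2 := Nat.le_of_dvd (by norm_num) h1
    interval_cases h : Nat.card P.A <;> omega
  haveI := Fintype.ofFinite H
  intro X
  haveI := Fintype.ofFinite X
  let Y : Subgroup X := P.C.subgroupOf X
  have hY : Nat.card Y ≤ 15 := by
    rw [← hA15, ← hC]
    refine Nat.card_le_card_of_injective (fun y : Y => (⟨((y : X) : H), y.2⟩ : P.C)) fun y y' e =>
      Subtype.ext (Subtype.ext (congrArg (fun c : P.C => (c : H)) e))
  have hd : Y.index ≤ 4 := le_trans (Nat.le_of_dvd (Nat.pos_of_ne_zero Subgroup.index_ne_zero_of_finite)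
    (Subgroup.relIndex_dvd_index_of_normal P.C X)) hl
  by_cases hY5 : Nat.card Y ≤ 5
  · refine (k_le_card X).trans ?_
    rw [← Y.card_mul_index]
    exact (Nat.mul_le_mul hY5 hd).trans (by decide)
  have hCA : P.C = P.A := (Subgroup.eq_of_le_of_card_ge P.A_le_C hC.le).symm
  have hYd : Nat.card Y ∣ 15 := by
    rw [← hA15]
    exact Subgroup.card_dvd_of_injective
      ({ toFun := fun y : Y => (⟨((y : X) : H), hCA ▸ y.2⟩ : P.A)
         map_one' := rfl
         map_mul' := fun _ _ => rfl } : Y →* P.A)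
      fun y y' e => Subtype.ext (Subtype.ext (congrArg (fun c : P.A => (c : H)) e))
  have hY15 : Nat.card Y = 15 := by
    interval_cases h : Nat.card Y <;> omega
  -- centralisers outside `C`
  have hfix : ∀ g : H, g ∉ P.C → Nat.card {a : P.A // g * (a : H) = (a : H) * g} ≤ 3 := by
    intro g hg
    let F : Subfield P.K := RingHom.eqLocusField (P.sig g) (RingHom.id P.K)
    have hFlt : F ≠ ⊤ := by
      intro h
      obtain ⟨r, hr⟩ := P.exists_sig_ne hg
      have : r ∈ F := h ▸ Subfield.mem_top r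
      exact hr this
    have hcardK : Nat.card P.K = Nat.card F ^ Module.finrank F P.K := Module.natCard_eq_pow_finrank
    have hfr : 2 ≤ Module.finrank F P.K := by
      by_contra h1
      push Not at h1
      refine hFlt (SetLike.coe_injective ?_)
      have h3 : Nat.card P.K ≤ Nat.card F := by
        rw [hcardK]
        calc Nat.card F ^ Module.finrank F P.K ≤ Nat.card F ^ 1 :=
              Nat.pow_le_pow_right Nat.card_pos (by omega)
          _ = _ := pow_one _
      rw [Subfield.coe_top]
      exact Set.eq_of_subset_of_ncard_le (Set.subset_univ _) (by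
        rwa [Set.ncard_univ, ← Nat.card_coe_set_eq]) (Set.toFinite _)
    have hF4 : Nat.card F ≤ 4 := by
      have : Nat.card F ^ 2 ≤ 16 := by
        calc Nat.card F ^ 2 ≤ Nat.card F ^ Module.finrank F P.K :=
              Nat.pow_le_pow_right Nat.card_pos hfr
          _ = 16 := by rw [← hcardK, hf]; norm_num
      by_contra h5
      have := Nat.pow_le_pow_left (show 5 ≤ Nat.card F by omega) 2
      omega
    let φ : {a : P.A // g * (a : H) = (a : H) * g} → {r : F // r ≠ 0} := fun a =>
      ⟨⟨((P.sc a.1 : P.Kˣ) : P.K), by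
        show P.sig g _ = _
        refine Subtype.ext (AddMonoidHom.ext fun x => ?_)
        show (P.sig g ((P.sc a.1 : P.Kˣ) : P.K)) • x = ((P.sc a.1 : P.Kˣ) : P.K) • x
        rw [← smul_inv_smul g x, ← P.smul_twist, P.sc_smul, P.sc_smul, ← mul_smul, a.2, mul_smul]⟩,
        fun e => (P.sc a.1).ne_zero (congrArg Subtype.val e)⟩
    refine (Nat.card_le_card_of_injective φ fun a b e => ?_).trans ?_
    · exact Subtype.ext (P.sc_injective (Units.ext (congrArg (fun r => (r.1 : P.K)) e)))
    · haveI := Fintype.ofFinite F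
      rw [Nat.card_eq_fintype_card, Fintype.card_subtype_compl, Fintype.card_subtype_eq,
        ← Nat.card_eq_fintype_card]
      omega
  have hcx : ∀ x : X, x ∉ Y → Nat.card {h : X // x * h = h * x} ≤ 3 * Y.index := by
    intro x hx
    let Z := Subgroup.centralizer ({x} : Set X)
    have hZ : ∀ h, h ∈ Z ↔ x * h = h * x := fun h => by
      rw [Subgroup.mem_centralizer_singleton_iff]; exact eq_comm
    rw [Nat.card_congr (Equiv.subtypeEquivRight fun h => (hZ h).symm)]
    show Nat.card Z ≤ _
    rw [← (Y.subgroupOf Z).card_mul_index]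
    refine Nat.mul_le_mul ?_ (Nat.le_of_dvd (Nat.pos_of_ne_zero Subgroup.index_ne_zero_of_finite)
      (Subgroup.relIndex_dvd_index_of_normal Y Z))
    refine le_trans ?_ (hfix (x : H) fun h => hx h)
    refine Nat.card_le_card_of_injective (fun y => (⟨⟨(((y : Z) : X) : H), hCA ▸ y.2⟩,
      congrArg Subtype.val ((hZ _).1 (y : Z).2)⟩ : {a : P.A // (x : H) * (a : H) = (a : H) * (x : H)}))
      fun y y' e => Subtype.ext (Subtype.ext (Subtype.ext (congrArg (fun a => ((a.1 : P.A) : H)) e)))
  show Nat.card (ConjClasses X) ≤ 27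
  have hpairs : Nat.card (ConjClasses X) * Nat.card X =
      ∑ g : X, Nat.card {h : X // g * h = h * g} := by
    rw [← card_comm_eq_card_conjClasses_mul_card X, ← Nat.card_sigma]
    exact Nat.card_congr
      { toFun := fun p => ⟨p.1.1, p.1.2, p.2⟩
        invFun := fun p => ⟨(p.1, p.2.1), p.2.2⟩
        left_inv := fun p => rfl
        right_inv := fun p => rfl }
  have hbound : ∑ g : X, Nat.card {h : X // g * h = h * g} ≤
      Nat.card Y * Nat.card X + Nat.card X * (3 * Y.index) := by
    rw [← Finset.sum_filter_add_sum_filter_not Finset.univ (· ∈ Y)]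
    refine Nat.add_le_add ((Finset.sum_le_card_nsmul _ _ (Nat.card X) fun g _ =>
      Nat.card_le_card_of_injective _ Subtype.val_injective).trans (le_of_eq ?_))
      ((Finset.sum_le_card_nsmul _ _ (3 * Y.index) fun g hg =>
        hcx g (Finset.mem_filter.1 hg).2).trans ?_)
    · rw [smul_eq_mul, Nat.card_eq_fintype_card (α := Y), Fintype.card_subtype]
    · rw [smul_eq_mul]
      exact Nat.mul_le_mul_right _ ((Finset.card_le_univ _).trans_eq Nat.card_eq_fintype_card.symm)
  rw [← hpairs, mul_comm (Nat.card Y), ← Nat.mul_add, mul_comm (Nat.card (ConjClasses X))] at hbound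
  exact (Nat.le_of_mul_le_mul_left hbound Nat.card_pos).trans (by omega)

/-- The bound in dimension four. -/
theorem dim_four {H W : Type} [Group H] [Finite H] [Group.IsSolvable H] [AddCommGroup W] [Finite W]
    [DistribMulAction H W] [FaithfulSMul H W] (hcr : CR H W) (hW : Nat.card W = 2 ^ 4) : SK H 27 := by
  haveI : Fact (Nat.Prime 2) := ⟨Nat.prime_two⟩
  have h := cr_induction (fun H _ _ b => SK H b) (fun _ _ _ _ _ h h' => h.mono h')
    (fun _ _ _ _ _ _ _ _ _ f _ _ hf h1 h2 => SK.prod_of_injective f hf h1 h2)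
    (fun _ _ _ B _ _ h => SK.of_normal B h)
    (fun _ _ _ _ _ _ _ _ f _ hf h => SK.of_injective f hf (SK.pi h))
    (p := 2) skTable 4 ?_ ?_ (fun H W _ _ _ _ _ _ _ _ P n h1 h2 h3 => prim_four P h1 h2 h3)
    4 (by norm_num) le_rfl H W hcr hW
  · exact h
  · have key : ∀ a < 5, ∀ b < 5, 1 ≤ a → 1 ≤ b → a + b ≤ 4 →
        skTable b * skTable a ≤ skTable (a + b) := by decide +kernel
    exact fun a b ha hb hab => key a (by omega) b (by omega) ha hb hab
  · have key : ∀ k < 5, ∀ w < 5, 2 ≤ k → 1 ≤ w → k * w ≤ 4 →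
        min (3 ^ (k - 1)) k.factorial * skTable w ^ k ≤ skTable (k * w) := by decide +kernel
    exact fun k w hk hw hkw => key k (by nlinarith) w (by nlinarith) hk hw hkw

end Cfsg.Agent.KGFit86
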