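import Mathlib

/-!
A finite complex linear group is a linear group over some prime field of coprime characteristic, in the
same dimension.
-/

set_option autoImplicit false

namespace Cfsg.Agent.KGBound86

open Polynomial

/-- Coprime reduction is faithful on a finite group. -/
theorem injective_map_red {G : Type*} [Group G] [Finite G] {R K : Type*} [CommRing R] [IsDomain R]
    [Field K] {r : ℕ} (φ : R →+* K) (ρ : G →* Matrix (Fin r) (Fin r) R) (hρ : Function.Injective ρ)
    (hK : (Nat.card G : K) ≠ 0) :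
    Function.Injective (φ.mapMatrix.toMonoidHom.comp ρ) := by
  refine (injective_iff_map_eq_one _).2 fun g hg => hρ ?_
  have hg' : φ.mapMatrix (ρ g) = 1 := hg
  rw [map_one]
  set S : Matrix (Fin r) (Fin r) R := ∑ i ∈ Finset.range (orderOf g), ρ g ^ i with hS
  have h1 : (ρ g - 1) * S = 0 := by
    rw [hS, mul_geom_sum, ← map_pow, pow_orderOf_eq_one, map_one, sub_self]
  have hk : (orderOf g : K) ≠ 0 := by
    obtain ⟨c, hc⟩ := orderOf_dvd_natCard g
    intro h
    exact hK (by rw [hc, Nat.cast_mul, h, zero_mul])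
  have h2 : φ S.det ≠ 0 := by
    rw [RingHom.map_det, hS, map_sum]
    simp only [map_pow, hg', one_pow, Finset.sum_const, Finset.card_range]
    rw [nsmul_eq_mul, mul_one, ← Matrix.diagonal_natCast, Matrix.det_diagonal]
    exact Finset.prod_ne_zero_iff.2 fun i _ => hk
  have h3 : S.det • (ρ g - 1) = 0 := by
    have := congrArg (· * S.adjugate) h1
    simpa [mul_assoc, Matrix.mul_adjugate] using this
  have hdet : S.det ≠ 0 := fun h => h2 (by rw [h, map_zero])
  exact sub_eq_zero.1 ((smul_eq_zero.1 h3).resolve_left hdet)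

/-- A nonconstant integer polynomial has roots modulo primes avoiding any given number. -/
theorem exists_root_mod (f : ℤ[X]) (hf : f.natDegree ≠ 0) (N : ℤ) (hN : N ≠ 0) :
    ∃ p : ℕ, p.Prime ∧ ¬ (p : ℤ) ∣ N ∧ ∃ a : ℤ, (p : ℤ) ∣ f.eval a := by
  by_cases h0 : f.eval 0 = 0
  · obtain ⟨p, hp, hpp⟩ := Nat.exists_infinite_primes (N.natAbs + 1)
    refine ⟨p, hpp, fun h => ?_, 0, by rw [h0]; exact dvd_zero _⟩
    have := Nat.le_of_dvd (Int.natAbs_pos.2 hN) (Int.natCast_dvd.1 h)
    omega
  set c := f.eval 0 with hc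
  set g := (f.comp (C (c * N) * X) - C c) * (f.comp (C (c * N) * X) + C c) with hg
  have hdeg : (f.comp (C (c * N) * X)).natDegree ≠ 0 := by
    rw [natDegree_comp, natDegree_C_mul_X _ (mul_ne_zero h0 hN), mul_one]
    exact hf
  have hg0 : g ≠ 0 := by
    refine mul_ne_zero (fun h => hdeg ?_) (fun h => hdeg ?_)
    · rw [sub_eq_zero.1 h, natDegree_C]
    · rw [eq_neg_of_add_eq_zero_left h, natDegree_neg, natDegree_C]
  obtain ⟨t, ht⟩ : ∃ t : ℤ, g.eval t ≠ 0 := by
    by_contra h
    push Not at h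
    exact hg0 (zero_of_eval_zero g h)
  set m : ℤ := 1 + N * t * (f.divX).eval (c * N * t) with hm
  have hval : f.eval (c * N * t) = c * m := by
    conv_lhs => rw [← X_mul_divX_add f]
    simp only [eval_add, eval_mul, eval_X, eval_C]
    rw [show f.coeff 0 = c from by rw [hc, ← coeff_zero_eq_eval_zero]]
    ring
  have hm1 : m.natAbs ≠ 1 := by
    intro h
    refine ht ?_
    simp only [hg, eval_mul, eval_sub, eval_add, eval_comp, eval_C, eval_X, hval]
    rcases Int.natAbs_eq_iff.1 h with h' | h' <;> rw [h'] <;> ring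
  obtain ⟨p, hp, hpm⟩ := Nat.exists_prime_and_dvd hm1
  have hpm' : (p : ℤ) ∣ m := Int.natCast_dvd.2 hpm
  refine ⟨p, hp, fun hd => ?_, c * N * t, by rw [hval]; exact hpm'.mul_left c⟩
  have : (p : ℤ) ∣ 1 := by
    have h := dvd_sub hpm' ((hd.mul_right t).mul_right ((f.divX).eval (c * N * t)))
    rwa [hm, add_sub_cancel_right] at h
  exact hp.one_lt.ne' (Nat.dvd_one.1 (Int.natCast_dvd_natCast.1 this))

/-- From a number field to a prime field. -/
theorem exists_prime_rep {G : Type*} [Group G] [Finite G] {L : Type*} [Field L] [CharZero L]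
    [FiniteDimensional ℚ L] {r : ℕ} (ρ : G →* Matrix (Fin r) (Fin r) L) (hρ : Function.Injective ρ) :
    ∃ p : ℕ, ∃ _ : Fact p.Prime, ¬ p ∣ Nat.card G ∧
      ∃ σ : G →* Matrix (Fin r) (Fin r) (ZMod p), Function.Injective σ := by
  classical
  haveI := Fintype.ofFinite G
  obtain ⟨α, hα⟩ := Field.exists_primitive_element ℚ L
  obtain ⟨y, hy, hyint⟩ := ((IsFractionRing.isAlgebraic_iff ℤ ℚ L).2 (IsAlgebraic.of_finite ℚ α)).exists_integral_multiple
  set β : L := y • α with hβdef
  have hβ : IsIntegral ℤ β := hyint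
  have hgen : ∀ x : L, ∃ P : ℚ[X], aeval β P = x := by
    intro x
    have hx : x ∈ IntermediateField.adjoin ℚ ({α} : Set L) := hα ▸ IntermediateField.mem_top
    rw [← IntermediateField.mem_toSubalgebra,
      IntermediateField.adjoin_simple_toSubalgebra_of_isAlgebraic (IsAlgebraic.of_finite ℚ α),
      Algebra.adjoin_singleton_eq_range_aeval] at hx
    obtain ⟨P, rfl⟩ := hx
    refine ⟨P.comp (C ((y : ℚ)⁻¹) * X), ?_⟩
    rw [aeval_comp]
    congr 1
    have hy' : (y : L) ≠ 0 := Int.cast_ne_zero.2 hy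
    simp [hβdef, zsmul_eq_mul, hy']
  have hint : ∀ x : L, ∃ (D : ℤ) (P : ℤ[X]), D ≠ 0 ∧ aeval β P = D * x := by
    intro x
    obtain ⟨P, rfl⟩ := hgen x
    obtain ⟨b, hb⟩ := IsLocalization.integerNormalization_map_to_map (nonZeroDivisors ℤ) P
    refine ⟨b, IsLocalization.integerNormalization (nonZeroDivisors ℤ) P,
      nonZeroDivisors.coe_ne_zero b, ?_⟩
    rw [← aeval_map_algebraMap ℚ β, hb, map_zsmul]
    simp [zsmul_eq_mul]
  choose D P hD hP using hint
  let Dtot : ℤ := ∏ g : G, ∏ i, ∏ j, D (ρ g i j)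
  have hDtot : Dtot ≠ 0 :=
    Finset.prod_ne_zero_iff.2 fun g _ => Finset.prod_ne_zero_iff.2 fun i _ =>
      Finset.prod_ne_zero_iff.2 fun j _ => hD _
  let θ : ℤ[X] →+* L := (aeval β : ℤ[X] →ₐ[ℤ] L).toRingHom
  let B := θ.range
  have hmf := minpoly.natDegree_pos hβ
  obtain ⟨p, hp, hpN, a, ha⟩ := exists_root_mod (minpoly ℤ β) (by omega)
    (Dtot * (Nat.card G : ℤ)) (mul_ne_zero hDtot (by exact_mod_cast Nat.card_pos.ne'))
  haveI := Fact.mk hp
  have hpG : ¬ p ∣ Nat.card G := fun h => hpN ((Int.natCast_dvd_natCast.2 h).mul_left _)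
  refine ⟨p, ⟨hp⟩, hpG, ?_⟩
  let ψ : ℤ[X] →+* ZMod p := eval₂RingHom (Int.castRingHom _) (a : ZMod p)
  have hker : ∀ Q ∈ RingHom.ker θ, ψ Q = 0 := by
    intro Q hQ
    obtain ⟨R, rfl⟩ := minpoly.isIntegrallyClosed_dvd hβ hQ
    rw [map_mul]
    have : ψ (minpoly ℤ β) = 0 := by
      show eval₂ (Int.castRingHom _) (a : ZMod p) (minpoly ℤ β) = 0
      rw [show (a : ZMod p) = Int.castRingHom _ a from rfl, eval₂_at_apply]
      exact (ZMod.intCast_zmod_eq_zero_iff_dvd _ p).2 ha
    rw [this, zero_mul]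
  let ψB : B →+* ZMod p :=
    (Ideal.Quotient.lift (RingHom.ker θ) ψ hker).comp
      (RingHom.quotientKerEquivRange θ).symm.toRingHom
  have hDB : (Dtot : L) ∈ B := ⟨C Dtot, by simp [θ]⟩
  let d : B := ⟨(Dtot : L), hDB⟩
  have hd : d = (Dtot : B) := Subtype.ext (by simp [d])
  have hψd : IsUnit (ψB d) := by
    rw [hd, map_intCast, isUnit_iff_ne_zero, Ne, ZMod.intCast_zmod_eq_zero_iff_dvd]
    exact fun h => hpN (h.mul_right _)
  have hLd : IsUnit (B.subtype d) := isUnit_iff_ne_zero.2 (Int.cast_ne_zero.2 hDtot)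
  let Bd := Localization.Away d
  let lam : Bd →+* L := IsLocalization.Away.lift d hLd
  let red : Bd →+* ZMod p := IsLocalization.Away.lift d hψd
  have hlam : Function.Injective lam := by
    refine (injective_iff_map_eq_zero lam).2 fun x hx => ?_
    obtain ⟨b, s, rfl⟩ := IsLocalization.exists_mk'_eq (Submonoid.powers d) x
    have h1 := congrArg lam (IsLocalization.mk'_spec Bd b s)
    rw [map_mul, hx, zero_mul] at h1
    have h2 : (b : L) = 0 := by
      rw [h1]
      exact (IsLocalization.Away.lift_eq d hLd b).symm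
    rw [show b = 0 from Subtype.ext h2, IsLocalization.mk'_zero]
  have hsur : ∀ g i j, ∃ x : Bd, lam x = ρ g i j := by
    intro g i j
    obtain ⟨c, hc⟩ : D (ρ g i j) ∣ Dtot :=
      ((Finset.dvd_prod_of_mem _ (Finset.mem_univ j)).trans
        (Finset.dvd_prod_of_mem (fun i => ∏ j, D (ρ g i j)) (Finset.mem_univ i))).trans
        (Finset.dvd_prod_of_mem (fun g => ∏ i, ∏ j, D (ρ g i j)) (Finset.mem_univ g))
    let b : B := ⟨θ (C c * P (ρ g i j)), ⟨_, rfl⟩⟩
    refine ⟨IsLocalization.mk' Bd b (⟨d, Submonoid.mem_powers d⟩ : Submonoid.powers d), ?_⟩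
    have h1 := congrArg lam (IsLocalization.mk'_spec Bd b
      (⟨d, Submonoid.mem_powers d⟩ : Submonoid.powers d))
    rw [map_mul] at h1
    simp only [lam, IsLocalization.Away.lift_eq] at h1 ⊢
    refine mul_right_cancel₀ (hLd.ne_zero) (h1.trans ?_)
    show θ (C c * P (ρ g i j)) = ρ g i j * (Dtot : L)
    rw [map_mul, show θ (P (ρ g i j)) = D (ρ g i j) * ρ g i j from hP _, hc]
    simp [θ]
    ring
  choose x hx using hsur
  let ρd : G →* Matrix (Fin r) (Fin r) Bd :=
    { toFun := fun g => Matrix.of (x g)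
      map_one' := by
        refine (Matrix.map_injective hlam) ?_
        ext i j
        show lam (x 1 i j) = lam ((1 : Matrix (Fin r) (Fin r) Bd) i j)
        rw [hx, map_one, Matrix.one_apply, Matrix.one_apply]
        split <;> simp
      map_mul' := fun g h => by
        refine (Matrix.map_injective hlam) ?_
        ext i j
        show lam (x (g * h) i j) = lam ((Matrix.of (x g) * Matrix.of (x h)) i j)
        rw [hx, map_mul, Matrix.mul_apply, Matrix.mul_apply, map_sum]
        simp [hx] }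
  haveI : IsDomain Bd := hlam.isDomain lam
  refine ⟨_, injective_map_red red ρd (fun g h e => hρ ?_) ?_⟩
  · ext i j
    rw [← hx g i j, ← hx h i j]
    exact congrArg lam (congrFun (congrFun e i) j)
  · rwa [Ne, ZMod.natCast_eq_zero_iff]

/-- The embedding. -/
theorem exists_prime_field_embedding {G : Type*} [Group G] [Finite G] {r : ℕ}
    (ρ : G →* Matrix (Fin r) (Fin r) ℂ) (hρ : Function.Injective ρ) :
    ∃ p : ℕ, ∃ _ : Fact p.Prime, ¬ p ∣ Nat.card G ∧
      ∃ σ : G →* Matrix (Fin r) (Fin r) (ZMod p), Function.Injective σ := by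
  classical
  let s : Set ℂ := Set.range fun t : G × Fin r × Fin r => ρ t.1 t.2.1 t.2.2
  have hs : s.Finite := Set.finite_range _
  let A := Algebra.adjoin ℚ s
  haveI : Algebra.FiniteType ℚ A :=
    (Subalgebra.fg_iff_finiteType A).1 (Subalgebra.fg_def.2 ⟨s, hs, rfl⟩)
  obtain ⟨m, hm⟩ := Ideal.exists_maximal A
  letI := Ideal.Quotient.field m
  haveI : Algebra.FiniteType ℚ (A ⧸ m) :=
    Algebra.FiniteType.of_surjective (Ideal.Quotient.mkₐ ℚ m) (Ideal.Quotient.mkₐ_surjective ℚ m)
  haveI hfd : Module.Finite ℚ (A ⧸ m) := finite_of_finite_type_of_isJacobsonRing ℚ _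
  haveI : CharZero (A ⧸ m) := charZero_of_injective_algebraMap (algebraMap ℚ (A ⧸ m)).injective
  have hmem : ∀ g i j, ρ g i j ∈ A := fun g i j => Algebra.subset_adjoin ⟨(g, i, j), rfl⟩
  let ρA : G →* Matrix (Fin r) (Fin r) A :=
    { toFun := fun g => Matrix.of fun i j => ⟨ρ g i j, hmem g i j⟩
      map_one' := by
        ext i j
        show ρ 1 i j = (((1 : Matrix (Fin r) (Fin r) A) i j : A) : ℂ)
        rw [map_one, Matrix.one_apply, Matrix.one_apply]
        split <;> simp
      map_mul' := fun g h => by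
        ext i j
        show ρ (g * h) i j = _
        rw [map_mul, Matrix.mul_apply, Matrix.mul_apply]
        simp }
  refine @exists_prime_rep G _ _ (A ⧸ m) (Ideal.Quotient.field m) _ (by convert hfd; exact Subsingleton.elim _ _) r _ (injective_map_red (Ideal.Quotient.mk m) ρA (fun g h e => hρ ?_) ?_)
  · ext i j
    exact congrArg Subtype.val (congrFun (congrFun e i) j)
  · exact_mod_cast Nat.card_pos.ne'

end Cfsg.Agent.KGBound86
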