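import Mathlib
import Cfsg.Agent.Lib.KGBound86Bound

/-!
Reduction of the class number bound to irreducible linear groups.
-/

set_option autoImplicit false

namespace Cfsg.Agent.KGBound86

open Cfsg.Agent.OddBase75
open scoped commutatorElement

universe u

theorem of_sq {p k r B : ℕ} {q : ℕ} (h : 2401 * p ^ 2 * B ≤ 14400 * q) (hq : q ≤ k * r * B)
    (hB : 0 < B) : 49 * p ≤ 60 * (k + r) := by
  have h1 : 2401 * p ^ 2 ≤ 14400 * (k * r) := by
    refine Nat.le_of_mul_le_mul_right (h.trans ?_) hB
    rw [mul_assoc 14400]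
    exact Nat.mul_le_mul_left _ hq
  nlinarith [four_mul_le_sq_add k r]

theorem sqrt_case {k r m : ℕ} (c : ℕ) (h : m ≤ k * r) (hm : (c - 1) ^ 2 < 4 * m) : c ≤ k + r := by
  by_contra hlt
  push Not at hlt
  have h1 : (k + r) ^ 2 ≤ (c - 1) ^ 2 := Nat.pow_le_pow_left (by omega) 2
  nlinarith [four_mul_le_sq_add k r]

theorem int_case {z j : ℤ} (hz : 2 ≤ z) (hj : 1 ≤ j) (hspec : ¬ (z = 2 ∧ j = 9)) :
    0 ≤ 60 * z * j ^ 2 - 1176 * z * j + 5760 * z + 120 * j - 1176 := by
  rcases le_or_gt j 8 with h8 | h8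
  · interval_cases j <;> (ring_nf; omega)
  rcases eq_or_lt_of_le (show 9 ≤ j by omega) with h9 | h9
  · subst h9
    have : 3 ≤ z := by omega
    nlinarith
  rcases eq_or_lt_of_le (show 10 ≤ j by omega) with h10 | h10
  · subst h10
    nlinarith
  · nlinarith [mul_nonneg (mul_nonneg (show (0:ℤ) ≤ z by omega) (show (0:ℤ) ≤ j - 11 by omega))
      (show (0:ℤ) ≤ 60 * (j + 11) - 1176 by omega)]

/-- The exceptional case of dimension two. -/
theorem octa_case {p z k r : ℕ} (hp : p.Prime) (hp11 : 11 ≤ p) (hz : z ∣ p - 1)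
    (hz0 : 2 ≤ z) (hk : 4 * z ≤ k) (hr : p ^ 2 ≤ r * (24 * z) + 1) :
    49 * p ≤ 60 * (k + r) := by
  obtain ⟨j, hj⟩ := hz
  have hpj : p = z * j + 1 := by omega
  have hj1 : 1 ≤ j := by
    rcases Nat.eq_zero_or_pos j with rfl | h
    · omega
    · exact h
  by_cases hs : z = 2 ∧ j = 9
  · obtain ⟨rfl, rfl⟩ := hs
    rw [hpj] at hr ⊢
    norm_num at hr ⊢
    omega
  have hint := int_case (z := (z : ℤ)) (j := (j : ℤ)) (by exact_mod_cast hz0) (by exact_mod_cast hj1)
    (fun h => hs ⟨by exact_mod_cast h.1, by exact_mod_cast h.2⟩)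
  have hk' : (4 * z : ℤ) ≤ k := by exact_mod_cast hk
  have hr' : ((z : ℤ) * j + 1) ^ 2 ≤ r * (24 * z) + 1 := by
    rw [hpj] at hr; exact_mod_cast hr
  have hz' : (0 : ℤ) < 24 * z := by positivity
  have : (49 * ((z : ℤ) * j + 1)) ≤ 60 * ((k : ℤ) + r) := by
    refine le_of_mul_le_mul_right ?_ hz'
    nlinarith [mul_nonneg (show (0 : ℤ) ≤ z by positivity) hint,
      mul_nonneg (show (0 : ℤ) ≤ (k : ℤ) - 4 * z by linarith) (show (0 : ℤ) ≤ z by positivity)]
  rw [hpj]
  exact_mod_cast this

/-- The numerical endgame for an irreducible module. -/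
theorem irred_end {H W : Type u} [Group H] [Finite H] [Group.IsSolvable H] [AddCommGroup W]
    [Finite W] [DistribMulAction H W] [FaithfulSMul H W] {p n : ℕ} (hp : p.Prime) (hp7 : 7 ≤ p)
    (hn : 2 ≤ n) (hirr : Irred H W) (hW : Nat.card W = p ^ n) {r : ℕ} (hr1 : 1 ≤ r)
    (hr : p ^ n ≤ r * Nat.card H + 1) :
    49 * p ≤ 60 * (Nat.card (ConjClasses H) + r) := by
  set k := Nat.card (ConjClasses H) with hkdef
  set h := Nat.card H with hhdef
  have hk0 : 0 < k := k_pos H
  rcases Nat.lt_or_ge p 11 with hp11 | hp11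
  · obtain rfl : p = 7 := by
      interval_cases p <;> first | rfl | norm_num at hp
    have h49 : 7 ^ 2 ≤ 7 ^ n := Nat.pow_le_pow_right (by norm_num) hn
    by_cases hk4 : k ≤ 4
    · have h12 : h ≤ 12 := card_le_twelve hk4
      have hle : r * h ≤ r * 12 := Nat.mul_le_mul_left _ h12
      rcases Nat.lt_or_ge k 2 with hk2 | hk2
      · have : h = 1 := card_of_k_le_one (by omega)
        rw [this, mul_one] at hr
        omega
      · omega
    · omega
  have hpn : ∀ {B : ℕ}, RB H 100 B → 100 * (p ^ n - 1) ≤ k * r * B := by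
    intro B hB
    calc 100 * (p ^ n - 1) ≤ 100 * (r * h) := Nat.mul_le_mul_left _ (by omega)
      _ = r * (100 * h) := by ring
      _ ≤ r * (B * k) := Nat.mul_le_mul_left _ hB
      _ = _ := by ring
  have hrb := rb_bound hp hp11 n H W (by omega) hirr hW
  rcases Nat.lt_or_ge n 4 with hn4 | hn4
  · interval_cases n
    · rcases two_case hp hirr hW with h594 | ⟨z, hz, hc, hk⟩
      · refine of_sq (B := 594) (q := 100 * (p ^ 2 - 1)) ?_ (hpn h594) (by norm_num)
        have : 11 ^ 2 ≤ p ^ 2 := Nat.pow_le_pow_left hp11 2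
        omega
      · rw [← hhdef] at hc
        rw [← hkdef] at hk
        have hz0 : 0 < z := by
          rcases Nat.eq_zero_or_pos z with rfl | hz'
          · have : 0 < h := Nat.card_pos
            omega
          · exact hz'
        rcases Nat.lt_or_ge z 2 with hz2 | hz2
        · -- `z = 1`
          obtain rfl : z = 1 := by omega
          rw [hc, mul_one] at hr
          have hp2 : 11 * p ≤ p ^ 2 := by rw [pow_two]; exact Nat.mul_le_mul_right _ hp11
          rcases Nat.lt_or_ge p 20 with hp20 | hp20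
          · interval_cases p <;> first | omega | (norm_num at hp)
          · have : 20 * p ≤ p ^ 2 := by rw [pow_two]; exact Nat.mul_le_mul_right _ hp20
            omega
        · exact octa_case hp hp11 hz hz2 hk (hc ▸ hr)
    · have hB : RB H 100 8100 := hrb
      rcases Nat.lt_or_ge p 17 with hp17 | hp17
      · have hq := hpn hB
        interval_cases p
        all_goals first
          | (have : 9 ≤ k + r := sqrt_case 9 (m := 17) (by omega) (by norm_num)
             omega)
          | (have : 11 ≤ k + r := sqrt_case 11 (m := 28) (by omega) (by norm_num)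
             omega)
          | (norm_num at hp)
      · refine of_sq (B := 8100) (q := 100 * (p ^ 3 - 1)) ?_ (hpn hB) (by norm_num)
        have h3 : 17 * p ^ 2 ≤ p ^ 3 := by
          rw [pow_succ' p 2]; exact Nat.mul_le_mul_right _ hp17
        have : 1 ≤ p ^ 2 := Nat.one_le_pow _ _ hp.pos
        omega
  · rw [bnd_ge_four hn4] at hrb
    refine of_sq (B := 599 * p ^ (n - 2)) (q := 100 * (p ^ n - 1)) ?_ (hpn hrb)
      (Nat.mul_pos (by norm_num) (pow_pos hp.pos _))
    have : 11 ^ 4 ≤ p ^ n :=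
      (Nat.pow_le_pow_left hp11 4).trans (Nat.pow_le_pow_right hp.pos hn4)
    calc 2401 * p ^ 2 * (599 * p ^ (n - 2)) = 2401 * 599 * (p ^ 2 * p ^ (n - 2)) := by ring
      _ = 2401 * 599 * p ^ n := by rw [← pow_add]; congr 2; omega
      _ ≤ _ := by omega

section Group

variable {G : Type u} [Group G] [Finite G]

/-- A normal subgroup commuting with a central section yields a larger normal `p`-subgroup. -/
theorem exists_larger_pGroup [Group.IsSolvable G] {p : ℕ} [Fact p.Prime] (Z C : Subgroup G)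
    [Z.Normal] [C.Normal] (hZC : Z ≤ C) (hcen : ∀ a ∈ Z, ∀ c ∈ C, a * c = c * a)
    (hab : ∀ A : Subgroup G, A.Normal → (∀ a ∈ A, ∀ b ∈ A, a * b = b * a) → IsPGroup p A)
    (hne : Z ≠ C) : ∃ L : Subgroup G, L.Normal ∧ Z < L ∧ L ≤ C ∧ IsPGroup p L := by
  classical
  have hex : ∃ m, C ⊓ derivedSeries G m ≤ Z := by
    obtain ⟨d, hd⟩ := (Group.isSolvable_def G).1 inferInstance
    exact ⟨d, by rw [hd, inf_bot_eq]; exact bot_le⟩
  have h0 : Nat.find hex ≠ 0 := fun h => hne (le_antisymm hZC (by
    have := Nat.find_spec hex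
    rwa [h, derivedSeries_zero, inf_top_eq] at this))
  obtain ⟨m, hm⟩ := Nat.exists_eq_succ_of_ne_zero h0
  have hnot := Nat.find_min hex (m := m) (by omega)
  have hsucc : C ⊓ derivedSeries G (m + 1) ≤ Z := by
    have := Nat.find_spec hex
    rwa [hm] at this
  haveI : (derivedSeries G m).Normal := derivedSeries_normal G m
  let T := C ⊓ derivedSeries G m
  haveI : T.Normal := inferInstance
  let L := T ⊔ Z
  haveI hLn : L.Normal := Subgroup.sup_normal _ _
  refine ⟨L, hLn, lt_of_le_of_ne le_sup_right fun e => hnot (le_sup_left.trans e.ge),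
    sup_le inf_le_left hZC, ?_⟩
  have hLC : L ≤ C := sup_le inf_le_left hZC
  have hcomm : ∀ x ∈ T, ∀ y ∈ T, ⁅x, y⁆ ∈ Z := fun x hx y hy => by
    refine hsucc (Subgroup.mem_inf.2 ⟨?_, ?_⟩)
    · rw [commutatorElement_def]
      exact mul_mem (mul_mem (mul_mem hx.1 hy.1) (inv_mem hx.1)) (inv_mem hy.1)
    · rw [derivedSeries_succ]
      exact Subgroup.commutator_mem_commutator hx.2 hy.2
  -- `L` is nilpotent
  let Z' : Subgroup L := Z.subgroupOf L
  have hZ' : Z' ≤ Subgroup.center L := fun a ha =>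
    Subgroup.mem_center_iff.2 fun x => Subtype.ext (hcen _ ha _ (hLC x.2)).symm
  have hLcomm : ∀ x y : L, ⁅x, y⁆ ∈ Z' := by
    intro x y
    obtain ⟨t, ht, a, ha, hx⟩ := Subgroup.mem_sup_of_normal_right.1 x.2
    obtain ⟨t', ht', a', ha', hy⟩ := Subgroup.mem_sup_of_normal_right.1 y.2
    show ⁅(x : G), (y : G)⁆ ∈ Z
    rw [← hx, ← hy]
    have c1 := hcen a ha _ (mul_mem ht'.1 (hZC ha'))
    have c2 := hcen a' ha' t ht.1
    have c3 := hcen a' ha' t⁻¹ (inv_mem ht.1)
    have e : ⁅t * a, t' * a'⁆ = ⁅t, t'⁆ := by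
      rw [commutatorElement_def, commutatorElement_def]
      calc t * a * (t' * a') * (t * a)⁻¹ * (t' * a')⁻¹
          = t * (a * (t' * a')) * a⁻¹ * t⁻¹ * (t' * a')⁻¹ := by group
        _ = t * ((t' * a') * a) * a⁻¹ * t⁻¹ * (t' * a')⁻¹ := by rw [c1]
        _ = t * t' * (a' * t⁻¹) * a'⁻¹ * t'⁻¹ := by group
        _ = t * t' * (t⁻¹ * a') * a'⁻¹ * t'⁻¹ := by rw [c3]
        _ = _ := by group
    rw [e]
    exact hcomm t ht t' ht'
  haveI hnil : Group.IsNilpotent L := by
    have hq : ∀ a b : L ⧸ Subgroup.center L, a * b = b * a := by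
      intro a b
      obtain ⟨x, rfl⟩ := QuotientGroup.mk_surjective a
      obtain ⟨y, rfl⟩ := QuotientGroup.mk_surjective b
      rw [← commutatorElement_eq_one_iff_mul_comm]
      show ((⁅x, y⁆ : L) : L ⧸ Subgroup.center L) = 1
      exact (QuotientGroup.eq_one_iff _).2 (hZ' (hLcomm x y))
    letI : CommGroup (L ⧸ Subgroup.center L) := { (inferInstance : Group _) with mul_comm := hq }
    exact Group.of_quotient_center_nilpotent inferInstance
  -- only `p`-parts
  refine IsPGroup.iff_card.2 ?_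
  by_contra hnp
  obtain ⟨q, hq, hqd, hqp⟩ : ∃ q : ℕ, q.Prime ∧ q ∣ Nat.card L ∧ q ≠ p := by
    by_contra hall
    push Not at hall
    exact hnp ⟨_, Nat.eq_prime_pow_of_unique_prime_dvd Nat.card_pos.ne'
      (fun {d} hd hdd => hall d hd hdd)⟩
  haveI := Fact.mk hq
  obtain ⟨Q⟩ : Nonempty (Sylow q L) := inferInstance
  have hQn : (Q : Subgroup L).Normal := inferInstance
  haveI : (Q : Subgroup L).Characteristic := Q.characteristic_of_normal hQn
  let A := ((Subgroup.center (Q : Subgroup L)).map (Q : Subgroup L).subtype).map L.subtype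
  have hQn' : ((Q : Subgroup L).map L.subtype).Normal := inferInstance
  haveI : ((Subgroup.center (Q : Subgroup L)).map (Q : Subgroup L).subtype).Characteristic := by
    infer_instance
  have hAn : A.Normal := inferInstance
  have hAab : ∀ a ∈ A, ∀ b ∈ A, a * b = b * a := by
    rintro _ ⟨_, ⟨a, ha, rfl⟩, rfl⟩ _ ⟨_, ⟨b, -, rfl⟩, rfl⟩
    exact congrArg (fun x : (Q : Subgroup L) => ((x : L) : G)) (Subgroup.mem_center_iff.1 ha b).symm
  haveI : Nontrivial (Q : Subgroup L) := by
    refine (Subgroup.nontrivial_iff_ne_bot _).2 fun e => ?_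
    have := Q.dvd_card_of_dvd_card hqd
    rw [e, Subgroup.card_bot] at this
    exact hq.one_lt.ne' (Nat.dvd_one.1 this)
  haveI := Q.isPGroup'.center_nontrivial
  obtain ⟨c, hc⟩ := exists_ne (1 : Subgroup.center (Q : Subgroup L))
  have hp1 := hab A hAn hAab
  obtain ⟨i, hi⟩ := hp1 ⟨(((c : (Q : Subgroup L)) : L) : G),
    _, ⟨(c : (Q : Subgroup L)), c.2, rfl⟩, rfl⟩
  obtain ⟨j, hj⟩ := Q.isPGroup' (c : (Q : Subgroup L))
  have hi' : (c : (Q : Subgroup L)) ^ p ^ i = 1 :=
    Subtype.ext (Subtype.ext (by simpa using congrArg Subtype.val hi))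
  have h1 := pow_gcd_eq_one.2 ⟨hi', hj⟩
  rw [Nat.coprime_iff_gcd_eq_one.1 (Nat.Coprime.pow i j
    ((Nat.coprime_primes Fact.out hq).2 (Ne.symm hqp))), pow_one] at h1
  exact hc (Subtype.ext h1)

/-- An equivariant projection gives a normal subgroup of order `p`. -/
theorem exists_normal_complement {p : ℕ} [Fact p.Prime] (L N : Subgroup G) [L.Normal] [N.Normal]
    (hNL : N ≤ L) (hLab : ∀ a ∈ L, ∀ b ∈ L, a * b = b * a) (hexp : ∀ a ∈ L, a ^ p = 1)
    (hcard : Nat.card L = Nat.card N * p) (hcop : ¬ p ∣ L.index) :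
    ∃ M : Subgroup G, M.Normal ∧ Nat.card M = p := by
  classical
  letI : CommGroup L := { (inferInstance : Group L) with
    mul_comm := fun a b => Subtype.ext (hLab _ a.2 _ b.2) }
  let N' : Subgroup L := N.subgroupOf L
  have hN' : Nat.card N' = Nat.card N := Nat.card_congr (Subgroup.subgroupOfEquivOfLe hNL).toEquiv
  have hN'top : N' ≠ ⊤ := fun e => by
    rw [e, Subgroup.card_top, hcard] at hN'
    have := (Fact.out : p.Prime).two_le
    have : 0 < Nat.card N := Nat.card_pos
    nlinarith
  obtain ⟨x, -, hx⟩ := SetLike.exists_of_lt (lt_top_iff_ne_top.2 hN'top)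
  have hxp : orderOf x = p := orderOf_eq_prime (Subtype.ext (hexp _ x.2))
    (fun e => hx (e ▸ one_mem _))
  let X : Subgroup L := Subgroup.zpowers x
  have hdisj : Disjoint N' X := by
    rw [disjoint_iff, Subgroup.eq_bot_iff_forall]
    intro y hy
    by_contra hy1
    have hzy : Subgroup.zpowers y = X := by
      refine Subgroup.eq_of_le_of_card_ge (Subgroup.zpowers_le.2 hy.2) ?_
      rw [Nat.card_zpowers, Nat.card_zpowers, hxp, orderOf_eq_prime (Subtype.ext (hexp _ y.2)) hy1]
    exact hx ((Subgroup.zpowers_le.2 hy.1) (hzy ▸ Subgroup.mem_zpowers x))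
  obtain ⟨π₀, hπ₀N, hπ₀⟩ : ∃ π₀ : L →* L, (∀ y, π₀ y ∈ N') ∧ ∀ y ∈ N', π₀ y = y := by
    let e : N' × X →* L := N'.subtype.coprod X.subtype
    have he : Function.Bijective e := by
      refine (Nat.bijective_iff_injective_and_card e).2 ⟨?_, ?_⟩
      · rintro ⟨a, b⟩ ⟨a', b'⟩ h
        exact Subgroup.mul_injective_of_disjoint hdisj (a₁ := (a, b)) (a₂ := (a', b')) h
      · rw [Nat.card_prod, hN', Nat.card_zpowers, hxp, hcard]
    let ee := MulEquiv.ofBijective e he
    refine ⟨(N'.subtype.comp (MonoidHom.fst N' X)).comp ee.symm.toMonoidHom,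
      fun y => ((ee.symm y).1).2, fun y hy => ?_⟩
    have : ee.symm y = (⟨y, hy⟩, 1) := ee.symm_apply_eq.2 (by
      show y = N'.subtype ⟨y, hy⟩ * X.subtype 1
      simp)
    show N'.subtype (ee.symm y).1 = y
    rw [this]
    rfl
  haveI := Fintype.ofFinite (G ⧸ L)
  let c : G → (L →* L) := fun g => (MulAut.conjNormal g : MulAut L).toMonoidHom
  have hc : ∀ (g : G) (y : L), ((c g y : L) : G) = g * y * g⁻¹ := fun g y => MulAut.conjNormal_apply g y
  have hcmul : ∀ g h y, c (g * h) y = c g (c h y) := fun g h y => Subtype.ext (by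
    simp only [hc]; group)
  have hcL : ∀ (l : G), l ∈ L → ∀ y, c l y = y := fun l hl y => Subtype.ext (by
    rw [hc, hLab l hl _ y.2, mul_inv_cancel_right])
  let π : L →* L := ∏ q : G ⧸ L, (c q.out).comp (π₀.comp (c q.out⁻¹))
  have hπapply : ∀ y, π y = ∏ q : G ⧸ L, c q.out (π₀ (c q.out⁻¹ y)) := fun y => by
    rw [MonoidHom.finsetProd_apply]; rfl
  have hπN : ∀ y, π y ∈ N' := fun y => by
    rw [hπapply]
    refine Subgroup.prod_mem _ fun q _ => ?_
    show ((c q.out (π₀ _) : L) : G) ∈ N
    rw [hc]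
    exact ‹N.Normal›.conj_mem _ (hπ₀N _) _
  have hπid : ∀ y ∈ N', π y = y ^ Nat.card (G ⧸ L) := fun y hy => by
    rw [hπapply, Finset.prod_congr rfl (fun q _ => ?_), Finset.prod_const, Finset.card_univ,
      ← Nat.card_eq_fintype_card]
    rw [hπ₀ _ (by show ((c q.out⁻¹ y : L) : G) ∈ N; rw [hc]; exact ‹N.Normal›.conj_mem _ hy _),
      ← hcmul, mul_inv_cancel]
    exact hcL 1 (one_mem _) y
  have hequi : ∀ g y, π (c g y) = c g (π y) := by
    intro g y
    rw [hπapply, hπapply, map_prod]
    refine (Fintype.prod_equiv (MulAction.toPerm g) _ _ fun q => ?_).symm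
    show c g (c q.out (π₀ (c q.out⁻¹ y))) = c (g • q).out (π₀ (c (g • q).out⁻¹ (c g y)))
    obtain ⟨l, hl⟩ : ∃ l ∈ L, (g • q).out = g * q.out * l := by
      refine ⟨(g * q.out)⁻¹ * (g • q).out, QuotientGroup.eq.1 ?_, by group⟩
      rw [QuotientGroup.out_eq']
      conv_rhs => rw [← QuotientGroup.out_eq' q]
      rfl
    obtain ⟨hlL, hl⟩ := hl
    rw [hl, mul_inv_rev, mul_inv_rev, hcmul (g * q.out) l, hcL l hlL, hcmul g q.out,
      hcmul l⁻¹, hcL l⁻¹ (inv_mem hlL), ← hcmul (q.out⁻¹ * g⁻¹) g, inv_mul_cancel_right]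
  have hrange : Nat.card π.range = Nat.card N := by
    rw [← hN']
    have : π.range = N' := by
      refine le_antisymm (by rintro _ ⟨y, rfl⟩; exact hπN y) fun y hy => ?_
      have hsur : Function.Surjective fun z : N' => (⟨π z, hπN z⟩ : N') := by
        refine Finite.injective_iff_surjective.1 fun a b hab => ?_
        have h1 : π (a : L) = π (b : L) := congrArg Subtype.val hab
        rw [hπid _ a.2, hπid _ b.2] at h1
        have h2 : ((a : L) * (b : L)⁻¹) ^ Nat.card (G ⧸ L) = 1 := by
          rw [mul_pow, inv_pow, h1, mul_inv_cancel]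
        have h3 : ((a : L) * (b : L)⁻¹) ^ p = 1 := Subtype.ext (hexp _ ((a : L) * (b : L)⁻¹).2)
        have h4 := pow_gcd_eq_one.2 ⟨h3, h2⟩
        rw [Nat.coprime_iff_gcd_eq_one.1 (((Fact.out : p.Prime).coprime_iff_not_dvd).2
          (by rwa [← Subgroup.index_eq_card])), pow_one] at h4
        exact Subtype.ext (mul_inv_eq_one.1 h4)
      obtain ⟨z, hz⟩ := hsur ⟨y, hy⟩
      exact ⟨z, congrArg Subtype.val hz⟩
    rw [this]
  refine ⟨π.ker.map L.subtype, ⟨fun a ha g => ?_⟩, ?_⟩
  · obtain ⟨y, hy, rfl⟩ := ha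
    refine ⟨c g y, MonoidHom.mem_ker.2 (by rw [hequi, MonoidHom.mem_ker.1 hy, map_one]), hc g y⟩
  · rw [Subgroup.card_map_of_injective L.subtype_injective]
    have h := π.ker.card_mul_index
    rw [Subgroup.index_ker, hrange, hcard, mul_comm (Nat.card N)] at h
    exact Nat.eq_of_mul_eq_mul_right Nat.card_pos h

/-- Conjugation commutators centralise a cyclic normal subgroup of prime order. -/
theorem comm_central_of_prime {p : ℕ} [Fact p.Prime] (N : Subgroup G) [N.Normal]
    (hN : Nat.card N = p) (a b : G) {x : G} (hx : x ∈ N) : ⁅a, b⁆ * x = x * ⁅a, b⁆ := by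
  haveI := isCyclic_of_prime_card hN
  obtain ⟨g, hg⟩ := IsCyclic.exists_generator (α := N)
  let φ : G →* MulAut N := MulAut.conjNormal
  have hpow : ∀ (σ : MulAut N), ∃ i : ℤ, ∀ y, σ y = y ^ i := fun σ => by
    obtain ⟨i, hi⟩ := hg (σ g)
    refine ⟨i, fun y => ?_⟩
    obtain ⟨j, rfl⟩ := hg y
    simp only at hi ⊢
    rw [map_zpow, ← hi, ← zpow_mul, ← zpow_mul, mul_comm]
  have hcomm : ∀ σ τ : MulAut N, σ * τ = τ * σ := fun σ τ => by
    obtain ⟨i, hi⟩ := hpow σ
    obtain ⟨j, hj⟩ := hpow τ
    refine MulEquiv.ext fun y => ?_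
    rw [MulAut.mul_apply, MulAut.mul_apply, hi, hj, hj, hi, ← zpow_mul, ← zpow_mul, mul_comm]
  have h1 : φ ⁅a, b⁆ = 1 := by
    rw [map_commutatorElement]
    exact commutatorElement_eq_one_iff_mul_comm.2 (hcomm _ _)
  have h2 : ⁅a, b⁆ * x * ⁅a, b⁆⁻¹ = x := by
    have := congrArg (fun σ : MulAut N => ((σ ⟨x, hx⟩ : N) : G)) h1
    simp only [φ, MulAut.conjNormal_apply, MulAut.one_apply] at this
    exact this
  exact mul_inv_eq_iff_eq_mul.1 h2

end Group

/-- The class number bound for a prime at least seven. -/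
theorem class_bound_aux {p : ℕ} (hp : p.Prime) (hp7 : 7 ≤ p) : ∀ (m : ℕ) (G : Type u) [Group G]
    [Finite G] [Group.IsSolvable G], Nat.card G = m → p ^ 2 ∣ Nat.card G →
    49 * p ≤ 60 * Nat.card (ConjClasses G) := by
  intro m
  induction m using Nat.strong_induction_on with
  | _ m IH =>
  intro G _ _ _ hm hdvd
  classical
  haveI := Fact.mk hp
  by_cases hex : ∃ N : Subgroup G, N.Normal ∧ N ≠ ⊥ ∧ p ^ 2 ∣ N.index
  · obtain ⟨N, hN, hN1, hd⟩ := hex
    haveI := hN
    rw [Subgroup.index_eq_card] at hd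
    have hlt : Nat.card (G ⧸ N) < m := by
      rw [← hm, Subgroup.card_eq_card_quotient_mul_card_subgroup N]
      exact lt_mul_of_one_lt_right Nat.card_pos ((Subgroup.one_lt_card_iff_ne_bot N).2 hN1)
    have := IH _ hlt (G ⧸ N) rfl hd
    have := k_quot_lt N hN1
    omega
  push Not at hex
  -- abelian normal subgroups are `p`-groups
  have hab : ∀ A : Subgroup G, A.Normal → (∀ a ∈ A, ∀ b ∈ A, a * b = b * a) → IsPGroup p A := by
    intro A hA hAab
    haveI := hA
    refine IsPGroup.iff_card.2 ⟨_, Nat.eq_prime_pow_of_unique_prime_dvd Nat.card_pos.ne'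
      fun {q} hq hqd => ?_⟩
    by_contra hqp
    haveI := Fact.mk hq
    let Q : Subgroup G :=
      { carrier := {x | x ∈ A ∧ x ^ q = 1}
        one_mem' := ⟨one_mem _, one_pow _⟩
        mul_mem' := fun {a b} ha hb => ⟨mul_mem ha.1 hb.1, by
          rw [(show Commute a b from hAab a ha.1 b hb.1).mul_pow, ha.2, hb.2, one_mul]⟩
        inv_mem' := fun {a} ha => ⟨inv_mem ha.1, by rw [inv_pow, ha.2, inv_one]⟩ }
    have hQn : Q.Normal := ⟨fun x hx g => ⟨hA.conj_mem x hx.1 g, by rw [conj_pow, hx.2]; group⟩⟩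
    obtain ⟨x, hx⟩ := exists_prime_orderOf_dvd_card' q hqd
    have hQ1 : Q ≠ ⊥ := fun e => by
      have hm : (x : G) ∈ Q := ⟨x.2, by
        have := pow_orderOf_eq_one x
        rw [hx] at this
        exact congrArg Subtype.val this⟩
      rw [e, Subgroup.mem_bot] at hm
      rw [show x = 1 from Subtype.ext hm, orderOf_one] at hx
      exact hq.one_lt.ne hx
    refine hex Q hQn hQ1 ((Nat.Coprime.dvd_mul_left ?_).1 (Q.card_mul_index.symm ▸ hdvd))
    have hQp : IsPGroup q Q := fun y => ⟨1, Subtype.ext (by rw [pow_one]; exact y.2.2)⟩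
    obtain ⟨j, hj⟩ := IsPGroup.iff_card.1 hQp
    rw [hj]
    exact Nat.Coprime.pow _ _ ((Nat.coprime_primes hp hq).2 (Ne.symm hqp))
  haveI : Nontrivial G := Finite.one_lt_card_iff_nontrivial.1 (by
    have := Nat.le_of_dvd Nat.card_pos hdvd
    have : 2 ^ 2 ≤ p ^ 2 := Nat.pow_le_pow_left hp.two_le 2
    omega)
  -- a normal subgroup of least order
  obtain ⟨N, ⟨hNn, hN1⟩, hmin⟩ := Set.exists_min_image {N : Subgroup G | N.Normal ∧ N ≠ ⊥}
    (fun N : Subgroup G => Nat.card N) (Set.toFinite _) ⟨⊤, inferInstance, top_ne_bot⟩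
  haveI := hNn
  have hminN : ∀ K : Subgroup G, K.Normal → K ≤ N → K = ⊥ ∨ K = N := fun K hK hKN =>
    or_iff_not_imp_left.2 fun h => Subgroup.eq_of_le_of_card_ge hKN (hmin K ⟨hK, h⟩)
  have hNab : ∀ a ∈ N, ∀ b ∈ N, a * b = b * a := by
    rcases hminN ⁅N, N⁆ inferInstance (Subgroup.commutator_le_self N) with h | h
    · intro a ha b hb
      have h2 := Subgroup.commutator_mem_commutator ha hb
      rw [h, Subgroup.mem_bot] at h2
      exact commutatorElement_eq_one_iff_mul_comm.1 h2
    · exfalso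
      obtain ⟨d, hd⟩ := (Group.isSolvable_def G).1 inferInstance
      have : ∀ i, N ≤ derivedSeries G i := by
        intro i
        induction i with
        | zero => rw [derivedSeries_zero]; exact le_top
        | succ i ih => rw [derivedSeries_succ, ← h]; exact Subgroup.commutator_mono ih ih
      exact hN1 (le_bot_iff.1 (hd ▸ this d))
  obtain ⟨n, hn⟩ := IsPGroup.iff_card.1 (hab N hNn hNab)
  have hn1 : 1 ≤ n := by
    rcases Nat.eq_zero_or_pos n with rfl | h
    · exact absurd (Subgroup.card_eq_one.1 (by rw [hn, pow_zero])) hN1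
    · exact h
  obtain ⟨r, hr1, hr2, hr3⟩ := k_abelian_normal N hNab
  haveI : (Subgroup.centralizer (N : Set G)).Normal := inferInstance
  set C := Subgroup.centralizer (N : Set G) with hC
  have hNC : N ≤ C := fun a ha => Subgroup.mem_centralizer_iff.2 fun b hb => hNab b hb a ha
  have hcenC : ∀ a ∈ N, ∀ c ∈ C, a * c = c * a := fun a ha c hc =>
    Subgroup.mem_centralizer_iff.1 hc a ha
  by_cases hCN : N = C
  · -- faithful irreducible quotient
    let φ₀ : G →* MulAut N := MulAut.conjNormal
    have hker : N ≤ φ₀.ker := fun a ha => MulEquiv.ext fun y => Subtype.ext (by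
      rw [MulAut.conjNormal_apply, hNab a ha _ y.2, mul_inv_cancel_right]; rfl)
    let φ : G ⧸ N →* MulAut N := QuotientGroup.lift N φ₀ hker
    have hφ : ∀ (g : G) (y : N), ((φ (g : G ⧸ N) y : N) : G) = g * y * g⁻¹ := fun g y =>
      MulAut.conjNormal_apply g y
    have hfaith : ∀ q : G ⧸ N, (∀ y, φ q y = y) → q = 1 := by
      intro q hq
      obtain ⟨g, rfl⟩ := QuotientGroup.mk_surjective q
      refine (QuotientGroup.eq_one_iff g).2 (hCN ▸ Subgroup.mem_centralizer_iff.2 fun a ha => ?_)
      have := congrArg Subtype.val (hq ⟨a, ha⟩)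
      rw [hφ] at this
      exact (mul_inv_eq_iff_eq_mul.1 this).symm
    rcases Nat.lt_or_ge n 2 with hn2 | hn2
    · exfalso
      obtain rfl : n = 1 := by omega
      rw [pow_one] at hn
      have hind : p ∣ N.index := by
        have h := hdvd
        rw [← N.card_mul_index, hn, pow_two] at h
        exact Nat.dvd_of_mul_dvd_mul_left hp.pos h
      rw [Subgroup.index_eq_card] at hind
      obtain ⟨q, hq⟩ := exists_prime_orderOf_dvd_card' p hind
      haveI := isCyclic_of_prime_card hn
      have hcardAut : Nat.card (MulAut N) = p - 1 := by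
        rw [IsCyclic.card_mulAut, hn, Nat.totient_prime hp]
      have h1 := orderOf_dvd_natCard (φ q)
      have hinj : Function.Injective φ := (injective_iff_map_eq_one φ).2 fun q hq =>
        hfaith q fun y => by rw [hq]; rfl
      rw [orderOf_injective φ hinj, hq, hcardAut] at h1
      have := Nat.le_of_dvd (by omega) h1
      omega
    · letI : CommGroup N := { (inferInstance : Group N) with
        mul_comm := fun a b => Subtype.ext (hNab _ a.2 _ b.2) }
      letI : DistribMulAction (G ⧸ N) (Additive N) :=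
        { smul := fun q y => Additive.ofMul (φ q (Additive.toMul y))
          one_smul := fun y => by
            show Additive.ofMul (φ 1 (Additive.toMul y)) = y
            rw [map_one]; rfl
          mul_smul := fun q q' y => by
            show Additive.ofMul (φ (q * q') (Additive.toMul y)) =
              Additive.ofMul (φ q (φ q' (Additive.toMul y)))
            rw [map_mul]; rfl
          smul_zero := fun q => congrArg Additive.ofMul (map_one (φ q))
          smul_add := fun q y y' =>
            congrArg Additive.ofMul (map_mul (φ q) (Additive.toMul y) (Additive.toMul y')) }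
      haveI : FaithfulSMul (G ⧸ N) (Additive N) := ⟨fun {q q'} h => by
        have := hfaith (q'⁻¹ * q) fun y => by
          have h2 : φ q y = φ q' y := congrArg Additive.toMul (h (Additive.ofMul y))
          rw [map_mul, MulAut.mul_apply, h2, ← MulAut.mul_apply, ← map_mul, inv_mul_cancel, map_one]
          rfl
        exact (inv_mul_eq_one.1 this).symm⟩
      have hirr : Irred (G ⧸ N) (Additive N) := by
        intro U hU
        let K : Subgroup G := (AddSubgroup.toSubgroup' U).map N.subtype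
        have hK : K.Normal := ⟨fun a ha g => by
          obtain ⟨y, hy, rfl⟩ := ha
          exact ⟨φ (g : G ⧸ N) y, hU (g : G ⧸ N) (Additive.ofMul y) hy, hφ g y⟩⟩
        rcases hminN K hK (by rintro _ ⟨y, -, rfl⟩; exact y.2) with h | h
        · refine Or.inl ((AddSubgroup.eq_bot_iff_forall U).2 fun y hy => ?_)
          have h2 : ((Additive.toMul y : N) : G) ∈ K := ⟨Additive.toMul y, hy, rfl⟩
          rw [h, Subgroup.mem_bot] at h2
          exact congrArg Additive.ofMul (Subtype.ext h2 : Additive.toMul y = 1)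
        · refine Or.inr (eq_top_iff.2 fun y _ => ?_)
          obtain ⟨z, hz, hzy⟩ : ((Additive.toMul y : N) : G) ∈ K := h.symm ▸ (Additive.toMul y).2
          have hz' : z = Additive.toMul y := Subtype.ext hzy
          rw [hz'] at hz
          exact hz
      have h := irred_end (H := G ⧸ N) (W := Additive N) hp hp7 hn2 hirr
        (by rw [Nat.card_congr Additive.toMul, hn]) (hr3 hN1)
        (by rw [← Subgroup.index_eq_card, ← hn]; exact hr2)
      omega
  -- a larger abelian Sylow subgroup
  obtain ⟨L, hLn, hNL, hLC, hLp⟩ := exists_larger_pGroup N C hNC hcenC hab hCN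
  haveI := hLn
  obtain ⟨e, he⟩ := IsPGroup.iff_card.1 hLp
  have hne : n < e := by
    have h1 : Nat.card N < Nat.card L := by
      refine lt_of_le_of_ne (Subgroup.card_le_of_le hNL.le) fun h => ?_
      exact hNL.ne (Subgroup.eq_of_le_of_card_ge hNL.le h.ge)
    rw [hn, he] at h1
    exact (Nat.pow_lt_pow_iff_right hp.one_lt).1 h1
  have hidxN : ¬ p ^ 2 ∣ N.index := hex N hNn hN1
  have hmulNL : N.index = N.relIndex L * L.index := (Subgroup.relIndex_mul_index hNL.le).symm
  have hrel : N.relIndex L = p ^ (e - n) := by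
    refine Nat.eq_of_mul_eq_mul_left (show 0 < Nat.card N from Nat.card_pos) ?_
    rw [show Nat.card N * N.relIndex L = Nat.card L by
      rw [Subgroup.relIndex, ← Nat.card_congr (Subgroup.subgroupOfEquivOfLe hNL.le).toEquiv,
        Subgroup.card_mul_index], he, hn, ← pow_add]
    congr 1; omega
  have hen : e = n + 1 := by
    by_contra h
    apply hidxN
    rw [hmulNL, hrel]
    exact (pow_dvd_pow p (by omega)).mul_right _
  subst hen
  have hLcop : ¬ p ∣ L.index := fun h => hidxN (by
    rw [hmulNL, hrel, Nat.add_sub_cancel_left, pow_one, pow_two]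
    exact Nat.mul_dvd_mul_left p h)
  have hLab : ∀ a ∈ L, ∀ b ∈ L, a * b = b * a := by
    intro a ha b hb
    haveI : IsCyclic (L ⧸ N.subgroupOf L) := by
      refine isCyclic_of_prime_card (p := p) ?_
      rw [← Subgroup.index_eq_card]
      show N.relIndex L = p
      rw [hrel, Nat.add_sub_cancel_left, pow_one]
    exact congrArg Subtype.val (commutative_of_cyclic_center_quotient
      (QuotientGroup.mk' (N.subgroupOf L)) (by
        rw [QuotientGroup.ker_mk']
        exact fun x hx => Subgroup.mem_center_iff.2 fun y =>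
          Subtype.ext (hcenC _ hx _ (hLC y.2)).symm) (⟨a, ha⟩ : L) ⟨b, hb⟩)
  rcases Nat.lt_or_ge n 2 with hn2 | hn2
  swap
  · exfalso
    have hexp : ∀ a ∈ L, a ^ p = 1 := by
      let Pw : Subgroup G :=
        { carrier := {y | ∃ a ∈ L, a ^ p = y}
          one_mem' := ⟨1, one_mem _, one_pow _⟩
          mul_mem' := by
            rintro _ _ ⟨a, ha, rfl⟩ ⟨b, hb, rfl⟩
            exact ⟨a * b, mul_mem ha hb, (show Commute a b from hLab a ha b hb).mul_pow p⟩
          inv_mem' := by
            rintro _ ⟨a, ha, rfl⟩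
            exact ⟨a⁻¹, inv_mem ha, inv_pow _ _⟩ }
      have hPn : Pw.Normal := ⟨fun y hy g => by
        obtain ⟨a, ha, rfl⟩ := hy
        exact ⟨g * a * g⁻¹, hLn.conj_mem a ha g, conj_pow⟩⟩
      by_contra hall
      push Not at hall
      obtain ⟨a, ha, hap⟩ := hall
      have hPne : Pw ≠ ⊥ := fun h => hap (by
        have : a ^ p ∈ Pw := ⟨a, ha, rfl⟩
        rwa [h, Subgroup.mem_bot] at this)
      -- the elements of `N` have exponent `p`
      have hNexp : ∀ y ∈ N, y ^ p = 1 := by
        let Q : Subgroup G :=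
          { carrier := {x | x ∈ N ∧ x ^ p = 1}
            one_mem' := ⟨one_mem _, one_pow _⟩
            mul_mem' := fun {a b} ha hb => ⟨mul_mem ha.1 hb.1, by
              rw [(show Commute a b from hNab a ha.1 b hb.1).mul_pow, ha.2, hb.2, one_mul]⟩
            inv_mem' := fun {a} ha => ⟨inv_mem ha.1, by rw [inv_pow, ha.2, inv_one]⟩ }
        have hQn : Q.Normal := ⟨fun x hx g => ⟨hNn.conj_mem x hx.1 g, by rw [conj_pow, hx.2]; group⟩⟩
        have hQ1 : Q ≠ ⊥ := fun h => by
          obtain ⟨x, hx⟩ := exists_prime_orderOf_dvd_card' p (G := N)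
            (by rw [hn]; exact dvd_pow_self p (by omega))
          have hm : (x : G) ∈ Q := ⟨x.2, by
            have := pow_orderOf_eq_one x
            rw [hx] at this
            exact congrArg Subtype.val this⟩
          rw [h, Subgroup.mem_bot] at hm
          rw [show x = 1 from Subtype.ext hm, orderOf_one] at hx
          exact hp.one_lt.ne hx
        intro y hy
        have := (hminN Q hQn fun x hx => hx.1).resolve_left hQ1
        exact (this.symm ▸ hy : y ∈ Q).2
      let f : L →* Pw :=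
        { toFun := fun y => ⟨(y : G) ^ p, (y : G), y.2, rfl⟩
          map_one' := Subtype.ext (one_pow _)
          map_mul' := fun y z => Subtype.ext
            ((show Commute (y : G) (z : G) from hLab _ y.2 _ z.2).mul_pow p) }
      have hfs : Function.Surjective f := by
        rintro ⟨_, y, hy, rfl⟩; exact ⟨⟨y, hy⟩, rfl⟩
      have hle : N.subgroupOf L ≤ f.ker := fun y hy => Subtype.ext (hNexp _ hy)
      have hcardP : Nat.card Pw ∣ p := by
        have h1 := Subgroup.index_dvd_of_le hle
        rw [Subgroup.index_ker, MonoidHom.range_eq_top.2 hfs, Subgroup.card_top] at h1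
        have h2 : (N.subgroupOf L).index = p := by
          show N.relIndex L = p
          rw [hrel, Nat.add_sub_cancel_left, pow_one]
        rwa [h2] at h1
      have h2 := hmin Pw ⟨hPn, hPne⟩
      rw [hn] at h2
      have h3 := Nat.le_of_dvd hp.pos hcardP
      have h4 : p ^ 2 ≤ p ^ n := Nat.pow_le_pow_right hp.pos hn2
      have h5 : p < p ^ 2 := by rw [pow_two]; exact lt_mul_of_one_lt_right hp.pos hp.one_lt
      omega
    obtain ⟨M, hMn, hM⟩ := exists_normal_complement L N hNL.le hLab hexp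
      (by rw [he, hn, pow_succ]) hLcop
    have h2 := hmin M ⟨hMn, fun h => by rw [h, Subgroup.card_bot] at hM; exact hp.one_lt.ne hM⟩
    rw [hn, hM] at h2
    have h4 : p ^ 2 ≤ p ^ n := Nat.pow_le_pow_right hp.pos hn2
    have h5 : p < p ^ 2 := by rw [pow_two]; exact lt_mul_of_one_lt_right hp.pos hp.one_lt
    omega
  obtain rfl : n = 1 := by omega
  rw [pow_one] at hn
  -- `L` is self-centralising of order `p ^ 2`
  haveI : (Subgroup.centralizer (L : Set G)).Normal := inferInstance
  have hCL : Subgroup.centralizer (L : Set G) = L := by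
    by_contra hne'
    obtain ⟨L', hL'n, hLL', -, hL'p⟩ := exists_larger_pGroup L (Subgroup.centralizer (L : Set G))
      (fun a ha => Subgroup.mem_centralizer_iff.2 fun b hb => hLab b hb a ha)
      (fun a ha c hc => Subgroup.mem_centralizer_iff.1 hc a ha) hab (Ne.symm hne')
    obtain ⟨j, hj⟩ := IsPGroup.iff_card.1 hL'p
    have h1 := Subgroup.relIndex_mul_index hLL'.le
    have h2 : Nat.card L * L.relIndex L' = Nat.card L' := by
      rw [Subgroup.relIndex, ← Nat.card_congr (Subgroup.subgroupOfEquivOfLe hLL'.le).toEquiv,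
        Subgroup.card_mul_index]
    have h3 : L.relIndex L' ≠ 1 := fun h => hLL'.not_ge (Subgroup.relIndex_eq_one.1 h)
    obtain ⟨i, -, hi⟩ := (Nat.dvd_prime_pow hp).1 (Dvd.intro_left _ h2 |>.trans hj.dvd)
    apply hLcop
    rw [← h1, hi]
    refine Dvd.dvd.mul_right (dvd_pow_self p fun h => h3 ?_) _
    rw [hi, h, pow_zero]
  have hHab : ∀ x y : G ⧸ L, x * y = y * x := by
    intro x y
    obtain ⟨a, rfl⟩ := QuotientGroup.mk_surjective x
    obtain ⟨b, rfl⟩ := QuotientGroup.mk_surjective y
    rw [← commutatorElement_eq_one_iff_mul_comm]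
    show ((⁅a, b⁆ : G) : G ⧸ L) = 1
    rw [QuotientGroup.eq_one_iff]
    set d := ⁅a, b⁆ with hd
    have hdN : ∀ y ∈ N, d * y = y * d := fun y hy => comm_central_of_prime N hn a b hy
    -- conjugation by `d` moves elements of `L` inside their cosets of `N`
    have hdL : ∀ y ∈ L, ∃ v ∈ N, d * y * d⁻¹ = y * v := by
      intro y hy
      haveI : (N.map (QuotientGroup.mk' N)).Normal := Subgroup.Normal.map hNn _ (QuotientGroup.mk'_surjective N)
      haveI : (L.map (QuotientGroup.mk' N)).Normal :=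
        Subgroup.Normal.map hLn _ (QuotientGroup.mk'_surjective N)
      have hLbar : Nat.card (L.map (QuotientGroup.mk' N)) = p := by
        have h := ((QuotientGroup.mk' N).comp L.subtype).ker.card_mul_index
        rw [Subgroup.index_ker, MonoidHom.range_comp, Subgroup.range_subtype, ← MonoidHom.comap_ker,
          QuotientGroup.ker_mk', he] at h
        rw [show Nat.card (N.comap L.subtype) = p from
          (Nat.card_congr (Subgroup.subgroupOfEquivOfLe hNL.le).toEquiv).trans hn] at h
        refine Nat.eq_of_mul_eq_mul_left hp.pos (h.trans ?_)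
        ring
      have h := comm_central_of_prime (L.map (QuotientGroup.mk' N)) hLbar (a : G ⧸ N) (b : G ⧸ N)
        (x := (y : G ⧸ N)) ⟨y, hy, rfl⟩
      have h' : ((d * y : G) : G ⧸ N) = ((y * d : G) : G ⧸ N) := h
      rw [QuotientGroup.eq] at h'
      have h'' := hNn.conj_mem _ h' d
      refine ⟨(y⁻¹ * (d * y * d⁻¹)), ?_, by group⟩
      convert inv_mem h'' using 1
      group
    have hdp : d ^ p ∈ L := by
      rw [← hCL]
      refine Subgroup.mem_centralizer_iff.2 fun y hy => ?_
      obtain ⟨v, hv, hdy⟩ := hdL y hy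
      have hiter : ∀ i : ℕ, d ^ i * y * (d ^ i)⁻¹ = y * v ^ i := by
        intro i
        induction i with
        | zero => simp
        | succ i ih =>
          have hdv : d * v ^ i * d⁻¹ = v ^ i := by
            rw [hdN _ (pow_mem hv i), mul_inv_cancel_right]
          calc d ^ (i + 1) * y * (d ^ (i + 1))⁻¹ = d * (d ^ i * y * (d ^ i)⁻¹) * d⁻¹ := by
                rw [pow_succ', mul_inv_rev]; group
            _ = (d * y * d⁻¹) * (d * v ^ i * d⁻¹) := by rw [ih]; group
            _ = y * (v * v ^ i) := by rw [hdy, hdv]; group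
            _ = _ := by rw [pow_succ']
      have hvp : v ^ p = 1 := by
        have := pow_card_eq_one' (G := N) (x := ⟨v, hv⟩)
        rw [hn] at this
        exact congrArg Subtype.val this
      have := hiter p
      rw [hvp, mul_one] at this
      exact (mul_inv_eq_iff_eq_mul.1 this).symm
    have h1 : ((d : G) : G ⧸ L) ^ p = 1 := by
      rw [← QuotientGroup.mk_pow]; exact (QuotientGroup.eq_one_iff _).2 hdp
    have h2 : ((d : G) : G ⧸ L) ^ Nat.card (G ⧸ L) = 1 := pow_card_eq_one'
    have h4 := pow_gcd_eq_one.2 ⟨h1, h2⟩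
    rw [Nat.coprime_iff_gcd_eq_one.1 (hp.coprime_iff_not_dvd.2
      (by rwa [← Subgroup.index_eq_card])), pow_one] at h4
    exact (QuotientGroup.eq_one_iff d).1 h4
  obtain ⟨r', hr1', hr2', hr3'⟩ := k_abelian_normal L hLab
  rw [k_comm hHab] at hr1'
  rw [he, Subgroup.index_eq_card, show 1 + 1 = 2 from rfl] at hr2'
  set h := Nat.card (G ⧸ L)
  have h1 : 1 ≤ r' := hr3' fun e => by rw [e] at hNL; exact not_lt_bot hNL
  have hmain : 49 * p ≤ 60 * (h + r') := by
    refine of_sq (B := 1) (q := p ^ 2 - 1) ?_ (by simp only [mul_one]; rw [mul_comm]; omega) one_pos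
    have : 7 ^ 2 ≤ p ^ 2 := Nat.pow_le_pow_left hp7 2
    omega
  omega

/-- A solvable group of order divisible by the square of a prime `p` has at least `49 p / 60`
classes. -/
theorem class_bound {G : Type u} [Group G] [Finite G] [Group.IsSolvable G] {p : ℕ} (hp : p.Prime)
    (hdvd : p ^ 2 ∣ Nat.card G) : 49 * p ≤ 60 * Nat.card (ConjClasses G) := by
  rcases Nat.lt_or_ge p 7 with h7 | h7
  · have hle := Nat.le_of_dvd Nat.card_pos hdvd
    have hk2 := card_of_k_le_two (G := G)
    have hk12 := card_le_twelve (G := G)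
    have := k_pos G
    have := hp.two_le
    interval_cases p
    · by_cases h : Nat.card (ConjClasses G) ≤ 2
      · have := hk2 h; omega
      · omega
    · by_cases h : Nat.card (ConjClasses G) ≤ 2
      · have := hk2 h; omega
      · omega
    · exact absurd hp (by norm_num)
    · by_cases h : Nat.card (ConjClasses G) ≤ 4
      · have := hk12 h; omega
      · omega
    · exact absurd hp (by norm_num)
  · exact class_bound_aux hp h7 _ G rfl hdvd

end Cfsg.Agent.KGBound86
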