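import Mathlib
import Cfsg.Prelude.Def_Solvable
import Cfsg.Agent.Lib.KGBound86Arith
import Cfsg.Agent.Lib.KGBound86Reduce
import Cfsg.Agent.Lib.ComponentsFitting

/-!
Classes of a solvable group and primes dividing the index of the Fitting subgroup.
-/

set_option autoImplicit false

namespace Cfsg.Agent.KGBound86

open Cfsg.Agent.OddBase75
open Cfsg.Agent.ComponentsCores (le_fitting)

universe u

section Tools

variable {G : Type u} [Group G] [Finite G]

/-- If `p` does not divide the Fitting index of `G ⧸ K` then the Sylow subgroup is normal modulo `K`. -/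
theorem sylow_sup_normal {p : ℕ} [Fact p.Prime] (K : Subgroup G) [K.Normal]
    (h : ¬ p ∣ (Cfsg.fittingSubgroup (G ⧸ K)).index) (P : Sylow p G) :
    ((P : Subgroup G) ⊔ K).Normal := by
  set F := Cfsg.fittingSubgroup (G ⧸ K)
  obtain ⟨Q⟩ : Nonempty (Sylow p F) := inferInstance
  have hQF : (Q : Subgroup F).Normal := inferInstance
  haveI : (Q : Subgroup F).Characteristic := Q.characteristic_of_normal hQF
  have hQn : ((Q : Subgroup F).map F.subtype).Normal := inferInstance
  have hQi : ¬ p ∣ ((Q : Subgroup F).map F.subtype).index := by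
    rw [Subgroup.index_map_subtype]
    exact fun hd => ((Fact.out : p.Prime).dvd_mul.1 hd).elim Q.not_dvd_index h
  let S₁ := (Q.isPGroup'.map F.subtype).toSylow hQi
  let S₂ := P.mapSurjective (QuotientGroup.mk'_surjective K)
  letI := Sylow.unique_of_normal S₁ hQn
  have e : S₂ = S₁ := Subsingleton.elim _ _
  have hn : ((P : Subgroup G).map (QuotientGroup.mk' K)).Normal := by
    rw [← Sylow.coe_mapSurjective (QuotientGroup.mk'_surjective K) P]
    change (S₂ : Subgroup (G ⧸ K)).Normal
    rw [e]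
    exact hQn
  have := hn.comap (QuotientGroup.mk' K)
  rwa [Subgroup.comap_map_eq, QuotientGroup.ker_mk'] at this

/-- Pairwise non-conjugate elements of a normal subgroup add to the classes of the quotient. -/
theorem k_support (A : Subgroup G) [A.Normal] (S : Finset G) (hSA : ∀ x ∈ S, x ∈ A)
    (h1 : ∀ x ∈ S, x ≠ 1) (hconj : ∀ x ∈ S, ∀ y ∈ S, IsConj x y → x = y) :
    Nat.card (ConjClasses (G ⧸ A)) + S.card ≤ Nat.card (ConjClasses G) := by
  classical
  haveI := Fintype.ofFinite (ConjClasses G)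
  haveI := Fintype.ofFinite (ConjClasses (G ⧸ A))
  let π := ConjClasses.map (QuotientGroup.mk' A)
  have hs : Function.Surjective π := ConjClasses.map_surjective (QuotientGroup.mk'_surjective A)
  let T : Finset (ConjClasses G) := S.image ConjClasses.mk
  have hT : T.card = S.card := Finset.card_image_of_injOn fun x hx y hy h =>
    hconj x hx y hy (ConjClasses.mk_eq_mk_iff_isConj.1 h)
  have hle : Fintype.card (ConjClasses (G ⧸ A)) ≤ (Finset.univ \ T).card := by
    rw [← Finset.card_univ]
    refine Finset.card_le_card_of_surjOn π fun d _ => ?_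
    obtain ⟨c, rfl⟩ := hs d
    by_cases h : c ∈ T
    · obtain ⟨x, hx, rfl⟩ := Finset.mem_image.1 h
      refine ⟨ConjClasses.mk 1, Finset.mem_coe.2 (Finset.mem_sdiff.2 ⟨Finset.mem_univ _,
        fun h' => ?_⟩), ?_⟩
      · obtain ⟨y, hy, hy1⟩ := Finset.mem_image.1 h'
        exact h1 y hy (isConj_one_left.1 (ConjClasses.mk_eq_mk_iff_isConj.1 hy1))
      · show ConjClasses.mk (QuotientGroup.mk' A 1) = ConjClasses.mk (QuotientGroup.mk' A x)
        rw [map_one, QuotientGroup.mk'_apply, (QuotientGroup.eq_one_iff x).2 (hSA x hx)]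
    · exact ⟨c, Finset.mem_coe.2 (Finset.mem_sdiff.2 ⟨Finset.mem_univ _, h⟩), rfl⟩
  have h2 := Finset.card_sdiff_add_card_eq_card (Finset.subset_univ T)
  rw [Finset.card_univ] at h2
  simp only [Nat.card_eq_fintype_card]
  omega

theorem small_prime [Group.IsSolvable G] {p : ℕ} (hp : p.Prime) (hp97 : p < 97)
    (hd : p ∣ Nat.card G) : p ≤ 3 * Nat.card (ConjClasses G) * Nat.log 2 p := by
  have hle : p ≤ Nat.card G := Nat.le_of_dvd Nat.card_pos hd
  have hk2 : 2 ≤ Nat.card (ConjClasses G) := by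
    by_contra h
    push Not at h
    have := card_of_k_le_one (G := G) (by omega)
    have := hp.two_le
    omega
  have hk5 : 13 ≤ p → 5 ≤ Nat.card (ConjClasses G) := fun h13 => by
    by_contra h
    push Not at h
    have := card_le_twelve (G := G) (by omega)
    omega
  have hlog : ∀ j, 2 ^ j ≤ p → j ≤ Nat.log 2 p := fun j hj => Nat.le_log_of_pow_le (by norm_num) hj
  have h2 := hp.two_le
  rcases Nat.lt_or_ge p 13 with h | h
  · interval_cases p <;> first
      | (have : 1 ≤ Nat.log 2 2 := hlog 1 (by norm_num); nlinarith)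
      | (have : 1 ≤ Nat.log 2 3 := hlog 1 (by norm_num); nlinarith)
      | (have : 2 ≤ Nat.log 2 5 := hlog 2 (by norm_num); nlinarith)
      | (have : 2 ≤ Nat.log 2 7 := hlog 2 (by norm_num); nlinarith)
      | (have : 3 ≤ Nat.log 2 11 := hlog 3 (by norm_num); nlinarith)
      | (norm_num at hp)
  · have h5 := hk5 h
    rcases Nat.lt_or_ge p 32 with h32 | h32
    · have := hlog 3 (by omega)
      nlinarith
    rcases Nat.lt_or_ge p 64 with h64 | h64
    · have := hlog 5 (by omega)
      nlinarith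
    · have := hlog 6 (by omega)
      have : 3 * 5 * 6 ≤ 3 * Nat.card (ConjClasses G) * Nat.log 2 p :=
        Nat.mul_le_mul (Nat.mul_le_mul_left 3 h5) this
      have : p ≠ 91 := fun e => by subst e; norm_num at hp
      have : p ≠ 92 := fun e => by subst e; norm_num at hp
      have : p ≠ 93 := fun e => by subst e; norm_num at hp
      have : p ≠ 94 := fun e => by subst e; norm_num at hp
      have : p ≠ 95 := fun e => by subst e; norm_num at hp
      have : p ≠ 96 := fun e => by subst e; norm_num at hp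
      omega

end Tools

/-- A prime dividing the Fitting index gives `p / (3 log₂ p)` classes. -/
theorem fit_bound_aux {p : ℕ} (hp : p.Prime) : ∀ (m : ℕ) (G : Type u) [Group G] [Finite G]
    [Group.IsSolvable G], Nat.card G = m → p ∣ (Cfsg.fittingSubgroup G).index →
    p ≤ 3 * Nat.card (ConjClasses G) * Nat.log 2 p := by
  intro m
  induction m using Nat.strong_induction_on with
  | _ m IH =>
  intro G _ _ _ hm hdvd
  classical
  haveI := Fact.mk hp
  have hpG : p ∣ Nat.card G := hdvd.trans (Subgroup.index_dvd_card _)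
  rcases Nat.lt_or_ge p 97 with hp97 | hp97
  · exact small_prime hp hp97 hpG
  by_cases hex : ∃ (N : Subgroup G) (_hN : N.Normal),
      N ≠ ⊥ ∧ p ∣ (Cfsg.fittingSubgroup (G ⧸ N)).index
  · obtain ⟨N, hN, hN1, hd⟩ := hex
    haveI := hN
    have hlt : Nat.card (G ⧸ N) < m := by
      rw [← hm, Subgroup.card_eq_card_quotient_mul_card_subgroup N]
      exact lt_mul_of_one_lt_right Nat.card_pos ((Subgroup.one_lt_card_iff_ne_bot N).2 hN1)
    refine (IH _ hlt (G ⧸ N) rfl hd).trans (Nat.mul_le_mul_right _ (Nat.mul_le_mul_left _ ?_))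
    exact Nat.le_of_lt (k_quot_lt N hN1)
  push Not at hex
  obtain ⟨P⟩ : Nonempty (Sylow p G) := inferInstance
  have hPF : ¬ (P : Subgroup G) ≤ Cfsg.fittingSubgroup G := fun h =>
    P.not_dvd_index (hdvd.trans (Subgroup.index_dvd_of_le h))
  haveI : Nontrivial G := Finite.one_lt_card_iff_nontrivial.1 (by
    have := Nat.le_of_dvd Nat.card_pos hpG
    omega)
  -- a normal subgroup of least order
  obtain ⟨N, ⟨hNn, hN1⟩, hmin⟩ := Set.exists_min_image {N : Subgroup G | N.Normal ∧ N ≠ ⊥}
    (fun N : Subgroup G => Nat.card N) (Set.toFinite _) ⟨⊤, inferInstance, top_ne_bot⟩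
  haveI := hNn
  have hminN : ∀ K : Subgroup G, K.Normal → K ≤ N → K = ⊥ ∨ K = N := fun K hK hKN =>
    or_iff_not_imp_left.2 fun h => Subgroup.eq_of_le_of_card_ge hKN (hmin K ⟨hK, h⟩)
  have hNab : ∀ a ∈ N, ∀ b ∈ N, a * b = b * a := by
    rcases hminN ⁅N, N⁆ inferInstance (Subgroup.commutator_le_self N) with h | h
    · intro a ha b hb
      have h2 := Subgroup.commutator_mem_commutator ha hb
      rw [h, Subgroup.mem_bot] at h2
      exact commutatorElement_eq_one_iff_mul_comm.1 h2
    · exfalso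
      obtain ⟨d, hd⟩ := (Group.isSolvable_def G).1 inferInstance
      have : ∀ i, N ≤ derivedSeries G i := by
        intro i
        induction i with
        | zero => rw [derivedSeries_zero]; exact le_top
        | succ i ih => rw [derivedSeries_succ, ← h]; exact Subgroup.commutator_mono ih ih
      exact hN1 (le_bot_iff.1 (hd ▸ this d))
  obtain ⟨r, hr, hrd⟩ := Nat.exists_prime_and_dvd (fun e => hN1 (Subgroup.card_eq_one.1 e) :
    Nat.card N ≠ 1)
  haveI := Fact.mk hr
  have hNexp : ∀ a ∈ N, a ^ r = 1 := by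
    let Q : Subgroup G :=
      { carrier := {x | x ∈ N ∧ x ^ r = 1}
        one_mem' := ⟨one_mem _, one_pow _⟩
        mul_mem' := fun {a b} ha hb => ⟨mul_mem ha.1 hb.1, by
          rw [(show Commute a b from hNab a ha.1 b hb.1).mul_pow, ha.2, hb.2, one_mul]⟩
        inv_mem' := fun {a} ha => ⟨inv_mem ha.1, by rw [inv_pow, ha.2, inv_one]⟩ }
    have hQn : Q.Normal := ⟨fun x hx g => ⟨hNn.conj_mem x hx.1 g, by rw [conj_pow, hx.2]; group⟩⟩
    obtain ⟨x, hx⟩ := exists_prime_orderOf_dvd_card' r hrd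
    rcases hminN Q hQn (fun y hy => hy.1) with h | h
    · exfalso
      have hm : (x : G) ∈ Q := ⟨x.2, by
        have := pow_orderOf_eq_one x
        rw [hx] at this
        exact congrArg Subtype.val this⟩
      rw [h, Subgroup.mem_bot] at hm
      rw [show x = 1 from Subtype.ext hm, orderOf_one] at hx
      exact hr.one_lt.ne hx
    · exact fun a ha => (h.symm ▸ ha : a ∈ Q).2
  have hNr : IsPGroup r N := fun a => ⟨1, Subtype.ext (by rw [pow_one]; exact hNexp _ a.2)⟩
  have hMn : ((P : Subgroup G) ⊔ N).Normal := sylow_sup_normal N (hex N hNn hN1) P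
  haveI := hMn
  have hrp : p ≠ r := fun e => by
    subst e
    exact hPF (le_sup_left.trans
      (le_fitting (P.isPGroup'.to_sup_of_normal_right hNr).isNilpotent))
  have hPN : Disjoint (P : Subgroup G) N := IsPGroup.disjoint_of_ne p r hrp _ _ P.isPGroup' hNr
  -- a complement
  set H := Subgroup.normalizer ((P : Subgroup G) : Set G) with hH
  have hPH : (P : Subgroup G) ≤ H := Subgroup.le_normalizer
  have hHN : H ⊔ N = ⊤ := by
    have h : H ⊔ ((P : Subgroup G) ⊔ N) = ⊤ := Sylow.normalizer_sup_eq_top' P le_sup_left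
    rwa [← sup_assoc, sup_eq_left.2 hPH] at h
  have hdec : ∀ g : G, ∃ h ∈ H, ∃ a ∈ N, h * a = g := fun g =>
    Subgroup.mem_sup_of_normal_right.1 (hHN ▸ Subgroup.mem_top g)
  have hnormal : ∀ K : Subgroup G, (∀ h ∈ H, ∀ x ∈ K, h * x * h⁻¹ ∈ K) →
      (∀ a ∈ N, ∀ x ∈ K, a * x * a⁻¹ ∈ K) → K.Normal := fun K h1 h2 => ⟨fun x hx g => by
    obtain ⟨h, hh, a, ha, rfl⟩ := hdec g
    have e : h * a * x * (h * a)⁻¹ = h * (a * x * a⁻¹) * h⁻¹ := by group
    rw [e]
    exact h1 h hh _ (h2 a ha x hx)⟩
  have hNH : N ⊓ H = ⊥ := by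
    have hn : (N ⊓ H).Normal := hnormal _
      (fun h hh x hx => Subgroup.mem_inf.2
        ⟨hNn.conj_mem x hx.1 h, H.mul_mem (H.mul_mem hh hx.2) (H.inv_mem hh)⟩)
      (fun a ha x hx => by rw [hNab a ha x hx.1, mul_inv_cancel_right]; exact hx)
    rcases hminN _ hn inf_le_left with h | h
    · exact h
    · exfalso
      have hle : N ≤ H := inf_eq_left.1 h
      rw [sup_eq_left.2 hle] at hHN
      haveI : (P : Subgroup G).Normal := Subgroup.normalizer_eq_top_iff.1 hHN
      exact hPF (le_fitting P.isPGroup'.isNilpotent)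
  set C := Subgroup.centralizer (N : Set G) with hC
  haveI : C.Normal := inferInstanceAs (Subgroup.centralizer (N : Set G)).Normal
  have hcenC : ∀ a ∈ N, ∀ c ∈ C, a * c = c * a := fun a ha c hc =>
    Subgroup.mem_centralizer_iff.1 hc a ha
  have hKn : (C ⊓ H).Normal := hnormal _
    (fun h hh x hx => Subgroup.mem_inf.2 ⟨(inferInstance : C.Normal).conj_mem x hx.1 h,
      H.mul_mem (H.mul_mem hh hx.2) (H.inv_mem hh)⟩)
    (fun a ha x hx => by rw [hcenC a ha x hx.1, mul_inv_cancel_right]; exact hx)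
  have hCH : C ⊓ H = ⊥ := by
    by_contra hne
    haveI := hKn
    have hPK : ((P : Subgroup G) ⊔ (C ⊓ H)).Normal :=
      sylow_sup_normal _ (hex _ hKn hne) P
    have hle : (P : Subgroup G) ⊔ (C ⊓ H) ≤ H := sup_le hPH inf_le_right
    have hNH' : N ≤ H := Subgroup.le_normalizer_iff.2 fun a ha x hx => by
      have h1 : a * x * a⁻¹ * x⁻¹ ∈ N := by
        have : x * a⁻¹ * x⁻¹ ∈ N := hNn.conj_mem _ (inv_mem ha) x
        have := mul_mem ha this
        simpa [mul_assoc] using this
      have h2 : a * x * a⁻¹ * x⁻¹ ∈ H := hle (mul_mem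
        (hPK.conj_mem x (le_sup_left (b := C ⊓ H) hx) a)
        (inv_mem (le_sup_left (b := C ⊓ H) hx)))
      have h3 : a * x * a⁻¹ * x⁻¹ = 1 := by
        rw [← Subgroup.mem_bot, ← hNH]
        exact ⟨h1, h2⟩
      rw [mul_inv_eq_one.1 h3]
      exact hx
    rw [inf_eq_left.2 hNH'] at hNH
    exact hN1 hNH
  have hCN : C = N := by
    refine le_antisymm (fun c hc => ?_) fun a ha =>
      Subgroup.mem_centralizer_iff.2 fun b hb => hNab b hb a ha
    obtain ⟨h, hh, a, ha, rfl⟩ := hdec c
    have haC : a ∈ C := Subgroup.mem_centralizer_iff.2 fun b hb => hNab b hb a ha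
    have : h ∈ C ⊓ H := ⟨(C.mul_mem_cancel_right haC).1 hc, hh⟩
    rw [hCH, Subgroup.mem_bot] at this
    rw [this, one_mul]
    exact ha
  -- a normal elementary abelian `p`-subgroup of the quotient
  let π := QuotientGroup.mk' N
  set Pb := (P : Subgroup G).map π with hPb
  haveI hPbn : Pb.Normal := by
    have h := hMn.map π (QuotientGroup.mk'_surjective N)
    rwa [Subgroup.map_sup, QuotientGroup.map_mk'_self, sup_bot_eq] at h
  have hPbp : IsPGroup p Pb := P.isPGroup'.map π
  haveI : Nontrivial Pb := by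
    refine (Subgroup.nontrivial_iff_ne_bot _).2 fun e => ?_
    have hle : (P : Subgroup G) ≤ N := by
      intro x hx
      have : π x ∈ Pb := Subgroup.mem_map_of_mem π hx
      rw [e, Subgroup.mem_bot] at this
      exact (QuotientGroup.eq_one_iff x).1 this
    have hbot : (P : Subgroup G) = ⊥ := hPN.eq_bot_of_le hle
    have := P.dvd_card_of_dvd_card hpG
    rw [hbot, Subgroup.card_bot] at this
    exact hp.one_lt.ne' (Nat.dvd_one.1 this)
  let A := (Subgroup.center Pb).map Pb.subtype
  have hAn : A.Normal := inferInstance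
  have hAab : ∀ a ∈ A, ∀ b ∈ A, a * b = b * a := by
    rintro _ ⟨a, ha, rfl⟩ _ ⟨b, -, rfl⟩
    exact congrArg (fun x : Pb => (x : G ⧸ N)) (Subgroup.mem_center_iff.1 ha b).symm
  let Z : Subgroup (G ⧸ N) :=
    { carrier := {x | x ∈ A ∧ x ^ p = 1}
      one_mem' := ⟨one_mem _, one_pow _⟩
      mul_mem' := fun {a b} ha hb => ⟨mul_mem ha.1 hb.1, by
        rw [(show Commute a b from hAab a ha.1 b hb.1).mul_pow, ha.2, hb.2, one_mul]⟩
      inv_mem' := fun {a} ha => ⟨inv_mem ha.1, by rw [inv_pow, ha.2, inv_one]⟩ }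
  haveI hZn : Z.Normal := ⟨fun x hx g => ⟨hAn.conj_mem x hx.1 g, by rw [conj_pow, hx.2]; group⟩⟩
  have hZab : ∀ a ∈ Z, ∀ b ∈ Z, a * b = b * a := fun a ha b hb => hAab a ha.1 b hb.1
  have hZp : IsPGroup p Z := fun y => ⟨1, Subtype.ext (by rw [pow_one]; exact y.2.2)⟩
  obtain ⟨a, hZcard⟩ := IsPGroup.iff_card.1 hZp
  have ha1 : 1 ≤ a := by
    haveI := hPbp.center_nontrivial
    obtain ⟨j, hj0, hj⟩ := (hPbp.to_subgroup (Subgroup.center Pb)).nontrivial_iff_card.1 ‹_›
    obtain ⟨c, hc⟩ := exists_prime_orderOf_dvd_card' p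
      (G := Subgroup.center Pb) (hj ▸ dvd_pow_self p hj0.ne')
    rcases Nat.eq_zero_or_pos a with h0 | h0
    · exfalso
      rw [h0, pow_zero, Subgroup.card_eq_one] at hZcard
      have hcZ : ((c : Pb) : G ⧸ N) ∈ Z := ⟨⟨(c : Pb), c.2, rfl⟩, by
        have := pow_orderOf_eq_one c
        rw [hc] at this
        exact congrArg (fun x : Subgroup.center Pb => ((x : Pb) : G ⧸ N)) this⟩
      rw [hZcard, Subgroup.mem_bot] at hcZ
      rw [show c = 1 from Subtype.ext (Subtype.ext hcZ), orderOf_one] at hc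
      exact hp.one_lt.ne hc
    · exact h0
  -- faithful irreducible action
  let φ₀ : G →* MulAut N := MulAut.conjNormal
  have hker : N ≤ φ₀.ker := fun a ha => MulEquiv.ext fun y => Subtype.ext (by
    rw [MulAut.conjNormal_apply, hNab a ha _ y.2, mul_inv_cancel_right]; rfl)
  let φ : G ⧸ N →* MulAut N := QuotientGroup.lift N φ₀ hker
  have hφ : ∀ (g : G) (y : N), ((φ (g : G ⧸ N) y : N) : G) = g * y * g⁻¹ := fun g y =>
    MulAut.conjNormal_apply g y
  have hfaith : ∀ q : G ⧸ N, (∀ y, φ q y = y) → q = 1 := by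
    intro q hq
    obtain ⟨g, rfl⟩ := QuotientGroup.mk_surjective q
    refine (QuotientGroup.eq_one_iff g).2 (hCN.le (Subgroup.mem_centralizer_iff.2 fun a ha => ?_))
    have := congrArg Subtype.val (hq ⟨a, ha⟩)
    rw [hφ] at this
    exact (mul_inv_eq_iff_eq_mul.1 this).symm
  letI : CommGroup N := { (inferInstance : Group N) with
    mul_comm := fun a b => Subtype.ext (hNab _ a.2 _ b.2) }
  letI : DistribMulAction (G ⧸ N) (Additive N) :=
    { smul := fun q y => Additive.ofMul (φ q (Additive.toMul y))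
      one_smul := fun y => by
        show Additive.ofMul (φ 1 (Additive.toMul y)) = y
        rw [map_one]; rfl
      mul_smul := fun q q' y => by
        show Additive.ofMul (φ (q * q') (Additive.toMul y)) =
          Additive.ofMul (φ q (φ q' (Additive.toMul y)))
        rw [map_mul]; rfl
      smul_zero := fun q => congrArg Additive.ofMul (map_one (φ q))
      smul_add := fun q y y' =>
        congrArg Additive.ofMul (map_mul (φ q) (Additive.toMul y) (Additive.toMul y')) }
  haveI : FaithfulSMul (G ⧸ N) (Additive N) := ⟨fun {q q'} h => by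
    have := hfaith (q'⁻¹ * q) fun y => by
      have h2 : φ q y = φ q' y := congrArg Additive.toMul (h (Additive.ofMul y))
      rw [map_mul, MulAut.mul_apply, h2, ← MulAut.mul_apply, ← map_mul, inv_mul_cancel, map_one]
      rfl
    exact (inv_mul_eq_one.1 this).symm⟩
  have hirr : Irred (G ⧸ N) (Additive N) := by
    intro U hU
    let K : Subgroup G := (AddSubgroup.toSubgroup' U).map N.subtype
    have hK : K.Normal := ⟨fun a ha g => by
      obtain ⟨y, hy, rfl⟩ := ha
      exact ⟨φ (g : G ⧸ N) y, hU (g : G ⧸ N) (Additive.ofMul y) hy, hφ g y⟩⟩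
    rcases hminN K hK (by rintro _ ⟨y, -, rfl⟩; exact y.2) with h | h
    · refine Or.inl ((AddSubgroup.eq_bot_iff_forall U).2 fun y hy => ?_)
      have h2 : ((Additive.toMul y : N) : G) ∈ K := ⟨Additive.toMul y, hy, rfl⟩
      rw [h, Subgroup.mem_bot] at h2
      exact congrArg Additive.ofMul (Subtype.ext h2 : Additive.toMul y = 1)
    · refine Or.inr (eq_top_iff.2 fun y _ => ?_)
      obtain ⟨z, hz, hzy⟩ : ((Additive.toMul y : N) : G) ∈ K := h.symm ▸ (Additive.toMul y).2
      have hz' : z = Additive.toMul y := Subtype.ext hzy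
      rw [hz'] at hz
      exact hz
  haveI : Nontrivial N := (Subgroup.nontrivial_iff_ne_bot N).2 hN1
  obtain ⟨n, hn⟩ := IsPGroup.iff_card.1 hNr
  obtain ⟨D⟩ := irred_data (G := G ⧸ N) (V := Additive N) (r := r) (n := n) hirr
    (by rw [Nat.card_congr Additive.toMul, hn]) Z hZab (fun x hx => hx.2) hZcard ha1
  obtain ⟨R, hR1, hR2, -⟩ := k_abelian_normal N hNab
  obtain ⟨S, hScard, hS0, hSorb⟩ := D.support
  refine lin_end D hp hp97 hr ha1 hR1 ?_ ?_
  · rw [← hn, ← Subgroup.index_eq_card]; exact hR2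
  · have hinj : Function.Injective (fun y : Additive N => ((Additive.toMul y : N) : G)) :=
      fun y y' h => Additive.toMul.injective (Subtype.ext h)
    rw [← hScard, ← Finset.card_image_of_injective S hinj]
    refine k_support N _ ?_ ?_ ?_
    · intro x hx
      obtain ⟨y, -, rfl⟩ := Finset.mem_image.1 hx
      exact (Additive.toMul y).2
    · intro x hx h1
      obtain ⟨y, hy, rfl⟩ := Finset.mem_image.1 hx
      exact hS0 y hy (Additive.toMul.injective (Subtype.ext h1))
    · intro x hx x' hx' hc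
      obtain ⟨y, hy, rfl⟩ := Finset.mem_image.1 hx
      obtain ⟨y', hy', rfl⟩ := Finset.mem_image.1 hx'
      obtain ⟨g, hg⟩ := isConj_iff.1 hc
      rw [hSorb y hy y' hy' (g : G ⧸ N)
        (Additive.toMul.injective (Subtype.ext ((hφ g _).trans hg)))]

/-- Main bound. -/
theorem fit_bound {G : Type u} [Group G] [Finite G] [Group.IsSolvable G] {p : ℕ} (hp : p.Prime)
    (hd : p ∣ (Cfsg.fittingSubgroup G).index) :
    p ≤ 3 * Nat.card (ConjClasses G) * Nat.log 2 p :=
  fit_bound_aux hp _ G rfl hd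

end Cfsg.Agent.KGBound86
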