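import Mathlib
import Cfsg.Agent.Lib.KGBound86Dim4
import Cfsg.Agent.Lib.KGBound86Bound

/-!
Classes of subgroups of the group induced on the symplectic section, and the bound `3 ^ (n - 1)`.
-/

set_option autoImplicit false

namespace Cfsg.Agent.KGFit86

open Cfsg.Agent.KGBound86
open Cfsg.Agent.OddBase75
open scoped commutatorElement

/-- Orders of symplectic groups with square-free exponent, for `e < 128`. -/
def spList : List ℕ := [1, 1, 6, 24, 720, 120, 144, 336, 1451520, 51840, 720, 1320, 17280, 2184, 2016, 2880, 47377612800, 4896, 311040, 6840, 86400, 8064, 7920, 12144, 34836480, 9360000, 13104, 9170703360, 241920, 24360, 17280, 29760, 24815256521932800, 31680, 29376, 40320, 37324800, 50616, 41040, 52416, 174182400, 68880, 48384, 79464, 950400, 6220800, 72864, 103776, 1137062707200, 276595200, 56160000, 117504, 1572480, 148824, 55024220160, 158400, 487710720, 164160, 146160, 205320, 2073600, 226920, 178560, 17418240, 208114637736580743168000, 262080, 190080, 300696, 3525120, 291456, 241920, 357840,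 75246796800, 388944, 303696, 224640000, 4924800, 443520, 314496, 492960, 5685313536000, 131569513308979200, 413280, 571704, 5806080, 587520, 476784, 584640, 1916006400, 704880, 37324800, 733824, 8743680, 714240, 622656, 820800, 595566156526387200, 912576, 1659571200, 68428800, 6739200000, 1030200, 705024, 1092624, 3170119680, 967680, 892944, 1224936, 6602906419200, 1294920, 950400, 1214784, 15918877900800, 1442784, 984960, 1457280, 17539200, 113218560, 1231920, 1645056, 4180377600, 25721308800, 1361520, 1653120, 21427200, 457002000000000, 104509440, 2048256]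

/-- The exact bound, continued by a crude one. -/
def spFine (e : ℕ) : ℕ :=
  if e < 128 then spList.getD e 0 else 2 ^ (2 * Nat.log 2 e ^ 2 + 5 * Nat.log 2 e)

theorem spFine_one : ∀ e < 2, 1 ≤ spFine e := by
  intro e he
  interval_cases e <;> decide

theorem spList_le : ∀ e < 128, spList.getD e 0 ≤ 2 ^ (2 * 6 ^ 2 + 5 * 6) := by decide +kernel

/-- Prime-like divisors. -/
def smallPrime (r : ℕ) : Bool :=
  (List.range 12).all fun d => ! (decide (2 ≤ d) && decide (d < r) && decide (d ∣ r))

/-- The inequality at one divisor. -/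
def stepOK (e r : ℕ) : Bool :=
  if r ∣ e ∧ 2 ≤ r then
    if smallPrime r then
      (List.range 8).all fun v =>
        ! (decide (r ^ v ∣ e) && ! decide (r ^ (v + 1) ∣ e)) ||
          decide ((r ^ (2 * v) - 1) * (r ^ (2 * v) / r) * spList.getD (e / r) 0 ≤ spList.getD e 0)
    else true
  else true

set_option maxRecDepth 4000 in
theorem stepOK_all : ∀ e < 128, ∀ r < 128, stepOK e r = true := by decide +kernel

theorem spList_step (e : ℕ) (he : e < 128) (h2e : 2 ≤ e) (r : ℕ) (hre : r ≤ e) (hdvd : r ∣ e)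
    (hr2 : 2 ≤ r) (hpr : ∀ d < 12, 2 ≤ d → d < r → ¬ d ∣ r) (v : ℕ) (hv : v < 8) (h1 : r ^ v ∣ e)
    (h2 : ¬ r ^ (v + 1) ∣ e) :
    (r ^ (2 * v) - 1) * (r ^ (2 * v) / r) * spList.getD (e / r) 0 ≤ spList.getD e 0 := by
  have hs : smallPrime r = true := by
    simp only [smallPrime, List.all_eq_true, List.mem_range, Bool.not_eq_true', Bool.and_eq_false_iff,
      decide_eq_false_iff_not]
    intro d hd
    by_cases ha : 2 ≤ d
    · by_cases hb : d < r
      · exact Or.inr (hpr d hd ha hb)
      · exact Or.inl (Or.inr hb)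
    · exact Or.inl (Or.inl ha)
  have h := stepOK_all e he r (by omega)
  rw [stepOK, if_pos ⟨hdvd, hr2⟩, if_pos hs, List.all_eq_true] at h
  simpa [h1, h2] using h v (List.mem_range.2 hv)

theorem spFine_step (e : ℕ) (he : 2 ≤ e) : (e.minFac ^ (2 * e.factorization e.minFac) - 1) *
    (e.minFac ^ (2 * e.factorization e.minFac) / e.minFac) * spFine (e / e.minFac) ≤ spFine e := by
  set r := e.minFac with hrdef
  have hr : r.Prime := Nat.minFac_prime (by omega)
  set v := e.factorization r with hvdef
  have hdvd : r ^ v ∣ e := Nat.ordProj_dvd e r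
  have hre : r ∣ e := Nat.minFac_dvd e
  have hdiv : e / r < e := Nat.div_lt_self (by omega) hr.one_lt
  by_cases h : e < 128
  · have hv8 : v < 8 := by
      by_contra h8
      have h1 : 2 ^ 8 ≤ r ^ v :=
        (Nat.pow_le_pow_left hr.two_le 8).trans (Nat.pow_le_pow_right hr.pos (by omega))
      have := Nat.le_of_dvd (by omega) hdvd
      omega
    rw [spFine, spFine, if_pos h, if_pos (by omega)]
    refine spList_step e h he r (Nat.le_of_dvd (by omega) hre) hre hr.two_le (fun d _ hd2 hdr hd => ?_)
      v hv8 hdvd (Nat.pow_succ_factorization_not_dvd (by omega) hr)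
    rcases hr.eq_one_or_self_of_dvd d hd with e' | e' <;> omega
  push Not at h
  set L := Nat.log 2 e with hL
  have hL7 : 7 ≤ L := Nat.le_log_of_pow_le (by norm_num) (by omega)
  have heL : e ≤ 2 ^ (L + 1) := (Nat.lt_pow_succ_log_self (by norm_num) e).le
  have hrv : r ^ v ≤ e := Nat.le_of_dvd (by omega) hdvd
  have hstep : (r ^ (2 * v) - 1) * (r ^ (2 * v) / r) ≤ 2 ^ (4 * L + 3) := by
    have h1 : r ^ (2 * v) ≤ 2 ^ (2 * L + 2) := by
      rw [mul_comm 2 v, pow_mul]
      refine (Nat.pow_le_pow_left (hrv.trans heL) 2).trans (le_of_eq ?_)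
      rw [← pow_mul]; congr 1; ring
    have h2 : r ^ (2 * v) / r ≤ 2 ^ (2 * L + 1) := by
      refine Nat.div_le_of_le_mul (h1.trans ?_)
      rw [show 2 * L + 2 = (2 * L + 1) + 1 by omega, pow_succ']
      exact Nat.mul_le_mul_right _ hr.two_le
    calc _ ≤ 2 ^ (2 * L + 2) * 2 ^ (2 * L + 1) := Nat.mul_le_mul ((Nat.sub_le _ _).trans h1) h2
      _ = _ := by rw [← pow_add]; congr 1; ring
  have hprev : spFine (e / r) ≤ 2 ^ (2 * (L - 1) ^ 2 + 5 * (L - 1)) := by
    unfold spFine
    split_ifs with h'
    · refine (spList_le _ h').trans (Nat.pow_le_pow_right (by norm_num) ?_)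
      have : 6 ^ 2 ≤ (L - 1) ^ 2 := Nat.pow_le_pow_left (by omega) 2
      omega
    · have h2 : Nat.log 2 (e / r) ≤ L - 1 := by
        have h3 : Nat.log 2 (e / r) ≤ Nat.log 2 (e / 2) :=
          Nat.log_mono_right (Nat.div_le_div_left hr.two_le (by norm_num))
        rwa [Nat.log_div_base] at h3
      refine Nat.pow_le_pow_right (by norm_num) ?_
      have := Nat.pow_le_pow_left h2 2
      omega
  refine (Nat.mul_le_mul hstep hprev).trans ?_
  rw [spFine, if_neg (by omega), ← pow_add, ← hL]
  refine Nat.pow_le_pow_right (by norm_num) ?_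
  obtain ⟨M, hM⟩ : ∃ M, L = M + 1 := ⟨L - 1, by omega⟩
  rw [hM, Nat.add_sub_cancel]
  nlinarith

theorem spFine_small : ∀ e < 128, 1 ≤ e → e ∉ [2, 3, 4, 5, 8, 9, 16, 32] →
    spList.getD e 0 ≤ 3 ^ (e - 1) := by decide +kernel

theorem spFine_le {e : ℕ} (he : 1 ≤ e) (hne : e ∉ [2, 3, 4, 5, 8, 9, 16, 32]) :
    spFine e ≤ 3 ^ (e - 1) := by
  unfold spFine
  split_ifs with h
  · exact spFine_small e h he hne
  set L := Nat.log 2 e with hL
  have hL7 : 7 ≤ L := Nat.le_log_of_pow_le (by norm_num) (by omega)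
  have key : ∀ j, 7 ≤ j → 2 * (2 * j ^ 2 + 5 * j) + 3 ≤ 3 * 2 ^ j := by
    intro j hj
    induction j, hj using Nat.le_induction with
    | base => norm_num
    | succ m hm ih => rw [pow_succ 2 m]; nlinarith
  have h2L : 2 ^ L ≤ e := Nat.pow_log_le_self 2 (by omega)
  have hk := key L hL7
  rw [← Nat.pow_le_pow_iff_left (n := 2) (by norm_num), ← pow_mul, ← pow_mul]
  calc 2 ^ ((2 * L ^ 2 + 5 * L) * 2) ≤ 2 ^ (3 * (e - 1)) :=
        Nat.pow_le_pow_right (by norm_num) (by omega)
    _ ≤ 3 ^ (2 * (e - 1)) := by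
        rw [pow_mul, pow_mul]; exact Nat.pow_le_pow_left (by norm_num) _
    _ = _ := by rw [mul_comm]

section Prim

variable {H W : Type} [Group H] [Finite H] [Group.IsSolvable H] [AddCommGroup W] [Finite W]
  [DistribMulAction H W] [FaithfulSMul H W] [Nontrivial W] {P : Prim H W} (S : Symp P)

theorem secHom_card_le {e : ℕ} (he : Nat.card S.M = e * e) :
    Nat.card (secHom S).range ≤ spFine e := by
  haveI : Finite P.Kˣ := inferInstance
  refine card_isometry_gen spFine spFine_one spFine_step e S.M S.pair (secHom S).range he S.pair_self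
    S.pair_nd (fun r x hr hx => sq_free S r x hr hx)
    (fun g hg => Subtype.ext (MulEquiv.ext fun m => hg m)) fun g m m' => ?_
  obtain ⟨c, hc⟩ := g.2
  show S.pair ((g : MulAut S.M) m) ((g : MulAut S.M) m') = _
  rw [← hc]
  exact S.pair_smul c.2 m m'

theorem secHom_ker_le : ((actHom H (Additive S.M)).rangeRestrict.comp P.C.subtype).ker ≤
    (secHom S).rangeRestrict.ker := by
  intro c hc
  rw [MonoidHom.ker_rangeRestrict, MonoidHom.mem_ker]
  refine MulEquiv.ext fun m => ?_
  exact congrArg Additive.toMul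
    (congrArg (fun u : (AddMonoid.End (Additive S.M))ˣ => u • Additive.ofMul m)
      (congrArg Subtype.val (MonoidHom.mem_ker.1 hc)))

/-- Subgroups of the group induced on the section have few classes. -/
theorem secHom_sk {e : ℕ} (he : Nat.card S.M = e * e) (he1 : 1 ≤ e) :
    SK (secHom S).range (3 ^ (e - 1)) := by
  classical
  by_cases hne : e ∈ [2, 3, 4, 5, 8, 9, 16, 32]
  swap
  · exact SK.of_card ((secHom_card_le S he).trans (spFine_le he1 hne))
  haveI : Group.IsSolvable (actHom H (Additive S.M)).range :=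
    Group.isSolvable_of_surjective (actHom H (Additive S.M)).rangeRestrict_surjective
  haveI : Finite (actHom H (Additive S.M)).range :=
    Finite.of_surjective _ (actHom H (Additive S.M)).rangeRestrict_surjective
  haveI := faithful_range (H := H) (W := Additive S.M)
  have hcr : CR (actHom H (Additive S.M)).range (Additive S.M) := cr_range S.cr
  have hvia : ∀ {b : ℕ}, SK (actHom H (Additive S.M)).range b → SK (secHom S).range b := by
    intro b hb
    have h := SK.of_range _ ((secHom S).range.subtype.comp (secHom S).rangeRestrict)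
      (fun c hc => by
        have := secHom_ker_le S hc
        rw [MonoidHom.mem_ker] at this ⊢
        rw [MonoidHom.comp_apply, this, map_one]) hb
    exact SK.of_injective (MonoidHom.codRestrict (secHom S).range.subtype _ fun x => by
      obtain ⟨c, hc⟩ := x.2
      exact ⟨c, hc⟩) (fun (x y : (secHom S).range) e => Subtype.ext (congrArg (fun u => (u.1 : MulAut S.M)) e)) h
  have hord : ∀ p j : ℕ, p.Prime → (p = 2 ∧ j ≤ 10 ∨ p = 3 ∧ j ≤ 4) → 1 ≤ j → e * e = p ^ j →
      ∀ b, ordTable p j ≤ b → SK (secHom S).range b := by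
    intro p j hp hpj hj hej b hb
    haveI := Fact.mk hp
    refine hvia (SK.of_card (le_trans ?_ hb))
    exact card_cr_le hpj hj hcr (by rw [Nat.card_congr Additive.toMul, he, hej])
  have htwo : ∀ q : ℕ, q.Prime → e = q → q * q + q - 3 ≤ 3 ^ (e - 1) →
      SK (secHom S).range (3 ^ (e - 1)) := by
    intro q hq heq hb X
    haveI := Fact.mk hq
    haveI : FaithfulSMul X S.M := ⟨fun {g g'} h => Subtype.ext (Subtype.ext (MulEquiv.ext fun m => h m))⟩
    refine (k_two_dim (q := q) (M := S.M) (by rw [he, heq]) fun m => ?_).trans hb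
    refine sq_free S q m hq ?_
    have h1 := pow_card_eq_one' (x := m)
    rwa [he, heq] at h1
  simp only [List.mem_cons, List.not_mem_nil, or_false] at hne
  rcases hne with h | h | h | h | h | h | h | h
  · exact htwo 2 Nat.prime_two h (by rw [h]; norm_num)
  · exact htwo 3 Nat.prime_three h (by rw [h]; norm_num)
  · refine hvia ((dim_four hcr ?_).mono (by rw [h]; norm_num))
    rw [Nat.card_congr Additive.toMul, he, h]; norm_num
  · exact htwo 5 (by norm_num) h (by rw [h]; norm_num)
  · exact SK.of_card ((section_small S (j := 6) le_rfl (by rw [he, h]; norm_num)).trans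
      (by rw [h]; decide))
  · exact hord 3 4 Nat.prime_three (Or.inr ⟨rfl, le_rfl⟩) (by norm_num) (by rw [h]; norm_num) _
      (by rw [h]; decide)
  · exact hord 2 8 Nat.prime_two (Or.inl ⟨rfl, by norm_num⟩) (by norm_num) (by rw [h]; norm_num) _
      (by rw [h]; decide)
  · exact hord 2 10 Nat.prime_two (Or.inl ⟨rfl, le_rfl⟩) (by norm_num) (by rw [h]; norm_num) _
      (by rw [h]; decide)

end Prim

theorem kf_prim {H W : Type} [Group H] [Finite H] [Group.IsSolvable H] [AddCommGroup W] [Finite W]
    [DistribMulAction H W] [FaithfulSMul H W] [Nontrivial W] {p : ℕ} [Fact p.Prime] (P : Prim H W)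
    {n : ℕ} (hW : Nat.card W = p ^ n) : KF H (3 ^ (n - 1)) := by
  obtain ⟨S⟩ := exists_symp P
  obtain ⟨f, -, hn, hf1, hl⟩ := field_data P Fact.out hW
  obtain ⟨e, he, he1, hew, -, -⟩ := section_data S
  have hnil : Group.IsNilpotent (secHom S).rangeRestrict.ker := by
    rw [MonoidHom.ker_rangeRestrict, ker_secHom]
    refine (Group.isNilpotent_congr (Subgroup.subgroupOfEquivOfLe
      (show S.E ≤ P.C from S.le_C))).2 ?_
    have hq : ∀ a b : S.E ⧸ Subgroup.center S.E, a * b = b * a := by
      intro a b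
      obtain ⟨x, rfl⟩ := QuotientGroup.mk_surjective a
      obtain ⟨y, rfl⟩ := QuotientGroup.mk_surjective b
      rw [← commutatorElement_eq_one_iff_mul_comm]
      show ((⁅x, y⁆ : S.E) : S.E ⧸ Subgroup.center S.E) = 1
      refine (QuotientGroup.eq_one_iff _).2 (Subgroup.mem_center_iff.2 fun z => Subtype.ext ?_)
      exact P.mem_C.1 (S.le_C z.2) _ (S.comm_mem x x.2 y y.2)
    letI : CommGroup (S.E ⧸ Subgroup.center S.E) :=
      { (inferInstance : Group _) with mul_comm := hq }
    exact Group.of_quotient_center_nilpotent inferInstance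
  have hC : KF P.C (3 ^ (e - 1)) :=
    ⟨(secHom S).range, inferInstance, inferInstance, (secHom S).rangeRestrict, hnil, secHom_sk S he he1⟩
  refine (KF.of_normal P.C hC).mono ?_
  have hf : f ≤ 3 ^ (f - 1) := by
    have key : ∀ j, 1 ≤ j → j ≤ 3 ^ (j - 1) := by
      intro j hj
      induction j, hj using Nat.le_induction with
      | base => norm_num
      | succ m hm ih =>
        rw [show m + 1 - 1 = (m - 1) + 1 by omega, pow_succ]
        have := Nat.one_le_pow (m - 1) 3 (by norm_num)
        omega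
    exact key f hf1
  refine (Nat.mul_le_mul (hl.trans hf) le_rfl).trans ?_
  rw [← pow_add]
  refine Nat.pow_le_pow_right (by norm_num) ?_
  obtain ⟨f', rfl⟩ : ∃ f', f = f' + 1 := ⟨f - 1, by omega⟩
  have : (f' + 1) * dimK P = f' * dimK P + dimK P := by ring
  have : f' * 1 ≤ f' * dimK P := Nat.mul_le_mul_left _ (dimK_pos P)
  omega

/-- The bound for completely reducible groups over a prime field. -/
theorem kf_cr {p n : ℕ} [Fact p.Prime] (hn : 1 ≤ n) {H W : Type} [Group H] [Finite H]
    [Group.IsSolvable H] [AddCommGroup W] [Finite W] [DistribMulAction H W] [FaithfulSMul H W]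
    (hcr : CR H W) (hW : Nat.card W = p ^ n) : KF H (3 ^ (n - 1)) := by
  refine cr_induction (fun H _ _ b => KF H b) (fun _ _ _ _ _ h h' => h.mono h') ?_
    (fun _ _ _ B _ _ h => KF.of_normal B h) ?_ (p := p) (fun j => 3 ^ (j - 1)) n ?_ ?_
    (fun H W _ _ _ _ _ _ _ _ P j _ _ h => kf_prim P h) n hn le_rfl H W hcr hW
  · intro H H₁ H₂ _ _ _ _ _ _ f a b hf h1 h2
    obtain ⟨Q₁, _, _, φ₁, hn1, hs1⟩ := h1
    obtain ⟨Q₂, _, _, φ₂, hn2, hs2⟩ := h2
    refine ⟨Q₁ × Q₂, inferInstance, inferInstance, (φ₁.prodMap φ₂).comp f, ?_, hs1.prod hs2⟩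
    let g : ((φ₁.prodMap φ₂).comp f).ker →* φ₁.ker × φ₂.ker :=
      { toFun := fun x => (⟨(f x).1, congrArg Prod.fst x.2⟩, ⟨(f x).2, congrArg Prod.snd x.2⟩)
        map_one' := by ext <;> simp
        map_mul' := fun x y => by ext <;> simp }
    exact isNilpotent_of_ker_le_center g (by
      intro x hx
      have : (x : H) = 1 := hf (by
        rw [map_one]
        exact Prod.ext (congrArg (fun u : φ₁.ker × φ₂.ker => (u.1 : H₁)) (MonoidHom.mem_ker.1 hx) :)
          (congrArg (fun u : φ₁.ker × φ₂.ker => (u.2 : H₂)) (MonoidHom.mem_ker.1 hx) :))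
      rw [show x = 1 from Subtype.ext this]
      exact one_mem _)
  · intro H _ _ ι _ M _ _ f b hf h
    choose Q i1 i2 φ hn hs using h
    letI := i1
    haveI := i2
    let Φ : (∀ i, M i) →* ∀ i, Q i := Pi.monoidHom fun i => (φ i).comp (Pi.evalMonoidHom M i)
    refine ⟨∀ i, Q i, inferInstance, inferInstance, Φ.comp f, ?_, SK.pi hs⟩
    haveI := hn
    let g : (Φ.comp f).ker →* ∀ i, (φ i).ker :=
      Pi.monoidHom fun i =>
        { toFun := fun x => ⟨f x i, congrFun x.2 i⟩
          map_one' := by ext; simp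
          map_mul' := fun x y => by ext; simp }
    exact isNilpotent_of_ker_le_center g (by
      intro x hx
      have : (x : H) = 1 := hf (by
        rw [map_one]
        exact funext fun i =>
          (congrArg (fun u : ∀ j, (φ j).ker => (u i : M i)) (MonoidHom.mem_ker.1 hx) :))
      rw [show x = 1 from Subtype.ext this]
      exact one_mem _)
  · intro a b ha hb _
    rw [← pow_add]
    exact Nat.pow_le_pow_right (by norm_num) (by omega)
  · intro k w hk hw _
    refine (Nat.mul_le_mul (min_le_left _ _) le_rfl).trans ?_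
    rw [← pow_mul, ← pow_add]
    refine Nat.pow_le_pow_right (by norm_num) ?_
    obtain ⟨w', rfl⟩ : ∃ w', w = w' + 1 := ⟨w - 1, by omega⟩
    have : k * (w' + 1) = k * w' + k := by ring
    rw [this, Nat.add_sub_cancel, mul_comm w' k]
    omega

end Cfsg.Agent.KGFit86
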