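import Mathlib
import Cfsg.Agent.Lib.KGBound86FitBound

/-!
Maschke's theorem in the form used here.
-/

set_option autoImplicit false

namespace Cfsg.Agent.KGFit86

open Cfsg.Agent.OddBase75

/-- Averaging a projection. -/
theorem cr_of_coprime {G : Type} [Group G] [Finite G] {V : Type} [AddCommGroup V] {p : ℕ}
    [Fact p.Prime] [Module (ZMod p) V] [DistribMulAction G V] (hG : ¬ p ∣ Nat.card G) : CR G V := by
  classical
  intro U hU
  haveI := Fintype.ofFinite G
  let U' : Submodule (ZMod p) V := AddSubgroup.toZModSubmodule p U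
  obtain ⟨W', hW'⟩ := Submodule.exists_isCompl U'
  let P : V →+ V := (U'.subtype.comp (U'.projectionOnto W' hW')).toAddMonoidHom
  have hPU : ∀ x, P x ∈ U := fun x => (U'.projectionOnto W' hW' x).2
  have hPid : ∀ x ∈ U, P x = x := fun x hx => by
    show ((U'.projectionOnto W' hW' x : U') : V) = x
    rw [show U'.projectionOnto W' hW' x = ⟨x, hx⟩ from
      Submodule.projectionOnto_apply_left hW' ⟨x, hx⟩]
  set c : ZMod p := (Fintype.card G : ZMod p)⁻¹
  have hc : c * (Fintype.card G : ZMod p) = 1 := inv_mul_cancel₀ (by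
    rw [Ne, ZMod.natCast_eq_zero_iff, ← Nat.card_eq_fintype_card]; exact hG)
  let π : V →+ V :=
    { toFun := fun x => c • ∑ g : G, g • P (g⁻¹ • x)
      map_zero' := by simp
      map_add' := fun x y => by
        simp [smul_add, Finset.sum_add_distrib] }
  have hπU : ∀ x, π x ∈ U := fun x =>
    U'.smul_mem c (sum_mem fun g _ => hU g _ (hPU _))
  have hπid : ∀ x ∈ U, π x = x := fun x hx => by
    show c • ∑ g : G, g • P (g⁻¹ • x) = x
    rw [Finset.sum_congr rfl fun g _ => by rw [hPid _ (hU g⁻¹ x hx), smul_inv_smul],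
      Finset.sum_const, Finset.card_univ, ← Nat.cast_smul_eq_nsmul (ZMod p), smul_smul, hc, one_smul]
  have hsc : ∀ (g : G) (a : ZMod p) (x : V), g • a • x = a • g • x := fun g a x =>
    ZMod.map_smul (DistribMulAction.toAddMonoidHom V g) a x
  have hπeq : ∀ (h : G) x, π (h • x) = h • π x := fun h x => by
    show c • ∑ g : G, g • P (g⁻¹ • h • x) = h • c • ∑ g : G, g • P (g⁻¹ • x)
    rw [hsc, Finset.smul_sum (r := h)]
    congr 1
    refine Fintype.sum_equiv (Equiv.mulLeft h⁻¹) _ _ fun g => ?_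
    show g • P (g⁻¹ • h • x) = h • (h⁻¹ * g) • P ((h⁻¹ * g)⁻¹ • x)
    rw [← mul_smul h, mul_inv_cancel_left, mul_inv_rev, inv_inv, mul_smul]
  refine ⟨π.ker, fun g x hx => ?_, ?_, ?_⟩
  · rw [AddMonoidHom.mem_ker] at hx ⊢
    rw [hπeq, hx, smul_zero]
  · rw [AddSubgroup.eq_bot_iff_forall]
    intro x hx
    rw [← hπid x hx.1]
    exact AddMonoidHom.mem_ker.1 hx.2
  · refine eq_top_iff.2 fun x _ => AddSubgroup.mem_sup.2 ⟨π x, hπU x, x - π x, ?_, by abel⟩
    rw [AddMonoidHom.mem_ker, map_sub, hπid _ (hπU x), sub_self]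

end Cfsg.Agent.KGFit86
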