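import Mathlib
import Cfsg.Prelude.Def_LocalEven
import Cfsg.Prelude.Def_CaseTheorems
import Cfsg.Agent.Lib.CoprimeGen
import Cfsg.Agent.Lib.OmegaCoprime
import Cfsg.Agent.Lib.ComponentsCores

/-!
Groups of local characteristic `p` and of characteristic 2 type (Klinger-Mason): commuting elementary
abelian subgroups of `p`-rank `m` and 2-rank `r` satisfy `m + r ≤ n + 1`.
-/

set_option autoImplicit false
set_option linter.style.haveILetI false

open Subgroup

namespace Cfsg.Agent.KlingerMason23

variable {G : Type*} [Group G]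

/-- elementary abelian of exponent `q` -/
def Elem (q : ℕ) (B : Subgroup G) : Prop :=
  (∀ a ∈ B, ∀ b ∈ B, a * b = b * a) ∧ ∀ a ∈ B, a ^ q = 1

/-- elementwise commuting -/
def Cent (B F : Subgroup G) : Prop := ∀ b ∈ B, ∀ f ∈ F, b * f = f * b

theorem Elem.mono {q : ℕ} {A B : Subgroup G} (hB : Elem q B) (h : A ≤ B) : Elem q A :=
  ⟨fun a ha b hb => hB.1 a (h ha) b (h hb), fun a ha => hB.2 a (h ha)⟩

theorem Cent.mono_left {A B F : Subgroup G} (h : Cent B F) (hle : A ≤ B) : Cent A F :=
  fun b hb f hf => h b (hle hb) f hf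

theorem Cent.mono_right {E B F : Subgroup G} (h : Cent B F) (hle : E ≤ F) : Cent B E :=
  fun b hb f hf => h b hb f (hle hf)

theorem cent_closure {S T : Set G} (h : ∀ x ∈ S, ∀ y ∈ T, x * y = y * x) :
    Cent (closure S) (closure T) := fun x hx y hy => by
  refine closure_induction (p := fun x _ => x * y = y * x) (fun s hs => ?_) (by simp)
    (fun a b _ _ e1 e2 => Commute.mul_left e1 e2) (fun a _ e => Commute.inv_left e) hx
  exact closure_induction (p := fun y _ => s * y = y * s) (fun t ht => h s hs t ht) (by simp)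
    (fun a b _ _ e1 e2 => Commute.mul_right e1 e2) (fun a _ e => Commute.inv_right e) hy

theorem elem_closure {q : ℕ} {S : Set G} (hc : ∀ x ∈ S, ∀ y ∈ S, x * y = y * x)
    (hq : ∀ x ∈ S, x ^ q = 1) : Elem q (closure S) := by
  refine ⟨cent_closure hc, fun a ha => ?_⟩
  induction ha using closure_induction with
  | mem x hx => exact hq x hx
  | one => simp
  | mul x y hx hy ihx ihy => rw [Commute.mul_pow (cent_closure hc x hx y hy), ihx, ihy, one_mul]
  | inv x hx ih => rw [inv_pow, ih, inv_one]

theorem Elem.isPGroup {q : ℕ} {B : Subgroup G} (hB : Elem q B) : IsPGroup q B :=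
  fun a => ⟨1, Subtype.ext (by simpa using hB.2 a a.2)⟩

theorem mem_centralizer_of_cent {B F : Subgroup G} (h : Cent B F) : F ≤ centralizer (B : Set G) :=
  fun f hf => Subgroup.mem_centralizer_iff.mpr fun b hb => h b hb f hf

theorem coprime_card {p q : ℕ} [hp : Fact p.Prime] [hq : Fact q.Prime] (hne : p ≠ q)
    {A K : Subgroup G} [Finite G] (hA : IsPGroup p A) (hK : IsPGroup q K) :
    (Nat.card A).Coprime (Nat.card K) := by
  obtain ⟨i, hi⟩ := hA.exists_card_eq
  obtain ⟨j, hj⟩ := hK.exists_card_eq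
  rw [hi, hj]
  exact Nat.Coprime.pow i j ((Nat.coprime_primes hp.out hq.out).mpr hne)

theorem orderOf_coprime {p q : ℕ} [hp : Fact p.Prime] [hq : Fact q.Prime] (hne : q ≠ p) {x : G}
    (hx : ∃ k, x ^ q ^ k = 1) : (orderOf x).Coprime p := by
  obtain ⟨k, hk⟩ := hx
  exact Nat.Coprime.coprime_dvd_left (orderOf_dvd_of_pow_eq_one hk)
    (Nat.Coprime.pow_left k ((Nat.coprime_primes hq.out hp.out).mpr hne))

section Basic

variable [Finite G] {q : ℕ} [hq : Fact q.Prime]

/-- adjoining an element -/
theorem mul_card_le_sup {E : Subgroup G} {x : G} (hxq : x ^ q = 1) (hx : x ∉ E) :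
    Nat.card E * q ≤ Nat.card (E ⊔ zpowers x : Subgroup G) := by
  have hord : orderOf x = q := (Nat.dvd_prime hq.out).mp (orderOf_dvd_of_pow_eq_one hxq) |>.resolve_left
    fun h => hx (by rw [orderOf_eq_one_iff.mp h]; exact E.one_mem)
  let f : E × zpowers x → (E ⊔ zpowers x : Subgroup G) := fun a =>
    ⟨a.1 * a.2, mul_mem (mem_sup_left a.1.2) (mem_sup_right a.2.2)⟩
  have hf : Function.Injective f := by
    rintro ⟨a, c⟩ ⟨b, d⟩ e
    have e' : (a : G) * c = b * d := congrArg Subtype.val e
    have h1 : (b : G)⁻¹ * a = d * (c : G)⁻¹ := by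
      calc (b : G)⁻¹ * a = (b : G)⁻¹ * (a * c) * (c : G)⁻¹ := by group
        _ = _ := by rw [e']; group
    have h2 : (b : G)⁻¹ * a = 1 := by
      by_contra h3
      refine hx ?_
      have hmem : (b : G)⁻¹ * a ∈ zpowers x := by
        rw [h1]; exact mul_mem d.2 (inv_mem c.2)
      obtain ⟨i, hi⟩ := mem_zpowers_iff.mp hmem
      have hE : (b : G)⁻¹ * a ∈ E := mul_mem (inv_mem b.2) a.2
      have hco : Nat.Coprime (orderOf x) i.natAbs := by
        rw [hord]
        refine (Nat.Prime.coprime_iff_not_dvd hq.out).mpr fun hd => h3 ?_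
        rw [← hi]
        exact orderOf_dvd_iff_zpow_eq_one.mp (hord ▸ Int.natCast_dvd.mpr hd)
      have h4 : x ^ i.natAbs ∈ E := by
        rcases Int.natAbs_eq i with e2 | e2
        · rw [← hi, e2, zpow_natCast] at hE; exact hE
        · rw [← hi, e2, zpow_neg, zpow_natCast] at hE; exact (E.inv_mem_iff).mp hE
      obtain ⟨j, hj⟩ := exists_pow_eq_self_of_coprime hco.symm
      rw [← hj]; exact E.pow_mem h4 j
    have h5 : b = a := Subtype.ext (inv_mul_eq_one.mp h2)
    subst h5
    exact Prod.ext rfl (Subtype.ext (mul_left_cancel e'))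
  calc Nat.card E * q = Nat.card (E × zpowers x) := by rw [Nat.card_prod, Nat.card_zpowers, hord]
    _ ≤ _ := Nat.card_le_card_of_injective f hf

theorem Elem.sup_zpowers {E : Subgroup G} (hE : Elem q E) {x : G} (hxq : x ^ q = 1)
    (hc : ∀ e ∈ E, e * x = x * e) : Elem q (E ⊔ zpowers x) := by
  rw [zpowers_eq_closure, ← closure_eq E, ← Subgroup.closure_union]
  refine elem_closure ?_ ?_
  · rintro a (ha | rfl) b (hb | rfl)
    · exact hE.1 a ha b hb
    · exact hc a ha
    · exact (hc b hb).symm
    · rfl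
  · rintro a (ha | rfl)
    · exact hE.2 a ha
    · exact hxq

theorem exists_hyperplane {E : Subgroup G} (hE : Elem q E) {a : G} (ha : a ∈ E) (h1 : a ≠ 1) :
    ∃ E' ≤ E, Nat.card E' * q = Nat.card E ∧ a ∉ E' ∧ E' ⊔ zpowers a = E := by
  classical
  obtain ⟨E', hmax⟩ := (Set.toFinite {K : Subgroup G | K ≤ E ∧ a ∉ K}).exists_maximal
    ⟨⊥, bot_le, by simpa using h1⟩
  obtain ⟨hle, ha'⟩ := hmax.prop
  have hsup : E' ⊔ zpowers a = E := by
    refine le_antisymm (sup_le hle (zpowers_le.mpr ha)) fun e he => ?_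
    by_contra hcon
    have he' : e ∉ E' := fun h => hcon (mem_sup_left h)
    have hmem : a ∈ E' ⊔ zpowers e := by
      by_contra h'
      exact he' (hmax.2 ⟨sup_le hle (zpowers_le.mpr he), h'⟩ le_sup_left (mem_sup_right (mem_zpowers e)))
    rw [← SetLike.mem_coe, coe_mul_of_right_le_normalizer_left _ _ (fun z hz => by
      refine Subgroup.mem_normalizer_iff.mpr fun w => ?_
      have hzE : z ∈ E := zpowers_le.mpr he hz
      constructor
      · intro hw; rw [hE.1 z hzE w (hle hw), mul_inv_cancel_right]; exact hw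
      · intro hw
        have := hE.1 z hzE _ (hle hw)
        have e2 : w = z * w * z⁻¹ := by
          calc w = z⁻¹ * ((z * w * z⁻¹) * z) := by group
            _ = z⁻¹ * (z * (z * w * z⁻¹)) := by rw [this]
            _ = _ := by group
        rw [e2]; exact hw)] at hmem
    obtain ⟨u, hu, v, hv, huv⟩ := Set.mem_mul.mp hmem
    have hv1 : v ≠ 1 := fun h => ha' (by rw [← huv, h, mul_one]; exact hu)
    have hev : e ∈ zpowers v := by
      obtain ⟨i, rfl⟩ := mem_zpowers_iff.mp hv
      have hord : orderOf e = q := (Nat.dvd_prime hq.out).mp (orderOf_dvd_of_pow_eq_one (hE.2 e he)) |>.resolve_left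
        fun h => hv1 (by rw [orderOf_eq_one_iff.mp h, one_zpow])
      have hcard : Nat.card (zpowers (e ^ i)) = q := by
        rw [Nat.card_zpowers]
        exact orderOf_eq_prime (by
          rw [← zpow_natCast, ← zpow_mul, mul_comm, zpow_mul, zpow_natCast, hE.2 e he, one_zpow]) hv1
      have : zpowers (e ^ i) = zpowers e :=
        eq_of_le_of_card_ge (zpowers_le.mpr (zpow_mem (mem_zpowers e) i))
          (by rw [hcard, Nat.card_zpowers, hord])
      rw [this]; exact mem_zpowers e
    refine hcon (zpowers_le.mpr ?_ hev)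
    have : v = u⁻¹ * a := by rw [← huv]; group
    rw [this]
    exact mul_mem (mem_sup_left (inv_mem hu)) (mem_sup_right (mem_zpowers a))
  refine ⟨E', hle, le_antisymm ?_ ?_, ha', hsup⟩
  · calc Nat.card E' * q ≤ Nat.card (E' ⊔ zpowers a : Subgroup G) := mul_card_le_sup (hE.2 a ha) ha'
      _ = _ := by rw [hsup]
  · have hnorm : zpowers a ≤ normalizer (E' : Set G) := fun z hz => by
      refine Subgroup.mem_normalizer_iff.mpr fun w => ?_
      have hzE : z ∈ E := zpowers_le.mpr ha hz
      constructor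
      · intro hw; rw [hE.1 z hzE w (hle hw), mul_inv_cancel_right]; exact hw
      · intro hw
        have := hE.1 z hzE _ (hle hw)
        have e2 : w = z * w * z⁻¹ := by
          calc w = z⁻¹ * ((z * w * z⁻¹) * z) := by group
            _ = z⁻¹ * (z * (z * w * z⁻¹)) := by rw [this]
            _ = _ := by group
        rw [e2]; exact hw
    have hcov : ∀ e : E, ∃ a' : E' × zpowers a, (e : G) = a'.1 * a'.2 := fun e => by
      have he : (e : G) ∈ E' ⊔ zpowers a := by rw [hsup]; exact e.2
      rw [← SetLike.mem_coe, coe_mul_of_right_le_normalizer_left _ _ hnorm] at he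
      obtain ⟨u, hu, v, hv, huv⟩ := Set.mem_mul.mp he
      exact ⟨(⟨u, hu⟩, ⟨v, hv⟩), huv.symm⟩
    choose f hf using hcov
    calc Nat.card E ≤ Nat.card (E' × zpowers a) :=
          Nat.card_le_card_of_injective f fun x y e => Subtype.ext (by rw [hf, hf, e])
      _ = Nat.card E' * Nat.card (zpowers a) := Nat.card_prod _ _
      _ ≤ _ := Nat.mul_le_mul_left _ (by
          rw [Nat.card_zpowers]
          exact Nat.le_of_dvd hq.out.pos (orderOf_dvd_of_pow_eq_one (hE.2 a ha)))

/-- generation by centralisers of hyperplanes -/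
theorem gen_hyperplanes {E : Subgroup G} (hE : Elem q E) (hne : E ≠ ⊥) {K H : Subgroup G}
    (hEK : E ≤ normalizer (K : Set G)) (hcop : (Nat.card E).Coprime (Nat.card K))
    (hfix : ∀ E1 ≤ E, Nat.card E1 * q = Nat.card E → ∀ x ∈ K, (∀ e ∈ E1, e * x = x * e) → x ∈ H) :
    K ≤ H := by
  induction hm : Nat.card E using Nat.strong_induction_on generalizing E K with
  | _ m ih =>
    haveI : IsMulCommutative E := ⟨⟨fun a b => Subtype.ext (hE.1 a a.2 b b.2)⟩⟩
    by_cases hcyc : IsCyclic E
    · intro x hx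
      refine hfix ⊥ bot_le ?_ x hx (fun e he => by rw [Subgroup.mem_bot] at he; simp [he])
      obtain ⟨a, ha, h1⟩ := E.bot_or_exists_ne_one.resolve_left hne
      obtain ⟨E', hle, hcard, ha', -⟩ := exists_hyperplane hE ha h1
      haveI := hcyc
      have : E' = ⊥ := by
        by_contra hE'
        obtain ⟨c, hc, hc1⟩ := E'.bot_or_exists_ne_one.resolve_left hE'
        obtain ⟨g, hg⟩ := hcyc.exists_ofOrder_eq_natCard
        have hle2 : Nat.card E ≤ q := by
          rw [← hg, ← Subgroup.orderOf_coe]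
          exact Nat.le_of_dvd hq.out.pos (orderOf_dvd_of_pow_eq_one (hE.2 g g.2))
        have : 2 ≤ Nat.card E' := by
          haveI : Nontrivial E' := ⟨⟨⟨c, hc⟩, 1, fun e => hc1 (congrArg Subtype.val e)⟩⟩
          exact Finite.one_lt_card
        have := Nat.mul_le_mul_right q this
        have := hq.out.two_le
        omega
      rw [← hcard, this]
    refine CoprimeGen.le_of_centralizers hcyc hEK hcop fun a ha ha1 => ?_
    obtain ⟨E', hle, hcard, ha', hsup⟩ := exists_hyperplane hE ha ha1
    have hE'0 : E' ≠ ⊥ := fun h => hcyc (by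
      have : E = zpowers a := by rw [← hsup, h, bot_sup_eq]
      rw [this]; infer_instance)
    have hpos : 0 < Nat.card E' := Nat.card_pos
    have hlt : Nat.card E' < m := by
      rw [← hm, ← hcard]
      exact lt_mul_of_one_lt_right hpos hq.out.one_lt
    refine ih _ hlt (hE.mono hle) hE'0 ?_ ?_ (fun E1 hE1 hc1 x hx hxc => ?_) rfl
    · intro e he
      refine Subgroup.mem_normalizer_iff.mpr fun w => ?_
      have hea := hE.1 e (hle he) a ha
      have key : ∀ e' ∈ E, e' * a = a * e' → ∀ w, w ∈ K ⊓ centralizer {a} → e' * w * e'⁻¹ ∈ K ⊓ centralizer {a} := by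
        rintro e' he' hc' w ⟨hwK, hwa⟩
        refine ⟨(Subgroup.mem_normalizer_iff.mp (hEK he') w).mp hwK, mem_centralizer_singleton_iff.mpr ?_⟩
        have c1 : Commute e' a := hc'
        have c2 : Commute w a := mem_centralizer_singleton_iff.mp hwa
        exact ((c1.mul_left c2).mul_left c1.inv_left).eq
      refine ⟨key e (hle he) hea w, fun hw => ?_⟩
      have := key e⁻¹ (E.inv_mem (hle he)) (Commute.inv_left hea) _ hw
      simpa [mul_assoc] using this
    · exact Nat.Coprime.coprime_dvd_left (card_dvd_of_le hle)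
        (hcop.coprime_dvd_right (card_dvd_of_le inf_le_left))
    · obtain ⟨hxK, hxa⟩ := hx
      have hsupE : E1 ⊔ zpowers a ≤ E := sup_le (hE1.trans hle) (zpowers_le.mpr ha)
      refine hfix (E1 ⊔ zpowers a) hsupE (le_antisymm ?_ ?_) x hxK fun e he => ?_
      · by_contra hlt'
        have heq : E1 ⊔ zpowers a = E := by
          refine eq_of_le_of_card_ge hsupE ?_
          have hd := card_dvd_of_le hsupE
          have hge : Nat.card E' ≤ Nat.card (E1 ⊔ zpowers a : Subgroup G) := by
            rw [← hc1]; exact mul_card_le_sup (hE.2 a ha) fun h => ha' (hE1 h)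
          obtain ⟨k, hk⟩ := hd
          have hk1 : k < q := by
            by_contra hk'
            refine hlt' ?_
            rw [hk]
            exact Nat.mul_le_mul_left _ (not_lt.mp hk')
          have hEp := hE.isPGroup
          obtain ⟨i, hi⟩ := hEp.exists_card_eq
          have : k = 1 := by
            have hkd : k ∣ q ^ i := ⟨Nat.card (E1 ⊔ zpowers a : Subgroup G), by rw [← hi, hk, mul_comm]⟩
            obtain ⟨l, -, rfl⟩ := (Nat.dvd_prime_pow hq.out).mp hkd
            rcases l with _ | l
            · rfl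
            · exact absurd hk1 (not_lt.mpr (Nat.le_self_pow (Nat.succ_ne_zero l) q))
          rw [hk, this, mul_one]
        have hb : Nat.card (E1 ⊔ zpowers a : Subgroup G) ≤ Nat.card E1 * q := by
          have hcov : ∀ z : (E1 ⊔ zpowers a : Subgroup G), ∃ w : E1 × zpowers a, (z : G) = w.1 * w.2 := by
            intro z
            have hn : zpowers a ≤ normalizer (E1 : Set G) := fun y hy => by
              refine Subgroup.mem_normalizer_iff.mpr fun w => ?_
              have hyE : y ∈ E := zpowers_le.mpr ha hy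
              constructor
              · intro hw; rw [hE.1 y hyE w (hle (hE1 hw)), mul_inv_cancel_right]; exact hw
              · intro hw
                have := hE.1 y hyE _ (hle (hE1 hw))
                have e2 : w = y * w * y⁻¹ := by
                  calc w = y⁻¹ * ((y * w * y⁻¹) * y) := by group
                    _ = y⁻¹ * (y * (y * w * y⁻¹)) := by rw [this]
                    _ = _ := by group
                rw [e2]; exact hw
            have hz := z.2
            rw [← SetLike.mem_coe, coe_mul_of_right_le_normalizer_left _ _ hn] at hz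
            obtain ⟨u, hu, v, hv, huv⟩ := Set.mem_mul.mp hz
            exact ⟨(⟨u, hu⟩, ⟨v, hv⟩), huv.symm⟩
          choose f hf using hcov
          calc Nat.card (E1 ⊔ zpowers a : Subgroup G) ≤ Nat.card (E1 × zpowers a) :=
                Nat.card_le_card_of_injective f fun x y e => Subtype.ext (by rw [hf, hf, e])
            _ ≤ Nat.card E1 * q := by
              rw [Nat.card_prod, Nat.card_zpowers]
              exact Nat.mul_le_mul_left _ (Nat.le_of_dvd hq.out.pos (orderOf_dvd_of_pow_eq_one (hE.2 a ha)))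
        rw [heq, hc1, ← hcard] at hb
        have := lt_mul_of_one_lt_right hpos hq.out.one_lt
        omega
      · calc Nat.card E = Nat.card E' * q := hcard.symm
          _ = Nat.card E1 * q * q := by rw [← hc1]
          _ ≤ _ := Nat.mul_le_mul_right q (mul_card_le_sup (hE.2 a ha) fun h => ha' (hE1 h))
      · refine closure_induction (p := fun e _ => e * x = x * e) ?_ (by simp)
          (fun a b _ _ e1 e2 => Commute.mul_left e1 e2) (fun a _ e => Commute.inv_left e)
          (show e ∈ closure ((E1 : Set G) ∪ {a}) by rwa [Subgroup.closure_union, closure_eq, ← zpowers_eq_closure])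
        rintro z (hz | rfl)
        · exact hxc z hz
        · exact (mem_centralizer_singleton_iff.mp hxa).symm

end Basic

variable [Finite G]

/-- the radical attached to a `p`-subgroup, cut down to its centraliser -/
def rad (p : ℕ) (B : Subgroup G) : Subgroup G :=
  (Cfsg.pCore p ↥(normalizer (B : Set G))).map (normalizer (B : Set G)).subtype ⊓ centralizer (B : Set G)

/-- the standing hypotheses -/
structure Hyp (p n : ℕ) (G : Type*) [Group G] : Prop where
  hp2 : p ≠ 2
  locp : Cfsg.IsOfLocalCharacteristic p G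
  two : Cfsg.IsCharacteristicTwoType G
  bound : ∀ B : Subgroup G, Elem p B → B ≠ ⊥ → ∀ u : G, u ^ 2 = 1 → u ≠ 1 →
    (∀ b ∈ B, b * u = u * b) → Nat.card B ≤ p ^ n

theorem centralizer_le_normalizer' (B : Subgroup G) : centralizer (B : Set G) ≤ normalizer (B : Set G) := by
  intro x hx
  refine Subgroup.mem_normalizer_iff.mpr fun w => ?_
  have h := Subgroup.mem_centralizer_iff.mp hx
  constructor
  · intro hw; rw [← h w hw, mul_inv_cancel_right]; exact hw
  · intro hw
    have := h _ hw
    have e2 : w = x * w * x⁻¹ := by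
      calc w = x⁻¹ * ((x * w * x⁻¹) * x) := by group
        _ = x⁻¹ * (x * (x * w * x⁻¹)) := by rw [this]
        _ = _ := by group
    rw [e2]; exact hw

section pSide

variable {p n : ℕ} [hp : Fact p.Prime]

omit hp in
theorem rad_le (B : Subgroup G) : rad p B ≤ centralizer (B : Set G) := inf_le_right

theorem isPGroup_rad (B : Subgroup G) : IsPGroup p (rad p B) :=
  ((ComponentsCores.isPGroup_pCore p).map _).to_le inf_le_left

omit hp in
theorem rad_conj {B : Subgroup G} {x y : G} (hx : x ∈ centralizer (B : Set G)) (hy : y ∈ rad p B) :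
    x * y * x⁻¹ ∈ rad p B := by
  obtain ⟨⟨w, hw, rfl⟩, hyc⟩ := hy
  refine ⟨⟨⟨x, centralizer_le_normalizer' B hx⟩ * w * (⟨x, centralizer_le_normalizer' B hx⟩ : normalizer (B : Set G))⁻¹,
    Subgroup.Normal.conj_mem inferInstance w hw _, rfl⟩, (centralizer (B : Set G)).mul_mem ((centralizer (B : Set G)).mul_mem hx hyc) ((centralizer (B : Set G)).inv_mem hx)⟩

/-- local characteristic `p`: `p'`-elements are detected -/
theorem eq_one_of_rad (h : Hyp p n G) {B : Subgroup G} (hB : IsPGroup p B) (hne : B ≠ ⊥) {x : G}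
    (hx : x ∈ centralizer (B : Set G)) (hcop : (orderOf x).Coprime p)
    (hfix : ∀ y ∈ rad p B, x * y = y * x) : x = 1 := by
  set N := normalizer (B : Set G)
  set R0 := (Cfsg.pCore p ↥N).map N.subtype with hR0
  have hR0n : N ≤ normalizer (R0 : Set G) := ComponentsCores.normalizer_le_normalizer_map_subtype N _ |>.trans'
    Subgroup.le_normalizer
  have hxN : x ∈ N := centralizer_le_normalizer' B hx
  have hcent : zpowers x ≤ centralizer (R0 : Set G) := by
    refine CoprimeGen.le_centralizer_of_prod_action (p := p) ((ComponentsCores.isPGroup_pCore p).map _) hB ?_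
      ((zpowers_le.mpr hxN).trans hR0n) (Subgroup.le_normalizer.trans hR0n) (zpowers_le.mpr hx) ?_
    · rw [Nat.card_zpowers]
      exact (Nat.Prime.coprime_iff_not_dvd hp.out).mp hcop.symm
    · intro y hy
      refine Subgroup.mem_centralizer_iff.mpr fun z hz => ?_
      obtain ⟨i, rfl⟩ := mem_zpowers_iff.mp hz
      exact ((show Commute x y from hfix y hy).zpow_left i).eq
  have hmem : (⟨x, hxN⟩ : N) ∈ centralizer (Cfsg.pCore p ↥N : Set ↥N) :=
    Subgroup.mem_centralizer_iff.mpr fun y hy =>
      Subtype.ext (Subgroup.mem_centralizer_iff.mp (hcent (mem_zpowers x)) y ⟨y, hy, rfl⟩)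
  obtain ⟨k, hk⟩ := ComponentsCores.isPGroup_pCore p ⟨_, h.locp.2 B hB hne hmem⟩
  have hk' : x ^ p ^ k = 1 := by simpa [Subtype.ext_iff] using hk
  exact orderOf_eq_one_iff.mp
    (Nat.eq_one_of_dvd_coprimes (Nat.Coprime.pow_right k hcop) dvd_rfl (orderOf_dvd_of_pow_eq_one hk'))

/-- a 2-element commuting with all elements of order `p` of an invariant `p`-group commutes with it -/
theorem commute_of_omega (h : Hyp p n G) {x : G} (hx : ∃ k, x ^ 2 ^ k = 1) {P : Subgroup G}
    (hP : IsPGroup p P) (hn : ∀ y ∈ P, x * y * x⁻¹ ∈ P) (hfix : ∀ y ∈ P, y ^ p = 1 → x * y = y * x) :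
    ∀ y ∈ P, x * y = y * x :=
  haveI : Fact (Nat.Prime 2) := ⟨Nat.prime_two⟩
  OmegaCoprime.commute_of_forall_pow_eq_one h.hp2 (orderOf_coprime h.hp2.symm hx) P hP hn hfix

/-- **the rank sum bound** -/
theorem sum_bound (h : Hyp p n G) {B F : Subgroup G} (hB : Elem p B) (hB1 : B ≠ ⊥) (hF : Elem 2 F)
    (hF1 : F ≠ ⊥) (hBF : Cent B F) {m r : ℕ} (hm : p ^ m ≤ Nat.card B) (hr : 2 ^ r ≤ Nat.card F) :
    m + r ≤ n + 1 := by
  haveI : Fact (Nat.Prime 2) := ⟨Nat.prime_two⟩
  induction hcard : Nat.card F using Nat.strong_induction_on generalizing B F m r with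
  | _ c ih =>
    obtain ⟨u, hu, hu1⟩ := F.bot_or_exists_ne_one.resolve_left hF1
    have hmn : m ≤ n := (Nat.pow_le_pow_iff_right hp.out.one_lt).mp
      (hm.trans (h.bound B hB hB1 u (hF.2 u hu) hu1 fun b hb => hBF b hb u hu))
    by_contra hcon
    have hr2 : 2 ≤ r := by omega
    -- the centralisers of the hyperplanes of `F` in the radical
    have hsmall : ∀ F1 ≤ F, Nat.card F1 * 2 = Nat.card F → ∀ y ∈ rad p B,
        (∀ e ∈ F1, e * y = y * e) → y ^ p = 1 → y ∈ B := by
      intro F1 hF1' hc y hy hcy hyp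
      by_contra hyB
      have hF10 : F1 ≠ ⊥ := fun e => by
        rw [e, Subgroup.card_bot] at hc
        have : 2 ^ 2 ≤ 2 ^ r := Nat.pow_le_pow_right (by norm_num) hr2
        omega
      have hyc : ∀ b ∈ B, b * y = y * b := Subgroup.mem_centralizer_iff.mp (rad_le B hy)
      have hcent : Cent (B ⊔ zpowers y) F1 := by
        rw [zpowers_eq_closure, ← closure_eq B, ← Subgroup.closure_union, ← closure_eq F1]
        refine cent_closure ?_
        rintro a (ha | rfl) e he
        · exact hBF a ha e (hF1' he)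
        · exact (hcy e he).symm
      have hge : p ^ (m + 1) ≤ Nat.card (B ⊔ zpowers y : Subgroup G) := by
        rw [pow_succ]
        exact (Nat.mul_le_mul_right p hm).trans (mul_card_le_sup hyp hyB)
      have hr1 : 2 ^ (r - 1) ≤ Nat.card F1 := by
        obtain ⟨s, rfl⟩ : ∃ s, r = s + 1 := ⟨r - 1, by omega⟩
        rw [pow_succ, ← hc] at hr
        simp only [Nat.add_sub_cancel]
        omega
      have := ih _ (by rw [← hcard, ← hc]; have := Nat.card_pos (α := F1); omega)
        (hB.sup_zpowers hyp hyc) (ne_bot_of_le_ne_bot hB1 le_sup_left) (hF.mono hF1') hF10 hcent hge hr1 rfl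
      omega
    -- hence `F` centralises the radical
    have hnorm : F ≤ normalizer (rad p B : Set G) := fun f hf =>
      Subgroup.mem_normalizer_iff.mpr fun w => by
        refine ⟨rad_conj (mem_centralizer_of_cent hBF hf), fun hw => ?_⟩
        have := rad_conj (inv_mem (mem_centralizer_of_cent hBF hf)) hw
        simpa [mul_assoc] using this
    have hle : rad p B ≤ centralizer (F : Set G) := by
      refine gen_hyperplanes hF hF1 hnorm (coprime_card h.hp2.symm hF.isPGroup (isPGroup_rad B))
        fun F1 hF1' hc y hy hcy => Subgroup.mem_centralizer_iff.mpr fun f hf => ?_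
      refine commute_of_omega h ⟨1, by simpa using hF.2 f hf⟩ (P := rad p B ⊓ centralizer (F1 : Set G))
        ((isPGroup_rad B).to_le inf_le_left) (fun z hz => ⟨?_, ?_⟩) (fun z hz hzp => ?_) y
        ⟨hy, Subgroup.mem_centralizer_iff.mpr hcy⟩
      · exact rad_conj (mem_centralizer_of_cent hBF hf) hz.1
      · refine Subgroup.mem_centralizer_iff.mpr fun e he => ?_
        have c1 : Commute e f := hF.1 e (hF1' he) f hf
        have c2 : Commute e z := Subgroup.mem_centralizer_iff.mp hz.2 e he
        exact ((c1.mul_right c2).mul_right c1.inv_right).eq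
      · exact (hBF z (hsmall F1 hF1' hc z hz.1 (Subgroup.mem_centralizer_iff.mp hz.2) hzp) f hf).symm
    refine hu1 (eq_one_of_rad h hB.isPGroup hB1 (mem_centralizer_of_cent hBF hu)
      (orderOf_coprime h.hp2.symm ⟨1, by simpa using hF.2 u hu⟩) fun y hy => ?_)
    exact Subgroup.mem_centralizer_iff.mp (hle hy) u hu

end pSide

section twoSide

/-- the radical of the normalizer of a 2-subgroup -/
def radTwo (T : Subgroup G) : Subgroup G :=
  (Cfsg.pCore 2 ↥(normalizer (T : Set G))).map (normalizer (T : Set G)).subtype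

theorem radTwo_le (T : Subgroup G) : radTwo T ≤ normalizer (T : Set G) := map_subtype_le _

theorem isPGroup_radTwo (T : Subgroup G) : IsPGroup 2 (radTwo T) :=
  haveI : Fact (Nat.Prime 2) := ⟨Nat.prime_two⟩
  (ComponentsCores.isPGroup_pCore 2).map _

theorem le_radTwo {T : Subgroup G} (hT : IsPGroup 2 T) : T ≤ radTwo T := by
  intro x hx
  haveI : (T.subgroupOf (normalizer (T : Set G))).Normal :=
    ⟨fun y hy m => (Subgroup.mem_normalizer_iff.mp m.2 y).mp hy⟩
  exact ⟨⟨x, Subgroup.le_normalizer hx⟩,
    ComponentsCores.le_pCore' (hT.of_equiv (subgroupOfEquivOfLe Subgroup.le_normalizer).symm) hx, rfl⟩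

theorem radTwo_conj {T : Subgroup G} {x y : G} (hx : x ∈ normalizer (T : Set G)) (hy : y ∈ radTwo T) :
    x * y * x⁻¹ ∈ radTwo T := by
  obtain ⟨w, hw, rfl⟩ := hy
  exact ⟨⟨x, hx⟩ * w * (⟨x, hx⟩ : normalizer (T : Set G))⁻¹,
    Subgroup.Normal.conj_mem inferInstance w hw _, rfl⟩

/-- characteristic 2 type: odd elements are detected -/
theorem eq_one_of_radTwo {p n : ℕ} (h : Hyp p n G) {T : Subgroup G} (hT : IsPGroup 2 T) (hne : T ≠ ⊥)
    {x : G} (hx : x ∈ normalizer (T : Set G)) (hcop : (orderOf x).Coprime 2)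
    (hfix : ∀ y ∈ radTwo T, x * y = y * x) : x = 1 := by
  haveI : Fact (Nat.Prime 2) := ⟨Nat.prime_two⟩
  have hmem : (⟨x, hx⟩ : normalizer (T : Set G)) ∈
      centralizer (Cfsg.pCore 2 ↥(normalizer (T : Set G)) : Set ↥(normalizer (T : Set G))) :=
    Subgroup.mem_centralizer_iff.mpr fun y hy => Subtype.ext (hfix y ⟨y, hy, rfl⟩).symm
  obtain ⟨k, hk⟩ := ComponentsCores.isPGroup_pCore 2 ⟨_, h.two.2 T hT hne hmem⟩
  have hk' : x ^ 2 ^ k = 1 := by simpa [Subtype.ext_iff] using hk
  exact orderOf_eq_one_iff.mp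
    (Nat.eq_one_of_dvd_coprimes (Nat.Coprime.pow_right k hcop) dvd_rfl (orderOf_dvd_of_pow_eq_one hk'))

end twoSide

end Cfsg.Agent.KlingerMason23
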