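import Mathlib
import Cfsg.Agent.Lib.KMSumBound23
import Cfsg.Agent.Lib.ClassTwoBaer

/-!
Klinger-Mason: the critical subgroup of the 2-radical of an involution centraliser whose centralised
elementary abelian `p`-subgroup has maximal rank contains two commuting quaternion pieces, and `p = 3`.
-/

set_option autoImplicit false
set_option linter.style.haveILetI false

open Subgroup
open scoped commutatorElement

namespace Cfsg.Agent.KlingerMason23

variable {G : Type*} [Group G]

section Words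

variable {t a b c : G}

theorem anti_symm (ht : t * t = 1) (h : a * b = t * (b * a)) : b * a = t * (a * b) := by
  rw [h, ← mul_assoc t t, ht, one_mul]

theorem anti_anti (ht : t * t = 1) (hat : a * t = t * a) (h1 : a * c = t * (c * a))
    (h2 : b * c = t * (c * b)) : a * b * c = c * (a * b) := by
  calc a * b * c = a * (b * c) := mul_assoc _ _ _
    _ = (a * t) * (c * b) := by rw [h2]; group
    _ = t * (a * c) * b := by rw [hat]; group
    _ = (t * t) * (c * (a * b)) := by rw [h1]; group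
    _ = _ := by rw [ht, one_mul]

theorem anti_comm (h1 : a * c = t * (c * a)) (h2 : b * c = c * b) :
    a * b * c = t * (c * (a * b)) := by
  calc a * b * c = a * (b * c) := mul_assoc _ _ _
    _ = (a * c) * b := by rw [h2]; group
    _ = _ := by rw [h1]; group

theorem comm_anti (hat : a * t = t * a) (h1 : a * c = c * a) (h2 : b * c = t * (c * b)) :
    a * b * c = t * (c * (a * b)) := by
  calc a * b * c = a * (b * c) := mul_assoc _ _ _
    _ = (a * t) * (c * b) := by rw [h2]; group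
    _ = t * (a * c) * b := by rw [hat]; group
    _ = _ := by rw [h1]; group

theorem anti_ne (ht1 : t ≠ 1) (h : a * b = t * (b * a)) : a * b ≠ b * a :=
  fun e => ht1 (right_eq_mul.mp (e.symm.trans h))

theorem anti_conj (g : G) (h : a * b = t * (b * a)) :
    (g * a * g⁻¹) * (g * b * g⁻¹) = (g * t * g⁻¹) * ((g * b * g⁻¹) * (g * a * g⁻¹)) := by
  calc (g * a * g⁻¹) * (g * b * g⁻¹) = g * (a * b) * g⁻¹ := by group
    _ = _ := by rw [h]; group

theorem comm_conj (g : G) (h : a * b = b * a) :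
    (g * a * g⁻¹) * (g * b * g⁻¹) = (g * b * g⁻¹) * (g * a * g⁻¹) := by
  calc (g * a * g⁻¹) * (g * b * g⁻¹) = g * (a * b) * g⁻¹ := by group
    _ = _ := by rw [h]; group

theorem conj_fix {g a : G} (h : g * a = a * g) : g * a * g⁻¹ = a := by rw [h, mul_inv_cancel_right]

theorem comm_of_conj_fix {g a : G} (h : g * a * g⁻¹ = a) : g * a = a * g := by
  calc g * a = (g * a * g⁻¹) * g := by group
    _ = a * g := by rw [h]

theorem twist {p : ℕ} {b d : G} (hb : b ^ p = 1) (h1 : b * a * b⁻¹ = d * a) (h2 : b * d = d * b) :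
    d ^ p = 1 := by
  have key : ∀ i : ℕ, b ^ i * a = d ^ i * a * b ^ i := fun i => by
    induction i with
    | zero => simp
    | succ i ih =>
      have c : Commute b (d ^ i) := (show Commute b d from h2).pow_right i
      calc b ^ (i + 1) * a = b * (b ^ i * a) := by rw [pow_succ']; group
        _ = (b * d ^ i) * a * b ^ i := by rw [ih]; group
        _ = d ^ i * (b * a * b⁻¹) * (b * b ^ i) := by rw [c.eq]; group
        _ = _ := by rw [h1, pow_succ, pow_succ']; group
  have := key p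
  rw [hb, one_mul, mul_one] at this
  exact mul_eq_right.mp this.symm

theorem mem_sup_zpowers_commute {A : Subgroup G} {x y : G} (h : ∀ a ∈ A, a * x = x * a)
    (hy : y * x = x * y) : ∀ e ∈ A ⊔ zpowers y, e * x = x * e := fun e he =>
  mem_centralizer_singleton_iff.mp ((sup_le (fun a ha => mem_centralizer_singleton_iff.mpr (h a ha))
    (zpowers_le.mpr (mem_centralizer_singleton_iff.mpr hy))) he)

theorem Cent.sup_zpowers {B E : Subgroup G} {x : G} (h : Cent B E) (hx : ∀ b ∈ B, b * x = x * b) :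
    Cent B (E ⊔ zpowers x) := fun b hb f hf =>
  (mem_sup_zpowers_commute (fun a ha => (h b hb a ha).symm) (hx b hb).symm f hf).symm

theorem commute_zpowers {x y : G} (h : y * x = x * y) : ∀ e ∈ zpowers y, e * x = x * e :=
  fun _ he => mem_centralizer_singleton_iff.mp (zpowers_le.mpr (mem_centralizer_singleton_iff.mpr h) he)

theorem elem_zpowers {q : ℕ} {x : G} (hx : x ^ q = 1) : Elem q (zpowers x) := by
  rw [zpowers_eq_closure]
  refine elem_closure ?_ ?_
  · rintro a rfl b rfl; rfl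
  · rintro a rfl; exact hx

theorem mem_zpowers_sq {t a : G} (ht : t ^ 2 = 1) (h : a ∈ zpowers t) : a = 1 ∨ a = t := by
  obtain ⟨i, rfl⟩ := mem_zpowers_iff.mp h
  rcases Int.even_or_odd' i with ⟨k, rfl | rfl⟩
  · left; rw [zpow_mul]; norm_num [ht]
  · right; rw [zpow_add, zpow_mul]; norm_num [ht]

theorem pow_half {p k : ℕ} (hp : Nat.Coprime k p) {d : G} (hd : d ^ k = 1) (hdp : d ^ p = 1) : d = 1 :=
  orderOf_eq_one_iff.mp (Nat.eq_one_of_dvd_coprimes hp (orderOf_dvd_of_pow_eq_one hd)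
    (orderOf_dvd_of_pow_eq_one hdp))

end Words

variable [Finite G] {p n : ℕ} [hp : Fact p.Prime]

/-- an involution centralising an elementary abelian `p`-subgroup of maximal rank -/
structure Frame (p n : ℕ) (t : G) (B : Subgroup G) : Prop where
  hB : Elem p B
  hcard : Nat.card B = p ^ n
  hn : 3 ≤ n
  ht : t ^ 2 = 1
  ht1 : t ≠ 1
  hc : ∀ b ∈ B, b * t = t * b

variable {t : G} {B : Subgroup G}

omit hp in
theorem Frame.tt (F : Frame p n t B) : t * t = 1 := by rw [← pow_two, F.ht]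

theorem Frame.ne_bot (F : Frame p n t B) : B ≠ ⊥ := fun e => by
  have h := F.hcard
  rw [e, Subgroup.card_bot] at h
  have := Nat.one_lt_pow (by have := F.hn; omega : n ≠ 0) hp.out.one_lt
  omega

omit hp in
theorem Frame.isPGroup_t (F : Frame p n t B) : IsPGroup 2 (zpowers t) := (elem_zpowers F.ht).isPGroup

omit hp in
theorem Frame.zt_ne_bot (F : Frame p n t B) : zpowers t ≠ ⊥ := fun e =>
  F.ht1 (Subgroup.mem_bot.mp (e ▸ mem_zpowers t))

omit hp in
theorem mem_normalizer_zpowers {x t : G} (h : x * t = t * x) : x ∈ normalizer (zpowers t : Set G) := by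
  refine centralizer_le_normalizer' _ (Subgroup.mem_centralizer_iff.mpr fun e he => ?_)
  exact commute_zpowers h.symm e he

omit hp in
theorem radTwo_commute {x t : G} (ht : t ^ 2 = 1) (hx : x ∈ radTwo (zpowers t)) : x * t = t * x := by
  have := (Subgroup.mem_normalizer_iff.mp (radTwo_le _ hx) t).mp (mem_zpowers t)
  rcases mem_zpowers_sq ht this with h | h
  · have : t = 1 := by
      calc t = x⁻¹ * (x * t * x⁻¹) * x := by group
        _ = 1 := by rw [h]; group
    simp [this]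
  · exact comm_of_conj_fix h

omit hp in
theorem conj_mem_radTwo {x y t : G} (hx : x * t = t * x) (hy : y ∈ radTwo (zpowers t)) :
    x * y * x⁻¹ ∈ radTwo (zpowers t) := radTwo_conj (mem_normalizer_zpowers hx) hy

omit hp in
theorem mem_normalizer_radTwo {x t : G} (hx : x * t = t * x) :
    x ∈ normalizer (radTwo (zpowers t) : Set G) := by
  refine Subgroup.mem_normalizer_iff.mpr fun w => ⟨conj_mem_radTwo hx, fun hw => ?_⟩
  have := conj_mem_radTwo (Commute.inv_left hx) hw
  simpa [mul_assoc] using this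

theorem hyp_coprime (h : Hyp p n G) (k : ℕ) : Nat.Coprime (2 ^ k) p :=
  Nat.Coprime.pow_left k ((Nat.coprime_primes Nat.prime_two hp.out).mpr h.hp2.symm)

theorem card_zt (F : Frame p n t B) : Nat.card (zpowers t) = 2 := by
  rw [Nat.card_zpowers]
  exact orderOf_eq_prime F.ht F.ht1

theorem card_le_hyper {B1 : Subgroup G} (F : Frame p n t B) (hc : Nat.card B1 * p = Nat.card B) :
    p ^ (n - 1) ≤ Nat.card B1 ∧ B1 ≠ ⊥ := by
  have h := F.hn
  rw [F.hcard, show p ^ n = p ^ (n - 1) * p by rw [← pow_succ]; congr 1; omega] at hc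
  have hc' := Nat.eq_of_mul_eq_mul_right hp.out.pos hc
  refine ⟨hc'.ge, fun e => ?_⟩
  rw [e, Subgroup.card_bot] at hc'
  have := Nat.one_lt_pow (by omega : n - 1 ≠ 0) hp.out.one_lt
  omega

/-- invariant abelian subgroups of the radical are centralised, with one involution -/
theorem abelian_cent (h : Hyp p n G) (F : Frame p n t B) {A : Subgroup G}
    (hAU : A ≤ radTwo (zpowers t)) (hab : ∀ a ∈ A, ∀ c ∈ A, a * c = c * a)
    (hinv : ∀ b ∈ B, ∀ a ∈ A, b * a * b⁻¹ ∈ A) :
    (∀ a ∈ A, a ^ 2 = 1 → a = 1 ∨ a = t) ∧ ∀ b ∈ B, ∀ a ∈ A, b * a = a * b := by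
  haveI : Fact (Nat.Prime 2) := ⟨Nat.prime_two⟩
  set E := closure (insert t {a | a ∈ A ∧ a ^ 2 = 1}) with hE
  have hcomm : ∀ x ∈ insert t {a | a ∈ A ∧ a ^ 2 = 1}, ∀ y ∈ insert t {a | a ∈ A ∧ a ^ 2 = 1},
      x * y = y * x := by
    rintro x (rfl | hx) y (rfl | hy)
    · rfl
    · exact (radTwo_commute F.ht (hAU hy.1)).symm
    · exact radTwo_commute F.ht (hAU hx.1)
    · exact hab x hx.1 y hy.1
  have hEl : Elem 2 E := elem_closure hcomm (by rintro x (rfl | hx); exacts [F.ht, hx.2])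
  have htE : t ∈ E := subset_closure (Set.mem_insert _ _)
  have hBn : B ≤ normalizer (E : Set G) := by
    have key : ∀ b ∈ B, ∀ e ∈ E, b * e * b⁻¹ ∈ E := by
      intro b hb e he
      have : E ≤ E.comap (MulAut.conj b).toMonoidHom := by
        refine (closure_le _).mpr ?_
        rintro x (rfl | hx)
        · show b * x * b⁻¹ ∈ E
          rw [conj_fix (F.hc b hb)]; exact htE
        · refine subset_closure (Or.inr ⟨hinv b hb x hx.1, ?_⟩)
          show (b * x * b⁻¹) ^ 2 = 1
          rw [conj_pow, hx.2]; group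
      exact this he
    intro b hb
    refine Subgroup.mem_normalizer_iff.mpr fun w => ⟨key b hb w, fun hw => ?_⟩
    have := key b⁻¹ (inv_mem hb) _ hw
    simpa [mul_assoc] using this
  have hfix : E ≤ centralizer (B : Set G) := by
    refine gen_hyperplanes F.hB F.ne_bot hBn (coprime_card h.hp2 F.hB.isPGroup hEl.isPGroup)
      fun B1 hB1 hc x hx hxc => Subgroup.mem_centralizer_iff.mpr fun b hb => ?_
    by_contra hne
    have h1 : x ∉ zpowers t := fun hm => by
      rcases mem_zpowers_sq F.ht hm with e | e <;> subst e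
      · exact hne (by simp)
      · exact hne (F.hc b hb)
    have hxb : b * x * b⁻¹ ∈ E := (Subgroup.mem_normalizer_iff.mp (hBn hb) x).mp hx
    have h2 : b * x * b⁻¹ ∉ zpowers t ⊔ zpowers x := fun hm => by
      have hcases : ∀ z ∈ zpowers t ⊔ zpowers x, z = 1 ∨ z = t ∨ z = x ∨ z = t * x := by
        intro z hz
        rw [← SetLike.mem_coe, coe_mul_of_right_le_normalizer_left _ _ (fun y hy =>
          centralizer_le_normalizer' _ (Subgroup.mem_centralizer_iff.mpr fun e he =>
            hEl.1 e (zpowers_le.mpr htE he) y (zpowers_le.mpr hx hy)))] at hz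
        obtain ⟨u, hu, v, hv, rfl⟩ := Set.mem_mul.mp hz
        rcases mem_zpowers_sq F.ht hu with rfl | rfl <;>
          rcases mem_zpowers_sq (hEl.2 x hx) hv with rfl | rfl <;> simp
      rcases hcases _ hm with e | e | e | e
      · exact h1 (by rw [show x = 1 from conj_eq_one_iff.mp e]; exact one_mem _)
      · refine h1 ?_
        have : x = t := by
          calc x = b⁻¹ * (b * x * b⁻¹) * b := by group
            _ = b⁻¹ * (t * b) := by rw [e]; group
            _ = t := by rw [← F.hc b hb]; group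
        rw [this]; exact mem_zpowers t
      · exact hne (comm_of_conj_fix e)
      · refine F.ht1 (pow_half (hyp_coprime h 1) (by simpa using F.ht) ?_)
        exact twist (F.hB.2 b hb) e (F.hc b hb)
    have hel : Elem 2 ((zpowers t ⊔ zpowers x) ⊔ zpowers (b * x * b⁻¹)) :=
      hEl.mono (sup_le (sup_le (zpowers_le.mpr htE) (zpowers_le.mpr hx)) (zpowers_le.mpr hxb))
    have hcard : 2 ^ 3 ≤ Nat.card ((zpowers t ⊔ zpowers x) ⊔ zpowers (b * x * b⁻¹) : Subgroup G) := by
      have e1 := mul_card_le_sup (q := 2) (hEl.2 x hx) h1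
      have e2 := mul_card_le_sup (q := 2) (hEl.2 _ hxb) h2
      rw [card_zt F] at e1
      omega
    have hcent : Cent B1 ((zpowers t ⊔ zpowers x) ⊔ zpowers (b * x * b⁻¹)) := by
      refine Cent.sup_zpowers (Cent.sup_zpowers (fun e he f hf =>
        (commute_zpowers (F.hc e (hB1 he)).symm f hf).symm) hxc) fun e he => ?_
      have c1 : Commute e b := F.hB.1 e (hB1 he) b hb
      have c2 : Commute e x := hxc e he
      exact ((c1.mul_right c2).mul_right c1.inv_right).eq
    have := sum_bound h (F.hB.mono hB1) (card_le_hyper F hc).2 hel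
      (ne_bot_of_le_ne_bot F.zt_ne_bot (le_sup_left.trans le_sup_left)) hcent (card_le_hyper F hc).1 hcard
    have := F.hn
    omega
  have hinvol : ∀ a ∈ A, a ^ 2 = 1 → a = 1 ∨ a = t := by
    intro a ha ha2
    by_contra hne
    have h1 : a ∉ zpowers t := fun hm => hne (mem_zpowers_sq F.ht hm)
    have haE : a ∈ E := subset_closure (Or.inr ⟨ha, ha2⟩)
    have hle : zpowers t ⊔ zpowers a ≤ E := sup_le (zpowers_le.mpr htE) (zpowers_le.mpr haE)
    have e1 := mul_card_le_sup (q := 2) ha2 h1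
    rw [card_zt F] at e1
    have := sum_bound h F.hB F.ne_bot (hEl.mono hle) (ne_bot_of_le_ne_bot F.zt_ne_bot le_sup_left)
      (fun e he f hf => Subgroup.mem_centralizer_iff.mp (hfix (hle hf)) e he) F.hcard.ge
      (r := 2) (by simpa using e1)
    omega
  refine ⟨hinvol, fun b hb a ha => ?_⟩
  obtain ⟨k, hk⟩ := isPGroup_radTwo (zpowers t) ⟨a, hAU ha⟩
  replace hk : a ^ 2 ^ k = 1 := by simpa [Subtype.ext_iff] using hk
  clear_value E
  induction k generalizing a with
  | zero => simp only [pow_zero, pow_one] at hk; simp [hk]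
  | succ k ih =>
    have h2 : b * a ^ 2 = a ^ 2 * b := ih (a ^ 2) (pow_mem ha 2) (by rw [← pow_mul, ← pow_succ']; exact hk)
    set d := b * a * b⁻¹ * a⁻¹ with hd
    have hdA : d ∈ A := mul_mem (hinv b hb a ha) (inv_mem ha)
    have hd2 : d ^ 2 = 1 := by
      rw [hd, Commute.mul_pow (hab _ (hinv b hb a ha) _ (inv_mem ha)), conj_pow, h2, mul_inv_cancel_right,
        inv_pow, mul_inv_cancel]
    have hdb : b * d = d * b := by
      rcases hinvol d hdA hd2 with e | e <;> rw [e]
      · simp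
      · exact F.hc b hb
    have hd1 : d = 1 := pow_half (hyp_coprime h 1) (by simpa using hd2)
      (twist (a := a) (F.hB.2 b hb) (by rw [hd]; group) hdb)
    exact comm_of_conj_fix (mul_inv_eq_one.mp hd1)

/-- the properties of a critical subgroup of the radical -/
structure Crit (t : G) (B K : Subgroup G) : Prop where
  le : K ≤ radTwo (zpowers t)
  norm : normalizer (radTwo (zpowers t) : Set G) ≤ normalizer (K : Set G)
  comm : ∀ a ∈ K, ∀ b ∈ K, a * b = b * a ∨ a * b = t * (b * a)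
  sq : ∀ a ∈ K, ∀ b ∈ K, a ^ 2 * b = b * a ^ 2
  fix : ∀ b ∈ B, ∀ a ∈ K, (∀ c ∈ K, a * c = c * a) → b * a = a * b
  inv : ∀ a ∈ K, (∀ c ∈ K, a * c = c * a) → a ^ 2 = 1 → a = 1 ∨ a = t
  faithful : ∀ b ∈ B, (∀ z ∈ K, b * z = z * b) → b = 1

theorem exists_crit (h : Hyp p n G) (F : Frame p n t B) : ∃ K : Subgroup G, Crit t B K := by
  haveI : Fact (Nat.Prime 2) := ⟨Nat.prime_two⟩
  obtain ⟨K, hKU, hnorm, hself, hcom, hsq⟩ :=
    ClassTwoBaer.exists_critical_sub (isPGroup_radTwo (zpowers t))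
  have hBK : ∀ b ∈ B, b ∈ normalizer (K : Set G) := fun b hb =>
    hnorm (mem_normalizer_radTwo (F.hc b hb))
  have hZ := abelian_cent h F (A := K ⊓ centralizer (K : Set G)) (inf_le_left.trans hKU)
    (fun a ha c hc => Subgroup.mem_centralizer_iff.mp hc.2 a ha.1) (fun b hb a ha => by
      refine ⟨(Subgroup.mem_normalizer_iff.mp (hBK b hb) a).mp ha.1,
        Subgroup.mem_centralizer_iff.mpr fun c hc => ?_⟩
      have hc' : b⁻¹ * c * b ∈ K := by
        have := (Subgroup.mem_normalizer_iff.mp (inv_mem (hBK b hb)) c).mp hc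
        simpa using this
      have := comm_conj b (Subgroup.mem_centralizer_iff.mp ha.2 _ hc')
      rwa [show b * (b⁻¹ * c * b) * b⁻¹ = c by group] at this)
  have hmem : ∀ a ∈ K, (∀ c ∈ K, a * c = c * a) → a ∈ K ⊓ centralizer (K : Set G) := fun a ha hc =>
    ⟨ha, Subgroup.mem_centralizer_iff.mpr fun c hc' => (hc c hc').symm⟩
  refine ⟨K, hKU, hnorm, fun a ha b hb => ?_, fun a ha b hb => ?_, fun b hb a ha hc => hZ.2 b hb a (hmem a ha hc),
    fun a ha hc => hZ.1 a (hmem a ha hc), fun b hb hc => ?_⟩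
  · have hz := hcom a ha b hb
    have hab : a * b = ⁅a, b⁆ * (b * a) := by rw [commutatorElement_def]; group
    have hza : a * ⁅a, b⁆ = ⁅a, b⁆ * a := Subgroup.mem_centralizer_iff.mp hz.2 a ha
    have h2 : ⁅a, b⁆ ^ 2 = 1 := by
      have e1 : a ^ 2 * b = ⁅a, b⁆ ^ 2 * (b * a ^ 2) := by
        calc a ^ 2 * b = a * (a * b) := by rw [pow_two]; group
          _ = (a * ⁅a, b⁆) * (b * a) := by rw [hab]; group
          _ = ⁅a, b⁆ * (a * b) * a := by rw [hza]; group
          _ = _ := by rw [hab, pow_two, pow_two]; group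
      exact right_eq_mul.mp ((Subgroup.mem_centralizer_iff.mp (hsq a ha).2 b hb).trans e1)
    rcases hZ.1 _ hz h2 with e | e <;> rw [e] at hab
    · left; simpa using hab
    · right; exact hab
  · exact (Subgroup.mem_centralizer_iff.mp (hsq a ha).2 b hb).symm
  · have hle : zpowers b ≤ centralizer (radTwo (zpowers t) : Set G) := by
      refine ClassTwoBaer.centralizes_of_critical (isPGroup_radTwo _) hKU
        (Subgroup.le_normalizer.trans hnorm) (zpowers_le.mpr (mem_normalizer_radTwo (F.hc b hb))) ?_ hself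
        (zpowers_le.mpr (Subgroup.mem_centralizer_iff.mpr fun z hz => (hc z hz).symm))
      rw [Nat.card_zpowers]
      exact orderOf_coprime (q := p) h.hp2 ⟨1, by simpa using F.hB.2 b hb⟩
    exact eq_one_of_radTwo h F.isPGroup_t F.zt_ne_bot (mem_normalizer_zpowers (F.hc b hb))
      (orderOf_coprime (q := p) h.hp2 ⟨1, by simpa using F.hB.2 b hb⟩)
      fun y hy => (Subgroup.mem_centralizer_iff.mp (hle (mem_zpowers b)) y hy).symm

section CritLemmas

variable {K : Subgroup G}

omit hp in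
theorem Crit.tc (C : Crit t B K) (F : Frame p n t B) {a : G} (ha : a ∈ K) : a * t = t * a :=
  radTwo_commute F.ht (C.le ha)

omit hp in
theorem Crit.conj (C : Crit t B K) {g : G} (hg : g * t = t * g) {a : G} (ha : a ∈ K) :
    g * a * g⁻¹ ∈ K :=
  (Subgroup.mem_normalizer_iff.mp (C.norm (mem_normalizer_radTwo hg)) a).mp ha

omit hp in
theorem Crit.anti (C : Crit t B K) {a b : G} (ha : a ∈ K) (hb : b ∈ K) (hne : a * b ≠ b * a) :
    a * b = t * (b * a) := (C.comm a ha b hb).resolve_left hne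

omit hp in
theorem Crit.conj_sq (C : Crit t B K) {a b : G} (hb : b ∈ B) (ha : a ∈ K) :
    (b * a * b⁻¹) ^ 2 = a ^ 2 := by
  rw [conj_pow, conj_fix (C.fix b hb _ (pow_mem ha 2) (C.sq a ha))]

omit hp in
theorem Crit.four (C : Crit t B K) (F : Frame p n t B) {a b : G} (ha : a ∈ K) (hb : b ∈ K) :
    (a * b) ^ 4 = a ^ 4 * b ^ 4 := by
  have hz : Commute (a ^ 2) (b ^ 2) := C.sq a ha (b ^ 2) (pow_mem hb 2)
  rcases C.comm a ha b hb with e | e
  · exact Commute.mul_pow e 4
  · have h2 : (a * b) ^ 2 = t * (a ^ 2 * b ^ 2) := by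
      calc (a * b) ^ 2 = a * (b * a) * b := by rw [pow_two]; group
        _ = (a * t) * (a * b) * b := by rw [anti_symm F.tt e]; group
        _ = _ := by rw [C.tc F ha, pow_two, pow_two]; group
    have ht : Commute t (a ^ 2 * b ^ 2) := (C.tc F (mul_mem (pow_mem ha 2) (pow_mem hb 2))).symm
    rw [show (4 : ℕ) = 2 * 2 from rfl, pow_mul, h2, ht.mul_pow, F.ht, one_mul, hz.mul_pow, ← pow_mul,
      ← pow_mul]

omit hp in
theorem Crit.delta_four (C : Crit t B K) (F : Frame p n t B) {v b : G} (hv : v ∈ K) (hb : b ∈ B) :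
    (b * v * b⁻¹ * v⁻¹) ^ 4 = 1 := by
  rw [C.four F (C.conj (F.hc b hb) hv) (inv_mem hv), show (4 : ℕ) = 2 * 2 from rfl, pow_mul,
    C.conj_sq hb hv, ← pow_mul, inv_pow, mul_inv_cancel]

theorem Crit.delta_one (h : Hyp p n G) (C : Crit t B K) (F : Frame p n t B) {v b : G} (hv : v ∈ K)
    (hb : b ∈ B) (hc : b * (b * v * b⁻¹ * v⁻¹) = (b * v * b⁻¹ * v⁻¹) * b) :
    b * v * b⁻¹ * v⁻¹ = 1 :=
  pow_half (hyp_coprime h 2) (by simpa using C.delta_four F hv hb)
    (twist (a := v) (F.hB.2 b hb) (by group) hc)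

/-- the orbit of a non-centralised element is not commutative -/
theorem Crit.orbit (h : Hyp p n G) (C : Crit t B K) (F : Frame p n t B) {d b : G} (hd : d ∈ K)
    (hb : b ∈ B) (hne : b * d ≠ d * b) :
    ∃ b1 ∈ B, (b1 * d * b1⁻¹) * d = t * (d * (b1 * d * b1⁻¹)) := by
  by_contra hcon
  have hall : ∀ c ∈ B, (c * d * c⁻¹) * d = d * (c * d * c⁻¹) := fun c hc => by
    by_contra h'
    exact hcon ⟨c, hc, C.anti (C.conj (F.hc c hc) hd) hd h'⟩
  set S := {z : G | ∃ c ∈ B, z = c * d * c⁻¹}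
  have hSc : ∀ x ∈ S, ∀ y ∈ S, x * y = y * x := by
    rintro _ ⟨c, hc, rfl⟩ _ ⟨e, he, rfl⟩
    have := comm_conj e (hall _ (mul_mem (inv_mem he) hc))
    rwa [show e * (e⁻¹ * c * d * (e⁻¹ * c)⁻¹) * e⁻¹ = c * d * c⁻¹ by group] at this
  have hSK : closure S ≤ K := (closure_le _).mpr (by
    rintro _ ⟨c, hc, rfl⟩; exact C.conj (F.hc c hc) hd)
  have hA := abelian_cent h F (A := closure S) (hSK.trans C.le) (cent_closure hSc) (fun c hc a ha => by
    have : closure S ≤ (closure S).comap (MulAut.conj c).toMonoidHom := by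
      refine (closure_le _).mpr ?_
      rintro _ ⟨e, he, rfl⟩
      refine subset_closure ⟨c * e, mul_mem hc he, ?_⟩
      show c * (e * d * e⁻¹) * c⁻¹ = _
      group
    exact this ha)
  exact hne (hA.2 b hb d (subset_closure ⟨1, one_mem _, by group⟩))

/-- a piece attached to `H` -/
structure Piece (t : G) (B K H : Subgroup G) (w v b0 : G) : Prop where
  hb0 : b0 ∈ B
  hv : v ∈ K
  hvH : ∀ e ∈ H, e * v = v * e
  hw : w = b0 * v * b0⁻¹ * v⁻¹
  sq : w ^ 2 = t
  hwH : ∀ e ∈ H, e * w = w * e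

theorem exists_piece (h : Hyp p n G) (C : Crit t B K) (F : Frame p n t B) {H : Subgroup G}
    (hH : H ≤ B) {v0 b : G} (hv0 : v0 ∈ K) (hb : b ∈ B) (hc : ∀ e ∈ H, e * v0 = v0 * e)
    (hne : b * v0 ≠ v0 * b) : ∃ w v b0 : G, Piece t B K H w v b0 := by
  have hfix : ∀ c ∈ B, ∀ a : G, (∀ e ∈ H, e * a = a * e) → ∀ e ∈ H, e * (c * a * c⁻¹) = (c * a * c⁻¹) * e :=
    fun c hc' a ha e he => by
      have c1 : Commute e c := F.hB.1 e (hH he) c hc'
      exact ((c1.mul_right (ha e he)).mul_right c1.inv_right).eq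
  have hprod : ∀ a a' : G, (∀ e ∈ H, e * a = a * e) → (∀ e ∈ H, e * a' = a' * e) →
      ∀ e ∈ H, e * (a * a'⁻¹) = (a * a'⁻¹) * e := fun a a' ha ha' e he =>
    ((show Commute e a from ha e he).mul_right (Commute.inv_right (ha' e he))).eq
  set d := b * v0 * b⁻¹ * v0⁻¹ with hd
  have hdK : d ∈ K := mul_mem (C.conj (F.hc b hb) hv0) (inv_mem hv0)
  have hdne : b * d ≠ d * b := fun e => hne (comm_of_conj_fix (mul_inv_eq_one.mp (C.delta_one h F hv0 hb e)))
  have hdH := hprod _ _ (hfix b hb v0 hc) hc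
  obtain ⟨b0, hb0, hanti⟩ := C.orbit h F hdK hb hdne
  refine ⟨b0 * d * b0⁻¹ * d⁻¹, d, b0, hb0, hdK, hdH, rfl, ?_, hprod _ _ (hfix b0 hb0 d hdH) hdH⟩
  have hcd := C.tc F (C.conj (F.hc b0 hb0) hdK)
  have hx := anti_symm F.tt hanti
  set x := b0 * d * b0⁻¹ with hxdef
  have hdx : d⁻¹ * x = t * (x * d⁻¹) := by
    have htd : d * t = t * d := C.tc F hdK
    calc d⁻¹ * x = d⁻¹ * (x * d) * d⁻¹ := by group
      _ = d⁻¹ * (t * d) * (x * d⁻¹) := by rw [hanti]; group
      _ = _ := by rw [← htd]; group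
  calc (x * d⁻¹) ^ 2 = x * (d⁻¹ * x) * d⁻¹ := by rw [pow_two]; group
    _ = (x * t) * (x * d⁻¹ * d⁻¹) := by rw [hdx]; group
    _ = t * (x ^ 2 * (d ^ 2)⁻¹) := by rw [hcd, pow_two, pow_two]; group
    _ = t := by rw [hxdef, C.conj_sq hb0 hdK, mul_inv_cancel, mul_one]

variable {H : Subgroup G} {w v b0 : G}

omit hp in
theorem Piece.mem (P : Piece t B K H w v b0) (C : Crit t B K) (F : Frame p n t B) : w ∈ K := by
  rw [P.hw]; exact mul_mem (C.conj (F.hc _ P.hb0) P.hv) (inv_mem P.hv)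

theorem Piece.ne (P : Piece t B K H w v b0) (h : Hyp p n G) (C : Crit t B K) (F : Frame p n t B) :
    b0 * w ≠ w * b0 := fun e => by
  have h1 : w = 1 := by rw [P.hw]; exact C.delta_one h F P.hv P.hb0 (P.hw ▸ e)
  exact F.ht1 (by rw [← P.sq, h1, one_pow])

theorem Piece.pair (P : Piece t B K H w v b0) (h : Hyp p n G) (C : Crit t B K) (F : Frame p n t B) :
    ∃ b1 ∈ B, (b1 * w * b1⁻¹) * w = t * (w * (b1 * w * b1⁻¹)) :=
  C.orbit h F (P.mem C F) P.hb0 (P.ne h C F)

omit hp in
theorem Piece.conj (P : Piece t B K H w v b0) (C : Crit t B K) (F : Frame p n t B) (hH : H ≤ B) {c : G}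
    (hc : c ∈ B) : Piece t B K H (c * w * c⁻¹) (c * v * c⁻¹) b0 := by
  have hfix : ∀ a : G, (∀ e ∈ H, e * a = a * e) → ∀ e ∈ H, e * (c * a * c⁻¹) = (c * a * c⁻¹) * e :=
    fun a ha e he => by
      have c1 : Commute e c := F.hB.1 e (hH he) c hc
      exact ((c1.mul_right (ha e he)).mul_right c1.inv_right).eq
  refine ⟨P.hb0, C.conj (F.hc c hc) P.hv, hfix v P.hvH, ?_, ?_, hfix w P.hwH⟩
  · have hcb : c * b0 = b0 * c := F.hB.1 c hc b0 P.hb0
    calc c * w * c⁻¹ = (c * b0) * v * (c * b0)⁻¹ * (c * v * c⁻¹)⁻¹ := by rw [P.hw]; group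
      _ = _ := by rw [hcb]; group
  · rw [conj_pow, P.sq, conj_fix (F.hc c hc)]

omit hp in
/-- pieces of different hyperplanes commute -/
theorem cross_commute (P : Piece t B K H w v b0) (C : Crit t B K) (F : Frame p n t B) (hH : H ≤ B)
    {H2 : Subgroup G} (hH2 : H2 ≤ B) (hsup : B ≤ H ⊔ H2) {x : G} (hx : x ∈ K)
    (hxc : ∀ e ∈ H2, e * x = x * e) : w * x = x * w := by
  have key : ∀ b ∈ H ⊔ H2, ∀ a ∈ K, (∀ e ∈ H, e * a = a * e) →
      ((b * a * b⁻¹) * x = x * (b * a * b⁻¹) ↔ a * x = x * a) := by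
    intro b hb
    rw [show H ⊔ H2 = closure ((H : Set G) ∪ H2) by
      rw [Subgroup.closure_union, closure_eq, closure_eq]] at hb
    have hsub : closure ((H : Set G) ∪ H2) ≤ B := (closure_le _).mpr (Set.union_subset hH hH2)
    induction hb using closure_induction with
    | mem b hb =>
      intro a _ hac
      rcases hb with hb | hb
      · rw [conj_fix (hac b hb)]
      · have e : b * x * b⁻¹ = x := conj_fix (hxc b hb)
        refine ⟨fun h1 => ?_, fun h1 => ?_⟩
        · rw [← e] at h1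
          have := comm_conj b⁻¹ h1
          simpa [mul_assoc] using this
        · have := comm_conj b h1
          rwa [e] at this
    | one => intro a _ _; simp
    | mul b c hb hc ihb ihc =>
      intro a ha hac
      have hcB := hsub hc
      have ha' : ∀ e ∈ H, e * (c * a * c⁻¹) = (c * a * c⁻¹) * e := fun e he => by
        have c1 : Commute e c := F.hB.1 e (hH he) c hcB
        exact ((c1.mul_right (hac e he)).mul_right c1.inv_right).eq
      rw [show b * c * a * (b * c)⁻¹ = b * (c * a * c⁻¹) * b⁻¹ by group]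
      exact (ihb _ (C.conj (F.hc c hcB) ha) ha').trans (ihc a ha hac)
    | inv b hb ihb =>
      intro a ha hac
      have hbB : b⁻¹ ∈ B := inv_mem (hsub hb)
      have ha' : ∀ e ∈ H, e * (b⁻¹ * a * b⁻¹⁻¹) = (b⁻¹ * a * b⁻¹⁻¹) * e := fun e he => by
        have c1 : Commute e b⁻¹ := F.hB.1 e (hH he) _ hbB
        exact ((c1.mul_right (hac e he)).mul_right c1.inv_right).eq
      have := ihb _ (C.conj (F.hc _ hbB) ha) ha'
      rwa [show b * (b⁻¹ * a * b⁻¹⁻¹) * b⁻¹ = a by group, Iff.comm] at this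
  have hiff := key b0 (hsup P.hb0) v P.hv P.hvH
  have hv' : b0 * v * b0⁻¹ ∈ K := C.conj (F.hc _ P.hb0) P.hv
  rw [P.hw]
  rcases C.comm _ P.hv x hx with e | e
  · exact ((show Commute (b0 * v * b0⁻¹) x from hiff.mpr e).mul_left (Commute.inv_left e)).eq
  · have e' := C.anti hv' hx fun h1 => anti_ne F.ht1 e (hiff.mp h1)
    refine anti_anti F.tt (C.tc F hv') e' ?_
    have hvt : v * t = t * v := C.tc F P.hv
    calc v⁻¹ * x = v⁻¹ * (x * v) * v⁻¹ := by group
      _ = v⁻¹ * (t * v) * (x * v⁻¹) := by rw [anti_symm F.tt e]; group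
      _ = _ := by rw [← hvt]; group

end CritLemmas

theorem sup_hyper {B1 B2 : Subgroup G} (hB : Elem p B) (h1 : B1 ≤ B) (h2 : B2 ≤ B)
    (hc1 : Nat.card B1 * p = Nat.card B) (hne : ¬ B2 ≤ B1) : B ≤ B1 ⊔ B2 := by
  obtain ⟨x, hx, hx1⟩ := SetLike.not_le_iff_exists.mp hne
  have hle : B1 ⊔ zpowers x ≤ B := sup_le h1 (zpowers_le.mpr (h2 hx))
  have := mul_card_le_sup (hB.2 x (h2 hx)) hx1
  rw [hc1] at this
  rw [← eq_of_le_of_card_ge hle this]
  exact sup_le le_sup_left ((zpowers_le.mpr hx).trans le_sup_right)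

theorem card_inf_hyper (F : Frame p n t B) {B1 B2 : Subgroup G} (h1 : B1 ≤ B) (h2 : B2 ≤ B)
    (hc1 : Nat.card B1 * p = Nat.card B) (hc2 : Nat.card B2 * p = Nat.card B) :
    p ^ (n - 2) ≤ Nat.card (B1 ⊓ B2 : Subgroup G) ∧ B1 ⊓ B2 ≠ ⊥ := by
  have hn := F.hn
  have hcard : ∀ {A A' : Subgroup G}, A ≤ A' → Nat.card A * A.relIndex A' = Nat.card A' := by
    intro A A' hA
    rw [← relIndex_bot_left, ← relIndex_bot_left, relIndex_mul_relIndex _ _ _ bot_le hA]
  have hB2 : B2.relIndex B = p :=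
    Nat.eq_of_mul_eq_mul_left Nat.card_pos ((hcard h2).trans hc2.symm)
  have hle : B2.relIndex B1 ≤ p :=
    (relIndex_le_of_le_right h1 (by rw [hB2]; exact hp.out.ne_zero)).trans hB2.le
  have e := hcard (inf_le_left : B1 ⊓ B2 ≤ B1)
  rw [inf_comm, inf_relIndex_right, inf_comm] at e
  have hge : p ^ (n - 2) * p ≤ Nat.card (B1 ⊓ B2 : Subgroup G) * p := by
    rw [← pow_succ, show n - 2 + 1 = n - 1 by omega]
    exact (card_le_hyper F hc1).1.trans (e ▸ Nat.mul_le_mul_left _ hle)
  have hge' := Nat.le_of_mul_le_mul_right hge hp.out.pos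
  refine ⟨hge', fun hb => ?_⟩
  rw [hb, Subgroup.card_bot] at hge'
  have := Nat.one_lt_pow (by omega : n - 2 ≠ 0) hp.out.one_lt
  omega

end Cfsg.Agent.KlingerMason23
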