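import Mathlib
import Cfsg.Agent.Lib.KMPieces23

/-!
Klinger-Mason: the configuration of maximal rank at least three is impossible.
-/

set_option autoImplicit false
set_option linter.style.haveILetI false

open Subgroup

namespace Cfsg.Agent.KlingerMason23

variable {G : Type*} [Group G] [Finite G] {p n : ℕ} [hp : Fact p.Prime]
variable {t : G} {B : Subgroup G}

/-- two commuting quaternion pieces centralised by `B3` -/
structure Pieces (p n : ℕ) (t : G) (B B3 : Subgroup G) (x1 y1 x2 y2 : G) : Prop where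
  le : B3 ≤ B
  big : p ^ (n - 2) ≤ Nat.card B3
  ne : B3 ≠ ⊥
  mem : ∀ l ∈ ({x1, y1, x2, y2} : Set G), l ∈ radTwo (zpowers t) ∧ ∀ e ∈ B3, e * l = l * e
  sq : ∀ l ∈ ({x1, y1, x2, y2} : Set G), l * l = t
  anti1 : x1 * y1 = t * (y1 * x1)
  anti2 : x2 * y2 = t * (y2 * x2)
  cxx : x1 * x2 = x2 * x1
  cxy : x1 * y2 = y2 * x1
  cyx : y1 * x2 = x2 * y1
  cyy : y1 * y2 = y2 * y1

section PiecesLemmas

variable {B3 : Subgroup G} {x1 y1 x2 y2 : G}

omit hp in
theorem Pieces.lt (D : Pieces p n t B B3 x1 y1 x2 y2) (F : Frame p n t B) {l : G}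
    (hl : l ∈ ({x1, y1, x2, y2} : Set G)) : l * t = t * l := radTwo_commute F.ht (D.mem l hl).1

omit hp in
theorem Pieces.f_sq (D : Pieces p n t B B3 x1 y1 x2 y2) (F : Frame p n t B) :
    (x1 * x2) ^ 2 = 1 ∧ (y1 * y2) ^ 2 = 1 := by
  rw [Commute.mul_pow D.cxx, Commute.mul_pow D.cyy, pow_two, pow_two, pow_two, pow_two,
    D.sq x1 (by simp), D.sq x2 (by simp), D.sq y1 (by simp), D.sq y2 (by simp)]
  exact ⟨F.tt, F.tt⟩

omit hp in
theorem Pieces.ff (D : Pieces p n t B B3 x1 y1 x2 y2) (F : Frame p n t B) :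
    x1 * x2 * (y1 * y2) = y1 * y2 * (x1 * x2) :=
  anti_anti F.tt (D.lt F (by simp))
    (comm_anti_right (D.lt F (by simp)).symm D.anti1 D.cxy)
    (anti_left F.tt (D.lt F (by simp)) D.cyx D.anti2)
where
  comm_anti_right {a b c : G} (hb : t * b = b * t) (h1 : a * b = t * (b * a)) (h2 : a * c = c * a) :
      a * (b * c) = t * (b * c * a) := by
    calc a * (b * c) = a * b * c := (mul_assoc _ _ _).symm
      _ = t * b * (a * c) := by rw [h1]; group
      _ = _ := by rw [h2]; group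
  anti_left {a b c : G} (_ : t * t = 1) (hb : b * t = t * b) (h1 : b * a = a * b) (_ : a * c = t * (c * a)) :
      a * (b * c) = t * (b * c * a) := by
    calc a * (b * c) = (a * b) * c := (mul_assoc _ _ _).symm
      _ = b * (a * c) := by rw [← h1]; group
      _ = (b * t) * (c * a) := by rw [‹a * c = t * (c * a)›]; group
      _ = _ := by rw [hb]; group

omit hp in
theorem Pieces.f_x1 (D : Pieces p n t B B3 x1 y1 x2 y2) (F : Frame p n t B) :
    x1 * x2 * x1 = x1 * (x1 * x2) ∧ x1 * x2 * y1 = t * (y1 * (x1 * x2)) ∧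
      y1 * y2 * x1 = t * (x1 * (y1 * y2)) ∧ y1 * y2 * y1 = y1 * (y1 * y2) :=
  ⟨((Commute.refl x1).mul_left (Commute.symm D.cxx)).eq, anti_comm D.anti1 D.cyx.symm,
    anti_comm (anti_symm F.tt D.anti1) D.cxy.symm, ((Commute.refl y1).mul_left (Commute.symm D.cyy)).eq⟩

/-- the four-group generated by `t` and the two diagonal involutions -/
def eight (t x1 y1 x2 y2 : G) : Subgroup G := (zpowers t ⊔ zpowers (x1 * x2)) ⊔ zpowers (y1 * y2)

theorem Pieces.eight_spec (D : Pieces p n t B B3 x1 y1 x2 y2) (F : Frame p n t B) :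
    Elem 2 (eight t x1 y1 x2 y2) ∧ 2 ^ 3 ≤ Nat.card (eight t x1 y1 x2 y2) ∧
      Cent B3 (eight t x1 y1 x2 y2) ∧ eight t x1 y1 x2 y2 ≠ ⊥ := by
  haveI : Fact (Nat.Prime 2) := ⟨Nat.prime_two⟩
  obtain ⟨-, hf1, hf2, -⟩ := D.f_x1 F
  have htf : t * (x1 * x2) = x1 * x2 * t :=
    ((Commute.symm (D.lt F (by simp))).mul_right (Commute.symm (D.lt F (by simp)))).eq
  have htf' : t * (y1 * y2) = y1 * y2 * t :=
    ((Commute.symm (D.lt F (by simp))).mul_right (Commute.symm (D.lt F (by simp)))).eq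
  refine ⟨((elem_zpowers F.ht).sup_zpowers (D.f_sq F).1 (commute_zpowers htf)).sup_zpowers (D.f_sq F).2
    (mem_sup_zpowers_commute (commute_zpowers htf') (D.ff F)), ?_, ?_, ne_bot_of_le_ne_bot F.zt_ne_bot
      (le_sup_left.trans le_sup_left)⟩
  · have e1 := mul_card_le_sup (q := 2) (E := zpowers t) (D.f_sq F).1 fun hm =>
      anti_ne F.ht1 hf1 (commute_zpowers (D.lt F (by simp : y1 ∈ ({x1, y1, x2, y2} : Set G))).symm _ hm)
    have e2 := mul_card_le_sup (q := 2) (E := zpowers t ⊔ zpowers (x1 * x2)) (D.f_sq F).2 fun hm =>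
      anti_ne F.ht1 hf2 (mem_sup_zpowers_commute
        (commute_zpowers (D.lt F (by simp : x1 ∈ ({x1, y1, x2, y2} : Set G))).symm) (D.f_x1 F).1 _ hm)
    rw [card_zt F] at e1
    simp only [eight]
    omega
  · refine Cent.sup_zpowers (Cent.sup_zpowers (fun e he f hf =>
      (commute_zpowers (F.hc e (D.le he)).symm f hf).symm) fun e he => ?_) fun e he => ?_
    · exact ((show Commute e x1 from (D.mem x1 (by simp)).2 e he).mul_right
        ((D.mem x2 (by simp)).2 e he)).eq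
    · exact ((show Commute e y1 from (D.mem y1 (by simp)).2 e he).mul_right
        ((D.mem y2 (by simp)).2 e he)).eq

/-- no further involution -/
theorem no_extra (h : Hyp p n G) (D : Pieces p n t B B3 x1 y1 x2 y2) (F : Frame p n t B) {u : G}
    (hu2 : u ^ 2 = 1) (hut : u * t = t * u) (hu : ¬(u = 1 ∨ u = t))
    (hc : ∀ l ∈ ({x1, y1, x2, y2} : Set G), u * l = l * u) (hB3 : ∀ e ∈ B3, e * u = u * e) : False := by
  haveI : Fact (Nat.Prime 2) := ⟨Nat.prime_two⟩
  obtain ⟨-, hf1, hf2, -⟩ := D.f_x1 F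
  obtain ⟨h8, -, h8c, -⟩ := D.eight_spec F
  have hfm : x1 * x2 ∈ eight t x1 y1 x2 y2 := mem_sup_left (mem_sup_right (mem_zpowers _))
  have hfm' : y1 * y2 ∈ eight t x1 y1 x2 y2 := mem_sup_right (mem_zpowers _)
  have htm : t ∈ eight t x1 y1 x2 y2 := mem_sup_left (mem_sup_left (mem_zpowers _))
  have huf : u * (x1 * x2) = x1 * x2 * u :=
    ((show Commute u x1 from hc x1 (by simp)).mul_right (hc x2 (by simp))).eq
  have huf' : u * (y1 * y2) = y1 * y2 * u :=
    ((show Commute u y1 from hc y1 (by simp)).mul_right (hc y2 (by simp))).eq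
  have hty : ∀ a ∈ zpowers t ⊔ zpowers u, a * y1 = y1 * a :=
    mem_sup_zpowers_commute (commute_zpowers (D.lt F (by simp)).symm) (hc y1 (by simp))
  have htx : ∀ a ∈ (zpowers t ⊔ zpowers u) ⊔ zpowers (x1 * x2), a * x1 = x1 * a :=
    mem_sup_zpowers_commute (mem_sup_zpowers_commute (commute_zpowers (D.lt F (by simp)).symm)
      (hc x1 (by simp))) (D.f_x1 F).1
  have e1 := mul_card_le_sup (q := 2) (E := zpowers t) hu2 fun hm => hu (mem_zpowers_sq F.ht hm)
  have e2 := mul_card_le_sup (q := 2) (E := zpowers t ⊔ zpowers u) (D.f_sq F).1 fun hm =>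
    anti_ne F.ht1 hf1 (hty _ hm)
  have e3 := mul_card_le_sup (q := 2) (E := (zpowers t ⊔ zpowers u) ⊔ zpowers (x1 * x2)) (D.f_sq F).2
    fun hm => anti_ne F.ht1 hf2 (htx _ hm)
  rw [card_zt F] at e1
  have hE : Elem 2 (((zpowers t ⊔ zpowers u) ⊔ zpowers (x1 * x2)) ⊔ zpowers (y1 * y2)) :=
    (((elem_zpowers F.ht).sup_zpowers hu2 (commute_zpowers hut.symm)).sup_zpowers (D.f_sq F).1
      (mem_sup_zpowers_commute (commute_zpowers (h8.1 t htm _ hfm)) huf)).sup_zpowers (D.f_sq F).2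
      (mem_sup_zpowers_commute (mem_sup_zpowers_commute (commute_zpowers (h8.1 t htm _ hfm')) huf')
        (h8.1 _ hfm _ hfm'))
  have hcent : Cent B3 (((zpowers t ⊔ zpowers u) ⊔ zpowers (x1 * x2)) ⊔ zpowers (y1 * y2)) :=
    Cent.sup_zpowers (Cent.sup_zpowers (Cent.sup_zpowers (fun e he f hf =>
      (commute_zpowers (F.hc e (D.le he)).symm f hf).symm) hB3) fun e he => h8c e he _ hfm)
      fun e he => h8c e he _ hfm'
  have := sum_bound h (F.hB.mono D.le) D.ne hE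
    (ne_bot_of_le_ne_bot F.zt_ne_bot (le_sup_left.trans (le_sup_left.trans le_sup_left))) hcent D.big
    (r := 4) (by omega)
  have := F.hn
  omega

theorem Pieces.flipX (D : Pieces p n t B B3 x1 y1 x2 y2) (F : Frame p n t B) :
    Pieces p n t B B3 (t * x1) y1 x2 y2 := by
  have hc : ∀ l ∈ ({x1, y1, x2, y2} : Set G), Commute t l := fun l hl => (D.lt F hl).symm
  refine { D with mem := ?_, sq := ?_, anti1 := ?_, cxx := ?_, cxy := ?_ }
  · intro l hl
    rcases hl with rfl | hl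
    · exact ⟨mul_mem (le_radTwo F.isPGroup_t (mem_zpowers t)) (D.mem x1 (by simp)).1, fun e he =>
        ((show Commute e t from F.hc e (D.le he)).mul_right ((D.mem x1 (by simp)).2 e he)).eq⟩
    · exact D.mem l (Or.inr hl)
  · intro l hl
    rcases hl with rfl | hl
    · calc t * x1 * (t * x1) = t * (x1 * t) * x1 := by group
        _ = (t * t) * (x1 * x1) := by rw [D.lt F (by simp)]; group
        _ = t := by rw [F.tt, D.sq x1 (by simp), one_mul]
    · exact D.sq l (Or.inr hl)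
  · calc t * x1 * y1 = t * (t * (y1 * x1)) := by rw [mul_assoc, D.anti1]
      _ = t * ((t * y1) * x1) := by group
      _ = _ := by rw [(hc y1 (by simp)).eq]; group
  · exact ((hc x2 (by simp)).mul_left (show Commute x1 x2 from D.cxx)).eq
  · exact ((hc y2 (by simp)).mul_left (show Commute x1 y2 from D.cxy)).eq

theorem Pieces.swap (D : Pieces p n t B B3 x1 y1 x2 y2) (F : Frame p n t B) :
    Pieces p n t B B3 y1 x1 y2 x2 := by
  refine ⟨D.le, D.big, D.ne, fun l hl => D.mem l ?_, fun l hl => D.sq l ?_, anti_symm F.tt D.anti1,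
    anti_symm F.tt D.anti2, D.cyy, D.cyx, D.cxy, D.cxx⟩ <;>
    · simp only [Set.mem_insert_iff, Set.mem_singleton_iff] at hl ⊢
      tauto

end PiecesLemmas

theorem exists_piece_avoid (h : Hyp p n G) (F : Frame p n t B) {K : Subgroup G} (C : Crit t B K)
    {b : G} (hb : b ∈ B) (hb1 : b ≠ 1) :
    ∃ H ≤ B, Nat.card H * p = Nat.card B ∧ b ∉ H ∧
      ∃ v0 ∈ K, (∀ e ∈ H, e * v0 = v0 * e) ∧ b * v0 ≠ v0 * b := by
  haveI : Fact (Nat.Prime 2) := ⟨Nat.prime_two⟩
  by_contra hcon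
  refine hb1 (C.faithful b hb fun z hz => ?_)
  have hle : K ≤ centralizer {b} := by
    refine gen_hyperplanes F.hB F.ne_bot (fun e he => C.norm (mem_normalizer_radTwo (F.hc e he)))
      (coprime_card h.hp2 F.hB.isPGroup ((isPGroup_radTwo _).to_le C.le))
      fun B1 hB1 hc x hx hxc => mem_centralizer_singleton_iff.mpr ?_
    by_contra hne
    exact hcon ⟨B1, hB1, hc, fun hm => hne (hxc b hm).symm, x, hx, hxc, fun e => hne e.symm⟩
  exact (mem_centralizer_singleton_iff.mp (hle hz)).symm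

theorem pow_eq_three (h : Hyp p n G) (F : Frame p n t B) {K : Subgroup G} (C : Crit t B K)
    {H1 H2 : Subgroup G} (hH1 : H1 ≤ B) (hH2 : H2 ≤ B) (hc1 : Nat.card H1 * p = Nat.card B)
    {B3 : Subgroup G} (hB3 : B3 ≤ H1 ⊓ H2) (hsup : B ≤ H2 ⊔ H1) {x1 v1 b1 x2 v2 b2 y1 y2 c1 c2 : G}
    (P1 : Piece t B K H1 x1 v1 b1) (P2 : Piece t B K H2 x2 v2 b2) (hc1B : c1 ∈ B) (hc2B : c2 ∈ B)
    (hy1 : y1 = c1 * x1 * c1⁻¹) (hy2 : y2 = c2 * x2 * c2⁻¹) (D : Pieces p n t B B3 x1 y1 x2 y2) :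
    p = 3 := by
  haveI : Fact (Nat.Prime 2) := ⟨Nat.prime_two⟩
  have P1y : Piece t B K H1 y1 (c1 * v1 * c1⁻¹) b1 := hy1 ▸ P1.conj C F hH1 hc1B
  have P2y : Piece t B K H2 y2 (c2 * v2 * c2⁻¹) b2 := hy2 ▸ P2.conj C F hH2 hc2B
  have hx1 := P1.mem C F
  have hy1K := P1y.mem C F
  have hx1t := C.tc F hx1
  have hy1t := C.tc F hy1K
  have hyx : y1 * x1 = t * (x1 * y1) := anti_symm F.tt D.anti1
  -- commutators with `b1`
  let Dl : G → Prop := fun z => ∃ a ∈ K, z = b1 * a * b1⁻¹ * a⁻¹ ∨ z = t * (b1 * a * b1⁻¹ * a⁻¹)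
  have hDone : Dl 1 := ⟨1, K.one_mem, Or.inl (by group)⟩
  have hDmul : ∀ z z', Dl z → Dl z' → Dl (z * z') := by
    rintro z z' ⟨a, ha, hz⟩ ⟨a', ha', hz'⟩
    have hd : b1 * a * b1⁻¹ * a⁻¹ ∈ K := mul_mem (C.conj (F.hc _ P1.hb0) ha) (inv_mem ha)
    have hd' : b1 * a' * b1⁻¹ * a'⁻¹ ∈ K := mul_mem (C.conj (F.hc _ P1.hb0) ha') (inv_mem ha')
    have c1 := C.tc F hd
    refine ⟨a * a', mul_mem ha ha', ?_⟩
    have e : b1 * (a * a') * b1⁻¹ * (a * a')⁻¹ =
        (b1 * a * b1⁻¹ * a⁻¹) * (a * (b1 * a' * b1⁻¹ * a'⁻¹) * a⁻¹) := by group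
    generalize b1 * a' * b1⁻¹ * a'⁻¹ = d' at hd' hz' e
    generalize b1 * a * b1⁻¹ * a⁻¹ = d at hd hz e c1
    generalize b1 * (a * a') * b1⁻¹ * (a * a')⁻¹ = dd at e ⊢
    have hz0 : z * z' = d * d' ∨ z * z' = t * (d * d') := by
      rcases hz with rfl | rfl <;> rcases hz' with rfl | rfl
      · exact Or.inl rfl
      · exact Or.inr (by rw [← mul_assoc, c1, mul_assoc])
      · exact Or.inr (mul_assoc _ _ _)
      · refine Or.inl ?_
        calc t * d * (t * d') = t * (d * t) * d' := by group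
          _ = (t * t) * (d * d') := by rw [c1]; group
          _ = _ := by rw [F.tt, one_mul]
    rcases C.comm a ha d' hd' with e' | e'
    · rw [e', mul_inv_cancel_right] at e
      rw [e]; exact hz0
    · rw [e', show t * (d' * a) * a⁻¹ = t * d' by group, ← mul_assoc, c1, mul_assoc] at e
      rcases hz0 with h0 | h0
      · exact Or.inr (by rw [h0, e, ← mul_assoc t t, F.tt, one_mul])
      · exact Or.inl (by rw [h0, e])
  have hDorb : ∀ c ∈ B, Dl (c * x1 * c⁻¹) := fun c hc =>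
    ⟨_, C.conj (F.hc c hc) P1.hv, Or.inl (P1.conj C F hH1 hc).hw⟩
  have hDfix : ∀ u, Dl u → b1 * u = u * b1 → u = 1 ∨ u = t := by
    rintro u ⟨a, ha, hu⟩ hbu
    set d := b1 * a * b1⁻¹ * a⁻¹ with hd
    have hbd : b1 * d = d * b1 := by
      rcases hu with rfl | rfl
      · exact hbu
      · have := ((show Commute b1 t from F.hc _ P1.hb0).inv_right.mul_right hbu).eq
        simpa using this
    have := C.delta_one h F ha P1.hb0 hbd
    rw [← hd] at this
    rcases hu with rfl | rfl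
    · exact Or.inl this
    · exact Or.inr (by rw [this, mul_one])
  let Good : G → Prop := fun z => z ∈ K ∧ Dl z ∧ (∀ e ∈ H1, e * z = z * e) ∧
    z ∈ closure {w : G | ∃ c ∈ B, w = c * x1 * c⁻¹}
  have hmulG : ∀ a b, Good a → Good b → Good (a * b) := fun a b ha hb =>
    ⟨mul_mem ha.1 hb.1, hDmul a b ha.2.1 hb.2.1, fun e he =>
      ((show Commute e a from ha.2.2.1 e he).mul_right (hb.2.2.1 e he)).eq, mul_mem ha.2.2.2 hb.2.2.2⟩
  have hone : Good 1 := ⟨K.one_mem, hDone, fun e _ => by simp, one_mem _⟩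
  have horb : ∀ c ∈ B, Good (c * x1 * c⁻¹) := fun c hc =>
    ⟨(P1.conj C F hH1 hc).mem C F, hDorb c hc, (P1.conj C F hH1 hc).hwH, subset_closure ⟨c, hc, rfl⟩⟩
  have hgx : Good x1 := by simpa using horb 1 B.one_mem
  have hgy : Good y1 := hy1 ▸ horb c1 hc1B
  have hx4 : ∀ {w v b : G}, Piece t B K H1 w v b → w ^ 4 = 1 := fun P => by
    rw [show (4 : ℕ) = 2 * 2 from rfl, pow_mul, P.sq, F.ht]
  -- every conjugate can be moved into the centraliser of the pair
  have hadj : ∀ c ∈ B, ∃ q ∈ ({1, x1, y1, x1 * y1} : Set G), Good (c * x1 * c⁻¹ * q) ∧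
      (c * x1 * c⁻¹ * q) * x1 = x1 * (c * x1 * c⁻¹ * q) ∧
      (c * x1 * c⁻¹ * q) * y1 = y1 * (c * x1 * c⁻¹ * q) ∧
      ((c * x1 * c⁻¹ * q) ^ 2 = 1 ∨ (c * x1 * c⁻¹ * q) ^ 2 = t) := by
    intro c hc
    have hxK := (horb c hc).1
    have hxt := C.tc F hxK
    suffices ∃ q ∈ ({1, x1, y1, x1 * y1} : Set G), (c * x1 * c⁻¹ * q) * x1 = x1 * (c * x1 * c⁻¹ * q) ∧
        (c * x1 * c⁻¹ * q) * y1 = y1 * (c * x1 * c⁻¹ * q) ∧ Good q ∧ q ^ 4 = 1 by
      obtain ⟨q, hq, h1, h2, hgq, hq4⟩ := this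
      have hG := hmulG _ _ (horb c hc) hgq
      refine ⟨q, hq, hG, h1, h2, C.inv _ (pow_mem hG.1 2) (C.sq _ hG.1) ?_⟩
      rw [← pow_mul, C.four F hxK hgq.1, hx4 (P1.conj C F hH1 hc), hq4, one_mul]
    generalize c * x1 * c⁻¹ = x at hxK hxt ⊢
    rcases C.comm x hxK x1 hx1 with e1 | e1 <;> rcases C.comm x hxK y1 hy1K with e2 | e2
    · exact ⟨1, by simp, by simpa using e1, by simpa using e2, hone, one_pow _⟩
    · exact ⟨x1, by simp, ((show Commute x x1 from e1).mul_left (Commute.refl x1)).eq,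
        anti_anti F.tt hxt e2 D.anti1, hgx, hx4 P1⟩
    · exact ⟨y1, by simp, anti_anti F.tt hxt e1 hyx,
        ((show Commute x y1 from e2).mul_left (Commute.refl y1)).eq, hgy, hx4 P1y⟩
    · refine ⟨x1 * y1, by simp, anti_anti F.tt hxt e1 (comm_anti hx1t rfl hyx),
        anti_anti F.tt hxt e2 (anti_comm D.anti1 rfl), hmulG _ _ hgx hgy, ?_⟩
      rw [C.four F hx1 hy1K, hx4 P1, hx4 P1y, one_mul]
  have hinv : ∀ u, Good u → u * x1 = x1 * u → u * y1 = y1 * u → u ^ 2 = 1 → u = 1 ∨ u = t := by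
    intro u hu h1 h2 hu2
    by_contra hne
    have e3 := cross_commute P2 C F hH2 hH1 hsup hu.1 hu.2.2.1
    have e4 := cross_commute P2y C F hH2 hH1 hsup hu.1 hu.2.2.1
    refine no_extra h D F hu2 (C.tc F hu.1) hne ?_ fun e he => hu.2.2.1 e (hB3 he).1
    rintro l (rfl | rfl | rfl | rfl)
    exacts [h1, h2, e3.symm, e4.symm]
  have hclass : ∀ c ∈ B, ∃ q ∈ ({1, x1, y1, x1 * y1} : Set G),
      c * x1 * c⁻¹ * q = 1 ∨ c * x1 * c⁻¹ * q = t := by
    intro c hc
    obtain ⟨q, hq, hG, h1, h2, hs⟩ := hadj c hc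
    refine ⟨q, hq, ?_⟩
    set u := c * x1 * c⁻¹ * q
    rcases hs with hs | hs
    · exact hinv u hG h1 h2 hs
    by_cases hcent : ∀ c' ∈ B, u * (c' * x1 * c'⁻¹) = (c' * x1 * c'⁻¹) * u
    · set S := closure {w : G | ∃ c ∈ B, w = c * x1 * c⁻¹} with hS
      have hSK : S ≤ K := (closure_le _).mpr (by rintro _ ⟨c', hc', rfl⟩; exact (horb c' hc').1)
      have hA := abelian_cent h F (A := S ⊓ centralizer (S : Set G)) (inf_le_left.trans (hSK.trans C.le))
        (fun a ha b hb => Subgroup.mem_centralizer_iff.mp hb.2 a ha.1) (fun b hb a ha => by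
          have key : ∀ b' ∈ B, S ≤ S.comap (MulAut.conj b').toMonoidHom := by
            intro b' hb'
            refine (closure_le _).mpr ?_
            rintro _ ⟨e, he, rfl⟩
            refine subset_closure ⟨b' * e, mul_mem hb' he, ?_⟩
            show b' * (e * x1 * e⁻¹) * b'⁻¹ = _
            group
          refine ⟨key b hb ha.1, Subgroup.mem_centralizer_iff.mpr fun z hz => ?_⟩
          have hz' : b⁻¹ * z * b⁻¹⁻¹ ∈ S := key b⁻¹ (inv_mem hb) hz
          have := comm_conj b (Subgroup.mem_centralizer_iff.mp ha.2 _ hz')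
          rwa [show b * (b⁻¹ * z * b⁻¹⁻¹) * b⁻¹ = z by group] at this)
      have hu : u ∈ S ⊓ centralizer (S : Set G) := by
        refine ⟨hG.2.2.2, mem_centralizer_of_cent (F := closure {u}) ?_ (subset_closure rfl)⟩
        rw [← closure_eq S, hS, closure_eq]
        refine cent_closure ?_
        rintro _ ⟨e, he, rfl⟩ _ rfl
        exact (hcent e he).symm
      exact hDfix u hG.2.1 (hA.2 b1 P1.hb0 u hu)
    · obtain ⟨c', hc', hne⟩ : ∃ c' ∈ B, u * (c' * x1 * c'⁻¹) ≠ (c' * x1 * c'⁻¹) * u := by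
        by_contra h'
        exact hcent fun c' hc' => by_contra fun h'' => h' ⟨c', hc', h''⟩
      have hux' := C.anti hG.1 (horb c' hc').1 hne
      obtain ⟨q', hq', hGv, h1', h2', hs'⟩ := hadj c' hc'
      have huq : u * q' = q' * u := by
        rcases hq' with rfl | rfl | rfl | rfl
        exacts [by simp, h1, h2, ((show Commute u x1 from h1).mul_right h2).eq]
      set x' := c' * x1 * c'⁻¹ with hx'
      have huv : u * (x' * q') = t * (x' * q' * u) := by
        calc u * (x' * q') = (u * x') * q' := (mul_assoc _ _ _).symm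
          _ = t * x' * (u * q') := by rw [hux']; group
          _ = _ := by rw [huq]; group
      generalize x' * q' = v at hGv h1' h2' hs' huv
      rcases hs' with hs' | hs'
      · rcases hinv v hGv h1' h2' hs' with rfl | rfl
        · exact absurd (by simp) (anti_ne F.ht1 huv)
        · exact absurd (C.tc F hG.1) (anti_ne F.ht1 huv)
      exfalso
      have hP2 : (x1 * u) ^ 2 = 1 := by
        rw [Commute.mul_pow (show Commute x1 u from h1.symm), P1.sq, hs, F.tt]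
      have hQ2 : (y1 * v) ^ 2 = 1 := by
        rw [Commute.mul_pow (show Commute y1 v from h2'.symm), P1y.sq, hs', F.tt]
      have hPQ : x1 * u * (y1 * v) = y1 * v * (x1 * u) := by
        calc x1 * u * (y1 * v) = x1 * (u * y1) * v := by group
          _ = (x1 * y1) * (u * v) := by rw [h2]; group
          _ = t * (y1 * x1) * t * (v * u) := by rw [D.anti1, huv]; group
          _ = t * (y1 * (x1 * t)) * (v * u) := by group
          _ = t * ((y1 * t) * x1) * (v * u) := by rw [hx1t]; group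
          _ = (t * t) * (y1 * (x1 * v) * u) := by rw [hy1t]; group
          _ = _ := by rw [F.tt, ← h1']; group
      have hPy : x1 * u * y1 = t * (y1 * (x1 * u)) := anti_comm D.anti1 h2
      have hQx : y1 * v * x1 = t * (x1 * (y1 * v)) := anti_comm hyx h1'
      have hPt : t * (x1 * u) = x1 * u * t := (Commute.mul_right hx1t.symm (C.tc F hG.1).symm).eq
      have hQt : t * (y1 * v) = y1 * v * t := (Commute.mul_right hy1t.symm (C.tc F hGv.1).symm).eq
      have e1 := mul_card_le_sup (q := 2) (E := zpowers t) hP2 fun hm =>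
        anti_ne F.ht1 hPy (commute_zpowers hy1t.symm _ hm)
      have e2 := mul_card_le_sup (q := 2) (E := zpowers t ⊔ zpowers (x1 * u)) hQ2 fun hm =>
        anti_ne F.ht1 hQx (mem_sup_zpowers_commute (commute_zpowers hx1t.symm)
          ((Commute.refl x1).mul_left h1).eq _ hm)
      rw [card_zt F] at e1
      have hE := ((elem_zpowers F.ht).sup_zpowers hP2 (commute_zpowers hPt)).sup_zpowers hQ2
        (mem_sup_zpowers_commute (commute_zpowers hQt) hPQ)
      have hcentH : Cent H1 ((zpowers t ⊔ zpowers (x1 * u)) ⊔ zpowers (y1 * v)) :=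
        Cent.sup_zpowers (Cent.sup_zpowers (fun e he f hf =>
          (commute_zpowers (F.hc e (hH1 he)).symm f hf).symm)
          fun e he => ((show Commute e x1 from P1.hwH e he).mul_right (hG.2.2.1 e he)).eq)
          fun e he => ((show Commute e y1 from P1y.hwH e he).mul_right (hGv.2.2.1 e he)).eq
      have := sum_bound h (F.hB.mono hH1) (card_le_hyper F hc1).2 hE
        (ne_bot_of_le_ne_bot F.zt_ne_bot (le_sup_left.trans le_sup_left)) hcentH (card_le_hyper F hc1).1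
        (r := 3) (by omega)
      have := F.hn
      omega
  -- two of the four conjugates by `b1 ^ i` agree modulo `t`
  have hbB : ∀ i : ℕ, b1 ^ i ∈ B := fun i => pow_mem P1.hb0 i
  choose q hq hqe using fun i : Fin 4 => hclass _ (hbB i)
  have hq1 : ∀ i, q i = x1 ∨ q i = y1 ∨ q i = x1 * y1 := fun i => by
    rcases hq i with e | e | e | e
    · exfalso
      have hs := (P1.conj C F hH1 (hbB i)).sq
      have := hqe i
      rw [e, mul_one] at this
      rcases this with e' | e' <;> rw [e'] at hs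
      · exact F.ht1 (by simpa using hs.symm)
      · exact F.ht1 (by rw [← hs, F.ht])
    · exact Or.inl e
    · exact Or.inr (Or.inl e)
    · exact Or.inr (Or.inr e)
  obtain ⟨i, j, hij, hqq⟩ : ∃ i j : Fin 4, i < j ∧ q i = q j := by
    rcases hq1 0 with a | a | a <;> rcases hq1 1 with b | b | b <;> rcases hq1 2 with c | c | c <;>
      rcases hq1 3 with d | d | d <;>
      first
        | exact ⟨0, 1, by decide, a.trans b.symm⟩ | exact ⟨0, 2, by decide, a.trans c.symm⟩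
        | exact ⟨0, 3, by decide, a.trans d.symm⟩ | exact ⟨1, 2, by decide, b.trans c.symm⟩
        | exact ⟨1, 3, by decide, b.trans d.symm⟩ | exact ⟨2, 3, by decide, c.trans d.symm⟩
  have hs : ∃ s, (s = 1 ∨ s = t) ∧ b1 ^ (j : ℕ) * x1 * (b1 ^ (j : ℕ))⁻¹ =
      s * (b1 ^ (i : ℕ) * x1 * (b1 ^ (i : ℕ))⁻¹) := by
    have ei := hqe i
    have ej := hqe j
    rw [hqq] at ei
    generalize b1 ^ (i : ℕ) * x1 * (b1 ^ (i : ℕ))⁻¹ = X at ei ⊢
    generalize b1 ^ (j : ℕ) * x1 * (b1 ^ (j : ℕ))⁻¹ = Y at ej ⊢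
    generalize q j = r at ei ej
    refine ⟨(Y * r) * (X * r)⁻¹, ?_, by group⟩
    have hti : t⁻¹ = t := inv_eq_of_mul_eq_one_right F.tt
    rcases ei with a | a <;> rcases ej with b | b <;> rw [a, b] <;> simp [hti, F.tt]
  obtain ⟨s, hs01, hs⟩ := hs
  have hijn : (i : ℕ) < j := hij
  set k := (j : ℕ) - i with hk
  have hst : ∀ e ∈ B, e * s = s * e := fun e he => by
    rcases hs01 with rfl | rfl
    · simp
    · exact F.hc e he
  have htw : b1 ^ k * x1 * (b1 ^ k)⁻¹ = s * x1 := by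
    have hkij : b1 ^ (j : ℕ) = b1 ^ (i : ℕ) * b1 ^ k := by rw [← pow_add]; congr 1; omega
    have hsc := hst _ (hbB i)
    calc b1 ^ k * x1 * (b1 ^ k)⁻¹ = (b1 ^ (i : ℕ))⁻¹ * (b1 ^ (j : ℕ) * x1 * (b1 ^ (j : ℕ))⁻¹) * b1 ^ (i : ℕ) := by
          rw [hkij]; group
      _ = (b1 ^ (i : ℕ))⁻¹ * (s * b1 ^ (i : ℕ)) * x1 := by rw [hs]; group
      _ = _ := by rw [← hsc]; group
  have hs1 : s = 1 := by
    refine pow_half (hyp_coprime h 1) (by rcases hs01 with rfl | rfl <;> simp [F.ht])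
      (twist (a := x1) (F.hB.2 _ (hbB k)) htw (hst _ (hbB k)))
  rw [hs1, one_mul] at htw
  by_contra hp3
  have hk3 : ¬ p ∣ k := fun hd => by
    have h1 := Nat.le_of_dvd (by omega) hd
    have h2 : 2 ≤ p := hp.out.two_le
    have h3 := h.hp2
    have := j.isLt
    omega
  refine P1.ne h C F ?_
  have hco : (orderOf b1).Coprime k :=
    Nat.Coprime.coprime_dvd_left (orderOf_dvd_of_pow_eq_one (F.hB.2 b1 P1.hb0))
      ((Nat.Prime.coprime_iff_not_dvd hp.out).mpr hk3)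
  obtain ⟨m, hm⟩ := exists_pow_eq_self_of_coprime hco.symm
  rw [← hm]
  exact ((show Commute (b1 ^ k) x1 from comm_of_conj_fix htw).pow_left m).eq

theorem exists_pieces (h : Hyp p n G) (F : Frame p n t B) :
    ∃ (B3 : Subgroup G) (x1 y1 x2 y2 : G), Pieces p n t B B3 x1 y1 x2 y2 ∧ p = 3 := by
  obtain ⟨K, C⟩ := exists_crit h F
  obtain ⟨b, hb, hb1⟩ := B.bot_or_exists_ne_one.resolve_left F.ne_bot
  obtain ⟨H1, hH1, hc1, -, v0, hv0, hv0c, hv0n⟩ := exists_piece_avoid h F C hb hb1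
  obtain ⟨x1, v1, b1, P1⟩ := exists_piece h C F hH1 hv0 hb hv0c hv0n
  obtain ⟨e, he, he1⟩ := H1.bot_or_exists_ne_one.resolve_left (card_le_hyper F hc1).2
  obtain ⟨H2, hH2, hc2, heH2, w0, hw0, hw0c, hw0n⟩ := exists_piece_avoid h F C (hH1 he) he1
  obtain ⟨x2, v2, b2, P2⟩ := exists_piece h C F hH2 hw0 (hH1 he) hw0c hw0n
  have hsup : B ≤ H2 ⊔ H1 := sup_hyper F.hB hH2 hH1 hc2 fun hle => heH2 (hle he)
  obtain ⟨c1, hc1B, hanti1⟩ := P1.pair h C F
  obtain ⟨c2, hc2B, hanti2⟩ := P2.pair h C F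
  have Q1 := P1.conj C F hH1 hc1B
  have Q2 := P2.conj C F hH2 hc2B
  obtain ⟨hbig, hne⟩ := card_inf_hyper F hH1 hH2 hc1 hc2
  have hx1 := P1.mem C F
  have hy1 := Q1.mem C F
  have hx2 := P2.mem C F
  have hy2 := Q2.mem C F
  have D : Pieces p n t B (H1 ⊓ H2) x1 (c1 * x1 * c1⁻¹) x2 (c2 * x2 * c2⁻¹) := by
    refine ⟨inf_le_left.trans hH1, hbig, hne, ?_, ?_, anti_symm F.tt hanti1, anti_symm F.tt hanti2,
      (cross_commute P2 C F hH2 hH1 hsup hx1 P1.hwH).symm,
      (cross_commute Q2 C F hH2 hH1 hsup hx1 P1.hwH).symm,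
      (cross_commute P2 C F hH2 hH1 hsup hy1 Q1.hwH).symm,
      (cross_commute Q2 C F hH2 hH1 hsup hy1 Q1.hwH).symm⟩
    · rintro l (rfl | rfl | rfl | rfl)
      exacts [⟨C.le hx1, fun e he => P1.hwH e he.1⟩, ⟨C.le hy1, fun e he => Q1.hwH e he.1⟩,
        ⟨C.le hx2, fun e he => P2.hwH e he.2⟩, ⟨C.le hy2, fun e he => Q2.hwH e he.2⟩]
    · rintro l (rfl | rfl | rfl | rfl) <;> rw [← pow_two]
      exacts [P1.sq, Q1.sq, P2.sq, Q2.sq]
  exact ⟨_, _, _, _, _, D,
    pow_eq_three h F C hH1 hH2 hc1 le_rfl hsup P1 P2 hc1B hc2B rfl rfl D⟩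

/-! ### The second configuration -/

omit hp in
theorem radTwo_rad_disjoint (h : Hyp p n G) [Fact p.Prime] {B3 : Subgroup G} {T : Subgroup G} {c : G}
    (h1 : c ∈ radTwo T) (h2 : c ∈ rad p B3) : c = 1 := by
  obtain ⟨i, hi⟩ := isPGroup_radTwo T ⟨c, h1⟩
  obtain ⟨j, hj⟩ := isPGroup_rad B3 ⟨c, h2⟩
  refine pow_half (Nat.Coprime.pow_right j (hyp_coprime h i)) (by simpa [Subtype.ext_iff] using hi)
    (by simpa [Subtype.ext_iff] using hj)

/-- elements of the two radicals commute -/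
theorem disjoint_commute (h : Hyp p n G) {B3 : Subgroup G} {t l y : G} (hl : l ∈ radTwo (zpowers t))
    (hlc : ∀ e ∈ B3, e * l = l * e) (hy : y ∈ rad p B3) (hyt : y * t = t * y) : l * y = y * l := by
  have h1 : l * y * l⁻¹ * y⁻¹ ∈ radTwo (zpowers t) := by
    rw [show l * y * l⁻¹ * y⁻¹ = l * (y * l⁻¹ * y⁻¹) by group]
    exact mul_mem hl (conj_mem_radTwo hyt (inv_mem hl))
  have h2 : l * y * l⁻¹ * y⁻¹ ∈ rad p B3 :=
    mul_mem (rad_conj (Subgroup.mem_centralizer_iff.mpr hlc) hy) (inv_mem hy)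
  exact comm_of_conj_fix (mul_inv_eq_one.mp (radTwo_rad_disjoint h h1 h2))

theorem exists_sqrt (h : Hyp p n G) {a : G} (ha : ∃ k, a ^ p ^ k = 1) : ∃ m : ℕ, (a ^ 2) ^ m = a :=
  exists_pow_eq_self_of_coprime (orderOf_coprime h.hp2.symm.symm ha).symm

theorem eq_one_of_inverted (h : Hyp p n G) {a : G} (ha : a ^ p = 1) (hi : a = a⁻¹) : a = 1 :=
  pow_half (hyp_coprime h 1) (by rw [pow_one, pow_two]; nth_rw 2 [hi]; exact mul_inv_cancel a) ha

/-- the new elementary subgroup centralised by the diagonal involution -/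
theorem exists_xy (h : Hyp p n G) (F : Frame p n t B) {B3 : Subgroup G} {x1 y1 x2 y2 : G}
    (D : Pieces p n t B B3 x1 y1 x2 y2) :
    ∃ (a1 c1 a2 c2 x : G), Pieces p n t B B3 a1 c1 a2 c2 ∧ x ∈ rad p B3 ∧ x ≠ 1 ∧ x ^ p = 1 ∧
      t * x * t⁻¹ = x⁻¹ ∧ (a1 * a2) * x = x * (a1 * a2) ∧ (c1 * c2) * x = x * (c1 * c2) := by
  haveI : Fact (Nat.Prime 2) := ⟨Nat.prime_two⟩
  obtain ⟨h8, h8c, h8cent, h8ne⟩ := D.eight_spec F
  have hcent : eight t x1 y1 x2 y2 ≤ centralizer (B3 : Set G) := mem_centralizer_of_cent h8cent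
  have htB3 : t ∈ centralizer (B3 : Set G) := hcent (mem_sup_left (mem_sup_left (mem_zpowers t)))
  obtain ⟨w, hw, hwt⟩ : ∃ w ∈ rad p B3, t * w ≠ w * t := by
    by_contra hcon
    exact F.ht1 (eq_one_of_rad h (F.hB.mono D.le).isPGroup D.ne htB3
      (orderOf_coprime h.hp2.symm ⟨1, by simpa using F.ht⟩) fun y hy => by_contra fun h' => hcon ⟨y, hy, h'⟩)
  obtain ⟨F0, hF0, hc0, x, hx, hxc, hxt⟩ : ∃ F0 ≤ eight t x1 y1 x2 y2,
      Nat.card F0 * 2 = Nat.card (eight t x1 y1 x2 y2) ∧ ∃ x ∈ rad p B3,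
        (∀ e ∈ F0, e * x = x * e) ∧ t * x ≠ x * t := by
    by_contra hcon
    refine hwt ((mem_centralizer_singleton_iff.mp ((?_ : rad p B3 ≤ centralizer {t}) hw)).symm)
    refine gen_hyperplanes h8 h8ne (fun f hf => ?_)
      (coprime_card h.hp2.symm h8.isPGroup (isPGroup_rad B3)) fun F1 hF1 hc x hx hxc =>
        mem_centralizer_singleton_iff.mpr ?_
    · refine Subgroup.mem_normalizer_iff.mpr fun z => ⟨rad_conj (hcent hf), fun hz => ?_⟩
      have := rad_conj (inv_mem (hcent hf)) hz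
      simpa [mul_assoc] using this
    · by_contra hne
      exact hcon ⟨F1, hF1, hc, x, hx, hxc, fun e => hne e.symm⟩
  have htF0 : t ∉ F0 := fun hm => hxt (hxc t hm)
  have hor : ∀ g ∈ eight t x1 y1 x2 y2, g * x = x * g ∨ t * g * x = x * (t * g) := by
    intro g hg
    by_cases hgF : g ∈ F0
    · exact Or.inl (hxc g hgF)
    refine Or.inr (hxc _ ?_)
    have hle : F0 ⊔ zpowers g ≤ eight t x1 y1 x2 y2 := sup_le hF0 (zpowers_le.mpr hg)
    have hge := mul_card_le_sup (q := 2) (h8.2 g hg) hgF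
    rw [hc0] at hge
    have htm : t ∈ F0 ⊔ zpowers g := by
      rw [eq_of_le_of_card_ge hle hge]; exact mem_sup_left (mem_sup_left (mem_zpowers t))
    rw [← SetLike.mem_coe, coe_mul_of_right_le_normalizer_left _ _ (fun y hy =>
      centralizer_le_normalizer' _ (Subgroup.mem_centralizer_iff.mpr fun e he =>
        h8.1 e (hF0 he) y (zpowers_le.mpr hg hy)))] at htm
    obtain ⟨u, hu, v, hv, huv⟩ := Set.mem_mul.mp htm
    rcases mem_zpowers_sq (h8.2 g hg) hv with rfl | rfl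
    · exact absurd (by rw [← huv, mul_one]; exact hu) htF0
    · rw [← huv, mul_assoc, ← pow_two, h8.2 _ hg, mul_one]; exact hu
  obtain ⟨a1, c1, a2, c2, D', hxa, hxc'⟩ : ∃ a1 c1 a2 c2, Pieces p n t B B3 a1 c1 a2 c2 ∧
      (a1 * a2) * x = x * (a1 * a2) ∧ (c1 * c2) * x = x * (c1 * c2) := by
    rcases hor (x1 * x2) (mem_sup_left (mem_sup_right (mem_zpowers _))) with e1 | e1 <;>
      rcases hor (y1 * y2) (mem_sup_right (mem_zpowers _)) with e2 | e2
    · exact ⟨_, _, _, _, D, e1, e2⟩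
    · exact ⟨_, _, _, _, ((D.swap F).flipX F).swap F, e1, by rwa [← mul_assoc t y1 y2] at e2⟩
    · exact ⟨_, _, _, _, D.flipX F, by rwa [← mul_assoc t x1 x2] at e1, e2⟩
    · exact ⟨_, _, _, _, (((D.flipX F).swap F).flipX F).swap F, by rwa [← mul_assoc t x1 x2] at e1,
        by rwa [← mul_assoc t y1 y2] at e2⟩
  -- an inverted element of order `p`
  set z := x⁻¹ * (t * x * t⁻¹) with hz
  have hzR : z ∈ rad p B3 := mul_mem (inv_mem hx) (rad_conj htB3 hx)
  have hz1 : z ≠ 1 := fun e => hxt (comm_of_conj_fix (inv_mul_eq_one.mp e).symm)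
  have hzi : t * z * t⁻¹ = z⁻¹ := by
    calc t * z * t⁻¹ = t * x⁻¹ * (t * (x * (t⁻¹ * t⁻¹))) := by rw [hz]; group
      _ = t * x⁻¹ * (t * x) := by rw [← mul_inv_rev, F.tt, inv_one, mul_one]
      _ = _ := by
        rw [hz, show t⁻¹ = t from inv_eq_of_mul_eq_one_right F.tt, mul_inv_rev, mul_inv_rev, mul_inv_rev,
          inv_inv, show t⁻¹ = t from inv_eq_of_mul_eq_one_right F.tt]
        group
  have hzc : ∀ g, g * x = x * g → g * t = t * g → g * z = z * g := fun g h1 h2 => by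
    have c1 : Commute g x := h1
    have c2 : Commute g t := h2
    exact (c1.inv_right.mul_right ((c2.mul_right c1).mul_right c2.inv_right)).eq
  obtain ⟨k, hk⟩ : ∃ k, orderOf z = p ^ (k + 1) := by
    obtain ⟨j, hj⟩ := (isPGroup_rad B3) ⟨z, hzR⟩
    obtain ⟨l, -, hl⟩ := (Nat.dvd_prime_pow hp.out).mp
      (orderOf_dvd_of_pow_eq_one (show z ^ p ^ j = 1 by simpa [Subtype.ext_iff] using hj))
    rcases l with _ | l
    · exact absurd (orderOf_eq_one_iff.mp (by simpa using hl)) hz1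
    · exact ⟨l, hl⟩
  refine ⟨a1, c1, a2, c2, z ^ p ^ k, D', pow_mem hzR _, fun e => ?_, ?_, ?_, ?_, ?_⟩
  · have := Nat.le_of_dvd (pow_pos hp.out.pos k) (hk ▸ orderOf_dvd_of_pow_eq_one e)
    have := Nat.pow_lt_pow_right hp.out.one_lt (Nat.lt_succ_self k)
    simp only [Nat.succ_eq_add_one] at *
    omega
  · rw [← pow_mul, ← pow_succ, ← hk, pow_orderOf_eq_one]
  · rw [← conj_pow, hzi, inv_pow]
  · exact ((show Commute (a1 * a2) z from hzc _ hxa
      ((Commute.mul_left (D'.lt F (by simp)) (D'.lt F (by simp))).eq)).pow_right _).eq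
  · exact ((show Commute (c1 * c2) z from hzc _ hxc'
      ((Commute.mul_left (D'.lt F (by simp)) (D'.lt F (by simp))).eq)).pow_right _).eq

end Cfsg.Agent.KlingerMason23
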