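import Mathlib
import Cfsg.Agent.Lib.KMFinal23

/-!
Klinger-Mason: the contradiction from a reflection of the second configuration, and the theorem.
-/

set_option autoImplicit false
set_option linter.style.haveILetI false

open Subgroup

namespace Cfsg.Agent.KlingerMason23

variable {G : Type*} [Group G] [Finite G] {p n : ℕ} [hp : Fact p.Prime]

theorem conj_mul_conj (g a b : G) : g * (a * b) * g⁻¹ = (g * a * g⁻¹) * (g * b * g⁻¹) := by group

theorem pow_two_mem {H : Subgroup G} (h : Hyp p n G) {x : G} (hx : x ^ p = 1) (hm : x * x ∈ H) : x ∈ H := by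
  obtain ⟨m, hm'⟩ := exists_sqrt h (a := x) ⟨1, by simpa using hx⟩
  rw [← hm', pow_two]
  exact pow_mem hm m

theorem mem_zpowers_prime {H : Subgroup G} {w d : G} (hw : w ^ p = 1) (hwH : w ∉ H) (hd : d ∈ zpowers w)
    (hdH : d ∈ H) : d = 1 := by
  by_contra hne
  obtain ⟨i, rfl⟩ := mem_zpowers_iff.mp hd
  refine hwH ((?_ : zpowers w ≤ H) (mem_zpowers w))
  have h1 : w ≠ 1 := fun e => hne (by rw [e, one_zpow])
  have hle : zpowers (w ^ i) ≤ zpowers w := zpowers_le.mpr hd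
  have heq : zpowers (w ^ i) = zpowers w := eq_of_le_of_card_ge hle (by
    rw [Nat.card_zpowers, Nat.card_zpowers, orderOf_eq_prime hw h1,
      orderOf_eq_prime (p := p) (by
        rw [← zpow_natCast, ← zpow_mul, mul_comm, zpow_mul, zpow_natCast, hw, one_zpow]) hne])
  rw [← heq]
  exact zpowers_le.mpr hdH

theorem mem_zpowers_three {x d : G} (hx : x ^ 3 = 1) (h : d ∈ zpowers x) : d = 1 ∨ d = x ∨ d = x * x := by
  obtain ⟨k, rfl⟩ := mem_zpowers_iff.mp h
  have e : x ^ k = x ^ (k % 3) := by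
    conv_lhs => rw [← Int.mul_ediv_add_emod k 3, zpow_add, zpow_mul, show x ^ (3 : ℤ) = 1 by exact_mod_cast hx,
      one_zpow, one_mul]
  rcases (show k % 3 = 0 ∨ k % 3 = 1 ∨ k % 3 = 2 by omega) with m | m | m <;> rw [e, m]
  · left; simp
  · right; left; simp
  · right; right; rw [show (2 : ℤ) = 1 + 1 from rfl, zpow_add, zpow_one]

/-- two inverted elements in the fixed-point situation of a four-group commute -/
theorem commute_of_klein (h : Hyp p n G) {R : Subgroup G} (hR : IsPGroup p R) {t g x y : G}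
    (hx : x ∈ R) (hy : y ∈ R) (htx : t * x * t⁻¹ = x⁻¹) (hty : t * y * t⁻¹ = y⁻¹)
    (hgx : g * x * g⁻¹ = x) (hgy : g * y * g⁻¹ = y⁻¹)
    (hfix : ∀ a ∈ R, t * a = a * t → g * a = a * g) : x * y = y * x := by
  have hpe : ∀ a ∈ R, ∃ k, a ^ p ^ k = 1 := fun a ha => by
    obtain ⟨k, hk⟩ := hR ⟨a, ha⟩
    exact ⟨k, by simpa [Subtype.ext_iff] using hk⟩
  set s := y * (x * x) * y with hs
  have hsR : s ∈ R := mul_mem (mul_mem hy (mul_mem hx hx)) hy
  obtain ⟨m, hm⟩ := exists_sqrt h (hpe s hsR)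
  obtain ⟨k, hk⟩ : ∃ k, k = s ^ m := ⟨_, rfl⟩
  have hkR : k ∈ R := hk ▸ pow_mem hsR m
  have hkk : k * k = s := by rw [hk, ← pow_two, ← pow_mul, mul_comm, pow_mul, hm]
  have hts : t * s * t⁻¹ = s⁻¹ := by
    rw [hs, conj_mul_conj, conj_mul_conj, conj_mul_conj, htx, hty]
    group
  have htk : t * k * t⁻¹ = k⁻¹ := by rw [hk, ← conj_pow, hts, inv_pow]
  have hta : t * (x * y * k⁻¹) * t⁻¹ = x * y * k⁻¹ := by
    calc t * (x * y * k⁻¹) * t⁻¹ = (t * x * t⁻¹) * (t * y * t⁻¹) * (t * k * t⁻¹)⁻¹ := by group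
      _ = x⁻¹ * y⁻¹ * (k * k) * k⁻¹ := by rw [htx, hty, htk]; group
      _ = _ := by rw [hkk, hs]; group
  have hga : g * (x * y * k⁻¹) * g⁻¹ = x * y * k⁻¹ :=
    conj_fix (hfix _ (mul_mem (mul_mem hx hy) (inv_mem hkR)) (comm_of_conj_fix hta))
  have hga' : x * y⁻¹ * (g * k * g⁻¹)⁻¹ = x * y * k⁻¹ := by
    calc x * y⁻¹ * (g * k * g⁻¹)⁻¹ = (g * x * g⁻¹) * (g * y * g⁻¹) * (g * k * g⁻¹)⁻¹ := by rw [hgx, hgy]
      _ = g * (x * y * k⁻¹) * g⁻¹ := by group
      _ = _ := hga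
  have hgk : g * k * g⁻¹ = k * (y⁻¹ * y⁻¹) := by
    calc g * k * g⁻¹ = (x * y⁻¹ * (g * k * g⁻¹)⁻¹)⁻¹ * (x * y⁻¹) := by group
      _ = _ := by rw [hga']; group
  have h2 : k * (y⁻¹ * y⁻¹) * (k * (y⁻¹ * y⁻¹)) = (y⁻¹ * y⁻¹) * (k * k) * (y⁻¹ * y⁻¹) := by
    rw [← hgk, ← conj_mul_conj, hkk, hs, conj_mul_conj, conj_mul_conj, conj_mul_conj, hgx, hgy]
    group
  have hc : Commute k (y⁻¹ * y⁻¹) := by
    show k * (y⁻¹ * y⁻¹) = y⁻¹ * y⁻¹ * k
    calc k * (y⁻¹ * y⁻¹) = k * (y⁻¹ * y⁻¹) * (k * (y⁻¹ * y⁻¹)) * (k * (y⁻¹ * y⁻¹))⁻¹ := by group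
      _ = _ := by rw [h2]; group
  have hky : Commute k y := by
    obtain ⟨m', hm'⟩ := exists_sqrt h (hpe y⁻¹ (inv_mem hy))
    rw [← Commute.inv_right_iff, ← hm', pow_two]
    exact hc.pow_right m'
  have hxx : Commute (x * x) y := by
    have e : x * x = y⁻¹ * (k * k) * y⁻¹ := by rw [hkk, hs]; group
    rw [e]
    exact (((Commute.refl y).inv_left).mul_left (hky.mul_left hky)).mul_left (Commute.refl y).inv_left
  obtain ⟨m', hm'⟩ := exists_sqrt h (hpe x hx)
  rw [← hm', pow_two]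
  exact (hxx.pow_left m').eq

variable {f g w : G} {B2 : Subgroup G}

/-- the reflection kills a piece -/
theorem reflection_false (h : Hyp p n G) (F : Frame p n f B2) {K : Subgroup G} (C : Crit f B2 K)
    {H : Subgroup G} (hH : H ≤ B2) (hc : Nat.card H * p = Nat.card B2) {B3 : Subgroup G} (hB3 : B3 ≤ B2)
    (hB3H : ¬ B3 ≤ H) (hgB3 : ∀ e ∈ B3, g * e = e * g) (hw : w ∈ B2) (hwH : w ∉ H) (hgf : g * f = f * g)
    (hgg : g * g = 1) (hgw : g * w * g⁻¹ = w⁻¹) (hdev : ∀ e ∈ B2, g * e * g⁻¹ * e⁻¹ ∈ zpowers w)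
    {a v b0 : G} (P : Piece f B2 K H a v b0) : False := by
  haveI : Fact (Nat.Prime 2) := ⟨Nat.prime_two⟩
  have hgi : g⁻¹ = g := inv_eq_of_mul_eq_one_right hgg
  have hgB2 : ∀ e ∈ B2, g * e * g⁻¹ ∈ B2 := fun e he => by
    have := mul_mem ((zpowers_le.mpr hw) (hdev e he)) he
    simpa using this
  have hfixH : ∀ e ∈ H, g * e * g⁻¹ ∈ H → g * e = e * g := fun e he hge =>
    comm_of_conj_fix (mul_inv_eq_one.mp (mem_zpowers_prime (F.hB.2 w hw) hwH (hdev e (hH he))
      (mul_mem hge (inv_mem he))))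
  set H' := H.map (MulAut.conj g).toMonoidHom with hH'def
  have hH' : H' ≤ B2 := by
    rintro _ ⟨e, he, rfl⟩
    exact hgB2 e (hH he)
  have hc' : Nat.card H' * p = Nat.card B2 := by
    rw [hH'def, Subgroup.card_map_of_injective (MulAut.conj g).injective, hc]
  have hne : ¬ H' ≤ H := fun hle => by
    obtain ⟨e, he, heH⟩ := SetLike.not_le_iff_exists.mp hB3H
    have hsup : H ⊔ zpowers e = B2 := eq_of_le_of_card_ge (sup_le hH (zpowers_le.mpr (hB3 he)))
      (hc ▸ mul_card_le_sup (F.hB.2 e (hB3 he)) heH)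
    have hwg : w * g = g * w := mem_sup_zpowers_commute
      (fun a ha => (hfixH a ha (hle ⟨a, ha, rfl⟩)).symm) (hgB3 e he).symm w (hsup.symm ▸ hw)
    rw [conj_fix hwg.symm] at hgw
    exact hwH (by rw [eq_one_of_inverted h (F.hB.2 w hw) hgw]; exact one_mem _)
  have hsup : B2 ≤ H ⊔ H' := sup_hyper F.hB hH hH' hc hne
  obtain ⟨hbig, hne'⟩ := card_inf_hyper F hH hH' hc hc'
  have hfix : ∀ e ∈ H ⊓ H', g * e = e * g := by
    rintro e ⟨he, e0, he0, rfl⟩
    refine hfixH _ he ?_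
    show g * (g * e0 * g⁻¹) * g⁻¹ ∈ H
    rw [hgi, show g * (g * e0 * g) * g = (g * g) * e0 * (g * g) by group, hgg]
    simpa using he0
  obtain ⟨c0, hc0, hanti⟩ := P.pair h C F
  have Pc := P.conj C F hH hc0
  set c := c0 * a * c0⁻¹
  have hac : a * c = f * (c * a) := anti_symm F.tt hanti
  have haK := P.mem C F
  have hcK := Pc.mem C F
  have hconj : ∀ {l v' b' : G}, Piece f B2 K H l v' b' →
      g * l * g⁻¹ ∈ K ∧ ∀ e ∈ H', e * (g * l * g⁻¹) = (g * l * g⁻¹) * e := fun Q =>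
    ⟨C.conj hgf (Q.mem C F), fun e he => by
      obtain ⟨e0, he0, rfl⟩ := he
      exact comm_conj g (Q.hwH e0 he0)⟩
  obtain ⟨ha', ha'H⟩ := hconj P
  obtain ⟨hc'K, hc'H⟩ := hconj Pc
  have hgfg : g * f * g⁻¹ = f := conj_fix hgf
  set a' := g * a * g⁻¹ with ha'def
  set c' := g * c * g⁻¹ with hc'def
  have haa : a * a' = a' * a := cross_commute P C F hH hH' hsup ha' ha'H
  have hac' : a * c' = c' * a := cross_commute P C F hH hH' hsup hc'K hc'H
  have hca' : c * a' = a' * c := cross_commute Pc C F hH hH' hsup ha' ha'H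
  have hcc : c * c' = c' * c := cross_commute Pc C F hH hH' hsup hc'K hc'H
  have hanti' : a' * c' = f * (c' * a') := by rw [ha'def, hc'def, anti_conj g hac, hgfg]
  have hA2 : (a * a') ^ 2 = 1 := by rw [Commute.mul_pow haa, P.sq, ha'def, conj_pow, P.sq, hgfg, F.tt]
  have hC2 : (c * c') ^ 2 = 1 := by rw [Commute.mul_pow hcc, Pc.sq, hc'def, conj_pow, Pc.sq, hgfg, F.tt]
  have hAc : a * a' * c = f * (c * (a * a')) := anti_comm hac hca'.symm
  have hCa : c * c' * a = f * (a * (c * c')) := anti_comm (anti_symm F.tt hac) hac'.symm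
  have hfa : f * a = a * f := (C.tc F haK).symm
  have hfc : f * c = c * f := (C.tc F hcK).symm
  have hfA : f * (a * a') = a * a' * f := (C.tc F (mul_mem haK ha')).symm
  have hfC : f * (c * c') = c * c' * f := (C.tc F (mul_mem hcK hc'K)).symm
  have hAC : a * a' * (c * c') = c * c' * (a * a') := by
    calc a * a' * (c * c') = (a * a' * c) * c' := by group
      _ = f * c * (a * (a' * c')) := by rw [hAc]; group
      _ = f * c * ((a * f) * (c' * a')) := by rw [hanti']; group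
      _ = f * (c * f) * (a * c') * a' := by rw [← hfa]; group
      _ = (f * f) * (c * (c' * a) * a') := by rw [← hfc, hac']; group
      _ = _ := by rw [F.tt]; group
  have hgl : ∀ l l' : G, l' = g * l * g⁻¹ → l * l' = l' * l → g * (l * l') = l * l' * g := by
    rintro l _ rfl hcom
    refine comm_of_conj_fix ?_
    rw [conj_mul_conj]
    have : g * (g * l * g⁻¹) * g⁻¹ = l := by
      rw [hgi, show g * (g * l * g) * g = (g * g) * l * (g * g) by group, hgg, one_mul, mul_one]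
    rw [this, ← hcom]
  have hgA := hgl a a' rfl haa
  have hgC := hgl c c' rfl hcc
  have hgU : g ∉ radTwo (zpowers f) := fun hm => by
    have hwf : w * f = f * w := F.hc w hw
    have h1 : g * w * g⁻¹ * w⁻¹ ∈ radTwo (zpowers f) := by
      rw [show g * w * g⁻¹ * w⁻¹ = g * (w * g⁻¹ * w⁻¹) by group]
      exact mul_mem hm (conj_mem_radTwo hwf (inv_mem hm))
    rw [hgw] at h1
    obtain ⟨i, hi⟩ := isPGroup_radTwo (zpowers f) ⟨_, h1⟩
    have e : w⁻¹ * w⁻¹ = 1 := pow_half (hyp_coprime h i) (by simpa [Subtype.ext_iff] using hi)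
      (F.hB.2 _ (mul_mem (inv_mem hw) (inv_mem hw)))
    exact hwH (pow_two_mem h (F.hB.2 w hw) (by
      rw [show w * w = (w⁻¹ * w⁻¹)⁻¹ by rw [mul_inv_rev, inv_inv], e, inv_one]; exact one_mem _))
  have e1 := mul_card_le_sup (q := 2) (E := zpowers f) hA2 fun hm =>
    anti_ne F.ht1 hAc (commute_zpowers hfc _ hm)
  have e2 := mul_card_le_sup (q := 2) (E := zpowers f ⊔ zpowers (a * a')) hC2 fun hm =>
    anti_ne F.ht1 hCa (mem_sup_zpowers_commute (commute_zpowers hfa)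
      ((Commute.refl a).mul_left haa.symm).eq _ hm)
  have e3 := mul_card_le_sup (q := 2) (E := (zpowers f ⊔ zpowers (a * a')) ⊔ zpowers (c * c'))
    (x := g) (by rw [pow_two, hgg]) fun hm => hgU
      ((sup_le (sup_le (le_radTwo F.isPGroup_t) (zpowers_le.mpr (C.le (mul_mem haK ha'))))
        (zpowers_le.mpr (C.le (mul_mem hcK hc'K)))) hm)
  rw [card_zt F] at e1
  have hE : Elem 2 (((zpowers f ⊔ zpowers (a * a')) ⊔ zpowers (c * c')) ⊔ zpowers g) :=
    (((elem_zpowers F.ht).sup_zpowers hA2 (commute_zpowers hfA)).sup_zpowers hC2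
      (mem_sup_zpowers_commute (commute_zpowers hfC) hAC)).sup_zpowers (by rw [pow_two, hgg])
      (mem_sup_zpowers_commute (mem_sup_zpowers_commute (commute_zpowers hgf.symm) hgA.symm) hgC.symm)
  have hcent : Cent (H ⊓ H') (((zpowers f ⊔ zpowers (a * a')) ⊔ zpowers (c * c')) ⊔ zpowers g) :=
    Cent.sup_zpowers (Cent.sup_zpowers (Cent.sup_zpowers (fun e he l hl =>
      (commute_zpowers (F.hc e (hH he.1)).symm l hl).symm)
      fun e he => ((show Commute e a from P.hwH e he.1).mul_right (ha'H e he.2)).eq)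
      fun e he => ((show Commute e c from Pc.hwH e he.1).mul_right (hc'H e he.2)).eq)
      fun e he => (hfix e he).symm
  have := sum_bound h (F.hB.mono (inf_le_left.trans hH)) hne' hE
    (ne_bot_of_le_ne_bot F.zt_ne_bot (le_sup_left.trans (le_sup_left.trans le_sup_left))) hcent hbig
    (r := 4) (by omega)
  have := F.hn
  omega

/-- no involution centralises an elementary abelian `p`-subgroup of maximal rank at least three -/
theorem no_frame (h : Hyp p n G) {t : G} {B : Subgroup G} (F : Frame p n t B) : False := by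
  haveI : Fact (Nat.Prime 2) := ⟨Nat.prime_two⟩
  obtain ⟨B3, x1₀, y1₀, x2₀, y2₀, D0, rfl⟩ := exists_pieces h F
  obtain ⟨x1, y1, x2, y2, x, D, hxR, hx1, hxp, htx, hfx, hfx'⟩ := exists_xy h F D0
  obtain ⟨hf1, hfy1, hf'x1, -⟩ := D.f_x1 F
  have hff := D.ff F
  obtain ⟨hf2, hf2'⟩ := D.f_sq F
  have hm1 : x1 ∈ ({x1, y1, x2, y2} : Set G) := by simp
  have hx1t := D.lt F hm1
  set f := x1 * x2 with hf
  set f' := y1 * y2 with hf'
  have hf't : f' * t = t * f' := (Commute.mul_left (D.lt F (by simp)) (D.lt F (by simp))).eq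
  have hft : f * t = t * f := (Commute.mul_left (D.lt F (by simp)) (D.lt F (by simp))).eq
  have hfne : f ≠ 1 := fun e => by
    rw [e] at hfy1
    exact anti_ne F.ht1 hfy1 (by simp)
  set y := x1 * x * x1⁻¹ with hy
  have hx1B : x1 ∈ centralizer (B3 : Set G) := Subgroup.mem_centralizer_iff.mpr (D.mem x1 hm1).2
  have hyR : y ∈ rad 3 B3 := rad_conj hx1B hxR
  have hyp : y ^ 3 = 1 := by rw [hy, conj_pow, hxp]; group
  have hy1 : y ≠ 1 := fun e => hx1 (conj_eq_one_iff.mp e)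
  have hf'i : f'⁻¹ = f' := inv_eq_of_mul_eq_one_right (by rw [← pow_two, hf2'])
  have hty : t * y * t⁻¹ = y⁻¹ := by
    calc t * y * t⁻¹ = (t * x1) * x * (t * x1)⁻¹ := by rw [hy]; group
      _ = x1 * (t * x * t⁻¹) * x1⁻¹ := by rw [← hx1t]; group
      _ = _ := by rw [htx, hy]; group
  have hfy : f * y = y * f := by
    have c1 : Commute f x1 := hf1
    exact ((c1.mul_right (show Commute f x from hfx)).mul_right c1.inv_right).eq
  have hf'y : f' * y * f'⁻¹ = y⁻¹ := by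
    calc f' * y * f'⁻¹ = (f' * x1) * x * (f' * x1)⁻¹ := by rw [hy]; group
      _ = t * x1 * (f' * x * f'⁻¹) * (t * x1)⁻¹ := by rw [hf'x1]; group
      _ = t * y * t⁻¹ := by rw [conj_fix hfx', hy]; group
      _ = _ := hty
  have hf'mem : f' ∈ radTwo (zpowers t) ∧ ∀ e ∈ B3, e * f' = f' * e :=
    ⟨mul_mem (D.mem y1 (by simp)).1 (D.mem y2 (by simp)).1, fun e he =>
      ((show Commute e y1 from (D.mem y1 (by simp)).2 e he).mul_right ((D.mem y2 (by simp)).2 e he)).eq⟩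
  have hxy : x * y = y * x := commute_of_klein h (isPGroup_rad B3) hxR hyR htx hty (conj_fix hfx') hf'y
    fun a ha hat => disjoint_commute h hf'mem.1 hf'mem.2 ha hat.symm
  -- the new frame
  have hBx : ∀ e ∈ B3, e * x = x * e := Subgroup.mem_centralizer_iff.mp (rad_le B3 hxR)
  have hBy : ∀ e ∈ B3, e * y = y * e := Subgroup.mem_centralizer_iff.mp (rad_le B3 hyR)
  have hBt : ∀ e ∈ B3, e * t = t * e := fun e he => F.hc e (D.le he)
  have hBf : ∀ e ∈ B3, e * f = f * e := fun e he =>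
    ((show Commute e x1 from (D.mem x1 hm1).2 e he).mul_right ((D.mem x2 (by simp)).2 e he)).eq
  set B2 := (B3 ⊔ zpowers x) ⊔ zpowers y with hB2
  have hB2el : Elem 3 B2 := ((F.hB.mono D.le).sup_zpowers hxp hBx).sup_zpowers hyp
    (mem_sup_zpowers_commute hBy hxy)
  have hxB3 : x ∉ B3 := fun hm => by
    rw [conj_fix (hBt x hm).symm] at htx
    exact hx1 (eq_one_of_inverted h hxp htx)
  have hyB : y ∉ B3 ⊔ zpowers x := fun hm => by
    rw [conj_fix (mem_sup_zpowers_commute hf'mem.2 hfx'.symm y hm).symm] at hf'y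
    exact hy1 (eq_one_of_inverted h hyp hf'y)
  have hfB2 : ∀ e ∈ B2, e * f = f * e :=
    mem_sup_zpowers_commute (mem_sup_zpowers_commute hBf hfx.symm) hfy.symm
  have hB2ne : B2 ≠ ⊥ := ne_bot_of_le_ne_bot D.ne (le_sup_left.trans le_sup_left)
  have hcard : Nat.card B2 = 3 ^ n := by
    refine le_antisymm (h.bound B2 hB2el hB2ne f hf2 hfne hfB2) ?_
    have e1 := mul_card_le_sup hxp hxB3
    have e2 := mul_card_le_sup hyp hyB
    have e3 := D.big
    have hn := F.hn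
    calc 3 ^ n = 3 ^ (n - 2) * 3 * 3 := by rw [← pow_succ, ← pow_succ]; congr 1; omega
      _ ≤ Nat.card (B3 ⊔ zpowers x : Subgroup G) * 3 := by
        refine Nat.mul_le_mul_right 3 ?_
        exact (Nat.mul_le_mul_right 3 e3).trans e1
      _ ≤ _ := e2
  have F2 : Frame 3 n f B2 := ⟨hB2el, hcard, F.hn, hf2, hfne, hfB2⟩
  obtain ⟨K, C⟩ := exists_crit h F2
  have hxB2 : x ∈ B2 := mem_sup_left (mem_sup_right (mem_zpowers x))
  have hyB2 : y ∈ B2 := mem_sup_right (mem_zpowers y)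
  have hB3le : B3 ≤ B2 := le_sup_left.trans le_sup_left
  obtain ⟨H, hH, hc, hxH, v0, hv0, hv0c, hv0n⟩ := exists_piece_avoid h F2 C hxB2 hx1
  have hB3H : ¬ B3 ≤ H := fun hle =>
    hv0n (disjoint_commute h (C.le hv0) (fun e he => hv0c e (hle he)) hxR hfx.symm).symm
  obtain ⟨a, v, b0, P⟩ := exists_piece h C F2 hH hv0 hxB2 hv0c hv0n
  have hsup : H ⊔ zpowers x = B2 :=
    eq_of_le_of_card_ge (sup_le hH (zpowers_le.mpr hxB2)) (hc ▸ mul_card_le_sup hxp hxH)
  have hdevs : ∀ {g w : G}, w ∈ B2 → (∀ e ∈ B3, g * e = e * g) → g * x * g⁻¹ * x⁻¹ ∈ zpowers w →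
      g * y * g⁻¹ * y⁻¹ ∈ zpowers w → ∀ e ∈ B2, g * e * g⁻¹ * e⁻¹ ∈ zpowers w := by
    intro g w hwB hgB hgx hgy e he
    have hmul : ∀ a ∈ B2, ∀ b ∈ B2, g * a * g⁻¹ * a⁻¹ ∈ zpowers w → g * b * g⁻¹ * b⁻¹ ∈ zpowers w →
        g * (a * b) * g⁻¹ * (a * b)⁻¹ ∈ zpowers w := by
      intro a ha b hb h1 h2
      have e : g * (a * b) * g⁻¹ * (a * b)⁻¹ =
          (g * a * g⁻¹ * a⁻¹) * (a * (g * b * g⁻¹ * b⁻¹) * a⁻¹) := by group
      rw [e, conj_fix (hB2el.1 a ha _ ((zpowers_le.mpr hwB) h2))]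
      exact mul_mem h1 h2
    have hcl : B2 = closure ((B3 : Set G) ∪ {x} ∪ {y}) := by
      rw [hB2, Subgroup.closure_union, Subgroup.closure_union, closure_eq, ← zpowers_eq_closure,
        ← zpowers_eq_closure]
    rw [hcl] at he
    induction he using closure_induction with
    | mem z hz =>
      rcases hz with (hz | rfl) | rfl
      · rw [conj_fix (hgB z hz), mul_inv_cancel]; exact one_mem _
      · exact hgx
      · exact hgy
    | one => simp
    | mul a b ha hb iha ihb => exact hmul a (hcl ▸ ha) b (hcl ▸ hb) iha ihb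
    | inv a ha iha =>
      have ha' : a ∈ B2 := hcl ▸ ha
      have e : g * a⁻¹ * g⁻¹ * a⁻¹⁻¹ = a⁻¹ * (g * a * g⁻¹ * a⁻¹)⁻¹ * a⁻¹⁻¹ := by group
      rw [e, conj_fix (hB2el.1 a⁻¹ (inv_mem ha') _ (inv_mem ((zpowers_le.mpr hwB) iha)))]
      exact inv_mem iha
  have htf'y : (t * f') * y * (t * f')⁻¹ = y := by
    calc (t * f') * y * (t * f')⁻¹ = t * (f' * y * f'⁻¹) * t⁻¹ := by group
      _ = (t * y * t⁻¹)⁻¹ := by rw [hf'y]; group
      _ = y := by rw [hty, inv_inv]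
  have hg2x : (x1 * f') * x * (x1 * f')⁻¹ = y := by
    calc (x1 * f') * x * (x1 * f')⁻¹ = x1 * (f' * x * f'⁻¹) * x1⁻¹ := by group
      _ = y := by rw [conj_fix hfx']
  have hx1f'x1 : x1 * (f' * x1) = f' := by
    calc x1 * (f' * x1) = (x1 * t) * x1 * f' := by rw [hf'x1]; group
      _ = t * (x1 * x1) * f' := by rw [hx1t]; group
      _ = _ := by rw [D.sq x1 hm1, F.tt, one_mul]
  have hg2y : (x1 * f') * y * (x1 * f')⁻¹ = x := by
    calc (x1 * f') * y * (x1 * f')⁻¹ = (x1 * (f' * x1)) * x * (x1 * (f' * x1))⁻¹ := by rw [hy]; group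
      _ = x := by rw [hx1f'x1]; exact conj_fix hfx'
  have hg3 : ∀ z : G, (t * (x1 * f')) * z * (t * (x1 * f'))⁻¹ =
      t * ((x1 * f') * z * (x1 * f')⁻¹) * t⁻¹ := fun z => by group
  have hgB : ∀ {l : G}, (∀ e ∈ B3, e * l = l * e) → ∀ e ∈ B3, l * e = e * l := fun hl e he => (hl e he).symm
  have hx1f : ∀ e ∈ B3, e * (x1 * f') = x1 * f' * e := fun e he =>
    ((show Commute e x1 from (D.mem x1 hm1).2 e he).mul_right (hf'mem.2 e he)).eq
  have hg2sq : x1 * f' * (x1 * f') = 1 := by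
    calc x1 * f' * (x1 * f') = x1 * (f' * x1) * f' := by group
      _ = f' * f' := by rw [hx1f'x1]
      _ = 1 := by rw [← pow_two, hf2']
  have hg2f : x1 * f' * f = f * (x1 * f') :=
    ((show Commute x1 f from hf1.symm).mul_left (show Commute f' f from hff.symm)).eq
  have hdiv : ∀ {z w : G}, z ∈ H → w * z = x * x ∨ w * z⁻¹ = x * x → w ∉ H := fun hz e hw => by
    rcases e with e | e
    · exact hxH (pow_two_mem h hxp (e ▸ mul_mem hw hz))
    · exact hxH (pow_two_mem h hxp (e ▸ mul_mem hw (inv_mem hz)))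
  -- the line in `H`
  obtain ⟨u, hu, d, hd, hud⟩ : ∃ u ∈ H, ∃ d ∈ zpowers x, u * d = y := by
    have hyB2' : y ∈ H ⊔ zpowers x := hsup.symm ▸ hyB2
    rw [← SetLike.mem_coe, coe_mul_of_right_le_normalizer_left _ _ (fun z hz =>
      centralizer_le_normalizer' _ (Subgroup.mem_centralizer_iff.mpr fun e he =>
        hB2el.1 e (hH he) z (zpowers_le.mpr hxB2 hz)))] at hyB2'
    obtain ⟨u, hu, d, hd, e⟩ := Set.mem_mul.mp hyB2'
    exact ⟨u, hu, d, hd, e⟩
  have hx3 : x * x * x = 1 := by rw [← hxp, pow_succ, pow_two]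
  rcases mem_zpowers_three hxp hd with hd' | hd' | hd' <;> rw [hd'] at hud
  · -- `y ∈ H`
    rw [mul_one] at hud; rw [hud] at hu
    refine reflection_false h F2 C hH hc hB3le hB3H (g := t * f') (w := x) (hgB fun e he =>
      ((show Commute e t from hBt e he).mul_right (hf'mem.2 e he)).eq) hxB2 hxH
      ((show Commute t f from hft.symm).mul_left (show Commute f' f from hff.symm)).eq ?_ ?_
      (hdevs hxB2 (hgB fun e he => ((show Commute e t from hBt e he).mul_right (hf'mem.2 e he)).eq) ?_ ?_) P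
    · calc t * f' * (t * f') = t * (f' * t) * f' := by group
        _ = (t * t) * (f' * f') := by rw [hf't]; group
        _ = 1 := by rw [F.tt, ← pow_two, hf2', one_mul]
    · calc t * f' * x * (t * f')⁻¹ = t * (f' * x * f'⁻¹) * t⁻¹ := by group
        _ = _ := by rw [conj_fix hfx', htx]
    · have : t * f' * x * (t * f')⁻¹ = x⁻¹ := by
        calc t * f' * x * (t * f')⁻¹ = t * (f' * x * f'⁻¹) * t⁻¹ := by group
          _ = _ := by rw [conj_fix hfx', htx]
      rw [this]; exact mul_mem (inv_mem (mem_zpowers x)) (inv_mem (mem_zpowers x))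
    · rw [htf'y, mul_inv_cancel]; exact one_mem _
  · -- `x⁻¹ * y ∈ H`
    have hu' : u = x⁻¹ * y := by
      rw [← hud, hB2el.1 u (hH hu) x hxB2]; group
    have hw : x * y ∈ B2 := mul_mem hxB2 hyB2
    have h3x : (t * (x1 * f')) * x * (t * (x1 * f'))⁻¹ = y⁻¹ := by rw [hg3, hg2x, hty]
    have h3y : (t * (x1 * f')) * y * (t * (x1 * f'))⁻¹ = x⁻¹ := by rw [hg3, hg2y, htx]
    have hgB3 := hgB fun e he => ((show Commute e t from hBt e he).mul_right (hx1f e he)).eq
    have htg : t * (x1 * f') = x1 * f' * t :=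
      ((show Commute t x1 from hx1t.symm).mul_right (show Commute t f' from hf't.symm)).eq
    refine reflection_false h F2 C hH hc hB3le hB3H (g := t * (x1 * f')) (w := x * y) hgB3 hw
      (hdiv hu (Or.inr (by rw [hu']; group)))
      ((show Commute t f from hft.symm).mul_left hg2f).eq ?_ ?_ (hdevs hw hgB3 ?_ ?_) P
    · calc t * (x1 * f') * (t * (x1 * f')) = t * ((x1 * f') * t) * (x1 * f') := by group
        _ = (t * t) * ((x1 * f') * (x1 * f')) := by rw [← htg]; group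
        _ = 1 := by rw [F.tt, hg2sq, one_mul]
    · rw [conj_mul_conj, h3x, h3y, ← mul_inv_rev]
    · rw [h3x, ← mul_inv_rev]; exact inv_mem (mem_zpowers _)
    · rw [h3y, ← mul_inv_rev, ← hxy]; exact inv_mem (mem_zpowers _)
  · -- `x * y ∈ H`
    have hu' : u = y * x := by
      calc u = u * (x * x * x) := by rw [hx3, mul_one]
        _ = (u * (x * x)) * x := by group
        _ = _ := by rw [hud]
    have hw : x * y⁻¹ ∈ B2 := mul_mem hxB2 (inv_mem hyB2)
    refine reflection_false h F2 C hH hc hB3le hB3H (g := x1 * f') (w := x * y⁻¹) (hgB hx1f) hw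
      (hdiv hu (Or.inl (by rw [hu']; group)))
      hg2f hg2sq ?_ (hdevs hw (hgB hx1f) ?_ ?_) P
    · rw [conj_mul_conj, show (x1 * f') * y⁻¹ * (x1 * f')⁻¹ = ((x1 * f') * y * (x1 * f')⁻¹)⁻¹ by group,
        hg2x, hg2y, mul_inv_rev, inv_inv]
    · rw [hg2x, show y * x⁻¹ = (x * y⁻¹)⁻¹ by group]; exact inv_mem (mem_zpowers _)
    · rw [hg2y]; exact mem_zpowers _

/-- a 2-local with a large elementary `p`-subgroup gives a frame -/
theorem exists_frame (h : Hyp p n G) {T : Subgroup G} (hT : IsPGroup 2 T) (hT1 : T ≠ ⊥)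
    {B : Subgroup G} (hB : Elem p B) (hBT : B ≤ normalizer (T : Set G)) {m : ℕ}
    (hm : Nat.card B = p ^ m) (hm2 : 2 ≤ m) : m ≤ n := by
  haveI : Fact (Nat.Prime 2) := ⟨Nat.prime_two⟩
  have hB1 : B ≠ ⊥ := fun e => by
    rw [e, Subgroup.card_bot] at hm
    have := Nat.one_lt_pow (by omega : m ≠ 0) hp.out.one_lt
    omega
  set U := radTwo T with hU
  have hU2 : IsPGroup 2 U := isPGroup_radTwo T
  haveI : Nontrivial U := (Subgroup.nontrivial_iff_ne_bot U).mpr (ne_bot_of_le_ne_bot hT1 (le_radTwo hT))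
  have hnt := IsPGroup.center_nontrivial hU2
  set Z := (center U).map U.subtype with hZ
  have hZc : ∀ a ∈ Z, ∀ u ∈ U, u * a = a * u := by
    rintro _ ⟨a, ha, rfl⟩ u hu
    exact congrArg Subtype.val (Subgroup.mem_center_iff.mp ha ⟨u, hu⟩)
  have hZU : Z ≤ U := map_subtype_le _
  set W := closure {a : G | a ∈ Z ∧ a ^ 2 = 1} with hW
  have hWZ : W ≤ Z := (closure_le _).mpr fun a ha => ha.1
  have hWel : Elem 2 W := elem_closure (fun a ha b hb => hZc b hb.1 a (hZU ha.1)) fun a ha => ha.2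
  have hW1 : W ≠ ⊥ := by
    intro e
    obtain ⟨a, ha⟩ := exists_ne (1 : center U)
    have hne : ((a : U) : G) ≠ 1 := fun e' => ha (Subtype.ext (Subtype.ext e'))
    obtain ⟨k, hk⟩ := hU2 (a : U)
    replace hk : ((a : U) : G) ^ 2 ^ k = 1 := by
      simpa [Subtype.ext_iff] using hk
    have hZa : ((a : U) : G) ∈ Z := ⟨_, a.2, rfl⟩
    generalize ((a : U) : G) = z at hne hk hZa
    induction k generalizing z with
    | zero => exact hne (by simpa using hk)
    | succ k ih =>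
      by_cases hz2 : z ^ 2 = 1
      · exact hne (Subgroup.mem_bot.mp (e ▸ (subset_closure ⟨hZa, hz2⟩ : z ∈ W)))
      · exact ih (z ^ 2) hz2 (by rw [← pow_mul, ← pow_succ']; exact hk) (pow_mem hZa 2)
  have hkey : ∀ b ∈ B, ∀ a ∈ W, b * a * b⁻¹ ∈ W := by
    intro b hb a ha
    have hZn : ∀ z ∈ Z, b * z * b⁻¹ ∈ Z := by
      intro z hz
      refine ⟨⟨_, radTwo_conj (hBT hb) (hZU hz)⟩, Subgroup.mem_center_iff.mpr fun u => Subtype.ext ?_, rfl⟩
      have hu : b⁻¹ * u * b⁻¹⁻¹ ∈ U := radTwo_conj (inv_mem (hBT hb)) u.2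
      have := comm_conj b (hZc z hz _ hu)
      rwa [show b * (b⁻¹ * (u : G) * b⁻¹⁻¹) * b⁻¹ = u by group] at this
    have : W ≤ W.comap (MulAut.conj b).toMonoidHom := by
      refine (closure_le _).mpr fun z hz => subset_closure ⟨hZn z hz.1, ?_⟩
      show (b * z * b⁻¹) ^ 2 = 1
      rw [conj_pow, hz.2]; group
    exact this ha
  obtain ⟨u, hu, hu1⟩ := W.bot_or_exists_ne_one.resolve_left hW1
  by_cases hcen : ∀ b ∈ B, ∀ a ∈ W, b * a = a * b
  · exact (Nat.pow_le_pow_iff_right hp.out.one_lt).mp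
      (hm ▸ h.bound B hB hB1 u (hWel.2 u hu) hu1 fun b hb => hcen b hb u hu)
  by_contra hmn
  refine hcen fun b hb a ha => (Subgroup.mem_centralizer_iff.mp ((?_ : W ≤ centralizer (B : Set G)) ha) b hb)
  refine gen_hyperplanes hB hB1 (fun b hb => Subgroup.mem_normalizer_iff.mpr fun z =>
      ⟨hkey b hb z, fun hz => by simpa [mul_assoc] using hkey b⁻¹ (inv_mem hb) _ hz⟩)
    (coprime_card h.hp2 hB.isPGroup hWel.isPGroup) fun B1 hB1' hc x hx hxc =>
      Subgroup.mem_centralizer_iff.mpr fun b hb => ?_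
  by_contra hne
  have hx1 : x ≠ 1 := fun e => hne (by simp [e])
  have hxb : b * x * b⁻¹ ∈ W := hkey b hb x hx
  have hnot : b * x * b⁻¹ ∉ zpowers x := fun hmem => by
    rcases mem_zpowers_sq (hWel.2 x hx) hmem with e | e
    · exact hx1 (conj_eq_one_iff.mp e)
    · exact hne (comm_of_conj_fix e)
  have hcard := mul_card_le_sup (q := 2) (hWel.2 _ hxb) hnot
  rw [Nat.card_zpowers, orderOf_eq_prime (hWel.2 x hx) hx1] at hcard
  have hc' : p ^ (m - 1) ≤ Nat.card B1 ∧ B1 ≠ ⊥ := by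
    rw [hm, show p ^ m = p ^ (m - 1) * p by rw [← pow_succ]; congr 1; omega] at hc
    have hc' := Nat.eq_of_mul_eq_mul_right hp.out.pos hc
    refine ⟨hc'.ge, fun e => ?_⟩
    rw [e, Subgroup.card_bot] at hc'
    have := Nat.one_lt_pow (by omega : m - 1 ≠ 0) hp.out.one_lt
    omega
  have := sum_bound h (hB.mono hB1') hc'.2 (hWel.mono (sup_le (zpowers_le.mpr hx) (zpowers_le.mpr hxb)))
    (ne_bot_of_le_ne_bot (fun e => hx1 (Subgroup.mem_bot.mp (e ▸ mem_zpowers x))) le_sup_left)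
    (Cent.sup_zpowers (fun e he f hf => (commute_zpowers (hxc e he).symm f hf).symm) fun e he => by
      have c1 : Commute e b := hB.1 e (hB1' he) b hb
      exact ((c1.mul_right (hxc e he)).mul_right c1.inv_right).eq) hc'.1 (r := 2) (by simpa using hcard)
  omega

/-- **Klinger-Mason** -/
theorem two_local_rank_le_two {p : ℕ} [Fact p.Prime] (hp2 : p ≠ 2)
    (hloc : Cfsg.IsOfLocalCharacteristic p G) (htwo : Cfsg.IsCharacteristicTwoType G)
    {T : Subgroup G} (hT : IsPGroup 2 T) (hT1 : T ≠ ⊥) {B : Subgroup G} (hB : Elem p B)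
    (hBT : B ≤ normalizer (T : Set G)) : Nat.card B ≤ p ^ 2 := by
  classical
  by_contra hlt
  let S : Set ℕ := {m | ∃ A : Subgroup G, Elem p A ∧ Nat.card A = p ^ m ∧
    ∃ u : G, u ^ 2 = 1 ∧ u ≠ 1 ∧ ∀ b ∈ A, b * u = u * b}
  have hbdd : BddAbove S := ⟨Nat.card G, fun m hm => by
    obtain ⟨A, -, hA, -⟩ := hm
    exact (Nat.lt_pow_self (Fact.out : p.Prime).one_lt).le.trans (hA ▸ Subgroup.card_le_card_group A)⟩
  have hyp : Hyp p (sSup S) G := ⟨hp2, hloc, htwo, fun A hA _ u hu hu1 hc => by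
    obtain ⟨m, hm⟩ := hA.isPGroup.exists_card_eq
    exact hm ▸ Nat.pow_le_pow_right (Fact.out : p.Prime).pos (le_csSup hbdd ⟨A, hA, hm, u, hu, hu1, hc⟩)⟩
  obtain ⟨m, hm⟩ := hB.isPGroup.exists_card_eq
  have hm3 : 3 ≤ m := by
    by_contra h'
    exact hlt (hm ▸ Nat.pow_le_pow_right (Fact.out : p.Prime).pos (by omega))
  have hle := exists_frame hyp hT hT1 hB hBT hm (by omega)
  have hne : S.Nonempty := by
    by_contra hS
    rw [Set.not_nonempty_iff_eq_empty.mp hS, csSup_empty] at hle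
    simp only [Nat.bot_eq_zero] at hle
    omega
  obtain ⟨A, hA, hcard, u, hu, hu1, hc⟩ := Nat.sSup_mem hne hbdd
  exact no_frame hyp (t := u) (B := A) ⟨hA, hcard, hm3.trans hle, hu, hu1, hc⟩

end Cfsg.Agent.KlingerMason23
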