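import Cfsg.Prelude.Def_Blocks
import Cfsg.Prelude.Def_Transfer

/-!
Interface for blocks with three characters: the block with normal elementary abelian defect group,
its invariant version, and the configuration with two characters trivial on the defect group.
-/

set_option autoImplicit false

namespace Cfsg.Agent.KThree57

open Cfsg

attribute [local instance] Classical.propDecidable

universe u

/-- A block with a normal elementary abelian nontrivial defect group and at most three members. -/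
structure Blk (p : ℕ) [Fact p.Prime] (M : Ideal AlgInt) (G : Type u) [Group G] [Fintype G]
    (V : Subgroup G) (B : Set (IrrCharacter G)) : Prop where
  hM : IsPModular p M
  normal : V.Normal
  elem : IsElementaryAbelian p V
  ne_bot : V ≠ ⊥
  hB : IsPBlock M B
  hD : IsDefectGroup p M B V
  card_le : Nat.card B ≤ 3

/-- The invariant version: `θ` is the canonical character of `C_G(V)`, fixed by all of `G`. -/
structure Inv (p : ℕ) [Fact p.Prime] (M : Ideal AlgInt) (G : Type u) [Group G] [Fintype G]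
    (V : Subgroup G) (B : Set (IrrCharacter G))
    (θ : IrrCharacter (Subgroup.centralizer (V : Set G))) : Prop extends Blk p M G V B where
  trivial_on : ∀ n : Subgroup.centralizer (V : Set G), (n : G) ∈ V →
    (θ : Subgroup.centralizer (V : Set G) → ℂ) n = (θ : Subgroup.centralizer (V : Set G) → ℂ) 1
  invariant : ∀ (g : G) (n n' : Subgroup.centralizer (V : Set G)), (n' : G) = g * n * g⁻¹ →
    (θ : Subgroup.centralizer (V : Set G) → ℂ) n' = (θ : Subgroup.centralizer (V : Set G) → ℂ) n
  over : ∀ χ : IrrCharacter G,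
    classInner (fun n : Subgroup.centralizer (V : Set G) => (χ : G → ℂ) n)
      (θ : Subgroup.centralizer (V : Set G) → ℂ) ≠ 0 → χ ∈ B
  covers : ∀ χ ∈ B, ∀ η : IrrCharacter (Subgroup.centralizer (V : Set G)),
    classInner (fun n : Subgroup.centralizer (V : Set G) => (χ : G → ℂ) n)
      (η : Subgroup.centralizer (V : Set G) → ℂ) ≠ 0 →
    η ∈ blockOf M (θ : Subgroup.centralizer (V : Set G) → ℂ)

/-- The configuration left over: two members trivial on `V`, one other member, `G` transitive
on the nontrivial elements of `V`. -/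
structure Two (p : ℕ) [Fact p.Prime] (M : Ideal AlgInt) (G : Type u) [Group G] [Fintype G]
    (V : Subgroup G) (B : Set (IrrCharacter G))
    (θ : IrrCharacter (Subgroup.centralizer (V : Set G))) (X₁ X₂ Y : IrrCharacter G) : Prop
    extends Inv p M G V B θ where
  ne12 : X₁ ≠ X₂
  ne1Y : X₁ ≠ Y
  ne2Y : X₂ ≠ Y
  eq_set : B = {X₁, X₂, Y}
  trivial1 : ∀ v ∈ V, (X₁ : G → ℂ) v = (X₁ : G → ℂ) 1
  trivial2 : ∀ v ∈ V, (X₂ : G → ℂ) v = (X₂ : G → ℂ) 1
  sum_coset : ∀ g : G, ∑ v : V, (Y : G → ℂ) (g * v) = 0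
  value : ∀ v ∈ V, v ≠ 1 → ((Nat.card V : ℂ) - 1) * (Y : G → ℂ) v = -(Y : G → ℂ) 1
  transitive : ∀ v ∈ V, ∀ w ∈ V, v ≠ 1 → w ≠ 1 → ∃ g : G, g * v * g⁻¹ = w

/-- The pure group-theoretic end: a coprime transitive group of automorphisms. -/
def IsCore (p : ℕ) (V : Type u) [Group V] [Finite V] (E : Subgroup (MulAut V)) : Prop :=
  ¬ p ∣ Nat.card E ∧
  (∀ v w : V, v ≠ 1 → w ≠ 1 → ∃ e ∈ E, e v = w) ∧
  (∃ k : ℕ, Nat.card E = k ^ 2 * (Nat.card V - 1)) ∧
  (∃ a b : ℕ, Nat.card E = a ^ 2 + b ^ 2) ∧
  (∀ x y : E, (∀ v : V, (x : MulAut V) v = v → v = 1) → (∀ v : V, (y : MulAut V) v = v → v = 1) →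
    IsCyclic (Subgroup.centralizer ({x} : Set E)) → IsCyclic (Subgroup.centralizer ({y} : Set E)) →
    IsConj x y)

end Cfsg.Agent.KThree57
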