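import Mathlib
import Cfsg.Agent.Lib.KThree57Defs
import Cfsg.Agent.S3430

/-!
The group-theoretic end of the three-character block theorem: a coprime transitive linear group
whose order is both `k² (q - 1)` and a sum of two squares, and whose fixed-point-free elements
with cyclic centraliser form one class, lives on a space of at most three points.
-/

set_option autoImplicit false

namespace Cfsg.Agent.KThree57.Core93

universe u

open Module Polynomial

/-! ### Arithmetic -/

theorem sq_sum_three {N a b s : ℕ} (hN : N ≠ 0) (h : N = a ^ 2 + b ^ 2) (hs : s.Prime)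
    (h3 : s % 4 = 3) (h1 : s ∣ N) (h2 : ¬ s ^ 2 ∣ N) : False := by
  have : Fact s.Prime := ⟨hs⟩
  have hv := Nat.eq_sq_add_sq_iff.mp ⟨a, b, h⟩ s (Nat.mem_primeFactors.mpr ⟨hs, h1, hN⟩) h3
  have e1 : 1 ≤ padicValNat s N := (padicValNat_dvd_iff_le hN).mp (by rwa [pow_one])
  have e2 : ¬ 2 ≤ padicValNat s N := fun e => h2 ((padicValNat_dvd_iff_le hN).mpr e)
  obtain ⟨r, hr⟩ := hv
  omega

theorem not_three_mod_four {k j m a b : ℕ} (hk : k ≠ 0)
    (h : k ^ 2 * 2 ^ j * m = a ^ 2 + b ^ 2) : m % 4 ≠ 3 := by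
  intro hm
  have hm0 : m ≠ 0 := by omega
  have hsum : ∃ c d : ℕ, m = c ^ 2 + d ^ 2 := by
    refine Nat.eq_sq_add_sq_iff.mpr fun q hq hq3 => ?_
    obtain ⟨hqp, hqm, -⟩ := Nat.mem_primeFactors.mp hq
    have : Fact q.Prime := ⟨hqp⟩
    have hne : k ^ 2 * 2 ^ j ≠ 0 := mul_ne_zero (pow_ne_zero _ hk) (by positivity)
    have hv := Nat.eq_sq_add_sq_iff.mp ⟨a, b, h⟩ q
      (Nat.mem_primeFactors.mpr ⟨hqp, hqm.mul_left _, mul_ne_zero hne hm0⟩) hq3
    have h2 : padicValNat q 2 = 0 := padicValNat.eq_zero_of_not_dvd fun hd => by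
      have := (Nat.prime_dvd_prime_iff_eq hqp Nat.prime_two).mp hd
      omega
    rw [padicValNat.mul hne hm0, padicValNat.mul (pow_ne_zero _ hk) (by positivity),
      padicValNat.pow k 2, padicValNat.pow 2 j, h2, mul_zero,
      add_zero] at hv
    exact (Nat.even_add.mp hv).mp (even_two_mul _)
  obtain ⟨c, d, hcd⟩ := hsum
  rw [hcd, Nat.add_mod, Nat.pow_mod c, Nat.pow_mod d] at hm
  have hc : c % 4 < 4 := Nat.mod_lt _ (by norm_num)
  have hd : d % 4 < 4 := Nat.mod_lt _ (by norm_num)
  interval_cases hc' : c % 4 <;> interval_cases hd' : d % 4 <;> simp at hm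

theorem zmod_three_mul_self : ∀ d : ZMod 3, d ≠ 0 → d * d = 1 := by decide

/-! ### Irreducible endomorphisms of a finite space -/

section Field

variable {F : Type*} [Field F] {W : Type*} [AddCommGroup W] [Module F W]

/-- An endomorphism without proper invariant subspace. -/
def Irr (f : Module.End F W) : Prop :=
  ∀ U : Submodule F W, (∀ x ∈ U, f x ∈ U) → U = ⊥ ∨ U = ⊤

variable [Finite W] [Nontrivial W]

theorem cent_isDomain {f : Module.End F W} (hf : Irr f) :
    IsDomain (Subalgebra.centralizer F ({f} : Set (Module.End F W))) := by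
  have : Nontrivial (Subalgebra.centralizer F ({f} : Set (Module.End F W))) := by
    obtain ⟨w, hw⟩ := exists_ne (0 : W)
    refine ⟨0, 1, fun e => hw ?_⟩
    simpa using (LinearMap.congr_fun (congrArg Subtype.val e) w).symm
  have : NoZeroDivisors (Subalgebra.centralizer F ({f} : Set (Module.End F W))) := by
    refine ⟨fun {a b} hab => ?_⟩
    by_contra hne
    push Not at hne
    have hcomm : f * (a : Module.End F W) = (a : Module.End F W) * f :=
      (Subalgebra.mem_centralizer_iff F).mp a.2 f rfl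
    rcases hf (LinearMap.ker (a : Module.End F W)) (fun x hx => by
      rw [LinearMap.mem_ker] at hx ⊢
      rw [← Module.End.mul_apply, ← hcomm, Module.End.mul_apply, hx, map_zero]) with h0 | h0
    · refine hne.2 (Subtype.ext (LinearMap.ext fun x => ?_))
      have : (b : Module.End F W) x ∈ LinearMap.ker (a : Module.End F W) := by
        rw [LinearMap.mem_ker]
        exact LinearMap.congr_fun (congrArg Subtype.val hab) x
      simpa [h0] using this
    · exact hne.1 (Subtype.ext (LinearMap.ker_eq_top.mp h0))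
  exact NoZeroDivisors.to_isDomain _

theorem cent_comm {f : Module.End F W} (hf : Irr f)
    (a b : Subalgebra.centralizer F ({f} : Set (Module.End F W))) : a * b = b * a := by
  have := cent_isDomain hf
  have : Finite (Module.End F W) :=
    Finite.of_injective (fun g : Module.End F W => (g : W → W)) DFunLike.coe_injective
  exact (Finite.isDomain_to_isField
    (Subalgebra.centralizer F ({f} : Set (Module.End F W)))).mul_comm a b

theorem isCyclic_of_commute {f : Module.End F W} (hf : Irr f) {H : Type*} [Group H] [Finite H]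
    (ψ : H →* Module.End F W) (hψ : Function.Injective ψ) (hc : ∀ x, Commute f (ψ x)) :
    IsCyclic H := by
  have := cent_isDomain hf
  let R := Subalgebra.centralizer F ({f} : Set (Module.End F W))
  let _ : CommRing R := { (inferInstance : Ring R) with mul_comm := cent_comm hf }
  have hmem : ∀ x, ψ x ∈ R := fun x => (Subalgebra.mem_centralizer_iff F).mpr
    fun g hg => by rw [Set.mem_singleton_iff.mp hg]; exact hc x
  exact isCyclic_of_subgroup_isDomain (ψ.codRestrict R hmem)
    fun x y e => hψ (congrArg Subtype.val e)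

theorem aeval_conj (u : (Module.End F W)ˣ) (f : Module.End F W) (P : F[X]) :
    aeval ((u : Module.End F W) * f * ↑u⁻¹) P =
      (u : Module.End F W) * aeval f P * ↑u⁻¹ := by
  induction P using Polynomial.induction_on' with
  | add P Q hP hQ => rw [map_add, map_add, hP, hQ, mul_add, add_mul]
  | monomial m c =>
    rw [aeval_monomial, aeval_monomial, Units.conj_pow, ← mul_assoc, ← mul_assoc,
      Algebra.commutes, mul_assoc (u : Module.End F W)]

theorem conj_card_le {G : Type*} [Group G] (φ : G →* Module.End F W)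
    (hφ : Function.Injective φ) (h : G) (hirr : Irr (φ h)) (J : Finset G)
    (hJ : ∀ x ∈ J, Commute h x ∧ IsConj h x) : J.card ≤ finrank F W := by
  classical
  have : Module.Finite F W := Module.Finite.of_finite
  have := cent_isDomain hirr
  let R := Subalgebra.centralizer F ({φ h} : Set (Module.End F W))
  let _ : CommRing R := { (inferInstance : Ring R) with mul_comm := cent_comm hirr }
  have hmem : ∀ x : J, φ x ∈ R := fun x => (Subalgebra.mem_centralizer_iff F).mpr
    fun g hg => by rw [Set.mem_singleton_iff.mp hg]; exact ((hJ x x.2).1).map φ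
  let r : J → R := fun x => ⟨φ x, hmem x⟩
  have hr : Function.Injective r := fun x y e => Subtype.ext (hφ (congrArg Subtype.val e))
  let P := (φ h).charpoly
  have hP : P ≠ 0 := (LinearMap.charpoly_monic _).ne_zero
  have key : ∀ x : J, aeval (r x) P = 0 := fun x => by
    obtain ⟨g, hg⟩ := isConj_iff.mp (hJ x x.2).2
    apply Subtype.ext
    rw [Polynomial.aeval_subalgebra_coe]
    show aeval (φ x) P = 0
    have e : φ x = (φ.toHomUnits g : Module.End F W) * φ h * ↑(φ.toHomUnits g)⁻¹ := by
      rw [← hg, ← map_inv, MonoidHom.coe_toHomUnits, MonoidHom.coe_toHomUnits, map_mul, map_mul]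
    rw [e, aeval_conj, LinearMap.aeval_self_charpoly, mul_zero, zero_mul]
  have hsub : (Finset.univ.image r).val ⊆ (P.map (algebraMap F R)).roots := fun z hz => by
    obtain ⟨x, -, rfl⟩ := Finset.mem_image.mp (Finset.mem_val.mp hz)
    rw [mem_roots (Polynomial.map_ne_zero hP), IsRoot, eval_map]
    exact key x
  have := card_le_degree_of_subset_roots hsub
  rw [Finset.card_image_of_injective _ hr, Finset.card_univ, Fintype.card_coe,
    natDegree_map, LinearMap.charpoly_natDegree] at this
  exact this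

theorem indep_of_chars {ι A : Type*} (v : ι → W) (hv : ∀ i, v i ≠ 0) (T : A → Module.End F W)
    (c : ι → A → F) (hT : ∀ i a, T a (v i) = c i a • v i) (hc : Function.Injective c) :
    LinearIndependent F v := by
  classical
  rw [linearIndependent_iff']
  intro s
  induction s using Finset.induction_on with
  | empty => simp
  | insert j s hj ih =>
    intro d hd
    rw [Finset.sum_insert hj] at hd
    have hs : ∀ i ∈ s, d i = 0 := by
      intro i hi
      obtain ⟨a, ha⟩ := Function.ne_iff.mp (hc.ne (fun e : i = j => hj (e ▸ hi)))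
      have h1 := congrArg (T a) hd
      rw [map_add, map_sum, map_zero, map_smul, hT] at h1
      simp only [map_smul, hT, smul_smul] at h1
      have h2 := congrArg (fun w => c j a • w) hd
      simp only [smul_add, smul_zero, Finset.smul_sum, smul_smul] at h2
      have h3 : ∑ i ∈ s, ((c i a - c j a) * d i) • v i = 0 := by
        rw [mul_comm (d j)] at h1
        have e := (add_left_cancel (h1.trans h2.symm))
        rw [← sub_eq_zero, ← Finset.sum_sub_distrib] at e
        rw [← e]
        exact Finset.sum_congr rfl fun i _ => by rw [← sub_smul]; congr 1; ring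
      have h4 := ih _ h3 i hi
      exact (mul_eq_zero.mp h4).resolve_left (sub_ne_zero.mpr ha)
    intro i hi
    rcases Finset.mem_insert.mp hi with rfl | hi
    · rw [Finset.sum_eq_zero (fun x hx => by rw [hs x hx, zero_smul]), add_zero] at hd
      exact (smul_eq_zero.mp hd).resolve_right (hv i)
    · exact hs i hi

end Field

/-! ### The linear form of the hypothesis -/

section Main

variable {p : ℕ} [Fact p.Prime] {W : Type u} [AddCommGroup W] [Module (ZMod p) W] [Finite W]
  {G : Type u} [Group G] [Finite G] {φ : G →* Module.End (ZMod p) W}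

/-- No fixed vector except zero. -/
def Fpf (φ : G →* Module.End (ZMod p) W) (x : G) : Prop := ∀ v : W, φ x v = v → v = 0

/-- The hypotheses on the linear group. -/
structure LCore (φ : G →* Module.End (ZMod p) W) : Prop where
  inj : Function.Injective φ
  cop : ¬ p ∣ Nat.card G
  trans : ∀ v w : W, v ≠ 0 → w ≠ 0 → ∃ g, φ g v = w
  hk : ∃ k : ℕ, Nat.card G = k ^ 2 * (Nat.card W - 1)
  hab : ∃ a b : ℕ, Nat.card G = a ^ 2 + b ^ 2
  conj : ∀ x y : G, Fpf φ x → Fpf φ y → IsCyclic (Subgroup.centralizer ({x} : Set G)) →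
    IsCyclic (Subgroup.centralizer ({y} : Set G)) → IsConj x y

theorem card_space : Nat.card W = p ^ finrank (ZMod p) W := by
  have : Module.Finite (ZMod p) W := Module.Finite.of_finite
  rw [Module.natCard_eq_pow_finrank (K := ZMod p), Nat.card_zmod]

theorem mem_cent {h x : G} :
    x ∈ Subgroup.centralizer ({h} : Set G) ↔ Commute h x :=
  ⟨fun hx => Subgroup.mem_centralizer_iff.mp hx h rfl, fun hx => Subgroup.mem_centralizer_iff.mpr
    fun g hg => by rw [Set.mem_singleton_iff.mp hg]; exact hx⟩

theorem fpf_of_commute (hC : LCore φ) {h c : G} (hirr : Irr (φ h)) (hc : Commute h c)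
    (hc1 : c ≠ 1) : Fpf φ c := by
  intro v hv
  rcases hirr (LinearMap.ker (φ c - 1)) (fun x hx => by
    rw [LinearMap.mem_ker, LinearMap.sub_apply, Module.End.one_apply, sub_eq_zero] at hx ⊢
    rw [← Module.End.mul_apply, ← (hc.map φ).eq, Module.End.mul_apply, hx]) with h0 | h0
  · have : v ∈ LinearMap.ker (φ c - 1) := by simp [LinearMap.mem_ker, hv]
    simpa [h0] using this
  · exfalso
    exact hc1 (hC.inj (by rw [map_one]; exact sub_eq_zero.mp (LinearMap.ker_eq_top.mp h0)))

theorem cyclic_cent [Nontrivial W] (hC : LCore φ) {h : G} (hirr : Irr (φ h)) :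
    IsCyclic (Subgroup.centralizer ({h} : Set G)) :=
  isCyclic_of_commute hirr (φ.comp (Subgroup.centralizer ({h} : Set G)).subtype)
    (hC.inj.comp Subtype.coe_injective) fun x => (mem_cent.mp x.2).map φ

theorem card_cent [Nontrivial W] (hC : LCore φ) {h : G} (hirr : Irr (φ h)) (h1 : h ≠ 1) :
    Nat.card (Subgroup.centralizer ({h} : Set G)) = orderOf h := by
  have hcyc := cyclic_cent hC hirr
  obtain ⟨y, hy⟩ := hcyc.exists_generator
  obtain ⟨i, hi⟩ := Subgroup.mem_zpowers_iff.mp (hy ⟨h, mem_cent.mpr (Commute.refl h)⟩)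
  have hi' : (y : G) ^ i = h := by simpa using congrArg Subtype.val hi
  have hy1 : (y : G) ≠ 1 := fun e => h1 (by rw [← hi', e, one_zpow])
  have hyh : Commute h (y : G) := mem_cent.mp y.2
  have hle : Subgroup.centralizer ({(y : G)} : Set G) ≤ Subgroup.centralizer ({h} : Set G) :=
    fun x hx => mem_cent.mpr (hi' ▸ (mem_cent.mp hx).zpow_left i)
  have hyc : IsCyclic (Subgroup.centralizer ({(y : G)} : Set G)) :=
    isCyclic_of_injective (Subgroup.inclusion hle) (Subgroup.inclusion_injective hle)
  obtain ⟨g, hg⟩ := isConj_iff.mp (hC.conj (y : G) h (fpf_of_commute hC hirr hyh hy1)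
    (fpf_of_commute hC hirr (Commute.refl h) h1) hyc hcyc)
  have e : orderOf h = orderOf (y : G) :=
    (congrArg orderOf hg.symm).trans (MulEquiv.orderOf_eq (MulAut.conj g) (y : G))
  rw [← orderOf_eq_card_of_forall_mem_zpowers hy, e, Subgroup.orderOf_coe]

theorem isConj_pow [Nontrivial W] (hC : LCore φ) {h : G} (hirr : Irr (φ h)) (h1 : h ≠ 1)
    {j : ℕ} (hj : Nat.Coprime j (orderOf h)) : IsConj h (h ^ j) := by
  obtain ⟨m, hm⟩ := exists_pow_eq_self_of_coprime hj
  have hj1 : h ^ j ≠ 1 := fun e => h1 (by rw [← hm, e, one_pow])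
  have hle : Subgroup.centralizer ({h ^ j} : Set G) ≤ Subgroup.centralizer ({h} : Set G) :=
    fun x hx => mem_cent.mpr (hm ▸ (mem_cent.mp hx).pow_left m)
  have := cyclic_cent hC hirr
  exact hC.conj h (h ^ j) (fpf_of_commute hC hirr (Commute.refl h) h1)
    (fpf_of_commute hC hirr (Commute.self_pow h j) hj1) (cyclic_cent hC hirr)
    (isCyclic_of_injective (Subgroup.inclusion hle) (Subgroup.inclusion_injective hle))

theorem irr_of_prim (hφ : Function.Injective φ) {s : ℕ} (hs : s.Prime)
    (hsn : s ∣ p ^ finrank (ZMod p) W - 1)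
    (hprim : ∀ i, 1 ≤ i → i < finrank (ZMod p) W → ¬ s ∣ p ^ i - 1)
    {h : G} (hh : orderOf h = s) : Irr (φ h) := by
  classical
  have : Fact s.Prime := ⟨hs⟩
  have : Module.Finite (ZMod p) W := Module.Finite.of_finite
  have : Fintype W := Fintype.ofFinite W
  set n := finrank (ZMod p) W with hn
  have hp1 : ∀ i, 1 ≤ p ^ i := fun i => Nat.one_le_pow _ _ (Fact.out : p.Prime).pos
  have key : ∀ U : Submodule (ZMod p) W, (∀ x ∈ U, φ h x ∈ U) →
      p ^ finrank (ZMod p) U ≡ Nat.card {x : U // φ h (x : W) = x} [MOD s] := by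
    intro U hU
    let f : Function.End U := fun x => ⟨φ h x, hU x x.2⟩
    have hpow : ∀ (m : ℕ) (x : U), (((f ^ m) x : U) : W) = φ (h ^ m) x := by
      intro m
      induction m with
      | zero => intro x; simp; rfl
      | succ m ih =>
        intro x
        rw [pow_succ', pow_succ', map_mul, Module.End.mul_apply, ← ih x]
        rfl
    have hf : f ^ s ^ 1 = 1 := funext fun x => Subtype.ext (by
      rw [hpow, pow_one, ← hh, pow_orderOf_eq_one, map_one]; rfl)
    have := Equiv.Perm.card_fixedPoints_modEq hf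
    rw [← Nat.card_eq_fintype_card, ← Nat.card_eq_fintype_card, card_space (p := p) (W := U)] at this
    refine this.trans (congrArg (· % s) ?_)
    exact Nat.card_congr (Equiv.subtypeEquivRight fun x => by
      simp [Function.fixedPoints, Function.IsFixedPt, f, Subtype.ext_iff])
  have small : ∀ U : Submodule (ZMod p) W, p ^ finrank (ZMod p) U ≡ 1 [MOD s] →
      U = ⊥ ∨ U = ⊤ := by
    intro U hU
    have hle := Submodule.finrank_le U
    by_cases h0 : finrank (ZMod p) U = 0
    · exact Or.inl (Submodule.finrank_eq_zero.mp h0)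
    · refine Or.inr (Submodule.eq_top_of_finrank_eq ?_)
      by_contra hne
      exact hprim _ (Nat.pos_of_ne_zero h0) (lt_of_le_of_ne hle hne)
        ((Nat.modEq_iff_dvd' (hp1 _)).mp hU.symm)
  have hfix : ∀ x : W, φ h x = x → x = 0 := by
    have hk := key ⊤ (fun x _ => Submodule.mem_top)
    rw [finrank_top, ← hn] at hk
    have e : Nat.card {x : (⊤ : Submodule (ZMod p) W) // φ h (x : W) = x} =
        p ^ finrank (ZMod p) (LinearMap.ker (φ h - 1)) := by
      rw [← card_space (p := p) (W := ↥(LinearMap.ker (φ h - 1)))]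
      exact Nat.card_congr
        { toFun := fun x => ⟨x.1.1, by simp [LinearMap.mem_ker, x.2]⟩
          invFun := fun x => ⟨⟨x.1, Submodule.mem_top⟩, sub_eq_zero.mp (LinearMap.mem_ker.mp x.2)⟩
          left_inv := fun x => rfl
          right_inv := fun x => rfl }
    rw [e] at hk
    rcases small _ (hk.symm.trans ((Nat.modEq_iff_dvd' (hp1 n)).mpr hsn).symm) with h0 | h0
    · intro x hx
      have : x ∈ LinearMap.ker (φ h - 1) := by simp [LinearMap.mem_ker, hx]
      simpa [h0] using this
    · have : h = 1 := hφ (by rw [map_one]; exact sub_eq_zero.mp (LinearMap.ker_eq_top.mp h0))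
      rw [this, orderOf_one] at hh
      exact absurd hh.symm hs.ne_one
  intro U hU
  refine small U ((key U hU).trans (congrArg (· % s) ?_))
  refine Nat.card_eq_one_iff_unique.mpr ⟨⟨fun x y => ?_⟩, ⟨⟨0, by simp⟩⟩⟩
  exact Subtype.ext (Subtype.ext ((hfix _ x.2).trans (hfix _ y.2).symm))

theorem ppd_facts (hC : LCore φ) [Nontrivial W] {s : ℕ} (hs : s.Prime)
    (hsn : s ∣ p ^ finrank (ZMod p) W - 1)
    (hprim : ∀ i, 1 ≤ i → i < finrank (ZMod p) W → ¬ s ∣ p ^ i - 1) :
    s ∣ Nat.card G ∧ ¬ s ^ 2 ∣ Nat.card G ∧ s - 1 ≤ finrank (ZMod p) W := by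
  classical
  have : Fact s.Prime := ⟨hs⟩
  have hdvd : s ∣ Nat.card G := by
    obtain ⟨k, hk⟩ := hC.hk
    rw [hk, card_space (p := p) (W := W)]
    exact hsn.mul_left _
  have ne1 : ∀ {h : G}, orderOf h = s → h ≠ 1 := fun hh e => by
    rw [e, orderOf_one] at hh; exact hs.ne_one hh.symm
  refine ⟨hdvd, fun h2 => ?_, ?_⟩
  · obtain ⟨K, hK⟩ := Sylow.exists_subgroup_card_pow_prime s h2
    have hKp : IsPGroup s K := IsPGroup.of_card hK
    have : Nontrivial K := Finite.one_lt_card_iff_nontrivial.mp
      (hK ▸ Nat.one_lt_pow two_ne_zero hs.one_lt)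
    have := hKp.center_nontrivial
    obtain ⟨z, hz⟩ := exists_prime_orderOf_dvd_card' (G := Subgroup.center K) s
      (((hKp.to_subgroup _).card_eq_or_dvd).resolve_left
        (Finite.one_lt_card_iff_nontrivial.mpr inferInstance).ne')
    have hz' : orderOf ((z : K) : G) = s := by
      rw [Subgroup.orderOf_coe, Subgroup.orderOf_coe, hz]
    have hle : K ≤ Subgroup.centralizer ({((z : K) : G)} : Set G) := fun x hx => by
      have e := congrArg Subtype.val (Subgroup.mem_center_iff.mp z.2 ⟨x, hx⟩)
      exact mem_cent.mpr e.symm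
    have := Subgroup.card_dvd_of_le hle
    rw [hK, card_cent hC (irr_of_prim hC.inj hs hsn hprim hz') (ne1 hz'), hz'] at this
    have := Nat.le_of_dvd hs.pos this
    nlinarith [hs.two_le]
  · obtain ⟨h, hh⟩ := exists_prime_orderOf_dvd_card' s hdvd
    have hirr := irr_of_prim hC.inj hs hsn hprim hh
    have := conj_card_le φ hC.inj h hirr ((Finset.Ico 1 s).image (h ^ ·)) (fun x hx => by
      obtain ⟨j, hj, rfl⟩ := Finset.mem_image.mp hx
      rw [Finset.mem_Ico] at hj
      exact ⟨Commute.self_pow h j, isConj_pow hC hirr (ne1 hh) (by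
        rw [hh]; exact ((hs.coprime_iff_not_dvd).mpr
          (Nat.not_dvd_of_pos_of_lt (by omega) hj.2)).symm)⟩)
    rwa [Finset.card_image_of_injOn (fun a ha b hb e => by
      simp only [Finset.coe_Ico, Set.mem_Ico] at ha hb
      exact pow_injOn_Iio_orderOf (by simpa [hh] using ha.2) (by simpa [hh] using hb.2) e),
      Nat.card_Ico] at this

theorem card_dvd_GL (hφ : Function.Injective φ) {n : ℕ} (hn : finrank (ZMod p) W = n) :
    Nat.card G ∣ ∏ i : Fin n, (p ^ n - p ^ (i : ℕ)) := by
  have : Module.Finite (ZMod p) W := Module.Finite.of_finite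
  have b := Module.finBasisOfFinrankEq (ZMod p) W hn
  let e := Units.mapEquiv (LinearMap.toMatrixAlgEquiv b).toMulEquiv
  have h : Function.Injective (e.toMonoidHom.comp φ.toHomUnits) := fun x y h =>
    hφ (congrArg Units.val (e.injective h))
  have := Subgroup.card_dvd_of_injective _ h
  rwa [show Nat.card (GL (Fin n) (ZMod p)) = ∏ i : Fin n, (p ^ n - p ^ (i : ℕ)) by
    rw [Matrix.card_GL_field, ZMod.card]] at this

theorem finrank_one (hC : LCore φ) (hn : finrank (ZMod p) W = 1) : p ≤ 3 := by
  have : Module.Finite (ZMod p) W := Module.Finite.of_finite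
  have : Nontrivial W := Module.nontrivial_of_finrank_eq_succ hn
  have irr : ∀ f : Module.End (ZMod p) W, Irr f := fun f U _ => by
    have hle := Submodule.finrank_le U
    by_cases h0 : finrank (ZMod p) U = 0
    · exact Or.inl (Submodule.finrank_eq_zero.mp h0)
    · exact Or.inr (Submodule.eq_top_of_finrank_eq (by omega))
  have : IsCyclic G :=
    isCyclic_of_commute (irr 1) φ hC.inj fun x => Commute.one_left _
  obtain ⟨g, hg⟩ := IsCyclic.exists_generator (α := G)
  have hcard : orderOf g ≤ 2 := by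
    by_cases h1 : g = 1
    · rw [h1, orderOf_one]; norm_num
    have h2 : g⁻¹ ≠ 1 := inv_ne_one.mpr h1
    obtain ⟨c, hc⟩ := isConj_iff.mp (hC.conj g g⁻¹
      (fpf_of_commute hC (irr _) (Commute.refl g) h1)
      (fpf_of_commute hC (irr _) (Commute.refl g⁻¹) h2) (cyclic_cent hC (irr _))
      (cyclic_cent hC (irr _)))
    have hcg : c * g * c⁻¹ = g := by
      obtain ⟨i, rfl⟩ := Subgroup.mem_zpowers_iff.mp (hg c)
      rw [((Commute.refl g).zpow_left i).eq, mul_inv_cancel_right]
    refine Nat.le_of_dvd two_pos (orderOf_dvd_of_pow_eq_one ?_)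
    rw [pow_two]
    nth_rw 1 [show g = g⁻¹ from hcg.symm.trans hc]
    exact inv_mul_cancel g
  rw [orderOf_eq_card_of_forall_mem_zpowers hg] at hcard
  obtain ⟨k, hk⟩ := hC.hk
  rw [card_space (p := p) (W := W), hn, pow_one] at hk
  have hk0 : 1 ≤ k ^ 2 := Nat.pos_of_ne_zero fun e => by
    rw [e, zero_mul] at hk; exact Nat.card_pos.ne' hk
  have := Nat.le_mul_of_pos_left (p - 1) hk0
  omega

theorem not_nine (hC : LCore φ) (hp : p = 3) (hn : finrank (ZMod p) W = 2) : False := by
  classical
  subst hp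
  have : Module.Finite (ZMod 3) W := Module.Finite.of_finite
  have : Nontrivial W := Module.nontrivial_of_finrank_eq_succ hn
  obtain ⟨k, hk⟩ := hC.hk
  rw [card_space (p := 3) (W := W), hn] at hk
  have hd := card_dvd_GL hC.inj hn
  rw [hk, Fin.prod_univ_two] at hd
  norm_num at hd hk
  have hk1 : k = 1 := by
    have hcop := hC.cop
    have h6 : k ^ 2 ∣ 6 := (Nat.mul_dvd_mul_iff_right (show 0 < 8 by norm_num)).mp hd
    have hle : k ≤ 6 := le_trans (Nat.le_self_pow two_ne_zero k) (Nat.le_of_dvd (by norm_num) h6)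
    interval_cases k <;> simp_all
  subst hk1
  norm_num at hk
  have reg : ∀ (x : G) (v : W), v ≠ 0 → φ x v = v → x = 1 := by
    intro x v hv hxv
    have hnz : ∀ g, φ g v ≠ 0 := fun g e => hv (by
      have := congrArg (φ g⁻¹) e
      rwa [map_zero, ← Module.End.mul_apply, ← map_mul, inv_mul_cancel, map_one] at this)
    let f : G → {w : W // w ≠ 0} := fun g => ⟨φ g v, hnz g⟩
    have hcw : Nat.card {w : W // w ≠ 0} = Nat.card G := by
      have := Fintype.ofFinite W
      rw [hk, Nat.card_eq_fintype_card, Fintype.card_subtype_compl, Fintype.card_subtype_eq,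
        ← Nat.card_eq_fintype_card, card_space (p := 3) (W := W), hn]
      norm_num
    have hs : Function.Surjective f := fun w => by
      obtain ⟨g, hg⟩ := hC.trans v w hv w.2
      exact ⟨g, Subtype.ext hg⟩
    exact (Function.Surjective.bijective_of_nat_card_le hs hcw.ge).injective
      (Subtype.ext (show φ x v = φ 1 v by rw [hxv, map_one, Module.End.one_apply]))
  have hfpf : ∀ x : G, x ≠ 1 → Fpf φ x := fun x hx v hv => by
    by_contra h0
    exact hx (reg x v h0 hv)
  have hinv : ∀ x : G, x ^ 2 = 1 → x ≠ 1 → φ x = -1 := fun x h2 h1 => LinearMap.ext fun v => by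
    have := hfpf x h1 (v + φ x v) (by
      rw [map_add, ← Module.End.mul_apply, ← map_mul, ← pow_two, h2, map_one,
        Module.End.one_apply, add_comm])
    rw [LinearMap.neg_apply, Module.End.one_apply, eq_neg_iff_add_eq_zero, add_comm]
    exact this
  have := Fintype.ofFinite G
  let S := Finset.univ.filter fun x : G => x ^ 2 ≠ 1
  have hS : 6 ≤ S.card := by
    have h2 : (Finset.univ.filter fun x : G => ¬ x ^ 2 ≠ 1).card ≤ 2 := by
      have hle : ((Finset.univ.filter fun x : G => ¬ x ^ 2 ≠ 1).erase 1).card ≤ 1 :=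
        Finset.card_le_one.mpr fun x hx y hy => by
          simp only [Finset.mem_erase, Finset.mem_filter, not_not] at hx hy
          exact hC.inj ((hinv x hx.2.2 hx.1).trans (hinv y hy.2.2 hy.1).symm)
      have := Finset.pred_card_le_card_erase
        (s := Finset.univ.filter fun x : G => ¬ x ^ 2 ≠ 1) (a := 1)
      omega
    have := Finset.card_filter_add_card_filter_not (s := (Finset.univ : Finset G))
      (fun x : G => x ^ 2 ≠ 1)
    rw [Finset.card_univ, ← Nat.card_eq_fintype_card, hk] at this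
    simp only [S]
    omega
  have hirr : ∀ x ∈ S, Irr (φ x) := by
    intro x hx U hU
    simp only [S, Finset.mem_filter] at hx
    have hle := Submodule.finrank_le U
    by_cases h0 : finrank (ZMod 3) U = 0
    · exact Or.inl (Submodule.finrank_eq_zero.mp h0)
    refine Or.inr (Submodule.eq_top_of_finrank_eq ?_)
    by_contra hne
    have h1 : finrank (ZMod 3) U = 1 := by omega
    obtain ⟨⟨v, hv⟩, hv0, hspan⟩ := finrank_eq_one_iff'.mp h1
    obtain ⟨c, hc⟩ := hspan ⟨φ x v, hU v hv⟩
    have hc' : c • v = φ x v := congrArg Subtype.val hc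
    have hv0' : v ≠ 0 := fun e => hv0 (Subtype.ext e)
    have hc0 : c ≠ 0 := by
      rintro rfl
      rw [zero_smul] at hc'
      apply hv0'
      have := congrArg (φ x⁻¹) hc'.symm
      rwa [map_zero, ← Module.End.mul_apply, ← map_mul, inv_mul_cancel, map_one] at this
    have hcc : c * c = 1 := zmod_three_mul_self c hc0
    refine hx.2 (reg _ v hv0' ?_)
    rw [pow_two, map_mul, Module.End.mul_apply, ← hc', map_smul, ← hc', smul_smul, hcc, one_smul]
  obtain ⟨x₀, hx₀⟩ : S.Nonempty := Finset.card_pos.mp (by omega)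
  have hne : ∀ x ∈ S, x ≠ 1 := fun x hx e => by simp [S, e] at hx
  have hconj : ∀ x : S, ∃ c : G, c * x₀ * c⁻¹ = x := fun x =>
    isConj_iff.mp (hC.conj x₀ x (hfpf _ (hne _ hx₀)) (hfpf _ (hne _ x.2))
      (cyclic_cent hC (hirr _ hx₀)) (cyclic_cent hC (hirr _ x.2)))
  choose c hc using hconj
  let C := Subgroup.centralizer ({x₀} : Set G)
  have hf : Function.Injective fun z : S × C => c z.1 * (z.2 : G) := by
    rintro ⟨a, u⟩ ⟨b, w⟩ e
    simp only at e
    have key : ∀ (a : S) (u : C), c a * (u : G) * x₀ * (c a * (u : G))⁻¹ = a := fun a u => by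
      rw [mul_assoc (c a), ← (mem_cent.mp u.2).eq]
      rw [mul_inv_rev, ← mul_assoc (c a), mul_assoc _ (u : G), mul_inv_cancel_left, hc]
    have hab : a = b := Subtype.ext (by rw [← key a u, e, key b w])
    subst hab
    exact Prod.ext rfl (Subtype.ext (mul_left_cancel e))
  have hC2 : 2 ≤ Nat.card C := by
    have : Nontrivial C := ⟨⟨⟨x₀, mem_cent.mpr (Commute.refl _)⟩, 1, fun e =>
      hne _ hx₀ (congrArg Subtype.val e)⟩⟩
    exact Finite.one_lt_card
  have := Nat.card_le_card_of_injective _ hf
  rw [Nat.card_prod, hk, Nat.card_eq_finsetCard] at this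
  nlinarith

theorem not_eightyOne (hC : LCore φ) (hp : p = 3) (hn : finrank (ZMod p) W = 4) : False := by
  classical
  subst hp
  have : Module.Finite (ZMod 3) W := Module.Finite.of_finite
  have : Nontrivial W := Module.nontrivial_of_finrank_eq_succ hn
  obtain ⟨k, hk⟩ := hC.hk
  rw [card_space (p := 3) (W := W), hn] at hk
  have hd := card_dvd_GL hC.inj hn
  rw [hk, Fin.prod_univ_four] at hd
  norm_num at hd hk
  obtain ⟨m, hm4, hm⟩ : ∃ m, 4 ≤ m ∧ Nat.card G = 2 ^ m * 5 := by
    have h3 : Nat.Coprime k 3 :=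
      ((Nat.prime_three.coprime_iff_not_dvd).mpr fun e => hC.cop (by
        rw [hk]; exact (e.trans (dvd_pow_self k two_ne_zero)).mul_right _)).symm
    have h2 : k ^ 2 ∣ 729 * 416 :=
      (Nat.mul_dvd_mul_iff_right (show 0 < 80 by norm_num)).mp (by simpa using hd)
    have h416 : k ^ 2 ∣ 416 := by
      refine Nat.Coprime.dvd_of_dvd_mul_left ?_ h2
      rw [show (729 : ℕ) = 3 ^ 6 by norm_num]
      exact h3.pow 2 6
    have hle : k ≤ 20 := by
      have := Nat.le_of_dvd (by norm_num) h416
      nlinarith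
    interval_cases k
    all_goals first
      | (norm_num at h416; done)
      | norm_num at hk
    · exact ⟨4, le_rfl, by rw [hk]; norm_num⟩
    · exact ⟨6, by norm_num, by rw [hk]; norm_num⟩
    · exact ⟨8, by norm_num, by rw [hk]; norm_num⟩
  have h5 : Nat.Prime 5 := by norm_num
  have : Fact (Nat.Prime 5) := ⟨h5⟩
  have irr5 : ∀ x : G, orderOf x = 5 → Irr (φ x) := fun x hx =>
    irr_of_prim hC.inj h5 (by rw [hn]; norm_num) (by
      intro i h1 h2
      rw [hn] at h2
      interval_cases i <;> norm_num) hx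
  obtain ⟨g, hg⟩ := exists_prime_orderOf_dvd_card' (G := G) 5 (hm ▸ dvd_mul_left _ _)
  have hg1 : g ≠ 1 := fun e => by rw [e, orderOf_one] at hg; norm_num at hg
  have hcard := card_cent hC (irr5 g hg) hg1
  rw [hg] at hcard
  -- a normal elementary abelian 2-subgroup
  obtain ⟨T, hT⟩ := Sylow.exists_subgroup_card_pow_prime 2 (G := G) (n := m)
    (hm ▸ dvd_mul_right _ _)
  have hidx : T.index = 5 := by
    have := T.card_mul_index
    rw [hT, hm] at this
    exact Nat.eq_of_mul_eq_mul_left (by positivity) this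
  have hK : T.normalCore ≠ ⊥ := by
    intro e
    have h1 := Subgroup.index_ker (MulAction.toPermHom G (G ⧸ T))
    rw [← Subgroup.normalCore_eq_ker, e, Subgroup.index_bot] at h1
    have h2 := Subgroup.card_subgroup_dvd_card (MulAction.toPermHom G (G ⧸ T)).range
    rw [Nat.card_perm, ← Subgroup.index_eq_card, hidx, ← h1, hm] at h2
    have h16 : 2 ^ 4 ∣ Nat.factorial 5 := (pow_dvd_pow 2 hm4).trans ((dvd_mul_right _ _).trans h2)
    norm_num [Nat.factorial] at h16
  set K := T.normalCore with hKdef
  have hKp : IsPGroup 2 K := (IsPGroup.of_card hT).to_le (Subgroup.normalCore_le T)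
  have : Nontrivial K := K.nontrivial_iff_ne_bot.mpr hK
  have := hKp.center_nontrivial
  obtain ⟨z, hz⟩ := exists_prime_orderOf_dvd_card' (G := Subgroup.center K) 2
    (((hKp.to_subgroup _).card_eq_or_dvd).resolve_left
      (Finite.one_lt_card_iff_nontrivial.mpr inferInstance).ne')
  let A : Set G := {a | a ∈ K ∧ (∀ b ∈ K, b * a = a * b) ∧ a ^ 2 = 1}
  have hzA : ((z : K) : G) ∈ A := ⟨(z : K).2,
    fun b hb => congrArg Subtype.val (Subgroup.mem_center_iff.mp z.2 ⟨b, hb⟩),
    by rw [← hz]; norm_cast; rw [pow_orderOf_eq_one]⟩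
  have hA : ∀ (c : G), ∀ a ∈ A, c⁻¹ * a * c ∈ A := by
    intro c a ⟨ha, hab, ha2⟩
    have hN : K.Normal := T.normalCore_normal
    refine ⟨hN.conj_mem' a ha c, fun b hb => ?_, ?_⟩
    · have := hab _ (hN.conj_mem b hb c)
      calc b * (c⁻¹ * a * c) = c⁻¹ * ((c * b * c⁻¹) * a) * c := by group
        _ = c⁻¹ * (a * (c * b * c⁻¹)) * c := by rw [this]
        _ = c⁻¹ * a * c * b := by group
    · calc (c⁻¹ * a * c) ^ 2 = c⁻¹ * a ^ 2 * c := by simp only [pow_two]; group
        _ = 1 := by rw [ha2]; group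
  -- a common eigenvector
  obtain ⟨v, hv0, hv⟩ : ∃ v : W, v ≠ 0 ∧ ∀ a ∈ A, φ a v = v ∨ φ a v = -v := by
    suffices key : ∀ S : Finset G, (∀ a ∈ S, a ∈ A) →
        ∃ v : W, v ≠ 0 ∧ ∀ a ∈ S, φ a v = v ∨ φ a v = -v by
      have := Fintype.ofFinite G
      obtain ⟨v, h1, h2⟩ := key A.toFinset (fun a ha => Set.mem_toFinset.mp ha)
      exact ⟨v, h1, fun a ha => h2 a (Set.mem_toFinset.mpr ha)⟩
    intro S
    induction S using Finset.induction_on with
    | empty => intro _; obtain ⟨v, hv⟩ := exists_ne (0 : W); exact ⟨v, hv, by simp⟩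
    | insert a S _ ih =>
      intro hS
      obtain ⟨v, hv0, hv⟩ := ih fun b hb => hS b (Finset.mem_insert_of_mem hb)
      have ha := hS a (Finset.mem_insert_self a S)
      by_cases hw : v + φ a v = 0
      · refine ⟨v, hv0, fun b hb => ?_⟩
        rcases Finset.mem_insert.mp hb with rfl | hb
        · exact Or.inr (eq_neg_of_add_eq_zero_right hw)
        · exact hv b hb
      refine ⟨_, hw, fun b hb => ?_⟩
      rcases Finset.mem_insert.mp hb with rfl | hb
      · left
        rw [map_add, ← Module.End.mul_apply, ← map_mul, ← pow_two, ha.2.2, map_one,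
          Module.End.one_apply, add_comm]
      · have e : φ b (φ a v) = φ a (φ b v) := by
          rw [← Module.End.mul_apply, ← map_mul, ← Module.End.mul_apply, ← map_mul,
            ha.2.1 b (hS b (Finset.mem_insert_of_mem hb)).1]
        rcases hv b hb with hb' | hb'
        · left; rw [map_add, e, hb']
        · right; rw [map_add, e, hb', map_neg, neg_add]
  let w : Fin 5 → W := fun i => φ (g ^ (i : ℕ)) v
  have hw0 : ∀ i, w i ≠ 0 := fun i e => hv0 (by
    have := congrArg (φ (g ^ (i : ℕ))⁻¹) e
    rwa [map_zero, ← Module.End.mul_apply, ← map_mul, inv_mul_cancel, map_one] at this)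
  have hex : ∀ (i : Fin 5) (a : A), ∃ c : ZMod 3, φ a (w i) = c • w i := by
    intro i a
    have e : φ a (w i) = φ (g ^ (i : ℕ)) (φ ((g ^ (i : ℕ))⁻¹ * a * g ^ (i : ℕ)) v) := by
      simp only [w, ← Module.End.mul_apply, ← map_mul]
      congr 2; group
    rcases hv _ (hA (g ^ (i : ℕ)) a a.2) with h | h
    · exact ⟨1, by rw [e, h, one_smul]⟩
    · exact ⟨-1, by rw [e, h, map_neg, neg_one_smul]⟩
  choose c hc using hex
  have hinj : Function.Injective c := by
    intro i j hij
    by_contra hne
    let h := g ^ (j : ℕ) * (g ^ (i : ℕ))⁻¹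
    have hh : orderOf h = 5 := by
      have h1 : h ≠ 1 := fun e => hne (Fin.ext (pow_injOn_Iio_orderOf
        (by simp [hg]) (by simp [hg]) (mul_inv_eq_one.mp e).symm))
      have h2 : h ^ 5 = 1 := by
        have hcomm : Commute (g ^ (j : ℕ)) (g ^ (i : ℕ))⁻¹ :=
          ((Commute.refl g).pow_pow _ _).inv_right
        have hg5 : g ^ 5 = 1 := by
          have := pow_orderOf_eq_one g
          rwa [hg] at this
        rw [hcomm.mul_pow, inv_pow, ← pow_mul, ← pow_mul, mul_comm (j : ℕ), mul_comm (i : ℕ),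
          pow_mul, pow_mul, hg5, one_pow, one_pow, inv_one, mul_one]
      exact orderOf_eq_prime h2 h1
    have hwij : φ h (w i) = w j := by
      simp only [w, h, ← Module.End.mul_apply, ← map_mul, inv_mul_cancel_right]
    let U : Submodule (ZMod 3) W :=
      ⨅ a : A, LinearMap.ker (φ a - c i a • (1 : Module.End (ZMod 3) W))
    have hU : ∀ x, x ∈ U ↔ ∀ a : A, φ a x = c i a • x := fun x => by
      simp [U, Submodule.mem_iInf, LinearMap.mem_ker, sub_eq_zero]
    have hwi : w i ∈ U := (hU _).mpr fun a => hc i a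
    rcases irr5 h hh U (fun x hx => by
      rw [hU] at hx ⊢
      intro a
      let b : A := ⟨h⁻¹ * a * h, hA h a a.2⟩
      have hcomm : ∀ y, φ a (φ h y) = φ h (φ b y) := fun y => by
        simp only [b, ← Module.End.mul_apply, ← map_mul]
        congr 2; group
      have hb : c i b = c i a := by
        have e := hcomm (w i)
        rw [hwij, hc j a, hc i b, map_smul, hwij, ← hij] at e
        exact (smul_left_injective (ZMod 3) (hw0 j) e).symm
      rw [hcomm, hx b, map_smul, hb]) with h0 | h0
    · rw [h0, Submodule.mem_bot] at hwi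
      exact hw0 i hwi
    have hs : φ (z : K) = c i ⟨_, hzA⟩ • (1 : Module.End (ZMod 3) W) := LinearMap.ext fun x => by
      have := (hU x).mp (h0 ▸ Submodule.mem_top) ⟨_, hzA⟩
      simpa using this
    have hzg : Commute g ((z : K) : G) := hC.inj (by
      rw [map_mul, map_mul, hs, mul_smul_comm, smul_mul_assoc, mul_one, one_mul])
    have hd5 := orderOf_dvd_natCard (⟨_, mem_cent.mpr hzg⟩ : Subgroup.centralizer ({g} : Set G))
    rw [hcard, Subgroup.orderOf_mk, Subgroup.orderOf_coe, Subgroup.orderOf_coe, hz] at hd5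
    norm_num at hd5
  have := (indep_of_chars w hw0 (fun a : A => φ a) c hc hinj).fintype_card_le_finrank
  rw [Fintype.card_fin, hn] at this
  omega

theorem coreLin (hC : LCore φ) : Nat.card W ≤ 3 := by
  have : Module.Finite (ZMod p) W := Module.Finite.of_finite
  have hp := (Fact.out : p.Prime)
  obtain ⟨k, hk⟩ := hC.hk
  obtain ⟨a, b, hab⟩ := hC.hab
  rw [card_space (p := p) (W := W)] at hk ⊢
  set n := finrank (ZMod p) W with hn
  have hk0 : k ≠ 0 := fun e => Nat.card_pos.ne' (by rw [hk, e]; simp)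
  rcases Nat.lt_or_ge n 2 with hn2 | hn2
  · rcases (show n = 0 ∨ n = 1 by omega) with h | h
    · rw [h]; norm_num
    · rw [h, pow_one]; exact finrank_one hC h
  exfalso
  have : Nontrivial W := Module.nontrivial_of_finrank_pos (R := ZMod p) (by omega)
  have no3 : ∀ j m, p ^ n - 1 = 2 ^ j * m → m % 4 ≠ 3 := fun j m e =>
    not_three_mod_four (j := j) hk0 (by rw [mul_assoc, ← e, ← hk, hab])
  have kill : ∀ s, s.Prime → s % 4 = 3 → s ∣ p ^ n - 1 →
      (∀ i, 1 ≤ i → i < n → ¬ s ∣ p ^ i - 1) → False := fun s hs h3 h1 hprim => by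
    obtain ⟨d1, d2, -⟩ := ppd_facts hC hs h1 hprim
    exact sq_sum_three Nat.card_pos.ne' hab hs h3 d1 d2
  rcases hp.eq_two_or_odd with h2 | h2
  · obtain ⟨n', hn'⟩ : ∃ n', n = n' + 2 := ⟨n - 2, by omega⟩
    refine no3 0 (p ^ n - 1) (by simp) ?_
    rw [h2, hn', pow_add]
    have := Nat.one_le_two_pow (n := n')
    omega
  have hp3 : 3 ≤ p := by have := hp.two_le; omega
  rcases Nat.lt_or_ge n 3 with hn3 | hn3
  · have hn' : n = 2 := by omega
    have hfac : p ^ n - 1 = (p + 1) * (p - 1) := by
      rw [hn', ← Nat.sq_sub_sq, one_pow]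
    rcases Nat.eq_two_pow_or_exists_odd_prime_and_dvd (p + 1) with ⟨r, hr⟩ | ⟨s, hs, hsd, hso⟩
    · rcases Nat.lt_or_ge r 3 with hr3 | hr3
      · interval_cases r <;> norm_num at hr
        all_goals first | omega | exact not_nine hC (by omega) hn'
      · obtain ⟨r', rfl⟩ : ∃ r', r = r' + 3 := ⟨r - 3, by omega⟩
        refine no3 (r' + 4) (2 ^ (r' + 2) - 1) ?_ ?_
        · rw [hfac, hr, show p - 1 = 2 * (2 ^ (r' + 2) - 1) by
            rw [pow_succ] at hr; omega]
          ring
        · rw [pow_add]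
          have := Nat.one_le_two_pow (n := r')
          omega
    · have hprim : ∀ i, 1 ≤ i → i < n → ¬ s ∣ p ^ i - 1 := fun i h1 h2' hd => by
        rw [show i = 1 by omega, pow_one] at hd
        have := Nat.dvd_sub hsd hd
        rw [show p + 1 - (p - 1) = 2 by omega] at this
        have := (Nat.prime_dvd_prime_iff_eq hs Nat.prime_two).mp this
        rw [this] at hso
        exact absurd hso (by decide)
      have h1 : s ∣ p ^ n - 1 := hfac ▸ hsd.mul_right _
      obtain ⟨-, -, d3⟩ := ppd_facts hC hs h1 hprim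
      obtain ⟨t, ht⟩ := hso
      have := hs.two_le
      exact kill s hs (by omega) h1 hprim
  by_cases h34 : p = 3 ∧ n = 4
  · exact not_eightyOne hC h34.1 h34.2
  by_cases h36 : p = 3 ∧ n = 6
  · refine kill 7 (by norm_num) rfl (by rw [h36.1, h36.2]; norm_num) fun i h1 h2' => ?_
    rw [h36.2] at h2'
    rw [h36.1]
    interval_cases i <;> norm_num
  by_cases h56 : p = 5 ∧ n = 6
  · refine kill 7 (by norm_num) rfl (by rw [h56.1, h56.2]; norm_num) fun i h1 h2' => ?_
    rw [h56.2] at h2'
    rw [h56.1]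
    interval_cases i <;> norm_num
  obtain ⟨s, hs, h1, hprim, hbig⟩ := Cfsg.Agent.S3430.result p n hp.two_le hn2
    (by omega) (by omega) (by omega) h56
  obtain ⟨-, d2, d3⟩ := ppd_facts hC hs h1 hprim
  rcases hbig with hbig | hbig
  · omega
  · exact d2 (hbig.trans (hk ▸ dvd_mul_left _ _))

end Main

end Cfsg.Agent.KThree57.Core93

namespace Cfsg.Agent.KThree57

universe u

open Core93

/-- An automorphism of an exponent-`p` commutative group as a linear map. -/
def toEnd (p : ℕ) (V : Type u) [CommGroup V] [Module (ZMod p) (Additive V)] :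
    MulAut V →* Module.End (ZMod p) (Additive V) where
  toFun e := (MonoidHom.toAdditive (MulEquiv.toMonoidHom e)).toZModLinearMap p
  map_one' := LinearMap.ext fun _ => rfl
  map_mul' _ _ := LinearMap.ext fun _ => rfl

theorem toEnd_apply (p : ℕ) (V : Type u) [CommGroup V] [Module (ZMod p) (Additive V)]
    (e : MulAut V) (v : Additive V) :
    toEnd p V e v = Additive.ofMul (e (Additive.toMul v)) := rfl

/-- The core: a coprime transitive group of automorphisms as in `IsCore` forces `|V| ≤ 3`. -/
theorem core {p : ℕ} [Fact p.Prime] {V : Type u} [CommGroup V] [Finite V]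
    (hexp : ∀ v : V, v ^ p = 1) (E : Subgroup (MulAut V)) (h : IsCore p V E) :
    Nat.card V ≤ 3 := by
  let _ : Module (ZMod p) (Additive V) :=
    AddCommGroup.zmodModule (n := p) (G := Additive V) fun x =>
      Additive.toMul.injective (hexp (Additive.toMul x))
  obtain ⟨h1, h2, h3, h4, h5⟩ := h
  have : Finite (Additive V) := ‹Finite V›
  let φ : E →* Module.End (ZMod p) (Additive V) := (toEnd p V).comp E.subtype
  have hfix : ∀ x : E, Fpf φ x →
      ∀ v : V, (x : MulAut V) v = v → v = 1 := fun x hx v hv =>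
    Additive.ofMul.injective (hx (Additive.ofMul v) (congrArg Additive.ofMul hv))
  exact coreLin (W := Additive V) (G := E) (φ := φ)
    ⟨fun x y e => Subtype.ext (MulEquiv.ext fun v => Additive.ofMul.injective
      (LinearMap.congr_fun e (Additive.ofMul v))), h1,
    fun v w hv hw => by
      obtain ⟨e, he, hev⟩ := h2 (Additive.toMul v) (Additive.toMul w)
        (fun e => hv (Additive.toMul.injective e)) (fun e => hw (Additive.toMul.injective e))
      exact ⟨⟨e, he⟩, congrArg Additive.ofMul hev⟩,
    h3, h4, fun x y hx hy cx cy => h5 x y (hfix x hx) (hfix y hy) cx cy⟩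

end Cfsg.Agent.KThree57
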