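import Cfsg.Agent.S0886
import Cfsg.Agent.Lib.CharBasicDecomp
import Cfsg.Agent.Lib.CharInducedClifford

/-!
Norm of the characters over an invariant character on a coset with cyclic centralizer in the
quotient.
-/

set_option autoImplicit false

namespace Cfsg.Agent.KThree57

open Cfsg Cfsg.Agent.CharBasic Cfsg.Agent.CharBasicOrth Cfsg.Agent.CharBasicDecomp
open Cfsg.Agent.CharInduced
open scoped ComplexConjugate

attribute [local instance] Classical.propDecidable

universe u

namespace Coset79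

variable {G : Type u} [Group G] [Fintype G]

/-- Column orthogonality as a count of conjugating elements. -/
theorem sum_irr_eq_count (x y : G) :
    ∑ χ : IrrCharacter G, (χ : G → ℂ) y * conj ((χ : G → ℂ) x) =
      ∑ u : G, if u * x * u⁻¹ = y then (1 : ℂ) else 0 := by
  rw [sum_irr_mul_conj, Finset.sum_boole]
  split_ifs with h
  · obtain ⟨w, hw⟩ := isConj_iff.1 h.symm
    rw [← Fintype.card_subtype, ← Nat.card_eq_fintype_card]
    refine congrArg Nat.cast (Nat.card_congr ?_)
    refine (Equiv.mulRight w).subtypeEquiv fun v => ?_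
    rw [Subgroup.mem_centralizer_singleton_iff, Equiv.coe_mulRight]
    constructor
    · intro hv
      calc v * w * x * (v * w)⁻¹ = v * (w * x * w⁻¹) * v⁻¹ := by group
        _ = y := by rw [hw, hv, mul_inv_cancel_right]
    · intro hv
      have e : v * (w * x * w⁻¹) * v⁻¹ = y := by rw [← hv]; group
      rw [hw] at e
      exact mul_inv_eq_iff_eq_mul.1 e
  · rw [Finset.filter_eq_empty_iff.2 fun u _ hu => h (isConj_iff.2 ⟨u, hu⟩).symm]
    simp

/-- Schur averaging over a normal subgroup on which the character stays irreducible. -/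
theorem sum_conj_mul_res (N : Subgroup G) [N.Normal] [Fintype N] {χ : G → ℂ}
    (hχ : IsIrrCharacter G χ) (hres : IsIrrCharacter N (fun n : N => χ n)) (a b : G) :
    ∑ c : N, χ ((c : G) * a * (c : G)⁻¹ * b) = (Nat.card N : ℂ) * χ a * χ b / χ 1 := by
  obtain ⟨n, ρ, hi, hρ⟩ := hχ
  have h2 : χ 1 ≠ 0 := isIrrCharacter_apply_one_ne_zero ⟨n, ρ, hi, hρ⟩
  let σ := repComap N.subtype ρ
  haveI : σ.IsIrreducible := isIrreducible_of_isIrrCharacter σ (by
    rw [character_repComap, hρ]; exact hres)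
  let T : Module.End ℂ (Fin n → ℂ) := ∑ c : N, ρ ((c : G) * a * (c : G)⁻¹)
  have hT : ∀ (g : N) (v : Fin n → ℂ), T (σ g v) = σ g (T v) := by
    intro g v
    show T (ρ (g : G) v) = ρ (g : G) (T v)
    simp only [T, LinearMap.sum_apply, map_sum]
    refine (Fintype.sum_equiv (Equiv.mulLeft g) _ _ fun c => ?_).symm
    rw [← Module.End.mul_apply, ← map_mul, ← Module.End.mul_apply, ← map_mul]
    congr 2
    simp only [Equiv.coe_mulLeft, Subgroup.coe_mul]
    group
  obtain ⟨k, hk, htr⟩ := exists_scalar_of_commute σ T hT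
  have htr' : LinearMap.trace ℂ (Fin n → ℂ) T = (Nat.card N : ℂ) * χ a := by
    simp only [T, map_sum]
    rw [← hρ]
    simp only [show ∀ c : G, LinearMap.trace ℂ (Fin n → ℂ) (ρ (c * a * c⁻¹)) = ρ.character a from
      fun c => Representation.char_conj ρ a c]
    simp [Nat.card_eq_fintype_card]
  have h1 : χ 1 = (Module.finrank ℂ (Fin n → ℂ) : ℂ) := by
    rw [← hρ]; exact Representation.char_one ρ
  have hs : ∑ c : N, χ ((c : G) * a * (c : G)⁻¹ * b) = k * χ b := by
    rw [← hρ]
    calc ∑ c : N, ρ.character ((c : G) * a * (c : G)⁻¹ * b)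
        = LinearMap.trace ℂ (Fin n → ℂ) (∑ c : N, ρ ((c : G) * a * (c : G)⁻¹) * ρ b) := by
          simp only [Representation.character, map_sum, map_mul]
      _ = LinearMap.trace ℂ (Fin n → ℂ) (T * ρ b) := by rw [Finset.sum_mul]
      _ = k * ρ.character b := by
          rw [hk, smul_mul_assoc, map_smul, smul_eq_mul]; rfl
  rw [hs, eq_div_iff h2, ← htr', htr, h1]
  ring

/-- The projection to the part over an invariant character. -/
theorem proj (C : Subgroup G) [C.Normal] [Fintype C] {θ : C → ℂ} (hθ : IsIrrCharacter C θ)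
    (hinv : ∀ (g : G) (n : C), θ (MulAut.conjNormal g n) = θ n) {χ : G → ℂ}
    (hχ : IsIrrCharacter G χ) (x : G) :
    θ 1 / (Nat.card C : ℂ) * ∑ c : C, conj (θ c) * χ ((c : G) * x) =
      if classInner (fun n : C => χ n) θ ≠ 0 then χ x else 0 := by
  obtain ⟨n, ρ, hi, hρ⟩ := hχ
  let T : Module.End ℂ (Fin n → ℂ) := ∑ c : C, conj (θ c) • ρ (c : G)
  have hT : ∀ (g : G) (v : Fin n → ℂ), T (ρ g v) = ρ g (T v) := by
    intro g v
    simp only [T, LinearMap.sum_apply, LinearMap.smul_apply, map_sum, map_smul]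
    refine (Fintype.sum_equiv (MulAut.conjNormal g : MulAut C).toEquiv _ _ fun c => ?_).symm
    rw [MulEquiv.toEquiv_eq_coe, MulEquiv.coe_toEquiv, hinv g c, MulAut.conjNormal_apply,
      ← Module.End.mul_apply, ← map_mul, ← Module.End.mul_apply, ← map_mul]
    congr 3
    group
  obtain ⟨k, hk, htr⟩ := exists_scalar_of_commute ρ T hT
  have h1 : χ 1 = (Module.finrank ℂ (Fin n → ℂ) : ℂ) := by
    rw [← hρ]; exact Representation.char_one ρ
  have hcl : LinearMap.trace ℂ (Fin n → ℂ) T =
      (Nat.card C : ℂ) * classInner (fun m : C => χ m) θ := by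
    rw [card_mul_classInner]
    simp only [T, map_sum, map_smul, smul_eq_mul, ← hρ]
    exact Finset.sum_congr rfl fun c _ => mul_comm _ _
  have hs : ∑ c : C, conj (θ c) * χ ((c : G) * x) = k * χ x := by
    rw [← hρ]
    calc ∑ c : C, conj (θ c) * ρ.character ((c : G) * x)
        = LinearMap.trace ℂ (Fin n → ℂ) (T * ρ x) := by
          simp only [T, Representation.character, Finset.sum_mul, map_sum, smul_mul_assoc,
            map_smul, smul_eq_mul, map_mul]
      _ = k * ρ.character x := by rw [hk, smul_mul_assoc, map_smul, smul_eq_mul]; rfl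
  have hχ' : IsIrrCharacter G χ := ⟨n, ρ, hi, hρ⟩
  have h2 : χ 1 ≠ 0 := isIrrCharacter_apply_one_ne_zero hχ'
  rw [htr, ← h1] at hcl
  rw [hs]
  split_ifs with ha
  · have horb : orbitFin C θ = {θ} := by
      rw [Finset.eq_singleton_iff_unique_mem]
      refine ⟨self_mem_orbitFin C θ, fun φ hφ => ?_⟩
      obtain ⟨g, rfl⟩ := (mem_orbitFin C).1 hφ
      funext m
      exact hinv g m
    have hc := congrFun (clifford C hχ' hθ ha) 1
    rw [horb, Finset.sum_singleton, Pi.smul_apply, smul_eq_mul, OneMemClass.coe_one] at hc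
    have e : θ 1 * k * classInner (fun m : C => χ m) θ =
        (Nat.card C : ℂ) * classInner (fun m : C => χ m) θ := by
      rw [← hcl, hc]; ring
    have hC : (Nat.card C : ℂ) ≠ 0 := card_subgroup_ne_zero C
    calc θ 1 / (Nat.card C : ℂ) * (k * χ x) = θ 1 * k / (Nat.card C : ℂ) * χ x := by ring
      _ = χ x := by rw [mul_right_cancel₀ ha e, div_self hC, one_mul]
  · rw [not_not] at ha
    rw [ha, mul_zero] at hcl
    rw [(mul_eq_zero.1 hcl).resolve_left h2]
    ring

end Coset79

open Coset79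

/-- The characters over an invariant `θ` on a coset whose image has cyclic centralizer. -/
theorem coset_norm {G : Type u} [Group G] [Fintype G] (C : Subgroup G) [C.Normal] [Fintype C]
    (θ : IrrCharacter C)
    (hinv : ∀ g : G, ∀ n n' : C, (n' : G) = g * n * g⁻¹ → (θ : C → ℂ) n' = (θ : C → ℂ) n)
    (g : G)
    (hcyc : IsCyclic (Subgroup.centralizer ({(QuotientGroup.mk g : G ⧸ C)} : Set (G ⧸ C)))) :
    ∑ χ : IrrCharacter G, (if classInner (fun n : C => (χ : G → ℂ) n) (θ : C → ℂ) ≠ 0 then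
      ∑ c : C, (χ : G → ℂ) ((c : G) * g) * conj ((χ : G → ℂ) ((c : G) * g)) else 0) =
      (Nat.card C : ℂ) *
        (Nat.card (Subgroup.centralizer ({(QuotientGroup.mk g : G ⧸ C)} : Set (G ⧸ C))) : ℂ) := by
  have hinv' : ∀ (u : G) (n : C), (θ : C → ℂ) (MulAut.conjNormal u n) = (θ : C → ℂ) n :=
    fun u n => hinv u n _ (MulAut.conjNormal_apply u n)
  set Z := Subgroup.centralizer ({(QuotientGroup.mk g : G ⧸ C)} : Set (G ⧸ C)) with hZ
  set H := Z.comap (QuotientGroup.mk' C) with hH
  have hmk : ∀ c : C, ((c : G) : G ⧸ C) = 1 := fun c => (QuotientGroup.eq_one_iff _).2 c.2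
  have hCH : C ≤ H := fun c hc => by
    rw [hH, Subgroup.mem_comap,
      (show QuotientGroup.mk' C c = 1 from (QuotientGroup.eq_one_iff c).2 hc)]
    exact one_mem _
  have hgH : g ∈ H := by
    rw [hH, Subgroup.mem_comap, hZ, Subgroup.mem_centralizer_singleton_iff]
    rfl
  have := Fintype.ofFinite H
  -- the extension to `H`
  set C' := C.subgroupOf H with hC'
  haveI : C'.Normal := inferInstance
  let f : H →* Z := ((QuotientGroup.mk' C).comp H.subtype).codRestrict Z fun h => h.2
  have hf : Function.Surjective f := fun z => by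
    obtain ⟨y, hy⟩ := QuotientGroup.mk'_surjective C (z : G ⧸ C)
    refine ⟨⟨y, ?_⟩, Subtype.ext hy⟩
    rw [hH, Subgroup.mem_comap, hy]
    exact z.2
  have hker : f.ker = C' := by
    ext h
    rw [MonoidHom.mem_ker, hC', Subgroup.mem_subgroupOf, ← QuotientGroup.eq_one_iff (N := C)]
    exact Subtype.ext_iff
  have q : (H ⧸ C') ≃* Z :=
    (QuotientGroup.quotientMulEquivOfEq hker.symm).trans
      (QuotientGroup.quotientKerEquivOfSurjective f hf)
  haveI : IsCyclic (H ⧸ C') := isCyclic_of_injective q.toMonoidHom q.injective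
  set e := Subgroup.subgroupOfEquivOfLe hCH with he
  have := Fintype.ofFinite C'
  set θ₁ : C' → ℂ := fun n => (θ : C → ℂ) (e n) with hθ₁def
  have hθ₁ : IsIrrCharacter C' θ₁ := isIrrCharacter_comap e.toMonoidHom e.surjective θ.2
  obtain ⟨η, hη, hηres⟩ := S0886.result C' ‹_› θ₁ hθ₁ (fun h n => hinv (h : G) (e n) _ rfl)
  have hηr : IsIrrCharacter C' (fun n : C' => η n) := by
    rw [show (fun n : C' => η n) = θ₁ from funext hηres]; exact hθ₁
  have hext : ∀ (h : H) (hh : (h : G) ∈ C), η h = (θ : C → ℂ) ⟨h, hh⟩ := fun h hh => by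
    rw [show η h = η ((⟨h, hh⟩ : C') : H) from rfl, hηres]
    rfl
  have hη1 : η 1 = (θ : C → ℂ) 1 := hext 1 C.one_mem
  have hθ0 : (θ : C → ℂ) 1 ≠ 0 := isIrrCharacter_apply_one_ne_zero θ.2
  have hC0 : (Nat.card C : ℂ) ≠ 0 := card_subgroup_ne_zero C
  -- one element of the coset
  have hone : ∀ c : C, ∑ χ : IrrCharacter G,
      (if classInner (fun n : C => (χ : G → ℂ) n) (θ : C → ℂ) ≠ 0 then
        (χ : G → ℂ) ((c : G) * g) * conj ((χ : G → ℂ) ((c : G) * g)) else 0) =
      (θ : C → ℂ) 1 / (Nat.card C : ℂ) * ∑ u : H,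
        conj (η (u * ⟨(c : G) * g, mul_mem (hCH c.2) hgH⟩ * u⁻¹ *
          (⟨(c : G) * g, mul_mem (hCH c.2) hgH⟩ : H)⁻¹)) := by
    intro c
    set x := (c : G) * g with hx
    have hterm : ∀ χ : IrrCharacter G,
        (if classInner (fun n : C => (χ : G → ℂ) n) (θ : C → ℂ) ≠ 0 then
          (χ : G → ℂ) x * conj ((χ : G → ℂ) x) else 0) =
        (θ : C → ℂ) 1 / (Nat.card C : ℂ) * ∑ d : C, conj ((θ : C → ℂ) d) *
          ((χ : G → ℂ) ((d : G) * x) * conj ((χ : G → ℂ) x)) := by
      intro χ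
      simp only [← mul_assoc, ← Finset.sum_mul]
      rw [proj C θ.2 hinv' χ.2 x, ite_mul, zero_mul]
    rw [Finset.sum_congr rfl fun χ _ => hterm χ, ← Finset.mul_sum, Finset.sum_comm]
    congr 1
    rw [Finset.sum_congr rfl fun d _ => by rw [← Finset.mul_sum, sum_irr_eq_count, Finset.mul_sum],
      Finset.sum_comm]
    have hrhs : ∀ u : G, (∑ d : C, conj ((θ : C → ℂ) d) *
        if u * x * u⁻¹ = (d : G) * x then (1 : ℂ) else 0) =
        conj (extendByZero C (θ : C → ℂ) (u * x * u⁻¹ * x⁻¹)) := by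
      intro u
      by_cases hm : u * x * u⁻¹ * x⁻¹ ∈ C
      · rw [ext_zero_of_mem _ hm, Finset.sum_eq_single ⟨_, hm⟩]
        · rw [if_pos (by simp), mul_one]
        · intro d _ hd
          rw [if_neg, mul_zero]
          exact fun h => hd (Subtype.ext (eq_mul_inv_iff_mul_eq.2 h.symm))
        · exact fun h => absurd (Finset.mem_univ _) h
      · rw [ext_zero_of_not_mem _ hm, map_zero]
        refine Finset.sum_eq_zero fun d _ => ?_
        rw [if_neg, mul_zero]
        exact fun h => hm (by rw [h]; simpa using d.2)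
    rw [Finset.sum_congr rfl fun u _ => hrhs u,
      ← Finset.sum_filter_add_sum_filter_not Finset.univ (fun u : G => u ∈ H),
      Finset.sum_eq_zero (s := Finset.univ.filter fun u : G => u ∉ H), add_zero,
      Finset.sum_subtype (p := fun u : G => u ∈ H) _ (by simp)]
    · refine Finset.sum_congr rfl fun u _ => ?_
      have hu := Subgroup.mem_centralizer_singleton_iff.1
        (show (((u : G) : G ⧸ C)) ∈ Z from u.2)
      have hm : (u : G) * x * (u : G)⁻¹ * x⁻¹ ∈ C := by
        rw [← QuotientGroup.eq_one_iff (N := C)]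
        simp only [hx, QuotientGroup.mk_mul, QuotientGroup.mk_inv, hmk, one_mul]
        rw [hu, mul_inv_cancel_right, mul_inv_cancel]
      rw [ext_zero_of_mem _ hm]
      exact congrArg conj (hext (u * ⟨x, _⟩ * u⁻¹ * (⟨x, _⟩ : H)⁻¹) hm).symm
    · intro u hu
      rw [ext_zero_of_not_mem, map_zero]
      intro hm
      refine (Finset.mem_filter.1 hu).2 ?_
      rw [hH, Subgroup.mem_comap, hZ, Subgroup.mem_centralizer_singleton_iff]
      rw [← QuotientGroup.eq_one_iff (N := C)] at hm
      simp only [hx, QuotientGroup.mk_mul, QuotientGroup.mk_inv, hmk, one_mul] at hm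
      simp only [QuotientGroup.mk'_apply]
      exact mul_inv_eq_iff_eq_mul.1 (mul_inv_eq_one.1 hm)
  have hsplit : ∀ χ : IrrCharacter G,
      (if classInner (fun n : C => (χ : G → ℂ) n) (θ : C → ℂ) ≠ 0 then
        ∑ c : C, (χ : G → ℂ) ((c : G) * g) * conj ((χ : G → ℂ) ((c : G) * g)) else 0) =
      ∑ c : C, if classInner (fun n : C => (χ : G → ℂ) n) (θ : C → ℂ) ≠ 0 then
        (χ : G → ℂ) ((c : G) * g) * conj ((χ : G → ℂ) ((c : G) * g)) else 0 := fun χ => by
    split_ifs <;> simp
  simp only [hsplit]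
  rw [Finset.sum_comm, Finset.sum_congr rfl fun c _ => hone c, ← Finset.mul_sum, Finset.sum_comm]
  -- Schur averaging in `H`
  have hinner : ∀ u : H, ∑ c : C, conj (η (u * ⟨(c : G) * g, mul_mem (hCH c.2) hgH⟩ * u⁻¹ *
      (⟨(c : G) * g, mul_mem (hCH c.2) hgH⟩ : H)⁻¹)) =
      (Nat.card C : ℂ) / (θ : C → ℂ) 1 * (η u * conj (η u)) := by
    intro u
    have hcl := isClassFunction_irr hη
    set gH : H := ⟨g, hgH⟩ with hgH'
    have hs := sum_conj_mul_res C' hη hηr (gH * u⁻¹ * gH⁻¹) u
    rw [Nat.card_congr e.toEquiv, hη1, hcl u⁻¹ gH,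
      isCharacter_inv (isCharacter_of_isIrrCharacter hη) u,
      ← e.symm.toEquiv.sum_comp] at hs
    rw [← map_sum, show ∑ c : C, η (u * ⟨(c : G) * g, mul_mem (hCH c.2) hgH⟩ * u⁻¹ *
      (⟨(c : G) * g, mul_mem (hCH c.2) hgH⟩ : H)⁻¹) =
        (Nat.card C : ℂ) * conj (η u) * η u / (θ : C → ℂ) 1 from hs ▸ Finset.sum_congr rfl
          fun c _ => ?_]
    · obtain ⟨d, -, hd⟩ := isIrrCharacter_apply_one θ.2
      simp only [hd, map_div₀, map_mul, map_natCast, Complex.conj_conj]
      ring
    · have hd : ((e.symm c : C') : H) = (⟨(c : G), hCH c.2⟩ : H) := rfl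
      rw [show (e.symm.toEquiv c : C') = e.symm c from rfl, hd]
      set cH : H := ⟨(c : G), hCH c.2⟩
      rw [show (⟨(c : G) * g, mul_mem (hCH c.2) hgH⟩ : H) = cH * gH from rfl]
      exact apply_eq_of_isConj hcl (isConj_iff.2 ⟨u⁻¹, by group⟩)
  rw [Finset.sum_congr rfl fun u _ => hinner u, ← Finset.mul_sum]
  have hsum : ∑ u : H, η u * conj (η u) = (Nat.card H : ℂ) := by
    have h := card_mul_classInner η η
    rw [classInner_irr_self hη, mul_one] at h
    exact h.symm
  have hcard : Nat.card H = Nat.card C * Nat.card Z := by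
    rw [← Subgroup.card_mul_index C', Nat.card_congr e.toEquiv, Subgroup.index,
      Nat.card_congr q.toEquiv]
  rw [hsum, hcard]
  push_cast
  field_simp

end Cfsg.Agent.KThree57
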