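import Cfsg.Agent.Lib.KThree57Mid

/-!
The automorphisms induced on the defect group by a group with the configuration left over.
-/

set_option autoImplicit false

namespace Cfsg.Agent.KThree57

open Cfsg Cfsg.Agent.BlockTheoryCentre Cfsg.Agent.BlockTheoryIdem
open scoped ComplexConjugate

attribute [local instance] Classical.propDecidable

universe u

variable {p : ℕ} [hp : Fact p.Prime] {M : Ideal AlgInt} {G : Type u} [Group G] [Fintype G]
variable {V : Subgroup G} {B : Set (IrrCharacter G)}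
variable {θ : IrrCharacter (Subgroup.centralizer (V : Set G))} {X₁ X₂ Y : IrrCharacter G}

local notation "C" => Subgroup.centralizer (V : Set G)

theorem normSq_of_rel {a b : ℕ} {x y : ℂ} (h : (a : ℂ) * x + (b : ℂ) * y = 0) :
    (a : ℝ) ^ 2 * Complex.normSq x = (b : ℝ) ^ 2 * Complex.normSq y := by
  have h1 := congrArg Complex.normSq (eq_neg_of_add_eq_zero_left h)
  rw [Complex.normSq_neg, map_mul, map_mul, Complex.normSq_natCast, Complex.normSq_natCast] at h1
  linear_combination h1

/-- The total of `|X₁|²` over the fixed point free elements. -/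
theorem Two.fpf_mass (t : Two p M G V B θ X₁ X₂ Y) :
    ((charDegree (X₁ : G → ℂ) : ℝ) ^ 2 + (charDegree (X₂ : G → ℂ) : ℝ) ^ 2) *
      ∑ g : G, (if ∀ v ∈ V, g * v * g⁻¹ = v → v = 1 then Complex.normSq ((X₁ : G → ℂ) g) else 0) =
    (charDegree (X₂ : G → ℂ) : ℝ) ^ 2 * Nat.card G := by
  set d₁ := charDegree (X₁ : G → ℂ) with hd₁
  set d₂ := charDegree (X₂ : G → ℂ) with hd₂
  have e₁ : (X₁ : G → ℂ) 1 = (d₁ : ℂ) := ClassAlgebraVal.apply_one_eq_charDegree X₁
  have e₂ : (X₂ : G → ℂ) 1 = (d₂ : ℂ) := ClassAlgebraVal.apply_one_eq_charDegree X₂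
  have hG : (Nat.card G : ℂ) ≠ 0 := Nat.cast_ne_zero.mpr Nat.card_pos.ne'
  have horth : ∀ X W : IrrCharacter G, ∑ g : G, (X : G → ℂ) g * conj ((W : G → ℂ) g) =
      (Nat.card G : ℂ) * (if X = W then 1 else 0) := fun X W => by
    rw [← CharBasicOrth.classInner_irrCharacter X W, classInner, mul_inv_cancel_left₀ hG]
  have hpt : ∀ g : G,
      (d₁ : ℂ) * d₂ * ((X₁ : G → ℂ) g * conj ((X₂ : G → ℂ) g)) +
        ((d₁ : ℂ) ^ 2 + (d₂ : ℂ) ^ 2) * ((if ∀ v ∈ V, g * v * g⁻¹ = v → v = 1 then
          Complex.normSq ((X₁ : G → ℂ) g) else 0 : ℝ) : ℂ) =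
        (d₂ : ℂ) ^ 2 * ((X₁ : G → ℂ) g * conj ((X₁ : G → ℂ) g)) := by
    intro g
    split_ifs with hf
    · have h := congrArg conj (t.rel_fpf hf)
      rw [e₁, e₂, map_add, map_mul, map_mul, map_zero, map_natCast, map_natCast] at h
      rw [← Complex.mul_conj]
      linear_combination (d₁ : ℂ) * (X₁ : G → ℂ) g * h
    · push Not at hf
      obtain ⟨v, hv, hvg, hv1⟩ := hf
      have h := congrArg conj (t.rel_fix hv hv1 hvg)
      rw [e₁, e₂, map_mul, map_mul, map_natCast, map_natCast] at h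
      rw [Complex.ofReal_zero, mul_zero, add_zero]
      linear_combination -(d₂ : ℂ) * (X₁ : G → ℂ) g * h
  have h := Finset.sum_congr (s₁ := Finset.univ) rfl fun g _ => hpt g
  rw [Finset.sum_add_distrib, ← Finset.mul_sum, ← Finset.mul_sum, ← Finset.mul_sum, horth, horth,
    if_neg t.ne12, if_pos rfl, mul_zero, mul_zero, zero_add, mul_one, ← Complex.ofReal_sum] at h
  exact_mod_cast h

/-- The action of `G` on `V`. -/
noncomputable def act [V.Normal] : G →* MulAut V := MulAut.conjNormal

theorem ker_act [V.Normal] : (act (V := V)).ker = (C) := by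
  ext g
  rw [MonoidHom.mem_ker, Subgroup.mem_centralizer_iff]
  constructor
  · intro h v hv
    have h1 := congrArg Subtype.val (DFunLike.congr_fun h (⟨v, hv⟩ : V))
    rw [act, MulAut.conjNormal_apply, MulAut.one_apply] at h1
    exact (mul_inv_eq_iff_eq_mul.mp h1).symm
  · intro h
    ext v
    rw [act, MulAut.conjNormal_apply, MulAut.one_apply, ← h v v.2, mul_inv_cancel_right]

theorem fpf_iff [V.Normal] {g : G} :
    (∀ v : V, act g v = v → v = 1) ↔ ∀ v ∈ V, g * v * g⁻¹ = v → v = 1 := by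
  constructor
  · intro h v hv hg
    exact congrArg Subtype.val (h ⟨v, hv⟩ (Subtype.ext (by rw [act, MulAut.conjNormal_apply]; exact hg)))
  · intro h v hg
    refine Subtype.ext (h v v.2 ?_)
    have h1 := congrArg Subtype.val hg
    rwa [act, MulAut.conjNormal_apply] at h1

theorem fibre_sum [V.Normal] (g₀ : G) (f : G → ℂ) :
    ∑ g : G, (if act (V := V) g = act g₀ then f g else 0) =
      ∑ c : C, f ((c : G) * g₀) := by
  rw [← Finset.sum_filter]
  refine (Finset.sum_bij (fun (c : C) _ => (c : G) * g₀) ?_ ?_ ?_ ?_).symm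
  · intro c _
    rw [Finset.mem_filter]
    refine ⟨Finset.mem_univ _, ?_⟩
    have hc : act (V := V) (c : G) = 1 := by rw [← MonoidHom.mem_ker, ker_act]; exact c.2
    rw [map_mul, hc, one_mul]
  · intro a _ b _ h
    exact Subtype.ext (mul_right_cancel h)
  · intro g hg
    rw [Finset.mem_filter] at hg
    refine ⟨⟨g * g₀⁻¹, ?_⟩, Finset.mem_univ _, inv_mul_cancel_right g g₀⟩
    rw [← ker_act, MonoidHom.mem_ker, map_mul, map_inv, hg.2, mul_inv_cancel]
  · intro c _
    rfl

/-- Two fixed point free elements with cyclic centralisers are conjugate. -/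
theorem Two.fpf_conj (t : Two p M G V B θ X₁ X₂ Y) [V.Normal]
    (x y : (act (V := V) (G := G)).range) (hx : ∀ v : V, (x : MulAut V) v = v → v = 1)
    (hy : ∀ v : V, (y : MulAut V) v = v → v = 1)
    (cx : IsCyclic (Subgroup.centralizer ({x} : Set (act (V := V) (G := G)).range)))
    (cy : IsCyclic (Subgroup.centralizer ({y} : Set (act (V := V) (G := G)).range))) :
    IsConj x y := by
  haveI := t.toBlk.normal_cen
  let f := act (V := V) (G := G)
  have hf : f = act (V := V) (G := G) := rfl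
  let E := f.range
  let π : G →* E := f.rangeRestrict
  have hπ : ∀ g h : G, π g = π h ↔ f g = f h := fun g h => Subtype.ext_iff
  set F : G → ℝ := fun g => if ∀ v ∈ V, g * v * g⁻¹ = v → v = 1 then
    Complex.normSq ((X₁ : G → ℂ) g) else 0 with hF
  set d₁ := charDegree (X₁ : G → ℂ) with hd₁
  set d₂ := charDegree (X₂ : G → ℂ) with hd₂
  have e₁ : (X₁ : G → ℂ) 1 = (d₁ : ℂ) := ClassAlgebraVal.apply_one_eq_charDegree X₁
  have e₂ : (X₂ : G → ℂ) 1 = (d₂ : ℂ) := ClassAlgebraVal.apply_one_eq_charDegree X₂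
  set A : E → ℝ := fun z => ∑ g : G, if π g = z then F g else 0 with hA
  have hval : ∀ z : E, (∀ v : V, (z : MulAut V) v = v → v = 1) →
      IsCyclic (Subgroup.centralizer ({z} : Set E)) →
      ((d₁ : ℝ) ^ 2 + (d₂ : ℝ) ^ 2) * A z =
        (d₂ : ℝ) ^ 2 * (Nat.card C * Nat.card (Subgroup.centralizer ({z} : Set E))) := by
    intro z hz hcz
    obtain ⟨g₀, hg₀⟩ := f.rangeRestrict_surjective z
    subst hg₀
    let ψ : (G ⧸ (C)) ≃* E := (QuotientGroup.quotientMulEquivOfEq (ker_act (V := V)).symm).trans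
      (QuotientGroup.quotientKerEquivRange f)
    have hψ : ψ (QuotientGroup.mk g₀) = π g₀ := rfl
    set Z := Subgroup.centralizer ({(QuotientGroup.mk g₀ : G ⧸ (C))} : Set (G ⧸ (C))) with hZ
    have hmap : Z.map ψ.toMonoidHom = Subgroup.centralizer ({π g₀} : Set E) := by
      ext w
      rw [Subgroup.mem_map_equiv, hZ, Subgroup.mem_centralizer_singleton_iff,
        Subgroup.mem_centralizer_singleton_iff, ← hψ]
      constructor
      · intro h
        simpa using congrArg ψ h
      · intro h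
        apply ψ.injective
        simpa using h
    let σ : Z ≃* Subgroup.centralizer ({π g₀} : Set E) :=
      (ψ.subgroupMap Z).trans (MulEquiv.subgroupCongr hmap)
    have hcyc : IsCyclic Z := by
      haveI := hcz
      exact isCyclic_of_surjective σ.symm.toMonoidHom σ.symm.surjective
    have hcn := coset_norm (C) θ t.invariant g₀ hcyc
    have hcard : Nat.card Z = Nat.card (Subgroup.centralizer ({π g₀} : Set E)) :=
      Nat.card_congr σ.toEquiv
    obtain ⟨_, _, _, _, _, _, _, _, hn₁, hn₂⟩ := t.index_facts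
    set S : IrrCharacter G → ℂ := fun χ =>
      ∑ c : C, (χ : G → ℂ) ((c : G) * g₀) * conj ((χ : G → ℂ) ((c : G) * g₀))
    have hpick : ∑ χ : IrrCharacter G,
        (if classInner (fun n : C => (χ : G → ℂ) n) (θ : C → ℂ) ≠ 0 then S χ else 0) =
        S X₁ + S X₂ := by
      rw [← Finset.sum_subset (Finset.subset_univ ({X₁, X₂} : Finset (IrrCharacter G)))]
      · rw [Finset.sum_pair t.ne12, if_pos hn₁, if_pos hn₂]
      · intro χ _ hχ
        refine if_neg fun hne => ?_
        have hB := t.over χ hne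
        rw [t.eq_set] at hB
        simp only [Finset.mem_insert, Finset.mem_singleton, not_or] at hχ
        rcases hB with h | h | h
        · exact hχ.1 h
        · exact hχ.2 h
        · rw [Set.mem_singleton_iff] at h
          subst h
          exact hne t.Y_not_over
    rw [hpick, hcard] at hcn
    -- the values on the coset
    have hfg : ∀ c : C, ∀ v ∈ V, (c : G) * g₀ * v * ((c : G) * g₀)⁻¹ = v → v = 1 := by
      intro c
      refine fpf_iff.mp fun v hv => hz v ?_
      have hc : f (c : G) = 1 := by rw [← MonoidHom.mem_ker, hf, ker_act]; exact c.2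
      rw [map_mul, hc, one_mul] at hv
      exact hv
    have hAz : A (π g₀) = ∑ c : C, Complex.normSq ((X₁ : G → ℂ) ((c : G) * g₀)) := by
      apply Complex.ofReal_injective
      have h := fibre_sum (V := V) g₀ fun g => ((F g : ℝ) : ℂ)
      rw [Complex.ofReal_sum, Complex.ofReal_sum]
      refine Eq.trans ?_ (h.trans (Finset.sum_congr rfl fun c _ => ?_))
      · refine Finset.sum_congr rfl fun g _ => ?_
        rw [← hf]
        by_cases hg : f g = f g₀
        · rw [if_pos hg, if_pos ((hπ g g₀).mpr hg)]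
        · rw [if_neg hg, if_neg (mt (hπ g g₀).mp hg), Complex.ofReal_zero]
      · simp only [hF, if_pos (hfg c)]
    have hAB : (∑ c : C, Complex.normSq ((X₁ : G → ℂ) ((c : G) * g₀))) +
        (∑ c : C, Complex.normSq ((X₂ : G → ℂ) ((c : G) * g₀))) =
        (Nat.card C : ℝ) * (Nat.card (Subgroup.centralizer ({π g₀} : Set E)) : ℝ) := by
      apply Complex.ofReal_injective
      push_cast
      simp only [S, Complex.mul_conj] at hcn
      exact hcn
    have hrel : (d₁ : ℝ) ^ 2 * (∑ c : C, Complex.normSq ((X₁ : G → ℂ) ((c : G) * g₀))) =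
        (d₂ : ℝ) ^ 2 * (∑ c : C, Complex.normSq ((X₂ : G → ℂ) ((c : G) * g₀))) := by
      rw [Finset.mul_sum, Finset.mul_sum]
      refine Finset.sum_congr rfl fun c _ => normSq_of_rel ?_
      have h := t.rel_fpf (hfg c)
      rwa [e₁, e₂] at h
    rw [hAz]
    linear_combination hrel + (d₂ : ℝ) ^ 2 * hAB
  have hclass : ∀ e z : E, A (e * z * e⁻¹) = A z := by
    intro e z
    obtain ⟨k, (hk : π k = e)⟩ := f.rangeRestrict_surjective e
    subst hk
    simp only [hA]
    refine Fintype.sum_equiv (MulAut.conj k⁻¹).toEquiv _ _ fun g => ?_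
    simp only [MulEquiv.toEquiv_eq_coe, MulEquiv.coe_toEquiv, MulAut.conj_apply, inv_inv]
    have h1 : F (k⁻¹ * g * k) = F g := by
      simp only [hF]
      have h2 : (X₁ : G → ℂ) (k⁻¹ * g * k) = (X₁ : G → ℂ) g := by
        have := irr_classFun X₁ g k⁻¹
        rwa [inv_inv] at this
      rw [h2]
      refine if_congr ?_ rfl rfl
      constructor
      · intro h v hv hgv
        have hv' : k⁻¹ * v * k ∈ V := by
          simpa using Subgroup.Normal.conj_mem inferInstance v hv k⁻¹
        have h3 := h _ hv' (by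
          calc k⁻¹ * g * k * (k⁻¹ * v * k) * (k⁻¹ * g * k)⁻¹ = k⁻¹ * (g * v * g⁻¹) * k := by group
            _ = k⁻¹ * v * k := by rw [hgv])
        calc v = k * (k⁻¹ * v * k) * k⁻¹ := by group
          _ = 1 := by rw [h3]; group
      · intro h v hv hgv
        have hv' : k * v * k⁻¹ ∈ V := Subgroup.Normal.conj_mem inferInstance v hv k
        have h3 := h _ hv' (by
          calc g * (k * v * k⁻¹) * g⁻¹ = k * (k⁻¹ * g * k * v * (k⁻¹ * g * k)⁻¹) * k⁻¹ := by group
            _ = k * v * k⁻¹ := by rw [hgv])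
        calc v = k⁻¹ * (k * v * k⁻¹) * k := by group
          _ = 1 := by rw [h3]; group
    rw [h1]
    refine if_congr ?_ rfl rfl
    rw [map_mul, map_mul, map_inv]
    constructor
    · intro h; rw [h]; group
    · intro h; rw [← h]; group
  by_contra hne
  have hsub : ∀ z : E, Nat.card (conjugatesOf z) * Nat.card (Subgroup.centralizer ({z} : Set E)) =
      Nat.card E := by
    intro z
    have h1 := Nat.card_congr (MulAction.orbitProdStabilizerEquivGroup (ConjAct E) z)
    rw [Nat.card_prod, ← Subgroup.nat_card_centralizer_nat_card_stabilizer,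
      ConjAct.orbit_eq_carrier_conjClasses, show (ConjClasses.mk z).carrier = conjugatesOf z from rfl] at h1
    exact h1
  let cls : E → Finset E := fun z => Finset.univ.filter fun w => IsConj z w
  have hmem : ∀ z w : E, w ∈ cls z → IsConj z w := fun z w h => (Finset.mem_filter.mp h).2
  have hclsc : ∀ z : E, Nat.card (conjugatesOf z) = (cls z).card := fun z => by
    rw [Nat.card_coe_set_eq, ← Set.ncard_coe_finset]
    congr 1
    ext w
    simp only [cls, Finset.coe_filter, Finset.mem_univ, true_and, Set.mem_setOf_eq]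
    rfl
  have hmass : ∀ z : E, (∀ v : V, (z : MulAut V) v = v → v = 1) →
      IsCyclic (Subgroup.centralizer ({z} : Set E)) →
      ((d₁ : ℝ) ^ 2 + (d₂ : ℝ) ^ 2) * ∑ w ∈ (cls z), A w =
        (d₂ : ℝ) ^ 2 * Nat.card G := by
    intro z hz hcz
    have hconst : ∀ w ∈ (cls z), A w = A z := fun w hw => by
      obtain ⟨e, he⟩ := isConj_iff.mp (hmem z w hw)
      rw [← he, hclass]
    rw [Finset.sum_congr rfl hconst, Finset.sum_const,
      nsmul_eq_mul, ← hclsc]
    have hG : Nat.card G = Nat.card C * Nat.card E := by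
      rw [← Subgroup.card_mul_index (C), ← ker_act, Subgroup.index_ker, ← hf]
    rw [hG, ← hsub z]
    push_cast
    linear_combination (Nat.card (conjugatesOf z) : ℝ) * hval z hz hcz
  have hdisj : Disjoint (cls x) (cls y) := by
    rw [Finset.disjoint_left]
    intro w hwx hwy
    exact hne ((hmem x w hwx).trans (hmem y w hwy).symm)
  have hF0 : ∀ g : G, 0 ≤ F g := fun g => by
    simp only [hF]; split_ifs
    · exact Complex.normSq_nonneg _
    · exact le_rfl
  have hle : ∑ w ∈ (cls x) ∪ (cls y), A w ≤ ∑ g : G, F g := by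
    refine (Finset.sum_le_sum_of_subset_of_nonneg (Finset.subset_univ _) fun w _ _ =>
      Finset.sum_nonneg fun g _ => by split_ifs <;> simp [hF0]).trans_eq ?_
    rw [Finset.sum_comm]
    refine Finset.sum_congr rfl fun g _ => ?_
    exact (Finset.sum_eq_single (π g) (fun b _ hb => if_neg hb.symm)
      (fun h => absurd (Finset.mem_univ _) h)).trans (if_pos rfl)
  rw [Finset.sum_union hdisj] at hle
  have h1 := hmass x hx cx
  have h2 := hmass y hy cy
  have h3 := t.fpf_mass
  rw [← hd₁, ← hd₂] at h3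
  have hd₂pos : (0 : ℝ) < (d₂ : ℝ) := by
    refine Nat.cast_pos.mpr (Nat.pos_of_ne_zero fun h0 => irr_one_ne_zero X₂ ?_)
    rw [e₂, h0, Nat.cast_zero]
  have hGpos : (0 : ℝ) < (Nat.card G : ℝ) := Nat.cast_pos.mpr Nat.card_pos
  nlinarith [mul_pos (mul_pos hd₂pos hd₂pos) hGpos,
    mul_le_mul_of_nonneg_left hle (by positivity : (0 : ℝ) ≤ (d₁ : ℝ) ^ 2 + (d₂ : ℝ) ^ 2)]

theorem Two.exists_core (t : Two p M G V B θ X₁ X₂ Y) :
    ∃ E : Subgroup (MulAut V), IsCore p V E := by
  haveI := t.toBlk.normal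
  obtain ⟨e₁, e₂, -, -, -, -, hidx, hcop, -, -⟩ := t.index_facts
  have hE : Nat.card (act (V := V) (G := G)).range = (C).index := by
    rw [← Subgroup.index_ker, ker_act]
  have htr : ∀ v w : V, v ≠ 1 → w ≠ 1 → ∃ e ∈ (act (V := V) (G := G)).range, e v = w := by
    intro v w hv hw
    obtain ⟨g, hg⟩ := t.transitive v v.2 w w.2 (fun h => hv (Subtype.ext h)) fun h => hw (Subtype.ext h)
    exact ⟨act g, ⟨g, rfl⟩, Subtype.ext (by rw [act, MulAut.conjNormal_apply]; exact hg)⟩
  refine ⟨(act (V := V) (G := G)).range, by rwa [hE], htr, ?_, ⟨e₁, e₂, by rw [hE, hidx]⟩,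
    t.fpf_conj⟩
  obtain ⟨v, hv, hv1⟩ := V.bot_or_exists_ne_one.resolve_left t.ne_bot
  -- the number of nontrivial elements divides the order of the group of automorphisms
  have hdvd : Nat.card V - 1 ∣ (C).index := by
    set E := (act (V := V) (G := G)).range with hEdef
    have horb : MulAction.orbit E (⟨v, hv⟩ : V) = {w : V | w ≠ 1} := by
      ext w
      constructor
      · rintro ⟨e, rfl⟩ h
        exact hv1 (congrArg Subtype.val ((e : MulAut V).injective (h.trans (map_one _).symm)))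
      · intro hw
        obtain ⟨e, he, hew⟩ := htr ⟨v, hv⟩ w (fun h => hv1 (congrArg Subtype.val h)) hw
        exact ⟨⟨e, he⟩, hew⟩
    have hc : Nat.card (MulAction.orbit E (⟨v, hv⟩ : V)) = Nat.card V - 1 := by
      rw [horb, Nat.card_coe_set_eq, show {w : V | w ≠ 1} = ({1} : Set V)ᶜ from rfl,
        Set.ncard_compl, Set.ncard_singleton]
    rw [← hE, ← hc, ← Nat.card_congr (MulAction.orbitProdStabilizerEquivGroup E (⟨v, hv⟩ : V)),
      Nat.card_prod]
    exact dvd_mul_right _ _
  obtain ⟨r, hr⟩ := hdvd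
  have hdeg := t.degree_Y
  have h2 : 2 ≤ Nat.card V := t.toBlk.one_lt_card
  set q1 := Nat.card V - 1 with hq1
  set a := charDegree (θ : C → ℂ) with ha
  have ha0 : a ≠ 0 := by
    intro h0
    exact irr_one_ne_zero θ (by rw [ClassAlgebraVal.apply_one_eq_charDegree θ, ← ha, h0, Nat.cast_zero])
  rw [hr] at hdeg
  have hsq : (a * q1) ^ 2 ∣ charDegree (Y : G → ℂ) ^ 2 := ⟨r, by rw [hdeg]; ring⟩
  obtain ⟨k, hk⟩ := (Nat.pow_dvd_pow_iff two_ne_zero).mp hsq
  refine ⟨k, ?_⟩
  rw [hE, hr]
  have h3 : (a * q1) ^ 2 * (k ^ 2) = (a * q1) ^ 2 * r := by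
    rw [← mul_pow, ← hk, hdeg]; ring
  have hq0 : 0 < (a * q1) ^ 2 := pow_pos (Nat.mul_pos (Nat.pos_of_ne_zero ha0) (by omega)) 2
  rw [← Nat.eq_of_mul_eq_mul_left hq0 h3, mul_comm]

end Cfsg.Agent.KThree57
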