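import Cfsg.Agent.Lib.KThree57Defs
import Cfsg.Agent.Lib.BlockReynolds9
import Cfsg.Agent.S4436

/-!
Passing to the stabiliser of the block of the centraliser: from a block with normal elementary
abelian defect group to the invariant version.
-/

set_option autoImplicit false

namespace Cfsg.Agent.KThree57

open Cfsg Cfsg.Agent.BlockTheoryLocalRing Cfsg.Agent.BlockTheoryIdem Cfsg.Agent.BlockTheoryDefect
open Cfsg.Agent.BrauerPairs81Base Cfsg.Agent.BlockPCP9 Cfsg.Agent.BrauerBlocksCovering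
open Cfsg.Agent.CharInduced Cfsg.Agent.BlockTheoryBrauer Cfsg.Agent.BlockTheoryCentre

attribute [local instance] Classical.propDecidable

universe u

/-- A subgroup equal to `C_G(V)` seen as the centraliser inside an overgroup `T`. -/
def cenEquiv53 {G : Type u} [Group G] {V N T : Subgroup G} (hVT : V ≤ T) (hNT : N ≤ T)
    (hNC : N = Subgroup.centralizer (V : Set G)) :
    N ≃* Subgroup.centralizer ((V.subgroupOf T : Subgroup T) : Set T) where
  toFun n := ⟨⟨n, hNT n.2⟩, Subgroup.mem_centralizer_iff.mpr fun u hu =>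
    Subtype.ext (Subgroup.mem_centralizer_iff.mp (hNC.le n.2) (u : G) hu)⟩
  invFun c := ⟨((c : T) : G), hNC.ge (Subgroup.mem_centralizer_iff.mpr fun v hv =>
    congrArg Subtype.val (Subgroup.mem_centralizer_iff.mp c.2 ⟨v, hVT hv⟩ hv))⟩
  left_inv _ := rfl
  right_inv _ := rfl
  map_mul' _ _ := rfl

theorem classInner_cenEquiv53 {G : Type u} [Group G] [Fintype G] {V N T : Subgroup G}
    [Fintype N] [Fintype T] (hVT : V ≤ T) (hNT : N ≤ T)
    (hNC : N = Subgroup.centralizer (V : Set G)) (f : T → ℂ) (φ : IrrCharacter N) :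
    classInner (fun c : Subgroup.centralizer ((V.subgroupOf T : Subgroup T) : Set T) => f c)
      (pushChar (cenEquiv53 hVT hNT hNC) φ :
        Subgroup.centralizer ((V.subgroupOf T : Subgroup T) : Set T) → ℂ) =
      classInner (fun n : N => f ⟨n, hNT n.2⟩) (φ : N → ℂ) := by
  rw [← CharBasicOrth.classInner_congr_equiv (cenEquiv53 hVT hNT hNC)]
  rfl

variable {p : ℕ} [Fact p.Prime] {M : Ideal AlgInt}

/-- Reduction to an invariant canonical character. -/
theorem exists_inv {G : Type u} [Group G] [Fintype G] {V : Subgroup G}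
    {B : Set (IrrCharacter G)} (h : Blk p M G V B) :
    ∃ (T : Subgroup G) (_ : Fintype T) (B' : Set (IrrCharacter T))
      (θ : IrrCharacter (Subgroup.centralizer ((V.subgroupOf T : Subgroup T) : Set T))),
      V ≤ T ∧ Inv p M T (V.subgroupOf T) B' θ := by
  have hM := h.hM
  haveI := h.normal
  haveI hN : (PC V).Normal := BlockReynolds9.normal_PC
  have hP : IsPGroup p V := isPGroup_of_isDefectGroup h.hD
  have hab : ∀ a ∈ V, ∀ c ∈ V, a * c = c * a := fun a ha c hc => by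
    haveI := h.elem.1
    exact congrArg Subtype.val (mul_comm' (⟨a, ha⟩ : V) ⟨c, hc⟩)
  have hNC : PC V = Subgroup.centralizer (V : Set G) :=
    le_antisymm (sup_le (fun v hv => Subgroup.mem_centralizer_iff.mpr fun w hw => hab w hw v hv)
      le_rfl) cen_le_PC
  -- the block of a constituent
  obtain ⟨χ₀, hχ₀⟩ := block_nonempty hM h.hB
  obtain ⟨η, hη⟩ := BrauerBlocksCovering.exists_constituent (G := PC V)
    (isCharacter_res (PC V) (CharBasic.isCharacter_of_isIrrCharacter χ₀.2)) (irr_one_ne_zero χ₀)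
  set b := blockOf M (η : PC V → ℂ) with hbdef
  have hb : IsPBlock M b := isPBlock_blockOf η
  have hηb : η ∈ b := self_mem_blockOf hM η
  obtain ⟨hbD, -⟩ := BlockReynolds9.constituent_facts hM h.hB h.hD hχ₀ hη
  have hindB : IsInducedBlock M (PC V) b B := by
    have := BlockReynolds9.induced_of_constituent hM hP hη
    rwa [← eq_blockOf_of_mem hM h.hB hχ₀] at this
  have hVN : (V.subgroupOf (PC V)).Normal :=
    BlockPCount9.normal_of_sup_top BlockReynolds9.sup_subgroupOf_eq_top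
  obtain ⟨θ, hθ, htriv⟩ := BlockNormalP81.exists_trivial_on hM hb (V.subgroupOf (PC V))
    hP.comap_subtype
  have S : BlockPCount9.Setting p M b (V.subgroupOf (PC V)) θ :=
    ⟨hM, hP.comap_subtype, BlockReynolds9.sup_subgroupOf_eq_top, hVN, hb, hbD, hθ, htriv⟩
  -- the stabiliser
  set T : Subgroup G := CharInduced.inertia (PC V) (θ : PC V → ℂ) with hTdef
  have hNT : PC V ≤ T := CharInduced.le_inertia (PC V) (irr_classFun θ)
  have hfix : ∀ g ∈ T, conjIrr (PC V) θ g = θ := fun g hg => Subtype.ext hg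
  have hT : FongReynolds78.IsStab (PC V) b T := by
    intro g
    constructor
    · intro hg ξ hξ
      have := sameBlock_conjIrr (PC V) (sameBlock_of_mem hM hb hθ hξ) g
      rw [hfix g hg] at this
      exact mem_of_sameBlock hM hb hθ this
    · intro hg
      refine congrArg Subtype.val (S.eq_of_trivial (hg θ hθ) fun x hx => ?_)
      have hg' : g * (x : G) * g⁻¹ ∈ V := h.normal.conj_mem _ hx g
      show (θ : PC V → ℂ) ⟨g * (x : G) * g⁻¹, hN.conj_mem x x.2 g⟩ =
        (θ : PC V → ℂ) ⟨g * ((1 : PC V) : G) * g⁻¹, hN.conj_mem _ (1 : PC V).2 g⟩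
      exact (htriv _ hg').trans (congrArg _ (Subtype.ext (by simp)))
  have hVT : V ≤ T := le_PC.trans hNT
  letI : Fintype T := Fintype.ofFinite T
  obtain ⟨ψ₀, ho₀, hm₀⟩ := FongReynolds78.exists_over (T := T) hNT (b := b) ⟨η, hηb, hη⟩
  set B' := blockOf M (ψ₀ : T → ℂ) with hB'def
  have hB' : IsPBlock M B' := isPBlock_blockOf ψ₀
  have hψ₀ : ψ₀ ∈ B' := self_mem_blockOf hM ψ₀
  have hall : ∀ ψ ∈ B', FongReynolds78.Over hNT (b := b) ψ := fun ψ hψ =>
    FongReynolds78.over_of_sameBlock hT hNT hM hb (sameBlock_of_mem hM hB' hψ₀ hψ) ho₀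
  obtain ⟨A, hA, -, -, hiff⟩ :=
    FongReynolds78.correspondence hT hNT hM hb hB' ⟨ψ₀, hψ₀, ho₀⟩
  have hAB : A = B := block_eq_of_mem hM hA.2.1 h.hB
    ((hiff χ₀).2 ⟨ψ₀, hψ₀,
      (FongReynolds78.constituent_key hT hNT hM hb χ₀ ho₀ hm₀).1⟩) hχ₀
  subst hAB
  -- one inducing character for each induced one
  have huniq : ∀ ψ₁ ψ₂ : IrrCharacter T, FongReynolds78.Over hNT (b := b) ψ₁ →
      FongReynolds78.Over hNT (b := b) ψ₂ → indFun T (ψ₁ : T → ℂ) = indFun T (ψ₂ : T → ℂ) →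
      ψ₁ = ψ₂ := by
    intro ψ₁ ψ₂ h₁ h₂ he
    obtain ⟨χ₁, e₁, m₁⟩ := FongReynolds78.exists_induced hT hNT hM hb h₁
    obtain ⟨χ₂, e₂, m₂⟩ := FongReynolds78.exists_induced hT hNT hM hb h₂
    obtain rfl : χ₁ = χ₂ := Subtype.ext (e₁.trans (he.trans e₂.symm))
    exact (FongReynolds78.constituent_key hT hNT hM hb χ₁ h₂ m₂).2.2.1 ψ₁ h₁ m₁
  let C := Subgroup.centralizer ((V.subgroupOf T : Subgroup T) : Set T)
  let ε : PC V ≃* C := cenEquiv53 hVT hNT hNC
  haveI hVTn : (V.subgroupOf T).Normal := Subgroup.normal_subgroupOf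
  set θ' : IrrCharacter C := pushChar ε θ with hθ'
  have hb' : IsPBlock M (pushSet ε b) := isPBlock_push ε hb
  have hθb' : θ' ∈ pushSet ε b := ⟨θ, hθ, rfl⟩
  have hinv : ∀ (g : T) (n n' : C), (n' : T) = g * n * g⁻¹ →
      (θ' : C → ℂ) n' = (θ' : C → ℂ) n := by
    intro g n n' hn
    obtain ⟨m, rfl⟩ := ε.surjective n
    obtain ⟨m', rfl⟩ := ε.surjective n'
    rw [hθ', pushChar_apply, pushChar_apply]
    have := (CharInduced.mem_inertia_iff (PC V)).mp g.2 m
    refine (congrArg _ (Subtype.ext ?_)).trans this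
    exact congrArg (fun t : T => (t : G)) hn
  refine ⟨T, inferInstance, B', θ', hVT, ?_⟩
  refine
    { hM := hM
      normal := hVTn
      elem := ⟨?_, fun a ha => Subtype.ext (h.elem.2 (a : G) ha)⟩
      ne_bot := ?_
      hB := hB'
      hD := ?_
      card_le := ?_
      trivial_on := ?_
      invariant := hinv
      «over» := ?_
      covers := ?_ }
  · exact ⟨⟨fun a c => Subtype.ext (Subtype.ext (hab _ a.2 _ c.2))⟩⟩
  · intro hbot
    refine h.ne_bot ((Subgroup.eq_bot_iff_forall _).mpr fun v hv => ?_)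
    exact congrArg Subtype.val ((Subgroup.eq_bot_iff_forall _).mp hbot ⟨v, hVT hv⟩ hv)
  · obtain ⟨D, hD⟩ := exists_defectGroup (p := p) hM hB'
    have hstat : ∀ g : G, g ∈ T ↔ ∀ φ ∈ b, ∀ φ' : IrrCharacter (PC V),
        (∀ n : PC V, (φ' : PC V → ℂ) n =
          (φ : PC V → ℂ) ⟨g * n * g⁻¹, hN.conj_mem n n.2 g⟩) → φ' ∈ b := fun g =>
      ⟨fun hg φ hφ φ' he =>
        (show φ' = conjIrr (PC V) φ g from Subtype.ext (funext he)) ▸ (hT g).1 hg φ hφ,
        fun H => (hT g).2 fun φ hφ => H φ hφ _ fun _ => rfl⟩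
    obtain ⟨φ, hφ, hc⟩ := ho₀
    have hmap := (S4436.result p M hM (PC V) b hb T hstat hNT B' hB' ⟨ψ₀, hψ₀, φ, hφ, hc⟩ A hA).1
      D hD
    have hle : V.subgroupOf T ≤ D :=
      normal_le_defectGroup hM hB' hD (V.subgroupOf T) hP.comap_subtype
    have hcard : Nat.card D ≤ Nat.card (V.subgroupOf T) := le_of_eq <| by
      rw [← Subgroup.card_map_of_injective T.subtype_injective,
        BlockContribBounds.card_defectGroup hM h.hB hmap,
        ← BlockContribBounds.card_defectGroup hM h.hB h.hD]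
      exact (Nat.card_congr (Subgroup.subgroupOfEquivOfLe hVT).toEquiv).symm
    rw [Subgroup.eq_of_le_of_card_ge hle hcard]
    exact hD
  · refine le_trans (Nat.card_le_card_of_injective (fun ψ : B' =>
      (⟨⟨indFun T ((ψ : IrrCharacter T) : T → ℂ), ?_⟩, ?_⟩ : A)) fun ψ₁ ψ₂ he => ?_) h.card_le
    · obtain ⟨χ, he, -⟩ := FongReynolds78.exists_induced hT hNT hM hb (hall _ ψ.2)
      exact he ▸ χ.2
    · exact (hiff _).2 ⟨_, ψ.2, rfl⟩
    · exact Subtype.ext (huniq _ _ (hall _ ψ₁.2) (hall _ ψ₂.2)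
        (congrArg (fun x : A => ((x : IrrCharacter G) : G → ℂ)) he))
  · intro n hn
    obtain ⟨m, rfl⟩ := ε.surjective n
    rw [hθ', pushChar_apply, ← map_one ε, pushChar_apply]
    exact htriv m hn
  · intro χ hχ
    rw [hθ', classInner_cenEquiv53 hVT hNT hNC] at hχ
    have ho : FongReynolds78.Over hNT (b := b) χ := ⟨θ, hθ, hχ⟩
    obtain ⟨χG, he, hm⟩ := FongReynolds78.exists_induced hT hNT hM hb ho
    obtain ⟨φ, hφ, hc⟩ := (FongReynolds78.constituent_key hT hNT hM hb χG ho hm).2.2.2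
    have hind := BlockReynolds9.induced_of_constituent hM hP hc
    rw [← eq_blockOf_of_mem hM hb hφ] at hind
    have hmem : χG ∈ A := by
      rw [BlockTheoryInduced.inducedBlock_unique (PC V) hM hindB hind]
      exact self_mem_blockOf hM χG
    obtain ⟨ψ, hψ, he'⟩ := (hiff χG).1 hmem
    exact huniq χ ψ ho (hall ψ hψ) (he.symm.trans he') ▸ hψ
  · intro χ hχ ξ hξ
    obtain ⟨φ, hφ, hc⟩ := hall χ hχ
    rw [← classInner_cenEquiv53 hVT hNT hNC] at hc
    obtain ⟨g, hg⟩ := mem_orb_of_sameBlock C hM hb' (sameBlock_refl hM (χ : T → ℂ))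
      (show pushChar ε φ ∈ pushSet ε b from ⟨φ, hφ, rfl⟩) hc hξ
    have h1 := sameBlock_conjIrr C (sameBlock_of_mem hM hb' hθb' hg) g⁻¹
    rw [conjIrr_conjIrr, mul_inv_cancel, conjIrr_one,
      show conjIrr C θ' g⁻¹ = θ' from Subtype.ext (funext fun n => hinv g⁻¹ n _ rfl)] at h1
    exact h1

end Cfsg.Agent.KThree57
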