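import Mathlib
import Cfsg.Agent.Lib.RankOneBlock42
import Cfsg.Agent.Lib.BlockCyclicRank81
import Cfsg.Agent.Lib.BrauerPairs81Nilpotent
import Cfsg.Agent.Lib.BlockContribBounds

/-!
# Blocks with one Brauer character and at most four characters are nilpotent

An inertial automorphism of a defect group of order three or four would fuse all subsections, and the
subsection count leaves no room for that.
-/

set_option autoImplicit false
set_option linter.style.haveILetI false

open scoped ComplexConjugate

namespace Cfsg.Agent.SmallRankOneNilp42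

open Cfsg BlockTheoryLocalRing BlockTheoryCentre BlockTheoryIdem BlockTheoryDefect
open BrauerPairs81Base BrauerPairs81Pairs BrauerPairs81Conj BrauerPairs81Local BrauerPairs81Fusion
open BlockCyclicRank81

attribute [local instance] Classical.propDecidable

universe u

variable {p : ℕ} {M : Ideal AlgInt}

section Central

variable {H : Type u} [Group H] [Fintype H]

/-- A block of a group with a central `p`-element `z ≠ 1` has at least twice as many characters as
Brauer characters. -/
theorem two_mul_rank_le (hM : IsPModular p M) {b : Set (IrrCharacter H)} (hb : IsPBlock M b) {z : H}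
    (hz : z ∈ Subgroup.center H) (hz1 : z ≠ 1) {l : ℕ} (hzl : orderOf z = p ^ l) :
    2 * blockRank p b ≤ Nat.card b := by
  haveI : Fintype b := Fintype.ofFinite _
  let Y := {y : H // ¬ p ∣ orderOf y}
  let T : Matrix b Y ℂ := Matrix.of fun χ y => (χ.1 : H → ℂ) y.1
  -- the row span is the span of the regular parts
  let ext : (Y → ℂ) →ₗ[ℂ] (H → ℂ) :=
    { toFun := fun v g => if h : ¬ p ∣ orderOf g then v ⟨g, h⟩ else 0
      map_add' := fun a a' => funext fun g => by simp only [Pi.add_apply]; split_ifs <;> simp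
      map_smul' := fun c a => funext fun g => by
        simp only [Pi.smul_apply, RingHom.id_apply]; split_ifs <;> simp }
  have hexti : Function.Injective ext := fun a a' h => funext fun y => by
    have := congrFun h y.1
    simpa [ext, y.2] using this
  have hext : ∀ χ : b, ext (T.row χ) = pRegularPart p (χ.1 : H → ℂ) := fun χ => funext fun g => by
    by_cases hg : p ∣ orderOf g <;> simp [ext, T, Matrix.row, pRegularPart, IsPRegular, hg]
  have hrank : T.rank = blockRank p b := by
    rw [Matrix.rank_eq_finrank_span_row, blockRank,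
      (Submodule.equivMapOfInjective ext hexti _).finrank_eq, Submodule.map_span, ← Set.range_comp,
      show (ext ∘ T.row) = fun χ : b => pRegularPart p (χ.1 : H → ℂ) from funext hext]
    rw [Set.image_eq_range]
  -- the scalars of the central element
  let lam : b → ℂ := fun χ => (χ.1 : H → ℂ) z / (χ.1 : H → ℂ) 1
  have hlam : ∀ χ, lam χ ≠ 0 := fun χ h => by
    have h1 := BlockCentral81.char_center_mul χ.1 hz z⁻¹
    rw [mul_inv_cancel, show (χ.1 : H → ℂ) z / (χ.1 : H → ℂ) 1 = lam χ from rfl, h, zero_mul] at h1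
    exact irr_one_ne_zero χ.1 h1
  let Λ : (b → ℂ) →ₗ[ℂ] (b → ℂ) :=
    { toFun := fun v χ => lam χ * v χ
      map_add' := fun a a' => funext fun χ => mul_add _ _ _
      map_smul' := fun c a => funext fun χ => by simp [mul_left_comm] }
  have hΛ : Function.Injective Λ := fun a a' h => funext fun χ =>
    mul_left_cancel₀ (hlam χ) (congrFun h χ)
  set V := Submodule.span ℂ (Set.range T.col) with hV
  have hdisj : V ⊓ V.map Λ = ⊥ := by
    have horth : ∀ v ∈ V, ∀ w ∈ V.map Λ, ∑ χ : b, v χ * conj (w χ) = 0 := by
      intro v hv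
      induction hv using Submodule.span_induction with
      | mem v hv =>
        obtain ⟨y, rfl⟩ := hv
        intro w hw
        rw [hV, Submodule.map_span] at hw
        induction hw using Submodule.span_induction with
        | mem w hw =>
          obtain ⟨_, ⟨y', rfl⟩, rfl⟩ := hw
          have hsing : p ∣ orderOf (z * y'.1) := by
            by_contra hreg
            have hc : Commute z y'.1 := Subgroup.mem_center_iff.1 hz y'.1 |>.symm
            exact hz1 (pPart_unique hM.1 (g := z * y'.1)
              ⟨y'.1, rfl, hc, ⟨l, hzl⟩, y'.2⟩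
              ⟨z * y'.1, one_mul _, Commute.one_left _, ⟨0, by simp⟩, hreg⟩)
          have h := weak_orthogonality hM hb y.2 hsing
          rw [← Finset.sum_filter, Finset.sum_subtype (p := fun χ : IrrCharacter H => χ ∈ b) _ (fun χ => by simp)] at h
          refine Eq.trans (Finset.sum_congr rfl fun χ _ => ?_) h
          simp only [T, Λ, lam, Matrix.col, Matrix.transpose_apply, Matrix.of_apply, LinearMap.coe_mk,
            AddHom.coe_mk]
          rw [← BlockCentral81.char_center_mul χ.1 hz y'.1]
        | zero => simp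
        | add a a' _ _ ha ha' =>
          simp only [Pi.add_apply, map_add, mul_add, Finset.sum_add_distrib, ha, ha', add_zero]
        | smul c a _ ha =>
          simp only [Pi.smul_apply, smul_eq_mul, map_mul, mul_left_comm, ← Finset.mul_sum, ha, mul_zero]
      | zero => simp
      | add a a' _ _ ha ha' =>
        intro w hw
        simp [add_mul, Finset.sum_add_distrib, ha w hw, ha' w hw]
      | smul c a _ ha =>
        intro w hw
        simp only [Pi.smul_apply, smul_eq_mul, mul_assoc, ← Finset.mul_sum, ha w hw, mul_zero]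
    refine eq_bot_iff.2 fun v hv => (Submodule.mem_bot ℂ).2 (funext fun χ => ?_)
    have h := congrArg Complex.re (horth v hv.1 v hv.2)
    rw [Complex.re_sum, Complex.zero_re] at h
    have h2 := (Finset.sum_eq_zero_iff_of_nonneg fun χ _ => ?_).1 h χ (Finset.mem_univ _)
    · rw [Complex.mul_conj, Complex.ofReal_re, Complex.normSq_eq_zero] at h2
      exact h2
    · rw [Complex.mul_conj, Complex.ofReal_re]; exact Complex.normSq_nonneg _
  have h := Submodule.finrank_sup_add_finrank_inf_eq V (V.map Λ)
  rw [hdisj, finrank_bot, add_zero, ← (Submodule.equivMapOfInjective Λ hΛ V).finrank_eq] at h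
  have hle := Submodule.finrank_le (V ⊔ V.map Λ)
  rw [Module.finrank_fintype_fun_eq_card, ← Nat.card_eq_fintype_card] at hle
  rw [← hrank, Matrix.rank_eq_finrank_span_cols, ← hV]
  omega

end Central

variable [Fact p.Prime] {G : Type u} [Group G] [Fintype G] {B : Set (IrrCharacter G)} {P : Subgroup G}
  {e : Set (IrrCharacter (Cen P))}

/-- The subsections at a `p`-element have small rank. -/
theorem rank_sub_le (hM : IsPModular p M) (hB : IsPBlock M B) {x : G} (hx1 : x ≠ 1) {l : ℕ}
    (hxl : orderOf x = p ^ l) {b : Set (IrrCharacter (Cen (Subgroup.zpowers x)))} (hb : b ∈ subs M B x) :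
    2 * blockRank p b ≤ p ^ (2 * blockDefect p B) / 4 + 1 := by
  have hind := (Finset.mem_filter.1 hb).2
  have hxC : x ∈ Cen (Subgroup.zpowers x) := (centralizer_zpowers x x).2 (Commute.refl x)
  set z : Cen (Subgroup.zpowers x) := ⟨x, hxC⟩ with hz
  have hzc : z ∈ Subgroup.center (Cen (Subgroup.zpowers x)) :=
    Subgroup.mem_center_iff.2 fun g => Subtype.ext ((centralizer_zpowers x g).1 g.2).eq.symm
  refine (two_mul_rank_le hM hind.1 hzc (fun h => hx1 (congrArg Subtype.val h))
    (l := l) (by rw [hz, Subgroup.orderOf_mk, hxl])).trans ?_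
  refine (BlockContribBounds.card_le hM hind.1).trans ?_
  obtain ⟨E, hE⟩ := exists_defectGroup hM hind.1
  obtain ⟨D, hD⟩ := exists_defectGroup hM hB
  have h := card_le_of_conjLe (inducedBlock_defect_le hM (Cen (Subgroup.zpowers x)) hind hE hD)
  rw [Subgroup.card_map_of_injective (Cen (Subgroup.zpowers x)).subtype_injective,
    BlockContribBounds.card_defectGroup hM hind.1 hE, BlockContribBounds.card_defectGroup hM hB hD] at h
  have h' := (Nat.pow_le_pow_iff_right hM.1.one_lt).1 h
  refine Nat.add_le_add_right (Nat.div_le_div_right (Nat.pow_le_pow_right hM.1.pos ?_)) 1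
  omega

/-- When the inertial group is transitive on the nontrivial elements of the defect group, there is
one subsection besides the trivial one. -/
theorem card_le_of_transitive (hM : IsPModular p M) (hmax : IsMaximalBrauerPair p M B P e) {u₀ : G}
    (hu₀ : u₀ ∈ P) (htrans : ∀ z ∈ P, z ≠ 1 → ∃ y ∈ stab (⟨P, e⟩ : BrauerPairIdx G), y * z * y⁻¹ = u₀) :
    Nat.card B ≤ blockRank p B + (p ^ (2 * blockDefect p B) / 4 + 1) / 2 := by
  have hB : IsPBlock M B := hmax.1.2.1
  set R := (p ^ (2 * blockDefect p B) / 4 + 1) / 2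
  obtain ⟨f₀, hf₀⟩ := exists_subpair hM hmax.1.1 (Subgroup.zpowers_le.2 hu₀)
  set a₀ : BrauerPairIdx G := ⟨Subgroup.zpowers u₀, f₀⟩
  have hnorm : ∀ x : G, x ≠ 1 → (∃ l, orderOf x = p ^ l) → ∀ b ∈ subs M B x, ∃ h : G,
      h * x * h⁻¹ = u₀ ∧ cP h (⟨Subgroup.zpowers x, b⟩ : BrauerPairIdx G) = a₀ := by
    intro x hx1 ⟨l, hxl⟩ b hb
    have hxp : IsPGroup p (Subgroup.zpowers x) :=
      IsPGroup.of_card (n := l) (by rw [Nat.card_zpowers, hxl])
    have hpair := BrauerPairs81Induced.isBrauerPairOf_of_induced hM hxp (Finset.mem_filter.1 hb).2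
    obtain ⟨g, hg⟩ := BrauerPairs81Max.exists_conj_subpairLE hM hmax hpair
    have hgP : g * x * g⁻¹ ∈ P := subgroup_le_of_subpairLE hg
      ⟨x, Subgroup.mem_zpowers x, by simp⟩
    obtain ⟨y, hy, hyu⟩ := htrans _ hgP (fun h => hx1 (conj_eq_one_iff.1 h))
    refine ⟨y * g, by rw [← hyu]; group, ?_⟩
    have h1 : PLE p M (cP y (cP g ⟨Subgroup.zpowers x, b⟩)) ⟨P, e⟩ := by
      rw [← mem_stab.1 hy]
      exact ple_cP y hg
    rw [cP_cP] at h1
    refine ple_unique hM hmax.1.1 h1 hf₀ ?_
    show (Subgroup.zpowers x).map (MulAut.conj (y * g)).toMonoidHom = Subgroup.zpowers u₀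
    rw [MonoidHom.map_zpowers, ← hyu]
    congr 1
    simp [mul_assoc]
  have hsum : ∀ x : G, x ≠ 1 → (∃ l, orderOf x = p ^ l) →
      ∑ b ∈ subs M B x, blockRank p b ≤ if IsConj u₀ x then R else 0 := by
    intro x hx1 hx
    by_cases hne : (subs M B x).Nonempty
    · obtain ⟨b, hb⟩ := hne
      obtain ⟨h, hh, hha⟩ := hnorm x hx1 hx b hb
      rw [if_pos (isConj_iff.2 ⟨h⁻¹, by rw [← hh]; group⟩)]
      have huniq : subs M B x = {b} := by
        refine Finset.eq_singleton_iff_unique_mem.2 ⟨hb, fun b' hb' => ?_⟩
        obtain ⟨h', hh', hha'⟩ := hnorm x hx1 hx b' hb'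
        have hc : h⁻¹ * h' ∈ Cen (Subgroup.zpowers x) := by
          refine (centralizer_zpowers x _).2 ?_
          show x * (h⁻¹ * h') = h⁻¹ * h' * x
          calc x * (h⁻¹ * h') = h⁻¹ * (h * x * h⁻¹) * h' := by group
            _ = h⁻¹ * h' * x := by rw [hh, ← hh']; group
        have e1 : cP (h⁻¹ * h') (⟨Subgroup.zpowers x, b'⟩ : BrauerPairIdx G) =
            ⟨Subgroup.zpowers x, b⟩ := by
          rw [← cP_cP, hha', ← hha, cP_inv_cP]
        rw [cP_self_of_cen b' hc] at e1
        exact eq_of_heq (Sigma.mk.inj_iff.1 e1).2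
      rw [huniq, Finset.sum_singleton]
      obtain ⟨l, hl⟩ := hx
      have := rank_sub_le hM hB hx1 hl hb
      omega
    · rw [Finset.not_nonempty_iff_eq_empty.1 hne, Finset.sum_empty]
      exact Nat.zero_le _
  have h := card_eq hM hB
  have hle : ∑ x ∈ (Finset.univ.filter (fun x : G => ∃ k, orderOf x = p ^ k)).erase 1,
      Nat.card (Cen (Subgroup.zpowers x)) * ∑ b ∈ subs M B x, blockRank p b ≤ Nat.card G * R := by
    refine le_trans (Finset.sum_le_sum fun x hx => Nat.mul_le_mul_left _
      (hsum x (Finset.ne_of_mem_erase hx) (Finset.mem_filter.1 (Finset.mem_of_mem_erase hx)).2)) ?_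
    refine le_trans (Finset.sum_le_sum_of_subset (Finset.subset_univ _)) (le_of_eq ?_)
    simp only [mul_ite, mul_zero]
    rw [← Finset.sum_filter]
    have hcen : ∀ x ∈ Finset.univ.filter (IsConj u₀),
        Nat.card (Cen (Subgroup.zpowers x)) * R =
          Nat.card (Subgroup.centralizer ({u₀} : Set G)) * R := by
      intro x hx
      obtain ⟨c, hc⟩ := isConj_iff.1 (Finset.mem_filter.1 hx).2
      congr 1
      have e : Subgroup.centralizer ({x} : Set G) =
          (Subgroup.centralizer ({u₀} : Set G)).map (MulAut.conj c).toMonoidHom := by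
        ext g
        rw [Subgroup.mem_map_equiv, Subgroup.mem_centralizer_singleton_iff,
          Subgroup.mem_centralizer_singleton_iff, MulAut.conj_symm_apply, ← hc]
        constructor
        · intro hg
          calc c⁻¹ * g * c * u₀ = c⁻¹ * (g * (c * u₀ * c⁻¹)) * c := by group
            _ = u₀ * (c⁻¹ * g * c) := by rw [hg]; group
        · intro hg
          calc g * (c * u₀ * c⁻¹) = c * (c⁻¹ * g * c * u₀) * c⁻¹ := by group
            _ = c * u₀ * c⁻¹ * g := by rw [hg]; group
      rw [show Cen (Subgroup.zpowers x) = Subgroup.centralizer ({x} : Set G) by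
        ext g
        rw [centralizer_zpowers, Subgroup.mem_centralizer_singleton_iff]
        exact ⟨fun h => h.eq.symm, fun h => h.symm⟩, e,
        Subgroup.card_map_of_injective (MulAut.conj c).injective]
    rw [Finset.sum_congr rfl hcen, Finset.sum_const, smul_eq_mul, ← mul_assoc,
      show (Finset.univ.filter (IsConj u₀)).card = Nat.card {g : G // IsConj u₀ g} by
        rw [Nat.card_eq_fintype_card, Fintype.card_subtype],
      CharBasicOrth.card_conj_mul_card_centralizer]
  refine Nat.le_of_mul_le_mul_left ?_ (Nat.card_pos (α := G))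
  rw [h, Nat.mul_add]
  omega

/-- A block with one Brauer character and as many characters as the order two, three or four of its
defect group is nilpotent. -/
theorem nilpotent (hM : IsPModular p M) (hmax : IsMaximalBrauerPair p M B P e)
    (hl : blockRank p B = 1) (hcard : Nat.card P = Nat.card B) (hd : p ^ blockDefect p B = Nat.card B)
    (hk2 : 2 ≤ Nat.card B) (hk : Nat.card B ≤ 4) : IsNilpotentBlock p M B := by
  have hp := hM.1
  have hd2 : blockDefect p B ≤ 2 := by
    by_contra h
    have h1 : 2 ^ 3 ≤ p ^ blockDefect p B :=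
      (Nat.pow_le_pow_left hp.two_le 3).trans (Nat.pow_le_pow_right hp.pos (by omega))
    omega
  have hab : ∀ x ∈ P, ∀ y ∈ P, x * y = y * x := by
    intro x hx y hy
    have : blockDefect p B = 0 ∨ blockDefect p B = 1 ∨ blockDefect p B = 2 := by omega
    rcases this with h | h | h
    · rw [h, pow_zero] at hd; omega
    · haveI : IsCyclic P := isCyclic_of_prime_card (p := p) (by rw [hcard, ← hd, h, pow_one])
      obtain ⟨g, hg⟩ := IsCyclic.exists_generator (α := P)
      obtain ⟨i, hi⟩ := Subgroup.mem_zpowers_iff.1 (hg ⟨x, hx⟩)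
      obtain ⟨j, hj⟩ := Subgroup.mem_zpowers_iff.1 (hg ⟨y, hy⟩)
      exact congrArg Subtype.val (show (⟨x, hx⟩ : P) * ⟨y, hy⟩ = ⟨y, hy⟩ * ⟨x, hx⟩ by
        rw [← hi, ← hj, ← zpow_add, ← zpow_add, add_comm])
    · have := IsPGroup.isMulCommutative_of_card_eq_prime_sq (p := p) (G := P) (by rw [hcard, ← hd, h])
      exact congrArg Subtype.val (this.is_comm.comm (⟨x, hx⟩ : P) ⟨y, hy⟩)
  refine (BrauerPairs81Nilpotent.nilpotent_iff_of_abelian hM hmax hab).2 fun x hx =>
    BrauerPairs81Nilpotent.mem_cen_of_regular_part hM hmax hab hx fun z hz hzr => ?_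
  have hzs : z ∈ stab (⟨P, e⟩ : BrauerPairIdx G) := (Subgroup.zpowers_le.2 hx) hz
  have hzN := Subgroup.mem_normalizer_iff.1 (stab_le_normalizer _ hzs)
  refine Subgroup.mem_centralizer_iff.2 fun u hu => ?_
  by_contra hne
  set σ : G → G := fun w => z * w * z⁻¹ with hσ
  have hne' : σ u ≠ u := fun h => hne (by
    calc u * z = σ u * z := by rw [h]
      _ = z * u := by rw [hσ]; group)
  have hσP : ∀ w ∈ P, σ w ∈ P := fun w hw => (hzN w).1 hw
  have hσinj : Function.Injective σ := fun a a' h => mul_left_cancel (mul_right_cancel h)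
  have hu1 : u ≠ 1 := fun h => hne' (by rw [hσ, h]; group)
  have hσ1 : σ u ≠ 1 := fun h => hu1 (hσinj (h.trans (by rw [hσ]; group)))
  set S := (Finset.univ.filter (· ∈ P)).erase 1 with hS
  have hmemS : ∀ w, w ∈ S ↔ w ≠ 1 ∧ w ∈ P := fun w => by simp [hS]
  have hScard : S.card = Nat.card B - 1 := by
    rw [hS, Finset.card_erase_of_mem (by simp), ← hcard, Nat.card_eq_fintype_card, Fintype.card_subtype]
  have hsub2 : ({u, σ u} : Finset G) ⊆ S := by
    intro w hw
    simp only [Finset.mem_insert, Finset.mem_singleton] at hw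
    rcases hw with rfl | rfl
    · exact (hmemS _).2 ⟨hu1, hu⟩
    · exact (hmemS _).2 ⟨hσ1, hσP u hu⟩
  have h2 : ({u, σ u} : Finset G).card = 2 := Finset.card_pair (Ne.symm hne')
  have hkge : 3 ≤ Nat.card B := by
    have := Finset.card_le_card hsub2
    omega
  -- the powers of `z` are transitive on `P \ {1}`
  have hcover : ∀ w ∈ P, w ≠ 1 → w = u ∨ w = σ u ∨ w = σ (σ u) := by
    intro w hw hw1
    have hwS := (hmemS w).2 ⟨hw1, hw⟩
    by_cases hk3 : Nat.card B = 3
    · have e : ({u, σ u} : Finset G) = S := Finset.eq_of_subset_of_card_le hsub2 (by omega)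
      rw [← e] at hwS
      simp only [Finset.mem_insert, Finset.mem_singleton] at hwS
      rcases hwS with h | h
      · exact Or.inl h
      · exact Or.inr (Or.inl h)
    · have hp2 : p = 2 := by
        have h4 : p ^ blockDefect p B = 2 ^ 2 := by rw [hd]; omega
        have hd0 : blockDefect p B ≠ 0 := fun h => by rw [h] at h4; norm_num at h4
        exact (Nat.prime_dvd_prime_iff_eq hp Nat.prime_two).1
          (hp.dvd_of_dvd_pow (h4 ▸ dvd_pow_self p hd0))
      have h3ne : σ (σ u) ≠ u := by
        intro h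
        obtain ⟨i, hi⟩ : ∃ i, orderOf z = 2 * i + 1 := by
          refine ⟨orderOf z / 2, ?_⟩
          have : ¬ 2 ∣ orderOf z := hp2 ▸ hzr
          omega
        have hiter : ∀ j, σ^[j] u = z ^ j * u * (z ^ j)⁻¹ := by
          intro j
          induction j with
          | zero => simp
          | succ j ih =>
            rw [Function.iterate_succ_apply', ih, hσ, pow_succ']
            group
        have heven : ∀ j, σ^[2 * j] u = u := by
          intro j
          induction j with
          | zero => rfl
          | succ j ih => rw [show 2 * (j + 1) = 2 * j + 2 by ring, Function.iterate_add_apply]; simp [h, ih]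
        have h' := hiter (orderOf z)
        rw [pow_orderOf_eq_one, one_mul, inv_one, mul_one, hi, Function.iterate_succ_apply', heven] at h'
        exact hne' h'
      have hsub3 : ({u, σ u, σ (σ u)} : Finset G) ⊆ S := by
        intro v hv
        simp only [Finset.mem_insert, Finset.mem_singleton] at hv
        rcases hv with rfl | rfl | rfl
        · exact (hmemS _).2 ⟨hu1, hu⟩
        · exact (hmemS _).2 ⟨hσ1, hσP u hu⟩
        · exact (hmemS _).2 ⟨fun h => hσ1 (hσinj (h.trans (by rw [hσ]; group))), hσP _ (hσP u hu)⟩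
      have h3 : ({u, σ u, σ (σ u)} : Finset G).card = 3 := by
        refine Finset.card_eq_three.2 ⟨u, σ u, σ (σ u), Ne.symm hne', Ne.symm h3ne, ?_, rfl⟩
        exact fun h => hne' (hσinj h.symm)
      have e : ({u, σ u, σ (σ u)} : Finset G) = S := Finset.eq_of_subset_of_card_le hsub3 (by omega)
      rw [← e] at hwS
      simpa using hwS
  have htrans : ∀ w ∈ P, w ≠ 1 → ∃ y ∈ stab (⟨P, e⟩ : BrauerPairIdx G), y * w * y⁻¹ = u := by
    intro w hw hw1
    rcases hcover w hw hw1 with rfl | rfl | rfl
    · exact ⟨1, one_mem _, by simp⟩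
    · exact ⟨z⁻¹, inv_mem hzs, by rw [hσ]; group⟩
    · exact ⟨z⁻¹ * z⁻¹, mul_mem (inv_mem hzs) (inv_mem hzs), by rw [hσ]; group⟩
  have := card_le_of_transitive hM hmax hu htrans
  rw [hl, show p ^ (2 * blockDefect p B) = Nat.card B ^ 2 by rw [← hd, ← pow_mul, mul_comm]] at this
  rcases (show Nat.card B = 3 ∨ Nat.card B = 4 by omega) with h | h <;> rw [h] at this <;> omega

/-- Külshammer: blocks with one Brauer character and at most four characters. -/
theorem main {G : Type u} [Group G] [Fintype G] (hM : IsPModular p M) {B : Set (IrrCharacter G)}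
    (hB : IsPBlock M B) {D : Subgroup G} (hD : IsDefectGroup p M B D) (hD1 : D ≠ ⊥)
    (hl : blockRank p B = 1) (hk : Nat.card B ≤ 4) :
    IsNilpotentBlock p M B ∧ Nat.card D = Nat.card B ∧ (p = 2 ∨ p = 3) := by
  have hd := RankOneBlock42.pow_defect_eq_card hM hB hl hk
  have hcard := BlockContribBounds.card_defectGroup hM hB hD
  have hk2 : 2 ≤ Nat.card B := by
    rw [← hd, ← hcard]
    exact D.one_lt_card_iff_ne_bot.2 hD1
  have hp23 : p = 2 ∨ p = 3 := by
    have hd0 : blockDefect p B ≠ 0 := fun h => by rw [h, pow_zero] at hd; omega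
    have : p ≤ 4 := (Nat.le_self_pow hd0 p).trans (hd.le.trans hk)
    have := hM.1.two_le
    have : p ≠ 4 := fun h => by rw [h] at hM; exact absurd hM.1 (by norm_num)
    omega
  refine ⟨?_, hcard.trans hd, hp23⟩
  obtain ⟨g, hg⟩ := exists_pairOf_of_not_small hM hB (isPGroup_of_isDefectGroup hD)
    (not_small_cut_defect hM hB hD)
  obtain ⟨R, f, hmax, -⟩ := BrauerPairs81Max.exists_maximal_above hg
  exact nilpotent hM hmax hl
    (by rw [BlockContribBounds.card_defectGroup hM hB (BrauerPairs81Max.isDefectGroup_of_maximal hM hmax), hd])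
    hd hk2 hk

end Cfsg.Agent.SmallRankOneNilp42
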