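import Cfsg.Agent.Lib.KThree57Defs
import Cfsg.Agent.Lib.BlockNormalP81
import Cfsg.Agent.Lib.BlockSubsections79
import Cfsg.Agent.S4648

/-!
A block with normal abelian defect group and three members: either the defect group is small, or
exactly two members are trivial on it and the group is transitive on its nontrivial elements.
-/

set_option autoImplicit false

namespace Cfsg.Agent.KThree57

open Cfsg Cfsg.Agent.CharBasic Cfsg.Agent.CharBasicOrth Cfsg.Agent.BlockPrincipal81
open Cfsg.Agent.BlockTheoryLocalRing Cfsg.Agent.BlockTheoryCentre Cfsg.Agent.BlockTheoryIdem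
open Cfsg.Agent.BlockSubsections79
open scoped ComplexConjugate

attribute [local instance] Classical.propDecidable

universe u

namespace Struct55

variable {p : ℕ} {G : Type u} [Group G] [Fintype G]

/-- An irreducible character is trivial on a normal subgroup or sums to zero on each coset. -/
theorem trivial_or_sum_zero (V : Subgroup G) [V.Normal] (χ : IrrCharacter G) :
    (∀ v ∈ V, (χ : G → ℂ) v = (χ : G → ℂ) 1) ∨ ∀ g : G, ∑ v : V, (χ : G → ℂ) (g * v) = 0 := by
  obtain ⟨n, ρ, hρ, hχ⟩ := χ.2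
  set f : Module.End ℂ (Fin n → ℂ) := ∑ u : V, ρ u
  have hfg : ∀ g : G, f * ρ g = ρ g * f := by
    intro g
    simp only [f, Finset.sum_mul, Finset.mul_sum, ← map_mul]
    have hi : g⁻¹ ∈ Subgroup.normalizer (V : Set G) := by
      rw [Subgroup.normalizer_eq_top]; exact Subgroup.mem_top _
    refine Finset.sum_equiv (V.normalizerMonoidHom ⟨g⁻¹, hi⟩).toEquiv (fun _ => by simp)
      (fun u _ => ?_)
    congr 1
    show (u : G) * g = g * (g⁻¹ * (u : G) * (g⁻¹)⁻¹)
    group
  have hfu : ∀ u : V, ρ u * f = f := by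
    intro u
    simp only [f, Finset.mul_sum, ← map_mul]
    exact Fintype.sum_equiv (Equiv.mulLeft u) _ _ fun v => rfl
  obtain ⟨w, hw, -⟩ := exists_scalar_of_commute ρ f fun g v => LinearMap.congr_fun (hfg g) v
  by_cases hw0 : w = 0
  · right
    intro g
    have hf : f = 0 := by rw [hw, hw0, zero_smul]
    rw [← hχ]
    simp only [Representation.character, map_mul, ← map_sum, ← Finset.mul_sum]
    rw [show (∑ u : V, ρ u) = 0 from hf, mul_zero, map_zero]
  · left
    intro u hu
    rw [← hχ, apply_eq_one_iff_ker]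
    have h1 := hfu ⟨u, hu⟩
    rw [hw, show (LinearMap.id : Module.End ℂ (Fin n → ℂ)) = 1 from rfl, mul_smul_comm,
      mul_one] at h1
    exact smul_right_injective _ hw0 h1

/-- An average over an invariant set of elements acts as a scalar. -/
theorem sum_mul_apply (χ : IrrCharacter G) (S : Finset G)
    (hS : ∀ g : G, ∀ x ∈ S, g * x * g⁻¹ ∈ S) (y : G) :
    (χ : G → ℂ) 1 * ∑ x ∈ S, (χ : G → ℂ) (x * y) =
      (∑ x ∈ S, (χ : G → ℂ) x) * (χ : G → ℂ) y := by
  obtain ⟨n, ρ, hρ, hχ⟩ := χ.2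
  set f : Module.End ℂ (Fin n → ℂ) := ∑ x ∈ S, ρ x
  have hfg : ∀ g : G, f * ρ g = ρ g * f := by
    intro g
    simp only [f, Finset.sum_mul, Finset.mul_sum, ← map_mul]
    refine Finset.sum_nbij' (fun x => g⁻¹ * x * g) (fun x => g * x * g⁻¹)
      (fun x hx => by simpa using hS g⁻¹ x hx) (fun x hx => hS g x hx)
      (fun x _ => by group) (fun x _ => by group) fun x _ => ?_
    congr 1
    group
  obtain ⟨w, hw, hwt⟩ := exists_scalar_of_commute ρ f fun g v => LinearMap.congr_fun (hfg g) v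
  have h1 : ∑ x ∈ S, (χ : G → ℂ) (x * y) = w * (χ : G → ℂ) y := by
    rw [← hχ]
    simp only [Representation.character, map_mul, ← map_sum, ← Finset.sum_mul]
    rw [show (∑ x ∈ S, ρ x) = w • LinearMap.id from hw,
      show (LinearMap.id : Module.End ℂ (Fin n → ℂ)) = 1 from rfl, smul_mul_assoc, one_mul,
      map_smul, smul_eq_mul]
  have h2 : ∑ x ∈ S, (χ : G → ℂ) x = (χ : G → ℂ) 1 * w := by
    rw [← hχ]
    simp only [Representation.character, ← map_sum]
    rw [show (∑ x ∈ S, ρ x) = f from rfl, hwt, map_one, LinearMap.trace_one]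
  rw [h1, h2]
  ring

omit [Fintype G] in
/-- Two regular elements in one coset of a normal abelian group of exponent `p` are conjugate. -/
theorem isConj_coset [Finite G] [hp : Fact p.Prime] (V : Subgroup G) [V.Normal]
    (hc : IsMulCommutative V) (hexp : ∀ a ∈ V, a ^ p = 1) {s v : G} (hv : v ∈ V)
    (hs : ¬ p ∣ orderOf s) (ht : ¬ p ∣ orderOf (s * v)) : IsConj s (s * v) := by
  set m := orderOf s * orderOf (s * v) with hm
  have hpm : ¬ p ∣ m := fun h => (hp.out.dvd_mul.1 h).elim hs ht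
  haveI := hc
  set w : G := s * v * s⁻¹ with hwd
  have hw : w ∈ V := (inferInstance : V.Normal).conj_mem v hv s
  have hconj : ∀ i : ℕ, s ^ i * w * (s ^ i)⁻¹ ∈ V := fun i =>
    (inferInstance : V.Normal).conj_mem w hw _
  let g : ℕ → V := fun i => ⟨s ^ i * w * (s ^ i)⁻¹, hconj i⟩
  let α : V →* V :=
    { toFun := fun x => ⟨s * (x : G) * s⁻¹, (inferInstance : V.Normal).conj_mem _ x.2 s⟩
      map_one' := Subtype.ext (by simp)
      map_mul' := fun x y => Subtype.ext (by simp [mul_assoc]) }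
  have hsm : s ^ m = 1 := by rw [hm, pow_mul, pow_orderOf_eq_one, one_pow]
  have htm : (s * v) ^ m = 1 := by rw [hm, mul_comm, pow_mul, pow_orderOf_eq_one, one_pow]
  have hα : ∀ i, α (g i) = g (i + 1) := fun i => Subtype.ext (by
    show s * (s ^ i * w * (s ^ i)⁻¹) * s⁻¹ = s ^ (i + 1) * w * (s ^ (i + 1))⁻¹
    rw [pow_succ']
    group)
  have hgm : g m = g 0 := Subtype.ext (by
    show s ^ m * w * (s ^ m)⁻¹ = s ^ 0 * w * (s ^ 0)⁻¹
    rw [hsm, pow_zero])
  open scoped IsMulCommutative in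
  have hN : ∏ i ∈ Finset.range m, g i = 1 := by
    have key : ∀ k, (s * v) ^ k = ((∏ i ∈ Finset.range k, g i : V) : G) * s ^ k := by
      intro k
      induction k with
      | zero => simp
      | succ k ih =>
        rw [pow_succ, ih, Finset.prod_range_succ, Subgroup.coe_mul]
        show _ = _ * (s ^ k * w * (s ^ k)⁻¹) * s ^ (k + 1)
        rw [hwd, pow_succ]
        group
    have := key m
    rw [htm, hsm, mul_one] at this
    exact Subtype.ext this.symm
  obtain ⟨k, hk⟩ : ∃ k : ℕ, p ∣ m * k + 1 := by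
    have hu : (m : ZMod p) ≠ 0 := fun h => hpm ((ZMod.natCast_eq_zero_iff m p).1 h)
    refine ⟨(-(m : ZMod p)⁻¹).val, (ZMod.natCast_eq_zero_iff _ p).1 ?_⟩
    rw [Nat.cast_add, Nat.cast_mul, ZMod.natCast_zmod_val, Nat.cast_one, mul_neg,
      mul_inv_cancel₀ hu, neg_add_cancel]
  open scoped IsMulCommutative in
  have hu : ∃ u : V, α u = u * (g 0)⁻¹ := by
    refine ⟨∏ i ∈ Finset.range m, g i ^ (i * k), ?_⟩
    have e1 : ∏ i ∈ Finset.range m, g (i + 1) = 1 := by
      have a := Finset.prod_range_succ' g m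
      rw [Finset.prod_range_succ, hN, one_mul, hgm] at a
      exact mul_right_cancel (b := g 0) (by rw [one_mul]; exact a.symm)
    have e2 : g 0 ^ (m * k) = (g 0)⁻¹ := by
      refine eq_inv_of_mul_eq_one_left ?_
      rw [← pow_succ]
      obtain ⟨c, hc⟩ := hk
      have hp1 : g 0 ^ p = 1 := Subtype.ext (by
        rw [Subgroup.coe_pow]; exact hexp _ (g 0).2)
      rw [hc, pow_mul, hp1, one_pow]
    have a := Finset.prod_range_succ' (fun i => g i ^ (i * k)) m
    rw [Finset.prod_range_succ, hgm, e2, zero_mul, pow_zero, mul_one] at a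
    rw [map_prod]
    simp only [map_pow, hα]
    rw [a]
    simp only [add_mul, one_mul, pow_add, Finset.prod_mul_distrib, Finset.prod_pow, e1, one_pow,
      mul_one]
  obtain ⟨u, hu⟩ := hu
  refine isConj_iff.2 ⟨u, ?_⟩
  have h1 : s * (u : G) * s⁻¹ = (u : G) * w⁻¹ := by
    have := congrArg Subtype.val hu
    simpa [α, g] using this
  have h2 : s * (u : G)⁻¹ = (s * v * s⁻¹) * (u : G)⁻¹ * s := by
    rw [← hwd]
    have h4 := congrArg (fun x => x⁻¹) h1
    simp only [mul_inv_rev, inv_inv] at h4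
    have h5 : s * (u : G)⁻¹ * s⁻¹ = w * (u : G)⁻¹ := by rw [← h4]; group
    rw [← h5]; group
  have h3 : (u : G) * (s * v * s⁻¹) = (s * v * s⁻¹) * (u : G) := by
    rw [← hwd]
    exact congrArg Subtype.val (hc.is_comm.comm u ⟨w, hw⟩)
  calc (u : G) * s * (u : G)⁻¹ = (u : G) * (s * (u : G)⁻¹) := by group
    _ = ((u : G) * (s * v * s⁻¹)) * (u : G)⁻¹ * s := by rw [h2]; group
    _ = (s * v * s⁻¹) * (u : G) * (u : G)⁻¹ * s := by rw [h3]
    _ = s * v := by group

/-- The regular part of a member lies in the span of those of the members trivial on `V`. -/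
theorem regPart_mem_span [Fact p.Prime] {M : Ideal AlgInt} (hM : IsPModular p M)
    {B : Set (IrrCharacter G)} (hB : IsPBlock M B) (V : Subgroup G) [V.Normal]
    (hc : IsMulCommutative V) (hexp : ∀ a ∈ V, a ^ p = 1) {Y : IrrCharacter G} (hY : Y ∈ B) :
    pRegularPart p (Y : G → ℂ) ∈ Submodule.span ℂ ((fun χ : IrrCharacter G =>
      pRegularPart p (χ : G → ℂ)) '' {χ | χ ∈ B ∧ ∀ v ∈ V, (χ : G → ℂ) v = (χ : G → ℂ) 1}) := by
  set F : G → ℂ := fun g =>
    if h : ∃ v : V, ¬ p ∣ orderOf (g * v) then (Y : G → ℂ) (g * h.choose) else 0 with hF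
  have hcl := isClassFunction_of_isCharacter (isCharacter_of_isIrrCharacter Y.2)
  have hval : ∀ (g : G) (v : V), ¬ p ∣ orderOf (g * v) → F g = (Y : G → ℂ) (g * v) := by
    intro g v hv
    have hex : ∃ v : V, ¬ p ∣ orderOf (g * v) := ⟨v, hv⟩
    simp only [hF, dif_pos hex]
    have he : g * (v : G) = g * hex.choose * ((hex.choose : G)⁻¹ * v) := by group
    have hconj : IsConj (g * hex.choose) (g * (v : G)) := by
      rw [he] at hv ⊢
      exact isConj_coset V hc hexp (mul_mem (inv_mem hex.choose.2) v.2) hex.choose_spec hv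
    exact apply_eq_of_isConj hcl hconj
  have hinv : ∀ (g : G) (v : V), F (g * v) = F g := by
    intro g v
    by_cases h : ∃ w : V, ¬ p ∣ orderOf (g * w)
    · obtain ⟨w, hw⟩ := h
      have e : g * (w : G) = g * v * ((v⁻¹ * w : V) : G) := by simp [mul_assoc]
      rw [hval g w hw, hval (g * v) (v⁻¹ * w) (by rw [← e]; exact hw), ← e]
    · have h2 : ¬ ∃ w : V, ¬ p ∣ orderOf (g * v * w) := fun ⟨w, hw⟩ =>
        h ⟨v * w, by rwa [Subgroup.coe_mul, ← mul_assoc]⟩
      simp only [hF, dif_neg h, dif_neg h2]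
  have h1 : pRegularPart p (Y : G → ℂ) = proj p B F := by
    rw [proj_congr hM hB (F' := (Y : G → ℂ)) fun y hy => ?_, proj_irr, if_pos hY]
    rw [hval y 1 (by simpa using hy)]
    simp
  rw [h1]
  refine Submodule.sum_mem _ fun ψ _ => ?_
  split_ifs with hψ
  · rcases trivial_or_sum_zero V ψ with ht | hz
    · exact Submodule.smul_mem _ _ (Submodule.subset_span ⟨ψ, ⟨hψ, ht⟩, rfl⟩)
    · have h0 : classInner F (ψ : G → ℂ) = 0 := by
        suffices h : (Nat.card V : ℂ) * ∑ g : G, F g * conj ((ψ : G → ℂ) g) = 0 by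
          rw [classInner, (mul_eq_zero.1 h).resolve_left (Nat.cast_ne_zero.2 Nat.card_pos.ne'),
            mul_zero]
        calc (Nat.card V : ℂ) * ∑ g : G, F g * conj ((ψ : G → ℂ) g)
            = ∑ v : V, ∑ g : G, F (g * v) * conj ((ψ : G → ℂ) (g * v)) := by
              rw [Finset.sum_congr rfl (g := fun _ => ∑ g : G, F g * conj ((ψ : G → ℂ) g))
                fun (v : V) _ => show ∑ g : G, F (g * v) * conj ((ψ : G → ℂ) (g * v)) = _ from
                  Equiv.sum_comp (Equiv.mulRight (v : G)) fun g => F g * conj ((ψ : G → ℂ) g)]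
              simp [Nat.card_eq_fintype_card]
          _ = ∑ g : G, F g * conj (∑ v : V, (ψ : G → ℂ) (g * v)) := by
              rw [Finset.sum_comm]
              simp only [hinv, map_sum, Finset.mul_sum]
          _ = 0 := by simp [hz]
      rw [h0, zero_smul]; exact Submodule.zero_mem _
  · rw [zero_smul]; exact Submodule.zero_mem _

end Struct55

open Struct55

/-- The structure of an invariant block with at most three members. -/
theorem card_le_or_two {p : ℕ} [Fact p.Prime] {M : Ideal AlgInt} {G : Type u} [Group G] [Fintype G]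
    {V : Subgroup G} {B : Set (IrrCharacter G)}
    {θ : IrrCharacter (Subgroup.centralizer (V : Set G))} (h : Inv p M G V B θ) :
    Nat.card V ≤ 3 ∨ ∃ X₁ X₂ Y, Two p M G V B θ X₁ X₂ Y := by
  haveI := h.normal
  obtain ⟨hc, hexp⟩ := h.elem
  have hP : IsPGroup p V := fun a => ⟨1, Subtype.ext (by simpa using hexp a a.2)⟩
  set Triv : IrrCharacter G → Prop := fun χ => ∀ v ∈ V, (χ : G → ℂ) v = (χ : G → ℂ) 1 with hTriv
  obtain ⟨X₁, hX₁, ht₁⟩ := BlockNormalP81.exists_trivial_on h.hM h.hB V hP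
  -- weak block orthogonality on the nontrivial elements
  have hweak : ∀ v ∈ V, v ≠ 1 →
      ∑ χ : IrrCharacter G, (if χ ∈ B then (χ : G → ℂ) 1 * conj ((χ : G → ℂ) v) else 0) = 0 := by
    intro v hv hv1
    refine weak_orthogonality h.hM h.hB (by simpa using (Fact.out : p.Prime).ne_one) ?_
    rw [orderOf_eq_prime (hexp v hv) hv1]
  obtain ⟨v₀, hv₀, hv₀1⟩ : ∃ v ∈ V, v ≠ 1 := by
    by_contra hne
    exact h.ne_bot ((Subgroup.eq_bot_iff_forall _).2 fun v hv => not_not.1 fun h1 => hne ⟨v, hv, h1⟩)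
  have hpos : ∀ χ : IrrCharacter G, 0 < (((χ : G → ℂ) 1) * conj ((χ : G → ℂ) 1)).re := fun χ => by
    rw [Complex.mul_conj, Complex.ofReal_re]
    exact Complex.normSq_pos.2 (irr_one_ne_zero χ)
  obtain ⟨Y, hY, hYn⟩ : ∃ Y ∈ B, ¬ Triv Y := by
    by_contra hne
    have h0 := congrArg Complex.re (hweak v₀ hv₀ hv₀1)
    rw [Complex.re_sum, Complex.zero_re] at h0
    refine lt_irrefl (0 : ℝ) (lt_of_lt_of_le (hpos X₁) ?_)
    rw [← h0]
    refine le_trans ?_ (Finset.single_le_sum (fun χ _ => ?_) (Finset.mem_univ X₁))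
    · rw [if_pos hX₁, ht₁ v₀ hv₀]
    · split_ifs with hχ
      · rw [show (χ : G → ℂ) v₀ = (χ : G → ℂ) 1 from not_not.1 (fun hn => hne ⟨χ, hχ, fun ht => hn (ht v₀ hv₀)⟩)]
        exact (hpos χ).le
      · simp
  by_cases h2 : ∃ X₂ ∈ B, Triv X₂ ∧ X₂ ≠ X₁
  · right
    obtain ⟨X₂, hX₂, ht₂, hne⟩ := h2
    have ne1Y : X₁ ≠ Y := fun e => hYn (e ▸ ht₁)
    have ne2Y : X₂ ≠ Y := fun e => hYn (e ▸ ht₂)
    have hset : B = {X₁, X₂, Y} := by
      refine (Set.eq_of_subset_of_ncard_le ?_ ?_ (Set.toFinite B)).symm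
      · intro χ hχ
        simp only [Set.mem_insert_iff, Set.mem_singleton_iff] at hχ
        rcases hχ with rfl | rfl | rfl <;> assumption
      · rw [← Nat.card_coe_set_eq]
        refine h.card_le.trans_eq ?_
        rw [Set.ncard_eq_three.2 ⟨X₁, X₂, Y, hne.symm, ne1Y, ne2Y, rfl⟩]
    have hsum := (trivial_or_sum_zero V Y).resolve_left hYn
    set a := (X₁ : G → ℂ) 1 * conj ((X₁ : G → ℂ) 1) + (X₂ : G → ℂ) 1 * conj ((X₂ : G → ℂ) 1)
    have hw : ∀ v ∈ V, v ≠ 1 → a + (Y : G → ℂ) 1 * conj ((Y : G → ℂ) v) = 0 := by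
      intro v hv hv1
      have := hweak v hv hv1
      rw [← Finset.sum_subset (Finset.subset_univ {X₁, X₂, Y}) fun χ _ hn => if_neg fun hm => hn
          (by rw [hset] at hm; simpa using hm), Finset.sum_insert (by simp [hne.symm, ne1Y]),
        Finset.sum_pair ne2Y, if_pos hX₁, if_pos hX₂, if_pos hY, ht₁ v hv, ht₂ v hv] at this
      rw [← this]; ring
    have hY1 : (Y : G → ℂ) 1 ≠ 0 := irr_one_ne_zero Y
    have hconst : ∀ v ∈ V, v ≠ 1 → (Y : G → ℂ) v = (Y : G → ℂ) v₀ := by
      intro v hv hv1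
      have e : (Y : G → ℂ) 1 * conj ((Y : G → ℂ) v) = (Y : G → ℂ) 1 * conj ((Y : G → ℂ) v₀) := by
        linear_combination hw v hv hv1 - hw v₀ hv₀ hv₀1
      exact (starRingEnd ℂ).injective (mul_left_cancel₀ hY1 e)
    have hval : ∀ v ∈ V, v ≠ 1 →
        ((Nat.card V : ℂ) - 1) * (Y : G → ℂ) v = -(Y : G → ℂ) 1 := by
      intro v hv hv1
      have h0 := hsum 1
      simp only [one_mul] at h0
      rw [← Finset.add_sum_erase Finset.univ _ (Finset.mem_univ (1 : V)),
        Finset.sum_congr rfl (g := fun _ => (Y : G → ℂ) v) (fun u hu => ?_)] at h0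
      · rw [Finset.sum_const, Finset.card_erase_of_mem (Finset.mem_univ _), Finset.card_univ,
          ← Nat.card_eq_fintype_card, nsmul_eq_mul, Nat.cast_sub Nat.card_pos, Nat.cast_one,
          OneMemClass.coe_one] at h0
        linear_combination h0
      · have hu1 : (u : G) ≠ 1 := by simpa using (Finset.mem_erase.1 hu).1
        rw [hconst u u.2 hu1, hconst v hv hv1]
    have htrans : ∀ v ∈ V, ∀ w ∈ V, v ≠ 1 → w ≠ 1 → ∃ g : G, g * v * g⁻¹ = w := by
      intro v hv w hw' hv1 hw1
      by_contra hno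
      set S : Finset G := Finset.univ.filter fun x => IsConj v x with hS
      have hSmem : ∀ x ∈ S, x ∈ V ∧ x ≠ 1 := by
        intro x hx
        obtain ⟨c, rfl⟩ := isConj_iff.1 (Finset.mem_filter.1 hx).2
        exact ⟨h.normal.conj_mem v hv c, by simpa using hv1⟩
      have e := sum_mul_apply Y S (fun g x hx => Finset.mem_filter.2
        ⟨Finset.mem_univ _, (Finset.mem_filter.1 hx).2.trans (isConj_iff.2 ⟨g, rfl⟩)⟩) w⁻¹
      rw [Finset.sum_congr rfl (fun x hx => hconst _ (mul_mem (hSmem x hx).1 (inv_mem hw')) fun e1 => ?_),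
        Finset.sum_congr rfl (fun x hx => hconst x (hSmem x hx).1 (hSmem x hx).2),
        hconst w⁻¹ (inv_mem hw') (by simpa using hw1), Finset.sum_const, nsmul_eq_mul] at e
      · have hc0 : (Y : G → ℂ) v₀ ≠ 0 := fun h0 => hY1 (by
          have := hval v₀ hv₀ hv₀1; rw [h0, mul_zero] at this; simpa using this.symm)
        have hs : (S.card : ℂ) ≠ 0 := Nat.cast_ne_zero.2 (Finset.card_ne_zero.2
          ⟨v, Finset.mem_filter.2 ⟨Finset.mem_univ _, IsConj.refl v⟩⟩)
        have e3 : (Y : G → ℂ) 1 = (Y : G → ℂ) v₀ :=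
          mul_right_cancel₀ (mul_ne_zero hs hc0) (by linear_combination e)
        have hvv := hval v₀ hv₀ hv₀1
        rw [e3] at hvv
        have : (Nat.card V : ℂ) * (Y : G → ℂ) v₀ = 0 := by linear_combination hvv
        exact (mul_ne_zero (Nat.cast_ne_zero.2 Nat.card_pos.ne') hc0) this
      · rw [mul_inv_eq_one] at e1
        subst e1
        exact hno (isConj_iff.1 (Finset.mem_filter.1 hx).2)
    exact ⟨X₁, X₂, Y, { h with
      ne12 := hne.symm
      ne1Y := ne1Y
      ne2Y := ne2Y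
      eq_set := hset
      trivial1 := ht₁
      trivial2 := ht₂
      sum_coset := hsum
      value := hval
      transitive := htrans }⟩
  · left
    have hrank : blockRank p B = 1 := by
      unfold blockRank
      have he : Submodule.span ℂ ((fun χ : IrrCharacter G => pRegularPart p (χ : G → ℂ)) '' B) =
          Submodule.span ℂ {pRegularPart p (X₁ : G → ℂ)} := by
        refine le_antisymm (Submodule.span_le.2 ?_)
          (Submodule.span_mono (Set.singleton_subset_iff.2 ⟨X₁, hX₁, rfl⟩))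
        rintro _ ⟨χ, hχ, rfl⟩
        refine Submodule.span_mono ?_ (regPart_mem_span h.hM h.hB V hc hexp hχ)
        rintro _ ⟨ψ, ⟨hψ, ht⟩, rfl⟩
        exact Set.mem_singleton_iff.2 (congrArg (fun χ : IrrCharacter G => pRegularPart p (χ : G → ℂ))
          (not_not.1 fun hn => h2 ⟨ψ, hψ, ht, hn⟩))
      rw [he]
      refine finrank_span_singleton fun h0 => irr_one_ne_zero X₁ ?_
      have := congrFun h0 1
      simpa [pRegularPart, IsPRegular, (Fact.out : p.Prime).ne_one] using this
    have := (S4648.result p M h.hM B h.hB V h.hD h.ne_bot hrank (h.card_le.trans (by norm_num))).2.1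
    rw [this]
    exact h.card_le

end Cfsg.Agent.KThree57
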