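import Cfsg.Agent.Lib.KThree57Fpf
import Cfsg.Agent.Lib.KThree57Core93
import Cfsg.Agent.Lib.KThree57Inertia53
import Cfsg.Agent.Lib.KThree57Struct55

/-!
A block with a normal elementary abelian defect group and at most three members has defect group
of order at most three.
-/

set_option autoImplicit false

namespace Cfsg.Agent.KThree57

open Cfsg

universe u

theorem Two.card_V_le {p : ℕ} [Fact p.Prime] {M : Ideal AlgInt} {G : Type u} [Group G] [Fintype G]
    {V : Subgroup G} {B : Set (IrrCharacter G)}
    {θ : IrrCharacter (Subgroup.centralizer (V : Set G))} {X₁ X₂ Y : IrrCharacter G}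
    (t : Two p M G V B θ X₁ X₂ Y) : Nat.card V ≤ 3 := by
  obtain ⟨E, hE⟩ := t.exists_core
  letI : CommGroup V :=
    { (inferInstance : Group V) with mul_comm := fun a b => t.elem.1.is_comm.comm a b }
  exact core (fun v => Subtype.ext (t.elem.2 v v.2)) E hE

theorem card_le_three {p : ℕ} [Fact p.Prime] {M : Ideal AlgInt} {G : Type u} [Group G] [Fintype G]
    {V : Subgroup G} {B : Set (IrrCharacter G)} (h : Blk p M G V B) : Nat.card V ≤ 3 := by
  obtain ⟨T, hT, B', θ, hVT, hinv⟩ := exists_inv h
  rw [← Nat.card_congr (Subgroup.subgroupOfEquivOfLe hVT).toEquiv]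
  rcases card_le_or_two hinv with h1 | ⟨X₁, X₂, Y, ht⟩
  · exact h1
  · exact ht.card_V_le

end Cfsg.Agent.KThree57
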