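import Cfsg.Agent.Lib.KThree57Defs
import Cfsg.Agent.Lib.BlockReynolds9
import Cfsg.Agent.Lib.BrauerBlocksOrth
import Cfsg.Agent.S0924
import Cfsg.Agent.S0968
import Cfsg.Agent.S0972
import Cfsg.Agent.Lib.BlockContribBounds
import Cfsg.Agent.Lib.KThree57Coset79

/-!
The values of the three characters in the configuration left over for blocks with three members.
-/

set_option autoImplicit false

namespace Cfsg.Agent.KThree57

open Cfsg Cfsg.Agent.BlockTheoryCentre Cfsg.Agent.BlockTheoryIdem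
open scoped ComplexConjugate

attribute [local instance] Classical.propDecidable

variable {p : ℕ} [hp : Fact p.Prime] {M : Ideal AlgInt} {G : Type*} [Group G] [Fintype G]
variable {V : Subgroup G} {B : Set (IrrCharacter G)}
variable {θ : IrrCharacter (Subgroup.centralizer (V : Set G))} {X₁ X₂ Y : IrrCharacter G}

local notation "C" => Subgroup.centralizer (V : Set G)

theorem Blk.le_cen (h : Blk p M G V B) : V ≤ C := fun v hv =>
  Subgroup.mem_centralizer_iff.mpr fun w hw => by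
    have := h.elem.1.is_comm.comm (⟨w, hw⟩ : V) ⟨v, hv⟩
    exact congrArg Subtype.val this

theorem Blk.normal_cen (h : Blk p M G V B) : (C).Normal := by
  haveI := h.normal
  infer_instance

theorem Blk.isPGroup (h : Blk p M G V B) : IsPGroup p V := fun v =>
  ⟨1, by rw [pow_one]; exact Subtype.ext (h.elem.2 v v.2)⟩

theorem constituent_defect (h : Blk p M G V B) {L : Subgroup G}
    (hL : L = V ⊔ C) {χ : IrrCharacter G} (hχ : χ ∈ B) {η : IrrCharacter L}
    (hc : classInner (fun n : L => (χ : G → ℂ) n) (η : L → ℂ) ≠ 0) :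
    IsDefectGroup p M (blockOf M (η : L → ℂ)) (V.subgroupOf L) := by
  subst hL
  haveI := h.normal
  exact (BlockReynolds9.constituent_facts h.hM h.hB h.hD hχ hc).1

theorem Blk.sup_eq (h : Blk p M G V B) : (C) = V ⊔ C := (sup_eq_right.mpr h.le_cen).symm

/-- Some member lies over `θ`. -/
theorem Inv.exists_over (h : Inv p M G V B θ) :
    ∃ χ : IrrCharacter G, classInner (fun n : C => (χ : G → ℂ) n) (θ : C → ℂ) ≠ 0 := by
  by_contra! hall
  have hc := CharInduced.isCharacter_ind (C) (CharBasic.isCharacter_of_isIrrCharacter θ.2)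
  obtain ⟨χ, hχ⟩ := BrauerBlocksCovering.exists_constituent hc (by
    rw [CharInduced.ind_one_apply]
    exact mul_ne_zero (Nat.cast_ne_zero.mpr Subgroup.index_ne_zero_of_finite) (irr_one_ne_zero θ))
  refine hχ ?_
  rw [CharInduced.classInner_comm_of_isCharacter hc (CharBasic.isCharacter_of_isIrrCharacter χ.2),
    CharInduced.inner_ind_right (C) _ (irr_classFun χ)]
  exact hall χ

theorem Inv.theta_facts (h : Inv p M G V B θ) :
    (∀ η ∈ blockOf M (θ : C → ℂ), (∀ n : C, (n : G) ∈ V → (η : C → ℂ) n = (η : C → ℂ) 1) →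
      η = θ) ∧
    (charDegree (θ : C → ℂ)).factorization p = (V.subgroupOf C).index.factorization p := by
  obtain ⟨χ, hχ⟩ := h.exists_over
  have hD := constituent_defect h.toBlk h.sup_eq (h.over χ hχ) hχ
  have hsup : V.subgroupOf C ⊔ Subgroup.centralizer ((V.subgroupOf C : Subgroup C) : Set C) = ⊤ := by
    refine eq_top_iff.mpr fun c _ => Subgroup.mem_sup_right
      (Subgroup.mem_centralizer_iff.mpr fun w hw => Subtype.ext ?_)
    exact Subgroup.mem_centralizer_iff.mp c.2 w hw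
  obtain ⟨h1, h2, -⟩ := S0968.result p M h.hM (V.subgroupOf C) h.toBlk.isPGroup.comap_subtype
    hsup _ (isPBlock_blockOf θ) hD
  have hθ : θ ∈ blockOf M (θ : C → ℂ) := self_mem_blockOf h.hM θ
  exact ⟨fun η hη ht => h1.unique ⟨hη, ht⟩ ⟨hθ, h.trivial_on⟩, h2 θ hθ h.trivial_on⟩

theorem norm_irr_le {H : Type*} [Group H] [Finite H] (η : IrrCharacter H) (n : H) :
    ‖(η : H → ℂ) n‖ ≤ (charDegree (η : H → ℂ) : ℝ) := by
  obtain ⟨d, ρ, -, hη⟩ := η.2
  rw [charDegree, ← hη, show ρ.character 1 = ((Module.finrank ℂ (Fin d → ℂ) : ℕ) : ℂ) from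
    Representation.char_one ρ, Complex.natCast_re, Nat.floor_natCast]
  exact CharBasic.norm_character_le ρ n

/-- Constituents of a character trivial at an element are trivial there. -/
theorem constituent_apply {H : Type*} [Group H] [Fintype H] {f : H → ℂ} (hf : IsCharacter H f)
    {n : H} (hn : f n = f 1) {η : IrrCharacter H} (hc : classInner f (η : H → ℂ) ≠ 0) :
    (η : H → ℂ) n = (η : H → ℂ) 1 := by
  have hint : ∀ φ : IrrCharacter H, ∃ m : ℕ, classInner f (φ : H → ℂ) = m := fun φ =>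
    CharBasicOrth.classInner_isCharacter hf (CharBasic.isCharacter_of_isIrrCharacter φ.2)
  choose m hm using hint
  have hexp : ∀ x : H, f x = ∑ φ : IrrCharacter H, (m φ : ℂ) * (φ : H → ℂ) x := fun x => by
    conv_lhs => rw [CharBasicOrth.eq_sum_classInner (CharBasic.isClassFunction_of_isCharacter hf)]
    simp [Finset.sum_apply, hm]
  have hle : ∀ φ : IrrCharacter H, ((φ : H → ℂ) n).re ≤ (charDegree (φ : H → ℂ) : ℝ) := fun φ =>
    (Complex.re_le_norm _).trans (norm_irr_le φ n)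
  have hsum : ∑ φ : IrrCharacter H, (m φ : ℝ) * ((charDegree (φ : H → ℂ) : ℝ) - ((φ : H → ℂ) n).re) = 0 := by
    have h1 := congrArg Complex.re ((hexp n).symm.trans (hn.trans (hexp 1)))
    simp only [Complex.re_sum, Complex.mul_re, Complex.natCast_re, Complex.natCast_im, zero_mul,
      sub_zero] at h1
    simp only [mul_sub, Finset.sum_sub_distrib, h1, sub_eq_zero]
    exact Finset.sum_congr rfl fun φ _ => by
      rw [ClassAlgebraVal.apply_one_eq_charDegree φ, Complex.natCast_re]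
  have hm0 : (m η : ℝ) ≠ 0 := by
    intro h; exact hc (by rw [hm η, Nat.cast_eq_zero.mp h, Nat.cast_zero])
  have h2 := (Finset.sum_eq_zero_iff_of_nonneg fun φ _ =>
    mul_nonneg (Nat.cast_nonneg _) (sub_nonneg.mpr (hle φ))).mp hsum η (Finset.mem_univ _)
  have hre := (sub_eq_zero.mp ((mul_eq_zero.mp h2).resolve_left hm0)).symm
  rw [ClassAlgebraVal.apply_one_eq_charDegree η]
  refine Complex.ext (by simpa using hre) ?_
  have h3 := Complex.sq_norm ((η : H → ℂ) n)
  have h4 := norm_irr_le η n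
  rw [Complex.normSq_apply, hre] at h3
  simp only [Complex.natCast_im]
  nlinarith [norm_nonneg ((η : H → ℂ) n), mul_self_nonneg ((η : H → ℂ) n).im]

theorem apply_mul_of_trivial {χ : IrrCharacter G} [V.Normal]
    (ht : ∀ v ∈ V, (χ : G → ℂ) v = (χ : G → ℂ) 1) (g : G) {v : G} (hv : v ∈ V) :
    (χ : G → ℂ) (v * g) = (χ : G → ℂ) g :=
  BlockPCount9.apply_mul_of_trivial (θ := χ) ht ⟨v, hv⟩ g

/-- A member trivial on `V` restricts to `C` as a multiple of `θ`. -/
theorem Inv.res_eq (h : Inv p M G V B θ) {X : IrrCharacter G} (hX : X ∈ B)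
    (ht : ∀ v ∈ V, (X : G → ℂ) v = (X : G → ℂ) 1) :
    ∃ e : ℕ, 0 < e ∧ (∀ n : C, (X : G → ℂ) n = (e : ℂ) * (θ : C → ℂ) n) ∧
      classInner (fun n : C => (X : G → ℂ) n) (θ : C → ℂ) = e := by
  haveI := h.normal
  haveI := h.toBlk.normal_cen
  have hres : IsCharacter C (fun n : C => (X : G → ℂ) n) :=
    CharInduced.isCharacter_res (C) (CharBasic.isCharacter_of_isIrrCharacter X.2)
  obtain ⟨e, he⟩ := CharBasicOrth.classInner_isCharacter hres
    (CharBasic.isCharacter_of_isIrrCharacter θ.2)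
  have hother : ∀ η : IrrCharacter C, η ≠ θ →
      classInner (fun n : C => (X : G → ℂ) n) (η : C → ℂ) = 0 := by
    intro η hne
    by_contra hc
    exact hne (h.theta_facts.1 η (h.covers X hX η hc) fun n hn =>
      constituent_apply hres (ht _ hn) hc)
  have hexp : ∀ n : C, (X : G → ℂ) n = (e : ℂ) * (θ : C → ℂ) n := by
    intro n
    have h1 := congrFun (CharBasicOrth.eq_sum_classInner
      (CharBasic.isClassFunction_of_isCharacter hres)) n
    rw [Finset.sum_apply, Finset.sum_eq_single θ (fun η _ hne => by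
      rw [hother η hne, zero_smul, Pi.zero_apply]) (by simp), Pi.smul_apply, he, smul_eq_mul] at h1
    exact h1
  refine ⟨e, Nat.pos_of_ne_zero fun h0 => ?_, hexp, he⟩
  have := hexp 1
  rw [h0, Nat.cast_zero, zero_mul] at this
  exact irr_one_ne_zero X this

theorem Inv.orbit_eq (h : Inv p M G V B θ) [(C).Normal] :
    CharInduced.orbitFin C (θ : C → ℂ) = {(θ : C → ℂ)} := by
  rw [Finset.eq_singleton_iff_unique_mem]
  refine ⟨CharInduced.self_mem_orbitFin C _, fun φ hφ => ?_⟩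
  obtain ⟨g, rfl⟩ := (CharInduced.mem_orbitFin C).1 hφ
  funext m
  exact h.invariant g m _ (MulAut.conjNormal_apply g m)

theorem Inv.mem_B (h : Inv p M G V B θ) {X : IrrCharacter G} (hX : X ∈ B) :
    blockOf M (X : G → ℂ) = B := (eq_blockOf_of_mem h.hM h.hB hX).symm

theorem Two.mem1 (t : Two p M G V B θ X₁ X₂ Y) : X₁ ∈ B := by rw [t.eq_set]; simp

theorem Two.mem2 (t : Two p M G V B θ X₁ X₂ Y) : X₂ ∈ B := by rw [t.eq_set]; simp

theorem Two.memY (t : Two p M G V B θ X₁ X₂ Y) : Y ∈ B := by rw [t.eq_set]; simp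

theorem sum_B (t : Two p M G V B θ X₁ X₂ Y) (f : IrrCharacter G → ℂ) :
    ∑ χ : IrrCharacter G, (if χ ∈ B then f χ else 0) = f X₁ + f X₂ + f Y := by
  rw [← Finset.sum_subset (Finset.subset_univ ({X₁, X₂, Y} : Finset (IrrCharacter G)))
    (fun χ _ hχ => if_neg (fun hc => hχ (by rw [t.eq_set] at hc; simpa using hc)))]
  rw [Finset.sum_insert (by simp [t.ne12, t.ne1Y]), Finset.sum_insert (by simp [t.ne2Y]),
    Finset.sum_singleton, if_pos t.mem1, if_pos t.mem2, if_pos t.memY, ← add_assoc]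

theorem Blk.one_lt_card (h : Blk p M G V B) : 1 < Nat.card V :=
  Finite.one_lt_card_iff_nontrivial.mpr ((Subgroup.nontrivial_iff_ne_bot V).mpr h.ne_bot)

theorem Two.card_sub_ne (t : Two p M G V B θ X₁ X₂ Y) : (Nat.card V : ℂ) - 1 ≠ 0 := by
  rw [sub_ne_zero]
  exact_mod_cast t.toBlk.one_lt_card.ne'

theorem Two.Y_not_over (t : Two p M G V B θ X₁ X₂ Y) :
    classInner (fun n : C => (Y : G → ℂ) n) (θ : C → ℂ) = 0 := by
  haveI := t.toBlk.normal_cen
  by_contra hne
  obtain ⟨v, hv, hv1⟩ := V.bot_or_exists_ne_one.resolve_left t.ne_bot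
  have hc := CharInduced.clifford (C) Y.2 θ.2 hne
  rw [t.toInv.orbit_eq, Finset.sum_singleton] at hc
  have e1 := congrFun hc 1
  have ev := congrFun hc ⟨v, t.toBlk.le_cen hv⟩
  simp only [Pi.smul_apply, smul_eq_mul, OneMemClass.coe_one] at e1 ev
  rw [t.trivial_on ⟨v, t.toBlk.le_cen hv⟩ hv, ← e1] at ev
  have h2 := t.value v hv hv1
  rw [ev] at h2
  have h3 : (Nat.card V : ℂ) * (Y : G → ℂ) 1 = 0 := by linear_combination h2
  exact mul_ne_zero (Nat.cast_ne_zero.mpr Nat.card_pos.ne') (irr_one_ne_zero Y) h3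

/-- The numbers `e₁`, `e₂`, and what they tell about `|G : C|`. -/
theorem Two.index_facts (t : Two p M G V B θ X₁ X₂ Y) :
    ∃ e₁ e₂ : ℕ, 0 < e₁ ∧ 0 < e₂ ∧ (X₁ : G → ℂ) 1 = (e₁ : ℂ) * (θ : C → ℂ) 1 ∧
      (X₂ : G → ℂ) 1 = (e₂ : ℂ) * (θ : C → ℂ) 1 ∧ (C).index = e₁ ^ 2 + e₂ ^ 2 ∧
      ¬ p ∣ (C).index ∧
      classInner (fun n : C => (X₁ : G → ℂ) n) (θ : C → ℂ) ≠ 0 ∧
      classInner (fun n : C => (X₂ : G → ℂ) n) (θ : C → ℂ) ≠ 0 := by
  haveI := t.toBlk.normal
  haveI := t.toBlk.normal_cen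
  obtain ⟨e₁, he₁, hr₁, hi₁⟩ := t.toInv.res_eq t.mem1 t.trivial1
  obtain ⟨e₂, he₂, hr₂, hi₂⟩ := t.toInv.res_eq t.mem2 t.trivial2
  have h1 : (X₁ : G → ℂ) 1 = (e₁ : ℂ) * (θ : C → ℂ) 1 := hr₁ 1
  have h2 : (X₂ : G → ℂ) 1 = (e₂ : ℂ) * (θ : C → ℂ) 1 := hr₂ 1
  have hn₁ : classInner (fun n : C => (X₁ : G → ℂ) n) (θ : C → ℂ) ≠ 0 := by
    rw [hi₁]; exact_mod_cast he₁.ne'
  have hn₂ : classInner (fun n : C => (X₂ : G → ℂ) n) (θ : C → ℂ) ≠ 0 := by
    rw [hi₂]; exact_mod_cast he₂.ne'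
  -- the induced character
  have hind := CharInduced.isCharacter_ind (C) (CharBasic.isCharacter_of_isIrrCharacter θ.2)
  have hcoef : ∀ χ : IrrCharacter G, classInner (indFun (C) (θ : C → ℂ)) (χ : G → ℂ) =
      classInner (fun n : C => (χ : G → ℂ) n) (θ : C → ℂ) := fun χ => by
    rw [CharInduced.classInner_comm_of_isCharacter hind (CharBasic.isCharacter_of_isIrrCharacter χ.2),
      CharInduced.inner_ind_right (C) _ (irr_classFun χ)]
  have hsum : ((C).index : ℂ) * (θ : C → ℂ) 1 =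
      ∑ χ : IrrCharacter G, (if χ ∈ B then
        classInner (fun n : C => (χ : G → ℂ) n) (θ : C → ℂ) * (χ : G → ℂ) 1 else 0) := by
    rw [← CharInduced.ind_one_apply, congrFun (CharBasicOrth.eq_sum_classInner
      (CharBasic.isClassFunction_of_isCharacter hind)) 1, Finset.sum_apply]
    refine Finset.sum_congr rfl fun χ _ => ?_
    rw [Pi.smul_apply, smul_eq_mul, hcoef χ]
    split_ifs with hχ
    · rfl
    · rw [not_imp_comm.mp (t.over χ) hχ, zero_mul]
  rw [sum_B t, t.Y_not_over, hi₁, hi₂, h1, h2, zero_mul, add_zero] at hsum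
  have hidx : (C).index = e₁ ^ 2 + e₂ ^ 2 := by
    have h0 : (((C).index : ℕ) : ℂ) = ((e₁ ^ 2 + e₂ ^ 2 : ℕ) : ℂ) := by
      apply mul_right_cancel₀ (irr_one_ne_zero θ)
      push_cast
      linear_combination hsum
    exact_mod_cast h0
  refine ⟨e₁, e₂, he₁, he₂, h1, h2, hidx, ?_, hn₁, hn₂⟩
  -- the degrees in the block all have height zero
  have hab : ∀ a ∈ V, ∀ c ∈ V, a * c = c * a := fun a ha c hc =>
    congrArg Subtype.val (t.elem.1.is_comm.comm (⟨a, ha⟩ : V) ⟨c, hc⟩)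
  have hV : (Nat.card V).factorization p = blockDefect p B := by
    rw [BlockContribBounds.card_defectGroup t.hM t.hB t.hD, hp.out.factorization_pow,
      Finsupp.single_eq_same]
  have hkey : ∀ (X : IrrCharacter G) (e : ℕ), X ∈ B → 0 < e →
      (X : G → ℂ) 1 = (e : ℂ) * (θ : C → ℂ) 1 → e.factorization p = (C).index.factorization p := by
    intro X e hX he hXe
    have hh := (S0972.result p M t.hM B t.hB V t.hD).mp hab X hX
    have hm := BlockContrib.minExp_add_defect t.hM t.hB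
    have hx := BlockContrib.exp_eq_add (p := p) hX
    have hθp := t.toInv.theta_facts.2
    have hdeg : charDegree (X : G → ℂ) = e * charDegree (θ : C → ℂ) := by
      rw [ClassAlgebraVal.apply_one_eq_charDegree X, ClassAlgebraVal.apply_one_eq_charDegree θ] at hXe
      exact_mod_cast hXe
    have hd0 : charDegree (θ : C → ℂ) ≠ 0 := by
      intro h0
      exact irr_one_ne_zero θ (by rw [ClassAlgebraVal.apply_one_eq_charDegree θ, h0, Nat.cast_zero])
    rw [hdeg, Nat.factorization_mul he.ne' hd0, Finsupp.add_apply, hθp, hh] at hx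
    have hG := congrArg (fun n : ℕ => n.factorization p) (C).card_mul_index
    have hCV := congrArg (fun n : ℕ => n.factorization p) (V.subgroupOf C).card_mul_index
    simp only [Nat.factorization_mul Nat.card_pos.ne' Subgroup.index_ne_zero_of_finite,
      Finsupp.add_apply] at hG hCV
    rw [Nat.card_congr (Subgroup.subgroupOfEquivOfLe t.toBlk.le_cen).toEquiv, hV] at hCV
    omega
  intro hdvd
  set a := (C).index.factorization p with ha
  have ha1 : 1 ≤ a := hp.out.factorization_pos_of_dvd Subgroup.index_ne_zero_of_finite hdvd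
  have hd : ∀ e : ℕ, 0 < e → e.factorization p = a → p ^ (2 * a) ∣ e ^ 2 := fun e he hea => by
    rw [pow_mul', ← hea]
    exact pow_dvd_pow_of_dvd (Nat.ordProj_dvd e p) 2
  have h3 : p ^ (2 * a) ∣ (C).index := by
    rw [hidx]
    exact dvd_add (hd _ he₁ (hkey X₁ e₁ t.mem1 he₁ h1)) (hd _ he₂ (hkey X₂ e₂ t.mem2 he₂ h2))
  have := (hp.out.pow_dvd_iff_le_factorization Subgroup.index_ne_zero_of_finite).mp h3
  omega

theorem Two.conj_Y (t : Two p M G V B θ X₁ X₂ Y) {v : G} (hv : v ∈ V) (hv1 : v ≠ 1) :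
    conj ((Y : G → ℂ) v) = (Y : G → ℂ) v := by
  have h := congrArg conj (t.value v hv hv1)
  rw [map_mul, map_sub, map_natCast, map_one, map_neg, ClassAlgebraVal.apply_one_eq_charDegree Y,
    map_natCast, ← ClassAlgebraVal.apply_one_eq_charDegree Y, ← t.value v hv hv1] at h
  exact mul_left_cancel₀ t.card_sub_ne h

theorem Two.orth_regular (t : Two p M G V B θ X₁ X₂ Y) {g : G} (hg : ¬ p ∣ orderOf g) :
    (X₁ : G → ℂ) 1 * (X₁ : G → ℂ) g + (X₂ : G → ℂ) 1 * (X₂ : G → ℂ) g =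
      (Y : G → ℂ) 1 / ((Nat.card V : ℂ) - 1) * (Y : G → ℂ) g := by
  obtain ⟨v, hv, hv1⟩ := V.bot_or_exists_ne_one.resolve_left t.ne_bot
  have hord : p ∣ orderOf v := by
    have h1 := (orderOf_dvd_of_pow_eq_one (t.elem.2 v hv))
    rcases (Nat.dvd_prime hp.out).mp h1 with h | h
    · exact absurd (orderOf_eq_one_iff.mp h) hv1
    · rw [h]
  have h := BrauerBlocksOrth.orth_regular_singular t.hM t.hB hg hord
  rw [finsum_mem_eq_toFinset_sum, Set.toFinset_congr t.eq_set] at h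
  simp only [Set.toFinset_insert, Set.toFinset_singleton] at h
  rw [Finset.sum_insert (by simp [t.ne12, t.ne1Y]), Finset.sum_insert (by simp [t.ne2Y]),
    Finset.sum_singleton, t.conj_Y hv hv1, t.trivial1 v hv, t.trivial2 v hv] at h
  rw [ClassAlgebraVal.apply_one_eq_charDegree X₁, ClassAlgebraVal.apply_one_eq_charDegree X₂,
    map_natCast, map_natCast] at h
  rw [ClassAlgebraVal.apply_one_eq_charDegree X₁, ClassAlgebraVal.apply_one_eq_charDegree X₂]
  have h2 := t.value v hv hv1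
  rw [div_mul_eq_mul_div, eq_div_iff t.card_sub_ne]
  linear_combination ((Nat.card V : ℂ) - 1) * h - (Y : G → ℂ) g * h2

/-- `dY² = θ(1)² |G:C| (|V|-1)`. -/
theorem Two.degree_Y (t : Two p M G V B θ X₁ X₂ Y) :
    charDegree (Y : G → ℂ) ^ 2 =
      charDegree (θ : C → ℂ) ^ 2 * (C).index * (Nat.card V - 1) := by
  obtain ⟨e₁, e₂, -, -, h1, h2, hidx, -, -, -⟩ := t.index_facts
  have h := t.orth_regular (g := 1) (by rw [orderOf_one]; exact hp.out.not_dvd_one)
  rw [h1, h2, div_mul_eq_mul_div, eq_div_iff t.card_sub_ne] at h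
  rw [ClassAlgebraVal.apply_one_eq_charDegree Y, ClassAlgebraVal.apply_one_eq_charDegree θ] at h
  have : ((charDegree (Y : G → ℂ) ^ 2 : ℕ) : ℂ) =
      ((charDegree (θ : C → ℂ) ^ 2 * (C).index * (Nat.card V - 1) : ℕ) : ℂ) := by
    rw [hidx]
    push_cast [Nat.cast_sub t.toBlk.one_lt_card.le]
    linear_combination -h
  exact_mod_cast this

theorem Two.Y_eq_zero_of_fpf (t : Two p M G V B θ X₁ X₂ Y) {g : G}
    (hf : ∀ v ∈ V, g * v * g⁻¹ = v → v = 1) : (Y : G → ℂ) g = 0 := by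
  haveI := t.toBlk.normal
  let f : V → V := fun v => ⟨g⁻¹ * v * g * (v : G)⁻¹,
    mul_mem (by simpa using Subgroup.Normal.conj_mem inferInstance (v : G) v.2 g⁻¹) (inv_mem v.2)⟩
  have hinj : Function.Injective f := by
    intro v w hvw
    have h : g⁻¹ * (v : G) * g * (v : G)⁻¹ = g⁻¹ * (w : G) * g * (w : G)⁻¹ := congrArg Subtype.val hvw
    have hc : ∀ a ∈ V, ∀ c ∈ V, a * c = c * a := fun a ha c hc =>
      congrArg Subtype.val (t.elem.1.is_comm.comm (⟨a, ha⟩ : V) ⟨c, hc⟩)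
    have h3 : g⁻¹ * ((w : G)⁻¹ * v) * g = (w : G)⁻¹ * v := by
      calc g⁻¹ * ((w : G)⁻¹ * v) * g = (g⁻¹ * w * g)⁻¹ * (g⁻¹ * v * g * (v : G)⁻¹) * v := by group
        _ = (g⁻¹ * w * g)⁻¹ * (g⁻¹ * w * g * (w : G)⁻¹) * v := by rw [h]
        _ = (w : G)⁻¹ * v := by group
    have h4 : g * ((w : G)⁻¹ * v) * g⁻¹ = (w : G)⁻¹ * v := by
      conv_lhs => rw [← h3]
      group
    exact Subtype.ext (inv_mul_eq_one.mp (hf _ (mul_mem (inv_mem w.2) v.2) h4)).symm
  have hcl := irr_classFun Y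
  have hall : ∀ w : V, (Y : G → ℂ) (g * w) = (Y : G → ℂ) g := by
    intro w
    obtain ⟨v, rfl⟩ := (Finite.injective_iff_surjective.mp hinj) w
    rw [show g * ((f v : V) : G) = (v : G) * g * (v : G)⁻¹ by
      show g * (g⁻¹ * v * g * (v : G)⁻¹) = _
      group]
    exact hcl g v
  have h := t.sum_coset g
  simp only [hall, Finset.sum_const, Finset.card_univ, nsmul_eq_mul] at h
  exact (mul_eq_zero.mp h).resolve_left (Nat.cast_ne_zero.mpr Fintype.card_ne_zero)

/-- A member trivial on `V` only depends on the part prime to `p`, and vanishes when the `p`-part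
is outside `V`. -/
theorem Two.apply_pPart (t : Two p M G V B θ X₁ X₂ Y) {X : IrrCharacter G} (hX : X ∈ B)
    (ht : ∀ v ∈ V, (X : G → ℂ) v = (X : G → ℂ) 1) {g x y : G} (hxy : x * y = g)
    (hx : IsPPart p g x) :
    (x ∈ V → (X : G → ℂ) g = (X : G → ℂ) y) ∧ (x ∉ V → (X : G → ℂ) g = 0) := by
  haveI := t.toBlk.normal
  refine ⟨fun h => hxy ▸ apply_mul_of_trivial ht y h, fun h => ?_⟩
  refine S0924.result p M t.hM X g x hx fun D hD => ?_
  rw [t.toInv.mem_B hX] at hD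
  obtain ⟨c, hc⟩ := BlockTheoryDefect.defectGroup_conj t.hM t.hB t.hD hD
  rw [← hc, show V.map (MulAut.conj c).toMonoidHom = V from Subgroup.Normal.map_conj_eq V c]
  exact h

theorem Two.rel_fpf (t : Two p M G V B θ X₁ X₂ Y) {g : G}
    (hf : ∀ v ∈ V, g * v * g⁻¹ = v → v = 1) :
    (X₁ : G → ℂ) 1 * (X₁ : G → ℂ) g + (X₂ : G → ℂ) 1 * (X₂ : G → ℂ) g = 0 := by
  obtain ⟨x, hx⟩ := BrauerBlocksPPart.exists_isPPart hp.out g
  obtain ⟨y, hxy, hc, hxo, hy⟩ := id hx
  obtain ⟨a₁, b₁⟩ := t.apply_pPart t.mem1 t.trivial1 hxy hx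
  obtain ⟨a₂, b₂⟩ := t.apply_pPart t.mem2 t.trivial2 hxy hx
  by_cases hxV : x ∈ V
  · have hfy : ∀ v ∈ V, y * v * y⁻¹ = v → v = 1 := fun v hv h => hf v hv (by
      have hcv := congrArg Subtype.val (t.elem.1.is_comm.comm (⟨x, hxV⟩ : V) ⟨v, hv⟩)
      simp only [Subgroup.coe_mul] at hcv
      calc g * v * g⁻¹ = x * (y * v * y⁻¹) * x⁻¹ := by rw [← hxy]; group
        _ = v := by rw [h, hcv, mul_inv_cancel_right])
    rw [a₁ hxV, a₂ hxV, t.orth_regular hy, t.Y_eq_zero_of_fpf hfy, mul_zero]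
  · rw [b₁ hxV, b₂ hxV, mul_zero, mul_zero, add_zero]

theorem Two.rel_fix_regular (t : Two p M G V B θ X₁ X₂ Y) {g v : G} (hg : ¬ p ∣ orderOf g)
    (hv : v ∈ V) (hv1 : v ≠ 1) (hvg : Commute v g) :
    (X₂ : G → ℂ) 1 * (X₁ : G → ℂ) g = (X₁ : G → ℂ) 1 * (X₂ : G → ℂ) g := by
  haveI := t.toBlk.normal
  set m : ℂ := (Y : G → ℂ) 1 / ((Nat.card V : ℂ) - 1) with hm
  have hm0 : m ≠ 0 := div_ne_zero (irr_one_ne_zero Y) t.card_sub_ne
  have hmr : conj m = m := by
    rw [hm, map_div₀, map_sub, map_natCast, map_one, ClassAlgebraVal.apply_one_eq_charDegree Y,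
      map_natCast]
  set d₁ := (X₁ : G → ℂ) 1 with hd₁
  set d₂ := (X₂ : G → ℂ) 1 with hd₂
  have hr₁ : conj d₁ = d₁ := by rw [hd₁, ClassAlgebraVal.apply_one_eq_charDegree X₁, map_natCast]
  have hr₂ : conj d₂ = d₂ := by rw [hd₂, ClassAlgebraVal.apply_one_eq_charDegree X₂, map_natCast]
  set u := (Y : G → ℂ) (v * g) / m with hu
  set a := (X₁ : G → ℂ) g + d₁ * u with ha
  set b := (X₂ : G → ℂ) g + d₂ * u with hb
  have hreg : ∀ y : G, ¬ p ∣ orderOf y →
      a * conj ((X₁ : G → ℂ) y) + b * conj ((X₂ : G → ℂ) y) = 0 := by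
    intro y hy
    have hvo : ∃ k, orderOf v = p ^ k := by
      obtain ⟨k, -, hk⟩ := (Nat.dvd_prime_pow hp.out).mp
        (orderOf_dvd_of_pow_eq_one (show v ^ p ^ 1 = 1 by rw [pow_one]; exact t.elem.2 v hv))
      exact ⟨k, hk⟩
    have h := sum_block_mul_conj_eq_zero t.hM t.hB v g y hvo hvg hg fun z hz hzv => by
      obtain ⟨c, rfl⟩ := isConj_iff.mp hz
      have hzo : ¬ p ∣ orderOf (c * y * c⁻¹) := by
        rw [show c * y * c⁻¹ = (MulAut.conj c).toMonoidHom y from rfl,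
          orderOf_injective (MulAut.conj c).toMonoidHom (MulAut.conj c).injective y]
        exact hy
      exact hv1 ((BrauerBlocksPPart.isPPart_one_iff hp.out hzv).mp hzo)
    rw [sum_B t (fun χ => (χ : G → ℂ) (v * g) * conj ((χ : G → ℂ) y)),
      apply_mul_of_trivial t.trivial1 g hv, apply_mul_of_trivial t.trivial2 g hv] at h
    have h2 := congrArg conj (t.orth_regular hy)
    rw [map_add, map_mul, map_mul, map_mul, hr₁, hr₂, ← hm, hmr] at h2
    have h3 : m * u = (Y : G → ℂ) (v * g) := by rw [hu, mul_comm, div_mul_cancel₀ _ hm0]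
    rw [ha, hb]
    linear_combination h + conj ((Y : G → ℂ) y) * h3 + u * h2
  have hall : ∀ y : G, a * conj ((X₁ : G → ℂ) y) + b * conj ((X₂ : G → ℂ) y) = 0 := by
    intro y
    obtain ⟨x, hx⟩ := BrauerBlocksPPart.exists_isPPart hp.out y
    obtain ⟨z, hxz, -, -, hz⟩ := id hx
    obtain ⟨a₁, b₁⟩ := t.apply_pPart t.mem1 t.trivial1 hxz hx
    obtain ⟨a₂, b₂⟩ := t.apply_pPart t.mem2 t.trivial2 hxz hx
    by_cases hxV : x ∈ V
    · rw [a₁ hxV, a₂ hxV]; exact hreg z hz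
    · rw [b₁ hxV, b₂ hxV, map_zero, mul_zero, mul_zero, add_zero]
  have hin : ∀ X : IrrCharacter G, a * classInner (X : G → ℂ) (X₁ : G → ℂ) +
      b * classInner (X : G → ℂ) (X₂ : G → ℂ) = 0 := by
    intro X
    have h : ∑ y : G, (X : G → ℂ) y *
        (a * conj ((X₁ : G → ℂ) y) + b * conj ((X₂ : G → ℂ) y)) = 0 :=
      Finset.sum_eq_zero fun y _ => by rw [hall y, mul_zero]
    simp only [classInner]
    rw [show ∀ s r : ℂ, a * ((Nat.card G : ℂ)⁻¹ * s) + b * ((Nat.card G : ℂ)⁻¹ * r) =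
      (Nat.card G : ℂ)⁻¹ * (a * s + b * r) from fun s r => by ring, Finset.mul_sum, Finset.mul_sum,
      ← Finset.sum_add_distrib, ← mul_zero (Nat.card G : ℂ)⁻¹]
    congr 1
    rw [← h]
    exact Finset.sum_congr rfl fun y _ => by ring
  have ha0 := hin X₁
  have hb0 := hin X₂
  simp only [CharBasicOrth.classInner_irrCharacter, if_neg t.ne12, if_neg t.ne12.symm, if_true,
    mul_one, mul_zero, add_zero, zero_add] at ha0 hb0
  linear_combination d₂ * (ha.symm.trans ha0) - d₁ * (hb.symm.trans hb0)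

theorem Two.rel_fix (t : Two p M G V B θ X₁ X₂ Y) {g v : G}
    (hv : v ∈ V) (hv1 : v ≠ 1) (hvg : g * v * g⁻¹ = v) :
    (X₂ : G → ℂ) 1 * (X₁ : G → ℂ) g = (X₁ : G → ℂ) 1 * (X₂ : G → ℂ) g := by
  obtain ⟨x, hx⟩ := BrauerBlocksPPart.exists_isPPart hp.out g
  obtain ⟨y, hxy, hc, hxo, hy⟩ := id hx
  obtain ⟨a₁, b₁⟩ := t.apply_pPart t.mem1 t.trivial1 hxy hx
  obtain ⟨a₂, b₂⟩ := t.apply_pPart t.mem2 t.trivial2 hxy hx
  by_cases hxV : x ∈ V
  · rw [a₁ hxV, a₂ hxV]
    refine t.rel_fix_regular hy hv hv1 ?_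
    have hcv : Commute v x :=
      congrArg Subtype.val (t.elem.1.is_comm.comm (⟨v, hv⟩ : V) ⟨x, hxV⟩)
    have hvgc : Commute v g := (mul_inv_eq_iff_eq_mul.mp hvg).symm
    rw [show y = x⁻¹ * g by rw [← hxy]; group]
    exact hcv.inv_right.mul_right hvgc
  · rw [b₁ hxV, b₂ hxV, mul_zero, mul_zero]

end Cfsg.Agent.KThree57
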