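import Cfsg.Agent.Lib.KThree57Defs
import Cfsg.Agent.Lib.BlockContribBounds
import Cfsg.Agent.Lib.BlockQuotient78
import Cfsg.Agent.Lib.BlockTheoryDefect
import Cfsg.Agent.Lib.PGroupsBasic
import Cfsg.Agent.Lib.CharAverage
import Cfsg.Agent.Lib.HallCore
import Cfsg.Agent.Lib.CyclicSetup42
import Cfsg.Agent.S4434
import Cfsg.Agent.S0972
import Cfsg.Agent.S0908
import Cfsg.Agent.S0973
import Cfsg.Agent.S4696

/-! Blocks with three characters: reduction to a normal elementary abelian defect group. -/

set_option autoImplicit false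
set_option linter.style.haveILetI false

namespace Cfsg.Agent.KThree57

open Cfsg

attribute [local instance] Classical.propDecidable

universe u

variable {p : ℕ} [Fact p.Prime] {M : Ideal AlgInt}

/-- The least exponent in a block is the exponent of the group order less that of a defect group. -/
theorem min_eq {G : Type u} [Group G] [Finite G] (hM : IsPModular p M) {B : Set (IrrCharacter G)}
    (hB : IsPBlock M B) {D : Subgroup G} (hD : IsDefectGroup p M B D) :
    sInf ((fun χ : IrrCharacter G => (charDegree (χ : G → ℂ)).factorization p) '' B) +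
      (Nat.card D).factorization p = (Nat.card G).factorization p := by
  haveI : Fintype G := Fintype.ofFinite G
  rw [S0908.result p M hM B hB D hD, (Fact.out : p.Prime).factorization_pow, Finsupp.single_eq_same]
  exact BlockContrib.minExp_add_defect hM hB

/-- The statement S4609 follows from the case of a normal elementary abelian defect group. -/
theorem reduce
    (key : ∀ {p : ℕ} [Fact p.Prime] {M : Ideal AlgInt} {G : Type u} [Group G] [Fintype G]
      {V : Subgroup G} {B : Set (IrrCharacter G)}, Blk p M G V B → Nat.card V ≤ 3)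
    {G : Type u} [Group G] [Finite G] (p : ℕ) [Fact p.Prime] (M : Ideal AlgInt) (hM : IsPModular p M)
    (B : Set (IrrCharacter G)) (hB : IsPBlock M B) (D : Subgroup G) (hD : IsDefectGroup p M B D)
    (hk : Nat.card B = 3)
    (b : Set (IrrCharacter (Subgroup.normalizer (D : Set G))))
    (hbB : IsInducedBlock M (Subgroup.normalizer (D : Set G)) b B)
    (hbD : IsDefectGroup p M b (D.subgroupOf (Subgroup.normalizer (D : Set G))))
    (hAM : Nat.card {χ : IrrCharacter G // χ ∈ B ∧ blockHeight p B (χ : G → ℂ) = 0} =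
      Nat.card {ψ : IrrCharacter (Subgroup.normalizer (D : Set G)) //
        ψ ∈ b ∧ blockHeight p b (ψ : Subgroup.normalizer (D : Set G) → ℂ) = 0}) :
    Nat.card D = 3 := by
  haveI : Fintype G := Fintype.ofFinite G
  have hp : p.Prime := Fact.out
  have hDp : IsPGroup p D := BlockTheoryDefect.isPGroup_of_isDefectGroup hD
  have hD1 : D ≠ ⊥ := by
    intro h
    have hd : blockDefect p B = 0 := by
      have := S0908.result p M hM B hB D hD
      rw [h, Subgroup.card_bot] at this
      exact ((Nat.pow_eq_one).1 this.symm).resolve_left hp.ne_one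
    have := BlockContribBounds.eq_singleton_of_defect_zero hM hB hd
    omega
  set D' := D.subgroupOf (Subgroup.normalizer (D : Set G)) with hD'def
  haveI : D'.Normal := Subgroup.normal_in_normalizer
  have hD'p : IsPGroup p D' :=
    hDp.of_equiv (Subgroup.subgroupOfEquivOfLe (Subgroup.le_normalizer (H := D))).symm
  have hcardD' : Nat.card D' = Nat.card D :=
    Nat.card_congr (Subgroup.subgroupOfEquivOfLe (Subgroup.le_normalizer (H := D))).toEquiv
  set Φ := (frattini D').map D'.subtype with hΦdef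
  haveI hΦn : Φ.Normal := inferInstance
  have hΦD : Φ ≤ D' := Subgroup.map_subtype_le _
  have hΦp : IsPGroup p Φ := hD'p.to_le hΦD
  obtain ⟨Bb, hBb, hsub, hdef⟩ := S4434.result p M hM Φ hΦp b hbB.1
  set V := D'.map (QuotientGroup.mk' Φ) with hVdef
  have hV : IsDefectGroup p M Bb V := (hdef V).2 ⟨D', hbD, rfl⟩
  haveI hVn : V.Normal := Subgroup.Normal.map inferInstance _ (QuotientGroup.mk'_surjective Φ)
  have hmulV : Nat.card V * Nat.card Φ = Nat.card D' := HallCore.card_map_mk'_mul Φ D' hΦD
  have hfr : ∀ d : D', d ∈ frattini D' → QuotientGroup.mk' Φ (d : (Subgroup.normalizer (D : Set G))) = 1 := fun d hd =>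
    (QuotientGroup.eq_one_iff _).2 ⟨d, hd, rfl⟩
  have hcommV : ∀ a ∈ V, ∀ c ∈ V, a * c = c * a := by
    rintro _ ⟨x, hx, rfl⟩ _ ⟨y, hy, rfl⟩
    have h := hfr _ (PGroupsBasic.commutator_le_frattini hD'p
      (Subgroup.commutator_mem_commutator (Subgroup.mem_top (⟨x, hx⟩ : D')) (Subgroup.mem_top ⟨y, hy⟩)))
    simp only [commutatorElement_def, Subgroup.coe_mul, Subgroup.coe_inv, map_mul, map_inv] at h
    exact commutatorElement_eq_one_iff_mul_comm.1 (by rw [commutatorElement_def]; exact h)
  have helem : IsElementaryAbelian p V := by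
    refine ⟨⟨⟨fun a c => Subtype.ext (hcommV a a.2 c c.2)⟩⟩, ?_⟩
    rintro _ ⟨x, hx, rfl⟩
    have h := hfr _ (PGroupsBasic.pow_mem_frattini hD'p ⟨x, hx⟩)
    rwa [SubmonoidClass.coe_pow, map_pow] at h
  haveI : Nontrivial D' := by
    rw [← Finite.one_lt_card_iff_nontrivial, hcardD']
    exact (Subgroup.one_lt_card_iff_ne_bot D).2 hD1
  have hV1 : V ≠ ⊥ := by
    intro h
    have hle : D' ≤ Φ := fun d hd => (QuotientGroup.eq_one_iff _).1
      (Subgroup.mem_bot.1 (h ▸ Subgroup.mem_map_of_mem (QuotientGroup.mk' Φ) hd))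
    have htop : frattini D' = ⊤ := by
      refine eq_top_iff.2 fun d _ => ?_
      obtain ⟨e, he, heq⟩ := hle d.2
      exact Subtype.ext (a1 := e) (a2 := d) heq ▸ he
    exact bot_ne_top (frattini_nongenerating (K := (⊥ : Subgroup D')) (by rw [htop, sup_top_eq]))
  -- heights in the quotient block
  have hmin : sInf ((fun χ : IrrCharacter ((Subgroup.normalizer (D : Set G)) ⧸ Φ) => (charDegree (χ : (Subgroup.normalizer (D : Set G)) ⧸ Φ → ℂ)).factorization p) '' Bb) =
      sInf ((fun χ : IrrCharacter (Subgroup.normalizer (D : Set G)) => (charDegree (χ : (Subgroup.normalizer (D : Set G)) → ℂ)).factorization p) '' b) := by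
    have h1 := min_eq hM hBb hV
    have h2 := min_eq hM hbB.1 hbD
    rw [← hmulV, Subgroup.card_eq_card_quotient_mul_card_subgroup Φ,
      Nat.factorization_mul Nat.card_pos.ne' Nat.card_pos.ne',
      Nat.factorization_mul Nat.card_pos.ne' Nat.card_pos.ne', Finsupp.add_apply, Finsupp.add_apply] at h2
    omega
  have hz : ∀ χ ∈ Bb, BlockQuotient78.infl Φ χ ∈ b ∧
      blockHeight p b (BlockQuotient78.infl Φ χ : (Subgroup.normalizer (D : Set G)) → ℂ) = 0 := by
    intro χ hχ
    refine ⟨hsub χ hχ _ (funext fun g => BlockQuotient78.infl_apply Φ χ g), ?_⟩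
    have h0 := (S0972.result p M hM Bb hBb V hV).1 hcommV χ hχ
    have hdeg : charDegree (BlockQuotient78.infl Φ χ : (Subgroup.normalizer (D : Set G)) → ℂ) = charDegree (χ : (Subgroup.normalizer (D : Set G)) ⧸ Φ → ℂ) := by
      simp only [charDegree, BlockQuotient78.infl_apply, map_one]
    rw [blockHeight] at h0 ⊢
    rw [hdeg, ← hmin]
    exact h0
  have hcard : Nat.card Bb ≤ 3 := by
    have hinj : Function.Injective (fun χ : Bb =>
        (⟨BlockQuotient78.infl Φ χ.1, hz χ.1 χ.2⟩ :
          {ψ : IrrCharacter (Subgroup.normalizer (D : Set G)) // ψ ∈ b ∧ blockHeight p b (ψ : (Subgroup.normalizer (D : Set G)) → ℂ) = 0})) := by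
      intro χ χ' h
      exact Subtype.ext ((CharKernel.quotEquiv Φ).injective
        (Subtype.ext (congrArg (fun z => z.1) h)))
    refine (Nat.card_le_card_of_injective _ hinj).trans ?_
    rw [← hAM, ← hk]
    exact Nat.card_le_card_of_injective
      (fun χ : {χ : IrrCharacter G // χ ∈ B ∧ blockHeight p B (χ : G → ℂ) = 0} => (⟨χ.1, χ.2.1⟩ : B))
      (fun χ χ' h => Subtype.ext (congrArg (fun z : B => z.1) h))
  have hV3 : Nat.card V ≤ 3 := key (p := p) (M := M) ⟨hM, hVn, helem, hV1, hBb, hV, hcard⟩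
  -- hence `D` is cyclic
  have hVp : Nat.card V = p := by
    obtain ⟨n, hn⟩ := IsPGroup.iff_card.1 ((hD'p.map (QuotientGroup.mk' Φ)) : IsPGroup p V)
    have hn1 : n ≠ 0 := fun h => hV1 (Subgroup.card_eq_one.1 (by rw [hn, h, pow_zero]))
    rcases Nat.lt_or_ge n 2 with h | h
    · rw [hn, show n = 1 by omega, pow_one]
    · exfalso
      have h4 : 2 ^ 2 ≤ p ^ n := (Nat.pow_le_pow_left hp.two_le 2).trans (Nat.pow_le_pow_right hp.pos h)
      have h3 : p ^ n ≤ 3 := hn.symm.trans_le hV3
      omega
  have hfi : (frattini D').index = p := by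
    have h1 := Subgroup.card_mul_index (frattini D')
    have h2 : Nat.card Φ = Nat.card (frattini D') :=
      Subgroup.card_map_of_injective D'.subtype_injective
    rw [← hmulV, hVp, h2, mul_comm p] at h1
    exact Nat.eq_of_mul_eq_mul_left Nat.card_pos h1
  have hcyc : IsCyclic D := by
    haveI : Fintype D' := Fintype.ofFinite _
    obtain ⟨T, -, hT, hTtop⟩ := PGroupsBasic.exists_basis_subset hD'p Finset.univ (by simp)
    have hT1 : T.card = 1 :=
      Nat.pow_right_injective hp.two_le (show p ^ T.card = p ^ 1 by rw [hT, hfi, pow_one])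
    obtain ⟨x, rfl⟩ := Finset.card_eq_one.1 hT1
    rw [Finset.coe_singleton, ← Subgroup.zpowers_eq_closure] at hTtop
    haveI : IsCyclic D' := isCyclic_iff_exists_zpowers_eq_top.2 ⟨x, hTtop⟩
    exact isCyclic_of_surjective _
      (Subgroup.subgroupOfEquivOfLe (Subgroup.le_normalizer (H := D))).surjective
  obtain ⟨a, hDa⟩ := IsPGroup.iff_card.1 hDp
  have ha : 1 ≤ a := Nat.one_le_iff_ne_zero.2 fun h =>
    hD1 (Subgroup.card_eq_one.1 (by rw [hDa, h, pow_zero]))
  have hle : D ≤ Subgroup.centralizer (D : Set G) := fun x hx => Subgroup.mem_centralizer_iff.2 fun y hy => by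
    haveI := hcyc
    exact congrArg Subtype.val (hcyc.isMulCommutative.is_comm.comm (⟨y, hy⟩ : D) ⟨x, hx⟩)
  have tr : ∀ L L' : Subgroup G, L = L' → (∃ c, IsInducedBlock M L c B) → ∃ c, IsInducedBlock M L' c B := by
    rintro L _ rfl h; exact h
  obtain ⟨⟨c₀, -, hc₀⟩, -⟩ := S0973.result p M hM B hB D hD
  obtain ⟨c, hc⟩ := tr _ _ (sup_eq_right.2 hle) ⟨c₀, hc₀⟩
  obtain ⟨hep, -, X, Y, hXY, hdis, hX, hY, -⟩ := S4696.result p M hM D hcyc a ha hDa B hB hD c hc
    (BrauerPairs81Fusion.stab (⟨D, c⟩ : BrauerPairIdx G))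
    (fun g => (CyclicSetup42.mem_iff_stab g).symm) _ rfl
  set e := (Subgroup.centralizer (D : Set G)).relIndex
    (BrauerPairs81Fusion.stab (⟨D, c⟩ : BrauerPairIdx G))
  have hsum : e + (p ^ a - 1) / e = 3 := by
    have h : Nat.card B = Nat.card X + Nat.card Y := by
      rw [hXY, Nat.card_coe_set_eq, Nat.card_coe_set_eq, Nat.card_coe_set_eq,
        Set.ncard_union_eq hdis (Set.toFinite _) (Set.toFinite _)]
    omega
  obtain ⟨j, hj⟩ : e ∣ p ^ a - 1 := hep.trans (by simpa using Nat.sub_dvd_pow_sub_pow p 1 a)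
  have he0 : 0 < e := Nat.pos_of_ne_zero Subgroup.index_ne_zero_of_finite
  rw [hj, Nat.mul_div_cancel_left _ he0] at hsum
  have hpa : 2 ≤ p ^ a := le_trans hp.two_le (Nat.le_self_pow (by omega) p)
  have he3 : e ≤ 3 := by omega
  rw [hDa]
  interval_cases e
  · omega
  · omega
  · have : j = 0 := by omega
    subst this
    omega

end Cfsg.Agent.KThree57
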