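import Mathlib

/-!
# Multiply transitive groups: involution counting for k-transitive groups with trivial
(k+1)-point stabilisers (helper59, used for S0747)
-/

set_option autoImplicit false

namespace Cfsg.Agent.KTransAlt59

noncomputable section

open MulAction

/-- the double transposition (0 1)(2 3) -/
def dswap : Equiv.Perm (Fin 4) := Equiv.swap 0 1 * Equiv.swap 2 3

lemma dswap_vals : dswap 0 = 1 ∧ dswap 1 = 0 ∧ dswap 2 = 3 ∧ dswap 3 = 2 := by
  unfold dswap
  decide

section Four

variable {H β : Type*} [Group H] [MulAction H β] [Fintype H] [Fintype β] [DecidableEq β]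

/-- fixed point finset -/
def fixF (z : H) : Finset β := Finset.univ.filter (fun x => z • x = x)

/-- moved point finset -/
def movF (z : H) : Finset β := Finset.univ.filter (fun x => z • x ≠ x)

/-- pattern tuples of an element -/
def pat (z : H) (σ : Fin 4 → Fin 4) : Finset (Fin 4 ↪ β) :=
  Finset.univ.filter (fun e => ∀ i, z • e i = e (σ i))

def emb4 (a b c d : β) (hab : a ≠ b) (hac : a ≠ c) (had : a ≠ d) (hbc : b ≠ c) (hbd : b ≠ d)
    (hcd : c ≠ d) : Fin 4 ↪ β :=
  ⟨![a, b, c, d], by
    intro i j hij
    fin_cases i <;> fin_cases j <;> simp_all [eq_comm]⟩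

lemma emb4_apply (a b c d : β) (hab : a ≠ b) (hac : a ≠ c) (had : a ≠ d) (hbc : b ≠ c)
    (hbd : b ≠ d) (hcd : c ≠ d) (i : Fin 4) :
    emb4 a b c d hab hac had hbc hbd hcd i = ![a, b, c, d] i := rfl

omit [Fintype H] in
lemma card_fix_add_mov (z : H) :
    (fixF (β := β) z).card + (movF (β := β) z).card = Fintype.card β :=
  Finset.card_filter_add_card_filter_not _

omit [Fintype H] in
lemma card_pat_id (z : H) :
    (pat (β := β) z id).card = ((fixF (β := β) z).card).descFactorial 4 := by
  classical
  have e : {e : Fin 4 ↪ β // e ∈ pat z id} ≃ (Fin 4 ↪ {x : β // x ∈ fixF z}) :=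
    { toFun := fun e => ⟨fun i => ⟨e.1 i, by
          simpa [fixF, pat] using (Finset.mem_filter.mp e.2).2 i⟩,
        fun i j h => e.1.injective (congrArg Subtype.val h)⟩
      invFun := fun f => ⟨f.trans (Function.Embedding.subtype _), by
          refine Finset.mem_filter.mpr ⟨Finset.mem_univ _, fun i => ?_⟩
          exact (Finset.mem_filter.mp (f i).2).2⟩
      left_inv := fun e => by ext i; rfl
      right_inv := fun f => by ext i; rfl }
  have := Fintype.card_congr e
  rw [Fintype.card_coe, Fintype.card_embedding_eq, Fintype.card_coe, Fintype.card_fin] at this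
  exact this

omit [Fintype H] in
lemma card_pat_swap (z : H) (hz : z * z = 1) :
    (pat (β := β) z (Equiv.swap (0 : Fin 4) 1)).card =
      (movF (β := β) z).card * ((fixF (β := β) z).card * ((fixF (β := β) z).card - 1)) := by
  classical
  have hzz : ∀ x : β, z • z • x = x := fun x => by rw [smul_smul, hz, one_smul]
  have h : (pat (β := β) z (Equiv.swap (0 : Fin 4) 1)).card =
      ((movF (β := β) z) ×ˢ (fixF (β := β) z).offDiag).card := by
    refine Finset.card_bij (fun e _ => (e 0, (e 2, e 3))) ?_ ?_ ?_
    · intro e he
      have h := (Finset.mem_filter.mp he).2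
      have h0 : z • e 0 = e 1 := h 0
      have h2 : z • e 2 = e 2 := h 2
      have h3 : z • e 3 = e 3 := h 3
      have : z • e 0 ≠ e 0 := fun hh => absurd (e.injective (h0.symm.trans hh)) (by decide)
      have h23 : e 2 ≠ e 3 := fun hh => absurd (e.injective hh) (by decide)
      simp [movF, fixF, this, h2, h3, h23]
    · intro e he f hf hef
      have h1 : e 0 = f 0 := congrArg Prod.fst hef
      have h2 : e 2 = f 2 := congrArg (fun p => p.2.1) hef
      have h3 : e 3 = f 3 := congrArg (fun p => p.2.2) hef
      have h0e : z • e 0 = e 1 := (Finset.mem_filter.mp he).2 0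
      have h0f : z • f 0 = f 1 := (Finset.mem_filter.mp hf).2 0
      ext i
      fin_cases i
      · exact h1
      · show e 1 = f 1; rw [← h0e, ← h0f, h1]
      · exact h2
      · exact h3
    · rintro ⟨a, c, d⟩ hm
      simp only [Finset.mem_product, Finset.mem_offDiag, movF, fixF, Finset.mem_filter,
        Finset.mem_univ, true_and] at hm
      obtain ⟨ha, hc, hd, hcd⟩ := hm
      have hac : a ≠ c := fun h => ha (h ▸ hc)
      have had : a ≠ d := fun h => ha (h ▸ hd)
      have hbc : z • a ≠ c := fun h => hac (by rw [← hzz a, h, hc])
      have hbd : z • a ≠ d := fun h => had (by rw [← hzz a, h, hd])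
      refine ⟨emb4 a (z • a) c d (Ne.symm ha) hac had hbc hbd hcd, ?_, rfl⟩
      refine Finset.mem_filter.mpr ⟨Finset.mem_univ _, fun i => ?_⟩
      fin_cases i
      · rfl
      · exact hzz a
      · exact hc
      · exact hd
  rw [h, Finset.card_product, Finset.offDiag_card, Nat.mul_sub_one]

omit [Fintype H] in
lemma card_pat_double (z : H) (hz : z * z = 1) :
    (pat (β := β) z dswap).card =
      (movF (β := β) z).card * ((movF (β := β) z).card - 2) := by
  classical
  have hzz : ∀ x : β, z • z • x = x := fun x => by rw [smul_smul, hz, one_smul]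
  have h : (pat (β := β) z dswap).card =
      ((movF (β := β) z).sigma (fun a => (movF (β := β) z) \ {a, z • a})).card := by
    refine Finset.card_bij (fun e _ => ⟨e 0, e 2⟩) ?_ ?_ ?_
    · intro e he
      have h := (Finset.mem_filter.mp he).2
      have h0 : z • e 0 = e 1 := (h 0).trans (congrArg e dswap_vals.1)
      have h2 : z • e 2 = e 3 := (h 2).trans (congrArg e dswap_vals.2.2.1)
      have n01 : z • e 0 ≠ e 0 := fun hh => absurd (e.injective (h0.symm.trans hh)) (by decide)
      have n23 : z • e 2 ≠ e 2 := fun hh => absurd (e.injective (h2.symm.trans hh)) (by decide)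
      have n20 : e 2 ≠ e 0 := fun hh => absurd (e.injective hh) (by decide)
      have n21 : e 2 ≠ z • e 0 := fun hh => absurd (e.injective (hh.trans h0)) (by decide)
      simp [movF, n01, n23, n20, n21]
    · intro e he f hf hef
      have h1 : e 0 = f 0 := congrArg Sigma.fst hef
      have h2 : e 2 = f 2 := congrArg (fun p : (_ : β) × β => p.2) hef
      have h0e : z • e 0 = e 1 :=
        ((Finset.mem_filter.mp he).2 0).trans (congrArg e dswap_vals.1)
      have h0f : z • f 0 = f 1 :=
        ((Finset.mem_filter.mp hf).2 0).trans (congrArg f dswap_vals.1)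
      have h2e : z • e 2 = e 3 :=
        ((Finset.mem_filter.mp he).2 2).trans (congrArg e dswap_vals.2.2.1)
      have h2f : z • f 2 = f 3 :=
        ((Finset.mem_filter.mp hf).2 2).trans (congrArg f dswap_vals.2.2.1)
      ext i
      fin_cases i
      · exact h1
      · show e 1 = f 1; rw [← h0e, ← h0f, h1]
      · exact h2
      · show e 3 = f 3; rw [← h2e, ← h2f, h2]
    · rintro ⟨a, c⟩ hm
      simp only [Finset.mem_sigma, Finset.mem_sdiff, movF, Finset.mem_filter, Finset.mem_univ,
        true_and, Finset.mem_insert, Finset.mem_singleton, not_or] at hm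
      obtain ⟨ha, hc, hca, hcb⟩ := hm
      have hbd : z • a ≠ z • c := fun h => hca (MulAction.injective z h).symm
      have had : a ≠ z • c := fun h => hcb (by rw [h, hzz c])
      refine ⟨emb4 a (z • a) c (z • c) (Ne.symm ha) (Ne.symm hca) had (Ne.symm hcb) hbd
        (Ne.symm hc), ?_, rfl⟩
      refine Finset.mem_filter.mpr ⟨Finset.mem_univ _, fun i => ?_⟩
      obtain ⟨v0, v1, v2, v3⟩ := dswap_vals
      fin_cases i
      · exact (congrArg (emb4 a (z • a) c (z • c) _ _ _ _ _ _) v0).symm ▸ rfl
      · exact (hzz a).trans (congrArg (emb4 a (z • a) c (z • c) _ _ _ _ _ _) v1).symm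
      · exact (congrArg (emb4 a (z • a) c (z • c) _ _ _ _ _ _) v2).symm ▸ rfl
      · exact (hzz c).trans (congrArg (emb4 a (z • a) c (z • c) _ _ _ _ _ _) v3).symm
  rw [h, Finset.card_sigma, Finset.sum_const_nat (m := (movF (β := β) z).card - 2)]
  intro a ha
  have ha' : z • a ≠ a := (Finset.mem_filter.mp ha).2
  have hsub : ({a, z • a} : Finset β) ⊆ movF (β := β) z := by
    intro x hx
    rcases Finset.mem_insert.mp hx with rfl | hx
    · exact ha
    · rw [Finset.mem_singleton] at hx
      subst hx
      refine Finset.mem_filter.mpr ⟨Finset.mem_univ _, fun h => ha' ?_⟩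
      exact MulAction.injective z h
  rw [Finset.card_sdiff_of_subset hsub, Finset.card_pair (Ne.symm ha')]

/-- the elements realising a given pattern on a given tuple -/
lemma exists_pat (h4 : IsMultiplyPretransitive H β 4) (σ : Equiv.Perm (Fin 4))
    (e : Fin 4 ↪ β) : ∃ g : H, ∀ i, g • e i = e (σ i) := by
  obtain ⟨g, hg⟩ := exists_smul_eq (M := H) e (σ.toEmbedding.trans e)
  exact ⟨g, fun i => DFunLike.congr_fun hg i⟩

variable [DecidableEq H]

/-- a number `n` attached to a 4-transitive group with trivial 5-point stabilisers -/
lemma four_bound (h4 : IsMultiplyPretransitive H β 4)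
    (hB : ∀ (g : H) (e : Fin 5 ↪ β), g • e = e → g = 1) (l : ℕ)
    (hl : Fintype.card H = (Fintype.card β).descFactorial 4 * l)
    (hn : 5 ≤ Fintype.card β) :
    Fintype.card β ≤ 4 * l + 4 ∨ (l = 1 ∧ Fintype.card β = 11) := by
  classical
  set n := Fintype.card β with hndef
  have hD : Fintype.card (Fin 4 ↪ β) = n.descFactorial 4 := by
    rw [Fintype.card_embedding_eq, Fintype.card_fin]
  have hDpos : 0 < n.descFactorial 4 := Nat.descFactorial_pos.mpr (by omega)
  have hlpos : 0 < l := by
    rcases Nat.eq_zero_or_pos l with h | h
    · rw [h, mul_zero] at hl; exact absurd hl Fintype.card_ne_zero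
    · exact h
  -- few fixed points
  have hfix : ∀ g : H, g ≠ 1 → (fixF (β := β) g).card ≤ 4 := by
    intro g hg
    by_contra hcon
    push Not at hcon
    obtain ⟨e⟩ : Nonempty (Fin 5 ↪ {x : β // x ∈ fixF g}) :=
      Function.Embedding.nonempty_of_card_le (by rw [Fintype.card_fin, Fintype.card_coe]; omega)
    refine hg (hB g (e.trans (Function.Embedding.subtype _)) ?_)
    ext i
    exact (Finset.mem_filter.mp (e i).2).2
  -- cosets
  have hK : ∀ e : Fin 4 ↪ β, Fintype.card (stabilizer H e) = l := by
    intro e
    have h1 := MulAction.card_orbit_mul_card_stabilizer_eq_card_group H e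
    have h2 : Fintype.card (MulAction.orbit H e) = n.descFactorial 4 := by
      rw [← hD]
      exact Fintype.card_congr
        ((Equiv.setCongr (MulAction.orbit_eq_univ H e)).trans (Equiv.Set.univ _))
    rw [h2, hl] at h1
    exact Nat.eq_of_mul_eq_mul_left hDpos h1
  have hmemK : ∀ (e : Fin 4 ↪ β) (g : H), g ∈ stabilizer H e ↔ ∀ i, g • e i = e i := by
    intro e g
    rw [MulAction.mem_stabilizer_iff]
    exact ⟨fun h i => DFunLike.congr_fun h i, fun h => DFunLike.ext _ _ h⟩
  have hcoset : ∀ (σ : Equiv.Perm (Fin 4)) (e : Fin 4 ↪ β),
      (Finset.univ.filter (fun g : H => ∀ i, g • e i = e (σ i))).card = l := by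
    intro σ e
    obtain ⟨g0, hg0⟩ := exists_pat h4 σ e
    rw [← hK e, ← Finset.card_univ]
    symm
    refine Finset.card_bij (fun k _ => g0 * (k : H)) ?_ ?_ ?_
    · intro k _
      refine Finset.mem_filter.mpr ⟨Finset.mem_univ _, fun i => ?_⟩
      rw [mul_smul, (hmemK e k).mp k.2 i, hg0]
    · intro k _ k' _ h
      exact Subtype.ext (mul_left_cancel h)
    · intro g hg
      have hg' := (Finset.mem_filter.mp hg).2
      refine ⟨⟨g0⁻¹ * g, (hmemK e _).mpr fun i => ?_⟩, Finset.mem_univ _, by simp⟩
      rw [mul_smul, hg' i, ← hg0 i, inv_smul_smul]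
  -- double counting
  have hdc : ∀ (S : Finset H) (σ : Equiv.Perm (Fin 4)),
      ∑ z ∈ S, (pat (β := β) z σ).card =
        ∑ e : Fin 4 ↪ β, (S.filter (fun z => ∀ i, z • e i = e (σ i))).card := by
    intro S σ
    exact Finset.sum_card_bipartiteAbove_eq_sum_card_bipartiteBelow
      (r := fun (z : H) (e : Fin 4 ↪ β) => ∀ i, z • e i = e (σ i))
  have hupper : ∀ (S : Finset H) (σ : Equiv.Perm (Fin 4)),
      ∑ z ∈ S, (pat (β := β) z σ).card ≤ n.descFactorial 4 * l := by
    intro S σ
    rw [hdc]
    refine (Finset.sum_le_sum (g := fun _ => l) fun e _ => ?_).trans ?_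
    · rw [← hcoset σ e]
      exact Finset.card_le_card (Finset.filter_subset_filter _ (Finset.subset_univ S))
    · rw [Finset.sum_const, smul_eq_mul, Finset.card_univ, hD]
  have hlower : ∀ (S : Finset H) (σ : Equiv.Perm (Fin 4)) (j : ℕ),
      (∀ e : Fin 4 ↪ β, j ≤ (S.filter (fun z => ∀ i, z • e i = e (σ i))).card) →
      n.descFactorial 4 * j ≤ ∑ z ∈ S, (pat (β := β) z σ).card := by
    intro S σ j hj
    rw [hdc, ← hD, ← Finset.card_univ]
    simpa using Finset.sum_le_sum (f := fun _ => j) fun e (_ : e ∈ Finset.univ) => hj e
  -- fixed/moved arithmetic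
  have hmov : ∀ z : H, (movF (β := β) z).card = n - (fixF (β := β) z).card := by
    intro z; have := card_fix_add_mov (β := β) z; omega
  let inv : ℕ → Finset H := fun f =>
    Finset.univ.filter (fun z => z * z = 1 ∧ z ≠ 1 ∧ (fixF (β := β) z).card = f)
  have hinv : ∀ {f : ℕ} {z : H}, z ∈ inv f ↔
      z * z = 1 ∧ z ≠ 1 ∧ (fixF (β := β) z).card = f := by
    intro f z; simp [inv]
  by_cases hev : Even l
  · -- involutions fixing four points
    left
    have hex : ∀ e : Fin 4 ↪ β, 1 ≤ ((inv 4).filter
        (fun z => ∀ i, z • e i = e ((1 : Equiv.Perm (Fin 4)) i))).card := by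
      intro e
      haveI : Fact (Nat.Prime 2) := ⟨Nat.prime_two⟩
      obtain ⟨k, hk⟩ := exists_prime_orderOf_dvd_card (G := stabilizer H e) 2
        (by rw [hK e]; exact even_iff_two_dvd.mp hev)
      have hk1 : (k : H) ≠ 1 := by
        intro h
        have h' : k = 1 := Subtype.ext h
        rw [h', orderOf_one] at hk
        omega
      have hk2 : (k : H) * k = 1 := by
        have h := pow_orderOf_eq_one k
        rw [hk, pow_two] at h
        simpa using congrArg Subtype.val h
      have hf : (fixF (β := β) (k : H)).card = 4 := by
        refine le_antisymm (hfix _ hk1) ?_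
        have : (Finset.univ.map e) ⊆ fixF (k : H) := by
          intro x hx
          obtain ⟨i, -, rfl⟩ := Finset.mem_map.mp hx
          exact Finset.mem_filter.mpr ⟨Finset.mem_univ _, (hmemK e _).mp k.2 i⟩
        simpa using Finset.card_le_card this
      exact Finset.card_pos.mpr ⟨k, Finset.mem_filter.mpr
        ⟨hinv.mpr ⟨hk2, hk1, hf⟩, (hmemK e _).mp k.2⟩⟩
    have h1 := hlower (inv 4) 1 1 hex
    rw [Finset.sum_const_nat (m := 24) (fun z hz => by
      have := card_pat_id (β := β) z
      rw [(hinv.mp hz).2.2] at this
      simpa [Nat.descFactorial] using this)] at h1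
    have h2 := hupper (inv 4) (Equiv.swap 0 1)
    rw [Finset.sum_const_nat (m := (n - 4) * 12) (fun z hz => by
      rw [card_pat_swap (β := β) z (hinv.mp hz).1, hmov, (hinv.mp hz).2.2])] at h2
    have h3 : n.descFactorial 4 * (n - 4) ≤ n.descFactorial 4 * (2 * l) := by
      calc n.descFactorial 4 * (n - 4) ≤ (inv 4).card * 24 * (n - 4) :=
            Nat.mul_le_mul_right _ (by simpa using h1)
        _ = 2 * ((inv 4).card * ((n - 4) * 12)) := by ring
        _ ≤ 2 * (n.descFactorial 4 * l) := Nat.mul_le_mul_left _ h2
        _ = n.descFactorial 4 * (2 * l) := by ring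
    have := Nat.le_of_mul_le_mul_left h3 hDpos
    omega
  · rw [Nat.not_even_iff_odd] at hev
    have hf3 : ∀ z : H, z * z = 1 → z ≠ 1 → (fixF (β := β) z).card ≤ 3 := by
      intro z hz hz1
      by_contra hcon
      obtain ⟨e⟩ : Nonempty (Fin 4 ↪ {x : β // x ∈ fixF z}) :=
        Function.Embedding.nonempty_of_card_le (by rw [Fintype.card_fin, Fintype.card_coe]; omega)
      let e' := e.trans (Function.Embedding.subtype _)
      have hzK : z ∈ stabilizer H e' :=
        (hmemK e' z).mpr fun i => (Finset.mem_filter.mp (e i).2).2
      have ho : orderOf (⟨z, hzK⟩ : stabilizer H e') = 2 := by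
        haveI : Fact (Nat.Prime 2) := ⟨Nat.prime_two⟩
        refine orderOf_eq_prime (Subtype.ext ?_) (fun h => hz1 (congrArg Subtype.val h))
        simpa [pow_two] using hz
      have := orderOf_dvd_card (x := (⟨z, hzK⟩ : stabilizer H e'))
      rw [ho, hK e'] at this
      exact (Nat.not_even_iff_odd.mpr hev) (even_iff_two_dvd.mpr this)
    have hpar : ∀ z : H, z * z = 1 → Even (movF (β := β) z).card := by
      intro z hz
      have h := Equiv.Perm.two_dvd_card_support (σ := (MulAction.toPerm z : Equiv.Perm β))
        (Equiv.ext fun x => by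
          show (MulAction.toPerm z ^ 2) x = x
          simp [pow_two, smul_smul, hz])
      rw [even_iff_two_dvd]
      have e : (movF (β := β) z) = Equiv.Perm.support (MulAction.toPerm z : Equiv.Perm β) := by
        ext x
        simp [movF]
      rw [e]
      exact h
    set f₀ : ℕ := if Even n then 2 else 3 with hf₀
    have hf0 : ∀ z : H, z * z = 1 → z ≠ 1 → 2 ≤ (fixF (β := β) z).card →
        (fixF (β := β) z).card = f₀ := by
      intro z hz hz1 h2
      have h3 := hf3 z hz hz1
      have hp := hpar z hz
      have := card_fix_add_mov (β := β) z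
      rw [Nat.even_iff] at hp
      rw [hf₀]
      split_ifs with hne <;> rw [Nat.even_iff] at hne <;> omega
    have hex1 : ∀ e : Fin 4 ↪ β, ∃ t : H, t ∈ inv f₀ ∧
        ∀ i, t • e i = e (Equiv.swap (0 : Fin 4) 1 i) := by
      intro e
      obtain ⟨g, hg⟩ := exists_pat h4 (Equiv.swap (0 : Fin 4) 1) e
      have hgK : g * g ∈ stabilizer H e := (hmemK e _).mpr fun i => by
        rw [mul_smul, hg, hg, Equiv.swap_apply_self]
      have hgl : (g * g) ^ l = 1 := by
        have := pow_card_eq_one (x := (⟨g * g, hgK⟩ : stabilizer H e))
        rw [hK e] at this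
        simpa using congrArg Subtype.val this
      obtain ⟨m, hm⟩ := hev
      have htpat : ∀ i, (g ^ l) • e i = e (Equiv.swap (0 : Fin 4) 1 i) := by
        intro i
        have hsq : (g * g) ^ m ∈ stabilizer H e := Subgroup.pow_mem _ hgK m
        rw [hm, pow_succ, pow_mul, pow_two, mul_smul, hg, (hmemK e _).mp hsq]
      refine ⟨g ^ l, hinv.mpr ?_, htpat⟩
      have hne : g ^ l ≠ 1 := by
        intro h
        have h0 := htpat 0
        rw [h, one_smul] at h0
        exact absurd (e.injective h0) (by decide)
      have hsq : g ^ l * g ^ l = 1 := by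
        rw [← pow_add, ← two_mul, pow_mul, pow_two, hgl]
      refine ⟨hsq, hne, hf0 _ hsq hne ?_⟩
      have : ({e 2, e 3} : Finset β) ⊆ fixF (g ^ l) := by
        intro x hx
        rcases Finset.mem_insert.mp hx with rfl | hx
        · exact Finset.mem_filter.mpr ⟨Finset.mem_univ _, htpat 2⟩
        · rw [Finset.mem_singleton] at hx
          subst hx
          exact Finset.mem_filter.mpr ⟨Finset.mem_univ _, htpat 3⟩
      refine le_trans ?_ (Finset.card_le_card this)
      rw [Finset.card_pair (fun h => absurd (e.injective h) (by decide))]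
    have hj1 : ∀ e : Fin 4 ↪ β, 1 ≤ ((inv f₀).filter
        (fun z => ∀ i, z • e i = e (Equiv.swap (0 : Fin 4) 1 i))).card := fun e =>
      let ⟨t, ht, htp⟩ := hex1 e
      Finset.card_pos.mpr ⟨t, Finset.mem_filter.mpr ⟨ht, htp⟩⟩
    have hswapsum : ∑ z ∈ inv f₀, (pat (β := β) z (Equiv.swap (0 : Fin 4) 1)).card =
        (inv f₀).card * ((n - f₀) * (f₀ * (f₀ - 1))) :=
      Finset.sum_const_nat fun z hz => by
        rw [card_pat_swap (β := β) z (hinv.mp hz).1, hmov, (hinv.mp hz).2.2]
    have hdblsum : ∀ f, ∑ z ∈ inv f,
          (pat (β := β) z dswap).card =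
        (inv f).card * ((n - f) * (n - f - 2)) := fun f =>
      Finset.sum_const_nat fun z hz => by
        rw [card_pat_double (β := β) z (hinv.mp hz).1, hmov, (hinv.mp hz).2.2]
    have hkey : ∀ j, (∀ e : Fin 4 ↪ β, j ≤ ((inv f₀).filter
        (fun z => ∀ i, z • e i = e (Equiv.swap (0 : Fin 4) 1 i))).card) →
        j * (n - f₀ - 2) ≤ f₀ * (f₀ - 1) * l := by
      intro j hj
      have h1 := hlower (inv f₀) _ j hj
      rw [hswapsum] at h1
      have h2 := hupper (inv f₀) dswap
      rw [hdblsum] at h2
      refine Nat.le_of_mul_le_mul_left ?_ hDpos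
      calc n.descFactorial 4 * (j * (n - f₀ - 2))
            = n.descFactorial 4 * j * (n - f₀ - 2) := by ring
        _ ≤ (inv f₀).card * ((n - f₀) * (f₀ * (f₀ - 1))) * (n - f₀ - 2) :=
            Nat.mul_le_mul_right _ h1
        _ = f₀ * (f₀ - 1) * ((inv f₀).card * ((n - f₀) * (n - f₀ - 2))) := by ring
        _ ≤ f₀ * (f₀ - 1) * (n.descFactorial 4 * l) := Nat.mul_le_mul_left _ h2
        _ = n.descFactorial 4 * (f₀ * (f₀ - 1) * l) := by ring
    by_cases hne : Even n
    · left
      have h := hkey 1 hj1
      have : f₀ = 2 := if_pos hne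
      rw [this] at h
      omega
    · have hf03 : f₀ = 3 := if_neg hne
      -- every element of the coset is an involution
      have hjl : ∀ e : Fin 4 ↪ β, l ≤ ((inv f₀).filter
          (fun z => ∀ i, z • e i = e (Equiv.swap (0 : Fin 4) 1 i))).card := by
        intro e
        obtain ⟨t, ht, htp⟩ := hex1 e
        obtain ⟨ht2, ht1, htf⟩ := hinv.mp ht
        have hnorm : ∀ k ∈ stabilizer H e, ∀ i,
            (k * t * k⁻¹) • e i = e (Equiv.swap (0 : Fin 4) 1 i) := by
          intro k hk i
          rw [mul_smul, mul_smul, (hmemK e _).mp (Subgroup.inv_mem _ hk), htp,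
            (hmemK e _).mp hk]
        have hcomm : ∀ k ∈ stabilizer H e, k * t = t * k → k = 1 := by
          intro k hk hkt
          by_contra hk1
          have hke := (hmemK e k).mp hk
          have ex : ∃ x ∈ fixF t, x ≠ e 2 ∧ x ≠ e 3 := by
            have hlt : 2 < (fixF (β := β) t).card := by omega
            have hne : ((fixF (β := β) t) \ {e 2, e 3}).Nonempty := by
              rw [← Finset.card_pos]
              have := Finset.le_card_sdiff {e 2, e 3} (fixF (β := β) t)
              have := Finset.card_le_two (a := e 2) (b := e 3)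
              omega
            obtain ⟨x, hx⟩ := hne
            simp at hx
            exact ⟨x, hx.1, hx.2.1, hx.2.2⟩
          obtain ⟨x, hx, hx2, hx3⟩ := ex
          have htx : t • x = x := (Finset.mem_filter.mp hx).2
          have hkx : k • x = x := by
            by_contra hkx
            have hs : ({k • x, x, e 2, e 3} : Finset β) ⊆ fixF t := by
              intro y hy
              simp only [Finset.mem_insert, Finset.mem_singleton] at hy
              refine Finset.mem_filter.mpr ⟨Finset.mem_univ _, ?_⟩
              rcases hy with rfl | rfl | rfl | rfl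
              · rw [← mul_smul, ← hkt, mul_smul, htx]
              · exact htx
              · exact htp 2
              · exact htp 3
            have := Finset.card_le_card hs
            rw [Finset.card_insert_of_notMem, Finset.card_insert_of_notMem,
              Finset.card_pair (fun h => absurd (e.injective h) (by decide))] at this
            · omega
            · simp [hx2, hx3]
            · simp only [Finset.mem_insert, Finset.mem_singleton, not_or]
              refine ⟨hkx, fun h => hx2 ?_, fun h => hx3 ?_⟩
              · exact MulAction.injective k (h.trans (hke 2).symm)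
              · exact MulAction.injective k (h.trans (hke 3).symm)
          have hxe : ∀ i, x ≠ e i := by
            intro i h
            subst h
            have h' := (htp i).symm.trans htx
            have h2 := e.injective h'
            fin_cases i
            · exact absurd h2 (by decide)
            · exact absurd h2 (by decide)
            · exact hx2 rfl
            · exact hx3 rfl
          have hsub : insert x (Finset.univ.map e) ⊆ fixF k := by
            intro y hy
            refine Finset.mem_filter.mpr ⟨Finset.mem_univ _, ?_⟩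
            rcases Finset.mem_insert.mp hy with rfl | hy
            · exact hkx
            · obtain ⟨i, -, rfl⟩ := Finset.mem_map.mp hy
              exact hke i
          have hle := Finset.card_le_card hsub
          have h4' := hfix k hk1
          rw [Finset.card_insert_of_notMem (by
            simp only [Finset.mem_map, Finset.mem_univ, true_and, not_exists]
            exact fun i h => hxe i h.symm), Finset.card_map, Finset.card_univ,
            Fintype.card_fin] at hle
          omega
        rw [← hK e, ← Finset.card_univ]
        refine Finset.card_le_card_of_injOn (fun k => (k : H) * t * (k : H)⁻¹) ?_ ?_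
        · intro k _
          refine Finset.mem_filter.mpr ⟨hinv.mpr ⟨?_, ?_, ?_⟩, hnorm k k.2⟩
          · calc (k : H) * t * (k : H)⁻¹ * ((k : H) * t * (k : H)⁻¹)
                = (k : H) * (t * t) * (k : H)⁻¹ := by group
              _ = 1 := by rw [ht2]; group
          · intro h
            exact ht1 (conj_eq_one_iff.mp h)
          · rw [← htf]
            refine Finset.card_bij (fun y _ => (k : H)⁻¹ • y) ?_ ?_ ?_
            · intro y hy
              have hy' := (Finset.mem_filter.mp hy).2
              refine Finset.mem_filter.mpr ⟨Finset.mem_univ _, ?_⟩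
              rw [mul_smul, mul_smul, smul_eq_iff_eq_inv_smul] at hy'
              exact hy'
            · intro a _ b _ h
              exact MulAction.injective _ h
            · intro y hy
              have hy' := (Finset.mem_filter.mp hy).2
              refine ⟨(k : H) • y, Finset.mem_filter.mpr ⟨Finset.mem_univ _, ?_⟩, by simp⟩
              rw [mul_smul, mul_smul, inv_smul_smul, hy']
        · intro k _ k' _ h
          simp only at h
          have h' : ((k' : H)⁻¹ * k) * t = t * ((k' : H)⁻¹ * k) := by
            calc ((k' : H)⁻¹ * k) * t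
                  = (k' : H)⁻¹ * ((k : H) * t * (k : H)⁻¹) * k := by group
              _ = (k' : H)⁻¹ * ((k' : H) * t * (k' : H)⁻¹) * k := by rw [h]
              _ = t * ((k' : H)⁻¹ * k) := by group
          have := hcomm _ (Subgroup.mul_mem _ (Subgroup.inv_mem _ k'.2) k.2) h'
          exact Subtype.ext (inv_mul_eq_one.mp this).symm
      have h := hkey l hjl
      rw [hf03] at h
      have h11 : n - 5 ≤ 6 := by
        refine Nat.le_of_mul_le_mul_left ?_ hlpos
        calc l * (n - 5) = l * (n - 3 - 2) := by rw [Nat.sub_sub]
          _ ≤ 3 * (3 - 1) * l := h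
          _ = l * 6 := by ring
      rw [Nat.not_even_iff] at hne
      by_cases hl1 : l = 1
      · subst hl1
        rcases (show n ≤ 8 ∨ n = 9 ∨ n = 11 by omega) with h8 | h9 | h'
        · exact Or.inl (by omega)
        · -- no sharply 4-transitive group of degree 9
          exfalso
          have hD9 : n.descFactorial 4 = 3024 := by rw [h9]; rfl
          have hS := le_antisymm
            (hlower (inv f₀) _ 1 hj1) (hupper (inv f₀) (Equiv.swap (0 : Fin 4) 1))
          rw [hswapsum, hD9, hf03, h9] at hS
          have hunion : ∀ e : Fin 4 ↪ β, 1 ≤ ((inv 3 ∪ inv 1).filter (fun z =>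
              ∀ i, z • e i = e (dswap i))).card := by
            intro e
            obtain ⟨g, hg⟩ := exists_pat h4 dswap e
            have hgK : g * g ∈ stabilizer H e := (hmemK e _).mpr fun i => by
              rw [mul_smul, hg, hg]
              exact congrArg e (by
                obtain ⟨v0, v1, v2, v3⟩ := dswap_vals
                fin_cases i <;> simp [v0, v1, v2, v3])
            have hg2 : g * g = 1 := by
              have := Fintype.card_le_one_iff.mp (hK e).le ⟨g * g, hgK⟩ 1
              exact congrArg Subtype.val this
            have hg1 : g ≠ 1 := by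
              intro h
              have h0 := hg 0
              rw [h, one_smul, dswap_vals.1] at h0
              exact absurd (e.injective h0) (by decide)
            refine Finset.card_pos.mpr ⟨g, Finset.mem_filter.mpr ⟨?_, hg⟩⟩
            have h3 := hf3 g hg2 hg1
            have hp := hpar g hg2
            have := card_fix_add_mov (β := β) g
            rw [Nat.even_iff] at hp
            rcases (show (fixF (β := β) g).card = 3 ∨ (fixF (β := β) g).card = 1 by omega) with
              h | h
            · exact Finset.mem_union_left _ (hinv.mpr ⟨hg2, hg1, h⟩)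
            · exact Finset.mem_union_right _ (hinv.mpr ⟨hg2, hg1, h⟩)
          have hdisj : Disjoint (inv 3) (inv 1) := Finset.disjoint_left.mpr fun z h3 h1 => by
            have := (hinv.mp h3).2.2
            have := (hinv.mp h1).2.2
            omega
          have hB2 := le_antisymm (hlower _ _ 1 hunion)
            (hupper (inv 3 ∪ inv 1) dswap)
          rw [Finset.sum_union hdisj, hdblsum, hdblsum, hD9, h9] at hB2
          have hT : (inv 1).card = 21 := by omega
          -- conjugation makes the count divisible by 9
          haveI : IsMultiplyPretransitive H β 1 :=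
            isMultiplyPretransitive_of_le (n := 4) (by omega) (by simp; omega)
          haveI : IsPretransitive H β := is_one_pretransitive_iff.mp inferInstance
          have hcard : ∀ x y : β, ((inv 1).filter (fun z => z • x = x)).card ≤
              ((inv 1).filter (fun z => z • y = y)).card := by
            intro x y
            obtain ⟨g, rfl⟩ := exists_smul_eq H x y
            refine Finset.card_le_card_of_injOn (fun z => g * z * g⁻¹) ?_ ?_
            · intro z hz
              obtain ⟨hz, hzx⟩ := Finset.mem_filter.mp hz
              obtain ⟨hz2, hz1, hzf⟩ := hinv.mp hz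
              refine Finset.mem_filter.mpr ⟨hinv.mpr ⟨?_, ?_, ?_⟩, ?_⟩
              · calc g * z * g⁻¹ * (g * z * g⁻¹) = g * (z * z) * g⁻¹ := by group
                  _ = 1 := by rw [hz2]; group
              · intro h; exact hz1 (conj_eq_one_iff.mp h)
              · rw [← hzf]
                refine Finset.card_bij (fun w _ => g⁻¹ • w) ?_ ?_ ?_
                · intro w hw
                  have hw' := (Finset.mem_filter.mp hw).2
                  refine Finset.mem_filter.mpr ⟨Finset.mem_univ _, ?_⟩
                  rw [mul_smul, mul_smul, smul_eq_iff_eq_inv_smul] at hw'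
                  exact hw'
                · intro a _ b _ h; exact MulAction.injective _ h
                · intro w hw
                  have hw' := (Finset.mem_filter.mp hw).2
                  refine ⟨g • w, Finset.mem_filter.mpr ⟨Finset.mem_univ _, ?_⟩, by simp⟩
                  rw [mul_smul, mul_smul, inv_smul_smul, hw']
              · rw [mul_smul, mul_smul, inv_smul_smul, hzx]
            · intro a _ b _ h
              simpa using h
          have hsum := Finset.sum_card_bipartiteAbove_eq_sum_card_bipartiteBelow
            (s := inv 1) (t := (Finset.univ : Finset β)) (r := fun z x => z • x = x)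
          simp only [Finset.bipartiteAbove, Finset.bipartiteBelow] at hsum
          have hone : ∀ z ∈ inv 1,
              ((Finset.univ : Finset β).filter (fun x => z • x = x)).card = 1 :=
            fun z hz => (hinv.mp hz).2.2
          rw [Finset.sum_const_nat hone, hT] at hsum
          obtain ⟨x0⟩ : Nonempty β := Fintype.card_pos_iff.mp (by omega)
          rw [Finset.sum_const_nat (m := ((inv 1).filter (fun z => z • x0 = x0)).card)
            (fun x _ => le_antisymm (hcard x x0) (hcard x0 x)), Finset.card_univ, ← hndef,
            h9] at hsum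
          omega
        · exact Or.inr ⟨rfl, h'⟩
      · left
        have : 3 ≤ l := by
          rcases hev with ⟨m, rfl⟩
          omega
        omega

end Four

/-- degree bound for `k`-transitive groups with trivial `(k+1)`-point stabilisers -/
theorem degree_bound : ∀ (k : ℕ), 4 ≤ k → ∀ (H β : Type*) [Group H] [MulAction H β] [Finite H]
    [Finite β], IsMultiplyPretransitive H β k →
    (∀ (g : H) (e : Fin (k + 1) ↪ β), g • e = e → g = 1) → ∀ l : ℕ,
    Nat.card H = (Nat.card β).descFactorial k * l → k < Nat.card β →
    Nat.card β ≤ 4 * l + k ∨ (l = 1 ∧ Nat.card β = k + 7) := by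
  intro k hk
  induction k, hk using Nat.le_induction with
  | base =>
    intro H β _ _ _ _ h4 hB l hl hn
    classical
    have := Fintype.ofFinite H
    have := Fintype.ofFinite β
    rw [Nat.card_eq_fintype_card, Nat.card_eq_fintype_card] at hl
    rw [Nat.card_eq_fintype_card] at hn ⊢
    exact four_bound h4 hB l hl hn
  | succ k hk ih =>
    intro H β _ _ _ _ hkt hB l hl hn
    classical
    haveI : IsPretransitive H β := by
      haveI : IsMultiplyPretransitive H β 2 :=
        isMultiplyPretransitive_of_le (n := k + 1) (by omega) (by omega)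
      exact isPretransitive_of_is_two_pretransitive
    obtain ⟨a⟩ : Nonempty β := (Nat.card_pos_iff.mp (by omega)).1
    have hk' : IsMultiplyPretransitive (stabilizer H a) (SubMulAction.ofStabilizer H a) k :=
      SubMulAction.ofStabilizer.isMultiplyPretransitive.mp hkt
    have hc : Nat.card β = Nat.card (SubMulAction.ofStabilizer H a) + 1 := by
      have h := Set.ncard_compl ({a} : Set β)
      rw [Set.ncard_singleton] at h
      have e : Nat.card (SubMulAction.ofStabilizer H a) = ({a}ᶜ : Set β).ncard :=
        Nat.card_coe_set_eq _
      omega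
    have hidx : Nat.card (stabilizer H a) * Nat.card β = Nat.card H := by
      have h := Subgroup.card_mul_index (stabilizer H a)
      rwa [MulAction.index_stabilizer_of_transitive] at h
    have hpos : 0 < Nat.card β := by omega
    have hl' : Nat.card (stabilizer H a) =
        (Nat.card (SubMulAction.ofStabilizer H a)).descFactorial k * l := by
      refine Nat.eq_of_mul_eq_mul_right hpos ?_
      rw [hidx, hl, hc, Nat.succ_descFactorial_succ]
      ring
    have := ih (stabilizer H a) (SubMulAction.ofStabilizer H a) hk' (fun g e he => by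
      refine Subtype.ext (hB (g : H) (SubMulAction.ofStabilizer.snoc e) ?_)
      ext i
      refine Fin.lastCases ?_ (fun j => ?_) i
      · rw [Function.Embedding.smul_apply, SubMulAction.ofStabilizer.snoc_last]
        exact g.2
      · rw [Function.Embedding.smul_apply, SubMulAction.ofStabilizer.snoc_castSucc]
        exact congrArg Subtype.val (DFunLike.congr_fun he j)) l hl' (by omega)
    omega

/-- a simple group acting on a set with fewer points than the bound has only trivial orbits -/
theorem exists_fixed_point {A X : Type*} [Group A] [Finite A] [IsSimpleGroup A] [Finite X]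
    [Nonempty X] (φ : A →* Equiv.Perm X) (m : ℕ) (hm : ∀ q < m, q.factorial < Nat.card A)
    (h7 : Nat.card X < m ∨ (Nat.card X < 2 * m ∧ ¬ Nat.card X ∣ Nat.card A)) :
    ∃ x : X, ∀ a : A, φ a x = x := by
  classical
  letI : MulAction A X := MulAction.compHom X φ
  by_contra hcon
  push Not at hcon
  have horb : ∀ x : X, m ≤ Nat.card (orbit A x) := by
    intro x
    by_contra hlt
    push Not at hlt
    set ψ := MulAction.toPermHom A (orbit A x) with hψ
    rcases (MonoidHom.normal_ker ψ).eq_bot_or_eq_top with hb | ht
    · have hinj : Function.Injective ψ := (MonoidHom.ker_eq_bot_iff ψ).mp hb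
      have hle := Nat.card_le_card_of_injective ψ hinj
      rw [Nat.card_perm] at hle
      have := hm _ hlt
      omega
    · obtain ⟨a, ha⟩ := hcon x
      apply ha
      have hmem : a ∈ ψ.ker := by rw [ht]; trivial
      have h := congrArg (fun σ : Equiv.Perm (orbit A x) =>
        ((σ ⟨x, mem_orbit_self x⟩ : orbit A x) : X)) (MonoidHom.mem_ker.mp hmem)
      exact h
  obtain ⟨x⟩ : Nonempty X := inferInstance
  rcases h7 with h | ⟨h2, hnd⟩
  · have : Nat.card (orbit A x) ≤ Nat.card X :=
      Nat.card_le_card_of_injective _ Subtype.val_injective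
    have := horb x
    omega
  · apply hnd
    have hall : orbit A x = Set.univ := by
      by_contra hne
      obtain ⟨y, hy⟩ := (Set.ne_univ_iff_exists_notMem _).mp hne
      have hd : Disjoint (orbit A x) (orbit A y) := by
        rw [Set.disjoint_left]
        intro z hzx hzy
        exact hy (orbit_eq_iff.mp ((orbit_eq_iff.mpr hzy).symm.trans (orbit_eq_iff.mpr hzx)))
      have := Set.ncard_union_eq hd
      have hle := Set.ncard_le_card (orbit A x ∪ orbit A y)
      have h1 := horb x
      have h2' := horb y
      rw [Nat.card_coe_set_eq] at h1 h2'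
      omega
    have hsd := Nat.card_congr (MulAction.orbitEquivQuotientStabilizer A x)
    rw [hall, Nat.card_congr (Equiv.Set.univ X)] at hsd
    rw [hsd]
    exact Subgroup.index_dvd_card _

end

end Cfsg.Agent.KTransAlt59
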