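import Mathlib
import Cfsg.Prelude.Def_Characters
import Cfsg.Agent.Lib.CharBasicDecomp
import Cfsg.Agent.Lib.BlockContribPrime

/-!
Class functions with algebraic integral inner products, and a counting lemma for cyclotomic numbers.
-/

set_option autoImplicit false
set_option linter.unusedSectionVars false

open Cfsg Cfsg.Agent.CharBasic Cfsg.Agent.CharBasicOrth Cfsg.Agent.CharBasicDecomp
open scoped ComplexConjugate

namespace Cfsg.Agent.KnorrBase81

universe u v

variable {H : Type u} [Group H] [Fintype H]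

/-- All inner products with characters are algebraic integers. -/
def IntFun (f : H → ℂ) : Prop :=
  IsClassFunction H f ∧ ∀ χ : H → ℂ, IsCharacter H χ →
    IsIntegral ℤ ((Nat.card H : ℂ)⁻¹ * ∑ h, f h * χ h)

theorem intFun_char {θ : H → ℂ} (hθ : IsCharacter H θ) : IntFun θ := by
  refine ⟨isClassFunction_of_isCharacter hθ, fun χ hχ => ?_⟩
  obtain ⟨n, hn⟩ := classInner_isGeneralizedCharacter (isGeneralizedCharacter_of_isCharacter
    (isCharacter_mul hθ hχ)) (isGeneralizedCharacter_of_isCharacter (isCharacter_one (G := H)))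
  have h1 : (Nat.card H : ℂ)⁻¹ * ∑ h, θ h * χ h = n := by
    rw [← hn]; simp [classInner]
  rw [h1]
  exact isIntegral_algebraMap (x := n)

theorem intFun_smul {f : H → ℂ} (hf : IntFun f) {c : ℂ} (hc : IsIntegral ℤ c) :
    IntFun (fun h => c * f h) := by
  refine ⟨fun g h => by simp [hf.1 g h], fun χ hχ => ?_⟩
  have h := hc.mul (hf.2 χ hχ)
  have e : (Nat.card H : ℂ)⁻¹ * ∑ x, c * f x * χ x = c * ((Nat.card H : ℂ)⁻¹ * ∑ x, f x * χ x) := by
    simp only [Finset.mul_sum]
    exact Finset.sum_congr rfl fun x _ => by ring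
  rw [e]
  exact h

theorem intFun_mul {f g : H → ℂ} (hf : IntFun f) (hg : IntFun g) :
    IntFun (fun h => f h * g h) := by
  refine ⟨fun a b => by simp [hf.1 a b, hg.1 a b], fun χ hχ => ?_⟩
  have hexp := eq_sum_classInner hg.1
  have h1 : (Nat.card H : ℂ)⁻¹ * ∑ h, f h * g h * χ h =
      ∑ ψ : IrrCharacter H, classInner g (ψ : H → ℂ) *
        ((Nat.card H : ℂ)⁻¹ * ∑ h, f h * ((ψ : H → ℂ) h * χ h)) := by
    simp only [Finset.mul_sum]
    rw [Finset.sum_comm]
    refine Finset.sum_congr rfl fun h _ => ?_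
    conv_lhs => rw [hexp]
    simp only [Finset.sum_apply, Pi.smul_apply, smul_eq_mul, Finset.sum_mul, Finset.mul_sum]
    exact Finset.sum_congr rfl fun ψ _ => by ring
  rw [h1]
  refine IsIntegral.sum _ fun ψ _ => IsIntegral.mul ?_
    (hf.2 _ (isCharacter_mul (isCharacter_of_isIrrCharacter ψ.2) hχ))
  have := hg.2 _ (isCharacter_conj (isCharacter_of_isIrrCharacter ψ.2))
  simpa [classInner] using this

theorem intFun_pow {f : H → ℂ} (hf : IntFun f) : ∀ k : ℕ, IntFun (fun h => f h ^ k)
  | 0 => by simpa using intFun_char (isCharacter_one (G := H))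
  | k + 1 => by simpa [pow_succ] using intFun_mul (intFun_pow hf k) hf

/-- Congruence modulo the group order preserves integrality. -/
theorem intFun_congr {f g : H → ℂ} (hg : IntFun g) (hfc : IsClassFunction H f)
    (h : ∀ x, ∃ z, IsIntegral ℤ z ∧ f x = g x + Nat.card H * z) : IntFun f := by
  refine ⟨hfc, fun χ hχ => ?_⟩
  choose z hz hfz using h
  have h0 : (Nat.card H : ℂ) ≠ 0 := Nat.cast_ne_zero.2 Nat.card_pos.ne'
  have h1 : (Nat.card H : ℂ)⁻¹ * ∑ x, f x * χ x =
      (Nat.card H : ℂ)⁻¹ * ∑ x, g x * χ x + ∑ x, z x * χ x := by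
    simp only [hfz, add_mul, Finset.sum_add_distrib, mul_add, mul_assoc, ← Finset.mul_sum]
    rw [inv_mul_cancel_left₀ h0]
  rw [h1]
  exact (hg.2 χ hχ).add (IsIntegral.sum _ fun x _ => (hz x).mul (isCharacter_integral hχ x))

/-- A weighted permutation character. -/
theorem intFun_perm {α : Type v} [Fintype α] [DecidableEq α] [MulAction H α] (w : α → ℂ)
    (hw : ∀ (h : H) (a : α), w (h • a) = w a) (hint : ∀ a, IsIntegral ℤ (w a)) :
    IntFun (fun h : H => ∑ a, if h • a = a then w a else 0) := by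
  classical
  refine ⟨fun g h => ?_, fun χ hχ => ?_⟩
  · refine (Fintype.sum_equiv (MulAction.toPerm h⁻¹) _ _ fun a => ?_)
    simp only [MulAction.toPerm_apply, hw]
    refine if_congr ?_ rfl rfl
    rw [mul_smul, mul_smul, smul_eq_iff_eq_inv_smul]
  · have hcl := isClassFunction_of_isCharacter hχ
    let F : α → ℂ := fun a => w a * ∑ h : H, if h • a = a then χ h else 0
    have h1 : ∑ h : H, (∑ a, if h • a = a then w a else 0) * χ h = ∑ a, F a := by
      simp only [F, Finset.sum_mul, Finset.mul_sum]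
      rw [Finset.sum_comm]
      refine Finset.sum_congr rfl fun a _ => Finset.sum_congr rfl fun h _ => ?_
      split_ifs <;> simp
    rw [h1]
    have hF : ∀ (g : H) (a : α), F (g • a) = F a := by
      intro g a
      simp only [F, hw]
      congr 1
      refine Fintype.sum_equiv (MulAut.conj g⁻¹).toEquiv _ _ fun h => ?_
      simp only [MulEquiv.toEquiv_eq_coe, EquivLike.coe_coe, MulAut.conj_apply, inv_inv]
      refine if_congr ?_ ?_ rfl
      · rw [mul_smul, mul_smul, inv_smul_eq_iff]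
      · have := hcl h g⁻¹
        simpa using this.symm
    rw [← (MulAction.selfEquivSigmaOrbits H α).symm.sum_comp, Fintype.sum_sigma, Finset.mul_sum]
    refine IsIntegral.sum _ fun o _ => ?_
    set a := o.out with ha
    have hcon : ∀ x : MulAction.orbit H o.out,
        F ((MulAction.selfEquivSigmaOrbits H α).symm ⟨o, x⟩) = F a := by
      rintro ⟨x, g, rfl⟩
      exact hF g a
    rw [Finset.sum_congr rfl fun x _ => hcon x, Finset.sum_const, Finset.card_univ, nsmul_eq_mul,
      ← Nat.card_eq_fintype_card]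
    have hcard : Nat.card (MulAction.orbit H a) * Nat.card (MulAction.stabilizer H a) = Nat.card H := by
      rw [← Nat.card_prod]
      exact Nat.card_congr (MulAction.orbitProdStabilizerEquivGroup H a)
    have hs : ∑ h : H, (if h • a = a then χ h else 0) =
        ∑ s : MulAction.stabilizer H a, χ s := by
      rw [← Finset.sum_filter]
      exact Finset.sum_subtype _ (by simp [MulAction.mem_stabilizer_iff]) _
    obtain ⟨n, hn⟩ := classInner_isGeneralizedCharacter (isGeneralizedCharacter_of_isCharacter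
      (isCharacter_comap (MulAction.stabilizer H a).subtype hχ))
      (isGeneralizedCharacter_of_isCharacter (isCharacter_one (G := MulAction.stabilizer H a)))
    have hn' : (Nat.card (MulAction.stabilizer H a) : ℂ)⁻¹ *
        ∑ s : MulAction.stabilizer H a, χ s = n := by
      rw [← hn]; simp [classInner]
    have h2 : (Nat.card H : ℂ)⁻¹ * ((Nat.card (MulAction.orbit H a) : ℂ) * F a) = w a * n := by
      simp only [F, hs, ← hn', ← hcard, Nat.cast_mul, mul_inv]
      have ho : (Nat.card (MulAction.orbit H a) : ℂ) ≠ 0 := by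
        haveI : Nonempty (MulAction.orbit H a) := ⟨⟨a, MulAction.mem_orbit_self a⟩⟩
        exact Nat.cast_ne_zero.2 Nat.card_pos.ne'
      field_simp
    rw [h2]
    exact (hint a).mul (isIntegral_algebraMap (x := n))

/-- The field generated by the `N`-th roots of unity. -/
noncomputable def cyclo (N : ℕ) : IntermediateField ℚ ℂ :=
  IntermediateField.adjoin ℚ {z : ℂ | z ^ N = 1}

theorem root_mem {N : ℕ} {z : ℂ} {m : ℕ} (hz : z ^ m = 1) (hm : m ∣ N) : z ∈ cyclo N := by
  obtain ⟨k, rfl⟩ := hm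
  exact IntermediateField.subset_adjoin ℚ _ (by show z ^ (m * k) = 1; rw [pow_mul, hz, one_pow])

theorem char_mem {N : ℕ} {G : Type v} [Group G] [Finite G] (hG : Nat.card G ∣ N) {χ : G → ℂ}
    (hχ : IsCharacter G χ) (g : G) : χ g ∈ cyclo N := by
  obtain ⟨n, ρ, rfl⟩ := hχ
  obtain ⟨b, μ, -, hμ, -, hpow⟩ := exists_rep_eigenbasis ρ g
  have h1 : ρ.character g = ∑ i, μ i := by simpa using hpow 1
  rw [h1]
  exact sum_mem fun i _ => root_mem (hμ i) ((orderOf_dvd_natCard g).trans hG)

theorem conj_mem {N : ℕ} (hN : 0 < N) {z : ℂ} (hz : z ∈ cyclo N) : conj z ∈ cyclo N := by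
  induction hz using IntermediateField.adjoin_induction with
  | mem x hx =>
    refine IntermediateField.subset_adjoin ℚ _ ?_
    show conj x ^ N = 1
    rw [← map_pow, show x ^ N = 1 from hx, map_one]
  | algebraMap x => simpa using (cyclo N).algebraMap_mem x
  | add x y _ _ hx hy => rw [map_add]; exact add_mem hx hy
  | inv x _ hx => rw [map_inv₀]; exact inv_mem hx
  | mul x y _ _ hx hy => rw [map_mul]; exact mul_mem hx hy

/-- Nonzero cyclotomic integers whose squared absolute values add up to a rational `q` number at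
most `q`. -/
theorem card_le_of_cyclo {N : ℕ} (hN : 0 < N) {ι : Type*} [Fintype ι] (a : ι → ℂ)
    (hint : ∀ i, IsIntegral ℤ (a i)) (hne : ∀ i, a i ≠ 0) (hmem : ∀ i, a i ∈ cyclo N) (q : ℚ)
    (hsum : ∑ i, a i * conj (a i) = (q : ℂ)) : (Fintype.card ι : ℝ) ≤ q := by
  classical
  have hfin : Set.Finite {z : ℂ | z ^ N = 1} := by
    refine Set.Finite.subset (Polynomial.nthRootsFinset N (1 : ℂ)).finite_toSet fun z hz => ?_
    simpa [Polynomial.mem_nthRootsFinset hN] using hz
  haveI : Finite {z : ℂ | z ^ N = 1} := hfin.to_subtype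
  haveI : FiniteDimensional ℚ (cyclo N) := IntermediateField.finiteDimensional_adjoin
    fun z (hz : z ^ N = 1) => IsIntegral.of_pow hN (by rw [hz]; exact isIntegral_one)
  let x : ι → cyclo N := fun i => ⟨a i * conj (a i), mul_mem (hmem i) (conj_mem hN (hmem i))⟩
  have hconj : ∀ (σ : cyclo N →ₐ[ℚ] ℂ) (z : ℂ) (hz : z ∈ cyclo N),
      σ ⟨conj z, conj_mem hN hz⟩ = conj (σ ⟨z, hz⟩) := by
    intro σ z hz
    induction hz using IntermediateField.adjoin_induction with
    | mem y hy =>
      have hy' : y ∈ cyclo N := IntermediateField.subset_adjoin ℚ _ hy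
      have hyN : y ^ N = 1 := hy
      have hy1 : ‖y‖ = 1 := Complex.norm_eq_one_of_pow_eq_one hyN hN.ne'
      have h1 : (⟨conj y, conj_mem hN hy'⟩ : cyclo N) = (⟨y, hy'⟩ : cyclo N)⁻¹ :=
        Subtype.ext (Complex.inv_eq_conj hy1).symm
      have h2 : σ ⟨y, hy'⟩ ^ N = 1 := by
        rw [← map_pow, show (⟨y, hy'⟩ : cyclo N) ^ N = 1 from Subtype.ext hyN, map_one]
      rw [h1, map_inv₀, Complex.inv_eq_conj (Complex.norm_eq_one_of_pow_eq_one h2 hN.ne')]
    | algebraMap r =>
      have e : (⟨conj (algebraMap ℚ ℂ r), conj_mem hN ((cyclo N).algebraMap_mem r)⟩ : cyclo N) =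
          algebraMap ℚ (cyclo N) r := Subtype.ext (by simp)
      rw [e]
      show _ = conj (σ (algebraMap ℚ (cyclo N) r))
      simp
    | add y y' hy hy' ih ih' =>
      have e : (⟨conj (y + y'), conj_mem hN (add_mem hy hy')⟩ : cyclo N) =
          ⟨conj y, conj_mem hN hy⟩ + ⟨conj y', conj_mem hN hy'⟩ := Subtype.ext (by simp)
      rw [e, map_add, ih, ih', ← map_add, ← map_add]
      rfl
    | inv y hy ih =>
      have e : (⟨conj y⁻¹, conj_mem hN (inv_mem hy)⟩ : cyclo N) =
          (⟨conj y, conj_mem hN hy⟩ : cyclo N)⁻¹ := Subtype.ext (by simp)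
      rw [e, map_inv₀, ih, ← map_inv₀, ← map_inv₀]
      rfl
    | mul y y' hy hy' ih ih' =>
      have e : (⟨conj (y * y'), conj_mem hN (mul_mem hy hy')⟩ : cyclo N) =
          ⟨conj y, conj_mem hN hy⟩ * ⟨conj y', conj_mem hN hy'⟩ := Subtype.ext (by simp)
      rw [e, map_mul, ih, ih', ← map_mul, ← map_mul]
      rfl
  have hre : ∀ (σ : cyclo N →ₐ[ℚ] ℂ) (i : ι),
      σ (x i) = ((‖σ ⟨a i, hmem i⟩‖ ^ 2 : ℝ) : ℂ) := by
    intro σ i
    have e : x i = (⟨a i, hmem i⟩ : cyclo N) * ⟨conj (a i), conj_mem hN (hmem i)⟩ := Subtype.ext rfl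
    rw [e, map_mul, hconj σ (a i) (hmem i), Complex.mul_conj', Complex.ofReal_pow]
  let r : ι → (cyclo N →ₐ[ℚ] ℂ) → ℝ := fun i σ => ‖σ ⟨a i, hmem i⟩‖ ^ 2
  set d := Fintype.card (cyclo N →ₐ[ℚ] ℂ) with hd
  have hd0 : 0 < d := Fintype.card_pos_iff.2 ⟨(cyclo N).val⟩
  have hlow : ∀ i, (d : ℝ) ≤ ∑ σ, r i σ := by
    intro i
    have hpos : ∀ σ, 0 < r i σ := fun σ => by
      refine pow_pos (norm_pos_iff.2 fun h => hne i ?_) 2
      have := (map_eq_zero σ).1 h
      exact congrArg Subtype.val this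
    have hprod : ((∏ σ, r i σ : ℝ) : ℂ) = algebraMap ℚ ℂ (Algebra.norm ℚ (x i)) := by
      rw [Algebra.norm_eq_prod_embeddings ℚ ℂ, Complex.ofReal_prod]
      exact Finset.prod_congr rfl fun σ _ => (hre σ i).symm
    have hxi : IsIntegral ℤ (x i) := by
      rw [← isIntegral_algebraMap_iff (algebraMap (cyclo N) ℂ).injective]
      exact (hint i).mul ((hint i).map (Complex.conjAe.toAlgHom.restrictScalars ℤ))
    obtain ⟨z, hz⟩ := IsIntegrallyClosed.isIntegral_iff.1 (Algebra.isIntegral_norm ℚ hxi)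
    have hP : ∏ σ, r i σ = (z : ℝ) := by
      apply Complex.ofReal_injective
      rw [hprod, ← hz]; simp
    have hone : (1 : ℝ) ≤ ∏ σ, r i σ := by
      have hp := Finset.prod_pos (s := Finset.univ) fun σ _ => hpos σ
      rw [hP] at hp ⊢
      exact_mod_cast (show (0 : ℤ) < z from by exact_mod_cast hp)
    have hw : ∑ _σ : cyclo N →ₐ[ℚ] ℂ, (1 / (d : ℝ)) = 1 := by
      rw [Finset.sum_const, nsmul_eq_mul, Finset.card_univ, ← hd, mul_one_div, div_self]
      exact_mod_cast hd0.ne'
    have h2 := Real.geom_mean_le_arith_mean_weighted Finset.univ (fun _ => 1 / (d : ℝ))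
      (fun σ => r i σ) (fun _ _ => by positivity) hw (fun σ _ => (hpos σ).le)
    have h3 : (1 : ℝ) ≤ ∏ σ, r i σ ^ (1 / (d : ℝ)) := by
      rw [Real.finsetProd_rpow _ _ (fun σ _ => (hpos σ).le)]
      exact Real.one_le_rpow hone (by positivity)
    have h4 := h3.trans h2
    rwa [← Finset.mul_sum, one_div, inv_mul_eq_div, le_div_iff₀ (by exact_mod_cast hd0),
      one_mul] at h4
  have htot : ∀ σ : cyclo N →ₐ[ℚ] ℂ, ∑ i, r i σ = (q : ℝ) := by
    intro σ
    apply Complex.ofReal_injective
    rw [Complex.ofReal_sum, Finset.sum_congr rfl fun i _ => (hre σ i).symm, ← map_sum]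
    have e : ∑ i, x i = algebraMap ℚ (cyclo N) q := by
      apply Subtype.ext
      rw [IntermediateField.coe_sum]
      simpa [x] using hsum
    rw [e, σ.commutes]; simp
  have h := Finset.sum_le_sum (s := Finset.univ) fun i _ => hlow i
  rw [Finset.sum_comm, Finset.sum_congr rfl fun σ _ => htot σ, Finset.sum_const, Finset.sum_const,
    nsmul_eq_mul, nsmul_eq_mul, Finset.card_univ, Finset.card_univ, ← hd, mul_comm (d : ℝ)] at h
  exact le_of_mul_le_mul_right h (by exact_mod_cast hd0)

end Cfsg.Agent.KnorrBase81
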