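import Mathlib
import Cfsg.Agent.S4574
import Cfsg.Agent.Lib.DegreeDvd
import Cfsg.Agent.Lib.BrauerBlocksVal
import Cfsg.Agent.Lib.ZStarCount

/-!
# Knörr's bound for groups with an abelian normal Sylow subgroup
-/

set_option autoImplicit false

namespace Cfsg.Agent.KnorrBound

open Cfsg Cfsg.Agent.CharBasic Cfsg.Agent.CharBasicCyclic
open scoped ComplexConjugate

universe u

variable {X : Type u} [Group X] [Finite X] {p : ℕ}

theorem apply_ne_zero (hp : p.Prime) {χ : X → ℂ} (hχ : IsCharacter X χ) {d : ℕ}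
    (hd : χ 1 = d) (hpd : ¬ p ∣ d) {v : X} {k : ℕ} (hv : v ^ p ^ k = 1) : χ v ≠ 0 := by
  classical
  obtain ⟨M, hM⟩ := ZStarCount.exists_isPModular p hp
  set Z := Subgroup.zpowers v
  have := Fintype.ofFinite Z
  obtain ⟨m, -, hm⟩ := CharBasicDecomp.exists_mult (isCharacter_comap Z.subtype hχ)
  set a : Z := ⟨v, Subgroup.mem_zpowers v⟩
  have hcomm : ∀ x y : Z, x * y = y * x := fun x y => Std.Commutative.comm x y
  have hβ : ∀ β : IrrCharacter Z, BrauerBlocksVal.Sm M ((β : Z → ℂ) a - (β : Z → ℂ) 1) := by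
    intro β
    obtain ⟨h1, h2⟩ := DegreeDvd.irr_comm_hom hcomm β.2
    let f : Z →* ℂ := MonoidHom.mk ⟨(β : Z → ℂ), h1⟩ h2
    rw [h1]
    refine BrauerBlocksVal.sm_sub_one_of_pow_pPow hM k ?_
    show f a ^ p ^ k = 1
    rw [← map_pow, show a ^ p ^ k = 1 from Subtype.ext hv, map_one]
  intro h0
  have h1 : BrauerBlocksVal.Sm M (∑ β : IrrCharacter Z, (m β : ℂ) * ((β : Z → ℂ) a - (β : Z → ℂ) 1)) :=
    BrauerBlocksVal.sm_sum _ fun β _ => (hβ β).mul_left (BrauerBlocksVal.int'_natCast _)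
  have e : ∀ x : Z, χ x = ∑ β : IrrCharacter Z, (m β : ℂ) * (β : Z → ℂ) x := fun x => by
    simpa [Finset.sum_apply] using congrFun hm x
  simp only [mul_sub, Finset.sum_sub_distrib, ← e] at h1
  rw [show ((a : Z) : X) = v from rfl, h0, show ((1 : Z) : X) = 1 from rfl, hd, zero_sub,
    BrauerBlocksVal.sm_neg_iff] at h1
  exact BrauerBlocksVal.not_sm_natCast_of_coprime hM hpd h1

theorem bound (hp : p.Prime) (V : Subgroup X) [V.Normal] (hVp : IsPGroup p V)
    (hidx : ¬ p ∣ V.index) (hab : ∀ a ∈ V, ∀ b ∈ V, a * b = b * a) (G : Subgroup X)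
    (hGV : Subgroup.IsComplement' V G) (v : X) (hv : v ∈ V) :
    Nat.card (ConjClasses X) + Nat.card G ≤
      Nat.card ↥(G ⊓ Subgroup.centralizer ({v} : Set X)) * Nat.card V + Nat.card (ConjClasses G) := by
  classical
  have := Fintype.ofFinite X
  -- the projection onto the complement
  let j : G →* X ⧸ V := (QuotientGroup.mk' V).comp G.subtype
  have hj : Function.Bijective j := by
    refine ⟨(injective_iff_map_eq_one j).2 fun g hg => ?_, fun q => ?_⟩
    · have h1 : (g : X) ∈ V ⊓ G := ⟨(QuotientGroup.eq_one_iff _).1 hg, g.2⟩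
      rw [disjoint_iff.1 hGV.disjoint, Subgroup.mem_bot] at h1
      exact Subtype.ext h1
    · obtain ⟨x, rfl⟩ := QuotientGroup.mk'_surjective V q
      obtain ⟨⟨⟨a, ha⟩, g⟩, h⟩ := hGV.2 x
      refine ⟨g, ?_⟩
      simp only at h
      show (QuotientGroup.mk' V) (g : X) = QuotientGroup.mk' V x
      rw [← h, map_mul, show QuotientGroup.mk' V a = 1 from (QuotientGroup.eq_one_iff a).2 ha, one_mul]
  let e := MulEquiv.ofBijective j hj
  let π : X →* G := e.symm.toMonoidHom.comp (QuotientGroup.mk' V)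
  have hπs : Function.Surjective π := e.symm.surjective.comp (QuotientGroup.mk'_surjective V)
  have hπV : ∀ a ∈ V, π a = 1 := fun a ha => by
    show e.symm (QuotientGroup.mk' V a) = 1
    rw [show QuotientGroup.mk' V a = 1 from (QuotientGroup.eq_one_iff a).2 ha, map_one]
  let ι : IrrCharacter G → IrrCharacter X := fun θ =>
    ⟨(θ : G → ℂ) ∘ π, isIrrCharacter_comap π hπs θ.2⟩
  have hι : Function.Injective ι := fun θ θ' h => Subtype.ext (funext fun g => by
    obtain ⟨x, rfl⟩ := hπs g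
    exact congrFun (congrArg Subtype.val h) x)
  -- orders and values
  have : Fact p.Prime := ⟨hp⟩
  obtain ⟨k, hk⟩ := (IsPGroup.iff_orderOf.1 hVp) ⟨v, hv⟩
  rw [Subgroup.orderOf_mk] at hk
  have hne : ∀ χ : IrrCharacter X, (χ : X → ℂ) v ≠ 0 := by
    intro χ
    obtain ⟨d, -, hd, hdvd⟩ := DegreeDvd.degree_dvd_index_abelian χ.2 V
      (fun a b => Subtype.ext (hab a a.2 b b.2))
    exact apply_ne_zero hp (isCharacter_of_isIrrCharacter χ.2) hd
      (fun h => hidx (h.trans hdvd)) (by rw [← hk]; exact pow_orderOf_eq_one v)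
  set Γ := gens (Subgroup.zpowers v) with hΓ
  have hΓV : ∀ a ∈ Γ, a ∈ V ∧
      Nat.card (Subgroup.centralizer ({a} : Set X)) = Nat.card (Subgroup.centralizer ({v} : Set X)) := by
    intro a ha
    have hz := mem_gens.1 ha
    refine ⟨(Subgroup.zpowers_le.2 hv) (hz ▸ Subgroup.mem_zpowers a), ?_⟩
    rw [Subgroup.centralizer_eq_comap_stabilizer, Subgroup.centralizer_eq_comap_stabilizer]
    rw [← Subgroup.centralizer_eq_comap_stabilizer, ← Subgroup.centralizer_eq_comap_stabilizer,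
      ← Subgroup.centralizer_closure, ← Subgroup.zpowers_eq_closure, hz,
      Subgroup.zpowers_eq_closure, Subgroup.centralizer_closure]
  have hcol : ∀ a ∈ Γ, ∑ χ : IrrCharacter X, ‖(χ : X → ℂ) a‖ ^ 2 =
      (Nat.card (Subgroup.centralizer ({v} : Set X)) : ℝ) := by
    intro a ha
    have h := CharBasicOrth.sum_irr_mul_conj a a
    rw [if_pos (IsConj.refl a), (hΓV a ha).2] at h
    have h2 := congrArg Complex.re h
    simp only [Complex.re_sum, Complex.natCast_re, Complex.mul_conj, Complex.ofReal_re,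
      Complex.normSq_eq_norm_sq] at h2
    exact h2
  set T := Finset.univ.image ι with hT
  have hTa : ∀ a ∈ Γ, ∑ χ ∈ T, ‖(χ : X → ℂ) a‖ ^ 2 = (Nat.card G : ℝ) := by
    intro a ha
    rw [hT, Finset.sum_image hι.injOn]
    have := Fintype.ofFinite G
    rw [← Complex.ofReal_inj, Complex.ofReal_natCast, ← CharBasicOrth.sum_sq_apply_one (G := G),
      Complex.ofReal_sum]
    refine Finset.sum_congr rfl fun θ _ => ?_
    obtain ⟨n, -, hn⟩ := isIrrCharacter_apply_one θ.2
    show ((‖(θ : G → ℂ) (π a)‖ ^ 2 : ℝ) : ℂ) = _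
    rw [hπV a (hΓV a ha).1, hn, Complex.norm_natCast]
    push_cast; rfl
  have hsum : (Γ.card : ℝ) * (Finset.univ \ T).card ≤
      (Γ.card : ℝ) * ((Nat.card (Subgroup.centralizer ({v} : Set X)) : ℝ) - Nat.card G) := by
    calc (Γ.card : ℝ) * (Finset.univ \ T).card
        = ∑ _χ ∈ Finset.univ \ T, (Γ.card : ℝ) := by
          rw [Finset.sum_const, nsmul_eq_mul, mul_comm]
      _ ≤ ∑ χ ∈ Finset.univ \ T, ∑ a ∈ Γ, ‖(χ : X → ℂ) a‖ ^ 2 :=
          Finset.sum_le_sum fun χ _ =>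
            S4574.sum_gens_ge v (isCharacter_of_isIrrCharacter χ.2) (hne χ)
      _ = ∑ a ∈ Γ, ∑ χ ∈ Finset.univ \ T, ‖(χ : X → ℂ) a‖ ^ 2 := Finset.sum_comm
      _ = ∑ a ∈ Γ, ((Nat.card (Subgroup.centralizer ({v} : Set X)) : ℝ) - Nat.card G) := by
          refine Finset.sum_congr rfl fun a ha => ?_
          rw [← hcol a ha, ← hTa a ha, Finset.sum_sdiff_eq_sub (Finset.subset_univ T)]
      _ = _ := by rw [Finset.sum_const, nsmul_eq_mul]
  have hΓpos : (0 : ℝ) < Γ.card :=
    Nat.cast_pos.2 (Finset.card_pos.2 ⟨v, mem_gens.2 rfl⟩)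
  have h1 := le_of_mul_le_mul_left hsum hΓpos
  have h2 : (Finset.univ \ T).card + Nat.card (ConjClasses G) = Nat.card (ConjClasses X) := by
    have hTc : T.card = Nat.card (ConjClasses G) := by
      rw [hT, Finset.card_image_of_injective _ hι, Finset.card_univ, ← Nat.card_eq_fintype_card,
        CharBasicOrth.card_irrCharacter]
    rw [← hTc, Finset.card_sdiff_add_card_eq_card (Finset.subset_univ T), Finset.card_univ,
      ← Nat.card_eq_fintype_card, CharBasicOrth.card_irrCharacter]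
  have hC : Nat.card (Subgroup.centralizer ({v} : Set X)) =
      Nat.card ↥(G ⊓ Subgroup.centralizer ({v} : Set X)) * Nat.card V := by
    set C := Subgroup.centralizer ({v} : Set X)
    have hVC : V ≤ C := fun a ha => Subgroup.mem_centralizer_singleton_iff.2 (hab a ha v hv)
    rw [mul_comm, ← Nat.card_prod]
    refine (Nat.card_congr (Equiv.ofBijective (fun y : V × ↥(G ⊓ C) =>
      (⟨(y.1 : X) * y.2, mul_mem (hVC y.1.2) (Subgroup.mem_inf.1 y.2.2).2⟩ : C)) ⟨?_, ?_⟩)).symm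
    · rintro ⟨a, g⟩ ⟨b, h⟩ heq
      have := @hGV.1 (a, ⟨g, (Subgroup.mem_inf.1 g.2).1⟩) (b, ⟨h, (Subgroup.mem_inf.1 h.2).1⟩)
        (congrArg Subtype.val heq)
      simp only [Prod.mk.injEq, Subtype.mk.injEq] at this
      exact Prod.ext this.1 (Subtype.ext this.2)
    · rintro ⟨x, hx⟩
      obtain ⟨⟨a, g⟩, h⟩ := hGV.2 x
      refine ⟨(a, ⟨g, Subgroup.mem_inf.2 ⟨g.2, ?_⟩⟩), Subtype.ext h⟩
      have : (g : X) = (a : X)⁻¹ * x := by rw [← h, inv_mul_cancel_left]
      rw [this]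
      exact mul_mem (inv_mem (hVC a.2)) hx
  rw [← hC, ← h2]
  have h3 : ((Finset.univ \ T).card : ℝ) + Nat.card G ≤
      (Nat.card (Subgroup.centralizer ({v} : Set X)) : ℝ) := by linarith
  have h4 : (Finset.univ \ T).card + Nat.card G ≤
      Nat.card (Subgroup.centralizer ({v} : Set X)) := by exact_mod_cast h3
  omega

end Cfsg.Agent.KnorrBound
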