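import Mathlib
import Cfsg.Prelude.Def_Blocks
import Cfsg.Agent.Lib.KnorrBase81
import Cfsg.Agent.Lib.ZStarCount

/-!
Knörr's class function for a coprime module with an invariant symmetric form.
-/

set_option autoImplicit false
set_option linter.unusedSectionVars false

open Cfsg Cfsg.Agent.CharBasic Cfsg.Agent.KnorrBase81
open scoped ComplexConjugate

namespace Cfsg.Agent.KnorrDelta81

universe u v

variable {p : ℕ} [hp : Fact p.Prime] {H : Type u} [Group H] [Fintype H]
  {M : Type v} [AddCommGroup M] [Module (ZMod p) M] [Fintype M]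

/-- The number of fixed points. -/
noncomputable def fixCard (ρ : Representation (ZMod p) H M) (h : H) : ℕ :=
  Nat.card (LinearMap.ker (ρ h - 1))

theorem mem_ker_iff (ρ : Representation (ZMod p) H M) (h : H) (x : M) :
    x ∈ LinearMap.ker (ρ h - 1) ↔ ρ h x = x := by
  rw [LinearMap.mem_ker, LinearMap.sub_apply, Module.End.one_apply, sub_eq_zero]

theorem fixCard_pos (ρ : Representation (ZMod p) H M) (h : H) : 0 < fixCard ρ h :=
  Nat.card_pos

theorem fixCard_one (ρ : Representation (ZMod p) H M) : fixCard ρ 1 = Nat.card M := by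
  rw [fixCard, map_one, sub_self, LinearMap.ker_zero]
  exact Nat.card_congr Submodule.topEquiv.toEquiv

/-- Membership of a complex number in all primes over `p`. -/
def InPrimes (p : ℕ) (z : ℂ) : Prop :=
  ∀ P : Ideal AlgInt, IsPModular p P → ∃ w : AlgInt, w ∈ P ∧ (w : ℂ) = z

/-- Knörr's class function. -/
structure Good (ρ : Representation (ZMod p) H M) (δ : H → ℂ) : Prop where
  intFun : IntFun δ
  one : δ 1 = 1
  normSq : ∀ h, δ h * conj (δ h) * (fixCard ρ h : ℂ) = (Nat.card M : ℂ)
  integral : ∀ h, IsIntegral ℤ (δ h)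
  mem : ∀ (h : H), ρ h ≠ 1 → InPrimes p (δ h)
  field : ∀ (N : ℕ), p * Nat.card M * Nat.card H ∣ N → ∀ h, δ h ∈ cyclo N

theorem card_eq_pow : ∃ a : ℕ, Nat.card M = p ^ a := by
  refine ⟨Module.finrank (ZMod p) M, ?_⟩
  rw [Module.natCard_eq_pow_finrank (K := ZMod p), Nat.card_zmod]

theorem fixCard_eq_pow (ρ : Representation (ZMod p) H M) (h : H) : ∃ a : ℕ, fixCard ρ h = p ^ a := by
  classical
  haveI : Fintype (LinearMap.ker (ρ h - 1)) := Fintype.ofFinite _
  exact card_eq_pow

/-- The action on the points. -/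
@[reducible] def action (ρ : Representation (ZMod p) H M) : MulAction H M where
  smul h x := ρ h x
  one_smul x := by show ρ 1 x = x; rw [map_one]; rfl
  mul_smul g h x := by show ρ (g * h) x = ρ g (ρ h x); rw [map_mul]; rfl

theorem intFun_fix (ρ : Representation (ZMod p) H M) [DecidableEq M] (w : M → ℂ)
    (hw : ∀ (h : H) (x : M), w (ρ h x) = w x) (hint : ∀ x, IsIntegral ℤ (w x)) :
    IntFun (fun h : H => ∑ x, if ρ h x = x then w x else 0) := by
  letI := action ρ
  have h1 := intFun_perm (H := H) w hw hint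
  exact h1

theorem intFun_fixCard (ρ : Representation (ZMod p) H M) :
    IntFun (fun h : H => (fixCard ρ h : ℂ)) := by
  classical
  have h := intFun_fix ρ (fun _ => 1) (fun _ _ => rfl) (fun _ => isIntegral_one)
  convert h using 1
  funext g
  rw [Finset.sum_boole, fixCard, Nat.card_eq_fintype_card, Fintype.card_subtype]
  exact congrArg _ (congrArg Finset.card (Finset.filter_congr fun x _ => mem_ker_iff ρ g x))

/-- The class function attached to a function with the modulus of a Weil character. -/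
theorem good_of_theta (ρ : Representation (ZMod p) H M) (hcop : ¬ p ∣ Nat.card H) (θ : H → ℂ)
    (hθ : IntFun θ) (hθ' : IntFun (fun h => conj (θ h)))
    (habs : ∀ h, θ h * conj (θ h) = (fixCard ρ h : ℂ))
    (hint1 : IsIntegral ℤ (θ 1))
    (hint : ∀ h, IsIntegral ℤ (θ 1 * conj (θ h) / (fixCard ρ h : ℂ)))
    (hmem : ∀ h, ρ h ≠ 1 → InPrimes p (θ 1 * conj (θ h) / (fixCard ρ h : ℂ)))
    (hfield : ∀ (N : ℕ), p * Nat.card M * Nat.card H ∣ N → ∀ h, θ h ∈ cyclo N) :
    Good ρ (fun h => θ 1 * conj (θ h) / (fixCard ρ h : ℂ)) := by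
  have hF := intFun_fixCard ρ
  have hF0 : ∀ h, (fixCard ρ h : ℂ) ≠ 0 := fun h => Nat.cast_ne_zero.2 (fixCard_pos ρ h).ne'
  refine ⟨?_, ?_, ?_, hint, hmem, ?_⟩
  · set φ := Nat.totient (Nat.card H) with hφ
    have hφ0 : 0 < φ := Nat.totient_pos.2 Nat.card_pos
    refine intFun_congr (intFun_smul (intFun_mul hθ' (intFun_pow hF (φ - 1))) hint1)
      (fun a b => ?_) fun h => ?_
    · beta_reduce
      rw [show conj (θ (b * a * b⁻¹)) = conj (θ a) from hθ'.1 a b,
        show (fixCard ρ (b * a * b⁻¹) : ℂ) = fixCard ρ a from hF.1 a b]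
    · obtain ⟨d, hd⟩ := fixCard_eq_pow ρ h
      have hco : (fixCard ρ h).Coprime (Nat.card H) := by
        rw [hd]; exact Nat.Coprime.pow_left _ ((hp.out.coprime_iff_not_dvd).2 hcop)
      obtain ⟨z, hz⟩ : (Nat.card H : ℤ) ∣ (fixCard ρ h : ℤ) ^ φ - 1 := by
        have := Nat.modEq_iff_dvd.1 (Nat.ModEq.pow_totient hco).symm
        exact_mod_cast this
      refine ⟨-((z : ℂ) * (θ 1 * conj (θ h) / (fixCard ρ h : ℂ))),
        ((isIntegral_algebraMap (x := z)).mul (hint h)).neg, ?_⟩
      have hz' : ((fixCard ρ h : ℂ)) ^ φ - 1 = (Nat.card H : ℂ) * z := by exact_mod_cast hz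
      have e : (fixCard ρ h : ℂ) ^ φ = (fixCard ρ h : ℂ) ^ (φ - 1) * fixCard ρ h := by
        rw [← pow_succ, Nat.sub_add_cancel hφ0]
      have := hF0 h
      have e2 : θ 1 * (conj (θ h) * (fixCard ρ h : ℂ) ^ (φ - 1)) =
          θ 1 * conj (θ h) / (fixCard ρ h : ℂ) * ((Nat.card H : ℂ) * z + 1) := by
        rw [← hz', sub_add_cancel, e]
        field_simp
      simp only [e2]
      ring
  · show θ 1 * conj (θ 1) / (fixCard ρ 1 : ℂ) = 1
    rw [habs, div_self (hF0 1)]
  · intro h
    have h1 := habs 1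
    have h2 := habs h
    rw [fixCard_one] at h1
    have := hF0 h
    simp only [map_div₀, map_mul, Complex.conj_conj, map_natCast]
    field_simp
    linear_combination (conj (θ h) * θ h) * h1 + (Nat.card M : ℂ) * h2
  · intro N hN h
    rcases Nat.eq_zero_or_pos N with rfl | hN0
    · exact div_mem (mul_mem (hfield 0 hN 1) (by
        have h2 := habs h
        rcases eq_or_ne (θ h) 0 with h0 | h0
        · simp [h0] at h2; exact absurd h2.symm (hF0 h)
        · rw [show conj (θ h) = (fixCard ρ h : ℂ) / θ h from by rw [eq_div_iff h0, mul_comm, h2]]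
          exact div_mem (natCast_mem _ _) (hfield 0 hN h))) (natCast_mem _ _)
    · exact div_mem (mul_mem (hfield N hN 1) (conj_mem hN0 (hfield N hN h))) (natCast_mem _ _)

/-! ### Averaging over a cyclic group -/

theorem orderOf_cast_ne_zero (hcop : ¬ p ∣ Nat.card H) (h : H) : (orderOf h : ZMod p) ≠ 0 := by
  rw [Ne, ZMod.natCast_eq_zero_iff]
  exact fun hd => hcop (hd.trans (orderOf_dvd_natCard h))

/-- The projection to the fixed points of `h`. -/
noncomputable def avg (ρ : Representation (ZMod p) H M) (h : H) : M →ₗ[ZMod p] M :=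
  (orderOf h : ZMod p)⁻¹ • ∑ i ∈ Finset.range (orderOf h), ρ (h ^ i)

theorem avg_fix (ρ : Representation (ZMod p) H M) (h : H) (x : M) :
    ρ h (avg ρ h x) = avg ρ h x := by
  simp only [avg, LinearMap.smul_apply, LinearMap.coe_sum, Finset.sum_apply, map_smul, map_sum]
  congr 1
  have hs : ∀ i, ρ h (ρ (h ^ i) x) = ρ (h ^ (i + 1)) x := fun i => by
    rw [pow_succ', map_mul]; rfl
  rw [Finset.sum_congr rfl fun i _ => hs i]
  have h1 := Finset.sum_range_succ (fun i => ρ (h ^ i) x) (orderOf h)
  rw [Finset.sum_range_succ', pow_orderOf_eq_one, pow_zero] at h1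
  exact add_right_cancel h1

theorem avg_of_fix (ρ : Representation (ZMod p) H M) (hcop : ¬ p ∣ Nat.card H) (h : H) {x : M}
    (hx : ρ h x = x) : avg ρ h x = x := by
  have hi : ∀ i, ρ (h ^ i) x = x := by
    intro i
    induction i with
    | zero => rw [pow_zero, map_one]; rfl
    | succ i ih => rw [pow_succ, map_mul, Module.End.mul_apply, hx, ih]
  simp only [avg, LinearMap.smul_apply, LinearMap.coe_sum, Finset.sum_apply, hi, Finset.sum_const,
    Finset.card_range]
  rw [← Nat.cast_smul_eq_nsmul (ZMod p), smul_smul, inv_mul_cancel₀ (orderOf_cast_ne_zero hcop h),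
    one_smul]

theorem form_avg (ρ : Representation (ZMod p) H M) (hcop : ¬ p ∣ Nat.card H) (h : H)
    (B : LinearMap.BilinForm (ZMod p) M) (hB : ∀ g x y, B (ρ g x) (ρ g y) = B x y) {c : M}
    (hc : ρ h c = c) (y : M) : B c (avg ρ h y) = B c y := by
  have hi : ∀ i, B c (ρ (h ^ i) y) = B c y := by
    intro i
    have hfix : ρ (h ^ i) c = c := by
      induction i with
      | zero => rw [pow_zero, map_one]; rfl
      | succ i ih => rw [pow_succ, map_mul, Module.End.mul_apply, hc, ih]
    conv_lhs => rw [← hfix]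
    exact hB _ _ _
  simp only [avg, LinearMap.smul_apply, LinearMap.coe_sum, Finset.sum_apply, map_smul, map_sum,
    hi, Finset.sum_const, Finset.card_range]
  rw [← Nat.cast_smul_eq_nsmul (ZMod p), smul_smul, inv_mul_cancel₀ (orderOf_cast_ne_zero hcop h),
    one_smul]

/-! ### The symmetric case -/

theorem sum_addChar_sub_one (P : Ideal AlgInt) (hP : IsPModular p P) {z : AlgInt} (hz : z ^ p = 1) :
    z - 1 ∈ P := by
  haveI := hP.2.1.isPrime
  have h : (z - 1) ^ p ∈ P := by
    have hd : (p : AlgInt) ∣ (z + -1) ^ p - (z ^ p + (-1) ^ p) := by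
      obtain ⟨r, hr⟩ := exists_add_pow_prime_eq hp.out z (-1)
      exact ⟨z * -1 * r, by rw [hr]; ring⟩
    obtain ⟨r, hr⟩ := hd
    have e : (z - 1) ^ p = (p : AlgInt) * r + (1 + (-1) ^ p) := by
      rw [hz] at hr
      rw [sub_eq_add_neg]
      linear_combination hr
    rw [e]
    refine P.add_mem (P.mul_mem_right _ hP.2.2) ?_
    rcases hp.out.eq_two_or_odd' with h2 | h2
    · subst h2
      have h22 := hP.2.2
      norm_num at h22 ⊢
      exact h22
    · rw [h2.neg_one_pow, add_neg_cancel]; exact P.zero_mem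
  exact ‹P.IsPrime›.mem_of_pow_mem _ h

set_option maxHeartbeats 1600000 in
theorem good_symm (ρ : Representation (ZMod p) H M) (hcop : ¬ p ∣ Nat.card H) (hp2 : p ≠ 2)
    (S : LinearMap.BilinForm (ZMod p) M) (hsym : ∀ x y, S x y = S y x)
    (hinv : ∀ g x y, S (ρ g x) (ρ g y) = S x y) (hnd : ∀ x, (∀ y, S x y = 0) → x = 0) :
    ∃ δ, Good ρ δ := by
  classical
  obtain ⟨ψ, hψinj⟩ : ∃ ψ : AddChar (ZMod p) ℂ, Function.Injective ψ :=
    ⟨ZMod.stdAddChar, ZMod.injective_stdAddChar⟩
  have hψp : ∀ t, ψ t ^ p = 1 := fun t => by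
    rw [← AddChar.map_nsmul_eq_pow, nsmul_eq_mul, ZMod.natCast_self, zero_mul,
      AddChar.map_zero_eq_one]
  have hψint : ∀ t, IsIntegral ℤ (ψ t) := fun t =>
    IsIntegral.of_pow hp.out.pos (by rw [hψp]; exact isIntegral_one)
  let w : M → ℂ := fun x => ψ (S x x)
  let θ : H → ℂ := fun h => ∑ x, if ρ h x = x then w x else 0
  have hw : ∀ (h : H) (x : M), w (ρ h x) = w x := fun h x => by simp only [w, hinv]
  have hθ : IntFun θ := intFun_fix ρ w hw fun x => hψint _
  have hθ' : IntFun (fun h => conj (θ h)) := by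
    have h := intFun_fix ρ (fun x => conj (w x)) (fun h x => by rw [hw]) fun x =>
      (hψint _).map (Complex.conjAe.toAlgHom.restrictScalars ℤ)
    convert h using 1
    funext g
    simp only [θ, map_sum, apply_ite (starRingEnd ℂ), map_zero]
  -- decomposition by the averaging projection
  have hdec : ∀ h, θ 1 = θ h * ∑ d : LinearMap.ker (avg ρ h), w d := by
    intro h
    have e1 : θ 1 = ∑ x, w x := by simp [θ]
    have e2 : θ h = ∑ c : LinearMap.ker (ρ h - 1), w c := by
      simp only [θ, ← Finset.sum_filter]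
      exact Finset.sum_subtype _ (fun x => by simp [sub_eq_zero]) _
    rw [e1, e2, Finset.sum_mul_sum, ← Fintype.sum_prod_type']
    let e : LinearMap.ker (ρ h - 1) × LinearMap.ker (avg ρ h) ≃ M :=
      { toFun := fun z => (z.1 : M) + z.2
        invFun := fun x => (⟨avg ρ h x, (mem_ker_iff ρ h _).2 (avg_fix ρ h x)⟩,
          ⟨x - avg ρ h x, by
            rw [LinearMap.mem_ker, map_sub, avg_of_fix ρ hcop h (avg_fix ρ h x), sub_self]⟩)
        left_inv := fun z => by
          have h1 : avg ρ h ((z.1 : M) + z.2) = z.1 := by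
            rw [map_add, avg_of_fix ρ hcop h ((mem_ker_iff ρ h _).1 z.1.2), LinearMap.mem_ker.1 z.2.2,
              add_zero]
          exact Prod.ext (Subtype.ext h1) (Subtype.ext (by simp [h1]))
        right_inv := fun x => add_sub_cancel _ _ }
    refine (Fintype.sum_equiv e _ _ fun z => ?_).symm
    have h0 : S (z.1 : M) z.2 = 0 := by
      rw [← form_avg ρ hcop h S hinv ((mem_ker_iff ρ h _).1 z.1.2), LinearMap.mem_ker.1 z.2.2,
        map_zero]
    show _ = ψ (S ((z.1 : M) + z.2) ((z.1 : M) + z.2))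
    simp only [map_add, LinearMap.add_apply, hsym (z.2 : M) z.1, h0, add_zero, zero_add,
      AddChar.map_add_eq_mul]
    rfl
  have habs : ∀ h, θ h * conj (θ h) = (fixCard ρ h : ℂ) := by
    intro h
    set C := LinearMap.ker (ρ h - 1) with hC
    have e2 : θ h = ∑ c : C, w c := by
      simp only [θ, ← Finset.sum_filter]
      exact Finset.sum_subtype _ (fun x => by simp [C, sub_eq_zero]) _
    rw [e2, map_sum, Finset.sum_mul_sum, Finset.sum_comm]
    have hstep : ∀ y : C, ∑ x : C, w x * conj (w y) =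
        ∑ a : C, ψ (S (a : M) a) * ψ (2 * S (y : M) a) := by
      intro y
      refine Fintype.sum_equiv (Equiv.subRight y) _ _ fun x => ?_
      simp only [Equiv.subRight_apply, w]
      rw [← AddChar.map_neg_eq_conj, ← AddChar.map_add_eq_mul, ← AddChar.map_add_eq_mul]
      congr 1
      simp only [Submodule.coe_sub, map_sub, LinearMap.sub_apply, hsym (x : M) y]
      ring
    rw [Finset.sum_congr rfl fun y _ => hstep y, Finset.sum_comm,
      Finset.sum_congr rfl fun a _ => (Finset.mul_sum _ _ _).symm,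
      Finset.sum_eq_single (0 : C)]
    · simp only [ZeroMemClass.coe_zero, map_zero, LinearMap.zero_apply, mul_zero,
        AddChar.map_zero_eq_one, Finset.sum_const, one_mul, nsmul_eq_mul, mul_one, Finset.card_univ,
        ← Nat.card_eq_fintype_card]
      rfl
    · intro a _ ha
      refine mul_eq_zero_of_right _ ?_
      let φ : C →+ ZMod p := AddMonoidHom.mk' (fun y : C => 2 * S (y : M) a) fun y z => by
        simp only [Submodule.coe_add, map_add, LinearMap.add_apply, mul_add]
      let χ : AddChar C ℂ := ψ.compAddMonoidHom φ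
      refine (Finset.sum_congr rfl fun y _ => ?_).trans (AddChar.sum_eq_zero_of_ne_one (ψ := χ)
        fun hχ => ha (Subtype.ext (hnd _ fun y => ?_)))
      · rw [AddChar.compAddMonoidHom_apply]; rfl
      have hc : ρ h a = a := (mem_ker_iff ρ h _).1 a.2
      rw [← form_avg ρ hcop h S hinv hc, hsym]
      have h2 : ψ (2 * S (avg ρ h y) (a : M)) = ψ 0 := by
        rw [AddChar.map_zero_eq_one]
        have h4 := DFunLike.congr_fun hχ
          (⟨avg ρ h y, (mem_ker_iff ρ h _).2 (avg_fix ρ h y)⟩ : C)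
        rw [AddChar.one_apply, AddChar.compAddMonoidHom_apply] at h4
        exact h4
      refine (mul_eq_zero.1 (hψinj h2)).resolve_left ?_
      intro h20
      have : ((2 : ℕ) : ZMod p) = 0 := by exact_mod_cast h20
      rw [ZMod.natCast_eq_zero_iff] at this
      exact hp2 ((Nat.prime_dvd_prime_iff_eq hp.out Nat.prime_two).1 this)
    · simp
  have hG : ∀ h, θ 1 * conj (θ h) / (fixCard ρ h : ℂ) = ∑ d : LinearMap.ker (avg ρ h), w d := by
    intro h
    rw [hdec h, div_eq_iff (Nat.cast_ne_zero.2 (fixCard_pos ρ h).ne'), ← habs h]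
    ring
  refine ⟨_, good_of_theta ρ hcop θ hθ hθ' habs ?_ (fun h => ?_) (fun h hh => ?_) fun N hN h => ?_⟩
  · exact IsIntegral.sum _ fun x _ => by split_ifs <;> [exact hψint _; exact isIntegral_zero]
  · rw [hG]; exact IsIntegral.sum _ fun x _ => hψint _
  · intro P hP
    set D := LinearMap.ker (avg ρ h)
    let W : D → AlgInt := fun d => ⟨w d, hψint _⟩
    refine ⟨∑ d, W d, ?_, by rw [hG, AddSubmonoidClass.coe_finsetSum]⟩
    have hnot : Nontrivial D := by
      by_contra hn
      rw [not_nontrivial_iff_subsingleton] at hn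
      refine hh (LinearMap.ext fun x => ?_)
      have hx : x - avg ρ h x ∈ D := by
        rw [LinearMap.mem_ker, map_sub, avg_of_fix ρ hcop h (avg_fix ρ h x), sub_self]
      have := congrArg Subtype.val (Subsingleton.elim (⟨_, hx⟩ : D) 0)
      rw [ZeroMemClass.coe_zero, sub_eq_zero] at this
      rw [Module.End.one_apply, this, avg_fix]
    obtain ⟨a, ha⟩ := card_eq_pow (p := p) (M := D)
    have ha0 : a ≠ 0 := fun h0 => by
      rw [h0, pow_zero] at ha
      exact absurd ha (Finite.one_lt_card (α := D)).ne'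
    have h1 : ∑ d, W d = ∑ d, (W d - 1) + (Nat.card D : AlgInt) := by
      simp [Finset.sum_sub_distrib, Nat.card_eq_fintype_card]
    rw [h1]
    refine P.add_mem (P.sum_mem fun d _ => sum_addChar_sub_one P hP (Subtype.ext ?_)) ?_
    · exact hψp _
    · rw [ha, Nat.cast_pow]
      exact P.pow_mem_of_mem hP.2.2 a (Nat.pos_of_ne_zero ha0)
  · refine sum_mem fun x _ => ?_
    split_ifs
    · exact root_mem (hψp _) ((dvd_mul_of_dvd_left (dvd_mul_right p _) _).trans hN)
    · exact zero_mem _

end Cfsg.Agent.KnorrDelta81
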