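import Mathlib
import Cfsg.Agent.Lib.KnorrDelta81
import Cfsg.Agent.Lib.GlaubermanCyclic
import Cfsg.Agent.S0867

/-!
Knörr's class function for a coprime module with an invariant alternating form, through the
Heisenberg group of the form.
-/

set_option autoImplicit false
set_option linter.unusedSectionVars false

open Cfsg Cfsg.Agent.CharBasic Cfsg.Agent.CharBasicOrth Cfsg.Agent.CharBasicDecomp
open Cfsg.Agent.KnorrBase81 Cfsg.Agent.KnorrDelta81
open scoped ComplexConjugate

namespace Cfsg.Agent.KnorrHeis81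

universe u v

variable {p : ℕ} [hp : Fact p.Prime] {M : Type v} [AddCommGroup M] [Module (ZMod p) M] [Fintype M]

/-- The group on `M × ZMod p` with the cocycle `b`. -/
@[ext] structure Heis (b : LinearMap.BilinForm (ZMod p) M) where
  u : M
  z : ZMod p

variable (b : LinearMap.BilinForm (ZMod p) M)

instance : Group (Heis b) where
  mul x y := ⟨x.u + y.u, x.z + y.z + b x.u y.u⟩
  one := ⟨0, 0⟩
  inv x := ⟨-x.u, -x.z + b x.u x.u⟩
  mul_assoc x y w := Heis.ext (add_assoc _ _ _)
    (show x.z + y.z + b x.u y.u + w.z + b (x.u + y.u) w.u =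
        x.z + (y.z + w.z + b y.u w.u) + b x.u (y.u + w.u) by
      simp only [map_add, LinearMap.add_apply]; ring)
  one_mul x := Heis.ext (zero_add _)
    (show 0 + x.z + b 0 x.u = x.z by simp)
  mul_one x := Heis.ext (add_zero _)
    (show x.z + 0 + b x.u 0 = x.z by simp)
  inv_mul_cancel x := Heis.ext (neg_add_cancel _)
    (show -x.z + b x.u x.u + x.z + b (-x.u) x.u = 0 by simp)

theorem mul_u (x y : Heis b) : (x * y).u = x.u + y.u := rfl
theorem mul_z (x y : Heis b) : (x * y).z = x.z + y.z + b x.u y.u := rfl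
theorem one_u : (1 : Heis b).u = 0 := rfl
theorem one_z : (1 : Heis b).z = 0 := rfl
theorem inv_u (x : Heis b) : (x⁻¹).u = -x.u := rfl
theorem inv_z (x : Heis b) : (x⁻¹).z = -x.z + b x.u x.u := rfl

/-- The underlying pairs. -/
def equivProd : Heis b ≃ M × ZMod p :=
  ⟨fun x => (x.u, x.z), fun x => ⟨x.1, x.2⟩, fun _ => rfl, fun _ => rfl⟩

noncomputable instance : Fintype (Heis b) := Fintype.ofEquiv _ (equivProd b).symm

theorem card : Nat.card (Heis b) = Nat.card M * p := by
  rw [Nat.card_congr (equivProd b), Nat.card_prod, Nat.card_zmod]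

theorem mem_center (t : ZMod p) : (⟨0, t⟩ : Heis b) ∈ Subgroup.center (Heis b) :=
  Subgroup.mem_center_iff.2 fun g => Heis.ext (by simp [mul_u]) (by simp [mul_z, add_comm])

theorem conj_eq (x y : Heis b) :
    y * x * y⁻¹ = x * ⟨0, b y.u x.u - b x.u y.u⟩ := by
  refine Heis.ext ?_ ?_
  · simp [mul_u, inv_u]
  · simp only [mul_z, mul_u, inv_u, inv_z, map_add, map_neg, map_zero, LinearMap.add_apply]
    ring

/-- The irreducible character with faithful central character. -/
theorem exists_mu (hnd : ∀ x, (∀ y, b x y = b y x) → x = 0) (ψ : AddChar (ZMod p) ℂ)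
    (hψ : Function.Injective ψ) :
    ∃ (n : ℕ) (μ : Heis b → ℂ), IsIrrCharacter (Heis b) μ ∧ n ^ 2 = Nat.card M ∧
      (∀ t, μ ⟨0, t⟩ = n * ψ t) ∧ ∀ x : Heis b, x.u ≠ 0 → μ x = 0 := by
  classical
  let f : Heis b → ℂ := fun x => if x.u = 0 then ψ x.z else 0
  have hfc : IsClassFunction (Heis b) f := by
    intro g h
    have hu : (h * g * h⁻¹).u = g.u := by simp [mul_u, inv_u]
    by_cases hg : g.u = 0
    · have : h * g * h⁻¹ = g := by
        rw [conj_eq]; exact Heis.ext (by simp [mul_u]) (by simp [mul_z, hg])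
      rw [this]
    · simp only [f, if_neg hg, if_neg (hu ▸ hg : ¬ (h * g * h⁻¹).u = 0)]
  obtain ⟨μ, hμ0⟩ : ∃ μ : IrrCharacter (Heis b), classInner f (μ : Heis b → ℂ) ≠ 0 := by
    by_contra! h
    have := congrFun (eq_sum_classInner hfc) 1
    simp [h, f, one_u, one_z] at this
  obtain ⟨μ, hμ⟩ := μ
  have hμ' := hμ
  obtain ⟨d, ρ, hi, rfl⟩ := hμ'
  have hd : Module.finrank ℂ (Fin d → ℂ) = d := Module.finrank_fin_fun ℂ
  have hd0 : 0 < d := hd ▸ finrank_pos_of_irreducible ρ
  choose c hc using fun t : ZMod p => exists_scalar_of_mem_center ρ (mem_center b t)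
  have htr : ∀ (x : Heis b) (t : ZMod p), ρ.character (x * ⟨0, t⟩) = c t * ρ.character x := by
    intro x t
    show LinearMap.trace ℂ _ (ρ (x * ⟨0, t⟩)) = c t * LinearMap.trace ℂ _ (ρ x)
    rw [map_mul, hc]
    show LinearMap.trace ℂ _ (ρ x * (c t • (1 : Module.End ℂ (Fin d → ℂ)))) = _
    rw [mul_smul_comm, mul_one, map_smul, smul_eq_mul]
  have h1 : ρ.character 1 = d := by rw [Representation.char_one, hd]
  have hct : ∀ t, ρ.character ⟨0, t⟩ = d * c t := fun t => by
    rw [← one_mul (⟨0, t⟩ : Heis b), htr, h1, mul_comm]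
  let ω : AddChar (ZMod p) ℂ :=
    { toFun := c
      map_zero_eq_one' := by
        have := hct 0
        rw [show (⟨0, 0⟩ : Heis b) = 1 from rfl, h1] at this
        exact mul_left_cancel₀ (Nat.cast_ne_zero.2 hd0.ne') (by rw [← this, mul_one])
      map_add_eq_mul' := fun s t => by
        have h2 : (⟨0, s + t⟩ : Heis b) = ⟨0, s⟩ * ⟨0, t⟩ :=
          Heis.ext (by simp [mul_u]) (by simp [mul_z])
        have := hct (s + t)
        rw [h2, htr, hct] at this
        exact mul_left_cancel₀ (Nat.cast_ne_zero.2 hd0.ne') (by rw [← this]; ring) }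
  have hω : ω = ψ := by
    by_contra hne
    apply hμ0
    have hχ : ψ * ω⁻¹ ≠ 1 := fun h => hne (mul_inv_eq_one.1 h).symm
    have hs : ∑ t : ZMod p, ψ t * conj (c t) = 0 := by
      refine (Finset.sum_congr rfl fun t _ => ?_).trans (AddChar.sum_eq_zero_of_ne_one hχ)
      rw [AddChar.mul_apply, AddChar.inv_apply, AddChar.map_neg_eq_conj]
      rfl
    rw [classInner, ← (equivProd b).symm.sum_comp, Fintype.sum_prod_type,
      Finset.sum_eq_single (0 : M) (fun u _ hu => Finset.sum_eq_zero fun t _ => by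
        simp [f, equivProd, hu]) (by simp)]
    simp only [equivProd, Equiv.coe_fn_symm_mk, f, if_true, hct, map_mul, map_natCast]
    rw [Finset.sum_congr rfl fun t _ => (show ψ t * ((d : ℂ) * conj (c t)) =
      (d : ℂ) * (ψ t * conj (c t)) by ring), ← Finset.mul_sum, hs, mul_zero, mul_zero]
  have hcψ : ∀ t, c t = ψ t := fun t => DFunLike.congr_fun hω t
  have hvan : ∀ x : Heis b, x.u ≠ 0 → ρ.character x = 0 := by
    intro x hx
    obtain ⟨y, hy⟩ : ∃ y, b x.u y ≠ b y x.u := by
      by_contra! h; exact hx (hnd _ h)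
    have h2 := isClassFunction_of_isCharacter (isCharacter_of_isIrrCharacter hμ) x (⟨y, 0⟩ : Heis b)
    rw [conj_eq, htr, hcψ] at h2
    have h3 : ψ (b y x.u - b x.u y) ≠ 1 := by
      rw [← ψ.map_zero_eq_one]
      exact fun h => hy (sub_eq_zero.1 (hψ h)).symm
    exact (mul_left_eq_self₀.1 h2).resolve_left h3
  refine ⟨d, _, hμ, ?_, fun t => by rw [hct, hcψ], hvan⟩
  have h3 := classInner_irr_self hμ
  rw [classInner, ← (equivProd b).symm.sum_comp, Fintype.sum_prod_type,
    Finset.sum_eq_single (0 : M) (fun u _ hu => Finset.sum_eq_zero fun t _ => by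
      rw [hvan _ hu, zero_mul]) (by simp), card] at h3
  have hterm : ∀ t : ZMod p, ρ.character ((equivProd b).symm (0, t)) *
      conj (ρ.character ((equivProd b).symm (0, t))) = (d : ℂ) ^ 2 := by
    intro t
    have hn : ψ t * conj (ψ t) = 1 := by
      rw [← AddChar.map_neg_eq_conj, ← AddChar.map_add_eq_mul, add_neg_cancel,
        AddChar.map_zero_eq_one]
    show ρ.character ⟨0, t⟩ * conj (ρ.character ⟨0, t⟩) = _
    rw [hct, hcψ, map_mul, map_natCast]
    linear_combination (d : ℂ) ^ 2 * hn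
  rw [Finset.sum_congr rfl fun t _ => hterm t, Finset.sum_const, Finset.card_univ, ZMod.card,
    nsmul_eq_mul] at h3
  have hp0 : (p : ℂ) ≠ 0 := Nat.cast_ne_zero.2 hp.out.ne_zero
  have hM0 : (Nat.card M : ℂ) ≠ 0 := Nat.cast_ne_zero.2 Nat.card_pos.ne'
  push_cast at h3
  field_simp at h3
  exact_mod_cast h3

variable {H : Type u} [Group H] [Fintype H]

/-- An alternating invariant form is the antisymmetrisation of an invariant form. -/
theorem exists_half (ρ : Representation (ZMod p) H M) (hcop : ¬ p ∣ Nat.card H)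
    (A : LinearMap.BilinForm (ZMod p) M) (halt : ∀ x, A x x = 0)
    (hinv : ∀ g x y, A (ρ g x) (ρ g y) = A x y) :
    ∃ b : LinearMap.BilinForm (ZMod p) M,
      (∀ g x y, b (ρ g x) (ρ g y) = b x y) ∧ ∀ x y, b x y - b y x = A x y := by
  classical
  let e := Module.finBasis (ZMod p) M
  let up : Fin _ → Fin _ → ZMod p := fun i j => if i < j then A (e i) (e j) else 0
  let b0 : LinearMap.BilinForm (ZMod p) M := e.constr (ZMod p) fun i => e.constr (ZMod p) (up i)
  have hanti : ∀ x y, A y x = - A x y := fun x y => by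
    have h := halt (x + y)
    simp only [map_add, LinearMap.add_apply, halt, zero_add, add_zero] at h
    exact eq_neg_of_add_eq_zero_left h
  have hb0 : ∀ x y, b0 x y - b0 y x = A x y := by
    have he : ∀ i j, b0 (e i) (e j) = up i j := fun i j => by
      simp only [b0, Module.Basis.constr_basis]
    have h0 : b0 - b0.flip = A := e.ext fun i => e.ext fun j => by
      simp only [LinearMap.sub_apply, LinearMap.BilinForm.flip_apply, he, up]
      rcases lt_trichotomy i j with h | h | h
      · rw [if_pos h, if_neg h.asymm, sub_zero]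
      · subst h; simp [halt]
      · rw [if_neg h.asymm, if_pos h, zero_sub, hanti (e j) (e i)]
    intro x y
    exact LinearMap.congr_fun₂ h0 x y
  have hH0 : (Fintype.card H : ZMod p) ≠ 0 := by
    rw [Ne, ZMod.natCast_eq_zero_iff, ← Nat.card_eq_fintype_card]; exact hcop
  refine ⟨(Fintype.card H : ZMod p)⁻¹ • ∑ h, b0.compl₁₂ (ρ h) (ρ h), fun g x y => ?_,
    fun x y => ?_⟩
  · simp only [LinearMap.smul_apply, LinearMap.coe_sum, Finset.sum_apply,
      LinearMap.compl₁₂_apply]
    congr 1
    refine Fintype.sum_equiv (Equiv.mulRight g) _ _ fun h => ?_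
    simp [Equiv.coe_mulRight, map_mul]
  · simp only [LinearMap.smul_apply, LinearMap.coe_sum, Finset.sum_apply,
      LinearMap.compl₁₂_apply, smul_eq_mul]
    rw [← mul_sub, ← Finset.sum_sub_distrib]
    simp only [hb0, hinv, Finset.sum_const, Finset.card_univ, nsmul_eq_mul]
    rw [← mul_assoc, inv_mul_cancel₀ hH0, one_mul]

theorem repr_std {n : ℕ} (Y : Matrix (Fin n) (Fin n) ℂ) (i j : Fin n) :
    (Matrix.stdBasis ℂ (Fin n) (Fin n)).repr Y (i, j) = Y i j := by
  simp [Matrix.stdBasis]

theorem trace_two_sided {n : ℕ} (A B : Matrix (Fin n) (Fin n) ℂ) :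
    LinearMap.trace ℂ (Matrix (Fin n) (Fin n) ℂ)
      (LinearMap.mulLeft ℂ A ∘ₗ LinearMap.mulRight ℂ B) = A.trace * B.trace := by
  classical
  rw [LinearMap.trace_eq_matrix_trace ℂ (Matrix.stdBasis ℂ (Fin n) (Fin n)), Matrix.trace,
    Fintype.sum_prod_type, Matrix.trace, Matrix.trace, Finset.sum_mul_sum]
  refine Finset.sum_congr rfl fun i _ => Finset.sum_congr rfl fun j _ => ?_
  rw [Matrix.diag_apply, LinearMap.toMatrix_apply, Matrix.stdBasis_eq_single, repr_std,
    LinearMap.comp_apply, LinearMap.mulLeft_apply, LinearMap.mulRight_apply, Matrix.mul_apply]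
  rw [Finset.sum_eq_single i (fun k _ hk => by
    simp [Matrix.mul_apply, hk.symm]) (by simp), Matrix.mul_apply,
    Finset.sum_eq_single j (fun k _ hk => by simp [hk.symm]) (by simp)]
  simp [Matrix.diag_apply]

/-- The automorphisms of the Heisenberg group. -/
noncomputable def heisAut (ρ : Representation (ZMod p) H M)
    (hb : ∀ g x y, b (ρ g x) (ρ g y) = b x y) : H →* MulAut (Heis b) where
  toFun g :=
    { toFun := fun x => ⟨ρ g x.u, x.z⟩
      invFun := fun x => ⟨ρ g⁻¹ x.u, x.z⟩
      left_inv := fun x => Heis.ext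
        (show ρ g⁻¹ (ρ g x.u) = x.u by
          rw [← Module.End.mul_apply, ← map_mul, inv_mul_cancel, map_one]; rfl) rfl
      right_inv := fun x => Heis.ext
        (show ρ g (ρ g⁻¹ x.u) = x.u by
          rw [← Module.End.mul_apply, ← map_mul, mul_inv_cancel, map_one]; rfl) rfl
      map_mul' := fun x y => Heis.ext (map_add (ρ g) x.u y.u)
        (show x.z + y.z + b x.u y.u = x.z + y.z + b (ρ g x.u) (ρ g y.u) by rw [hb]) }
  map_one' := MulEquiv.ext fun x => Heis.ext (show ρ 1 x.u = x.u by rw [map_one]; rfl) rfl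
  map_mul' g g' := MulEquiv.ext fun x =>
    Heis.ext (show ρ (g * g') x.u = ρ g (ρ g' x.u) by rw [map_mul]; rfl) rfl

theorem heisAut_u (ρ : Representation (ZMod p) H M)
    (hb : ∀ g x y, b (ρ g x) (ρ g y) = b x y) (g : H) (x : Heis b) :
    (heisAut b ρ hb g x).u = ρ g x.u := rfl

theorem heisAut_z (ρ : Representation (ZMod p) H M)
    (hb : ∀ g x y, b (ρ g x) (ρ g y) = b x y) (g : H) (x : Heis b) :
    (heisAut b ρ hb g x).z = x.z := rfl

set_option maxHeartbeats 1600000 in
theorem good_alt (ρ : Representation (ZMod p) H M) (hcop : ¬ p ∣ Nat.card H)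
    (A : LinearMap.BilinForm (ZMod p) M) (halt : ∀ x, A x x = 0)
    (hinv : ∀ g x y, A (ρ g x) (ρ g y) = A x y) (hnd : ∀ x, (∀ y, A x y = 0) → x = 0) :
    ∃ δ, Good ρ δ := by
  classical
  obtain ⟨b, hb, hbA⟩ := exists_half ρ hcop A halt hinv
  obtain ⟨ψ, hψ⟩ : ∃ ψ : AddChar (ZMod p) ℂ, Function.Injective ψ :=
    ⟨ZMod.stdAddChar, ZMod.injective_stdAddChar⟩
  obtain ⟨n, μ, hμ, hn, hμz, hμu⟩ := exists_mu b
    (fun x hx => hnd x fun y => by rw [← hbA, hx, sub_self]) ψ hψ
  have hn0 : 0 < n := by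
    rcases Nat.eq_zero_or_pos n with rfl | h
    · rw [zero_pow two_ne_zero] at hn; exact absurd hn.symm Nat.card_pos.ne'
    · exact h
  let φ := heisAut b ρ hb
  let Γ := Heis b ⋊[φ] H
  haveI : Finite Γ := Finite.of_equiv _ SemidirectProduct.equivProd.symm
  letI : Fintype Γ := Fintype.ofFinite _
  let K : Subgroup Γ := (SemidirectProduct.inl : Heis b →* Γ).range
  haveI hK : K.Normal := by
    rw [show K = (SemidirectProduct.rightHom : Γ →* H).ker from
      SemidirectProduct.range_inl_eq_ker_rightHom]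
    infer_instance
  have hKi : K.index = Nat.card H := by
    rw [show K = (SemidirectProduct.rightHom : Γ →* H).ker from
      SemidirectProduct.range_inl_eq_ker_rightHom, Subgroup.index_ker]
    rw [MonoidHom.range_eq_top.2 SemidirectProduct.rightHom_surjective, Subgroup.card_top]
  let e : Heis b ≃* K := MonoidHom.ofInjective SemidirectProduct.inl_injective
  have he : ∀ x, ((e x : K) : Γ) = SemidirectProduct.inl x := fun x => rfl
  let ϑ : K → ℂ := μ ∘ e.symm.toMonoidHom
  have hϑ : IsIrrCharacter K ϑ := isIrrCharacter_comap _ e.symm.surjective hμ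
  have hμφ : ∀ (g : H) (x : Heis b), μ (φ g x) = μ x := by
    intro g x
    by_cases hx : x.u = 0
    · congr 1
      exact Heis.ext (by rw [heisAut_u, hx, map_zero]) (heisAut_z b ρ hb g x)
    · rw [hμu x hx, hμu]
      rw [heisAut_u]
      intro h
      apply hx
      have h2 := congrArg (ρ g⁻¹) h
      rwa [← Module.End.mul_apply, ← map_mul, inv_mul_cancel, map_one, Module.End.one_apply,
        map_zero] at h2
  have hinvK : ∀ (g : Γ) (x : K), ϑ ⟨g * x * g⁻¹, hK.conj_mem (x : Γ) x.2 g⟩ = ϑ x := by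
    intro g x
    obtain ⟨y, rfl⟩ := e.surjective x
    have hg : (⟨g * (e y : K) * g⁻¹, hK.conj_mem _ (e y).2 g⟩ : K) =
        e (g.left * φ g.right y * g.left⁻¹) := by
      refine Subtype.ext ?_
      show g * (e y : K) * g⁻¹ = ((e _ : K) : Γ)
      rw [he, he, map_mul, map_mul, map_inv, SemidirectProduct.inl_aut]
      conv_lhs => rw [← SemidirectProduct.inl_left_mul_inr_right g]
      rw [mul_inv_rev, map_inv]
      group
    simp only [ϑ, hg, Function.comp_apply, MulEquiv.coe_toMonoidHom, MulEquiv.symm_apply_apply]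
    rw [isClassFunction_of_isCharacter (isCharacter_of_isIrrCharacter hμ) _ g.left, hμφ]
  have hμ1 : μ 1 = n := by
    rw [show (1 : Heis b) = ⟨0, 0⟩ from rfl, hμz, AddChar.map_zero_eq_one, mul_one]
  obtain ⟨aM, haM⟩ := card_eq_pow (p := p) (M := M)
  obtain ⟨χ, ⟨hχ, hχK, -⟩, -⟩ := S0867.result K ϑ hϑ hinvK n (by simp [ϑ, hμ1]) (by
    rw [hKi]
    have h1 : detOrder ϑ ∣ p ^ (aM + 1) := by
      refine (GlaubermanCyclic.detOrder_dvd_card (isCharacter_of_isIrrCharacter hϑ)).trans ?_
      rw [← Nat.card_congr e.toEquiv, card, haM, pow_succ]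
    have h2 : n ∣ p ^ aM := by rw [← haM, ← hn]; exact dvd_pow_self n two_ne_zero
    exact Nat.Coprime.coprime_dvd_right (Nat.mul_dvd_mul h1 h2)
      (((hp.out.coprime_iff_not_dvd).2 hcop).symm.pow_right _ |>.mul_right
        (((hp.out.coprime_iff_not_dvd).2 hcop).symm.pow_right _)))
  have hχe : ∀ x, χ (SemidirectProduct.inl x) = μ x := by
    intro x
    have := hχK (e x)
    simpa [ϑ, he] using this
  obtain ⟨m, R, hRi, rfl⟩ := hχ
  -- central scalars
  have hcen : ∀ (t : ZMod p) (g : Γ),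
      R.character (g * SemidirectProduct.inl ⟨0, t⟩) = ψ t * R.character g := by
    intro t g
    have hz : (SemidirectProduct.inl (⟨0, t⟩ : Heis b) : Γ) ∈ Subgroup.center Γ := by
      refine Subgroup.mem_center_iff.2 fun g => ?_
      refine SemidirectProduct.ext ?_ (by simp)
      simp only [SemidirectProduct.mul_left, SemidirectProduct.left_inl,
        SemidirectProduct.right_inl, map_one, MulAut.one_apply]
      rw [show φ g.right ⟨0, t⟩ = ⟨0, t⟩ from Heis.ext (map_zero (ρ g.right)) rfl]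
      exact Subgroup.mem_center_iff.1 (mem_center b t) g.left
    obtain ⟨c, hc⟩ := exists_scalar_of_mem_center R hz
    have key : ∀ g, R.character (g * SemidirectProduct.inl ⟨0, t⟩) = c * R.character g := by
      intro g
      show LinearMap.trace ℂ _ (R (g * _)) = c * LinearMap.trace ℂ _ (R g)
      rw [map_mul, hc]
      show LinearMap.trace ℂ _ (R g * (c • (1 : Module.End ℂ (Fin m → ℂ)))) = _
      rw [mul_smul_comm, mul_one, map_smul, smul_eq_mul]
    have h1 := key 1
    rw [one_mul, hχe, hμz, show (1 : Γ) = SemidirectProduct.inl 1 from (map_one _).symm, hχe,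
      hμ1, mul_comm c] at h1
    rw [key, ← mul_left_cancel₀ (Nat.cast_ne_zero.2 hn0.ne') h1]
  -- modulus, by the action on matrices
  have hm : m = n := by
    have h1 := hχe 1
    rw [map_one, Representation.char_one, Module.finrank_fin_fun, hμ1] at h1
    exact_mod_cast h1
  subst hm
  let θ : H → ℂ := fun h => R.character (SemidirectProduct.inr h)
  let Rm : Γ → Matrix (Fin m) (Fin m) ℂ := fun g => LinearMap.toMatrix' (R g)
  have hRm : ∀ g g', Rm (g * g') = Rm g * Rm g' := fun g g' => by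
    simp only [Rm, map_mul, LinearMap.toMatrix'_mul]
  have hRtr : ∀ g, (Rm g).trace = R.character g := fun g => by
    show _ = LinearMap.trace ℂ _ (R g)
    rw [LinearMap.trace_eq_matrix_trace ℂ (Pi.basisFun ℂ (Fin m)),
      LinearMap.toMatrix_eq_toMatrix']
  let T : M → Matrix (Fin m) (Fin m) ℂ := fun x => Rm (SemidirectProduct.inl ⟨x, 0⟩)
  have hli : LinearIndependent ℂ T := by
    rw [Fintype.linearIndependent_iff]
    intro c hc x
    have h1 := congrArg (fun X => (X * Rm (SemidirectProduct.inl (⟨x, 0⟩ : Heis b))⁻¹).trace) hc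
    simp only [Finset.sum_mul, Matrix.trace_sum, smul_mul_assoc, Matrix.trace_smul, zero_mul,
      Matrix.trace_zero, T, ← hRm, hRtr] at h1
    rw [Finset.sum_eq_single x (fun y _ hy => by
        rw [← map_inv, ← map_mul, hχe,
          hμu _ (by simpa [mul_u, inv_u, add_neg_eq_zero] using hy), smul_zero]) (by simp),
      ← map_inv, ← map_mul, mul_inv_cancel, hχe, hμ1, smul_eq_mul] at h1
    exact (mul_eq_zero.1 h1).resolve_right (Nat.cast_ne_zero.2 hn0.ne')
  have hcardM : Fintype.card M = Module.finrank ℂ (Matrix (Fin m) (Fin m) ℂ) := by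
    rw [Module.finrank_matrix, Fintype.card_fin, Module.finrank_self, mul_one,
      ← Nat.card_eq_fintype_card, ← hn, pow_two]
  haveI : Nonempty M := ⟨0⟩
  let B := basisOfLinearIndependentOfCardEqFinrank hli hcardM
  have habs : ∀ h, θ h * conj (θ h) = (fixCard ρ h : ℂ) := by
    intro h
    let g : Γ := SemidirectProduct.inr h
    have htr := trace_two_sided (Rm g) (Rm g⁻¹)
    rw [hRtr, hRtr, character_inv] at htr
    show R.character g * conj (R.character g) = _
    rw [← htr, LinearMap.trace_eq_matrix_trace ℂ B, Matrix.trace, fixCard,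
      Nat.card_eq_fintype_card, Fintype.card_subtype, ← Finset.sum_boole]
    refine Finset.sum_congr rfl fun x _ => ?_
    have hL : (LinearMap.mulLeft ℂ (Rm g) ∘ₗ LinearMap.mulRight ℂ (Rm g⁻¹)) (B x) = B (ρ h x) := by
      simp only [B, coe_basisOfLinearIndependentOfCardEqFinrank, LinearMap.comp_apply,
        LinearMap.mulLeft_apply, LinearMap.mulRight_apply, T]
      rw [← mul_assoc, ← hRm, ← hRm]
      congr 1
      show _ = SemidirectProduct.inl (φ h ⟨x, 0⟩)
      rw [SemidirectProduct.inl_aut, map_inv]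
    rw [Matrix.diag_apply, LinearMap.toMatrix_apply, hL, Module.Basis.repr_self,
      Finsupp.single_apply]
    exact if_congr (mem_ker_iff ρ h x).symm rfl rfl
  -- divisibility
  have hdiv : ∀ h, ∃ (k : ℕ) (s : ℂ), k ^ 2 = fixCard ρ h ∧ IsIntegral ℤ s ∧ θ h = k * s := by
    intro h
    let C := LinearMap.ker (ρ h - 1)
    haveI : Fintype C := Fintype.ofFinite _
    let bC : LinearMap.BilinForm (ZMod p) C := b.compl₁₂ C.subtype C.subtype
    obtain ⟨k, ν, hν, hk, hνz, hνu⟩ := exists_mu bC (fun x hx => Subtype.ext (hnd _ fun y => by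
      have hc : ρ h x = x := (mem_ker_iff ρ h _).1 x.2
      rw [← form_avg ρ hcop h A hinv hc y, ← hbA]
      exact sub_eq_zero.2 (hx ⟨_, (mem_ker_iff ρ h _).2 (avg_fix ρ h y)⟩))) ψ hψ
    have hk0 : (k : ℂ) ≠ 0 := by
      rintro h0
      rw [Nat.cast_eq_zero.1 h0, zero_pow two_ne_zero] at hk
      exact Nat.card_pos.ne' hk.symm
    let ι : Heis bC →* Γ := (SemidirectProduct.inl).comp
      (MonoidHom.mk' (fun x : Heis bC => (⟨(x.u : M), x.z⟩ : Heis b)) fun x y => rfl)
    let g : Γ := SemidirectProduct.inr h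
    have hcomm : ∀ x, Commute g (ι x) := fun x => by
      show g * ι x = ι x * g
      rw [← mul_inv_eq_iff_eq_mul]
      show g * SemidirectProduct.inl (⟨(x.u : M), x.z⟩ : Heis b) * g⁻¹ = _
      rw [← map_inv, ← SemidirectProduct.inl_aut]
      exact congrArg _ (Heis.ext ((mem_ker_iff ρ h _).1 x.u.2) rfl)
    let Z := Subgroup.zpowers g
    letI : CommGroup Z := IsCyclic.commGroup
    let f : Z × Heis bC →* Γ := MonoidHom.noncommCoprod Z.subtype ι fun a x => by
      obtain ⟨i, hi⟩ := Subgroup.mem_zpowers_iff.1 a.2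
      show Commute (a : Γ) (ι x)
      rw [← hi]
      exact (hcomm x).zpow_left i
    let F : Z × Heis bC →* Γ × Heis bC := f.prod (MonoidHom.snd _ _)
    have hchar : IsCharacter (Γ × Heis bC)
        (fun z => R.character z.1 * conj (ν z.2)) :=
      show IsCharacter (Γ × Heis bC)
          ((R.character ∘ MonoidHom.fst Γ (Heis bC)) *
            ((fun x => conj (ν x)) ∘ MonoidHom.snd Γ (Heis bC))) from
        isCharacter_mul (isCharacter_comap (MonoidHom.fst Γ (Heis bC)) (isCharacter_of_rep R))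
          (isCharacter_comap (MonoidHom.snd Γ (Heis bC))
            (isCharacter_conj (isCharacter_of_isIrrCharacter hν)))
    have hint := BlockContribPrime.isIntegral_avg F hchar ⟨g, Subgroup.mem_zpowers g⟩
    have hsum : ∀ (t : ZMod p), R.character (g * ι ⟨0, t⟩) * conj (ν ⟨0, t⟩) =
        (k : ℂ) * θ h := by
      intro t
      have hn' : ψ t * conj (ψ t) = 1 := by
        rw [← AddChar.map_neg_eq_conj, ← AddChar.map_add_eq_mul, add_neg_cancel,
          AddChar.map_zero_eq_one]
      have hι : ι ⟨0, t⟩ = SemidirectProduct.inl (⟨0, t⟩ : Heis b) := rfl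
      rw [hι, hcen, hνz, map_mul, map_natCast]
      linear_combination (R.character g * k : ℂ) * hn'
    refine ⟨k, θ h / k, hk, ?_, by field_simp⟩
    refine (?_ : _ = θ h / k) ▸ hint
    show (Nat.card (Heis bC) : ℂ)⁻¹ * ∑ x : Heis bC, R.character (g * ι x) * conj (ν x) = _
    rw [← (equivProd bC).symm.sum_comp, Fintype.sum_prod_type,
      Finset.sum_eq_single (0 : C) (fun x _ hx => Finset.sum_eq_zero fun t _ => by
        rw [hνu _ hx, map_zero, mul_zero]) (by simp)]
    show (Nat.card (Heis bC) : ℂ)⁻¹ * ∑ t : ZMod p, R.character (g * ι ⟨0, t⟩) * conj (ν ⟨0, t⟩) = _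
    rw [Finset.sum_congr rfl fun t _ => hsum t, Finset.sum_const, Finset.card_univ, ZMod.card,
      card, ← hk, nsmul_eq_mul]
    have hp0 : (p : ℂ) ≠ 0 := Nat.cast_ne_zero.2 hp.out.ne_zero
    push_cast
    field_simp
  have hθc : IsCharacter H θ :=
    isCharacter_comap (SemidirectProduct.inr : H →* Γ) (isCharacter_of_rep R)
  have hθ1 : θ 1 = m := by
    show R.character (SemidirectProduct.inr 1) = _
    rw [map_one, Representation.char_one, Module.finrank_fin_fun]
  have hδ : ∀ h, ∃ (q : ℕ) (s : ℂ), IsIntegral ℤ s ∧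
      θ 1 * conj (θ h) / (fixCard ρ h : ℂ) = q * s ∧ (ρ h ≠ 1 → p ∣ q) := by
    intro h
    obtain ⟨k, s, hk, hs, hθh⟩ := hdiv h
    obtain ⟨a, ha⟩ := fixCard_eq_pow ρ h
    obtain ⟨i, -, rfl⟩ := (Nat.dvd_prime_pow hp.out).1
      (show k ∣ p ^ a by rw [← ha, ← hk]; exact dvd_pow_self k two_ne_zero)
    obtain ⟨j, -, rfl⟩ := (Nat.dvd_prime_pow hp.out).1
      (show m ∣ p ^ aM by rw [← haM, ← hn]; exact dvd_pow_self m two_ne_zero)
    rw [← pow_mul] at hk hn
    have hle : fixCard ρ h ≤ Nat.card M :=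
      Nat.card_le_card_of_injective _ Subtype.val_injective
    have hij : i ≤ j := by
      rw [← hk, ← hn] at hle
      exact Nat.le_of_mul_le_mul_right ((Nat.pow_le_pow_iff_right hp.out.one_lt).1 hle) two_pos
    refine ⟨p ^ (j - i), conj s, hs.map (Complex.conjAe.toAlgHom.restrictScalars ℤ), ?_, fun hh => ?_⟩
    · rw [hθ1, hθh, map_mul, map_natCast, ← hk]
      have hp0 : (p : ℂ) ≠ 0 := Nat.cast_ne_zero.2 hp.out.ne_zero
      push_cast
      rw [show j = (j - i) + i from (Nat.sub_add_cancel hij).symm, pow_add,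
        show (i : ℕ) * 2 = i + i from mul_two i, pow_add, Nat.add_sub_cancel]
      field_simp
    · refine dvd_pow_self p ?_
      intro h0
      have hji : j = i := le_antisymm (Nat.sub_eq_zero_iff_le.1 h0) hij
      subst hji
      apply hh
      have htop : LinearMap.ker (ρ h - 1) = ⊤ := by
        apply Submodule.toAddSubgroup_injective
        refine AddSubgroup.eq_top_of_card_eq _ ?_
        show fixCard ρ h = Nat.card M
        rw [← hk, ← hn]
      refine LinearMap.ext fun x => ?_
      exact (mem_ker_iff ρ h x).1 (htop ▸ Submodule.mem_top)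
  have hint : ∀ h, IsIntegral ℤ (θ 1 * conj (θ h) / (fixCard ρ h : ℂ)) := fun h => by
    obtain ⟨q, s, hs, he, -⟩ := hδ h
    rw [he]; exact (isIntegral_algebraMap (x := (q : ℤ))).mul hs
  refine ⟨_, good_of_theta ρ hcop θ (intFun_char hθc) (intFun_char (isCharacter_conj hθc)) habs
    (isCharacter_integral hθc 1) hint (fun h hh P hP => ?_) fun N hN h => ?_⟩
  · obtain ⟨q, s, hs, he, hq⟩ := hδ h
    obtain ⟨r, hr⟩ := hq hh
    refine ⟨(p : AlgInt) * ((r : AlgInt) * ⟨s, hs⟩), P.mul_mem_right _ hP.2.2, ?_⟩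
    rw [he, hr]; push_cast; rw [mul_assoc]
  · refine char_mem ?_ (isCharacter_of_rep R) _
    rw [SemidirectProduct.card, card, mul_comm (Nat.card M)]
    exact hN

end Cfsg.Agent.KnorrHeis81
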