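import Mathlib

/-!
Splitting a coprime module with an invariant nondegenerate form into a symplectic and an orthogonal
summand.
-/

set_option autoImplicit false

namespace Cfsg.Agent.SelfDualSplit

variable {F : Type*} [Field F] {G : Type*} [Group G] {V : Type*} [AddCommGroup V] [Module F V]
  (ρ : Representation F G V)

/-- invariance of a subspace -/
def Inv (U : Submodule F V) : Prop := ∀ g : G, ∀ u ∈ U, ρ g u ∈ U

/-- invariance of a form on a subspace -/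
def FormInv (U : Submodule F V) (A : LinearMap.BilinForm F V) : Prop :=
  ∀ g : G, ∀ x ∈ U, ∀ y ∈ U, A (ρ g x) (ρ g y) = A x y

/-- left-nondegeneracy on a subspace -/
def Nondeg (U : Submodule F V) (A : LinearMap.BilinForm F V) : Prop :=
  ∀ x ∈ U, (∀ y ∈ U, A x y = 0) → x = 0

/-- the decomposition of `X` -/
def Good (p : ℕ) (X : Submodule F V) : Prop :=
  ∃ U W : Submodule F V, U ≤ X ∧ W ≤ X ∧ U ⊓ W = ⊥ ∧ U ⊔ W = X ∧ Inv ρ U ∧ Inv ρ W ∧
    (∃ A : LinearMap.BilinForm F V, (∀ x, A x x = 0) ∧ FormInv ρ U A ∧ Nondeg U A) ∧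
    (∃ S : LinearMap.BilinForm F V, (∀ x y, S x y = S y x) ∧ FormInv ρ W S ∧ Nondeg W S) ∧
    (p = 2 → ∀ g : G, ∀ w ∈ W, ρ g w = w)

theorem inv_inf {U W : Submodule F V} (hU : Inv ρ U) (hW : Inv ρ W) : Inv ρ (U ⊓ W) :=
  fun g u hu => ⟨hU g u hu.1, hW g u hu.2⟩

theorem inv_sup {U W : Submodule F V} (hU : Inv ρ U) (hW : Inv ρ W) : Inv ρ (U ⊔ W) := by
  intro g x hx
  obtain ⟨u, hu, w, hw, rfl⟩ := Submodule.mem_sup.1 hx
  rw [map_add]
  exact Submodule.add_mem_sup (hU g u hu) (hW g w hw)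

theorem inv_inv_apply (g : G) (v : V) : ρ g (ρ g⁻¹ v) = v := by
  rw [← Module.End.mul_apply, ← map_mul, mul_inv_cancel, map_one, Module.End.one_apply]

theorem good_bot (p : ℕ) : Good ρ p (⊥ : Submodule F V) := by
  refine ⟨⊥, ⊥, le_rfl, le_rfl, by simp, by simp, ?_, ?_, ⟨0, fun x => by simp, ?_, ?_⟩,
    ⟨0, fun x y => by simp, ?_, ?_⟩, ?_⟩
  · intro g u hu; rw [(Submodule.mem_bot F).1 hu, map_zero]; exact zero_mem _
  · intro g u hu; rw [(Submodule.mem_bot F).1 hu, map_zero]; exact zero_mem _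
  · intro g x _ y _; simp
  · intro x hx _; exact (Submodule.mem_bot F).1 hx
  · intro g x _ y _; simp
  · intro x hx _; exact (Submodule.mem_bot F).1 hx
  · intro _ g w hw; rw [(Submodule.mem_bot F).1 hw, map_zero]

variable [FiniteDimensional F V]

theorem exists_proj {Y Z : Submodule F V} (h : Y ⊓ Z = ⊥) :
    ∃ P Q : V →ₗ[F] V, (∀ y ∈ Y, P y = y ∧ Q y = 0) ∧ (∀ z ∈ Z, P z = 0 ∧ Q z = z) := by
  let f : (Y × Z) →ₗ[F] V := Y.subtype.coprod Z.subtype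
  have hf : LinearMap.ker f = ⊥ := by
    rw [LinearMap.ker_eq_bot']
    rintro ⟨y, z⟩ hyz
    simp [f] at hyz
    have h1 : (y : V) ∈ Y ⊓ Z := ⟨y.2, by rw [eq_neg_of_add_eq_zero_left hyz]; exact neg_mem z.2⟩
    rw [h, Submodule.mem_bot] at h1
    rw [h1, zero_add] at hyz
    exact Prod.ext (Subtype.ext h1) (Subtype.ext hyz)
  obtain ⟨g, hg⟩ := f.exists_leftInverse_of_injective hf
  refine ⟨Y.subtype ∘ₗ (LinearMap.fst F Y Z) ∘ₗ g, Z.subtype ∘ₗ (LinearMap.snd F Y Z) ∘ₗ g, ?_, ?_⟩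
  · intro y hy
    have : g y = (⟨y, hy⟩, 0) := by
      simpa [f] using LinearMap.congr_fun hg (⟨y, hy⟩, 0)
    simp [this]
  · intro z hz
    have : g z = (0, ⟨z, hz⟩) := by
      simpa [f] using LinearMap.congr_fun hg (0, ⟨z, hz⟩)
    simp [this]

/-- gluing two decompositions -/
theorem good_sup {p : ℕ} {Y Z : Submodule F V} (hYi : Inv ρ Y) (hZi : Inv ρ Z) (h : Y ⊓ Z = ⊥)
    (hY : Good ρ p Y) (hZ : Good ρ p Z) : Good ρ p (Y ⊔ Z) := by
  obtain ⟨U₁, W₁, hU₁, hW₁, hd₁, hs₁, iU₁, iW₁, ⟨A₁, hA₁, fA₁, nA₁⟩, ⟨S₁, hS₁, fS₁, nS₁⟩, ht₁⟩ := hY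
  obtain ⟨U₂, W₂, hU₂, hW₂, hd₂, hs₂, iU₂, iW₂, ⟨A₂, hA₂, fA₂, nA₂⟩, ⟨S₂, hS₂, fS₂, nS₂⟩, ht₂⟩ := hZ
  obtain ⟨P, Q, hP, hQ⟩ := exists_proj h
  -- combined form on a sum of subspaces
  have fi : ∀ (A₁ A₂ : LinearMap.BilinForm F V) {U₁ U₂ : Submodule F V}, U₁ ≤ Y → U₂ ≤ Z →
      Inv ρ U₁ → Inv ρ U₂ → FormInv ρ U₁ A₁ → FormInv ρ U₂ A₂ →
      FormInv ρ (U₁ ⊔ U₂) (A₁.compl₁₂ P P + A₂.compl₁₂ Q Q) := by
    intro A₁ A₂ U₁ U₂ hU₁ hU₂ i₁ i₂ f₁ f₂ g x hx y hy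
    obtain ⟨x₁, hx₁, x₂, hx₂, rfl⟩ := Submodule.mem_sup.1 hx
    obtain ⟨y₁, hy₁, y₂, hy₂, rfl⟩ := Submodule.mem_sup.1 hy
    simp [(hP _ (hU₁ hx₁)).1, (hP _ (hU₁ hx₁)).2, (hQ _ (hU₂ hx₂)).1, (hQ _ (hU₂ hx₂)).2,
      (hP _ (hU₁ hy₁)).1, (hP _ (hU₁ hy₁)).2, (hQ _ (hU₂ hy₂)).1, (hQ _ (hU₂ hy₂)).2,
      (hP _ (hU₁ (i₁ g _ hx₁))).1, (hP _ (hU₁ (i₁ g _ hx₁))).2, (hQ _ (hU₂ (i₂ g _ hx₂))).1,
      (hQ _ (hU₂ (i₂ g _ hx₂))).2, (hP _ (hU₁ (i₁ g _ hy₁))).1, (hP _ (hU₁ (i₁ g _ hy₁))).2,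
      (hQ _ (hU₂ (i₂ g _ hy₂))).1, (hQ _ (hU₂ (i₂ g _ hy₂))).2, f₁ g x₁ hx₁ y₁ hy₁,
      f₂ g x₂ hx₂ y₂ hy₂]
  have nd : ∀ (A₁ A₂ : LinearMap.BilinForm F V) {U₁ U₂ : Submodule F V}, U₁ ≤ Y → U₂ ≤ Z →
      Nondeg U₁ A₁ → Nondeg U₂ A₂ → Nondeg (U₁ ⊔ U₂) (A₁.compl₁₂ P P + A₂.compl₁₂ Q Q) := by
    intro A₁ A₂ U₁ U₂ hU₁ hU₂ n₁ n₂ x hx hxy
    obtain ⟨x₁, hx₁, x₂, hx₂, rfl⟩ := Submodule.mem_sup.1 hx
    have h1 : x₁ = 0 := n₁ x₁ hx₁ fun y hy => by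
      simpa [(hP _ (hU₁ hx₁)).1, (hQ _ (hU₂ hx₂)).1, (hP _ (hU₁ hy)).1, (hP _ (hU₁ hy)).2]
        using hxy y (Submodule.mem_sup_left hy)
    have h2 : x₂ = 0 := n₂ x₂ hx₂ fun y hy => by
      simpa [(hQ _ (hU₂ hx₂)).2, (hP _ (hU₁ hx₁)).2, (hQ _ (hU₂ hy)).1, (hQ _ (hU₂ hy)).2]
        using hxy y (Submodule.mem_sup_right hy)
    rw [h1, h2, add_zero]
  refine ⟨U₁ ⊔ U₂, W₁ ⊔ W₂, sup_le_sup hU₁ hU₂, sup_le_sup hW₁ hW₂, ?_, ?_, inv_sup ρ iU₁ iU₂,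
    inv_sup ρ iW₁ iW₂, ⟨_, ?_, fi A₁ A₂ hU₁ hU₂ iU₁ iU₂ fA₁ fA₂, nd A₁ A₂ hU₁ hU₂ nA₁ nA₂⟩,
    ⟨_, ?_, fi S₁ S₂ hW₁ hW₂ iW₁ iW₂ fS₁ fS₂, nd S₁ S₂ hW₁ hW₂ nS₁ nS₂⟩, ?_⟩
  · rw [eq_bot_iff]
    rintro x ⟨hx, hx'⟩
    obtain ⟨u₁, hu₁, u₂, hu₂, rfl⟩ := Submodule.mem_sup.1 hx
    obtain ⟨w₁, hw₁, w₂, hw₂, he⟩ := Submodule.mem_sup.1 hx'
    have e1 := congrArg P he
    have e2 := congrArg Q he
    simp [(hP _ (hU₁ hu₁)).1, (hP _ (hW₁ hw₁)).1, (hQ _ (hU₂ hu₂)).1, (hQ _ (hW₂ hw₂)).1] at e1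
    simp [(hP _ (hU₁ hu₁)).2, (hP _ (hW₁ hw₁)).2, (hQ _ (hU₂ hu₂)).2, (hQ _ (hW₂ hw₂)).2] at e2
    have h1 : u₁ = 0 := (Submodule.mem_bot F).1 (hd₁ ▸ ⟨hu₁, e1 ▸ hw₁⟩)
    have h2 : u₂ = 0 := (Submodule.mem_bot F).1 (hd₂ ▸ ⟨hu₂, e2 ▸ hw₂⟩)
    simp [h1, h2]
  · rw [← hs₁, ← hs₂]; ac_rfl
  · intro x; simp [hA₁, hA₂]
  · intro x y; simp [hS₁ (P x), hS₂ (Q x)]
  · intro hp g w hw
    obtain ⟨w₁, hw₁, w₂, hw₂, rfl⟩ := Submodule.mem_sup.1 hw
    rw [map_add, ht₁ hp g w₁ hw₁, ht₂ hp g w₂ hw₂]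

/-- Maschke: an invariant complement inside `X`. -/
theorem exists_complement [Finite G] (hG : (Nat.card G : F) ≠ 0) {L X : Submodule F V}
    (hL : Inv ρ L) (hX : Inv ρ X) (hle : L ≤ X) :
    ∃ U ≤ X, Inv ρ U ∧ L ⊓ U = ⊥ ∧ L ⊔ U = X := by
  classical
  haveI := Fintype.ofFinite G
  obtain ⟨L', hL'⟩ := Submodule.exists_isCompl L
  obtain ⟨P₀, Q₀, hP₀, hQ₀⟩ := exists_proj hL'.inf_eq_bot
  have hrange : ∀ v, P₀ v ∈ L := by
    intro v
    obtain ⟨a, ha, b, hb, rfl⟩ := Submodule.mem_sup.1 (hL'.sup_eq_top.symm ▸ Submodule.mem_top (x := v))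
    simp [(hP₀ a ha).1, (hQ₀ b hb).1, ha]
  let P : V →ₗ[F] V := (Nat.card G : F)⁻¹ • ∑ g : G, ρ g ∘ₗ P₀ ∘ₗ ρ g⁻¹
  have hPapp : ∀ v, P v = (Nat.card G : F)⁻¹ • ∑ g : G, ρ g (P₀ (ρ g⁻¹ v)) := fun v => by
    simp [P, LinearMap.sum_apply]
  have hPL : ∀ v, P v ∈ L := fun v => by
    rw [hPapp]; exact L.smul_mem _ (Submodule.sum_mem _ fun g _ => hL g _ (hrange _))
  have hPid : ∀ l ∈ L, P l = l := fun l hl => by
    rw [hPapp]
    simp only [(hP₀ _ (hL _ l hl)).1, inv_inv_apply, Finset.sum_const, Finset.card_univ,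
      ← Nat.cast_smul_eq_nsmul F, smul_smul]
    rw [← Nat.card_eq_fintype_card, inv_mul_cancel₀ hG, one_smul]
  have hPeq : ∀ (h : G) v, P (ρ h v) = ρ h (P v) := by
    intro h v
    rw [hPapp, hPapp, map_smul, map_sum]
    congr 1
    refine Fintype.sum_equiv (Equiv.mulLeft h⁻¹) _ _ fun g => ?_
    rw [Equiv.coe_mulLeft]
    have e1 : ρ g⁻¹ (ρ h v) = ρ (h⁻¹ * g)⁻¹ v := by
      rw [← Module.End.mul_apply, ← map_mul, mul_inv_rev, inv_inv]
    have e2 : ∀ w, ρ g w = ρ h (ρ (h⁻¹ * g) w) := fun w => by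
      rw [← Module.End.mul_apply (ρ h), ← map_mul, mul_inv_cancel_left]
    rw [e1, e2]
  refine ⟨X ⊓ LinearMap.ker P, inf_le_left, ?_, ?_, ?_⟩
  · intro g u hu
    refine ⟨hX g u hu.1, ?_⟩
    rw [SetLike.mem_coe, LinearMap.mem_ker, hPeq, LinearMap.mem_ker.1 hu.2, map_zero]
  · rw [eq_bot_iff]
    rintro x ⟨hx, -, hx'⟩
    rw [Submodule.mem_bot, ← hPid x hx]
    exact LinearMap.mem_ker.1 hx'
  · refine le_antisymm (sup_le hle inf_le_left) fun x hx => ?_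
    rw [Submodule.mem_sup]
    exact ⟨P x, hPL x, x - P x, ⟨sub_mem hx (hle (hPL x)), by
      rw [SetLike.mem_coe, LinearMap.mem_ker, map_sub, hPid _ (hPL x), sub_self]⟩, by abel⟩

/-- vectors of `X` right-orthogonal to `T` -/
def rightPerp (B : LinearMap.BilinForm F V) (T X : Submodule F V) : Submodule F V :=
  X ⊓ ⨅ t : T, LinearMap.ker (B t)

theorem mem_rightPerp {B : LinearMap.BilinForm F V} {T X : Submodule F V} {x : V} :
    x ∈ rightPerp B T X ↔ x ∈ X ∧ ∀ t ∈ T, B t x = 0 := by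
  simp [rightPerp, Submodule.mem_iInf]

theorem inv_rightPerp {B : LinearMap.BilinForm F V} (hB : ∀ g x y, B (ρ g x) (ρ g y) = B x y)
    {T X : Submodule F V} (hT : Inv ρ T) (hX : Inv ρ X) : Inv ρ (rightPerp B T X) := by
  intro g x hx
  rw [mem_rightPerp] at hx ⊢
  refine ⟨hX g x hx.1, fun t ht => ?_⟩
  rw [← hB g⁻¹ t (ρ g x)]
  have : ρ g⁻¹ (ρ g x) = x := by
    have := inv_inv_apply ρ g⁻¹ x; rwa [inv_inv] at this
  rw [this]
  exact hx.2 _ (hT _ t ht)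

theorem finrank_le_of_nondeg {A : LinearMap.BilinForm F V} {T U : Submodule F V}
    (h : ∀ t ∈ T, (∀ u ∈ U, A t u = 0) → t = 0) :
    Module.finrank F T ≤ Module.finrank F U := by
  let f : T →ₗ[F] Module.Dual F U := (A.compl₁₂ T.subtype U.subtype)
  have hf : Function.Injective f := by
    rw [← LinearMap.ker_eq_bot, LinearMap.ker_eq_bot']
    intro t ht
    exact Subtype.ext (h t t.2 fun u hu => by simpa [f] using LinearMap.congr_fun ht ⟨u, hu⟩)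
  simpa [Subspace.dual_finrank_eq] using LinearMap.finrank_le_finrank_of_injective hf

theorem exists_dual_vec {A : LinearMap.BilinForm F V} {T U : Submodule F V}
    (h : ∀ u ∈ U, (∀ t ∈ T, A u t = 0) → u = 0) (hd : Module.finrank F U = Module.finrank F T)
    (φ : Module.Dual F T) : ∃ u ∈ U, ∀ t : T, A u t = φ t := by
  let f : U →ₗ[F] Module.Dual F T := (A.compl₁₂ U.subtype T.subtype)
  have hf : Function.Injective f := by
    rw [← LinearMap.ker_eq_bot, LinearMap.ker_eq_bot']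
    intro u hu
    exact Subtype.ext (h u u.2 fun t ht => by simpa [f] using LinearMap.congr_fun hu ⟨t, ht⟩)
  have hsurj := (LinearMap.injective_iff_surjective_of_finrank_eq_finrank
    (by rw [Subspace.dual_finrank_eq]; exact hd)).1 hf
  obtain ⟨u, hu⟩ := hsurj φ
  exact ⟨u, u.2, fun t => by simpa [f] using LinearMap.congr_fun hu t⟩

/-- minimal nonzero invariant subspace -/
def Minimal' (T : Submodule F V) : Prop :=
  T ≠ ⊥ ∧ Inv ρ T ∧ ∀ U ≤ T, Inv ρ U → U = ⊥ ∨ U = T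

theorem exists_minimal {X : Submodule F V} (hX : Inv ρ X) (h : X ≠ ⊥) :
    ∃ T ≤ X, Minimal' ρ T := by
  generalize hn : Module.finrank F X = n
  induction n using Nat.strong_induction_on generalizing X with
  | h n ih =>
    by_cases hm : ∀ U ≤ X, Inv ρ U → U = ⊥ ∨ U = X
    · exact ⟨X, le_rfl, h, hX, hm⟩
    push Not at hm
    obtain ⟨U, hU, hUi, hU0, hUX⟩ := hm
    obtain ⟨T, hT, hTm⟩ := ih _ (hn ▸ Submodule.finrank_lt_finrank_of_lt (lt_of_le_of_ne hU hUX))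
      hUi hU0 rfl
    exact ⟨T, hT.trans hU, hTm⟩

theorem minimal_of_pairing {B : LinearMap.BilinForm F V} (hB : ∀ g x y, B (ρ g x) (ρ g y) = B x y)
    {T U : Submodule F V} (hT : Minimal' ρ T) (hU : Inv ρ U)
    (h1 : ∀ t ∈ T, (∀ u ∈ U, B t u = 0) → t = 0) (h2 : ∀ u ∈ U, (∀ t ∈ T, B t u = 0) → u = 0) :
    Minimal' ρ U := by
  refine ⟨?_, hU, fun U' hU' hU'i => ?_⟩
  · intro h0
    refine hT.1 ((Submodule.eq_bot_iff _).2 fun t ht => h1 t ht fun u hu => ?_)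
    rw [h0, Submodule.mem_bot] at hu
    simp [hu]
  · have hflip : ∀ g x y, B.flip (ρ g x) (ρ g y) = B.flip x y := fun g x y => hB g y x
    rcases hT.2.2 (rightPerp B.flip U' T) inf_le_left (inv_rightPerp ρ hflip hU'i hT.2.1) with h | h
    · right
      refine Submodule.eq_of_le_of_finrank_le hU' (le_trans ?_ (finrank_le_of_nondeg (A := B) (T := T) ?_))
      · exact finrank_le_of_nondeg (A := B.flip) (fun u hu hh => h2 u hu fun t ht => by simpa using hh t ht)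
      · intro t ht hh
        have : t ∈ rightPerp B.flip U' T := mem_rightPerp.2 ⟨ht, fun u hu => by simpa using hh u hu⟩
        rwa [h, Submodule.mem_bot] at this
    · left
      refine (Submodule.eq_bot_iff _).2 fun u hu => h2 u (hU' hu) fun t ht => ?_
      rw [← h] at ht
      simpa using (mem_rightPerp.1 ht).2 u hu

theorem nondeg_of_minimal {B : LinearMap.BilinForm F V} (hB : ∀ g x y, B (ρ g x) (ρ g y) = B x y)
    {T : Submodule F V} (hT : Minimal' ρ T) (h : ∃ x ∈ T, ∃ y ∈ T, B x y ≠ 0) : Nondeg T B := by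
  obtain ⟨x, hx, y, hy, hxy⟩ := h
  have hflip : ∀ g x y, B.flip (ρ g x) (ρ g y) = B.flip x y := fun g x y => hB g y x
  rcases hT.2.2 (rightPerp B.flip T T) inf_le_left (inv_rightPerp ρ hflip hT.2.1 hT.2.1) with h | h
  · intro z hz hh
    have : z ∈ rightPerp B.flip T T := mem_rightPerp.2 ⟨hz, fun t ht => by simpa using hh t ht⟩
    rwa [h, Submodule.mem_bot] at this
  · exfalso
    rw [← h] at hx
    exact hxy (by simpa using (mem_rightPerp.1 hx).2 y hy)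

theorem pairing_of_minimal {B : LinearMap.BilinForm F V} (hB : ∀ g x y, B (ρ g x) (ρ g y) = B x y)
    {T U : Submodule F V} (hT : Minimal' ρ T) (hU : Inv ρ U) (h : ∃ x ∈ T, ∃ y ∈ U, B x y ≠ 0) :
    ∀ t ∈ T, (∀ u ∈ U, B t u = 0) → t = 0 := by
  obtain ⟨x, hx, y, hy, hxy⟩ := h
  have hflip : ∀ g x y, B.flip (ρ g x) (ρ g y) = B.flip x y := fun g x y => hB g y x
  rcases hT.2.2 (rightPerp B.flip U T) inf_le_left (inv_rightPerp ρ hflip hU hT.2.1) with h | h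
  · intro z hz hh
    have : z ∈ rightPerp B.flip U T := mem_rightPerp.2 ⟨hz, fun t ht => by simpa using hh t ht⟩
    rwa [h, Submodule.mem_bot] at this
  · exfalso
    rw [← h] at hx
    exact hxy (by simpa using (mem_rightPerp.1 hx).2 y hy)

/-- a minimal subspace with nondegenerate restricted form is good -/
theorem good_minimal (p : ℕ) [Fact p.Prime] [CharP F p] {B : LinearMap.BilinForm F V}
    (hB : ∀ g x y, B (ρ g x) (ρ g y) = B x y) {Y : Submodule F V} (hY : Minimal' ρ Y)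
    (hnd : Nondeg Y B) : Good ρ p Y := by
  classical
  have hbot : Inv ρ (⊥ : Submodule F V) := fun g u hu => by
    rw [(Submodule.mem_bot F).1 hu, map_zero]; exact zero_mem _
  have mkU : ∀ A : LinearMap.BilinForm F V, (∀ x ∈ Y, A x x = 0) → FormInv ρ Y A → Nondeg Y A →
      Good ρ p Y := by
    intro A hA hAi hAn
    obtain ⟨Y', hY'⟩ := Submodule.exists_isCompl Y
    obtain ⟨P, Q, hP, hQ⟩ := exists_proj hY'.inf_eq_bot
    refine ⟨Y, ⊥, le_rfl, bot_le, by simp, by simp, hY.2.1, hbot,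
      ⟨A.compl₁₂ P P, ?_, ?_, ?_⟩, ⟨0, fun x y => by simp, ?_, ?_⟩, ?_⟩
    · intro x
      obtain ⟨a, ha, b, hb, rfl⟩ := Submodule.mem_sup.1 (hY'.sup_eq_top.symm ▸ Submodule.mem_top (x := x))
      simp [(hP a ha).1, (hQ b hb).1, hA a ha]
    · intro g x hx y hy
      simp [(hP x hx).1, (hP y hy).1, (hP _ (hY.2.1 g x hx)).1, (hP _ (hY.2.1 g y hy)).1, hAi g x hx y hy]
    · intro x hx h
      exact hAn x hx fun y hy => by simpa [(hP x hx).1, (hP y hy).1] using h y hy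
    · intro g x _ y _; simp
    · intro x hx _; exact (Submodule.mem_bot F).1 hx
    · intro _ g w hw; rw [(Submodule.mem_bot F).1 hw, map_zero]
  have mkW : ∀ S : LinearMap.BilinForm F V, (∀ x y, S x y = S y x) → FormInv ρ Y S → Nondeg Y S →
      (p = 2 → ∀ g : G, ∀ w ∈ Y, ρ g w = w) → Good ρ p Y := by
    intro S hS hSi hSn htriv
    exact ⟨⊥, Y, bot_le, le_rfl, by simp, by simp, hbot, hY.2.1,
      ⟨0, fun x => by simp, fun g x _ y _ => by simp, fun x hx _ => (Submodule.mem_bot F).1 hx⟩,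
      ⟨S, hS, hSi, hSn⟩, htriv⟩
  let S₀ : LinearMap.BilinForm F V := B + B.flip
  have hS₀ : ∀ g x y, S₀ (ρ g x) (ρ g y) = S₀ x y := fun g x y => by
    simp [S₀, hB g x y, hB g y x]
  by_cases hS : ∃ x ∈ Y, ∃ y ∈ Y, S₀ x y ≠ 0
  · have hn := nondeg_of_minimal ρ hS₀ hY hS
    by_cases hp : p = 2
    · subst hp
      refine mkU S₀ (fun x _ => ?_) (fun g x _ y _ => hS₀ g x y) hn
      simp only [S₀, LinearMap.add_apply, LinearMap.flip_apply]
      exact CharTwo.add_self_eq_zero _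
    · exact mkW S₀ (fun x y => by simp [S₀, add_comm]) (fun g x _ y _ => hS₀ g x y) hn
        (fun h => absurd h hp)
  push Not at hS
  have hanti : ∀ x ∈ Y, ∀ y ∈ Y, B x y + B y x = 0 := fun x hx y hy => by simpa [S₀] using hS x hx y hy
  by_cases hp : p = 2
  swap
  · refine mkU B (fun x hx => ?_) (fun g x _ y _ => hB g x y) hnd
    have h2 : (2 : F) ≠ 0 := by
      intro h
      have : ((2 : ℕ) : F) = 0 := by exact_mod_cast h
      rw [CharP.cast_eq_zero_iff F p, Nat.prime_dvd_prime_iff_eq Fact.out Nat.prime_two] at this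
      exact hp this
    have := hanti x hx x hx
    rw [← two_mul, mul_eq_zero] at this
    exact this.resolve_left h2
  subst hp
  have hsym : ∀ x ∈ Y, ∀ y ∈ Y, B x y = B y x := fun x hx y hy => by
    have := hanti x hx y hy
    rwa [CharTwo.add_eq_zero] at this
  let K : Submodule F V :=
    { carrier := {y | y ∈ Y ∧ B y y = 0}
      zero_mem' := ⟨zero_mem _, by simp⟩
      add_mem' := fun {a b} ha hb => ⟨add_mem ha.1 hb.1, by
        simp [ha.2, hb.2, hsym b hb.1 a ha.1, CharTwo.add_self_eq_zero]⟩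
      smul_mem' := fun c {a} ha => ⟨Y.smul_mem c ha.1, by simp [ha.2]⟩ }
  have hKi : Inv ρ K := fun g u hu => ⟨hY.2.1 g u hu.1, by rw [hB]; exact hu.2⟩
  rcases hY.2.2 K (fun x hx => hx.1) hKi with hK | hK
  · obtain ⟨Y', hY'⟩ := Submodule.exists_isCompl Y
    obtain ⟨P, Q, hP, hQ⟩ := exists_proj hY'.inf_eq_bot
    refine mkW (B.compl₁₂ P P) ?_ ?_ ?_ ?_
    · intro x y
      have hin : ∀ z : V, P z ∈ Y := fun z => by
        obtain ⟨a, ha, b, hb, rfl⟩ := Submodule.mem_sup.1 (hY'.sup_eq_top.symm ▸ Submodule.mem_top (x := z))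
        simp [(hP a ha).1, (hQ b hb).1, ha]
      simpa using hsym _ (hin x) _ (hin y)
    · intro g x hx y hy
      simp [(hP x hx).1, (hP y hy).1, (hP _ (hY.2.1 g x hx)).1, (hP _ (hY.2.1 g y hy)).1, hB g x y]
    · intro x hx h
      exact hnd x hx fun y hy => by simpa [(hP x hx).1, (hP y hy).1] using h y hy
    · intro _ g w hw
      have hgw := hY.2.1 g w hw
      have : ρ g w - w ∈ K := ⟨sub_mem hgw hw, by
        simp [map_sub, hB g w w, hsym _ hgw w hw, CharTwo.sub_eq_add]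
        rw [add_comm (B w (ρ g w)) (B w w)]
        exact CharTwo.add_self_eq_zero _⟩
      rw [hK, Submodule.mem_bot, sub_eq_zero] at this
      exact this
  · refine mkU B (fun x hx => ?_) (fun g x _ y _ => hB g x y) hnd
    rw [← hK] at hx
    exact hx.2

/-- a hyperbolic pair of totally isotropic subspaces is good -/
theorem good_hyperbolic (p : ℕ) {B : LinearMap.BilinForm F V}
    (hB : ∀ g x y, B (ρ g x) (ρ g y) = B x y) {T U : Submodule F V} (hTi : Inv ρ T) (hUi : Inv ρ U)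
    (hd : T ⊓ U = ⊥) (h1 : ∀ t ∈ T, (∀ u ∈ U, B t u = 0) → t = 0)
    (h2 : ∀ u ∈ U, (∀ t ∈ T, B t u = 0) → u = 0) : Good ρ p (T ⊔ U) := by
  obtain ⟨P, Q, hP, hQ⟩ := exists_proj hd
  refine ⟨T ⊔ U, ⊥, le_rfl, bot_le, by simp, by simp, inv_sup ρ hTi hUi, ?_,
    ⟨B.compl₁₂ P Q - (B.compl₁₂ P Q).flip, fun x => by simp, ?_, ?_⟩,
    ⟨0, fun x y => by simp, fun g x _ y _ => by simp, fun x hx _ => (Submodule.mem_bot F).1 hx⟩, ?_⟩
  · intro g u hu; rw [(Submodule.mem_bot F).1 hu, map_zero]; exact zero_mem _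
  · intro g x hx y hy
    obtain ⟨x₁, hx₁, x₂, hx₂, rfl⟩ := Submodule.mem_sup.1 hx
    obtain ⟨y₁, hy₁, y₂, hy₂, rfl⟩ := Submodule.mem_sup.1 hy
    simp [(hP x₁ hx₁).1, (hP x₁ hx₁).2, (hQ x₂ hx₂).1, (hQ x₂ hx₂).2, (hP y₁ hy₁).1, (hP y₁ hy₁).2,
      (hQ y₂ hy₂).1, (hQ y₂ hy₂).2, (hP _ (hTi g _ hx₁)).1, (hP _ (hTi g _ hx₁)).2,
      (hQ _ (hUi g _ hx₂)).1, (hQ _ (hUi g _ hx₂)).2, (hP _ (hTi g _ hy₁)).1, (hP _ (hTi g _ hy₁)).2,
      (hQ _ (hUi g _ hy₂)).1, (hQ _ (hUi g _ hy₂)).2, hB g x₁ y₂, hB g y₁ x₂]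
  · intro x hx hh
    obtain ⟨x₁, hx₁, x₂, hx₂, rfl⟩ := Submodule.mem_sup.1 hx
    have e1 : x₁ = 0 := h1 x₁ hx₁ fun u hu => by
      simpa [(hP x₁ hx₁).1, (hP x₁ hx₁).2, (hQ x₂ hx₂).1, (hQ x₂ hx₂).2, (hQ u hu).1, (hQ u hu).2]
        using hh u (Submodule.mem_sup_right hu)
    have e2 : x₂ = 0 := h2 x₂ hx₂ fun t ht => by
      simpa [(hP x₁ hx₁).1, (hP x₁ hx₁).2, (hQ x₂ hx₂).1, (hQ x₂ hx₂).2, (hP t ht).1, (hP t ht).2]
        using hh t (Submodule.mem_sup_left ht)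
    rw [e1, e2, add_zero]
  · intro _ g w hw; rw [(Submodule.mem_bot F).1 hw, map_zero]

/-- a good nondegenerate piece -/
theorem exists_piece [Finite G] (p : ℕ) [Fact p.Prime] [CharP F p] (hG : (Nat.card G : F) ≠ 0)
    {B : LinearMap.BilinForm F V} (hB : ∀ g x y, B (ρ g x) (ρ g y) = B x y)
    {X : Submodule F V} (hXi : Inv ρ X) (hX0 : X ≠ ⊥) (hnd : Nondeg X B) :
    ∃ Y ≤ X, Y ≠ ⊥ ∧ Inv ρ Y ∧ Nondeg Y B ∧ Good ρ p Y := by
  have hflip : ∀ g x y, B.flip (ρ g x) (ρ g y) = B.flip x y := fun g x y => hB g y x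
  obtain ⟨T, hTX, hT⟩ := exists_minimal ρ hXi hX0
  by_cases hTT : ∃ x ∈ T, ∃ y ∈ T, B x y ≠ 0
  · have := nondeg_of_minimal ρ hB hT hTT
    exact ⟨T, hTX, hT.1, hT.2.1, this, good_minimal ρ p hB hT this⟩
  push Not at hTT
  -- complement of a perp, paired with `T`
  have mk : ∀ A : LinearMap.BilinForm F V, (∀ g x y, A (ρ g x) (ρ g y) = A x y) →
      (∀ t ∈ T, ∀ t' ∈ T, A t t' = 0) → (∀ x ∈ X, (∀ y ∈ X, A x y = 0) → x = 0) →
      ∃ U ≤ X, Inv ρ U ∧ T ⊓ U = ⊥ ∧ (∀ t ∈ T, (∀ u ∈ U, A t u = 0) → t = 0) ∧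
        (∀ u ∈ U, (∀ t ∈ T, A t u = 0) → u = 0) := by
    intro A hA hAT hAnd
    obtain ⟨U, hUX, hUi, hd, hs⟩ := exists_complement ρ hG
      (inv_rightPerp ρ hA hT.2.1 hXi) hXi inf_le_left
    refine ⟨U, hUX, hUi, ?_, ?_, ?_⟩
    · rw [eq_bot_iff, ← hd]
      exact inf_le_inf_right _ fun t ht => mem_rightPerp.2 ⟨hTX ht, fun t' ht' => hAT t' ht' t ht⟩
    · intro t ht hh
      refine hAnd t (hTX ht) fun y hy => ?_
      rw [← hs] at hy
      obtain ⟨l, hl, u, hu, rfl⟩ := Submodule.mem_sup.1 hy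
      simp [(mem_rightPerp.1 hl).2 t ht, hh u hu]
    · intro u hu hh
      have : u ∈ rightPerp A T X ⊓ U := ⟨mem_rightPerp.2 ⟨hUX hu, hh⟩, hu⟩
      rwa [hd, Submodule.mem_bot] at this
  have hndr : ∀ x ∈ X, (∀ y ∈ X, B.flip x y = 0) → x = 0 := by
    intro x hx hh
    -- the left kernel is trivial, so the right kernel is
    by_contra hx0
    let f : X →ₗ[F] Module.Dual F X := B.compl₁₂ X.subtype X.subtype
    have hinj : Function.Injective f := by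
      rw [← LinearMap.ker_eq_bot, LinearMap.ker_eq_bot']
      intro u hu
      exact Subtype.ext (hnd u u.2 fun t ht => by simpa [f] using LinearMap.congr_fun hu ⟨t, ht⟩)
    have hsurj := (LinearMap.injective_iff_surjective_of_finrank_eq_finrank
      (by rw [Subspace.dual_finrank_eq])).1 hinj
    obtain ⟨φ, hφ⟩ : ∃ φ : Module.Dual F X, φ ⟨x, hx⟩ ≠ 0 := by
      by_contra hc
      push Not at hc
      exact hx0 (congrArg Subtype.val ((Module.forall_dual_apply_eq_zero_iff F _).1 hc))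
    obtain ⟨u, hu⟩ := hsurj φ
    apply hφ
    rw [← hu]
    simpa [f] using hh u u.2
  -- the diagonal-type candidate
  have key : ∀ U : Submodule F V, U ≤ X → Inv ρ U → T ⊓ U = ⊥ →
      (∀ t ∈ T, (∀ u ∈ U, B t u = 0) → t = 0) → (∀ u ∈ U, (∀ t ∈ T, B t u = 0) → u = 0) →
      (∀ t ∈ T, (∀ u ∈ U, B u t = 0) → t = 0) → (∀ u ∈ U, (∀ t ∈ T, B u t = 0) → u = 0) →
      ∃ Y ≤ X, Y ≠ ⊥ ∧ Inv ρ Y ∧ Nondeg Y B ∧ Good ρ p Y := by
    intro U hUX hUi hd h1 h2 h3 h4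
    have hU : Minimal' ρ U := minimal_of_pairing ρ hB hT hUi h1 h2
    by_cases hUU : ∃ x ∈ U, ∃ y ∈ U, B x y ≠ 0
    · have := nondeg_of_minimal ρ hB hU hUU
      exact ⟨U, hUX, hU.1, hUi, this, good_minimal ρ p hB hU this⟩
    push Not at hUU
    refine ⟨T ⊔ U, sup_le hTX hUX, fun h => hT.1 (le_bot_iff.1 (h ▸ le_sup_left)), inv_sup ρ hT.2.1 hUi,
      ?_, good_hyperbolic ρ p hB hT.2.1 hUi hd h1 h2⟩
    intro x hx hh
    obtain ⟨t, ht, u, hu, rfl⟩ := Submodule.mem_sup.1 hx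
    have e1 : t = 0 := h1 t ht fun v hv => by
      simpa [hUU u hu v hv] using hh v (Submodule.mem_sup_right hv)
    have e2 : u = 0 := h4 u hu fun s hs => by
      simpa [hTT t ht s hs] using hh s (Submodule.mem_sup_left hs)
    rw [e1, e2, add_zero]
  obtain ⟨U₀, hU₀X, hU₀i, hd₀, a1, a2⟩ := mk B hB hTT hnd
  obtain ⟨U₁, hU₁X, hU₁i, hd₁, b1, b2⟩ := mk B.flip hflip (fun t ht t' ht' => hTT t' ht' t ht) hndr
  have hU₀ := minimal_of_pairing ρ hB hT hU₀i a1 a2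
  have hU₁ := minimal_of_pairing ρ hflip hT hU₁i b1 b2
  by_cases h0 : ∃ x ∈ U₀, ∃ y ∈ T, B x y ≠ 0
  · have c1 := pairing_of_minimal ρ hB hU₀ hT.2.1 h0
    obtain ⟨x, hx, y, hy, hxy⟩ := h0
    have c2 := pairing_of_minimal ρ hflip hT hU₀i ⟨y, hy, x, hx, by simpa using hxy⟩
    exact key U₀ hU₀X hU₀i hd₀ a1 a2 (fun t ht hh => c2 t ht fun u hu => by simpa using hh u hu) c1
  push Not at h0
  by_cases h1 : ∃ x ∈ T, ∃ y ∈ U₁, B x y ≠ 0
  · have c1 := pairing_of_minimal ρ hB hT hU₁i h1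
    obtain ⟨x, hx, y, hy, hxy⟩ := h1
    have c2 := pairing_of_minimal ρ hflip hU₁ hT.2.1 ⟨y, hy, x, hx, by simpa using hxy⟩
    exact key U₁ hU₁X hU₁i hd₁ c1 (fun u hu hh => c2 u hu fun t ht => by simpa using hh t ht)
      (fun t ht hh => b1 t ht fun u hu => by simpa using hh u hu)
      (fun u hu hh => b2 u hu fun t ht => by simpa using hh t ht)
  push Not at h1
  have hdim₁ : Module.finrank F U₁ = Module.finrank F T := le_antisymm
    (finrank_le_of_nondeg (A := B) (fun u hu hh => b2 u hu fun t ht => by simpa using hh t ht))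
    (finrank_le_of_nondeg (A := B.flip) (fun t ht hh => b1 t ht hh))
  let U₂ : Submodule F V :=
    { carrier := {x | x ∈ U₀ ⊔ U₁ ∧ ∀ t ∈ T, B x t = B t x}
      zero_mem' := ⟨zero_mem _, fun t _ => by simp⟩
      add_mem' := fun {a b} ha hb => ⟨add_mem ha.1 hb.1, fun t ht => by simp [ha.2 t ht, hb.2 t ht]⟩
      smul_mem' := fun c {a} ha => ⟨Submodule.smul_mem _ c ha.1, fun t ht => by simp [ha.2 t ht]⟩ }
  have hU₂i : Inv ρ U₂ := by
    intro g x hx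
    refine ⟨inv_sup ρ hU₀i hU₁i g x hx.1, fun t ht => ?_⟩
    rw [← inv_inv_apply ρ g t, hB, hB]
    exact hx.2 _ (hT.2.1 _ t ht)
  have hkey : ∀ x ∈ U₂, (∀ t ∈ T, B t x = 0) → x = 0 := by
    rintro x ⟨hx, hsx⟩ hh
    obtain ⟨u, hu, v, hv, rfl⟩ := Submodule.mem_sup.1 hx
    have e1 : u = 0 := a2 u hu fun t ht => by simpa [h1 t ht v hv] using hh t ht
    have e2 : v = 0 := b2 v hv fun t ht => by
      have := hsx t ht
      rw [hh t ht] at this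
      simpa [h0 u hu t ht] using this
    rw [e1, e2, add_zero]
  have hlift : ∀ u ∈ U₀, ∃ x ∈ U₂, ∀ t ∈ T, B t x = B t u := by
    intro u hu
    obtain ⟨v, hv, hvt⟩ := exists_dual_vec (A := B) (T := T) (U := U₁)
      (fun w hw hh => b2 w hw fun t ht => by simpa using hh t ht) hdim₁ ((B.flip u).comp T.subtype)
    have hvt' : ∀ t ∈ T, B v t = B t u := fun t ht => by simpa using hvt ⟨t, ht⟩
    refine ⟨u + v, ⟨Submodule.add_mem_sup hu hv, fun t ht => ?_⟩, fun t ht => ?_⟩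
    · simp [h0 u hu t ht, h1 t ht v hv, hvt' t ht]
    · simp [h1 t ht v hv]
  have c1 : ∀ t ∈ T, (∀ x ∈ U₂, B t x = 0) → t = 0 := fun t ht hh => a1 t ht fun u hu => by
    obtain ⟨x, hx, hxu⟩ := hlift u hu
    rw [← hxu t ht]; exact hh x hx
  refine key U₂ (fun x hx => (sup_le hU₀X hU₁X) hx.1) hU₂i ?_ c1 hkey ?_ ?_
  · rw [eq_bot_iff]
    rintro x ⟨hxT, hx⟩
    exact (Submodule.mem_bot F).2 (hkey x hx fun t ht => hTT t ht x hxT)
  · intro t ht hh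
    exact c1 t ht fun x hx => by rw [← hx.2 t ht]; exact hh x hx
  · intro x hx hh
    exact hkey x hx fun t ht => by rw [← hx.2 t ht]; exact hh t ht

theorem good_of_nondeg [Finite G] (p : ℕ) [Fact p.Prime] [CharP F p] (hG : (Nat.card G : F) ≠ 0)
    {B : LinearMap.BilinForm F V} (hB : ∀ g x y, B (ρ g x) (ρ g y) = B x y)
    (X : Submodule F V) (hXi : Inv ρ X) (hnd : Nondeg X B) : Good ρ p X := by
  generalize hn : Module.finrank F X = n
  induction n using Nat.strong_induction_on generalizing X with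
  | h n ih =>
    by_cases hX0 : X = ⊥
    · subst hX0; exact good_bot ρ p
    obtain ⟨Y, hYX, hY0, hYi, hYn, hYg⟩ := exists_piece ρ p hG hB hXi hX0 hnd
    let X' := rightPerp B.flip Y X
    have hflip : ∀ g x y, B.flip (ρ g x) (ρ g y) = B.flip x y := fun g x y => hB g y x
    have hX'i : Inv ρ X' := inv_rightPerp ρ hflip hYi hXi
    have hmem : ∀ x, x ∈ X' ↔ x ∈ X ∧ ∀ y ∈ Y, B x y = 0 := fun x => by
      simp [X', mem_rightPerp]
    have hd : Y ⊓ X' = ⊥ := by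
      rw [eq_bot_iff]
      rintro x ⟨hx, hx'⟩
      exact (Submodule.mem_bot F).2 (hYn x hx ((hmem x).1 hx').2)
    have hs : Y ⊔ X' = X := by
      refine le_antisymm (sup_le hYX inf_le_left) fun x hx => ?_
      obtain ⟨y, hy, hyx⟩ := exists_dual_vec (A := B) (T := Y) (U := Y) (fun u hu h => hYn u hu h) rfl
        ((B x).comp Y.subtype)
      rw [Submodule.mem_sup]
      refine ⟨y, hy, x - y, (hmem _).2 ⟨sub_mem hx (hYX hy), fun z hz => ?_⟩, by abel⟩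
      have := hyx ⟨z, hz⟩
      simp at this
      simp [this]
    have hX'n : Nondeg X' B := by
      intro x hx hh
      refine hnd x ((hmem x).1 hx).1 fun z hz => ?_
      rw [← hs] at hz
      obtain ⟨y, hy, w, hw, rfl⟩ := Submodule.mem_sup.1 hz
      simp [((hmem x).1 hx).2 y hy, hh w hw]
    have hlt : Module.finrank F X' < n := by
      rw [← hn]
      refine Submodule.finrank_lt_finrank_of_lt (lt_of_le_of_ne inf_le_left fun h => hY0 ?_)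
      rw [eq_bot_iff, ← hd]
      exact le_inf le_rfl (h.symm ▸ hYX)
    rw [← hs]
    exact good_sup ρ hYi hX'i hd hYg (ih _ hlt X' hX'i hX'n rfl)

end Cfsg.Agent.SelfDualSplit
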