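import Mathlib
import Cfsg.Agent.Lib.KnorrHeis81
import Cfsg.Agent.S4966

/-!
Knörr's class function for an arbitrary self-dual coprime module.
-/

set_option autoImplicit false
set_option linter.unusedSectionVars false

open Cfsg Cfsg.Agent.CharBasic Cfsg.Agent.CharBasicDecomp Cfsg.Agent.KnorrBase81
  Cfsg.Agent.KnorrDelta81

namespace Cfsg.Agent.KnorrDelta81Split

universe u v

variable {p : ℕ} [hp : Fact p.Prime] {H : Type u} [Group H] [Fintype H]
  {M : Type v} [AddCommGroup M] [Module (ZMod p) M] [Fintype M]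

/-- An invariant submodule as a representation. -/
noncomputable def subRep (ρ : Representation (ZMod p) H M) (U : Submodule (ZMod p) M)
    (hU : ∀ g : H, ∀ u ∈ U, ρ g u ∈ U) : Representation (ZMod p) H U where
  toFun g := (ρ g).restrict (hU g)
  map_one' := LinearMap.ext fun x => Subtype.ext (show ρ 1 (x : M) = x by rw [map_one]; rfl)
  map_mul' g g' := LinearMap.ext fun x =>
    Subtype.ext (show ρ (g * g') (x : M) = ρ g (ρ g' x) by rw [map_mul]; rfl)

theorem subRep_apply (ρ : Representation (ZMod p) H M) (U : Submodule (ZMod p) M)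
    (hU : ∀ g : H, ∀ u ∈ U, ρ g u ∈ U) (g : H) (x : U) :
    ((subRep ρ U hU g x : U) : M) = ρ g x := rfl

theorem good_trivial (ρ : Representation (ZMod p) H M) (h : ∀ g x, ρ g x = x) :
    Good ρ (fun _ => 1) := by
  refine ⟨intFun_char (isCharacter_one (G := H)), rfl, fun g => ?_, fun _ => isIntegral_one,
    fun g hg => absurd (LinearMap.ext fun x => h g x) hg, fun N _ g => one_mem _⟩
  have e : LinearMap.ker (ρ g - 1) = ⊤ := eq_top_iff.2 fun x _ => (mem_ker_iff ρ g x).2 (h g x)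
  rw [fixCard, e, Nat.card_congr (Submodule.topEquiv (R := ZMod p) (M := M)).toEquiv]
  simp

theorem exists_good (ρ : Representation (ZMod p) H M) (hcop : ¬ p ∣ Nat.card H)
    (B : LinearMap.BilinForm (ZMod p) M) (hB : B.Nondegenerate)
    (hBinv : ∀ g : H, ∀ x y : M, B (ρ g x) (ρ g y) = B x y) : ∃ δ, Good ρ δ := by
  classical
  obtain ⟨U, W, hUW, hU, hW, ⟨A, hA, hAinv, hAnd⟩, ⟨S, hS, hSinv, hSnd⟩, h2⟩ :=
    S4966.result p hcop ρ B hB hBinv
  haveI : Fintype U := Fintype.ofFinite _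
  haveI : Fintype W := Fintype.ofFinite _
  obtain ⟨δ₁, hδ₁⟩ := KnorrHeis81.good_alt (subRep ρ U hU) hcop
    (A.compl₁₂ U.subtype U.subtype) (fun x => hA x) (fun g x y => hAinv g x x.2 y y.2)
    (fun x hx => Subtype.ext (hAnd x x.2 fun y hy => hx ⟨y, hy⟩))
  obtain ⟨δ₂, hδ₂⟩ : ∃ δ, Good (subRep ρ W hW) δ := by
    by_cases hp2 : p = 2
    · exact ⟨_, good_trivial _ fun g x => Subtype.ext (h2 hp2 g x x.2)⟩
    · exact good_symm (subRep ρ W hW) hcop hp2 (S.compl₁₂ W.subtype W.subtype)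
        (fun x y => hS x y) (fun g x y => hSinv g x x.2 y y.2)
        (fun x hx => Subtype.ext (hSnd x x.2 fun y hy => hx ⟨y, hy⟩))
  let e := Submodule.prodEquivOfIsCompl U W hUW
  have he : ∀ z, e z = (z.1 : M) + z.2 := fun z => rfl
  have hcard : Nat.card M = Nat.card U * Nat.card W := by
    rw [← Nat.card_prod, Nat.card_congr e.toEquiv]
  have hρ : ∀ g z, ρ g (e z) = e (subRep ρ U hU g z.1, subRep ρ W hW g z.2) := fun g z => by
    rw [he, he, map_add]; rfl
  have hfix : ∀ g, fixCard ρ g = fixCard (subRep ρ U hU) g * fixCard (subRep ρ W hW) g := by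
    intro g
    rw [fixCard, fixCard, fixCard, ← Nat.card_prod]
    have hiff : ∀ z : U × W, (subRep ρ U hU g z.1 = z.1 ∧ subRep ρ W hW g z.2 = z.2) ↔
        ρ g (e z) = e z := fun z => by rw [hρ, e.injective.eq_iff, Prod.ext_iff]
    refine Nat.card_congr
      { toFun := fun x => (⟨(e.symm x).1, (mem_ker_iff _ g _).2 ((hiff (e.symm x)).2 (by
          rw [e.apply_symm_apply]; exact (mem_ker_iff ρ g _).1 x.2)).1⟩,
          ⟨(e.symm x).2, (mem_ker_iff _ g _).2 ((hiff (e.symm x)).2 (by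
          rw [e.apply_symm_apply]; exact (mem_ker_iff ρ g _).1 x.2)).2⟩)
        invFun := fun z => ⟨e (z.1.1, z.2.1), (mem_ker_iff ρ g _).2 ((hiff _).1
          ⟨(mem_ker_iff _ g _).1 z.1.2, (mem_ker_iff _ g _).1 z.2.2⟩)⟩
        left_inv := fun x => Subtype.ext (e.apply_symm_apply _)
        right_inv := fun z => by
          refine Prod.ext (Subtype.ext ?_) (Subtype.ext ?_)
          · show (e.symm (e (z.1.1, z.2.1))).1 = _
            rw [e.symm_apply_apply]
          · show (e.symm (e (z.1.1, z.2.1))).2 = _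
            rw [e.symm_apply_apply] }
  refine ⟨fun h => δ₁ h * δ₂ h, intFun_mul hδ₁.intFun hδ₂.intFun, ?_, fun g => ?_,
    fun g => (hδ₁.integral g).mul (hδ₂.integral g), fun g hg P hP => ?_, fun N hN g => ?_⟩
  · show δ₁ 1 * δ₂ 1 = 1
    rw [hδ₁.one, hδ₂.one, mul_one]
  · rw [map_mul, hfix, hcard, Nat.cast_mul, Nat.cast_mul, ← hδ₁.normSq g, ← hδ₂.normSq g]
    ring
  · have h12 : subRep ρ U hU g ≠ 1 ∨ subRep ρ W hW g ≠ 1 := by
      by_contra! h
      apply hg
      refine LinearMap.ext fun x => ?_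
      obtain ⟨z, rfl⟩ := e.surjective x
      rw [hρ, h.1, h.2]
      rfl
    rcases h12 with h | h
    · obtain ⟨w, hw, hwe⟩ := hδ₁.mem g h P hP
      exact ⟨w * ⟨δ₂ g, hδ₂.integral g⟩, P.mul_mem_right _ hw, by push_cast; rw [hwe]⟩
    · obtain ⟨w, hw, hwe⟩ := hδ₂.mem g h P hP
      exact ⟨⟨δ₁ g, hδ₁.integral g⟩ * w, P.mul_mem_left _ hw, by push_cast; rw [hwe]⟩
  · have hU' : p * Nat.card U * Nat.card H ∣ N :=
      (Nat.mul_dvd_mul_right (Nat.mul_dvd_mul_left p (Dvd.intro _ hcard.symm)) _).trans hN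
    have hW' : p * Nat.card W * Nat.card H ∣ N :=
      (Nat.mul_dvd_mul_right (Nat.mul_dvd_mul_left p (Dvd.intro_left _ hcard.symm)) _).trans hN
    exact mul_mem (hδ₁.field N hU' g) (hδ₂.field N hW' g)

end Cfsg.Agent.KnorrDelta81Split
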