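import Mathlib

set_option autoImplicit false

/-!
# Krull–Schmidt theorem for finite groups

Uniqueness of decompositions into directly indecomposable factors, by normal endomorphisms.
-/

namespace Cfsg.KrullSchmidt

universe u v

/-- Directly indecomposable: not an internal direct product of two nontrivial normal subgroups. -/
def Indec (A : Type*) [Group A] : Prop :=
  ∀ H K : Subgroup A, H.Normal → K.Normal → H ⊓ K = ⊥ → H ⊔ K = ⊤ → H = ⊥ ∨ K = ⊥

/-- An endomorphism commuting with inner automorphisms. -/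
def IsNormalEnd {A : Type*} [Group A] (f : A →* A) : Prop :=
  ∀ a x : A, f (a * x * a⁻¹) = a * f x * a⁻¹

variable {A : Type*} [Group A]

lemma exists_iterate (f : A →* A) (hf : IsNormalEnd f) :
    ∀ n : ℕ, ∃ g : A →* A, IsNormalEnd g ∧ ∀ x, g x = f^[n] x
  | 0 => ⟨MonoidHom.id A, fun _ _ => rfl, fun _ => rfl⟩
  | n + 1 => by
    obtain ⟨g, hg, hgx⟩ := exists_iterate f hf n
    refine ⟨f.comp g, fun a x => ?_, fun x => ?_⟩
    · simp only [MonoidHom.comp_apply]
      rw [hg a x, hf a (g x)]
    · rw [Function.iterate_succ_apply', ← hgx]; rfl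

/-- Fitting's lemma: a normal endomorphism of an indecomposable finite group is bijective or
nilpotent. -/
lemma bijective_or_nilpotent [Finite A] (hA : Indec A) (f : A →* A) (hf : IsNormalEnd f) :
    Function.Bijective f ∨ ∃ n : ℕ, ∀ x, f^[n] x = 1 := by
  obtain ⟨a, b, hab, he⟩ := Finite.exists_ne_map_eq_of_infinite (fun k : ℕ => f^[k])
  wlog hlt : a < b generalizing a b
  · exact this b a (Ne.symm hab) he.symm (by omega)
  obtain ⟨d, hd⟩ : ∃ d, b = a + d := ⟨b - a, by omega⟩
  have step : ∀ m, a ≤ m → f^[m + d] = f^[m] := by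
    intro m hm
    obtain ⟨r, hr⟩ := Nat.exists_eq_add_of_le hm
    subst hr
    rw [show a + r + d = r + b by omega, show a + r = r + a by omega, Function.iterate_add,
      Function.iterate_add f r a]
    rw [he]
  have steps : ∀ k m, a ≤ m → f^[m + d * k] = f^[m] := by
    intro k
    induction k with
    | zero => simp
    | succ k ih =>
      intro m hm
      rw [show m + d * (k + 1) = m + d * k + d by ring, step _ (by omega), ih m hm]
  set n := d * (a + 1) with hn
  have hd1 : 1 ≤ d := by omega
  have hna : a + 1 ≤ n := by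
    rw [hn]
    exact Nat.le_mul_of_pos_left _ hd1
  obtain ⟨g, hg, hgx⟩ := exists_iterate f hf n
  have hidem : ∀ x, g (g x) = g x := by
    intro x
    rw [hgx (g x), hgx x, ← Function.iterate_add_apply]
    have := steps (a + 1) n (by omega)
    rw [← hn] at this
    rw [this]
  have hK : g.ker.Normal := inferInstance
  have hR : g.range.Normal := by
    refine ⟨?_⟩
    rintro y ⟨x, rfl⟩ c
    exact ⟨c * x * c⁻¹, hg c x⟩
  have hinf : g.ker ⊓ g.range = ⊥ := by
    rw [eq_bot_iff]
    rintro y ⟨hy1, x, rfl⟩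
    rw [Subgroup.mem_bot, ← hidem x]
    exact hy1
  have hsup : g.ker ⊔ g.range = ⊤ := by
    rw [eq_top_iff]
    intro x _
    have hk : x * (g x)⁻¹ ∈ g.ker := by
      rw [MonoidHom.mem_ker, map_mul, map_inv, hidem, mul_inv_cancel]
    have hr : g x ∈ g.range := ⟨x, rfl⟩
    have := (g.ker ⊔ g.range).mul_mem (Subgroup.mem_sup_left hk) (Subgroup.mem_sup_right hr)
    simpa using this
  rcases hA _ _ hK hR hinf hsup with h | h
  · left
    apply Finite.injective_iff_bijective.1
    intro x y hxy
    have : g x = g y := by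
      rw [hgx, hgx, show n = (n - 1) + 1 by omega, Function.iterate_succ_apply,
        Function.iterate_succ_apply, hxy]
    exact (MonoidHom.ker_eq_bot_iff g).1 h this
  · right
    refine ⟨n, fun x => ?_⟩
    rw [← hgx]
    have : g x ∈ g.range := ⟨x, rfl⟩
    rw [h] at this
    exact this

/-- If a sum of normal endomorphisms is the identity, one of them is bijective. -/
lemma exists_bijective [Finite A] [Nontrivial A] (hA : Indec A) {ι : Type*} [DecidableEq ι]
    (σ : Finset ι → (A →* A)) (hσ : ∀ s, IsNormalEnd (σ s))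
    (h0 : ∀ x, σ ∅ x = 1)
    (hins : ∀ j s, j ∉ s → ∀ x, σ (insert j s) x = σ {j} x * σ s x) :
    ∀ s : Finset ι, Function.Bijective (σ s) → ∃ j, Function.Bijective (σ {j}) := by
  intro s
  induction s using Finset.induction with
  | empty =>
    intro h
    obtain ⟨x, y, hxy⟩ := exists_pair_ne A
    exact absurd (h.1 ((h0 x).trans (h0 y).symm)) hxy
  | @insert j s hj ih =>
    intro h
    set hi := (MulEquiv.ofBijective _ h).symm with hhi
    have hhi' : ∀ x, σ (insert j s) (hi x) = x := fun x =>
      (MulEquiv.ofBijective _ h).apply_symm_apply x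
    have hhn : ∀ a x, hi (a * x * a⁻¹) = a * hi x * a⁻¹ := by
      intro a x
      apply h.1
      rw [hhi', hσ, hhi']
    set f := (σ {j}).comp hi.toMonoidHom with hf
    have hfn : IsNormalEnd f := fun a x => by
      simp only [hf, MonoidHom.comp_apply, MulEquiv.coe_toMonoidHom]
      rw [hhn, hσ]
    rcases bijective_or_nilpotent hA f hfn with hb | ⟨k, hk⟩
    · refine ⟨j, ?_⟩
      have : ⇑(σ {j}) = f ∘ hi.symm := by
        funext x
        simp [hf]
      rw [this]
      exact hb.comp hi.symm.bijective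
    · apply ih
      have hinj : Function.Injective ((σ s).comp hi.toMonoidHom) := by
        rw [injective_iff_map_eq_one]
        intro x hx
        have e := hhi' x
        rw [hins j s hj] at e
        simp only [MonoidHom.comp_apply, MulEquiv.coe_toMonoidHom] at hx
        rw [hx, mul_one] at e
        have : ∀ i, f^[i] x = x := fun i => Function.iterate_fixed e i
        exact (this k).symm.trans (hk x)
      have hb := Finite.injective_iff_bijective.1 hinj
      have : ⇑(σ s) = (σ s).comp hi.toMonoidHom ∘ hi.symm := by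
        funext x
        simp
      rw [this]
      exact hb.comp hi.symm.bijective

/-- Keep the components in `s`. -/
def restr {κ : Type*} [DecidableEq κ] (B : κ → Type*) [∀ j, Group (B j)] (s : Finset κ) :
    (∀ j, B j) →* (∀ j, B j) where
  toFun z j := if j ∈ s then z j else 1
  map_one' := by funext j; simp
  map_mul' z w := by
    funext j
    by_cases h : j ∈ s <;> simp [h]

theorem exchange {k : ℕ} {m : ℕ} {A : Fin (m + 1) → Type u} {B : Fin (k + 1) → Type v}
    [∀ i, Group (A i)] [∀ j, Group (B j)] [∀ i, Finite (A i)] [∀ j, Finite (B j)]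
    (hA : ∀ i, Nontrivial (A i) ∧ Indec (A i)) (hB : ∀ j, Nontrivial (B j) ∧ Indec (B j))
    (e : ((i : Fin (m + 1)) → A i) ≃* ((j : Fin (k + 1)) → B j)) :
    ∃ j, Nonempty (A 0 ≃* B j) ∧
      Nonempty (((i : Fin m) → A i.succ) ≃* ((i : Fin k) → B (j.succAbove i))) := by
  haveI := (hA 0).1
  set ι : A 0 →* ((j : Fin (k + 1)) → B j) :=
    e.toMonoidHom.comp (MonoidHom.mulSingle A 0) with hι
  set ρ : ((j : Fin (k + 1)) → B j) →* A 0 :=
    (Pi.evalMonoidHom A 0).comp e.symm.toMonoidHom with hρ
  have hρι : ∀ a, ρ (ι a) = a := fun a => by simp [hρ, hι]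
  have hconj : ∀ z a, z * ι a * z⁻¹ = ι (ρ z * a * (ρ z)⁻¹) := by
    intro z a
    apply e.symm.injective
    funext i
    by_cases hi : i = 0
    · subst hi; simp [hρ, hι]
    · simp [hι, Pi.mulSingle_eq_of_ne hi]
  set σ : Finset (Fin (k + 1)) → (A 0 →* A 0) :=
    fun s => ρ.comp ((restr B s).comp ι) with hσ
  have hσn : ∀ s, IsNormalEnd (σ s) := by
    intro s a x
    have e1 : restr B s (ι (a * x * a⁻¹)) = ι a * restr B s (ι x) * (ι a)⁻¹ := by
      funext j
      by_cases h : j ∈ s <;> simp [restr, h]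
    show ρ (restr B s (ι (a * x * a⁻¹))) = _
    rw [e1, map_mul, map_mul, map_inv, hρι]
    rfl
  have h0 : ∀ x, σ ∅ x = 1 := by
    intro x
    show ρ (restr B ∅ (ι x)) = 1
    rw [show restr B ∅ (ι x) = 1 by funext j; simp [restr], map_one]
  have hins : ∀ j s, j ∉ s → ∀ x, σ (insert j s) x = σ {j} x * σ s x := by
    intro j s hj x
    show ρ _ = ρ _ * ρ _
    rw [← map_mul]
    congr 1
    funext i
    by_cases hi : i = j
    · subst hi; simp [restr, hj]
    · by_cases h : i ∈ s <;> simp [restr, h, hi]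
  have huniv : Function.Bijective (σ Finset.univ) := by
    have : ⇑(σ Finset.univ) = id := by
      funext x
      show ρ (restr B Finset.univ (ι x)) = x
      rw [show restr B Finset.univ (ι x) = ι x by funext j; simp [restr], hρι]
    rw [this]; exact Function.bijective_id
  obtain ⟨j, hj⟩ := exists_bijective (hA 0).2 σ hσn h0 hins _ huniv
  set φ : A 0 →* B j := (Pi.evalMonoidHom B j).comp ι with hφ
  set ψ : B j →* A 0 := ρ.comp (MonoidHom.mulSingle B j) with hψ
  have hψφ : ⇑(σ {j}) = ψ ∘ φ := by
    funext x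
    show ρ (restr B {j} (ι x)) = ρ (Pi.mulSingle j (ι x j))
    congr 1
    funext i
    by_cases hi : i = j
    · subst hi; simp [restr]
    · simp [restr, hi, Pi.mulSingle_eq_of_ne hi]
  rw [hψφ] at hj
  have hψs : Function.Surjective ψ := hj.2.of_comp
  have hφi : Function.Injective φ := hj.1.of_comp
  have hRn : φ.range.Normal := by
    refine ⟨?_⟩
    rintro y ⟨a, rfl⟩ c
    refine ⟨ρ (Pi.mulSingle j c) * a * (ρ (Pi.mulSingle j c))⁻¹, ?_⟩
    show ι _ j = _
    rw [← hconj]
    simp [hφ]
  have hKn : ψ.ker.Normal := inferInstance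
  have hinf : φ.range ⊓ ψ.ker = ⊥ := by
    rw [eq_bot_iff]
    rintro y ⟨⟨a, rfl⟩, hy⟩
    have : (ψ ∘ φ) a = (ψ ∘ φ) 1 := by
      show ψ (φ a) = ψ (φ 1)
      rw [map_one, map_one]; exact hy
    rw [Subgroup.mem_bot, hj.1 this, map_one]
  have hsup : φ.range ⊔ ψ.ker = ⊤ := by
    rw [eq_top_iff]
    intro y _
    obtain ⟨a, ha⟩ := hj.2 (ψ y)
    have hk : (φ a)⁻¹ * y ∈ ψ.ker := by
      rw [MonoidHom.mem_ker, map_mul, map_inv]
      rw [Function.comp_apply] at ha
      rw [ha, inv_mul_cancel]
    have := (φ.range ⊔ ψ.ker).mul_mem (Subgroup.mem_sup_left (⟨a, rfl⟩ : φ a ∈ φ.range))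
      (Subgroup.mem_sup_right hk)
    simpa using this
  have hψi : Function.Injective ψ := by
    rcases (hB j).2 _ _ hRn hKn hinf hsup with h | h
    · exfalso
      obtain ⟨x, y, hxy⟩ := exists_pair_ne (A 0)
      have hx : φ x ∈ φ.range := ⟨x, rfl⟩
      have hy : φ y ∈ φ.range := ⟨y, rfl⟩
      rw [h, Subgroup.mem_bot] at hx hy
      exact hxy (hφi (hx.trans hy.symm))
    · exact (MonoidHom.ker_eq_bot_iff ψ).1 h
  have hψb : Function.Bijective ψ := ⟨hψi, hψs⟩
  have hφb : Function.Bijective φ := by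
    refine ⟨hφi, fun y => ?_⟩
    obtain ⟨a, ha⟩ := hj.2 (ψ y)
    exact ⟨a, hψi ha⟩
  refine ⟨j, ⟨MulEquiv.ofBijective φ hφb⟩, ?_⟩
  let c : ((i : Fin m) → A i.succ) →* ((i : Fin (m + 1)) → A i) :=
    { toFun := fun x => Fin.cons 1 x
      map_one' := by
        funext i
        refine Fin.cases ?_ ?_ i <;> simp
      map_mul' := fun x y => by
        funext i
        refine Fin.cases ?_ ?_ i <;> simp }
  let Φ : ((i : Fin m) → A i.succ) →* ((i : Fin k) → B (j.succAbove i)) :=
    { toFun := fun x i => e (c x) (j.succAbove i)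
      map_one' := by funext i; simp
      map_mul' := fun x y => by funext i; simp }
  have hρc : ∀ x, ρ (e (c x)) = 1 := fun x => by
    show e.symm (e (c x)) 0 = 1
    rw [MulEquiv.symm_apply_apply]; rfl
  refine ⟨MulEquiv.ofBijective Φ ⟨?_, ?_⟩⟩
  · rw [injective_iff_map_eq_one]
    intro x hx
    have hz : e (c x) = Pi.mulSingle j (e (c x) j) := by
      funext i
      rcases Fin.eq_self_or_eq_succAbove j i with rfl | ⟨i', rfl⟩
      · simp
      · rw [Pi.mulSingle_eq_of_ne (Fin.succAbove_ne j i')]
        exact congrFun hx i'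
    have : ψ (e (c x) j) = ψ 1 := by
      rw [map_one]
      show ρ (Pi.mulSingle j (e (c x) j)) = 1
      rw [← hz, hρc]
    rw [hψi this, Pi.mulSingle_one, ← map_one e] at hz
    funext i
    have := congrFun (e.injective hz) i.succ
    simpa [c] using this
  · intro y
    set z0 : (i : Fin (k + 1)) → B i := Fin.insertNth j 1 y with hz0
    obtain ⟨b, hb⟩ := hψs (ρ z0)⁻¹
    set z := z0 * Pi.mulSingle j b with hz
    have hρz : ρ z = 1 := by
      rw [hz, map_mul]
      show ρ z0 * ψ b = 1
      rw [hb, mul_inv_cancel]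
    refine ⟨Fin.tail (e.symm z), ?_⟩
    have hcz : c (Fin.tail (e.symm z)) = e.symm z := by
      show Fin.cons 1 (Fin.tail (e.symm z)) = _
      have : e.symm z 0 = 1 := hρz
      conv_rhs => rw [← Fin.cons_self_tail (e.symm z)]
      rw [this]
    funext i
    show e (c (Fin.tail (e.symm z))) (j.succAbove i) = y i
    rw [hcz, MulEquiv.apply_symm_apply]
    simp [hz, hz0, Pi.mulSingle_eq_of_ne (Fin.succAbove_ne j i)]

theorem krull_schmidt (m : ℕ) : ∀ {n : ℕ} {A : Fin m → Type u} {B : Fin n → Type v}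
    [∀ i, Group (A i)] [∀ j, Group (B j)] [∀ i, Finite (A i)] [∀ j, Finite (B j)],
    (∀ i, Nontrivial (A i) ∧ Indec (A i)) → (∀ j, Nontrivial (B j) ∧ Indec (B j)) →
    ∀ _ : ((i : Fin m) → A i) ≃* ((j : Fin n) → B j),
    ∃ σ : Fin m ≃ Fin n, ∀ i, Nonempty (A i ≃* B (σ i)) := by
  induction m with
  | zero =>
    intro n A B _ _ _ _ hA hB e
    have hn : n = 0 := by
      rcases Nat.eq_zero_or_pos n with h | h
      · exact h
      · exfalso
        haveI := (hB ⟨0, h⟩).1
        obtain ⟨b, hb⟩ := exists_ne (1 : B ⟨0, h⟩)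
        apply hb
        have : e.symm (Pi.mulSingle ⟨0, h⟩ b) = e.symm 1 := Subsingleton.elim _ _
        have := congrFun (e.symm.injective this) ⟨0, h⟩
        simpa using this
    subst hn
    exact ⟨Equiv.refl _, fun i => i.elim0⟩
  | succ m IH =>
    intro n A B _ _ _ _ hA hB e
    cases n with
    | zero =>
      exfalso
      haveI := (hA 0).1
      obtain ⟨a, ha⟩ := exists_ne (1 : A 0)
      apply ha
      have : e (Pi.mulSingle 0 a) = e 1 := Subsingleton.elim _ _
      have := congrFun (e.injective this) 0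
      simpa using this
    | succ k =>
      obtain ⟨j, ⟨φ⟩, ⟨Φ⟩⟩ := exchange hA hB e
      obtain ⟨σ, hσ⟩ := IH (A := fun i => A i.succ)
        (B := fun i => B (j.succAbove i)) (fun i => hA i.succ) (fun i => hB _) Φ
      refine ⟨(finSuccEquiv m).trans (σ.optionCongr.trans (finSuccEquiv' j).symm), ?_⟩
      intro i
      refine Fin.cases ?_ ?_ i
      · have h : (finSuccEquiv m).trans (σ.optionCongr.trans (finSuccEquiv' j).symm) 0 = j := by
          simp
        rw [h]; exact ⟨φ⟩
      · intro i
        have h : (finSuccEquiv m).trans (σ.optionCongr.trans (finSuccEquiv' j).symm) i.succ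
            = j.succAbove (σ i) := by
          simp
        rw [h]; exact hσ i

end Cfsg.KrullSchmidt
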