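import Mathlib
import Cfsg.Agent.Lib.PGroupsCyclic

/-!
Wielandt's count: the number of subgroups of order `p ^ β` in a finite group of order divisible by
`p ^ β` is congruent to `1` modulo `p`.
-/

set_option autoImplicit false

open scoped Pointwise

namespace Cfsg.Agent.SubgroupCount72

universe u

variable {G : Type u} [Group G]

/-- The stabiliser of a finite subset is stable on it. -/
theorem mul_mem_of_mem_stabilizer [DecidableEq G] {s : Finset G} {h g : G}
    (hh : h ∈ MulAction.stabilizer G s) (hg : g ∈ s) : h * g ∈ s := by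
  have := Finset.smul_mem_smul_finset (a := h) hg
  rwa [MulAction.mem_stabilizer_iff.1 hh, smul_eq_mul] at this

/-- The order of the stabiliser of a finite subset divides its size. -/
theorem card_stabilizer_dvd [Fintype G] [DecidableEq G] (s : Finset G) :
    Nat.card (MulAction.stabilizer G s) ∣ s.card := by
  classical
  set S := MulAction.stabilizer G s
  rw [Finset.card_eq_sum_card_fiberwise (t := Finset.univ)
    (f := fun g : G => (Quotient.mk'' g : Quotient (QuotientGroup.rightRel S)))
    (fun g _ => Finset.mem_univ _)]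
  refine Finset.dvd_sum fun c _ => ?_
  rcases (s.filter fun g => (Quotient.mk'' g : Quotient (QuotientGroup.rightRel S)) = c).eq_empty_or_nonempty
    with he | ⟨g, hg⟩
  · rw [he]; exact dvd_zero _
  rw [Finset.mem_filter] at hg
  obtain ⟨hgs, rfl⟩ := hg
  refine dvd_of_eq ?_
  rw [Nat.card_eq_fintype_card, ← Finset.card_univ]
  refine Finset.card_bij (fun (h : S) _ => (h : G) * g) ?_ ?_ ?_
  · intro h _
    rw [Finset.mem_filter, Quotient.eq'', QuotientGroup.rightRel_apply]
    refine ⟨mul_mem_of_mem_stabilizer h.2 hgs, ?_⟩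
    rw [mul_inv_rev, ← mul_assoc, mul_inv_cancel, one_mul]
    exact inv_mem h.2
  · intro a _ b _ hab
    exact Subtype.ext (mul_right_cancel hab)
  · intro x hx
    rw [Finset.mem_filter, Quotient.eq'', QuotientGroup.rightRel_apply] at hx
    exact ⟨⟨x * g⁻¹, by simpa using inv_mem hx.2⟩, Finset.mem_univ _, by simp⟩

open Classical in
/-- The subsets of size `q` stabilised by a given subgroup of order `q` are its right cosets. -/
theorem card_stabilizer_eq [Fintype G] [DecidableEq G] {q : ℕ} (hq : 0 < q) (H : Subgroup G)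
    (hH : Nat.card H = q) :
    (((Finset.univ : Finset G).powersetCard q).filter fun s => MulAction.stabilizer G s = H).card * q =
      Nat.card G := by
  classical
  let F : G → Finset G := fun g => Finset.univ.filter fun x => x * g⁻¹ ∈ H
  have hF : ∀ g, (F g).card = q := fun g => by
    rw [← hH, Nat.card_eq_fintype_card, ← Finset.card_univ]
    symm
    refine Finset.card_bij (fun (h : H) _ => (h : G) * g) ?_ ?_ ?_
    · intro h _; simp [F]
    · intro a _ b _ hab; exact Subtype.ext (mul_right_cancel hab)
    · intro x hx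
      simp only [F, Finset.mem_filter, Finset.mem_univ, true_and] at hx
      exact ⟨⟨_, hx⟩, Finset.mem_univ _, by simp⟩
  have hFs : ∀ g, MulAction.stabilizer G (F g) = H := by
    intro g
    ext k
    constructor
    · intro hk
      have h1 : g ∈ F g := by simp [F]
      have h2 := mul_mem_of_mem_stabilizer hk h1
      simpa [F] using h2
    · intro hk
      rw [MulAction.mem_stabilizer_iff]
      refine Finset.eq_of_subset_of_card_le ?_ (by rw [Finset.card_smul_finset])
      intro x hx
      rw [Finset.mem_smul_finset] at hx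
      obtain ⟨y, hy, rfl⟩ := hx
      simp only [F, Finset.mem_filter, Finset.mem_univ, true_and] at hy ⊢
      rw [smul_eq_mul, mul_assoc]
      exact mul_mem hk hy
  set T := ((Finset.univ : Finset G).powersetCard q).filter fun s => MulAction.stabilizer G s = H
  have hmaps : ∀ g ∈ (Finset.univ : Finset G), F g ∈ T := fun g _ =>
    Finset.mem_filter.2 ⟨Finset.mem_powersetCard.2 ⟨Finset.subset_univ _, hF g⟩, hFs g⟩
  rw [Nat.card_eq_fintype_card (α := G), ← Finset.card_univ,
    Finset.card_eq_sum_card_fiberwise hmaps, Finset.sum_const_nat (m := q)]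
  intro s hs
  rw [Finset.mem_filter, Finset.mem_powersetCard] at hs
  obtain ⟨⟨-, hsc⟩, hst⟩ := hs
  have hFg : ∀ g ∈ s, F g = s := fun g hg => by
    refine Finset.eq_of_subset_of_card_le ?_ (by rw [hF, hsc])
    intro x hx
    simp only [F, Finset.mem_filter, Finset.mem_univ, true_and, ← hst] at hx
    simpa using mul_mem_of_mem_stabilizer hx hg
  rw [← hsc]
  congr 1
  ext g
  simp only [Finset.mem_filter, Finset.mem_univ, true_and]
  exact ⟨fun h => h ▸ (by simp [F]), hFg g⟩

/-- **Wielandt's congruence.** -/
theorem choose_modEq (G : Type u) [Group G] [Finite G] {p β m : ℕ} (hp : p.Prime)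
    (hG : Nat.card G = p ^ β * m) :
    Nat.choose (p ^ β * m) (p ^ β) ≡
      Nat.card {H : Subgroup G // Nat.card H = p ^ β} * m [MOD p * m] := by
  classical
  haveI := Fintype.ofFinite G
  set q := p ^ β with hq
  have hq0 : 0 < q := pow_pos hp.pos β
  set X := (Finset.univ : Finset G).powersetCard q with hX
  have hXc : X.card = Nat.choose (q * m) q := by
    rw [hX, Finset.card_powersetCard, Finset.card_univ, ← Nat.card_eq_fintype_card, hG]
  rw [← hXc, ← Finset.card_filter_add_card_filter_not (s := X)
    (fun s => Nat.card (MulAction.stabilizer G s) = q)]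
  have h0 : p * m ∣ (X.filter fun s => ¬ Nat.card (MulAction.stabilizer G s) = q).card := by
    rw [Finset.card_eq_sum_card_fiberwise (t := Finset.univ)
      (f := fun s : Finset G => (Quotient.mk'' s : Quotient (MulAction.orbitRel G (Finset G))))
      (fun g _ => Finset.mem_univ _)]
    refine Finset.dvd_sum fun c _ => ?_
    rcases Finset.eq_empty_or_nonempty ((X.filter fun s => ¬ Nat.card (MulAction.stabilizer G s) = q).filter
      fun s => (Quotient.mk'' s : Quotient (MulAction.orbitRel G (Finset G))) = c) with he | ⟨s, hs⟩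
    · rw [he]; exact dvd_zero _
    simp only [Finset.mem_filter, hX, Finset.mem_powersetCard] at hs
    obtain ⟨⟨⟨-, hsc⟩, hst⟩, rfl⟩ := hs
    have heq : ((X.filter fun t => ¬ Nat.card (MulAction.stabilizer G t) = q).filter
        fun t => (Quotient.mk'' t : Quotient (MulAction.orbitRel G (Finset G))) = Quotient.mk'' s).card =
        (MulAction.orbit G s).ncard := by
      rw [← Set.ncard_coe_finset]
      congr 1
      ext t
      simp only [Finset.coe_filter, Finset.mem_filter, Set.mem_setOf_eq, Quotient.eq'',
        MulAction.orbitRel_apply]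
      refine ⟨fun h => h.2, fun h => ⟨?_, h⟩⟩
      obtain ⟨g, rfl⟩ := h
      refine ⟨?_, ?_⟩
      · rw [hX, Finset.mem_powersetCard]
        exact ⟨Finset.subset_univ _, by rw [Finset.card_smul_finset, hsc]⟩
      · rwa [MulAction.stabilizer_smul_eq_stabilizer_map_conj, Subgroup.card_map_of_injective
          (MulEquiv.injective _)]
    rw [heq, ← MulAction.index_stabilizer]
    have hd : Nat.card (MulAction.stabilizer G s) ∣ q := hsc ▸ card_stabilizer_dvd s
    obtain ⟨i, hi, hiq⟩ := (Nat.dvd_prime_pow hp).1 hd
    have hlt : i < β := lt_of_le_of_ne hi fun h => hst (by rw [hiq, h])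
    have hmul := Subgroup.index_mul_card (MulAction.stabilizer G s)
    rw [hiq, hG] at hmul
    obtain ⟨j, hj⟩ := Nat.exists_eq_add_of_lt hlt
    have : (MulAction.stabilizer G s).index = p * m * p ^ j := by
      refine Nat.eq_of_mul_eq_mul_right (pow_pos hp.pos i) ?_
      rw [hmul, hq, hj]
      ring
    rw [this]
    exact dvd_mul_right _ _
  have h1 : (X.filter fun s => Nat.card (MulAction.stabilizer G s) = q).card =
      Nat.card {H : Subgroup G // Nat.card H = q} * m := by
    rw [Nat.card_eq_fintype_card (α := {H : Subgroup G // Nat.card H = q}), Fintype.card_subtype,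
      Finset.card_eq_sum_card_fiberwise (t := Finset.univ.filter fun H : Subgroup G => Nat.card H = q)
        (f := fun s : Finset G => MulAction.stabilizer G s)
        (fun s hs => Finset.mem_filter.2 ⟨Finset.mem_univ _, (Finset.mem_filter.1 hs).2⟩),
      Finset.sum_const_nat]
    intro H hH
    rw [Finset.mem_filter] at hH
    refine Nat.eq_of_mul_eq_mul_right hq0 ?_
    rw [mul_comm m q, ← hG, ← card_stabilizer_eq hq0 H hH.2, ← hX, Finset.filter_filter]
    congr 2
    ext s
    simp only [Finset.mem_filter]
    exact ⟨fun h => ⟨h.1, h.2.2⟩, fun h => ⟨h.1, by rw [h.2]; exact hH.2, h.2⟩⟩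
  rw [h1]
  exact (Nat.modEq_iff_dvd' (Nat.le_add_right _ _)).2 (by rwa [Nat.add_sub_cancel_left]) |>.symm

/-- The number of subgroups of order `p ^ β` is congruent to `1` modulo `p`. -/
theorem card_subgroups_modEq_one [Finite G] {p β : ℕ} (hp : p.Prime)
    (hdiv : p ^ β ∣ Nat.card G) :
    Nat.card {H : Subgroup G // Nat.card H = p ^ β} ≡ 1 [MOD p] := by
  obtain ⟨m, hm⟩ := hdiv
  have hm0 : m ≠ 0 := fun h => Nat.card_pos.ne' (by rw [hm, h, mul_zero] : Nat.card G = 0)
  have h0 : p ^ β * m ≠ 0 := mul_ne_zero (pow_ne_zero _ hp.ne_zero) hm0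
  haveI : NeZero (p ^ β * m) := ⟨h0⟩
  let C := Multiplicative (ZMod (p ^ β * m))
  have hC : Nat.card C = p ^ β * m := by simp [C]
  have hone : Nat.card {H : Subgroup C // Nat.card H = p ^ β} = 1 := by
    rw [Nat.card_eq_one_iff_unique]
    obtain ⟨g, hg⟩ := IsCyclic.exists_generator (α := C)
    have hgo : orderOf g = p ^ β * m := by
      exact (orderOf_eq_card_of_forall_mem_zpowers hg).trans hC
    refine ⟨⟨fun a b => Subtype.ext ?_⟩, ⟨⟨Subgroup.zpowers (g ^ m), ?_⟩⟩⟩
    · exact PGroupsCyclic.eq_of_card_eq_of_isCyclic (A := ⊤)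
        (isCyclic_of_surjective Subgroup.topEquiv.symm.toMonoidHom Subgroup.topEquiv.symm.surjective)
        le_top le_top (a.2.trans b.2.symm)
    · rw [Nat.card_zpowers, orderOf_pow' _ hm0, hgo, Nat.gcd_mul_left_left, Nat.mul_div_cancel _ (Nat.pos_of_ne_zero hm0)]
  have h1 := choose_modEq G hp hm
  have h2 := choose_modEq C hp hC
  rw [hone] at h2
  exact Nat.ModEq.mul_right_cancel' hm0 (h1.symm.trans h2)

end Cfsg.Agent.SubgroupCount72
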