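import Mathlib
import Cfsg.Agent.Lib.PGroupsBasic
import Cfsg.Agent.Lib.SubgroupCount72
import Cfsg.Agent.Lib.MaxClassTwo

set_option autoImplicit false
set_option linter.all false

open Subgroup
open scoped commutatorElement

namespace Cfsg.Agent.Kulakoff73

variable {G : Type*} [Group G] [Finite G] {p : ℕ} [hp : Fact p.Prime]

/-- Number of subgroups of order `p ^ k` inside `A`. -/
noncomputable def cnt (p k : ℕ) (A : Subgroup G) : ℕ :=
  Nat.card {H : Subgroup G // H ≤ A ∧ Nat.card H = p ^ k}

theorem cnt_eq (k : ℕ) (A : Subgroup G) :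
    cnt p k A = Nat.card {H : Subgroup A // Nat.card H = p ^ k} :=
  Nat.card_congr
    { toFun := fun H => ⟨H.1.subgroupOf A, (Nat.card_congr (subgroupOfEquivOfLe H.2.1).toEquiv).trans H.2.2⟩
      invFun := fun H => ⟨H.1.map A.subtype, map_subtype_le _,
        (card_map_of_injective A.subtype_injective).trans H.2⟩
      left_inv := fun H => Subtype.ext (map_subgroupOf_eq_of_le H.2.1)
      right_inv := fun H => Subtype.ext (subgroupOf_map_subtype_self H.1) }
where
  subgroupOf_map_subtype_self {A : Subgroup G} (H : Subgroup A) : (H.map A.subtype).subgroupOf A = H :=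
    comap_map_eq_self_of_injective A.subtype_injective H

theorem cnt_top (k : ℕ) : cnt p k (⊤ : Subgroup G) = Nat.card {H : Subgroup G // Nat.card H = p ^ k} :=
  Nat.card_congr (Equiv.subtypeEquivRight fun H => ⟨fun h => h.2, fun h => ⟨le_top, h⟩⟩)

theorem exists_card_eq (hG : IsPGroup p G) (A : Subgroup G) : ∃ n, Nat.card A = p ^ n :=
  (IsPGroup.iff_card (p := p)).mp (hG.to_subgroup A)

theorem cnt_modEq_one (hG : IsPGroup p G) {k : ℕ} {A : Subgroup G} (h : p ^ k ≤ Nat.card A) :
    cnt p k A ≡ 1 [MOD p] := by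
  obtain ⟨n, hn⟩ := exists_card_eq hG A
  rw [cnt_eq]
  refine SubgroupCount72.card_subgroups_modEq_one hp.out ?_
  rw [hn] at h ⊢
  exact pow_dvd_pow p ((Nat.pow_le_pow_iff_right hp.out.one_lt).mp h)

theorem card_map_mk {K M : Subgroup G} [K.Normal] (h : K ≤ M) :
    Nat.card (M.map (QuotientGroup.mk' K)) * Nat.card K = Nat.card M := by
  have h1 := card_mul_index M
  have h2 := card_mul_index (M.map (QuotientGroup.mk' K))
  rw [index_map_eq M (QuotientGroup.mk'_surjective K) (by rwa [QuotientGroup.ker_mk'])] at h2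
  have h3 : Nat.card (G ⧸ K) * Nat.card K = Nat.card G := by
    rw [mul_comm]; exact card_mul_index K
  rw [← h2] at h3
  have hi : 0 < M.index := Nat.pos_of_ne_zero index_ne_zero_of_finite
  refine Nat.eq_of_mul_eq_mul_right hi ?_
  rw [h1, ← h3]
  ring

theorem card_between_eq {K A : Subgroup G} [K.Normal] (hKA : K ≤ A) {c j : ℕ}
    (hK : Nat.card K = p ^ c) (hcj : c ≤ j) :
    Nat.card {N : Subgroup G // K ≤ N ∧ N ≤ A ∧ Nat.card N = p ^ j} =
      cnt p (j - c) (A.map (QuotientGroup.mk' K)) := by
  refine Nat.card_congr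
    { toFun := fun N => ⟨N.1.map (QuotientGroup.mk' K), map_mono N.2.2.1, ?_⟩
      invFun := fun N => ⟨N.1.comap (QuotientGroup.mk' K), ?_, ?_, ?_⟩
      left_inv := fun N => Subtype.ext (comap_map_eq_self (by rw [QuotientGroup.ker_mk']; exact N.2.1))
      right_inv := fun N => Subtype.ext (map_comap_eq_self_of_surjective (QuotientGroup.mk'_surjective K) _) }
  · have := card_map_mk N.2.1
    rw [hK, N.2.2.2] at this
    exact Nat.eq_of_mul_eq_mul_right (pow_pos hp.out.pos _)
      (this.trans (by rw [← pow_add, Nat.sub_add_cancel hcj]))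
  · have := (N.1.comap (QuotientGroup.mk' K))
    exact (le_comap_mk' K N.1)
  · refine (comap_mono N.2.1).trans (le_of_eq ?_)
    exact comap_map_eq_self (by rw [QuotientGroup.ker_mk']; exact hKA)
  · have h1 := card_map_mk (le_comap_mk' K N.1)
    rw [map_comap_eq_self_of_surjective (QuotientGroup.mk'_surjective K), N.2.2, hK, ← pow_add,
      Nat.sub_add_cancel hcj] at h1
    exact h1.symm
where
  le_comap_mk' (K : Subgroup G) [K.Normal] (N : Subgroup (G ⧸ K)) : K ≤ N.comap (QuotientGroup.mk' K) := by
    intro x hx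
    rw [mem_comap, QuotientGroup.mk'_apply, (QuotientGroup.eq_one_iff x).mpr hx]
    exact N.one_mem

theorem card_between_modEq (hG : IsPGroup p G) {K A : Subgroup G} [K.Normal] (hKA : K ≤ A) {c j : ℕ}
    (hK : Nat.card K = p ^ c) (hcj : c ≤ j) (hj : p ^ j ≤ Nat.card A) :
    Nat.card {N : Subgroup G // K ≤ N ∧ N ≤ A ∧ Nat.card N = p ^ j} ≡ 1 [MOD p] := by
  rw [card_between_eq hKA hK hcj]
  refine cnt_modEq_one (hG.to_quotient K) ?_
  rw [← card_map_mk hKA, hK, show j = j - c + c by omega, pow_add] at hj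
  exact Nat.le_of_mul_le_mul_right hj (pow_pos hp.out.pos _)

theorem count_order_p {Q : Type*} [Group Q] [Finite Q] (hQ : Nat.card Q = p ^ 2)
    (hexp : ∀ x : Q, x ^ p = 1) :
    Nat.card {H : Subgroup Q // Nat.card H = p} = p + 1 := by
  classical
  haveI := Fintype.ofFinite Q
  haveI := Fintype.ofFinite {H : Subgroup Q // Nat.card H = p}
  let e : {x : Q // x ≠ 1} ≃ Σ H : {H : Subgroup Q // Nat.card H = p}, {x : H.1 // x ≠ 1} :=
    { toFun := fun x => ⟨⟨zpowers x.1, (Nat.card_zpowers _).trans
          (PGroupsBasic.orderOf_eq_of_pow_eq_one (hexp _) x.2)⟩,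
          ⟨⟨x.1, mem_zpowers _⟩, fun h => x.2 (congrArg Subtype.val h)⟩⟩
      invFun := fun y => ⟨y.2.1.1, fun h => y.2.2 (Subtype.ext h)⟩
      left_inv := fun x => rfl
      right_inv := by
        rintro ⟨⟨H, hH⟩, ⟨⟨x, hx⟩, hx1⟩⟩
        have hxo : orderOf x = p :=
          PGroupsBasic.orderOf_eq_of_pow_eq_one (hexp x) fun h => hx1 (Subtype.ext h)
        have : zpowers x = H :=
          eq_of_le_of_card_ge (zpowers_le.mpr hx) (by rw [Nat.card_zpowers, hxo, hH])
        subst this
        rfl }
  have h1 : ∀ (T : Type _) [Group T] [Finite T], Nat.card {x : T // x ≠ 1} = Nat.card T - 1 := by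
    intro T _ _
    haveI := Fintype.ofFinite T
    simp [Nat.card_eq_fintype_card, Fintype.card_subtype_compl]
  have h2 := Nat.card_congr e
  rw [h1 Q, Nat.card_sigma, Finset.sum_congr rfl (fun H _ => by rw [h1 H.1, H.2]), Finset.sum_const,
    Finset.card_univ, ← Nat.card_eq_fintype_card, smul_eq_mul, hQ] at h2
  refine Nat.eq_of_mul_eq_mul_right (Nat.sub_pos_of_lt hp.out.one_lt) ?_
  rw [← h2, ← Nat.sq_sub_sq, one_pow]

theorem normal_of_frattini_le (hG : IsPGroup p G) {K : Subgroup G} (h : frattini G ≤ K) : K.Normal :=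
  PGroupsBasic.normal_of_commutator_le ((PGroupsBasic.commutator_le_frattini hG).trans h)

theorem frattini_le_of_card (hG : IsPGroup p G) {m : ℕ} (hm : Nat.card G = p ^ m) (hm1 : 1 ≤ m)
    {M : Subgroup G} (hM : Nat.card M = p ^ (m - 1)) : M.index = p ∧ frattini G ≤ M := by
  have h := card_mul_index M
  rw [hM, hm, show m = m - 1 + 1 by omega, pow_succ, Nat.add_sub_cancel] at h
  have hi := Nat.eq_of_mul_eq_mul_left (pow_pos hp.out.pos _) h
  exact ⟨hi, iInf₂_le M (PGroupsBasic.isCoatom_of_index_eq hi)⟩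

theorem card_above_sq (hG : IsPGroup p G) {m : ℕ} (hm : Nat.card G = p ^ m) (hm2 : 2 ≤ m)
    {N : Subgroup G} (hN : frattini G ≤ N) (hNc : Nat.card N = p ^ (m - 2)) :
    Nat.card {M : Subgroup G // N ≤ M ∧ Nat.card M = p ^ (m - 1)} = p + 1 := by
  haveI := normal_of_frattini_le hG hN
  have h1 : Nat.card {M : Subgroup G // N ≤ M ∧ Nat.card M = p ^ (m - 1)} =
      Nat.card {M : Subgroup G // N ≤ M ∧ M ≤ ⊤ ∧ Nat.card M = p ^ (m - 1)} :=
    Nat.card_congr (Equiv.subtypeEquivRight fun M => by simp)
  rw [h1, card_between_eq le_top hNc (by omega), map_top_of_surjective _ (QuotientGroup.mk'_surjective N),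
    cnt_top, show m - 1 - (m - 2) = 1 by omega, pow_one]
  refine count_order_p ?_ fun x => ?_
  · have h := card_mul_index N
    rw [hNc, hm, show m = m - 2 + 2 by omega, pow_add, Nat.add_sub_cancel] at h
    exact Nat.eq_of_mul_eq_mul_left (pow_pos hp.out.pos _) h
  · obtain ⟨x, rfl⟩ := QuotientGroup.mk_surjective x
    rw [← QuotientGroup.mk_pow, QuotientGroup.eq_one_iff]
    exact hN (PGroupsBasic.pow_mem_frattini hG x)

theorem card_above (hG : IsPGroup p G) {m : ℕ} (hm : Nat.card G = p ^ m)
    {K : Subgroup G} (hK : frattini G ≤ K) {c : ℕ} (hKc : Nat.card K = p ^ c) (hc : c + 2 ≤ m) :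
    (Nat.card {M : Subgroup G // K ≤ M ∧ Nat.card M = p ^ (m - 1)} : ZMod (p ^ 2)) = 1 + p := by
  classical
  haveI := Fintype.ofFinite (Subgroup G)
  haveI := normal_of_frattini_le hG hK
  obtain ⟨M0, hKM0, -, hM0c⟩ : ∃ M0 : Subgroup G, K ≤ M0 ∧ M0 ≤ ⊤ ∧ Nat.card M0 = p ^ (m - 1) := by
    obtain ⟨L, -, h1, h2, h3⟩ := PGroupsBasic.exists_normal_card hG (M := K) (N := ⊤) le_top
      (m - 1 - c) (by rw [card_top, hm, hKc, ← pow_add]; exact pow_le_pow_right₀ hp.out.one_lt.le (by omega))
    exact ⟨L, h1, h2, by rw [h3, hKc, ← pow_add]; congr 1; omega⟩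
  obtain ⟨hM0i, hM0Φ⟩ := frattini_le_of_card hG hm (by omega) hM0c
  set A := Finset.univ.filter fun M : Subgroup G => K ≤ M ∧ Nat.card M = p ^ (m - 1) with hA
  set B := Finset.univ.filter fun N : Subgroup G => K ≤ N ∧ N ≤ M0 ∧ Nat.card N = p ^ (m - 2) with hB
  have hinf : ∀ M ∈ A.erase M0, M ⊓ M0 ∈ B := by
    intro M hM
    simp only [hA, Finset.mem_erase, Finset.mem_filter, Finset.mem_univ, true_and] at hM
    obtain ⟨hne, hKM, hMc⟩ := hM
    simp only [hB, Finset.mem_filter, Finset.mem_univ, true_and]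
    refine ⟨le_inf hKM hKM0, inf_le_right, ?_⟩
    haveI := normal_of_frattini_le hG hM0Φ
    have htop : M ⊔ M0 = ⊤ := (PGroupsBasic.isCoatom_of_index_eq hM0i).2 _
      (lt_of_le_of_ne le_sup_right fun h => hne (eq_of_le_of_card_ge (h ▸ le_sup_left) (by rw [hMc, hM0c])))
    have h2 : M0.relIndex M = p := by
      rw [← relIndex_sup_right, htop, relIndex_top_right, hM0i]
    have h3 := relIndex_mul_relIndex ⊥ (M ⊓ M0) M bot_le inf_le_left
    rw [relIndex_bot_left, relIndex_bot_left, inf_relIndex_left, h2, hMc,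
      show m - 1 = m - 2 + 1 by omega, pow_succ] at h3
    exact Nat.eq_of_mul_eq_mul_right hp.out.pos h3
  have hfib : ∀ N ∈ B, ((A.erase M0).filter fun M => M ⊓ M0 = N).card = p := by
    intro N hN
    simp only [hB, Finset.mem_filter, Finset.mem_univ, true_and] at hN
    obtain ⟨hKN, hNM0, hNc⟩ := hN
    have h := card_above_sq hG hm (by omega) (hK.trans hKN) hNc
    rw [Nat.card_eq_fintype_card, Fintype.card_subtype] at h
    have heq : (A.erase M0).filter (fun M => M ⊓ M0 = N) =
        (Finset.univ.filter fun M : Subgroup G => N ≤ M ∧ Nat.card M = p ^ (m - 1)).erase M0 := by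
      ext M
      simp only [hA, Finset.mem_filter, Finset.mem_erase, Finset.mem_univ, true_and]
      constructor
      · rintro ⟨⟨h1, -, h3⟩, h4⟩
        exact ⟨h1, h4 ▸ inf_le_left, h3⟩
      · rintro ⟨h1, h2, h3⟩
        refine ⟨⟨h1, hKN.trans h2, h3⟩, (eq_of_le_of_card_ge (le_inf h2 hNM0) ?_).symm⟩
        have := hinf M (by simp [hA, h1, hKN.trans h2, h3])
        simp only [hB, Finset.mem_filter, Finset.mem_univ, true_and] at this
        rw [this.2.2, hNc]
    rw [heq, Finset.card_erase_of_mem (by simp [hNM0, hM0c]), h]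
    rfl
  have hcard : A.card = 1 + p * B.card := by
    rw [← Finset.card_erase_add_one (show M0 ∈ A by simp [hA, hKM0, hM0c]),
      Finset.card_eq_sum_card_fiberwise hinf, Finset.sum_congr rfl hfib, Finset.sum_const, smul_eq_mul]
    ring
  have hB1 : B.card ≡ 1 [MOD p] := by
    have := card_between_modEq hG hKM0 hKc (j := m - 2) (by omega)
      (by rw [hM0c]; exact pow_le_pow_right₀ hp.out.one_lt.le (by omega))
    rwa [Nat.card_eq_fintype_card, Fintype.card_subtype] at this
  rw [Nat.card_eq_fintype_card, Fintype.card_subtype, ← hA, hcard]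
  have h2 : 1 + p * B.card ≡ 1 + p * 1 [MOD p ^ 2] := by
    refine Nat.ModEq.add_left 1 ?_
    rw [sq]
    exact hB1.mul_left' p
  have := (ZMod.natCast_eq_natCast_iff _ _ _).mpr h2
  simpa using this

theorem two_le_of_noncyclic (hG : IsPGroup p G) {m : ℕ} (hm : Nat.card G = p ^ m)
    (hnc : ¬ IsCyclic G) : ∃ c, Nat.card (frattini G) = p ^ c ∧ c + 2 ≤ m := by
  obtain ⟨c, hc⟩ := exists_card_eq hG (frattini G)
  refine ⟨c, hc, ?_⟩
  by_contra hlt
  have h := card_mul_index (frattini G)
  haveI : (frattini G).Normal := normal_of_frattini_le hG le_rfl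
  haveI : IsCyclic (G ⧸ frattini G) := by
    have h2 : Nat.card (G ⧸ frattini G) ∣ p := by
      show (frattini G).index ∣ p
      have hcm : p ^ c ≤ p ^ m := hm ▸ hc ▸ card_le_card_group _
      have := (Nat.pow_le_pow_iff_right hp.out.one_lt).mp hcm
      rw [hc, hm, show m = c + (m - c) by omega, pow_add] at h
      rw [Nat.eq_of_mul_eq_mul_left (pow_pos hp.out.pos _) h]
      calc p ^ (m - c) ∣ p ^ 1 := pow_dvd_pow p (by omega)
        _ = p := pow_one p
    rcases (Nat.dvd_prime hp.out).mp h2 with h3 | h3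
    · haveI := (Nat.card_eq_one_iff_unique.mp h3).1
      infer_instance
    · exact isCyclic_of_prime_card h3
  obtain ⟨g, hg⟩ := IsCyclic.exists_generator (α := G ⧸ frattini G)
  obtain ⟨x, rfl⟩ := QuotientGroup.mk_surjective g
  refine hnc ⟨⟨x, fun y => ?_⟩⟩
  have : closure ({x} : Set G) = ⊤ := by
    rw [PGroupsBasic.closure_eq_top_iff_quotient_frattini, Set.image_singleton, ← zpowers_eq_closure]
    exact eq_top_iff.mpr fun z _ => hg z
  rw [← zpowers_eq_closure] at this
  show y ∈ zpowers x
  rw [this]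
  trivial

theorem card_maximal (hG : IsPGroup p G) {m : ℕ} (hm : Nat.card G = p ^ m) (hnc : ¬ IsCyclic G) :
    (Nat.card {M : Subgroup G // Nat.card M = p ^ (m - 1)} : ZMod (p ^ 2)) = 1 + p := by
  obtain ⟨c, hc, hc2⟩ := two_le_of_noncyclic hG hm hnc
  rw [← card_above hG hm le_rfl hc hc2]
  congr 1
  exact Nat.card_congr (Equiv.subtypeEquivRight fun M =>
    ⟨fun h => ⟨(frattini_le_of_card hG hm (by omega) h).2, h⟩, fun h => h.2⟩)

/-- Hall's enumeration principle. -/
theorem enumeration (hG : IsPGroup p G) {m : ℕ} (hm : Nat.card G = p ^ m) {k : ℕ} (hk : k < m)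
    [Fintype (Subgroup G)] [DecidableEq (Subgroup G)] (mx dd : Finset (Subgroup G))
    (hmx : ∀ M, M ∈ mx ↔ Nat.card M = p ^ (m - 1))
    (hdd : ∀ D, D ∈ dd ↔ frattini G ≤ D ∧ Nat.card D = p ^ (m - 2) ∧ 2 ≤ m) :
    (Nat.card {H : Subgroup G // Nat.card H = p ^ k} : ZMod (p ^ 2)) =
      ∑ M ∈ mx, (cnt p k M : ZMod (p ^ 2)) - p * ∑ D ∈ dd, (cnt p k D : ZMod (p ^ 2)) := by
  classical
  set S := Finset.univ.filter fun H : Subgroup G => Nat.card H = p ^ k with hS
  have hcnt : ∀ A : Subgroup G, (cnt p k A : ZMod (p ^ 2)) = ∑ H ∈ S, if H ≤ A then 1 else 0 := by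
    intro A
    rw [Finset.sum_boole, cnt, Nat.card_eq_fintype_card, Fintype.card_subtype, hS, Finset.filter_filter]
    congr 2
    ext H
    simp [and_comm]
  simp only [hcnt]
  rw [Finset.sum_comm, Finset.sum_comm (s := dd), Finset.mul_sum, ← Finset.sum_sub_distrib,
    Nat.card_eq_fintype_card, Fintype.card_subtype, ← hS, Finset.card_eq_sum_ones, Nat.cast_sum]
  refine Finset.sum_congr rfl fun H hH => ?_
  rw [hS, Finset.mem_filter] at hH
  rw [Nat.cast_one, Finset.sum_boole, Finset.sum_boole]
  set K := H ⊔ frattini G with hK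
  haveI : K.Normal := normal_of_frattini_le hG le_sup_right
  obtain ⟨c, hc⟩ := exists_card_eq hG K
  have hKtop : K ≠ ⊤ := by
    intro h
    have hH' : H = ⊤ := frattini_nongenerating h
    rw [hH', card_top, hm] at hH
    exact hk.ne' (Nat.pow_right_injective hp.out.two_le hH.2)
  have hcm : c + 1 ≤ m := by
    have h1 : Nat.card K < Nat.card G := by
      rw [← card_top (G := G)]
      by_contra h2
      exact hKtop (eq_of_le_of_card_ge le_top (not_lt.mp h2))
    rw [hc, hm] at h1
    exact Nat.succ_le_of_lt ((Nat.pow_lt_pow_iff_right hp.out.one_lt).mp h1)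
  have hA : ((mx.filter fun M => H ≤ M).card : ℕ) =
      Nat.card {M : Subgroup G // K ≤ M ∧ Nat.card M = p ^ (m - 1)} := by
    rw [Nat.card_eq_fintype_card, Fintype.card_subtype]
    congr 1
    ext M
    simp only [Finset.mem_filter, hmx, Finset.mem_univ, true_and, hK, sup_le_iff]
    exact ⟨fun h => ⟨⟨h.2, (frattini_le_of_card hG hm (by omega) h.1).2⟩, h.1⟩, fun h => ⟨h.2, h.1.1⟩⟩
  by_cases hd : c + 2 ≤ m
  · have hB : ((dd.filter fun D => H ≤ D).card : ℕ) ≡ 1 [MOD p] := by
      have h := card_between_modEq hG (A := ⊤) le_top hc (j := m - 2) (by omega)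
        (by rw [card_top, hm]; exact pow_le_pow_right₀ hp.out.one_lt.le (by omega))
      rw [Nat.card_eq_fintype_card, Fintype.card_subtype] at h
      convert h using 2
      ext D
      simp only [Finset.mem_filter, hdd, Finset.mem_univ, true_and, hK, sup_le_iff, le_top]
      exact ⟨fun h => ⟨⟨h.2, h.1.1⟩, h.1.2.1⟩, fun h => ⟨⟨h.1.2, h.2, by omega⟩, h.1.1⟩⟩
    rw [hA, card_above hG hm le_sup_right hc hd]
    have h2 := (ZMod.natCast_eq_natCast_iff _ _ _).mpr (sq p ▸ hB.mul_left' p)
    rw [Nat.cast_mul, Nat.cast_mul, Nat.cast_one, mul_one] at h2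
    rw [h2]
    ring
  · have hB : (dd.filter fun D => H ≤ D) = ∅ := by
      rw [Finset.filter_eq_empty_iff]
      intro D hD hle
      rw [hdd] at hD
      have hle2 : Nat.card K ≤ Nat.card D := card_le_of_le (sup_le hle hD.1)
      rw [hc, hD.2.1, Nat.pow_le_pow_iff_right hp.out.one_lt] at hle2
      omega
    have hA1 : Nat.card {M : Subgroup G // K ≤ M ∧ Nat.card M = p ^ (m - 1)} = 1 := by
      rw [Nat.card_eq_one_iff_unique]
      have hKc : Nat.card K = p ^ (m - 1) := by rw [hc]; congr 1; omega
      exact ⟨⟨fun a b => Subtype.ext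
        ((eq_of_le_of_card_ge a.2.1 (by rw [a.2.2, hKc])).symm.trans
          (eq_of_le_of_card_ge b.2.1 (by rw [b.2.2, hKc])))⟩, ⟨⟨K, le_rfl, hKc⟩⟩⟩
    rw [hA, hA1, hB]
    simp

theorem card_maxclass_not_cyclic {X : Type*} [Group X] [Finite X] {n : ℕ} (hn : 3 ≤ n)
    (hX : Nat.card X = 2 ^ n) (hc : Group.nilpotencyClass X = n - 1) {k : ℕ} (hk1 : 1 ≤ k)
    (hk : k + 2 ≤ n) :
    Nat.card {H : Subgroup X // Nat.card H = 2 ^ k} ≡ 1 [MOD 4] := by
  classical
  haveI := Fintype.ofFinite X
  haveI := Fintype.ofFinite (Subgroup X)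
  haveI : Fact (Nat.Prime 2) := ⟨Nat.prime_two⟩
  have hP : IsPGroup 2 X := IsPGroup.of_card hX
  obtain ⟨C, hC, hCi, -, -, hZC, hsq⟩ := MaxClassTwo.structure_of_maxClass hn hX hc
  obtain ⟨hZ, -, -, hnc⟩ := MaxClassTwo.center_of_maxClass hn hX hc
  haveI hCn : C.Normal := PGroupsBasic.normal_of_index_eq hP hCi
  have hCcard : Nat.card C = 2 ^ (n - 1) := by
    have h := card_mul_index C
    rw [hCi, hX, show n = n - 1 + 1 by omega, pow_succ] at h
    exact Nat.eq_of_mul_eq_mul_right two_pos h
  have huniq : ∀ {A B : Subgroup X}, A ≤ C → B ≤ C → Nat.card A = Nat.card B → A = B :=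
    fun hA hB h => PGroupsCyclic.eq_of_card_eq_of_isCyclic hC hA hB h
  obtain ⟨U, hU⟩ : ∃ U : Subgroup X, U ≤ C ∧ Nat.card U = 2 ^ (k - 1) := by
    obtain ⟨L, -, h1, h2⟩ := PGroupsBasic.exists_normal_card_pow hP C (k - 1)
      (by rw [hCcard]; exact pow_le_pow_right₀ one_le_two (by omega))
    exact ⟨L, h1, h2⟩
  obtain ⟨V, hV⟩ : ∃ V : Subgroup X, V ≤ C ∧ Nat.card V = 2 ^ k := by
    obtain ⟨L, -, h1, h2⟩ := PGroupsBasic.exists_normal_card_pow hP C k
      (by rw [hCcard]; exact pow_le_pow_right₀ one_le_two (by omega))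
    exact ⟨L, h1, h2⟩
  have hmul : ∀ {x y : X}, x ∉ C → y ∉ C → x⁻¹ * y ∈ C := fun {x y} hx hy => by
    have := (Subgroup.mul_mem_iff_of_index_two hCi (a := x⁻¹) (b := y)).mpr
      (by simp [hx, hy])
    exact this
  -- the elements outside `C` whose square lies in `U`
  set S := Finset.univ.filter fun y : X => y ∉ C ∧ y ^ 2 ∈ U with hS
  set T := Finset.univ.filter fun H : Subgroup X => Nat.card H = 2 ^ k ∧ ¬ H ≤ C with hT
  have hUn : U.Normal := by
    obtain ⟨L, hLn, h1, h2⟩ := PGroupsBasic.exists_normal_card_pow hP C (k - 1)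
      (by rw [hCcard]; exact pow_le_pow_right₀ one_le_two (by omega))
    exact huniq hU.1 h1 (hU.2.trans h2.symm) ▸ hLn
  have hST : S.card = T.card * 2 ^ (k - 1) := by
    have hmap : ∀ y ∈ S, (zpowers y ⊔ U) ∈ T ∧ (zpowers y ⊔ U : Subgroup X) ⊓ C = U := by
      intro y hy
      simp only [hS, Finset.mem_filter, Finset.mem_univ, true_and] at hy
      have hHC : ¬ zpowers y ⊔ U ≤ C := fun h => hy.1 (h (mem_sup_left (mem_zpowers y)))
      have hinf : zpowers y ⊔ U ⊓ C = zpowers y ⊔ U := by rw [inf_eq_left.mpr hU.1]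
      have hrel : U.relIndex (zpowers y ⊔ U) ∣ 2 := by
        rw [relIndex_sup_right]
        have hmap : (zpowers y).map (QuotientGroup.mk' U) = zpowers (y : X ⧸ U) := MonoidHom.map_zpowers _ _
        have h2 : Nat.card ((zpowers y).map (QuotientGroup.mk' U)) ∣ 2 := by
          rw [hmap, Nat.card_zpowers]
          exact orderOf_dvd_of_pow_eq_one (by rw [← QuotientGroup.mk_pow, QuotientGroup.eq_one_iff]; exact hy.2)
        rwa [← relIndex_ker, QuotientGroup.ker_mk'] at h2

      have hrel2 : U.relIndex (zpowers y ⊔ U) = 2 := ((Nat.dvd_prime Nat.prime_two).mp hrel).resolve_left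
        fun h1 => hHC ((relIndex_eq_one.mp h1).trans hU.1)
      have hcard : Nat.card (zpowers y ⊔ U : Subgroup X) = 2 ^ k := by
        have := relIndex_mul_relIndex ⊥ U (zpowers y ⊔ U) bot_le le_sup_right
        rw [relIndex_bot_left, relIndex_bot_left, hrel2, hU.2, ← pow_succ, Nat.sub_add_cancel hk1] at this
        exact this.symm
      refine ⟨by simp only [hT, Finset.mem_filter, Finset.mem_univ, true_and]; exact ⟨hcard, hHC⟩, ?_⟩
      refine (eq_of_le_of_card_ge (le_inf le_sup_right hU.1) ?_).symm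
      have hlt : Nat.card ((zpowers y ⊔ U) ⊓ C : Subgroup X) < Nat.card (zpowers y ⊔ U : Subgroup X) := by
        by_contra h
        exact hHC (inf_eq_left.mp (eq_of_le_of_card_ge inf_le_left (not_lt.mp h)))
      obtain ⟨i, hi⟩ := exists_card_eq hP ((zpowers y ⊔ U) ⊓ C)
      rw [hi, hcard, Nat.pow_lt_pow_iff_right one_lt_two] at hlt
      rw [hi, hU.2]
      exact pow_le_pow_right₀ one_le_two (by omega)
    have hfib : ∀ H ∈ T, (S.filter fun y => zpowers y ⊔ U = H).card = 2 ^ (k - 1) := by
      intro H hH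
      simp only [hT, Finset.mem_filter, Finset.mem_univ, true_and] at hH
      have hrel : C.relIndex H = 2 := by
        have h := relIndex_le_of_le_right (H := C) (K := H) (L := ⊤) le_top
          (by rw [relIndex_top_right, hCi]; norm_num)
        rw [relIndex_top_right, hCi] at h
        have h0 : C.relIndex H ≠ 0 := index_ne_zero_of_finite
        have h1 : C.relIndex H ≠ 1 := fun h1 => hH.2 (relIndex_eq_one.mp h1)
        omega
      have hHC : Nat.card (H ⊓ C : Subgroup X) = 2 ^ (k - 1) := by
        have h := relIndex_mul_relIndex ⊥ (H ⊓ C) H bot_le inf_le_left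
        rw [relIndex_bot_left, relIndex_bot_left, inf_relIndex_left, hrel, hH.1,
          show k = k - 1 + 1 by omega, pow_succ] at h
        exact Nat.eq_of_mul_eq_mul_right two_pos h
      have hHU : H ⊓ C = U := huniq inf_le_right hU.1 (hHC.trans hU.2.symm)
      have hset : S.filter (fun y => zpowers y ⊔ U = H) = Finset.univ.filter (fun y => y ∈ H ∧ y ∉ C) := by
        ext y
        simp only [Finset.mem_filter, hS, Finset.mem_univ, true_and]
        constructor
        · rintro ⟨⟨h1, -⟩, h3⟩
          exact ⟨h3 ▸ mem_sup_left (mem_zpowers y), h1⟩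
        · rintro ⟨h1, h2⟩
          have hy2 : y ^ 2 ∈ U := hHU ▸ ⟨H.pow_mem h1 2, hCi ▸ pow_index_mem C y⟩
          refine ⟨⟨h2, hy2⟩, eq_of_le_of_card_ge (sup_le (zpowers_le.mpr h1) (hHU ▸ inf_le_left)) ?_⟩
          have := (hmap y (by simp [hS, h2, hy2])).1
          simp only [hT, Finset.mem_filter, Finset.mem_univ, true_and] at this
          rw [hH.1, this.1]
      rw [hset]
      have h1 : (Finset.univ.filter fun y => y ∈ H ∧ y ∉ C).card +
          (Finset.univ.filter fun y => y ∈ H ∧ y ∈ C).card = (Finset.univ.filter fun y => y ∈ H).card := by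
        rw [← Finset.card_union_of_disjoint]
        · congr 1; ext y; simp; tauto
        · rw [Finset.disjoint_filter]; tauto
      have h2 : (Finset.univ.filter fun y => y ∈ H).card = 2 ^ k := by
        rw [← Fintype.card_subtype, ← Nat.card_eq_fintype_card]; exact hH.1
      have h3 : (Finset.univ.filter fun y => y ∈ H ∧ y ∈ C).card = 2 ^ (k - 1) := by
        rw [← Fintype.card_subtype, ← Nat.card_eq_fintype_card, ← hHC]
        exact Nat.card_congr (Equiv.subtypeEquivRight fun y => (mem_inf).symm)
      rw [h2, h3, show k = k - 1 + 1 by omega, pow_succ, Nat.add_sub_cancel] at h1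
      omega
    rw [Finset.card_eq_sum_card_fiberwise (fun y hy => (hmap y hy).1), Finset.sum_congr rfl hfib,
      Finset.sum_const, smul_eq_mul]
  have hSdvd : 2 ^ (k - 1) * 4 ∣ S.card := by
    rcases hk1.lt_or_eq with hk2 | rfl
    · have hall : S = Finset.univ.filter fun y : X => y ∉ C := by
        ext y
        simp only [hS, Finset.mem_filter, Finset.mem_univ, true_and, and_iff_left_iff_imp]
        intro hy
        obtain ⟨W, hW, hWc⟩ : ∃ W : Subgroup X, W ≤ U ∧ Nat.card W = 2 := by
          obtain ⟨L, -, h1, h2⟩ := PGroupsBasic.exists_normal_card_pow hP U 1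
            (by rw [hU.2]; exact pow_le_pow_right₀ one_le_two (by omega))
          exact ⟨L, h1, by simpa using h2⟩
        exact hW (huniq hZC (hW.trans hU.1) (hZ.trans hWc.symm) ▸ hsq y hy)
      have hcard : S.card = 2 ^ (n - 1) := by
        rw [hall, ← Fintype.card_subtype, Fintype.card_subtype_compl, ← Nat.card_eq_fintype_card,
          ← Nat.card_eq_fintype_card, hX]
        rw [show Nat.card {x // x ∈ C} = 2 ^ (n - 1) from hCcard, show n = n - 1 + 1 by omega, pow_succ,
          Nat.add_sub_cancel]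
        omega
      rw [hcard, show (4 : ℕ) = 2 ^ 2 by norm_num, ← pow_add]
      exact pow_dvd_pow 2 (by omega)
    · obtain ⟨W, hWn, hW, hWc⟩ := PGroupsBasic.exists_normal_card_pow hP C 2
        (by rw [hCcard]; exact pow_le_pow_right₀ one_le_two (by omega))
      haveI : W.Normal := hWn
      have hWcyc : IsCyclic W := by
        exact Subgroup.isCyclic_of_le hW
      have hUbot : U = ⊥ := Subgroup.card_eq_one.mp (by simpa using hU.2)
      have hkey : ∀ y, y ∉ C → y ^ 2 = 1 → ∀ w ∈ W, (y * w) ^ 2 = 1 := by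
        intro y hy hy2 w hw
        obtain ⟨g, hg⟩ := hWcyc.exists_generator
        have hgo : orderOf (g : X) = 4 := by
          rw [orderOf_coe, orderOf_eq_card_of_forall_mem_zpowers hg]; simpa using hWc
        have hgy : y * g * y⁻¹ ∈ W := (inferInstance : W.Normal).conj_mem g g.2 y
        obtain ⟨i, hi⟩ := hg ⟨_, hgy⟩
        have hi' : (g : X) ^ i = y * g * y⁻¹ := congrArg Subtype.val hi
        have hne : y * g * y⁻¹ ≠ (g : X) := by
          intro he
          have hgc : (g : X) ∈ center X := by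
            have htop : C ⊔ zpowers y = ⊤ := (PGroupsBasic.isCoatom_of_index_eq hCi).2 _
              (lt_of_le_of_ne le_sup_left fun h => hy (h.symm ▸ mem_sup_right (mem_zpowers y)))
            have hle : C ⊔ zpowers y ≤ centralizer ({(g : X)} : Set X) :=
              sup_le (fun b hb => mem_centralizer_singleton_iff.mpr
                (PGroupsBasic.comm_of_isMulCommutative IsCyclic.isMulCommutative hb (hW g.2)))
                (zpowers_le.mpr (mem_centralizer_singleton_iff.mpr (mul_inv_eq_iff_eq_mul.mp he)))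
            exact mem_center_iff.mpr fun z => (mem_centralizer_singleton_iff.mp (hle (htop ▸ mem_top z)))
          have := card_le_of_le (zpowers_le.mpr hgc)
          rw [Nat.card_zpowers, hgo, hZ] at this
          omega
        have hyo : orderOf (y * g * y⁻¹) = 4 := by
          rw [← hgo]; exact (MulAut.conj y).orderOf_eq (g : X)
        have hr : (g : X) ^ (i % 4) = y * g * y⁻¹ := by
          have h9 := zpow_mod_orderOf (g : X) i; rw [hgo] at h9; rw [← hi', ← h9]; rfl
        obtain hr4 | hr4 | hr4 | hr4 : i % 4 = 0 ∨ i % 4 = 1 ∨ i % 4 = 2 ∨ i % 4 = 3 := by omega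
        · rw [hr4, zpow_zero] at hr; rw [← hr, orderOf_one] at hyo; omega
        · rw [hr4, zpow_one] at hr; exact absurd hr.symm hne
        · rw [hr4] at hr
          rw [← hr, show (2 : ℤ) = ((2 : ℕ) : ℤ) by rfl, zpow_natCast, orderOf_pow, hgo] at hyo
          norm_num at hyo
        · have h4 : (g : X) ^ 4 = 1 := hgo ▸ pow_orderOf_eq_one _
          have hinv : y * g * y⁻¹ = (g : X)⁻¹ := by
            rw [← hr, hr4, eq_inv_iff_mul_eq_one, show (3 : ℤ) = ((3 : ℕ) : ℤ) by rfl, zpow_natCast,
              ← pow_succ]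
            exact h4
          obtain ⟨j, hj⟩ := hg ⟨w, hw⟩
          have hj' : (g : X) ^ j = w := congrArg Subtype.val hj
          have hwy : y * w * y⁻¹ = w⁻¹ := by
            rw [← hj', ← conj_zpow, hinv, inv_zpow]
          have hy' : y⁻¹ = y := inv_eq_of_mul_eq_one_left (by rw [← sq, hy2])
          rw [hy'] at hwy
          rw [sq, show y * w * (y * w) = (y * w * y) * w by group, hwy, inv_mul_cancel]
      have hdvd : Nat.card W ∣ S.card := by
        letI : MulAction W {y : X // y ∉ C ∧ y ^ 2 = 1} :=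
        { smul := fun w y => ⟨y.1 * (w : X)⁻¹, fun h => y.2.1 (by
              simpa using C.mul_mem h (hW w.2)), hkey y.1 y.2.1 y.2.2 _ (W.inv_mem w.2)⟩
          one_smul := fun y => Subtype.ext (by show y.1 * ((1 : W) : X)⁻¹ = y.1; simp)
          mul_smul := fun a b y => Subtype.ext (by
            show y.1 * ((a * b : W) : X)⁻¹ = y.1 * (b : X)⁻¹ * (a : X)⁻¹
            simp [mul_assoc]) }
        have hfree : ∀ y : {y : X // y ∉ C ∧ y ^ 2 = 1}, MulAction.stabilizer W y = ⊥ := by
          intro y
          rw [Subgroup.eq_bot_iff_forall]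
          intro w hw
          have : y.1 * (w : X)⁻¹ = y.1 := congrArg Subtype.val (MulAction.mem_stabilizer_iff.mp hw)
          exact Subtype.ext (by simpa using this)
        have h := Nat.card_congr (MulAction.selfEquivSigmaOrbits W {y : X // y ∉ C ∧ y ^ 2 = 1})
        haveI := Fintype.ofFinite (MulAction.orbitRel.Quotient W {y : X // y ∉ C ∧ y ^ 2 = 1})
        rw [Nat.card_sigma, Finset.sum_congr rfl (fun o _ => by
          rw [Nat.card_coe_set_eq, ← MulAction.index_stabilizer, hfree, index_bot]), Finset.sum_const,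
          smul_eq_mul, Nat.card_eq_fintype_card (α := {y : X // y ∉ C ∧ y ^ 2 = 1}),
          Fintype.card_subtype] at h
        refine Dvd.intro_left _ (h.symm.trans ?_)
        congr 1
        ext y
        simp [hS, hUbot]
      rw [hWc] at hdvd
      simpa using hdvd
  rw [hST, mul_comm T.card] at hSdvd
  obtain ⟨d, hd⟩ := Nat.dvd_of_mul_dvd_mul_left (pow_pos two_pos _) hSdvd
  have htot : Nat.card {H : Subgroup X // Nat.card H = 2 ^ k} = T.card + 1 := by
    rw [Nat.card_eq_fintype_card, Fintype.card_subtype,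
      ← Finset.card_erase_add_one (show V ∈ Finset.univ.filter (fun H : Subgroup X => Nat.card H = 2 ^ k) by
        simp only [Finset.mem_filter, Finset.mem_univ, true_and]; exact hV.2)]
    congr 2
    ext H
    simp only [hT, Finset.mem_erase, Finset.mem_filter, Finset.mem_univ, true_and]
    exact ⟨fun h => ⟨h.2, fun hle => h.1 (huniq hle hV.1 (h.2.trans hV.2.symm))⟩,
      fun h => ⟨fun he => h.2 (he ▸ hV.1), h.1⟩⟩
  rw [htot, hd]
  show (4 * d + 1) % 4 = 1 % 4
  omega

/-- The number of cyclic maximal subgroups is a multiple of `p`. -/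
theorem dvd_card_cyclic_maximal (hG : IsPGroup p G) {m : ℕ} (hm : Nat.card G = p ^ m) (hm3 : 3 ≤ m)
    (hnc : ¬ IsCyclic G)
    (hcl2 : p = 2 → haveI := hG.isNilpotent; Group.nilpotencyClass G ≠ m - 1) :
    p ∣ Nat.card {M : Subgroup G // Nat.card M = p ^ (m - 1) ∧ IsCyclic M} := by
  classical
  by_cases hex : ∃ M : Subgroup G, Nat.card M = p ^ (m - 1) ∧ IsCyclic M
  swap
  · push Not at hex
    haveI : IsEmpty {M : Subgroup G // Nat.card M = p ^ (m - 1) ∧ IsCyclic M} := ⟨fun M => hex M.1 M.2.1 M.2.2⟩
    simp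
  obtain ⟨A, hAc, hA⟩ := hex
  obtain ⟨hAi, hAΦ⟩ := frattini_le_of_card hG hm (by omega) hAc
  haveI hAn : A.Normal := normal_of_frattini_le hG hAΦ
  obtain ⟨⟨a, haA⟩, hga⟩ := hA.exists_generator
  have hagen : A = zpowers a := le_antisymm (fun x hx => by
    obtain ⟨i, hi⟩ := hga ⟨x, hx⟩
    exact ⟨i, congrArg Subtype.val hi⟩) (zpowers_le.mpr haA)
  have hao : orderOf a = p ^ (m - 1) := by rw [← Nat.card_zpowers, ← hagen, hAc]
  -- the subgroup `B` of index `p` in `A`, and `D` of index `p` in `B`
  set B := zpowers (a ^ p) with hB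
  set D := zpowers (a ^ p ^ 2) with hD
  set E := zpowers (a ^ p ^ (m - 2)) with hE
  have hpowcard : ∀ i, i ≤ m - 1 → Nat.card (zpowers (a ^ p ^ i)) = p ^ (m - 1 - i) := by
    intro i hi
    rw [Nat.card_zpowers, orderOf_pow_of_dvd (pow_ne_zero _ hp.out.ne_zero) (hao ▸ pow_dvd_pow p hi), hao,
      Nat.pow_div hi hp.out.pos]
  have hBc : Nat.card B = p ^ (m - 2) := by
    have := hpowcard 1 (by omega)
    rw [pow_one] at this
    rw [hB, this]
    congr 1
  have huniq : ∀ {X Y : Subgroup G}, X ≤ A → Y ≤ A → Nat.card X = Nat.card Y → X = Y :=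
    fun hX hY h => PGroupsCyclic.eq_of_card_eq_of_isCyclic hA hX hY h
  have hsubnormal : ∀ X : Subgroup G, X ≤ A → X.Normal := by
    intro X hX
    refine ⟨fun x hx g => ?_⟩
    have hle : X.map (MulAut.conj g).toMonoidHom ≤ A := by
      rintro _ ⟨y, hy, rfl⟩
      exact hAn.conj_mem y (hX hy) g
    rw [← huniq hle hX (card_map_of_injective (MulAut.conj g).injective)]
    exact ⟨x, hx, rfl⟩
  haveI : B.Normal := hsubnormal _ (zpowers_le.mpr (A.pow_mem haA _))
  -- the frattini subgroup is `B`
  obtain ⟨c, hc, hc2⟩ := two_le_of_noncyclic hG hm hnc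
  have hBΦ : frattini G = B := by
    refine (eq_of_le_of_card_ge (zpowers_le.mpr (PGroupsBasic.pow_mem_frattini hG a)) ?_).symm
    rw [hc, hBc]
    exact pow_le_pow_right₀ hp.out.one_lt.le (by omega)
  -- commutators lie in `E`, which is central of order `p`
  have hEc : Nat.card E = p := by rw [hE, hpowcard _ (by omega), show m - 1 - (m - 2) = 1 by omega, pow_one]
  haveI : E.Normal := hsubnormal _ (zpowers_le.mpr (A.pow_mem haA _))
  have hEZ : E ≤ center G := PGroupsBasic.le_center_of_card_eq_prime hG hEc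
  obtain ⟨b, hb⟩ : ∃ b, b ∉ A := by
    by_contra! h
    rw [(eq_top_iff.mpr fun x _ => h x : A = ⊤), index_top] at hAi
    exact hp.out.one_lt.ne hAi
  have htop : A ⊔ zpowers b = ⊤ := (PGroupsBasic.isCoatom_of_index_eq hAi).2 _
    (lt_of_le_of_ne le_sup_left fun h => hb (h.symm ▸ mem_sup_right (mem_zpowers b)))
  have hcommE : ⁅b, a⁆ ∈ E := by
    have hcB : ⁅b, a⁆ ∈ B := hBΦ ▸ PGroupsBasic.commutator_le_frattini hG
      (commutator_mem_commutator (mem_top b) (mem_top a))
    obtain ⟨i, hi⟩ := mem_zpowers_iff.mp hcB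
    have hcomm : ∀ x y, x ∈ A → y ∈ A → x * y = y * x := fun x y hx hy =>
      PGroupsBasic.comm_of_isMulCommutative IsCyclic.isMulCommutative hx hy
    have hconj : ∀ j : ℕ, b ^ j * a * (b ^ j)⁻¹ = a ^ ((1 + (p : ℤ) * i) ^ j) := by
      intro j
      induction j with
      | zero => simp
      | succ j ih =>
        have h1 : b * a * b⁻¹ = a ^ (1 + (p : ℤ) * i) := by
          rw [zpow_add, zpow_one, zpow_mul, zpow_natCast, hi, commutatorElement_def]
          rw [hcomm a _ haA (by
            have := hAn.conj_mem a haA b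
            exact A.mul_mem this (A.inv_mem haA))]
          group
        rw [pow_succ', show b * b ^ j * a * (b * b ^ j)⁻¹ = b * (b ^ j * a * (b ^ j)⁻¹) * b⁻¹ by group, ih,
          ← conj_zpow, h1, ← zpow_mul, pow_succ']
    have hbp : b ^ p ∈ A := hAi ▸ pow_index_mem A b
    have h1 : a ^ ((1 + (p : ℤ) * i) ^ p) = a := by
      rw [← hconj p, hcomm _ _ hbp haA, mul_inv_cancel_right]
    have h2 : (p : ℤ) ^ (m - 1) ∣ (1 + (p : ℤ) * i) ^ p - 1 := by
      have : a ^ ((1 + (p : ℤ) * i) ^ p - 1) = 1 := by rw [zpow_sub, h1, zpow_one, mul_inv_cancel]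
      have := orderOf_dvd_iff_zpow_eq_one.mpr this
      rw [hao] at this
      exact_mod_cast this
    have key : (p : ℤ) ^ (m - 2) ∣ (p : ℤ) * i → ⁅b, a⁆ ∈ E := by
      rintro ⟨d, hd⟩
      rw [← hi, hE, mem_zpowers_iff]
      exact ⟨d, by rw [← zpow_natCast a p, ← zpow_natCast a, ← zpow_mul, ← zpow_mul, hd, Nat.cast_pow]⟩
    rcases hp.out.eq_two_or_odd' with hp2 | hodd
    · subst hp2
      -- not of maximal class: the derived subgroup is small
      have hnK : ¬ IsKleinFour (G ⧸ commutator G) := fun hK =>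
        hcl2 rfl (MaxClassTwo.class_of_isKleinFour m G hm hm3 hK)
      haveI := normal_of_frattini_le hG (le_refl (frattini G))
      have hi2 : (2 : ℤ) ∣ i := by
        by_contra hodd
        apply hnK
        have hcB' : B ≤ commutator G := by
          rw [hB, zpowers_le]
          have h3 : ⁅b, a⁆ ∈ commutator G := commutator_mem_commutator (mem_top b) (mem_top a)
          have hgen : a ^ 2 ∈ zpowers ⁅b, a⁆ := by
            have h4 : zpowers ⁅b, a⁆ = zpowers (a ^ 2) := by
              rw [← hi]
              refine le_antisymm (zpowers_le.mpr (zpow_mem (mem_zpowers _) i)) (zpowers_le.mpr ?_)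
              have hcop : IsCoprime (((2 : ℕ) : ℤ) ^ (m - 2)) i := by
                refine IsCoprime.pow_left ?_
                obtain ⟨t, ht⟩ := Int.odd_iff.mpr (show i % 2 = 1 by omega)
                exact ⟨-t, 1, by push_cast; rw [ht]; ring⟩
              obtain ⟨u, v, huv⟩ := hcop
              have h5 : (a ^ 2) ^ (((2 : ℕ) : ℤ) ^ (m - 2)) = 1 := by
                have h6 : orderOf (a ^ 2) = 2 ^ (m - 2) := by rw [← Nat.card_zpowers]; exact hBc
                rw [← Nat.cast_pow, zpow_natCast, ← h6, pow_orderOf_eq_one]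
              refine mem_zpowers_iff.mpr ⟨v, ?_⟩
              rw [← zpow_mul]
              calc (a ^ 2) ^ (i * v) = (a ^ 2) ^ (u * ((2 : ℕ) : ℤ) ^ (m - 2)) * (a ^ 2) ^ (i * v) := by
                    rw [show (a ^ 2) ^ (u * ((2 : ℕ) : ℤ) ^ (m - 2)) = 1 by rw [mul_comm, zpow_mul, h5, one_zpow], one_mul]
                _ = a ^ 2 := by rw [← zpow_add, mul_comm i v, huv, zpow_one]
            rw [h4]; exact mem_zpowers _
          exact zpowers_le.mpr h3 hgen
        have heq : commutator G = B := le_antisymm (hBΦ ▸ PGroupsBasic.commutator_le_frattini hG) hcB'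
        have e := QuotientGroup.quotientMulEquivOfEq (heq.trans hBΦ.symm)
        obtain ⟨-, hexp⟩ := PGroupsBasic.quotient_frattini_elementary hG
        have h4 : Nat.card (G ⧸ commutator G) = 4 := by
          have h := card_mul_index (commutator G)
          rw [heq, hBc, hm, show m = m - 2 + 2 by omega, pow_add, Nat.add_sub_cancel] at h
          have h5 := Nat.eq_of_mul_eq_mul_left (pow_pos two_pos _) h
          show (commutator G).index = 4
          rw [heq, h5]; norm_num
        haveI : Nontrivial (G ⧸ commutator G) := Finite.one_lt_card_iff_nontrivial.mp (by omega)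
        refine ⟨h4, (Monoid.exponent_eq_prime_iff Nat.prime_two).mpr fun g hg => ?_⟩
        exact orderOf_eq_prime (e.injective (by rw [map_pow, hexp, map_one])) hg
      obtain ⟨t, rfl⟩ := hi2
      apply key
      obtain ⟨d, hd⟩ := h2
      have e1 : ((2 : ℕ) : ℤ) ^ (m - 1) = 2 * ((2 : ℕ) : ℤ) ^ (m - 2) := by
        rw [show m - 1 = m - 2 + 1 by omega, pow_succ]; push_cast; ring
      rw [e1] at hd
      have e2 : ((2 : ℕ) : ℤ) * (2 * t) * (1 + 2 * t) = ((2 : ℕ) : ℤ) ^ (m - 2) * d := by
        push_cast at hd ⊢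
        linarith
      have hodd : IsCoprime (((2 : ℕ) : ℤ) ^ (m - 2)) (1 + 2 * t) := by
        refine IsCoprime.pow_left ⟨-t, 1, by push_cast; ring⟩
      exact hodd.dvd_of_dvd_mul_right ⟨d, e2⟩
    · apply key
      obtain ⟨n, hn⟩ : ∃ n, m - 1 = n + 1 := ⟨m - 2, by omega⟩
      rw [hn] at h2
      have h1p : (p : ℤ) ∣ (1 + (p : ℤ) * i) - 1 := ⟨i, by ring⟩
      have hr : ¬ (p : ℤ) ∣ (1 + (p : ℤ) * i) := by
        intro hd
        have h3 := dvd_sub hd h1p
        rw [sub_sub_cancel] at h3
        exact hp.out.one_lt.ne' (Nat.dvd_one.mp (by exact_mod_cast h3))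
      have e := Int.emultiplicity_pow_sub_pow hp.out hodd (x := 1 + (p : ℤ) * i) (y := 1) h1p hr p
      rw [one_pow, (Nat.finiteMultiplicity_iff.mpr ⟨hp.out.ne_one, hp.out.pos⟩).emultiplicity_self] at e
      have h3 := le_emultiplicity_of_pow_dvd h2
      rw [e, Nat.cast_add, Nat.cast_one] at h3
      have := pow_dvd_of_le_emultiplicity ((ENat.add_le_add_iff_right (by simp)).mp h3)
      rw [show m - 2 = n by omega]
      simpa using this
  -- class two with commutators of order dividing `p`
  have hcomm2 : ∀ x y : G, ⁅x, y⁆ ∈ E := by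
    have hdE : commutator G ≤ E := by
      refine (Subgroup.Normal.quotient_commutative_iff_commutator_le).mp ?_
      have h1 : closure ({(QuotientGroup.mk' E) a, (QuotientGroup.mk' E) b} : Set (G ⧸ E)) = ⊤ := by
        rw [eq_top_iff, ← map_top_of_surjective _ (QuotientGroup.mk'_surjective E), ← htop, hagen,
          Subgroup.map_sup, MonoidHom.map_zpowers, MonoidHom.map_zpowers]
        exact sup_le (zpowers_le.mpr (subset_closure (Or.inl rfl))) (zpowers_le.mpr (subset_closure (Or.inr rfl)))
      have hab : Commute ((QuotientGroup.mk' E) a) ((QuotientGroup.mk' E) b) := by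
        apply Commute.symm
        rw [commute_iff_eq, ← commutatorElement_eq_one_iff_mul_comm, ← map_commutatorElement]
        exact (QuotientGroup.eq_one_iff _).mpr hcommE
      have hcomm := isMulCommutative_closure
        (k := ({(QuotientGroup.mk' E) a, (QuotientGroup.mk' E) b} : Set (G ⧸ E))) (by
          rintro u (rfl | rfl) v (rfl | rfl)
          · rfl
          · exact hab
          · exact hab.symm
          · rfl)
      exact ⟨⟨fun u v => PGroupsBasic.comm_of_isMulCommutative hcomm (h1 ▸ mem_top u) (h1 ▸ mem_top v)⟩⟩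
    exact fun x y => hdE (commutator_mem_commutator (mem_top x) (mem_top y))
  have hBmem : ∀ x : G, x ^ p ∈ B := fun x => hBΦ ▸ PGroupsBasic.pow_mem_frattini hG x
  haveI hDn : D.Normal := hsubnormal _ (zpowers_le.mpr (A.pow_mem haA _))
  -- the `p`-th power map into `B / D`
  have hpow_mul : ∀ x y : G, ((x * y) ^ p)⁻¹ * (x ^ p * y ^ p) ∈ D := by
    intro x y
    have hz : ⁅y, x⁆ ∈ center G := hEZ (hcomm2 y x)
    have h := PGroupsBasic.mul_pow_of_central hz p
    rcases hp.out.eq_two_or_odd' with hp2 | hodd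
    · subst hp2
      rw [h]
      rcases eq_or_lt_of_le hm3 with h3 | h4
      · -- order 8: abelian
        have hone : ⁅y, x⁆ = 1 := by
          by_contra hne
          apply hcl2 rfl
          have hcl := MaxClassTwo.nilpotencyClass_le (p := 2) m G hm (by omega)
          refine le_antisymm hcl ?_
          rw [← h3]
          by_contra hlt
          haveI := hG.isNilpotent
          exact hne (commutatorElement_eq_one_iff_mul_comm.mpr
            ((Group.IsNilpotent.nilpotencyClass_le_one_iff.mp (by omega)).is_comm.comm y x))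
        simp [hone]
      · have hED : E ≤ D := by
          rw [hE, hD, zpowers_le]
          refine mem_zpowers_iff.mpr ⟨(2 : ℤ) ^ (m - 4), ?_⟩
          rw [show ((2 : ℤ) ^ (m - 4)) = (((2 : ℕ) ^ (m - 4) : ℕ) : ℤ) by push_cast; rfl, zpow_natCast,
            ← pow_mul, ← pow_add, show 2 + (m - 4) = m - 2 by omega]
        have : ((x ^ 2 * y ^ 2 * ⁅y, x⁆ ^ (2).choose 2))⁻¹ * (x ^ 2 * y ^ 2) = ⁅y, x⁆⁻¹ := by
          simp
          group
        rw [this]
        exact D.inv_mem (hED (hcomm2 y x))
    · rw [h]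
      have hcp : ⁅y, x⁆ ^ p.choose 2 = 1 := by
        have h5 : p ∣ p.choose 2 := hp.out.dvd_choose_self (by norm_num) (by
          have := hp.out.two_le
          rcases hodd with ⟨u, hu⟩
          omega)
        obtain ⟨u, hu⟩ := h5
        rw [hu, pow_mul, PGroupsBasic.pow_eq_one_of_card hEc (hcomm2 y x), one_pow]
      simp [hcp]
  let ψ : G →* G ⧸ D := MonoidHom.mk' (fun x => ((x ^ p : G) : G ⧸ D)) (fun x y => by
    show ((_ : G) : G ⧸ D) = _
    rw [← QuotientGroup.mk_mul, QuotientGroup.eq]
    exact hpow_mul x y)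
  set R := ψ.ker with hR
  have hDcard : Nat.card D = p ^ (m - 3) := by
    rw [hD, hpowcard 2 (by omega), show m - 1 - 2 = m - 3 by omega]
  have hψa : a ∉ R := by
    intro h
    have h' : a ^ p ∈ D := (QuotientGroup.eq_one_iff _).mp h
    have h6 := card_le_of_le (zpowers_le.mpr h')
    rw [hDcard, show Nat.card (zpowers (a ^ p)) = Nat.card B from rfl, hBc,
      Nat.pow_le_pow_iff_right hp.out.one_lt] at h6
    omega
  have hrange : ψ.range = B.map (QuotientGroup.mk' D) := by
    refine le_antisymm ?_ ?_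
    · rintro _ ⟨x, rfl⟩
      exact ⟨x ^ p, hBmem x, rfl⟩
    · rw [hB, MonoidHom.map_zpowers, zpowers_le]
      exact ⟨a, rfl⟩
  have hRi : R.index = p := by
    rw [hR, index_ker, hrange]
    have h := card_map_mk (K := D) (M := B) (zpowers_le.mpr (mem_zpowers_iff.mpr ⟨p, by
      rw [zpow_natCast, ← pow_mul, sq]⟩))
    rw [hBc, hDcard, show m - 2 = 1 + (m - 3) by omega, pow_add, pow_one] at h
    exact Nat.eq_of_mul_eq_mul_right (pow_pos hp.out.pos _) h
  have hRc : Nat.card R = p ^ (m - 1) := by
    have h := card_mul_index R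
    rw [hRi, hm, show m = m - 1 + 1 by omega, pow_succ] at h
    exact Nat.eq_of_mul_eq_mul_right hp.out.pos h
  haveI := Fintype.ofFinite (Subgroup G)
  have hiff : ∀ M : Subgroup G, Nat.card M = p ^ (m - 1) → (IsCyclic M ↔ M ≠ R) := by
    intro M hM
    obtain ⟨hMi, hMΦ⟩ := frattini_le_of_card hG hm (by omega) hM
    constructor
    · intro hMc hMR
      obtain ⟨⟨x, hx⟩, hgx⟩ := hMc.exists_generator
      have hxR : x ^ p ∈ D := (QuotientGroup.eq_one_iff _).mp (show x ∈ R from hMR ▸ hx)
      have hxo : orderOf x = p ^ (m - 1) := by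
        rw [← hM, ← orderOf_eq_card_of_forall_mem_zpowers hgx, ← orderOf_coe]
      have h6 := card_le_of_le (zpowers_le.mpr hxR)
      rw [hDcard, Nat.card_zpowers, orderOf_pow_of_dvd hp.out.ne_zero
          (hxo ▸ dvd_pow_self p (by omega)), hxo,
        show m - 1 = m - 2 + 1 by omega, pow_succ, Nat.mul_div_cancel _ hp.out.pos,
        Nat.pow_le_pow_iff_right hp.out.one_lt] at h6
      omega
    · intro hMR
      obtain ⟨x, hxM, hxR⟩ : ∃ x ∈ M, x ∉ R := by
        by_contra! h
        exact hMR (eq_of_le_of_card_ge h (by rw [hM, hRc]))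
      have hxB : zpowers (x ^ p) = B := by
        refine eq_of_le_of_card_ge (zpowers_le.mpr (hBmem x)) ?_
        obtain ⟨j, hj⟩ := exists_card_eq hG (zpowers (x ^ p))
        rw [hBc, hj]
        refine pow_le_pow_right₀ hp.out.one_lt.le ?_
        by_contra hlt
        refine hxR ((QuotientGroup.eq_one_iff _).mpr ?_)
        have hle : zpowers (x ^ p) ≤ D := by
          obtain ⟨L, -, hL, hLc⟩ := PGroupsBasic.exists_normal_card_pow hG D j (by
            rw [hDcard]; exact pow_le_pow_right₀ hp.out.one_lt.le (by omega))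
          rw [huniq ((zpowers_le.mpr (hBmem x)).trans (zpowers_le.mpr (A.pow_mem haA _)))
            (hL.trans (zpowers_le.mpr (A.pow_mem haA _))) (hj.trans hLc.symm)]
          exact hL
        exact hle (mem_zpowers _)
      have hxo : orderOf (x ^ p) = p ^ (m - 2) := by rw [← Nat.card_zpowers, hxB, hBc]
      have hxnB : x ∉ B := fun hxB' => hxR ((QuotientGroup.eq_one_iff _).mpr (by
        obtain ⟨i, hi⟩ := mem_zpowers_iff.mp hxB'
        rw [← hi, hD, ← zpow_natCast _ p, ← zpow_mul, mul_comm, zpow_mul, zpow_natCast, ← pow_mul, ← sq]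
        exact zpow_mem (mem_zpowers _) i))
      have hlt : zpowers (x ^ p) < zpowers x := lt_of_le_of_ne
        (zpowers_le.mpr (pow_mem (mem_zpowers x) p)) fun h => hxnB (hxB ▸ h.symm ▸ mem_zpowers x)
      obtain ⟨j, hj⟩ := exists_card_eq hG (zpowers x)
      have hcl : Nat.card (zpowers (x ^ p)) < Nat.card (zpowers x) := by
        by_contra hge
        exact hlt.ne (eq_of_le_of_card_ge hlt.le (not_lt.mp hge))
      rw [hj, Nat.card_zpowers, hxo, Nat.pow_lt_pow_iff_right hp.out.one_lt] at hcl
      have : zpowers x = M := eq_of_le_of_card_ge (zpowers_le.mpr hxM)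
        (by rw [hM, hj]; exact pow_le_pow_right₀ hp.out.one_lt.le (by omega))
      subst this
      exact isCyclic_zpowers x
  have hcount := card_above_sq hG hm (by omega) (le_of_eq hBΦ) hBc
  rw [Nat.card_eq_fintype_card, Fintype.card_subtype] at hcount
  have : Nat.card {M : Subgroup G // Nat.card M = p ^ (m - 1) ∧ IsCyclic M} = p := by
    rw [Nat.card_eq_fintype_card, Fintype.card_subtype]
    have heq : (Finset.univ.filter fun M : Subgroup G => Nat.card M = p ^ (m - 1) ∧ IsCyclic M) =
        (Finset.univ.filter fun M : Subgroup G => B ≤ M ∧ Nat.card M = p ^ (m - 1)).erase R := by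
      ext M
      simp only [Finset.mem_filter, Finset.mem_erase, Finset.mem_univ, true_and]
      exact ⟨fun h => ⟨(hiff M h.1).mp h.2, hBΦ ▸ (frattini_le_of_card hG hm (by omega) h.1).2, h.1⟩,
        fun h => ⟨h.2.2, (hiff M h.2.2).mpr h.1⟩⟩
    rw [heq, Finset.card_erase_of_mem (by
      simp [hRc, hBΦ ▸ (frattini_le_of_card hG hm (by omega) hRc).2]), hcount]
    rfl
  rw [this]

/-- In a 2-group that is not of maximal class, the maximal subgroups of maximal class are even in number. -/
theorem two_dvd_card_maxclass_maximal {X : Type*} [Group X] [Finite X] {m : ℕ} (hm4 : 4 ≤ m)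
    (hm : Nat.card X = 2 ^ m) (hnc : ¬ IsCyclic X) (hcl : Group.nilpotencyClass X ≠ m - 1) :
    2 ∣ Nat.card {M : Subgroup X // Nat.card M = 2 ^ (m - 1) ∧ Group.nilpotencyClass M = m - 2} := by
  classical
  haveI : Fact (Nat.Prime 2) := ⟨Nat.prime_two⟩
  have hG : IsPGroup 2 X := IsPGroup.of_card hm
  by_cases hex : ∃ M : Subgroup X, Nat.card M = 2 ^ (m - 1) ∧ Group.nilpotencyClass M = m - 2
  swap
  · push Not at hex
    haveI : IsEmpty {M : Subgroup X // Nat.card M = 2 ^ (m - 1) ∧ Group.nilpotencyClass M = m - 2} :=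
      ⟨fun M => hex M.1 M.2.1 M.2.2⟩
    simp
  obtain ⟨M, hMc, hMcl⟩ := hex
  have hMG : IsPGroup 2 M := hG.to_subgroup M
  obtain ⟨C, hC, hCi, hdM, -, -, -⟩ := MaxClassTwo.structure_of_maxClass (n := m - 1) (by omega) hMc
    (by rw [hMcl]; omega)
  set G' := commutator X with hG'
  set M' := (commutator M).map M.subtype with hM'
  have hM'le : M' ≤ G' := by
    rw [hM', hG', _root_.commutator_def, _root_.commutator_def, map_commutator]
    exact commutator_mono le_top le_top
  have hM'c : Nat.card M' = 2 ^ (m - 3) := by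
    rw [hM', card_map_of_injective M.subtype_injective, hdM]; congr 1
  have hGc : Nat.card G' = 2 ^ (m - 3) := by
    obtain ⟨j, hj⟩ := exists_card_eq hG G'
    have h1 := card_le_of_le hM'le
    rw [hj, hM'c, Nat.pow_le_pow_iff_right one_lt_two] at h1
    rw [hj]
    obtain ⟨c, hc, hc2⟩ := two_le_of_noncyclic hG hm hnc
    have h2 := card_le_of_le (PGroupsBasic.commutator_le_frattini hG)
    rw [hc, ← hG', hj, Nat.pow_le_pow_iff_right one_lt_two] at h2
    by_contra hne
    have hjm : j = m - 2 := by
      have : j ≠ m - 3 := fun h => hne (by rw [h])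
      omega
    apply hcl
    apply MaxClassTwo.class_of_isKleinFour m X hm (by omega)
    have hGΦ : G' = frattini X := eq_of_le_of_card_ge (PGroupsBasic.commutator_le_frattini hG) (by
      rw [hc, hj]; exact pow_le_pow_right₀ one_le_two (by omega))
    haveI := normal_of_frattini_le hG (le_refl (frattini X))
    obtain ⟨-, hexp⟩ := PGroupsBasic.quotient_frattini_elementary hG
    have e := QuotientGroup.quotientMulEquivOfEq hGΦ
    have h4 : Nat.card (X ⧸ commutator X) = 4 := by
      have h := card_mul_index G'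
      rw [hj, hjm, hm, show m = m - 2 + 2 by omega, pow_add, Nat.add_sub_cancel] at h
      exact Nat.eq_of_mul_eq_mul_left (pow_pos two_pos _) h
    haveI : Nontrivial (X ⧸ commutator X) := Finite.one_lt_card_iff_nontrivial.mp (by omega)
    refine ⟨h4, (Monoid.exponent_eq_prime_iff Nat.prime_two).mpr fun g hg => ?_⟩
    exact orderOf_eq_prime (e.injective (by rw [map_pow, hexp, map_one])) hg
  have hMG' : M' = G' := eq_of_le_of_card_ge hM'le (by rw [hGc, hM'c])
  have hG'cyc : IsCyclic G' := by
    haveI : C.Normal := PGroupsBasic.normal_of_index_eq hMG hCi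
    have hdC : commutator M ≤ C := PGroupsBasic.commutator_le_of_index_le_sq hMG (by
      rw [hCi]; norm_num)
    haveI := hC
    haveI : IsCyclic (commutator M) := Subgroup.isCyclic_of_le hdC
    rw [← hMG', hM']
    exact isCyclic_of_surjective _ ((commutator M).equivMapOfInjective M.subtype M.subtype_injective).surjective
  obtain ⟨K, hKn, hKle, hKc⟩ := PGroupsBasic.exists_normal_card_pow hG G' (m - 4) (by
    rw [hGc]; exact pow_le_pow_right₀ one_le_two (by omega))
  -- a proper subgroup of `G'` lies in `K`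
  have hsub : ∀ L : Subgroup X, L ≤ G' → L ≠ G' → L ≤ K := by
    intro L hL hne
    obtain ⟨j, hj⟩ := exists_card_eq hG L
    have hlt : Nat.card L < Nat.card G' := by
      by_contra h
      exact hne (eq_of_le_of_card_ge hL (not_lt.mp h))
    rw [hj, hGc, Nat.pow_lt_pow_iff_right one_lt_two] at hlt
    obtain ⟨L', -, hL', hL'c⟩ := PGroupsBasic.exists_normal_card_pow hG K j (by
      rw [hKc]; exact pow_le_pow_right₀ one_le_two (by omega))
    rw [PGroupsCyclic.eq_of_card_eq_of_isCyclic hG'cyc hL (hL'.trans hKle) (hj.trans hL'c.symm)]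
    exact hL'
  set f := QuotientGroup.mk' K with hf
  have hfs : Function.Surjective f := QuotientGroup.mk'_surjective K
  have hQd : commutator (X ⧸ K) = G'.map f := by
    rw [hG', _root_.commutator_def, _root_.commutator_def, map_commutator, map_top_of_surjective _ hfs]
  have hQdc : Nat.card (commutator (X ⧸ K)) = 2 := by
    have h := card_map_mk hKle
    rw [← hf, ← hQd, hKc, hGc, show m - 3 = 1 + (m - 4) by omega, pow_add, pow_one] at h
    exact Nat.eq_of_mul_eq_mul_right (pow_pos two_pos _) h
  have hQc : Nat.card (X ⧸ K) = 2 ^ 4 := by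
    have h := card_mul_index K
    rw [hKc, hm, show m = m - 4 + 4 by omega, pow_add, Nat.add_sub_cancel] at h
    exact Nat.eq_of_mul_eq_mul_left (pow_pos two_pos _) h
  have hQG : IsPGroup 2 (X ⧸ K) := hG.to_quotient K
  have hdZ : commutator (X ⧸ K) ≤ center (X ⧸ K) := PGroupsBasic.le_center_of_card_eq_prime hQG hQdc
  have hQnc : ¬ ∀ u v : X ⧸ K, u * v = v * u := by
    intro h
    haveI : Subsingleton (commutator (X ⧸ K)) := by
      have : commutator (X ⧸ K) = ⊥ := by
        rw [_root_.commutator_def, commutator_eq_bot_iff_le_centralizer]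
        exact fun u _ => mem_centralizer_iff.mpr fun v _ => h v u
      rw [this]; infer_instance
    rw [Nat.card_unique] at hQdc
    omega
  -- the centre of the quotient has index four
  have hZ4 : (center (X ⧸ K)).index = 4 := by
    obtain ⟨u, hu⟩ : ∃ u, u ∉ center (X ⧸ K) := by
      by_contra! h
      exact hQnc fun u v => (mem_center_iff.mp (h v)) u
    set Cu := centralizer ({u} : Set (X ⧸ K))
    let d : (X ⧸ K) →* commutator (X ⧸ K) := MonoidHom.mk'
      (fun g => ⟨⁅g, u⁆, commutator_mem_commutator (mem_top g) (mem_top u)⟩) (fun g h => Subtype.ext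
        (PGroupsBasic.commutatorElement_mul_left_of_central
          (hdZ (commutator_mem_commutator (mem_top h) (mem_top u)))))
    have hker : d.ker = Cu := by
      ext g
      rw [MonoidHom.mem_ker, mem_centralizer_singleton_iff, Subtype.ext_iff]
      exact commutatorElement_eq_one_iff_mul_comm
    have hCu : Cu.index = 2 := by
      have h1 : Cu.index ∣ 2 := by
        rw [← hker, index_ker, ← hQdc]
        exact card_subgroup_dvd_card _
      refine ((Nat.dvd_prime Nat.prime_two).mp h1).resolve_left fun h2 => ?_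
      rw [index_eq_one] at h2
      exact hu (mem_center_iff.mpr fun g => mem_centralizer_singleton_iff.mp (h2 ▸ mem_top g : g ∈ Cu))
    have hCuab : IsMulCommutative Cu := by
      refine PGroupsBasic.isMulCommutative_of_forall ?_
      -- `u` and the derived subgroup are central in `Cu`, whose quotient by them is cyclic
      set W := (zpowers u ⊔ commutator (X ⧸ K)).subgroupOf Cu
      have hWle : zpowers u ⊔ commutator (X ⧸ K) ≤ Cu :=
        sup_le (zpowers_le.mpr (mem_centralizer_singleton_iff.mpr rfl)) fun g hg =>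
          mem_centralizer_singleton_iff.mpr ((mem_center_iff.mp (hdZ hg) u).symm)
      have hWZ : W ≤ center Cu := by
        intro w hw
        rw [mem_center_iff]
        intro g
        apply Subtype.ext
        have hle : zpowers u ⊔ commutator (X ⧸ K) ≤ centralizer ({(g : X ⧸ K)} : Set (X ⧸ K)) :=
          sup_le (zpowers_le.mpr (mem_centralizer_singleton_iff.mpr
              (mem_centralizer_singleton_iff.mp g.2).symm)) fun g' hg' =>
            mem_centralizer_singleton_iff.mpr ((mem_center_iff.mp (hdZ hg') g).symm)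
        exact (mem_centralizer_singleton_iff.mp (hle hw)).symm
      haveI : W.Normal := PGroupsBasic.normal_of_le_center hWZ
      have hW4 : 4 ≤ Nat.card W := by
        rw [Nat.card_congr (subgroupOfEquivOfLe hWle).toEquiv]
        have hlt : commutator (X ⧸ K) < zpowers u ⊔ commutator (X ⧸ K) :=
          lt_of_le_of_ne le_sup_right fun h => hu (hdZ (h.symm ▸ mem_sup_left (mem_zpowers u)))
        obtain ⟨j, hj⟩ := exists_card_eq hQG (zpowers u ⊔ commutator (X ⧸ K))
        have hlt2 : Nat.card (commutator (X ⧸ K)) < Nat.card (zpowers u ⊔ commutator (X ⧸ K) : Subgroup (X ⧸ K)) := by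
          by_contra h
          exact hlt.ne (eq_of_le_of_card_ge hlt.le (not_lt.mp h))
        rw [hQdc, hj] at hlt2
        rw [hj]
        rcases j with _ | _ | j
        · simp at hlt2
        · simp at hlt2
        · rw [pow_succ, pow_succ]
          have := Nat.one_le_two_pow (n := j)
          omega
      have hCu8 : Nat.card Cu = 8 := by
        have h := card_mul_index Cu
        rw [hCu, hQc] at h
        omega
      haveI : IsCyclic (Cu ⧸ W) := by
        have h := card_mul_index W
        rw [hCu8] at h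
        have h2 : W.index ∣ 2 := by
          have h0 : W.index ≠ 0 := index_ne_zero_of_finite
          have hle : W.index ≤ 2 := by nlinarith
          interval_cases W.index <;> norm_num at *
        rcases (Nat.dvd_prime Nat.prime_two).mp h2 with h3 | h3
        · haveI := (Nat.card_eq_one_iff_unique.mp h3).1
          infer_instance
        · exact isCyclic_of_prime_card h3
      intro g hg g' hg'
      exact congrArg Subtype.val ((MonoidHom.isMulCommutative_of_isCyclic_of_ker_le_center
        (QuotientGroup.mk' W) (by rw [QuotientGroup.ker_mk']; exact hWZ)).is_comm.comm ⟨g, hg⟩ ⟨g', hg'⟩)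
    obtain ⟨y, hy⟩ : ∃ y, y ∉ Cu := by
      by_contra! h
      rw [(eq_top_iff.mpr fun x _ => h x : Cu = ⊤), index_top] at hCu
      omega
    obtain ⟨-, -, -, hcard⟩ := MaxClassTwo.abelian_index_prime hQG Cu hCuab hCu hQnc hy
    have h1 := card_mul_index Cu
    rw [hCu, hQc] at h1
    have h2 := card_mul_index (center (X ⧸ K))
    rw [hQc] at h2
    rw [hQdc] at hcard
    have h3 : Nat.card (center (X ⧸ K)) = 4 := by omega
    rw [h3] at h2
    omega
  set Z0 := (center (X ⧸ K)).comap f with hZ0
  have hZ0i : Z0.index = 4 := by rw [hZ0, index_comap_of_surjective _ hfs, hZ4]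
  haveI : Z0.Normal := inferInstance
  have hZ0exp : ∀ g : X, g ^ 2 ∈ Z0 := by
    intro g
    rw [hZ0, mem_comap, map_pow, mem_center_iff]
    intro h
    refine (commutatorElement_eq_one_iff_mul_comm.mp ?_).symm
    have hc := hdZ (commutator_mem_commutator (mem_top (f g)) (mem_top h))
    rw [PGroupsBasic.commutatorElement_pow_left hc]
    exact PGroupsBasic.pow_eq_one_of_card hQdc (commutator_mem_commutator (mem_top _) (mem_top _))
  have hG'Z0 : G' ≤ Z0 := by
    rw [hZ0, ← map_le_iff_le_comap, ← hQd]; exact hdZ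
  have hΦZ0 : frattini X ≤ Z0 := PGroupsBasic.frattini_le_of_elementary_quotient hG'Z0 hZ0exp
  have hZ0c : Nat.card Z0 = 2 ^ (m - 2) := by
    have h := card_mul_index Z0
    rw [hZ0i, hm, show m = m - 2 + 2 by omega, pow_add] at h
    exact Nat.eq_of_mul_eq_mul_right (by norm_num) h
  haveI := Fintype.ofFinite (Subgroup X)
  have hiff : ∀ N : Subgroup X, Nat.card N = 2 ^ (m - 1) →
      (Group.nilpotencyClass N = m - 2 ↔ ¬ Z0 ≤ N) := by
    intro N hN
    obtain ⟨hNi, hNΦ⟩ := frattini_le_of_card hG hm (by omega) hN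
    constructor
    · intro hNcl hle
      obtain ⟨-, -, -, hdN, -⟩ := MaxClassTwo.structure_of_maxClass (n := m - 1) (by omega) hN
        (by rw [hNcl]; omega)
      have hN'c : Nat.card ((commutator N).map N.subtype) = 2 ^ (m - 3) := by
        rw [card_map_of_injective N.subtype_injective, hdN]; congr 1
      have hN'K : (commutator N).map N.subtype ≤ K := by
        rw [← QuotientGroup.ker_mk' K, ← hf, ← Subgroup.map_eq_bot_iff, map_map, _root_.commutator_def,
          map_commutator, commutator_eq_bot_iff_le_centralizer]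
        have hcyc : IsCyclic (N ⧸ Z0.subgroupOf N) := by
          have : (Z0.subgroupOf N).index = 2 := by
            have h := relIndex_mul_index hle
            rw [hNi, hZ0i] at h
            show Z0.relIndex N = 2
            omega
          exact isCyclic_of_prime_card this
        have hker : (QuotientGroup.mk' (Z0.subgroupOf N)).ker ≤ Z0.subgroupOf N :=
          (QuotientGroup.ker_mk' _).le
        intro u hu
        rw [mem_centralizer_iff]
        intro v hv
        obtain ⟨⟨u, hu⟩, -, rfl⟩ := hu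
        obtain ⟨⟨v, hv⟩, -, rfl⟩ := hv
        show f v * f u = f u * f v
        obtain ⟨g, hg⟩ := hcyc.exists_generator
        obtain ⟨g, rfl⟩ := QuotientGroup.mk_surjective g
        have hdec : ∀ x : N, ∃ (i : ℤ) (z : X ⧸ K), z ∈ center (X ⧸ K) ∧ f x = f g ^ i * z := by
          intro x
          obtain ⟨i, hi⟩ := hg (x : N ⧸ Z0.subgroupOf N)
          have hi' : (((g ^ i)⁻¹ * x : N) : X) ∈ Z0 := by
            have h1 : ((g ^ i : N) : N ⧸ Z0.subgroupOf N) = (x : N ⧸ Z0.subgroupOf N) := by
              rw [QuotientGroup.mk_zpow]; exact hi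
            exact (QuotientGroup.eq (s := Z0.subgroupOf N)).mp h1
          refine ⟨i, f (((g ^ i)⁻¹ * x : N) : X), hi', ?_⟩
          rw [← map_zpow, ← map_mul]
          simp
        obtain ⟨i, z, hz, hu'⟩ := hdec ⟨u, hu⟩
        obtain ⟨j, w, hw, hv'⟩ := hdec ⟨v, hv⟩
        show f v * f u = f u * f v
        rw [show f v = _ from hv', show f u = _ from hu']
        have hz' := mem_center_iff.mp hz
        have hw' := mem_center_iff.mp hw
        calc f g ^ j * w * (f g ^ i * z) = f g ^ j * (w * f g ^ i) * z := by group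
          _ = f g ^ j * (f g ^ i * w) * z := by rw [hw']
          _ = f g ^ i * f g ^ j * (w * z) := by rw [← zpow_add, add_comm, zpow_add]; group
          _ = f g ^ i * f g ^ j * (z * w) := by rw [hz']
          _ = f g ^ i * (f g ^ j * z) * w := by group
          _ = f g ^ i * (z * f g ^ j) * w := by rw [hz']
          _ = f g ^ i * z * (f g ^ j * w) := by group
      have := card_le_of_le hN'K
      rw [hN'c, hKc, Nat.pow_le_pow_iff_right one_lt_two] at this
      omega
    · intro hnle
      have hsup : N ⊔ Z0 = ⊤ := (PGroupsBasic.isCoatom_of_index_eq hNi).2 _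
        (lt_of_le_of_ne le_sup_left fun h => hnle (h.symm ▸ le_sup_right))
      have hN'G : (commutator N).map N.subtype = G' := by
        by_contra hne
        have hle : (commutator N).map N.subtype ≤ G' := by
          rw [hG', _root_.commutator_def, _root_.commutator_def, map_commutator]
          exact commutator_mono le_top le_top
        have hK' := hsub _ hle hne
        apply hQnc
        have hcN : ∀ u ∈ N, ∀ v ∈ N, f u * f v = f v * f u := by
          intro u hu v hv
          rw [← commutatorElement_eq_one_iff_mul_comm, ← map_commutatorElement]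
          refine (QuotientGroup.eq_one_iff _).mpr (hK' ⟨⁅(⟨u, hu⟩ : N), ⟨v, hv⟩⁆, ?_, rfl⟩)
          exact commutator_mem_commutator (mem_top _) (mem_top _)
        have hall : (⊤ : Subgroup (X ⧸ K)) = N.map f ⊔ center (X ⧸ K) := by
          rw [← map_top_of_surjective _ hfs, ← hsup, Subgroup.map_sup, hZ0,
            map_comap_eq_self_of_surjective hfs]
        intro u v
        have h1 : ∀ u ∈ N.map f, (⊤ : Subgroup (X ⧸ K)) ≤ centralizer ({u} : Set (X ⧸ K)) := by
          rintro _ ⟨u, hu, rfl⟩
          rw [hall]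
          refine sup_le ?_ fun z hz => mem_centralizer_singleton_iff.mpr ((mem_center_iff.mp hz (f u)).symm)
          rintro _ ⟨w, hw, rfl⟩
          exact mem_centralizer_singleton_iff.mpr (hcN w hw u hu)
        have h2 : (⊤ : Subgroup (X ⧸ K)) ≤ center (X ⧸ K) := by
          conv_lhs => rw [hall]
          exact sup_le (fun w hw => mem_center_iff.mpr fun g =>
            mem_centralizer_singleton_iff.mp (h1 w hw (mem_top g))) le_rfl
        exact mem_center_iff.mp (h2 (mem_top v)) u
      have h4 : Nat.card (N ⧸ commutator N) = 4 := by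
        have h := card_mul_index (commutator N)
        rw [show Nat.card (commutator N) = 2 ^ (m - 3) by
            rw [← hGc, ← hN'G, card_map_of_injective N.subtype_injective], hN,
          show m - 1 = m - 3 + 2 by omega, pow_add] at h
        exact (Nat.eq_of_mul_eq_mul_left (pow_pos two_pos _) h).trans (by norm_num)
      have hNnc : ¬ ∀ u v : N, u * v = v * u := by
        intro h
        have : commutator N = ⊥ := by
          rw [_root_.commutator_def, commutator_eq_bot_iff_le_centralizer]
          exact fun u _ => mem_centralizer_iff.mpr fun v _ => h v u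
        rw [this, Subgroup.map_bot] at hN'G
        rw [← hN'G, card_bot] at hGc
        exact absurd hGc (Nat.one_lt_pow (by omega) one_lt_two).ne
      haveI : Nontrivial (N ⧸ commutator N) := Finite.one_lt_card_iff_nontrivial.mp (by omega)
      have hK : IsKleinFour (N ⧸ commutator N) := by
        refine ⟨h4, (Monoid.exponent_eq_prime_iff Nat.prime_two).mpr fun g hg => ?_⟩
        have hd : orderOf g ∣ 2 ^ 2 := by
          have := orderOf_dvd_natCard g
          rwa [h4] at this
        obtain ⟨j, hj, hgo⟩ := (Nat.dvd_prime_pow Nat.prime_two).mp hd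
        interval_cases j
        · exact absurd (orderOf_eq_one_iff.mp (by simpa using hgo)) hg
        · simpa using hgo
        · exfalso
          haveI : IsCyclic (N ⧸ commutator N) := isCyclic_of_orderOf_eq_card g (by rw [hgo, h4]; norm_num)
          have hNG : IsPGroup 2 N := hG.to_subgroup N
          obtain ⟨c, hc, hc2⟩ := two_le_of_noncyclic hNG hN fun hcy => hNnc fun u v =>
            hcy.commGroup.mul_comm u v
          haveI := normal_of_frattini_le hNG (le_refl (frattini N))
          obtain ⟨-, hexp⟩ := PGroupsBasic.quotient_frattini_elementary hNG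
          have hle := PGroupsBasic.commutator_le_frattini hNG
          have h5 : Nat.card (commutator N) = 2 ^ (m - 3) := by
            rw [← hGc, ← hN'G, card_map_of_injective N.subtype_injective]
          have h6 := card_le_of_le hle
          rw [h5, hc, Nat.pow_le_pow_iff_right one_lt_two] at h6
          have heq : commutator N = frattini N := eq_of_le_of_card_ge hle (by
            rw [h5, hc]; exact pow_le_pow_right₀ one_le_two (by omega))
          have e := QuotientGroup.quotientMulEquivOfEq heq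
          have : g ^ 2 = 1 := e.injective (by rw [map_pow, hexp, map_one])
          have := orderOf_dvd_of_pow_eq_one this
          rw [hgo] at this
          norm_num at this
      have := MaxClassTwo.class_of_isKleinFour (m - 1) N hN (by omega) hK
      omega
  have heq : Nat.card {N : Subgroup X // Nat.card N = 2 ^ (m - 1) ∧ Group.nilpotencyClass N = m - 2} +
      Nat.card {N : Subgroup X // Z0 ≤ N ∧ Nat.card N = 2 ^ (m - 1)} =
      Nat.card {N : Subgroup X // Nat.card N = 2 ^ (m - 1)} := by
    simp only [Nat.card_eq_fintype_card, Fintype.card_subtype]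
    rw [← Finset.card_union_of_disjoint]
    · congr 1
      ext N
      simp only [Finset.mem_union, Finset.mem_filter, Finset.mem_univ, true_and]
      constructor
      · rintro (h | h)
        · exact h.1
        · exact h.2
      · intro h
        by_cases hz : Z0 ≤ N
        · exact Or.inr ⟨hz, h⟩
        · exact Or.inl ⟨h, (hiff N h).mpr hz⟩
    · rw [Finset.disjoint_filter]
      rintro N - ⟨h1, h2⟩ ⟨h3, -⟩
      exact (hiff N h1).mp h2 h3
  have hodd := card_maximal hG hm hnc
  have h3 := card_above_sq hG hm (by omega) hΦZ0 hZ0c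
  rw [h3] at heq
  rw [← heq, Nat.cast_add] at hodd
  have h0 : (Nat.card {N : Subgroup X // Nat.card N = 2 ^ (m - 1) ∧ Group.nilpotencyClass N = m - 2} :
      ZMod (2 ^ 2)) = 0 := by
    have : ((2 + 1 : ℕ) : ZMod (2 ^ 2)) = 1 + ((2 : ℕ) : ZMod (2 ^ 2)) := by push_cast; ring
    rw [this] at hodd
    exact add_eq_right.mp hodd
  exact (dvd_pow_self 2 two_ne_zero).trans ((ZMod.natCast_eq_zero_iff _ _).mp h0)

universe u

/-- Kulakoff's theorem. -/
theorem kulakoff (m : ℕ) : ∀ (G : Type u) [Group G] [Finite G] (hm : Nat.card G = p ^ m),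
    ¬ IsCyclic G → (p = 2 → haveI := (IsPGroup.of_card hm).isNilpotent; Group.nilpotencyClass G ≠ m - 1) →
    ∀ k, 1 ≤ k → k < m →
      (Nat.card {H : Subgroup G // Nat.card H = p ^ k} : ZMod (p ^ 2)) = 1 + p := by
  induction m using Nat.strong_induction_on with
  | _ m ih =>
  intro G _ _ hm hnc h2 k hk1 hk
  classical
  have hG : IsPGroup p G := IsPGroup.of_card hm
  haveI := hG.isNilpotent
  haveI := Fintype.ofFinite (Subgroup G)
  rcases eq_or_lt_of_le (Nat.succ_le_of_lt hk) with rfl | hk2
  · simpa using card_maximal hG hm hnc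
  set mx := Finset.univ.filter fun M : Subgroup G => Nat.card M = p ^ (m - 1) with hmx
  set dd := Finset.univ.filter fun D : Subgroup G => frattini G ≤ D ∧ Nat.card D = p ^ (m - 2) ∧ 2 ≤ m
    with hdd
  rw [enumeration hG hm hk mx dd (by simp [hmx]) (by simp [hdd])]
  have hsumD : (p : ZMod (p ^ 2)) * ∑ D ∈ dd, (cnt p k D : ZMod (p ^ 2)) = p := by
    have h1 : ∀ D ∈ dd, (p : ZMod (p ^ 2)) * (cnt p k D : ZMod (p ^ 2)) = p := by
      intro D hD
      simp only [hdd, Finset.mem_filter, Finset.mem_univ, true_and] at hD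
      have h := cnt_modEq_one hG (k := k) (A := D)
        (by rw [hD.2.1]; exact pow_le_pow_right₀ hp.out.one_lt.le (by omega))
      have h3 := (ZMod.natCast_eq_natCast_iff _ _ _).mpr (sq p ▸ h.mul_left' p)
      simpa using h3
    rw [Finset.mul_sum, Finset.sum_congr rfl h1, Finset.sum_const, nsmul_eq_mul, mul_comm]
    obtain ⟨c, hc, hc2⟩ := two_le_of_noncyclic hG hm hnc
    haveI := normal_of_frattini_le hG (le_refl (frattini G))
    have h := card_between_modEq hG (A := ⊤) le_top hc (j := m - 2) (by omega)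
      (by rw [card_top, hm]; exact pow_le_pow_right₀ hp.out.one_lt.le (by omega))
    rw [Nat.card_eq_fintype_card, Fintype.card_subtype] at h
    have hd : dd.card ≡ 1 [MOD p] := by
      convert h using 2
      ext D
      simp only [hdd, Finset.mem_filter, Finset.mem_univ, true_and, le_top]
      exact ⟨fun h => ⟨h.1, h.2.1⟩, fun h => ⟨h.1, h.2, by omega⟩⟩
    have h3 := (ZMod.natCast_eq_natCast_iff _ _ _).mpr (sq p ▸ hd.mul_left' p)
    simpa using h3
  have hmcard : (mx.card : ZMod (p ^ 2)) = 1 + p := by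
    have h := card_maximal hG hm hnc
    rwa [Nat.card_eq_fintype_card, Fintype.card_subtype] at h
  let Exc : Subgroup G → Prop := fun M =>
    IsCyclic M ∨ (p = 2 ∧ k + 3 ≤ m ∧ Group.nilpotencyClass M = m - 2)
  have hval : ∀ M ∈ mx, (cnt p k M : ZMod (p ^ 2)) = 1 + p - if Exc M then (p : ZMod (p ^ 2)) else 0 := by
    intro M hM
    simp only [hmx, Finset.mem_filter, Finset.mem_univ, true_and] at hM
    have hMG : IsPGroup p M := hG.to_subgroup M
    rw [cnt_eq]
    by_cases hcyc : IsCyclic M
    · rw [if_pos (Or.inl hcyc), add_sub_cancel_right]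
      have h1 : Nat.card {H : Subgroup M // Nat.card H = p ^ k} = 1 := by
        rw [Nat.card_eq_one_iff_unique]
        obtain ⟨L, -, -, hL⟩ := PGroupsBasic.exists_normal_card_pow hMG (⊤ : Subgroup M) k
          (by rw [card_top, hM]; exact pow_le_pow_right₀ hp.out.one_lt.le (by omega))
        refine ⟨⟨fun a b => Subtype.ext ?_⟩, ⟨⟨L, hL⟩⟩⟩
        exact PGroupsCyclic.eq_of_card_eq_of_isCyclic (A := ⊤)
          (isCyclic_of_surjective topEquiv.symm.toMonoidHom topEquiv.symm.surjective)
          le_top le_top (a.2.trans b.2.symm)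
      simp [h1]
    by_cases htop : k + 2 = m
    · have hExc : ¬ Exc M := by rintro (h | ⟨-, h, -⟩); exact hcyc h; omega
      rw [if_neg hExc, sub_zero, ← card_maximal hMG hM hcyc, show m - 1 - 1 = k by omega]
    by_cases hmc : p = 2 ∧ Group.nilpotencyClass M = m - 2
    · obtain ⟨rfl, hcl⟩ := hmc
      have hExc : Exc M := Or.inr ⟨rfl, by omega, hcl⟩
      rw [if_pos hExc, add_sub_cancel_right]
      have h := card_maxclass_not_cyclic (n := m - 1) (by omega) hM (by rw [hcl]; omega) hk1 (by omega)
      have h3 := (ZMod.natCast_eq_natCast_iff _ _ (2 ^ 2)).mpr h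
      simpa using h3
    · have hExc : ¬ Exc M := by
        rintro (h | ⟨h1, -, h3⟩)
        · exact hcyc h
        · exact hmc ⟨h1, h3⟩
      rw [if_neg hExc, sub_zero]
      refine ih (m - 1) (by omega) M hM hcyc (fun hp2 hcl => hmc ⟨hp2, by rw [hcl]; omega⟩) k hk1 (by omega)
  rw [Finset.sum_congr rfl hval, Finset.sum_sub_distrib, Finset.sum_const, nsmul_eq_mul, hmcard, hsumD,
    ← Finset.sum_filter, Finset.sum_const, nsmul_eq_mul]
  have hexc : p ∣ (mx.filter Exc).card := by
    have hc := dvd_card_cyclic_maximal hG hm (by omega) hnc h2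
    rw [Nat.card_eq_fintype_card, Fintype.card_subtype] at hc
    by_cases hcase : p = 2 ∧ k + 3 ≤ m
    · obtain ⟨rfl, hk3⟩ := hcase
      have hmc := two_dvd_card_maxclass_maximal (by omega) hm hnc (h2 rfl)
      rw [Nat.card_eq_fintype_card, Fintype.card_subtype] at hmc
      have heq : mx.filter Exc =
          (Finset.univ.filter fun M : Subgroup G => Nat.card M = 2 ^ (m - 1) ∧ IsCyclic M) ∪
          (Finset.univ.filter fun M : Subgroup G =>
            Nat.card M = 2 ^ (m - 1) ∧ Group.nilpotencyClass M = m - 2) := by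
        ext M
        simp only [hmx, Exc, Finset.mem_filter, Finset.mem_union, Finset.mem_univ, true_and]
        constructor
        · rintro ⟨h1, h | ⟨-, h⟩⟩
          · exact Or.inl ⟨h1, h⟩
          · exact Or.inr ⟨h1, h⟩
        · rintro (h | h)
          · exact ⟨h.1, Or.inl h.2⟩
          · exact ⟨h.1, Or.inr ⟨hk3, h.2⟩⟩
      rw [heq, Finset.card_union_of_disjoint]
      · exact dvd_add hc hmc
      · rw [Finset.disjoint_filter]
        rintro M - ⟨hM, hcy⟩ ⟨-, hcl⟩
        haveI := hcy
        have := MaxClassTwo.nilpotencyClass_le_one_of_comm (X := M) fun a b => hcy.commGroup.mul_comm a b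
        omega
    · have heq : mx.filter Exc =
          Finset.univ.filter fun M : Subgroup G => Nat.card M = p ^ (m - 1) ∧ IsCyclic M := by
        ext M
        simp only [hmx, Exc, Finset.mem_filter, Finset.mem_univ, true_and]
        constructor
        · rintro ⟨h1, h | ⟨ha, hb, -⟩⟩
          · exact ⟨h1, h⟩
          · exact absurd ⟨ha, hb⟩ hcase
        · exact fun h => ⟨h.1, Or.inl h.2⟩
      rw [heq]; exact hc
  have hexc0 : ((mx.filter Exc).card : ZMod (p ^ 2)) * p = 0 := by
    rw [← Nat.cast_mul, ZMod.natCast_eq_zero_iff, sq]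
    exact Nat.mul_dvd_mul_right hexc p
  have hp0 : (p : ZMod (p ^ 2)) * p = 0 := by
    rw [← Nat.cast_mul, ← sq, ZMod.natCast_self]
  rw [hexc0]
  linear_combination hp0

end Cfsg.Agent.Kulakoff73
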