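import Mathlib
import Cfsg.Prelude.Def_Balance
import Cfsg.Prelude.Def_CaseTheorems
import Cfsg.Agent.Lib.ComponentsBalance
import Cfsg.Agent.Lib.L2BalanceUse

/-!
A maximal component of an involution centralizer is a component of the centralizer of every
involution of a largest elementary abelian subgroup of its centralizer.
-/

set_option autoImplicit false
set_option linter.style.haveILetI false

namespace Cfsg.Agent.L2BalanceMax

open Subgroup Cfsg
open scoped commutatorElement
open Cfsg.Agent.ComponentsBasic Cfsg.Agent.L2BalanceAut Cfsg.Agent.L2BalanceUse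

universe u

/-- The diagonal map into two commuting conjugates. -/
def diag {Y : Type*} [Group Y] (J : Subgroup Y) (t : Y) (hcomm : ⁅J, cjg t J⁆ = ⊥) : J →* Y where
  toFun x := x * (t * x * t⁻¹)
  map_one' := by simp
  map_mul' x y := by
    have h : (t * (x : Y) * t⁻¹) * y = y * (t * (x : Y) * t⁻¹) :=
      (mem_centralizer_iff.mp ((commutator_eq_bot_iff_le_centralizer.mp hcomm) y.2) _
        (mem_map_of_mem _ x.2 : (MulAut.conj t).toMonoidHom (x : Y) ∈ cjg t J))
    simp only [Subgroup.coe_mul]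
    calc (x : Y) * y * (t * (x * y) * t⁻¹) = x * (y * (t * x * t⁻¹)) * (t * y * t⁻¹) := by group
      _ = x * ((t * x * t⁻¹) * y) * (t * y * t⁻¹) := by rw [h]
      _ = _ := by group

theorem cjg_cjg {Y : Type*} [Group Y] (a b : Y) (L : Subgroup Y) :
    cjg a (cjg b L) = cjg (a * b) L := ComponentsBalance.conj_map_map L a b

/-- The core of the argument, inside the group `Y` playing `C(b)`. -/
theorem core {Y : Type u} [Group Y] [Finite Y] (hZ : ZStarProp.{u}) (hL : pLayer 2 Y ≤ layer Y)
    {t : Y} (ht : orderOf t = 2) {K : Subgroup Y} (hKt : K ≤ centralizer ({t} : Set Y))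
    (hK : IsComponent (K.subgroupOf (centralizer ({t} : Set Y)))) (hrk : ¬ PRankLE 2 1 K)
    {B : Subgroup Y} (hBel : IsElementaryAbelian 2 B) (htB : t ∈ B)
    (hBK : B ≤ centralizer (K : Set Y))
    (hmax : ∀ J : Subgroup Y, IsComponent J → Nat.card J ≤ Nat.card K ∧
      (Nat.card J = Nat.card K → ∀ E : Subgroup Y, E ≤ centralizer (J : Set Y) →
        IsElementaryAbelian 2 E → Nat.card E ≤ Nat.card B)) :
    IsComponent K := by
  haveI := hBel.1
  have hB2 : ∀ x ∈ B, x * x = 1 := fun x hx => by rw [← pow_two]; exact hBel.2 x hx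
  have hBc : ∀ x ∈ B, ∀ y ∈ B, x * y = y * x := fun x hx y hy =>
    congrArg Subtype.val (mul_comm' (⟨x, hx⟩ : B) ⟨y, hy⟩)
  obtain ⟨A, hAc, hA2, hAcard⟩ : ∃ A : Subgroup K, IsMulCommutative A ∧
      (∀ a ∈ A, a ^ 2 = 1) ∧ ¬ Nat.card A ≤ 2 ^ 1 := by
    simpa [PRankLE] using hrk
  have hA4 : 4 ≤ Nat.card A := by
    have hAp : IsPGroup 2 A := fun a => ⟨1, Subtype.ext (by simpa using hA2 a.1 a.2)⟩
    obtain ⟨n, hn⟩ := IsPGroup.iff_card.mp hAp
    rw [hn] at hAcard ⊢
    have h2 : 1 < n := by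
      by_contra h
      exact hAcard (Nat.pow_le_pow_right two_pos (by omega))
    calc 4 = 2 ^ 2 := rfl
      _ ≤ 2 ^ n := Nat.pow_le_pow_right two_pos h2
  have heven : 2 ∣ Nat.card K := by
    refine dvd_trans ?_ A.card_subgroup_dvd_card
    have hAp : IsPGroup 2 A := fun a => ⟨1, Subtype.ext (by simpa using hA2 a.1 a.2)⟩
    obtain ⟨n, hn⟩ := IsPGroup.iff_card.mp hAp
    rcases n with _ | n
    · rw [hn] at hA4; simp at hA4
    · rw [hn, pow_succ]; exact dvd_mul_left 2 _
  have hperf : ⁅K, K⁆ = K := by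
    have h := congrArg (map (centralizer ({t} : Set Y)).subtype) (IsComponent.perfect hK)
    rwa [map_commutator, map_subgroupOf_eq_of_le hKt] at h
  have hKne : K ≠ ⊥ := fun h => IsComponent.ne_bot hK (by rw [h, bot_subgroupOf])
  have htt := hB2 t htB
  have hKE := component_le_layer_of_two hZ hL ht hKt hK heven
  obtain ⟨J, hJ, hKW⟩ := exists_le_orbit htt hKt hK hKE
  obtain ⟨hle, hrank⟩ := hmax J hJ
  by_cases hJt : cjg t J = J
  · rw [hJt, sup_idem] at hKW
    exact (eq_of_le_of_card_ge hKW hle).symm ▸ hJ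
  exfalso
  have hJtC : IsComponent (cjg t J) := isComponent_conj hJ t
  have hcomm : ⁅J, cjg t J⁆ = ⊥ := components_commute hJ hJtC (Ne.symm hJt)
  set ψ := diag J t hcomm
  have hsub : K ≤ ψ.range := fun k hk => by
    obtain ⟨x, hx, rfl⟩ := le_diag htt hperf hKt hKW hcomm k hk
    exact ⟨⟨x, hx⟩, rfl⟩
  have hrc : Nat.card ψ.range ≤ Nat.card J :=
    Nat.card_le_card_of_surjective _ ψ.rangeRestrict_surjective
  have hKrange : K = ψ.range := eq_of_le_of_card_ge hsub (hrc.trans hle)
  have hcard : Nat.card J = Nat.card K :=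
    le_antisymm hle (hKrange ▸ hrc)
  have hinj : Function.Injective ψ := by
    have h1 : Function.Bijective ψ.rangeRestrict :=
      (Nat.bijective_iff_surjective_and_card _).mpr
        ⟨ψ.rangeRestrict_surjective, hcard.trans (congrArg (fun S : Subgroup Y => Nat.card S) hKrange)⟩
    exact fun x y h => h1.1 (Subtype.ext h)
  -- every element of `B` normalises `J` or maps it to its conjugate
  have hperm : ∀ b ∈ B, cjg b J = J ∨ cjg b J = cjg t J := by
    intro b hb
    by_contra hno
    push Not at hno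
    set J' := cjg b J
    have hJ' : IsComponent J' := isComponent_conj hJ b
    have hbb : ∀ S : Subgroup Y, cjg b (cjg t S) = cjg t (cjg b S) := by
      intro S
      rw [cjg_cjg, cjg_cjg, hBc b hb t htB]
    have htt' : ∀ S : Subgroup Y, cjg t (cjg t S) = S := by
      intro S
      rw [cjg_cjg, htt]
      ext x; simp
    have hne1 : cjg t J' ≠ J := fun h => hno.2 (by rw [← htt' J', h])
    have hne2 : cjg t J' ≠ cjg t J := fun h => hno.1 (by rw [← htt' J', h, htt'])
    have hJ'C : IsComponent (cjg t J') := isComponent_conj hJ' t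
    have h1 : J' ⊔ cjg t J' ≤ centralizer ((J ⊔ cjg t J : Subgroup Y) : Set Y) := by
      rw [le_centralizer_iff]
      refine sup_le ?_ ?_ <;> rw [le_centralizer_iff] <;> refine sup_le ?_ ?_ <;>
        rw [← commutator_eq_bot_iff_le_centralizer]
      · exact components_commute hJ' hJ hno.1
      · exact components_commute hJ'C hJ hne1
      · exact components_commute hJ' hJtC hno.2
      · exact components_commute hJ'C hJtC hne2
    have h2 : K ≤ J' ⊔ cjg t J' := by
      intro k hk
      have h3 : b * k * b⁻¹ = k := by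
        rw [mem_centralizer_iff.mp (hBK hb) k hk |>.symm, mul_inv_cancel_right]
      have h4 : (MulAut.conj b).toMonoidHom k ∈ (J ⊔ cjg t J).map (MulAut.conj b).toMonoidHom :=
        mem_map_of_mem _ (hKW hk)
      rw [Subgroup.map_sup] at h4
      change _ ∈ cjg b J ⊔ cjg b (cjg t J) at h4
      rw [hbb] at h4
      rw [← h3]
      exact h4
    refine hKne (hperf.symm.trans (commutator_eq_bot_iff_le_centralizer.mpr ?_))
    exact h2.trans (h1.trans (centralizer_le hKW))
  set B0 := B ⊓ normalizer (J : Set Y)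
  have hcardB : Nat.card B ≤ 2 * Nat.card B0 := by
    rw [show (2 : ℕ) = Nat.card Bool by simp, ← Nat.card_prod]
    refine Nat.card_le_card_of_surjective
      (fun q : Bool × B0 => (⟨(if q.1 then t else 1) * q.2, mul_mem
        (by split_ifs; exacts [htB, one_mem B]) (mem_inf.mp q.2.2).1⟩ : B)) ?_
    intro b
    rcases hperm b b.2 with h | h
    · exact ⟨(false, ⟨b, mem_inf.mpr ⟨b.2, mem_normalizer_iff_map_conj_eq.mpr h⟩⟩),
        Subtype.ext (by simp)⟩
    · have h' : cjg (t * (b : Y)) J = J := by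
        rw [← cjg_cjg, h, cjg_cjg, htt]
        ext x; simp
      refine ⟨(true, ⟨t * b, mem_inf.mpr ⟨mul_mem htB b.2, mem_normalizer_iff_map_conj_eq.mpr h'⟩⟩),
        Subtype.ext ?_⟩
      show t * (t * (b : Y)) = b
      rw [← mul_assoc, htt, one_mul]
  -- `B0` centralises `J`
  have hB0J : B0 ≤ centralizer (J : Set Y) := by
    intro b hb
    obtain ⟨hbB, hbN⟩ := mem_inf.mp hb
    rw [mem_centralizer_iff]
    intro x hx
    have hx' : b * x * b⁻¹ ∈ J := (mem_normalizer_iff.mp hbN x).mp hx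
    have h1 : ψ ⟨b * x * b⁻¹, hx'⟩ = ψ ⟨x, hx⟩ := by
      have h2 : ψ ⟨x, hx⟩ ∈ K := hKrange.ge ⟨_, rfl⟩
      have h3 := mem_centralizer_iff.mp (hBK hbB) _ h2
      show b * x * b⁻¹ * (t * (b * x * b⁻¹) * t⁻¹) = x * (t * x * t⁻¹)
      change x * (t * x * t⁻¹) * b = b * (x * (t * x * t⁻¹)) at h3
      calc b * x * b⁻¹ * (t * (b * x * b⁻¹) * t⁻¹)
          = b * x * b⁻¹ * ((t * b) * x * (t * b)⁻¹) := by group
        _ = b * x * b⁻¹ * ((b * t) * x * (b * t)⁻¹) := by rw [hBc t htB b hbB]
        _ = b * (x * (t * x * t⁻¹)) * b⁻¹ := by group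
        _ = _ := by rw [← h3, mul_inv_cancel_right]
    have h4 := congrArg Subtype.val (hinj h1)
    exact (mul_inv_eq_iff_eq_mul.mp h4).symm
  have hB0Jt : B0 ≤ centralizer ((cjg t J : Subgroup Y) : Set Y) := by
    intro b hb
    rw [mem_centralizer_iff]
    rintro _ ⟨x, hx, rfl⟩
    have h1 := mem_centralizer_iff.mp (hB0J hb) x hx
    show t * x * t⁻¹ * b = b * (t * x * t⁻¹)
    have h2 := hBc t htB b (mem_inf.mp hb).1
    calc t * x * t⁻¹ * b = t * x * (t⁻¹ * b * t) * t⁻¹ := by group
      _ = t * x * b * t⁻¹ := by rw [mul_assoc t⁻¹ b t, ← h2, inv_mul_cancel_left]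
      _ = t * (b * x) * t⁻¹ := by rw [mul_assoc t x b, h1]
      _ = _ := by rw [← mul_assoc t b x, h2]; group
  -- the elementary abelian subgroup of the conjugate of `J`
  let e : J ≃* K := (MonoidHom.ofInjective hinj).trans (MulEquiv.subgroupCongr hKrange.symm)
  let μ : K →* Y := (MulAut.conj t).toMonoidHom.comp (J.subtype.comp e.symm.toMonoidHom)
  have hμ : Function.Injective μ :=
    (MulAut.conj t).injective.comp (J.subtype_injective.comp e.symm.injective)
  set A' := A.map μ
  have hA't : A' ≤ cjg t J := by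
    rintro _ ⟨k, -, rfl⟩
    exact ⟨_, (e.symm k).2, rfl⟩
  have hA'C : A' ≤ centralizer (J : Set Y) :=
    hA't.trans (commutator_eq_bot_iff_le_centralizer.mp (commutator_comm J (cjg t J) ▸ hcomm))
  haveI := hAc
  have hdisj : ∀ c ∈ B0, c ∈ A' → c = 1 := by
    intro c hc hc'
    obtain ⟨hcB, -⟩ := mem_inf.mp hc
    obtain ⟨y, hy, hyc⟩ := hA't hc'
    have hy' : y = c := by
      have h0 : t * y * t⁻¹ = c := hyc
      have h1 := hBc t htB c hcB
      calc y = (t * t)⁻¹ * (t * (t * y * t⁻¹) * t⁻¹) * (t * t) := by group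
        _ = c := by rw [h0, htt, h1]; simp
    subst hy'
    have h2 : ψ ⟨y, hy⟩ = ψ 1 := by
      rw [map_one]
      show y * (t * y * t⁻¹) = 1
      rw [hBc t htB y hcB, mul_inv_cancel_right]
      exact hB2 y hcB
    exact congrArg Subtype.val (hinj h2)
  set E := B0 ⊔ A'
  have hgen : ∀ x ∈ (B0 : Set Y) ∪ A', ∀ y ∈ (B0 : Set Y) ∪ A', x * y = y * x := by
    rintro x (hx | hx) y (hy | hy)
    · exact hBc x (mem_inf.mp hx).1 y (mem_inf.mp hy).1
    · exact (mem_centralizer_iff.mp (hB0Jt hx) y (hA't hy)).symm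
    · exact mem_centralizer_iff.mp (hB0Jt hy) x (hA't hx)
    · obtain ⟨x', hx', rfl⟩ := hx
      obtain ⟨y', hy', rfl⟩ := hy
      rw [← map_mul, ← map_mul]
      exact congrArg μ (congrArg Subtype.val (mul_comm' (⟨x', hx'⟩ : A) ⟨y', hy'⟩))
  have hEel : IsElementaryAbelian 2 E := by
    have hEc : E = closure ((B0 : Set Y) ∪ A') := by rw [Subgroup.closure_union, closure_eq, closure_eq]
    haveI hcomm' : IsMulCommutative E := hEc ▸ isMulCommutative_closure hgen
    refine ⟨hcomm', fun x hx => ?_⟩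
    rw [hEc] at hx
    induction hx using closure_induction with
    | mem x hx =>
      rcases hx with hx | hx
      · exact hBel.2 x (mem_inf.mp hx).1
      · obtain ⟨k, hk, rfl⟩ := hx
        rw [← map_pow, hA2 k hk, map_one]
    | one => simp
    | mul x y hx hy ihx ihy =>
      have h1 : Commute x y := congrArg Subtype.val
        (mul_comm' (⟨x, hEc ▸ hx⟩ : E) ⟨y, hEc ▸ hy⟩)
      rw [h1.mul_pow, ihx, ihy, one_mul]
    | inv x _ ih => rw [inv_pow, ih, inv_one]
  have hEJ : E ≤ centralizer (J : Set Y) := sup_le hB0J hA'C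
  have h1 := hrank hcard E hEJ hEel
  have h2 : Nat.card B0 * Nat.card A' ≤ Nat.card E := by
    rw [← Nat.card_prod]
    refine Nat.card_le_card_of_injective
      (fun q : B0 × A' => (⟨q.1 * q.2, mul_mem (mem_sup_left q.1.2) (mem_sup_right q.2.2)⟩ : E)) ?_
    rintro ⟨x, y⟩ ⟨x', y'⟩ h
    have h' : (x : Y) * y = x' * y' := congrArg Subtype.val h
    have h3 : (x' : Y)⁻¹ * x = y' * (y : Y)⁻¹ := by
      rw [eq_mul_inv_iff_mul_eq, mul_assoc, h', inv_mul_cancel_left]
    have h4 := hdisj _ (mul_mem (inv_mem x'.2) x.2) (h3 ▸ mul_mem y'.2 (inv_mem y.2))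
    have h5 : (x : Y) = x' := (inv_mul_eq_one.mp h4).symm
    rw [h5] at h'
    exact Prod.ext (Subtype.ext h5) (Subtype.ext (mul_left_cancel h'))
  have h3 : Nat.card A' = Nat.card A :=
    Nat.card_congr (A.equivMapOfInjective μ hμ).toEquiv.symm
  have h4 : 4 * Nat.card B0 ≤ Nat.card B0 * Nat.card A' := by
    rw [h3, mul_comm 4]; exact Nat.mul_le_mul_left _ hA4
  have h5 : 0 < Nat.card B0 := Nat.card_pos
  omega

/-- The statement in `G`. -/
theorem isComponent_of_maximal {G : Type u} [Group G] [Finite G] (hZ : ZStarProp.{u})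
    (hO : oddCore G = ⊥) (hB : HasBProperty G) (a : G) (ha : orderOf a = 2) (K : Subgroup G)
    (hKa : K ≤ centralizer ({a} : Set G))
    (hK : IsComponent (K.subgroupOf (centralizer ({a} : Set G))))
    (hmax : ∀ y : G, orderOf y = 2 → ∀ K' : Subgroup G, K' ≤ centralizer ({y} : Set G) →
      IsComponent (K'.subgroupOf (centralizer ({y} : Set G))) → Nat.card ↥K' ≤ Nat.card ↥K ∧
      (Nat.card ↥K' = Nat.card ↥K → ∀ k : ℕ,
        PRankLE 2 k ↥(centralizer ({a} : Set G) ⊓ centralizer (K : Set G)) →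
        PRankLE 2 k ↥(centralizer ({y} : Set G) ⊓ centralizer (K' : Set G))))
    (hrk : ¬ PRankLE 2 1 ↥K) (B : Subgroup G)
    (hBle : B ≤ centralizer ({a} : Set G) ⊓ centralizer (K : Set G))
    (hBel : IsElementaryAbelian 2 B)
    (hBmax : ∀ B' : Subgroup G, B' ≤ centralizer ({a} : Set G) ⊓ centralizer (K : Set G) →
      IsElementaryAbelian 2 B' → Nat.card ↥B' ≤ Nat.card ↥B)
    (b : G) (hb : b ∈ B) (hb1 : b ≠ 1) :
    K ≤ centralizer ({b} : Set G) ∧ IsComponent (K.subgroupOf (centralizer ({b} : Set G))) := by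
  haveI := hBel.1
  have hBK : B ≤ centralizer (K : Set G) := hBle.trans inf_le_right
  have hKb : K ≤ centralizer ({b} : Set G) := fun k hk =>
    mem_centralizer_singleton_iff.mpr (mem_centralizer_iff.mp (hBK hb) k hk)
  refine ⟨hKb, ?_⟩
  have hb2 : orderOf b = 2 := orderOf_eq_prime (hBel.2 b hb) hb1
  -- `a` lies in `B`
  have haB : a ∈ B := by
    have hsub : B ⊔ zpowers a ≤ centralizer ({a} : Set G) ⊓ centralizer (K : Set G) := by
      refine sup_le hBle (zpowers_le.mpr (mem_inf.mpr ⟨mem_centralizer_singleton_iff.mpr rfl, ?_⟩))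
      rw [mem_centralizer_iff]
      exact fun k hk => mem_centralizer_singleton_iff.mp (hKa hk)
    have hac : ∀ x ∈ B, x * a = a * x := fun x hx =>
      mem_centralizer_singleton_iff.mp (hBle hx).1
    have hel : IsElementaryAbelian 2 (B ⊔ zpowers a : Subgroup G) := by
      have hEc : B ⊔ zpowers a = closure ((B : Set G) ∪ {a}) := by
        rw [Subgroup.closure_union, closure_eq, zpowers_eq_closure]
      have hgen : ∀ x ∈ (B : Set G) ∪ {a}, ∀ y ∈ (B : Set G) ∪ {a}, x * y = y * x := by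
        rintro x (hx | rfl) y (hy | hy)
        · exact congrArg Subtype.val (mul_comm' (⟨x, hx⟩ : B) ⟨y, hy⟩)
        · rw [Set.mem_singleton_iff.mp hy]; exact hac x hx
        · exact (hac y hy).symm
        · rw [Set.mem_singleton_iff.mp hy]
      haveI hc : IsMulCommutative (B ⊔ zpowers a : Subgroup G) :=
        hEc ▸ isMulCommutative_closure hgen
      refine ⟨hc, fun x hx => ?_⟩
      rw [hEc] at hx
      induction hx using closure_induction with
      | mem x hx =>
        rcases hx with hx | rfl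
        · exact hBel.2 x hx
        · exact ha ▸ pow_orderOf_eq_one x
      | one => simp
      | mul x y hx hy ihx ihy =>
        have h1 : Commute x y := congrArg Subtype.val (mul_comm'
          (⟨x, hEc ▸ hx⟩ : (B ⊔ zpowers a : Subgroup G)) ⟨y, hEc ▸ hy⟩)
        rw [h1.mul_pow, ihx, ihy, one_mul]
      | inv x _ ih => rw [inv_pow, ih, inv_one]
    have h := eq_of_le_of_card_ge (le_sup_left : B ≤ B ⊔ zpowers a) (hBmax _ hsub hel)
    rw [h]
    exact mem_sup_right (mem_zpowers a)
  set Cb := centralizer ({b} : Set G)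
  have hab : a * b = b * a :=
    congrArg Subtype.val (mul_comm' (⟨a, haB⟩ : B) ⟨b, hb⟩)
  have haCb : a ∈ Cb := mem_centralizer_singleton_iff.mpr hab
  have hBCb : B ≤ Cb := fun x hx => mem_centralizer_singleton_iff.mpr
    (congrArg Subtype.val (mul_comm' (⟨x, hx⟩ : B) ⟨b, hb⟩))
  have hKt : K.subgroupOf Cb ≤ centralizer ({(⟨a, haCb⟩ : Cb)} : Set Cb) := fun k hk =>
    mem_centralizer_singleton_iff.mpr (Subtype.ext (mem_centralizer_singleton_iff.mp (hKa hk)))
  have hcomp : IsComponent ((K.subgroupOf Cb).subgroupOf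
      (centralizer ({(⟨a, haCb⟩ : Cb)} : Set Cb))) := by
    refine ⟨?_, isQuasisimple_of_mulEquiv ((subgroupOfEquivOfLe hKa).trans
      ((subgroupOfEquivOfLe hKb).symm.trans (subgroupOfEquivOfLe hKt).symm)) hK.2⟩
    let ι : centralizer ({(⟨a, haCb⟩ : Cb)} : Set Cb) →* centralizer ({a} : Set G) :=
      MonoidHom.codRestrict (Cb.subtype.comp (Subgroup.subtype _)) _
        (fun g => mem_centralizer_singleton_iff.mpr
          (congrArg Subtype.val (mem_centralizer_singleton_iff.mp g.2)))
    have h : (K.subgroupOf Cb).subgroupOf (centralizer ({(⟨a, haCb⟩ : Cb)} : Set Cb)) =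
        (K.subgroupOf (centralizer ({a} : Set G))).comap ι := rfl
    rw [h]
    exact hK.1.comap _
  have hcard : Nat.card (K.subgroupOf Cb) = Nat.card K :=
    Nat.card_congr (subgroupOfEquivOfLe hKb).toEquiv
  refine core hZ (pLayer_le_layer_of_bProperty hO hB hb2)
    (t := (⟨a, haCb⟩ : Cb)) (by rw [orderOf_mk]; exact ha) hKt hcomp ?_
    (B := B.subgroupOf Cb) ⟨?_, ?_⟩ (mem_subgroupOf.mpr haB) ?_ ?_
  · intro h
    refine hrk fun A hAc hA2 => ?_
    have e := (subgroupOfEquivOfLe hKb).symm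
    haveI := hAc
    have h1 := h (A.map e.toMonoidHom)
      (Subgroup.map_isMulCommutative A e.toMonoidHom) (by
        rintro _ ⟨x, hx, rfl⟩
        rw [← map_pow, hA2 x hx, map_one])
    rwa [card_map_of_injective e.injective] at h1
  · refine ⟨⟨fun x y => ?_⟩⟩
    apply Subtype.ext; apply Subtype.ext
    show ((x : Cb) : G) * ((y : Cb) : G) = ((y : Cb) : G) * ((x : Cb) : G)
    exact congrArg Subtype.val (mul_comm'
      (⟨((x : Cb) : G), mem_subgroupOf.mp x.2⟩ : B) ⟨((y : Cb) : G), mem_subgroupOf.mp y.2⟩)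
  · intro x hx
    exact Subtype.ext (hBel.2 (x : G) hx)
  · intro x hx
    rw [mem_centralizer_iff]
    intro k hk
    exact Subtype.ext (mem_centralizer_iff.mp (hBK (mem_subgroupOf.mp hx)) (k : G) hk)
  · intro J hJ
    have hJle : J.map Cb.subtype ≤ Cb := map_subtype_le J
    have hJ' : IsComponent ((J.map Cb.subtype).subgroupOf Cb) := by
      rwa [subgroupOf, comap_map_eq_self_of_injective Cb.subtype_injective]
    obtain ⟨h1, h2⟩ := hmax b hb2 _ hJle hJ'
    have hJc : Nat.card (J.map Cb.subtype) = Nat.card J := card_map_of_injective Cb.subtype_injective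
    rw [hJc] at h1 h2
    refine ⟨hcard ▸ h1, fun he E hE hEel => ?_⟩
    rw [hcard] at he
    obtain ⟨m, hm⟩ := IsPGroup.iff_card.mp
      (fun x => ⟨1, Subtype.ext (by simpa using hBel.2 x.1 x.2)⟩ : IsPGroup 2 B)
    have hrkA : PRankLE 2 m ↥(centralizer ({a} : Set G) ⊓ centralizer (K : Set G)) := by
      intro A hAc hA2
      haveI := hAc
      rw [← hm]
      refine (Nat.card_congr (A.equivMapOfInjective _ (Subgroup.subtype_injective _)).toEquiv).trans_le
        (hBmax _ (map_subtype_le A) ⟨Subgroup.map_isMulCommutative A _, ?_⟩)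
      rintro _ ⟨x, hx, rfl⟩
      rw [← map_pow, hA2 x hx, map_one]
    have hEle : E.map Cb.subtype ≤ centralizer ({b} : Set G) ⊓ centralizer ((J.map Cb.subtype : Subgroup G) : Set G) := by
      refine le_inf (map_subtype_le E) ?_
      rintro _ ⟨x, hx, rfl⟩
      rw [mem_centralizer_iff]
      rintro _ ⟨j, hj, rfl⟩
      exact congrArg Subtype.val (mem_centralizer_iff.mp (hE hx) j hj)
    haveI := hEel.1
    haveI : IsMulCommutative (E.map Cb.subtype) := Subgroup.map_isMulCommutative E _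
    have h3 := h2 he m hrkA ((E.map Cb.subtype).subgroupOf _) (by
      refine ⟨⟨fun x y => ?_⟩⟩
      apply Subtype.ext; apply Subtype.ext
      simp only [Subgroup.coe_mul]
      exact congrArg Subtype.val (mul_comm'
        (⟨_, mem_subgroupOf.mp x.2⟩ : E.map Cb.subtype) ⟨_, mem_subgroupOf.mp y.2⟩)) (by
      intro x hx
      obtain ⟨z, hz, hzx⟩ := mem_subgroupOf.mp hx
      apply Subtype.ext
      rw [SubmonoidClass.coe_pow, ← hzx, ← map_pow, hEel.2 z hz, map_one]
      rfl)
    rw [Nat.card_congr (subgroupOfEquivOfLe hEle).toEquiv,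
      card_map_of_injective Cb.subtype_injective] at h3
    rw [Nat.card_congr (subgroupOfEquivOfLe hBCb).toEquiv, hm]
    exact h3

end Cfsg.Agent.L2BalanceMax
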