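import Mathlib

/-!
Facts about actions of a simple group of order 168 on small sets and on elementary abelian
groups of order 8 and 16.
-/

set_option autoImplicit false
set_option linter.style.haveILetI false

namespace Cfsg.Agent.L32Natural92

variable {L : Type*} [Group L]

/-- A simple group of order 168. -/
structure Big (L : Type*) [Group L] : Prop where
  simple : IsSimpleGroup L
  card : Nat.card L = 168

namespace Big

variable (B : Big L)
include B

theorem finite : Finite L := Nat.finite_of_card_ne_zero (by rw [B.card]; norm_num)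

theorem ker_eq_bot {H : Type*} [Group H] (f : L →* H) {g : L} (h : f g ≠ 1) :
    Function.Injective f := by
  haveI := B.simple
  rw [← MonoidHom.ker_eq_bot_iff]
  exact (IsSimpleGroup.eq_bot_or_eq_top_of_normal f.ker inferInstance).resolve_right fun e =>
    h (MonoidHom.mem_ker.1 (e ▸ Subgroup.mem_top g))

theorem not_exp_two : ∃ g : L, g * g ≠ 1 := by
  haveI := B.finite
  haveI : Fact (Nat.Prime 7) := ⟨by norm_num⟩
  obtain ⟨g, hg⟩ := exists_prime_orderOf_dvd_card' (G := L) 7 (by rw [B.card]; norm_num)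
  refine ⟨g, fun h => ?_⟩
  have := orderOf_dvd_of_pow_eq_one (n := 2) (x := g) (by rw [pow_two]; exact h)
  rw [hg] at this
  norm_num at this

/-- Homomorphisms to groups of exponent two are trivial. -/
theorem trivial_exp_two {H : Type*} [Group H] (f : L →* H) (hH : ∀ g, f g * f g = 1) (g : L) :
    f g = 1 := by
  by_contra h
  obtain ⟨k, hk⟩ := B.not_exp_two
  exact hk (B.ker_eq_bot f h (by rw [map_mul, hH, map_one]))

theorem not_comm : ∃ g k : L, g * k ≠ k * g := by
  by_contra h
  push Not at h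
  haveI := B.finite
  haveI := B.simple
  letI : CommGroup L := { (inferInstance : Group L) with mul_comm := h }
  have := IsSimpleGroup.prime_card (α := L)
  rw [B.card] at this
  norm_num at this

theorem trivial_comm {H : Type*} [CommGroup H] (f : L →* H) (g : L) : f g = 1 := by
  by_contra h
  obtain ⟨a, b, hab⟩ := B.not_comm
  exact hab (B.ker_eq_bot f h (by rw [map_mul, map_mul, mul_comm]))

/-- Actions on fewer than seven points are trivial. -/
theorem small_trivial {α : Type*} [Finite α] [MulAction L α] (h : Nat.card α < 7) (g : L) (a : α) :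
    g • a = a := by
  haveI := B.finite
  let f : L →* Equiv.Perm α := MulAction.toPermHom L α
  by_contra hga
  have hinj : Function.Injective f := B.ker_eq_bot f (g := g) fun e => hga (by
    have := congrArg (fun σ : Equiv.Perm α => σ a) e
    simpa [f] using this)
  have h1 := Subgroup.card_dvd_of_injective f hinj
  rw [Nat.card_perm, B.card] at h1
  have h7 : 7 ∣ (Nat.card α).factorial := (show 7 ∣ 168 by norm_num).trans h1
  rw [(show Nat.Prime 7 by norm_num).dvd_factorial] at h7
  omega

/-- An action which is trivial on an invariant subgroup and on its quotient is trivial. -/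
theorem trivial_of_series {V : Type*} [CommGroup V] (h2 : ∀ v : V, v * v = 1) (θ : L →* MulAut V)
    (W : Subgroup V) (hW : ∀ g, ∀ w ∈ W, θ g w = w) (hV : ∀ g v, θ g v * v⁻¹ ∈ W) (g : L) :
    θ g = 1 := by
  refine B.trivial_exp_two θ (fun k => MulEquiv.ext fun v => ?_) g
  rw [MulAut.mul_apply, MulAut.one_apply]
  have h := hW k _ (hV k v)
  rw [map_mul, map_inv] at h
  have e : θ k (θ k v) = θ k v * v⁻¹ * θ k v := by rw [← h]; group
  rw [e, mul_comm (θ k v) v⁻¹, mul_assoc, h2, mul_one]
  exact inv_eq_of_mul_eq_one_right (h2 v)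

end Big

/-- Three independent elements of an elementary abelian group. -/
structure Ind {V : Type*} [Group V] (a b c : V) : Prop where
  a_ne : a ≠ 1
  b_ne : b ≠ 1
  b_ne_a : b ≠ a
  c_ne : c ≠ 1
  c_ne_a : c ≠ a
  c_ne_b : c ≠ b
  c_ne_ab : c ≠ a * b

section Changes

variable {V : Type*} [CommGroup V]

theorem Ind.shear (h2 : ∀ v : V, v * v = 1) {a b c : V} (h : Ind a b c) : Ind a (b * a) (c * b) := by
  have i : ∀ v : V, v⁻¹ = v := fun v => inv_eq_of_mul_eq_one_right (h2 v)
  obtain ⟨h1, h3, h4, h5, h6, h7, h9⟩ := h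
  refine ⟨h1, fun e => h4 ?_, fun e => h3 (mul_eq_right.1 e), fun e => h7 ?_, fun e => h9 ?_,
    fun e => h6 (mul_right_cancel (e.trans (mul_comm b a))), fun e => h5 ?_⟩
  · rw [eq_inv_of_mul_eq_one_left e, i]
  · rw [eq_inv_of_mul_eq_one_left e, i]
  · rw [← e, mul_assoc, h2, mul_one]
  · have e' : c * b = b := by rw [e, mul_comm b a, ← mul_assoc, h2, one_mul]
    exact mul_eq_right.1 e'

theorem Ind.swap (h2 : ∀ v : V, v * v = 1) {a b c : V} (h : Ind a b c) : Ind a c b := by
  obtain ⟨h1, h3, h4, h5, h6, h7, h9⟩ := h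
  exact ⟨h1, h5, h6, h3, h4, h7.symm, fun e => h9 (by rw [e, ← mul_assoc, h2, one_mul])⟩

theorem Ind.add (h2 : ∀ v : V, v * v = 1) {a b c : V} (h : Ind a b c) : Ind (a * b) b c := by
  have i : ∀ v : V, v⁻¹ = v := fun v => inv_eq_of_mul_eq_one_right (h2 v)
  obtain ⟨h1, h3, h4, h5, h6, h7, h9⟩ := h
  exact ⟨fun e => h4 (by rw [eq_inv_of_mul_eq_one_right e, i]), h3,
    fun e => h1 (mul_eq_right.1 e.symm), h5, h9, h7,
    fun e => h6 (by rw [e, mul_assoc, h2, mul_one])⟩

theorem Ind.cycle (h2 : ∀ v : V, v * v = 1) {a b c : V} (h : Ind a b c) : Ind a c (b * c) := by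
  have i : ∀ v : V, v⁻¹ = v := fun v => inv_eq_of_mul_eq_one_right (h2 v)
  obtain ⟨h1, h3, h4, h5, h6, h7, h9⟩ := h
  exact ⟨h1, h5, h6, fun e => h7 (by rw [eq_inv_of_mul_eq_one_right e, i]),
    fun e => h9 (by rw [← e, mul_comm b c, mul_assoc, h2, mul_one]),
    fun e => h3 (mul_eq_right.1 e), fun e => h4 (mul_right_cancel e)⟩

end Changes

section Natural

variable {V : Type*} [CommGroup V] (h2 : ∀ v : V, v * v = 1) (h8 : Nat.card V = 8)
include h2 h8

omit h8 in
theorem inv_self' (v : V) : v⁻¹ = v := inv_eq_of_mul_eq_one_right (h2 v)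

theorem eight {a b c : V} (h : Ind a b c) (v : V) :
    v = 1 ∨ v = a ∨ v = b ∨ v = a * b ∨ v = c ∨ v = a * c ∨ v = b * c ∨ v = a * b * c := by
  classical
  haveI : Finite V := Nat.finite_of_card_ne_zero (by rw [h8]; norm_num)
  letI := Fintype.ofFinite V
  obtain ⟨h1, h3, h4, h5, h6, h7, h9⟩ := h
  have hab : a * b ≠ 1 := fun e => h4 (by rw [eq_inv_of_mul_eq_one_right e, inv_self' h2])
  have haab : a * b ≠ a := fun e => h3 (mul_eq_left.1 e)
  have hbab : a * b ≠ b := fun e => h1 (mul_eq_right.1 e)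
  set s : Finset V := {1, a, b, a * b} with hs
  have hs4 : s.card = 4 := by
    rw [hs, Finset.card_insert_of_notMem (by simp [Ne.symm h1, Ne.symm h3, Ne.symm hab]),
      Finset.card_insert_of_notMem (by simp [Ne.symm h4, Ne.symm haab]),
      Finset.card_insert_of_notMem (by simp [Ne.symm hbab]), Finset.card_singleton]
  have hmul : ∀ x ∈ s, ∀ y ∈ s, x * y ∈ s := by
    intro x hx y hy
    simp only [hs, Finset.mem_insert, Finset.mem_singleton] at hx hy ⊢
    have e1 : a * (a * b) = b := by rw [← mul_assoc, h2, one_mul]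
    have e3 : b * (a * b) = a := by rw [mul_comm a b, ← mul_assoc, h2, one_mul]
    rcases hx with hx | hx | hx | hx <;> rcases hy with hy | hy | hy | hy <;> rw [hx, hy] <;>
      simp [h2, e1, e3, mul_comm b a, mul_comm (a * b) a, mul_comm (a * b) b]
  have hcs : c ∉ s := by simp [hs, h5, h6, h7, h9]
  have hd : Disjoint s (s.image (· * c)) := Finset.disjoint_left.2 fun x hx hx' => by
    obtain ⟨y, hy, rfl⟩ := Finset.mem_image.1 hx'
    exact hcs (by simpa [← mul_assoc, h2] using hmul y hy _ hx)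
  have hu : s ∪ s.image (· * c) = Finset.univ := by
    apply Finset.eq_univ_of_card
    rw [Finset.card_union_of_disjoint hd, Finset.card_image_of_injective _ (mul_left_injective c),
      hs4, ← Nat.card_eq_fintype_card, h8]
  have := hu ▸ Finset.mem_univ v
  simp only [Finset.mem_union, Finset.mem_image, hs, Finset.mem_insert, Finset.mem_singleton] at this
  rcases this with (h | h | h | h) | ⟨y, h | h | h | h, rfl⟩
  all_goals rw [h]
  all_goals simp

theorem exists_ind {a : V} (ha : a ≠ 1) : ∃ b c, Ind a b c := by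
  classical
  haveI : Finite V := Nat.finite_of_card_ne_zero (by rw [h8]; norm_num)
  letI := Fintype.ofFinite V
  have hc : Fintype.card V = 8 := by rw [← Nat.card_eq_fintype_card, h8]
  obtain ⟨b, hb⟩ : ∃ b, b ∉ ({1, a} : Finset V) := by
    by_contra hh
    push Not at hh
    have := (Finset.card_le_card (s := Finset.univ) fun x _ => hh x).trans Finset.card_le_two
    rw [Finset.card_univ] at this
    omega
  obtain ⟨c, hc'⟩ : ∃ c, c ∉ ({1, a, b, a * b} : Finset V) := by
    by_contra hh
    push Not at hh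
    have := (Finset.card_le_card (s := Finset.univ) fun x _ => hh x).trans Finset.card_le_four
    rw [Finset.card_univ] at this
    omega
  simp only [Finset.mem_insert, Finset.mem_singleton, not_or] at hb hc'
  exact ⟨b, c, ha, hb.1, hb.2, hc'.1, hc'.2.1, hc'.2.2.1, hc'.2.2.2⟩

omit h8 in
theorem ind_map {a b c : V} (h : Ind a b c) (σ : MulAut V) : Ind (σ a) (σ b) (σ c) := by
  refine ⟨?_, ?_, ?_, ?_, ?_, ?_, ?_⟩
  all_goals first
    | (rw [← map_mul]; exact σ.injective.ne (by first | exact h.c_ne_ab))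
    | (exact σ.injective.ne (by first | exact h.b_ne_a | exact h.c_ne_a | exact h.c_ne_b))
    | (exact (MulEquiv.map_ne_one_iff σ).2 (by first | exact h.a_ne | exact h.b_ne | exact h.c_ne))

variable (B : Big L) (θ : L →* MulAut V) (hθ : ∃ g, θ g ≠ 1)
include B θ hθ

omit h2 h8 in
theorem faith {g : L} (h : ∀ v, θ g v = v) : g = 1 := by
  obtain ⟨k, hk⟩ := hθ
  exact B.ker_eq_bot θ hk (by rw [map_one]; exact MulEquiv.ext h)

/-- Every change of basis is realised. -/
theorem realise {a b c a' b' c' : V} (h : Ind a b c) (h' : Ind a' b' c') :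
    ∃ g, θ g a = a' ∧ θ g b = b' ∧ θ g c = c' := by
  classical
  haveI : Finite V := Nat.finite_of_card_ne_zero (by rw [h8]; norm_num)
  haveI := B.finite
  letI := Fintype.ofFinite V
  letI := Fintype.ofFinite L
  let T : Finset ((_ : V) × (_ : V) × V) :=
    (Finset.univ.erase 1).sigma fun x => ((Finset.univ.erase 1).erase x).sigma fun y =>
      Finset.univ \ {1, x, y, x * y}
  have hmem : ∀ x y z : V, (⟨x, y, z⟩ : (_ : V) × (_ : V) × V) ∈ T ↔ Ind x y z := by
    intro x y z
    simp only [T, Finset.mem_sigma, Finset.mem_erase, Finset.mem_univ, Finset.mem_sdiff,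
      Finset.mem_insert, Finset.mem_singleton, and_true, true_and, not_or]
    exact ⟨fun hh => ⟨hh.1, hh.2.1.2, hh.2.1.1, hh.2.2.1, hh.2.2.2.1, hh.2.2.2.2.1, hh.2.2.2.2.2⟩,
      fun hh => ⟨hh.a_ne, ⟨hh.b_ne_a, hh.b_ne⟩, hh.c_ne, hh.c_ne_a, hh.c_ne_b, hh.c_ne_ab⟩⟩
  have hc : Fintype.card V = 8 := by rw [← Nat.card_eq_fintype_card, h8]
  have hT : T.card = 168 := by
    rw [Finset.card_sigma]
    rw [Finset.sum_const_nat (m := 24) ?_]
    · rw [Finset.card_erase_of_mem (Finset.mem_univ _), Finset.card_univ, hc]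
    intro x hx
    have hx1 := (Finset.mem_erase.1 hx).1
    rw [Finset.card_sigma, Finset.sum_const_nat (m := 4) ?_]
    · rw [Finset.card_erase_of_mem hx, Finset.card_erase_of_mem (Finset.mem_univ _),
        Finset.card_univ, hc]
    intro y hy
    obtain ⟨hyx, hy1, -⟩ := Finset.mem_erase.1 hy |>.imp_right Finset.mem_erase.1
    rw [Finset.card_sdiff, Finset.inter_univ, Finset.card_univ, hc]
    have h3 : x * y ≠ 1 := fun e => hyx (by rw [eq_inv_of_mul_eq_one_right e, inv_self' h2])
    have h4 : x * y ≠ x := fun e => hy1 (mul_eq_left.1 e)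
    have h5 : x * y ≠ y := fun e => hx1 (mul_eq_right.1 e)
    rw [Finset.card_insert_of_notMem (by simp [Ne.symm hx1, Ne.symm hy1, Ne.symm h3]),
      Finset.card_insert_of_notMem (by simp [Ne.symm hyx, Ne.symm h4]),
      Finset.card_insert_of_notMem (by simp [Ne.symm h5]), Finset.card_singleton]
  let F : L → T := fun g => ⟨⟨θ g a, θ g b, θ g c⟩, (hmem _ _ _).2 (ind_map h2 h (θ g))⟩
  have hF : Function.Injective F := fun g k hgk => by
    simp only [F, Subtype.mk.injEq, Sigma.mk.injEq, heq_eq_eq] at hgk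
    obtain ⟨ha, hb, hcc⟩ := hgk
    obtain ⟨x, hx⟩ := hθ
    refine B.ker_eq_bot θ hx (MulEquiv.ext fun v => ?_)
    rcases eight h2 h8 h v with rfl | rfl | rfl | rfl | rfl | rfl | rfl | rfl <;>
      simp only [map_one, map_mul, ha, hb, hcc]
  have hbij : Function.Bijective F := (Nat.bijective_iff_injective_and_card F).2 ⟨hF, by
    rw [B.card, Nat.card_eq_finsetCard, hT]⟩
  obtain ⟨g, hg⟩ := hbij.2 ⟨⟨a', b', c'⟩, (hmem _ _ _).2 h'⟩
  simp only [F, Subtype.mk.injEq, Sigma.mk.injEq, heq_eq_eq] at hg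
  exact ⟨g, hg.1, hg.2.1, hg.2.2⟩

theorem trans {a a' : V} (ha : a ≠ 1) (ha' : a' ≠ 1) : ∃ g, θ g a = a' := by
  obtain ⟨b, c, h⟩ := exists_ind h2 h8 ha
  obtain ⟨b', c', h'⟩ := exists_ind h2 h8 ha'
  obtain ⟨g, hg, -, -⟩ := realise h2 h8 B θ hθ h h'
  exact ⟨g, hg⟩

/-- An element fixed by the stabilizer of `a` lies in `{1, a}`. -/
theorem stab_fixed {a x : V} (ha : a ≠ 1) (hx : ∀ g, θ g a = a → θ g x = x) : x = 1 ∨ x = a := by
  classical
  by_contra hne
  push Not at hne
  obtain ⟨b, c, h⟩ := exists_ind h2 h8 ha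
  have hi : Ind a x (if x = b ∨ x = a * b then c else b) := by
    have e : ∀ y, y ≠ 1 → y ≠ a → y ≠ x → y ≠ a * x → Ind a x y := fun y h1 h3 h4 h5 =>
      ⟨ha, hne.1, hne.2, h1, h3, h4, h5⟩
    split_ifs with hb
    · refine e c h.c_ne h.c_ne_a ?_ ?_ <;> rcases hb with rfl | rfl
      · exact h.c_ne_b
      · exact h.c_ne_ab
      · exact h.c_ne_ab
      · rw [← mul_assoc, h2, one_mul]; exact h.c_ne_b
    · push Not at hb
      exact e b h.b_ne h.b_ne_a hb.1.symm fun e' => hb.2 (by rw [e', ← mul_assoc, h2, one_mul])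
  set y := if x = b ∨ x = a * b then c else b
  have hi' : Ind a y x := by
    refine ⟨ha, hi.c_ne, hi.c_ne_a, hi.b_ne, hi.b_ne_a, hi.c_ne_b.symm, fun e => hi.c_ne_ab ?_⟩
    rw [e, ← mul_assoc, h2, one_mul]
  obtain ⟨g, hg, hgx, -⟩ := realise h2 h8 B θ hθ hi hi'
  exact hi.c_ne_b (hgx.symm.trans (hx g hg))

theorem two_trans {a b a' b' : V} (ha : a ≠ 1) (hb : b ≠ 1) (hab : b ≠ a) (ha' : a' ≠ 1)
    (hb' : b' ≠ 1) (hab' : b' ≠ a') : ∃ g, θ g a = a' ∧ θ g b = b' := by
  have e : ∀ {x y : V}, x ≠ 1 → y ≠ 1 → y ≠ x → ∃ z, Ind x y z := fun {x y} hx hy hxy => by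
    obtain ⟨u, w, h⟩ := exists_ind h2 h8 hx
    by_cases hy' : y = u ∨ y = x * u
    · refine ⟨w, hx, hy, hxy, h.c_ne, h.c_ne_a, ?_, ?_⟩ <;> rcases hy' with rfl | rfl
      · exact h.c_ne_b
      · exact h.c_ne_ab
      · exact h.c_ne_ab
      · rw [← mul_assoc, h2, one_mul]; exact h.c_ne_b
    · push Not at hy'
      exact ⟨u, hx, hy, hxy, h.b_ne, h.b_ne_a, hy'.1.symm,
        fun e' => hy'.2 (by rw [e', ← mul_assoc, h2, one_mul])⟩
  obtain ⟨c, h⟩ := e ha hb hab
  obtain ⟨c', h'⟩ := e ha' hb' hab'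
  obtain ⟨g, hg, hg', -⟩ := realise h2 h8 B θ hθ h h'
  exact ⟨g, hg, hg'⟩

end Natural

/-- A nontrivial action on an elementary abelian group of order 16 has a fixed element or an
invariant subgroup of order 8. -/
theorem Big.fixed_or_hyperplane (B : Big L) {V : Type*} [CommGroup V] (h2 : ∀ v : V, v * v = 1)
    (h16 : Nat.card V = 16) (θ : L →* MulAut V) (hθ : ∃ g, θ g ≠ 1) :
    (∃ v : V, v ≠ 1 ∧ ∀ g, θ g v = v) ∨
      (∃ K : Subgroup V, Nat.card K = 8 ∧ ∀ g, ∀ v ∈ K, θ g v ∈ K) := by
  classical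
  haveI := B.finite
  haveI : Finite V := Nat.finite_of_card_ne_zero (by rw [h16]; norm_num)
  haveI : Fact (Nat.Prime 7) := ⟨by norm_num⟩
  obtain ⟨z, hz⟩ := exists_prime_orderOf_dvd_card' (G := L) 7 (by rw [B.card]; norm_num)
  obtain ⟨g0, hg0⟩ := hθ
  have hinj := B.ker_eq_bot θ hg0
  let d : V →* V :=
    { toFun := fun v => θ z v * v
      map_one' := by simp
      map_mul' := fun a b => by rw [map_mul]; simp [mul_assoc, mul_left_comm] }
  have hd : ∀ v, v ∈ d.ker ↔ θ z v = v := fun v => by
    rw [MonoidHom.mem_ker]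
    show θ z v * v = 1 ↔ _
    rw [mul_eq_one_iff_eq_inv, inv_eq_of_mul_eq_one_right (h2 v)]
  have hzz : ∀ k : ℕ, ∀ v, θ (z ^ k) v = (⇑(θ z))^[k] v := by
    intro k v
    induction k with
    | zero => simp
    | succ k ih => rw [pow_succ', map_mul, MulAut.mul_apply, ih, Function.iterate_succ_apply']
  -- the permutation induced by `z`
  let A := Subgroup.zpowers z
  have hA : IsPGroup 7 A := IsPGroup.of_card (n := 1) (by rw [Nat.card_zpowers, hz, pow_one])
  letI actV : MulAction L V := MulAction.compHom V θ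
  have hfix : MulAction.fixedPoints A V = (d.ker : Set V) := by
    ext v
    rw [SetLike.mem_coe, hd]
    refine ⟨fun h => h ⟨z, Subgroup.mem_zpowers z⟩, fun h a => ?_⟩
    have : z ∈ MulAction.stabilizer L v := h
    exact Subgroup.zpowers_le.2 this a.2
  have hmod := hA.card_modEq_card_fixedPoints V
  rw [Nat.card_congr (Equiv.setCongr hfix), h16] at hmod
  change 16 % 7 = Nat.card d.ker % 7 at hmod
  have hdvd := Subgroup.card_subgroup_dvd_card d.ker
  rw [h16] at hdvd
  have hne : Nat.card d.ker ≠ 16 := fun h => by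
    have hzo : z = 1 := hinj (by
      rw [map_one]
      exact MulEquiv.ext fun v => (hd v).1
        ((Subgroup.eq_top_of_card_eq _ (h.trans h16.symm)).ge (Subgroup.mem_top v)))
    rw [hzo, orderOf_one] at hz
    norm_num at hz
  have hk : Nat.card d.ker = 2 := by
    have hm := Nat.mem_divisors.2 ⟨hdvd, (by norm_num : (16 : ℕ) ≠ 0)⟩
    rw [show Nat.divisors 16 = {1, 2, 4, 8, 16} from rfl] at hm
    simp only [Finset.mem_insert, Finset.mem_singleton] at hm
    rcases hm with h | h | h | h | h <;> omega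
  obtain ⟨v, hv, hv1⟩ : ∃ v ∈ d.ker, v ≠ 1 := by
    by_contra hh
    push Not at hh
    have : d.ker = ⊥ := eq_bot_iff.2 fun x hx => hh x hx
    rw [this, Subgroup.card_bot] at hk
    norm_num at hk
  have hvz := (hd v).1 hv
  have hkv : ∀ x, θ z x = x → x = 1 ∨ x = v := fun x hx => by
    obtain ⟨y, -, huniq⟩ := (Nat.card_eq_two_iff' (1 : d.ker)).1 hk
    by_cases hx1 : x = 1
    · exact Or.inl hx1
    have e1 := huniq ⟨x, (hd x).2 hx⟩ fun e => hx1 (congrArg Subtype.val e)
    have e2 := huniq ⟨v, hv⟩ fun e => hv1 (congrArg Subtype.val e)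
    exact Or.inr (congrArg Subtype.val (e1.trans e2.symm))
  set K := d.range with hKdef
  have hK : Nat.card K = 8 := by
    have := Subgroup.card_eq_card_quotient_mul_card_subgroup d.ker
    rw [Nat.card_congr (QuotientGroup.quotientKerEquivRange d).toEquiv, h16, hk] at this
    rw [hKdef]; omega
  have hKz : ∀ x ∈ K, θ z x ∈ K := by
    rintro _ ⟨x, rfl⟩
    exact ⟨θ z x, show θ z (θ z x) * θ z x = θ z (θ z x * x) by rw [map_mul]⟩
  -- the nontrivial cosets split into one fixed point and two orbits of size seven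
  have horb : ∀ x, θ z x ≠ x → ∀ S : Finset V, x ∈ S → (∀ y ∈ S, θ z y ∈ S) →
      ∀ s, s = ((Finset.range 7).image fun k => (⇑(θ z))^[k] x) → s ⊆ S ∧ s.card = 7 := by
    intro x hx S hxS hS s hs
    subst hs
    refine ⟨?_, ?_⟩
    · intro y hy
      obtain ⟨k, -, rfl⟩ := Finset.mem_image.1 hy
      clear hy
      induction k with
      | zero => exact hxS
      | succ k ih => rw [Function.iterate_succ_apply']; exact hS _ ih
    · rw [Finset.card_image_of_injOn, Finset.card_range]
      intro i hi j hj hij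
      simp only [Finset.coe_range, Set.mem_Iio] at hi hj
      by_contra hne'
      simp only [← hzz] at hij
      obtain ⟨lo, hlo⟩ : ∃ m : ℕ, 0 < m ∧ m < 7 ∧ θ (z ^ m) x = x := by
        rcases Nat.lt_or_gt_of_ne hne' with h | h
        · exact ⟨j - i, by omega, by omega, (θ (z ^ i)).injective (by
            rw [← MulAut.mul_apply, ← map_mul, ← pow_add, Nat.add_sub_cancel' h.le, hij])⟩
        · exact ⟨i - j, by omega, by omega, (θ (z ^ j)).injective (by
            rw [← MulAut.mul_apply, ← map_mul, ← pow_add, Nat.add_sub_cancel' h.le, hij])⟩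
      have hcop : Nat.Coprime lo (orderOf z) := by
        rw [hz]
        exact (Nat.coprime_of_lt_prime hlo.1.ne' hlo.2.1 (by norm_num)).symm
      obtain ⟨m, hm⟩ := exists_pow_eq_self_of_coprime hcop
      have hst : z ^ lo ∈ MulAction.stabilizer L x := hlo.2.2
      have := pow_mem hst m
      rw [hm] at this
      exact hx this
  letI := Fintype.ofFinite V
  let S1 : Finset V := Finset.univ.filter fun x => x ∈ K ∧ x ≠ 1
  let S2 : Finset V := Finset.univ.filter fun x => v * x ∈ K ∧ x ≠ v
  have hK' : (Finset.univ.filter fun x => x ∈ K).card = 8 := by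
    rw [← hK, Nat.card_eq_fintype_card, Fintype.card_subtype]
  have hvK : v ∉ K := by
    intro hvin
    obtain ⟨x, hx, hx1, hxv⟩ : ∃ x ∈ K, x ≠ 1 ∧ x ≠ v := by
      by_contra hh
      push Not at hh
      have h := Finset.card_le_card (s := Finset.univ.filter fun x => x ∈ K) (t := {1, v})
        fun x hx => by
          simp only [Finset.mem_filter] at hx
          simp only [Finset.mem_insert, Finset.mem_singleton]
          by_cases h : x = 1
          · exact Or.inl h
          · exact Or.inr (hh x hx.2 h)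
      rw [hK'] at h
      exact absurd (h.trans Finset.card_le_two) (by norm_num)
    let S : Finset V := (Finset.univ.filter fun x => x ∈ K) \ {1, v}
    obtain ⟨hsub, hcard⟩ := horb x (fun e => (hkv x e).elim hx1 hxv) S
      (by simp [S, hx, hx1, hxv]) (fun y hy => by
        simp only [S, Finset.mem_sdiff, Finset.mem_filter, Finset.mem_univ, true_and,
          Finset.mem_insert, Finset.mem_singleton, not_or] at hy ⊢
        exact ⟨hKz y hy.1, (MulEquiv.map_ne_one_iff _).2 hy.2.1,
          fun e => hy.2.2 ((θ z).injective (e.trans hvz.symm))⟩) _ rfl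
    have h6 : S.card = 6 := by
      rw [Finset.card_sdiff_of_subset, hK', Finset.card_pair (Ne.symm hv1)]
      intro y hy
      simp only [Finset.mem_insert, Finset.mem_singleton] at hy
      rcases hy with rfl | rfl <;> simp [hvin]
    have h := Finset.card_le_card hsub
    omega
  have hS1 : S1.card = 7 := by
    rw [show S1 = (Finset.univ.filter fun x => x ∈ K).erase 1 by
      ext x; simp [S1, and_comm], Finset.card_erase_of_mem (by simp), hK']
  have hS2 : S2.card = 7 := by
    rw [← hS1]
    refine Finset.card_bij' (fun x _ => v * x) (fun x _ => v * x) ?_ ?_ ?_ ?_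
    · intro x hx
      simp only [S1, S2, Finset.mem_filter, Finset.mem_univ, true_and] at hx ⊢
      exact ⟨hx.1, fun e => hx.2 (by rw [eq_inv_of_mul_eq_one_right e,
        inv_eq_of_mul_eq_one_right (h2 v)])⟩
    · intro x hx
      simp only [S1, S2, Finset.mem_filter, Finset.mem_univ, true_and] at hx ⊢
      rw [← mul_assoc, h2, one_mul]
      exact ⟨hx.1, fun e => hx.2 (mul_eq_left.1 e)⟩
    all_goals (intro x _; rw [← mul_assoc, h2, one_mul])
  let O : Finset V := Finset.univ.filter fun x => ∃ g, θ g v = x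
  have hO : ∀ g, ∀ x ∈ O, θ g x ∈ O := fun g x hx => by
    simp only [O, Finset.mem_filter, Finset.mem_univ, true_and] at hx ⊢
    obtain ⟨k, rfl⟩ := hx
    exact ⟨g * k, by rw [map_mul]; rfl⟩
  have hvO : v ∈ O := by simp only [O, Finset.mem_filter, Finset.mem_univ, true_and]; exact ⟨1, by simp⟩
  have h1O : (1 : V) ∉ O := by
    simp only [O, Finset.mem_filter, Finset.mem_univ, true_and]
    exact fun ⟨g, hg⟩ => hv1 ((MulEquiv.map_eq_one_iff _).1 hg)
  have hOdvd : O.card ∣ 168 := by
    have h := MulAction.index_stabilizer L v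
    have h' : Nat.card (MulAction.orbit L v) = O.card := by
      rw [← Nat.card_eq_finsetCard]
      refine Nat.card_congr (Equiv.subtypeEquivRight fun x => ?_)
      simp only [O, Finset.mem_filter, Finset.mem_univ, true_and]
      rfl
    rw [← h', Nat.card_coe_set_eq, ← h, ← B.card]
    exact Subgroup.index_dvd_card _
  have hz1 : ∀ x ∈ S1, θ z x ≠ x := fun x hx e => by
    simp only [S1, Finset.mem_filter, Finset.mem_univ, true_and] at hx
    exact (hkv x e).elim hx.2 fun h => hvK (h ▸ hx.1)
  have hz2 : ∀ x ∈ S2, θ z x ≠ x := fun x hx e => by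
    simp only [S2, Finset.mem_filter, Finset.mem_univ, true_and] at hx
    rcases hkv x e with rfl | h
    · exact hvK (by simpa using hx.1)
    · exact hx.2 h
  have hall : ∀ S : Finset V, S.card = 7 → (∀ y ∈ S, θ z y ∈ S) → (∀ y ∈ S, θ z y ≠ y) →
      ∀ x ∈ S, x ∈ O → S ⊆ O := by
    intro S hS hSi hSn x hxS hxO
    obtain ⟨ha, hc⟩ := horb x (hSn x hxS) S hxS hSi _ rfl
    obtain ⟨hb, -⟩ := horb x (hSn x hxS) O hxO (hO z) _ rfl
    exact (Finset.eq_of_subset_of_card_le ha (by rw [hc, hS])) ▸ hb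
  have hS1i : ∀ y ∈ S1, θ z y ∈ S1 := fun y hy => by
    simp only [S1, Finset.mem_filter, Finset.mem_univ, true_and] at hy ⊢
    exact ⟨hKz y hy.1, (MulEquiv.map_ne_one_iff _).2 hy.2⟩
  have hS2i : ∀ y ∈ S2, θ z y ∈ S2 := fun y hy => by
    simp only [S2, Finset.mem_filter, Finset.mem_univ, true_and] at hy ⊢
    refine ⟨?_, fun e => hy.2 ((θ z).injective (e.trans hvz.symm))⟩
    have := hKz _ hy.1
    rwa [map_mul, hvz] at this
  have hcover : ∀ x, x = 1 ∨ x = v ∨ x ∈ S1 ∨ x ∈ S2 := by
    have hd12 : Disjoint S1 S2 := Finset.disjoint_left.2 fun x h h' => by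
      simp only [S1, S2, Finset.mem_filter, Finset.mem_univ, true_and] at h h'
      exact hvK (by simpa [mul_assoc, h2] using K.mul_mem h'.1 h.1)
    have hu : ({1, v} : Finset V) ∪ (S1 ∪ S2) = Finset.univ := by
      apply Finset.eq_univ_of_card
      rw [Finset.card_union_of_disjoint, Finset.card_union_of_disjoint hd12, hS1, hS2,
        Finset.card_pair (Ne.symm hv1), ← Nat.card_eq_fintype_card, h16]
      refine Finset.disjoint_left.2 fun x h h' => ?_
      simp only [Finset.mem_insert, Finset.mem_singleton] at h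
      simp only [Finset.mem_union] at h'
      rcases h' with h' | h'
      · rcases h with rfl | rfl
        · simp [S1] at h'
        · simp [S1] at h'; exact hvK h'.1
      · rcases h with rfl | rfl
        · simp [S2] at h'; exact hvK (by simpa using h'.1)
        · simp [S2] at h'
    intro x
    have := hu ▸ Finset.mem_univ x
    simp only [Finset.mem_union, Finset.mem_insert, Finset.mem_singleton] at this
    tauto
  have hback : ∀ g y, θ g y ∈ O → y ∈ O := fun g y h => by
    have := hO g⁻¹ _ h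
    rwa [← MulAut.mul_apply, ← map_mul, inv_mul_cancel, map_one, MulAut.one_apply] at this
  by_cases c1 : ∃ x ∈ S1, x ∈ O
  · obtain ⟨x, hx, hxO⟩ := c1
    have hs1 := hall S1 hS1 hS1i hz1 x hx hxO
    have c2 : ∀ y ∈ S2, y ∉ O := fun y hy hyO => by
      have hs2 := hall S2 hS2 hS2i hz2 y hy hyO
      have : O = Finset.univ.erase 1 := by
        ext w
        simp only [Finset.mem_erase, Finset.mem_univ, and_true]
        refine ⟨fun h e => h1O (e ▸ h), fun h => ?_⟩
        rcases hcover w with rfl | rfl | hw | hw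
        · exact absurd rfl h
        · exact hvO
        · exact hs1 hw
        · exact hs2 hw
      rw [this, Finset.card_erase_of_mem (Finset.mem_univ _), Finset.card_univ,
        ← Nat.card_eq_fintype_card, h16] at hOdvd
      norm_num at hOdvd
    have hS2O : ∀ g, ∀ y ∈ S2, θ g y ∈ S2 := fun g y hy => by
      rcases hcover (θ g y) with h | h | h | h
      · rw [MulEquiv.map_eq_one_iff] at h
        subst h
        simp [S2] at hy; exact absurd hy.1 hvK
      all_goals try exact h
      · exact absurd (hback _ _ (h ▸ hvO)) (c2 y hy)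
      · exact absurd (hback _ _ (hs1 h)) (c2 y hy)
    refine Or.inr ⟨K, hK, fun g w hw => ?_⟩
    by_cases hw1 : w = 1
    · rw [hw1, map_one]; exact one_mem _
    obtain ⟨a, ha, ha'⟩ : ∃ a, a ∈ S1 ∧ a ≠ w := Finset.exists_mem_ne (by rw [hS1]; norm_num) w
    simp only [S1, Finset.mem_filter, Finset.mem_univ, true_and] at ha
    have m : ∀ b ∈ K, b ≠ 1 → v * θ g (v * b) ∈ K := fun b hb hb1 => by
      have := hS2O g (v * b) (by simp [S2, ← mul_assoc, h2, hb, hb1])
      simp only [S2, Finset.mem_filter, Finset.mem_univ, true_and] at this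
      exact this.1
    have := K.mul_mem (m a ha.1 ha.2) (m (a * w) (K.mul_mem ha.1 hw)
      (fun e => ha' (by rw [eq_inv_of_mul_eq_one_left e, inv_eq_of_mul_eq_one_right (h2 w)])))
    have e1 : ∀ p q : V, v * p * (v * q) = p * q := fun p q => by
      rw [mul_mul_mul_comm, h2, one_mul]
    rw [e1, ← map_mul, e1, ← mul_assoc, h2, one_mul] at this
    exact this
  · push Not at c1
    by_cases c2 : ∃ y ∈ S2, y ∈ O
    · obtain ⟨y, hy, hyO⟩ := c2
      have hs2 := hall S2 hS2 hS2i hz2 y hy hyO
      refine Or.inr ⟨K, hK, fun g w hw => ?_⟩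
      by_cases hw1 : w = 1
      · rw [hw1, map_one]; exact one_mem _
      have hwS : w ∈ S1 := by simp [S1, hw, hw1]
      rcases hcover (θ g w) with h | h | h | h
      · exact absurd ((MulEquiv.map_eq_one_iff _).1 h) hw1
      · exact absurd (hback _ _ (h ▸ hvO)) (c1 w hwS)
      · simp only [S1, Finset.mem_filter] at h; exact h.2.1
      · exact absurd (hback _ _ (hs2 h)) (c1 w hwS)
    · push Not at c2
      refine Or.inl ⟨v, hv1, fun g => ?_⟩
      have hgO : θ g v ∈ O := hO g v hvO
      rcases hcover (θ g v) with h | h | h | h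
      · exact absurd h fun e => h1O (e ▸ hgO)
      · exact h
      · exact absurd hgO (c1 _ h)
      · exact absurd hgO (c2 _ h)

end Cfsg.Agent.L32Natural92
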