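import Mathlib
import Cfsg.Prelude.Def_CaseTheorems
import Cfsg.Agent.Lib.L32Natural92

/-!
Sections of a group with quotient a simple group of order 168, as modules for the quotient.
-/

set_option autoImplicit false
set_option linter.style.haveILetI false

namespace Cfsg.Agent.L32Layers92

open Cfsg.Agent.L32Natural92

variable {X L : Type*} [Group X] [Group L] {π : X →* L} {Q P Z : Subgroup X}

/-- A normal section `P / Z` centralized by the kernel `Q` of `π`. -/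
structure Sec (π : X →* L) (P Z : Subgroup X) : Prop where
  surj : Function.Surjective π
  nP : P.Normal
  nZ : Z.Normal
  le : Z ≤ P
  triv : ∀ q ∈ π.ker, ∀ p ∈ P, q * p * q⁻¹ * p⁻¹ ∈ Z

/-- A section of exponent two. -/
structure ESec (π : X →* L) (P Z : Subgroup X) : Prop extends Sec π P Z where
  sq : ∀ p ∈ P, p * p ∈ Z

/-- A section of order 8 with nontrivial action. -/
structure Nat8 (π : X →* L) (P Z : Subgroup X) : Prop extends ESec π P Z where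
  big : Big L
  card : Nat.card P = 8 * Nat.card Z
  nt : ∃ x, ∃ p ∈ P, x * p * x⁻¹ * p⁻¹ ∉ Z

theorem Sec.mk_eq (S : Sec π P Z) {a b : X} (ha : a ∈ P) (hb : b ∈ P) :
    haveI := S.nZ
    (QuotientGroup.mk ⟨a, ha⟩ : P ⧸ Z.subgroupOf P) = QuotientGroup.mk ⟨b, hb⟩ ↔ a * b⁻¹ ∈ Z := by
  haveI := S.nZ
  rw [eq_comm, QuotientGroup.eq, Subgroup.mem_subgroupOf]
  constructor
  · intro h
    have := S.nZ.conj_mem _ (Z.inv_mem h) b
    simpa [mul_assoc] using Z.inv_mem (by simpa [mul_assoc] using Z.inv_mem this)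
  · intro h
    have := S.nZ.conj_mem _ h b⁻¹
    simpa [mul_assoc] using this

theorem Sec.exists_action (S : Sec π P Z) :
    haveI := S.nZ
    ∃ θ : L →* MulAut (P ⧸ Z.subgroupOf P), ∀ (x p : X) (hp : p ∈ P),
      θ (π x) (QuotientGroup.mk ⟨p, hp⟩) = QuotientGroup.mk ⟨x * p * x⁻¹, S.nP.conj_mem p hp x⟩ := by
  haveI := S.nZ
  haveI := S.nP
  have hm : ∀ x : X, (Z.subgroupOf P).map (MulAut.conjNormal x : MulAut P).toMonoidHom =
      Z.subgroupOf P := by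
    intro x
    ext p
    simp only [Subgroup.mem_map, Subgroup.mem_subgroupOf]
    constructor
    · rintro ⟨q, hq, rfl⟩
      simpa using S.nZ.conj_mem _ hq x
    · intro hp
      refine ⟨(MulAut.conjNormal x : MulAut P).symm p, ?_, by simp⟩
      simpa using S.nZ.conj_mem _ hp x⁻¹
  let ψ : X →* MulAut (P ⧸ Z.subgroupOf P) :=
    { toFun := fun x => QuotientGroup.congr _ _ (MulAut.conjNormal x) (hm x)
      map_one' := MulEquiv.ext fun v => by
        induction v using QuotientGroup.induction_on with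
        | H p => simp
      map_mul' := fun x y => MulEquiv.ext fun v => by
        induction v using QuotientGroup.induction_on with
        | H p =>
          show QuotientGroup.mk (MulAut.conjNormal (x * y) p) =
            QuotientGroup.mk (MulAut.conjNormal x (MulAut.conjNormal y p))
          rw [map_mul]
          rfl }
  have hψ : ∀ (x p : X) (hp : p ∈ P), ψ x (QuotientGroup.mk ⟨p, hp⟩) =
      QuotientGroup.mk ⟨x * p * x⁻¹, S.nP.conj_mem p hp x⟩ := fun x p hp => rfl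
  have hker : π.ker ≤ ψ.ker := fun q hq => by
    refine MonoidHom.mem_ker.2 (MulEquiv.ext fun v => ?_)
    induction v using QuotientGroup.induction_on with
    | H p =>
      obtain ⟨p, hp⟩ := p
      rw [MulAut.one_apply, hψ, S.mk_eq]
      exact S.triv q hq p hp
  refine ⟨π.liftOfSurjective S.surj ⟨ψ, hker⟩, fun x p hp => ?_⟩
  rw [MonoidHom.liftOfSurjective, MonoidHom.liftOfRightInverse_comp_apply]
  exact hψ x p hp

theorem Sec.card_quot (S : Sec π P Z) :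
    Nat.card P = Nat.card (P ⧸ Z.subgroupOf P) * Nat.card Z := by
  rw [Subgroup.card_eq_card_quotient_mul_card_subgroup (Z.subgroupOf P),
    Nat.card_congr (Subgroup.subgroupOfEquivOfLe S.le).toEquiv]

/-- Actions on fewer than seven cosets are trivial. -/
theorem Sec.small (S : Sec π P Z) (B : Big L) [Finite X] (h : Nat.card P < 7 * Nat.card Z) (x : X)
    {p : X} (hp : p ∈ P) : x * p * x⁻¹ * p⁻¹ ∈ Z := by
  haveI := S.nZ
  obtain ⟨θ, hθ⟩ := S.exists_action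
  letI := MulAction.compHom (P ⧸ Z.subgroupOf P) θ
  rw [S.card_quot] at h
  have := B.small_trivial (Nat.lt_of_mul_lt_mul_right h) (π x)
    (QuotientGroup.mk ⟨p, hp⟩ : P ⧸ Z.subgroupOf P)
  change θ (π x) _ = _ at this
  rwa [hθ, S.mk_eq] at this

/-- The group structure of a section of exponent two. -/
@[reducible] def ESec.commGroup (S : ESec π P Z) :
    haveI := S.nZ
    CommGroup (P ⧸ Z.subgroupOf P) :=
  haveI := S.nZ
  { (inferInstance : Group (P ⧸ Z.subgroupOf P)) with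
    mul_comm := fun a b => by
      have e : ∀ v : P ⧸ Z.subgroupOf P, v⁻¹ = v := fun v => by
        induction v using QuotientGroup.induction_on with
        | H p =>
          refine inv_eq_of_mul_eq_one_right ?_
          rw [← QuotientGroup.mk_mul, QuotientGroup.eq_one_iff]
          exact S.sq p p.2
      calc a * b = (a * b)⁻¹ := (e _).symm
        _ = b⁻¹ * a⁻¹ := mul_inv_rev a b
        _ = b * a := by rw [e, e] }

theorem ESec.h2 (S : ESec π P Z) :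
    haveI := S.nZ
    ∀ v : P ⧸ Z.subgroupOf P, v * v = 1 := by
  haveI := S.nZ
  intro v
  induction v using QuotientGroup.induction_on with
  | H p =>
    rw [← QuotientGroup.mk_mul, QuotientGroup.eq_one_iff]
    exact S.sq p p.2

/-- A series of two trivial layers is a trivial layer. -/
theorem ESec.trivial_series (S : ESec π P Z) (B : Big L) (W : Subgroup X) (hZW : Z ≤ W) (hWP : W ≤ P)
    (h1 : ∀ x, ∀ w ∈ W, x * w * x⁻¹ * w⁻¹ ∈ Z) (h2' : ∀ x, ∀ p ∈ P, x * p * x⁻¹ * p⁻¹ ∈ W)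
    (x : X) {p : X} (hp : p ∈ P) : x * p * x⁻¹ * p⁻¹ ∈ Z := by
  haveI := S.nZ
  letI := S.commGroup
  obtain ⟨θ, hθ⟩ := S.exists_action
  have := B.trivial_of_series S.h2 θ ((W.subgroupOf P).map (QuotientGroup.mk' _)) ?_ ?_ (π x)
  · have e := congrArg (fun σ : MulAut (P ⧸ Z.subgroupOf P) => σ (QuotientGroup.mk ⟨p, hp⟩)) this
    simp only [MulAut.one_apply] at e
    rwa [hθ, S.mk_eq] at e
  · rintro g _ ⟨⟨w, hw⟩, hwW, rfl⟩
    obtain ⟨y, rfl⟩ := S.surj g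
    show θ (π y) (QuotientGroup.mk _) = QuotientGroup.mk _
    rw [hθ, S.mk_eq]
    exact h1 y w (Subgroup.mem_subgroupOf.1 hwW)
  · intro g v
    obtain ⟨y, rfl⟩ := S.surj g
    induction v using QuotientGroup.induction_on with
    | H q =>
      obtain ⟨q, hq⟩ := q
      rw [hθ]
      exact ⟨⟨y * q * y⁻¹ * q⁻¹, P.mul_mem (S.nP.conj_mem q hq y) (P.inv_mem hq)⟩,
        Subgroup.mem_subgroupOf.2 (h2' y q hq), rfl⟩

/-- A nontrivial section of order 16 has a fixed coset or a normal hyperplane. -/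
theorem ESec.fixed_or_hyperplane [Finite X] (S : ESec π P Z) (B : Big L)
    (hc : Nat.card P = 16 * Nat.card Z) (hnt : ∃ x, ∃ p ∈ P, x * p * x⁻¹ * p⁻¹ ∉ Z) :
    (∃ p ∈ P, p ∉ Z ∧ ∀ x, x * p * x⁻¹ * p⁻¹ ∈ Z) ∨
      ∃ K : Subgroup X, K.Normal ∧ Z ≤ K ∧ K ≤ P ∧ Nat.card K = 8 * Nat.card Z := by
  haveI := S.nZ
  letI := S.commGroup
  obtain ⟨θ, hθ⟩ := S.exists_action
  have h16 : Nat.card (P ⧸ Z.subgroupOf P) = 16 := by
    rw [S.card_quot] at hc
    exact Nat.eq_of_mul_eq_mul_right Nat.card_pos hc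
  have hθn : ∃ g, θ g ≠ 1 := by
    obtain ⟨x, p, hp, hxp⟩ := hnt
    refine ⟨π x, fun e => hxp ?_⟩
    have := congrArg (fun σ : MulAut (P ⧸ Z.subgroupOf P) => σ (QuotientGroup.mk ⟨p, hp⟩)) e
    simp only [MulAut.one_apply] at this
    rwa [hθ, S.mk_eq] at this
  rcases B.fixed_or_hyperplane S.h2 h16 θ hθn with ⟨v, hv, hfix⟩ | ⟨K, hK, hinv⟩
  · induction v using QuotientGroup.induction_on with
    | H p =>
      obtain ⟨p, hp⟩ := p
      refine Or.inl ⟨p, hp, fun h => hv ((QuotientGroup.eq_one_iff _).2 h), fun x => ?_⟩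
      have := hfix (π x)
      rwa [hθ, S.mk_eq] at this
  · let K' := K.comap (QuotientGroup.mk' (Z.subgroupOf P))
    refine Or.inr ⟨K'.map P.subtype, ⟨?_⟩, ?_, Subgroup.map_subtype_le _, ?_⟩
    · rintro _ ⟨⟨k, hk⟩, hkK, rfl⟩ x
      refine ⟨⟨x * k * x⁻¹, S.nP.conj_mem k hk x⟩, ?_, rfl⟩
      have := hinv (π x) _ hkK
      rw [QuotientGroup.mk'_apply, hθ] at this
      exact this
    · intro z hz
      refine ⟨⟨z, S.le hz⟩, ?_, rfl⟩
      show QuotientGroup.mk _ ∈ K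
      rw [(QuotientGroup.eq_one_iff _).2 (Subgroup.mem_subgroupOf.2 hz)]
      exact one_mem _
    · rw [Subgroup.card_map_of_injective P.subtype_injective]
      have h := Subgroup.card_eq_card_quotient_mul_card_subgroup
        ((QuotientGroup.mk' (Z.subgroupOf P)).comp K'.subtype).ker
      rw [Nat.card_congr (QuotientGroup.quotientKerEquivRange _).toEquiv, MonoidHom.range_comp,
        Subgroup.range_subtype,
        Subgroup.map_comap_eq_self_of_surjective (QuotientGroup.mk'_surjective _), hK,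
        ← MonoidHom.comap_ker, QuotientGroup.ker_mk'] at h
      rw [h]
      congr 1
      refine (Nat.card_congr (Subgroup.subgroupOfEquivOfLe ?_).toEquiv).trans
        (Nat.card_congr (Subgroup.subgroupOfEquivOfLe S.le).toEquiv)
      intro z hz
      show QuotientGroup.mk _ ∈ K
      rw [(QuotientGroup.eq_one_iff _).2 hz]
      exact one_mem _

/-- Three elements independent modulo `Z`. -/
structure IndM (P Z : Subgroup X) (a b c : X) : Prop where
  aP : a ∈ P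
  bP : b ∈ P
  cP : c ∈ P
  a_ne : a ∉ Z
  b_ne : b ∉ Z
  b_ne_a : b * a⁻¹ ∉ Z
  c_ne : c ∉ Z
  c_ne_a : c * a⁻¹ ∉ Z
  c_ne_b : c * b⁻¹ ∉ Z
  c_ne_ab : c * (a * b)⁻¹ ∉ Z

namespace Nat8

variable [Finite X] (S : Nat8 π P Z)
include S

theorem ctx :
    haveI := S.nZ
    letI := S.toESec.commGroup
    ∃ θ : L →* MulAut (P ⧸ Z.subgroupOf P), (∀ (x p : X) (hp : p ∈ P),
      θ (π x) (QuotientGroup.mk ⟨p, hp⟩) = QuotientGroup.mk ⟨x * p * x⁻¹, S.nP.conj_mem p hp x⟩) ∧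
      Nat.card (P ⧸ Z.subgroupOf P) = 8 ∧ ∃ g, θ g ≠ 1 := by
  haveI := S.nZ
  letI := S.toESec.commGroup
  obtain ⟨θ, hθ⟩ := S.toESec.toSec.exists_action
  obtain ⟨x, p, hp, hxp⟩ := S.nt
  refine ⟨θ, hθ, Nat.eq_of_mul_eq_mul_right Nat.card_pos (S.toESec.toSec.card_quot.symm.trans S.card),
    π x, fun e => hxp ?_⟩
  have := congrArg (fun σ : MulAut (P ⧸ Z.subgroupOf P) => σ (QuotientGroup.mk ⟨p, hp⟩)) e
  simp only [MulAut.one_apply] at this
  rwa [hθ, S.toESec.toSec.mk_eq] at this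

theorem mem_iff {a b : X} (ha : a ∈ P) (hb : b ∈ P) :
    haveI := S.nZ
    (QuotientGroup.mk ⟨a, ha⟩ : P ⧸ Z.subgroupOf P) = QuotientGroup.mk ⟨b, hb⟩ ↔ a * b⁻¹ ∈ Z :=
  S.toESec.toSec.mk_eq ha hb

theorem one_iff {a : X} (ha : a ∈ P) :
    haveI := S.nZ
    (QuotientGroup.mk ⟨a, ha⟩ : P ⧸ Z.subgroupOf P) = 1 ↔ a ∈ Z := by
  haveI := S.nZ
  rw [QuotientGroup.eq_one_iff, Subgroup.mem_subgroupOf]

theorem ind_iff {a b c : X} (h : IndM P Z a b c) :
    haveI := S.nZ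
    letI := S.toESec.commGroup
    Ind (QuotientGroup.mk ⟨a, h.aP⟩ : P ⧸ Z.subgroupOf P) (QuotientGroup.mk ⟨b, h.bP⟩)
      (QuotientGroup.mk ⟨c, h.cP⟩) := by
  haveI := S.nZ
  letI := S.toESec.commGroup
  refine ⟨fun e => h.a_ne ((S.one_iff _).1 e), fun e => h.b_ne ((S.one_iff _).1 e),
    fun e => h.b_ne_a ((S.mem_iff _ _).1 e), fun e => h.c_ne ((S.one_iff _).1 e),
    fun e => h.c_ne_a ((S.mem_iff _ _).1 e), fun e => h.c_ne_b ((S.mem_iff _ _).1 e), fun e => ?_⟩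
  exact h.c_ne_ab ((S.mem_iff h.cP (P.mul_mem h.aP h.bP)).1 e)

theorem exists_ind {a : X} (haP : a ∈ P) (ha : a ∉ Z) : ∃ b c, IndM P Z a b c := by
  haveI := S.nZ
  letI := S.toESec.commGroup
  obtain ⟨θ, hθ, h8, hn⟩ := S.ctx
  obtain ⟨b, c, h⟩ := L32Natural92.exists_ind S.toESec.h2 h8
    (a := (QuotientGroup.mk ⟨a, haP⟩ : P ⧸ Z.subgroupOf P)) fun e => ha ((S.one_iff _).1 e)
  induction b using QuotientGroup.induction_on with
  | H b =>
    induction c using QuotientGroup.induction_on with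
    | H c =>
      obtain ⟨b, hb⟩ := b
      obtain ⟨c, hc⟩ := c
      exact ⟨b, c, haP, hb, hc, ha, fun e => h.b_ne ((S.one_iff _).2 e),
        fun e => h.b_ne_a ((S.mem_iff _ _).2 e), fun e => h.c_ne ((S.one_iff _).2 e),
        fun e => h.c_ne_a ((S.mem_iff _ _).2 e), fun e => h.c_ne_b ((S.mem_iff _ _).2 e),
        fun e => h.c_ne_ab ((S.mem_iff hc (P.mul_mem haP hb)).2 e)⟩

theorem realise {a b c a' b' c' : X} (h : IndM P Z a b c) (h' : IndM P Z a' b' c') :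
    ∃ x, x * a * x⁻¹ * a'⁻¹ ∈ Z ∧ x * b * x⁻¹ * b'⁻¹ ∈ Z ∧ x * c * x⁻¹ * c'⁻¹ ∈ Z := by
  haveI := S.nZ
  letI := S.toESec.commGroup
  obtain ⟨θ, hθ, h8, hn⟩ := S.ctx
  obtain ⟨g, h1, h2, h3⟩ := L32Natural92.realise S.toESec.h2 h8 S.big θ hn (S.ind_iff h) (S.ind_iff h')
  obtain ⟨x, rfl⟩ := S.surj g
  rw [hθ, S.mem_iff] at h1 h2 h3
  exact ⟨x, h1, h2, h3⟩

theorem eight {a b c p : X} (h : IndM P Z a b c) (hp : p ∈ P) :
    ∃ i j k : ℕ, i < 2 ∧ j < 2 ∧ k < 2 ∧ p * (a ^ i * b ^ j * c ^ k)⁻¹ ∈ Z := by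
  haveI := S.nZ
  letI := S.toESec.commGroup
  obtain ⟨θ, hθ, h8, hn⟩ := S.ctx
  have key : ∀ i j k : ℕ, (QuotientGroup.mk ⟨p, hp⟩ : P ⧸ Z.subgroupOf P) =
      QuotientGroup.mk ⟨a, h.aP⟩ ^ i * QuotientGroup.mk ⟨b, h.bP⟩ ^ j *
        QuotientGroup.mk ⟨c, h.cP⟩ ^ k → p * (a ^ i * b ^ j * c ^ k)⁻¹ ∈ Z := fun i j k e =>
    (S.mem_iff hp (P.mul_mem (P.mul_mem (P.pow_mem h.aP i) (P.pow_mem h.bP j)) (P.pow_mem h.cP k))).1
      (by rw [e]; rfl)
  rcases L32Natural92.eight S.toESec.h2 h8 (S.ind_iff h)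
    (QuotientGroup.mk ⟨p, hp⟩ : P ⧸ Z.subgroupOf P) with e | e | e | e | e | e | e | e
  · exact ⟨0, 0, 0, by omega, by omega, by omega, key 0 0 0 (by simpa using e)⟩
  · exact ⟨1, 0, 0, by omega, by omega, by omega, key 1 0 0 (by simpa using e)⟩
  · exact ⟨0, 1, 0, by omega, by omega, by omega, key 0 1 0 (by simpa using e)⟩
  · exact ⟨1, 1, 0, by omega, by omega, by omega, key 1 1 0 (by simpa using e)⟩
  · exact ⟨0, 0, 1, by omega, by omega, by omega, key 0 0 1 (by simpa using e)⟩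
  · exact ⟨1, 0, 1, by omega, by omega, by omega, key 1 0 1 (by simpa using e)⟩
  · exact ⟨0, 1, 1, by omega, by omega, by omega, key 0 1 1 (by simpa using e)⟩
  · exact ⟨1, 1, 1, by omega, by omega, by omega, key 1 1 1 (by simpa using e)⟩

theorem faith {x : X} (h : ∀ p ∈ P, x * p * x⁻¹ * p⁻¹ ∈ Z) : x ∈ π.ker := by
  haveI := S.nZ
  letI := S.toESec.commGroup
  obtain ⟨θ, hθ, h8, hn⟩ := S.ctx
  refine MonoidHom.mem_ker.2 (L32Natural92.faith S.big θ hn fun v => ?_)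
  induction v using QuotientGroup.induction_on with
  | H p =>
    obtain ⟨p, hp⟩ := p
    rw [hθ, S.mem_iff]
    exact h p hp

theorem trans {a a' : X} (haP : a ∈ P) (ha : a ∉ Z) (haP' : a' ∈ P) (ha' : a' ∉ Z) :
    ∃ x, x * a * x⁻¹ * a'⁻¹ ∈ Z := by
  obtain ⟨b, c, h⟩ := S.exists_ind haP ha
  obtain ⟨b', c', h'⟩ := S.exists_ind haP' ha'
  obtain ⟨x, hx, -, -⟩ := S.realise h h'
  exact ⟨x, hx⟩

theorem stab_fixed {a p : X} (haP : a ∈ P) (ha : a ∉ Z) (hp : p ∈ P)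
    (h : ∀ x, x * a * x⁻¹ * a⁻¹ ∈ Z → x * p * x⁻¹ * p⁻¹ ∈ Z) : p ∈ Z ∨ p * a⁻¹ ∈ Z := by
  haveI := S.nZ
  letI := S.toESec.commGroup
  obtain ⟨θ, hθ, h8, hn⟩ := S.ctx
  rcases L32Natural92.stab_fixed S.toESec.h2 h8 S.big θ hn
    (a := QuotientGroup.mk ⟨a, haP⟩) (x := QuotientGroup.mk ⟨p, hp⟩)
    (fun e => ha ((S.one_iff _).1 e)) (fun g hg => by
      obtain ⟨x, rfl⟩ := S.surj g
      rw [hθ, S.mem_iff] at hg ⊢
      exact h x hg) with e | e
  · exact Or.inl ((S.one_iff _).1 e)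
  · exact Or.inr ((S.mem_iff _ _).1 e)

theorem two_trans {a b a' b' : X} (haP : a ∈ P) (hbP : b ∈ P) (haP' : a' ∈ P) (hbP' : b' ∈ P)
    (ha : a ∉ Z) (hb : b ∉ Z) (hab : b * a⁻¹ ∉ Z) (ha' : a' ∉ Z) (hb' : b' ∉ Z)
    (hab' : b' * a'⁻¹ ∉ Z) : ∃ x, x * a * x⁻¹ * a'⁻¹ ∈ Z ∧ x * b * x⁻¹ * b'⁻¹ ∈ Z := by
  haveI := S.nZ
  letI := S.toESec.commGroup
  obtain ⟨θ, hθ, h8, hn⟩ := S.ctx
  obtain ⟨g, h1, h2⟩ := L32Natural92.two_trans S.toESec.h2 h8 S.big θ hn
    (a := QuotientGroup.mk ⟨a, haP⟩) (b := QuotientGroup.mk ⟨b, hbP⟩)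
    (a' := QuotientGroup.mk ⟨a', haP'⟩) (b' := QuotientGroup.mk ⟨b', hbP'⟩)
    (fun e => ha ((S.one_iff _).1 e)) (fun e => hb ((S.one_iff _).1 e))
    (fun e => hab ((S.mem_iff _ _).1 e)) (fun e => ha' ((S.one_iff _).1 e))
    (fun e => hb' ((S.one_iff _).1 e)) (fun e => hab' ((S.mem_iff _ _).1 e))
  obtain ⟨x, rfl⟩ := S.surj g
  rw [hθ, S.mem_iff] at h1 h2
  exact ⟨x, h1, h2⟩

theorem ind_of {a b c : X} (ha : a ∈ P) (hb : b ∈ P) (hc : c ∈ P)
    (h : haveI := S.nZ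
      letI := S.toESec.commGroup
      Ind (QuotientGroup.mk ⟨a, ha⟩ : P ⧸ Z.subgroupOf P) (QuotientGroup.mk ⟨b, hb⟩)
        (QuotientGroup.mk ⟨c, hc⟩)) : IndM P Z a b c := by
  haveI := S.nZ
  letI := S.toESec.commGroup
  exact ⟨ha, hb, hc, fun e => h.a_ne ((S.one_iff _).2 e), fun e => h.b_ne ((S.one_iff _).2 e),
    fun e => h.b_ne_a ((S.mem_iff _ _).2 e), fun e => h.c_ne ((S.one_iff _).2 e),
    fun e => h.c_ne_a ((S.mem_iff _ _).2 e), fun e => h.c_ne_b ((S.mem_iff _ _).2 e),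
    fun e => h.c_ne_ab ((S.mem_iff hc (P.mul_mem ha hb)).2 e)⟩

theorem shear {a b c : X} (h : IndM P Z a b c) : IndM P Z a (b * a) (c * b) := by
  haveI := S.nZ
  letI := S.toESec.commGroup
  exact S.ind_of h.aP (P.mul_mem h.bP h.aP) (P.mul_mem h.cP h.bP)
    (Ind.shear S.toESec.h2 (S.ind_iff h))

theorem swap {a b c : X} (h : IndM P Z a b c) : IndM P Z a c b := by
  haveI := S.nZ
  letI := S.toESec.commGroup
  exact S.ind_of h.aP h.cP h.bP (Ind.swap S.toESec.h2 (S.ind_iff h))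

theorem add {a b c : X} (h : IndM P Z a b c) : IndM P Z (a * b) b c := by
  haveI := S.nZ
  letI := S.toESec.commGroup
  exact S.ind_of (P.mul_mem h.aP h.bP) h.bP h.cP (Ind.add S.toESec.h2 (S.ind_iff h))

theorem cycle {a b c : X} (h : IndM P Z a b c) : IndM P Z a c (b * c) := by
  haveI := S.nZ
  letI := S.toESec.commGroup
  exact S.ind_of h.aP h.cP (P.mul_mem h.bP h.cP) (Ind.cycle S.toESec.h2 (S.ind_iff h))

end Nat8

end Cfsg.Agent.L32Layers92
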