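import Mathlib
import Cfsg.Agent.Lib.L32Layers92
import Cfsg.Agent.Lib.A5OTwoModule92
import Cfsg.Agent.Lib.PGroupsBasic

/-!
Normal 2-subgroups with quotient a simple group of order 168 in groups of sectional 2-rank at
most 4: general lemmas.
-/

set_option autoImplicit false
set_option linter.style.haveILetI false
set_option linter.unusedSectionVars false

namespace Cfsg.Agent.L32Core92

open Cfsg.Agent.L32Natural92 Cfsg.Agent.L32Layers92

/-- The subgroup generated by squares. -/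
def sqs {X : Type*} [Group X] (Q : Subgroup X) : Subgroup X :=
  Subgroup.closure {x | ∃ q ∈ Q, q * q = x}

/-- The hypotheses. -/
structure Core {X L : Type*} [Group X] [Group L] (π : X →* L) (Q : Subgroup X) : Prop where
  surj : Function.Surjective π
  ker : π.ker = Q
  p2 : IsPGroup 2 Q
  big : Big L
  faith : ∃ x, ∃ q ∈ Q, x * q * x⁻¹ * q⁻¹ ∉ sqs Q
  rk : Cfsg.SectionalPRankLE 2 4 X

variable {X L : Type*} [Group X] [Finite X] [Group L] {π : X →* L} {Q : Subgroup X}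

omit [Finite X] in
theorem sq_mem {q : X} (hq : q ∈ Q) : q * q ∈ sqs Q := Subgroup.subset_closure ⟨q, hq, rfl⟩

omit [Finite X] in
theorem sqs_le : sqs Q ≤ Q :=
  (Subgroup.closure_le _).2 fun _ ⟨_, hq, e⟩ => e ▸ Q.mul_mem hq hq

omit [Finite X] in
theorem comm_mem {a b : X} (ha : a ∈ Q) (hb : b ∈ Q) : a * b * a⁻¹ * b⁻¹ ∈ sqs Q := by
  rw [show a * b * a⁻¹ * b⁻¹ =
    (a * b) * (a * b) * ((b⁻¹ * a⁻¹ * b) * (b⁻¹ * a⁻¹ * b)) * (b⁻¹ * b⁻¹) by group]
  exact mul_mem (mul_mem (sq_mem (Q.mul_mem ha hb))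
    (sq_mem (Q.mul_mem (Q.mul_mem (Q.inv_mem hb) (Q.inv_mem ha)) hb))) (sq_mem (Q.inv_mem hb))

omit [Finite X] in
theorem sqs_normal (hQ : Q.Normal) : (sqs Q).Normal := by
  refine ⟨fun n hn x => ?_⟩
  induction hn using Subgroup.closure_induction with
  | mem z hz =>
    obtain ⟨q, hq, rfl⟩ := hz
    rw [show x * (q * q) * x⁻¹ = (x * q * x⁻¹) * (x * q * x⁻¹) by group]
    exact sq_mem (hQ.conj_mem q hq x)
  | one => simp
  | mul a b _ _ iha ihb =>
    rw [show x * (a * b) * x⁻¹ = (x * a * x⁻¹) * (x * b * x⁻¹) by group]; exact mul_mem iha ihb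
  | inv a _ iha =>
    rw [show x * a⁻¹ * x⁻¹ = (x * a * x⁻¹)⁻¹ by group]; exact inv_mem iha

/-- An elementary abelian generating set bounds the order. -/
theorem elem_le (hrk : Cfsg.SectionalPRankLE 2 4 X) (S : Set X)
    (hc : ∀ a ∈ S, ∀ b ∈ S, a * b = b * a) (h2 : ∀ a ∈ S, a * a = 1) :
    Nat.card (Subgroup.closure S) ≤ 16 := by
  have h := A5OTwo92.section_bound hrk S ⊥ bot_le
    (fun s _ n hn => by rw [Subgroup.mem_bot.1 hn, mul_one, mul_inv_cancel]; exact one_mem _)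
    (fun a ha b hb => by rw [hc a ha b hb]; exact Subgroup.mem_bot.2 (by group))
    (fun a ha => Subgroup.mem_bot.2 (h2 a ha))
  rwa [Subgroup.card_bot, mul_one] at h

theorem elem_subgroup_le (hrk : Cfsg.SectionalPRankLE 2 4 X) (K : Subgroup X)
    (h2 : ∀ a ∈ K, a * a = 1) : Nat.card K ≤ 16 := by
  have h := elem_le hrk (K : Set X) (fun a ha b hb => by
    have hab := h2 _ (K.mul_mem ha hb)
    rw [eq_inv_of_mul_eq_one_left hab, mul_inv_rev, inv_eq_of_mul_eq_one_right (h2 a ha),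
      inv_eq_of_mul_eq_one_right (h2 b hb)]) h2
  rwa [Subgroup.closure_eq] at h

omit [Finite X] in
theorem Core.normal (C : Core π Q) : Q.Normal := C.ker ▸ inferInstance

omit [Finite X] in
theorem Core.sec (C : Core π Q) : ESec π Q (sqs Q) :=
  { surj := C.surj, nP := C.normal, nZ := sqs_normal C.normal, le := sqs_le,
    triv := fun q hq p hp => comm_mem (C.ker ▸ hq) hp
    sq := fun _ hp => sq_mem hp }

/-- A series of two trivial layers between the squares and the whole contradicts faithfulness. -/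
theorem Core.no_series (C : Core π Q) (W : Subgroup X) (hFW : sqs Q ≤ W) (hWQ : W ≤ Q)
    (h1 : ∀ x, ∀ w ∈ W, x * w * x⁻¹ * w⁻¹ ∈ sqs Q) (h2 : ∀ x, ∀ p ∈ Q, x * p * x⁻¹ * p⁻¹ ∈ W) :
    False := by
  obtain ⟨x, q, hq, h⟩ := C.faith
  exact h (C.sec.trivial_series C.big W hFW hWQ h1 h2 x hq)

theorem Core.card_cases (C : Core π Q) :
    Nat.card Q = 8 * Nat.card (sqs Q) ∨ Nat.card Q = 16 * Nat.card (sqs Q) := by
  have hub : Nat.card Q ≤ 16 * Nat.card (sqs Q) := by
    have h := A5OTwo92.section_bound C.rk (Q : Set X) (sqs Q)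
      (by rw [Subgroup.closure_eq]; exact sqs_le)
      (fun s _ n hn => (sqs_normal C.normal).conj_mem n hn s)
      (fun a ha b hb => comm_mem ha hb) (fun a ha => sq_mem ha)
    rwa [Subgroup.closure_eq] at h
  have hlb : ¬ Nat.card Q < 7 * Nat.card (sqs Q) := fun h => by
    obtain ⟨x, q, hq, hne⟩ := C.faith
    exact hne (C.sec.toSec.small C.big h x hq)
  have hd := Subgroup.card_dvd_of_le (sqs_le (Q := Q))
  haveI : Fact (Nat.Prime 2) := ⟨Nat.prime_two⟩
  obtain ⟨m, hm⟩ := C.p2.exists_card_eq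
  obtain ⟨j, hj⟩ := (C.p2.to_le (sqs_le (Q := Q))).exists_card_eq
  rw [hm, hj] at hub hlb hd ⊢
  obtain ⟨k, rfl⟩ := Nat.exists_eq_add_of_le ((Nat.pow_dvd_pow_iff_le_right (by norm_num)).1 hd)
  rw [pow_add] at hub hlb ⊢
  have hp : 0 < 2 ^ j := Nat.two_pow_pos j
  have hk4 : k ≤ 4 := (Nat.pow_le_pow_iff_right (show 1 < 2 by norm_num)).1 (by
    nlinarith : 2 ^ k ≤ 2 ^ 4)
  interval_cases k <;> omega

omit [Finite X] in
theorem comm_eq_one_iff {a b : X} : a * b * a⁻¹ * b⁻¹ = 1 ↔ a * b = b * a := by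
  rw [mul_inv_eq_one, mul_inv_eq_iff_eq_mul]

omit [Finite X] in
/-- Elements fixed modulo a fixed subgroup of order two. -/
theorem fixed_two {R : Subgroup X} {ρ : X} (hR : ∀ z, z ∈ R ↔ z = 1 ∨ z = ρ)
    (hρ : ∀ x, x * ρ = ρ * x) {z : X} (hz : z ∈ R) (x : X) : x * z = z * x := by
  rcases (hR z).1 hz with rfl | rfl
  · simp
  · exact hρ x

theorem ind_shift {V : Type*} [CommGroup V] (h2 : ∀ v : V, v * v = 1) {a b c : V} (h : Ind a b c) :
    Ind a b (c * a) := by
  have i : ∀ v : V, v⁻¹ = v := fun v => inv_eq_of_mul_eq_one_right (h2 v)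
  obtain ⟨h1, h3, h4, h5, h6, h7, h9⟩ := h
  exact ⟨h1, h3, h4, fun e => h6 (by rw [eq_inv_of_mul_eq_one_left e, i]),
    fun e => h5 (mul_eq_right.1 e), fun e => h9 (by rw [← e, mul_comm c a, ← mul_assoc, h2, one_mul]),
    fun e => h7 (by rw [mul_comm a b] at e; exact mul_right_cancel e)⟩

/-- A natural section with central kernel and commutators in a fixed group of order two is abelian. -/
theorem abel8 {K Z R : Subgroup X} (S : Nat8 π K Z) (hcen : ∀ z ∈ Z, ∀ k ∈ K, z * k = k * z) {ρ : X}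
    (hR : ∀ z, z ∈ R ↔ z = 1 ∨ z = ρ) (hρ : ∀ x, x * ρ = ρ * x)
    (hcomm : ∀ a ∈ K, ∀ b ∈ K, a * b * a⁻¹ * b⁻¹ ∈ R) : ∀ a ∈ K, ∀ b ∈ K, a * b = b * a := by
  haveI := S.nP
  have main : ∀ a ∈ K, a ∉ Z → ∀ e ∈ K, a * e = e * a := by
    intro a ha haZ e he
    obtain ⟨b, c, hI⟩ := S.exists_ind ha haZ
    -- some element outside `⟨a⟩Z` commutes with `a`
    obtain ⟨d, hd, hdZ, hdaZ, hcd⟩ : ∃ d ∈ K, d ∉ Z ∧ d * a⁻¹ ∉ Z ∧ a * d = d * a := by
      by_cases hb : a * b = b * a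
      · exact ⟨b, hI.bP, hI.b_ne, hI.b_ne_a, hb⟩
      by_cases hc : a * c = c * a
      · exact ⟨c, hI.cP, hI.c_ne, hI.c_ne_a, hc⟩
      have hb' := ((hR _).1 (hcomm a ha b hI.bP)).resolve_left (mt comm_eq_one_iff.1 hb)
      have hc' := ((hR _).1 (hcomm a ha c hI.cP)).resolve_left (mt comm_eq_one_iff.1 hc)
      have hρ2 : ρ * ρ = 1 := by
        rcases (hR _).1 (R.mul_mem ((hR _).2 (Or.inr rfl)) ((hR _).2 (Or.inr rfl))) with h | h
        · exact h
        · rw [mul_eq_left.1 h, mul_one]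
      refine ⟨b * c, K.mul_mem hI.bP hI.cP, (S.cycle hI).c_ne, (S.cycle hI).c_ne_a,
        comm_eq_one_iff.1 ?_⟩
      rw [show a * (b * c) * a⁻¹ * (b * c)⁻¹ = (a * b * a⁻¹ * b⁻¹) * (b * (a * c * a⁻¹ * c⁻¹) * b⁻¹) by
        group, hb', hc', hρ b, mul_inv_cancel_right, hρ2]
    by_cases heZ : e ∈ Z
    · exact (hcen e heZ a ha).symm
    by_cases heaZ : e * a⁻¹ ∈ Z
    · have := hcen _ heaZ a ha
      rw [inv_mul_cancel_right] at this
      calc a * e = a * (e * a⁻¹ * a) := by rw [inv_mul_cancel_right]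
        _ = a * (e * a⁻¹) * a := (mul_assoc _ _ _).symm
        _ = e * a := by rw [← this]
    obtain ⟨x, hxa, hxd⟩ := S.two_trans ha hd ha he haZ hdZ hdaZ haZ heZ heaZ
    set z := x * a * x⁻¹ * a⁻¹ with hz
    set z' := x * d * x⁻¹ * e⁻¹ with hz'
    have h1 : (x * a * x⁻¹) * (x * d * x⁻¹) = (x * d * x⁻¹) * (x * a * x⁻¹) := by
      calc _ = x * (a * d) * x⁻¹ := by group
        _ = x * (d * a) * x⁻¹ := by rw [hcd]
        _ = _ := by group
    rw [show x * a * x⁻¹ = z * a by rw [hz]; group, show x * d * x⁻¹ = z' * e by rw [hz']; group] at h1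
    have c1 := hcen z hxa _ (K.mul_mem (S.le hxd) he)
    rw [mul_assoc z, ← mul_assoc a, ← hcen z' hxd a ha, mul_assoc z' a, ← mul_assoc (z' * e),
      ← c1, mul_assoc z, mul_assoc z' e] at h1
    exact mul_left_cancel (mul_left_cancel h1)
  intro a ha b hb
  by_cases haZ : a ∈ Z
  · exact hcen a haZ b hb
  · exact main a ha haZ b hb

/-- Squares in a natural group act as an isomorphism. -/
theorem abel_sq8 {K Z R : Subgroup X} (S : Nat8 π K Z) (SR : Nat8 π R ⊥)
    (hRK : R ≤ Z) (hcen : ∀ z ∈ Z, ∀ k ∈ K, z * k = k * z) (hZ2 : ∀ z ∈ Z, z * z = 1)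
    (hsq : ∀ k ∈ K, k * k ∈ R) :
    (∀ k ∈ K, k * k = 1) ∨
      ((∀ a ∈ K, ∀ b ∈ K, a * b = b * a) ∧ ∀ k ∈ K, k * k = 1 ↔ k ∈ Z) := by
  haveI := S.nP
  have hcoset : ∀ k ∈ K, ∀ z ∈ Z, z * k * (z * k) = k * k := fun k hk z hz => by
    rw [hcen z hz k hk, show k * z * (k * z) = k * (z * k) * z by group, hcen z hz k hk,
      show k * (k * z) * z = k * k * (z * z) by group, hZ2 z hz, mul_one]
  have hconj : ∀ (x : X) {k k' : X}, k' ∈ K → x * k * x⁻¹ * k'⁻¹ ∈ Z →
      x * (k * k) * x⁻¹ = k' * k' := fun x k k' hk' h => by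
    rw [show x * (k * k) * x⁻¹ = (x * k * x⁻¹ * k'⁻¹ * k') * (x * k * x⁻¹ * k'⁻¹ * k') by group,
      hcoset k' hk' _ h]
  by_cases h0 : ∃ k ∈ K, k ∉ Z ∧ k * k = 1
  · left
    obtain ⟨k, hk, hkZ, hk1⟩ := h0
    intro e he
    by_cases heZ : e ∈ Z
    · exact hZ2 e heZ
    · obtain ⟨x, hx⟩ := S.trans hk hkZ he heZ
      rw [← hconj x he hx, hk1, mul_one, mul_inv_cancel]
  · push Not at h0
    right
    have hiff : ∀ k ∈ K, k * k = 1 ↔ k ∈ Z := fun k hk =>
      ⟨fun h => by_contra fun hne => h0 k hk hne h, hZ2 k⟩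
    -- squares separate cosets
    have hinj : ∀ a ∈ K, ∀ b ∈ K, a ∉ Z → b ∉ Z → b * a⁻¹ ∉ Z → a * a ≠ b * b := by
      intro a ha b hb haZ hbZ hba e
      have hall : ∀ c ∈ K, c ∉ Z → c * c = a * a := by
        intro c hc hcZ
        by_cases hca : c * a⁻¹ ∈ Z
        · rw [← hcoset a ha _ hca, inv_mul_cancel_right]
        · obtain ⟨x, hxa, hxb⟩ := S.two_trans ha hb ha hc haZ hbZ hba haZ hcZ hca
          rw [← hconj x hc hxb, ← e, hconj x ha hxa]
      have hfix : ∀ x, x * (a * a) * x⁻¹ * (a * a)⁻¹ ∈ (⊥ : Subgroup X) := fun x => by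
        have hxZ : x * a * x⁻¹ ∉ Z := fun h => haZ (by
          simpa [mul_assoc] using S.nZ.conj_mem _ h x⁻¹)
        rw [show x * (a * a) * x⁻¹ = (x * a * x⁻¹) * (x * a * x⁻¹) by group,
          hall _ (S.nP.conj_mem a ha x) hxZ, mul_inv_cancel]
        exact one_mem _
      have haR := hsq a ha
      have hane : a * a ∉ (⊥ : Subgroup X) := fun h => h0 a ha haZ (Subgroup.mem_bot.1 h)
      obtain ⟨b', c', hI⟩ := SR.exists_ind haR hane
      obtain ⟨x, hx⟩ := SR.trans haR hane hI.bP hI.b_ne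
      apply hI.b_ne_a
      rw [Subgroup.mem_bot, mul_inv_eq_one] at hx ⊢
      have := Subgroup.mem_bot.1 (hfix x)
      rw [mul_inv_eq_one] at this
      rw [← hx, this]
    have hmul : ∀ a ∈ K, ∀ b ∈ K, a ∉ Z → b ∉ Z → b * a⁻¹ ∉ Z →
        a * b * (a * b) = a * a * (b * b) := by
      intro a ha b hb haZ hbZ hba
      have habZ : a * b ∉ Z := fun h => hba (by
        have := hcen _ h a⁻¹ (K.inv_mem ha)
        have e2 : b * a⁻¹ = a⁻¹ * (a * b) * a⁻¹ := by group
        rw [e2, ← this, mul_assoc (a * b), ← mul_inv_rev]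
        exact Z.mul_mem h (Z.inv_mem (S.sq a ha)))
      by_contra hne
      obtain ⟨u, w, hu⟩ := S.exists_ind ha haZ
      obtain ⟨c, hI⟩ : ∃ c, IndM K Z a b c := by
        by_cases h : u * b⁻¹ ∈ Z ∨ u * (a * b)⁻¹ ∈ Z
        · obtain ⟨x, hxa, hxu⟩ := S.two_trans ha hu.bP ha hb haZ hu.b_ne hu.b_ne_a haZ hbZ hba
          have hxw : x * w * x⁻¹ ∈ K := S.nP.conj_mem _ hu.cP x
          refine ⟨x * w * x⁻¹, S.ind_of ha hb hxw ?_⟩
          haveI := S.nZ
          letI := S.toESec.commGroup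
          obtain ⟨θ, hθ, -, -⟩ := S.ctx
          have := L32Natural92.ind_map S.toESec.h2 (S.ind_iff hu) (θ (π x))
          rw [hθ, hθ, hθ, (S.mem_iff (S.nP.conj_mem _ ha x) ha).2 hxa,
            (S.mem_iff (S.nP.conj_mem _ hu.bP x) hb).2 hxu] at this
          exact this
        · push Not at h
          refine ⟨u, S.ind_of ha hb hu.bP ?_⟩
          haveI := S.nZ
          letI := S.toESec.commGroup
          exact ⟨fun e => haZ ((S.one_iff _).1 e), fun e => hbZ ((S.one_iff _).1 e),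
            fun e => hba ((S.mem_iff _ _).1 e), fun e => hu.b_ne ((S.one_iff _).1 e),
            fun e => hu.b_ne_a ((S.mem_iff _ _).1 e), fun e => h.1 ((S.mem_iff _ _).1 e),
            fun e => h.2 ((S.mem_iff hu.bP (K.mul_mem ha hb)).1 e)⟩
      have ne : ∀ k ∈ K, k ∉ Z → k * k ∉ (⊥ : Subgroup X) := fun k hk hkZ h =>
        h0 k hk hkZ (Subgroup.mem_bot.1 h)
      have ne' : ∀ u ∈ K, ∀ v ∈ K, u ∉ Z → v ∉ Z → v * u⁻¹ ∉ Z →
          v * v * (u * u)⁻¹ ∉ (⊥ : Subgroup X) := fun u hu v hv huZ hvZ hvu h => by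
        rw [Subgroup.mem_bot, mul_inv_eq_one] at h
        exact hinj u hu v hv huZ hvZ hvu h.symm
      have hab : a * b * a⁻¹ ∉ Z := fun h => hbZ (by
        simpa [mul_assoc] using S.nZ.conj_mem _ h a⁻¹)
      have hIR : IndM R ⊥ (a * a) (b * b) (a * b * (a * b)) :=
        ⟨hsq a ha, hsq b hb, hsq _ (K.mul_mem ha hb), ne a ha haZ, ne b hb hbZ,
          ne' a ha b hb haZ hbZ hba, ne _ (K.mul_mem ha hb) habZ,
          ne' a ha _ (K.mul_mem ha hb) haZ habZ hab,
          ne' b hb _ (K.mul_mem ha hb) hbZ habZ (by rw [mul_inv_cancel_right]; exact haZ),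
          fun h => hne (by rwa [Subgroup.mem_bot, mul_inv_eq_one] at h)⟩
      obtain ⟨x, hxa, hxb, hxc⟩ := S.realise hI (S.ind_of hI.aP hI.bP (K.mul_mem hI.cP hI.aP) (by
        haveI := S.nZ
        letI := S.toESec.commGroup
        have h := S.ind_iff hI
        exact ind_shift S.toESec.h2 (S.ind_iff hI)))
      have hxker : x ∈ π.ker := SR.faith fun p hp => by
        obtain ⟨i, j, k, -, -, -, hz⟩ := SR.eight hIR hp
        rw [Subgroup.mem_bot, mul_inv_eq_one] at hz ⊢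
        have eA := hconj x ha hxa
        have eB := hconj x hb hxb
        have eC : x * (a * b * (a * b)) * x⁻¹ = a * b * (a * b) := by
          refine hconj x (K.mul_mem ha hb) ?_
          rw [show x * (a * b) * x⁻¹ * (a * b)⁻¹ =
            (x * a * x⁻¹ * a⁻¹) * (a * (x * b * x⁻¹ * b⁻¹) * a⁻¹) by group]
          exact Z.mul_mem hxa (S.nZ.conj_mem _ hxb a)
        have key : MulAut.conj x p = p := by
          rw [hz, map_mul, map_mul, map_pow, map_pow, map_pow, MulAut.conj_apply, MulAut.conj_apply,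
            MulAut.conj_apply, eA, eB, eC]
        exact key
      have h1 := S.triv x hxker c hI.cP
      apply hI.a_ne
      have h2 := Z.mul_mem (Z.inv_mem hxc) h1
      rw [show (x * c * x⁻¹ * (c * a)⁻¹)⁻¹ * (x * c * x⁻¹ * c⁻¹) = c * a * c⁻¹ by group] at h2
      simpa [mul_assoc] using S.nZ.conj_mem _ h2 c⁻¹
    refine ⟨fun a ha b hb => ?_, hiff⟩
    by_cases haZ : a ∈ Z
    · exact hcen a haZ b hb
    by_cases hbZ : b ∈ Z
    · exact (hcen b hbZ a ha).symm
    by_cases hba : b * a⁻¹ ∈ Z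
    · have := hcen _ hba a ha
      rw [inv_mul_cancel_right] at this
      calc a * b = a * (b * a⁻¹ * a) := by rw [inv_mul_cancel_right]
        _ = a * (b * a⁻¹) * a := (mul_assoc _ _ _).symm
        _ = b * a := by rw [← this]
    · have := hmul a ha b hb haZ hbZ hba
      rw [mul_assoc a b, mul_assoc a a, mul_left_cancel_iff, ← mul_assoc b, ← mul_assoc a b,
        mul_right_cancel_iff] at this
      exact this.symm

/-- An element of order four modulo the kernel fixes no element of a coset without fixed points. -/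
theorem no_fix4 (hsurj : Function.Surjective π) (B : Big L) {R : Subgroup X} (hRn : R.Normal) {p : X}
    (hR8 : Nat.card R = 8) (hmod : ∀ x, x * p * x⁻¹ * p⁻¹ ∈ R)
    (htriv : ∀ q ∈ π.ker, ∀ z ∈ R, q * z = z * q) (hpk : ∀ q ∈ π.ker, q * p = p * q)
    (hnofix : ∀ z ∈ R, ¬ ∀ x, x * (z * p) = z * p * x) {x t : X} (ht : t * p⁻¹ ∈ R)
    (hx4 : π x ^ 4 = 1) (hx2 : π x ^ 2 ≠ 1) : x * t * x⁻¹ ≠ t := by
  classical
  intro hxt
  haveI := B.finite
  let α := {y : X // y * p⁻¹ ∈ R}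
  have hmem : ∀ (g y : X), y * p⁻¹ ∈ R → g * y * g⁻¹ * p⁻¹ ∈ R := fun g y hy => by
    rw [show g * y * g⁻¹ * p⁻¹ = (g * (y * p⁻¹) * g⁻¹) * (g * p * g⁻¹ * p⁻¹) by group]
    exact R.mul_mem (hRn.conj_mem _ hy g) (hmod g)
  let ψ : X →* Equiv.Perm α :=
    { toFun := fun g =>
        { toFun := fun y => ⟨g * y.1 * g⁻¹, hmem g y.1 y.2⟩
          invFun := fun y => ⟨g⁻¹ * y.1 * g, by simpa using hmem g⁻¹ y.1 y.2⟩
          left_inv := fun y => Subtype.ext (by simp [mul_assoc])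
          right_inv := fun y => Subtype.ext (by simp [mul_assoc]) }
      map_one' := Equiv.ext fun y => Subtype.ext (by simp)
      map_mul' := fun g h => Equiv.ext fun y => Subtype.ext (by simp [mul_assoc]) }
  have hker : π.ker ≤ ψ.ker := fun q hq => by
    refine MonoidHom.mem_ker.2 (Equiv.ext fun y => Subtype.ext ?_)
    show q * y.1 * q⁻¹ = y.1
    rw [mul_inv_eq_iff_eq_mul, show y.1 = y.1 * p⁻¹ * p by group, ← mul_assoc, htriv q hq _ y.2,
      mul_assoc, hpk q hq, ← mul_assoc]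
  let φ := π.liftOfSurjective hsurj ⟨ψ, hker⟩
  letI : MulAction L α := MulAction.compHom α φ
  have hact : ∀ g (y : α), π g • y = ψ g y := fun g y => by
    show φ (π g) y = ψ g y
    rw [show φ (π g) = ψ g from MonoidHom.liftOfRightInverse_comp_apply _ _ _ _ _]
  have hα : Nat.card α = 8 := by
    rw [← hR8]
    exact Nat.card_congr ⟨fun y => ⟨y.1 * p⁻¹, y.2⟩,
      fun z => ⟨z.1 * p, by rw [mul_inv_cancel_right]; exact z.2⟩,
      fun y => Subtype.ext (inv_mul_cancel_right _ _), fun z => Subtype.ext (mul_inv_cancel_right _ _)⟩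
  have nofix : ∀ y : α, ¬ ∀ l : L, l • y = y := fun y h => by
    refine hnofix _ y.2 fun g => ?_
    have := congrArg Subtype.val (h (π g))
    rw [hact] at this
    rw [inv_mul_cancel_right]
    exact mul_inv_eq_iff_eq_mul.1 this
  set T : α := ⟨t, ht⟩ with hT
  set O := MulAction.orbit L T with hO
  have hOdvd : Nat.card O ∣ 168 := by
    rw [Nat.card_coe_set_eq, ← MulAction.index_stabilizer, ← B.card]
    exact Subgroup.index_dvd_card _
  have hO7 : 7 ≤ Nat.card O := by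
    by_contra h
    exact nofix T fun l => congrArg Subtype.val
      (B.small_trivial (α := O) (not_le.1 h) l ⟨T, MulAction.mem_orbit_self T⟩)
  have hO8 : Nat.card O ≤ 8 := hα ▸ Nat.card_le_card_of_injective _ Subtype.val_injective
  have hne7 : Nat.card O ≠ 7 := fun h => by
    haveI : Finite α := inferInstance
    have hc : Nat.card (Oᶜ : Set α) = 1 := by
      have := Set.ncard_add_ncard_compl O
      rw [← Nat.card_coe_set_eq, ← Nat.card_coe_set_eq, h, hα] at this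
      omega
    obtain ⟨hsub, ⟨⟨y, hy⟩⟩⟩ := Nat.card_eq_one_iff_unique.1 hc
    refine nofix y fun l => ?_
    have hly : l • y ∈ Oᶜ := fun hmem => hy (by
      have := MulAction.orbit_eq_iff.2 hmem
      exact MulAction.orbit_eq_iff.1 ((MulAction.orbit_smul l y).symm.trans this))
    exact congrArg Subtype.val (hsub.elim (⟨l • y, hly⟩ : (Oᶜ : Set α)) ⟨y, hy⟩)
  have hO' : Nat.card O = 8 := by omega
  have hstab : Nat.card (MulAction.stabilizer L T) = 21 := by
    have := (MulAction.stabilizer L T).card_mul_index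
    rw [MulAction.index_stabilizer, ← Nat.card_coe_set_eq, hO', B.card] at this
    omega
  have hord : orderOf (π x) = 4 := by
    haveI : Fact (Nat.Prime 2) := ⟨Nat.prime_two⟩
    exact orderOf_eq_prime_pow (p := 2) (n := 1) (by simpa using hx2) (by simpa using hx4)
  have hmemS : π x ∈ MulAction.stabilizer L T := by
    rw [MulAction.mem_stabilizer_iff, hact]
    exact Subtype.ext hxt
  have := Subgroup.orderOf_dvd_natCard _ hmemS
  rw [hord, hstab] at this
  norm_num at this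

end Cfsg.Agent.L32Core92
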