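import Mathlib
import Cfsg.Agent.Lib.L32Layers92
import Cfsg.Agent.Lib.A5OTwoModule92

/-!
Elementary abelian sections of order 32 in groups with an abelian normal 2-subgroup and quotient a
simple group of order 168.
-/

set_option autoImplicit false
set_option linter.style.haveILetI false
set_option linter.unusedSectionVars false

namespace Cfsg.Agent.L32Sections92

open Cfsg.Agent.L32Natural92 Cfsg.Agent.L32Layers92

variable {X L : Type*} [Group X] [Group L] {π : X →* L} {A : Subgroup X} [A.Normal]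
  [IsMulCommutative A]

/-- The additive form of `A`. -/
abbrev Mo (A : Subgroup X) := Additive A

scoped instance addCommGroupMo (A : Subgroup X) [IsMulCommutative A] : AddCommGroup (Mo A) :=
  { (inferInstance : AddGroup (Mo A)) with
    add_comm := fun a b => Additive.toMul.injective (mul_comm' (Additive.toMul a) (Additive.toMul b)) }

/-- The underlying element. -/
def val (v : Mo A) : X := (Additive.toMul v : A)

/-- An element of `A` as an additive element. -/
def mo (a : X) (h : a ∈ A) : Mo A := Additive.ofMul ⟨a, h⟩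

omit [A.Normal] [IsMulCommutative A] in
theorem val_mem (v : Mo A) : val v ∈ A := (Additive.toMul v : A).2

omit [A.Normal] [IsMulCommutative A] in
theorem val_inj {v w : Mo A} : val v = val w ↔ v = w :=
  ⟨fun h => Additive.toMul.injective (Subtype.ext h), fun h => h ▸ rfl⟩

omit [A.Normal] [IsMulCommutative A] in
@[simp] theorem val_mo (a : X) (h : a ∈ A) : val (mo a h) = a := rfl

omit [A.Normal] in
theorem val_add (v w : Mo A) : val (v + w) = val v * val w := rfl

omit [A.Normal] in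
theorem val_neg (v : Mo A) : val (-v) = (val v)⁻¹ := rfl

omit [A.Normal] in
theorem val_sub (v w : Mo A) : val (v - w) = val v * (val w)⁻¹ := by
  rw [sub_eq_add_neg, val_add, val_neg]

omit [A.Normal] in
theorem val_zero : val (0 : Mo A) = 1 := rfl

/-- Conjugation on the additive form. -/
def cj (x : X) : Mo A →+ Mo A :=
  MonoidHom.toAdditive (MulAut.conjNormal x : MulAut A).toMonoidHom

theorem val_cj (x : X) (v : Mo A) : val (cj x v) = x * val v * x⁻¹ := rfl

theorem cj_cj (x y : X) (v : Mo A) : cj (x * y) v = cj x (cj y v) := by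
  apply val_inj.1
  simp only [val_cj]
  group

theorem cj_of_mem {a : X} (ha : a ∈ A) (v : Mo A) : cj a v = v := by
  apply val_inj.1
  rw [val_cj, mul_inv_eq_iff_eq_mul]
  exact congrArg Subtype.val (mul_comm' (⟨a, ha⟩ : A) ⟨val v, val_mem v⟩)

/-- The subgroup of a group attached to a subgroup of the additive form. -/
def sub (N : AddSubgroup (Mo A)) : Subgroup X where
  carrier := val '' (N : Set (Mo A))
  mul_mem' := by
    rintro _ _ ⟨v, hv, rfl⟩ ⟨w, hw, rfl⟩
    exact ⟨v + w, N.add_mem hv hw, rfl⟩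
  one_mem' := ⟨0, N.zero_mem, rfl⟩
  inv_mem' := by
    rintro _ ⟨v, hv, rfl⟩
    exact ⟨-v, N.neg_mem hv, rfl⟩

omit [A.Normal] in
theorem mem_sub_iff {N : AddSubgroup (Mo A)} {x : X} : x ∈ sub N ↔ ∃ v ∈ N, val v = x := Iff.rfl

omit [A.Normal] in
theorem mem_sub {N : AddSubgroup (Mo A)} {v : Mo A} (h : v ∈ N) : val v ∈ sub N :=
  mem_sub_iff.2 ⟨v, h, rfl⟩

omit [A.Normal] in
theorem card_sub (N : AddSubgroup (Mo A)) : Nat.card (sub N) = Nat.card N :=
  show Nat.card ↥(val '' (N : Set (Mo A))) = Nat.card ↥(N : Set (Mo A)) from (Nat.card_congr (Equiv.Set.image val (N : Set (Mo A)) fun _ _ h => val_inj.1 h)).symm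

/-- The section criterion. -/
theorem section_contra [Finite X] (hrk : Cfsg.SectionalPRankLE 2 4 X) (W N : AddSubgroup (Mo A))
    (hNW : N ≤ W) (hW2 : ∀ w ∈ W, w + w ∈ N) {m : ℕ} (t : Fin m → X)
    (ht : ∀ i j, (t i)⁻¹ * t j ∈ A → i = j) (hc : ∀ i, ∀ w ∈ W, cj (t i) w - w ∈ N)
    (hsq : ∀ i, t i * t i ∈ sub N) (hcm : ∀ i j, t i * t j * (t i)⁻¹ * (t j)⁻¹ ∈ sub N)
    (hcard : 16 * Nat.card N < m * Nat.card W) : False := by
  classical
  set S : Set X := val '' (W : Set (Mo A)) ∪ Set.range t with hS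
  have hN : sub N ≤ Subgroup.closure S := by
    intro x hx
    obtain ⟨v, hv, rfl⟩ := mem_sub_iff.1 hx
    exact Subgroup.subset_closure (Or.inl ⟨v, hNW hv, rfl⟩)
  have hinvN : ∀ i, ∀ w ∈ W, t i * val w * (t i)⁻¹ * (val w)⁻¹ ∈ sub N := fun i w hw => by
    rw [← val_cj, ← val_sub]; exact mem_sub (hc i w hw)
  have hb := A5OTwo92.section_bound hrk S (sub N) hN (by
      rintro s (⟨w, hw, rfl⟩ | ⟨i, rfl⟩) x hx <;> obtain ⟨v, hv, rfl⟩ := mem_sub_iff.1 hx
      · rw [← val_cj, cj_of_mem (val_mem w)]; exact mem_sub hv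
      · rw [← val_cj]
        have := mem_sub (N.add_mem (hc i v (hNW hv)) hv)
        rwa [sub_add_cancel] at this) (by
      rintro a (⟨v, hv, rfl⟩ | ⟨i, rfl⟩) b (⟨w, hw, rfl⟩ | ⟨j, rfl⟩)
      · rw [← val_cj, cj_of_mem (val_mem v), mul_inv_cancel]; exact one_mem _
      · have := (sub N).inv_mem (hinvN j v hv)
        simpa [mul_assoc] using this
      · exact hinvN i w hw
      · exact hcm i j) (by
      rintro a (⟨v, hv, rfl⟩ | ⟨i, rfl⟩)
      · rw [← val_add]; exact mem_sub (hW2 v hv)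
      · exact hsq i)
  let f : Fin m × W → Subgroup.closure S := fun p => ⟨t p.1 * val (p.2 : Mo A),
    Subgroup.mul_mem _ (Subgroup.subset_closure (Or.inr ⟨p.1, rfl⟩))
      (Subgroup.subset_closure (Or.inl ⟨p.2, p.2.2, rfl⟩))⟩
  have hf : Function.Injective f := by
    rintro ⟨i, v⟩ ⟨j, w⟩ h
    have h' : t i * val (v : Mo A) = t j * val (w : Mo A) := congrArg Subtype.val h
    obtain rfl : i = j := ht i j (by
      rw [show (t i)⁻¹ * t j = val (v : Mo A) * (val (w : Mo A))⁻¹ by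
        rw [eq_mul_inv_iff_mul_eq, mul_assoc, ← h', inv_mul_cancel_left], ← val_sub]
      exact val_mem _)
    rw [mul_right_inj, val_inj, SetLike.coe_eq_coe] at h'
    rw [h']
  have h1 := Nat.card_le_card_of_injective f hf
  rw [Nat.card_prod, Nat.card_fin] at h1
  rw [card_sub] at hb
  omega

/-- The four-group spanned by two elements of order two. -/
def four {M : Type*} [AddCommGroup M] (a b : M) (ha : a + a = 0) (hb : b + b = 0) : AddSubgroup M where
  carrier := {0, a, b, a + b}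
  zero_mem' := Or.inl rfl
  add_mem' := by
    simp only [Set.mem_insert_iff, Set.mem_singleton_iff]
    have e1 : a + (a + b) = b := by rw [← add_assoc, ha, zero_add]
    have e2 : b + (a + b) = a := by rw [add_comm a b, ← add_assoc, hb, zero_add]
    have e3 : a + b + a = b := by rw [add_comm, e1]
    have e4 : a + b + b = a := by rw [add_comm, e2]
    have e5 : a + b + (a + b) = 0 := by rw [← add_assoc, e3, hb]
    intro x y hx hy
    rcases hx with hx | hx | hx | hx <;> rcases hy with hy | hy | hy | hy <;> rw [hx, hy] <;>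
      simp [ha, hb, e1, e2, e3, e4, e5, add_comm b a]
  neg_mem' := by
    simp only [Set.mem_insert_iff, Set.mem_singleton_iff]
    intro x hx
    rcases hx with hx | hx | hx | hx <;> rw [hx] <;>
      simp [neg_eq_of_add_eq_zero_left ha, neg_eq_of_add_eq_zero_left hb, add_comm]

theorem mem_four {M : Type*} [AddCommGroup M] {a b : M} {ha : a + a = 0} {hb : b + b = 0} {x : M} :
    x ∈ four a b ha hb ↔ x = 0 ∨ x = a ∨ x = b ∨ x = a + b := Iff.rfl

theorem card_four {M : Type*} [AddCommGroup M] (a b : M) (ha : a + a = 0) (hb : b + b = 0) :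
    Nat.card (four a b ha hb) ≤ 4 := by
  show Nat.card ({0, a, b, a + b} : Set M) ≤ 4
  rw [Nat.card_coe_set_eq]
  calc _ ≤ Set.ncard ({a, b, a + b} : Set M) + 1 := Set.ncard_insert_le _ _
    _ ≤ (Set.ncard ({b, a + b} : Set M) + 1) + 1 := by grw [Set.ncard_insert_le]
    _ ≤ ((Set.ncard ({a + b} : Set M) + 1) + 1) + 1 := by grw [Set.ncard_insert_le]
    _ = 4 := by rw [Set.ncard_singleton]

/-- Changing representatives preserves independence. -/
theorem IndM.congr {P Z : Subgroup X} (hZn : Z.Normal) (hZP : Z ≤ P) {a b c a' b' c' : X}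
    (h : IndM P Z a b c) (ha : a' * a⁻¹ ∈ Z) (hb : b' * b⁻¹ ∈ Z) (hc : c' * c⁻¹ ∈ Z) :
    IndM P Z a' b' c' := by
  let q := QuotientGroup.mk' Z
  have qa : q a' = q a := by
    rw [eq_comm]; exact (QuotientGroup.eq).2 (by
      have := hZn.conj_mem _ ha a⁻¹; simpa [mul_assoc] using this)
  have qb : q b' = q b := by
    rw [eq_comm]; exact (QuotientGroup.eq).2 (by
      have := hZn.conj_mem _ hb b⁻¹; simpa [mul_assoc] using this)
  have qc : q c' = q c := by
    rw [eq_comm]; exact (QuotientGroup.eq).2 (by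
      have := hZn.conj_mem _ hc c⁻¹; simpa [mul_assoc] using this)
  have k : ∀ {x y : X}, q x = q y → (x ∈ Z ↔ y ∈ Z) := fun {x y} e => by
    rw [← QuotientGroup.eq_one_iff (N := Z) x, ← QuotientGroup.eq_one_iff (N := Z) y]
    exact ⟨fun h => (e.symm.trans h : q y = 1), fun h => (e.trans h : q x = 1)⟩
  have mP : ∀ {x y : X}, x * y⁻¹ ∈ Z → y ∈ P → x ∈ P := fun {x y} e hy => by
    simpa using P.mul_mem (hZP e) hy
  exact ⟨mP ha h.aP, mP hb h.bP, mP hc h.cP, fun e => h.a_ne ((k qa).1 e),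
    fun e => h.b_ne ((k qb).1 e),
    fun e => h.b_ne_a ((k (show q (b' * a'⁻¹) = q (b * a⁻¹) by rw [map_mul, map_mul, map_inv, map_inv, qa, qb])).1 e),
    fun e => h.c_ne ((k qc).1 e),
    fun e => h.c_ne_a ((k (show q (c' * a'⁻¹) = q (c * a⁻¹) by rw [map_mul, map_mul, map_inv, map_inv, qa, qc])).1 e),
    fun e => h.c_ne_b ((k (show q (c' * b'⁻¹) = q (c * b⁻¹) by rw [map_mul, map_mul, map_inv, map_inv, qb, qc])).1 e),
    fun e => h.c_ne_ab ((k (show q (c' * (a' * b')⁻¹) = q (c * (a * b)⁻¹) by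
      rw [map_mul, map_mul, map_inv, map_inv, map_mul, map_mul, qa, qb, qc])).1 e)⟩

/-- An element fixing three independent cosets lies in the kernel. -/
theorem Nat8.faith_gens [Finite X] {P Z : Subgroup X} (S : Nat8 π P Z) {a b c x : X}
    (h : IndM P Z a b c) (ha : x * a * x⁻¹ * a⁻¹ ∈ Z) (hb : x * b * x⁻¹ * b⁻¹ ∈ Z)
    (hc : x * c * x⁻¹ * c⁻¹ ∈ Z) : x ∈ π.ker := by
  haveI := S.nZ
  refine S.faith fun p hp => ?_
  obtain ⟨i, j, k, -, -, -, hz⟩ := S.eight h hp
  let q := QuotientGroup.mk' Z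
  have e : ∀ y : X, x * y * x⁻¹ * y⁻¹ ∈ Z ↔ q x * q y = q y * q x := fun y => by
    rw [← QuotientGroup.eq_one_iff]
    show q (x * y * x⁻¹ * y⁻¹) = 1 ↔ _
    rw [map_mul, map_mul, map_mul, map_inv, map_inv, mul_inv_eq_one, mul_inv_eq_iff_eq_mul]
  rw [e] at ha hb hc ⊢
  have hp' : q p = q a ^ i * q b ^ j * q c ^ k := by
    rw [← map_pow, ← map_pow, ← map_pow, ← map_mul, ← map_mul]
    exact (mul_inv_eq_one).1 (by
      rw [← map_inv, ← map_mul]; exact (QuotientGroup.eq_one_iff _).2 hz)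
  rw [hp']
  exact ((Commute.pow_right ha i).mul_right (Commute.pow_right hb j)).mul_right (Commute.pow_right hc k)

section Cyclic

variable [Finite X] {E Rs : Subgroup X} (hrk : Cfsg.SectionalPRankLE 2 4 X)
  (S : Nat8 π E Rs) (hEA : E ≤ A) (hA : Nat.card A = 32)
  (hE2 : ∀ e ∈ E, e * e = 1) {s : X} (hs : s ∈ A) (hsE : s ∉ E) (hss : ∀ x, x * s = s * x)
  (hρ : s * s ≠ 1) (hRs : ∀ z, z ∈ Rs ↔ z = 1 ∨ z = s * s) (hgen : ∀ a ∈ A, a ∈ E ∨ a * s⁻¹ ∈ E)
  (hu : ∀ x g, π x ^ 4 = 1 → x * g * x * g⁻¹ ∈ π.ker → x ^ 4 ∈ A)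
  (hq : ∀ q ∈ π.ker, q * q ∈ A ∧ ∀ x, x * q * x⁻¹ * q⁻¹ ∈ A)
include hrk S hEA hA hE2 hs hsE hss hρ hRs hgen hu hq

set_option maxHeartbeats 1600000 in
/-- The case of a cyclic group of order 4 as squares. -/
theorem no_cyclic : False := by
  classical
  haveI := S.nP
  obtain ⟨p, hp, hpR⟩ : ∃ p ∈ E, p ∉ Rs := by
    obtain ⟨x, p, hp, hxp⟩ := S.nt
    exact ⟨p, hp, fun h => hxp (Rs.mul_mem (S.nZ.conj_mem p h x) (Rs.inv_mem h))⟩
  obtain ⟨b0, c0, hI⟩ := S.exists_ind hp hpR
  obtain ⟨r, hr1, hr2, hr3⟩ := S.realise hI (S.shear hI)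
  obtain ⟨w, hw1, hw2, hw3⟩ := S.realise hI (S.swap hI)
  obtain ⟨w2, hz1, hz2, hz3⟩ := S.realise hI (S.add hI)
  set e1 := mo p (hEA hp)
  set e2 := mo b0 (hEA hI.bP)
  set e3 := mo c0 (hEA hI.cP)
  set ρ := mo (s * s) (A.mul_mem hs hs)
  set σ := mo s hs
  let Rm : AddSubgroup (Mo A) :=
    { carrier := {v | val v ∈ Rs}
      zero_mem' := Rs.one_mem
      add_mem' := fun hv hw => Rs.mul_mem hv hw
      neg_mem' := fun hv => Rs.inv_mem hv }
  have hρR : ρ ∈ Rm := show s * s ∈ Rs from (hRs _).2 (Or.inr rfl)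
  have hRm : ∀ z ∈ Rm, z = 0 ∨ z = ρ := fun z hz => ((hRs (val z)).1 hz).imp
    (fun e => val_inj.1 e) (fun e => val_inj.1 e)
  have hσ : ∀ x, cj x σ = σ := fun x => val_inj.1 (show x * s * x⁻¹ = s by rw [hss, mul_inv_cancel_right])
  have hρσ : ρ = σ + σ := rfl
  have hρ' : ∀ x, cj x ρ = ρ := fun x => by rw [hρσ, map_add, hσ]
  have hρ0 : ρ + ρ = 0 := val_inj.1 (show s * s * (s * s) = 1 from
    hE2 _ (S.le ((hRs _).2 (Or.inr rfl))))
  have hfixR : ∀ x, ∀ z ∈ Rm, cj x z = z := fun x z hz => by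
    rcases hRm z hz with h | h <;> simp [h, hρ']
  have hdE : ∀ v : Mo A, val v ∈ E → v + v = 0 := fun v hv => val_inj.1 (hE2 _ hv)
  let q := QuotientAddGroup.mk' Rm
  have qeq : ∀ {v v' : Mo A}, q v = q v' ↔ v - v' ∈ Rm := fun {v v'} => QuotientAddGroup.eq_iff_sub_mem
  have qcj : ∀ x {v v' : Mo A}, q v = q v' → q (cj x v) = q (cj x v') := fun x {v v'} h => by
    rw [qeq] at h ⊢
    rw [← map_sub, hfixR x _ h]; exact h
  have mk : ∀ {v v' : Mo A}, val v * (val v')⁻¹ ∈ Rs → q v = q v' := fun h => qeq.2 (by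
    show val _ ∈ Rs
    rw [val_sub]; exact h)
  have φ1 : q (cj r e1) = q e1 := mk hr1
  have φ2 : q (cj r e2) = q (e2 + e1) := mk hr2
  have φ3 : q (cj r e3) = q (e3 + e2) := mk hr3
  have w1 : q (cj w e1) = q e1 := mk hw1
  have w2' : q (cj w e2) = q e3 := mk hw2
  have w3 : q (cj w e3) = q e2 := mk hw3
  have z1 : q (cj w2 e1) = q (e1 + e2) := mk hz1
  have z2 : q (cj w2 e2) = q e2 := mk hz2
  have z3 : q (cj w2 e3) = q e3 := mk hz3
  have d1 : e1 + e1 = 0 := hdE _ hp
  have d2 : e2 + e2 = 0 := hdE _ hI.bP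
  have d3 : e3 + e3 = 0 := hdE _ hI.cP
  have he1 : e1 ∉ Rm := hI.a_ne
  have inv' : ∀ (x : X) {v v' : Mo A}, q (cj x v) = q v' → q (cj x⁻¹ v') = q v := fun x {v v'} h => by
    rw [← qcj x⁻¹ h, ← cj_cj, inv_mul_cancel, cj_of_mem A.one_mem]
  have kill : ∀ {x : X}, q (cj x e1) = q e1 → q (cj x e2) = q e2 → q (cj x e3) = q e3 → x ∈ π.ker := by
    intro x h1 h2 h3
    have cv : ∀ (v : Mo A), q (cj x v) = q v → x * val v * x⁻¹ * (val v)⁻¹ ∈ Rs := fun v hv => by
      rw [← val_cj, ← val_sub]; exact qeq.1 hv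
    exact Nat8.faith_gens S hI (cv _ h1) (cv _ h2) (cv _ h3)
  -- squares of `r`
  have f1 : q (cj (r * r) e1) = q e1 := by rw [cj_cj, qcj r φ1, φ1]
  have f2 : q (cj (r * r) e2) = q e2 := by
    rw [cj_cj, qcj r φ2, map_add, map_add, φ2, φ1, ← map_add, add_assoc, d1, add_zero]
  have f3 : q (cj (r * r) e3) = q (e3 + e1) := by
    rw [cj_cj, qcj r φ3, map_add, map_add, φ3, φ2, ← map_add,
      show e3 + e2 + (e2 + e1) = e3 + (e2 + e2) + e1 by abel, d2, add_zero]
  have hr4 : r * r * (r * r) ∈ π.ker := kill (by rw [cj_cj, qcj _ f1, f1])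
    (by rw [cj_cj, qcj _ f2, f2])
    (by rw [cj_cj, qcj _ f3, map_add, map_add, f3, f1, ← map_add, add_assoc, d1, add_zero])
  have hr2n : π r ^ 2 ≠ 1 := fun h => by
    have hk : r * r ∈ π.ker := by rw [MonoidHom.mem_ker, map_mul, ← pow_two, h]
    have := S.triv _ hk c0 hI.cP
    have h' : q (cj (r * r) e3) = q e3 := mk this
    rw [f3, qeq, add_sub_cancel_left] at h'
    exact he1 h'
  set g := w * (r * r) * w⁻¹ with hg
  have g1 : q (cj g e1) = q e1 := by
    rw [hg, cj_cj, qcj _ (inv' w w1), cj_cj, qcj _ f1, w1]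
  have g2 : q (cj g e2) = q (e2 + e1) := by
    rw [hg, cj_cj, qcj _ (inv' w w3), cj_cj, qcj _ f3, map_add, map_add, w3, w1, ← map_add]
  have g3 : q (cj g e3) = q e3 := by
    rw [hg, cj_cj, qcj _ (inv' w w2'), cj_cj, qcj _ f2, w2']
  have fe1 : cj (r * r) e1 = e1 := by
    have h := hfixR r _ (qeq.1 φ1)
    rw [map_sub] at h
    rw [cj_cj]
    rcases hRm _ (qeq.1 φ1) with e | e
    · rw [sub_eq_zero.1 e, sub_eq_zero.1 e]
    · rw [sub_eq_iff_eq_add.1 e, map_add, hρ', sub_eq_iff_eq_add.1 e, ← add_assoc, hρ0, zero_add]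
  have ge1 : cj g e1 = e1 := by
    have hz := qeq.1 (inv' w w1)
    set z := cj w⁻¹ e1 - e1 with hzd
    have e : cj w⁻¹ e1 = e1 + z := by rw [hzd, add_sub_cancel]
    rw [hg, cj_cj, cj_cj, e, map_add, fe1, hfixR _ z hz, ← e, ← cj_cj, mul_inv_cancel,
      cj_of_mem A.one_mem]
  -- the relation between `r` and `g`
  set ζ := r * g * r * g⁻¹ with hζ
  have gi2 : q (cj g⁻¹ e2) = q (e2 + e1) := by
    refine inv' g ?_
    rw [map_add, map_add, g2, g1, ← map_add, add_assoc, d1, add_zero]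
  have hζk : ζ ∈ π.ker := by
    refine kill ?_ ?_ ?_
    · rw [hζ, cj_cj, cj_cj, cj_cj, qcj _ (qcj _ (qcj _ (inv' g g1))), qcj _ (qcj _ φ1), qcj _ g1, φ1]
    · rw [hζ, cj_cj, cj_cj, cj_cj, qcj _ (qcj _ (qcj _ gi2))]
      have h1 : q (cj r (e2 + e1)) = q e2 := by
        rw [map_add, map_add, φ2, φ1, ← map_add, add_assoc, d1, add_zero]
      rw [qcj _ (qcj _ h1), qcj _ g2, h1]
    · rw [hζ, cj_cj, cj_cj, cj_cj, qcj _ (qcj _ (qcj _ (inv' g g3))), qcj _ (qcj _ φ3)]
      have h1 : q (cj g (e3 + e2)) = q (e3 + (e2 + e1)) := by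
        rw [map_add, map_add, g3, g2, ← map_add]
      rw [qcj _ h1, map_add, map_add, map_add, map_add, φ3, φ2, φ1, ← map_add, ← map_add,
        show e3 + e2 + (e2 + e1 + e1) = e3 + (e2 + e2) + (e1 + e1) by abel, d2, d1, add_zero, add_zero]
  have huA : r * r * (r * r) ∈ A := by
    have e4 : r ^ 4 = r * r * (r * r) := by simp only [pow_succ, pow_zero, one_mul, mul_assoc]
    rw [← e4]
    exact hu r g (by rw [← map_pow, e4]; exact hr4) hζk
  have hgg : g * g = w * (r * r * (r * r)) * w⁻¹ := by rw [hg]; group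
  have hvA : g * g ∈ A := by rw [hgg]; exact (inferInstance : A.Normal).conj_mem _ huA w
  have hgr : g * r * (g * r) ∈ A := by
    set y := w2 * (r * r) * w2⁻¹ with hy
    have i1 : q (cj w2⁻¹ e1) = q (e1 + e2) := by
      refine inv' w2 ?_
      rw [map_add, map_add, z1, z2, ← map_add, add_assoc, d2, add_zero]
    have y1 : q (cj y e1) = q e1 := by
      rw [hy, cj_cj, qcj _ i1, cj_cj]
      have : q (cj (r * r) (e1 + e2)) = q (e1 + e2) := by rw [map_add, map_add, f1, f2, ← map_add]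
      rw [qcj _ this, map_add, map_add, z1, z2, ← map_add, add_assoc, d2, add_zero]
    have y2 : q (cj y e2) = q e2 := by
      rw [hy, cj_cj, qcj _ (inv' w2 z2), cj_cj, qcj _ f2, z2]
    have y3 : q (cj y e3) = q (e3 + (e2 + e1)) := by
      rw [hy, cj_cj, qcj _ (inv' w2 z3), cj_cj, qcj _ f3, map_add, map_add, z3, z1, ← map_add,
        add_comm e1 e2]
    have hk : (g * r) * y⁻¹ ∈ π.ker := by
      have k : ∀ {v : Mo A}, q (cj (g * r) v) = q (cj y v) → q (cj (y⁻¹ * (g * r)) v) = q v := by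
        intro v h
        rw [cj_cj, qcj _ h, ← cj_cj, inv_mul_cancel, cj_of_mem A.one_mem]
      have h' : y⁻¹ * (g * r) ∈ π.ker := kill
        (k (by rw [cj_cj, qcj _ φ1, g1, y1]))
        (k (by rw [cj_cj, qcj _ φ2, map_add, map_add, g2, g1, ← map_add, add_assoc, d1, add_zero, y2]))
        (k (by rw [cj_cj, qcj _ φ3, map_add, map_add, g3, g2, ← map_add, y3]))
      simpa [mul_assoc] using (inferInstance : π.ker.Normal).conj_mem _ h' y
    set k := g * r * y⁻¹ with hkd
    obtain ⟨hk2, hkc⟩ := hq k hk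
    have e : g * r * (g * r) =
        (k * (y * k * y⁻¹ * k⁻¹) * k⁻¹) * (k * k) * (w2 * (r * r * (r * r)) * w2⁻¹) := by
      have e1 : w2 * (r * r * (r * r)) * w2⁻¹ = y * y := by rw [hy]; group
      rw [e1, show g * r = k * y by rw [hkd, inv_mul_cancel_right]]; group
    rw [e]
    exact A.mul_mem (A.mul_mem ((inferInstance : A.Normal).conj_mem _ (hkc y) k) hk2)
      ((inferInstance : A.Normal).conj_mem _ huA w2)
  have hgrg : g * r * g⁻¹ = r⁻¹ * ζ := by rw [hζ]; group
  have hζA : ζ ∈ A := by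
    have e : ζ = r * (g * r * (g * r)) * r⁻¹ * (g * g)⁻¹ * ((g * g) * 1 * (g * g)⁻¹) := by
      rw [hζ]; group
    rw [e]
    exact A.mul_mem (A.mul_mem ((inferInstance : A.Normal).conj_mem _ hgr r) (A.inv_mem hvA))
      (by rw [mul_one, mul_inv_cancel]; exact A.one_mem)
  set u := mo _ huA with hud
  set v := mo _ hvA with hvd
  set z := mo ζ hζA with hzd
  have hvu : v = cj w u := val_inj.1 hgg
  have hφu : cj r u = u := val_inj.1 (show r * (r * r * (r * r)) * r⁻¹ = r * r * (r * r) by group)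
  -- normal form of elements
  have form : ∀ t : Mo A, ∃ (i j k l : ℕ), i < 2 ∧ j < 2 ∧ k < 2 ∧ l < 2 ∧
      q t = q (i • e1 + j • e2 + k • e3 + l • σ) := by
    intro t
    have base : ∀ t : Mo A, val t ∈ E → ∃ (i j k : ℕ), i < 2 ∧ j < 2 ∧ k < 2 ∧
        q t = q (i • e1 + j • e2 + k • e3) := by
      intro t ht
      obtain ⟨i, j, k, hi, hj, hk, hm⟩ := S.eight hI ht
      exact ⟨i, j, k, hi, hj, hk, mk hm⟩
    rcases hgen _ (val_mem t) with h | h
    · obtain ⟨i, j, k, hi, hj, hk, h⟩ := base t h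
      exact ⟨i, j, k, 0, hi, hj, hk, by norm_num, by simpa using h⟩
    · obtain ⟨i, j, k, hi, hj, hk, h⟩ := base (t - σ) (by rw [val_sub]; exact h)
      refine ⟨i, j, k, 1, hi, hj, hk, by norm_num, ?_⟩
      rw [map_sub, sub_eq_iff_eq_add] at h
      rw [h, one_smul, ← map_add]
  -- the subgroup generated by `e1` and the fixed involution
  let N := four e1 ρ d1 hρ0
  have hN : ∀ t : Mo A, t ∈ N ↔ q t = 0 ∨ q t = q e1 := by
    intro t
    rw [mem_four]
    have q0 : q t = 0 ↔ t ∈ Rm := by rw [← map_zero q, qeq, sub_zero]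
    constructor
    · rintro (h | h | h | h)
      · exact Or.inl (by rw [h, map_zero])
      · exact Or.inr (by rw [h])
      · exact Or.inl (q0.2 (h ▸ hρR))
      · exact Or.inr (qeq.2 (by rw [h, add_sub_cancel_left]; exact hρR))
    · rintro (h | h)
      · rcases hRm t (q0.1 h) with h | h
        · exact Or.inl h
        · exact Or.inr (Or.inr (Or.inl h))
      · rcases hRm _ (qeq.1 h) with h | h
        · exact Or.inr (Or.inl (sub_eq_zero.1 h))
        · exact Or.inr (Or.inr (Or.inr (by rw [sub_eq_iff_eq_add.1 h, add_comm])))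
  have ne2 : q e2 ≠ 0 := fun h => hI.b_ne (by
    have := qeq.1 (h.trans (map_zero q).symm); rwa [sub_zero] at this)
  have ne1 : q e1 ≠ 0 := fun h => he1 (by
    have := qeq.1 (h.trans (map_zero q).symm); rwa [sub_zero] at this)
  have ne12 : q (e2 + e1) ≠ 0 := fun h => hI.b_ne_a (by
    have h' := qeq.1 (h.trans (map_zero q).symm)
    rw [sub_zero] at h'
    show val e2 * (val e1)⁻¹ ∈ Rs
    rw [← val_sub, sub_eq_add_neg, neg_eq_of_add_eq_zero_left d1]
    exact h')
  have qσ : q σ + q σ = 0 := by rw [← map_add, ← hρσ, ← map_zero q, qeq, sub_zero]; exact hρR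
  have qd1 : q e1 + q e1 = 0 := by rw [← map_add, d1, map_zero]
  have qd2 : q e2 + q e2 = 0 := by rw [← map_add, d2, map_zero]
  have qd3 : q e3 + q e3 = 0 := by rw [← map_add, d3, map_zero]
  -- the fixed part of `u`
  obtain ⟨l, e, hl, heN, hue⟩ : ∃ (l : ℕ) (e : Mo A), l < 2 ∧ e ∈ N ∧ u = l • σ + e := by
    obtain ⟨i, j, k, l, hi, hj, hk, hl, hu'⟩ := form u
    have h : q (cj r (i • e1 + j • e2 + k • e3 + l • σ)) = q (i • e1 + j • e2 + k • e3 + l • σ) := by
      rw [← qcj r hu', hφu, hu']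
    simp only [map_add, map_nsmul, φ1, φ2, φ3, hσ, nsmul_add] at h
    have h' : j • q e1 + k • q e2 = 0 := by
      have h0 := sub_eq_zero.2 h
      rw [← h0]; abel
    have hjk : j = 0 ∧ k = 0 := by
      interval_cases j <;> interval_cases k <;> simp at h' ⊢
      · exact ne2 h'
      · exact ne1 h'
      · exact ne12 (by rw [map_add, add_comm]; exact h')
    refine ⟨l, u - l • σ, hl, (hN _).2 ?_, by abel⟩
    obtain ⟨rfl, rfl⟩ := hjk
    simp only [zero_smul, add_zero] at hu'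
    rw [map_sub, hu', map_add, add_sub_cancel_right]
    interval_cases i <;> simp
  have hwe : ∀ x, q (cj x e1) = q e1 → ∀ t ∈ N, cj x t ∈ N := fun x hx t ht => by
    have zero : ∀ y : Mo A, q y = 0 → q (cj x y) = 0 := fun y hy => by
      rw [qcj x (hy.trans (map_zero q).symm), map_zero, map_zero]
    exact (hN _).2 (((hN t).1 ht).imp (zero t) fun h => by rw [qcj x h, hx])
  have hv : v = l • σ + cj w e := by rw [hvu, hue, map_add, map_nsmul, hσ]
  have hφN : ∀ t ∈ N, q (cj r t) = q t := fun t ht => by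
    rcases (hN t).1 ht with h | h
    · rw [h, qcj r (h.trans (map_zero q).symm), map_zero, map_zero]
    · rw [qcj r h, φ1, h]
  -- the second relation kills the last coordinate of `z`
  have e2eq : v - cj r v + (-cj r (cj g z) + z) = 0 := by
    refine val_inj.1 ?_
    simp only [val_add, val_sub, val_neg, val_cj, val_zero]
    show g * g * (r * (g * g) * r⁻¹)⁻¹ * ((r * (g * ζ * g⁻¹) * r⁻¹)⁻¹ * ζ) = 1
    rw [hζ]; group
  have hzN : ∃ (m : ℕ) (t : Mo A), cj r t + t ∈ N ∧ z = m • σ + t := by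
    obtain ⟨i, j, k, m, hi, hj, hk, hm, hz'⟩ := form z
    have hk0 : k = 0 := by
      have h := congrArg q e2eq
      have hv' : q (cj r v) = q v := by
        rw [hv, map_add (cj r), map_add, map_add, map_nsmul, hσ, hφN _ (hwe w w1 e heN)]
      rw [map_add, map_sub, hv', sub_self, zero_add, map_add, map_neg, hz', qcj r (qcj g hz')] at h
      have hh : q (cj r (cj g (i • e1 + j • e2 + k • e3 + m • σ))) =
          i • q e1 + j • q e2 + k • (q e3 + q e2) + m • q σ := by
        have a1 : q (cj r (cj g e1)) = q e1 := by rw [qcj r g1, φ1]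
        have a2 : q (cj r (cj g e2)) = q e2 := by
          rw [qcj r g2, map_add, map_add, φ2, φ1, map_add, add_assoc, qd1, add_zero]
        have a3 : q (cj r (cj g e3)) = q e3 + q e2 := by rw [qcj r g3, φ3, map_add]
        simp only [map_add, map_nsmul, hσ, a1, a2, a3]
      rw [hh, map_add, map_add, map_add, map_nsmul, map_nsmul, map_nsmul, map_nsmul, map_zero] at h
      have h' : k • q e2 = 0 := by
        rw [← neg_eq_zero, ← h]; simp only [nsmul_add]; abel
      interval_cases k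
      · rfl
      · rw [one_smul] at h'; exact absurd h' ne2
    subst hk0
    simp only [zero_smul, add_zero] at hz'
    have hcong : q (z - m • σ) = q (i • e1 + j • e2) := by
      rw [map_sub, hz', ← map_sub, add_sub_cancel_right]
    refine ⟨m, z - m • σ, (hN _).2 ?_, (add_sub_cancel (m • σ) z).symm⟩
    rw [map_add, qcj r hcong, hcong]
    simp only [map_add, map_nsmul, φ1, φ2]
    interval_cases i <;> interval_cases j
    · left; simp
    · right; simp only [one_nsmul, zero_nsmul, zero_add, map_add]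
      rw [show q e2 + q e1 + q e2 = q e2 + q e2 + q e1 by abel, qd2, zero_add]
    · left; simp only [one_nsmul, zero_nsmul, add_zero, qd1]
    · right; simp only [one_nsmul, map_add]
      rw [show q e1 + (q e2 + q e1) + (q e1 + q e2) = (q e2 + q e2) + (q e1 + q e1) + q e1 by abel,
        qd1, qd2, zero_add, zero_add]
  obtain ⟨m, t, htN', hzt⟩ := hzN
  -- the first relation kills the cyclic part of `u`
  have e1eq : cj g u + u = cj r (cj r (cj r z)) + cj r (cj r z) + cj r z + z := by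
    refine val_inj.1 ?_
    simp only [val_add, val_cj]
    show g * (r * r * (r * r)) * g⁻¹ * (r * r * (r * r)) = _
    have e : g * (r * r * (r * r)) * g⁻¹ = (g * r * g⁻¹) * (g * r * g⁻¹) * ((g * r * g⁻¹) * (g * r * g⁻¹)) := by
      group
    rw [e, hgrg]
    show _ = r * (r * (r * ζ * r⁻¹) * r⁻¹) * r⁻¹ * (r * (r * ζ * r⁻¹) * r⁻¹) * (r * ζ * r⁻¹) * ζ
    set uu := r * r * (r * r)
    have hc : r⁻¹ * ζ * (r⁻¹ * ζ) * (r⁻¹ * ζ * (r⁻¹ * ζ)) =
        uu⁻¹ * (r * (r * (r * ζ * r⁻¹) * r⁻¹) * r⁻¹ * (r * (r * ζ * r⁻¹) * r⁻¹) * (r * ζ * r⁻¹) * ζ) := by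
      show _ = (r * r * (r * r))⁻¹ * _
      group
    rw [hc]
    set K := r * (r * (r * ζ * r⁻¹) * r⁻¹) * r⁻¹ * (r * (r * ζ * r⁻¹) * r⁻¹) * (r * ζ * r⁻¹) * ζ
    have hK : K ∈ A := by
      have n := (inferInstance : A.Normal).conj_mem
      exact A.mul_mem (A.mul_mem (A.mul_mem (n _ (n _ (n _ hζA r) r) r) (n _ (n _ hζA r) r)) (n _ hζA r)) hζA
    have := congrArg Subtype.val (mul_comm' (⟨K, hK⟩ : A) ⟨uu, huA⟩)
    change K * uu = uu * K at this
    rw [mul_assoc, this, inv_mul_cancel_left]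
  have hl0 : l = 0 := by
    have he : cj g e + e = 0 := by
      rcases mem_four.1 heN with h | h | h | h <;>
        simp [h, ge1, hρ', d1, hρ0] <;> rw [add_add_add_comm, d1, hρ0, add_zero]
    have hσ4 : σ + σ + (σ + σ) = 0 := by rw [← hρσ]; exact hρ0
    have hr : cj r (cj r (cj r z)) + cj r (cj r z) + cj r z + z =
        cj r (cj r (cj r t)) + cj r (cj r t) + cj r t + t := by
      rw [hzt]
      simp only [map_add, map_nsmul, hσ]
      rw [show m • σ + cj r (cj r (cj r t)) + (m • σ + cj r (cj r t)) + (m • σ + cj r t) + (m • σ + t) =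
        m • (σ + σ + (σ + σ)) + (cj r (cj r (cj r t)) + cj r (cj r t) + cj r t + t) by
        simp only [nsmul_add]; abel, hσ4, smul_zero, zero_add]
    have h := e1eq
    rw [hr, hue, map_add, map_nsmul, hσ,
      show l • σ + cj g e + (l • σ + e) = l • (σ + σ) + (cj g e + e) by rw [nsmul_add]; abel, he,
      add_zero] at h
    interval_cases l
    · rfl
    · exfalso
      rw [one_smul] at h
      have hs' : cj (r * r) (cj r t + t) = cj r t + t := by
        rcases mem_four.1 htN' with h' | h' | h' | h' <;> simp [h', fe1, hρ']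
      have hs2 : cj r t + t + (cj r t + t) = 0 := by
        rcases mem_four.1 htN' with h' | h' | h' | h' <;>
          simp [h', d1, hρ0] <;> rw [add_add_add_comm, d1, hρ0, add_zero]
      have h4 : cj r (cj r (cj r t)) + cj r (cj r t) + cj r t + t = 0 := by
        rw [map_add, cj_cj, cj_cj] at hs'
        rw [← hs2]
        conv_rhs => arg 1; rw [← hs']
        abel
      rw [h4, ← hρσ] at h
      exact hρ (congrArg val h)
  subst hl0
  simp only [zero_smul, zero_add] at hue hv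
  subst hue
  have huN : u ∈ N := heN
  have hvN : v ∈ N := hv ▸ hwe w w1 u huN
  -- the commutator of `g` and the square of `r`
  have hz2 : cj r z + z ∈ N := by
    rw [hzt, map_add, map_nsmul, hσ, show m • σ + cj r t + (m • σ + t) = m • (σ + σ) + (cj r t + t) by
      rw [nsmul_add]; abel]
    exact N.add_mem (N.nsmul_mem (mem_four.2 (Or.inr (Or.inr (Or.inl rfl)))) m) htN'
  have hgf : g * (r * r) * g⁻¹ * (r * r)⁻¹ ∈ sub N := by
    refine mem_sub_iff.2 ⟨-u + cj (r * r) (cj r z + z), N.add_mem (N.neg_mem huN)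
      (hwe _ f1 _ hz2), ?_⟩
    simp only [val_add, val_neg, val_cj]
    show (r * r * (r * r))⁻¹ * (r * r * (r * ζ * r⁻¹ * ζ) * (r * r)⁻¹) = _
    rw [show g * (r * r) * g⁻¹ = g * r * g⁻¹ * (g * r * g⁻¹) by group, hgrg]
    group
  let W : AddSubgroup (Mo A) := ⊤
  have hcW : ∀ x, x = 1 ∨ x = r * r ∨ x = g → ∀ y : Mo A, q (cj x y - y) = 0 ∨ q (cj x y - y) = q e1 := by
    intro x hx y
    obtain ⟨i, j, k, l, hi, hj, hk, hl, hy⟩ := form y
    rw [map_sub, qcj x hy, hy, ← map_sub]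
    rcases hx with rfl | rfl | rfl
    · left; rw [cj_of_mem A.one_mem, sub_self, map_zero]
    · simp only [map_add, map_sub, map_nsmul, f1, f2, f3, hσ, nsmul_add]
      interval_cases k
      · left; simp
      · right; simp only [one_smul]; abel
    · simp only [map_add, map_sub, map_nsmul, g1, g2, g3, hσ, nsmul_add]
      interval_cases j
      · left; simp
      · right; simp only [one_smul]; abel
  let T : Fin 3 → X := ![1, r * r, g]
  have hTx : ∀ i, T i = 1 ∨ T i = r * r ∨ T i = g := by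
    intro i; fin_cases i <;> simp [T]
  have nf : ∀ {x : X}, x ∈ A → q (cj x e3) = q e3 ∧ q (cj x e2) = q e2 := fun hx => by
    rw [cj_of_mem hx, cj_of_mem hx]; exact ⟨rfl, rfl⟩
  have hr2A : r * r ∉ A := fun h => ne1 (by
    have := (nf h).1; rw [f3, map_add, add_eq_left] at this; exact this)
  have hgA : g ∉ A := fun h => ne1 (by
    have := (nf h).2; rw [g2, map_add, add_eq_left] at this; exact this)
  have hrgA : (r * r)⁻¹ * g ∉ A := fun h => ne1 (by
    have := qcj (r * r) (nf h).1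
    rw [← cj_cj, mul_inv_cancel_left, g3, f3, map_add, left_eq_add] at this
    exact this)
  have hNc : Nat.card N ≤ 4 := card_four _ _ _ _
  refine section_contra hrk W N le_top (fun y _ => ?_) T ?_ (fun i y _ => (hN _).2 (hcW _ (hTx i) y))
    ?_ ?_ ?_
  · obtain ⟨i, j, k, l, hi, hj, hk, hl, hy⟩ := form y
    refine (hN _).2 (Or.inl ?_)
    rw [map_add, hy]
    simp only [map_add, map_nsmul]
    rw [show ∀ a b c d : Mo A ⧸ Rm, i • a + j • b + k • c + l • d + (i • a + j • b + k • c + l • d) =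
      i • (a + a) + j • (b + b) + k • (c + c) + l • (d + d) by intros; simp only [nsmul_add]; abel,
      qd1, qd2, qd3, qσ]
    simp
  · intro i j hij
    fin_cases i <;> fin_cases j <;> simp [T] at hij ⊢
    · exact hr2A hij
    · exact hgA hij
    · exact hr2A (by simpa using A.inv_mem hij)
    · exact hrgA (by simpa using hij)
    · exact hgA (by simpa using A.inv_mem hij)
    · exact hrgA (by simpa [mul_assoc] using A.inv_mem hij)
  · intro i
    fin_cases i
    · simp [T]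
    · exact mem_sub huN
    · exact mem_sub hvN
  · have hself : ∀ i, T i * T i * (T i)⁻¹ * (T i)⁻¹ ∈ sub N := fun i => by
      rw [show T i * T i * (T i)⁻¹ * (T i)⁻¹ = 1 by group]; exact one_mem _
    have hfg : r * r * g * (r * r)⁻¹ * g⁻¹ ∈ sub N := by
      have := (sub N).inv_mem hgf
      simpa [mul_assoc] using this
    intro i j
    fin_cases i <;> fin_cases j
    all_goals first
      | exact hgf
      | exact hfg
      | exact hself _
      | simp [T]
  · have hW : Nat.card W = 32 := by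
      rw [AddSubgroup.card_top]; exact hA
    rw [hW]; omega

end Cyclic

/-- An abelian normal subgroup of exponent four whose quotient by its elements of order at most
two is a natural section. -/
structure Four (π : X →* L) (A F : Subgroup X) : Prop where
  nat : Nat8 π A F
  hF : ∀ a, a ∈ F ↔ a ∈ A ∧ a * a = 1
  h4 : ∀ a ∈ A, a * a * (a * a) = 1

section Four

variable [Finite X] {F : Subgroup X}

/-- The elements of order at most two. -/
def fm (A F : Subgroup X) [IsMulCommutative A] : AddSubgroup (Mo A) where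
  carrier := {v | val v ∈ F}
  zero_mem' := F.one_mem
  add_mem' := fun hv hw => F.mul_mem hv hw
  neg_mem' := fun hv => F.inv_mem hv

theorem Four.four_zero (D : Four π A F) (v : Mo A) : v + v + (v + v) = 0 :=
  val_inj.1 (D.h4 _ (val_mem v))

theorem Four.mem_fm (D : Four π A F) (v : Mo A) : v ∈ fm A F ↔ v + v = 0 :=
  ⟨fun h => val_inj.1 ((D.hF _).1 h).2, fun h => (D.hF _).2 ⟨val_mem v, congrArg val h⟩⟩

theorem Four.two_mem (D : Four π A F) (v : Mo A) : v + v ∈ fm A F :=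
  (D.mem_fm _).2 (D.four_zero v)

theorem Four.cj_fm (D : Four π A F) (x : X) {v : Mo A} (h : v ∈ fm A F) : cj x v ∈ fm A F :=
  D.nat.nZ.conj_mem _ h x

theorem qcj' (D : Four π A F) (x : X) {v v' : Mo A} (h : v - v' ∈ fm A F) :
    cj x v - cj x v' ∈ fm A F := by
  rw [← map_sub]; exact D.cj_fm x h

/-- A chain of vectors for an element of order four. -/
structure Chain (A F : Subgroup X) [A.Normal] [IsMulCommutative A] (r : X) (v1 v2 v3 : Mo A) : Prop where
  ind : IndM A F (val v1) (val v2) (val v3)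
  e3 : cj r v3 = v3 + v2
  e2 : cj r v2 = v2 + v1
  om : cj r v1 - v1 ∈ fm A F

/-- The element of order four together with a chain of vectors. -/
structure RData (A F : Subgroup X) [A.Normal] [IsMulCommutative A] (r : X) (v1 v2 v3 : Mo A) : Prop
    extends Chain A F r v1 v2 v3 where
  u : r * r * (r * r) ∈ A
  out : r * r ∉ A

theorem Four.exists_chain (D : Four π A F) :
    ∃ (r : X) (v1 v2 v3 : Mo A), Chain A F r v1 v2 v3 := by
  obtain ⟨x, p, hp, hxp⟩ := D.nat.nt
  have hpF : p ∉ F := fun h => hxp (F.mul_mem (D.nat.nZ.conj_mem p h x) (F.inv_mem h))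
  obtain ⟨b0, c0, hI⟩ := D.nat.exists_ind hp hpF
  obtain ⟨r, hr1, hr2, hr3⟩ := D.nat.realise hI (D.nat.shear hI)
  set e1 := mo p hp
  set e2 := mo b0 hI.bP
  set v3 := mo c0 hI.cP with hv3
  have mk : ∀ {v v' : Mo A}, val v * (val v')⁻¹ ∈ F → v - v' ∈ fm A F := fun {v v'} h => by
    show val (v - v') ∈ F; rw [val_sub]; exact h
  have k1 : cj r e1 - e1 ∈ fm A F := mk hr1
  have k2 : cj r e2 - (e2 + e1) ∈ fm A F := mk hr2
  have k3 : cj r v3 - (v3 + e2) ∈ fm A F := mk hr3
  set v2 := cj r v3 - v3 with hv2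
  set v1 := cj r v2 - v2 with hv1
  have d2 : v2 - e2 ∈ fm A F := by rw [hv2, show cj r v3 - v3 - e2 = cj r v3 - (v3 + e2) by abel]; exact k3
  have d1 : v1 - e1 ∈ fm A F := by
    rw [hv1, show cj r v2 - v2 - e1 = (cj r v2 - cj r e2) + (cj r e2 - (e2 + e1)) - (v2 - e2) by abel]
    exact (fm A F).sub_mem ((fm A F).add_mem (qcj' D r d2) k2) d2
  have dd : ∀ {v v' : Mo A}, v - v' ∈ fm A F → val v * (val v')⁻¹ ∈ F := fun {v v'} h => by
    rw [← val_sub]; exact h
  have hI' : IndM A F (val v1) (val v2) (val v3) :=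
    IndM.congr D.nat.nZ D.nat.le hI (dd d1) (dd d2) (by rw [hv3, val_mo, mul_inv_cancel]; exact F.one_mem)
  have hom : cj r v1 - v1 ∈ fm A F := by
    rw [show cj r v1 - v1 = (cj r v1 - cj r e1) + (cj r e1 - e1) - (v1 - e1) by abel]
    exact (fm A F).sub_mem ((fm A F).add_mem (qcj' D r d1) k1) d1
  exact ⟨r, v1, v2, v3, hI', by rw [hv2, add_sub_cancel], by rw [hv1, add_sub_cancel], hom⟩

theorem Four.exists_rdata (D : Four π A F) (hA : A ≤ π.ker)
    (hu : ∀ x, π x ^ 4 = 1 → π x ^ 2 ≠ 1 → x ^ 4 ∈ A) :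
    ∃ (r : X) (v1 v2 v3 : Mo A), RData A F r v1 v2 v3 ∧ π r ^ 4 = 1 ∧ π r ^ 2 ≠ 1 := by
  obtain ⟨r, v1, v2, v3, C⟩ := D.exists_chain
  have hI' := C.ind
  have hom := C.om
  have hv2 : v2 = cj r v3 - v3 := by rw [C.e3]; abel
  have hv1 : v1 = cj r v2 - v2 := by rw [C.e2]; abel
  have dd : ∀ {v v' : Mo A}, v - v' ∈ fm A F → val v * (val v')⁻¹ ∈ F := fun {v v'} h => by
    rw [← val_sub]; exact h
  -- the square and the fourth power
  have g3 : cj (r * r) v3 - v3 - v1 ∈ fm A F := by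
    rw [cj_cj, show cj r (cj r v3) = cj r (v2 + v3) by rw [hv2, sub_add_cancel], map_add,
      show cj r v2 + cj r v3 - v3 - v1 = v2 + v2 by rw [hv1, hv2]; abel]
    exact D.two_mem v2
  have g2 : cj (r * r) v2 - v2 ∈ fm A F := by
    rw [cj_cj, show cj r v2 = v1 + v2 by rw [hv1, sub_add_cancel], map_add,
      show cj r v1 + cj r v2 - v2 = (cj r v1 - v1) + (v1 + v1) by rw [hv1]; abel]
    exact (fm A F).add_mem hom (D.two_mem v1)
  have g1 : cj (r * r) v1 - v1 ∈ fm A F := by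
    rw [cj_cj, show cj r (cj r v1) - v1 = (cj r (cj r v1) - cj r v1) + (cj r v1 - v1) by abel]
    exact (fm A F).add_mem (qcj' D r hom) hom
  have sq : ∀ {v w : Mo A}, cj (r * r) v - v - w ∈ fm A F → cj (r * r) w - w ∈ fm A F →
      cj (r * r * (r * r)) v - v ∈ fm A F := fun {v w} h h' => by
    rw [cj_cj, show cj (r * r) (cj (r * r) v) - v =
        (cj (r * r) (cj (r * r) v - v) - cj (r * r) w) + (cj (r * r) w - w) +
          (cj (r * r) v - v - w) + (w + w) by rw [map_sub]; abel]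
    exact (fm A F).add_mem ((fm A F).add_mem ((fm A F).add_mem (qcj' D _ h) h') h) (D.two_mem w)
  have z0 : cj (r * r) (0 : Mo A) - 0 ∈ fm A F := by rw [map_zero, sub_zero]; exact zero_mem _
  have hr4 : r * r * (r * r) ∈ π.ker := Nat8.faith_gens D.nat hI'
    (dd (v := cj (r * r * (r * r)) v1) (sq (by rw [sub_zero]; exact g1) z0))
    (dd (v := cj (r * r * (r * r)) v2) (sq (by rw [sub_zero]; exact g2) z0))
    (dd (v := cj (r * r * (r * r)) v3) (sq g3 g1))
  have e4 : r ^ 4 = r * r * (r * r) := by simp only [pow_succ, pow_zero, one_mul, mul_assoc]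
  have hout : r * r ∉ π.ker := fun h => by
    have := D.nat.triv _ h _ (val_mem v3)
    rw [← val_cj, ← val_sub] at this
    exact hI'.a_ne (show v1 ∈ fm A F by
      rw [show v1 = (cj (r * r) v3 - v3) - (cj (r * r) v3 - v3 - v1) by abel]
      exact (fm A F).sub_mem this g3)
  have h4 : π r ^ 4 = 1 := by rw [← map_pow, e4]; exact hr4
  have h2 : π r ^ 2 ≠ 1 := by rw [← map_pow, pow_two]; exact hout
  refine ⟨r, v1, v2, v3, ⟨C, e4 ▸ hu r h4 h2, fun h => hout (hA h)⟩, h4, h2⟩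

variable {r : X} {v1 v2 v3 : Mo A}

theorem RData.fix_u (K : RData A F r v1 v2 v3) : cj r (mo _ K.u) = mo _ K.u :=
  val_inj.1 (show r * (r * r * (r * r)) * r⁻¹ = r * r * (r * r) by group)

theorem RData.sq3 (K : RData A F r v1 v2 v3) : cj (r * r) v3 = v3 + (v2 + v2) + v1 := by
  rw [cj_cj, K.e3, map_add, K.e3, K.e2]; abel

theorem RData.sq2 (K : RData A F r v1 v2 v3) :
    cj (r * r) v2 = v2 + (v1 + v1) + (cj r v1 - v1) := by
  rw [cj_cj, K.e2, map_add, K.e2]; abel

theorem RData.om2 (D : Four π A F) (K : RData A F r v1 v2 v3) :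
    (cj r v1 - v1) + (cj r v1 - v1) = 0 := (D.mem_fm _).1 K.om

theorem RData.om' (D : Four π A F) (K : RData A F r v1 v2 v3) :
    cj r (cj r v1 - v1) = cj r v1 - v1 + (v1 + v1) := by
  set w := cj r v1 - v1 with hw
  have hv : cj r v1 = v1 + w := by rw [hw, add_sub_cancel]
  have h := cj_of_mem K.u v3
  rw [cj_cj, K.sq3, map_add, map_add, map_add, K.sq3, K.sq2, ← hw, cj_cj r r v1, hv, map_add, hv] at h
  rw [← sub_eq_zero] at h ⊢
  have h1 := K.om2 D
  rw [← hw] at h1
  have h2 := D.four_zero v2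
  have h3 := D.four_zero v1
  rw [← h]
  calc cj r w - (w + (v1 + v1))
      = cj r w - (w + (v1 + v1)) + ((v2 + v2 + (v2 + v2)) + ((v1 + v1 + (v1 + v1)) + ((v1 + v1) + (v1 + v1))) +
          ((w + w) + (w + w))) := by rw [h1, h2, h3]; simp
    _ = _ := by abel

theorem RData.b2 (K : RData A F r v1 v2 v3) : cj r (v2 + v2) = v2 + v2 + (v1 + v1) := by
  rw [map_add, K.e2]; abel

theorem RData.b3 (K : RData A F r v1 v2 v3) : cj r (v3 + v3) = v3 + v3 + (v2 + v2) := by
  rw [map_add, K.e3]; abel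

theorem RData.b1 (D : Four π A F) (K : RData A F r v1 v2 v3) : cj r (v1 + v1) = v1 + v1 := by
  have h := K.om2 D
  rw [map_add]
  calc cj r v1 + cj r v1 = (v1 + v1) + ((cj r v1 - v1) + (cj r v1 - v1)) := by abel
    _ = v1 + v1 := by rw [h, add_zero]

theorem RData.sq1 (D : Four π A F) (K : RData A F r v1 v2 v3) : cj (r * r) v1 = v1 + (v1 + v1) := by
  have h1 := K.om2 D
  have h2 := K.om' D
  rw [cj_cj]
  calc cj r (cj r v1) = cj r v1 + cj r (cj r v1 - v1) := by rw [map_sub]; abel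
    _ = cj r v1 + (cj r v1 - v1 + (v1 + v1)) := by rw [h2]
    _ = v1 + (v1 + v1) + ((cj r v1 - v1) + (cj r v1 - v1)) := by abel
    _ = v1 + (v1 + v1) := by rw [h1, add_zero]

theorem Chain.form (D : Four π A F) (K : Chain A F r v1 v2 v3) (t : Mo A) :
    ∃ i j k : ℕ, i < 2 ∧ j < 2 ∧ k < 2 ∧ t - (i • v1 + j • v2 + k • v3) ∈ fm A F := by
  obtain ⟨i, j, k, hi, hj, hk, hz⟩ := D.nat.eight K.ind (val_mem t)
  refine ⟨i, j, k, hi, hj, hk, ?_⟩
  show val _ ∈ F
  rw [val_sub, val_add, val_add]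
  have e : ∀ (n : ℕ) (v : Mo A), val (n • v) = val v ^ n := fun n v => by
    induction n with
    | zero => simp [val_zero]
    | succ n ih => rw [succ_nsmul, val_add, ih, pow_succ]
  rwa [e, e, e]

/-- Doubling. -/
theorem Chain.double (D : Four π A F) (K : Chain A F r v1 v2 v3) (t : Mo A) :
    ∃ i j k : ℕ, i < 2 ∧ j < 2 ∧ k < 2 ∧
      t + t = i • (v1 + v1) + j • (v2 + v2) + k • (v3 + v3) := by
  obtain ⟨i, j, k, hi, hj, hk, h⟩ := K.form D t
  refine ⟨i, j, k, hi, hj, hk, sub_eq_zero.1 ?_⟩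
  rw [← (D.mem_fm _).1 h]
  simp only [nsmul_add]; abel

theorem Chain.coeff (D : Four π A F) (K : Chain A F r v1 v2 v3) {i j k : ℕ} (hi : i < 2) (hj : j < 2)
    (hk : k < 2) (h : i • v1 + j • v2 + k • v3 ∈ fm A F) : i = 0 ∧ j = 0 ∧ k = 0 := by
  obtain ⟨-, -, -, h1, h2, h3, h4, h5, h6, h7⟩ := K.ind
  have cv : ∀ {a b : Mo A}, val a * (val b)⁻¹ ∈ F ↔ a - b ∈ fm A F := fun {a b} => by
    rw [← val_sub]; rfl
  have e : ∀ {a b : Mo A}, a + b ∈ fm A F → a - b ∈ fm A F := fun {a b} h => by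
    rw [show a - b = (a + b) - (b + b) by abel]; exact (fm A F).sub_mem h (D.two_mem b)
  rw [cv] at h3 h5 h6
  rw [show val v1 * val v2 = val (v1 + v2) from rfl, cv] at h7
  interval_cases i <;> interval_cases j <;> interval_cases k <;> simp at h ⊢
  all_goals first
    | exact absurd h h1
    | exact absurd h h2
    | exact absurd h h4
    | exact h3 (e (by rw [add_comm]; exact h))
    | exact h5 (e (by rw [add_comm]; exact h))
    | exact h6 (e (by rw [add_comm]; exact h))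
    | exact h7 (e (by rw [add_comm]; exact h))

theorem Chain.coeff2 (D : Four π A F) (K : Chain A F r v1 v2 v3) {i j k : ℕ} (hi : i < 2) (hj : j < 2)
    (hk : k < 2) (h : i • (v1 + v1) + j • (v2 + v2) + k • (v3 + v3) = 0) :
    i = 0 ∧ j = 0 ∧ k = 0 := by
  refine K.coeff D hi hj hk ((D.mem_fm _).2 ?_)
  rw [← h]; simp only [nsmul_add]; abel

theorem Four.red (D : Four π A F) (n : ℕ) (v : Mo A) : n • v - (n % 2) • v ∈ fm A F := by
  have e : n • v = (n % 2) • v + (n / 2) • (v + v) := by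
    conv_lhs => rw [← Nat.mod_add_div n 2]
    rw [add_nsmul, mul_comm 2, mul_nsmul', two_nsmul]
  rw [e, add_sub_cancel_left]
  exact (fm A F).nsmul_mem (D.two_mem v) _

theorem Chain.coeff_inj (D : Four π A F) (K : Chain A F r v1 v2 v3) {i j k i' j' k' : ℕ} (hi : i < 2)
    (hj : j < 2) (hk : k < 2) (hi' : i' < 2) (hj' : j' < 2) (hk' : k' < 2)
    (h : i • v1 + j • v2 + k • v3 - (i' • v1 + j' • v2 + k' • v3) ∈ fm A F) :
    i = i' ∧ j = j' ∧ k = k' := by
  have h' := K.coeff D (i := (i + i') % 2) (j := (j + j') % 2) (k := (k + k') % 2)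
    (Nat.mod_lt _ two_pos) (Nat.mod_lt _ two_pos) (Nat.mod_lt _ two_pos) (by
      rw [show ((i + i') % 2) • v1 + ((j + j') % 2) • v2 + ((k + k') % 2) • v3 =
          (i • v1 + j • v2 + k • v3 - (i' • v1 + j' • v2 + k' • v3)) +
            ((i' • v1 + j' • v2 + k' • v3) + (i' • v1 + j' • v2 + k' • v3)) -
            ((((i + i') • v1 - ((i + i') % 2) • v1) + ((j + j') • v2 - ((j + j') % 2) • v2)) +
              ((k + k') • v3 - ((k + k') % 2) • v3)) by simp only [add_nsmul]; abel]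
      exact (fm A F).sub_mem ((fm A F).add_mem h (D.two_mem _))
        ((fm A F).add_mem ((fm A F).add_mem (D.red _ v1) (D.red _ v2)) (D.red _ v3)))
  omega

theorem Chain.coeff2_inj (D : Four π A F) (K : Chain A F r v1 v2 v3) {i j k i' j' k' : ℕ} (hi : i < 2)
    (hj : j < 2) (hk : k < 2) (hi' : i' < 2) (hj' : j' < 2) (hk' : k' < 2)
    (h : i • (v1 + v1) + j • (v2 + v2) + k • (v3 + v3) =
      i' • (v1 + v1) + j' • (v2 + v2) + k' • (v3 + v3)) :
    i = i' ∧ j = j' ∧ k = k' := by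
  refine K.coeff_inj D hi hj hk hi' hj' hk' ((D.mem_fm _).2 ?_)
  rw [← sub_eq_zero.2 h]; simp only [nsmul_add]; abel

/-- The fixed elements. -/
theorem RData.fixed_form (D : Four π A F) (K : RData A F r v1 v2 v3) {t : Mo A} (h : cj r t = t) :
    ∃ c : ℕ, c < 2 ∧ t - c • v1 ∈ fm A F := by
  obtain ⟨i, j, k, hi, hj, hk, hz⟩ := K.form D t
  have h1 := qcj' D r hz
  rw [h] at h1
  simp only [map_add, map_nsmul, K.e2, K.e3] at h1
  have h2 := (fm A F).sub_mem hz h1
  have h3 : j • v1 + k • v2 + 0 • v3 ∈ fm A F := by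
    rw [show j • v1 + k • v2 + 0 • v3 = (t - (i • v1 + j • v2 + k • v3) -
        (t - (i • cj r v1 + j • (v2 + v1) + k • (v3 + v2)))) - i • (cj r v1 - v1) by
      simp only [nsmul_add, nsmul_sub, zero_nsmul]; abel]
    exact (fm A F).sub_mem h2 ((fm A F).nsmul_mem K.om i)
  obtain ⟨rfl, rfl, -⟩ := K.coeff D hj hk (by norm_num) h3
  refine ⟨i, hi, ?_⟩
  simpa using hz

set_option maxHeartbeats 1600000 in
/-- The case of a nonsplit section of elements of order two. -/
theorem Four.no_nonsplit (hrk : Cfsg.SectionalPRankLE 2 4 X) (D : Four π A F) (hA : A ≤ π.ker)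
    (hcF : Nat.card F = 16) (hu : ∀ x, π x ^ 4 = 1 → π x ^ 2 ≠ 1 → x ^ 4 ∈ A)
    (hFR : ∀ x, ∀ t ∈ F, ∃ a ∈ A, x * t * x⁻¹ * t⁻¹ = a * a)
    (hnofix : ∀ x, π x ^ 4 = 1 → π x ^ 2 ≠ 1 → ∀ t ∈ F, x * t * x⁻¹ = t → ∃ a ∈ A, t = a * a) :
    False := by
  obtain ⟨r, v1, v2, v3, K, hr4, hr2⟩ := D.exists_rdata hA hu
  set a := v1 + v1 with ha
  set b2 := v2 + v2 with hb2
  set b3 := v3 + v3 with hb3
  set w := cj r v1 - v1 with hw
  have a2 : a + a = 0 := D.four_zero v1
  have b22 : b2 + b2 = 0 := D.four_zero v2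
  have b32 : b3 + b3 = 0 := D.four_zero v3
  let N := four a b2 a2 b22
  have ha' : a ∈ N := mem_four.2 (Or.inr (Or.inl rfl))
  have hb' : b2 ∈ N := mem_four.2 (Or.inr (Or.inr (Or.inl rfl)))
  have fixed : ∀ t ∈ fm A F, cj r t = t → ∃ y : Mo A, t = y + y := fun t ht h => by
    obtain ⟨y, hy, e⟩ := hnofix r hr4 hr2 (val t) ht (congrArg val h)
    exact ⟨mo y hy, val_inj.1 e⟩
  have hwN : ∃ i, i < 2 ∧ w = i • a + b2 := by
    by_cases hR : ∃ y, w = y + y
    · obtain ⟨y, hy⟩ := hR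
      obtain ⟨i, j, k, hi, hj, hk, h⟩ := K.double D y
      rw [← hy] at h
      have h' := K.om' D
      rw [← hw, h, map_add, map_add, map_nsmul, map_nsmul, map_nsmul, K.b1 D, K.b2, K.b3] at h'
      refine ⟨i, hi, ?_⟩
      rw [h]
      interval_cases j <;> interval_cases k
      all_goals first
        | (simp [ha, hb2]; done)
        | exfalso
      · have := K.coeff2 D (i := 1) (j := 0) (k := 0) one_lt_two two_pos two_pos (by
          simpa using h'.symm)
        omega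
      · have := K.coeff2 D (i := 1) (j := 1) (k := 0) one_lt_two one_lt_two two_pos (by
          rw [← sub_eq_zero.2 h'.symm, show (1 : ℕ) • (v1 + v1) + 1 • (v2 + v2) + 0 • (v3 + v3) =
            (v1 + v1) + (v2 + v2) - (v2 + v2 + (v2 + v2)) by rw [b22]; simp]
          simp only [nsmul_add, one_nsmul, zero_nsmul, ← ha, ← hb2]; abel)
        omega
      · have := K.coeff2 D (i := 0) (j := 1) (k := 0) two_pos one_lt_two two_pos (by
          rw [← sub_eq_zero.2 h', zero_nsmul, one_nsmul, zero_nsmul]; simp only [one_nsmul]; abel)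
        omega
    · exfalso
      obtain ⟨y, hy⟩ := fixed (w + b2) ((fm A F).add_mem K.om (D.two_mem v2)) (by
        rw [map_add, K.b2, K.om' D]
        rw [show w + a + (b2 + a) = w + b2 + (a + a) by abel, a2, add_zero])
      exact hR ⟨y + v2, by rw [show y + v2 + (y + v2) = (y + y) + b2 by rw [hb2]; abel, ← hy,
        add_assoc, b22, add_zero]⟩
  obtain ⟨iw, -, hwv⟩ := hwN
  have hwN : w ∈ N := hwv ▸ N.add_mem (N.nsmul_mem ha' iw) hb'
  -- a vector outside the squares
  let R2 : AddSubgroup (Mo A) :=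
    { carrier := {t | ∃ y, t = y + y}
      zero_mem' := ⟨0, by simp⟩
      add_mem' := by rintro _ _ ⟨p, rfl⟩ ⟨q, rfl⟩; exact ⟨p + q, by abel⟩
      neg_mem' := by rintro _ ⟨p, rfl⟩; exact ⟨-p, by abel⟩ }
  have hR2F : ∀ t ∈ R2, t ∈ fm A F := by rintro _ ⟨y, rfl⟩; exact D.two_mem y
  have hcfm : Nat.card (fm A F) = 16 := by
    rw [← hcF]
    refine Nat.card_congr ⟨fun t => ⟨val (t : Mo A), t.2⟩, fun t => ⟨mo t.1 ((D.hF _).1 t.2).1, t.2⟩,
      fun t => rfl, fun t => rfl⟩
  have hR8 : Nat.card R2 = 8 := by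
    let f : Fin 2 × Fin 2 × Fin 2 → R2 := fun p => ⟨(p.1 : ℕ) • a + (p.2.1 : ℕ) • b2 + (p.2.2 : ℕ) • b3,
      ⟨(p.1 : ℕ) • v1 + (p.2.1 : ℕ) • v2 + (p.2.2 : ℕ) • v3, by
        simp only [ha, hb2, hb3, nsmul_add]; abel⟩⟩
    have hf : Function.Bijective f := by
      constructor
      · rintro ⟨i, j, k⟩ ⟨i', j', k'⟩ h
        obtain ⟨e1, e2, e3⟩ := K.coeff2_inj D i.2 j.2 k.2 i'.2 j'.2 k'.2 (congrArg Subtype.val h)
        simp [Fin.ext_iff, e1, e2, e3]
      · rintro ⟨_, y, rfl⟩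
        obtain ⟨i, j, k, hi, hj, hk, h⟩ := K.double D y
        exact ⟨(⟨i, hi⟩, ⟨j, hj⟩, ⟨k, hk⟩), Subtype.ext h.symm⟩
    rw [← Nat.card_eq_of_bijective f hf]
    simp
  obtain ⟨t0, ht0, ht0R⟩ : ∃ t0 ∈ fm A F, t0 ∉ R2 := by
    by_contra h
    push Not at h
    have := Nat.card_mono (Set.toFinite (R2 : Set (Mo A))) h
    rw [show Nat.card (fm A F : Set (Mo A)) = 16 from hcfm,
      show Nat.card (R2 : Set (Mo A)) = 8 from hR8] at this
    omega
  have hcos : ∀ z ∈ fm A F, z ∈ R2 ∨ z - t0 ∈ R2 := by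
    let S' := R2.addSubgroupOf (fm A F)
    have hi : S'.index = 2 := by
      have h := S'.card_mul_index
      rw [Nat.card_congr (AddSubgroup.addSubgroupOfEquivOfLe fun t ht => hR2F t ht).toEquiv, hR8, hcfm] at h
      omega
    intro z hz
    by_cases hzR : z ∈ R2
    · exact Or.inl hzR
    · refine Or.inr ?_
      have := (AddSubgroup.add_mem_iff_of_index_two hi (a := ⟨z, hz⟩) (b := -⟨t0, ht0⟩)).2
        (iff_of_false hzR (by rw [neg_mem_iff]; exact ht0R))
      rwa [AddSubgroup.mem_addSubgroupOf, AddSubgroup.coe_add, AddSubgroup.coe_neg, ← sub_eq_add_neg] at this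
  have hNF : ∀ t ∈ N, t ∈ fm A F := by
    intro t ht
    rcases mem_four.1 ht with h | h | h | h <;> rw [h]
    exacts [zero_mem _, D.two_mem _, D.two_mem _, (fm A F).add_mem (D.two_mem _) (D.two_mem _)]
  have hb3N : b3 ∉ N := fun h => by
    have e : ∃ i j, i < 2 ∧ j < 2 ∧ b3 = i • a + j • b2 := by
      rcases mem_four.1 h with h | h | h | h
      exacts [⟨0, 0, by omega, by omega, by simpa using h⟩, ⟨1, 0, by omega, by omega, by simpa using h⟩,
        ⟨0, 1, by omega, by omega, by simpa using h⟩, ⟨1, 1, by omega, by omega, by simpa using h⟩]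
    obtain ⟨i, j, hi, hj, e⟩ := e
    have := K.coeff2_inj D (i := 0) (j := 0) (k := 1) (i' := i) (j' := j) (k' := 0) two_pos two_pos
      one_lt_two hi hj two_pos (by
        simp only [← ha, ← hb2, ← hb3, zero_nsmul, one_nsmul, zero_add, add_zero]; exact e)
    omega
  -- the image of the extra vector
  obtain ⟨n0, hn0, ht0r⟩ : ∃ n ∈ N, cj r t0 = t0 + (n + b3) := by
    obtain ⟨y, hy, e⟩ := hFR r (val t0) ht0
    have e' : cj r t0 - t0 = mo y hy + mo y hy :=
      val_inj.1 (by rw [val_sub, val_cj]; exact e)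
    obtain ⟨i, j, k, hi, hj, hk, h⟩ := K.double D (mo y hy)
    rw [← e'] at h
    have hk1 : k = 1 := by
      by_contra hk1
      obtain rfl : k = 0 := by omega
      apply ht0R
      obtain ⟨z, hz⟩ := fixed (t0 + (i • b2 + j • b3)) ((fm A F).add_mem ht0
        ((fm A F).add_mem ((fm A F).nsmul_mem (D.two_mem v2) i) ((fm A F).nsmul_mem (D.two_mem v3) j))) (by
        rw [map_add, map_add, map_nsmul, map_nsmul, K.b2, K.b3, sub_eq_iff_eq_add.1 h]
        have e1 : i • a + i • a = 0 := by rw [← nsmul_add, a2, nsmul_zero]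
        have e2 : j • b2 + j • b2 = 0 := by rw [← nsmul_add, b22, nsmul_zero]
        calc _ = t0 + (i • b2 + j • b3) + ((i • a + i • a) + (j • b2 + j • b2)) := by
              simp only [nsmul_add, zero_nsmul, ha, hb2, hb3]; abel
          _ = _ := by rw [e1, e2, add_zero, add_zero])
      exact ⟨z - (i • v2 + j • v3), by
        rw [show z - (i • v2 + j • v3) + (z - (i • v2 + j • v3)) = (z + z) - (i • b2 + j • b3) by
          simp only [hb2, hb3, nsmul_add]; abel, ← hz, add_sub_cancel_right]⟩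
    refine ⟨i • a + j • b2, N.add_mem (N.nsmul_mem ha' i) (N.nsmul_mem hb' j), ?_⟩
    subst hk1
    rw [sub_eq_iff_eq_add.1 h, one_nsmul, ← ha, ← hb2, ← hb3]; abel
  have hrN : ∀ n ∈ N, cj r n - n ∈ N := by
    intro n hn
    rcases mem_four.1 hn with h | h | h | h <;> rw [h]
    · simp
    · rw [K.b1 D, sub_self]; exact zero_mem _
    · rw [K.b2, add_sub_cancel_left]; exact ha'
    · rw [map_add, K.b1 D, K.b2, show a + (b2 + a) - (a + b2) = a by abel]; exact ha'
  -- the fixed element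
  obtain ⟨c, hc, huc⟩ : ∃ c : ℕ, c < 2 ∧ mo _ K.u - c • (v1 + b3) ∈ N := by
    obtain ⟨c, hc, hz⟩ := K.fixed_form D K.fix_u
    refine ⟨c, hc, ?_⟩
    set z := mo _ K.u - c • v1 with hzd
    have hrz : cj r z - z + c • w = 0 := by
      rw [hzd, map_sub, map_nsmul, K.fix_u, hw, nsmul_sub]; abel
    obtain ⟨d, y, hd, hy⟩ : ∃ (d : ℕ) (y : Mo A), d < 2 ∧ z = d • t0 + (y + y) := by
      rcases hcos z hz with ⟨y, hy⟩ | ⟨y, hy⟩
      · exact ⟨0, y, two_pos, by simpa using hy⟩
      · exact ⟨1, y, one_lt_two, by rw [one_nsmul, ← hy, add_sub_cancel]⟩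
    obtain ⟨i, j, k, hi, hj, hk, h⟩ := K.double D y
    rw [h] at hy
    have hd0 : d = 0 := by
      by_contra hd0
      obtain rfl : d = 1 := by omega
      apply hb3N
      have e : cj r z - z = n0 + b3 + (j • a + k • b2) := by
        rw [hy, map_add, map_add, map_add, map_nsmul, map_nsmul, map_nsmul, map_nsmul, ht0r, K.b1 D, K.b2, K.b3]
        simp only [one_nsmul, nsmul_add, ha, hb2, hb3]; abel
      rw [show b3 = (cj r z - z) - n0 - (j • a + k • b2) by rw [e]; abel,
        eq_neg_of_add_eq_zero_left hrz]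
      exact N.sub_mem (N.sub_mem (N.neg_mem (N.nsmul_mem hwN c)) hn0)
        (N.add_mem (N.nsmul_mem ha' j) (N.nsmul_mem hb' k))
    subst hd0
    rw [zero_nsmul, zero_add] at hy
    have e : (j + c * iw) • a + (k + c) • b2 = 0 := by
      rw [← hrz, hy, map_add, map_add, map_nsmul, map_nsmul, map_nsmul, K.b1 D, K.b2, K.b3, hwv,
        ← ha, ← hb2, ← hb3]
      simp only [add_nsmul, mul_nsmul', nsmul_add]; abel
    have hck : c = k := by
      have e' : ((j + c * iw) % 2) • (v1 + v1) + ((k + c) % 2) • (v2 + v2) + (0 : ℕ) • (v3 + v3) = 0 := by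
        have r1 : ∀ (n : ℕ) (x : Mo A), x + x = 0 → (n % 2) • x = n • x := fun n x hx => by
          conv_rhs => rw [← Nat.mod_add_div n 2]
          rw [add_nsmul, mul_nsmul, two_nsmul, hx, nsmul_zero, add_zero]
        rw [r1 _ _ a2, r1 _ _ b22, zero_nsmul, add_zero]; exact e
      have := K.coeff2 D (Nat.mod_lt _ two_pos) (Nat.mod_lt _ two_pos) two_pos e'
      omega
    subst hck
    rw [show mo _ K.u - c • (v1 + b3) = i • a + j • b2 by
      rw [nsmul_add, sub_add_eq_sub_sub, ← hzd, hy, ← ha, ← hb2, ← hb3, add_sub_cancel_right]]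
    exact N.add_mem (N.nsmul_mem ha' i) (N.nsmul_mem hb' j)
  -- the involution
  set f1 := r * r * val (c • v3) with hf1
  have hcf : ∀ t : Mo A, cj f1 t = cj (r * r) t := fun t => by rw [hf1, cj_cj, cj_of_mem (val_mem _)]
  have hsq : f1 * f1 ∈ sub N := by
    refine mem_sub_iff.2 ⟨cj (r * r) (c • v3) + mo _ K.u + c • v3, ?_, ?_⟩
    · rw [show cj (r * r) (c • v3) + mo _ K.u + c • v3 =
          (mo _ K.u - c • (v1 + b3)) + c • (a + b2 + (b3 + b3)) by
        rw [map_nsmul, K.sq3]; simp only [ha, hb2, hb3, nsmul_add]; abel]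
      refine N.add_mem huc (N.nsmul_mem ?_ c)
      rw [b32, add_zero]; exact mem_four.2 (Or.inr (Or.inr (Or.inr rfl)))
    · rw [val_add, val_add, val_cj, val_mo, hf1]; simp [mul_assoc]
  have hq : ∀ t ∈ fm A F, cj (r * r) t - t ∈ N := by
    intro t ht
    have dbl : ∀ t : Mo A, cj (r * r) t - t = cj r (cj r t - t) + (cj r t - t) := fun t => by
      rw [cj_cj, map_sub]; abel
    have hR : ∀ t ∈ R2, cj r t - t ∈ N := by
      rintro _ ⟨y, rfl⟩
      obtain ⟨i, j, k, hi, hj, hk, h⟩ := K.double D y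
      rw [h, show cj r (i • (v1 + v1) + j • (v2 + v2) + k • (v3 + v3)) -
          (i • (v1 + v1) + j • (v2 + v2) + k • (v3 + v3)) = j • a + k • b2 by
        simp only [map_add (cj r) (_ • _), map_add (cj r) (_ + _) (_ • _), map_nsmul]
        rw [K.b1 D, K.b2, K.b3]
        simp only [ha, hb2, hb3, nsmul_add]; abel]
      exact N.add_mem (N.nsmul_mem ha' j) (N.nsmul_mem hb' k)
    have n2 : ∀ n : Mo A, n + n = 0 → n ∈ fm A F := fun n h => (D.mem_fm n).2 h
    have key : ∀ p, cj r p - p ∈ N → cj r (cj r p - p) + (cj r p - p) ∈ N := fun p hp => by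
      rw [show cj r (cj r p - p) + (cj r p - p) =
        (cj r (cj r p - p) - (cj r p - p)) + ((cj r p - p) + (cj r p - p)) by abel,
        (D.mem_fm _).1 (hNF _ hp), add_zero]
      exact hrN _ hp
    rcases hcos t ht with h | h
    · rw [dbl]; exact key _ (hR t h)
    · rw [show cj (r * r) t - t = (cj (r * r) (t - t0) - (t - t0)) + (cj (r * r) t0 - t0) by
        rw [map_sub]; abel]
      refine N.add_mem (by rw [dbl]; exact key _ (hR _ h)) ?_
      rw [cj_cj, ht0r, map_add, map_add, ht0r, K.b3,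
        show t0 + (n0 + b3) + (cj r n0 + (b3 + (v2 + v2))) - t0 =
          (cj r n0 - n0) + (n0 + n0) + (b3 + b3) + b2 by rw [hb2]; abel,
        (D.mem_fm _).1 (hNF _ hn0), b32, add_zero, add_zero]
      exact N.add_mem (hrN _ hn0) hb'
  -- the section
  let W : AddSubgroup (Mo A) := (fm A F) ⊔ AddSubgroup.zmultiples v1 ⊔ AddSubgroup.zmultiples v2
  have hv1 : v1 ∈ W := AddSubgroup.mem_sup_left (AddSubgroup.mem_sup_right (AddSubgroup.mem_zmultiples v1))
  have hv2 : v2 ∈ W := AddSubgroup.mem_sup_right (AddSubgroup.mem_zmultiples v2)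
  have prop : ∀ (f : Mo A →+ Mo A), (∀ t ∈ fm A F, f t ∈ N) → f v1 ∈ N → f v2 ∈ N → ∀ t ∈ W, f t ∈ N := by
    intro f h0 h1 h2' t ht
    have : W ≤ N.comap f := sup_le (sup_le h0 (AddSubgroup.zmultiples_le.2 h1))
      (AddSubgroup.zmultiples_le.2 h2')
    exact this ht
  refine section_contra hrk W N ?_ ?_ ![1, f1] ?_ ?_ ?_ ?_ ?_
  · intro t ht
    exact AddSubgroup.mem_sup_left (AddSubgroup.mem_sup_left (hNF t ht))
  · exact fun t ht => prop (AddMonoidHom.id _ + AddMonoidHom.id _)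
      (fun t ht => by simp [(D.mem_fm t).1 ht, N.zero_mem]) ha' hb' t ht
  · have hf1A : f1 ∉ A := fun h => K.out (by simpa [hf1] using A.mul_mem h (A.inv_mem (val_mem (c • v3))))
    intro i j hij
    fin_cases i <;> fin_cases j <;> simp at hij ⊢
    all_goals exact hf1A hij
  · intro i t ht
    fin_cases i
    · simp [cj_of_mem A.one_mem, N.zero_mem]
    · show cj f1 t - t ∈ N
      rw [hcf]
      refine prop (cj (r * r) - AddMonoidHom.id _) (fun t ht => hq t ht) ?_ ?_ t ht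
      · show cj (r * r) v1 - v1 ∈ N
        rw [K.sq1 D, add_sub_cancel_left]; exact ha'
      · show cj (r * r) v2 - v2 ∈ N
        rw [K.sq2, ← hw, show v2 + (v1 + v1) + w - v2 = a + w by rw [ha]; abel]
        exact N.add_mem ha' hwN
  · intro i
    fin_cases i
    · simp
    · exact hsq
  · have hs1 : f1 * f1 * f1⁻¹ * f1⁻¹ = 1 := by group
    intro i j
    fin_cases i <;> fin_cases j <;> simp [hs1]
  · have hWc : 64 ≤ Nat.card W := by
      let f : fm A F × Fin 2 × Fin 2 → W := fun p => ⟨(p.1 : Mo A) + (p.2.1 : ℕ) • v1 + (p.2.2 : ℕ) • v2,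
        W.add_mem (W.add_mem (AddSubgroup.mem_sup_left (AddSubgroup.mem_sup_left p.1.2))
          (W.nsmul_mem hv1 _)) (W.nsmul_mem hv2 _)⟩
      have hf : Function.Injective f := by
        rintro ⟨z, i, j⟩ ⟨z', i', j'⟩ h
        have h' : (z : Mo A) + (i : ℕ) • v1 + (j : ℕ) • v2 = (z' : Mo A) + (i' : ℕ) • v1 + (j' : ℕ) • v2 :=
          congrArg Subtype.val h
        obtain ⟨e1, e2, -⟩ := K.coeff_inj D i.2 j.2 two_pos i'.2 j'.2 two_pos (k := 0) (k' := 0) (by
          rw [show (i : ℕ) • v1 + (j : ℕ) • v2 + (0 : ℕ) • v3 - ((i' : ℕ) • v1 + (j' : ℕ) • v2 + (0 : ℕ) • v3) =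
            ((z' : Mo A) - z) + (((z : Mo A) + (i : ℕ) • v1 + (j : ℕ) • v2) -
              ((z' : Mo A) + (i' : ℕ) • v1 + (j' : ℕ) • v2)) by simp only [zero_nsmul]; abel, h',
            sub_self, add_zero]
          exact (fm A F).sub_mem z'.2 z.2)
        rw [e1, e2, add_left_inj, add_left_inj, SetLike.coe_eq_coe] at h'
        simp [h', Fin.ext_iff, e1, e2]
      have := Nat.card_le_card_of_injective f hf
      rw [Nat.card_prod, Nat.card_prod, hcfm, Nat.card_fin] at this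
      omega
    have hNc : Nat.card N ≤ 4 := card_four _ _ _ _
    omega

/-- A determinant into the units of the ring of integers modulo four. -/
theorem Chain.exists_det (D : Four π A F) (K : Chain A F r v1 v2 v3) (hF2 : Nat.card F = 8) :
    ∃ Δ : X →* (ZMod 4)ˣ, (∀ x, (∀ t : Mo A, cj x t = t) → Δ x = 1) ∧
      (∀ x, (∀ t : Mo A, cj x t = -t) → Δ x = -1) ∧
      ∀ p : ℕ, cj r v1 - v1 = p • (v1 + v1) + (v2 + v2) → (Δ r : ZMod 4) = 2 * (p : ZMod 4) - 1 := by
  classical
  have h4 : ∀ t : Mo A, 4 • t = 0 := fun t => by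
    rw [show (4 : ℕ) = 2 * 2 from rfl, mul_nsmul, two_nsmul, two_nsmul]; exact D.four_zero t
  letI : Module (ZMod 4) (Mo A) := AddCommGroup.zmodModule h4
  have hn : ∀ (n : ℕ) (t : Mo A), (n : ZMod 4) • t = n • t := fun n t => Nat.cast_smul_eq_nsmul (ZMod 4) n t
  set vs : Fin 3 → Mo A := ![v1, v2, v3] with hvs
  let ψ : (Fin 3 → ZMod 4) →ₗ[ZMod 4] Mo A := Fintype.linearCombination (ZMod 4) vs
  have hψ : ∀ c, ψ c = c 0 • v1 + c 1 • v2 + c 2 • v3 := fun c => by
    simp [ψ, Fintype.linearCombination_apply, Fin.sum_univ_three, hvs]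
  have hcast : ∀ (n : ℕ) (c : ZMod 4), c = (n : ZMod 4) → ∀ t : Mo A, c • t = n • t :=
    fun n c h t => by rw [h, hn]
  have hsurj : Function.Surjective ψ := by
    intro t
    obtain ⟨i, j, k, hi, hj, hk, hz⟩ := K.form D t
    set z := t - (i • v1 + j • v2 + k • v3) with hzd
    have hsq : ∃ y : Mo A, z = y + y := by
      let g : Fin 2 × Fin 2 × Fin 2 → fm A F := fun p => ⟨(p.1 : ℕ) • (v1 + v1) +
        (p.2.1 : ℕ) • (v2 + v2) + (p.2.2 : ℕ) • (v3 + v3), (fm A F).add_mem ((fm A F).add_mem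
          ((fm A F).nsmul_mem (D.two_mem _) _) ((fm A F).nsmul_mem (D.two_mem _) _))
          ((fm A F).nsmul_mem (D.two_mem _) _)⟩
      have hg : Function.Injective g := by
        rintro ⟨a, b, c⟩ ⟨a', b', c'⟩ h
        obtain ⟨e1, e2, e3⟩ := K.coeff2_inj D a.2 b.2 c.2 a'.2 b'.2 c'.2 (congrArg Subtype.val h)
        simp [Fin.ext_iff, e1, e2, e3]
      have hc : Nat.card (fm A F) = 8 := by
        rw [← hF2]
        exact Nat.card_congr ⟨fun t => ⟨val (t : Mo A), t.2⟩,
          fun t => ⟨mo t.1 ((D.hF _).1 t.2).1, t.2⟩, fun t => rfl, fun t => rfl⟩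
      obtain ⟨⟨a, b, c⟩, h⟩ := ((Nat.bijective_iff_injective_and_card g).2
        ⟨hg, by rw [hc]; simp⟩).2 ⟨z, hz⟩
      refine ⟨(a : ℕ) • v1 + (b : ℕ) • v2 + (c : ℕ) • v3, ?_⟩
      have := congrArg Subtype.val h
      simp only [g] at this
      rw [← this]; simp only [nsmul_add]; abel
    obtain ⟨y, hy⟩ := hsq
    obtain ⟨a, b, c, -, -, -, hd⟩ := K.double D y
    refine ⟨![((i + 2 * a : ℕ) : ZMod 4), ((j + 2 * b : ℕ) : ZMod 4), ((k + 2 * c : ℕ) : ZMod 4)], ?_⟩
    rw [hψ]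
    simp only [Matrix.cons_val_zero, Matrix.cons_val_one, Matrix.cons_val, hn]
    rw [eq_add_of_sub_eq hzd.symm, hy, hd]
    simp only [add_nsmul, mul_nsmul', two_nsmul, nsmul_add]; abel
  have hinj : Function.Injective ψ := by
    have hc : Nat.card (Mo A) ≥ 64 := by
      have h8 := D.nat.card
      rw [hF2] at h8
      rw [show Nat.card (Mo A) = Nat.card A from rfl, h8]
    exact ((Nat.bijective_iff_surjective_and_card ψ).2 ⟨hsurj, by
      refine le_antisymm ?_ (Nat.card_le_card_of_surjective ψ hsurj)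
      rw [Nat.card_fun, Nat.card_zmod, Nat.card_eq_fintype_card, Fintype.card_fin]
      exact hc.trans' (by norm_num)⟩).1
  let e := LinearEquiv.ofBijective ψ ⟨hinj, hsurj⟩
  let b : Module.Basis (Fin 3) (ZMod 4) (Mo A) := Module.Basis.ofEquivFun e.symm
  have hb : ∀ i, b i = vs i := fun i => by
    simp only [b, Module.Basis.coe_ofEquivFun, LinearEquiv.symm_symm]
    show ψ _ = _
    simp [ψ, Fintype.linearCombination_apply_single]
  haveI : Nontrivial (ZMod 4) := ⟨⟨0, 1, by decide⟩⟩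
  haveI : Module.Free (ZMod 4) (Mo A) := Module.Free.of_basis b
  haveI : Module.Finite (ZMod 4) (Mo A) := Module.Finite.of_basis b
  let l : X →* Module.End (ZMod 4) (Mo A) :=
    { toFun := fun x => AddMonoidHom.toZModLinearMap 4 (cj x)
      map_one' := LinearMap.ext fun t => cj_of_mem A.one_mem t
      map_mul' := fun x y => LinearMap.ext fun t => cj_cj x y t }
  let Δ : X →* (ZMod 4)ˣ := MonoidHom.toHomUnits (LinearMap.det.comp l)
  refine ⟨Δ, fun x hx => Units.ext ?_, fun x hx => Units.ext ?_, fun p hp => ?_⟩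
  · show LinearMap.det (l x) = 1
    rw [show l x = 1 from LinearMap.ext hx, map_one]
  · show LinearMap.det (l x) = -1
    rw [show l x = (-1 : ZMod 4) • LinearMap.id from LinearMap.ext fun t => by
      show cj x t = _
      rw [hx, LinearMap.smul_apply, LinearMap.id_apply, neg_smul, one_smul],
      LinearMap.det_smul, LinearMap.det_id, mul_one,
      Module.finrank_eq_card_basis b, Fintype.card_fin]
    rfl
  · show LinearMap.det (l r) = _
    rw [← LinearMap.det_toMatrix b]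
    have e1 : l r (b 0) = e ![(1 + 2 * p : ℕ), 2, 0] := by
      show cj r (b 0) = ψ _
      rw [hψ, hb]
      simp only [hvs, Matrix.cons_val_zero, Matrix.cons_val_one, Matrix.cons_val, hn, zero_smul, add_zero]
      rw [hcast 2 2 rfl, eq_add_of_sub_eq hp]
      simp only [add_nsmul, mul_nsmul', two_nsmul, one_nsmul, nsmul_add]; abel
    have e2 : l r (b 1) = e ![1, 1, 0] := by
      show cj r (b 1) = ψ _
      rw [hψ, hb]
      simp [hvs, K.e2, add_comm]
    have e3 : l r (b 2) = e ![0, 1, 1] := by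
      show cj r (b 2) = ψ _
      rw [hψ, hb]
      simp [hvs, K.e3, add_comm]
    have hM : LinearMap.toMatrix b b (l r) = !![((1 + 2 * p : ℕ) : ZMod 4), 1, 0; 2, 1, 1; 0, 0, 1] := by
      ext i j
      rw [LinearMap.toMatrix_apply]
      fin_cases j
      · show b.repr (l r (b 0)) i = _
        rw [e1]; simp [b, e]; fin_cases i <;> simp
      · show b.repr (l r (b 1)) i = _
        rw [e2]; simp [b, e]; fin_cases i <;> simp
      · show b.repr (l r (b 2)) i = _
        rw [e3]; simp [b, e]; fin_cases i <;> simp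
    rw [hM, Matrix.det_fin_three]
    simp
    ring

set_option maxHeartbeats 1600000 in
/-- The case of a homocyclic kernel of order 64. -/
theorem Four.no_four_cubed (hrk : Cfsg.SectionalPRankLE 2 4 X) (D : Four π A F)
    (hker : π.ker = A) (hF8 : Nat.card F = 8) : False := by
  have hu : ∀ x, π x ^ 4 = 1 → π x ^ 2 ≠ 1 → x ^ 4 ∈ A := fun x h _ => by
    rw [← hker, MonoidHom.mem_ker, map_pow, h]
  obtain ⟨r, v1, v2, v3, K, -, -⟩ := D.exists_rdata hker.ge hu
  set a := v1 + v1 with ha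
  set b2 := v2 + v2 with hb2
  set b3 := v3 + v3 with hb3
  set w := cj r v1 - v1 with hw
  have a2 : a + a = 0 := D.four_zero v1
  have b22 : b2 + b2 = 0 := D.four_zero v2
  have b32 : b3 + b3 = 0 := D.four_zero v3
  let g : Fin 2 × Fin 2 × Fin 2 → fm A F := fun p => ⟨(p.1 : ℕ) • a + (p.2.1 : ℕ) • b2 + (p.2.2 : ℕ) • b3,
    (fm A F).add_mem ((fm A F).add_mem ((fm A F).nsmul_mem (D.two_mem _) _)
      ((fm A F).nsmul_mem (D.two_mem _) _)) ((fm A F).nsmul_mem (D.two_mem _) _)⟩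
  have hg : Function.Injective g := by
    rintro ⟨i, j, k⟩ ⟨i', j', k'⟩ h
    obtain ⟨e1, e2, e3⟩ := K.coeff2_inj D i.2 j.2 k.2 i'.2 j'.2 k'.2 (congrArg Subtype.val h)
    simp [Fin.ext_iff, e1, e2, e3]
  have hcfm : Nat.card (fm A F) = 8 := by
    rw [← hF8]
    exact Nat.card_congr ⟨fun t => ⟨val (t : Mo A), t.2⟩,
      fun t => ⟨mo t.1 ((D.hF _).1 t.2).1, t.2⟩, fun t => rfl, fun t => rfl⟩
  have fmform : ∀ t ∈ fm A F, ∃ i j k : ℕ, i < 2 ∧ j < 2 ∧ k < 2 ∧ t = i • a + j • b2 + k • b3 := by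
    intro t ht
    obtain ⟨⟨i, j, k⟩, h⟩ := ((Nat.bijective_iff_injective_and_card g).2
      ⟨hg, by rw [hcfm]; simp⟩).2 ⟨t, ht⟩
    exact ⟨i, j, k, i.2, j.2, k.2, (congrArg Subtype.val h).symm⟩
  have hwf : ∃ p, p < 2 ∧ w = p • a + b2 := by
    obtain ⟨p, q, k, hp, hq, hk, h⟩ := fmform w K.om
    have h' := K.om' D
    rw [← hw, h, map_add, map_add, map_nsmul, map_nsmul, map_nsmul, K.b1 D, K.b2, K.b3] at h'
    have e : q • a + k • b2 + (0 : ℕ) • b3 = (1 : ℕ) • a + (0 : ℕ) • b2 + (0 : ℕ) • b3 := by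
      have := sub_eq_zero.2 h'
      rw [← sub_eq_zero, ← this]
      simp only [ha, hb2, hb3, nsmul_add, one_nsmul, zero_nsmul]; abel
    obtain ⟨rfl, rfl, -⟩ := K.coeff2_inj D hq hk two_pos one_lt_two two_pos two_pos e
    exact ⟨p, hp, by rw [h, one_nsmul, zero_nsmul, add_zero]⟩
  obtain ⟨p, hp, hwv⟩ := hwf
  have hp1 : p = 1 := by
    obtain ⟨Δ, hΔ1, -, hΔ2⟩ := K.exists_det D hF8
    let Δ' : L →* (ZMod 4)ˣ := π.liftOfSurjective D.nat.surj ⟨Δ, fun q hq => hΔ1 q fun t =>
      cj_of_mem (hker.le hq) t⟩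
    have h1 : Δ r = 1 := by
      have := D.nat.big.trivial_comm Δ' (π r)
      rwa [show Δ' (π r) = Δ r from MonoidHom.liftOfRightInverse_comp_apply _ _ _ _ _] at this
    have h2 := hΔ2 p hwv
    rw [h1] at h2
    interval_cases p
    · exact absurd h2 (by decide)
    · rfl
  subst hp1
  rw [one_nsmul] at hwv
  let N := AddSubgroup.zmultiples a
  have hNc : Nat.card N ≤ 2 := by
    rw [Nat.card_zmultiples]
    exact Nat.le_of_dvd two_pos (addOrderOf_dvd_of_nsmul_eq_zero (by rw [two_nsmul, a2]))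
  have ha' : a ∈ N := AddSubgroup.mem_zmultiples a
  have hNm : ∀ x, cj x a = a → ∀ t ∈ N, cj x t = t := fun x hx t ht => by
    obtain ⟨n, rfl⟩ := AddSubgroup.mem_zmultiples_iff.1 ht
    rw [map_zsmul, hx]
  -- the subgroup acted on centrally
  let W : AddSubgroup (Mo A) := fm A F ⊔ AddSubgroup.zmultiples v1
  have hFW : ∀ t ∈ fm A F, t ∈ W := fun t ht => AddSubgroup.mem_sup_left ht
  have hv1 : v1 ∈ W := AddSubgroup.mem_sup_right (AddSubgroup.mem_zmultiples v1)
  have prop : ∀ (f : Mo A →+ Mo A) (M : AddSubgroup (Mo A)), (∀ t ∈ fm A F, f t ∈ M) → f v1 ∈ M →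
      ∀ t ∈ W, f t ∈ M := by
    intro f M h0 h1 t ht
    have : W ≤ M.comap f := sup_le h0 (AddSubgroup.zmultiples_le.2 h1)
    exact this ht
  have hW2 : ∀ t ∈ W, t + t ∈ N := fun t ht => prop (AddMonoidHom.id _ + AddMonoidHom.id _) N
    (fun t ht => by simp [(D.mem_fm t).1 ht]) ha' t ht
  -- the square of `r`
  have qb : ∀ i j k : ℕ, cj (r * r) (i • a + j • b2 + k • b3) - (i • a + j • b2 + k • b3) = k • a := by
    intro i j k
    have e1 : cj (r * r) a = a := by rw [cj_cj, K.b1 D, K.b1 D]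
    have e2 : cj (r * r) b2 = b2 := by
      rw [cj_cj, K.b2, map_add, K.b2, K.b1 D, ← ha, ← hb2, show b2 + a + a = b2 + (a + a) by abel, a2,
        add_zero]
    have e3 : cj (r * r) b3 = b3 + a := by
      rw [cj_cj, K.b3, map_add, K.b3, K.b2, ← ha, ← hb2, ← hb3,
        show b3 + b2 + (b2 + a) = b3 + (b2 + b2) + a by abel, b22, add_zero]
    simp only [map_add, map_nsmul, e1, e2, e3, nsmul_add]; abel
  have hfW : ∀ t ∈ W, cj (r * r) t - t ∈ N := by
    refine fun t ht => prop (cj (r * r) - AddMonoidHom.id _) N (fun t ht => ?_) ?_ t ht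
    · obtain ⟨i, j, k, -, -, -, rfl⟩ := fmform t ht
      show cj (r * r) _ - _ ∈ N
      rw [AddMonoidHom.id_apply, qb]; exact N.nsmul_mem ha' k
    · show cj (r * r) v1 - v1 ∈ N
      rw [K.sq1 D, add_sub_cancel_left]; exact ha'
  have hfA : ∀ t : Mo A, cj (r * r) t - t ∈ W := by
    let M := W.comap (cj (r * r) - AddMonoidHom.id (Mo A))
    intro t
    obtain ⟨i, j, k, -, -, -, hz⟩ := K.form D t
    have h1 : v1 ∈ M := by
      show cj (r * r) v1 - v1 ∈ W
      rw [K.sq1 D, add_sub_cancel_left]; exact hFW _ (D.two_mem v1)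
    have h2 : v2 ∈ M := by
      show cj (r * r) v2 - v2 ∈ W
      rw [K.sq2, show v2 + (v1 + v1) + w - v2 = v1 + v1 + w by abel]
      exact W.add_mem (hFW _ (D.two_mem v1)) (hFW _ K.om)
    have h3 : v3 ∈ M := by
      show cj (r * r) v3 - v3 ∈ W
      rw [K.sq3, show v3 + (v2 + v2) + v1 - v3 = v2 + v2 + v1 by abel]
      exact W.add_mem (hFW _ (D.two_mem v2)) hv1
    have h0 : t - (i • v1 + j • v2 + k • v3) ∈ M := W.sub_mem (hFW _ (D.cj_fm _ hz)) (hFW _ hz)
    have := M.add_mem h0 (M.add_mem (M.add_mem (M.nsmul_mem h1 i) (M.nsmul_mem h2 j)) (M.nsmul_mem h3 k))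
    rwa [sub_add_cancel] at this
  -- the fixed element
  obtain ⟨c, hc, huc⟩ : ∃ c : ℕ, c < 2 ∧ mo _ K.u - c • (v1 + b2 + b3) ∈ N := by
    obtain ⟨c, hc, hz⟩ := K.fixed_form D K.fix_u
    obtain ⟨i, j, k, hi, hj, hk, h⟩ := fmform _ hz
    refine ⟨c, hc, ?_⟩
    have hh := congrArg (cj r) h
    rw [map_sub, map_nsmul, K.fix_u, show cj r v1 = v1 + (a + b2) by rw [← hwv, hw, add_sub_cancel],
      map_add, map_add, map_nsmul, map_nsmul, map_nsmul, K.b1 D, K.b2, K.b3, ← ha, ← hb2, ← hb3] at hh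
    have h0 := sub_eq_zero.2 hh
    have e : (j + c) • a + (k + c) • b2 = 0 := by
      have h0' := sub_eq_zero.2 h
      have e1 : c • a + c • a = 0 := by rw [← nsmul_add, a2, nsmul_zero]
      have e2 : c • b2 + c • b2 = 0 := by rw [← nsmul_add, b22, nsmul_zero]
      calc (j + c) • a + (k + c) • b2
          = -((mo _ K.u - c • (v1 + (a + b2)) - (i • a + j • (b2 + a) + k • (b3 + b2))) -
              (mo _ K.u - c • v1 - (i • a + j • b2 + k • b3))) := by
            simp only [add_nsmul, nsmul_add]; abel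
        _ = 0 := by rw [h0, h0', sub_self, neg_zero]
    have r1 : ∀ (n : ℕ) (x : Mo A), x + x = 0 → (n % 2) • x = n • x := fun n x hx => by
      conv_rhs => rw [← Nat.mod_add_div n 2]
      rw [add_nsmul, mul_nsmul, two_nsmul, hx, nsmul_zero, add_zero]
    have := K.coeff2 D (i := (j + c) % 2) (j := (k + c) % 2) (k := 0) (Nat.mod_lt _ two_pos)
      (Nat.mod_lt _ two_pos) two_pos (by
        rw [← ha, ← hb2, r1 _ _ a2, r1 _ _ b22, zero_nsmul, add_zero]; exact e)
    obtain rfl : j = c := by omega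
    obtain rfl : k = j := by omega
    rw [show mo _ K.u - k • (v1 + b2 + b3) = i • a from by
      rw [nsmul_add, nsmul_add, sub_eq_iff_eq_add.1 h]; abel]
    exact N.nsmul_mem ha' i
  set f1 := r * r * val (c • v3) with hf1
  have hcf : ∀ t : Mo A, cj f1 t = cj (r * r) t := fun t => by rw [hf1, cj_cj, cj_of_mem (val_mem _)]
  have hsq1 : f1 * f1 ∈ sub N := by
    refine mem_sub_iff.2 ⟨cj (r * r) (c • v3) + mo _ K.u + c • v3, ?_, ?_⟩
    · rw [show cj (r * r) (c • v3) + mo _ K.u + c • v3 =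
          (mo _ K.u - c • (v1 + b2 + b3)) + c • (a + ((b2 + b2) + (b3 + b3))) by
        rw [map_nsmul, K.sq3]; simp only [ha, hb2, hb3, nsmul_add]; abel]
      rw [b22, b32, add_zero, add_zero]
      exact N.add_mem huc (N.nsmul_mem ha' c)
    · rw [val_add, val_add, val_cj, val_mo, hf1]; simp [mul_assoc]
  -- an element of order three
  obtain ⟨h, hh1, hh2, hh3⟩ := D.nat.realise K.ind (D.nat.cycle K.ind)
  have c1 : cj h v1 - v1 ∈ fm A F := by show val _ ∈ F; rw [val_sub, val_cj]; exact hh1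
  have c2 : cj h v2 - v3 ∈ fm A F := by show val _ ∈ F; rw [val_sub, val_cj]; exact hh2
  have c3 : cj h v3 - (v2 + v3) ∈ fm A F := by
    show val _ ∈ F; rw [val_sub, val_cj, val_add]; exact hh3
  have ha_h : cj h a = a := by
    rw [ha, map_add, ← sub_eq_zero, ← (D.mem_fm _).1 c1]; abel
  have hinv : ∀ x : X, cj x a = a → cj x⁻¹ a = a := fun x hx => by
    conv_lhs => rw [← hx]
    rw [← cj_cj, inv_mul_cancel, cj_of_mem A.one_mem]
  have hhW : ∀ t ∈ W, cj h t ∈ W := fun t ht => prop (cj h) W (fun t ht => hFW _ (D.cj_fm _ ht))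
    (by rw [show cj h v1 = (cj h v1 - v1) + v1 by abel]; exact W.add_mem (hFW _ c1) hv1) t ht
  have hhW' : ∀ t ∈ W, cj h⁻¹ t ∈ W := fun t ht => prop (cj h⁻¹) W (fun t ht => hFW _ (D.cj_fm _ ht))
    (by
      have e := D.cj_fm h⁻¹ c1
      rw [map_sub, ← cj_cj, inv_mul_cancel, cj_of_mem A.one_mem] at e
      rw [show cj h⁻¹ v1 = v1 - (v1 - cj h⁻¹ v1) by abel]; exact W.sub_mem hv1 (hFW _ e)) t ht
  -- transport along conjugation by `h`
  have good : ∀ x : X, ((∀ t : Mo A, cj x t - t ∈ W) ∧ (∀ t ∈ W, cj x t - t ∈ N) ∧ cj x a = a) →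
      (∀ t : Mo A, cj (h * x * h⁻¹) t - t ∈ W) ∧ (∀ t ∈ W, cj (h * x * h⁻¹) t - t ∈ N) ∧
        cj (h * x * h⁻¹) a = a := by
    rintro x ⟨hx1, hx2, hx3⟩
    have e : ∀ t : Mo A, cj (h * x * h⁻¹) t - t = cj h (cj x (cj h⁻¹ t) - cj h⁻¹ t) := fun t => by
      rw [map_sub, cj_cj, cj_cj, ← cj_cj h h⁻¹, mul_inv_cancel, cj_of_mem A.one_mem]
    refine ⟨fun t => e t ▸ hhW _ (hx1 _), fun t ht => ?_, ?_⟩
    · rw [e, hNm h ha_h _ (hx2 _ (hhW' t ht))]
      exact hx2 _ (hhW' t ht)
    · rw [cj_cj, cj_cj, hinv h ha_h, hx3, ha_h]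
  have hf1a : cj f1 a = a := by rw [hcf, cj_cj, K.b1 D, K.b1 D]
  set f2 := h * f1 * h⁻¹ with hf2
  set f3 := h * f2 * h⁻¹ with hf3
  obtain ⟨g11, g12, g13⟩ : (∀ t : Mo A, cj f1 t - t ∈ W) ∧ (∀ t ∈ W, cj f1 t - t ∈ N) ∧ cj f1 a = a :=
    ⟨fun t => by rw [hcf]; exact hfA t, fun t ht => by rw [hcf]; exact hfW t ht, hf1a⟩
  obtain ⟨g21, g22, g23⟩ := good f1 ⟨g11, g12, g13⟩
  obtain ⟨g31, g32, g33⟩ := good f2 ⟨g21, g22, g23⟩
  have conjN : ∀ x : X, cj x a = a → ∀ y ∈ sub N, x * y * x⁻¹ ∈ sub N := fun x hx y hy => by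
    obtain ⟨t, ht, rfl⟩ := mem_sub_iff.1 hy
    rw [← val_cj, hNm x hx t ht]; exact mem_sub ht
  have hsq2 : f2 * f2 ∈ sub N := by
    rw [hf2, show h * f1 * h⁻¹ * (h * f1 * h⁻¹) = h * (f1 * f1) * h⁻¹ by group]
    exact conjN h ha_h _ hsq1
  have hsq3 : f3 * f3 ∈ sub N := by
    rw [hf3, show h * f2 * h⁻¹ * (h * f2 * h⁻¹) = h * (f2 * f2) * h⁻¹ by group]
    exact conjN h ha_h _ hsq2
  -- computations modulo elements of order two
  let q := QuotientAddGroup.mk' (fm A F)
  have qeq : ∀ {v v' : Mo A}, q v = q v' ↔ v - v' ∈ fm A F := fun {v v'} => QuotientAddGroup.eq_iff_sub_mem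
  have qcj : ∀ x {v v' : Mo A}, q v = q v' → q (cj x v) = q (cj x v') := fun x {v v'} e =>
    qeq.2 (qcj' D x (qeq.1 e))
  have q2 : ∀ t : Mo A, q t + q t = 0 := fun t => by
    rw [← map_add, ← map_zero q, qeq, sub_zero]; exact D.two_mem t
  have i1 : ∀ {x : X} {v v' : Mo A}, q (cj x v) = q v' → q (cj x⁻¹ v') = q v := fun {x v v'} e => by
    rw [← qcj x⁻¹ e, ← cj_cj, inv_mul_cancel, cj_of_mem A.one_mem]
  have H1 : q (cj h v1) = q v1 := qeq.2 c1
  have H2 : q (cj h v2) = q v3 := qeq.2 c2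
  have H3 : q (cj h v3) = q (v2 + v3) := qeq.2 c3
  have J3 : q (cj h⁻¹ v3) = q v2 := i1 H2
  have J2 : q (cj h⁻¹ v2) = q (v2 + v3) := i1 (by
    rw [map_add, map_add, H2, H3, map_add, add_left_comm, q2, add_zero])
  have F1 : q (cj f1 v1) = q v1 := by
    rw [hcf, K.sq1 D, qeq, add_sub_cancel_left]; exact D.two_mem v1
  have F2 : q (cj f1 v2) = q v2 := by
    rw [hcf, K.sq2, qeq, show v2 + (v1 + v1) + (cj r v1 - v1) - v2 = (v1 + v1) + (cj r v1 - v1) by abel]
    exact (fm A F).add_mem (D.two_mem v1) K.om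
  have F3 : q (cj f1 v3) = q v3 + q v1 := by
    rw [hcf, K.sq3, map_add, map_add, map_add, q2, add_zero]
  have G1 : q (cj f2 v1) = q v1 := by rw [hf2, cj_cj, qcj _ (i1 H1), cj_cj, qcj _ F1, H1]
  have G2 : q (cj f2 v2) = q v2 + q v1 := by
    rw [hf2, cj_cj, qcj _ J2, cj_cj, qcj h (v' := v2 + v3 + v1) (by
      rw [map_add, map_add, F2, F3, map_add, map_add, add_assoc]),
      map_add, map_add, map_add, map_add, H2, H3, H1, map_add, add_comm (q v3), add_assoc (q v2), q2,
      add_zero]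
  have G3 : q (cj f2 v3) = q v3 := by rw [hf2, cj_cj, qcj _ J3, cj_cj, qcj _ F2, H2]
  have E1 : q (cj f3 v1) = q v1 := by rw [hf3, cj_cj, qcj _ (i1 H1), cj_cj, qcj _ G1, H1]
  have E2 : q (cj f3 v2) = q v2 + q v1 := by
    rw [hf3, cj_cj, qcj _ J2, cj_cj, qcj h (v' := v2 + v1 + v3) (by
      rw [map_add, map_add, G2, G3, map_add, map_add]),
      map_add, map_add, map_add, map_add, H2, H1, H3, map_add,
      show q v3 + q v1 + (q v2 + q v3) = q v2 + q v1 + (q v3 + q v3) by abel, q2, add_zero]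
  have E3 : q (cj f3 v3) = q v3 + q v1 := by
    rw [hf3, cj_cj, qcj _ J3, cj_cj, qcj h (v' := v2 + v1) (by rw [G2, map_add]), map_add, map_add,
      H2, H1]
  have kill : ∀ {x : X}, q (cj x v1) = q v1 → q (cj x v2) = q v2 → q (cj x v3) = q v3 → x ∈ A := by
    intro x e1 e2 e3
    have cv : ∀ v : Mo A, q (cj x v) = q v → x * val v * x⁻¹ * (val v)⁻¹ ∈ F := fun v e => by
      rw [← val_cj, ← val_sub]; exact qeq.1 e
    exact hker.le (Nat8.faith_gens D.nat K.ind (cv _ e1) (cv _ e2) (cv _ e3))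
  have hzA : f1 * f2 * f3 ∈ A := by
    refine kill ?_ ?_ ?_
    · rw [cj_cj, cj_cj, qcj f1 (qcj f2 E1), qcj f1 G1, F1]
    · rw [cj_cj, cj_cj, qcj f1 (qcj f2 (v' := v2 + v1) (by rw [E2, map_add])),
        qcj f1 (v' := v2) (by rw [map_add, map_add, G2, G1, add_assoc, q2, add_zero]), F2]
    · rw [cj_cj, cj_cj, qcj f1 (qcj f2 (v' := v3 + v1) (by rw [E3, map_add])),
        qcj f1 (v' := v3 + v1) (by rw [map_add, map_add, G3, G1, map_add]), map_add, map_add, F3, F1,
        add_assoc, q2, add_zero]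
  have hk : h * h * h ∈ A := by
    refine kill ?_ ?_ ?_
    · rw [cj_cj, cj_cj, qcj h (qcj h H1), qcj h H1, H1]
    · rw [cj_cj, cj_cj, qcj h (qcj h H2), qcj h H3, map_add, map_add, H2, H3, map_add, add_left_comm, q2,
        add_zero]
    · rw [cj_cj, cj_cj, qcj h (qcj h H3), qcj h (v' := v2) (by
        rw [map_add, map_add, H2, H3, map_add, add_left_comm, q2, add_zero]), H2]
  set z := mo _ hzA with hzd
  set κ := mo _ hk with hκ
  have hzW : z ∈ W := by
    set d := κ - cj f1 κ with hd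
    have hdW : d ∈ W := by rw [hd, ← neg_sub]; exact W.neg_mem (g11 κ)
    have hrel : cj h z = cj (f2 * f3) d + cj f1⁻¹ z := by
      refine val_inj.1 ?_
      simp only [val_add, val_cj, hd, val_sub, hzd, hκ, val_mo]
      rw [hf3, hf2]; group
    have m1 : cj f1⁻¹ z - z ∈ W := by
      have := g11 (cj f1⁻¹ z)
      rw [← cj_cj, mul_inv_cancel, cj_of_mem A.one_mem] at this
      rw [← neg_sub]; exact W.neg_mem this
    have m2 : cj (f2 * f3) d ∈ W := by
      rw [cj_cj, show cj f2 (cj f3 d) = (cj f2 (cj f3 d) - cj f3 d) + ((cj f3 d - d) + d) by abel]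
      exact W.add_mem (g21 _) (W.add_mem (g31 _) hdW)
    have hdiff : cj h z - z ∈ W := by
      rw [hrel, add_sub_assoc]; exact W.add_mem m2 m1
    obtain ⟨i, j, k, hi, hj, hk', hz⟩ := K.form D z
    set d0 := z - (i • v1 + j • v2 + k • v3) with hd0
    have hz' : j • (v3 - v2) + k • v2 ∈ W := by
      rw [show j • (v3 - v2) + k • v2 = (cj h z - z) - (cj h d0 - d0) -
          (i • (cj h v1 - v1) + j • (cj h v2 - v3) + k • (cj h v3 - (v2 + v3))) by
        rw [hd0]; simp only [map_sub, map_add, map_nsmul, nsmul_sub, nsmul_add]; abel]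
      exact W.sub_mem (W.sub_mem hdiff (W.sub_mem (hFW _ (D.cj_fm _ hz)) (hFW _ hz)))
        (hFW _ ((fm A F).add_mem ((fm A F).add_mem ((fm A F).nsmul_mem c1 i) ((fm A F).nsmul_mem c2 j))
          ((fm A F).nsmul_mem c3 k)))
    obtain ⟨e, he, l, hl, hel⟩ := AddSubgroup.mem_sup.1 hz'
    obtain ⟨n, rfl⟩ := AddSubgroup.mem_zmultiples_iff.1 hl
    -- coordinates of a coset
    have q3 : (j + k) • q v2 + j • q v3 = n • q v1 := by
      have e' := congrArg q hel
      have he0 : q e = 0 := by rw [← map_zero q, qeq, sub_zero]; exact he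
      rw [map_add, he0, zero_add, map_zsmul, map_add, map_nsmul, map_nsmul, map_sub] at e'
      rw [e', add_nsmul, nsmul_sub, sub_eq_add_neg, neg_eq_of_add_eq_zero_left
        (show j • q v2 + j • q v2 = 0 by rw [← nsmul_add, q2, nsmul_zero])]
      abel
    have : j = 0 ∧ k = 0 := by
      obtain ⟨m, hm, hnm⟩ : ∃ m : ℕ, m < 2 ∧ n • q v1 = m • q v1 := by
        refine ⟨(n % 2).toNat, by omega, ?_⟩
        conv_lhs => rw [← Int.emod_add_mul_ediv n 2]
        rw [add_zsmul, mul_comm, mul_zsmul, two_zsmul, q2, smul_zero, add_zero, ← natCast_zsmul,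
          Int.toNat_of_nonneg (Int.emod_nonneg n two_ne_zero)]
      rw [hnm] at q3
      have q4 : q (((j + k) % 2) • v2 + j • v3) = q (m • v1) := by
        rw [map_add, map_nsmul, map_nsmul, map_nsmul, ← q3]
        congr 1
        rw [← map_nsmul, ← map_nsmul, qeq, ← neg_sub]
        exact (fm A F).neg_mem (D.red _ v2)
      have := K.coeff_inj D (i := 0) (j := (j + k) % 2) (k := j) (i' := m) (j' := 0) (k' := 0) two_pos
        (Nat.mod_lt _ two_pos) hj hm two_pos two_pos (by simpa using qeq.1 q4)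
      omega
    obtain ⟨rfl, rfl⟩ := this
    rw [show z = d0 + i • v1 by rw [hd0]; simp only [zero_nsmul]; abel]
    exact W.add_mem (hFW _ hz) (W.nsmul_mem hv1 i)
  -- the product of the first two involutions
  have hsq12 : f1 * f2 * (f1 * f2) ∈ sub N := by
    have g3' : cj f3⁻¹ z - z ∈ N := by
      have h1 := g32 z hzW
      have h2 := hNm f3⁻¹ (hinv f3 g33) _ h1
      rw [map_sub, ← cj_cj, inv_mul_cancel, cj_of_mem A.one_mem] at h2
      rw [show cj f3⁻¹ z - z = -(cj f3 z - z) by rw [← h2]; abel]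
      exact N.neg_mem h1
    have e : f1 * f2 * (f1 * f2) = val (z + cj f3⁻¹ z) * (f3 * f3)⁻¹ := by
      rw [val_add, val_cj, hzd, val_mo]; group
    rw [e]
    refine (sub N).mul_mem (mem_sub ?_) ((sub N).inv_mem hsq3)
    rw [show z + cj f3⁻¹ z = (cj f3⁻¹ z - z) + (z + z) by abel]
    exact N.add_mem g3' (hW2 z hzW)
  have hcm : f1 * f2 * f1⁻¹ * f2⁻¹ ∈ sub N := by
    have e : f1 * f2 * f1⁻¹ * f2⁻¹ =
        f1 * f2 * (f1 * f2) * (f2⁻¹ * (f1 * f1)⁻¹ * f2⁻¹⁻¹) * (f2 * f2)⁻¹ := by group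
    rw [e]
    exact (sub N).mul_mem ((sub N).mul_mem hsq12 (conjN _ (hinv f2 g23) _ ((sub N).inv_mem hsq1)))
      ((sub N).inv_mem hsq2)
  have nf : ∀ {x : X}, x ∈ A → ∀ t : Mo A, q (cj x t) = q t := fun hx t => by rw [cj_of_mem hx]
  have ne1 : q v1 ≠ 0 := fun e => K.ind.a_ne (by
    have := qeq.1 (e.trans (map_zero q).symm); rwa [sub_zero] at this)
  have hf1A : f1 ∉ A := fun e => ne1 (by
    have := nf e v3; rw [F3, add_eq_left] at this; exact this)
  have hf2A : f2 ∉ A := fun e => ne1 (by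
    have := nf e v2; rw [G2, add_eq_left] at this; exact this)
  have hf12A : f1⁻¹ * f2 ∉ A := fun e => ne1 (by
    have := qcj f1 (nf e v2)
    rw [← cj_cj, mul_inv_cancel_left, F2, G2, add_eq_left] at this
    exact this)
  refine section_contra hrk W N ?_ hW2 ![1, f1, f2] ?_ ?_ ?_ ?_ ?_
  · exact AddSubgroup.zmultiples_le.2 (hFW _ (D.two_mem v1))
  · intro i j hij
    fin_cases i <;> fin_cases j <;> simp at hij ⊢
    · exact hf1A hij
    · exact hf2A hij
    · exact hf1A hij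
    · exact hf12A hij
    · exact hf2A hij
    · exact hf12A (by simpa using A.inv_mem hij)
  · intro i t ht
    fin_cases i
    · simp [cj_of_mem A.one_mem]
    · exact g12 t ht
    · exact g22 t ht
  · intro i
    fin_cases i
    · simp
    · exact hsq1
    · exact hsq2
  · have hs1 : ∀ x : X, x * x * x⁻¹ * x⁻¹ = 1 := fun x => by group
    intro i j
    fin_cases i <;> fin_cases j
    all_goals first
      | exact hcm
      | (have := (sub N).inv_mem hcm; simpa [mul_assoc] using this)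
      | simp [hs1]
  · have hWc : 16 ≤ Nat.card W := by
      let f : fm A F × Fin 2 → W := fun p => ⟨(p.1 : Mo A) + (p.2 : ℕ) • v1,
        W.add_mem (hFW _ p.1.2) (W.nsmul_mem hv1 _)⟩
      have hf : Function.Injective f := by
        rintro ⟨t, i⟩ ⟨t', i'⟩ e
        have e' : (t : Mo A) + (i : ℕ) • v1 = (t' : Mo A) + (i' : ℕ) • v1 := congrArg Subtype.val e
        obtain ⟨e1, -, -⟩ := K.coeff_inj D i.2 two_pos two_pos i'.2 two_pos two_pos (j := 0) (k := 0)
          (j' := 0) (k' := 0) (by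
            simp only [zero_nsmul, add_zero]
            rw [show (i : ℕ) • v1 - (i' : ℕ) • v1 = ((t' : Mo A) - t) + (((t : Mo A) + (i : ℕ) • v1) -
              ((t' : Mo A) + (i' : ℕ) • v1)) by abel, e', sub_self, add_zero]
            exact (fm A F).sub_mem t'.2 t.2)
        rw [e1, add_left_inj, SetLike.coe_eq_coe] at e'
        simp [e', Fin.ext_iff, e1]
      have := Nat.card_le_card_of_injective f hf
      rw [Nat.card_prod, hcfm, Nat.card_fin] at this
      omega
    omega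

end Four

end Cfsg.Agent.L32Sections92
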