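import Mathlib
import Cfsg.Agent.Lib.L32Core92
import Cfsg.Agent.Lib.L32Sections92

/-!
Normal 2-subgroups with quotient a simple group of order 168 in groups of sectional 2-rank at
most 4: case analysis.
-/

set_option autoImplicit false
set_option linter.style.haveILetI false
set_option linter.unusedSectionVars false

namespace Cfsg.Agent.L32Cases92

open scoped Pointwise
open Cfsg.Agent.L32Natural92 Cfsg.Agent.L32Layers92 Cfsg.Agent.L32Core92 Cfsg.Agent.L32Sections92

variable {X L : Type*} [Group X] [Finite X] [Group L] {π : X →* L}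

/-- No group inverts a homocyclic normal subgroup of order 64. -/
theorem no_inverted (hrk : Cfsg.SectionalPRankLE 2 4 X) {Q H R : Subgroup X} (hker : π.ker = Q)
    (hab : ∀ a ∈ H, ∀ b ∈ H, a * b = b * a) (D : Four π H R) (hR : Nat.card R = 8) (hHQ : H ≤ Q) {p : X}
    (hp : p ∈ Q) (hinv : ∀ a ∈ H, p * a * p⁻¹ = a⁻¹) (hQ : ∀ q ∈ Q, q ∈ H ∨ p⁻¹ * q ∈ H) : False := by
  classical
  haveI := D.nat.nP
  haveI : IsMulCommutative H := ⟨⟨fun a b => Subtype.ext (hab a a.2 b b.2)⟩⟩
  obtain ⟨r, v1, v2, v3, K⟩ := D.exists_chain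
  obtain ⟨Δ, hΔ1, hΔ2, -⟩ := K.exists_det D hR
  have hΔH : ∀ a ∈ H, Δ a = 1 := fun a ha => hΔ1 a fun t => cj_of_mem ha t
  have hΔp : Δ p = -1 := hΔ2 p fun t => val_inj.1 (by
    rw [val_cj, val_neg]; exact hinv _ (val_mem t))
  have hu2 : ∀ u : (ZMod 4)ˣ, u = 1 ∨ u = -1 := by decide
  set Y := Δ.ker with hY
  have hHY : H ≤ Y := fun a ha => MonoidHom.mem_ker.2 (hΔH a ha)
  have hpY : p ∉ Y := fun h => by
    rw [hY, MonoidHom.mem_ker, hΔp] at h; exact absurd h (by decide)
  have hmemY : ∀ x, x ∈ Y ∨ x * p ∈ Y := fun x => by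
    rcases hu2 (Δ x) with h | h
    · exact Or.inl (MonoidHom.mem_ker.2 h)
    · exact Or.inr (MonoidHom.mem_ker.2 (by rw [map_mul, h, hΔp]; decide))
  have hpk : π p = 1 := MonoidHom.mem_ker.1 (hker.ge hp)
  let π' : Y →* L := π.comp Y.subtype
  have hs' : Function.Surjective π' := by
    intro l
    obtain ⟨x, rfl⟩ := D.nat.surj l
    rcases hmemY x with h | h
    · exact ⟨⟨x, h⟩, rfl⟩
    · exact ⟨⟨x * p, h⟩, by show π (x * p) = π x; rw [map_mul, hpk, mul_one]⟩
  have hker' : π'.ker = H.subgroupOf Y := by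
    ext y
    rw [MonoidHom.mem_ker, Subgroup.mem_subgroupOf]
    constructor
    · intro h
      rcases hQ _ (hker.le (MonoidHom.mem_ker.2 h)) with hm | hm
      · exact hm
      · exfalso
        apply hpY
        have := Y.mul_mem y.2 (Y.inv_mem (hHY hm))
        simpa [mul_assoc] using this
    · exact fun h => MonoidHom.mem_ker.1 (hker.ge (hHQ h))
  haveI : (H.subgroupOf Y).Normal := hker' ▸ inferInstance
  haveI : IsMulCommutative (H.subgroupOf Y) :=
    ⟨⟨fun a b => Subtype.ext (Subtype.ext (hab _ a.2 _ b.2))⟩⟩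
  have hRY : R ≤ Y := D.nat.le.trans hHY
  have hcR : Nat.card (R.subgroupOf Y) = Nat.card R :=
    Nat.card_congr (Subgroup.subgroupOfEquivOfLe hRY).toEquiv
  have D' : Four π' (H.subgroupOf Y) (R.subgroupOf Y) :=
    { hF := fun a => by
        simp only [Subgroup.mem_subgroupOf, D.hF, ← Subgroup.coe_mul, OneMemClass.coe_eq_one]
      h4 := fun a ha => Subtype.ext (D.h4 _ ha)
      nat :=
        { surj := hs'
          nP := inferInstance
          nZ := Subgroup.Normal.subgroupOf D.nat.nZ Y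
          le := fun a ha => Subgroup.mem_subgroupOf.2 (D.nat.le (Subgroup.mem_subgroupOf.1 ha))
          triv := fun q hq a ha => Subgroup.mem_subgroupOf.2 (D.nat.triv _ hq _ (Subgroup.mem_subgroupOf.1 ha))
          sq := fun a ha => Subgroup.mem_subgroupOf.2 (D.nat.sq _ (Subgroup.mem_subgroupOf.1 ha))
          big := D.nat.big
          card := by
            rw [hcR, Nat.card_congr (Subgroup.subgroupOfEquivOfLe hHY).toEquiv, D.nat.card]
          nt := by
            obtain ⟨x, a, ha, hxa⟩ := D.nat.nt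
            rcases hmemY x with h | h
            · exact ⟨⟨x, h⟩, ⟨a, hHY ha⟩, Subgroup.mem_subgroupOf.2 ha,
                fun m => hxa (Subgroup.mem_subgroupOf.1 m)⟩
            · refine ⟨⟨x * p, h⟩, ⟨a, hHY ha⟩, Subgroup.mem_subgroupOf.2 ha, fun m => hxa ?_⟩
              have m' : x * p * a * (x * p)⁻¹ * a⁻¹ ∈ R := Subgroup.mem_subgroupOf.1 m
              rw [show x * a * x⁻¹ * a⁻¹ =
                (x * (p * a * p⁻¹ * a⁻¹)⁻¹ * x⁻¹) * (x * p * a * (x * p)⁻¹ * a⁻¹) by group]
              exact R.mul_mem (D.nat.nZ.conj_mem _ (R.inv_mem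
                (D.nat.triv p (hker.ge hp) a ha)) x) m' } }
  exact D'.no_four_cubed (A5OTwo92.sectional_subgroup hrk Y) hker' (hcR.trans hR)

omit [Finite X] in
theorem mem_quot {M P : Subgroup X} [M.Normal] (hM : M ≤ P) {x : X}
    (h : QuotientGroup.mk' M x ∈ P.map (QuotientGroup.mk' M)) : x ∈ P := by
  obtain ⟨q, hq, he⟩ := h
  have hd : q⁻¹ * x ∈ M := QuotientGroup.eq.1 he
  simpa using P.mul_mem hq (hM hd)

theorem card_quot {M P : Subgroup X} [M.Normal] (hM : M ≤ P) :
    Nat.card (P.map (QuotientGroup.mk' M)) * Nat.card M = Nat.card P := by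
  set m := QuotientGroup.mk' M
  have h := Subgroup.card_eq_card_quotient_mul_card_subgroup (m.comp P.subtype).ker
  rw [Nat.card_congr (QuotientGroup.quotientKerEquivRange _).toEquiv, MonoidHom.range_comp,
    Subgroup.range_subtype, ← MonoidHom.comap_ker, QuotientGroup.ker_mk',
    show M.comap P.subtype = M.subgroupOf P from rfl,
    Nat.card_congr (Subgroup.subgroupOfEquivOfLe hM).toEquiv] at h
  exact h.symm

omit [Finite X] in
theorem nat8_of_comm {P Z : Subgroup X} (hs : Function.Surjective π) (hP : P.Normal) (hZ : Z.Normal)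
    (hle : Z ≤ P) (B : Big L) (hcard : Nat.card P = 8 * Nat.card Z) (hsq : ∀ p ∈ P, p * p ∈ Z)
    (htriv : ∀ q ∈ π.ker, ∀ p ∈ P, q * p * q⁻¹ * p⁻¹ ∈ Z)
    (hnt : ∃ x, ∃ p ∈ P, x * p * x⁻¹ * p⁻¹ ∉ Z) : Nat8 π P Z :=
  { surj := hs, nP := hP, nZ := hZ, le := hle, triv := htriv, sq := hsq, big := B, card := hcard,
    nt := hnt }

omit [Finite X] in
theorem mul_zpow_self' {t : X} (h : t * t = 1) (k : ℤ) : (1 : X) = t ^ k * t ^ k := by
  rw [← (Commute.refl t).mul_zpow, h, one_zpow]

/-- The square map on an abelian section with elements of order two of order 16. -/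
theorem no_fixed_square (hrk : Cfsg.SectionalPRankLE 2 4 X) {Q R Z : Subgroup X} {p : X}
    (hker : π.ker = Q) (hab : ∀ a ∈ Q, ∀ b ∈ Q, a * b = b * a) (D : Four π Q Z) (hZ : Nat.card Z = 16)
    (hRn : R.Normal) (hR : ∀ z, z ∈ R ↔ ∃ a ∈ Q, z = a * a) (hR8 : Nat.card R = 8)
    (hmod : ∀ x, x * p * x⁻¹ * p⁻¹ ∈ R) (hpQ : p ∈ Z)
    (hcos : ∀ z ∈ Z, z ∈ R ∨ z * p⁻¹ ∈ R) : False := by
  haveI := D.nat.nP
  haveI : IsMulCommutative Q := ⟨⟨fun a b => Subtype.ext (hab a a.2 b b.2)⟩⟩
  have hZQ := D.nat.le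
  by_cases hfix : ∃ z ∈ R, ∀ x, x * (z * p) = z * p * x
  · obtain ⟨z, hz, ht⟩ := hfix
    set t := z * p with htdef
    have htR : ∀ w ∈ R, w * t⁻¹ ∈ R → False := fun w hw h => by
      have hpR : p ∈ R := by
        have := R.mul_mem (R.inv_mem hz) (R.mul_mem (R.inv_mem h) hw)
        simpa [htdef, mul_assoc] using this
      have hle : Z ≤ R := fun y hy => (hcos y hy).elim id fun h' => by
        simpa using R.mul_mem h' hpR
      have := Subgroup.card_le_of_le hle
      omega
    have htZ : t ∈ Z := Z.mul_mem (by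
      obtain ⟨a, ha, rfl⟩ := (hR z).1 hz
      exact (D.hF _).2 ⟨Q.mul_mem ha ha, D.h4 a ha⟩) hpQ
    set T := Subgroup.zpowers t with hT
    have htt : t * t = 1 := ((D.hF t).1 htZ).2
    have hTmem : ∀ y ∈ T, y = 1 ∨ y = t := by
      intro y hy
      obtain ⟨n, rfl⟩ := Subgroup.mem_zpowers_iff.1 hy
      rcases Int.even_or_odd n with ⟨k, rfl⟩ | ⟨k, rfl⟩
      · left; rw [zpow_add, ← mul_zpow_self' htt]
      · right; rw [zpow_add, zpow_one, two_mul, zpow_add, ← mul_zpow_self' htt, one_mul]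
    haveI hTn : T.Normal := ⟨fun y hy x => by
      rcases hTmem y hy with rfl | rfl
      · simp
      · rw [ht x, mul_inv_cancel_right]; exact hy⟩
    have hTZ : T ≤ Z := Subgroup.zpowers_le.2 htZ
    set m := QuotientGroup.mk' T with hm
    have hms : Function.Surjective m := QuotientGroup.mk'_surjective T
    have hTk : T ≤ π.ker := hTZ.trans (hZQ.trans hker.ge)
    let π' : X ⧸ T →* L := QuotientGroup.lift T π fun y hy => hTk hy
    have hker' : π'.ker = Q.map m := by
      ext y
      obtain ⟨x, rfl⟩ := hms y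
      refine ⟨fun h => ⟨x, hker.le h, rfl⟩, fun h => ?_⟩
      exact hker.ge (mem_quot (hTZ.trans hZQ) h)
    haveI : (Q.map m).Normal := D.nat.nP.map m hms
    haveI : IsMulCommutative (Q.map m) := ⟨⟨by
      rintro ⟨_, a, ha, rfl⟩ ⟨_, b, hb, rfl⟩
      exact Subtype.ext (show m a * m b = m b * m a by rw [← map_mul, ← map_mul, hab a ha b hb])⟩⟩
    have D' : Four π' (Q.map m) (Z.map m) :=
      { hF := fun y => by
          constructor
          · rintro ⟨a, ha, rfl⟩
            exact ⟨⟨a, hZQ ha, rfl⟩, by rw [← map_mul, ((D.hF a).1 ha).2, map_one]⟩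
          · rintro ⟨⟨a, ha, rfl⟩, h2⟩
            rw [← map_mul] at h2
            rcases hTmem _ ((QuotientGroup.eq_one_iff _).1 h2) with h | h
            · exact ⟨a, (D.hF a).2 ⟨ha, h⟩, rfl⟩
            · exact (htR _ ((hR _).2 ⟨a, ha, rfl⟩) (by rw [h, mul_inv_cancel]; exact R.one_mem)).elim
        h4 := by
          rintro _ ⟨a, ha, rfl⟩
          rw [← map_mul, ← map_mul, D.h4 a ha, map_one]
        nat := nat8_of_comm (fun l => by obtain ⟨x, rfl⟩ := D.nat.surj l; exact ⟨m x, rfl⟩)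
          inferInstance (D.nat.nZ.map m hms) (Subgroup.map_mono hZQ) D.nat.big
          (by
            have h1 := card_quot (hTZ.trans hZQ)
            have h2 := card_quot hTZ
            have h3 := D.nat.card
            rw [← h1, ← h2, ← mul_assoc] at h3
            exact Nat.eq_of_mul_eq_mul_right Nat.card_pos h3)
          (by rintro _ ⟨a, ha, rfl⟩; exact ⟨_, D.nat.sq a ha, map_mul _ _ _⟩)
          (by
            intro y hy w hw
            obtain ⟨x, rfl⟩ := hms y
            obtain ⟨a, ha, rfl⟩ := hw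
            exact ⟨_, D.nat.triv x hy a ha, by simp only [map_mul, map_inv]⟩)
          (by
            obtain ⟨x, a, ha, hxa⟩ := D.nat.nt
            refine ⟨m x, m a, ⟨a, ha, rfl⟩, fun h => hxa (mem_quot hTZ ?_)⟩
            rw [map_mul, map_mul, map_mul, map_inv, map_inv]; exact h) }
    refine D'.no_four_cubed (A5OTwo92.sectional_of_surjective hrk m hms) hker' ?_
    have h2 := card_quot hTZ
    have ht1 : t ≠ 1 := fun h => htR 1 R.one_mem (by rw [h, inv_one, mul_one]; exact R.one_mem)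
    have hTc : Nat.card T = 2 := by rw [Nat.card_zpowers, orderOf_eq_prime (p := 2) (by rw [pow_two, htt]) ht1]
    rw [hZ, hTc] at h2
    exact Nat.eq_of_mul_eq_mul_right two_pos (h2.trans (by norm_num))
  · push Not at hfix
    refine D.no_nonsplit hrk hker.ge hZ (fun x h _ => hker.le (by rw [MonoidHom.mem_ker, map_pow, h]))
      (fun x t ht => (hR _).1 ?_) fun x h4 h2 t ht hxt => ?_
    · rcases hcos t ht with h | h
      · exact R.mul_mem (hRn.conj_mem t h x) (R.inv_mem h)
      · rw [show x * t * x⁻¹ * t⁻¹ = (x * (t * p⁻¹) * x⁻¹) * (x * p * x⁻¹ * p⁻¹) * (t * p⁻¹)⁻¹ by group]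
        exact R.mul_mem (R.mul_mem (hRn.conj_mem _ h x) (hmod x)) (R.inv_mem h)
    · rcases hcos t ht with h | h
      · exact (hR t).1 h
      · exact absurd hxt (no_fix4 D.nat.surj D.nat.big hRn hR8 hmod
          (fun q hq z hz => hab q (hker.le hq) z (by
            obtain ⟨a, ha, rfl⟩ := (hR z).1 hz; exact Q.mul_mem ha ha))
          (fun q hq => hab q (hker.le hq) p (hZQ hpQ))
          (fun z hz hall => by obtain ⟨x, hx⟩ := hfix z hz; exact hx (hall x)) h h4 h2)

variable {Q : Subgroup X}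

/-- Quotient of order 8 over a group of order 2. -/
theorem caseA (C : Core π Q) {ρ : X} (hR : ∀ z, z ∈ sqs Q ↔ z = 1 ∨ z = ρ) (hρ : ρ ≠ 1)
    (hcard : Nat.card Q = 8 * Nat.card (sqs Q)) : False := by
  haveI := sqs_normal C.normal
  have hfix : ∀ x, x * ρ = ρ * x := fun x => by
    rcases (hR _).1 ((sqs_normal C.normal).conj_mem ρ ((hR ρ).2 (Or.inr rfl)) x) with h | h
    · exact absurd (conj_eq_one_iff.1 h) hρ
    · exact mul_inv_eq_iff_eq_mul.1 h
  have N : Nat8 π Q (sqs Q) := { C.sec with big := C.big, card := hcard, nt := C.faith }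
  have hcent : ∀ z ∈ sqs Q, ∀ x, x * z = z * x := fun z hz x => fixed_two hR hfix hz x
  have hρ2 : ρ * ρ = 1 := by
    rcases (hR _).1 ((sqs Q).mul_mem ((hR ρ).2 (Or.inr rfl)) ((hR ρ).2 (Or.inr rfl))) with h | h
    · exact h
    · exact absurd (mul_eq_left.1 h) hρ
  have hz2 : ∀ z ∈ sqs Q, z * z = 1 := fun z hz => by
    rcases (hR z).1 hz with rfl | rfl
    · simp
    · exact hρ2
  have hsame : ∀ a ∈ Q, a ∉ sqs Q → ∀ b ∈ Q, b ∉ sqs Q → b * b = a * a := by
    intro a ha haR b hb hbR
    obtain ⟨x, hx⟩ := N.trans ha haR hb hbR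
    set z := x * a * x⁻¹ * b⁻¹ with hz
    have e : x * (a * a) * x⁻¹ = z * b * (z * b) := by rw [hz]; group
    rw [hcent _ (sq_mem ha), mul_inv_cancel_right, show z * b * (z * b) = z * (b * z) * b by group,
      hcent z hx b, show z * (z * b) * b = z * z * (b * b) by group, hz2 z hx, one_mul] at e
    exact e.symm
  obtain ⟨x0, p, hp, hxp⟩ := C.faith
  have hpR : p ∉ sqs Q := fun h => hxp ((sqs Q).mul_mem
    ((sqs_normal C.normal).conj_mem p h x0) ((sqs Q).inv_mem h))
  rcases (hR _).1 (sq_mem hp) with he | he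
  · have : sqs Q ≤ ⊥ := (Subgroup.closure_le _).2 fun _ ⟨q, hq, e⟩ => by
      rw [← e, SetLike.mem_coe, Subgroup.mem_bot]
      by_cases hqR : q ∈ sqs Q
      · exact hz2 q hqR
      · rw [hsame p hp hpR q hq hqR, he]
    exact hρ (Subgroup.mem_bot.1 (this ((hR ρ).2 (Or.inr rfl))))
  · obtain ⟨b, c, hI⟩ := N.exists_ind hp hpR
    have key : ∀ d ∈ Q, d ∉ sqs Q → d * p⁻¹ ∉ sqs Q → p * d * p⁻¹ * d⁻¹ = ρ := by
      intro d hd hdR hdp
      have hpd : p * d ∉ sqs Q := fun h => hdp (by
        have h' := (sqs Q).mul_mem h ((sqs Q).inv_mem (sq_mem hp))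
        rw [show p * d * (p * p)⁻¹ = p * (d * p⁻¹) * p⁻¹ by group] at h'
        simpa [mul_assoc] using (sqs_normal C.normal).conj_mem _ h' p⁻¹)
      rw [show p * d * p⁻¹ * d⁻¹ = p * d * (p * d) * (d⁻¹ * (p * p)⁻¹ * d⁻¹⁻¹) * (d * d)⁻¹ by group,
        hcent _ ((sqs Q).inv_mem (sq_mem hp)) d⁻¹, mul_inv_cancel_right,
        hsame p hp hpR _ (Q.mul_mem hp hd) hpd, hsame p hp hpR d hd hdR, he, mul_inv_cancel, one_mul,
        inv_eq_of_mul_eq_one_right hρ2]
    have h1 := key b hI.bP hI.b_ne hI.b_ne_a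
    have h2 := key c hI.cP hI.c_ne hI.c_ne_a
    have hJ := N.cycle hI
    have h3 := key (b * c) hJ.cP hJ.c_ne hJ.c_ne_a
    rw [show p * (b * c) * p⁻¹ * (b * c)⁻¹ = p * b * p⁻¹ * b⁻¹ * (b * (p * c * p⁻¹ * c⁻¹) * b⁻¹) by group,
      h1, h2, hfix b, mul_inv_cancel_right, hρ2] at h3
    exact hρ h3.symm

theorem nat8_R_le {R : Subgroup X} (SR : Nat8 π R ⊥) : Nat.card R = 8 := by
  have := SR.card
  rwa [Subgroup.card_bot, mul_one] at this

theorem no_fixed_R {R : Subgroup X} (SR : Nat8 π R ⊥) {a : X} (ha : a ∈ R)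
    (h : ∀ x, x * a * x⁻¹ = a) : a = 1 := by
  by_contra hne
  have hne' : a ∉ (⊥ : Subgroup X) := fun e => hne (Subgroup.mem_bot.1 e)
  obtain ⟨b, c, hI⟩ := SR.exists_ind ha hne'
  obtain ⟨x, hx⟩ := SR.trans ha hne' hI.bP hI.b_ne
  rw [h x, Subgroup.mem_bot, mul_inv_eq_one] at hx
  exact hI.b_ne_a (by rw [hx, mul_inv_cancel]; exact one_mem _)

/-- A nontrivial natural group is the set of squares as soon as one square is nontrivial. -/
theorem squares_surj {K R : Subgroup X} (SR : Nat8 π R ⊥) (hK : K.Normal) {a : X} (ha : a ∈ K)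
    (haR : a * a ∈ R) (h1 : a * a ≠ 1) {z : X} (hz : z ∈ R) : ∃ b ∈ K, z = b * b := by
  by_cases hz1 : z = 1
  · exact ⟨1, K.one_mem, by rw [hz1, one_mul]⟩
  · obtain ⟨x, hx⟩ := SR.trans haR (fun e => h1 (Subgroup.mem_bot.1 e)) hz
      (fun e => hz1 (Subgroup.mem_bot.1 e))
    rw [Subgroup.mem_bot, mul_inv_eq_one] at hx
    exact ⟨x * a * x⁻¹, hK.conj_mem a ha x, by rw [← hx]; group⟩

/-- Quotient of order 8 over a natural group. -/
theorem caseB (C : Core π Q) (SR : Nat8 π (sqs Q) ⊥) (hcard : Nat.card Q = 8 * Nat.card (sqs Q))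
    (hcen : ∀ z ∈ sqs Q, ∀ k ∈ Q, z * k = k * z) (hexp : ∀ z ∈ sqs Q, z * z = 1) : False := by
  haveI := C.normal
  have N : Nat8 π Q (sqs Q) := { C.sec with big := C.big, card := hcard, nt := C.faith }
  rcases abel_sq8 N SR le_rfl hcen hexp (fun k hk => sq_mem hk) with h | ⟨hab, hiff⟩
  · have : sqs Q ≤ ⊥ := (Subgroup.closure_le _).2 fun _ ⟨q, hq, e⟩ => by
      rw [← e, SetLike.mem_coe, Subgroup.mem_bot, h q hq]
    have h8 := Subgroup.card_le_of_le this
    rw [Subgroup.card_bot, nat8_R_le SR] at h8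
    omega
  · haveI : IsMulCommutative Q := ⟨⟨fun a b => Subtype.ext (hab a a.2 b b.2)⟩⟩
    have D : Four π Q (sqs Q) :=
      { nat := N
        hF := fun a => ⟨fun h => ⟨sqs_le h, (hiff a (sqs_le h)).2 h⟩, fun h => (hiff a h.1).1 h.2⟩
        h4 := fun a ha => hexp _ (sq_mem ha) }
    exact D.no_four_cubed C.rk C.ker (nat8_R_le SR)

theorem conj_in_K {K : Subgroup X} (hK : K.Normal) (hKQ : K ≤ Q) (hQn : Q.Normal)
    (hidx : Nat.card Q = 2 * Nat.card K) {y : X} (hy : y ∈ Q) (hyK : y ∉ K) {q : X} (hq : q ∈ Q) :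
    q ∈ K ∨ y⁻¹ * q ∈ K := by
  have hi : (K.subgroupOf Q).index = 2 := by
    have := (K.subgroupOf Q).card_mul_index
    rw [Nat.card_congr (Subgroup.subgroupOfEquivOfLe hKQ).toEquiv, hidx, mul_comm 2] at this
    exact Nat.eq_of_mul_eq_mul_left Nat.card_pos this
  by_cases hqK : q ∈ K
  · exact Or.inl hqK
  · refine Or.inr ?_
    have := (Subgroup.mul_mem_iff_of_index_two hi (a := ⟨y, hy⟩⁻¹) (b := ⟨q, hq⟩)).2
      (iff_of_false (by rw [inv_mem_iff]; exact hyK) hqK)
    exact this

/-- An element outside an abelian subgroup of index two with natural layer and commutators in a group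
fixed pointwise centralizes it. -/
theorem centralize {K R : Subgroup X} (S : Nat8 π K R) (hKQ : K ≤ Q) (hQn : Q.Normal)
    (hidx : Nat.card Q = 2 * Nat.card K) (habK : ∀ a ∈ K, ∀ b ∈ K, a * b = b * a) {y : X} (hy : y ∈ Q)
    (hyK : y ∉ K) (hfixR : ∀ z ∈ R, ∀ x, x * z = z * x) (hyR : ∀ z ∈ R, y * z = z * y)
    (hcomm : ∀ a ∈ K, ∃ z, (∀ x, x * z = z * x) ∧ z * z = 1 ∧ y * a * y⁻¹ * a⁻¹ = z) :
    ∀ a ∈ K, y * a = a * y := by
  intro a ha
  by_cases haR : a ∈ R
  · exact hyR a haR
  have hKn := S.nP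
  have const : ∀ b ∈ K, b ∉ R → y * b * y⁻¹ * b⁻¹ = y * a * y⁻¹ * a⁻¹ := by
    intro b hb hbR
    obtain ⟨x, hx⟩ := S.trans ha haR hb hbR
    obtain ⟨z, hz, -, e⟩ := hcomm a ha
    set w := x * a * x⁻¹ * b⁻¹ with hw
    set y' := x * y * x⁻¹ with hy'
    have h1 : y' * (w * b) * y'⁻¹ * (w * b)⁻¹ = z := by
      rw [show y' * (w * b) * y'⁻¹ * (w * b)⁻¹ = x * (y * a * y⁻¹ * a⁻¹) * x⁻¹ by
        rw [hw, hy']; group, e, hz x, mul_inv_cancel_right]
    have hy'K : y' ∉ K := fun h => hyK (by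
      simpa [hy', mul_assoc] using hKn.conj_mem _ h x⁻¹)
    rcases conj_in_K hKn hKQ hQn hidx hy hyK (hQn.conj_mem y hy x) with h | h
    · exact absurd h hy'K
    · set k := y⁻¹ * y' with hk
      have e2 : y' = y * k := by rw [hk, mul_inv_cancel_left]
      have hwb : k * (w * b) = w * b * k := habK k h _ (K.mul_mem (S.le hx) hb)
      rw [e2, show y * k * (w * b) * (y * k)⁻¹ * (w * b)⁻¹ =
          y * (k * (w * b) * k⁻¹) * y⁻¹ * (w * b)⁻¹ by group, hwb, mul_inv_cancel_right] at h1
      rw [e, ← h1, show y * (w * b) * y⁻¹ * (w * b)⁻¹ =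
        (y * w * y⁻¹ * w⁻¹) * (w * (y * b * y⁻¹ * b⁻¹) * w⁻¹) by group, comm_eq_one_iff.2 (hyR w hx), one_mul]
      obtain ⟨z', hz', -, eb⟩ := hcomm b hb
      rw [eb, hz' w, mul_inv_cancel_right]
  obtain ⟨b, c, hI⟩ := S.exists_ind ha haR
  obtain ⟨z, hz, hz2, e⟩ := hcomm a ha
  have hab := S.cycle hI
  have h3 := const (b * c) hab.cP hab.c_ne
  rw [show y * (b * c) * y⁻¹ * (b * c)⁻¹ = y * b * y⁻¹ * b⁻¹ * (b * (y * c * y⁻¹ * c⁻¹) * b⁻¹) by group,
    const b hI.bP hI.b_ne, const c hI.cP hI.c_ne, e, hz b, mul_inv_cancel_right, hz2] at h3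
  exact comm_eq_one_iff.1 (e.trans h3.symm)

theorem abelian_of_index_two {K : Subgroup X} (hK : K.Normal) (hKQ : K ≤ Q) (hQn : Q.Normal)
    (hidx : Nat.card Q = 2 * Nat.card K) (habK : ∀ a ∈ K, ∀ b ∈ K, a * b = b * a) {y : X} (hy : y ∈ Q)
    (hyK : y ∉ K) (h : ∀ a ∈ K, y * a = a * y) : ∀ a ∈ Q, ∀ b ∈ Q, a * b = b * a := by
  have form : ∀ q ∈ Q, ∃ k ∈ K, q = k ∨ q = y * k := fun q hq =>
    (conj_in_K hK hKQ hQn hidx hy hyK hq).elim (fun hk => ⟨q, hk, Or.inl rfl⟩)
      fun hk => ⟨_, hk, Or.inr (mul_inv_cancel_left y q).symm⟩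
  intro a ha b hb
  obtain ⟨k, hk, ea⟩ := form a ha
  obtain ⟨l, hl, eb⟩ := form b hb
  rcases ea with rfl | rfl <;> rcases eb with rfl | rfl
  · exact habK _ hk _ hl
  · rw [← mul_assoc, ← h a hk, mul_assoc, habK a hk l hl, ← mul_assoc]
  · rw [mul_assoc, habK k hk b hl, ← mul_assoc, h b hl, mul_assoc]
  · calc y * k * (y * l) = y * (k * y) * l := by group
      _ = y * (y * k) * l := by rw [h k hk]
      _ = y * y * (k * l) := by group
      _ = y * y * (l * k) := by rw [habK k hk l hl]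
      _ = y * (y * l) * k := by group
      _ = y * (l * y) * k := by rw [h l hl]
      _ = y * l * (y * k) := by group

/-- A section of two layers of orders two and eight carrying a nontrivial action. -/
theorem Core_nt_top (C : Core π Q) {Z : Subgroup X} (hFZ : sqs Q ≤ Z) (hZQ : Z ≤ Q)
    (hZtriv : ∀ x, ∀ z ∈ Z, x * z * x⁻¹ * z⁻¹ ∈ sqs Q) :
    ∃ x, ∃ p ∈ Q, x * p * x⁻¹ * p⁻¹ ∉ Z := by
  by_contra h
  push Not at h
  exact C.no_series Z hFZ hZQ hZtriv h

/-- Quotient of order 16 over a group of order 2. -/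
theorem caseC (C : Core π Q) {ρ : X} (hR : ∀ z, z ∈ sqs Q ↔ z = 1 ∨ z = ρ) (hρ : ρ ≠ 1)
    (hcard : Nat.card Q = 16 * Nat.card (sqs Q)) : ∀ a ∈ Q, ∀ b ∈ Q, a * b = b * a := by
  haveI := sqs_normal C.normal
  haveI := C.normal
  have hfix : ∀ x, x * ρ = ρ * x := fun x => by
    rcases (hR _).1 ((sqs_normal C.normal).conj_mem ρ ((hR ρ).2 (Or.inr rfl)) x) with h | h
    · exact absurd (conj_eq_one_iff.1 h) hρ
    · exact mul_inv_eq_iff_eq_mul.1 h
  have hcent : ∀ z ∈ sqs Q, ∀ x, x * z = z * x := fun z hz x => fixed_two hR hfix hz x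
  have hz2 : ∀ z ∈ sqs Q, z * z = 1 := fun z hz => by
    rcases (hR z).1 hz with rfl | rfl
    · simp
    · rcases (hR _).1 ((sqs Q).mul_mem hz hz) with h | h
      · exact h
      · exact absurd (mul_eq_left.1 h) hρ
  have hcomm : ∀ a ∈ Q, ∀ b ∈ Q, a * b * a⁻¹ * b⁻¹ ∈ sqs Q := fun a ha b hb => comm_mem ha hb
  rcases C.sec.fixed_or_hyperplane C.big hcard C.faith with ⟨p, hp, hpR, hpfix⟩ | ⟨K, hK, hFK, hKQ, hKc⟩
  · set Z := sqs Q ⊔ Subgroup.zpowers p with hZ
    have hZQ : Z ≤ Q := sup_le sqs_le (Subgroup.zpowers_le.2 hp)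
    have hpZ : p ∈ Z := Subgroup.mem_sup_right (Subgroup.mem_zpowers p)
    have hZmem : ∀ z, z ∈ Z ↔ z ∈ sqs Q ∨ z * p⁻¹ ∈ sqs Q := by
      intro z
      refine ⟨fun hz => ?_, fun h => h.elim (fun h => Subgroup.mem_sup_left h) fun h => by
        simpa using Z.mul_mem (Subgroup.mem_sup_left h) hpZ⟩
      rw [hZ, Subgroup.mem_sup_of_normal_left] at hz
      obtain ⟨a, ha, q, hq, rfl⟩ := hz
      obtain ⟨n, rfl⟩ := Subgroup.mem_zpowers_iff.1 hq
      have h2 : ∀ k : ℤ, p ^ (k + k) ∈ sqs Q := fun k => by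
        rw [zpow_add, ← (Commute.refl p).mul_zpow]; exact (sqs Q).zpow_mem (sq_mem hp) k
      rcases Int.even_or_odd n with ⟨k, rfl⟩ | ⟨k, rfl⟩
      · exact Or.inl ((sqs Q).mul_mem ha (h2 k))
      · refine Or.inr ?_
        rw [zpow_add, zpow_one, two_mul, ← mul_assoc, mul_inv_cancel_right]
        exact (sqs Q).mul_mem ha (h2 k)
    haveI hZn : Z.Normal := ⟨fun z hz x => by
      rcases (hZmem z).1 hz with h | h
      · exact Subgroup.mem_sup_left ((sqs_normal C.normal).conj_mem z h x)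
      · refine (hZmem _).2 (Or.inr ?_)
        rw [show x * z * x⁻¹ * p⁻¹ = (x * (z * p⁻¹) * x⁻¹) * (x * p * x⁻¹ * p⁻¹) by group]
        exact (sqs Q).mul_mem ((sqs_normal C.normal).conj_mem _ h x) (hpfix x)⟩
    have hZc : Nat.card Z = 2 * Nat.card (sqs Q) := by
      have hi : ((sqs Q).subgroupOf Z).index = 2 := by
        rw [Subgroup.index_eq_two_iff]
        refine ⟨⟨p, hpZ⟩⁻¹, fun b => ?_⟩
        rcases (hZmem b).1 b.2 with h | h
        · refine Or.inr ⟨h, fun hb => hpR ?_⟩
          have h' : (b : X) * p⁻¹ ∈ sqs Q := hb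
          simpa using (sqs Q).mul_mem ((sqs Q).inv_mem h') h
        · refine Or.inl ⟨h, fun hb => hpR ?_⟩
          have h' : (b : X) ∈ sqs Q := hb
          simpa using (sqs Q).mul_mem ((sqs Q).inv_mem h) h'
      have h := ((sqs Q).subgroupOf Z).card_mul_index
      rw [hi, Nat.card_congr (Subgroup.subgroupOfEquivOfLe (show sqs Q ≤ Z from le_sup_left)).toEquiv] at h
      omega
    have hZtriv : ∀ x, ∀ z ∈ Z, x * z * x⁻¹ * z⁻¹ ∈ sqs Q := fun x z hz => by
      rcases (hZmem z).1 hz with h | h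
      · exact (sqs Q).mul_mem ((sqs_normal C.normal).conj_mem z h x) ((sqs Q).inv_mem h)
      · rw [show x * z * x⁻¹ * z⁻¹ =
          (x * (z * p⁻¹) * x⁻¹) * (x * p * x⁻¹ * p⁻¹) * (z * p⁻¹)⁻¹ by group]
        exact (sqs Q).mul_mem ((sqs Q).mul_mem ((sqs_normal C.normal).conj_mem _ h x) (hpfix x))
          ((sqs Q).inv_mem h)
    have hnt := Core_nt_top C (le_sup_left) hZQ hZtriv
    have N : Nat8 π Q Z := nat8_of_comm C.surj C.normal hZn hZQ C.big (by rw [hcard, hZc]; ring)
      (fun q hq => Subgroup.mem_sup_left (sq_mem hq))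
      (fun q hq a ha => Subgroup.mem_sup_left (comm_mem (C.ker.le hq) ha)) hnt
    -- the fixed coset is central
    have hpc : ∀ k ∈ Q, p * k = k * p := by
      by_contra hne
      push Not at hne
      obtain ⟨k, hk, hkp⟩ := hne
      have hkZ : k ∉ Z := fun h => hkp (by
        rcases (hZmem k).1 h with h | h
        · exact (hcent k h p)
        · rw [show k = k * p⁻¹ * p by group, ← mul_assoc, hcent _ h p, mul_assoc])
      have hall : ∀ b ∈ Q, b ∉ Z → p * b * p⁻¹ * b⁻¹ = ρ := by
        intro b hb hbZ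
        rcases (hR _).1 (hcomm p hp b hb) with h | h
        · exfalso
          obtain ⟨x, hx⟩ := N.trans hb hbZ hk hkZ
          apply hkp
          set w := x * b * x⁻¹ * k⁻¹ with hw
          set p' := x * p * x⁻¹ with hp'
          have e1 : p' * (w * k) = w * k * p' := by
            calc p' * (w * k) = x * (p * b) * x⁻¹ := by rw [hw, hp']; group
              _ = x * (b * p) * x⁻¹ := by rw [comm_eq_one_iff.1 h]
              _ = w * k * p' := by rw [hw, hp']; group
          have hp'p : p' = (x * p * x⁻¹ * p⁻¹) * p := by rw [hp']; group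
          rw [hp'p] at e1
          set z := x * p * x⁻¹ * p⁻¹ with hz
          have hzc := hcent z (hpfix x)
          have hwp : p * w = w * p := by
            rcases (hZmem w).1 hx with h | h
            · exact hcent w h p
            · rw [show w = w * p⁻¹ * p by group, ← mul_assoc, hcent _ h p, mul_assoc]
          have e2 : z * (w * (p * k)) = z * (w * (k * p)) := by
            calc z * (w * (p * k)) = z * (w * p * k) := by group
              _ = z * (p * w * k) := by rw [hwp]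
              _ = z * p * (w * k) := by group
              _ = w * k * (z * p) := e1
              _ = w * k * z * p := by group
              _ = z * (w * k) * p := by rw [hzc (w * k)]
              _ = z * (w * (k * p)) := by group
          exact mul_left_cancel (mul_left_cancel e2)
        · exact h
      obtain ⟨b, c, hI⟩ := N.exists_ind hk hkZ
      have hJ := N.cycle hI
      have h3 := hall (b * c) hJ.cP hJ.c_ne
      rw [show p * (b * c) * p⁻¹ * (b * c)⁻¹ = p * b * p⁻¹ * b⁻¹ * (b * (p * c * p⁻¹ * c⁻¹) * b⁻¹) by group,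
        hall b hI.bP hI.b_ne, hall c hI.cP hI.c_ne, hfix b, mul_inv_cancel_right,
        hz2 ρ ((hR ρ).2 (Or.inr rfl))] at h3
      exact hρ h3.symm
    refine abel8 N (fun z hz k hk => ?_) hR hfix hcomm
    rcases (hZmem z).1 hz with h | h
    · exact (hcent z h k).symm
    · rw [show z = z * p⁻¹ * p by group, mul_assoc, hpc k hk, ← mul_assoc, ← hcent _ h k, mul_assoc]
  · obtain ⟨y, hy, hyK⟩ : ∃ y ∈ Q, y ∉ K := by
      by_contra h
      push Not at h
      have := Subgroup.card_le_of_le (show Q ≤ K from h)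
      have := Nat.card_pos (α := sqs Q)
      omega
    have hidx : Nat.card Q = 2 * Nat.card K := by rw [hcard, hKc]; ring
    have hnt : ∃ x, ∃ k ∈ K, x * k * x⁻¹ * k⁻¹ ∉ sqs Q := by
      by_contra h
      push Not at h
      refine C.no_series K hFK hKQ h fun x q hq => ?_
      rcases conj_in_K hK hKQ C.normal hidx hy hyK hq with hk | hk
      · exact K.mul_mem (hK.conj_mem q hk x) (K.inv_mem hk)
      · have hq' : q ∉ K := fun h' => hyK (by simpa using K.mul_mem h' (K.inv_mem hk))
        rcases conj_in_K hK hKQ C.normal hidx hq hq' (C.normal.conj_mem q hq x) with h' | h'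
        · exact absurd (by simpa [mul_assoc] using hK.conj_mem _ h' x⁻¹) hq'
        · simpa [mul_assoc] using hK.conj_mem _ h' q
    have N : Nat8 π K (sqs Q) := nat8_of_comm C.surj hK (sqs_normal C.normal) hFK C.big hKc
      (fun k hk => sq_mem (hKQ hk)) (fun q hq a ha => comm_mem (C.ker.le hq) (hKQ ha)) hnt
    have habK := abel8 N (fun z hz k hk => (hcent z hz k).symm) hR hfix
      (fun a ha b hb => hcomm a (hKQ ha) b (hKQ hb))
    exact abelian_of_index_two hK hKQ C.normal hidx habK hy hyK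
      (centralize N hKQ C.normal hidx habK hy hyK hcent (fun z hz => hcent z hz y)
        fun a ha => ⟨_, hcent _ (hcomm y hy a (hKQ ha)), hz2 _ (hcomm y hy a (hKQ ha)), rfl⟩)

/-- Elements outside an abelian subgroup of index two either centralize or invert it. -/
theorem central_or_invert {K Z R : Subgroup X} (S : Nat8 π K Z) (SR : Nat8 π R ⊥) (hKQ : K ≤ Q)
    (hQn : Q.Normal) (hidx : Nat.card Q = 2 * Nat.card K) (habK : ∀ a ∈ K, ∀ b ∈ K, a * b = b * a)
    (hsq : ∀ a ∈ K, a * a ∈ R) (hsqZ : ∀ a ∈ K, a * a = 1 ↔ a ∈ Z) {y : X} (hy : y ∈ Q) (hyK : y ∉ K)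
    (hyZ : ∀ z ∈ Z, y * z = z * y) (hRcen : ∀ z ∈ R, ∀ q ∈ Q, z * q = q * z)
    (hcomm : ∀ a ∈ K, y * a * y⁻¹ * a⁻¹ ∈ R) :
    (∀ a ∈ K, y * a = a * y) ∨ ∀ a ∈ K, y * a * y⁻¹ = a⁻¹ := by
  have hKn := S.nP
  have hZc : ∀ z ∈ Z, ∀ b ∈ K, y * (z * b) * y⁻¹ * (z * b)⁻¹ = y * b * y⁻¹ * b⁻¹ := fun z hz b hb => by
    rw [show y * (z * b) * y⁻¹ * (z * b)⁻¹ = (y * z * y⁻¹ * z⁻¹) * (z * (y * b * y⁻¹ * b⁻¹) * z⁻¹) by group,
      comm_eq_one_iff.2 (hyZ z hz), one_mul, ← hRcen _ (hcomm b hb) z (hKQ (S.le hz)), mul_inv_cancel_right]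
  have hZs : ∀ z ∈ Z, ∀ b ∈ K, z * b * (z * b) = b * b := fun z hz b hb => by
    rw [mul_assoc, ← mul_assoc b, habK b hb z (S.le hz), mul_assoc z b, ← mul_assoc z z,
      (hsqZ z (S.le hz)).2 hz, one_mul]
  have equiv : ∀ x, ∀ a ∈ K, ∀ b ∈ K, x * a * x⁻¹ * b⁻¹ ∈ Z →
      x * (y * a * y⁻¹ * a⁻¹) * x⁻¹ = y * b * y⁻¹ * b⁻¹ := by
    intro x a ha b hb hx
    set w := x * a * x⁻¹ * b⁻¹ with hw
    have hy'K : x * y * x⁻¹ ∉ K := fun h => hyK (by simpa [mul_assoc] using hKn.conj_mem _ h x⁻¹)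
    obtain hk := (conj_in_K hKn hKQ hQn hidx hy hyK (hQn.conj_mem y hy x)).resolve_left hy'K
    set k := y⁻¹ * (x * y * x⁻¹) with hkd
    calc x * (y * a * y⁻¹ * a⁻¹) * x⁻¹
        = y * (k * (w * b) * k⁻¹) * y⁻¹ * (w * b)⁻¹ := by rw [hw, hkd]; group
      _ = y * (w * b) * y⁻¹ * (w * b)⁻¹ := by
          rw [habK k hk _ (K.mul_mem (S.le hx) hb), mul_inv_cancel_right]
      _ = y * b * y⁻¹ * b⁻¹ := hZc w hx b hb
  by_cases h1 : ∃ a ∈ K, a ∉ Z ∧ y * a = a * y
  · left
    obtain ⟨a, ha, haZ, hya⟩ := h1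
    intro b hb
    by_cases hbZ : b ∈ Z
    · exact hyZ b hbZ
    · obtain ⟨x, hx⟩ := S.trans ha haZ hb hbZ
      refine comm_eq_one_iff.1 ?_
      rw [← equiv x a ha b hb hx, comm_eq_one_iff.2 hya, mul_one, mul_inv_cancel]
  · push Not at h1
    right
    have main : ∀ a ∈ K, a ∉ Z → y * a * y⁻¹ * a⁻¹ = a * a := by
      intro a ha haZ
      have ha2 : a * a ∉ (⊥ : Subgroup X) := fun h => haZ ((hsqZ a ha).1 (Subgroup.mem_bot.1 h))
      have hst : ∀ x, x * (a * a) * x⁻¹ * (a * a)⁻¹ ∈ (⊥ : Subgroup X) →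
          x * (y * a * y⁻¹ * a⁻¹) * x⁻¹ * (y * a * y⁻¹ * a⁻¹)⁻¹ ∈ (⊥ : Subgroup X) := fun x hx => by
        rw [Subgroup.mem_bot, mul_inv_eq_one] at hx ⊢
        have hxa : x * a * x⁻¹ * a⁻¹ ∈ Z := by
          refine (hsqZ _ (K.mul_mem (hKn.conj_mem a ha x) (K.inv_mem ha))).1 ?_
          have hc := habK (x * a * x⁻¹) (hKn.conj_mem a ha x) a⁻¹ (K.inv_mem ha)
          calc x * a * x⁻¹ * a⁻¹ * (x * a * x⁻¹ * a⁻¹)
              = x * a * x⁻¹ * (a⁻¹ * (x * a * x⁻¹)) * a⁻¹ := by group
            _ = x * a * x⁻¹ * (x * a * x⁻¹ * a⁻¹) * a⁻¹ := by rw [hc]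
            _ = (x * (a * a) * x⁻¹) * (a * a)⁻¹ := by group
            _ = 1 := by rw [hx, mul_inv_cancel]
        exact equiv x a ha a ha hxa
      rcases SR.stab_fixed (hsq a ha) ha2 (hcomm a ha) hst with h | h
      · exact absurd (comm_eq_one_iff.1 (Subgroup.mem_bot.1 h)) (h1 a ha haZ)
      · rw [Subgroup.mem_bot, mul_inv_eq_one] at h; exact h
    intro a ha
    by_cases haZ : a ∈ Z
    · rw [hyZ a haZ, mul_inv_cancel_right]
      exact eq_inv_of_mul_eq_one_left ((hsqZ a ha).2 haZ)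
    · have h4 : a * a * (a * a) = 1 := by
        have := SR.sq (a * a) (hsq a ha)
        exact Subgroup.mem_bot.1 this
      rw [mul_inv_eq_iff_eq_mul.1 (main a ha haZ)]
      exact eq_inv_of_mul_eq_one_left (by rw [mul_assoc]; exact h4)

/-- Quotient of order 16 over a natural group. -/
theorem caseD (C : Core π Q) (SR : Nat8 π (sqs Q) ⊥) (hcard : Nat.card Q = 16 * Nat.card (sqs Q))
    (hcen : ∀ z ∈ sqs Q, ∀ k ∈ Q, z * k = k * z) (hexp : ∀ z ∈ sqs Q, z * z = 1) : False := by
  classical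
  haveI := sqs_normal C.normal
  haveI := C.normal
  set R := sqs Q with hRdef
  have hR8 : Nat.card R = 8 := nat8_R_le SR
  obtain ⟨q0, hq0, hq01⟩ : ∃ q ∈ Q, q * q ≠ 1 := by
    by_contra h
    push Not at h
    have : R ≤ ⊥ := (Subgroup.closure_le _).2 fun _ ⟨q, hq, e⟩ => by
      rw [← e, SetLike.mem_coe, Subgroup.mem_bot, h q hq]
    have h8 := Subgroup.card_le_of_le this
    rw [Subgroup.card_bot, hR8] at h8
    omega
  by_cases hfixed : ∃ p ∈ Q, p ∉ R ∧ ∀ x, x * p * x⁻¹ * p⁻¹ ∈ R
  · obtain ⟨p, hp, hpR, hpfix⟩ := hfixed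
    have hp2 : p * p = 1 := by
      refine no_fixed_R SR (sq_mem hp) fun x => ?_
      set w := x * p * x⁻¹ * p⁻¹ with hw
      calc x * (p * p) * x⁻¹ = w * p * (w * p) := by rw [hw]; group
        _ = w * (p * w) * p := by group
        _ = w * (w * p) * p := by rw [hcen w (hpfix x) p hp]
        _ = w * w * (p * p) := by group
        _ = p * p := by rw [hexp w (hpfix x), one_mul]
    set Z := R ⊔ Subgroup.zpowers p with hZ
    have hZQ : Z ≤ Q := sup_le sqs_le (Subgroup.zpowers_le.2 hp)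
    have hpZ : p ∈ Z := Subgroup.mem_sup_right (Subgroup.mem_zpowers p)
    have hpow : ∀ n : ℤ, p ^ n = 1 ∨ p ^ n = p := fun n => by
      rcases Int.even_or_odd n with ⟨k, rfl⟩ | ⟨k, rfl⟩
      · left; rw [zpow_add, ← mul_zpow_self' hp2]
      · right; rw [zpow_add, zpow_one, two_mul, zpow_add, ← mul_zpow_self' hp2, one_mul]
    have hZmem : ∀ z, z ∈ Z ↔ z ∈ R ∨ z * p⁻¹ ∈ R := by
      intro z
      refine ⟨fun hz => ?_, fun h => h.elim (fun h => Subgroup.mem_sup_left h) fun h => by
        simpa using Z.mul_mem (Subgroup.mem_sup_left h) hpZ⟩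
      rw [hZ, Subgroup.mem_sup_of_normal_left] at hz
      obtain ⟨a, ha, q, hq, rfl⟩ := hz
      obtain ⟨n, rfl⟩ := Subgroup.mem_zpowers_iff.1 hq
      rcases hpow n with h | h <;> rw [h]
      · exact Or.inl (by rwa [mul_one])
      · exact Or.inr (by rwa [mul_inv_cancel_right])
    haveI hZn : Z.Normal := ⟨fun z hz x => by
      rcases (hZmem z).1 hz with h | h
      · exact Subgroup.mem_sup_left ((sqs_normal C.normal).conj_mem z h x)
      · refine (hZmem _).2 (Or.inr ?_)
        rw [show x * z * x⁻¹ * p⁻¹ = (x * (z * p⁻¹) * x⁻¹) * (x * p * x⁻¹ * p⁻¹) by group]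
        exact R.mul_mem ((sqs_normal C.normal).conj_mem _ h x) (hpfix x)⟩
    have hZ2 : ∀ z ∈ Z, z * z = 1 := fun z hz => by
      rcases (hZmem z).1 hz with h | h
      · exact hexp z h
      · set w := z * p⁻¹ with hw
        have e : z = w * p := by rw [hw, inv_mul_cancel_right]
        calc z * z = w * (p * w) * p := by rw [e]; group
          _ = w * (w * p) * p := by rw [hcen w h p hp]
          _ = w * w * (p * p) := by group
          _ = 1 := by rw [hexp w h, hp2, one_mul]
    have hZc : Nat.card Z = 16 := by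
      have hi : (R.subgroupOf Z).index = 2 := by
        rw [Subgroup.index_eq_two_iff]
        refine ⟨⟨p, hpZ⟩⁻¹, fun b => ?_⟩
        rcases (hZmem b).1 b.2 with h | h
        · refine Or.inr ⟨h, fun hb => hpR ?_⟩
          have h' : (b : X) * p⁻¹ ∈ R := hb
          simpa using R.mul_mem (R.inv_mem h') h
        · refine Or.inl ⟨h, fun hb => hpR ?_⟩
          have h' : (b : X) ∈ R := hb
          simpa using R.mul_mem (R.inv_mem h) h'
      have h := (R.subgroupOf Z).card_mul_index
      rw [hi, Nat.card_congr (Subgroup.subgroupOfEquivOfLe (show R ≤ Z from le_sup_left)).toEquiv, hR8] at h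
      omega
    have hZtriv : ∀ x, ∀ z ∈ Z, x * z * x⁻¹ * z⁻¹ ∈ R := fun x z hz => by
      rcases (hZmem z).1 hz with h | h
      · exact R.mul_mem ((sqs_normal C.normal).conj_mem z h x) (R.inv_mem h)
      · rw [show x * z * x⁻¹ * z⁻¹ =
          (x * (z * p⁻¹) * x⁻¹) * (x * p * x⁻¹ * p⁻¹) * (z * p⁻¹)⁻¹ by group]
        exact R.mul_mem (R.mul_mem ((sqs_normal C.normal).conj_mem _ h x) (hpfix x)) (R.inv_mem h)
    have N : Nat8 π Q Z := nat8_of_comm C.surj C.normal hZn hZQ C.big (by rw [hcard, hR8, hZc])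
      (fun q hq => Subgroup.mem_sup_left (sq_mem hq))
      (fun q hq a ha => Subgroup.mem_sup_left (comm_mem (C.ker.le hq) ha))
      (Core_nt_top C le_sup_left hZQ hZtriv)
    by_cases hpc : ∀ k ∈ Q, p * k = k * p
    · have hZcen : ∀ z ∈ Z, ∀ k ∈ Q, z * k = k * z := fun z hz k hk => by
        rcases (hZmem z).1 hz with h | h
        · exact hcen z h k hk
        · rw [show z = z * p⁻¹ * p by group, mul_assoc, hpc k hk, ← mul_assoc, hcen _ h k hk, mul_assoc]
      rcases abel_sq8 N SR le_sup_left hZcen hZ2 (fun k hk => sq_mem hk) with h | ⟨hab, hiff⟩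
      · exact hq01 (h q0 hq0)
      · haveI : IsMulCommutative Q := ⟨⟨fun a b => Subtype.ext (hab a a.2 b b.2)⟩⟩
        have D : Four π Q Z :=
          { nat := N
            hF := fun a => ⟨fun h => ⟨hZQ h, (hiff a (hZQ h)).2 h⟩, fun h => (hiff a h.1).1 h.2⟩
            h4 := fun a ha => hexp _ (sq_mem ha) }
        refine no_fixed_square C.rk C.ker hab D hZc (sqs_normal C.normal) (fun z => ⟨fun hz => ?_, ?_⟩)
          hR8 hpfix hpZ (fun z hz => (hZmem z).1 hz)
        · exact squares_surj SR C.normal hq0 (sq_mem hq0) hq01 hz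
        · rintro ⟨a, ha, rfl⟩; exact sq_mem ha
    · push Not at hpc
      obtain ⟨k0, hk0, hk0p⟩ := hpc
      set c := fun a : X => a⁻¹ * p * a * p⁻¹ with hcdef
      have hcR : ∀ a ∈ Q, c a ∈ R := fun a ha => by
        have := hpfix a⁻¹
        rwa [inv_inv] at this
      have hcZ : ∀ a ∈ Q, ∀ z ∈ Z, c (z * a) = c a := fun a ha z hz => by
        have hzp : z⁻¹ * p * z = p := by
          rcases (hZmem z).1 hz with h | h
          · rw [mul_assoc, ← hcen z h p hp, inv_mul_cancel_left]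
          · set w := z * p⁻¹ with hw
            have e : z = w * p := by rw [hw, inv_mul_cancel_right]
            rw [e, show (w * p)⁻¹ * p * (w * p) = p⁻¹ * (w⁻¹ * (p * w)) * p by group,
              ← hcen w h p hp, inv_mul_cancel_left, inv_mul_cancel, one_mul]
        show (z * a)⁻¹ * p * (z * a) * p⁻¹ = a⁻¹ * p * a * p⁻¹
        rw [show (z * a)⁻¹ * p * (z * a) * p⁻¹ = a⁻¹ * (z⁻¹ * p * z) * a * p⁻¹ by group, hzp]
      have hcmul : ∀ a ∈ Q, ∀ b ∈ Q, c (a * b) = c a * c b := fun a ha b hb => by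
        calc c (a * b) = b⁻¹ * (c a * p) * b * p⁻¹ := by simp only [hcdef]; group
          _ = b⁻¹ * (p * c a) * b * p⁻¹ := by rw [hcen _ (hcR a ha) p hp]
          _ = b⁻¹ * p * (c a * b) * p⁻¹ := by group
          _ = b⁻¹ * p * (b * c a) * p⁻¹ := by rw [hcen _ (hcR a ha) b hb]
          _ = c b * (p * c a * p⁻¹) := by simp only [hcdef]; group
          _ = c b * c a := by rw [← hcen _ (hcR a ha) p hp, mul_inv_cancel_right]
          _ = c a * c b := hcen _ (hcR b hb) _ (sqs_le (hcR a ha))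
      have hconjc : ∀ x, ∀ a ∈ Q, x * c a * x⁻¹ = c (x * a * x⁻¹) := fun x a ha => by
        set w := x * p * x⁻¹ * p⁻¹ with hw
        have ha' : x * a * x⁻¹ ∈ Q := C.normal.conj_mem a ha x
        calc x * c a * x⁻¹ = (x * a * x⁻¹)⁻¹ * (w * p) * (x * a * x⁻¹) * (w * p)⁻¹ := by
              simp only [hcdef, hw]; group
          _ = (x * a * x⁻¹)⁻¹ * w * p * (x * a * x⁻¹) * p⁻¹ * w⁻¹ := by group
          _ = w * (x * a * x⁻¹)⁻¹ * p * (x * a * x⁻¹) * p⁻¹ * w⁻¹ := by
              rw [← hcen w (hpfix x) _ (Q.inv_mem ha')]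
          _ = w * c (x * a * x⁻¹) * w⁻¹ := by simp only [hcdef]; group
          _ = c (x * a * x⁻¹) := by
              rw [hcen w (hpfix x) _ (sqs_le (hcR _ ha')), mul_inv_cancel_right]
      have hk0Z : k0 ∉ Z := fun h => hk0p (by
        rcases (hZmem k0).1 h with h | h
        · exact (hcen k0 h p hp).symm
        · rw [show k0 = k0 * p⁻¹ * p by group, ← mul_assoc, ← hcen _ h p hp, mul_assoc])
      have hck0 : c k0 ≠ 1 := fun e => hk0p (by
        have : k0⁻¹ * p * k0 = p := mul_inv_eq_one.1 e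
        calc p * k0 = k0 * (k0⁻¹ * p * k0) := by group
          _ = k0 * p := by rw [this])
      have hc1 : ∀ a ∈ Q, c a = 1 ↔ a ∈ Z := by
        intro a ha
        constructor
        · intro h
          by_contra haZ
          obtain ⟨x, hx⟩ := N.trans ha haZ hk0 hk0Z
          apply hck0
          have := hcZ k0 hk0 _ hx
          rw [inv_mul_cancel_right, ← hconjc x a ha, h, mul_one, mul_inv_cancel] at this
          exact this.symm
        · intro h
          have h1' := hcZ 1 Q.one_mem a h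
          rw [mul_one] at h1'
          rw [h1']; simp [hcdef]
      have hc2 : ∀ a ∈ Q, c a * c a = 1 := fun a ha => hexp _ (hcR a ha)
      have hap : ∀ a ∈ Q, a * p * (a * p) = a * a * c a := fun a ha => by
        calc a * p * (a * p) = a * a * (a⁻¹ * p * a * p⁻¹) * (p * p) := by group
          _ = a * a * c a := by rw [hp2, mul_one]
      have hcinv : ∀ a ∈ Q, c a⁻¹ = c a := fun a ha => by
        have h := hcmul a ha a⁻¹ (Q.inv_mem ha)
        rw [mul_inv_cancel, show c 1 = 1 by simp [hcdef]] at h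
        rw [eq_inv_of_mul_eq_one_right h.symm, inv_eq_of_mul_eq_one_right (hc2 a ha)]
      have hpa : ∀ a ∈ Q, p * a * (p * a) = c a * (a * a) := fun a ha => by
        have hcc : p⁻¹ = p := inv_eq_of_mul_eq_one_right hp2
        calc p * a * (p * a) = p * a * p⁻¹ * a := by rw [hcc]; group
          _ = (c a⁻¹)⁻¹ * (a * a) := by simp only [hcdef]; group
          _ = c a * (a * a) := by rw [hcinv a ha, inv_eq_of_mul_eq_one_right (hc2 a ha)]
      -- each coset has one lift with trivial square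
      have hdich : ∀ a ∈ Q, a ∉ Z → a * a = 1 ∨ a * a = c a := by
        intro a ha haZ
        by_contra hne
        push Not at hne
        have h1 : c a ∉ (⊥ : Subgroup X) := fun h => haZ ((hc1 a ha).1 (Subgroup.mem_bot.1 h))
        have h2 : a * a ∉ (⊥ : Subgroup X) := fun h => hne.1 (Subgroup.mem_bot.1 h)
        have h3 : a * a * (c a)⁻¹ ∉ (⊥ : Subgroup X) := fun h => hne.2 (by
          rwa [Subgroup.mem_bot, mul_inv_eq_one] at h)
        obtain ⟨b, d, hI⟩ := SR.exists_ind (hcR a ha) h1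
        obtain ⟨e, he, he1, hec, hea, heac⟩ : ∃ e ∈ R, e ∉ (⊥ : Subgroup X) ∧
            e * (c a)⁻¹ ∉ (⊥ : Subgroup X) ∧ e ≠ a * a ∧ e ≠ a * a * c a := by
          by_cases hb : b ≠ a * a ∧ b ≠ a * a * c a
          · exact ⟨b, hI.bP, hI.b_ne, hI.b_ne_a, hb.1, hb.2⟩
          have hb' : b = a * a ∨ b = a * a * c a := by
            by_cases h : b = a * a
            · exact Or.inl h
            · exact Or.inr (by_contra fun h' => hb ⟨h, h'⟩)
          refine ⟨d, hI.cP, hI.c_ne, hI.c_ne_a, fun e => ?_, fun e => ?_⟩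
          · rcases hb' with h | h
            · exact hI.c_ne_b (by rw [e, h, mul_inv_cancel]; exact one_mem _)
            · refine hI.c_ne_ab (Subgroup.mem_bot.2 (mul_inv_eq_one.2 ?_))
              rw [e, h, hcen _ (hcR a ha) _ (Q.mul_mem (Q.mul_mem ha ha) (sqs_le (hcR a ha))), mul_assoc,
                hc2 a ha, mul_one]
          · rcases hb' with h | h
            · refine hI.c_ne_ab (Subgroup.mem_bot.2 (mul_inv_eq_one.2 ?_))
              rw [e, h, hcen _ (hcR a ha) _ (Q.mul_mem ha ha)]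
            · exact hI.c_ne_b (by rw [e, h, mul_inv_cancel]; exact one_mem _)
        obtain ⟨x, hx1, hx2⟩ := SR.two_trans (hcR a ha) (sq_mem ha) (hcR a ha) he h1 h2 h3 h1 he1 hec
        rw [Subgroup.mem_bot, mul_inv_eq_one] at hx1 hx2
        have hxa : x * a * x⁻¹ ∈ Q := C.normal.conj_mem a ha x
        have hw : x * a * x⁻¹ * a⁻¹ ∈ Z := by
          refine (hc1 _ (Q.mul_mem hxa (Q.inv_mem ha))).1 ?_
          rw [hcmul _ hxa _ (Q.inv_mem ha), ← hconjc x a ha, hx1, hcinv a ha, hc2 a ha]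
        have hx2' : x * a * x⁻¹ * (x * a * x⁻¹) = e := by rw [← hx2]; group
        rcases (hZmem _).1 hw with h | h
        · apply hea
          set w := x * a * x⁻¹ * a⁻¹ with hwd
          rw [← hx2']
          calc x * a * x⁻¹ * (x * a * x⁻¹) = w * (a * w) * a := by rw [hwd]; group
            _ = w * (w * a) * a := by rw [hcen w h a ha]
            _ = w * w * (a * a) := by group
            _ = a * a := by rw [hexp w h, one_mul]
        · apply heac
          set w := x * a * x⁻¹ * a⁻¹ * p⁻¹ with hwd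
          have hpa' : p * a * (p * a) = a * a * c a := by
            rw [hpa a ha, hcen _ (hcR a ha) _ (Q.mul_mem ha ha)]
          rw [← hx2']
          calc x * a * x⁻¹ * (x * a * x⁻¹) = w * (p * a * w) * (p * a) := by rw [hwd]; group
            _ = w * (w * (p * a)) * (p * a) := by rw [hcen w h _ (Q.mul_mem hp ha)]
            _ = w * w * (p * a * (p * a)) := by group
            _ = a * a * c a := by rw [hexp w h, one_mul, hpa']
      -- pairs of lifts with nontrivial square
      have hpair : ∀ a ∈ Q, ∀ b ∈ Q, a ∉ Z → b ∉ Z → b * a⁻¹ ∉ Z → a * a = c a → b * b = c b →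
          a * b = b * a ∨ a * b * a⁻¹ * b⁻¹ = c a * c b := by
        intro a ha b hb haZ hbZ hba hA hB
        have hab : a * b ∉ Z := fun h => by
          have h1' := (hc1 _ (Q.mul_mem ha hb)).2 h
          rw [hcmul a ha b hb] at h1'
          exact hba ((hc1 _ (Q.mul_mem hb (Q.inv_mem ha))).1 (by
            rw [hcmul b hb _ (Q.inv_mem ha), hcinv a ha, hcen _ (hcR b hb) _ (sqs_le (hcR a ha)), h1']))
        set γ := a * b * a⁻¹ * b⁻¹ with hγ
        have hγR : γ ∈ R := comm_mem ha hb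
        have hsq : a * b * (a * b) = γ⁻¹ * (c a * c b) := by
          rw [← hA, ← hB]
          calc a * b * (a * b) = a * (γ⁻¹ * (a * b)) * b := by rw [hγ]; group
            _ = (a * γ⁻¹) * (a * (b * b)) := by group
            _ = (γ⁻¹ * a) * (a * (b * b)) := by rw [hcen _ (R.inv_mem hγR) a ha]
            _ = γ⁻¹ * (a * a * (b * b)) := by group
        rcases hdich _ (Q.mul_mem ha hb) hab with h | h
        · right
          rw [hsq, inv_mul_eq_one] at h
          exact h
        · left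
          rw [hsq, hcmul a ha b hb, mul_eq_right, inv_eq_one] at h
          exact comm_eq_one_iff.1 h
      set H : Set X := {a | a ∈ Q ∧ (a ∈ R ∨ (a ∉ Z ∧ a * a = c a))} with hH
      have hHlift : ∀ a ∈ Q, a ∉ Z → a * a = c a ∨ (a * p * (a * p) = c (a * p)) := by
        intro a ha haZ
        rcases hdich a ha haZ with h | h
        · right
          rw [hap a ha, h, one_mul, hcmul a ha p hp, (hc1 p hp).2 hpZ, mul_one]
        · exact Or.inl h
      have hmove : ∀ x, ∀ a ∈ Q, a ∉ Z → a * a = c a → x * a * x⁻¹ ∈ Q ∧ x * a * x⁻¹ ∉ Z ∧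
          x * a * x⁻¹ * (x * a * x⁻¹) = c (x * a * x⁻¹) := by
        intro x a ha haZ hA
        refine ⟨C.normal.conj_mem a ha x, fun h => haZ (by simpa [mul_assoc] using hZn.conj_mem _ h x⁻¹), ?_⟩
        rw [← hconjc x a ha, ← hA]; group
      -- a chosen independent triple
      obtain ⟨b0, d0, hI0⟩ := N.exists_ind hk0 hk0Z
      have lift : ∀ a ∈ Q, a ∉ Z → ∃ a' ∈ Q, a' ∉ Z ∧ a' * a' = c a' ∧ a' * a⁻¹ ∈ Z := by
        intro a ha haZ
        rcases hHlift a ha haZ with h | h
        · exact ⟨a, ha, haZ, h, by rw [mul_inv_cancel]; exact one_mem _⟩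
        · exact ⟨a * p, Q.mul_mem ha hp, fun h' => haZ (by simpa using Z.mul_mem h' (Z.inv_mem hpZ)), h,
            hZn.conj_mem p hpZ a⟩
      obtain ⟨a1, ha1, ha1Z, hA1, e1⟩ := lift k0 hk0 hk0Z
      obtain ⟨a2, ha2, ha2Z, hA2, e2⟩ := lift b0 hI0.bP hI0.b_ne
      obtain ⟨a3, ha3, ha3Z, hA3, e3⟩ := lift d0 hI0.cP hI0.c_ne
      have hI := IndM.congr hZn hZQ hI0 e1 e2 e3
      have huniq : ∀ a ∈ Q, ∀ b ∈ Q, a ∉ Z → a * a = c a → b * b = c b → b * a⁻¹ ∈ Z → b * a⁻¹ ∈ R := by
        intro a ha b hb haZ hA hB h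
        rcases (hZmem _).1 h with h | h
        · exact h
        exfalso
        set w := b * a⁻¹ * p⁻¹ with hwd
        have hcb : c b = c a := by
          have := hcZ a ha (b * a⁻¹) ((hZmem _).2 (Or.inr h))
          rwa [inv_mul_cancel_right] at this
        have hcp : p⁻¹ = p := inv_eq_of_mul_eq_one_right hp2
        have hb2 : b * b = p * a * (p * a) := by
          calc b * b = w * (p * a * w) * (p * a) := by rw [hwd]; group
            _ = w * (w * (p * a)) * (p * a) := by rw [hcen w h _ (Q.mul_mem hp ha)]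
            _ = w * w * (p * a * (p * a)) := by group
            _ = _ := by rw [hexp w h, one_mul]
        have hpa' : p * a * (p * a) = 1 := by rw [hpa a ha, hA, hc2 a ha]
        rw [hB, hpa', hcb] at hb2
        exact haZ ((hc1 a ha).1 hb2)
      have htransfer : ∀ a ∈ Q, ∀ b ∈ Q, ∀ a' ∈ Q, ∀ b' ∈ Q, a ∉ Z → b ∉ Z → b * a⁻¹ ∉ Z → a' ∉ Z → b' ∉ Z →
          b' * a'⁻¹ ∉ Z → a * a = c a → b * b = c b → a' * a' = c a' → b' * b' = c b' →
          a * b = b * a → a' * b' = b' * a' := by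
        intro a ha b hb a' ha' b' hb' haZ hbZ hba ha'Z hb'Z hba' hA hB hA' hB' hcom
        obtain ⟨x, hxa, hxb⟩ := N.two_trans ha hb ha' hb' haZ hbZ hba ha'Z hb'Z hba'
        obtain ⟨m1, m2, m3⟩ := hmove x a ha haZ hA
        obtain ⟨n1, n2, n3⟩ := hmove x b hb hbZ hB
        have u := huniq a' ha' _ m1 ha'Z hA' m3 hxa
        have v := huniq b' hb' _ n1 hb'Z hB' n3 hxb
        set u' := x * a * x⁻¹ * a'⁻¹ with hu'
        set v' := x * b * x⁻¹ * b'⁻¹ with hv'
        have e : (u' * a') * (v' * b') = (v' * b') * (u' * a') := by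
          calc (u' * a') * (v' * b') = x * (a * b) * x⁻¹ := by rw [hu', hv']; group
            _ = x * (b * a) * x⁻¹ := by rw [hcom]
            _ = (v' * b') * (u' * a') := by rw [hu', hv']; group
        have e' : u' * v' * (a' * b') = u' * v' * (b' * a') := by
          calc u' * v' * (a' * b') = u' * (v' * a') * b' := by group
            _ = u' * (a' * v') * b' := by rw [hcen v' v a' ha']
            _ = u' * a' * (v' * b') := by group
            _ = v' * b' * (u' * a') := e
            _ = v' * (b' * u') * a' := by group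
            _ = v' * (u' * b') * a' := by rw [hcen u' u b' hb']
            _ = v' * u' * (b' * a') := by group
            _ = u' * v' * (b' * a') := by rw [hcen v' v u' (sqs_le u)]
        exact mul_left_cancel e'
      by_cases hcom : a1 * a2 = a2 * a1
      · -- the lifts with nontrivial square form an inverted homocyclic group
        have hall : ∀ a ∈ Q, ∀ b ∈ Q, a ∉ Z → b ∉ Z → a * a = c a → b * b = c b → a * b = b * a := by
          intro a ha b hb haZ hbZ hA hB
          by_cases hba : b * a⁻¹ ∈ Z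
          · have h := huniq a ha b hb haZ hA hB hba
            have := hcen _ h a ha
            rw [inv_mul_cancel_right] at this
            calc a * b = a * (b * a⁻¹ * a) := by rw [inv_mul_cancel_right]
              _ = a * (b * a⁻¹) * a := (mul_assoc _ _ _).symm
              _ = b * a := by rw [← this]
          · exact htransfer a1 ha1 a2 ha2 a ha b hb ha1Z ha2Z hI.b_ne_a haZ hbZ hba hA1 hA2 hA hB hcom
        have hHmul : ∀ a ∈ H, ∀ b ∈ H, a * b ∈ H ∧ a * b = b * a := by
          rintro a ⟨ha, haH⟩ b ⟨hb, hbH⟩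
          refine ⟨⟨Q.mul_mem ha hb, ?_⟩, ?_⟩
          · rcases haH with haR | ⟨haZ, hA⟩ <;> rcases hbH with hbR | ⟨hbZ, hB⟩
            · exact Or.inl (R.mul_mem haR hbR)
            · refine Or.inr ⟨fun h => hbZ (by simpa using Z.mul_mem (Z.inv_mem (Subgroup.mem_sup_left haR)) h), ?_⟩
              rw [hcZ b hb a (Subgroup.mem_sup_left haR), ← hB, mul_assoc, ← mul_assoc b, ← hcen a haR b hb,
                mul_assoc a b, ← mul_assoc, hexp a haR, one_mul]
            · refine Or.inr ⟨fun h => haZ (by simpa using Z.mul_mem h (Z.inv_mem (Subgroup.mem_sup_left hbR))), ?_⟩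
              rw [hcmul a ha b hb, (hc1 b hb).2 (Subgroup.mem_sup_left hbR), mul_one, ← hA, mul_assoc,
                ← mul_assoc b, hcen b hbR a ha, mul_assoc a b b, hexp b hbR, mul_one]
            · by_cases hab : a * b ∈ Z
              · left
                have hcab : c b = c a := by
                  have h1' := (hc1 _ (Q.mul_mem ha hb)).2 hab
                  rw [hcmul a ha b hb] at h1'
                  rw [eq_inv_of_mul_eq_one_right h1', inv_eq_of_mul_eq_one_right (hc2 a ha)]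
                have hba : b * a⁻¹ ∈ Z := (hc1 _ (Q.mul_mem hb (Q.inv_mem ha))).1 (by
                  rw [hcmul b hb _ (Q.inv_mem ha), hcinv a ha, hcab, hc2 a ha])
                have h := huniq a ha b hb haZ hA hB hba
                rw [show a * b = a * (b * a⁻¹) * a⁻¹ * (a * a) by group]
                exact R.mul_mem ((sqs_normal C.normal).conj_mem _ h a) (sq_mem ha)
              · refine Or.inr ⟨hab, ?_⟩
                rw [hcmul a ha b hb, ← hA, ← hB, mul_assoc, ← mul_assoc b,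
                  ← hall a ha b hb haZ hbZ hA hB, mul_assoc a b, ← mul_assoc]
          · rcases haH with haR | ⟨haZ, hA⟩
            · exact hcen a haR b hb
            · rcases hbH with hbR | ⟨hbZ, hB⟩
              · exact (hcen b hbR a ha).symm
              · exact hall a ha b hb haZ hbZ hA hB
        let U : Subgroup X :=
          { carrier := H
            mul_mem' := fun {a b} ha hb => (hHmul a ha b hb).1
            one_mem' := ⟨Q.one_mem, Or.inl R.one_mem⟩
            inv_mem' := by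
              rintro a ⟨ha, haH⟩
              refine ⟨Q.inv_mem ha, haH.imp (fun h => R.inv_mem h) fun ⟨haZ, hA⟩ => ⟨fun h => haZ (inv_mem_iff.1 h), ?_⟩⟩
              rw [hcinv a ha, ← mul_inv_rev, hA, inv_eq_of_mul_eq_one_right (hc2 a ha)] }
        have hUmem : ∀ a, a ∈ U ↔ a ∈ Q ∧ (a ∈ R ∨ (a ∉ Z ∧ a * a = c a)) := fun a => Iff.rfl
        have hUQ : U ≤ Q := fun a ha => ((hUmem a).1 ha).1
        have hRU : R ≤ U := fun a ha => (hUmem a).2 ⟨sqs_le ha, Or.inl ha⟩
        haveI hUn : U.Normal := ⟨fun a ha x => by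
          obtain ⟨haQ, haH⟩ := (hUmem a).1 ha
          refine (hUmem _).2 ⟨C.normal.conj_mem a haQ x, haH.imp (fun h => (sqs_normal C.normal).conj_mem a h x)
            fun ⟨haZ, hA⟩ => ?_⟩
          obtain ⟨-, h2, h3⟩ := hmove x a haQ haZ hA
          exact ⟨h2, h3⟩⟩
        have hQU : ∀ q ∈ Q, q ∈ U ∨ p⁻¹ * q ∈ U := by
          intro q hq
          by_cases hqZ : q ∈ Z
          · rcases (hZmem q).1 hqZ with h | h
            · exact Or.inl (hRU h)
            · refine Or.inr (hRU ?_)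
              rw [show p⁻¹ * q = p⁻¹ * (q * p⁻¹) * p⁻¹⁻¹ by group]
              exact (sqs_normal C.normal).conj_mem _ h _
          · rcases hdich q hq hqZ with h | h
            · refine Or.inr ((hUmem _).2 ⟨Q.mul_mem (Q.inv_mem hp) hq, Or.inr ⟨fun h' => hqZ (by
                simpa using Z.mul_mem hpZ h'), ?_⟩⟩)
              rw [inv_eq_of_mul_eq_one_right hp2, hcmul p hp q hq, (hc1 p hp).2 hpZ, one_mul]
              rw [hpa q hq, h, mul_one]
            · exact Or.inl ((hUmem q).2 ⟨hq, Or.inr ⟨hqZ, h⟩⟩)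
        have hpU : p ∉ U := fun h => by
          rcases ((hUmem p).1 h).2 with h | ⟨h, -⟩
          · exact hpR h
          · exact h hpZ
        have hUc : Nat.card U = 64 := by
          have hi : (U.subgroupOf Q).index = 2 := by
            rw [Subgroup.index_eq_two_iff']
            refine ⟨⟨p, hp⟩⁻¹, fun b => ?_⟩
            rcases hQU b b.2 with h | h
            · refine Or.inr ⟨h, fun hb => hpU ?_⟩
              have h' : p⁻¹ * (b : X) ∈ U := hb
              simpa using U.mul_mem h (U.inv_mem h')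
            · refine Or.inl ⟨h, fun hb => hpU ?_⟩
              have h' : (b : X) ∈ U := hb
              simpa using U.mul_mem h' (U.inv_mem h)
          have h := (U.subgroupOf Q).card_mul_index
          rw [hi, Nat.card_congr (Subgroup.subgroupOfEquivOfLe hUQ).toEquiv, hcard, hR8] at h
          omega
        have hsqU : ∀ a ∈ U, a * a = 1 ↔ a ∈ R := fun a ha => by
          refine ⟨fun h => ?_, hexp a⟩
          obtain ⟨haQ, hh | ⟨hZ', hA⟩⟩ := (hUmem a).1 ha
          · exact hh
          · exact absurd ((hc1 a haQ).1 (hA ▸ h)) hZ'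
        have hinvU : ∀ a ∈ U, p * a * p⁻¹ = a⁻¹ := fun a ha => by
          obtain ⟨haQ, hh | ⟨hZ', hA⟩⟩ := (hUmem a).1 ha
          · rw [← hcen a hh p hp, mul_inv_cancel_right]
            exact eq_inv_of_mul_eq_one_left (hexp a hh)
          · refine eq_inv_of_mul_eq_one_left ?_
            calc p * a * p⁻¹ * a = a * (c a) * a := by simp only [hcdef]; group
              _ = c a * (a * a) := by rw [← hcen _ (hcR a haQ) a haQ, mul_assoc]
              _ = 1 := by rw [hA, hc2 a haQ]
        have NU : Nat8 π U R := nat8_of_comm C.surj hUn (sqs_normal C.normal) hRU C.big (by rw [hUc, hR8])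
          (fun a ha => sq_mem (hUQ ha)) (fun q hq a ha => comm_mem (C.ker.le hq) (hUQ ha)) (by
            obtain ⟨x, a, ha, hxa⟩ := N.nt
            rcases hQU a ha with h | h
            · exact ⟨x, a, h, fun h' => hxa (Subgroup.mem_sup_left h')⟩
            · refine ⟨x, p⁻¹ * a, h, fun h' => hxa ?_⟩
              rw [show x * a * x⁻¹ * a⁻¹ =
                (x * p * x⁻¹) * ((x * (p⁻¹ * a) * x⁻¹ * (p⁻¹ * a)⁻¹)) * (x * p * x⁻¹)⁻¹ *
                  (x * p * x⁻¹ * p⁻¹) by group]
              exact Z.mul_mem (hZn.conj_mem _ (Subgroup.mem_sup_left h') _) (Subgroup.mem_sup_left (hpfix x)))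
        haveI : IsMulCommutative U := ⟨⟨fun a b => Subtype.ext (hHmul a a.2 b b.2).2⟩⟩
        have D : Four π U R :=
          { nat := NU
            hF := fun a => ⟨fun h => ⟨hRU h, hexp a h⟩, fun h => (hsqU a h.1).1 h.2⟩
            h4 := fun a ha => hexp _ (sq_mem (hUQ ha)) }
        exact no_inverted C.rk C.ker (fun a ha b hb => (hHmul a ha b hb).2) D hR8 hUQ hp hinvU hQU
      · -- the lifts with trivial square generate an elementary abelian group of order 64
        have hnc : ∀ a ∈ Q, ∀ b ∈ Q, a ∉ Z → b ∉ Z → b * a⁻¹ ∉ Z → a * a = c a → b * b = c b →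
            a * b * a⁻¹ * b⁻¹ = c a * c b := fun a ha b hb haZ hbZ hba hA hB =>
          (hpair a ha b hb haZ hbZ hba hA hB).resolve_left fun h => hcom
            (htransfer a ha b hb a1 ha1 a2 ha2 haZ hbZ hba ha1Z ha2Z hI.b_ne_a hA hB hA1 hA2 h)
        have hs : ∀ a ∈ Q, a * a = c a → a * p * (a * p) = 1 := fun a ha hA => by rw [hap a ha, hA, hc2 a ha]
        have hcs : ∀ a ∈ Q, ∀ b ∈ Q, a ∉ Z → b ∉ Z → b * a⁻¹ ∉ Z → a * a = c a → b * b = c b →
            a * p * (b * p) = b * p * (a * p) := by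
          intro a ha b hb haZ hbZ hba hA hB
          have e : a * b = (c a * c b) * (b * a) := by rw [← hnc a ha b hb haZ hbZ hba hA hB]; group
          have hpx : ∀ d ∈ Q, p * d = c d * (d * p) := fun d hd => by
            rw [← mul_assoc, hcen _ (hcR d hd) d hd]
            simp only [hcdef]; group
          calc a * p * (b * p) = a * (p * b) * p := by group
            _ = a * (c b * (b * p)) * p := by rw [hpx b hb]
            _ = c b * (a * b) * (p * p) := by
                rw [← mul_assoc a, ← hcen _ (hcR b hb) a ha]; group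
            _ = c b * (c a * c b * (b * a)) * (p * p) := by rw [e]
            _ = c a * (b * a) * (p * p) := by
                rw [hcen _ (hcR a ha) _ (sqs_le (hcR b hb)), show c b * (c b * c a * (b * a)) =
                  (c b * c b) * c a * (b * a) by group, hc2 b hb, one_mul]
            _ = b * (c a * (a * p)) * p := by
                rw [← mul_assoc b (c a), ← hcen _ (hcR a ha) b hb]; group
            _ = b * p * (a * p) := by rw [← hpx a ha]; group
        set S : Set X := (R : Set X) ∪ {a1 * p, a2 * p, a3 * p} with hS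
        have hSQ : ∀ s ∈ S, s ∈ Q := by
          rintro s (h | h | h | h)
          · exact sqs_le h
          all_goals rw [h]
          exacts [Q.mul_mem ha1 hp, Q.mul_mem ha2 hp, Q.mul_mem ha3 hp]
        have hbound := elem_le C.rk S (by
          have k12 := hcs a1 ha1 a2 ha2 ha1Z ha2Z hI.b_ne_a hA1 hA2
          have k13 := hcs a1 ha1 a3 ha3 ha1Z ha3Z hI.c_ne_a hA1 hA3
          have k23 := hcs a2 ha2 a3 ha3 ha2Z ha3Z hI.c_ne_b hA2 hA3
          rintro u (hu | hu | hu | hu) v (hv | hv | hv | hv)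
          all_goals first
            | exact hcen u hu v (hSQ v (Or.inl hv))
            | exact hcen u hu v (hSQ v (Or.inr (Or.inl hv)))
            | exact hcen u hu v (hSQ v (Or.inr (Or.inr (Or.inl hv))))
            | exact hcen u hu v (hSQ v (Or.inr (Or.inr (Or.inr hv))))
            | (refine (hcen v hv u ?_).symm; rw [hu]
               first | exact Q.mul_mem ha1 hp | exact Q.mul_mem ha2 hp | exact Q.mul_mem ha3 hp)
            | (rw [hu, hv]; done)
            | (rw [hu, hv]
               first | exact k12 | exact k12.symm | exact k13 | exact k13.symm | exact k23 | exact k23.symm))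
          (by
            rintro u (hu | hu | hu | hu)
            · exact hexp u hu
            all_goals rw [hu]
            exacts [hs a1 ha1 hA1, hs a2 ha2 hA2, hs a3 ha3 hA3])
        -- the subgroup generated is too large
        set E := Subgroup.closure S with hE
        have hRE : R ≤ E := fun r hr => Subgroup.subset_closure (Or.inl hr)
        have hEQ : E ≤ Q := (Subgroup.closure_le _).2 hSQ
        have hcover : Q ≤ E ⊔ Z := fun q hq => by
          obtain ⟨i, j, k, -, -, -, hz⟩ := N.eight hI hq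
          have m : ∀ t ∈ S, ∀ a, t = a * p → a ∈ E ⊔ Z := fun t ht a e => by
            rw [show a = t * p⁻¹ by rw [e, mul_inv_cancel_right]]
            exact (E ⊔ Z).mul_mem (Subgroup.mem_sup_left (Subgroup.subset_closure ht))
              (Subgroup.mem_sup_right (Z.inv_mem hpZ))
          have h1 := m _ (Or.inr (Or.inl rfl)) a1 rfl
          have h2 := m _ (Or.inr (Or.inr (Or.inl rfl))) a2 rfl
          have h3 := m _ (Or.inr (Or.inr (Or.inr rfl))) a3 rfl
          have := (E ⊔ Z).mul_mem (Subgroup.mem_sup_right hz)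
            ((E ⊔ Z).mul_mem ((E ⊔ Z).mul_mem ((E ⊔ Z).pow_mem h1 i) ((E ⊔ Z).pow_mem h2 j)) ((E ⊔ Z).pow_mem h3 k))
          rwa [inv_mul_cancel_right] at this
        have hQ2 : Nat.card Q ≤ Nat.card E * Nat.card (Subgroup.zpowers p) := by
          have hle : Q ≤ E ⊔ Subgroup.zpowers p := hcover.trans
            (sup_le le_sup_left (sup_le (hRE.trans le_sup_left) le_sup_right))
          have hset : ((E ⊔ Subgroup.zpowers p : Subgroup X) : Set X) ⊆ ((E : Set X) * (Subgroup.zpowers p : Set X)) := by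
            rw [Subgroup.coe_mul_of_right_le_normalizer_left]
            refine Subgroup.zpowers_le.2 (Subgroup.mem_normalizer_iff.2 fun n => ?_)
            have hn : ∀ n ∈ E, p * n * p⁻¹ ∈ E := fun n hn => by
              have hnQ := hEQ hn
              rw [show p * n * p⁻¹ = n * (n⁻¹ * p * n * p⁻¹) by group]
              exact E.mul_mem hn (hRE (hcR n hnQ))
            refine ⟨hn n, fun h => ?_⟩
            have := hn _ h
            rwa [show p * (p * n * p⁻¹) * p⁻¹ = (p * p) * n * (p * p)⁻¹ by group, hp2, one_mul, inv_one,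
              mul_one] at this
          calc Nat.card Q = (Q : Set X).ncard := (Nat.card_coe_set_eq _)
            _ ≤ ((E : Set X) * (Subgroup.zpowers p : Set X)).ncard :=
                Set.ncard_le_ncard (fun q hq => hset (hle hq)) (Set.toFinite _)
            _ ≤ Nat.card (E × Subgroup.zpowers p) := by
                rw [← Nat.card_coe_set_eq]
                exact Nat.card_le_card_of_surjective
                  (fun t : E × Subgroup.zpowers p => (⟨t.1.1 * t.2.1, Set.mul_mem_mul t.1.2 t.2.2⟩ :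
                    ((E : Set X) * (Subgroup.zpowers p : Set X) : Set X)))
                  (fun y => by
                    obtain ⟨_, a, ha, b, hb, rfl⟩ := y
                    exact ⟨(⟨a, ha⟩, ⟨b, hb⟩), rfl⟩)
            _ = _ := Nat.card_prod _ _
        have hpord : Nat.card (Subgroup.zpowers p) ≤ 2 := by
          rw [Nat.card_zpowers]
          exact Nat.le_of_dvd two_pos (orderOf_dvd_of_pow_eq_one (by rw [pow_two, hp2]))
        rw [hcard, hR8] at hQ2
        have h128 := hQ2.trans (Nat.mul_le_mul hbound hpord)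
        omega
  · rcases C.sec.fixed_or_hyperplane C.big hcard C.faith with ⟨p, hp, hpR, hpf⟩ | ⟨K, hK, hFK, hKQ, hKc⟩
    · exact hfixed ⟨p, hp, hpR, hpf⟩
    obtain ⟨y, hy, hyK⟩ : ∃ y ∈ Q, y ∉ K := by
      by_contra h
      push Not at h
      have := Subgroup.card_le_of_le (show Q ≤ K from h)
      rw [hcard, hKc, hR8] at this
      omega
    have hidx : Nat.card Q = 2 * Nat.card K := by rw [hcard, hKc]; ring
    have hnt : ∃ x, ∃ k ∈ K, x * k * x⁻¹ * k⁻¹ ∉ R := by
      by_contra h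
      push Not at h
      refine C.no_series K hFK hKQ h fun x q hq => ?_
      rcases conj_in_K hK hKQ C.normal hidx hy hyK hq with hk | hk
      · exact K.mul_mem (hK.conj_mem q hk x) (K.inv_mem hk)
      · have hq' : q ∉ K := fun h' => hyK (by simpa using K.mul_mem h' (K.inv_mem hk))
        rcases conj_in_K hK hKQ C.normal hidx hq hq' (C.normal.conj_mem q hq x) with h' | h'
        · exact absurd (by simpa [mul_assoc] using hK.conj_mem _ h' x⁻¹) hq'
        · simpa [mul_assoc] using hK.conj_mem _ h' q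
    have NK : Nat8 π K R := nat8_of_comm C.surj hK (sqs_normal C.normal) hFK C.big hKc
      (fun k hk => sq_mem (hKQ hk)) (fun q hq a ha => comm_mem (C.ker.le hq) (hKQ ha)) hnt
    rcases abel_sq8 NK SR le_rfl (fun z hz k hk => hcen z hz k (hKQ hk)) hexp
      (fun k hk => sq_mem (hKQ hk)) with h | ⟨habK, hiff⟩
    · have := elem_subgroup_le C.rk K h
      omega
    rcases central_or_invert NK SR hKQ C.normal hidx habK (fun a ha => sq_mem (hKQ ha)) hiff hy hyK
      (fun z hz => (hcen z hz y hy).symm) hcen (fun a ha => comm_mem hy (hKQ ha)) with hc | hinv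
    · have hab := abelian_of_index_two hK hKQ C.normal hidx habK hy hyK hc
      obtain ⟨k0, hk0, hk0R⟩ : ∃ k ∈ K, k ∉ R := by
        obtain ⟨x, k, hk, hxk⟩ := NK.nt
        exact ⟨k, hk, fun h => hxk (R.mul_mem ((sqs_normal C.normal).conj_mem k h x) (R.inv_mem h))⟩
      obtain ⟨k, hk, he⟩ := squares_surj SR hK hk0 (sq_mem (hKQ hk0))
        (fun e => hk0R ((hiff k0 hk0).1 e)) (sq_mem hy)
      set p := y * k⁻¹ with hpdef
      have hpQ : p ∈ Q := Q.mul_mem hy (Q.inv_mem (hKQ hk))
      have hpK : p ∉ K := fun h => hyK (by simpa [hpdef] using K.mul_mem h hk)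
      have hp2 : p * p = 1 := by
        calc p * p = y * (k⁻¹ * y) * k⁻¹ := by rw [hpdef]; group
          _ = y * (y * k⁻¹) * k⁻¹ := by rw [hab _ (Q.inv_mem (hKQ hk)) y hy]
          _ = y * y * (k * k)⁻¹ := by group
          _ = 1 := by rw [← he, mul_inv_cancel]
      refine hfixed ⟨p, hpQ, fun h => hpK (hFK h), fun x => ?_⟩
      have hxp : x * p * x⁻¹ ∈ Q := C.normal.conj_mem p hpQ x
      set w := x * p * x⁻¹ * p⁻¹ with hw
      have hwK : w ∈ K := by
        rcases conj_in_K hK hKQ C.normal hidx hpQ hpK hxp with h' | h'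
        · exact absurd (by simpa [mul_assoc] using hK.conj_mem _ h' x⁻¹) hpK
        · simpa [hw, mul_assoc] using hK.conj_mem _ h' p
      refine (hiff w hwK).1 ?_
      calc w * w = x * p * x⁻¹ * (p⁻¹ * (x * p * x⁻¹)) * p⁻¹ := by rw [hw]; group
        _ = x * p * x⁻¹ * ((x * p * x⁻¹) * p⁻¹) * p⁻¹ := by rw [hab _ (Q.inv_mem hpQ) _ hxp]
        _ = x * (p * p) * x⁻¹ * (p * p)⁻¹ := by group
        _ = 1 := by rw [hp2]; simp
    · haveI : IsMulCommutative K := ⟨⟨fun a b => Subtype.ext (habK a a.2 b b.2)⟩⟩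
      have D : Four π K R :=
        { nat := NK
          hF := fun a => ⟨fun h => ⟨hFK h, hexp a h⟩, fun h => (hiff a h.1).1 h.2⟩
          h4 := fun a ha => hexp _ (sq_mem (hKQ ha)) }
      exact no_inverted C.rk C.ker habK D hR8 hKQ hy hinv fun q hq => conj_in_K hK hKQ C.normal hidx hy hyK hq

end Cfsg.Agent.L32Cases92
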