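import Mathlib
import Cfsg.Agent.Lib.L32Cases92

/-!
The normal 2-subgroup with quotient a simple group of order 168 in a group of sectional 2-rank at
most 4.
-/

set_option autoImplicit false
set_option linter.style.haveILetI false
set_option linter.unusedSectionVars false

namespace Cfsg.Agent.L32Main92

open Cfsg.Agent.L32Natural92 Cfsg.Agent.L32Layers92 Cfsg.Agent.L32Core92 Cfsg.Agent.L32Sections92
  Cfsg.Agent.L32Cases92

/-- The conclusion. -/
def Goal {X : Type*} [Group X] (Q : Subgroup X) : Prop :=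
  (sqs Q = ⊥ ∧ (Nat.card Q = 8 ∨ Nat.card Q = 16)) ∨
    ((∀ a ∈ Q, ∀ b ∈ Q, a * b = b * a) ∧ Nat.card Q = 32 ∧ Nat.card (sqs Q) = 2)

variable {X L : Type*} [Group X] [Finite X] [Group L] {π : X →* L} {Q : Subgroup X}

/-- The subgroup of elements with square in a layer. -/
structure Omega (π : X →* L) (Q R Ω : Subgroup X) (y : X) : Prop where
  mem : ∀ a, a ∈ Ω ↔ a ∈ Q ∧ a * a ∈ R
  le : Ω ≤ Q
  normal : Ω.Normal
  Fle : sqs Q ≤ Ω
  cent : ∀ z ∈ sqs Q, ∀ q ∈ Q, q * z = z * q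
  hy : y ∈ Q
  hyΩ : y ∉ Ω
  idx : Nat.card Q = 2 * Nat.card Ω
  nat : Nat8 π Ω (sqs Q)
  Fcos : ∀ f ∈ sqs Q, f ∈ R ∨ f * (y * y)⁻¹ ∈ R
  hix : ∀ x, ∀ q ∈ Q, x * q * x⁻¹ * q⁻¹ ∈ Ω

theorem exists_omega (C : Core π Q) {R : Subgroup X} (hRn : R.Normal) (hRF : R ≤ sqs Q)
    (hcR : Nat.card (sqs Q) = 2 * Nat.card R) (hcard : Nat.card Q = 16 * Nat.card (sqs Q))
    (hcomm : ∀ a ∈ Q, ∀ b ∈ Q, a * b * a⁻¹ * b⁻¹ ∈ R)
    (hcen : ∀ z ∈ R, ∀ k ∈ Q, z * k = k * z) (hexp : ∀ z ∈ R, z * z = 1) :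
    ∃ Ω y, Omega π Q R Ω y := by
  haveI := C.normal
  haveI := sqs_normal C.normal
  set F := sqs Q with hF
  have hRQ : R ≤ Q := hRF.trans sqs_le
  have hFi : (R.subgroupOf F).index = 2 := by
    have h := (R.subgroupOf F).card_mul_index
    rw [Nat.card_congr (Subgroup.subgroupOfEquivOfLe hRF).toEquiv, hcR, mul_comm 2] at h
    exact Nat.eq_of_mul_eq_mul_left Nat.card_pos h
  have hFF : ∀ f ∈ F, ∀ g ∈ F, (f * g ∈ R ↔ (f ∈ R ↔ g ∈ R)) := fun f hf g hg =>
    Subgroup.mul_mem_iff_of_index_two hFi (a := ⟨f, hf⟩) (b := ⟨g, hg⟩)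
  have hFsq : ∀ f ∈ F, f * f ∈ R := fun f hf => (hFF f hf f hf).2 Iff.rfl
  have swap : ∀ a ∈ Q, ∀ b ∈ Q, ∃ r ∈ R, b * a = r * (a * b) ∧ a * b * (a * b) = r * (a * a * (b * b)) := by
    intro a ha b hb
    set r := b * a * b⁻¹ * a⁻¹ with hr
    refine ⟨r, hcomm b hb a ha, by rw [hr]; group, ?_⟩
    calc a * b * (a * b) = a * (b * a) * b := by group
      _ = a * (r * (a * b)) * b := by rw [hr]; group
      _ = a * r * (a * b * b) := by group
      _ = r * a * (a * b * b) := by rw [hcen r (hcomm b hb a ha) a ha]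
      _ = r * (a * a * (b * b)) := by group
  let Ω : Subgroup X :=
    { carrier := {a | a ∈ Q ∧ a * a ∈ R}
      one_mem' := ⟨Q.one_mem, by rw [one_mul]; exact R.one_mem⟩
      mul_mem' := fun {a b} ha hb => by
        obtain ⟨r, hr, -, e⟩ := swap a ha.1 b hb.1
        exact ⟨Q.mul_mem ha.1 hb.1, by rw [e]; exact R.mul_mem hr (R.mul_mem ha.2 hb.2)⟩
      inv_mem' := fun {a} ha => ⟨Q.inv_mem ha.1, by rw [← mul_inv_rev]; exact R.inv_mem ha.2⟩ }
  have mem : ∀ a, a ∈ Ω ↔ a ∈ Q ∧ a * a ∈ R := fun a => Iff.rfl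
  have hΩQ : Ω ≤ Q := fun a ha => ((mem a).1 ha).1
  have hΩn : Ω.Normal := ⟨fun a ha x => (mem _).2 ⟨C.normal.conj_mem a ((mem a).1 ha).1 x, by
    rw [show x * a * x⁻¹ * (x * a * x⁻¹) = x * (a * a) * x⁻¹ by group]
    exact hRn.conj_mem _ ((mem a).1 ha).2 x⟩⟩
  have hFΩ : F ≤ Ω := fun f hf => (mem f).2 ⟨sqs_le hf, hFsq f hf⟩
  obtain ⟨y, hy, hyΩ⟩ : ∃ y ∈ Q, y ∉ Ω := by
    by_contra h
    push Not at h
    have hle : F ≤ R := (Subgroup.closure_le _).2 fun _ ⟨q, hq, e⟩ => e ▸ ((mem q).1 (h q hq)).2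
    have := Subgroup.card_le_of_le hle
    have := Nat.card_pos (α := R)
    omega
  have hyR : y * y ∉ R := fun h => hyΩ ((mem y).2 ⟨hy, h⟩)
  have hcent : ∀ z ∈ F, ∀ q ∈ Q, q * z = z * q := by
    intro z hz
    induction hz using Subgroup.closure_induction with
    | mem w hw =>
      obtain ⟨b, hb, rfl⟩ := hw
      intro q hq
      set r := q * b * q⁻¹ * b⁻¹ with hr
      have hrR : r ∈ R := hcomm q hq b hb
      have e : q * (b * b) * q⁻¹ = b * b := by
        calc q * (b * b) * q⁻¹ = r * b * (r * b) := by rw [hr]; group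
          _ = r * (b * r) * b := by group
          _ = r * (r * b) * b := by rw [hcen r hrR b hb]
          _ = r * r * (b * b) := by group
          _ = b * b := by rw [hexp r hrR, one_mul]
      exact mul_inv_eq_iff_eq_mul.1 e
    | one => intro q _; simp
    | mul a b _ _ iha ihb => intro q hq; rw [← mul_assoc, iha q hq, mul_assoc, ihb q hq, mul_assoc]
    | inv a _ iha => intro q hq; exact Commute.inv_right (iha q hq)
  have hFcos : ∀ f ∈ F, f ∈ R ∨ f * (y * y)⁻¹ ∈ R := fun f hf => by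
    by_cases h : f ∈ R
    · exact Or.inl h
    · exact Or.inr ((hFF f hf _ (F.inv_mem (sq_mem hy))).2 (iff_of_false h (by rwa [inv_mem_iff])))
  have hidx : Nat.card Q = 2 * Nat.card Ω := by
    have hi : (Ω.subgroupOf Q).index = 2 := by
      rw [Subgroup.index_eq_two_iff']
      refine ⟨⟨y, hy⟩⁻¹, fun b => ?_⟩
      by_cases hb : (b : X) ∈ Ω
      · refine Or.inr ⟨hb, fun h => hyΩ ?_⟩
        have h' : y⁻¹ * (b : X) ∈ Ω := h
        simpa using Ω.mul_mem hb (Ω.inv_mem h')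
      · refine Or.inl ⟨?_, hb⟩
        show y⁻¹ * (b : X) ∈ Ω
        obtain ⟨r, hr, -, e⟩ := swap y⁻¹ (Q.inv_mem hy) b b.2
        refine (mem _).2 ⟨Q.mul_mem (Q.inv_mem hy) b.2, ?_⟩
        rw [e, ← mul_inv_rev]
        exact R.mul_mem hr ((hFF _ (F.inv_mem (sq_mem hy)) _ (sq_mem b.2)).2
          (iff_of_false (by rwa [inv_mem_iff]) fun h => hb ((mem _).2 ⟨b.2, h⟩)))
    have h := (Ω.subgroupOf Q).card_mul_index
    rw [hi, Nat.card_congr (Subgroup.subgroupOfEquivOfLe hΩQ).toEquiv] at h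
    omega
  have hix : ∀ x, ∀ q ∈ Q, x * q * x⁻¹ * q⁻¹ ∈ Ω := by
    intro x q hq
    by_cases hk : q ∈ Ω
    · exact Ω.mul_mem (hΩn.conj_mem q hk x) (Ω.inv_mem hk)
    · rcases conj_in_K hΩn hΩQ C.normal hidx hq hk (C.normal.conj_mem q hq x) with h' | h'
      · exact absurd (by simpa [mul_assoc] using hΩn.conj_mem _ h' x⁻¹) hk
      · simpa [mul_assoc] using hΩn.conj_mem _ h' q
  have hnat : Nat8 π Ω F := nat8_of_comm C.surj hΩn (sqs_normal C.normal) hFΩ C.big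
    (by rw [hcard] at hidx; omega) (fun a ha => hRF ((mem a).1 ha).2)
    (fun q hq a ha => hRF (hcomm q (C.ker.le hq) a (hΩQ ha))) (by
      by_contra h
      push Not at h
      exact C.no_series Ω hFΩ hΩQ h hix)
  exact ⟨Ω, y, mem, hΩQ, hΩn, hFΩ, hcent, hy, hyΩ, hidx, hnat, hFcos, hix⟩

/-- A layer of order two above. -/
theorem caseE2 (C : Core π Q) {R : Subgroup X} (hRn : R.Normal) {ρ : X}
    (hR : ∀ z, z ∈ R ↔ z = 1 ∨ z = ρ) (hρ : ρ ≠ 1) (hRF : R ≤ sqs Q) (hR2 : Nat.card R = 2)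
    (hcR : Nat.card (sqs Q) = 2 * Nat.card R) (hcard : Nat.card Q = 16 * Nat.card (sqs Q))
    (hcomm : ∀ a ∈ Q, ∀ b ∈ Q, a * b * a⁻¹ * b⁻¹ ∈ R)
    (hcen : ∀ z ∈ R, ∀ k ∈ Q, z * k = k * z) (hexp : ∀ z ∈ R, z * z = 1) : False := by
  haveI := C.normal
  haveI := sqs_normal C.normal
  obtain ⟨Ω, y, O⟩ := exists_omega C hRn hRF hcR hcard hcomm hcen hexp
  haveI := O.normal
  set s := y * y with hs
  have hFc : Nat.card (sqs Q) = 4 := by omega
  have hFX : ∀ f ∈ sqs Q, ∀ x, x * f = f * x := by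
    intro f hf x
    have S : Sec π (sqs Q) ⊥ :=
      { surj := C.surj, nP := sqs_normal C.normal, nZ := inferInstance, le := bot_le,
        triv := fun q hq p hp => Subgroup.mem_bot.2
          (comm_eq_one_iff.2 (O.cent p hp q (C.ker.le hq))) }
    exact comm_eq_one_iff.1 (Subgroup.mem_bot.1
      (S.small C.big (by rw [hFc, Subgroup.card_bot]; norm_num) x hf))
  have hρX : ∀ x, x * ρ = ρ * x := hFX ρ (hRF ((hR ρ).2 (Or.inr rfl)))
  have hsF : s ∈ sqs Q := sq_mem O.hy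
  have habΩ := abel8 O.nat (fun z hz k hk => (O.cent z hz k (O.le hk)).symm) hR hρX
    (fun a ha b hb => hcomm a (O.le ha) b (O.le hb))
  have hsqmul : ∀ a ∈ Ω, ∀ b ∈ Ω, a * b * (a * b) = a * a * (b * b) := fun a ha b hb => by
    rw [mul_assoc a b, ← mul_assoc b, habΩ b hb a ha, mul_assoc a b, ← mul_assoc a a]
  have hs2 : s * s = ρ := by
    rcases (hR _).1 (((O.mem s).1 (O.Fle hsF)).2) with h | h
    · exfalso
      have hF2 : ∀ f ∈ sqs Q, f * f = 1 := fun f hf => by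
        rcases O.Fcos f hf with h' | h'
        · exact hexp f h'
        · calc f * f = (f * s⁻¹) * s * ((f * s⁻¹) * s) := by group
            _ = (f * s⁻¹) * (s * (f * s⁻¹)) * s := by group
            _ = (f * s⁻¹) * ((f * s⁻¹) * s) * s := by
                rw [hcen _ h' s (sqs_le hsF)]
            _ = (f * s⁻¹) * (f * s⁻¹) * (s * s) := by group
            _ = 1 := by rw [hexp _ h', h, one_mul]
      obtain ⟨x0, a, ha, hxa⟩ := O.nat.nt
      have haF : a ∉ sqs Q := fun h' => hxa ((sqs Q).mul_mem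
        ((sqs_normal C.normal).conj_mem a h' x0) ((sqs Q).inv_mem h'))
      have const : ∀ a ∈ Ω, a ∉ sqs Q → ∀ b ∈ Ω, b ∉ sqs Q → b * b = a * a := by
        intro a ha haF b hb hbF
        obtain ⟨x, hx⟩ := O.nat.trans ha haF hb hbF
        set w := x * a * x⁻¹ * b⁻¹ with hw
        have e : x * (a * a) * x⁻¹ = w * b * (w * b) := by rw [hw]; group
        rw [hsqmul w (O.Fle hx) b hb, hF2 w hx, one_mul, hFX _ (sq_mem (O.le ha)) x, mul_inv_cancel_right] at e
        exact e.symm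
      obtain ⟨b, c, hI⟩ := O.nat.exists_ind ha haF
      have hJ := O.nat.shear hI
      have h1 : b * a * (b * a) = 1 := by
        rw [hsqmul b hI.bP a ha, const a ha haF b hI.bP hI.b_ne]
        exact hexp _ ((O.mem a).1 ha).2
      have hall : ∀ q ∈ Ω, q * q = 1 := fun q hq => by
        by_cases hqF : q ∈ sqs Q
        · exact hF2 q hqF
        · rw [const (b * a) hJ.bP hJ.b_ne q hq hqF, h1]
      have := elem_subgroup_le C.rk Ω hall
      have := O.idx
      omega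
    · exact h
  have hab : ∀ a ∈ Q, ∀ b ∈ Q, a * b = b * a :=
    abelian_of_index_two O.normal O.le C.normal O.idx habΩ O.hy O.hyΩ
      (centralize O.nat O.le C.normal O.idx habΩ O.hy O.hyΩ (fun z hz x => hFX z hz x)
        (fun z hz => hFX z hz y) fun a ha =>
          ⟨_, hFX _ (hRF (hcomm y O.hy a (O.le ha))), hexp _ (hcomm y O.hy a (O.le ha)), rfl⟩)
  let E : Subgroup X :=
    { carrier := {a | a ∈ Ω ∧ a * a = 1}
      one_mem' := ⟨Ω.one_mem, one_mul _⟩
      mul_mem' := fun {a b} ha hb => ⟨Ω.mul_mem ha.1 hb.1, by rw [hsqmul a ha.1 b hb.1, ha.2, hb.2, one_mul]⟩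
      inv_mem' := fun {a} ha => ⟨Ω.inv_mem ha.1, by rw [← mul_inv_rev, ha.2, inv_one]⟩ }
  have memE : ∀ a, a ∈ E ↔ a ∈ Ω ∧ a * a = 1 := fun a => Iff.rfl
  have hEΩ : E ≤ Ω := fun a ha => ((memE a).1 ha).1
  have hgen : ∀ a ∈ Ω, a ∈ E ∨ a * s⁻¹ ∈ E := fun a ha => by
    rcases (hR _).1 ((O.mem a).1 ha).2 with h | h
    · exact Or.inl ((memE a).2 ⟨ha, h⟩)
    · exact Or.inr ((memE _).2 ⟨Ω.mul_mem ha (Ω.inv_mem (O.Fle hsF)), by
        rw [hsqmul a ha _ (Ω.inv_mem (O.Fle hsF)), h, ← mul_inv_rev, hs2, mul_inv_cancel]⟩)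
  have hsE : s ∉ E := fun h => hρ (hs2 ▸ ((memE s).1 h).2)
  have hEc : Nat.card E = 16 := by
    have hi : (E.subgroupOf Ω).index = 2 := by
      rw [Subgroup.index_eq_two_iff]
      refine ⟨⟨s, O.Fle hsF⟩⁻¹, fun b => ?_⟩
      rcases hgen b b.2 with h | h
      · refine Or.inr ⟨h, fun hb => hsE ?_⟩
        have h' : (b : X) * s⁻¹ ∈ E := hb
        simpa using E.mul_mem (E.inv_mem h') h
      · refine Or.inl ⟨h, fun hb => hsE ?_⟩
        have h' : (b : X) ∈ E := hb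
        simpa using E.mul_mem (E.inv_mem h) h'
    have h := (E.subgroupOf Ω).card_mul_index
    rw [hi, Nat.card_congr (Subgroup.subgroupOfEquivOfLe hEΩ).toEquiv] at h
    have := O.idx
    omega
  have hEn : E.Normal := ⟨fun a ha x => (memE _).2 ⟨O.normal.conj_mem a (hEΩ ha) x, by
    rw [show x * a * x⁻¹ * (x * a * x⁻¹) = x * (a * a) * x⁻¹ by group, ((memE a).1 ha).2]; group⟩⟩
  have NE : Nat8 π E R := nat8_of_comm C.surj hEn hRn
    (fun z hz => (memE z).2 ⟨O.Fle (hRF hz), hexp z hz⟩) C.big (by rw [hEc, hR2])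
    (fun a ha => by rw [((memE a).1 ha).2]; exact R.one_mem)
    (fun q hq a ha => hcomm q (C.ker.le hq) a (O.le (hEΩ ha))) (by
      obtain ⟨x, a, ha, hxa⟩ := O.nat.nt
      rcases hgen a ha with h | h
      · exact ⟨x, a, h, fun m => hxa (hRF m)⟩
      · refine ⟨x, a * s⁻¹, h, fun m => hxa ?_⟩
        have hs' := hFX _ ((sqs Q).inv_mem hsF)
        have e : x * (a * s⁻¹) * x⁻¹ * (a * s⁻¹)⁻¹ = x * a * x⁻¹ * a⁻¹ := by
          calc x * (a * s⁻¹) * x⁻¹ * (a * s⁻¹)⁻¹ = x * a * (s⁻¹ * x⁻¹) * (a * s⁻¹)⁻¹ := by group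
            _ = x * a * (x⁻¹ * s⁻¹) * (a * s⁻¹)⁻¹ := by rw [hs' x⁻¹]
            _ = x * a * x⁻¹ * (s⁻¹ * (a * s⁻¹)⁻¹) := by group
            _ = x * a * x⁻¹ * a⁻¹ := by group
        exact hRF (e ▸ m))
  haveI : IsMulCommutative Ω := ⟨⟨fun a b => Subtype.ext (habΩ a a.2 b b.2)⟩⟩
  refine no_cyclic (A := Ω) C.rk NE hEΩ (by have := O.idx; omega) (fun e he => ((memE e).1 he).2)
    (O.Fle hsF) hsE (fun x => hFX s hsF x) (hs2 ▸ hρ) (fun z => hs2 ▸ hR z) hgen ?_
    (fun q hq => ⟨O.Fle (sq_mem (C.ker.le hq)), fun x => O.hix x q (C.ker.le hq)⟩)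
  intro x g h4 hz
  set z := x * g * x * g⁻¹ with hzdef
  have huQ : x ^ 4 ∈ Q := C.ker.le (by rw [MonoidHom.mem_ker, map_pow, h4])
  have hzQ : z ∈ Q := C.ker.le hz
  have σmul : ∀ a ∈ Q, ∀ b ∈ Q, a * b * (a * b) = a * a * (b * b) := fun a ha b hb => by
    rw [mul_assoc a b, ← mul_assoc b, hab b hb a ha, mul_assoc a b, ← mul_assoc a a]
  have σconj : ∀ k, ∀ a ∈ Q, k * a * k⁻¹ * (k * a * k⁻¹) = a * a := fun k a ha => by
    rw [show k * a * k⁻¹ * (k * a * k⁻¹) = k * (a * a) * k⁻¹ by group, hFX _ (sq_mem ha) k,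
      mul_inv_cancel_right]
  set u := x ^ 4 with hu
  set σ := u * u with hσ
  have n := C.normal.conj_mem
  have e1 : g * u * g⁻¹ =
      u⁻¹ * (x * x * x * z * (x * x * x)⁻¹ * (x * x * z * (x * x)⁻¹) * (x * z * x⁻¹) * z) := by
    rw [hzdef, hu, show x ^ 4 = x * x * (x * x) by simp only [pow_succ, pow_zero, one_mul, mul_assoc]]
    group
  have e2 : g * u * g⁻¹ * (g * u * g⁻¹) = σ⁻¹ * (z * z * (z * z) * (z * z) * (z * z)) := by
    rw [e1, σmul _ (Q.inv_mem huQ) _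
      (Q.mul_mem (Q.mul_mem (Q.mul_mem (n z hzQ _) (n z hzQ _)) (n z hzQ _)) hzQ),
      σmul _ (Q.mul_mem (Q.mul_mem (n z hzQ _) (n z hzQ _)) (n z hzQ _)) _ hzQ,
      σmul _ (Q.mul_mem (n z hzQ _) (n z hzQ _)) _ (n z hzQ _),
      σmul _ (n z hzQ _) _ (n z hzQ _), σconj _ z hzQ, σconj _ z hzQ, σconj _ z hzQ, ← mul_inv_rev]
  have hz4 : z * z * (z * z) * (z * z) * (z * z) = 1 := by
    rw [mul_assoc (z * z * (z * z))]
    exact hexp _ (((O.mem _).1 (O.Fle (sq_mem hzQ))).2)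
  rw [σconj g u huQ, hz4, mul_one, ← hσ] at e2
  have hσ1 : σ * σ = 1 := by nth_rw 1 [e2]; rw [inv_mul_cancel]
  refine (O.mem u).2 ⟨huQ, ?_⟩
  rcases O.Fcos σ (sq_mem huQ) with h | h
  · exact h
  · exfalso
    apply hρ
    rw [← hs2, ← hσ1]
    set w := σ * s⁻¹ with hw
    have e : σ = w * s := by rw [hw, inv_mul_cancel_right]
    calc s * s = w * w * (s * s) := by rw [hexp w h, one_mul]
      _ = w * (w * s) * s := by group
      _ = w * (s * w) * s := by rw [hcen w h s (sqs_le hsF)]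
      _ = σ * σ := by rw [e]; group

/-- A natural layer above. -/
theorem caseE8 (C : Core π Q) {R : Subgroup X} (SR : Nat8 π R ⊥) (hRF : R ≤ sqs Q)
    (hcR : Nat.card (sqs Q) = 2 * Nat.card R) (hcard : Nat.card Q = 16 * Nat.card (sqs Q))
    (hcomm : ∀ a ∈ Q, ∀ b ∈ Q, a * b * a⁻¹ * b⁻¹ ∈ R)
    (hcen : ∀ z ∈ R, ∀ k ∈ Q, z * k = k * z) (hexp : ∀ z ∈ R, z * z = 1)
    (hnofix : ∀ t ∈ sqs Q, (∀ x, x * t = t * x) → t = 1) : False := by
  haveI := C.normal
  haveI := sqs_normal C.normal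
  obtain ⟨Ω, y, O⟩ := exists_omega C SR.nP hRF hcR hcard hcomm hcen hexp
  haveI := O.normal
  set s := y * y with hs
  have hR8 : Nat.card R = 8 := nat8_R_le SR
  have hyR : s ∉ R := fun h => O.hyΩ ((O.mem y).2 ⟨O.hy, h⟩)
  have hsF : s ∈ sqs Q := sq_mem O.hy
  have sqR : ∀ r ∈ R, ∀ b ∈ Q, r * b * (r * b) = b * b := fun r hr b hb => by
    calc r * b * (r * b) = r * (b * r) * b := by group
      _ = r * (r * b) * b := by rw [hcen r hr b hb]
      _ = r * r * (b * b) := by group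
      _ = b * b := by rw [hexp r hr, one_mul]
  have hsmod : ∀ x, x * s * x⁻¹ * s⁻¹ ∈ R := fun x => by
    rcases O.Fcos _ ((sqs_normal C.normal).conj_mem s hsF x) with h | h
    · exact absurd (by simpa [mul_assoc] using SR.nP.conj_mem _ h x⁻¹) hyR
    · exact h
  have hs2 : s * s = 1 := by
    refine no_fixed_R SR ((O.mem s).1 (O.Fle hsF)).2 fun x => ?_
    rw [show x * (s * s) * x⁻¹ = (x * s * x⁻¹ * s⁻¹ * s) * (x * s * x⁻¹ * s⁻¹ * s) by group,
      sqR _ (hsmod x) s (sqs_le hsF)]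
  have hF2 : ∀ f ∈ sqs Q, f * f = 1 := fun f hf => by
    rcases O.Fcos f hf with h | h
    · exact hexp f h
    · have := sqR _ h s (sqs_le hsF)
      rw [inv_mul_cancel_right, hs2] at this
      exact this
  have hcΩ : Nat.card Ω = 128 := by have := O.idx; omega
  rcases abel_sq8 O.nat SR hRF (fun z hz k hk => (O.cent z hz k (O.le hk)).symm) hF2
    (fun k hk => ((O.mem k).1 hk).2) with h | ⟨habΩ, hiff⟩
  · have := elem_subgroup_le C.rk Ω h
    omega
  rcases central_or_invert O.nat SR O.le C.normal O.idx habΩ (fun a ha => ((O.mem a).1 ha).2) hiff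
    O.hy O.hyΩ (fun z hz => O.cent z hz y O.hy) hcen (fun a ha => hcomm y O.hy a (O.le ha)) with hc | hinv
  · have hab := abelian_of_index_two O.normal O.le C.normal O.idx habΩ O.hy O.hyΩ hc
    haveI : IsMulCommutative Ω := ⟨⟨fun a b => Subtype.ext (habΩ a a.2 b b.2)⟩⟩
    have D : Four π Ω (sqs Q) :=
      { nat := O.nat
        hF := fun a => ⟨fun h => ⟨O.Fle h, hF2 a h⟩, fun h => (hiff a h.1).1 h.2⟩
        h4 := fun a ha => hexp _ ((O.mem a).1 ha).2 }
    obtain ⟨x0, a0, ha0, hxa0⟩ := O.nat.nt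
    have ha0F : a0 ∉ sqs Q := fun h => hxa0 ((sqs Q).mul_mem
      ((sqs_normal C.normal).conj_mem a0 h x0) ((sqs Q).inv_mem h))
    have hsqR : ∀ z ∈ R, ∃ a ∈ Ω, z = a * a := fun z hz =>
      squares_surj SR O.normal ha0 ((O.mem a0).1 ha0).2 (fun e => ha0F ((hiff a0 ha0).1 e)) hz
    have nofix : ∀ x t, t ∈ sqs Q → t ∉ R → π x ^ 4 = 1 → π x ^ 2 ≠ 1 → x * t * x⁻¹ ≠ t :=
      fun x t ht htR h4 h2 => no_fix4 C.surj C.big SR.nP hR8 hsmod
        (fun q hq z hz => (hcen z hz q (C.ker.le hq)).symm)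
        (fun q hq => O.cent s hsF q (C.ker.le hq))
        (fun z hz hall => hyR (by
          have := hnofix (z * s) ((sqs Q).mul_mem (hRF hz) hsF) hall
          rw [eq_inv_of_mul_eq_one_right this]; exact R.inv_mem hz))
        ((O.Fcos t ht).resolve_left htR) h4 h2
    refine D.no_nonsplit C.rk (fun a ha => C.ker.ge (O.le ha)) (by omega) (fun x h4 h2 => ?_)
      (fun x t ht => hsqR _ ?_) (fun x h4 h2 t ht hxt => ?_)
    · have huQ : x ^ 4 ∈ Q := C.ker.le (by rw [MonoidHom.mem_ker, map_pow, h4])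
      refine (O.mem _).2 ⟨huQ, by_contra fun h => nofix x _ (sq_mem huQ) h h4 h2 ?_⟩
      rw [show x ^ 4 = x * x * (x * x) by simp only [pow_succ, pow_zero, one_mul, mul_assoc]]
      group
    · rcases O.Fcos t ht with h | h
      · exact R.mul_mem (SR.nP.conj_mem t h x) (R.inv_mem h)
      · rw [show x * t * x⁻¹ * t⁻¹ =
          (x * (t * s⁻¹) * x⁻¹) * (x * s * x⁻¹ * s⁻¹) * (t * s⁻¹)⁻¹ by group]
        exact R.mul_mem (R.mul_mem (SR.nP.conj_mem _ h x) (hsmod x)) (R.inv_mem h)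
    · exact hsqR t (by_contra fun h => nofix x t ht h h4 h2 hxt)
  · apply hyR
    rw [hnofix s hsF fun x => ?_]
    · exact R.one_mem
    · have hy' : x * y * x⁻¹ ∈ Q := C.normal.conj_mem y O.hy x
      rcases conj_in_K O.normal O.le C.normal O.idx O.hy O.hyΩ hy' with h | h
      · exact absurd (by simpa [mul_assoc] using O.normal.conj_mem _ h x⁻¹) O.hyΩ
      · set w := y⁻¹ * (x * y * x⁻¹) with hw
        have h' := hinv w h
        have e : x * s * x⁻¹ = s := by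
          calc x * s * x⁻¹ = y * w * y⁻¹ * (y * y) * w := by rw [hw, hs]; group
            _ = w⁻¹ * (y * y) * w := by rw [h']
            _ = (y * y) * (w⁻¹ * w) := by
                rw [O.cent (y * y) hsF w⁻¹ (Q.inv_mem (O.le h))]; group
            _ = s := by rw [inv_mul_cancel, mul_one]
        exact mul_inv_eq_iff_eq_mul.1 e

theorem Core.of_quot (C : Core π Q) {R : Subgroup X} [R.Normal] (hR : R ≤ sqs Q) :
    Core (QuotientGroup.lift R π fun r hr => MonoidHom.mem_ker.1 (C.ker.ge (sqs_le (hR hr))))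
      (Q.map (QuotientGroup.mk' R)) ∧ sqs (Q.map (QuotientGroup.mk' R)) = (sqs Q).map (QuotientGroup.mk' R) := by
  set m := QuotientGroup.mk' R
  have hms : Function.Surjective m := QuotientGroup.mk'_surjective R
  have hs : sqs (Q.map m) = (sqs Q).map m := by
    unfold sqs
    rw [MonoidHom.map_closure]
    congr 1
    ext z
    constructor
    · rintro ⟨_, ⟨q, hq, rfl⟩, rfl⟩; exact ⟨q * q, ⟨q, hq, rfl⟩, map_mul _ _ _⟩
    · rintro ⟨_, ⟨q, hq, rfl⟩, rfl⟩; exact ⟨m q, ⟨q, hq, rfl⟩, (map_mul _ _ _).symm⟩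
  refine ⟨⟨?_, ?_, C.p2.map m, C.big, ?_, A5OTwo92.sectional_of_surjective C.rk m hms⟩, hs⟩
  · intro l; obtain ⟨x, rfl⟩ := C.surj l; exact ⟨m x, rfl⟩
  · ext z
    obtain ⟨x, rfl⟩ := hms z
    exact ⟨fun h => ⟨x, C.ker.le h, rfl⟩, fun h => C.ker.ge (mem_quot (hR.trans sqs_le) h)⟩
  · obtain ⟨x, q, hq, h⟩ := C.faith
    refine ⟨m x, m q, ⟨q, hq, rfl⟩, fun h' => h (mem_quot hR ?_)⟩
    rw [hs] at h'
    rw [map_mul, map_mul, map_mul, map_inv, map_inv]
    exact h'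

/-- The choice of the bottom layer. -/
theorem exists_layer (C : Core π Q) (hF : sqs Q ≠ ⊥) :
    ∃ R : Subgroup X, R.Normal ∧ R ≤ sqs Q ∧ R ≠ ⊥ ∧ (∀ z ∈ R, ∀ k ∈ Q, z * k = k * z) ∧
      (∀ z ∈ R, z * z = 1) ∧
      ((∃ ρ, ρ ≠ 1 ∧ Nat.card R = 2 ∧ ∀ z, z ∈ R ↔ z = 1 ∨ z = ρ) ∨
        (Nat8 π R ⊥ ∧ ∀ t ∈ sqs Q, (∀ x, x * t = t * x) → t = 1)) := by
  haveI : Fact (Nat.Prime 2) := ⟨Nat.prime_two⟩
  haveI := C.normal
  haveI := sqs_normal C.normal
  by_cases hfix : ∃ t ∈ sqs Q, t ≠ 1 ∧ ∀ x, x * t = t * x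
  · obtain ⟨t, ht, ht1, htc⟩ := hfix
    obtain ⟨k, hk⟩ := C.p2 ⟨t, sqs_le ht⟩
    have hord : ∃ e : X, e ∈ sqs Q ∧ e ≠ 1 ∧ e * e = 1 ∧ ∀ x, x * e = e * x := by
      have hk' : t ^ 2 ^ k = 1 := congrArg Subtype.val hk
      clear hk
      induction k with
      | zero => exact absurd (by simpa using hk') ht1
      | succ k ih =>
        by_cases h : t ^ 2 ^ k = 1
        · exact ih h
        · refine ⟨_, (sqs Q).pow_mem ht _, h, ?_, fun x => Commute.pow_right (htc x) _⟩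
          rw [← pow_add, ← two_mul, ← pow_succ']; exact hk'
    obtain ⟨e, he, he1, he2, hec⟩ := hord
    let R : Subgroup X :=
      { carrier := {1, e}
        one_mem' := Or.inl rfl
        mul_mem' := by
          rintro a b (rfl | rfl) (rfl | rfl)
          all_goals simp [he2]
        inv_mem' := by
          rintro a (rfl | rfl)
          · simp
          · exact Or.inr (inv_eq_of_mul_eq_one_right he2) }
    have hmem : ∀ z, z ∈ R ↔ z = 1 ∨ z = e := fun z => Iff.rfl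
    refine ⟨R, ⟨fun a ha x => ?_⟩, fun a ha => ?_, fun h => ?_, fun z hz k _ => ?_, fun z hz => ?_,
      Or.inl ⟨e, he1, ?_, hmem⟩⟩
    · rcases (hmem a).1 ha with rfl | rfl
      · simp
      · rw [hec, mul_inv_cancel_right]; exact ha
    · rcases (hmem a).1 ha with rfl | rfl
      · exact one_mem _
      · exact he
    · exact he1 (Subgroup.mem_bot.1 (h ▸ (hmem e).2 (Or.inr rfl)))
    · exact (fixed_two hmem hec hz k).symm
    · rcases (hmem z).1 hz with rfl | rfl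
      · simp
      · exact he2
    · show Nat.card ({1, e} : Set X) = 2
      rw [Nat.card_coe_set_eq, Set.ncard_pair (Ne.symm he1)]
  · push Not at hfix
    have hnof : ∀ t ∈ sqs Q, (∀ x, x * t = t * x) → t = 1 := fun t ht h => by
      by_contra h1
      obtain ⟨x, hx⟩ := hfix t ht h1
      exact hx (h x)
    obtain ⟨R, hRle, ⟨⟨hRn, hRne⟩, hRmin⟩⟩ : ∃ R : Subgroup X, R ≤ sqs Q ∧
        Minimal (fun N : Subgroup X => N.Normal ∧ N ≠ ⊥) R :=
      exists_minimal_le_of_wellFoundedLT (fun N : Subgroup X => N.Normal ∧ N ≠ ⊥) (sqs Q)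
        ⟨sqs_normal C.normal, hF⟩
    have hRQ : R ≤ Q := hRle.trans sqs_le
    have hmin : ∀ N : Subgroup X, N.Normal → N ≤ R → N = ⊥ ∨ N = R := fun N hN hle => by
      by_cases hb : N = ⊥
      · exact Or.inl hb
      · exact Or.inr (le_antisymm hle (hRmin ⟨hN, hb⟩ hle))
    haveI := hRn
    have hcen : ∀ z ∈ R, ∀ k ∈ Q, z * k = k * z := by
      rcases hmin (R ⊓ Subgroup.centralizer (Q : Set X)) inferInstance inf_le_left with h | h
      · exfalso
        haveI : (R.subgroupOf Q).Normal := Subgroup.Normal.subgroupOf ‹_› Q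
        refine PGroupsBasic.inf_center_ne_bot C.p2 (N := R.subgroupOf Q) ?_ ?_
        · rw [Ne, Subgroup.subgroupOf_eq_bot, disjoint_iff, inf_eq_left.2 hRQ]; exact hRne
        · refine eq_bot_iff.2 fun x hx => Subgroup.mem_bot.2 (Subtype.ext ?_)
          exact Subgroup.mem_bot.1 (h.le ⟨Subgroup.mem_subgroupOf.1 hx.1, fun a ha =>
            congrArg Subtype.val (Subgroup.mem_center_iff.1 hx.2 ⟨a, ha⟩)⟩)
      · exact fun z hz a ha => ((h.ge hz).2 a ha).symm
    have hexp : ∀ z ∈ R, z * z = 1 := by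
      let T : Subgroup X :=
        { carrier := {z | z ∈ R ∧ z * z = 1}
          one_mem' := ⟨one_mem _, one_mul _⟩
          mul_mem' := fun {a b} ha hb => ⟨R.mul_mem ha.1 hb.1, by
            rw [mul_assoc a b, ← mul_assoc b a b, hcen b hb.1 a (hRQ ha.1), mul_assoc a b b, hb.2, mul_one, ha.2]⟩
          inv_mem' := fun {a} ha => ⟨R.inv_mem ha.1, by rw [← mul_inv_rev, ha.2, inv_one]⟩ }
      have hT : ∀ z, z ∈ T ↔ z ∈ R ∧ z * z = 1 := fun z => Iff.rfl
      have hTn : T.Normal := ⟨fun a ha x => (hT _).2 ⟨hRn.conj_mem a ((hT a).1 ha).1 x, by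
        rw [show x * a * x⁻¹ * (x * a * x⁻¹) = x * (a * a) * x⁻¹ by group, ((hT a).1 ha).2]; group⟩⟩
      rcases hmin T hTn (fun z hz => ((hT z).1 hz).1) with h | h
      · exfalso
        obtain ⟨r, hr, hr1⟩ : ∃ r ∈ R, r ≠ 1 := by
          by_contra hh; push Not at hh; exact hRne (eq_bot_iff.2 fun z hz => hh z hz)
        obtain ⟨k, hk⟩ := C.p2 ⟨r, hRQ hr⟩
        have hk' : r ^ 2 ^ k = 1 := congrArg Subtype.val hk
        clear hk
        induction k with
        | zero => exact hr1 (by simpa using hk')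
        | succ k ih =>
          by_cases hh : r ^ 2 ^ k = 1
          · exact ih hh
          · refine hh (Subgroup.mem_bot.1 (h ▸ (hT _).2 ⟨R.pow_mem hr _, ?_⟩))
            rw [← pow_add, ← two_mul, ← pow_succ']; exact hk'
      · exact fun z hz => ((hT z).1 (h.ge hz)).2
    have hc16 := elem_subgroup_le C.rk R hexp
    have hES : ESec π R ⊥ :=
      { surj := C.surj, nP := hRn, nZ := inferInstance, le := bot_le,
        triv := fun q hq p hp => Subgroup.mem_bot.2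
          (comm_eq_one_iff.2 (hcen p hp q (C.ker.le hq)).symm)
        sq := fun p hp => Subgroup.mem_bot.2 (hexp p hp) }
    have hnt : ∃ x, ∃ p ∈ R, x * p * x⁻¹ * p⁻¹ ∉ (⊥ : Subgroup X) := by
      by_contra hh
      push Not at hh
      exact hRne (eq_bot_iff.2 fun z hz =>
        hnof z (hRle hz) fun x => comm_eq_one_iff.1 (Subgroup.mem_bot.1 (hh x z hz)))
    obtain ⟨j, hj⟩ := (C.p2.to_le hRQ).exists_card_eq
    have hlb : ¬ Nat.card R < 7 := fun h => by
      obtain ⟨x, p, hp, hxp⟩ := hnt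
      exact hxp (hES.small C.big (by rwa [Subgroup.card_bot, mul_one]) x hp)
    have hne16 : Nat.card R ≠ 16 := fun h => by
      rcases hES.fixed_or_hyperplane C.big (by rw [h, Subgroup.card_bot]) hnt with
        ⟨p, hp, hp1, hpf⟩ | ⟨K, hK, -, hKR, hKc⟩
      · exact hp1 (Subgroup.mem_bot.2
          (hnof p (hRle hp) fun x => comm_eq_one_iff.1 (Subgroup.mem_bot.1 (hpf x))))
      · rw [Subgroup.card_bot, mul_one] at hKc
        rcases hmin K hK hKR with e | e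
        · rw [e, Subgroup.card_bot] at hKc; omega
        · rw [e, h] at hKc; omega
    have h8 : Nat.card R = 8 := by
      rw [hj] at hc16 hlb hne16 ⊢
      have : j ≤ 4 := (Nat.pow_le_pow_iff_right (show 1 < 2 by norm_num)).1 (hc16.trans (by norm_num))
      interval_cases j <;> omega
    exact ⟨R, hRn, hRle, hRne, hcen, hexp, Or.inr ⟨nat8_of_comm C.surj hRn inferInstance bot_le C.big
      (by rw [h8, Subgroup.card_bot]) (fun p hp => Subgroup.mem_bot.2 (hexp p hp)) hES.triv hnt, hnof⟩⟩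

end Cfsg.Agent.L32Main92

namespace Cfsg.Agent.L32Main92

open Cfsg.Agent.L32Natural92 Cfsg.Agent.L32Layers92 Cfsg.Agent.L32Core92 Cfsg.Agent.L32Sections92
  Cfsg.Agent.L32Cases92

universe u v

theorem main_aux (n : ℕ) : ∀ {X : Type u} {L : Type v} [Group X] [Finite X] [Group L] {π : X →* L}
    {Q : Subgroup X}, Core π Q → Nat.card X = n → Goal Q := by
  induction n using Nat.strong_induction_on with
  | _ n ih =>
  intro X L _ _ _ π Q C hn
  haveI := C.normal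
  haveI := sqs_normal C.normal
  by_cases hF : sqs Q = ⊥
  · refine Or.inl ⟨hF, ?_⟩
    have h := C.card_cases
    rw [hF, Subgroup.card_bot] at h
    omega
  obtain ⟨R, hRn, hRF, hRne, hcen, hexp, hR⟩ := exists_layer C hF
  haveI := hRn
  have hRQ : R ≤ Q := hRF.trans sqs_le
  obtain ⟨C', hs⟩ := Core.of_quot C hRF
  have hR2 : 1 < Nat.card R := by
    haveI : Nontrivial R := (Subgroup.nontrivial_iff_ne_bot R).2 hRne
    exact Finite.one_lt_card
  have hlt : Nat.card (X ⧸ R) < n := by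
    rw [← hn, Subgroup.card_eq_card_quotient_mul_card_subgroup R]
    exact lt_mul_of_one_lt_right Nat.card_pos hR2
  have hQc := card_quot (M := R) hRQ
  have hFc := card_quot (M := R) hRF
  rcases ih _ hlt C' rfl with ⟨hbot, hcard⟩ | ⟨hab, hcard, hFcard⟩
  · rw [hs] at hbot
    rw [hbot, Subgroup.card_bot, one_mul] at hFc
    have hFR : R = sqs Q := Subgroup.eq_of_le_of_card_ge hRF hFc.ge
    subst hFR
    rcases hR with ⟨ρ, hρ, hc2, hmem⟩ | ⟨SR, -⟩ <;> rcases hcard with h | h <;> rw [h] at hQc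
    · exact (caseA C hmem hρ hQc.symm).elim
    · exact Or.inr ⟨caseC C hmem hρ hQc.symm, by rw [← hQc, hc2], hc2⟩
    · exact (caseB C SR hQc.symm hcen hexp).elim
    · exact (caseD C SR hQc.symm hcen hexp).elim
  · have hcomm : ∀ a ∈ Q, ∀ b ∈ Q, a * b * a⁻¹ * b⁻¹ ∈ R := fun a ha b hb => by
      rw [← QuotientGroup.eq_one_iff]
      have := hab _ ⟨a, ha, rfl⟩ _ ⟨b, hb, rfl⟩
      exact comm_eq_one_iff.2 this
    rw [hs] at hFcard
    rw [hFcard] at hFc
    rw [hcard] at hQc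
    have hQ16 : Nat.card Q = 16 * Nat.card (sqs Q) := by omega
    rcases hR with ⟨ρ, hρ, hc2, hmem⟩ | ⟨SR, hnof⟩
    · exact (caseE2 C hRn hmem hρ hRF hc2 hFc.symm hQ16 hcomm hcen hexp).elim
    · exact (caseE8 C SR hRF hFc.symm hQ16 hcomm hcen hexp hnof).elim

/-- The possible shapes of the normal 2-subgroup. -/
theorem main {X : Type u} {L : Type v} [Group X] [Finite X] [Group L] {π : X →* L} {Q : Subgroup X}
    (C : Core π Q) : Goal Q :=
  main_aux _ C rfl

end Cfsg.Agent.L32Main92
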