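import Mathlib
import Cfsg.Prelude.Def_KGroupFacts
import Cfsg.Agent.Lib.L34MultiplierBound
import Cfsg.Agent.Lib.StemBasic
import Cfsg.Agent.Lib.StemPairing

/-!
Kernels of stem extensions of `PSL_3(4)` are images of `Z/3 × Z/4 × Z/4`.
-/

set_option autoImplicit false
set_option backward.isDefEq.respectTransparency false

namespace Cfsg.Agent.L34BoundFull60

open scoped Matrix MatrixGroups commutatorElement
open Cfsg.Agent.StemSLnTv (tv tv_add tv_zero tv_commute)
open Cfsg.Agent.L34MultiplierBound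

variable {F : Type*} [Field F] {L : Type*} [Group L]
variable (σ : L →* Matrix.ProjectiveSpecialLinearGroup (Fin 3) F)

local notation "Q" => Matrix.ProjectiveSpecialLinearGroup (Fin 3) F

/-- the preimage of the Sylow subgroup has derived group of exponent four -/
theorem commutator_pow_four (hs : Function.Surjective σ) (hc : σ.ker ≤ Subgroup.center L)
    (h2 : (2 : F) = 0) {g g' : L} (hg : σ g ∈ sylow h2) (hg' : σ g' ∈ sylow h2) : ⁅g, g'⁆ ^ 4 = 1 := by
  set K := (sylow (F := F) h2).comap σ with hK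
  let J : Set L := {j | ∃ v, σ j = proj (tv 0 2 v)}
  have hJ1 : (1 : L) ∈ J := ⟨0, by rw [map_one, tv_zero, map_one]⟩
  have hJmul : ∀ {a b}, a ∈ J → b ∈ J → a * b ∈ J := by
    rintro a b ⟨u, hu⟩ ⟨v, hv⟩
    exact ⟨u + v, by rw [map_mul, hu, hv, ← map_mul, ← tv_add (by decide)]⟩
  have hJcomm : ∀ {a b}, a ∈ J → b ∈ J → Commute a b := fun ha hb => by
    obtain ⟨u, hu⟩ := ha
    obtain ⟨v, hv⟩ := hb
    exact lifts_commute σ hs hc (k := 1) (by decide) (by decide) (by decide) hu hv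
  -- commutators of `K` lie in `J`
  have hbrJ : ∀ {a b}, a ∈ K → b ∈ K → ⁅a, b⁆ ∈ J := by
    intro a b ha hb
    obtain ⟨⟨a1, a2, a3⟩, hax⟩ := ha
    obtain ⟨⟨b1, b2, b3⟩, hbx⟩ := hb
    change proj (uni a1 a2 a3) = σ a at hax
    change proj (uni b1 b2 b3) = σ b at hbx
    refine ⟨a1 * b2 + b1 * a2, ?_⟩
    rw [map_commutatorElement, ← hax, ← hbx, ← map_commutatorElement]
    refine congrArg proj ?_
    rw [commutatorElement_def, uni_inv h2, uni_inv h2, uni_mul h2, uni_mul h2, uni_mul h2]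
    have e1 : a1 + b1 + a1 + b1 = 0 := by linear_combination (a1 + b1) * h2
    have e2 : a2 + b2 + a2 + b2 = 0 := by linear_combination (a2 + b2) * h2
    have e3 : b1 * (a2 + b2 + a2) + (a1 * (a2 + b2) + (b1 * a2 + a3 + b3) + (a1 * a2 + a3)) + (b1 * b2 + b3)
        = a1 * b2 + b1 * a2 := by
      linear_combination (b1 * a2 + b1 * b2 + a1 * a2 + a3 + b3) * h2
    rw [uni, e1, e2, e3, tv_zero, tv_zero, one_mul, one_mul]
  -- conjugation fixes `J` up to central elements
  have hJK : ∀ {a j}, a ∈ K → j ∈ J → σ ⁅a, j⁆ = 1 := by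
    intro a j ha hj
    obtain ⟨⟨a1, a2, a3⟩, hax⟩ := ha
    obtain ⟨v, hv⟩ := hj
    change proj (uni a1 a2 a3) = σ a at hax
    rw [map_commutatorElement, ← hax, hv, commutatorElement_eq_one_iff_mul_comm, ← map_mul, ← map_mul]
    refine congrArg proj ?_
    have : (tv 0 2 v : SL(3, F)) = uni 0 0 v := by simp [uni, tv_zero]
    rw [this, uni_mul h2, uni_mul h2]
    simp [add_comm]
  have hsq : ∀ {j}, j ∈ J → σ (j * j) = 1 := by
    rintro j ⟨v, hv⟩
    rw [map_mul, hv, ← map_mul, ← tv_add (by decide), add_self h2, tv_zero, map_one]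
  -- a commutator with an element whose square is central
  have key : ∀ {a b}, a ∈ K → b ∈ K → σ (a * a) = 1 → ⁅a, b⁆ ^ 4 = 1 := by
    intro a b ha hb haa
    set c := ⁅a, b⁆ with hcdef
    have hcJ : c ∈ J := hbrJ ha hb
    set d := ⁅a, c⁆ with hddef
    have hd : σ d = 1 := hJK ha hcJ
    have dc := StemBasic.ker_comm hc hd
    have h1 : ⁅a * a, b⁆ = 1 := commutatorElement_eq_one_iff_mul_comm.2
      (StemBasic.ker_comm hc haa b).symm
    have e : ⁅a * a, b⁆ = d * c * c := by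
      simp only [hddef, hcdef, commutatorElement_def]; group
    have h3 : d * (c * c) = 1 := by rw [← mul_assoc, ← e, h1]
    have h4 : ⁅a, c * c⁆ = 1 := commutatorElement_eq_one_iff_mul_comm.2
      (StemBasic.ker_comm hc (hsq hcJ) a)
    have e2 : ⁅a, c * c⁆ = d * (c * d * c⁻¹) := by
      simp only [hddef, commutatorElement_def]; group
    rw [dc c, mul_inv_cancel_right, h4] at e2
    have h5 : c * c = d⁻¹ := eq_inv_of_mul_eq_one_right h3
    rw [show (4 : ℕ) = 2 * 2 from rfl, pow_mul, pow_two, pow_two, h5, ← mul_inv_rev, ← e2, inv_one]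
  -- conjugates of such commutators
  have conjpow : ∀ (x c : L), c ^ 4 = 1 → (x * c * x⁻¹) ^ 4 = 1 := fun x c h => by
    rw [conj_pow, h, mul_one, mul_inv_cancel]
  have conjJ : ∀ {x c}, x ∈ K → c ∈ J → x * c * x⁻¹ ∈ J := by
    intro x c hx hcJ
    obtain ⟨v, hv⟩ := hcJ
    refine ⟨v, ?_⟩
    have := hJK hx ⟨v, hv⟩
    rw [map_commutatorElement, commutatorElement_eq_one_iff_mul_comm] at this
    rw [map_mul, map_mul, map_inv, this, mul_inv_cancel_right, hv]
  obtain ⟨⟨a1, a2, a3⟩, hax⟩ := hg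
  change proj (uni a1 a2 a3) = σ g at hax
  set x := lift σ hs 0 1 a1 with hxdef
  set y := lift σ hs 1 2 a2 with hydef
  set h := (x * y)⁻¹ * g with hhdef
  have hxs := lift_spec σ hs 0 1 a1
  have hys := lift_spec σ hs 1 2 a2
  have hhs : σ h = proj (tv 0 2 a3) := by
    rw [hhdef, map_mul, map_inv, map_mul, hxs, hys, ← hax, uni, map_mul, map_mul, inv_mul_cancel_left]
  have mk : ∀ {l : L} {i j : Fin 3} {v : F}, i ≠ j → σ l = proj (tv i j v) →
      (∃ p : F × F × F, proj (uni p.1 p.2.1 p.2.2) = σ l) → l ∈ K ∧ σ (l * l) = 1 := by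
    intro l i j v hij hl hp
    refine ⟨hp, ?_⟩
    rw [map_mul, hl, ← map_mul, ← tv_add hij, add_self h2, tv_zero, map_one]
  obtain ⟨hxK, hxx⟩ := mk (show (0 : Fin 3) ≠ 1 by decide) hxs ⟨(a1, 0, 0), by simp [uni, tv_zero, hxdef, hxs]⟩
  obtain ⟨hyK, hyy⟩ := mk (show (1 : Fin 3) ≠ 2 by decide) hys ⟨(0, a2, 0), by simp [uni, tv_zero, hydef, hys]⟩
  obtain ⟨hhK, hhh⟩ := mk (show (0 : Fin 3) ≠ 2 by decide) hhs ⟨(0, 0, a3), by simp [uni, tv_zero, hhs]⟩
  have hge : g = x * y * h := (mul_inv_cancel_left _ _).symm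
  have hb : ∀ a b : L, ⁅a * b, g'⁆ = a * ⁅b, g'⁆ * a⁻¹ * ⁅a, g'⁆ := fun a b => by
    simp only [commutatorElement_def]; group
  rw [hge, hb (x * y) h, hb x y]
  have q1 := key hxK hg' hxx
  have q2 := key hyK hg' hyy
  have q3 := key hhK hg' hhh
  have m1 : x * ⁅y, g'⁆ * x⁻¹ ∈ J := conjJ hxK (hbrJ hyK hg')
  have m2 : x * y * ⁅h, g'⁆ * (x * y)⁻¹ ∈ J := conjJ (mul_mem hxK hyK) (hbrJ hhK hg')
  have m3 : ⁅x, g'⁆ ∈ J := hbrJ hxK hg'
  rw [(hJcomm m2 (hJmul m1 m3)).mul_pow, (hJcomm m1 m3).mul_pow, conjpow _ _ q3, conjpow _ _ q2, q1,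
    one_mul, one_mul]

variable [Fintype F] [Finite L]

/-- kernel elements of `2`-power order are killed by four -/
theorem pow_four_of_two (hs : Function.Surjective σ) (hc : σ.ker ≤ Subgroup.center L)
    (hperf : commutator L = ⊤) (hF : Fintype.card F = 4) {z : L} (hz : σ z = 1) {k : ℕ}
    (hzk : orderOf z = 2 ^ k) : z ^ 4 = 1 := by
  obtain ⟨h2, -, -⟩ := field_four hF
  set K := (sylow (F := F) h2).comap σ with hK
  have hzK : z ∈ K := by show σ z ∈ sylow h2; rw [hz]; exact one_mem _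
  have hcop : Nat.Coprime (orderOf z) K.index := by
    rw [hK, StemBasic.index_comap hs, index_sylow h2 hF, hzk]
    exact Nat.Coprime.pow_left _ (by norm_num)
  have hmem := StemBasic.mem_commutator_of_index hzK (hc hz) (by rw [hperf]; exact Subgroup.mem_top z) hcop
  -- the elements of order dividing four in the abelian preimage of the top root group
  let J4 : Subgroup L :=
    { carrier := {j | (∃ v, σ j = proj (tv 0 2 v)) ∧ j ^ 4 = 1}
      one_mem' := ⟨⟨0, by rw [map_one, tv_zero, map_one]⟩, one_pow 4⟩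
      mul_mem' := by
        rintro a b ⟨⟨u, hu⟩, ha⟩ ⟨⟨v, hv⟩, hb⟩
        refine ⟨⟨u + v, by rw [map_mul, hu, hv, ← map_mul, ← tv_add (by decide)]⟩, ?_⟩
        rw [(lifts_commute σ hs hc (k := 1) (by decide) (by decide) (by decide) hu hv).mul_pow, ha, hb,
          one_mul]
      inv_mem' := by
        rintro a ⟨⟨u, hu⟩, ha⟩
        exact ⟨⟨u, by rw [map_inv, hu, ← map_inv, tv_inv h2 (by decide)]⟩, by rw [inv_pow, ha, inv_one]⟩ }
  have hle : (commutator K).map K.subtype ≤ J4 := by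
    rw [_root_.commutator_def, Subgroup.map_commutator, Subgroup.commutator_le]
    rintro _ ⟨p, -, rfl⟩ _ ⟨q, -, rfl⟩
    refine ⟨?_, commutator_pow_four σ hs hc h2 p.2 q.2⟩
    obtain ⟨⟨a1, a2, a3⟩, hax⟩ := p.2
    obtain ⟨⟨b1, b2, b3⟩, hbx⟩ := q.2
    change proj (uni a1 a2 a3) = σ p at hax
    change proj (uni b1 b2 b3) = σ q at hbx
    refine ⟨a1 * b2 + b1 * a2, ?_⟩
    simp only [Subgroup.subtype_apply, map_commutatorElement, ← hax, ← hbx]
    rw [← map_commutatorElement]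
    refine congrArg proj ?_
    rw [commutatorElement_def, uni_inv h2, uni_inv h2, uni_mul h2, uni_mul h2, uni_mul h2]
    have e1 : a1 + b1 + a1 + b1 = 0 := by linear_combination (a1 + b1) * h2
    have e2 : a2 + b2 + a2 + b2 = 0 := by linear_combination (a2 + b2) * h2
    have e3 : b1 * (a2 + b2 + a2) + (a1 * (a2 + b2) + (b1 * a2 + a3 + b3) + (a1 * a2 + a3)) + (b1 * b2 + b3)
        = a1 * b2 + b1 * a2 := by
      linear_combination (b1 * a2 + b1 * b2 + a1 * a2 + a3 + b3) * h2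
    rw [uni, e1, e2, e3, tv_zero, tv_zero, one_mul, one_mul]
  exact (hle hmem).2

/-- an element `c` of order dividing three whose powers contain all kernel elements of `3`-power order -/
theorem exists_three (hs : Function.Surjective σ) (hc : σ.ker ≤ Subgroup.center L)
    (hperf : commutator L = ⊤) (hF : Fintype.card F = 4) :
    ∃ c : L, σ c = 1 ∧ c ^ 3 = 1 ∧ ∀ z : L, σ z = 1 → (∃ k, orderOf z = 3 ^ k) → z ∈ Subgroup.zpowers c := by
  haveI : Fact (Nat.Prime 3) := ⟨by norm_num⟩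
  haveI : Finite Q := Nat.finite_of_card_ne_zero (by rw [card_psl hF]; norm_num)
  obtain ⟨P, hP⟩ := Sylow.exists_subgroup_card_pow_prime (G := Q) 3 (n := 2) (by rw [card_psl hF]; norm_num)
  obtain ⟨⟨a, haP⟩, ha⟩ := exists_prime_orderOf_dvd_card' (G := P) 3 (by rw [hP]; norm_num)
  rw [Subgroup.orderOf_mk] at ha
  have hA : Subgroup.zpowers a < P := by
    refine lt_of_le_of_ne (Subgroup.zpowers_le.2 haP) fun h => ?_
    have := congrArg (fun H : Subgroup Q => Nat.card H) h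
    simp only [Nat.card_zpowers, ha, hP] at this
    norm_num at this
  obtain ⟨b, hbP, hbA⟩ := SetLike.exists_of_lt hA
  haveI : IsMulCommutative P := IsPGroup.isMulCommutative_of_card_eq_prime_sq (p := 3) hP
  have hab : Commute a b :=
    congrArg Subtype.val ((IsMulCommutative.is_comm (M := P)).comm ⟨a, haP⟩ ⟨b, hbP⟩)
  obtain ⟨α, hα⟩ := hs a
  obtain ⟨β, hβ⟩ := hs b
  have hcσ : σ ⁅β, α⁆ = 1 := StemPairing.bracket_mem_ker (by rw [hα, hβ]; exact hab.symm)
  have hcc := StemBasic.ker_comm hc hcσ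
  refine ⟨⁅β, α⁆, hcσ, ?_, ?_⟩
  · have ha3 : σ (α ^ 3) = 1 := by
      have := pow_orderOf_eq_one a
      rw [ha, ← hα, ← map_pow] at this
      exact this
    have h3 : ⁅β, α ^ 3⁆ = 1 := commutatorElement_eq_one_iff_mul_comm.2
      (StemBasic.ker_comm hc ha3 β)
    have hm : ∀ n : ℕ, ⁅β, α ^ n⁆ = ⁅β, α⁆ ^ n := by
      intro n
      induction n with
      | zero => simp
      | succ n ih =>
        have e : ⁅β, α ^ (n + 1)⁆ = ⁅β, α ^ n⁆ * (α ^ n * ⁅β, α⁆ * (α ^ n)⁻¹) := by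
          simp only [commutatorElement_def, pow_succ, mul_inv_rev]; group
        rw [e, ih, hcc (α ^ n), mul_inv_cancel_right, ← pow_succ]
    rw [← hm, h3]
  · rintro z hz ⟨k, hk⟩
    set K := P.comap σ with hK
    have hzK : z ∈ K := by show σ z ∈ P; rw [hz]; exact one_mem _
    have hidx : P.index = 2240 := by
      have := P.card_mul_index
      rw [hP, card_psl hF] at this
      omega
    have hcop : Nat.Coprime (orderOf z) K.index := by
      rw [hK, StemBasic.index_comap hs, hidx, hk]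
      exact Nat.Coprime.pow_left _ (by norm_num)
    have hmem := StemBasic.mem_commutator_of_index hzK (hc hz) (by rw [hperf]; exact Subgroup.mem_top z) hcop
    have hαK : α ∈ K := by show σ α ∈ P; rw [hα]; exact haP
    have hβK : β ∈ K := by show σ β ∈ P; rw [hβ]; exact hbP
    have hPgen : Subgroup.closure {a, b} = P := by
      refine le_antisymm ((Subgroup.closure_le _).2 (by rintro _ (rfl | rfl) <;> assumption)) ?_
      set H := Subgroup.closure {a, b} with hH
      have hle : H ≤ P := (Subgroup.closure_le _).2 (by rintro _ (rfl | rfl) <;> assumption)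
      have hlt : Subgroup.zpowers a < H := lt_of_le_of_ne
        (Subgroup.zpowers_le.2 (Subgroup.subset_closure (Set.mem_insert _ _)))
        fun h => hbA (h ▸ Subgroup.subset_closure (Set.mem_insert_of_mem _ rfl))
      obtain ⟨i, hi, hi'⟩ := (Nat.dvd_prime_pow Fact.out).1 (hP ▸ Subgroup.card_dvd_of_le hle)
      have h3 : 3 < Nat.card H := by
        calc 3 = Nat.card (Subgroup.zpowers a) := by rw [Nat.card_zpowers, ha]
          _ < Nat.card H := Set.ncard_lt_ncard hlt (Set.toFinite _)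
      have : i = 2 := by
        interval_cases i <;> omega
      subst this
      exact (Subgroup.eq_of_le_of_card_ge hle (by rw [hP, hi'])).ge
    have hKgen : Subgroup.closure ({⟨α, hαK⟩, ⟨β, hβK⟩} ∪ (Subgroup.center K : Set K)) = ⊤ := by
      rw [eq_top_iff]
      rintro ⟨g, hg⟩ -
      have hg' : σ g ∈ Subgroup.map σ (Subgroup.closure {α, β}) := by
        rw [MonoidHom.map_closure, Set.image_pair, hα, hβ, hPgen]; exact hg
      obtain ⟨g0, hg0, he⟩ := hg'
      obtain ⟨u, hu, rfl⟩ := StemBasic.exists_ker_mul he.symm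
      have huK : u ∈ K := by show σ u ∈ P; rw [hu]; exact one_mem _
      have hg0K : g0 ∈ K := by
        show σ g0 ∈ P
        rw [he]; exact hg
      have h1 : (⟨g0, hg0K⟩ : K) ∈ Subgroup.closure ({⟨α, hαK⟩, ⟨β, hβK⟩} : Set K) := by
        have hm : g0 ∈ (Subgroup.closure ({⟨α, hαK⟩, ⟨β, hβK⟩} : Set K)).map K.subtype := by
          rw [MonoidHom.map_closure, Set.image_pair]; exact hg0
        obtain ⟨w, hw, rfl⟩ := hm
        exact hw
      have h2 : (⟨u, huK⟩ : K) ∈ Subgroup.center K := Subgroup.mem_center_iff.2 fun w =>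
        Subtype.ext (StemBasic.ker_comm hc hu w.1)
      exact mul_mem (Subgroup.closure_mono Set.subset_union_left h1)
        (Subgroup.subset_closure (Set.mem_union_right _ h2))
    set cK : K := ⟨⁅β, α⁆, by show σ ⁅β, α⁆ ∈ P; rw [hcσ]; exact one_mem _⟩ with hcK
    have hcen : ∀ w : K, w * cK * w⁻¹ ∈ Subgroup.zpowers cK ∧ w⁻¹ * cK * w ∈ Subgroup.zpowers cK := by
      intro w
      have hw : w * cK = cK * w := Subtype.ext (hcc w.1)
      constructor
      · rw [hw, mul_inv_cancel_right]; exact Subgroup.mem_zpowers _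
      · rw [mul_assoc, ← hw, inv_mul_cancel_left]; exact Subgroup.mem_zpowers _
    have hle := StemBasic.commutator_le_zpowers (K := K) ⟨α, hαK⟩ ⟨β, hβK⟩ hKgen cK
      (Subtype.ext (commutatorElement_def β α).symm) (hcen _).1 (hcen _).1 (hcen _).2 (hcen _).2
    obtain ⟨w, hw, rfl⟩ := hmem
    obtain ⟨i, rfl⟩ := hle hw
    exact ⟨i, by simp [hcK]⟩

/-- kernel elements of order a power of a prime other than two and three are trivial -/
theorem eq_one_of_large (hσ : Cfsg.IsStemExtension σ) (hF : Fintype.card F = 4) {z : L} (hz : σ z = 1)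
    {p k : ℕ} (hp : p.Prime) (h2 : p ≠ 2) (h3 : p ≠ 3) (hk : orderOf z = p ^ k) : z = 1 := by
  haveI : Fact p.Prime := ⟨hp⟩
  haveI : Finite Q := Nat.finite_of_card_ne_zero (by rw [card_psl hF]; norm_num)
  have hc := hσ.2.1
  by_cases hdvd : p ∣ 20160
  · have hp57 : p = 5 ∨ p = 7 := by
      have hle : p ≤ 20160 := Nat.le_of_dvd (by norm_num) hdvd
      rw [show (20160 : ℕ) = 2 ^ 6 * (3 ^ 2 * (5 * 7)) by norm_num] at hdvd
      rcases (Nat.Prime.dvd_mul hp).1 hdvd with h | h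
      · exact absurd ((Nat.prime_dvd_prime_iff_eq hp Nat.prime_two).1 (hp.dvd_of_dvd_pow h)) h2
      rcases (Nat.Prime.dvd_mul hp).1 h with h | h
      · exact absurd ((Nat.prime_dvd_prime_iff_eq hp Nat.prime_three).1 (hp.dvd_of_dvd_pow h)) h3
      rcases (Nat.Prime.dvd_mul hp).1 h with h | h
      · exact Or.inl ((Nat.prime_dvd_prime_iff_eq hp (by norm_num)).1 h)
      · exact Or.inr ((Nat.prime_dvd_prime_iff_eq hp (by norm_num)).1 h)
    obtain ⟨a, ha⟩ := exists_prime_orderOf_dvd_card' (G := Q) p (by rw [card_psl hF]; exact hdvd)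
    refine StemBasic.eq_one_of_kerFree hσ (StemBasic.kerFree_zpowers σ hc a) hz ?_
    have hidx := (Subgroup.zpowers a).card_mul_index
    rw [Nat.card_zpowers, ha, card_psl hF] at hidx
    rw [hk]
    refine Nat.Coprime.pow_left _ ?_
    rcases hp57 with rfl | rfl
    · rw [show (Subgroup.zpowers a).index = 4032 by omega]; norm_num
    · rw [show (Subgroup.zpowers a).index = 2880 by omega]; norm_num
  · refine StemBasic.eq_one_of_kerFree hσ (StemBasic.kerFree_zpowers σ hc 1) hz ?_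
    have hidx := (Subgroup.zpowers (1 : Q)).card_mul_index
    rw [Nat.card_zpowers, orderOf_one, card_psl hF, one_mul] at hidx
    rw [hidx, hk]
    exact Nat.Coprime.pow_left _ (hp.coprime_iff_not_dvd.2 hdvd)

/-- The kernel of a stem extension of `PSL_3(4)` is an image of `Z/3 × Z/4 × Z/4`. -/
theorem ker_image (hσ : Cfsg.IsStemExtension σ) (hF : Fintype.card F = 4) (hG : commutator Q = ⊤) :
    ∃ π : Multiplicative (ZMod 3 × ZMod 4 × ZMod 4) →* σ.ker, Function.Surjective π := by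
  have hs := hσ.1
  have hc := hσ.2.1
  have hperf := StemBasic.commutator_eq_top_of_stem hσ hG
  obtain ⟨c, hcσ, hc3, hcall⟩ := exists_three σ hs hc hperf hF
  -- exponent twelve
  have h12 : ∀ z : L, σ z = 1 → z ^ 12 = 1 := by
    intro z hz
    refine orderOf_dvd_iff_pow_eq_one.1 ((Nat.dvd_iff_prime_pow_dvd_dvd _ _).2 fun p k hp hk => ?_)
    obtain ⟨m, hm⟩ := hk
    have hy : orderOf (z ^ m) = p ^ k := by
      have hm0 : m ≠ 0 := by rintro rfl; exact (orderOf_pos z).ne' (by simpa using hm)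
      rw [orderOf_pow' _ hm0, hm, Nat.gcd_mul_left_left, Nat.mul_div_cancel _ (Nat.pos_of_ne_zero hm0)]
    have hyσ : σ (z ^ m) = 1 := by rw [map_pow, hz, one_pow]
    rcases eq_or_ne p 2 with rfl | h2
    · refine dvd_trans ?_ (by norm_num : 4 ∣ 12)
      rw [← hy]; exact orderOf_dvd_of_pow_eq_one (pow_four_of_two σ hs hc hperf hF hyσ hy)
    rcases eq_or_ne p 3 with rfl | h3
    · refine dvd_trans ?_ (by norm_num : 3 ∣ 12)
      obtain ⟨i, hi⟩ := hcall _ hyσ ⟨k, hy⟩
      rw [← hy, ← hi]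
      refine orderOf_dvd_of_pow_eq_one ?_
      change (c ^ i) ^ 3 = 1
      rw [← zpow_natCast, ← zpow_mul, mul_comm, zpow_mul, zpow_natCast, hc3, one_zpow]
    · rw [← hy, eq_one_of_large σ hσ hF hyσ hp h2 h3 hy, orderOf_one]; exact one_dvd _
  have hfour : ∀ z : L, σ z = 1 → z ^ 4 ∈ Subgroup.zpowers c := by
    intro z hz
    have h4 : σ (z ^ 4) = 1 := by rw [map_pow, hz, one_pow]
    refine hcall _ h4 ?_
    have : orderOf (z ^ 4) ∣ 3 := orderOf_dvd_of_pow_eq_one (by rw [← pow_mul]; exact h12 z hz)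
    rcases (Nat.dvd_prime Nat.prime_three).1 this with h | h
    · exact ⟨0, by simpa using h⟩
    · exact ⟨1, by simpa using h⟩
  -- modulo squares
  have hkcomm : ∀ a b : L, σ a = 1 → Commute a b := fun a b ha => (StemBasic.ker_comm hc ha b).symm
  let S : Subgroup L :=
    { carrier := {x | ∃ z, σ z = 1 ∧ x = z ^ 2}
      one_mem' := ⟨1, map_one σ, by simp⟩
      mul_mem' := by
        rintro _ _ ⟨a, ha, rfl⟩ ⟨b, hb, rfl⟩
        exact ⟨a * b, by rw [map_mul, ha, hb, one_mul], ((hkcomm a b ha).mul_pow 2).symm⟩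
      inv_mem' := by
        rintro _ ⟨a, ha, rfl⟩
        exact ⟨a⁻¹, by rw [map_inv, ha, inv_one], (inv_pow a 2).symm⟩ }
  have hSσ : ∀ x ∈ S, σ x = 1 := by rintro _ ⟨a, ha, rfl⟩; rw [map_pow, ha, one_pow]
  haveI : S.Normal := ⟨fun x hx g => by
    rw [← (hkcomm x g (hSσ x hx)).eq, mul_inv_cancel_right]; exact hx⟩
  let τ : L ⧸ S →* Q := QuotientGroup.lift S σ fun x hx => hSσ x hx
  have hτs : Function.Surjective τ := fun g => by
    obtain ⟨x, rfl⟩ := hs g
    exact ⟨QuotientGroup.mk x, rfl⟩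
  have hτc : τ.ker ≤ Subgroup.center (L ⧸ S) := by
    intro w hw
    obtain ⟨x, rfl⟩ := QuotientGroup.mk_surjective w
    refine Subgroup.mem_center_iff.2 fun v => ?_
    obtain ⟨y, rfl⟩ := QuotientGroup.mk_surjective v
    exact congrArg QuotientGroup.mk (hkcomm x y hw).eq.symm
  have hτe : ∀ w, τ w = 1 → w * w = 1 := by
    intro w hw
    obtain ⟨x, rfl⟩ := QuotientGroup.mk_surjective w
    exact (QuotientGroup.eq_one_iff (x * x)).2 ⟨x, hw, (pow_two x).symm⟩
  have hτp : commutator (L ⧸ S) = ⊤ := by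
    rw [_root_.commutator_def, ← Subgroup.map_top_of_surjective _ (QuotientGroup.mk'_surjective S),
      ← Subgroup.map_commutator, ← _root_.commutator_def, hperf,
      Subgroup.map_top_of_surjective _ (QuotientGroup.mk'_surjective S)]
  have hcard := card_ker_le τ hF hτs hτc hτe hτp
  obtain ⟨e1, he1, e2, he2, hspan⟩ : ∃ e1, σ e1 = 1 ∧ ∃ e2, σ e2 = 1 ∧
      ∀ z : L, σ z = 1 → ∃ i j : ℕ, ∃ u, σ u = 1 ∧ z = e1 ^ i * e2 ^ j * u ^ 2 := by
    classical
    have sq : ∀ x : τ.ker, x * x = 1 := fun x => Subtype.ext (hτe _ x.2)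
    have lifted : ∀ x : τ.ker, ∃ e, σ e = 1 ∧ QuotientGroup.mk e = (x : L ⧸ S) := fun x => by
      obtain ⟨e, he⟩ := QuotientGroup.mk_surjective (x : L ⧸ S)
      refine ⟨e, ?_, he⟩
      have h2 : τ (x : L ⧸ S) = 1 := x.2
      rw [← he] at h2
      exact h2
    obtain ⟨f1, f2, hf⟩ : ∃ f1 f2 : τ.ker, ∀ x : τ.ker, ∃ i j : ℕ, x = f1 ^ i * f2 ^ j := by
      by_cases h1 : ∀ x : τ.ker, x = 1
      · exact ⟨1, 1, fun x => ⟨0, 0, by simp [h1 x]⟩⟩
      push Not at h1
      obtain ⟨f1, hf1⟩ := h1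
      by_cases h2 : ∀ x : τ.ker, x = 1 ∨ x = f1
      · refine ⟨f1, 1, fun x => ?_⟩
        rcases h2 x with h | h
        · exact ⟨0, 0, by simp [h]⟩
        · exact ⟨1, 0, by simp [h]⟩
      push Not at h2
      obtain ⟨f2, hf2, hf21⟩ := h2
      refine ⟨f1, f2, fun x => ?_⟩
      haveI := Fintype.ofFinite τ.ker
      have hc12 : f1 * f2 ≠ 1 ∧ f1 * f2 ≠ f1 ∧ f1 * f2 ≠ f2 := by
        refine ⟨fun h => hf21 ?_, fun h => hf2 (mul_eq_left.1 h), fun h => hf1 (mul_eq_right.1 h)⟩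
        calc f2 = f1 * f1 * f2 := by rw [sq, one_mul]
          _ = f1 := by rw [mul_assoc, h, mul_one]
      have h4 : ({1, f1, f2, f1 * f2} : Finset τ.ker).card = 4 := by
        rw [Finset.card_insert_of_notMem, Finset.card_insert_of_notMem, Finset.card_insert_of_notMem,
          Finset.card_singleton] <;> simp [Ne.symm hf1, Ne.symm hf2, Ne.symm hf21, Ne.symm hc12.1,
            Ne.symm hc12.2.1, Ne.symm hc12.2.2]
      have huniv : ({1, f1, f2, f1 * f2} : Finset τ.ker) = Finset.univ := by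
        refine Finset.eq_univ_of_card _ (le_antisymm (Finset.card_le_univ _) ?_)
        rw [h4, ← Nat.card_eq_fintype_card]; exact hcard
      have := huniv.ge (Finset.mem_univ x)
      simp only [Finset.mem_insert, Finset.mem_singleton] at this
      rcases this with h | h | h | h
      · exact ⟨0, 0, by simp [h]⟩
      · exact ⟨1, 0, by simp [h]⟩
      · exact ⟨0, 1, by simp [h]⟩
      · exact ⟨1, 1, by simp [h]⟩
    obtain ⟨e1, he1, he1'⟩ := lifted f1
    obtain ⟨e2, he2, he2'⟩ := lifted f2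
    refine ⟨e1, he1, e2, he2, fun z hz => ?_⟩
    obtain ⟨i, j, hij⟩ := hf ⟨QuotientGroup.mk z, hz⟩
    have hq : (QuotientGroup.mk z : L ⧸ S) = QuotientGroup.mk (e1 ^ i * e2 ^ j) := by
      rw [QuotientGroup.mk_mul, QuotientGroup.mk_pow, QuotientGroup.mk_pow, he1', he2']
      exact congrArg Subtype.val hij
    obtain ⟨u, hu, hue⟩ := QuotientGroup.eq.1 hq.symm
    exact ⟨i, j, u, hu, by rw [← hue, mul_inv_cancel_left]⟩
  -- the map
  letI : CommGroup σ.ker :=
    { (inferInstance : Group σ.ker) with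
      mul_comm := fun a b => Subtype.ext (hkcomm a.1 b.1 a.2).eq }
  let C : σ.ker := ⟨c, hcσ⟩
  let E1 : σ.ker := ⟨e1 ^ 9, by rw [MonoidHom.mem_ker, map_pow, he1, one_pow]⟩
  let E2 : σ.ker := ⟨e2 ^ 9, by rw [MonoidHom.mem_ker, map_pow, he2, one_pow]⟩
  have p3 : ∀ (z : σ.ker) (n : ℕ), z ^ n = 1 → ∃ f : Multiplicative (ZMod n) →* σ.ker,
      ∀ i : ℕ, f (Multiplicative.ofAdd (i : ZMod n)) = z ^ i := by
    intro z n hz
    refine ⟨AddMonoidHom.toMultiplicativeLeft (ZMod.lift n ⟨AddMonoidHom.mk'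
      (fun i : ℤ => Additive.ofMul (z ^ i)) (fun a b => by simp [zpow_add]), by
        show Additive.ofMul (z ^ (n : ℤ)) = 0
        rw [zpow_natCast, hz]; rfl⟩), fun i => ?_⟩
    show Additive.toMul (ZMod.lift n _ (i : ZMod n)) = _
    rw [show (i : ZMod n) = ((i : ℤ) : ZMod n) from (Int.cast_natCast i).symm, ZMod.lift_coe]
    exact zpow_natCast z i
  obtain ⟨f0, hf0⟩ := p3 C 3 (Subtype.ext hc3)
  have p36 : ∀ e : L, σ e = 1 → (e ^ 9) ^ 4 = 1 := fun e he => by
    rw [← pow_mul, show 9 * 4 = 12 * 3 from rfl, pow_mul, h12 e he, one_pow]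
  obtain ⟨f1, hf1⟩ := p3 E1 4 (Subtype.ext (p36 e1 he1))
  obtain ⟨f2, hf2⟩ := p3 E2 4 (Subtype.ext (p36 e2 he2))
  let π : Multiplicative (ZMod 3 × ZMod 4 × ZMod 4) →* σ.ker :=
    MonoidHom.mk' (fun x => f0 (Multiplicative.ofAdd x.toAdd.1) *
      (f1 (Multiplicative.ofAdd x.toAdd.2.1) * f2 (Multiplicative.ofAdd x.toAdd.2.2))) fun a b => by
      simp only [toAdd_mul, Prod.fst_add, Prod.snd_add, ofAdd_add, map_mul]
      rw [mul_mul_mul_comm (f1 _) (f1 _)]
      exact mul_mul_mul_comm _ _ _ _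
  have mem : ∀ i j k : ℕ, C ^ i * (E1 ^ j * E2 ^ k) ∈ π.range := fun i j k =>
    ⟨Multiplicative.ofAdd ((i : ZMod 3), (j : ZMod 4), (k : ZMod 4)), by simp [π, hf0, hf1, hf2]⟩
  refine ⟨π, fun x => ?_⟩
  rw [← MonoidHom.mem_range]
  have h13 : x = x ^ 4 * x ^ 9 := by
    have : x ^ 12 = 1 := Subtype.ext (h12 x.1 x.2)
    rw [← pow_add, pow_succ, this, one_mul]
  rw [h13]
  refine mul_mem ?_ ?_
  · obtain ⟨i, hi⟩ := hfour x.1 x.2
    have hC : C ∈ π.range := by simpa using mem 1 0 0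
    have : x ^ 4 = C ^ i := Subtype.ext (by simpa [C] using hi.symm)
    rw [this]; exact zpow_mem hC i
  · obtain ⟨i, j, u, hu, hx⟩ := hspan x.1 x.2
    obtain ⟨i', j', v, hv, hux⟩ := hspan u hu
    let Y1 : σ.ker := ⟨e1, he1⟩
    let Y2 : σ.ker := ⟨e2, he2⟩
    let V : σ.ker := ⟨v, hv⟩
    have hx2 : x = Y1 ^ i * Y2 ^ j * (Y1 ^ i' * Y2 ^ j' * V ^ 2) ^ 2 := by
      refine Subtype.ext ?_
      simp only [Subgroup.coe_mul, SubmonoidClass.coe_pow, Y1, Y2, V]
      rw [← hux]; exact hx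
    have hV : (V ^ 4) ^ 9 = 1 := by
      rw [← pow_mul, show 4 * 9 = 12 * 3 from rfl, pow_mul, show V ^ 12 = 1 from Subtype.ext (h12 v hv), one_pow]
    have : x ^ 9 = E1 ^ (i + 2 * i') * E2 ^ (j + 2 * j') := by
      have hE1 : E1 = Y1 ^ 9 := Subtype.ext rfl
      have hE2 : E2 = Y2 ^ 9 := Subtype.ext rfl
      rw [hx2, hE1, hE2]
      simp only [mul_pow, ← pow_mul] at hV ⊢
      norm_num at hV ⊢
      rw [hV, mul_one, mul_mul_mul_comm, ← pow_add, ← pow_add]
      congr 2 <;> ring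
    rw [this]
    simpa using mem 0 (i + 2 * i') (j + 2 * j')

end Cfsg.Agent.L34BoundFull60
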