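import Cfsg.Agent.Lib.L34CoverChecks60
import Cfsg.Agent.Lib.EdgeVoltageCover60
import Cfsg.Agent.Lib.StemSLnTv
import Cfsg.Agent.Lib.PSLSimple
import Mathlib

/-!
A stem extension of `PSL_3(4)` with kernel `Z/3 × Z/4 × Z/4`.
-/

set_option autoImplicit false
set_option backward.isDefEq.respectTransparency false
set_option maxRecDepth 100000

namespace Cfsg.Agent.L34Cover60

open scoped MatrixGroups commutatorElement
open Cfsg.Agent.FieldFour15 Cfsg.Agent.L34CoverData60 Cfsg.Agent.L34CoverChecks60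
open Cfsg.Agent.StemSLnTv (tv tv_add tv_zero tv_bracket)

/-- `SL_3(4)` -/
abbrev S3 := Matrix.SpecialLinearGroup (Fin 3) K4

/-- `PSL_3(4)` -/
abbrev P3 := Matrix.ProjectiveSpecialLinearGroup (Fin 3) K4

/-- the projection -/
def pr : S3 →* P3 := QuotientGroup.mk' (Subgroup.center S3)

/-- the matrix of a record -/
def toMat (m : M9) : Matrix (Fin 3) (Fin 3) K4 :=
  !![m.a00, m.a01, m.a02; m.a10, m.a11, m.a12; m.a20, m.a21, m.a22]

/-- the record of a matrix -/
def ofMat (A : Matrix (Fin 3) (Fin 3) K4) : M9 :=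
  ⟨A 0 0, A 0 1, A 0 2, A 1 0, A 1 1, A 1 2, A 2 0, A 2 1, A 2 2⟩

theorem ofMat_toMat (m : M9) : ofMat (toMat m) = m := rfl

theorem toMat_ofMat (A : Matrix (Fin 3) (Fin 3) K4) : toMat (ofMat A) = A := by
  ext i j; fin_cases i <;> fin_cases j <;> rfl

theorem ofMat_mul (A B : Matrix (Fin 3) (Fin 3) K4) : ofMat (A * B) = (ofMat A).mul (ofMat B) := by
  simp only [ofMat, M9.mul, Matrix.mul_apply, Fin.sum_univ_three]
  rfl

theorem ofMat_smul (l : K4) (A : Matrix (Fin 3) (Fin 3) K4) : ofMat (l • A) = M9.smul l (ofMat A) := rfl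

theorem ofMat_one : ofMat 1 = M9.one := by decide +kernel

/-- the record of a group element -/
def φ (g : S3) : M9 := ofMat g.1

theorem φ_injective : Function.Injective φ := fun g h e =>
  Subtype.ext (by rw [← toMat_ofMat g.1, ← toMat_ofMat h.1]; exact congrArg toMat e)

theorem φ_mul (g h : S3) : φ (g * h) = (φ g).mul (φ h) := ofMat_mul g.1 h.1

theorem φ_one : φ 1 = M9.one := ofMat_one

theorem φ_pow (g : S3) : ∀ n, φ (g ^ n) = (φ g).pow n
  | 0 => φ_one
  | n + 1 => by rw [pow_succ, φ_mul, φ_pow g n]; rfl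

theorem det_toMat (m : M9) : (toMat m).det = m.det := by
  rw [Matrix.det_fin_three]
  have hneg : ∀ x : K4, -x = x := fun _ => rfl
  have hsub : ∀ x y : K4, x - y = x + y := fun x y => by rw [sub_eq_add_neg, hneg]
  simp only [hsub, toMat, M9.det]
  show _ = m.a00 * (m.a11 * m.a22 + m.a12 * m.a21) + m.a01 * (m.a10 * m.a22 + m.a12 * m.a20)
    + m.a02 * (m.a10 * m.a21 + m.a11 * m.a20)
  simp
  ring

/-- a group element from a record -/
def mk (m : M9) : S3 := if h : (toMat m).det = 1 then ⟨toMat m, h⟩ else 1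

theorem φ_mk {m : M9} (h : m.det = .l) : φ (mk m) = m := by
  rw [mk, dif_pos (show (toMat m).det = 1 by rw [det_toMat, h]; rfl)]
  rfl

/-- scalar elements -/
def sc (l : K4) : S3 := mk (M9.smul l M9.one)

theorem φ_mul_sc {l : K4} (hl : l ≠ .o) (g : S3) : φ (g * sc l) = M9.smul l (φ g) := by
  rw [φ_mul, sc, φ_mk (by revert hl; revert l; decide)]
  have : toMat (M9.smul l M9.one) = l • (1 : Matrix (Fin 3) (Fin 3) K4) := by
    rw [← ofMat_one, ← ofMat_smul, toMat_ofMat]
  rw [← ofMat_toMat (M9.smul l M9.one), this, φ, ← ofMat_mul, Matrix.mul_smul, mul_one, ofMat_smul]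

theorem sc_mem_center {l : K4} (hl : l ≠ .o) : sc l ∈ Subgroup.center S3 := by
  refine Subgroup.mem_center_iff.2 fun g => φ_injective ?_
  rw [φ_mul_sc hl, φ_mul, sc, φ_mk (by revert hl; revert l; decide)]
  have : toMat (M9.smul l M9.one) = l • (1 : Matrix (Fin 3) (Fin 3) K4) := by
    rw [← ofMat_one, ← ofMat_smul, toMat_ofMat]
  rw [← ofMat_toMat (M9.smul l M9.one), this, φ, ← ofMat_mul, Matrix.smul_mul, one_mul, ofMat_smul]

theorem pr_eq_of_smul {g h : S3} {l : K4} (hl : l ≠ .o) (e : φ g = M9.smul l (φ h)) : pr g = pr h := by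
  have : g = h * sc l := φ_injective (by rw [φ_mul_sc hl, e])
  rw [this, map_mul, show pr (sc l) = 1 from (QuotientGroup.eq_one_iff _).2 (sc_mem_center hl), mul_one]

theorem cd_smul {l : K4} (hl : l ≠ .o) (m : M9) : (M9.smul l m).cd = m.cd := by
  have h : ∀ x y, M9.smul x (M9.smul y m) = M9.smul (K4.mul x y) m := fun x y => by
    simp only [M9.smul, M9.mk.injEq]
    have : ∀ z, K4.mul x (K4.mul y z) = K4.mul (K4.mul x y) z := fun z => (mul_assoc x y z).symm
    exact ⟨this _, this _, this _, this _, this _, this _, this _, this _, this _⟩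
  have h1 : M9.smul .l m = m := rfl
  cases l
  · exact absurd rfl hl
  · rw [h1]
  · simp only [M9.cd, h, K4.mul, h1]; omega
  · simp only [M9.cd, h, K4.mul, h1]; omega

theorem cd_eq_of_pr {g h : S3} (e : pr g = pr h) : (φ g).cd = (φ h).cd := by
  have hz : g⁻¹ * h ∈ Subgroup.center S3 := QuotientGroup.eq.1 e
  obtain ⟨r, hr, hrs⟩ := Matrix.SpecialLinearGroup.mem_center_iff.1 hz
  have hr0 : r ≠ .o := by
    rintro rfl
    exact absurd hr (by decide)
  have : φ h = M9.smul r (φ g) := by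
    conv_lhs => rw [show h = g * (g⁻¹ * h) from (mul_inv_cancel_left g h).symm]
    rw [φ, Matrix.SpecialLinearGroup.coe_mul, ← hrs, φ, ← ofMat_smul]
    congr 1
    ext i j
    simp [Matrix.scalar_apply, Matrix.mul_diagonal, mul_comm]
  rw [this, cd_smul hr0]

/-! ### the points -/

theorem pt_facts {c : ℕ} (h : c < 960) :
    (pt c).det = .l ∧ code c = (pt c).cd ∧ code c ≠ M9.one.cd ∧
      (∀ j, 1 ≤ j → j ≤ 6 → code c ≤ ((pt c).pow j).cd) ∧
      (∃ l : K4, l ≠ .o ∧ (pt c).pow 7 = M9.smul l M9.one) ∧ (c + 1 < 960 → code c < code (c + 1)) := by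
  have := ptOK_all h
  simp only [ptOK, Bool.and_eq_true, decide_eq_true_eq, beq_iff_eq, Bool.not_eq_true',
    beq_eq_false_iff_ne, List.all_eq_true, List.any_eq_true, Bool.or_eq_true] at this
  obtain ⟨⟨⟨⟨⟨h1, h2⟩, h3⟩, h4⟩, ⟨l, hl, h5⟩⟩, h6⟩ := this
  refine ⟨h1, h2, h3, fun j hj1 hj6 => ?_, ⟨l, ?_, h5⟩, fun hc => ?_⟩
  · exact Nat.le_of_ble_eq_true (h4 j (by interval_cases j <;> simp))
  · fin_cases hl <;> decide
  · rcases h6 with h6 | h6
    · omega
    · simpa [Nat.blt] using h6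

theorem code_strictMono {c d : ℕ} (hcd : c < d) (hd : d < 960) : code c < code d := by
  induction d with
  | zero => omega
  | succ d ih =>
    have := (pt_facts (show d < 960 by omega)).2.2.2.2.2 hd
    rcases Nat.lt_or_ge c d with h | h
    · exact lt_trans (ih h (by omega)) this
    · rw [show c = d by omega]; exact this

/-- the point elements of the simple group -/
def pe (c : Fin 960) : P3 := pr (mk (pt c))

theorem pe_pow_seven (c : Fin 960) : pe c ^ 7 = 1 := by
  obtain ⟨h1, -, -, -, ⟨l, hl, h5⟩, -⟩ := pt_facts c.2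
  rw [pe, ← map_pow, ← map_one pr]
  exact pr_eq_of_smul hl (by rw [φ_pow, φ_mk h1, h5, φ_one])

theorem code_le {c d : Fin 960} (h : pe d ∈ Subgroup.zpowers (pe c)) : code c ≤ code d := by
  obtain ⟨c1, -, -, c4, -, -⟩ := pt_facts c.2
  obtain ⟨d1, d2, d3, -, -, -⟩ := pt_facts d.2
  obtain ⟨i, hi⟩ := h
  change pe c ^ i = pe d at hi
  rw [zpow_eq_zpow_emod' i (pe_pow_seven c)] at hi
  obtain ⟨j, hj, hj7⟩ : ∃ j : ℕ, i % ((7 : ℕ) : ℤ) = (j : ℤ) ∧ j < 7 :=
    ⟨(i % ((7 : ℕ) : ℤ)).toNat, by omega, by omega⟩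
  rw [hj, zpow_natCast, pe, pe, ← map_pow] at hi
  have e := cd_eq_of_pr hi
  rw [φ_pow, φ_mk c1, φ_mk d1, ← d2] at e
  rcases Nat.eq_zero_or_pos j with rfl | hpos
  · exact absurd e.symm d3
  · rw [← e]; exact c4 j hpos (by omega)

theorem obj_injective : Function.Injective (fun c : Fin 960 => Subgroup.zpowers (pe c)) := by
  intro c d h
  have h' : Subgroup.zpowers (pe c) = Subgroup.zpowers (pe d) := h
  have e := le_antisymm (code_le (c := c) (d := d) (h' ▸ Subgroup.mem_zpowers _))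
    (code_le (c := d) (d := c) (h' ▸ Subgroup.mem_zpowers _))
  rcases lt_trichotomy c.1 d.1 with hl | hl | hl
  · exact absurd e (code_strictMono hl d.2).ne
  · exact Fin.ext hl
  · exact absurd e (code_strictMono hl c.2).ne'

/-- the value group -/
abbrev B := ZMod 4 × ZMod 4

/-- decoding of labels -/
def lab (t : ℕ) : B := (((t / 4 : ℕ) : ZMod 4), (t : ZMod 4))

theorem lab_addT : ∀ t < 16, ∀ u < 16, lab (addT t u) = lab t + lab u ∧ addT t u < 16 := by decide +kernel

theorem lab_negT : ∀ t < 16, lab (negT t) = -lab t ∧ negT t < 16 := by decide +kernel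

theorem entry_label_lt (i r : ℕ) : entry i r >>> 10 < 16 := by
  have h : entry i r ≤ 16383 := Nat.and_le_right
  rw [Nat.shiftRight_eq_div_pow]
  omega

theorem vo_lt (k : Fin 3) (c : ℕ) : vo k c < 16 := by
  have h0 : vo0 c ≤ 15 := Nat.and_le_right
  have h1 : vo1 c ≤ 15 := Nat.and_le_right
  have h2 : vo2 c ≤ 15 := Nat.and_le_right
  fin_cases k <;> simp [vo] <;> omega

/-- the labelled edges -/
def Edge (i j : Fin 960) (f : B) : Prop :=
  ∃ r < 7, entry i r &&& 1023 = j.1 ∧ lab (entry i r >>> 10) = f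

theorem row_facts {i : ℕ} (h : i < 960) :
    (∀ r < 7, entry i r &&& 1023 < 960) ∧
      (∀ r r', r < r' → r' < 7 → entry i r &&& 1023 < entry i r' &&& 1023) ∧
      par i < 960 ∧ par (par (par (par i))) = 0 ∧
      (i = 0 ∨ ∃ r < 7, entry (par i) r &&& 1023 = i ∨ entry i r &&& 1023 = par i) := by
  have := rowOK_all h
  simp only [rowOK, Bool.and_eq_true, Bool.or_eq_true, List.all_eq_true, List.any_eq_true,
    beq_iff_eq] at this
  obtain ⟨⟨⟨⟨h1, h2⟩, h3⟩, h4⟩, h5⟩ := this
  have hlt : ∀ r < 7, entry i r &&& 1023 < 960 := fun r hr => by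
    have := h1 r (by interval_cases r <;> simp)
    simpa [Nat.blt] using this
  have hstep : ∀ r < 6, entry i r &&& 1023 < entry i (r + 1) &&& 1023 := fun r hr => by
    have := h2 r (by interval_cases r <;> simp)
    simpa [Nat.blt] using this
  refine ⟨hlt, fun r r' hr hr' => ?_, by simpa [Nat.blt] using h3, h4, ?_⟩
  · induction r' with
    | zero => omega
    | succ r' ih =>
      rcases Nat.lt_or_ge r r' with h | h
      · exact lt_trans (ih h (by omega)) (hstep r' (by omega))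
      · rw [show r = r' by omega]; exact hstep r' (by omega)
  · rcases h5 with h5 | ⟨r, hr, h5⟩
    · exact Or.inl h5
    · exact Or.inr ⟨r, by fin_cases hr <;> norm_num, h5⟩

theorem edge_fun {i j : Fin 960} {f f' : B} (h : Edge i j f) (h' : Edge i j f') : f = f' := by
  obtain ⟨r, hr, he, hf⟩ := h
  obtain ⟨r', hr', he', hf'⟩ := h'
  have hm := (row_facts i.2).2.1
  rcases lt_trichotomy r r' with hl | hl | hl
  · exact absurd (he.trans he'.symm) (hm r r' hl hr').ne
  · rw [← hf, ← hf', hl]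
  · exact absurd (he'.trans he.symm) (hm r' r hl hr).ne

/-- conjugation of subgroups -/
def act (g : S3) (H : Subgroup P3) : Subgroup P3 := H.map (MulAut.conj (pr g)).toMonoidHom

/-- the parent map -/
def parF (c : Fin 960) : Fin 960 := ⟨par c % 960, Nat.mod_lt _ (by norm_num)⟩

theorem parF_val (c : Fin 960) : (parF c).1 = par c := Nat.mod_eq_of_lt (row_facts c.2).2.2.1

/-- the setup -/
def setup : EdgeVoltageCover60.Setup S3 (Subgroup P3) 960 B where
  act := act
  act_one H := by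
    show H.map _ = H
    ext x; simp [Subgroup.mem_map]
  act_mul g h H := by
    show H.map _ = (H.map _).map _
    rw [Subgroup.map_map]
    refine congrArg (fun f => Subgroup.map f H) (MonoidHom.ext fun x => ?_)
    simp [map_mul]
  obj c := Subgroup.zpowers (pe c)
  obj_inj := obj_injective
  E := Edge
  E_fun := edge_fun
  root := 0
  par := parF
  depth := 4
  par_root c := by
    refine Fin.ext ?_
    simp only [Function.iterate_succ, Function.iterate_zero, id_eq, Function.comp_apply, parF_val]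
    exact (row_facts c.2).2.2.2.1
  par_edge c := by
    rcases (row_facts c.2).2.2.2.2 with h | ⟨r, hr, h | h⟩
    · exact Or.inl (Fin.ext h)
    · exact Or.inr ⟨_, Or.inl ⟨r, hr, by rw [parF_val]; exact h, by rw [parF_val]⟩⟩
    · exact Or.inr ⟨_, Or.inr ⟨r, hr, by rw [parF_val]; exact h, rfl⟩⟩

/-- the generators -/
def gen (k : Fin 3) : S3 := mk (X k)

theorem conj_facts (k : Fin 3) {c : ℕ} (h : c < 960) :
    nx k c < 960 ∧ pv k c < 960 ∧ pv k (nx k c) = c ∧ nx k (pv k c) = c ∧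
      ∃ j, 1 ≤ j ∧ j ≤ 6 ∧ ∃ l : K4, l ≠ .o ∧
        M9.mul (M9.mul (X k) (pt c)) (Xi k) = M9.smul l ((pt (nx k c)).pow j) := by
  have := conjOK_all k h
  simp only [conjOK, Bool.and_eq_true, List.any_eq_true, beq_iff_eq, decide_eq_true_eq] at this
  obtain ⟨⟨⟨⟨h1, h2⟩, h3⟩, h4⟩, j, hj, l, hl, h5⟩ := this
  refine ⟨by simpa [Nat.blt] using h1, by simpa [Nat.blt] using h2, h3, h4, j, ?_, ?_, l, ?_, h5⟩
  · fin_cases hj <;> norm_num
  · fin_cases hj <;> norm_num
  · fin_cases hl <;> decide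

theorem φ_gen (k : Fin 3) : φ (gen k) = X k := φ_mk (by revert k; decide)

theorem φ_gen_inv (k : Fin 3) : φ (gen k)⁻¹ = Xi k := by
  have hd : (Xi k).det = .l := by revert k; decide
  have : (gen k)⁻¹ = mk (Xi k) := inv_eq_of_mul_eq_one_right (φ_injective (by
    rw [φ_mul, φ_gen, φ_mk hd, φ_one]; revert k; decide))
  rw [this, φ_mk hd]

/-- the point map of a generator -/
def sFun (k : Fin 3) (c : Fin 960) : Fin 960 := ⟨nx k c, (conj_facts k c.2).1⟩

/-- its inverse -/
def pFun (k : Fin 3) (c : Fin 960) : Fin 960 := ⟨pv k c, (conj_facts k c.2).2.1⟩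

/-- the lift of a generator -/
def lift (k : Fin 3) : Equiv.Perm (Fin 960 × B) where
  toFun x := (sFun k x.1, lab (vo k x.1) + x.2)
  invFun x := (pFun k x.1, -lab (vo k (pFun k x.1)) + x.2)
  left_inv x := by
    have : pFun k (sFun k x.1) = x.1 := Fin.ext (conj_facts k x.1.2).2.2.1
    refine Prod.ext this ?_
    show -lab (vo k (pFun k (sFun k x.1))) + _ = _
    rw [this, neg_add_cancel_left]
  right_inv x := by
    have : sFun k (pFun k x.1) = x.1 := Fin.ext (conj_facts k x.1.2).2.2.2.1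
    exact Prod.ext this (add_neg_cancel_left _ _)

theorem lift_mem (k : Fin 3) : (gen k, lift k) ∈ EdgeVoltageCover60.cover setup := by
  refine ⟨sFun k, fun c => lab (vo k c), fun c a => rfl, fun c => ?_, ?_⟩
  · obtain ⟨-, -, -, -, j, hj1, hj6, l, hl, h5⟩ := conj_facts k c.2
    have hd := (pt_facts (sFun k c).2).1
    have hc := (pt_facts c.2).1
    have e : pr (gen k) * pe c * (pr (gen k))⁻¹ = pe (sFun k c) ^ j := by
      rw [pe, pe, ← map_inv, ← map_mul, ← map_mul, ← map_pow]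
      refine pr_eq_of_smul hl ?_
      rw [φ_mul, φ_mul, φ_gen, φ_gen_inv, φ_pow, φ_mk hc, φ_mk hd]
      exact h5
    show (Subgroup.zpowers (pe c)).map _ = Subgroup.zpowers (pe (sFun k c))
    rw [MonoidHom.map_zpowers]
    show Subgroup.zpowers (pr (gen k) * pe c * (pr (gen k))⁻¹) = _
    rw [e]
    refine le_antisymm (Subgroup.zpowers_le.2 (pow_mem (Subgroup.mem_zpowers _) j))
      (Subgroup.zpowers_le.2 ?_)
    obtain ⟨m, q, hm⟩ : ∃ m q : ℕ, j * m = 7 * q + 1 := by
      interval_cases j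
      exacts [⟨1, 0, rfl⟩, ⟨4, 1, rfl⟩, ⟨5, 2, rfl⟩, ⟨2, 1, rfl⟩, ⟨3, 2, rfl⟩, ⟨6, 5, rfl⟩]
    have := pow_mem (Subgroup.mem_zpowers (pe (sFun k c) ^ j)) m
    rwa [← pow_mul, hm, pow_succ, pow_mul, pe_pow_seven, one_pow, one_mul] at this
  · rintro i j f ⟨r, hr, he, rfl⟩
    have := edgeOK_all k i.2
    simp only [edgeOK, List.all_eq_true] at this
    have := this r (by interval_cases r <;> simp)
    simp only [edgeStep, List.any_eq_true, beq_iff_eq] at this
    obtain ⟨r', hr', e⟩ := this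
    rw [he] at e
    set t := addT (addT (entry i r >>> 10) (vo k i)) (negT (vo k j)) with ht
    obtain ⟨a1, a2⟩ := lab_addT _ (entry_label_lt i r) _ (vo_lt k i)
    obtain ⟨b1, b2⟩ := lab_negT _ (vo_lt k j)
    obtain ⟨c1, c2⟩ := lab_addT _ a2 _ b2
    have hlab : lab t = lab (entry i r >>> 10) + lab (vo k i) - lab (vo k j) := by
      rw [ht, c1, a1, b1, sub_eq_add_neg]
    have hn : nx k j < 2 ^ 10 := lt_trans (conj_facts k j.2).1 (by norm_num)
    rw [Nat.shiftLeft_eq, mul_comm t, Nat.lor_comm, ← Nat.two_pow_add_eq_or_of_lt hn] at e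
    refine ⟨r', by fin_cases hr' <;> norm_num, ?_, ?_⟩
    · show entry (nx k i) r' &&& 1023 = nx k j
      rw [e, show (1023 : ℕ) = 2 ^ 10 - 1 from rfl, Nat.and_two_pow_sub_one_eq_mod,
        Nat.mul_add_mod, Nat.mod_eq_of_lt hn]
    · show lab (entry (nx k i) r' >>> 10) = _
      rw [e, Nat.shiftRight_eq_div_pow, Nat.mul_add_div (by norm_num), Nat.div_eq_of_lt hn,
        add_zero, hlab]

/-! ### generation -/

theorem tv_all {H : Subgroup S3} (h1 : tv 0 1 (1 : K4) ∈ H) (ha : tv 0 1 (K4.a : K4) ∈ H) (c : K4) :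
    tv 0 1 c ∈ H := by
  cases c
  · rw [show tv 0 1 (K4.o : K4) = (1 : S3) from tv_zero]; exact one_mem _
  · exact h1
  · exact ha
  · rw [show (K4.b : K4) = K4.l + K4.a from rfl, tv_add (by decide)]; exact mul_mem h1 ha

theorem gen_eq : φ (gen 0) = φ (tv 0 1 (1 : K4)) ∧ φ (gen 1) = φ (tv 0 1 (K4.a : K4)) := by
  decide +kernel

theorem conj_tv : ∀ c : K4,
    φ (gen 2 * tv 0 1 c * (gen 2 * gen 2)) = φ (tv 2 0 c) ∧
      φ (gen 2 * tv 2 0 c * (gen 2 * gen 2)) = φ (tv 1 2 c) := by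
  decide +kernel

theorem gen_closure : Subgroup.closure (Set.range gen) = ⊤ := by
  set H := Subgroup.closure (Set.range gen)
  have hg : ∀ k, gen k ∈ H := fun k => Subgroup.subset_closure ⟨k, rfl⟩
  have h01 : ∀ c : K4, tv 0 1 c ∈ H := fun c =>
    tv_all (φ_injective gen_eq.1 ▸ hg 0) (φ_injective gen_eq.2 ▸ hg 1) c
  have h20 : ∀ c : K4, tv 2 0 c ∈ H := fun c => by
    rw [← φ_injective (conj_tv c).1]
    exact mul_mem (mul_mem (hg 2) (h01 c)) (mul_mem (hg 2) (hg 2))
  have h12 : ∀ c : K4, tv 1 2 c ∈ H := fun c => by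
    rw [← φ_injective (conj_tv c).2]
    exact mul_mem (mul_mem (hg 2) (h20 c)) (mul_mem (hg 2) (hg 2))
  have br : ∀ {i k j : Fin 3}, i ≠ k → k ≠ j → i ≠ j → (∀ c, tv i k c ∈ H) → (∀ c, tv k j c ∈ H) →
      ∀ c : K4, tv i j c ∈ H := fun hik hkj hij h h' c => by
    rw [show c = c * 1 from (mul_one c).symm, ← tv_bracket hik hkj hij, commutatorElement_def]
    exact mul_mem (mul_mem (mul_mem (h _) (h' _)) (inv_mem (h _))) (inv_mem (h' _))
  have h02 := br (i := 0) (k := 1) (j := 2) (by decide) (by decide) (by decide) h01 h12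
  have h10 := br (i := 1) (k := 2) (j := 0) (by decide) (by decide) (by decide) h12 h20
  have h21 := br (i := 2) (k := 0) (j := 1) (by decide) (by decide) (by decide) h20 h01
  refine PSLSimple.eq_top_of_transvection_mem H fun i j hij c => ?_
  have : tv i j c ∈ H := by
    fin_cases i <;> fin_cases j
    all_goals first | exact absurd rfl hij | exact h01 c | exact h02 c | exact h10 c | exact h12 c | exact h20 c | exact h21 c
  rwa [tv, dif_pos hij] at this

/-! ### commutators -/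

/-- the matrix of a word -/
def wordM : List (Fin 3) → M9
  | [] => M9.one
  | k :: w => M9.mul (X k) (wordM w)

/-- the point and label reached from `(0, 0)` -/
def wordT : List (Fin 3) → ℕ × ℕ
  | [] => (0, 0)
  | k :: w => let q := wordT w; (nx k q.1, addT (vo k q.1) q.2)

/-- the lifted word -/
def wordE : List (Fin 3) → EdgeVoltageCover60.cover setup
  | [] => 1
  | k :: w => ⟨_, lift_mem k⟩ * wordE w

theorem φ_wordE : ∀ w, φ (wordE w).1.1 = wordM w
  | [] => φ_one
  | k :: w => by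
    show φ (gen k * (wordE w).1.1) = _
    rw [φ_mul, φ_gen, φ_wordE w]; rfl

theorem wordE_apply : ∀ w, (wordT w).1 < 960 ∧ (wordT w).2 < 16 ∧
    ((wordE w).1.2 (0, 0)).1.1 = (wordT w).1 ∧ ((wordE w).1.2 (0, 0)).2 = lab (wordT w).2
  | [] => ⟨by decide, by decide, rfl, by decide⟩
  | k :: w => by
    obtain ⟨h1, h2, h3, h4⟩ := wordE_apply w
    obtain ⟨a1, a2⟩ := lab_addT _ (vo_lt k (wordT w).1) _ h2
    refine ⟨(conj_facts k h1).1, a2, ?_, ?_⟩
    · show (sFun k ((wordE w).1.2 (0, 0)).1).1 = _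
      show nx k ((wordE w).1.2 (0, 0)).1.1 = _
      rw [h3]; rfl
    · show lab (vo k ((wordE w).1.2 (0, 0)).1.1) + ((wordE w).1.2 (0, 0)).2 = _
      rw [h3, h4]; exact a1.symm

theorem wordE_append : ∀ u v, wordE (u ++ v) = wordE u * wordE v
  | [], v => (one_mul _).symm
  | k :: u, v => by
    show _ * wordE (u ++ v) = _ * wordE u * _
    rw [wordE_append u v, mul_assoc]

theorem shift_mem_comm {u v : List (Fin 3)} {b : B} (hm : wordM (u ++ v) = wordM (v ++ u))
    (hb : lab (wordT (u ++ v)).2 - lab (wordT (v ++ u)).2 = b) :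
    EdgeVoltageCover60.shiftHom setup (Multiplicative.ofAdd b) ∈
      commutator (EdgeVoltageCover60.cover setup) := by
  have hc : (wordE u).1.1 * (wordE v).1.1 = (wordE v).1.1 * (wordE u).1.1 := φ_injective (by
    have e1 := φ_wordE (u ++ v)
    have e2 := φ_wordE (v ++ u)
    rw [wordE_append] at e1 e2
    exact e1.trans (hm.trans e2.symm))
  have h := EdgeVoltageCover60.shift_mem_commutator setup (wordE u).2 (wordE v).2 hc 0 0
  have e1 := (wordE_apply (u ++ v)).2.2.2
  have e2 := (wordE_apply (v ++ u)).2.2.2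
  rw [wordE_append] at e1 e2
  have : (((wordE u).1.2 * (wordE v).1.2) (0, 0)).2 - (((wordE v).1.2 * (wordE u).1.2) (0, 0)).2 = b := by
    rw [← hb, ← e1, ← e2]; rfl
  simp only [this] at h
  exact h

theorem cert1 : wordM (u1 ++ v1) = wordM (v1 ++ u1) ∧
    lab (wordT (u1 ++ v1)).2 - lab (wordT (v1 ++ u1)).2 = ((3, 1) : B) := by
  decide +kernel

theorem cert2 : wordM (u2 ++ v2) = wordM (v2 ++ u2) ∧
    lab (wordT (u2 ++ v2)).2 - lab (wordT (v2 ++ u2)).2 = ((2, 3) : B) := by
  decide +kernel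

theorem span : ∀ b : B, ∃ x y : Fin 4, b = x.1 • ((3, 1) : B) + y.1 • ((2, 3) : B) := by
  decide +kernel

theorem shift_mem (b : Multiplicative B) :
    EdgeVoltageCover60.shiftHom setup b ∈ commutator (EdgeVoltageCover60.cover setup) := by
  obtain ⟨x, y, h⟩ := span b.toAdd
  have hb : b = Multiplicative.ofAdd ((3, 1) : B) ^ x.1 * Multiplicative.ofAdd ((2, 3) : B) ^ y.1 := by
    rw [← ofAdd_toAdd b, h, ofAdd_add, ofAdd_nsmul, ofAdd_nsmul]
  rw [hb, map_mul, map_pow, map_pow]
  exact mul_mem (pow_mem (shift_mem_comm cert1.1 cert1.2) _) (pow_mem (shift_mem_comm cert2.1 cert2.2) _)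

/-- the cover -/
theorem exists_cover : ∃ (Γ : Type) (_ : Group Γ) (_ : Finite Γ) (σ : Γ →* P3),
    Cfsg.IsStemExtension σ ∧ Nonempty (σ.ker ≃* Multiplicative (ZMod 3 × ZMod 4 × ZMod 4)) := by
  have hker : pr.ker = Subgroup.center S3 := QuotientGroup.ker_mk' _
  obtain ⟨Γ, i1, i2, σ, hσ, ⟨e⟩⟩ := EdgeVoltageCover60.exists_cover setup pr
    (QuotientGroup.mk'_surjective _) hker.le
    (fun g hg c => by
      show act g _ = _
      rw [act, show pr g = 1 from hg]
      ext x; simp [Subgroup.mem_map])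
    (PSLSimple.commutator_SL_eq_top (by simp))
    (EdgeVoltageCover60.proj_surjective setup lift lift_mem gen_closure)
    shift_mem
  refine ⟨Γ, i1, i2, σ, hσ, ⟨e.trans ?_⟩⟩
  have hu : Nat.card K4ˣ = 3 := by
    rw [Nat.card_units, Nat.card_eq_fintype_card, K4.card_eq]
  have htop : rootsOfUnity 3 K4 = ⊤ := by
    rw [eq_top_iff]
    intro u _
    rw [mem_rootsOfUnity, ← hu]
    exact pow_card_eq_one'
  have hc : Nat.card pr.ker = 3 := by
    rw [hker, Nat.card_congr (Matrix.SpecialLinearGroup.center_equiv_rootsOfUnity (n := Fin 3) (R := K4)).toEquiv]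
    show Nat.card (rootsOfUnity (max 3 1) K4) = 3
    rw [show max 3 1 = 3 from rfl, htop, Subgroup.card_top, hu]
  haveI : Fact (Nat.Prime 3) := ⟨by norm_num⟩
  haveI : IsCyclic pr.ker := isCyclic_of_prime_card hc
  have e3 : pr.ker ≃* Multiplicative (ZMod 3) :=
    mulEquivOfCyclicCardEq (by rw [hc, Nat.card_congr (Multiplicative.toAdd), Nat.card_zmod])
  exact (e3.prodCongr (MulEquiv.refl _)).trans
    { toFun := fun p => Multiplicative.ofAdd (p.1.toAdd, p.2.toAdd)
      invFun := fun x => (Multiplicative.ofAdd x.toAdd.1, Multiplicative.ofAdd x.toAdd.2)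
      left_inv := fun p => rfl
      right_inv := fun x => rfl
      map_mul' := fun p q => rfl }

end Cfsg.Agent.L34Cover60
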