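import Cfsg.Agent.Lib.L34CoverData60
import Cfsg.Agent.Lib.FieldFour15

/-!
Table checks for the `Z/4 × Z/4` cover of `SL_3(4)` on 960 points.
-/

set_option autoImplicit false
set_option maxRecDepth 100000
set_option maxHeartbeats 0

namespace Cfsg.Agent.L34CoverChecks60

open Cfsg.Agent.FieldFour15 Cfsg.Agent.L34CoverData60

/-- encoding of a field element -/
def toN : K4 → ℕ
  | .o => 0
  | .l => 1
  | .a => 2
  | .b => 3

/-- decoding of a field element -/
def ofN : ℕ → K4
  | 0 => .o
  | 1 => .l
  | 2 => .a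
  | _ => .b

/-- a three by three matrix over the field with four elements -/
structure M9 where
  a00 : K4
  a01 : K4
  a02 : K4
  a10 : K4
  a11 : K4
  a12 : K4
  a20 : K4
  a21 : K4
  a22 : K4
  deriving DecidableEq

namespace M9

/-- product -/
def mul (m n : M9) : M9 :=
  ⟨K4.add (K4.add (K4.mul m.a00 n.a00) (K4.mul m.a01 n.a10)) (K4.mul m.a02 n.a20),
    K4.add (K4.add (K4.mul m.a00 n.a01) (K4.mul m.a01 n.a11)) (K4.mul m.a02 n.a21),
    K4.add (K4.add (K4.mul m.a00 n.a02) (K4.mul m.a01 n.a12)) (K4.mul m.a02 n.a22),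
    K4.add (K4.add (K4.mul m.a10 n.a00) (K4.mul m.a11 n.a10)) (K4.mul m.a12 n.a20),
    K4.add (K4.add (K4.mul m.a10 n.a01) (K4.mul m.a11 n.a11)) (K4.mul m.a12 n.a21),
    K4.add (K4.add (K4.mul m.a10 n.a02) (K4.mul m.a11 n.a12)) (K4.mul m.a12 n.a22),
    K4.add (K4.add (K4.mul m.a20 n.a00) (K4.mul m.a21 n.a10)) (K4.mul m.a22 n.a20),
    K4.add (K4.add (K4.mul m.a20 n.a01) (K4.mul m.a21 n.a11)) (K4.mul m.a22 n.a21),
    K4.add (K4.add (K4.mul m.a20 n.a02) (K4.mul m.a21 n.a12)) (K4.mul m.a22 n.a22)⟩

/-- scalar multiple -/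
def smul (l : K4) (m : M9) : M9 :=
  ⟨K4.mul l m.a00, K4.mul l m.a01, K4.mul l m.a02, K4.mul l m.a10, K4.mul l m.a11, K4.mul l m.a12, K4.mul l m.a20, K4.mul l m.a21, K4.mul l m.a22⟩

/-- the identity -/
def one : M9 := ⟨.l, .o, .o, .o, .l, .o, .o, .o, .l⟩

/-- row-major code -/
def enc (m : M9) : ℕ :=
  (toN m.a00) <<< 0 + (toN m.a01) <<< 2 + (toN m.a02) <<< 4 + (toN m.a10) <<< 6 + (toN m.a11) <<< 8 + (toN m.a12) <<< 10 + (toN m.a20) <<< 12 + (toN m.a21) <<< 14 + (toN m.a22) <<< 16

/-- decoding -/
def dec (n : ℕ) : M9 :=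
  ⟨ofN ((n >>> 0) &&& 3), ofN ((n >>> 2) &&& 3), ofN ((n >>> 4) &&& 3), ofN ((n >>> 6) &&& 3), ofN ((n >>> 8) &&& 3), ofN ((n >>> 10) &&& 3), ofN ((n >>> 12) &&& 3), ofN ((n >>> 14) &&& 3), ofN ((n >>> 16) &&& 3)⟩

/-- determinant -/
def det (m : M9) : K4 :=
  K4.add (K4.add
    (K4.mul m.a00 (K4.add (K4.mul m.a11 m.a22) (K4.mul m.a12 m.a21)))
    (K4.mul m.a01 (K4.add (K4.mul m.a10 m.a22) (K4.mul m.a12 m.a20))))
    (K4.mul m.a02 (K4.add (K4.mul m.a10 m.a21) (K4.mul m.a11 m.a20)))

/-- least code of a scalar multiple -/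
def cd (m : M9) : ℕ :=
  min (enc m) (min (enc (smul .a m)) (enc (smul .b m)))

/-- powers -/
def pow (m : M9) : ℕ → M9
  | 0 => one
  | k + 1 => mul (pow m k) m

end M9

/-- the point representatives -/
def pt (c : ℕ) : M9 := M9.dec (code c)

/-- the three generators -/
def X : Fin 3 → M9 :=
  ![⟨.l, .l, .o, .o, .l, .o, .o, .o, .l⟩, ⟨.l, .a, .o, .o, .l, .o, .o, .o, .l⟩,
    ⟨.o, .l, .o, .o, .o, .l, .l, .o, .o⟩]

/-- their inverses -/
def Xi : Fin 3 → M9 :=
  ![⟨.l, .l, .o, .o, .l, .o, .o, .o, .l⟩, ⟨.l, .a, .o, .o, .l, .o, .o, .o, .l⟩,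
    ⟨.o, .o, .l, .l, .o, .o, .o, .l, .o⟩]

/-- `f` holds on `[lo, lo + n)` -/
def allFrom (f : ℕ → Bool) (lo : ℕ) : ℕ → Bool
  | 0 => true
  | n + 1 => f (lo + n) && allFrom f lo n

theorem allFrom_iff (f : ℕ → Bool) (lo : ℕ) :
    ∀ n, allFrom f lo n = true → ∀ c, lo ≤ c → c < lo + n → f c = true
  | 0, _, c, h1, h2 => by omega
  | n + 1, h, c, h1, h2 => by
    simp only [allFrom, Bool.and_eq_true] at h
    rcases Nat.lt_or_ge c (lo + n) with h3 | h3
    · exact allFrom_iff f lo n h.2 c h1 h3
    · rw [show c = lo + n by omega]; exact h.1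

/-- the point is a canonical element of order seven -/
def ptOK (c : ℕ) : Bool :=
  let p := pt c
  (decide (p.det = .l) && (code c == p.cd) && !(code c == M9.one.cd)) &&
    ([1, 2, 3, 4, 5, 6].all fun j => Nat.ble (code c) (p.pow j).cd) &&
    ([K4.l, K4.a, K4.b].any fun l => decide (p.pow 7 = M9.smul l M9.one)) &&
    (c + 1 == 960 || Nat.blt (code c) (code (c + 1)))

/-- conjugation of points by generators -/
def conjOK (k : Fin 3) (c : ℕ) : Bool :=
  let q := M9.mul (M9.mul (X k) (pt c)) (Xi k)
  let d := nx k c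
  Nat.blt d 960 && Nat.blt (pv k c) 960 && (pv k d == c) && (nx k (pv k c) == c) &&
    let p := pt d
    [1, 2, 3, 4, 5, 6].any fun j =>
      let r := p.pow j
      [K4.l, K4.a, K4.b].any fun l => decide (q = M9.smul l r)

/-- sum of two labels -/
def addT (t u : ℕ) : ℕ := ((t >>> 2) + (u >>> 2)) % 4 * 4 + (t + u) % 4

/-- negative of a label -/
def negT (t : ℕ) : ℕ := (4 - (t >>> 2)) % 4 * 4 + (4 - t % 4) % 4

/-- the edge `r` at `i` is carried to an edge -/
def edgeStep (k : Fin 3) (i r : ℕ) : Bool :=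
  let e := entry i r
  let j := e &&& 1023
  let want := nx k j ||| (addT (addT (e >>> 10) (vo k i)) (negT (vo k j))) <<< 10
  let i' := nx k i
  [0, 1, 2, 3, 4, 5, 6].any fun r' => entry i' r' == want

/-- all edges at `i` are carried to edges -/
def edgeOK (k : Fin 3) (i : ℕ) : Bool := [0, 1, 2, 3, 4, 5, 6].all (edgeStep k i)

/-- the edges at `i` go to different points, and `i` is joined to its parent -/
def rowOK (i : ℕ) : Bool :=
  ([0, 1, 2, 3, 4, 5, 6].all fun r => Nat.blt (entry i r &&& 1023) 960) &&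
    ([0, 1, 2, 3, 4, 5].all fun r => Nat.blt (entry i r &&& 1023) (entry i (r + 1) &&& 1023)) &&
    Nat.blt (par i) 960 && (par (par (par (par i))) == 0) &&
    (i == 0 || [0, 1, 2, 3, 4, 5, 6].any fun r =>
      (entry (par i) r &&& 1023 == i) || (entry i r &&& 1023 == par i))

private theorem ptOK_all_0 : allFrom (ptOK) 0 120 = true := by decide +kernel

private theorem ptOK_all_1 : allFrom (ptOK) 120 120 = true := by decide +kernel

private theorem ptOK_all_2 : allFrom (ptOK) 240 120 = true := by decide +kernel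

private theorem ptOK_all_3 : allFrom (ptOK) 360 120 = true := by decide +kernel

private theorem ptOK_all_4 : allFrom (ptOK) 480 120 = true := by decide +kernel

private theorem ptOK_all_5 : allFrom (ptOK) 600 120 = true := by decide +kernel

private theorem ptOK_all_6 : allFrom (ptOK) 720 120 = true := by decide +kernel

private theorem ptOK_all_7 : allFrom (ptOK) 840 120 = true := by decide +kernel

theorem ptOK_all {c : ℕ} (h : c < 960) : (ptOK) c = true := by
  rcases Nat.lt_or_ge c 120 with h0 | h0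
  · exact allFrom_iff _ _ _ ptOK_all_0 c (by omega) (by omega)
  rcases Nat.lt_or_ge c 240 with h1 | h1
  · exact allFrom_iff _ _ _ ptOK_all_1 c (by omega) (by omega)
  rcases Nat.lt_or_ge c 360 with h2 | h2
  · exact allFrom_iff _ _ _ ptOK_all_2 c (by omega) (by omega)
  rcases Nat.lt_or_ge c 480 with h3 | h3
  · exact allFrom_iff _ _ _ ptOK_all_3 c (by omega) (by omega)
  rcases Nat.lt_or_ge c 600 with h4 | h4
  · exact allFrom_iff _ _ _ ptOK_all_4 c (by omega) (by omega)
  rcases Nat.lt_or_ge c 720 with h5 | h5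
  · exact allFrom_iff _ _ _ ptOK_all_5 c (by omega) (by omega)
  rcases Nat.lt_or_ge c 840 with h6 | h6
  · exact allFrom_iff _ _ _ ptOK_all_6 c (by omega) (by omega)
  exact allFrom_iff _ _ _ ptOK_all_7 c (by omega) (by omega)

private theorem rowOK_all_0 : allFrom (rowOK) 0 120 = true := by decide +kernel

private theorem rowOK_all_1 : allFrom (rowOK) 120 120 = true := by decide +kernel

private theorem rowOK_all_2 : allFrom (rowOK) 240 120 = true := by decide +kernel

private theorem rowOK_all_3 : allFrom (rowOK) 360 120 = true := by decide +kernel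

private theorem rowOK_all_4 : allFrom (rowOK) 480 120 = true := by decide +kernel

private theorem rowOK_all_5 : allFrom (rowOK) 600 120 = true := by decide +kernel

private theorem rowOK_all_6 : allFrom (rowOK) 720 120 = true := by decide +kernel

private theorem rowOK_all_7 : allFrom (rowOK) 840 120 = true := by decide +kernel

theorem rowOK_all {c : ℕ} (h : c < 960) : (rowOK) c = true := by
  rcases Nat.lt_or_ge c 120 with h0 | h0
  · exact allFrom_iff _ _ _ rowOK_all_0 c (by omega) (by omega)
  rcases Nat.lt_or_ge c 240 with h1 | h1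
  · exact allFrom_iff _ _ _ rowOK_all_1 c (by omega) (by omega)
  rcases Nat.lt_or_ge c 360 with h2 | h2
  · exact allFrom_iff _ _ _ rowOK_all_2 c (by omega) (by omega)
  rcases Nat.lt_or_ge c 480 with h3 | h3
  · exact allFrom_iff _ _ _ rowOK_all_3 c (by omega) (by omega)
  rcases Nat.lt_or_ge c 600 with h4 | h4
  · exact allFrom_iff _ _ _ rowOK_all_4 c (by omega) (by omega)
  rcases Nat.lt_or_ge c 720 with h5 | h5
  · exact allFrom_iff _ _ _ rowOK_all_5 c (by omega) (by omega)
  rcases Nat.lt_or_ge c 840 with h6 | h6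
  · exact allFrom_iff _ _ _ rowOK_all_6 c (by omega) (by omega)
  exact allFrom_iff _ _ _ rowOK_all_7 c (by omega) (by omega)

private theorem conjOK_all0_0 : allFrom (conjOK 0) 0 120 = true := by decide +kernel

private theorem conjOK_all0_1 : allFrom (conjOK 0) 120 120 = true := by decide +kernel

private theorem conjOK_all0_2 : allFrom (conjOK 0) 240 120 = true := by decide +kernel

private theorem conjOK_all0_3 : allFrom (conjOK 0) 360 120 = true := by decide +kernel

private theorem conjOK_all0_4 : allFrom (conjOK 0) 480 120 = true := by decide +kernel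

private theorem conjOK_all0_5 : allFrom (conjOK 0) 600 120 = true := by decide +kernel

private theorem conjOK_all0_6 : allFrom (conjOK 0) 720 120 = true := by decide +kernel

private theorem conjOK_all0_7 : allFrom (conjOK 0) 840 120 = true := by decide +kernel

theorem conjOK_all0 {c : ℕ} (h : c < 960) : (conjOK 0) c = true := by
  rcases Nat.lt_or_ge c 120 with h0 | h0
  · exact allFrom_iff _ _ _ conjOK_all0_0 c (by omega) (by omega)
  rcases Nat.lt_or_ge c 240 with h1 | h1
  · exact allFrom_iff _ _ _ conjOK_all0_1 c (by omega) (by omega)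
  rcases Nat.lt_or_ge c 360 with h2 | h2
  · exact allFrom_iff _ _ _ conjOK_all0_2 c (by omega) (by omega)
  rcases Nat.lt_or_ge c 480 with h3 | h3
  · exact allFrom_iff _ _ _ conjOK_all0_3 c (by omega) (by omega)
  rcases Nat.lt_or_ge c 600 with h4 | h4
  · exact allFrom_iff _ _ _ conjOK_all0_4 c (by omega) (by omega)
  rcases Nat.lt_or_ge c 720 with h5 | h5
  · exact allFrom_iff _ _ _ conjOK_all0_5 c (by omega) (by omega)
  rcases Nat.lt_or_ge c 840 with h6 | h6
  · exact allFrom_iff _ _ _ conjOK_all0_6 c (by omega) (by omega)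
  exact allFrom_iff _ _ _ conjOK_all0_7 c (by omega) (by omega)

private theorem edgeOK_all0_0 : allFrom (edgeOK 0) 0 120 = true := by decide +kernel

private theorem edgeOK_all0_1 : allFrom (edgeOK 0) 120 120 = true := by decide +kernel

private theorem edgeOK_all0_2 : allFrom (edgeOK 0) 240 120 = true := by decide +kernel

private theorem edgeOK_all0_3 : allFrom (edgeOK 0) 360 120 = true := by decide +kernel

private theorem edgeOK_all0_4 : allFrom (edgeOK 0) 480 120 = true := by decide +kernel

private theorem edgeOK_all0_5 : allFrom (edgeOK 0) 600 120 = true := by decide +kernel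

private theorem edgeOK_all0_6 : allFrom (edgeOK 0) 720 120 = true := by decide +kernel

private theorem edgeOK_all0_7 : allFrom (edgeOK 0) 840 120 = true := by decide +kernel

theorem edgeOK_all0 {c : ℕ} (h : c < 960) : (edgeOK 0) c = true := by
  rcases Nat.lt_or_ge c 120 with h0 | h0
  · exact allFrom_iff _ _ _ edgeOK_all0_0 c (by omega) (by omega)
  rcases Nat.lt_or_ge c 240 with h1 | h1
  · exact allFrom_iff _ _ _ edgeOK_all0_1 c (by omega) (by omega)
  rcases Nat.lt_or_ge c 360 with h2 | h2
  · exact allFrom_iff _ _ _ edgeOK_all0_2 c (by omega) (by omega)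
  rcases Nat.lt_or_ge c 480 with h3 | h3
  · exact allFrom_iff _ _ _ edgeOK_all0_3 c (by omega) (by omega)
  rcases Nat.lt_or_ge c 600 with h4 | h4
  · exact allFrom_iff _ _ _ edgeOK_all0_4 c (by omega) (by omega)
  rcases Nat.lt_or_ge c 720 with h5 | h5
  · exact allFrom_iff _ _ _ edgeOK_all0_5 c (by omega) (by omega)
  rcases Nat.lt_or_ge c 840 with h6 | h6
  · exact allFrom_iff _ _ _ edgeOK_all0_6 c (by omega) (by omega)
  exact allFrom_iff _ _ _ edgeOK_all0_7 c (by omega) (by omega)

private theorem conjOK_all1_0 : allFrom (conjOK 1) 0 120 = true := by decide +kernel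

private theorem conjOK_all1_1 : allFrom (conjOK 1) 120 120 = true := by decide +kernel

private theorem conjOK_all1_2 : allFrom (conjOK 1) 240 120 = true := by decide +kernel

private theorem conjOK_all1_3 : allFrom (conjOK 1) 360 120 = true := by decide +kernel

private theorem conjOK_all1_4 : allFrom (conjOK 1) 480 120 = true := by decide +kernel

private theorem conjOK_all1_5 : allFrom (conjOK 1) 600 120 = true := by decide +kernel

private theorem conjOK_all1_6 : allFrom (conjOK 1) 720 120 = true := by decide +kernel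

private theorem conjOK_all1_7 : allFrom (conjOK 1) 840 120 = true := by decide +kernel

theorem conjOK_all1 {c : ℕ} (h : c < 960) : (conjOK 1) c = true := by
  rcases Nat.lt_or_ge c 120 with h0 | h0
  · exact allFrom_iff _ _ _ conjOK_all1_0 c (by omega) (by omega)
  rcases Nat.lt_or_ge c 240 with h1 | h1
  · exact allFrom_iff _ _ _ conjOK_all1_1 c (by omega) (by omega)
  rcases Nat.lt_or_ge c 360 with h2 | h2
  · exact allFrom_iff _ _ _ conjOK_all1_2 c (by omega) (by omega)
  rcases Nat.lt_or_ge c 480 with h3 | h3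
  · exact allFrom_iff _ _ _ conjOK_all1_3 c (by omega) (by omega)
  rcases Nat.lt_or_ge c 600 with h4 | h4
  · exact allFrom_iff _ _ _ conjOK_all1_4 c (by omega) (by omega)
  rcases Nat.lt_or_ge c 720 with h5 | h5
  · exact allFrom_iff _ _ _ conjOK_all1_5 c (by omega) (by omega)
  rcases Nat.lt_or_ge c 840 with h6 | h6
  · exact allFrom_iff _ _ _ conjOK_all1_6 c (by omega) (by omega)
  exact allFrom_iff _ _ _ conjOK_all1_7 c (by omega) (by omega)

private theorem edgeOK_all1_0 : allFrom (edgeOK 1) 0 120 = true := by decide +kernel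

private theorem edgeOK_all1_1 : allFrom (edgeOK 1) 120 120 = true := by decide +kernel

private theorem edgeOK_all1_2 : allFrom (edgeOK 1) 240 120 = true := by decide +kernel

private theorem edgeOK_all1_3 : allFrom (edgeOK 1) 360 120 = true := by decide +kernel

private theorem edgeOK_all1_4 : allFrom (edgeOK 1) 480 120 = true := by decide +kernel

private theorem edgeOK_all1_5 : allFrom (edgeOK 1) 600 120 = true := by decide +kernel

private theorem edgeOK_all1_6 : allFrom (edgeOK 1) 720 120 = true := by decide +kernel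

private theorem edgeOK_all1_7 : allFrom (edgeOK 1) 840 120 = true := by decide +kernel

theorem edgeOK_all1 {c : ℕ} (h : c < 960) : (edgeOK 1) c = true := by
  rcases Nat.lt_or_ge c 120 with h0 | h0
  · exact allFrom_iff _ _ _ edgeOK_all1_0 c (by omega) (by omega)
  rcases Nat.lt_or_ge c 240 with h1 | h1
  · exact allFrom_iff _ _ _ edgeOK_all1_1 c (by omega) (by omega)
  rcases Nat.lt_or_ge c 360 with h2 | h2
  · exact allFrom_iff _ _ _ edgeOK_all1_2 c (by omega) (by omega)
  rcases Nat.lt_or_ge c 480 with h3 | h3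
  · exact allFrom_iff _ _ _ edgeOK_all1_3 c (by omega) (by omega)
  rcases Nat.lt_or_ge c 600 with h4 | h4
  · exact allFrom_iff _ _ _ edgeOK_all1_4 c (by omega) (by omega)
  rcases Nat.lt_or_ge c 720 with h5 | h5
  · exact allFrom_iff _ _ _ edgeOK_all1_5 c (by omega) (by omega)
  rcases Nat.lt_or_ge c 840 with h6 | h6
  · exact allFrom_iff _ _ _ edgeOK_all1_6 c (by omega) (by omega)
  exact allFrom_iff _ _ _ edgeOK_all1_7 c (by omega) (by omega)

private theorem conjOK_all2_0 : allFrom (conjOK 2) 0 120 = true := by decide +kernel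

private theorem conjOK_all2_1 : allFrom (conjOK 2) 120 120 = true := by decide +kernel

private theorem conjOK_all2_2 : allFrom (conjOK 2) 240 120 = true := by decide +kernel

private theorem conjOK_all2_3 : allFrom (conjOK 2) 360 120 = true := by decide +kernel

private theorem conjOK_all2_4 : allFrom (conjOK 2) 480 120 = true := by decide +kernel

private theorem conjOK_all2_5 : allFrom (conjOK 2) 600 120 = true := by decide +kernel

private theorem conjOK_all2_6 : allFrom (conjOK 2) 720 120 = true := by decide +kernel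

private theorem conjOK_all2_7 : allFrom (conjOK 2) 840 120 = true := by decide +kernel

theorem conjOK_all2 {c : ℕ} (h : c < 960) : (conjOK 2) c = true := by
  rcases Nat.lt_or_ge c 120 with h0 | h0
  · exact allFrom_iff _ _ _ conjOK_all2_0 c (by omega) (by omega)
  rcases Nat.lt_or_ge c 240 with h1 | h1
  · exact allFrom_iff _ _ _ conjOK_all2_1 c (by omega) (by omega)
  rcases Nat.lt_or_ge c 360 with h2 | h2
  · exact allFrom_iff _ _ _ conjOK_all2_2 c (by omega) (by omega)
  rcases Nat.lt_or_ge c 480 with h3 | h3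
  · exact allFrom_iff _ _ _ conjOK_all2_3 c (by omega) (by omega)
  rcases Nat.lt_or_ge c 600 with h4 | h4
  · exact allFrom_iff _ _ _ conjOK_all2_4 c (by omega) (by omega)
  rcases Nat.lt_or_ge c 720 with h5 | h5
  · exact allFrom_iff _ _ _ conjOK_all2_5 c (by omega) (by omega)
  rcases Nat.lt_or_ge c 840 with h6 | h6
  · exact allFrom_iff _ _ _ conjOK_all2_6 c (by omega) (by omega)
  exact allFrom_iff _ _ _ conjOK_all2_7 c (by omega) (by omega)

private theorem edgeOK_all2_0 : allFrom (edgeOK 2) 0 120 = true := by decide +kernel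

private theorem edgeOK_all2_1 : allFrom (edgeOK 2) 120 120 = true := by decide +kernel

private theorem edgeOK_all2_2 : allFrom (edgeOK 2) 240 120 = true := by decide +kernel

private theorem edgeOK_all2_3 : allFrom (edgeOK 2) 360 120 = true := by decide +kernel

private theorem edgeOK_all2_4 : allFrom (edgeOK 2) 480 120 = true := by decide +kernel

private theorem edgeOK_all2_5 : allFrom (edgeOK 2) 600 120 = true := by decide +kernel

private theorem edgeOK_all2_6 : allFrom (edgeOK 2) 720 120 = true := by decide +kernel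

private theorem edgeOK_all2_7 : allFrom (edgeOK 2) 840 120 = true := by decide +kernel

theorem edgeOK_all2 {c : ℕ} (h : c < 960) : (edgeOK 2) c = true := by
  rcases Nat.lt_or_ge c 120 with h0 | h0
  · exact allFrom_iff _ _ _ edgeOK_all2_0 c (by omega) (by omega)
  rcases Nat.lt_or_ge c 240 with h1 | h1
  · exact allFrom_iff _ _ _ edgeOK_all2_1 c (by omega) (by omega)
  rcases Nat.lt_or_ge c 360 with h2 | h2
  · exact allFrom_iff _ _ _ edgeOK_all2_2 c (by omega) (by omega)
  rcases Nat.lt_or_ge c 480 with h3 | h3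
  · exact allFrom_iff _ _ _ edgeOK_all2_3 c (by omega) (by omega)
  rcases Nat.lt_or_ge c 600 with h4 | h4
  · exact allFrom_iff _ _ _ edgeOK_all2_4 c (by omega) (by omega)
  rcases Nat.lt_or_ge c 720 with h5 | h5
  · exact allFrom_iff _ _ _ edgeOK_all2_5 c (by omega) (by omega)
  rcases Nat.lt_or_ge c 840 with h6 | h6
  · exact allFrom_iff _ _ _ edgeOK_all2_6 c (by omega) (by omega)
  exact allFrom_iff _ _ _ edgeOK_all2_7 c (by omega) (by omega)

theorem conjOK_all (k : Fin 3) {c : ℕ} (h : c < 960) : conjOK k c = true := by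
  fin_cases k
  exacts [conjOK_all0 h, conjOK_all1 h, conjOK_all2 h]

theorem edgeOK_all (k : Fin 3) {c : ℕ} (h : c < 960) : edgeOK k c = true := by
  fin_cases k
  exacts [edgeOK_all0 h, edgeOK_all1 h, edgeOK_all2 h]

end Cfsg.Agent.L34CoverChecks60
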