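import Mathlib
import Cfsg.Agent.Lib.PSLCard

/-!
# Coordinates on a group isomorphic to a Sylow `2`-subgroup of `PSL₃(4)`

`Chart F S` identifies `S` with the unitriangular group of degree three over a field `F` of order
four; `Chart.A` and `Chart.B` are its two elementary abelian subgroups of order `16` and `Chart.Z`
its centre.
-/

set_option autoImplicit false

namespace Cfsg.Agent.L34Syl83

variable {F : Type*} [Field F] [Fintype F]

theorem charP_two_of_card (hF : Fintype.card F = 4) : CharP F 2 := by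
  obtain ⟨p, hp⟩ := CharP.exists F
  haveI := hp
  obtain ⟨n, hpp, hn⟩ := FiniteField.card F p
  have h2 : p ∣ 2 ^ 2 := by rw [show (2 : ℕ) ^ 2 = 4 by norm_num, ← hF, hn]; exact dvd_pow_self p n.ne_zero
  have := (Nat.prime_dvd_prime_iff_eq hpp Nat.prime_two).1 (hpp.dvd_of_dvd_pow h2)
  exact this ▸ hp

/-- Coordinates on `S` in which multiplication is that of unitriangular matrices over `F`. -/
structure Chart {G : Type*} [Group G] (F : Type*) [Field F] [Fintype F] (S : Subgroup G) where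
  μ : F → F → F → G
  card_F : Fintype.card F = 4
  mul : ∀ a b c a' b' c', μ a b c * μ a' b' c' = μ (a + a') (b + b') (c + c' + a * b')
  inj : ∀ a b c a' b' c', μ a b c = μ a' b' c' → a = a' ∧ b = b' ∧ c = c'
  mem : ∀ x, x ∈ S ↔ ∃ a b c, μ a b c = x

namespace Chart

variable {G : Type*} [Group G] {S : Subgroup G} (h : Chart F S)
include h

theorem two (a : F) : a + a = 0 := by
  haveI := charP_two_of_card h.card_F
  exact CharTwo.add_self_eq_zero a

theorem neg_eq (a : F) : -a = a := neg_eq_of_add_eq_zero_left (h.two a)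

theorem one : h.μ 0 0 0 = 1 := by
  have := h.mul 0 0 0 0 0 0
  simpa using this

theorem mem' (a b c : F) : h.μ a b c ∈ S := (h.mem _).2 ⟨a, b, c, rfl⟩

theorem eq_one_iff {a b c : F} : h.μ a b c = 1 ↔ a = 0 ∧ b = 0 ∧ c = 0 := by
  refine ⟨fun e => h.inj _ _ _ _ _ _ (e.trans h.one.symm), ?_⟩
  rintro ⟨rfl, rfl, rfl⟩; exact h.one

theorem inv (a b c : F) : (h.μ a b c)⁻¹ = h.μ a b (c + a * b) := by
  refine inv_eq_of_mul_eq_one_right ?_
  rw [h.mul, h.two, h.two, show c + (c + a * b) + a * b = (c + c) + (a * b + a * b) by ring, h.two,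
    h.two, add_zero, h.one]

theorem sq (a b c : F) : h.μ a b c * h.μ a b c = h.μ 0 0 (a * b) := by
  rw [h.mul, h.two, h.two, h.two, zero_add]

/-- Conjugation inside `S`. -/
theorem conj (a b c a' b' c' : F) :
    h.μ a b c * h.μ a' b' c' * (h.μ a b c)⁻¹ = h.μ a' b' (c' + a * b' + a' * b) := by
  rw [h.inv, h.mul, h.mul]
  have e1 : a + a' + a = a' := by rw [add_comm a a', add_assoc, h.two, add_zero]
  have e2 : b + b' + b = b' := by rw [add_comm b b', add_assoc, h.two, add_zero]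
  rw [e1, e2]
  congr 1
  calc c + c' + a * b' + (c + a * b) + (a + a') * b
      = c' + a * b' + a' * b + ((c + c) + (a * b + a * b)) := by ring
    _ = c' + a * b' + a' * b := by rw [h.two, h.two, add_zero, add_zero]

theorem commute_iff (a b c a' b' c' : F) :
    Commute (h.μ a b c) (h.μ a' b' c') ↔ a * b' = a' * b := by
  rw [commute_iff_eq, h.mul, h.mul]
  refine ⟨fun e => ?_, fun e => by rw [add_comm a a', add_comm b b', add_comm c c', e]⟩
  have := (h.inj _ _ _ _ _ _ e).2.2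
  rw [add_comm c c'] at this
  exact add_left_cancel this

theorem sq_eq_one_iff (a b c : F) : h.μ a b c * h.μ a b c = 1 ↔ a = 0 ∨ b = 0 := by
  rw [h.sq, h.eq_one_iff]; simp

/-- The elementary abelian subgroup `a = 0`. -/
def A : Subgroup G where
  carrier := {x | ∃ b c, h.μ 0 b c = x}
  one_mem' := ⟨0, 0, h.one⟩
  mul_mem' := by
    rintro _ _ ⟨b, c, rfl⟩ ⟨b', c', rfl⟩
    exact ⟨b + b', c + c', by rw [h.mul]; simp⟩
  inv_mem' := by
    rintro _ ⟨b, c, rfl⟩
    exact ⟨b, c, by rw [h.inv]; simp⟩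

/-- The elementary abelian subgroup `b = 0`. -/
def B : Subgroup G where
  carrier := {x | ∃ a c, h.μ a 0 c = x}
  one_mem' := ⟨0, 0, h.one⟩
  mul_mem' := by
    rintro _ _ ⟨a, c, rfl⟩ ⟨a', c', rfl⟩
    exact ⟨a + a', c + c', by rw [h.mul]; simp⟩
  inv_mem' := by
    rintro _ ⟨a, c, rfl⟩
    exact ⟨a, c, by rw [h.inv]; simp⟩

/-- The centre. -/
def Z : Subgroup G := h.A ⊓ h.B

theorem mem_A {x : G} : x ∈ h.A ↔ ∃ b c, h.μ 0 b c = x := Iff.rfl

theorem mem_B {x : G} : x ∈ h.B ↔ ∃ a c, h.μ a 0 c = x := Iff.rfl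

theorem mem_Z {x : G} : x ∈ h.Z ↔ ∃ c, h.μ 0 0 c = x := by
  refine ⟨fun ⟨⟨b, c, e⟩, a, c', e'⟩ => ?_, fun ⟨c, e⟩ => ⟨⟨0, c, e⟩, 0, c, e⟩⟩
  obtain ⟨-, rfl, -⟩ := h.inj _ _ _ _ _ _ (e.trans e'.symm)
  exact ⟨c, e⟩

theorem A_le : h.A ≤ S := by
  rintro _ ⟨b, c, rfl⟩; exact h.mem' _ _ _

theorem B_le : h.B ≤ S := by
  rintro _ ⟨a, c, rfl⟩; exact h.mem' _ _ _

theorem Z_le_A : h.Z ≤ h.A := inf_le_left

theorem Z_le_B : h.Z ≤ h.B := inf_le_right

theorem Z_le : h.Z ≤ S := h.Z_le_A.trans h.A_le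

theorem A_sq {x : G} (hx : x ∈ h.A) : x * x = 1 := by
  obtain ⟨b, c, rfl⟩ := hx; exact (h.sq_eq_one_iff _ _ _).2 (Or.inl rfl)

theorem B_sq {x : G} (hx : x ∈ h.B) : x * x = 1 := by
  obtain ⟨a, c, rfl⟩ := hx; exact (h.sq_eq_one_iff _ _ _).2 (Or.inr rfl)

theorem A_comm {x y : G} (hx : x ∈ h.A) (hy : y ∈ h.A) : x * y = y * x := by
  obtain ⟨b, c, rfl⟩ := hx; obtain ⟨b', c', rfl⟩ := hy
  exact ((h.commute_iff _ _ _ _ _ _).2 (by simp)).eq

theorem B_comm {x y : G} (hx : x ∈ h.B) (hy : y ∈ h.B) : x * y = y * x := by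
  obtain ⟨a, c, rfl⟩ := hx; obtain ⟨a', c', rfl⟩ := hy
  exact ((h.commute_iff _ _ _ _ _ _).2 (by simp)).eq

theorem involutions {x : G} (hx : x ∈ S) (hx2 : x * x = 1) : x ∈ h.A ∨ x ∈ h.B := by
  obtain ⟨a, b, c, rfl⟩ := (h.mem x).1 hx
  rcases (h.sq_eq_one_iff _ _ _).1 hx2 with rfl | rfl
  · exact Or.inl ⟨b, c, rfl⟩
  · exact Or.inr ⟨a, c, rfl⟩

theorem Z_comm {z s : G} (hz : z ∈ h.Z) (hs : s ∈ S) : z * s = s * z := by
  obtain ⟨c, rfl⟩ := h.mem_Z.1 hz
  obtain ⟨a, b, c', rfl⟩ := (h.mem s).1 hs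
  exact ((h.commute_iff _ _ _ _ _ _).2 (by simp)).eq

/-- An element centralising `S` lies in `Z`. -/
theorem mem_Z_of_comm {x : G} (hx : x ∈ S) (hc : ∀ s ∈ S, x * s = s * x) : x ∈ h.Z := by
  obtain ⟨a, b, c, rfl⟩ := (h.mem x).1 hx
  have h1 := (h.commute_iff _ _ _ _ _ _).1 (hc _ (h.mem' 1 0 0))
  have h2 := (h.commute_iff _ _ _ _ _ _).1 (hc _ (h.mem' 0 1 0))
  simp only [mul_zero, one_mul, mul_one, zero_mul] at h1 h2
  subst h2; rw [← h1]
  exact h.mem_Z.2 ⟨c, rfl⟩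

/-- An element of `S` commuting with a noncentral element of `A` lies in `A`. -/
theorem mem_A_of_comm {x a : G} (hx : x ∈ S) (ha : a ∈ h.A) (haZ : a ∉ h.Z)
    (hc : x * a = a * x) : x ∈ h.A := by
  obtain ⟨p, q, r, rfl⟩ := (h.mem x).1 hx
  obtain ⟨b, c, rfl⟩ := ha
  have e := (h.commute_iff _ _ _ _ _ _).1 hc
  rw [zero_mul, mul_eq_zero] at e
  rcases e with rfl | rfl
  · exact ⟨q, r, rfl⟩
  · exact absurd (h.mem_Z.2 ⟨c, rfl⟩) haZ

theorem S_le_normalizer_A : S ≤ Subgroup.normalizer (h.A : Set G) := by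
  intro s hs
  have key : ∀ t ∈ S, ∀ x ∈ h.A, t * x * t⁻¹ ∈ h.A := by
    intro t ht x hx
    obtain ⟨a, b, c, rfl⟩ := (h.mem t).1 ht
    obtain ⟨b', c', rfl⟩ := hx
    exact ⟨b', _, (h.conj _ _ _ _ _ _).symm⟩
  refine Subgroup.mem_normalizer_iff.2 fun x => ⟨key s hs x, fun hx => ?_⟩
  have := key s⁻¹ (inv_mem hs) _ hx
  simpa [mul_assoc] using this

theorem card_A : Nat.card h.A = 16 := by
  rw [← Nat.card_congr (Equiv.ofBijective
    (fun p : F × F => (⟨h.μ 0 p.1 p.2, p.1, p.2, rfl⟩ : h.A))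
    ⟨fun p q e => Prod.ext (h.inj _ _ _ _ _ _ (congrArg Subtype.val e)).2.1
      (h.inj _ _ _ _ _ _ (congrArg Subtype.val e)).2.2,
      fun ⟨x, b, c, e⟩ => ⟨(b, c), Subtype.ext e⟩⟩)]
  simp [Nat.card_eq_fintype_card, h.card_F]

theorem card_Z : Nat.card h.Z = 4 := by
  rw [← Nat.card_congr (Equiv.ofBijective
    (fun p : F => (⟨h.μ 0 0 p, h.mem_Z.2 ⟨p, rfl⟩⟩ : h.Z))
    ⟨fun p q e => (h.inj _ _ _ _ _ _ (congrArg Subtype.val e)).2.2,
      fun ⟨x, hx⟩ => let ⟨c, e⟩ := h.mem_Z.1 hx; ⟨c, Subtype.ext e⟩⟩)]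
  simp [Nat.card_eq_fintype_card, h.card_F]

theorem card_S : Nat.card S = 64 := by
  rw [← Nat.card_congr (Equiv.ofBijective
    (fun p : F × F × F => (⟨h.μ p.1 p.2.1 p.2.2, h.mem' _ _ _⟩ : S))
    ⟨fun p q e => Prod.ext (h.inj _ _ _ _ _ _ (congrArg Subtype.val e)).1
      (Prod.ext (h.inj _ _ _ _ _ _ (congrArg Subtype.val e)).2.1
        (h.inj _ _ _ _ _ _ (congrArg Subtype.val e)).2.2),
      fun ⟨x, hx⟩ => let ⟨a, b, c, e⟩ := (h.mem x).1 hx; ⟨(a, b, c), Subtype.ext e⟩⟩)]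
  simp [Nat.card_eq_fintype_card, h.card_F]

/-- Exchange `A` and `B`. -/
def swap : Chart F S where
  μ a b c := h.μ b a (c + a * b)
  card_F := h.card_F
  mul a b c a' b' c' := by
    rw [h.mul]
    congr 1
    calc c + a * b + (c' + a' * b') + b * a'
        = c + c' + a * b' + (a + a') * (b + b') + -(a * b' + a * b') := by ring
      _ = c + c' + a * b' + (a + a') * (b + b') := by rw [h.two, neg_zero, add_zero]
  inj a b c a' b' c' e := by
    obtain ⟨rfl, rfl, e3⟩ := h.inj _ _ _ _ _ _ e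
    exact ⟨rfl, rfl, add_right_cancel e3⟩
  mem x := by
    rw [h.mem]
    constructor
    · rintro ⟨a, b, c, rfl⟩
      exact ⟨b, a, c + b * a, by
        rw [show c + b * a + b * a = c + (b * a + b * a) by ring, h.two, add_zero]⟩
    · rintro ⟨a, b, c, rfl⟩
      exact ⟨_, _, _, rfl⟩

@[simp] theorem swap_A : h.swap.A = h.B := by
  ext x
  constructor
  · rintro ⟨b, c, rfl⟩; exact ⟨b, c + 0 * b, rfl⟩
  · rintro ⟨a, c, rfl⟩; exact ⟨a, c, by show h.μ a 0 (c + 0 * a) = _; simp⟩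

@[simp] theorem swap_B : h.swap.B = h.A := by
  ext x
  constructor
  · rintro ⟨b, c, rfl⟩; exact ⟨b, c + b * 0, rfl⟩
  · rintro ⟨a, c, rfl⟩; exact ⟨a, c, by show h.μ 0 a (c + a * 0) = _; simp⟩

@[simp] theorem swap_Z : h.swap.Z = h.Z := by
  rw [Z, Z, swap_A, swap_B, inf_comm]

/-- Transport along a homomorphism injective on `S`. -/
def map {H : Type*} [Group H] (f : G →* H) (hf : ∀ x ∈ S, f x = 1 → x = 1) :
    Chart F (S.map f) where
  μ a b c := f (h.μ a b c)
  card_F := h.card_F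
  mul a b c a' b' c' := by rw [← map_mul, h.mul]
  inj a b c a' b' c' e := by
    refine h.inj _ _ _ _ _ _ (inv_mul_eq_one.1 (hf _ (mul_mem (inv_mem (h.mem' _ _ _)) (h.mem' _ _ _)) ?_))
    rw [map_mul, map_inv, e, inv_mul_cancel]
  mem x := by
    constructor
    · rintro ⟨y, hy, rfl⟩
      obtain ⟨a, b, c, rfl⟩ := (h.mem y).1 hy
      exact ⟨a, b, c, rfl⟩
    · rintro ⟨a, b, c, rfl⟩
      exact ⟨_, h.mem' _ _ _, rfl⟩

end Chart

section Model

open Matrix

/-- The unitriangular matrix with entries `a`, `b`, `c`. -/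
def uni (a b c : F) : SpecialLinearGroup (Fin 3) F :=
  ⟨!![1, a, c; 0, 1, b; 0, 0, 1], by simp [Matrix.det_fin_three]⟩

theorem uni_mul (a b c a' b' c' : F) :
    uni a b c * uni a' b' c' = uni (a + a') (b + b') (c + c' + a * b') := by
  refine Subtype.ext ?_
  show (uni a b c).1 * (uni a' b' c').1 = _
  ext i j
  fin_cases i <;> fin_cases j <;> simp [uni, Matrix.mul_apply, Fin.sum_univ_three] <;> ring

theorem card_psl34' (hF : Fintype.card F = 4) :
    Nat.card (ProjectiveSpecialLinearGroup (Fin 3) F) = 20160 := by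
  have hF' : Nat.card F = 4 := by rw [Nat.card_eq_fintype_card, hF]
  have h1 := Cfsg.Agent.PSLCard.card_PSL_mul (F := F) 3
  have h2 := Cfsg.Agent.PSLCard.card_SL (F := F) 3
  rw [← h1, hF', Fin.prod_univ_three] at h2
  norm_num at h2
  omega

/-- A group isomorphic to a Sylow `2`-subgroup of `PSL₃(4)` has a chart. -/
theorem exists_chart (hF : Fintype.card F = 4) {G : Type*} [Group G] {S : Subgroup G}
    (P : Sylow 2 (ProjectiveSpecialLinearGroup (Fin 3) F))
    (hS : Nonempty (↥S ≃* ↥(P : Subgroup (ProjectiveSpecialLinearGroup (Fin 3) F)))) :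
    Nonempty (Chart F S) := by
  classical
  haveI : Fact (Nat.Prime 2) := ⟨Nat.prime_two⟩
  haveI := charP_two_of_card hF
  let π := QuotientGroup.mk' (Subgroup.center (SpecialLinearGroup (Fin 3) F))
  have hone : (uni 0 0 0 : SpecialLinearGroup (Fin 3) F) = 1 := by
    refine Subtype.ext ?_
    ext i j
    fin_cases i <;> fin_cases j <;> simp [uni]
  let U : Subgroup (ProjectiveSpecialLinearGroup (Fin 3) F) :=
    { carrier := {x | ∃ a b c, π (uni a b c) = x}
      one_mem' := ⟨0, 0, 0, by rw [hone, map_one]⟩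
      mul_mem' := by
        rintro _ _ ⟨a, b, c, rfl⟩ ⟨a', b', c', rfl⟩
        exact ⟨_, _, _, by rw [← map_mul, uni_mul]⟩
      inv_mem' := by
        rintro _ ⟨a, b, c, rfl⟩
        refine ⟨a, b, c + a * b, eq_inv_of_mul_eq_one_left ?_⟩
        rw [← map_mul, uni_mul, CharTwo.add_self_eq_zero, CharTwo.add_self_eq_zero,
          show c + a * b + c + a * b = (c + c) + (a * b + a * b) by ring,
          CharTwo.add_self_eq_zero, CharTwo.add_self_eq_zero, add_zero, hone, map_one] }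
  have hinj : ∀ a b c a' b' c', π (uni (F := F) a b c) = π (uni a' b' c') →
      a = a' ∧ b = b' ∧ c = c' := by
    intro a b c a' b' c' e
    have hm := QuotientGroup.eq.1 e
    rw [Matrix.SpecialLinearGroup.mem_center_iff] at hm
    obtain ⟨r, hr, hr'⟩ := hm
    have hx : (uni (F := F) a' b' c').1 = (uni a b c).1 * scalar (Fin 3) r := by
      rw [hr']
      exact congrArg Subtype.val (mul_inv_cancel_left (uni a b c) (uni a' b' c')).symm
    have h00 := congrFun (congrFun hx 0) 0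
    have h01 := congrFun (congrFun hx 0) 1
    have h02 := congrFun (congrFun hx 0) 2
    have h12 := congrFun (congrFun hx 1) 2
    simp [uni, Matrix.mul_apply, Fin.sum_univ_three, Matrix.diagonal] at h00 h01 h02 h12
    subst h00
    simp at h01 h02 h12
    exact ⟨h01.symm, h12.symm, h02.symm⟩
  have hc : Chart F U :=
    { μ := fun a b c => π (uni a b c)
      card_F := hF
      mul := fun a b c a' b' c' => by rw [← map_mul, uni_mul]
      inj := hinj
      mem := fun x => Iff.rfl }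
  have hU2 : IsPGroup 2 U := IsPGroup.of_card (n := 6) (by rw [hc.card_S]; norm_num)
  obtain ⟨Q, hQ⟩ := hU2.exists_le_sylow
  have hQU : (Q : Subgroup _) = U := by
    refine (Subgroup.eq_of_le_of_card_ge hQ ?_).symm
    rw [hc.card_S, Sylow.card_eq_multiplicity, card_psl34' hF]
    decide +kernel
  obtain ⟨e⟩ := hS
  let e' : ↥U ≃* ↥S := ((MulEquiv.subgroupCongr hQU.symm).trans (Sylow.equiv Q P)).trans e.symm
  exact ⟨{
    μ := fun a b c => ((e' ⟨π (uni a b c), a, b, c, rfl⟩ : S) : G)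
    card_F := hF
    mul := fun a b c a' b' c' => by
      rw [← Subgroup.coe_mul, ← map_mul]
      congr 2
      exact Subtype.ext (by rw [Subgroup.coe_mul, ← map_mul, uni_mul])
    inj := fun a b c a' b' c' he =>
      hinj _ _ _ _ _ _ (congrArg Subtype.val (e'.injective (Subtype.ext he)))
    mem := fun x => by
      constructor
      · intro hx
        obtain ⟨⟨y, a, b, c, rfl⟩, hy⟩ := e'.surjective ⟨x, hx⟩
        exact ⟨a, b, c, congrArg Subtype.val hy⟩
      · rintro ⟨a, b, c, rfl⟩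
        exact (e' _).2 }⟩

end Model

end Cfsg.Agent.L34Syl83
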