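import Mathlib
import Cfsg.Agent.Lib.L34Syl83Chart

/-!
# Fusion in a group with a Sylow `2`-subgroup of type `L₃(4)`

`conj_A_mem_normalizer`: a conjugate of `A` inside `S` is `A`.
`normalizer_Z_of_mem`: an element of `N(A)` mapping one involution of `Z` into `Z` normalises `Z`.
`fusion_A`, `closed_A`, `closed_Z`: fusion relative to a subgroup containing `S`.
-/

set_option autoImplicit false

namespace Cfsg.Agent.L34Syl83

variable {G : Type*} [Group G]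

theorem mem_map_conj {X : Subgroup G} {g x : G} :
    x ∈ X.map (MulAut.conj g).toMonoidHom ↔ g⁻¹ * x * g ∈ X := by
  constructor
  · rintro ⟨y, hy, rfl⟩; simpa [mul_assoc] using hy
  · exact fun hx => ⟨_, hx, by simp [mul_assoc]⟩

theorem conj_mem_map {X : Subgroup G} (g : G) {x : G} (hx : x ∈ X) :
    g * x * g⁻¹ ∈ X.map (MulAut.conj g).toMonoidHom := ⟨x, hx, by simp⟩

theorem mem_normalizer_of_map_eq {X : Subgroup G} {g : G}
    (h : X.map (MulAut.conj g).toMonoidHom = X) : g ∈ Subgroup.normalizer (X : Set G) :=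
  Subgroup.mem_normalizer_iff.2 fun x => ⟨fun hx => h ▸ conj_mem_map g hx, fun hx => by
    rw [← h, mem_map_conj] at hx
    simpa [mul_assoc] using hx⟩

theorem mem_normalizer_of_forall [Finite G] {X : Subgroup G} {g : G}
    (h : ∀ x ∈ X, g * x * g⁻¹ ∈ X) : g ∈ Subgroup.normalizer (X : Set G) :=
  mem_normalizer_of_map_eq (Subgroup.eq_of_le_of_card_ge
    (by rintro _ ⟨x, hx, rfl⟩; simpa using h x hx)
    (by rw [Subgroup.card_map_of_injective (MulAut.conj g).injective]))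

theorem conj_mem_of_normalizer {X : Subgroup G} {g x : G}
    (hg : g ∈ Subgroup.normalizer (X : Set G)) (hx : x ∈ X) : g * x * g⁻¹ ∈ X :=
  (Subgroup.mem_normalizer_iff.1 hg x).1 hx

theorem conj'_mem_of_normalizer {X : Subgroup G} {g x : G}
    (hg : g ∈ Subgroup.normalizer (X : Set G)) (hx : x ∈ X) : g⁻¹ * x * g ∈ X := by
  simpa using conj_mem_of_normalizer (inv_mem hg) hx

theorem isPGroup_zpowers_of_sq {u : G} (hu : u * u = 1) : IsPGroup 2 (Subgroup.zpowers u) := by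
  rintro ⟨_, i, rfl⟩
  refine ⟨1, Subtype.ext ?_⟩
  show (u ^ i) ^ (2 ^ 1) = 1
  rw [pow_one, pow_two, ← zpow_add, ← two_mul, zpow_mul, zpow_two, hu, one_zpow]

variable [Finite G] (S : Sylow 2 G)

/-- A `2`-subgroup of a subgroup `H` containing `S` is conjugate in `H` into `S`. -/
theorem conj_into {H : Subgroup G} (hSH : (S : Subgroup G) ≤ H) {Q : Subgroup G} (hQH : Q ≤ H)
    (hQ : IsPGroup 2 Q) : ∃ k ∈ H, ∀ x ∈ Q, k * x * k⁻¹ ∈ (S : Subgroup G) := by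
  haveI : Fact (Nat.Prime 2) := ⟨Nat.prime_two⟩
  obtain ⟨T, hT⟩ := (hQ.comap_of_injective H.subtype Subtype.val_injective).exists_le_sylow
  obtain ⟨k, hk⟩ := MulAction.exists_smul_eq H T (S.subtype hSH)
  refine ⟨k, k.2, fun x hx => ?_⟩
  have hmem : k * ⟨x, hQH hx⟩ * k⁻¹ ∈ ((S.subtype hSH : Sylow 2 H) : Subgroup H) := by
    rw [← hk, Sylow.coe_subgroup_smul]
    exact ⟨⟨x, hQH hx⟩, hT (show (⟨x, hQH hx⟩ : H) ∈ Q.comap H.subtype from hx), by simp⟩
  simpa [Subgroup.mem_subgroupOf] using hmem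

/-- Two `2`-subgroups of `H'` can be moved into `S` by an element of `H`, one after conjugation
in `H'`. -/
theorem two_into {H H' : Subgroup G} (hSH : (S : Subgroup G) ≤ H) (hH' : H' ≤ H)
    {P₁ P₂ : Subgroup G} (h1 : P₁ ≤ H') (h2 : P₂ ≤ H') (hP₁ : IsPGroup 2 P₁)
    (hP₂ : IsPGroup 2 P₂) : ∃ c ∈ H', ∃ k ∈ H, (∀ x ∈ P₁, k * x * k⁻¹ ∈ (S : Subgroup G)) ∧
      ∀ x ∈ P₂, k * c * x * (k * c)⁻¹ ∈ (S : Subgroup G) := by
  haveI : Fact (Nat.Prime 2) := ⟨Nat.prime_two⟩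
  obtain ⟨T₁, hT₁⟩ := (hP₁.comap_of_injective H'.subtype Subtype.val_injective).exists_le_sylow
  obtain ⟨T₂, hT₂⟩ := (hP₂.comap_of_injective H'.subtype Subtype.val_injective).exists_le_sylow
  obtain ⟨c, hc⟩ := MulAction.exists_smul_eq H' T₂ T₁
  obtain ⟨k, hk, hkT⟩ := conj_into S hSH (Q := (T₁ : Subgroup H').map H'.subtype)
    (by rintro _ ⟨x, -, rfl⟩; exact hH' x.2) (T₁.2.map _)
  refine ⟨c, c.2, k, hk, fun x hx => hkT x ⟨⟨x, h1 hx⟩, hT₁ hx, rfl⟩, fun x hx => ?_⟩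
  have hmem : c * ⟨x, h2 hx⟩ * c⁻¹ ∈ (T₁ : Subgroup H') := by
    rw [← hc, Sylow.coe_subgroup_smul]
    exact ⟨⟨x, h2 hx⟩, hT₂ hx, by simp⟩
  simpa [mul_assoc] using hkT _ ⟨_, hmem, rfl⟩

variable {S} {F : Type*} [Field F] [Fintype F]

namespace Chart

variable (h : Chart F (S : Subgroup G))
include h

theorem isPGroup_A : IsPGroup 2 h.A := fun a =>
  ⟨1, Subtype.ext (by simpa [pow_two] using h.A_sq a.2)⟩

theorem isPGroup_B : IsPGroup 2 h.B := fun a =>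
  ⟨1, Subtype.ext (by simpa [pow_two] using h.B_sq a.2)⟩

theorem A_ne_B : h.A ≠ h.B := by
  intro e
  have hm : h.μ 0 1 0 ∈ h.B := e ▸ (⟨1, 0, rfl⟩ : h.μ 0 1 0 ∈ h.A)
  obtain ⟨a, c, e'⟩ := hm
  exact zero_ne_one (h.inj _ _ _ _ _ _ e').2.1

/-- The elementary abelian subgroups of order `16` of `S` are `A` and `B`. -/
theorem eq_A_or_B {E : Subgroup G} (hES : E ≤ (S : Subgroup G))
    (hsq : ∀ x ∈ E, x * x = 1) (hcard : Nat.card E = 16) : E = h.A ∨ E = h.B := by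
  have hcomm : ∀ x ∈ E, ∀ y ∈ E, x * y = y * x := fun x hx y hy => by
    have e1 := eq_inv_of_mul_eq_one_left (hsq x hx)
    have e2 := eq_inv_of_mul_eq_one_left (hsq y hy)
    calc x * y = (x * y)⁻¹ := eq_inv_of_mul_eq_one_left (hsq _ (mul_mem hx hy))
      _ = y * x := by rw [mul_inv_rev, ← e1, ← e2]
  by_cases h1 : ∃ e ∈ E, e ∈ h.A ∧ e ∉ h.Z
  · obtain ⟨e, he, heA, heZ⟩ := h1
    exact Or.inl (Subgroup.eq_of_le_of_card_ge
      (fun x hx => h.mem_A_of_comm (hES hx) heA heZ (hcomm x hx e he)) (by rw [h.card_A, hcard]))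
  by_cases h2 : ∃ e ∈ E, e ∉ h.Z
  · obtain ⟨e, he, heZ⟩ := h2
    have heB : e ∈ h.B := (h.involutions (hES he) (hsq e he)).resolve_left
      fun ha => h1 ⟨e, he, ha, heZ⟩
    refine Or.inr (Subgroup.eq_of_le_of_card_ge (fun x hx => ?_)
      (by rw [← h.swap_A, h.swap.card_A, hcard]))
    rw [← h.swap_A] at heB ⊢
    rw [← h.swap_Z] at heZ
    exact h.swap.mem_A_of_comm (hES hx) heB heZ (hcomm x hx e he)
  · have hle : E ≤ h.Z := fun x hx => not_not.1 fun hxZ => h2 ⟨x, hx, hxZ⟩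
    have := Nat.le_of_dvd (by rw [h.card_Z]; norm_num) (Subgroup.card_dvd_of_le hle)
    rw [hcard, h.card_Z] at this
    omega

theorem conj_A_eq_or {g : G} (hg : ∀ a ∈ h.A, g * a * g⁻¹ ∈ (S : Subgroup G)) :
    h.A.map (MulAut.conj g).toMonoidHom = h.A ∨ h.A.map (MulAut.conj g).toMonoidHom = h.B := by
  refine h.eq_A_or_B (by rintro _ ⟨a, ha, rfl⟩; simpa using hg a ha) ?_
    (by rw [Subgroup.card_map_of_injective (MulAut.conj g).injective, h.card_A])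
  rintro _ ⟨a, ha, rfl⟩
  rw [← map_mul, h.A_sq ha, map_one]

/-- `A` and `B` are not conjugate. -/
theorem not_conj (g : G) : h.A.map (MulAut.conj g).toMonoidHom ≠ h.B := by
  haveI : Fact (Nat.Prime 2) := ⟨Nat.prime_two⟩
  intro e
  have hSB : (S : Subgroup G) ≤ Subgroup.normalizer (h.B : Set G) := by
    rw [← h.swap_A]; exact h.swap.S_le_normalizer_A
  obtain ⟨k, hk, hkS⟩ := conj_into S hSB
    (Q := (S : Subgroup G).map (MulAut.conj g).toMonoidHom) (by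
      rintro _ ⟨s, hs, rfl⟩
      refine mem_normalizer_of_forall fun y hy => ?_
      rw [← e, mem_map_conj] at hy
      have := conj_mem_map g (conj_mem_of_normalizer (h.S_le_normalizer_A hs) hy)
      rw [e] at this
      simpa [mul_assoc] using this) (S.2.map _)
  set x := k * g with hx
  have hxS : x ∈ Subgroup.normalizer ((S : Subgroup G) : Set G) :=
    mem_normalizer_of_forall fun s hs => by simpa [hx, mul_assoc] using hkS _ (conj_mem_map g hs)
  have hconj : ∀ (p q : G) (X : Subgroup G), X.map (MulAut.conj (p * q)).toMonoidHom =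
      (X.map (MulAut.conj q).toMonoidHom).map (MulAut.conj p).toMonoidHom := by
    intro p q X
    rw [Subgroup.map_map]
    congr 1
    ext y
    simp [mul_assoc]
  have hkB : h.B.map (MulAut.conj k).toMonoidHom = h.B :=
    Subgroup.eq_of_le_of_card_ge
      (by rintro _ ⟨b, hb, rfl⟩; simpa using conj_mem_of_normalizer hk hb)
      (by rw [Subgroup.card_map_of_injective (MulAut.conj k).injective])
  have hxA : h.A.map (MulAut.conj x).toMonoidHom = h.B := by rw [hx, hconj, e, hkB]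
  have hxB : h.B.map (MulAut.conj x).toMonoidHom = h.A := by
    have hor := h.swap.conj_A_eq_or (g := x)
      fun b hb => conj_mem_of_normalizer hxS (h.swap.A_le hb)
    rw [swap_A, swap_B] at hor
    refine hor.resolve_left fun e' => h.A_ne_B ?_
    exact Subgroup.map_injective (MulAut.conj x).injective (hxA.trans e'.symm)
  have hpow : ∀ j : ℕ, h.A.map (MulAut.conj (x ^ (2 * j + 1))).toMonoidHom = h.B := by
    intro j
    induction j with
    | zero => simpa using hxA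
    | succ j ih =>
      rw [show x ^ (2 * (j + 1) + 1) = x * (x * x ^ (2 * j + 1)) by
        rw [show 2 * (j + 1) + 1 = (2 * j + 1) + 1 + 1 by ring, pow_succ', pow_succ'],
        hconj x (x * x ^ (2 * j + 1)), hconj x (x ^ (2 * j + 1)), ih, hxB, hxA]
  obtain ⟨r, m, hm, hord⟩ := Nat.exists_eq_two_pow_mul_odd (orderOf_pos x).ne'
  obtain ⟨j, rfl⟩ := hm
  have h2 : IsPGroup 2 (Subgroup.zpowers (x ^ (2 * j + 1))) :=
    IsPGroup.of_card (n := r) (by
      rw [Nat.card_zpowers, orderOf_pow_of_dvd (by omega) (hord ▸ dvd_mul_left _ _), hord,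
        Nat.mul_div_cancel _ (by omega)])
  obtain ⟨k', hk', hk'S⟩ := conj_into S (Subgroup.le_normalizer)
    (Q := Subgroup.zpowers (x ^ (2 * j + 1)))
    (Subgroup.zpowers_le.2 (pow_mem hxS _)) h2
  have hmS : x ^ (2 * j + 1) ∈ (S : Subgroup G) := by
    simpa [mul_assoc] using conj'_mem_of_normalizer hk' (hk'S _ (Subgroup.mem_zpowers _))
  refine h.A_ne_B ((Subgroup.eq_of_le_of_card_ge ?_ (le_of_eq ?_)).symm.trans (hpow j))
  · rintro _ ⟨a, ha, rfl⟩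
    exact conj_mem_of_normalizer (h.S_le_normalizer_A hmS) ha
  · rw [Subgroup.card_map_of_injective (MulAut.conj _).injective]

/-- A conjugate of `A` inside `S` is `A`. -/
theorem conj_A_mem_normalizer {g : G} (hg : ∀ a ∈ h.A, g * a * g⁻¹ ∈ (S : Subgroup G)) :
    g ∈ Subgroup.normalizer (h.A : Set G) :=
  mem_normalizer_of_map_eq ((h.conj_A_eq_or hg).resolve_right (h.not_conj g))

theorem conj_B_mem_normalizer {g : G} (hg : ∀ b ∈ h.B, g * b * g⁻¹ ∈ (S : Subgroup G)) :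
    g ∈ Subgroup.normalizer (h.B : Set G) := by
  rw [← h.swap_A] at hg ⊢
  exact h.swap.conj_A_mem_normalizer hg

theorem normalizer_S_le_A :
    Subgroup.normalizer ((S : Subgroup G) : Set G) ≤ Subgroup.normalizer (h.A : Set G) :=
  fun _ hg => h.conj_A_mem_normalizer fun _ ha => conj_mem_of_normalizer hg (h.A_le ha)

theorem normalizer_S_le_B :
    Subgroup.normalizer ((S : Subgroup G) : Set G) ≤ Subgroup.normalizer (h.B : Set G) :=
  fun _ hg => h.conj_B_mem_normalizer fun _ hb => conj_mem_of_normalizer hg (h.B_le hb)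

theorem normalizer_S_fix_Z {g z : G} (hg : g ∈ Subgroup.normalizer ((S : Subgroup G) : Set G))
    (hz : z ∈ h.Z) : g * z * g⁻¹ ∈ h.Z :=
  ⟨conj_mem_of_normalizer (h.normalizer_S_le_A hg) hz.1,
    conj_mem_of_normalizer (h.normalizer_S_le_B hg) hz.2⟩

omit [Finite G] in
theorem four {p q : F} (hp : p ≠ 0) (hq : q ≠ 0) (hpq : p ≠ q) (x : F) :
    x = 0 ∨ x = p ∨ x = q ∨ x = p + q := by
  classical
  have h3 : p + q ≠ 0 := fun e => hpq (by rw [eq_neg_of_add_eq_zero_left e, h.neg_eq])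
  have hcard : ({0, p, q, p + q} : Finset F) = Finset.univ := by
    apply Finset.eq_univ_of_card
    rw [h.card_F]
    rw [Finset.card_insert_of_notMem, Finset.card_insert_of_notMem, Finset.card_pair]
    · simpa using hp
    · simp [hq, hpq]
    · simp [hp.symm, hq.symm, h3.symm]
  have := Finset.mem_univ x
  rw [← hcard] at this
  simpa using this

/-- An element of `N(A)` sending an involution of `Z` into `Z` normalises `Z`. -/
theorem normalizer_Z_of_mem {y z : G} (hy : y ∈ Subgroup.normalizer (h.A : Set G))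
    (hz : z ∈ h.Z) (hz1 : z ≠ 1) (hyz : y * z * y⁻¹ ∈ h.Z) :
    y ∈ Subgroup.normalizer (h.Z : Set G) := by
  refine mem_normalizer_of_forall fun z' hz' => ?_
  obtain ⟨cz, rfl⟩ := h.mem_Z.1 hz
  obtain ⟨c₁, hc₁⟩ := h.mem_Z.1 hyz
  obtain ⟨c', rfl⟩ := h.mem_Z.1 hz'
  obtain ⟨b, c, hbc⟩ := conj_mem_of_normalizer hy (h.Z_le_A hz')
  rw [← hbc]
  by_contra hcon
  have hb : b ≠ 0 := fun e => hcon (by rw [e]; exact h.mem_Z.2 ⟨c, rfl⟩)
  have hcz : cz ≠ 0 := fun e => hz1 (by rw [e]; exact h.one)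
  have hc' : c' ≠ 0 := by
    rintro rfl
    rw [h.one, mul_one, mul_inv_cancel] at hbc
    exact hb (h.eq_one_iff.1 hbc).2.1
  have hne : cz ≠ c' := by
    rintro rfl
    exact hb (h.inj _ _ _ _ _ _ (hbc.trans hc₁.symm)).2.1
  set t := h.μ (c₁ / b) 0 0 with ht
  set u := y⁻¹ * t * y with hu
  -- `u` fixes `z` and multiplies `z'` by `z`
  have e1 : u * h.μ 0 0 cz * u⁻¹ = h.μ 0 0 cz := by
    have : t * h.μ 0 0 c₁ * t⁻¹ = h.μ 0 0 c₁ := by rw [ht, h.conj]; simp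
    rw [hu, show y⁻¹ * t * y * h.μ 0 0 cz * (y⁻¹ * t * y)⁻¹ =
      y⁻¹ * (t * (y * h.μ 0 0 cz * y⁻¹) * t⁻¹) * y by group, ← hc₁, this, hc₁]
    group
  have e2 : u * h.μ 0 0 c' * u⁻¹ = h.μ 0 0 c' * h.μ 0 0 cz := by
    have : t * h.μ 0 b c * t⁻¹ = h.μ 0 b c * h.μ 0 0 c₁ := by
      rw [ht, h.conj, h.mul]
      simp [div_mul_cancel₀ c₁ hb]
    rw [hu, show y⁻¹ * t * y * h.μ 0 0 c' * (y⁻¹ * t * y)⁻¹ =
      y⁻¹ * (t * (y * h.μ 0 0 c' * y⁻¹) * t⁻¹) * y by group, ← hbc, this, hbc, hc₁]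
    group
  have huA : u ∈ Subgroup.normalizer (h.A : Set G) :=
    mul_mem (mul_mem (inv_mem hy) (h.S_le_normalizer_A (h.mem' _ _ _))) hy
  have huZ : u ∈ Subgroup.normalizer (h.Z : Set G) := by
    refine mem_normalizer_of_forall fun w hw => ?_
    obtain ⟨d, rfl⟩ := h.mem_Z.1 hw
    rcases h.four hcz hc' hne d with rfl | rfl | rfl | rfl
    · rw [h.one]; simp
    · rw [e1]; exact h.mem_Z.2 ⟨_, rfl⟩
    · rw [e2]; exact mul_mem (h.mem_Z.2 ⟨_, rfl⟩) (h.mem_Z.2 ⟨_, rfl⟩)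
    · have hsum : h.μ 0 0 (cz + c') = h.μ 0 0 cz * h.μ 0 0 c' := by rw [h.mul]; simp
      rw [hsum, ← conj_mul, e1, e2]
      exact mul_mem (h.mem_Z.2 ⟨_, rfl⟩) (mul_mem (h.mem_Z.2 ⟨_, rfl⟩) (h.mem_Z.2 ⟨_, rfl⟩))
  have hu2 : IsPGroup 2 (Subgroup.zpowers u) := by
    refine isPGroup_zpowers_of_sq ?_
    rw [hu, show (y⁻¹ * t * y) * (y⁻¹ * t * y) = y⁻¹ * (t * t) * y by group, ht,
      (h.sq_eq_one_iff _ _ _).2 (Or.inr rfl)]
    group
  obtain ⟨k, hk, hkS⟩ := conj_into S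
    (H := Subgroup.normalizer (h.A : Set G) ⊓ Subgroup.normalizer (h.Z : Set G))
    (le_inf h.S_le_normalizer_A fun s hs => mem_normalizer_of_forall fun w hw => by
      rw [← h.Z_comm hw hs, mul_inv_cancel_right]; exact hw)
    (Subgroup.zpowers_le.2 ⟨huA, huZ⟩) hu2
  -- hence `[t, A]` lies in the conjugate of `Z`
  have hcomm : ∀ x ∈ h.A, u * x * u⁻¹ * x⁻¹ ∈ h.Z := by
    intro x hx
    obtain ⟨a₀, b₀, c₀, hs⟩ := (h.mem _).1 (hkS u (Subgroup.mem_zpowers u))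
    obtain ⟨b₁, c₁', hx'⟩ := conj_mem_of_normalizer hk.1 hx
    have hmem : (k * u * k⁻¹) * (k * x * k⁻¹) * (k * u * k⁻¹)⁻¹ * (k * x * k⁻¹)⁻¹ ∈ h.Z := by
      rw [← hs, ← hx', h.conj, h.inv, h.mul]
      exact h.mem_Z.2 ⟨c₁' + a₀ * b₁ + 0 * b₀ + (c₁' + 0 * b₁) + 0 * b₁, by
        rw [h.two b₁, add_zero]⟩
    have := conj'_mem_of_normalizer hk.2 hmem
    rw [show u * x * u⁻¹ * x⁻¹ = k⁻¹ * ((k * u * k⁻¹) * (k * x * k⁻¹) * (k * u * k⁻¹)⁻¹ *
      (k * x * k⁻¹)⁻¹) * k by group]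
    exact this
  have hZ : ∀ w ∈ h.Z, y⁻¹ * w * y ∈ h.Z := by
    intro w hw
    obtain ⟨d, rfl⟩ := h.mem_Z.1 hw
    have hc₁0 : c₁ ≠ 0 := fun e => hz1 (by
      rw [e, h.one, eq_comm, mul_inv_eq_one, mul_eq_left] at hc₁
      exact hc₁)
    have hx := conj'_mem_of_normalizer hy
      (show h.μ 0 (d * b / c₁) 0 ∈ h.A from ⟨_, _, rfl⟩)
    have := hcomm _ hx
    rw [hu, show y⁻¹ * t * y * (y⁻¹ * h.μ 0 (d * b / c₁) 0 * y) * (y⁻¹ * t * y)⁻¹ *
      (y⁻¹ * h.μ 0 (d * b / c₁) 0 * y)⁻¹ = y⁻¹ * (t * h.μ 0 (d * b / c₁) 0 * t⁻¹ *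
        (h.μ 0 (d * b / c₁) 0)⁻¹) * y by group, ht, h.conj, h.inv, h.mul] at this
    convert this using 4
    · simp
    · exact (h.two _).symm
    · field_simp; simp [mul_comm]
  have hZn : y⁻¹ ∈ Subgroup.normalizer (h.Z : Set G) :=
    mem_normalizer_of_forall fun w hw => by simpa using hZ w hw
  exact hcon (hbc ▸ conj_mem_of_normalizer (inv_inv y ▸ inv_mem hZn) hz')

/-- `N_H(A)` normalises `Z`. -/
def FixZ (H : Subgroup G) : Prop :=
  ∀ g ∈ H, g ∈ Subgroup.normalizer (h.A : Set G) → ∀ z ∈ h.Z, g * z * g⁻¹ ∈ h.Z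

theorem fixZ_mono {H K : Subgroup G} (hHK : H ≤ K) (hf : h.FixZ K) : h.FixZ H :=
  fun g hg => hf g (hHK hg)

/-- In a subgroup centralising an involution of `Z`, `N(A)` normalises `Z`. -/
theorem fixZ_centralizer {z : G} (hz : z ∈ h.Z) (hz1 : z ≠ 1) {H : Subgroup G}
    (hH : H ≤ Subgroup.centralizer {z}) : h.FixZ H := by
  intro g hg hgA w hw
  refine conj_mem_of_normalizer (h.normalizer_Z_of_mem hgA hz hz1 ?_) hw
  rw [Subgroup.mem_centralizer_singleton_iff.1 (hH hg), mul_inv_cancel_right]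
  exact hz

/-- Fusion in `A` is controlled by its normaliser. -/
theorem fusion_A {H : Subgroup G} (hSH : (S : Subgroup G) ≤ H) {a g : G} (ha : a ∈ h.A)
    (hg : g ∈ H) (hga : g * a * g⁻¹ ∈ h.A) :
    ∃ n ∈ H, n ∈ Subgroup.normalizer (h.A : Set G) ∧ n * a * n⁻¹ = g * a * g⁻¹ := by
  obtain ⟨c, hc, k, hk, hk1, hk2⟩ := two_into S hSH
    (H' := H ⊓ Subgroup.centralizer {g * a * g⁻¹}) inf_le_left
    (P₁ := h.A) (P₂ := h.A.map (MulAut.conj g).toMonoidHom)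
    (fun x hx => ⟨hSH (h.A_le hx), Subgroup.mem_centralizer_singleton_iff.2 (h.A_comm hx hga)⟩)
    (by
      rintro _ ⟨x, hx, rfl⟩
      refine ⟨by simpa using mul_mem (mul_mem hg (hSH (h.A_le hx))) (inv_mem hg),
        Subgroup.mem_centralizer_singleton_iff.2 ?_⟩
      simp only [MulEquiv.coe_toMonoidHom, MulAut.conj_apply]
      rw [conj_mul, conj_mul, h.A_comm hx ha])
    h.isPGroup_A (h.isPGroup_A.map _)
  have hkA := h.conj_A_mem_normalizer hk1
  have hkcg : k * c * g ∈ Subgroup.normalizer (h.A : Set G) :=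
    h.conj_A_mem_normalizer fun x hx => by simpa [mul_assoc] using hk2 _ (conj_mem_map g hx)
  refine ⟨c * g, mul_mem hc.1 hg, by simpa [mul_assoc] using mul_mem (inv_mem hkA) hkcg, ?_⟩
  have := Subgroup.mem_centralizer_singleton_iff.1 hc.2
  rw [show c * g * a * (c * g)⁻¹ = c * (g * a * g⁻¹) * c⁻¹ by group, this, mul_inv_cancel_right]

/-- If `N_H(B)` normalises `Z`, then `A` is strongly closed in `S` with respect to `H`. -/
theorem closed_A {H : Subgroup G} (hSH : (S : Subgroup G) ≤ H) (hfix : h.swap.FixZ H) {a g : G}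
    (ha : a ∈ h.A) (hg : g ∈ H) (hga : g * a * g⁻¹ ∈ (S : Subgroup G)) : g * a * g⁻¹ ∈ h.A := by
  refine (h.involutions hga (by rw [conj_mul, h.A_sq ha, mul_one, mul_inv_cancel])).elim id
    fun hy => ?_
  obtain ⟨c, hc, k, hk, hk1, hk2⟩ := two_into S hSH
    (H' := H ⊓ Subgroup.centralizer {g * a * g⁻¹}) inf_le_left
    (P₁ := h.B) (P₂ := h.A.map (MulAut.conj g).toMonoidHom)
    (fun x hx => ⟨hSH (h.B_le hx), Subgroup.mem_centralizer_singleton_iff.2 (h.B_comm hx hy)⟩)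
    (by
      rintro _ ⟨x, hx, rfl⟩
      refine ⟨by simpa using mul_mem (mul_mem hg (hSH (h.A_le hx))) (inv_mem hg),
        Subgroup.mem_centralizer_singleton_iff.2 ?_⟩
      simp only [MulEquiv.coe_toMonoidHom, MulAut.conj_apply]
      rw [conj_mul, conj_mul, h.A_comm hx ha])
    h.isPGroup_B (h.isPGroup_A.map _)
  have hkB := h.conj_B_mem_normalizer hk1
  have hkcg : k * c * g ∈ Subgroup.normalizer (h.A : Set G) :=
    h.conj_A_mem_normalizer fun x hx => by simpa [mul_assoc] using hk2 _ (conj_mem_map g hx)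
  have e : k * (g * a * g⁻¹) * k⁻¹ = k * c * g * a * (k * c * g)⁻¹ := by
    have := Subgroup.mem_centralizer_singleton_iff.1 hc.2
    rw [show k * c * g * a * (k * c * g)⁻¹ = k * (c * (g * a * g⁻¹) * c⁻¹) * k⁻¹ by group, this,
      mul_inv_cancel_right]
  have hZ : k * (g * a * g⁻¹) * k⁻¹ ∈ h.Z :=
    ⟨e ▸ conj_mem_of_normalizer hkcg ha, conj_mem_of_normalizer hkB hy⟩
  rw [← h.swap_A] at hkB
  rw [← h.swap_Z] at hZ
  have := hfix k⁻¹ (inv_mem hk) (inv_mem hkB) _ hZ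
  rw [h.swap_Z] at this
  exact h.Z_le_A (by simpa [mul_assoc] using this)

/-- If both normalisers normalise `Z`, then `Z` is strongly closed in `S` with respect to `H`. -/
theorem closed_Z {H : Subgroup G} (hSH : (S : Subgroup G) ≤ H) (hA : h.FixZ H)
    (hB : h.swap.FixZ H) {z g : G} (hz : z ∈ h.Z) (hg : g ∈ H)
    (hgz : g * z * g⁻¹ ∈ (S : Subgroup G)) : g * z * g⁻¹ ∈ h.Z := by
  obtain ⟨n, hn, hnA, e⟩ := h.fusion_A hSH (h.Z_le_A hz) hg
    (h.closed_A hSH hB (h.Z_le_A hz) hg hgz)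
  exact e ▸ hA n hn hnA z hz

/-- The action on `S/Z` of an element of `N(S)` centralising `Z`. -/
theorem torus_central {n : G} (hn : n ∈ Subgroup.normalizer ((S : Subgroup G) : Set G))
    (hc : ∀ z ∈ h.Z, n * z = z * n) :
    ∃ u : F, u ≠ 0 ∧ ∀ a b c, ∃ c', n * h.μ a b c * n⁻¹ = h.μ (u * a) (u⁻¹ * b) c' := by
  have hcomm : ∀ a b : F, h.μ a 0 0 * h.μ 0 b 0 * (h.μ a 0 0)⁻¹ * (h.μ 0 b 0)⁻¹ =
      h.μ 0 0 (a * b) := by
    intro a b
    rw [h.conj, h.inv, h.mul]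
    congr 1 <;> simp [h.two]
  have key : ∀ a b a' ca' b' cb' : F, n * h.μ a 0 0 * n⁻¹ = h.μ a' 0 ca' →
      n * h.μ 0 b 0 * n⁻¹ = h.μ 0 b' cb' → a' * b' = a * b := by
    intro a b a' ca' b' cb' ha hb
    have e : n * h.μ 0 0 (a * b) * n⁻¹ = h.μ 0 0 (a * b) := by
      rw [hc _ (h.mem_Z.2 ⟨_, rfl⟩), mul_inv_cancel_right]
    rw [← hcomm, show n * (h.μ a 0 0 * h.μ 0 b 0 * (h.μ a 0 0)⁻¹ * (h.μ 0 b 0)⁻¹) * n⁻¹ =
      (n * h.μ a 0 0 * n⁻¹) * (n * h.μ 0 b 0 * n⁻¹) * (n * h.μ a 0 0 * n⁻¹)⁻¹ *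
        (n * h.μ 0 b 0 * n⁻¹)⁻¹ by group, ha, hb, h.conj, h.inv, h.mul, hcomm] at e
    have := (h.inj _ _ _ _ _ _ e).2.2
    simp only [zero_mul, add_zero] at this
    rw [show cb' + a' * b' + cb' = (cb' + cb') + a' * b' by ring, h.two, zero_add] at this
    exact this
  have hB := fun a : F => conj_mem_of_normalizer (h.normalizer_S_le_B hn)
    (show h.μ a 0 0 ∈ h.B from ⟨_, _, rfl⟩)
  have hA := fun b : F => conj_mem_of_normalizer (h.normalizer_S_le_A hn)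
    (show h.μ 0 b 0 ∈ h.A from ⟨_, _, rfl⟩)
  obtain ⟨u, cu, eu⟩ := hB 1
  obtain ⟨v, cv, ev⟩ := hA 1
  have huv := key 1 1 u cu v cv eu.symm ev.symm
  rw [one_mul] at huv
  refine ⟨u, left_ne_zero_of_mul_eq_one huv, fun a b c => ?_⟩
  obtain ⟨a', ca, ea⟩ := hB a
  obtain ⟨b', cb, eb⟩ := hA b
  have h1 := key 1 b u cu b' cb eu.symm eb.symm
  have h2 := key a 1 a' ca v cv ea.symm ev.symm
  obtain rfl : b' = u⁻¹ * b := by
    rw [one_mul] at h1; rw [← h1, inv_mul_cancel_left₀ (left_ne_zero_of_mul_eq_one huv)]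
  obtain rfl : a' = u * a := by
    rw [mul_one] at h2; rw [← h2, mul_left_comm, huv, mul_one]
  rw [show h.μ a b c = h.μ a 0 0 * h.μ 0 b 0 * h.μ 0 0 (c + a * b) by
    rw [h.mul, h.mul]; congr 1 <;> simp [add_left_comm, h.two], ← conj_mul, ← conj_mul, ← ea, ← eb,
    hc _ (h.mem_Z.2 ⟨_, rfl⟩), mul_inv_cancel_right, h.mul, h.mul]
  exact ⟨_, by simp; rfl⟩

end Chart

end Cfsg.Agent.L34Syl83
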