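import Mathlib
import Cfsg.Agent.Lib.L34Syl83Fusion
import Cfsg.Agent.Lib.StrongClosedNT20

/-!
# Centralisers of central involutions

`normal_of_central`: with a central involution and trivial odd core, a Sylow `2`-subgroup of type
`L₃(4)` is normal.
`centralizer_split`, `centralizes_Z`: the consequences for the centraliser of an involution of `Z`.
-/

set_option autoImplicit false

namespace Cfsg.Agent.L34Syl83

open Cfsg Cfsg.Agent.StrongClosedNTBase20

universe u v

namespace Chart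

variable {F : Type v} [Field F] [Fintype F] {G : Type u} [Group G]

/-- Restriction to a subgroup containing `S`. -/
def restrict {S : Subgroup G} (h : Chart F S) {H : Subgroup G} (hSH : S ≤ H) :
    Chart F (S.subgroupOf H) where
  μ a b c := ⟨h.μ a b c, hSH (h.mem' a b c)⟩
  card_F := h.card_F
  mul a b c a' b' c' := Subtype.ext (h.mul a b c a' b' c')
  inj a b c a' b' c' e := h.inj _ _ _ _ _ _ (congrArg Subtype.val e)
  mem x := by
    rw [Subgroup.mem_subgroupOf, h.mem]
    simp only [Subtype.ext_iff]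

theorem mem_restrict_Z {S : Subgroup G} (h : Chart F S) {H : Subgroup G} (hSH : S ≤ H) {x : H} :
    x ∈ (h.restrict hSH).Z ↔ (x : G) ∈ h.Z := by
  rw [mem_Z, mem_Z]
  simp only [Subtype.ext_iff]
  rfl

/-- With a central involution and trivial odd core, `S` is normal and `Z` is central. -/
theorem normal_of_central [Finite G] {S : Sylow 2 G} (h : Chart F (S : Subgroup G)) {z : G}
    (hz : z ∈ h.Z) (hz1 : z ≠ 1) (hzc : ∀ g : G, g * z = z * g) (hO : pPrimeCore 2 G = ⊥) :
    (S : Subgroup G).Normal ∧ ∀ w ∈ h.Z, ∀ g : G, g * w = w * g := by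
  haveI : Fact (Nat.Prime 2) := ⟨Nat.prime_two⟩
  have hcen : (⊤ : Subgroup G) ≤ Subgroup.centralizer {z} :=
    fun g _ => Subgroup.mem_centralizer_singleton_iff.2 (hzc g)
  have hA := h.fixZ_centralizer hz hz1 hcen
  have hB := h.swap.fixZ_centralizer (h.swap_Z.symm ▸ hz) hz1 hcen
  have hcl : ∀ w ∈ h.Z, ∀ g : G, g * w * g⁻¹ ∈ (S : Subgroup G) → g * w * g⁻¹ ∈ h.Z :=
    fun w hw g hg => h.closed_Z le_top hA hB hw (Subgroup.mem_top g) hg
  have hZsq : ∀ w ∈ h.Z, w * w = 1 := fun w hw => h.A_sq (h.Z_le_A hw)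
  have hypZ : Hyp h.Z := by
    refine ⟨⟨⟨⟨fun a b => Subtype.ext (h.A_comm (h.Z_le_A a.2) (h.Z_le_A b.2))⟩⟩,
      fun a ha => by rw [pow_two]; exact hZsq a ha⟩, ?_, ?_⟩
    · intro Q hQ hZQ w hw g hg
      obtain ⟨k, -, hk⟩ := conj_into S le_top le_top hQ
      have hkZ : k ∈ Subgroup.normalizer (h.Z : Set G) :=
        mem_normalizer_of_forall fun w' hw' => hcl w' hw' k (hk w' (hZQ hw'))
      have := hcl w hw (k * g) (by simpa [mul_assoc] using hk _ hg)
      simpa [mul_assoc] using conj'_mem_of_normalizer hkZ this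
    · intro Y C hC _ _ _ htr
      by_cases hzC : z ∈ C
      · have : 2 ≤ Nat.card C := by
          refine le_trans (le_of_eq ?_) (Subgroup.card_le_of_le (Subgroup.zpowers_le.2 hzC))
          rw [Nat.card_zpowers, orderOf_eq_prime (by rw [pow_two]; exact hZsq z hz) hz1]
        rw [h.card_Z]; omega
      · have hsub : (h.Z : Set G) ⊆ (C : Set G) ∪ (fun c => z * c) '' C := by
          intro w hw
          by_cases hwC : w ∈ C
          · exact Or.inl hwC
          · obtain ⟨y, -, hy⟩ := htr z hz hzC w hw hwC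
            rw [hzc y, mul_inv_cancel_right] at hy
            exact Or.inr ⟨(z * w⁻¹) , hy, by
              simp only
              rw [← mul_assoc, hZsq z hz, one_mul, inv_eq_of_mul_eq_one_right (hZsq w hw)]⟩
        have := (Set.ncard_le_ncard hsub).trans (Set.ncard_union_le _ _)
        rw [Set.ncard_image_of_injective _ (mul_right_injective z)] at this
        rw [← Nat.card_coe_set_eq, ← Nat.card_coe_set_eq] at this
        simpa [two_mul] using this
  have hZn : h.Z.Normal := StrongClosedNT20.normal_of_hyp hypZ hO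
  have hZc : ∀ w ∈ h.Z, ∀ g : G, g * w = w * g := by
    intro w hw g
    obtain ⟨r, m, hm, hord⟩ := Nat.exists_eq_two_pow_mul_odd (orderOf_pos g).ne'
    have h2 : ∀ w' ∈ h.Z, g * (g * w' * g⁻¹) * g⁻¹ = w' := by
      intro w' hw'
      obtain ⟨cz, rfl⟩ := h.mem_Z.1 hz
      obtain ⟨cw, rfl⟩ := h.mem_Z.1 hw'
      obtain ⟨d, hd⟩ := h.mem_Z.1 (hZn.conj_mem _ hw' g)
      have hcz : cz ≠ 0 := fun e => hz1 (by rw [e]; exact h.one)
      have hfz : ∀ x, g * x * g⁻¹ = h.μ 0 0 cz → x = h.μ 0 0 cz := fun x e => by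
        calc x = g⁻¹ * (g * x * g⁻¹) * g := by group
          _ = g⁻¹ * (g * h.μ 0 0 cz) := by rw [e, hzc g, mul_assoc]
          _ = h.μ 0 0 cz := by group
      by_cases hwz : cw = 0 ∨ cw = cz
      · have e1 : g * h.μ 0 0 cw * g⁻¹ = h.μ 0 0 cw := by
          rcases hwz with rfl | rfl
          · rw [h.one]; simp
          · rw [hzc g, mul_inv_cancel_right]
        rw [e1, e1]
      push Not at hwz
      rw [← hd]
      rcases h.four hcz hwz.1 (Ne.symm hwz.2) d with rfl | rfl | rfl | rfl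
      · rw [h.one, eq_comm, mul_inv_eq_one, mul_eq_left] at hd
        exact absurd (h.eq_one_iff.1 hd).2.2 hwz.1
      · exact absurd (h.inj _ _ _ _ _ _ (hfz _ hd.symm)).2.2 hwz.2
      · exact hd.symm
      · rw [show h.μ 0 0 (cz + cw) = h.μ 0 0 cz * h.μ 0 0 cw by rw [h.mul]; simp, ← conj_mul,
          ← hd, hzc g, mul_inv_cancel_right, h.mul]
        simp [h.two, ← add_assoc]
    obtain ⟨j, rfl⟩ := hm
    have hodd : g ^ (2 * j + 1) * w * (g ^ (2 * j + 1))⁻¹ = g * w * g⁻¹ := by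
      clear hord
      induction j with
      | zero => simp
      | succ j ih =>
        calc g ^ (2 * (j + 1) + 1) * w * (g ^ (2 * (j + 1) + 1))⁻¹
            = g * (g * (g ^ (2 * j + 1) * w * (g ^ (2 * j + 1))⁻¹) * g⁻¹) * g⁻¹ := by
              rw [show 2 * (j + 1) + 1 = (2 * j + 1) + 1 + 1 by ring, pow_succ', pow_succ']; group
          _ = g * w * g⁻¹ := by rw [ih, h2 _ (hZn.conj_mem w hw g)]
    have hp : IsPGroup 2 (Subgroup.zpowers (g ^ (2 * j + 1))) :=
      IsPGroup.of_card (n := r) (by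
        rw [Nat.card_zpowers, orderOf_pow_of_dvd (by omega) (hord ▸ dvd_mul_left _ _), hord,
          Nat.mul_div_cancel _ (by omega)])
    obtain ⟨k, -, hk⟩ := conj_into S le_top le_top hp
    have e := h.Z_comm (hZn.conj_mem w hw k) (hk _ (Subgroup.mem_zpowers _))
    rw [conj_mul, conj_mul] at e
    have e' := mul_left_cancel (mul_right_cancel e)
    rw [← e', mul_inv_cancel_right] at hodd
    rw [← mul_inv_eq_iff_eq_mul, ← hodd]
  refine ⟨?_, hZc⟩
  haveI := hZn
  set π := QuotientGroup.mk' h.Z with hπ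
  have hπ1 : ∀ x, π x = 1 ↔ x ∈ h.Z := fun x => QuotientGroup.eq_one_iff x
  have hpre : ((S : Subgroup G).map π).comap π = S := by
    rw [Subgroup.comap_map_eq, QuotientGroup.ker_mk', sup_eq_left]
    exact h.Z_le
  -- the odd core of the quotient is trivial
  have hO' : pPrimeCore 2 (G ⧸ h.Z) = ⊥ := by
    haveI : (pPrimeCore 2 (G ⧸ h.Z)).Normal := HallCore.pPrimeCore_normal 2 _
    set N := (pPrimeCore 2 (G ⧸ h.Z)).comap π with hN
    haveI hNn : N.Normal := Subgroup.Normal.comap inferInstance _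
    have hZN : h.Z ≤ N := fun x hx => by
      rw [hN, Subgroup.mem_comap, (hπ1 x).2 hx]; exact one_mem _
    have hcardN : Nat.card N = Nat.card (pPrimeCore 2 (G ⧸ h.Z)) * Nat.card h.Z :=
      (HallCore.card_comap_mk' h.Z _).symm
    have hodd : Odd (Nat.card (pPrimeCore 2 (G ⧸ h.Z))) :=
      Nat.coprime_two_right.1 (HallCore.coprime_card_pPrimeCore 2 _)
    have hi : (h.Z.subgroupOf N).index = Nat.card (pPrimeCore 2 (G ⧸ h.Z)) := by
      have := Subgroup.card_mul_index (h.Z.subgroupOf N)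
      rw [Nat.card_congr (Subgroup.subgroupOfEquivOfLe hZN).toEquiv, hcardN, mul_comm] at this
      exact Nat.eq_of_mul_eq_mul_right Nat.card_pos this
    obtain ⟨R, hR⟩ := Subgroup.exists_right_complement'_of_coprime (N := h.Z.subgroupOf N) (by
      rw [hi, Nat.card_congr (Subgroup.subgroupOfEquivOfLe hZN).toEquiv, h.card_Z]
      simpa using (Nat.Coprime.pow_left 2 (Nat.coprime_two_left.2 hodd)))
    have hRc : Nat.card R = Nat.card (pPrimeCore 2 (G ⧸ h.Z)) := by
      have := hR.card_mul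
      rw [Nat.card_congr (Subgroup.subgroupOfEquivOfLe hZN).toEquiv, hcardN, mul_comm _ (Nat.card h.Z)]
        at this
      exact Nat.eq_of_mul_eq_mul_left Nat.card_pos this
    haveI hRn : (R.map N.subtype).Normal := by
      constructor
      rintro _ ⟨x, hx, rfl⟩ g
      have hgx : g * x.1 * g⁻¹ ∈ N := hNn.conj_mem _ x.2 g
      obtain ⟨⟨⟨w, hw⟩, y⟩, hyw⟩ := hR.2 ⟨_, hgx⟩
      have hwG : w.1 * (y.1).1 = g * x.1 * g⁻¹ := congrArg Subtype.val hyw
      have hw' : (w : G) ∈ h.Z := hw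
      obtain ⟨i, hi'⟩ := hodd
      have hpow : ∀ q : R, ((q : N) : G) ^ (2 * i + 1) = 1 := fun q => by
        rw [← hi', ← hRc, ← SubgroupClass.coe_pow, ← SubgroupClass.coe_pow, pow_card_eq_one']
        rfl
      have e : (w.1 * (y.1).1) ^ (2 * i + 1) = (g * x.1 * g⁻¹) ^ (2 * i + 1) := by rw [hwG]
      rw [(Commute.symm (hZc _ hw' _)).mul_pow, conj_pow, hpow, hpow ⟨x, hx⟩, mul_one, mul_one,
        mul_inv_cancel, pow_succ, pow_mul, pow_two, hZsq _ hw', one_pow, one_mul] at e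
      rw [e, one_mul] at hwG
      exact ⟨y.1, y.2, hwG⟩
    have hRbot : R.map N.subtype = ⊥ := by
      refine le_bot_iff.1 (hO ▸ HallCore.le_pPrimeCore ?_)
      rw [Subgroup.card_map_of_injective N.subtype_injective, hRc]
      exact Nat.coprime_two_right.2 hodd
    rw [← Subgroup.card_eq_one, ← hRc,
      ← Subgroup.card_map_of_injective (K := R) N.subtype_injective, hRbot, Subgroup.card_bot]
  -- the image of `S`
  have hyp : Hyp ((S : Subgroup G).map π) := by
    refine ⟨⟨⟨⟨?_⟩⟩, ?_⟩, ?_, ?_⟩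
    · rintro ⟨_, x, hx, rfl⟩ ⟨_, y, hy, rfl⟩
      apply Subtype.ext
      show π x * π y = π y * π x
      rw [← map_mul, ← map_mul]
      refine QuotientGroup.eq.2 ?_
      obtain ⟨a, b, c, rfl⟩ := (h.mem x).1 hx
      obtain ⟨a', b', c', rfl⟩ := (h.mem y).1 hy
      rw [h.mul, h.mul, h.inv, h.mul]
      exact h.mem_Z.2 ⟨_, by rw [add_comm a' a, add_comm b' b, h.two, h.two]⟩
    · rintro _ ⟨x, hx, rfl⟩
      obtain ⟨a, b, c, rfl⟩ := (h.mem x).1 hx
      rw [← map_pow, pow_two, h.sq, hπ1]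
      exact h.mem_Z.2 ⟨_, rfl⟩
    · intro Q hQ hSQ x _ g hg
      have hp : IsPGroup 2 (Q.comap π) :=
        HallCore.isPGroup_comap_mk' (S.2.to_le h.Z_le) hQ
      have := S.3 hp (fun s hs => hSQ ⟨s, hs, rfl⟩)
      obtain ⟨y, hy⟩ := QuotientGroup.mk'_surjective h.Z (g * x * g⁻¹)
      refine ⟨y, ?_, hy⟩
      rw [← hy] at hg
      exact this.le hg
    · intro Y C hC hYS _ hodd htr
      have hact : ∀ y ∈ Y, ∃ u : F, u ≠ 0 ∧
          ∀ a b c, ∃ c', y * π (h.μ a b c) * y⁻¹ = π (h.μ (u * a) (u⁻¹ * b) c') := by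
        intro y hy
        obtain ⟨n, rfl⟩ := QuotientGroup.mk'_surjective h.Z y
        have hn : n ∈ Subgroup.normalizer ((S : Subgroup G) : Set G) :=
          mem_normalizer_of_forall fun s hs => by
            rw [← hpre, Subgroup.mem_comap, map_mul, map_mul, map_inv]
            exact hYS _ hy _ ⟨s, hs, rfl⟩
        obtain ⟨u, hu, hu'⟩ := h.torus_central hn fun w hw => hZc w hw n
        refine ⟨u, hu, fun a b c => ?_⟩
        obtain ⟨c', e⟩ := hu' a b c
        exact ⟨c', by rw [← e, map_mul, map_mul, map_inv]⟩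
      have hcoord : ∀ a b c a' b' c', π (h.μ a b c) = π (h.μ a' b' c') → a = a' ∧ b = b' := by
        intro a b c a' b' c' e
        obtain ⟨d, hd⟩ := h.mem_Z.1 (QuotientGroup.eq.1 e)
        rw [h.inv, h.mul] at hd
        obtain ⟨ha, hb, -⟩ := h.inj _ _ _ _ _ _ hd
        exact ⟨by rw [eq_neg_of_add_eq_zero_left ha.symm, h.neg_eq],
          by rw [eq_neg_of_add_eq_zero_left hb.symm, h.neg_eq]⟩
      by_cases htriv : ∀ y ∈ Y, ∀ a ∈ (S : Subgroup G).map π, y * a * y⁻¹ = a
      · by_cases hall : (S : Subgroup G).map π ≤ C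
        · have := Subgroup.card_le_of_le hall; omega
        obtain ⟨a₀, ha₀, ha₀C⟩ := SetLike.not_le_iff_exists.1 hall
        have hsub : (((S : Subgroup G).map π : Subgroup _) : Set (G ⧸ h.Z)) ⊆
            (C : Set (G ⧸ h.Z)) ∪ (fun c => c⁻¹ * a₀) '' C := by
          intro b hb
          by_cases hbC : b ∈ C
          · exact Or.inl hbC
          · obtain ⟨y, hy, e⟩ := htr a₀ ha₀ ha₀C b hb hbC
            rw [htriv y hy a₀ ha₀] at e
            exact Or.inr ⟨_, e, by simp⟩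
        have := (Set.ncard_le_ncard hsub).trans (Set.ncard_union_le _ _)
        rw [Set.ncard_image_of_injective _
          (fun c c' e => inv_injective (mul_right_cancel e))] at this
        rw [← Nat.card_coe_set_eq, ← Nat.card_coe_set_eq] at this
        rw [two_mul]
        exact this
      · exfalso
        push Not at htriv
        obtain ⟨y, hy, _, ⟨s, hs, rfl⟩, hne⟩ := htriv
        obtain ⟨u, hu, hu'⟩ := hact y hy
        have hu1 : u ≠ 1 := by
          rintro rfl
          obtain ⟨a, b, c, rfl⟩ := (h.mem s).1 hs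
          obtain ⟨c', e⟩ := hu' a b c
          refine hne (e.trans ?_)
          refine QuotientGroup.eq.2 ?_
          rw [h.inv, h.mul]
          exact h.mem_Z.2 ⟨_, by simp [h.two]; rfl⟩
        have hu3 : u ^ 3 = 1 := by
          have := FiniteField.pow_card_sub_one_eq_one u hu
          rwa [h.card_F] at this
        obtain ⟨r, m, hm, hord⟩ := Nat.exists_eq_two_pow_mul_odd (orderOf_pos y).ne'
        have hr0 : u ^ (2 ^ r) ≠ 1 := fun e => hu1 (by
          have hd := Nat.dvd_gcd (orderOf_dvd_of_pow_eq_one hu3) (orderOf_dvd_of_pow_eq_one e)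
          rw [show Nat.gcd 3 (2 ^ r) = 1 from Nat.Coprime.pow_right r (by norm_num),
            Nat.dvd_one] at hd
          exact orderOf_eq_one_iff.1 hd)
        have hiter : ∀ (i : ℕ) a b c, ∃ c',
            y ^ i * π (h.μ a b c) * (y ^ i)⁻¹ = π (h.μ (u ^ i * a) ((u⁻¹) ^ i * b) c') := by
          intro i
          induction i with
          | zero => intro a b c; exact ⟨c, by simp⟩
          | succ i ih =>
            intro a b c
            obtain ⟨c', e⟩ := ih a b c
            obtain ⟨c'', e'⟩ := hu' (u ^ i * a) ((u⁻¹) ^ i * b) c'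
            refine ⟨c'', ?_⟩
            rw [show u ^ (i + 1) * a = u * (u ^ i * a) by rw [pow_succ']; ring,
              show (u⁻¹) ^ (i + 1) * b = u⁻¹ * ((u⁻¹) ^ i * b) by rw [pow_succ']; ring, ← e', ← e,
              pow_succ']
            group
        have hC1 : ∀ x ∈ C, x = 1 := by
          intro x hx
          obtain ⟨s', hs', rfl⟩ := hC hx
          obtain ⟨a, b, c, rfl⟩ := (h.mem s').1 hs'
          obtain ⟨c', e⟩ := hiter (2 ^ r) a b c
          rw [hodd _ (pow_mem hy _) (by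
            rw [orderOf_pow_of_dvd (by positivity) (hord ▸ dvd_mul_right _ _), hord,
              Nat.mul_div_cancel_left _ (by positivity)]
            exact hm) _ hx] at e
          obtain ⟨ha, hb⟩ := hcoord _ _ _ _ _ _ e
          have ha0 : a = 0 := by
            by_contra h0
            exact hr0 (mul_right_cancel₀ h0 (by rw [one_mul]; exact ha.symm))
          have hb0 : b = 0 := by
            by_contra h0
            refine hr0 (inv_eq_one.1 ?_)
            rw [← inv_pow]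
            exact mul_right_cancel₀ h0 (by rw [one_mul]; exact hb.symm)
          subst ha0; subst hb0
          exact (hπ1 _).2 (h.mem_Z.2 ⟨c, rfl⟩)
        have hne1 : ∀ a b c, (a ≠ 0 ∨ b ≠ 0) → π (h.μ a b c) ∉ C := fun a b c hab hm' => by
          have := hcoord a b c 0 0 0 ((hC1 _ hm').trans (by rw [h.one, map_one]))
          tauto
        obtain ⟨y', hy', e⟩ := htr _ ⟨_, h.mem' 1 0 0, rfl⟩ (hne1 1 0 0 (Or.inl one_ne_zero))
          _ ⟨_, h.mem' 0 1 0, rfl⟩ (hne1 0 1 0 (Or.inr one_ne_zero))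
        obtain ⟨u', -, hu''⟩ := hact y' hy'
        obtain ⟨c', e'⟩ := hu'' 1 0 0
        rw [e'] at e
        exact zero_ne_one ((mul_zero _).symm.trans
          (hcoord _ _ _ _ _ _ (mul_inv_eq_one.1 (hC1 _ e))).2)
  have hn := StrongClosedNT20.normal_of_hyp hyp hO'
  rw [← hpre]
  exact hn.comap π

variable [Finite G] {S : Sylow 2 G} (h : Chart F (S : Subgroup G)) {z : G} (hz : z ∈ h.Z)
  (hz1 : z ≠ 1)
include h hz hz1

/-- Modulo its odd core, `C(z)` normalises `S` and centralises `Z`. -/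
theorem centralizer_split {c : G} (hc : c ∈ Subgroup.centralizer {z}) :
    (∃ o ∈ centralizerPPrimeCore 2 z, ∃ n ∈ Subgroup.normalizer ((S : Subgroup G) : Set G),
      n ∈ Subgroup.centralizer {z} ∧ c = o * n) ∧
    ∀ w ∈ h.Z, w⁻¹ * (c * w * c⁻¹) ∈ centralizerPPrimeCore 2 z := by
  haveI : Fact (Nat.Prime 2) := ⟨Nat.prime_two⟩
  set C := Subgroup.centralizer ({z} : Set G) with hC
  haveI : (pPrimeCore 2 C).Normal := HallCore.pPrimeCore_normal 2 _
  set π := QuotientGroup.mk' (pPrimeCore 2 C) with hπ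
  have hSC : (S : Subgroup G) ≤ C := fun s hs =>
    Subgroup.mem_centralizer_singleton_iff.2 (h.Z_comm hz hs).symm
  set T := S.subtype hSC with hT
  have hTcoe : (T : Subgroup C) = (S : Subgroup G).subgroupOf C := rfl
  have hker : ∀ x ∈ (T : Subgroup C), x ∈ pPrimeCore 2 C → x = 1 := fun x hx hx' => by
    obtain ⟨i, hi⟩ := T.2 ⟨x, hx⟩
    have h1 : orderOf x ∣ 2 ^ i := orderOf_dvd_of_pow_eq_one (congrArg Subtype.val hi)
    have h2 : orderOf x ∣ Nat.card (pPrimeCore 2 C) := by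
      rw [show orderOf x = orderOf (⟨x, hx'⟩ : pPrimeCore 2 C) from
        Subgroup.orderOf_coe (⟨x, hx'⟩ : pPrimeCore 2 C)]
      exact orderOf_dvd_natCard _
    have h3 := Nat.dvd_gcd h1 h2
    rw [((HallCore.coprime_card_pPrimeCore 2 C).symm.pow_left i).gcd_eq_one, Nat.dvd_one] at h3
    exact orderOf_eq_one_iff.1 h3
  let hC' : Chart F (T : Subgroup C) := h.restrict hSC
  let hQ := hC'.map π fun x hx e => hker x hx ((QuotientGroup.eq_one_iff x).1 e)
  let T' := T.mapSurjective (QuotientGroup.mk'_surjective (pPrimeCore 2 C))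
  let hQ' : Chart F (T' : Subgroup (C ⧸ pPrimeCore 2 C)) :=
    ⟨hQ.μ, hQ.card_F, hQ.mul, hQ.inj, hQ.mem⟩
  obtain ⟨cz, hcz⟩ := h.mem_Z.1 hz
  have hzm : hQ'.μ 0 0 cz = π ⟨z, hSC (h.Z_le hz)⟩ := congrArg π (Subtype.ext hcz)
  have key := hQ'.normal_of_central (z := hQ'.μ 0 0 cz) (hQ'.mem_Z.2 ⟨_, rfl⟩)
    (fun e => hz1 (by
      rw [hQ'.eq_one_iff] at e
      rw [← hcz, h.eq_one_iff]
      exact e))
    (fun g => by
      obtain ⟨g, rfl⟩ := QuotientGroup.mk'_surjective _ g
      rw [hzm, ← map_mul, ← map_mul]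
      exact congrArg π (Subtype.ext (Subgroup.mem_centralizer_singleton_iff.1 g.2)))
    (HallCore.pPrimeCore_quotient_self 2 C)
  set N := (T' : Subgroup _).comap π with hN
  have hTN : (T : Subgroup C) ≤ N := fun x hx => ⟨x, hx, rfl⟩
  refine ⟨?_, fun w hw => ?_⟩
  · obtain ⟨k, hk, hkS⟩ := conj_into T hTN
      (Q := (T : Subgroup C).map (MulAut.conj (⟨c, hc⟩ : C)).toMonoidHom) (by
        rintro _ ⟨x, hx, rfl⟩
        have := key.1.conj_mem _ ⟨x, hx, rfl⟩ (π ⟨c, hc⟩)
        rw [← map_inv, ← map_mul, ← map_mul] at this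
        simpa [hN, Subgroup.mem_comap] using this) (T.2.map _)
    obtain ⟨s, hs, hsk⟩ := hk
    have hn : (k * ⟨c, hc⟩ : C) ∈ Subgroup.normalizer ((T : Subgroup C) : Set C) :=
      mem_normalizer_of_forall fun x hx => by
        simpa [mul_assoc] using hkS _ (conj_mem_map (⟨c, hc⟩ : C) hx)
    have ho : (k⁻¹ * s : C) ∈ pPrimeCore 2 C := QuotientGroup.eq.1 hsk.symm
    refine ⟨_, ⟨_, ho, rfl⟩, ((s⁻¹ * (k * ⟨c, hc⟩) : C) : G), ?_, Subtype.prop _, ?_⟩
    · refine mem_normalizer_of_forall fun x hx => ?_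
      have hn' := mul_mem (inv_mem (Subgroup.le_normalizer hs)) hn
      exact (conj_mem_of_normalizer hn' (show (⟨x, hSC hx⟩ : C) ∈ (T : Subgroup C) from hx) :)
    · show c = ((k⁻¹ * s : C) : G) * ((s⁻¹ * (k * ⟨c, hc⟩) : C) : G)
      rw [← Subgroup.coe_mul, mul_assoc, mul_inv_cancel_left, inv_mul_cancel_left]
  · obtain ⟨cw, rfl⟩ := h.mem_Z.1 hw
    have e := key.2 (hQ'.μ 0 0 cw) (hQ'.mem_Z.2 ⟨_, rfl⟩) (π ⟨c, hc⟩)
    refine ⟨(⟨h.μ 0 0 cw, hSC (h.mem' _ _ _)⟩ : C)⁻¹ *
      (⟨c, hc⟩ * ⟨h.μ 0 0 cw, hSC (h.mem' _ _ _)⟩ * (⟨c, hc⟩ : C)⁻¹), ?_, rfl⟩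
    refine (QuotientGroup.eq_one_iff _).1 ?_
    show π _ = 1
    rw [map_mul, map_mul, map_mul, map_inv, map_inv]
    change _⁻¹ * (_ * hQ'.μ 0 0 cw * _) = 1
    rw [e, mul_inv_cancel_right]
    exact inv_mul_cancel _

/-- An element of `N(S)` centralising `z` centralises `Z`. -/
theorem centralizes_Z {n : G} (hn : n ∈ Subgroup.normalizer ((S : Subgroup G) : Set G))
    (hnz : n ∈ Subgroup.centralizer {z}) {w : G} (hw : w ∈ h.Z) : n * w = w * n := by
  haveI : Fact (Nat.Prime 2) := ⟨Nat.prime_two⟩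
  have hm := (h.centralizer_split hz hz1 hnz).2 w hw
  have hZ : w⁻¹ * (n * w * n⁻¹) ∈ h.Z := mul_mem (inv_mem hw) (h.normalizer_S_fix_Z hn hw)
  have hd : orderOf (w⁻¹ * (n * w * n⁻¹)) ∣ Nat.card (centralizerPPrimeCore 2 z) := by
    rw [show orderOf (w⁻¹ * (n * w * n⁻¹)) =
        orderOf (⟨_, hm⟩ : centralizerPPrimeCore 2 z) from
        Subgroup.orderOf_coe (⟨_, hm⟩ : centralizerPPrimeCore 2 z)]
    exact orderOf_dvd_natCard _
  have h2 : orderOf (w⁻¹ * (n * w * n⁻¹)) ∣ 2 :=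
    orderOf_dvd_of_pow_eq_one (by rw [pow_two]; exact h.A_sq (h.Z_le_A hZ))
  have h3 := Nat.dvd_gcd h2 hd
  rw [Nat.Coprime.gcd_eq_one ((Nat.prime_two.coprime_iff_not_dvd).2
    (SignalizerBasic.not_dvd_card_centralizerPPrimeCore 2 z)), Nat.dvd_one,
    orderOf_eq_one_iff, inv_mul_eq_one] at h3
  exact (mul_inv_eq_iff_eq_mul.1 h3.symm)

end Chart

end Cfsg.Agent.L34Syl83
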