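import Mathlib
import Cfsg.Agent.Lib.L34Syl83Fusion
import Cfsg.Agent.Lib.AEightThreeGen62

/-!
# Type `L₃(4)` Sylow subgroup, both normalisers fixing `Z`: centralisers of central involutions

`split`: `C(z) = O(C(z)) C(Z)`; `solvable_cent_Z`: `C(z)` is solvable; `sylow_A`, `cent_A_of`: the Sylow
subgroup of `C(a)` and its normaliser, for `a ∈ A \ Z`.
-/

set_option autoImplicit false

namespace Cfsg.Agent.L34Syl83

open Cfsg

attribute [local instance] AEightThreeGen62.fact2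

section General

variable {G : Type*} [Group G]

theorem mem_of_coprime_pow {C : Subgroup G} {n : G} {i j : ℕ} (h : i.Coprime j) (hi : n ^ i ∈ C)
    (hj : n ^ j ∈ C) : n ∈ C := by
  have e : (i : ℤ) * Nat.gcdA i j + (j : ℤ) * Nat.gcdB i j = 1 := by
    rw [← Nat.gcd_eq_gcd_ab, h.gcd_eq_one]; norm_num
  have h1 : (n ^ i) ^ Nat.gcdA i j * (n ^ j) ^ Nat.gcdB i j = n := by
    rw [← zpow_natCast, ← zpow_mul, ← zpow_natCast n j, ← zpow_mul, ← zpow_add, e, zpow_one]
  exact h1 ▸ mul_mem (zpow_mem hi _) (zpow_mem hj _)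

variable [Finite G]

/-- The product formula. -/
theorem card_mul_inter {X Y H : Subgroup G} (hX : X ≤ H) (hY : Y ≤ H)
    (h : ∀ g ∈ H, ∃ x ∈ X, x⁻¹ * g ∈ Y) :
    Nat.card H * Nat.card (X ⊓ Y : Subgroup G) = Nat.card X * Nat.card Y := by
  choose s hs hs' using h
  rw [← Nat.card_prod, ← Nat.card_prod]
  refine Nat.card_congr
    { toFun := fun p => (⟨s p.1 p.1.2 * p.2, mul_mem (hs _ _) p.2.2.1⟩,
        ⟨(p.2 : G)⁻¹ * ((s p.1 p.1.2)⁻¹ * p.1), mul_mem (inv_mem p.2.2.2) (hs' _ _)⟩)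
      invFun := fun q => (⟨(q.1 : G) * q.2, mul_mem (hX q.1.2) (hY q.2.2)⟩,
        ⟨(s _ (mul_mem (hX q.1.2) (hY q.2.2)))⁻¹ * q.1, Subgroup.mem_inf.2
          ⟨X.mul_mem (X.inv_mem (hs _ _)) q.1.2, by
            have := Y.mul_mem (hs' _ (mul_mem (hX q.1.2) (hY q.2.2))) (Y.inv_mem q.2.2)
            simpa [mul_assoc] using this⟩⟩)
      left_inv := ?_
      right_inv := ?_ }
  · rintro ⟨⟨g, hg⟩, ⟨k, hk⟩⟩
    have e : s g hg * k * (k⁻¹ * ((s g hg)⁻¹ * g)) = g := by group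
    refine Prod.ext (Subtype.ext e) (Subtype.ext ?_)
    simp only [e]
    group
  · rintro ⟨⟨x, hx⟩, ⟨y, hy⟩⟩
    refine Prod.ext (Subtype.ext ?_) (Subtype.ext ?_) <;> simp only <;> group

/-- A `2`-element normalising a Sylow `2`-subgroup lies in it. -/
theorem mem_of_normalizer (P : Sylow 2 G) {x : G}
    (hx : x ∈ Subgroup.normalizer ((P : Subgroup G) : Set G))
    (h2 : IsPGroup 2 (Subgroup.zpowers x)) : x ∈ (P : Subgroup G) := by
  have := P.3 (h2.to_sup_of_normal_right' P.2 (Subgroup.zpowers_le.2 hx)) le_sup_right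
  exact this ▸ Subgroup.mem_sup_left (Subgroup.mem_zpowers x)

/-- An element lies in a subgroup if its square power and all its `2`-parts do. -/
theorem mem_of_two_parts {C : Subgroup G} {n : G}
    (h : ∀ y ∈ Subgroup.zpowers n, IsPGroup 2 (Subgroup.zpowers y) → y ∈ C) {k : ℕ}
    (h2 : n ^ 2 ^ k ∈ C) : n ∈ C := by
  obtain ⟨r, m, hm, hord⟩ := Nat.exists_eq_two_pow_mul_odd (orderOf_pos n).ne'
  have hp : IsPGroup 2 (Subgroup.zpowers (n ^ m)) := by
    refine IsPGroup.of_card (n := r) ?_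
    rw [Nat.card_zpowers, orderOf_pow_of_dvd hm.pos.ne' (hord ▸ dvd_mul_left _ _), hord,
      Nat.mul_div_cancel _ hm.pos]
  exact mem_of_coprime_pow (Nat.Coprime.pow_left k hm.coprime_two_left) h2
    (h _ (Subgroup.npow_mem_zpowers n m) hp)

/-- A solvable normal subgroup of odd index forces solvability. -/
theorem solvable_of_odd_index {M : Subgroup G} [M.Normal] (hM : Group.IsSolvable ↥M)
    (ho : Odd M.index) : Group.IsSolvable G := by
  haveI := hM
  haveI : Group.IsSolvable (G ⧸ M) := S0205.result (by rwa [← Subgroup.index_eq_card])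
  exact solvable_of_ker_le_range M.subtype (QuotientGroup.mk' M) (by simp)

/-- The normaliser of a Sylow `2`-subgroup is solvable. -/
theorem solvable_normalizer_sylow (P : Sylow 2 G) :
    Group.IsSolvable ↥(Subgroup.normalizer ((P : Subgroup G) : Set G)) := by
  refine solvable_of_odd_index
    (M := (P : Subgroup G).subgroupOf (Subgroup.normalizer ((P : Subgroup G) : Set G))) ?_ ?_
  · haveI := (P.2.comap_subtype (K := Subgroup.normalizer ((P : Subgroup G) : Set G))).isNilpotent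
    exact inferInstanceAs (Group.IsSolvable
      ((P : Subgroup G).comap (Subgroup.normalizer ((P : Subgroup G) : Set G)).subtype))
  · rw [← Nat.not_even_iff_odd, even_iff_two_dvd]
    exact fun h => P.not_dvd_index (h.trans (Subgroup.relIndex_dvd_index_of_le Subgroup.le_normalizer))

/-- A subgroup of maximal order among the `2`-subgroups of `H` containing it is a Sylow subgroup. -/
theorem exists_sylow_eq {H Q : Subgroup G} (hQH : Q ≤ H) (hQ : IsPGroup 2 Q)
    (hmax : ∀ T : Subgroup G, T ≤ H → IsPGroup 2 T → Q ≤ T → Nat.card T ≤ Nat.card Q) :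
    ∃ P : Sylow 2 H, (P : Subgroup H) = Q.subgroupOf H := by
  obtain ⟨T, hT⟩ := (hQ.comap_of_injective H.subtype Subtype.val_injective).exists_le_sylow
  refine ⟨T, (Subgroup.eq_of_le_of_card_ge (show Q.subgroupOf H ≤ T from hT) ?_).symm⟩
  have h1 := hmax ((T : Subgroup H).map H.subtype) (Subgroup.map_subtype_le _) (T.2.map _)
    fun q hq => ⟨⟨q, hQH hq⟩, hT (show (⟨q, hQH hq⟩ : H) ∈ Q.comap H.subtype from hq), rfl⟩
  rw [Subgroup.card_map_of_injective Subtype.val_injective] at h1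
  rwa [Nat.card_congr (Subgroup.subgroupOfEquivOfLe hQH).toEquiv]

/-- Burnside, for a subgroup `H` with Sylow subgroup `Q`. -/
theorem solvable_of_burnside_le {H Q : Subgroup G} (hQH : Q ≤ H) {P : Sylow 2 H}
    (hP : (P : Subgroup H) = Q.subgroupOf H)
    (hc : ∀ n ∈ H, n ∈ Subgroup.normalizer (Q : Set G) → ∀ y ∈ Q, n * y = y * n) :
    Group.IsSolvable ↥H := by
  refine AEightThreeGen62.solvable_of_burnside P fun n hn => ?_
  rw [Subgroup.mem_centralizer_iff]
  intro y hy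
  rw [hP] at hn hy
  refine Subtype.ext (hc n n.2 (mem_normalizer_of_forall fun x hx => ?_) y hy).symm
  exact conj_mem_of_normalizer (X := Q.subgroupOf H) hn (x := ⟨x, hQH hx⟩) hx

end General

variable {G : Type*} [Group G] [Finite G] {S : Sylow 2 G} {F : Type*} [Field F] [Fintype F]

namespace Chart

variable (h : Chart F (S : Subgroup G))
include h

theorem fixZ_swap_swap (hA : h.FixZ ⊤) : h.swap.swap.FixZ ⊤ := by
  intro g hg hgA z hz
  rw [swap_A, swap_B] at hgA
  rw [swap_Z, swap_Z] at hz ⊢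
  exact hA g hg hgA z hz

theorem Z_sq {z : G} (hz : z ∈ h.Z) : z * z = 1 := h.A_sq (h.Z_le_A hz)

theorem isPGroup_Z : IsPGroup 2 h.Z := h.isPGroup_A.to_le h.Z_le_A

theorem exists_other (z : G) : ∃ w ∈ h.Z, w ≠ 1 ∧ w ≠ z := by
  by_contra hcon
  push Not at hcon
  haveI := Fintype.ofFinite h.Z
  classical
  have hsub : (Finset.univ.image (Subtype.val : h.Z → G)) ⊆ {1, z} := by
    intro x hx
    obtain ⟨⟨w, hw⟩, -, rfl⟩ := Finset.mem_image.1 hx
    by_cases h1 : w = 1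
    · simp [h1]
    · simp [hcon w hw h1]
  have := Finset.card_le_card hsub
  rw [Finset.card_image_of_injective _ Subtype.val_injective, Finset.card_univ,
    ← Nat.card_eq_fintype_card, h.card_Z] at this
  have h2 : ({1, z} : Finset G).card ≤ 2 := Finset.card_le_two
  omega

theorem Z_cases {z w x : G} (hz : z ∈ h.Z) (hw : w ∈ h.Z) (hx : x ∈ h.Z) (hz1 : z ≠ 1)
    (hw1 : w ≠ 1) (hne : z ≠ w) : x = 1 ∨ x = z ∨ x = w ∨ x = z * w := by
  obtain ⟨p, rfl⟩ := h.mem_Z.1 hz
  obtain ⟨q, rfl⟩ := h.mem_Z.1 hw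
  obtain ⟨r, rfl⟩ := h.mem_Z.1 hx
  rw [Ne, h.eq_one_iff] at hz1 hw1
  rcases h.four (p := p) (q := q) (by simpa using hz1) (by simpa using hw1)
      (fun e => hne (by rw [e])) r with rfl | rfl | rfl | rfl
  · exact Or.inl h.one
  · simp
  · simp
  · refine Or.inr (Or.inr (Or.inr ?_))
    rw [h.mul]; simp

omit [Finite G] in
theorem mem_cZ_iff {n : G} :
    n ∈ Subgroup.centralizer (h.Z : Set G) ↔ ∀ w ∈ h.Z, w * n = n * w :=
  Subgroup.mem_centralizer_iff

theorem S_le_cZ : (S : Subgroup G) ≤ Subgroup.centralizer (h.Z : Set G) := fun _ hs =>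
  h.mem_cZ_iff.2 fun _ hw => h.Z_comm hw hs

omit [Finite G] in
theorem cZ_le {z : G} (hz : z ∈ h.Z) :
    Subgroup.centralizer (h.Z : Set G) ≤ Subgroup.centralizer ({z} : Set G) := fun _ hn =>
  Subgroup.mem_centralizer_singleton_iff.2 (h.mem_cZ_iff.1 hn z hz).symm

theorem S_le_cent {z : G} (hz : z ∈ h.Z) :
    (S : Subgroup G) ≤ Subgroup.centralizer ({z} : Set G) :=
  h.S_le_cZ.trans (h.cZ_le hz)

theorem mem_cZ_of_two {n z w : G} (hz : z ∈ h.Z) (hw : w ∈ h.Z) (hz1 : z ≠ 1) (hw1 : w ≠ 1)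
    (hne : z ≠ w) (hnz : z * n = n * z) (hnw : w * n = n * w) :
    n ∈ Subgroup.centralizer (h.Z : Set G) := by
  refine h.mem_cZ_iff.2 fun x hx => ?_
  rcases h.Z_cases hz hw hx hz1 hw1 hne with rfl | rfl | rfl | rfl
  · simp
  · exact hnz
  · exact hnw
  · exact ((show Commute z n from hnz).mul_left hnw).eq

theorem orderOf_of_mem {x : G} (hx : x * x = 1) (h1 : x ≠ 1) : orderOf x = 2 :=
  AEightThreeGen62.orderOf_two (by rw [pow_two]; exact hx) h1

theorem hclA {R : Subgroup G} (hR : IsPGroup 2 R) (hAR : h.A ≤ R) (hB : h.swap.FixZ ⊤) {a g : G}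
    (ha : a ∈ h.A) (hg : g * a * g⁻¹ ∈ R) : g * a * g⁻¹ ∈ h.A := by
  obtain ⟨k, -, hk⟩ := conj_into S (H := ⊤) le_top le_top hR
  have hkA := h.conj_A_mem_normalizer fun x hx => hk x (hAR hx)
  have h1 : k * g * a * (k * g)⁻¹ ∈ h.A :=
    h.closed_A le_top hB ha (Subgroup.mem_top _) (by simpa [mul_assoc] using hk _ hg)
  have h2 := conj'_mem_of_normalizer hkA h1
  simpa [mul_assoc] using h2

variable (hA : h.FixZ ⊤) (hB : h.swap.FixZ ⊤)
include hA

theorem nA_le_nZ : Subgroup.normalizer (h.A : Set G) ≤ Subgroup.normalizer (h.Z : Set G) :=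
  fun g hg => mem_normalizer_of_forall fun z hz => hA g (Subgroup.mem_top g) hg z hz

theorem two_elem_cZ {n : G} (hn : n ∈ Subgroup.normalizer (h.A : Set G))
    (h2 : IsPGroup 2 (Subgroup.zpowers n)) : n ∈ Subgroup.centralizer (h.Z : Set G) := by
  obtain ⟨k, hk, hkS⟩ := conj_into S (H := Subgroup.normalizer (h.A : Set G)) h.S_le_normalizer_A
    (Subgroup.zpowers_le.2 hn) h2
  refine h.mem_cZ_iff.2 fun w hw => ?_
  have h1 := h.Z_comm (hA k (Subgroup.mem_top k) hk w hw) (hkS n (Subgroup.mem_zpowers n))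
  have e : k * (w * n) * k⁻¹ = k * (n * w) * k⁻¹ := by simpa [mul_assoc] using h1
  exact mul_left_cancel (mul_right_cancel e)

/-- An element of `N(A)` fixing an involution of `Z` centralises `Z`. -/
theorem cent_Z_of_fix {n z : G} (hn : n ∈ Subgroup.normalizer (h.A : Set G)) (hz : z ∈ h.Z)
    (hz1 : z ≠ 1) (hnz : z * n = n * z) : n ∈ Subgroup.centralizer (h.Z : Set G) := by
  refine mem_of_two_parts (k := 1) (fun y hy h2 => h.two_elem_cZ hA
    ((Subgroup.zpowers_le.2 hn) hy) h2) ?_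
  obtain ⟨w, hw, hw1, hwz⟩ := h.exists_other z
  have hz' : n * z * n⁻¹ = z := by rw [← hnz, mul_inv_cancel_right]
  have hsq : (n * n) * w * (n * n)⁻¹ = w := by
    rw [show (n * n) * w * (n * n)⁻¹ = n * (n * w * n⁻¹) * n⁻¹ by group]
    rcases h.Z_cases hz hw (hA n (Subgroup.mem_top n) hn w hw) hz1 hw1 hwz.symm with e | e | e | e
    · exact absurd (conj_eq_one_iff.1 e) hw1
    · exact absurd (mul_left_cancel (mul_right_cancel (e.trans hz'.symm))) hwz
    · rw [e, e]
    · rw [e, ← conj_mul, hz', e, ← mul_assoc, h.Z_sq hz, one_mul]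
  refine h.mem_cZ_of_two hz hw hz1 hw1 hwz.symm ?_ ?_
  · exact ((show Commute z n from hnz).pow_right _).eq
  · rw [pow_one, pow_two, eq_comm, ← mul_inv_eq_iff_eq_mul]
    exact hsq

include hB

/-- Inside `C(z)` an element of `Z` has no other conjugate in `S`. -/
theorem fix_in_cent {z z' g : G} (hz : z ∈ h.Z) (hz1 : z ≠ 1) (hz' : z' ∈ h.Z)
    (hg : g ∈ Subgroup.centralizer ({z} : Set G)) (hgS : g * z' * g⁻¹ ∈ (S : Subgroup G)) :
    g * z' * g⁻¹ = z' := by
  have h1 := h.closed_Z le_top hA hB hz' (Subgroup.mem_top g) hgS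
  obtain ⟨n, hn, hnA, e⟩ := h.fusion_A (h.S_le_cent hz) (h.Z_le_A hz') hg (h.Z_le_A h1)
  have hn' := h.cent_Z_of_fix hA hnA hz hz1 (Subgroup.mem_centralizer_singleton_iff.1 hn).symm
  rw [← e, ← h.mem_cZ_iff.1 hn' z' hz', mul_inv_cancel_right]

theorem isolated {z z' : G} (hz : z ∈ h.Z) (hz1 : z ≠ 1) (hz' : z' ∈ h.Z) (hz'1 : z' ≠ 1) :
    IsIsolatedInvolution
      (⟨z', h.S_le_cent hz (h.Z_le hz')⟩ : Subgroup.centralizer ({z} : Set G)) := by
  refine ⟨by rw [← Subgroup.orderOf_coe]; exact h.orderOf_of_mem (h.Z_sq hz') hz'1,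
    fun g hg => Subtype.ext ?_⟩
  have hcomm : Commute z' ((g : G) * z' * (g : G)⁻¹) := congrArg Subtype.val hg.eq
  set t := (g : G) * z' * (g : G)⁻¹ with ht
  have ht2 : t * t = 1 := by rw [ht, conj_mul, h.Z_sq hz']; simp
  have htC : t ∈ Subgroup.centralizer ({z} : Set G) := by
    rw [ht]; exact mul_mem (mul_mem g.2 (h.S_le_cent hz (h.Z_le hz'))) (inv_mem g.2)
  have hQ : IsPGroup 2 (Subgroup.zpowers z' ⊔ Subgroup.zpowers t : Subgroup G) := by
    refine (isPGroup_zpowers_of_sq (h.Z_sq hz')).to_sup_of_normal_right'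
      (isPGroup_zpowers_of_sq ht2) (Subgroup.zpowers_le.2 (mem_normalizer_of_forall ?_))
    rintro _ ⟨i, rfl⟩
    show z' * t ^ i * z'⁻¹ ∈ _
    rw [(hcomm.zpow_right i).eq, mul_inv_cancel_right]
    exact zpow_mem (Subgroup.mem_zpowers t) i
  obtain ⟨k, hk, hkS⟩ := conj_into S (h.S_le_cent hz)
    (sup_le (Subgroup.zpowers_le.2 (h.S_le_cent hz (h.Z_le hz'))) (Subgroup.zpowers_le.2 htC)) hQ
  have e1 := h.fix_in_cent hA hB hz hz1 hz' hk
    (hkS z' (Subgroup.mem_sup_left (Subgroup.mem_zpowers z')))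
  have e2' : k * t * k⁻¹ = k * g * z' * (k * g)⁻¹ := by rw [ht]; group
  have e2 := h.fix_in_cent hA hB hz hz1 hz' (mul_mem hk g.2)
    (e2' ▸ hkS t (Subgroup.mem_sup_right (Subgroup.mem_zpowers t)))
  rw [← e2'] at e2
  exact mul_left_cancel (mul_right_cancel (e2.trans e1.symm))

/-- `C(z) = O(C(z)) C(z')`, with control on the core part. -/
theorem split {z z' g : G} (hz : z ∈ h.Z) (hz1 : z ≠ 1) (hz' : z' ∈ h.Z) (hz'1 : z' ≠ 1)
    (hg : g ∈ Subgroup.centralizer ({z} : Set G)) :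
    ∃ c ∈ centralizerPPrimeCore 2 z, c ∈ Subgroup.zpowers (z' * (g * z' * g⁻¹)) ∧
      c * z' * c⁻¹ = g * z' * g⁻¹ := by
  have hiso := h.isolated hA hB hz hz1 hz' hz'1
  set u : Subgroup.centralizer ({z} : Set G) := ⟨z', h.S_le_cent hz (h.Z_le hz')⟩ with hu
  set g' : Subgroup.centralizer ({z} : Set G) := ⟨g, hg⟩ with hg'
  obtain ⟨c, hc, hcu⟩ := IsolatedInv.exists_conj hiso g'
  have hmem : u * (g' * u * g'⁻¹) ∈ pPrimeCore 2 (Subgroup.centralizer ({z} : Set G)) := by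
    have h1 := ZStarTheorem.commutator_mem hiso g'
    have he : u * (g' * u * g'⁻¹) = u * g' * u⁻¹ * g'⁻¹ := by
      rw [IsolatedInv.inv_eq_self_of_sq (IsolatedInv.sq_of_orderOf_two hiso.1)]
      group
    rwa [he]
  refine ⟨(c : G), ⟨c, (Subgroup.zpowers_le.2 hmem) hc, rfl⟩, ?_, congrArg Subtype.val hcu⟩
  obtain ⟨i, hi⟩ := hc
  exact ⟨i, congrArg Subtype.val hi⟩

/-- `C(z) = O(C(z)) C(Z)`. -/
theorem split_cZ {z g : G} (hz : z ∈ h.Z) (hz1 : z ≠ 1)
    (hg : g ∈ Subgroup.centralizer ({z} : Set G)) :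
    ∃ c ∈ centralizerPPrimeCore 2 z, c⁻¹ * g ∈ Subgroup.centralizer (h.Z : Set G) := by
  obtain ⟨w, hw, hw1, hwz⟩ := h.exists_other z
  obtain ⟨c, hc, -, e⟩ := h.split hA hB hz hz1 hw hw1 hg
  refine ⟨c, hc, h.mem_cZ_of_two hz hw hz1 hw1 hwz.symm ?_ ?_⟩
  · exact (Subgroup.mem_centralizer_singleton_iff.1
      (mul_mem (inv_mem (SignalizerBasic.centralizerPPrimeCore_le 2 z hc)) hg)).symm
  · rw [eq_comm, ← mul_inv_eq_iff_eq_mul]
    rw [show c⁻¹ * g * w * (c⁻¹ * g)⁻¹ = c⁻¹ * (g * w * g⁻¹) * c by group, ← e]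
    group

omit hB

/-- `A` is a Sylow subgroup of every subgroup of `C(a)` containing it, `a ∈ A \ Z`. -/
theorem sylow_A {a : G} (ha : a ∈ h.A) (haZ : a ∉ h.Z) {H : Subgroup G}
    (hH : H ≤ Subgroup.centralizer ({a} : Set G)) (hAH : h.A ≤ H) :
    ∃ P : Sylow 2 H, (P : Subgroup H) = h.A.subgroupOf H := by
  refine exists_sylow_eq hAH h.isPGroup_A fun T hTH hT hAT => ?_
  obtain ⟨k, -, hk⟩ := conj_into S (H := ⊤) le_top le_top hT
  have hkA := h.conj_A_mem_normalizer fun x hx => hk x (hAT hx)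
  refine Subgroup.card_le_of_le fun t ht => ?_
  have ha' := conj_mem_of_normalizer hkA ha
  have haZ' : k * a * k⁻¹ ∉ h.Z := fun e => haZ (by
    have := conj'_mem_of_normalizer (h.nA_le_nZ hA hkA) e
    simpa [mul_assoc] using this)
  have h1 := h.mem_A_of_comm (hk t ht) ha' haZ' (by
    rw [conj_mul, conj_mul, Subgroup.mem_centralizer_singleton_iff.1 (hH (hTH ht))])
  simpa [mul_assoc] using conj'_mem_of_normalizer hkA h1

theorem A_le_cent {a : G} (ha : a ∈ h.A) : h.A ≤ Subgroup.centralizer ({a} : Set G) := fun _ hx =>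
  Subgroup.mem_centralizer_singleton_iff.2 (h.A_comm hx ha)

/-- A `2`-element of `C(a)` normalising `A` lies in `A`. -/
theorem two_elem_A {a n : G} (ha : a ∈ h.A) (haZ : a ∉ h.Z)
    (hn : n ∈ Subgroup.normalizer (h.A : Set G)) (hna : n * a = a * n)
    (h2 : IsPGroup 2 (Subgroup.zpowers n)) : n ∈ h.A := by
  set H := Subgroup.normalizer (h.A : Set G) ⊓ Subgroup.centralizer ({a} : Set G) with hH
  have hnH : n ∈ H := ⟨hn, Subgroup.mem_centralizer_singleton_iff.2 hna⟩
  obtain ⟨P, hP⟩ := h.sylow_A hA ha haZ (H := H) inf_le_right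
    (le_inf Subgroup.le_normalizer (h.A_le_cent hA ha))
  have h1 := mem_of_normalizer P (x := ⟨n, hnH⟩) (mem_normalizer_of_forall fun x hx => by
      rw [hP] at hx ⊢
      exact Subgroup.mem_subgroupOf.2 (conj_mem_of_normalizer hn (Subgroup.mem_subgroupOf.1 hx) : _)) (by
      refine h2.of_injective ((H.subtype.comp (Subgroup.zpowers (⟨n, hnH⟩ : H)).subtype).codRestrict
        _ ?_) ?_
      · rintro ⟨_, i, rfl⟩; exact ⟨i, rfl⟩
      · intro x y e; exact Subtype.ext (Subtype.ext (congrArg Subtype.val e :)))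
  rw [hP] at h1
  exact h1

/-- An element of `N(A) ∩ C(a)` acts trivially on `A/Z`. -/
theorem mod_Z {a n : G} (ha : a ∈ h.A) (haZ : a ∉ h.Z)
    (hn : n ∈ Subgroup.normalizer (h.A : Set G)) (hna : n * a = a * n) {y : G} (hy : y ∈ h.A) :
    y⁻¹ * (n * y * n⁻¹) ∈ h.Z := by
  let St : Subgroup G :=
    { carrier := {g | g ∈ Subgroup.normalizer (h.A : Set G) ∧ ∀ y ∈ h.A, y⁻¹ * (g * y * g⁻¹) ∈ h.Z}
      one_mem' := ⟨one_mem _, fun y _ => by simp⟩
      mul_mem' := fun {p q} hp hq => ⟨mul_mem hp.1 hq.1, fun y hy => by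
        have h1 := hp.2 _ (conj_mem_of_normalizer hq.1 hy)
        have := mul_mem (hq.2 y hy) h1
        convert this using 1
        group⟩
      inv_mem' := fun {p} hp => ⟨inv_mem hp.1, fun y hy => by
        have hpy := conj'_mem_of_normalizer hp.1 hy
        have := inv_mem (hp.2 _ hpy)
        convert this using 1
        group⟩ }
  suffices n ∈ St from this.2 y hy
  refine mem_of_two_parts (k := 1) (fun x hx h2 => ?_) ?_
  · have hxA : x ∈ h.A := by
      refine h.two_elem_A hA ha haZ ((Subgroup.zpowers_le.2 hn) hx) ?_ h2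
      obtain ⟨i, rfl⟩ := hx
      exact ((show Commute n a from hna).zpow_left i).eq
    exact ⟨Subgroup.le_normalizer hxA, fun y hy => by
      rw [h.A_comm hxA hy, mul_inv_cancel_right, inv_mul_cancel]; exact one_mem _⟩
  · have hna' : n * a * n⁻¹ = a := by rw [hna, mul_inv_cancel_right]
    have hnZ := h.nA_le_nZ hA hn
    -- every element is fixed modulo `Z` or translated by `a`
    have key : ∀ y ∈ h.A, y⁻¹ * (n * y * n⁻¹) ∈ h.Z ∨ y⁻¹ * (n * y * n⁻¹) * a ∈ h.Z := by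
      intro y hy
      obtain ⟨b, c, rfl⟩ := hy
      obtain ⟨β, γ, rfl⟩ := ha
      have hβ : β ≠ 0 := by rintro rfl; exact haZ (h.mem_Z.2 ⟨γ, rfl⟩)
      obtain ⟨b', c', e⟩ := conj_mem_of_normalizer hn (show h.μ 0 b c ∈ h.A from ⟨b, c, rfl⟩)
      rw [← e, h.inv, h.mul, h.mul]
      have hfix : ∀ b c b' c', h.μ 0 b' c' = n * h.μ 0 b c * n⁻¹ → (b = 0 → b' = 0) ∧
          (b = β → b' = β) := by
        intro b c b' c' e
        constructor
        · rintro rfl
          obtain ⟨d, hd⟩ := h.mem_Z.1 (e ▸ conj_mem_of_normalizer hnZ (h.mem_Z.2 ⟨c, rfl⟩))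
          exact ((h.inj _ _ _ _ _ _ hd).2.1).symm
        · rintro rfl
          obtain ⟨d, hd⟩ := h.mem_Z.1 (conj_mem_of_normalizer hnZ (h.mem_Z.2 ⟨c + γ, rfl⟩))
          have e' : h.μ 0 b c = h.μ 0 b γ * h.μ 0 0 (c + γ) := by
            rw [h.mul, show γ + (c + γ) = c + (γ + γ) by ring]; simp [h.two]
          rw [e', ← conj_mul, hna', ← hd, h.mul] at e
          simpa using (h.inj _ _ _ _ _ _ e).2.1
      have hfix' : ∀ b c b' c', h.μ 0 b' c' = n * h.μ 0 b c * n⁻¹ → (b' = 0 → b = 0) ∧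
          (b' = β → b = β) := by
        intro b c b' c' e
        constructor
        · rintro rfl
          obtain ⟨d, hd⟩ := h.mem_Z.1 (conj'_mem_of_normalizer hnZ (h.mem_Z.2 ⟨c', rfl⟩))
          have e' : h.μ 0 b c = n⁻¹ * h.μ 0 0 c' * n := by rw [e]; group
          exact (h.inj _ _ _ _ _ _ (e'.trans hd.symm)).2.1
        · rintro rfl
          obtain ⟨d, hd⟩ := h.mem_Z.1 (conj'_mem_of_normalizer hnZ (h.mem_Z.2 ⟨c' + γ, rfl⟩))
          have e1 : n⁻¹ * h.μ 0 b' γ * n = h.μ 0 b' γ := by rw [mul_assoc, ← hna, inv_mul_cancel_left]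
          have e' : h.μ 0 b c = h.μ 0 b' γ * h.μ 0 0 d := by
            rw [hd, ← e1]
            calc h.μ 0 b c = n⁻¹ * h.μ 0 b' c' * n := by rw [e]; group
              _ = n⁻¹ * (h.μ 0 b' γ * h.μ 0 0 (c' + γ)) * n := by
                rw [h.mul, show γ + (c' + γ) + 0 * 0 = c' + (γ + γ) by ring]; simp [h.two]
              _ = _ := by rw [← e1]; group
          rw [h.mul] at e'
          simpa using (h.inj _ _ _ _ _ _ e').2.1
      by_cases hb : b = 0 ∨ b = β
      · left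
        rcases hb with hb | hb
        · exact h.mem_Z.2 ⟨_, by rw [hb, (hfix _ _ _ _ e).1 hb]; simp [h.two]; rfl⟩
        · exact h.mem_Z.2 ⟨_, by rw [hb, (hfix _ _ _ _ e).2 hb]; simp [h.two]; rfl⟩
      push Not at hb
      rcases h.four hβ hb.1 (Ne.symm hb.2) b' with h0 | h0 | h0 | h0
      · exact absurd ((hfix' _ _ _ _ e).1 h0) hb.1
      · exact absurd ((hfix' _ _ _ _ e).2 h0) hb.2
      · left
        exact h.mem_Z.2 ⟨_, by rw [h0]; simp [h.two]; rfl⟩
      · right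
        refine h.mem_Z.2 ?_
        rw [h0, show b + (β + b) + β = (b + b) + (β + β) by ring]
        simp only [h.two, add_zero]
        exact ⟨_, rfl⟩
    refine ⟨pow_mem hn _, fun y hy => ?_⟩
    have hy' := conj_mem_of_normalizer hn hy
    have e : y⁻¹ * (n ^ 2 ^ 1 * y * (n ^ 2 ^ 1)⁻¹) =
        y⁻¹ * (n * y * n⁻¹) * ((n * y * n⁻¹)⁻¹ * (n * (n * y * n⁻¹) * n⁻¹)) := by
      rw [pow_one, pow_two]; group
    rw [e]
    rcases key y hy with h1 | h1
    · refine mul_mem h1 ?_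
      have := conj_mem_of_normalizer hnZ h1
      convert this using 1
      group
    · have h2 := conj_mem_of_normalizer hnZ h1
      have e2 : n * (y⁻¹ * (n * y * n⁻¹) * a) * n⁻¹ =
          (n * y * n⁻¹)⁻¹ * (n * (n * y * n⁻¹) * n⁻¹) * a := by
        calc _ = (n * y * n⁻¹)⁻¹ * (n * (n * y * n⁻¹) * n⁻¹) * (n * a * n⁻¹) := by group
          _ = _ := by rw [hna']
      rw [e2] at h2
      have hc : a * ((n * y * n⁻¹)⁻¹ * (n * (n * y * n⁻¹) * n⁻¹)) =
          (n * y * n⁻¹)⁻¹ * (n * (n * y * n⁻¹) * n⁻¹) * a :=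
        h.A_comm ha (mul_mem (inv_mem hy') (conj_mem_of_normalizer hn hy'))
      have h3 := mul_mem h1 h2
      rw [← hc, mul_assoc (y⁻¹ * (n * y * n⁻¹)) a, ← mul_assoc a a, h.A_sq ha, one_mul] at h3
      exact h3

/-- An element of `N(A) ∩ C(a) ∩ C(Z)` centralises `A`. -/
theorem cent_A_of {a n : G} (ha : a ∈ h.A) (haZ : a ∉ h.Z)
    (hn : n ∈ Subgroup.normalizer (h.A : Set G)) (hna : n * a = a * n)
    (hnZ : n ∈ Subgroup.centralizer (h.Z : Set G)) {y : G} (hy : y ∈ h.A) : n * y = y * n := by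
  suffices n ∈ Subgroup.centralizer (h.A : Set G) from
    (Subgroup.mem_centralizer_iff.1 this y hy).symm
  refine mem_of_two_parts (k := 1) (fun x hx h2 => ?_) ?_
  · have hxA : x ∈ h.A := by
      refine h.two_elem_A hA ha haZ ((Subgroup.zpowers_le.2 hn) hx) ?_ h2
      obtain ⟨i, rfl⟩ := hx
      exact ((show Commute n a from hna).zpow_left i).eq
    exact Subgroup.mem_centralizer_iff.2 fun y hy => h.A_comm hy hxA
  · refine Subgroup.mem_centralizer_iff.2 fun y hy => ?_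
    rw [pow_one, pow_two, eq_comm, ← mul_inv_eq_iff_eq_mul]
    have h1 := h.mod_Z hA ha haZ hn hna hy
    calc n * n * y * (n * n)⁻¹ = n * (y * (y⁻¹ * (n * y * n⁻¹))) * n⁻¹ := by group
      _ = (n * y * n⁻¹) * (y⁻¹ * (n * y * n⁻¹)) := by
        rw [← conj_mul]
        congr 1
        rw [← h.mem_cZ_iff.1 hnZ _ h1, mul_inv_cancel_right]
      _ = y * ((y⁻¹ * (n * y * n⁻¹)) * (y⁻¹ * (n * y * n⁻¹))) := by group
      _ = y := by rw [h.Z_sq h1, mul_one]

theorem solvable_cent_inter_A {a : G} (ha : a ∈ h.A) (haZ : a ∉ h.Z) :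
    Group.IsSolvable
      ↥(Subgroup.centralizer (h.Z : Set G) ⊓ Subgroup.centralizer ({a} : Set G) : Subgroup G) := by
  have hAH : h.A ≤ Subgroup.centralizer (h.Z : Set G) ⊓ Subgroup.centralizer ({a} : Set G) :=
    le_inf (h.A_le.trans h.S_le_cZ) (h.A_le_cent hA ha)
  obtain ⟨P, hP⟩ := h.sylow_A hA ha haZ inf_le_right hAH
  exact solvable_of_burnside_le hAH hP fun n hn hnA y hy =>
    h.cent_A_of hA ha haZ hnA (Subgroup.mem_centralizer_singleton_iff.1 hn.2) hn.1 hy

omit hA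

theorem card_cent_four {p q : F} (hp : p ≠ 0) (hq : q ≠ 0) (r : F) :
    Nat.card ((S : Subgroup G) ⊓ Subgroup.centralizer ({h.μ p q r} : Set G) : Subgroup G) = 16 := by
  have hmem : ∀ t c : F, h.μ (p * t) (q * t) c ∈
      ((S : Subgroup G) ⊓ Subgroup.centralizer ({h.μ p q r} : Set G) : Subgroup G) := fun t c =>
    ⟨h.mem' _ _ _, Subgroup.mem_centralizer_singleton_iff.2
      ((h.commute_iff _ _ _ _ _ _).2 (by ring)).eq⟩
  rw [← Nat.card_congr (Equiv.ofBijective (fun x : F × F => (⟨_, hmem x.1 x.2⟩ :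
    ((S : Subgroup G) ⊓ Subgroup.centralizer ({h.μ p q r} : Set G) : Subgroup G))) ⟨?_, ?_⟩)]
  · simp [Nat.card_eq_fintype_card, h.card_F]
  · intro x y e
    obtain ⟨e1, -, e3⟩ := h.inj _ _ _ _ _ _ (congrArg Subtype.val e)
    exact Prod.ext (mul_left_cancel₀ hp e1) e3
  · rintro ⟨x, hx, hc⟩
    obtain ⟨a, b, c, rfl⟩ := (h.mem x).1 hx
    have e := (h.commute_iff _ _ _ _ _ _).1 (Subgroup.mem_centralizer_singleton_iff.1 hc)
    refine ⟨(a / p, c), Subtype.ext ?_⟩
    show h.μ (p * (a / p)) (q * (a / p)) c = h.μ a b c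
    rw [mul_div_cancel₀ _ hp, show q * (a / p) = b by field_simp; linear_combination e]

theorem solvable_cent_inter_four {p q : F} (hp : p ≠ 0) (hq : q ≠ 0) (r : F) :
    Group.IsSolvable ↥(Subgroup.centralizer (h.Z : Set G) ⊓
      Subgroup.centralizer ({h.μ p q r} : Set G) : Subgroup G) := by
  set x := h.μ p q r with hx
  set L := Subgroup.centralizer (h.Z : Set G)
  set Q := (S : Subgroup G) ⊓ Subgroup.centralizer ({x} : Set G) with hQ
  have hQH : Q ≤ L ⊓ Subgroup.centralizer ({x} : Set G) := inf_le_inf_right _ h.S_le_cZ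
  have hxQ : x ∈ Q := ⟨h.mem' _ _ _, Subgroup.mem_centralizer_singleton_iff.2 rfl⟩
  have hQ2 : IsPGroup 2 Q := S.2.to_le inf_le_left
  obtain ⟨P, hP⟩ : ∃ P : Sylow 2 ↥(L ⊓ Subgroup.centralizer ({x} : Set G) : Subgroup G),
      (P : Subgroup ↥(L ⊓ Subgroup.centralizer ({x} : Set G) : Subgroup G)) =
        Q.subgroupOf (L ⊓ Subgroup.centralizer ({x} : Set G)) := by
    refine exists_sylow_eq hQH hQ2 fun T hTH hT hQT => ?_
    obtain ⟨k, -, hk⟩ := conj_into S (H := ⊤) le_top le_top hT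
    obtain ⟨p', q', r', e⟩ := (h.mem _).1 (hk x (hQT hxQ))
    have hne : h.μ p' q' r' * h.μ p' q' r' ≠ 1 := by
      rw [e, conj_mul, Ne, conj_eq_one_iff, hx, h.sq_eq_one_iff]
      simp [hp, hq]
    rw [Ne, h.sq_eq_one_iff] at hne
    push Not at hne
    calc Nat.card T = Nat.card (T.map (MulAut.conj k).toMonoidHom) :=
          (Subgroup.card_map_of_injective (MulAut.conj k).injective).symm
      _ ≤ Nat.card ((S : Subgroup G) ⊓ Subgroup.centralizer ({h.μ p' q' r'} : Set G) :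
          Subgroup G) := by
        refine Subgroup.card_le_of_le ?_
        rintro _ ⟨t, ht, rfl⟩
        refine ⟨hk t ht, Subgroup.mem_centralizer_singleton_iff.2 ?_⟩
        simp only [MulEquiv.coe_toMonoidHom, MulAut.conj_apply]
        rw [e, conj_mul, conj_mul, Subgroup.mem_centralizer_singleton_iff.1 (hTH ht).2]
      _ = 16 := h.card_cent_four hne.1 hne.2 r'
      _ = Nat.card Q := (h.card_cent_four hp hq r).symm
  have hQc : ∀ u ∈ Q, ∀ v ∈ Q, u * v = v * u := by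
    intro u hu v hv
    obtain ⟨a, b, c, rfl⟩ := (h.mem u).1 hu.1
    obtain ⟨a', b', c', rfl⟩ := (h.mem v).1 hv.1
    have e := (h.commute_iff _ _ _ _ _ _).1 (Subgroup.mem_centralizer_singleton_iff.1 hu.2)
    have e' := (h.commute_iff _ _ _ _ _ _).1 (Subgroup.mem_centralizer_singleton_iff.1 hv.2)
    refine ((h.commute_iff _ _ _ _ _ _).2 ?_).eq
    refine mul_left_cancel₀ hp ?_
    calc p * (a * b') = a * (p * b') := by ring
      _ = a * (a' * q) := by rw [← e']
      _ = a' * (a * q) := by ring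
      _ = a' * (p * b) := by rw [e]
      _ = _ := by ring
  refine solvable_of_burnside_le hQH hP fun n hn hnQ y hy => ?_
  suffices n ∈ Subgroup.centralizer (Q : Set G) from
    (Subgroup.mem_centralizer_iff.1 this y hy).symm
  refine mem_of_two_parts (k := 1) (fun u hu h2 => ?_) ?_
  · refine Subgroup.mem_centralizer_iff.2 fun v hv => hQc v hv u ?_
    have huH : u ∈ L ⊓ Subgroup.centralizer ({x} : Set G) := (Subgroup.zpowers_le.2 hn) hu
    have h1 := mem_of_normalizer P (x := ⟨u, huH⟩) (mem_normalizer_of_forall fun w hw => by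
        rw [hP] at hw ⊢
        exact Subgroup.mem_subgroupOf.2 (conj_mem_of_normalizer ((Subgroup.zpowers_le.2 hnQ) hu)
          (Subgroup.mem_subgroupOf.1 hw) : _)) (by
        refine h2.of_injective (((L ⊓ Subgroup.centralizer ({x} : Set G)).subtype.comp
          (Subgroup.zpowers (⟨u, huH⟩ :
            (L ⊓ Subgroup.centralizer ({x} : Set G) : Subgroup G))).subtype).codRestrict _ ?_) ?_
        · rintro ⟨_, i, rfl⟩; exact ⟨i, rfl⟩
        · intro a b e; exact Subtype.ext (Subtype.ext (congrArg Subtype.val e :)))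
    rw [hP] at h1
    exact h1
  · refine Subgroup.mem_centralizer_iff.2 fun v hv => ?_
    rw [pow_one, pow_two, eq_comm, ← mul_inv_eq_iff_eq_mul]
    -- `n` fixes `Q/Z` pointwise, since it fixes the squares
    have hmod : ∀ v ∈ Q, v⁻¹ * (n * v * n⁻¹) ∈ h.Z := by
      intro v hv
      have hv' := conj_mem_of_normalizer hnQ hv
      obtain ⟨a, b, c, rfl⟩ := (h.mem v).1 hv.1
      obtain ⟨a', b', c', e⟩ := (h.mem _).1 hv'.1
      have ec := (h.commute_iff _ _ _ _ _ _).1 (Subgroup.mem_centralizer_singleton_iff.1 hv.2)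
      have hc' := hv'.2
      rw [← e] at hc'
      have ec' := (h.commute_iff _ _ _ _ _ _).1 (Subgroup.mem_centralizer_singleton_iff.1 hc')
      have es : h.μ a' b' c' * h.μ a' b' c' = h.μ a b c * h.μ a b c := by
        rw [e, conj_mul, h.sq, ← h.mem_cZ_iff.1 hn.1 _ (h.mem_Z.2 ⟨_, rfl⟩), mul_inv_cancel_right]
      rw [h.sq, h.sq] at es
      have e3 := (h.inj _ _ _ _ _ _ es).2.2
      have e5 : (a' - a) * (a' - a) = 0 := by
        have h4 : (a' * a') * q = (a * a) * q := by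
          linear_combination a' * ec' - a * ec + p * e3
        have h5 : a' * a' = a * a := mul_right_cancel₀ hq h4
        have h6 : (a' - a) * (a' - a) = (a' * a' - a * a) - (a * (a' - a) + a * (a' - a)) := by
          ring
        rw [h6, h5, sub_self, h.two, sub_zero]
      obtain rfl : a' = a := sub_eq_zero.1 (mul_self_eq_zero.1 e5)
      obtain rfl : b' = b := mul_left_cancel₀ hp (ec'.symm.trans ec)
      rw [← e, h.inv, h.mul]
      exact h.mem_Z.2 ⟨c + a' * b' + c' + a' * b', by rw [h.two, h.two]⟩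
    have h1 := hmod v hv
    calc n * n * v * (n * n)⁻¹ = n * (v * (v⁻¹ * (n * v * n⁻¹))) * n⁻¹ := by group
      _ = (n * v * n⁻¹) * (v⁻¹ * (n * v * n⁻¹)) := by
        rw [← conj_mul]
        congr 1
        rw [← h.mem_cZ_iff.1 hn.1 _ h1, mul_inv_cancel_right]
      _ = v * ((v⁻¹ * (n * v * n⁻¹)) * (v⁻¹ * (n * v * n⁻¹))) := by group
      _ = v := by rw [h.Z_sq h1, mul_one]

include hA hB

theorem solvable_cent_inter {x : G} (hx : x ∈ (S : Subgroup G)) (hxZ : x ∉ h.Z) :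
    Group.IsSolvable
      ↥(Subgroup.centralizer (h.Z : Set G) ⊓ Subgroup.centralizer ({x} : Set G) : Subgroup G) := by
  obtain ⟨a, b, c, rfl⟩ := (h.mem x).1 hx
  by_cases ha : a = 0
  · subst ha
    exact h.solvable_cent_inter_A hA ⟨b, c, rfl⟩ hxZ
  by_cases hb : b = 0
  · subst hb
    have h1 : h.μ a 0 c ∈ h.swap.A := by rw [h.swap_A]; exact ⟨a, c, rfl⟩
    have := h.swap.solvable_cent_inter_A hB h1 (by rw [h.swap_Z]; exact hxZ)
    rwa [h.swap_Z] at this
  exact h.solvable_cent_inter_four ha hb c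

end Chart

end Cfsg.Agent.L34Syl83
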