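import Mathlib
import Cfsg.Agent.Lib.L34Syl83Local62

/-!
# Type `L₃(4)` Sylow subgroup, both normalisers fixing `Z`: the centraliser of a central involution

`solvable_cent_Z`: `C(z)` is solvable for `z ∈ Z#`.
-/

set_option autoImplicit false

namespace Cfsg.Agent.L34Syl83

open Cfsg

attribute [local instance] AEightThreeGen62.fact2

variable {G : Type*} [Group G] [Finite G] {S : Sylow 2 G} {F : Type*} [Field F] [Fintype F]

namespace Chart

variable (h : Chart F (S : Subgroup G)) (hA : h.FixZ ⊤) (hB : h.swap.FixZ ⊤)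
include hA hB

/-- `C(Z)` is solvable. -/
theorem solvable_cZ : Group.IsSolvable ↥(Subgroup.centralizer (h.Z : Set G)) := by
  set L := Subgroup.centralizer (h.Z : Set G) with hL
  set Z' := h.Z.subgroupOf L with hZ'
  have hZc : ∀ u ∈ Z', ∀ g : L, u * g = g * u := fun u hu g =>
    Subtype.ext (h.mem_cZ_iff.1 g.2 u hu)
  haveI : Z'.Normal := ⟨fun u hu g => by rw [← hZc u hu g, mul_inv_cancel_right]; exact hu⟩
  set q := QuotientGroup.mk' Z' with hq
  have hqZ : ∀ u : L, q u = 1 ↔ (u : G) ∈ h.Z := fun u => QuotientGroup.eq_one_iff u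
  set P := (S.subtype h.S_le_cZ).mapSurjective (QuotientGroup.mk'_surjective Z') with hPdef
  have hP : ∀ x, x ∈ (P : Subgroup (L ⧸ Z')) ↔ ∃ s : L, (s : G) ∈ (S : Subgroup G) ∧ q s = x := by
    intro x
    rw [hPdef, Sylow.coe_mapSurjective, Subgroup.mem_map]
    exact Iff.rfl
  have hPsq : ∀ x ∈ (P : Subgroup (L ⧸ Z')), x ^ 2 = 1 := by
    intro x hx
    obtain ⟨s, hs, rfl⟩ := (hP x).1 hx
    rw [← map_pow, hqZ, pow_two]
    obtain ⟨a, b, c, e⟩ := (h.mem _).1 hs
    show (s : G) * s ∈ h.Z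
    rw [← e, h.sq]
    exact h.mem_Z.2 ⟨_, rfl⟩
  have hPel : IsElementaryAbelian 2 (P : Subgroup (L ⧸ Z')) := by
    refine ⟨⟨⟨fun u v => Subtype.ext ?_⟩⟩, hPsq⟩
    have hinv : ∀ w ∈ (P : Subgroup (L ⧸ Z')), w⁻¹ = w := fun w hw =>
      inv_eq_of_mul_eq_one_right (by rw [← pow_two]; exact hPsq w hw)
    show (u : L ⧸ Z') * v = v * u
    rw [← hinv _ (mul_mem u.2 v.2), mul_inv_rev, hinv _ u.2, hinv _ v.2]
  have hP8 : 8 ≤ Nat.card (P : Subgroup (L ⧸ Z')) := by
    have hmem : ∀ x : F × F, q ⟨h.μ x.1 x.2 0, h.S_le_cZ (h.mem' _ _ _)⟩ ∈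
        (P : Subgroup (L ⧸ Z')) := fun x => (hP _).2 ⟨_, h.mem' _ _ _, rfl⟩
    refine le_trans ?_ (Nat.card_le_card_of_injective (fun x : F × F => (⟨_, hmem x⟩ : P)) ?_)
    · simp [Nat.card_eq_fintype_card, h.card_F]
    intro x y e
    have e1 := (QuotientGroup.eq.1 (congrArg Subtype.val e :))
    obtain ⟨d, hd⟩ := h.mem_Z.1 (show (h.μ x.1 x.2 0)⁻¹ * h.μ y.1 y.2 0 ∈ h.Z from e1)
    rw [h.inv, h.mul] at hd
    obtain ⟨e2, e3, -⟩ := h.inj _ _ _ _ _ _ hd
    refine Prod.ext ?_ ?_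
    · exact (eq_neg_of_add_eq_zero_left e2.symm).trans (h.neg_eq _)
    · exact (eq_neg_of_add_eq_zero_left e3.symm).trans (h.neg_eq _)
  have hTN : (P : Subgroup (L ⧸ Z')) ≤
      Subgroup.normalizer ((P : Subgroup (L ⧸ Z')) : Set (L ⧸ Z')) := Subgroup.le_normalizer
  obtain ⟨W, hWn, hWodd, hW⟩ : ∃ W : Subgroup (L ⧸ Z'), W.Normal ∧ Odd (Nat.card W) ∧
      ∀ g : L ⧸ Z', ∃ w ∈ W, ∃ n ∈ Subgroup.normalizer ((P : Subgroup (L ⧸ Z')) : Set (L ⧸ Z')),
        g = w * n := by
    refine AEightThreeGen62.main_reduction hPel hP8 P hTN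
      (fun x hx => Subgroup.subset_closure (hPsq x hx)) le_rfl ?hcl ?hsol ?hout ?h2
    case hcl =>
      intro R hR hPR a _ g hg
      have := P.3 hR hPR
      rwa [this] at hg
    case hout => exact fun x hx hxn => absurd hx hxn
    case hsol =>
      intro x hx hx1
      obtain ⟨s, hs, rfl⟩ := (hP x).1 hx
      have hsZ : (s : G) ∉ h.Z := fun e => hx1 ((hqZ s).2 e)
      -- the preimage of the centraliser
      let M : Subgroup L :=
        { carrier := {c | (c : G) * s * (c : G)⁻¹ * (s : G)⁻¹ ∈ h.Z}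
          one_mem' := by simp
          mul_mem' := fun {c d} hc hd => by
            show (c : G) * d * s * ((c : G) * d)⁻¹ * (s : G)⁻¹ ∈ h.Z
            have e := h.mem_cZ_iff.1 c.2 _ hd
            have : (c : G) * d * s * ((c : G) * d)⁻¹ * (s : G)⁻¹ =
                ((d : G) * s * (d : G)⁻¹ * (s : G)⁻¹) * ((c : G) * s * (c : G)⁻¹ * (s : G)⁻¹) := by
              rw [← mul_assoc (_ * _) ((c : G) * s * (c : G)⁻¹), ← mul_assoc (_ * _) ((c : G) * s),
                ← mul_assoc (_ * _) (c : G), e]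
              group
            rw [this]
            exact mul_mem hd hc
          inv_mem' := fun {c} hc => by
            show ((c⁻¹ : L) : G) * s * ((c⁻¹ : L) : G)⁻¹ * (s : G)⁻¹ ∈ h.Z
            have e := h.mem_cZ_iff.1 (c⁻¹).2 _ (inv_mem hc)
            have : ((c⁻¹ : L) : G) * s * ((c⁻¹ : L) : G)⁻¹ * (s : G)⁻¹ =
                ((c : G) * s * (c : G)⁻¹ * (s : G)⁻¹)⁻¹ := by
              rw [← mul_left_inj ((c⁻¹ : L) : G), e]
              push_cast
              group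
            rw [this]
            exact inv_mem hc }
      let φ : M →* Z' :=
        { toFun := fun c => ⟨⟨_, h.S_le_cZ (h.Z_le c.2)⟩, c.2⟩
          map_one' := by ext; simp
          map_mul' := fun c d => by
            ext
            have e := h.mem_cZ_iff.1 c.1.2 _ d.2
            show ((c * d : M) : L) * (s : G) * (((c * d : M) : L) : G)⁻¹ * (s : G)⁻¹ =
              (((c : L) : G) * s * ((c : L) : G)⁻¹ * (s : G)⁻¹) *
                (((d : L) : G) * s * ((d : L) : G)⁻¹ * (s : G)⁻¹)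
            rw [h.Z_comm c.2 (h.Z_le d.2)]
            rw [← mul_assoc (_ * _) (((c : L) : G) * s * ((c : L) : G)⁻¹),
              ← mul_assoc (_ * _) (((c : L) : G) * s), ← mul_assoc (_ * _) ((c : L) : G), e]
            push_cast
            group }
      haveI := h.solvable_cent_inter hA hB hs hsZ
      let ι : ↥(Subgroup.centralizer (h.Z : Set G) ⊓
          Subgroup.centralizer ({(s : G)} : Set G) : Subgroup G) →* M :=
        { toFun := fun c => ⟨⟨c.1, c.2.1⟩, by
            show (c : G) * s * (c : G)⁻¹ * (s : G)⁻¹ ∈ h.Z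
            rw [Subgroup.mem_centralizer_singleton_iff.1 c.2.2, mul_inv_cancel_right, mul_inv_cancel]
            exact one_mem _⟩
          map_one' := rfl
          map_mul' := fun _ _ => rfl }
      haveI : Group.IsSolvable Z' := by
        haveI : IsMulCommutative Z' := ⟨⟨fun u v => Subtype.ext (hZc u u.2 v)⟩⟩
        exact Group.isSolvable_of_comm fun u v => Subtype.ext (hZc u u.2 v)
      haveI : Group.IsSolvable M := by
        refine solvable_of_ker_le_range ι φ fun c hc => ?_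
        have e : ((c : L) : G) * s * ((c : L) : G)⁻¹ * (s : G)⁻¹ = 1 :=
          congrArg (fun u : Z' => ((u : L) : G)) hc
        rw [mul_inv_eq_one, mul_inv_eq_iff_eq_mul] at e
        exact ⟨⟨((c : L) : G), (c : L).2, Subgroup.mem_centralizer_singleton_iff.2 e⟩, rfl⟩
      let ψ : M →* Subgroup.centralizer ({q s} : Set (L ⧸ Z')) :=
        (q.comp M.subtype).codRestrict _ fun c => Subgroup.mem_centralizer_singleton_iff.2 (by
          show q (c : L) * q s = q s * q (c : L)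
          rw [← mul_inv_eq_iff_eq_mul, ← mul_inv_eq_one]
          simp only [← map_mul, ← map_inv]
          exact (hqZ _).2 c.2)
      refine solvable_of_surjective (f := ψ) fun y => ?_
      obtain ⟨c, hc⟩ := QuotientGroup.mk'_surjective Z' (y : L ⧸ Z')
      have hcM : c ∈ M := by
        refine (hqZ (c * s * c⁻¹ * s⁻¹)).1 ?_
        simp only [map_mul, map_inv]
        rw [show q c = (y : L ⧸ Z') from hc, Subgroup.mem_centralizer_singleton_iff.1 y.2]
        group
      exact ⟨⟨c, hcM⟩, Subtype.ext hc⟩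
    case h2 =>
      refine ⟨q ⟨h.μ 0 1 0, h.S_le_cZ (h.mem' _ _ _)⟩, q ⟨h.μ 1 0 0, h.S_le_cZ (h.mem' _ _ _)⟩,
        hPsq _ ((hP _).2 ⟨_, h.mem' _ _ _, rfl⟩), fun e => ?_,
        hPsq _ ((hP _).2 ⟨_, h.mem' _ _ _, rfl⟩), fun e => ?_, fun e => ?_⟩
      · obtain ⟨c, hc⟩ := h.mem_Z.1 ((hqZ _).1 e)
        exact zero_ne_one (h.inj _ _ _ _ _ _ hc).2.1
      · obtain ⟨c, hc⟩ := h.mem_Z.1 ((hqZ _).1 e)
        exact zero_ne_one (h.inj _ _ _ _ _ _ hc).1
      · obtain ⟨g, hg⟩ := isConj_iff.1 e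
        obtain ⟨g, rfl⟩ := QuotientGroup.mk'_surjective Z' g
        rw [← map_inv, ← map_mul, ← map_mul] at hg
        have e0 := (QuotientGroup.eq (s := Z')).1 hg
        obtain ⟨d, hd⟩ := h.mem_Z.1
          (show ((g : G) * h.μ 0 1 0 * (g : G)⁻¹)⁻¹ * h.μ 1 0 0 ∈ h.Z from e0)
        rw [eq_comm, inv_mul_eq_iff_eq_mul] at hd
        have e1 : (g : G) * h.μ 0 1 0 * (g : G)⁻¹ = h.μ 1 0 0 * (h.μ 0 0 d)⁻¹ :=
          eq_mul_inv_of_mul_eq hd.symm
        have h2 := h.closed_A le_top hB (⟨1, 0, rfl⟩ : h.μ 0 1 0 ∈ h.A) (Subgroup.mem_top (g : G))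
          (e1 ▸ mul_mem (h.mem' _ _ _) (inv_mem (h.mem' _ _ _)))
        obtain ⟨b, c, hbc⟩ := h2
        rw [e1, h.inv, h.mul] at hbc
        have := (h.inj _ _ _ _ _ _ hbc).1
        simp at this
  haveI : Group.IsSolvable Z' := Group.isSolvable_of_comm fun u v => Subtype.ext (hZc u u.2 v)
  haveI := hWn
  haveI : Group.IsSolvable (L ⧸ Z') := AEightThreeGen62.solvable_of_mul
    (AEightThreeGen62.solvable_of_odd_card W hWodd) (solvable_normalizer_sylow P) hW
  exact solvable_of_ker_le_range Z'.subtype q (by rw [hq, QuotientGroup.ker_mk']; simp)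

/-- `C(z)` is solvable. -/
theorem solvable_cent_Z {z : G} (hz : z ∈ h.Z) (hz1 : z ≠ 1) :
    Group.IsSolvable ↥(Subgroup.centralizer ({z} : Set G)) := by
  set C := Subgroup.centralizer ({z} : Set G) with hC
  haveI : (pPrimeCore 2 C).Normal := HallCore.pPrimeCore_normal 2 C
  refine AEightThreeGen62.solvable_of_mul (M := pPrimeCore 2 C)
    (C := (Subgroup.centralizer (h.Z : Set G)).subgroupOf C)
    (AEightThreeGen62.solvable_of_odd_card _ ZStarTheorem.odd_card_pPrimeCore) ?_ fun g => ?_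
  · haveI := h.solvable_cZ hA hB
    exact solvable_of_solvable_injective
      (f := (Subgroup.subgroupOfEquivOfLe (h.cZ_le hz)).toMonoidHom)
      (Subgroup.subgroupOfEquivOfLe (h.cZ_le hz)).injective
  · obtain ⟨c, hc, hcg⟩ := h.split_cZ hA hB hz hz1 g.2
    obtain ⟨c', hc', rfl⟩ := hc
    exact ⟨c', hc', c'⁻¹ * g, hcg, (mul_inv_cancel_left c' g).symm⟩

end Chart

end Cfsg.Agent.L34Syl83
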