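import Mathlib
import Cfsg.Agent.Lib.L34Syl83Klein
import Cfsg.Agent.Lib.AEightThreeGen62

/-!
# Klein four Sylow subgroup: the smallest involution count forces solvability

`solvable_of_count`: if all involutions are conjugate and `m c₀² = 3 c²`, then the group is solvable.
-/

set_option autoImplicit false

namespace Cfsg.Agent.L34Syl83Klein

universe u

attribute [local instance] AEightThreeGen62.fact2

theorem solvable_of_not_one {G : Type u} [Group G] [Finite G] (P : Sylow 2 G) (hP4 : Nat.card P = 4)
    (hexp : ∀ x : P, x * x = 1)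
    (hnot : ¬ ∀ a b : G, orderOf a = 2 → orderOf b = 2 → IsConj a b) : Group.IsSolvable G := by
  haveI hK : IsKleinFour (P : Subgroup G) := by
    refine ⟨hP4, ?_⟩
    refine ((Nat.prime_two.eq_one_or_self_of_dvd _ (Monoid.exponent_dvd_of_forall_pow_eq_one
      fun x => by rw [pow_two]; exact hexp x)).resolve_left fun h1 => ?_)
    haveI := Monoid.exp_eq_one_iff.1 h1
    rw [Nat.card_of_subsingleton (1 : (P : Subgroup G))] at hP4
    omega
  obtain ⟨W, hWn, hc⟩ : ∃ W : Subgroup G, W.Normal ∧ Subgroup.IsComplement' W (P : Subgroup G) := by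
    rcases S0202.classes_alternative P hK with h | ⟨h, -⟩
    · refine absurd (fun a b ha hb => ?_) hnot
      have hsub := (Nat.card_eq_one_iff_unique.1 h).1
      exact ConjClasses.mk_eq_mk_iff_isConj.1
        (congrArg Subtype.val (hsub.elim ⟨_, a, ha, rfl⟩ ⟨_, b, hb, rfl⟩))
    · exact (S0203.result P hK).1 h
  haveI := hWn
  refine AEightThreeGen62.solvable_of_mul (M := W) (C := (P : Subgroup G))
    (AEightThreeGen62.solvable_of_odd_card _ ?_) ?_ fun g => ?_
  · rw [← hc.index_eq_card]
    exact Nat.not_even_iff_odd.1 fun he => P.not_dvd_index he.two_dvd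
  · haveI := P.2.isNilpotent
    infer_instance
  · obtain ⟨⟨m, p⟩, hmp, -⟩ := hc.existsUnique g
    exact ⟨m, m.2, p, p.2, hmp.symm⟩

theorem solvable_of_index {G : Type u} [Group G] [Finite G] {M : Subgroup G} [M.Normal]
    (hM : Group.IsSolvable ↥M) (ho : Odd M.index) : Group.IsSolvable G := by
  haveI := hM
  haveI : Group.IsSolvable (G ⧸ M) := S0205.result (by rwa [← Subgroup.index_eq_card])
  exact solvable_of_ker_le_range M.subtype (QuotientGroup.mk' M) (by simp)

theorem solvable_of_count_aux : ∀ n : ℕ, ∀ {G : Type u} [Group G] [Finite G] (P : Sylow 2 G),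
    Nat.card G = n → Nat.card P = 4 → (∀ x : P, x * x = 1) → ∀ z t : G, z ∈ (P : Subgroup G) →
    t ∈ (P : Subgroup G) → orderOf z = 2 → orderOf t = 2 → z ≠ t →
    (∀ a b : G, orderOf a = 2 → orderOf b = 2 → IsConj a b) →
    (∀ g ∈ Subgroup.centralizer ({z} : Set G), g * t * g⁻¹ ≠ z * t) →
    Nat.card {k : G // orderOf k = 2} *
        Nat.card (Subgroup.centralizer ((P : Subgroup G) : Set G)) ^ 2 =
      3 * 1 * Nat.card (Subgroup.centralizer ({z} : Set G)) ^ 2 →
    Group.IsSolvable G := by
  intro n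
  induction n using Nat.strong_induction_on with
  | _ n ih =>
    intro G _ _ P hn hP4 hexp z t hzP htP hz ht hzt hone hsep hm
    rcases klein_cases P hP4 hexp hzP hz hone 1 hm with ⟨-, N, hNn, hNt, hNinv⟩ | hf
    swap
    · exact absurd hf (by norm_num)
    haveI := hNn
    have hPN : (P : Subgroup G) ≤ N := fun x hx => by
      by_cases h1 : x = 1
      · exact h1 ▸ one_mem N
      · exact hNinv x (orderOf_eq_prime
          (by rw [pow_two]; exact congrArg Subtype.val (hexp ⟨x, hx⟩)) h1)
    refine solvable_of_index (M := N) ?_ ?_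
    swap
    · rw [← Nat.not_even_iff_odd, even_iff_two_dvd]
      exact fun h => P.not_dvd_index (h.trans (Subgroup.index_dvd_of_le hPN))
    set Q : Sylow 2 N := P.subtype hPN with hQ
    have hQ4 : Nat.card Q = 4 := by
      rw [← hP4]
      exact Nat.card_congr (Subgroup.subgroupOfEquivOfLe hPN).toEquiv
    have hQexp : ∀ x : Q, x * x = 1 := fun x => Subtype.ext (Subtype.ext
      (congrArg Subtype.val (hexp ⟨_, Subgroup.mem_subgroupOf.1 x.2⟩) :))
    by_cases hN1 : ∀ a b : N, orderOf a = 2 → orderOf b = 2 → IsConj a b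
    swap
    · exact solvable_of_not_one Q hQ4 hQexp hN1
    have hlt : Nat.card N < n := by
      rw [← hn]
      refine lt_of_le_of_ne (Nat.le_of_dvd Nat.card_pos (Subgroup.card_subgroup_dvd_card N))
        fun e => hNt (Subgroup.eq_top_of_card_eq N e)
    set z' : N := ⟨z, hPN hzP⟩
    set t' : N := ⟨t, hPN htP⟩
    have hz' : orderOf z' = 2 := by rw [← Subgroup.orderOf_coe]; exact hz
    have ht' : orderOf t' = 2 := by rw [← Subgroup.orderOf_coe]; exact ht
    have hzt' : z' ≠ t' := fun e => hzt (congrArg Subtype.val e)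
    have hzQ : z' ∈ (Q : Subgroup N) := Subgroup.mem_subgroupOf.2 hzP
    have htQ : t' ∈ (Q : Subgroup N) := Subgroup.mem_subgroupOf.2 htP
    refine ih (Nat.card N) hlt Q rfl hQ4 hQexp z' t' hzQ htQ hz' ht' hzt' hN1
      (fun g hg e => hsep g ?_ (congrArg Subtype.val e)) ?_
    · exact Subgroup.mem_centralizer_singleton_iff.2
        (congrArg Subtype.val (Subgroup.mem_centralizer_singleton_iff.1 hg) :)
    have hcount : Nat.card {k : N // orderOf k = 2} = Nat.card {k : G // orderOf k = 2} :=
      Nat.card_congr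
        { toFun := fun k => ⟨(k.1 : G), by rw [Subgroup.orderOf_coe]; exact k.2⟩
          invFun := fun k => ⟨⟨k.1, hNinv k.1 k.2⟩, by rw [← Subgroup.orderOf_coe]; exact k.2⟩
          left_inv := fun _ => rfl
          right_inv := fun _ => rfl }
    have horb : Nat.card {i : N // ∃ g ∈ Subgroup.centralizer ({z'} : Set N), g * t' * g⁻¹ = i} =
        Nat.card {i : G // ∃ g ∈ Subgroup.centralizer ({z} : Set G), g * t * g⁻¹ = i} := by
      refine Nat.card_congr (Equiv.ofBijective (fun i => ⟨(i.1 : G), ?_⟩) ⟨?_, ?_⟩)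
      · obtain ⟨g, hg, e⟩ := i.2
        exact ⟨g, Subgroup.mem_centralizer_singleton_iff.2
          (congrArg Subtype.val (Subgroup.mem_centralizer_singleton_iff.1 hg) :),
          congrArg Subtype.val e⟩
      · intro a b e
        exact Subtype.ext (Subtype.ext (congrArg Subtype.val e :))
      rintro ⟨i, g, hg, e⟩
      have hi : orderOf i = 2 := by
        rw [← e, show g * t * g⁻¹ = MulAut.conj g t from rfl, MulEquiv.orderOf_eq, ht]
      have hiz : i * z = z * i := by
        have h1 := Subgroup.mem_centralizer_singleton_iff.1 hg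
        have h2 : t * z = z * t :=
          congrArg Subtype.val (KleinFourLocal79.comm_of_exp P hexp ⟨t, htP⟩ ⟨z, hzP⟩)
        have h3 : g * (t * z) * g⁻¹ = g * (z * t) * g⁻¹ := by rw [h2]
        rw [← conj_mul, ← conj_mul, show g * z * g⁻¹ = z by rw [h1, mul_inv_cancel_right], e] at h3
        exact h3
      have hine : i ≠ z := fun e' => hzt (by
        have h1 := Subgroup.mem_centralizer_singleton_iff.1 hg
        have h2 : g * t * g⁻¹ = g * z * g⁻¹ := by rw [e, e', h1, mul_inv_cancel_right]
        exact (mul_left_cancel (mul_right_cancel h2)).symm)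
      obtain ⟨d, hd, hor⟩ := conj_into Q hQ4 hQexp hzQ htQ hz' ht' hzt' (i := ⟨i, hNinv i hi⟩)
        (by rw [← Subgroup.orderOf_coe]; exact hi) (Subtype.ext hiz)
        (fun e' => hine (congrArg Subtype.val e'))
      rcases hor with h1 | h1
      · exact ⟨⟨⟨i, hNinv i hi⟩, d, hd, h1⟩, rfl⟩
      · exfalso
        have hdz : (d : G) * z = z * d :=
          congrArg Subtype.val (Subgroup.mem_centralizer_singleton_iff.1 hd)
        refine hsep ((d : G)⁻¹ * g) (mul_mem (inv_mem
          (Subgroup.mem_centralizer_singleton_iff.2 hdz)) hg) ?_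
        have h2 : (d : G) * (z * t) * (d : G)⁻¹ = i := congrArg Subtype.val h1
        rw [show (d : G)⁻¹ * g * t * ((d : G)⁻¹ * g)⁻¹ = (d : G)⁻¹ * (g * t * g⁻¹) * d by group, e,
          ← h2]
        group
    have aN := card_cz_class Q hQ4 hQexp hzQ htQ hz' ht' hzt'
    have aG := card_cz_class P hP4 hexp hzP htP hz ht hzt
    rw [horb] at aN
    rw [hcount]
    rw [← aG] at hm
    rw [← aN]
    generalize Nat.card {i : G // ∃ g ∈ Subgroup.centralizer ({z} : Set G), g * t * g⁻¹ = i} = O
      at hm
    generalize Nat.card {k : G // orderOf k = 2} = m at hm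
    have h0 : 0 < Nat.card (Subgroup.centralizer ((P : Subgroup G) : Set G)) := Nat.card_pos
    have : m = 3 * 1 * O ^ 2 := Nat.eq_of_mul_eq_mul_right (pow_pos h0 2) (by rw [hm]; ring)
    rw [this]
    ring

/-- If all involutions are conjugate and `m c₀² = 3 c²`, the group is solvable. -/
theorem solvable_of_count {G : Type u} [Group G] [Finite G] (P : Sylow 2 G) (hP4 : Nat.card P = 4)
    (hexp : ∀ x : P, x * x = 1) {z t : G} (hzP : z ∈ (P : Subgroup G)) (htP : t ∈ (P : Subgroup G))
    (hz : orderOf z = 2) (ht : orderOf t = 2) (hzt : z ≠ t)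
    (hone : ∀ a b : G, orderOf a = 2 → orderOf b = 2 → IsConj a b)
    (hsep : ∀ g ∈ Subgroup.centralizer ({z} : Set G), g * t * g⁻¹ ≠ z * t)
    (hm : Nat.card {k : G // orderOf k = 2} *
        Nat.card (Subgroup.centralizer ((P : Subgroup G) : Set G)) ^ 2 =
      3 * Nat.card (Subgroup.centralizer ({z} : Set G)) ^ 2) : Group.IsSolvable G :=
  solvable_of_count_aux _ P rfl hP4 hexp z t hzP htP hz ht hzt hone hsep (by simpa using hm)

end Cfsg.Agent.L34Syl83Klein
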