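import Mathlib
import Cfsg.Agent.Lib.L34Syl83Local62
import Cfsg.Agent.Lib.L34Syl83Klein

/-!
# Type `L₃(4)` Sylow subgroup, both normalisers fixing `Z`: centralisers of noncentral involutions

`ratio`: `|C(a,z)|² |C(Z)| = |C(a,Z)|² |C(z)|`; `exists_kernel`: the normal subgroup of index four of
`C(a)`; `card_cent_kernel`: centralisers inside it.
-/

set_option autoImplicit false

namespace Cfsg.Agent.L34Syl83

open Cfsg

attribute [local instance] AEightThreeGen62.fact2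

section Counting

variable {α β : Type*} [Finite α] [Finite β]

theorem card_pairs (P : α → β → Prop) (k : ℕ) (hk : ∀ a, Nat.card {b // P a b} = k) :
    Nat.card {p : α × β // P p.1 p.2} = Nat.card α * k := by
  haveI := Fintype.ofFinite α
  rw [Nat.card_congr (Equiv.subtypeProdEquivSigmaSubtype P), Nat.card_sigma,
    Finset.sum_congr rfl (fun a _ => hk a), Finset.sum_const, Finset.card_univ,
    ← Nat.card_eq_fintype_card, smul_eq_mul]

theorem double_count (P : α → β → Prop) (k l : ℕ) (hk : ∀ a, Nat.card {b // P a b} = k)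
    (hl : ∀ b, Nat.card {a // P a b} = l) : Nat.card α * k = Nat.card β * l := by
  rw [← card_pairs P k hk, ← card_pairs (fun b a => P a b) l hl]
  exact Nat.card_congr (Equiv.subtypeEquiv (Equiv.prodComm α β) fun p => Iff.rfl)

omit [Finite β] in
theorem card_fiberwise (f : α → β) (T : Finset β) (hT : ∀ a, f a ∈ T) :
    Nat.card α = ∑ t ∈ T, Nat.card {a // f a = t} := by
  classical
  haveI := Fintype.ofFinite α
  rw [Nat.card_eq_fintype_card, ← Finset.card_univ,
    Finset.card_eq_sum_card_fiberwise (f := f) (t := T) fun a _ => hT a]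
  refine Finset.sum_congr rfl fun t _ => ?_
  rw [Nat.card_eq_fintype_card, Fintype.card_subtype]

end Counting

variable {G : Type*} [Group G] [Finite G]

theorem card_orbit (H : Subgroup G) (x : G) :
    Nat.card {i : G // ∃ g ∈ H, g * x * g⁻¹ = i} *
        Nat.card (H ⊓ Subgroup.centralizer ({x} : Set G) : Subgroup G) = Nat.card H := by
  classical
  let O := {i : G // ∃ g ∈ H, g * x * g⁻¹ = i}
  have hs : ∀ i : O, ∃ g ∈ H, g * x * g⁻¹ = i := fun i => i.2
  choose s hsH hsx using hs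
  rw [← Nat.card_prod]
  refine (Nat.card_congr (Equiv.ofBijective
    (fun p : O × (H ⊓ Subgroup.centralizer ({x} : Set G) : Subgroup G) =>
      (⟨s p.1 * p.2, H.mul_mem (hsH _) (Subgroup.mem_inf.1 p.2.2).1⟩ : H)) ⟨?_, ?_⟩))
  · rintro ⟨i, k⟩ ⟨i', k'⟩ e
    have e' : s i * (k : G) = s i' * (k' : G) := congrArg Subtype.val e
    have hk := Subgroup.mem_centralizer_singleton_iff.1 (Subgroup.mem_inf.1 k.2).2
    have hk' := Subgroup.mem_centralizer_singleton_iff.1 (Subgroup.mem_inf.1 k'.2).2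
    have hi : i = i' := Subtype.ext (by
      rw [← hsx i, ← hsx i']
      calc s i * x * (s i)⁻¹ = s i * (k * x * (k : G)⁻¹) * (s i)⁻¹ := by
            rw [hk, mul_inv_cancel_right]
        _ = (s i * k) * x * (s i * k)⁻¹ := by group
        _ = (s i' * k') * x * (s i' * k')⁻¹ := by rw [e']
        _ = s i' * (k' * x * (k' : G)⁻¹) * (s i')⁻¹ := by group
        _ = _ := by rw [hk', mul_inv_cancel_right])
    subst hi
    exact Prod.ext rfl (Subtype.ext (mul_left_cancel e'))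
  · rintro ⟨g, hg⟩
    let i : O := ⟨g * x * g⁻¹, g, hg, rfl⟩
    refine ⟨(i, ⟨(s i)⁻¹ * g, Subgroup.mem_inf.2 ⟨H.mul_mem (H.inv_mem (hsH i)) hg, ?_⟩⟩),
      Subtype.ext (mul_inv_cancel_left _ _)⟩
    rw [Subgroup.mem_centralizer_singleton_iff, ← mul_inv_eq_iff_eq_mul]
    calc (s i)⁻¹ * g * x * ((s i)⁻¹ * g)⁻¹ = (s i)⁻¹ * (g * x * g⁻¹) * s i := by group
      _ = (s i)⁻¹ * (s i * x * (s i)⁻¹) * s i := by rw [hsx i]
      _ = x := by group

theorem eq_of_sq_mul {q q' C N : ℕ} (hC : 0 < C) (h : q ^ 2 * C = N) (h' : q' ^ 2 * C = N) :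
    q = q' :=
  Nat.pow_left_injective (by norm_num) (Nat.eq_of_mul_eq_mul_right hC (h.trans h'.symm))

variable {S : Sylow 2 G} {F : Type*} [Field F] [Fintype F]

namespace Chart

variable (h : Chart F (S : Subgroup G)) (hA : h.FixZ ⊤) (hB : h.swap.FixZ ⊤)
include h

theorem cent_inf_cent {z w : G} (hz : z ∈ h.Z) (hw : w ∈ h.Z) (hz1 : z ≠ 1) (hw1 : w ≠ 1)
    (hne : z ≠ w) :
    Subgroup.centralizer ({z} : Set G) ⊓ Subgroup.centralizer ({w} : Set G) =
      Subgroup.centralizer (h.Z : Set G) :=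
  le_antisymm (fun _ hn => h.mem_cZ_of_two hz hw hz1 hw1 hne
    (Subgroup.mem_centralizer_singleton_iff.1 hn.1).symm
    (Subgroup.mem_centralizer_singleton_iff.1 hn.2).symm) (le_inf (h.cZ_le hz) (h.cZ_le hw))

/-- Multiplication by an element of `Z` is conjugation inside `S`, on `A \ Z`. -/
theorem exists_shift {a w : G} (ha : a ∈ h.A) (haZ : a ∉ h.Z) (hw : w ∈ h.Z) :
    ∃ s ∈ (S : Subgroup G), s * a * s⁻¹ = a * w := by
  obtain ⟨b, c, rfl⟩ := ha
  obtain ⟨d, rfl⟩ := h.mem_Z.1 hw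
  have hb : b ≠ 0 := fun e => haZ (by rw [e]; exact h.mem_Z.2 ⟨c, rfl⟩)
  refine ⟨h.μ (d / b) 0 0, h.mem' _ _ _, ?_⟩
  rw [h.conj, h.mul]
  simp [div_mul_cancel₀ d hb]

include hA hB

/-- The coprime action of `⟨a, w⟩` on `O(C(z))`. -/
theorem ratio {z a : G} (hz : z ∈ h.Z) (hz1 : z ≠ 1) (ha : a ∈ h.A) (haZ : a ∉ h.Z) :
    Nat.card (Subgroup.centralizer ({z} : Set G) ⊓ Subgroup.centralizer ({a} : Set G) :
          Subgroup G) ^ 2 * Nat.card (Subgroup.centralizer (h.Z : Set G)) =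
      Nat.card (Subgroup.centralizer (h.Z : Set G) ⊓ Subgroup.centralizer ({a} : Set G) :
          Subgroup G) ^ 2 * Nat.card (Subgroup.centralizer ({z} : Set G)) := by
  obtain ⟨w, hw, hw1, hwz⟩ := h.exists_other z
  set R := centralizerPPrimeCore 2 z with hR
  set Cz := Subgroup.centralizer ({z} : Set G)
  set CZ := Subgroup.centralizer (h.Z : Set G)
  set Ca := Subgroup.centralizer ({a} : Set G)
  set Cw := Subgroup.centralizer ({w} : Set G)
  have hRC : R ≤ Cz := SignalizerBasic.centralizerPPrimeCore_le 2 z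
  have hRn : Cz ≤ Subgroup.normalizer (R : Set G) :=
    SignalizerBasic.centralizer_le_normalizer_centralizerPPrimeCore 2 z
  have hRodd : Odd (Nat.card R) := Nat.not_even_iff_odd.1 fun he =>
    SignalizerBasic.not_dvd_card_centralizerPPrimeCore 2 z he.two_dvd
  have hnorm : ∀ x ∈ (S : Subgroup G), ∀ r ∈ R, x * r * x⁻¹ ∈ R := fun x hx r hr =>
    conj_mem_of_normalizer (hRn (h.S_le_cent hz hx)) hr
  have haw : a * w = w * a := h.A_comm ha (h.Z_le_A hw)
  have hfour := L34Syl83Klein.coprime_four R hRodd (h.A_sq ha) (h.Z_sq hw) haw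
    (hnorm a (h.A_le ha)) (hnorm w (h.Z_le hw))
  obtain ⟨s, hs, hsa⟩ := h.exists_shift ha haZ hw
  have hmapR : R.map (MulAut.conj s).toMonoidHom = R :=
    Subgroup.eq_of_le_of_card_ge (by rintro _ ⟨r, hr, rfl⟩; simpa using hnorm s hs r hr)
      (by rw [Subgroup.card_map_of_injective (MulAut.conj s).injective])
  have hshift : Nat.card (R ⊓ Subgroup.centralizer ({a * w} : Set G) : Subgroup G) =
      Nat.card (R ⊓ Ca : Subgroup G) := by
    rw [← Subgroup.card_map_of_injective (K := R ⊓ Ca) (f := (MulAut.conj s).toMonoidHom)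
      (MulAut.conj s).injective]
    refine congrArg (fun X : Subgroup G => Nat.card X) ?_
    ext x
    rw [mem_map_conj, Subgroup.mem_inf, Subgroup.mem_inf]
    constructor
    · rintro ⟨hx, hxc⟩
      refine ⟨conj'_mem_of_normalizer (hRn (h.S_le_cent hz hs)) hx, ?_⟩
      have hxc' := Subgroup.mem_centralizer_singleton_iff.1 hxc
      rw [← hsa] at hxc'
      refine Subgroup.mem_centralizer_singleton_iff.2 ?_
      calc s⁻¹ * x * s * a = s⁻¹ * (x * (s * a * s⁻¹)) * s := by group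
        _ = s⁻¹ * ((s * a * s⁻¹) * x) * s := by rw [hxc']
        _ = _ := by group
    · rintro ⟨hx, hxc⟩
      refine ⟨by rw [← hmapR, mem_map_conj]; exact hx, ?_⟩
      have hxc' := Subgroup.mem_centralizer_singleton_iff.1 hxc
      refine Subgroup.mem_centralizer_singleton_iff.2 ?_
      rw [← hsa]
      calc x * (s * a * s⁻¹) = s * ((s⁻¹ * x * s) * a) * s⁻¹ := by group
        _ = s * (a * (s⁻¹ * x * s)) * s⁻¹ := by rw [hxc']
        _ = _ := by group
  have hRZ : R ⊓ CZ = R ⊓ Cw := le_antisymm (inf_le_inf_left R (h.cZ_le hw)) fun x hx =>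
    ⟨hx.1, (h.cent_inf_cent hz hw hz1 hw1 hwz.symm).le ⟨hRC hx.1, hx.2⟩⟩
  have hp1 : Nat.card Cz * Nat.card (R ⊓ CZ : Subgroup G) = Nat.card R * Nat.card CZ :=
    card_mul_inter hRC (h.cZ_le hz) fun g hg => h.split_cZ hA hB hz hz1 hg
  have hp2 : Nat.card (Cz ⊓ Ca : Subgroup G) * Nat.card (R ⊓ Ca ⊓ Cw : Subgroup G) =
      Nat.card (R ⊓ Ca : Subgroup G) * Nat.card (CZ ⊓ Ca : Subgroup G) := by
    have e : (R ⊓ Ca) ⊓ (CZ ⊓ Ca) = R ⊓ Ca ⊓ Cw := by
      refine le_antisymm (fun x hx => ⟨hx.1, h.cZ_le hw hx.2.1⟩) fun x hx => ⟨hx.1, ?_, hx.1.2⟩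
      exact (h.cent_inf_cent hz hw hz1 hw1 hwz.symm).le ⟨hRC hx.1.1, hx.2⟩
    rw [← e]
    refine card_mul_inter (inf_le_inf_right _ hRC) (inf_le_inf_right _ (h.cZ_le hz)) fun g hg => ?_
    obtain ⟨c, hc, hcz, e1⟩ := h.split hA hB hz hz1 hw hw1 hg.1
    have hwCa : w ∈ Ca := Subgroup.mem_centralizer_singleton_iff.2 haw.symm
    have hcCa : c ∈ Ca :=
      (Subgroup.zpowers_le.2 (mul_mem hwCa (mul_mem (mul_mem hg.2 hwCa) (inv_mem hg.2)))) hcz
    refine ⟨c, ⟨hc, hcCa⟩, h.mem_cZ_of_two hz hw hz1 hw1 hwz.symm ?_ ?_,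
      Ca.mul_mem (Ca.inv_mem hcCa) hg.2⟩
    · exact (Subgroup.mem_centralizer_singleton_iff.1 (mul_mem (inv_mem (hRC hc)) hg.1)).symm
    · rw [eq_comm, ← mul_inv_eq_iff_eq_mul]
      rw [show c⁻¹ * g * w * (c⁻¹ * g)⁻¹ = c⁻¹ * (g * w * g⁻¹) * c by group, ← e1]
      group
  rw [hshift] at hfour
  rw [hRZ] at hp1
  have h0 : 0 < Nat.card (R ⊓ Ca ⊓ Cw : Subgroup G) := Nat.card_pos
  have h1 : 0 < Nat.card (R ⊓ Cw : Subgroup G) := Nat.card_pos
  generalize Nat.card (Cz ⊓ Ca : Subgroup G) = c at *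
  generalize Nat.card (CZ ⊓ Ca : Subgroup G) = c0 at *
  generalize Nat.card (R ⊓ Ca ⊓ Cw : Subgroup G) = r00 at *
  generalize Nat.card (R ⊓ Ca : Subgroup G) = ra at *
  generalize Nat.card (R ⊓ Cw : Subgroup G) = r0 at *
  generalize Nat.card R = r at *
  generalize Nat.card CZ = C at *
  generalize Nat.card Cz = N at *
  refine Nat.eq_of_mul_eq_mul_right (Nat.mul_pos (pow_pos h0 2) h1) ?_
  calc c ^ 2 * C * (r00 ^ 2 * r0) = (c * r00) ^ 2 * C * r0 := by ring
    _ = (ra * c0) ^ 2 * C * r0 := by rw [hp2]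
    _ = c0 ^ 2 * C * (ra * r0 * ra) := by ring
    _ = c0 ^ 2 * C * (r * r00 ^ 2) := by rw [hfour]
    _ = c0 ^ 2 * r00 ^ 2 * (r * C) := by ring
    _ = c0 ^ 2 * r00 ^ 2 * (N * r0) := by rw [hp1]
    _ = _ := by ring

/-- The number `q` of `C(a,z)`-conjugates of a second element of `Z`. -/
theorem exists_ratio {z w a : G} (hz : z ∈ h.Z) (hz1 : z ≠ 1) (hw : w ∈ h.Z) (hw1 : w ≠ 1)
    (hne : z ≠ w) (ha : a ∈ h.A) (haZ : a ∉ h.Z) :
    ∃ q, Nat.card {i : G // ∃ g ∈ (Subgroup.centralizer ({z} : Set G) ⊓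
        Subgroup.centralizer ({a} : Set G) : Subgroup G), g * w * g⁻¹ = i} = q ∧ 0 < q ∧
      q ^ 2 * Nat.card (Subgroup.centralizer (h.Z : Set G)) =
        Nat.card (Subgroup.centralizer ({z} : Set G)) ∧
      q * Nat.card (Subgroup.centralizer (h.Z : Set G) ⊓ Subgroup.centralizer ({a} : Set G) :
          Subgroup G) =
        Nat.card (Subgroup.centralizer ({z} : Set G) ⊓ Subgroup.centralizer ({a} : Set G) :
          Subgroup G) := by
  have horb := card_orbit (Subgroup.centralizer ({z} : Set G) ⊓ Subgroup.centralizer ({a} : Set G)) w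
  rw [inf_right_comm, h.cent_inf_cent hz hw hz1 hw1 hne] at horb
  refine ⟨_, rfl, ?_, ?_, horb⟩
  · haveI : Nonempty {i : G // ∃ g ∈ (Subgroup.centralizer ({z} : Set G) ⊓
        Subgroup.centralizer ({a} : Set G) : Subgroup G), g * w * g⁻¹ = i} :=
      ⟨⟨w, 1, one_mem _, by simp⟩⟩
    exact Nat.card_pos
  have hr := h.ratio hA hB hz hz1 ha haZ
  have h0 : 0 < Nat.card (Subgroup.centralizer (h.Z : Set G) ⊓
    Subgroup.centralizer ({a} : Set G) : Subgroup G) := Nat.card_pos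
  generalize Nat.card {i : G // ∃ g ∈ (Subgroup.centralizer ({z} : Set G) ⊓
    Subgroup.centralizer ({a} : Set G) : Subgroup G), g * w * g⁻¹ = i} = q at *
  rw [← horb, mul_pow, mul_comm (q ^ 2), mul_assoc] at hr
  exact Nat.eq_of_mul_eq_mul_left (pow_pos h0 2) hr

omit hB

open scoped IsMulCommutative in
/-- The normal subgroup of index four of `C(a)`. -/
theorem exists_kernel {a : G} (ha : a ∈ h.A) (haZ : a ∉ h.Z) :
    ∃ (K : Subgroup ↥(Subgroup.centralizer ({a} : Set G))) (P : Sylow 2 K), K.Normal ∧ K.index = 4 ∧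
      Nat.card P = 4 ∧ (∀ x : P, x * x = 1) ∧
      (∀ x : K, x ∈ (P : Subgroup K) ↔ ((x : Subgroup.centralizer ({a} : Set G)) : G) ∈ h.Z) ∧
      (∀ x : Subgroup.centralizer ({a} : Set G), (x : G) ∈ h.A → (x ∈ K ↔ (x : G) ∈ h.Z)) ∧
      ∀ g : Subgroup.centralizer ({a} : Set G),
        ∃ x : Subgroup.centralizer ({a} : Set G), (x : G) ∈ h.A ∧ x⁻¹ * g ∈ K := by
  classical
  set C := Subgroup.centralizer ({a} : Set G) with hC
  have hAC : h.A ≤ C := h.A_le_cent hA ha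
  obtain ⟨PA, hPA⟩ := h.sylow_A hA ha haZ (H := C) le_rfl hAC
  have hmemP : ∀ x : C, x ∈ (PA : Subgroup C) ↔ (x : G) ∈ h.A := fun x => by rw [hPA]; exact Iff.rfl
  haveI hPcomm : IsMulCommutative ↥(PA : Subgroup C) := ⟨⟨fun u v => Subtype.ext (Subtype.ext
    (h.A_comm ((hmemP _).1 u.2) ((hmemP _).1 v.2)))⟩⟩
  set TP : Subgroup ↥(PA : Subgroup C) := (h.Z.subgroupOf C).subgroupOf (PA : Subgroup C) with hTP
  have hmemTP : ∀ x : ↥(PA : Subgroup C), x ∈ TP ↔ ((x : C) : G) ∈ h.Z := fun x => Iff.rfl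
  set ϕ := QuotientGroup.mk' TP with hϕ
  let τ : C →* ↥(PA : Subgroup C) ⧸ TP := MonoidHom.transfer ϕ
  have hQsq : ∀ q : ↥(PA : Subgroup C) ⧸ TP, q * q = 1 := by
    intro q
    induction q using QuotientGroup.induction_on with
    | H p =>
      rw [← QuotientGroup.mk_mul, QuotientGroup.eq_one_iff, hmemTP]
      show ((p : C) : G) * ((p : C) : G) ∈ h.Z
      rw [h.A_sq ((hmemP _).1 p.2)]
      exact one_mem _
  have hidx : Odd (PA : Subgroup C).index :=
    Nat.not_even_iff_odd.1 fun he => PA.not_dvd_index he.two_dvd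
  -- the transfer is the projection on `A`
  have hτ : ∀ x : ↥(PA : Subgroup C), τ (x : C) = ϕ x := by
    intro x
    have key : ∀ (k : ℕ) (g₀ : C) (hk : g₀⁻¹ * (x : C) ^ k * g₀ ∈ (PA : Subgroup C)),
        ϕ ⟨_, hk⟩ = ϕ x ^ k := by
      intro k g₀ hk
      obtain ⟨n, hn, e⟩ := PA.conj_eq_normalizer_conj_of_mem ((x : C) ^ k) g₀ (pow_mem x.2 k) hk
      have hnA : (n : G) ∈ Subgroup.normalizer (h.A : Set G) :=
        mem_normalizer_of_forall fun y hy => (hmemP _).1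
          (conj_mem_of_normalizer hn ((hmemP ⟨y, hAC hy⟩).2 hy))
      have hy : (((x : C) ^ k : C) : G) ∈ h.A := (hmemP _).1 (pow_mem x.2 k)
      have h1 := h.mod_Z hA ha haZ (inv_mem hnA)
        (Subgroup.mem_centralizer_singleton_iff.1 (inv_mem n.2)) hy
      rw [← map_pow, eq_comm]
      refine (QuotientGroup.eq).2 ((hmemTP _).2 ?_)
      show (((x : C) ^ k : C) : G)⁻¹ * ((g₀⁻¹ * (x : C) ^ k * g₀ : C) : G) ∈ h.Z
      rw [e]
      push_cast
      simpa [mul_assoc] using h1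
    show MonoidHom.transfer ϕ (x : C) = _
    haveI : Fintype (Quotient (MulAction.orbitRel (Subgroup.zpowers (x : C))
        (C ⧸ (PA : Subgroup C)))) := Fintype.ofFinite _
    rw [MonoidHom.transfer_eq_prod_quotient_orbitRel_zpowers_quot,
      Finset.prod_congr rfl (fun q _ => key _ _ _), Finset.prod_pow_eq_pow_sum,
      ← Subgroup.index_eq_sum_minimalPeriod]
    obtain ⟨j, hj⟩ := hidx
    rw [hj, pow_succ, pow_mul, pow_two, hQsq, one_pow, one_mul]
  have hsurj : Function.Surjective τ := by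
    intro q
    induction q using QuotientGroup.induction_on with
    | H p => exact ⟨p, hτ p⟩
  set K := τ.ker with hK
  have hKA : ∀ x : C, (x : G) ∈ h.A → (x ∈ K ↔ (x : G) ∈ h.Z) := by
    intro x hx
    rw [hK, MonoidHom.mem_ker, hτ ⟨x, (hmemP x).2 hx⟩, hϕ, QuotientGroup.mk'_apply,
      QuotientGroup.eq_one_iff, hmemTP]
  have hTP4 : Nat.card TP = 4 := by
    rw [hTP, Nat.card_congr (Subgroup.subgroupOfEquivOfLe (show h.Z.subgroupOf C ≤ (PA : Subgroup C)
      from fun x hx => (hmemP x).2 (h.Z_le_A hx))).toEquiv,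
      Nat.card_congr (Subgroup.subgroupOfEquivOfLe (h.Z_le_A.trans hAC)).toEquiv, h.card_Z]
  have hPA16 : Nat.card (PA : Subgroup C) = 16 := by
    rw [hPA, Nat.card_congr (Subgroup.subgroupOfEquivOfLe hAC).toEquiv, h.card_A]
  have hindex : K.index = 4 := by
    rw [hK, Subgroup.index_ker, MonoidHom.range_eq_top.mpr hsurj,
      Nat.card_congr Subgroup.topEquiv.toEquiv]
    have := Subgroup.card_eq_card_quotient_mul_card_subgroup TP
    rw [hPA16, hTP4] at this
    omega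
  haveI hKn : K.Normal := MonoidHom.normal_ker τ
  set Q : Subgroup K := (h.Z.subgroupOf C).subgroupOf K with hQ
  have hQK : h.Z.subgroupOf C ≤ K := fun x hx => (hKA x (h.Z_le_A hx)).2 hx
  have hQ4 : Nat.card Q = 4 := by
    rw [hQ, Nat.card_congr (Subgroup.subgroupOfEquivOfLe hQK).toEquiv,
      Nat.card_congr (Subgroup.subgroupOfEquivOfLe (h.Z_le_A.trans hAC)).toEquiv, h.card_Z]
  obtain ⟨P, hP⟩ := (IsPGroup.of_card (n := 2) hQ4 : IsPGroup 2 Q).exists_le_sylow
  obtain ⟨g, hg⟩ := AEightThreeGen62.exists_conj_into PA (P.2.map K.subtype)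
  have hle : Nat.card P ≤ 4 := by
    have hsub : ((P : Subgroup K).map K.subtype).map (MulAut.conj g).toMonoidHom ≤
        h.Z.subgroupOf C := by
      rintro _ ⟨y, hy, rfl⟩
      have hyA := (hmemP _).1 (hg y hy)
      obtain ⟨x, -, rfl⟩ := hy
      exact (hKA _ hyA).1 (hKn.conj_mem _ x.2 g)
    have := Subgroup.card_le_of_le hsub
    rwa [Subgroup.card_map_of_injective (MulAut.conj g).injective,
      Subgroup.card_map_of_injective Subtype.val_injective,
      Nat.card_congr (Subgroup.subgroupOfEquivOfLe (h.Z_le_A.trans hAC)).toEquiv, h.card_Z] at this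
  have hQP : (P : Subgroup K) = Q := (Subgroup.eq_of_le_of_card_ge hP (by rw [hQ4]; exact hle)).symm
  refine ⟨K, P, hKn, hindex, by rw [hQP, hQ4], fun x => ?_, fun x => ?_, hKA, fun g => ?_⟩
  · have hx : (x : K) ∈ Q := hQP.le x.2
    exact Subtype.ext (Subtype.ext (Subtype.ext (h.Z_sq hx)))
  · rw [hQP]; exact Iff.rfl
  · obtain ⟨p, hp⟩ := QuotientGroup.mk'_surjective TP (τ g)
    refine ⟨p, (hmemP _).1 p.2, ?_⟩
    rw [hK, MonoidHom.mem_ker, map_mul, map_inv, hτ p, ← hp, inv_mul_cancel]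

/-- Centralisers inside the kernel: four times smaller. -/
theorem card_cent_kernel {a : G} (ha : a ∈ h.A)
    {K : Subgroup ↥(Subgroup.centralizer ({a} : Set G))}
    (hKA : ∀ x : Subgroup.centralizer ({a} : Set G), (x : G) ∈ h.A → (x ∈ K ↔ (x : G) ∈ h.Z))
    (hdec : ∀ g : Subgroup.centralizer ({a} : Set G),
      ∃ x : Subgroup.centralizer ({a} : Set G), (x : G) ∈ h.A ∧ x⁻¹ * g ∈ K)
    {H : Subgroup G} (hAH : h.A ≤ H) :
    Nat.card (H ⊓ Subgroup.centralizer ({a} : Set G) : Subgroup G) =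
      4 * Nat.card ((H.subgroupOf (Subgroup.centralizer ({a} : Set G))).subgroupOf K) := by
  set Y := ((H.subgroupOf (Subgroup.centralizer ({a} : Set G))).subgroupOf K).map ((Subgroup.centralizer ({a} : Set G)).subtype.comp K.subtype) with hY
  have hmemY : ∀ y, y ∈ Y ↔ ∃ k : K, ((k : (Subgroup.centralizer ({a} : Set G))) : G) ∈ H ∧ ((k : (Subgroup.centralizer ({a} : Set G))) : G) = y := fun y => Iff.rfl
  have hint : h.A ⊓ Y = h.Z := by
    refine le_antisymm (fun y hy => ?_) fun y hy => ⟨h.Z_le_A hy, ?_⟩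
    · obtain ⟨k, -, rfl⟩ := (hmemY y).1 hy.2
      exact (hKA k hy.1).1 k.2
    · exact (hmemY y).2 ⟨⟨⟨y, h.A_le_cent hA ha (h.Z_le_A hy)⟩, (hKA _ (h.Z_le_A hy)).2 hy⟩,
        hAH (h.Z_le_A hy), rfl⟩
  have h1 := card_mul_inter (X := h.A) (Y := Y) (H := H ⊓ (Subgroup.centralizer ({a} : Set G))) (le_inf hAH (h.A_le_cent hA ha))
    (fun y hy => by
      obtain ⟨k, hk, rfl⟩ := (hmemY y).1 hy
      exact ⟨hk, (k : (Subgroup.centralizer ({a} : Set G))).2⟩) fun g hg => by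
      obtain ⟨x, hx, hxk⟩ := hdec ⟨g, hg.2⟩
      exact ⟨x, hx, (hmemY _).2 ⟨⟨_, hxk⟩, mul_mem (inv_mem (hAH hx)) hg.1, rfl⟩⟩
  rw [hint, h.card_Z, h.card_A] at h1
  have h2 : Nat.card Y = Nat.card ((H.subgroupOf (Subgroup.centralizer ({a} : Set G))).subgroupOf K) :=
    Subgroup.card_map_of_injective (Subtype.val_injective.comp Subtype.val_injective)
  rw [h2] at h1
  omega

end Chart

end Cfsg.Agent.L34Syl83
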