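import Mathlib
import Cfsg.Agent.Lib.L34Syl83Kernel62

/-!
# Type `L₃(4)` Sylow subgroup, both normalisers fixing `Z`: pairs of involutions

`ctr_za`, `ctr_ab`: the central involution of a pair of involutions from two classes; `class_count`,
`incidence`, `pairs_ab`: the counts for `a ∈ A \ Z`, `b ∈ B \ Z` when `Z#` is fused to `z₀`.
-/

set_option autoImplicit false

namespace Cfsg.Agent.L34Syl83

open Cfsg
open L34Syl83Klein (ctr pairs)

attribute [local instance] AEightThreeGen62.fact2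

variable {G : Type*} [Group G] [Finite G]

theorem sq_of_isConj {x y : G} (hx : x * x = 1) (hxy : IsConj x y) : y * y = 1 := by
  obtain ⟨g, rfl⟩ := isConj_iff.1 hxy
  rw [conj_mul, hx]
  simp

theorem isConj_conj {x y : G} (g : G) : IsConj x (g * y * g⁻¹) ↔ IsConj x y :=
  ⟨fun hxy => hxy.trans (isConj_iff.2 ⟨g, rfl⟩).symm, fun hxy => hxy.trans (isConj_iff.2 ⟨g, rfl⟩)⟩

/-- Double count of commuting pairs from two classes. -/
theorem incidence (z a : G) :
    Nat.card {v : G // IsConj a v} * Nat.card {i : G // IsConj z i ∧ i * a = a * i} =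
      Nat.card {i : G // IsConj z i} * Nat.card {v : G // IsConj a v ∧ v * z = z * v} := by
  refine double_count (fun (v : {v : G // IsConj a v}) (i : {i : G // IsConj z i}) =>
    (i : G) * v = v * i) _ _ (fun v => ?_) fun i => ?_
  · obtain ⟨g, hg⟩ := isConj_iff.1 v.2
    refine Nat.card_congr
      { toFun := fun i => ⟨g⁻¹ * i.1.1 * g, by
          refine ⟨by simpa using (isConj_conj g⁻¹).2 i.1.2, ?_⟩
          calc g⁻¹ * i.1.1 * g * a = g⁻¹ * (i.1.1 * (g * a * g⁻¹)) * g := by group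
            _ = g⁻¹ * ((g * a * g⁻¹) * i.1.1) * g := by rw [hg, i.2]
            _ = _ := by group⟩
        invFun := fun i => ⟨⟨g * i.1 * g⁻¹, (isConj_conj g).2 i.2.1⟩, by
          show g * i.1 * g⁻¹ * v = v * (g * i.1 * g⁻¹)
          rw [← hg, conj_mul, conj_mul, i.2.2]⟩
        left_inv := fun i => Subtype.ext (Subtype.ext (by simp [mul_assoc]))
        right_inv := fun i => Subtype.ext (by simp [mul_assoc]) }
  · obtain ⟨g, hg⟩ := isConj_iff.1 i.2
    refine Nat.card_congr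
      { toFun := fun v => ⟨g⁻¹ * v.1.1 * g, by
          refine ⟨by simpa using (isConj_conj g⁻¹).2 v.1.2, ?_⟩
          calc g⁻¹ * v.1.1 * g * z = g⁻¹ * (v.1.1 * (g * z * g⁻¹)) * g := by group
            _ = g⁻¹ * ((g * z * g⁻¹) * v.1.1) * g := by rw [hg, v.2]
            _ = _ := by group⟩
        invFun := fun v => ⟨⟨g * v.1 * g⁻¹, (isConj_conj g).2 v.2.1⟩, by
          show (i : G) * (g * v.1 * g⁻¹) = g * v.1 * g⁻¹ * i
          rw [← hg, conj_mul, conj_mul, v.2.2]⟩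
        left_inv := fun v => Subtype.ext (Subtype.ext (by simp [mul_assoc]))
        right_inv := fun v => Subtype.ext (by simp [mul_assoc]) }

variable {S : Sylow 2 G} {F : Type*} [Field F] [Fintype F]

namespace Chart

variable (h : Chart F (S : Subgroup G)) (hA : h.FixZ ⊤) (hB : h.swap.FixZ ⊤)
include h

omit [Finite G] in
theorem conj_mem_cZ {n v : G} (hn : n ∈ Subgroup.normalizer (h.Z : Set G))
    (hv : v ∈ Subgroup.centralizer (h.Z : Set G)) :
    n * v * n⁻¹ ∈ Subgroup.centralizer (h.Z : Set G) := by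
  refine h.mem_cZ_iff.2 fun w hw => ?_
  have := h.mem_cZ_iff.1 hv _ (conj'_mem_of_normalizer hn hw)
  calc w * (n * v * n⁻¹) = n * ((n⁻¹ * w * n) * v) * n⁻¹ := by group
    _ = n * (v * (n⁻¹ * w * n)) * n⁻¹ := by rw [this]
    _ = _ := by group

/-- Two commuting involutions are moved into `S`. -/
theorem pair_into {x y : G} (hx : x * x = 1) (hy : y * y = 1) (hxy : x * y = y * x) :
    ∃ k : G, k * x * k⁻¹ ∈ (S : Subgroup G) ∧ k * y * k⁻¹ ∈ (S : Subgroup G) := by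
  have hQ : IsPGroup 2 (Subgroup.zpowers x ⊔ Subgroup.zpowers y : Subgroup G) := by
    refine (isPGroup_zpowers_of_sq hx).to_sup_of_normal_right' (isPGroup_zpowers_of_sq hy)
      (Subgroup.zpowers_le.2 (mem_normalizer_of_forall ?_))
    rintro _ ⟨i, rfl⟩
    show x * y ^ i * x⁻¹ ∈ _
    rw [((show Commute x y from hxy).zpow_right i).eq, mul_inv_cancel_right]
    exact zpow_mem (Subgroup.mem_zpowers y) i
  obtain ⟨k, hk⟩ := AEightThreeGen62.exists_conj_into S hQ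
  exact ⟨k, hk x (Subgroup.mem_sup_left (Subgroup.mem_zpowers x)),
    hk y (Subgroup.mem_sup_right (Subgroup.mem_zpowers y))⟩

include hA hB

theorem mem_Z_of_conj {z x : G} (hz : z ∈ h.Z) (hzx : IsConj z x) (hx : x ∈ (S : Subgroup G)) :
    x ∈ h.Z := by
  obtain ⟨g, rfl⟩ := isConj_iff.1 hzx
  exact h.closed_Z le_top hA hB hz (Subgroup.mem_top g) hx

theorem mem_A_of_conj {a x : G} (ha : a ∈ h.A) (haZ : a ∉ h.Z) (hax : IsConj a x)
    (hx : x ∈ (S : Subgroup G)) : x ∈ h.A ∧ x ∉ h.Z := by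
  obtain ⟨g, rfl⟩ := isConj_iff.1 hax
  refine ⟨h.closed_A le_top hB ha (Subgroup.mem_top g) hx, fun e => haZ ?_⟩
  exact h.mem_Z_of_conj hA hB e hax.symm (h.A_le ha)

theorem mem_B_of_conj {b x : G} (hb : b ∈ h.B) (hbZ : b ∉ h.Z) (hbx : IsConj b x)
    (hx : x ∈ (S : Subgroup G)) : x ∈ h.B ∧ x ∉ h.Z := by
  have := h.swap.mem_A_of_conj hB (h.fixZ_swap_swap hA) (h.swap_A ▸ hb) (by rwa [h.swap_Z]) hbx hx
  rwa [h.swap_A, h.swap_Z] at this

/-- The central involution of a `z`-element and an `a`-element is an `a`-element. -/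
theorem ctr_za {z a p v : G} (hz : z ∈ h.Z) (hz1 : z ≠ 1) (ha : a ∈ h.A) (haZ : a ∉ h.Z)
    (hp : IsConj z p) (hv : IsConj a v) :
    Even (orderOf (p * v)) ∧ Odd (orderOf (p * v) / 2) ∧ IsConj a (ctr p v) := by
  have hp2 := sq_of_isConj (h.Z_sq hz) hp
  have hv2 := sq_of_isConj (h.A_sq ha) hv
  have he : Even (orderOf (p * v)) := L34Syl83Klein.even_order hp2 hv2 fun e =>
    haZ (h.mem_Z_of_conj hA hB hz (hp.trans (e.trans hv.symm)) (h.A_le ha))
  have hctr2 := L34Syl83Klein.orderOf_ctr he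
  have hodd : Odd (orderOf (p * v) / 2) := by
    rw [← Nat.not_even_iff_odd]
    rintro ⟨j, hj⟩
    set w := (p * v) ^ j with hw
    have hww : w * w = ctr p v := by rw [hw, ← pow_add, ctr, hj]
    have hpw : p * w * p = w⁻¹ := L34Syl83Klein.conj_pow_mul hp2 hv2 j
    have hpi : p⁻¹ = p := inv_eq_of_mul_eq_one_right hp2
    have hw4 : IsPGroup 2 (Subgroup.zpowers w) := by
      rintro ⟨_, i, rfl⟩
      refine ⟨2, Subtype.ext ?_⟩
      show (w ^ i) ^ (2 ^ 2) = 1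
      rw [← zpow_natCast, ← zpow_mul, mul_comm, zpow_mul, zpow_natCast,
        show 2 ^ 2 = 2 * 2 by norm_num, pow_mul, pow_two w, hww, ← hctr2, pow_orderOf_eq_one, one_zpow]
    have hQ : IsPGroup 2 (Subgroup.zpowers p ⊔ Subgroup.zpowers w : Subgroup G) := by
      refine (isPGroup_zpowers_of_sq hp2).to_sup_of_normal_right' hw4
        (Subgroup.zpowers_le.2 (mem_normalizer_of_forall ?_))
      rintro _ ⟨i, rfl⟩
      show p * w ^ i * p⁻¹ ∈ _
      rw [← conj_zpow, hpi, hpw]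
      exact zpow_mem (inv_mem (Subgroup.mem_zpowers w)) i
    obtain ⟨k, hk⟩ := AEightThreeGen62.exists_conj_into S hQ
    have h1 := h.mem_Z_of_conj hA hB hz ((isConj_conj k).2 hp)
      (hk p (Subgroup.mem_sup_left (Subgroup.mem_zpowers p)))
    have h2 := h.Z_comm h1 (hk w (Subgroup.mem_sup_right (Subgroup.mem_zpowers w)))
    rw [conj_mul, conj_mul] at h2
    have h3 : p * w = w * p := mul_left_cancel (mul_right_cancel h2)
    rw [h3, mul_assoc, hp2, mul_one] at hpw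
    have h4 : ctr p v = 1 := by rw [← hww]; nth_rw 2 [hpw]; exact mul_inv_cancel w
    rw [h4, orderOf_one] at hctr2
    omega
  refine ⟨he, hodd, ?_⟩
  have hc := L34Syl83Klein.conj_mul_ctr hp2 hv2 he hodd
  have hcomm : v * ctr p v = ctr p v * v := (L34Syl83Klein.ctr_comm_right hp2 hv2 he).symm
  obtain ⟨k, hk1, hk2⟩ := h.pair_into hv2 (L34Syl83Klein.ctr_sq he) hcomm
  obtain ⟨hvA, hvZ⟩ := h.mem_A_of_conj hA hB ha haZ ((isConj_conj k).2 hv) hk1
  have hvi := h.mem_Z_of_conj hA hB hz ((isConj_conj k).2 (hp.trans hc))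
    (by rw [← conj_mul]; exact mul_mem hk1 hk2)
  obtain ⟨s, -, hs⟩ := h.exists_shift hvA hvZ hvi
  refine (isConj_conj k).1 (((isConj_conj k).2 hv).trans (isConj_iff.2 ⟨s, ?_⟩))
  rw [hs, conj_mul, show k * (v * (v * ctr p v)) * k⁻¹ = k * (v * v) * ctr p v * k⁻¹ by group, hv2,
    mul_one]


/-- The central involution of an `a`-element and a `b`-element is conjugate into `Z#`. -/
theorem ctr_ab {a b v w : G} (ha : a ∈ h.A) (haZ : a ∉ h.Z) (hb : b ∈ h.B) (hbZ : b ∉ h.Z)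
    (hv : IsConj a v) (hw : IsConj b w) :
    Even (orderOf (v * w)) ∧ ∃ k : G, k * ctr v w * k⁻¹ ∈ h.Z ∧ k * ctr v w * k⁻¹ ≠ 1 := by
  have hv2 := sq_of_isConj (h.A_sq ha) hv
  have hw2 := sq_of_isConj (h.B_sq hb) hw
  have he : Even (orderOf (v * w)) := L34Syl83Klein.even_order hv2 hw2 fun e => by
    have := h.mem_A_of_conj hA hB ha haZ (hv.trans (e.trans hw.symm)) (h.B_le hb)
    exact hbZ ⟨this.1, hb⟩
  refine ⟨he, ?_⟩
  obtain ⟨k, hk1, hk2⟩ := h.pair_into hv2 (L34Syl83Klein.ctr_sq he)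
    (L34Syl83Klein.ctr_comm_left hv2 hw2 he).symm
  obtain ⟨l, hl1, hl2⟩ := h.pair_into hw2 (L34Syl83Klein.ctr_sq he)
    (L34Syl83Klein.ctr_comm_right hv2 hw2 he).symm
  obtain ⟨hvA, hvZ⟩ := h.mem_A_of_conj hA hB ha haZ ((isConj_conj k).2 hv) hk1
  obtain ⟨hwB, hwZ⟩ := h.mem_B_of_conj hA hB hb hbZ ((isConj_conj l).2 hw) hl1
  have hiA : k * ctr v w * k⁻¹ ∈ h.A := h.mem_A_of_comm hk2 hvA hvZ (by
    rw [conj_mul, conj_mul, L34Syl83Klein.ctr_comm_left hv2 hw2 he])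
  have hiB : l * ctr v w * l⁻¹ ∈ h.B := by
    rw [← h.swap_A] at hwB ⊢
    rw [← h.swap_Z] at hwZ
    exact h.swap.mem_A_of_comm hl2 hwB hwZ (by
      rw [conj_mul, conj_mul, L34Syl83Klein.ctr_comm_right hv2 hw2 he])
  refine ⟨l, ⟨?_, hiB⟩, fun e => ?_⟩
  · have e : l * k⁻¹ * (k * ctr v w * k⁻¹) * (l * k⁻¹)⁻¹ = l * ctr v w * l⁻¹ := by group
    rw [← e]
    exact h.closed_A le_top hB hiA (Subgroup.mem_top _) (by rw [e]; exact hl2)
  · exact L34Syl83Klein.ne_one_of_order (L34Syl83Klein.orderOf_ctr he) (conj_eq_one_iff.1 e)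

/-- `|a^G ∩ C(z)| = q |a^G ∩ C(Z)|`. -/
theorem class_count {z a : G} (hz : z ∈ h.Z) (hz1 : z ≠ 1) (ha : a ∈ h.A) (haZ : a ∉ h.Z) {q : ℕ}
    (hq : q ^ 2 * Nat.card (Subgroup.centralizer (h.Z : Set G)) =
      Nat.card (Subgroup.centralizer ({z} : Set G))) :
    Nat.card {v : G // IsConj a v ∧ v * z = z * v} =
      q * Nat.card {v : G // IsConj a v ∧ v ∈ Subgroup.centralizer (h.Z : Set G)} := by
  obtain ⟨w, hw, hw1, hwz⟩ := h.exists_other z
  have horb := card_orbit (Subgroup.centralizer ({z} : Set G)) w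
  rw [h.cent_inf_cent hz hw hz1 hw1 hwz.symm] at horb
  have hn : Nat.card {i : G // ∃ g ∈ Subgroup.centralizer ({z} : Set G), g * w * g⁻¹ = i} = q ^ 2 :=
    Nat.eq_of_mul_eq_mul_right Nat.card_pos (horb.trans hq.symm)
  have hq0 : 0 < q := by
    rcases Nat.eq_zero_or_pos q with rfl | hq0
    · have : 0 < Nat.card (Subgroup.centralizer ({z} : Set G)) := Nat.card_pos
      simp [← hq] at this
    · exact hq0
  have hdc := double_count (fun (v : {v : G // IsConj a v ∧ v * z = z * v})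
      (i : {i : G // ∃ g ∈ Subgroup.centralizer ({z} : Set G), g * w * g⁻¹ = i}) =>
      (i : G) * v = v * i) q
    (Nat.card {v : G // IsConj a v ∧ v ∈ Subgroup.centralizer (h.Z : Set G)}) ?_ ?_
  · rw [hn, pow_two, mul_assoc, mul_comm (Nat.card _) q] at hdc
    exact Nat.eq_of_mul_eq_mul_left hq0 hdc
  · intro v
    have hv2 := sq_of_isConj (h.A_sq ha) v.2.1
    obtain ⟨d, hd, hdS⟩ := conj_into S (h.S_le_cent hz)
      (Subgroup.zpowers_le.2 (Subgroup.mem_centralizer_singleton_iff.2 v.2.2))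
      (isPGroup_zpowers_of_sq hv2)
    set a' := d * (v : G) * d⁻¹ with ha'
    obtain ⟨ha'A, ha'Z⟩ := h.mem_A_of_conj hA hB ha haZ (a := a) (x := a')
      ((isConj_conj d).2 v.2.1) (hdS v (Subgroup.mem_zpowers _))
    obtain ⟨q', hq', -, hq'N, -⟩ := h.exists_ratio hA hB hz hz1 hw hw1 hwz.symm ha'A ha'Z
    obtain rfl := eq_of_sq_mul Nat.card_pos hq hq'N
    rw [← hq']
    refine Nat.card_congr
      { toFun := fun i => ⟨d * i.1.1 * d⁻¹, ?_⟩
        invFun := fun i => ⟨⟨d⁻¹ * i.1 * d, ?_⟩, ?_⟩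
        left_inv := fun i => Subtype.ext (Subtype.ext (by simp [mul_assoc]))
        right_inv := fun i => Subtype.ext (by simp [mul_assoc]) }
    · obtain ⟨g, hg, hgw⟩ := i.1.2
      set g' := d * g with hg'
      have hg'C : g' ∈ Subgroup.centralizer ({z} : Set G) := mul_mem hd hg
      obtain ⟨c, hcR, hcz, hce⟩ := h.split hA hB hz hz1 hw hw1 hg'C
      have e : g' * w * g'⁻¹ = d * i.1.1 * d⁻¹ := by rw [← hgw, hg']; group
      have hcom : d * i.1.1 * d⁻¹ * a' = a' * (d * i.1.1 * d⁻¹) := by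
        rw [ha', conj_mul, conj_mul, i.2]
      refine ⟨c, Subgroup.mem_inf.2 ⟨SignalizerBasic.centralizerPPrimeCore_le 2 z hcR,
        (Subgroup.zpowers_le.2 ?_) hcz⟩, hce.trans e⟩
      refine mul_mem (Subgroup.mem_centralizer_singleton_iff.2
        (h.A_comm (h.Z_le_A hw) ha'A)) ?_
      rw [e]
      exact Subgroup.mem_centralizer_singleton_iff.2 hcom
    · obtain ⟨g, hg, hgw⟩ := i.2
      exact ⟨d⁻¹ * g, mul_mem (inv_mem hd) hg.1, by rw [← hgw]; group⟩
    · obtain ⟨g, hg, hgw⟩ := i.2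
      have hgwC : g * w * g⁻¹ ∈ Subgroup.centralizer ({a'} : Set G) :=
        mul_mem (mul_mem hg.2 (Subgroup.mem_centralizer_singleton_iff.2
          (h.A_comm (h.Z_le_A hw) ha'A))) (inv_mem hg.2)
      have := Subgroup.mem_centralizer_singleton_iff.1 hgwC
      rw [hgw] at this
      show d⁻¹ * i.1 * d * v = v * (d⁻¹ * i.1 * d)
      calc d⁻¹ * i.1 * d * v = d⁻¹ * (i.1 * (d * (v : G) * d⁻¹)) * d := by group
        _ = d⁻¹ * ((d * (v : G) * d⁻¹) * i.1) * d := congrArg (fun t => d⁻¹ * t * d) this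
        _ = _ := by group
  · rintro ⟨i, g, hg, rfl⟩
    have hgz : g * z * g⁻¹ = z := by
      rw [Subgroup.mem_centralizer_singleton_iff.1 hg, mul_inv_cancel_right]
    refine Nat.card_congr
      { toFun := fun v => ⟨g⁻¹ * v.1.1 * g, by
          refine ⟨by simpa using (isConj_conj g⁻¹).2 v.1.2.1, h.mem_cZ_of_two hz hw hz1 hw1 hwz.symm ?_ ?_⟩
          · calc z * (g⁻¹ * v.1.1 * g) = g⁻¹ * ((g * z * g⁻¹) * v.1.1) * g := by group
              _ = g⁻¹ * (v.1.1 * (g * z * g⁻¹)) * g := by rw [hgz, v.1.2.2]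
              _ = _ := by group
          · calc w * (g⁻¹ * v.1.1 * g) = g⁻¹ * ((g * w * g⁻¹) * v.1.1) * g := by group
              _ = g⁻¹ * (v.1.1 * (g * w * g⁻¹)) * g :=
                congrArg (fun t => g⁻¹ * t * g) v.2
              _ = _ := by group⟩
        invFun := fun v => ⟨⟨g * v.1 * g⁻¹, (isConj_conj g).2 v.2.1, by
            conv_lhs => rw [← hgz]
            conv_rhs => rw [← hgz]
            rw [conj_mul, conj_mul, h.mem_cZ_iff.1 v.2.2 z hz]⟩, by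
          show g * w * g⁻¹ * (g * v.1 * g⁻¹) = g * v.1 * g⁻¹ * (g * w * g⁻¹)
          rw [conj_mul, conj_mul, h.mem_cZ_iff.1 v.2.2 w hw]⟩
        left_inv := fun v => Subtype.ext (Subtype.ext (by simp [mul_assoc]))
        right_inv := fun v => Subtype.ext (by simp [mul_assoc]) }

/-- `3 #pairs(a, b; z) = q² |a^G ∩ C(Z)| |b^G ∩ C(Z)|`. -/
theorem pairs_ab {z a b : G} (hz : z ∈ h.Z) (hz1 : z ≠ 1)
    (hconj : ∀ x ∈ h.Z, x ≠ 1 → IsConj z x) (ha : a ∈ h.A) (haZ : a ∉ h.Z) (hb : b ∈ h.B)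
    (hbZ : b ∉ h.Z) {q : ℕ}
    (hq : q ^ 2 * Nat.card (Subgroup.centralizer (h.Z : Set G)) =
      Nat.card (Subgroup.centralizer ({z} : Set G))) :
    3 * pairs a b z = q ^ 2 *
      (Nat.card {v : G // IsConj a v ∧ v ∈ Subgroup.centralizer (h.Z : Set G)} *
        Nat.card {v : G // IsConj b v ∧ v ∈ Subgroup.centralizer (h.Z : Set G)}) := by
  classical
  haveI := Fintype.ofFinite G
  obtain ⟨w, hw, hw1, hwz⟩ := h.exists_other z
  set u := z * w with hu
  have huZ : u ∈ h.Z := mul_mem hz hw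
  have hu1 : u ≠ 1 := fun e => hwz (by
    rw [hu, ← h.Z_sq hz] at e
    exact mul_left_cancel e)
  have huz : z ≠ u := fun e => hw1 (mul_eq_left.1 e.symm)
  have huw : w ≠ u := fun e => hz1 (mul_eq_right.1 e.symm)
  set CZ := Subgroup.centralizer (h.Z : Set G) with hCZ
  let Ya := {v : G // IsConj a v ∧ v ∈ CZ}
  let Yb := {v : G // IsConj b v ∧ v ∈ CZ}
  let Xa := {v : G // IsConj a v ∧ v * z = z * v}
  let Xb := {v : G // IsConj b v ∧ v * z = z * v}
  let fy : Ya × Yb → G := fun p => ctr p.1.1 p.2.1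
  let fx : Xa × Xb → G := fun p => ctr p.1.1 p.2.1
  -- fibres over `Z#` in `C(Z)` all have the same size
  have hsym : ∀ x ∈ h.Z, x ≠ 1 →
      Nat.card {p // fy p = x} = Nat.card {p // fy p = z} := by
    intro x hx hx1
    obtain ⟨g, hg⟩ := isConj_iff.1 (hconj x hx hx1)
    obtain ⟨n, -, hn, e⟩ := h.fusion_A le_top (h.Z_le_A hz) (Subgroup.mem_top g)
      (by rw [hg]; exact h.Z_le_A hx)
    rw [hg] at e
    have hnZ := h.nA_le_nZ hA hn
    symm
    refine Nat.card_congr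
      { toFun := fun p => ⟨(⟨n * p.1.1.1 * n⁻¹, (isConj_conj n).2 p.1.1.2.1,
            h.conj_mem_cZ hnZ p.1.1.2.2⟩,
          ⟨n * p.1.2.1 * n⁻¹, (isConj_conj n).2 p.1.2.2.1, h.conj_mem_cZ hnZ p.1.2.2.2⟩), by
            show ctr (n * p.1.1.1 * n⁻¹) (n * p.1.2.1 * n⁻¹) = x
            rw [L34Syl83Klein.ctr_map, show ctr p.1.1.1 p.1.2.1 = z from p.2, e]⟩
        invFun := fun p => ⟨(⟨n⁻¹ * p.1.1.1 * n⁻¹⁻¹, (isConj_conj _).2 p.1.1.2.1,
            h.conj_mem_cZ (inv_mem hnZ) p.1.1.2.2⟩,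
          ⟨n⁻¹ * p.1.2.1 * n⁻¹⁻¹, (isConj_conj _).2 p.1.2.2.1,
            h.conj_mem_cZ (inv_mem hnZ) p.1.2.2.2⟩), by
            show ctr (n⁻¹ * p.1.1.1 * n⁻¹⁻¹) (n⁻¹ * p.1.2.1 * n⁻¹⁻¹) = z
            rw [L34Syl83Klein.ctr_map, show ctr p.1.1.1 p.1.2.1 = x from p.2, ← e]
            group⟩
        left_inv := fun p => Subtype.ext (Prod.ext (Subtype.ext (by simp [mul_assoc]))
          (Subtype.ext (by simp [mul_assoc])))
        right_inv := fun p => Subtype.ext (Prod.ext (Subtype.ext (by simp [mul_assoc]))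
          (Subtype.ext (by simp [mul_assoc]))) }
  have hY : Nat.card Ya * Nat.card Yb = 3 * Nat.card {p // fy p = z} := by
    rw [← Nat.card_prod, card_fiberwise fy {z, w, u} fun p => ?_]
    · rw [Finset.sum_insert (by simp [hwz.symm, huz]), Finset.sum_insert (by simp [huw]),
        Finset.sum_singleton, hsym w hw hw1, hsym u huZ hu1]
      ring
    · obtain ⟨he, k, hk, hk1⟩ := h.ctr_ab hA hB ha haZ hb hbZ p.1.2.1 p.2.2.1
      have hiC : fy p ∈ CZ := pow_mem (mul_mem p.1.2.2 p.2.2.2) _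
      have h2 : fy p * fy p = 1 := L34Syl83Klein.ctr_sq he
      obtain ⟨d, hd, hdS⟩ := conj_into S h.S_le_cZ (Subgroup.zpowers_le.2 hiC)
        (isPGroup_zpowers_of_sq h2)
      have hdS' := hdS _ (Subgroup.mem_zpowers (fy p))
      have hmem : d * fy p * d⁻¹ ∈ h.Z :=
        h.mem_Z_of_conj hA hB hk ((isConj_conj d).2 (isConj_iff.2 ⟨k⁻¹, by simp [fy, mul_assoc]⟩))
          hdS'
      have hfix : d * fy p * d⁻¹ = fy p := by
        have := h.mem_cZ_iff.1 hd _ hmem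
        calc d * fy p * d⁻¹ = d⁻¹ * (d * (d * fy p * d⁻¹)) := by group
          _ = d⁻¹ * ((d * fy p * d⁻¹) * d) := by rw [this]
          _ = _ := by group
      rw [hfix] at hmem
      rcases h.Z_cases hz hw hmem hz1 hw1 hwz.symm with e | e | e | e
      · exact absurd e (L34Syl83Klein.ne_one_of_order (L34Syl83Klein.orderOf_ctr he))
      · rw [e]; simp
      · rw [e]; simp
      · rw [e]; simp [hu]
  -- fibres in `C(z)`
  set Cz := Subgroup.centralizer ({z} : Set G) with hCz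
  let O : G → Finset G := fun x => Finset.univ.filter fun i => ∃ g ∈ Cz, g * x * g⁻¹ = i
  have hOcard : ∀ x ∈ h.Z, x ≠ 1 → z ≠ x → (O x).card = q ^ 2 := by
    intro x hx hx1 hzx
    have horb := card_orbit Cz x
    rw [hCz, h.cent_inf_cent hz hx hz1 hx1 hzx] at horb
    have := Nat.eq_of_mul_eq_mul_right Nat.card_pos (horb.trans hq.symm)
    rwa [Nat.card_eq_fintype_card, Fintype.card_subtype] at this
  have hfib : ∀ x ∈ h.Z, x ≠ 1 → z ≠ x → ∀ i ∈ O x,
      Nat.card {p // fx p = i} = Nat.card {p // fy p = x} := by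
    intro x hx hx1 hzx i hi
    obtain ⟨-, g, hg, rfl⟩ := Finset.mem_filter.1 hi
    have hgz : g * z * g⁻¹ = z := by
      rw [Subgroup.mem_centralizer_singleton_iff.1 hg, mul_inv_cancel_right]
    have hback : ∀ y : G, y ∈ CZ → g * y * g⁻¹ * z = z * (g * y * g⁻¹) := fun y hy => by
      conv_lhs => rw [← hgz]
      conv_rhs => rw [← hgz]
      rw [conj_mul, conj_mul, h.mem_cZ_iff.1 hy z hz]
    have hin : ∀ y : G, y * z = z * y → y * (g * x * g⁻¹) = g * x * g⁻¹ * y →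
        g⁻¹ * y * g⁻¹⁻¹ ∈ CZ := fun y hy hyx => by
      refine h.mem_cZ_of_two hz hx hz1 hx1 hzx ?_ ?_
      · rw [← hgz] at hy
        calc z * (g⁻¹ * y * g⁻¹⁻¹) = g⁻¹ * ((g * z * g⁻¹) * y) * g := by group
          _ = g⁻¹ * (y * (g * z * g⁻¹)) * g := by rw [hy]
          _ = _ := by group
      · calc x * (g⁻¹ * y * g⁻¹⁻¹) = g⁻¹ * ((g * x * g⁻¹) * y) * g := by group
          _ = g⁻¹ * (y * (g * x * g⁻¹)) * g := by rw [hyx]
          _ = _ := by group
    refine Nat.card_congr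
      { toFun := fun p => ⟨(⟨g⁻¹ * p.1.1.1 * g⁻¹⁻¹, (isConj_conj _).2 p.1.1.2.1, ?_⟩,
          ⟨g⁻¹ * p.1.2.1 * g⁻¹⁻¹, (isConj_conj _).2 p.1.2.2.1, ?_⟩), ?_⟩
        invFun := fun p => ⟨(⟨g * p.1.1.1 * g⁻¹, (isConj_conj _).2 p.1.1.2.1, hback _ p.1.1.2.2⟩,
          ⟨g * p.1.2.1 * g⁻¹, (isConj_conj _).2 p.1.2.2.1, hback _ p.1.2.2.2⟩), by
            show ctr (g * p.1.1.1 * g⁻¹) (g * p.1.2.1 * g⁻¹) = g * x * g⁻¹
            rw [L34Syl83Klein.ctr_map, show ctr p.1.1.1 p.1.2.1 = x from p.2]⟩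
        left_inv := fun p => Subtype.ext (Prod.ext (Subtype.ext (by simp [mul_assoc]))
          (Subtype.ext (by simp [mul_assoc])))
        right_inv := fun p => Subtype.ext (Prod.ext (Subtype.ext (by simp [mul_assoc]))
          (Subtype.ext (by simp [mul_assoc]))) }
    · obtain ⟨he, -⟩ := h.ctr_ab hA hB ha haZ hb hbZ p.1.1.2.1 p.1.2.2.1
      exact hin _ p.1.1.2.2 (by
        have e := (L34Syl83Klein.ctr_comm_left
        (sq_of_isConj (h.A_sq ha) p.1.1.2.1) (sq_of_isConj (h.B_sq hb) p.1.2.2.1) he).symm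
        rwa [show ctr p.1.1.1 p.1.2.1 = g * x * g⁻¹ from p.2] at e)
    · obtain ⟨he, -⟩ := h.ctr_ab hA hB ha haZ hb hbZ p.1.1.2.1 p.1.2.2.1
      exact hin _ p.1.2.2.2 (by
        have e := (L34Syl83Klein.ctr_comm_right
        (sq_of_isConj (h.A_sq ha) p.1.1.2.1) (sq_of_isConj (h.B_sq hb) p.1.2.2.1) he).symm
        rwa [show ctr p.1.1.1 p.1.2.1 = g * x * g⁻¹ from p.2] at e)
    · show ctr (g⁻¹ * p.1.1.1 * g⁻¹⁻¹) (g⁻¹ * p.1.2.1 * g⁻¹⁻¹) = x
      rw [L34Syl83Klein.ctr_map, show ctr p.1.1.1 p.1.2.1 = g * x * g⁻¹ from p.2]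
      group
  have hzfib : Nat.card {p // fx p = z} = pairs a b z := by
    refine Nat.card_congr
      { toFun := fun p => ⟨(p.1.1.1, p.1.2.1), p.1.1.2.1, p.1.2.2.1, p.2⟩
        invFun := fun p => ⟨(⟨p.1.1, p.2.1, ?_⟩, ⟨p.1.2, p.2.2.1, ?_⟩), p.2.2.2⟩
        left_inv := fun _ => rfl
        right_inv := fun _ => rfl }
    · obtain ⟨he, -⟩ := h.ctr_ab hA hB ha haZ hb hbZ p.2.1 p.2.2.1
      have e := (L34Syl83Klein.ctr_comm_left
        (sq_of_isConj (h.A_sq ha) p.2.1) (sq_of_isConj (h.B_sq hb) p.2.2.1) he).symm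
      rwa [p.2.2.2] at e
    · obtain ⟨he, -⟩ := h.ctr_ab hA hB ha haZ hb hbZ p.2.1 p.2.2.1
      have e := (L34Syl83Klein.ctr_comm_right
        (sq_of_isConj (h.A_sq ha) p.2.1) (sq_of_isConj (h.B_sq hb) p.2.2.1) he).symm
      rwa [p.2.2.2] at e
  have hnotO : ∀ x ∈ h.Z, z ≠ x → z ∉ O x := by
    intro x hx hzx hmem
    obtain ⟨-, g, hg, e⟩ := Finset.mem_filter.1 hmem
    exact hzx ((h.fix_in_cent hA hB hz hz1 hx hg (e ▸ h.Z_le hz)).symm.trans e).symm
  have hdisj : Disjoint (O w) (O u) := by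
    rw [Finset.disjoint_left]
    intro i h1 h2
    obtain ⟨-, g, hg, e1⟩ := Finset.mem_filter.1 h1
    obtain ⟨-, d, hd, e2⟩ := Finset.mem_filter.1 h2
    have e : d⁻¹ * g * w * (d⁻¹ * g)⁻¹ = u := by
      rw [show d⁻¹ * g * w * (d⁻¹ * g)⁻¹ = d⁻¹ * (g * w * g⁻¹) * d by group, e1, ← e2]; group
    exact huw ((h.fix_in_cent hA hB hz hz1 hw (mul_mem (inv_mem hd) hg)
      (e ▸ h.Z_le huZ)).symm.trans e)
  have hX : Nat.card Xa * Nat.card Xb = pairs a b z + 2 * (q ^ 2 * Nat.card {p // fy p = z}) := by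
    rw [← Nat.card_prod, card_fiberwise fx (insert z (O w ∪ O u)) fun p => ?_,
      Finset.sum_insert (by simp [hnotO w hw hwz.symm, hnotO u huZ huz]),
      Finset.sum_union hdisj, hzfib,
      Finset.sum_congr rfl (hfib w hw hw1 hwz.symm), Finset.sum_congr rfl (hfib u huZ hu1 huz),
      Finset.sum_const, Finset.sum_const, hOcard w hw hw1 hwz.symm, hOcard u huZ hu1 huz,
      hsym w hw hw1, hsym u huZ hu1, smul_eq_mul, two_mul]
    obtain ⟨he, k, hk, hk1⟩ := h.ctr_ab hA hB ha haZ hb hbZ p.1.2.1 p.2.2.1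
    have hiC : fx p ∈ Cz := pow_mem (mul_mem (Subgroup.mem_centralizer_singleton_iff.2 p.1.2.2)
      (Subgroup.mem_centralizer_singleton_iff.2 p.2.2.2)) _
    obtain ⟨d, hd, hdS⟩ := conj_into S (h.S_le_cent hz) (Subgroup.zpowers_le.2 hiC)
      (isPGroup_zpowers_of_sq (L34Syl83Klein.ctr_sq he))
    have hmem : d * fx p * d⁻¹ ∈ h.Z :=
      h.mem_Z_of_conj hA hB hk ((isConj_conj d).2 (isConj_iff.2 ⟨k⁻¹, by simp [fx, mul_assoc]⟩))
        (hdS _ (Subgroup.mem_zpowers _))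
    have eback : d⁻¹ * (d * fx p * d⁻¹) * d⁻¹⁻¹ = fx p := by group
    rcases h.Z_cases hz hw hmem hz1 hw1 hwz.symm with e | e | e | e
    · exact absurd (conj_eq_one_iff.1 e)
        (L34Syl83Klein.ne_one_of_order (L34Syl83Klein.orderOf_ctr he))
    · rw [e, Subgroup.mem_centralizer_singleton_iff.1 (inv_mem hd), mul_inv_cancel_right] at eback
      rw [← eback]
      exact Finset.mem_insert_self _ _
    · rw [e] at eback
      exact Finset.mem_insert_of_mem (Finset.mem_union_left _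
        (Finset.mem_filter.2 ⟨Finset.mem_univ _, d⁻¹, inv_mem hd, eback⟩))
    · rw [e] at eback
      exact Finset.mem_insert_of_mem (Finset.mem_union_right _
        (Finset.mem_filter.2 ⟨Finset.mem_univ _, d⁻¹, inv_mem hd, eback⟩))
  have ca : Nat.card Xa = q * Nat.card Ya := h.class_count hA hB hz hz1 ha haZ hq
  have cb : Nat.card Xb = q * Nat.card Yb := by
    have := h.swap.class_count hB (h.fixZ_swap_swap hA) (a := b) (h.swap_Z ▸ hz) hz1
      (h.swap_A ▸ hb) (by rwa [h.swap_Z]) (q := q) (by rw [h.swap_Z]; exact hq)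
    rwa [h.swap_Z] at this
  rw [ca, cb] at hX
  have e : q ^ 2 * (Nat.card Ya * Nat.card Yb) =
      pairs a b z + 2 * (q ^ 2 * Nat.card {p // fy p = z}) := by rw [← hX]; ring
  show 3 * pairs a b z = q ^ 2 * (Nat.card Ya * Nat.card Yb)
  rw [hY] at e ⊢
  have : q ^ 2 * (3 * Nat.card {p // fy p = z}) =
      q ^ 2 * Nat.card {p // fy p = z} + 2 * (q ^ 2 * Nat.card {p // fy p = z}) := by ring
  have := Nat.add_right_cancel (this.symm.trans e)
  rw [← this]; ring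

end Chart

end Cfsg.Agent.L34Syl83
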