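import Mathlib
import Cfsg.Agent.Lib.L34Syl83Pairs62
import Cfsg.Agent.Lib.L34Syl83KleinSolv62

/-!
# Type `L₃(4)` Sylow subgroup, both normalisers fixing `Z`: noncentral centralisers are solvable

If `C(a)` is not solvable, all of `Z#` is fused to `z`; the pairs `(z, a)` give `|z^G| = m (m - 2q²)`,
the pairs `(a, b)` give `m m' = 3 |z^G|`, so `m = 3q²`, which forces `C(a)` to be solvable.
-/

set_option autoImplicit false

namespace Cfsg.Agent.L34Syl83

open Cfsg
open L34Syl83Klein (ctr pairs)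

attribute [local instance] AEightThreeGen62.fact2

variable {G : Type*} [Group G] [Finite G] {S : Sylow 2 G} {F : Type*} [Field F] [Fintype F]

namespace Chart

variable (h : Chart F (S : Subgroup G)) (hA : h.FixZ ⊤) (hB : h.swap.FixZ ⊤)
include h hA hB

/-- The elements of the class of `z` in `C(a)` are the involutions of the kernel. -/
theorem ztype_iff {z a : G} (hz : z ∈ h.Z) (hz1 : z ≠ 1) (hconj : ∀ x ∈ h.Z, x ≠ 1 → IsConj z x)
    (ha : a ∈ h.A) (haZ : a ∉ h.Z) {K : Subgroup ↥(Subgroup.centralizer ({a} : Set G))} [K.Normal]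
    (hKA : ∀ x : Subgroup.centralizer ({a} : Set G), (x : G) ∈ h.A → (x ∈ K ↔ (x : G) ∈ h.Z))
    (i : Subgroup.centralizer ({a} : Set G)) :
    (i ∈ K ∧ orderOf i = 2) ↔ IsConj z (i : G) := by
  obtain ⟨P, hP⟩ := h.sylow_A hA ha haZ (H := Subgroup.centralizer ({a} : Set G)) le_rfl
    (h.A_le_cent hA ha)
  constructor
  · rintro ⟨hiK, hi⟩
    obtain ⟨g, hg⟩ := AEightThreeGen62.exists_conj_mem P (x := i) (hi ▸ pow_orderOf_eq_one i)
    replace hg := hP.le hg
    have hZ : ((g * i * g⁻¹ : Subgroup.centralizer ({a} : Set G)) : G) ∈ h.Z :=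
      (hKA (g * i * g⁻¹) hg).1 ((inferInstance : K.Normal).conj_mem i hiK g)
    have h1 : ((g * i * g⁻¹ : Subgroup.centralizer ({a} : Set G)) : G) ≠ 1 := fun e => by
      have : i = 1 := conj_eq_one_iff.1 (show g * i * g⁻¹ = 1 from Subtype.ext e)
      rw [this, orderOf_one] at hi
      omega
    exact (isConj_conj (g : G)).1 (hconj _ hZ h1)
  · intro hi
    have hi2 : orderOf i = 2 := by
      rw [← Subgroup.orderOf_coe]
      refine h.orderOf_of_mem (sq_of_isConj (h.Z_sq hz) hi) fun e => hz1 ?_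
      rw [e] at hi
      exact isConj_one_left.1 hi
    obtain ⟨g, hg⟩ := AEightThreeGen62.exists_conj_mem P (x := i) (hi2 ▸ pow_orderOf_eq_one i)
    replace hg := hP.le hg
    have hgK : g * i * g⁻¹ ∈ K := (hKA (g * i * g⁻¹) hg).2
      (h.mem_Z_of_conj hA hB hz ((isConj_conj (g : G)).2 hi) (h.A_le hg))
    have := (inferInstance : K.Normal).conj_mem _ hgK g⁻¹
    exact ⟨by simpa [mul_assoc] using this, hi2⟩

/-- `|z^G| = m (m - 2q²)`. -/
theorem zclass_count {z a : G} (hz : z ∈ h.Z) (hz1 : z ≠ 1)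
    (hconj : ∀ x ∈ h.Z, x ≠ 1 → IsConj z x) (ha : a ∈ h.A) (haZ : a ∉ h.Z) :
    ∃ q o, 0 < q ∧ q ^ 2 * Nat.card (Subgroup.centralizer (h.Z : Set G)) =
        Nat.card (Subgroup.centralizer ({z} : Set G)) ∧
      o + 2 * q ^ 2 = Nat.card {i : G // IsConj z i ∧ i * a = a * i} ∧
      Nat.card {i : G // IsConj z i} = Nat.card {i : G // IsConj z i ∧ i * a = a * i} * o := by
  classical
  obtain ⟨K, P, hKn, -, hP4, hexp, hPmem, hKA, hdec⟩ := h.exists_kernel hA ha haZ
  haveI := hKn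
  obtain ⟨w₀, hw₀, hw₀1, hw₀z⟩ := h.exists_other z
  obtain ⟨q, -, hq0, hqN, -⟩ := h.exists_ratio hA hB hz hz1 hw₀ hw₀1 hw₀z.symm ha haZ
  have hztype := h.ztype_iff hA hB hz hz1 hconj ha haZ hKA
  -- the involutions of the kernel
  have hm : Nat.card {i : G // IsConj z i ∧ i * a = a * i} = Nat.card {k : K // orderOf k = 2} :=
    Nat.card_congr
      { toFun := fun i => ⟨⟨⟨i.1, Subgroup.mem_centralizer_singleton_iff.2 i.2.2⟩,
            ((hztype _).2 i.2.1).1⟩, by
          rw [← Subgroup.orderOf_coe]; exact ((hztype _).2 i.2.1).2⟩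
        invFun := fun k => ⟨((k.1 : Subgroup.centralizer ({a} : Set G)) : G),
          (hztype _).1 ⟨k.1.2, by rw [Subgroup.orderOf_coe]; exact k.2⟩,
          Subgroup.mem_centralizer_singleton_iff.1 (k.1 : Subgroup.centralizer ({a} : Set G)).2⟩
        left_inv := fun _ => rfl
        right_inv := fun _ => rfl }
  have hord : ∀ k : K, orderOf k = orderOf ((k : Subgroup.centralizer ({a} : Set G)) : G) := fun k =>
    ((Subgroup.orderOf_coe (k : Subgroup.centralizer ({a} : Set G))).trans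
      (Subgroup.orderOf_coe k)).symm
  -- centralisers in the kernel
  have hcz : ∀ x : K, x ∈ (P : Subgroup K) → x ≠ 1 →
      Nat.card (Subgroup.centralizer ({x} : Set K)) =
        q * Nat.card (Subgroup.centralizer ((P : Subgroup K) : Set K)) := by
    intro x hxP hx1
    set xG := ((x : Subgroup.centralizer ({a} : Set G)) : G) with hxG
    have hxZ : xG ∈ h.Z := (hPmem x).1 hxP
    have hxG1 : xG ≠ 1 := fun e => hx1 (Subtype.ext (Subtype.ext e))
    obtain ⟨y, hy, hy1, hyx⟩ := h.exists_other xG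
    obtain ⟨q', -, -, hq'N, hq'c⟩ := h.exists_ratio hA hB hxZ hxG1 hy hy1 hyx.symm ha haZ
    obtain rfl := eq_of_sq_mul Nat.card_pos hqN
      (hq'N.trans (L34Syl83Klein.card_cent_conj (hconj xG hxZ hxG1)).symm)
    have e1 : (((Subgroup.centralizer ({xG} : Set G)).subgroupOf
        (Subgroup.centralizer ({a} : Set G))).subgroupOf K) = Subgroup.centralizer ({x} : Set K) := by
      ext k
      rw [Subgroup.mem_subgroupOf, Subgroup.mem_subgroupOf, Subgroup.mem_centralizer_singleton_iff,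
        Subgroup.mem_centralizer_singleton_iff]
      exact ⟨fun e => Subtype.ext (Subtype.ext e),
        fun e => congrArg (fun t : K => ((t : Subgroup.centralizer ({a} : Set G)) : G)) e⟩
    have e2 : (((Subgroup.centralizer (h.Z : Set G)).subgroupOf
        (Subgroup.centralizer ({a} : Set G))).subgroupOf K) =
          Subgroup.centralizer ((P : Subgroup K) : Set K) := by
      ext k
      rw [Subgroup.mem_subgroupOf, Subgroup.mem_subgroupOf, Subgroup.mem_centralizer_iff,
        Subgroup.mem_centralizer_iff]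
      refine ⟨fun e t ht => Subtype.ext (Subtype.ext (e _ ((hPmem t).1 ht))), fun e t ht => ?_⟩
      exact congrArg (fun t : K => ((t : Subgroup.centralizer ({a} : Set G)) : G))
        (e ⟨⟨t, h.A_le_cent hA ha (h.Z_le_A ht)⟩, (hKA _ (h.Z_le_A ht)).2 ht⟩ ((hPmem _).2 ht))
    rw [h.card_cent_kernel hA ha hKA hdec ((h.A_le.trans (h.S_le_cent hxZ))),
      h.card_cent_kernel hA ha hKA hdec (h.A_le.trans h.S_le_cZ), e1, e2] at hq'c
    linarith
  -- partners
  have hc0 : 0 < Nat.card (Subgroup.centralizer ((P : Subgroup K) : Set K)) := Nat.card_pos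
  obtain ⟨o, ho, hpart⟩ : ∃ o, o + 2 * q ^ 2 = Nat.card {k : K // orderOf k = 2} ∧
      ∀ u : K, orderOf u = 2 → Nat.card {k : K // orderOf k = 2 ∧ Odd (orderOf (u * k))} = o := by
    have hP : ∀ x : K, x ∈ (P : Subgroup K) → orderOf x = 2 →
        Nat.card {k : K // orderOf k = 2 ∧ Odd (orderOf (x * k))} + 2 * q ^ 2 =
          Nat.card {k : K // orderOf k = 2} := by
      intro x hxP hx
      obtain ⟨y, hy, hy1, hyx⟩ := h.exists_other ((x : Subgroup.centralizer ({a} : Set G)) : G)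
      set t : K := ⟨⟨y, h.A_le_cent hA ha (h.Z_le_A hy)⟩, (hKA _ (h.Z_le_A hy)).2 hy⟩ with ht
      have htP : t ∈ (P : Subgroup K) := (hPmem t).2 hy
      have ht1 : t ≠ 1 := fun e => hy1
        (congrArg (fun t : K => ((t : Subgroup.centralizer ({a} : Set G)) : G)) e :)
      have ht2 : orderOf t = 2 := by rw [hord]; exact h.orderOf_of_mem (h.Z_sq hy) hy1
      have hxt : x ≠ t := fun e => hyx
        (congrArg (fun t : K => ((t : Subgroup.centralizer ({a} : Set G)) : G)) e.symm :)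
      have hxt1 : x * t ≠ 1 := fun e => hxt (by
        rw [mul_eq_one_iff_eq_inv.1 e, inv_eq_of_mul_eq_one_right
          (L34Syl83Klein.mul_self_of_order ht2)])
      have hx1 : x ≠ 1 := L34Syl83Klein.ne_one_of_order hx
      have e := L34Syl83Klein.odd_partners_general P hP4 hexp hxP htP hx ht2 hxt
      rw [hcz x hxP hx1, hcz t htP ht1, hcz (x * t) (mul_mem hxP htP) hxt1] at e
      refine Nat.eq_of_mul_eq_mul_right (pow_pos hc0 2) ?_
      rw [← e]; ring
    set z' : K := ⟨⟨z, h.A_le_cent hA ha (h.Z_le_A hz)⟩, (hKA _ (h.Z_le_A hz)).2 hz⟩ with hz'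
    have hz'2 : orderOf z' = 2 := by rw [hord]; exact h.orderOf_of_mem (h.Z_sq hz) hz1
    refine ⟨_, hP z' ((hPmem _).2 hz) hz'2, fun u hu => ?_⟩
    obtain ⟨PA, hPA⟩ := h.sylow_A hA ha haZ (H := Subgroup.centralizer ({a} : Set G)) le_rfl
      (h.A_le_cent hA ha)
    have hu2 : (u : Subgroup.centralizer ({a} : Set G)) ^ 2 = 1 := by
      rw [← hu, ← Subgroup.orderOf_coe, pow_orderOf_eq_one]
    obtain ⟨g, hg⟩ := AEightThreeGen62.exists_conj_mem PA hu2
    replace hg := hPA.le hg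
    set φ : MulAut K := MulAut.conjNormal g with hφ
    have hφP : φ u ∈ (P : Subgroup K) := by
      rw [hPmem, hφ, MulAut.conjNormal_apply]
      exact (hKA (g * (u : Subgroup.centralizer ({a} : Set G)) * g⁻¹) hg).1 (hKn.conj_mem _ u.2 g)
    have h1 := hP (φ u) hφP (by rw [MulEquiv.orderOf_eq, hu])
    have h2 : Nat.card {k : K // orderOf k = 2 ∧ Odd (orderOf (u * k))} =
        Nat.card {k : K // orderOf k = 2 ∧ Odd (orderOf (φ u * k))} :=
      Nat.card_congr (Equiv.subtypeEquiv φ.toEquiv fun k => by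
        show _ ↔ orderOf (φ k) = 2 ∧ Odd (orderOf (φ u * φ k))
        rw [← map_mul, MulEquiv.orderOf_eq, MulEquiv.orderOf_eq])
    have h3 := hP z' ((hPmem _).2 hz) hz'2
    omega
  refine ⟨q, o, hq0, hqN, by rw [hm]; exact ho, ?_⟩
  -- pairs
  have hone := L34Syl83Klein.pair_count_one (u := z) (v := a) (x := a)
    fun p v hp hv => (h.ctr_za hA hB hz hz1 ha haZ hp hv).2.2
  haveI : Nonempty {g : G // IsConj a g} := ⟨⟨a, IsConj.refl a⟩⟩
  rw [hm, Nat.eq_of_mul_eq_mul_right Nat.card_pos hone]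
  rw [← card_pairs (fun (u : {u : K // orderOf u = 2}) (k : K) =>
    orderOf k = 2 ∧ Odd (orderOf ((u : K) * k))) o fun u => hpart u u.2]
  have ha2 := h.A_sq ha
  have fwd : ∀ p : G × G, IsConj z p.1 → IsConj a p.2 → ctr p.1 p.2 = a →
      p.1 * a = a * p.1 ∧ p.2 * a = a * p.2 ∧ IsConj z (a * p.2) ∧
        Odd (orderOf (p.1 * (a * p.2))) := by
    intro p hp hv hc
    have hp2 := sq_of_isConj (h.Z_sq hz) hp
    have hv2 := sq_of_isConj ha2 hv
    obtain ⟨he, ho, -⟩ := h.ctr_za hA hB hz hz1 ha haZ hp hv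
    have c1 := L34Syl83Klein.ctr_comm_left hp2 hv2 he
    have c2 := L34Syl83Klein.ctr_comm_right hp2 hv2 he
    have c3 := L34Syl83Klein.conj_mul_ctr hp2 hv2 he ho
    rw [hc] at c1 c2 c3
    refine ⟨c1.symm, c2.symm, ?_, ?_⟩
    · rw [c2]; exact hp.trans c3
    · have e : p.1 * (a * p.2) = a * (p.1 * p.2) := by rw [← mul_assoc, ← c1, mul_assoc]
      have hcomm : Commute a (p.1 * p.2) := (show Commute a p.1 from c1).mul_right c2
      refine ho.of_dvd_nat (orderOf_dvd_of_pow_eq_one ?_)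
      rw [e, hcomm.mul_pow, show (p.1 * p.2) ^ (orderOf (p.1 * p.2) / 2) = a from hc]
      obtain ⟨j, hj⟩ := ho
      rw [hj, pow_succ, pow_mul, pow_two, ha2, one_pow, one_mul, ha2]
  symm
  refine Nat.card_congr
    { toFun := fun uk => ⟨(((uk.1.1.1 : Subgroup.centralizer ({a} : Set G)) : G),
          a * ((uk.1.2 : Subgroup.centralizer ({a} : Set G)) : G)), ?_, ?_, ?_⟩
      invFun := fun p => ⟨(⟨⟨⟨p.1.1, Subgroup.mem_centralizer_singleton_iff.2
            (fwd p.1 p.2.1 p.2.2.1 p.2.2.2).1⟩, ((hztype _).2 p.2.1).1⟩, ?_⟩,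
          ⟨⟨a * p.1.2, Subgroup.mem_centralizer_singleton_iff.2
            (by rw [mul_assoc, (fwd p.1 p.2.1 p.2.2.1 p.2.2.2).2.1])⟩,
            ((hztype _).2 (fwd p.1 p.2.1 p.2.2.1 p.2.2.2).2.2.1).1⟩), ?_, ?_⟩
      left_inv := fun uk => Subtype.ext (Prod.ext rfl (Subtype.ext (Subtype.ext (by
        show a * (a * ((uk.1.2 : Subgroup.centralizer ({a} : Set G)) : G)) = _
        rw [← mul_assoc, ha2, one_mul]))))
      right_inv := fun p => Subtype.ext (Prod.ext rfl (by
        show a * (a * p.1.2) = p.1.2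
        rw [← mul_assoc, ha2, one_mul])) }
  · exact (hztype _).1 ⟨uk.1.1.1.2, by rw [Subgroup.orderOf_coe]; exact uk.1.1.2⟩
  · set k := ((uk.1.2 : Subgroup.centralizer ({a} : Set G)) : G) with hk
    have hzk : IsConj z k := (hztype _).1 ⟨uk.1.2.2, by rw [Subgroup.orderOf_coe]; exact uk.2.1⟩
    have hka : a * k = k * a :=
      (Subgroup.mem_centralizer_singleton_iff.1
        (uk.1.2 : Subgroup.centralizer ({a} : Set G)).2).symm
    obtain ⟨l, hl1, hl2⟩ := h.pair_into ha2 (sq_of_isConj (h.Z_sq hz) hzk) hka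
    obtain ⟨hlA, hlZ⟩ := h.mem_A_of_conj hA hB ha haZ ((isConj_conj l).2 (IsConj.refl a)) hl1
    obtain ⟨s, -, hs⟩ := h.exists_shift hlA hlZ
      (h.mem_Z_of_conj hA hB hz ((isConj_conj l).2 hzk) hl2)
    refine (isConj_conj l).1 (((isConj_conj l).2 (IsConj.refl a)).trans (isConj_iff.2 ⟨s, ?_⟩))
    rw [hs, conj_mul]
  · set u := ((uk.1.1.1 : Subgroup.centralizer ({a} : Set G)) : G) with hu
    set k := ((uk.1.2 : Subgroup.centralizer ({a} : Set G)) : G) with hk
    have hua : a * u = u * a :=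
      (Subgroup.mem_centralizer_singleton_iff.1
        (uk.1.1.1 : Subgroup.centralizer ({a} : Set G)).2).symm
    have hka : a * k = k * a :=
      (Subgroup.mem_centralizer_singleton_iff.1
        (uk.1.2 : Subgroup.centralizer ({a} : Set G)).2).symm
    have hodd : Odd (orderOf (u * k)) := by
      have := uk.2.2
      rwa [hord] at this
    have hcomm : Commute a (u * k) := (show Commute a u from hua).mul_right hka
    have hoa : orderOf a = 2 := h.orderOf_of_mem ha2 fun e => haZ (e ▸ one_mem _)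
    have ho2 : orderOf (u * (a * k)) = 2 * orderOf (u * k) := by
      rw [← mul_assoc, ← hua, mul_assoc,
        hcomm.orderOf_mul_eq_mul_orderOf_of_coprime (by rw [hoa]; exact hodd.coprime_two_left), hoa]
    show (u * (a * k)) ^ (orderOf (u * (a * k)) / 2) = a
    rw [ho2, Nat.mul_div_cancel_left _ two_pos, ← mul_assoc, ← hua, mul_assoc, hcomm.mul_pow,
      pow_orderOf_eq_one, mul_one]
    obtain ⟨j, hj⟩ := hodd
    rw [hj, pow_succ, pow_mul, pow_two, ha2, one_pow, one_mul]
  · rw [← Subgroup.orderOf_coe]; exact ((hztype _).2 p.2.1).2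
  · rw [← Subgroup.orderOf_coe]
    exact ((hztype _).2 (fwd p.1 p.2.1 p.2.2.1 p.2.2.2).2.2.1).2
  · rw [hord]
    exact (fwd p.1 p.2.1 p.2.2.1 p.2.2.2).2.2.2

/-- Centralisers of noncentral involutions of `A` are solvable. -/
theorem solvable_cent_A {a : G} (ha : a ∈ h.A) (haZ : a ∉ h.Z) :
    Group.IsSolvable ↥(Subgroup.centralizer ({a} : Set G)) := by
  classical
  by_contra hns
  -- an element of `N(A) ∩ C(a)` moving `Z`
  obtain ⟨g, hgA, hga, hgZ⟩ : ∃ g ∈ Subgroup.normalizer (h.A : Set G), g * a = a * g ∧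
      g ∉ Subgroup.centralizer (h.Z : Set G) := by
    by_contra hcon
    push Not at hcon
    obtain ⟨P, hP⟩ := h.sylow_A hA ha haZ (H := Subgroup.centralizer ({a} : Set G)) le_rfl
      (h.A_le_cent hA ha)
    exact hns (solvable_of_burnside_le (h.A_le_cent hA ha) hP fun n hn hnA y hy =>
      h.cent_A_of hA ha haZ hnA (Subgroup.mem_centralizer_singleton_iff.1 hn)
        (hcon n hnA (Subgroup.mem_centralizer_singleton_iff.1 hn)) hy)
  have hgC : g ∈ Subgroup.centralizer ({a} : Set G) := Subgroup.mem_centralizer_singleton_iff.2 hga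
  have hfree : ∀ x ∈ h.Z, x ≠ 1 → g * x * g⁻¹ ≠ x := fun x hx hx1 e =>
    hgZ (h.cent_Z_of_fix hA hgA hx hx1 (mul_inv_eq_iff_eq_mul.1 e).symm)
  have hgm : ∀ x ∈ h.Z, g * x * g⁻¹ ∈ h.Z := fun x hx => hA g (Subgroup.mem_top g) hgA x hx
  have hne : ∀ x : G, x ≠ 1 → g * x * g⁻¹ ≠ 1 := fun x hx1 e => hx1 (conj_eq_one_iff.1 e)
  obtain ⟨z, hz, hz1, -⟩ := h.exists_other a
  set z₁ := g * z * g⁻¹ with hz₁
  set z₂ := g * z₁ * g⁻¹ with hz₂
  have hz₁Z : z₁ ∈ h.Z := hgm z hz
  have hz₂Z : z₂ ∈ h.Z := hgm z₁ hz₁Z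
  have hz₁1 : z₁ ≠ 1 := hne z hz1
  have hz₁z : z ≠ z₁ := (hfree z hz hz1).symm
  have hfuse : ∀ x ∈ h.Z, x ≠ 1 → ∃ d ∈ Subgroup.centralizer ({a} : Set G), d * z * d⁻¹ = x := by
    intro x hx hx1
    rcases h.Z_cases hz hz₁Z hx hz1 hz₁1 hz₁z with e | e | e | e
    · exact absurd e hx1
    · exact ⟨1, one_mem _, by simp [e]⟩
    · exact ⟨g, hgC, e.symm⟩
    · refine ⟨g * g, mul_mem hgC hgC, ?_⟩
      rw [show g * g * z * (g * g)⁻¹ = z₂ by rw [hz₂, hz₁]; group, e]
      rcases h.Z_cases hz hz₁Z hz₂Z hz1 hz₁1 hz₁z with e' | e' | e' | e'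
      · exact absurd e' (hne _ hz₁1)
      · exfalso
        have hfix : g * (z * z₁) * g⁻¹ = z * z₁ := by
          rw [← conj_mul, ← hz₁, ← hz₂, e', h.A_comm (h.Z_le_A hz₁Z) (h.Z_le_A hz)]
        refine hfree (z * z₁) (mul_mem hz hz₁Z) (fun e1 => hz₁z ?_) hfix
        rw [← h.Z_sq hz] at e1
        exact (mul_left_cancel e1).symm
      · exact absurd e' (hfree z₁ hz₁Z hz₁1)
      · exact e'
  have hconj : ∀ x ∈ h.Z, x ≠ 1 → IsConj z x := fun x hx hx1 => by
    obtain ⟨d, -, e⟩ := hfuse x hx hx1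
    exact isConj_iff.2 ⟨d, e⟩
  -- an element of `B \ Z`
  set b := h.μ 1 0 0 with hb_def
  have hb : b ∈ h.B := ⟨1, 0, rfl⟩
  have hbZ : b ∉ h.Z := fun e => by
    obtain ⟨c, hc⟩ := h.mem_Z.1 e
    exact zero_ne_one (h.inj _ _ _ _ _ _ hc).1
  -- the counts
  obtain ⟨q, o, hq0, hqN, ho, hM⟩ := h.zclass_count hA hB hz hz1 hconj ha haZ
  obtain ⟨q', o', -, hq'N, ho', hM'⟩ := h.swap.zclass_count hB (h.fixZ_swap_swap hA) (a := b)
    (h.swap_Z ▸ hz) hz1 (fun x hx => hconj x (h.swap_Z ▸ hx)) (h.swap_A ▸ hb) (by rwa [h.swap_Z])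
  rw [h.swap_Z] at hq'N
  obtain rfl := eq_of_sq_mul Nat.card_pos hqN hq'N
  have hXa := h.class_count hA hB hz hz1 ha haZ hqN
  have hXb := h.swap.class_count hB (h.fixZ_swap_swap hA) (a := b) (h.swap_Z ▸ hz) hz1
    (h.swap_A ▸ hb) (by rwa [h.swap_Z]) (q := q) (by rw [h.swap_Z]; exact hqN)
  rw [h.swap_Z] at hXb
  have hPab := h.pairs_ab hA hB hz hz1 hconj ha haZ hb hbZ hqN
  have hab := L34Syl83Klein.pair_count_one (u := a) (v := b) (x := z) fun p v hp hv => by
    obtain ⟨-, k, hk, hk1⟩ := h.ctr_ab hA hB ha haZ hb hbZ hp hv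
    exact (isConj_conj k).1 (hconj _ hk hk1)
  have hia := incidence z a
  have hib := incidence z b
  rw [hXa] at hia
  rw [hXb] at hib
  have pYa : 0 < Nat.card {v : G // IsConj a v ∧ v ∈ Subgroup.centralizer (h.Z : Set G)} := by
    haveI : Nonempty {v : G // IsConj a v ∧ v ∈ Subgroup.centralizer (h.Z : Set G)} :=
      ⟨⟨a, IsConj.refl a, h.S_le_cZ (h.A_le ha)⟩⟩
    exact Nat.card_pos
  have pYb : 0 < Nat.card {v : G // IsConj b v ∧ v ∈ Subgroup.centralizer (h.Z : Set G)} := by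
    haveI : Nonempty {v : G // IsConj b v ∧ v ∈ Subgroup.centralizer (h.Z : Set G)} :=
      ⟨⟨b, IsConj.refl b, h.S_le_cZ (h.B_le hb)⟩⟩
    exact Nat.card_pos
  have pM : 0 < Nat.card {i : G // IsConj z i} := by
    haveI : Nonempty {i : G // IsConj z i} := ⟨⟨z, IsConj.refl z⟩⟩
    exact Nat.card_pos
  generalize hmdef : Nat.card {i : G // IsConj z i ∧ i * a = a * i} = m at *
  generalize Nat.card {i : G // IsConj z i ∧ i * b = b * i} = m' at *
  generalize Nat.card {i : G // IsConj z i} = M at *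
  generalize Nat.card {v : G // IsConj a v} = na at *
  generalize Nat.card {v : G // IsConj b v} = nb at *
  generalize Nat.card {v : G // IsConj a v ∧ v ∈ Subgroup.centralizer (h.Z : Set G)} = ya at *
  generalize Nat.card {v : G // IsConj b v ∧ v ∈ Subgroup.centralizer (h.Z : Set G)} = yb at *
  generalize pairs a b z = pr at *
  have e1 : m * m' = 3 * M := by
    have hpos : 0 < M * q ^ 2 * (ya * yb) :=
      Nat.mul_pos (Nat.mul_pos pM (pow_pos hq0 2)) (Nat.mul_pos pYa pYb)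
    refine Nat.eq_of_mul_eq_mul_left hpos ?_
    calc M * q ^ 2 * (ya * yb) * (m * m') = M * (q ^ 2 * (ya * yb)) * (m * m') := by ring
      _ = (pr * M) * 3 * (m * m') := by rw [← hPab]; ring
      _ = (na * nb) * 3 * (m * m') := by rw [hab]
      _ = 3 * ((na * m) * (nb * m')) := by ring
      _ = 3 * ((M * (q * ya)) * (M * (q * yb))) := by rw [hia, hib]
      _ = _ := by ring
  have hmm : m = m' := by
    rcases Nat.lt_trichotomy m m' with hlt | heq | hgt
    · have : m * o < m' * o' := Nat.mul_lt_mul'' hlt (by omega)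
      omega
    · exact heq
    · have : m' * o' < m * o := Nat.mul_lt_mul'' hgt (by omega)
      omega
  subst hmm
  have e2 : m = 3 * o := by
    refine Nat.eq_of_mul_eq_mul_left (Nat.pos_of_ne_zero (fun e => ?_) : 0 < m) ?_
    · rw [e, zero_mul] at hM; omega
    · rw [e1, hM]; ring
  have e3 : m = 3 * q ^ 2 := by omega
  -- hence the kernel is solvable
  obtain ⟨K, P, hKn, hidx, hP4, hexp, hPmem, hKA, hdec⟩ := h.exists_kernel hA ha haZ
  haveI := hKn
  have hztype := h.ztype_iff hA hB hz hz1 hconj ha haZ hKA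
  set zK : K := ⟨⟨z, h.A_le_cent hA ha (h.Z_le_A hz)⟩, (hKA _ (h.Z_le_A hz)).2 hz⟩ with hzK
  set tK : K := ⟨⟨z₁, h.A_le_cent hA ha (h.Z_le_A hz₁Z)⟩, (hKA _ (h.Z_le_A hz₁Z)).2 hz₁Z⟩ with htK
  have hord : ∀ k : K, orderOf k = orderOf ((k : Subgroup.centralizer ({a} : Set G)) : G) := fun k =>
    ((Subgroup.orderOf_coe (k : Subgroup.centralizer ({a} : Set G))).trans
      (Subgroup.orderOf_coe k)).symm
  have hKsolv : Group.IsSolvable K := by
    have hone : ∀ x : K, orderOf x = 2 → IsConj zK x := by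
      intro x hx
      obtain ⟨PA, hPA⟩ := h.sylow_A hA ha haZ (H := Subgroup.centralizer ({a} : Set G)) le_rfl
        (h.A_le_cent hA ha)
      obtain ⟨l, hl⟩ := AEightThreeGen62.exists_conj_mem P (x := x) (hx ▸ pow_orderOf_eq_one x)
      set y := l * x * l⁻¹ with hy
      have hyZ : ((y : Subgroup.centralizer ({a} : Set G)) : G) ∈ h.Z := (hPmem y).1 hl
      have hy1 : ((y : Subgroup.centralizer ({a} : Set G)) : G) ≠ 1 := fun e => by
        have : x = 1 := conj_eq_one_iff.1 (show y = 1 from Subtype.ext (Subtype.ext e))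
        exact L34Syl83Klein.ne_one_of_order hx this
      obtain ⟨d, hd, hdy⟩ := hfuse _ hyZ hy1
      obtain ⟨x₀, hx₀, hx₀K⟩ := hdec ⟨d, hd⟩
      refine IsConj.trans (isConj_iff.2 ⟨⟨_, hx₀K⟩, Subtype.ext (Subtype.ext ?_)⟩)
        (isConj_iff.2 ⟨l, rfl⟩).symm
      show (x₀ : G)⁻¹ * d * z * ((x₀ : G)⁻¹ * d)⁻¹ = _
      rw [show (x₀ : G)⁻¹ * d * z * ((x₀ : G)⁻¹ * d)⁻¹ =
        (x₀ : G)⁻¹ * (d * z * d⁻¹) * (x₀ : G) by group, hdy,
        mul_assoc, h.A_comm (h.Z_le_A hyZ) hx₀, inv_mul_cancel_left]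
    refine L34Syl83Klein.solvable_of_count P hP4 hexp ((hPmem zK).2 hz) ((hPmem tK).2 hz₁Z)
      (by rw [hord]; exact h.orderOf_of_mem (h.Z_sq hz) hz1)
      (by rw [hord]; exact h.orderOf_of_mem (h.Z_sq hz₁Z) hz₁1)
      (fun e => hz₁z (congrArg (fun t : K => ((t : Subgroup.centralizer ({a} : Set G)) : G)) e :))
      (fun x y hx hy => (hone x hx).symm.trans (hone y hy)) ?_ ?_
    · intro k hk e
      have hkC : ((k : Subgroup.centralizer ({a} : Set G)) : G) ∈
          Subgroup.centralizer ({z} : Set G) := Subgroup.mem_centralizer_singleton_iff.2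
        (congrArg (fun t : K => ((t : Subgroup.centralizer ({a} : Set G)) : G))
          (Subgroup.mem_centralizer_singleton_iff.1 hk) :)
      have e' : ((k : Subgroup.centralizer ({a} : Set G)) : G) * z₁ *
          ((k : Subgroup.centralizer ({a} : Set G)) : G)⁻¹ = z * z₁ :=
        congrArg (fun t : K => ((t : Subgroup.centralizer ({a} : Set G)) : G)) e
      have := h.fix_in_cent hA hB hz hz1 hz₁Z hkC (e' ▸ h.Z_le (mul_mem hz hz₁Z))
      rw [e'] at this
      exact hz1 (mul_eq_right.1 this)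
    · obtain ⟨q₂, -, -, hq₂N, hq₂c⟩ := h.exists_ratio hA hB hz hz1 hz₁Z hz₁1 hz₁z ha haZ
      obtain rfl := eq_of_sq_mul Nat.card_pos hqN hq₂N
      have e1 : (((Subgroup.centralizer ({z} : Set G)).subgroupOf
          (Subgroup.centralizer ({a} : Set G))).subgroupOf K) =
            Subgroup.centralizer ({zK} : Set K) := by
        ext k
        rw [Subgroup.mem_subgroupOf, Subgroup.mem_subgroupOf, Subgroup.mem_centralizer_singleton_iff,
          Subgroup.mem_centralizer_singleton_iff]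
        exact ⟨fun e => Subtype.ext (Subtype.ext e),
          fun e => congrArg (fun t : K => ((t : Subgroup.centralizer ({a} : Set G)) : G)) e⟩
      have e2 : (((Subgroup.centralizer (h.Z : Set G)).subgroupOf
          (Subgroup.centralizer ({a} : Set G))).subgroupOf K) =
            Subgroup.centralizer ((P : Subgroup K) : Set K) := by
        ext k
        rw [Subgroup.mem_subgroupOf, Subgroup.mem_subgroupOf, Subgroup.mem_centralizer_iff,
          Subgroup.mem_centralizer_iff]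
        refine ⟨fun e t ht => Subtype.ext (Subtype.ext (e _ ((hPmem t).1 ht))), fun e t ht => ?_⟩
        exact congrArg (fun t : K => ((t : Subgroup.centralizer ({a} : Set G)) : G))
          (e ⟨⟨t, h.A_le_cent hA ha (h.Z_le_A ht)⟩, (hKA _ (h.Z_le_A ht)).2 ht⟩ ((hPmem _).2 ht))
      rw [h.card_cent_kernel hA ha hKA hdec ((h.A_le.trans (h.S_le_cent hz))),
        h.card_cent_kernel hA ha hKA hdec (h.A_le.trans h.S_le_cZ), e1, e2] at hq₂c
      have hcK : Nat.card (Subgroup.centralizer ({zK} : Set K)) =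
          q * Nat.card (Subgroup.centralizer ((P : Subgroup K) : Set K)) := by linarith
      have hmK : Nat.card {k : K // orderOf k = 2} = m := by
        rw [← hmdef]
        exact Nat.card_congr
          { toFun := fun k => ⟨((k.1 : Subgroup.centralizer ({a} : Set G)) : G),
              (hztype _).1 ⟨k.1.2, by rw [Subgroup.orderOf_coe]; exact k.2⟩,
              Subgroup.mem_centralizer_singleton_iff.1
                (k.1 : Subgroup.centralizer ({a} : Set G)).2⟩
            invFun := fun i => ⟨⟨⟨i.1, Subgroup.mem_centralizer_singleton_iff.2 i.2.2⟩,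
                ((hztype _).2 i.2.1).1⟩, by
              rw [← Subgroup.orderOf_coe]; exact ((hztype _).2 i.2.1).2⟩
            left_inv := fun _ => rfl
            right_inv := fun _ => rfl }
      rw [hmK, hcK, e3]; ring
  refine hns ?_
  haveI := hKsolv
  haveI : Group.IsSolvable (↥(Subgroup.centralizer ({a} : Set G)) ⧸ K) := by
    haveI := (IsPGroup.of_card (p := 2) (n := 2)
      (by rw [← Subgroup.index_eq_card, hidx]; norm_num) :
        IsPGroup 2 (↥(Subgroup.centralizer ({a} : Set G)) ⧸ K)).isNilpotent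
    infer_instance
  exact solvable_of_ker_le_range K.subtype (QuotientGroup.mk' K) (by simp)

end Chart

end Cfsg.Agent.L34Syl83
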