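import Mathlib
import Cfsg.Agent.Lib.L34Syl83CentZ62
import Cfsg.Agent.Lib.L34Syl83Count62

/-!
# Type `L₃(4)` Sylow subgroup, both normalisers fixing `Z`: the Sylow subgroup is normal

`normal_of_fixZ`: if `N(A)` and `N(B)` normalise `Z` and `O(G) = 1`, then `S` is normal in `G`.
-/

set_option autoImplicit false

namespace Cfsg.Agent.L34Syl83

open Cfsg

attribute [local instance] AEightThreeGen62.fact2

variable {G : Type*} [Group G] [Finite G] {S : Sylow 2 G} {F : Type*} [Field F] [Fintype F]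

namespace Chart

variable (h : Chart F (S : Subgroup G)) (hA : h.FixZ ⊤) (hB : h.swap.FixZ ⊤)
include h

theorem eA : IsElementaryAbelian 2 h.A :=
  ⟨⟨⟨fun x y => Subtype.ext (h.A_comm x.2 y.2)⟩⟩, fun x hx => by rw [pow_two]; exact h.A_sq hx⟩

theorem S_le_sup : (S : Subgroup G) ≤ h.A ⊔ h.B := by
  intro x hx
  obtain ⟨a, b, c, rfl⟩ := (h.mem x).1 hx
  have e' : h.μ a b c = h.μ a 0 c * h.μ 0 b (a * b) := by
    rw [h.mul]
    congr 1 <;> simp [add_assoc, h.two]
  rw [e']
  exact mul_mem (Subgroup.mem_sup_right ⟨a, c, rfl⟩) (Subgroup.mem_sup_left ⟨b, a * b, rfl⟩)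

include hA hB

/-- All centralisers of involutions in `S` are solvable. -/
theorem solvable_cent {x : G} (hx : x ∈ h.A ∨ x ∈ h.B) (hx1 : x ≠ 1) :
    Group.IsSolvable ↥(Subgroup.centralizer ({x} : Set G)) := by
  by_cases hxZ : x ∈ h.Z
  · exact h.solvable_cent_Z hA hB hxZ hx1
  rcases hx with hx | hx
  · exact h.solvable_cent_A hA hB hx hxZ
  · exact h.swap.solvable_cent_A hB (h.fixZ_swap_swap hA) (h.swap_A ▸ hx) (by rwa [h.swap_Z])

theorem A_normal (hO : oddCore G = ⊥) : h.A.Normal := by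
  have hAe := h.eA
  have hA8 : 8 ≤ Nat.card h.A := by rw [h.card_A]; norm_num
  have hA4 : 2 ^ 2 ≤ Nat.card h.A := le_trans (by norm_num) hA8
  have hsol : ∀ a ∈ h.A, a ≠ 1 → Group.IsSolvable ↥(Subgroup.centralizer ({a} : Set G)) :=
    fun a ha ha1 => h.solvable_cent hA hB (Or.inl ha) ha1
  obtain ⟨⟨hθC, hθp, hθinv, hbal⟩, hθsol⟩ := S1279.result 2 h.A hAe hA4 hsol
  obtain ⟨hW2, -⟩ := S0217.result h.A (fun a ha b hb => h.A_comm ha hb) hAe.2
    (by simpa using hA8) (fun a => centralizerPPrimeCore 2 a) hθC hθp hθinv hθsol hbal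
  set W := ⨆ a : {a : G // a ∈ h.A ∧ a ≠ 1}, centralizerPPrimeCore 2 (a : G) with hW
  set N := Subgroup.normalizer (h.A : Set G) with hN
  have hNW : N ≤ Subgroup.normalizer (W : Set G) := by
    refine SignalizerCoprime.le_normalizer_of_forall fun n hn z hz => ?_
    have h1 : W ≤ W.comap (MulAut.conj n).toMonoidHom := by
      refine iSup_le fun a => ?_
      intro o ho
      have hna : n * a * n⁻¹ ∈ h.A := conj_mem_of_normalizer hn a.2.1
      refine Subgroup.mem_iSup_of_mem
        ⟨n * a * n⁻¹, hna, fun e => a.2.2 (conj_eq_one_iff.1 e)⟩ ?_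
      rw [SFTApps.centralizerPPrimeCore_conj (p := 2) (a : G) n]
      exact ⟨o, ho, rfl⟩
    exact h1 hz
  set H := W ⊔ N with hH
  have hθH : ∀ a ∈ h.A, a ≠ 1 → centralizerPPrimeCore 2 a ≤ H := fun a ha ha1 =>
    (le_iSup (fun a : {a : G // a ∈ h.A ∧ a ≠ 1} => centralizerPPrimeCore 2 (a : G))
      ⟨a, ha, ha1⟩).trans le_sup_left
  have hclA' : ∀ R : Subgroup G, IsPGroup 2 R → h.A ≤ R → ∀ a ∈ h.A, ∀ g : G, g * a * g⁻¹ ∈ R →
      g * a * g⁻¹ ∈ h.A := fun R hR hAR a ha g hg => h.hclA hR hAR hB ha hg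
  have hcA : ∀ a ∈ h.A, a ≠ 1 → Subgroup.centralizer ({a} : Set G) ≤ H := fun a ha ha1 =>
    AEightThreeGen62.cent_le_of_solvable hAe hclA' ha (hsol a ha ha1) (hθH a ha ha1) le_sup_right
  obtain ⟨z, hz, hz1, -⟩ := h.exists_other 1
  have hcZ : Subgroup.centralizer (h.Z : Set G) ≤ H :=
    (h.cZ_le hz).trans (hcA z (h.Z_le_A hz) hz1)
  -- `N(Z) = C(Z) N(S)`
  have hnZ : Subgroup.normalizer (h.Z : Set G) ≤ H := by
    intro g hg
    set T := (S : Subgroup G).map (MulAut.conj g).toMonoidHom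
    have hT : T ≤ Subgroup.centralizer (h.Z : Set G) := by
      rintro _ ⟨s, hs, rfl⟩
      simpa using h.conj_mem_cZ hg (h.S_le_cZ hs)
    obtain ⟨k, hk, hkS⟩ := conj_into S h.S_le_cZ hT (S.2.map _)
    have hkg : k * g ∈ Subgroup.normalizer ((S : Subgroup G) : Set G) :=
      mem_normalizer_of_forall fun s hs => by
        simpa [mul_assoc] using hkS _ (conj_mem_map g hs)
    have := H.mul_mem (H.inv_mem (hcZ hk)) ((h.normalizer_S_le_A.trans le_sup_right) hkg)
    simpa using this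
  have hnB : Subgroup.normalizer (h.B : Set G) ≤ H := by
    intro g hg
    refine hnZ (mem_normalizer_of_forall fun w hw => ?_)
    have := hB g (Subgroup.mem_top g) (by rw [h.swap_A]; exact hg) w (by rwa [h.swap_Z])
    rwa [h.swap_Z] at this
  have htop : H = ⊤ := by
    refine AEightThreeGen62.eq_top_of_centralizers S (h.S_le_normalizer_A.trans le_sup_right) ?_
      (h.normalizer_S_le_A.trans le_sup_right) ?_ ?_
    · refine h.S_le_sup.trans (sup_le ?_ ?_) <;>
        · intro y hy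
          refine Subgroup.subset_closure ?_
          show y ^ 2 = 1
          rw [pow_two]
          first | exact h.A_sq hy | exact h.B_sq hy
    · intro x hxS hx2 hx1
      rcases h.involutions hxS (by rwa [← pow_two]) with hx | hx
      · exact hcA x hx hx1
      have hBe : IsElementaryAbelian 2 h.B := h.swap_A ▸ h.swap.eA
      refine AEightThreeGen62.cent_le_of_solvable hBe (fun R hR hBR b hb g hg => ?_) hx
        (h.solvable_cent hA hB (Or.inr hx) hx1) ?_ hnB
      · have := h.swap.hclA hR (h.swap_A ▸ hBR) (h.fixZ_swap_swap hA) (h.swap_A ▸ hb) hg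
        rwa [h.swap_A] at this
      · refine SignalizerCoprime.le_of_centralizers_le (p := 2)
          (SignalizerCoprime.elementaryAbelian_of_le hAe h.Z_le_A) (by rw [h.card_Z]; norm_num)
          ?_ (SignalizerBasic.not_dvd_card_centralizerPPrimeCore 2 x) fun b hb hb1 => ?_
        · exact fun w hw => SignalizerBasic.centralizer_le_normalizer_centralizerPPrimeCore 2 x
            (Subgroup.mem_centralizer_singleton_iff.2 (h.Z_comm hw hxS))
        · exact inf_le_right.trans (hcA b (h.Z_le_A hb) hb1)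
    · refine ⟨h.μ 0 1 0, h.μ 1 0 0, ?_, fun e => zero_ne_one (h.eq_one_iff.1 e).2.1.symm, ?_,
        fun e => zero_ne_one (h.eq_one_iff.1 e).1.symm, fun e => ?_⟩
      · rw [pow_two]; exact h.A_sq ⟨1, 0, rfl⟩
      · rw [pow_two]; exact h.B_sq ⟨1, 0, rfl⟩
      · obtain ⟨g, hg⟩ := isConj_iff.1 e
        have h1 := h.closed_A le_top hB (show h.μ 0 1 0 ∈ h.A from ⟨1, 0, rfl⟩)
          (Subgroup.mem_top g) (hg ▸ h.mem' _ _ _)
        rw [hg] at h1
        obtain ⟨b, c, hbc⟩ := h1
        exact zero_ne_one (h.inj _ _ _ _ _ _ hbc).1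
  have hWn : W.Normal := by
    rw [← Subgroup.normalizer_eq_top_iff, eq_top_iff, ← htop]
    exact sup_le Subgroup.le_normalizer hNW
  have hWbot : W = ⊥ := by
    rw [eq_bot_iff, ← hO]
    exact le_sSup ⟨hWn, Nat.coprime_two_right.2 (Nat.not_even_iff_odd.1 fun he => hW2 he.two_dvd)⟩
  rw [← Subgroup.normalizer_eq_top_iff, ← hN, ← htop, hH, hWbot, bot_sup_eq]

/-- If `N(A)` and `N(B)` normalise `Z` and `O(G) = 1`, then `S` is normal. -/
theorem normal_of_fixZ (hO : oddCore G = ⊥) : (S : Subgroup G).Normal := by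
  haveI := h.A_normal hA hB hO
  haveI : h.B.Normal := by
    have := h.swap.A_normal hB (h.fixZ_swap_swap hA) hO
    rwa [h.swap_A] at this
  have e : (S : Subgroup G) = h.A ⊔ h.B := le_antisymm h.S_le_sup (sup_le h.A_le h.B_le)
  rw [e]
  infer_instance

end Chart

end Cfsg.Agent.L34Syl83
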