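import Mathlib
import Cfsg.Agent.Lib.L34Syl83Cent
import Cfsg.Agent.Lib.AEightThreeGen62
import Cfsg.Agent.Lib.SignalizerStrongEmb

/-!
# Both normalisers move `Z`

`A_one_class`: the involutions of `A` are conjugate under `N(A)` to those of `Z`.
`exists_signalizer`: the cores of the centralisers generate a subgroup of odd order normalised by
`N(A)` and `N(B)`.
`quotient_data`: the subgroup normalising it, modulo its core, has trivial centraliser cores.
-/

set_option autoImplicit false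

namespace Cfsg.Agent.L34Syl83

open Cfsg

universe u v

namespace Chart

variable {F : Type v} [Field F] [Fintype F] {G : Type u} [Group G] [Finite G] {S : Sylow 2 G}
  (h : Chart F (S : Subgroup G))
include h

/-- If `N(A)` moves `Z`, all involutions of `A` are conjugate under `N(A)`. -/
theorem A_one_class (hA : ¬ h.FixZ ⊤) {a z : G} (ha : a ∈ h.A) (ha1 : a ≠ 1) (hz : z ∈ h.Z)
    (hz1 : z ≠ 1) : ∃ n ∈ Subgroup.normalizer (h.A : Set G), n * a * n⁻¹ = z := by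
  unfold FixZ at hA
  push Not at hA
  obtain ⟨n, -, hn, z₀, hz₀, hnz₀⟩ := hA
  have hout : ∀ d : F, d ≠ 0 → n * h.μ 0 0 d * n⁻¹ ∉ h.Z := fun d hd hcon =>
    hnz₀ (conj_mem_of_normalizer (h.normalizer_Z_of_mem hn (h.mem_Z.2 ⟨d, rfl⟩)
      (fun e => hd (h.eq_one_iff.1 e).2.2) hcon) hz₀)
  choose β γ hβγ using fun d : F =>
    conj_mem_of_normalizer hn (h.Z_le_A (h.mem_Z.2 ⟨d, rfl⟩) : h.μ 0 0 d ∈ h.A)
  have hinj : Function.Injective β := by
    intro d e hde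
    by_contra hne
    refine hout (d + e) (fun h0 => hne (by rw [eq_neg_of_add_eq_zero_left h0, h.neg_eq])) ?_
    rw [show h.μ 0 0 (d + e) = h.μ 0 0 d * h.μ 0 0 e by rw [h.mul]; simp, ← conj_mul, ← hβγ d,
      ← hβγ e, h.mul, hde, h.two (β e), h.two (0 : F)]
    exact h.mem_Z.2 ⟨_, rfl⟩
  have hβ0 : β 0 = 0 := by
    have e := hβγ 0
    rw [h.one, mul_one, mul_inv_cancel] at e
    exact (h.eq_one_iff.1 e).2.1
  have hsurj := Finite.injective_iff_surjective.1 hinj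
  have hcoset : ∀ b c c' : F, b ≠ 0 → ∃ m ∈ Subgroup.normalizer (h.A : Set G),
      m * h.μ 0 b c * m⁻¹ = h.μ 0 b c' := by
    intro b c c' hb
    refine ⟨h.μ ((c + c') / b) 0 0, h.S_le_normalizer_A (h.mem' _ _ _), ?_⟩
    rw [h.conj, zero_mul, add_zero, div_mul_cancel₀ _ hb, ← add_assoc, h.two, zero_add]
  -- every `z` is conjugate to all elements of `A` outside `Z`
  have hmove : ∀ cz : F, cz ≠ 0 → ∀ b c : F, b ≠ 0 → ∃ m ∈ Subgroup.normalizer (h.A : Set G),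
      m * h.μ 0 b c * m⁻¹ = h.μ 0 0 cz := by
    intro cz hcz b c hb
    obtain ⟨d, hd⟩ := hsurj b
    obtain ⟨β', γ', hz'⟩ := conj_mem_of_normalizer (inv_mem hn)
      (h.Z_le_A (h.mem_Z.2 ⟨cz, rfl⟩) : h.μ 0 0 cz ∈ h.A)
    have hβ' : β' ≠ 0 := by
      rintro rfl
      by_cases hγ' : γ' = 0
      · subst hγ'
        rw [h.one, eq_comm, mul_inv_eq_one, mul_eq_left] at hz'
        exact hcz (h.eq_one_iff.1 hz').2.2
      · exact hout γ' hγ' (by rw [hz']; exact h.mem_Z.2 ⟨cz, by group⟩)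
    set t := h.μ (d / β') 0 0 with ht
    have e1 : n * t * n⁻¹ * h.μ 0 0 cz * (n * t * n⁻¹)⁻¹ = h.μ 0 b (cz + γ d) := by
      rw [show n * t * n⁻¹ * h.μ 0 0 cz * (n * t * n⁻¹)⁻¹ =
        n * (t * (n⁻¹ * h.μ 0 0 cz * n⁻¹⁻¹) * t⁻¹) * n⁻¹ by group, ← hz', ht, h.conj, zero_mul,
        add_zero, div_mul_cancel₀ _ hβ', show h.μ 0 β' (γ' + d) = h.μ 0 β' γ' * h.μ 0 0 d by
          rw [h.mul]; simp, ← conj_mul, ← hβγ d, hd, hz',
        show n * (n⁻¹ * h.μ 0 0 cz * n⁻¹⁻¹) * n⁻¹ = h.μ 0 0 cz by group, h.mul]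
      simp
    obtain ⟨s, hs, hs'⟩ := hcoset b c (cz + γ d) hb
    have hm : n * t * n⁻¹ ∈ Subgroup.normalizer (h.A : Set G) :=
      mul_mem (mul_mem hn (h.S_le_normalizer_A (h.mem' _ _ _))) (inv_mem hn)
    refine ⟨(n * t * n⁻¹)⁻¹ * s, mul_mem (inv_mem hm) hs, ?_⟩
    rw [show (n * t * n⁻¹)⁻¹ * s * h.μ 0 b c * ((n * t * n⁻¹)⁻¹ * s)⁻¹ =
      (n * t * n⁻¹)⁻¹ * (s * h.μ 0 b c * s⁻¹) * (n * t * n⁻¹) by group, hs', ← e1]
    group
  obtain ⟨cz, rfl⟩ := h.mem_Z.1 hz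
  have hcz : cz ≠ 0 := fun e => hz1 (by rw [e]; exact h.one)
  obtain ⟨b, c, rfl⟩ := ha
  by_cases hb : b = 0
  · subst hb
    have hc : c ≠ 0 := fun e => ha1 (by rw [e]; exact h.one)
    obtain ⟨m, hm, hme⟩ := hmove c hc 1 0 one_ne_zero
    obtain ⟨m', hm', hme'⟩ := hmove cz hcz 1 0 one_ne_zero
    exact ⟨m' * m⁻¹, mul_mem hm' (inv_mem hm), by rw [← hme, ← hme']; group⟩
  · exact hmove cz hcz b c hb

theorem elementary_A_nf : IsElementaryAbelian 2 h.A :=
  ⟨⟨⟨fun a b => Subtype.ext (h.A_comm a.2 b.2)⟩⟩, fun a ha => by rw [pow_two]; exact h.A_sq ha⟩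

theorem solvable_centralizer {z : G} (hz : z ∈ h.Z) (hz1 : z ≠ 1) :
    Group.IsSolvable ↥(Subgroup.centralizer ({z} : Set G)) := by
  haveI : Fact (Nat.Prime 2) := ⟨Nat.prime_two⟩
  set C := Subgroup.centralizer ({z} : Set G) with hC
  set Ns := C ⊓ Subgroup.normalizer ((S : Subgroup G) : Set G) with hNs
  haveI : (pPrimeCore 2 C).Normal := HallCore.pPrimeCore_normal 2 _
  have hSN : (S : Subgroup G) ≤ Ns := le_inf
    (fun s hs => Subgroup.mem_centralizer_singleton_iff.2 (h.Z_comm hz hs).symm) Subgroup.le_normalizer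
  have hNsol : Group.IsSolvable ↥Ns := by
    haveI hn : ((S : Subgroup G).subgroupOf Ns).Normal :=
      ⟨fun x hx g => (conj_mem_of_normalizer g.2.2 hx :)⟩
    haveI : IsPGroup 2 ↥((S : Subgroup G).subgroupOf Ns) := S.2.comap_subtype
    haveI hsS : Group.IsSolvable ↥((S : Subgroup G).subgroupOf Ns) := by
      haveI : Group.IsNilpotent ↥((S : Subgroup G).subgroupOf Ns) :=
        (S.2.comap_subtype (K := Ns)).isNilpotent
      infer_instance
    haveI hq : Group.IsSolvable (↥Ns ⧸ (S : Subgroup G).subgroupOf Ns) := by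
      refine S0205.result (Nat.odd_iff.2 (Nat.two_dvd_ne_zero.1 ?_))
      rw [← Subgroup.index_eq_card]
      exact (S.subtype hSN).not_dvd_index
    exact solvable_of_ker_le_range ((S : Subgroup G).subgroupOf Ns).subtype
      (QuotientGroup.mk' ((S : Subgroup G).subgroupOf Ns)) (by simp)
  refine AEightThreeGen62.solvable_of_mul (M := pPrimeCore 2 C) (C := Ns.subgroupOf C)
    (AEightThreeGen62.solvable_of_odd_card _
      (Nat.coprime_two_right.1 (HallCore.coprime_card_pPrimeCore 2 C))) ?_ fun g => ?_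
  · haveI := hNsol
    exact solvable_of_solvable_injective
      (f := (Subgroup.subgroupOfEquivOfLe (inf_le_left : Ns ≤ C)).toMonoidHom)
      (Subgroup.subgroupOfEquivOfLe _).injective
  · obtain ⟨_, ⟨o, ho, rfl⟩, n, hn, hnC, e⟩ := (h.centralizer_split hz hz1 g.2).1
    exact ⟨o, ho, ⟨n, hnC⟩, ⟨hnC, hn⟩, Subtype.ext e⟩

theorem solvable_centralizer_A (hA : ¬ h.FixZ ⊤) {a : G} (ha : a ∈ h.A) (ha1 : a ≠ 1) :
    Group.IsSolvable ↥(Subgroup.centralizer ({a} : Set G)) := by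
  obtain ⟨z, hz, hz1⟩ : ∃ z ∈ h.Z, z ≠ 1 :=
    ⟨h.μ 0 0 1, h.mem_Z.2 ⟨1, rfl⟩, fun e => one_ne_zero (h.eq_one_iff.1 e).2.2⟩
  obtain ⟨n, -, e⟩ := h.A_one_class hA ha ha1 hz hz1
  haveI := h.solvable_centralizer hz hz1
  let φ : ↥(Subgroup.centralizer ({a} : Set G)) →* ↥(Subgroup.centralizer ({z} : Set G)) :=
    ((MulAut.conj n).toMonoidHom.comp (Subgroup.centralizer ({a} : Set G)).subtype).codRestrict _
      fun x => Subgroup.mem_centralizer_singleton_iff.2 (by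
        show n * (x : G) * n⁻¹ * z = z * (n * (x : G) * n⁻¹)
        rw [← e, conj_mul, conj_mul, Subgroup.mem_centralizer_singleton_iff.1 x.2])
  exact solvable_of_solvable_injective (f := φ) fun x y hxy =>
    Subtype.ext ((MulAut.conj n).injective (congrArg Subtype.val hxy))

omit h in
/-- The subgroup generated by the centraliser cores of the involutions of `Z`. -/
def sigW (h : Chart F (S : Subgroup G)) : Subgroup G :=
  ⨆ z : {z : G // z ∈ h.Z ∧ z ≠ 1}, centralizerPPrimeCore 2 (z : G)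

theorem sigW_swap : h.swap.sigW = h.sigW :=
  le_antisymm (iSup_le fun z => le_iSup (fun w : {z : G // z ∈ h.Z ∧ z ≠ 1} =>
      centralizerPPrimeCore 2 (w : G)) ⟨z, (swap_Z h) ▸ z.2.1, z.2.2⟩)
    (iSup_le fun z => le_iSup (fun w : {z : G // z ∈ h.swap.Z ∧ z ≠ 1} =>
      centralizerPPrimeCore 2 (w : G)) ⟨z, (swap_Z h).symm ▸ z.2.1, z.2.2⟩)

/-- The cores of the centralisers of the involutions of `A` generate `sigW`, of odd order. -/
theorem exists_signalizer (hA : ¬ h.FixZ ⊤) :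
    Odd (Nat.card h.sigW) ∧
      Subgroup.normalizer (h.A : Set G) ≤ Subgroup.normalizer (h.sigW : Set G) ∧
      ∀ a ∈ h.A, a ≠ 1 → centralizerPPrimeCore 2 a ≤ h.sigW := by
  haveI : Fact (Nat.Prime 2) := ⟨Nat.prime_two⟩
  obtain ⟨⟨hθC, hθp, hθinv, hbal⟩, hθsol⟩ := S1279.result 2 h.A h.elementary_A_nf
    (by rw [h.card_A]; norm_num) fun a ha ha1 => h.solvable_centralizer_A hA ha ha1
  obtain ⟨hW2, -⟩ := S0217.result h.A (fun a ha b hb => h.A_comm ha hb) h.elementary_A_nf.2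
    (by rw [h.card_A]; norm_num) (fun a => centralizerPPrimeCore 2 a) hθC hθp hθinv hθsol hbal
  have hgen : ∀ a ∈ h.A, a ≠ 1 → centralizerPPrimeCore 2 a ≤ h.sigW := by
    intro a ha ha1
    refine SignalizerCoprime.le_of_centralizers_le (p := 2)
      (SignalizerCoprime.elementaryAbelian_of_le h.elementary_A_nf h.Z_le_A) (by rw [h.card_Z]; norm_num)
      ((h.Z_le_A.trans fun x hx => Subgroup.mem_centralizer_singleton_iff.2 (h.A_comm hx ha)).trans
        (SignalizerBasic.centralizer_le_normalizer_centralizerPPrimeCore 2 a))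
      (SignalizerBasic.not_dvd_card_centralizerPPrimeCore 2 a) fun z hz hz1 => ?_
    exact (hbal a ha ha1 z (h.Z_le_A hz) hz1).trans
      (le_iSup (fun z : {z : G // z ∈ h.Z ∧ z ≠ 1} => centralizerPPrimeCore 2 (z : G)) ⟨z, hz, hz1⟩)
  refine ⟨?_, SignalizerCoprime.le_normalizer_of_forall fun n hn x hx => ?_, hgen⟩
  · refine Nat.odd_iff.2 (Nat.two_dvd_ne_zero.1 fun hdvd => hW2 (hdvd.trans
      (Subgroup.card_dvd_of_le (iSup_le fun z => ?_))))
    exact le_iSup (fun a : {a : G // a ∈ h.A ∧ a ≠ 1} => centralizerPPrimeCore 2 (a : G))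
      ⟨z, h.Z_le_A z.2.1, z.2.2⟩
  · have h1 : h.sigW ≤ h.sigW.comap (MulAut.conj n).toMonoidHom := iSup_le fun z o ho =>
      hgen _ (conj_mem_of_normalizer hn (h.Z_le_A z.2.1))
        (fun e => z.2.2 (conj_eq_one_iff.1 e))
        (by rw [SFTApps.centralizerPPrimeCore_conj (p := 2) (z : G) n]; exact ⟨o, ho, rfl⟩)
    exact h1 hx

variable (hA : ¬ h.FixZ ⊤) (hB : ¬ h.swap.FixZ ⊤)
include hA hB

theorem normalizer_B_le : Subgroup.normalizer (h.B : Set G) ≤ Subgroup.normalizer (h.sigW : Set G) := by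
  have e := (h.swap.exists_signalizer hB).2.1
  rwa [swap_A, sigW_swap] at e

theorem normalizer_A_le : Subgroup.normalizer (h.A : Set G) ≤ Subgroup.normalizer (h.sigW : Set G) :=
  (h.exists_signalizer hA).2.1

/-- An involution of `M = N(sigW)` is conjugate in `M` to any given involution of `Z`. -/
theorem exists_conj_Z {x : G} (hxM : x ∈ Subgroup.normalizer (h.sigW : Set G)) (hx : orderOf x = 2)
    {z : G} (hz : z ∈ h.Z) (hz1 : z ≠ 1) :
    ∃ m ∈ Subgroup.normalizer (h.sigW : Set G), m * x * m⁻¹ = z := by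
  have hxx := SignalizerStrongEmb.involution_mul_self hx
  obtain ⟨k, hk, hkS⟩ := conj_into S (h.S_le_normalizer_A.trans (h.normalizer_A_le hA hB))
    (Subgroup.zpowers_le.2 hxM) (isPGroup_zpowers_of_sq hxx)
  have hy := hkS x (Subgroup.mem_zpowers x)
  have hy1 : k * x * k⁻¹ ≠ 1 := fun e =>
    SignalizerStrongEmb.involution_ne_one hx (conj_eq_one_iff.1 e)
  rcases h.involutions hy (by rw [conj_mul, hxx, mul_one, mul_inv_cancel]) with hyA | hyB
  · obtain ⟨n, hn, e⟩ := h.A_one_class hA hyA hy1 hz hz1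
    exact ⟨n * k, mul_mem (h.normalizer_A_le hA hB hn) hk, by rw [← e]; group⟩
  · obtain ⟨n, hn, e⟩ := h.swap.A_one_class hB (swap_A h ▸ hyB) hy1
      (z := z) ((swap_Z h).symm ▸ hz) hz1
    rw [swap_A] at hn
    exact ⟨n * k, mul_mem (h.normalizer_B_le hA hB hn) hk, by rw [← e]; group⟩

theorem centralizer_Z_le {z : G} (hz : z ∈ h.Z) (hz1 : z ≠ 1) :
    Subgroup.centralizer ({z} : Set G) ≤ Subgroup.normalizer (h.sigW : Set G) := by
  intro c hc
  obtain ⟨o, ho, n, hn, -, rfl⟩ := (h.centralizer_split hz hz1 hc).1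
  refine mul_mem (Subgroup.le_normalizer ?_) (h.normalizer_A_le hA hB (h.normalizer_S_le_A hn))
  exact le_iSup (fun z : {z : G // z ∈ h.Z ∧ z ≠ 1} => centralizerPPrimeCore 2 (z : G)) ⟨z, hz, hz1⟩ ho

/-- An element moving an involution of `M = N(sigW)` into `M` lies in `M`. -/
theorem mem_of_conj_mem {x g : G} (hxM : x ∈ Subgroup.normalizer (h.sigW : Set G))
    (hx : orderOf x = 2) (hg : g * x * g⁻¹ ∈ Subgroup.normalizer (h.sigW : Set G)) :
    g ∈ Subgroup.normalizer (h.sigW : Set G) := by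
  obtain ⟨z, hz, hz1⟩ : ∃ z ∈ h.Z, z ≠ 1 :=
    ⟨h.μ 0 0 1, h.mem_Z.2 ⟨1, rfl⟩, fun e => one_ne_zero (h.eq_one_iff.1 e).2.2⟩
  obtain ⟨m, hm, e⟩ := h.exists_conj_Z hA hB hxM hx hz hz1
  obtain ⟨m', hm', e'⟩ := h.exists_conj_Z hA hB hg
    (by rw [SignalizerStrongEmb.orderOf_conj]; exact hx) hz hz1
  have hc : m' * g * m⁻¹ ∈ Subgroup.centralizer ({z} : Set G) := by
    refine Subgroup.mem_centralizer_singleton_iff.2 ?_
    calc m' * g * m⁻¹ * z = m' * g * m⁻¹ * (m * x * m⁻¹) := by rw [e]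
      _ = m' * (g * x * g⁻¹) * m'⁻¹ * (m' * g * m⁻¹) := by group
      _ = z * (m' * g * m⁻¹) := by rw [e']
  have := mul_mem (mul_mem (inv_mem hm') (h.centralizer_Z_le hA hB hz hz1 hc)) hm
  simpa [mul_assoc] using this

/-- The subgroup `M = N(sigW)` modulo its core. -/
theorem quotient_data : ∀ (M : Subgroup G), M = Subgroup.normalizer (h.sigW : Set G) →
    ∃ (T : Sylow 2 (↥M ⧸ pPrimeCore 2 ↥M)) (hT : Chart F (T : Subgroup (↥M ⧸ pPrimeCore 2 ↥M))),
      ¬ hT.FixZ ⊤ ∧ ¬ hT.swap.FixZ ⊤ ∧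
      (∀ z ∈ hT.Z, z ≠ 1 → centralizerPPrimeCore 2 z = ⊥) := by
  intro M hM
  haveI : Fact (Nat.Prime 2) := ⟨Nat.prime_two⟩
  haveI : (pPrimeCore 2 M).Normal := HallCore.pPrimeCore_normal 2 _
  have hNA : Subgroup.normalizer (h.A : Set G) ≤ M := hM ▸ h.normalizer_A_le hA hB
  have hNB : Subgroup.normalizer (h.B : Set G) ≤ M := hM ▸ h.normalizer_B_le hA hB
  have hSM : (S : Subgroup G) ≤ M := h.S_le_normalizer_A.trans hNA
  set π := QuotientGroup.mk' (pPrimeCore 2 M) with hπ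
  have hodd : Odd (Nat.card (pPrimeCore 2 M)) :=
    Nat.coprime_two_right.1 (HallCore.coprime_card_pPrimeCore 2 M)
  have hker : ∀ x ∈ (S : Subgroup G).subgroupOf M, x ∈ pPrimeCore 2 M → x = 1 := fun x hx hx' => by
    obtain ⟨i, hi⟩ := S.2 ⟨x.1, hx⟩
    have h1 : orderOf x ∣ 2 ^ i :=
      orderOf_dvd_of_pow_eq_one (Subtype.ext (congrArg (fun y : S => (y : G)) hi))
    have h2 : orderOf x ∣ Nat.card (pPrimeCore 2 M) := by
      rw [show orderOf x = orderOf (⟨x, hx'⟩ : pPrimeCore 2 M) from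
        Subgroup.orderOf_coe (⟨x, hx'⟩ : pPrimeCore 2 M)]
      exact orderOf_dvd_natCard _
    have h3 := Nat.dvd_gcd h1 h2
    rw [((HallCore.coprime_card_pPrimeCore 2 M).symm.pow_left i).gcd_eq_one, Nat.dvd_one] at h3
    exact orderOf_eq_one_iff.1 h3
  let hQ := (h.restrict hSM).map π fun x hx e => hker x hx ((QuotientGroup.eq_one_iff x).1 e)
  let T := (S.subtype hSM).mapSurjective (QuotientGroup.mk'_surjective (pPrimeCore 2 M))
  let hT : Chart F (T : Subgroup (↥M ⧸ pPrimeCore 2 ↥M)) :=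
    ⟨hQ.μ, hQ.card_F, hQ.mul, hQ.inj, hQ.mem⟩
  have hμ : ∀ a b c, hT.μ a b c = π ⟨h.μ a b c, hSM (h.mem' a b c)⟩ := fun _ _ _ => rfl
  have hfix : ¬ hT.FixZ ⊤ := by
    intro hf
    apply hA
    intro g _ hg w hw
    obtain ⟨d, rfl⟩ := h.mem_Z.1 hw
    have hgπ : π ⟨g, hNA hg⟩ ∈ Subgroup.normalizer (hT.A : Set (↥M ⧸ pPrimeCore 2 ↥M)) :=
      mem_normalizer_of_forall fun x ⟨b, c, hx⟩ => by
        obtain ⟨b', c', e⟩ := conj_mem_of_normalizer hg (show h.μ 0 b c ∈ h.A from ⟨b, c, rfl⟩)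
        refine ⟨b', c', ?_⟩
        rw [← hx, hμ, hμ, ← map_inv, ← map_mul, ← map_mul]
        exact congrArg π (Subtype.ext e)
    obtain ⟨e', he'⟩ := hT.mem_Z.1 (hf _ (Subgroup.mem_top _) hgπ _ (hT.mem_Z.2 ⟨d, rfl⟩))
    obtain ⟨b, c, hbc⟩ := conj_mem_of_normalizer hg (h.Z_le_A hw)
    rw [← hbc]
    have e2 : hT.μ 0 b c = hT.μ 0 0 e' := by
      rw [he', hμ, hμ, ← map_inv, ← map_mul, ← map_mul]
      exact congrArg π (Subtype.ext hbc)
    obtain ⟨-, rfl, -⟩ := hT.inj _ _ _ _ _ _ e2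
    exact h.mem_Z.2 ⟨c, rfl⟩
  have hfix' : ¬ hT.swap.FixZ ⊤ := by
    intro hf
    apply hB
    intro g _ hg w hw
    obtain ⟨d, rfl⟩ := h.swap.mem_Z.1 hw
    have hgM : g ∈ M := hNB (swap_A h ▸ hg)
    have hgπ : π ⟨g, hgM⟩ ∈ Subgroup.normalizer (hT.swap.A : Set (↥M ⧸ pPrimeCore 2 ↥M)) :=
      mem_normalizer_of_forall fun x ⟨b, c, hx⟩ => by
        obtain ⟨b', c', e⟩ :=
          conj_mem_of_normalizer hg (show h.swap.μ 0 b c ∈ h.swap.A from ⟨b, c, rfl⟩)
        refine ⟨b', c', ?_⟩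
        show hT.μ b' 0 (c' + 0 * b') = _
        rw [← hx, hμ, ← map_inv]
        show _ = _ * hT.μ b 0 (c + 0 * b) * _
        rw [hμ, ← map_mul, ← map_mul]
        exact congrArg π (Subtype.ext e)
    obtain ⟨e', he'⟩ := hT.swap.mem_Z.1 (hf _ (Subgroup.mem_top _) hgπ _ (hT.swap.mem_Z.2 ⟨d, rfl⟩))
    obtain ⟨b, c, hbc⟩ := conj_mem_of_normalizer hg (h.swap.Z_le_A hw)
    rw [← hbc]
    have e2 : hT.swap.μ 0 b c = hT.swap.μ 0 0 e' := by
      rw [he']
      show π _ = π _ * π _ * (π _)⁻¹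
      rw [← map_inv, ← map_mul, ← map_mul]
      exact congrArg π (Subtype.ext hbc)
    obtain ⟨-, rfl, -⟩ := hT.swap.inj _ _ _ _ _ _ e2
    exact h.swap.mem_Z.2 ⟨c, rfl⟩
  refine ⟨T, hT, hfix, hfix', fun z hz hz1 => ?_⟩
  obtain ⟨d, rfl⟩ := hT.mem_Z.1 hz
  have hzZ : h.μ 0 0 d ∈ h.Z := h.mem_Z.2 ⟨d, rfl⟩
  have hd1 : h.μ 0 0 d ≠ 1 := fun e => hz1 (hT.eq_one_iff.2 (h.eq_one_iff.1 e))
  have hCM : Subgroup.centralizer ({h.μ 0 0 d} : Set G) ≤ M := hM ▸ h.centralizer_Z_le hA hB hzZ hd1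
  haveI : (pPrimeCore 2 ↥(Subgroup.centralizer ({h.μ 0 0 d} : Set G))).Normal :=
    HallCore.pPrimeCore_normal 2 _
  set C := Subgroup.centralizer ({h.μ 0 0 d} : Set G) with hC
  set Q := Subgroup.centralizer ({hT.μ 0 0 d} : Set (↥M ⧸ pPrimeCore 2 ↥M)) with hQ'
  haveI : (pPrimeCore 2 ↥Q).Normal := HallCore.pPrimeCore_normal 2 _
  let ψ : ↥C →* ↥Q := (π.comp (Subgroup.inclusion hCM)).codRestrict Q fun c =>
    Subgroup.mem_centralizer_singleton_iff.2 (by
      rw [hμ, MonoidHom.comp_apply, ← map_mul, ← map_mul]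
      exact congrArg π (Subtype.ext (Subgroup.mem_centralizer_singleton_iff.1 c.2)))
  -- centralisers lift
  have hψ : Function.Surjective ψ := by
    rintro ⟨q, hq⟩
    obtain ⟨m, rfl⟩ := QuotientGroup.mk'_surjective (pPrimeCore 2 M) q
    set zM : ↥M := ⟨h.μ 0 0 d, hSM (h.mem' _ _ _)⟩ with hzM
    have hzo : orderOf zM = 2 := by
      rw [← Subgroup.orderOf_coe, hzM]
      exact orderOf_eq_prime (by rw [pow_two]; exact h.A_sq (h.Z_le_A hzZ)) hd1
    have hzo' : orderOf (m * zM * m⁻¹) = 2 := by rw [SignalizerStrongEmb.orderOf_conj, hzo]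
    have hmem : zM * (m * zM * m⁻¹) ∈ pPrimeCore 2 M := by
      refine (QuotientGroup.eq_one_iff _).1 ?_
      show π _ = 1
      have e := Subgroup.mem_centralizer_singleton_iff.1 hq
      rw [hμ] at e
      rw [map_mul, map_mul, map_mul, map_inv, e, mul_inv_cancel_right, ← map_mul,
        SignalizerStrongEmb.involution_mul_self hzo, map_one]
    have hodd' : Odd (orderOf (zM * (m * zM * m⁻¹))) := hodd.of_dvd_nat (by
      rw [show orderOf (zM * (m * zM * m⁻¹)) = orderOf (⟨_, hmem⟩ : pPrimeCore 2 M) from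
        Subgroup.orderOf_coe (⟨_, hmem⟩ : pPrimeCore 2 M)]
      exact orderOf_dvd_natCard _)
    obtain ⟨w, hw, hwe⟩ := SignalizerStrongEmb.exists_conj_of_odd hzo hzo' hodd'
    have hwO : w ∈ pPrimeCore 2 M := Subgroup.zpowers_le.2 hmem hw
    have hcm : w⁻¹ * m * zM = zM * (w⁻¹ * m) := by
      calc w⁻¹ * m * zM = w⁻¹ * (m * zM * m⁻¹) * m := by group
        _ = w⁻¹ * (w * zM * w⁻¹) * m := by rw [hwe]
        _ = zM * (w⁻¹ * m) := by group
    refine ⟨⟨((w⁻¹ * m : ↥M) : G),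
      Subgroup.mem_centralizer_singleton_iff.2 (congrArg Subtype.val hcm)⟩, Subtype.ext ?_⟩
    show π (w⁻¹ * m) = π m
    rw [map_mul, map_inv, show π w = 1 from (QuotientGroup.eq_one_iff w).2 hwO, inv_one, one_mul]
  -- the kernel is the core
  have hkerψ : ψ.ker = pPrimeCore 2 C := by
    refine le_antisymm (HallCore.le_pPrimeCore ?_) fun o ho => ?_
    · refine Nat.Coprime.coprime_dvd_left
        (Subgroup.card_dvd_of_injective ((Subgroup.inclusion hCM).comp ψ.ker.subtype |>.codRestrict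
          (pPrimeCore 2 M) fun x => (QuotientGroup.eq_one_iff _).1 (congrArg Subtype.val x.2))
          fun x y e => Subtype.ext (Subgroup.inclusion_injective hCM (congrArg Subtype.val e)))
        (HallCore.coprime_card_pPrimeCore 2 M)
    · have hW : (o : G) ∈ h.sigW :=
        le_iSup (fun z : {z : G // z ∈ h.Z ∧ z ≠ 1} => centralizerPPrimeCore 2 (z : G))
          ⟨_, hzZ, hd1⟩ ⟨o, ho, rfl⟩
      haveI : (h.sigW.subgroupOf M).Normal :=
        ⟨fun x hx g => conj_mem_of_normalizer (g := (g : G)) (hM.le g.2) hx⟩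
      have hle : h.sigW.subgroupOf M ≤ pPrimeCore 2 M := HallCore.le_pPrimeCore
        (Nat.Coprime.coprime_dvd_left (HallCore.card_subgroupOf_dvd _ _)
          (Nat.coprime_two_right.2 (h.exists_signalizer hA).1))
      exact Subtype.ext ((QuotientGroup.eq_one_iff _).2 (hle hW))
  have hP : (pPrimeCore 2 ↥Q).comap ψ ≤ ψ.ker := by
    rw [hkerψ]
    haveI : ((pPrimeCore 2 ↥Q).comap ψ).Normal := Subgroup.Normal.comap inferInstance _
    refine HallCore.le_pPrimeCore (Nat.coprime_two_right.2 ?_)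
    have hsur : Function.Surjective (ψ.subgroupComap (pPrimeCore 2 ↥Q)) := fun x => by
      obtain ⟨y, hy⟩ := hψ x.1
      exact ⟨⟨y, show ψ y ∈ _ by rw [hy]; exact x.2⟩, Subtype.ext hy⟩
    rw [← Subgroup.card_mul_index (ψ.subgroupComap (pPrimeCore 2 ↥Q)).ker, Subgroup.index_ker,
      MonoidHom.range_eq_top.2 hsur, Subgroup.card_top]
    refine Odd.mul ((Nat.coprime_two_right.1
      (hkerψ ▸ HallCore.coprime_card_pPrimeCore 2 C : (Nat.card ψ.ker).Coprime 2)).of_dvd_nat ?_)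
      (Nat.coprime_two_right.1 (HallCore.coprime_card_pPrimeCore 2 _))
    exact Subgroup.card_dvd_of_injective ((((pPrimeCore 2 ↥Q).comap ψ).subtype.comp
      (ψ.subgroupComap (pPrimeCore 2 ↥Q)).ker.subtype).codRestrict ψ.ker fun x =>
        MonoidHom.mem_ker.2 (congrArg Subtype.val x.2)) fun x y e =>
      Subtype.ext (Subtype.ext (congrArg Subtype.val e :))
  show (pPrimeCore 2 ↥Q).map Q.subtype = ⊥
  rw [(Subgroup.map_eq_bot_iff_of_injective _ Q.subtype_injective), eq_bot_iff]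
  intro x hx
  obtain ⟨y, rfl⟩ := hψ x
  exact MonoidHom.mem_ker.1 (hP hx)

end Chart

end Cfsg.Agent.L34Syl83
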