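import Cfsg.Agent.Lib.AutL34Aut54
import Cfsg.Agent.Lib.HallTheorem
import Cfsg.Agent.S0205

/-!
# Overgroups of `PSL₃(4)` with odd index, and subgroups of odd order of `PGL₃(4)`
-/

set_option autoImplicit false

namespace Cfsg.Agent.L34Syl83

open Matrix
open Cfsg.Agent.AutPSLBasic Cfsg.Agent.AutPSLMain Cfsg.Agent.AutPSLApi
open scoped MatrixGroups

universe u v

theorem range_cjP_normal {F : Type v} [Field F] [Fintype F] (h2 : 2 ≤ 3) :
    (cjP (F := F) (n := 3) h2).range.Normal := by
  refine ⟨fun x hx α => ?_⟩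
  obtain ⟨q, rfl⟩ := hx
  obtain ⟨k, rfl⟩ := QuotientGroup.mk_surjective q
  show α * cj k * α⁻¹ ∈ (cjP (F := F) h2).range
  obtain ⟨g, σ, e | ⟨-, e⟩⟩ := aut_decomp h2 α
  · refine ⟨QuotientGroup.mk (g * Matrix.GeneralLinearGroup.map (σ : F →+* F) k * g⁻¹), ?_⟩
    show cj (g * Matrix.GeneralLinearGroup.map (σ : F →+* F) k * g⁻¹) = _
    rw [e, map_mul, map_mul, map_inv, _root_.mul_inv_rev, mul_assoc (cj g) (fd σ) (cj k),
      fd_mul_cj]
    simp [mul_assoc]
  · refine ⟨QuotientGroup.mk
      (g * Matrix.GeneralLinearGroup.map (σ : F →+* F) (glInvT k) * g⁻¹), ?_⟩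
    show cj (g * Matrix.GeneralLinearGroup.map (σ : F →+* F) (glInvT k) * g⁻¹) = _
    rw [e, map_mul, map_mul, map_inv, _root_.mul_inv_rev, _root_.mul_inv_rev,
      show cj g * fd σ * it * cj k = cj g * (fd σ * (it * cj k)) from by simp [mul_assoc],
      it_mul_cj, ← mul_assoc (fd σ), fd_mul_cj]
    simp [mul_assoc]

theorem card_pgl34 {F : Type v} [Field F] [Fintype F] (hF : Fintype.card F = 4) :
    Nat.card (GL (Fin 3) F ⧸ Subgroup.center (GL (Fin 3) F)) = 60480 := by
  have h1 : Nat.card (GL (Fin 3) F ⧸ Subgroup.center (GL (Fin 3) F)) =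
      Nat.card (Matrix.SpecialLinearGroup (Fin 3) F) := PSLCard.card_PGL
  have h2 := PSLCard.card_SL (F := F) 3
  rw [Nat.card_eq_fintype_card (α := F), hF, Fin.prod_univ_three] at h2
  norm_num at h2
  rw [h1]
  omega

theorem index_range_cjP {F : Type v} [Field F] [Fintype F] (hF : Fintype.card F = 4)
    (h2 : 2 ≤ 3) : (cjP (F := F) (n := 3) h2).range.index = 4 := by
  have h := (cjP (F := F) (n := 3) h2).range.card_mul_index
  rw [AutL34Aut54.card_mulAut_PSL34 hF,
    ← Nat.card_congr (MonoidHom.ofInjective (cjP_injective (F := F) (n := 3) h2)).toEquiv,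
    card_pgl34 hF] at h
  omega

/-- A group with a normal subgroup of odd index isomorphic to `PSL₃(4)` and with trivial
centraliser embeds in `PGL₃(4)`. -/
theorem embeds_of_normal_psl {G : Type u} [Group G] [Finite G] {F : Type v} [Field F] [Fintype F]
    (hF : Fintype.card F = 4) {F0 : Type} [Field F0] [Fintype F0] (h0 : Fintype.card F0 = 4)
    (L : Subgroup G) (hn : L.Normal) (hodd : Odd L.index)
    (hC : Subgroup.centralizer (L : Set G) = ⊥)
    (e : L ≃* Matrix.ProjectiveSpecialLinearGroup (Fin 3) F0) :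
    ∃ f : G →* GL (Fin 3) F ⧸ Subgroup.center (GL (Fin 3) F), Function.Injective f := by
  haveI := hn
  obtain ⟨eP⟩ := AutL34Aut54.exists_psl_equiv (F := F)
    (FiniteField.ringEquivOfCardEq (h0.trans hF.symm) : F0 ≃+* F)
  let E := e.trans eP
  let Φ : G →* MulAut (P 3 F) :=
    (MulAut.congr E).toMonoidHom.comp (MulAut.conjNormal (H := L))
  have hΦ : Function.Injective Φ := by
    refine (MulAut.congr E).injective.comp ?_
    rw [injective_iff_map_eq_one]
    intro k hk
    have : k ∈ Subgroup.centralizer (L : Set G) := by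
      rw [Subgroup.mem_centralizer_iff]
      intro x hx
      have := congrArg Subtype.val (congrArg (fun e' : MulAut L => e' ⟨x, hx⟩) hk)
      simp only [MulAut.conjNormal_apply, MulAut.one_apply, mul_inv_eq_iff_eq_mul] at this
      exact this.symm
    rwa [hC, Subgroup.mem_bot] at this
  have h2 : 2 ≤ 3 := by norm_num
  haveI := range_cjP_normal (F := F) h2
  have hLR : L ≤ (cjP (F := F) h2).range.comap Φ := by
    intro l hl
    refine ⟨AutL34Aut54.incl (E ⟨l, hl⟩), ?_⟩
    rw [AutL34Aut54.cjP_incl]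
    apply MulEquiv.ext
    intro p
    obtain ⟨y, rfl⟩ := E.surjective p
    show E ⟨l, hl⟩ * E y * (E ⟨l, hl⟩)⁻¹ = E (MulAut.conjNormal l (E.symm (E y)))
    rw [← map_inv, ← map_mul, ← map_mul, E.symm_apply_apply]
    congr 1
  have htop : (cjP (F := F) h2).range.comap Φ = ⊤ := by
    rw [← Subgroup.index_eq_one]
    have ha := Subgroup.index_dvd_of_le hLR
    have hb : ((cjP (F := F) h2).range.comap Φ).index ∣ 4 := by
      rw [Subgroup.index_comap, ← index_range_cjP hF h2]
      exact Subgroup.relIndex_dvd_index_of_normal _ _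
    have ho : Odd ((cjP (F := F) h2).range.comap Φ).index := hodd.of_dvd_nat ha
    rcases (Nat.dvd_prime_pow Nat.prime_two).1 (show _ ∣ 2 ^ 2 from hb) with ⟨k, -, hk⟩
    rcases k with _ | k
    · simpa using hk
    · rw [hk] at ho
      exact absurd ho (by simp [pow_succ, parity_simps])
  let Ψ : G →* (cjP (F := F) h2).range := Φ.codRestrict _ fun g => by
    have : g ∈ (cjP (F := F) h2).range.comap Φ := by rw [htop]; trivial
    exact this
  refine ⟨(MonoidHom.ofInjective (cjP_injective (F := F) h2)).symm.toMonoidHom.comp Ψ, ?_⟩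
  refine (MonoidHom.ofInjective (cjP_injective (F := F) h2)).symm.injective.comp ?_
  intro a b hab
  exact hΦ (congrArg Subtype.val hab)

theorem zmod7_pow_five : ∀ r : ZMod 7, r ^ 5 = 1 → r = 1 := by decide

/-- A cyclic-type fact: a group of order `35` has an element of order `35`. -/
theorem exists_orderOf_35 {H : Type*} [Group H] (hH : Nat.card H = 35) :
    ∃ x : H, orderOf x = 35 := by
  haveI : Finite H := Nat.finite_of_card_ne_zero (by omega)
  haveI : Fact (Nat.Prime 7) := ⟨by norm_num⟩
  haveI : Fact (Nat.Prime 5) := ⟨by norm_num⟩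
  obtain ⟨a, ha⟩ := exists_prime_orderOf_dvd_card' (G := H) 7 (by omega)
  obtain ⟨b, hb⟩ := exists_prime_orderOf_dvd_card' (G := H) 5 (by omega)
  -- the subgroup generated by `a` is the unique subgroup of order seven
  let P : Sylow 7 H := Sylow.ofCard (Subgroup.zpowers a) (by
    rw [Nat.card_zpowers, ha, hH]
    have : (35 : ℕ).factorization 7 = 1 := by
      rw [show (35 : ℕ) = 7 * 5 by norm_num, Nat.factorization_mul (by norm_num) (by norm_num),
        Nat.Prime.factorization (by norm_num), Nat.Prime.factorization (by norm_num)]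
      simp
    rw [this, pow_one])
  have hone : Nat.card (Sylow 7 H) = 1 := by
    have h1 := P.card_dvd_index
    have h2 : (P : Subgroup H).index = 5 := by
      have := (P : Subgroup H).card_mul_index
      have h7 : Nat.card (P : Subgroup H) = 7 := by
        show Nat.card (Subgroup.zpowers a) = 7
        rw [Nat.card_zpowers, ha]
      rw [h7, hH] at this
      omega
    have h3 := card_sylow_modEq_one 7 H
    rw [h2] at h1
    rcases (Nat.dvd_prime (by norm_num : Nat.Prime 5)).1 h1 with h | h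
    · exact h
    · rw [h] at h3
      exact absurd h3 (by decide)
  haveI : Subsingleton (Sylow 7 H) := (Nat.card_eq_one_iff_unique.1 hone).1
  haveI hnorm : (P : Subgroup H).Normal := P.normal_of_subsingleton
  have hmem : b * a * b⁻¹ ∈ Subgroup.zpowers a :=
    hnorm.conj_mem a (Subgroup.mem_zpowers a) b
  obtain ⟨j, hj⟩ := Subgroup.mem_zpowers_iff.1 hmem
  -- conjugation by `b` is the `j`th power and has order dividing five
  have hit : ∀ m : ℕ, b ^ m * a * (b ^ m)⁻¹ = a ^ (j ^ m) := by
    intro m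
    induction m with
    | zero => simp
    | succ m ih =>
      have : b ^ (m + 1) * a * (b ^ (m + 1))⁻¹ = b * (b ^ m * a * (b ^ m)⁻¹) * b⁻¹ := by
        rw [pow_succ']; group
      rw [this, ih, ← conj_zpow, ← hj, ← _root_.zpow_mul, pow_succ']
  have h5 := hit 5
  rw [← hb, pow_orderOf_eq_one, hb, one_mul, inv_one, mul_one] at h5
  have hc : Commute a b := by
    have hd : a ^ (j ^ 5 - 1) = 1 := by rw [_root_.zpow_sub, ← h5, zpow_one, mul_inv_cancel]
    have hd7 : (7 : ℤ) ∣ j ^ 5 - 1 := by
      have := orderOf_dvd_iff_zpow_eq_one.2 hd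
      rwa [ha] at this
    have hj1 : (7 : ℤ) ∣ j - 1 := by
      rw [show (7 : ℤ) = ((7 : ℕ) : ℤ) from rfl, ← ZMod.intCast_zmod_eq_zero_iff_dvd] at hd7 ⊢
      push_cast at hd7 ⊢
      rw [sub_eq_zero] at hd7 ⊢
      exact zmod7_pow_five _ hd7
    have : a ^ j = a := by
      have := orderOf_dvd_iff_zpow_eq_one.1 (show (orderOf a : ℤ) ∣ j - 1 by rw [ha]; exact hj1)
      rw [_root_.zpow_sub, zpow_one, mul_inv_eq_one] at this
      exact this
    rw [this] at hj
    show a * b = b * a
    calc a * b = (b * a * b⁻¹) * b := by rw [← hj]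
      _ = b * a := by group
  exact ⟨a * b, by rw [hc.orderOf_mul_eq_mul_orderOf_of_coprime (by rw [ha, hb]; norm_num), ha, hb]⟩

/-- No subgroup of odd order of `PGL₃(4)` has order divisible by `35`. -/
theorem no_odd_35 {F : Type v} [Field F] [Fintype F] (hF : Fintype.card F = 4)
    (D : Subgroup (GL (Fin 3) F ⧸ Subgroup.center (GL (Fin 3) F))) (hD : Odd (Nat.card D)) :
    ¬ 35 ∣ Nat.card D := by
  intro h35
  haveI : Group.IsSolvable D := S0205.result hD
  obtain ⟨H, hH⟩ := HallTheorem.exists_isPiHall_of_solvable (G := D) {q | q ∣ 35}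
  have hsub : Nat.card D ∣ 60480 := card_pgl34 hF ▸ D.card_subgroup_dvd_card
  obtain ⟨n, hn⟩ := h35
  have hn' : n ∣ 1728 := by
    rw [hn] at hsub
    exact Nat.dvd_of_mul_dvd_mul_left (by norm_num : 0 < 35) hsub
  have hco : Nat.Coprime 35 n := by
    refine Nat.Coprime.coprime_dvd_right hn' ?_
    norm_num
  have hH35 : Nat.card H = 35 := HallTheorem.card_isPiHall_of_eq hn hco hH
  obtain ⟨y, hy⟩ := exists_orderOf_35 hH35
  obtain ⟨x, hx⟩ := QuotientGroup.mk'_surjective (Subgroup.center (GL (Fin 3) F))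
    ((y : D) : GL (Fin 3) F ⧸ Subgroup.center (GL (Fin 3) F))
  -- the subgroup generated by the scalars and `x`
  set C := Subgroup.center (GL (Fin 3) F) with hCdef
  have hord : orderOf (QuotientGroup.mk' C x) = 35 := by
    rw [hx, Subgroup.orderOf_coe, Subgroup.orderOf_coe, hy]
  let K : Subgroup (GL (Fin 3) F) := (Subgroup.zpowers (QuotientGroup.mk' C x)).comap
    (QuotientGroup.mk' C)
  have hCK : C ≤ K := by
    intro c hc
    have h1 : QuotientGroup.mk' C c = 1 := (QuotientGroup.eq_one_iff c).2 hc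
    show QuotientGroup.mk' C c ∈ Subgroup.zpowers (QuotientGroup.mk' C x)
    rw [h1]
    exact one_mem _
  have hcardC : Nat.card C = 3 := by
    rw [hCdef, PSLCard.card_center_GL, PSLCard.card_units_field, Nat.card_eq_fintype_card, hF]
  have hcardK : Nat.card K = 3 * 35 := by
    have h := Subgroup.relIndex_ker (K := K) (QuotientGroup.mk' C)
    rw [QuotientGroup.ker_mk', Subgroup.map_comap_eq_self_of_surjective
      (QuotientGroup.mk'_surjective C), Nat.card_zpowers, hord] at h
    rw [← Subgroup.card_mul_index (C.subgroupOf K), Nat.card_congr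
      (Subgroup.subgroupOfEquivOfLe hCK).toEquiv, hcardC]
    exact congrArg (3 * ·) h
  -- inside the span of `1`, `x`, `x ^ 2`
  let A := (x : Matrix (Fin 3) (Fin 3) F)
  let S : Submodule F (Matrix (Fin 3) (Fin 3) F) :=
    Submodule.span F (Set.range fun i : Fin 3 => A ^ (i : ℕ))
  have hpow : ∀ k : ℕ, A ^ k ∈ S := by
    intro k
    rw [Matrix.pow_eq_aeval_mod_charpoly A k,
      Polynomial.aeval_eq_sum_range' (n := 3) ?_]
    · refine Submodule.sum_mem _ fun i hi => Submodule.smul_mem _ _ ?_
      exact Submodule.subset_span ⟨⟨i, Finset.mem_range.1 hi⟩, rfl⟩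
    · have := Polynomial.natDegree_modByMonic_lt (Polynomial.X ^ k) A.charpoly_monic (by
        intro h
        have := congrArg Polynomial.natDegree h
        rw [Matrix.charpoly_natDegree_eq_dim] at this
        simp at this)
      rwa [Matrix.charpoly_natDegree_eq_dim, Fintype.card_fin] at this
  have hS : ∀ g ∈ K, (g : Matrix (Fin 3) (Fin 3) F) ∈ S := by
    intro g hg
    have hg' : QuotientGroup.mk' C g ∈ Subgroup.zpowers (QuotientGroup.mk' C x) := hg
    obtain ⟨k, hk⟩ := (mem_powers_iff_mem_zpowers.2 hg' : _)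
    have hmem : g * (x ^ k)⁻¹ ∈ C := by
      rw [← QuotientGroup.eq_one_iff]
      show QuotientGroup.mk' C (g * (x ^ k)⁻¹) = 1
      rw [map_mul, map_inv, map_pow]
      exact mul_inv_eq_one.2 hk.symm
    rw [hCdef, Matrix.GeneralLinearGroup.center_eq_range_scalar] at hmem
    obtain ⟨c, hc⟩ := hmem
    have hgx : g = Matrix.GeneralLinearGroup.scalar (Fin 3) c * x ^ k := by
      rw [hc, inv_mul_cancel_right]
    have : (g : Matrix (Fin 3) (Fin 3) F) = (c : F) • A ^ k := by
      rw [hgx, Units.val_mul, Units.val_pow_eq_pow_val]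
      simp [Matrix.scalar_apply, Matrix.smul_eq_diagonal_mul, A]
    rw [this]
    exact Submodule.smul_mem _ _ (hpow k)
  have hle : Nat.card K ≤ Nat.card S :=
    Nat.card_le_card_of_injective (fun g : K => (⟨_, hS g g.2⟩ : S)) fun a b hab =>
      Subtype.ext (Units.ext (congrArg Subtype.val hab))
  have hSle : Nat.card S ≤ 4 ^ 3 := by
    rw [Module.natCard_eq_pow_finrank (K := F) (V := S), Nat.card_eq_fintype_card, hF]
    refine Nat.pow_le_pow_right (by norm_num) ?_
    exact le_trans (finrank_range_le_card _) (by simp)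
  omega

end Cfsg.Agent.L34Syl83
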