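import Mathlib
import Cfsg.Agent.Lib.EppoCIT4
import Cfsg.Agent.Lib.PSLCard
import Cfsg.Agent.Lib.PSL2Sylow

/-!
The Suzuki groups are the only simple groups with `2`-group centralisers of involutions, an element
of order four and three self-centralising Hall subgroups of the given kind.
-/

set_option autoImplicit false
set_option linter.unusedVariables false
set_option linter.style.haveILetI false

namespace Cfsg.Agent.ThreeSSC77

open Matrix Cfsg.Agent.PSL2Elements
open scoped MatrixGroups

universe u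

/-- `PSL₂` in characteristic two has no element of order four. -/
theorem no_four_psl2_char_two {F : Type} [Field F] [Fintype F] {n : ℕ}
    (hn : Fintype.card F = 2 ^ n) (x : Matrix.ProjectiveSpecialLinearGroup (Fin 2) F) :
    orderOf x ≠ 4 := by
  intro hx
  obtain ⟨p, hchar, m, hp, hm⟩ := FiniteField.card' F
  have hn0 : n ≠ 0 := by
    rintro rfl
    have := Fintype.one_lt_card (α := F)
    simp [hn] at this
  obtain rfl : p = 2 := by
    have : p ∣ 2 ^ n := by
      rw [← hn, hm]; exact dvd_pow_self p m.pos.ne'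
    exact (Nat.prime_dvd_prime_iff_eq hp Nat.prime_two).1 (hp.dvd_of_dvd_pow this)
  haveI : Fact (Nat.Prime 2) := ⟨Nat.prime_two⟩
  haveI : CharP (Matrix (Fin 2) (Fin 2) F) 2 := inferInstance
  have hneg : ∀ A : SL(2, F), -A = A := fun A => by
    refine Subtype.ext ?_
    ext i j
    simp [CharTwo.neg_eq]
  obtain ⟨A, rfl⟩ := QuotientGroup.mk'_surjective _ x
  have h4 : A ^ 4 = 1 := by
    have h : A ^ 4 ∈ Subgroup.center SL(2, F) := by
      rw [← QuotientGroup.eq_one_iff]
      have := pow_orderOf_eq_one (QuotientGroup.mk' (Subgroup.center SL(2, F)) A)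
      rw [hx] at this
      exact this
    rcases (mem_center_iff _).1 h with e | e
    · exact e
    · rw [e, hneg]
  have hq : Nat.card F = 2 ^ n := by rw [Nat.card_eq_fintype_card, hn]
  have h2q : 2 ∣ 2 ^ n := dvd_pow_self 2 hn0
  have h1q : 1 ≤ 2 ^ n := Nat.one_le_two_pow
  have hA2 : A ^ 2 = 1 := by
    have kill : ∀ N : ℕ, ¬ 2 ∣ N → A ^ N = 1 → A ^ 2 = 1 := by
      intro N hN h
      have hc : Nat.Coprime N (2 ^ 2) := (Nat.prime_two.coprime_iff_not_dvd.2 hN).symm.pow_right 2
      have : orderOf A = 1 := Nat.eq_one_of_dvd_coprimes hc (orderOf_dvd_of_pow_eq_one h)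
        (orderOf_dvd_of_pow_eq_one (by norm_num [h4]))
      rw [orderOf_eq_one_iff.1 this, one_pow]
    rcases pow_trichotomy 2 A with ⟨-, h⟩ | ⟨-, h⟩ | h | h
    · exact h
    · rwa [hneg] at h
    · exact kill _ (by omega) h
    · exact kill _ (by omega) h
  have h : orderOf (QuotientGroup.mk' (Subgroup.center SL(2, F)) A) ∣ 2 :=
    orderOf_dvd_of_pow_eq_one (by rw [← map_pow, hA2, map_one])
  rw [hx] at h
  norm_num at h

/-- The order of `PSL₃(4)`. -/
theorem card_psl3_four {F : Type} [Field F] [Fintype F] (hF : Fintype.card F = 4) :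
    Nat.card (Matrix.ProjectiveSpecialLinearGroup (Fin 3) F) = 20160 := by
  have h := PSLCard.card_PSL_mul (F := F) 3
  have h2 := PSLCard.card_SL (F := F) 3
  rw [← h, Fin.prod_univ_three, Nat.card_eq_fintype_card (α := F), hF] at h2
  norm_num at h2
  omega

theorem orderOf_conj' {G : Type*} [Group G] (g x : G) : orderOf (g * x * g⁻¹) = orderOf x :=
  orderOf_injective (MulAut.conj g).toMonoidHom (MulAut.conj g).injective x

theorem orderOf_not_dvd_two_of_cit {G : Type*} [Group G] [Finite G] (hCIT : CIT21.IsCIT G)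
    {x y : G} (hx1 : x ≠ 1) (hx : Odd (orderOf x)) (hy : Commute x y) : Odd (orderOf y) := by
  by_contra hc
  rw [Nat.not_odd_iff_even] at hc
  obtain ⟨k, hk⟩ := hc
  have ht : orderOf (y ^ k) = 2 := by
    have h0 := orderOf_pos y
    rw [show k = orderOf y / 2 by omega]
    exact orderOf_pow_orderOf_div h0.ne' ⟨k, by omega⟩
  have hmem : x ∈ Subgroup.centralizer ({y ^ k} : Set G) := by
    rw [Subgroup.mem_centralizer_singleton_iff]
    exact (hy.pow_right k).eq
  obtain ⟨j, hj⟩ := hCIT _ ht ⟨x, hmem⟩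
  have hd : orderOf x ∣ 2 ^ j := by
    have := orderOf_dvd_of_pow_eq_one hj
    rwa [Subgroup.orderOf_mk] at this
  have : Nat.Coprime (orderOf x) (2 ^ j) := hx.coprime_two_right.pow_right j
  exact hx1 (orderOf_eq_one_iff.1 (Nat.eq_one_of_dvd_coprimes this dvd_rfl hd))

/-- The orbit of a normaliser on a subgroup of prime order on which it acts transitively. -/
theorem card_normalizer_of_fused {G : Type*} [Group G] [Finite G] {p : ℕ} (hp : p.Prime) {x : G}
    (hx : orderOf x = p) (hC : Subgroup.centralizer ({x} : Set G) = Subgroup.zpowers x)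
    (hconj : ∀ y ∈ Subgroup.zpowers x, y ≠ 1 → IsConj x y) :
    Nat.card (Subgroup.normalizer (Subgroup.zpowers x : Set G)) = (p - 1) * p := by
  classical
  haveI : Fact p.Prime := ⟨hp⟩
  set P := Subgroup.zpowers x with hP
  have hPc : Nat.card P = p := by rw [hP, Nat.card_zpowers, hx]
  have hx1 : x ≠ 1 := fun e => by rw [e, orderOf_one] at hx; exact hp.one_lt.ne hx
  let gen : P := ⟨x, Subgroup.mem_zpowers x⟩
  have hgen1 : gen ≠ 1 := fun e => hx1 (congrArg Subtype.val e)
  let ρ := Subgroup.normalizerMonoidHom P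
  have hker : Nat.card ρ.ker = p := by
    have hcen : Subgroup.centralizer (P : Set G) = P := by
      refine le_antisymm (fun c hc => ?_) (fun c hc => ?_)
      · rw [← hC]
        exact Subgroup.mem_centralizer_singleton_iff.2 ((Subgroup.mem_centralizer_iff.1 hc) x
          (Subgroup.mem_zpowers x)).symm
      · rw [Subgroup.mem_centralizer_iff]
        rintro _ ⟨j, rfl⟩
        obtain ⟨k, rfl⟩ := hc
        exact ((Commute.refl x).zpow_zpow j k).eq
    rw [Subgroup.normalizerMonoidHom_ker, hcen,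
      Nat.card_congr (Subgroup.subgroupOfEquivOfLe Subgroup.le_normalizer).toEquiv, hPc]
  have hrange : Nat.card ρ.range = p - 1 := by
    have hbij : Function.Bijective (fun σ : ρ.range =>
        (⟨(σ : MulAut P) gen, (MulEquiv.map_ne_one_iff _).2 hgen1⟩ : {y : P // y ≠ 1})) := by
      constructor
      · intro σ τ h
        have h' : (σ : MulAut P) gen = (τ : MulAut P) gen := congrArg Subtype.val h
        refine Subtype.ext (MulEquiv.ext fun y => ?_)
        obtain ⟨j, hj⟩ := y.2
        obtain rfl : y = gen ^ j := Subtype.ext (by simpa [gen] using hj.symm)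
        rw [map_zpow, map_zpow, h']
      · rintro ⟨⟨y, hy⟩, hy1⟩
        obtain ⟨g, hg⟩ := isConj_iff.1 (hconj y hy fun e => hy1 (Subtype.ext e))
        have hgen : Subgroup.zpowers y = P := by
          refine Subgroup.eq_of_le_of_card_ge (Subgroup.zpowers_le.2 hy) ?_
          have : orderOf y = p := by rw [← hg, orderOf_conj', hx]
          rw [hPc, Nat.card_zpowers, this]
        have hgN : g ∈ Subgroup.normalizer (P : Set G) := by
          rw [Subgroup.mem_normalizer_iff_map_conj_eq]
          conv_rhs => rw [← hgen]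
          rw [hP, MonoidHom.map_zpowers]
          simp [hg]
        exact ⟨⟨ρ ⟨g, hgN⟩, ⟨_, rfl⟩⟩, Subtype.ext (Subtype.ext hg)⟩
    rw [Nat.card_congr (Equiv.ofBijective _ hbij)]
    haveI := Fintype.ofFinite P
    rw [Nat.card_eq_fintype_card, Fintype.card_subtype_compl, Fintype.card_subtype_eq,
      ← Nat.card_eq_fintype_card, hPc]
  rw [← Subgroup.card_mul_index ρ.ker, Subgroup.index_ker, hker, hrange, mul_comm]

/-- The number of Sylow `p`-subgroups in a simple group of order `p (p² - 1) / 2`. -/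
theorem sylow_index_eq {p v m : ℕ} (hp : 3 ≤ p) (hv : v % p = 1) (hv1 : 1 < v)
    (h : v * m = (p - 1) * (p + 1)) : v = p + 1 ∧ m = p - 1 := by
  obtain ⟨t, ht⟩ : ∃ t, v = t * p + 1 :=
    ⟨v / p, by have := Nat.div_add_mod' v p; omega⟩
  subst ht
  have ht0 : 1 ≤ t := by
    rcases Nat.eq_zero_or_pos t with rfl | h0
    · simp at hv1
    · exact h0
  obtain ⟨q, rfl⟩ : ∃ q, p = q + 1 := ⟨p - 1, by omega⟩
  rw [Nat.add_sub_cancel] at h ⊢
  obtain ⟨s, hs⟩ : ∃ s, m + 1 = s * (q + 1) := by
    refine ⟨(q + 1) - t * m, ?_⟩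
    have hle : t * m ≤ q + 1 := by
      by_contra hc
      have : (q + 1 + 1) * (q + 1) ≤ t * m * (q + 1) := Nat.mul_le_mul_right _ (by omega)
      nlinarith
    obtain ⟨d, hd⟩ := Nat.le.dest hle
    rw [← hd, Nat.add_sub_cancel_left]
    nlinarith
  have hs0 : 1 ≤ s := by
    rcases Nat.eq_zero_or_pos s with rfl | h0
    · simp at hs
    · exact h0
  obtain ⟨m', hm'⟩ : ∃ m' : ℤ, m' = m := ⟨_, rfl⟩
  have hsz : ((m : ℤ) + 1) = s * ((q : ℤ) + 1) := by exact_mod_cast hs
  have hz : ((t : ℤ) * (q + 1) + 1) * m = q * (q + 1 + 1) := by exact_mod_cast h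
  have key : (t : ℤ) * s * (q + 1) + s - t = q + 1 := by
    have e : ((q : ℤ) + 1) * ((t : ℤ) * s * (q + 1) + s - t) = ((q : ℤ) + 1) * (q + 1) := by
      linear_combination hz - ((t : ℤ) * (q + 1) + 1) * hsz
    exact mul_left_cancel₀ (by omega) e
  have ht1 : t = 1 := by
    by_contra hc
    have h1 : (2 : ℤ) ≤ t := by omega
    have h2 : (1 : ℤ) ≤ s := by omega
    nlinarith
  subst ht1
  have hs1 : s = 1 := by
    by_contra hc
    have h2 : (2 : ℤ) ≤ s := by omega
    push_cast at key
    nlinarith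
  subst hs1
  omega

/-- A power of two dividing `p (p² - 1) / 2`, `p = 2 ^ k ± 1`, is at most `p + 1`. -/
theorem two_pow_le_add_one {p w N : ℕ} (h7 : 7 ≤ p) (hpo : Odd p)
    (hk : ∃ k, p = 2 ^ k + 1 ∨ p + 1 = 2 ^ k) (hN : 2 * N = p * ((p - 1) * (p + 1)))
    (hw : 2 ^ w ∣ N) : 2 ^ w ≤ p + 1 := by
  obtain ⟨c, hc⟩ := hpo
  obtain ⟨k, hk⟩ := hk
  have hd : 2 ^ (w + 1) ∣ (p - 1) * (p + 1) := by
    refine (show Nat.Coprime (2 ^ (w + 1)) p from ?_).dvd_of_dvd_mul_left ?_
    · exact ((Nat.odd_iff.2 (by omega) : Odd p).coprime_two_left).pow_left _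
    · rw [← hN, pow_succ, mul_comm]
      exact Nat.mul_dvd_mul_left 2 hw
  rcases k with _ | _ | k
  · rcases hk with hk | hk <;> simp at hk <;> omega
  · rcases hk with hk | hk <;> simp at hk <;> omega
  have hmain : ∀ m, Odd m → (p - 1) * (p + 1) = 2 ^ (k + 3) * m → 2 ^ w ≤ 2 ^ (k + 2) := by
    intro m hm e
    rw [e] at hd
    have h1 := Nat.le_of_dvd (by positivity) ((hm.coprime_two_left.pow_left (w + 1)).dvd_of_dvd_mul_right hd)
    have : w + 1 ≤ k + 3 := (Nat.pow_le_pow_iff_right (by norm_num)).1 h1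
    exact Nat.pow_le_pow_right two_pos (by omega)
  have e2 : 2 ^ (k + 1 + 1) = 2 ^ (k + 2) := rfl
  have e4 : 2 ^ (k + 2) = 2 * 2 ^ (k + 1) := pow_succ' 2 (k + 1)
  rw [e2] at hk
  rcases hk with hk | hk
  · have := hmain (2 ^ (k + 1) + 1) (Even.add_one (by simp [Nat.even_pow])) (by
      rw [show p - 1 = 2 ^ (k + 2) by omega, hk]; ring)
    omega
  · have hpos : 1 ≤ 2 ^ (k + 1) := Nat.one_le_two_pow
    obtain ⟨t, ht⟩ : ∃ t, 2 ^ (k + 1) = t + 1 := ⟨2 ^ (k + 1) - 1, by omega⟩
    have := hmain t (by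
      refine Nat.odd_iff.2 ?_
      have : 2 ∣ 2 ^ (k + 1) := dvd_pow_self 2 (by omega)
      omega) (by
      have e : 2 ^ (k + 2) = 2 * (t + 1) := by rw [← ht]; ring
      have e3 : 2 ^ (k + 3) = 4 * (t + 1) := by rw [← ht]; ring
      rw [show p - 1 = 2 * t by omega, show p + 1 = 2 * (t + 1) by omega, e3]
      ring)
    omega

variable {G : Type u} [Group G] [Finite G]

/-- The groups `PSL₂(p)` have no such system of Hall subgroups. -/
theorem no_prime_case [IsSimpleGroup G] (hCIT : CIT21.IsCIT G) (A : Fin 3 → Subgroup G)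
    (e : Fin 3 → ℕ) (he : e 0 = 2 ∧ e 1 = 4 ∧ e 2 = 4) (hodd : ∀ i, Odd (Nat.card (A i)))
    (hsc : ∀ i, ∀ a ∈ A i, a ≠ 1 → Subgroup.centralizer ({a} : Set G) = A i)
    (hidx : ∀ i, (A i).relIndex (Subgroup.normalizer (A i : Set G)) = e i)
    (hcls : ∀ x : G, x ≠ 1 → Odd (orderOf x) → (∀ i g, g * x * g⁻¹ ∉ A i) →
      (∀ y : G, y ≠ 1 → Odd (orderOf y) → (∀ i g, g * y * g⁻¹ ∉ A i) → IsConj x y) ∨
      ∃ w : ℕ, 2 ^ w ∣ Nat.card G ∧
        Nat.card (A 1) * Nat.card (A 2) * orderOf x ≤ 2 ^ w + 1)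
    (h9 : 9 ≤ Nat.card (A 1)) (h9' : 9 ≤ Nat.card (A 2))
    {p : ℕ} (hp : p.Prime) (h7 : 7 ≤ p) (hk : ∃ k, p = 2 ^ k + 1 ∨ p + 1 = 2 ^ k)
    (hG : 2 * Nat.card G = p * ((p - 1) * (p + 1))) : False := by
  classical
  haveI : Fact p.Prime := ⟨hp⟩
  have hpo : Odd p := hp.odd_of_ne_two (by omega)
  have hpd : p ∣ Nat.card G := by
    have : p ∣ 2 * Nat.card G := ⟨_, hG⟩
    exact (hp.dvd_mul.1 this).resolve_left fun h => by
      have := Nat.le_of_dvd (by norm_num) h; omega
  have hp2 : ¬ p * p ∣ Nat.card G := by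
    intro hd
    have : p * p ∣ p * ((p - 1) * (p + 1)) := hG ▸ hd.mul_left 2
    rcases hp.dvd_mul.1 ((Nat.mul_dvd_mul_iff_left hp.pos).1 this) with h | h
    · have := Nat.le_of_dvd (by omega) h; omega
    · have := Nat.eq_one_of_dvd_one ((Nat.dvd_add_right dvd_rfl).1 h); omega
  obtain ⟨x, hx⟩ := exists_prime_orderOf_dvd_card' p hpd
  -- a `p`-subgroup has order at most `p`
  have hsmall : ∀ Q : Subgroup G, IsPGroup p Q → Nat.card Q ∣ p := by
    intro Q hQ
    obtain ⟨j, hj⟩ := hQ.exists_card_eq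
    rcases Nat.lt_or_ge j 2 with h | h
    · interval_cases j <;> simp [hj]
    · exfalso
      have : p ^ 2 ∣ Nat.card G := (pow_dvd_pow p h).trans (hj ▸ Subgroup.card_subgroup_dvd_card Q)
      exact hp2 (by rwa [sq] at this)
  have hxo : ∀ z : G, orderOf z = p → Odd (orderOf z) ∧ z ≠ 1 := fun z hz =>
    ⟨hz ▸ hpo, fun e => by rw [e, orderOf_one] at hz; omega⟩
  -- Sylow counting
  have count : ∀ z : G, orderOf z = p → ∀ k,
      Nat.card (Subgroup.normalizer (Subgroup.zpowers z : Set G)) = p * k →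
      2 * k = p - 1 := by
    intro z hz k hk'
    have hPS : ∃ P : Sylow p G, (P : Subgroup G) = Subgroup.zpowers z := by
      have hpg : IsPGroup p (Subgroup.zpowers z) :=
        IsPGroup.of_card (n := 1) (by rw [Nat.card_zpowers, hz, pow_one])
      obtain ⟨P, hP⟩ := hpg.exists_le_sylow
      exact ⟨P, (Subgroup.eq_of_le_of_card_ge hP (by
        rw [Nat.card_zpowers, hz]
        exact Nat.le_of_dvd hp.pos (hsmall _ P.isPGroup'))).symm⟩
    obtain ⟨P, hP⟩ := hPS
    have hv := card_sylow_modEq_one p G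
    have hP' : (P : Set G) = (Subgroup.zpowers z : Set G) := by rw [← hP]; rfl
    rw [Sylow.card_eq_index_normalizer P, hP'] at hv
    set N := Subgroup.normalizer (Subgroup.zpowers z : Set G) with hN
    have hmul := Subgroup.card_mul_index N
    rw [hk'] at hmul
    have h1 : 1 < N.index := by
      by_contra hc
      have hpos : 0 < N.index := Nat.pos_of_ne_zero Subgroup.index_ne_zero_of_finite
      have htop : N = ⊤ := Subgroup.index_eq_one.1 (by omega)
      have hn : (Subgroup.zpowers z).Normal := Subgroup.normalizer_eq_top_iff.1 htop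
      rcases hn.eq_bot_or_eq_top with h | h
      · exact (hxo z hz).2 (Subgroup.zpowers_eq_bot.1 h)
      · have : Nat.card (Subgroup.zpowers z) = Nat.card G := by rw [h, Subgroup.card_top]
        rw [Nat.card_zpowers, hz] at this
        rw [← this] at hG
        have h' : 2 = (p - 1) * (p + 1) := mul_left_cancel₀ hp.pos.ne' (by linarith)
        have : 6 * 8 ≤ (p - 1) * (p + 1) := Nat.mul_le_mul (by omega) (by omega)
        omega
    have hv' : N.index % p = 1 := by
      rw [hv, Nat.mod_eq_of_lt hp.one_lt]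
    refine (sylow_index_eq (by omega) hv' h1 ?_).2
    refine mul_left_cancel₀ hp.pos.ne' ?_
    rw [← hG, ← hmul]
    ring
  by_cases hin : ∃ i g, g * x * g⁻¹ ∈ A i
  · obtain ⟨i, g, hg⟩ := hin
    set z := g * x * g⁻¹ with hzdef
    have hz : orderOf z = p := by rw [hzdef, orderOf_conj', hx]
    have hz1 := (hxo z hz).2
    have hC := hsc i z hg hz1
    have hPA : Subgroup.zpowers z ≤ A i := Subgroup.zpowers_le.2 hg
    have hNN : Subgroup.normalizer (Subgroup.zpowers z : Set G) =
        Subgroup.normalizer (A i : Set G) := by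
      apply le_antisymm
      · intro h hh
        have hw : h * z * h⁻¹ ∈ A i :=
          hPA ((Subgroup.mem_normalizer_iff.1 hh z).1 (Subgroup.mem_zpowers z))
        have hw1 : h * z * h⁻¹ ≠ 1 := by simpa using hz1
        rw [Subgroup.mem_normalizer_iff]
        intro c
        have e1 : c ∈ A i ↔ c ∈ Subgroup.centralizer ({z} : Set G) := by rw [hC]
        have e2 : h * c * h⁻¹ ∈ A i ↔
            h * c * h⁻¹ ∈ Subgroup.centralizer ({h * z * h⁻¹} : Set G) := by rw [hsc i _ hw hw1]
        rw [e1, e2, Subgroup.mem_centralizer_singleton_iff, Subgroup.mem_centralizer_singleton_iff]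
        constructor
        · intro hh'
          calc _ = h * (c * z) * h⁻¹ := by group
            _ = h * (z * c) * h⁻¹ := by rw [hh']
            _ = _ := by group
        · intro hh'
          have : h * (c * z) * h⁻¹ = h * (z * c) * h⁻¹ := by
            calc _ = h * c * h⁻¹ * (h * z * h⁻¹) := by group
              _ = h * z * h⁻¹ * (h * c * h⁻¹) := hh'
              _ = _ := by group
          simpa using this
      · intro h hh
        have hw : h * z * h⁻¹ ∈ A i := (Subgroup.mem_normalizer_iff.1 hh z).1 hg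
        have hcomm : Commute z (h * z * h⁻¹) := by
          have := Subgroup.mem_centralizer_singleton_iff.1 (hC ▸ hw : h * z * h⁻¹ ∈ Subgroup.centralizer ({z} : Set G))
          exact this.symm
        have hin' : h * z * h⁻¹ ∈ Subgroup.zpowers z := by
          have hpg : IsPGroup p (Subgroup.zpowers z) :=
            IsPGroup.of_card (n := 1) (by rw [Nat.card_zpowers, hz, pow_one])
          have hpg' : IsPGroup p (Subgroup.zpowers (h * z * h⁻¹)) :=
            IsPGroup.of_card (n := 1) (by rw [Nat.card_zpowers, orderOf_conj', hz, pow_one])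
          have hnorm : Subgroup.zpowers (h * z * h⁻¹) ≤
              Subgroup.normalizer (Subgroup.zpowers z : Set G) := by
            refine Subgroup.zpowers_le.2 ?_
            refine Subgroup.centralizer_le_normalizer _ ?_
            rw [Subgroup.mem_centralizer_iff]
            rintro _ ⟨j, rfl⟩
            exact (hcomm.zpow_left j).eq
          have hj := hpg'.to_sup_of_normal_right' hpg hnorm
          have := Subgroup.eq_of_le_of_card_ge (le_sup_right : Subgroup.zpowers z ≤
            Subgroup.zpowers (h * z * h⁻¹) ⊔ Subgroup.zpowers z) (by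
            rw [Nat.card_zpowers, hz]
            exact Nat.le_of_dvd hp.pos (hsmall _ hj))
          exact this.ge (le_sup_left (b := Subgroup.zpowers z) (Subgroup.mem_zpowers _))
        rw [Subgroup.mem_normalizer_iff_map_conj_eq, MonoidHom.map_zpowers]
        refine Subgroup.eq_of_le_of_card_ge (Subgroup.zpowers_le.2 (by simpa using hin')) ?_
        simp [Nat.card_zpowers, orderOf_conj']
    obtain ⟨m, hm⟩ : p ∣ Nat.card (A i) := by
      rw [← hz, ← Nat.card_zpowers]; exact Subgroup.card_dvd_of_le hPA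
    have hcard : Nat.card (Subgroup.normalizer (A i : Set G)) = p * (e i * m) := by
      have := Subgroup.card_mul_index ((A i).subgroupOf (Subgroup.normalizer (A i : Set G)))
      rw [Nat.card_congr (Subgroup.subgroupOfEquivOfLe Subgroup.le_normalizer).toEquiv,
        ← Subgroup.relIndex, hidx i, hm] at this
      rw [← this]; ring
    have hk2 := count z hz (e i * m) (by rw [hNN]; exact hcard)
    have hmodd : Odd m := (Nat.odd_mul.1 (hm ▸ hodd i)).2
    have he' : e i = 2 ∨ e i = 4 := by fin_cases i <;> simp [he.1, he.2.1, he.2.2]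
    obtain ⟨k, hk⟩ := hk
    obtain ⟨c, hc⟩ := hmodd
    rcases hk with hk | hk
    · have hk' : 2 ^ k = 2 * (e i * m) := by omega
      have hm1 : m = 1 := by
        obtain ⟨j, -, hj⟩ := (Nat.dvd_prime_pow Nat.prime_two).1
          (show m ∣ 2 ^ k from ⟨2 * e i, by rw [hk']; ring⟩)
        rcases j with _ | j
        · simpa using hj
        · rw [pow_succ] at hj; omega
      subst hm1
      rcases he' with e1 | e1 <;> rw [e1] at hk'
      · omega
      · have : p = 9 := by omega
        rw [this] at hp; norm_num at hp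
    · rcases k with _ | _ | k
      · simp at hk; omega
      · simp at hk; omega
      rw [pow_succ, pow_succ] at hk
      rcases he' with e1 | e1 <;> rw [e1] at hk2 <;> omega
  · push Not at hin
    have hfree : ∀ y : G, y ≠ 1 → Commute x y → ∀ i g, g * y * g⁻¹ ∉ A i := by
      intro y hy1 hxy i g hgy
      apply hin i g
      rw [← hsc i _ hgy (by simpa using hy1), Subgroup.mem_centralizer_singleton_iff]
      calc g * x * g⁻¹ * (g * y * g⁻¹) = g * (x * y) * g⁻¹ := by group
        _ = g * (y * x) * g⁻¹ := by rw [hxy.eq]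
        _ = _ := by group
    rcases hcls x (hxo x hx).2 (hxo x hx).1 hin with hclass | ⟨w, hw, hle⟩
    swap
    · rw [hx] at hle
      have h81 : 81 * p ≤ Nat.card (A 1) * Nat.card (A 2) * p :=
        Nat.mul_le_mul_right p (Nat.mul_le_mul h9 h9')
      have := two_pow_le_add_one h7 hpo hk hG hw
      omega
    have hconj : ∀ y : G, y ≠ 1 → Commute x y → IsConj x y := fun y hy1 hxy =>
      hclass y hy1
        (orderOf_not_dvd_two_of_cit hCIT (hxo x hx).2 (hxo x hx).1 hxy) (hfree y hy1 hxy)
    have hCx : Subgroup.centralizer ({x} : Set G) = Subgroup.zpowers x := by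
      refine (Subgroup.eq_of_le_of_card_ge (Subgroup.zpowers_le.2
        (Subgroup.mem_centralizer_singleton_iff.2 rfl)) ?_).symm
      rw [Nat.card_zpowers, hx]
      refine Nat.le_of_dvd hp.pos (hsmall _ fun y => ⟨1, ?_⟩)
      refine Subtype.ext ?_
      simp only [pow_one, SubmonoidClass.coe_pow, Subgroup.coe_one]
      by_cases hy1 : (y : G) = 1
      · simp [hy1]
      · have hxy : Commute x (y : G) := (Subgroup.mem_centralizer_singleton_iff.1 y.2).symm
        obtain ⟨g, hg⟩ := isConj_iff.1 (hconj _ hy1 hxy)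
        have : orderOf (y : G) = p := by rw [← hg, orderOf_conj', hx]
        rw [← this, pow_orderOf_eq_one]
    have hN := card_normalizer_of_fused hp hx hCx (fun y hy hy1 => hconj y hy1 (by
      obtain ⟨j, rfl⟩ := hy
      exact (Commute.refl x).zpow_right j))
    have := count x hx (p - 1) (by rw [hN]; ring)
    omega

/-- A simple group with `2`-group centralisers of involutions, an element of order four and three
self-centralising Hall subgroups as described is a Suzuki group. -/
theorem recognise [IsSimpleGroup G] (hna : ∃ a b : G, a * b ≠ b * a)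
    (hCIT : Cfsg.Agent.CIT21.IsCIT G) (f : G) (hf : orderOf f = 4) (A : Fin 3 → Subgroup G)
    (e : Fin 3 → ℕ) (he : e 0 = 2 ∧ e 1 = 4 ∧ e 2 = 4) (hodd : ∀ i, Odd (Nat.card (A i)))
    (hcop : ∀ i j, i ≠ j → Nat.Coprime (Nat.card (A i)) (Nat.card (A j)))
    (hhall : ∀ i, Nat.Coprime (Nat.card (A i)) (A i).index)
    (hsc : ∀ i, ∀ a ∈ A i, a ≠ 1 → Subgroup.centralizer ({a} : Set G) = A i)
    (hidx : ∀ i, (A i).relIndex (Subgroup.normalizer (A i : Set G)) = e i)
    (hsz : 5 ≤ Nat.card (A 0) ∧ 9 ≤ Nat.card (A 1) ∧ 9 ≤ Nat.card (A 2) ∧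
      Nat.card (A 1) % 4 = 1 ∧ Nat.card (A 2) % 4 = 1)
    (hcls : ∀ x : G, x ≠ 1 → Odd (orderOf x) → (∀ i g, g * x * g⁻¹ ∉ A i) →
      (∀ y : G, y ≠ 1 → Odd (orderOf y) → (∀ i g, g * y * g⁻¹ ∉ A i) → IsConj x y) ∨
      ∃ w : ℕ, 2 ^ w ∣ Nat.card G ∧
        Nat.card (A 1) * Nat.card (A 2) * orderOf x ≤ 2 ^ w + 1) :
    Cfsg.Lie.IsoSuzuki G := by
  obtain ⟨-, h9, h9', hm1, hm2⟩ := hsz
  -- the two Hall subgroups of order one modulo four rule out small groups
  have small : ∀ d b : ℕ, Nat.card G = 2 ^ d * b →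
      ∀ (hdec : ∀ x ∈ b.divisors, ∀ y ∈ b.divisors,
        9 ≤ x → 9 ≤ y → x % 4 = 1 → y % 4 = 1 → Nat.Coprime x y → False), False := by
    intro d b hcard hdec
    have hb : b ≠ 0 := by
      rintro rfl
      rw [mul_zero] at hcard
      exact Nat.card_pos.ne' hcard
    have hmem : ∀ i, Nat.card (A i) ∈ b.divisors := fun i =>
      Nat.mem_divisors.2 ⟨((hodd i).coprime_two_right.pow_right d).dvd_of_dvd_mul_left
        (hcard ▸ Subgroup.card_subgroup_dvd_card (A i)), hb⟩
    exact hdec _ (hmem 1) _ (hmem 2) h9 h9' hm1 hm2 (hcop 1 2 (by decide))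
  rcases EppoCIT4.citList inferInstance hna hCIT with
    ⟨F, hF, hFf, hspec, ⟨φ⟩⟩ | ⟨F, hF, hFf, h4, ⟨φ⟩⟩ | h
  · exfalso
    have hcard : Nat.card G = Nat.card (Matrix.ProjectiveSpecialLinearGroup (Fin 2) F) :=
      Nat.card_congr φ.toEquiv
    have heven : ∀ n, Fintype.card F ≠ 2 ^ n := fun n hn =>
      no_four_psl2_char_two hn (φ f) (by rw [φ.orderOf_eq]; exact hf)
    have hodd' : Fintype.card F % 2 = 1 → 2 * Nat.card G =
        Fintype.card F * ((Fintype.card F - 1) * (Fintype.card F + 1)) := by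
      intro ho
      have h1 := PSLCard.card_PSL2_mul (F := F)
      rw [← hcard, Nat.card_eq_fintype_card (α := F), Nat.gcd_eq_left (by omega)] at h1
      rw [h1]
      congr 1
      rw [mul_comm, ← Nat.sq_sub_sq, one_pow]
    rcases hspec with h | ⟨n, hn⟩ | ⟨hp, hk⟩
    · have h1 := hodd' (by omega)
      rw [h] at h1
      exact small 3 45 (by omega) (by decide)
    · exact heven n hn
    · have ho : Fintype.card F % 2 = 1 :=
        hp.eq_two_or_odd.resolve_left fun h => heven 1 (by rw [h]; norm_num)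
      have h1 := hodd' ho
      by_cases h7 : 7 ≤ Fintype.card F
      · exact no_prime_case hCIT A e he hodd hsc hidx hcls h9 h9' hp h7 hk h1
      · have h2 := hp.two_le
        rcases (show Fintype.card F = 3 ∨ Fintype.card F = 5 by omega) with h | h <;> rw [h] at h1
        · exact small 2 3 (by omega) (by decide)
        · exact small 2 15 (by omega) (by decide)
  · exfalso
    have hcard : Nat.card G = 20160 := (Nat.card_congr φ.toEquiv).trans (card_psl3_four h4)
    exact small 6 315 (by omega) (by decide +kernel)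
  · exact h

end Cfsg.Agent.ThreeSSC77
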