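import Mathlib
import Cfsg.Agent.Lib.L34Syl83NotFix
import Cfsg.Agent.Lib.L34Syl83Over12
import Cfsg.Agent.Lib.AutL34Flags54
import Cfsg.Agent.Lib.AutL34Plane54Main
import Cfsg.Agent.Lib.CITClassifyIso46
import Cfsg.Agent.Lib.ThreeSSC77Recog
import Cfsg.Agent.Lib.SuzukiGroupLie
import Cfsg.Agent.Lib.SuzukiGroupCentralizer
import Cfsg.Agent.Lib.PSL2SylowTwo

/-!
# The core case for a Sylow `2`-subgroup of type `L₃(4)`

`core_case`: both normalisers move `Z` and the centralisers of the central involutions have trivial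
odd core; then the group lies between `PSL₃(4)` and `PGL₃(4)`.
-/

set_option autoImplicit false
set_option linter.style.haveILetI false

namespace Cfsg.Agent.L34Syl83

open Cfsg Matrix
open scoped MatrixGroups

universe u v

/-- An elementary abelian `2`-subgroup of `PSL₂(q)`, `q` odd, has order at most `8`. -/
theorem card_le_of_psl2_odd {K : Type*} [Field K] [Finite K] (hq : Odd (Nat.card K))
    (E : Subgroup (ProjectiveSpecialLinearGroup (Fin 2) K)) (hsq : ∀ x ∈ E, x * x = 1) :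
    Nat.card E ≤ 8 := by
  haveI : Fact (Nat.Prime 2) := ⟨Nat.prime_two⟩
  set E' := E.comap (QuotientGroup.mk' (Subgroup.center SL(2, K))) with hE'
  have h4 : ∀ x ∈ E', x ^ 4 = 1 := by
    intro x hx
    have h1 : x ^ 2 ∈ Subgroup.center SL(2, K) := by
      rw [← QuotientGroup.eq_one_iff, QuotientGroup.mk_pow, pow_two]
      exact hsq _ hx
    obtain ⟨r, hr, hr'⟩ := Matrix.SpecialLinearGroup.mem_center_iff.1 h1
    rw [Fintype.card_fin] at hr
    rw [show x ^ 4 = (x ^ 2) ^ 2 by rw [← pow_mul]]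
    refine Subtype.ext ?_
    show (x ^ 2).1 ^ 2 = 1
    rw [← hr', ← map_pow, hr, map_one]
  have hp : IsPGroup 2 E' := fun x => ⟨2, Subtype.ext (h4 x x.2)⟩
  obtain ⟨P, hP⟩ := hp.exists_le_sylow
  obtain ⟨k, hk, ⟨e⟩⟩ := PSL2SylowTwo.sylow_two_quaternion hq P
  set M := (E'.subgroupOf (P : Subgroup SL(2, K))).map e.toMonoidHom with hM
  have hMc : Nat.card M = Nat.card E' := by
    rw [hM, Subgroup.card_map_of_injective (f := e.toMonoidHom) e.injective]
    exact Nat.card_congr (Subgroup.subgroupOfEquivOfLe hP).toEquiv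
  have hM4 : ∀ x ∈ M, x ^ 4 = 1 := by
    rintro _ ⟨⟨y, hyP⟩, hy, rfl⟩
    rw [← map_pow]
    have : (⟨y, hyP⟩ : (P : Subgroup SL(2, K))) ^ 4 = 1 := Subtype.ext (h4 y hy)
    rw [this, map_one]
  haveI : NeZero (2 ^ k) := ⟨by positivity⟩
  set C := Subgroup.zpowers (QuaternionGroup.a 1 : QuaternionGroup (2 ^ k)) with hC
  have hi : C.index = 2 := by
    have h1 := C.card_mul_index
    have h2 : (0 : ℕ) < 2 * 2 ^ k := by positivity
    rw [hC, Nat.card_zpowers, QuaternionGroup.orderOf_a_one, Nat.card_eq_fintype_card,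
      QuaternionGroup.card, show 4 * 2 ^ k = 2 * 2 ^ k * 2 by ring] at h1
    exact Nat.eq_of_mul_eq_mul_left h2 h1
  haveI : C.Normal := Subgroup.normal_of_index_eq_two hi
  have hrel : C.relIndex M ≤ 2 :=
    Nat.le_of_dvd two_pos ((C.relIndex_dvd_index_of_normal M).trans (dvd_of_eq hi))
  have hJ : Nat.card (M.subgroupOf C) ≤ 4 := by
    obtain ⟨g, hg⟩ := IsCyclic.exists_ofOrder_eq_natCard (α := M.subgroupOf C)
    rw [← hg]
    exact orderOf_le_of_pow_eq_one (by norm_num)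
      (Subtype.ext (Subtype.ext (hM4 _ g.2)))
  have hcard : Nat.card (C.subgroupOf M) = Nat.card (M.subgroupOf C) := by
    rw [← Subgroup.inf_subgroupOf_right C M, ← Subgroup.inf_subgroupOf_right M C,
      Nat.card_congr (Subgroup.subgroupOfEquivOfLe (inf_le_right : C ⊓ M ≤ M)).toEquiv,
      Nat.card_congr (Subgroup.subgroupOfEquivOfLe (inf_le_right : M ⊓ C ≤ C)).toEquiv, inf_comm]
  have h1 : Nat.card (C.subgroupOf M) * C.relIndex M = Nat.card M :=
    (C.subgroupOf M).card_mul_index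
  have h2 : Nat.card E ≤ Nat.card E' := by
    rw [hE', ← HallCore.card_comap_mk' (Subgroup.center SL(2, K)) E]
    exact Nat.le_mul_of_pos_right _ Nat.card_pos
  have h3 := Nat.mul_le_mul hJ hrel
  rw [← hcard, h1, hMc] at h3
  omega

/-- Involutions of a `2`-subgroup of a Suzuki group commute. -/
theorem suzuki_invol_comm {K : Type*} [Field K] {m : ℕ} [SuzukiGroupBasic.Param K m]
    {P : Subgroup ↥(Cfsg.Sz K m)} (hP : IsPGroup 2 P) {x y : ↥(Cfsg.Sz K m)} (hx : x ∈ P)
    (hy : y ∈ P) (hx2 : x * x = 1) : x * y = y * x := by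
  obtain ⟨c, hc⟩ := SuzukiGroupCentralizer.exists_conj_unipotent_of_isPGroup P hP
  obtain ⟨a, b, e⟩ := hc x hx
  have ha : a = 0 := by
    refine (SuzukiGroupStructure.Ts_sq_eq_one (m := m) (a := a) (b := b)).1 ?_
    rw [← e, pow_two, conj_mul, hx2, mul_one, mul_inv_cancel]
  subst ha
  have := (SuzukiGroupStructure.commute_Ts_iff (0 : K) b).2 rfl _ (hc y hy)
  rw [← e, conj_mul, conj_mul] at this
  exact (mul_left_cancel (mul_right_cancel this)).symm

namespace Chart

variable {F : Type v} [Field F] [Fintype F] {G : Type u} [Group G] [Finite G] {S : Sylow 2 G}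
  (h : Chart F (S : Subgroup G))
include h

/-- There is one class of involutions. -/
theorem conj_invol (hA : ¬ h.FixZ ⊤) (hB : ¬ h.swap.FixZ ⊤) {x : G} (hx : x * x = 1) (hx1 : x ≠ 1)
    {z : G} (hz : z ∈ h.Z) (hz1 : z ≠ 1) : ∃ g, g * x * g⁻¹ = z := by
  obtain ⟨k, -, hk⟩ := conj_into S le_top le_top (isPGroup_zpowers_of_sq hx)
  have hy := hk x (Subgroup.mem_zpowers x)
  have hy1 : k * x * k⁻¹ ≠ 1 := fun e => hx1 (conj_eq_one_iff.1 e)
  rcases h.involutions hy (by rw [conj_mul, hx, mul_one, mul_inv_cancel]) with hyA | hyB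
  · obtain ⟨n, -, e⟩ := h.A_one_class hA hyA hy1 hz hz1
    exact ⟨n * k, by rw [← e]; group⟩
  · obtain ⟨n, -, e⟩ := h.swap.A_one_class hB (swap_A h ▸ hyB) hy1 (z := z)
      ((swap_Z h).symm ▸ hz) hz1
    exact ⟨n * k, by rw [← e]; group⟩

variable {z : G} (hz : z ∈ h.Z) (hz1 : z ≠ 1) (hcz : centralizerPPrimeCore 2 z = ⊥)
include hz hz1 hcz

theorem cent_le_normalizer :
    Subgroup.centralizer ({z} : Set G) ≤ Subgroup.normalizer ((S : Subgroup G) : Set G) := by
  intro c hc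
  obtain ⟨o, ho, n, hn, -, rfl⟩ := (h.centralizer_split hz hz1 hc).1
  rw [hcz, Subgroup.mem_bot] at ho
  rwa [ho, one_mul]

/-- The action of `C(z)` on `S/Z`. -/
theorem cent_torus :
    (∀ n ∈ Subgroup.centralizer ({z} : Set G), n * h.μ 1 0 0 = h.μ 1 0 0 * n →
      n ∈ (S : Subgroup G)) ∧
    (Nat.card (Subgroup.centralizer ({z} : Set G)) = 64 ∨
      Nat.card (Subgroup.centralizer ({z} : Set G)) = 192 ∧
        ∀ t : F, t ≠ 0 → ∃ n ∈ Subgroup.centralizer ({z} : Set G), ∀ a b c, ∃ c',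
          n * h.μ a b c * n⁻¹ = h.μ (t * a) (t⁻¹ * b) c') := by
  classical
  haveI : Fact (Nat.Prime 2) := ⟨Nat.prime_two⟩
  set C := Subgroup.centralizer ({z} : Set G) with hC
  have hCN := h.cent_le_normalizer hz hz1 hcz
  have hSC : (S : Subgroup G) ≤ C := fun s hs =>
    Subgroup.mem_centralizer_singleton_iff.2 (h.Z_comm hz hs).symm
  have hT : ∀ n : C, ∃ u : F, u ≠ 0 ∧
      ∀ a b c, ∃ c', (n : G) * h.μ a b c * (n : G)⁻¹ = h.μ (u * a) (u⁻¹ * b) c' := fun n =>
    h.torus_central (hCN n.2) fun w hw => h.centralizes_Z hz hz1 (hCN n.2) n.2 hw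
  choose t ht0 ht using hT
  have huniq : ∀ (n : C) (v c' : F), (n : G) * h.μ 1 0 0 * (n : G)⁻¹ = h.μ v 0 c' → t n = v := by
    intro n v c' e
    obtain ⟨c'', e'⟩ := ht n 1 0 0
    simpa using (h.inj _ _ _ _ _ _ (e'.symm.trans e)).1
  let φ : C →* Fˣ := MonoidHom.mk' (fun n => Units.mk0 (t n) (ht0 n)) fun n m => Units.ext (by
    obtain ⟨c₁, e₁⟩ := ht m 1 0 0
    obtain ⟨c₂, e₂⟩ := ht n (t m * 1) ((t m)⁻¹ * 0) c₁
    refine huniq (n * m) _ c₂ ?_
    calc ((n * m : C) : G) * h.μ 1 0 0 * ((n * m : C) : G)⁻¹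
        = (n : G) * ((m : G) * h.μ 1 0 0 * (m : G)⁻¹) * (n : G)⁻¹ := by
          rw [Subgroup.coe_mul]; group
      _ = _ := by rw [e₁, e₂]; simp)
  have hφ : ∀ n : C, φ n = 1 ↔ t n = 1 := fun n => by simp [φ, Units.ext_iff]
  set T := (S : Subgroup G).subgroupOf C with hTd
  have hTK : T ≤ φ.ker := by
    rintro ⟨x, hxC⟩ hx
    obtain ⟨a, b, c, rfl⟩ := (h.mem x).1 hx
    rw [MonoidHom.mem_ker, hφ]
    exact huniq _ 1 _ (by rw [h.conj])
  haveI : T.Normal := ⟨fun x hx g => (conj_mem_of_normalizer (hCN g.2) hx :)⟩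
  have hTc : Nat.card T = 64 := by
    rw [Nat.card_congr (Subgroup.subgroupOfEquivOfLe hSC).toEquiv, h.card_S]
  have hTKc : Nat.card (T.subgroupOf φ.ker) = 64 := by
    rw [Nat.card_congr (Subgroup.subgroupOfEquivOfLe hTK).toEquiv, hTc]
  have hodd : Odd (T.subgroupOf φ.ker).index := by
    have h1 : ¬ 2 ∣ T.index := (S.subtype hSC).not_dvd_index
    exact (Nat.odd_iff.2 (Nat.two_dvd_ne_zero.1 h1)).of_dvd_nat
      (Subgroup.relIndex_dvd_index_of_le hTK)
  obtain ⟨R, hR⟩ := Subgroup.exists_right_complement'_of_coprime (N := T.subgroupOf φ.ker) (by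
    rw [hTKc]
    exact (Nat.coprime_two_left.2 hodd).pow_left 6)
  have hRc : Nat.card R = (T.subgroupOf φ.ker).index :=
    Nat.eq_of_mul_eq_mul_left Nat.card_pos (hR.card_mul_card.trans (Subgroup.card_mul_index _).symm)
  obtain ⟨j, hj⟩ := hodd
  have hRpow : ∀ r ∈ R, (((r : C) : G)) ^ (2 * j + 1) = 1 := fun r hr => by
    have := pow_card_eq_one' (x := (⟨r, hr⟩ : R))
    rw [hRc, hj] at this
    exact congrArg (fun y : R => (((y : φ.ker) : C) : G)) this
  have hZc : ∀ r : C, ∀ w ∈ h.Z, (r : G) * w = w * (r : G) := fun r w hw =>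
    h.centralizes_Z hz hz1 (hCN r.2) r.2 hw
  -- an element of odd order in the kernel centralises `S`
  have hcs : ∀ r ∈ R, ∀ s ∈ (S : Subgroup G), ((r : C) : G) * s = s * ((r : C) : G) := by
    intro r hr s hs
    obtain ⟨a, b, c, rfl⟩ := (h.mem s).1 hs
    obtain ⟨c', e⟩ := ht (r : C) a b c
    rw [(hφ _).1 (MonoidHom.mem_ker.1 r.2), inv_one, one_mul, one_mul] at e
    set w := h.μ 0 0 (c + c') with hw
    have hwZ : w ∈ h.Z := h.mem_Z.2 ⟨_, rfl⟩
    have e' : h.μ a b c' = h.μ a b c * w := by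
      rw [hw, h.mul]
      congr 1 <;> simp [← add_assoc, h.two]
    rw [e'] at e
    have hiter : ∀ i : ℕ, ((r : C) : G) ^ i * h.μ a b c * (((r : C) : G) ^ i)⁻¹ =
        h.μ a b c * w ^ i := by
      intro i
      induction i with
      | zero => simp
      | succ i ih =>
        calc ((r : C) : G) ^ (i + 1) * h.μ a b c * (((r : C) : G) ^ (i + 1))⁻¹
            = ((r : C) : G) * (((r : C) : G) ^ i * h.μ a b c * (((r : C) : G) ^ i)⁻¹) *
                ((r : C) : G)⁻¹ := by rw [pow_succ']; group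
          _ = (((r : C) : G) * h.μ a b c * ((r : C) : G)⁻¹) *
                (((r : C) : G) * w ^ i * ((r : C) : G)⁻¹) := by rw [ih]; group
          _ = h.μ a b c * w ^ (i + 1) := by
            rw [e, hZc _ _ (pow_mem hwZ i), mul_inv_cancel_right, mul_assoc, ← pow_succ']
    have h1 := hiter (2 * j + 1)
    rw [hRpow r hr, one_mul, inv_one, mul_one, pow_succ, pow_mul, pow_two,
      h.A_sq (h.Z_le_A hwZ), one_pow, one_mul, left_eq_mul] at h1
    rw [h1, mul_one, mul_inv_eq_iff_eq_mul] at e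
    exact e
  haveI hRn : (R.map φ.ker.subtype).Normal := by
    constructor
    rintro _ ⟨r, hr, rfl⟩ g
    obtain ⟨⟨⟨w, hw⟩, ⟨y, hy⟩⟩, hwy⟩ :=
      hR.2 ⟨_, (MonoidHom.normal_ker φ).conj_mem _ r.2 g⟩
    have hwy' : ((w : C) : G) * ((y : C) : G) = (g : G) * ((r : C) : G) * (g : G)⁻¹ :=
      congrArg (fun q : φ.ker => ((q : C) : G)) hwy
    have hwS : ((w : C) : G) ∈ (S : Subgroup G) := hw
    have hcom : Commute ((w : C) : G) ((y : C) : G) := (hcs y hy _ hwS).symm
    have e : ((w : C) : G) ^ (2 * j + 1) = 1 := by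
      have := congrArg (· ^ (2 * j + 1)) hwy'
      rwa [hcom.mul_pow, conj_pow, hRpow y hy, hRpow r hr, mul_one, mul_one, mul_inv_cancel]
        at this
    obtain ⟨i, hi⟩ := S.2 ⟨_, hwS⟩
    have h2 : orderOf ((w : C) : G) ∣ 2 ^ i :=
      orderOf_dvd_of_pow_eq_one (congrArg (fun q : (S : Subgroup G) => (q : G)) hi)
    have h3 := Nat.dvd_gcd h2 (orderOf_dvd_of_pow_eq_one e)
    rw [((Nat.coprime_two_left.2 ⟨j, rfl⟩).pow_left i).gcd_eq_one, Nat.dvd_one,
      orderOf_eq_one_iff] at h3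
    rw [h3, one_mul] at hwy'
    exact ⟨y, hy, Subtype.ext hwy'⟩
  have hR1 : R = ⊥ := by
    have h1 : R.map φ.ker.subtype ≤ pPrimeCore 2 C := HallCore.le_pPrimeCore (by
      rw [Subgroup.card_map_of_injective φ.ker.subtype_injective, hRc, hj]
      exact Nat.coprime_two_right.2 ⟨j, rfl⟩)
    have h2 : pPrimeCore 2 C = ⊥ := (Subgroup.map_eq_bot_iff_of_injective _ C.subtype_injective).1 hcz
    rw [h2, le_bot_iff, Subgroup.map_eq_bot_iff_of_injective _ φ.ker.subtype_injective] at h1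
    exact h1
  have hKT : φ.ker = T := by
    refine le_antisymm ?_ hTK
    rw [← Subgroup.subgroupOf_eq_top, ← Subgroup.index_eq_one, ← hRc, hR1, Subgroup.card_bot]
  refine ⟨fun n hn e => ?_, ?_⟩
  · have : (⟨n, hn⟩ : C) ∈ φ.ker := by
      rw [MonoidHom.mem_ker, hφ]
      exact huniq _ 1 0 (by show n * _ * n⁻¹ = _; rw [e, mul_inv_cancel_right])
    rw [hKT] at this
    exact this
  · have hcard : Nat.card C = 64 * Nat.card φ.range := by
      rw [← Subgroup.index_ker, ← hTc, ← hKT, Subgroup.card_mul_index]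
    have hU : Nat.card Fˣ = 3 := by rw [Nat.card_units, Nat.card_eq_fintype_card, h.card_F]
    rcases (Nat.dvd_prime Nat.prime_three).1 (hU ▸ Subgroup.card_subgroup_dvd_card φ.range) with
      h1 | h1
    · exact Or.inl (by rw [hcard, h1])
    · refine Or.inr ⟨by rw [hcard, h1], fun t' ht' => ?_⟩
      have htop : φ.range = ⊤ := Subgroup.eq_top_of_card_eq _ (h1.trans hU.symm)
      obtain ⟨n, hn⟩ : Units.mk0 t' ht' ∈ φ.range := htop ▸ Subgroup.mem_top _
      have e : t n = t' := congrArg Units.val hn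
      exact ⟨n, n.2, fun a b c => e ▸ ht n a b c⟩

end Chart

namespace Chart

variable {F : Type v} [Field F] [Fintype F] {G : Type u} [Group G] [Finite G] {S : Sylow 2 G}
  (h : Chart F (S : Subgroup G)) (hA : ¬ h.FixZ ⊤) (hB : ¬ h.swap.FixZ ⊤)
  (hO : pPrimeCore 2 G = ⊥)
  (hcore : ∀ z ∈ h.Z, z ≠ 1 → centralizerPPrimeCore 2 z = ⊥)
include h hA hB hO hcore

omit hO hcore in
theorem card_cent_eq {x : G} (hx : x * x = 1) (hx1 : x ≠ 1) {z : G} (hz : z ∈ h.Z) (hz1 : z ≠ 1) :
    Nat.card (Subgroup.centralizer ({x} : Set G)) =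
      Nat.card (Subgroup.centralizer ({z} : Set G)) := by
  obtain ⟨g, e⟩ := h.conj_invol hA hB hx hx1 hz hz1
  have : Subgroup.centralizer ({z} : Set G) =
      (Subgroup.centralizer ({x} : Set G)).map (MulAut.conj g).toMonoidHom := by
    ext c
    rw [mem_map_conj, Subgroup.mem_centralizer_singleton_iff,
      Subgroup.mem_centralizer_singleton_iff, ← e]
    constructor <;> intro hc
    · calc g⁻¹ * c * g * x = g⁻¹ * (c * (g * x * g⁻¹)) * g := by group
        _ = x * (g⁻¹ * c * g) := by rw [hc]; group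
    · calc c * (g * x * g⁻¹) = g * (g⁻¹ * c * g * x) * g⁻¹ := by group
        _ = g * x * g⁻¹ * c := by rw [hc]; group
  rw [this, Subgroup.card_map_of_injective (f := (MulAut.conj g).toMonoidHom) (MulAut.conj g).injective]

omit hO in
/-- Centralisers of order `192`: the group is `PGL₃(4)`. -/
theorem plane_case {z : G} (hz : z ∈ h.Z) (hz1 : z ≠ 1)
    (h192 : Nat.card (Subgroup.centralizer ({z} : Set G)) = 192) :
    (∃ f : G →* GL (Fin 3) F ⧸ Subgroup.center (GL (Fin 3) F), Function.Injective f) ∧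
      20160 ∣ Nat.card G := by
  obtain ⟨hS1, hcases⟩ := h.cent_torus hz hz1 (hcore z hz hz1)
  obtain ⟨-, hsurj⟩ := hcases.resolve_left (by omega)
  obtain ⟨hS2, -⟩ := h.swap.cent_torus ((swap_Z h).symm ▸ hz) hz1 (hcore z hz hz1)
  have hcSz : ∀ s ∈ (S : Subgroup G), s ∈ Subgroup.centralizer ({z} : Set G) := fun s hs =>
    Subgroup.mem_centralizer_singleton_iff.2 (h.Z_comm hz hs).symm
  have hcentB : Subgroup.centralizer (h.B : Set G) = h.B := by
    refine le_antisymm (fun x hx => ?_)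
      (fun x hx => Subgroup.mem_centralizer_iff.2 fun y hy => h.B_comm hy hx)
    rw [Subgroup.mem_centralizer_iff] at hx
    have hm : h.μ 1 0 0 ∈ h.B := ⟨1, 0, rfl⟩
    have hxS := hS1 x (Subgroup.mem_centralizer_singleton_iff.2 (hx z (h.Z_le_B hz)).symm)
      (hx _ hm).symm
    rw [← h.swap_A] at hm ⊢
    refine h.swap.mem_A_of_comm hxS hm (fun hmZ => ?_) (hx _ (h.swap_A ▸ hm :)).symm
    rw [swap_Z] at hmZ
    obtain ⟨c, e⟩ := h.mem_Z.1 hmZ
    exact zero_ne_one (h.inj _ _ _ _ _ _ e).1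
  have hcentA : Subgroup.centralizer (h.A : Set G) = h.A := by
    refine le_antisymm (fun x hx => ?_)
      (fun x hx => Subgroup.mem_centralizer_iff.2 fun y hy => h.A_comm hy hx)
    rw [Subgroup.mem_centralizer_iff] at hx
    have hm : h.μ 0 1 0 ∈ h.A := ⟨1, 0, rfl⟩
    have e1 : h.swap.μ 1 0 0 = h.μ 0 1 0 := show h.μ 0 1 (0 + 1 * 0) = _ by simp
    have hxS := hS2 x (Subgroup.mem_centralizer_singleton_iff.2 (hx z (h.Z_le_A hz)).symm)
      (e1 ▸ (hx _ hm).symm)
    refine h.mem_A_of_comm hxS hm (fun hmZ => ?_) (hx _ hm).symm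
    obtain ⟨c, e⟩ := h.mem_Z.1 hmZ
    exact zero_ne_one (h.inj _ _ _ _ _ _ e).2.1
  have hloc : AutL34Plane54.Loc h.B h.A (S : Subgroup G) z :=
    { sylow := ⟨S, rfl⟩
      card_S := h.card_S
      V_le := h.B_le
      A_le := h.A_le
      card_V := by rw [← h.swap_A]; exact h.swap.card_A
      card_A := h.card_A
      sq_V := fun u hu => h.B_sq hu
      sq_A := fun u hu => h.A_sq hu
      card_inter := by rw [inf_comm]; exact h.card_Z
      center_S := by
        rw [inf_comm h.B h.A]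
        refine le_antisymm (fun x ⟨hxS, hxc⟩ => h.mem_Z_of_comm hxS fun s hs =>
          (Subgroup.mem_centralizer_iff.1 hxc s hs).symm) (fun x hx => ⟨h.Z_le hx, ?_⟩)
        exact Subgroup.mem_centralizer_iff.2 fun s hs => (h.Z_comm hx hs).symm
      involutions := fun x hx e => (h.involutions hx e).symm
      cent_V := hcentB
      cent_A := hcentA
      mem_z := ⟨h.Z_le_B hz, h.Z_le_A hz⟩
      z_ne := hz1
      cent := fun x hx hx1 =>
        ⟨(h.card_cent_eq hA hB (h.A_sq hx.2) hx1 hz hz1).trans h192,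
          h.cent_le_normalizer ⟨hx.2, hx.1⟩ hx1 (hcore x ⟨hx.2, hx.1⟩ hx1)⟩
      fused := fun x hx y hy hx1 hy1 => h.conj_invol hA hB (h.A_sq hx.2) hx1 ⟨hy.2, hy.1⟩ hy1
      orbit_V := by
        intro x hx y hy hxA hyA
        obtain ⟨a, c, rfl⟩ := hx
        obtain ⟨a', c', rfl⟩ := hy
        have ha : a ≠ 0 := fun e => hxA ⟨0, c, by rw [e]⟩
        have ha' : a' ≠ 0 := fun e => hyA ⟨0, c', by rw [e]⟩
        obtain ⟨n, hn, hne⟩ := hsurj (a' / a) (div_ne_zero ha' ha)
        obtain ⟨c'', e⟩ := hne a 0 c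
        rw [div_mul_cancel₀ _ ha, mul_zero] at e
        refine ⟨h.μ 0 ((c'' + c') / a') 0 * n, mul_mem (hcSz _ (h.mem' _ _ _)) hn, ?_⟩
        rw [show h.μ 0 ((c'' + c') / a') 0 * n * h.μ a 0 c * (h.μ 0 ((c'' + c') / a') 0 * n)⁻¹ =
          h.μ 0 ((c'' + c') / a') 0 * (n * h.μ a 0 c * n⁻¹) * (h.μ 0 ((c'' + c') / a') 0)⁻¹ by
            group, e, h.conj, zero_mul, add_zero, mul_div_cancel₀ _ ha', ← add_assoc, h.two,
          zero_add]
      orbit_A := by
        intro x hx y hy hxB hyB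
        obtain ⟨b, c, rfl⟩ := hx
        obtain ⟨b', c', rfl⟩ := hy
        have hb : b ≠ 0 := fun e => hxB ⟨0, c, by rw [e]⟩
        have hb' : b' ≠ 0 := fun e => hyB ⟨0, c', by rw [e]⟩
        obtain ⟨n, hn, hne⟩ := hsurj (b / b') (div_ne_zero hb hb')
        obtain ⟨c'', e⟩ := hne 0 b c
        rw [inv_div, div_mul_cancel₀ _ hb, mul_zero] at e
        refine ⟨h.μ ((c'' + c') / b') 0 0 * n, mul_mem (hcSz _ (h.mem' _ _ _)) hn, ?_⟩
        rw [show h.μ ((c'' + c') / b') 0 0 * n * h.μ 0 b c * (h.μ ((c'' + c') / b') 0 0 * n)⁻¹ =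
          h.μ ((c'' + c') / b') 0 0 * (n * h.μ 0 b c * n⁻¹) * (h.μ ((c'' + c') / b') 0 0)⁻¹ by
            group, e, h.conj, zero_mul, add_zero, div_mul_cancel₀ _ hb', ← add_assoc, h.two,
          zero_add] }
  have hconj : ∀ x : G, x * x = 1 → x ≠ 1 → IsConj z x := fun x hx hx1 => by
    obtain ⟨g, e⟩ := h.conj_invol hA hB hx hx1 hz hz1
    exact (isConj_iff.2 ⟨g, e⟩).symm
  obtain ⟨hG, L, F0, _, _, hn, h0, hC, ⟨e⟩⟩ := AutL34Plane54.main
    (AutL34Plane54.flags_of_loc hloc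
      (fun x hx hxA => hconj x (h.B_sq hx) fun e => hxA (e ▸ one_mem _))
      (fun x hx hxB => hconj x (h.A_sq hx) fun e => hxB (e ▸ one_mem _)))
  have hi : L.index = 3 := by
    have := L.card_mul_index
    rw [hG, Nat.card_congr e.toEquiv, card_psl34' h0] at this
    omega
  exact ⟨embeds_of_normal_psl h.card_F h0 L hn ⟨1, hi⟩ hC e, by rw [hG]; norm_num⟩

omit hcore in
/-- Centralisers of order `64`: the group has a simple normal subgroup `PSL₃(4)` of odd index. -/
theorem cit_normal {z : G} (hz : z ∈ h.Z) (hz1 : z ≠ 1)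
    (h64 : Nat.card (Subgroup.centralizer ({z} : Set G)) = 64) :
    ∃ (L : Subgroup G) (F0 : Type) (_ : Field F0) (_ : Fintype F0), L.Normal ∧ Odd L.index ∧
      Subgroup.centralizer (L : Set G) = ⊥ ∧ Fintype.card F0 = 4 ∧
      Nonempty (L ≃* Matrix.ProjectiveSpecialLinearGroup (Fin 3) F0) := by
  classical
  haveI : Fact (Nat.Prime 2) := ⟨Nat.prime_two⟩
  have hcit : ∀ x : G, x * x = 1 → x ≠ 1 → IsPGroup 2 (Subgroup.centralizer ({x} : Set G)) :=
    fun x hx hx1 => IsPGroup.of_card (n := 6)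
      (by rw [h.card_cent_eq hA hB hx hx1 hz hz1, h64]; norm_num)
  set L := Subgroup.normalClosure ({z} : Set G) with hL
  have hinv : ∀ x : G, x * x = 1 → x ∈ L := by
    intro x hx
    by_cases hx1 : x = 1
    · rw [hx1]; exact one_mem _
    obtain ⟨g, e⟩ := h.conj_invol hA hB hx hx1 hz hz1
    have := (Subgroup.normalClosure_normal (s := ({z} : Set G))).conj_mem z
      (Subgroup.subset_normalClosure rfl) g⁻¹
    rwa [show g⁻¹ * z * g⁻¹⁻¹ = x by rw [← e]; group] at this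
  -- a normal subgroup containing an involution contains `L`
  have hnorm : ∀ N : Subgroup G, N.Normal → ∀ x ∈ N, x * x = 1 → x ≠ 1 → L ≤ N := by
    intro N hN x hxN hx hx1
    haveI := hN
    obtain ⟨g, e⟩ := h.conj_invol hA hB hx hx1 hz hz1
    exact Subgroup.normalClosure_le_normal (Set.singleton_subset_iff.2 (e ▸ hN.conj_mem x hxN g))
  have hex : ∀ N : Subgroup G, 2 ∣ Nat.card N → ∃ x ∈ N, x * x = 1 ∧ x ≠ 1 := by
    intro N hN
    obtain ⟨x, hx⟩ := exists_prime_orderOf_dvd_card' 2 hN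
    refine ⟨x, x.2, ?_, fun e => by
      rw [show x = 1 from Subtype.ext e, orderOf_one] at hx
      omega⟩
    have := congrArg (fun q : N => (q : G)) (pow_orderOf_eq_one x)
    simpa [hx, pow_two] using this
  have hSL : (S : Subgroup G) ≤ L := by
    intro s hs
    obtain ⟨a, b, c, rfl⟩ := (h.mem s).1 hs
    rw [show h.μ a b c = h.μ a 0 0 * h.μ 0 b (c + a * b) by
      rw [h.mul]; congr 1 <;> simp [add_assoc, h.two]]
    exact mul_mem (hinv _ ((h.sq_eq_one_iff _ _ _).2 (Or.inr rfl)))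
      (hinv _ ((h.sq_eq_one_iff _ _ _).2 (Or.inl rfl)))
  have hodd : Odd L.index :=
    (Nat.odd_iff.2 (Nat.two_dvd_ne_zero.1 S.not_dvd_index)).of_dvd_nat
      (Subgroup.index_dvd_of_le hSL)
  have hm10 : h.μ 1 0 0 * h.μ 0 1 0 ≠ h.μ 0 1 0 * h.μ 1 0 0 := fun e => by
    simpa using (h.commute_iff _ _ _ _ _ _).1 e
  have hna : ∃ a b : L, a * b ≠ b * a :=
    ⟨⟨_, hSL (h.mem' 1 0 0)⟩, ⟨_, hSL (h.mem' 0 1 0)⟩, fun e => hm10 (congrArg Subtype.val e)⟩
  -- `L` is no `2`-group
  have hnot2 : ¬ IsPGroup 2 L := by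
    intro hp
    have e := S.3 hp hSL
    have hn : (S : Subgroup G).Normal := e ▸ Subgroup.normalClosure_normal
    refine hA fun g _ _ w hw => h.normalizer_S_fix_Z ?_ hw
    rw [Subgroup.normalizer_eq_top_iff.2 hn]
    exact Subgroup.mem_top g
  haveI : Nontrivial L := by
    obtain ⟨a, b, hab⟩ := hna
    exact ⟨a, b, fun e => hab (by rw [e])⟩
  have hchar : ∀ K : Subgroup L, K.Characteristic → (K.map L.subtype).Normal := fun K hK => by
    haveI := hK
    infer_instance
  have hsimple : IsSimpleGroup L := by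
    -- an odd normal subgroup of `L` is trivial
    have hoddL : ∀ M : Subgroup L, M.Normal → M ≠ ⊥ → 2 ∣ Nat.card M := by
      intro M hM hM1
      haveI := hM
      by_contra h2
      have h3 : M ≤ pPrimeCore 2 L := HallCore.le_pPrimeCore
        (Nat.coprime_two_right.2 (Nat.odd_iff.2 (Nat.two_dvd_ne_zero.1 h2)))
      haveI := hchar _ (HallCore.pPrimeCore_characteristic 2 L)
      have h4 : (pPrimeCore 2 L).map L.subtype ≤ pPrimeCore 2 G := HallCore.le_pPrimeCore (by
        rw [Subgroup.card_map_of_injective L.subtype_injective]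
        exact HallCore.coprime_card_pPrimeCore 2 L)
      rw [hO, le_bot_iff, Subgroup.map_eq_bot_iff_of_injective _ L.subtype_injective] at h4
      exact hM1 (le_bot_iff.1 (h4 ▸ h3))
    obtain ⟨M, ⟨hMn, hM1⟩, hmin⟩ := Set.exists_min_image
      {M : Subgroup L | M.Normal ∧ M ≠ ⊥} (fun M => Nat.card M) (Set.toFinite _)
      ⟨⊤, inferInstance, top_ne_bot⟩
    haveI := hMn
    set M' := M.map L.subtype with hM'
    obtain ⟨x, hxM, hx, hx1⟩ := hex M' (by
      rw [hM', Subgroup.card_map_of_injective L.subtype_injective]; exact hoddL M hMn hM1)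
    have hM'n : M'.Normal := by
      constructor
      intro m hm g
      let τ : L ≃* L := MulAut.conjNormal g
      set Mg := M.map τ.toMonoidHom with hMg
      haveI : Mg.Normal := hMn.map _ τ.surjective
      by_cases hint : M ⊓ Mg = ⊥
      · exfalso
        have hxg : (g * x * g⁻¹) ∈ L := hinv _ (by rw [conj_mul, hx, mul_one, mul_inv_cancel])
        obtain ⟨x', hx', hxe⟩ := hxM
        have hcomm : ∀ q ∈ Mg, (q : G) ∈ Subgroup.centralizer ({x} : Set G) := fun q hq => by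
          have h1 : (x' * q : L) = q * x' :=
            (Subgroup.commute_of_normal_of_disjoint M Mg hMn inferInstance
              (disjoint_iff.2 hint) x' q hx' hq).eq
          rw [Subgroup.mem_centralizer_singleton_iff, ← hxe]
          exact (congrArg Subtype.val h1).symm
        have hp : IsPGroup 2 Mg :=
          ((hcit x hx hx1).comap_of_injective L.subtype L.subtype_injective).to_le hcomm
        have hle : Mg ≤ pCore 2 L := le_sSup ⟨inferInstance, hp⟩
        haveI := hchar _ (HallCore.pCore_characteristic 2 L)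
        have hmem : g * x * g⁻¹ ∈ (pCore 2 L).map L.subtype :=
          ⟨τ x', hle ⟨x', hx', rfl⟩, by rw [← hxe]; exact MulAut.conjNormal_apply g x'⟩
        have hLle := hnorm _ inferInstance _ hmem (by rw [conj_mul, hx, mul_one, mul_inv_cancel])
          (fun e => hx1 (conj_eq_one_iff.1 e))
        exact hnot2 (((HallCore.isPGroup_pCore 2 L).map L.subtype).to_le hLle)
      · have h1 := hmin (M ⊓ Mg) ⟨inferInstance, hint⟩
        have e1 : M ⊓ Mg = M := Subgroup.eq_of_le_of_card_ge inf_le_left h1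
        have e2 : M = Mg := Subgroup.eq_of_le_of_card_ge (inf_eq_left.1 e1)
          (by rw [hMg, Subgroup.card_map_of_injective (f := τ.toMonoidHom) τ.injective])
        obtain ⟨m', hm', rfl⟩ := hm
        exact ⟨τ m', e2.symm ▸ ⟨m', hm', rfl⟩, MulAut.conjNormal_apply g m'⟩
    have hML : M = ⊤ := by
      refine top_le_iff.1 fun q _ => ?_
      obtain ⟨q', hq', e⟩ := hnorm M' hM'n x hxM hx hx1 q.2
      rwa [← Subtype.ext (e : (q' : G) = q)]
    refine ⟨fun N hN => ?_⟩
    by_cases hN1 : N = ⊥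
    · exact Or.inl hN1
    · exact Or.inr (Subgroup.eq_top_of_le_card _ (by
        have := hmin N ⟨hN, hN1⟩; rwa [hML, Subgroup.card_top] at this))
  have hC : Subgroup.centralizer (L : Set G) = ⊥ := by
    haveI : L.Normal := Subgroup.normalClosure_normal
    by_contra hne
    by_cases h2 : 2 ∣ Nat.card (Subgroup.centralizer (L : Set G))
    · obtain ⟨x, hxC, hx, hx1⟩ := hex _ h2
      have hle := hnorm _ inferInstance x hxC hx hx1
      exact hm10 (Subgroup.mem_centralizer_iff.1 (hle (hSL (h.mem' 0 1 0))) _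
        (hSL (h.mem' 1 0 0)))
    · refine hne (le_bot_iff.1 (hO ▸ HallCore.le_pPrimeCore ?_))
      exact Nat.coprime_two_right.2 (Nat.odd_iff.2 (Nat.two_dvd_ne_zero.1 h2))
  have hCIT : CIT21.IsCIT L := by
    intro x hx
    have hx2 : (x : G) * x = 1 := by
      have := congrArg Subtype.val (pow_orderOf_eq_one x)
      simpa [hx, pow_two] using this
    have hx1 : (x : G) ≠ 1 := fun e => by
      rw [show x = 1 from Subtype.ext e, orderOf_one] at hx
      omega
    exact ((hcit _ hx2 hx1).comap_of_injective L.subtype L.subtype_injective).to_le fun c hc =>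
      Subgroup.mem_centralizer_singleton_iff.2
        (congrArg Subtype.val (Subgroup.mem_centralizer_singleton_iff.1 hc))
  haveI := hsimple
  rcases CITClassifyIso46.classify hna hCIT with ⟨K, _, _, ⟨e⟩⟩ | ⟨F0, _, _, h0, ⟨e⟩⟩ |
    ⟨K, _, _, m, hm, hK, ⟨e⟩⟩
  · exfalso
    obtain ⟨p, hp⟩ := CharP.exists K
    haveI := hp
    obtain ⟨n, hpp, hn⟩ := FiniteField.card K p
    by_cases h2 : p = 2
    · subst h2
      set q : L := ⟨h.μ 1 1 0, hSL (h.mem' _ _ _)⟩
      have hq : orderOf q = 2 ^ 2 := by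
        have hqq : h.μ 1 1 0 * h.μ 1 1 0 = h.μ 0 0 1 := by rw [h.sq, one_mul]
        refine orderOf_eq_prime_pow (n := 1) ?_ ?_
        · intro e'
          have := congrArg Subtype.val e'
          simp only [pow_one, pow_two, Subgroup.coe_mul, Subgroup.coe_one, q] at this
          rw [hqq] at this
          exact one_ne_zero (h.eq_one_iff.1 this).2.2
        · refine Subtype.ext ?_
          show (h.μ 1 1 0) ^ (2 ^ (1 + 1)) = 1
          rw [show (2 : ℕ) ^ (1 + 1) = 2 * 2 by norm_num, pow_mul, pow_two, pow_two, hqq]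
          exact (h.sq_eq_one_iff _ _ _).2 (Or.inl rfl)
      exact ThreeSSC77.no_four_psl2_char_two hn (e q) (by rw [e.orderOf_eq, hq]; norm_num)
    · have hq : Odd (Nat.card K) := by
        rw [Nat.card_eq_fintype_card, hn]
        exact (hpp.odd_of_ne_two h2).pow
      have := card_le_of_psl2_odd hq ((h.A.subgroupOf L).map e.toMonoidHom) (by
        rintro _ ⟨x, hx, rfl⟩
        rw [← map_mul, show x * x = 1 from Subtype.ext (h.A_sq hx), map_one])
      rw [Subgroup.card_map_of_injective (f := e.toMonoidHom) e.injective,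
        Nat.card_congr (Subgroup.subgroupOfEquivOfLe (h.A_le.trans hSL)).toEquiv, h.card_A] at this
      omega
  · exact ⟨L, F0, inferInstance, inferInstance, Subgroup.normalClosure_normal, hodd, hC, h0, ⟨e⟩⟩
  · exfalso
    haveI := SuzukiGroupBasic.Param.mk' hm hK
    let e' := e.trans SuzukiGroupLie.lieEquiv
    have hP : IsPGroup 2 (((S : Subgroup G).subgroupOf L).map e'.toMonoidHom) :=
      IsPGroup.map (S.2.comap_subtype (K := L)) _
    have := suzuki_invol_comm hP (x := e' ⟨h.μ 1 0 0, hSL (h.mem' _ _ _)⟩)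
      (y := e' ⟨h.μ 0 1 0, hSL (h.mem' _ _ _)⟩) ⟨_, h.mem' 1 0 0, rfl⟩ ⟨_, h.mem' 0 1 0, rfl⟩
      (by rw [← map_mul, show (⟨h.μ 1 0 0, hSL (h.mem' _ _ _)⟩ : L) * ⟨h.μ 1 0 0, hSL (h.mem' _ _ _)⟩
            = 1 from Subtype.ext ((h.sq_eq_one_iff _ _ _).2 (Or.inr rfl)), map_one])
    rw [← map_mul, ← map_mul] at this
    exact hm10 (congrArg Subtype.val (e'.injective this))

omit hcore in
/-- Centralisers of order `64`: the group embeds in `PGL₃(4)`. -/
theorem cit_case {z : G} (hz : z ∈ h.Z) (hz1 : z ≠ 1)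
    (h64 : Nat.card (Subgroup.centralizer ({z} : Set G)) = 64) :
    (∃ f : G →* GL (Fin 3) F ⧸ Subgroup.center (GL (Fin 3) F), Function.Injective f) ∧
      20160 ∣ Nat.card G := by
  obtain ⟨L, F0, _, _, hn, hodd, hC, h0, ⟨e⟩⟩ := h.cit_normal hA hB hO hz hz1 h64
  refine ⟨embeds_of_normal_psl h.card_F h0 L hn hodd hC e, ?_⟩
  rw [← L.card_mul_index, Nat.card_congr e.toEquiv, card_psl34' h0]
  exact dvd_mul_right _ _

omit hO hcore in
/-- If the centralisers of the central involutions are `2`-groups, the group has a normal subgroup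
`PSL₃(4)` of odd index. -/
theorem cit_psl (hcit : ∀ z ∈ h.Z, z ≠ 1 → IsPGroup 2 (Subgroup.centralizer ({z} : Set G))) :
    ∃ (L : Subgroup G) (F0 : Type) (_ : Field F0) (_ : Fintype F0), L.Normal ∧ Odd L.index ∧
      Subgroup.centralizer (L : Set G) = ⊥ ∧ Fintype.card F0 = 4 ∧
      Nonempty (L ≃* Matrix.ProjectiveSpecialLinearGroup (Fin 3) F0) := by
  haveI : Fact (Nat.Prime 2) := ⟨Nat.prime_two⟩
  have hfix : ∀ z ∈ h.Z, z ≠ 1 → pPrimeCore 2 G ⊓ Subgroup.centralizer ({z} : Set G) ≤ ⊥ := by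
    intro z hz hz1 x ⟨hxO, hxC⟩
    obtain ⟨i, hi⟩ := hcit z hz hz1 ⟨x, hxC⟩
    have h1 : orderOf x ∣ 2 ^ i :=
      orderOf_dvd_of_pow_eq_one (congrArg (fun q : Subgroup.centralizer ({z} : Set G) => (q : G)) hi)
    have h2 : orderOf x ∣ Nat.card (pPrimeCore 2 G) := Subgroup.orderOf_dvd_natCard _ hxO
    have h3 := Nat.dvd_gcd h1 h2
    rw [((HallCore.coprime_card_pPrimeCore 2 G).symm.pow_left i).gcd_eq_one, Nat.dvd_one,
      orderOf_eq_one_iff] at h3
    exact h3
  haveI : (pPrimeCore 2 G).Normal := HallCore.pPrimeCore_normal 2 G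
  have hO : pPrimeCore 2 G = ⊥ := le_bot_iff.1 <|
    SignalizerCoprime.le_of_centralizers_le (p := 2)
      (SignalizerCoprime.elementaryAbelian_of_le h.elementary_A_nf h.Z_le_A)
      (by rw [h.card_Z]; norm_num)
      (fun x _ => by rw [Subgroup.normalizer_eq_top_iff.2 inferInstance]; exact Subgroup.mem_top x)
      (Nat.prime_two.coprime_iff_not_dvd.1 (HallCore.coprime_card_pPrimeCore 2 G).symm) hfix
  obtain ⟨z, hz, hz1⟩ : ∃ z ∈ h.Z, z ≠ 1 :=
    ⟨h.μ 0 0 1, h.mem_Z.2 ⟨1, rfl⟩, fun e => one_ne_zero (h.eq_one_iff.1 e).2.2⟩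
  have h64 : Nat.card (Subgroup.centralizer ({z} : Set G)) = 64 := by
    have hS : (S : Subgroup G) ≤ Subgroup.centralizer ({z} : Set G) := fun s hs =>
      Subgroup.mem_centralizer_singleton_iff.2 (h.Z_comm hz hs).symm
    rw [S.3 (hcit z hz hz1) hS, h.card_S]
  exact h.cit_normal hA hB hO hz hz1 h64

omit hO hcore in
/-- If the centralisers of the central involutions are `2`-groups and there is no proper normal
subgroup of odd index, the group is `PSL₃(4)`. -/
theorem recog_cit (hcit : ∀ z ∈ h.Z, z ≠ 1 → IsPGroup 2 (Subgroup.centralizer ({z} : Set G)))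
    (hperf : ∀ N : Subgroup G, N.Normal → Odd N.index → N = ⊤) :
    ∃ (F0 : Type) (_ : Field F0) (_ : Fintype F0), Fintype.card F0 = 4 ∧
      Nonempty (G ≃* Matrix.ProjectiveSpecialLinearGroup (Fin 3) F0) := by
  obtain ⟨L, F0, _, _, hn, hodd, -, h0, ⟨e⟩⟩ := h.cit_psl hA hB hcit
  have htop := hperf L hn hodd
  exact ⟨F0, inferInstance, inferInstance, h0,
    ⟨(Subgroup.topEquiv.symm.trans (MulEquiv.subgroupCongr htop.symm)).trans e⟩⟩

/-- The core case. -/
theorem core_case :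
    (∃ f : G →* GL (Fin 3) F ⧸ Subgroup.center (GL (Fin 3) F), Function.Injective f) ∧
      20160 ∣ Nat.card G ∧
      ∀ z ∈ h.Z, z ≠ 1 → Nat.card (Subgroup.centralizer ({z} : Set G)) ∣ 192 := by
  have hdvd : ∀ z ∈ h.Z, z ≠ 1 → Nat.card (Subgroup.centralizer ({z} : Set G)) ∣ 192 := by
    intro z hz hz1
    rcases (h.cent_torus hz hz1 (hcore z hz hz1)).2 with e | ⟨e, -⟩ <;> rw [e]
    norm_num
  obtain ⟨z, hz, hz1⟩ : ∃ z ∈ h.Z, z ≠ 1 :=
    ⟨h.μ 0 0 1, h.mem_Z.2 ⟨1, rfl⟩, fun e => one_ne_zero (h.eq_one_iff.1 e).2.2⟩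
  rcases (h.cent_torus hz hz1 (hcore z hz hz1)).2 with e | ⟨e, -⟩
  · exact ⟨(h.cit_case hA hB hO hz hz1 e).1, (h.cit_case hA hB hO hz hz1 e).2, hdvd⟩
  · exact ⟨(h.plane_case hA hB hcore hz hz1 e).1, (h.plane_case hA hB hcore hz hz1 e).2, hdvd⟩

end Chart

end Cfsg.Agent.L34Syl83
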