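import Mathlib
import Cfsg.Prelude.Def_CaseTheorems
import Cfsg.Agent.Lib.L34Syl83Fusion
import Cfsg.Agent.Lib.HallCore
import Cfsg.Agent.Lib.CoprimeGaschutz

/-!
# Embeddings in `PGL₃(4)`

`embeds_of_normal_S`: if `S` is normal and `O(G) = 1`, then `G` embeds in the Borel subgroup.
`embeds_of_normal_A`: if `A` is normal, `N(A)` moves `Z` and `O(G) = 1`, then `G` embeds in a
maximal parabolic subgroup.
-/

set_option autoImplicit false

namespace Cfsg.Agent.L34Syl83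

open Cfsg Matrix

universe u v

variable {F : Type v} [Field F] [Fintype F]

section Proj

/-- The invertible matrix `1 + e₂₀` in characteristic two. -/
def lowUnit (h2 : ∀ a : F, a + a = 0) : GL (Fin 3) F :=
  ⟨!![1, 0, 0; 0, 1, 0; 1, 0, 1], !![1, 0, 0; 0, 1, 0; 1, 0, 1],
    by ext i j; fin_cases i <;> fin_cases j <;> simp [Matrix.mul_apply, Fin.sum_univ_three, h2],
    by ext i j; fin_cases i <;> fin_cases j <;> simp [Matrix.mul_apply, Fin.sum_univ_three, h2]⟩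

/-- The invertible matrix `1 + e₀₁` in characteristic two. -/
def upperUnit (h2 : ∀ a : F, a + a = 0) : GL (Fin 3) F :=
  ⟨!![1, 1, 0; 0, 1, 0; 0, 0, 1], !![1, 1, 0; 0, 1, 0; 0, 0, 1],
    by ext i j; fin_cases i <;> fin_cases j <;> simp [Matrix.mul_apply, Fin.sum_univ_three, h2],
    by ext i j; fin_cases i <;> fin_cases j <;> simp [Matrix.mul_apply, Fin.sum_univ_three, h2]⟩

/-- The invertible matrix `1 + e₁₂` in characteristic two. -/
def upperUnit' (h2 : ∀ a : F, a + a = 0) : GL (Fin 3) F :=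
  ⟨!![1, 0, 0; 0, 1, 1; 0, 0, 1], !![1, 0, 0; 0, 1, 1; 0, 0, 1],
    by ext i j; fin_cases i <;> fin_cases j <;> simp [Matrix.mul_apply, Fin.sum_univ_three, h2],
    by ext i j; fin_cases i <;> fin_cases j <;> simp [Matrix.mul_apply, Fin.sum_univ_three, h2]⟩

/-- A faithful matrix representation without nontrivial scalars is injective modulo the centre. -/
theorem proj_injective {G : Type u} [Group G] (h2 : ∀ a : F, a + a = 0)
    (Φ : G →* Matrix (Fin 3) (Fin 3) F)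
    (hone : ∀ g, Φ g = 1 → g = 1) (hscal : ∀ g (r : F), Φ g = r • 1 → r = 1) :
    Function.Injective ((QuotientGroup.mk' (Subgroup.center (GL (Fin 3) F))).comp Φ.toHomUnits) := by
  refine (injective_iff_map_eq_one _).2 fun g hg => ?_
  have hc : Φ.toHomUnits g ∈ Subgroup.center (GL (Fin 3) F) := (QuotientGroup.eq_one_iff _).1 hg
  have key : ∀ y : GL (Fin 3) F, y.1 * Φ g = Φ g * y.1 := fun y =>
    congrArg Units.val (Subgroup.mem_center_iff.1 hc y)
  have k0 := key (lowUnit h2)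
  have k1 := key (upperUnit h2)
  have k2 := key (upperUnit' h2)
  simp only [lowUnit, upperUnit, upperUnit'] at k0 k1 k2
  have a00 := congrFun (congrFun k0 2) 0
  have a01 := congrFun (congrFun k0 2) 1
  have a02 := congrFun (congrFun k0 2) 2
  have b10 := congrFun (congrFun k1 0) 0
  have b11 := congrFun (congrFun k1 0) 1
  have b12 := congrFun (congrFun k1 0) 2
  have b20 := congrFun (congrFun k1 2) 1
  have c21 := congrFun (congrFun k2 1) 1
  have c22 := congrFun (congrFun k2 1) 2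
  simp [Matrix.mul_apply, Fin.sum_univ_three] at a00 a01 a02 b10 b11 b12 b20 c21 c22
  refine hone g ?_
  rw [b20, add_zero, zero_add] at a00
  rw [a01, zero_add, add_zero] at b11
  have hg1 : Φ g = (Φ g 0 0) • 1 := by
    ext i j
    fin_cases i <;> fin_cases j <;>
      simp [a01, a02, b10, b12, b20, c21, b11, ← a00]
  rw [hscal g _ hg1, one_smul] at hg1
  exact hg1

end Proj

namespace Chart

variable {G : Type u} [Group G] {S : Subgroup G}

/-- The chart shifted by two additive maps. -/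
def shift (h : Chart F S) (φ χ : F → F) (hφ : ∀ a b, φ (a + b) = φ a + φ b)
    (hχ : ∀ a b, χ (a + b) = χ a + χ b) : Chart F S where
  μ a b c := h.μ a b (c + φ b + χ a)
  card_F := h.card_F
  mul a b c a' b' c' := by
    rw [h.mul]
    congr 1
    rw [hφ, hχ]
    ring
  inj a b c a' b' c' e := by
    obtain ⟨rfl, rfl, e3⟩ := h.inj _ _ _ _ _ _ e
    exact ⟨rfl, rfl, add_right_cancel (add_right_cancel e3)⟩
  mem x := by
    rw [h.mem]
    constructor
    · rintro ⟨a, b, c, rfl⟩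
      exact ⟨a, b, c + φ b + χ a, by
        rw [show c + φ b + χ a + φ b + χ a = c + ((φ b + φ b) + (χ a + χ a)) by ring, h.two, h.two,
          add_zero, add_zero]⟩
    · rintro ⟨a, b, c, rfl⟩
      exact ⟨_, _, _, rfl⟩

theorem split_coord (h : Chart F S) (a b c : F) :
    h.μ a b c = h.μ a 0 0 * h.μ 0 b 0 * h.μ 0 0 (c + a * b) := by
  rw [h.mul, h.mul]
  congr 1 <;> simp [add_left_comm, h.two]

theorem comm_eq (h : Chart F S) (a b : F) :
    h.μ a 0 0 * h.μ 0 b 0 * (h.μ a 0 0)⁻¹ * (h.μ 0 b 0)⁻¹ = h.μ 0 0 (a * b) := by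
  rw [h.conj, h.inv, h.mul]
  congr 1 <;> simp [h.two]

variable [Finite G] {S : Sylow 2 G} (h : Chart F (S : Subgroup G))
include h

omit [Finite G] in
theorem sq_ringHom {σ : F → F} (hadd : ∀ a b, σ (a + b) = σ a + σ b)
    (hmul : ∀ a b, σ (a * b) = σ a * σ b) (hone : σ 1 = 1) (hinj : ∀ a, σ a = 0 → a = 0) (x : F) :
    σ (σ x) = x := by
  have h0 : σ 0 = 0 := by
    have e := hadd 0 0
    rw [add_zero, h.two] at e
    exact e
  by_cases hx0 : x = 0
  · rw [hx0, h0, h0]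
  by_cases hx1 : x = 1
  · rw [hx1, hone, hone]
  rcases h.four one_ne_zero hx0 (Ne.symm hx1) (σ x) with e | e | e | e
  · exact absurd (hinj x e) hx0
  · refine absurd ?_ hx1
    have := hinj (x + 1) (by rw [hadd, e, hone, h.two])
    rw [eq_neg_of_add_eq_zero_left this, h.neg_eq]
  · rw [e, e]
  · rw [e, hadd, hone, e, ← add_assoc, h.two, zero_add]

/-- The square of an element of `N(S)` acts by scalars on `S/Z` and `Z`. -/
theorem linear_sq {n : G} (hn : n ∈ Subgroup.normalizer ((S : Subgroup G) : Set G)) :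
    ∃ u v : F, u ≠ 0 ∧ v ≠ 0 ∧
      (∀ a, ∃ c', n * n * h.μ a 0 0 * (n * n)⁻¹ = h.μ (u * a) 0 c') ∧
      (∀ b, ∃ c', n * n * h.μ 0 b 0 * (n * n)⁻¹ = h.μ 0 (v * b) c') ∧
      ∀ c, n * n * h.μ 0 0 c * (n * n)⁻¹ = h.μ 0 0 (u * v * c) := by
  choose α ca hα using fun a : F => conj_mem_of_normalizer (h.normalizer_S_le_B hn)
    (show h.μ a 0 0 ∈ h.B from ⟨_, _, rfl⟩)
  choose β cb hβ using fun b : F => conj_mem_of_normalizer (h.normalizer_S_le_A hn)
    (show h.μ 0 b 0 ∈ h.A from ⟨_, _, rfl⟩)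
  choose γ hγ using fun c : F => h.mem_Z.1 (h.normalizer_S_fix_Z hn (h.mem_Z.2 ⟨c, rfl⟩))
  have hbil : ∀ a b, γ (a * b) = α a * β b := by
    intro a b
    have e := hγ (a * b)
    rw [← h.comm_eq a b, show n * (h.μ a 0 0 * h.μ 0 b 0 * (h.μ a 0 0)⁻¹ * (h.μ 0 b 0)⁻¹) * n⁻¹ =
      (n * h.μ a 0 0 * n⁻¹) * (n * h.μ 0 b 0 * n⁻¹) * (n * h.μ a 0 0 * n⁻¹)⁻¹ *
        (n * h.μ 0 b 0 * n⁻¹)⁻¹ by group, ← hα, ← hβ, h.conj, h.inv, h.mul] at e
    have := (h.inj _ _ _ _ _ _ e).2.2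
    simp only [zero_mul, add_zero] at this
    rw [this, show cb b + α a * β b + cb b = (cb b + cb b) + α a * β b by ring, h.two, zero_add]
  have hγadd : ∀ x y, γ (x + y) = γ x + γ y := by
    intro x y
    have e := hγ (x + y)
    rw [show h.μ 0 0 (x + y) = h.μ 0 0 x * h.μ 0 0 y by rw [h.mul]; simp, ← conj_mul, ← hγ, ← hγ,
      h.mul] at e
    simpa using (h.inj _ _ _ _ _ _ e).2.2
  have hγ0 : ∀ x, γ x = 0 → x = 0 := by
    intro x e
    have e' := hγ x
    rw [e, h.one, eq_comm, mul_inv_eq_one, mul_eq_left] at e'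
    exact (h.eq_one_iff.1 e').2.2
  have hu0 : α 1 ≠ 0 := fun e => one_ne_zero (hγ0 1 (by rw [← one_mul (1 : F), hbil, e, zero_mul]))
  have hv0 : β 1 ≠ 0 := fun e => one_ne_zero (hγ0 1 (by rw [← one_mul (1 : F), hbil, e, mul_zero]))
  have hαγ : ∀ a, α a = γ a / β 1 := fun a => by
    rw [eq_div_iff hv0, ← hbil, mul_one]
  have hβγ : ∀ b, β b = γ b / α 1 := fun b => by
    rw [eq_div_iff hu0, mul_comm, ← hbil, one_mul]
  set σ : F → F := fun x => γ x / (α 1 * β 1) with hσ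
  have hγσ : ∀ x, γ x = α 1 * β 1 * σ x := fun x => by
    rw [hσ]; field_simp
  have hσmul : ∀ x y, σ (x * y) = σ x * σ y := fun x y => by
    simp only [hσ, hbil x y, hαγ x, hβγ y]
    field_simp
  have hσadd : ∀ x y, σ (x + y) = σ x + σ y := fun x y => by
    simp only [hσ, hγadd, add_div]
  have hσ1 : σ 1 = 1 := by
    have e := hbil 1 1
    rw [one_mul] at e
    simp only [hσ, e]
    exact div_self (mul_ne_zero hu0 hv0)
  have hσ0 : ∀ x, σ x = 0 → x = 0 := fun x e => hγ0 x (by rw [hγσ, e, mul_zero])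
  have hσσ := h.sq_ringHom hσadd hσmul hσ1 hσ0
  have hασ : ∀ a, α a = α 1 * σ a := fun a => by rw [hαγ, hγσ]; field_simp
  have hβσ : ∀ b, β b = β 1 * σ b := fun b => by rw [hβγ, hγσ]; field_simp
  have hne : ∀ x, x ≠ 0 → σ x ≠ 0 := fun x hx e => hx (hσ0 x e)
  refine ⟨α 1 * σ (α 1), β 1 * σ (β 1), mul_ne_zero hu0 (hne _ hu0), mul_ne_zero hv0 (hne _ hv0),
    fun a => ?_, fun b => ?_, fun c => ?_⟩
  · refine ⟨ca (α a) + γ (ca a), ?_⟩
    rw [show n * n * h.μ a 0 0 * (n * n)⁻¹ = n * (n * h.μ a 0 0 * n⁻¹) * n⁻¹ by group, ← hα a,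
      show h.μ (α a) 0 (ca a) = h.μ (α a) 0 0 * h.μ 0 0 (ca a) by rw [h.mul]; simp, ← conj_mul,
      ← hα, ← hγ, h.mul, hασ (α a), hασ a, hσmul, hσσ]
    congr 1 <;> ring
  · refine ⟨cb (β b) + γ (cb b), ?_⟩
    rw [show n * n * h.μ 0 b 0 * (n * n)⁻¹ = n * (n * h.μ 0 b 0 * n⁻¹) * n⁻¹ by group, ← hβ b,
      show h.μ 0 (β b) (cb b) = h.μ 0 (β b) 0 * h.μ 0 0 (cb b) by rw [h.mul]; simp, ← conj_mul,
      ← hβ, ← hγ, h.mul, hβσ (β b), hβσ b, hσmul, hσσ]
    congr 1 <;> ring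
  · rw [show n * n * h.μ 0 0 c * (n * n)⁻¹ = n * (n * h.μ 0 0 c * n⁻¹) * n⁻¹ by group, ← hγ, ← hγ,
      hγσ, hγσ c, hσmul, hσmul, hσσ]
    congr 1
    ring

/-- Every subgroup `A.subgroupOf`-complement: an abelian normal `2`-subgroup that is central and of
odd index splits off an odd normal subgroup. -/
theorem centralizer_A (hn : h.A.Normal) (hO : pPrimeCore 2 G = ⊥) {x : G}
    (hx : ∀ a ∈ h.A, x * a = a * x) : x ∈ h.A := by
  haveI : Fact (Nat.Prime 2) := ⟨Nat.prime_two⟩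
  haveI := hn
  set C := Subgroup.centralizer (h.A : Set G) with hC
  have hxC : x ∈ C := Subgroup.mem_centralizer_iff.2 fun a ha => (hx a ha).symm
  have hAC : h.A ≤ C := fun a ha => Subgroup.mem_centralizer_iff.2 fun b hb => h.A_comm hb ha
  haveI hCn : C.Normal := ⟨fun c hc g => Subgroup.mem_centralizer_iff.2 fun a ha => by
    have e := Subgroup.mem_centralizer_iff.1 hc (g⁻¹ * a * g)
      (by simpa using hn.conj_mem a ha g⁻¹)
    calc a * (g * c * g⁻¹) = g * ((g⁻¹ * a * g) * c) * g⁻¹ := by group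
      _ = g * c * g⁻¹ * a := by rw [e]; group⟩
  have hSC : (S : Subgroup G) ⊓ C = h.A := le_antisymm
    (fun s ⟨hs, hsc⟩ => h.mem_A_of_comm hs (show h.μ 0 1 0 ∈ h.A from ⟨1, 0, rfl⟩)
      (fun e => one_ne_zero (by
        obtain ⟨c, e⟩ := h.mem_Z.1 e
        exact (h.inj _ _ _ _ _ _ e).2.1.symm))
      (Subgroup.mem_centralizer_iff.1 hsc _ (show h.μ 0 1 0 ∈ h.A from ⟨1, 0, rfl⟩)).symm)
    (le_inf h.A_le hAC)
  have hidx : Odd (h.A.subgroupOf C).index := by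
    refine Nat.odd_iff.2 (Nat.two_dvd_ne_zero.1 fun h2 => ?_)
    obtain ⟨Q⟩ : Nonempty (Sylow 2 C) := inferInstance
    obtain ⟨k, -, hk⟩ := conj_into S le_top (le_top : (Q : Subgroup C).map C.subtype ≤ ⊤) (Q.2.map _)
    have hle : ((Q : Subgroup C).map C.subtype).map (MulAut.conj k).toMonoidHom ≤ h.A := by
      rintro _ ⟨_, ⟨y, hy, rfl⟩, rfl⟩
      rw [← hSC]
      exact ⟨(hk _ ⟨y, hy, rfl⟩ :), (hCn.conj_mem _ y.2 k :)⟩
    have hdvd := Subgroup.card_dvd_of_le hle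
    rw [Subgroup.card_map_of_injective (MulAut.conj k).injective,
      Subgroup.card_map_of_injective C.subtype_injective, h.card_A] at hdvd
    have h32 : 2 ^ 5 ∣ Nat.card C := by
      rw [← Subgroup.card_mul_index (h.A.subgroupOf C),
        Nat.card_congr (Subgroup.subgroupOfEquivOfLe hAC).toEquiv, h.card_A, pow_succ]
      exact Nat.mul_dvd_mul_left _ h2
    have h32' : 2 ^ 5 ∣ Nat.card Q := by
      rw [Q.card_eq_multiplicity]
      exact Nat.pow_dvd_pow 2 ((Nat.Prime.pow_dvd_iff_le_factorization Nat.prime_two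
        Nat.card_pos.ne').1 h32)
    have := Nat.le_of_dvd (by norm_num) (h32'.trans hdvd)
    omega
  obtain ⟨R, hR⟩ := Subgroup.exists_right_complement'_of_coprime (N := h.A.subgroupOf C) (by
    rw [Nat.card_congr (Subgroup.subgroupOfEquivOfLe hAC).toEquiv, h.card_A]
    simpa using Nat.Coprime.pow_left 4 (Nat.coprime_two_left.2 hidx))
  have hRc : Nat.card R = (h.A.subgroupOf C).index := (hR.symm.index_eq_card).symm
  obtain ⟨i, hi⟩ := hRc ▸ hidx
  have hpow : ∀ q : R, ((q : C) : G) ^ (2 * i + 1) = 1 := fun q => by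
    rw [← hi, ← SubgroupClass.coe_pow, ← SubgroupClass.coe_pow, pow_card_eq_one']
    rfl
  have hA2 : ∀ a ∈ h.A, ∀ c ∈ C, (a * c) ^ (2 * i + 1) = a * c ^ (2 * i + 1) := fun a ha c hc => by
    have hcom : Commute a c := Subgroup.mem_centralizer_iff.1 hc a ha
    rw [hcom.mul_pow, pow_succ a, pow_mul, pow_two, h.A_sq ha, one_pow, one_mul]
  haveI hRn : (R.map C.subtype).Normal := by
    constructor
    rintro _ ⟨r, hr, rfl⟩ g
    obtain ⟨⟨⟨w, hw⟩, y⟩, hyw⟩ := hR.2 ⟨_, hCn.conj_mem _ r.2 g⟩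
    have hwG : w.1 * (y.1).1 = g * r.1 * g⁻¹ := congrArg Subtype.val hyw
    have e := hA2 (w : G) hw _ y.1.2
    rw [hwG, conj_pow, hpow ⟨r, hr⟩, hpow y, mul_one, mul_one, mul_inv_cancel] at e
    rw [← e, one_mul] at hwG
    exact ⟨y.1, y.2, hwG⟩
  have hRbot : R.map C.subtype = ⊥ := by
    refine le_bot_iff.1 (hO ▸ HallCore.le_pPrimeCore ?_)
    rw [Subgroup.card_map_of_injective C.subtype_injective]
    exact Nat.coprime_two_right.2 ⟨i, hi⟩
  obtain ⟨⟨⟨w, hw⟩, y⟩, hyw⟩ := hR.2 ⟨x, hxC⟩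
  have hy : (y.1).1 = 1 := Subgroup.mem_bot.1 (hRbot.le ⟨y.1, y.2, rfl⟩)
  have e : w.1 * (y.1).1 = x := congrArg Subtype.val hyw
  rw [hy, mul_one] at e
  exact e ▸ hw

theorem embeds_of_normal_S (hn : (S : Subgroup G).Normal) (hO : pPrimeCore 2 G = ⊥) :
    ∃ f : G →* GL (Fin 3) F ⧸ Subgroup.center (GL (Fin 3) F), Function.Injective f := by
  classical
  haveI : Fact (Nat.Prime 2) := ⟨Nat.prime_two⟩
  haveI := hn
  letI := Fintype.ofFinite G
  have hN : ∀ g : G, g ∈ Subgroup.normalizer ((S : Subgroup G) : Set G) := fun g =>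
    Subgroup.normalizer_eq_top (S : Subgroup G) ▸ Subgroup.mem_top g
  have hodd : Odd (S : Subgroup G).index :=
    Nat.odd_iff.2 (Nat.two_dvd_ne_zero.1 S.not_dvd_index)
  obtain ⟨K, hK⟩ := Subgroup.exists_right_complement'_of_coprime (N := (S : Subgroup G)) (by
    rw [h.card_S]; simpa using Nat.Coprime.pow_left 6 (Nat.coprime_two_left.2 hodd))
  have hKodd : Odd (Nat.card K) := by
    rw [← hK.symm.index_eq_card]; exact hodd
  have hlin : ∀ k : K, ∃ u v : F, u ≠ 0 ∧ v ≠ 0 ∧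
      (∀ a, ∃ c', (k : G) * h.μ a 0 0 * (k : G)⁻¹ = h.μ (u * a) 0 c') ∧
      (∀ b, ∃ c', (k : G) * h.μ 0 b 0 * (k : G)⁻¹ = h.μ 0 (v * b) c') ∧
      ∀ c, (k : G) * h.μ 0 0 c * (k : G)⁻¹ = h.μ 0 0 (u * v * c) := by
    intro k
    obtain ⟨j, hj⟩ := hKodd
    have e : (k : G) = (k : G) ^ (j + 1) * (k : G) ^ (j + 1) := by
      rw [← pow_add, show j + 1 + (j + 1) = 2 * j + 1 + 1 by ring, pow_succ, ← hj,
        ← SubgroupClass.coe_pow, pow_card_eq_one', Subgroup.coe_one, one_mul]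
    rw [e]
    exact h.linear_sq (hN _)
  choose u v hu0 hv0 hA' hB' hZ' using hlin
  choose gA hgA using hA'
  choose gB hgB using hB'
  -- multiplicativity
  have huv : ∀ k l : K, u (k * l) = u k * u l ∧ v (k * l) = v k * v l := by
    intro k l
    constructor
    · have e := hgA (k * l) 1
      rw [Subgroup.coe_mul, show (k : G) * l * h.μ 1 0 0 * ((k : G) * l)⁻¹ =
        (k : G) * ((l : G) * h.μ 1 0 0 * (l : G)⁻¹) * (k : G)⁻¹ by group, hgA,
        show h.μ (u l * 1) 0 (gA l 1) = h.μ (u l * 1) 0 0 * h.μ 0 0 (gA l 1) by rw [h.mul]; simp,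
        ← conj_mul, hgA, hZ', h.mul] at e
      simpa using (h.inj _ _ _ _ _ _ e).1.symm
    · have e := hgB (k * l) 1
      rw [Subgroup.coe_mul, show (k : G) * l * h.μ 0 1 0 * ((k : G) * l)⁻¹ =
        (k : G) * ((l : G) * h.μ 0 1 0 * (l : G)⁻¹) * (k : G)⁻¹ by group, hgB,
        show h.μ 0 (v l * 1) (gB l 1) = h.μ 0 (v l * 1) 0 * h.μ 0 0 (gB l 1) by rw [h.mul]; simp,
        ← conj_mul, hgB, hZ', h.mul] at e
      simpa using (h.inj _ _ _ _ _ _ e).2.1.symm
  have hadd : ∀ (k : K), (∀ x y, gA k (x + y) = gA k x + gA k y) ∧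
      ∀ x y, gB k (x + y) = gB k x + gB k y := by
    intro k
    constructor <;> intro x y
    · have e := hgA k (x + y)
      rw [show h.μ (x + y) 0 0 = h.μ x 0 0 * h.μ y 0 0 by rw [h.mul]; simp, ← conj_mul, hgA, hgA,
        h.mul] at e
      simpa using (h.inj _ _ _ _ _ _ e).2.2.symm
    · have e := hgB k (x + y)
      rw [show h.μ 0 (x + y) 0 = h.μ 0 x 0 * h.μ 0 y 0 by rw [h.mul]; simp, ← conj_mul, hgB, hgB,
        h.mul] at e
      simpa using (h.inj _ _ _ _ _ _ e).2.2.symm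
  have hcocA : ∀ k l a, gA (k * l) a = gA k (u l * a) + u k * v k * gA l a := by
    intro k l a
    have e := hgA (k * l) a
    rw [Subgroup.coe_mul, show (k : G) * l * h.μ a 0 0 * ((k : G) * l)⁻¹ =
      (k : G) * ((l : G) * h.μ a 0 0 * (l : G)⁻¹) * (k : G)⁻¹ by group, hgA,
      show h.μ (u l * a) 0 (gA l a) = h.μ (u l * a) 0 0 * h.μ 0 0 (gA l a) by rw [h.mul]; simp,
      ← conj_mul, hgA, hZ', h.mul] at e
    simpa using (h.inj _ _ _ _ _ _ e).2.2.symm
  have hcocB : ∀ k l b, gB (k * l) b = gB k (v l * b) + u k * v k * gB l b := by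
    intro k l b
    have e := hgB (k * l) b
    rw [Subgroup.coe_mul, show (k : G) * l * h.μ 0 b 0 * ((k : G) * l)⁻¹ =
      (k : G) * ((l : G) * h.μ 0 b 0 * (l : G)⁻¹) * (k : G)⁻¹ by group, hgB,
      show h.μ 0 (v l * b) (gB l b) = h.μ 0 (v l * b) 0 * h.μ 0 0 (gB l b) by rw [h.mul]; simp,
      ← conj_mul, hgB, hZ', h.mul] at e
    simpa using (h.inj _ _ _ _ _ _ e).2.2.symm
  -- the averaged complements
  have hsum : ∀ x : F, ∑ _l : K, x = x := fun x => by
    rw [Finset.sum_const, Finset.card_univ, ← Nat.card_eq_fintype_card]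
    obtain ⟨j, hj⟩ := hKodd
    rw [hj, succ_nsmul, mul_comm 2 j, mul_nsmul, two_nsmul, h.two, zero_add]
  let φ : F → F := fun b => ∑ l : K, gB l ((v l)⁻¹ * b)
  let χ : F → F := fun a => ∑ l : K, gA l ((u l)⁻¹ * a)
  have hφ : ∀ a b, φ (a + b) = φ a + φ b := fun a b => by
    simp only [φ, mul_add, (hadd _).2, Finset.sum_add_distrib]
  have hχ : ∀ a b, χ (a + b) = χ a + χ b := fun a b => by
    simp only [χ, mul_add, (hadd _).1, Finset.sum_add_distrib]
  have hφk : ∀ k b, gB k b + u k * v k * φ b = φ (v k * b) := by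
    intro k b
    simp only [φ]
    rw [← Equiv.sum_comp (Equiv.mulLeft k) (fun l => gB l ((v l)⁻¹ * (v k * b))), Finset.mul_sum,
      ← hsum (gB k b), ← Finset.sum_add_distrib]
    refine Finset.sum_congr rfl fun l _ => ?_
    simp only [Equiv.coe_mulLeft]
    rw [(huv k l).2, hcocB, show (v k * v l)⁻¹ * (v k * b) = (v l)⁻¹ * b by
      rw [mul_inv]; field_simp [hv0 k], mul_inv_cancel_left₀ (hv0 l)]
  have hχk : ∀ k a, gA k a + u k * v k * χ a = χ (u k * a) := by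
    intro k a
    simp only [χ]
    rw [← Equiv.sum_comp (Equiv.mulLeft k) (fun l => gA l ((u l)⁻¹ * (u k * a))), Finset.mul_sum,
      ← hsum (gA k a), ← Finset.sum_add_distrib]
    refine Finset.sum_congr rfl fun l _ => ?_
    simp only [Equiv.coe_mulLeft]
    rw [(huv k l).1, hcocA, show (u k * u l)⁻¹ * (u k * a) = (u l)⁻¹ * a by
      rw [mul_inv]; field_simp [hu0 k], mul_inv_cancel_left₀ (hu0 l)]
  set h' := h.shift φ χ hφ hχ with hh'
  have hμ : ∀ a b c, h'.μ a b c = h.μ a b (c + φ b + χ a) := fun _ _ _ => rfl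
  have h00 : φ 0 = 0 ∧ χ 0 = 0 := by
    constructor
    · have e := hφ 0 0; rw [add_zero, h.two] at e; exact e
    · have e := hχ 0 0; rw [add_zero, h.two] at e; exact e
  have hconjk : ∀ (k : K) a b c,
      (k : G) * h'.μ a b c * (k : G)⁻¹ = h'.μ (u k * a) (v k * b) (u k * v k * c) := by
    intro k a b c
    rw [h'.split_coord a b c, hμ a 0 0, hμ 0 b 0, hμ 0 0 (c + a * b), h00.1, h00.2,
      show h.μ a 0 (0 + 0 + χ a) = h.μ a 0 0 * h.μ 0 0 (χ a) by rw [h.mul]; simp,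
      show h.μ 0 b (0 + φ b + 0) = h.μ 0 b 0 * h.μ 0 0 (φ b) by rw [h.mul]; simp,
      ← conj_mul, ← conj_mul, ← conj_mul, ← conj_mul, hgA, hgB, hZ', hZ', hZ', h.mul, h.mul, h.mul,
      h.mul, hμ, ← hφk, ← hχk]
    have h20 : (2 : F) = 0 := by rw [← one_add_one_eq_two]; exact h.two 1
    congr 1 <;> ring_nf <;> simp [h20]
  -- coordinates
  have hdec : ∀ g : G, ∃ p : F × F × F × K, g = h'.μ p.1 p.2.1 p.2.2.1 * (p.2.2.2 : G) := by
    intro g
    obtain ⟨⟨⟨s, hs⟩, k⟩, hsk⟩ := hK.2 g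
    obtain ⟨a, b, c, e⟩ := (h'.mem s).1 hs
    exact ⟨(a, b, c, k), by rw [e]; exact hsk.symm⟩
  have huniq : ∀ p q : F × F × F × K, h'.μ p.1 p.2.1 p.2.2.1 * (p.2.2.2 : G) =
      h'.μ q.1 q.2.1 q.2.2.1 * (q.2.2.2 : G) → p = q := by
    intro p q e
    have := hK.1 (a₁ := (⟨_, h'.mem' p.1 p.2.1 p.2.2.1⟩, p.2.2.2))
      (a₂ := (⟨_, h'.mem' q.1 q.2.1 q.2.2.1⟩, q.2.2.2)) e
    rw [Prod.ext_iff, Subtype.ext_iff] at this
    obtain ⟨r1, r2, r3⟩ := h'.inj _ _ _ _ _ _ this.1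
    exact Prod.ext r1 (Prod.ext r2 (Prod.ext r3 this.2))
  choose P hP using hdec
  let M : F × F × F × K → Matrix (Fin 3) (Fin 3) F := fun p =>
    !![u p.2.2.2, p.1, p.2.2.1 * (v p.2.2.2)⁻¹; 0, 1, p.2.1 * (v p.2.2.2)⁻¹;
      0, 0, (v p.2.2.2)⁻¹]
  have hone : ∀ k : K, k = 1 → u k = 1 ∧ v k = 1 := by
    rintro _ rfl
    have e := huv 1 1
    rw [one_mul] at e
    exact ⟨mul_left_cancel₀ (hu0 1) (by rw [← e.1, mul_one]),
      mul_left_cancel₀ (hv0 1) (by rw [← e.2, mul_one])⟩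
  have hP1 : ∀ a b c (k : K), P (h'.μ a b c * k) = (a, b, c, k) := fun a b c k =>
    huniq _ (a, b, c, k) (hP _).symm
  let Φ : G →* Matrix (Fin 3) (Fin 3) F :=
    { toFun := fun g => M (P g)
      map_one' := by
        have e := hP1 0 0 0 1
        rw [h'.one, Subgroup.coe_one, one_mul] at e
        rw [e]
        simp only [M, (hone 1 rfl).1, (hone 1 rfl).2]
        ext i j; fin_cases i <;> fin_cases j <;> simp
      map_mul' := fun g g' => by
        obtain ⟨⟨a, b, c, k⟩, hx⟩ : ∃ t, P g = t := ⟨_, rfl⟩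
        obtain ⟨⟨a', b', c', k'⟩, hx'⟩ : ∃ t, P g' = t := ⟨_, rfl⟩
        have e : g * g' = h'.μ (a + u k * a') (b + v k * b')
            (c + u k * v k * c' + a * (v k * b')) * ((k * k' : K) : G) := by
          rw [hP g, hP g', hx, hx', ← h'.mul, ← hconjk, Subgroup.coe_mul]
          group
        rw [e, hP1, hx, hx']
        simp only [M, (huv k k').1, (huv k k').2]
        ext i j
        fin_cases i <;> fin_cases j <;>
          simp [Matrix.mul_apply, Fin.sum_univ_three] <;>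
          field_simp [hu0 k, hv0 k, hv0 k'] <;> ring }
  have hΦ : ∀ a b c (k : K), Φ (h'.μ a b c * k) = M (a, b, c, k) := fun a b c k =>
    congrArg M (hP1 a b c k)
  refine ⟨(QuotientGroup.mk' (Subgroup.center (GL (Fin 3) F))).comp Φ.toHomUnits,
    proj_injective h.two Φ ?_ ?_⟩
  · intro g hg
    obtain ⟨⟨a, b, c, k⟩, hx⟩ : ∃ t, P g = t := ⟨_, rfl⟩
    have e : g = h'.μ a b c * k := by rw [hP g, hx]
    rw [e, hΦ] at hg
    have e00 := congrFun (congrFun hg 0) 0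
    have e01 := congrFun (congrFun hg 0) 1
    have e22 := congrFun (congrFun hg 2) 2
    have e02 := congrFun (congrFun hg 0) 2
    have e12 := congrFun (congrFun hg 1) 2
    simp [M] at e00 e01 e22 e02 e12
    simp [hv0 k] at e02 e12
    subst e01; subst e02; subst e12
    -- the kernel of the action of `K` is trivial
    set K₀ : Subgroup G := K ⊓ Subgroup.centralizer ((S : Subgroup G) : Set G) with hK₀
    haveI : K₀.Normal := by
      constructor
      rintro x ⟨hxK, hxS⟩ w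
      obtain ⟨⟨⟨s, hs⟩, l⟩, hsl⟩ := hK.2 w
      have hlx : (l : G) * x * (l : G)⁻¹ ∈ Subgroup.centralizer ((S : Subgroup G) : Set G) :=
        Subgroup.mem_centralizer_iff.2 fun t ht => by
          have e' := Subgroup.mem_centralizer_iff.1 hxS ((l : G)⁻¹ * t * l)
            (show (l : G)⁻¹ * t * l ∈ (S : Subgroup G) by
              have e0 := hn.conj_mem t ht (l : G)⁻¹; rwa [inv_inv] at e0)
          calc t * ((l : G) * x * (l : G)⁻¹) = l * ((l : G)⁻¹ * t * l * x) * (l : G)⁻¹ := by group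
            _ = (l : G) * x * (l : G)⁻¹ * t := by rw [e']; group
      have ew : w * x * w⁻¹ = (l : G) * x * (l : G)⁻¹ := by
        rw [← show s * (l : G) = w from hsl,
          show s * l * x * (s * l)⁻¹ = s * ((l : G) * x * (l : G)⁻¹) * s⁻¹ by group,
          Subgroup.mem_centralizer_iff.1 hlx s hs, mul_inv_cancel_right]
      rw [ew]
      exact ⟨K.mul_mem (K.mul_mem l.2 hxK) (K.inv_mem l.2), hlx⟩
    have hK₀1 : K₀ = ⊥ := le_bot_iff.1 (hO ▸ HallCore.le_pPrimeCore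
      (Nat.coprime_two_right.2 (hKodd.of_dvd_nat (Subgroup.card_dvd_of_le inf_le_left))))
    have hk : (k : G) ∈ K₀ := ⟨k.2, Subgroup.mem_centralizer_iff.2 fun t ht => by
      obtain ⟨a', b', c', rfl⟩ := (h'.mem t).1 ht
      have e' := hconjk k a' b' c'
      rw [e00, e22, one_mul, one_mul, one_mul, one_mul] at e'
      exact (mul_inv_eq_iff_eq_mul.1 e').symm⟩
    rw [hK₀1, Subgroup.mem_bot] at hk
    rw [e, hk, mul_one, h'.one]
  · intro g r hg
    have e := congrFun (congrFun hg 1) 1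
    rw [show Φ g 1 1 = 1 from rfl] at e
    simpa using e.symm

theorem embeds_of_normal_A (hA : ¬ h.FixZ ⊤) (hn : h.A.Normal) (hO : pPrimeCore 2 G = ⊥) :
    ∃ f : G →* GL (Fin 3) F ⧸ Subgroup.center (GL (Fin 3) F), Function.Injective f := by
  classical
  haveI : Fact (Nat.Prime 2) := ⟨Nat.prime_two⟩
  unfold FixZ at hA
  push Not at hA
  obtain ⟨n, -, hnN, z₀, hz₀, hnz₀⟩ := hA
  have hout : ∀ d : F, d ≠ 0 → n * h.μ 0 0 d * n⁻¹ ∉ h.Z := fun d hd hcon =>
    hnz₀ (conj_mem_of_normalizer (h.normalizer_Z_of_mem hnN (h.mem_Z.2 ⟨d, rfl⟩)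
      (fun e => hd (h.eq_one_iff.1 e).2.2) hcon) hz₀)
  choose β γ hβγ using fun d : F =>
    conj_mem_of_normalizer hnN (h.Z_le_A (h.mem_Z.2 ⟨d, rfl⟩) : h.μ 0 0 d ∈ h.A)
  have hadd : ∀ d e, β (d + e) = β d + β e ∧ γ (d + e) = γ d + γ e := by
    intro d e
    have := hβγ (d + e)
    rw [show h.μ 0 0 (d + e) = h.μ 0 0 d * h.μ 0 0 e by rw [h.mul]; simp, ← conj_mul, ← hβγ d,
      ← hβγ e, h.mul] at this
    obtain ⟨-, r2, r3⟩ := h.inj _ _ _ _ _ _ this
    exact ⟨r2, by simpa using r3⟩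
  have hinj : Function.Injective β := by
    intro d e hde
    by_contra hne
    refine hout (d + e) (fun h0 => hne (by rw [eq_neg_of_add_eq_zero_left h0, h.neg_eq])) ?_
    rw [← hβγ, (hadd d e).1, hde, h.two]
    exact h.mem_Z.2 ⟨_, rfl⟩
  let βe := Equiv.ofBijective β ⟨hinj, Finite.injective_iff_surjective.1 hinj⟩
  let φ : F → F := fun b => γ (βe.symm b)
  have hφ : ∀ a b, φ (a + b) = φ a + φ b := fun a b => by
    simp only [φ]
    rw [← (hadd _ _).2]
    congr 1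
    refine βe.injective ?_
    rw [Equiv.apply_symm_apply]
    show a + b = β _
    rw [(hadd _ _).1]
    exact (congrArg₂ (· + ·) (βe.apply_symm_apply a) (βe.apply_symm_apply b)).symm
  set h' := h.shift φ (fun _ => 0) hφ (fun _ _ => (add_zero 0).symm) with hh'
  have hφ0 : φ 0 = 0 := by have e := hφ 0 0; rw [add_zero, h.two] at e; exact e
  have hμ : ∀ a b c, h'.μ a b c = h.μ a b (c + φ b + 0) := fun _ _ _ => rfl
  have hAeq : h'.A = h.A := by
    ext x
    constructor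
    · rintro ⟨b, c, rfl⟩; exact ⟨b, c + φ b + 0, rfl⟩
    · rintro ⟨b, c, rfl⟩
      exact ⟨b, c + φ b, by rw [hμ, add_zero, add_assoc, h.two, add_zero]⟩
  have hn' : h'.A.Normal := hAeq ▸ hn
  have hN : ∀ g : G, g ∈ Subgroup.normalizer (h'.A : Set G) := fun g => by
    haveI := hn'
    exact Subgroup.normalizer_eq_top h'.A ▸ Subgroup.mem_top g
  have hA' : ∀ (g : G) b c, ∃ b' c', h'.μ 0 b' c' = g * h'.μ 0 b c * g⁻¹ := fun g b c =>
    hn'.conj_mem _ ⟨b, c, rfl⟩ g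
  -- the standard lines are conjugates of `Z`
  have hline : ∀ α b : F, ∃ g d, g * h'.μ 0 0 d * g⁻¹ = h'.μ 0 b (α * b) ∧
      g = h'.μ α 0 0 * n := by
    intro α b
    refine ⟨_, βe.symm b, ?_, rfl⟩
    have e : n * h'.μ 0 0 (βe.symm b) * n⁻¹ = h'.μ 0 b 0 := by
      rw [hμ, hμ, hφ0, add_zero, add_zero, add_zero, zero_add, ← hβγ]
      congr 1
      exact βe.apply_symm_apply b
    rw [show h'.μ α 0 0 * n * h'.μ 0 0 (βe.symm b) * (h'.μ α 0 0 * n)⁻¹ =
      h'.μ α 0 0 * (n * h'.μ 0 0 (βe.symm b) * n⁻¹) * (h'.μ α 0 0)⁻¹ by group, e, h'.conj]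
    simp
  -- every conjugate of `Z` is `Z` or a standard line
  have hconjZ : ∀ g : G, (∀ d, ∃ c, h'.μ 0 0 c = g * h'.μ 0 0 d * g⁻¹) ∨
      ∃ α, ∀ d, ∃ b, h'.μ 0 b (α * b) = g * h'.μ 0 0 d * g⁻¹ := by
    intro g
    obtain ⟨b, c, e⟩ := hA' g 0 1
    have h01 : h'.μ 0 0 1 ≠ 1 := fun e' => one_ne_zero (h'.eq_one_iff.1 e').2.2
    by_cases hb : b = 0
    · refine Or.inl fun d => h'.mem_Z.1 (conj_mem_of_normalizer
        (h'.normalizer_Z_of_mem (hN g) (h'.mem_Z.2 ⟨1, rfl⟩) h01 ?_) (h'.mem_Z.2 ⟨d, rfl⟩))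
      rw [← e, hb]; exact h'.mem_Z.2 ⟨c, rfl⟩
    · refine Or.inr ⟨c / b, fun d => ?_⟩
      obtain ⟨g', d', e', hg'⟩ := hline (c / b) b
      rw [div_mul_cancel₀ c hb, e] at e'
      have hd' : d' ≠ 0 := by
        rintro rfl
        rw [h'.one, mul_one, mul_inv_cancel, eq_comm, conj_eq_one_iff] at e'
        exact h01 e'
      have hm : g'⁻¹ * g * h'.μ 0 0 1 * (g'⁻¹ * g)⁻¹ = h'.μ 0 0 d' := by
        rw [show g'⁻¹ * g * h'.μ 0 0 1 * (g'⁻¹ * g)⁻¹ = g'⁻¹ * (g * h'.μ 0 0 1 * g⁻¹) * g' by group,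
          ← e']
        group
      have hz := conj_mem_of_normalizer (h'.normalizer_Z_of_mem (hN (g'⁻¹ * g))
        (h'.mem_Z.2 ⟨1, rfl⟩) h01 (by rw [hm]; exact h'.mem_Z.2 ⟨d', rfl⟩))
        (h'.mem_Z.2 ⟨d, rfl⟩ : h'.μ 0 0 d ∈ h'.Z)
      obtain ⟨d'', e''⟩ := h'.mem_Z.1 hz
      refine ⟨β d'', ?_⟩
      have e3 : g' * h'.μ 0 0 d'' * g'⁻¹ = g * h'.μ 0 0 d * g⁻¹ := by rw [e'']; group
      rw [← e3, hg', show h'.μ (c / b) 0 0 * n * h'.μ 0 0 d'' * (h'.μ (c / b) 0 0 * n)⁻¹ =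
        h'.μ (c / b) 0 0 * (n * h'.μ 0 0 d'' * n⁻¹) * (h'.μ (c / b) 0 0)⁻¹ by group]
      have e4 : n * h'.μ 0 0 d'' * n⁻¹ = h'.μ 0 (β d'') 0 := by
        rw [hμ, hμ, hφ0, add_zero, add_zero, add_zero, zero_add, ← hβγ]
        congr 1
        show γ d'' = γ (βe.symm (βe d''))
        rw [Equiv.symm_apply_apply]
      rw [e4, h'.conj]
      simp
  choose p q hpq using hA'
  have hpadd : ∀ g b c b' c', p g (b + b') (c + c') = p g b c + p g b' c' ∧
      q g (b + b') (c + c') = q g b c + q g b' c' := by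
    intro g b c b' c'
    have e := hpq g (b + b') (c + c')
    rw [show h'.μ 0 (b + b') (c + c') = h'.μ 0 b c * h'.μ 0 b' c' by rw [h'.mul]; simp, ← conj_mul,
      ← hpq, ← hpq, h'.mul] at e
    obtain ⟨-, r2, r3⟩ := h'.inj _ _ _ _ _ _ e
    exact ⟨r2, by simpa using r3⟩
  -- scalars commute with conjugation
  let L : G → Prop := fun g => ∀ s b c, p g (s * b) (s * c) = s * p g b c ∧
    q g (s * b) (s * c) = s * q g b c
  have hcomp : ∀ g g' b c, p (g * g') b c = p g (p g' b c) (q g' b c) ∧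
      q (g * g') b c = q g (p g' b c) (q g' b c) := by
    intro g g' b c
    have e : h'.μ 0 (p (g * g') b c) (q (g * g') b c) =
        h'.μ 0 (p g (p g' b c) (q g' b c)) (q g (p g' b c) (q g' b c)) := by
      rw [hpq, hpq g, hpq g']; group
    obtain ⟨-, r2, r3⟩ := h'.inj _ _ _ _ _ _ e
    exact ⟨r2, r3⟩
  have hsemi : ∀ g s, ∃ s', ∀ b c, p g (s * b) (s * c) = s' * p g b c ∧
      q g (s * b) (s * c) = s' * q g b c := by
    intro g s
    have hid : ∀ b c, p g (p g⁻¹ b c) (q g⁻¹ b c) = b ∧ q g (p g⁻¹ b c) (q g⁻¹ b c) = c := by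
      intro b c
      have e : h'.μ 0 (p (g * g⁻¹) b c) (q (g * g⁻¹) b c) = h'.μ 0 b c := by
        rw [hpq]; group
      obtain ⟨-, r2, r3⟩ := h'.inj _ _ _ _ _ _ e
      exact ⟨((hcomp g g⁻¹ b c).1).symm.trans r2, ((hcomp g g⁻¹ b c).2).symm.trans r3⟩
    set E₁ : F → F → F := fun b c => p g (s * p g⁻¹ b c) (s * q g⁻¹ b c) with hE₁
    set E₂ : F → F → F := fun b c => q g (s * p g⁻¹ b c) (s * q g⁻¹ b c) with hE₂
    have hEadd : ∀ b c b' c', E₁ (b + b') (c + c') = E₁ b c + E₁ b' c' ∧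
        E₂ (b + b') (c + c') = E₂ b c + E₂ b' c' := by
      intro b c b' c'
      simp only [hE₁, hE₂, (hpadd _ _ _ _ _).1, (hpadd _ _ _ _ _).2, mul_add, and_self]
    -- every standard line and `Z` is kept
    have hkeep : ∀ g' d, ∃ d', h'.μ 0 (E₁ (p g' 0 d) (q g' 0 d)) (E₂ (p g' 0 d) (q g' 0 d)) =
        g' * h'.μ 0 0 d' * g'⁻¹ := by
      intro g' d
      have e0 := hpq (g⁻¹ * g') 0 d
      have e1 : p g⁻¹ (p g' 0 d) (q g' 0 d) = p (g⁻¹ * g') 0 d ∧
          q g⁻¹ (p g' 0 d) (q g' 0 d) = q (g⁻¹ * g') 0 d :=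
        ⟨(hcomp _ _ _ _).1.symm, (hcomp _ _ _ _).2.symm⟩
      simp only [hE₁, hE₂, e1.1, e1.2]
      obtain ⟨d', hd'⟩ : ∃ d', h'.μ 0 (s * p (g⁻¹ * g') 0 d) (s * q (g⁻¹ * g') 0 d) =
          g⁻¹ * g' * h'.μ 0 0 d' * (g⁻¹ * g')⁻¹ := by
        rcases hconjZ (g⁻¹ * g') with hl | ⟨α, hl⟩
        · obtain ⟨c₁, hc₁⟩ := hl d
          obtain ⟨-, r2, r3⟩ := h'.inj _ _ _ _ _ _ (e0.trans hc₁.symm)
          have hsur : Function.Surjective fun d => (hl d).choose := Finite.injective_iff_surjective.1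
            fun d₁ d₂ e => by
              have h₁ := (hl d₁).choose_spec
              have h₂ := (hl d₂).choose_spec
              rw [e] at h₁
              exact (h'.inj _ _ _ _ _ _ ((mul_left_cancel (mul_right_cancel (h₁.symm.trans h₂))))).2.2
          obtain ⟨d', hd'⟩ := hsur (s * c₁)
          refine ⟨d', ?_⟩
          rw [r2, r3, mul_zero, ← hd']
          exact (hl d').choose_spec
        · obtain ⟨b₁, hb₁⟩ := hl d
          obtain ⟨-, r2, r3⟩ := h'.inj _ _ _ _ _ _ (e0.trans hb₁.symm)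
          have hsur : Function.Surjective fun d => (hl d).choose := Finite.injective_iff_surjective.1
            fun d₁ d₂ e => by
              have h₁ := (hl d₁).choose_spec
              have h₂ := (hl d₂).choose_spec
              rw [e] at h₁
              exact (h'.inj _ _ _ _ _ _ ((mul_left_cancel (mul_right_cancel (h₁.symm.trans h₂))))).2.2
          obtain ⟨d', hd'⟩ := hsur (s * b₁)
          refine ⟨d', ?_⟩
          rw [r2, r3, show s * (α * b₁) = α * (s * b₁) by ring, ← hd']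
          exact (hl d').choose_spec
      refine ⟨d', ?_⟩
      rw [hpq, hd']
      group
    have hE0 : ∀ d, E₁ 0 d = 0 := by
      intro d
      have e0 : p 1 0 d = 0 ∧ q 1 0 d = d := by
        obtain ⟨-, r2, r3⟩ := h'.inj _ _ _ _ _ _
          (show h'.μ 0 (p 1 0 d) (q 1 0 d) = h'.μ 0 0 d by rw [hpq]; group)
        exact ⟨r2, r3⟩
      obtain ⟨d', hd'⟩ := hkeep 1 d
      rw [e0.1, e0.2, one_mul, inv_one, mul_one] at hd'
      exact (h'.inj _ _ _ _ _ _ hd').2.1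
    have hEline : ∀ α b, E₂ b (α * b) = α * E₁ b (α * b) := by
      intro α b
      obtain ⟨g', d, e, hg'⟩ := hline α b
      obtain ⟨-, r2, r3⟩ := h'.inj _ _ _ _ _ _ ((hpq g' 0 d).trans e)
      obtain ⟨d', hd'⟩ := hkeep g' d
      rw [r2, r3] at hd'
      have e4 : g' * h'.μ 0 0 d' * g'⁻¹ = h'.μ 0 (β d') (α * β d') := by
        rw [hg', show h'.μ α 0 0 * n * h'.μ 0 0 d' * (h'.μ α 0 0 * n)⁻¹ =
          h'.μ α 0 0 * (n * h'.μ 0 0 d' * n⁻¹) * (h'.μ α 0 0)⁻¹ by group]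
        have e5 : n * h'.μ 0 0 d' * n⁻¹ = h'.μ 0 (β d') 0 := by
          rw [hμ, hμ, hφ0, add_zero, add_zero, add_zero, zero_add, ← hβγ]
          congr 1
          show γ d' = γ (βe.symm (βe d'))
          rw [Equiv.symm_apply_apply]
        rw [e5, h'.conj]
        simp
      obtain ⟨-, r4, r5⟩ := h'.inj _ _ _ _ _ _ (hd'.trans e4)
      rw [r5, r4]
    refine ⟨E₂ 0 1, fun b c => ?_⟩
    have hEb : ∀ b α, E₁ b (α * b) = E₁ b 0 := fun b α => by
      have e := (hEadd b 0 0 (α * b)).1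
      rw [add_zero, zero_add, hE0, add_zero] at e
      exact e
    have hE20 : ∀ b, E₂ b 0 = 0 := fun b => by
      have e := hEline 0 b
      rw [zero_mul, zero_mul] at e
      exact e
    have hEc : ∀ b α, E₂ 0 (α * b) = α * E₁ b 0 := fun b α => by
      have e := (hEadd b 0 0 (α * b)).2
      rw [add_zero, zero_add, hE20, zero_add, hEline, hEb] at e
      exact e.symm
    have hE1 : ∀ b, E₁ b 0 = E₂ 0 1 * b := fun b => by
      have e1 := hEc b 1
      rw [one_mul, one_mul] at e1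
      have e2 := hEc 1 b
      rw [mul_one] at e2
      have e3 : E₂ 0 1 = E₁ 1 0 := by
        have e4 := hEc 1 1
        rwa [one_mul, one_mul] at e4
      rw [← e1, e2, e3, mul_comm]
    have hE2 : ∀ c, E₂ 0 c = E₂ 0 1 * c := fun c => by
      have e := hEc 1 c
      rw [mul_one, hE1, mul_one] at e
      rw [e, mul_comm]
    obtain ⟨i1, i2⟩ := hid b c
    have key1 := (hEadd (p g b c) 0 0 (q g b c)).1
    have key2 := (hEadd (p g b c) 0 0 (q g b c)).2
    rw [add_zero, zero_add, hE0, add_zero, hE1] at key1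
    rw [add_zero, zero_add, hE20, zero_add, hE2] at key2
    have hinv : p g⁻¹ (p g b c) (q g b c) = b ∧ q g⁻¹ (p g b c) (q g b c) = c := by
      have e : h'.μ 0 (p (g⁻¹ * g) b c) (q (g⁻¹ * g) b c) = h'.μ 0 b c := by
        rw [hpq]; group
      obtain ⟨-, r2, r3⟩ := h'.inj _ _ _ _ _ _ e
      exact ⟨((hcomp g⁻¹ g b c).1).symm.trans r2, ((hcomp g⁻¹ g b c).2).symm.trans r3⟩
    simp only [hE₁, hE₂, hinv.1, hinv.2] at key1 key2
    exact ⟨key1, key2⟩
  have hLmul : ∀ g g', L g → L g' → L (g * g') := fun g g' hg hg' s b c => by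
    rw [(hcomp g g' _ _).1, (hcomp g g' _ _).2, (hcomp g g' b c).1, (hcomp g g' b c).2,
      (hg' s b c).1, (hg' s b c).2]
    exact hg s _ _
  have hLS : ∀ t ∈ (S : Subgroup G), L t := by
    intro t ht s b c
    obtain ⟨a, b₀, c₀, rfl⟩ := (h'.mem t).1 ht
    have e : ∀ b c, p (h'.μ a b₀ c₀) b c = b ∧ q (h'.μ a b₀ c₀) b c = c + a * b := by
      intro b c
      have e := hpq (h'.μ a b₀ c₀) b c
      rw [h'.conj, zero_mul, add_zero] at e
      obtain ⟨-, r2, r3⟩ := h'.inj _ _ _ _ _ _ e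
      exact ⟨r2, r3⟩
    rw [(e _ _).1, (e _ _).2, (e b c).1, (e b c).2]
    exact ⟨rfl, by ring⟩
  have hne : ∀ g, ∃ b c, p g b c ≠ 0 := by
    intro g
    refine ⟨p g⁻¹ 1 0, q g⁻¹ 1 0, ?_⟩
    have e : h'.μ 0 (p (g * g⁻¹) 1 0) (q (g * g⁻¹) 1 0) = h'.μ 0 1 0 := by rw [hpq]; group
    rw [← (hcomp g g⁻¹ 1 0).1, (h'.inj _ _ _ _ _ _ e).2.1]
    exact one_ne_zero
  choose σ hσ using hsemi
  have hσmul : ∀ g g' s, σ (g * g') s = σ g (σ g' s) := by
    intro g g' s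
    obtain ⟨b, c, hbc⟩ := hne (g * g')
    refine mul_right_cancel₀ hbc ?_
    rw [← (hσ (g * g') s b c).1, (hcomp _ _ _ _).1, (hσ g' s b c).1, (hσ g' s b c).2,
      (hσ g _ _ _).1, ← (hcomp g g' b c).1]
  have hσσ : ∀ g s, σ g (σ g s) = s := by
    intro g
    obtain ⟨b, c, hbc⟩ := hne g
    refine h.sq_ringHom (fun x y => mul_right_cancel₀ hbc ?_) (fun x y => mul_right_cancel₀ hbc ?_)
      (mul_right_cancel₀ hbc ?_) (fun x hx => ?_)
    · rw [add_mul, ← (hσ g _ b c).1, ← (hσ g _ b c).1, ← (hσ g _ b c).1, add_mul, add_mul,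
        (hpadd _ _ _ _ _).1]
    · rw [mul_assoc, ← (hσ g y b c).1, ← (hσ g x _ _).1, ← (hσ g _ b c).1, mul_assoc, mul_assoc]
    · rw [← (hσ g 1 b c).1, one_mul, one_mul, one_mul]
    · by_contra hx0
      obtain ⟨b', c', hbc'⟩ := hne g
      refine hbc' ?_
      have e := (hσ g x (x⁻¹ * b') (x⁻¹ * c')).1
      rw [hx, zero_mul, mul_inv_cancel_left₀ hx0, mul_inv_cancel_left₀ hx0] at e
      exact e
  have hLiff : ∀ g, (∀ s, σ g s = s) → L g := fun g hg s b c => by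
    have := hσ g s b c
    rwa [hg] at this
  have hσS : ∀ t ∈ (S : Subgroup G), ∀ s, σ t s = s := by
    intro t ht s
    obtain ⟨b, c, hbc⟩ := hne t
    exact mul_right_cancel₀ hbc (((hσ t s b c).1).symm.trans (hLS t ht s b c).1)
  have hlin : ∀ g, L g := by
    intro g
    refine hLiff g fun s => ?_
    obtain ⟨r, m, hm, hord⟩ := Nat.exists_eq_two_pow_mul_odd (orderOf_pos g).ne'
    obtain ⟨j, rfl⟩ := hm
    have hp : IsPGroup 2 (Subgroup.zpowers (g ^ (2 * j + 1))) :=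
      IsPGroup.of_card (n := r) (by
        rw [Nat.card_zpowers, orderOf_pow_of_dvd (by omega) (hord ▸ dvd_mul_left _ _), hord,
          Nat.mul_div_cancel _ (by omega)])
    obtain ⟨k, -, hk⟩ := conj_into S le_top le_top hp
    have hpow : ∀ i : ℕ, σ (g ^ (2 * i + 1)) s = σ g s := by
      intro i
      induction i with
      | zero => simp
      | succ i ih =>
        rw [show g ^ (2 * (i + 1) + 1) = g * (g * g ^ (2 * i + 1)) by
          rw [show 2 * (i + 1) + 1 = (2 * i + 1) + 1 + 1 by ring, pow_succ', pow_succ'],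
          hσmul, hσmul, ih, hσσ]
    rw [← hpow j]
    set t := g ^ (2 * j + 1)
    have hh := hσS _ (hk t (Subgroup.mem_zpowers t)) (σ k s)
    rw [← hσmul, show k * t * k⁻¹ * k = k * t by group, hσmul] at hh
    have := congrArg (σ k) hh
    rwa [hσσ, hσσ] at this
  -- the complement of `A`
  haveI := hn'
  haveI : IsMulCommutative h'.A := ⟨⟨fun a b => Subtype.ext (h'.A_comm a.2 b.2)⟩⟩
  let T₀ : Subgroup G :=
    { carrier := {x | ∃ a, h'.μ a 0 0 = x}
      one_mem' := ⟨0, h'.one⟩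
      mul_mem' := by rintro _ _ ⟨a, rfl⟩ ⟨a', rfl⟩; exact ⟨a + a', by rw [h'.mul]; simp⟩
      inv_mem' := by rintro _ ⟨a, rfl⟩; exact ⟨a, by rw [h'.inv]; simp⟩ }
  obtain ⟨X, hX⟩ := CoprimeGaschutz.exists_complement (K := h'.A) (U := (S : Subgroup G)) h'.A_le
    (by
      rw [h'.card_A]
      simpa using Nat.Coprime.pow_left 4 (Nat.coprime_two_left.2
        (Nat.odd_iff.2 (Nat.two_dvd_ne_zero.1 S.not_dvd_index))))
    T₀ (by rintro _ ⟨a, rfl⟩; exact h'.mem' _ _ _)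
    (by
      rw [eq_bot_iff]
      rintro x ⟨⟨a, rfl⟩, b, c, e⟩
      obtain ⟨ha, -, -⟩ := h'.inj _ _ _ _ _ _ e
      rw [← ha, h'.one]; exact one_mem _)
    (le_antisymm (sup_le h'.A_le (by rintro _ ⟨a, rfl⟩; exact h'.mem' _ _ _)) fun x hx => by
      obtain ⟨a, b, c, rfl⟩ := (h'.mem x).1 hx
      rw [show h'.μ a b c = h'.μ 0 b c * h'.μ a 0 0 by rw [h'.mul]; simp]
      exact Subgroup.mul_mem_sup ⟨b, c, rfl⟩ ⟨a, rfl⟩)
  have hdec : ∀ g : G, ∃ r : F × F × X, g = h'.μ 0 r.1 r.2.1 * (r.2.2 : G) := by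
    intro g
    obtain ⟨⟨⟨s, ⟨b, c, e⟩⟩, x⟩, hsx⟩ := hX.2 g
    exact ⟨(b, c, x), by rw [e]; exact hsx.symm⟩
  have huniq : ∀ r t : F × F × X, h'.μ 0 r.1 r.2.1 * (r.2.2 : G) =
      h'.μ 0 t.1 t.2.1 * (t.2.2 : G) → r = t := by
    intro r t e
    have := hX.1 (a₁ := (⟨_, ⟨r.1, r.2.1, rfl⟩⟩, r.2.2))
      (a₂ := (⟨_, ⟨t.1, t.2.1, rfl⟩⟩, t.2.2)) e
    rw [Prod.ext_iff, Subtype.ext_iff] at this
    obtain ⟨-, r2, r3⟩ := h'.inj _ _ _ _ _ _ this.1
    exact Prod.ext r2 (Prod.ext r3 this.2)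
  choose P hP using hdec
  have hP1 : ∀ b c (x : X), P (h'.μ 0 b c * x) = (b, c, x) := fun b c x =>
    huniq _ (b, c, x) (hP _).symm
  have hmat : ∀ g b c, p g b c = p g 1 0 * b + p g 0 1 * c ∧ q g b c = q g 1 0 * b + q g 0 1 * c := by
    intro g b c
    have e1 := hlin g b 1 0
    have e2 := hlin g c 0 1
    rw [mul_one, mul_zero] at e1 e2
    have e := hpadd g b 0 0 c
    rw [add_zero, zero_add, e1.1, e1.2, e2.1, e2.2] at e
    rw [e.1, e.2]
    exact ⟨by ring, by ring⟩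
  let M : F × F × X → Matrix (Fin 3) (Fin 3) F := fun r =>
    !![q r.2.2 0 1, q r.2.2 1 0, r.2.1; p r.2.2 0 1, p r.2.2 1 0, r.1; 0, 0, 1]
  have hp1 : ∀ b c, p 1 b c = b ∧ q 1 b c = c := fun b c => by
    obtain ⟨-, r2, r3⟩ := h'.inj _ _ _ _ _ _
      (show h'.μ 0 (p 1 b c) (q 1 b c) = h'.μ 0 b c by rw [hpq]; group)
    exact ⟨r2, r3⟩
  let Φ : G →* Matrix (Fin 3) (Fin 3) F :=
    { toFun := fun g => M (P g)
      map_one' := by
        have e := hP1 0 0 1
        rw [h'.one, Subgroup.coe_one, one_mul] at e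
        rw [e]
        simp only [M, Subgroup.coe_one, (hp1 _ _).1, (hp1 _ _).2]
        ext i j; fin_cases i <;> fin_cases j <;> simp
      map_mul' := fun g g' => by
        obtain ⟨⟨b, c, x⟩, hx⟩ : ∃ t, P g = t := ⟨_, rfl⟩
        obtain ⟨⟨b', c', x'⟩, hx'⟩ : ∃ t, P g' = t := ⟨_, rfl⟩
        have e : g * g' = h'.μ 0 (b + p x b' c') (c + q x b' c') * ((x * x' : X) : G) := by
          have e3 : h'.μ 0 (b + p x b' c') (c + q x b' c') =
              h'.μ 0 b c * h'.μ 0 (p x b' c') (q x b' c') := by rw [h'.mul]; simp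
          rw [hP g, hP g', hx, hx', e3, hpq, Subgroup.coe_mul]
          group
        rw [e, hP1, hx, hx']
        simp only [M, Subgroup.coe_mul]
        rw [(hcomp _ _ 0 1).1, (hcomp _ _ 0 1).2, (hcomp _ _ 1 0).1, (hcomp _ _ 1 0).2,
          (hmat x (p x' 0 1) (q x' 0 1)).1, (hmat x (p x' 0 1) (q x' 0 1)).2,
          (hmat x (p x' 1 0) (q x' 1 0)).1, (hmat x (p x' 1 0) (q x' 1 0)).2,
          (hmat x b' c').1, (hmat x b' c').2]
        ext i j
        fin_cases i <;> fin_cases j <;> simp [Matrix.mul_apply, Fin.sum_univ_three] <;> ring }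
  have hΦ : ∀ b c (x : X), Φ (h'.μ 0 b c * x) = M (b, c, x) := fun b c x =>
    congrArg M (hP1 b c x)
  refine ⟨(QuotientGroup.mk' (Subgroup.center (GL (Fin 3) F))).comp Φ.toHomUnits,
    proj_injective h.two Φ ?_ ?_⟩
  · intro g hg
    obtain ⟨⟨b, c, x⟩, hx⟩ : ∃ t, P g = t := ⟨_, rfl⟩
    have e : g = h'.μ 0 b c * x := by rw [hP g, hx]
    rw [e, hΦ] at hg
    have e00 := congrFun (congrFun hg 0) 0
    have e01 := congrFun (congrFun hg 0) 1
    have e10 := congrFun (congrFun hg 1) 0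
    have e11 := congrFun (congrFun hg 1) 1
    have e02 := congrFun (congrFun hg 0) 2
    have e12 := congrFun (congrFun hg 1) 2
    simp [M] at e00 e01 e10 e11 e02 e12
    subst e02; subst e12
    have hxA : (x : G) ∈ h'.A := by
      rw [hAeq]
      refine h.centralizer_A hn hO fun a ha => ?_
      rw [← hAeq] at ha
      obtain ⟨b', c', rfl⟩ := ha
      have e5 := hpq x b' c'
      rw [(hmat x b' c').1, (hmat x b' c').2, e00, e01, e10, e11] at e5
      simp only [one_mul, zero_mul, add_zero, zero_add] at e5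
      exact (mul_inv_eq_iff_eq_mul.1 e5.symm)
    have : (x : G) ∈ h'.A ⊓ X := ⟨hxA, x.2⟩
    rw [hX.disjoint.eq_bot, Subgroup.mem_bot] at this
    rw [e, this, mul_one, h'.one]
  · intro g r hg
    have e := congrFun (congrFun hg 2) 2
    rw [show Φ g 2 2 = 1 from rfl] at e
    simpa using e.symm

end Chart

end Cfsg.Agent.L34Syl83
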