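import Mathlib
import Cfsg.Agent.Lib.L34Syl83Cent
import Cfsg.Agent.Lib.L34Syl83Local62
import Cfsg.Agent.Lib.AEightThreeGen62
import Cfsg.Agent.S1279
import Cfsg.Agent.S0217

/-!
# Type `L₃(4)` Sylow subgroup, mixed case: local lemmas and the signalizer subgroup

`N(B)` fixes `Z` and `N(A)` does not: fusion in `A`, the centralisers of the involutions of `A`, the
subgroup `coreW` generated by their odd cores, and `hub = coreW ⊔ N(A)`.
-/

set_option autoImplicit false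
set_option linter.unusedSectionVars false

namespace Cfsg.Agent.L34Syl83

open Cfsg

attribute [local instance] AEightThreeGen62.fact2

section General

variable {G : Type*} [Group G] [Finite G]

theorem eq_one_of_odd_of_two {Q : Subgroup G} (hQ : IsPGroup 2 Q) {x : G} (hx : x ∈ Q)
    (ho : Odd (orderOf x)) : x = 1 := by
  obtain ⟨k, hk⟩ := hQ ⟨x, hx⟩
  have h1 : orderOf x ∣ 2 ^ k := orderOf_dvd_of_pow_eq_one (congrArg Subtype.val hk)
  exact orderOf_eq_one_iff.1 (Nat.eq_one_of_dvd_coprimes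
    ((Nat.coprime_two_left.2 ho).pow_left k) h1 dvd_rfl)

theorem mem_of_odd_two_pow {C : Subgroup G} {x : G} (ho : Odd (orderOf x)) {j : ℕ}
    (hj : x ^ 2 ^ j ∈ C) : x ∈ C :=
  mem_of_coprime_pow ((Nat.coprime_two_left.2 ho).pow_left j) hj
    (by rw [pow_orderOf_eq_one]; exact one_mem C)

theorem odd_of_mem {W : Subgroup G} (hW : ¬ 2 ∣ Nat.card W) {x : G} (hx : x ∈ W) :
    Odd (orderOf x) :=
  (Nat.not_even_iff_odd.1 fun he => hW he.two_dvd).of_dvd_nat (Subgroup.orderOf_dvd_natCard _ hx)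

theorem isPGroup_zpowers_inv_conj {u g : G} (hu : u * u = 1) :
    IsPGroup 2 (Subgroup.zpowers (g * u * g⁻¹)) :=
  isPGroup_zpowers_of_sq (by rw [show g * u * g⁻¹ * (g * u * g⁻¹) = g * (u * u) * g⁻¹ by group, hu]; group)

theorem conj_cent {u g c : G} (hc : c ∈ Subgroup.centralizer ({u} : Set G)) :
    g * c * g⁻¹ ∈ Subgroup.centralizer ({g * u * g⁻¹} : Set G) := by
  have h := Subgroup.mem_centralizer_singleton_iff.1 hc
  refine Subgroup.mem_centralizer_singleton_iff.2 ?_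
  rw [show g * c * g⁻¹ * (g * u * g⁻¹) = g * (c * u) * g⁻¹ by group, h]
  group

end General

universe u v

namespace Chart

variable {G : Type u} [Group G] [Finite G] {S : Sylow 2 G} {F : Type v} [Field F] [Fintype F]
variable (h : Chart F (S : Subgroup G))
include h

/-- The hypotheses of the mixed case give an element of `N(A)` moving every involution of `Z`
out of `Z`. -/
theorem exists_move (hA : ¬ h.FixZ ⊤) : ∃ y ∈ Subgroup.normalizer (h.A : Set G),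
    ∀ z ∈ h.Z, z ≠ 1 → y * z * y⁻¹ ∉ h.Z := by
  rw [FixZ] at hA
  push Not at hA
  obtain ⟨y, -, hy, z₀, hz₀, hout⟩ := hA
  refine ⟨y, hy, fun z hz hz1 hin => hout ?_⟩
  exact conj_mem_of_normalizer (h.normalizer_Z_of_mem hy hz hz1 hin) hz₀

/-- All involutions of `A` are conjugate under `N(A)`. -/
theorem fus_A (hA : ¬ h.FixZ ⊤) {a a' : G} (ha : a ∈ h.A) (ha1 : a ≠ 1) (ha' : a' ∈ h.A)
    (ha'1 : a' ≠ 1) : ∃ n ∈ Subgroup.normalizer (h.A : Set G), n * a * n⁻¹ = a' := by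
  obtain ⟨y, hy, hmove⟩ := h.exists_move hA
  set N := Subgroup.normalizer (h.A : Set G) with hN
  let R : G → G → Prop := fun u v => ∃ n ∈ N, n * u * n⁻¹ = v
  have hsymm : ∀ u v, R u v → R v u := by
    rintro u v ⟨n, hn, rfl⟩
    exact ⟨n⁻¹, inv_mem hn, by group⟩
  have htrans : ∀ u v w, R u v → R v w → R u w := by
    rintro u v w ⟨n, hn, rfl⟩ ⟨m, hm, rfl⟩
    exact ⟨m * n, mul_mem hm hn, by group⟩
  have hK : ∀ β γ γ' : F, β ≠ 0 → R (h.μ 0 β γ) (h.μ 0 β γ') := fun β γ γ' hβ =>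
    ⟨h.μ ((γ + γ') / β) 0 0, h.S_le_normalizer_A (h.mem' _ _ _), by
      rw [h.conj]
      congr 1
      rw [div_mul_cancel₀ _ hβ]
      linear_combination h.two γ⟩
  have hyA : ∀ c : F, ∃ φ ψ : F, y * h.μ 0 0 c * y⁻¹ = h.μ 0 φ ψ := fun c => by
    obtain ⟨b, c', e⟩ := conj_mem_of_normalizer hy (show h.μ 0 0 c ∈ h.A from ⟨0, c, rfl⟩)
    exact ⟨b, c', e.symm⟩
  choose φ ψ hφ using hyA
  have hφ0 : ∀ c, c ≠ 0 → φ c ≠ 0 := by
    intro c hc e
    refine hmove _ (h.mem_Z.2 ⟨c, rfl⟩) (fun e1 => hc (h.eq_one_iff.1 e1).2.2) ?_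
    rw [hφ c, e]
    exact h.mem_Z.2 ⟨_, rfl⟩
  have hφinj : Function.Injective φ := by
    intro c c' e
    by_contra hne
    refine hφ0 (c + c') (fun e0 => hne (by rw [eq_neg_of_add_eq_zero_left e0, h.neg_eq])) ?_
    have e2 : y * h.μ 0 0 (c + c') * y⁻¹ = (y * h.μ 0 0 c * y⁻¹) * (y * h.μ 0 0 c' * y⁻¹) := by
      rw [conj_mul, h.mul]; simp
    rw [hφ, hφ, hφ, h.mul, e] at e2
    rw [(h.inj _ _ _ _ _ _ e2).2.1, h.two]
  have hφsurj : Function.Surjective φ := Finite.surjective_of_injective hφinj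
  have h11 : ∀ β β' : F, β ≠ 0 → β' ≠ 0 → R (h.μ 0 β 0) (h.μ 0 β' 0) := by
    intro β β' hβ hβ'
    obtain ⟨β₁, γ₁, e₁⟩ := conj_mem_of_normalizer hy (show h.μ 0 β 0 ∈ h.A from ⟨β, 0, rfl⟩)
    obtain ⟨c, hc⟩ := hφsurj (β₁ + β')
    have e : y * h.μ 0 β c * y⁻¹ = h.μ 0 β' (γ₁ + ψ c + 0 * φ c) := by
      rw [show h.μ 0 β c = h.μ 0 β 0 * h.μ 0 0 c by rw [h.mul]; simp, ← conj_mul, ← e₁, hφ, h.mul,
        hc, ← add_assoc]
      simp [h.two]
    exact htrans _ _ _ (hK β 0 c hβ) (htrans _ _ _ ⟨y, hy, e⟩ (hK β' _ 0 hβ'))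
  have hall : ∀ u ∈ h.A, u ≠ 1 → R u (h.μ 0 1 0) := by
    rintro _ ⟨β, γ, rfl⟩ hu
    by_cases hβ : β = 0
    · subst hβ
      have hγ : γ ≠ 0 := fun e => hu (h.eq_one_iff.2 ⟨rfl, rfl, e⟩)
      exact htrans _ _ _ ⟨y, hy, hφ γ⟩
        (htrans _ _ _ (hK _ _ 0 (hφ0 γ hγ)) (h11 _ _ (hφ0 γ hγ) one_ne_zero))
    · exact htrans _ _ _ (hK β γ 0 hβ) (h11 β 1 hβ one_ne_zero)
  exact htrans _ _ _ (hall a ha ha1) (hsymm _ _ (hall a' ha' ha'1))

theorem orderOf_A {a : G} (ha : a ∈ h.A) (ha1 : a ≠ 1) : orderOf a = 2 :=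
  h.orderOf_of_mem (h.A_sq ha) ha1

/-- Elements of `S` are products of involutions. -/
theorem S_le_closure : (S : Subgroup G) ≤ Subgroup.closure {x : G | x ^ 2 = 1} := by
  intro x hx
  obtain ⟨a, b, c, rfl⟩ := (h.mem x).1 hx
  rw [show h.μ a b c = h.μ a 0 0 * h.μ 0 b (c + a * b) by
    rw [h.mul, add_zero, zero_add, zero_add, add_assoc, h.two, add_zero]]
  refine mul_mem (Subgroup.subset_closure ?_) (Subgroup.subset_closure ?_)
  · show _ ^ 2 = 1
    rw [pow_two, h.sq_eq_one_iff]; exact Or.inr rfl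
  · show _ ^ 2 = 1
    rw [pow_two, h.sq_eq_one_iff]; exact Or.inl rfl

theorem elementary_A : IsElementaryAbelian 2 h.A :=
  ⟨⟨⟨fun a b => Subtype.ext (h.A_comm a.2 b.2)⟩⟩, fun a ha => by rw [pow_two]; exact h.A_sq ha⟩

theorem elementary_B : IsElementaryAbelian 2 h.B :=
  ⟨⟨⟨fun a b => Subtype.ext (h.B_comm a.2 b.2)⟩⟩, fun a ha => by rw [pow_two]; exact h.B_sq ha⟩

theorem elementary_Z : IsElementaryAbelian 2 h.Z :=
  SignalizerCoprime.elementaryAbelian_of_le h.elementary_A h.Z_le_A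

theorem not_A_of_B {x : G} (hx : x ∈ h.B) (hxZ : x ∉ h.Z) : x ∉ h.A := fun hA => hxZ ⟨hA, hx⟩

theorem ne_one_of_B {x : G} (hxZ : x ∉ h.Z) : x ≠ 1 := fun e => hxZ (e ▸ one_mem _)

/-- An element of `C(z)` sending an element of `Z` into `Z` fixes it. -/
theorem fix_Z {z c w : G} (hz : z ∈ h.Z) (hz1 : z ≠ 1) (hc : c ∈ Subgroup.centralizer ({z} : Set G))
    (hw : w ∈ h.Z) (hcw : c * w * c⁻¹ ∈ h.Z) : c * w * c⁻¹ = w := by
  have hm := (h.centralizer_split hz hz1 hc).2 w hw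
  have hmZ : w⁻¹ * (c * w * c⁻¹) ∈ h.Z := mul_mem (inv_mem hw) hcw
  have := eq_one_of_odd_of_two h.isPGroup_Z hmZ
    (odd_of_mem (SignalizerBasic.not_dvd_card_centralizerPPrimeCore 2 z) hm)
  exact (inv_mul_eq_one.1 this).symm

/-- `C(z)` is solvable. -/
theorem solvable_cent_mixed {z : G} (hz : z ∈ h.Z) (hz1 : z ≠ 1) :
    Group.IsSolvable ↥(Subgroup.centralizer ({z} : Set G)) := by
  set C := Subgroup.centralizer ({z} : Set G) with hC
  set N := Subgroup.normalizer ((S : Subgroup G) : Set G) with hN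
  haveI : (pPrimeCore 2 C).Normal := HallCore.pPrimeCore_normal 2 _
  haveI := solvable_normalizer_sylow (G := G) S
  refine AEightThreeGen62.solvable_of_mul (M := pPrimeCore 2 C) (C := N.subgroupOf C)
    (AEightThreeGen62.solvable_of_odd_card _
      (Nat.coprime_two_right.1 (HallCore.coprime_card_pPrimeCore 2 _))) ?_ fun g => ?_
  · exact solvable_of_solvable_injective
      (f := (C.subtype.comp (N.subgroupOf C).subtype).codRestrict N fun x => x.2)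
      fun x y e => Subtype.ext (Subtype.ext (congrArg (fun q : N => (q : G)) e :))
  · obtain ⟨o, ⟨o', ho', rfl⟩, m, hm, hmC, e⟩ := (h.centralizer_split hz hz1 g.2).1
    exact ⟨o', ho', ⟨m, hmC⟩, hm, Subtype.ext e⟩

/-- An element of `N(S) ∩ C(z)` acting trivially on `S/Z` is a `2`-element modulo the odd core. -/
theorem two_pow_core {z m : G} (hz : z ∈ h.Z) (hz1 : z ≠ 1)
    (hm : m ∈ Subgroup.normalizer ((S : Subgroup G) : Set G))
    (hmz : m ∈ Subgroup.centralizer ({z} : Set G))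
    (htriv : ∀ v ∈ (S : Subgroup G), v⁻¹ * (m * v * m⁻¹) ∈ h.Z) :
    ∃ j : ℕ, m ^ 2 ^ j ∈ centralizerPPrimeCore 2 z := by
  set C := Subgroup.centralizer ({z} : Set G) with hC
  have hSC : (S : Subgroup G) ≤ C := h.S_le_cent hz
  haveI : (pPrimeCore 2 C).Normal := HallCore.pPrimeCore_normal 2 _
  haveI : Group.IsSolvable C := h.solvable_cent_mixed hz hz1
  set π := QuotientGroup.mk' (pPrimeCore 2 C) with hπ
  set m' : C := ⟨m, hmz⟩ with hm'
  have hm2 : ∀ v ∈ (S : Subgroup G), m ^ 2 * v = v * m ^ 2 := by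
    intro v hv
    set d := v⁻¹ * (m * v * m⁻¹) with hd
    have e1 : m * v * m⁻¹ = v * d := by rw [hd, mul_inv_cancel_left]
    have e2 : m * d * m⁻¹ = d := by
      rw [h.centralizes_Z hz hz1 hm hmz (htriv v hv), mul_inv_cancel_right]
    have e3 : m ^ 2 * v * (m ^ 2)⁻¹ = v := by
      calc m ^ 2 * v * (m ^ 2)⁻¹ = m * (m * v * m⁻¹) * m⁻¹ := by
            rw [pow_two, mul_inv_rev]; simp only [mul_assoc]
        _ = m * v * m⁻¹ * (m * d * m⁻¹) := by rw [conj_mul, e1]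
        _ = v := by rw [e1, e2, mul_assoc, h.Z_sq (htriv v hv), mul_one]
    exact mul_inv_eq_iff_eq_mul.1 e3
  have hcent : π m' ^ 2 ∈ Subgroup.centralizer (pCore 2 (C ⧸ pPrimeCore 2 C) : Set _) := by
    rw [Subgroup.mem_centralizer_iff]
    intro f hf
    have hle := HallCore.pCore_le_sylow
      ((S.subtype hSC).mapSurjective (QuotientGroup.mk'_surjective (pPrimeCore 2 C))) hf
    rw [Sylow.coe_mapSurjective] at hle
    obtain ⟨s, hs, rfl⟩ := hle
    rw [← map_pow, ← map_mul, ← map_mul]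
    exact congrArg π (Subtype.ext (hm2 s (Subgroup.mem_subgroupOf.1 hs)).symm)
  have hin := HallSolvable.centralizer_pCore_le
    (HallSolvable.isPSolvable_quotient (HallSolvable.isPSolvable_of_solvable 2) (pPrimeCore 2 C))
    (HallCore.pPrimeCore_quotient_self 2 C) hcent
  obtain ⟨j, hj⟩ := HallCore.isPGroup_pCore 2 (C ⧸ pPrimeCore 2 C) ⟨_, hin⟩
  refine ⟨j + 1, ⟨m' ^ 2 ^ (j + 1), ?_, rfl⟩⟩
  refine (QuotientGroup.eq_one_iff _).1 ?_
  show π (m' ^ 2 ^ (j + 1)) = 1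
  rw [map_pow, pow_succ', pow_mul]
  exact congrArg Subtype.val hj

/-- An element of odd order centralising `z` and a noncentral element of `B` lies in `O(C(z))`. -/
theorem odd_mem_core {z b n : G} (hz : z ∈ h.Z) (hz1 : z ≠ 1) (hb : b ∈ h.B) (hbZ : b ∉ h.Z)
    (hn : n ∈ Subgroup.centralizer ({z} : Set G)) (hnb : n * b = b * n) (ho : Odd (orderOf n)) :
    n ∈ centralizerPPrimeCore 2 z := by
  obtain ⟨o, ho', m, hm, hmz, rfl⟩ := (h.centralizer_split hz hz1 hn).1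
  obtain ⟨u, hu, hact⟩ := h.torus_central hm fun w hw => h.centralizes_Z hz hz1 hm hmz hw
  have hmb : m * b * m⁻¹ = b := by
    have hS' : m * b * m⁻¹ ∈ (S : Subgroup G) := conj_mem_of_normalizer hm (h.B_le hb)
    have e : m * b * m⁻¹ = o⁻¹ * b * o := by
      calc m * b * m⁻¹ = o⁻¹ * (o * m * b) * m⁻¹ := by group
        _ = o⁻¹ * (b * (o * m)) * m⁻¹ := by rw [hnb]
        _ = _ := by group
    have hcore : b⁻¹ * (m * b * m⁻¹) ∈ centralizerPPrimeCore 2 z := by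
      rw [e, show b⁻¹ * (o⁻¹ * b * o) = (b⁻¹ * o⁻¹ * b⁻¹⁻¹) * o by group]
      refine mul_mem (SignalizerCoprime.mem_normalizer_conj
        (SignalizerBasic.centralizer_le_normalizer_centralizerPPrimeCore 2 z ?_) (inv_mem ho')) ho'
      exact inv_mem (h.S_le_cent hz (h.B_le hb))
    exact (inv_mul_eq_one.1 (eq_one_of_odd_of_two S.2 (mul_mem (inv_mem (h.B_le hb)) hS')
      (odd_of_mem (SignalizerBasic.not_dvd_card_centralizerPPrimeCore 2 z) hcore))).symm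
  obtain ⟨p, q, rfl⟩ := hb
  have hp : p ≠ 0 := fun e => hbZ (h.mem_Z.2 ⟨q, by rw [e]⟩)
  obtain ⟨c', e⟩ := hact p 0 q
  rw [hmb] at e
  have hu1 : u = 1 := mul_right_cancel₀ hp ((h.inj _ _ _ _ _ _ e).1.symm.trans (one_mul p).symm)
  obtain ⟨j, hj⟩ := h.two_pow_core hz hz1 hm hmz fun v hv => by
    obtain ⟨a, b, c, rfl⟩ := (h.mem v).1 hv
    obtain ⟨c', e⟩ := hact a b c
    rw [e, hu1, inv_one, one_mul, one_mul, h.inv, h.mul, h.two, h.two]
    exact h.mem_Z.2 ⟨_, rfl⟩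
  refine mem_of_odd_two_pow ho (j := j) ?_
  -- modulo the odd core, `o * m` is `m`
  obtain ⟨o₁, ho₁, rfl⟩ := ho'
  obtain ⟨mj, hmj, hmje⟩ := hj
  haveI : (pPrimeCore 2 (Subgroup.centralizer ({z} : Set G))).Normal := HallCore.pPrimeCore_normal 2 _
  refine ⟨(o₁ * ⟨m, hmz⟩) ^ 2 ^ j, ?_, by simp⟩
  refine (QuotientGroup.eq_one_iff _).1 ?_
  show QuotientGroup.mk' _ ((o₁ * ⟨m, hmz⟩) ^ 2 ^ j) = 1
  rw [map_pow, map_mul, show QuotientGroup.mk' _ o₁ = 1 from (QuotientGroup.eq_one_iff _).2 ho₁,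
    one_mul, ← map_pow]
  refine (QuotientGroup.eq_one_iff _).2 ?_
  rwa [show (⟨m, hmz⟩ : Subgroup.centralizer ({z} : Set G)) ^ 2 ^ j = mj from
    Subtype.ext (by simpa using hmje.symm)]

/-- The subgroup generated by the odd cores of the centralisers of the involutions of `A`. -/
def coreW : Subgroup G :=
  ⨆ a : {a : G // a ∈ h.A ∧ a ≠ 1}, centralizerPPrimeCore 2 (a : G)

/-- `coreW ⊔ N(A)`. -/
def hub : Subgroup G := h.coreW ⊔ Subgroup.normalizer (h.A : Set G)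

theorem core_le_coreW {a : G} (ha : a ∈ h.A) (ha1 : a ≠ 1) :
    centralizerPPrimeCore 2 a ≤ h.coreW :=
  le_iSup (fun a : {a : G // a ∈ h.A ∧ a ≠ 1} => centralizerPPrimeCore 2 (a : G)) ⟨a, ha, ha1⟩

theorem NA_le_normalizer_coreW :
    Subgroup.normalizer (h.A : Set G) ≤ Subgroup.normalizer (h.coreW : Set G) := by
  refine SignalizerCoprime.le_normalizer_of_forall fun n hn x hx => ?_
  have h1 : h.coreW ≤ h.coreW.comap (MulAut.conj n).toMonoidHom := by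
    refine iSup_le fun a => ?_
    intro o ho
    refine Subgroup.mem_iSup_of_mem
      ⟨n * a * n⁻¹, conj_mem_of_normalizer hn a.2.1, fun e => a.2.2 (conj_eq_one_iff.1 e)⟩ ?_
    rw [SFTApps.centralizerPPrimeCore_conj (p := 2) (a : G) n]
    exact ⟨o, ho, rfl⟩
  exact h1 hx

theorem hub_le_normalizer_coreW : h.hub ≤ Subgroup.normalizer (h.coreW : Set G) :=
  sup_le Subgroup.le_normalizer h.NA_le_normalizer_coreW

theorem NA_le_hub : Subgroup.normalizer (h.A : Set G) ≤ h.hub := le_sup_right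

theorem S_le_hub : (S : Subgroup G) ≤ h.hub := h.S_le_normalizer_A.trans h.NA_le_hub

theorem mem_hub {g : G} (hg : g ∈ h.hub) :
    ∃ w ∈ h.coreW, ∃ n ∈ Subgroup.normalizer (h.A : Set G), g = w * n := by
  have hg' : g ∈ (↑(h.coreW ⊔ Subgroup.normalizer (h.A : Set G)) : Set G) := hg
  rw [Subgroup.coe_mul_of_right_le_normalizer_left _ _ h.NA_le_normalizer_coreW] at hg'
  obtain ⟨w, hw, n, hn, e⟩ := Set.mem_mul.1 hg'
  exact ⟨w, hw, n, hn, e.symm⟩

theorem cent_Z_le_hub {z : G} (hz : z ∈ h.Z) (hz1 : z ≠ 1) :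
    Subgroup.centralizer ({z} : Set G) ≤ h.hub := by
  intro c hc
  obtain ⟨o, ho, n, hn, -, rfl⟩ := (h.centralizer_split hz hz1 hc).1
  exact mul_mem (Subgroup.mem_sup_left (h.core_le_coreW (h.Z_le_A hz) hz1 ho))
    (h.NA_le_hub (h.normalizer_S_le_A hn))

section HA

variable (hA : ¬ h.FixZ ⊤)
include hA

theorem cent_A_le_hub {a : G} (ha : a ∈ h.A) (ha1 : a ≠ 1) :
    Subgroup.centralizer ({a} : Set G) ≤ h.hub := by
  obtain ⟨z, hz, hz1, -⟩ := h.exists_other 1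
  obtain ⟨n, hn, rfl⟩ := h.fus_A hA (h.Z_le_A hz) hz1 ha ha1
  intro c hc
  have h1 : n⁻¹ * c * n⁻¹⁻¹ ∈ Subgroup.centralizer ({n⁻¹ * (n * z * n⁻¹) * n⁻¹⁻¹} : Set G) :=
    conj_cent hc
  rw [show n⁻¹ * (n * z * n⁻¹) * n⁻¹⁻¹ = z by group] at h1
  have h2 := mul_mem (mul_mem (h.NA_le_hub hn) (h.cent_Z_le_hub hz hz1 h1))
    (inv_mem (h.NA_le_hub hn))
  rwa [show n * (n⁻¹ * c * n⁻¹⁻¹) * n⁻¹ = c by group] at h2

theorem solvable_cent_A_mixed {a : G} (ha : a ∈ h.A) (ha1 : a ≠ 1) :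
    Group.IsSolvable ↥(Subgroup.centralizer ({a} : Set G)) := by
  obtain ⟨z, hz, hz1, -⟩ := h.exists_other 1
  obtain ⟨n, hn, rfl⟩ := h.fus_A hA (h.Z_le_A hz) hz1 ha ha1
  haveI hsz := h.solvable_cent_mixed hz hz1
  refine AEightThreeGen62.solvable_of_le (K := (Subgroup.centralizer ({z} : Set G)).map
    (MulAut.conj n).toMonoidHom) ?_ ?_
  · intro c hc
    refine mem_map_conj.2 ?_
    have := conj_cent (g := n⁻¹) hc
    rwa [inv_inv, show n⁻¹ * (n * z * n⁻¹) * n = z by group] at this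
  · exact solvable_of_surjective (f := (MulAut.conj n).toMonoidHom.subgroupMap _)
      (MonoidHom.subgroupMap_surjective _ _)

theorem coreW_odd : ¬ 2 ∣ Nat.card h.coreW := by
  have hA4 : 2 ^ 2 ≤ Nat.card h.A := by rw [h.card_A]; norm_num
  obtain ⟨⟨hθC, hθp, hθinv, hbal⟩, hθsol⟩ :=
    S1279.result 2 h.A h.elementary_A hA4 fun a ha ha1 => h.solvable_cent_A_mixed hA ha ha1
  exact (S0217.result h.A (fun a ha b hb => h.A_comm ha hb) h.elementary_A.2
    (by rw [h.card_A]; norm_num) (fun a => centralizerPPrimeCore 2 a) hθC hθp hθinv hθsol hbal).1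

/-- An element of `coreW` normalising `A` centralises it. -/
theorem coreW_inter_NA {w a : G} (hw : w ∈ h.coreW)
    (hwn : w ∈ Subgroup.normalizer (h.A : Set G)) (ha : a ∈ h.A) : w * a * w⁻¹ = a := by
  have h1 : w * a * w⁻¹ * a⁻¹ ∈ h.A := mul_mem (conj_mem_of_normalizer hwn ha) (inv_mem ha)
  have h2 : w * a * w⁻¹ * a⁻¹ ∈ h.coreW := by
    rw [show w * a * w⁻¹ * a⁻¹ = w * (a * w⁻¹ * a⁻¹) by group]
    exact mul_mem hw (SignalizerCoprime.mem_normalizer_conj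
      (h.NA_le_normalizer_coreW (h.S_le_normalizer_A (h.A_le ha))) (inv_mem hw))
  exact mul_inv_eq_one.1 (eq_one_of_odd_of_two h.isPGroup_A h1 (odd_of_mem (h.coreW_odd hA) h2))

end HA

section HB

variable (hB : h.swap.FixZ ⊤)
include hB

theorem NB_fix_Z {g z : G} (hg : g ∈ Subgroup.normalizer (h.B : Set G)) (hz : z ∈ h.Z) :
    g * z * g⁻¹ ∈ h.Z := by
  rw [← h.swap_Z] at hz ⊢
  rw [← h.swap_A] at hg
  exact hB g (Subgroup.mem_top g) hg z hz

theorem NB_fix_notZ {g x : G} (hg : g ∈ Subgroup.normalizer (h.B : Set G)) (hxZ : x ∉ h.Z) :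
    g * x * g⁻¹ ∉ h.Z := fun hz => hxZ (by
  have := h.NB_fix_Z hB (inv_mem hg) hz
  rwa [show g⁻¹ * (g * x * g⁻¹) * g⁻¹⁻¹ = x by group] at this)

theorem closedA {a g : G} (ha : a ∈ h.A) (hg : g * a * g⁻¹ ∈ (S : Subgroup G)) :
    g * a * g⁻¹ ∈ h.A :=
  h.closed_A le_top hB ha (Subgroup.mem_top g) hg

/-- No element of `B ∖ Z` is conjugate into `A`. -/
theorem not_conj_A {x g : G} (hx : x ∈ h.B) (hxZ : x ∉ h.Z) : g * x * g⁻¹ ∉ h.A := by
  intro hin
  have := h.closedA hB hin (g := g⁻¹) (by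
    rw [show g⁻¹ * (g * x * g⁻¹) * g⁻¹⁻¹ = x by group]
    exact h.B_le hx)
  rw [show g⁻¹ * (g * x * g⁻¹) * g⁻¹⁻¹ = x by group] at this
  exact h.not_A_of_B hx hxZ this

/-- A `2`-subgroup of `C(x)` containing `B` is `B`. -/
theorem two_le_B {x : G} (hx : x ∈ h.B) (hxZ : x ∉ h.Z) {Q : Subgroup G} (hQ : IsPGroup 2 Q)
    (hQC : Q ≤ Subgroup.centralizer ({x} : Set G)) (hBQ : h.B ≤ Q) : Q ≤ h.B := by
  obtain ⟨k, -, hk⟩ := conj_into S (H := ⊤) le_top le_top hQ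
  have hkB := h.conj_B_mem_normalizer fun b hb => hk b (hBQ hb)
  intro q hq
  have hkx : k * x * k⁻¹ ∈ h.B := conj_mem_of_normalizer hkB hx
  have hc : (k * q * k⁻¹) * (k * x * k⁻¹) = (k * x * k⁻¹) * (k * q * k⁻¹) := by
    rw [conj_mul, conj_mul, Subgroup.mem_centralizer_singleton_iff.1 (hQC hq)]
  have := h.swap.mem_A_of_comm (hk q hq) (by rwa [h.swap_A])
    (by rw [h.swap_Z]; exact h.NB_fix_notZ hB hkB hxZ) hc
  rw [h.swap_A] at this
  simpa [mul_assoc] using conj'_mem_of_normalizer hkB this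

/-- `B` is a Sylow `2`-subgroup of `C(x)`. -/
theorem exists_sylow_B {x : G} (hx : x ∈ h.B) (hxZ : x ∉ h.Z) {K : Subgroup G}
    (hBK : h.B ≤ K) (hK : K ≤ Subgroup.centralizer ({x} : Set G)) :
    ∃ P : Sylow 2 K, (P : Subgroup K) = h.B.subgroupOf K :=
  exists_sylow_eq hBK h.isPGroup_B fun T hT hT2 hBT =>
    Subgroup.card_le_of_le (h.two_le_B hB hx hxZ hT2 (hT.trans hK) hBT)

/-- A `2`-subgroup of `K ≤ C(x)` is moved into `B` inside `K`. -/
theorem conj_into_B {x : G} (hx : x ∈ h.B) (hxZ : x ∉ h.Z) {K : Subgroup G}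
    (hBK : h.B ≤ K) (hK : K ≤ Subgroup.centralizer ({x} : Set G)) {Q : Subgroup G} (hQK : Q ≤ K)
    (hQ : IsPGroup 2 Q) : ∃ k ∈ K, ∀ q ∈ Q, k * q * k⁻¹ ∈ h.B := by
  obtain ⟨P, hP⟩ := h.exists_sylow_B hB hx hxZ hBK hK
  obtain ⟨T, hT⟩ := (hQ.comap_of_injective K.subtype Subtype.val_injective).exists_le_sylow
  obtain ⟨k, hk⟩ := MulAction.exists_smul_eq K T P
  refine ⟨k, k.2, fun q hq => ?_⟩
  have hmem : k * ⟨q, hQK hq⟩ * k⁻¹ ∈ (P : Subgroup K) := by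
    rw [← hk, Sylow.coe_subgroup_smul]
    exact ⟨⟨q, hQK hq⟩, hT (show (⟨q, hQK hq⟩ : K) ∈ Q.comap K.subtype from hq), by simp⟩
  rw [hP] at hmem
  simpa [Subgroup.mem_subgroupOf] using hmem

theorem B_le_cent {x : G} (hx : x ∈ h.B) : h.B ≤ Subgroup.centralizer ({x} : Set G) := fun _ hy =>
  Subgroup.mem_centralizer_singleton_iff.2 (h.B_comm hy hx)

/-- Fusion in `B` inside `C(x)` is controlled by the normaliser of `B`. -/
theorem fusion_B {x u c : G} (hx : x ∈ h.B) (hxZ : x ∉ h.Z) (hu : u ∈ h.B)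
    (hc : c ∈ Subgroup.centralizer ({x} : Set G)) (hv : c * u * c⁻¹ ∈ h.B) :
    ∃ n ∈ Subgroup.centralizer ({x} : Set G), n ∈ Subgroup.normalizer (h.B : Set G) ∧
      n * u * n⁻¹ = c * u * c⁻¹ := by
  obtain ⟨k, hk, hkB⟩ := h.conj_into_B hB hx hxZ
    (K := Subgroup.centralizer ({x} : Set G) ⊓ Subgroup.centralizer ({c * u * c⁻¹} : Set G))
    (le_inf (h.B_le_cent hB hx) (h.B_le_cent hB hv)) inf_le_left
    (Q := h.B.map (MulAut.conj c).toMonoidHom) (by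
      rintro _ ⟨y, hy, rfl⟩
      simp only [MulEquiv.coe_toMonoidHom, MulAut.conj_apply]
      exact Subgroup.mem_inf.2 ⟨mul_mem (mul_mem hc (h.B_le_cent hB hx hy)) (inv_mem hc),
        conj_cent (h.B_le_cent hB hu hy)⟩)
    (h.isPGroup_B.map _)
  refine ⟨k * c, mul_mem hk.1 hc, mem_normalizer_of_forall fun y hy => ?_, ?_⟩
  · simpa [mul_assoc] using hkB _ (conj_mem_map c hy)
  · rw [show k * c * u * (k * c)⁻¹ = k * (c * u * c⁻¹) * k⁻¹ by group,
      Subgroup.mem_centralizer_singleton_iff.1 hk.2, mul_inv_cancel_right]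

end HB

section Both

variable (hA : ¬ h.FixZ ⊤) (hB : h.swap.FixZ ⊤)
include hA hB

/-- An element carrying an involution of `A` into `hub` lies in `hub`. -/
theorem mem_hub_of_conj {a g : G} (ha : a ∈ h.A) (ha1 : a ≠ 1) (hg : g * a * g⁻¹ ∈ h.hub) :
    g ∈ h.hub := by
  obtain ⟨k, hk, hkS⟩ := conj_into S h.S_le_hub (Subgroup.zpowers_le.2 hg)
    (isPGroup_zpowers_inv_conj (h.A_sq ha))
  have h1 : k * g * a * (k * g)⁻¹ ∈ (S : Subgroup G) := by
    simpa [mul_assoc] using hkS _ (Subgroup.mem_zpowers _)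
  have h2 := h.closedA hB ha h1
  obtain ⟨n, hn, e⟩ := h.fus_A hA ha ha1 h2 fun e => ha1 (conj_eq_one_iff.1 e)
  have h3 : n⁻¹ * (k * g) ∈ Subgroup.centralizer ({a} : Set G) := by
    rw [Subgroup.mem_centralizer_singleton_iff, ← mul_inv_eq_iff_eq_mul]
    calc n⁻¹ * (k * g) * a * (n⁻¹ * (k * g))⁻¹ = n⁻¹ * (k * g * a * (k * g)⁻¹) * n := by group
      _ = n⁻¹ * (n * a * n⁻¹) * n := by rw [e]
      _ = a := by group
  have h4 := mul_mem (inv_mem hk) (mul_mem (h.NA_le_hub hn) (h.cent_A_le_hub hA ha ha1 h3))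
  rwa [mul_inv_cancel_left, inv_mul_cancel_left] at h4

/-- An element normalising `Z` lies in `hub`. -/
theorem mem_hub_of_Z {g z : G} (hz : z ∈ h.Z) (hz1 : z ≠ 1) (hg : g * z * g⁻¹ ∈ h.Z) :
    g ∈ h.hub :=
  h.mem_hub_of_conj hA hB (h.Z_le_A hz) hz1 (h.S_le_hub (h.Z_le hg))

theorem NB_le_hub : Subgroup.normalizer (h.B : Set G) ≤ h.hub := fun g hg => by
  obtain ⟨z, hz, hz1, -⟩ := h.exists_other 1
  exact h.mem_hub_of_Z hA hB hz hz1 (h.NB_fix_Z hB hg hz)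

/-- Conjugate elements of `B ∖ Z` are conjugate in `hub`, modulo the centraliser. -/
theorem fusion_hub {x g : G} (hx : x ∈ h.B) (hxZ : x ∉ h.Z) (hy : g * x * g⁻¹ ∈ h.B) :
    ∃ c ∈ Subgroup.centralizer ({g * x * g⁻¹} : Set G), c * g ∈ h.hub := by
  obtain ⟨k, hk, hkB⟩ := h.conj_into_B hB hy (fun hz => h.not_conj_A hB hx hxZ (h.Z_le_A hz))
    (h.B_le_cent hB hy) le_rfl (Q := h.B.map (MulAut.conj g).toMonoidHom) (by
      rintro _ ⟨y, hy', rfl⟩
      simp only [MulEquiv.coe_toMonoidHom, MulAut.conj_apply]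
      exact conj_cent (h.B_le_cent hB hx hy'))
    (h.isPGroup_B.map _)
  refine ⟨k, hk, h.NB_le_hub hA hB (mem_normalizer_of_forall fun y hy => ?_)⟩
  simpa [mul_assoc] using hkB _ (conj_mem_map g hy)

/-- The odd core of `C(x)` lies in `hub`. -/
theorem core_le_hub {x : G} (hx : x ∈ h.B) :
    centralizerPPrimeCore 2 x ≤ h.hub := by
  refine SignalizerCoprime.le_of_centralizers_le (p := 2) h.elementary_Z
    (by rw [h.card_Z]; norm_num)
    ((h.Z_le_B.trans (h.B_le_cent hB hx)).trans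
      (SignalizerBasic.centralizer_le_normalizer_centralizerPPrimeCore 2 x))
    (SignalizerBasic.not_dvd_card_centralizerPPrimeCore 2 x) fun w hw hw1 => ?_
  exact inf_le_right.trans (h.cent_Z_le_hub hw hw1)

end Both

end Chart

end Cfsg.Agent.L34Syl83
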