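import Mathlib
import Cfsg.Agent.Lib.L34Syl83Klein
import Cfsg.Agent.Lib.L34Syl83Kernel62
import Cfsg.Agent.Lib.L34Syl83MixedLoc68

/-!
# A transitive action of a group with Klein four Sylow subgroup

If every involution fixes exactly one point and a point stabiliser is an odd group extended by the
normaliser of the Sylow subgroup, the degree is five.
-/

set_option autoImplicit false
set_option linter.unusedSectionVars false

namespace Cfsg.Agent.L34Syl83Klein

open L34Syl83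

universe u v

/-- A permutation commuting with an involution of five points fixing only one point has order
dividing four. -/
theorem perm_five {α : Type v} [Finite α] (h5 : Nat.card α = 5) {σ τ : Equiv.Perm α} {q₀ : α}
    (hτ : τ * τ = 1) (hfix : ∀ q, τ q = q ↔ q = q₀) (hc : σ * τ = τ * σ) : σ ^ 4 = 1 := by
  classical
  haveI := Fintype.ofFinite α
  have hτ2 : ∀ q, τ (τ q) = q := fun q => by
    have := congrArg (fun p : Equiv.Perm α => p q) hτ
    simpa using this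
  have hcomm : ∀ q, σ (τ q) = τ (σ q) := fun q => by
    have := congrArg (fun p : Equiv.Perm α => p q) hc
    simpa using this
  have hσ0 : σ q₀ = q₀ := (hfix _).1 (by rw [← hcomm, (hfix q₀).2 rfl])
  have hne : ∀ q, q ≠ q₀ → τ q ≠ q := fun q hq e => hq ((hfix q).1 e)
  have hs4 : ∀ q, (σ ^ 4) q = σ (σ (σ (σ q))) := fun q => by
    rw [pow_succ, pow_succ, pow_two]; rfl
  refine Equiv.ext fun x => ?_
  rw [hs4, Equiv.Perm.one_apply]
  by_cases hx0 : x = q₀
  · subst hx0; rw [hσ0, hσ0, hσ0, hσ0]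
  by_cases h1 : σ x = x
  · rw [h1, h1, h1, h1]
  by_cases h2 : σ x = τ x
  · have e : σ (σ x) = x := by rw [h2, hcomm, h2, hτ2]
    rw [e, e]
  set y := σ x with hy
  have hy0 : y ≠ q₀ := fun e => hx0 (σ.injective (e.trans hσ0.symm))
  have hyτ : τ y ≠ x := fun e => h2 (by rw [← e, hτ2])
  have hyτ' : τ y ≠ τ x := fun e => h1 (τ.injective e)
  have hx1 : τ x ≠ q₀ := fun e => hx0 (τ.injective (e.trans ((hfix q₀).2 rfl).symm))
  have hy1 : τ y ≠ q₀ := fun e => hy0 (τ.injective (e.trans ((hfix q₀).2 rfl).symm))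
  have huniv : ({q₀, x, τ x, y, τ y} : Finset α) = Finset.univ := by
    apply Finset.eq_univ_of_card
    rw [← Nat.card_eq_fintype_card, h5, Finset.card_insert_of_notMem, Finset.card_insert_of_notMem,
      Finset.card_insert_of_notMem, Finset.card_pair]
    · exact (hne y hy0).symm
    · simp [Ne.symm h2, hyτ'.symm]
    · simp [(hne x hx0).symm, Ne.symm h1, hyτ.symm]
    · simp [Ne.symm hx0, Ne.symm hx1, Ne.symm hy0, Ne.symm hy1]
  have hmem := Finset.mem_univ (σ y)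
  rw [← huniv] at hmem
  simp only [Finset.mem_insert, Finset.mem_singleton] at hmem
  rcases hmem with e | e | e | e | e
  · exact absurd (σ.injective (e.trans hσ0.symm)) hy0
  · rw [e, ← hy, e]
  · have e2 : σ (τ x) = τ y := hcomm x
    rw [e, e2, hcomm, e, hτ2]
  · exact absurd (σ.injective (e.trans hy)) h1
  · exact absurd (σ.injective (e.trans (hcomm x).symm)) fun e' => h2 e'

variable {Γ : Type u} [Group Γ] [Finite Γ] {α : Type v} [Finite α]

/-- The count of fixed points. -/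
theorem degree_five (ρ : Γ →* Equiv.Perm α) (hρ : Function.Injective ρ) (p₀ : α)
    (htrans : ∀ q, ∃ g, ρ g p₀ = q) (hdeg : Nat.card α ≠ 1)
    (R : Sylow 2 Γ) (hR4 : Nat.card R = 4) (hexp : ∀ x : R, x * x = 1)
    (hone : ∀ a b : Γ, orderOf a = 2 → orderOf b = 2 → IsConj a b)
    (hbase : ∀ r ∈ (R : Subgroup Γ), r ≠ 1 → ∀ q, ρ r q = q ↔ q = p₀)
    (W₀ : Subgroup Γ) (hW : Odd (Nat.card W₀)) (hW0 : ∀ o ∈ W₀, ρ o p₀ = p₀)
    (hWR : ∀ r ∈ (R : Subgroup Γ), ∀ o ∈ W₀, r * o * r⁻¹ ∈ W₀)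
    (hdec : ∀ g, ρ g p₀ = p₀ → ∃ o ∈ W₀, ∃ n : Γ, g = o * n ∧
      (∀ r ∈ (R : Subgroup Γ), n * r * n⁻¹ ∈ (R : Subgroup Γ)) ∧
      ((∃ r ∈ (R : Subgroup Γ), r ≠ 1 ∧ n * r * n⁻¹ = r) →
        n ∈ Subgroup.centralizer ((R : Subgroup Γ) : Set Γ))) :
    Nat.card α = 5 ∧ W₀ = ⊥ ∧ Nat.card {t : Γ // orderOf t = 2} = 15 := by
  classical
  haveI := Fintype.ofFinite Γ
  haveI := Fintype.ofFinite α
  haveI : Fact (Nat.Prime 2) := ⟨Nat.prime_two⟩
  -- the three involutions of `R`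
  have hsq : ∀ r ∈ (R : Subgroup Γ), r * r = 1 := fun r hr =>
    congrArg Subtype.val (hexp ⟨r, hr⟩)
  have hord : ∀ r ∈ (R : Subgroup Γ), r ≠ 1 → orderOf r = 2 := fun r hr h1 =>
    orderOf_eq_prime (by rw [pow_two]; exact hsq r hr) h1
  set T := Finset.univ.filter fun r : Γ => r ∈ (R : Subgroup Γ) ∧ r ≠ 1 with hT
  have hmT : ∀ r, r ∈ T ↔ r ∈ (R : Subgroup Γ) ∧ r ≠ 1 := fun r => by simp [hT]
  have hT3 : T.card = 3 := by
    have e : T = (Finset.univ.filter fun r : Γ => r ∈ (R : Subgroup Γ)).erase 1 := by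
      ext r; simp [hT, and_comm]
    rw [e, Finset.card_erase_of_mem (by simp [one_mem]), ← Fintype.card_subtype,
      ← Nat.card_eq_fintype_card]
    change Nat.card (R : Subgroup Γ) - 1 = 3
    rw [hR4]
  obtain ⟨z, hz, w, hw, hzw⟩ := Finset.one_lt_card.1 (show 1 < T.card by omega)
  obtain ⟨hzR, hz1⟩ := (hmT z).1 hz
  obtain ⟨hwR, hw1⟩ := (hmT w).1 hw
  have hcommR : ∀ r ∈ (R : Subgroup Γ), ∀ s ∈ (R : Subgroup Γ), r * s = s * r := fun r hr s hs =>
    congrArg Subtype.val (KleinFourLocal79.comm_of_exp R hexp ⟨r, hr⟩ ⟨s, hs⟩)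
  set c0 := Nat.card (Subgroup.centralizer ((R : Subgroup Γ) : Set Γ)) with hc0
  set c00 := Nat.card (W₀ ⊓ Subgroup.centralizer ((R : Subgroup Γ) : Set Γ) : Subgroup Γ) with hc00
  -- fixed points
  have hfix1 : ∀ t : Γ, orderOf t = 2 → ∃ q, ∀ q', ρ t q' = q' ↔ q' = q := by
    intro t ht
    obtain ⟨g, rfl⟩ := isConj_iff.1 (hone z t (hord z hzR hz1) ht)
    refine ⟨ρ g p₀, fun q' => ?_⟩
    have := hbase z hzR hz1 ((ρ g).symm q')
    simp only [map_mul, map_inv, Equiv.Perm.mul_apply, Equiv.Perm.inv_def]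
    rw [Equiv.symm_apply_eq] at this
    constructor
    · intro e
      refine this.1 ?_
      apply (ρ g).injective
      rw [e, Equiv.apply_symm_apply]
    · rintro rfl
      rw [Equiv.symm_apply_apply, (hbase z hzR hz1 p₀).2 rfl]
  -- centralisers of the involutions of `R` fix the base point
  have hstab : ∀ r ∈ (R : Subgroup Γ), r ≠ 1 → ∀ g ∈ Subgroup.centralizer ({r} : Set Γ),
      ρ g p₀ = p₀ := by
    intro r hr hr1 g hg
    refine (hbase r hr hr1 _).1 ?_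
    rw [← Equiv.Perm.mul_apply, ← map_mul, ← Subgroup.mem_centralizer_singleton_iff.1 hg, map_mul,
      Equiv.Perm.mul_apply, (hbase r hr hr1 p₀).2 rfl]
  -- orbits of `W₀` on `R` are disjoint
  have hdisj : ∀ o ∈ W₀, ∀ r ∈ (R : Subgroup Γ), ∀ s ∈ (R : Subgroup Γ),
      o * r * o⁻¹ = s → r = s := by
    intro o ho r hr s hs e
    have h1 : r⁻¹ * s ∈ W₀ := by
      rw [← e, show r⁻¹ * (o * r * o⁻¹) = (r⁻¹ * o * r⁻¹⁻¹) * o⁻¹ by group]
      exact mul_mem (hWR _ (inv_mem hr) o ho) (inv_mem ho)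
    exact inv_mul_eq_one.1 (eq_one_of_odd_of_two (Q := (R : Subgroup Γ)) R.2
      (mul_mem (inv_mem hr) hs) (hW.of_dvd_nat (Subgroup.orderOf_dvd_natCard _ h1)))
  -- centralisers of the involutions of `R`
  have hcR : ∀ r ∈ (R : Subgroup Γ), r ≠ 1 →
      Nat.card (Subgroup.centralizer ({r} : Set Γ)) * c00 =
        Nat.card (W₀ ⊓ Subgroup.centralizer ({r} : Set Γ) : Subgroup Γ) * c0 := by
    intro r hr hr1
    have hle : Subgroup.centralizer ((R : Subgroup Γ) : Set Γ) ≤ Subgroup.centralizer {r} :=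
      Subgroup.centralizer_le (Set.singleton_subset_iff.2 hr)
    have h := card_mul_inter (X := W₀ ⊓ Subgroup.centralizer ({r} : Set Γ))
      (Y := Subgroup.centralizer ((R : Subgroup Γ) : Set Γ)) inf_le_right hle ?_
    · rwa [inf_assoc, inf_eq_right.2 hle] at h
    intro g hg
    obtain ⟨o, ho, n, rfl, hnR, hnc⟩ := hdec g (hstab r hr hr1 g hg)
    have e : o * (n * r * n⁻¹) * o⁻¹ = r := by
      rw [show o * (n * r * n⁻¹) * o⁻¹ = o * n * r * (o * n)⁻¹ by group,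
        Subgroup.mem_centralizer_singleton_iff.1 hg, mul_inv_cancel_right]
    have e2 := hdisj o ho _ (hnR r hr) r hr e
    refine ⟨o, Subgroup.mem_inf.2 ⟨ho, Subgroup.mem_centralizer_singleton_iff.2 ?_⟩, ?_⟩
    · rw [e2] at e
      exact mul_inv_eq_iff_eq_mul.1 e
    · rw [inv_mul_cancel_left]
      exact hnc ⟨r, hr, hr1, e2⟩
  set co := Nat.card (W₀ ⊓ Subgroup.centralizer ({z} : Set Γ) : Subgroup Γ) with hco
  set c := Nat.card (Subgroup.centralizer ({z} : Set Γ)) with hc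
  have hcz : c * c00 = co * c0 := hcR z hzR hz1
  have hcoeq : ∀ r ∈ (R : Subgroup Γ), r ≠ 1 →
      Nat.card (W₀ ⊓ Subgroup.centralizer ({r} : Set Γ) : Subgroup Γ) = co := by
    intro r hr hr1
    refine Nat.eq_of_mul_eq_mul_right (show 0 < c0 from Nat.card_pos) ?_
    rw [← hcR r hr hr1, ← hcz, hc, card_cent_conj (hone r z (hord r hr hr1) (hord z hzR hz1))]
  have hzw1 : z * w ≠ 1 := fun e => hzw (by
    rw [← inv_eq_of_mul_eq_one_right (hsq z hzR), inv_eq_of_mul_eq_one_right e])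
  have hinter : W₀ ⊓ Subgroup.centralizer ({z} : Set Γ) ⊓ Subgroup.centralizer ({w} : Set Γ) =
      W₀ ⊓ Subgroup.centralizer ((R : Subgroup Γ) : Set Γ) := by
    rw [inf_assoc]
    congr 1
    refine le_antisymm (fun g hg => ?_) (le_inf (Subgroup.centralizer_le (Set.singleton_subset_iff.2 hzR))
      (Subgroup.centralizer_le (Set.singleton_subset_iff.2 hwR)))
    obtain ⟨hg1, hg2⟩ := Subgroup.mem_inf.1 hg
    rw [Subgroup.mem_centralizer_iff]
    intro r hr
    rcases KleinFourLocal79.eq_of_mem R hR4 hexp hzR hwR hz1 hw1 hzw.symm hr with e | e | e | e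
    · simp [e]
    · rw [e]; exact (Subgroup.mem_centralizer_singleton_iff.1 hg1).symm
    · rw [e]; exact (Subgroup.mem_centralizer_singleton_iff.1 hg2).symm
    · rw [e]
      exact ((show Commute z g from (Subgroup.mem_centralizer_singleton_iff.1 hg1).symm).mul_left
        (Subgroup.mem_centralizer_singleton_iff.1 hg2).symm).eq
  have hfour : Nat.card W₀ * c00 ^ 2 = co * co * co := by
    have h := coprime_four W₀ hW (hsq z hzR) (hsq w hwR) (hcommR z hzR w hwR) (hWR z hzR)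
      (hWR w hwR)
    rw [hinter, hcoeq w hwR hw1, hcoeq (z * w) (mul_mem hzR hwR) hzw1] at h
    exact h
  -- involutions fixing the base point
  set I0 := {t : Γ // orderOf t = 2 ∧ ρ t p₀ = p₀} with hI0
  have hmem : ∀ t : I0, ∃ r ∈ T, ∃ o ∈ W₀, o * r * o⁻¹ = t.1 := by
    intro t
    obtain ⟨g, hg⟩ := isConj_iff.1 (hone z t.1 (hord z hzR hz1) t.2.1)
    obtain ⟨q, hq⟩ := hfix1 t.1 t.2.1
    have hgp : ρ g p₀ = p₀ := by
      have e1 : ρ t.1 (ρ g p₀) = ρ g p₀ := by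
        rw [← hg, map_mul, map_mul, map_inv]
        simp [(hbase z hzR hz1 p₀).2 rfl]
      rw [(hq _).1 e1, ← (hq p₀).1 t.2.2]
    obtain ⟨o, ho, n, rfl, hnR, -⟩ := hdec g hgp
    refine ⟨n * z * n⁻¹, (hmT _).2 ⟨hnR z hzR, fun e => hz1 (conj_eq_one_iff.1 e)⟩, o, ho, ?_⟩
    rw [← hg]; group
  choose f hfT fo hfo hfe using hmem
  have hfib : ∀ r ∈ T, Nat.card {t : I0 // f t = r} * co = Nat.card W₀ := by
    intro r hr
    obtain ⟨hrR, hr1⟩ := (hmT r).1 hr
    rw [← hcoeq r hrR hr1, ← card_orbit W₀ r]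
    congr 1
    refine Nat.card_congr (Equiv.ofBijective (fun t => ⟨t.1.1, fo t.1, hfo t.1, ?_⟩) ⟨?_, ?_⟩)
    · rw [← hfe t.1, t.2]
    · intro s t e
      exact Subtype.ext (Subtype.ext (congrArg Subtype.val e :))
    · rintro ⟨i, o, ho, rfl⟩
      have hi : orderOf (o * r * o⁻¹) = 2 ∧ ρ (o * r * o⁻¹) p₀ = p₀ := by
        refine ⟨by rw [show o * r * o⁻¹ = MulAut.conj o r from rfl, MulEquiv.orderOf_eq, hord r hrR hr1],
          ?_⟩
        rw [map_mul, map_mul, Equiv.Perm.mul_apply, Equiv.Perm.mul_apply, hW0 _ (inv_mem ho),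
          (hbase r hrR hr1 p₀).2 rfl, hW0 _ ho]
      refine ⟨⟨⟨_, hi⟩, ?_⟩, rfl⟩
      obtain ⟨hfR, -⟩ := (hmT _).1 (hfT ⟨_, hi⟩)
      refine hdisj (o⁻¹ * fo ⟨_, hi⟩) (mul_mem (inv_mem ho) (hfo _)) _ hfR r hrR ?_
      calc o⁻¹ * fo ⟨_, hi⟩ * f ⟨_, hi⟩ * (o⁻¹ * fo ⟨_, hi⟩)⁻¹
          = o⁻¹ * (fo ⟨_, hi⟩ * f ⟨_, hi⟩ * (fo ⟨_, hi⟩)⁻¹) * o := by group
        _ = o⁻¹ * (o * r * o⁻¹) * o := by rw [hfe]
        _ = r := by group
  have hM : Nat.card I0 * co = 3 * Nat.card W₀ := by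
    rw [card_fiberwise f T hfT, Finset.sum_mul, Finset.sum_congr rfl hfib, Finset.sum_const, hT3,
      smul_eq_mul]
  -- all involutions
  have hsum : Nat.card {t : Γ // orderOf t = 2} = Nat.card α * Nat.card I0 := by
    choose q hq using fun t : {t : Γ // orderOf t = 2} => hfix1 t.1 t.2
    rw [card_fiberwise q Finset.univ (fun t => Finset.mem_univ _),
      Finset.sum_congr rfl (g := fun _ => Nat.card I0) fun p _ => ?_, Finset.sum_const,
      Finset.card_univ, ← Nat.card_eq_fintype_card, smul_eq_mul]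
    obtain ⟨g, hg⟩ := htrans p
    have key : ∀ t : Γ, orderOf (g * t * g⁻¹) = orderOf t ∧
        (ρ (g * t * g⁻¹) p = p ↔ ρ t p₀ = p₀) := by
      intro t
      refine ⟨by rw [show g * t * g⁻¹ = MulAut.conj g t from rfl, MulEquiv.orderOf_eq], ?_⟩
      rw [← hg]
      simp
    refine (Nat.card_congr (Equiv.ofBijective
      (fun t : I0 => (⟨⟨g * t.1 * g⁻¹, (key t.1).1.trans t.2.1⟩,
        ((hq _ p).1 ((key t.1).2.2 t.2.2)).symm⟩ : {t : {t : Γ // orderOf t = 2} // q t = p}))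
      ⟨?_, ?_⟩)).symm
    · intro s t e
      have := congrArg (fun x : {t : {t : Γ // orderOf t = 2} // q t = p} => x.1.1) e
      exact Subtype.ext (mul_left_cancel (mul_right_cancel this))
    · rintro ⟨⟨t, ht⟩, hp⟩
      have hp' : ρ t p = p := (hq ⟨t, ht⟩ p).2 hp.symm
      have e : g * (g⁻¹ * t * g) * g⁻¹ = t := by group
      have k := key (g⁻¹ * t * g)
      rw [e] at k
      exact ⟨⟨g⁻¹ * t * g, k.1.symm.trans ht, k.2.1 hp'⟩, Subtype.ext (Subtype.ext e)⟩
  -- the order formula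
  have hcpos : 0 < co := Nat.card_pos
  have hMc : Nat.card I0 * c0 ^ 2 = 3 * c ^ 2 := by
    have h1 : Nat.card I0 * c00 ^ 2 = 3 * co ^ 2 := Nat.eq_of_mul_eq_mul_left hcpos (by
      linear_combination c00 ^ 2 * hM + 3 * hfour)
    refine Nat.eq_of_mul_eq_mul_left (show 0 < co ^ 2 by positivity) ?_
    linear_combination c ^ 2 * h1 - (Nat.card I0) * (c * c00 + co * c0) * hcz
  have hm : Nat.card {t : Γ // orderOf t = 2} * c0 ^ 2 = 3 * Nat.card α * c ^ 2 := by
    rw [hsum]; linear_combination Nat.card α * hMc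
  have h5 : Nat.card α = 5 :=
    (klein_cases R hR4 hexp hzR (hord z hzR hz1) hone (Nat.card α) hm).resolve_left
      fun h => hdeg h.1
  have hco1 : co = 1 := by
    rw [hco, Subgroup.card_eq_one, Subgroup.eq_bot_iff_forall]
    intro o ho
    obtain ⟨ho1, ho2⟩ := Subgroup.mem_inf.1 ho
    have hodd : Odd (orderOf o) := hW.of_dvd_nat (Subgroup.orderOf_dvd_natCard _ ho1)
    have h4 : ρ o ^ 4 = 1 := perm_five h5 (τ := ρ z) (q₀ := p₀)
      (by rw [← map_mul, hsq z hzR, map_one]) (hbase z hzR hz1)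
      (by rw [← map_mul, ← map_mul, Subgroup.mem_centralizer_singleton_iff.1 ho2])
    have h4' : o ^ 4 = 1 := hρ (by rw [map_pow, h4, map_one])
    exact orderOf_eq_one_iff.1 (Nat.eq_one_of_dvd_coprimes
      ((Nat.coprime_two_left.2 hodd).pow_left 2) (orderOf_dvd_of_pow_eq_one h4') dvd_rfl)
  have hW1 : Nat.card W₀ = 1 ∧ c00 = 1 := by
    rw [hco1] at hfour
    rw [one_mul, one_mul] at hfour
    exact ⟨Nat.eq_one_of_mul_eq_one_right hfour,
      (Nat.pow_eq_one.1 (Nat.eq_one_of_mul_eq_one_left hfour)).resolve_right (by norm_num)⟩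
  refine ⟨h5, Subgroup.card_eq_one.1 hW1.1, ?_⟩
  rw [hW1.2, hco1, mul_one, one_mul] at hcz
  rw [h5, hcz] at hm
  exact Nat.eq_of_mul_eq_mul_right (show 0 < c0 ^ 2 from pow_pos Nat.card_pos 2) (by linarith)

end Cfsg.Agent.L34Syl83Klein
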