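import Mathlib
import Cfsg.Agent.Lib.L34Syl83MixedAct68

/-!
# Type `L₃(4)` Sylow subgroup, mixed case: centralisers of noncentral involutions of `B`

For `b ∈ B ∖ Z` with `C(b)` not in `hub`: a central four-group modulo the odd core, five points, and
`C(b)` normalises `coreW ∩ C(b)`.
-/

set_option autoImplicit false
set_option linter.unusedSectionVars false

namespace Cfsg.Agent.L34Syl83

open Cfsg

attribute [local instance] AEightThreeGen62.fact2

universe u v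

/-- A permutation representation on cosets fixes the base coset exactly on the subgroup. -/
theorem toPerm_base {K : Type u} [Group K] (Q : Subgroup K) (g : K) :
    MulAction.toPermHom K (K ⧸ Q) g ((1 : K) : K ⧸ Q) = ((1 : K) : K ⧸ Q) ↔ g ∈ Q := by
  show ((g * 1 : K) : K ⧸ Q) = ((1 : K) : K ⧸ Q) ↔ _
  rw [mul_one, QuotientGroup.eq, mul_one, inv_mem_iff]

theorem toPerm_coset {K : Type u} [Group K] (Q : Subgroup K) (g x : K) :
    MulAction.toPermHom K (K ⧸ Q) g (x : K ⧸ Q) = (x : K ⧸ Q) ↔ x⁻¹ * g * x ∈ Q := by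
  show ((g * x : K) : K ⧸ Q) = (x : K ⧸ Q) ↔ _
  rw [QuotientGroup.eq, ← inv_mem_iff]
  simp [mul_assoc]

namespace Chart

variable {G : Type u} [Group G] [Finite G] {S : Sylow 2 G} {F : Type v} [Field F] [Fintype F]
variable (h : Chart F (S : Subgroup G)) (hA : ¬ h.FixZ ⊤) (hB : h.swap.FixZ ⊤)
include h hA hB

/-- An element of `B` fixed by `N_{C(x)}(B)` is central in `C(x)` modulo the odd core. -/
theorem split_fixed {x u : G} (hx : x ∈ h.B) (hxZ : x ∉ h.Z) (hu : u ∈ h.B) (hu1 : u ≠ 1)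
    (hfix : ∀ n ∈ Subgroup.centralizer ({x} : Set G), n ∈ Subgroup.normalizer (h.B : Set G) →
      n * u * n⁻¹ = u) {g : G} (hg : g ∈ Subgroup.centralizer ({x} : Set G)) :
    ∃ o ∈ centralizerPPrimeCore 2 x, ∃ c ∈ Subgroup.centralizer ({x} : Set G),
      c * u = u * c ∧ g = o * c := by
  have huC := h.B_le_cent hB hx hu
  have hiso : IsIsolatedInvolution (⟨u, huC⟩ : Subgroup.centralizer ({x} : Set G)) := by
    refine ⟨by rw [Subgroup.orderOf_mk]; exact h.orderOf_of_mem (h.B_sq hu) hu1, fun g hcomm => ?_⟩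
    refine Subtype.ext ?_
    show (g : G) * u * (g : G)⁻¹ = u
    have hc : u * ((g : G) * u * (g : G)⁻¹) = (g : G) * u * (g : G)⁻¹ * u :=
      congrArg Subtype.val hcomm.eq
    obtain ⟨k, hk, hkB⟩ := h.conj_into_B hB hx hxZ
      (K := Subgroup.centralizer ({x} : Set G) ⊓ Subgroup.centralizer ({u} : Set G))
      (le_inf (h.B_le_cent hB hx) (h.B_le_cent hB hu)) inf_le_left
      (Subgroup.zpowers_le.2 (Subgroup.mem_inf.2
        ⟨mul_mem (mul_mem g.2 huC) (inv_mem g.2), Subgroup.mem_centralizer_singleton_iff.2 hc.symm⟩))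
      (isPGroup_zpowers_inv_conj (h.B_sq hu))
    have hv := hkB _ (Subgroup.mem_zpowers _)
    rw [show k * ((g : G) * u * (g : G)⁻¹) * k⁻¹ = k * g * u * (k * g)⁻¹ by group] at hv
    obtain ⟨n, hn, hnB, e⟩ := h.fusion_B hB hx hxZ hu (mul_mem (Subgroup.mem_inf.1 hk).1 g.2) hv
    rw [hfix n hn hnB] at e
    calc (g : G) * u * (g : G)⁻¹ = k⁻¹ * (k * g * u * (k * g)⁻¹) * k := by group
      _ = k⁻¹ * (u * k) := by rw [← e, mul_assoc]
      _ = k⁻¹ * (k * u) := by rw [Subgroup.mem_centralizer_singleton_iff.1 (Subgroup.mem_inf.1 hk).2]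
      _ = u := inv_mul_cancel_left _ _
  obtain ⟨o, ho, c, hc, e⟩ := AEightThreeGen62.zstar_decomp hiso ⟨g, hg⟩
  exact ⟨o, ⟨o, ho, rfl⟩, c, c.2, congrArg Subtype.val hc, congrArg Subtype.val e⟩

/-- If `C(b)` is not in `hub`, some element of `N_{C(b)}(B)` moves every involution of `Z`. -/
theorem exists_mover {b : G} (hb : b ∈ h.B) (hbZ : b ∉ h.Z)
    (hhard : ¬ Subgroup.centralizer ({b} : Set G) ≤ h.hub) :
    ∃ n ∈ Subgroup.centralizer ({b} : Set G), n ∈ Subgroup.normalizer (h.B : Set G) ∧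
      ∀ z ∈ h.Z, z ≠ 1 → n * z * n⁻¹ ≠ z := by
  by_contra hcon
  push Not at hcon
  obtain ⟨z, hz, hz1, -⟩ := h.exists_other 1
  refine hhard fun g hg => ?_
  obtain ⟨o, ho, c, hc, hcz, rfl⟩ := h.split_fixed hA hB hb hbZ (h.Z_le_B hz) hz1 (fun n hn hnB => by
    obtain ⟨z', hz', hz'1, e⟩ := hcon n hn hnB
    exact h.fix_Z hz' hz'1 (Subgroup.mem_centralizer_singleton_iff.2 (mul_inv_eq_iff_eq_mul.1 e)) hz
      (h.NB_fix_Z hB hnB hz)) hg
  exact mul_mem (h.core_le_hub hA hB hb ho)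
    (h.cent_Z_le_hub hz hz1 (Subgroup.mem_centralizer_singleton_iff.2 hcz))

/-- Odd powers. -/
theorem two_part_cent {b m : G} (hb : b ∈ h.B) (hbZ : b ∉ h.Z)
    (hm : m ∈ Subgroup.centralizer ({b} : Set G)) (hmB : m ∈ Subgroup.normalizer (h.B : Set G)) :
    ∃ o, Odd o ∧ ∀ v ∈ h.B, m ^ o * v = v * m ^ o := by
  obtain ⟨r, o, ho, hord⟩ := Nat.exists_eq_two_pow_mul_odd (orderOf_pos m).ne'
  refine ⟨o, ho, fun v hv => ?_⟩
  have hp : IsPGroup 2 (Subgroup.zpowers (m ^ o)) := IsPGroup.of_card (n := r) (by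
    rw [Nat.card_zpowers, orderOf_pow_of_dvd ho.pos.ne' (hord ▸ dvd_mul_left _ _), hord,
      Nat.mul_div_cancel _ ho.pos])
  have hle := h.two_le_B hB hb hbZ
    (hp.to_sup_of_normal_right' h.isPGroup_B (Subgroup.zpowers_le.2 (pow_mem hmB o)))
    (sup_le (Subgroup.zpowers_le.2 (pow_mem hm o)) (h.B_le_cent hB hb)) le_sup_right
  exact h.B_comm (hle (Subgroup.mem_sup_left (Subgroup.mem_zpowers _))) hv

/-- `N_{C(b)}(B)` acts trivially on `B/Z`. -/
theorem triv_mod_Z {b m v : G} (hb : b ∈ h.B) (hbZ : b ∉ h.Z)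
    (hm : m ∈ Subgroup.centralizer ({b} : Set G)) (hmB : m ∈ Subgroup.normalizer (h.B : Set G))
    (hv : v ∈ h.B) : v⁻¹ * (m * v * m⁻¹) ∈ h.Z := by
  obtain ⟨p, q, rfl⟩ := hb
  have hp : p ≠ 0 := fun e => hbZ (h.mem_Z.2 ⟨q, by rw [e]⟩)
  obtain ⟨a, c, rfl⟩ := hv
  obtain ⟨a', c', e⟩ := conj_mem_of_normalizer hmB (show h.μ a 0 c ∈ h.B from ⟨a, c, rfl⟩)
  rw [← e, h.inv, h.mul]
  suffices a + a' = 0 by exact h.mem_Z.2 ⟨c + a * 0 + c' + a * 0, by rw [this, add_zero]⟩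
  have hb' : h.μ p 0 q ∈ h.B := ⟨p, q, rfl⟩
  have hmb : m * h.μ p 0 q * m⁻¹ = h.μ p 0 q := by
    rw [Subgroup.mem_centralizer_singleton_iff.1 hm, mul_inv_cancel_right]
  have hmz : ∀ d : F, ∃ d', m * h.μ 0 0 d * m⁻¹ = h.μ 0 0 d' := fun d => by
    obtain ⟨d', e'⟩ := h.mem_Z.1 (h.NB_fix_Z hB hmB (h.mem_Z.2 ⟨d, rfl⟩))
    exact ⟨d', e'.symm⟩
  by_cases ha0 : a = 0
  · subst ha0
    obtain ⟨d', e'⟩ := hmz c
    rw [(h.inj _ _ _ _ _ _ (e.trans e')).1, add_zero]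
  by_cases hap : a = p
  · subst hap
    obtain ⟨d', e'⟩ := hmz (c + q)
    rw [show h.μ a 0 c = h.μ a 0 q * h.μ 0 0 (c + q) by
      rw [h.mul, mul_zero, add_zero, add_zero, add_zero]; congr 1; linear_combination -h.two q, ← conj_mul, hmb, e', h.mul] at e
    rw [(h.inj _ _ _ _ _ _ e).1, add_zero, h.two]
  -- otherwise an odd power of `m` would move the coset
  rcases h.four hp ha0 (Ne.symm hap) a' with ha' | ha' | ha' | ha'
  · exfalso
    obtain ⟨d, hd⟩ := h.mem_Z.1 (h.NB_fix_Z hB (inv_mem hmB) (h.mem_Z.2 ⟨c', rfl⟩))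
    rw [show h.μ 0 0 c' = m * h.μ a 0 c * m⁻¹ by rw [← e, ha'],
      show m⁻¹ * (m * h.μ a 0 c * m⁻¹) * m⁻¹⁻¹ = h.μ a 0 c by group] at hd
    exact ha0 (h.inj _ _ _ _ _ _ hd).1.symm
  · exfalso
    have e1 : m⁻¹ * h.μ a' 0 c' * m⁻¹⁻¹ = h.μ a 0 c := by rw [e]; group
    obtain ⟨d, hd⟩ := h.mem_Z.1 (h.NB_fix_Z hB (inv_mem hmB) (h.mem_Z.2 ⟨c' + q, rfl⟩))
    have hmb' : m⁻¹ * h.μ p 0 q * m⁻¹⁻¹ = h.μ p 0 q := by
      conv_lhs => rw [← hmb]
      group
    rw [ha', show h.μ p 0 c' = h.μ p 0 q * h.μ 0 0 (c' + q) by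
      rw [h.mul, mul_zero, add_zero, add_zero, add_zero]; congr 1; linear_combination -h.two q, ← conj_mul, hmb', ← hd, h.mul] at e1
    exact hap ((h.inj _ _ _ _ _ _ e1).1.symm.trans (add_zero p))
  · rw [ha', h.two]
  · exfalso
    -- `m` adds `p` on each application
    have hiter : ∀ i : ℕ, ∃ c'', m ^ i * h.μ a 0 c * (m ^ i)⁻¹ = h.μ (a + (i : F) * p) 0 c'' := by
      intro i
      induction i with
      | zero => exact ⟨c, by simp⟩
      | succ i ih =>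
        obtain ⟨c'', e'⟩ := ih
        obtain ⟨d₁, hd₁⟩ := hmz ((c'' + c + (i : F) * q))
        obtain ⟨d₂, hd₂⟩ : ∃ d₂, m * h.μ ((i : F) * p) 0 ((i : F) * q) * m⁻¹ =
            h.μ ((i : F) * p) 0 d₂ := by
          haveI := charP_two_of_card h.card_F
          rcases Nat.even_or_odd i with hi | hi
          · rw [show (i : F) = 0 by rw [CharP.cast_eq_zero_iff F 2, ← even_iff_two_dvd]; exact hi,
              zero_mul, zero_mul, h.one]
            exact ⟨0, by rw [h.one]; simp⟩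
          · obtain ⟨j, rfl⟩ := hi
            rw [show ((2 * j + 1 : ℕ) : F) = 1 by simp [CharTwo.two_eq_zero], one_mul, one_mul, hmb]
            exact ⟨_, rfl⟩
        have e3 : h.μ (a + (i : F) * p) 0 c'' = h.μ a 0 c * h.μ ((i : F) * p) 0 ((i : F) * q) *
            h.μ 0 0 (c'' + c + (i : F) * q) := by
          rw [h.mul, h.mul]
          congr 1
          · simp
          · simp
          · rw [mul_zero, add_zero, mul_zero, add_zero,
              show c + (i : F) * q + (c'' + c + (i : F) * q) =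
                c'' + ((c + c) + ((i : F) * q + (i : F) * q)) by ring, h.two, h.two, add_zero,
              add_zero]
        refine ⟨c' + d₂ + d₁, ?_⟩
        rw [pow_succ', show m * m ^ i * h.μ a 0 c * (m * m ^ i)⁻¹ =
          m * (m ^ i * h.μ a 0 c * (m ^ i)⁻¹) * m⁻¹ by group, e', e3, ← conj_mul, ← conj_mul, ← e,
          hd₂, hd₁, h.mul, h.mul, ha']
        push_cast
        congr 1 <;> ring
    obtain ⟨o, ⟨j, rfl⟩, hcent⟩ := h.two_part_cent hA hB hb' hbZ hm hmB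
    obtain ⟨c'', e'⟩ := hiter (2 * j + 1)
    rw [hcent _ ⟨a, c, rfl⟩, mul_inv_cancel_right] at e'
    have hap' := (h.inj _ _ _ _ _ _ e').1
    haveI := charP_two_of_card h.card_F
    rw [show ((2 * j + 1 : ℕ) : F) = 1 by simp [CharTwo.two_eq_zero], one_mul, left_eq_add] at hap'
    exact hp hap' 

/-- An element of `N_{C(b)}(B)` fixing an involution of `Z` centralises `B`. -/
theorem cent_B_of_fix {b m z v : G} (hb : b ∈ h.B) (hbZ : b ∉ h.Z)
    (hm : m ∈ Subgroup.centralizer ({b} : Set G)) (hmB : m ∈ Subgroup.normalizer (h.B : Set G))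
    (hz : z ∈ h.Z) (hz1 : z ≠ 1) (hmz : m * z * m⁻¹ = z) (hv : v ∈ h.B) : m * v = v * m := by
  set d := v⁻¹ * (m * v * m⁻¹) with hd
  have hdZ : d ∈ h.Z := h.triv_mod_Z hA hB hb hbZ hm hmB hv
  have hmd : m * d * m⁻¹ = d := h.fix_Z hz hz1
    (Subgroup.mem_centralizer_singleton_iff.2 (mul_inv_eq_iff_eq_mul.1 hmz)) hdZ
    (h.NB_fix_Z hB hmB hdZ)
  have e1 : m * v * m⁻¹ = v * d := by rw [hd, mul_inv_cancel_left]
  have h2 : m ^ 2 ∈ Subgroup.centralizer ({v} : Set G) := by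
    rw [Subgroup.mem_centralizer_singleton_iff, ← mul_inv_eq_iff_eq_mul]
    calc m ^ 2 * v * (m ^ 2)⁻¹ = m * (m * v * m⁻¹) * m⁻¹ := by
          rw [pow_two, mul_inv_rev]; simp only [mul_assoc]
      _ = m * v * m⁻¹ * (m * d * m⁻¹) := by rw [conj_mul, e1]
      _ = v := by rw [e1, hmd, mul_assoc, h.Z_sq hdZ, mul_one]
  obtain ⟨o, ho, hcent⟩ := h.two_part_cent hA hB hb hbZ hm hmB
  exact Subgroup.mem_centralizer_singleton_iff.1 (mem_of_coprime_pow (Nat.coprime_two_left.2 ho) h2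
    (Subgroup.mem_centralizer_singleton_iff.2 (hcent v hv)))

/-- For `b` with `C(b)` outside `hub`: the central four-group modulo the odd core. -/
theorem exists_partner {b : G} (hb : b ∈ h.B) (hbZ : b ∉ h.Z)
    (hhard : ¬ Subgroup.centralizer ({b} : Set G) ≤ h.hub) :
    ∃ b' ∈ h.B, b' ∉ h.Z ∧ b * b' ∉ h.Z ∧ ∀ g ∈ Subgroup.centralizer ({b} : Set G),
      ∃ o ∈ centralizerPPrimeCore 2 b, ∃ c ∈ Subgroup.centralizer ({b} : Set G),
        c * b' = b' * c ∧ g = o * c := by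
  obtain ⟨n, hn, hnB, hmove⟩ := h.exists_mover hA hB hb hbZ hhard
  -- `Z#` is one orbit
  have horb : ∀ z ∈ h.Z, z ≠ 1 → ∀ w ∈ h.Z, w ≠ 1 → ∃ i : ℕ, n ^ i * z * (n ^ i)⁻¹ = w := by
    intro z hz hz1 w hw hw1
    set z₂ := n * z * n⁻¹ with hz₂
    have hz₂Z : z₂ ∈ h.Z := h.NB_fix_Z hB hnB hz
    have hz₂1 : z₂ ≠ 1 := fun e => hz1 (conj_eq_one_iff.1 e)
    rcases h.Z_cases hz hz₂Z hw hz1 hz₂1 (hmove z hz hz1).symm with e | e | e | e
    · exact absurd e hw1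
    · exact ⟨0, by simp [e]⟩
    · exact ⟨1, by simp [e, hz₂]⟩
    · refine ⟨2, ?_⟩
      have hsum : z * z₂ ≠ 1 := fun e1 => hmove z hz hz1 (by
        rw [← hz₂, ← inv_eq_of_mul_eq_one_right e1, inv_eq_of_mul_eq_one_right (h.Z_sq hz)])
      have e2 : n ^ 2 * z * (n ^ 2)⁻¹ = n * z₂ * n⁻¹ := by
        rw [hz₂, pow_two, mul_inv_rev]; simp only [mul_assoc]
      rw [e2, e]
      rcases h.Z_cases hz hz₂Z (h.NB_fix_Z hB hnB hz₂Z) hz1 hz₂1 (hmove z hz hz1).symm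
        with e3 | e3 | e3 | e3
      · exact absurd (conj_eq_one_iff.1 e3) hz₂1
      · exfalso
        refine hmove (z * z₂) (mul_mem hz hz₂Z) hsum ?_
        rw [← conj_mul, e3, ← hz₂, h.Z_comm hz₂Z (h.Z_le hz)]
      · exact absurd e3 (hmove z₂ hz₂Z hz₂1)
      · exact e3
  -- a fixed point outside the coset of `b`
  obtain ⟨p, q, hpq⟩ := id hb
  have hp : p ≠ 0 := fun e => hbZ (h.mem_Z.2 ⟨q, by rw [← hpq, e]⟩)
  obtain ⟨p', hp'0, hp'p⟩ : ∃ p' : F, p' ≠ 0 ∧ p' ≠ p := by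
    classical
    by_contra hcon
    push Not at hcon
    have hsub : (Finset.univ : Finset F) ⊆ {0, p} := fun x _ => by
      by_cases hx : x = 0
      · simp [hx]
      · simp [hcon x hx]
    have := Finset.card_le_card hsub
    rw [Finset.card_univ, h.card_F] at this
    have h2 : ({0, p} : Finset F).card ≤ 2 := Finset.card_le_two
    omega
  set v := h.μ p' 0 0 with hv
  have hvB : v ∈ h.B := ⟨p', 0, rfl⟩
  let T : h.Z → h.Z := fun w => ⟨w * (n * w * n⁻¹), mul_mem w.2 (h.NB_fix_Z hB hnB w.2)⟩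
  have hTinj : Function.Injective T := by
    intro w w' e
    have e' : (w : G) * (n * w * n⁻¹) = w' * (n * w' * n⁻¹) := congrArg Subtype.val e
    by_contra hne
    have hd : (w : G)⁻¹ * w' ∈ h.Z := mul_mem (inv_mem w.2) w'.2
    refine hmove _ hd (fun e1 => hne (Subtype.ext (inv_mul_eq_one.1 e1))) ?_
    have hi : ∀ u ∈ h.Z, u⁻¹ = u := fun u hu => inv_eq_of_mul_eq_one_right (h.Z_sq hu)
    rw [← conj_mul, hi _ w.2]
    have hw' : (n * w * n⁻¹) * (n * w' * n⁻¹) = (w : G) * w' := by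
      have k1 : n * w * n⁻¹ = (w : G) * (w' * (n * w' * n⁻¹)) := by
        rw [← e', ← mul_assoc, h.Z_sq w.2, one_mul]
      rw [k1, mul_assoc, mul_assoc, h.Z_sq (h.NB_fix_Z hB hnB w'.2), mul_one]
    exact hw'
  obtain ⟨w, hw⟩ := (Finite.surjective_of_injective hTinj)
    ⟨_, h.triv_mod_Z hA hB hb hbZ hn hnB hvB⟩
  have hw' : (w : G) * (n * w * n⁻¹) = v⁻¹ * (n * v * n⁻¹) := congrArg Subtype.val hw
  set b' := v * w with hb'
  have hb'B : b' ∈ h.B := mul_mem hvB (h.Z_le_B w.2)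
  have hnb' : n * b' * n⁻¹ = b' := by
    rw [hb', ← conj_mul, show n * v * n⁻¹ = v * (v⁻¹ * (n * v * n⁻¹)) by rw [mul_inv_cancel_left],
      ← hw', mul_assoc, mul_assoc, h.Z_sq (h.NB_fix_Z hB hnB w.2), mul_one]
  obtain ⟨cw, hcw⟩ := h.mem_Z.1 w.2
  have hb'Z : b' ∉ h.Z := fun hz => by
    obtain ⟨d, hd⟩ := h.mem_Z.1 hz
    rw [hb', hv, ← hcw, h.mul] at hd
    exact hp'0 (by simpa using (h.inj _ _ _ _ _ _ hd).1.symm)
  have hbb' : b * b' ∉ h.Z := fun hz => by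
    obtain ⟨d, hd⟩ := h.mem_Z.1 hz
    rw [hb', hv, ← hcw, h.mul, ← hpq, h.mul] at hd
    have := (h.inj _ _ _ _ _ _ hd).1
    exact hp'p (by rw [eq_neg_of_add_eq_zero_left this.symm, h.neg_eq]; simp)
  refine ⟨b', hb'B, hb'Z, hbb', fun g hg => h.split_fixed hA hB hb hbZ hb'B (h.ne_one_of_B hb'Z) ?_ hg⟩
  intro m hm hmB
  obtain ⟨z, hz, hz1, -⟩ := h.exists_other 1
  obtain ⟨i, hi⟩ := horb z hz hz1 _ (h.NB_fix_Z hB hmB hz) fun e => hz1 (conj_eq_one_iff.1 e)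
  have hk := h.cent_B_of_fix hA hB hb hbZ (m := (n ^ i)⁻¹ * m)
    (mul_mem (inv_mem (pow_mem hn i)) hm) (mul_mem (inv_mem (pow_mem hnB i)) hmB) hz hz1 (by
      calc (n ^ i)⁻¹ * m * z * ((n ^ i)⁻¹ * m)⁻¹ = (n ^ i)⁻¹ * (m * z * m⁻¹) * n ^ i := by group
        _ = (n ^ i)⁻¹ * (n ^ i * z * (n ^ i)⁻¹) * n ^ i := by rw [hi]
        _ = z := by group) hb'B
  have hfix : ∀ j : ℕ, n ^ j * b' = b' * n ^ j := fun j =>
    ((show Commute n b' from mul_inv_eq_iff_eq_mul.1 hnb').pow_left j).eq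
  calc m * b' * m⁻¹ = n ^ i * ((n ^ i)⁻¹ * m * b') * m⁻¹ := by group
    _ = n ^ i * (b' * ((n ^ i)⁻¹ * m)) * m⁻¹ := by rw [hk]
    _ = n ^ i * b' * (n ^ i)⁻¹ := by group
    _ = b' := by rw [hfix, mul_inv_cancel_right]

/-- In the hard case an element `g` of `C(b)` moves the central four-group inside `hub`. -/
theorem partner_fix {b b' g : G} (hb : b ∈ h.B) (hb' : b' ∈ h.B)
    (hdec : ∀ g ∈ Subgroup.centralizer ({b} : Set G), ∃ o ∈ centralizerPPrimeCore 2 b,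
      ∃ c ∈ Subgroup.centralizer ({b} : Set G), c * b' = b' * c ∧ g = o * c)
    (hg : g ∈ Subgroup.centralizer ({b} : Set G)) : g⁻¹ * b' * g ∈ h.hub := by
  obtain ⟨o, ho, c, hc, hcb, e⟩ := hdec g⁻¹ (inv_mem hg)
  have hoH := h.core_le_hub hA hB hb ho
  have h1 : g⁻¹ * b' * g = o * b' * o⁻¹ := by
    calc g⁻¹ * b' * g = g⁻¹ * b' * g⁻¹⁻¹ := by rw [inv_inv]
      _ = o * (c * b' * c⁻¹) * o⁻¹ := by rw [e]; group
      _ = _ := by rw [hcb, mul_inv_cancel_right]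
  rw [h1]
  exact mul_mem (mul_mem hoH (h.S_le_hub (h.B_le hb'))) (inv_mem hoH)

/-- An element of `hub ∩ C(b)` is an element of `coreW` times one of `N(A)`, both centralising `b`. -/
theorem hub_cent {b g : G} (hb : b ∈ h.B) (hbZ : b ∉ h.Z) (hg : g ∈ h.hub)
    (hgb : g * b = b * g) :
    ∃ w ∈ h.coreW, ∃ n ∈ Subgroup.normalizer (h.A : Set G), g = w * n ∧ w * b = b * w ∧
      n * b = b * n ∧ ∀ z ∈ h.Z, n * z * n⁻¹ ∈ h.Z := by
  obtain ⟨w, hw, n, hn, rfl⟩ := h.mem_hub hg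
  set N := Subgroup.normalizer (h.A : Set G) with hN
  have hbN : b ∈ N := h.S_le_normalizer_A (h.B_le hb)
  have hbb := h.B_sq hb
  set v := n * b * n⁻¹ with hv
  have hvv : v * v = 1 := by rw [hv, conj_mul, hbb]; group
  have hvb : v = w⁻¹ * b * w := by
    calc v = w⁻¹ * (w * n * b) * n⁻¹ := by rw [hv]; group
      _ = w⁻¹ * (b * (w * n)) * n⁻¹ := by rw [hgb]
      _ = _ := by group
  have hvbW : v * b ∈ h.coreW := by
    rw [hvb, show w⁻¹ * b * w * b = w⁻¹ * (b * w * b) by simp only [mul_assoc]]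
    refine mul_mem (inv_mem hw) ?_
    have := SignalizerCoprime.mem_normalizer_conj (h.NA_le_normalizer_coreW hbN) hw
    rwa [inv_eq_of_mul_eq_one_right hbb] at this
  obtain ⟨c, hc, hcv⟩ := IsolatedInv.exists_conj_of_odd hvv hbb (odd_of_mem (h.coreW_odd hA) hvbW)
  have hcW : c ∈ h.coreW := (Subgroup.zpowers_le.2 hvbW) hc
  have hcN : c ∈ N := (Subgroup.zpowers_le.2 (mul_mem (mul_mem (mul_mem hn hbN) (inv_mem hn)) hbN)) hc
  have hn'b : c * n * b = b * (c * n) := by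
    rw [← mul_inv_eq_iff_eq_mul, show c * n * b * (c * n)⁻¹ = c * (n * b * n⁻¹) * c⁻¹ by group]
    exact hcv
  refine ⟨w * c⁻¹, mul_mem hw (inv_mem hcW), c * n, mul_mem hcN hn, by group, ?_, hn'b, fun z hz => ?_⟩
  · calc w * c⁻¹ * b = w * n * ((c * n)⁻¹ * b) := by group
      _ = w * n * (b * (c * n)⁻¹) := by
        rw [(show Commute (c * n) b from hn'b).inv_left.eq]
      _ = b * (w * n) * (c * n)⁻¹ := by rw [← mul_assoc, hgb]
      _ = _ := by group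
  · have hA' : c * n * z * (c * n)⁻¹ ∈ h.A :=
      conj_mem_of_normalizer (mul_mem hcN hn) (h.Z_le_A hz)
    refine ⟨hA', ?_⟩
    have := h.swap.mem_A_of_comm (h.A_le hA') (by rwa [h.swap_A]) (by rwa [h.swap_Z]) (by
      have hzb : z * b = b * z := h.Z_comm hz (h.B_le hb)
      conv_lhs => rw [show b = c * n * b * (c * n)⁻¹ by rw [hn'b, mul_inv_cancel_right]]
      rw [conj_mul, hzb, ← conj_mul]
      rw [show c * n * b * (c * n)⁻¹ = b by rw [hn'b, mul_inv_cancel_right]])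
    rwa [h.swap_A] at this

/-- The facts about `C(b)` in the hard case. -/
theorem hard_facts {b : G} (hb : b ∈ h.B) (hbZ : b ∉ h.Z)
    (hhard : ¬ Subgroup.centralizer ({b} : Set G) ≤ h.hub) :
    (∀ c ∈ Subgroup.centralizer ({b} : Set G), ∀ w ∈ h.coreW, w * b = b * w →
      c * w * c⁻¹ ∈ h.coreW) ∧
    h.hub.relIndex (Subgroup.centralizer ({b} : Set G)) = 5 ∧
    (h.coreW = ⊥ → Nat.card {g : G // g ∈ Subgroup.centralizer ({b} : Set G) ∧ g * g = 1} ≤ 64) := by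
  obtain ⟨n₀, hn₀, hn₀B, hmove⟩ := h.exists_mover hA hB hb hbZ hhard
  obtain ⟨b', hb'B, hb'Z, hbb'Z, hdec'⟩ := h.exists_partner hA hB hb hbZ hhard
  set C := Subgroup.centralizer ({b} : Set G) with hC
  set Q := h.hub.subgroupOf C with hQ
  set φ := MulAction.toPermHom C (C ⧸ Q) with hφ
  set base : C ⧸ Q := ((1 : C) : C ⧸ Q) with hbase
  have hBC := h.B_le_cent hB hb
  have hQmem : ∀ g : C, g ∈ Q ↔ (g : G) ∈ h.hub := fun g => Subgroup.mem_subgroupOf
  -- involutions of `Z` fix only the base point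
  have hZfix : ∀ z (hz : z ∈ h.Z), z ≠ 1 → ∀ q, φ ⟨z, hBC (h.Z_le_B hz)⟩ q = q ↔ q = base := by
    intro z hz hz1 q
    obtain ⟨x, rfl⟩ := QuotientGroup.mk_surjective q
    rw [hφ, toPerm_coset, hQmem, hbase]
    constructor
    · intro hin
      refine QuotientGroup.eq.2 ?_
      rw [mul_one, inv_mem_iff, hQmem]
      refine inv_mem_iff.1 (h.mem_hub_of_conj hA hB (h.Z_le_A hz) hz1 (g := (x : G)⁻¹) ?_)
      simpa [mul_assoc] using hin
    · intro e
      have hx := QuotientGroup.eq.1 e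
      rw [mul_one, inv_mem_iff, hQmem] at hx
      push_cast
      exact mul_mem (mul_mem (inv_mem hx) (h.S_le_hub (h.Z_le hz))) hx
  -- the central four-group acts trivially
  have hker : ∀ x (hx : x ∈ h.B), (∀ g ∈ C, g⁻¹ * x * g ∈ h.hub) → φ ⟨x, hBC hx⟩ = 1 := by
    intro x hx hxf
    refine Equiv.ext fun q => ?_
    obtain ⟨y, rfl⟩ := QuotientGroup.mk_surjective q
    rw [Equiv.Perm.one_apply, hφ, toPerm_coset, hQmem]
    exact hxf y y.2
  have hφb : φ ⟨b, hBC hb⟩ = 1 := hker b hb fun g hg => by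
    rw [mul_assoc, ← Subgroup.mem_centralizer_singleton_iff.1 hg, inv_mul_cancel_left]
    exact h.S_le_hub (h.B_le hb)
  have hφb' : φ ⟨b', hBC hb'B⟩ = 1 := hker b' hb'B fun g hg => h.partner_fix hA hB hb hb'B hdec' hg
  -- every element of `B` acts as an element of `Z`
  have hBZ : ∀ v (hv : v ∈ h.B), ∃ z, ∃ hz : z ∈ h.Z, φ ⟨v, hBC hv⟩ = φ ⟨z, hBC (h.Z_le_B hz)⟩ ∧
      ∃ x ∈ ({1, b, b', b * b'} : Set G), v = x * z := by
    intro v hv
    obtain ⟨p, q, hpq⟩ := id hb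
    obtain ⟨p', q', hpq'⟩ := id hb'B
    obtain ⟨r, s, hrs⟩ := id hv
    have hp : p ≠ 0 := fun e => hbZ (h.mem_Z.2 ⟨q, by rw [← hpq, e]⟩)
    have hp' : p' ≠ 0 := fun e => hb'Z (h.mem_Z.2 ⟨q', by rw [← hpq', e]⟩)
    have hne : p ≠ p' := fun e => hbb'Z (h.mem_Z.2 ⟨q + q', by
      rw [← hpq, ← hpq', h.mul, e, h.two]; simp⟩)
    have key : ∀ x (hxB : x ∈ h.B), φ ⟨x, hBC hxB⟩ = 1 → x ∈ ({1, b, b', b * b'} : Set G) →
        (∃ t, h.μ r 0 t = x) → ∃ z, ∃ hz : z ∈ h.Z,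
          φ ⟨v, hBC hv⟩ = φ ⟨z, hBC (h.Z_le_B hz)⟩ ∧
          ∃ x ∈ ({1, b, b', b * b'} : Set G), v = x * z := by
      rintro x hxB hx1 hxm ⟨t, ht⟩
      have hz : x⁻¹ * v ∈ h.Z := by
        rw [← hrs, ← ht, h.inv, h.mul, h.two]; exact h.mem_Z.2 ⟨_, by simp; rfl⟩
      refine ⟨x⁻¹ * v, hz, ?_, x, hxm, (mul_inv_cancel_left x v).symm⟩
      rw [show (⟨v, hBC hv⟩ : C) = ⟨x, hBC hxB⟩ * ⟨x⁻¹ * v, hBC (h.Z_le_B hz)⟩ from
        Subtype.ext (mul_inv_cancel_left x v).symm, map_mul, hx1, one_mul]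
    rcases h.four hp hp' hne r with e | e | e | e
    · refine key 1 (one_mem _) ?_ (by simp) ⟨0, by rw [e]; exact h.one⟩
      exact map_one φ
    · exact key b hb hφb (by simp) ⟨q, by rw [e]; exact hpq⟩
    · exact key b' hb'B hφb' (by simp) ⟨q', by rw [e]; exact hpq'⟩
    · refine key (b * b') (mul_mem hb hb'B) ?_ (by simp) ⟨q + q', by
        rw [e, ← hpq, ← hpq', h.mul]; simp⟩
      rw [show (⟨b * b', hBC (mul_mem hb hb'B)⟩ : C) = ⟨b, hBC hb⟩ * ⟨b', hBC hb'B⟩ from rfl,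
        map_mul, hφb, hφb', one_mul]
  -- degree greater than one
  have hdeg : Nat.card (C ⧸ Q) ≠ 1 := by
    intro e
    refine hhard fun g hg => ?_
    have hs := (Nat.card_eq_one_iff_unique.1 e).1
    have := QuotientGroup.eq.1 (hs.elim ((⟨g, hg⟩ : C) : C ⧸ Q) base)
    rw [mul_one, inv_mem_iff, hQmem] at this
    exact this
  have hZinj : ∀ z (hz : z ∈ h.Z), φ ⟨z, hBC (h.Z_le_B hz)⟩ = 1 → z = 1 := by
    intro z hz e
    by_contra hz1
    refine hdeg (Nat.card_eq_one_iff_unique.2 ⟨⟨fun a c => ?_⟩, ⟨base⟩⟩)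
    rw [(hZfix z hz hz1 a).1 (by rw [e]; rfl), (hZfix z hz hz1 c).1 (by rw [e]; rfl)]
  -- the Sylow subgroup of the image
  obtain ⟨P, hP⟩ := h.exists_sylow_B hB hb hbZ hBC le_rfl
  set ρ := φ.range.subtype with hρ
  set ψ := φ.rangeRestrict with hψ
  set R := P.mapSurjective φ.rangeRestrict_surjective with hR
  set ι : h.Z → φ.range := fun z => ψ ⟨z, hBC (h.Z_le_B z.2)⟩ with hι
  have hRmem : ∀ r, r ∈ (R : Subgroup φ.range) ↔ ∃ z : h.Z, ι z = r := by
    intro r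
    rw [hR, Sylow.coe_mapSurjective, hP]
    constructor
    · rintro ⟨v, hv, rfl⟩
      obtain ⟨z, hz, e, -⟩ := hBZ v (Subgroup.mem_subgroupOf.1 hv)
      exact ⟨⟨z, hz⟩, Subtype.ext e.symm⟩
    · rintro ⟨z, rfl⟩
      exact ⟨_, Subgroup.mem_subgroupOf.2 (h.Z_le_B z.2), rfl⟩
  have hι1 : ∀ z : h.Z, ι z = 1 → z = 1 := fun z e =>
    Subtype.ext (hZinj z z.2 (congrArg Subtype.val e))
  have hιmul : ∀ z z' : h.Z, ι (z * z') = ι z * ι z' := fun z z' => by
    rw [hι]; show ψ _ = ψ _ * ψ _; rw [← map_mul]; rfl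
  have hιinj : Function.Injective ι := by
    intro z z' e
    have hz' : ι z' * ι z' = 1 := by
      rw [← hιmul, show z' * z' = 1 from Subtype.ext (h.Z_sq z'.2)]
      exact Subtype.ext (map_one φ)
    have := hι1 (z * z') (by rw [hιmul, e, hz'])
    rw [← inv_eq_of_mul_eq_one_right (show z' * z' = 1 from Subtype.ext (h.Z_sq z'.2))]
    exact mul_eq_one_iff_eq_inv.1 this
  have hR4 : Nat.card R = 4 := by
    rw [← h.card_Z]
    exact (Nat.card_congr (Equiv.ofBijective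
      (fun z : h.Z => (⟨ι z, (hRmem _).2 ⟨z, rfl⟩⟩ : R))
      ⟨fun z z' e => hιinj (congrArg Subtype.val e), fun r => by
        obtain ⟨z, hz⟩ := (hRmem r.1).1 r.2
        exact ⟨z, Subtype.ext hz⟩⟩)).symm
  have hexp : ∀ x : R, x * x = 1 := fun x => by
    obtain ⟨z, hz⟩ := (hRmem x.1).1 x.2
    refine Subtype.ext ?_
    show (x : φ.range) * x = 1
    rw [← hz, ← hιmul, show z * z = 1 from Subtype.ext (h.Z_sq z.2)]
    exact Subtype.ext (map_one φ)
  have hιconj : ∀ (g : C) (z w : h.Z), (g : G) * z * (g : G)⁻¹ = w → ψ g * ι z * (ψ g)⁻¹ = ι w := by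
    intro g z w e
    rw [hι]
    show ψ g * ψ _ * (ψ g)⁻¹ = ψ _
    rw [← map_inv, ← map_mul, ← map_mul]
    exact congrArg ψ (Subtype.ext e)
  have hiota_conj : ∀ z w : h.Z, z ≠ 1 → w ≠ 1 → IsConj (ι z) (ι w) := by
    intro z w hz1 hw1
    have step : ∀ u : h.Z, IsConj (ι u) (ι ⟨n₀ * u * n₀⁻¹, h.NB_fix_Z hB hn₀B u.2⟩) := fun u =>
      isConj_iff.2 ⟨ψ ⟨n₀, hn₀⟩, hιconj ⟨n₀, hn₀⟩ u _ rfl⟩
    have hz1' : (z : G) ≠ 1 := fun e => hz1 (Subtype.ext e)
    set z₂ : h.Z := ⟨n₀ * z * n₀⁻¹, h.NB_fix_Z hB hn₀B z.2⟩ with hz₂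
    have hz₂1 : (z₂ : G) ≠ 1 := fun e => hz1' (conj_eq_one_iff.1 e)
    have hne : (z : G) ≠ z₂ := (hmove z z.2 hz1').symm
    rcases h.Z_cases z.2 z₂.2 w.2 hz1' hz₂1 hne with e | e | e | e
    · exact absurd (Subtype.ext e) hw1
    · rw [show w = z from Subtype.ext e]
    · rw [show w = z₂ from Subtype.ext e]; exact step z
    · refine ((step z).trans (step z₂)).trans ?_
      rw [show w = ⟨n₀ * z₂ * n₀⁻¹, h.NB_fix_Z hB hn₀B z₂.2⟩ from ?_]
      refine Subtype.ext ?_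
      show (w : G) = n₀ * z₂ * n₀⁻¹
      rw [e]
      rcases h.Z_cases z.2 z₂.2 (h.NB_fix_Z hB hn₀B z₂.2) hz1' hz₂1 hne with e3 | e3 | e3 | e3
      · exact absurd (conj_eq_one_iff.1 e3) hz₂1
      · exfalso
        refine hmove ((z : G) * z₂) (mul_mem z.2 z₂.2)
          (fun e1 => hne (by
            rw [← inv_eq_of_mul_eq_one_right e1, inv_eq_of_mul_eq_one_right (h.Z_sq z.2)])) ?_
        rw [← conj_mul, e3]
        exact h.Z_comm z₂.2 (h.Z_le z.2)
      · exact absurd e3 (hmove z₂ z₂.2 hz₂1)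
      · exact e3.symm
  have hone : ∀ a c : φ.range, orderOf a = 2 → orderOf c = 2 → IsConj a c := by
    have hinto : ∀ a : φ.range, orderOf a = 2 → ∃ z : h.Z, z ≠ 1 ∧ IsConj a (ι z) := by
      intro a ha
      obtain ⟨T, hT⟩ := (IsPGroup.of_card (n := 1) (by rw [Nat.card_zpowers, ha]; norm_num) :
        IsPGroup 2 (Subgroup.zpowers a)).exists_le_sylow
      obtain ⟨g, hg⟩ := MulAction.exists_smul_eq φ.range T R
      have hmem : g * a * g⁻¹ ∈ (R : Subgroup φ.range) := by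
        rw [← hg, Sylow.coe_subgroup_smul]
        exact ⟨a, hT (Subgroup.mem_zpowers a), rfl⟩
      obtain ⟨z, hz⟩ := (hRmem _).1 hmem
      refine ⟨z, fun e => ?_, hz ▸ isConj_iff.2 ⟨g, rfl⟩⟩
      have h1 : g * a * g⁻¹ = 1 := by
        rw [← hz, e]
        exact Subtype.ext (map_one φ)
      rw [conj_eq_one_iff.1 h1, orderOf_one] at ha
      omega
    intro a c ha hc
    obtain ⟨z, hz1, hz⟩ := hinto a ha
    obtain ⟨w, hw1, hw⟩ := hinto c hc
    exact hz.trans ((hiota_conj z w hz1 hw1).trans hw.symm)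
  set W₀ := (h.coreW.subgroupOf C).map ψ with hW₀
  have hW₀Q : ∀ o ∈ W₀, ρ o base = base := by
    rintro _ ⟨w, hw, rfl⟩
    exact (toPerm_base Q w).2 ((hQmem w).2 (Subgroup.mem_sup_left (Subgroup.mem_subgroupOf.1 hw)))
  obtain ⟨h5, hW₀bot, h15⟩ := L34Syl83Klein.degree_five ρ Subtype.val_injective base (fun q => by
      obtain ⟨x, rfl⟩ := QuotientGroup.mk_surjective q
      exact ⟨ψ x, congrArg QuotientGroup.mk (mul_one x)⟩)
    hdeg R hR4 hexp hone
    (fun r hr hr1 q => by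
      obtain ⟨z, rfl⟩ := (hRmem r).1 hr
      exact hZfix z z.2 (fun e => hr1 (by
        rw [show z = 1 from Subtype.ext e]; exact Subtype.ext (map_one φ))) q)
    W₀ ((Nat.not_even_iff_odd.1 fun he => h.coreW_odd hA he.two_dvd).of_dvd_nat
      ((Subgroup.card_map_dvd _ _).trans (Subgroup.card_comap_dvd_of_injective h.coreW C.subtype
        C.subtype_injective))) hW₀Q
    (by
      rintro r hr _ ⟨w, hw, rfl⟩
      obtain ⟨z, rfl⟩ := (hRmem r).1 hr
      refine ⟨⟨z, hBC (h.Z_le_B z.2)⟩ * w * (⟨z, hBC (h.Z_le_B z.2)⟩ : C)⁻¹, ?_, by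
        rw [map_mul, map_mul, map_inv]⟩
      show (z : G) * w * (z : G)⁻¹ ∈ h.coreW
      exact SignalizerCoprime.mem_normalizer_conj
        (h.NA_le_normalizer_coreW (h.S_le_normalizer_A (h.Z_le z.2))) (Subgroup.mem_subgroupOf.1 hw))
    (by
      rintro ⟨_, x, rfl⟩ hfix
      have hx : (x : G) ∈ h.hub := (hQmem x).1 ((toPerm_base Q x).1 hfix)
      obtain ⟨w, hw, m, hm, e, hwb, hmb, hmZ⟩ := h.hub_cent hA hB hb hbZ hx
        (Subgroup.mem_centralizer_singleton_iff.1 x.2)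
      have hwC : w ∈ C := Subgroup.mem_centralizer_singleton_iff.2 hwb
      have hmC : m ∈ C := Subgroup.mem_centralizer_singleton_iff.2 hmb
      refine ⟨ψ ⟨w, hwC⟩, ⟨⟨w, hwC⟩, Subgroup.mem_subgroupOf.2 hw, rfl⟩, ψ ⟨m, hmC⟩, ?_, ?_, ?_⟩
      · rw [← map_mul]
        exact Subtype.ext (congrArg φ (show x = ⟨w, hwC⟩ * ⟨m, hmC⟩ from Subtype.ext e))
      · intro r hr
        obtain ⟨z, rfl⟩ := (hRmem r).1 hr
        exact (hRmem _).2 ⟨⟨_, hmZ z z.2⟩, (hιconj ⟨m, hmC⟩ z _ rfl).symm⟩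
      · rintro ⟨r, hr, hr1, he⟩
        obtain ⟨z, rfl⟩ := (hRmem r).1 hr
        have hz1 : (z : G) ≠ 1 := fun e1 => hr1 (by
          rw [show z = 1 from Subtype.ext e1]; exact Subtype.ext (map_one φ))
        have hmz : m * z * m⁻¹ = z :=
          congrArg Subtype.val (hιinj ((hιconj ⟨m, hmC⟩ z ⟨_, hmZ z z.2⟩ rfl).symm.trans he))
        rw [Subgroup.mem_centralizer_iff]
        intro r' hr'
        obtain ⟨u, rfl⟩ := (hRmem r').1 hr'
        have hu := h.fix_Z z.2 hz1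
          (Subgroup.mem_centralizer_singleton_iff.2 (mul_inv_eq_iff_eq_mul.1 hmz)) u.2 (hmZ u u.2)
        exact (mul_inv_eq_iff_eq_mul.1 (hιconj ⟨m, hmC⟩ u u hu)).symm)
  -- the kernel
  have hkerW : ∀ g : C, φ g = 1 → Odd (orderOf (g : G)) → (g : G) ∈ h.coreW := by
    intro g hg ho
    have hgH : (g : G) ∈ h.hub := (hQmem g).1 ((toPerm_base Q g).1 (by rw [← hφ, hg]; rfl))
    obtain ⟨w, hw, m, hm, e, hwb, hmb, hmZ⟩ := h.hub_cent hA hB hb hbZ hgH
      (Subgroup.mem_centralizer_singleton_iff.1 g.2)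
    have hwC : w ∈ C := Subgroup.mem_centralizer_singleton_iff.2 hwb
    have hmC : m ∈ C := Subgroup.mem_centralizer_singleton_iff.2 hmb
    have hψw : ψ ⟨w, hwC⟩ = 1 := by
      rw [← Subgroup.mem_bot, ← hW₀bot]
      exact ⟨_, Subgroup.mem_subgroupOf.2 hw, rfl⟩
    have hψm : ψ ⟨m, hmC⟩ = 1 := by
      have e1 : ψ g = ψ ⟨w, hwC⟩ * ψ ⟨m, hmC⟩ := by
        rw [← map_mul]; exact congrArg ψ (Subtype.ext e)
      rw [hψw, one_mul] at e1
      rw [← e1]
      exact Subtype.ext hg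
    obtain ⟨z, hz, hz1, -⟩ := h.exists_other 1
    have hmz : m * z * m⁻¹ = z := by
      refine congrArg Subtype.val (hιinj (a₁ := ⟨_, hmZ z hz⟩) (a₂ := ⟨z, hz⟩) ?_)
      rw [← hιconj ⟨m, hmC⟩ ⟨z, hz⟩ ⟨_, hmZ z hz⟩ rfl, hψm]
      simp
    obtain ⟨r, m', hm', hord⟩ := Nat.exists_eq_two_pow_mul_odd (orderOf_pos m).ne'
    have hodd : Odd (orderOf (m ^ 2 ^ r)) := by
      rw [orderOf_pow_of_dvd (by positivity) (hord ▸ dvd_mul_right _ _), hord,
        Nat.mul_div_cancel_left _ (by positivity)]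
      exact hm'
    have hmW : m ^ 2 ^ r ∈ h.coreW := h.core_le_coreW (h.Z_le_A hz) hz1
      (h.odd_mem_core hz hz1 hb hbZ
        (pow_mem (Subgroup.mem_centralizer_singleton_iff.2 (mul_inv_eq_iff_eq_mul.1 hmz)) _)
        ((show Commute m b from hmb).pow_left _).eq hodd)
    refine mem_of_odd_two_pow ho (j := r) ?_
    have hstep : ∀ i : ℕ, (w * m) ^ i * (m ^ i)⁻¹ ∈ h.coreW := by
      intro i
      induction i with
      | zero => simp [one_mem]
      | succ i ih =>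
        rw [pow_succ', pow_succ, show w * m * (w * m) ^ i * (m ^ i * m)⁻¹ =
          w * (m * ((w * m) ^ i * (m ^ i)⁻¹) * m⁻¹) by group]
        exact mul_mem hw (SignalizerCoprime.mem_normalizer_conj (h.NA_le_normalizer_coreW hm) ih)
    have := mul_mem (hstep (2 ^ r)) hmW
    rwa [inv_mul_cancel_right, ← e] at this
  refine ⟨fun c hc w hw hwb => ?_, ?_, fun hW1 => ?_⟩
  · have hwC : w ∈ C := Subgroup.mem_centralizer_singleton_iff.2 hwb
    have hφw : φ ⟨w, hwC⟩ = 1 := by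
      have : ψ ⟨w, hwC⟩ = 1 := by
        rw [← Subgroup.mem_bot, ← hW₀bot]
        exact ⟨_, Subgroup.mem_subgroupOf.2 hw, rfl⟩
      exact congrArg Subtype.val this
    refine hkerW (⟨c, hc⟩ * ⟨w, hwC⟩ * (⟨c, hc⟩ : C)⁻¹) (by rw [map_mul, map_mul, hφw, map_inv]; group) ?_
    show Odd (orderOf (MulAut.conj c w))
    rw [MulEquiv.orderOf_eq]
    exact odd_of_mem (h.coreW_odd hA) hw
  · exact h5
  -- involutions of `C(b)`
  have hker2 : IsPGroup 2 φ.ker := by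
    rintro ⟨g, hg⟩
    obtain ⟨r, o, ho, hord⟩ := Nat.exists_eq_two_pow_mul_odd (orderOf_pos g).ne'
    refine ⟨r, Subtype.ext ?_⟩
    show g ^ 2 ^ r = 1
    have h1 : φ (g ^ 2 ^ r) = 1 := by rw [map_pow, MonoidHom.mem_ker.1 hg, one_pow]
    have h2 : Odd (orderOf ((g ^ 2 ^ r : C) : G)) := by
      rw [Subgroup.orderOf_coe, orderOf_pow_of_dvd (by positivity) (hord ▸ dvd_mul_right _ _), hord,
        Nat.mul_div_cancel_left _ (by positivity)]
      exact ho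
    have := hkerW _ h1 h2
    rw [hW1, Subgroup.mem_bot] at this
    exact Subtype.ext this
  have hkerP : φ.ker ≤ (P : Subgroup C) := by
    have h1 := P.3 (hker2.to_sup_of_normal_left P.2) le_sup_right
    exact le_sup_left.trans h1.le
  have hkerX : ∀ g : C, φ g = 1 → (g : G) ∈ ({1, b, b', b * b'} : Set G) := by
    intro g hg
    have hgB : (g : G) ∈ h.B := by
      have := hkerP hg
      rw [hP] at this
      exact this
    obtain ⟨z, hz, e, x, hx, hgx⟩ := hBZ g hgB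
    rw [hgx, hZinj z hz (e.symm.trans hg), mul_one]
    exact hx
  classical
  haveI := Fintype.ofFinite G
  have hkercard : Nat.card φ.ker ≤ 4 := by
    have hc : Nat.card φ.ker ≤ Nat.card ({1, b, b', b * b'} : Finset G) := by
      refine Nat.card_le_card_of_injective (fun g => ⟨((g.1 : C) : G), ?_⟩) fun a c e =>
        Subtype.ext (Subtype.ext (congrArg (fun y => (y.1 : G)) e :))
      simpa using hkerX g.1 g.2
    rw [Nat.card_eq_fintype_card (α := ({1, b, b', b * b'} : Finset G)), Fintype.card_coe] at hc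
    exact hc.trans Finset.card_le_four
  have hinv : Nat.card {t : φ.range // t * t = 1} ≤ 16 := by
    refine le_trans (Nat.card_le_card_of_injective
      (fun t : {t : φ.range // t * t = 1} =>
        (if ht : t.1 = 1 then none else some ⟨t.1, orderOf_eq_prime (by rw [pow_two]; exact t.2) ht⟩ :
          Option {t : φ.range // orderOf t = 2})) ?_) ?_
    · intro a c e
      by_cases ha : a.1 = 1 <;> by_cases hc : c.1 = 1 <;> simp [ha, hc] at e
      · exact Subtype.ext (ha.trans hc.symm)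
      · exact Subtype.ext e
    · rw [Finite.card_option, h15]
  set f : {g : G // g ∈ C ∧ g * g = 1} → {t : φ.range // t * t = 1} := fun g =>
    ⟨ψ ⟨g.1, g.2.1⟩, by
      rw [← map_mul, show (⟨g.1, g.2.1⟩ : C) * ⟨g.1, g.2.1⟩ = 1 from Subtype.ext g.2.2, map_one]⟩
    with hf
  haveI := Fintype.ofFinite {t : φ.range // t * t = 1}
  rw [card_fiberwise f Finset.univ fun _ => Finset.mem_univ _]
  refine le_trans (Finset.sum_le_card_nsmul _ _ 4 fun t _ => ?_) ?_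
  · by_cases ht : ∃ g₀, f g₀ = t
    · obtain ⟨g₀, hg₀⟩ := ht
      refine le_trans (Nat.card_le_card_of_injective
        (fun g : {g // f g = t} => (⟨(⟨g₀.1, g₀.2.1⟩ : C)⁻¹ * ⟨g.1.1, g.1.2.1⟩, ?_⟩ : φ.ker)) ?_)
        hkercard
      · have e1 : φ ⟨g.1.1, g.1.2.1⟩ = φ ⟨g₀.1, g₀.2.1⟩ := by
          have := congrArg (fun y : {t : φ.range // t * t = 1} => (y.1 : Equiv.Perm (C ⧸ Q)))
            (g.2.trans hg₀.symm)
          exact this
        rw [MonoidHom.mem_ker, map_mul, map_inv, e1, inv_mul_cancel]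
      · intro a c e
        have := mul_left_cancel (congrArg Subtype.val e)
        exact Subtype.ext (Subtype.ext (congrArg Subtype.val this :))
    · haveI : IsEmpty {g // f g = t} := ⟨fun g => ht ⟨g.1, g.2⟩⟩
      simp
  · rw [Finset.card_univ, ← Nat.card_eq_fintype_card, smul_eq_mul]
    omega

end Chart

end Cfsg.Agent.L34Syl83
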