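import Mathlib
import Cfsg.Agent.Lib.L34Syl83MixedHard68

/-!
# Type `L₃(4)` Sylow subgroup, mixed case

`normal_A_of_mixed`: if `N(B)` normalises `Z`, `N(A)` does not, and the odd core is trivial, then `A` is
normal. Otherwise the group would act on seventeen points with order `17 · 960` or `17 · 2880`.
-/

set_option autoImplicit false
set_option linter.unusedSectionVars false

namespace Cfsg.Agent.L34Syl83

open Cfsg

attribute [local instance] AEightThreeGen62.fact2

universe u v

namespace Chart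

variable {G : Type u} [Group G] [Finite G] {S : Sylow 2 G} {F : Type v} [Field F] [Fintype F]
variable (h : Chart F (S : Subgroup G)) (hA : ¬ h.FixZ ⊤) (hB : h.swap.FixZ ⊤)
include h hA hB

/-- The centraliser of an element of `B ∖ Z` normalises `coreW`. -/
theorem cent_le_normalizer_coreW {b : G} (hb : b ∈ h.B) (hbZ : b ∉ h.Z) :
    Subgroup.centralizer ({b} : Set G) ≤ Subgroup.normalizer (h.coreW : Set G) := by
  by_cases hhard : Subgroup.centralizer ({b} : Set G) ≤ h.hub
  · exact hhard.trans h.hub_le_normalizer_coreW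
  obtain ⟨b', hb', hb'Z, hbb', hdec⟩ := h.exists_partner hA hB hb hbZ hhard
  intro g hg
  obtain ⟨o, ho, c, hc, hcb', rfl⟩ := hdec g hg
  refine mul_mem (h.hub_le_normalizer_coreW (h.core_le_hub hA hB hb ho)) ?_
  set X := h.B ⊓ Subgroup.centralizer ({c} : Set G) with hX
  have hbX : b ∈ X := Subgroup.mem_inf.2 ⟨hb, Subgroup.mem_centralizer_singleton_iff.2
    (Subgroup.mem_centralizer_singleton_iff.1 hc).symm⟩
  have hb'X : b' ∈ X := Subgroup.mem_inf.2 ⟨hb', Subgroup.mem_centralizer_singleton_iff.2 hcb'.symm⟩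
  have hX4 : 2 ^ 2 ≤ Nat.card X := by
    classical
    haveI := Fintype.ofFinite X
    have hb1 := h.ne_one_of_B hbZ
    have hb'1 := h.ne_one_of_B hb'Z
    have hne : b ≠ b' := fun e => hbb' (by rw [e, h.B_sq hb']; exact one_mem _)
    have hsub : ({1, ⟨b, hbX⟩, ⟨b', hb'X⟩, ⟨b, hbX⟩ * ⟨b', hb'X⟩} : Finset X) ⊆ Finset.univ :=
      Finset.subset_univ _
    have hc4 := Finset.card_le_card hsub
    rw [Finset.card_univ, ← Nat.card_eq_fintype_card] at hc4
    refine le_trans ?_ hc4
    rw [Finset.card_insert_of_notMem, Finset.card_insert_of_notMem, Finset.card_pair]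
    · norm_num
    · intro e
      exact hb1 (mul_eq_right.1 (congrArg Subtype.val e).symm)
    · simp only [Finset.mem_insert, Finset.mem_singleton, Subtype.ext_iff, Subgroup.coe_mul]
      exact fun e => e.elim hne fun e => hb'1 (mul_eq_left.1 e.symm)
    · simp only [Finset.mem_insert, Finset.mem_singleton, Subtype.ext_iff, Subgroup.coe_mul,
        Subgroup.coe_one]
      rintro (e | e | e)
      · exact hb1 e.symm
      · exact hb'1 e.symm
      · exact hbb' (e ▸ one_mem h.Z)
  have hle : h.coreW ≤ h.coreW.comap (MulAut.conj c).toMonoidHom := by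
    refine SignalizerCoprime.le_of_centralizers_le (p := 2)
      (SignalizerCoprime.elementaryAbelian_of_le h.elementary_B inf_le_left) hX4
      ((inf_le_left.trans h.B_le).trans (h.S_le_hub.trans h.hub_le_normalizer_coreW))
      (h.coreW_odd hA) fun v hv hv1 w hw => ?_
    obtain ⟨hvB, hvc⟩ := Subgroup.mem_inf.1 hv
    obtain ⟨hwW, hwv⟩ := Subgroup.mem_inf.1 hw
    have hcv : c ∈ Subgroup.centralizer ({v} : Set G) :=
      Subgroup.mem_centralizer_singleton_iff.2 (Subgroup.mem_centralizer_singleton_iff.1 hvc).symm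
    rw [Subgroup.mem_comap, MulEquiv.coe_toMonoidHom, MulAut.conj_apply]
    by_cases hle : Subgroup.centralizer ({v} : Set G) ≤ h.hub
    · exact conj_mem_of_normalizer (h.hub_le_normalizer_coreW (hle hcv)) hwW
    · have hvZ : v ∉ h.Z := fun hz => hle (h.cent_Z_le_hub hz hv1)
      exact (h.hard_facts hA hB hvB hvZ hle).1 c hcv w hwW
        (Subgroup.mem_centralizer_singleton_iff.1 hwv)
  exact mem_normalizer_of_forall fun w hw => by simpa using hle hw

theorem two_classes : ∃ x₁ x₂ : G,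
    x₁ ^ 2 = 1 ∧ x₁ ≠ 1 ∧ x₂ ^ 2 = 1 ∧ x₂ ≠ 1 ∧ ¬ IsConj x₁ x₂ := by
  obtain ⟨z, hz, hz1, -⟩ := h.exists_other 1
  have hxB : h.μ 1 0 0 ∈ h.B := ⟨1, 0, rfl⟩
  have hxZ : h.μ 1 0 0 ∉ h.Z := fun hz => by
    obtain ⟨c, hc⟩ := h.mem_Z.1 hz
    exact zero_ne_one (h.inj _ _ _ _ _ _ hc).1
  refine ⟨z, h.μ 1 0 0, by rw [pow_two]; exact h.Z_sq hz, hz1, by rw [pow_two]; exact h.B_sq hxB,
    h.ne_one_of_B hxZ, fun e => ?_⟩
  obtain ⟨g, hg⟩ := isConj_iff.1 e.symm
  exact h.not_conj_A hB hxB hxZ (g := g) (hg ▸ h.Z_le_A hz)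

/-- Containing `N(S)` and the centralisers of the involutions of `S` forces the whole group. -/
theorem top_of_cents {H : Subgroup G} (hN : Subgroup.normalizer (h.A : Set G) ≤ H)
    (hCA : ∀ a ∈ h.A, a ≠ 1 → Subgroup.centralizer ({a} : Set G) ≤ H)
    (hCB : ∀ x ∈ h.B, x ∉ h.Z → Subgroup.centralizer ({x} : Set G) ≤ H) : H = ⊤ := by
  refine AEightThreeGen62.eq_top_of_centralizers S (h.S_le_normalizer_A.trans hN) h.S_le_closure
    (h.normalizer_S_le_A.trans hN) (fun x hx hx2 hx1 => ?_) (h.two_classes hA hB)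
  by_cases hxA : x ∈ h.A
  · exact hCA x hxA hx1
  · rcases h.involutions hx (by rw [← pow_two]; exact hx2) with h1 | h1
    · exact absurd h1 hxA
    · exact hCB x h1 fun hz => hxA (h.Z_le_A hz)

variable (hO : pPrimeCore 2 G = ⊥)
include hO

theorem coreW_eq_bot : h.coreW = ⊥ := by
  have htop : Subgroup.normalizer (h.coreW : Set G) = ⊤ :=
    h.top_of_cents hA hB h.NA_le_normalizer_coreW
      (fun a ha ha1 => (h.cent_A_le_hub hA ha ha1).trans h.hub_le_normalizer_coreW)
      (fun x hx hxZ => h.cent_le_normalizer_coreW hA hB hx hxZ)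
  haveI : h.coreW.Normal := Subgroup.normalizer_eq_top_iff.1 htop
  exact le_bot_iff.1 (hO ▸ HallCore.le_pPrimeCore
    (Nat.coprime_two_right.2 (Nat.not_even_iff_odd.1 fun he => h.coreW_odd hA he.two_dvd)))

theorem hub_eq : h.hub = Subgroup.normalizer (h.A : Set G) := by
  rw [hub, h.coreW_eq_bot hA hB hO, bot_sup_eq]

theorem cent_Z_card {z : G} (hz : z ∈ h.Z) (hz1 : z ≠ 1) :
    Nat.card (Subgroup.centralizer ({z} : Set G)) = 64 ∨
      Nat.card (Subgroup.centralizer ({z} : Set G)) = 192 := by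
  classical
  set C := Subgroup.centralizer ({z} : Set G) with hC
  have hcore : ∀ x ∈ centralizerPPrimeCore 2 z, x = 1 := fun x hx => by
    have := h.core_le_coreW (h.Z_le_A hz) hz1 hx
    rwa [h.coreW_eq_bot hA hB hO, Subgroup.mem_bot] at this
  have hnorm : ∀ g ∈ C, g ∈ Subgroup.normalizer ((S : Subgroup G) : Set G) := by
    intro g hg
    obtain ⟨o, ho, n, hn, -, rfl⟩ := (h.centralizer_split hz hz1 hg).1
    rwa [hcore o ho, one_mul]
  set S' := (S : Subgroup G).subgroupOf C with hS'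
  have hS64 : Nat.card S' = 64 := by
    rw [hS', Nat.card_congr (Subgroup.subgroupOfEquivOfLe (h.S_le_cent hz)).toEquiv, h.card_S]
  have hodd : Odd S'.index := by
    rw [← Nat.not_even_iff_odd, even_iff_two_dvd]
    exact fun hd => (S.subtype (h.S_le_cent hz)).not_dvd_index hd
  have hu : ∀ g : C, ∃ u : F, u ≠ 0 ∧
      ∀ a b c, ∃ c', (g : G) * h.μ a b c * (g : G)⁻¹ = h.μ (u * a) (u⁻¹ * b) c' := fun g =>
    h.torus_central (hnorm g g.2) fun w hw => h.centralizes_Z hz hz1 (hnorm g g.2) g.2 hw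
  choose u hu0 hu using hu
  have hinj : Function.Injective fun q : C ⧸ S' => (⟨u q.out, hu0 _⟩ : {x : F // x ≠ 0}) := by
    intro q q' e
    have e' : u q.out = u q'.out := congrArg Subtype.val e
    set g := q.out
    set g' := q'.out
    have hm : (((g⁻¹ * g' : C) : G)) ∈ (S : Subgroup G) := by
      obtain ⟨j, hj⟩ := h.two_pow_core hz hz1 (hnorm _ (g⁻¹ * g').2) (g⁻¹ * g').2 fun v hv => by
        obtain ⟨a, b, c, rfl⟩ := (h.mem v).1 hv
        obtain ⟨c₁, e₁⟩ := hu g' a b c
        obtain ⟨c₂, e₂⟩ := hu g a b c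
        rw [← e'] at e₁
        have hd : (h.μ (u g * a) ((u g)⁻¹ * b) c₂)⁻¹ * h.μ (u g * a) ((u g)⁻¹ * b) c₁ ∈ h.Z := by
          rw [h.inv, h.mul, h.two, h.two]
          exact h.mem_Z.2 ⟨_, rfl⟩
        have hd' := conj_mem_of_normalizer (x := _) (show (g : G)⁻¹ ∈ Subgroup.normalizer (h.Z : Set G)
          from inv_mem (mem_normalizer_of_forall fun w hw => h.normalizer_S_fix_Z (hnorm g g.2) hw)) hd
        rw [← e₁, ← e₂] at hd'
        convert hd' using 1
        simp only [Subgroup.coe_mul, Subgroup.coe_inv]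
        group
      exact mem_of_normalizer S (hnorm _ (g⁻¹ * g').2) (by
        rintro ⟨_, i, rfl⟩
        refine ⟨j, Subtype.ext ?_⟩
        show (((g⁻¹ * g' : C) : G) ^ i) ^ 2 ^ j = 1
        rw [← zpow_natCast, ← zpow_mul, mul_comm, zpow_mul, zpow_natCast, hcore _ hj, one_zpow])
    rw [← QuotientGroup.out_eq' q, ← QuotientGroup.out_eq' q']
    exact QuotientGroup.eq.2 hm
  have hle : S'.index ≤ 3 := by
    refine (Nat.card_le_card_of_injective _ hinj).trans (le_of_eq ?_)
    rw [Nat.card_eq_fintype_card, Fintype.card_subtype_compl, h.card_F, Fintype.card_subtype_eq]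
  have hcard := Subgroup.card_mul_index S'
  rw [hS64] at hcard
  obtain ⟨k, hk⟩ := hodd
  omega

/-- The order of `N(A)`. -/
theorem card_NA : Nat.card (Subgroup.normalizer (h.A : Set G)) = 15 * 64 ∨
    Nat.card (Subgroup.normalizer (h.A : Set G)) = 15 * 192 := by
  obtain ⟨z, hz, hz1, -⟩ := h.exists_other 1
  set N := Subgroup.normalizer (h.A : Set G) with hN
  have hC : Subgroup.centralizer ({z} : Set G) ≤ N := (h.cent_Z_le_hub hz hz1).trans_eq
    (h.hub_eq hA hB hO)
  have horb := card_orbit N z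
  rw [inf_eq_right.2 hC] at horb
  have h15 : Nat.card {i : G // ∃ g ∈ N, g * z * g⁻¹ = i} = 15 := by
    classical
    haveI := Fintype.ofFinite G
    rw [Nat.card_congr (Equiv.subtypeEquivRight (q := fun i => i ∈ h.A ∧ i ≠ 1) fun i => ⟨?_, ?_⟩),
      Nat.card_eq_fintype_card, Fintype.card_subtype,
      show (Finset.univ.filter fun i : G => i ∈ h.A ∧ i ≠ 1) =
        (Finset.univ.filter fun i : G => i ∈ h.A).erase 1 by ext i; simp [and_comm],
      Finset.card_erase_of_mem (by simp [one_mem]), ← Fintype.card_subtype,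
      ← Nat.card_eq_fintype_card]
    · change Nat.card h.A - 1 = 15
      rw [h.card_A]
    · rintro ⟨g, hg, rfl⟩
      exact ⟨conj_mem_of_normalizer hg (h.Z_le_A hz), fun e => hz1 (conj_eq_one_iff.1 e)⟩
    · rintro ⟨hi, hi1⟩
      exact h.fus_A hA (h.Z_le_A hz) hz1 hi hi1
  rw [h15] at horb
  rcases h.cent_Z_card hA hB hO hz hz1 with e | e <;> rw [e] at horb
  · exact Or.inl horb.symm
  · exact Or.inr horb.symm

omit hO in
/-- Every element of `B ∖ Z` is hard as soon as one is. -/
theorem hard_all {b x : G} (hb : b ∈ h.B) (hbZ : b ∉ h.Z)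
    (hhard : ¬ Subgroup.centralizer ({b} : Set G) ≤ h.hub) (hx : x ∈ h.B) (hxZ : x ∉ h.Z) :
    ¬ Subgroup.centralizer ({x} : Set G) ≤ h.hub := by
  obtain ⟨b', hb', hb'Z, hbb', hdec⟩ := h.exists_partner hA hB hb hbZ hhard
  have hb'hard : ¬ Subgroup.centralizer ({b'} : Set G) ≤ h.hub := by
    intro hle
    refine hhard fun g hg => ?_
    obtain ⟨o, ho, c, -, hcb', rfl⟩ := hdec g hg
    exact mul_mem (h.core_le_hub hA hB hb ho)
      (hle (Subgroup.mem_centralizer_singleton_iff.2 hcb'))
  have hbb'hard : ¬ Subgroup.centralizer ({b * b'} : Set G) ≤ h.hub := by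
    intro hle
    refine hhard fun g hg => ?_
    obtain ⟨o, ho, c, hc, hcb', rfl⟩ := hdec g hg
    exact mul_mem (h.core_le_hub hA hB hb ho) (hle (Subgroup.mem_centralizer_singleton_iff.2
      ((show Commute c b from Subgroup.mem_centralizer_singleton_iff.1 hc).mul_right hcb').eq))
  intro hle
  obtain ⟨p, q, hpq⟩ := id hb
  obtain ⟨p', q', hpq'⟩ := id hb'
  obtain ⟨r, t, hrt⟩ := id hx
  have hr : r ≠ 0 := fun e => hxZ (h.mem_Z.2 ⟨t, by rw [← hrt, e]⟩)
  have hp : p ≠ 0 := fun e => hbZ (h.mem_Z.2 ⟨q, by rw [← hpq, e]⟩)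
  have hp' : p' ≠ 0 := fun e => hb'Z (h.mem_Z.2 ⟨q', by rw [← hpq', e]⟩)
  have hne : p ≠ p' := fun e => hbb' (h.mem_Z.2 ⟨q + q', by
    rw [← hpq, ← hpq', h.mul, e, h.two]; simp⟩)
  have key : ∀ y, ¬ Subgroup.centralizer ({y} : Set G) ≤ h.hub → (∃ t', h.μ r 0 t' = y) → False := by
    rintro y hy ⟨t', ht'⟩
    refine hy fun c hc => ?_
    set s := h.μ 0 ((t + t') / r) 0 with hs
    have hsy : s * y * s⁻¹ = x := by
      rw [← ht', ← hrt, hs, h.conj, zero_mul, add_zero, mul_div_cancel₀ _ hr]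
      congr 1
      linear_combination h.two t'
    have hsH : s ∈ h.hub := h.S_le_hub (h.mem' _ _ _)
    have := mul_mem (mul_mem (inv_mem hsH) (hle (hsy ▸ conj_cent (g := s) hc))) hsH
    rwa [show s⁻¹ * (s * c * s⁻¹) * s = c by group] at this
  rcases h.four hp hp' hne r with e | e | e | e
  · exact hr e
  · exact key b hhard ⟨q, by rw [e]; exact hpq⟩
  · exact key b' hb'hard ⟨q', by rw [e]; exact hpq'⟩
  · exact key (b * b') hbb'hard ⟨q + q', by rw [e, ← hpq, ← hpq', h.mul]; simp⟩

/-- The fixed points on the cosets of `N(A)` of the elements of `S`. -/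
theorem fixed_points {b : G} (hb : b ∈ h.B) (hbZ : b ∉ h.Z)
    (hhard : ¬ Subgroup.centralizer ({b} : Set G) ≤ h.hub) :
    (∀ a ∈ h.A, a ≠ 1 → ∀ q : G ⧸ Subgroup.normalizer (h.A : Set G),
      a • q = q ↔ q = ((1 : G) : G ⧸ Subgroup.normalizer (h.A : Set G))) ∧
    (∀ x ∈ h.B, x ∉ h.Z →
      Nat.card {q : G ⧸ Subgroup.normalizer (h.A : Set G) // x • q = q} = 5) := by
  have hH := h.hub_eq hA hB hO
  set N := Subgroup.normalizer (h.A : Set G) with hN
  have hfix : ∀ a g : G, a • (g : G ⧸ N) = (g : G ⧸ N) ↔ g⁻¹ * a * g ∈ N := by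
    intro a g
    show ((a * g : G) : G ⧸ N) = (g : G ⧸ N) ↔ _
    rw [QuotientGroup.eq, ← inv_mem_iff]
    simp [mul_assoc]
  refine ⟨fun a ha ha1 q => ?_, fun x hx hxZ => ?_⟩
  · obtain ⟨g, rfl⟩ := QuotientGroup.mk_surjective q
    rw [hfix]
    constructor
    · intro hin
      refine QuotientGroup.eq.2 ?_
      rw [mul_one]
      have := h.mem_hub_of_conj hA hB ha ha1 (g := g⁻¹) (by rw [hH, inv_inv]; exact hin)
      rwa [hH] at this
    · intro e
      have hg := QuotientGroup.eq.1 e
      rw [mul_one] at hg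
      exact mul_mem (mul_mem hg (h.S_le_normalizer_A (h.A_le ha))) (inv_mem_iff.1 hg)
  · have h5 := (h.hard_facts hA hB hx hxZ (h.hard_all hA hB hb hbZ hhard hx hxZ)).2.1
    rw [hH] at h5
    set C := Subgroup.centralizer ({x} : Set G) with hC
    rw [← h5]
    have hmap : ∀ g : C, x • ((g : G) : G ⧸ N) = ((g : G) : G ⧸ N) := fun g => by
      rw [hfix, mul_assoc, ← Subgroup.mem_centralizer_singleton_iff.1 g.2, inv_mul_cancel_left]
      exact h.S_le_normalizer_A (h.B_le hx)
    let Φ : C ⧸ N.subgroupOf C → {q : G ⧸ N // x • q = q} := Quotient.lift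
      (fun g : C => ⟨((g : G) : G ⧸ N), hmap g⟩) fun a c (hac : (QuotientGroup.leftRel _).r a c) => by
        rw [QuotientGroup.leftRel_apply, Subgroup.mem_subgroupOf] at hac
        exact Subtype.ext (QuotientGroup.eq.2 hac)
    refine (Nat.card_congr (Equiv.ofBijective Φ ⟨?_, ?_⟩)).symm
    · intro a c
      induction a using QuotientGroup.induction_on with
      | H a =>
        induction c using QuotientGroup.induction_on with
        | H c =>
          intro e
          exact QuotientGroup.eq.2 (Subgroup.mem_subgroupOf.2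
            (QuotientGroup.eq.1 (congrArg Subtype.val e :)))
    · rintro ⟨q, hq⟩
      obtain ⟨g, rfl⟩ := QuotientGroup.mk_surjective q
      have hin := (hfix x g).1 hq
      obtain ⟨k, hk, hkS⟩ := conj_into S h.S_le_normalizer_A (Subgroup.zpowers_le.2 hin)
        (by
          have := isPGroup_zpowers_inv_conj (g := g⁻¹) (h.B_sq hx)
          rwa [inv_inv] at this)
      set g' := k * g⁻¹ with hg'
      have hyS : g' * x * g'⁻¹ ∈ (S : Subgroup G) := by
        simpa [hg', mul_assoc] using hkS _ (Subgroup.mem_zpowers _)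
      have hyB : g' * x * g'⁻¹ ∈ h.B :=
        (h.involutions hyS (by rw [conj_mul, h.B_sq hx]; group)).resolve_left
          (h.not_conj_A hB hx hxZ)
      obtain ⟨c, hc, hcg⟩ := h.fusion_hub hA hB hx hxZ hyB
      rw [hH] at hcg
      have hγ : g'⁻¹ * c * g' ∈ C := by
        have := conj_cent (g := g'⁻¹) hc
        rwa [inv_inv, show g'⁻¹ * (g' * x * g'⁻¹) * g' = x by group] at this
      refine ⟨((⟨_, hγ⟩ : C) : C ⧸ N.subgroupOf C), Subtype.ext ?_⟩
      refine QuotientGroup.eq.2 ?_
      show (g'⁻¹ * c * g')⁻¹ * g ∈ N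
      rw [show (g'⁻¹ * c * g')⁻¹ * g = (c * g')⁻¹ * k by rw [hg']; group]
      exact mul_mem (inv_mem hcg) hk

/-- Burnside's lemma for the action of `S`. -/
theorem degree_mod {b : G} (hb : b ∈ h.B) (hbZ : b ∉ h.Z)
    (hhard : ¬ Subgroup.centralizer ({b} : Set G) ≤ h.hub) :
    64 ∣ Nat.card (G ⧸ Subgroup.normalizer (h.A : Set G)) + 111 := by
  classical
  obtain ⟨hfixA, hfixB⟩ := h.fixed_points hA hB hO hb hbZ hhard
  set N := Subgroup.normalizer (h.A : Set G) with hN
  haveI := Fintype.ofFinite G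
  haveI := Fintype.ofFinite (G ⧸ N)
  set n := Nat.card (G ⧸ N) with hn
  have hval : ∀ s : (S : Subgroup G), Fintype.card (MulAction.fixedBy (G ⧸ N) s) +
      (if s = 1 then 0 else n) =
      n + (if s = 1 then 0 else 1) + 4 * (if (s : G) ∈ h.B ∧ (s : G) ∉ h.Z then 1 else 0) := by
    intro s
    have hc : Fintype.card (MulAction.fixedBy (G ⧸ N) s) =
        Nat.card {q : G ⧸ N // (s : G) • q = q} := by
      rw [← Nat.card_eq_fintype_card]; rfl
    rw [hc]
    by_cases hs : s = 1
    · subst hs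
      have : (1 : G) ∈ h.Z := one_mem _
      rw [if_pos rfl, if_pos rfl, if_neg (by simp [this]), hn, add_zero, add_zero, mul_zero, add_zero]
      exact Nat.card_congr (Equiv.subtypeUnivEquiv fun q => one_smul G q)
    rw [if_neg hs, if_neg hs]
    by_cases hsB : (s : G) ∈ h.B ∧ (s : G) ∉ h.Z
    · rw [if_pos hsB, hfixB _ hsB.1 hsB.2]; omega
    rw [if_neg hsB]
    have hs1 : (s : G) ≠ 1 := fun e => hs (Subtype.ext e)
    have hone : ∀ q : G ⧸ N, (s : G) • q = q ↔ q = ((1 : G) : G ⧸ N) := by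
      by_cases hsA : (s : G) ∈ h.A
      · exact hfixA _ hsA hs1
      intro q
      have hsq : (s : G) * s ∈ h.Z ∧ (s : G) * s ≠ 1 := by
        obtain ⟨a, b, c, e⟩ := (h.mem (s : G)).1 s.2
        refine ⟨by rw [← e, h.sq]; exact h.mem_Z.2 ⟨_, rfl⟩, fun e1 => ?_⟩
        rcases h.involutions s.2 e1 with h1 | h1
        · exact hsA h1
        · exact hsB ⟨h1, fun hz => hsA (h.Z_le_A hz)⟩
      constructor
      · intro e
        refine (hfixA _ (h.Z_le_A hsq.1) hsq.2 q).1 ?_
        rw [mul_smul, e, e]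
      · rintro rfl
        show (((s : G) * 1 : G) : G ⧸ N) = ((1 : G) : G ⧸ N)
        rw [QuotientGroup.eq, mul_one, mul_one]
        exact inv_mem (h.S_le_normalizer_A s.2)
    rw [Nat.card_congr (Equiv.subtypeEquivRight hone), Nat.card_unique]
    ring
  have hsum := Finset.sum_congr (s₁ := (Finset.univ : Finset (S : Subgroup G))) rfl fun s _ => hval s
  rw [Finset.sum_add_distrib, Finset.sum_add_distrib, Finset.sum_add_distrib, ← Finset.mul_sum,
    MulAction.sum_card_fixedBy_eq_card_orbits_mul_card_group, Finset.sum_const, smul_eq_mul] at hsum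
  have hS : Fintype.card (S : Subgroup G) = 64 := by rw [← Nat.card_eq_fintype_card, h.card_S]
  have h63 : ∑ s : (S : Subgroup G), (if s = 1 then 0 else 1) = 63 := by
    rw [Finset.sum_ite, Finset.sum_const_zero, zero_add, Finset.sum_const, smul_eq_mul, mul_one,
      Finset.filter_ne', Finset.card_erase_of_mem (Finset.mem_univ _), Finset.card_univ, hS]
  have h63n : ∑ s : (S : Subgroup G), (if s = 1 then 0 else n) = 63 * n := by
    rw [← h63, Finset.sum_mul]
    exact Finset.sum_congr rfl fun s _ => by split_ifs <;> simp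
  have h12 : ∑ s : (S : Subgroup G), (if (s : G) ∈ h.B ∧ (s : G) ∉ h.Z then 1 else 0) = 12 := by
    rw [← Finset.card_filter]
    have e : (Finset.univ.filter fun s : (S : Subgroup G) => (s : G) ∈ h.B ∧ (s : G) ∉ h.Z).card =
        ((Finset.univ.filter fun g : G => g ∈ h.B) \ (Finset.univ.filter fun g : G => g ∈ h.Z)).card := by
      refine Finset.card_bij (fun s _ => (s : G)) (fun s hs => by simpa using hs)
        (fun s _ t _ e => Subtype.ext e) fun g hg => ?_
      simp only [Finset.mem_sdiff, Finset.mem_filter, Finset.mem_univ, true_and] at hg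
      exact ⟨⟨g, h.B_le hg.1⟩, by simpa using hg, rfl⟩
    rw [e, Finset.card_sdiff_of_subset (fun g hg => by
        simp only [Finset.mem_filter, Finset.mem_univ, true_and] at hg ⊢
        exact h.Z_le_B hg),
      ← Fintype.card_subtype, ← Fintype.card_subtype, ← Nat.card_eq_fintype_card,
      ← Nat.card_eq_fintype_card]
    change Nat.card h.B - Nat.card h.Z = 12
    rw [← h.swap_A, h.swap.card_A, h.card_Z]
  rw [Finset.card_univ, hS, h63n, h63, h12] at hsum
  generalize Fintype.card (MulAction.orbitRel.Quotient (S : Subgroup G) (G ⧸ N)) = k at hsum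
  change 64 ∣ n + 111
  omega

/-- The degree is seventeen, and involutions fix at most five points. -/
theorem degree_seventeen {b : G} (hb : b ∈ h.B) (hbZ : b ∉ h.Z)
    (hhard : ¬ Subgroup.centralizer ({b} : Set G) ≤ h.hub) :
    Nat.card (G ⧸ Subgroup.normalizer (h.A : Set G)) = 17 ∧
    ∀ i : G, i * i = 1 → i ≠ 1 →
      Nat.card {q : G ⧸ Subgroup.normalizer (h.A : Set G) // i • q = q} ≤ 5 := by
  classical
  obtain ⟨hfixA, hfixB⟩ := h.fixed_points hA hB hO hb hbZ hhard
  have hH := h.hub_eq hA hB hO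
  set N := Subgroup.normalizer (h.A : Set G) with hN
  haveI := Fintype.ofFinite G
  haveI := Fintype.ofFinite (G ⧸ N)
  have hle5 : ∀ i : G, i * i = 1 → i ≠ 1 → Nat.card {q : G ⧸ N // i • q = q} ≤ 5 := by
    intro i hi hi1
    obtain ⟨k, -, hk⟩ := conj_into S (H := ⊤) le_top le_top (isPGroup_zpowers_of_sq hi)
    have hy := hk i (Subgroup.mem_zpowers i)
    have hcard : Nat.card {q : G ⧸ N // i • q = q} =
        Nat.card {q : G ⧸ N // (k * i * k⁻¹) • q = q} := by
      refine Nat.card_congr (Equiv.subtypeEquiv (MulAction.toPerm k) fun q => ?_)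
      show i • q = q ↔ (k * i * k⁻¹) • (k • q) = k • q
      rw [smul_smul, inv_mul_cancel_right, mul_smul, smul_left_cancel_iff]
    rw [hcard]
    have hy1 : k * i * k⁻¹ ≠ 1 := fun e => hi1 (conj_eq_one_iff.1 e)
    by_cases hyA : k * i * k⁻¹ ∈ h.A
    · rw [Nat.card_congr (Equiv.subtypeEquivRight (hfixA _ hyA hy1)), Nat.card_unique]
      norm_num
    · have hyB := (h.involutions hy (by rw [conj_mul, hi]; group)).resolve_left hyA
      exact (hfixB _ hyB fun hz => hyA (h.Z_le_A hz)).le
  refine ⟨?_, hle5⟩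
  -- moved points against involutions of `C(b)`
  set M := Finset.univ.filter fun q : G ⧸ N => b • q ≠ q with hM
  set I := Finset.univ.filter fun i : G => i * b = b * i ∧ i * i = 1 ∧ i ≠ 1 with hI
  set T := Finset.univ.filter fun a : G => a ∈ h.A ∧ a ≠ 1 with hT
  have hT15 : T.card = 15 := by
    rw [show T = (Finset.univ.filter fun a : G => a ∈ h.A).erase 1 by ext a; simp [hT, and_comm],
      Finset.card_erase_of_mem (by simp [one_mem]), ← Fintype.card_subtype,
      ← Nat.card_eq_fintype_card]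
    change Nat.card h.A - 1 = 15
    rw [h.card_A]
  have hI64 : I.card ≤ 64 := by
    have := (h.hard_facts hA hB hb hbZ hhard).2.2 (h.coreW_eq_bot hA hB hO)
    refine le_trans ?_ this
    rw [Nat.card_eq_fintype_card, Fintype.card_subtype]
    refine Finset.card_le_card fun i hi => ?_
    simp only [hI, Finset.mem_filter, Finset.mem_univ, true_and] at hi ⊢
    exact ⟨Subgroup.mem_centralizer_singleton_iff.2 hi.1, hi.2.1⟩
  have hmoved : ∀ q ∈ M, 5 ≤ (I.filter fun i => i • q = q).card := by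
    intro q hq
    simp only [hM, Finset.mem_filter, Finset.mem_univ, true_and] at hq
    obtain ⟨g, rfl⟩ := QuotientGroup.mk_surjective q
    have hbb := h.B_sq hb
    have hdd : ∀ a ∈ h.A, g * a * g⁻¹ * (g * a * g⁻¹) = 1 := fun a ha => by
      rw [conj_mul, h.A_sq ha]; group
    have hev : ∀ a ∈ h.A, Even (orderOf (g * a * g⁻¹ * b)) := fun a ha =>
      L34Syl83Klein.even_order (hdd a ha) hbb fun e => by
        obtain ⟨k, hk⟩ := isConj_iff.1 e.symm
        refine h.not_conj_A hB hb hbZ (g := g⁻¹ * k) ?_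
        rwa [show g⁻¹ * k * b * (g⁻¹ * k)⁻¹ = g⁻¹ * (k * b * k⁻¹) * g by group, hk,
          show g⁻¹ * (g * a * g⁻¹) * g = a by group]
    set f : G → G := fun a => L34Syl83Klein.ctr (g * a * g⁻¹) b with hf
    have hfmem : ∀ a ∈ T, f a ∈ I.filter fun i => i • (g : G ⧸ N) = (g : G ⧸ N) := by
      intro a ha
      simp only [hT, Finset.mem_filter, Finset.mem_univ, true_and] at ha
      have he := hev a ha.1
      simp only [hI, Finset.mem_filter, Finset.mem_univ, true_and]
      refine ⟨⟨L34Syl83Klein.ctr_comm_right (hdd a ha.1) hbb he, L34Syl83Klein.ctr_sq he,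
        L34Syl83Klein.ne_one_of_order (L34Syl83Klein.orderOf_ctr he)⟩, ?_⟩
      have hd : ∀ r : G ⧸ N, (g * a * g⁻¹) • r = r ↔ r = (g : G ⧸ N) := by
        intro r
        rw [mul_smul, mul_smul, smul_eq_iff_eq_inv_smul, hfixA a ha.1 ha.2, inv_smul_eq_iff]
        show r = ((g * 1 : G) : G ⧸ N) ↔ _
        rw [mul_one]
      refine (hd _).1 ?_
      rw [← mul_smul, ← L34Syl83Klein.ctr_comm_left (hdd a ha.1) hbb he, mul_smul, (hd _).2 rfl]
    have hfib : ∀ i ∈ T.image f, (T.filter fun a => f a = i).card ≤ 3 := by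
      intro i hi
      obtain ⟨a₀, ha₀, rfl⟩ := Finset.mem_image.1 hi
      have hmem := hfmem a₀ ha₀
      simp only [hI, Finset.mem_filter, Finset.mem_univ, true_and] at hmem
      obtain ⟨⟨hib, hii, hi1⟩, hiq⟩ := hmem
      set i := f a₀
      set j := g⁻¹ * i * g with hj
      have hjN : j ∈ N := by
        have : ((i * g : G) : G ⧸ N) = (g : G ⧸ N) := hiq
        rw [QuotientGroup.eq, ← inv_mem_iff] at this
        simpa [hj, mul_assoc] using this
      have hjA : j ∉ h.A := by
        intro hjA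
        have hj1 : j ≠ 1 := fun e => hi1 (by
          rw [show i = g * j * g⁻¹ by rw [hj]; group, e]; group)
        have key : ∀ r : G ⧸ N, i • r = r → r = (g : G ⧸ N) := by
          intro r hr
          rw [show i = g * j * g⁻¹ by rw [hj]; group, mul_smul, mul_smul, smul_eq_iff_eq_inv_smul,
            hfixA j hjA hj1, inv_smul_eq_iff] at hr
          rw [hr]
          show ((g * 1 : G) : G ⧸ N) = _
          rw [mul_one]
        exact hq (key _ (by rw [← mul_smul, hib, mul_smul, hiq]))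
      have hjj : j * j = 1 := by
        rw [hj, show g⁻¹ * i * g * (g⁻¹ * i * g) = g⁻¹ * (i * i) * g by group, hii]; group
      obtain ⟨k, hk, hkS⟩ := conj_into S h.S_le_normalizer_A (Subgroup.zpowers_le.2 hjN)
        (isPGroup_zpowers_of_sq hjj)
      have hy := hkS j (Subgroup.mem_zpowers j)
      have hyA : k * j * k⁻¹ ∉ h.A := fun hin => hjA (by
        simpa [mul_assoc] using conj'_mem_of_normalizer hk hin)
      have hyB := (h.involutions hy (by rw [conj_mul, hjj]; group)).resolve_left hyA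
      have hZ3 : (Finset.univ.filter fun w : G => w ∈ h.Z ∧ w ≠ 1).card = 3 := by
        rw [show (Finset.univ.filter fun w : G => w ∈ h.Z ∧ w ≠ 1) =
          (Finset.univ.filter fun w : G => w ∈ h.Z).erase 1 by ext w; simp [and_comm],
          Finset.card_erase_of_mem (by simp [one_mem]), ← Fintype.card_subtype,
          ← Nat.card_eq_fintype_card]
        change Nat.card h.Z - 1 = 3
        rw [h.card_Z]
      rw [← hZ3]
      refine Finset.card_le_card_of_injOn (fun a => k * a * k⁻¹) (fun a ha => ?_)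
        fun a _ c _ e => mul_left_cancel (mul_right_cancel e)
      simp only [Finset.coe_filter, Set.mem_setOf_eq, hT, Finset.mem_filter, Finset.mem_univ,
        true_and] at ha ⊢
      obtain ⟨⟨haA, ha1⟩, hfa⟩ := ha
      have hka : k * a * k⁻¹ ∈ h.A := conj_mem_of_normalizer hk haA
      have hcomm : (k * a * k⁻¹) * (k * j * k⁻¹) = (k * j * k⁻¹) * (k * a * k⁻¹) := by
        have h1 := L34Syl83Klein.ctr_comm_left (hdd a haA) hbb (hev a haA)
        change f a * (g * a * g⁻¹) = g * a * g⁻¹ * f a at h1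
        rw [hfa] at h1
        rw [conj_mul, conj_mul, hj]
        congr 2
        calc a * (g⁻¹ * i * g) = g⁻¹ * (g * a * g⁻¹ * i) * g := by group
          _ = g⁻¹ * (i * (g * a * g⁻¹)) * g := by rw [h1]
          _ = _ := by group
      refine ⟨⟨hka, ?_⟩, fun e => ha1 (conj_eq_one_iff.1 e)⟩
      have := h.swap.mem_A_of_comm (h.A_le hka) (by rwa [h.swap_A])
        (by rw [h.swap_Z]; exact fun hz => hyA (h.Z_le_A hz)) hcomm
      rwa [h.swap_A] at this
    have h15 := Finset.card_le_mul_card_image T 3 hfib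
    rw [hT15] at h15
    have hsub : T.image f ⊆ I.filter fun i => i • (g : G ⧸ N) = (g : G ⧸ N) := fun i hi => by
      obtain ⟨a, ha, rfl⟩ := Finset.mem_image.1 hi
      exact hfmem a ha
    have := Finset.card_le_card hsub
    omega
  have hI5 : ∀ i ∈ I, (M.filter fun q => i • q = q).card ≤ 5 := by
    intro i hi
    simp only [hI, Finset.mem_filter, Finset.mem_univ, true_and] at hi
    refine le_trans ?_ (hle5 i hi.2.1 hi.2.2)
    rw [Nat.card_eq_fintype_card, Fintype.card_subtype]
    exact Finset.card_le_card fun q hq => by simpa using (Finset.mem_filter.1 hq).2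
  have hcount := Finset.card_mul_le_card_mul (fun (q : G ⧸ N) (i : G) => i • q = q) hmoved hI5
  have hMn : M.card + 5 = Nat.card (G ⧸ N) := by
    rw [← hfixB b hb hbZ, Nat.card_eq_fintype_card, Nat.card_eq_fintype_card, Fintype.card_subtype,
      hM, add_comm, Finset.card_filter_add_card_filter_not, Finset.card_univ]
  have hmod := h.degree_mod hA hB hO hb hbZ hhard
  rw [← hN] at hmod
  omega

/-- `A` is normal. -/
theorem normal_A_of_mixed : h.A.Normal := by
  classical
  have hH := h.hub_eq hA hB hO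
  by_cases hall : ∀ x ∈ h.B, x ∉ h.Z → Subgroup.centralizer ({x} : Set G) ≤ h.hub
  · have := h.top_of_cents hA hB h.NA_le_hub (fun a ha ha1 => h.cent_A_le_hub hA ha ha1) hall
    rw [hH] at this
    exact Subgroup.normalizer_eq_top_iff.1 this
  exfalso
  push Not at hall
  obtain ⟨b, hb, hbZ, hhard⟩ := hall
  obtain ⟨h17, hle5⟩ := h.degree_seventeen hA hB hO hb hbZ hhard
  set N := Subgroup.normalizer (h.A : Set G) with hN
  haveI : Fact (Nat.Prime 17) := ⟨by norm_num⟩
  have hG : Nat.card N * 17 = Nat.card G := by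
    rw [← h17, ← Subgroup.card_mul_index N]; rfl
  have hNval := h.card_NA hA hB hO
  rw [← hN] at hNval
  have h17N : ¬ 17 ∣ Nat.card N := by rcases hNval with e | e <;> rw [e] <;> norm_num
  -- faithfulness
  have hcore : N.normalCore = ⊥ := by
    refine le_bot_iff.1 (hO ▸ HallCore.le_pPrimeCore ?_)
    rw [Nat.coprime_two_right, ← Nat.not_even_iff_odd, even_iff_two_dvd]
    intro hd
    obtain ⟨⟨i, hi⟩, hi2⟩ := exists_prime_orderOf_dvd_card' 2 hd
    rw [Subgroup.orderOf_mk] at hi2
    have hfix : ∀ q : G ⧸ N, i • q = q := by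
      intro q
      obtain ⟨g, rfl⟩ := QuotientGroup.mk_surjective q
      show ((i * g : G) : G ⧸ N) = (g : G ⧸ N)
      rw [QuotientGroup.eq, ← inv_mem_iff]
      simpa [mul_assoc] using hi g⁻¹
    have := hle5 i (L34Syl83Klein.mul_self_of_order hi2) (L34Syl83Klein.ne_one_of_order hi2)
    rw [Nat.card_congr (Equiv.subtypeUnivEquiv hfix), h17] at this
    omega
  -- the Sylow `17`-subgroup
  obtain ⟨P⟩ : Nonempty (Sylow 17 G) := inferInstance
  have hP : Nat.card P = 17 := by
    obtain ⟨k, hk⟩ := IsPGroup.iff_card.1 P.2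
    have hdvd : Nat.card P ∣ Nat.card G := Subgroup.card_subgroup_dvd_card _
    have h1 : 17 ∣ Nat.card P := P.dvd_card_of_dvd_card ⟨Nat.card N, by rw [← hG, mul_comm]⟩
    change Nat.card P = 17 ^ k at hk
    rcases k with _ | _ | k
    · rw [hk] at h1; norm_num at h1
    · simpa using hk
    · exfalso
      rw [hk, ← hG, pow_succ] at hdvd
      have := Nat.dvd_of_mul_dvd_mul_right (by norm_num) hdvd
      exact h17N (dvd_trans (dvd_pow_self 17 (Nat.succ_ne_zero k)) this)
  have hinter : ∀ g : G, ∀ x ∈ (P : Subgroup G), g⁻¹ * x * g ∈ N → x = 1 := by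
    intro g x hx hxN
    have h1 : orderOf x ∣ 17 := hP ▸ Subgroup.orderOf_dvd_natCard _ hx
    have h2 : orderOf x ∣ Nat.card N := by
      have := Subgroup.orderOf_dvd_natCard _ hxN
      rwa [show g⁻¹ * x * g = MulAut.conj g⁻¹ x by simp, MulEquiv.orderOf_eq] at this
    rcases (Nat.dvd_prime (by norm_num)).1 h1 with e | e
    · exact orderOf_eq_one_iff.1 e
    · exact absurd (e ▸ h2) h17N
  have hbij : Function.Bijective fun x : P => ((x : G) : G ⧸ N) := by
    refine (Nat.bijective_iff_injective_and_card _).2 ⟨fun x y e => ?_, hP.trans h17.symm⟩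
    have h1 := QuotientGroup.eq.1 e
    have := hinter 1 _ (mul_mem (inv_mem x.2) y.2) (by simpa using h1)
    exact Subtype.ext (inv_mul_eq_one.1 this)
  set NP := Subgroup.normalizer ((P : Subgroup G) : Set G) with hNP
  set Y := NP ⊓ N with hY
  have hNPcard : Nat.card NP = 17 * Nat.card Y := by
    have := card_mul_inter (X := (P : Subgroup G)) (Y := Y) (H := NP) Subgroup.le_normalizer
      inf_le_left fun g hg => by
        obtain ⟨x, hx⟩ := hbij.2 ((g : G) : G ⧸ N)
        exact ⟨x, x.2, Subgroup.mem_inf.2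
          ⟨mul_mem (inv_mem (Subgroup.le_normalizer x.2)) hg, QuotientGroup.eq.1 hx⟩⟩
    rw [(Subgroup.eq_bot_iff_forall ((P : Subgroup G) ⊓ Y)).2 fun x hx => hinter 1 x
      (Subgroup.mem_inf.1 hx).1 (by simpa using (Subgroup.mem_inf.1 (Subgroup.mem_inf.1 hx).2).2),
      Subgroup.card_bot, mul_one] at this
    rw [this]
    exact congrArg (· * Nat.card Y) hP
  -- `Y` is cyclic of order dividing four
  let ν : Y →* MulAut P :=
    (Subgroup.normalizerMonoidHom (P : Subgroup G)).comp (Subgroup.inclusion inf_le_left)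
  have hν : Function.Injective ν := by
    rw [← MonoidHom.ker_eq_bot_iff, Subgroup.eq_bot_iff_forall]
    intro y hy
    have hy' : ∀ x : P, (y : G) * x * (y : G)⁻¹ = x := fun x =>
      congrArg Subtype.val (DFunLike.congr_fun (MonoidHom.mem_ker.1 hy) x)
    refine Subtype.ext ?_
    show (y : G) = 1
    rw [← Subgroup.mem_bot, ← hcore]
    intro g
    obtain ⟨x, hx⟩ := hbij.2 ((g⁻¹ : G) : G ⧸ N)
    have h1 : (x : G)⁻¹ * g⁻¹ ∈ N := QuotientGroup.eq.1 hx
    have h2 : (x : G)⁻¹ * y * x = y := by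
      rw [mul_assoc, (mul_inv_eq_iff_eq_mul.1 (hy' x)), inv_mul_cancel_left]
    have h3 := mul_mem (mul_mem (inv_mem h1) (Subgroup.mem_inf.1 y.2).2) h1
    convert h3 using 1
    calc g * y * g⁻¹ = g * x * ((x : G)⁻¹ * y * x) * ((x : G)⁻¹ * g⁻¹) := by group
      _ = _ := by rw [h2]; group
  haveI : IsCyclic P := isCyclic_of_prime_card (p := 17) hP
  have h16 : Nat.card (MulAut P) = 16 := by
    rw [IsCyclic.card_mulAut, hP, Nat.totient_prime (by norm_num)]
  have hY16 : Nat.card Y ∣ 16 := h16 ▸ Subgroup.card_dvd_of_injective ν hν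
  haveI : IsCyclic (MulAut P) := by
    haveI : Fact (Nat.Prime (Nat.card P)) := ⟨by rw [hP]; norm_num⟩
    exact isCyclic_of_injective (IsCyclic.mulAutMulEquiv P).toMonoidHom (MulEquiv.injective _)
  haveI : IsCyclic Y := isCyclic_of_injective ν hν
  obtain ⟨y, hy⟩ := IsCyclic.exists_generator (α := Y)
  have hyord : orderOf (y : G) = Nat.card Y := by
    rw [Subgroup.orderOf_coe, orderOf_eq_card_of_forall_mem_zpowers hy]
  have hY4 : Nat.card Y ∣ 4 := by
    rw [← hyord]
    refine orderOf_dvd_of_pow_eq_one ?_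
    have hp : IsPGroup 2 (Subgroup.zpowers (y : G)) := by
      obtain ⟨k, -, hk⟩ := (Nat.dvd_prime_pow Nat.prime_two).1
        (show orderOf (y : G) ∣ 2 ^ 4 by rw [hyord]; exact hY16)
      exact IsPGroup.of_card (n := k) (by rw [Nat.card_zpowers, hk])
    obtain ⟨k, -, hk⟩ := conj_into S (H := ⊤) le_top le_top hp
    obtain ⟨a, c, d, e⟩ := (h.mem _).1 (hk _ (Subgroup.mem_zpowers _))
    have h4 : (k * y * k⁻¹) ^ 4 = 1 := by
      rw [← e, show (4 : ℕ) = 2 * 2 by norm_num, pow_mul, pow_two, pow_two, h.sq, h.sq, zero_mul,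
        h.one]
    rw [conj_pow] at h4
    exact conj_eq_one_iff.1 h4
  -- the number of Sylow `17`-subgroups
  have hmod := card_sylow_modEq_one 17 G
  have hidx := Subgroup.card_mul_index NP
  rw [← hG, hNPcard, show NP.index = Nat.card (Sylow 17 G) from (Sylow.card_eq_index_normalizer P).symm] at hidx
  generalize Nat.card (Sylow 17 G) = m at hmod hidx
  generalize Nat.card Y = y' at hidx hY4
  generalize Nat.card N = c at hidx hNval
  have hy4 : y' = 1 ∨ y' = 2 ∨ y' = 4 := by
    have h1 := Nat.le_of_dvd (by norm_num) hY4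
    interval_cases y' <;> simp_all
  unfold Nat.ModEq at hmod
  rcases hy4 with rfl | rfl | rfl <;> rcases hNval with rfl | rfl <;> omega

end Chart

end Cfsg.Agent.L34Syl83
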