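import Mathlib
import Cfsg.Agent.Lib.L34Syl83NotFix
import Cfsg.Agent.Lib.L34Syl83Over12
import Cfsg.Agent.S1225
import Cfsg.Agent.Lib.L34Syl83Klein

/-!
# Both normalisers move `Z`: reduction to trivial centraliser cores

If `N(sigW)` were proper it would be strongly embedded, and a subgroup of odd order of it, transitive
on its involutions, would give an odd order subgroup of `PGL₃(4)` of order divisible by `35`.
-/

set_option autoImplicit false

namespace Cfsg.Agent.L34Syl83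

open Cfsg

universe u v

/-- The conclusion for trivial centraliser cores. -/
def CoreCase (F : Type v) [Field F] [Fintype F] : Prop :=
  ∀ (G : Type u) [Group G] [Finite G] (S : Sylow 2 G) (h : Chart F (S : Subgroup G)),
    ¬ h.FixZ ⊤ → ¬ h.swap.FixZ ⊤ → pPrimeCore 2 G = ⊥ →
    (∀ z ∈ h.Z, z ≠ 1 → centralizerPPrimeCore 2 z = ⊥) →
    (∃ f : G →* GL (Fin 3) F ⧸ Subgroup.center (GL (Fin 3) F), Function.Injective f) ∧
      20160 ∣ Nat.card G ∧
      ∀ z ∈ h.Z, z ≠ 1 → Nat.card (Subgroup.centralizer ({z} : Set G)) ∣ 192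

namespace Chart

variable {F : Type v} [Field F] [Fintype F] {G : Type u} [Group G] [Finite G] {S : Sylow 2 G}
  (h : Chart F (S : Subgroup G))
include h

theorem embeds_of_not_fix (hcc : CoreCase.{u, v} F) (hA : ¬ h.FixZ ⊤) (hB : ¬ h.swap.FixZ ⊤)
    (hO : pPrimeCore 2 G = ⊥) :
    ∃ f : G →* GL (Fin 3) F ⧸ Subgroup.center (GL (Fin 3) F), Function.Injective f := by
  haveI : Fact (Nat.Prime 2) := ⟨Nat.prime_two⟩
  set M := Subgroup.normalizer (h.sigW : Set G) with hM
  by_cases hMtop : M = ⊤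
  · refine (hcc G S h hA hB hO fun z hz hz1 => ?_).1
    haveI : h.sigW.Normal := Subgroup.normalizer_eq_top_iff.1 hMtop
    have hW : h.sigW = ⊥ := le_bot_iff.1
      (hO ▸ HallCore.le_pPrimeCore (Nat.coprime_two_right.2 (h.exists_signalizer hA).1))
    rw [eq_bot_iff, ← hW]
    exact le_iSup (fun z : {z : G // z ∈ h.Z ∧ z ≠ 1} => centralizerPPrimeCore 2 (z : G))
      ⟨z, hz, hz1⟩
  exfalso
  obtain ⟨z, hz, hz1⟩ : ∃ z ∈ h.Z, z ≠ 1 :=
    ⟨h.μ 0 0 1, h.mem_Z.2 ⟨1, rfl⟩, fun e => one_ne_zero (h.eq_one_iff.1 e).2.2⟩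
  have hzo : orderOf z = 2 := orderOf_eq_prime (by rw [pow_two]; exact h.A_sq (h.Z_le_A hz)) hz1
  have hSM : (S : Subgroup G) ≤ M := h.S_le_normalizer_A.trans (h.normalizer_A_le hA hB)
  have hzM : z ∈ M := hSM (h.Z_le hz)
  have hse : Cfsg.IsStronglyEmbedded M := by
    refine ⟨hMtop, SignalizerStrongEmb.even_card_of_involution_mem hzo hzM, fun g hg => ?_⟩
    refine Nat.not_even_iff_odd.1 fun he => hg ?_
    obtain ⟨t, ⟨htM, y, hy, hyt⟩, ht⟩ := SignalizerStrongEmb.exists_involution_of_even he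
    have hyt' : g * y * g⁻¹ = t := by simpa using hyt
    refine h.mem_of_conj_mem hA hB hy ?_ (by rw [hyt']; exact htM)
    rwa [← hyt', SignalizerStrongEmb.orderOf_conj] at ht
  obtain ⟨u, hu, huM⟩ : ∃ u : G, orderOf u = 2 ∧ u ∉ M := by
    by_contra hall
    push Not at hall
    exact hMtop (eq_top_iff.2 fun g _ => h.mem_of_conj_mem hA hB hzM hzo
      (hall _ (by rw [SignalizerStrongEmb.orderOf_conj, hzo])))
  set D := M ⊓ M.map (MulAut.conj u).toMonoidHom with hD
  have hDodd : Odd (Nat.card D) := hse.2.2 u huM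
  haveI : (pPrimeCore 2 M).Normal := HallCore.pPrimeCore_normal 2 _
  obtain ⟨T, hT, hTA, hTB, hTc⟩ := h.quotient_data hA hB M hM
  obtain ⟨⟨f, hf⟩, hcard, hC⟩ :=
    hcc (↥M ⧸ pPrimeCore 2 ↥M) T hT hTA hTB (HallCore.pPrimeCore_quotient_self 2 _) hTc
  set π := QuotientGroup.mk' (pPrimeCore 2 M) with hπ
  set D' := (D.subgroupOf M).map π with hD'
  have hD'odd : Odd (Nat.card D') := hDodd.of_dvd_nat
    ((Subgroup.card_map_dvd _ _).trans (HallCore.card_subgroupOf_dvd _ _))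
  obtain ⟨c, hc, hc1⟩ : ∃ c ∈ hT.Z, c ≠ 1 :=
    ⟨hT.μ 0 0 1, hT.mem_Z.2 ⟨1, rfl⟩, fun e => one_ne_zero (hT.eq_one_iff.1 e).2.2⟩
  have hodd : Odd (Nat.card (pPrimeCore 2 M)) :=
    Nat.coprime_two_right.1 (HallCore.coprime_card_pPrimeCore 2 M)
  have hsq : c * c = 1 := hT.A_sq (hT.Z_le_A hc)
  -- an involution of the quotient lifts to an involution
  have hlift : ∀ q : ↥M ⧸ pPrimeCore 2 ↥M, q ≠ 1 → q * q = 1 →
      ∃ m : M, π m = q ∧ orderOf (m : G) = 2 := by
    intro q hq1 hq2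
    obtain ⟨x, rfl⟩ := QuotientGroup.mk'_surjective (pPrimeCore 2 M) q
    obtain ⟨j, hj⟩ := hodd
    have hxO : x * x ∈ pPrimeCore 2 M :=
      (QuotientGroup.eq_one_iff _).1 (show π (x * x) = 1 by rw [map_mul]; exact hq2)
    have hk : (x * x) ^ (2 * j + 1) = 1 := by
      have := congrArg Subtype.val
        (pow_card_eq_one' (x := (⟨x * x, hxO⟩ : pPrimeCore 2 M)))
      rwa [hj] at this
    have hπm : π (x ^ (2 * j + 1)) = π x := by
      rw [map_pow, pow_succ, pow_mul, pow_two, hq2, one_pow, one_mul]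
    refine ⟨x ^ (2 * j + 1), hπm, ?_⟩
    rw [Subgroup.orderOf_coe]
    refine orderOf_eq_prime ?_ fun e => hq1 (by rw [← hπm, e, map_one])
    rw [pow_two, ← (Commute.refl x).mul_pow, hk]
  -- `D'` is transitive on the involutions of the quotient
  have htrans : ∀ q : ↥M ⧸ pPrimeCore 2 ↥M, IsConj c q → ∃ d ∈ D', d * c * d⁻¹ = q := by
    intro q hq
    obtain ⟨g, rfl⟩ := isConj_iff.1 hq
    obtain ⟨s, hs, hso⟩ := hlift c hc1 hsq
    obtain ⟨t, ht, hto⟩ := hlift (g * c * g⁻¹) (fun e => hc1 (conj_eq_one_iff.1 e))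
      (by rw [conj_mul, hsq, mul_one, mul_inv_cancel])
    obtain ⟨d, hd, hde⟩ := (S1225.result M hse u hu huM (s : G) (t : G) hso s.2 hto t.2).1
    refine ⟨π ⟨d, hd.1⟩, ⟨⟨d, hd.1⟩, hd, rfl⟩, ?_⟩
    rw [← ht, ← hs, ← map_inv, ← map_mul, ← map_mul]
    exact congrArg π (Subtype.ext hde)
  -- hence the class size divides the order of `D'`
  have hdvd : Nat.card {g // IsConj c g} ∣ Nat.card D' := by
    set K := (Subgroup.centralizer ({c} : Set (↥M ⧸ pPrimeCore 2 ↥M))).subgroupOf D' with hK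
    have key : Nat.card {g // IsConj c g} = K.index := by
      refine (Nat.card_congr (Equiv.ofBijective (fun x : D' ⧸ K => Quotient.liftOn' x
        (fun d : D' => (⟨(d : ↥M ⧸ pPrimeCore 2 ↥M) * c * (d : ↥M ⧸ pPrimeCore 2 ↥M)⁻¹,
          isConj_iff.2 ⟨d, rfl⟩⟩ : {g // IsConj c g})) ?_) ⟨?_, ?_⟩)).symm
      · intro a b hab
        have hmem : a⁻¹ * b ∈ K := QuotientGroup.leftRel_apply.1 hab
        have e := Subgroup.mem_centralizer_singleton_iff.1 (Subgroup.mem_subgroupOf.1 hmem)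
        refine Subtype.ext ?_
        push_cast at e
        set x := (a : ↥M ⧸ pPrimeCore 2 ↥M)
        set y := (b : ↥M ⧸ pPrimeCore 2 ↥M)
        calc x * c * x⁻¹ = x * (c * (x⁻¹ * y)) * y⁻¹ := by group
          _ = y * c * y⁻¹ := by rw [← e]; group
      · intro x₁ x₂
        refine Quotient.inductionOn₂' x₁ x₂ fun a b e => ?_
        refine Quotient.sound' (QuotientGroup.leftRel_apply.2 (Subgroup.mem_subgroupOf.2
          (Subgroup.mem_centralizer_singleton_iff.2 ?_)))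
        have e' := congrArg Subtype.val e
        simp only [Quotient.liftOn'_mk''] at e'
        push_cast
        set x := (a : ↥M ⧸ pPrimeCore 2 ↥M)
        set y := (b : ↥M ⧸ pPrimeCore 2 ↥M)
        calc x⁻¹ * y * c = x⁻¹ * (y * c * y⁻¹) * y := by group
          _ = c * (x⁻¹ * y) := by rw [← e']; group
      · rintro ⟨q, hq⟩
        obtain ⟨d, hd, e⟩ := htrans q hq
        exact ⟨Quotient.mk'' ⟨d, hd⟩, Subtype.ext e⟩
    rw [key]
    exact Subgroup.index_dvd_card _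
  have h35 : 35 ∣ Nat.card D' := by
    refine (dvd_trans ?_ hdvd)
    have hcl : Nat.card {g // IsConj c g} *
        Nat.card (Subgroup.centralizer ({c} : Set (↥M ⧸ pPrimeCore 2 ↥M))) =
        Nat.card (↥M ⧸ pPrimeCore 2 ↥M) := L34Syl83Klein.card_class c
    have h1 : 35 ∣ Nat.card {g // IsConj c g} * 192 := by
      refine dvd_trans ((show 35 ∣ 20160 by norm_num).trans hcard) ?_
      rw [← hcl]
      exact mul_dvd_mul_left _ (hC c hc hc1)
    exact (Nat.Coprime.dvd_of_dvd_mul_right (by norm_num) h1)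
  refine no_odd_35 hT.card_F (D'.map f) (by rwa [Subgroup.card_map_of_injective hf]) ?_
  rwa [Subgroup.card_map_of_injective hf]

end Chart

end Cfsg.Agent.L34Syl83
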