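import Mathlib
import Cfsg.Prelude.Def_Solvable
import Cfsg.Prelude.Def_Transfer

/-!
Interface for the three-local recognition of `PSL(4,3)` (S3373).

Indices `0..3`. `H1` fixes the column `e₀`, `H2` fixes the row `e₃`. The central element is
`z4 = 1 + E₀₃`; its centraliser is `C4 = H1 ⊓ H2`, `Q4` is the radical of `C4`; `E1`, `E2` are the
two abelian normal subgroups of `H1`, `H2` of order 27.
-/

set_option autoImplicit false

namespace Cfsg.Agent.L43Three45

open Matrix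

abbrev L4 := Matrix.SpecialLinearGroup (Fin 4) (ZMod 3)

/-- The elementary matrix `1 + c E_{ij}`. -/
def tv (i j : Fin 4) (h : i ≠ j) (c : ZMod 3) : L4 :=
  ⟨Matrix.transvection i j c, Matrix.det_transvection_of_ne i j h c⟩

/-- A diagonal matrix of determinant one with entries `±1`. -/
def sgn2 (i j : Fin 4) (h : i ≠ j) : L4 :=
  ⟨Matrix.diagonal (fun k => if k = i ∨ k = j then -1 else 1), by
    rw [Matrix.det_diagonal]; revert h i j; decide +kernel⟩

theorem col_mul {a b : L4} {c : Fin 4}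
    (hb : ∀ k, (b : Matrix (Fin 4) (Fin 4) (ZMod 3)) k c = if k = c then 1 else 0) (i : Fin 4) :
    ((a * b : L4) : Matrix (Fin 4) (Fin 4) (ZMod 3)) i c =
      (a : Matrix (Fin 4) (Fin 4) (ZMod 3)) i c := by
  rw [Matrix.SpecialLinearGroup.coe_mul, Matrix.mul_apply, Finset.sum_eq_single c]
  · rw [hb c, if_pos rfl, mul_one]
  · intro k _ hk; rw [hb k, if_neg hk, mul_zero]
  · intro h; exact absurd (Finset.mem_univ c) h

theorem row_mul {a b : L4} {r : Fin 4}
    (ha : ∀ k, (a : Matrix (Fin 4) (Fin 4) (ZMod 3)) r k = if r = k then 1 else 0) (j : Fin 4) :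
    ((a * b : L4) : Matrix (Fin 4) (Fin 4) (ZMod 3)) r j =
      (b : Matrix (Fin 4) (Fin 4) (ZMod 3)) r j := by
  rw [Matrix.SpecialLinearGroup.coe_mul, Matrix.mul_apply, Finset.sum_eq_single r]
  · rw [ha r, if_pos rfl, one_mul]
  · intro k _ hk; rw [ha k, if_neg (Ne.symm hk), zero_mul]
  · intro h; exact absurd (Finset.mem_univ r) h

theorem one_entry (i j : Fin 4) :
    ((1 : L4) : Matrix (Fin 4) (Fin 4) (ZMod 3)) i j = if i = j then 1 else 0 := by
  rw [Matrix.SpecialLinearGroup.coe_one, Matrix.one_apply]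

/-- The first column is `e₀`. -/
def H1 : Subgroup L4 where
  carrier := {g | ∀ i, (g : Matrix (Fin 4) (Fin 4) (ZMod 3)) i 0 = if i = 0 then 1 else 0}
  one_mem' := fun i => one_entry i 0
  mul_mem' := fun {a b} ha hb i => (col_mul hb i).trans (ha i)
  inv_mem' := fun {a} ha i => by
    rw [← col_mul (a := a⁻¹) ha i, inv_mul_cancel, one_entry]

/-- The last row is `e₃`. -/
def H2 : Subgroup L4 where
  carrier := {g | ∀ j, (g : Matrix (Fin 4) (Fin 4) (ZMod 3)) 3 j = if 3 = j then 1 else 0}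
  one_mem' := fun j => one_entry 3 j
  mul_mem' := fun {a b} ha hb j => (row_mul ha j).trans (hb j)
  inv_mem' := fun {a} ha j => by
    rw [← row_mul (b := a⁻¹) ha j, mul_inv_cancel, one_entry]

instance : DecidablePred (· ∈ H1) := fun g => decidable_of_iff
  (∀ i, (g : Matrix (Fin 4) (Fin 4) (ZMod 3)) i 0 = if i = 0 then 1 else 0) Iff.rfl

instance : DecidablePred (· ∈ H2) := fun g => decidable_of_iff
  (∀ j, (g : Matrix (Fin 4) (Fin 4) (ZMod 3)) 3 j = if 3 = j then 1 else 0) Iff.rfl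

/-- The model of the centraliser of the central element. -/
def C4 : Subgroup L4 := H1 ⊓ H2

/-- `1 + E₀₃`. -/
def z4 : L4 := tv 0 3 (by decide) 1

theorem z4_mem : z4 ∈ H1 := by decide +kernel

/-- The radical of `C4`. -/
def Q4 : Set L4 :=
  {g | g ∈ C4 ∧ ∀ i j : Fin 2, (g : Matrix (Fin 4) (Fin 4) (ZMod 3)) ⟨i.val + 1, by omega⟩ ⟨j.val + 1, by omega⟩
    = if i = j then 1 else 0}

/-- The abelian normal subgroup of `H1`. -/
def E1 : Subgroup L4 where
  carrier := {g | ∀ i j : Fin 4, i ≠ 0 →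
    (g : Matrix (Fin 4) (Fin 4) (ZMod 3)) i j = if i = j then 1 else 0} ∩ (H1 : Set L4)
  one_mem' := ⟨fun i j _ => one_entry i j, one_mem _⟩
  mul_mem' := fun {a b} ha hb =>
    ⟨fun i j hi => (row_mul (fun k => ha.1 i k hi) j).trans (hb.1 i j hi), mul_mem ha.2 hb.2⟩
  inv_mem' := fun {a} ha => ⟨fun i j hi => by
    rw [← row_mul (b := a⁻¹) (fun k => ha.1 i k hi) j, mul_inv_cancel, one_entry], inv_mem ha.2⟩

/-- The abelian normal subgroup of `H2`. -/
def E2 : Subgroup L4 where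
  carrier := {g | ∀ i j : Fin 4, j ≠ 3 →
    (g : Matrix (Fin 4) (Fin 4) (ZMod 3)) i j = if i = j then 1 else 0} ∩ (H2 : Set L4)
  one_mem' := ⟨fun i j _ => one_entry i j, one_mem _⟩
  mul_mem' := fun {a b} ha hb =>
    ⟨fun i j hj => (col_mul (fun k => hb.1 k j hj) i).trans (ha.1 i j hj), mul_mem ha.2 hb.2⟩
  inv_mem' := fun {a} ha => ⟨fun i j hj => by
    rw [← col_mul (a := a⁻¹) (fun k => ha.1 k j hj) i, inv_mul_cancel, one_entry], inv_mem ha.2⟩

/-- The representatives of the rank two elements of order three, the involutions. -/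
def xP : L4 := tv 0 2 (by decide) 1 * tv 1 3 (by decide) 1
def xM : L4 := tv 0 2 (by decide) 1 * tv 1 3 (by decide) (-1)
def j4 : L4 := sgn2 1 2 (by decide)
def r1 : L4 := sgn2 2 3 (by decide)
def r2 : L4 := sgn2 0 1 (by decide)
def i4 : L4 :=
  ⟨!![0, -1, 0, 0; 1, 0, 0, 0; 0, 0, 0, -1; 0, 0, 1, 0], by decide +kernel⟩
def negOne : L4 := sgn2 0 1 (by decide) * sgn2 2 3 (by decide)

theorem r1_mem : r1 ∈ H1 := by decide +kernel
theorem r2_mem : r2 ∈ H2 := by decide +kernel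

variable {G : Type*} [Group G]

/-- The central class meets the radical only in the first abelian subgroup. -/
def Isolated (φ : H1 →* G) : Prop :=
  ∀ y : H1, (y : L4) ∈ Q4 → IsConj (φ ⟨z4, z4_mem⟩) (φ y) → (y : L4) ∈ E1

/-- The first parabolic: `φ` identifies `H1` with the normaliser of the image of `E1`. -/
structure One (φ : H1 →* G) : Prop where
  inj : Function.Injective φ
  range_eq : φ.range = Subgroup.normalizer (((E1.subgroupOf H1).map φ : Subgroup G) : Set G)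
  cent : Subgroup.centralizer ({φ ⟨z4, z4_mem⟩} : Set G) = (C4.subgroupOf H1).map φ
  not_dvd : ¬ 3 ^ 7 ∣ Nat.card G
  pure : ∀ y : H1, (y : L4) ∈ Q4 → IsConj (φ ⟨z4, z4_mem⟩) (φ y) →
    (y : L4) ∈ E1 ∨ (y : L4) ∈ E2
  moves : ¬ Isolated φ → ∃ n : G,
    n ∈ Subgroup.normalizer (((E2.subgroupOf H1).map φ : Subgroup G) : Set G) ∧
      n * φ ⟨z4, z4_mem⟩ * n⁻¹ ∉ Subgroup.zpowers (φ ⟨z4, z4_mem⟩)

/-- The two parabolics. -/
structure Two (φ : H1 →* G) (φ' : H2 →* G) : Prop where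
  one : One φ
  inj' : Function.Injective φ'
  range_eq' : φ'.range = Subgroup.normalizer (((E2.subgroupOf H2).map φ' : Subgroup G) : Set G)
  agree : ∀ (g : L4) (h : g ∈ H1) (h' : g ∈ H2), φ ⟨g, h⟩ = φ' ⟨g, h'⟩
  agree_r : φ ⟨r1, r1_mem⟩ = φ' ⟨r2, r2_mem⟩

/-- The image of `SL(4,3)` with the facts about the central class. -/
structure Full (f : L4 →* G) : Prop where
  ker : ∀ g, f g = 1 ↔ g = 1 ∨ g = negOne
  cent : Subgroup.centralizer ({f z4} : Set G) ≤ f.range
  zclass : ∀ g, IsConj (f z4) (f g) → ∃ h, f g = f (h * z4 * h⁻¹)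
  not_dvd : ¬ 3 ^ 7 ∣ Nat.card G

end Cfsg.Agent.L43Three45
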