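import Mathlib
import Cfsg.Agent.Lib.L43Base45
import Cfsg.Agent.Lib.PSLCard

/-!
# Matrix facts for the amalgam of the two parabolics of `PSL(4,3)`

Entries, the exchange elements, and conjugation of elements of order three of `SL(4,3)` into the
radical `Q4`.
-/

set_option autoImplicit false
set_option linter.style.haveILetI false

namespace Cfsg.Agent.L43Three45

namespace Amalgam

open Matrix

/-- An entry. -/
abbrev ent (g : L4) (i j : Fin 4) : ZMod 3 := (g : Matrix (Fin 4) (Fin 4) (ZMod 3)) i j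

/-- The signed transposition sending `e_j` to `e_i`. -/
def wm (i j : Fin 4) (h : i ≠ j) : L4 := tv i j h 1 * tv j i h.symm (-1) * tv i j h 1

/-- The element exchanging the first two points. -/
def am : L4 := wm 1 0 (by decide)

/-- The element exchanging the middle points. -/
def bm : L4 := wm 2 1 (by decide)

/-- The element exchanging the last two points. -/
def cm : L4 := wm 3 2 (by decide)

/-- The inverse exchange of the last two points. -/
def km : L4 := wm 2 3 (by decide)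

/-- The translations. -/
def trn (c₀ c₁ c₂ : ZMod 3) : L4 :=
  tv 0 3 (by decide) c₀ * tv 1 3 (by decide) c₁ * tv 2 3 (by decide) c₂

theorem ent_mul (g k : L4) (i j : Fin 4) : ent (g * k) i j =
    ent g i 0 * ent k 0 j + ent g i 1 * ent k 1 j + ent g i 2 * ent k 2 j + ent g i 3 * ent k 3 j := by
  rw [ent, Matrix.SpecialLinearGroup.coe_mul, Matrix.mul_apply, Fin.sum_univ_four]

theorem ent_tv (i j : Fin 4) (h : i ≠ j) (c : ZMod 3) (a b : Fin 4) :
    ent (tv i j h c) a b = if a = b then 1 else if a = i ∧ b = j then c else 0 := by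
  show (Matrix.transvection i j c) a b = _
  simp only [Matrix.transvection, Matrix.add_apply, Matrix.one_apply, Matrix.single, Matrix.of_apply]
  by_cases hab : a = b
  · subst hab
    have hne : ¬(i = a ∧ j = a) := fun e => h (e.1.trans e.2.symm)
    simp [hne]
  · simp [hab, eq_comm]

theorem negOne_eq : (negOne : Matrix (Fin 4) (Fin 4) (ZMod 3)) = -1 := by decide +kernel

theorem negOne_comm (g : L4) : negOne * g = g * negOne := by
  refine Subtype.ext ?_
  show (negOne : Matrix (Fin 4) (Fin 4) (ZMod 3)) * g = g * negOne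
  rw [negOne_eq, neg_one_mul, mul_neg_one]

theorem negOne_sq : negOne * negOne = 1 := by decide +kernel

theorem ent_negOne_mul (g : L4) (i j : Fin 4) : ent (negOne * g) i j = -ent g i j := by
  show ((negOne * g : L4) : Matrix (Fin 4) (Fin 4) (ZMod 3)) i j = _
  rw [Matrix.SpecialLinearGroup.coe_mul, negOne_eq, neg_one_mul]
  rfl

theorem negOne_mul_negOne_mul (g : L4) : negOne * (negOne * g) = g := by
  rw [← mul_assoc, negOne_sq, one_mul]

theorem negOne_not_mem {g : L4} (hg : g ∈ H1) : negOne * g ∉ H1 := by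
  intro h
  have h0 := h 0
  have h1 := hg 0
  rw [if_pos rfl] at h0 h1
  have e := ent_negOne_mul g 0 0
  rw [ent, ent, h0, h1] at e
  exact absurd e (by decide)

theorem negOne_not_mem' {g : L4} (hg : g ∈ H1) {k : L4} (hk : negOne * k = g) : k ∉ H1 := fun hk' =>
  negOne_not_mem hk' (hk ▸ hg)

theorem am_mem : am ∈ H2 := by decide +kernel
theorem bm_mem1 : bm ∈ H1 := by decide +kernel
theorem bm_mem2 : bm ∈ H2 := by decide +kernel
theorem cm_mem : cm ∈ H1 := by decide +kernel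
theorem km_mem : km ∈ H1 := by decide +kernel

theorem tv_mem1 (i j : Fin 4) (h : i ≠ j) (hj : j ≠ 0) (c : ZMod 3) : tv i j h c ∈ H1 := by
  intro k
  show (Matrix.transvection i j c) k 0 = _
  simp [Matrix.transvection, Matrix.one_apply, Matrix.single, hj]

theorem tv_mem2 (i j : Fin 4) (h : i ≠ j) (hi : i ≠ 3) (c : ZMod 3) : tv i j h c ∈ H2 := by
  intro k
  show (Matrix.transvection i j c) 3 k = _
  simp [Matrix.transvection, Matrix.one_apply, Matrix.single, hi]

theorem trn_mem1 (c₀ c₁ c₂ : ZMod 3) : trn c₀ c₁ c₂ ∈ H1 :=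
  mul_mem (mul_mem (tv_mem1 _ _ _ (by decide) _) (tv_mem1 _ _ _ (by decide) _))
    (tv_mem1 _ _ _ (by decide) _)

theorem trn_mem2 (c₀ c₁ c₂ : ZMod 3) : trn c₀ c₁ c₂ ∈ H2 :=
  mul_mem (mul_mem (tv_mem2 _ _ _ (by decide) _) (tv_mem2 _ _ _ (by decide) _))
    (tv_mem2 _ _ _ (by decide) _)

theorem trn_conj : ∀ c₀ c₁ c₂ : ZMod 3, am * trn c₀ c₁ c₂ = trn (-c₁) c₀ c₂ * am ∨
    am * trn c₀ c₁ c₂ = trn c₁ (-c₀) c₂ * am := by decide +kernel

theorem tv03_conj : ∀ c : ZMod 3,
    km * tv 0 3 (by decide) c = tv 0 2 (by decide) c * km ∧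
    am * tv 0 2 (by decide) c = tv 1 2 (by decide) c * am ∧
    am * tv 0 3 (by decide) c = tv 1 3 (by decide) c * am ∧
    km * tv 1 3 (by decide) c = tv 1 2 (by decide) c * km := by decide +kernel

theorem root_conj : km * tv 0 1 (by decide) 1 = tv 0 1 (by decide) 1 * km ∧
    am * tv 0 1 (by decide) 1 = tv 1 0 (by decide) (-1) * am ∧
    am * tv 2 3 (by decide) 1 = tv 2 3 (by decide) 1 * am ∧
    km * tv 2 3 (by decide) 1 = tv 3 2 (by decide) (-1) * km := by decide +kernel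

theorem torus_conj : ∀ c : ZMod 3,
    r1 * tv 1 2 (by decide) c = tv 1 2 (by decide) (-c) * r1 := by decide +kernel

theorem torus_fix : r2 * tv 1 0 (by decide) (-1) = tv 1 0 (by decide) (-1) * r2 ∧
    r1 * tv 3 2 (by decide) (-1) = tv 3 2 (by decide) (-1) * r1 ∧ r2 * am = am * r2 := by
  decide +kernel

theorem tv_inj : ∀ c : ZMod 3, tv 1 2 (by decide) c = tv 1 2 (by decide) (-c) → c = 0 := by
  decide +kernel

theorem tv_zero : tv 1 2 (by decide) (0 : ZMod 3) = 1 := by decide +kernel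

theorem am_fac : am = (tv 1 0 (by decide) (-1))⁻¹ * tv 0 1 (by decide) (-1) *
    (tv 1 0 (by decide) (-1))⁻¹ := by decide +kernel

theorem cm_fac : cm = (tv 3 2 (by decide) (-1))⁻¹ * tv 2 3 (by decide) (-1) *
    (tv 3 2 (by decide) (-1))⁻¹ := by decide +kernel

theorem am_comm : am * tv 3 2 (by decide) (-1) = tv 3 2 (by decide) (-1) * am ∧
    am * tv 2 3 (by decide) (-1) = tv 2 3 (by decide) (-1) * am ∧
    tv 0 1 (by decide) (-1) * tv 3 2 (by decide) (-1) =
      tv 3 2 (by decide) (-1) * tv 0 1 (by decide) (-1) ∧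
    am * cm = cm * am := by decide +kernel

theorem tv32_pow : ∀ c : ZMod 3, tv 3 2 (by decide) c = tv 3 2 (by decide) (-1) ^ (2 * c.val) := by
  decide +kernel

/-- An element of `H1 ∩ H2` has a unipotent-free middle block acting through `H1` and `H2`. -/
theorem C4_entries {g : L4} (hg : g ∈ C4) :
    ent g 0 0 = 1 ∧ ent g 1 0 = 0 ∧ ent g 2 0 = 0 ∧ ent g 3 0 = 0 ∧
      ent g 3 1 = 0 ∧ ent g 3 2 = 0 ∧ ent g 3 3 = 1 :=
  ⟨hg.1 0, hg.1 1, hg.1 2, hg.1 3, hg.2 1, hg.2 2, hg.2 3⟩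

theorem Q4_entries {g : L4} (hg : g ∈ Q4) :
    ent g 1 1 = 1 ∧ ent g 1 2 = 0 ∧ ent g 2 1 = 0 ∧ ent g 2 2 = 1 :=
  ⟨hg.2 0 0, hg.2 0 1, hg.2 1 0, hg.2 1 1⟩

theorem mid_mul {g k : L4} (hg : g ∈ C4) (hk : k ∈ C4) {a b : Fin 4} (ha : a = 1 ∨ a = 2)
    (hb : b = 1 ∨ b = 2) : ent (g * k) a b = ent g a 1 * ent k 1 b + ent g a 2 * ent k 2 b := by
  obtain ⟨-, g10, g20, -, -, -, -⟩ := C4_entries hg
  obtain ⟨-, -, -, -, k31, k32, -⟩ := C4_entries hk
  rw [ent_mul]
  rcases ha with rfl | rfl <;> rcases hb with rfl | rfl <;> simp [g10, g20, k31, k32]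

theorem Q4_conj {c q : L4} (hc : c ∈ C4) (hq : q ∈ Q4) : c * q * c⁻¹ ∈ Q4 := by
  refine ⟨mul_mem (mul_mem hc hq.1) (inv_mem hc), fun i j => ?_⟩
  obtain ⟨q11, q12, q21, q22⟩ := Q4_entries hq
  have hm : ∀ a b : Fin 4, (a = 1 ∨ a = 2) → (b = 1 ∨ b = 2) →
      ent (c * q * c⁻¹) a b = if a = b then 1 else 0 := by
    intro a b ha hb
    rw [mid_mul (mul_mem hc hq.1) (inv_mem hc) ha hb, mid_mul hc hq.1 ha (Or.inl rfl),
      mid_mul hc hq.1 ha (Or.inr rfl), q11, q12, q21, q22]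
    have e := mid_mul hc (inv_mem hc) ha hb
    rw [mul_inv_cancel, show ent (1 : L4) a b = _ from one_entry a b] at e
    rw [e]
    ring
  have := hm ⟨i.val + 1, by omega⟩ ⟨j.val + 1, by omega⟩
    (by fin_cases i <;> simp) (by fin_cases j <;> simp)
  exact this.trans (by simp [Fin.ext_iff])

theorem Q4_comm {q : L4} (hq : q ∈ Q4) :
    tv 0 1 (by decide) 1 * q = tv 0 3 (by decide) (ent q 1 3) * q * tv 0 1 (by decide) 1 := by
  obtain ⟨q00, q10, q20, q30, q31, q32, q33⟩ := C4_entries hq.1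
  obtain ⟨q11, q12, q21, q22⟩ := Q4_entries hq
  refine Subtype.ext (Matrix.ext fun i j => ?_)
  show ent (tv 0 1 (by decide) 1 * q) i j =
    ent (tv 0 3 (by decide) (ent q 1 3) * q * tv 0 1 (by decide) 1) i j
  fin_cases i <;> fin_cases j <;>
    simp [ent_mul, ent_tv, q00, q10, q20, q30, q31, q32, q33, q11, q12, q21, q22] <;> ring

/-- An element with first column `e₀` and prescribed second column. -/
def cand (v : Fin 4 → ZMod 3) : Matrix (Fin 4) (Fin 4) (ZMod 3) :=
  if v 1 ≠ 0 then !![1, v 0, 0, 0; 0, v 1, 0, 0; 0, v 2, v 1, 0; 0, v 3, 0, 1]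
  else if v 2 ≠ 0 then !![1, v 0, 0, 0; 0, v 1, -v 2, 0; 0, v 2, 0, 0; 0, v 3, 0, 1]
  else !![1, v 0, 0, 0; 0, v 1, 0, -v 3; 0, v 2, 1, 0; 0, v 3, 0, 0]

theorem cand_spec : ∀ v : Fin 4 → ZMod 3, (v 1 = 0 → v 2 = 0 → v 3 ≠ 0) →
    (cand v).det = 1 ∧ (∀ i, cand v i 1 = v i) ∧ (∀ i, cand v i 0 = if i = 0 then 1 else 0) ∧
      (v 3 = 0 → ∀ j, cand v 3 j = if 3 = j then 1 else 0) := by decide +kernel

/-- A point off the hyperplane. -/
theorem far_point : ∀ v : Fin 4 → ZMod 3, v 3 ≠ 0 → ∃ c₀ c₁ c₂ : ZMod 3, ∃ e : Bool,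
    ∀ i, v i = (if e then -1 else 1) * ent (trn c₀ c₁ c₂ * cm * bm) i 1 := by decide +kernel

/-- The last rows of the stabiliser of two points. -/
def krow (x y : ZMod 3) : L4 :=
  if y = 1 then tv 3 2 (by decide) x
  else if y = -1 then r1 * tv 3 2 (by decide) (-x)
  else tv 3 2 (by decide) x * tv 2 3 (by decide) (-x)

theorem krow_spec : ∀ x y : ZMod 3, x ≠ 0 ∨ y ≠ 0 →
    ent (krow x y) 3 0 = 0 ∧ ent (krow x y) 3 1 = 0 ∧ ent (krow x y) 3 2 = x ∧
      ent (krow x y) 3 3 = y ∧ ∀ i, ent (krow x y) i 1 = if i = 1 then 1 else 0 := by decide +kernel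

theorem krow_mem (x y : ZMod 3) : krow x y ∈ H1 := by
  unfold krow
  split_ifs
  · exact tv_mem1 _ _ _ (by decide) _
  · exact mul_mem r1_mem (tv_mem1 _ _ _ (by decide) _)
  · exact mul_mem (tv_mem1 _ _ _ (by decide) _) (tv_mem1 _ _ _ (by decide) _)

theorem am_col : ∀ i, ent am i 0 = if i = 1 then 1 else 0 := by decide +kernel

theorem am_inv_row : ent am⁻¹ 0 0 = 0 ∧ ent am⁻¹ 0 1 = 1 ∧ ent am⁻¹ 1 1 = 0 ∧ ent am⁻¹ 2 1 = 0 ∧
    ent am⁻¹ 3 1 = 0 := by decide +kernel

theorem ent_mul_am (g : L4) (i : Fin 4) : ent (g * am) i 0 = ent g i 1 := by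
  rw [ent_mul, am_col, am_col, am_col, am_col]
  simp

/-- Conjugating by `am` an element fixing both points gives an element fixing both points. -/
theorem stab_conj {η : L4} (hη : η ∈ H1) (h1 : ent η 0 1 = 0 ∧ ent η 2 1 = 0 ∧ ent η 3 1 = 0) :
    am⁻¹ * η * am ∈ H1 ∨ negOne * (am⁻¹ * η * am) ∈ H1 := by
  obtain ⟨a00, a01, a11, a21, a31⟩ := am_inv_row
  have hcol : ∀ i, ent (am⁻¹ * η * am) i 0 = if i = 0 then ent η 1 1 else 0 := by
    intro i
    rw [mul_assoc, ent_mul, ent_mul_am, ent_mul_am, ent_mul_am, ent_mul_am, h1.1, h1.2.1, h1.2.2]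
    fin_cases i <;> simp [a01, a11, a21, a31]
  -- `η` is invertible and its second column is `(0, η₁₁, 0, 0)`
  have hne : ent η 1 1 ≠ 0 := by
    intro h0
    have h := ent_mul η⁻¹ η 1 1
    rw [inv_mul_cancel, h1.1, h1.2.1, h1.2.2, h0] at h
    simp [ent, one_entry] at h
  rcases (show ∀ x : ZMod 3, x ≠ 0 → x = 1 ∨ x = -1 by decide) _ hne with e | e
  · left; intro i
    have := hcol i
    rw [e] at this
    exact this
  · right; intro i
    have := hcol i
    rw [e] at this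
    show ent (negOne * (am⁻¹ * η * am)) i 0 = _
    rw [ent_negOne_mul, this]
    split_ifs <;> simp

/-- The second column of an element of `H1` is not a multiple of the first. -/
theorem second_col {η : L4} (hη : η ∈ H1) : ent η 1 1 = 0 → ent η 2 1 = 0 → ent η 3 1 ≠ 0 := by
  intro h1 h2 h3
  have h := ent_mul η⁻¹ η 1 1
  rw [inv_mul_cancel, h1, h2, h3, show ent η⁻¹ 1 0 = 0 from inv_mem hη 1] at h
  simp [ent, one_entry] at h


/-- The upper unitriangular matrices. -/
def U4 : Subgroup L4 where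
  carrier := {g | ∀ i j : Fin 4, j ≤ i → ent g i j = if i = j then 1 else 0}
  one_mem' := fun i j _ => one_entry i j
  mul_mem' := fun {a b} ha hb i j hij => by
    rw [ent_mul]
    have hh : ∀ k : Fin 4, ent a i k * ent b k j = if k = i ∧ k = j then 1 else 0 := by
      intro k
      rcases lt_trichotomy k i with hk | hk | hk
      · rw [ha i k hk.le, if_neg (Ne.symm hk.ne), zero_mul, if_neg (fun e => hk.ne e.1)]
      · subst hk
        rw [ha k k le_rfl, if_pos rfl, one_mul, hb k j hij]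
        simp
      · rw [hb k j (hij.trans hk.le), if_neg (fun e => absurd hk (not_lt.2 (e.le.trans hij))), mul_zero,
          if_neg (fun e => hk.ne' e.1)]
    rw [hh, hh, hh, hh]
    revert hij i j
    intro i j _
    fin_cases i <;> fin_cases j <;> simp
  inv_mem' := fun {a} ha => by
    have key : ∀ n : ℕ, ∀ i j : Fin 4, j ≤ i → ent (a ^ n) i j = if i = j then 1 else 0 := by
      intro n
      induction n with
      | zero => intro i j _; rw [pow_zero]; exact one_entry i j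
      | succ n ih =>
        intro i j hij
        rw [pow_succ, ent_mul]
        have hh : ∀ k : Fin 4, ent (a ^ n) i k * ent a k j = if k = i ∧ k = j then 1 else 0 := by
          intro k
          rcases lt_trichotomy k i with hk | hk | hk
          · rw [ih i k hk.le, if_neg (Ne.symm hk.ne), zero_mul, if_neg (fun e => hk.ne e.1)]
          · subst hk
            rw [ih k k le_rfl, if_pos rfl, one_mul, ha k j hij]
            simp
          · rw [ha k j (hij.trans hk.le), if_neg (fun e => absurd hk (not_lt.2 (e.le.trans hij))), mul_zero,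
              if_neg (fun e => hk.ne' e.1)]
        rw [hh, hh, hh, hh]
        revert hij
        fin_cases i <;> fin_cases j <;> simp
    intro i j hij
    have e : a⁻¹ = a ^ (orderOf a - 1) := by
      refine inv_eq_of_mul_eq_one_right ?_
      rw [← pow_succ', Nat.sub_add_cancel (orderOf_pos a), pow_orderOf_eq_one]
    rw [e]
    exact key _ i j hij

/-- An upper unitriangular matrix from its entries. -/
def umat (p : ZMod 3 × ZMod 3 × ZMod 3 × ZMod 3 × ZMod 3 × ZMod 3) : L4 :=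
  ⟨!![1, p.1, p.2.1, p.2.2.1; 0, 1, p.2.2.2.1, p.2.2.2.2.1; 0, 0, 1, p.2.2.2.2.2; 0, 0, 0, 1], by
    simp [Matrix.det_succ_row_zero, Fin.sum_univ_succ, Fin.succAbove]⟩

theorem ent_umat (p : ZMod 3 × ZMod 3 × ZMod 3 × ZMod 3 × ZMod 3 × ZMod 3) (i j : Fin 4) :
    ent (umat p) i j =
      !![1, p.1, p.2.1, p.2.2.1; 0, 1, p.2.2.2.1, p.2.2.2.2.1; 0, 0, 1, p.2.2.2.2.2; 0, 0, 0, 1] i j :=
  rfl

theorem card_U4 : Nat.card U4 = 729 := by
  have hmem : ∀ p, umat p ∈ U4 := by
    intro p i j hij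
    fin_cases i <;> fin_cases j <;> first | exact absurd hij (by decide) | simp [umat, ent]
  rw [← Nat.card_congr (Equiv.ofBijective (fun p => (⟨umat p, hmem p⟩ : U4)) ⟨?_, ?_⟩)]
  · simp [Nat.card_eq_fintype_card]
  · intro p q e
    have hh : ∀ i j, ent (umat p) i j = ent (umat q) i j := fun i j =>
      congrArg (fun x : U4 => ent x.1 i j) e
    have h01 := hh 0 1
    have h02 := hh 0 2
    have h03 := hh 0 3
    have h12 := hh 1 2
    have h13 := hh 1 3
    have h23 := hh 2 3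
    simp [umat, ent] at h01 h02 h03 h12 h13 h23
    simp [Prod.ext_iff, h01, h02, h03, h12, h13, h23]
  · rintro ⟨g, hg⟩
    refine ⟨(ent g 0 1, ent g 0 2, ent g 0 3, ent g 1 2, ent g 1 3, ent g 2 3), Subtype.ext ?_⟩
    refine Subtype.ext (Matrix.ext fun i j => ?_)
    have := hg i j
    fin_cases i <;> fin_cases j <;> simp [umat, ent] <;> first | rfl | exact (this (by decide)).symm

theorem exists_conj_U4 {g : L4} (hg : g ^ 3 = 1) : ∃ k : L4, k * g * k⁻¹ ∈ U4 := by
  haveI : Fact (Nat.Prime 3) := ⟨by norm_num⟩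
  haveI : Fact (Nat.Prime (Nat.succ 2)) := ⟨by norm_num⟩
  obtain ⟨P, hP⟩ := (IsPGroup.of_card (n := 6) (by rw [card_U4]; norm_num) :
    IsPGroup 3 U4).exists_le_sylow
  have hL : Nat.card L4 = 12130560 := by
    have h2 := Cfsg.Agent.PSLCard.card_SL (F := ZMod 3) 4
    rw [Nat.card_zmod, Fin.prod_univ_four] at h2
    norm_num [Nat.card_eq_fintype_card, L4] at h2 ⊢
    omega
  have hPU : (P : Subgroup L4) = U4 := by
    refine (Subgroup.eq_of_le_of_card_ge hP ?_).symm
    obtain ⟨k, hk⟩ := IsPGroup.iff_card.1 P.2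
    have hd := Subgroup.card_subgroup_dvd_card (P : Subgroup L4)
    rw [hL, hk] at hd
    rw [hk, card_U4]
    by_contra hlt
    have h7 : 7 ≤ k := by
      by_contra h6
      exact hlt (le_trans (Nat.pow_le_pow_right (by norm_num) (show k ≤ 6 by omega)) (by norm_num))
    exact absurd ((pow_dvd_pow 3 h7).trans hd) (by norm_num)
  obtain ⟨m, hm⟩ := IsPGroup.iff_card.1 P.2
  have hz : IsPGroup 3 (Subgroup.zpowers g) := by
    rintro ⟨_, i, rfl⟩
    refine ⟨1, Subtype.ext ?_⟩
    show (g ^ i) ^ (3 ^ 1) = 1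
    rw [pow_one, ← zpow_natCast, ← _root_.zpow_mul, mul_comm, _root_.zpow_mul, zpow_natCast, hg, _root_.one_zpow]
  obtain ⟨R, hR⟩ := hz.exists_le_sylow
  obtain ⟨k, hk⟩ := MulAction.exists_smul_eq L4 R P
  refine ⟨k, hPU ▸ ?_⟩
  rw [← hk, Sylow.coe_subgroup_smul]
  exact ⟨g, hR (Subgroup.mem_zpowers g), rfl⟩

/-- An element of order three of `U4` is conjugate into `Q4`. -/
theorem exists_conj_Q4 {g : L4} (hg : g ^ 3 = 1) : ∃ k : L4, k * g * k⁻¹ ∈ Q4 := by
  obtain ⟨k₀, hk₀⟩ := exists_conj_U4 hg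
  suffices key : ∀ x : L4, x ∈ U4 → x ^ 3 = 1 → ∃ k : L4, k * x * k⁻¹ ∈ Q4 by
    obtain ⟨k, hk⟩ := key _ hk₀ (by rw [conj_pow, hg]; group)
    refine ⟨k * k₀, ?_⟩
    rwa [show k * k₀ * g * (k * k₀)⁻¹ = k * (k₀ * g * k₀⁻¹) * k⁻¹ by group]
  intro x hx hx3
  have mQ : ∀ y : L4, y ∈ U4 → ent y 1 2 = 0 → y ∈ Q4 := by
    intro y hy h12
    refine ⟨⟨fun i => hy i 0 (Fin.zero_le _), fun j => hy 3 j (Fin.le_last _)⟩, fun i j => ?_⟩
    fin_cases i <;> fin_cases j
    · exact hy 1 1 le_rfl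
    · exact h12
    · exact hy 2 1 (by decide)
    · exact hy 2 2 le_rfl
  have x00 : ent x 0 0 = 1 := hx 0 0 le_rfl
  have x10 : ent x 1 0 = 0 := hx 1 0 (by decide)
  have x11 : ent x 1 1 = 1 := hx 1 1 le_rfl
  have x20 : ent x 2 0 = 0 := hx 2 0 (by decide)
  have x21 : ent x 2 1 = 0 := hx 2 1 (by decide)
  have x22 : ent x 2 2 = 1 := hx 2 2 le_rfl
  have x30 : ent x 3 0 = 0 := hx 3 0 (by decide)
  have x31 : ent x 3 1 = 0 := hx 3 1 (by decide)
  have x32 : ent x 3 2 = 0 := hx 3 2 (by decide)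
  have x33 : ent x 3 3 = 1 := hx 3 3 le_rfl
  have hprod : ent x 0 1 * ent x 1 2 * ent x 2 3 = 0 := by
    have e := congrArg (fun y : L4 => ent y 0 3) hx3
    simp only [pow_succ, pow_zero, one_mul, ent_mul, x00, x10, x11, x20, x21, x22, x30, x31, x32,
      x33, show ent (1 : L4) 0 3 = 0 from one_entry 0 3] at e
    have h3 : (3 : ZMod 3) = 0 := by decide
    linear_combination e - (ent x 0 3 + ent x 0 1 * ent x 1 3 + ent x 0 2 * ent x 2 3) * h3
  by_cases h12 : ent x 1 2 = 0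
  · exact ⟨1, by rw [one_mul, inv_one, mul_one]; exact mQ x hx h12⟩
  rcases (mul_eq_zero.1 hprod) with h' | h23
  · have h01 : ent x 0 1 = 0 := (mul_eq_zero.1 h').resolve_right h12
    set t := -(ent x 0 2) * ent x 1 2 with ht
    have hsq : ent x 1 2 * ent x 1 2 = 1 :=
      (show ∀ a : ZMod 3, a ≠ 0 → a * a = 1 by decide) _ h12
    refine ⟨am * tv 0 1 (by decide) t, ?_⟩
    have key : ∀ y : L4, y = am * tv 0 1 (by decide) t * x * (am * tv 0 1 (by decide) t)⁻¹ →
        y ∈ Q4 := by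
      intro y hy
      have e : y * (am * tv 0 1 (by decide) t) = am * tv 0 1 (by decide) t * x := by
        rw [hy, inv_mul_cancel_right]
      set x' : L4 := umat (0, -ent x 1 2, -ent x 1 3,
        0, ent x 0 3 + t * ent x 1 3, ent x 2 3) with hx'
      have e' : x' * (am * tv 0 1 (by decide) t) = am * tv 0 1 (by decide) t * x := by
        have ht2 : ent x 0 2 + t * ent x 1 2 = 0 := by
          rw [ht]; linear_combination -(ent x 0 2) * hsq
        refine Subtype.ext (Matrix.ext fun i j => ?_)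
        show ent (x' * (am * tv _ _ _ t)) i j = ent (am * tv _ _ _ t * x) i j
        simp only [hx', am, wm]
        fin_cases i <;> fin_cases j <;>
          simp [ent_mul, ent_tv, ent_umat, x00, x10, x11, x20, x21, x22, x30, x31, x32, x33, h01] <;>
          first | ring1 | linear_combination ht2 | linear_combination -ht2
      rw [mul_right_cancel (e.trans e'.symm)]
      refine mQ _ ?_ ?_
      · intro i j hij
        fin_cases i <;> fin_cases j <;> first | exact absurd hij (by decide) | simp [hx', umat, ent]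
      · simp [hx', umat, ent]
    exact key _ rfl
  · set t := ent x 1 3 * ent x 1 2 with ht
    have hsq : ent x 1 2 * ent x 1 2 = 1 :=
      (show ∀ a : ZMod 3, a ≠ 0 → a * a = 1 by decide) _ h12
    refine ⟨cm * tv 2 3 (by decide) t, ?_⟩
    have key : ∀ y : L4, y = cm * tv 2 3 (by decide) t * x * (cm * tv 2 3 (by decide) t)⁻¹ →
        y ∈ Q4 := by
      intro y hy
      have e : y * (cm * tv 2 3 (by decide) t) = cm * tv 2 3 (by decide) t * x := by
        rw [hy, inv_mul_cancel_right]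
      set x' : L4 := umat (ent x 0 1, -(ent x 0 3 - t * ent x 0 2), ent x 0 2,
        0, ent x 1 2, 0) with hx'
      have e' : x' * (cm * tv 2 3 (by decide) t) = cm * tv 2 3 (by decide) t * x := by
        have ht2 : ent x 1 3 - t * ent x 1 2 = 0 := by
          rw [ht]; linear_combination -(ent x 1 3) * hsq
        refine Subtype.ext (Matrix.ext fun i j => ?_)
        show ent (x' * (cm * tv _ _ _ t)) i j = ent (cm * tv _ _ _ t * x) i j
        simp only [hx', cm, wm]
        fin_cases i <;> fin_cases j <;>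
          simp [ent_mul, ent_tv, ent_umat, x00, x10, x11, x20, x21, x22, x30, x31, x32, x33, h23] <;>
          first | ring1 | linear_combination ht2 | linear_combination -ht2
      rw [mul_right_cancel (e.trans e'.symm)]
      refine mQ _ ?_ ?_
      · intro i j hij
        fin_cases i <;> fin_cases j <;> first | exact absurd hij (by decide) | simp [hx', umat, ent]
      · simp [hx', umat, ent]
    exact key _ rfl

/-- Conjugators of `z4` to the transvections in the first row. -/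
def rowConj (v : Fin 3 → ZMod 3) : L4 :=
  if h : v 2 ≠ 0 then ⟨!![v 2, 0, 0, 0; 0, v 2, 0, 0; 0, 0, 1, 0; 0, -v 0, -(v 2 * v 1), 1], by
    revert h; revert v; decide +kernel⟩
  else if h : v 1 ≠ 0 then ⟨!![v 1, 0, 0, 0; 0, v 1, 0, 0; 0, -v 0, 0, 1; 0, 0, -1, 0], by
    revert h; revert v; decide +kernel⟩
  else if h : v 0 ≠ 0 then ⟨!![v 0, 0, 0, 0; 0, 0, 0, 1; 0, 0, 1, 0; 0, -v 0, 0, 0], by
    revert h; revert v; decide +kernel⟩
  else 1

theorem E1_rows : ∀ v : Fin 3 → ZMod 3, v ≠ 0 → ∃ k ∈ ({1, negOne} : Finset L4),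
    k * (rowConj v * z4 * (rowConj v)⁻¹) = tv 0 1 (by decide) (v 0) * tv 0 2 (by decide) (v 1) *
      tv 0 3 (by decide) (v 2) := by decide +kernel

/-- The reversal of rows and columns composed with inversion and transposition. -/
def rev (g : L4) : L4 :=
  ⟨((g⁻¹ : L4) : Matrix (Fin 4) (Fin 4) (ZMod 3)).transpose.submatrix Fin.rev Fin.rev, by
    rw [show (Fin.rev : Fin 4 → Fin 4) = ⇑(Fin.revPerm : Equiv.Perm (Fin 4)) from rfl,
      Matrix.det_submatrix_equiv_self, Matrix.det_transpose, Matrix.SpecialLinearGroup.det_coe]⟩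

theorem ent_rev (g : L4) (i j : Fin 4) : ent (rev g) i j = ent g⁻¹ j.rev i.rev := rfl

theorem rev_mul (g k : L4) : rev (g * k) = rev g * rev k := by
  refine Subtype.ext (Matrix.ext fun i j => ?_)
  show ent (rev (g * k)) i j = ent (rev g * rev k) i j
  rw [ent_mul, ent_rev, ent_rev, ent_rev, ent_rev, ent_rev, ent_rev, ent_rev, ent_rev, ent_rev,
    _root_.mul_inv_rev, ent_mul, show Fin.rev (0 : Fin 4) = 3 from rfl,
    show Fin.rev (1 : Fin 4) = 2 from rfl, show Fin.rev (2 : Fin 4) = 1 from rfl,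
    show Fin.rev (3 : Fin 4) = 0 from rfl]
  ring

theorem rev_z4 : rev z4 = tv 0 3 (by decide) (-1) := by decide +kernel

theorem rev_one : rev 1 = 1 := by decide +kernel

theorem rev_negOne : rev negOne = negOne := by decide +kernel

theorem z4_inv_conj : ∃ k : L4, k * tv 0 3 (by decide) (-1) * k⁻¹ = z4 :=
  ⟨sgn2 0 1 (by decide), by decide +kernel⟩

theorem E1_zclass {y : L4} (hy : y ∈ E1) (hy1 : y ≠ 1) :
    ∃ k : L4, y = k * z4 * k⁻¹ ∨ y = negOne * (k * z4 * k⁻¹) := by
  set v : Fin 3 → ZMod 3 := fun i => ent y 0 i.succ with hv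
  have e : y = tv 0 1 (by decide) (v 0) * tv 0 2 (by decide) (v 1) * tv 0 3 (by decide) (v 2) := by
    refine Subtype.ext (Matrix.ext fun i j => ?_)
    show ent y i j = ent (tv 0 1 (by decide) (v 0) * tv 0 2 (by decide) (v 1) *
      tv 0 3 (by decide) (v 2)) i j
    have h00 : ent y 0 0 = 1 := hy.2 0
    simp only [hv]
    by_cases hi : i = 0
    · subst hi
      fin_cases j <;> simp [ent_mul, ent_tv, h00]
    · rw [show ent y i j = _ from hy.1 i j hi]
      fin_cases i <;> fin_cases j <;> simp [ent_mul, ent_tv] at hi ⊢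
  have hv0 : v ≠ 0 := fun h0 => hy1 (by
    rw [e, h0]
    simp only [Pi.zero_apply]
    decide +kernel)
  obtain ⟨k, hk, hk'⟩ := E1_rows v hv0
  refine ⟨rowConj v, ?_⟩
  rw [← e] at hk'
  simp only [Finset.mem_insert, Finset.mem_singleton] at hk
  rcases hk with rfl | rfl
  · exact Or.inl (by rw [← hk', one_mul])
  · exact Or.inr hk'.symm

theorem rev_inv (g : L4) : rev g⁻¹ = (rev g)⁻¹ :=
  eq_inv_of_mul_eq_one_left (by rw [← rev_mul, inv_mul_cancel, rev_one])

theorem rev_rev (g : L4) : rev (rev g) = g := by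
  refine Subtype.ext ?_
  have e : (rev g)⁻¹ = rev g⁻¹ := (rev_inv g).symm
  show ((rev g)⁻¹ : L4).1.transpose.submatrix Fin.rev Fin.rev = g.1
  rw [e]
  simp only [rev, inv_inv]
  ext i j
  simp [Fin.rev_rev]

theorem E2_zclass {y : L4} (hy : y ∈ E2) (hy1 : y ≠ 1) :
    ∃ k : L4, y = k * z4 * k⁻¹ ∨ y = negOne * (k * z4 * k⁻¹) := by
  have hinv : y⁻¹ ∈ E2 := inv_mem hy
  have hm : rev y ∈ E1 := by
    refine ⟨fun i j hi => ?_, fun i => ?_⟩
    · show (y⁻¹ : L4).1 (Fin.rev j) (Fin.rev i) = _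
      rw [hinv.1 (Fin.rev j) (Fin.rev i) (fun e => hi (by
        have := congrArg Fin.rev e; rwa [Fin.rev_rev] at this))]
      simp [eq_comm]
    · show ent y⁻¹ 3 (Fin.rev i) = _
      rw [show ent y⁻¹ 3 (Fin.rev i) = _ from hinv.2 (Fin.rev i)]
      revert i; decide
  obtain ⟨k, hk⟩ := E1_zclass hm fun e => hy1 (by rw [← rev_rev y, e, rev_one])
  obtain ⟨s, hs⟩ := z4_inv_conj
  refine ⟨rev k * s⁻¹, ?_⟩
  have e2 : rev k * tv 0 3 (by decide) (-1) * (rev k)⁻¹ = rev k * s⁻¹ * z4 * (rev k * s⁻¹)⁻¹ := by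
    rw [← hs]; group
  rcases hk with hk | hk
  · left
    rw [← e2, ← rev_z4, ← rev_inv, ← rev_mul, ← rev_mul, ← hk, rev_rev]
  · right
    rw [← e2, ← rev_z4, ← rev_inv, ← rev_mul, ← rev_mul, ← rev_negOne, ← rev_mul, ← hk, rev_rev]

end Amalgam

end Cfsg.Agent.L43Three45
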