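import Mathlib
import Cfsg.Agent.Lib.L43AmalgamBase68

/-!
# The amalgam of the two parabolics of `PSL(4,3)`

`exists_full`: two parabolics agreeing on their intersection extend to `SL(4,3)`. The only relation
not inside one parabolic is that the root groups `(1,0)` and `(3,2)` commute; the rest is a case
distinction on the forty points.
-/

set_option autoImplicit false
set_option linter.style.haveILetI false

namespace Cfsg.Agent.L43Three45

open Amalgam

section Build

variable {G : Type*} [Group G] [Finite G] {φ : H1 →* G} {φ' : H2 →* G}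

open Classical in
/-- `φ` extended by `1`. -/
noncomputable def phi1 (φ : H1 →* G) (g : L4) : G := if h : g ∈ H1 then φ ⟨g, h⟩ else 1

open Classical in
/-- `φ'` extended by `1`. -/
noncomputable def phi2 (φ' : H2 →* G) (g : L4) : G := if h : g ∈ H2 then φ' ⟨g, h⟩ else 1

theorem phi1_eq {g : L4} (h : g ∈ H1) : phi1 φ g = φ ⟨g, h⟩ := dif_pos h

theorem phi2_eq {g : L4} (h : g ∈ H2) : phi2 φ' g = φ' ⟨g, h⟩ := dif_pos h

theorem phi1_mul {g k : L4} (hg : g ∈ H1) (hk : k ∈ H1) : phi1 φ (g * k) = phi1 φ g * phi1 φ k := by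
  rw [phi1_eq (mul_mem hg hk), phi1_eq hg, phi1_eq hk, ← map_mul]; rfl

theorem phi2_mul {g k : L4} (hg : g ∈ H2) (hk : k ∈ H2) :
    phi2 φ' (g * k) = phi2 φ' g * phi2 φ' k := by
  rw [phi2_eq (mul_mem hg hk), phi2_eq hg, phi2_eq hk, ← map_mul]; rfl

theorem phi1_one : phi1 φ 1 = 1 := by rw [phi1_eq (one_mem _)]; exact map_one φ

theorem phi1_inv {g : L4} (hg : g ∈ H1) : phi1 φ g⁻¹ = (phi1 φ g)⁻¹ :=
  eq_inv_of_mul_eq_one_left (by rw [← phi1_mul (inv_mem hg) hg, inv_mul_cancel, phi1_one])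

theorem phi2_inv {g : L4} (hg : g ∈ H2) : phi2 φ' g⁻¹ = (phi2 φ' g)⁻¹ :=
  eq_inv_of_mul_eq_one_left (by
    rw [← phi2_mul (inv_mem hg) hg, inv_mul_cancel, phi2_eq (one_mem _)]; exact map_one φ')

theorem phi1_comm {g k k' : L4} (hg : g ∈ H1) (hk : k ∈ H1) (hk' : k' ∈ H1) (e : g * k = k' * g) :
    phi1 φ g * phi1 φ k = phi1 φ k' * phi1 φ g := by
  rw [← phi1_mul hg hk, e, phi1_mul hk' hg]

theorem phi2_comm {g k k' : L4} (hg : g ∈ H2) (hk : k ∈ H2) (hk' : k' ∈ H2) (e : g * k = k' * g) :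
    phi2 φ' g * phi2 φ' k = phi2 φ' k' * phi2 φ' g := by
  rw [← phi2_mul hg hk, e, phi2_mul hk' hg]

variable (h : Two φ φ')
include h

theorem phi_agree {g : L4} (h1 : g ∈ H1) (h2 : g ∈ H2) : phi1 φ g = phi2 φ' g := by
  rw [phi1_eq h1, phi2_eq h2, h.agree]

theorem phi_r : phi1 φ r1 = phi2 φ' r2 := by
  rw [phi1_eq r1_mem, phi2_eq r2_mem, h.agree_r]

/-- The image of the root elements `(1,0)` and `(3,2)` commute. -/
theorem cross :
    Commute (phi2 φ' (tv 1 0 (by decide) (-1))) (phi1 φ (tv 3 2 (by decide) (-1))) := by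
  set A := phi2 φ' am with hA
  set K := phi1 φ km with hK
  set X : G := phi2 φ' (tv 1 0 (by decide) (-1)) with hX
  set Y : G := phi1 φ (tv 3 2 (by decide) (-1)) with hY
  have m10 : tv 1 0 (by decide) (-1) ∈ H2 := tv_mem2 _ _ _ (by decide) _
  have m32 : tv 3 2 (by decide) (-1) ∈ H1 := tv_mem1 _ _ _ (by decide) _
  have g1z : ∀ c : ZMod 3, A * K * phi1 φ (tv 0 3 (by decide) c) * (A * K)⁻¹ =
      phi2 φ' (tv 1 2 (by decide) c) := by
    intro c
    obtain ⟨e1, e2, -, -⟩ := tv03_conj c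
    have k1 := phi1_comm (φ := φ) km_mem (tv_mem1 0 3 (by decide) (by decide) c)
      (tv_mem1 0 2 (by decide) (by decide) c) e1
    have k2 := phi2_comm (φ' := φ') am_mem (tv_mem2 0 2 (by decide) (by decide) c)
      (tv_mem2 1 2 (by decide) (by decide) c) e2
    rw [← phi_agree h (tv_mem1 0 2 (by decide) (by decide) c)
      (tv_mem2 0 2 (by decide) (by decide) c)] at k2
    rw [mul_inv_eq_iff_eq_mul]
    calc A * K * phi1 φ (tv 0 3 (by decide) c)
        = A * (K * phi1 φ (tv 0 3 (by decide) c)) := mul_assoc _ _ _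
      _ = (A * phi1 φ (tv 0 2 (by decide) c)) * K := by rw [k1, mul_assoc]
      _ = _ := by rw [k2, mul_assoc]
  have g2z : K * A * phi1 φ (tv 0 3 (by decide) 1) * (K * A)⁻¹ =
      phi2 φ' (tv 1 2 (by decide) 1) := by
    obtain ⟨-, -, e3, e4⟩ := tv03_conj 1
    have k2 := phi2_comm (φ' := φ') am_mem (tv_mem2 0 3 (by decide) (by decide) (1 : ZMod 3))
      (tv_mem2 1 3 (by decide) (by decide) 1) e3
    rw [← phi_agree h (tv_mem1 0 3 (by decide) (by decide) 1)
        (tv_mem2 0 3 (by decide) (by decide) 1),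
      ← phi_agree h (tv_mem1 1 3 (by decide) (by decide) 1)
        (tv_mem2 1 3 (by decide) (by decide) 1)] at k2
    have k1 := phi1_comm (φ := φ) km_mem (tv_mem1 1 3 (by decide) (by decide) (1 : ZMod 3))
      (tv_mem1 1 2 (by decide) (by decide) 1) e4
    rw [phi_agree h (tv_mem1 1 2 (by decide) (by decide) 1)
      (tv_mem2 1 2 (by decide) (by decide) 1)] at k1
    rw [mul_inv_eq_iff_eq_mul]
    calc K * A * phi1 φ (tv 0 3 (by decide) 1)
        = K * (A * phi1 φ (tv 0 3 (by decide) 1)) := mul_assoc _ _ _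
      _ = (K * phi1 φ (tv 1 3 (by decide) 1)) * A := by rw [k2, mul_assoc]
      _ = _ := by rw [k1, mul_assoc]
  -- the two conjugators differ by an element of `C4`
  have hcen : (A * K)⁻¹ * (K * A) ∈ Subgroup.centralizer ({φ ⟨z4, z4_mem⟩} : Set G) := by
    rw [← phi1_eq (φ := φ) z4_mem, Subgroup.mem_centralizer_singleton_iff, ← mul_inv_eq_iff_eq_mul]
    calc (A * K)⁻¹ * (K * A) * phi1 φ z4 * ((A * K)⁻¹ * (K * A))⁻¹
        = (A * K)⁻¹ * (K * A * phi1 φ z4 * (K * A)⁻¹) * (A * K) := by group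
      _ = (A * K)⁻¹ * (A * K * phi1 φ z4 * (A * K)⁻¹) * (A * K) := by
        rw [show z4 = tv 0 3 (by decide) 1 from rfl, g2z, g1z]
      _ = _ := by group
  rw [h.one.cent] at hcen
  obtain ⟨κ, hκ, hκe⟩ := hcen
  set q := (κ : L4) * tv 2 3 (by decide) 1 * (κ : L4)⁻¹ with hq
  have hqQ : q ∈ Q4 := Q4_conj hκ (by
    refine ⟨⟨tv_mem1 _ _ _ (by decide) _, tv_mem2 _ _ _ (by decide) _⟩, ?_⟩
    decide +kernel)
  have hX' : A * K * phi1 φ (tv 0 1 (by decide) 1) * (A * K)⁻¹ = X := by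
    obtain ⟨e1, e2, -, -⟩ := root_conj
    have k1 := phi1_comm (φ := φ) km_mem (tv_mem1 0 1 (by decide) (by decide) (1 : ZMod 3))
      (tv_mem1 0 1 (by decide) (by decide) 1) e1
    have k2 := phi2_comm (φ' := φ') am_mem (tv_mem2 0 1 (by decide) (by decide) (1 : ZMod 3))
      m10 e2
    rw [← phi_agree h (tv_mem1 0 1 (by decide) (by decide) 1)
      (tv_mem2 0 1 (by decide) (by decide) 1)] at k2
    rw [mul_inv_eq_iff_eq_mul]
    calc A * K * phi1 φ (tv 0 1 (by decide) 1) = (A * phi1 φ (tv 0 1 (by decide) 1)) * K := by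
          rw [mul_assoc, k1, mul_assoc]
      _ = _ := by rw [k2, mul_assoc]
  have hY' : A * K * phi1 φ q * (A * K)⁻¹ = Y := by
    obtain ⟨-, -, e3, e4⟩ := root_conj
    have k2 := phi2_comm (φ' := φ') am_mem (tv_mem2 2 3 (by decide) (by decide) (1 : ZMod 3))
      (tv_mem2 2 3 (by decide) (by decide) 1) e3
    rw [← phi_agree h (tv_mem1 2 3 (by decide) (by decide) 1)
      (tv_mem2 2 3 (by decide) (by decide) 1)] at k2
    have k1 := phi1_comm (φ := φ) km_mem (tv_mem1 2 3 (by decide) (by decide) (1 : ZMod 3)) m32 e4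
    rw [← hA] at k2
    rw [← hK, ← hY] at k1
    have hq' : phi1 φ q = (A * K)⁻¹ * (K * A) * phi1 φ (tv 2 3 (by decide) 1) *
        ((A * K)⁻¹ * (K * A))⁻¹ := by
      rw [← hκe, ← phi1_eq (φ := φ) κ.2, hq, phi1_mul (mul_mem κ.2 (tv_mem1 _ _ _ (by decide) _))
        (inv_mem κ.2), phi1_mul κ.2 (tv_mem1 _ _ _ (by decide) _), phi1_inv κ.2]
    rw [hq', mul_inv_eq_iff_eq_mul]
    calc A * K * ((A * K)⁻¹ * (K * A) * phi1 φ (tv 2 3 (by decide) 1) * ((A * K)⁻¹ * (K * A))⁻¹)
        = K * (A * phi1 φ (tv 2 3 (by decide) 1)) * (A⁻¹ * K⁻¹) * (A * K) := by group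
      _ = (K * phi1 φ (tv 2 3 (by decide) 1)) * K⁻¹ * (A * K) := by rw [k2]; group
      _ = _ := by rw [k1]; group
  set c := ent q 1 3 with hc
  have hcomm : X * Y = phi2 φ' (tv 1 2 (by decide) c) * Y * X := by
    rw [← hX', ← hY', ← g1z c]
    have e := congrArg (phi1 φ) (Q4_comm hqQ)
    rw [phi1_mul (tv_mem1 0 1 (by decide) (by decide) 1) hqQ.1.1,
      phi1_mul (mul_mem (tv_mem1 0 3 (by decide) (by decide) c) hqQ.1.1)
        (tv_mem1 0 1 (by decide) (by decide) 1),
      phi1_mul (tv_mem1 0 3 (by decide) (by decide) c) hqQ.1.1] at e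
    calc A * K * phi1 φ (tv 0 1 (by decide) 1) * (A * K)⁻¹ * (A * K * phi1 φ q * (A * K)⁻¹)
        = A * K * (phi1 φ (tv 0 1 (by decide) 1) * phi1 φ q) * (A * K)⁻¹ := by group
      _ = _ := by rw [e]; group
  -- the torus inverts the commutator
  set T := phi1 φ r1 with hT
  have hTX : T * X = X * T := by
    rw [hT, phi_r h]; exact phi2_comm r2_mem m10 m10 torus_fix.1
  have hTY : T * Y = Y * T := phi1_comm r1_mem m32 m32 torus_fix.2.1
  have hTu : T * phi2 φ' (tv 1 2 (by decide) c) = phi2 φ' (tv 1 2 (by decide) (-c)) * T := by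
    rw [← phi_agree h (tv_mem1 1 2 (by decide) (by decide) c)
        (tv_mem2 1 2 (by decide) (by decide) c),
      ← phi_agree h (tv_mem1 1 2 (by decide) (by decide) (-c))
        (tv_mem2 1 2 (by decide) (by decide) (-c))]
    exact phi1_comm r1_mem (tv_mem1 _ _ _ (by decide) _) (tv_mem1 _ _ _ (by decide) _) (torus_conj c)
  have hfix : phi2 φ' (tv 1 2 (by decide) (-c)) = phi2 φ' (tv 1 2 (by decide) c) := by
    have hu : ∀ d : ZMod 3, X * Y = phi2 φ' (tv 1 2 (by decide) d) * Y * X →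
        phi2 φ' (tv 1 2 (by decide) d) = X * Y * X⁻¹ * Y⁻¹ := fun d e => by rw [e]; group
    rw [hu c hcomm]
    refine hu _ ?_
    refine mul_left_cancel (a := T) ?_
    calc T * (X * Y) = X * Y * T := by
          rw [← mul_assoc, hTX, mul_assoc, hTY, mul_assoc]
      _ = phi2 φ' (tv 1 2 (by decide) c) * Y * X * T := by rw [hcomm]
      _ = T * (phi2 φ' (tv 1 2 (by decide) (-c)) * Y * X) := by
          have e2 : T * phi2 φ' (tv 1 2 (by decide) (-c)) = phi2 φ' (tv 1 2 (by decide) c) * T := by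
            rw [← phi_agree h (tv_mem1 1 2 (by decide) (by decide) c)
                (tv_mem2 1 2 (by decide) (by decide) c),
              ← phi_agree h (tv_mem1 1 2 (by decide) (by decide) (-c))
                (tv_mem2 1 2 (by decide) (by decide) (-c))]
            have := torus_conj (-c)
            rw [neg_neg] at this
            exact phi1_comm r1_mem (tv_mem1 _ _ _ (by decide) _) (tv_mem1 _ _ _ (by decide) _) this
          simp only [← mul_assoc]
          rw [e2]
          simp only [mul_assoc]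
          rw [← hTX, ← mul_assoc Y T, ← hTY]
          simp only [mul_assoc]
  have hc0 : c = 0 := by
    refine tv_inj c ?_
    have := h.inj' (a₁ := ⟨_, tv_mem2 1 2 (by decide) (by decide) c⟩)
      (a₂ := ⟨_, tv_mem2 1 2 (by decide) (by decide) (-c)⟩) (by
        rw [← phi2_eq, ← phi2_eq]; exact hfix.symm)
    exact congrArg Subtype.val this
  rw [hc0, tv_zero, phi2_eq (one_mem _), show (⟨1, one_mem _⟩ : H2) = 1 from rfl, map_one,
    one_mul] at hcomm
  exact hcomm

/-- `A` commutes with the root element `(3,2)`. -/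
theorem comm_am_32 :
    Commute (phi2 φ' am) (phi1 φ (tv 3 2 (by decide) (-1))) := by
  have m10 : tv 1 0 (by decide) (-1) ∈ H2 := tv_mem2 _ _ _ (by decide) _
  have m01 : tv 0 1 (by decide) (-1) ∈ H2 := tv_mem2 _ _ _ (by decide) _
  rw [am_fac, phi2_mul (mul_mem (inv_mem m10) m01) (inv_mem m10), phi2_mul (inv_mem m10) m01,
    phi2_inv m10]
  have h01 : Commute (phi2 φ' (tv 0 1 (by decide) (-1))) (phi1 φ (tv 3 2 (by decide) (-1))) := by
    rw [← phi_agree h (tv_mem1 _ _ _ (by decide) _) m01]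
    exact phi1_comm (tv_mem1 _ _ _ (by decide) _) (tv_mem1 _ _ _ (by decide) _)
      (tv_mem1 _ _ _ (by decide) _) am_comm.2.2.1
  exact ((cross h).inv_left.mul_left h01).mul_left (cross h).inv_left

theorem comm_am_cm : Commute (phi2 φ' am) (phi1 φ cm) := by
  have m32 : tv 3 2 (by decide) (-1) ∈ H1 := tv_mem1 _ _ _ (by decide) _
  have m23 : tv 2 3 (by decide) (-1) ∈ H1 := tv_mem1 _ _ _ (by decide) _
  rw [cm_fac, phi1_mul (mul_mem (inv_mem m32) m23) (inv_mem m32), phi1_mul (inv_mem m32) m23,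
    phi1_inv m32]
  have h23 : Commute (phi2 φ' am) (phi1 φ (tv 2 3 (by decide) (-1))) := by
    rw [phi_agree h m23 (tv_mem2 _ _ _ (by decide) _)]
    exact phi2_comm am_mem (tv_mem2 _ _ _ (by decide) _) (tv_mem2 _ _ _ (by decide) _) am_comm.2.1
  exact ((comm_am_32 h).inv_right.mul_right h23).mul_right (comm_am_32 h).inv_right

/-- `φ` and `φ'` on an element of `H2` that is, up to sign, in `H1`. -/
theorem phi_sign {g k : L4} (hg : g ∈ H2) (hk : k ∈ H1) (e : g = k ∨ g = negOne * k) :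
    phi2 φ' g = phi1 φ k := by
  rcases e with rfl | rfl
  · exact (phi_agree h hk hg).symm
  · have hr : r2 = negOne * r1 := by decide +kernel
    have hm1 : r1 * k ∈ H1 := mul_mem r1_mem hk
    have hr1 : r1 * r1 = 1 := by decide +kernel
    have hm2 : r1 * k ∈ H2 := by
      have := mul_mem r2_mem hg
      rwa [hr, mul_assoc, ← mul_assoc r1 negOne k, ← negOne_comm r1, mul_assoc negOne r1 k,
        negOne_mul_negOne_mul] at this
    have e1 : negOne * k = r2 * (r1 * k) := by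
      rw [hr, mul_assoc, ← mul_assoc r1 r1 k, hr1, one_mul]
    rw [e1, phi2_mul r2_mem hm2, ← phi_r h, ← phi_agree h hm1 hm2, ← phi1_mul r1_mem hm1,
      ← mul_assoc, hr1, one_mul]

/-- The relation for an element of the stabiliser of the two points. -/
def Rel1 (φ : H1 →* G) (φ' : H2 →* G) (η : L4) : Prop :=
  η ∈ H1 ∧ ∃ k ∈ H1, (η * am = am * k ∨ η * am = negOne * (am * k)) ∧
    phi1 φ η * phi2 φ' am = phi2 φ' am * phi1 φ k

theorem rel1_mul {η η' : L4} (h1 : Rel1 φ φ' η) (h2 : Rel1 φ φ' η') : Rel1 φ φ' (η * η') := by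
  obtain ⟨hη, k, hk, e, E⟩ := h1
  obtain ⟨hη', k', hk', e', E'⟩ := h2
  refine ⟨mul_mem hη hη', k * k', mul_mem hk hk', ?_, ?_⟩
  · rw [mul_assoc η η' am]
    rcases e' with e' | e' <;> rcases e with e | e <;> rw [e']
    · left; rw [← mul_assoc, e, mul_assoc]
    · right; rw [← mul_assoc, e]; simp only [mul_assoc]
    · right; rw [← mul_assoc η negOne, ← negOne_comm, mul_assoc negOne η, ← mul_assoc η am k', e]
      simp only [mul_assoc]
    · left; rw [← mul_assoc η negOne, ← negOne_comm, mul_assoc negOne η, ← mul_assoc η am k', e]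
      simp only [mul_assoc]
      rw [negOne_mul_negOne_mul]
  · rw [phi1_mul hη hη', phi1_mul hk hk', mul_assoc, E', ← mul_assoc, E, mul_assoc]

theorem rel1_H2 {η : L4} (hη : η ∈ H1) (hη2 : η ∈ H2)
    (h1 : ent η 0 1 = 0 ∧ ent η 2 1 = 0 ∧ ent η 3 1 = 0) : Rel1 φ φ' η := by
  have hm : am⁻¹ * η * am ∈ H2 := mul_mem (mul_mem (inv_mem am_mem) hη2) am_mem
  have key : ∀ k, k ∈ H1 → (am⁻¹ * η * am = k ∨ am⁻¹ * η * am = negOne * k) →
      phi1 φ η * phi2 φ' am = phi2 φ' am * phi1 φ k := by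
    intro k hk e
    rw [← phi_sign h hm hk e, ← phi2_mul am_mem hm, phi_agree h hη hη2, ← phi2_mul hη2 am_mem]
    congr 1
    group
  rcases stab_conj hη h1 with hk | hk
  · exact ⟨hη, _, hk, Or.inl (by group), key _ hk (Or.inl rfl)⟩
  · refine ⟨hη, _, hk, Or.inr ?_, key _ hk (Or.inr (negOne_mul_negOne_mul _).symm)⟩
    rw [← mul_assoc am negOne, ← negOne_comm, mul_assoc negOne am, negOne_mul_negOne_mul]
    group

theorem rel1_tv32 (c : ZMod 3) : Rel1 φ φ' (tv 3 2 (by decide) c) := by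
  rw [tv32_pow c]
  have hm : tv 3 2 (by decide) (-1 : ZMod 3) ∈ H1 := tv_mem1 _ _ _ (by decide) _
  have hb : Rel1 φ φ' (tv 3 2 (by decide) (-1)) :=
    ⟨hm, _, hm, Or.inl am_comm.1.symm, (comm_am_32 h).eq.symm⟩
  induction 2 * c.val with
  | zero => exact ⟨one_mem _, 1, one_mem _, Or.inl (by simp), by rw [pow_zero, phi1_one]; simp⟩
  | succ n ih => rw [pow_succ]; exact rel1_mul h ih hb

theorem rel1_r1 : Rel1 φ φ' r1 := by
  refine ⟨r1_mem, r1, r1_mem, Or.inl ?_, ?_⟩
  · decide +kernel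
  · rw [phi_r h]
    exact phi2_comm r2_mem am_mem am_mem torus_fix.2.2

theorem rel1_krow (x y : ZMod 3) : Rel1 φ φ' (krow x y) := by
  unfold krow
  split_ifs
  · exact rel1_tv32 h _
  · exact rel1_mul h (rel1_r1 h) (rel1_tv32 h _)
  · refine rel1_mul h (rel1_tv32 h _) (rel1_H2 h (tv_mem1 _ _ _ (by decide) _)
      (tv_mem2 _ _ _ (by decide) _) ?_)
    refine ⟨?_, ?_, ?_⟩ <;>
      simp [ent, tv, Matrix.transvection, Matrix.one_apply, Matrix.single]

/-- The relation holds on the whole stabiliser of the two points. -/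
theorem rel1_stab {η : L4} (hη : η ∈ H1) (h1 : ent η 0 1 = 0 ∧ ent η 2 1 = 0 ∧ ent η 3 1 = 0) :
    Rel1 φ φ' η := by
  have hne : ent η 3 2 ≠ 0 ∨ ent η 3 3 ≠ 0 := by
    by_contra hcon
    push Not at hcon
    have h0 := ent_mul η η⁻¹ 3 3
    rw [mul_inv_cancel, show ent η 3 0 = 0 from hη 3, h1.2.2, hcon.1, hcon.2] at h0
    simp [ent, one_entry] at h0
  set k := krow (ent η 3 2) (ent η 3 3) with hk
  obtain ⟨k30, k31, k32, k33, kcol⟩ := krow_spec _ _ hne
  rw [← hk] at k30 k31 k32 k33 kcol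
  have hkm : k ∈ H1 := krow_mem _ _
  have hrow : η * k⁻¹ ∈ H2 := by
    intro j
    show ent (η * k⁻¹) 3 j = _
    rw [ent_mul, show ent η 3 0 = 0 from hη 3, h1.2.2]
    have e := ent_mul k k⁻¹ 3 j
    rw [k30, k31, k32, k33, mul_inv_cancel] at e
    rw [← e]
    exact one_entry 3 j
  have hcol : ∀ i, ent (η * k⁻¹) i 1 = ent η i 1 := fun i => by
    have e := ent_mul (η * k⁻¹) k i 1
    rw [inv_mul_cancel_right, kcol, kcol, kcol, kcol] at e
    simp at e
    exact e.symm
  have := rel1_mul h (rel1_H2 h (mul_mem hη (inv_mem hkm)) hrow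
    ⟨(hcol 0).trans h1.1, (hcol 2).trans h1.2.1, (hcol 3).trans h1.2.2⟩)
    (rel1_krow h (ent η 3 2) (ent η 3 3))
  rwa [← hk, inv_mul_cancel_right] at this

/-- The graph of the extension. -/
def Rel (φ : H1 →* G) (φ' : H2 →* G) (g : L4) (y : G) : Prop :=
  (∃ η ∈ H1, (g = η ∨ g = negOne * η) ∧ y = phi1 φ η) ∨
  ∃ η ∈ H1, ∃ η' ∈ H1, (g = η * am * η' ∨ g = negOne * (η * am * η')) ∧
    y = phi1 φ η * phi2 φ' am * phi1 φ η'

theorem rel_total (g : L4) : ∃ y, Rel φ φ' g y := by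
  by_cases hcase : ent g 1 0 = 0 ∧ ent g 2 0 = 0 ∧ ent g 3 0 = 0
  · obtain ⟨h1, h2, h3⟩ := hcase
    have hne : ent g 0 0 ≠ 0 := by
      intro h0
      have e := ent_mul g⁻¹ g 0 0
      rw [inv_mul_cancel, h0, h1, h2, h3] at e
      simp [ent, one_entry] at e
    rcases (show ∀ x : ZMod 3, x ≠ 0 → x = 1 ∨ x = -1 by decide) _ hne with e | e
    · refine ⟨phi1 φ g, Or.inl ⟨g, fun i => ?_, Or.inl rfl, rfl⟩⟩
      fin_cases i <;> assumption
    · refine ⟨phi1 φ (negOne * g),
        Or.inl ⟨negOne * g, fun i => ?_, Or.inr (negOne_mul_negOne_mul g).symm, rfl⟩⟩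
      show ent (negOne * g) i 0 = _
      rw [ent_negOne_mul]
      fin_cases i <;> simp [h1, h2, h3, e]
  · obtain ⟨hdet, hcol, hfirst, -⟩ := cand_spec (fun i => ent g i 0) (fun h1 h2 h3 => hcase ⟨h1, h2, h3⟩)
    set η : L4 := ⟨cand fun i => ent g i 0, hdet⟩ with hηdef
    have hη : η ∈ H1 := hfirst
    refine ⟨_, Or.inr ⟨η, hη, (η * am)⁻¹ * g, fun i => ?_, Or.inl (mul_inv_cancel_left _ _).symm, rfl⟩⟩
    show ent ((η * am)⁻¹ * g) i 0 = _
    have hcol' : ∀ k, ent g k 0 = ent (η * am) k 0 := fun k => by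
      rw [ent_mul_am]; exact (hcol k).symm
    rw [ent_mul, hcol', hcol', hcol', hcol', ← ent_mul, inv_mul_cancel]
    exact one_entry i 0

theorem rel_disjoint {η κ κ' : L4} (hη : η ∈ H1) (hκ : κ ∈ H1) (hκ' : κ' ∈ H1) :
    η ≠ κ * am * κ' ∧ negOne * η ≠ κ * am * κ' := by
  obtain ⟨a00, -, -, -, -⟩ := am_inv_row
  have key : ∀ x : L4, (∀ i, i ≠ 0 → ent x i 0 = 0) → x ≠ κ * am * κ' := by
    intro x hx e
    have h2 : ∀ i, i ≠ 0 → ent κ i 1 = 0 := by
      intro i hi
      have := hx i hi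
      rw [e, ent_mul, show ent κ' 0 0 = 1 from hκ' 0, show ent κ' 1 0 = 0 from hκ' 1,
        show ent κ' 2 0 = 0 from hκ' 2, show ent κ' 3 0 = 0 from hκ' 3, ent_mul_am] at this
      simpa using this
    exact second_col hκ (h2 1 (by decide)) (h2 2 (by decide)) (h2 3 (by decide))
  refine ⟨key η fun i hi => ?_, key _ fun i hi => ?_⟩
  · have := hη i
    rwa [if_neg hi] at this
  · have := hη i
    rw [if_neg hi] at this
    rw [ent_negOne_mul, ent, this, neg_zero]

theorem rel_unique {g : L4} {y y' : G} (h1 : Rel φ φ' g y) (h2 : Rel φ φ' g y') : y = y' := by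
  have flip : ∀ {p q : L4}, p = negOne * q → q = negOne * p := fun {p q} e => by
    rw [e, negOne_mul_negOne_mul]
  rcases h1 with ⟨η, hη, e, rfl⟩ | ⟨η, hη, η', hη', e, rfl⟩ <;>
    rcases h2 with ⟨κ, hκ, e', rfl⟩ | ⟨κ, hκ, κ', hκ', e', rfl⟩
  · rcases e with rfl | rfl <;> rcases e' with e' | e'
    · rw [e']
    · exact absurd (e' ▸ hη) (negOne_not_mem hκ)
    · exact absurd (e'.symm ▸ hκ) (negOne_not_mem hη)
    · rw [mul_left_cancel e']
  · exfalso
    obtain ⟨d1, d2⟩ := rel_disjoint h hη hκ hκ'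
    rcases e with rfl | rfl <;> rcases e' with e' | e'
    · exact d1 e'
    · exact d2 (flip e').symm
    · exact d2 e'
    · exact d1 (mul_left_cancel e')
  · exfalso
    obtain ⟨d1, d2⟩ := rel_disjoint h hκ hη hη'
    rcases e with rfl | rfl <;> rcases e' with e' | e'
    · exact d1 e'.symm
    · exact d2 e'.symm
    · exact d2 (flip e'.symm).symm
    · exact d1 (mul_left_cancel e').symm
  · -- two decompositions differ by an element of the stabiliser
    set θ := κ⁻¹ * η with hθ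
    have hθ1 : θ ∈ H1 := mul_mem (inv_mem hκ) hη
    have hpm : θ * am = am * (κ' * η'⁻¹) ∨ θ * am = negOne * (am * (κ' * η'⁻¹)) := by
      have aux : ∀ x : L4, η * am * η' = x → θ * am = κ⁻¹ * x * η'⁻¹ := by
        rintro x rfl; rw [hθ]; group
      rcases e with rfl | rfl <;> rcases e' with e' | e'
      · left; rw [aux _ e']; group
      · right; rw [aux _ e', ← mul_assoc κ⁻¹ negOne, ← negOne_comm]; group
      · right; rw [aux _ (flip e'.symm), ← mul_assoc κ⁻¹ negOne, ← negOne_comm]; group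
      · left; rw [aux _ (mul_left_cancel e')]; group
    have hk0 : κ' * η'⁻¹ ∈ H1 := mul_mem hκ' (inv_mem hη')
    have hcol : ∀ i, i ≠ 1 → ent θ i 1 = 0 := by
      intro i hi
      rw [← ent_mul_am]
      have hk : ∀ j, ent (κ' * η'⁻¹) j 0 = if j = 0 then 1 else 0 := hk0
      rcases hpm with e1 | e1 <;> rw [e1] <;> (try rw [ent_negOne_mul]) <;>
        rw [ent_mul, hk, hk, hk, hk, am_col] <;> simp [hi]
    obtain ⟨-, k, hk, hk2, E⟩ := rel1_stab h hθ1
      ⟨hcol 0 (by decide), hcol 2 (by decide), hcol 3 (by decide)⟩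
    have hkk : k = κ' * η'⁻¹ := by
      rcases hk2 with e2 | e2 <;> rcases hpm with e1 | e1 <;> rw [e1] at e2
      · exact (mul_left_cancel e2).symm
      · exfalso
        rw [← mul_assoc, negOne_comm, mul_assoc] at e2
        exact negOne_not_mem hk0 ((mul_left_cancel e2).symm ▸ hk)
      · exfalso
        rw [← mul_assoc negOne, negOne_comm, mul_assoc am] at e2
        exact negOne_not_mem hk ((mul_left_cancel e2) ▸ hk0)
      · exact (mul_left_cancel (mul_left_cancel e2)).symm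
    rw [hkk, hθ, phi1_mul (inv_mem hκ) hη, phi1_inv hκ, phi1_mul hκ' (inv_mem hη'), phi1_inv hη'] at E
    calc phi1 φ η * phi2 φ' am * phi1 φ η'
        = phi1 φ κ * ((phi1 φ κ)⁻¹ * phi1 φ η * phi2 φ' am) * phi1 φ η' := by group
      _ = _ := by rw [E]; group

open Classical in
/-- The extension. -/
noncomputable def ext' (g : L4) : G := (rel_total h g).choose

theorem ext'_eq {g : L4} {y : G} (hy : Rel φ φ' g y) : ext' h g = y :=
  rel_unique h (rel_total h g).choose_spec hy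

theorem ext'_H1 {η : L4} (hη : η ∈ H1) : ext' h η = phi1 φ η :=
  ext'_eq h (Or.inl ⟨η, hη, Or.inl rfl, rfl⟩)

theorem ext'_one : ext' h 1 = 1 := (ext'_H1 h (one_mem _)).trans phi1_one

theorem ext'_am : ext' h am = phi2 φ' am :=
  ext'_eq h (Or.inr ⟨1, one_mem _, 1, one_mem _, Or.inl (by simp), by rw [phi1_one]; simp⟩)

theorem ext'_neg (g : L4) : ext' h (negOne * g) = ext' h g := by
  refine ext'_eq h ?_
  rcases (rel_total h g).choose_spec with ⟨η, hη, e, ey⟩ | ⟨η, hη, η', hη', e, ey⟩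
  · refine Or.inl ⟨η, hη, ?_, ey⟩
    rcases e with rfl | rfl
    · exact Or.inr rfl
    · exact Or.inl (negOne_mul_negOne_mul η)
  · refine Or.inr ⟨η, hη, η', hη', ?_, ey⟩
    rcases e with rfl | rfl
    · exact Or.inr rfl
    · exact Or.inl (negOne_mul_negOne_mul _)

theorem ext'_right {g κ : L4} (hκ : κ ∈ H1) : ext' h (g * κ) = ext' h g * phi1 φ κ := by
  refine ext'_eq h ?_
  rcases (rel_total h g).choose_spec with ⟨η, hη, e, ey⟩ | ⟨η, hη, η', hη', e, ey⟩ <;>
    rw [show (ext' h g) = (rel_total h g).choose from rfl, ey]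
  · refine Or.inl ⟨η * κ, mul_mem hη hκ, ?_, (phi1_mul hη hκ).symm⟩
    rcases e with rfl | rfl
    · exact Or.inl rfl
    · exact Or.inr (mul_assoc _ _ _)
  · refine Or.inr ⟨η, hη, η' * κ, mul_mem hη' hκ, ?_, by rw [phi1_mul hη' hκ, mul_assoc]⟩
    rcases e with rfl | rfl
    · exact Or.inl (mul_assoc _ _ _)
    · exact Or.inr (by simp only [mul_assoc])

theorem ext'_left {g κ : L4} (hκ : κ ∈ H1) : ext' h (κ * g) = phi1 φ κ * ext' h g := by
  refine ext'_eq h ?_
  rcases (rel_total h g).choose_spec with ⟨η, hη, e, ey⟩ | ⟨η, hη, η', hη', e, ey⟩ <;>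
    rw [show (ext' h g) = (rel_total h g).choose from rfl, ey]
  · refine Or.inl ⟨κ * η, mul_mem hκ hη, ?_, (phi1_mul hκ hη).symm⟩
    rcases e with rfl | rfl
    · exact Or.inl rfl
    · exact Or.inr (by rw [← mul_assoc, ← negOne_comm, mul_assoc])
  · refine Or.inr ⟨κ * η, mul_mem hκ hη, η', hη', ?_, by rw [phi1_mul hκ hη]; simp only [mul_assoc]⟩
    rcases e with rfl | rfl
    · exact Or.inl (by simp only [mul_assoc])
    · exact Or.inr (by rw [← mul_assoc, ← negOne_comm]; simp only [mul_assoc])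

/-- A product decomposition of an element of `H1` by its second column. -/
theorem decomp_col {η : L4} (hη : η ∈ H1) {c : L4} (hc : c ∈ H1)
    (e : (∀ i, ent η i 1 = ent c i 1) ∨ ∀ i, ent η i 1 = -ent c i 1) :
    ∃ k ∈ H1, (η * am = c * am * k ∨ η * am = negOne * (c * am * k)) ∧
      phi1 φ η * phi2 φ' am = phi1 φ c * phi2 φ' am * phi1 φ k := by
  have hzero : ∀ i, i ≠ 1 → ent (c⁻¹ * η) i 1 = 0 := by
    intro i hi
    have hcc := ent_mul c⁻¹ c i 1
    rw [inv_mul_cancel, show ent (1 : L4) i 1 = 0 by rw [ent, one_entry, if_neg hi]] at hcc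
    rw [ent_mul]
    rcases e with e | e <;> rw [e, e, e, e]
    · exact hcc.symm
    · linear_combination hcc
  have hθ : c⁻¹ * η ∈ H1 := mul_mem (inv_mem hc) hη
  obtain ⟨-, k, hk, hk2, E⟩ := rel1_stab h hθ
    ⟨hzero 0 (by decide), hzero 2 (by decide), hzero 3 (by decide)⟩
  refine ⟨k, hk, ?_, ?_⟩
  · have e1 : η * am = c * (c⁻¹ * η * am) := by group
    rw [e1]
    rcases hk2 with e2 | e2 <;> rw [e2]
    · exact Or.inl (mul_assoc _ _ _).symm
    · exact Or.inr (by rw [← mul_assoc c negOne, ← negOne_comm]; simp only [mul_assoc])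
  · have e1 : phi1 φ η = phi1 φ c * phi1 φ (c⁻¹ * η) := by
      rw [← phi1_mul hc hθ, mul_inv_cancel_left]
    rw [e1, mul_assoc, E, mul_assoc]

/-- On `H2` the extension is `φ'`. -/
theorem ext'_H2 {g : L4} (hg : g ∈ H2) : ext' h g = phi2 φ' g := by
  obtain ⟨y, hy⟩ := rel_total h g
  rw [ext'_eq h hy]
  rcases hy with ⟨η, hη, e, rfl⟩ | ⟨η, hη, η', hη', e, rfl⟩
  · exact (phi_sign h hg hη e).symm
  · have hg3 : ent g 3 0 = 0 := hg 0
    have h31 : ent η 3 1 = 0 := by
      have hcol : ent (η * am * η') 3 0 = ent η 3 1 := by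
        rw [ent_mul, show ent η' 0 0 = 1 from hη' 0, show ent η' 1 0 = 0 from hη' 1,
          show ent η' 2 0 = 0 from hη' 2, show ent η' 3 0 = 0 from hη' 3, ent_mul_am]
        ring
      rw [← hcol]
      rcases e with rfl | rfl
      · exact hg3
      · rwa [ent_negOne_mul, neg_eq_zero] at hg3
    obtain ⟨hdet, hcol, hfirst, hlast⟩ := cand_spec (fun i => ent η i 1) (second_col hη)
    set c : L4 := ⟨cand fun i => ent η i 1, hdet⟩ with hc
    have hc1 : c ∈ H1 := hfirst
    have hc2 : c ∈ H2 := hlast h31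
    obtain ⟨k, hk, e2, E⟩ := decomp_col h hη hc1 (Or.inl fun i => (hcol i).symm)
    have hca : c * am ∈ H2 := mul_mem hc2 am_mem
    have key : (c * am)⁻¹ * g ∈ H2 := mul_mem (inv_mem hca) hg
    have hkk : k * η' ∈ H1 := mul_mem hk hη'
    have hpm : (c * am)⁻¹ * g = k * η' ∨ (c * am)⁻¹ * g = negOne * (k * η') := by
      have eA : ∀ x : L4, (c * am)⁻¹ * (c * am * x * η') = x * η' := fun x => by group
      have eN : (c * am)⁻¹ * (negOne * (c * am * k * η')) = negOne * (k * η') := by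
        rw [← mul_assoc _ negOne, ← negOne_comm, mul_assoc, eA]
      rcases e with rfl | rfl <;> rcases e2 with e2 | e2 <;> rw [e2]
      · exact Or.inl (eA k)
      · exact Or.inr (by rw [mul_assoc negOne]; exact eN)
      · exact Or.inr eN
      · exact Or.inl (by rw [mul_assoc negOne _ η', negOne_mul_negOne_mul, eA])
    rw [E, mul_assoc (phi1 φ c * phi2 φ' am), ← phi1_mul hk hη', ← phi_sign h key hkk hpm,
      phi_agree h hc1 hc2, ← phi2_mul hc2 am_mem, ← phi2_mul hca key, mul_inv_cancel_left]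

/-- The basic step. -/
theorem ext'_step {η : L4} (hη : η ∈ H1) :
    ext' h (am * η * am) = phi2 φ' am * phi1 φ η * phi2 φ' am := by
  have finish : ∀ c ∈ H1, ext' h (am * c * am) = phi2 φ' am * phi1 φ c * phi2 φ' am →
      ((∀ i, ent η i 1 = ent c i 1) ∨ ∀ i, ent η i 1 = -ent c i 1) →
      ext' h (am * η * am) = phi2 φ' am * phi1 φ η * phi2 φ' am := by
    intro c hc hcs e
    obtain ⟨k, hk, e2, E⟩ := decomp_col h hη hc e
    have h1 : ext' h (am * η * am) = ext' h (am * c * am * k) := by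
      rw [mul_assoc am η am]
      rcases e2 with e2 | e2 <;> rw [e2]
      · simp only [mul_assoc]
      · rw [← mul_assoc am negOne, ← negOne_comm, mul_assoc negOne am, ext'_neg h]
        simp only [mul_assoc]
    rw [h1, ext'_right h hk, hcs, mul_assoc (phi2 φ' am) (phi1 φ η), E]
    simp only [mul_assoc]
  by_cases h31 : ent η 3 1 = 0
  · obtain ⟨hdet, hcol, hfirst, hlast⟩ := cand_spec (fun i => ent η i 1) (second_col hη)
    set c : L4 := ⟨cand fun i => ent η i 1, hdet⟩ with hc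
    have hc1 : c ∈ H1 := hfirst
    have hc2 : c ∈ H2 := hlast h31
    refine finish c hc1 ?_ (Or.inl fun i => (hcol i).symm)
    rw [ext'_H2 h (mul_mem (mul_mem am_mem hc2) am_mem), phi2_mul (mul_mem am_mem hc2) am_mem,
      phi2_mul am_mem hc2, phi_agree h hc1 hc2]
  · obtain ⟨c₀, c₁, c₂, s, hs⟩ := far_point (fun i => ent η i 1) h31
    set τ := trn c₀ c₁ c₂ with hτ
    have hτ1 : τ ∈ H1 := trn_mem1 _ _ _
    have hτ2 : τ ∈ H2 := trn_mem2 _ _ _
    have hmem : τ * cm * bm ∈ H1 := mul_mem (mul_mem hτ1 cm_mem) bm_mem1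
    refine finish (τ * cm * bm) hmem ?_ ?_
    · obtain ⟨τ', hτ'1, hτ'2, e⟩ : ∃ τ', τ' ∈ H1 ∧ τ' ∈ H2 ∧ am * τ = τ' * am := by
        rcases trn_conj c₀ c₁ c₂ with e | e
        · exact ⟨_, trn_mem1 _ _ _, trn_mem2 _ _ _, e⟩
        · exact ⟨_, trn_mem1 _ _ _, trn_mem2 _ _ _, e⟩
      have h2m : am * bm * am ∈ H2 := mul_mem (mul_mem am_mem bm_mem2) am_mem
      have e' : am * (τ * cm * bm) * am = τ' * cm * (am * bm * am) := by
        calc am * (τ * cm * bm) * am = am * τ * cm * bm * am := by simp only [mul_assoc]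
          _ = τ' * (am * cm) * bm * am := by rw [e]; simp only [mul_assoc]
          _ = _ := by rw [am_comm.2.2.2]; simp only [mul_assoc]
      have hA : phi2 φ' am * phi1 φ τ = phi1 φ τ' * phi2 φ' am := by
        rw [phi_agree h hτ1 hτ2, phi_agree h hτ'1 hτ'2]
        exact phi2_comm am_mem hτ2 hτ'2 e
      rw [e', ext'_left h (mul_mem hτ'1 cm_mem), ext'_H2 h h2m,
        phi2_mul (mul_mem am_mem bm_mem2) am_mem, phi2_mul am_mem bm_mem2,
        ← phi_agree h bm_mem1 bm_mem2, phi1_mul hτ'1 cm_mem, phi1_mul (mul_mem hτ1 cm_mem) bm_mem1,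
        phi1_mul hτ1 cm_mem]
      simp only [← mul_assoc]
      rw [hA, mul_assoc (phi1 φ τ') (phi2 φ' am) (phi1 φ cm), (comm_am_cm h).eq]
      simp only [← mul_assoc]
    · cases s with
      | false => exact Or.inl fun i => by simpa using hs i
      | true => exact Or.inr fun i => by simpa using hs i

theorem ext'_am_left (x : L4) : ext' h (am * x) = phi2 φ' am * ext' h x := by
  obtain ⟨y, hy⟩ := rel_total h x
  rw [ext'_eq h hy]
  have aux : ∀ p : L4, ext' h (am * (negOne * p)) = ext' h (am * p) := fun p => by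
    rw [← mul_assoc, ← negOne_comm, mul_assoc, ext'_neg h]
  rcases hy with ⟨η, hη, e, rfl⟩ | ⟨η, hη, η', hη', e, rfl⟩
  · have h0 : ext' h (am * η) = phi2 φ' am * phi1 φ η := by rw [ext'_right h hη, ext'_am h]
    rcases e with rfl | rfl
    · exact h0
    · rw [aux, h0]
  · have h0 : ext' h (am * (η * am * η')) = phi2 φ' am * (phi1 φ η * phi2 φ' am * phi1 φ η') := by
      rw [← mul_assoc, ext'_right h hη', ← mul_assoc am, ext'_step h hη]
      simp only [mul_assoc]
    rcases e with rfl | rfl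
    · exact h0
    · rw [aux, h0]

theorem ext'_mul (g k : L4) : ext' h (g * k) = ext' h g * ext' h k := by
  obtain ⟨y, hy⟩ := rel_total h g
  rw [ext'_eq h hy]
  rcases hy with ⟨η, hη, e, rfl⟩ | ⟨η, hη, η', hη', e, rfl⟩
  · rcases e with rfl | rfl
    · exact ext'_left h hη
    · rw [mul_assoc, ext'_neg h, ext'_left h hη]
  · have h0 : ext' h (η * am * η' * k) =
        phi1 φ η * phi2 φ' am * phi1 φ η' * ext' h k := by
      rw [mul_assoc, mul_assoc, ext'_left h hη, ext'_am_left h, ext'_left h hη']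
      simp only [mul_assoc]
    rcases e with rfl | rfl
    · exact h0
    · rw [mul_assoc, ext'_neg h, h0]

theorem ext'_ker (g : L4) : ext' h g = 1 ↔ g = 1 ∨ g = negOne := by
  constructor
  · intro hg
    obtain ⟨y, hy⟩ := rel_total h g
    rw [ext'_eq h hy] at hg
    rcases hy with ⟨η, hη, e, rfl⟩ | ⟨η, hη, η', hη', -, rfl⟩
    · rw [phi1_eq hη, ← map_one φ] at hg
      have : η = 1 := congrArg Subtype.val (h.one.inj hg)
      subst this
      simpa using e
    · exfalso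
      -- `A` would normalise the image of the first abelian subgroup
      have hA : phi2 φ' am = phi1 φ (η⁻¹ * η'⁻¹) := by
        rw [phi1_mul (inv_mem hη) (inv_mem hη'), phi1_inv hη, phi1_inv hη', eq_inv_mul_iff_mul_eq,
          eq_inv_iff_mul_eq_one]
        exact hg
      set κ := η⁻¹ * η'⁻¹
      have hκ : κ ∈ H1 := mul_mem (inv_mem hη) (inv_mem hη')
      have h03 := tv_mem1 0 3 (by decide) (by decide) (1 : ZMod 3)
      have h13 := tv_mem1 1 3 (by decide) (by decide) (1 : ZMod 3)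
      have k2 := phi2_comm (φ' := φ') am_mem (tv_mem2 0 3 (by decide) (by decide) (1 : ZMod 3))
        (tv_mem2 1 3 (by decide) (by decide) 1) (tv03_conj 1).2.2.1
      rw [← phi_agree h h03 (tv_mem2 _ _ _ (by decide) _),
        ← phi_agree h h13 (tv_mem2 _ _ _ (by decide) _), hA, ← phi1_mul hκ h03,
        ← phi1_mul h13 hκ, phi1_eq (mul_mem hκ h03), phi1_eq (mul_mem h13 hκ)] at k2
      have e1 : κ * tv 0 3 (by decide) 1 = tv 1 3 (by decide) 1 * κ :=
        congrArg Subtype.val (h.one.inj k2)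
      have e2 := congrArg (fun x : L4 => ent x 1 3) e1
      simp only [ent_mul, show ent κ 1 0 = 0 from hκ 1] at e2
      have hz : ent κ 3 3 = 0 := by
        have : ent (tv 0 3 (by decide) (1 : ZMod 3)) 1 3 = 0 ∧
            ent (tv 0 3 (by decide) (1 : ZMod 3)) 2 3 = 0 ∧
            ent (tv 0 3 (by decide) (1 : ZMod 3)) 3 3 = 1 ∧
            ent (tv 1 3 (by decide) (1 : ZMod 3)) 1 0 = 0 ∧
            ent (tv 1 3 (by decide) (1 : ZMod 3)) 1 1 = 1 ∧
            ent (tv 1 3 (by decide) (1 : ZMod 3)) 1 2 = 0 ∧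
            ent (tv 1 3 (by decide) (1 : ZMod 3)) 1 3 = 1 := by decide +kernel
        obtain ⟨t1, t2, t3, t4, t5, t6, t7⟩ := this
        rw [t1, t2, t3, t4, t5, t6, t7] at e2
        linear_combination -e2
      have hrow : ∀ j : Fin 4, j ≠ 3 → ent κ 3 j = 0 := by
        intro j hj
        by_cases hj0 : j = 0
        · subst hj0; exact hκ 3
        have e3 := congrArg (fun x : L4 => ent x 1 j) e1
        simp only [ent_mul, show ent κ 1 0 = 0 from hκ 1] at e3
        fin_cases j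
        · exact absurd rfl hj0
        · simp [ent_tv] at e3 ⊢; exact e3
        · simp [ent_tv] at e3 ⊢; exact e3
        · exact absurd rfl hj
      have hinv := ent_mul κ κ⁻¹ 3 3
      rw [mul_inv_cancel, hrow 0 (by decide), hrow 1 (by decide), hrow 2 (by decide), hz] at hinv
      simp [ent, one_entry] at hinv
  · rintro (rfl | rfl)
    · exact ext'_one h
    · rw [← mul_one negOne, ext'_neg h, ext'_one h]

end Build


/-- The two parabolics extend to `SL(4,3)`. -/
theorem exists_full {G : Type*} [Group G] [Finite G] {φ : H1 →* G} {φ' : H2 →* G}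
    (h : Two φ φ') : ∃ f : L4 →* G, Full f := by
  obtain ⟨f, hf⟩ : ∃ f : L4 →* G, ∀ g, f g = ext' h g :=
    ⟨{ toFun := ext' h, map_one' := ext'_one h, map_mul' := ext'_mul h }, fun _ => rfl⟩
  refine ⟨f, ?_⟩
  have hfz : f z4 = φ ⟨z4, z4_mem⟩ := ((hf _).trans (ext'_H1 h z4_mem)).trans (phi1_eq z4_mem)
  refine ⟨fun g => by rw [hf]; exact ext'_ker h g, ?_, ?_, h.one.not_dvd⟩
  · rw [hfz, h.one.cent]
    rintro _ ⟨η, -, rfl⟩
    exact ⟨η, ((hf _).trans (ext'_H1 h η.2)).trans (phi1_eq η.2)⟩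
  · intro g hg
    have hneg : ∀ x, f (negOne * x) = f x := fun x => by rw [hf, hf]; exact ext'_neg h x
    obtain ⟨u, hu⟩ := isConj_iff.1 hg
    have hz3 : z4 ^ 3 = 1 := by decide +kernel
    have hg3 : f (g ^ 3) = 1 := by
      rw [map_pow, ← hu, conj_pow, ← map_pow, hz3, map_one]; group
    -- replace `g` by an element of order three
    set g' := g ^ 4 with hg'
    have hfg : f g' = f g := by
      rw [hg', pow_succ, map_mul, hg3, one_mul]
    have hg'3 : g' ^ 3 = 1 := by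
      rw [hg', ← pow_mul, show 4 * 3 = 3 * 4 by norm_num, pow_mul]
      rw [hf] at hg3
      rcases (ext'_ker h _).1 hg3 with e | e <;> rw [e]
      · exact one_pow 4
      · decide +kernel
    obtain ⟨k, hk⟩ := exists_conj_Q4 hg'3
    set y := k * g' * k⁻¹ with hy
    have hy1 : y ∈ H1 := hk.1.1
    have hconj : IsConj (φ ⟨z4, z4_mem⟩) (φ ⟨y, hy1⟩) := by
      rw [← hfz, ← phi1_eq (φ := φ) hy1, ← ext'_H1 h hy1, ← hf]
      refine hg.trans ?_
      rw [← hfg]
      exact isConj_iff.2 ⟨f k, by rw [← map_inv, ← map_mul, ← map_mul]⟩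
    have hy_ne : y ≠ 1 := by
      intro e
      have : φ ⟨y, hy1⟩ = 1 := by
        rw [show (⟨y, hy1⟩ : H1) = 1 from Subtype.ext e, map_one]
      rw [this, isConj_one_left, ← map_one φ] at hconj
      exact absurd (congrArg Subtype.val (h.one.inj hconj)) (by decide +kernel)
    have hcls : ∃ m : L4, y = m * z4 * m⁻¹ ∨ y = negOne * (m * z4 * m⁻¹) := by
      rcases h.one.pure ⟨y, hy1⟩ hk hconj with hE | hE
      · exact E1_zclass hE hy_ne
      · exact E2_zclass hE hy_ne
    obtain ⟨m, hm⟩ := hcls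
    refine ⟨k⁻¹ * m, ?_⟩
    rw [← hfg, show g' = k⁻¹ * y * k by rw [hy]; group]
    rcases hm with e | e <;> rw [e]
    · rw [show k⁻¹ * (m * z4 * m⁻¹) * k = k⁻¹ * m * z4 * (k⁻¹ * m)⁻¹ by group]
    · rw [← mul_assoc k⁻¹ negOne, ← negOne_comm, mul_assoc negOne, mul_assoc negOne, hneg,
        show k⁻¹ * (m * z4 * m⁻¹) * k = k⁻¹ * m * z4 * (k⁻¹ * m)⁻¹ by group]

end Cfsg.Agent.L43Three45
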