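import Cfsg.Agent.Lib.L43CentIBasic62
import Cfsg.Agent.Lib.ZStarTheorem
import Cfsg.Agent.Lib.CoprimeGen

/-!
S3373, piece H: the centraliser of the involution `i4` lies in the image of `SL(4,3)`.
-/

set_option autoImplicit false
set_option maxHeartbeats 1000000

namespace Cfsg.Agent.L43CentI62

open Cfsg.Agent.L43Three45 Cfsg.Agent.L43CentIModel62 Cfsg.Agent.L43CentIBasic62

variable {G : Type*} [Group G] {f : L4 →* G}

theorem i4_facts : i4 * i4 = negOne ∧ i4 ≠ 1 ∧ i4 ≠ negOne ∧ negOne ^ 5 ≠ 1 ∧ w4 ≠ i4 ∧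
    w4 ≠ i4 * negOne ∧ w4 ≠ 1 ∧ w4 ≠ negOne ∧ i4 * negOne * i4 = 1 := by decide +kernel

theorem fi_sq (hf : Full f) : f i4 * f i4 = 1 := by rw [← map_mul, i4_facts.1, f_negOne hf]

theorem orderOf_i (hf : Full f) : orderOf (f i4) = 2 := by
  haveI : Fact (Nat.Prime 2) := ⟨Nat.prime_two⟩
  refine orderOf_eq_prime (by rw [sq, fi_sq hf]) fun e => ?_
  rcases (hf.ker _).1 e with h | h
  · exact i4_facts.2.1 h
  · exact i4_facts.2.2.1 h

theorem comm_i {g : L4} (h : g * i4 = i4 * g) : f g * f i4 = f i4 * f g := by rw [← map_mul, h, map_mul]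

variable (hf : Full f)
  (hx : ∀ g, (g = xP ∨ g = xM) → Subgroup.centralizer ({f g} : Set G) ≤ f.range)
  (hj : Subgroup.centralizer ({f j4} : Set G) ≤ f.range)

omit hf hj in
theorem exists_semi : ∃ σ : L4, σ * w4 * σ⁻¹ = w4 * i4 * negOne :=
  ⟨⟨!![1, 0, 0, 0; 0, -1, 0, 0; 0, 0, 1, 0; 0, 0, 0, -1], by decide +kernel⟩, by decide +kernel⟩

omit hf hj in
theorem semi_w4 {g : L4} (k : g * i4 = i4 * g * negOne) : g * w4 = w4 * i4 * g * negOne := by
  have hg : (g : Matrix (Fin 4) (Fin 4) (ZMod 3)) * i4 = -((i4 : Matrix (Fin 4) (Fin 4) (ZMod 3)) * g) := by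
    have e := congrArg Subtype.val k
    rw [Matrix.SpecialLinearGroup.coe_mul, Matrix.SpecialLinearGroup.coe_mul, Matrix.SpecialLinearGroup.coe_mul,
      negOne_val, mul_neg_one] at e
    exact e
  have hw : (w4 : Matrix (Fin 4) (Fin 4) (ZMod 3)) = 1 + i4 := by decide +kernel
  have hwi : (w4 : Matrix (Fin 4) (Fin 4) (ZMod 3)) * i4 = i4 - 1 := by decide +kernel
  apply Subtype.ext
  rw [Matrix.SpecialLinearGroup.coe_mul, Matrix.SpecialLinearGroup.coe_mul, Matrix.SpecialLinearGroup.coe_mul,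
    Matrix.SpecialLinearGroup.coe_mul, negOne_val, mul_neg_one, hwi, hw, mul_add, mul_one, hg, sub_mul, one_mul]
  abel

include hf hj

/-- The two classes of involutions are not fused. -/
theorem not_isConj : ¬ IsConj (f i4) (f j4) := by
  intro h
  obtain ⟨z, hz⟩ := isConj_iff.1 h
  obtain ⟨e, hei, he5, he1⟩ := exists_five
  set y := z * f e * z⁻¹ with hy
  have hyj : y * f j4 = f j4 * y := by
    rw [hy, ← hz]
    calc z * f e * z⁻¹ * (z * f i4 * z⁻¹) = z * (f e * f i4) * z⁻¹ := by group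
      _ = _ := by rw [comm_i hei]; group
  obtain ⟨g, hg⟩ := hj (Subgroup.mem_centralizer_singleton_iff.2 hyj)
  have hy5 : y ^ 5 = 1 := by rw [hy, conj_pow, ← map_pow, he5, map_one, mul_one, mul_inv_cancel]
  have hg10 : g ^ 10 = 1 := by
    have : f (g ^ 5) = 1 := by rw [map_pow, hg, hy5]
    rw [show 10 = 5 + 5 from rfl, pow_add]
    rcases (hf.ker _).1 this with k | k <;> rw [k]
    · rw [one_mul]
    · exact negOne_sq
  set d := g ^ 6 with hd
  have hd5 : d ^ 5 = 1 := by rw [hd, ← pow_mul, show 6 * 5 = 10 * 3 from rfl, pow_mul, hg10, one_pow]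
  have hfd : f d = y := by rw [hd, map_pow, hg, show 6 = 5 + 1 from rfl, pow_succ, hy5, one_mul]
  have hd2 : d * d * j4 = j4 * (d * d) := by
    have : f (d * j4) = f (j4 * d) := by rw [map_mul, map_mul, hfd, hyj]
    rcases eq_or hf this with k | k
    · rw [mul_assoc, k, ← mul_assoc, k, mul_assoc]
    · calc d * d * j4 = d * (d * j4) := mul_assoc _ _ _
        _ = d * (j4 * d * negOne) := by rw [k]
        _ = d * j4 * d * negOne := by group
        _ = j4 * d * negOne * d * negOne := by rw [k]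
        _ = j4 * d * (d * negOne) * negOne := by rw [mul_assoc (j4 * d) negOne d, negOne_comm]
        _ = j4 * (d * d) := by rw [← mul_assoc, neg_cancel, mul_assoc]
  have h2 : d * d = 1 := no_five hd2 (by
    rw [← sq, ← pow_mul, mul_comm, pow_mul, hd5, one_pow])
  have hd1 : d = 1 := by
    have h5' : d ^ 5 = d * d * (d * d) * d := by
      rw [pow_succ, pow_succ, pow_succ, pow_succ, pow_one, mul_assoc (d * d) d d]
    rw [h5', h2, one_mul, one_mul] at hd5
    exact hd5
  have hfe : f e = 1 := by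
    rw [hd1, map_one] at hfd
    have h0 : z * f e * z⁻¹ = 1 := hfd.symm
    exact conj_eq_one_iff.1 h0
  rcases (hf.ker _).1 hfe with k | k
  · exact he1 k
  · exact i4_facts.2.2.2.1 (k ▸ he5)

omit hj

theorem isConj_g0 : IsConj (f j4) (f (mk g0 nd_g0)) := by
  obtain ⟨d, hd⟩ := g0_j4
  refine f.map_isConj (isConj_iff.2 ⟨d, ?_⟩)
  rw [← hd, mul_inv_cancel_right]

include hj hx in
/-- The class of `j4` in the centraliser of the element of order four. -/
theorem class_u [Finite G] {y : G} (hy : y * uu f = uu f * y) (hc : IsConj (f j4) y) :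
    ∃ g c : L4, y = f g ∧ g * i4 = i4 * g ∧ g * g = 1 ∧ g ≠ 1 ∧ g ≠ negOne ∧ c * i4 = i4 * c ∧
      g * c = c * mk g0 nd_g0 := by
  obtain ⟨g, rfl⟩ := cent_le hf hx hy
  have hgi := lift_u hf hy
  have hy2 : f g * f g = 1 := by
    obtain ⟨z, hz⟩ := isConj_iff.1 hc
    rw [← hz]
    have hj2 : f j4 * f j4 = 1 := by
      rw [← map_mul, show j4 * j4 = 1 by decide +kernel, map_one]
    calc z * f j4 * z⁻¹ * (z * f j4 * z⁻¹) = z * (f j4 * f j4) * z⁻¹ := by group
      _ = 1 := by rw [hj2, mul_one, mul_inv_cancel]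
  have hne : f g ≠ 1 := fun e => by
    obtain ⟨z, hz⟩ := isConj_iff.1 hc
    rw [e, conj_eq_one_iff] at hz
    rcases (hf.ker _).1 hz with k | k <;> revert k <;> decide +kernel
  rcases (hf.ker (g * g)).1 (by rw [map_mul, hy2]) with h2 | h2
  · obtain ⟨c, hc1, hc2⟩ := inv_conj hgi h2 (fun e => hne (e ▸ map_one f)) (fun e => hne (e ▸ f_negOne hf))
    exact ⟨g, c, rfl, hgi, h2, fun e => hne (e ▸ map_one f), fun e => hne (e ▸ f_negOne hf), hc1, hc2⟩
  · obtain ⟨c, k | k⟩ := skew_conj hgi h2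
    · exfalso
      refine not_isConj hf hj (IsConj.trans ?_ hc.symm)
      refine f.map_isConj (isConj_iff.2 ⟨c, ?_⟩)
      rw [← k, mul_inv_cancel_right]
    · exfalso
      refine not_isConj hf hj ?_
      rw [k, map_mul, f_negOne hf, mul_one] at hc
      exact hc.symm

include hj hx in
/-- An element normalising the centraliser of `uu f` with central square fixes a conjugate of `j4` there. -/
theorem exists_fixed [Finite G] {u' : G} (hu' : ∀ y, y * uu f = uu f * y → u' * y * u'⁻¹ * uu f = uu f * (u' * y * u'⁻¹))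
    (hsq : u' * u' = f i4) :
    ∃ y, y * uu f = uu f * y ∧ IsConj (f j4) y ∧ u' * y = y * u' := by
  classical
  let F : Finset G := reps.image fun p => if h : nd p = 1 then f (mk p h) else 1
  have hmem : ∀ y, y ∈ F ↔ (y * uu f = uu f * y ∧ IsConj (f j4) y) := by
    intro y
    constructor
    · intro hy
      obtain ⟨p, hp, rfl⟩ := Finset.mem_image.1 hy
      obtain ⟨hpp, hnd, h1, h2, -⟩ := (Finset.mem_filter.1 hp).2
      rw [dif_pos hnd]
      have hcm := mk_comm_i4 p hnd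
      refine ⟨comm_u hcm, ?_⟩
      obtain ⟨c, hc1, hc2⟩ := inv_conj hcm ((mk_mul _ _).trans ((mk_congr hpp _ _).trans one_eq))
        (fun e => h1 (mk_inj (e.trans one_eq.symm))) (fun e => h2 (mk_inj (e.trans negOne_eq.symm)))
      refine (isConj_g0 hf).trans (f.map_isConj (isConj_iff.2 ⟨c, ?_⟩))
      rw [← hc2, mul_inv_cancel_right]
    · rintro ⟨hy, hc⟩
      obtain ⟨g, c, rfl, hgi, h2, h1, hn, -, -⟩ := class_u hf hx hj hy hc
      obtain ⟨p, hp, rfl⟩ := exists_mk hgi
      have hpp : mul p p = one9 := mk_inj ((mk_mul hp hp).symm.trans (h2.trans one_eq.symm))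
      have hp1 : p ≠ one9 := fun e => h1 ((mk_congr e _ _).trans one_eq)
      have hp2 : p ≠ neg9 := fun e => hn ((mk_congr e _ _).trans negOne_eq)
      by_cases hpos : pos p
      · exact Finset.mem_image.2 ⟨p, Finset.mem_filter.2 ⟨Finset.mem_univ _, hpp, hp, hp1, hp2, hpos⟩, dif_pos hp⟩
      · have hnd' : nd (mul p neg9) = 1 := nd_mul hp (by decide +kernel)
        have e' : mk (mul p neg9) hnd' = mk p hp * negOne := by rw [← negOne_eq, mk_mul]
        refine Finset.mem_image.2 ⟨mul p neg9, Finset.mem_filter.2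
          ⟨Finset.mem_univ _, ?_, hnd', ?_, ?_, ?_⟩, ?_⟩
        · refine mk_inj (h := nd_mul hnd' hnd') (h' := by decide +kernel) ?_
          rw [← mk_mul hnd' hnd', one_eq, e']
          calc mk p hp * negOne * (mk p hp * negOne) = mk p hp * (negOne * mk p hp) * negOne := by group
            _ = mk p hp * mk p hp * negOne * negOne := by rw [negOne_comm]; group
            _ = 1 := by rw [neg_cancel, h2]
        · intro e
          have : mk p hp * negOne = 1 := e'.symm.trans ((mk_congr e _ _).trans one_eq)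
          exact hn (by rw [← neg_cancel (mk p hp), this, one_mul])
        · intro e
          have : mk p hp * negOne = negOne := e'.symm.trans ((mk_congr e _ _).trans negOne_eq)
          exact h1 (mul_eq_right.1 this)
        · by_contra h'
          exact hpos ((pos_dichotomy p hp).2 h')
        · rw [dif_pos hnd', e', map_mul, f_negOne hf, mul_one]
  have hF : F.card = 45 := by
    rw [← card_reps]
    refine Finset.card_image_of_injOn fun p hp q hq e => ?_
    obtain ⟨-, hnp, -, -, hpos⟩ := (Finset.mem_filter.1 hp).2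
    obtain ⟨-, hnq, -, -, hqos⟩ := (Finset.mem_filter.1 hq).2
    simp only [dif_pos hnp, dif_pos hnq] at e
    rcases eq_or hf e with k | k
    · exact mk_inj k
    · rw [← negOne_eq, mk_mul] at k
      exact absurd (mk_inj k ▸ hpos) ((pos_dichotomy q hnq).1 hqos)
  by_contra hno
  push Not at hno
  have hu_i : ∀ y ∈ F, f i4 * y * (f i4)⁻¹ = y := by
    intro y hy
    have hyu := ((hmem y).1 hy).1
    rw [← u_sq hf, mul_inv_eq_iff_eq_mul, ← mul_assoc, hyu, mul_assoc (uu f) y, hyu, mul_assoc]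
  have hsum : ∑ _y ∈ F, (1 : ZMod 2) = 0 :=
    Finset.sum_involution (fun y _ => u' * y * u'⁻¹) (fun _ _ => by decide)
      (fun y hy _ e => hno y ((hmem y).1 hy).1 ((hmem y).1 hy).2 (mul_inv_eq_iff_eq_mul.1 e))
      (fun y hy => (hmem _).2 ⟨hu' y ((hmem y).1 hy).1, ((hmem y).1 hy).2.trans (isConj_iff.2 ⟨u', rfl⟩)⟩)
      (fun y hy => by
        show u' * (u' * y * u'⁻¹) * u'⁻¹ = y
        conv_rhs => rw [← hu_i y hy, ← hsq]
        group)
  rw [Finset.sum_const, hF, nsmul_one] at hsum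
  exact absurd hsum (by decide +kernel)

end Cfsg.Agent.L43CentI62

namespace Cfsg.Agent.L43Three45

open Cfsg Cfsg.Agent.L43CentIModel62 Cfsg.Agent.L43CentIBasic62 Cfsg.Agent.L43CentI62

/-- The centraliser of `i4` lies in the image. -/
theorem cent_i4 {G : Type*} [Group G] [Finite G] {f : L4 →* G} (hf : Full f)
    (hx : ∀ g, (g = xP ∨ g = xM) → Subgroup.centralizer ({f g} : Set G) ≤ f.range)
    (hj : Subgroup.centralizer ({f j4} : Set G) ≤ f.range) :
    Subgroup.centralizer ({f i4} : Set G) ≤ f.range := by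
  classical
  set H := Subgroup.centralizer ({f i4} : Set G) with hH
  have memH : ∀ {g : G}, g ∈ H ↔ g * f i4 = f i4 * g := Subgroup.mem_centralizer_singleton_iff
  have hi : f i4 ∈ H := memH.2 rfl
  set Z := Subgroup.zpowers (⟨f i4, hi⟩ : H) with hZ
  haveI : Z.Normal := ⟨fun n hn g => by
    have hcen : Z ≤ Subgroup.center H := Subgroup.zpowers_le.2
      (Subgroup.mem_center_iff.2 fun c => Subtype.ext (memH.1 c.2))
    rwa [Subgroup.mem_center_iff.1 (hcen hn) g, mul_inv_cancel_right]⟩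
  let q : H →* H ⧸ Z := QuotientGroup.mk' Z
  have hq : Function.Surjective q := QuotientGroup.mk'_surjective Z
  have hqker : ∀ c : H, q c = 1 → (c : G) = 1 ∨ (c : G) = f i4 := by
    intro c hc
    obtain ⟨k, hk⟩ := ((isOfFinOrder_of_finite (⟨f i4, hi⟩ : H)).mem_powers_iff_mem_zpowers).2
      ((QuotientGroup.eq_one_iff c).1 hc)
    have hk' : (c : G) = f i4 ^ k := by rw [← hk]; rfl
    rw [hk', pow_eq_pow_mod k (show f i4 ^ 2 = 1 by rw [sq, fi_sq hf])]
    rcases Nat.mod_two_eq_zero_or_one k with e | e <;> rw [e] <;> simp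
  have huH : uu f ∈ H := memH.2 (by rw [← u_sq hf, mul_assoc])
  set ub := q ⟨uu f, huH⟩ with hub
  have hpH : ∀ X, pv f X ∈ H := fun X => memH.2 (comm_i (p4_i4 X))
  -- `ub` is an isolated involution
  have hiso : IsIsolatedInvolution ub := by
    haveI : Fact (Nat.Prime 2) := ⟨Nat.prime_two⟩
    refine ⟨orderOf_eq_prime ?_ ?_, fun x hcom => ?_⟩
    · rw [sq, hub, ← map_mul]
      refine (QuotientGroup.eq_one_iff _).2 ?_
      have hsqH : (⟨uu f, huH⟩ : H) * ⟨uu f, huH⟩ = ⟨f i4, hi⟩ := Subtype.ext (u_sq hf)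
      rw [hsqH]
      exact Subgroup.mem_zpowers _
    · intro e
      rcases hqker _ e with k | k
      · rcases (hf.ker _).1 k with k | k
        · exact i4_facts.2.2.2.2.2.2.1 k
        · exact i4_facts.2.2.2.2.2.2.2.1 k
      · rcases eq_or hf k with k | k
        · exact i4_facts.2.2.2.2.1 k
        · exact i4_facts.2.2.2.2.2.1 k
    obtain ⟨h, rfl⟩ := hq x
    set u' := (h : G) * uu f * (h : G)⁻¹ with hu'
    have hu'H : u' ∈ H := H.mul_mem (H.mul_mem h.2 huH) (H.inv_mem h.2)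
    have hqu' : q h * ub * (q h)⁻¹ = q ⟨u', hu'H⟩ := by rw [hub, ← map_mul, ← map_inv, ← map_mul]; rfl
    rw [hqu'] at hcom ⊢
    have hsq : u' * u' = f i4 := by
      rw [hu']
      calc (h : G) * uu f * (h : G)⁻¹ * ((h : G) * uu f * (h : G)⁻¹) = h * (uu f * uu f) * (h : G)⁻¹ := by group
        _ = f i4 := by rw [u_sq hf, memH.1 h.2, mul_inv_cancel_right]
    have hcs : u' * uu f * u'⁻¹ * (uu f)⁻¹ = 1 ∨ u' * uu f * u'⁻¹ * (uu f)⁻¹ = f i4 := by
      refine hqker (⟨u', hu'H⟩ * ⟨uu f, huH⟩ * (⟨u', hu'H⟩ : H)⁻¹ * (⟨uu f, huH⟩ : H)⁻¹) ?_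
      rw [map_mul, map_mul, map_mul, map_inv, map_inv, ← hub, ← hcom.eq, mul_inv_cancel_right, mul_inv_cancel]
    have hnorm : ∀ y, y * uu f = uu f * y → u' * y * u'⁻¹ * uu f = uu f * (u' * y * u'⁻¹) := by
      intro y hy
      have hyi : y * f i4 = f i4 * y := by
        rw [← u_sq hf, ← mul_assoc, hy, mul_assoc, hy, mul_assoc]
      have key : u' * y * u'⁻¹ * (u' * uu f * u'⁻¹) = u' * uu f * u'⁻¹ * (u' * y * u'⁻¹) := by
        calc _ = u' * (y * uu f) * u'⁻¹ := by group
          _ = _ := by rw [hy]; group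
      rcases hcs with k | k <;> rw [mul_inv_eq_iff_eq_mul] at k <;> rw [k] at key
      · rwa [one_mul] at key
      · have hci : u' * y * u'⁻¹ * f i4 = f i4 * (u' * y * u'⁻¹) := by
          have h1 : u' * f i4 = f i4 * u' := memH.1 hu'H
          calc u' * y * u'⁻¹ * f i4 = u' * y * (u'⁻¹ * f i4 * u') * u'⁻¹ := by group
            _ = u' * (y * f i4) * u'⁻¹ := by rw [mul_assoc u'⁻¹, ← h1, inv_mul_cancel_left]; group
            _ = u' * f i4 * y * u'⁻¹ := by rw [hyi]; group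
            _ = _ := by rw [h1]; group
        rw [← mul_assoc, hci, mul_assoc, mul_assoc (f i4)] at key
        exact mul_left_cancel key
    obtain ⟨b, hbu, hbc, hbfix⟩ := exists_fixed hf hx hj hnorm hsq
    -- move `b` back
    set b' := (h : G)⁻¹ * b * h with hb'
    have hb'u : b' * uu f = uu f * b' := by
      rw [hb']
      calc (h : G)⁻¹ * b * h * uu f = (h : G)⁻¹ * (b * u') * h := by rw [hu']; group
        _ = uu f * ((h : G)⁻¹ * b * h) := by rw [← hbfix, hu']; group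
    have hb'c : IsConj (f j4) b' := hbc.trans (isConj_iff.2 ⟨(h : G)⁻¹, by rw [hb']; group⟩)
    obtain ⟨g₁, c₁, e₁, -, -, -, -, hc₁, hg₁⟩ := class_u hf hx hj hbu hbc
    obtain ⟨g₂, c₂, e₂, -, -, -, -, hc₂, hg₂⟩ := class_u hf hx hj hb'u hb'c
    obtain ⟨c, hc⟩ : ∃ c, c = f (c₂ * c₁⁻¹) := ⟨_, rfl⟩
    have hcb : c * b = b' * c := by
      rw [hc, e₁, e₂, ← MonoidHom.map_mul f, ← MonoidHom.map_mul f]
      refine congrArg f ?_
      rw [eq_mul_inv_of_mul_eq hg₁, eq_mul_inv_of_mul_eq hg₂]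
      simp only [mul_assoc, inv_mul_cancel_left, inv_mul_cancel, mul_one]
    have hcu : c * uu f = uu f * c := by
      rw [hc]
      refine comm_u ?_
      rw [mul_assoc, show c₁⁻¹ * i4 = i4 * c₁⁻¹ from ((show Commute c₁ i4 from hc₁).inv_left).eq,
        ← mul_assoc, hc₂, mul_assoc]
    have hzmem : (h : G) * c ∈ f.range := by
      obtain ⟨d, hd⟩ := g0_j4
      have hz' : b = f (c₁ * d) * f j4 * (f (c₁ * d))⁻¹ := by
        rw [e₁, ← MonoidHom.map_inv f, ← MonoidHom.map_mul f, ← MonoidHom.map_mul f, eq_mul_inv_of_mul_eq hg₁]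
        refine congrArg f ?_
        rw [mul_assoc c₁ d, ← hd, mul_inv_rev]
        simp only [mul_assoc, mul_inv_cancel_left]
      have h3 : (f (c₁ * d))⁻¹ * ((h : G) * c) * f (c₁ * d) ∈ f.range :=
        hj (Subgroup.mem_centralizer_singleton_iff.2 (by
          have hcom'' : (h : G) * c * b = b * ((h : G) * c) := by rw [mul_assoc, hcb, hb']; group
          rw [hz'] at hcom''
          calc (f (c₁ * d))⁻¹ * ((h : G) * c) * f (c₁ * d) * f j4
              = (f (c₁ * d))⁻¹ * ((h : G) * c * (f (c₁ * d) * f j4 * (f (c₁ * d))⁻¹)) * f (c₁ * d) := by group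
            _ = _ := by rw [hcom'']; group))
      have := f.range.mul_mem (f.range.mul_mem ⟨c₁ * d, rfl⟩ h3) (f.range.inv_mem ⟨c₁ * d, rfl⟩)
      simpa [mul_assoc] using this
    obtain ⟨g, hg⟩ := hzmem
    have hgi : f g * f i4 = f i4 * f g := by
      rw [hg]
      have hci : c * f i4 = f i4 * c := by rw [← u_sq hf, ← mul_assoc, hcu, mul_assoc, hcu, mul_assoc]
      rw [mul_assoc, hci, ← mul_assoc, memH.1 h.2, mul_assoc]
    have hu'g : u' = f g * uu f * (f g)⁻¹ := by
      rw [hg, hu']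
      calc (h : G) * uu f * (h : G)⁻¹ = (h : G) * (c * uu f * c⁻¹) * (h : G)⁻¹ := by
            rw [hcu, mul_inv_cancel_right]
        _ = _ := by group
    rcases lift_i hf hgi with k | k
    · have hu'u : u' = uu f := by rw [hu'g, comm_u k, mul_inv_cancel_right]
      exact congrArg q (Subtype.ext hu'u)
    · have hk : f g * uu f = uu f * f i4 * f g := by
        rw [uu, ← map_mul, ← map_mul, ← map_mul, semi_w4 k, map_mul, f_negOne hf, mul_one]
      have hu'u : u' = uu f * f i4 := by rw [hu'g, hk, mul_inv_cancel_right]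
      refine (congrArg q (Subtype.ext hu'u : (⟨u', hu'H⟩ : H) = ⟨uu f, huH⟩ * ⟨f i4, hi⟩)).trans ?_
      rw [map_mul, show q ⟨f i4, hi⟩ = 1 from (QuotientGroup.eq_one_iff _).2 (Subgroup.mem_zpowers _), mul_one, hub]
  -- the odd core is trivial
  set O := pPrimeCore 2 (H ⧸ Z) with hO
  haveI hOn : O.Normal := HallCore.pPrimeCore_normal 2 _
  have hodd : Odd (Nat.card O) := ZStarTheorem.odd_card_pPrimeCore
  let pB : F9 → H ⧸ Z := fun X => q ⟨pv f X, hpH X⟩
  have pB_add : ∀ X Y, pB X * pB Y = pB (X + Y) := fun X Y => by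
    show q _ * q _ = q _
    rw [← map_mul]; exact congrArg q (Subtype.ext (pv_add X Y))
  have pB_zero : pB 0 = 1 := by
    show q _ = 1
    rw [← map_one q]; exact congrArg q (Subtype.ext pv_zero)
  have pB_ne : ∀ X, X ≠ 0 → pB X ≠ 1 := by
    intro X hX e
    rcases hqker _ e with k | k
    · exact hX (pv_inj hf (k.trans pv_zero.symm))
    · have k' : pv f X = f i4 := k
      have h3 := pv_cube (f := f) X
      rw [k', fi_sq hf, one_mul] at h3
      rw [h3] at k'
      exact hX (pv_inj hf (k'.trans pv_zero.symm))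
  have horder : ∀ (y : H ⧸ Z), y ∈ O → y * y = 1 → y = 1 := by
    intro y hy h2
    have h1 : orderOf y ∣ Nat.card O := Subgroup.orderOf_dvd_natCard O hy
    have h3 : orderOf y ∣ 2 := orderOf_dvd_of_pow_eq_one (by rw [sq, h2])
    have h4 : orderOf y ∣ Nat.gcd 2 (Nat.card O) := Nat.dvd_gcd h3 h1
    rw [Nat.coprime_two_left.2 hodd, Nat.dvd_one] at h4
    exact orderOf_eq_one_iff.1 h4
  have hnotin : ∀ X, X ≠ 0 → pB X ∉ O := by
    intro X hX hmem
    obtain ⟨e, hei, hee, he2⟩ := weyl X hX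
    have heH : f e ∈ H := memH.2 (comm_i hei)
    have hm : q ⟨f e, heH⟩ ∈ O := by
      have h' : (⟨f e, heH⟩ : H) = ⟨pv f X, hpH X⟩ * (⟨f e, heH⟩ * ⟨pv f X, hpH X⟩ * (⟨f e, heH⟩ : H)⁻¹) *
          ⟨pv f X, hpH X⟩ := by
        apply Subtype.ext
        show f e = pv f X * (f e * pv f X * (f e)⁻¹) * pv f X
        rw [pv, ← map_inv, ← map_mul, ← map_mul, ← map_mul, ← map_mul, hee]
      rw [h', map_mul, map_mul, map_mul, map_mul, map_inv]
      exact O.mul_mem (O.mul_mem hmem (hOn.conj_mem _ hmem _)) hmem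
    have h1 : q ⟨f e, heH⟩ = 1 := horder _ hm (by
      rw [← map_mul, ← map_one q]
      exact congrArg q (Subtype.ext (show f e * f e = 1 by rw [← map_mul, he2, f_negOne hf])))
    have hne : ∀ a, a * p4 X = p4 X * a → e ≠ a := by
      intro a ha hea
      subst hea
      rw [show e * p4 X * e⁻¹ = p4 X by rw [ha, mul_inv_cancel_right]] at hee
      rw [p4_cube] at hee
      rw [← hee, one_mul] at he2
      exact negOne_ne he2.symm
    rcases hqker _ h1 with k | k
    · rcases (hf.ker _).1 k with k | k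
      · exact hne 1 (by rw [one_mul, mul_one]) k
      · exact hne negOne (negOne_comm _) k
    · rcases eq_or hf k with k | k
      · exact hne i4 (p4_i4 X).symm k
      · exact hne (i4 * negOne) (by rw [mul_assoc, negOne_comm, ← mul_assoc, ← p4_i4 X, mul_assoc]) k
  let A : Subgroup (H ⧸ Z) :=
    { carrier := Set.range pB
      one_mem' := ⟨0, pB_zero⟩
      mul_mem' := by rintro _ _ ⟨X, rfl⟩ ⟨Y, rfl⟩; exact ⟨X + Y, (pB_add X Y).symm⟩
      inv_mem' := by
        rintro _ ⟨X, rfl⟩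
        exact ⟨-X, (inv_eq_of_mul_eq_one_right (by rw [pB_add, add_neg_cancel, pB_zero])).symm⟩ }
  have hfour : ∀ X, X ≠ 0 → ∀ y : H ⧸ Z, y * pB X = pB X * y → (y * y) ^ 2 ∈ A := by
    intro X hX y hyc
    obtain ⟨h, rfl⟩ := hq y
    have hcom : (h : G) * pv f X * (h : G)⁻¹ * (pv f X)⁻¹ = 1 ∨
        (h : G) * pv f X * (h : G)⁻¹ * (pv f X)⁻¹ = f i4 := by
      refine hqker (h * ⟨pv f X, hpH X⟩ * h⁻¹ * (⟨pv f X, hpH X⟩ : H)⁻¹) ?_
      rw [map_mul, map_mul, map_mul, map_inv, map_inv]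
      rw [hyc, mul_inv_cancel_right, mul_inv_cancel]
    have hv : (h : G) * pv f X = pv f X * h := by
      rcases hcom with k | k
      · exact mul_inv_eq_iff_eq_mul.1 (mul_inv_eq_one.1 k)
      · exfalso
        rw [mul_inv_eq_iff_eq_mul] at k
        have hc2 : ((h : G) * pv f X * (h : G)⁻¹) ^ 3 = 1 := by
          rw [conj_pow, pow_three', pv_cube, mul_one, mul_inv_cancel]
        have hic : Commute (f i4) (pv f X) := (memH.1 (hpH X)).symm
        rw [k, hic.mul_pow, pow_three' (pv f X), pv_cube, mul_one, pow_succ, sq, fi_sq hf, one_mul] at hc2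
        rw [← orderOf_eq_one_iff, orderOf_i hf] at hc2
        norm_num at hc2
    obtain ⟨k, Y, hkY⟩ := cent_sq hf hx (memH.1 h.2) hX hv
    have hukH : uu f ^ k ∈ H := H.pow_mem huH k
    have hyy : q h * q h = q ⟨uu f ^ k, hukH⟩ * pB Y := by
      rw [← map_mul]
      show q _ = q _ * q _
      rw [← map_mul]
      exact congrArg q (Subtype.ext hkY)
    have hub2 : ub * ub = 1 := by rw [← sq, ← hiso.1, pow_orderOf_eq_one]
    have hwc : Commute (q ⟨uu f ^ k, hukH⟩) (pB Y) := by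
      show q _ * q _ = q _ * q _
      rw [← map_mul, ← map_mul]
      exact congrArg q (Subtype.ext ((Commute.pow_left (comm_u (p4_i4 Y)).symm k).eq))
    refine ⟨Y + Y, ?_⟩
    rw [hyy, hwc.mul_pow, ← map_pow, sq (pB Y), pB_add]
    have e1 : q ((⟨uu f ^ k, hukH⟩ : H) ^ 2) = (ub * ub) ^ k := by
      rw [hub, ← map_mul, ← map_pow]
      refine congrArg q (Subtype.ext ?_)
      show (uu f ^ k) ^ 2 = (uu f * uu f) ^ k
      rw [← sq, ← pow_mul, ← pow_mul, mul_comm]
    rw [e1, hub2, one_pow, one_mul]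
  have hinj : Function.Injective pB := fun X Y e => by
    by_contra hne
    refine pB_ne (X + -Y) (fun h0 => hne (add_neg_eq_zero.1 h0)) ?_
    rw [← pB_add, e, pB_add, add_neg_cancel, pB_zero]
  have hA9 : Nat.card A = 9 := by
    show Nat.card (Set.range pB) = 9
    rw [Nat.card_range_of_injective hinj, Nat.card_eq_fintype_card]
    rfl
  haveI : Fact (Nat.Prime 3) := ⟨Nat.prime_three⟩
  have hthree : ¬ 3 ∣ Nat.card O := by
    intro hd
    obtain ⟨x, hx3⟩ := exists_prime_orderOf_dvd_card' (G := O) 3 hd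
    obtain ⟨R, hAR⟩ := (IsPGroup.of_card (n := 2) (by rw [hA9]; norm_num) : IsPGroup 3 A).exists_le_sylow
    have hin : ∀ X, X ≠ 0 → ∀ r ∈ (R : Subgroup (H ⧸ Z)), r * pB X = pB X * r → r ∈ A := by
      intro X hX r hr hc
      obtain ⟨n, hn⟩ := R.isPGroup' ⟨r, hr⟩
      have hn' : r ^ 3 ^ n = 1 := congrArg Subtype.val hn
      have hco : (orderOf r).Coprime 4 :=
        Nat.Coprime.coprime_dvd_left (orderOf_dvd_of_pow_eq_one hn') (Nat.Coprime.pow_left n (by norm_num))
      obtain ⟨m, hm⟩ := exists_pow_eq_self_of_coprime hco.symm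
      rw [← hm]
      refine A.pow_mem ?_ m
      have h4 := hfour X hX r hc
      rwa [← sq, ← pow_mul] at h4
    have h1 : ((1, 0) : F9) ≠ 0 := one_ne
    haveI : Nontrivial R := ⟨⟨pB (1, 0), hAR ⟨_, rfl⟩⟩, 1, fun e => pB_ne _ h1 (congrArg Subtype.val e)⟩
    haveI : Nontrivial (Subgroup.center R) := R.isPGroup'.center_nontrivial
    obtain ⟨z, hz⟩ := exists_ne (1 : Subgroup.center R)
    have hzc : ∀ a : R, (a : H ⧸ Z) * z = z * a := fun a =>
      congrArg Subtype.val (Subgroup.mem_center_iff.1 z.2 a)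
    obtain ⟨W, hW⟩ := hin _ h1 _ (z : R).2 (hzc ⟨pB (1, 0), hAR ⟨_, rfl⟩⟩).symm
    have hW0 : W ≠ 0 := fun e => hz (Subtype.ext (Subtype.ext (by rw [← hW, e, pB_zero]; rfl)))
    have hRA : (R : Subgroup (H ⧸ Z)) = A := le_antisymm
      (fun r hr => hin W hW0 r hr (by rw [hW]; exact hzc ⟨r, hr⟩)) hAR
    obtain ⟨y, hy⟩ := SelfCentNineReduce64.conj_into R hRA.symm
      (show orderOf ((x : H ⧸ Z)) = 3 by rw [Subgroup.orderOf_coe, hx3])
    obtain ⟨V, hV⟩ := hy
    have hV0 : V ≠ 0 := fun e => by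
      rw [e, pB_zero] at hV
      have h0 : (x : H ⧸ Z) = 1 := conj_eq_one_iff.1 hV.symm
      rw [OneMemClass.coe_eq_one] at h0
      rw [h0, orderOf_one] at hx3
      norm_num at hx3
    exact hnotin V hV0 (hV ▸ hOn.conj_mem _ x.2 y)
  have hObot : O = ⊥ := by
    refine le_bot_iff.1 ?_
    haveI : IsMulCommutative A := ⟨⟨by
      rintro ⟨_, X, rfl⟩ ⟨_, Y, rfl⟩
      exact Subtype.ext (by show pB X * pB Y = pB Y * pB X; rw [pB_add, pB_add, add_comm])⟩⟩
    have h3 : ∀ a : A, a ^ 3 = 1 := by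
      rintro ⟨_, X, rfl⟩
      refine Subtype.ext ?_
      show pB X ^ 3 = 1
      rw [pow_three', pB_add, pB_add, tri9, pB_zero]
    have hcyc : ¬ IsCyclic A := by
      intro hc
      obtain ⟨a, ha⟩ := hc.exists_generator
      have h9 : orderOf a = 9 := by rw [orderOf_eq_card_of_forall_mem_zpowers ha, hA9]
      have h93 := orderOf_dvd_of_pow_eq_one (h3 a)
      rw [h9] at h93
      norm_num at h93
    refine CoprimeGen.le_of_centralizers hcyc
      (by rw [Subgroup.normalizer_eq_top_iff.2 hOn]; exact le_top)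
      (by rw [hA9, show 9 = 3 ^ 2 by norm_num]
          exact Nat.Coprime.pow_left 2 ((Nat.Prime.coprime_iff_not_dvd Nat.prime_three).2 hthree)) ?_
    rintro _ ⟨X, rfl⟩ hne y ⟨hy, hyc⟩
    have hX : X ≠ 0 := fun e => hne (e ▸ pB_zero)
    obtain ⟨V, hV⟩ := hfour X hX y (Subgroup.mem_centralizer_singleton_iff.1 hyc)
    by_cases hV0 : V = 0
    · rw [hV0, pB_zero, sq] at hV
      exact Subgroup.mem_bot.2 (horder _ hy (horder _ (O.mul_mem hy hy) hV.symm))
    · exact absurd (hV ▸ O.pow_mem (O.mul_mem hy hy) 2) (hnotin _ hV0)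
  -- conclusion
  have hcen := ZStarTheorem.mem_center_of_isolated hiso hObot
  intro y hy
  have hyH : y ∈ H := hy
  have hc1 : q ⟨y, hyH⟩ * ub = ub * q ⟨y, hyH⟩ := Subgroup.mem_center_iff.1 hcen _
  have hk : y * uu f * y⁻¹ * (uu f)⁻¹ = 1 ∨ y * uu f * y⁻¹ * (uu f)⁻¹ = f i4 := by
    refine hqker (⟨y, hyH⟩ * ⟨uu f, huH⟩ * (⟨y, hyH⟩ : H)⁻¹ * (⟨uu f, huH⟩ : H)⁻¹) ?_
    rw [map_mul, map_mul, map_mul, map_inv, map_inv, ← hub, hc1, mul_inv_cancel_right, mul_inv_cancel]
  obtain ⟨σ, hσ⟩ := exists_semi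
  have hfσ : f σ * uu f * (f σ)⁻¹ = uu f * f i4 := by
    rw [uu, ← map_inv, ← map_mul, ← map_mul, hσ, map_mul, f_negOne hf, mul_one, map_mul]
  rcases hk with k | k
  · exact cent_le hf hx (mul_inv_eq_iff_eq_mul.1 (mul_inv_eq_one.1 k))
  · have hm : (f σ)⁻¹ * y ∈ f.range := by
      refine cent_le hf hx ?_
      rw [mul_inv_eq_iff_eq_mul] at k
      have hui : f i4 * uu f = uu f * f i4 := by rw [← u_sq hf, mul_assoc]
      calc (f σ)⁻¹ * y * uu f = (f σ)⁻¹ * (y * uu f * y⁻¹) * y := by group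
        _ = (f σ)⁻¹ * (f σ * uu f * (f σ)⁻¹) * y := by rw [k, hui, hfσ]
        _ = uu f * ((f σ)⁻¹ * y) := by group
    have := f.range.mul_mem ⟨σ, rfl⟩ hm
    simpa using this

end Cfsg.Agent.L43Three45
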