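import Mathlib
import Cfsg.Agent.Lib.L43Base45

/-!
The centraliser of `j4` in `SL(4,3)` as pairs of elements of `GL(2,3)` with equal determinants
extended by the exchange of the two planes, and finite facts about it.
-/

set_option autoImplicit false
set_option maxRecDepth 100000

namespace Cfsg.Agent.L43CentJModel49

open Matrix Cfsg.Agent.L43Three45

/-- Table lookup. -/
def get (T w k : ℕ) : ℕ := (T >>> (w * k)) % 2 ^ w

/-- Table. -/
def mulT : ℕ := 723378467330512388617183854676542112570085193962626539378991628168666156981470653423889969509996075307240237727395130705051516155448483167010296208580283274297645284572539691905869901072881229136197092097795765088806947756420623178162433937742801445165950430562540086218699887262689445258649091305322236591824091443435953534948126038503778233511672440084462845303816556533800148702859633841568902829636934344765238761439395392763297782236385304144452539618180411468596370600506206993873448883185301818987560047194523357824503482581531981362203652315381962571334670644911083637786442136482023223819334543933714621567788679551317094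756260759901960440311344436076370850512854383335311265941211013689631484631387464102496203652268105420086130808979105617544114454447497879454758724485971467655783316640127254914721864358246527005444337882267124851722697928105439792808510429130152963985338180197378042187796901012963385984657959789896906065056703430979098390012403995803529281932621490942917838810832859860092520081834708764785962197319328295089624570773004695807130223293451745734103662585475193899978578356996825749238966253103026307912138896671481042664787631029863459861061190140558178433937992982993427444498082210846977030879267578899078642086064805631078936893201867388959194013243995098581965239954769138841891989704964182363170615477345877343117310284471740208001340256900537108175016434439230427897782047272723874219700140200689795011736204357057948314563382165808456777977081891222756982153355200008220516395005596188272817307447758190325139801119703583911126064759489872199735522618383622838772832255678645824000413523247659368402565979026065481285860096051342332270799700016274895253653101559370731784722645303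801339487975755843111751689392867348319980661454475436185000960388069389885939116046537810392221854588019843224448277418187748348806293199339902990095574500751942805654679348564809805378015597013380321556567140863026923042382901947151078080770356149465468542679741822234011759986149315911048957511770111359304541871430083160265710815909163789304941827874217673766255118601887055271732151959811064863957516161478219176671604025902346847220742890104562656314415671743308862359650979187994394167919248084614071219463608456151911063787574617250775288506819748852499851823673885296217243119350508314822095686682114019424589186843693360416485291667414366180178938088442983839141123607783420909631860466590280797308663609571640843706535296785614227515861390530396738761447592195163025790817834945173790237023411949296055916639428511702660573372531110832321907517869639227950295695351804349635870580857563661717613336204029457859362523476697464818823513319882164230392960433820158986159406606828793898369160561639287928492456629916310487352125331553081300074190404894379269019389057336949704359444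911840936613546429628634221675113083396268973686478239368457576471407765626578941292772132545307549781404861440615254008391713822768346014477760166841061509382903889088825893045786918074808747212729865459367988276205357911853865005832565034517803289576627581452645249569849000315160531588400369737203214411719700697503446335683058608098246057219030441512408312170986994892104335112053674551807852262294521035941373344678533962632983969086906799448539585027383878164221110414759082392456902095807100112849149758353786314359543559305182141374534967707493464865798145422927932837935080505307812648434276039497196660375638975847710368887397285182317762359250438405210230276773941062037763973031546219350879802041699295835275362849172551375444864081074664452184358891733737543335306752822332060815541307500558468827089049040064884368828772073214666798636351689187495404532548238826290204440998134026774984777337283111377272367010155498785391681671984367745241192084622008767508547754129490543759866882263368976639424521112638718557839152472083975820087585639703162659418726659922317886554378623792122027455535637917464340985417216529901979549045693329632823000334591795936895324656147361589825475901342289034164632247423788612313192892000036006103617278733672776594070189853301506381180184804509925598836554433926517546967997627250546797556402497480564800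
/-- Table. -/
def invT : ℕ := 370889767882213970115356168120598680637940282649548998475382167050181706824894869155904
/-- Table. -/
def detT : ℕ := 280379743338240
/-- Table. -/
def matT : ℕ := 24829567400538855453055302841070830889781103260827741979545518373115030716108229716961834465125176587156547381527105

/-- Product in `GL(2,3)`. -/
def gm (i j : Fin 48) : Fin 48 := ⟨get mulT 6 (48 * i.val + j.val) % 48, Nat.mod_lt _ (by norm_num)⟩
/-- Inverse in `GL(2,3)`. -/
def gi (i : Fin 48) : Fin 48 := ⟨get invT 6 i.val % 48, Nat.mod_lt _ (by norm_num)⟩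
/-- The determinant is `-1`. -/
def dt (i : Fin 48) : Bool := detT.testBit i.val
/-- An entry. -/
def gq (i : Fin 48) (k : Fin 4) : ZMod 3 := (get matT 2 (4 * i.val + k.val) : ZMod 3)

lemma gm_assoc : ∀ i j k : Fin 48, gm (gm i j) k = gm i (gm j k) := by decide +kernel
lemma gm_one : ∀ i : Fin 48, gm 0 i = i ∧ gm i 0 = i ∧ gm (gi i) i = 0 ∧ gm i (gi i) = 0 := by
  decide +kernel
lemma dt_gm : ∀ i j : Fin 48, dt (gm i j) = xor (dt i) (dt j) := by decide +kernel
lemma dt_gi : ∀ i : Fin 48, dt (gi i) = dt i := by decide +kernel

lemma gq_gm : ∀ i j : Fin 48,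
    gq (gm i j) 0 = gq i 0 * gq j 0 + gq i 1 * gq j 2 ∧
    gq (gm i j) 1 = gq i 0 * gq j 1 + gq i 1 * gq j 3 ∧
    gq (gm i j) 2 = gq i 2 * gq j 0 + gq i 3 * gq j 2 ∧
    gq (gm i j) 3 = gq i 2 * gq j 1 + gq i 3 * gq j 3 := by
  decide +kernel

lemma gq_det : ∀ i : Fin 48, gq i 0 * gq i 3 - gq i 1 * gq i 2 = if dt i then -1 else 1 := by
  decide +kernel

lemma gq_surj : ∀ a b c d : ZMod 3, a * d - b * c ≠ 0 →
    ∃ i : Fin 48, gq i 0 = a ∧ gq i 1 = b ∧ gq i 2 = c ∧ gq i 3 = d := by
  decide +kernel

/-- Elements. -/
@[ext] structure MB where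
  a : Fin 48
  b : Fin 48
  s : Bool
deriving DecidableEq

instance instOneMB : One MB := ⟨⟨0, 0, false⟩⟩

instance instMulMB : Mul MB :=
  ⟨fun x y => ⟨gm x.a (if x.s then y.b else y.a), gm x.b (if x.s then y.a else y.b), xor x.s y.s⟩⟩

instance instInvMB : Inv MB :=
  ⟨fun x => ⟨gi (if x.s then x.b else x.a), gi (if x.s then x.a else x.b), x.s⟩⟩

lemma mul_def (x y : MB) : x * y =
    ⟨gm x.a (if x.s then y.b else y.a), gm x.b (if x.s then y.a else y.b), xor x.s y.s⟩ := rfl

lemma inv_def (x : MB) : x⁻¹ =
    ⟨gi (if x.s then x.b else x.a), gi (if x.s then x.a else x.b), x.s⟩ := rfl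

lemma one_def : (1 : MB) = ⟨0, 0, false⟩ := rfl

instance instGroupMB : Group MB where
  mul_assoc x y z := by
    obtain ⟨a, b, s⟩ := x
    obtain ⟨c, d, t⟩ := y
    cases s <;> cases t <;> simp [mul_def, gm_assoc]
  one_mul x := by simp [mul_def, one_def, (gm_one _).1]
  mul_one x := by
    obtain ⟨a, b, s⟩ := x
    cases s <;> simp [mul_def, one_def, (gm_one _).2.1]
  inv_mul_cancel x := by
    obtain ⟨a, b, s⟩ := x
    cases s <;> simp [mul_def, one_def, inv_def, (gm_one _).2.2.1]

/-- As a product. -/
def equivProd : MB ≃ Fin 48 × Fin 48 × Bool where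
  toFun x := (x.a, x.b, x.s)
  invFun t := ⟨t.1, t.2.1, t.2.2⟩
  left_inv _ := rfl
  right_inv _ := rfl

instance instFintypeMB : Fintype MB := Fintype.ofEquiv _ equivProd.symm

/-- Equal determinants. -/
def Good (x : MB) : Prop := dt x.a = dt x.b

instance : DecidablePred Good := fun x => inferInstanceAs (Decidable (_ = _))

/-- The subgroup of elements of determinant one. -/
def Bd : Subgroup MB where
  carrier := {x | Good x}
  one_mem' := rfl
  mul_mem' := fun {x y} (hx : dt x.a = dt x.b) (hy : dt y.a = dt y.b) => by
    show dt _ = dt _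
    rw [mul_def, dt_gm, dt_gm]
    cases x.s <;> simp [hx, hy]
  inv_mem' := fun {x} (hx : dt x.a = dt x.b) => by
    show dt _ = dt _
    rw [inv_def, dt_gi, dt_gi]
    cases x.s <;> simp [hx]

/-- Minus one. -/
def nB : MB := ⟨1, 1, false⟩
def jB : MB := ⟨0, 1, false⟩
def zA : MB := ⟨16, 0, false⟩
def sB : MB := ⟨0, 16, false⟩
def qA : MB := ⟨2, 0, false⟩
def kA : MB := ⟨4, 0, false⟩
def hB : MB := ⟨8, 8, false⟩
def wB : MB := ⟨0, 0, true⟩
def iB : MB := ⟨2, 2, false⟩

/-- Equality up to sign. -/
def Eqv (x y : MB) : Prop := y = x ∨ y = nB * x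

instance (x y : MB) : Decidable (Eqv x y) := inferInstanceAs (Decidable (_ ∨ _))

/-- Membership in the Sylow subgroup at two. -/
def InT (x : MB) : Prop := x.a.val < 16 ∧ x.b.val < 16 ∧ dt x.a = dt x.b
/-- Membership in the product of the quaternion groups. -/
def InU (x : MB) : Prop := x.a.val < 8 ∧ x.b.val < 8 ∧ x.s = false

instance : DecidablePred InT := fun x => inferInstanceAs (Decidable (_ ∧ _ ∧ _))
instance : DecidablePred InU := fun x => inferInstanceAs (Decidable (_ ∧ _ ∧ _))

lemma low_closed : (∀ i j : Fin 48, i.val < 16 → j.val < 16 → (gm i j).val < 16) ∧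
    (∀ i : Fin 48, i.val < 16 → (gi i).val < 16) ∧
    (∀ i j : Fin 48, i.val < 8 → j.val < 8 → (gm i j).val < 8) ∧
    (∀ i : Fin 48, i.val < 8 → (gi i).val < 8) ∧ ∀ i : Fin 48, i.val < 8 → dt i = false := by
  decide +kernel

/-- The Sylow subgroup at two. -/
def TB : Subgroup MB where
  carrier := {x | InT x}
  one_mem' := by show InT 1; decide
  mul_mem' := fun {x y} (hx : InT x) (hy : InT y) => by
    obtain ⟨a1, a2, a3⟩ := hx
    obtain ⟨b1, b2, b3⟩ := hy
    refine ⟨?_, ?_, Bd.mul_mem' (show Good x from a3) (show Good y from b3)⟩
    · rw [mul_def]; exact low_closed.1 _ _ a1 (by split <;> assumption)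
    · rw [mul_def]; exact low_closed.1 _ _ a2 (by split <;> assumption)
  inv_mem' := fun {x} (hx : InT x) => by
    obtain ⟨a1, a2, a3⟩ := hx
    refine ⟨?_, ?_, Bd.inv_mem' (show Good x from a3)⟩
    · rw [inv_def]; exact low_closed.2.1 _ (by split <;> assumption)
    · rw [inv_def]; exact low_closed.2.1 _ (by split <;> assumption)

lemma card_TB : (Finset.univ.filter InT).card = 256 := by decide +kernel

/-- Powers of the transvection. -/
def zp : Fin 3 → Fin 48 := ![0, 16, 32]
/-- An element of the three-group. -/
def pv (u v : Fin 3) : MB := ⟨zp u, zp v, false⟩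
/-- Representatives for the two-part of the normaliser of the three-group. -/
def tn : Fin 8 → MB :=
  ![1, jB, hB, hB * jB, wB, wB * jB, wB * hB, wB * hB * jB]

lemma pv_mul : ∀ u v u' v' : Fin 3, pv u v * pv u' v' = pv (u + u') (v + v') := by decide +kernel

lemma tn_mem : ∀ i, InT (tn i) := by decide +kernel

lemma norm_T : ∀ x : MB, Good x → InT (x * qA * x⁻¹) → InT (x * kA * x⁻¹) → InT (x * hB * x⁻¹) →
    InT (x * wB * x⁻¹) → InT x := by
  decide +kernel

/-- An element realising an automorphism of a quaternion group. -/
def mkX (a : Fin 48) (s : Bool) : MB :=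
  if s then ⟨if dt a then 8 else 0, a, s⟩ else ⟨a, if dt a then 8 else 0, s⟩

lemma autA : ∀ y1 : MB, InT y1 → Eqv (y1 * y1) jB → ∀ y2 : MB, InT y2 → Eqv (y2 * y2) jB →
    ¬ Eqv (y1 * y2) (y2 * y1) → ∃ a : Fin 48, ∃ s : Bool,
      Eqv (mkX a s * qA * (mkX a s)⁻¹) y1 ∧ Eqv (mkX a s * kA * (mkX a s)⁻¹) y2 := by
  decide +kernel

lemma good_aux : ∀ (a : Fin 48) (s : Bool),
    Good (mkX a s) := by decide +kernel

lemma qA_kA : InT qA ∧ InT kA ∧ InT hB ∧ InT wB ∧ Eqv (qA * qA) jB ∧ Eqv (kA * kA) jB ∧
    ¬ Eqv (qA * kA) (kA * qA) := by
  decide +kernel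

lemma qk_gen : ∀ a : Fin 48, a.val < 8 →
    ∃ e : Fin 4, ∃ e' : Fin 4, (⟨a, 0, false⟩ : MB) = qA ^ e.val * kA ^ e'.val := by
  decide +kernel

lemma zA_qk : (∃ a : Fin 48, a.val < 8 ∧ zA * qA * zA⁻¹ = ⟨a, 0, false⟩) ∧
    (∃ a : Fin 48, a.val < 8 ∧ zA * kA * zA⁻¹ = ⟨a, 0, false⟩) ∧
    sB * qA * sB⁻¹ = qA ∧ sB * kA * sB⁻¹ = kA := by
  decide +kernel

lemma norm_P : ∀ x : MB, Good x → (∃ u v, Eqv (x * zA * x⁻¹) (pv u v)) →
    (∃ u v, Eqv (x * sB * x⁻¹) (pv u v)) → ∃ u v i, Eqv (pv u v * tn i) x := by
  decide +kernel

lemma cent_Q : ∀ x : MB, Good x → Eqv (x * qA * x⁻¹) qA → Eqv (x * kA * x⁻¹) kA →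
    (∃ v, Eqv (x * sB * x⁻¹) (pv 0 v)) → ∃ v, Eqv (pv 0 v) x ∨ Eqv (pv 0 v * jB) x := by
  decide +kernel

lemma tn_U : ∀ i, InU (tn i) → (i = 0 ∨ i = 1) := by decide +kernel

lemma jB_comm : ∀ x : MB, Good x → Eqv (x * jB) (jB * x) := by decide +kernel

lemma T_cover : ∀ x : MB, InT x →
    InU x ∨ InU (x * hB) ∨ InU (x * wB) ∨ InU (x * (wB * hB)) := by
  decide +kernel

lemma T1_flip : ∀ y : MB, InT y → y.s = false → Eqv (y * y) 1 → ¬ Eqv y 1 → ¬ Eqv y jB →
    ∃ k : Fin 48, k.val < 8 ∧ Eqv (⟨0, k, false⟩ * y * (⟨0, k, false⟩ : MB)⁻¹) (y * jB) := by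
  decide +kernel

lemma U_invol : ∀ y : MB, InU y → Eqv (y * y) 1 → ¬ Eqv y 1 → ¬ Eqv y jB →
    ∃ k k' : Fin 48, dt k = false ∧ dt k' = false ∧
      Eqv (⟨k, k', false⟩ * y * (⟨k, k', false⟩ : MB)⁻¹) iB := by
  decide +kernel

lemma comm_plane : ∀ k : Fin 48, k.val < 8 → ∃ a c : Fin 48, a.val < 8 ∧ c.val < 8 ∧
    k = gm (gm (gm (gm 16 a) (gi 16)) (gi a)) (gm (gm (gm 16 c) (gi 16)) (gi c)) := by
  decide +kernel

/-! ### The matrices -/

/-- Two blocks on the planes `⟨e₀, e₃⟩` and `⟨e₁, e₂⟩`. -/
def blk (i j : Fin 48) : Matrix (Fin 4) (Fin 4) (ZMod 3) :=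
  !![gq i 0, 0, 0, gq i 1; 0, gq j 0, gq j 1, 0; 0, gq j 2, gq j 3, 0; gq i 2, 0, 0, gq i 3]

/-- The exchange of the planes. -/
def swapM : Matrix (Fin 4) (Fin 4) (ZMod 3) :=
  !![0, 1, 0, 0; 1, 0, 0, 0; 0, 0, 0, 1; 0, 0, 1, 0]

/-- The matrix of an element. -/
def toM (x : MB) : Matrix (Fin 4) (Fin 4) (ZMod 3) := if x.s then blk x.a x.b * swapM else blk x.a x.b

lemma blk_mul (i j k l : Fin 48) : blk i j * blk k l = blk (gm i k) (gm j l) := by
  obtain ⟨a0, a1, a2, a3⟩ := gq_gm i k
  obtain ⟨b0, b1, b2, b3⟩ := gq_gm j l
  ext p q
  fin_cases p <;> fin_cases q <;>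
    simp [blk, Matrix.mul_apply, Fin.sum_univ_four, a0, a1, a2, a3, b0, b1, b2, b3]

lemma swap_blk (k l : Fin 48) : swapM * blk k l = blk l k * swapM := by
  ext p q
  fin_cases p <;> fin_cases q <;>
    simp [blk, swapM, Matrix.mul_apply, Fin.sum_univ_four]

lemma swap_sq : swapM * swapM = 1 := by decide +kernel

lemma toM_mul (x y : MB) : toM (x * y) = toM x * toM y := by
  obtain ⟨a, b, s⟩ := x
  obtain ⟨c, d, t⟩ := y
  cases s <;> cases t <;> simp only [toM, mul_def, Bool.false_eq_true, if_true, if_false,
    Bool.false_xor, Bool.true_xor, Bool.not_false, Bool.not_true]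
  · exact (blk_mul ..).symm
  · rw [← blk_mul, Matrix.mul_assoc]
  · rw [Matrix.mul_assoc, swap_blk, ← Matrix.mul_assoc, blk_mul]
  · rw [Matrix.mul_assoc, ← Matrix.mul_assoc swapM, swap_blk, Matrix.mul_assoc, swap_sq,
      Matrix.mul_one, blk_mul]

lemma det_blk (i j : Fin 48) : (blk i j).det =
    (gq i 0 * gq i 3 - gq i 1 * gq i 2) * (gq j 0 * gq j 3 - gq j 1 * gq j 2) := by
  simp [blk, Matrix.det_succ_row_zero, Fin.sum_univ_succ, Fin.succAbove]
  ring

lemma det_swap : swapM.det = 1 := by decide +kernel

lemma det_toM {x : MB} (hx : Good x) : (toM x).det = 1 := by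
  have h : (blk x.a x.b).det = 1 := by
    rw [det_blk, gq_det, gq_det, show dt x.a = dt x.b from hx]
    cases dt x.b <;> decide
  unfold toM
  split
  · rw [Matrix.det_mul, h, det_swap, one_mul]
  · exact h

/-- The homomorphism into `SL(4,3)`. -/
def toL : Bd →* L4 where
  toFun x := ⟨toM x.1, det_toM x.2⟩
  map_one' := Subtype.ext (by show toM 1 = 1; decide +kernel)
  map_mul' x y := Subtype.ext (toM_mul x.1 y.1)

lemma toL_reps : toL ⟨zA, rfl⟩ = z4 ∧ toL ⟨jB, rfl⟩ = j4 ∧ toL ⟨nB, rfl⟩ = negOne := by
  refine ⟨?_, ?_, ?_⟩ <;> apply Subtype.ext <;> decide +kernel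

lemma toM_inj : ∀ x : MB, toM x = 1 → x = 1 := by decide +kernel

end Cfsg.Agent.L43CentJModel49
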