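import Mathlib
import Cfsg.Prelude.Def_Transfer
import Cfsg.Agent.Lib.L43Base45
import Cfsg.Agent.Lib.L43CentJModel49
import Cfsg.Agent.Lib.CoprimeGen
import Cfsg.Agent.Lib.TransferThompson

/-!
The centraliser of the involution `j4` in the recognition of `PSL(4,3)`.
-/

set_option autoImplicit false
set_option maxRecDepth 100000

namespace Cfsg.Agent.L43CentJ49

open scoped Matrix
open Cfsg.Agent.L43Three45 Cfsg.Agent.L43CentJModel49

/-! ### Sylow subgroups inside a subgroup -/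

section Generic

variable {G : Type*} [Group G] [Finite G] {p : ℕ} [hp : Fact p.Prime] {D H : Subgroup G}

lemma exists_sylow (hHD : H ≤ D) (hH : IsPGroup p H)
    (hmax : ∀ Q : Subgroup G, IsPGroup p Q → Q ≤ D → H ≤ Q →
      ∀ n ∈ Q, (∀ h ∈ H, n * h * n⁻¹ ∈ H) → n ∈ H) :
    ∃ P : Sylow p D, (P : Subgroup D) = H.subgroupOf D := by
  obtain ⟨P, hP⟩ := (hH.comap_of_injective D.subtype D.subtype_injective).exists_le_sylow
  refine ⟨P, ?_⟩
  set Q := (P : Subgroup D).map D.subtype with hQ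
  have hQp : IsPGroup p Q := P.2.map _
  have hHQ : H ≤ Q := fun x hx => ⟨⟨x, hHD hx⟩, hP hx, rfl⟩
  by_contra hne
  have hlt : H.subgroupOf Q < ⊤ := by
    refine lt_top_iff_ne_top.mpr fun h => hne (le_antisymm (fun x hx => ?_) hP)
    have : (⟨x.1, ⟨x, hx, rfl⟩⟩ : Q) ∈ H.subgroupOf Q := h ▸ Subgroup.mem_top _
    exact this
  have := hQp.isNilpotent
  obtain ⟨n, hn, hnH⟩ := SetLike.exists_of_lt (Group.normalizerCondition_of_isNilpotent _ hlt)
  exact hnH (hmax Q hQp (Subgroup.map_subtype_le _) hHQ n n.2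
    fun h hh => (Subgroup.mem_normalizer_iff.mp hn ⟨h, hHQ hh⟩).mp hh)

lemma conj_into (P : Sylow p D) (hP : (P : Subgroup D) = H.subgroupOf D) {Q : Subgroup G}
    (hQD : Q ≤ D) (hQ : IsPGroup p Q) : ∃ d ∈ D, ∀ x ∈ Q, d * x * d⁻¹ ∈ H := by
  obtain ⟨R, hR⟩ := (hQ.comap_of_injective D.subtype D.subtype_injective).exists_le_sylow
  obtain ⟨d, hd⟩ := MulAction.exists_smul_eq D R P
  refine ⟨d.1, d.2, fun x hx => ?_⟩
  have h : MulAut.conj d • (⟨x, hQD hx⟩ : D) ∈ (P : Subgroup D) := by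
    rw [← hd]
    exact Subgroup.smul_mem_pointwise_smul _ _ _ (hR hx)
  rw [hP] at h
  exact h

/-- Burnside transfer followed by generation by centralisers of a fours-type pair. -/
lemma le_of_sylow_central (P : Sylow p D) (hP : (P : Subgroup D) = H.subgroupOf D) {R : Subgroup G}
    (hHR : H ≤ R) (hHD : H ≤ D)
    (hcent : ∀ n ∈ D, (∀ h ∈ H, n * h * n⁻¹ ∈ H) → ∀ h ∈ H, n * h = h * n)
    {a b : G} (hab : Commute a b) (ha : a ^ p = 1) (hb : b ^ p = 1) (hb1 : b ≠ 1)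
    (hab' : a ∉ Subgroup.zpowers b) (haD : a ∈ Subgroup.normalizer (D : Set G))
    (hbD : b ∈ Subgroup.normalizer (D : Set G))
    (hfix : ∀ e ∈ CoprimeGen.pairSubgroup a b hab, e ≠ 1 →
      D ⊓ Subgroup.centralizer {e} ≤ R) : D ≤ R := by
  have hburn : Subgroup.normalizer (P : Set D) ≤ Subgroup.centralizer (P : Set D) := by
    intro n hn
    rw [Subgroup.mem_centralizer_iff]
    intro y hy
    have hn' : ∀ h ∈ H, (n : G) * h * (n : G)⁻¹ ∈ H := fun h hh => by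
      have : n * ⟨h, hHD hh⟩ * n⁻¹ ∈ (P : Subgroup D) :=
        (Subgroup.mem_normalizer_iff.mp hn ⟨h, hHD hh⟩).mp (by rw [hP]; exact hh)
      rw [hP] at this
      exact this
    have hy' : y ∈ (P : Subgroup D) := hy
    rw [hP] at hy'
    exact Subtype.ext (hcent n n.2 hn' _ hy').symm
  set Q : Subgroup D := (MonoidHom.transferSylow P hburn).ker
  have hQtop : Q ⊔ (P : Subgroup D) = ⊤ :=
    (MonoidHom.ker_transferSylow_isComplement' P hburn).sup_eq_top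
  have hQp : ¬ p ∣ Nat.card Q := MonoidHom.not_dvd_card_ker_transferSylow P hburn
  have hmem : ∀ q : D, q ∈ Q ↔ ¬ p ∣ orderOf q := by
    intro q
    refine ⟨fun hq h => hQp (h.trans ?_), fun hq => ?_⟩
    · rw [← Subgroup.orderOf_mk q hq]; exact orderOf_dvd_natCard _
    · rw [MonoidHom.mem_ker]
      set y := MonoidHom.transferSylow P hburn q
      obtain ⟨k, hk⟩ := P.2 y
      have h1 : orderOf y ∣ p ^ k := orderOf_dvd_of_pow_eq_one hk
      have h2 : orderOf y ∣ orderOf q := orderOf_map_dvd _ _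
      have hc : Nat.Coprime (p ^ k) (orderOf q) :=
        Nat.Coprime.pow_left k ((Nat.Prime.coprime_iff_not_dvd hp.out).2 hq)
      exact orderOf_eq_one_iff.mp (Nat.eq_one_of_dvd_coprimes hc h1 h2)
  set Q' : Subgroup G := Q.map D.subtype
  have hnorm : ∀ {g : G}, g ∈ Subgroup.normalizer (D : Set G) →
      g ∈ Subgroup.normalizer (Q' : Set G) := by
    intro g hg
    have hord : ∀ x : G, orderOf (g * x * g⁻¹) = orderOf x := fun x =>
      (MulEquiv.orderOf_eq (MulAut.conj g) x)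
    rw [Subgroup.mem_normalizer_iff]
    intro x
    constructor
    · rintro ⟨q, hq, rfl⟩
      refine ⟨⟨g * (q : G) * g⁻¹, (Subgroup.mem_normalizer_iff.mp hg _).mp q.2⟩, ?_, rfl⟩
      rw [SetLike.mem_coe, hmem, ← Subgroup.orderOf_coe]
      show ¬ p ∣ orderOf (g * (q : G) * g⁻¹)
      rw [hord, Subgroup.orderOf_coe, ← hmem]
      exact hq
    · rintro ⟨q, hq, hqx⟩
      have hx : x ∈ D := (Subgroup.mem_normalizer_iff.mp hg x).mpr (hqx ▸ q.2)
      refine ⟨⟨x, hx⟩, ?_, rfl⟩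
      rw [SetLike.mem_coe, hmem, ← Subgroup.orderOf_coe]
      show ¬ p ∣ orderOf x
      rw [← hord x, ← show (q : G) = g * x * g⁻¹ from hqx, Subgroup.orderOf_coe, ← hmem]
      exact hq
  have hpair : CoprimeGen.IsPairAction p a b Q' :=
    ⟨hab, ha, hb, hb1, hab', hnorm haD, hnorm hbD⟩
  have hQ'p : ¬ p ∣ Nat.card Q' := by
    rw [← Nat.card_congr (Q.equivMapOfInjective _ D.subtype_injective).toEquiv]; exact hQp
  have hQR : Q' ≤ R := CoprimeGen.le_of_pair_centralizers hpair hQ'p fun e he he1 =>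
    le_trans (inf_le_inf_right _ (Subgroup.map_subtype_le _)) (hfix e he he1)
  intro x hx
  have hsup : Q ⊔ (P : Subgroup D) ≤ R.subgroupOf D :=
    sup_le (fun q hq => hQR ⟨q, hq, rfl⟩) (fun q hq => by rw [hP] at hq; exact hHR hq)
  rw [hQtop] at hsup
  exact hsup (Subgroup.mem_top (⟨x, hx⟩ : D))

end Generic

/-! ### The model inside `G` -/

variable {G : Type*} [Group G]

/-- The transvection minor test. -/
def Rank1 (g : L4) : Prop :=
  ∀ i j k l : Fin 4,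
    ((g : Matrix (Fin 4) (Fin 4) (ZMod 3)) i j - if i = j then 1 else 0) *
      ((g : Matrix (Fin 4) (Fin 4) (ZMod 3)) k l - if k = l then 1 else 0) =
    ((g : Matrix (Fin 4) (Fin 4) (ZMod 3)) i l - if i = l then 1 else 0) *
      ((g : Matrix (Fin 4) (Fin 4) (ZMod 3)) k j - if k = j then 1 else 0)

instance : DecidablePred Rank1 := fun g => inferInstanceAs (Decidable (∀ _ _ _ _, _ = _))

lemma rank1_conj (h : L4) : Rank1 (h * z4 * h⁻¹) := by
  have hz : (z4 : Matrix (Fin 4) (Fin 4) (ZMod 3)) = 1 + Matrix.single 0 3 1 := rfl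
  have hM : ∀ i j, ((h * z4 * h⁻¹ : L4) : Matrix (Fin 4) (Fin 4) (ZMod 3)) i j -
      (if i = j then 1 else 0) =
      (h : Matrix (Fin 4) (Fin 4) (ZMod 3)) i 0 *
        ((h⁻¹ : L4) : Matrix (Fin 4) (Fin 4) (ZMod 3)) 3 j := by
    intro i j
    have e : ((h * h⁻¹ : L4) : Matrix (Fin 4) (Fin 4) (ZMod 3)) i j = if i = j then 1 else 0 := by
      rw [mul_inv_cancel, one_entry]
    rw [← e, Matrix.SpecialLinearGroup.coe_mul, Matrix.SpecialLinearGroup.coe_mul,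
      Matrix.SpecialLinearGroup.coe_mul, hz, Matrix.mul_add, Matrix.mul_one, Matrix.add_mul,
      Matrix.add_apply, add_sub_cancel_left, Matrix.mul_apply, Finset.sum_eq_single 3]
    · rw [Matrix.mul_single_apply_same, mul_one]
    · intro k _ hk
      rw [Matrix.mul_single_apply_of_ne _ _ _ _ _ hk, zero_mul]
    · simp
  intro i j k l
  rw [hM, hM, hM, hM]
  ring

/-- A second element commuting with `i4`. -/
def yI : L4 := tv 0 3 (by decide) (-1) * tv 1 2 (by decide) 1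

lemma R_facts : xP * i4 = i4 * xP ∧ yI * i4 = i4 * yI ∧ xP * yI = yI * xP ∧
    xP ^ 3 = 1 ∧ yI ^ 3 = 1 ∧
    ∀ u v : Fin 3, (u ≠ 0 ∨ v ≠ 0) → ¬ Rank1 (xP ^ u.val * yI ^ v.val) ∧
      ¬ Rank1 (negOne * (xP ^ u.val * yI ^ v.val)) ∧
      xP ^ u.val * yI ^ v.val ≠ 1 ∧ xP ^ u.val * yI ^ v.val ≠ negOne := by
  decide +kernel

/-- Conjugators. -/
def cH : L4 := ⟨!![1, 0, 0, 1; 2, 0, 0, 1; 0, 0, 1, 0; 0, 1, 0, 0], by decide +kernel⟩
def cW : L4 := ⟨!![2, 1, 2, 0; 2, 2, 1, 0; 0, 0, 1, 1; 0, 0, 2, 1], by decide +kernel⟩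
def cWH : L4 := ⟨!![0, 1, 0, 2; 0, 1, 0, 1; 2, 0, 2, 0; 2, 0, 1, 0], by decide +kernel⟩
def cI : L4 := ⟨!![1, 0, 0, 1; 1, 0, 0, 0; 0, 1, 0, 0; 0, 1, 2, 0], by decide +kernel⟩
def cWJ : L4 := ⟨!![2, 0, 0, 1; 0, 1, 1, 0; 2, 1, 0, 0; 2, 2, 0, 0], by decide +kernel⟩
def cWHJ : L4 := ⟨!![2, 0, 0, 2; 0, 1, 2, 0; 1, 0, 0, 0; 0, 2, 0, 0], by decide +kernel⟩
/-- A conjugator for the elements of rank two. -/
def cX : L4 := ⟨!![2, 0, 0, 0; 0, 1, 0, 0; 0, 0, 0, 1; 0, 0, 1, 0], by decide +kernel⟩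

/-- The exchange as an element of `SL(4,3)`. -/
def wL : L4 := ⟨swapM, det_swap⟩

open scoped Classical in
/-- The extension of the composite map to all of the model. -/
noncomputable def Fm (f : L4 →* G) (x : MB) : G := if h : Good x then f (toL ⟨x, h⟩) else 1

variable {f : L4 →* G}

lemma g_jB : Good jB := rfl
lemma g_nB : Good nB := rfl
lemma g_zA : Good zA := rfl
lemma g_sB : Good sB := rfl
lemma g_qA : Good qA := rfl
lemma g_kA : Good kA := rfl
lemma g_hB : Good hB := rfl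
lemma g_wB : Good wB := rfl

lemma Fm_eq {x : MB} (h : Good x) : Fm f x = f (toL ⟨x, h⟩) := dif_pos h

lemma Fm_mul {x y : MB} (hx : Good x) (hy : Good y) : Fm f (x * y) = Fm f x * Fm f y := by
  rw [Fm_eq hx, Fm_eq hy, ← map_mul, ← map_mul]
  exact Fm_eq (Bd.mul_mem hx hy)

lemma Fm_inv {x : MB} (hx : Good x) : Fm f x⁻¹ = (Fm f x)⁻¹ := by
  rw [Fm_eq hx, ← map_inv, ← map_inv]
  exact Fm_eq (Bd.inv_mem hx)

lemma Fm_one : Fm f 1 = 1 := by
  rw [Fm_eq Bd.one_mem]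
  exact (congrArg f (map_one toL)).trans (map_one f)

lemma Fm_conj {x y : MB} (hx : Good x) (hy : Good y) :
    Fm f (x * y * x⁻¹) = Fm f x * Fm f y * (Fm f x)⁻¹ := by
  rw [Fm_mul (Bd.mul_mem hx hy) (Bd.inv_mem hx), Fm_mul hx hy, Fm_inv hx]

lemma Fm_mem_range (x : MB) : Fm f x ∈ f.range := by
  by_cases h : Good x
  · exact ⟨_, (Fm_eq h).symm⟩
  · rw [show Fm f x = 1 from dif_neg h]; exact one_mem _

lemma f_negOne (hf : Full f) : f negOne = 1 := (hf.ker _).mpr (Or.inr rfl)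

lemma Fm_nB (hf : Full f) : Fm f nB = 1 := by
  rw [Fm_eq (x := nB) rfl, toL_reps.2.2, f_negOne hf]

lemma Fm_of_eqv (hf : Full f) {x y : MB} (hx : Good x) (h : Eqv x y) : Fm f y = Fm f x := by
  rcases h with rfl | rfl
  · rfl
  · rw [Fm_mul (x := nB) rfl hx, Fm_nB hf, one_mul]

lemma eqv_of_Fm (hf : Full f) {x y : MB} (hx : Good x) (hy : Good y) (h : Fm f x = Fm f y) :
    Eqv x y := by
  have hg : Good (y * x⁻¹) := Bd.mul_mem hy (Bd.inv_mem hx)
  have h1 : f (toL ⟨y * x⁻¹, hg⟩) = 1 := by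
    rw [← Fm_eq hg, Fm_mul hy (Bd.inv_mem hx), Fm_inv hx, h, mul_inv_cancel]
  rcases (hf.ker _).mp h1 with e | e
  · left
    exact mul_inv_eq_one.mp (toM_inj _ (congrArg Subtype.val e))
  · right
    rw [← toL_reps.2.2] at e
    have e2 : toL (⟨y * x⁻¹, hg⟩ * ⟨nB, rfl⟩⁻¹) = 1 := by rw [map_mul, map_inv, e, mul_inv_cancel]
    have := mul_inv_eq_one.mp (toM_inj _ (congrArg Subtype.val e2))
    exact mul_inv_eq_iff_eq_mul.mp this

lemma Fm_eq_one (hf : Full f) {x : MB} (hx : Good x) (h : Fm f x = 1) : Eqv 1 x :=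
  eqv_of_Fm hf Bd.one_mem hx (Fm_one.trans h.symm)

lemma Fm_jB : Fm f jB = f j4 := by rw [Fm_eq (x := jB) rfl, toL_reps.2.1]

lemma Fm_zA : Fm f zA = f z4 := by rw [Fm_eq (x := zA) rfl, toL_reps.1]

/-- The centraliser of the involution. -/
def cD (f : L4 →* G) : Subgroup G := Subgroup.centralizer ({f j4} : Set G)

lemma mem_cD (hf : Full f) (x : MB) : Fm f x ∈ cD f := by
  by_cases h : Good x
  · rw [cD, Subgroup.mem_centralizer_singleton_iff, ← Fm_jB, ← Fm_mul h g_jB, ← Fm_mul g_jB h]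
    exact (Fm_of_eqv hf (Bd.mul_mem h g_jB) (jB_comm x h)).symm
  · rw [show Fm f x = 1 from dif_neg h]; exact one_mem _

lemma commute_jB (hf : Full f) {g : G} (hg : g ∈ cD f) : g * Fm f jB = Fm f jB * g := by
  rw [Fm_jB]; exact Subgroup.mem_centralizer_singleton_iff.mp hg

set_option maxHeartbeats 1000000 in
/-- A matrix commuting with `j4` is blocked. -/
lemma blocked {g : L4} (h : g * j4 = j4 * g) : ∃ x, ∃ hx : Good x, toL ⟨x, hx⟩ = g := by
  have hz : ∀ i j : Fin 4, (j4 : Matrix (Fin 4) (Fin 4) (ZMod 3)) i i ≠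
      (j4 : Matrix (Fin 4) (Fin 4) (ZMod 3)) j j →
      (g : Matrix (Fin 4) (Fin 4) (ZMod 3)) i j = 0 := by
    intro i j hij
    have e := congrFun (congrFun (congrArg (fun a : L4 => (a : Matrix (Fin 4) (Fin 4) (ZMod 3))) h) i) j
    simp only [Matrix.SpecialLinearGroup.coe_mul] at e
    have hd : ∀ a b : Fin 4, a ≠ b → (j4 : Matrix (Fin 4) (Fin 4) (ZMod 3)) a b = 0 :=
      fun a b hab => Matrix.diagonal_apply_ne _ hab
    rw [Matrix.mul_apply, Finset.sum_eq_single j (fun k _ hk => by rw [hd k j hk, mul_zero]) (by simp),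
      Matrix.mul_apply, Finset.sum_eq_single i (fun k _ hk => by rw [hd i k (Ne.symm hk), zero_mul])
        (by simp)] at e
    by_contra hne
    exact hij (mul_right_cancel₀ hne (by rw [← e, mul_comm]))
  set M := (g : Matrix (Fin 4) (Fin 4) (ZMod 3)) with hM
  have hj : ∀ i j : Fin 4, (i ∈ ({0, 3} : Finset (Fin 4))) ≠ (j ∈ ({0, 3} : Finset (Fin 4))) →
      (j4 : Matrix (Fin 4) (Fin 4) (ZMod 3)) i i ≠ (j4 : Matrix (Fin 4) (Fin 4) (ZMod 3)) j j := by
    decide +kernel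
  have e : M = !![M 0 0, 0, 0, M 0 3; 0, M 1 1, M 1 2, 0; 0, M 2 1, M 2 2, 0; M 3 0, 0, 0, M 3 3] := by
    ext i j
    fin_cases i <;> fin_cases j <;> (try rfl) <;> exact hz _ _ (hj _ _ (by simp))
  have hdet : (M 0 0 * M 3 3 - M 0 3 * M 3 0) * (M 1 1 * M 2 2 - M 1 2 * M 2 1) = 1 := by
    rw [← g.2, ← hM]
    conv_rhs => rw [e]
    simp [Matrix.det_succ_row_zero, Fin.sum_univ_succ, Fin.succAbove]
    ring
  obtain ⟨a, a0, a1, a2, a3⟩ := gq_surj _ _ _ _ (left_ne_zero_of_mul (hdet ▸ one_ne_zero))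
  obtain ⟨b, b0, b1, b2, b3⟩ := gq_surj _ _ _ _ (right_ne_zero_of_mul (hdet ▸ one_ne_zero))
  have hg : Good ⟨a, b, false⟩ := by
    rw [← a0, ← a1, ← a2, ← a3, ← b0, ← b1, ← b2, ← b3, gq_det, gq_det] at hdet
    revert hdet
    show _ → dt a = dt b
    cases dt a <;> cases dt b <;> decide
  refine ⟨⟨a, b, false⟩, hg, Subtype.ext ?_⟩
  have ec : (toL ⟨⟨a, b, false⟩, hg⟩).1 = toM ⟨a, b, false⟩ := rfl
  rw [ec, ← hM, e]
  simp [toM, blk, a0, a1, a2, a3, b0, b1, b2, b3]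

set_option maxHeartbeats 1000000 in
lemma range_cD (hf : Full f) {g : G} (hg : g ∈ f.range) (hgD : g ∈ cD f) :
    ∃ x, Good x ∧ Fm f x = g := by
  obtain ⟨a, rfl⟩ := hg
  have h1 : f (a * j4 * (j4 * a)⁻¹) = 1 := by
    rw [map_mul, map_inv, map_mul, map_mul, Subgroup.mem_centralizer_singleton_iff.mp hgD,
      mul_inv_cancel]
  rcases (hf.ker _).mp h1 with h | h
  · have hcomm : a * j4 = j4 * a := (mul_inv_eq_one (a := a * j4) (b := j4 * a)).mp h
    obtain ⟨x, hx, hxa⟩ := blocked hcomm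
    exact ⟨x, hx, by rw [Fm_eq hx, hxa]⟩
  · have h' : a * j4 = negOne * (j4 * a) := mul_inv_eq_iff_eq_mul.mp h
    have hw : j4 * wL = negOne * (wL * j4) ∧ negOne * negOne = 1 ∧ wL * negOne = negOne * wL ∧
        toL ⟨wB, rfl⟩ = wL ∧ wL * wL = 1 ∧ negOne * j4 = j4 * negOne := by
      refine ⟨?_, ?_, ?_, ?_, ?_, ?_⟩ <;> apply Subtype.ext <;> decide +kernel
    obtain ⟨w1, w2, w3, w4, w5, w6⟩ := hw
    have hn : ∀ y : L4, y * negOne = negOne * y := by
      intro y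
      have : (negOne : Matrix (Fin 4) (Fin 4) (ZMod 3)) = -1 := by decide +kernel
      apply Subtype.ext
      simp [Matrix.SpecialLinearGroup.coe_mul, this]
    obtain ⟨x, hx, e⟩ := blocked (g := a * wL) (by
      have e1 : wL * j4 = negOne * (j4 * wL) := by rw [w1, ← mul_assoc, w2, one_mul]
      rw [mul_assoc, e1, ← mul_assoc, hn, mul_assoc negOne, ← mul_assoc a, h', ← mul_assoc,
        ← mul_assoc, w2, one_mul, mul_assoc])
    refine ⟨x * wB, Bd.mul_mem hx g_wB, ?_⟩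
    rw [Fm_mul hx g_wB, Fm_eq hx, Fm_eq (x := wB) rfl, e, w4, ← map_mul, mul_assoc, w5, mul_one]

lemma key (hf : Full f) (v : L4) (hv : IsConj z4 v) {g : G} (hg : g * f v * g⁻¹ ∈ f.range) :
    g ∈ f.range := by
  obtain ⟨k, hk⟩ := isConj_iff.mp hv
  obtain ⟨y, hy⟩ := hg
  obtain ⟨h, hh⟩ := hf.zclass y (isConj_iff.mpr ⟨g * f k, by
    rw [hy, ← hk]; simp only [map_mul, map_inv]; group⟩)
  have hc : (f h)⁻¹ * (g * f k) ∈ Subgroup.centralizer ({f z4} : Set G) := by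
    rw [Subgroup.mem_centralizer_singleton_iff]
    rw [hy, ← hk] at hh
    simp only [map_mul, map_inv] at hh
    calc (f h)⁻¹ * (g * f k) * f z4
        = (f h)⁻¹ * (g * (f k * f z4 * (f k)⁻¹) * g⁻¹) * (g * f k) := by group
      _ = (f h)⁻¹ * (f h * f z4 * (f h)⁻¹) * (g * f k) := by rw [hh]
      _ = f z4 * ((f h)⁻¹ * (g * f k)) := by group
  have := mul_mem (mul_mem (⟨h, rfl⟩ : f h ∈ f.range) (hf.cent hc))
    (inv_mem (⟨k, rfl⟩ : f k ∈ f.range))
  simpa [mul_assoc] using this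

lemma isConj_zA : IsConj z4 (toL ⟨zA, rfl⟩) := by rw [toL_reps.1]

lemma isConj_sB : IsConj z4 (toL ⟨sB, rfl⟩) :=
  isConj_iff.mpr ⟨wL, by apply Subtype.ext; decide +kernel⟩

lemma cent_conj {R : Subgroup G} {a g : G} (hg : g ∈ R)
    (h : Subgroup.centralizer ({a} : Set G) ≤ R) :
    Subgroup.centralizer ({g * a * g⁻¹} : Set G) ≤ R := fun c hc => by
  rw [Subgroup.mem_centralizer_singleton_iff] at hc
  have h1 : g⁻¹ * c * g ∈ R := h (Subgroup.mem_centralizer_singleton_iff.mpr (by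
    calc g⁻¹ * c * g * a = g⁻¹ * (c * (g * a * g⁻¹)) * g := by group
      _ = g⁻¹ * (g * a * g⁻¹ * c) * g := by rw [hc]
      _ = a * (g⁻¹ * c * g) := by group))
  simpa [mul_assoc] using mul_mem (mul_mem hg h1) (inv_mem hg)

lemma cent_inv (a : G) :
    Subgroup.centralizer ({a⁻¹} : Set G) ≤ Subgroup.centralizer ({a} : Set G) := fun c hc => by
  rw [Subgroup.mem_centralizer_singleton_iff] at hc ⊢
  have : Commute c a⁻¹ := hc
  simpa using this.inv_right.eq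

lemma pv_reps : toL ⟨pv 1 0, rfl⟩ = z4 ∧ toL ⟨pv 0 1, rfl⟩ = wL * z4 * wL⁻¹ ∧
    toL ⟨pv 2 0, rfl⟩ = z4⁻¹ ∧ toL ⟨pv 0 2, rfl⟩ = (wL * z4 * wL⁻¹)⁻¹ ∧
    toL ⟨pv 2 1, rfl⟩ = cX * xP * cX⁻¹ ∧ toL ⟨pv 1 2, rfl⟩ = (cX * xP * cX⁻¹)⁻¹ ∧
    toL ⟨pv 2 2, rfl⟩ = cX * xM * cX⁻¹ ∧ toL ⟨pv 1 1, rfl⟩ = (cX * xM * cX⁻¹)⁻¹ := by
  refine ⟨?_, ?_, ?_, ?_, ?_, ?_, ?_, ?_⟩ <;> apply Subtype.ext <;> decide +kernel

lemma good_pv (u v : Fin 3) : Good (pv u v) := by revert u v; decide +kernel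

lemma cent_pv (hf : Full f) (hx : ∀ g, (g = xP ∨ g = xM) →
    Subgroup.centralizer ({f g} : Set G) ≤ f.range) (u v : Fin 3) (h : u ≠ 0 ∨ v ≠ 0) :
    Subgroup.centralizer ({Fm f (pv u v)} : Set G) ≤ f.range := by
  obtain ⟨r1, r2, r3, r4, r5, r6, r7, r8⟩ := pv_reps
  have hw : f wL ∈ f.range := ⟨_, rfl⟩
  have hc : f cX ∈ f.range := ⟨_, rfl⟩
  have a1 : Subgroup.centralizer ({f z4} : Set G) ≤ f.range := hf.cent
  have a2 : Subgroup.centralizer ({f (wL * z4 * wL⁻¹)} : Set G) ≤ f.range := by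
    rw [map_mul, map_mul, map_inv]; exact cent_conj hw hf.cent
  have a3 : Subgroup.centralizer ({f (cX * xP * cX⁻¹)} : Set G) ≤ f.range := by
    rw [map_mul, map_mul, map_inv]; exact cent_conj hc (hx _ (Or.inl rfl))
  have a4 : Subgroup.centralizer ({f (cX * xM * cX⁻¹)} : Set G) ≤ f.range := by
    rw [map_mul, map_mul, map_inv]; exact cent_conj hc (hx _ (Or.inr rfl))
  rw [Fm_eq (good_pv u v)]
  fin_cases u <;> fin_cases v
  · simp at h
  · show Subgroup.centralizer ({f (toL ⟨pv 0 1, _⟩)} : Set G) ≤ _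
    rw [r2]; exact a2
  · show Subgroup.centralizer ({f (toL ⟨pv 0 2, _⟩)} : Set G) ≤ _
    rw [r4, map_inv]; exact (cent_inv _).trans a2
  · show Subgroup.centralizer ({f (toL ⟨pv 1 0, _⟩)} : Set G) ≤ _
    rw [r1]; exact a1
  · show Subgroup.centralizer ({f (toL ⟨pv 1 1, _⟩)} : Set G) ≤ _
    rw [r8, map_inv]; exact (cent_inv _).trans a4
  · show Subgroup.centralizer ({f (toL ⟨pv 1 2, _⟩)} : Set G) ≤ _
    rw [r6, map_inv]; exact (cent_inv _).trans a3
  · show Subgroup.centralizer ({f (toL ⟨pv 2 0, _⟩)} : Set G) ≤ _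
    rw [r3, map_inv]; exact (cent_inv _).trans a1
  · show Subgroup.centralizer ({f (toL ⟨pv 2 1, _⟩)} : Set G) ≤ _
    rw [r5]; exact a3
  · show Subgroup.centralizer ({f (toL ⟨pv 2 2, _⟩)} : Set G) ≤ _
    rw [r7]; exact a4

/-- The image of a subgroup of the model. -/
noncomputable def img (f : L4 →* G) (A : Subgroup MB) : Subgroup G :=
  (A.subgroupOf Bd).map (f.comp toL)

lemma mem_img {A : Subgroup MB} {g : G} :
    g ∈ img f A ↔ ∃ x, Good x ∧ x ∈ A ∧ Fm f x = g := by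
  constructor
  · rintro ⟨x, hx, rfl⟩
    exact ⟨x.1, x.2, hx, Fm_eq x.2⟩
  · rintro ⟨x, hx, hA, rfl⟩
    exact ⟨⟨x, hx⟩, hA, (Fm_eq hx).symm⟩

/-- The three-group of the model. -/
def PB : Subgroup MB where
  carrier := {x | ∃ u v, x = pv u v}
  one_mem' := ⟨0, 0, rfl⟩
  mul_mem' := by
    rintro _ _ ⟨u, v, rfl⟩ ⟨u', v', rfl⟩
    exact ⟨_, _, pv_mul u v u' v'⟩
  inv_mem' := by
    rintro _ ⟨u, v, rfl⟩
    refine ⟨-u, -v, inv_eq_of_mul_eq_one_right ?_⟩
    rw [pv_mul, add_neg_cancel, add_neg_cancel]; rfl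

/-- The part without exchange. -/
def sFree : Subgroup MB where
  carrier := {x | x.s = false}
  one_mem' := rfl
  mul_mem' := fun {x y} (hx : x.s = false) (hy : y.s = false) => by
    show (x * y).s = false
    rw [mul_def, hx, hy]; rfl
  inv_mem' := fun {x} (hx : x.s = false) => by
    show x⁻¹.s = false
    rw [L43CentJModel49.inv_def]; exact hx

/-- The product of the quaternion groups. -/
def UB : Subgroup MB where
  carrier := {x | InU x}
  one_mem' := by show InU 1; decide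
  mul_mem' := fun {x y} (hx : InU x) (hy : InU y) => by
    obtain ⟨a1, a2, a3⟩ := hx
    obtain ⟨b1, b2, b3⟩ := hy
    refine ⟨?_, ?_, ?_⟩
    · rw [mul_def]; exact low_closed.2.2.1 _ _ a1 (by simp [a3, b1])
    · rw [mul_def]; exact low_closed.2.2.1 _ _ a2 (by simp [a3, b2])
    · rw [mul_def, a3, b3]; rfl
  inv_mem' := fun {x} (hx : InU x) => by
    obtain ⟨a1, a2, a3⟩ := hx
    refine ⟨?_, ?_, ?_⟩
    · rw [L43CentJModel49.inv_def]; exact low_closed.2.2.2.1 _ (by simp [a3, a1])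
    · rw [L43CentJModel49.inv_def]; exact low_closed.2.2.2.1 _ (by simp [a3, a2])
    · rw [L43CentJModel49.inv_def]; exact a3

lemma U_good {x : MB} (h : InU x) : Good x := by
  show dt x.a = dt x.b
  rw [low_closed.2.2.2.2 _ h.1, low_closed.2.2.2.2 _ h.2.1]

lemma img_pgroup_three : IsPGroup 3 (img f PB) := by
  intro ⟨g, hg⟩
  obtain ⟨x, hx, ⟨u, v, rfl⟩, rfl⟩ := mem_img.mp hg
  refine ⟨1, Subtype.ext ?_⟩
  show Fm f (pv u v) ^ 3 = 1
  rw [pow_three', ← Fm_mul hx hx, ← Fm_mul (Bd.mul_mem hx hx) hx, pv_mul, pv_mul,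
    show ∀ a : Fin 3, a + a + a = 0 by decide, show ∀ a : Fin 3, a + a + a = 0 by decide]
  exact Fm_one

lemma img_pgroup_two : IsPGroup 2 (img f TB) := by
  have : IsPGroup 2 TB := IsPGroup.of_card (n := 8) (by
    rw [show (2 : ℕ) ^ 8 = 256 by norm_num, ← card_TB]
    exact Nat.subtype_card _ fun x => by simp; rfl)
  exact (this.comap_of_injective Bd.subtype Bd.subtype_injective).map _

lemma eq_one_of_two_three {A B : Subgroup G} (hA : IsPGroup 2 A) (hB : IsPGroup 3 B) {g : G}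
    (hgA : g ∈ A) (hgB : g ∈ B) : g = 1 := by
  obtain ⟨i, hi⟩ := hA ⟨g, hgA⟩
  obtain ⟨k, hk⟩ := hB ⟨g, hgB⟩
  have h1 : orderOf g ∣ 2 ^ i := orderOf_dvd_of_pow_eq_one (congrArg Subtype.val hi)
  have h2 : orderOf g ∣ 3 ^ k := orderOf_dvd_of_pow_eq_one (congrArg Subtype.val hk)
  exact orderOf_eq_one_iff.mp
    (Nat.eq_one_of_dvd_coprimes (Nat.Coprime.pow i k (by norm_num)) h1 h2)

lemma img_le_range (A : Subgroup MB) : img f A ≤ f.range := fun g hg => by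
  obtain ⟨x, -, -, rfl⟩ := mem_img.mp hg
  exact Fm_mem_range x

lemma img_le_cD (hf : Full f) (A : Subgroup MB) : img f A ≤ cD f := fun g hg => by
  obtain ⟨x, -, -, rfl⟩ := mem_img.mp hg
  exact mem_cD hf x

variable [Finite G]

/-- An element of `D` normalising the three-group. -/
lemma norm_three (hf : Full f) {n : G} (hn : n ∈ cD f)
    (h : ∀ y ∈ img f PB, n * y * n⁻¹ ∈ img f PB) :
    ∃ u v i, n = Fm f (pv u v) * Fm f (tn i) := by
  have hz : Fm f zA ∈ img f PB := mem_img.mpr ⟨zA, rfl, ⟨1, 0, rfl⟩, rfl⟩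
  have hs : Fm f sB ∈ img f PB := mem_img.mpr ⟨sB, rfl, ⟨0, 1, rfl⟩, rfl⟩
  have hnR : n ∈ f.range := by
    refine key hf _ isConj_zA ?_
    rw [← Fm_eq (x := zA) rfl]
    exact img_le_range _ (h _ hz)
  obtain ⟨x, hx, rfl⟩ := range_cD hf hnR hn
  have hh : ∀ y : MB, Good y → Fm f y ∈ img f PB → ∃ u v, Eqv (x * y * x⁻¹) (pv u v) := by
    intro y hy hy'
    obtain ⟨p, hp, ⟨u, v, rfl⟩, he⟩ := mem_img.mp (h _ hy')
    exact ⟨u, v, eqv_of_Fm hf (Bd.mul_mem (Bd.mul_mem hx hy) (Bd.inv_mem hx)) hp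
      ((Fm_conj hx hy).trans he.symm)⟩
  obtain ⟨u, v, i, he⟩ := norm_P x hx (hh zA rfl hz) (hh sB rfl hs)
  have hti : Good (tn i) := (tn_mem i).2.2
  exact ⟨u, v, i, (Fm_of_eqv hf (Bd.mul_mem (good_pv u v) hti) he).trans (Fm_mul (good_pv u v) hti)⟩

lemma tn_in_T (i : Fin 8) : Fm f (tn i) ∈ img f TB :=
  mem_img.mpr ⟨_, (tn_mem i).2.2, tn_mem i, rfl⟩

lemma pv_in_P (u v : Fin 3) : Fm f (pv u v) ∈ img f PB :=
  mem_img.mpr ⟨_, good_pv u v, ⟨u, v, rfl⟩, rfl⟩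

lemma sylow_three (hf : Full f) :
    ∃ P : Sylow 3 (cD f), (P : Subgroup (cD f)) = (img f PB).subgroupOf (cD f) := by
  have : Fact (Nat.Prime 3) := ⟨Nat.prime_three⟩
  refine exists_sylow (img_le_cD hf _) img_pgroup_three fun Q hQ hQD hPQ n hn hnorm => ?_
  obtain ⟨u, v, i, rfl⟩ := norm_three hf (hQD hn) hnorm
  have ht : Fm f (tn i) ∈ Q := by
    have := mul_mem (inv_mem (hPQ (pv_in_P u v))) hn
    rwa [inv_mul_cancel_left] at this
  rw [eq_one_of_two_three img_pgroup_two hQ (tn_in_T i) ht, mul_one]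
  exact pv_in_P u v

/-! ### The centraliser of a quaternion group in `D` -/

/-- The centraliser in `D` of the first quaternion group. -/
def cX' (f : L4 →* G) : Subgroup G :=
  cD f ⊓ Subgroup.centralizer ({Fm f qA, Fm f kA} : Set G)

lemma pow_mem_X {g : G} (hg : g ∈ cX' f) (a : Fin 48) (ha : a.val < 8) :
    g * Fm f ⟨a, 0, false⟩ = Fm f ⟨a, 0, false⟩ * g := by
  obtain ⟨e, e', he⟩ := qk_gen a ha
  have h1 : Commute g (Fm f qA) :=
    (Subgroup.mem_centralizer_iff.mp hg.2 _ (by simp)).symm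
  have h2 : Commute g (Fm f kA) :=
    (Subgroup.mem_centralizer_iff.mp hg.2 _ (by simp)).symm
  have hp : ∀ (y : MB), Good y → ∀ k : ℕ, Fm f (y ^ k) = Fm f y ^ k := fun y hy k => by
    induction k with
    | zero => rw [pow_zero, pow_zero, Fm_one]
    | succ k ih => rw [pow_succ, pow_succ, Fm_mul (Bd.pow_mem hy k) hy, ih]
  rw [he, Fm_mul (Bd.pow_mem g_qA _) (Bd.pow_mem g_kA _), hp qA g_qA, hp kA g_kA]
  exact ((h1.pow_right _).mul_right (h2.pow_right _)).eq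

lemma pair_facts (hf : Full f) :
    Commute (Fm f zA) (Fm f sB) ∧ Fm f zA ^ 3 = 1 ∧ Fm f sB ^ 3 = 1 ∧ Fm f sB ≠ 1 ∧
      Fm f zA ∉ Subgroup.zpowers (Fm f sB) := by
  have h3 : ∀ y : MB, Good y → y * y * y = 1 → Fm f y ^ 3 = 1 := fun y hy h => by
    rw [pow_three', ← Fm_mul hy hy, ← Fm_mul (Bd.mul_mem hy hy) hy, h, Fm_one]
  refine ⟨?_, h3 zA rfl (by decide +kernel), h3 sB rfl (by decide +kernel), fun h => ?_, fun h => ?_⟩
  · show Fm f zA * Fm f sB = Fm f sB * Fm f zA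
    rw [← Fm_mul g_zA g_sB, ← Fm_mul g_sB g_zA, show zA * sB = sB * zA by decide +kernel]
  · exact absurd (Fm_eq_one hf (x := sB) rfl h) (by decide +kernel)
  · obtain ⟨k, hk⟩ := Subgroup.mem_zpowers_iff.mp h
    have hsk : Commute (Fm f sB) (Fm f kA) := by
      show _ = _
      rw [← Fm_mul g_sB g_kA, ← Fm_mul g_kA g_sB, show sB * kA = kA * sB by decide +kernel]
    have hzk := (hsk.zpow_left k).eq
    rw [hk, ← Fm_mul g_zA g_kA, ← Fm_mul g_kA g_zA] at hzk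
    exact absurd (eqv_of_Fm hf (Bd.mul_mem g_zA g_kA) (Bd.mul_mem g_kA g_zA) hzk) (by decide +kernel)

lemma fix_pair (hf : Full f) (hx : ∀ g, (g = xP ∨ g = xM) →
    Subgroup.centralizer ({f g} : Set G) ≤ f.range) {K : Subgroup G} :
    ∀ e ∈ CoprimeGen.pairSubgroup (Fm f zA) (Fm f sB) (pair_facts hf).1, e ≠ 1 →
      K ⊓ Subgroup.centralizer {e} ≤ f.range := by
  intro e he he1
  have hz : Fm f zA ∈ img f PB := mem_img.mpr ⟨zA, rfl, ⟨1, 0, rfl⟩, rfl⟩
  have hs : Fm f sB ∈ img f PB := mem_img.mpr ⟨sB, rfl, ⟨0, 1, rfl⟩, rfl⟩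
  obtain ⟨x, -, ⟨u, v, rfl⟩, rfl⟩ := mem_img.mp (CoprimeGen.pairSubgroup_le hz hs he)
  refine inf_le_right.trans (cent_pv hf hx u v ?_)
  by_contra hcon
  simp only [not_or, not_not] at hcon
  rw [hcon.1, hcon.2] at he1
  exact he1 Fm_one

lemma normalizer_X (hf : Full f) {y : MB} (hy : Good y)
    (hq : ∀ q : MB, q = qA ∨ q = kA → ∃ a : Fin 48, a.val < 8 ∧ y⁻¹ * q * y = ⟨a, 0, false⟩) :
    ∀ g ∈ cX' f, Fm f y * g * (Fm f y)⁻¹ ∈ cX' f := by
  intro g hg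
  refine Subgroup.mem_inf.mpr ⟨mul_mem (mul_mem (mem_cD hf y) hg.1) (inv_mem (mem_cD hf y)), ?_⟩
  rw [Subgroup.mem_centralizer_iff]
  intro q hq'
  obtain ⟨q0, hq0, hq0g, rfl⟩ : ∃ q0 : MB, (q0 = qA ∨ q0 = kA) ∧ Good q0 ∧ Fm f q0 = q := by
    rcases hq' with rfl | rfl
    · exact ⟨qA, Or.inl rfl, rfl, rfl⟩
    · exact ⟨kA, Or.inr rfl, rfl, rfl⟩
  obtain ⟨a, ha, hc⟩ := hq q0 hq0
  have h := pow_mem_X hg a ha
  rw [← hc, Fm_mul (Bd.mul_mem (Bd.inv_mem hy) hq0g) hy, Fm_mul (Bd.inv_mem hy) hq0g,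
    Fm_inv hy] at h
  calc Fm f q0 * (Fm f y * g * (Fm f y)⁻¹)
      = Fm f y * (((Fm f y)⁻¹ * Fm f q0 * Fm f y) * g) * (Fm f y)⁻¹ := by group
    _ = Fm f y * (g * ((Fm f y)⁻¹ * Fm f q0 * Fm f y)) * (Fm f y)⁻¹ := by rw [h]
    _ = Fm f y * g * (Fm f y)⁻¹ * Fm f q0 := by group

lemma conj_facts : (∀ q : MB, q = qA ∨ q = kA →
      ∃ a : Fin 48, a.val < 8 ∧ zA⁻¹ * q * zA = ⟨a, 0, false⟩) ∧
    (∀ q : MB, q = qA ∨ q = kA →
      ∃ a : Fin 48, a.val < 8 ∧ zA * q * zA⁻¹ = ⟨a, 0, false⟩) ∧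
    (∀ q : MB, q = qA ∨ q = kA →
      ∃ a : Fin 48, a.val < 8 ∧ sB⁻¹ * q * sB = ⟨a, 0, false⟩) ∧
    ∀ q : MB, q = qA ∨ q = kA →
      ∃ a : Fin 48, a.val < 8 ∧ sB * q * sB⁻¹ = ⟨a, 0, false⟩ := by
  decide +kernel

lemma mem_normalizer_X (hf : Full f) {y : MB} (hy : Good y)
    (h1 : ∀ q : MB, q = qA ∨ q = kA → ∃ a : Fin 48, a.val < 8 ∧ y⁻¹ * q * y = ⟨a, 0, false⟩)
    (h2 : ∀ q : MB, q = qA ∨ q = kA → ∃ a : Fin 48, a.val < 8 ∧ y * q * y⁻¹ = ⟨a, 0, false⟩) :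
    Fm f y ∈ Subgroup.normalizer (cX' f : Set G) := by
  rw [Subgroup.mem_normalizer_iff]
  refine fun g => ⟨normalizer_X hf hy h1 g, fun hg => ?_⟩
  have := normalizer_X hf (y := y⁻¹) (Bd.inv_mem hy) (fun q hq => by
    rw [inv_inv]; exact h2 q hq) _ hg
  rw [Fm_inv hy] at this
  simpa [mul_assoc] using this

lemma X_le_range (hf : Full f) (hx : ∀ g, (g = xP ∨ g = xM) →
    Subgroup.centralizer ({f g} : Set G) ≤ f.range) : cX' f ≤ f.range := by
  have : Fact (Nat.Prime 3) := ⟨Nat.prime_three⟩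
  let SB : Subgroup MB :=
    { carrier := {x | ∃ v, x = pv 0 v}
      one_mem' := ⟨0, rfl⟩
      mul_mem' := by
        rintro _ _ ⟨v, rfl⟩ ⟨v', rfl⟩
        exact ⟨v + v', by rw [pv_mul, add_zero]⟩
      inv_mem' := by
        rintro _ ⟨v, rfl⟩
        refine ⟨-v, inv_eq_of_mul_eq_one_right ?_⟩
        rw [pv_mul, add_neg_cancel, add_zero]; rfl }
  have hSP : img f SB ≤ img f PB := fun g hg => by
    obtain ⟨x, h1, ⟨v, rfl⟩, rfl⟩ := mem_img.mp hg
    exact pv_in_P 0 v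
  have hsS : Fm f sB ∈ img f SB := mem_img.mpr ⟨sB, rfl, ⟨1, rfl⟩, rfl⟩
  have hSX : img f SB ≤ cX' f := fun g hg => by
    obtain ⟨x, hxg, ⟨v, rfl⟩, rfl⟩ := mem_img.mp hg
    refine Subgroup.mem_inf.mpr ⟨mem_cD hf _, ?_⟩
    rw [Subgroup.mem_centralizer_iff]
    intro q hq
    have hc : ∀ w : Fin 3, qA * pv 0 w = pv 0 w * qA ∧ kA * pv 0 w = pv 0 w * kA := by
      decide +kernel
    rcases hq with rfl | rfl
    · rw [← Fm_mul g_qA hxg, ← Fm_mul hxg g_qA, (hc v).1]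
    · rw [← Fm_mul g_kA hxg, ← Fm_mul hxg g_kA, (hc v).2]
  have hnorm : ∀ n ∈ cX' f, (∀ h ∈ img f SB, n * h * n⁻¹ ∈ img f SB) →
      ∃ v, n = Fm f (pv 0 v) ∨ n = Fm f (pv 0 v) * Fm f jB := by
    intro n hn h
    have hnR : n ∈ f.range := by
      refine key hf _ isConj_sB ?_
      rw [← Fm_eq (x := sB) rfl]
      exact img_le_range _ (h _ hsS)
    obtain ⟨x, hxg, rfl⟩ := range_cD hf hnR hn.1
    have hq : ∀ q : MB, q = qA ∨ q = kA → Eqv (x * q * x⁻¹) q := by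
      intro q hq'
      have hqg : Good q := by rcases hq' with rfl | rfl <;> rfl
      refine eqv_of_Fm hf (Bd.mul_mem (Bd.mul_mem hxg hqg) (Bd.inv_mem hxg)) hqg ?_
      rw [Fm_conj hxg hqg, ← Subgroup.mem_centralizer_iff.mp hn.2 (Fm f q)
        (by rcases hq' with rfl | rfl <;> simp), mul_inv_cancel_right]
    obtain ⟨p, hp, ⟨v, rfl⟩, he⟩ := mem_img.mp (h _ hsS)
    obtain ⟨v', hv'⟩ := cent_Q x hxg (hq _ (Or.inl rfl)) (hq _ (Or.inr rfl))
      ⟨v, eqv_of_Fm hf (Bd.mul_mem (Bd.mul_mem hxg g_sB) (Bd.inv_mem hxg)) hp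
        ((Fm_conj hxg g_sB).trans he.symm)⟩
    refine ⟨v', hv'.imp (fun e => Fm_of_eqv hf (good_pv _ _) e) (fun e => ?_)⟩
    rw [Fm_of_eqv hf (Bd.mul_mem (good_pv _ _) g_jB) e, Fm_mul (good_pv _ _) g_jB]
  obtain ⟨P, hP⟩ := exists_sylow (p := 3) hSX (fun g => by
      obtain ⟨k, hk⟩ := img_pgroup_three ⟨g.1, hSP g.2⟩
      exact ⟨k, Subtype.ext (by simpa using congrArg Subtype.val hk)⟩)
    fun Q hQ hQD hSQ n hn h => by
      obtain ⟨v, rfl | rfl⟩ := hnorm n (hQD hn) h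
      · exact mem_img.mpr ⟨_, good_pv 0 v, ⟨v, rfl⟩, rfl⟩
      · have hj : Fm f jB ∈ Q := by
          have := mul_mem (inv_mem (hSQ (mem_img.mpr ⟨_, good_pv 0 v, ⟨v, rfl⟩, rfl⟩))) hn
          rwa [inv_mul_cancel_left] at this
        rw [eq_one_of_two_three img_pgroup_two hQ (show Fm f jB ∈ img f TB from tn_in_T 1) hj, mul_one]
        exact mem_img.mpr ⟨_, good_pv 0 v, ⟨v, rfl⟩, rfl⟩
  obtain ⟨p1, p2, p3, p4, p5⟩ := pair_facts hf
  refine le_of_sylow_central P hP (img_le_range _) hSX ?_ p1 p2 p3 p4 p5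
    (mem_normalizer_X hf rfl conj_facts.1 conj_facts.2.1)
    (mem_normalizer_X hf rfl conj_facts.2.2.1 conj_facts.2.2.2) (fix_pair hf hx)
  intro n hn h y hy
  obtain ⟨x, hxg, ⟨w, rfl⟩, rfl⟩ := mem_img.mp hy
  obtain ⟨v, hv⟩ := hnorm n hn h
  have hc : Commute (Fm f (pv 0 v)) (Fm f (pv 0 w)) := by
    show _ = _
    rw [← Fm_mul (good_pv _ _) (good_pv _ _), ← Fm_mul (good_pv _ _) (good_pv _ _), pv_mul, pv_mul,
      add_comm v]
  rcases hv with rfl | rfl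
  · exact hc.eq
  · exact (hc.mul_left (commute_jB hf (mem_cD hf (pv 0 w))).symm).eq

lemma sylow_two (hf : Full f) (hx : ∀ g, (g = xP ∨ g = xM) →
    Subgroup.centralizer ({f g} : Set G) ≤ f.range) :
    ∃ P : Sylow 2 (cD f), (P : Subgroup (cD f)) = (img f TB).subgroupOf (cD f) := by
  have : Fact (Nat.Prime 2) := ⟨Nat.prime_two⟩
  refine exists_sylow (img_le_cD hf _) img_pgroup_two fun Q hQ hQD hTQ n hn h => ?_
  have hnD := hQD hn
  obtain ⟨m1, m2, m3, m4, s1, s2, s3⟩ := qA_kA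
  have mT : ∀ {y : MB}, InT y → Fm f y ∈ img f TB := fun {y} hy =>
    mem_img.mpr ⟨y, hy.2.2, hy, rfl⟩
  obtain ⟨y1, g1, t1, e1⟩ := mem_img.mp (h _ (mT m1))
  obtain ⟨y2, g2, t2, e2⟩ := mem_img.mp (h _ (mT m2))
  have hj := commute_jB hf hnD
  have hsq : ∀ {q y : MB}, Good q → Good y → Fm f y = n * Fm f q * n⁻¹ → Eqv (q * q) jB →
      Eqv (y * y) jB := fun {q y} hq hy he hqq => by
    refine eqv_of_Fm hf (Bd.mul_mem hy hy) g_jB ?_
    rw [Fm_mul hy hy, he, conj_mul, ← Fm_mul hq hq, ← Fm_of_eqv hf (Bd.mul_mem hq hq) hqq, hj,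
      mul_inv_cancel_right]
  obtain ⟨a, s, ha1, ha2⟩ := autA y1 t1 (hsq g_qA g1 e1 s1) y2 t2 (hsq g_kA g2 e2 s2) fun hc => by
    refine s3 (eqv_of_Fm hf (Bd.mul_mem g_qA g_kA) (Bd.mul_mem g_kA g_qA) ?_)
    have hc' := Fm_of_eqv hf (Bd.mul_mem g1 g2) hc
    rw [Fm_mul g1 g2, Fm_mul g2 g1, e1, e2, conj_mul, conj_mul] at hc'
    rw [Fm_mul g_qA g_kA, Fm_mul g_kA g_qA]
    exact (mul_left_cancel (mul_right_cancel hc')).symm
  set x : MB := mkX a s with hxdef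
  have hxg : Good x := good_aux a s
  have hX : (Fm f x)⁻¹ * n ∈ cX' f := by
    refine Subgroup.mem_inf.mpr ⟨mul_mem (inv_mem (mem_cD hf x)) hnD, ?_⟩
    rw [Subgroup.mem_centralizer_iff]
    intro q hq
    obtain ⟨q0, y, hq0, hy, he, hc, rfl⟩ : ∃ q0 y : MB, Good q0 ∧ Good y ∧
        Fm f y = n * Fm f q0 * n⁻¹ ∧ Eqv (x * q0 * x⁻¹) y ∧ Fm f q0 = q := by
      rcases hq with rfl | rfl
      · exact ⟨qA, y1, rfl, g1, e1, ha1, rfl⟩
      · exact ⟨kA, y2, rfl, g2, e2, ha2, rfl⟩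
    have h' := Fm_of_eqv hf (Bd.mul_mem (Bd.mul_mem hxg hq0) (Bd.inv_mem hxg)) hc
    rw [he, Fm_conj hxg hq0] at h'
    calc Fm f q0 * ((Fm f x)⁻¹ * n)
        = (Fm f x)⁻¹ * (Fm f x * Fm f q0 * (Fm f x)⁻¹) * n := by group
      _ = (Fm f x)⁻¹ * (n * Fm f q0 * n⁻¹) * n := by rw [h']
      _ = (Fm f x)⁻¹ * n * Fm f q0 := by group
  have hnR : n ∈ f.range := by
    have := mul_mem (Fm_mem_range (f := f) x) (X_le_range hf hx hX)
    rwa [mul_inv_cancel_left] at this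
  obtain ⟨x', hx', rfl⟩ := range_cD hf hnR hnD
  have hin : ∀ {y : MB}, InT y → InT (x' * y * x'⁻¹) := fun {y} hy => by
    obtain ⟨z, hzg, hzT, hze⟩ := mem_img.mp (h _ (mT hy))
    rcases eqv_of_Fm hf hzg (Bd.mul_mem (Bd.mul_mem hx' hy.2.2) (Bd.inv_mem hx'))
      (by rw [hze, Fm_conj hx' hy.2.2]) with e | e
    · rw [e]; exact hzT
    · rw [e]; exact TB.mul_mem (show InT nB by decide) hzT
  exact mem_img.mpr ⟨x', hx', norm_T x' hx' (hin m1) (hin m2) (hin m3) (hin m4), rfl⟩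

/-! ### The classes of involutions -/

/-- The elements of the second three-group. -/
def rI (u : Fin 3 × Fin 3) : L4 := xP ^ u.1.val * yI ^ u.2.val

lemma rI_inj : ∀ u u' : Fin 3 × Fin 3, rI u = rI u' ∨ rI u = negOne * rI u' → u = u' := by
  decide +kernel

lemma eqv_of_f (hf : Full f) (a b : L4) (h : f a = f b) : a = b ∨ a = negOne * b := by
  have h1 : f (a * b⁻¹) = 1 :=
    (map_mul f a b⁻¹).trans ((congrArg₂ (· * ·) h (map_inv f b)).trans (mul_inv_cancel (f b)))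
  rcases (hf.ker _).mp h1 with e | e
  · exact Or.inl ((mul_inv_eq_one (a := a) (b := b)).mp e)
  · exact Or.inr ((mul_inv_eq_iff_eq_mul (a := a) (b := b) (c := negOne)).mp e)

set_option maxHeartbeats 1000000 in
lemma not_conj_i_j (hf : Full f) (hx : ∀ g, (g = xP ∨ g = xM) →
    Subgroup.centralizer ({f g} : Set G) ≤ f.range) : ¬ IsConj (f i4) (f j4) := by
  classical
  have : Fact (Nat.Prime 3) := ⟨Nat.prime_three⟩
  intro hc
  obtain ⟨g, hg⟩ := isConj_iff.mp hc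
  obtain ⟨c1, c2, c3, p1, p2, hR⟩ := R_facts
  obtain ⟨P, hP⟩ := sylow_three hf
  have hcm : Commute (f xP) (f yI) := (show Commute xP yI from c3).map f
  set E : Subgroup G :=
    (CoprimeGen.pairSubgroup (f xP) (f yI) hcm).map (MulAut.conj g).toMonoidHom
  have hED : E ≤ cD f := by
    rintro _ ⟨y, hy, rfl⟩
    have hyc : y ∈ Subgroup.centralizer ({f i4} : Set G) := by
      refine CoprimeGen.pairSubgroup_le ?_ ?_ hy
      · rw [Subgroup.mem_centralizer_singleton_iff, ← map_mul, ← map_mul, c1]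
      · rw [Subgroup.mem_centralizer_singleton_iff, ← map_mul, ← map_mul, c2]
    rw [cD, Subgroup.mem_centralizer_singleton_iff, ← hg]
    have := Subgroup.mem_centralizer_singleton_iff.mp hyc
    simp only [MulEquiv.coe_toMonoidHom, MulAut.conj_apply]
    rw [conj_mul, conj_mul, this]
  have hE3 : IsPGroup 3 E := by
    refine IsPGroup.map ?_ _
    have h9 : Nat.card (CoprimeGen.pairSubgroup (f xP) (f yI) hcm) ∣ 3 ^ 2 :=
      (CoprimeGen.card_pairSubgroup_dvd _ _ hcm).trans (by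
        rw [pow_two]
        exact mul_dvd_mul (orderOf_dvd_of_pow_eq_one (by rw [← map_pow, p1, map_one]))
          (orderOf_dvd_of_pow_eq_one (by rw [← map_pow, p2, map_one])))
    obtain ⟨k, -, hk⟩ := (Nat.dvd_prime_pow Nat.prime_three).mp h9
    exact IsPGroup.of_card hk
  obtain ⟨d, hd, hdE⟩ := conj_into P hP hED hE3
  set m := d * g
  have hrE : ∀ u, m * f (rI u) * m⁻¹ ∈ img f PB := fun u => by
    have : g * f (rI u) * g⁻¹ ∈ E := ⟨f (rI u), by
      rw [rI, map_mul, map_pow, map_pow]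
      exact mul_mem (pow_mem (CoprimeGen.left_mem_pairSubgroup _ _ _) _)
        (pow_mem (CoprimeGen.right_mem_pairSubgroup _ _ _) _), rfl⟩
    have := hdE _ this
    convert this using 1
    simp only [m]; group
  choose pu hpu using fun u => mem_img.mp (hrE u)
  have hex : ∀ u, ∃ t : Fin 3 × Fin 3, pu u = pv t.1 t.2 := fun u => by
    obtain ⟨a, b, h⟩ := (hpu u).2.1
    exact ⟨(a, b), h⟩
  choose t ht using hex
  have hinj : Function.Injective t := by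
    intro u u' h
    have e : m * f (rI u) * m⁻¹ = m * f (rI u') * m⁻¹ := by
      rw [← (hpu u).2.2, ← (hpu u').2.2, ht, ht, h]
    have e' : f (rI u) = f (rI u') := mul_left_cancel (mul_right_cancel e)
    exact rI_inj u u' (eqv_of_f hf _ _ e')
  obtain ⟨u, hu⟩ := (Finite.injective_iff_surjective.mp hinj) (1, 0)
  have he : m * f (rI u) * m⁻¹ = f z4 := by
    rw [← (hpu u).2.2, ht, hu, ← Fm_zA]; rfl
  have hu0 : u.1 ≠ 0 ∨ u.2 ≠ 0 := by
    by_contra hcon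
    simp only [not_or, not_not] at hcon
    have : f (rI u) = 1 := by simp [rI, hcon.1, hcon.2]
    rw [this, mul_one, mul_inv_cancel] at he
    rcases (hf.ker _).mp he.symm with h | h <;>
      exact absurd (congrArg (fun a : L4 => (a : Matrix (Fin 4) (Fin 4) (ZMod 3)) 0 3) h)
        (by decide +kernel)
  obtain ⟨h, hh⟩ := hf.zclass (rI u) (isConj_iff.mpr ⟨m⁻¹, by rw [← he]; group⟩)
  obtain ⟨r1, r2, -, -⟩ := hR u.1 u.2 hu0
  rcases eqv_of_f hf _ _ hh.symm with e | e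
  · exact r1 (show Rank1 (rI u) from e ▸ rank1_conj h)
  · exact r2 (show Rank1 (negOne * rI u) from e ▸ rank1_conj h)

lemma conj_of_eq {x : MB} (hx : Good x) {c y : L4}
    (h : toL ⟨x, hx⟩ * c = c * y ∨ toL ⟨x, hx⟩ * c = negOne * (c * y)) (hf : Full f) :
    IsConj (Fm f x) (f y) := by
  refine isConj_iff.mpr ⟨(f c)⁻¹, ?_⟩
  have h' : f (toL ⟨x, hx⟩) * f c = f c * f y := by
    rcases h with h | h
    · rw [← map_mul, ← map_mul, h]
    · rw [← map_mul, ← map_mul, h, map_mul, f_negOne hf, one_mul]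
  rw [Fm_eq hx, inv_inv, mul_assoc, h', inv_mul_cancel_left]

lemma types (hf : Full f) :
    IsConj (Fm f hB) (f j4) ∧ IsConj (Fm f wB) (f j4) ∧ IsConj (Fm f (wB * hB)) (f j4) ∧
    IsConj (Fm f iB) (f i4) ∧ IsConj (Fm f (wB * jB)) (f i4) ∧
    IsConj (Fm f (wB * hB * jB)) (f i4) := by
  refine ⟨conj_of_eq (c := cH) g_hB ?_ hf, conj_of_eq (c := cW) g_wB ?_ hf,
    conj_of_eq (c := cWH) (show Good (wB * hB) from rfl) ?_ hf, conj_of_eq (c := cI) (show Good iB from rfl) ?_ hf,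
    conj_of_eq (c := cWJ) (show Good (wB * jB) from rfl) ?_ hf,
    conj_of_eq (c := cWHJ) (show Good (wB * hB * jB) from rfl) ?_ hf⟩ <;>
  decide +kernel

/-! ### The final step -/

theorem cent_j4 (hf : Full f) (hx : ∀ g, (g = xP ∨ g = xM) →
    Subgroup.centralizer ({f g} : Set G) ≤ f.range) :
    Subgroup.centralizer ({f j4} : Set G) ≤ f.range := by
  classical
  have h3 : Fact (Nat.Prime 3) := ⟨Nat.prime_three⟩
  have h2 : Fact (Nat.Prime 2) := ⟨Nat.prime_two⟩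
  show cD f ≤ f.range
  set D := cD f with hD
  set K0 : Subgroup D := Cfsg.pResidual 2 D with hK0
  set K : Subgroup G := K0.map D.subtype with hK
  have hKn : K0.Normal := by
    refine ⟨fun n hn g => ?_⟩
    have hle : K0 ≤ K0.comap (MulAut.conj g).toMonoidHom := by
      rw [hK0, Cfsg.pResidual, Subgroup.closure_le]
      intro y hy
      refine Subgroup.subset_closure ?_
      show Nat.Coprime (orderOf (g * y * g⁻¹)) 2
      rw [show orderOf (g * y * g⁻¹) = orderOf y from MulEquiv.orderOf_eq (MulAut.conj g) y]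
      exact hy
    exact hle hn
  have hKD : K ≤ D := Subgroup.map_subtype_le _
  have hKconj : ∀ g ∈ D, ∀ k ∈ K, g * k * g⁻¹ ∈ K := by
    rintro g hg _ ⟨k, hk, rfl⟩
    exact ⟨⟨g, hg⟩ * k * ⟨g, hg⟩⁻¹, hKn.conj_mem k hk _, rfl⟩
  have hodd : ∀ g ∈ D, Nat.Coprime (orderOf g) 2 → g ∈ K := fun g hg ho =>
    ⟨⟨g, hg⟩, Subgroup.subset_closure (by
      show Nat.Coprime _ 2
      rwa [Subgroup.orderOf_mk]), rfl⟩
  have hPK : img f PB ≤ K := fun g hg => by
    refine hodd g (img_le_cD hf _ hg) ?_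
    obtain ⟨k, hk⟩ := img_pgroup_three ⟨g, hg⟩
    exact (Nat.Coprime.pow_left k (by norm_num : Nat.Coprime 3 2)).coprime_dvd_left
      (orderOf_dvd_of_pow_eq_one (congrArg Subtype.val hk))
  -- the quaternion groups
  have hUK : ∀ x : MB, InU x → Fm f x ∈ K := by
    intro x hx'
    obtain ⟨a, c, ha, hc, e1⟩ := comm_plane x.a hx'.1
    obtain ⟨a', c', ha', hc', e2⟩ := comm_plane x.b hx'.2.1
    have hz : Good (pv 1 1) := good_pv 1 1
    have gU : ∀ {p q : Fin 48}, p.val < 8 → q.val < 8 → Good ⟨p, q, false⟩ := fun hp hq =>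
      U_good ⟨hp, hq, rfl⟩
    have hcomm : ∀ {p q : Fin 48}, p.val < 8 → q.val < 8 →
        Fm f (pv 1 1 * ⟨p, q, false⟩ * (pv 1 1)⁻¹ * (⟨p, q, false⟩ : MB)⁻¹) ∈ K := by
      intro p q hp hq
      have hy := gU hp hq
      rw [Fm_mul (Bd.mul_mem (Bd.mul_mem hz hy) (Bd.inv_mem hz)) (Bd.inv_mem hy), Fm_conj hz hy,
        Fm_inv hy, show Fm f (pv 1 1) * Fm f ⟨p, q, false⟩ * (Fm f (pv 1 1))⁻¹ *
          (Fm f ⟨p, q, false⟩)⁻¹ = Fm f (pv 1 1) * (Fm f ⟨p, q, false⟩ * (Fm f (pv 1 1))⁻¹ *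
          (Fm f ⟨p, q, false⟩)⁻¹) by group]
      exact mul_mem (hPK (pv_in_P 1 1))
        (hKconj _ (mem_cD hf _) _ (inv_mem (hPK (pv_in_P 1 1))))
    have he : x = (pv 1 1 * ⟨a, a', false⟩ * (pv 1 1)⁻¹ * (⟨a, a', false⟩ : MB)⁻¹) *
        (pv 1 1 * ⟨c, c', false⟩ * (pv 1 1)⁻¹ * (⟨c, c', false⟩ : MB)⁻¹) := by
      obtain ⟨xa, xb, xs⟩ := x
      obtain rfl : xs = false := hx'.2.2
      simp only at e1 e2
      simp [mul_def, L43CentJModel49.inv_def, pv, zp, ← e1, ← e2]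
    have g1 : ∀ {p q : Fin 48}, p.val < 8 → q.val < 8 →
        Good (pv 1 1 * ⟨p, q, false⟩ * (pv 1 1)⁻¹ * (⟨p, q, false⟩ : MB)⁻¹) := fun hp hq =>
      Bd.mul_mem (Bd.mul_mem (Bd.mul_mem hz (gU hp hq)) (Bd.inv_mem hz)) (Bd.inv_mem (gU hp hq))
    rw [he, Fm_mul (g1 ha ha') (g1 hc hc')]
    exact mul_mem (hcomm ha ha') (hcomm hc hc')
  -- two-elements of the residual
  obtain ⟨PT, hPT⟩ := sylow_two hf hx
  have hKT : ∃ Q : Sylow 2 K, (Q : Subgroup K) = (img f TB ⊓ K).subgroupOf K := by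
    refine exists_sylow inf_le_right (fun g => ?_) fun Q hQ hQK hTQ n hn _ => ?_
    · obtain ⟨k, hk⟩ := img_pgroup_two (f := f) ⟨g.1, g.2.1⟩
      exact ⟨k, Subtype.ext (by simpa using congrArg Subtype.val hk)⟩
    · obtain ⟨d, hd, hdQ⟩ := conj_into PT hPT (hQK.trans hKD) hQ
      have hmap : Q.map (MulAut.conj d).toMonoidHom ≤ img f TB ⊓ K := by
        rintro _ ⟨q, hq, rfl⟩
        exact ⟨hdQ q hq, hKconj d hd q (hQK hq)⟩
      have hcard : Nat.card Q ≤ Nat.card (img f TB ⊓ K : Subgroup G) := by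
        rw [Nat.card_congr (Q.equivMapOfInjective (MulAut.conj d).toMonoidHom (MulAut.conj d).injective).toEquiv]
        exact Nat.le_of_dvd Nat.card_pos (Subgroup.card_dvd_of_le hmap)
      rw [Subgroup.eq_of_le_of_card_ge hTQ hcard]
      exact hn
  obtain ⟨QK, hQK⟩ := hKT
  have no_inv : ∀ (u : G) (A : Subgroup G), u ∈ img f TB → u ∈ K → u * u = 1 → u ≠ 1 → u ∉ A →
      (∀ x ∈ img f TB, x ∈ K → x ∈ A ∨ x * u ∈ A) →
      (∀ d ∈ D, d * u * d⁻¹ ∈ img f TB → d * u * d⁻¹ ∈ A → False) → False := by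
    intro u A huT huK hu2 hu1 huA hcov hno
    set Qs : Subgroup K := (img f TB ⊓ A).subgroupOf K
    have hle : Qs ≤ (QK : Subgroup K) := fun y hy => by
      rw [hQK]; exact ⟨hy.1, y.2⟩
    have huQ : (⟨u, huK⟩ : K) ∈ (QK : Subgroup K) := by rw [hQK]; exact ⟨huT, huK⟩
    have hidx : Qs.relIndex (QK : Subgroup K) = 2 := by
      rw [Subgroup.relIndex, Subgroup.index_eq_two_iff]
      refine ⟨⟨⟨u, huK⟩, huQ⟩, fun b => ?_⟩
      have hbT : (b.1 : G) ∈ img f TB := by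
        exact ((SetLike.ext_iff.mp hQK b.1).mp b.2).1
      have hbu : ((b.1 : G) * u) ∈ img f TB := mul_mem hbT huT
      by_cases hbA : (b.1 : G) ∈ A
      · refine Or.inr ⟨⟨hbT, hbA⟩, fun hc => huA ?_⟩
        have := mul_mem (inv_mem hbA) hc.2
        simpa using this
      · exact Or.inl ⟨⟨hbu, (hcov _ hbT b.1.2).resolve_left hbA⟩, fun hc => hbA hc.2⟩
    obtain ⟨M, hMn, hM2, -⟩ := TransferThompson.thompson_transfer QK Qs hle hidx
      (u := ⟨u, huK⟩) (orderOf_eq_prime (Subtype.ext (by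
        show u ^ 2 = 1
        rw [pow_two, hu2])) fun h => hu1 (congrArg Subtype.val h)) huQ
      fun g hg => hno g (hKD g.2) hg.1 hg.2
    -- no subgroup of index two
    have htop : M = ⊤ := by
      set M' : Subgroup D := (M.map K.subtype).subgroupOf D
      have hK0M : K0 ≤ M' := by
        rw [hK0, Cfsg.pResidual, Subgroup.closure_le]
        intro y hy
        have hyK : (y : G) ∈ K := hodd y y.2 (by rwa [Subgroup.orderOf_coe])
        refine ⟨⟨y, hyK⟩, ?_, rfl⟩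
        have ho : Nat.Coprime (orderOf (⟨(y : G), hyK⟩ : K)) 2 := by
          rw [Subgroup.orderOf_mk, Subgroup.orderOf_coe]; exact hy
        have h2m : (⟨(y : G), hyK⟩ : K) ^ 2 ∈ M := Subgroup.sq_mem_of_index_two hM2 _
        obtain ⟨k, hk⟩ := exists_pow_eq_self_of_coprime (Nat.Coprime.symm ho)
        rw [← hk]
        exact pow_mem h2m k
      refine eq_top_iff.mpr fun y _ => ?_
      obtain ⟨y0, hy0, hy0'⟩ := y.2
      obtain ⟨z, hzM, hz'⟩ := hK0M hy0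
      rw [show y = z from Subtype.ext (hy0'.symm.trans hz'.symm)]
      exact hzM
    rw [htop, Subgroup.index_top] at hM2
    norm_num at hM2
  have hfix_j : ∀ {u : MB}, Good u → ¬ Eqv u jB → ∀ d ∈ D, d * Fm f u * d⁻¹ ≠ Fm f jB := by
    intro u hu hne d hd h
    refine hne (eqv_of_Fm hf hu g_jB ?_)
    calc Fm f u = d⁻¹ * (d * Fm f u * d⁻¹) * d := by group
      _ = d⁻¹ * (Fm f jB * d) := by rw [h, mul_assoc]
      _ = Fm f jB := by rw [← commute_jB hf hd, inv_mul_cancel_left]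
  obtain ⟨th, tw, twh, ti, twj, twhj⟩ := types hf
  have nij := not_conj_i_j hf hx
  -- no exchange
  have step1 : ∀ x : MB, InT x → Fm f x ∈ K → x.s = false := by
    intro x hxT hxK
    by_contra hs
    have hxs : x.s = true := by simpa using hs
    obtain ⟨u, huT, hu1, hu2, huj, hus, huK, tu, tuj⟩ : ∃ u : MB, InT u ∧ ¬ Eqv 1 u ∧ u * u = 1 ∧
        ¬ Eqv u jB ∧ u.s = true ∧ Fm f u ∈ K ∧ IsConj (Fm f u) (f j4) ∧
        IsConj (Fm f (u * jB)) (f i4) := by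
      have hw : InT wB ∧ InT hB ∧ InT (wB * hB) ∧ (wB * hB).s = true := by decide +kernel
      have getK : ∀ {u : MB}, InT u → InU (x * u) → Fm f u ∈ K := fun {u} hu hU => by
        have h1 := hUK _ hU
        rw [Fm_mul hxT.2.2 hu.2.2] at h1
        have := mul_mem (inv_mem hxK) h1
        rwa [inv_mul_cancel_left] at this
      rcases T_cover x hxT with h | h | h | h
      · exact absurd h.2.2 hs
      · exact absurd (show (x * hB).s = false from h.2.2) (by simp [mul_def, hxs, hB])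
      · exact ⟨wB, hw.1, by decide +kernel, by decide +kernel, by decide +kernel, rfl,
          getK hw.1 h, tw, twj⟩
      · exact ⟨wB * hB, hw.2.2.1, by decide +kernel, by decide +kernel, by decide +kernel, hw.2.2.2,
          getK hw.2.2.1 h, twh, twhj⟩
    refine no_inv (Fm f u) (img f (TB ⊓ sFree)) (mem_img.mpr ⟨u, huT.2.2, huT, rfl⟩) huK
      (by rw [← Fm_mul huT.2.2 huT.2.2, hu2, Fm_one]) (fun h => hu1 (Fm_eq_one hf huT.2.2 h)) ?_ ?_ ?_
    · intro h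
      obtain ⟨v, hv, ⟨-, hvs⟩, hve⟩ := mem_img.mp h
      rcases eqv_of_Fm hf hv huT.2.2 hve with e | e
      · rw [e] at hus; exact Bool.false_ne_true (hvs.symm.trans hus)
      · rw [e, mul_def] at hus
        simp [nB, show v.s = false from hvs] at hus
    · intro g hg hgK
      obtain ⟨v, hv, hvT, rfl⟩ := mem_img.mp hg
      by_cases hvs : v.s = false
      · exact Or.inl (mem_img.mpr ⟨v, hv, ⟨hvT, hvs⟩, rfl⟩)
      · refine Or.inr ?_
        rw [← Fm_mul hv huT.2.2]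
        refine mem_img.mpr ⟨_, Bd.mul_mem hv huT.2.2, ⟨TB.mul_mem hvT huT, ?_⟩, rfl⟩
        show (v * u).s = false
        rw [mul_def, show v.s = true by simpa using hvs, hus]
        rfl
    · intro d hd _ hA
      obtain ⟨y, hy, ⟨hyT, hys⟩, hye⟩ := mem_img.mp hA
      have hy2 : Eqv (y * y) 1 := by
        refine eqv_of_Fm hf (Bd.mul_mem hy hy) Bd.one_mem ?_
        rw [Fm_mul hy hy, hye, conj_mul, ← Fm_mul huT.2.2 huT.2.2, hu2, Fm_one, mul_one,
          mul_inv_cancel]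
      have hy1 : ¬ Eqv y 1 := fun h => by
        have := (Fm_of_eqv hf hy h).symm
        rw [Fm_one, hye, mul_inv_eq_one, mul_eq_left] at this
        exact hu1 (Fm_eq_one hf huT.2.2 this)
      have hyj : ¬ Eqv y jB := fun h =>
        hfix_j huT.2.2 huj d hd (hye.symm.trans (Fm_of_eqv hf hy h).symm)
      obtain ⟨k, hk, hflip⟩ := T1_flip y hyT hys hy2 hy1 hyj
      have hkg : Good ⟨0, k, false⟩ := U_good ⟨by show (0 : ℕ) < 8; norm_num, hk, rfl⟩
      have e := Fm_of_eqv hf (Bd.mul_mem (Bd.mul_mem hkg hy) (Bd.inv_mem hkg)) hflip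
      rw [Fm_mul hy g_jB, Fm_conj hkg hy, hye] at e
      refine nij ((tuj.symm.trans ?_).trans tu)
      refine isConj_iff.mpr ⟨d⁻¹ * (Fm f ⟨0, k, false⟩)⁻¹ * d, ?_⟩
      rw [Fm_mul huT.2.2 g_jB]
      calc d⁻¹ * (Fm f ⟨0, k, false⟩)⁻¹ * d * (Fm f u * Fm f jB) *
            (d⁻¹ * (Fm f ⟨0, k, false⟩)⁻¹ * d)⁻¹
          = d⁻¹ * (Fm f ⟨0, k, false⟩)⁻¹ * (d * Fm f u * (Fm f jB * d⁻¹)) *
              Fm f ⟨0, k, false⟩ * d := by group
        _ = d⁻¹ * (Fm f ⟨0, k, false⟩)⁻¹ * (d * Fm f u * d⁻¹ * Fm f jB) *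
              Fm f ⟨0, k, false⟩ * d := by
            rw [← commute_jB hf (inv_mem hd)]; group
        _ = Fm f u := by rw [e]; group
  -- only the quaternion groups
  have step2 : ∀ x : MB, InT x → Fm f x ∈ K → InU x := by
    intro x hxT hxK
    have hxs := step1 x hxT hxK
    by_contra hU
    have hh : InT hB := qA_kA.2.2.1
    have cover : ∀ v : MB, InT v → v.s = false → InU v ∨ InU (v * hB) := fun v hv hvs => by
      rcases T_cover v hv with h | h | h | h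
      · exact Or.inl h
      · exact Or.inr h
      · exact absurd h.2.2 (by simp [mul_def, hvs, wB])
      · exact absurd h.2.2 (by simp [mul_def, hvs, wB, hB])
    have hK' : Fm f hB ∈ K := by
      have h1 := hUK _ ((cover x hxT hxs).resolve_left hU)
      rw [Fm_mul hxT.2.2 hh.2.2] at h1
      have := mul_mem (inv_mem hxK) h1
      rwa [inv_mul_cancel_left] at this
    refine no_inv (Fm f hB) (img f UB) (mem_img.mpr ⟨hB, rfl, hh, rfl⟩) hK'
      (by rw [← Fm_mul g_hB g_hB, show hB * hB = 1 by decide +kernel, Fm_one])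
      (fun h => absurd (Fm_eq_one hf (x := hB) rfl h) (by decide +kernel)) ?_ ?_ ?_
    · intro h
      obtain ⟨v, hv, hvU, hve⟩ := mem_img.mp h
      rcases eqv_of_Fm hf hv (y := hB) rfl hve with e | e
      · exact absurd (e.symm ▸ hvU : InU hB) (by decide +kernel)
      · exact absurd (e.symm ▸ UB.mul_mem (show InU nB by decide) hvU : InU hB) (by decide +kernel)
    · intro g hg hgK
      obtain ⟨v, hv, hvT, rfl⟩ := mem_img.mp hg
      refine (cover v hvT (step1 v hvT hgK)).imp (fun h => mem_img.mpr ⟨v, hv, h, rfl⟩) fun h => ?_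
      rw [← Fm_mul hv g_hB]
      exact mem_img.mpr ⟨_, Bd.mul_mem hv g_hB, h, rfl⟩
    · intro d hd _ hA
      obtain ⟨y, hy, hyU, hye⟩ := mem_img.mp hA
      have hy2 : Eqv (y * y) 1 := by
        refine eqv_of_Fm hf (Bd.mul_mem hy hy) Bd.one_mem ?_
        rw [Fm_mul hy hy, hye, conj_mul, ← Fm_mul g_hB g_hB, show hB * hB = 1 by decide +kernel,
          Fm_one, mul_one, mul_inv_cancel]
      have hy1 : ¬ Eqv y 1 := fun h => by
        have := (Fm_of_eqv hf hy h).symm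
        rw [Fm_one, hye, mul_inv_eq_one, mul_eq_left] at this
        exact absurd (Fm_eq_one hf (x := hB) rfl this) (by decide +kernel)
      have hyj : ¬ Eqv y jB := fun h =>
        hfix_j (u := hB) rfl (by decide +kernel) d hd (hye.symm.trans (Fm_of_eqv hf hy h).symm)
      obtain ⟨k, k', hk, hk', hcj⟩ := U_invol y hyU hy2 hy1 hyj
      have hkg : Good ⟨k, k', false⟩ := hk.trans hk'.symm
      have e := Fm_of_eqv hf (Bd.mul_mem (Bd.mul_mem hkg hy) (Bd.inv_mem hkg)) hcj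
      rw [Fm_conj hkg hy, hye] at e
      refine nij ((ti.symm.trans ?_).trans th)
      refine isConj_iff.mpr ⟨d⁻¹ * (Fm f ⟨k, k', false⟩)⁻¹, ?_⟩
      rw [e]; group
  -- Burnside in the residual
  obtain ⟨PD, hPD⟩ := sylow_three hf
  obtain ⟨PK, hPK'⟩ := exists_sylow (p := 3) hPK img_pgroup_three fun Q hQ hQK hPQ n hn h => by
    obtain ⟨u, v, i, rfl⟩ := norm_three hf (hKD (hQK hn)) h
    have ht : Fm f (tn i) ∈ Q := by
      have := mul_mem (inv_mem (hPQ (pv_in_P u v))) hn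
      rwa [inv_mul_cancel_left] at this
    rw [eq_one_of_two_three img_pgroup_two hQ (tn_in_T i) ht, mul_one]
    exact pv_in_P u v
  obtain ⟨p1, p2, p3, p4, p5⟩ := pair_facts hf
  have hnK : ∀ {y : MB}, Fm f y ∈ Subgroup.normalizer (K : Set G) := fun {y} => by
    rw [Subgroup.mem_normalizer_iff]
    refine fun g => ⟨hKconj _ (mem_cD hf y) g, fun h => ?_⟩
    have := hKconj _ (inv_mem (mem_cD hf y)) _ h
    simpa [mul_assoc] using this
  have hKR : K ≤ f.range := by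
    refine le_of_sylow_central PK hPK' (img_le_range _) hPK ?_ p1 p2 p3 p4 p5 hnK hnK
      (fix_pair hf hx)
    intro n hn h y hy
    obtain ⟨u, v, i, rfl⟩ := norm_three hf (hKD hn) h
    have ht : Fm f (tn i) ∈ K := by
      have := mul_mem (inv_mem (hPK (pv_in_P u v))) hn
      rwa [inv_mul_cancel_left] at this
    obtain ⟨x, -, ⟨a, b, rfl⟩, rfl⟩ := mem_img.mp hy
    have hc : Commute (Fm f (pv u v)) (Fm f (pv a b)) := by
      show _ = _
      rw [← Fm_mul (good_pv _ _) (good_pv _ _), ← Fm_mul (good_pv _ _) (good_pv _ _), pv_mul,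
        pv_mul, add_comm u, add_comm v]
    rcases tn_U i (step2 _ (tn_mem i) ht) with rfl | rfl
    · rw [show tn 0 = 1 from rfl, Fm_one, mul_one]; exact hc.eq
    · exact (hc.mul_left (commute_jB hf (mem_cD hf (pv a b))).symm).eq
  intro d hd
  have hz : Fm f zA ∈ img f PB := pv_in_P 1 0
  have hQp : IsPGroup 3 (Subgroup.zpowers (d * Fm f zA * d⁻¹)) := by
    intro y
    obtain ⟨k, hk⟩ := Subgroup.mem_zpowers_iff.mp y.2
    refine ⟨1, Subtype.ext ?_⟩
    show (y.1) ^ 3 ^ 1 = 1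
    rw [pow_one, ← hk, ← zpow_natCast, ← zpow_mul, mul_comm, zpow_mul, zpow_natCast, conj_pow, p2,
      mul_one, mul_inv_cancel, one_zpow]
  obtain ⟨k, hk, hkQ⟩ := conj_into PK hPK'
    (Subgroup.zpowers_le.mpr (hKconj d hd _ (hPK hz))) hQp
  have h1 := img_le_range _ (hkQ _ (Subgroup.mem_zpowers _))
  have hkd : k * d ∈ f.range := by
    refine key hf _ isConj_zA ?_
    rw [← Fm_eq (x := zA) rfl]
    convert h1 using 1
    group
  have := mul_mem (inv_mem (hKR hk)) hkd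
  rwa [inv_mul_cancel_left] at this

end Cfsg.Agent.L43CentJ49
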