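import Cfsg.Agent.Lib.L43Base45
import Cfsg.Agent.Lib.ComponentsCores
import Cfsg.Agent.Lib.PSLSimple

/-!
The maximal parabolic subgroup `3^3.SL(3,3)` of `PSL(4,3)`: the image of `H1` (S3373).
-/

set_option autoImplicit false
set_option linter.style.haveILetI false

namespace Cfsg.Agent.L43Three45

open Matrix

local notation "M4" => Matrix (Fin 4) (Fin 4) (ZMod 3)
local notation "V4" => Fin 4 → ZMod 3
local notation "S3'" => Matrix.SpecialLinearGroup (Fin 3) (ZMod 3)

local instance : Fact (Nat.Prime 3) := ⟨by norm_num⟩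

/-- Central elements of `L4` are `± 1`. -/
theorem mem_center {g : L4} : g ∈ Subgroup.center L4 ↔ g = 1 ∨ g = negOne := by
  refine ⟨fun hg => ?_, fun h => ?_⟩
  · obtain ⟨r, hr, hrg⟩ := Matrix.SpecialLinearGroup.mem_center_iff.1 hg
    have hr' : r = 1 ∨ r = -1 := by clear hrg; revert r; decide +kernel
    rcases hr' with rfl | rfl
    · refine Or.inl (Subtype.ext ?_)
      rw [← hrg, map_one, Matrix.SpecialLinearGroup.coe_one]
    · refine Or.inr (Subtype.ext ?_)
      rw [← hrg]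
      decide +kernel
  · rcases h with rfl | rfl
    · exact one_mem _
    · refine Matrix.SpecialLinearGroup.mem_center_iff.2 ⟨-1, ?_, ?_⟩
      · decide +kernel
      · decide +kernel

theorem negOne_notMem_H1 : negOne ∉ H1 := by decide +kernel

theorem mulVec_coe_mul (a b : L4) (v : V4) :
    ((a * b : L4) : M4) *ᵥ v = (a : M4) *ᵥ ((b : M4) *ᵥ v) := by
  rw [Matrix.SpecialLinearGroup.coe_mul, Matrix.mulVec_mulVec]

theorem mulVec_inj (g : L4) {v w : V4} (h : (g : M4) *ᵥ v = (g : M4) *ᵥ w) : v = w := by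
  have := congrArg (fun u => ((g⁻¹ : L4) : M4) *ᵥ u) h
  simp only [← mulVec_coe_mul, inv_mul_cancel, Matrix.SpecialLinearGroup.coe_one,
    Matrix.one_mulVec] at this
  exact this

theorem mem_H1_iff {g : L4} : g ∈ H1 ↔ (g : M4) *ᵥ Pi.single 0 1 = Pi.single 0 1 := by
  rw [Matrix.mulVec_single_one]
  constructor
  · intro h
    funext i
    rw [Matrix.col_apply, h i, Pi.single_apply]
  · intro h i
    have := congrFun h i
    rwa [Matrix.col_apply, Pi.single_apply] at this

/-- The pivot matrices. -/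
def piv1 (a b c d : ZMod 3) : M4 := !![1, a, 0, 0; 0, b, 0, 0; 0, c, 1, 0; 0, d, 0, b]
def piv2 (a c d : ZMod 3) : M4 := !![1, a, 0, 0; 0, 0, 1, 0; 0, c, 0, 0; 0, d, 0, -c]
def piv3 (a d : ZMod 3) : M4 := !![1, a, 0, 0; 0, 0, 1, 0; 0, 0, 0, d; 0, d, 0, 0]

/-- `H1` is transitive on the vectors off the line of `e₀`. -/
theorem exists_H1_move (v : V4) (hv : v 1 ≠ 0 ∨ v 2 ≠ 0 ∨ v 3 ≠ 0) :
    ∃ g ∈ H1, (g : M4) *ᵥ Pi.single 1 1 = v := by
  have h1 : ∀ a b c d : ZMod 3, b ≠ 0 → (piv1 a b c d).det = 1 := by decide +kernel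
  have h2 : ∀ a c d : ZMod 3, c ≠ 0 → (piv2 a c d).det = 1 := by decide +kernel
  have h3 : ∀ a d : ZMod 3, d ≠ 0 → (piv3 a d).det = 1 := by decide +kernel
  by_cases hb : v 1 ≠ 0
  · refine ⟨⟨_, h1 (v 0) _ (v 2) (v 3) hb⟩, fun i => ?_, ?_⟩
    · fin_cases i <;> simp [piv1]
    · rw [Matrix.mulVec_single_one]
      funext i
      fin_cases i <;> simp [piv1]
  push Not at hb
  by_cases hc : v 2 ≠ 0
  · refine ⟨⟨_, h2 (v 0) _ (v 3) hc⟩, fun i => ?_, ?_⟩
    · fin_cases i <;> simp [piv2]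
    · rw [Matrix.mulVec_single_one]
      funext i
      fin_cases i <;> simp [piv2, hb]
  push Not at hc
  have hd : v 3 ≠ 0 := by tauto
  refine ⟨⟨_, h3 (v 0) _ hd⟩, fun i => ?_, ?_⟩
  · fin_cases i <;> simp [piv3]
  · rw [Matrix.mulVec_single_one]
    funext i
    fin_cases i <;> simp [piv3, hb, hc]

/-- A subgroup containing `H1` and moving the point of `e₀` is everything. -/
theorem eq_top_of_move {K : Subgroup L4} (hK : H1 ≤ K) {g : L4} (hg : g ∈ K)
    (hmove : ((g : M4) *ᵥ Pi.single 0 1) 1 ≠ 0 ∨ ((g : M4) *ᵥ Pi.single 0 1) 2 ≠ 0 ∨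
      ((g : M4) *ᵥ Pi.single 0 1) 3 ≠ 0) : K = ⊤ := by
  obtain ⟨k, hk, hkg⟩ := exists_H1_move _ hmove
  -- an element of `K` carrying `e₀` to `e₁`
  set g₁ := k⁻¹ * g
  have hg₁ : g₁ ∈ K := K.mul_mem (K.inv_mem (hK hk)) hg
  have e₁ : (g₁ : M4) *ᵥ Pi.single 0 1 = Pi.single 1 1 := by
    refine mulVec_inj k ?_
    rw [← mulVec_coe_mul, hkg, show k * g₁ = g by simp [g₁]]
  have key : ∀ y : L4, ((y : M4) *ᵥ Pi.single 0 1) 1 ≠ 0 ∨ ((y : M4) *ᵥ Pi.single 0 1) 2 ≠ 0 ∨
      ((y : M4) *ᵥ Pi.single 0 1) 3 ≠ 0 → y ∈ K := by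
    intro y hy
    obtain ⟨q, hq, hqy⟩ := exists_H1_move _ hy
    have h2 : q * g₁ ∈ K := K.mul_mem (hK hq) hg₁
    have h1 : (q * g₁)⁻¹ * y ∈ H1 := mem_H1_iff.2 (mulVec_inj (q * g₁) (by
      rw [← mulVec_coe_mul, mul_inv_cancel_left, mulVec_coe_mul, e₁, hqy]))
    have h3 := K.mul_mem h2 (hK h1)
    rwa [mul_inv_cancel_left] at h3
  refine eq_top_iff.2 fun x _ => ?_
  by_contra hx
  have hon : ∀ y : L4, y ∉ K → ∀ i : Fin 4, i ≠ 0 → ((y : M4) *ᵥ Pi.single 0 1) i = 0 := by
    intro y hy i hi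
    by_contra hne
    refine hy (key y ?_)
    fin_cases i
    · exact absurd rfl hi
    · exact Or.inl hne
    · exact Or.inr (Or.inl hne)
    · exact Or.inr (Or.inr hne)
  have hw : g₁⁻¹ * x ∉ K := fun h => hx (by
    have := K.mul_mem hg₁ h
    rwa [mul_inv_cancel_left] at this)
  generalize hu : ((g₁⁻¹ * x : L4) : M4) *ᵥ Pi.single 0 1 = u
  have hu0 : u = u 0 • Pi.single 0 1 := by
    funext i
    by_cases hi : i = 0
    · subst hi; simp
    · rw [← hu, hon _ hw i hi]; simp [hi]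
  have h1 : (x : M4) *ᵥ Pi.single 0 1 = u 0 • Pi.single 1 1 := by
    rw [← e₁, ← Matrix.mulVec_smul, ← hu0, ← hu, ← mulVec_coe_mul, mul_inv_cancel_left]
  have h2 := hon x hx 1 (by decide)
  rw [h1] at h2
  simp at h2
  rw [h2, zero_smul] at h1
  have := mulVec_inj x (h1.trans (Matrix.mulVec_zero _).symm)
  simpa using congrFun this 0

/-- The lower right block of a member of `H1`. -/
def blk : H1 →* S3' where
  toFun g := ⟨((g : L4) : M4).submatrix Fin.succ Fin.succ, by
    have h := (g : L4).2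
    rw [Matrix.det_succ_column_zero, Fin.sum_univ_succ] at h
    have h0 : ∀ i : Fin 3, ((g : L4) : M4) i.succ 0 = 0 := fun i => by
      rw [g.2 i.succ, if_neg (Fin.succ_ne_zero i)]
    simp only [h0, mul_zero, zero_mul, Finset.sum_const_zero, add_zero, g.2 0] at h
    simpa using h⟩
  map_one' := Subtype.ext (by ext i j; simp [Matrix.one_apply, Fin.succ_inj])
  map_mul' a b := Subtype.ext (by
    ext i j
    change (((a : L4) * b : L4) : M4) i.succ j.succ =
      (((a : L4) : M4).submatrix Fin.succ Fin.succ * ((b : L4) : M4).submatrix Fin.succ Fin.succ) i j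
    rw [Matrix.SpecialLinearGroup.coe_mul, Matrix.mul_apply, Matrix.mul_apply,
      Fin.sum_univ_succ (n := 3), a.2 i.succ, if_neg (Fin.succ_ne_zero i), zero_mul, zero_add]
    rfl)

theorem blk_apply (g : H1) (i j : Fin 3) :
    (blk g : Matrix (Fin 3) (Fin 3) (ZMod 3)) i j = ((g : L4) : M4) i.succ j.succ := rfl

theorem ker_blk : blk.ker = E1.subgroupOf H1 := by
  ext g
  rw [MonoidHom.mem_ker, Subgroup.mem_subgroupOf]
  constructor
  · intro h
    refine ⟨fun i j hi => ?_, g.2⟩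
    obtain ⟨i, rfl⟩ := Fin.exists_succ_eq.2 hi
    induction j using Fin.cases with
    | zero => rw [g.2 i.succ]
    | succ j =>
      have := congrArg (fun m : S3' => (m : Matrix (Fin 3) (Fin 3) (ZMod 3)) i j) h
      simpa [blk_apply, Matrix.one_apply, Fin.succ_inj] using this
  · intro h
    refine Subtype.ext ?_
    ext i j
    rw [blk_apply, h.1 _ _ (Fin.succ_ne_zero i)]
    simp [Matrix.one_apply, Fin.succ_inj]

theorem blk_surjective : Function.Surjective blk := by
  intro m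
  let a : Fin 3 → Fin 3 → ZMod 3 := fun i j => (m : Matrix (Fin 3) (Fin 3) (ZMod 3)) i j
  let B : M4 := !![1, 0, 0, 0; 0, a 0 0, a 0 1, a 0 2; 0, a 1 0, a 1 1, a 1 2;
    0, a 2 0, a 2 1, a 2 2]
  have hsub : B.submatrix Fin.succ Fin.succ = (m : Matrix (Fin 3) (Fin 3) (ZMod 3)) := by
    ext i j; fin_cases i <;> fin_cases j <;> rfl
  have hdet : B.det = 1 := by
    rw [Matrix.det_succ_column_zero, Fin.sum_univ_succ]
    have h0 : ∀ i : Fin 3, B i.succ 0 = 0 := fun i => by fin_cases i <;> rfl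
    have h00 : B 0 0 = 1 := rfl
    simp only [h0, mul_zero, zero_mul, Finset.sum_const_zero, add_zero, h00, Fin.succAbove_zero,
      hsub, m.2]
    simp
  exact ⟨⟨⟨B, hdet⟩, fun i => by fin_cases i <;> rfl⟩, Subtype.ext hsub⟩

theorem e1Mat_det : ∀ a b c : ZMod 3,
    Matrix.det (!![1, a, b, c; 0, 1, 0, 0; 0, 0, 1, 0; 0, 0, 0, 1] : M4) = 1 := by decide +kernel

theorem e1Mat_spec (a b c : ZMod 3) :
    Matrix.det (!![1, a, b, c; 0, 1, 0, 0; 0, 0, 1, 0; 0, 0, 0, 1] : M4) = 1 ∧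
    (∀ i j : Fin 4, i ≠ 0 → (!![1, a, b, c; 0, 1, 0, 0; 0, 0, 1, 0; 0, 0, 0, 1] : M4) i j =
      if i = j then 1 else 0) := by
  refine ⟨e1Mat_det a b c, fun i j hi => ?_⟩
  fin_cases i <;> fin_cases j <;> first | (exact absurd rfl hi) | simp

theorem card_E1 : Nat.card E1 = 27 := by
  let f : (Fin 3 → ZMod 3) → E1 := fun v =>
    ⟨⟨!![1, v 0, v 1, v 2; 0, 1, 0, 0; 0, 0, 1, 0; 0, 0, 0, 1], (e1Mat_spec _ _ _).1⟩,
      (e1Mat_spec _ _ _).2, fun i => by
        induction i using Fin.cases with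
        | zero => rfl
        | succ i => exact (e1Mat_spec _ _ _).2 i.succ 0 (Fin.succ_ne_zero i)⟩
  have h0 : ∀ (v : Fin 3 → ZMod 3) (j : Fin 3), ((f v : L4) : M4) 0 j.succ = v j := fun v j => by
    fin_cases j <;> rfl
  have hf : Function.Bijective f := by
    refine ⟨fun v w h => funext fun j => by rw [← h0 v j, h, h0 w j],
      fun g => ⟨fun j => ((g : L4) : M4) 0 j.succ, ?_⟩⟩
    refine Subtype.ext (Subtype.ext (funext fun i => funext fun j => ?_))
    by_cases hi : i = 0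
    · subst hi
      induction j using Fin.cases with
      | zero => exact (g.2.2 0).symm
      | succ j => exact h0 (fun j => ((g : L4) : M4) 0 j.succ) j
    · rw [g.2.1 i j hi]
      exact (e1Mat_spec _ _ _).2 i j hi
  rw [← Nat.card_congr (Equiv.ofBijective f hf), Nat.card_fun, Nat.card_zmod,
    Nat.card_eq_fintype_card, Fintype.card_fin]
  norm_num

theorem pCore_SL3 : Cfsg.pCore 3 S3' = ⊥ := by
  haveI := PSLSimple.isSimpleGroup_PSL_fin (F := ZMod 3) (n := 3) (by norm_num)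
    (by norm_num)
  have hc : Subgroup.center S3' = ⊥ := Subgroup.card_eq_one.1 (by
    rw [PSLCard.card_center_SL, Nat.card_zmod]; norm_num)
  set π := QuotientGroup.mk' (Subgroup.center S3')
  have hn : ((Cfsg.pCore 3 S3').map π).Normal :=
    (inferInstance : (Cfsg.pCore 3 S3').Normal).map π (QuotientGroup.mk'_surjective _)
  have hπ : Function.Injective π :=
    (MonoidHom.ker_eq_bot_iff _).1 (by rw [QuotientGroup.ker_mk', hc])
  rcases IsSimpleGroup.eq_bot_or_eq_top_of_normal _ hn with h | h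
  · exact (Subgroup.map_eq_bot_iff_of_injective _ hπ).1 h
  · exfalso
    have htop : Cfsg.pCore 3 S3' = ⊤ := Subgroup.map_injective hπ (by
      rw [h, Subgroup.map_top_of_surjective π (QuotientGroup.mk'_surjective _)])
    let d : S3' := ⟨!![-1, 0, 0; 0, -1, 0; 0, 0, 1], by decide +kernel⟩
    obtain ⟨k, hk⟩ := ComponentsCores.isPGroup_pCore 3 ⟨d, htop ▸ Subgroup.mem_top d⟩
    have hk' : d ^ 3 ^ k = 1 := congrArg Subtype.val hk
    have hd2 : d ^ 2 = 1 := by decide +kernel
    have hd1 : d ≠ 1 := fun he => absurd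
      (congrArg (fun m : S3' => (m : Matrix (Fin 3) (Fin 3) (ZMod 3)) 0 0) he) (by decide +kernel)
    have h2 : orderOf d = 2 := orderOf_eq_prime hd2 hd1
    have h3 := orderOf_dvd_of_pow_eq_one hk'
    rw [h2] at h3
    have := Nat.prime_two.dvd_of_dvd_pow h3
    omega

theorem pCore_H1 : Cfsg.pCore 3 H1 = E1.subgroupOf H1 := by
  refine le_antisymm ?_ ?_
  · rw [← ker_blk, ← Subgroup.map_eq_bot_iff, ← le_bot_iff, ← pCore_SL3]
    haveI : ((Cfsg.pCore 3 H1).map blk).Normal :=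
      (inferInstance : (Cfsg.pCore 3 H1).Normal).map blk blk_surjective
    exact ComponentsCores.le_pCore' ((ComponentsCores.isPGroup_pCore 3).map blk)
  · haveI : (E1.subgroupOf H1).Normal := ker_blk ▸ MonoidHom.normal_ker blk
    refine ComponentsCores.le_pCore' (IsPGroup.of_card (n := 3) ?_)
    rw [Nat.card_congr (Subgroup.subgroupOfEquivOfLe fun g (hg : g ∈ E1) => hg.2).toEquiv, card_E1]
    norm_num

/-- A maximal parabolic subgroup of `PSL(4,3)` of shape `3^3.SL(3,3)`, isomorphic to `H1`. -/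
theorem exists_parabolic :
    ∃ P : Subgroup (Matrix.ProjectiveSpecialLinearGroup (Fin 4) (ZMod 3)),
      IsCoatom P ∧ Nat.card (Cfsg.pCore 3 P) = 27 ∧
        Nonempty (P ⧸ Cfsg.pCore 3 P ≃* Matrix.SpecialLinearGroup (Fin 3) (ZMod 3)) ∧
        Nonempty (H1 ≃* P) := by
  set π : L4 →* Matrix.ProjectiveSpecialLinearGroup (Fin 4) (ZMod 3) :=
    QuotientGroup.mk' (Subgroup.center L4)
  have hπs : Function.Surjective π := QuotientGroup.mk'_surjective _
  have hker : ∀ g ∈ H1, π g = 1 → g = 1 := fun g hg h => by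
    rcases mem_center.1 ((QuotientGroup.eq_one_iff g).1 h) with e | e
    · exact e
    · exact absurd (e ▸ hg) negOne_notMem_H1
  have hinj : Function.Injective (π.comp H1.subtype) :=
    (injective_iff_map_eq_one _).2 fun g h => Subtype.ext (hker g g.2 h)
  set P := H1.map π
  let e : H1 ≃* P := (MonoidHom.ofInjective hinj).trans
    (MulEquiv.subgroupCongr (by rw [MonoidHom.range_comp, Subgroup.range_subtype]))
  refine ⟨P, ?_, ?_, ?_, ⟨e⟩⟩
  · refine ⟨fun htop => ?_, fun K hK => ?_⟩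
    · have h1 : (π (tv 1 0 (by decide) 1)) ∈ P := htop ▸ Subgroup.mem_top _
      obtain ⟨g, hg, hgπ⟩ := h1
      rcases mem_center.1 ((QuotientGroup.eq.1 hgπ)) with e' | e'
      · rw [inv_mul_eq_one] at e'
        have hn : tv 1 0 (by decide) 1 ∉ H1 := by decide +kernel
        exact hn (e' ▸ hg)
      · rw [inv_mul_eq_iff_eq_mul] at e'
        have : g = tv 1 0 (by decide) 1 * negOne⁻¹ := by rw [e', mul_inv_cancel_right]
        have hn : tv 1 0 (by decide) 1 * negOne⁻¹ ∉ H1 := by decide +kernel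
        exact hn (this ▸ hg)
    · have hle : H1 ≤ K.comap π := fun g hg => hK.le ⟨g, hg, rfl⟩
      obtain ⟨y, hyK, hyP⟩ := SetLike.exists_of_lt hK
      obtain ⟨g, rfl⟩ := hπs y
      suffices h : K.comap π = ⊤ by
        rw [← Subgroup.map_comap_eq_self_of_surjective hπs K, h,
          Subgroup.map_top_of_surjective π hπs]
      by_contra hne
      refine hne (eq_top_of_move hle (Subgroup.mem_comap.2 hyK) ?_)
      by_contra hline
      push Not at hline
      set v := (g : M4) *ᵥ Pi.single 0 1 with hv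
      have hv0 : v = v 0 • Pi.single 0 1 := by
        funext i; fin_cases i <;> simp [hline.1, hline.2.1, hline.2.2]
      have hc : v 0 = 0 ∨ v 0 = 1 ∨ v 0 = -1 := by generalize v 0 = c; revert c; decide +kernel
      rcases hc with hc | hc | hc
      · rw [hc, zero_smul] at hv0
        have := mulVec_inj g ((hv.symm.trans hv0).trans (Matrix.mulVec_zero _).symm)
        simpa using congrFun this 0
      · rw [hc, one_smul] at hv0
        exact hyP ⟨g, mem_H1_iff.2 hv0, rfl⟩
      · rw [hc] at hv0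
        refine hyP ⟨negOne * g, mem_H1_iff.2 ?_, ?_⟩
        · rw [mulVec_coe_mul, ← hv, hv0]
          decide +kernel
        · rw [map_mul, show π negOne = 1 from (QuotientGroup.eq_one_iff _).2
            (mem_center.2 (Or.inr rfl)), one_mul]
  · rw [← ComponentsCores.pCore_map_mulEquiv e 3, ComponentsCores.card_map_mulEquiv, pCore_H1,
      Nat.card_congr (Subgroup.subgroupOfEquivOfLe fun g (hg : g ∈ E1) => hg.2).toEquiv, card_E1]
  · haveI : (E1.subgroupOf H1).Normal := ker_blk ▸ MonoidHom.normal_ker blk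
    exact ⟨((QuotientGroup.congr _ _ e (ComponentsCores.pCore_map_mulEquiv e 3)).symm.trans
      (QuotientGroup.quotientMulEquivOfEq (by rw [pCore_H1, ker_blk]))).trans
        (QuotientGroup.quotientKerEquivOfSurjective blk blk_surjective)⟩

end Cfsg.Agent.L43Three45
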