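import Cfsg.Agent.Lib.L43Parabolic80

/-!
An image of `SL(4,3)` in a group which contains the centralisers of its involutions and of the
central class is everything (S3373).
-/

set_option autoImplicit false
set_option linter.style.haveILetI false

namespace Cfsg.Agent.L43Three45

open Matrix

local notation "M4" => Matrix (Fin 4) (Fin 4) (ZMod 3)
local notation "M2" => Matrix (Fin 2) (Fin 2) (ZMod 3)
local notation "V4" => Fin 4 → ZMod 3

local instance : Fact (Nat.Prime 3) := ⟨by norm_num⟩

/-- From a change of basis in `GL` to one in `SL`. -/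
theorem isConj_of_mul_eq {g m : L4} (P : M4) (hP : P.det = 1)
    (h : (g : M4) * P = P * (m : M4)) : IsConj m g := by
  refine isConj_iff.2 ⟨(⟨P, hP⟩ : L4), mul_inv_eq_iff_eq_mul.2 (Subtype.ext ?_)⟩
  exact h.symm

/-- Elements squaring to `-1` are conjugate to `i4`. -/
theorem isConj_i4 {g : L4} (hg : g * g = negOne) : IsConj i4 g := by
  classical
  set A := (g : M4)
  have hneg : (negOne : M4) = -1 := by decide +kernel
  have hA : ∀ v : V4, A *ᵥ (A *ᵥ v) = -v := fun v => by
    rw [← mulVec_coe_mul, hg, hneg, Matrix.neg_mulVec, Matrix.one_mulVec]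
  have hsq : ∀ c d : ZMod 3, ¬ (c = 0 ∧ d = 0) → c * c + d * d ≠ 0 := by decide +kernel
  -- an invariant line is zero
  have hline : ∀ (v : V4) (c d : ZMod 3), c • v + d • (A *ᵥ v) = 0 → v ≠ 0 → c = 0 ∧ d = 0 := by
    intro v c d he hv
    by_contra hne
    have he' := congrArg (A *ᵥ ·) he
    simp only [Matrix.mulVec_add, Matrix.mulVec_smul, hA, Matrix.mulVec_zero, smul_neg] at he'
    have h3 : (c * c + d * d) • v = 0 := by
      linear_combination (norm := module) c • he - d • he'
    exact hv ((smul_eq_zero.1 h3).resolve_left (hsq c d hne))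
  set v : V4 := Pi.single 0 1
  have hv : v ≠ 0 := fun e => by simpa [v] using congrFun e 0
  obtain ⟨w, hw⟩ : ∃ w : V4, ∀ a b : ZMod 3, w ≠ a • v + b • (A *ᵥ v) := by
    by_contra hcon
    push Not at hcon
    choose a b hab using hcon
    have hle : Fintype.card V4 ≤ Fintype.card (ZMod 3 × ZMod 3) :=
      Fintype.card_le_of_injective (fun w => (a w, b w)) fun w w' h => by
        rw [hab w, hab w', (Prod.mk.inj h).1, (Prod.mk.inj h).2]
    simp [ZMod.card] at hle
  let P : V4 → M4 := fun u => Matrix.of fun i j => ![u i, (A *ᵥ u) i, w i, (A *ᵥ w) i] j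
  have hPdet : ∀ a b : ZMod 3, ¬ (a = 0 ∧ b = 0) → (P (a • v + b • (A *ᵥ v))).det ≠ 0 := by
    intro a b hab hdet
    obtain ⟨t, ht, he⟩ := Matrix.exists_mulVec_eq_zero_iff.2 hdet
    set u := a • v + b • (A *ᵥ v) with hu
    have hu0 : u ≠ 0 := fun e => hab (hline v a b e hv)
    have he' : (t 0 • u + t 1 • (A *ᵥ u)) + (t 2 • w + t 3 • (A *ᵥ w)) = 0 := by
      funext i
      have := congrFun he i
      rw [show (P u *ᵥ t) i = ∑ j, P u i j * t j from rfl, Fin.sum_univ_four] at this
      simp [P] at this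
      simp only [Pi.add_apply, Pi.smul_apply, smul_eq_mul, Pi.zero_apply]
      linear_combination this
    have he'' := congrArg (A *ᵥ ·) he'
    simp only [Matrix.mulVec_add, Matrix.mulVec_smul, hA, Matrix.mulVec_zero, smul_neg] at he''
    by_cases h23 : t 2 = 0 ∧ t 3 = 0
    · simp only [h23.1, h23.2, zero_smul, add_zero] at he'
      obtain ⟨h0, h1⟩ := hline u _ _ he' hu0
      refine ht (funext fun i => ?_)
      fin_cases i
      exacts [h0, h1, h23.1, h23.2]
    · set n := t 2 * t 2 + t 3 * t 3 with hn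
      set x := -(t 2 * t 0 + t 3 * t 1)
      set y := -(t 2 * t 1 - t 3 * t 0)
      have h4 : n • w = x • u + y • (A *ᵥ u) := by
        simp only [hn, x, y]
        linear_combination (norm := module) t 2 • he' - t 3 • he''
      have hn0 : n ≠ 0 := hsq _ _ h23
      have h5 : w = n⁻¹ • (x • u + y • (A *ᵥ u)) := by rw [← h4, inv_smul_smul₀ hn0]
      refine hw (n⁻¹ * (x * a - y * b)) (n⁻¹ * (x * b + y * a)) ?_
      rw [h5, hu, Matrix.mulVec_add, Matrix.mulVec_smul, Matrix.mulVec_smul, hA]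
      module
  have hmul : ∀ u : V4, A * P u = P u * (i4 : M4) := by
    intro u
    ext i j
    have hi4 : (i4 : M4) = !![0, -1, 0, 0; 1, 0, 0, 0; 0, 0, 0, -1; 0, 0, 1, 0] := rfl
    rw [Matrix.mul_apply, Matrix.mul_apply, hi4]
    fin_cases j
    · simp [P, Fin.sum_univ_four, Matrix.mulVec, dotProduct]
    · have := congrFun (hA u) i
      simp [P, Fin.sum_univ_four, Matrix.mulVec, dotProduct] at this ⊢
      linear_combination this
    · simp [P, Fin.sum_univ_four, Matrix.mulVec, dotProduct]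
    · have := congrFun (hA w) i
      simp [P, Fin.sum_univ_four, Matrix.mulVec, dotProduct] at this ⊢
      linear_combination this
  set u₁ := v + A *ᵥ v with hu₁
  have hdet : (P u₁).det = -(P v).det := by
    have e : P u₁ = P v * !![1, -1, 0, 0; 1, 1, 0, 0; 0, 0, 1, 0; 0, 0, 0, 1] := by
      ext i j
      rw [Matrix.mul_apply]
      have h1 : A *ᵥ u₁ = -v + A *ᵥ v := by
        simp only [hu₁, Matrix.mulVec_add, hA]; abel
      fin_cases j <;>
        simp [P, hu₁, Fin.sum_univ_four]
      exact congrFun h1 i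
    rw [e, Matrix.det_mul, show (!![1, -1, 0, 0; 1, 1, 0, 0; 0, 0, 1, 0; 0, 0, 0, 1] : M4).det = -1 by
      decide +kernel, mul_neg_one]
  have h0 : (P v).det ≠ 0 := by simpa using hPdet 1 0 (by decide)
  have hsign : ∀ d : ZMod 3, d ≠ 0 → d = 1 ∨ -d = 1 := by decide +kernel
  rcases hsign _ h0 with hd | hd
  · exact isConj_of_mul_eq (P v) hd (hmul v)
  · exact isConj_of_mul_eq (P u₁) (hdet.trans hd) (hmul u₁)

theorem two_ne : (2 : ZMod 3) ≠ 0 := by decide +kernel

/-- Involutions of `L4` other than `-1` are conjugate to `j4`. -/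
theorem isConj_j4 {g : L4} (hg : g * g = 1) (h1 : g ≠ 1) (h2 : g ≠ negOne) : IsConj j4 g := by
  classical
  set A := (g : M4) with hAdef
  have hA : ∀ v : V4, A *ᵥ (A *ᵥ v) = v := fun v => by
    rw [← mulVec_coe_mul, hg, Matrix.SpecialLinearGroup.coe_one, Matrix.one_mulVec]
  let Ep : Submodule (ZMod 3) V4 := LinearMap.ker (Matrix.mulVecLin (A - 1))
  let Em : Submodule (ZMod 3) V4 := LinearMap.ker (Matrix.mulVecLin (A + 1))
  have hp : ∀ v ∈ Ep, A *ᵥ v = v := fun v hv => by
    simp only [Ep, LinearMap.mem_ker, Matrix.mulVecLin_apply, Matrix.sub_mulVec, Matrix.one_mulVec,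
      sub_eq_zero] at hv
    exact hv
  have hm : ∀ v ∈ Em, A *ᵥ v = -v := fun v hv => by
    simp only [Em, LinearMap.mem_ker, Matrix.mulVecLin_apply, Matrix.add_mulVec, Matrix.one_mulVec]
      at hv
    exact eq_neg_of_add_eq_zero_left hv
  have hC : IsCompl Ep Em := by
    constructor
    · rw [Submodule.disjoint_def]
      intro v h1 h2
      have h3 : (2 : ZMod 3) • v = 0 := by
        linear_combination (norm := module) (hm v h2) - (hp v h1)
      exact (smul_eq_zero.1 h3).resolve_left two_ne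
    · rw [codisjoint_iff, eq_top_iff]
      intro v _
      refine Submodule.mem_sup.2 ⟨(2 : ZMod 3) • (v + A *ᵥ v), ?_, (2 : ZMod 3) • (v - A *ᵥ v), ?_, ?_⟩
      · simp only [Ep, LinearMap.mem_ker, Matrix.mulVecLin_apply, Matrix.sub_mulVec,
          Matrix.one_mulVec, Matrix.mulVec_smul, Matrix.mulVec_add, hA]
        module
      · simp only [Em, LinearMap.mem_ker, Matrix.mulVecLin_apply, Matrix.add_mulVec,
          Matrix.one_mulVec, Matrix.mulVec_smul, Matrix.mulVec_sub, hA]
        module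
      · have h4 : (2 : ZMod 3) * 2 = 1 := by decide +kernel
        calc (2 : ZMod 3) • (v + A *ᵥ v) + (2 : ZMod 3) • (v - A *ᵥ v)
            = ((2 : ZMod 3) * 2) • v := by module
          _ = v := by rw [h4, one_smul]
  set a := Module.finrank (ZMod 3) Ep with ha
  set b := Module.finrank (ZMod 3) Em with hb
  have hab : a + b = 4 := by
    rw [ha, hb, Submodule.finrank_add_eq_of_isCompl hC, Module.finrank_fin_fun]
  let B : Module.Basis (Fin a ⊕ Fin b) (ZMod 3) V4 :=
    ((Module.finBasis (ZMod 3) Ep).prod (Module.finBasis (ZMod 3) Em)).map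
      (Submodule.prodEquivOfIsCompl Ep Em hC)
  let d : Fin a ⊕ Fin b → ZMod 3 := Sum.elim (fun _ => 1) (fun _ => -1)
  have hB : ∀ k, A *ᵥ B k = d k • B k := by
    rintro (i | i)
    · have e : B (Sum.inl i) = ((Module.finBasis (ZMod 3) Ep i : Ep) : V4) := by simp [B]
      rw [e, hp _ (Subtype.coe_prop _)]
      simp [d]
    · have e : B (Sum.inr i) = ((Module.finBasis (ZMod 3) Em i : Em) : V4) := by simp [B]
      rw [e, hm _ (Subtype.coe_prop _)]
      simp [d]
  let Q : (Fin a ⊕ Fin b ≃ Fin 4) → M4 := fun σ => Matrix.of fun i k => B (σ.symm k) i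
  have hQ : ∀ σ, A * Q σ = Q σ * Matrix.diagonal (fun k => d (σ.symm k)) := by
    intro σ
    ext i k
    rw [Matrix.mul_diagonal]
    have := congrFun (hB (σ.symm k)) i
    simp only [Pi.smul_apply, smul_eq_mul] at this
    simp only [Q, Matrix.of_apply]
    rw [mul_comm, ← this]
    rfl
  have hQdet : ∀ σ, (Q σ).det ≠ 0 := by
    intro σ h
    obtain ⟨t, ht, he⟩ := Matrix.exists_mulVec_eq_zero_iff.2 h
    refine ht (funext ((Fintype.linearIndependent_iff.1
      ((B.reindex σ).linearIndependent)) t ?_))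
    funext i
    have := congrFun he i
    simp only [Matrix.mulVec, dotProduct, Q, Matrix.of_apply, Pi.zero_apply] at this
    simp only [Module.Basis.reindex_apply, Finset.sum_apply, Pi.smul_apply, smul_eq_mul,
      Pi.zero_apply]
    rw [← this]
    exact Finset.sum_congr rfl fun k _ => mul_comm _ _
  have hprod : ∀ σ : Fin a ⊕ Fin b ≃ Fin 4, ∏ k, d (σ.symm k) = 1 := by
    intro σ
    have h := congrArg Matrix.det (hQ σ)
    rw [Matrix.det_mul, Matrix.det_mul, Matrix.det_diagonal, g.2, one_mul] at h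
    exact mul_left_cancel₀ (hQdet σ) (h.symm.trans (mul_one _).symm)
  have hb2 : (-1 : ZMod 3) ^ b = 1 := by
    have := hprod (finSumFinEquiv.trans (finCongr hab))
    rw [Equiv.prod_comp _ d, Fintype.prod_sum_type] at this
    simpa [d] using this
  have hscalar : ∀ c : ZMod 3, (∀ k, d k = c) → A = c • 1 := by
    intro c hc
    refine Matrix.ext_of_mulVec_single fun j => ?_
    have hl : Matrix.mulVecLin A = Matrix.mulVecLin (c • 1) := B.ext fun k => by
      rw [Matrix.mulVecLin_apply, Matrix.mulVecLin_apply, hB, hc, Matrix.smul_mulVec,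
        Matrix.one_mulVec]
    exact LinearMap.congr_fun hl _
  obtain ⟨ha2, hb2'⟩ : a = 2 ∧ b = 2 := by
    have hb4 : b ≤ 4 := by omega
    rcases (show b = 0 ∨ b = 1 ∨ b = 2 ∨ b = 3 ∨ b = 4 by omega) with hv | hv | hv | hv | hv
    · refine absurd ?_ h1
      haveI : IsEmpty (Fin b) := by rw [hv]; infer_instance
      refine Subtype.ext ((hscalar 1 ?_).trans (by simp))
      rintro (i | i)
      exacts [rfl, isEmptyElim i]
    · exact absurd (hv ▸ hb2) (by decide +kernel)
    · exact ⟨by omega, hv⟩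
    · exact absurd (hv ▸ hb2) (by decide +kernel)
    · refine absurd ?_ h2
      haveI : IsEmpty (Fin a) := by rw [show a = 0 by omega]; infer_instance
      refine Subtype.ext ((hscalar (-1) ?_).trans (by decide +kernel))
      rintro (i | i)
      exacts [isEmptyElim i, rfl]
  let σ₀ : Fin 2 ⊕ Fin 2 ≃ Fin 4 :=
    ⟨Sum.elim ![0, 3] ![1, 2], ![Sum.inl 0, Sum.inr 0, Sum.inr 1, Sum.inl 1],
      by decide, by decide⟩
  let σ : Fin a ⊕ Fin b ≃ Fin 4 := (Equiv.sumCongr (finCongr ha2) (finCongr hb2')).trans σ₀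
  have hD : Matrix.diagonal (fun k => d (σ.symm k)) = (j4 : M4) := by
    show _ = Matrix.diagonal _
    congr 1
    funext k
    fin_cases k <;> rfl
  have hσ := hQ σ
  rw [hD] at hσ
  have hsign : ∀ d : ZMod 3, d ≠ 0 → d = 1 ∨ -d = 1 := by decide +kernel
  rcases hsign _ (hQdet σ) with hd | hd
  · exact isConj_of_mul_eq _ hd hσ
  · refine isConj_of_mul_eq (Q σ * Matrix.diagonal ![-1, 1, 1, 1]) ?_ ?_
    · rw [Matrix.det_mul, show (Matrix.diagonal ![-1, 1, 1, 1] : M4).det = -1 by decide +kernel,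
        mul_neg_one, hd]
    · rw [← mul_assoc, hσ, mul_assoc, mul_assoc]
      congr 1
      show Matrix.diagonal _ * Matrix.diagonal _ = Matrix.diagonal _ * Matrix.diagonal _
      rw [Matrix.diagonal_mul_diagonal, Matrix.diagonal_mul_diagonal]
      congr 1
      funext k
      exact mul_comm _ _

/-- The two blocks fixed by the centraliser of `j4`. -/
def blockOuter (A : M4) : M2 := !![A 0 0, A 0 3; A 3 0, A 3 3]

/-- See `blockOuter`. -/
def blockInner (A : M4) : M2 := !![A 1 1, A 1 2; A 2 1, A 2 2]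

theorem m2_pow_five : ∀ a b c d : ZMod 3,
    (!![a, b; c, d] : M2) ^ 5 = 1 → a = 1 ∧ b = 0 ∧ c = 0 ∧ d = 1 := by decide +kernel

theorem eq_one_of_commute_j4 {g : L4} (hg : g * j4 = j4 * g) (h5 : g ^ 5 = 1) : g = 1 := by
  set A := (g : M4)
  have hz : ∀ i k : Fin 4, ((i = 1 ∨ i = 2) ↔ ¬ (k = 1 ∨ k = 2)) → A i k = 0 := by
    intro i k hik
    have h' : A * (j4 : M4) = (j4 : M4) * A := congrArg Subtype.val hg
    rw [show (j4 : M4) = Matrix.diagonal (fun t : Fin 4 => if t = 1 ∨ t = 2 then (-1 : ZMod 3) else 1)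
      from rfl] at h'
    have := congrFun (congrFun h' i) k
    rw [Matrix.mul_diagonal, Matrix.diagonal_mul] at this
    have key : ∀ x : ZMod 3, x * -1 = 1 * x ∨ x * 1 = -1 * x → x = 0 := by decide +kernel
    refine key _ ?_
    by_cases hi : i = 1 ∨ i = 2
    · rw [if_pos hi, if_neg (hik.1 hi)] at this; exact Or.inr this
    · rw [if_neg hi, if_pos (by tauto)] at this; exact Or.inl this
  have hmul : ∀ n : ℕ, blockOuter ((g ^ n : L4) : M4) = blockOuter A ^ n ∧
      blockInner ((g ^ n : L4) : M4) = blockInner A ^ n := by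
    intro n
    induction n with
    | zero => constructor <;> ext i k <;> fin_cases i <;> fin_cases k <;>
        simp [blockOuter, blockInner]
    | succ n ih =>
      rw [pow_succ, pow_succ, pow_succ, ← ih.1, ← ih.2, Matrix.SpecialLinearGroup.coe_mul]
      constructor <;> ext i k <;> fin_cases i <;> fin_cases k <;>
        simp [blockOuter, blockInner, Matrix.mul_apply, Fin.sum_univ_four, A, hz]
  obtain ⟨ho, hi⟩ := hmul 5
  rw [h5] at ho hi
  have e1 : blockOuter ((1 : L4) : M4) = 1 := by decide +kernel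
  have e2 : blockInner ((1 : L4) : M4) = 1 := by decide +kernel
  obtain ⟨a1, a2, a3, a4⟩ := m2_pow_five _ _ _ _ (ho.symm.trans e1)
  obtain ⟨b1, b2, b3, b4⟩ := m2_pow_five _ _ _ _ (hi.symm.trans e2)
  refine Subtype.ext ?_
  rw [Matrix.SpecialLinearGroup.coe_one]
  ext i k
  fin_cases i <;> fin_cases k <;>
    first
      | exact a1 | exact a2 | exact a3 | exact a4 | exact b1 | exact b2 | exact b3 | exact b4
      | exact hz _ _ (by decide)

/-- An element of order five commuting with `i4`. -/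
def u5 : L4 := ⟨!![0, 0, -1, 0; 0, 0, 0, -1; 1, 0, 1, 1; 0, 1, -1, 1], by decide +kernel⟩

theorem surjective_of_cent {G : Type*} [Group G] [Finite G] {f : L4 →* G} (hf : Full f)
    (_hx : ∀ g, (g = xP ∨ g = xM) → Subgroup.centralizer ({f g} : Set G) ≤ f.range)
    (hj : Subgroup.centralizer ({f j4} : Set G) ≤ f.range)
    (hi : Subgroup.centralizer ({f i4} : Set G) ≤ f.range) : Function.Surjective f := by
  classical
  set R := f.range with hR
  have hcen : ∀ {a k : G}, k * a = a * k → k ∈ Subgroup.centralizer ({a} : Set G) := fun e =>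
    Subgroup.mem_centralizer_singleton_iff.2 e
  have hneg : f negOne = 1 := (hf.ker _).2 (Or.inr rfl)
  have hii : f i4 * f i4 = 1 := by
    rw [← map_mul, show i4 * i4 = negOne by decide +kernel, hneg]
  have hjj : f j4 * f j4 = 1 := by
    rw [← map_mul, show j4 * j4 = (1 : L4) by decide +kernel, map_one]
  have hj1 : f j4 ≠ 1 := fun e => by
    have h1 : ¬ (j4 = 1 ∨ j4 = negOne) := by decide +kernel
    exact h1 ((hf.ker _).1 e)
  have hi1 : f i4 ≠ 1 := fun e => by
    have h1 : ¬ (i4 = 1 ∨ i4 = negOne) := by decide +kernel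
    exact h1 ((hf.ker _).1 e)
  -- centralisers of the involutions of the image
  have hinv : ∀ w : L4, f w * f w = 1 → f w ≠ 1 →
      Subgroup.centralizer ({f w} : Set G) ≤ R := by
    intro w hw hw1
    rw [← map_mul, hf.ker] at hw
    have hconj : ∀ m : L4, Subgroup.centralizer ({f m} : Set G) ≤ R → IsConj m w →
        Subgroup.centralizer ({f w} : Set G) ≤ R := by
      intro m hm hc k hk
      obtain ⟨q, rfl⟩ := isConj_iff.1 hc
      rw [Subgroup.mem_centralizer_singleton_iff, map_mul, map_mul, map_inv] at hk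
      have h1 : (f q)⁻¹ * k * f q ∈ R := hm (hcen (by
        calc (f q)⁻¹ * k * f q * f m = (f q)⁻¹ * (k * (f q * f m * (f q)⁻¹)) * f q := by group
          _ = (f q)⁻¹ * ((f q * f m * (f q)⁻¹) * k) * f q := by rw [hk]
          _ = f m * ((f q)⁻¹ * k * f q) := by group))
      have h2 := R.mul_mem (R.mul_mem (show f q ∈ R from ⟨q, rfl⟩) h1)
        (R.inv_mem (show f q ∈ R from ⟨q, rfl⟩))
      rwa [show f q * ((f q)⁻¹ * k * f q) * (f q)⁻¹ = k by group] at h2
    rcases hw with hw | hw
    · exact hconj j4 hj (isConj_j4 hw (fun e => hw1 (by rw [e, map_one]))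
        (fun e => hw1 (by rw [e, hneg])))
    · exact hconj i4 hi (isConj_i4 hw)
  -- the two classes are not fused
  have hnf : ∀ g : G, g * f i4 * g⁻¹ ≠ f j4 := by
    intro g hg
    set k := g * f u5 * g⁻¹
    have hu5 : f u5 * f i4 = f i4 * f u5 := by
      rw [← map_mul, ← map_mul, show u5 * i4 = i4 * u5 by decide +kernel]
    have hk : k * f j4 = f j4 * k := by
      rw [← hg]
      calc g * f u5 * g⁻¹ * (g * f i4 * g⁻¹) = g * (f u5 * f i4) * g⁻¹ := by group
        _ = g * (f i4 * f u5) * g⁻¹ := by rw [hu5]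
        _ = g * f i4 * g⁻¹ * (g * f u5 * g⁻¹) := by group
    obtain ⟨w, hw⟩ := hj (hcen hk)
    have hk5 : k ^ 5 = 1 := by
      simp only [k]
      rw [conj_pow, ← map_pow, show f (u5 ^ 5) = 1 from (hf.ker _).2 (by decide +kernel),
        mul_one, mul_inv_cancel]
    have hw5 : w ^ 5 = 1 ∨ w ^ 5 = negOne := (hf.ker _).1 (by rw [map_pow, hw, hk5])
    have hw10 : w ^ 10 = 1 := by
      rw [show w ^ 10 = w ^ 5 * w ^ 5 by rw [← pow_add]]
      rcases hw5 with e | e <;> rw [e]
      · exact one_mul 1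
      · decide +kernel
    have hcomm : w * j4 * w⁻¹ * j4⁻¹ = 1 ∨ w * j4 * w⁻¹ * j4⁻¹ = negOne :=
      (hf.ker _).1 (by rw [map_mul, map_mul, map_mul, map_inv, map_inv, hw, hk]; group)
    have hcomm2 : w ^ 2 * j4 = j4 * w ^ 2 := by
      rcases hcomm with e | e
      · rw [mul_inv_eq_one, mul_inv_eq_iff_eq_mul] at e
        exact (Commute.pow_left (e : Commute w j4) 2).eq
      · rw [mul_inv_eq_iff_eq_mul, mul_inv_eq_iff_eq_mul] at e
        have hn : negOne ∈ Subgroup.center L4 := mem_center.2 (Or.inr rfl)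
        have hc := Subgroup.mem_center_iff.1 hn
        calc w ^ 2 * j4 = w * (negOne * j4 * w) := by rw [sq, mul_assoc, e]
          _ = negOne * (w * j4) * w := by rw [← mul_assoc, ← mul_assoc, hc w]; group
          _ = negOne * negOne * j4 * (w * w) := by rw [e]; group
          _ = j4 * w ^ 2 := by
            rw [show negOne * negOne = (1 : L4) by decide +kernel, one_mul, sq]
    have hv : w ^ 2 = 1 := eq_one_of_commute_j4 hcomm2 (by rw [← pow_mul]; exact hw10)
    have hk2 : k ^ 2 = 1 := by rw [← hw, ← map_pow, hv, map_one]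
    have hk1 : k = 1 := by
      calc k = k ^ 5 * ((k ^ 2) ^ 2)⁻¹ := by group
        _ = 1 := by rw [hk5, hk2]; simp
    have h1 : ¬ (u5 = 1 ∨ u5 = negOne) := by decide +kernel
    refine h1 ((hf.ker _).1 ?_)
    rw [show f u5 = g⁻¹ * k * g by simp only [k]; group, hk1]
    group
  -- conjugates of `f i4` stay inside
  have hclass : ∀ g : G, g * f i4 * g⁻¹ ∈ R := by
    intro g
    set a := f j4 with ha
    set k := g * f i4 * g⁻¹ with hk
    have hkk : k * k = 1 := by
      rw [hk, show g * f i4 * g⁻¹ * (g * f i4 * g⁻¹) = g * (f i4 * f i4) * g⁻¹ by group, hii]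
      group
    have ha' : a⁻¹ = a := inv_eq_of_mul_eq_one_right hjj
    have hk' : k⁻¹ = k := inv_eq_of_mul_eq_one_right hkk
    clear_value k a
    set x := a * k with hxdef
    have hax : a * x * a⁻¹ = x⁻¹ := by
      rw [hxdef, _root_.mul_inv_rev, hk', ha', ← mul_assoc, hjj, one_mul]
    have hkx : k * x * k⁻¹ = x⁻¹ := by
      rw [hxdef, _root_.mul_inv_rev, hk', ha', mul_assoc k, mul_assoc a, hkk, mul_one]
    have hpow : ∀ n : ℕ, a * x ^ n * a⁻¹ = (x ^ n)⁻¹ ∧ k * x ^ n * k⁻¹ = (x ^ n)⁻¹ := fun n =>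
      ⟨by rw [← conj_pow, hax, inv_pow], by rw [← conj_pow, hkx, inv_pow]⟩
    have hev : Even (orderOf x) := by
      rcases Nat.even_or_odd (orderOf x) with h | ⟨m, hm⟩
      · exact h
      exfalso
      have h1 : x ^ m * a * (x ^ m)⁻¹ = k := by
        have e := (hpow m).1
        have e' : a * (x ^ m)⁻¹ = x ^ m * a := by
          rw [← e]; simp only [ha']; rw [← mul_assoc, ← mul_assoc, hjj, one_mul]
        calc x ^ m * a * (x ^ m)⁻¹ = x ^ m * (a * (x ^ m)⁻¹) := by group
          _ = x ^ m * x ^ m * a := by rw [e', mul_assoc]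
          _ = x ^ (2 * m + 1) * (x⁻¹ * a) := by
            rw [← pow_add, ← two_mul, pow_succ]; group
          _ = k := by
            rw [← hm, pow_orderOf_eq_one, one_mul, hxdef, _root_.mul_inv_rev, hk', ha', mul_assoc, hjj,
              mul_one]
      refine hnf ((x ^ m)⁻¹ * g) ?_
      calc (x ^ m)⁻¹ * g * f i4 * ((x ^ m)⁻¹ * g)⁻¹ = (x ^ m)⁻¹ * k * x ^ m := by
            rw [hk]; group
        _ = a := by rw [← h1]; group
    obtain ⟨m, hm⟩ := hev
    have hx0 : 0 < orderOf x := orderOf_pos x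
    set c := x ^ m
    have hc1 : c ≠ 1 := pow_ne_one_of_lt_orderOf (by omega) (by omega)
    have hcc : c * c = 1 := by rw [← pow_add, ← hm, pow_orderOf_eq_one]
    have hc' : c⁻¹ = c := inv_eq_of_mul_eq_one_right hcc
    obtain ⟨w, hw⟩ : c ∈ R := hj (hcen (by
      have := (hpow m).1
      rw [hc'] at this
      exact (mul_inv_eq_iff_eq_mul.1 this).symm))
    have h2 := hinv w (by rw [hw, hcc]) (by rw [hw]; exact hc1)
    rw [hw] at h2
    refine h2 (hcen ?_)
    have := (hpow m).2
    rw [hc'] at this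
    exact mul_inv_eq_iff_eq_mul.1 this
  -- the image is normal
  set N := Subgroup.normalClosure ({f i4} : Set G) with hN
  have hNR : N ≤ R := by
    rw [hN, Subgroup.normalClosure, Subgroup.closure_le]
    intro y hy
    rw [Group.mem_conjugatesOfSet_iff] at hy
    obtain ⟨b, rfl, hc⟩ := hy
    obtain ⟨g, rfl⟩ := isConj_iff.1 hc
    exact hclass g
  have hRN : R ≤ N := by
    haveI := PSLSimple.isSimpleGroup_PSL_fin (F := ZMod 3) (n := 4) (by norm_num) (by norm_num)
    haveI : N.Normal := Subgroup.normalClosure_normal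
    haveI : (N.comap f).Normal := Subgroup.Normal.comap inferInstance f
    set π : L4 →* Matrix.ProjectiveSpecialLinearGroup (Fin 4) (ZMod 3) :=
      QuotientGroup.mk' (Subgroup.center L4)
    have hZ : Subgroup.center L4 ≤ N.comap f := fun z hz => by
      rw [Subgroup.mem_comap, (hf.ker z).2 (mem_center.1 hz)]
      exact one_mem _
    have hn : ((N.comap f).map π).Normal :=
      (inferInstance : (N.comap f).Normal).map π (QuotientGroup.mk'_surjective _)
    rcases IsSimpleGroup.eq_bot_or_eq_top_of_normal _ hn with h | h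
    · exfalso
      have h1 : i4 ∈ π.ker := (Subgroup.map_eq_bot_iff _).1 h
        (Subgroup.mem_comap.2 (Subgroup.subset_normalClosure rfl))
      rw [QuotientGroup.ker_mk'] at h1
      exact hi1 ((hf.ker _).2 (mem_center.1 h1))
    · have h1 : N.comap f = ⊤ := by
        have := congrArg (Subgroup.comap π) h
        rwa [Subgroup.comap_map_eq_self (by rwa [QuotientGroup.ker_mk']), Subgroup.comap_top]
          at this
      rintro _ ⟨q, rfl⟩
      exact Subgroup.mem_comap.1 (h1 ▸ Subgroup.mem_top q)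
  have hnorm : R.Normal := by
    rw [le_antisymm hRN hNR]
    exact Subgroup.normalClosure_normal
  intro g
  obtain ⟨w, hw⟩ : g * f z4 * g⁻¹ ∈ R := hnorm.conj_mem _ ⟨z4, rfl⟩ g
  obtain ⟨q, hq⟩ := hf.zclass w (isConj_iff.2 ⟨g, hw.symm⟩)
  rw [hw, map_mul, map_mul, map_inv] at hq
  obtain ⟨r, hr⟩ := hf.cent (hcen (k := (f q)⁻¹ * g) (by
    calc (f q)⁻¹ * g * f z4 = (f q)⁻¹ * (g * f z4 * g⁻¹) * g := by group
      _ = (f q)⁻¹ * (f q * f z4 * (f q)⁻¹) * g := by rw [hq]
      _ = f z4 * ((f q)⁻¹ * g) := by group))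
  exact ⟨q * r, by rw [map_mul, hr, mul_inv_cancel_left]⟩

end Cfsg.Agent.L43Three45
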