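import Cfsg.Agent.Lib.L43Frame45
import Cfsg.Agent.Lib.L43Amalgam68
import Cfsg.Agent.Lib.L43CentJ49
import Cfsg.Agent.Lib.L43CentI62
import Cfsg.Agent.Lib.L43Top80
import Cfsg.Agent.Lib.L43Parabolic80

/-!
Assembly of the recognition of `PSL(4,3)` from the two parabolics.
-/

set_option autoImplicit false

namespace Cfsg.Agent.L43Three45

/-- The conclusion of the recognition, given the steps on the parabolics. -/
theorem recog_of_steps {G : Type*} [Group G] [Finite G] {φ : H1 →* G} (h : One φ)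
    (hiso : Isolated φ → φ.range = ⊤)
    (htwo : ¬ Isolated φ → ∃ φ' : H2 →* G, Two φ φ')
    (hrank : ∀ f : L4 →* G, Full f →
      ∀ g, (g = xP ∨ g = xM) → Subgroup.centralizer ({f g} : Set G) ≤ f.range) :
    Nonempty (G ≃* Matrix.ProjectiveSpecialLinearGroup (Fin 4) (ZMod 3)) ∨
    ∃ (P : Subgroup (Matrix.ProjectiveSpecialLinearGroup (Fin 4) (ZMod 3))),
      IsCoatom P ∧ Nat.card (Cfsg.pCore 3 P) = 27 ∧
      Nonempty (P ⧸ Cfsg.pCore 3 P ≃* Matrix.SpecialLinearGroup (Fin 3) (ZMod 3)) ∧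
      Nonempty (G ≃* P) := by
  by_cases hi : Isolated φ
  · right
    obtain ⟨P, hP, hc, hq, ⟨e⟩⟩ := exists_parabolic
    have hs : Function.Surjective φ := MonoidHom.range_eq_top.1 (hiso hi)
    exact ⟨P, hP, hc, hq, ⟨(MulEquiv.ofBijective φ ⟨h.inj, hs⟩).symm.trans e⟩⟩
  · left
    obtain ⟨φ', h'⟩ := htwo hi
    obtain ⟨f, hf⟩ := exists_full h'
    have hx := hrank f hf
    have hj := L43CentJ49.cent_j4 hf hx
    have hs := surjective_of_cent hf hx hj (cent_i4 hf hx hj)
    have hk : f.ker = Subgroup.center L4 := by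
      ext g
      rw [MonoidHom.mem_ker, hf.ker g, mem_center]
    exact ⟨((QuotientGroup.quotientMulEquivOfEq hk.symm).trans
      (QuotientGroup.quotientKerEquivOfSurjective f hs)).symm⟩

end Cfsg.Agent.L43Three45
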