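import Cfsg.Agent.Lib.L43CentIModel62
import Cfsg.Agent.Lib.SelfCentNineReduce64

/-!
The centraliser of the element of order four above `i4` lies in the image of `SL(4,3)`.
-/

set_option autoImplicit false

namespace Cfsg.Agent.L43CentIBasic62

open Cfsg.Agent.L43Three45 Cfsg.Agent.L43CentIModel62

variable {G : Type*} [Group G] {f : L4 →* G}

theorem negOne_val : (negOne : Matrix (Fin 4) (Fin 4) (ZMod 3)) = -1 := by decide +kernel

theorem negOne_comm (g : L4) : negOne * g = g * negOne := by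
  apply Subtype.ext
  rw [Matrix.SpecialLinearGroup.coe_mul, Matrix.SpecialLinearGroup.coe_mul, negOne_val, neg_one_mul, mul_neg_one]

theorem negOne_sq : negOne * negOne = 1 := by decide +kernel

theorem negOne_ne : negOne ≠ 1 := by decide +kernel

theorem neg_cancel (g : L4) : g * negOne * negOne = g := by rw [mul_assoc, negOne_sq, mul_one]

theorem f_negOne (hf : Full f) : f negOne = 1 := (hf.ker _).2 (Or.inr rfl)

theorem eq_or (hf : Full f) {a b : L4} (h : f a = f b) : a = b ∨ a = b * negOne := by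
  have h1 : f (b⁻¹ * a) = 1 :=
    (f.map_mul b⁻¹ a).trans (by rw [MonoidHom.map_inv f b, h]; exact inv_mul_cancel (f b))
  have hab : b * (b⁻¹ * a) = a := mul_inv_cancel_left b a
  rcases (hf.ker (b⁻¹ * a)).1 h1 with e | e
  · left
    rw [e, mul_one] at hab
    exact hab.symm
  · right
    rw [e] at hab
    exact hab.symm

theorem cube_neg {b : L4} (hb : b * b * b = 1) : b * negOne * (b * negOne) * (b * negOne) = negOne := by
  have e : b * negOne * (b * negOne) = b * b := by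
    rw [mul_assoc, ← mul_assoc negOne, negOne_comm, mul_assoc b negOne, negOne_sq, mul_one]
  rw [e, ← mul_assoc, hb, one_mul]

theorem eq_of_cube (hf : Full f) {a b : L4} (ha : a * a * a = 1) (hb : b * b * b = 1) (h : f a = f b) : a = b := by
  rcases eq_or hf h with e | e
  · exact e
  · rw [e, cube_neg hb] at ha
    exact absurd ha negOne_ne

theorem tri9 : ∀ X : F9, X + X + X = 0 := by decide +kernel

theorem one_ne : ((1, 0) : F9) ≠ 0 := by decide +kernel

/-- The element of order four. -/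
def uu (f : L4 →* G) : G := f w4

/-- Root elements in `G`. -/
def pv (f : L4 →* G) (X : F9) : G := f (p4 X)

theorem pv_add (X Y : F9) : pv f X * pv f Y = pv f (X + Y) := by rw [pv, pv, ← map_mul, p4_add]; rfl

theorem pv_zero : pv f 0 = 1 := by rw [pv, p4_zero, map_one]

theorem pv_cube (X : F9) : pv f X * pv f X * pv f X = 1 := by
  rw [pv, ← map_mul, ← map_mul, p4_cube, map_one]

theorem pv_inv (X : F9) : (pv f X)⁻¹ = pv f (-X) :=
  inv_eq_of_mul_eq_one_right (by rw [pv_add, add_neg_cancel, pv_zero])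

theorem pv_inj (hf : Full f) {X Y : F9} (h : pv f X = pv f Y) : X = Y :=
  p4_inj (eq_of_cube hf (p4_cube X) (p4_cube Y) h)

theorem u_sq (hf : Full f) : uu f * uu f = f i4 := by
  rw [uu, ← map_mul, w4_sq, map_mul, f_negOne hf, mul_one]

theorem u_four (hf : Full f) : uu f ^ 4 = 1 := by
  simp only [uu, pow_succ, pow_zero, one_mul]
  rw [← map_mul, ← map_mul, ← map_mul, w4_four, f_negOne hf]

theorem pow_eq_one_of_cube (hf : Full f) (k : ℕ) (h : (uu f ^ k) ^ 3 = 1) : uu f ^ k = 1 := by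
  have h4 : (uu f ^ k) ^ 4 = 1 := by rw [← pow_mul, mul_comm, pow_mul, u_four hf, one_pow]
  rwa [pow_succ, h, one_mul] at h4

theorem lift_i (hf : Full f) {g : L4} (h : f g * f i4 = f i4 * f g) :
    g * i4 = i4 * g ∨ g * i4 = i4 * g * negOne := by
  rw [← map_mul, ← map_mul] at h
  exact eq_or hf h

theorem lift_u (hf : Full f) {g : L4} (h : f g * uu f = uu f * f g) : g * i4 = i4 * g := by
  rw [uu, ← map_mul, ← map_mul] at h
  have h2 : g * (w4 * w4) = w4 * w4 * g := by
    rcases eq_or hf h with e | e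
    · rw [← mul_assoc, e, mul_assoc, e, mul_assoc]
    · calc g * (w4 * w4) = g * w4 * w4 := (mul_assoc _ _ _).symm
        _ = w4 * g * negOne * w4 := by rw [e]
        _ = w4 * (g * w4) * negOne := by rw [mul_assoc (w4 * g), negOne_comm]; group
        _ = w4 * w4 * g * negOne * negOne := by rw [e]; group
        _ = w4 * w4 * g := neg_cancel _
  rw [w4_sq, ← mul_assoc, mul_assoc i4, negOne_comm, ← mul_assoc] at h2
  exact mul_right_cancel h2

theorem comm_u {g : L4} (h : g * i4 = i4 * g) : f g * uu f = uu f * f g := by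
  rw [uu, ← map_mul, w4_comm h, map_mul]

theorem u_pow_pv (hf : Full f) (k : ℕ) (Y : F9) : f (w4 ^ k * p4 Y) = uu f ^ k * pv f Y := by
  rw [map_mul, map_pow]; rfl

variable (hf : Full f)
  (hx : ∀ g, (g = xP ∨ g = xM) → Subgroup.centralizer ({f g} : Set G) ≤ f.range)

include hf hx

theorem cent_range {X : F9} (hX : X ≠ 0) {y : G} (hy : y * pv f X = pv f X * y) : y ∈ f.range := by
  obtain ⟨c, hc, -, -⟩ := p4_z4 X hX
  have key : ∀ x : L4, (x = xP ∨ x = xM) → c * x * c⁻¹ = p4 X → y ∈ f.range := by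
    intro x hx' e
    have hm : (f c)⁻¹ * y * f c ∈ f.range := hx x hx' (Subgroup.mem_centralizer_singleton_iff.2 (by
      rw [pv, ← e, map_mul, map_mul, map_inv] at hy
      calc (f c)⁻¹ * y * f c * f x = (f c)⁻¹ * (y * (f c * f x * (f c)⁻¹)) * f c := by group
        _ = f x * ((f c)⁻¹ * y * f c) := by rw [hy]; group))
    have := f.range.mul_mem (f.range.mul_mem ⟨c, rfl⟩ hm) (f.range.inv_mem ⟨c, rfl⟩)
    simpa [mul_assoc] using this
  rcases hc with e | e
  · exact key xP (Or.inl rfl) e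
  · exact key xM (Or.inr rfl) e

/-- Fusion of root elements happens in the image. -/
theorem fusion {X Y : F9} (hX : X ≠ 0) (hY : Y ≠ 0) {g : G} (h : g * pv f X * g⁻¹ = pv f Y) : g ∈ f.range := by
  obtain ⟨c, hc, hzP, hzM⟩ := p4_z4 X hX
  have hz : (c * z4 * c⁻¹) * p4 X = p4 X * (c * z4 * c⁻¹) := by
    rcases hc with e | e <;> rw [← e]
    · calc c * z4 * c⁻¹ * (c * xP * c⁻¹) = c * (z4 * xP) * c⁻¹ := by group
        _ = _ := by rw [← hzP]; group
    · calc c * z4 * c⁻¹ * (c * xM * c⁻¹) = c * (z4 * xM) * c⁻¹ := by group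
        _ = _ := by rw [← hzM]; group
  set a := g * f c with ha
  have hmem : a * f z4 * a⁻¹ ∈ f.range := cent_range hf hx hY (by
    have e : f c * f z4 * (f c)⁻¹ * pv f X = pv f X * (f c * f z4 * (f c)⁻¹) := by
      rw [pv, ← map_inv, ← map_mul, ← map_mul, ← map_mul, hz, map_mul]
    rw [← h, ha]
    calc g * f c * f z4 * (g * f c)⁻¹ * (g * pv f X * g⁻¹)
        = g * (f c * f z4 * (f c)⁻¹ * pv f X) * g⁻¹ := by group
      _ = _ := by rw [e]; group)
  obtain ⟨g', hg'⟩ := hmem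
  obtain ⟨h', hh'⟩ := hf.zclass g' (isConj_iff.2 ⟨a, hg'.symm⟩)
  rw [hh', map_mul, map_mul, map_inv] at hg'
  have hm : (f h')⁻¹ * a ∈ f.range := hf.cent (Subgroup.mem_centralizer_singleton_iff.2 (by
    calc (f h')⁻¹ * a * f z4 = (f h')⁻¹ * (a * f z4 * a⁻¹) * a := by group
      _ = f z4 * ((f h')⁻¹ * a) := by rw [← hg']; group))
  have := f.range.mul_mem (f.range.mul_mem ⟨h', rfl⟩ hm) (f.range.inv_mem ⟨c, rfl⟩)
  simpa [ha, mul_assoc] using this

theorem cent_u {y : G} (hy : y * uu f = uu f * y) {X : F9} (hX : X ≠ 0) (hv : y * pv f X = pv f X * y) :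
    ∃ (k : ℕ) (Y : F9), y = uu f ^ k * pv f Y := by
  obtain ⟨g, rfl⟩ := cent_range hf hx hX hv
  have hg := lift_u hf hy
  have e : g * p4 X * g⁻¹ = p4 X := eq_of_cube hf
    (by calc _ = g * (p4 X * p4 X * p4 X) * g⁻¹ := by group
          _ = 1 := by rw [p4_cube, mul_one, mul_inv_cancel]) (p4_cube X) (by
      rw [map_mul, map_mul, map_inv]
      show f g * pv f X * (f g)⁻¹ = pv f X
      rw [hv, mul_inv_cancel_right])
  obtain ⟨k, Y, rfl⟩ := cent_p4 hg hX (mul_inv_eq_iff_eq_mul.1 e)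
  exact ⟨k, Y, u_pow_pv hf k Y⟩

theorem cent_sq {y : G} (hy : y * f i4 = f i4 * y) {X : F9} (hX : X ≠ 0) (hv : y * pv f X = pv f X * y) :
    ∃ (k : ℕ) (Y : F9), y * y = uu f ^ k * pv f Y := by
  obtain ⟨g, rfl⟩ := cent_range hf hx hX hv
  refine cent_u hf hx ?_ hX (by rw [mul_assoc, hv, ← mul_assoc, hv, mul_assoc])
  rw [← map_mul]
  refine comm_u ?_
  rcases lift_i hf hy with e | e
  · rw [mul_assoc, e, ← mul_assoc, e, mul_assoc]
  · calc g * g * i4 = g * (g * i4) := mul_assoc _ _ _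
      _ = g * (i4 * g * negOne) := by rw [e]
      _ = g * i4 * g * negOne := by group
      _ = i4 * g * negOne * g * negOne := by rw [e]
      _ = i4 * g * (g * negOne) * negOne := by rw [mul_assoc (i4 * g) negOne g, negOne_comm]
      _ = i4 * (g * g) := by rw [← mul_assoc, neg_cancel, mul_assoc]

omit hf hx

open Cfsg.Agent.SelfCentNineLoc64 in
/-- A group with a self-centralising Sylow subgroup of order nine and small normaliser. -/
theorem card_eq_360 {Y : Type*} [Group Y] [Finite Y] {S : Subgroup Y} (h : Loc S) (P : Sylow 3 Y)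
    (hP : S = (P : Subgroup Y)) (hnn : ¬ S.Normal)
    (hN : Nat.card (Subgroup.normalizer (S : Set Y)) = 9 ∨ Nat.card (Subgroup.normalizer (S : Set Y)) = 18 ∨
      Nat.card (Subgroup.normalizer (S : Set Y)) = 36) : Nat.card Y = 360 := by
  haveI : Fact (Nat.Prime 3) := ⟨Nat.prime_three⟩
  obtain ⟨M, hM, hSM, hs, hc⟩ := SelfCentNineReduce64.exists_simple h P hP hnn
    (by rcases hN with e | e | e <;> rw [e] <;> norm_num) (by rcases hN with e | e | e <;> rw [e] <;> norm_num)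
  haveI := hM
  haveI := hs
  have h' := h.subgroupOf hSM
  have hd : Nat.card (Subgroup.normalizer ((S.subgroupOf M : Subgroup M) : Set M)) ∣
      Nat.card (Subgroup.normalizer (S : Set Y)) := by
    rw [SelfCentNineReduce64.card_normalizer_subgroupOf hSM]
    exact Subgroup.card_dvd_of_le inf_le_left
  have h9 : 9 ∣ Nat.card (Subgroup.normalizer ((S.subgroupOf M : Subgroup M) : Set M)) := by
    have := Subgroup.card_dvd_of_le (Subgroup.le_normalizer : (S.subgroupOf M : Subgroup M) ≤ _)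
    rwa [h'.card] at this
  have hsmall : Nat.card (Subgroup.normalizer ((S.subgroupOf M : Subgroup M) : Set M)) = 9 ∨
      Nat.card (Subgroup.normalizer ((S.subgroupOf M : Subgroup M) : Set M)) = 18 ∨
      Nat.card (Subgroup.normalizer ((S.subgroupOf M : Subgroup M) : Set M)) = 36 := by
    generalize Nat.card (Subgroup.normalizer ((S.subgroupOf M : Subgroup M) : Set M)) = m at hd h9
    have hd36 : m ∣ 36 := by
      rcases hN with e | e | e <;> rw [e] at hd
      · exact hd.trans (by norm_num)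
      · exact hd.trans (by norm_num)
      · exact hd
    obtain ⟨k, rfl⟩ := h9
    have : k ∣ 4 := (Nat.mul_dvd_mul_iff_left (show 0 < 9 by norm_num)).1 hd36
    have : k ≤ 4 := Nat.le_of_dvd (by norm_num) this
    interval_cases k <;> simp_all
  obtain ⟨hM360, h36, -⟩ := SelfCentNineReduce64.simple_small hc h' (P.subtype (hP ▸ hSM))
    (by rw [Sylow.coe_subtype, hP]) hsmall
  have hNM : Subgroup.normalizer (S : Set Y) ≤ M := by
    refine inf_eq_left.1 (Subgroup.eq_of_le_of_card_ge inf_le_left ?_)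
    rw [← SelfCentNineReduce64.card_normalizer_subgroupOf hSM, h36]
    rcases hN with e | e | e <;> rw [e] <;> norm_num
  have htop := Sylow.normalizer_sup_eq_top (P.subtype (hP ▸ hSM))
  have hmap : ((P.subtype (hP ▸ hSM) : Sylow 3 M) : Subgroup M).map M.subtype = S := by
    rw [Sylow.coe_subtype, Subgroup.map_subgroupOf_eq_of_le (hP ▸ hSM), hP]
  rw [hmap, sup_eq_right.2 hNM] at htop
  rw [← hM360, htop, Subgroup.card_top]

include hf hx in
/-- The centraliser of the element of order four. -/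
theorem cent_le [Finite G] {y : G} (hy : y * uu f = uu f * y) : y ∈ f.range := by
  classical
  haveI : Fact (Nat.Prime 3) := ⟨Nat.prime_three⟩
  set C := Subgroup.centralizer ({uu f} : Set G) with hC
  have memC : ∀ {g : G}, g ∈ C ↔ g * uu f = uu f * g := Subgroup.mem_centralizer_singleton_iff
  have hu : uu f ∈ C := memC.2 rfl
  set Z := Subgroup.zpowers (⟨uu f, hu⟩ : C) with hZ
  haveI : Z.Normal := ⟨fun n hn g => by
    have hcen : Z ≤ Subgroup.center C := Subgroup.zpowers_le.2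
      (Subgroup.mem_center_iff.2 fun c => Subtype.ext (memC.1 c.2))
    rwa [Subgroup.mem_center_iff.1 (hcen hn) g, mul_inv_cancel_right]⟩
  let q : C →* C ⧸ Z := QuotientGroup.mk' Z
  have hq : Function.Surjective q := QuotientGroup.mk'_surjective Z
  have hpC : ∀ X, pv f X ∈ C := fun X => memC.2 (comm_u (p4_i4 X))
  have hqker : ∀ c : C, q c = 1 → ∃ k : ℕ, (c : G) = uu f ^ k := by
    intro c hc
    obtain ⟨k, hk⟩ := ((isOfFinOrder_of_finite (⟨uu f, hu⟩ : C)).mem_powers_iff_mem_zpowers).2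
      ((QuotientGroup.eq_one_iff c).1 hc)
    exact ⟨k, by rw [← hk]; rfl⟩
  have hqu : ∀ k : ℕ, ∀ h : uu f ^ k ∈ C, q ⟨uu f ^ k, h⟩ = 1 := fun k h =>
    (QuotientGroup.eq_one_iff _).2 ⟨k, Subtype.ext (by simp)⟩
  let pW : F9 → C ⧸ Z := fun X => q ⟨pv f X, hpC X⟩
  have pW_add : ∀ X Y, pW X * pW Y = pW (X + Y) := fun X Y => by
    show q _ * q _ = q _
    rw [← map_mul]; exact congrArg q (Subtype.ext (pv_add X Y))
  have pW_zero : pW 0 = 1 := by
    show q _ = 1
    rw [← map_one q]; exact congrArg q (Subtype.ext pv_zero)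
  have pW_inj : Function.Injective pW := by
    intro X Y e
    have e' : pW (X - Y) = 1 := by
      rw [sub_eq_add_neg, ← pW_add, e, pW_add, add_neg_cancel, pW_zero]
    obtain ⟨k, hk⟩ := hqker _ e'
    have h1 := pow_eq_one_of_cube hf k (by rw [← hk, pow_three', pv_cube])
    have hk' : pv f (X - Y) = pv f 0 := by rw [pv_zero]; exact hk.trans h1
    exact sub_eq_zero.1 (pv_inj hf hk')
  -- the shape of a conjugate of a root element
  have pW_conj : ∀ (c : C) (X Y : F9), q c * pW X * (q c)⁻¹ = pW Y →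
      (c : G) * pv f X * (c : G)⁻¹ = pv f Y := by
    intro c X Y e
    have e' : q (c * ⟨pv f X, hpC X⟩ * c⁻¹ * (⟨pv f Y, hpC Y⟩ : C)⁻¹) = 1 := by
      rw [map_mul, map_mul, map_mul, map_inv, map_inv]
      exact mul_inv_eq_one.2 e
    obtain ⟨k, hk⟩ := hqker _ e'
    have hk' : (c : G) * pv f X * (c : G)⁻¹ * (pv f Y)⁻¹ = uu f ^ k := hk
    have hk2 : (c : G) * pv f X * (c : G)⁻¹ = uu f ^ k * pv f Y := mul_inv_eq_iff_eq_mul.1 hk'
    have hcom : Commute (uu f ^ k) (pv f Y) := Commute.pow_left (memC.1 (hpC Y)).symm k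
    have h3 : (uu f ^ k) ^ 3 = 1 := by
      have : ((c : G) * pv f X * (c : G)⁻¹) ^ 3 = 1 := by
        rw [conj_pow, pow_three', pv_cube, mul_one, mul_inv_cancel]
      rwa [hk2, hcom.mul_pow, pow_three' (pv f Y), pv_cube, mul_one] at this
    rw [hk2, pow_eq_one_of_cube hf k h3, one_mul]
  let S : Subgroup (C ⧸ Z) :=
    { carrier := Set.range pW
      one_mem' := ⟨0, pW_zero⟩
      mul_mem' := by rintro _ _ ⟨X, rfl⟩ ⟨Y, rfl⟩; exact ⟨X + Y, (pW_add X Y).symm⟩
      inv_mem' := by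
        rintro _ ⟨X, rfl⟩
        exact ⟨-X, (inv_eq_of_mul_eq_one_right (by rw [pW_add, add_neg_cancel, pW_zero])).symm⟩ }
  have hScard : Nat.card S = 9 := by
    show Nat.card (Set.range pW) = 9
    rw [Nat.card_range_of_injective pW_inj, Nat.card_eq_fintype_card]
    rfl
  have hcomm : ∀ a ∈ S, ∀ b ∈ S, a * b = b * a := by
    rintro _ ⟨X, rfl⟩ _ ⟨Y, rfl⟩; rw [pW_add, pW_add, add_comm]
  have hexp : ∀ a ∈ S, a ^ 3 = 1 := by
    rintro _ ⟨X, rfl⟩
    rw [pow_three', pW_add, pW_add, show X + X + X = 0 from tri9 X, pW_zero]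
  have hself : ∀ s ∈ S, s ≠ 1 → ∀ g, g * s = s * g → g ∈ S := by
    rintro _ ⟨X, rfl⟩ hs g hg
    have hX : X ≠ 0 := fun e => hs (e ▸ pW_zero)
    obtain ⟨c, rfl⟩ := hq g
    have e := pW_conj c X X (by rw [hg, mul_inv_cancel_right])
    obtain ⟨k, Y, hkY⟩ := cent_u hf hx (memC.1 c.2) hX (mul_inv_eq_iff_eq_mul.1 e)
    refine ⟨Y, ?_⟩
    show q _ = q c
    have hk : uu f ^ k ∈ C := C.pow_mem hu k
    have : c = ⟨uu f ^ k, hk⟩ * ⟨pv f Y, hpC Y⟩ := Subtype.ext hkY
    rw [this, map_mul, hqu, one_mul]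
  -- it is a Sylow subgroup
  obtain ⟨P, hP⟩ : ∃ P : Sylow 3 (C ⧸ Z), S = (P : Subgroup (C ⧸ Z)) := by
    have hpS : IsPGroup 3 S := IsPGroup.of_card (n := 2) (by rw [hScard]; norm_num)
    obtain ⟨P, hSP⟩ := hpS.exists_le_sylow
    refine ⟨P, le_antisymm hSP ?_⟩
    have hne : pW (1, 0) ≠ 1 := fun e => by exact one_ne (pW_inj (e.trans pW_zero.symm))
    haveI : Nontrivial P :=
      ⟨⟨pW (1, 0), hSP ⟨_, rfl⟩⟩, 1, fun e => hne (congrArg Subtype.val e)⟩
    haveI : Nontrivial (Subgroup.center P) := P.isPGroup'.center_nontrivial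
    obtain ⟨z, hz⟩ := exists_ne (1 : Subgroup.center P)
    have hz1 : ((z : P) : C ⧸ Z) ≠ 1 := fun e => hz (Subtype.ext (Subtype.ext e))
    have hzc : ∀ a : P, (a : C ⧸ Z) * z = z * a := fun a =>
      congrArg Subtype.val (Subgroup.mem_center_iff.1 z.2 a)
    have hzS : ((z : P) : C ⧸ Z) ∈ S :=
      hself _ ⟨_, rfl⟩ hne _ (hzc ⟨pW (1, 0), hSP ⟨_, rfl⟩⟩).symm
    exact fun a ha => hself _ hzS hz1 a (hzc ⟨a, ha⟩)
  have hcentS : Subgroup.centralizer (S : Set (C ⧸ Z)) = S := le_antisymm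
    (fun g hg => hself (pW (1, 0)) (show pW (1, 0) ∈ S from ⟨(1, 0), rfl⟩) (fun e => one_ne (pW_inj (e.trans pW_zero.symm))) g
      (Subgroup.mem_centralizer_iff.1 hg (pW (1, 0)) (show pW (1, 0) ∈ S from ⟨(1, 0), rfl⟩)).symm)
    fun g hg => Subgroup.mem_centralizer_iff.2 fun s hs => hcomm s hs g hg
  have hL : SelfCentNineLoc64.Loc S := SelfCentNineLoc64.Loc.of_sylow P hP hcomm hexp hScard hcentS
    fun s hs hs1 g hg => Subgroup.le_normalizer (hself s hs hs1 g (Subgroup.mem_centralizer_singleton_iff.1 hg))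
  -- the normaliser has order at most thirty six
  set N := Subgroup.normalizer (S : Set (C ⧸ Z)) with hN
  have himg : ∀ n ∈ N, ∃ X, (X = ((1, 0) : F9) ∨ X = (-1, 0) ∨ X = (0, 1) ∨ X = (0, -1)) ∧
      n * pW (1, 0) * n⁻¹ = pW X := by
    intro n hn
    obtain ⟨X, hX⟩ := (Subgroup.mem_normalizer_iff.1 hn (pW (1, 0))).1 ⟨_, rfl⟩
    refine ⟨X, ?_, hX.symm⟩
    obtain ⟨c, rfl⟩ := hq n
    have e := pW_conj c (1, 0) X hX.symm
    have hX0 : X ≠ 0 := fun e0 => by
      rw [e0, pv_zero, conj_eq_one_iff, ← pv_zero (f := f)] at e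
      exact one_ne (pv_inj hf e)
    obtain ⟨g, hg⟩ := fusion hf hx (X := (1, 0)) one_ne hX0 e
    have hgi := lift_u hf (g := g) (by rw [hg]; exact memC.1 c.2)
    refine orbit_p4 hgi hX0 (mul_inv_eq_iff_eq_mul.1 (eq_of_cube hf ?_ (p4_cube X) ?_))
    · calc _ = g * (p4 (1, 0) * p4 (1, 0) * p4 (1, 0)) * g⁻¹ := by group
        _ = 1 := by rw [p4_cube, mul_one, mul_inv_cancel]
    · rw [map_mul, map_mul, map_inv, hg]; exact e
  have hSN : (S.subgroupOf N).index ≤ 4 := by
    let T : Finset (C ⧸ Z) := ({(1, 0), (-1, 0), (0, 1), (0, -1)} : Finset F9).image pW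
    let φ : N ⧸ S.subgroupOf N → {w // w ∈ T} := fun r =>
      ⟨(r.out : C ⧸ Z) * pW (1, 0) * (r.out : C ⧸ Z)⁻¹, by
        obtain ⟨X, hX, e⟩ := himg _ r.out.2
        rw [e]
        exact Finset.mem_image_of_mem _ (by simpa using hX)⟩
    have hφ : Function.Injective φ := by
      intro r r' e
      have e' := congrArg Subtype.val e
      rw [← r.out_eq', ← r'.out_eq', QuotientGroup.eq, Subgroup.mem_subgroupOf]
      refine hself _ ⟨(1, 0), rfl⟩ (fun e0 => by exact one_ne (pW_inj (e0.trans pW_zero.symm))) _ ?_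
      simp only [Subgroup.coe_mul, Subgroup.coe_inv]
      simp only [φ] at e'
      calc _ = (r.out : C ⧸ Z)⁻¹ * ((r'.out : C ⧸ Z) * pW (1, 0) * (r'.out : C ⧸ Z)⁻¹) * r'.out := by group
        _ = _ := by rw [← e']; group
    rw [Subgroup.index_eq_card]
    refine (Nat.card_le_card_of_injective φ hφ).trans ?_
    rw [Nat.card_eq_fintype_card, Fintype.card_coe]
    exact Finset.card_image_le.trans Finset.card_le_four
  have hNcard : Nat.card N = 9 ∨ Nat.card N = 18 ∨ Nat.card N = 36 := by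
    have h1 := (S.subgroupOf N).card_mul_index
    rw [Nat.card_congr (Subgroup.subgroupOfEquivOfLe Subgroup.le_normalizer).toEquiv, hScard] at h1
    have h2 : 0 < (S.subgroupOf N).index := Nat.pos_of_ne_zero Subgroup.index_ne_zero_of_finite
    have h3 : ¬ 3 ∣ (S.subgroupOf N).index := fun hd => by
      apply P.not_dvd_index
      rw [← hP]
      exact hd.trans (Subgroup.relIndex_dvd_index_of_le Subgroup.le_normalizer)
    rcases (show (S.subgroupOf N).index = 1 ∨ (S.subgroupOf N).index = 2 ∨ (S.subgroupOf N).index = 4 by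
      have : (S.subgroupOf N).index ≠ 3 := fun e => h3 (e ▸ dvd_rfl)
      omega) with e | e | e <;> rw [e] at h1 <;> omega
  -- the subgroup coming from the image
  set W0 : Subgroup (C ⧸ Z) := (f.range.subgroupOf C).map q with hW0
  have hSW : S ≤ W0 := by
    rintro _ ⟨X, rfl⟩; exact ⟨_, (show pv f X ∈ f.range from ⟨_, rfl⟩), rfl⟩
  obtain ⟨e, he, hne⟩ := not_norm
  have hec : f e ∈ C := memC.2 (comm_u he)
  have hmove : q ⟨f e, hec⟩ * pW (1, 0) * (q ⟨f e, hec⟩)⁻¹ ∉ S := by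
    rintro ⟨Y, hY⟩
    have e1 := pW_conj ⟨f e, hec⟩ (1, 0) Y hY.symm
    have e2 : f (e * p4 (1, 0) * e⁻¹) = f (p4 Y) := by rw [map_mul, map_mul, map_inv]; exact e1
    rcases eq_or hf e2 with e3 | e3
    · exact hne 0 Y (by rw [e3]; simp)
    · refine hne 4 Y ?_
      rw [e3]
      show _ = w4 ^ 4 * _
      rw [show w4 ^ 4 = negOne by rw [← w4_four]; simp [pow_succ], negOne_comm]
  have h360 : Nat.card (C ⧸ Z) = 360 := card_eq_360 hL P hP (fun hn => hmove (hn.conj_mem _ ⟨_, rfl⟩ _)) hNcard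
  have h360' : Nat.card W0 = 360 := by
    have hL' := hL.subgroupOf hSW
    refine card_eq_360 hL' (P.subtype (hP ▸ hSW)) (by rw [Sylow.coe_subtype, hP]) ?_ ?_
    · intro hn
      have hm : q ⟨f e, hec⟩ ∈ W0 := ⟨_, (show f e ∈ f.range from ⟨e, rfl⟩), rfl⟩
      exact hmove (hn.conj_mem ⟨pW (1, 0), hSW ⟨_, rfl⟩⟩ ⟨_, rfl⟩ ⟨_, hm⟩)
    · have hd : Nat.card (Subgroup.normalizer ((S.subgroupOf W0 : Subgroup W0) : Set W0)) ∣ Nat.card N := by
        rw [SelfCentNineReduce64.card_normalizer_subgroupOf hSW]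
        exact Subgroup.card_dvd_of_le inf_le_left
      have h9 : 9 ∣ Nat.card (Subgroup.normalizer ((S.subgroupOf W0 : Subgroup W0) : Set W0)) := by
        have := Subgroup.card_dvd_of_le (Subgroup.le_normalizer : (S.subgroupOf W0 : Subgroup W0) ≤ _)
        rwa [hL'.card] at this
      generalize Nat.card (Subgroup.normalizer ((S.subgroupOf W0 : Subgroup W0) : Set W0)) = m at hd h9
      have hd36 : m ∣ 36 := by
        rcases hNcard with e | e | e <;> rw [e] at hd
        · exact hd.trans (by norm_num)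
        · exact hd.trans (by norm_num)
        · exact hd
      obtain ⟨k, rfl⟩ := h9
      have : k ∣ 4 := (Nat.mul_dvd_mul_iff_left (show 0 < 9 by norm_num)).1 hd36
      have : k ≤ 4 := Nat.le_of_dvd (by norm_num) this
      interval_cases k <;> simp_all
  have htop : W0 = ⊤ := Subgroup.eq_top_of_card_eq _ (h360'.trans h360.symm)
  obtain ⟨c, hc, hqc⟩ := (htop ▸ Subgroup.mem_top (q ⟨y, memC.2 hy⟩) : q ⟨y, memC.2 hy⟩ ∈ W0)
  obtain ⟨k, hk⟩ := hqker (c⁻¹ * ⟨y, memC.2 hy⟩) (by rw [map_mul, map_inv, hqc, inv_mul_cancel])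
  have hk' : (c : G)⁻¹ * y = uu f ^ k := hk
  rw [inv_mul_eq_iff_eq_mul.1 hk']
  exact f.range.mul_mem hc (f.range.pow_mem ⟨w4, rfl⟩ k)

end Cfsg.Agent.L43CentIBasic62
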