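import Cfsg.Agent.Lib.L43Base45

/-!
The centraliser of `i4` in `SL(4,3)` as two by two matrices over the field with nine elements.
-/

set_option autoImplicit false
set_option maxRecDepth 4000
set_option synthInstance.maxHeartbeats 100000

namespace Cfsg.Agent.L43CentIModel62

open Cfsg.Agent.L43Three45

/-- The field with nine elements as pairs. -/
abbrev F9 := ZMod 3 × ZMod 3

def m9 (x y : F9) : F9 := (x.1 * y.1 - x.2 * y.2, x.1 * y.2 + x.2 * y.1)

def N9 (x : F9) : ZMod 3 := x.1 * x.1 + x.2 * x.2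

abbrev M9 := F9 × F9 × F9 × F9

def mul (p q : M9) : M9 :=
  (m9 p.1 q.1 + m9 p.2.1 q.2.2.1, m9 p.1 q.2.1 + m9 p.2.1 q.2.2.2,
    m9 p.2.2.1 q.1 + m9 p.2.2.2 q.2.2.1, m9 p.2.2.1 q.2.1 + m9 p.2.2.2 q.2.2.2)

def one9 : M9 := ((1, 0), 0, 0, (1, 0))

def neg9 : M9 := ((-1, 0), 0, 0, (-1, 0))

def nd (p : M9) : ZMod 3 := N9 (m9 p.1 p.2.2.2 - m9 p.2.1 p.2.2.1)

/-- The real matrix of a matrix over the nine element field. -/
def mat : M9 → Matrix (Fin 4) (Fin 4) (ZMod 3)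
  | ((a0, a1), (b0, b1), (c0, c1), (d0, d1)) =>
    !![a0, -a1, b0, -b1; a1, a0, b1, b0; c0, -c1, d0, -d1; c1, c0, d1, d0]

theorem mat_mul (p q : M9) : mat p * mat q = mat (mul p q) := by
  obtain ⟨⟨a0, a1⟩, ⟨b0, b1⟩, ⟨c0, c1⟩, ⟨d0, d1⟩⟩ := p
  obtain ⟨⟨e0, e1⟩, ⟨f0, f1⟩, ⟨g0, g1⟩, ⟨h0, h1⟩⟩ := q
  ext i j
  fin_cases i <;> fin_cases j <;>
    simp [mat, mul, m9, Matrix.mul_apply, Fin.sum_univ_four] <;> ring

theorem det_mat (p : M9) : (mat p).det = nd p := by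
  obtain ⟨⟨a0, a1⟩, ⟨b0, b1⟩, ⟨c0, c1⟩, ⟨d0, d1⟩⟩ := p
  simp [mat, nd, N9, m9, Matrix.det_succ_row_zero, Fin.sum_univ_succ, Fin.succAbove]
  ring

/-- The element of `SL(4,3)` with the given entries. -/
def mk (p : M9) (h : nd p = 1) : L4 := ⟨mat p, (det_mat p).trans h⟩

theorem mk_congr {p q : M9} (e : p = q) (h : nd p = 1) (h' : nd q = 1) : mk p h = mk q h' := by
  subst e; rfl

theorem nd_mul {p q : M9} (h : nd p = 1) (h' : nd q = 1) : nd (mul p q) = 1 := by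
  rw [← det_mat, ← mat_mul, Matrix.det_mul, det_mat, det_mat, h, h', one_mul]

theorem mk_mul {p q : M9} (h : nd p = 1) (h' : nd q = 1) :
    mk p h * mk q h' = mk (mul p q) (nd_mul h h') :=
  Subtype.ext (mat_mul p q)

theorem mat_inj {p q : M9} (e : mat p = mat q) : p = q := by
  obtain ⟨⟨a0, a1⟩, ⟨b0, b1⟩, ⟨c0, c1⟩, ⟨d0, d1⟩⟩ := p
  obtain ⟨⟨e0, e1⟩, ⟨f0, f1⟩, ⟨g0, g1⟩, ⟨h0, h1⟩⟩ := q
  have h := fun i j => congrFun (congrFun e i) j
  have h1 := h 0 0; have h2 := h 1 0; have h3 := h 0 2; have h4 := h 1 2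
  have h5 := h 2 0; have h6 := h 3 0; have h7 := h 2 2; have h8 := h 3 2
  simp [mat] at h1 h2 h3 h4 h5 h6 h7 h8
  simp_all

theorem mk_inj {p q : M9} {h : nd p = 1} {h' : nd q = 1} (e : mk p h = mk q h') : p = q :=
  mat_inj (congrArg Subtype.val e)

theorem mk_mul_eq {p q r : M9} {h : nd p = 1} {h' : nd q = 1} {h'' : nd r = 1} :
    mk p h * mk q h' = mk r h'' ↔ mul p q = r :=
  ⟨fun e => mk_inj ((mk_mul h h').symm.trans e), fun e => (mk_mul h h').trans (mk_congr e _ _)⟩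

theorem one_eq : mk one9 (by decide +kernel) = 1 := by decide +kernel
theorem negOne_eq : mk neg9 (by decide +kernel) = negOne := by decide +kernel

def iv9 : M9 := ((0, 1), 0, 0, (0, 1))

theorem i4_eq : mk iv9 (by decide +kernel) = i4 := by decide +kernel

/-- Everything commuting with `i4` comes from the nine element field. -/
theorem exists_mk {g : L4} (h : g * i4 = i4 * g) : ∃ p hp, g = mk p hp := by
  have e := congrArg Subtype.val h
  rw [Matrix.SpecialLinearGroup.coe_mul, Matrix.SpecialLinearGroup.coe_mul] at e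
  have ee := fun i j => congrFun (congrFun e i) j
  set A := (g : Matrix (Fin 4) (Fin 4) (ZMod 3)) with hA
  have e01 := ee 0 0; have e02 := ee 0 1; have e03 := ee 0 2; have e04 := ee 0 3
  have e05 := ee 1 0; have e06 := ee 1 1; have e07 := ee 1 2; have e08 := ee 1 3
  have e09 := ee 2 0; have e10 := ee 2 1; have e11 := ee 2 2; have e12 := ee 2 3
  have e13 := ee 3 0; have e14 := ee 3 1; have e15 := ee 3 2; have e16 := ee 3 3
  simp [i4, Matrix.mul_apply, Fin.sum_univ_four] at e01 e02 e03 e04 e05 e06 e07 e08 e09 e10 e11 e12 e13 e14 e15 e16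
  have hM : A = mat ((A 0 0, A 1 0), (A 0 2, A 1 2), (A 2 0, A 3 0), (A 2 2, A 3 2)) := by
    ext i j
    fin_cases i <;> fin_cases j <;> simp [mat] <;> grind
  have hd : nd ((A 0 0, A 1 0), (A 0 2, A 1 2), (A 2 0, A 3 0), (A 2 2, A 3 2)) = 1 := by
    rw [← det_mat, ← hM]; exact g.2
  exact ⟨_, hd, Subtype.ext hM⟩

/-- Scalars. -/
def om : M9 := ((1, 1), 0, 0, (1, 1))

theorem nd_om : nd om = 1 := by decide +kernel

/-- The element of order eight whose square is `-i4`. -/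
def w4 : L4 := mk om nd_om

def sc : ℕ → M9
  | 0 => one9
  | k + 1 => mul (sc k) om

theorem nd_sc : ∀ k, nd (sc k) = 1
  | 0 => by decide +kernel
  | k + 1 => nd_mul (nd_sc k) nd_om

theorem w4_pow : ∀ k, w4 ^ k = mk (sc k) (nd_sc k)
  | 0 => by rw [pow_zero]; exact one_eq.symm
  | k + 1 => by rw [pow_succ, w4_pow k]; exact mk_mul _ _

theorem w4_comm {g : L4} (h : g * i4 = i4 * g) : g * w4 = w4 * g := by
  obtain ⟨p, hp, rfl⟩ := exists_mk h
  refine (mk_mul _ _).trans ((mk_congr ?_ _ _).trans (mk_mul _ _).symm)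
  obtain ⟨⟨a0, a1⟩, ⟨b0, b1⟩, ⟨c0, c1⟩, ⟨d0, d1⟩⟩ := p
  simp [mul, m9, om, add_comm]

theorem w4_sq : w4 * w4 = i4 * negOne := by decide +kernel

theorem w4_four : w4 * w4 * w4 * w4 = negOne := by decide +kernel

/-- Root elements. -/
def pp (X : F9) : M9 := ((1, 0), X, 0, (1, 0))

theorem nd_pp (X : F9) : nd (pp X) = 1 := by revert X; decide +kernel

def p4 (X : F9) : L4 := mk (pp X) (nd_pp X)

theorem pp_add : ∀ X Y, mul (pp X) (pp Y) = pp (X + Y) := by decide +kernel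

theorem p4_add (X Y : F9) : p4 X * p4 Y = p4 (X + Y) := (mk_mul _ _).trans (mk_congr (pp_add X Y) _ _)

theorem p4_zero : p4 0 = 1 := by decide +kernel

theorem p4_cube : ∀ X, p4 X * p4 X * p4 X = 1 := by decide +kernel

theorem p4_inj {X Y : F9} (h : p4 X = p4 Y) : X = Y :=
  congrArg (fun p : M9 => p.2.1) (mk_inj h)

theorem p4_i4 : ∀ X, p4 X * i4 = i4 * p4 X := by decide +kernel

theorem p4_z4 (X : F9) : X ≠ 0 → ∃ c : L4, (c * xP * c⁻¹ = p4 X ∨ c * xM * c⁻¹ = p4 X) ∧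
    xP * z4 = z4 * xP ∧ xM * z4 = z4 * xM := by
  intro hX
  have hz : xP * z4 = z4 * xP ∧ xM * z4 = z4 * xM := by decide +kernel
  let m : L4 := sgn2 2 3 (by decide)
  let a : L4 := ⟨!![0, -1, 0, 0; 1, 0, 0, 0; 0, 0, 1, 0; 0, 0, 0, 1], by decide +kernel⟩
  let b : L4 := ⟨!![1, -1, 0, 0; 1, 1, 0, 0; 0, 0, 1, 0; 0, 0, 0, -1], by decide +kernel⟩
  let b' : L4 := ⟨!![1, 1, 0, 0; -1, 1, 0, 0; 0, 0, 1, 0; 0, 0, 0, -1], by decide +kernel⟩
  have : X = (1, 0) ∨ X = (-1, 0) ∨ X = (0, 1) ∨ X = (0, -1) ∨ X = (1, 1) ∨ X = (-1, -1) ∨ X = (1, -1) ∨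
      X = (-1, 1) := by revert X; decide +kernel
  rcases this with rfl | rfl | rfl | rfl | rfl | rfl | rfl | rfl
  · exact ⟨1, Or.inl (by decide +kernel), hz⟩
  · exact ⟨m, Or.inl (by decide +kernel), hz⟩
  · exact ⟨a, Or.inl (by decide +kernel), hz⟩
  · exact ⟨m * a, Or.inl (by decide +kernel), hz⟩
  · exact ⟨b, Or.inr (by decide +kernel), hz⟩
  · exact ⟨m * b, Or.inr (by decide +kernel), hz⟩
  · exact ⟨b', Or.inr (by decide +kernel), hz⟩
  · exact ⟨m * b', Or.inr (by decide +kernel), hz⟩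

theorem pp_zero_div : ∀ X c : F9, m9 c X = 0 → X ≠ 0 → c = 0 := by decide +kernel

theorem pp_cancel : ∀ X a d : F9, m9 a X = m9 X d → X ≠ 0 → a = d := by decide +kernel

theorem cent_tri : ∀ a b : F9, nd (a, b, 0, a) = 1 →
    ∃ k : Fin 8, ∃ Y : F9, (a, b, (0 : F9), a) = mul (sc k) (pp Y) := by decide +kernel

theorem m9_one : ∀ a : F9, m9 a (1, 0) = a := by decide +kernel

theorem one_m9 : ∀ a : F9, m9 (1, 0) a = a := by decide +kernel

theorem m9_zero : ∀ a : F9, m9 a 0 = 0 := by decide +kernel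

theorem zero_m9 : ∀ a : F9, m9 0 a = 0 := by decide +kernel

theorem pp_comm_eq {a b c d X : F9} (e : mul (a, b, c, d) (pp (1, 0)) = mul (pp X) (a, b, c, d)) :
    a = a + m9 X c ∧ a + b = b + m9 X d := by
  simp only [mul, pp, Prod.mk.injEq, m9_one, one_m9, m9_zero, zero_m9, add_zero, zero_add] at e
  exact ⟨e.1, e.2.1⟩

theorem cent_pp (p : M9) (hp : nd p = 1) (X : F9) (hX : X ≠ 0) (e : mul p (pp X) = mul (pp X) p) :
    ∃ k : Fin 8, ∃ Y : F9, p = mul (sc k) (pp Y) := by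
  obtain ⟨a, b, c, d⟩ := p
  simp only [mul, pp, Prod.mk.injEq, m9_one, one_m9, m9_zero, zero_m9, add_zero, zero_add] at e
  obtain ⟨e1, e2, -, e4⟩ := e
  have hc : c = 0 := pp_zero_div X c (by linear_combination (exp := 1) e4) hX
  have had : a = d := pp_cancel X a d (by linear_combination (exp := 1) e2) hX
  subst hc had
  exact cent_tri a b hp

/-- The centraliser of a root element in the centraliser of `i4`. -/
theorem cent_p4 {g : L4} (h : g * i4 = i4 * g) {X : F9} (hX : X ≠ 0) (hc : g * p4 X = p4 X * g) :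
    ∃ (k : ℕ) (Y : F9), g = w4 ^ k * p4 Y := by
  obtain ⟨p, hp, rfl⟩ := exists_mk h
  obtain ⟨k, Y, e⟩ := cent_pp p hp X hX (mk_inj ((mk_mul hp (nd_pp X)).symm.trans (hc.trans (mk_mul _ _))))
  exact ⟨k, Y, by rw [w4_pow]; exact ((mk_mul _ _).trans (mk_congr e.symm _ _)).symm⟩

theorem orbit_num : ∀ X d : F9, N9 (m9 (m9 X d) d) = 1 →
    X = (1, 0) ∨ X = (-1, 0) ∨ X = (0, 1) ∨ X = (0, -1) := by decide +kernel

theorem orbit_tri : ∀ X a b d : F9, a = m9 X d → nd (a, b, 0, d) = 1 → N9 (m9 (m9 X d) d) = 1 := by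
  intro X a b d e h
  subst e
  simpa [nd, m9] using h

theorem orbit_pp (p : M9) (hp : nd p = 1) (X : F9) (hX : X ≠ 0) (e : mul p (pp (1, 0)) = mul (pp X) p) :
    X = (1, 0) ∨ X = (-1, 0) ∨ X = (0, 1) ∨ X = (0, -1) := by
  obtain ⟨a, b, c, d⟩ := p
  obtain ⟨e1, e2⟩ := pp_comm_eq e
  have hc : c = 0 := by
    have hmc : ∀ X c : F9, m9 X c = 0 → X ≠ 0 → c = 0 := by decide +kernel
    exact hmc X c (by simpa using e1.symm) hX
  subst hc
  exact orbit_num X d (orbit_tri X a b d (by linear_combination (exp := 1) e2) hp)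

theorem orbit_p4 {g : L4} (h : g * i4 = i4 * g) {X : F9} (hX : X ≠ 0) (hc : g * p4 (1, 0) = p4 X * g) :
    X = (1, 0) ∨ X = (-1, 0) ∨ X = (0, 1) ∨ X = (0, -1) := by
  obtain ⟨p, hp, rfl⟩ := exists_mk h
  exact orbit_pp p hp X hX (mk_inj ((mk_mul _ _).symm.trans (hc.trans (mk_mul _ _))))

theorem not_norm : ∃ e : L4, e * i4 = i4 * e ∧ ∀ (k : Fin 8) (Y : F9), e * p4 (1, 0) * e⁻¹ ≠ w4 ^ (k : ℕ) * p4 Y := by
  refine ⟨⟨!![0, 0, 1, 0; 0, 0, 0, 1; -1, 0, 0, 0; 0, -1, 0, 0], by decide +kernel⟩, by decide +kernel, ?_⟩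
  intro k Y
  rw [w4_pow]
  revert k Y
  decide +kernel

theorem weyl : ∀ X : F9, X ≠ 0 → ∃ e : L4, e * i4 = i4 * e ∧
    p4 X * (e * p4 X * e⁻¹) * p4 X = e ∧ e * e = negOne := by
  intro X hX
  have : ∃ p : M9, p.1 = 0 ∧ p.2.2.2 = 0 ∧ p.2.1 = X ∧ m9 X p.2.2.1 = (-1, 0) := by
    revert X; decide +kernel
  obtain ⟨⟨a, b, c, d⟩, rfl, rfl, rfl, hc⟩ := this
  have key : ∀ b c : F9, m9 b c = (-1, 0) → nd (0, b, c, 0) = 1 ∧ mul (0, b, c, 0) iv9 = mul iv9 (0, b, c, 0) ∧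
      mul (mul (pp b) (0, b, c, 0)) (pp b) = mul (mul (0, b, c, 0) (pp (-b))) (0, b, c, 0) ∧
      mul (0, b, c, 0) (0, b, c, 0) = neg9 := by decide +kernel
  obtain ⟨h1, h2, -, h4⟩ := key b c hc
  refine ⟨mk (0, b, c, 0) h1, ?_, ?_, ?_⟩
  · rw [← i4_eq, mk_mul, mk_mul]; exact mk_congr h2 _ _
  · have key2 : ∀ b c : F9, m9 b c = (-1, 0) →
        mul (mul (pp b) (mul (mul (0, b, c, 0) (pp b)) (mul neg9 (0, b, c, 0)))) (pp b) = (0, b, c, 0) := by
      decide +kernel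
    have hinv : (mk (0, b, c, 0) h1)⁻¹ = mk neg9 (by decide +kernel) * mk (0, b, c, 0) h1 := by
      refine inv_eq_of_mul_eq_one_right ?_
      rw [mk_mul, mk_mul, ← one_eq]
      refine mk_congr ?_ _ _
      have key3 : ∀ b c : F9, m9 b c = (-1, 0) → mul (0, b, c, 0) (mul neg9 (0, b, c, 0)) = one9 := by
        decide +kernel
      exact key3 b c hc
    rw [hinv]
    simp only [p4, mk_mul]
    exact mk_congr (key2 b c hc) _ _
  · rw [← negOne_eq, mk_mul]; exact mk_congr h4 _ _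

/-- An element of order five. -/
theorem exists_five : ∃ e : L4, e * i4 = i4 * e ∧ e ^ 5 = 1 ∧ e ≠ 1 := by
  refine ⟨mk ((1, 1), (-1, 0), (1, 0), 0) (by decide +kernel), by decide +kernel, ?_, by decide +kernel⟩
  simp only [pow_succ, pow_zero, one_mul]
  rw [mk_mul, mk_mul, mk_mul, mk_mul, ← one_eq]
  exact mk_congr (by decide +kernel) _ _

abbrev M2 := ZMod 3 × ZMod 3 × ZMod 3 × ZMod 3

def mul2 (p q : M2) : M2 :=
  (p.1 * q.1 + p.2.1 * q.2.2.1, p.1 * q.2.1 + p.2.1 * q.2.2.2,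
    p.2.2.1 * q.1 + p.2.2.2 * q.2.2.1, p.2.2.1 * q.2.1 + p.2.2.2 * q.2.2.2)

def emb2 : M2 → M2 → Matrix (Fin 4) (Fin 4) (ZMod 3)
  | (a, b, c, d), (e, f, g, h) => !![a, 0, 0, b; 0, e, f, 0; 0, g, h, 0; c, 0, 0, d]

theorem emb2_mul (p q p' q' : M2) : emb2 p q * emb2 p' q' = emb2 (mul2 p p') (mul2 q q') := by
  obtain ⟨a, b, c, d⟩ := p
  obtain ⟨e, f, g, h⟩ := q
  obtain ⟨a', b', c', d'⟩ := p'
  obtain ⟨e', f', g', h'⟩ := q'
  ext i j
  fin_cases i <;> fin_cases j <;> simp [emb2, mul2, Matrix.mul_apply, Fin.sum_univ_four]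

/-- The centraliser of `j4` has no element of order five. -/
theorem no_five {g : L4} (h : g * j4 = j4 * g) (h5 : g ^ 5 = 1) : g = 1 := by
  have e := congrArg Subtype.val h
  rw [Matrix.SpecialLinearGroup.coe_mul, Matrix.SpecialLinearGroup.coe_mul] at e
  set A := (g : Matrix (Fin 4) (Fin 4) (ZMod 3)) with hA
  have hz : ∀ x : ZMod 3, x = -x → x = 0 := by decide +kernel
  have hJ : (j4 : Matrix (Fin 4) (Fin 4) (ZMod 3)) = Matrix.diagonal ![1, -1, -1, 1] := by decide +kernel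
  rw [hJ] at e
  have ee := fun i j => congrFun (congrFun e i) j
  simp only [Matrix.mul_diagonal, Matrix.diagonal_mul] at ee
  have e01 := ee 0 1; have e02 := ee 0 2; have e10 := ee 1 0; have e13 := ee 1 3
  have e20 := ee 2 0; have e23 := ee 2 3; have e31 := ee 3 1; have e32 := ee 3 2
  simp only [Matrix.cons_val_zero, Matrix.cons_val_one, Matrix.cons_val, mul_one, one_mul, mul_neg,
    neg_mul] at e01 e02 e10 e13 e20 e23 e31 e32
  have hM : A = emb2 (A 0 0, A 0 3, A 3 0, A 3 3) (A 1 1, A 1 2, A 2 1, A 2 2) := by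
    ext i j
    fin_cases i <;> fin_cases j <;> simp [emb2] <;>
      first
        | exact hz _ (by assumption)
        | exact hz _ (Eq.symm (by assumption))
        | grind
  have h1 : emb2 (1, 0, 0, 1) (1, 0, 0, 1) = 1 := by decide +kernel
  have key : ∀ p : M2, mul2 (mul2 (mul2 (mul2 p p) p) p) p = (1, 0, 0, 1) → p = (1, 0, 0, 1) := by
    decide +kernel
  have h5' : A * A * A * A * A = 1 := by
    have := congrArg Subtype.val h5
    simpa [pow_succ, hA] using this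
  rw [hM, emb2_mul, emb2_mul, emb2_mul, emb2_mul, ← h1] at h5'
  have hi := fun i j => congrFun (congrFun h5' i) j
  have ea := hi 0 0; have eb := hi 0 3; have ec := hi 3 0; have ed := hi 3 3
  have fa := hi 1 1; have fb := hi 1 2; have fc := hi 2 1; have fd := hi 2 2
  simp [emb2] at ea eb ec ed fa fb fc fd
  have k1 := key (A 0 0, A 0 3, A 3 0, A 3 3) (by simp [Prod.ext_iff, ea, eb, ec, ed])
  have k2 := key (A 1 1, A 1 2, A 2 1, A 2 2) (by simp [Prod.ext_iff, fa, fb, fc, fd])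
  refine Subtype.ext ?_
  show A = _
  rw [hM, k1, k2, h1]
  rfl

/-- Candidate eigenvector bases for the eigenvalues `t` and `-t`. -/
def cand (t : F9) (p : M9) (s1 s2 s3 : Bool) : M9 :=
  let v := if s1 then (p.1 + t, p.2.2.1) else (p.2.1, p.2.2.2 + t)
  let w := if s2 then (p.1 - t, p.2.2.1) else (p.2.1, p.2.2.2 - t)
  let l : F9 := if s3 then (1, 0) else (1, 1)
  (v.1, m9 l w.1, v.2, m9 l w.2)

def g0 : M9 := ((1, 0), 0, 0, (-1, 0))
def g1 : M9 := ((0, 1), 0, 0, (0, -1))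

def good (t : F9) (tgt p : M9) : Bool :=
  [true, false].any fun s1 => [true, false].any fun s2 => [true, false].any fun s3 =>
    decide (nd (cand t p s1 s2 s3) = 1) && decide (mul p (cand t p s1 s2 s3) = mul (cand t p s1 s2 s3) tgt)

theorem good_spec {t : F9} {tgt p : M9} (h : good t tgt p = true) : ∃ s1 s2 s3 : Bool,
    nd (cand t p s1 s2 s3) = 1 ∧ mul p (cand t p s1 s2 s3) = mul (cand t p s1 s2 s3) tgt := by
  simp only [good, List.any_eq_true, Bool.and_eq_true, decide_eq_true_eq] at h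
  obtain ⟨s1, -, s2, -, s3, -, h1, h2⟩ := h
  exact ⟨s1, s2, s3, h1, h2⟩

def skipInv (p : M9) : Bool :=
  decide (mul p p ≠ one9) || decide (nd p ≠ 1) || decide (p = one9) || decide (p = neg9)

def skipSkew (p : M9) : Bool :=
  decide (mul p p ≠ neg9) || decide (nd p ≠ 1) || decide (p = iv9) || decide (p = ((0, -1), 0, 0, (0, -1)))

theorem inv_check : ∀ a b c d : F9, (skipInv (a, b, c, d) || good (1, 0) g0 (a, b, c, d)) = true := by
  decide +kernel

theorem skew_check : ∀ a b c d : F9, (skipSkew (a, b, c, d) || good (0, 1) g1 (a, b, c, d)) = true := by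
  decide +kernel

theorem inv_pp (p : M9) (h : mul p p = one9) (h' : nd p = 1) (h1 : p ≠ one9) (h2 : p ≠ neg9) :
    ∃ s1 s2 s3 : Bool, nd (cand (1, 0) p s1 s2 s3) = 1 ∧
      mul p (cand (1, 0) p s1 s2 s3) = mul (cand (1, 0) p s1 s2 s3) g0 := by
  obtain ⟨a, b, c, d⟩ := p
  have := inv_check a b c d
  simp [skipInv, h, h', h1, h2] at this
  exact good_spec this

theorem skew_pp (p : M9) (h : mul p p = neg9) (h' : nd p = 1) (h1 : p ≠ iv9)
    (h2 : p ≠ ((0, -1), 0, 0, (0, -1))) :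
    ∃ s1 s2 s3 : Bool, nd (cand (0, 1) p s1 s2 s3) = 1 ∧
      mul p (cand (0, 1) p s1 s2 s3) = mul (cand (0, 1) p s1 s2 s3) g1 := by
  obtain ⟨a, b, c, d⟩ := p
  have := skew_check a b c d
  simp [skipSkew, h, h', h1, h2] at this
  exact good_spec this

theorem g0_j4 : ∃ d : L4, mk g0 (by decide +kernel) * d = d * j4 :=
  ⟨⟨!![1, 0, 0, 0; 0, 0, 0, 1; 0, 0, 1, 0; 0, -1, 0, 0], by decide +kernel⟩, by decide +kernel⟩

theorem g1_i4 : ∃ d : L4, mk g1 (by decide +kernel) * d = d * i4 :=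
  ⟨⟨!![1, -1, 0, 0; 1, 1, 0, 0; 0, 0, 1, 0; 0, 0, 0, -1], by decide +kernel⟩, by decide +kernel⟩

theorem nd_g0 : nd g0 = 1 := by decide +kernel

theorem mk_comm_i4 (p : M9) (h : nd p = 1) : mk p h * i4 = i4 * mk p h := by
  rw [← i4_eq, mk_mul, mk_mul]
  refine mk_congr ?_ _ _
  obtain ⟨⟨a0, a1⟩, ⟨b0, b1⟩, ⟨c0, c1⟩, ⟨d0, d1⟩⟩ := p
  simp [mul, m9, iv9]

/-- Involutions of the centraliser are conjugate there. -/
theorem inv_conj {g : L4} (h : g * i4 = i4 * g) (h2 : g * g = 1) (h1 : g ≠ 1) (hn : g ≠ negOne) :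
    ∃ c : L4, c * i4 = i4 * c ∧ g * c = c * mk g0 nd_g0 := by
  obtain ⟨p, hp, rfl⟩ := exists_mk h
  obtain ⟨s1, s2, s3, hc, e⟩ := inv_pp p (mk_inj ((mk_mul hp hp).symm.trans (h2.trans one_eq.symm))) hp
    (fun e => h1 ((mk_congr e _ _).trans one_eq)) (fun e => hn ((mk_congr e _ _).trans negOne_eq))
  exact ⟨mk _ hc, mk_comm_i4 _ _, (mk_mul _ _).trans ((mk_congr e _ _).trans (mk_mul _ _).symm)⟩

/-- Square roots of `-1` in the centraliser are conjugate to `i4`. -/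
theorem skew_conj {g : L4} (h : g * i4 = i4 * g) (h2 : g * g = negOne) :
    ∃ c : L4, g * c = c * i4 ∨ g = i4 * negOne := by
  obtain ⟨p, hp, rfl⟩ := exists_mk h
  by_cases e1 : p = iv9
  · exact ⟨1, Or.inl (by rw [mul_one, one_mul, ← i4_eq]; exact mk_congr e1 _ _)⟩
  by_cases e2 : p = ((0, -1), 0, 0, (0, -1))
  · refine ⟨1, Or.inr ?_⟩
    rw [mk_congr e2 hp (by decide +kernel)]
    decide +kernel
  obtain ⟨s1, s2, s3, hc, e⟩ := skew_pp p (mk_inj ((mk_mul hp hp).symm.trans (h2.trans negOne_eq.symm))) hp e1 e2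
  obtain ⟨d, hd⟩ := g1_i4
  refine ⟨mk _ hc * d, Or.inl ?_⟩
  rw [← mul_assoc, mk_mul, mk_congr e (nd_mul hp hc) (nd_mul hc (by decide +kernel)), ← mk_mul (q := g1) hc (by decide +kernel),
    mul_assoc, hd, mul_assoc]

/-- One of two opposite elements. -/
def pos (p : M9) : Prop :=
  ([p.1.1, p.1.2, p.2.1.1, p.2.1.2, p.2.2.1.1, p.2.2.1.2, p.2.2.2.1, p.2.2.2.2].find? (fun x => x != 0)) = some 1

instance : DecidablePred pos := fun p => inferInstanceAs (Decidable (_ = _))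

/-- Representatives of the forty five involutions. -/
def reps : Finset M9 :=
  Finset.univ.filter fun p => mul p p = one9 ∧ nd p = 1 ∧ p ≠ one9 ∧ p ≠ neg9 ∧ pos p

theorem card_reps : reps.card = 45 := by
  rw [reps, Finset.card_filter]
  simp only [Fintype.sum_prod_type]
  decide +kernel

theorem pos_check : ∀ a b c d : F9,
    (decide (nd (a, b, c, d) ≠ 1) || decide (pos (a, b, c, d) ↔ ¬ pos (mul (a, b, c, d) neg9))) = true := by
  decide +kernel

theorem pos_dichotomy (p : M9) (h : nd p = 1) : pos p ↔ ¬ pos (mul p neg9) := by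
  obtain ⟨a, b, c, d⟩ := p
  have := pos_check a b c d
  simp only [h, ne_eq, not_true, decide_false, Bool.false_or, decide_eq_true_eq] at this
  exact this

end Cfsg.Agent.L43CentIModel62
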