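import Cfsg.Agent.Lib.L43FrameN45
import Cfsg.Agent.Lib.CoprimeGaschutz

/-!
A complement of the abelian normal subgroup of order `27` in its normaliser.
-/

set_option autoImplicit false
set_option linter.unusedSectionVars false
set_option linter.style.haveILetI false

namespace Cfsg.Agent.L43Three45

open Subgroup
open scoped commutatorElement Pointwise

namespace Compl3

/-- Coordinates modulo the centre. -/
abbrev V4 := ZMod 3 × ZMod 3 × ZMod 3 × ZMod 3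

/-- Exponentiation by a residue. -/
def pw {G : Type*} [Group G] (a : G) (c : ZMod 3) : G := a ^ (c.val : ℤ)

/-- Scalar multiplication. -/
def sm (c : ZMod 3) (w : V4) : V4 := (c * w.1, c * w.2.1, c * w.2.2.1, c * w.2.2.2)

/-- Linear combination of four images. -/
def lin (e1 e2 e3 e4 w : V4) : V4 :=
  sm w.1 e1 + sm w.2.1 e2 + sm w.2.2.1 e3 + sm w.2.2.2 e4

/-- The action of the element of order four. -/
def Im (w : V4) : V4 := (-w.2.1, w.1, -w.2.2.2, w.2.2.1)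

/-- The action of the element of order three. -/
def Gm (d r m s : ZMod 3) : V4 → V4 :=
  lin (1, 0, 0, 0) (d, 1, 0, 0) (r, m - d * s, 1, -d) (m, s, 0, 1)

/-- The alternating form. -/
def frm (v w : V4) : ZMod 3 :=
  v.2.2.1 * w.1 + v.2.2.2 * w.2.1 - v.1 * w.2.2.1 - v.2.1 * w.2.2.2

theorem beta_one : ∀ d b : ZMod 3,
    lin (1, 0, 0, 0) (d, b, 0, 0) 0 0 (lin (1, 0, 0, 0) (d, b, 0, 0) 0 0 (d, b, 0, 0))
      = (0, 1, 0, 0) → b = 1 := by decide +kernel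

theorem vert : ∀ d : ZMod 3, ∀ w : V4,
    w.2.2.1 = 1 → frm w (d, 1, 0, 0) = 0 → w = (w.1, w.2.1, 1, -d) := by decide +kernel

theorem vert2 : ∀ d : ZMod 3, ∀ w : V4,
    w.2.2.1 = 0 → frm w (d, 1, 0, 0) = 1 → w = (w.1, w.2.1, 0, 1) := by decide +kernel

theorem isotropic_row : ∀ d r q m s : ZMod 3,
    frm (r, q, 1, -d) (m, s, 0, 1) = 0 → q = m - d * s := by decide +kernel

set_option synthInstance.maxSize 4096 in
set_option synthInstance.maxHeartbeats 400000 in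
/-- The cube and the quaternion relation leave one invariant Lagrangian. -/
theorem shift : ∀ d r m s : ZMod 3, d ≠ 0 →
    Gm d r m s (Gm d r m s (Gm d r m s (0, 0, 1, 0))) = (0, 0, 1, 0) →
    Gm d r m s (Im (Gm d r m s (Gm d r m s (Im (0, 0, 1, 0))))) =
      -Im (Gm d r m s (Im (Gm d r m s (Gm d r m s (0, 0, 1, 0))))) →
    Gm d r m s (-m * d, 0, 1, 0) = (-m * d, 0, 1, 0) + sm (-d) (0, -m * d, 0, 1) ∧
      Gm d r m s (0, -m * d, 0, 1) = (0, -m * d, 0, 1) := by decide +kernel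

theorem frm_shift : ∀ p : ZMod 3, frm (p, 0, 1, 0) (0, p, 0, 1) = 0 := by decide +kernel

variable {G : Type*} [Group G] [Finite G]

theorem pw_zero (a : G) : pw a 0 = 1 := by simp [pw]

theorem pw_one (a : G) : pw a 1 = a := by
  rw [pw, show ((1 : ZMod 3).val : ℤ) = 1 by decide, zpow_one]

theorem pw_eq {a : G} (ha : a ^ 3 = 1) (n : ℤ) : a ^ n = pw a (n : ZMod 3) :=
  zpow_congr_three ha (by simp)

theorem pw_add {a : G} (ha : a ^ 3 = 1) (c d : ZMod 3) : pw a c * pw a d = pw a (c + d) := by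
  rw [pw, pw, ← zpow_add, pw_eq ha]
  simp

theorem conj_pow' (c a : G) (n : ℕ) : (c * a * c⁻¹) ^ n = c * a ^ n * c⁻¹ := conj_pow

theorem conj_pw (c a : G) (e : ZMod 3) : c * pw a e * c⁻¹ = pw (c * a * c⁻¹) e := by
  rw [pw, pw, conj_zpow]

/-- A frame modulo the centre. -/
structure Fr (z : G) (C Q X : Subgroup G) (i y v a b : G) : Prop where
  hv : v = i * y * i⁻¹
  hb : b = i * a * i⁻¹
  iC : i ∈ C
  yX : y ∈ X
  vX : v ∈ X
  aQ : a ∈ Q
  bQ : b ∈ Q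
  isq : ∀ q ∈ Q, MZ z (i * (i * q * i⁻¹) * i⁻¹) q⁻¹
  ay : ⁅a, y⁆ = z
  av : ⁅a, v⁆ = 1
  bv : ⁅b, v⁆ = z
  by' : ⁅b, y⁆ = 1
  ab : ⁅a, b⁆ = 1
  span : ∀ w ∈ X, ∃ p q : ℤ, MZ z (y ^ p * v ^ q) w

/-- The element with given coordinates. -/
def E (y v a b : G) (w : V4) : G :=
  pw y w.1 * pw v w.2.1 * (pw a w.2.2.1 * pw b w.2.2.2)

variable {z : G} {C Q X : Subgroup G} (h : Hyp z C Q) (hX : IsX z C Q X)
include h

theorem swap {a b : G} (ha : a ∈ Q) (hb : b ∈ Q) : MZ z (a * b) (b * a) := by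
  have e : (a * b)⁻¹ * (b * a) = ⁅b⁻¹, a⁻¹⁆ := by simp only [commutatorElement_def]; group
  rw [MZ, e]
  exact h.comm _ (inv_mem hb) _ (inv_mem ha)

theorem mm4 {a b c d : G} (ha : a ∈ Q) (hb : b ∈ Q) (hc : c ∈ Q) (hd : d ∈ Q) :
    MZ z (a * b * (c * d)) (a * c * (b * d)) := by
  have e1 : a * b * (c * d) = a * (b * c) * d := by group
  have e2 : a * c * (b * d) = a * (c * b) * d := by group
  rw [e1, e2]
  exact h.MZ_mul (h.MZ_mul (h.MZ_refl a) (swap h hb hc) (h.QC (mul_mem hb hc))) (h.MZ_refl d)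
    (h.QC hd)

theorem zpow_z_inj {c d : ZMod 3} (e : pw z c = pw z d) : c = d := by
  have h1 : z ^ ((c.val : ℤ) - d.val) = 1 := by
    rw [zpow_sub]; exact mul_inv_eq_one.2 e
  have h2 : ((3 : ℕ) : ℤ) ∣ (c.val : ℤ) - d.val := by
    have := orderOf_dvd_iff_zpow_eq_one.2 h1
    rwa [h.ordz] at this
  have h3 : (((c.val : ℤ) - d.val : ℤ) : ZMod 3) = 0 :=
    (ZMod.intCast_zmod_eq_zero_iff_dvd _ 3).2 h2
  push_cast at h3
  simp only [ZMod.natCast_zmod_val] at h3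
  exact sub_eq_zero.1 h3

theorem exists_pw {a b : G} (ha : a ∈ Q) (hb : b ∈ Q) : ∃ c, ⁅a, b⁆ = pw z c := by
  obtain ⟨t, ht⟩ := mem_zpowers_iff.1 (h.comm a ha b hb)
  exact ⟨t, by rw [← ht, pw_eq h.z3]⟩

theorem comm_pw {a b : G} (ha : a ∈ Q) (hb : b ∈ Q) (c : ZMod 3) :
    ⁅pw a c, b⁆ = ⁅a, b⁆ ^ (c.val : ℤ) := h.comm_zpow_left ha hb _

theorem comm_congr {a a' b : G} (e : MZ z a a') (ha : a ∈ Q) (hb : b ∈ Q) : ⁅a', b⁆ = ⁅a, b⁆ := by
  obtain ⟨t, rfl⟩ := h.exists_eq_mul e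
  exact h.comm_zp (zpow_mem (mem_zpowers z) t) hb ha

theorem comm_congr₂ {a a' b b' : G} (e : MZ z a a') (e' : MZ z b b') (ha : a ∈ Q) (hb : b ∈ Q) :
    ⁅a', b'⁆ = ⁅a, b⁆ := by
  have ha' : a' ∈ Q := h.MZ_mem (zpowers_le.2 h.zQ) e ha
  have hb' : b' ∈ Q := h.MZ_mem (zpowers_le.2 h.zQ) e' hb
  rw [comm_congr h e ha hb']
  rw [← commutatorElement_inv b' a, comm_congr h e' hb ha, commutatorElement_inv]

variable {i y v a b : G} (F : Fr z C Q X i y v a b)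
include hX F

theorem Fr.yQ : y ∈ Q := hX.le F.yX
theorem Fr.vQ : v ∈ Q := hX.le F.vX

theorem E_mem (w : V4) : E y v a b w ∈ Q :=
  mul_mem (mul_mem (zpow_mem (F.yQ h hX) _) (zpow_mem (F.vQ h hX) _))
    (mul_mem (zpow_mem F.aQ _) (zpow_mem F.bQ _))

theorem E_mul (u w : V4) :
    MZ z (E y v a b u * E y v a b w) (E y v a b (u + w)) := by
  have hy := F.yQ h hX; have hv := F.vQ h hX; have ha := F.aQ; have hb := F.bQ
  have m1 : ∀ (g : G) (c : ZMod 3), g ∈ Q → pw g c ∈ Q := fun g c hg => zpow_mem hg _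
  refine h.MZ_trans (mm4 h (mul_mem (m1 y _ hy) (m1 v _ hv)) (mul_mem (m1 a _ ha) (m1 b _ hb))
    (mul_mem (m1 y _ hy) (m1 v _ hv)) (mul_mem (m1 a _ ha) (m1 b _ hb))) ?_
  show MZ z _ (pw y (u.1 + w.1) * pw v (u.2.1 + w.2.1) *
    (pw a (u.2.2.1 + w.2.2.1) * pw b (u.2.2.2 + w.2.2.2)))
  rw [← pw_add (h.expQ y hy), ← pw_add (h.expQ v hv), ← pw_add (h.expQ a ha),
    ← pw_add (h.expQ b hb)]
  refine h.MZ_mul (mm4 h (m1 y _ hy) (m1 v _ hv) (m1 y _ hy) (m1 v _ hv))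
    (mm4 h (m1 a _ ha) (m1 b _ hb) (m1 a _ ha) (m1 b _ hb)) ?_
  exact h.QC (mul_mem (mul_mem (m1 a _ ha) (m1 b _ hb)) (mul_mem (m1 a _ ha) (m1 b _ hb)))

theorem E_zero : E y v a b 0 = 1 := by simp [E, pw_zero]

theorem E_sm {g : G} {e : V4} (hg : g ∈ Q) (he : MZ z g (E y v a b e)) (c : ZMod 3) :
    MZ z (pw g c) (E y v a b (sm c e)) := by
  have key : ∀ n : ℕ, MZ z (g ^ n) (E y v a b (sm (n : ZMod 3) e)) := by
    intro n
    induction n with
    | zero =>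
      rw [pow_zero, Nat.cast_zero, show sm 0 e = 0 by simp [sm, Prod.ext_iff], E_zero h hX F]
      exact h.MZ_refl 1
    | succ n ih =>
      rw [pow_succ]
      refine h.MZ_trans (h.MZ_mul ih he (h.QC hg)) (h.MZ_trans (E_mul h hX F _ _) ?_)
      rw [show sm (n : ZMod 3) e + e = sm ((n + 1 : ℕ) : ZMod 3) e by
        simp only [sm, Prod.ext_iff, Prod.fst_add, Prod.snd_add]; push_cast
        refine ⟨?_, ?_, ?_, ?_⟩ <;> ring]
      exact h.MZ_refl _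
  have := key c.val
  rw [ZMod.natCast_zmod_val] at this
  rwa [pw, zpow_natCast]

theorem E_conj {c : G} (hc : c ∈ C) {e1 e2 e3 e4 : V4}
    (h1 : MZ z (c * y * c⁻¹) (E y v a b e1)) (h2 : MZ z (c * v * c⁻¹) (E y v a b e2))
    (h3 : MZ z (c * a * c⁻¹) (E y v a b e3)) (h4 : MZ z (c * b * c⁻¹) (E y v a b e4)) (w : V4) :
    MZ z (c * E y v a b w * c⁻¹) (E y v a b (lin e1 e2 e3 e4 w)) := by
  have e : c * E y v a b w * c⁻¹ = pw (c * y * c⁻¹) w.1 * pw (c * v * c⁻¹) w.2.1 *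
      (pw (c * a * c⁻¹) w.2.2.1 * pw (c * b * c⁻¹) w.2.2.2) := by
    rw [← conj_pw, ← conj_pw, ← conj_pw, ← conj_pw, E]; group
  rw [e]
  have q1 := h.conj_mem_Q hc (F.yQ h hX)
  have q2 := h.conj_mem_Q hc (F.vQ h hX)
  have q3 := h.conj_mem_Q hc F.aQ
  have q4 := h.conj_mem_Q hc F.bQ
  have m1 : ∀ (g : G) (c : ZMod 3), g ∈ Q → pw g c ∈ Q := fun g c hg => zpow_mem hg _
  refine h.MZ_trans (h.MZ_mul (h.MZ_mul (E_sm h hX F q1 h1 _) (E_sm h hX F q2 h2 _)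
    (h.QC (m1 _ _ q2))) (h.MZ_mul (E_sm h hX F q3 h3 _) (E_sm h hX F q4 h4 _) (h.QC (m1 _ _ q4)))
    (h.QC (mul_mem (m1 _ _ q3) (m1 _ _ q4)))) ?_
  refine h.MZ_trans (h.MZ_mul (E_mul h hX F _ _) (E_mul h hX F _ _)
    (h.QC (mul_mem (E_mem h hX F _) (E_mem h hX F _)))) (h.MZ_trans (E_mul h hX F _ _) ?_)
  rw [lin, ← add_assoc]
  exact h.MZ_refl _

theorem comm_E_gen (w : V4) :
    ⁅E y v a b w, y⁆ = pw z w.2.2.1 ∧ ⁅E y v a b w, v⁆ = pw z w.2.2.2 ∧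
    ⁅E y v a b w, a⁆ = pw z (-w.1) ∧ ⁅E y v a b w, b⁆ = pw z (-w.2.1) := by
  have hy := F.yQ h hX; have hv := F.vQ h hX; have ha := F.aQ; have hb := F.bQ
  have m1 : ∀ (g : G) (c : ZMod 3), g ∈ Q → pw g c ∈ Q := fun g c hg => zpow_mem hg _
  have hyv : ⁅y, v⁆ = 1 :=
    commutatorElement_eq_one_iff_commute.2 (hX.comm y F.yX v F.vX)
  have hvy : ⁅v, y⁆ = 1 := by rw [← commutatorElement_inv y v, hyv, inv_one]
  have hba : ⁅b, a⁆ = 1 := by rw [← commutatorElement_inv a b, F.ab, inv_one]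
  have hya : ⁅y, a⁆ = z⁻¹ := by rw [← commutatorElement_inv a y, F.ay]
  have hvb : ⁅v, b⁆ = z⁻¹ := by rw [← commutatorElement_inv b v, F.bv]
  have hva : ⁅v, a⁆ = 1 := by rw [← commutatorElement_inv a v, F.av, inv_one]
  have hyb : ⁅y, b⁆ = 1 := by rw [← commutatorElement_inv b y, F.by', inv_one]
  have key : ∀ t ∈ Q, ⁅E y v a b w, t⁆ = ⁅y, t⁆ ^ (w.1.val : ℤ) * ⁅v, t⁆ ^ (w.2.1.val : ℤ) *
      (⁅a, t⁆ ^ (w.2.2.1.val : ℤ) * ⁅b, t⁆ ^ (w.2.2.2.val : ℤ)) := fun t ht => by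
    rw [E, h.comm_mul_left (mul_mem (m1 _ _ hy) (m1 _ _ hv)) (mul_mem (m1 _ _ ha) (m1 _ _ hb)) ht,
      h.comm_mul_left (m1 _ _ hy) (m1 _ _ hv) ht, h.comm_mul_left (m1 _ _ ha) (m1 _ _ hb) ht,
      comm_pw h hy ht, comm_pw h hv ht, comm_pw h ha ht, comm_pw h hb ht]
  have neg : ∀ c : ZMod 3, z⁻¹ ^ (c.val : ℤ) = pw z (-c) := fun c => by
    rw [inv_zpow', pw_eq h.z3]; simp
  refine ⟨?_, ?_, ?_, ?_⟩
  · simp [key y hy, commutatorElement_self, hvy, F.ay, F.by', pw]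
  · simp [key v hv, commutatorElement_self, hyv, F.av, F.bv, pw]
  · rw [key a ha]; simp only [commutatorElement_self, hya, hva, hba, one_zpow, mul_one, neg]
  · rw [key b hb]; simp only [commutatorElement_self, hyb, hvb, F.ab, one_zpow, mul_one, one_mul, neg]

theorem comm_E (u w : V4) :
    ⁅E y v a b u, E y v a b w⁆ = pw z (frm u w) := by
  obtain ⟨g1, g2, g3, g4⟩ := comm_E_gen h hX F u
  have hu := E_mem h hX F u
  have hy := F.yQ h hX; have hv := F.vQ h hX; have ha := F.aQ; have hb := F.bQ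
  have m1 : ∀ (g : G) (c : ZMod 3), g ∈ Q → pw g c ∈ Q := fun g c hg => zpow_mem hg _
  have hr : ∀ g ∈ Q, ∀ c : ZMod 3, ⁅E y v a b u, pw g c⁆ = ⁅E y v a b u, g⁆ ^ (c.val : ℤ) := by
    intro g hg c
    rw [← commutatorElement_inv, comm_pw h hg hu, ← commutatorElement_inv (E y v a b u) g,
      inv_zpow, inv_inv]
  have zc : ∀ c d : ZMod 3, pw z c ^ (d.val : ℤ) = pw z (c * d) := fun c d => by
    rw [pw, ← zpow_mul, pw_eq h.z3]; simp
  conv_lhs => rw [show E y v a b w =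
    pw y w.1 * pw v w.2.1 * (pw a w.2.2.1 * pw b w.2.2.2) from rfl]
  rw [h.comm_mul_right hu (mul_mem (m1 _ _ hy) (m1 _ _ hv)) (mul_mem (m1 _ _ ha) (m1 _ _ hb)),
    h.comm_mul_right hu (m1 _ _ hy) (m1 _ _ hv), h.comm_mul_right hu (m1 _ _ ha) (m1 _ _ hb),
    hr y hy, hr v hv, hr a ha, hr b hb, g1, g2, g3, g4, zc, zc, zc, zc, pw_add h.z3, pw_add h.z3,
    pw_add h.z3]
  congr 1
  simp [frm]; ring

theorem coord {q : G} (hq : q ∈ Q) : ∃ w, MZ z q (E y v a b w) := by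
  obtain ⟨r, hr⟩ := exists_pw h hq (F.yQ h hX)
  obtain ⟨s, hs⟩ := exists_pw h hq (F.vQ h hX)
  obtain ⟨h1, h2, -, -⟩ := comm_E_gen h hX F (0, 0, r, s)
  set e := E y v a b (0, 0, r, s)
  have he : e ∈ Q := E_mem h hX F _
  set t := q * e⁻¹ with ht
  have htQ : t ∈ Q := mul_mem hq (inv_mem he)
  have cy : Commute t y := commutatorElement_eq_one_iff_commute.1 (by
    rw [ht, h.comm_mul_left hq (inv_mem he) (F.yQ h hX), h.comm_inv_left he (F.yQ h hX), hr, h1,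
      mul_inv_cancel])
  have cv : Commute t v := commutatorElement_eq_one_iff_commute.1 (by
    rw [ht, h.comm_mul_left hq (inv_mem he) (F.vQ h hX), h.comm_inv_left he (F.vQ h hX), hs, h2,
      mul_inv_cancel])
  have htX : t ∈ X := by
    rw [← hX.cent, mem_centralizer_iff]
    intro w hw
    obtain ⟨p, p', hp⟩ := F.span w hw
    exact (h.MZ_commute hp (h.QC htQ) ((cy.zpow_right p).mul_right (cv.zpow_right p'))).symm.eq
  obtain ⟨p, p', hp⟩ := F.span t htX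
  have e2 : y ^ p * v ^ p' = E y v a b ((p : ZMod 3), (p' : ZMod 3), 0, 0) := by
    simp only [E, pw_zero, mul_one]
    rw [← pw_eq (h.expQ y (F.yQ h hX)), ← pw_eq (h.expQ v (F.vQ h hX))]
  rw [e2] at hp
  refine ⟨((p : ZMod 3), (p' : ZMod 3), 0, 0) + (0, 0, r, s),
    h.MZ_trans ?_ (E_mul h hX F _ _)⟩
  have e3 : q = t * e := by rw [ht, inv_mul_cancel_right]
  rw [e3]
  exact h.MZ_mul (h.MZ_symm hp) (h.MZ_refl e) (h.QC he)

theorem E_inj {u w : V4} (e : MZ z (E y v a b u) (E y v a b w)) : u = w := by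
  obtain ⟨a1, a2, a3, a4⟩ := comm_E_gen h hX F u
  obtain ⟨b1, b2, b3, b4⟩ := comm_E_gen h hX F w
  have k : ∀ t ∈ Q, ⁅E y v a b w, t⁆ = ⁅E y v a b u, t⁆ :=
    fun t ht => comm_congr h e (E_mem h hX F u) ht
  have e1 := zpow_z_inj h (a1.symm.trans ((k y (F.yQ h hX)).symm.trans b1))
  have e2 := zpow_z_inj h (a2.symm.trans ((k v (F.vQ h hX)).symm.trans b2))
  have e3 := zpow_z_inj h (a3.symm.trans ((k a F.aQ).symm.trans b3))
  have e4 := zpow_z_inj h (a4.symm.trans ((k b F.bQ).symm.trans b4))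
  obtain ⟨u1, u2, u3, u4⟩ := u
  obtain ⟨w1, w2, w3, w4⟩ := w
  simp only [Prod.mk.injEq]
  exact ⟨neg_injective e3, neg_injective e4, e1, e2⟩

theorem E_inv (w : V4) : MZ z (E y v a b w)⁻¹ (E y v a b (-w)) := by
  have h1 := E_mul h hX F w (-w)
  rw [add_neg_cancel, E_zero h hX F] at h1
  have h2 := h.MZ_mul (h.MZ_refl (E y v a b w)⁻¹) h1
    (h.QC (mul_mem (E_mem h hX F _) (E_mem h hX F _)))
  rw [inv_mul_cancel_left, mul_one] at h2
  exact h.MZ_symm h2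

theorem i_conj (w : V4) :
    MZ z (i * E y v a b w * i⁻¹) (E y v a b (Im w)) := by
  have E1 : E y v a b (1, 0, 0, 0) = y := by simp [E, pw_zero, pw_one]
  have E2 : E y v a b (0, 1, 0, 0) = v := by simp [E, pw_zero, pw_one]
  have E3 : E y v a b (0, 0, 1, 0) = a := by simp [E, pw_zero, pw_one]
  have E4 : E y v a b (0, 0, 0, 1) = b := by simp [E, pw_zero, pw_one]
  have h1 : MZ z (i * y * i⁻¹) (E y v a b (0, 1, 0, 0)) := by
    rw [E2, ← F.hv]; exact h.MZ_refl v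
  have h3 : MZ z (i * a * i⁻¹) (E y v a b (0, 0, 0, 1)) := by
    rw [E4, ← F.hb]; exact h.MZ_refl b
  have h2 : MZ z (i * v * i⁻¹) (E y v a b (-1, 0, 0, 0)) := by
    rw [show i * v * i⁻¹ = i * (i * y * i⁻¹) * i⁻¹ by rw [← F.hv]]
    refine h.MZ_trans (F.isq y (F.yQ h hX)) ?_
    have := E_inv h hX F (1, 0, 0, 0)
    rw [E1] at this
    simpa using this
  have h4 : MZ z (i * b * i⁻¹) (E y v a b (0, 0, -1, 0)) := by
    rw [show i * b * i⁻¹ = i * (i * a * i⁻¹) * i⁻¹ by rw [← F.hb]]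
    refine h.MZ_trans (F.isq a F.aQ) ?_
    have := E_inv h hX F (0, 0, 1, 0)
    rw [E3] at this
    simpa using this
  have := E_conj h hX F F.iC h1 h2 h3 h4 w
  have e : lin (0, 1, 0, 0) (-1, 0, 0, 0) (0, 0, 0, 1) (0, 0, -1, 0) w = Im w := by
    simp [lin, sm, Im, Prod.ext_iff]
  rwa [e] at this

end Compl3

namespace Hyp

open Compl3

variable {G : Type*} [Group G] [Finite G] {z : G} {C Q X : Subgroup G} (h : Hyp z C Q)
include h

theorem exists_frame (hX : IsX z C Q X) {j i : G} (hji : JI z C Q j i) {y : G} (hy : y ∈ X)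
    (hyz : y ∉ zpowers z) : ∃ v a b, Fr z C Q X i y v a b := by
  set v := i * y * i⁻¹ with hv
  have hyQ := hX.le hy
  have hvX : v ∈ X := hX.normal i hji.iC y hy
  have hvQ := hX.le hvX
  have hyv : Commute y v := hX.comm y hy v hvX
  have hspan : ∀ w ∈ X, ∃ p q : ℤ, MZ z (y ^ p * v ^ q) w := by
    have hle : zpowers z ⊔ zpowers y ⊔ zpowers v ≤ X :=
      sup_le (sup_le (zpowers_le.2 hX.zX) (zpowers_le.2 hy)) (zpowers_le.2 hvX)
    have h1 := h.three_mul_le (A := zpowers z) (B := zpowers z ⊔ zpowers y)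
      (lt_of_le_of_ne le_sup_left fun e => hyz (e.symm ▸ mem_sup_right (mem_zpowers y)))
      (sup_le (zpowers_le.2 h.zQ) (zpowers_le.2 hyQ))
    have h2 := h.three_mul_le (A := zpowers z ⊔ zpowers y)
      (B := zpowers z ⊔ zpowers y ⊔ zpowers v)
      (lt_of_le_of_ne le_sup_left fun e =>
        hji.i_not_mem h hyQ hyz (e.symm ▸ mem_sup_right (mem_zpowers _))) (le_trans hle hX.le)
    rw [Nat.card_zpowers, h.ordz] at h1
    have heq := Subgroup.eq_of_le_of_card_ge hle (by rw [hX.card]; omega)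
    intro w hw
    rw [← heq] at hw
    exact h.mem_span (h.QC hyQ) (h.QC hvQ) hyv hw
  obtain ⟨q, hqQ, hqv, hqy⟩ : ∃ q ∈ Q, ⁅q, v⁆ = 1 ∧ ⁅q, y⁆ ≠ 1 := by
    by_contra hcon
    push Not at hcon
    have h1 := h.card_cent_ge Q le_rfl hvQ
    rw [h.cardQ] at h1
    have hle : Q ⊓ centralizer ({v} : Set G) ≤ X := by
      intro t ht
      have ctv : Commute t v := mem_centralizer_singleton_iff.1 ht.2
      have cty : Commute t y := commutatorElement_eq_one_iff_commute.1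
        (hcon t ht.1 (commutatorElement_eq_one_iff_commute.2 ctv))
      rw [← hX.cent, mem_centralizer_iff]
      intro w hw
      obtain ⟨p, p', hp⟩ := hspan w hw
      exact (h.MZ_commute hp (h.QC ht.1) ((cty.zpow_right p).mul_right
        (ctv.zpow_right p'))).symm.eq
    have := Subgroup.card_le_of_le hle
    rw [hX.card] at this
    omega
  obtain ⟨m, hm⟩ : ∃ m : ℤ, ⁅q, y⁆ ^ m = z := by
    have : z ∈ zpowers ⁅q, y⁆ := by
      rcases (mem_zp3 h.z3).1 (h.comm q hqQ y hyQ) with e | e | e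
      · exact absurd e hqy
      · rw [e]; exact mem_zpowers _
      · rw [e, zpowers_inv]; exact mem_zpowers _
    exact mem_zpowers_iff.1 this
  set a0 := q ^ m with ha0
  have ha0Q : a0 ∈ Q := zpow_mem hqQ m
  have a0y : ⁅a0, y⁆ = z := by rw [ha0, h.comm_zpow_left hqQ hyQ, hm]
  have a0v : ⁅a0, v⁆ = 1 := by rw [ha0, h.comm_zpow_left hqQ hvQ, hqv, one_zpow]
  obtain ⟨t, ht⟩ := mem_zpowers_iff.1 (h.comm a0 ha0Q (i * a0 * i⁻¹) (h.conj_mem_Q hji.iC ha0Q))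
  set a := a0 * v ^ (-t) with ha
  set b := i * a * i⁻¹ with hb
  have haQ : a ∈ Q := mul_mem ha0Q (zpow_mem hvQ _)
  have hbQ : b ∈ Q := h.conj_mem_Q hji.iC haQ
  have hvy : ⁅v, y⁆ = 1 := commutatorElement_eq_one_iff_commute.2 hyv.symm
  have ay : ⁅a, y⁆ = z := by
    rw [ha, h.comm_mul_left ha0Q (zpow_mem hvQ _) hyQ, h.comm_zpow_left hvQ hyQ, hvy, one_zpow,
      mul_one, a0y]
  have av : ⁅a, v⁆ = 1 := by
    rw [ha, h.comm_mul_left ha0Q (zpow_mem hvQ _) hvQ, h.comm_zpow_left hvQ hvQ,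
      commutatorElement_self, one_zpow, mul_one, a0v]
  have cI : ∀ u w : G, ⁅i * u * i⁻¹, i * w * i⁻¹⁆ = i * ⁅u, w⁆ * i⁻¹ := fun u w => by
    simp only [commutatorElement_def]; group
  have hiz : i * z * i⁻¹ = z := h.fix_z hji.iC
  have bv : ⁅b, v⁆ = z := by rw [hb, hv, cI, ay, hiz]
  have isq : ∀ q ∈ Q, MZ z (i * (i * q * i⁻¹) * i⁻¹) q⁻¹ :=
    fun q hq => hji.sq_conj h hji.iC hji.sq hq
  have by' : ⁅b, y⁆ = 1 := by
    have e : MZ z y (i * v⁻¹ * i⁻¹) := by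
      have := h.MZ_inv (isq y hyQ) (h.QC (h.conj_mem_Q hji.iC (h.conj_mem_Q hji.iC hyQ)))
      rw [inv_inv, ← hv, show (i * v * i⁻¹)⁻¹ = i * v⁻¹ * i⁻¹ by group] at this
      exact h.MZ_symm this
    rw [← comm_congr₂ h (h.MZ_refl b) e hbQ hyQ, hb, cI,
      commutatorElement_eq_one_iff_commute.2
        (commutatorElement_eq_one_iff_commute.1 av).inv_right, mul_one, mul_inv_cancel]
  refine ⟨v, a, b, hv, hb, hji.iC, hy, hvX, haQ, hbQ, isq, ay, av, bv, by', ?_, hspan⟩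
  set b0 := i * a0 * i⁻¹ with hb0
  have hb0Q : b0 ∈ Q := h.conj_mem_Q hji.iC ha0Q
  have ebb : MZ z (b0 * y ^ t) b := by
    have e1 : b = b0 * (i * v * i⁻¹) ^ (-t) := by
      have gen : ∀ u w : G, i * (u * w) * i⁻¹ = i * u * i⁻¹ * (i * w * i⁻¹) :=
        fun u w => by group
      rw [hb, ha, gen]
      exact congrArg (i * a0 * i⁻¹ * ·) conj_zpow.symm
    rw [e1]
    have := h.MZ_zpow (h.MZ_symm (isq y hyQ)) (inv_mem (h.QC hyQ)) (-t)
    rw [inv_zpow', neg_neg, ← hv] at this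
    exact h.MZ_mul (h.MZ_refl b0) this (zpow_mem (h.QC hyQ) _)
  have hvb0 : ⁅v, b0⁆ = z⁻¹ := by
    rw [hv, hb0, cI, ← commutatorElement_inv a0 y, a0y]
    calc i * z⁻¹ * i⁻¹ = (i * z * i⁻¹)⁻¹ := by group
      _ = z⁻¹ := by rw [hiz]
  have a0yt : ⁅a0, y ^ t⁆ = z ^ t := by
    rw [← commutatorElement_inv, h.comm_zpow_left hyQ ha0Q, ← commutatorElement_inv a0 y, a0y,
      inv_zpow, inv_inv]
  rw [comm_congr₂ h (h.MZ_refl a) ebb haQ (mul_mem hb0Q (zpow_mem hyQ _)),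
    h.comm_mul_right haQ hb0Q (zpow_mem hyQ _)]
  rw [ha, h.comm_mul_left ha0Q (zpow_mem hvQ _) hb0Q,
    h.comm_mul_left ha0Q (zpow_mem hvQ _) (zpow_mem hyQ _), h.comm_zpow_left hvQ hb0Q, hvb0,
    h.comm_zpow_left hvQ (zpow_mem hyQ _),
    commutatorElement_eq_one_iff_commute.2 (hyv.symm.zpow_right t), one_zpow, mul_one, a0yt, ← ht,
    inv_zpow', neg_neg, ← zpow_add, ← zpow_add, zpow_congr_three h.z3 (n := 0) (by
      have : ∀ s : ZMod 3, s + s + s = 0 := by decide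
      push_cast; exact this _), zpow_zero]

theorem conjQ_le {c : G} (hcz : c * z * c⁻¹ = z ∨ c * z * c⁻¹ = z⁻¹) {q : G} (hq : q ∈ Q) :
    c * q * c⁻¹ ∈ Q := by
  obtain ⟨j, i, hji⟩ := h.exists_j
  have hcC : ∀ d, d ∈ C → c * d * c⁻¹ ∈ C := by
    intro d hd
    rw [h.memC]
    rcases hcz with e | e
    · calc c * d * c⁻¹ * z = c * d * c⁻¹ * (c * z * c⁻¹) := by rw [e]
        _ = c * (d * z) * c⁻¹ := by group
        _ = c * z * c⁻¹ * (c * d * c⁻¹) := by rw [(h.commute_z hd).eq]; group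
        _ = _ := by rw [e]
    · have e' : c * z⁻¹ * c⁻¹ = z := by
        rw [show c * z⁻¹ * c⁻¹ = (c * z * c⁻¹)⁻¹ by group, e, inv_inv]
      calc c * d * c⁻¹ * z = c * d * c⁻¹ * (c * z⁻¹ * c⁻¹) := by rw [e']
        _ = c * (d * z⁻¹) * c⁻¹ := by group
        _ = c * z⁻¹ * c⁻¹ * (c * d * c⁻¹) := by rw [(h.commute_z hd).inv_right.eq]; group
        _ = _ := by rw [e']
  set P := Qc Q c with hP
  have hPC : P ≤ C := by
    rintro _ ⟨w, hw, rfl⟩
    exact hcC w (h.QC hw)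
  have hPn : ∀ d ∈ C, ∀ p ∈ P, d * p * d⁻¹ ∈ P := by
    intro d hd p hp
    refine mem_Qc.2 ?_
    have e : c⁻¹ * (d * p * d⁻¹) * c = (c⁻¹ * d * c) * (c⁻¹ * p * c) * (c⁻¹ * d * c)⁻¹ := by group
    rw [e]
    refine h.normal _ ?_ _ (mem_Qc.1 hp)
    rw [h.memC]
    rcases hcz with e1 | e1
    · calc c⁻¹ * d * c * z = c⁻¹ * (d * (c * z * c⁻¹)) * c := by group
        _ = c⁻¹ * (z * d) * c := by rw [e1, (h.commute_z hd).eq]
        _ = c⁻¹ * (c * z * c⁻¹ * d) * c := by rw [e1]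
        _ = _ := by group
    · calc c⁻¹ * d * c * z = c⁻¹ * (d * (c * z * c⁻¹)) * c := by group
        _ = c⁻¹ * (z⁻¹ * d) * c := by rw [e1, (h.commute_z hd).inv_right.eq]
        _ = c⁻¹ * (c * z * c⁻¹ * d) * c := by rw [e1]
        _ = _ := by group
  by_contra hcq
  set g := c * q * c⁻¹ with hg
  have hgP : g ∈ P := ⟨q, hq, rfl⟩
  have hgC : g ∈ C := hPC hgP
  have hg3 : g ^ 3 ∈ Q := by rw [h.pow_conj_eq_one hgP]; exact one_mem _
  obtain ⟨k, hk, hkk, hki, -, -, -⟩ := hji.step g hgC hg3 hcq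
  have hkC : k ∈ C := hk ▸ mul_mem (mul_mem hgC hji.iC) (inv_mem hgC)
  have hkiP : k * i⁻¹ ∈ P := by
    rw [hk, show g * i * g⁻¹ * i⁻¹ = g * (i * g⁻¹ * i⁻¹) by group]
    exact mul_mem hgP (hPn i hji.iC _ (inv_mem hgP))
  haveI := h.normal_subgroupOf
  set π := QuotientGroup.mk' (Q.subgroupOf C)
  have hπ : ∀ (u w : C), MQ Q (u : G) w → π u = π w := fun u w e => by
    rw [QuotientGroup.mk'_apply, QuotientGroup.mk'_apply, QuotientGroup.eq, mem_subgroupOf]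
    exact e
  set I := π ⟨i, hji.iC⟩
  set K := π ⟨k, hkC⟩
  set J := π ⟨j, hji.jC⟩
  have eII : I * I = J := by
    rw [← map_mul]; exact hπ _ _ hji.sq
  have eKK : K * K = J := by
    rw [← map_mul]; exact hπ _ _ hkk
  have eKI : K * I = J * (I * K) := by
    rw [← map_mul, ← map_mul, ← map_mul]; exact hπ _ _ hki
  have hJ2 : J * J = 1 := by
    rw [← map_mul]
    convert map_one π
    exact Subtype.ext (by simp only [Subgroup.coe_mul]; rw [← pow_two, ← hji.ordj, pow_orderOf_eq_one]; rfl)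
  have hx3 : (K * I⁻¹) ^ 3 = 1 := by
    rw [← map_inv, ← map_mul, ← map_pow]
    convert map_one π
    exact Subtype.ext (by simpa using h.pow_conj_eq_one hkiP)
  have hsq : (K * I⁻¹) ^ 2 = J := by
    have hJI : Commute J I := by rw [← eII]; exact (Commute.refl I).mul_left (Commute.refl I)
    have hJK : Commute J K := by rw [← eKK]; exact (Commute.refl K).mul_left (Commute.refl K)
    have hIinv : I⁻¹ = J * I := inv_eq_of_mul_eq_one_right (by rw [← mul_assoc, ← hJI.eq, mul_assoc, eII, hJ2])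
    calc (K * I⁻¹) ^ 2 = (K * (J * I)) * (K * (J * I)) := by rw [hIinv, pow_two]
      _ = (J * (K * I)) * (J * (K * I)) := by
        rw [show K * (J * I) = J * (K * I) by rw [← mul_assoc, ← hJK.eq, mul_assoc]]
      _ = (J * J) * ((K * I) * (K * I)) := (hJK.mul_right hJI).symm.mul_mul_mul_comm _ _
      _ = J * (I * K) * (K * I) := by rw [hJ2, one_mul]; nth_rewrite 1 [eKI]; rfl
      _ = J * (I * (K * K) * I) := by group
      _ = J * (J * (I * I)) := by rw [eKK, ← hJI.eq]; group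
      _ = J := by rw [eII, hJ2, mul_one]
  have hJ1 : J = 1 := by
    have h6 : (K * I⁻¹) ^ 6 = 1 := by rw [show 6 = 3 * 2 from rfl, pow_mul, hx3, one_pow]
    rw [show 6 = 2 * 3 from rfl, pow_mul, hsq, pow_succ, pow_two, hJ2, one_mul] at h6
    exact h6
  change (QuotientGroup.mk ⟨j, hji.jC⟩ : C ⧸ Q.subgroupOf C) = 1 at hJ1
  rw [QuotientGroup.eq_one_iff, mem_subgroupOf] at hJ1
  exact hji.jnot hJ1

/-- An element of order three of `C` outside `Q` commuting with `y` and with an involution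
congruent to `j`. -/
theorem exists_fixed_three (hX : IsX z C Q X) {j i : G} (hji : JI z C Q j i) {x y : G}
    (hy : x * z * x⁻¹ = y) (hyX : y ∈ X) (hyz : y ∉ zpowers z) :
    ∃ g j', g ∈ C ∧ g ^ 3 = 1 ∧ g ∉ Q ∧ g * y = y * g ∧ j' ∈ C ∧ MQ Q j j' ∧
      g * j' = j' * g := by
  have hyQ := hX.le hyX
  obtain ⟨j', hj'C, hj'2, hj'j, hj'y⟩ := h.exists_inverter hyQ hyz hji
  have hzy := h.z_mem_Qc hy hyQ hyz
  have hdisj : ∀ c, c ∈ zpowers z → c ∈ zpowers y → c = 1 := by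
    intro c hcz hcy
    rcases (mem_zp3 (h.expQ y hyQ)).1 hcy with e | e | e
    · exact e
    · exact absurd (e ▸ hcz) hyz
    · exact absurd (by simpa [e] using inv_mem hcz) hyz
  set A := Q ⊓ Qc Q x with hA
  have hA27 : Nat.card A ≤ 27 := h.card_abelian_le inf_le_left fun a ha b hb =>
    commutatorElement_eq_one_iff_commute.1
      (hdisj _ (h.comm a ha.1 b hb.1) (h.Qc_comm hy ha.2 hb.2))
  set W := (Q ⊓ centralizer ({x⁻¹ * z * x} : Set G)).map (MulAut.conj x).toMonoidHom with hW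
  have hW81 : 81 ≤ Nat.card W := by
    have h1 := h.card_cent_ge Q le_rfl (mem_Qc.1 hzy)
    rw [h.cardQ] at h1
    rw [hW, Subgroup.card_map_of_injective (MulAut.conj x).injective]
    omega
  have hWC : W ≤ C ⊓ Qc Q x := by
    rintro _ ⟨w, hw, rfl⟩
    refine ⟨h.memC.2 ?_, ⟨w, hw.1, rfl⟩⟩
    show x * w * x⁻¹ * z = z * (x * w * x⁻¹)
    calc x * w * x⁻¹ * z = x * (w * (x⁻¹ * z * x)) * x⁻¹ := by group
      _ = _ := by rw [mem_centralizer_singleton_iff.1 hw.2]; group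
  obtain ⟨u0, hu0W, hu0Q⟩ : ∃ g ∈ W, g ∉ Q := by
    by_contra hcon
    push Not at hcon
    have hle : W ≤ A := fun u hu => ⟨hcon u hu, (hWC hu).2⟩
    have := Subgroup.card_le_of_le hle
    omega
  have hu0C := (hWC hu0W).1
  have hu0P := (hWC hu0W).2
  have hj'P : j' * u0 * j'⁻¹ ∈ Qc Q x := by
    refine mem_Qc.2 ?_
    have e : x⁻¹ * (j' * u0 * j'⁻¹) * x =
        (x⁻¹ * j' * x) * (x⁻¹ * u0 * x) * (x⁻¹ * j' * x)⁻¹ := by group
    rw [e]
    refine h.conjQ_le (Or.inr ?_) (mem_Qc.1 hu0P)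
    calc x⁻¹ * j' * x * z * (x⁻¹ * j' * x)⁻¹ = x⁻¹ * (j' * (x * z * x⁻¹) * j'⁻¹) * x := by group
      _ = x⁻¹ * y⁻¹ * x := by rw [hy, hj'y]
      _ = z⁻¹ := by rw [← hy]; group
  set w := u0⁻¹ * (j' * u0 * j'⁻¹) with hw
  have hwP : w ∈ Qc Q x := mul_mem (inv_mem hu0P) hj'P
  have hjj : MQ Q (j' * u0) (u0 * j') := by
    haveI := h.normal_subgroupOf
    set π := QuotientGroup.mk' (Q.subgroupOf C)
    have hπ : ∀ (a b : C), π a = π b ↔ MQ Q (a : G) b := fun a b => by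
      rw [QuotientGroup.mk'_apply, QuotientGroup.mk'_apply, QuotientGroup.eq, mem_subgroupOf]
      rfl
    have e1 : π ⟨j, hji.jC⟩ = π ⟨j', hj'C⟩ := (hπ _ _).2 hj'j
    have e2 := (hπ (⟨j, hji.jC⟩ * ⟨u0, hu0C⟩) (⟨u0, hu0C⟩ * ⟨j, hji.jC⟩)).2 (hji.jcent u0 hu0C)
    refine (hπ (⟨j', hj'C⟩ * ⟨u0, hu0C⟩) (⟨u0, hu0C⟩ * ⟨j', hj'C⟩)).1 ?_
    rw [map_mul, map_mul, ← e1, ← map_mul, e2, map_mul]
  have hwQ : w ∈ Q := by
    have h1 := h.normal j' hj'C _ (inv_mem hjj)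
    have e : j' * ((j' * u0)⁻¹ * (u0 * j'))⁻¹ * j'⁻¹ = w := by rw [hw]; group
    rwa [e] at h1
  have hj'w : j' * w * j'⁻¹ = w⁻¹ := by
    have hinv : j'⁻¹ = j' := inv_eq_of_mul_eq_one_left hj'2
    rw [hw, hinv]
    calc j' * (u0⁻¹ * (j' * u0 * j')) * j' = j' * u0⁻¹ * j' * u0 * (j' * j') := by group
      _ = j' * u0⁻¹ * j' * u0 := by rw [hj'2, mul_one]
      _ = j'⁻¹ * u0⁻¹ * j'⁻¹ * u0 := by rw [hinv]
      _ = _ := by group
  have hw3 : w ^ 3 = 1 := h.expQ w hwQ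
  refine ⟨u0 * w ^ 2, j', mul_mem hu0C (pow_mem (h.QC hwQ) 2), ?_, ?_, ?_, hj'C, hj'j, ?_⟩
  · exact h.pow_conj_eq_one (mul_mem hu0P (pow_mem hwP 2))
  · intro hm
    exact hu0Q (by simpa using mul_mem hm (inv_mem (pow_mem hwQ 2)))
  · exact (h.mem_conjC hy).1 (h.QC (mem_Qc.1 (mul_mem hu0P (pow_mem hwP 2))))
  · suffices e : j' * (u0 * w ^ 2) * j'⁻¹ = u0 * w ^ 2 from (mul_inv_eq_iff_eq_mul.1 e).symm
    calc j' * (u0 * w ^ 2) * j'⁻¹ = j' * u0 * j'⁻¹ * (j' * w * j'⁻¹) ^ 2 := by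
          rw [conj_pow]; group
      _ = u0 * (w * (w⁻¹) ^ 2) := by rw [hj'w, hw]; group
      _ = u0 * w ^ 2 := by
        congr 1
        rw [inv_pow, eq_comm, ← mul_inv_eq_one]
        calc w ^ 2 * (w * (w ^ 2)⁻¹)⁻¹ = w ^ 3 := by group
          _ = 1 := hw3

/-- A lift inverted by the involution. -/
theorem exists_inverted {j j' i : G} (hji : JI z C Q j i) (hj'j : MQ Q j j') {q : G} (hq : q ∈ Q) :
    ∃ q0, MZ z q q0 ∧ j' * q0 * j'⁻¹ = q0⁻¹ := by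
  have hj'C : j' ∈ C := h.mem_of_MQ hji.jC hj'j
  obtain ⟨t, ht⟩ := h.exists_eq_mul (h.MZ_symm (h.MZ_trans
    (h.MZ_symm (h.conj_congr hji.jC hj'j hq)) (hji.j_conj h hq)))
  refine ⟨q * z ^ t, h.MZ_of_eq t rfl, ?_⟩
  have hjz : j' * z ^ t * j'⁻¹ = z ^ t := by rw [← conj_zpow, h.fix_z hj'C]
  calc j' * (q * z ^ t) * j'⁻¹ = j' * q * j'⁻¹ * (j' * z ^ t * j'⁻¹) := by group
    _ = q⁻¹ * z ^ (t + t) := by rw [ht, hjz, mul_assoc, zpow_add]
    _ = q⁻¹ * z ^ (-t) := by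
      congr 1
      refine zpow_congr_three h.z3 ?_
      have : ∀ s : ZMod 3, s + s = -s := by decide
      push_cast; exact this _
    _ = (q * z ^ t)⁻¹ := by
      rw [mul_inv_rev, ← zpow_neg, ((h.commute_z (h.QC (inv_mem hq))).zpow_right _).eq]

theorem inverted_unique {j' : G} (hj'C : j' ∈ C) {p q : G} (hp : p ∈ Q) (e : MZ z p q)
    (hpi : j' * p * j'⁻¹ = p⁻¹) (hqi : j' * q * j'⁻¹ = q⁻¹) : p = q := by
  obtain ⟨t, rfl⟩ := h.exists_eq_mul e
  have hc : p⁻¹ * z ^ (-t) = z ^ (-t) * p⁻¹ :=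
    ((h.commute_z (h.QC (inv_mem hp))).zpow_right _).eq
  rw [show j' * (p * z ^ t) * j'⁻¹ = j' * p * j'⁻¹ * (j' * z ^ t * j'⁻¹) by group, hpi,
    ← conj_zpow, h.fix_z hj'C, mul_inv_rev, ← zpow_neg, ← hc] at hqi
  have h0 := mul_left_cancel hqi
  have : z ^ t = 1 := by
    rw [zpow_congr_three h.z3 (m := t) (n := -t + -t) (by
      have : ∀ s : ZMod 3, s = -s + -s := by decide
      push_cast; exact this _), zpow_add]
    nth_rewrite 1 [← h0]
    rw [← zpow_add, add_neg_cancel, zpow_zero]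
  rw [this, mul_one]

/-- A complement of `X` in its normaliser. -/
theorem exists_complement (hX : IsX z C Q X) :
    ∃ K0 : Subgroup G, K0 ≤ normalizer (X : Set G) ∧ K0 ⊓ X = ⊥ ∧
      ∀ n ∈ normalizer (X : Set G), ∃ k ∈ K0, k⁻¹ * n ∈ X := by
  obtain ⟨j, i, hji⟩ := h.exists_j
  obtain ⟨y, hyX, hyz⟩ : ∃ y ∈ X, y ∉ zpowers z := by
    by_contra hcon
    push Not at hcon
    have := Subgroup.card_le_of_le (H := X) (K := zpowers z) hcon
    rw [hX.card, Nat.card_zpowers, h.ordz] at this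
    omega
  obtain ⟨x, hxy⟩ := isConj_iff.1 (hX.zclass y hyX fun e => hyz (e ▸ one_mem _))
  obtain ⟨v, a, b, F⟩ := h.exists_frame hX hji hyX hyz
  obtain ⟨g, j', hgC, hg3, hgQ, hgy, hj'C, hj'j, hgj⟩ := h.exists_fixed_three hX hji hxy hyX hyz
  have hvX := F.vX
  have hvQ := hX.le hvX
  have hyQ := hX.le hyX
  have E1 : E y v a b (1, 0, 0, 0) = y := by simp [E, pw_zero, pw_one]
  have E2 : E y v a b (0, 1, 0, 0) = v := by simp [E, pw_zero, pw_one]
  have E3 : E y v a b (0, 0, 1, 0) = a := by simp [E, pw_zero, pw_one]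
  have E4 : E y v a b (0, 0, 0, 1) = b := by simp [E, pw_zero, pw_one]
  have hgy' : g * y * g⁻¹ = y := by rw [hgy, mul_inv_cancel_right]
  have gY : MZ z (g * y * g⁻¹) (E y v a b (1, 0, 0, 0)) := by
    rw [E1, hgy']; exact h.MZ_refl y
  obtain ⟨d, β, gV⟩ : ∃ d β : ZMod 3, MZ z (g * v * g⁻¹) (E y v a b (d, β, 0, 0)) := by
    obtain ⟨p, p', hp⟩ := F.span _ (hX.normal g hgC v hvX)
    refine ⟨p, p', h.MZ_trans (h.MZ_symm hp) ?_⟩
    simp only [E, pw_zero, mul_one]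
    rw [← pw_eq (h.expQ y hyQ), ← pw_eq (h.expQ v hvQ)]
    exact h.MZ_refl _
  obtain ⟨ea, gA⟩ := coord h hX F (h.conj_mem_Q hgC F.aQ)
  obtain ⟨eb, gB⟩ := coord h hX F (h.conj_mem_Q hgC F.bQ)
  have g3 : ∀ q, g * (g * (g * q * g⁻¹) * g⁻¹) * g⁻¹ = q := fun q => by
    calc g * (g * (g * q * g⁻¹) * g⁻¹) * g⁻¹ = g * g * g * q * (g * g * g)⁻¹ := by group
      _ = q := by rw [show g * g * g = g ^ 3 by simp [pow_succ], hg3]; simp
  have gE := E_conj h hX F hgC gY gV gA gB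
  have hβ : β = 1 := by
    have h1 := h.MZ_trans (h.MZ_conj gV hgC) (gE _)
    have h2 := h.MZ_trans (h.MZ_conj h1 hgC) (gE _)
    rw [g3] at h2
    have h3 := E_inj h hX F (h.MZ_trans (h.MZ_of_eq 0 (by rw [zpow_zero, mul_one, E2])) h2)
    refine beta_one d β ?_
    have e : ∀ p q : ZMod 3, lin (1, 0, 0, 0) (d, β, 0, 0) ea eb (p, q, 0, 0) =
        lin (1, 0, 0, 0) (d, β, 0, 0) 0 0 (p, q, 0, 0) := fun p q => by
      simp [lin, sm]
    have e' : ∀ p q : ZMod 3, lin (1, 0, 0, 0) (d, β, 0, 0) 0 0 (p, q, 0, 0) =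
        (p + q * d, q * β, 0, 0) := fun p q => by simp [lin, sm]
    rw [e, e', e, e'] at h3
    rw [e', e']
    exact h3.symm
  subst hβ
  have cI : ∀ u w : G, ⁅g * u * g⁻¹, g * w * g⁻¹⁆ = g * ⁅u, w⁆ * g⁻¹ := fun u w => by
    simp only [commutatorElement_def]; group
  have gQ : ∀ {q}, q ∈ Q → g * q * g⁻¹ ∈ Q := fun hq => h.conj_mem_Q hgC hq
  have cfix : ∀ {u w : G} {eu ew : V4}, u ∈ Q → w ∈ Q → MZ z (g * u * g⁻¹) (E y v a b eu) →
      MZ z (g * w * g⁻¹) (E y v a b ew) → pw z (frm eu ew) = ⁅u, w⁆ := by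
    intro u w eu ew hu hw e1 e2
    rw [← comm_E h hX F, comm_congr₂ h e1 e2 (gQ hu) (gQ hw), cI, h.comm_central hu hw hgC]
  have za3 : ea.2.2.1 = 1 := by
    have := cfix F.aQ hyQ gA gY
    rw [F.ay, show frm ea (1, 0, 0, 0) = ea.2.2.1 by simp [frm]] at this
    exact zpow_z_inj h (this.trans (pw_one z).symm)
  have zb3 : eb.2.2.1 = 0 := by
    have := cfix F.bQ hyQ gB gY
    rw [F.by', show frm eb (1, 0, 0, 0) = eb.2.2.1 by simp [frm]] at this
    exact zpow_z_inj h (this.trans (pw_zero z).symm)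
  have hea := vert d ea za3 (zpow_z_inj h ((cfix F.aQ hvQ gA gV).trans
    (F.av.trans (pw_zero z).symm)))
  have heb := vert2 d eb zb3 (zpow_z_inj h ((cfix F.bQ hvQ gB gV).trans
    (F.bv.trans (pw_one z).symm)))
  obtain ⟨r, qq, ea3, ea4⟩ := ea
  obtain ⟨m, s, eb3, eb4⟩ := eb
  rw [hea] at gA gE
  rw [heb] at gB gE
  have hqq := isotropic_row d r qq m s (zpow_z_inj h ((cfix F.aQ F.bQ gA gB).trans
    (F.ab.trans (pw_zero z).symm)))
  simp only at gA gE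
  rw [hqq] at gA gE
  change ∀ w, MZ z (g * E y v a b w * g⁻¹) (E y v a b (Gm d r m s w)) at gE
  have hd : d ≠ 0 := by
    intro hd
    subst hd
    rw [E2] at gV
    obtain ⟨k, hk, hkk, hki, -, -, -⟩ := hji.step g hgC (by rw [hg3]; exact one_mem _) hgQ
    refine hji.not_k h (hk ▸ mul_mem (mul_mem hgC hji.iC) (inv_mem hgC)) hkk hki hyQ hyz 1 ?_
    have hgy2 : g⁻¹ * y * g = y := by
      rw [mul_assoc, ← hgy, inv_mul_cancel_left]
    rw [zpow_one, hk, show g * i * g⁻¹ * y * (g * i * g⁻¹)⁻¹ =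
      g * (i * (g⁻¹ * y * g) * i⁻¹) * g⁻¹ by group, hgy2, ← F.hv]
    exact h.MZ_symm gV
  -- the cube and the quaternion relation
  have gE2 : ∀ w, MZ z (g⁻¹ * E y v a b w * g) (E y v a b (Gm d r m s (Gm d r m s w))) := by
    intro w
    have hinv : g⁻¹ = g * g :=
      inv_eq_of_mul_eq_one_right (by rw [← mul_assoc, ← hg3]; simp [pow_succ])
    have e : g⁻¹ * E y v a b w * g = g * (g * E y v a b w * g⁻¹) * g⁻¹ := by
      calc g⁻¹ * E y v a b w * g = g⁻¹ * E y v a b w * g⁻¹⁻¹ := by rw [inv_inv]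
        _ = g * g * E y v a b w * (g * g)⁻¹ := by rw [hinv]
        _ = _ := by group
    rw [e]
    exact h.MZ_trans (h.MZ_conj (gE w) hgC) (gE _)
  have hcube : Gm d r m s (Gm d r m s (Gm d r m s (0, 0, 1, 0))) = (0, 0, 1, 0) := by
    have h2 := h.MZ_trans (h.MZ_conj (h.MZ_trans (h.MZ_conj (gE (0, 0, 1, 0)) hgC) (gE _)) hgC)
      (gE _)
    rw [g3] at h2
    exact (E_inj h hX F h2).symm
  have hrel : Gm d r m s (Im (Gm d r m s (Gm d r m s (Im (0, 0, 1, 0))))) =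
      -Im (Gm d r m s (Im (Gm d r m s (Gm d r m s (0, 0, 1, 0))))) := by
    obtain ⟨k, hk, -, hki, -, -, -⟩ := hji.step g hgC (by rw [hg3]; exact one_mem _) hgQ
    have hkC : k ∈ C := hk ▸ mul_mem (mul_mem hgC hji.iC) (inv_mem hgC)
    have kE : ∀ w, MZ z (k * E y v a b w * k⁻¹)
        (E y v a b (Gm d r m s (Im (Gm d r m s (Gm d r m s w))))) := by
      intro w
      have e : k * E y v a b w * k⁻¹ = g * (i * (g⁻¹ * E y v a b w * g) * i⁻¹) * g⁻¹ := by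
        rw [hk]; group
      rw [e]
      exact h.MZ_trans (h.MZ_conj (h.MZ_trans (h.MZ_conj (gE2 w) hji.iC) (i_conj h hX F _)) hgC)
        (gE _)
    have h1 : MZ z (k * i * E y v a b (0, 0, 1, 0) * (k * i)⁻¹)
        (E y v a b (Gm d r m s (Im (Gm d r m s (Gm d r m s (Im (0, 0, 1, 0))))))) := by
      rw [show k * i * E y v a b (0, 0, 1, 0) * (k * i)⁻¹ =
        k * (i * E y v a b (0, 0, 1, 0) * i⁻¹) * k⁻¹ by group]
      exact h.MZ_trans (h.MZ_conj (i_conj h hX F _) hkC) (kE _)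
    have h2 : MZ z (i * k * E y v a b (0, 0, 1, 0) * (i * k)⁻¹)
        (E y v a b (Im (Gm d r m s (Im (Gm d r m s (Gm d r m s (0, 0, 1, 0))))))) := by
      rw [show i * k * E y v a b (0, 0, 1, 0) * (i * k)⁻¹ =
        i * (k * E y v a b (0, 0, 1, 0) * k⁻¹) * i⁻¹ by group]
      exact h.MZ_trans (h.MZ_conj (kE _) hji.iC) (i_conj h hX F _)
    have hq0 := E_mem h hX F (0, 0, 1, 0)
    have h3 := h.conj_congr (mul_mem hkC hji.iC) hki hq0
    have hqik : i * k * E y v a b (0, 0, 1, 0) * (i * k)⁻¹ ∈ Q :=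
      h.conj_mem_Q (mul_mem hji.iC hkC) hq0
    rw [show j * (i * k) * E y v a b (0, 0, 1, 0) * (j * (i * k))⁻¹ =
      j * (i * k * E y v a b (0, 0, 1, 0) * (i * k)⁻¹) * j⁻¹ by group] at h3
    have h4 := h.MZ_trans h3 (hji.j_conj h hqik)
    exact E_inj h hX F (h.MZ_trans (h.MZ_trans (h.MZ_symm h1) h4)
      (h.MZ_trans (h.MZ_inv h2 (h.QC hqik)) (E_inv h hX F _)))
  obtain ⟨ga, gb⟩ := shift d r m s hd hcube hrel
  set p := -m * d with hp
  obtain ⟨a0, hla, hai⟩ := h.exists_inverted hji hj'j (E_mem h hX F (p, 0, 1, 0))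
  obtain ⟨b0, hlb, hbi⟩ := h.exists_inverted hji hj'j (E_mem h hX F (0, p, 0, 1))
  have ha0Q : a0 ∈ Q := h.MZ_mem (zpowers_le.2 h.zQ) hla (E_mem h hX F _)
  have hb0Q : b0 ∈ Q := h.MZ_mem (zpowers_le.2 h.zQ) hlb (E_mem h hX F _)
  have hcab : Commute a0 b0 := commutatorElement_eq_one_iff_commute.1 (by
    rw [comm_congr₂ h hla hlb (E_mem h hX F _) (E_mem h hX F _), comm_E h hX F, frm_shift,
      pw_zero])
  have fixg : ∀ {q}, j' * q * j'⁻¹ = q⁻¹ → j' * (g * q * g⁻¹) * j'⁻¹ = (g * q * g⁻¹)⁻¹ := by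
    intro q hq
    calc j' * (g * q * g⁻¹) * j'⁻¹ = (j' * g) * q * (j' * g)⁻¹ := by group
      _ = g * (j' * q * j'⁻¹) * g⁻¹ := by rw [← hgj]; group
      _ = _ := by rw [hq]; group
  have hgb0 : g * b0 * g⁻¹ = b0 :=
    h.inverted_unique hj'C (gQ hb0Q) (h.MZ_trans (h.MZ_conj (h.MZ_symm hlb) hgC)
      (h.MZ_trans (gE _) (by rw [gb]; exact hlb))) (fixg hbi) hbi
  have hga0 : g * a0 * g⁻¹ = a0 * pw b0 (-d) := by
    refine h.inverted_unique hj'C (gQ ha0Q) (h.MZ_trans (h.MZ_conj (h.MZ_symm hla) hgC)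
      (h.MZ_trans (gE _) ?_)) (fixg hai) ?_
    · rw [ga]
      exact h.MZ_trans (h.MZ_symm (E_mul h hX F _ _)) (h.MZ_mul hla
        (h.MZ_symm (E_sm h hX F hb0Q (h.MZ_symm hlb) _)) (h.QC (E_mem h hX F _)))
    · calc j' * (a0 * pw b0 (-d)) * j'⁻¹ = j' * a0 * j'⁻¹ * (j' * pw b0 (-d) * j'⁻¹) := by group
        _ = a0⁻¹ * pw b0⁻¹ (-d) := by rw [hai, conj_pw, hbi]
        _ = (a0 * pw b0 (-d))⁻¹ := by
          rw [mul_inv_rev, pw, pw, inv_zpow, ((hcab.zpow_right _).inv_inv).eq]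
  set L := zpowers a0 ⊔ zpowers b0 with hL
  have hLQ : L ≤ Q := sup_le (zpowers_le.2 ha0Q) (zpowers_le.2 hb0Q)
  have hgL : g ∈ normalizer (L : Set G) := by
    refine Subgroup.mem_normalizer_fintype fun n hn => ?_
    have hle : L ≤ L.comap (MulAut.conj g).toMonoidHom := sup_le
      (zpowers_le.2 (show g * a0 * g⁻¹ ∈ L from hga0 ▸
        mul_mem (mem_sup_left (mem_zpowers a0)) (mem_sup_right (zpow_mem (mem_zpowers b0) _))))
      (zpowers_le.2 (show g * b0 * g⁻¹ ∈ L from hgb0.symm ▸ mem_sup_right (mem_zpowers b0)))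
    exact hle hn
  set A := L ⊔ zpowers g with hA
  have hAX : A ⊓ X = ⊥ := by
    rw [eq_bot_iff]
    rintro w ⟨hwA, hwX⟩
    have hwA' : w ∈ ((L : Set G) * (zpowers g : Set G)) := by
      rw [← Subgroup.coe_mul_of_right_le_normalizer_left L (zpowers g) (zpowers_le.2 hgL)]
      exact hwA
    obtain ⟨l, hl, t, ht, rfl⟩ := hwA'
    obtain ⟨n, rfl⟩ := mem_zpowers_iff.1 ht
    have hgn : g ^ n ∈ Q := by simpa using mul_mem (inv_mem (hLQ hl)) (hX.le hwX)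
    have hn : (n : ZMod 3) = 0 := by
      by_contra hn
      have key : ∀ m : ZMod 3, m ≠ 0 → m * m = 1 := by decide
      refine hgQ ?_
      have := zpow_mem hgn n
      rwa [← zpow_mul, zpow_congr_three hg3 (n := 1) (by push_cast; exact key _ hn), zpow_one]
        at this
    have hg1 : g ^ n = 1 := by
      rw [zpow_congr_three hg3 (n := 0) (by simpa using hn), zpow_zero]
    simp only [hg1, mul_one] at hwX ⊢
    have hl' : l ∈ ((zpowers a0 : Set G) * (zpowers b0 : Set G)) := by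
      rw [← Subgroup.coe_mul_of_right_le_normalizer_left (zpowers a0) (zpowers b0)
        (le_trans (zpowers_le.2 (mem_centralizer_iff.2 fun u hu => (commute_of_gen hcab u hu b0
          (mem_zpowers b0)).eq)) (Subgroup.centralizer_le_normalizer _))]
      exact hl
    obtain ⟨_, hu, _, hv', rfl⟩ := hl'
    obtain ⟨m1, rfl⟩ := mem_zpowers_iff.1 hu
    obtain ⟨m2, rfl⟩ := mem_zpowers_iff.1 hv'
    simp only at hwX ⊢
    rw [pw_eq (h.expQ a0 ha0Q), pw_eq (h.expQ b0 hb0Q)] at hwX ⊢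
    have e : MZ z (pw a0 (m1 : ZMod 3) * pw b0 (m2 : ZMod 3))
        (E y v a b (sm (m1 : ZMod 3) (p, 0, 1, 0) + sm (m2 : ZMod 3) (0, p, 0, 1))) :=
      h.MZ_trans (h.MZ_mul (E_sm h hX F ha0Q (h.MZ_symm hla) _)
        (E_sm h hX F hb0Q (h.MZ_symm hlb) _) (h.QC (zpow_mem hb0Q _))) (E_mul h hX F _ _)
    obtain ⟨p1, p2, hp12⟩ := F.span _ hwX
    have e' : MZ z (pw a0 (m1 : ZMod 3) * pw b0 (m2 : ZMod 3))
        (E y v a b ((p1 : ZMod 3), (p2 : ZMod 3), 0, 0)) := by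
      refine h.MZ_trans (h.MZ_symm hp12) ?_
      simp only [E, pw_zero, mul_one]
      rw [← pw_eq (h.expQ y hyQ), ← pw_eq (h.expQ v hvQ)]
      exact h.MZ_refl _
    have he := E_inj h hX F (h.MZ_trans (h.MZ_symm e) e')
    simp [sm] at he
    rw [Subgroup.mem_bot, he.2.2.1, he.2.2.2, pw_zero, pw_zero, mul_one]
  -- Gaschütz in the normaliser
  set N := normalizer (X : Set G) with hN
  have hCN : C ≤ N := fun c hc => Subgroup.mem_normalizer_fintype fun w hw => hX.normal c hc w hw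
  have hXN : X ≤ N := Subgroup.le_normalizer
  have hAC : A ≤ C := sup_le (le_trans hLQ h.QC) (zpowers_le.2 hgC)
  set U := X ⊔ A with hU
  have hUC : U ≤ C := sup_le (le_trans hX.le h.QC) hAC
  have hzX : zpowers z ≤ U := le_trans (zpowers_le.2 hX.zX) le_sup_left
  have hQU : Q ≤ U := by
    intro q hq
    obtain ⟨w, hw⟩ := coord h hX F hq
    refine h.MZ_mem hzX (h.MZ_symm hw) ?_
    have mA : MZ z (E y v a b (p, 0, 1, 0)) a0 := hla
    have hyU : ∀ c, pw y c ∈ U := fun c => zpow_mem (mem_sup_left hyX) _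
    have hvU : ∀ c, pw v c ∈ U := fun c => zpow_mem (mem_sup_left hvX) _
    have haU : a ∈ U := by
      have h1 : E y v a b (p, 0, 1, 0) = pw y p * a := by simp [E, pw_zero, pw_one]
      have h2 : pw y p * a ∈ U := h1 ▸ h.MZ_mem hzX (h.MZ_symm hla)
        (mem_sup_right (mem_sup_left (mem_sup_left (mem_zpowers a0))))
      exact (mul_mem_cancel_left (hyU p)).1 h2
    have hbU : b ∈ U := by
      have h1 : E y v a b (0, p, 0, 1) = pw v p * b := by simp [E, pw_zero, pw_one]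
      have h2 : pw v p * b ∈ U := h1 ▸ h.MZ_mem hzX (h.MZ_symm hlb)
        (mem_sup_right (mem_sup_left (mem_sup_right (mem_zpowers b0))))
      exact (mul_mem_cancel_left (hvU p)).1 h2
    exact mul_mem (mul_mem (hyU _) (hvU _)) (mul_mem (zpow_mem haU _) (zpow_mem hbU _))
  have hdvd : 3 ^ 6 ∣ Nat.card U := by
    haveI : (Q.subgroupOf U).Normal := ⟨fun q hq u => h.normal u (hUC u.2) q hq⟩
    have hgU : g ∈ U := mem_sup_right (mem_sup_right (mem_zpowers g))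
    have ho : orderOf (QuotientGroup.mk ⟨g, hgU⟩ : U ⧸ Q.subgroupOf U) = 3 := by
      haveI : Fact (Nat.Prime 3) := ⟨Nat.prime_three⟩
      refine orderOf_eq_prime ?_ ?_
      · rw [← QuotientGroup.mk_pow, QuotientGroup.eq_one_iff, mem_subgroupOf]
        simp [hg3]
      · rw [Ne, QuotientGroup.eq_one_iff, mem_subgroupOf]
        exact hgQ
    rw [Subgroup.card_eq_card_quotient_mul_card_subgroup (Q.subgroupOf U),
      Nat.card_congr (Subgroup.subgroupOfEquivOfLe hQU).toEquiv, h.cardQ,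
      show 3 ^ 6 = 3 * 243 from rfl]
    exact Nat.mul_dvd_mul_right (ho ▸ orderOf_dvd_natCard _) _
  haveI : (X.subgroupOf N).Normal := Subgroup.normal_in_normalizer
  haveI : IsMulCommutative (X.subgroupOf N) :=
    ⟨⟨fun u w => Subtype.ext (Subtype.ext (hX.comm _ u.2 _ w.2).eq)⟩⟩
  have hidx : (Nat.card (X.subgroupOf N)).Coprime (U.subgroupOf N).index := by
    rw [Nat.card_congr (Subgroup.subgroupOfEquivOfLe hXN).toEquiv, hX.card,
      show 27 = 3 ^ 3 from rfl]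
    refine Nat.Coprime.pow_left _ ((Nat.prime_three.coprime_iff_not_dvd).2 fun h3 => h.not_dvd ?_)
    refine dvd_trans ?_ (Subgroup.card_subgroup_dvd_card N)
    rw [← Subgroup.card_mul_index (U.subgroupOf N),
      Nat.card_congr (Subgroup.subgroupOfEquivOfLe (le_trans hUC hCN)).toEquiv,
      show 3 ^ 7 = 3 ^ 6 * 3 from rfl]
    exact Nat.mul_dvd_mul hdvd h3
  obtain ⟨H, hH⟩ := Cfsg.Agent.CoprimeGaschutz.exists_complement
    (K := X.subgroupOf N) (U := U.subgroupOf N)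
    (fun u hu => mem_sup_left (T := A) hu) hidx (A.subgroupOf N)
    (fun u hu => mem_sup_right (S := X) hu) (by
      rw [eq_bot_iff]
      intro u hu
      have : (u : G) ∈ A ⊓ X := hu
      rw [hAX, Subgroup.mem_bot] at this
      exact Subgroup.mem_bot.2 (Subtype.ext this))
    (Subgroup.subgroupOf_sup hXN (le_trans hAC hCN)).symm
  refine ⟨H.map N.subtype, fun w hw => by obtain ⟨u, -, rfl⟩ := hw; exact u.2, ?_, fun n hn => ?_⟩
  · rw [eq_bot_iff]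
    rintro _ ⟨⟨u, hu, rfl⟩, hw⟩
    have : u ∈ X.subgroupOf N ⊓ H := ⟨hw, hu⟩
    rw [hH.disjoint.eq_bot, Subgroup.mem_bot] at this
    simp [this]
  · obtain ⟨⟨⟨k, hk⟩, ⟨l, hl⟩⟩, hkl⟩ := hH.2 ⟨n, hn⟩
    refine ⟨l, ⟨l, hl, rfl⟩, ?_⟩
    have e : (k : G) * (l : G) = n := congrArg Subtype.val hkl
    rw [← e]
    have := (mem_normalizer_iff''.1 l.2 (k : G)).1 hk
    simpa [mul_assoc] using this

end Hyp

end Cfsg.Agent.L43Three45
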