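import Cfsg.Agent.Lib.L43Base45
import Cfsg.Agent.Lib.PSLSimple

/-!
Coordinates of the first parabolic of the model, and the matrices over the field of three elements
that generate the special linear group.
-/

set_option autoImplicit false

namespace Cfsg.Agent.L43FrameIso87

open Matrix
open Cfsg.Agent.L43Three45

abbrev V3 := Fin 3 → ZMod 3
abbrev M3 := Matrix (Fin 3) (Fin 3) (ZMod 3)

/-- The radical part. -/
def vP (g : L4) : V3 := fun j => (g : Matrix (Fin 4) (Fin 4) (ZMod 3)) 0 j.succ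

/-- The linear part. -/
def aP (g : L4) : M3 := fun i j => (g : Matrix (Fin 4) (Fin 4) (ZMod 3)) i.succ j.succ

theorem H1_col {g : L4} (hg : g ∈ H1) :
    (g : Matrix (Fin 4) (Fin 4) (ZMod 3)) 0 0 = 1 ∧
    ∀ i : Fin 3, (g : Matrix (Fin 4) (Fin 4) (ZMod 3)) i.succ 0 = 0 :=
  ⟨by simpa using hg 0, fun i => by simpa [Fin.succ_ne_zero] using hg i.succ⟩

theorem aP_mul {g h : L4} (hg : g ∈ H1) : aP (g * h) = aP g * aP h := by
  ext i j
  show ((g : Matrix (Fin 4) (Fin 4) (ZMod 3)) * (h : Matrix (Fin 4) (Fin 4) (ZMod 3))) i.succ j.succ = _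
  rw [Matrix.mul_apply, Fin.sum_univ_succ, (H1_col hg).2 i, zero_mul, zero_add, Matrix.mul_apply]
  rfl

theorem vP_mul {g h : L4} (hg : g ∈ H1) : vP (g * h) = vP g ᵥ* aP h + vP h := by
  ext j
  show ((g : Matrix (Fin 4) (Fin 4) (ZMod 3)) * (h : Matrix (Fin 4) (Fin 4) (ZMod 3))) 0 j.succ = _
  rw [Matrix.mul_apply, Fin.sum_univ_succ, (H1_col hg).1, one_mul, add_comm]
  rfl

theorem det_aP {g : L4} (hg : g ∈ H1) : (aP g).det = 1 := by
  have h := g.2
  rw [Matrix.det_succ_column_zero, Fin.sum_univ_succ, Finset.sum_eq_zero, (H1_col hg).1] at h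
  · simp only [add_zero, Fin.val_zero, pow_zero, one_mul, Fin.zero_succAbove] at h
    exact h
  · intro i _
    rw [(H1_col hg).2 i, mul_zero, zero_mul]

theorem ext_H1 {g h : L4} (hg : g ∈ H1) (hh : h ∈ H1) (ha : aP g = aP h) (hv : vP g = vP h) :
    g = h := by
  apply Subtype.ext
  ext i j
  refine Fin.cases ?_ (fun j' => ?_) j
  · exact (hg i).trans (hh i).symm
  · refine Fin.cases ?_ (fun i' => ?_) i
    · exact congrFun hv j'
    · exact congrFun (congrFun ha i') j'

/-- The block matrix. -/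
def blk (A : M3) (v : V3) : Matrix (Fin 4) (Fin 4) (ZMod 3) :=
  Matrix.of fun i j => Fin.cases (motive := fun _ => ZMod 3)
    (Fin.cases (motive := fun _ => ZMod 3) 1 v j)
    (fun i' => Fin.cases (motive := fun _ => ZMod 3) 0 (A i') j) i

/-- The element with given parts. -/
def mk (A : M3) (hA : A.det = 1) (v : V3) : L4 :=
  ⟨blk A v, by
    rw [Matrix.det_succ_column_zero, Fin.sum_univ_succ, Finset.sum_eq_zero]
    · simp only [add_zero, Fin.val_zero, pow_zero, one_mul, Fin.zero_succAbove]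
      show (1 : ZMod 3) * A.det = 1
      rw [hA, one_mul]
    · intro i _
      have h0 : blk A v i.succ 0 = 0 := rfl
      rw [h0, mul_zero, zero_mul]⟩

theorem mk_mem (A : M3) (hA : A.det = 1) (v : V3) : mk A hA v ∈ H1 := by
  intro i
  refine Fin.cases ?_ (fun i' => ?_) i
  · rfl
  · simp [mk, blk, Fin.succ_ne_zero]

theorem aP_mk (A : M3) (hA : A.det = 1) (v : V3) : aP (mk A hA v) = A := rfl

theorem vP_mk (A : M3) (hA : A.det = 1) (v : V3) : vP (mk A hA v) = v := rfl

theorem z4_parts : aP z4 = 1 ∧ vP z4 = Pi.single 2 1 := by decide +kernel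

theorem mem_E1_iff {g : L4} (hg : g ∈ H1) : g ∈ E1 ↔ aP g = 1 := by
  constructor
  · intro h
    ext i j
    refine (h.1 i.succ j.succ (Fin.succ_ne_zero i)).trans ?_
    simp [Matrix.one_apply]
  · intro h
    refine ⟨fun i j hi => ?_, hg⟩
    obtain ⟨i', rfl⟩ := Fin.exists_succ_eq.2 hi
    refine Fin.cases ?_ (fun j' => ?_) j
    · exact hg i'.succ
    · have := congrFun (congrFun h i') j'
      refine this.trans ?_
      simp [Matrix.one_apply]

theorem mem_C4_iff {g : L4} (hg : g ∈ H1) :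
    g ∈ C4 ↔ (Pi.single 2 1 : V3) ᵥ* aP g = Pi.single 2 1 := by
  rw [Matrix.single_one_vecMul]
  constructor
  · rintro ⟨-, h⟩
    ext j
    refine (h j.succ).trans ?_
    revert j; decide
  · intro h
    refine ⟨hg, fun j => ?_⟩
    refine Fin.cases ?_ (fun j' => ?_) j
    · exact (hg 3).trans (by decide)
    · refine (congrFun h j').trans ?_
      revert j'; decide

theorem mem_Q4_iff {g : L4} (hg : g ∈ H1) : g ∈ Q4 ↔
    (Pi.single 2 1 : V3) ᵥ* aP g = Pi.single 2 1 ∧ aP g 0 0 = 1 ∧ aP g 0 1 = 0 ∧ aP g 1 0 = 0 ∧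
      aP g 1 1 = 1 := by
  show g ∈ C4 ∧ _ ↔ _
  rw [mem_C4_iff hg]
  refine and_congr_right fun _ => ?_
  simp only [Fin.forall_fin_two]
  simp only [aP]
  exact ⟨fun h => ⟨h.1.1, h.1.2, h.2.1, h.2.2⟩, fun h => ⟨⟨h.1, h.2.1⟩, h.2.2.1, h.2.2.2⟩⟩

/-- The elementary matrices. -/
def tr3 (i j : Fin 3) (c : ZMod 3) : M3 :=
  fun a b => (if a = b then 1 else 0) + if a = i ∧ b = j then c else 0

theorem tr3_eq (i j : Fin 3) (c : ZMod 3) : tr3 i j c = Matrix.transvection i j c := by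
  ext a b
  simp only [tr3, Matrix.transvection, Matrix.add_apply, Matrix.one_apply, Matrix.single, Matrix.of_apply]
  simp only [eq_comm (a := i), eq_comm (a := j)]

theorem tr3_cube : ∀ (i j : Fin 3) (c : ZMod 3), i ≠ j → tr3 i j c * (tr3 i j c * tr3 i j c) = 1 := by
  decide +kernel

theorem tr3_fix : ∀ (i j k : Fin 3) (c : ZMod 3), i ≠ k →
    (Pi.single k 1 : V3) ᵥ* tr3 i j c = Pi.single k 1 := by
  decide +kernel

theorem transit : ∀ w : V3, (w 0 ≠ 0 ∨ w 1 ≠ 0) → ∃ a b c d : ZMod 3,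
    w ᵥ* (tr3 0 1 a * tr3 1 0 b * tr3 0 1 c * tr3 0 2 d) = Pi.single 0 1 := by
  decide +kernel

theorem moved : (Pi.single 0 1 : V3) ᵥ* tr3 0 2 1 ≠ Pi.single 0 1 := by decide +kernel

/-- The first two rows of a matrix with last row `e₂`. -/
def top2 (r : Fin 2 → V3) : M3 := Fin.snoc r (Pi.single 2 1)

/-- The determinant of `top2`. -/
def d2 (r : Fin 2 → V3) : ZMod 3 := r 0 0 * r 1 1 - r 0 1 * r 1 0

theorem det_top2 (r : Fin 2 → V3) : (top2 r).det = d2 r := by
  rw [Matrix.det_fin_three]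
  have h0 : top2 r 0 = r 0 := rfl
  have h1 : top2 r 1 = r 1 := rfl
  have h2 : top2 r 2 = Pi.single 2 1 := rfl
  simp [h0, h1, h2, d2]

set_option maxRecDepth 20000 in
theorem count_one : (Finset.univ.filter fun r : Fin 2 → V3 => d2 r = 1).card = 216 := by
  decide +kernel

set_option maxRecDepth 20000 in
theorem count_ne : (Finset.univ.filter fun r : Fin 2 → V3 => d2 r ≠ 0).card = 432 := by
  decide +kernel

theorem top2_of_fix {A : M3} (h : (Pi.single 2 1 : V3) ᵥ* A = Pi.single 2 1) :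
    top2 (fun i => A i.castSucc) = A := by
  rw [Matrix.single_one_vecMul] at h
  ext i j
  fin_cases i
  · rfl
  · rfl
  · exact (congrFun h j).symm

theorem fix_top2 (r : Fin 2 → V3) : (Pi.single 2 1 : V3) ᵥ* top2 r = Pi.single 2 1 := by
  rw [Matrix.single_one_vecMul]
  rfl

theorem top2_injective : Function.Injective top2 := fun r s h => by
  ext i j
  have := congrFun (congrFun h i.castSucc) j
  simpa [top2, Fin.snoc_castSucc] using this

theorem gl_det_ne (u : M3ˣ) : (u : M3).det ≠ 0 :=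
  ((Matrix.isUnit_iff_isUnit_det _).1 u.isUnit).ne_zero

end Cfsg.Agent.L43FrameIso87
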