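import Cfsg.Agent.Lib.L43FrameN45
import Cfsg.Agent.Lib.L43FrameIsoModel87

/-!
The normaliser of the abelian subgroup of order 27 is isomorphic to the first parabolic of the model.
-/

set_option autoImplicit false
set_option linter.style.haveILetI false

namespace Cfsg.Agent.L43FrameIso87

open Matrix Subgroup
open Cfsg.Agent.L43Three45

variable {G : Type*} [Group G]

/-- Three commuting elements of order three, as coordinates. -/
def word (a b z : G) (v : V3) : G := a ^ (v 0).val * b ^ (v 1).val * z ^ (v 2).val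

theorem pow_val_add {a : G} (ha : a ^ 3 = 1) (s t : ZMod 3) :
    a ^ (s + t).val = a ^ s.val * a ^ t.val := by
  rw [← pow_add, ZMod.val_add, ← pow_eq_pow_mod _ ha]

theorem word_add {a b z : G} (ha : a ^ 3 = 1) (hb : b ^ 3 = 1) (hz : z ^ 3 = 1)
    (hab : Commute a b) (haz : Commute a z) (hbz : Commute b z) (v w : V3) :
    word a b z (v + w) = word a b z v * word a b z w := by
  simp only [word, Pi.add_apply, pow_val_add ha, pow_val_add hb, pow_val_add hz]
  rw [(((haz.pow_pow _ _).mul_left (hbz.pow_pow _ _)).symm :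
      Commute (z ^ (v 2).val) (a ^ (w 0).val * b ^ (w 1).val)).mul_mul_mul_comm,
    (hab.symm.pow_pow (v 1).val (w 0).val).mul_mul_mul_comm]

theorem word_one (a b z : G) : word a b z (Pi.single 2 1) = z := by
  simp [word, ZMod.val_one]

/-- An element of odd order of a group with a subgroup of index at most two lies in it. -/
theorem cube_mem (P : Subgroup G) (hidx : P.index ≤ 2) (h0 : P.index ≠ 0) {g : G} (hg : g ^ 3 = 1) :
    g ∈ P := by
  rcases (show P.index = 1 ∨ P.index = 2 by omega) with h | h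
  · rw [Subgroup.index_eq_one] at h; rw [h]; trivial
  · have h1 : g = (g ^ 2) ^ 2 := by rw [← pow_mul, pow_succ, hg, one_mul]
    rw [h1]
    exact Subgroup.sq_mem_of_index_two h _

/-- The units of the stabiliser of the last basis vector. -/
def Stab : Subgroup M3ˣ where
  carrier := {u | (Pi.single 2 1 : V3) ᵥ* (u : M3) = Pi.single 2 1}
  one_mem' := by show (Pi.single 2 1 : V3) ᵥ* (1 : M3) = _; rw [Matrix.vecMul_one]
  mul_mem' := fun {u w} hu hw => by
    show (Pi.single 2 1 : V3) ᵥ* ((u : M3) * (w : M3)) = _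
    rw [← Matrix.vecMul_vecMul, hu, hw]
  inv_mem' := fun {u} hu => by
    show (Pi.single 2 1 : V3) ᵥ* ((u⁻¹ : M3ˣ) : M3) = _
    conv_lhs => rw [← hu]
    rw [Matrix.vecMul_vecMul, Units.mul_inv, Matrix.vecMul_one]

theorem card_Stab : Nat.card Stab ≤ 432 := by
  rw [← count_ne]
  refine (Nat.card_le_card_of_injective
    (fun u : Stab => (⟨fun i => ((u : M3ˣ) : M3) i.castSucc, Finset.mem_filter.2 ⟨Finset.mem_univ _, ?_⟩⟩ :
      (Finset.univ.filter fun r : Fin 2 → V3 => d2 r ≠ 0))) ?_).trans_eq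
    (Nat.card_eq_fintype_card.trans (Fintype.card_coe _))
  · rw [← det_top2, top2_of_fix u.2]
    exact gl_det_ne _
  · intro u w h
    have h' : (fun i : Fin 2 => ((u : M3ˣ) : M3) i.castSucc) = fun i => ((w : M3ˣ) : M3) i.castSucc :=
      congrArg Subtype.val h
    exact Subtype.ext (Units.ext (by rw [← top2_of_fix u.2, ← top2_of_fix w.2, h']))

/-- The unit of a determinant one matrix. -/
noncomputable def unitOf (A : M3) (hA : A.det ≠ 0) : M3ˣ :=
  ((Matrix.isUnit_iff_isUnit_det A).2 (isUnit_iff_ne_zero.2 hA)).unit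

theorem unitOf_val (A : M3) (hA : A.det ≠ 0) : (unitOf A hA : M3) = A := IsUnit.unit_spec _

/-- A group of matrices whose stabiliser of `e₂` has order 216 and which moves `e₂` off its line
consists of the matrices of determinant one. -/
theorem range_eq (R : Subgroup M3ˣ) (h216 : Nat.card ↥(R ⊓ Stab) = 216)
    (hmove : ∃ u ∈ R, ((Pi.single 2 1 : V3) ᵥ* (u : M3)) 0 ≠ 0 ∨
      ((Pi.single 2 1 : V3) ᵥ* (u : M3)) 1 ≠ 0) :
    ∀ u : M3ˣ, u ∈ R ↔ (u : M3).det = 1 := by
  classical
  -- the elements of order three fixing `e₂`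
  have hthree : ∀ u ∈ Stab, u ^ 3 = 1 → u ∈ R := by
    intro u hu hu3
    have hle : R ⊓ Stab ≤ Stab := inf_le_right
    have h1 := ((R ⊓ Stab).subgroupOf Stab).card_mul_index
    rw [Nat.card_congr (Subgroup.subgroupOfEquivOfLe hle).toEquiv, h216] at h1
    have h2 := card_Stab
    have h3 : (⟨u, hu⟩ : Stab) ∈ (R ⊓ Stab).subgroupOf Stab :=
      cube_mem _ (by omega) Subgroup.index_ne_zero_of_finite (Subtype.ext hu3)
    exact h3.1
  let tu : ∀ i j : Fin 3, ZMod 3 → i ≠ j → M3ˣ := fun i j c hij =>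
    ⟨tr3 i j c, tr3 i j c * tr3 i j c, tr3_cube i j c hij, by rw [mul_assoc]; exact tr3_cube i j c hij⟩
  have htu3 : ∀ i j c hij, tu i j c hij ^ 3 = 1 := fun i j c hij => Units.ext (by
    rw [pow_succ', pow_two]; exact tr3_cube i j c hij)
  have htuS : ∀ i j c hij, i ≠ 2 → tu i j c hij ∈ R := fun i j c hij hi =>
    hthree _ (tr3_fix i j 2 c hi) (htu3 i j c hij)
  -- an element moving `e₂` to `e₀`
  obtain ⟨u, huR, hu⟩ := hmove
  obtain ⟨a, b, c, d, habcd⟩ := transit _ hu
  set n : M3ˣ := u * (tu 0 1 a (by decide) * tu 1 0 b (by decide) * tu 0 1 c (by decide) *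
    tu 0 2 d (by decide)) with hn
  have hnR : n ∈ R := mul_mem huR (mul_mem (mul_mem (mul_mem (htuS 0 1 a (by decide) (by decide))
    (htuS 1 0 b (by decide) (by decide))) (htuS 0 1 c (by decide) (by decide)))
    (htuS 0 2 d (by decide) (by decide)))
  have hne : (Pi.single 2 1 : V3) ᵥ* (n : M3) = Pi.single 0 1 := by
    rw [hn, Units.val_mul, ← Matrix.vecMul_vecMul]
    exact habcd
  have hall : ∀ i j c hij, tu i j c hij ∈ R := by
    intro i j c hij
    by_cases hi : i = 2
    · have h1 : n * tu i j c hij * n⁻¹ ∈ R := by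
        refine hthree _ ?_ (by rw [conj_pow, htu3 i j c hij, mul_one, mul_inv_cancel])
        show (Pi.single 2 1 : V3) ᵥ* ((n : M3) * tr3 i j c * ((n⁻¹ : M3ˣ) : M3)) = _
        rw [← Matrix.vecMul_vecMul, ← Matrix.vecMul_vecMul, hne, tr3_fix i j 0 c (by rw [hi]; decide),
          ← hne, Matrix.vecMul_vecMul, Units.mul_inv, Matrix.vecMul_one]
      have h2 := mul_mem (mul_mem (inv_mem hnR) h1) hnR
      rwa [show n⁻¹ * (n * tu i j c hij * n⁻¹) * n = tu i j c hij by group] at h2
    · exact htuS i j c hij hi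
  have hSL : ∀ u : M3ˣ, (u : M3).det = 1 → u ∈ R := by
    intro u hu
    let sl : Matrix.SpecialLinearGroup (Fin 3) (ZMod 3) →* M3ˣ :=
      ({ toFun := fun s => (s : M3), map_one' := rfl, map_mul' := fun _ _ => rfl } :
        Matrix.SpecialLinearGroup (Fin 3) (ZMod 3) →* M3).toHomUnits
    have htop : R.comap sl = ⊤ := PSLSimple.eq_top_of_transvection_mem _ fun i j hij c => by
      rw [Subgroup.mem_comap]
      have h1 : sl (Matrix.SpecialLinearGroup.transvection hij c) = tu i j c hij :=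
        Units.ext (tr3_eq i j c).symm
      rw [h1]
      exact hall i j c hij
    obtain ⟨s, hs⟩ : ∃ s : Matrix.SpecialLinearGroup (Fin 3) (ZMod 3), (s : M3) = (u : M3) :=
      ⟨⟨(u : M3), hu⟩, rfl⟩
    have h1 : s ∈ R.comap sl := by rw [htop]; trivial
    rw [Subgroup.mem_comap] at h1
    rwa [show sl s = u from Units.ext hs] at h1
  intro w
  refine ⟨fun hw => ?_, hSL w⟩
  by_contra hdet
  have hdet' : (w : M3).det = -1 :=
    (by decide : ∀ x : ZMod 3, x ≠ 0 → x ≠ 1 → x = -1) _ (gl_det_ne w) hdet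
  -- then the stabiliser is too large
  let D : M3 := Matrix.diagonal ![-1, 1, 1]
  have hD : D.det = -1 := by simp [D, Matrix.det_diagonal, Fin.prod_univ_three]
  set uD := unitOf D (by rw [hD]; decide)
  have hDR : uD ∈ R := by
    have h1 : uD * w ∈ R := hSL _ (by
      rw [Units.val_mul, Matrix.det_mul, unitOf_val, hD, hdet']; decide)
    have := mul_mem h1 (inv_mem hw)
    rwa [mul_inv_cancel_right] at this
  have hDS : uD ∈ R ⊓ Stab := ⟨hDR, by
    show (Pi.single 2 1 : V3) ᵥ* (uD : M3) = _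
    rw [unitOf_val, Matrix.single_one_vecMul]
    decide +kernel⟩
  let F : Option (Finset.univ.filter fun r : Fin 2 → V3 => d2 r = 1) → ↥(R ⊓ Stab) := fun o =>
    match o with
    | none => ⟨uD, hDS⟩
    | some r => ⟨unitOf (top2 r) (by rw [det_top2, (Finset.mem_filter.1 r.2).2]; decide),
        hSL _ (by rw [unitOf_val, det_top2, (Finset.mem_filter.1 r.2).2]), by
          show (Pi.single 2 1 : V3) ᵥ* _ = _
          rw [unitOf_val]; exact fix_top2 _⟩
  have hF : Function.Injective F := by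
    rintro (_ | r) (_ | s) h
    · rfl
    · exfalso
      have h1 := congrArg (fun z : ↥(R ⊓ Stab) => ((z : M3ˣ) : M3).det) h
      simp only [F, unitOf_val, det_top2, (Finset.mem_filter.1 s.2).2, uD, hD] at h1
      revert h1; decide
    · exfalso
      have h1 := congrArg (fun z : ↥(R ⊓ Stab) => ((z : M3ˣ) : M3).det) h
      simp only [F, unitOf_val, det_top2, (Finset.mem_filter.1 r.2).2, uD, hD] at h1
      revert h1; decide
    · have h1 := congrArg (fun z : ↥(R ⊓ Stab) => ((z : M3ˣ) : M3)) h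
      simp only [F, unitOf_val] at h1
      exact congrArg some (Subtype.ext (top2_injective h1))
  have h1 := Nat.card_le_card_of_injective F hF
  rw [h216, Nat.card_eq_fintype_card, Fintype.card_option, Fintype.card_coe, count_one] at h1
  omega

end Cfsg.Agent.L43FrameIso87

namespace Cfsg.Agent.L43Three45

open Matrix Subgroup
open Cfsg.Agent.L43FrameIso87

variable {G : Type*} [Group G] [Finite G] {z : G} {C Q X K0 : Subgroup G}

omit [Finite G] in
theorem mem_normalizer_of_conj [Finite G] {g : G} (hg : ∀ w ∈ X, g * w * g⁻¹ ∈ X) :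
    g ∈ normalizer (X : Set G) := by
  rw [Subgroup.mem_normalizer_iff]
  intro w
  refine ⟨hg w, fun hw => ?_⟩
  have hmap : X.map (MulAut.conj g).toMonoidHom = X :=
    Subgroup.eq_of_le_of_card_ge (by rintro _ ⟨v, hv, rfl⟩; exact hg v hv)
      (by rw [Subgroup.card_map_of_injective (MulAut.conj g).injective])
  rw [← hmap] at hw
  obtain ⟨v, hv, hvw⟩ := hw
  have : v = w := mul_left_cancel (mul_right_cancel (show g * v * g⁻¹ = g * w * g⁻¹ from hvw))
  exact this ▸ hv

theorem Hyp.exists_phi (h : Hyp z C Q) (hX : IsX z C Q X)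
    (hK0 : K0 ≤ normalizer (X : Set G)) (hdisj : K0 ⊓ X = ⊥)
    (hsup : ∀ n ∈ normalizer (X : Set G), ∃ k ∈ K0, k⁻¹ * n ∈ X) :
    ∃ φ : H1 →* G, Function.Injective φ ∧ φ.range = normalizer (X : Set G) ∧
      (E1.subgroupOf H1).map φ = X ∧ φ ⟨z4, z4_mem⟩ = z ∧ C = (C4.subgroupOf H1).map φ ∧
      ∀ g : H1, (g : L4) ∈ Q4 ↔ φ g ∈ Q ∧ φ g ∈ C := by
  classical
  have h3 : ∀ w ∈ X, w ^ 3 = 1 := fun w hw => h.expQ w (hX.le hw)
  -- the coordinates
  obtain ⟨a, haX, haz⟩ : ∃ a ∈ X, a ∉ zpowers z := by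
    by_contra hcon
    push Not at hcon
    have h1 := Subgroup.card_le_of_le (show X ≤ zpowers z from hcon)
    rw [hX.card, Nat.card_zpowers, h.ordz] at h1
    omega
  have hle9 : Nat.card ↥(zpowers z ⊔ zpowers a) ≤ 9 := by
    have hnorm : ∀ g ∈ zpowers a, ∀ w ∈ zpowers z, g * w * g⁻¹ = w := fun g hg w hw => by
      have hc : Commute g w := hX.comm g (zpowers_le.2 haX hg) w (zpowers_le.2 hX.zX hw)
      rw [hc.eq, mul_inv_cancel_right]
    let f : ↥(zpowers z) × ↥(zpowers a) →* G := MonoidHom.noncommCoprod (zpowers z).subtype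
      (zpowers a).subtype fun u v => hX.comm u (zpowers_le.2 hX.zX u.2) v (zpowers_le.2 haX v.2)
    have hrange : zpowers z ⊔ zpowers a ≤ f.range := sup_le
      (fun u hu => ⟨(⟨u, hu⟩, 1), mul_one u⟩) (fun u hu => ⟨(1, ⟨u, hu⟩), one_mul u⟩)
    refine (Subgroup.card_le_of_le hrange).trans
      ((Nat.card_le_card_of_surjective _ f.rangeRestrict_surjective).trans ?_)
    rw [Nat.card_prod, Nat.card_zpowers, Nat.card_zpowers, h.ordz]
    have := Nat.le_of_dvd (by norm_num) (orderOf_dvd_of_pow_eq_one (h3 a haX))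
    omega
  obtain ⟨b, hbX, hbaz⟩ : ∃ b ∈ X, b ∉ zpowers z ⊔ zpowers a := by
    by_contra hcon
    push Not at hcon
    have h1 := Subgroup.card_le_of_le (show X ≤ zpowers z ⊔ zpowers a from hcon)
    rw [hX.card] at h1
    omega
  obtain ⟨ι, hι⟩ : ∃ ι : V3 → G, ι = word a b z := ⟨_, rfl⟩
  have hιX : ∀ v, ι v ∈ X := fun v => by
    rw [hι]; exact mul_mem (mul_mem (pow_mem haX _) (pow_mem hbX _)) (pow_mem hX.zX _)
  have hιadd : ∀ v w, ι (v + w) = ι v * ι w := fun v w => by
    rw [hι]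
    exact word_add (h3 a haX) (h3 b hbX) h.z3 (hX.comm a haX b hbX) (hX.comm a haX z hX.zX)
      (hX.comm b hbX z hX.zX) v w
  have hι0 : ι 0 = 1 := by rw [hι]; simp [word]
  have hιz : ι (Pi.single 2 1) = z := by rw [hι]; exact word_one a b z
  have hιinj : Function.Injective ι := by
    have key : ∀ v, ι v = 1 → v = 0 := by
      intro v hv
      rw [hι, word] at hv
      have hz' : z ^ (v 2).val ∈ zpowers z := pow_mem (mem_zpowers z) _
      have h1 : v 1 = 0 := by
        by_contra h1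
        have hb : b ^ (v 1).val ∈ zpowers z ⊔ zpowers a := by
          rw [show b ^ (v 1).val = (a ^ (v 0).val)⁻¹ * (z ^ (v 2).val)⁻¹ by
            rw [eq_inv_mul_iff_mul_eq, ← mul_eq_one_iff_eq_inv]; exact hv]
          exact mul_mem (inv_mem (mem_sup_right (pow_mem (mem_zpowers a) _)))
            (inv_mem (mem_sup_left hz'))
        refine hbaz ?_
        rcases (by decide : ∀ x : ZMod 3, x = 0 ∨ x = 1 ∨ x = 2) (v 1) with e | e | e
        · exact absurd e h1
        · rw [e] at hb; simpa [ZMod.val_one] using hb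
        · rw [e, show (2 : ZMod 3).val = 2 from rfl] at hb
          have := pow_mem hb 2
          rwa [← pow_mul, pow_succ, h3 b hbX, one_mul] at this
      rw [h1, ZMod.val_zero, pow_zero, mul_one] at hv
      have h0 : v 0 = 0 := by
        by_contra h0
        have ha : a ^ (v 0).val ∈ zpowers z := by
          rw [mul_eq_one_iff_eq_inv.1 hv]; exact inv_mem hz'
        refine haz ?_
        rcases (by decide : ∀ x : ZMod 3, x = 0 ∨ x = 1 ∨ x = 2) (v 0) with e | e | e
        · exact absurd e h0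
        · rw [e] at ha; simpa [ZMod.val_one] using ha
        · rw [e, show (2 : ZMod 3).val = 2 from rfl] at ha
          have := pow_mem ha 2
          rwa [← pow_mul, pow_succ, h3 a haX, one_mul] at this
      rw [h0, ZMod.val_zero, pow_zero, one_mul] at hv
      have h2 : v 2 = 0 := by
        have h4 := orderOf_dvd_of_pow_eq_one hv
        rw [h.ordz] at h4
        have := ZMod.val_lt (v 2)
        rw [← ZMod.val_eq_zero]
        omega
      ext j
      fin_cases j
      exacts [h0, h1, h2]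
    intro v w hvw
    have h1 : ι (v - w) * ι w = 1 * ι w := by rw [← hιadd, sub_add_cancel, one_mul, hvw]
    exact sub_eq_zero.1 (key _ (mul_right_cancel h1))
  have hιsurj : ∀ w ∈ X, ∃ v, ι v = w := by
    have hbij : Function.Bijective (fun v : V3 => (⟨ι v, hιX v⟩ : X)) :=
      (Nat.bijective_iff_injective_and_card _).2 ⟨fun v w e => hιinj (congrArg Subtype.val e), by
        rw [hX.card, Nat.card_fun, Nat.card_zmod, Nat.card_eq_fintype_card, Fintype.card_fin]; rfl⟩
    exact fun w hw => (hbij.2 ⟨w, hw⟩).imp fun v e => congrArg Subtype.val e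
  have hNX : ∀ k ∈ normalizer (X : Set G), ∀ w ∈ X, k⁻¹ * w * k ∈ X := fun k hk w hw => by
    have := (Subgroup.mem_normalizer_iff.1 (inv_mem hk) w).1 hw
    rwa [inv_inv] at this
  -- the action
  have hrow : ∀ (k : K0) (i : Fin 3), ∃ v, ι v = (k : G)⁻¹ * ι (Pi.single i 1) * k := fun k i =>
    hιsurj _ (hNX k (hK0 k.2) _ (hιX _))
  choose ρr hρr using hrow
  let ρ0 : K0 → M3 := fun k => Matrix.of (ρr k)
  have hρ0 : ∀ (k : K0) (i : Fin 3), ι ((ρ0 k).row i) = (k : G)⁻¹ * ι (Pi.single i 1) * k := hρr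
  have hact : ∀ (k : K0) (v : V3), (k : G)⁻¹ * ι v * k = ι (v ᵥ* (ρ0 k)) := by
    intro k
    suffices ∀ v : V3, ∃ w, w = v ᵥ* (ρ0 k) ∧ (k : G)⁻¹ * ι v * k = ι w by
      intro v; obtain ⟨w, rfl, hw⟩ := this v; exact hw
    have hsingle : ∀ (i : Fin 3) (n : ℕ),
        (k : G)⁻¹ * ι (n • Pi.single i 1) * k = ι ((n • Pi.single i 1) ᵥ* (ρ0 k)) := by
      intro i n
      induction n with
      | zero => rw [zero_smul, Matrix.zero_vecMul, hι0]; group
      | succ n ih =>
        rw [succ_nsmul, Matrix.add_vecMul, hιadd, hιadd, ← ih, Matrix.single_one_vecMul, hρ0]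
        group
    intro v
    refine ⟨_, rfl, ?_⟩
    have hv : v = (v 0).val • Pi.single 0 1 + (v 1).val • Pi.single 1 1 + (v 2).val • Pi.single 2 1 := by
      clear * - v
      revert v; decide +kernel
    rw [hv, Matrix.add_vecMul, Matrix.add_vecMul, hιadd, hιadd, hιadd, hιadd, ← hsingle, ← hsingle,
      ← hsingle]
    group
  let ρ : K0 →* M3 :=
    { toFun := fun k => ρ0 k
      map_one' := by
        apply Matrix.ext_of_single_vecMul
        intro i
        apply hιinj
        rw [← hact, Matrix.vecMul_one]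
        simp
      map_mul' := fun k l => by
        apply Matrix.ext_of_single_vecMul
        intro i
        apply hιinj
        rw [← hact, ← Matrix.vecMul_vecMul, ← hact l, ← hact k]
        simp only [Subgroup.coe_mul]
        group }
  have hρact : ∀ (k : K0) (v : V3), (k : G)⁻¹ * ι v * k = ι (v ᵥ* ρ k) := hact
  have hρinj : Function.Injective ρ := by
    rw [injective_iff_map_eq_one]
    intro k hk
    have hkX : (k : G) ∈ X := by
      rw [← hX.cent, Subgroup.mem_centralizer_iff]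
      intro w hw
      obtain ⟨v, rfl⟩ := hιsurj w hw
      have h1 := hρact k v
      rw [hk, Matrix.vecMul_one] at h1
      calc ι v * k = (k : G) * ((k : G)⁻¹ * ι v * k) := by group
        _ = _ := by rw [h1]
    exact Subtype.ext (Subgroup.mem_bot.1 (hdisj ▸ (⟨k.2, hkX⟩ : (k : G) ∈ K0 ⊓ X)))
  let ρu : K0 →* M3ˣ := ρ.toHomUnits
  have hρuinj : Function.Injective ρu := fun k l e => hρinj (congrArg Units.val e)
  have hfix : ∀ k : K0, ρu k ∈ Stab ↔ (k : G) ∈ C := by
    intro k
    show (Pi.single 2 1 : V3) ᵥ* ρ k = _ ↔ _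
    rw [← hιinj.eq_iff, ← hρact, hιz, h.memC]
    constructor
    · intro e
      calc (k : G) * z = k * ((k : G)⁻¹ * z * k) := by rw [e]
        _ = z * k := by group
    · intro e
      rw [mul_assoc, ← e, inv_mul_cancel_left]
  have hXC : X ≤ C := fun w hw => h.QC (hX.le hw)
  have hCN : C ≤ normalizer (X : Set G) := fun c hc => mem_normalizer_of_conj (hX.normal c hc)
  have h216 : Nat.card ↥(ρu.range ⊓ Stab) = 216 := by
    rw [← Subgroup.map_comap_eq, Subgroup.card_map_of_injective hρuinj]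
    let F : ↥(Stab.comap ρu) × X → C := fun p =>
      ⟨((p.1 : K0) : G) * p.2, mul_mem ((hfix p.1).1 p.1.2) (hXC p.2.2)⟩
    have hF : Function.Bijective F := by
      refine ⟨fun p q e => ?_, fun c => ?_⟩
      · have e' : ((p.1 : K0) : G) * p.2 = ((q.1 : K0) : G) * q.2 := congrArg Subtype.val e
        have h1 : ((q.1 : K0) : G)⁻¹ * (p.1 : K0) = (q.2 : G) * (p.2 : G)⁻¹ := by
          rw [eq_mul_inv_iff_mul_eq, mul_assoc, e', inv_mul_cancel_left]
        have h2 : ((q.1 : K0) : G)⁻¹ * (p.1 : K0) ∈ K0 ⊓ X :=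
          ⟨K0.mul_mem (K0.inv_mem (q.1 : K0).2) (p.1 : K0).2, h1 ▸ X.mul_mem q.2.2 (X.inv_mem p.2.2)⟩
        rw [hdisj, Subgroup.mem_bot, inv_mul_eq_one] at h2
        rw [h2] at e'
        exact Prod.ext (Subtype.ext (Subtype.ext h2.symm)) (Subtype.ext (mul_left_cancel e'))
      · obtain ⟨k, hk, hkc⟩ := hsup c (hCN c.2)
        have hkC : k ∈ C := by
          have := mul_mem c.2 (inv_mem (hXC hkc))
          rwa [_root_.mul_inv_rev, inv_inv, ← mul_assoc, mul_inv_cancel, one_mul] at this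
        exact ⟨(⟨⟨k, hk⟩, (hfix ⟨k, hk⟩).2 hkC⟩, ⟨_, hkc⟩), Subtype.ext (mul_inv_cancel_left k _)⟩
    have h1 := Nat.card_eq_of_bijective F hF
    rw [Nat.card_prod, hX.card, h.cardC] at h1
    omega
  -- the normaliser moves the line of `z`
  have hmove : ∃ u ∈ ρu.range, ((Pi.single 2 1 : V3) ᵥ* (u : M3)) 0 ≠ 0 ∨
      ((Pi.single 2 1 : V3) ᵥ* (u : M3)) 1 ≠ 0 := by
    by_contra hcon
    push Not at hcon
    have hN : ∀ n ∈ normalizer (X : Set G), n⁻¹ * z * n = z ∨ n⁻¹ * z * n = z⁻¹ := by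
      intro n hn
      obtain ⟨k, hk, hkn⟩ := hsup n hn
      have hkz : k⁻¹ * z * k = z ∨ k⁻¹ * z * k = z⁻¹ := by
        have hw := hcon (ρu ⟨k, hk⟩) ⟨_, rfl⟩
        have h1 := hρact ⟨k, hk⟩ (Pi.single 2 1)
        rw [hιz] at h1
        rw [h1]
        set w : V3 := (Pi.single 2 1 : V3) ᵥ* ρ ⟨k, hk⟩
        have hne : w ≠ 0 := fun e => h.z_ne (by
          have h2 : (k : G)⁻¹ * z * k = 1 := by rw [h1, ← hι0, ← e]
          simpa [mul_assoc] using congrArg (fun g => k * g * k⁻¹) h2)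
        have hw' : w = Pi.single 2 1 ∨ w = Pi.single 2 1 + Pi.single 2 1 :=
          (by decide +kernel : ∀ w : V3, w 0 = 0 → w 1 = 0 → w ≠ 0 →
            w = Pi.single 2 1 ∨ w = Pi.single 2 1 + Pi.single 2 1) w hw.1 hw.2 hne
        rcases hw' with e | e <;> rw [e]
        · exact Or.inl hιz
        · refine Or.inr ?_
          rw [hιadd, hιz]
          exact eq_inv_of_mul_eq_one_left (by rw [← pow_two, ← pow_succ, h.z3])
      set x := k⁻¹ * n with hx
      have hnx : n⁻¹ * z * n = x⁻¹ * (k⁻¹ * z * k) * x := by rw [hx]; group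
      have hxc : Commute x z := hX.comm x hkn z hX.zX
      rw [hnx]
      rcases hkz with e | e <;> rw [e]
      · exact Or.inl (by rw [mul_assoc, ← hxc.eq, inv_mul_cancel_left])
      · exact Or.inr (by rw [mul_assoc, ← hxc.inv_right.eq, inv_mul_cancel_left])
    obtain ⟨τ, hτC, hτy, hτ3⟩ : ∃ τ : G, τ ∈ C ∧
        τ⁻¹ * ι (Pi.single 0 1) * τ ≠ ι (Pi.single 0 1) ∧ τ ^ 3 = 1 := by
      let tt : M3ˣ := ⟨tr3 0 2 1, tr3 0 2 1 * tr3 0 2 1, tr3_cube 0 2 1 (by decide),
        by rw [mul_assoc]; exact tr3_cube 0 2 1 (by decide)⟩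
      have htt : tt ∈ Stab := tr3_fix 0 2 2 1 (by decide)
      have hmem : tt ∈ ρu.range := by
        have hle : ρu.range ⊓ Stab ≤ Stab := inf_le_right
        have h1 := ((ρu.range ⊓ Stab).subgroupOf Stab).card_mul_index
        rw [Nat.card_congr (Subgroup.subgroupOfEquivOfLe hle).toEquiv, h216] at h1
        have h2 := card_Stab
        exact (cube_mem ((ρu.range ⊓ Stab).subgroupOf Stab) (by omega)
          Subgroup.index_ne_zero_of_finite (g := (⟨tt, htt⟩ : Stab)) (Subtype.ext (Units.ext (by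
            show ((tt ^ 3 : M3ˣ) : M3) = 1
            rw [Units.val_pow_eq_pow_val, pow_succ', pow_two]
            exact tr3_cube 0 2 1 (by decide))))).1
      obtain ⟨τ, hτ⟩ := hmem
      refine ⟨τ, (hfix τ).1 (hτ ▸ htt), ?_, ?_⟩
      · rw [hρact]
        intro e
        have h2 : ρ τ = tr3 0 2 1 := congrArg Units.val hτ
        rw [h2] at e
        exact moved (hιinj e)
      · have h2 : τ ^ 3 = 1 := hρuinj (by
          rw [map_pow, hτ, map_one]
          refine Units.ext ?_
          rw [Units.val_pow_eq_pow_val, pow_succ', pow_two]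
          exact tr3_cube 0 2 1 (by decide))
        exact congrArg Subtype.val h2
    set y := ι (Pi.single 0 1) with hydef
    have hyz : y ∉ zpowers z := by
      rw [hydef, hι]
      simpa [word, ZMod.val_one] using haz
    have hy1 : y ≠ 1 := fun e => hyz (e ▸ one_mem _)
    obtain ⟨x, hx⟩ := isConj_iff.1 (hX.zclass y (hιX _) hy1)
    have hyQ : y ∈ Q := hX.le (hιX _)
    set Cy := centralizer ({y} : Set G) with hCy
    have hCyN : ∀ c ∈ Cy, c ∈ normalizer (X : Set G) := fun c hc => mem_normalizer_of_conj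
      (h.centY_normal hx hyQ hyz hX (hιX _) c (mem_centralizer_singleton_iff.1 hc))
    have hcardy : Nat.card Cy = 5832 := by
      rw [← h.cardC, h.cent]
      refine Nat.card_congr (Equiv.subtypeEquiv (MulAut.conj x⁻¹).toEquiv fun c => ?_)
      show c ∈ centralizer ({y} : Set G) ↔ x⁻¹ * c * x⁻¹⁻¹ ∈ centralizer ({z} : Set G)
      rw [inv_inv, mem_centralizer_singleton_iff, mem_centralizer_singleton_iff, ← hx]
      constructor
      · intro e
        calc x⁻¹ * c * x * z = x⁻¹ * (c * (x * z * x⁻¹)) * x := by group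
          _ = _ := by rw [e]; group
      · intro e
        calc c * (x * z * x⁻¹) = x * (x⁻¹ * c * x * z) * x⁻¹ := by group
          _ = _ := by rw [e]; group
    have hidx : ∀ r ∈ Cy, ∀ s ∈ Cy, r ∉ C → s ∉ C → r⁻¹ * s ∈ C := by
      have hinv : ∀ r ∈ Cy, r ∉ C → r⁻¹ * z * r = z⁻¹ := fun r hr hrC =>
        (hN r (hCyN r hr)).resolve_left fun e => hrC (h.memC.2 (by
          calc r * z = r * (r⁻¹ * z * r) := by rw [e]
            _ = z * r := by group))
      intro r hr s hs hrC hsC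
      rw [h.memC]
      have e1 := hinv r hr hrC
      have e2 := hinv s hs hsC
      have e3 : (r⁻¹ * s)⁻¹ * z * (r⁻¹ * s) = z := by
        have e4 : r * z * r⁻¹ = z⁻¹ := by
          calc r * z * r⁻¹ = (r * (r⁻¹ * z * r) * r⁻¹)⁻¹ := by rw [e1]; group
            _ = _ := by group
        calc (r⁻¹ * s)⁻¹ * z * (r⁻¹ * s) = s⁻¹ * (r * z * r⁻¹) * s := by group
          _ = (s⁻¹ * z * s)⁻¹ := by rw [e4]; group
          _ = z := by rw [e2, inv_inv]
      calc r⁻¹ * s * z = r⁻¹ * s * ((r⁻¹ * s)⁻¹ * z * (r⁻¹ * s)) := by rw [e3]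
        _ = _ := by group
    have hhalf : 2916 ≤ Nat.card ↥(Cy ⊓ C) := by
      have : Nat.card Cy ≤ 2 * Nat.card ↥(Cy ⊓ C) := by
        by_cases hle : Cy ≤ C
        · rw [inf_eq_left.2 hle]; omega
        obtain ⟨r0, hr0, hr0C⟩ := SetLike.not_le_iff_exists.1 hle
        let f : Cy → ↥(Cy ⊓ C) × Bool := fun s =>
          if hs : (s : G) ∈ C then (⟨s, s.2, hs⟩, false)
          else (⟨r0⁻¹ * s, Cy.mul_mem (Cy.inv_mem hr0) s.2, hidx r0 hr0 s s.2 hr0C hs⟩, true)
        have hf : Function.Injective f := by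
          intro u v huv
          simp only [f] at huv
          split_ifs at huv with hu hv hv
          · exact Subtype.ext (congrArg (fun w : ↥(Cy ⊓ C) × Bool => (w.1 : G)) huv :)
          · simp at huv
          · simp at huv
          · exact Subtype.ext (mul_left_cancel (congrArg (fun w : ↥(Cy ⊓ C) × Bool => (w.1 : G)) huv :))
        have := Nat.card_le_card_of_injective f hf
        rw [Nat.card_prod, Nat.card_eq_fintype_card (α := Bool), Fintype.card_bool] at this
        omega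
      omega
    have hmemT : (⟨τ, hτC⟩ : C) ∈ (Cy ⊓ C).subgroupOf C := by
      have h1 := ((Cy ⊓ C).subgroupOf C).card_mul_index
      rw [Nat.card_congr (Subgroup.subgroupOfEquivOfLe (inf_le_right : Cy ⊓ C ≤ C)).toEquiv, h.cardC] at h1
      refine cube_mem _ ?_ Subgroup.index_ne_zero_of_finite (Subtype.ext hτ3)
      by_contra h2
      push Not at h2
      have : Nat.card ↥(Cy ⊓ C) * 3 ≤ 5832 := h1 ▸ Nat.mul_le_mul_left _ h2
      omega
    refine hτy ?_
    have h5 : τ * y = y * τ := mem_centralizer_singleton_iff.1 hmemT.1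
    rw [mul_assoc, ← h5, inv_mul_cancel_left]
  have hR := range_eq ρu.range h216 hmove
  -- the inverse
  have hsig : ∀ g : H1, ∃ k : K0, ρ k = aP (g : L4) := fun g => by
    obtain ⟨k, hk⟩ := (hR (unitOf (aP (g : L4)) (by rw [det_aP g.2]; decide))).2
      (by rw [unitOf_val, det_aP g.2])
    exact ⟨k, (congrArg Units.val hk).trans (unitOf_val _ _)⟩
  choose σ hσ using hsig
  let φ : H1 →* G := MonoidHom.mk' (fun g => (σ g : G) * ι (vP (g : L4))) fun g g' => by
    have hm : σ (g * g') = σ g * σ g' := hρinj (by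
      rw [map_mul, hσ, hσ, hσ, Subgroup.coe_mul, aP_mul g.2])
    rw [hm, Subgroup.coe_mul, Subgroup.coe_mul, vP_mul g.2, hιadd, ← hσ g', ← hρact]
    group
  have hφval : ∀ g : H1, φ g = (σ g : G) * ι (vP (g : L4)) := fun _ => rfl
  have hone : ∀ g : H1, aP (g : L4) = 1 → φ g = ι (vP (g : L4)) := fun g hg => by
    have : σ g = 1 := hρinj (by rw [hσ, hg, map_one])
    rw [hφval, this, Subgroup.coe_one, one_mul]
  have hone' : ∀ g : H1, φ g ∈ X → aP (g : L4) = 1 := fun g hg => by
    have h1 : (σ g : G) ∈ X := by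
      have := mul_mem hg (inv_mem (hιX (vP (g : L4))))
      rwa [hφval, mul_inv_cancel_right] at this
    rw [← hσ, show σ g = 1 from
      Subtype.ext (Subgroup.mem_bot.1 (hdisj ▸ (⟨(σ g).2, h1⟩ : (σ g : G) ∈ K0 ⊓ X))), map_one]
  have hφinj : Function.Injective φ := by
    rw [injective_iff_map_eq_one]
    intro g hg
    have hA := hone' g (hg ▸ one_mem X)
    rw [hone g hA, ← hι0] at hg
    exact Subtype.ext (ext_H1 g.2 (one_mem H1) (hA.trans (by decide +kernel : (1 : M3) = aP 1))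
      ((hιinj hg).trans (by decide +kernel : (0 : V3) = vP 1)))
  have hsurj : ∀ n ∈ normalizer (X : Set G), ∃ g : H1, φ g = n := by
    intro n hn
    obtain ⟨k, hk, hkn⟩ := hsup n hn
    obtain ⟨v, hv⟩ := hιsurj _ hkn
    have hdet : (ρ ⟨k, hk⟩).det = 1 := (hR (ρu ⟨k, hk⟩)).1 ⟨_, rfl⟩
    refine ⟨⟨L43FrameIso87.mk (ρ ⟨k, hk⟩) hdet v, mk_mem _ _ _⟩, ?_⟩
    have hs : σ ⟨L43FrameIso87.mk (ρ ⟨k, hk⟩) hdet v, mk_mem _ _ _⟩ = ⟨k, hk⟩ := hρinj (by rw [hσ]; rfl)
    rw [hφval, hs, vP_mk, hv, mul_inv_cancel_left]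
  have hC : ∀ g : H1, φ g ∈ C ↔ (g : L4) ∈ C4 := by
    intro g
    rw [mem_C4_iff g.2, ← hσ g]
    refine Iff.trans ?_ (hfix (σ g)).symm
    rw [hφval]
    exact Subgroup.mul_mem_cancel_right C (hXC (hιX _))
  have hQ : ∀ g : H1, φ g ∈ Q → (g : L4) ∈ Q4 := by
    intro g hg
    rw [mem_Q4_iff g.2]
    refine ⟨(mem_C4_iff g.2).1 ((hC g).1 (h.QC hg)), ?_⟩
    have hsQ : (σ g : G) ∈ Q := by
      have := mul_mem hg (inv_mem (hX.le (hιX (vP (g : L4)))))
      rwa [hφval, mul_inv_cancel_right] at this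
    have key : ∀ i j : Fin 3, j ≠ 2 → ρ (σ g) i j = (Pi.single i 1 : V3) j := by
      intro i j hj
      obtain ⟨l, hl⟩ := mem_zpowers_iff.1 (h.comm (σ g : G)⁻¹ (inv_mem hsQ) _ (hX.le (hιX (Pi.single i 1))))
      obtain ⟨m, hm⟩ : ∃ m : ℕ, z ^ m = z ^ l :=
        mem_powers_iff_mem_zpowers.2 (zpow_mem (mem_zpowers z) l)
      have hzm : ι (m • Pi.single 2 1) = z ^ m := by
        clear hm
        induction m with
        | zero => rw [zero_smul, hι0, pow_zero]
        | succ m ih => rw [succ_nsmul, hιadd, ih, hιz, pow_succ]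
      have h1 : (σ g : G)⁻¹ * ι (Pi.single i 1) * (σ g : G) = z ^ m * ι (Pi.single i 1) := by
        rw [hm, hl, commutatorElement_def, inv_inv]; group
      rw [hρact, ← hzm, ← hιadd] at h1
      have h2 := congrFun (hιinj h1) j
      rw [Matrix.single_one_vecMul] at h2
      rw [show ρ (σ g) i j = (ρ (σ g)).row i j from rfl, h2]
      simp [hj]
    rw [← hσ g, key 0 0 (by decide), key 0 1 (by decide), key 1 0 (by decide), key 1 1 (by decide)]
    decide +kernel
  refine ⟨φ, hφinj, ?_, ?_, ?_, ?_, ?_⟩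
  · refine le_antisymm ?_ fun n hn => hsurj n hn
    rintro _ ⟨g, rfl⟩
    exact mul_mem (hK0 (σ g).2) (Subgroup.le_normalizer (hιX _))
  · refine le_antisymm ?_ fun w hw => ?_
    · rintro _ ⟨g, hg, rfl⟩
      rw [hone g ((mem_E1_iff g.2).1 hg)]
      exact hιX _
    · obtain ⟨g, rfl⟩ := hsurj w (Subgroup.le_normalizer hw)
      exact ⟨g, (mem_E1_iff g.2).2 (hone' g hw), rfl⟩
  · rw [hone _ z4_parts.1, z4_parts.2, hιz]
  · refine le_antisymm (fun c hc => ?_) ?_
    · obtain ⟨g, rfl⟩ := hsurj c (hCN hc)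
      exact ⟨g, (hC g).1 hc, rfl⟩
    · rintro _ ⟨g, hg, rfl⟩
      exact (hC g).2 hg
  · intro g
    refine ⟨fun hg => ?_, fun hg => hQ g hg.1⟩
    refine ⟨?_, (hC g).2 hg.1⟩
    let par : H1 → V3 × ZMod 3 × ZMod 3 := fun q =>
      (vP (q : L4), aP (q : L4) 0 2, aP (q : L4) 1 2)
    have hpar : ∀ p q : H1, (p : L4) ∈ Q4 → (q : L4) ∈ Q4 → par p = par q → p = q := by
      intro p q hp hq e
      have hp' := (mem_Q4_iff p.2).1 hp
      have hq' := (mem_Q4_iff q.2).1 hq
      refine Subtype.ext (ext_H1 p.2 q.2 ?_ (congrArg Prod.fst e))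
      have e1 := congrArg (fun t : V3 × ZMod 3 × ZMod 3 => t.2.1) e
      have e2 := congrArg (fun t : V3 × ZMod 3 × ZMod 3 => t.2.2) e
      have h2 := hp'.1.trans hq'.1.symm
      rw [Matrix.single_one_vecMul, Matrix.single_one_vecMul] at h2
      ext i j
      fin_cases i
      · fin_cases j
        exacts [hp'.2.1.trans hq'.2.1.symm, hp'.2.2.1.trans hq'.2.2.1.symm, e1]
      · fin_cases j
        exacts [hp'.2.2.2.1.trans hq'.2.2.2.1.symm, hp'.2.2.2.2.trans hq'.2.2.2.2.symm, e2]
      · exact congrFun h2 j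
    have hlift : ∀ q : Q, ∃ p : H1, φ p = q := fun q => hsurj q (hCN (h.QC q.2))
    choose lift hlift using hlift
    have hliftQ : ∀ q : Q, (lift q : L4) ∈ Q4 := fun q => hQ _ (by rw [hlift]; exact q.2)
    have hbij : Function.Bijective (fun q : Q => par (lift q)) := by
      refine (Nat.bijective_iff_injective_and_card _).2 ⟨fun q q' e => Subtype.ext ?_, ?_⟩
      · rw [← hlift q, ← hlift q', hpar _ _ (hliftQ q) (hliftQ q') e]
      · rw [h.cardQ, Nat.card_prod, Nat.card_prod, Nat.card_fun, Nat.card_zmod,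
          Nat.card_eq_fintype_card, Fintype.card_fin]
        rfl
    obtain ⟨q, hq⟩ := hbij.2 (par g)
    rw [← hpar _ _ (hliftQ q) hg hq, hlift]
    exact q.2

end Cfsg.Agent.L43Three45
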