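import Cfsg.Agent.Lib.L43FrameOne45
import Cfsg.Agent.Lib.L43FrameCompl3
import Cfsg.Agent.Lib.L43FrameIso87

/-!
The first parabolic from the properties of the centraliser of the central element.
-/

set_option autoImplicit false

namespace Cfsg.Agent.L43Three45

theorem Hyp.exists_one {G : Type*} [Group G] [Finite G] {z : G} {C Q : Subgroup G}
    (h : Hyp z C Q) : ∃ φ : H1 →* G, One φ := by
  obtain ⟨x, hxQ, hxz⟩ := h.exists_conj
  obtain ⟨X, hX, -⟩ := h.exists_X rfl hxQ hxz
  obtain ⟨K0, hK0, hdisj, hsup⟩ := h.exists_complement hX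
  obtain ⟨φ, hinj, hrange, hE, hz, hC, hQ⟩ := h.exists_phi hX hK0 hdisj hsup
  exact ⟨φ, h.one_of_phi hinj hrange hE hz hC fun g hg => ((hQ g).1 hg).1⟩

end Cfsg.Agent.L43Three45
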