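import Cfsg.Agent.Lib.L43FrameBase45

/-!
Adjacency of two conjugates of the central element inside the radicals.
-/

set_option autoImplicit false
set_option linter.unusedSectionVars false
set_option linter.style.haveILetI false
set_option linter.unusedSimpArgs false

namespace Cfsg.Agent.L43Three45

open Subgroup
open scoped commutatorElement

variable {G : Type*} [Group G] [Finite G] {z : G} {C Q : Subgroup G}

/-- The radical at the conjugate of `z` by `x`. -/
abbrev Qc (Q : Subgroup G) (x : G) : Subgroup G := Q.map (MulAut.conj x).toMonoidHom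

omit [Finite G] in
theorem mem_Qc {Q : Subgroup G} {x a : G} : a ∈ Qc Q x ↔ x⁻¹ * a * x ∈ Q := by
  rw [Subgroup.mem_map]
  constructor
  · rintro ⟨b, hb, rfl⟩
    simpa [MulAut.conj_apply, mul_assoc] using hb
  · intro ha
    exact ⟨_, ha, by simp [MulAut.conj_apply, mul_assoc]⟩

omit [Finite G] in
theorem card_Qc (Q : Subgroup G) (x : G) : Nat.card (Qc Q x) = Nat.card Q :=
  Subgroup.card_map_of_injective (MulAut.conj x).injective

namespace Hyp

variable (h : Hyp z C Q) {x y : G}
include h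

omit [Finite G] in
theorem Qc_comm (hy : x * z * x⁻¹ = y) {a b : G} (ha : a ∈ Qc Q x) (hb : b ∈ Qc Q x) :
    ⁅a, b⁆ ∈ zpowers y := by
  obtain ⟨k, hk⟩ := mem_zpowers_iff.1 (h.comm _ (mem_Qc.1 ha) _ (mem_Qc.1 hb))
  refine mem_zpowers_iff.2 ⟨k, ?_⟩
  have : ⁅a, b⁆ = x * ⁅x⁻¹ * a * x, x⁻¹ * b * x⁆ * x⁻¹ := by
    simp only [commutatorElement_def]; group
  rw [this, ← hk, ← hy, conj_zpow]

omit [Finite G] in
theorem mem_conjC (hy : x * z * x⁻¹ = y) {c : G} : x⁻¹ * c * x ∈ C ↔ c * y = y * c := by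
  rw [h.memC, ← hy]
  constructor <;> intro e
  · calc c * (x * z * x⁻¹) = x * (x⁻¹ * c * x * z) * x⁻¹ := by group
      _ = _ := by rw [e]; group
  · calc x⁻¹ * c * x * z = x⁻¹ * (c * (x * z * x⁻¹)) * x := by group
      _ = _ := by rw [e]; group

/-- A three-element of `C` outside `Q` cubes into `Q`. -/
theorem pow_three_mem {c : G} (hc : c ∈ C) {n : ℕ} (hn : c ^ 3 ^ n = 1) : c ^ 3 ∈ Q := by
  haveI : (Q.subgroupOf C).Normal := ⟨fun q hq d => h.normal d d.2 q hq⟩
  have hcard : Nat.card (C ⧸ Q.subgroupOf C) = 24 := by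
    have := Subgroup.card_eq_card_quotient_mul_card_subgroup (Q.subgroupOf C)
    rw [h.cardC, Nat.card_congr (Subgroup.subgroupOfEquivOfLe h.QC).toEquiv, h.cardQ] at this
    omega
  set a : C ⧸ Q.subgroupOf C := QuotientGroup.mk ⟨c, hc⟩
  have h1 : orderOf a ∣ 24 := hcard ▸ orderOf_dvd_natCard a
  have h2 : orderOf a ∣ 3 ^ n := orderOf_dvd_of_pow_eq_one (by
    rw [← QuotientGroup.mk_pow, show (⟨c, hc⟩ : C) ^ 3 ^ n = 1 from Subtype.ext hn]; rfl)
  obtain ⟨m, -, hm⟩ := (Nat.dvd_prime_pow Nat.prime_three).1 h2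
  have : orderOf a ∣ 3 := by
    rw [hm] at h1 ⊢
    rcases m with _ | _ | m
    · simp
    · simp
    · exfalso
      have : 3 ^ 2 ∣ 24 := dvd_trans (pow_dvd_pow 3 (by omega)) h1
      norm_num at this
  have e : a ^ 3 = 1 := orderOf_dvd_iff_pow_eq_one.1 this
  rw [← QuotientGroup.mk_pow, QuotientGroup.eq_one_iff, mem_subgroupOf] at e
  simpa using e

omit [Finite G] in
theorem pow_conj_eq_one {x g : G} (hg : g ∈ Qc Q x) : g ^ 3 = 1 := by
  have := h.expQ _ (mem_Qc.1 hg)
  rw [show x⁻¹ * g * x = x⁻¹ * g * x⁻¹⁻¹ by group, conj_pow, conj_eq_one_iff] at this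
  exact this

theorem normal_subgroupOf : (Q.subgroupOf C).Normal :=
  ⟨fun q hq d => h.normal d d.2 q hq⟩

/-- A three-subgroup of `C` has image of order at most three in `C/Q`. -/
theorem card_image_le [(Q.subgroupOf C).Normal] {P : Subgroup G} (hP : ∀ p ∈ P, ∃ n : ℕ, p ^ 3 ^ n = 1) :
    Nat.card ((P.subgroupOf C).map (QuotientGroup.mk' (Q.subgroupOf C))) ≤ 3 := by
  set π := QuotientGroup.mk' (Q.subgroupOf C)
  set R : Subgroup (C ⧸ Q.subgroupOf C) := (P.subgroupOf C).map π
  have hR : IsPGroup 3 R := IsPGroup.map (fun p => by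
    obtain ⟨n, hn⟩ := hP _ p.2
    exact ⟨n, Subtype.ext (Subtype.ext (by simpa using hn))⟩) _
  have hcard : Nat.card (C ⧸ Q.subgroupOf C) = 24 := by
    have := Subgroup.card_eq_card_quotient_mul_card_subgroup (Q.subgroupOf C)
    rw [h.cardC, Nat.card_congr (Subgroup.subgroupOfEquivOfLe h.QC).toEquiv, h.cardQ] at this
    omega
  haveI : Fact (Nat.Prime 3) := ⟨Nat.prime_three⟩
  obtain ⟨m, hm⟩ := IsPGroup.iff_card.1 hR
  have hdiv : 3 ^ m ∣ 24 := hm ▸ hcard ▸ Subgroup.card_subgroup_dvd_card R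
  have hm1 : m ≤ 1 := by
    by_contra hc
    have : 3 ^ 2 ∣ 24 := dvd_trans (pow_dvd_pow 3 (by omega)) hdiv
    norm_num at this
  calc Nat.card R = 3 ^ m := hm
    _ ≤ 3 ^ 1 := Nat.pow_le_pow_right (by norm_num) hm1
    _ = 3 := rfl

/-- A three-subgroup of `C` meets `Q` in index at most three. -/
theorem card_le_three_mul {P : Subgroup G} (hPC : P ≤ C)
    (hP : ∀ p ∈ P, ∃ n : ℕ, p ^ 3 ^ n = 1) :
    Nat.card P ≤ 3 * Nat.card (P ⊓ Q : Subgroup G) := by
  haveI := h.normal_subgroupOf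
  let f := ((QuotientGroup.mk' (Q.subgroupOf C)).comp (Subgroup.inclusion hPC))
  have hker : f.ker = (P ⊓ Q).subgroupOf P := by
    ext p
    simp [f, mem_subgroupOf, QuotientGroup.eq_one_iff]
  have hrange : f.range = (P.subgroupOf C).map (QuotientGroup.mk' (Q.subgroupOf C)) := by
    rw [MonoidHom.range_comp, Subgroup.inclusion_range]
  have h1 := Subgroup.card_eq_card_quotient_mul_card_subgroup f.ker
  rw [Nat.card_congr (QuotientGroup.quotientKerEquivRange f).toEquiv, hker,
    Nat.card_congr (Subgroup.subgroupOfEquivOfLe inf_le_left).toEquiv, hrange] at h1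
  rw [h1]
  exact Nat.mul_le_mul_right _ (h.card_image_le hP)

/-- A nilpotent three-subgroup of `C` has commutators in `Q`. -/
theorem comm_mem_of_pow_three {a b : G} (ha : a ∈ C) (hb : b ∈ C) (P : Subgroup G)
    (hP : ∀ p ∈ P, ∃ n : ℕ, p ^ 3 ^ n = 1) (haP : a ∈ P) (hbP : b ∈ P) : ⁅a, b⁆ ∈ Q := by
  haveI := h.normal_subgroupOf
  set π := QuotientGroup.mk' (Q.subgroupOf C)
  set R : Subgroup (C ⧸ Q.subgroupOf C) := (P.subgroupOf C).map π
  have hR : Nat.card R ≤ 3 := h.card_image_le hP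
  have hcyc : ∀ u ∈ R, ∀ v ∈ R, u * v = v * u := by
    intro u hu v hv
    have : IsCyclic R := by
      have := Nat.card_pos (α := R)
      rcases (show Nat.card R = 1 ∨ Nat.card R = 2 ∨ Nat.card R = 3 by omega) with e | e | e
      · haveI := (Nat.card_eq_one_iff_unique.1 e).1
        exact isCyclic_of_subsingleton
      · haveI : Fact (Nat.Prime 2) := ⟨Nat.prime_two⟩
        exact isCyclic_of_prime_card e
      · haveI : Fact (Nat.Prime 3) := ⟨Nat.prime_three⟩
        exact isCyclic_of_prime_card e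
    haveI := this
    haveI : IsMulCommutative R := IsCyclic.isMulCommutative
    exact congrArg Subtype.val (mul_comm' (⟨u, hu⟩ : R) ⟨v, hv⟩)
  have : π ⁅(⟨a, ha⟩ : C), ⟨b, hb⟩⁆ = 1 := by
    rw [map_commutatorElement, commutatorElement_eq_one_iff_mul_comm]
    exact hcyc _ (Subgroup.mem_map_of_mem _ (mem_subgroupOf.2 haP)) _
      (Subgroup.mem_map_of_mem _ (mem_subgroupOf.2 hbP))
  rw [QuotientGroup.mk'_apply, QuotientGroup.eq_one_iff, mem_subgroupOf] at this
  exact this

/-- The centraliser of an element of `Q` has index at most three in `Q`. -/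
theorem card_cent_ge (W : Subgroup G) (hW : W ≤ Q) {a : G} (ha : a ∈ Q) :
    Nat.card W ≤ 3 * Nat.card (W ⊓ centralizer ({a} : Set G) : Subgroup G) := by
  classical
  let f : W →* zpowers z :=
    { toFun := fun w => ⟨⁅(w : G), a⁆, h.comm _ (hW w.2) _ ha⟩
      map_one' := Subtype.ext (commutatorElement_one_left a)
      map_mul' := fun u v => Subtype.ext (h.comm_mul_left (hW u.2) (hW v.2) ha) }
  have hk : f.ker = (W ⊓ centralizer ({a} : Set G)).subgroupOf W := by
    ext w
    rw [MonoidHom.mem_ker, mem_subgroupOf, Subgroup.mem_inf, mem_centralizer_singleton_iff,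
      ← commutatorElement_eq_one_iff_mul_comm]
    exact ⟨fun e => ⟨w.2, congrArg Subtype.val e⟩, fun e => Subtype.ext e.2⟩
  have h1 := Subgroup.card_eq_card_quotient_mul_card_subgroup f.ker
  rw [Nat.card_congr (QuotientGroup.quotientKerEquivRange f).toEquiv, hk,
    Nat.card_congr (Subgroup.subgroupOfEquivOfLe inf_le_left).toEquiv] at h1
  have h2 : Nat.card f.range ≤ 3 := by
    refine le_trans (Subgroup.card_le_card_group _) ?_
    rw [Nat.card_zpowers, h.ordz]
  rw [h1]
  exact Nat.mul_le_mul_right _ h2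

/-- An abelian subgroup of `Q` has order at most `27`. -/
theorem card_abelian_le {A : Subgroup G} (hA : A ≤ Q)
    (hcomm : ∀ a ∈ A, ∀ b ∈ A, Commute a b) : Nat.card A ≤ 27 := by
  by_contra hn
  have hd := Subgroup.card_dvd_of_le hA
  rw [h.cardQ] at hd
  obtain ⟨m, hm5, hm⟩ := (Nat.dvd_prime_pow Nat.prime_three).1 (show Nat.card A ∣ 3 ^ 5 from hd)
  by_cases hall : Q ≤ A
  · have : A ≤ zpowers z := fun a ha => h.centre a (hA ha) fun b hb => hcomm a ha b (hall hb)
    have := Subgroup.card_le_of_le this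
    rw [Nat.card_zpowers, h.ordz] at this
    omega
  · obtain ⟨b, hbQ, hb⟩ := SetLike.not_le_iff_exists.1 hall
    set T : Subgroup G := A ⊔ zpowers b
    have hTQ : T ≤ Q := sup_le hA (zpowers_le.2 hbQ)
    have hlt : Nat.card A < Nat.card T := by
      refine lt_of_le_of_ne (Subgroup.card_le_of_le le_sup_left) fun e => hb ?_
      rw [Subgroup.eq_of_le_of_card_ge le_sup_left e.ge]
      exact mem_sup_right (mem_zpowers b)
    have hT : T = Q := by
      refine Subgroup.eq_of_le_of_card_ge hTQ ?_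
      have hd' := Subgroup.card_dvd_of_le hTQ
      rw [h.cardQ] at hd' ⊢
      obtain ⟨l, hl5, hl⟩ := (Nat.dvd_prime_pow Nat.prime_three).1
        (show Nat.card T ∣ 3 ^ 5 from hd')
      have : l = 5 := by
        rcases (show m ≤ 3 ∨ m = 4 ∨ m = 5 by omega) with e | e | e
        · have := Nat.pow_le_pow_right (show 0 < 3 by norm_num) e
          omega
        · subst e
          by_contra hne
          have := Nat.pow_le_pow_right (show 0 < 3 by norm_num) (show l ≤ 4 by omega)
          omega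
        · subst e
          have := Subgroup.card_le_of_le hTQ
          rw [h.cardQ] at this
          omega
      rw [hl, this]; norm_num
    have h1 := h.card_cent_ge A hA hbQ
    have hle : (A ⊓ centralizer ({b} : Set G)) ≤ zpowers z := fun a ha => by
      refine h.centre a (hA ha.1) fun q hq => ?_
      have hq' : q ∈ centralizer ({a} : Set G) := by
        have hT' : T ≤ centralizer ({a} : Set G) :=
          sup_le (fun u hu => mem_centralizer_singleton_iff.2 (hcomm u hu a ha.1).eq)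
            (zpowers_le.2 (mem_centralizer_singleton_iff.2
              (mem_centralizer_singleton_iff.1 ha.2).symm))
        exact hT' (hT.symm ▸ hq)
      exact (mem_centralizer_singleton_iff.1 hq').symm
    have h2 := Subgroup.card_le_of_le hle
    rw [Nat.card_zpowers, h.ordz] at h2
    omega

/-- Symmetry of adjacency. -/
theorem z_mem_Qc (hy : x * z * x⁻¹ = y) (hyQ : y ∈ Q) (hyz : y ∉ zpowers z) : z ∈ Qc Q x := by
  set W : Subgroup G := Q ⊓ centralizer ({y} : Set G) with hWdef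
  have hW : 81 ≤ Nat.card W := by
    have := h.card_cent_ge Q le_rfl hyQ
    rw [h.cardQ] at this
    rw [hWdef]
    omega
  obtain ⟨a, ha, b, hb, hab⟩ : ∃ a ∈ W, ∃ b ∈ W, ⁅a, b⁆ ≠ 1 := by
    by_contra hcon
    push Not at hcon
    have := h.card_abelian_le (A := W) inf_le_left
      fun a ha b hb => commutatorElement_eq_one_iff_mul_comm.1 (hcon a ha b hb)
    omega
  have hmem : x⁻¹ * ⁅a, b⁆ * x ∈ Q := by
    have e : x⁻¹ * ⁅a, b⁆ * x = ⁅x⁻¹ * a * x, x⁻¹ * b * x⁆ := by
      simp only [commutatorElement_def]; group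
    rw [e]
    have hP : ∀ p ∈ W.map (MulAut.conj x⁻¹).toMonoidHom, ∃ n : ℕ, p ^ 3 ^ n = 1 := by
      rintro _ ⟨w, hw, rfl⟩
      exact ⟨1, by rw [← map_pow, pow_one, h.expQ _ hw.1, map_one]⟩
    have m : ∀ u ∈ W, x⁻¹ * u * x ∈ W.map (MulAut.conj x⁻¹).toMonoidHom := fun u hu =>
      ⟨u, hu, by simp [MulAut.conj_apply]⟩
    exact h.comm_mem_of_pow_three ((h.mem_conjC hy).2 (mem_centralizer_singleton_iff.1 ha.2))
      ((h.mem_conjC hy).2 (mem_centralizer_singleton_iff.1 hb.2)) _ hP (m a ha) (m b hb)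
  rw [mem_Qc]
  rcases (mem_zp3 h.z3).1 (h.comm a ha.1 b hb.1) with e | e | e
  · exact absurd e hab
  · rwa [← e]
  · rw [show z = ⁅a, b⁆⁻¹ by rw [e, inv_inv]]
    have := inv_mem hmem
    simpa [mul_assoc] using this

/-- The common part of two adjacent radicals and an element of `C` outside `Q`. -/
theorem exists_step (hy : x * z * x⁻¹ = y) (hyQ : y ∈ Q) (hyz : y ∉ zpowers z) :
    ∃ g a : G, g ∈ C ∧ g ^ 3 = 1 ∧ g ∉ Q ∧ g * y = y * g ∧ a ∈ Q ∧ a * y = y * a ∧
      ⁅a, g⁆ ∈ zpowers y ∧ ⁅a, g⁆ ≠ 1 := by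
  set A : Subgroup G := Q ⊓ Qc Q x
  set W : Subgroup G := Qc Q x ⊓ centralizer ({z} : Set G)
  have hzy := h.z_mem_Qc hy hyQ hyz
  have hy3 : y ^ 3 = 1 := h.expQ y hyQ
  have hycen : ∀ q ∈ Qc Q x, Commute q y := fun q hq =>
    (h.mem_conjC hy).1 (h.QC (mem_Qc.1 hq))
  have hyQx : y ∈ Qc Q x := mem_Qc.2 (by
    rw [← hy, show x⁻¹ * (x * z * x⁻¹) * x = z by group]; exact h.zQ)
  have hdisj : ∀ c, c ∈ zpowers z → c ∈ zpowers y → c = 1 := by
    intro c hcz hcy
    rcases (mem_zp3 hy3).1 hcy with e | e | e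
    · exact e
    · exact absurd (e ▸ hcz) hyz
    · exact absurd (by simpa [e] using inv_mem hcz) hyz
  have hAab : ∀ a ∈ A, ∀ b ∈ A, Commute a b := fun a ha b hb =>
    commutatorElement_eq_one_iff_mul_comm.1
      (hdisj _ (h.comm a ha.1 b hb.1) (h.Qc_comm hy ha.2 hb.2))
  have hA27 := h.card_abelian_le (A := A) inf_le_left hAab
  have hW : 81 ≤ Nat.card W := by
    classical
    have h1 := h.card_cent_ge Q le_rfl (mem_Qc.1 hzy)
    rw [h.cardQ] at h1
    have e : W = (Q ⊓ centralizer ({x⁻¹ * z * x} : Set G)).map (MulAut.conj x).toMonoidHom := by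
      ext u
      simp only [W]
      rw [Subgroup.mem_inf, mem_Qc, mem_centralizer_singleton_iff, Subgroup.mem_map]
      simp only [Subgroup.mem_inf, mem_centralizer_singleton_iff]
      constructor
      · rintro ⟨hu, hc⟩
        refine ⟨x⁻¹ * u * x, ⟨hu, ?_⟩, by simp [MulAut.conj_apply, mul_assoc]⟩
        calc x⁻¹ * u * x * (x⁻¹ * z * x) = x⁻¹ * (u * z) * x := by group
          _ = _ := by rw [hc]; group
      · rintro ⟨v, ⟨hv, hc⟩, rfl⟩
        simp only [MulEquiv.coe_toMonoidHom, MulAut.conj_apply]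
        refine ⟨by simpa [mul_assoc] using hv, ?_⟩
        calc x * v * x⁻¹ * z = x * (v * (x⁻¹ * z * x)) * x⁻¹ := by group
          _ = _ := by rw [hc]; group
    rw [e, Subgroup.card_map_of_injective (MulAut.conj x).injective]
    omega
  have hWC : W ≤ C := fun u hu => h.memC.2 (mem_centralizer_singleton_iff.1 hu.2)
  obtain ⟨g, hgW, hgQ⟩ : ∃ g ∈ W, g ∉ Q := by
    by_contra hcon
    push Not at hcon
    have hle : W ≤ A := fun u hu => ⟨hcon u hu, hu.1⟩
    have := Subgroup.card_le_of_le hle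
    omega
  have hg3 : g ^ 3 = 1 := h.pow_conj_eq_one hgW.1
  have hbr : ∀ a ∈ A, ⁅a, g⁆ ∈ zpowers y := fun a ha => h.Qc_comm hy ha.2 hgW.1
  obtain ⟨a, haA, hag⟩ : ∃ a ∈ A, ⁅a, g⁆ ≠ 1 := by
    by_contra hcon
    push Not at hcon
    -- `A` together with `g` would be an abelian subgroup of order above `27`
    have hAg : A ≤ centralizer ({g} : Set G) := fun a ha => mem_centralizer_singleton_iff.2
      (commutatorElement_eq_one_iff_mul_comm.1 (hcon a ha))
    set T : Subgroup G := A ⊔ zpowers g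
    have hTQ : T ≤ Qc Q x := sup_le inf_le_right (zpowers_le.2 hgW.1)
    have hTab : ∀ u ∈ T, ∀ v ∈ T, Commute u v := by
      have h1 : ∀ v ∈ A, T ≤ centralizer ({v} : Set G) := fun v hv =>
        sup_le (fun u hu => mem_centralizer_singleton_iff.2 (hAab u hu v hv).eq)
          (zpowers_le.2 (mem_centralizer_singleton_iff.2
            (mem_centralizer_singleton_iff.1 (hAg hv)).symm))
      have h2 : T ≤ centralizer ({g} : Set G) :=
        sup_le hAg (zpowers_le.2 (mem_centralizer_singleton_iff.2 rfl))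
      intro u hu
      have h3 : T ≤ centralizer ({u} : Set G) :=
        sup_le (fun v hv => mem_centralizer_singleton_iff.2
            (mem_centralizer_singleton_iff.1 (h1 v hv hu)).symm)
          (zpowers_le.2 (mem_centralizer_singleton_iff.2
            (mem_centralizer_singleton_iff.1 (h2 hu)).symm))
      exact fun v hv => (mem_centralizer_singleton_iff.1 (h3 hv)).symm
    have hcard : Nat.card T ≤ 27 := by
      have e : Nat.card T = Nat.card (T.map (MulAut.conj x⁻¹).toMonoidHom) :=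
        (Subgroup.card_map_of_injective (MulAut.conj x⁻¹).injective).symm
      rw [e]
      refine h.card_abelian_le ?_ ?_
      · rintro _ ⟨u, hu, rfl⟩
        simpa [MulAut.conj_apply] using mem_Qc.1 (hTQ hu)
      · rintro _ ⟨u, hu, rfl⟩ _ ⟨v, hv, rfl⟩
        exact (hTab u hu v hv).map _
    have hlt : Nat.card A < Nat.card T := by
      refine lt_of_le_of_ne (Subgroup.card_le_of_le le_sup_left) fun e => hgQ ?_
      have e' : A = T := Subgroup.eq_of_le_of_card_ge le_sup_left e.ge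
      have : g ∈ T := mem_sup_right (mem_zpowers g)
      exact (e'.symm ▸ this : g ∈ A).1
    have hbig : Nat.card W ≤ 3 * Nat.card A :=
      le_trans (h.card_le_three_mul hWC fun u hu => ⟨1, by
          simpa using h.pow_conj_eq_one hu.1⟩)
        (Nat.mul_le_mul_left 3 (Subgroup.card_le_of_le fun u hu => ⟨hu.2, hu.1.1⟩))
    omega
  exact ⟨g, a, hWC hgW, hg3, hgQ, (hycen g hgW.1).eq, haA.1, (hycen a haA.2).eq, hbr a haA, hag⟩

end Hyp

end Cfsg.Agent.L43Three45
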