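import Cfsg.Agent.Lib.L43Base45

/-!
Setting for the frame of the three-local recognition of `PSL(4,3)`: the centraliser `C` of the
central element and its extraspecial radical `Q`.
-/

set_option autoImplicit false

namespace Cfsg.Agent.L43Three45

open Subgroup
open scoped commutatorElement

variable {G : Type*} [Group G]

/-- Congruence modulo `Q`. -/
def MQ (Q : Subgroup G) (a b : G) : Prop := a⁻¹ * b ∈ Q

/-- The facts about the involution `j` and the element `i` of order four modulo `Q`. -/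
structure JI (z : G) (C Q : Subgroup G) (j i : G) : Prop where
  jC : j ∈ C
  iC : i ∈ C
  ordj : orderOf j = 2
  sq : MQ Q (i * i) j
  inot : i ∉ Q
  jnot : j ∉ Q
  jcent : ∀ c ∈ C, MQ Q (j * c) (c * j)
  jinv : ∀ q ∈ Q, j * q * j⁻¹ * q ∈ zpowers z
  juniq : ∀ c ∈ C, c * c ∈ Q → c ∈ Q ∨ MQ Q c j
  step : ∀ g ∈ C, g ^ 3 ∈ Q → g ∉ Q → ∃ k : G, k = g * i * g⁻¹ ∧ MQ Q (k * k) j ∧
    MQ Q (k * i) (j * (i * k)) ∧
    (MQ Q (g * k * g⁻¹) (i * k) ∨ MQ Q (g * k * g⁻¹) (j * (i * k))) ∧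
    (MQ Q (g * (i * k) * g⁻¹) i ∨ MQ Q (g * (i * k) * g⁻¹) (j * i)) ∧
    ∀ P : Subgroup G, Q ≤ P → i ∈ P → g ∈ P → C ≤ P

/-- The facts about `z`, `C = C(z)` and `Q`. -/
structure Hyp (z : G) (C Q : Subgroup G) : Prop where
  ordz : orderOf z = 3
  zQ : z ∈ Q
  cent : C = centralizer ({z} : Set G)
  QC : Q ≤ C
  normal : ∀ c ∈ C, ∀ q ∈ Q, c * q * c⁻¹ ∈ Q
  cardQ : Nat.card Q = 243
  expQ : ∀ q ∈ Q, q ^ 3 = 1
  comm : ∀ a ∈ Q, ∀ b ∈ Q, ⁅a, b⁆ ∈ zpowers z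
  centre : ∀ a ∈ Q, (∀ b ∈ Q, Commute a b) → a ∈ zpowers z
  self : centralizer (Q : Set G) ≤ Q
  cardC : Nat.card C = 5832
  not_dvd : ¬ 3 ^ 7 ∣ Nat.card G
  exists_j : ∃ j i : G, JI z C Q j i
  exists_conj : ∃ x : G, x * z * x⁻¹ ∈ Q ∧ x * z * x⁻¹ ∉ zpowers z

variable {z : G} {C Q : Subgroup G}

theorem mem_zp3 {z : G} (h : z ^ 3 = 1) {a : G} : a ∈ zpowers z ↔ a = 1 ∨ a = z ∨ a = z⁻¹ := by
  constructor
  · intro ha
    obtain ⟨k, rfl⟩ := mem_zpowers_iff.1 ha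
    have hk : z ^ k = z ^ (k % 3) := by
      conv_lhs => rw [← Int.emod_add_mul_ediv k 3, zpow_add, zpow_mul,
        show z ^ (3 : ℤ) = 1 by exact_mod_cast h, one_zpow, mul_one]
    have : k % 3 = 0 ∨ k % 3 = 1 ∨ k % 3 = 2 := by omega
    rcases this with e | e | e <;> rw [hk, e]
    · exact Or.inl (zpow_zero z)
    · exact Or.inr (Or.inl (zpow_one z))
    · refine Or.inr (Or.inr (eq_inv_of_mul_eq_one_left ?_))
      rw [← zpow_add_one, show (2 : ℤ) + 1 = ((3 : ℕ) : ℤ) by norm_num, zpow_natCast, h]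
  · rintro (rfl | rfl | rfl)
    · exact one_mem _
    · exact mem_zpowers _
    · exact inv_mem (mem_zpowers _)

namespace Hyp

variable (h : Hyp z C Q)
include h

theorem z3 : z ^ 3 = 1 := h.ordz ▸ pow_orderOf_eq_one z

theorem z_ne : z ≠ 1 := fun e => by
  have := h.ordz
  rw [e, orderOf_one] at this
  norm_num at this

theorem memC {c : G} : c ∈ C ↔ c * z = z * c := by
  rw [h.cent, mem_centralizer_singleton_iff]

theorem commute_z {c : G} (hc : c ∈ C) : Commute c z := h.memC.1 hc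

theorem fix_z {c : G} (hc : c ∈ C) : c * z * c⁻¹ = z := by
  rw [h.memC.1 hc, mul_inv_cancel_right]

theorem zC : z ∈ C := h.QC h.zQ

theorem normal_inv {c : G} (hc : c ∈ C) {q : G} (hq : q ∈ Q) : c⁻¹ * q * c ∈ Q := by
  simpa using h.normal c⁻¹ (inv_mem hc) q hq

theorem comm_central {a b : G} (ha : a ∈ Q) (hb : b ∈ Q) {c : G} (hc : c ∈ C) :
    c * ⁅a, b⁆ * c⁻¹ = ⁅a, b⁆ := by
  obtain ⟨k, hk⟩ := mem_zpowers_iff.1 (h.comm a ha b hb)
  rw [← hk, ((h.commute_z hc).zpow_right k).eq, mul_inv_cancel_right]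

theorem comm_mul_left {a b c : G} (ha : a ∈ Q) (hb : b ∈ Q) (hc : c ∈ Q) :
    ⁅a * b, c⁆ = ⁅a, c⁆ * ⁅b, c⁆ := by
  rw [show ⁅a * b, c⁆ = a * ⁅b, c⁆ * a⁻¹ * ⁅a, c⁆ by
      simp only [commutatorElement_def]; group, h.comm_central hb hc (h.QC ha)]
  obtain ⟨k, hk⟩ := mem_zpowers_iff.1 (h.comm a ha c hc)
  obtain ⟨l, hl⟩ := mem_zpowers_iff.1 (h.comm b hb c hc)
  rw [← hk, ← hl, ← zpow_add, ← zpow_add, add_comm]

theorem comm_mul_right {a b c : G} (ha : a ∈ Q) (hb : b ∈ Q) (hc : c ∈ Q) :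
    ⁅a, b * c⁆ = ⁅a, b⁆ * ⁅a, c⁆ := by
  rw [← commutatorElement_inv (b * c) a, h.comm_mul_left hb hc ha,
    ← commutatorElement_inv a b, ← commutatorElement_inv a c]
  obtain ⟨k, hk⟩ := mem_zpowers_iff.1 (h.comm a ha b hb)
  obtain ⟨l, hl⟩ := mem_zpowers_iff.1 (h.comm a ha c hc)
  rw [← hk, ← hl]
  group

theorem comm_zp {a b w : G} (hw : w ∈ zpowers z) (hb : b ∈ Q) (ha : a ∈ Q) :
    ⁅a * w, b⁆ = ⁅a, b⁆ := by
  have hwQ : w ∈ Q := (zpowers_le.2 h.zQ) hw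
  rw [h.comm_mul_left ha hwQ hb]
  have : ⁅w, b⁆ = 1 := commutatorElement_eq_one_iff_mul_comm.2 (by
    obtain ⟨k, hk⟩ := mem_zpowers_iff.1 hw
    rw [← hk]; exact ((h.commute_z (h.QC hb)).symm.zpow_left k).eq)
  rw [this, mul_one]

/-- A subgroup between the centre and `Q` is normal in `Q`. -/
theorem conj_mem_of_le {W : Subgroup G} (hW : zpowers z ≤ W) (hWQ : W ≤ Q) {q w : G} (hq : q ∈ Q)
    (hw : w ∈ W) : q * w * q⁻¹ ∈ W := by
  have e : q * w * q⁻¹ = ⁅q, w⁆ * w := by rw [commutatorElement_def]; group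
  exact e ▸ mul_mem (hW (h.comm q hq w (hWQ hw))) hw

end Hyp

end Cfsg.Agent.L43Three45
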