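import Cfsg.Agent.Lib.L43FrameX45

/-!
The normaliser of the abelian normal subgroup moves the central element.
-/

set_option autoImplicit false
set_option linter.unusedSectionVars false
set_option linter.style.haveILetI false

namespace Cfsg.Agent.L43Three45

open Subgroup
open scoped commutatorElement

variable {G : Type*} [Group G] [Finite G] {z : G} {C Q : Subgroup G}

namespace Hyp

variable (h : Hyp z C Q)
include h

theorem IsX_unique {y : G} {X X' : Subgroup G} (hX : IsX z C Q X) (hX' : IsX z C Q X')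
    (hy : y ∈ X) (hy' : y ∈ X') (hyz : y ∉ zpowers z) : X = X' := by
  obtain ⟨j, i, hji⟩ := h.exists_j
  set X0 := zpowers z ⊔ zpowers y ⊔ zpowers (i * y * i⁻¹) with hX0
  have hle : ∀ Y, IsX z C Q Y → y ∈ Y → X0 ≤ Y := fun Y hY hyY =>
    sup_le (sup_le (zpowers_le.2 hY.zX) (zpowers_le.2 hyY))
      (zpowers_le.2 (hY.normal i hji.iC y hyY))
  have hyQ : y ∈ Q := hX.le hy
  have h27 : 27 ≤ Nat.card X0 := by
    have h1 := h.three_mul_le (A := zpowers z) (B := zpowers z ⊔ zpowers y)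
      (lt_of_le_of_ne le_sup_left fun e => hyz (e.symm ▸ mem_sup_right (mem_zpowers y)))
      (sup_le (zpowers_le.2 h.zQ) (zpowers_le.2 hyQ))
    have h2 := h.three_mul_le (A := zpowers z ⊔ zpowers y) (B := X0)
      (lt_of_le_of_ne le_sup_left fun e =>
        hji.i_not_mem h hyQ hyz (e.symm ▸ mem_sup_right (mem_zpowers _)))
      (sup_le (sup_le (zpowers_le.2 h.zQ) (zpowers_le.2 hyQ))
        (zpowers_le.2 (h.conj_mem_Q hji.iC hyQ)))
    rw [Nat.card_zpowers, h.ordz] at h1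
    omega
  rw [← Subgroup.eq_of_le_of_card_ge (hle X hX hy) (by rw [hX.card]; omega),
    ← Subgroup.eq_of_le_of_card_ge (hle X' hX' hy') (by rw [hX'.card]; omega)]

variable {x y : G}

theorem conj_not_mem (hy : x * z * x⁻¹ = y) (hyz : y ∉ zpowers z) :
    x⁻¹ * z * x ∉ zpowers z := by
  intro hm
  obtain ⟨t, ht⟩ := mem_zpowers_iff.1 hm
  have e : y ^ t = z := by rw [← hy, conj_zpow, ht]; group
  refine hyz ?_
  have hy3 : y ^ 3 = 1 := by rw [← hy, conj_pow, h.z3, mul_one, mul_inv_cancel]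
  rcases (mem_zp3 hy3).1 (mem_zpowers_iff.2 ⟨t, e⟩) with e1 | e1 | e1
  · exact absurd e1 h.z_ne
  · rw [e1]; exact mem_zpowers y
  · rw [e1, zpowers_inv]; exact mem_zpowers y

/-- An involution fixing `z` and inverting `y`. -/
theorem exists_inverter (hyQ : y ∈ Q) (hyz : y ∉ zpowers z) {j i : G} (hji : JI z C Q j i) :
    ∃ j' ∈ C, j' * j' = 1 ∧ MQ Q j j' ∧ j' * y * j'⁻¹ = y⁻¹ := by
  obtain ⟨t, ht⟩ := h.exists_eq_mul (h.MZ_symm (hji.j_conj h hyQ))
  obtain ⟨q, hq, hqv⟩ : ∃ q ∈ Q, ⁅q, y⁆ ≠ 1 := by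
    by_contra hcon
    push Not at hcon
    exact hyz (h.centre y hyQ fun b hb =>
      (commutatorElement_eq_one_iff_commute.1 (hcon b hb)).symm)
  obtain ⟨m, hm⟩ : ∃ m : ℤ, ⁅q, y⁆ ^ m = z ^ (-t) := by
    have : z ∈ zpowers ⁅q, y⁆ := by
      rcases (mem_zp3 h.z3).1 (h.comm q hq y hyQ) with e | e | e
      · exact absurd e hqv
      · rw [e]; exact mem_zpowers _
      · rw [e, zpowers_inv]; exact mem_zpowers _
    exact mem_zpowers_iff.1 (zpow_mem this (-t))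
  set r := q ^ m with hr
  have hrQ : r ∈ Q := zpow_mem hq m
  have hry : r * y * r⁻¹ = y * z ^ (-t) := by
    have e : r * y * r⁻¹ = ⁅r, y⁆ * y := by simp only [commutatorElement_def]; group
    rw [e, hr, h.comm_zpow_left hq hyQ, hm, ((h.commute_z (h.QC hyQ)).zpow_right _).eq]
  have hjz : ∀ s : ℤ, j * z ^ s * j⁻¹ = z ^ s := fun s => by
    rw [((h.commute_z hji.jC).zpow_right s).eq, mul_inv_cancel_right]
  have hrz : ∀ s : ℤ, r * z ^ s * r⁻¹ = z ^ s := fun s => by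
    rw [((h.commute_z (h.QC hrQ)).zpow_right s).eq, mul_inv_cancel_right]
  have hry' : r⁻¹ * y * r = y * z ^ t := by
    have e : r⁻¹ * (r * y * r⁻¹) * r = y := by group
    rw [hry] at e
    calc r⁻¹ * y * r = r⁻¹ * (y * z ^ (-t)) * r * z ^ t := by
          have e2 : r⁻¹ * (y * z ^ (-t)) * r = r⁻¹ * y * r * z ^ (-t) := by
            have := ((h.commute_z (h.QC hrQ)).zpow_right (-t)).eq
            calc r⁻¹ * (y * z ^ (-t)) * r = r⁻¹ * y * (z ^ (-t) * r) := by group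
              _ = _ := by rw [← this]; group
          rw [e2]; group
      _ = _ := by rw [e]
  have hjj : j * j = 1 := by rw [← pow_two, ← hji.ordj, pow_orderOf_eq_one]
  refine ⟨r * j * r⁻¹, mul_mem (mul_mem (h.QC hrQ) hji.jC) (inv_mem (h.QC hrQ)), ?_, ?_, ?_⟩
  · calc r * j * r⁻¹ * (r * j * r⁻¹) = r * (j * j) * r⁻¹ := by group
      _ = 1 := by rw [hjj]; group
  · show j⁻¹ * (r * j * r⁻¹) ∈ Q
    have e : j⁻¹ * (r * j * r⁻¹) = j⁻¹ * r * j * r⁻¹ := by group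
    rw [e]
    exact mul_mem (h.normal_inv hji.jC hrQ) (inv_mem hrQ)
  · have e1 : j * y * j⁻¹ = y⁻¹ * z ^ t := ht
    calc r * j * r⁻¹ * y * (r * j * r⁻¹)⁻¹ = r * (j * (r⁻¹ * y * r) * j⁻¹) * r⁻¹ := by group
      _ = r * (j * y * j⁻¹ * (j * z ^ t * j⁻¹)) * r⁻¹ := by rw [hry']; group
      _ = r * y⁻¹ * r⁻¹ * (r * (z ^ t * z ^ t) * r⁻¹) := by rw [e1, hjz]; group
      _ = (r * y * r⁻¹)⁻¹ * (r * z ^ (t + t) * r⁻¹) := by rw [zpow_add]; group
      _ = z ^ t * y⁻¹ * z ^ (t + t) := by rw [hry, hrz]; group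
      _ = y⁻¹ * (z ^ t * z ^ (t + t)) := by
        rw [((h.commute_z (h.QC (inv_mem hyQ))).zpow_right t).eq.symm]; group
      _ = y⁻¹ := by
        rw [← zpow_add, zpow_congr_three h.z3 (n := 0)
          (by
            have : ∀ s : ZMod 3, s + (s + s) = 0 := by decide
            push_cast; exact this _), zpow_zero, mul_one]

/-- The abelian subgroup of the centraliser of `y` through `z` lies in `Q`. -/
theorem conjX_le (hy : x * z * x⁻¹ = y) (hyQ : y ∈ Q) (hyz : y ∉ zpowers z)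
    {X : Subgroup G} (hX : IsX z C Q X) (hyX : x⁻¹ * z * x ∈ X) : Qc X x ≤ Q := by
  obtain ⟨j, i, hji⟩ := h.exists_j
  have hy'z := h.conj_not_mem hy hyz
  set K := Qc X x with hK
  have hzK : z ∈ K := mem_Qc.2 hyX
  have hyK : y ∈ K := mem_Qc.2 (by
    rw [← hy, show x⁻¹ * (x * z * x⁻¹) * x = z by group]; exact hX.zX)
  have hKcomm : ∀ a ∈ K, ∀ b ∈ K, Commute a b := by
    rintro _ ⟨a, ha, rfl⟩ _ ⟨b, hb, rfl⟩
    exact (hX.comm a ha b hb).map _
  have hKcard : Nat.card K = 27 := by rw [hK, card_Qc, hX.card]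
  have hKC : K ≤ C := fun a ha => h.memC.2 (hKcomm a ha z hzK).eq
  have hK3 : ∀ a ∈ K, a ^ 3 = 1 := by
    rintro _ ⟨a, ha, rfl⟩
    rw [← map_pow, h.expQ a (hX.le ha), map_one]
  have hKnorm : ∀ c, c * y = y * c → ∀ w ∈ K, c * w * c⁻¹ ∈ K := by
    intro c hc w hw
    refine mem_Qc.2 ?_
    have e : x⁻¹ * (c * w * c⁻¹) * x = x⁻¹ * c * x * (x⁻¹ * w * x) * (x⁻¹ * c * x)⁻¹ := by group
    rw [e]
    exact hX.normal _ ((h.mem_conjC hy).2 hc) _ (mem_Qc.1 hw)
  by_contra hnot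
  obtain ⟨u0, hu0K, hu0Q⟩ := SetLike.not_le_iff_exists.1 hnot
  obtain ⟨j', hj'C, hj'2, hj'j, hj'y⟩ := h.exists_inverter hyQ hyz hji
  have hj'inv : j'⁻¹ = j' := inv_eq_of_mul_eq_one_left hj'2
  have hj'z : j' * z * j'⁻¹ = z := h.fix_z hj'C
  -- `j'` normalises `K`
  have hj'K : ∀ w ∈ K, j' * w * j'⁻¹ ∈ K := by
    have hX2 : IsX z C Q X := hX
    -- the conjugate of `K` is again normalised by the centraliser of `y`
    set c := x⁻¹ * j' * x with hc
    have hcz : c * z * c⁻¹ = z⁻¹ := by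
      calc c * z * c⁻¹ = x⁻¹ * (j' * (x * z * x⁻¹) * j'⁻¹) * x := by rw [hc]; group
        _ = x⁻¹ * y⁻¹ * x := by rw [hy, hj'y]
        _ = z⁻¹ := by rw [← hy]; group
    have hcC : ∀ d ∈ C, c⁻¹ * d * c ∈ C := by
      intro d hd
      rw [h.memC]
      have h1 : c⁻¹ * z * c = z⁻¹ := by
        have e : c⁻¹ * (c * z * c⁻¹) * c = z := by group
        rw [hcz] at e
        have e2 : (c⁻¹ * z⁻¹ * c)⁻¹ = c⁻¹ * z * c := by group
        rw [← e2, e]
      have h2 : Commute d z⁻¹ := (h.commute_z hd).inv_right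
      calc c⁻¹ * d * c * z = c⁻¹ * (d * (c * z * c⁻¹)) * c := by group
        _ = c⁻¹ * (c * z * c⁻¹ * d) * c := by rw [hcz, h2.eq]
        _ = _ := by group
    have hy'c : c * (x⁻¹ * z * x) * c⁻¹ = x⁻¹ * z * x := by
      calc c * (x⁻¹ * z * x) * c⁻¹ = x⁻¹ * (j' * z * j'⁻¹) * x := by rw [hc]; group
        _ = _ := by rw [hj'z]
    have hle : ∀ w ∈ X, c * w * c⁻¹ ∈ X := by
      -- the span of `z`, `y'` and its conjugate under `i`
      set y' := x⁻¹ * z * x with hy'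
      set X0 := zpowers z ⊔ zpowers y' ⊔ zpowers (i * y' * i⁻¹) with hX0
      have hX0X : X0 ≤ X := sup_le (sup_le (zpowers_le.2 hX.zX) (zpowers_le.2 hyX))
        (zpowers_le.2 (hX.normal i hji.iC _ hyX))
      have hy'Q : y' ∈ Q := hX.le hyX
      have h27 : 27 ≤ Nat.card X0 := by
        have h1 := h.three_mul_le (A := zpowers z) (B := zpowers z ⊔ zpowers y')
          (lt_of_le_of_ne le_sup_left fun e => hy'z (e.symm ▸ mem_sup_right (mem_zpowers y')))
          (sup_le (zpowers_le.2 h.zQ) (zpowers_le.2 hy'Q))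
        have h2 := h.three_mul_le (A := zpowers z ⊔ zpowers y') (B := X0)
          (lt_of_le_of_ne le_sup_left fun e =>
            hji.i_not_mem h hy'Q hy'z (e.symm ▸ mem_sup_right (mem_zpowers _)))
          (sup_le (sup_le (zpowers_le.2 h.zQ) (zpowers_le.2 hy'Q))
            (zpowers_le.2 (h.conj_mem_Q hji.iC hy'Q)))
        rw [Nat.card_zpowers, h.ordz] at h1
        omega
      -- the preimage of `X` is invariant under `C` and contains the generators
      set X2 : Subgroup G := X.comap (MulAut.conj c).toMonoidHom with hX2'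
      have hzX2 : z ∈ X2 := by
        show c * z * c⁻¹ ∈ X
        rw [hcz]; exact inv_mem hX.zX
      have hyX2 : y' ∈ X2 := by
        show c * y' * c⁻¹ ∈ X
        rw [hy'c]; exact hyX
      have hiX2 : i * y' * i⁻¹ ∈ X2 := by
        show c * (i * y' * i⁻¹) * c⁻¹ ∈ X
        have e : c * (i * y' * i⁻¹) * c⁻¹ = c * i * c⁻¹ * (c * y' * c⁻¹) * (c * i * c⁻¹)⁻¹ := by
          group
        rw [e, hy'c]
        refine hX.normal _ ?_ _ hyX
        rw [h.memC]
        have h2 : Commute i z⁻¹ := (h.commute_z hji.iC).inv_right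
        have h1 : c * z⁻¹ * c⁻¹ = z := by
          rw [show c * z⁻¹ * c⁻¹ = (c * z * c⁻¹)⁻¹ by group, hcz, inv_inv]
        calc c * i * c⁻¹ * z = c * i * c⁻¹ * (c * z⁻¹ * c⁻¹) := by rw [h1]
          _ = c * (i * z⁻¹) * c⁻¹ := by group
          _ = c * z⁻¹ * c⁻¹ * (c * i * c⁻¹) := by rw [h2.eq]; group
          _ = _ := by rw [h1]
      have hX0X2 : X0 ≤ X2 := sup_le (sup_le (zpowers_le.2 hzX2) (zpowers_le.2 hyX2))
        (zpowers_le.2 hiX2)
      intro w hw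
      rw [← Subgroup.eq_of_le_of_card_ge hX0X (by rw [hX.card]; omega)] at hw
      exact hX0X2 hw
    intro w hw
    refine mem_Qc.2 ?_
    have e : x⁻¹ * (j' * w * j'⁻¹) * x = c * (x⁻¹ * w * x) * c⁻¹ := by rw [hc]; group
    rw [e]
    exact hle _ (mem_Qc.1 hw)
  -- an element of `K` outside `Q` fixed by `j'`
  set u := u0 * (j' * u0 * j'⁻¹) with hu
  have huK : u ∈ K := mul_mem hu0K (hj'K _ hu0K)
  have huj : j' * u * j'⁻¹ = u := by
    calc j' * u * j'⁻¹ = j' * u0 * j'⁻¹ * ((j' * j') * u0 * (j' * j')⁻¹) := by rw [hu]; group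
      _ = j' * u0 * j'⁻¹ * u0 := by rw [hj'2]; group
      _ = u := (hKcomm _ (hj'K _ hu0K) _ hu0K).eq
  have huQ : u ∉ Q := by
    haveI := h.normal_subgroupOf
    set π := QuotientGroup.mk' (Q.subgroupOf C)
    have hπ : ∀ a (ha : a ∈ C), π ⟨a, ha⟩ = 1 ↔ a ∈ Q := fun a ha => by
      rw [QuotientGroup.mk'_apply, QuotientGroup.eq_one_iff, mem_subgroupOf]
    have e1 : π ⟨j, hji.jC⟩ = π ⟨j', hj'C⟩ := by
      rw [QuotientGroup.mk'_apply, QuotientGroup.mk'_apply, QuotientGroup.eq, mem_subgroupOf]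
      exact hj'j
    have e2 : Commute (π ⟨j', hj'C⟩) (π ⟨u0, hKC hu0K⟩) := by
      rw [← e1, Commute, SemiconjBy, ← map_mul, ← map_mul, QuotientGroup.mk'_apply,
        QuotientGroup.mk'_apply, QuotientGroup.eq, mem_subgroupOf]
      exact hji.jcent u0 (hKC hu0K)
    intro hm
    have e3 : π ⟨u, hKC huK⟩ = π ⟨u0, hKC hu0K⟩ ^ 2 := by
      have : (⟨u, hKC huK⟩ : C) = ⟨u0, hKC hu0K⟩ *
          (⟨j', hj'C⟩ * ⟨u0, hKC hu0K⟩ * (⟨j', hj'C⟩)⁻¹) := rfl
      rw [this, map_mul, map_mul, map_mul, map_inv, e2.eq, mul_inv_cancel_right, pow_two]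
    rw [(hπ u (hKC huK)).2 hm] at e3
    refine hu0Q ((hπ u0 (hKC hu0K)).1 ?_)
    have h3 : π ⟨u0, hKC hu0K⟩ ^ 3 = 1 := by
      rw [← map_pow]
      convert map_one π
      exact Subtype.ext (hK3 u0 hu0K)
    rwa [pow_succ, ← e3, one_mul] at h3
  set U := zpowers z ⊔ zpowers y with hU
  have hU9 : 9 ≤ Nat.card U := by
    have h1 := h.three_mul_le (A := zpowers z) (B := U)
      (lt_of_le_of_ne le_sup_left fun e => hyz (e.symm ▸ mem_sup_right (mem_zpowers y)))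
      (sup_le (zpowers_le.2 h.zQ) (zpowers_le.2 hyQ))
    rw [Nat.card_zpowers, h.ordz] at h1
    omega
  have hUK : U ≤ K ⊓ Q := le_inf (sup_le (zpowers_le.2 hzK) (zpowers_le.2 hyK))
    (sup_le (zpowers_le.2 h.zQ) (zpowers_le.2 hyQ))
  have small : ∀ T : Subgroup G, T ≤ K → ∀ w ∈ K, w ∉ T → Nat.card T ≤ 9 := by
    intro T hT w hwK hwT
    have hd := Subgroup.card_dvd_of_le hT
    rw [hKcard] at hd
    obtain ⟨m, hm3, hm⟩ := (Nat.dvd_prime_pow Nat.prime_three).1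
      (show Nat.card T ∣ 3 ^ 3 from hd)
    rcases (show m ≤ 2 ∨ m = 3 by omega) with e | e
    · rw [hm]; exact le_trans (Nat.pow_le_pow_right (by norm_num) e) (by norm_num)
    · exact absurd ((Subgroup.eq_of_le_of_card_ge hT (by rw [hKcard, hm, e]; norm_num)).symm ▸ hwK)
        hwT
  have hUeq : U = K ⊓ Q := Subgroup.eq_of_le_of_card_ge hUK
    (le_trans (small _ inf_le_left u0 hu0K fun hm => hu0Q hm.2) hU9)
  set W := Q ⊓ centralizer ({y} : Set G) with hW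
  have hW81 : 81 ≤ Nat.card W := by
    have := h.card_cent_ge Q le_rfl hyQ
    rw [h.cardQ] at this
    rw [hW]
    omega
  have hWy : ∀ b ∈ W, b * y = y * b := fun b hb => mem_centralizer_singleton_iff.1 hb.2
  have hfmem : ∀ b ∈ W, ⁅b, u⁆ ∈ U := fun b hb => by
    rw [hUeq]
    refine ⟨?_, ?_⟩
    · rw [commutatorElement_def]
      exact K.mul_mem (hKnorm b (hWy b hb) u huK) (K.inv_mem huK)
    · rw [commutatorElement_def, mul_assoc b u, mul_assoc b]
      exact Q.mul_mem hb.1 (h.normal u (hKC huK) _ (Q.inv_mem hb.1))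
  have hUcent : ∀ b ∈ W, ∀ v ∈ U, b * v * b⁻¹ = v := by
    intro b hb v hv
    have hle : U ≤ centralizer ({b} : Set G) :=
      sup_le (zpowers_le.2 (mem_centralizer_singleton_iff.2 (h.commute_z (h.QC hb.1)).symm.eq))
        (zpowers_le.2 (mem_centralizer_singleton_iff.2 (hWy b hb).symm))
    rw [← mem_centralizer_singleton_iff.1 (hle hv), mul_inv_cancel_right]
  let f : W →* G :=
    { toFun := fun b => ⁅(b : G), u⁆
      map_one' := commutatorElement_one_left u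
      map_mul' := fun a b => by
        have e : ⁅(a : G) * b, u⁆ = a * ⁅(b : G), u⁆ * (a : G)⁻¹ * ⁅(a : G), u⁆ := by
          simp only [commutatorElement_def]; group
        show ⁅(a : G) * b, u⁆ = _
        rw [e, hUcent _ a.2 _ (hfmem _ b.2)]
        exact (hKcomm _ (hUK (hfmem _ b.2)).1 _ (hUK (hfmem _ a.2)).1).eq }
  have hfrange : f.range ≤ zpowers y := by
    rintro _ ⟨⟨b, hb⟩, rfl⟩
    show ⁅b, u⁆ ∈ zpowers y
    obtain ⟨s, hs⟩ := h.exists_eq_mul (h.MZ_symm (h.MZ_trans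
      (h.MZ_symm (h.conj_congr hji.jC hj'j hb.1)) (hji.j_conj h hb.1)))
    have hzs : z ^ s ∈ W := ⟨zpow_mem h.zQ s, mem_centralizer_singleton_iff.2
      ((h.commute_z (h.QC hyQ)).zpow_right s).symm.eq⟩
    have hfz : ⁅z ^ s, u⁆ = 1 :=
      commutatorElement_eq_one_iff_commute.2 ((h.commute_z (hKC huK)).zpow_right s).symm
    have h1 : j' * ⁅b, u⁆ * j'⁻¹ = ⁅b, u⁆⁻¹ := by
      calc j' * ⁅b, u⁆ * j'⁻¹ = ⁅j' * b * j'⁻¹, j' * u * j'⁻¹⁆ := by
            simp only [commutatorElement_def]; group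
        _ = f (⟨b, hb⟩⁻¹ * ⟨z ^ s, hzs⟩) := by rw [huj, hs]; rfl
        _ = (f ⟨b, hb⟩)⁻¹ * f ⟨z ^ s, hzs⟩ := by rw [map_mul, map_inv]
        _ = _ := by
          show ⁅b, u⁆⁻¹ * ⁅z ^ s, u⁆ = _
          rw [hfz, mul_one]
    obtain ⟨a, ha⟩ := h.mem_span_one (h.QC hyQ) (hfmem b hb)
    obtain ⟨c, hc⟩ := h.exists_eq_mul ha
    rw [hc] at h1 ⊢
    have hc0 : z ^ (c + c) = 1 := by
      have e1 : j' * (y ^ a * z ^ c) * j'⁻¹ = (y⁻¹) ^ a * z ^ c := by
        calc j' * (y ^ a * z ^ c) * j'⁻¹ = j' * y ^ a * j'⁻¹ * (j' * z ^ c * j'⁻¹) := by group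
          _ = _ := by rw [← conj_zpow, ← conj_zpow, hj'y, hj'z]
      rw [e1, mul_inv_rev, inv_zpow, ← zpow_neg z,
        ((h.commute_z (h.QC hyQ)).zpow_zpow a (-c)).inv_left.symm.eq] at h1
      have := mul_left_cancel h1
      rw [zpow_add]
      nth_rewrite 1 [this]
      rw [zpow_neg, inv_mul_cancel]
    have hcz : z ^ c = 1 := by
      have : z ^ c = z ^ (c + c + (c + c)) := zpow_congr_three h.z3 (by
        have : ∀ s : ZMod 3, s = s + s + (s + s) := by decide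
        push_cast; exact this _)
      rw [this, zpow_add, hc0, one_mul]
    rw [hcz, mul_one]
    exact zpow_mem (mem_zpowers y) a
  have hker : 27 ≤ Nat.card f.ker := by
    have h1 := Subgroup.card_eq_card_quotient_mul_card_subgroup f.ker
    rw [Nat.card_congr (QuotientGroup.quotientKerEquivRange f).toEquiv] at h1
    have h2 : Nat.card f.range ≤ 3 := le_trans (Subgroup.card_le_of_le hfrange) (by
      rw [Nat.card_zpowers]
      exact Nat.le_of_dvd (by norm_num) (orderOf_dvd_of_pow_eq_one (h.expQ y hyQ)))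
    have h3 : Nat.card W ≤ 3 * Nat.card f.ker := h1 ▸ Nat.mul_le_mul_right _ h2
    omega
  obtain ⟨b, hbk, hbK⟩ : ∃ b ∈ f.ker.map W.subtype, b ∉ K := by
    by_contra hcon
    push Not at hcon
    have hle : f.ker.map W.subtype ≤ K ⊓ Q := by
      intro b hb
      refine ⟨hcon b hb, ?_⟩
      obtain ⟨w, -, rfl⟩ := hb
      exact w.2.1
    have := Subgroup.card_le_of_le hle
    rw [Subgroup.card_map_of_injective W.subtype_injective] at this
    have := small _ (inf_le_left : K ⊓ Q ≤ K) u0 hu0K fun hm => hu0Q hm.2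
    omega
  obtain ⟨⟨b, hbW⟩, hbker, rfl⟩ := hbk
  have hbu : Commute b u := commutatorElement_eq_one_iff_commute.1 hbker
  have hgen : U ⊔ zpowers u = K := by
    refine Subgroup.eq_of_le_of_card_ge (sup_le (le_trans hUK inf_le_left) (zpowers_le.2 huK)) ?_
    by_contra hlt
    obtain ⟨w, hwK, hwT⟩ : ∃ w ∈ K, w ∉ U ⊔ zpowers u := by
      by_contra hcon
      push Not at hcon
      exact hlt (Subgroup.card_le_of_le hcon)
    have h1 := small _ (sup_le (le_trans hUK inf_le_left) (zpowers_le.2 huK)) w hwK hwT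
    have h2 : U = U ⊔ zpowers u := Subgroup.eq_of_le_of_card_ge le_sup_left (by omega)
    exact huQ (hUK (h2.symm ▸ mem_sup_right (mem_zpowers u))).2
  refine hbK (mem_Qc.2 ?_)
  show x⁻¹ * b * x ∈ X
  rw [← hX.cent, mem_centralizer_iff]
  intro s hs
  have hsK : x * s * x⁻¹ ∈ K :=
    mem_Qc.2 (by rw [show x⁻¹ * (x * s * x⁻¹) * x = s by group]; exact hs)
  have hle : K ≤ centralizer ({b} : Set G) := hgen ▸ sup_le
    (fun v hv => mem_centralizer_singleton_iff.2 (by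
      have := hUcent b hbW v hv
      calc v * b = b * v * b⁻¹ * b := by rw [this]
        _ = b * v := by group))
    (zpowers_le.2 (mem_centralizer_singleton_iff.2 hbu.symm.eq))
  calc s * (x⁻¹ * b * x) = x⁻¹ * (x * s * x⁻¹ * b) * x := by group
    _ = _ := by rw [mem_centralizer_singleton_iff.1 (hle hsK)]; group

/-- The centraliser of `y` normalises the subgroup through `y`. -/
theorem centY_normal (hy : x * z * x⁻¹ = y) (hyQ : y ∈ Q) (hyz : y ∉ zpowers z)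
    {X : Subgroup G} (hX : IsX z C Q X) (hyX : y ∈ X) :
    ∀ c, c * y = y * c → ∀ w ∈ X, c * w * c⁻¹ ∈ X := by
  have hy'z := h.conj_not_mem hy hyz
  have hy'Q : x⁻¹ * z * x ∈ Q := mem_Qc.1 (h.z_mem_Qc hy hyQ hyz)
  have hy' : x⁻¹ * z * x⁻¹⁻¹ = x⁻¹ * z * x := by rw [inv_inv]
  obtain ⟨X', hX', hy'X'⟩ := h.exists_X hy' hy'Q hy'z
  have h1 : Qc X' x ≤ Q := h.conjX_le hy hyQ hyz hX' hy'X'
  have hyX'' : x⁻¹⁻¹ * z * x⁻¹ ∈ X := by rw [inv_inv, hy]; exact hyX
  have h2 : Qc X x⁻¹ ≤ Q := h.conjX_le hy' hy'Q hy'z hX hyX''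
  have h2' : X ≤ Qc Q x := fun w hw => mem_Qc.2 (h2 (mem_Qc.2 (by
    rw [inv_inv, show x * (x⁻¹ * w * x) * x⁻¹ = w by group]; exact hw)))
  have hdisj : ∀ c, c ∈ zpowers z → c ∈ zpowers y → c = 1 := by
    intro c hcz hcy
    rcases (mem_zp3 (h.expQ y hyQ)).1 hcy with e | e | e
    · exact e
    · exact absurd (e ▸ hcz) hyz
    · exact absurd (by simpa [e] using inv_mem hcz) hyz
  set A := Q ⊓ Qc Q x with hA
  have hA27 : Nat.card A ≤ 27 := h.card_abelian_le inf_le_left fun a ha b hb =>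
    commutatorElement_eq_one_iff_commute.1
      (hdisj _ (h.comm a ha.1 b hb.1) (h.Qc_comm hy ha.2 hb.2))
  have e1 : X = A := Subgroup.eq_of_le_of_card_ge (le_inf hX.le h2') (by rw [hX.card]; exact hA27)
  have e2 : Qc X' x = A := Subgroup.eq_of_le_of_card_ge
    (le_inf h1 (fun w hw => mem_Qc.2 (hX'.le (mem_Qc.1 hw))))
    (by rw [card_Qc, hX'.card]; exact hA27)
  intro c hc w hw
  rw [e1, ← e2] at hw ⊢
  refine mem_Qc.2 ?_
  have e : x⁻¹ * (c * w * c⁻¹) * x = x⁻¹ * c * x * (x⁻¹ * w * x) * (x⁻¹ * c * x)⁻¹ := by group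
  rw [e]
  exact hX'.normal _ ((h.mem_conjC hy).2 hc) _ (mem_Qc.1 hw)

/-- The normaliser of the subgroup through `y` moves `z`. -/
theorem exists_moves (hy : x * z * x⁻¹ = y) (hyQ : y ∈ Q) (hyz : y ∉ zpowers z)
    {X : Subgroup G} (hX : IsX z C Q X) (hyX : y ∈ X) :
    ∃ n, (∀ w ∈ X, n * w * n⁻¹ ∈ X) ∧ n * z * n⁻¹ ∉ zpowers z := by
  obtain ⟨j, i, hji⟩ := h.exists_j
  refine ⟨x * i * x⁻¹, h.centY_normal hy hyQ hyz hX hyX _
    ((h.mem_conjC hy).1 (by rw [show x⁻¹ * (x * i * x⁻¹) * x = i by group]; exact hji.iC)), ?_⟩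
  intro e
  refine hji.i_not_mem h (mem_Qc.1 (h.z_mem_Qc hy hyQ hyz)) (h.conj_not_mem hy hyz) ?_
  obtain ⟨t, ht⟩ := mem_zpowers_iff.1 e
  have e2 : i * (x⁻¹ * z * x) * i⁻¹ = (x⁻¹ * z * x) ^ t := by
    calc i * (x⁻¹ * z * x) * i⁻¹ = x⁻¹ * (x * i * x⁻¹ * z * (x * i * x⁻¹)⁻¹) * x := by group
      _ = _ := by
        rw [← ht, show x⁻¹ * z * x = x⁻¹ * z * x⁻¹⁻¹ by rw [inv_inv], conj_zpow, inv_inv]
  rw [e2]
  exact mem_sup_right (zpow_mem (mem_zpowers _) t)

end Hyp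

end Cfsg.Agent.L43Three45
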