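import Cfsg.Agent.Lib.L43FrameN45

/-!
From an identification of the normaliser to the first parabolic with its properties.
-/

set_option autoImplicit false
set_option linter.unusedSectionVars false
set_option maxHeartbeats 800000

namespace Cfsg.Agent.L43Three45

open Subgroup
open scoped commutatorElement

/-- The general element of `Q4`. -/
def qMat (a b c d e : ZMod 3) : Matrix (Fin 4) (Fin 4) (ZMod 3) :=
  !![1, a, b, e; 0, 1, 0, c; 0, 0, 1, d; 0, 0, 0, 1]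

/-- Two elements of order four of the middle block, with inverses. -/
def blkJ : L4 := ⟨!![1, 0, 0, 0; 0, 0, -1, 0; 0, 1, 0, 0; 0, 0, 0, 1], by decide +kernel⟩
def blkJi : L4 := ⟨!![1, 0, 0, 0; 0, 0, 1, 0; 0, -1, 0, 0; 0, 0, 0, 1], by decide +kernel⟩
def blkK : L4 := ⟨!![1, 0, 0, 0; 0, 1, 1, 0; 0, 1, -1, 0; 0, 0, 0, 1], by decide +kernel⟩
def blkKi : L4 := ⟨!![1, 0, 0, 0; 0, -1, -1, 0; 0, -1, 1, 0; 0, 0, 0, 1], by decide +kernel⟩

theorem blk_mem : blkJ ∈ C4 ∧ blkK ∈ C4 := by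
  exact ⟨⟨(by decide +kernel : blkJ ∈ H1), (by decide +kernel : blkJ ∈ H2)⟩,
    ⟨(by decide +kernel : blkK ∈ H1), (by decide +kernel : blkK ∈ H2)⟩⟩

theorem blk_inv : blkJ⁻¹ = blkJi ∧ blkK⁻¹ = blkKi := by
  constructor <;> refine inv_eq_of_mul_eq_one_left ?_ <;> decide +kernel

theorem qMat_key : ∀ a b c d e : ZMod 3, (c ≠ 0 ∨ d ≠ 0) → (a ≠ 0 ∨ b ≠ 0) →
    (qMat a b c d e * (blkJ.1 * qMat a b c d e * blkJi.1)) 0 3 ≠
      ((blkJ.1 * qMat a b c d e * blkJi.1) * qMat a b c d e) 0 3 ∨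
    (qMat a b c d e * (blkK.1 * qMat a b c d e * blkKi.1)) 0 3 ≠
      ((blkK.1 * qMat a b c d e * blkKi.1) * qMat a b c d e) 0 3 := by
  decide +kernel

theorem eq_qMat {g : L4} (hg : g ∈ Q4) :
    g.1 = qMat (g.1 0 1) (g.1 0 2) (g.1 1 3) (g.1 2 3) (g.1 0 3) := by
  obtain ⟨⟨h1, h2⟩, hblk⟩ := hg
  ext p q
  fin_cases p <;> fin_cases q
  all_goals first
    | rfl
    | exact h1 _
    | exact h2 _
    | exact hblk 0 0
    | exact hblk 0 1
    | exact hblk 1 0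
    | exact hblk 1 1

theorem exists_noncommute {g : L4} (hg : g ∈ Q4) (h1 : g ∉ E1) (h2 : g ∉ E2) :
    ∃ c ∈ C4, ¬ Commute g (c * g * c⁻¹) := by
  have hq := eq_qMat hg
  have hne1 : g.1 1 3 ≠ 0 ∨ g.1 2 3 ≠ 0 := by
    by_contra hcon
    push Not at hcon
    refine h1 ⟨fun p q hp => ?_, hg.1.1⟩
    rw [hq, hcon.1, hcon.2]
    fin_cases p <;> fin_cases q
    all_goals first | rfl | exact absurd rfl hp
  have hne2 : g.1 0 1 ≠ 0 ∨ g.1 0 2 ≠ 0 := by
    by_contra hcon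
    push Not at hcon
    refine h2 ⟨fun p q hp => ?_, hg.1.2⟩
    rw [hq, hcon.1, hcon.2]
    fin_cases p <;> fin_cases q
    all_goals first | rfl | exact absurd rfl hp
  have conv : ∀ c ci : L4, c⁻¹ = ci →
      (g.1 * (c.1 * g.1 * ci.1)) 0 3 ≠ ((c.1 * g.1 * ci.1) * g.1) 0 3 →
      ¬ Commute g (c * g * c⁻¹) := by
    intro c ci e hne hc
    refine hne ?_
    rw [← e]
    have h3 := congrArg (fun m : L4 => m.1 0 3) hc.eq
    simpa only [Matrix.SpecialLinearGroup.coe_mul] using h3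
  rcases qMat_key _ _ _ _ (g.1 0 3) hne1 hne2 with e | e <;> rw [← hq] at e
  · exact ⟨blkJ, blk_mem.1, conv _ _ blk_inv.1 e⟩
  · exact ⟨blkK, blk_mem.2, conv _ _ blk_inv.2 e⟩

theorem E2_le_H1 : E2 ≤ H1 := fun _ hg i => hg.1 i 0 (by decide)

theorem E2_normal {g a : L4} (hg : g ∈ H2) (ha : a ∈ E2) : g * a * g⁻¹ ∈ E2 := by
  refine ⟨fun i j hj => ?_, mul_mem (mul_mem hg ha.2) (inv_mem hg)⟩
  rw [← one_entry, ← mul_inv_cancel g, Matrix.SpecialLinearGroup.coe_mul,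
    Matrix.SpecialLinearGroup.coe_mul g g⁻¹, Matrix.mul_apply, Matrix.mul_apply]
  refine Finset.sum_congr rfl fun k _ => ?_
  by_cases hk : k = 3
  · subst hk
    have h0 := (inv_mem hg : g⁻¹ ∈ H2) j
    rw [if_neg (Ne.symm hj)] at h0
    rw [h0, mul_zero, mul_zero]
  · rw [col_mul (fun l => ha.1 l k hk) i]

theorem card_E2_le : Nat.card E2 ≤ 27 := by
  let f : E2 → (Fin 3 → ZMod 3) := fun a p => (a : L4).1 p.castSucc 3
  refine le_trans (Nat.card_le_card_of_injective f fun a b e => ?_) (by simp)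
  apply Subtype.ext
  apply Subtype.ext
  ext p q
  by_cases hq : q = 3
  · subst hq
    by_cases hp : p = 3
    · subst hp
      rw [a.2.2 3, b.2.2 3]
    · obtain ⟨r, rfl⟩ := Fin.exists_castSucc_eq.2 (show p ≠ Fin.last 3 from hp)
      exact congrFun e r
  · rw [a.2.1 p q hq, b.2.1 p q hq]

theorem z4_mem_E : z4 ∈ E1 ∧ z4 ∈ E2 := by
  refine ⟨⟨?_, z4_mem⟩, ⟨?_, (by decide +kernel : z4 ∈ H2)⟩⟩
  · show ∀ i j : Fin 4, i ≠ 0 → (z4.1 i j : ZMod 3) = if i = j then (1 : ZMod 3) else 0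
    intro i j; fin_cases i <;> fin_cases j <;> decide +kernel
  · show ∀ i j : Fin 4, j ≠ 3 → (z4.1 i j : ZMod 3) = if i = j then (1 : ZMod 3) else 0
    intro i j; fin_cases i <;> fin_cases j <;> decide +kernel

variable {G : Type*} [Group G] [Finite G] {z : G} {C Q : Subgroup G}

namespace Hyp

variable (h : Hyp z C Q)
include h

/-- A subgroup with the properties of the abelian normal subgroup through `y` is that subgroup. -/
theorem eq_IsX {y : G} {X W : Subgroup G} (hX : IsX z C Q X) (hy : y ∈ X)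
    (hyz : y ∉ zpowers z) (hzW : z ∈ W) (hyW : y ∈ W)
    (hW : ∀ c ∈ C, ∀ w ∈ W, c * w * c⁻¹ ∈ W) (hWc : Nat.card W ≤ 27) : W = X := by
  obtain ⟨j, i, hji⟩ := h.exists_j
  set X0 := zpowers z ⊔ zpowers y ⊔ zpowers (i * y * i⁻¹) with hX0
  have hyQ : y ∈ Q := hX.le hy
  have h27 : 27 ≤ Nat.card X0 := by
    have h1 := h.three_mul_le (A := zpowers z) (B := zpowers z ⊔ zpowers y)
      (lt_of_le_of_ne le_sup_left fun e => hyz (e.symm ▸ mem_sup_right (mem_zpowers y)))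
      (sup_le (zpowers_le.2 h.zQ) (zpowers_le.2 hyQ))
    have h2 := h.three_mul_le (A := zpowers z ⊔ zpowers y) (B := X0)
      (lt_of_le_of_ne le_sup_left fun e =>
        hji.i_not_mem h hyQ hyz (e.symm ▸ mem_sup_right (mem_zpowers _)))
      (sup_le (sup_le (zpowers_le.2 h.zQ) (zpowers_le.2 hyQ))
        (zpowers_le.2 (h.conj_mem_Q hji.iC hyQ)))
    rw [Nat.card_zpowers, h.ordz] at h1
    omega
  have hleX : X0 ≤ X := sup_le (sup_le (zpowers_le.2 hX.zX) (zpowers_le.2 hy))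
    (zpowers_le.2 (hX.normal i hji.iC y hy))
  have hleW : X0 ≤ W := sup_le (sup_le (zpowers_le.2 hzW) (zpowers_le.2 hyW))
    (zpowers_le.2 (hW i hji.iC y hyW))
  rw [← Subgroup.eq_of_le_of_card_ge hleW (by omega),
    ← Subgroup.eq_of_le_of_card_ge hleX (by rw [hX.card]; omega)]

/-- An identification of the normaliser with `H1` is a first parabolic. -/
theorem one_of_phi {X : Subgroup G} {φ : H1 →* G} (hinj : Function.Injective φ)
    (hrange : φ.range = normalizer (X : Set G)) (hE : (E1.subgroupOf H1).map φ = X)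
    (hz : φ ⟨z4, z4_mem⟩ = z) (hC : C = (C4.subgroupOf H1).map φ)
    (hQ : ∀ g : H1, (g : L4) ∈ Q4 → φ g ∈ Q) : One φ := by
  -- the data of a conjugate of `z` in the radical
  have data : ∀ y : H1, (y : L4) ∈ Q4 → IsConj (φ ⟨z4, z4_mem⟩) (φ y) →
      φ y ∈ zpowers z ∨ ∃ x X', x * z * x⁻¹ = φ y ∧ φ y ∉ zpowers z ∧
        IsX z C Q X' ∧ φ y ∈ X' := by
    intro y hy hc
    by_cases hyz : φ y ∈ zpowers z
    · exact Or.inl hyz
    · obtain ⟨x, hx⟩ := isConj_iff.1 hc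
      rw [hz] at hx
      obtain ⟨X', hX', hyX'⟩ := h.exists_X hx (hQ y hy) hyz
      exact Or.inr ⟨x, X', hx, hyz, hX', hyX'⟩
  have inz : ∀ y : H1, φ y ∈ zpowers z → (y : L4) ∈ E1 := by
    intro y hy
    obtain ⟨t, ht⟩ := mem_zpowers_iff.1 hy
    rw [← hz, ← map_zpow] at ht
    rw [← hinj ht]
    exact zpow_mem z4_mem_E.1 t
  have hpure : ∀ y : H1, (y : L4) ∈ Q4 → IsConj (φ ⟨z4, z4_mem⟩) (φ y) →
      (y : L4) ∈ E1 ∨ (y : L4) ∈ E2 := by
    intro y hy hc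
    rcases data y hy hc with e | ⟨x, X', -, -, hX', hyX'⟩
    · exact Or.inl (inz y e)
    · by_contra hcon
      push Not at hcon
      obtain ⟨c, hcC, hnc⟩ := exists_noncommute hy hcon.1 hcon.2
      have hcC' : φ ⟨c, hcC.1⟩ ∈ C := hC ▸ ⟨⟨c, hcC.1⟩, hcC, rfl⟩
      have hcm := hX'.comm _ hyX' _ (hX'.normal _ hcC' _ hyX')
      rw [← map_inv, ← map_mul, ← map_mul, Commute, SemiconjBy, ← map_mul, ← map_mul] at hcm
      have h4 := congrArg Subtype.val (hinj hcm)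
      simp only [Subgroup.coe_mul, Subgroup.coe_inv] at h4
      exact hnc h4
  refine ⟨hinj, by rw [hrange, hE], ?_, h.not_dvd, hpure, ?_⟩
  · rw [hz, ← h.cent, hC]
  · intro hiso
    simp only [Isolated, not_forall] at hiso
    obtain ⟨y, hy, hc, hy1⟩ := hiso
    have hy2 : (y : L4) ∈ E2 := (hpure y hy hc).resolve_left hy1
    rcases data y hy hc with e | ⟨x, X', hx, hyz, hX', hyX'⟩
    · exact absurd (inz y e) hy1
    · have hW : (E2.subgroupOf H1).map φ = X' := by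
        refine h.eq_IsX hX' hyX' hyz ?_ ⟨y, hy2, rfl⟩ ?_ ?_
        · exact hz ▸ ⟨⟨z4, z4_mem⟩, z4_mem_E.2, rfl⟩
        · intro c hc' w hw
          rw [hC] at hc'
          obtain ⟨c, hc4, rfl⟩ := hc'
          obtain ⟨w, hw2, rfl⟩ := hw
          exact ⟨c * w * c⁻¹, E2_normal hc4.2 hw2, by rw [map_mul, map_mul, map_inv]⟩
        · rw [Subgroup.card_map_of_injective hinj,
            Nat.card_congr (Subgroup.subgroupOfEquivOfLe E2_le_H1).toEquiv]
          exact card_E2_le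
      obtain ⟨n, hn, hnz⟩ := h.exists_moves hx (hQ y hy) hyz hX' hyX'
      refine ⟨n, ?_, hz.symm ▸ hnz⟩
      rw [hW]
      exact Subgroup.mem_normalizer_fintype hn

end Hyp

end Cfsg.Agent.L43Three45
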