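import Cfsg.Agent.Lib.SL23Model77

/-!
Irreducible actions of `SL(2,3)` on elementary abelian 3-groups, and facts about the group itself
(piece K of S3373).
-/

set_option autoImplicit false
set_option maxRecDepth 100000
set_option synthInstance.maxSize 2000

namespace Cfsg.Agent.L43Start5

open Cfsg.Agent.SL23Model77

/-- The central involution. -/
def J : SL := w0 * w0

theorem J_ne : J ≠ 1 := by decide +kernel

theorem J_sq : J * J = 1 := by decide +kernel

theorem J_central : ∀ s : SL, J * s = s * J := by decide +kernel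

theorem w0_ne : w0 ≠ 1 := by decide +kernel

theorem inv_uniq : ∀ s : SL, s * s = 1 → s = 1 ∨ s = J := by decide +kernel

theorem word_u : ∀ s : SL, s ∈ [w0, w1] →
    ∃ i : Fin 4, ∃ k : Fin 2, u⁻¹ * s * u = w0 ^ i.val * w1 ^ k.val := by decide +kernel

theorem w1_sq : w1 * w1 = J := by decide +kernel

theorem w0_w1 : w1 * w0 = J * (w0 * w1) := by decide +kernel

theorem u_w0 : u * w0 = w1 * u := by decide +kernel

theorem u_w1 : u * w1 = w0 * w1 * u ∨ u * w1 = J * (w0 * w1) * u := by decide +kernel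

theorem u_w01 : u * (w0 * w1) = w0 * u ∨ u * (w0 * w1) = J * w0 * u := by decide +kernel

theorem u_three : u * u * u = 1 := by decide +kernel

/-- Facts about an element of order three. -/
theorem step_facts : ∀ s : SL, s * s * s = 1 → s ≠ 1 →
    s * w0 * s⁻¹ * (s * w0 * s⁻¹) = J ∧
    s * w0 * s⁻¹ * w0 = J * (w0 * (s * w0 * s⁻¹)) ∧
    (s * (s * w0 * s⁻¹) * s⁻¹ = w0 * (s * w0 * s⁻¹) ∨
      s * (s * w0 * s⁻¹) * s⁻¹ = J * (w0 * (s * w0 * s⁻¹))) ∧
    (s * (w0 * (s * w0 * s⁻¹)) * s⁻¹ = w0 ∨ s * (w0 * (s * w0 * s⁻¹)) * s⁻¹ = J * w0) := by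
  decide +kernel

/-- An element of order three and `w0` generate. -/
theorem gen_facts : ∀ s : SL, s * s * s = 1 → s ≠ 1 → ∀ t : SL,
    ∃ a : Fin 4, ∃ b : Fin 2, ∃ c : Fin 3, t = w0 ^ a.val * (s * w0 * s⁻¹) ^ b.val * s ^ c.val := by
  decide +kernel

/-- The lower unitriangular element. -/
def low : SL := ⟨!![1, 0; 1, 1], by decide⟩

theorem w0_word : w0 = u ^ 2 * low * u ^ 2 ∧ u ^ 3 = 1 ∧ low ^ 3 = 1 := by decide +kernel

theorem card_SL : Nat.card SL = 24 := by
  rw [← Nat.card_congr (Equiv.ofBijective enc ⟨fun a b h => enc_injective a b h, enc_surjective⟩)]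
  simp

variable {V : Type*} [Group V] (φ : SL →* MulAut V)

/-- The fixed points of an element. -/
def fixSub (s : SL) : Subgroup V := (φ s).toMonoidHom.eqLocus (MonoidHom.id V)

theorem mem_fix {s : SL} {a : V} : a ∈ fixSub φ s ↔ φ s a = a := Iff.rfl

theorem act_mul (s t : SL) (a : V) : φ (s * t) a = φ s (φ t a) := by rw [map_mul]; rfl

theorem act_one (a : V) : φ 1 a = a := by rw [map_one]; rfl

/-- An irreducible nontrivial action: either the central involution inverts and the module has at
least nine elements, or there are at least 27 elements. -/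
theorem rep_cases [Finite V] (hcomm : ∀ a b : V, a * b = b * a) (hexp : ∀ a : V, a ^ 3 = 1)
    (hirr : ∀ W : Subgroup V, (∀ s : SL, ∀ a ∈ W, φ s a ∈ W) → W = ⊥ ∨ W = ⊤)
    (hnt : ∃ s : SL, ∃ a : V, φ s a ≠ a) :
    ((∀ a : V, φ J a = a⁻¹) ∧ 9 ≤ Nat.card V) ∨ 27 ≤ Nat.card V := by
  haveI : Fact (Nat.Prime 3) := ⟨Nat.prime_three⟩
  obtain ⟨s₀, a₀, ha₀⟩ := hnt
  have ha₀1 : a₀ ≠ 1 := fun e => ha₀ (by rw [e, map_one])
  have hinv2 : ∀ a : V, a⁻¹ = a → a = 1 := fun a e => by
    have h2 : a ^ 2 = 1 := by rw [sq]; nth_rewrite 1 [← e]; exact inv_mul_cancel a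
    have := hexp a
    rwa [pow_succ, h2, one_mul] at this
  rcases hirr (fixSub φ J) (fun s a ha => by
      rw [mem_fix] at ha ⊢
      rw [← act_mul, J_central, act_mul, ha]) with h | h
  · left
    have hJ : ∀ a : V, φ J a = a⁻¹ := by
      intro a
      have hf : a * φ J a ∈ fixSub φ J := by
        rw [mem_fix, map_mul, ← act_mul, J_sq, act_one, hcomm]
      rw [h, Subgroup.mem_bot] at hf
      exact eq_inv_of_mul_eq_one_right hf
    refine ⟨hJ, ?_⟩
    have hp : IsPGroup 3 V := fun a => ⟨1, by rw [pow_one]; exact hexp a⟩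
    obtain ⟨k, hk⟩ := hp.exists_card_eq
    by_contra hlt
    have hk1 : k ≤ 1 := by
      by_contra h2
      have := Nat.pow_le_pow_right (show 1 ≤ 3 by norm_num) (show 2 ≤ k by omega)
      rw [← hk] at this
      norm_num at this
      omega
    have hb : φ w0 a₀ ∈ Subgroup.zpowers a₀ := by
      have hoa : orderOf a₀ = 3 := orderOf_eq_prime (hexp _) ha₀1
      have htop : Subgroup.zpowers a₀ = ⊤ := Subgroup.eq_top_of_le_card _ (by
        rw [Nat.card_zpowers, hoa, hk]
        calc 3 ^ k ≤ 3 ^ 1 := Nat.pow_le_pow_right (by norm_num) hk1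
          _ = 3 := by norm_num)
      rw [htop]; trivial
    obtain ⟨m, hm⟩ := Subgroup.mem_zpowers_iff.1 hb
    have e : φ J a₀ = a₀ ^ (m * m) := by
      rw [J, act_mul, ← hm, map_zpow, ← hm, ← zpow_mul]
    rw [hJ] at e
    have h1 : a₀ ^ (m * m + 1) = 1 := by rw [zpow_add_one, ← e, inv_mul_cancel]
    have hd := orderOf_dvd_iff_zpow_eq_one.2 h1
    rw [orderOf_eq_prime (hexp _) ha₀1] at hd
    have h3 : (m * m + 1) % 3 = 0 := Int.emod_eq_zero_of_dvd hd
    have := Int.emod_lt_of_pos m (show (0 : ℤ) < 3 by norm_num)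
    have := Int.emod_nonneg m (show (3 : ℤ) ≠ 0 by norm_num)
    rw [Int.add_emod, Int.mul_emod] at h3
    interval_cases hm3 : m % 3 <;> norm_num at h3
  · right
    have hJ : ∀ a : V, φ J a = a := fun a => (mem_fix φ).1 (h ▸ Subgroup.mem_top a)
    have hsq0 : ∀ a : V, φ w0 (φ w0 a) = a := fun a => by rw [← act_mul]; exact hJ a
    have hsq1 : ∀ a : V, φ w1 (φ w1 a) = a := fun a => by rw [← act_mul, w1_sq]; exact hJ a
    have h01 : ∀ a : V, φ w1 (φ w0 a) = φ w0 (φ w1 a) := fun a => by
      rw [← act_mul, w0_w1, act_mul, hJ, act_mul]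
    have hu0 : ∀ a : V, φ u (φ w0 a) = φ w1 (φ u a) := fun a => by rw [← act_mul, u_w0, act_mul]
    have hu1 : ∀ a : V, φ u (φ w1 a) = φ w0 (φ w1 (φ u a)) := fun a => by
      rw [← act_mul]
      rcases u_w1 with e | e <;> rw [e, act_mul, act_mul]
      rw [act_mul, hJ]
    have hu01 : ∀ a : V, φ u (φ w0 (φ w1 a)) = φ w0 (φ u a) := fun a => by
      rw [← act_mul φ w0 w1, ← act_mul φ u]
      rcases u_w01 with e | e <;> rw [e, act_mul]
      rw [act_mul, hJ]
    set W := fixSub φ w0 ⊓ fixSub φ w1 with hW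
    have hWs : ∀ i k : ℕ, ∀ a ∈ W, φ (w0 ^ i * w1 ^ k) a = a := by
      intro i k a ha
      obtain ⟨h0, h1⟩ := Subgroup.mem_inf.1 ha
      rw [mem_fix] at h0 h1
      have p0 : ∀ i : ℕ, φ (w0 ^ i) a = a := fun i => by
        induction i with
        | zero => rw [pow_zero, act_one]
        | succ i ih => rw [pow_succ, act_mul, h0, ih]
      have p1 : ∀ i : ℕ, φ (w1 ^ i) a = a := fun i => by
        induction i with
        | zero => rw [pow_zero, act_one]
        | succ i ih => rw [pow_succ, act_mul, h1, ih]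
      rw [act_mul, p1, p0]
    have hWu : ∀ a ∈ W, φ u a ∈ W := by
      intro a ha
      refine Subgroup.mem_inf.2 ⟨?_, ?_⟩ <;> rw [mem_fix]
      · obtain ⟨i, k, e⟩ := word_u w0 (by simp)
        rw [← act_mul, show w0 * u = u * (u⁻¹ * w0 * u) by simp [mul_assoc], act_mul, e, hWs _ _ a ha]
      · obtain ⟨i, k, e⟩ := word_u w1 (by simp)
        rw [← act_mul, show w1 * u = u * (u⁻¹ * w1 * u) by simp [mul_assoc], act_mul, e, hWs _ _ a ha]
    rcases hirr W (fun s a ha => by
        obtain ⟨⟨i, k, c⟩, rfl⟩ := enc_surjective s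
        have hc : ∀ n : ℕ, φ (u ^ n) a ∈ W := fun n => by
          induction n with
          | zero => rwa [pow_zero, act_one]
          | succ n ih => rw [pow_succ', act_mul]; exact hWu _ ih
        rw [enc, act_mul, hWs _ _ _ (hc _)]
        exact hc _) with hb | ht
    · -- three eigenvectors permuted by `u`
      obtain ⟨b, hb1, hbi, hbk⟩ : ∃ b : V, b ≠ 1 ∧ φ w0 b = b ∧ φ w1 b = b⁻¹ := by
        by_contra hno
        have H0 : ∀ a, φ w0 a = a⁻¹ := by
          intro a
          by_contra hne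
          have hb1 : a * φ w0 a ≠ 1 := fun e => hne (eq_inv_of_mul_eq_one_right e)
          have hbi : φ w0 (a * φ w0 a) = a * φ w0 a := by rw [map_mul, hsq0, hcomm]
          refine hno ⟨_, hb1, hbi, ?_⟩
          set b := a * φ w0 a
          have hm : b * φ w1 b ∈ W := by
            refine Subgroup.mem_inf.2 ⟨?_, ?_⟩ <;> rw [mem_fix, map_mul]
            · rw [hbi, ← h01, hbi]
            · rw [hsq1, hcomm]
          rw [hb, Subgroup.mem_bot] at hm
          exact eq_inv_of_mul_eq_one_right hm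
        have H1 : ∀ a, φ w1 a = a⁻¹ := by
          intro a
          have := hu0 ((φ u).symm a)
          rw [H0, map_inv, MulEquiv.apply_symm_apply] at this
          exact this.symm
        refine ha₀1 (hinv2 _ ?_)
        have := hu01 ((φ u).symm a₀)
        rw [H1, H0, inv_inv, MulEquiv.apply_symm_apply, H0] at this
        exact this.symm
      set c := φ u b with hc
      set d := φ u c with hd
      have hck : φ w1 c = c := by rw [hc, ← hu0, hbi]
      have hci : φ w0 c = c⁻¹ := by
        rw [hc, ← hu01, hbk, map_inv, hbi, map_inv]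
      have hdi : φ w0 d = d⁻¹ := by
        rw [hd, ← hu01, hck, hci, map_inv]
      have hdk : φ w1 d = d⁻¹ := by
        rw [hd, ← hu0, hci, map_inv]
      have hc1 : c ≠ 1 := fun e => hb1 ((φ u).injective (by rw [← hc, e, map_one]))
      have hd1 : d ≠ 1 := fun e => hc1 ((φ u).injective (by rw [← hd, e, map_one]))
      let f : Fin 3 × Fin 3 × Fin 3 → V := fun t => b ^ t.1.val * c ^ t.2.1.val * d ^ t.2.2.val
      have hf : Function.Injective f := by
        rintro ⟨x, y, w⟩ ⟨x', y', w'⟩ e
        simp only [f] at e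
        have key : ∀ {g : V}, g ≠ 1 → ∀ {m n : Fin 3}, g ^ m.val = g ^ n.val → m = n :=
          fun {g} hg {m n} he => Fin.ext (pow_injOn_Iio_orderOf
            (by rw [Set.mem_Iio, orderOf_eq_prime (hexp g) hg]; exact m.isLt)
            (by rw [Set.mem_Iio, orderOf_eq_prime (hexp g) hg]; exact n.isLt) he)
        have e0 := congrArg (φ w0) e
        rw [map_mul, map_mul, map_mul, map_mul, map_pow, map_pow, map_pow, map_pow, map_pow,
          map_pow, hbi, hci, hdi] at e0
        have e1 := congrArg (φ w1) e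
        rw [map_mul, map_mul, map_mul, map_mul, map_pow, map_pow, map_pow, map_pow, map_pow,
          map_pow, hbk, hck, hdk] at e1
        have sq_eq : ∀ {p q : V}, p * p = q * q → p = q := fun {p q} h2 => by
          have hp : p = (p * p)⁻¹ :=
            eq_inv_of_mul_eq_one_left (by rw [← mul_assoc, ← pow_three', hexp])
          have hq : q = (q * q)⁻¹ :=
            eq_inv_of_mul_eq_one_left (by rw [← mul_assoc, ← pow_three', hexp])
          rw [hp, h2, ← hq]
        letI : CommGroup V := { (inferInstance : Group V) with mul_comm := hcomm }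
        have hx : b ^ x.val = b ^ x'.val := sq_eq (by
          have := congrArg₂ (· * ·) e e0
          simp only [inv_pow] at this
          calc b ^ x.val * b ^ x.val = b ^ x.val * c ^ y.val * d ^ w.val *
                (b ^ x.val * (c ^ y.val)⁻¹ * (d ^ w.val)⁻¹) := by
                  rw [mul_mul_mul_comm (b ^ x.val * c ^ y.val), mul_mul_mul_comm (b ^ x.val)]
                  simp
            _ = b ^ x'.val * c ^ y'.val * d ^ w'.val *
                (b ^ x'.val * (c ^ y'.val)⁻¹ * (d ^ w'.val)⁻¹) := this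
            _ = b ^ x'.val * b ^ x'.val := by
                  rw [mul_mul_mul_comm (b ^ x'.val * c ^ y'.val), mul_mul_mul_comm (b ^ x'.val)]
                  simp)
        have hy : c ^ y.val = c ^ y'.val := sq_eq (by
          have := congrArg₂ (· * ·) e e1
          simp only [inv_pow] at this
          calc c ^ y.val * c ^ y.val = b ^ x.val * c ^ y.val * d ^ w.val *
                ((b ^ x.val)⁻¹ * c ^ y.val * (d ^ w.val)⁻¹) := by
                  rw [mul_mul_mul_comm (b ^ x.val * c ^ y.val), mul_mul_mul_comm (b ^ x.val)]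
                  simp
            _ = b ^ x'.val * c ^ y'.val * d ^ w'.val *
                ((b ^ x'.val)⁻¹ * c ^ y'.val * (d ^ w'.val)⁻¹) := this
            _ = c ^ y'.val * c ^ y'.val := by
                  rw [mul_mul_mul_comm (b ^ x'.val * c ^ y'.val), mul_mul_mul_comm (b ^ x'.val)]
                  simp)
        rw [hx, hy] at e
        exact Prod.ext (key hb1 hx) (Prod.ext (key hc1 hy) (key hd1 (mul_left_cancel e)))
      have := Nat.card_le_card_of_injective f hf
      simpa using this
    · exfalso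
      have hq : ∀ a, φ w0 a = a ∧ φ w1 a = a := fun a => by
        have ha : a ∈ W := ht ▸ Subgroup.mem_top a
        exact ⟨(Subgroup.mem_inf.1 ha).1, (Subgroup.mem_inf.1 ha).2⟩
      have hfu : ∀ (s : SL) (a : V), φ u a = a → φ s a = a := by
        intro s a hua
        obtain ⟨⟨i, k, c⟩, rfl⟩ := enc_surjective s
        have hc : φ (u ^ c.val) a = a := by
          generalize c.val = n
          induction n with
          | zero => rw [pow_zero, act_one]
          | succ n ih => rw [pow_succ, act_mul, hua, ih]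
        rw [enc, act_mul, hc, hWs _ _ _ (ht ▸ Subgroup.mem_top a)]
      obtain ⟨f, hf1, hff⟩ : ∃ f : V, f ≠ 1 ∧ φ u f = f := by
        set D := φ u a₀ * a₀⁻¹ with hD
        by_cases hD1 : D = 1
        · exact ⟨a₀, ha₀1, mul_inv_eq_one.1 hD1⟩
        by_cases hDD : φ u D = D
        · exact ⟨D, hD1, hDD⟩
        refine ⟨a₀ * φ u a₀ * φ u (φ u a₀), fun e => hDD ?_, ?_⟩
        · letI : CommGroup V := { (inferInstance : Group V) with mul_comm := hcomm }
          have hsqi : (φ u a₀)⁻¹ * (φ u a₀)⁻¹ = φ u a₀ := by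
            rw [← mul_inv_rev]
            exact inv_eq_of_mul_eq_one_left (by rw [← mul_assoc, ← pow_three', hexp])
          refine mul_inv_eq_one.1 ?_
          rw [hD, map_mul, map_inv, mul_inv_rev, inv_inv]
          calc φ u (φ u a₀) * (φ u a₀)⁻¹ * (a₀ * (φ u a₀)⁻¹)
              = a₀ * ((φ u a₀)⁻¹ * (φ u a₀)⁻¹) * φ u (φ u a₀) := by
                simp only [mul_comm, mul_left_comm, mul_assoc]
            _ = 1 := by rw [hsqi, e]
        · rw [map_mul, map_mul, ← act_mul φ u u (φ u a₀), ← act_mul φ (u * u) u a₀, u_three, act_one,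
            hcomm (φ u a₀ * φ u (φ u a₀)), mul_assoc]
      rcases hirr (fixSub φ u) (fun s a ha => by
          rw [mem_fix] at ha ⊢
          rw [hfu s a ha, ha]) with hbo | hto
      · exact hf1 (Subgroup.mem_bot.1 (hbo ▸ (mem_fix φ).2 hff))
      · exact ha₀ (hfu s₀ a₀ ((mem_fix φ).1 (hto ▸ Subgroup.mem_top a₀)))

end Cfsg.Agent.L43Start5
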