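import Cfsg.Agent.Lib.L43FrameBase45
import Cfsg.Agent.Lib.L43FrameStartRep5
import Cfsg.Agent.Lib.HallCore
import Cfsg.Prelude.Def_CaseTheorems

/-!
Piece K of S3373 (helper45's campaign): the hypotheses of the statement give the frame `Hyp`.
-/

set_option autoImplicit false

namespace Cfsg.Agent.L43Three45

open Subgroup Cfsg.Agent.SL23Model77
open scoped commutatorElement

universe u

/-- A homomorphism from `C` onto `SL(2,3)` with kernel the part of `Q`, and conjugation of factors. -/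
theorem factor_cases {G : Type u} [Group G] [Finite G] {z : G} {C Q A B : Subgroup G}
    (π : C →* SL) (hπ : Function.Surjective π) (hker : ∀ c : C, π c = 1 ↔ (c : G) ∈ Q)
    (hQC : Q ≤ C) (hzB : zpowers z ≤ B) (hBA : B ≤ A) (hAQ : A ≤ Q)
    (hcommQ : ∀ a ∈ Q, ∀ b ∈ Q, ⁅a, b⁆ ∈ zpowers z) (hexp : ∀ q ∈ Q, q ^ 3 = 1)
    (hA : ∀ c ∈ C, ∀ a ∈ A, c * a * c⁻¹ ∈ A) (hB : ∀ c ∈ C, ∀ b ∈ B, c * b * c⁻¹ ∈ B)
    (hmax : ∀ M : Subgroup G, B < M → M < A → ∃ k ∈ C, ∃ m ∈ M, k * m * k⁻¹ ∉ M)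
    (hnt : ∃ k ∈ C, ∃ a ∈ A, k * a * k⁻¹ * a⁻¹ ∉ B) :
    ((∀ j : C, π j = L43Start5.J → ∀ a ∈ A, (j : G) * a * (j : G)⁻¹ * a ∈ B) ∧
      9 * Nat.card B ≤ Nat.card A) ∨ 27 * Nat.card B ≤ Nat.card A := by
  have hAC : A ≤ C := hAQ.trans hQC
  have hBC : B ≤ C := hBA.trans hAC
  set A' := A.subgroupOf C with hA'
  set B' := B.subgroupOf C with hB'
  haveI hBn : B'.Normal := ⟨fun b hb c => mem_subgroupOf.2 (by simpa using hB c c.2 b hb)⟩
  haveI hAn : A'.Normal := ⟨fun a ha c => mem_subgroupOf.2 (by simpa using hA c c.2 a ha)⟩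
  set q := QuotientGroup.mk' B' with hq
  set V := A'.map q with hV
  haveI : V.Normal := hAn.map q (QuotientGroup.mk'_surjective B')
  let φ0 : C →* MulAut V := (MulAut.conjNormal (H := V)).comp q
  have hφ0 : ∀ (c : C) (v : V), (φ0 c v : C ⧸ B') = q c * v * (q c)⁻¹ := fun c v => rfl
  have heq : ∀ x y : C, (q x = q y ↔ (x : G)⁻¹ * y ∈ B) := fun x y => by
    rw [hq, QuotientGroup.mk'_apply, QuotientGroup.mk'_apply, QuotientGroup.eq, mem_subgroupOf]
    simp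
  have hkill : π.ker ≤ φ0.ker := by
    intro c hc
    have hcQ := (hker c).1 hc
    refine MonoidHom.mem_ker.2 (MulEquiv.ext fun v => Subtype.ext ?_)
    rw [hφ0]
    obtain ⟨v, a, ha, rfl⟩ := v
    change q c * q a * (q c)⁻¹ = q a
    rw [← map_inv, ← map_mul, ← map_mul, heq]
    refine hzB ?_
    have := hcommQ _ hcQ _ (inv_mem (hAQ ha))
    simpa [commutatorElement_def, mul_assoc] using this
  let σ : SL → C := fun s => Classical.choose (hπ s)
  have hσ : ∀ s, π (σ s) = s := fun s => Classical.choose_spec (hπ s)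
  let φ : SL →* MulAut V := π.liftOfRightInverse σ hσ ⟨φ0, hkill⟩
  have hφ : ∀ c : C, φ (π c) = φ0 c := fun c =>
    MonoidHom.liftOfRightInverse_comp_apply π σ hσ ⟨φ0, hkill⟩ c
  have hcomm : ∀ a b : V, a * b = b * a := by
    rintro ⟨_, a, ha, rfl⟩ ⟨_, b, hb, rfl⟩
    refine Subtype.ext ?_
    change q a * q b = q b * q a
    rw [← map_mul, ← map_mul, heq]
    refine hzB ?_
    have := hcommQ _ (inv_mem (hAQ hb)) _ (inv_mem (hAQ ha))
    simpa [commutatorElement_def, mul_assoc] using this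
  have hexpV : ∀ a : V, a ^ 3 = 1 := by
    rintro ⟨_, a, ha, rfl⟩
    refine Subtype.ext ?_
    change q a ^ 3 = 1
    rw [← map_pow, show a ^ 3 = 1 from Subtype.ext (by simpa using hexp _ (hAQ ha)), map_one]
  have hirr : ∀ W : Subgroup V, (∀ s : SL, ∀ a ∈ W, φ s a ∈ W) → W = ⊥ ∨ W = ⊤ := by
    intro W hW
    set W1 := W.map V.subtype with hW1
    set M := (W1.comap q).map C.subtype with hM
    have hBM : B ≤ M := fun b hb => ⟨⟨b, hBC hb⟩, by
      rw [SetLike.mem_coe, mem_comap,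
        show q ⟨b, hBC hb⟩ = 1 from (QuotientGroup.eq_one_iff _).2 (mem_subgroupOf.2 hb)]
      exact one_mem _, rfl⟩
    have hMA : M ≤ A := by
      rintro _ ⟨c, hc, rfl⟩
      obtain ⟨⟨_, a, ha, rfl⟩, -, e⟩ := mem_comap.1 hc
      have e' : q a = q c := e
      simpa using mul_mem (show (a : G) ∈ A from ha) (hBA ((heq a c).1 e'))
    have hinv : ∀ k ∈ C, ∀ m ∈ M, k * m * k⁻¹ ∈ M := by
      rintro k hk _ ⟨c, hc, rfl⟩
      obtain ⟨v, hv, e⟩ := mem_comap.1 hc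
      refine ⟨⟨k, hk⟩ * c * ⟨k, hk⟩⁻¹, mem_comap.2
        ⟨φ (π ⟨k, hk⟩) v, hW _ v hv, ?_⟩, rfl⟩
      rw [hφ]
      change q ⟨k, hk⟩ * (v : C ⧸ B') * (q ⟨k, hk⟩)⁻¹ = _
      rw [show (v : C ⧸ B') = q c from e, map_mul, map_mul, map_inv]
    by_cases h1 : M = B
    · refine Or.inl ((eq_bot_iff_forall _).2 fun v hv => ?_)
      obtain ⟨⟨_, a, ha, rfl⟩, rfl⟩ : ∃ w : V, w = v := ⟨v, rfl⟩
      have hm : (a : G) ∈ B := by
        rw [← h1]; exact ⟨a, mem_comap.2 ⟨_, hv, rfl⟩, rfl⟩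
      exact Subtype.ext ((QuotientGroup.eq_one_iff _).2 (mem_subgroupOf.2 hm))
    · by_cases h2 : M = A
      · refine Or.inr ((eq_top_iff' _).2 fun v => ?_)
        obtain ⟨⟨_, a, ha, rfl⟩, rfl⟩ : ∃ w : V, w = v := ⟨v, rfl⟩
        obtain ⟨c, hc, e⟩ : (a : G) ∈ M := h2 ▸ ha
        obtain rfl : c = a := Subtype.ext e
        obtain ⟨w, hw, e⟩ := mem_comap.1 hc
        have ew : w = ⟨q c, c, ha, rfl⟩ := Subtype.ext e
        rw [ew] at hw; exact hw
      · exfalso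
        obtain ⟨k, hk, m, hm, hno⟩ :=
          hmax M (lt_of_le_of_ne hBM (Ne.symm h1)) (lt_of_le_of_ne hMA h2)
        exact hno (hinv k hk m hm)
  have hnt' : ∃ s : SL, ∃ a : V, φ s a ≠ a := by
    obtain ⟨k, hk, a, ha, hno⟩ := hnt
    refine ⟨π ⟨k, hk⟩, ⟨q ⟨a, hAC ha⟩, ⟨a, hAC ha⟩, mem_subgroupOf.2 ha, rfl⟩, fun e => hno ?_⟩
    rw [hφ] at e
    have e' : q ⟨k, hk⟩ * q ⟨a, hAC ha⟩ * (q ⟨k, hk⟩)⁻¹ = q ⟨a, hAC ha⟩ := congrArg Subtype.val e
    rw [← map_inv, ← map_mul, ← map_mul, heq] at e'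
    have hb : a * (((k * a * k⁻¹)⁻¹ * a)⁻¹) * a⁻¹ ∈ B :=
      hB a (hAC ha) _ (inv_mem (by simpa [mul_assoc] using e'))
    simpa [mul_assoc] using hb
  have hcard : Nat.card A = Nat.card B * Nat.card V := by
    let f : A' →* C ⧸ B' := q.comp A'.subtype
    have hr : f.range = V := by rw [MonoidHom.range_comp, Subgroup.range_subtype]
    have hk : f.ker = B'.subgroupOf A' := by
      ext a
      simp [f, hq, MonoidHom.mem_ker, mem_subgroupOf, QuotientGroup.eq_one_iff]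
    have h := f.ker.card_mul_index
    rw [Subgroup.index_ker, hr, hk, Nat.card_congr (subgroupOfEquivOfLe hAC).toEquiv,
      Nat.card_congr (subgroupOfEquivOfLe (show B' ≤ A' from fun b hb => hBA hb)).toEquiv,
      Nat.card_congr (subgroupOfEquivOfLe hBC).toEquiv] at h
    exact h.symm
  rcases L43Start5.rep_cases φ hcomm hexpV hirr hnt' with ⟨hinv, h9⟩ | h27
  · refine Or.inl ⟨fun j hj a ha => ?_, by rw [hcard, mul_comm]; exact Nat.mul_le_mul_left _ h9⟩
    have e := congrArg Subtype.val (hinv ⟨q ⟨a, hAC ha⟩, ⟨a, hAC ha⟩, mem_subgroupOf.2 ha, rfl⟩)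
    rw [← hj, hφ] at e
    have e' : q j * q ⟨a, hAC ha⟩ * (q j)⁻¹ = (q ⟨a, hAC ha⟩)⁻¹ := e
    rw [← mul_eq_one_iff_eq_inv, ← map_inv, ← map_mul, ← map_mul, ← map_mul, hq,
      QuotientGroup.mk'_apply, QuotientGroup.eq_one_iff, mem_subgroupOf] at e'
    simpa using e'
  · exact Or.inr (by rw [hcard, mul_comm]; exact Nat.mul_le_mul_left _ h27)

/-- Piece K: the hypotheses of S3373 give the frame. -/
theorem exists_hyp {G : Type*} [Group G] [Finite G]
    (S : Sylow 3 G) (Z : Subgroup G)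
    (hZ : Z = (S : Subgroup G) ⊓ Subgroup.centralizer ((S : Subgroup G) : Set G))
    (C : Subgroup G) (hCZ : C = Subgroup.centralizer (Z : Set G))
    (Q : Subgroup G) (hQ : Q = (Cfsg.pCore 3 C).map C.subtype)
    (hQex : Cfsg.IsExtraspecial 3 Q) (hQcard : Nat.card Q = 3 ^ 5) (hQexp : ∀ a ∈ Q, a ^ 3 = 1)
    (hCQ : Subgroup.centralizer (Q : Set G) ≤ Q)
    (hZQ : ∃ x : G, Z.map (MulAut.conj x).toMonoidHom ≤ Q ∧ Z.map (MulAut.conj x).toMonoidHom ≠ Z)
    (K : Subgroup G)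
    (hK : K = ((Cfsg.pResidual 2 (C ⧸ Cfsg.pCore 3 C)).comap
      (QuotientGroup.mk' (Cfsg.pCore 3 C))).map C.subtype)
    (r : ℕ) (A : Fin (r + 1) → Subgroup G) (hA0 : A 0 = Z) (hAr : A (Fin.last r) = Q)
    (hmono : ∀ i : Fin r, A i.castSucc < A i.succ)
    (hinv : ∀ i : Fin (r + 1), ∀ k ∈ K, ∀ a ∈ A i, k * a * k⁻¹ ∈ A i)
    (hmax : ∀ i : Fin r, ∀ B : Subgroup G, A i.castSucc < B → B < A i.succ →
      ∃ k ∈ K, ∃ b ∈ B, k * b * k⁻¹ ∉ B)
    (e : C ⧸ Cfsg.pCore 3 C ≃* Matrix.SpecialLinearGroup (Fin 2) (ZMod 3))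
    (htwo : ∃ i j : Fin r, i ≠ j ∧
      (∃ k ∈ K, ∃ a ∈ A i.succ, k * a * k⁻¹ * a⁻¹ ∉ A i.castSucc) ∧
      (∃ k ∈ K, ∃ a ∈ A j.succ, k * a * k⁻¹ * a⁻¹ ∉ A j.castSucc) ∧
      ∀ l : Fin r, (∃ k ∈ K, ∃ a ∈ A l.succ, k * a * k⁻¹ * a⁻¹ ∉ A l.castSucc) → l = i ∨ l = j) :
    ∃ z : G, Hyp z C Q := by
  haveI : Fact (Nat.Prime 3) := ⟨Nat.prime_three⟩
  have hSC : (S : Subgroup G) ≤ C := by
    rw [hCZ, Subgroup.le_centralizer_iff, hZ]; exact inf_le_right
  have hQS : Q ≤ (S : Subgroup G) := by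
    rw [hQ]
    rintro _ ⟨c, hc, rfl⟩
    have := HallCore.pCore_le_sylow (S.subtype hSC) hc
    simpa [Sylow.coe_subtype, mem_subgroupOf] using this
  have hQC : Q ≤ C := hQS.trans hSC
  have hZS : Z ≤ (S : Subgroup G) := hZ ▸ inf_le_left
  have hZQ' : Z ≤ Q := fun z hz => hCQ (mem_centralizer_iff.2 fun q hq => by
    have := (hZ ▸ hz : z ∈ (S : Subgroup G) ⊓ Subgroup.centralizer ((S : Subgroup G) : Set G))
    exact mem_centralizer_iff.1 this.2 q (hQS hq))
  set ZQ := (Subgroup.center Q).map Q.subtype with hZQdef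
  have hZQc : Nat.card ZQ = 3 := by rw [card_map_of_injective Q.subtype_injective]; exact hQex.2
  have hZle : Z ≤ ZQ := fun z hz => ⟨⟨z, hZQ' hz⟩, Subgroup.mem_center_iff.2 fun q =>
    Subtype.ext (mem_centralizer_iff.1
      (hZ ▸ hz : z ∈ (S : Subgroup G) ⊓ Subgroup.centralizer ((S : Subgroup G) : Set G)).2 q
      (hQS q.2)), rfl⟩
  have hSne : Nontrivial (S : Subgroup G) := by
    rw [← Finite.one_lt_card_iff_nontrivial]
    have := Subgroup.card_dvd_of_le hQS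
    have h0 := Nat.le_of_dvd Nat.card_pos this
    rw [hQcard] at h0
    omega
  obtain ⟨z, hzZ, hz1⟩ : ∃ z ∈ Z, z ≠ 1 := by
    haveI := S.2.center_nontrivial
    obtain ⟨⟨⟨z, hzS⟩, hzc⟩, hz⟩ := exists_ne (1 : Subgroup.center (S : Subgroup G))
    refine ⟨z, ?_, fun e => hz (Subtype.ext (Subtype.ext e))⟩
    rw [hZ]
    exact ⟨hzS, mem_centralizer_iff.2 fun s hs =>
      congrArg Subtype.val (Subgroup.mem_center_iff.1 hzc ⟨s, hs⟩)⟩
  have hzQ : z ∈ Q := hZQ' hzZ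
  have hzo : orderOf z = 3 := orderOf_eq_prime (hQexp z hzQ) hz1
  have hzp : zpowers z = ZQ := eq_of_le_of_card_ge (zpowers_le.2 (hZle hzZ))
    (by rw [hZQc, Nat.card_zpowers, hzo])
  have hZz : Z = zpowers z := le_antisymm (hzp ▸ hZle) (zpowers_le.2 hzZ)
  have hCz : C = centralizer ({z} : Set G) := by
    rw [hCZ, hZz]
    refine le_antisymm (fun c hc => mem_centralizer_singleton_iff.2
      (mem_centralizer_iff.1 hc z (mem_zpowers z)).symm) fun c hc => mem_centralizer_iff.2 ?_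
    rintro _ ⟨n, rfl⟩
    exact ((show Commute c z from mem_centralizer_singleton_iff.1 hc).zpow_right n).symm.eq
  set π : C →* SL := e.toMonoidHom.comp (QuotientGroup.mk' (Cfsg.pCore 3 C)) with hπdef
  have hπ : Function.Surjective π := e.surjective.comp (QuotientGroup.mk'_surjective _)
  have hker : ∀ c : C, π c = 1 ↔ (c : G) ∈ Q := fun c => by
    rw [hQ]
    simp [hπdef, QuotientGroup.eq_one_iff]
  have hQmem : ∀ {g : G}, g ∈ Q → ∃ c : C, (c : G) = g ∧ π c = 1 := fun {g} hg =>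
    ⟨⟨g, hQC hg⟩, rfl, (hker _).2 hg⟩
  have hnormal : ∀ c ∈ C, ∀ q ∈ Q, c * q * c⁻¹ ∈ Q := by
    intro c hc q hq
    obtain ⟨q', rfl, hq'⟩ := hQmem hq
    have : π (⟨c, hc⟩ * q' * ⟨c, hc⟩⁻¹) = 1 := by
      rw [map_mul, map_mul, hq', mul_one, map_inv, mul_inv_cancel]
    simpa using (hker _).1 this
  have hcommQ : ∀ a ∈ Q, ∀ b ∈ Q, ⁅a, b⁆ ∈ zpowers z := by
    intro a ha b hb
    have h : ⁅(⟨a, ha⟩ : Q), ⟨b, hb⟩⁆ ∈ commutator Q :=
      Subgroup.commutator_mem_commutator (mem_top _) (mem_top _)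
    rw [hQex.1.2.2] at h
    rw [hzp]
    exact ⟨_, h, rfl⟩
  have hcentre : ∀ a ∈ Q, (∀ b ∈ Q, Commute a b) → a ∈ zpowers z := fun a ha h => by
    rw [hzp]
    exact ⟨⟨a, ha⟩, Subgroup.mem_center_iff.2 fun b => Subtype.ext (h b b.2).symm.eq, rfl⟩
  have hcardC : Nat.card C = 5832 := by
    have h := (Cfsg.pCore 3 C).card_mul_index
    rw [Subgroup.index, Nat.card_congr e.toEquiv, L43Start5.card_SL,
      show Nat.card (Cfsg.pCore 3 C) = 243 by
        rw [← card_map_of_injective C.subtype_injective, ← hQ, hQcard]; norm_num] at h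
    omega
  have hnd : ¬ 3 ^ 7 ∣ Nat.card G := fun hd => by
    have h := Subgroup.card_dvd_of_le hSC
    rw [hcardC] at h
    have h7 : 3 ^ 7 ∣ Nat.card (S : Subgroup G) := by
      rw [S.card_eq_multiplicity]
      exact Nat.pow_dvd_pow 3 ((Nat.Prime.pow_dvd_iff_le_factorization Nat.prime_three
        Nat.card_pos.ne').1 hd)
    have := h7.trans h
    norm_num at this
  have hKC : C ≤ K := by
    have htop : Cfsg.pResidual 2 (C ⧸ Cfsg.pCore 3 C) = ⊤ := by
      have h3 : ∀ s : SL, s ^ 3 = 1 → e.symm s ∈ Cfsg.pResidual 2 (C ⧸ Cfsg.pCore 3 C) :=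
        fun s hs => subset_closure (by
          change Nat.Coprime (orderOf (e.symm s)) 2
          exact Nat.Coprime.coprime_dvd_left
            (orderOf_dvd_of_pow_eq_one (by rw [← map_pow, hs, map_one])) (by norm_num))
      obtain ⟨hw, hu3, hl3⟩ := L43Start5.w0_word
      have m0 : e.symm w0 ∈ Cfsg.pResidual 2 (C ⧸ Cfsg.pCore 3 C) := by
        rw [hw, map_mul, map_mul, map_pow]
        exact mul_mem (mul_mem (pow_mem (h3 _ hu3) 2) (h3 _ hl3)) (pow_mem (h3 _ hu3) 2)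
      refine (eq_top_iff' _).2 fun x => ?_
      obtain ⟨⟨a, b, c⟩, hx⟩ := enc_surjective (e x)
      rw [← e.symm_apply_apply x, ← hx, enc, map_mul, map_mul, map_pow, map_pow, map_pow, w1,
        map_mul, map_mul, map_inv]
      exact mul_mem (mul_mem (pow_mem m0 _)
        (pow_mem (mul_mem (mul_mem (h3 _ hu3) m0) (inv_mem (h3 _ hu3))) _)) (pow_mem (h3 _ hu3) _)
    rw [hK, htop, Subgroup.comap_top, ← MonoidHom.range_eq_map, Subgroup.range_subtype]
  have hKC' : K ≤ C := hK ▸ map_subtype_le _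
  -- the involution
  obtain ⟨c0, hc0⟩ := hπ L43Start5.J
  set j : C := c0 ^ 3 with hjdef
  have hπj : π j = L43Start5.J := by
    rw [hjdef, map_pow, hc0, pow_succ, sq, L43Start5.J_sq, one_mul]
  have hj2 : j * j = 1 := by
    have h1 : π (c0 * c0) = 1 := by rw [map_mul, hc0, L43Start5.J_sq]
    have h3 := hQexp _ ((hker _).1 h1)
    refine Subtype.ext ?_
    rw [hjdef, Subgroup.coe_mul, SubgroupClass.coe_pow, ← (Commute.refl (c0 : G)).mul_pow]
    simpa using h3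
  obtain ⟨ci, hci⟩ := hπ w0
  -- the factors
  have hmon : Monotone A := Fin.monotone_iff_le_succ.2 fun l => (hmono l).le
  have hAQ : ∀ m, A m ≤ Q := fun m => hAr ▸ hmon (Fin.le_last m)
  have hZA : ∀ m, zpowers z ≤ A m := fun m => by rw [← hZz, ← hA0]; exact hmon (Fin.zero_le m)
  have hfac : ∀ l : Fin r, (∃ k ∈ K, ∃ a ∈ A l.succ, k * a * k⁻¹ * a⁻¹ ∉ A l.castSucc) →
      ((∀ a ∈ A l.succ, (j : G) * a * (j : G)⁻¹ * a ∈ A l.castSucc) ∧
        9 * Nat.card (A l.castSucc) ≤ Nat.card (A l.succ)) ∨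
      27 * Nat.card (A l.castSucc) ≤ Nat.card (A l.succ) := by
    intro l hl
    obtain ⟨k, hk, a, ha, hka⟩ := hl
    rcases factor_cases π hπ hker hQC (hZA _) (hmono l).le (hAQ _) hcommQ hQexp
      (fun c hc a ha => hinv _ c (hKC hc) a ha) (fun c hc a ha => hinv _ c (hKC hc) a ha)
      (fun M h1 h2 => by
        obtain ⟨k, hk, m, hm, hno⟩ := hmax l M h1 h2
        exact ⟨k, hKC' hk, m, hm, hno⟩)
      ⟨k, hKC' hk, a, ha, hka⟩ with ⟨h1, h2⟩ | h
    · exact Or.inl ⟨h1 j hπj, h2⟩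
    · exact Or.inr h
  have hjinv : ∀ q ∈ Q, (j : G) * q * (j : G)⁻¹ * q ∈ zpowers z := by
    obtain ⟨i, i', hne, hi, hi', -⟩ := htwo
    suffices main : ∀ i i' : Fin r, i < i' →
        (∃ k ∈ K, ∃ a ∈ A i.succ, k * a * k⁻¹ * a⁻¹ ∉ A i.castSucc) →
        (∃ k ∈ K, ∃ a ∈ A i'.succ, k * a * k⁻¹ * a⁻¹ ∉ A i'.castSucc) →
        ∀ q ∈ Q, (j : G) * q * (j : G)⁻¹ * q ∈ zpowers z from
      (lt_or_gt_of_ne hne).elim (fun h => main i i' h hi hi') fun h => main i' i h hi' hi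
    intro i i' hlt hi hi'
    have l0 : 3 ≤ Nat.card (A i.castSucc) := by
      rw [← hzo, ← Nat.card_zpowers]; exact card_le_of_le (hZA _)
    have l1 : Nat.card (A i.succ) ≤ Nat.card (A i'.castSucc) :=
      card_le_of_le (hmon (Fin.succ_le_castSucc_iff.2 hlt))
    have l2 : Nat.card (A i'.succ) ≤ 243 := by
      have := card_le_of_le (hAQ i'.succ)
      rw [hQcard] at this
      simpa using this
    rcases hfac i hi with ⟨f1, n1⟩ | n1 <;> rcases hfac i' hi' with ⟨f2, n2⟩ | n2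
    · have e0 : A i.castSucc = zpowers z := (eq_of_le_of_card_ge (hZA _) (by
        rw [Nat.card_zpowers, hzo]; omega)).symm
      have e1 : A i.succ = A i'.castSucc := eq_of_le_of_card_ge
        (hmon (Fin.succ_le_castSucc_iff.2 hlt)) (by omega)
      have e2 : A i'.succ = Q := eq_of_le_of_card_ge (hAQ _) (by rw [hQcard]; omega)
      intro q hq
      have hqinv : (j : G) * q * (j : G)⁻¹ * q ∈ A i.succ := by
        rw [e1]; exact f2 q (e2 ▸ hq)
      have hjq : (j : G) * q * (j : G)⁻¹ ∈ Q := hnormal _ j.2 _ hq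
      set y := (j : G) * q * (j : G)⁻¹ * q with hy
      have hfy := f1 y hqinv
      rw [e0] at hfy
      have hyQ : y ∈ Q := mul_mem hjq hq
      have hjjq : (j : G) * ((j : G) * q * (j : G)⁻¹) * (j : G)⁻¹ = q := by
        have hjj : (j : G) * j = 1 := by rw [← Subgroup.coe_mul, hj2, Subgroup.coe_one]
        rw [show (j : G) * ((j : G) * q * (j : G)⁻¹) * (j : G)⁻¹ =
          ((j : G) * j) * q * ((j : G) * j)⁻¹ by group, hjj]
        simp
      have e3 : (j : G) * y * (j : G)⁻¹ = q * ((j : G) * q * (j : G)⁻¹) := by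
        rw [hy, show (j : G) * ((j : G) * q * (j : G)⁻¹ * q) * (j : G)⁻¹ =
          (j : G) * ((j : G) * q * (j : G)⁻¹) * (j : G)⁻¹ * ((j : G) * q * (j : G)⁻¹) by group, hjjq]
      have hyy : y * y ∈ zpowers z := by
        have hc := hcommQ _ hjq _ hq
        have : y * y = ⁅(j : G) * q * (j : G)⁻¹, q⁆ * ((j : G) * y * (j : G)⁻¹ * y) := by
          rw [e3, commutatorElement_def, hy]; group
        rw [this]
        exact mul_mem hc hfy
      have : y = (y * y)⁻¹ := eq_inv_of_mul_eq_one_left (by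
        rw [← mul_assoc, ← pow_three', hQexp y hyQ])
      rw [this]
      exact inv_mem hyy
    all_goals omega
  have jiData : JI z C Q (j : G) (ci : G) := by
    have toMQ : ∀ a b : C, π a = π b → MQ Q (a : G) b := fun a b h => by
      have : π (a⁻¹ * b) = 1 := by rw [map_mul, map_inv, h, inv_mul_cancel]
      simpa [MQ] using (hker _).1 this
    refine ⟨j.2, ci.2, ?_, ?_, ?_, ?_, ?_, hjinv, ?_, ?_⟩
    · refine orderOf_eq_prime (by rw [sq, ← Subgroup.coe_mul, hj2, Subgroup.coe_one]) fun e => ?_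
      have : j = 1 := Subtype.ext e
      rw [this, map_one] at hπj
      exact L43Start5.J_ne hπj.symm
    · exact toMQ (ci * ci) j (by rw [map_mul, hci, hπj]; rfl)
    · exact fun h => L43Start5.w0_ne (hci ▸ (hker ci).2 h)
    · exact fun h => L43Start5.J_ne (hπj ▸ (hker j).2 h)
    · exact fun c hc => toMQ (j * ⟨c, hc⟩) (⟨c, hc⟩ * j)
        (by rw [map_mul, map_mul, hπj, L43Start5.J_central])
    · intro c hc hcc
      have h := (hker (⟨c, hc⟩ * ⟨c, hc⟩)).2 hcc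
      rw [map_mul] at h
      rcases L43Start5.inv_uniq _ h with h1 | h1
      · exact Or.inl ((hker ⟨c, hc⟩).1 h1)
      · exact Or.inr (toMQ ⟨c, hc⟩ j (by rw [h1, hπj]))
    · intro g hg hg3 hgn
      set g' : C := ⟨g, hg⟩
      have hs3 : π g' * π g' * π g' = 1 := by
        rw [← map_mul, ← map_mul]
        exact (hker _).2 (by simpa [g', pow_three'] using hg3)
      have hs1 : π g' ≠ 1 := fun h => hgn ((hker g').1 h)
      obtain ⟨f1, f2, f3, f4⟩ := L43Start5.step_facts _ hs3 hs1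
      obtain ⟨k, hk⟩ : ∃ k : C, k = g' * ci * g'⁻¹ := ⟨_, rfl⟩
      have hπk : π k = π g' * w0 * (π g')⁻¹ := by rw [hk, map_mul, map_mul, map_inv, hci]
      refine ⟨k, by rw [hk]; rfl, toMQ (k * k) j (by rw [map_mul, hπk, hπj, f1]),
        toMQ (k * ci) (j * (ci * k)) (by rw [map_mul, map_mul, map_mul, hπk, hπj, hci, f2]),
        ?_, ?_, ?_⟩
      · rcases f3 with f | f
        · exact Or.inl (toMQ (g' * k * g'⁻¹) (ci * k)
            (by rw [map_mul, map_mul, map_mul, map_inv, hπk, hci, f]))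
        · exact Or.inr (toMQ (g' * k * g'⁻¹) (j * (ci * k))
            (by rw [map_mul, map_mul, map_mul, map_mul, map_inv, hπk, hπj, hci, f]))
      · rcases f4 with f | f
        · exact Or.inl (toMQ (g' * (ci * k) * g'⁻¹) ci
            (by rw [map_mul, map_mul, map_mul, map_inv, hπk, hci, f]))
        · exact Or.inr (toMQ (g' * (ci * k) * g'⁻¹) (j * ci)
            (by rw [map_mul, map_mul, map_mul, map_mul, map_inv, hπk, hπj, hci, f]))
      · intro P hQP hiP hgP c hc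
        obtain ⟨a, b, d, he⟩ := L43Start5.gen_facts _ hs3 hs1 (π ⟨c, hc⟩)
        set w : C := ci ^ a.val * k ^ b.val * g' ^ d.val with hw
        have hwP : (w : G) ∈ P := by
          have hkP : (k : G) ∈ P := by rw [hk]; exact mul_mem (mul_mem hgP hiP) (inv_mem hgP)
          simp only [hw, Subgroup.coe_mul, SubgroupClass.coe_pow]
          exact mul_mem (mul_mem (pow_mem hiP _) (pow_mem hkP _)) (pow_mem hgP _)
        have hwQ : (w : G)⁻¹ * c ∈ Q := toMQ w ⟨c, hc⟩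
          (by rw [hw, map_mul, map_mul, map_pow, map_pow, map_pow, hci, hπk, he])
        simpa using mul_mem hwP (hQP hwQ)
  obtain ⟨x, hx1, hx2⟩ := hZQ
  have hxz : x * z * x⁻¹ ∈ Z.map (MulAut.conj x).toMonoidHom :=
    mem_map_of_mem (MulAut.conj x).toMonoidHom hzZ
  refine ⟨z, ⟨hzo, hzQ, hCz, hQC, hnormal, by rw [hQcard]; norm_num, hQexp, hcommQ, hcentre, hCQ,
    hcardC, hnd, ⟨j, ci, jiData⟩, x, hx1 hxz, fun hm => hx2 ?_⟩⟩
  refine eq_of_le_of_card_ge ?_ (card_map_of_injective (MulAut.conj x).injective).ge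
  rw [hZz, MonoidHom.map_zpowers, zpowers_le]
  exact hm

end Cfsg.Agent.L43Three45
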