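import Cfsg.Agent.Lib.L43FrameAdj45

/-!
The abelian normal subgroup of order `27` of `C` spanned by a conjugate of the central element.
-/

set_option autoImplicit false
set_option linter.unusedSectionVars false
set_option linter.style.haveILetI false

namespace Cfsg.Agent.L43Three45

open Subgroup
open scoped commutatorElement

variable {G : Type*} [Group G] [Finite G] {z : G} {C Q : Subgroup G}

/-- Congruence modulo the central subgroup. -/
def MZ (z a b : G) : Prop := a⁻¹ * b ∈ zpowers z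

/-- The properties of the abelian normal subgroup of order `27`. -/
structure IsX (z : G) (C Q X : Subgroup G) : Prop where
  zX : z ∈ X
  le : X ≤ Q
  card : Nat.card X = 27
  comm : ∀ a ∈ X, ∀ b ∈ X, Commute a b
  normal : ∀ c ∈ C, ∀ w ∈ X, c * w * c⁻¹ ∈ X
  zclass : ∀ w ∈ X, w ≠ 1 → IsConj z w
  cent : centralizer (X : Set G) = X

theorem commute_sup {A B : Subgroup G} (hA : ∀ a ∈ A, ∀ b ∈ A, Commute a b)
    (hB : ∀ a ∈ B, ∀ b ∈ B, Commute a b) (hAB : ∀ a ∈ A, ∀ b ∈ B, Commute a b) :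
    ∀ a ∈ A ⊔ B, ∀ b ∈ A ⊔ B, Commute a b := by
  have h1 : ∀ a, (a ∈ A ∨ a ∈ B) → A ⊔ B ≤ centralizer ({a} : Set G) := by
    rintro a (ha | ha)
    · exact sup_le (fun u hu => mem_centralizer_singleton_iff.2 (hA u hu a ha).eq)
        (fun u hu => mem_centralizer_singleton_iff.2 (hAB a ha u hu).symm.eq)
    · exact sup_le (fun u hu => mem_centralizer_singleton_iff.2 (hAB u hu a ha).eq)
        (fun u hu => mem_centralizer_singleton_iff.2 (hB u hu a ha).eq)
  intro a ha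
  have h2 : A ⊔ B ≤ centralizer ({a} : Set G) :=
    sup_le (fun v hv => mem_centralizer_singleton_iff.2
        (mem_centralizer_singleton_iff.1 (h1 v (Or.inl hv) ha)).symm)
      (fun v hv => mem_centralizer_singleton_iff.2
        (mem_centralizer_singleton_iff.1 (h1 v (Or.inr hv) ha)).symm)
  exact fun b hb => (mem_centralizer_singleton_iff.1 (h2 hb)).symm

theorem commute_zpowers (a : G) : ∀ u ∈ zpowers a, ∀ v ∈ zpowers a, Commute u v := by
  intro u hu v hv
  obtain ⟨m, rfl⟩ := mem_zpowers_iff.1 hu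
  obtain ⟨n, rfl⟩ := mem_zpowers_iff.1 hv
  exact Commute.zpow_zpow_self a m n

theorem commute_of_gen {a b : G} (hab : Commute a b) :
    ∀ u ∈ zpowers a, ∀ v ∈ zpowers b, Commute u v := by
  intro u hu v hv
  obtain ⟨m, rfl⟩ := mem_zpowers_iff.1 hu
  obtain ⟨n, rfl⟩ := mem_zpowers_iff.1 hv
  exact hab.zpow_zpow m n

theorem commute_zp_right {d a : G} (h : Commute d a) {v : G} (hv : v ∈ zpowers a) :
    Commute d v := by
  obtain ⟨n, rfl⟩ := mem_zpowers_iff.1 hv
  exact h.zpow_right n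

theorem zpow_congr_three {y : G} (hy : y ^ 3 = 1) {m n : ℤ} (h : (m : ZMod 3) = (n : ZMod 3)) :
    y ^ m = y ^ n := by
  rw [ZMod.intCast_eq_intCast_iff'] at h
  have e : ∀ k : ℤ, y ^ k = y ^ (k % 3) := fun k => by
    conv_lhs => rw [← Int.emod_add_mul_ediv k 3, zpow_add, zpow_mul,
      show y ^ (3 : ℤ) = 1 by exact_mod_cast hy, one_zpow, mul_one]
  rw [e m, e n]
  exact congrArg (y ^ ·) h

namespace Hyp

variable (h : Hyp z C Q)
include h

theorem MZ_refl (a : G) : MZ z a a := by simp [MZ]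

theorem MZ_symm {a b : G} (hab : MZ z a b) : MZ z b a := by
  simpa [MZ] using inv_mem hab

theorem MZ_trans {a b c : G} (hab : MZ z a b) (hbc : MZ z b c) : MZ z a c := by
  simpa [MZ, mul_assoc] using mul_mem hab hbc

theorem exists_eq_mul {a b : G} (hab : MZ z a b) : ∃ t : ℤ, b = a * z ^ t := by
  obtain ⟨t, ht⟩ := mem_zpowers_iff.1 hab
  exact ⟨t, by rw [ht, mul_inv_cancel_left]⟩

theorem MZ_of_eq {a b : G} (t : ℤ) (e : b = a * z ^ t) : MZ z a b := by
  rw [MZ, e, inv_mul_cancel_left]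
  exact zpow_mem (mem_zpowers z) t

theorem MZ_mul {a b c d : G} (hab : MZ z a b) (hcd : MZ z c d) (hc : c ∈ C) :
    MZ z (a * c) (b * d) := by
  obtain ⟨s, rfl⟩ := h.exists_eq_mul hab
  obtain ⟨t, rfl⟩ := h.exists_eq_mul hcd
  refine h.MZ_of_eq (s + t) ?_
  have e : z ^ s * c = c * z ^ s := ((h.commute_z hc).zpow_right s).eq.symm
  calc a * z ^ s * (c * z ^ t) = a * (z ^ s * c) * z ^ t := by group
    _ = _ := by rw [e, zpow_add]; group

theorem MZ_zpow {a b : G} (hab : MZ z a b) (ha : a ∈ C) (n : ℤ) : MZ z (a ^ n) (b ^ n) := by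
  obtain ⟨s, rfl⟩ := h.exists_eq_mul hab
  refine h.MZ_of_eq (s * n) ?_
  rw [((h.commute_z ha).zpow_right s).mul_zpow, zpow_mul]

theorem MZ_inv {a b : G} (hab : MZ z a b) (ha : a ∈ C) : MZ z a⁻¹ b⁻¹ := by
  simpa using h.MZ_zpow hab ha (-1)

theorem MZ_conj {a b c : G} (hab : MZ z a b) (hc : c ∈ C) :
    MZ z (c * a * c⁻¹) (c * b * c⁻¹) := by
  obtain ⟨s, rfl⟩ := h.exists_eq_mul hab
  refine h.MZ_of_eq s ?_
  have e : c * z ^ s * c⁻¹ = z ^ s := by
    rw [((h.commute_z hc).zpow_right s).eq, mul_inv_cancel_right]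
  calc c * (a * z ^ s) * c⁻¹ = c * a * c⁻¹ * (c * z ^ s * c⁻¹) := by group
    _ = _ := by rw [e]

theorem MZ_mem {W : Subgroup G} (hW : zpowers z ≤ W) {a b : G} (hab : MZ z a b) (ha : a ∈ W) :
    b ∈ W := by
  simpa using mul_mem ha (hW hab)

theorem MZ_commute {a b d : G} (hab : MZ z a b) (hd : d ∈ C) (hc : Commute d a) :
    Commute d b := by
  obtain ⟨s, rfl⟩ := h.exists_eq_mul hab
  exact hc.mul_right ((h.commute_z hd).zpow_right s)

theorem conj_congr {c d q : G} (hc : c ∈ C) (hcd : MQ Q c d) (hq : q ∈ Q) :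
    MZ z (c * q * c⁻¹) (d * q * d⁻¹) := by
  have e : d * q * d⁻¹ = c * ((c⁻¹ * d) * q * (c⁻¹ * d)⁻¹) * c⁻¹ := by group
  rw [e]
  refine h.MZ_conj ?_ hc
  have e2 : q⁻¹ * ((c⁻¹ * d) * q * (c⁻¹ * d)⁻¹) = ⁅q⁻¹, c⁻¹ * d⁆ := by
    simp only [commutatorElement_def]; group
  rw [MZ, e2]
  exact h.comm _ (inv_mem hq) _ hcd

theorem mem_of_MQ {c d : G} (hc : c ∈ C) (hcd : MQ Q c d) : d ∈ C := by
  simpa using mul_mem hc (h.QC hcd)

theorem comm_zpow_left {q v : G} (hq : q ∈ Q) (hv : v ∈ Q) (t : ℤ) : ⁅q ^ t, v⁆ = ⁅q, v⁆ ^ t := by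
  let f : Q →* G :=
    { toFun := fun w => ⁅(w : G), v⁆
      map_one' := commutatorElement_one_left v
      map_mul' := fun a b => h.comm_mul_left a.2 b.2 hv }
  exact map_zpow f ⟨q, hq⟩ t

theorem comm_inv_left {q v : G} (hq : q ∈ Q) (hv : v ∈ Q) : ⁅q⁻¹, v⁆ = ⁅q, v⁆⁻¹ := by
  simpa using h.comm_zpow_left hq hv (-1)

theorem mem_of_pow_ndvd {q : G} (hq : q ∈ Q) {W : Subgroup G} {n : ℤ}
    (hn : (n : ZMod 3) ≠ 0) (hm : q ^ n ∈ W) : q ∈ W := by
  have key : ∀ m : ZMod 3, m ≠ 0 → m * m = 1 := by decide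
  have e : (q ^ n) ^ n = q ^ (1 : ℤ) := by
    rw [← zpow_mul]
    exact zpow_congr_three (h.expQ q hq) (by push_cast; exact key _ hn)
  have h1 := zpow_mem hm n
  rw [e] at h1
  simpa using h1

/-- An element of `Q` congruent to its inverse is central. -/
theorem self_inv {q : G} (hq : q ∈ Q) (he : MZ z q q⁻¹) : q ∈ zpowers z :=
  h.mem_of_pow_ndvd hq (n := -2) (by decide) (by simpa [MZ, zpow_neg, zpow_ofNat, pow_two] using he)

theorem three_mul_le {A B : Subgroup G} (hAB : A < B) (hB : B ≤ Q) :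
    3 * Nat.card A ≤ Nat.card B := by
  have hlt : Nat.card A < Nat.card B := by
    refine lt_of_le_of_ne (Subgroup.card_le_of_le hAB.le) fun e => hAB.ne ?_
    exact Subgroup.eq_of_le_of_card_ge hAB.le e.ge
  obtain ⟨t, ht⟩ := Subgroup.card_dvd_of_le hAB.le
  have hd := Subgroup.card_dvd_of_le hB
  rw [h.cardQ] at hd
  obtain ⟨m, -, hm⟩ := (Nat.dvd_prime_pow Nat.prime_three).1
    (show t ∣ 3 ^ 5 from dvd_trans (Dvd.intro_left _ ht.symm) hd)
  rw [ht] at hlt ⊢
  rw [Nat.mul_comm 3]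
  refine Nat.mul_le_mul_left _ ?_
  rcases m with _ | m
  · simp [hm] at hlt
  · rw [hm]; exact Nat.le_self_pow (by omega) 3

theorem conj_mem_Q {c q : G} (hc : c ∈ C) (hq : q ∈ Q) : c * q * c⁻¹ ∈ Q := h.normal c hc q hq

theorem mem_span {y u w : G} (hy : y ∈ C) (hu : u ∈ C) (hyu : Commute y u)
    (hw : w ∈ zpowers z ⊔ zpowers y ⊔ zpowers u) : ∃ a b : ℤ, MZ z (y ^ a * u ^ b) w := by
  let S : Subgroup G :=
    { carrier := {w | ∃ a b : ℤ, MZ z (y ^ a * u ^ b) w}
      one_mem' := ⟨0, 0, by simp [MZ]⟩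
      mul_mem' := by
        rintro v w ⟨a, b, hv⟩ ⟨c, d, hw⟩
        refine ⟨a + c, b + d, ?_⟩
        have e : y ^ (a + c) * u ^ (b + d) = y ^ a * u ^ b * (y ^ c * u ^ d) := by
          rw [zpow_add, zpow_add]
          exact (hyu.zpow_zpow c b).mul_mul_mul_comm _ _
        rw [e]
        exact h.MZ_mul hv hw (mul_mem (zpow_mem hy c) (zpow_mem hu d))
      inv_mem' := by
        rintro v ⟨a, b, hv⟩
        refine ⟨-a, -b, ?_⟩
        have e : y ^ (-a) * u ^ (-b) = (y ^ a * u ^ b)⁻¹ := by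
          rw [mul_inv_rev, ← zpow_neg, ← zpow_neg, (hyu.zpow_zpow (-a) (-b)).eq]
        rw [e]
        exact h.MZ_inv hv (mul_mem (zpow_mem hy a) (zpow_mem hu b)) }
  have : zpowers z ⊔ zpowers y ⊔ zpowers u ≤ S :=
    sup_le (sup_le (zpowers_le.2 ⟨0, 0, by simpa [MZ] using mem_zpowers z⟩)
      (zpowers_le.2 ⟨1, 0, by simp [MZ]⟩)) (zpowers_le.2 ⟨0, 1, by simp [MZ]⟩)
  exact this hw

theorem mem_span_one {y w : G} (hy : y ∈ C) (hw : w ∈ zpowers z ⊔ zpowers y) :
    ∃ a : ℤ, MZ z (y ^ a) w := by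
  obtain ⟨a, b, e⟩ := h.mem_span hy (one_mem C) (Commute.one_right y) (mem_sup_left hw)
  exact ⟨a, by simpa using e⟩

theorem conj_mem_of_gen {W : Subgroup G} {c : G} {S : Subgroup G}
    (hc : S ≤ W.comap (MulAut.conj c).toMonoidHom) {w : G} (hw : w ∈ S) : c * w * c⁻¹ ∈ W :=
  hc hw

theorem normal_of_gen {W : Subgroup G} (hW : zpowers z ≤ W) (hWQ : W ≤ Q) {j i g : G}
    (hji : JI z C Q j i) (hgC : g ∈ C) (hg3 : g ^ 3 ∈ Q) (hgQ : g ∉ Q)
    (hi : ∀ w ∈ W, i * w * i⁻¹ ∈ W) (hg : ∀ w ∈ W, g * w * g⁻¹ ∈ W) :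
    ∀ c ∈ C, ∀ w ∈ W, c * w * c⁻¹ ∈ W := by
  obtain ⟨-, -, -, -, -, -, hP⟩ := hji.step g hgC hg3 hgQ
  have := hP (normalizer (W : Set G))
    (fun q hq => Subgroup.mem_normalizer_fintype fun n hn => h.conj_mem_of_le hW hWQ hq hn)
    (Subgroup.mem_normalizer_fintype hi) (Subgroup.mem_normalizer_fintype hg)
  exact fun c hc w hw => (mem_normalizer_iff.1 (this hc) w).1 hw

end Hyp

namespace JI

variable {j i : G} (hji : JI z C Q j i) (h : Hyp z C Q)
include hji h

theorem j_conj {q : G} (hq : q ∈ Q) : MZ z (j * q * j⁻¹) q⁻¹ := by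
  have h1 := hji.jinv q hq
  have e : (j * q * j⁻¹)⁻¹ * q⁻¹ = (q * (j * q * j⁻¹ * q) * q⁻¹)⁻¹ := by group
  rw [MZ, e, ((commute_zp_right (h.commute_z (h.QC hq)) h1)).eq, mul_inv_cancel_right]
  exact inv_mem h1

theorem sq_conj {k q : G} (hk : k ∈ C) (hkk : MQ Q (k * k) j) (hq : q ∈ Q) :
    MZ z (k * (k * q * k⁻¹) * k⁻¹) q⁻¹ := by
  have e : k * (k * q * k⁻¹) * k⁻¹ = k * k * q * (k * k)⁻¹ := by group
  rw [e]
  exact h.MZ_trans (h.conj_congr (mul_mem hk hk) hkk hq) (hji.j_conj h hq)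

/-- No power of a non-central element is congruent to its conjugate under `i`. -/
theorem not_i {q : G} (hq : q ∈ Q) (hqz : q ∉ zpowers z) (s : ℤ) :
    ¬ MZ z (q ^ s) (i * q * i⁻¹) := by
  intro e
  have key : ∀ m : ZMod 3, m * m + 1 ≠ 0 := by decide
  have h1 := h.MZ_conj e hji.iC
  have h2 : MZ z ((q ^ s) ^ s) ((i * q * i⁻¹) ^ s) := h.MZ_zpow e (zpow_mem (h.QC hq) s) s
  rw [conj_zpow] at h2
  have h3 := h.MZ_trans (h.MZ_trans h2 h1) (hji.sq_conj h hji.iC hji.sq hq)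
  rw [← zpow_mul, MZ, ← zpow_neg, ← zpow_neg_one, ← zpow_add] at h3
  refine hqz (h.mem_of_pow_ndvd hq ?_ h3)
  push_cast
  have := key (s : ZMod 3)
  intro e'
  exact this (by linear_combination -e')

theorem i_not_mem {q : G} (hq : q ∈ Q) (hqz : q ∉ zpowers z) :
    i * q * i⁻¹ ∉ zpowers z ⊔ zpowers q := fun hm => by
  obtain ⟨a, ha⟩ := h.mem_span_one (h.QC hq) hm
  exact hji.not_i h hq hqz a ha

/-- The conjugates under `i` and a companion `k` are not congruent up to powers. -/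
theorem not_k {k q : G} (hk : k ∈ C) (hkk : MQ Q (k * k) j)
    (hki : MQ Q (k * i) (j * (i * k))) (hq : q ∈ Q) (hqz : q ∉ zpowers z) (s : ℤ) :
    ¬ MZ z ((i * q * i⁻¹) ^ s) (k * q * k⁻¹) := by
  intro e
  rw [conj_zpow] at e
  have key : ∀ m : ZMod 3, m * m + 1 ≠ 0 := by decide
  have hqs : q ^ s ∈ Q := zpow_mem hq s
  -- the image under `i` of the conjugate under `k`
  have hik : MZ z (i * k * q * (i * k)⁻¹) (q ^ s)⁻¹ := by
    have h1 := h.MZ_trans (h.MZ_symm (h.MZ_conj e hji.iC)) (hji.sq_conj h hji.iC hji.sq hqs)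
    have e1 : i * (k * q * k⁻¹) * i⁻¹ = i * k * q * (i * k)⁻¹ := by group
    rwa [e1] at h1
  have hkiq : MZ z (k * i * q * (k * i)⁻¹) (q ^ s) := by
    have h1 := h.conj_congr (mul_mem hk hji.iC) hki hq
    have e1 : j * (i * k) * q * (j * (i * k))⁻¹ = j * (i * k * q * (i * k)⁻¹) * j⁻¹ := by group
    rw [e1] at h1
    have h2 := h.MZ_trans (h.MZ_conj hik hji.jC) (hji.j_conj h (inv_mem hqs))
    rw [inv_inv] at h2
    exact h.MZ_trans h1 h2
  have h1 := h.MZ_trans (h.MZ_conj e hk) (hji.sq_conj h hk hkk hq)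
  have e2 : k * (i * q ^ s * i⁻¹) * k⁻¹ = (k * i * q * (k * i)⁻¹) ^ s := by
    rw [conj_zpow]; group
  rw [e2] at h1
  have hkiC : k * i * q * (k * i)⁻¹ ∈ C :=
    h.QC (h.conj_mem_Q (mul_mem hk hji.iC) hq)
  have h3 := h.MZ_trans (h.MZ_symm (h.MZ_zpow hkiq hkiC s)) h1
  rw [← zpow_mul, MZ, ← zpow_neg, ← zpow_neg_one, ← zpow_add] at h3
  refine hqz (h.mem_of_pow_ndvd hq ?_ h3)
  push_cast
  have := key (s : ZMod 3)
  intro e'
  exact this (by linear_combination -e')

end JI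

namespace Hyp

variable (h : Hyp z C Q)
include h

/-- The `i`- and `g`-conjugates of `y` span an abelian normal subgroup. -/
theorem exists_gen {x y : G} (hy : x * z * x⁻¹ = y) (hyQ : y ∈ Q) (hyz : y ∉ zpowers z)
    {j i : G} (hji : JI z C Q j i) :
    ∃ g k : G, g ∈ C ∧ g ^ 3 ∈ Q ∧ g ∉ Q ∧ g * y = y * g ∧ k ∈ C ∧ MQ Q (k * k) j ∧
      MQ Q (k * i) (j * (i * k)) ∧
      Commute y (i * y * i⁻¹) ∧ g * (i * y * i⁻¹) * g⁻¹ = k * y * k⁻¹ ∧
      k * y * k⁻¹ ∈ zpowers z ⊔ zpowers y ⊔ zpowers (i * y * i⁻¹) ∧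
      ∀ c ∈ C, ∀ w ∈ zpowers z ⊔ zpowers y ⊔ zpowers (i * y * i⁻¹),
        c * w * c⁻¹ ∈ zpowers z ⊔ zpowers y ⊔ zpowers (i * y * i⁻¹) := by
  obtain ⟨g, a, hgC, hg3, hgQ, hgy, haQ, hay, hag, hag1⟩ := h.exists_step hy hyQ hyz
  have hg3Q : g ^ 3 ∈ Q := hg3 ▸ one_mem Q
  obtain ⟨k, hk, hkk, hki, hgk, hgik, -⟩ := hji.step g hgC hg3Q hgQ
  have hkC : k ∈ C := hk ▸ mul_mem (mul_mem hgC hji.iC) (inv_mem hgC)
  have hikC : i * k ∈ C := mul_mem hji.iC hkC
  set u := i * y * i⁻¹ with hu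
  set v := k * y * k⁻¹ with hv
  set w3 := i * v * i⁻¹ with hw3
  set X := zpowers z ⊔ zpowers y ⊔ zpowers u with hX
  have hgy' : g * y * g⁻¹ = y := by rw [hgy, mul_inv_cancel_right]
  have huQ : u ∈ Q := h.conj_mem_Q hji.iC hyQ
  have hvQ : v ∈ Q := h.conj_mem_Q hkC hyQ
  have hw3Q : w3 ∈ Q := h.conj_mem_Q hji.iC hvQ
  have hgu : g * u * g⁻¹ = v := by
    calc g * u * g⁻¹ = g * i * g⁻¹ * (g * y * g⁻¹) * (g * i * g⁻¹)⁻¹ := by rw [hu]; group
      _ = _ := by rw [hgy', ← hk]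
  have e3 : w3 = i * k * y * (i * k)⁻¹ := by rw [hw3, hv]; group
  have hgv : MZ z w3 (g * v * g⁻¹) ∨ MZ z w3⁻¹ (g * v * g⁻¹) := by
    have e1 : g * v * g⁻¹ = g * k * g⁻¹ * y * (g * k * g⁻¹)⁻¹ := by
      calc g * v * g⁻¹ = g * k * g⁻¹ * (g * y * g⁻¹) * (g * k * g⁻¹)⁻¹ := by rw [hv]; group
        _ = _ := by rw [hgy']
    rw [e1]
    have hgkC : g * k * g⁻¹ ∈ C := mul_mem (mul_mem hgC hkC) (inv_mem hgC)
    rcases hgk with e | e
    · exact Or.inl (e3 ▸ h.MZ_symm (h.conj_congr hgkC e hyQ))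
    · refine Or.inr (h.MZ_symm (h.MZ_trans (h.conj_congr hgkC e hyQ) ?_))
      have e2 : j * (i * k) * y * (j * (i * k))⁻¹ = j * w3 * j⁻¹ := by rw [e3]; group
      rw [e2]
      exact hji.j_conj h hw3Q
  have hgw3 : MZ z u (g * w3 * g⁻¹) ∨ MZ z u⁻¹ (g * w3 * g⁻¹) := by
    have e1 : g * w3 * g⁻¹ = g * (i * k) * g⁻¹ * y * (g * (i * k) * g⁻¹)⁻¹ := by
      calc g * w3 * g⁻¹ = g * (i * k) * g⁻¹ * (g * y * g⁻¹) * (g * (i * k) * g⁻¹)⁻¹ := by
            rw [e3]; group
        _ = _ := by rw [hgy']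
    rw [e1]
    have hgikC : g * (i * k) * g⁻¹ ∈ C := mul_mem (mul_mem hgC hikC) (inv_mem hgC)
    rcases hgik with e | e
    · exact Or.inl (h.MZ_symm (h.conj_congr hgikC e hyQ))
    · refine Or.inr (h.MZ_symm (h.MZ_trans (h.conj_congr hgikC e hyQ) ?_))
      have e2 : j * i * y * (j * i)⁻¹ = j * u * j⁻¹ := by rw [hu]; group
      rw [e2]
      exact hji.j_conj h huQ
  have hiu : MZ z y⁻¹ (i * u * i⁻¹) := h.MZ_symm (hji.sq_conj h hji.iC hji.sq hyQ)
  have hzX : zpowers z ≤ X := le_trans le_sup_left le_sup_left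
  have hyX : y ∈ X := mem_sup_left (mem_sup_right (mem_zpowers y))
  have huX : u ∈ X := mem_sup_right (mem_zpowers u)
  have hXQ : X ≤ Q :=
    sup_le (sup_le (zpowers_le.2 h.zQ) (zpowers_le.2 hyQ)) (zpowers_le.2 huQ)
  -- conjugation preserving a subgroup above `X`
  have genX : ∀ c ∈ C, ∀ W : Subgroup G, X ≤ W → c * y * c⁻¹ ∈ W → c * u * c⁻¹ ∈ W →
      X ≤ W.comap (MulAut.conj c).toMonoidHom := by
    intro c hc W hXW h1 h2
    refine sup_le (sup_le (zpowers_le.2 ?_) (zpowers_le.2 h1)) (zpowers_le.2 h2)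
    show c * z * c⁻¹ ∈ W
    rw [h.fix_z hc]
    exact hXW (hzX (mem_zpowers z))
  have centX : ∀ d ∈ C, Commute d y → Commute d u → X ≤ centralizer ({d} : Set G) := by
    intro d hd h1 h2
    exact sup_le (sup_le (zpowers_le.2 (mem_centralizer_singleton_iff.2 (h.commute_z hd).symm.eq))
      (zpowers_le.2 (mem_centralizer_singleton_iff.2 h1.symm.eq)))
      (zpowers_le.2 (mem_centralizer_singleton_iff.2 h2.symm.eq))
  have hag' : g * a * g⁻¹ = ⁅a, g⁆⁻¹ * a := by simp only [commutatorElement_def]; group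
  have hyy : y ∈ zpowers ⁅a, g⁆ := by
    rcases (mem_zp3 (h.expQ y hyQ)).1 hag with e | e | e
    · exact absurd e hag1
    · rw [e]; exact mem_zpowers _
    · rw [e, zpowers_inv]; exact mem_zpowers _
  have hdQ : ⁅a, g⁆ ∈ Q := (zpowers_le.2 hyQ) hag
  have hX27 : 27 ≤ Nat.card X := by
    have h1 := h.three_mul_le (A := zpowers z) (B := zpowers z ⊔ zpowers y)
      (lt_of_le_of_ne le_sup_left fun e => hyz (e.symm ▸ mem_sup_right (mem_zpowers y)))
      (sup_le (zpowers_le.2 h.zQ) (zpowers_le.2 hyQ))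
    have h2 := h.three_mul_le (A := zpowers z ⊔ zpowers y) (B := X)
      (lt_of_le_of_ne le_sup_left fun e => hji.i_not_mem h hyQ hyz (e.symm ▸ huX)) hXQ
    rw [Nat.card_zpowers, h.ordz] at h1
    omega
  -- the third conjugate lies in `X`
  have hvX : v ∈ X := by
    by_contra hvX
    set X1 := X ⊔ zpowers v with hX1
    have hX1Q : X1 ≤ Q := sup_le hXQ (zpowers_le.2 hvQ)
    have hX81 : 81 ≤ Nat.card X1 := by
      have h1 := h.three_mul_le (A := X) (B := X1)
        (lt_of_le_of_ne le_sup_left fun e => hvX (e.symm ▸ mem_sup_right (mem_zpowers v))) hX1Q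
      omega
    have hvX1 : v ∈ X1 := mem_sup_right (mem_zpowers v)
    by_cases hw : w3 ∈ X1
    · have hgX1 : ∀ w ∈ X1, g * w * g⁻¹ ∈ X1 := fun w hwm => by
        refine h.conj_mem_of_gen (sup_le (genX g hgC X1 le_sup_left ?_ ?_) (zpowers_le.2 ?_)) hwm
        · rw [hgy']; exact mem_sup_left hyX
        · rw [hgu]; exact hvX1
        · show g * v * g⁻¹ ∈ X1
          rcases hgv with e | e
          · exact h.MZ_mem (le_trans hzX le_sup_left) e hw
          · exact h.MZ_mem (le_trans hzX le_sup_left) e (inv_mem hw)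
      have hiX1 : ∀ w ∈ X1, i * w * i⁻¹ ∈ X1 := fun w hwm => by
        refine h.conj_mem_of_gen (sup_le (genX i hji.iC X1 le_sup_left ?_ ?_) (zpowers_le.2 ?_)) hwm
        · exact mem_sup_left huX
        · exact h.MZ_mem (le_trans hzX le_sup_left) hiu (inv_mem (mem_sup_left hyX))
        · exact hw
      -- the centraliser of `X1` gives a line invariant under `i`
      set W := Q ⊓ centralizer (X1 : Set G) with hW
      have hzW : zpowers z ≤ W := zpowers_le.2 ⟨h.zQ, mem_centralizer_iff.2 fun s hs =>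
        (h.commute_z (h.QC (hX1Q hs))).eq⟩
      have hW9 : 9 ≤ Nat.card W := by
        have h1 := h.card_cent_ge Q le_rfl hyQ
        have h2 := h.card_cent_ge (Q ⊓ centralizer ({y} : Set G)) inf_le_left huQ
        have h3 := h.card_cent_ge
          (Q ⊓ centralizer ({y} : Set G) ⊓ centralizer ({u} : Set G))
          (le_trans inf_le_left inf_le_left) hvQ
        rw [h.cardQ] at h1
        have h4 := Subgroup.card_le_of_le (show Q ⊓ centralizer ({y} : Set G) ⊓
            centralizer ({u} : Set G) ⊓ centralizer ({v} : Set G) ≤ W from fun q hq => by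
          obtain ⟨⟨⟨hq0, hq1⟩, hq2⟩, hq3⟩ := hq
          refine ⟨hq0, ?_⟩
          have hle : X1 ≤ centralizer ({q} : Set G) := sup_le
            (centX q (h.QC hq0) (mem_centralizer_singleton_iff.1 hq1)
              (mem_centralizer_singleton_iff.1 hq2))
            (zpowers_le.2 (mem_centralizer_singleton_iff.2
              (mem_centralizer_singleton_iff.1 hq3).symm))
          exact mem_centralizer_iff.2 fun s hs => mem_centralizer_singleton_iff.1 (hle hs))
        omega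
      have hW9' : Nat.card W ≤ 9 := by
        by_cases hQX : Q ≤ X1
        · have hle : W ≤ zpowers z := fun q hq => h.centre q hq.1 fun b hb =>
            (mem_centralizer_iff.1 hq.2 b (hQX hb)).symm
          have := Subgroup.card_le_of_le hle
          rw [Nat.card_zpowers, h.ordz] at this
          omega
        · obtain ⟨b, hbQ, hb⟩ := SetLike.not_le_iff_exists.1 hQX
          have hT : X1 ⊔ zpowers b = Q := by
            refine Subgroup.eq_of_le_of_card_ge (sup_le hX1Q (zpowers_le.2 hbQ)) ?_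
            have := h.three_mul_le (A := X1) (B := X1 ⊔ zpowers b)
              (lt_of_le_of_ne le_sup_left fun e => hb (e.symm ▸ mem_sup_right (mem_zpowers b)))
              (sup_le hX1Q (zpowers_le.2 hbQ))
            rw [h.cardQ]
            omega
          have hle : W ⊓ centralizer ({b} : Set G) ≤ zpowers z := fun q hq => by
            refine h.centre q hq.1.1 fun p hp => ?_
            have hcl : Q ≤ centralizer ({q} : Set G) := hT ▸ sup_le
              (fun s hs => mem_centralizer_singleton_iff.2 (mem_centralizer_iff.1 hq.1.2 s hs))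
              (zpowers_le.2 (mem_centralizer_singleton_iff.2
                (mem_centralizer_singleton_iff.1 hq.2).symm))
            exact (mem_centralizer_singleton_iff.1 (hcl hp)).symm
          have := Subgroup.card_le_of_le hle
          rw [Nat.card_zpowers, h.ordz] at this
          have := h.card_cent_ge W inf_le_left hbQ
          omega
      obtain ⟨w, hwW, hwz⟩ : ∃ w ∈ W, w ∉ zpowers z := by
        by_contra hcon
        push Not at hcon
        have := Subgroup.card_le_of_le (show W ≤ zpowers z from hcon)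
        rw [Nat.card_zpowers, h.ordz] at this
        omega
      have hWeq : zpowers z ⊔ zpowers w = W := by
        refine Subgroup.eq_of_le_of_card_ge (sup_le hzW (zpowers_le.2 hwW)) ?_
        have := h.three_mul_le (A := zpowers z) (B := zpowers z ⊔ zpowers w)
          (lt_of_le_of_ne le_sup_left fun e => hwz (e.symm ▸ mem_sup_right (mem_zpowers w)))
          (sup_le (zpowers_le.2 h.zQ) (zpowers_le.2 hwW.1))
        rw [Nat.card_zpowers, h.ordz] at this
        omega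
      refine hji.i_not_mem h hwW.1 hwz (hWeq.symm ▸ ⟨h.conj_mem_Q hji.iC hwW.1, ?_⟩)
      refine mem_centralizer_iff.2 fun s hs => ?_
      have hn : i ∈ normalizer (X1 : Set G) := Subgroup.mem_normalizer_fintype hiX1
      have hs' : i⁻¹ * s * i ∈ X1 := (mem_normalizer_iff''.1 hn s).1 hs
      have hcm : Commute (i * (i⁻¹ * s * i) * i⁻¹) (i * w * i⁻¹) :=
        (show Commute (i⁻¹ * s * i) w from mem_centralizer_iff.1 hwW.2 _ hs').map
          (MulAut.conj i).toMonoidHom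
      rw [show i * (i⁻¹ * s * i) * i⁻¹ = s by group] at hcm
      exact hcm.eq
    · have hT : X1 ⊔ zpowers w3 = Q := by
        refine Subgroup.eq_of_le_of_card_ge (sup_le hX1Q (zpowers_le.2 hw3Q)) ?_
        have := h.three_mul_le (A := X1) (B := X1 ⊔ zpowers w3)
          (lt_of_le_of_ne le_sup_left fun e => hw (e.symm ▸ mem_sup_right (mem_zpowers w3)))
          (sup_le hX1Q (zpowers_le.2 hw3Q))
        rw [h.cardQ]
        omega
      have centQ : ∀ d ∈ Q, Commute d y → Commute d u → Commute d v → Commute d w3 →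
          d ∈ zpowers z := by
        intro d hd c1 c2 c3 c4
        refine h.centre d hd fun b hb => ?_
        have hle : Q ≤ centralizer ({d} : Set G) := hT ▸ sup_le (sup_le (centX d (h.QC hd) c1 c2)
          (zpowers_le.2 (mem_centralizer_singleton_iff.2 c3.symm.eq)))
          (zpowers_le.2 (mem_centralizer_singleton_iff.2 c4.symm.eq))
        exact (mem_centralizer_singleton_iff.1 (hle hb)).symm
      set W := Q ⊓ centralizer ({u} : Set G) ⊓ centralizer ({v} : Set G) ⊓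
        centralizer ({w3} : Set G) with hW
      have hW9 : 9 ≤ Nat.card W := by
        have h1 := h.card_cent_ge Q le_rfl huQ
        have h2 := h.card_cent_ge (Q ⊓ centralizer ({u} : Set G)) inf_le_left hvQ
        have h3 := h.card_cent_ge
          (Q ⊓ centralizer ({u} : Set G) ⊓ centralizer ({v} : Set G))
          (le_trans inf_le_left inf_le_left) hw3Q
        rw [h.cardQ] at h1
        rw [hW]
        omega
      obtain ⟨w, hwW, hwz⟩ : ∃ w ∈ W, w ∉ zpowers z := by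
        by_contra hcon
        push Not at hcon
        have := Subgroup.card_le_of_le (show W ≤ zpowers z from hcon)
        rw [Nat.card_zpowers, h.ordz] at this
        omega
      obtain ⟨⟨⟨hwQ, hwu⟩, hwv⟩, hww3⟩ := hwW
      replace hwu : w * u = u * w := mem_centralizer_singleton_iff.1 hwu
      replace hwv : w * v = v * w := mem_centralizer_singleton_iff.1 hwv
      replace hww3 : w * w3 = w3 * w := mem_centralizer_singleton_iff.1 hww3
      set d := g * w * g⁻¹ with hd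
      have hdC : d ∈ C := h.QC (h.conj_mem_Q hgC hwQ)
      have cj : ∀ s : G, Commute w s → Commute d (g * s * g⁻¹) := fun s hs =>
        hs.map (MulAut.conj g).toMonoidHom
      have hdv : Commute d v := hgu ▸ cj u hwu
      have hdw3 : Commute d w3 := by
        rcases hgv with e | e
        · exact h.MZ_commute (h.MZ_symm e) hdC (cj v hwv)
        · simpa using (h.MZ_commute (h.MZ_symm e) hdC (cj v hwv)).inv_right
      have hdu : Commute d u := by
        rcases hgw3 with e | e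
        · exact h.MZ_commute (h.MZ_symm e) hdC (cj w3 hww3)
        · simpa using (h.MZ_commute (h.MZ_symm e) hdC (cj w3 hww3)).inv_right
      have hdQ' : d ∈ Q := h.conj_mem_Q hgC hwQ
      have he : d * w⁻¹ ∈ zpowers z := by
        refine centQ _ (mul_mem hdQ' (inv_mem hwQ)) ?_
          (hdu.mul_left (Commute.inv_left hwu)) (hdv.mul_left (Commute.inv_left hwv))
          (hdw3.mul_left (Commute.inv_left hww3))
        rw [← commutatorElement_eq_one_iff_commute,
          h.comm_mul_left hdQ' (inv_mem hwQ) hyQ, h.comm_inv_left hwQ hyQ]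
        have : ⁅d, y⁆ = ⁅w, y⁆ := by
          calc ⁅d, y⁆ = ⁅g * w * g⁻¹, g * y * g⁻¹⁆ := by rw [hgy']
            _ = g * ⁅w, y⁆ * g⁻¹ := by simp only [commutatorElement_def]; group
            _ = _ := h.comm_central hwQ hyQ hgC
        rw [this, mul_inv_cancel]
      have h1 : ⁅⁅a, g⁆⁻¹ * a, d⁆ = ⁅a, w⁆ := by
        rw [← hag']
        calc ⁅g * a * g⁻¹, g * w * g⁻¹⁆ = g * ⁅a, w⁆ * g⁻¹ := by
              simp only [commutatorElement_def]; group
          _ = _ := h.comm_central haQ hwQ hgC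
      have h2 : ⁅⁅a, g⁆⁻¹ * a, d⁆ = ⁅⁅a, g⁆⁻¹ * a, w⁆ := by
        have hm : ⁅a, g⁆⁻¹ * a ∈ Q := mul_mem (inv_mem hdQ) haQ
        rw [show d = d * w⁻¹ * w by group, h.comm_mul_right hm (mul_mem hdQ' (inv_mem hwQ)) hwQ,
          commutatorElement_eq_one_iff_mul_comm.2
            (commute_zp_right (h.commute_z (h.QC hm)) he).eq, one_mul]
      rw [h2, h.comm_mul_left (inv_mem hdQ) haQ hwQ, mul_eq_right,
        commutatorElement_eq_one_iff_commute] at h1
      have hwy : Commute w y := commute_zp_right (by simpa using h1.symm.inv_right) hyy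
      exact hwz (centQ w hwQ hwy hwu hwv hww3)
  have hgX : ∀ w ∈ X, g * w * g⁻¹ ∈ X := fun w hw =>
    h.conj_mem_of_gen (genX g hgC X le_rfl (by rw [hgy']; exact hyX) (by rw [hgu]; exact hvX)) hw
  have hiX : ∀ w ∈ X, i * w * i⁻¹ ∈ X := fun w hw =>
    h.conj_mem_of_gen (genX i hji.iC X le_rfl huX (h.MZ_mem hzX hiu (inv_mem hyX))) hw
  have hyu : Commute y u := by
    by_contra hnc
    have hc0 : ⁅y, u⁆ ≠ 1 := fun e => hnc (commutatorElement_eq_one_iff_commute.1 e)
    have hz0 : zpowers z ≤ zpowers ⁅y, u⁆ := zpowers_le.2 (by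
      rcases (mem_zp3 h.z3).1 (h.comm y hyQ u huQ) with e | e | e
      · exact absurd e hc0
      · rw [e]; exact mem_zpowers _
      · rw [e, zpowers_inv]; exact mem_zpowers _)
    obtain ⟨t, ht⟩ := mem_zpowers_iff.1 (hz0 (h.comm a haQ u huQ))
    set a2 := y ^ (-t) * a with ha2
    have ha2u : Commute a2 u := commutatorElement_eq_one_iff_commute.1 (by
      rw [ha2, h.comm_mul_left (zpow_mem hyQ _) haQ huQ, h.comm_zpow_left hyQ huQ, ← ht,
        ← zpow_add, neg_add_cancel, zpow_zero])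
    have ha2y : Commute a2 y := ((Commute.refl y).zpow_left _).mul_left hay
    have ha2C : a2 ∈ C := mul_mem (zpow_mem (h.QC hyQ) _) (h.QC haQ)
    have hX2 := centX a2 ha2C ha2y ha2u
    have hn : g ∈ normalizer (X : Set G) := Subgroup.mem_normalizer_fintype hgX
    have hcu : Commute (g * a2 * g⁻¹) u := by
      have hs := (mem_normalizer_iff''.1 hn u).1 huX
      have hcm : Commute (g * a2 * g⁻¹) (g * (g⁻¹ * u * g) * g⁻¹) :=
        (show Commute a2 (g⁻¹ * u * g) from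
          (mem_centralizer_singleton_iff.1 (hX2 hs)).symm).map (MulAut.conj g).toMonoidHom
      rwa [show g * (g⁻¹ * u * g) * g⁻¹ = u by group] at hcm
    have e1 : g * a2 * g⁻¹ = y ^ (-t) * (⁅a, g⁆⁻¹ * a) := by
      calc g * a2 * g⁻¹ = (g * y * g⁻¹) ^ (-t) * (g * a * g⁻¹) := by
            rw [ha2, conj_zpow]; group
        _ = _ := by rw [hgy', hag']
    have hda : Commute a ⁅a, g⁆ := commute_zp_right hay hag
    have e2 : a2⁻¹ * (g * a2 * g⁻¹) = ⁅a, g⁆⁻¹ := by
      rw [e1, ha2, mul_inv_rev, mul_assoc, inv_mul_cancel_left,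
        ← hda.inv_right.eq, inv_mul_cancel_left]
    have hdu : Commute ⁅a, g⁆⁻¹ u := e2 ▸ (ha2u.inv_left.mul_left hcu)
    exact hnc (commute_zp_right (by simpa using hdu.inv_left.symm) hyy).symm
  exact ⟨g, k, hgC, hg3Q, hgQ, hgy, hkC, hkk, hki, hyu, hgu, hvX,
    h.normal_of_gen hzX hXQ hji hgC hg3Q hgQ hiX hgX⟩

/-- Translating by the centre keeps the class. -/
theorem isConj_shift {v w : G} (hv : v ∈ Q) (hvz : v ∉ zpowers z) (hc : IsConj z v)
    (hvw : MZ z v w) : IsConj z w := by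
  obtain ⟨t, rfl⟩ := h.exists_eq_mul hvw
  obtain ⟨q, hq, hqv⟩ : ∃ q ∈ Q, ⁅q, v⁆ ≠ 1 := by
    by_contra hcon
    push Not at hcon
    exact hvz (h.centre v hv fun b hb =>
      (commutatorElement_eq_one_iff_commute.1 (hcon b hb)).symm)
  obtain ⟨m, hm⟩ : ∃ m : ℤ, ⁅q, v⁆ ^ m = z ^ t := by
    have : z ∈ zpowers ⁅q, v⁆ := by
      rcases (mem_zp3 h.z3).1 (h.comm q hq v hv) with e | e | e
      · exact absurd e hqv
      · rw [e]; exact mem_zpowers _
      · rw [e, zpowers_inv]; exact mem_zpowers _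
    exact mem_zpowers_iff.1 (zpow_mem this t)
  refine hc.trans (isConj_iff.2 ⟨q ^ m, ?_⟩)
  have e : q ^ m * v * (q ^ m)⁻¹ = ⁅q ^ m, v⁆ * v := by simp only [commutatorElement_def]; group
  rw [e, h.comm_zpow_left hq hv, hm, ((h.commute_z (h.QC hv)).zpow_right t).eq]

/-- The abelian normal subgroup of order `27` through a conjugate of `z`. -/
theorem exists_X {x y : G} (hy : x * z * x⁻¹ = y) (hyQ : y ∈ Q) (hyz : y ∉ zpowers z) :
    ∃ X, IsX z C Q X ∧ y ∈ X := by
  obtain ⟨j, i, hji⟩ := h.exists_j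
  obtain ⟨g, k, hgC, hg3, hgQ, hgy, hkC, hkk, hki, hyu, hgu, hvX, hnorm⟩ :=
    h.exists_gen hy hyQ hyz hji
  set u := i * y * i⁻¹ with hu
  set X := zpowers z ⊔ zpowers y ⊔ zpowers u with hX
  have huQ : u ∈ Q := h.conj_mem_Q hji.iC hyQ
  have hyC := h.QC hyQ
  have huC := h.QC huQ
  have hzX : z ∈ X := mem_sup_left (mem_sup_left (mem_zpowers z))
  have hyX : y ∈ X := mem_sup_left (mem_sup_right (mem_zpowers y))
  have huX : u ∈ X := mem_sup_right (mem_zpowers u)
  have hXQ : X ≤ Q :=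
    sup_le (sup_le (zpowers_le.2 h.zQ) (zpowers_le.2 hyQ)) (zpowers_le.2 huQ)
  have hXcomm : ∀ a ∈ X, ∀ b ∈ X, Commute a b := by
    have h1 : ∀ a ∈ zpowers z ⊔ zpowers y, ∀ b ∈ zpowers z ⊔ zpowers y, Commute a b :=
      commute_sup (commute_zpowers z) (commute_zpowers y) (commute_of_gen (h.commute_z hyC).symm)
    refine commute_sup h1 (commute_zpowers u) fun a ha b hb => commute_zp_right ?_ hb
    obtain ⟨m, hm⟩ := h.mem_span_one hyC ha
    exact (h.MZ_commute hm huC (hyu.symm.zpow_right m)).symm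
  have hX27 : Nat.card X = 27 := by
    refine le_antisymm (h.card_abelian_le hXQ hXcomm) ?_
    have h1 := h.three_mul_le (A := zpowers z) (B := zpowers z ⊔ zpowers y)
      (lt_of_le_of_ne le_sup_left fun e => hyz (e.symm ▸ mem_sup_right (mem_zpowers y)))
      (sup_le (zpowers_le.2 h.zQ) (zpowers_le.2 hyQ))
    have h2 := h.three_mul_le (A := zpowers z ⊔ zpowers y) (B := X)
      (lt_of_le_of_ne le_sup_left fun e => hji.i_not_mem h hyQ hyz (e.symm ▸ huX)) hXQ
    rw [Nat.card_zpowers, h.ordz] at h1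
    omega
  have hy3 := h.expQ y hyQ
  have hu3 := h.expQ u huQ
  -- coordinates modulo the centre
  let E : ZMod 3 → ZMod 3 → G := fun c d => y ^ (c.val : ℤ) * u ^ (d.val : ℤ)
  have hEQ : ∀ c d, E c d ∈ Q := fun c d => mul_mem (zpow_mem hyQ _) (zpow_mem huQ _)
  have hval : ∀ n : ℤ, ((((n : ZMod 3).val : ℤ)) : ZMod 3) = (n : ZMod 3) := fun n => by simp
  have hEab : ∀ a b : ℤ, y ^ a * u ^ b = E (a : ZMod 3) (b : ZMod 3) := fun a b => by
    show _ = y ^ _ * u ^ _
    rw [zpow_congr_three hy3 (hval a), zpow_congr_three hu3 (hval b)]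
  have hrot : ∀ c d, MZ z (E (-d) c) (i * E c d * i⁻¹) := by
    intro c d
    have e : i * E c d * i⁻¹ = u ^ (c.val : ℤ) * (i * u * i⁻¹) ^ (d.val : ℤ) := by
      show i * (y ^ _ * u ^ _) * i⁻¹ = _
      calc i * (y ^ (c.val : ℤ) * u ^ (d.val : ℤ)) * i⁻¹
          = i * y ^ (c.val : ℤ) * i⁻¹ * (i * u ^ (d.val : ℤ) * i⁻¹) := by group
        _ = _ := by rw [← conj_zpow, ← conj_zpow]
    rw [e]
    have h1 : MZ z ((y⁻¹) ^ (d.val : ℤ)) ((i * u * i⁻¹) ^ (d.val : ℤ)) :=
      h.MZ_zpow (h.MZ_symm (hji.sq_conj h hji.iC hji.sq hyQ)) (inv_mem hyC) _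
    have h2 := h.MZ_mul (h.MZ_refl (u ^ (c.val : ℤ))) h1 (zpow_mem (inv_mem hyC) _)
    have e2 : E (-d) c = u ^ (c.val : ℤ) * (y⁻¹) ^ (d.val : ℤ) := by
      show y ^ _ * u ^ _ = _
      rw [inv_zpow', (hyu.zpow_zpow _ _).eq]
      congr 1
      exact zpow_congr_three hy3 (by simp)
    rw [e2]
    exact h2
  have hnz : ∀ c d, E c d ∈ zpowers z → c = 0 ∧ d = 0 := by
    intro c d hcd
    have hd : d = 0 := by
      by_contra hd
      refine hji.i_not_mem h hyQ hyz (h.mem_of_pow_ndvd huQ (n := (d.val : ℤ)) (by simpa using hd) ?_)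
      have e : u ^ (d.val : ℤ) = (y ^ (c.val : ℤ))⁻¹ * E c d := (inv_mul_cancel_left _ _).symm
      rw [e]
      exact mul_mem (mem_sup_right (inv_mem (zpow_mem (mem_zpowers y) _))) (mem_sup_left hcd)
    refine ⟨?_, hd⟩
    by_contra hc
    refine hyz (h.mem_of_pow_ndvd hyQ (n := (c.val : ℤ)) (by simpa using hc) ?_)
    simpa [E, hd] using hcd
  let T : ZMod 3 → ZMod 3 → Prop := fun c d => IsConj z (E c d)
  have hT10 : T 1 0 := by
    show IsConj z (y ^ _ * u ^ _)
    rw [show ((1 : ZMod 3).val : ℤ) = 1 by decide, show ((0 : ZMod 3).val : ℤ) = 0 by decide,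
      zpow_one, zpow_zero, mul_one]
    exact isConj_iff.2 ⟨x, hy⟩
  have hTrot : ∀ c d, (c ≠ 0 ∨ d ≠ 0) → T c d → T (-d) c := by
    intro c d hcd hT
    have hm : i * E c d * i⁻¹ ∉ zpowers z := fun hm => by
      have := hnz _ _ (h.MZ_mem le_rfl (h.MZ_symm (hrot c d)) hm)
      rcases hcd with e | e
      · exact e this.2
      · exact e (neg_eq_zero.1 this.1)
    exact h.isConj_shift (h.conj_mem_Q hji.iC (hEQ c d)) hm
      (hT.trans (isConj_iff.2 ⟨i, rfl⟩)) (h.MZ_symm (hrot c d))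
  obtain ⟨a, b, hab⟩ := h.mem_span hyC huC hyu hvX
  rw [hEab] at hab
  have ha : (a : ZMod 3) ≠ 0 := fun e => by
    refine hji.not_k h hkC hkk hki hyQ hyz b (h.MZ_trans ?_ hab)
    rw [← hEab, show y ^ a = 1 by
      rw [zpow_congr_three hy3 (show (a : ZMod 3) = ((0 : ℤ) : ZMod 3) by simpa using e), zpow_zero],
      one_mul]
    exact h.MZ_refl _
  have hb : (b : ZMod 3) ≠ 0 := fun e => by
    have h1 : MZ z (y ^ a) (k * y * k⁻¹) := by
      refine h.MZ_trans ?_ hab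
      rw [← hEab, show u ^ b = 1 by
        rw [zpow_congr_three hu3 (show (b : ZMod 3) = ((0 : ℤ) : ZMod 3) by simpa using e),
          zpow_zero], mul_one]
      exact h.MZ_refl _
    have h2 := h.MZ_conj h1 (inv_mem hgC)
    rw [← hgu, show g⁻¹ * (g * u * g⁻¹) * g⁻¹⁻¹ = u by group,
      show g⁻¹ * y ^ a * g⁻¹⁻¹ = y ^ a by
        rw [inv_inv, mul_assoc, ← (Commute.zpow_right hgy a).eq, inv_mul_cancel_left]] at h2
    exact hji.not_i h hyQ hyz a h2
  have hvz : k * y * k⁻¹ ∉ zpowers z := fun hm =>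
    ha (hnz _ _ (h.MZ_mem le_rfl (h.MZ_symm hab) hm)).1
  have hTab : T a b := h.isConj_shift (h.conj_mem_Q hkC hyQ) hvz
    ((isConj_iff.2 ⟨x, hy⟩ : IsConj z y).trans (isConj_iff.2 ⟨k, rfl⟩)) (h.MZ_symm hab)
  have hTall : ∀ c d, (c ≠ 0 ∨ d ≠ 0) → T c d := by
    have key : ∀ a b c d : ZMod 3, a ≠ 0 → b ≠ 0 → (c ≠ 0 ∨ d ≠ 0) →
        (c, d) ∈ [((1 : ZMod 3), (0 : ZMod 3)), (0, 1), (-1, 0), (0, -1),
          (a, b), (-b, a), (-a, -b), (b, -a)] := by decide
    have h01 : T 0 1 := by simpa using hTrot 1 0 (Or.inl one_ne_zero) hT10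
    have hm0 : T (-1) 0 := hTrot 0 1 (Or.inr one_ne_zero) h01
    have h0m : T 0 (-1) := by simpa using hTrot (-1) 0 (Or.inl (by decide)) hm0
    have p1 : T (-b) a := hTrot _ _ (Or.inl ha) hTab
    have p2 : T (-a) (-b) := hTrot _ _ (Or.inr ha) p1
    have p3 : T b (-a) := by
      simpa using hTrot _ _ (Or.inl (neg_ne_zero.2 ha)) p2
    intro c d hcd
    have := key _ _ c d ha hb hcd
    simp only [List.mem_cons, Prod.mk.injEq, List.not_mem_nil, or_false] at this
    rcases this with ⟨rfl, rfl⟩ | ⟨rfl, rfl⟩ | ⟨rfl, rfl⟩ | ⟨rfl, rfl⟩ | ⟨rfl, rfl⟩ |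
      ⟨rfl, rfl⟩ | ⟨rfl, rfl⟩ | ⟨rfl, rfl⟩ <;> assumption
  have hzinv : IsConj z z⁻¹ := by
    have hc : IsConj z (E (-1) 0) := hTall _ _ (Or.inl (by decide))
    have e : E (-1) 0 = y⁻¹ := by
      show y ^ _ * u ^ _ = _
      rw [show ((0 : ZMod 3).val : ℤ) = 0 by simp, zpow_zero, mul_one, ← zpow_neg_one]
      exact zpow_congr_three hy3 (by decide)
    exact (e ▸ hc).trans (IsConj.symm (isConj_iff.2 ⟨x, by rw [← hy]; group⟩))
  refine ⟨X, ⟨hzX, hXQ, hX27, hXcomm, hnorm, ?_, ?_⟩, hyX⟩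
  · intro w hw hw1
    by_cases hwz : w ∈ zpowers z
    · rcases (mem_zp3 h.z3).1 hwz with e | e | e
      · exact absurd e hw1
      · rw [e]
      · exact e ▸ hzinv
    · obtain ⟨c, d, hcd⟩ := h.mem_span hyC huC hyu hw
      rw [hEab] at hcd
      have hne : (c : ZMod 3) ≠ 0 ∨ (d : ZMod 3) ≠ 0 := by
        by_contra hcon
        push Not at hcon
        refine hwz (h.MZ_mem le_rfl hcd ?_)
        simp [E, hcon.1, hcon.2]
      refine h.isConj_shift (hEQ _ _) (fun hm => ?_) (hTall _ _ hne) hcd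
      rcases hne with e | e
      · exact e (hnz _ _ hm).1
      · exact e (hnz _ _ hm).2
  · refine le_antisymm (fun c hc => ?_) fun w hw => mem_centralizer_iff.2 fun s hs =>
      (hXcomm s hs w hw).eq
    rw [mem_centralizer_iff] at hc
    have hcC : c ∈ C := h.memC.2 (hc z hzX).symm
    have inQ : ∀ d ∈ Q, (∀ s ∈ X, Commute d s) → d ∈ X := by
      intro d hd hds
      by_contra hdX
      have := h.card_abelian_le (A := X ⊔ zpowers d) (sup_le hXQ (zpowers_le.2 hd))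
        (commute_sup hXcomm (commute_zpowers d) fun a ha b hb =>
          commute_zp_right (hds a ha).symm hb)
      have := h.three_mul_le (A := X) (B := X ⊔ zpowers d)
        (lt_of_le_of_ne le_sup_left fun e => hdX (e.symm ▸ mem_sup_right (mem_zpowers d)))
        (sup_le hXQ (zpowers_le.2 hd))
      omega
    refine inQ c ?_ (fun s hs => (hc s hs).symm)
    by_contra hcQ
    haveI := h.normal_subgroupOf
    set π := QuotientGroup.mk' (Q.subgroupOf C)
    have hcard : Nat.card (C ⧸ Q.subgroupOf C) = 24 := by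
      have := Subgroup.card_eq_card_quotient_mul_card_subgroup (Q.subgroupOf C)
      rw [h.cardC, Nat.card_congr (Subgroup.subgroupOfEquivOfLe h.QC).toEquiv, h.cardQ] at this
      omega
    have hdvd : orderOf (π ⟨c, hcC⟩) ∣ 24 := hcard ▸ orderOf_dvd_natCard _
    have hpow : ∀ n : ℕ, orderOf (π ⟨c, hcC⟩) ∣ n ↔ c ^ n ∈ Q := fun n => by
      rw [orderOf_dvd_iff_pow_eq_one, ← map_pow, QuotientGroup.mk'_apply,
        QuotientGroup.eq_one_iff, mem_subgroupOf]
      simp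
    have h8 : c ^ 8 ∉ Q ∨ c ^ 3 ∈ Q ∨ ∃ d, d ∉ Q ∧ d * d ∈ Q ∧ d ∈ zpowers c := by
      by_cases h8 : c ^ 8 ∈ Q
      · right; right
        by_cases h4 : c ^ 4 ∈ Q
        · by_cases h2 : c ^ 2 ∈ Q
          · exact ⟨c, hcQ, by rwa [← pow_two], mem_zpowers c⟩
          · exact ⟨c ^ 2, h2, by rwa [← pow_add], pow_mem (mem_zpowers c) 2⟩
        · exact ⟨c ^ 4, h4, by rwa [← pow_add], pow_mem (mem_zpowers c) 4⟩
      · exact Or.inl h8
    have kill3 : ∀ d ∈ zpowers c, d ^ 3 ∈ Q → d ∈ Q := by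
      intro d hd hd3
      by_contra hdQ
      have hdC : d ∈ C := (zpowers_le.2 hcC) hd
      have hds : ∀ s ∈ X, d * s * d⁻¹ = s := fun s hs => by
        rw [(commute_zp_right (hc s hs) hd).symm.eq, mul_inv_cancel_right]
      obtain ⟨k', hk', hkk', hki', -, -, -⟩ := hji.step d hdC hd3 hdQ
      refine hji.not_k h (hk' ▸ mul_mem (mul_mem hdC hji.iC) (inv_mem hdC)) hkk' hki' hyQ hyz 1 ?_
      have e : k' * y * k'⁻¹ = u := by
        calc k' * y * k'⁻¹ = d * (i * (d⁻¹ * y * d⁻¹⁻¹) * i⁻¹) * d⁻¹ := by rw [hk']; group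
          _ = d * (i * y * i⁻¹) * d⁻¹ := by
            have := hds y hyX
            rw [show d⁻¹ * y * d⁻¹⁻¹ = d⁻¹ * (d * y * d⁻¹) * d by rw [this, inv_inv]]
            group
          _ = u := hds u huX
      rw [e, zpow_one]
      exact h.MZ_refl _
    rcases h8 with e | e | ⟨d, hdQ, hdd, hd⟩
    · refine e (kill3 _ (pow_mem (mem_zpowers c) 8) ?_)
      rw [← pow_mul]
      exact (hpow _).1 hdvd
    · exact hcQ (kill3 c (mem_zpowers c) e)
    · have hdC : d ∈ C := (zpowers_le.2 hcC) hd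
      rcases hji.juniq d hdC hdd with e | e
      · exact hdQ e
      · have h1 := h.MZ_trans (h.conj_congr hdC e hyQ) (hji.j_conj h hyQ)
        rw [(commute_zp_right (hc y hyX) hd).symm.eq, mul_inv_cancel_right] at h1
        exact hyz (h.self_inv hyQ h1)

end Hyp

end Cfsg.Agent.L43Three45
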