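import Cfsg.Agent.Lib.L43Parabolic80
import Cfsg.Agent.Lib.PSLCard

/-!
End step of the isolated case of the three-local recognition of `PSL(4,3)` (S3373): a finite group
in which the parabolic `3^3.SL(3,3)` controls its class of the central element and contains the
centraliser of its involution equals the parabolic.
-/

set_option autoImplicit false
set_option linter.style.haveILetI false

namespace Cfsg.Agent.L43Three45.Isolated1

open Matrix

namespace EndStep

local notation "M4" => Matrix (Fin 4) (Fin 4) (ZMod 3)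
local notation "S3'" => Matrix.SpecialLinearGroup (Fin 3) (ZMod 3)

/-- The block matrix of a middle `2 × 2` block. -/
def tmat (p : ZMod 3 × ZMod 3 × ZMod 3 × ZMod 3) : M4 :=
  !![1, 0, 0, 0; 0, p.1, p.2.1, 0; 0, p.2.2.1, p.2.2.2, 0;
    0, 0, 0, p.1 * p.2.2.2 - p.2.1 * p.2.2.1]

/-- The middle blocks of a Sylow two-subgroup. -/
def sd : List (ZMod 3 × ZMod 3 × ZMod 3 × ZMod 3) :=
  [(0, 1, 1, 2), (0, 1, 2, 0), (0, 2, 1, 0), (0, 2, 2, 1), (1, 0, 0, 1), (1, 0, 2, 2),
    (1, 1, 1, 0), (1, 1, 1, 2), (1, 2, 0, 2), (1, 2, 2, 2), (2, 0, 0, 2), (2, 0, 1, 1),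
    (2, 1, 0, 1), (2, 1, 1, 1), (2, 2, 2, 0), (2, 2, 2, 1)]

/-- The conjugator matrices of the involutions of the Sylow two-subgroup to `j4`. -/
def cm (q : ZMod 3 × ZMod 3 × ZMod 3 × ZMod 3) : M4 :=
  !![1, 0, 0, 0; 0, 0, 0, 1; 0, q.1, q.2.1, 0; 0, q.2.2.1, q.2.2.2, 0]

/-- The parameters of the conjugators. -/
def conjs : List (ZMod 3 × ZMod 3 × ZMod 3 × ZMod 3) :=
  [(1, 2, 1, 0), (0, 1, 2, 2), (1, 0, 2, 1), (1, 1, 0, 1)]

theorem tmat_spec : ∀ p ∈ sd, (tmat p).det = 1 ∧ ∀ i, tmat p i 0 = if i = 0 then 1 else 0 := by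
  decide +kernel

theorem conjs_spec : ∀ q ∈ conjs, (cm q).det = 1 ∧ ∀ i, cm q i 0 = if i = 0 then 1 else 0 := by
  decide +kernel

theorem sd_mul : ∀ p ∈ sd, ∀ q ∈ sd, ∃ r ∈ sd, tmat p * tmat q = tmat r := by decide +kernel

theorem sd_inv : ∀ p ∈ sd, ∃ r ∈ sd, tmat r * tmat p = 1 := by decide +kernel

theorem sd_invol : ∀ p ∈ sd, tmat p * tmat p = 1 → tmat p = 1 ∨ tmat p = (j4 : M4) ∨
    ∃ q ∈ conjs, cm q * tmat p = (j4 : M4) * cm q := by decide +kernel

theorem one_sd : ∃ r ∈ sd, tmat r = 1 := ⟨(1, 0, 0, 1), by decide, by decide +kernel⟩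

/-- A Sylow two-subgroup of `H1`. -/
def T : Subgroup H1 where
  carrier := {g | ∃ p ∈ sd, ((g : L4) : M4) = tmat p}
  one_mem' := by
    obtain ⟨r, hr, e⟩ := one_sd
    exact ⟨r, hr, e.symm⟩
  mul_mem' := by
    rintro a b ⟨p, hp, ea⟩ ⟨q, hq, eb⟩
    obtain ⟨r, hr, e⟩ := sd_mul p hp q hq
    refine ⟨r, hr, ?_⟩
    rw [← e, ← ea, ← eb]
    rfl
  inv_mem' := by
    rintro a ⟨p, hp, ea⟩
    obtain ⟨r, hr, e⟩ := sd_inv p hp
    refine ⟨r, hr, ?_⟩
    have h1 : ((a : L4) : M4) * (((a⁻¹ : H1) : L4) : M4) = 1 := by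
      rw [← Matrix.SpecialLinearGroup.coe_mul, ← Subgroup.coe_mul, mul_inv_cancel]
      rfl
    calc (((a⁻¹ : H1) : L4) : M4) = tmat r * tmat p * (((a⁻¹ : H1) : L4) : M4) := by
          rw [e, one_mul]
      _ = tmat r := by rw [mul_assoc, ← ea, h1, mul_one]

theorem tmat_inj : ∀ p ∈ sd, ∀ q ∈ sd, tmat p = tmat q → p = q := by decide +kernel

theorem card_T : Nat.card T = 16 := by
  classical
  let f : {p // p ∈ sd} → T := fun p =>
    ⟨⟨⟨tmat p.1, (tmat_spec p.1 p.2).1⟩, (tmat_spec p.1 p.2).2⟩, p.1, p.2, rfl⟩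
  have hf : Function.Bijective f := by
    refine ⟨fun p q e => Subtype.ext (tmat_inj _ p.2 _ q.2
      (congrArg (fun x : T => (((x : H1) : L4) : M4)) e)), ?_⟩
    rintro ⟨g, p, hp, e⟩
    exact ⟨⟨p, hp⟩, Subtype.ext (Subtype.ext (Subtype.ext e.symm))⟩
  rw [← Nat.card_congr (Equiv.ofBijective f hf), Nat.card_eq_fintype_card]
  decide +kernel

theorem card_SL3 : Nat.card S3' = 5616 := by
  have h2 := Cfsg.Agent.PSLCard.card_SL (F := ZMod 3) 3
  rw [Nat.card_zmod, Fin.prod_univ_three] at h2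
  norm_num [Nat.card_eq_fintype_card] at h2 ⊢
  omega

theorem card_H1 : Nat.card H1 = 151632 := by
  have h := Subgroup.card_mul_index blk.ker
  rw [Subgroup.index_ker, MonoidHom.range_eq_top.2 blk_surjective, Subgroup.card_top, card_SL3,
    ker_blk, Nat.card_congr (Subgroup.subgroupOfEquivOfLe fun g (hg : g ∈ E1) => hg.2).toEquiv,
    card_E1] at h
  omega

theorem j4_mem : j4 ∈ H1 := by decide +kernel

/-- The involution of `H1`. -/
def jH : H1 := ⟨j4, j4_mem⟩

theorem jH_mul_self : jH * jH = 1 := by decide +kernel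

theorem jH_ne_one : jH ≠ 1 := by decide +kernel

/-- All involutions of `H1` are conjugate. -/
theorem conj_jH {u : H1} (hu : u * u = 1) (hu1 : u ≠ 1) : ∃ k : H1, k * u * k⁻¹ = jH := by
  haveI : Fact (Nat.Prime 2) := ⟨Nat.prime_two⟩
  obtain ⟨P, hP⟩ := (IsPGroup.of_card (n := 4) (by rw [card_T]; norm_num) :
    IsPGroup 2 T).exists_le_sylow
  have hPT : (P : Subgroup H1) = T := by
    refine (Subgroup.eq_of_le_of_card_ge hP ?_).symm
    obtain ⟨k, hk⟩ := IsPGroup.iff_card.1 P.2
    have hd := Subgroup.card_subgroup_dvd_card (P : Subgroup H1)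
    rw [card_H1, hk] at hd
    rw [hk, card_T]
    by_contra hlt
    have h5 : 5 ≤ k := by
      by_contra h
      exact hlt (le_trans (Nat.pow_le_pow_right (by norm_num) (show k ≤ 4 by omega)) (by norm_num))
    exact absurd ((pow_dvd_pow 2 h5).trans hd) (by norm_num)
  have hz : IsPGroup 2 (Subgroup.zpowers u) := by
    refine IsPGroup.of_card (n := 1) ?_
    rw [Nat.card_zpowers, pow_one]
    exact orderOf_eq_prime (by rw [sq, hu]) hu1
  obtain ⟨R, hR⟩ := hz.exists_le_sylow
  obtain ⟨k, hk⟩ := MulAction.exists_smul_eq H1 R P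
  have hmem : k * u * k⁻¹ ∈ T := by
    rw [← hPT, ← hk, Sylow.coe_subgroup_smul]
    exact ⟨u, hR (Subgroup.mem_zpowers u), rfl⟩
  obtain ⟨p, hp, e⟩ := hmem
  have hsq : tmat p * tmat p = 1 := by
    rw [← e, ← Matrix.SpecialLinearGroup.coe_mul, ← Subgroup.coe_mul,
      show k * u * k⁻¹ * (k * u * k⁻¹) = k * (u * u) * k⁻¹ by group, hu, mul_one, mul_inv_cancel]
    rfl
  rcases sd_invol p hp hsq with e1 | e1 | ⟨c, hc, ec⟩
  · refine absurd ?_ hu1
    have : k * u * k⁻¹ = 1 := Subtype.ext (Subtype.ext (e.trans e1))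
    exact conj_eq_one_iff.1 this
  · exact ⟨k, Subtype.ext (Subtype.ext (e.trans e1))⟩
  · let c' : H1 := ⟨⟨cm c, (conjs_spec c hc).1⟩, (conjs_spec c hc).2⟩
    refine ⟨c' * k, ?_⟩
    have : c' * (k * u * k⁻¹) = jH * c' := Subtype.ext (Subtype.ext (by
      show cm c * (((k * u * k⁻¹ : H1) : L4) : M4) = (j4 : M4) * cm c
      rw [e, ec]))
    calc c' * k * u * (c' * k)⁻¹ = c' * (k * u * k⁻¹) * c'⁻¹ := by group
      _ = jH := by rw [this, mul_inv_cancel_right]

/-- The matrix of an element commuting with `j4`. -/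
def cmat (v : ZMod 3 × ZMod 3 × ZMod 3 × ZMod 3 × ZMod 3) : M4 :=
  !![1, 0, 0, v.1; 0, v.2.1, v.2.2.1, 0; 0, v.2.2.2.1, v.2.2.2.2, 0;
    0, 0, 0, v.2.1 * v.2.2.2.2 - v.2.2.1 * v.2.2.2.1]

theorem cent_last : ∀ a b c d f : ZMod 3, (a * d - b * c) * f = 1 → f = a * d - b * c := by
  decide +kernel

theorem card_cent_le : Nat.card (Subgroup.centralizer ({jH} : Set H1)) ≤ 243 := by
  let f : Subgroup.centralizer ({jH} : Set H1) → ZMod 3 × ZMod 3 × ZMod 3 × ZMod 3 × ZMod 3 :=
    fun g => (((g : H1) : L4).1 0 3, ((g : H1) : L4).1 1 1, ((g : H1) : L4).1 1 2,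
      ((g : H1) : L4).1 2 1, ((g : H1) : L4).1 2 2)
  have key : ∀ g, (((g : Subgroup.centralizer ({jH} : Set H1)) : H1) : L4).1 = cmat (f g) := by
    intro g
    set A := (((g : H1) : L4) : M4) with hA
    have hc : A * (j4 : M4) = (j4 : M4) * A :=
      congrArg (fun x : H1 => ((x : L4) : M4)) (Subgroup.mem_centralizer_singleton_iff.1 g.2)
    have hz : ∀ i j : Fin 4, (j4 : M4) i i ≠ (j4 : M4) j j → A i j = 0 := by
      intro i j hij
      have e := congrFun (congrFun hc i) j
      simp only [j4, sgn2, Matrix.mul_diagonal, Matrix.diagonal_mul] at e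
      simp only [j4, sgn2, Matrix.diagonal_apply_eq] at hij
      revert e hij
      generalize (if i = 1 ∨ i = 2 then (-1 : ZMod 3) else 1) = s
      generalize (if j = 1 ∨ j = 2 then (-1 : ZMod 3) else 1) = t
      generalize A i j = w
      revert s t w
      decide +kernel
    have h0 : ∀ i, A i 0 = if i = 0 then 1 else 0 := (g : H1).2
    have z01 := hz 0 1 (by decide +kernel)
    have z02 := hz 0 2 (by decide +kernel)
    have z13 := hz 1 3 (by decide +kernel)
    have z23 := hz 2 3 (by decide +kernel)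
    have z31 := hz 3 1 (by decide +kernel)
    have z32 := hz 3 2 (by decide +kernel)
    have hdet : A.det = 1 := ((g : H1) : L4).2
    rw [Matrix.det_succ_column_zero] at hdet
    simp [h0, Matrix.det_fin_three, Matrix.submatrix_apply, Fin.succAbove,
      z13, z23, z31, z32] at hdet
    have h33 := cent_last (A 1 1) (A 1 2) (A 2 1) (A 2 2) (A 3 3) (by linear_combination hdet)
    refine Matrix.ext fun i j => ?_
    show A i j = cmat (A 0 3, A 1 1, A 1 2, A 2 1, A 2 2) i j
    fin_cases i <;> fin_cases j <;> simp [cmat, h0, z01, z02, z13, z23, z31, z32, h33]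
  have hf : Function.Injective f := fun a b e =>
    Subtype.ext (Subtype.ext (Subtype.ext (by rw [key a, key b, e])))
  refine le_trans (Nat.card_le_card_of_injective f hf) ?_
  simp [Nat.card_eq_fintype_card]

theorem odd_dvd {n : ℕ} (h2 : ¬ 2 ∣ n) (h : n ∣ 5616) : n ≤ 351 := by
  have hc : Nat.Coprime n 16 := by
    rw [show (16 : ℕ) = 2 ^ 4 by norm_num]
    exact (Nat.Coprime.pow_left 4 (Nat.prime_two.coprime_iff_not_dvd.2 h2)).symm
  exact Nat.le_of_dvd (by norm_num) (hc.dvd_of_dvd_mul_left (show n ∣ 16 * 351 from h))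

end EndStep

open EndStep in
/-- If the parabolic controls the conjugates of its abelian radical and contains the centraliser
of its involution, it is the whole group. -/
theorem range_eq_top_of_centralizer {G : Type*} [Group G] [Finite G] {φ : H1 →* G} (h : One φ)
    (hctl : ∀ e : H1, (e : L4) ∈ E1 → e ≠ 1 → ∀ g : G, g * φ e * g⁻¹ ∈ φ.range → g ∈ φ.range)
    (hj : Subgroup.centralizer ({φ ⟨j4, by decide +kernel⟩} : Set G) ≤ φ.range) :
    φ.range = ⊤ := by
  classical
  haveI := Fintype.ofFinite G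
  set H := φ.range with hH
  replace hj : Subgroup.centralizer ({φ jH} : Set G) ≤ H := hj
  have hinv : ∀ u ∈ H, u * u = 1 → u ≠ 1 → ∃ k ∈ H, k * u * k⁻¹ = φ jH := by
    rintro _ ⟨u, rfl⟩ hu hu1
    obtain ⟨k, hk⟩ := conj_jH (u := u) (h.inj (by rw [map_mul, map_one, hu]))
      (fun e => hu1 (by rw [e, map_one]))
    exact ⟨φ k, ⟨k, rfl⟩, by rw [← map_inv, ← map_mul, ← map_mul, hk]⟩
  -- fusion of involutions
  have hfus : ∀ u ∈ H, u * u = 1 → u ≠ 1 → ∀ g : G, g * u * g⁻¹ ∈ H → g ∈ H := by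
    intro u hu hu2 hu1 g hg
    obtain ⟨k, hk, ek⟩ := hinv u hu hu2 hu1
    obtain ⟨l, hl, el⟩ := hinv _ hg
      (by rw [show g * u * g⁻¹ * (g * u * g⁻¹) = g * (u * u) * g⁻¹ by group, hu2]; group)
      (fun e => hu1 (conj_eq_one_iff.1 e))
    have hc : l * g * k⁻¹ ∈ H := hj (Subgroup.mem_centralizer_singleton_iff.2 (by
      calc l * g * k⁻¹ * φ jH = l * g * k⁻¹ * (k * u * k⁻¹) := by rw [ek]
        _ = l * (g * u * g⁻¹) * l⁻¹ * (l * g * k⁻¹) := by group
        _ = φ jH * (l * g * k⁻¹) := by rw [el]))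
    have := mul_mem (mul_mem (inv_mem hl) hc) hk
    rwa [show l⁻¹ * (l * g * k⁻¹) * k = g by group] at this
  have hjH : φ jH ∈ H := ⟨jH, rfl⟩
  have hj2 : φ jH * φ jH = 1 := by rw [← map_mul, jH_mul_self, map_one]
  have hj1 : φ jH ≠ 1 := fun e => jH_ne_one (h.inj (by rw [e, map_one]))
  -- the index is odd
  have hodd : ¬ 2 ∣ H.index := by
    intro hd
    haveI : Fact (Nat.Prime 2) := ⟨Nat.prime_two⟩
    have hp : IsPGroup 2 (Subgroup.zpowers (φ jH)) := by
      refine IsPGroup.of_card (n := 1) ?_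
      rw [Nat.card_zpowers, pow_one]
      exact orderOf_eq_prime (by rw [sq, hj2]) hj1
    haveI := hp
    have hmod := hp.card_modEq_card_fixedPoints (G ⧸ H)
    have hfix : MulAction.fixedPoints (Subgroup.zpowers (φ jH)) (G ⧸ H) = {((1 : G) : G ⧸ H)} := by
      ext q
      induction q using QuotientGroup.induction_on with
      | _ g =>
        simp only [MulAction.mem_fixedPoints, Set.mem_singleton_iff, Subtype.forall]
        constructor
        · intro hall
          have e := hall _ (Subgroup.mem_zpowers (φ jH))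
          replace e : ((φ jH * g : G) : G ⧸ H) = g := e
          rw [QuotientGroup.eq] at e
          have e' : g⁻¹ * φ jH * g ∈ H := by
            have := inv_mem e
            simpa [_root_.mul_inv_rev, mul_assoc] using this
          refine (QuotientGroup.eq.2 ?_)
          rw [mul_one]
          exact hfus _ hjH hj2 hj1 g⁻¹ (by rwa [inv_inv])
        · intro e a ha
          rw [e]
          show ((a * 1 : G) : G ⧸ H) = ((1 : G) : G ⧸ H)
          rw [QuotientGroup.eq, mul_one, mul_one]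
          exact inv_mem ((Subgroup.zpowers_le.2 hjH) ha)
    rw [hfix] at hmod
    have : (Nat.card (G ⧸ H)) % 2 = 1 := by
      rw [hmod]; simp
    rw [Subgroup.index] at hd
    omega
  -- all involutions of the group are conjugate
  have hclass : ∀ u : G, u * u = 1 → u ≠ 1 → IsConj (φ jH) u := by
    intro u hu hu1
    haveI : Fact (Nat.Prime 2) := ⟨Nat.prime_two⟩
    have hp : IsPGroup 2 (Subgroup.zpowers u) := by
      refine IsPGroup.of_card (n := 1) ?_
      rw [Nat.card_zpowers, pow_one]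
      exact orderOf_eq_prime (by rw [sq, hu]) hu1
    have hmod := hp.card_modEq_card_fixedPoints (G ⧸ H)
    have hne : (MulAction.fixedPoints (Subgroup.zpowers u) (G ⧸ H)).Nonempty := by
      rw [Set.nonempty_iff_ne_empty]
      intro e
      rw [e] at hmod
      apply hodd
      rw [Subgroup.index]
      exact Nat.dvd_of_mod_eq_zero (by rw [hmod]; simp)
    obtain ⟨q, hq⟩ := hne
    induction q using QuotientGroup.induction_on with
    | _ g =>
      have e := hq ⟨u, Subgroup.mem_zpowers u⟩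
      replace e : ((u * g : G) : G ⧸ H) = g := e
      rw [QuotientGroup.eq] at e
      have e' : g⁻¹ * u * g ∈ H := by
        have := inv_mem e
        simpa [_root_.mul_inv_rev, mul_assoc] using this
      obtain ⟨k, -, hk⟩ := hinv _ e'
        (by rw [show g⁻¹ * u * g * (g⁻¹ * u * g) = g⁻¹ * (u * u) * g by group, hu]; group)
        (fun e0 => hu1 (by
          rw [show u = g * (g⁻¹ * u * g) * g⁻¹ by group, e0]; group))
      refine IsConj.symm (isConj_iff.2 ⟨k * g⁻¹, ?_⟩)
      rw [← hk]; group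
  by_contra htop
  -- counting involutions in the cosets
  set I : Finset G := Finset.univ.filter (fun u => u * u = 1 ∧ u ≠ 1) with hI
  have hIcard : I.card * Nat.card (Subgroup.centralizer ({φ jH} : Set G)) = Nat.card G := by
    have hc : I.card = Nat.card (MulAction.orbit (ConjAct G) (φ jH)) := by
      rw [← Nat.card_eq_finsetCard]
      refine Nat.card_congr (Equiv.subtypeEquivRight fun u => ?_)
      rw [ConjAct.mem_orbit_conjAct, hI]
      constructor
      · intro hu
        simp only [Finset.mem_filter, Finset.mem_univ, true_and] at hu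
        exact (hclass u hu.1 hu.2).symm
      · intro hu
        obtain ⟨c, hc⟩ := isConj_iff.1 hu.symm
        simp only [Finset.mem_filter, Finset.mem_univ, true_and]
        rw [← hc]
        refine ⟨?_, fun e => hj1 (conj_eq_one_iff.1 e)⟩
        rw [show c * φ jH * c⁻¹ * (c * φ jH * c⁻¹) = c * (φ jH * φ jH) * c⁻¹ by group, hj2]
        group
    rw [hc, Nat.card_coe_set_eq, ← MulAction.index_stabilizer, ConjAct.stabilizer_eq_centralizer, mul_comm]
    exact Subgroup.card_mul_index _
  have hcent : Nat.card (Subgroup.centralizer ({φ jH} : Set G)) ≤ 243 := by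
    refine le_trans ?_ card_cent_le
    refine Nat.card_le_card_of_surjective
      (fun k => (⟨φ (k : H1), Subgroup.mem_centralizer_singleton_iff.2 (by
        rw [← map_mul, ← map_mul, Subgroup.mem_centralizer_singleton_iff.1 k.2])⟩ :
        Subgroup.centralizer ({φ jH} : Set G))) ?_
    rintro ⟨x, hx⟩
    obtain ⟨k, rfl⟩ := hj hx
    exact ⟨⟨k, Subgroup.mem_centralizer_singleton_iff.2 (h.inj (by
      rw [map_mul, map_mul, Subgroup.mem_centralizer_singleton_iff.1 hx]))⟩, rfl⟩
  have hcardH : Nat.card H = 151632 := by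
    rw [← card_H1, Nat.card_congr (MonoidHom.ofInjective h.inj).toEquiv]
  have hGcard : Nat.card G = 151632 * H.index := by
    rw [← hcardH, Subgroup.card_mul_index]
  have hN : 1 < H.index := by
    have h0 : H.index ≠ 0 := Subgroup.index_ne_zero_of_finite
    have h1 : H.index ≠ 1 := fun e => htop (Subgroup.index_eq_one.1 e)
    omega
  -- fibres over the cosets different from the trivial one
  have hfib : ∀ q : G ⧸ H, q ≠ ((1 : G) : G ⧸ H) →
      (I.filter fun v : G => (v : G ⧸ H) = q).card ≤ 351 := by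
    intro q hq
    rcases (I.filter fun v : G => (v : G ⧸ H) = q).eq_empty_or_nonempty with e | ⟨u, hu⟩
    · rw [e]; simp
    simp only [hI, Finset.mem_filter, Finset.mem_univ, true_and] at hu
    obtain ⟨⟨hu2, hu1⟩, huq⟩ := hu
    have huH : u ∉ H := fun e => hq (by
      rw [← huq]; exact QuotientGroup.eq.2 (by rw [mul_one]; exact inv_mem e))
    have hui : u⁻¹ = u := inv_eq_of_mul_eq_one_right hu2
    set K : Subgroup H1 := φ.range.comap ((MulAut.conj u).toMonoidHom.comp φ) with hK
    have hKE : ∀ k ∈ K, (k : L4) ∈ E1 → k = 1 := fun k hk hkE => by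
      by_contra hk1
      exact huH (hctl k hkE hk1 u hk)
    have hKodd : ¬ 2 ∣ Nat.card K := by
      intro hd
      haveI : Fact (Nat.Prime 2) := ⟨Nat.prime_two⟩
      obtain ⟨w, hw⟩ := exists_prime_orderOf_dvd_card' 2 hd
      have hw2 : (w : H1) * w = 1 := by
        rw [← sq, ← Subgroup.coe_pow, ← hw, pow_orderOf_eq_one]; rfl
      have hw1 : (w : H1) ≠ 1 := fun e => by
        rw [show w = 1 from Subtype.ext e, orderOf_one] at hw
        omega
      exact huH (hfus _ ⟨w, rfl⟩ (by rw [← map_mul, hw2, map_one])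
        (fun e => hw1 (h.inj (by rw [e, map_one]))) u w.2)
    have hinjb : Function.Injective (blk.comp K.subtype) := by
      refine (injective_iff_map_eq_one _).2 fun k hk => Subtype.ext (hKE _ k.2 ?_)
      have : (k : H1) ∈ blk.ker := hk
      rw [ker_blk] at this
      exact this
    have hKle : Nat.card K ≤ 351 := odd_dvd hKodd (by
      rw [← card_SL3, Nat.card_congr (MonoidHom.ofInjective hinjb).toEquiv]
      exact Subgroup.card_subgroup_dvd_card _)
    refine le_trans ?_ hKle
    have hmem : ∀ v ∈ I.filter (fun v : G => (v : G ⧸ H) = q),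
        u * v ∈ H ∧ u * (u * v) * u⁻¹ ∈ H := by
      intro v hv
      simp only [hI, Finset.mem_filter, Finset.mem_univ, true_and] at hv
      have h1 : u * v ∈ H := by
        have := QuotientGroup.eq.1 (huq.trans hv.2.symm)
        rwa [hui] at this
      refine ⟨h1, ?_⟩
      have h2 := inv_mem h1
      rw [_root_.mul_inv_rev, hui, inv_eq_of_mul_eq_one_right hv.1.1] at h2
      rwa [← mul_assoc u u v, hu2, one_mul, hui]
    have hpre : ∀ v : {v // v ∈ I.filter (fun v : G => (v : G ⧸ H) = q)},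
        ∃ k : K, φ (k : H1) = u * v.1 := by
      intro v
      obtain ⟨k, hk⟩ := (hmem v.1 v.2).1
      refine ⟨⟨k, ?_⟩, hk⟩
      show u * φ k * u⁻¹ ∈ H
      rw [hk]
      exact (hmem v.1 v.2).2
    choose f hf using hpre
    rw [← Nat.card_eq_finsetCard]
    refine Nat.card_le_card_of_injective f fun a b e => Subtype.ext (mul_left_cancel (a := u) ?_)
    rw [← hf, ← hf, e]
  -- the involutions inside
  have hin : (I.filter fun v : G => (v : G ⧸ H) = ((1 : G) : G ⧸ H)).card *
      Nat.card (Subgroup.centralizer ({φ jH} : Set G)) = 151632 := by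
    have hc : (I.filter fun v : G => (v : G ⧸ H) = ((1 : G) : G ⧸ H)).card =
        Nat.card (MulAction.orbit (ConjAct H1) jH) := by
      rw [← Nat.card_eq_finsetCard]
      symm
      have hmem : ∀ v : G, v ∈ I.filter (fun v : G => (v : G ⧸ H) = ((1 : G) : G ⧸ H)) ↔
          (v * v = 1 ∧ v ≠ 1) ∧ v ∈ H := fun v => by
        simp only [hI, Finset.mem_filter, Finset.mem_univ, true_and, QuotientGroup.eq, mul_one,
          inv_mem_iff]
      refine Nat.card_congr (Equiv.ofBijective (fun x => ⟨φ x.1, ?_⟩) ⟨?_, ?_⟩)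
      · obtain ⟨c, hc⟩ := isConj_iff.1 (ConjAct.mem_orbit_conjAct.1 x.2).symm
        refine (hmem _).2 ⟨⟨?_, fun e => ?_⟩, x.1, rfl⟩
        · rw [← hc, ← map_mul, show c * jH * c⁻¹ * (c * jH * c⁻¹) = c * (jH * jH) * c⁻¹ by group,
            jH_mul_self, mul_one, mul_inv_cancel, map_one]
        · have := h.inj (e.trans (map_one φ).symm)
          rw [← hc] at this
          exact jH_ne_one (conj_eq_one_iff.1 this)
      · intro x y e
        exact Subtype.ext (h.inj (congrArg Subtype.val e))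
      · rintro ⟨v, hv⟩
        obtain ⟨⟨hv2, hv1⟩, k, rfl⟩ := (hmem v).1 hv
        obtain ⟨c, hc⟩ := conj_jH (u := k) (h.inj (by rw [map_mul, map_one, hv2]))
          (fun e => hv1 (by rw [e, map_one]))
        exact ⟨⟨k, ConjAct.mem_orbit_conjAct.2 (isConj_iff.2 ⟨c, hc⟩)⟩, rfl⟩
    have hcc : Nat.card (Subgroup.centralizer ({φ jH} : Set G)) =
        Nat.card (Subgroup.centralizer ({jH} : Set H1)) := by
      symm
      refine Nat.card_congr (Equiv.ofBijective (fun k => ⟨φ (k : H1),
        Subgroup.mem_centralizer_singleton_iff.2 (by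
          rw [← map_mul, ← map_mul, Subgroup.mem_centralizer_singleton_iff.1 k.2])⟩) ⟨?_, ?_⟩)
      · intro a b e
        exact Subtype.ext (h.inj (congrArg Subtype.val e))
      · rintro ⟨x, hx⟩
        obtain ⟨k, rfl⟩ := hj hx
        exact ⟨⟨k, Subgroup.mem_centralizer_singleton_iff.2 (h.inj (by
          rw [map_mul, map_mul, Subgroup.mem_centralizer_singleton_iff.1 hx]))⟩, rfl⟩
    rw [hc, hcc, Nat.card_coe_set_eq, ← MulAction.index_stabilizer, ConjAct.stabilizer_eq_centralizer, mul_comm]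
    exact (Subgroup.card_mul_index _).trans card_H1
  set m := (I.filter fun v : G => (v : G ⧸ H) = ((1 : G) : G ⧸ H)).card with hm
  set c := Nat.card (Subgroup.centralizer ({φ jH} : Set G)) with hc
  have hm351 : 351 < m := by
    by_contra hle
    have : m * c ≤ 351 * 243 := Nat.mul_le_mul (by omega) hcent
    omega
  have hI2 : I.card = H.index * m := by
    have hc0 : 0 < c := Nat.card_pos
    refine Nat.eq_of_mul_eq_mul_right hc0 ?_
    rw [hIcard, hGcard, mul_assoc, hin, mul_comm]
  -- the total is too small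
  have hsum := Finset.card_eq_sum_card_fiberwise
    (f := fun v : G => (v : G ⧸ H)) (s := I) (t := Finset.univ) (fun v _ => Finset.mem_univ _)
  rw [← Finset.add_sum_erase Finset.univ _ (Finset.mem_univ ((1 : G) : G ⧸ H)), hI2, ← hm] at hsum
  have hle : ∑ q ∈ (Finset.univ : Finset (G ⧸ H)).erase ((1 : G) : G ⧸ H),
      (I.filter fun v : G => (v : G ⧸ H) = q).card ≤ (H.index - 1) * 351 := by
    refine le_trans (Finset.sum_le_card_nsmul _ _ 351 fun q hq =>
      hfib q (Finset.ne_of_mem_erase hq)) (le_of_eq ?_)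
    rw [Finset.card_erase_of_mem (Finset.mem_univ _), Finset.card_univ, smul_eq_mul,
      ← Nat.card_eq_fintype_card]
    rfl
  have : H.index * m ≤ m + (H.index - 1) * 351 := by omega
  obtain ⟨n, hn⟩ : ∃ n, H.index = n + 2 := ⟨H.index - 2, by omega⟩
  rw [hn, show n + 2 - 1 = n + 1 by omega] at this
  nlinarith

end Cfsg.Agent.L43Three45.Isolated1
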