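import Cfsg.Agent.Lib.L43Isolated1Cent
import Cfsg.Agent.Lib.PLengthOne
import Cfsg.Agent.Lib.CoprimeGen
import Cfsg.Agent.Lib.TransferPResidual
import Cfsg.Agent.S0078
import Cfsg.Agent.S3347

/-!
The centralisers of the elements of order three lie in the first parabolic (isolated case of
S3373).
-/

set_option autoImplicit false
set_option linter.style.haveILetI false

open scoped Pointwise commutatorElement

namespace Cfsg.Agent.L43Three45.Isolated1

variable {G : Type*} [Group G] {φ : H1 →* G}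

local instance : Fact (Nat.Prime 3) := ⟨Nat.prime_three⟩

/-- The restriction of `φ` to a centraliser. -/
def restr (φ : H1 →* G) (k : H1) :
    Subgroup.centralizer ({k} : Set H1) →* Subgroup.centralizer ({φ k} : Set G) :=
  (φ.comp (Subgroup.centralizer ({k} : Set H1)).subtype).codRestrict _ fun m =>
    Subgroup.mem_centralizer_singleton_iff.2 (by
      have := Subgroup.mem_centralizer_singleton_iff.1 m.2
      show φ (m : H1) * φ k = φ k * φ (m : H1)
      rw [← map_mul, this, map_mul])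

theorem coe_restr (k : H1) (m : Subgroup.centralizer ({k} : Set H1)) :
    ((restr φ k m : Subgroup.centralizer ({φ k} : Set G)) : G) = φ m := rfl

theorem restr_inj (h : One φ) (k : H1) : Function.Injective (restr φ k) := fun a b e =>
  Subtype.ext (h.inj (congrArg Subtype.val e))

theorem mem_restr_range (h : One φ) {k : H1} {b : Subgroup.centralizer ({φ k} : Set G)}
    (hb : (b : G) ∈ φ.range) : ∃ m, restr φ k m = b := by
  obtain ⟨m, hm⟩ := hb
  have hm' : m ∈ Subgroup.centralizer ({k} : Set H1) := by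
    refine Subgroup.mem_centralizer_singleton_iff.2 (h.inj ?_)
    rw [map_mul, map_mul, hm]
    exact Subgroup.mem_centralizer_singleton_iff.1 b.2
  exact ⟨⟨m, hm'⟩, Subtype.ext hm⟩

theorem centIn_of_range (h : One φ) {k : H1} (htop : (restr φ k).range = ⊤) : CentIn φ k := by
  intro g hg
  obtain ⟨m, hm⟩ := MonoidHom.range_eq_top.1 htop ⟨g, Subgroup.mem_centralizer_singleton_iff.2 hg⟩
  exact ⟨m, congrArg Subtype.val hm⟩

theorem eC_mem : eC ∈ lhom.ker ∧ eC ∈ lhom.ker ⊓ chom.ker :=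
  ⟨MonoidHom.mem_ker.2 (by decide +kernel),
    MonoidHom.mem_ker.2 (by decide +kernel), MonoidHom.mem_ker.2 (by decide +kernel)⟩

theorem cC_mem : cC ∈ lhom.ker ⊓ chom.ker :=
  ⟨MonoidHom.mem_ker.2 (by decide +kernel), MonoidHom.mem_ker.2 (by decide +kernel)⟩

theorem xC_mem : xC ∈ lhom.ker ⊓ chom.ker :=
  ⟨MonoidHom.mem_ker.2 (by decide +kernel), MonoidHom.mem_ker.2 (by decide +kernel)⟩

theorem fin3_combo : ∀ a b : Fin 3, ∃ k : Fin 3, a = 0 ∨ (b.val + a.val * k.val) % 3 = 0 := by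
  decide

theorem xH_pow_E1 : ∀ (v w : ZMod 3) (i : Fin 3),
    xH ^ i.val = pEl v w 0 0 0 → xH ^ i.val = 1 := by decide +kernel

variable [Finite G]

/-- The centraliser of `1 + E₁₂` lies in `H`. -/
theorem centIn_xH (h : One φ) (hctl : Ctl φ) : CentIn φ xH := by
  refine centIn_of_range h ?_
  set B := Subgroup.centralizer ({φ xH} : Set G)
  let ψ : xCen →* B := restr φ xH
  show ψ.range = ⊤
  have hψi : Function.Injective ψ := restr_inj h xH
  -- moving `eH` inside `H`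
  have hmove : ∀ g : B, ((g * ψ eC * g⁻¹ : B) : G) ∈ φ.range → g ∈ ψ.range := by
    intro g hg
    exact mem_restr_range h (hctl eH eH_mem_E1 eH_ne.1 g hg)
  have hrange : ∀ b : B, b ∈ ψ.range → (b : G) ∈ φ.range := by
    rintro _ ⟨m, rfl⟩
    exact ⟨m, rfl⟩
  -- the Sylow subgroup
  set P : Subgroup B := lhom.ker.map ψ with hPdef
  have hP9 : ∀ m ∈ lhom.ker, m ^ 3 ^ 2 = 1 := by
    intro m hm
    obtain ⟨v2, v3, b, c, d, e⟩ := mem_ker_lhom hm
    refine Subtype.ext ?_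
    rw [Subgroup.coe_pow, e]
    exact pEl_nine v2 v3 b c d
  have hP : IsPGroup 3 P := by
    refine IsPGroup.map (fun m => ⟨2, Subtype.ext ?_⟩) ψ
    rw [Subgroup.coe_pow]
    exact hP9 _ m.2
  have hrangeP : P ≤ ψ.range := Subgroup.map_le_range _ _
  have hodd : ∀ (m : xCen) (n : ℕ), lhom (m ^ 3 ^ n) = 1 → lhom m = 1 := by
    intro m n hn
    rw [map_pow] at hn
    obtain ⟨k, hk⟩ := (Odd.pow (⟨1, rfl⟩ : Odd 3) : Odd (3 ^ n))
    rwa [hk, pow_succ, pow_mul, pow_two, lhom_sq, one_pow, one_mul] at hn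
  obtain ⟨SP, hSP⟩ : ∃ S : Sylow 3 B, (S : Subgroup B) = P := by
    refine exists_sylow_of_normalizer hP fun x hx n hxn => ?_
    have h1 : x * ψ eC * x⁻¹ ∈ P :=
      (Subgroup.mem_normalizer_iff.1 hx _).1 ⟨eC, eC_mem.1, rfl⟩
    obtain ⟨m, rfl⟩ := hmove x (hrange _ (hrangeP h1))
    refine ⟨m, hodd m n ?_, rfl⟩
    have hm : m ^ 3 ^ n = 1 := hψi (by rw [map_pow, hxn, map_one])
    rw [hm, map_one]
  -- the centre of the Sylow subgroup
  set Z : Subgroup B := P ⊓ Subgroup.centralizer (P : Set B) with hZdef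
  have heZ : ψ eC ∈ Z := by
    refine ⟨⟨eC, eC_mem.1, rfl⟩, ?_⟩
    rintro _ ⟨m, hm, rfl⟩
    obtain ⟨v2, v3, b, c, d, e⟩ := mem_ker_lhom hm
    rw [← map_mul, ← map_mul]
    refine congrArg ψ (Subtype.ext ?_)
    rw [Subgroup.coe_mul, Subgroup.coe_mul, e,
      show ((eC : xCen) : H1) = pEl 1 0 0 0 0 by decide +kernel]
    exact (pEl_center_comm 1 0 v2 v3 b c d).symm
  have hn : ∀ Q : Sylow 3 B, (SP : Subgroup B) ⊓ Subgroup.centralizer (SP : Set B) ≤
      (Q : Subgroup B) → (Q : Subgroup B) ⊓ Subgroup.centralizer (Q : Set B) =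
        (SP : Subgroup B) ⊓ Subgroup.centralizer (SP : Set B) := by
    intro Q hQ
    obtain ⟨g, hg⟩ := MulAction.exists_smul_eq B SP Q
    have h1 : ψ eC ∈ (Q : Subgroup B) := hQ (by rw [← Sylow.coe_coe, hSP]; exact heZ)
    rw [← hg, Sylow.coe_subgroup_smul, Subgroup.mem_pointwise_smul_iff_inv_smul_mem, hSP] at h1
    have h2 : g⁻¹ * ψ eC * g⁻¹⁻¹ ∈ P := by simpa [MulAut.conj_apply] using h1
    obtain ⟨m, hm⟩ := hmove g⁻¹ (hrange _ (hrangeP h2))
    have hgN : g ∈ Subgroup.normalizer ((SP : Subgroup B) : Set B) := by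
      rw [hSP, ← inv_inv g, ← hm, ← map_inv]
      refine Subgroup.le_normalizer_map (f := ψ) ⟨m⁻¹, ?_, rfl⟩
      rw [Subgroup.normalizer_eq_top]
      exact Subgroup.mem_top _
    rw [← hg, Sylow.smul_eq_iff_mem_normalizer.2 hgN]
  have hV : Subgroup.normalizer
      (((SP : Subgroup B) ⊓ Subgroup.centralizer (SP : Set B) : Subgroup B) : Set B) ≤ ψ.range := by
    intro g hg
    rw [← Sylow.coe_coe, hSP] at hg
    exact hmove g (hrange _ (hrangeP ((Subgroup.mem_normalizer_iff.1 hg _).1 heZ).1))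
  have hres := S0078.result SP hn ψ.range hV
  rw [hSP] at hres
  -- the residual
  set B1 := Cfsg.pResidual 3 B with hB1
  set P1 : Subgroup B := (lhom.ker ⊓ chom.ker).map ψ with hP1def
  have hVker : (Cfsg.pResidual 3 ψ.range).map ψ.range.subtype ≤ chom.ker.map ψ := by
    rw [← TransferPResidual.map_pResidual_eq_of_surjective ψ.rangeRestrict
      ψ.rangeRestrict_surjective, Subgroup.map_map, MonoidHom.subtype_comp_rangeRestrict]
    refine Subgroup.map_mono (TransferPResidual.pResidual_le_ker chom ?_)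
    exact IsPGroup.of_card (n := 1) (by simp)
  have hle : P ⊓ B1 ≤ P1 := by
    rw [hres]
    rintro _ ⟨⟨m, hm, rfl⟩, hx⟩
    obtain ⟨m', hm', hmm⟩ := hVker hx
    obtain rfl := hψi hmm
    exact ⟨m', ⟨hm, hm'⟩, rfl⟩
  obtain ⟨i1, i2, i3, i4, i5⟩ := inverted_gens
  have hj : ψ jC ∈ B1 := by
    refine TransferPResidual.mem_pResidual_of_coprime ?_
    have : orderOf (ψ jC) ∣ 2 := orderOf_dvd_of_pow_eq_one (by
      rw [← map_pow, show jC ^ 2 = 1 by decide +kernel, map_one])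
    exact Nat.Coprime.coprime_dvd_left this (by norm_num)
  have hB1n : B1.Normal := inferInstance
  have hgen : ∀ g : xCen, (g : H1) = jH * ((g : H1) * jH⁻¹ * (g : H1)⁻¹) → ψ g ∈ B1 := by
    intro g hg
    have : g = jC * (g * jC⁻¹ * g⁻¹) := Subtype.ext hg
    rw [this, map_mul, map_mul, map_mul, map_inv, map_inv]
    exact B1.mul_mem hj (hB1n.conj_mem _ (B1.inv_mem hj) _)
  have heB : ψ eC ∈ B1 := hgen _ i1
  have hcB : ψ cC ∈ B1 := hgen _ i2
  have hdB : ψ dC ∈ B1 := hgen _ i3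
  have hxB : ψ xC ∈ B1 := by
    rw [show xC = cC * dC * cC⁻¹ * dC⁻¹ from Subtype.ext i4]
    simp only [map_mul, map_inv]
    exact mul_mem (mul_mem (mul_mem hcB hdB) (inv_mem hcB)) (inv_mem hdB)
  have hP1B : P1 ≤ B1 := by
    rintro _ ⟨m, ⟨hm, hm'⟩, rfl⟩
    obtain ⟨v2, v3, b, c, d, e⟩ := mem_ker_lhom hm
    obtain rfl := chom_pEl e hm'
    have : m = eC ^ v2.val * cC ^ c.val * dC ^ d.val * xC ^ (b - c * d).val :=
      Subtype.ext (e.trans (pEl_word v2 b c d))
    rw [this]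
    simp only [map_mul, map_pow]
    exact mul_mem (mul_mem (mul_mem (pow_mem heB _) (pow_mem hcB _)) (pow_mem hdB _))
      (pow_mem hxB _)
  have heP1 : ψ eC ∈ P1 := ⟨eC, eC_mem.2, rfl⟩
  -- the quotient by the central subgroup
  set N : Subgroup B := Subgroup.zpowers (ψ xC) with hNdef
  have hxc : ∀ g : B, g * ψ xC = ψ xC * g := fun g =>
    Subtype.ext (Subgroup.mem_centralizer_singleton_iff.1 g.2)
  have hNc : ∀ n ∈ N, ∀ g : B, g * n = n * g := by
    rintro n ⟨k, rfl⟩ g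
    exact ((show Commute g (ψ xC) from hxc g).zpow_right k).eq
  haveI hNn : N.Normal := ⟨fun n hn g => by rw [hNc n hn g, mul_inv_cancel_right]; exact hn⟩
  have hNP1 : N ≤ P1 := (Subgroup.zpowers_le).2 ⟨xC, xC_mem, rfl⟩
  have hNB : N ≤ B1 := hNP1.trans hP1B
  have hP1r : P1 ≤ ψ.range := Subgroup.map_le_range _ _
  let π := QuotientGroup.mk' N
  have hπs : Function.Surjective π := QuotientGroup.mk'_surjective N
  have hback : ∀ (K : Subgroup B), N ≤ K → ∀ b, π b ∈ K.map π → b ∈ K := by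
    rintro K hK b ⟨k, hk, hkb⟩
    have := K.mul_mem hk (hK (QuotientGroup.eq.1 hkb))
    rwa [mul_inv_cancel_left] at this
  set R : Subgroup (B ⧸ N) := Cfsg.pResidual 3 (B ⧸ N) with hRdef
  have hR : B1.map π = R := TransferPResidual.map_pResidual_eq_of_surjective π hπs
  set Q : Subgroup (B ⧸ N) := P1.map π with hQdef
  have hQR : Q ≤ R := hR ▸ Subgroup.map_mono hP1B
  have hQcube : ∀ q ∈ Q, q ^ 3 = 1 := by
    rintro _ ⟨_, ⟨m, ⟨hm, hm'⟩, rfl⟩, rfl⟩
    obtain ⟨v2, v3, b, c, d, e⟩ := mem_ker_lhom hm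
    obtain rfl := chom_pEl e hm'
    rw [← map_pow, ← map_pow, show m ^ 3 = 1 from Subtype.ext
      (by rw [Subgroup.coe_pow, e]; exact pEl_cube v2 b c d), map_one, map_one]
  have hQcomm : ∀ p ∈ Q, ∀ q ∈ Q, p * q = q * p := by
    rintro _ ⟨_, ⟨m, ⟨hm, hm'⟩, rfl⟩, rfl⟩ _ ⟨_, ⟨m₂, ⟨hn', hn''⟩, rfl⟩, rfl⟩
    obtain ⟨v2, v3, b, c, d, e⟩ := mem_ker_lhom hm
    obtain rfl := chom_pEl e hm'
    obtain ⟨w2, w3, b', c', d', e'⟩ := mem_ker_lhom hn'
    obtain rfl := chom_pEl e' hn''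
    obtain ⟨k, hk⟩ := pEl_comm_mod v2 b c d w2 b' c' d'
    have : m * m₂ = m₂ * m * xC ^ k := Subtype.ext (by
      simp only [Subgroup.coe_mul, Subgroup.coe_pow, e, e']; exact hk)
    rw [← map_mul, ← map_mul, ← map_mul, ← map_mul, this, map_mul _ (m₂ * m), map_mul π _ (ψ _)]
    rw [show π (ψ (xC ^ k)) = 1 from (QuotientGroup.eq_one_iff _).2
      (by rw [map_pow]; exact pow_mem (Subgroup.mem_zpowers _) k), mul_one]
  have hQnorm : ∀ g : B, (∀ q ∈ Q, π g * q * (π g)⁻¹ ∈ Q) → g ∈ ψ.range := by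
    intro g hg
    have := hg (π (ψ eC)) ⟨_, heP1, rfl⟩
    rw [← map_inv, ← map_mul, ← map_mul] at this
    exact hmove g (hrange _ (hP1r (hback P1 hNP1 _ this)))
  have hRmem : ∀ m : xCen, π (ψ m) ∈ R → lhom m = 1 → π (ψ m) ∈ Q := by
    intro m hm hl
    rw [← hR] at hm
    exact ⟨_, hle ⟨⟨m, hl, rfl⟩, hback B1 hNB _ hm⟩, rfl⟩
  have hl_mod : ∀ {a : xCen}, π (ψ a) = 1 → lhom a = 1 := by
    intro a ha
    obtain ⟨b, hb, hab⟩ := hNP1 ((QuotientGroup.eq_one_iff _).1 ha)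
    obtain rfl := hψi hab
    exact hb.1
  -- the Sylow subgroup of the residual
  set Qr : Subgroup R := Q.subgroupOf R with hQrdef
  have hQr : IsPGroup 3 Qr := fun q => ⟨1, Subtype.ext (Subtype.ext (by
    simpa using hQcube _ q.2))⟩
  have hnormR : ∀ y : R, y ∈ Subgroup.normalizer (Qr : Set R) →
      ∃ m, π (ψ m) = (y : B ⧸ N) := by
    intro y hy
    obtain ⟨g, hg⟩ := hπs y
    obtain ⟨m, rfl⟩ := hQnorm g fun q hq => by
      have := (Subgroup.mem_normalizer_iff.1 hy ⟨q, hQR hq⟩).1 hq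
      rw [hg]
      exact this
    exact ⟨m, hg⟩
  obtain ⟨SQ, hSQ⟩ : ∃ S : Sylow 3 R, (S : Subgroup R) = Qr := by
    refine exists_sylow_of_normalizer hQr fun y hy n hyn => ?_
    obtain ⟨m, hm⟩ := hnormR y hy
    refine Subgroup.mem_subgroupOf.2 (hm ▸ hRmem m (hm ▸ y.2) (hodd m n (hl_mod ?_)))
    rw [map_pow, map_pow, hm, ← Subgroup.coe_pow, hyn, Subgroup.coe_one]
  have hab : IsMulCommutative (SQ : Subgroup R) := by
    rw [hSQ]
    exact ⟨⟨fun a b => Subtype.ext (Subtype.ext (hQcomm _ a.2 _ b.2))⟩⟩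
  have hnc : ¬ IsCyclic (SQ : Subgroup R) := by
    rw [hSQ]
    intro hc
    obtain ⟨t, ht⟩ := hc.exists_generator
    have h3 : t ^ 3 = 1 := Subtype.ext (Subtype.ext (by simpa using hQcube _ t.2))
    have hpow : ∀ s : Qr, ∃ k : Fin 3, s = t ^ k.val := fun s => by
      obtain ⟨n, rfl⟩ := mem_powers_iff_mem_zpowers.2 (ht s)
      exact ⟨⟨n % 3, Nat.mod_lt _ (by norm_num)⟩, pow_eq_pow_mod n h3⟩
    obtain ⟨a, ha⟩ := hpow ⟨⟨π (ψ eC), hQR ⟨_, heP1, rfl⟩⟩, ⟨_, heP1, rfl⟩⟩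
    have hc1 : ψ cC ∈ P1 := ⟨cC, cC_mem, rfl⟩
    obtain ⟨b, hb⟩ := hpow ⟨⟨π (ψ cC), hQR ⟨_, hc1, rfl⟩⟩, ⟨_, hc1, rfl⟩⟩
    have ha' : π (ψ eC) = ((t : R) : B ⧸ N) ^ a.val := by
      simpa using congrArg (fun s : Qr => ((s : R) : B ⧸ N)) ha
    have hb' : π (ψ cC) = ((t : R) : B ⧸ N) ^ b.val := by
      simpa using congrArg (fun s : Qr => ((s : R) : B ⧸ N)) hb
    have hmem : ∀ w : xCen, π (ψ w) = 1 → ∃ i : Fin 3, (w : H1) = xH ^ i.val := by
      intro w hw
      obtain ⟨n, hn⟩ := mem_powers_iff_mem_zpowers.2 ((QuotientGroup.eq_one_iff _).1 hw)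
      have := congrArg Subtype.val (hψi (show ψ (xC ^ n) = ψ w by rw [map_pow]; exact hn))
      obtain ⟨i, hi⟩ := xH_pow_mod n
      exact ⟨i, by rw [← this, ← hi]; rfl⟩
    have ht3 : ((t : R) : B ⧸ N) ^ 3 = 1 := hQcube _ t.2
    obtain ⟨k, hk⟩ := fin3_combo a b
    rcases hk with rfl | hk
    · obtain ⟨i, hi⟩ := hmem eC (by rw [ha']; exact pow_zero _)
      exact (x13_mul_eH_notMem 0 i).2.1 hi
    · obtain ⟨i, hi⟩ := hmem (cC * eC ^ k.val) (by
        rw [map_mul, map_mul, map_pow, map_pow, ha', hb', ← pow_mul, ← pow_add,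
          pow_eq_pow_mod _ ht3, hk, pow_zero])
      exact (x13_mul_eH_notMem k i).1 hi
  have hjR : π (ψ jC) ∈ R := hR ▸ ⟨_, hj, rfl⟩
  have hjN : π (ψ jC) ∈ R ∧ ∀ q ∈ Q, π (ψ jC) * q * (π (ψ jC))⁻¹ ∈ Q := by
    refine ⟨hjR, ?_⟩
    rintro _ ⟨_, ⟨m, hm, rfl⟩, rfl⟩
    refine ⟨_, ⟨jC * m * jC⁻¹, ?_, rfl⟩, by simp only [map_mul, map_inv]⟩
    exact ((inferInstance : (lhom.ker ⊓ chom.ker).Normal)).conj_mem m hm jC
  have hidx : ((Subgroup.centralizer ((SQ : Subgroup R) : Set R)).subgroupOf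
      (Subgroup.normalizer ((SQ : Subgroup R) : Set R))).index = 2 := by
    rw [hSQ]
    have hjmem : (⟨_, hjR⟩ : R) ∈ Subgroup.normalizer (Qr : Set R) := by
      refine Subgroup.mem_normalizer_iff.2 fun q => ⟨fun hq => hjN.2 _ hq, fun hq => ?_⟩
      have h1 : π (ψ jC) * (π (ψ jC) * (q : B ⧸ N) * (π (ψ jC))⁻¹) * (π (ψ jC))⁻¹ ∈ Q :=
        hjN.2 _ hq
      have hjj : π (ψ jC) * π (ψ jC) = 1 := by
        rw [← map_mul, ← map_mul, show jC * jC = 1 from Subtype.ext i5, map_one, map_one]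
      rw [show π (ψ jC) * (π (ψ jC) * (q : B ⧸ N) * (π (ψ jC))⁻¹) * (π (ψ jC))⁻¹ =
        (π (ψ jC) * π (ψ jC)) * (q : B ⧸ N) * (π (ψ jC) * π (ψ jC))⁻¹ by group, hjj] at h1
      simpa [Subgroup.mem_subgroupOf, hQrdef] using h1
    have hcent : ∀ (y : Subgroup.normalizer (Qr : Set R)) (m : xCen),
        π (ψ m) = ((y : R) : B ⧸ N) →
        (y ∈ (Subgroup.centralizer (Qr : Set R)).subgroupOf
          (Subgroup.normalizer (Qr : Set R)) ↔ lhom m = 1) := by
      intro y m hm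
      rw [Subgroup.mem_subgroupOf, Subgroup.mem_centralizer_iff]
      constructor
      · intro hy
        by_contra hl
        have hjl : lhom (jC * m) = 1 := by
          have h2 : lhom m = -1 := by
            have h3 := lhom_sq m
            revert h3 hl
            generalize lhom m = l
            revert l
            decide +kernel
          rw [map_mul, h2]
          decide +kernel
        have hq : π (ψ (jC * m)) ∈ Q := hRmem _ (by
          rw [map_mul, map_mul, hm]; exact mul_mem hjR (y : R).2) hjl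
        have hcQ : π (ψ cC) ∈ Q := ⟨_, ⟨cC, cC_mem, rfl⟩, rfl⟩
        have h1 := congrArg (fun r : R => (r : B ⧸ N)) (hy ⟨π (ψ cC), hQR hcQ⟩ hcQ)
        simp only [Subgroup.coe_mul, ← hm] at h1
        have h2 := hQcomm _ hcQ _ hq
        rw [map_mul, map_mul] at h2
        have h4 : π (ψ jC) * π (ψ cC) * (π (ψ jC))⁻¹ * (π (ψ cC))⁻¹ = 1 := by
          rw [mul_inv_eq_one, mul_inv_eq_iff_eq_mul]
          calc π (ψ jC) * π (ψ cC)
              = π (ψ jC) * (π (ψ cC) * π (ψ m)) * (π (ψ m))⁻¹ := by group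
            _ = π (ψ jC) * π (ψ m) * π (ψ cC) * (π (ψ m))⁻¹ := by rw [h1]; group
            _ = π (ψ cC) * π (ψ jC) := by rw [← h2]; group
        simp only [← map_inv, ← map_mul] at h4
        obtain ⟨n, hn⟩ := mem_powers_iff_mem_zpowers.2 ((QuotientGroup.eq_one_iff _).1 h4)
        have := congrArg Subtype.val (hψi
          (show ψ (xC ^ n) = ψ (jC * cC * jC⁻¹ * cC⁻¹) by rw [map_pow]; exact hn))
        obtain ⟨i, hi⟩ := xH_pow_mod n
        exact (x13_mul_eH_notMem 0 i).2.2 (by rw [← hi]; exact this.symm)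
      · intro hl q hq
        refine Subtype.ext ?_
        rw [Subgroup.coe_mul, Subgroup.coe_mul, ← hm]
        exact hQcomm _ hq _ (hRmem m (hm ▸ (y : R).2) hl)
    rw [Subgroup.index_eq_two_iff]
    refine ⟨⟨_, hjmem⟩, fun y => ?_⟩
    obtain ⟨m, hm⟩ := hnormR y y.2
    rw [hcent y m hm, hcent (y * ⟨_, hjmem⟩) (m * jC) (by
      rw [map_mul, map_mul, hm]; rfl), map_mul]
    have hjl : lhom jC = -1 := by decide +kernel
    rw [hjl]
    have h3 := lhom_sq m
    revert h3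
    generalize lhom m = l
    revert l
    decide +kernel
  have hRtop : Cfsg.pResidual 3 R = ⊤ := TransferPResidual.pResidual_pResidual
  have hlen : Cfsg.PLengthLE 3 1 R :=
    (S3347.result 3 (by norm_num) SQ hab hnc hidx).resolve_left (fun hne => hne hRtop)
  -- the core of the residual is trivial
  set O : Subgroup (B ⧸ N) := (Cfsg.pPrimeCore 3 R).map R.subtype with hOdef
  haveI : (Cfsg.pPrimeCore 3 R).Characteristic := HallCore.pPrimeCore_characteristic 3 R
  haveI hOn : O.Normal := inferInstance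
  have hOc : (Nat.card O).Coprime 3 := by
    rw [hOdef, Subgroup.card_map_of_injective R.subtype_injective]
    exact HallCore.coprime_card_pPrimeCore 3 R
  have hQO : ∀ q ∈ Q, q ∈ O → q = 1 := by
    intro q hq hqO
    rw [← orderOf_eq_one_iff]
    exact Nat.eq_one_of_dvd_coprimes hOc.symm (orderOf_dvd_of_pow_eq_one (hQcube q hq))
      (Subgroup.orderOf_dvd_natCard _ hqO)
  set A : Subgroup (B ⧸ N) :=
    ((((E1.subgroupOf H1).subgroupOf xCen).map ψ)).map π with hAdef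
  have hAcomm : IsMulCommutative A := by
    refine ⟨⟨?_⟩⟩
    rintro ⟨_, ⟨_, ⟨m, hm, rfl⟩, rfl⟩⟩ ⟨_, ⟨_, ⟨m₂, hm', rfl⟩, rfl⟩⟩
    refine Subtype.ext ?_
    show π (ψ m) * π (ψ m₂) = π (ψ m₂) * π (ψ m)
    obtain ⟨a, b, e⟩ := E1_inf_xCen (g := m) hm
    obtain ⟨a', b', e'⟩ := E1_inf_xCen (g := m₂) hm'
    have : m * m₂ = m₂ * m := Subtype.ext (by
      rw [Subgroup.coe_mul, Subgroup.coe_mul, e, e']; exact (pEl_E1_comm a b a' b').1)
    rw [← map_mul, ← map_mul, this, map_mul, map_mul]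
  have hAcube : ∀ a ∈ A, a ^ 3 = 1 := by
    rintro _ ⟨_, ⟨m, hm, rfl⟩, rfl⟩
    obtain ⟨v, w, e⟩ := E1_inf_xCen (g := m) hm
    rw [← map_pow, ← map_pow, show m ^ 3 = 1 from Subtype.ext
      (by rw [Subgroup.coe_pow, e]; exact (pEl_E1_comm v w v w).2), map_one, map_one]
  have hAinj : ∀ m : xCen, ((m : H1) : L4) ∈ E1 → π (ψ m) = 1 → m = 1 := by
    intro m hmE hm
    obtain ⟨n, hn⟩ := mem_powers_iff_mem_zpowers.2 ((QuotientGroup.eq_one_iff _).1 hm)
    have h1 := congrArg Subtype.val (hψi (show ψ (xC ^ n) = ψ m by rw [map_pow]; exact hn))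
    obtain ⟨v, w, e⟩ := E1_inf_xCen hmE
    obtain ⟨i, hi⟩ := xH_pow_mod n
    refine Subtype.ext ?_
    rw [Subgroup.coe_pow, show ((xC : xCen) : H1) = xH from rfl, hi] at h1
    rw [← h1] at e ⊢
    exact xH_pow_E1 v w i e
  have hAnc : ¬ IsCyclic A := by
    intro hc
    obtain ⟨t, ht⟩ := hc.exists_generator
    have h3 : t ^ 3 = 1 := Subtype.ext (by simpa using hAcube _ t.2)
    have hpow : ∀ s : A, ∃ k : Fin 3, s = t ^ k.val := fun s => by
      obtain ⟨n, rfl⟩ := mem_powers_iff_mem_zpowers.2 (ht s)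
      exact ⟨⟨n % 3, Nat.mod_lt _ (by norm_num)⟩, pow_eq_pow_mod n h3⟩
    have he : π (ψ eC) ∈ A := ⟨_, ⟨eC, eH_mem_E1, rfl⟩, rfl⟩
    have hz : π (ψ zC) ∈ A := ⟨_, ⟨zC, zH_mem_E1, rfl⟩, rfl⟩
    obtain ⟨a, ha⟩ := hpow ⟨_, he⟩
    obtain ⟨b, hb⟩ := hpow ⟨_, hz⟩
    have ha' : π (ψ eC) = (t : B ⧸ N) ^ a.val := by simpa using congrArg Subtype.val ha
    have hb' : π (ψ zC) = (t : B ⧸ N) ^ b.val := by simpa using congrArg Subtype.val hb
    obtain ⟨k, hk⟩ := fin3_combo a b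
    rcases hk with rfl | hk
    · refine eH_ne.1 (congrArg Subtype.val (hAinj eC eH_mem_E1 ?_))
      rw [ha']
      exact pow_zero _
    · have hmE : (((zC * eC ^ k.val : xCen) : H1) : L4) ∈ E1 := by
        simp only [Subgroup.coe_mul, Subgroup.coe_pow]
        exact mul_mem zH_mem_E1 (pow_mem eH_mem_E1 _)
      have h1 := hAinj _ hmE (by
        rw [map_mul, map_mul, map_pow, map_pow, ha', hb', ← pow_mul, ← pow_add,
          pow_eq_pow_mod _ (hAcube _ t.2), hk, pow_zero])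
      have h2 : zH * eH ^ k.val = 1 := congrArg Subtype.val h1
      revert h2
      clear hk hmE h1
      revert k
      decide +kernel
  have hOr : O ≤ ψ.range.map π := by
    refine CoprimeGen.le_of_centralizers hAnc
      (by rw [Subgroup.normalizer_eq_top]; exact le_top) ?_ ?_
    · obtain ⟨n, hn⟩ := IsPGroup.iff_card.1 (show IsPGroup 3 A from
        fun a => ⟨1, Subtype.ext (by simpa using hAcube _ a.2)⟩)
      rw [hn]
      exact Nat.Coprime.pow_left _ hOc.symm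
    · rintro _ ⟨_, ⟨m, hm, rfl⟩, rfl⟩ hne x ⟨-, hx⟩
      obtain ⟨g, rfl⟩ := hπs x
      refine ⟨g, ?_, rfl⟩
      have hm1 : (m : H1) ≠ 1 := fun e => hne (by
        rw [show m = 1 from Subtype.ext e, map_one, map_one])
      have h1 := Subgroup.mem_centralizer_singleton_iff.1 hx
      have h2 : π (g * ψ m * g⁻¹) = π (ψ m) := by
        rw [map_mul, map_mul, map_inv, h1, mul_inv_cancel_right]
      have h3 : g * ψ m * g⁻¹ ∈ ψ.range := by
        refine hback _ (hNP1.trans hP1r) _ ?_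
        rw [h2]
        exact ⟨_, ⟨m, rfl⟩, rfl⟩
      exact mem_restr_range h (hctl (m : H1) hm hm1 g (hrange _ h3))
  have hO1 : O = ⊥ := by
    rw [Subgroup.eq_bot_iff_forall]
    intro o ho
    obtain ⟨_, ⟨m, rfl⟩, rfl⟩ := hOr ho
    have hoR : π (ψ m) ∈ R := by
      obtain ⟨r, -, hr⟩ := ho
      exact hr ▸ r.2
    have hcen : ∀ q ∈ Q, π (ψ m) * q = q * π (ψ m) := by
      rintro _ ⟨_, ⟨m', hm', rfl⟩, rfl⟩
      rw [← commutatorElement_eq_one_iff_mul_comm, commutatorElement_def]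
      refine hQO _ ?_ ?_
      · refine mul_mem ⟨_, ⟨m * m' * m⁻¹,
          ((inferInstance : (lhom.ker ⊓ chom.ker).Normal)).conj_mem m' hm' m, rfl⟩, ?_⟩
          (inv_mem ⟨_, ⟨m', hm', rfl⟩, rfl⟩)
        simp only [map_mul, map_inv]
      · rw [mul_assoc, mul_assoc]
        refine mul_mem ho ?_
        rw [← mul_assoc]
        exact hOn.conj_mem _ (inv_mem ho) _
    have hcQ : π (ψ cC) ∈ Q := ⟨_, ⟨cC, cC_mem, rfl⟩, rfl⟩
    have hl : lhom m = 1 := by
      by_contra hl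
      have hjl : lhom (jC * m) = 1 := by
        have h2 : lhom m = -1 := by
          have h3 := lhom_sq m
          revert h3 hl
          generalize lhom m = l
          revert l
          decide +kernel
        rw [map_mul, h2]
        decide +kernel
      have hq : π (ψ (jC * m)) ∈ Q := hRmem _ (by
        rw [map_mul, map_mul]; exact mul_mem hjR hoR) hjl
      have h1 := hcen _ hcQ
      have h2 := hQcomm _ hcQ _ hq
      rw [map_mul, map_mul] at h2
      have h4 : π (ψ jC) * π (ψ cC) * (π (ψ jC))⁻¹ * (π (ψ cC))⁻¹ = 1 := by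
        rw [mul_inv_eq_one, mul_inv_eq_iff_eq_mul]
        calc π (ψ jC) * π (ψ cC)
            = π (ψ jC) * (π (ψ cC) * π (ψ m)) * (π (ψ m))⁻¹ := by group
          _ = π (ψ jC) * π (ψ m) * π (ψ cC) * (π (ψ m))⁻¹ := by rw [← h1]; group
          _ = π (ψ cC) * π (ψ jC) := by rw [← h2]; group
      simp only [← map_inv, ← map_mul] at h4
      obtain ⟨n, hn⟩ := mem_powers_iff_mem_zpowers.2 ((QuotientGroup.eq_one_iff _).1 h4)
      have := congrArg Subtype.val (hψi
        (show ψ (xC ^ n) = ψ (jC * cC * jC⁻¹ * cC⁻¹) by rw [map_pow]; exact hn))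
      obtain ⟨i, hi⟩ := xH_pow_mod n
      exact (x13_mul_eH_notMem 0 i).2.2 (by rw [← hi]; exact this.symm)
    exact hQO _ (hRmem m hoR hl) ho
  have hcore : Cfsg.pPrimeCore 3 R = ⊥ :=
    (Subgroup.map_eq_bot_iff_of_injective _ R.subtype_injective).1 hO1
  -- the residual lies in `H`
  have hB1r : B1 ≤ ψ.range := by
    intro g hg
    refine hQnorm g fun q hq => ?_
    have hgR : π g ∈ R := hR ▸ ⟨g, hg, rfl⟩
    obtain ⟨n, hn, o, ho, hno⟩ := PLengthOne.exists_normalizer_mul hlen SQ ⟨π g, hgR⟩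
    rw [hcore, Subgroup.mem_bot] at ho
    rw [ho, mul_one] at hno
    rw [hSQ, hno] at hn
    exact (Subgroup.mem_normalizer_iff.1 hn ⟨q, hQR hq⟩).1 hq
  have := TransferPResidual.sup_pResidual_eq_top_of_sylow_le SP (K := ψ.range) (hSP ▸ hrangeP)
  rwa [sup_of_le_left hB1r] at this

/-- The centraliser of the regular element lies in `H`. -/
theorem centIn_nH (h : One φ) (hctl : Ctl φ) (hx : CentIn φ xH) : CentIn φ nH := by
  refine centIn_of_range h ?_
  set Y := Subgroup.centralizer ({φ nH} : Set G)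
  let ψ : nCen →* Y := restr φ nH
  show ψ.range = ⊤
  have hP : IsPGroup 3 ψ.range := by
    rintro ⟨_, m, rfl⟩
    obtain ⟨x, w, u, e⟩ := mem_nCen m
    refine ⟨2, Subtype.ext ?_⟩
    rw [Subgroup.coe_pow, Subgroup.coe_one]
    show ψ m ^ 3 ^ 2 = 1
    rw [← map_pow, show m ^ 3 ^ 2 = 1 from Subtype.ext (by
      rw [Subgroup.coe_pow, e]; exact uEl_nine x w u), map_one]
  have hz : zH ∈ nCen := Subgroup.mem_centralizer_singleton_iff.2 commute_nH
  have hN : ∀ y ∈ Subgroup.normalizer (ψ.range : Set Y), y ∈ ψ.range := by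
    intro y hy
    obtain ⟨m, hm⟩ := (Subgroup.mem_normalizer_iff.1 hy _).1 ⟨⟨zH, hz⟩, rfl⟩
    exact mem_restr_range h (hctl zH zH_mem_E1 zH_ne y ⟨m, congrArg Subtype.val hm⟩)
  obtain ⟨S, hS⟩ := exists_sylow_of_normalizer hP fun y hy _ _ => hN y hy
  have hNC : Subgroup.normalizer ((S : Subgroup Y) : Set Y) ≤
      Subgroup.centralizer ((S : Subgroup Y) : Set Y) := by
    rw [hS]
    intro y hy
    obtain ⟨a, rfl⟩ := hN y hy
    rintro _ ⟨b, rfl⟩
    rw [← map_mul, nCen_comm, map_mul]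
  have hc := MonoidHom.ker_transferSylow_isComplement' S hNC
  set K := (MonoidHom.transferSylow S hNC).ker with hKdef
  haveI : K.Normal := MonoidHom.normal_ker _
  have hK3 : (Nat.card K).Coprime 3 := by
    rw [← hc.index_eq_card]
    exact ((Nat.Prime.coprime_iff_not_dvd Nat.prime_three).2 S.not_dvd_index).symm
  let α : Multiplicative (ZMod 3 × ZMod 3) →* Y := ψ.comp planeHom
  have hαi : Function.Injective α := (restr_inj h nH).comp planeHom_injective
  have hKr : K ≤ ψ.range := by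
    haveI : IsMulCommutative α.range := by
      refine ⟨⟨?_⟩⟩
      rintro ⟨_, a, rfl⟩ ⟨_, b, rfl⟩
      exact Subtype.ext (show α a * α b = α b * α a by rw [← map_mul, mul_comm, map_mul])
    refine CoprimeGen.le_of_centralizers (A := α.range) ?_
      (by rw [Subgroup.normalizer_eq_top]; exact le_top) ?_ ?_
    · intro hc'
      haveI := hc'
      haveI : IsCyclic (Multiplicative (ZMod 3 × ZMod 3)) :=
        isCyclic_of_surjective (MonoidHom.ofInjective hαi).symm
          (MonoidHom.ofInjective hαi).symm.surjective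
      have h1 := IsCyclic.exponent_eq_card (α := Multiplicative (ZMod 3 × ZMod 3))
      have h2 : Monoid.exponent (Multiplicative (ZMod 3 × ZMod 3)) ∣ 3 :=
        Monoid.exponent_dvd_of_forall_pow_eq_one (by decide +kernel)
      have h3 : Nat.card (Multiplicative (ZMod 3 × ZMod 3)) = 9 := by
        rw [Nat.card_congr Multiplicative.toAdd, Nat.card_prod, Nat.card_zmod]
      rw [h1, h3] at h2
      exact absurd h2 (by norm_num)
    · rw [← Nat.card_congr (MonoidHom.ofInjective hαi).toEquiv,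
        Nat.card_congr Multiplicative.toAdd, Nat.card_prod, Nat.card_zmod]
      exact (Nat.Coprime.mul_left hK3.symm hK3.symm)
    · rintro _ ⟨v, rfl⟩ hne g ⟨-, hg⟩
      refine mem_restr_range h ?_
      have hne' : uEl 0 0 v.toAdd.1 0 v.toAdd.2 0 ≠ 1 := fun e => hne (by
        show ψ (planeHom v) = 1
        rw [show planeHom v = 1 from Subtype.ext e, map_one])
      have hcom : (g : G) * φ (uEl 0 0 v.toAdd.1 0 v.toAdd.2 0) =
          φ (uEl 0 0 v.toAdd.1 0 v.toAdd.2 0) * g :=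
        congrArg Subtype.val (Subgroup.mem_centralizer_singleton_iff.1 hg)
      rcases plane_cases hne' with hw | hE
      · obtain ⟨k, hk⟩ := plane_conj (x := v.toAdd.1) hw
        rw [hk] at hcom
        exact hx.conj k _ hcom
      · exact centIn_E1 hctl hE hne' _ hcom
  have hbot : K = ⊥ := by
    have := hc.disjoint
    rw [hS, disjoint_iff] at this
    rwa [inf_eq_left.2 hKr] at this
  have htop := hc.sup_eq_top
  rwa [hbot, bot_sup_eq, hS] at htop

theorem centIn_piH (hn : CentIn φ nH) : CentIn φ piH := by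
  obtain ⟨k, hk⟩ := piH_conj
  rw [hk]
  exact hn.conj k

theorem centIn_x13 (hx : CentIn φ xH) : CentIn φ x13 := by
  obtain ⟨k, hk⟩ := x13_conj
  rw [hk]
  exact hx.conj k

end Cfsg.Agent.L43Three45.Isolated1
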