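import Cfsg.Agent.Lib.L43Isolated1FinModel
import Cfsg.Agent.Lib.L43Isolated1Local

/-!
The centraliser of the involution lies in the first parabolic (isolated case of S3373).
-/

set_option autoImplicit false
set_option linter.style.haveILetI false
set_option maxHeartbeats 1000000

open scoped commutatorElement

namespace Cfsg.Agent.L43Three45.Isolated1

local instance : Fact (Nat.Prime 3) := ⟨Nat.prime_three⟩

variable {G : Type*} [Group G] {φ : H1 →* G} {R : Subgroup G}

theorem mem_D_of_mem_jCen {g : H1} (hg : g ∈ jCen) :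
    φ g ∈ Subgroup.centralizer ({φ jH} : Set G) := by
  refine Subgroup.mem_centralizer_singleton_iff.2 ?_
  rw [← map_mul, ← map_mul, Subgroup.mem_centralizer_singleton_iff.1 hg]

/-- Conjugation by a member of `jCen` on the core. -/
def conjR (hR : InvR φ R) (g : jCen) : MulAut R :=
  Subgroup.normalizerMonoidHom R ⟨φ g, hR.norm (mem_D_of_mem_jCen g.2)⟩

theorem coe_conjR (hR : InvR φ R) (g : jCen) (r : R) :
    ((conjR hR g r : R) : G) = φ g * r * (φ g)⁻¹ := rfl

theorem jH_mem_core (hR : InvR φ R) : φ jH ∈ R := hR.q8 _ (by decide +kernel)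

/-- The central subgroup of order two of the core. -/
def cenZ (hR : InvR φ R) : Subgroup R := Subgroup.zpowers ⟨φ jH, jH_mem_core hR⟩

theorem cenZ_central (hR : InvR φ R) : cenZ hR ≤ Subgroup.center R :=
  Subgroup.zpowers_le.2 (Subgroup.mem_center_iff.2 fun r => Subtype.ext
    (Subgroup.mem_centralizer_singleton_iff.1 (hR.le r.2)))

theorem cenZ_normal (hR : InvR φ R) : (cenZ hR).Normal :=
  ⟨fun n hn g => by
    rw [Subgroup.mem_center_iff.1 (cenZ_central hR hn) g, mul_inv_cancel_right]; exact hn⟩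

theorem mem_cenZ (hR : InvR φ R) {r : R} :
    r ∈ cenZ hR ↔ (r : G) = 1 ∨ (r : G) = φ jH := by
  have hj : φ jH * φ jH = 1 := by
    rw [← map_mul, show jH * jH = 1 by decide +kernel, map_one]
  constructor
  · rintro ⟨k, rfl⟩
    have hz : ((⟨φ jH, jH_mem_core hR⟩ : R) ^ k : R).1 = φ jH ^ k := SubgroupClass.coe_zpow _ _
    rcases Int.even_or_odd' k with ⟨m, rfl | rfl⟩
    · refine Or.inl (hz.trans ?_)
      rw [zpow_mul, zpow_two, hj, one_zpow]
    · refine Or.inr (hz.trans ?_)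
      rw [zpow_add, zpow_mul, zpow_two, hj, one_zpow, one_mul, zpow_one]
  · rintro (h | h)
    · rw [show r = 1 from Subtype.ext h]; exact one_mem _
    · rw [show r = ⟨φ jH, jH_mem_core hR⟩ from Subtype.ext h]; exact Subgroup.mem_zpowers _

theorem conjR_cenZ (hR : InvR φ R) (g : jCen) {r : R} (hr : r ∈ cenZ hR) : conjR hR g r = r := by
  refine Subtype.ext ?_
  rw [coe_conjR]
  have hg := Subgroup.mem_centralizer_singleton_iff.1 (mem_D_of_mem_jCen (φ := φ) g.2)
  rcases (mem_cenZ hR).1 hr with e | e <;> rw [e]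
  · group
  · rw [hg, mul_inv_cancel_right]

theorem conjR_cube (hR : InvR φ R) {g : jCen} (hg : (g : H1) ^ 3 = 1) (r : R) :
    conjR hR g (conjR hR g (conjR hR g r)) = r := by
  refine Subtype.ext ?_
  simp only [coe_conjR]
  have e : φ g * φ g * φ g = 1 := by
    rw [← map_mul, ← map_mul, show (g : H1) * g * g = 1 by rw [← hg, pow_succ, pow_two], map_one]
  calc φ g * (φ g * (φ g * (r : G) * (φ g)⁻¹) * (φ g)⁻¹) * (φ g)⁻¹
      = (φ g * φ g * φ g) * (r : G) * (φ g * φ g * φ g)⁻¹ := by group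
    _ = r := by rw [e]; group

/-- An automorphism of order three fixing an element modulo the centre of order two fixes it. -/
theorem conjR_fix (hR : InvR φ R) {g : jCen} (hg : (g : H1) ^ 3 = 1) {r : R}
    (h : r⁻¹ * conjR hR g r ∈ cenZ hR) : φ g * r = r * φ g := by
  generalize hz : r⁻¹ * conjR hR g r = z at h
  have e1 : conjR hR g r = r * z := by rw [← hz, mul_inv_cancel_left]
  have e3 := conjR_cube hR hg r
  rw [e1, map_mul, e1, conjR_cenZ hR g h, map_mul, map_mul, e1, conjR_cenZ hR g h] at e3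
  have e3' : z * z * z = 1 := by
    calc z * z * z = r⁻¹ * (r * z * z * z) := by group
      _ = 1 := by rw [e3, inv_mul_cancel]
  have e2 : z * z = 1 := by
    rcases (mem_cenZ hR).1 h with e | e
    · rw [show z = 1 from Subtype.ext e, mul_one]
    · refine Subtype.ext ?_
      rw [Subgroup.coe_mul, e, ← map_mul, show jH * jH = 1 by decide +kernel, map_one]
      rfl
  rw [e2, one_mul] at e3'
  rw [e3', mul_one] at e1
  have := congrArg Subtype.val e1
  rw [coe_conjR] at this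
  exact mul_inv_eq_iff_eq_mul.1 this

/-- Centralising the four group. -/
def InT (φ : H1 →* G) (x : G) : Prop := x * φ jH = φ jH * x ∧ x * φ jP = φ jP * x

theorem core_comm (hR : InvR φ R) {r : G} (hr : r ∈ R) : r * φ jH = φ jH * r :=
  Subgroup.mem_centralizer_singleton_iff.1 (hR.le hr)

theorem jP_mem_jCen : jP ∈ jCen :=
  Subgroup.mem_centralizer_singleton_iff.2 (by decide +kernel)

theorem map_jP_jP : φ jP * φ jP = 1 := by
  rw [← map_mul, show jP * jP = 1 by decide +kernel, map_one]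

theorem map_jH_jH : φ jH * φ jH = 1 := by
  rw [← map_mul, show jH * jH = 1 by decide +kernel, map_one]

theorem InT.split (hR : InvR φ R) {x : G} (hT : InT φ x) : x ∈ R ∨ φ jP * x ∈ R := by
  obtain ⟨hxj, hxP⟩ := hT
  obtain ⟨hpP, hpH, hpx, hpP', hp3, hpw, hAP, hPA, h21, h21m, hzm, hxm, hPH, hQj, hQA, hQB, hnQ,
    hnP, h13, hP2, hH2, hBz⟩ := fin_named
  have hjR := jH_mem_core hR
  have hPm := jP_mem_jCen
  obtain ⟨n, hn, r, hr, rfl⟩ := hR.frat x (Subgroup.mem_centralizer_singleton_iff.2 hxj)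
  have hk : φ (n⁻¹ * jP * n * jP) ∈ R := by
    have h1 : r * (φ jP * r⁻¹ * (φ jP)⁻¹) ∈ R :=
      R.mul_mem hr ((Subgroup.mem_normalizer_iff.1 (hR.norm (mem_D_of_mem_jCen hPm)) _).1
        (R.inv_mem hr))
    have hPinv : (φ jP)⁻¹ = φ jP := by
      rw [← map_inv, inv_eq_of_mul_eq_one_right hP2]
    convert h1 using 1
    calc φ (n⁻¹ * jP * n * jP)
        = (φ n)⁻¹ * (φ jP * (φ n * r)) * r⁻¹ * φ jP := by simp only [map_mul, map_inv]; group
      _ = (φ n)⁻¹ * (φ n * r * φ jP) * r⁻¹ * φ jP := by rw [hxP]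
      _ = r * (φ jP * r⁻¹ * (φ jP)⁻¹) := by rw [hPinv]; group
  have hq := hR.inH _ hk
  obtain ⟨a, b, hab⟩ := q8_word _ hq.1 hq
  have hV : IsV n := fin_T n hn.1 hn a b (by rw [← hab]; group)
  rcases hV with rfl | rfl | rfl | rfl
  · exact Or.inl (by rw [map_one, one_mul]; exact hr)
  · exact Or.inl (R.mul_mem hjR hr)
  · refine Or.inr ?_
    rw [← mul_assoc, ← map_mul, hP2, map_one, one_mul]
    exact hr
  · refine Or.inr ?_
    rw [← mul_assoc, ← map_mul, ← mul_assoc, hP2, one_mul]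
    exact R.mul_mem hjR hr

theorem InT.conj {x : G} (hT : InT φ x) : InT φ ((φ piH)⁻¹ * x * φ piH) := by
  obtain ⟨hxj, hxP⟩ := hT
  obtain ⟨hpP, hpH, hpx, hpP', hp3, hpw, hAP, hPA, h21, h21m, hzm, hxm, hPH, hQj, hQA, hQB, hnQ,
    hnP, h13, hP2, hH2, hBz⟩ := fin_named
  have c1 : ∀ g : H1, x * φ g = φ g * x →
      (φ piH)⁻¹ * x * φ piH * φ (piH⁻¹ * g * piH) =
        φ (piH⁻¹ * g * piH) * ((φ piH)⁻¹ * x * φ piH) := by
    intro g hg
    simp only [map_mul, map_inv]
    calc (φ piH)⁻¹ * x * φ piH * ((φ piH)⁻¹ * φ g * φ piH)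
        = (φ piH)⁻¹ * (x * φ g) * φ piH := by group
      _ = _ := by rw [hg]; group
  have a1 := c1 jP hxP
  have a2 := c1 jH hxj
  rw [hpP] at a1
  rw [hpH] at a2
  refine ⟨a1, ?_⟩
  have e : jP = (jP * jH) * jH := by rw [mul_assoc, hH2, mul_one]
  rw [e, map_mul, ← mul_assoc, a2, mul_assoc, a1, ← mul_assoc]

theorem exists_conjQ (hR : InvR φ R) [(cenZ hR).Normal] (s : jCen) :
    ∃ θ : (R ⧸ cenZ hR) ≃* (R ⧸ cenZ hR),
      ∀ a : R, θ (QuotientGroup.mk a) = QuotientGroup.mk (conjR hR s a) := by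
  have hmap : (cenZ hR).map (conjR hR s).toMonoidHom = cenZ hR := by
    ext n
    constructor
    · rintro ⟨a, ha, rfl⟩
      show conjR hR s a ∈ _
      rw [conjR_cenZ hR s ha]; exact ha
    · exact fun hn => ⟨n, hn, conjR_cenZ hR s hn⟩
  exact ⟨QuotientGroup.congr _ _ (conjR hR s) hmap, fun _ => rfl⟩

theorem centIn_x21 (hx : CentIn φ xH) : CentIn φ x21 := by
  obtain ⟨k, hk⟩ := x13_conj
  have hpx : piH⁻¹ * x13 * piH = x21 := fin_named.2.2.1
  rw [← hpx, show piH⁻¹ * x13 * piH = piH⁻¹ * k * xH * (piH⁻¹ * k)⁻¹ by rw [hk]; group]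
  exact hx.conj _

/-- The product over a line lies in `⟨jP⟩`. -/
theorem line_product [Finite G] (h : One φ) (hx : CentIn φ xH) (hR : InvR φ R) {f : G}
    (hfR : (φ piH)⁻¹ * f * φ piH ∈ R) :
    f * (φ x13 * f * (φ x13)⁻¹) * (φ x13 * (φ x13 * f * (φ x13)⁻¹) * (φ x13)⁻¹) = 1 ∨
      f * (φ x13 * f * (φ x13)⁻¹) * (φ x13 * (φ x13 * f * (φ x13)⁻¹) * (φ x13)⁻¹) = φ jP := by
  obtain ⟨hpP, hpH, hpx, hpP', hp3, hpw, hAP, hPA, h21, h21m, hzm, hxm, hPH, hQj, hQA, hQB, hnQ,
    hnP, h13, hP2, hH2, hBz⟩ := fin_named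
  let s : jCen := ⟨x21, h21m⟩
  let r : R := ⟨_, hfR⟩
  haveI := cenZ_normal hR
  obtain ⟨θ, hθ⟩ := exists_conjQ hR s
  have hfpf : ∀ t, θ t = t → t = 1 := by
    intro t ht
    induction t using QuotientGroup.induction_on with
    | _ a =>
      rw [hθ, eq_comm, QuotientGroup.eq] at ht
      have hc := conjR_fix hR (g := s) h21 ht
      have hci := centIn_x21 hx
      obtain ⟨m, hm⟩ := hci (a : G) hc.symm
      have hq := hR.inH m (hm ▸ a.2)
      have hcm : m * x21 = x21 * m := h.inj (by rw [map_mul, map_mul, hm]; exact hc.symm)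
      refine (QuotientGroup.eq_one_iff a).2 ((mem_cenZ hR).2 ?_)
      rcases (q8_fin m hq.1 hq).2.1 hcm with rfl | rfl
      · exact Or.inl (hm.symm.trans (map_one φ))
      · exact Or.inr hm.symm
  have hθ3 : ∀ t, θ (θ (θ t)) = t := by
    intro t
    induction t using QuotientGroup.induction_on with
    | _ a => rw [hθ, hθ, hθ, conjR_cube hR (g := s) h21]
  have hn := norm_eq_one θ hfpf hθ3 (QuotientGroup.mk r)
  rw [hθ, hθ, ← QuotientGroup.mk_mul, ← QuotientGroup.mk_mul, QuotientGroup.eq_one_iff] at hn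
  have e13 : φ x13 = φ piH * φ x21 * (φ piH)⁻¹ := by
    rw [← hpx]; simp only [map_mul, map_inv]; group
  have eP : φ piH * φ jH * (φ piH)⁻¹ = φ jP := by
    rw [← hpP]; simp only [map_mul, map_inv]; group
  have hc : f * (φ x13 * f * (φ x13)⁻¹) * (φ x13 * (φ x13 * f * (φ x13)⁻¹) * (φ x13)⁻¹) =
      φ piH * ((r * conjR hR s r * conjR hR s (conjR hR s r) : R) : G) * (φ piH)⁻¹ := by
    simp only [Subgroup.coe_mul, coe_conjR, e13]
    show _ = φ piH * (((φ piH)⁻¹ * f * φ piH) *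
      (φ x21 * ((φ piH)⁻¹ * f * φ piH) * (φ x21)⁻¹) *
      (φ x21 * (φ x21 * ((φ piH)⁻¹ * f * φ piH) * (φ x21)⁻¹) * (φ x21)⁻¹)) * (φ piH)⁻¹
    group
  rcases (mem_cenZ hR).1 hn with e | e
  · exact Or.inl (by rw [hc, e]; group)
  · exact Or.inr (by rw [hc, e, eP])

/-- An involution of the conjugate core centralising a large group lies in `H`. -/
theorem inv_mem_range [Finite G] (h : One φ) (hx : CentIn φ xH) (hR : InvR φ R) {f : G}
    (hf : f * f = 1) (hfR : (φ piH)⁻¹ * f * φ piH ∈ R)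
    (hfP : f * φ jP = φ jP * f) (hfB : f * φ iB = φ iB * f) : f ∈ φ.range := by
  have hline := line_product h hx hR hfR
  have hP2 : jP * jP = 1 := by decide +kernel
  generalize hb : φ x13 * f * (φ x13)⁻¹ = b at hline
  generalize hc : φ x13 * b * (φ x13)⁻¹ = c at hline
  have hb2 : b * b = 1 := by
    rw [← hb]
    calc φ x13 * f * (φ x13)⁻¹ * (φ x13 * f * (φ x13)⁻¹)
        = φ x13 * (f * f) * (φ x13)⁻¹ := by group
      _ = 1 := by rw [hf]; group
  have hc2 : c * c = 1 := by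
    rw [← hc]
    calc φ x13 * b * (φ x13)⁻¹ * (φ x13 * b * (φ x13)⁻¹)
        = φ x13 * (b * b) * (φ x13)⁻¹ := by group
      _ = 1 := by rw [hb2]; group
  have hjP2 : φ jP * φ jP = 1 := by rw [← map_mul, hP2, map_one]
  have hfb : Commute f b := by
    have finv : f⁻¹ = f := inv_eq_of_mul_eq_one_right hf
    have binv : b⁻¹ = b := inv_eq_of_mul_eq_one_right hb2
    rcases hline with e | e
    · have ec : c = b⁻¹ * f⁻¹ := by
        calc c = (f * b)⁻¹ * (f * b * c) := by group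
          _ = _ := by rw [e]; group
      rw [finv, binv] at ec
      rw [ec] at hc2
      calc f * b = f * b * 1 := (mul_one _).symm
        _ = f * b * (b * f * (b * f)) := by rw [hc2]
        _ = f * (b * b) * f * (b * f) := by group
        _ = b * f := by rw [hb2, mul_one, hf, one_mul]
    · have ec : c = b⁻¹ * f⁻¹ * φ jP := by
        calc c = (f * b)⁻¹ * (f * b * c) := by group
          _ = _ := by rw [e]; group
      rw [finv, binv] at ec
      have hbP : b * φ jP = φ jP * b := by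
        rw [← hb]
        have h13P : φ x13 * φ jP = φ jP * φ x13 := by
          rw [← map_mul, ← map_mul, show x13 * jP = jP * x13 by decide +kernel]
        have h13P' : Commute ((φ x13)⁻¹) (φ jP) := (show Commute (φ x13) (φ jP) from h13P).inv_left
        exact (((show Commute (φ x13) (φ jP) from h13P).mul_left hfP).mul_left h13P').eq
      have hbfP : b * f * φ jP = φ jP * (b * f) := by
        rw [mul_assoc, hfP, ← mul_assoc, hbP, mul_assoc]
      have h1 : b * f * (b * f) = 1 := by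
        rw [ec] at hc2
        calc b * f * (b * f) = b * f * (b * f) * (φ jP * φ jP) := by rw [hjP2, mul_one]
          _ = b * f * (b * f * φ jP) * φ jP := by group
          _ = b * f * (φ jP * (b * f)) * φ jP := by rw [hbfP]
          _ = 1 := by rw [← hc2]; group
      calc f * b = f * b * 1 := (mul_one _).symm
        _ = f * b * (b * f * (b * f)) := by rw [h1]
        _ = f * (b * b) * f * (b * f) := by group
        _ = b * f := by rw [hb2, mul_one, hf, one_mul]
  -- translates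
  obtain ⟨hadd, hp0, hp1, hmove⟩ := pl9_facts
  let F : ZMod 3 → ZMod 3 → G := fun u v => φ (pl9 u v) * f * (φ (pl9 u v))⁻¹
  have hF : ∀ u v u' v', φ (pl9 u v) * F u' v' * (φ (pl9 u v))⁻¹ = F (u + u') (v + v') := by
    intro u v u' v'
    simp only [F]
    rw [← hadd u v u' v', map_mul]
    group
  have hFl : ∀ u v : ZMod 3, (u ≠ 0 ∨ v ≠ 0) →
      Commute f (F u v) ∧ f * F u v * F (u + u) (v + v) ∈ φ.range := by
    intro u v huv
    obtain ⟨a, b', e', hw⟩ := hmove u v huv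
    set w := iB ^ a.val * jP ^ b'.val * iB ^ e'.val
    have hwf : Commute (φ w) f := by
      simp only [w, map_mul, map_pow]
      exact (((show Commute (φ iB) f from hfB.symm).pow_left _).mul_left
        ((show Commute (φ jP) f from hfP.symm).pow_left _)).mul_left
        ((show Commute (φ iB) f from hfB.symm).pow_left _)
    have hwp : φ (pl9 u v) = φ w * φ x13 * (φ w)⁻¹ := by
      rw [eq_mul_inv_iff_mul_eq, ← map_mul, ← map_mul, hw]
    have hwinv : (φ w)⁻¹ * f * φ w = f := by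
      rw [mul_assoc, ← hwf.eq, inv_mul_cancel_left]
    have eF : F u v = φ w * b * (φ w)⁻¹ := by
      simp only [F]
      rw [hwp, ← hb]
      calc φ w * φ x13 * (φ w)⁻¹ * f * (φ w * φ x13 * (φ w)⁻¹)⁻¹
          = φ w * φ x13 * ((φ w)⁻¹ * f * φ w) * (φ x13)⁻¹ * (φ w)⁻¹ := by group
        _ = _ := by rw [hwinv]; group
    have eF2 : F (u + u) (v + v) = φ w * c * (φ w)⁻¹ := by
      rw [← hF u v u v, eF, hwp, ← hc]
      group
    have ef : φ w * f * (φ w)⁻¹ = f := by rw [hwf.eq, mul_inv_cancel_right]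
    refine ⟨?_, ?_⟩
    · rw [eF]
      calc f * (φ w * b * (φ w)⁻¹) = φ w * f * (φ w)⁻¹ * (φ w * b * (φ w)⁻¹) := by rw [ef]
        _ = φ w * (f * b) * (φ w)⁻¹ := by group
        _ = φ w * (b * f) * (φ w)⁻¹ := by rw [hfb.eq]
        _ = φ w * b * (φ w)⁻¹ * (φ w * f * (φ w)⁻¹) := by group
        _ = _ := by rw [ef]
    · rw [eF, eF2]
      have : f * (φ w * b * (φ w)⁻¹) * (φ w * c * (φ w)⁻¹) = φ w * (f * b * c) * (φ w)⁻¹ := by
        calc f * (φ w * b * (φ w)⁻¹) * (φ w * c * (φ w)⁻¹)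
            = φ w * f * (φ w)⁻¹ * (φ w * b * (φ w)⁻¹) * (φ w * c * (φ w)⁻¹) := by rw [ef]
          _ = _ := by group
      rw [this]
      refine φ.range.mul_mem (φ.range.mul_mem ⟨w, rfl⟩ ?_) (φ.range.inv_mem ⟨w, rfl⟩)
      rcases hline with e | e
      · exact ⟨1, by rw [map_one, e]⟩
      · exact ⟨jP, e.symm⟩
  have hF00 : F 0 0 = f := by simp only [F, hp0, map_one]; group
  have hFcomm : ∀ u v u' v', Commute (F u v) (F u' v') := by
    intro u v u' v'
    have h0 : Commute f (F (-u + u') (-v + v')) := by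
      by_cases h0 : -u + u' ≠ 0 ∨ -v + v' ≠ 0
      · exact (hFl _ _ h0).1
      · push Not at h0
        rw [h0.1, h0.2, hF00]
    have e := hF u v (-u + u') (-v + v')
    rw [add_neg_cancel_left, add_neg_cancel_left] at e
    rw [← e, show F u v = φ (pl9 u v) * f * (φ (pl9 u v))⁻¹ from rfl]
    generalize F (-u + u') (-v + v') = w at h0
    show _ = _
    calc φ (pl9 u v) * f * (φ (pl9 u v))⁻¹ * (φ (pl9 u v) * w * (φ (pl9 u v))⁻¹)
        = φ (pl9 u v) * (f * w) * (φ (pl9 u v))⁻¹ := by group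
      _ = _ := by rw [h0.eq]; group
  have l10 := (hFl 1 0 (Or.inl one_ne_zero)).2
  have l01 := (hFl 0 1 (Or.inr one_ne_zero)).2
  have l11 := (hFl 1 1 (Or.inl one_ne_zero)).2
  have l12 := (hFl 1 2 (Or.inl one_ne_zero)).2
  have t : ∀ k : ZMod 3, F 0 k * F 1 k * F 2 k ∈ φ.range := by
    intro k
    have := φ.range.mul_mem (φ.range.mul_mem ⟨pl9 0 k, rfl⟩ l10)
      (φ.range.inv_mem ⟨pl9 0 k, rfl⟩)
    convert this using 1
    have e1 := hF 0 k 0 0
    have e2 := hF 0 k 1 0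
    have e3 := hF 0 k (1 + 1) (0 + 0)
    rw [hF00] at e1
    simp only [zero_add, add_zero] at e1 e2 e3
    rw [← e1, ← e2, show (2 : ZMod 3) = 1 + 1 from rfl, ← e3, zero_add]
    group
  have key : f * f * f * (F 0 0 * F 1 0 * F 2 0 * (F 0 1 * F 1 1 * F 2 1) *
        (F 0 2 * F 1 2 * F 2 2)) =
      (f * F 1 0 * F (1 + 1) (0 + 0)) * (f * F 0 1 * F (0 + 0) (1 + 1)) *
        (f * F 1 1 * F (1 + 1) (1 + 1)) * (f * F 1 2 * F (1 + 1) (2 + 2)) := by
    rw [show (1 : ZMod 3) + 1 = 2 from rfl, show (0 : ZMod 3) + 0 = 0 from rfl,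
      show (2 : ZMod 3) + 2 = 1 from rfl, ← hF00]
    let M := Subgroup.closure (Set.range fun p : ZMod 3 × ZMod 3 => F p.1 p.2)
    haveI : IsMulCommutative M := Subgroup.isMulCommutative_closure (by
      rintro _ ⟨p, rfl⟩ _ ⟨q, rfl⟩
      exact (hFcomm p.1 p.2 q.1 q.2).eq)
    let e : ZMod 3 → ZMod 3 → M := fun u v =>
      ⟨F u v, Subgroup.subset_closure ⟨(u, v), rfl⟩⟩
    open scoped IsMulCommutative in
    have := congrArg Subtype.val (show e 0 0 * e 0 0 * e 0 0 *
        (e 0 0 * e 1 0 * e 2 0 * (e 0 1 * e 1 1 * e 2 1) * (e 0 2 * e 1 2 * e 2 2)) =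
        (e 0 0 * e 1 0 * e 2 0) * (e 0 0 * e 0 1 * e 0 2) * (e 0 0 * e 1 1 * e 2 2) *
          (e 0 0 * e 1 2 * e 2 1) by ac_rfl)
    exact this
  have hAll : f * f * f * (F 0 0 * F 1 0 * F 2 0 * (F 0 1 * F 1 1 * F 2 1) *
      (F 0 2 * F 1 2 * F 2 2)) ∈ φ.range := by
    rw [key]
    exact φ.range.mul_mem (φ.range.mul_mem (φ.range.mul_mem l10 l01) l11) l12
  rw [hf, one_mul] at hAll
  have := φ.range.mul_mem hAll
    (φ.range.inv_mem (φ.range.mul_mem (φ.range.mul_mem (t 0) (t 1)) (t 2)))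
  rwa [mul_inv_cancel_right] at this

/-- An element of the core centralising `jP` and `iB` lies in `H`. -/
theorem core_mem_range [Finite G] (h : One φ) (hx : CentIn φ xH) (hR : InvR φ R) :
    ∀ k : ℕ, ∀ f ∈ R, f ^ 2 ^ k = 1 → f * φ jP = φ jP * f → f * φ iB = φ iB * f →
      f ∈ φ.range := by
  obtain ⟨hpP, hpH, hpx, hpP', hp3, hpw, hAP, hPA, h21, h21m, hzm, hxm, hPH, hQj, hQA, hQB, hnQ,
    hnP, h13, hP2, hH2, hBz⟩ := fin_named
  have hJ : ∀ r ∈ R, r * φ jH = φ jH * r := fun r hr => core_comm hR hr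
  have hjR := jH_mem_core hR
  intro k
  induction k with
  | zero =>
    intro f _ hf _ _
    rw [pow_zero, pow_one] at hf
    exact hf ▸ one_mem _
  | succ k ih =>
    intro f hfR hf hfP hfB
    have hfP' : Commute f (φ jP) := hfP
    have hfB' : Commute f (φ iB) := hfB
    have hsqR : f * f ∈ R := R.mul_mem hfR hfR
    obtain ⟨g, hg⟩ := ih (f * f) hsqR
      (by rw [← pow_two, ← pow_mul, ← pow_succ']; exact hf)
      (hfP'.mul_left hfP').eq (hfB'.mul_left hfB').eq
    have hq := hR.inH g (hg ▸ hsqR)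
    have hgP : g * jP = jP * g := h.inj (by
      rw [map_mul, map_mul, hg]; exact (hfP'.mul_left hfP').eq)
    have hTf : InT φ f := ⟨hJ f hfR, hfP⟩
    have hsplit : ((φ piH)⁻¹ * f * φ piH ∈ R) ∨ ((φ piH)⁻¹ * (φ jH * f) * φ piH ∈ R) := by
      rcases InT.split hR hTf.conj with e | e
      · exact Or.inl e
      · refine Or.inr ?_
        have hpj : (φ piH)⁻¹ * φ jH * φ piH = φ jP * φ jH := by
          rw [← map_mul φ jP jH, ← hpH, map_mul, map_mul, map_inv]
        have := R.mul_mem hjR e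
        convert this using 1
        calc (φ piH)⁻¹ * (φ jH * f) * φ piH
            = (φ piH)⁻¹ * φ jH * φ piH * ((φ piH)⁻¹ * f * φ piH) := by group
          _ = φ jH * (φ jP * ((φ piH)⁻¹ * f * φ piH)) := by
            rw [hpj, ← map_mul φ jP jH, hPH, map_mul, mul_assoc]
    have hjjG : φ jH * φ jH = 1 := by rw [← map_mul, hH2, map_one]
    have hjf : (φ jH * f) * (φ jH * f) = f * f := by
      calc φ jH * f * (φ jH * f) = φ jH * (f * φ jH) * f := by group
        _ = φ jH * φ jH * (f * f) := by rw [hJ f hfR]; group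
        _ = f * f := by rw [hjjG, one_mul]
    rcases (q8_fin g hq.1 hq).1 hgP with rfl | rfl
    · rw [map_one] at hg
      rcases hsplit with e | e
      · exact inv_mem_range h hx hR hg.symm e hfP hfB
      · have h1 := inv_mem_range h hx hR (f := φ jH * f) (hjf.trans hg.symm) e
          ((show Commute (φ jH) (φ jP) by
            show _ = _
            rw [← map_mul, ← map_mul, hPH]).mul_left hfP').eq
          ((show Commute (φ jH) (φ iB) by
            show _ = _
            rw [← map_mul, ← map_mul,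
              Subgroup.mem_centralizer_singleton_iff.1 hQB.1]).mul_left hfB').eq
        have h2 := φ.range.mul_mem ⟨jH, rfl⟩ h1
        rwa [← mul_assoc, hjjG, one_mul] at h2
    · exfalso
      refine hnQ (hR.inH _ ?_)
      rw [← hpH, map_mul, map_mul, map_inv, hg]
      rcases hsplit with e | e
      · convert R.mul_mem e e using 1
        group
      · rw [← hjf]
        convert R.mul_mem e e using 1
        group

/-- The commutators of the quotient of the core are central. -/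
theorem core_commutator_central [Finite G] (h : One φ) (hx : CentIn φ xH) (hR : InvR φ R)
    [(cenZ hR).Normal] : ∀ a b g : R ⧸ cenZ hR, g * ⁅a, b⁆ = ⁅a, b⁆ * g := by
  have hxm : xH ∈ jCen := fin_named.2.2.2.2.2.2.2.2.2.2.2.1
  have hx3 : ((⟨xH, hxm⟩ : jCen) : H1) ^ 3 = 1 := named_facts.2.2.2.2.2.2.2.2.2.2.1
  obtain ⟨θx, hθx⟩ := exists_conjQ hR ⟨xH, hxm⟩
  haveI : Fact (Nat.Prime 2) := ⟨Nat.prime_two⟩
  have hQp : IsPGroup 2 (R ⧸ cenZ hR) := hR.two.to_quotient _
  refine commutator_central hQp θx (fun t ht => ?_) (fun t => ?_)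
  · induction t using QuotientGroup.induction_on with
    | _ a =>
      rw [hθx, eq_comm, QuotientGroup.eq] at ht
      have hc := conjR_fix hR (g := ⟨xH, hxm⟩) hx3 ht
      obtain ⟨m, hm⟩ := hx (a : G) hc.symm
      have hq := hR.inH m (hm ▸ a.2)
      have hcm : m * xH = xH * m := h.inj (by rw [map_mul, map_mul, hm]; exact hc.symm)
      refine (QuotientGroup.eq_one_iff a).2 ((mem_cenZ hR).2 ?_)
      rcases q8_cent_xH m hq.1 hq hcm with rfl | rfl
      · exact Or.inl (hm.symm.trans (map_one φ))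
      · exact Or.inr hm.symm
  · induction t using QuotientGroup.induction_on with
    | _ a => rw [hθx, hθx, hθx, conjR_cube hR (g := ⟨xH, hxm⟩) hx3]

/-- The commutators of `iA` with the fixed points of `jP` on the core are central. -/
theorem core_commutator_iA [Finite G] (h : One φ) (hx : CentIn φ xH) (hR : InvR φ R)
    [(cenZ hR).Normal] {iR : R} (hiR : (iR : G) = φ iA) (f : R)
    (hfP : (f : G) * φ jP = φ jP * f) : ⁅f, iR⁆ ∈ cenZ hR := by
  obtain ⟨hpP, hpH, hpx, hpP', hp3, hpw, hAP, hPA, h21, h21m, hzm, hxm, hPH, hQj, hQA, hQB, hnQ,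
    hnP, h13, hP2, hH2, hBz⟩ := fin_named
  have hJ : ∀ r ∈ R, r * φ jH = φ jH * r := fun r hr => core_comm hR hr
  haveI : Fact (Nat.Prime 2) := ⟨Nat.prime_two⟩
  have hQp : IsPGroup 2 (R ⧸ cenZ hR) := hR.two.to_quotient _
  have hcen := core_commutator_central h hx hR
  obtain ⟨θz, hθz⟩ := exists_conjQ hR ⟨zH, hzm⟩
  obtain rfl : iR = ⟨φ iA, hR.q8 _ hQA⟩ := Subtype.ext hiR
  let iR' : R := ⟨φ iB, hR.q8 _ hQB⟩
  let π := QuotientGroup.mk' (cenZ hR)
  generalize hiRdef : (⟨φ iA, hR.q8 _ hQA⟩ : R) = iR at hiR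
  let K : R ⧸ cenZ hR → R ⧸ cenZ hR := fun u => ⁅u, π iR⁆
  have hKmul : ∀ u v, K (u * v) = K u * K v := by
    intro u v
    show u * v * π iR * (u * v)⁻¹ * (π iR)⁻¹ = K u * K v
    calc u * v * π iR * (u * v)⁻¹ * (π iR)⁻¹
        = u * ⁅v, π iR⁆ * (π iR * u⁻¹ * (π iR)⁻¹) := by rw [commutatorElement_def]; group
      _ = ⁅v, π iR⁆ * u * (π iR * u⁻¹ * (π iR)⁻¹) := by rw [hcen]
      _ = ⁅v, π iR⁆ * ⁅u, π iR⁆ := by simp only [commutatorElement_def]; group
      _ = K u * K v := hcen _ _ _ |>.symm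
  have hzfix : θz (π iR) = π iR := by
    show θz (QuotientGroup.mk iR) = QuotientGroup.mk iR
    rw [hθz]
    refine congrArg _ (Subtype.ext ?_)
    rw [coe_conjR, hiR]
    show φ zH * φ iA * (φ zH)⁻¹ = φ iA
    rw [mul_inv_eq_iff_eq_mul, ← map_mul, ← map_mul, hQA.2.1]
  have hKθ : ∀ u, K (θz u) = θz (K u) := fun u => by
    show ⁅θz u, π iR⁆ = θz ⁅u, π iR⁆
    simp only [commutatorElement_def, map_mul, map_inv, hzfix]
  set u := π f
  set N := u * θz u * θz (θz u) with hN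
  have hz3 : ∀ t, θz (θz (θz t)) = t := by
    intro t
    induction t using QuotientGroup.induction_on with
    | _ a => rw [hθz, hθz, hθz, conjR_cube hR (g := ⟨zH, hzm⟩) zH_cube]
  have hcenter : ∀ t, t ∈ Subgroup.center (R ⧸ cenZ hR) →
      θz t ∈ Subgroup.center (R ⧸ cenZ hR) := by
    intro t ht
    refine Subgroup.mem_center_iff.2 fun g => ?_
    obtain ⟨g', rfl⟩ := θz.surjective g
    rw [← map_mul, ← map_mul, Subgroup.mem_center_iff.1 ht g']
  have hNfix : θz N * N⁻¹ ∈ Subgroup.center (R ⧸ cenZ hR) := by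
    have : θz N * N⁻¹ = ⁅u⁻¹, N⁆ := by
      rw [hN, map_mul, map_mul, hz3, commutatorElement_def]
      group
    rw [this]
    exact Subgroup.mem_center_iff.2 fun g => hcen _ _ g
  let S := {t : R ⧸ cenZ hR // t * N⁻¹ ∈ Subgroup.center (R ⧸ cenZ hR)}
  have hstep : ∀ t, t * N⁻¹ ∈ Subgroup.center (R ⧸ cenZ hR) →
      θz t * N⁻¹ ∈ Subgroup.center (R ⧸ cenZ hR) := by
    intro t ht
    have := (Subgroup.center _).mul_mem (hcenter _ ht) hNfix
    convert this using 1
    rw [map_mul, map_inv]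
    group
  let σ : Equiv.Perm S :=
    { toFun := fun t => ⟨θz t.1, hstep _ t.2⟩
      invFun := fun t => ⟨θz (θz t.1), hstep _ (hstep _ t.2)⟩
      left_inv := fun t => Subtype.ext (hz3 _)
      right_inv := fun t => Subtype.ext (hz3 _) }
  have hS : ∃ n, Nat.card S = 2 ^ n := by
    obtain ⟨n, hn⟩ := IsPGroup.iff_card.1 (hQp.to_subgroup (Subgroup.center (R ⧸ cenZ hR)))
    refine ⟨n, hn ▸ Nat.card_congr
      { toFun := fun t => ⟨t.1 * N⁻¹, t.2⟩
        invFun := fun c => ⟨c.1 * N, by rw [mul_inv_cancel_right]; exact c.2⟩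
        left_inv := fun t => Subtype.ext (inv_mul_cancel_right _ _)
        right_inv := fun c => Subtype.ext (mul_inv_cancel_right _ _) }⟩
  obtain ⟨⟨t, htS⟩, ht⟩ := exists_fixed_three (σ := σ) (fun t => Subtype.ext (hz3 _)) hS
  have ht' : θz t = t := congrArg Subtype.val ht
  have hKt : K t = 1 := by
    induction t using QuotientGroup.induction_on with
    | _ a =>
      rw [hθz, eq_comm, QuotientGroup.eq] at ht'
      have hc := conjR_fix hR (g := ⟨zH, hzm⟩) zH_cube ht'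
      obtain ⟨m, hm⟩ := centIn_zH h (a : G) hc.symm
      have hq := hR.inH m (hm ▸ a.2)
      show ⁅π a, π iR⁆ = 1
      rw [← map_commutatorElement]
      refine (QuotientGroup.eq_one_iff _).2 ((mem_cenZ hR).2 ?_)
      rw [commutatorElement_def]
      simp only [Subgroup.coe_mul, InvMemClass.coe_inv, ← hm, hiR]
      rcases (q8_fin m hq.1 hq).2.2 with e | e
      · refine Or.inl ?_
        show φ m * φ iA * (φ m)⁻¹ * (φ iA)⁻¹ = 1
        rw [← map_mul φ m iA, e, map_mul]; group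
      · refine Or.inr ?_
        show φ m * φ iA * (φ m)⁻¹ * (φ iA)⁻¹ = φ jH
        rw [← map_mul φ m iA, e, map_mul, map_mul]; group
  have hKN : K N = 1 := by
    have h1 : K t = K (t * N⁻¹) * K N := by rw [← hKmul, inv_mul_cancel_right]
    have h2 : K (t * N⁻¹) = 1 :=
      commutatorElement_eq_one_iff_mul_comm.2 (Subgroup.mem_center_iff.1 htS _).symm
    rw [h2, one_mul, hKt] at h1
    exact h1.symm
  set g : R := ⁅f, iR⁆ with hg
  set g1 := conjR hR ⟨zH, hzm⟩ g
  set g2 := conjR hR ⟨zH, hzm⟩ g1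
  have hG0 : g * g1 * g2 ∈ cenZ hR := by
    rw [← QuotientGroup.eq_one_iff, QuotientGroup.mk_mul, QuotientGroup.mk_mul,
      show (QuotientGroup.mk g2 : R ⧸ cenZ hR) = θz (QuotientGroup.mk g1) from (hθz g1).symm,
      show (QuotientGroup.mk g1 : R ⧸ cenZ hR) = θz (QuotientGroup.mk g) from (hθz g).symm]
    show K u * θz (K u) * θz (θz (K u)) = 1
    rw [← hKθ, ← hKθ, ← hKmul, ← hKmul]
    exact hKN
  have he : g * iR' * g⁻¹ * iR'⁻¹ ∈ cenZ hR := by
    rw [← QuotientGroup.eq_one_iff]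
    show π (g * iR' * g⁻¹ * iR'⁻¹) = 1
    rw [map_mul, map_mul, map_mul, map_inv, map_inv, hg, map_commutatorElement, ← hcen]
    group
  set e := g * iR' * g⁻¹ * iR'⁻¹ with hedef
  have hec : ∀ r : R, r * e = e * r := fun r => Subgroup.mem_center_iff.1 (cenZ_central hR he) r
  have he2 : e * e = 1 := by
    rcases (mem_cenZ hR).1 he with e' | e'
    · rw [show e = 1 from Subtype.ext e', mul_one]
    · refine Subtype.ext ?_
      rw [Subgroup.coe_mul, e', ← map_mul, hH2, map_one]; rfl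
  have c0 : g * iR' = e * iR' * g := by rw [hedef]; group
  have hzB : conjR hR ⟨zH, hzm⟩ iR' = iR' := by
    refine Subtype.ext ?_
    rw [coe_conjR]
    show φ zH * φ iB * (φ zH)⁻¹ = φ iB
    rw [mul_inv_eq_iff_eq_mul, ← map_mul, ← map_mul, hBz]
  have c1 : g1 * iR' = e * iR' * g1 := by
    have := congrArg (conjR hR ⟨zH, hzm⟩) c0
    rwa [map_mul, map_mul, map_mul, hzB, conjR_cenZ hR _ he] at this
  have c2 : g2 * iR' = e * iR' * g2 := by
    have := congrArg (conjR hR ⟨zH, hzm⟩) c1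
    rwa [map_mul, map_mul, map_mul, hzB, conjR_cenZ hR _ he] at this
  have c3 : g * g1 * g2 * iR' = e * iR' * (g * g1 * g2) := by
    calc g * g1 * g2 * iR' = g * g1 * (g2 * iR') := by group
      _ = g * g1 * (e * iR' * g2) := by rw [c2]
      _ = g * (g1 * e) * iR' * g2 := by group
      _ = g * (e * g1) * iR' * g2 := by rw [hec]
      _ = (g * e) * (g1 * iR') * g2 := by group
      _ = (e * g) * (e * iR' * g1) * g2 := by rw [hec, c1]
      _ = e * (g * e) * iR' * g1 * g2 := by group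
      _ = e * (e * g) * iR' * g1 * g2 := by rw [hec]
      _ = (e * e) * (g * iR') * g1 * g2 := by group
      _ = e * iR' * (g * g1 * g2) := by rw [he2, c0]; group
  rw [← Subgroup.mem_center_iff.1 (cenZ_central hR hG0) iR'] at c3
  have he1 : e = 1 := by
    calc e = e * iR' * (g * g1 * g2) * (iR' * (g * g1 * g2))⁻¹ := by group
      _ = 1 := by rw [← c3, mul_inv_cancel]
  rw [he1, one_mul] at c0
  have hgB : (g : G) * φ iB = φ iB * g := congrArg Subtype.val c0
  have hgP : (g : G) * φ jP = φ jP * g := by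
    have hiP : φ iA * φ jP = φ jP * φ iA * φ jH := by
      rw [← map_mul, ← map_mul, ← map_mul, hAP]
    rw [hg, commutatorElement_def]
    simp only [Subgroup.coe_mul, InvMemClass.coe_inv, hiR]
    show (f : G) * φ iA * (f : G)⁻¹ * (φ iA)⁻¹ * φ jP =
      φ jP * ((f : G) * φ iA * (f : G)⁻¹ * (φ iA)⁻¹)
    have hf' := (show Commute (f : G) (φ jP) from hfP).inv_left.eq
    have hfj : (f : G)⁻¹ * φ jH = φ jH * (f : G)⁻¹ :=
      (show Commute (f : G) (φ jH) from hJ _ f.2).inv_left.eq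
    have hi' : (φ iA)⁻¹ * φ jP = φ jP * φ jH * (φ iA)⁻¹ := by
      have hPA' : φ jP * φ iA = φ iA * φ jP * φ jH := by
        rw [← map_mul, ← map_mul, ← map_mul, hPA]
      rw [eq_mul_inv_iff_mul_eq, mul_assoc, hPA', ← mul_assoc, ← mul_assoc, inv_mul_cancel, one_mul]
    calc (f : G) * φ iA * (f : G)⁻¹ * (φ iA)⁻¹ * φ jP
        = (f : G) * φ iA * (f : G)⁻¹ * ((φ iA)⁻¹ * φ jP) := by group
      _ = (f : G) * φ iA * ((f : G)⁻¹ * φ jP) * φ jH * (φ iA)⁻¹ := by rw [hi']; group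
      _ = (f : G) * (φ iA * φ jP) * ((f : G)⁻¹ * φ jH) * (φ iA)⁻¹ := by rw [hf']; group
      _ = (f : G) * (φ jP * φ iA) * (φ jH * φ jH) * (f : G)⁻¹ * (φ iA)⁻¹ := by
        rw [hiP, hfj]; group
      _ = ((f : G) * φ jP) * φ iA * (f : G)⁻¹ * (φ iA)⁻¹ := by
        rw [← map_mul φ jH jH, hH2, map_one]; group
      _ = _ := by rw [hfP]; group
  obtain ⟨k, hk⟩ := hR.two g
  obtain ⟨m, hm⟩ := core_mem_range h hx hR k g g.2 (congrArg Subtype.val hk) hgP hgB
  have hq := hR.inH m (hm ▸ g.2)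
  refine (mem_cenZ hR).2 ?_
  rcases (q8_fin m hq.1 hq).1 (h.inj (by rw [map_mul, map_mul, hm]; exact hgP)) with rfl | rfl
  · exact Or.inl (hm.symm.trans (map_one φ))
  · exact Or.inr hm.symm

/-- The image of the four group. -/
def vImg (φ : H1 →* G) : Subgroup G := vGrp.map φ

theorem comm_vImg {x v : G} (hT : InT φ x) (hv : v ∈ vImg φ) : Commute v x := by
  obtain ⟨hxj, hxP⟩ := hT
  obtain ⟨v, hv, rfl⟩ := hv
  rcases (show IsV v from hv) with rfl | rfl | rfl | rfl
  · rw [map_one]; exact Commute.one_left x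
  · exact hxj.symm
  · exact hxP.symm
  · rw [map_mul]; exact (show Commute (φ jP) x from hxP.symm).mul_left hxj.symm

theorem iA_vImg [Finite G] (h : One φ) (hx : CentIn φ xH) (hR : InvR φ R) {x : G}
    (hTx : InT φ x) : φ iA * x * (φ iA)⁻¹ * x⁻¹ ∈ vImg φ := by
  obtain ⟨hpP, hpH, hpx, hpP', hp3, hpw, hAP, hPA, h21, h21m, hzm, hxm, hPH, hQj, hQA, hQB, hnQ,
    hnP, h13, hP2, hH2, hBz⟩ := fin_named
  haveI := cenZ_normal hR
  have base : ∀ r ∈ R, r * φ jP = φ jP * r → φ iA * r * (φ iA)⁻¹ * r⁻¹ ∈ vImg φ := by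
    intro r hr hrP
    have h1 := (cenZ hR).inv_mem (core_commutator_iA h hx hR (iR := ⟨φ iA, hR.q8 _ hQA⟩) rfl ⟨r, hr⟩ hrP)
    rw [commutatorElement_inv] at h1
    rcases (mem_cenZ hR).1 h1 with e | e <;>
      simp only [commutatorElement_def, Subgroup.coe_mul, InvMemClass.coe_inv] at e <;>
      rw [e]
    · exact one_mem _
    · exact ⟨jH, Or.inr (Or.inl rfl), rfl⟩
  rcases hTx.split hR with e | e
  · exact base x e hTx.2
  · have hr := base (φ jP * x) e
      ((show Commute (φ jP) (φ jP) from rfl).mul_left hTx.2).eq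
    have hiP : φ iA * φ jP = φ jP * φ iA * φ jH := by
      rw [← map_mul, ← map_mul, ← map_mul, hAP]
    have hc : φ jH * x = x * φ jH := hTx.1.symm
    generalize hw : φ iA * (φ jP * x) * (φ iA)⁻¹ * (φ jP * x)⁻¹ = w at hr
    have hwx : φ iA * x * (φ iA)⁻¹ * x⁻¹ = φ jH * ((φ jP)⁻¹ * w * φ jP) := by
      have hjA : φ iA * φ jH = φ jH * φ iA := by
        rw [← map_mul, ← map_mul, Subgroup.mem_centralizer_singleton_iff.1 hQA.1]
      have hjj : φ jH * φ jH = 1 := by rw [← map_mul, hH2, map_one]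
      rw [← hw]
      calc φ iA * x * (φ iA)⁻¹ * x⁻¹
          = (φ jH * φ jH) * φ iA * x * (φ iA)⁻¹ * x⁻¹ := by rw [hjj]; group
        _ = φ jH * (φ iA * φ jH) * x * (φ iA)⁻¹ * x⁻¹ := by rw [hjA]; group
        _ = φ jH * ((φ jP)⁻¹ * (φ jP * φ iA * φ jH) * x * (φ iA)⁻¹ * x⁻¹) := by group
        _ = _ := by rw [← hiP]; group
    rw [hwx]
    have hjPV : φ jP ∈ vImg φ := ⟨jP, Or.inr (Or.inr (Or.inl rfl)), rfl⟩
    exact (vImg φ).mul_mem ⟨jH, Or.inr (Or.inl rfl), rfl⟩
      ((vImg φ).mul_mem ((vImg φ).mul_mem ((vImg φ).inv_mem hjPV) hr) hjPV)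

theorem piH_vImg {v : G} (hv : v ∈ vImg φ) : φ piH * v * (φ piH)⁻¹ ∈ vImg φ := by
  obtain ⟨v, hv, rfl⟩ := hv
  exact ⟨_, (vGrp_conj hv).1, by simp only [map_mul, map_inv]⟩

theorem piH_comm_vImg [Finite G] (h : One φ) (hx : CentIn φ xH) (hR : InvR φ R) {x : G}
    (hTx : InT φ x) : φ piH * x * (φ piH)⁻¹ * x⁻¹ ∈ vImg φ := by
  obtain ⟨hpP, hpH, hpx, hpP', hp3, hpw, hAP, hPA, h21, h21m, hzm, hxm, hPH, hQj, hQA, hQB, hnQ,
    hnP, h13, hP2, hH2, hBz⟩ := fin_named
  set a := φ piH * φ iA * (φ piH)⁻¹ with ha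
  have haV : a * x * a⁻¹ * x⁻¹ ∈ vImg φ := by
    have := piH_vImg (iA_vImg h hx hR hTx.conj)
    convert this using 1
    rw [ha]; group
  have hjx : φ jH * x = x * φ jH := hTx.1.symm
  have hAV : ∀ v ∈ vImg φ, φ iA * v * (φ iA)⁻¹ ∈ vImg φ := by
    rintro _ ⟨v, hv, rfl⟩
    refine ⟨iA * v * iA⁻¹, ?_, by simp only [map_mul, map_inv]⟩
    rcases (show IsV v from hv) with rfl | rfl | rfl | rfl <;> (show IsV _; decide +kernel)
  have e : φ piH = φ iA * a * φ jH := by
    rw [ha, ← map_inv, ← map_mul, ← map_mul, ← map_mul, ← map_mul]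
    exact congrArg φ hpw
  generalize φ piH = p at e ⊢
  rw [e]
  have h1 := (vImg φ).mul_mem (hAV _ haV) (iA_vImg h hx hR hTx)
  convert h1 using 1
  calc φ iA * a * φ jH * x * (φ iA * a * φ jH)⁻¹ * x⁻¹
      = φ iA * a * (φ jH * x) * (φ jH)⁻¹ * a⁻¹ * (φ iA)⁻¹ * x⁻¹ := by group
    _ = φ iA * a * (x * φ jH) * (φ jH)⁻¹ * a⁻¹ * (φ iA)⁻¹ * x⁻¹ := by rw [hjx]
    _ = _ := by group

/-- The elements centralising the four group lie in `H`. -/
theorem InT.mem_range [Finite G] (h : One φ) (hx : CentIn φ xH) (hpi : CentIn φ piH)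
    (hR : InvR φ R) {x : G} (hTx : InT φ x) : x ∈ φ.range := by
  have hp3 : piH ^ 3 = 1 := by decide +kernel
  haveI : Fact (Nat.Prime 2) := ⟨Nat.prime_two⟩
  let S := {y : G // y * x⁻¹ ∈ vImg φ}
  have hstep : ∀ y, y * x⁻¹ ∈ vImg φ → φ piH * y * (φ piH)⁻¹ * x⁻¹ ∈ vImg φ := by
    intro y hy
    have := (vImg φ).mul_mem (piH_vImg hy) (piH_comm_vImg h hx hR hTx)
    convert this using 1
    group
  have hp3' : ∀ y : G,
      φ piH * (φ piH * (φ piH * y * (φ piH)⁻¹) * (φ piH)⁻¹) * (φ piH)⁻¹ = y := fun y => by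
    have e : φ piH * φ piH * φ piH = 1 := by
      rw [← map_mul, ← map_mul, show piH * piH * piH = 1 by rw [← hp3, pow_succ, pow_two],
        map_one]
    calc φ piH * (φ piH * (φ piH * y * (φ piH)⁻¹) * (φ piH)⁻¹) * (φ piH)⁻¹
        = (φ piH * φ piH * φ piH) * y * (φ piH * φ piH * φ piH)⁻¹ := by group
      _ = y := by rw [e]; group
  let σ : Equiv.Perm S :=
    { toFun := fun t => ⟨φ piH * t.1 * (φ piH)⁻¹, hstep _ t.2⟩
      invFun := fun t => ⟨φ piH * (φ piH * t.1 * (φ piH)⁻¹) * (φ piH)⁻¹, hstep _ (hstep _ t.2)⟩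
      left_inv := fun t => Subtype.ext (hp3' _)
      right_inv := fun t => Subtype.ext (hp3' _) }
  have hV2 : IsPGroup 2 (vImg φ) := by
    rintro ⟨_, v, hv, rfl⟩
    refine ⟨1, Subtype.ext ?_⟩
    rw [pow_one, pow_two]
    show φ v * φ v = 1
    rw [← map_mul, vGrp_sq hv, map_one]
  obtain ⟨n, hn⟩ := IsPGroup.iff_card.1 hV2
  have hS : ∃ n, Nat.card S = 2 ^ n := ⟨n, hn ▸ Nat.card_congr
    { toFun := fun t => ⟨t.1 * x⁻¹, t.2⟩
      invFun := fun c => ⟨c.1 * x, by rw [mul_inv_cancel_right]; exact c.2⟩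
      left_inv := fun t => Subtype.ext (inv_mul_cancel_right _ _)
      right_inv := fun c => Subtype.ext (mul_inv_cancel_right _ _) }⟩
  obtain ⟨⟨y, hy⟩, hfix⟩ := exists_fixed_three (σ := σ) (fun t => Subtype.ext (hp3' _)) hS
  have hfix' : φ piH * y * (φ piH)⁻¹ = y := congrArg Subtype.val hfix
  obtain ⟨v, -, hv⟩ := hy
  obtain ⟨m, hm⟩ := hpi y (mul_inv_eq_iff_eq_mul.1 hfix').symm
  exact ⟨v⁻¹ * m, by rw [map_mul, map_inv, hv, hm]; group⟩

/-- The centraliser of the involution lies in `H`. -/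
theorem cent_jH_le_range [Finite G] (h : One φ) (_hctl : Ctl φ) (hx : CentIn φ xH)
    (hpi : CentIn φ piH) (hR : InvR φ R) :
    Subgroup.centralizer ({φ jH} : Set G) ≤ φ.range := by
  obtain ⟨hpP, hpH, hpx, hpP', hp3, hpw, hAP, hPA, h21, h21m, hzm, hxm, hPH, hQj, hQA, hQB, hnQ,
    hnP, h13, hP2, hH2, hBz⟩ := fin_named
  have hJ : ∀ r ∈ R, r * φ jH = φ jH * r := fun r hr => core_comm hR hr
  have hPm := jP_mem_jCen
  haveI : Fact (Nat.Prime 2) := ⟨Nat.prime_two⟩
  have hTr : ∀ x, InT φ x → x ∈ φ.range := fun x hT => hT.mem_range h hx hpi hR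
  have hRr : R ≤ φ.range := by
    intro r0 hr0
    by_contra hr0n
    set Q : Subgroup R := φ.range.subgroupOf R
    have hPm' : (⟨jP, hPm⟩ : jCen) = ⟨jP, hPm⟩ := rfl
    set σ := conjR hR ⟨jP, hPm⟩ with hσdef
    have hσQ : ∀ a, a ∈ Q → σ a ∈ Q := by
      intro a ha
      show ((σ a : R) : G) ∈ φ.range
      rw [hσdef, coe_conjR]
      exact φ.range.mul_mem (φ.range.mul_mem ⟨_, rfl⟩ ha) (φ.range.inv_mem ⟨_, rfl⟩)
    have hσ2 : ∀ a : R, σ (σ a) = a := fun a => by
      refine Subtype.ext ?_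
      rw [hσdef, coe_conjR, coe_conjR]
      show φ jP * (φ jP * (a : G) * (φ jP)⁻¹) * (φ jP)⁻¹ = a
      calc φ jP * (φ jP * (a : G) * (φ jP)⁻¹) * (φ jP)⁻¹
          = (φ jP * φ jP) * (a : G) * (φ jP * φ jP)⁻¹ := by group
        _ = a := by rw [← map_mul, hP2, map_one]; group
    let sq : R ⧸ Q → R ⧸ Q := Quotient.map' σ (fun a b hab => by
      rw [QuotientGroup.leftRel_apply] at hab ⊢
      rw [← map_inv, ← map_mul]
      exact hσQ _ hab)
    have hsq : Function.Involutive sq := fun t => by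
      induction t using QuotientGroup.induction_on with
      | _ a => exact congrArg QuotientGroup.mk (hσ2 a)
    haveI := Fintype.ofFinite (R ⧸ Q)
    have hdvd : 2 ∣ Fintype.card (R ⧸ Q) := by
      obtain ⟨n, hn⟩ := IsPGroup.iff_card.1 hR.two
      have h1 : Q.index ∣ 2 ^ n := hn ▸ Subgroup.index_dvd_card Q
      obtain ⟨i, -, hi⟩ := (Nat.dvd_prime_pow Nat.prime_two).1 h1
      rw [← Nat.card_eq_fintype_card, ← Subgroup.index_eq_card, hi]
      rcases i.eq_zero_or_pos with rfl | hi0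
      · rw [pow_zero] at hi
        have := Subgroup.index_eq_one.1 hi
        exact absurd (show (⟨r0, hr0⟩ : R) ∈ Q from this ▸ Subgroup.mem_top _) hr0n
      · exact dvd_pow_self 2 hi0.ne'
    obtain ⟨t, ht, htne⟩ := Equiv.Perm.exists_fixed_point_of_prime' (p := 2) (n := 1) hdvd
      (σ := hsq.toPerm sq) (by
        refine Equiv.ext fun t => ?_
        show sq (sq t) = t
        exact hsq t)
      (a := QuotientGroup.mk 1) (by
        show QuotientGroup.mk (σ 1) = _
        rw [map_one])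
    induction t using QuotientGroup.induction_on with
    | _ r =>
      have ht' : r⁻¹ * σ r ∈ Q := QuotientGroup.eq.1 (Eq.symm ht)
      have hrn : (r : G) ∉ φ.range := fun hc => htne
        (QuotientGroup.eq.2 (by rw [mul_one]; exact Q.inv_mem hc))
      obtain ⟨k, hk⟩ := ht'
      have hq := hR.inH k (hk ▸ (r⁻¹ * σ r).2)
      obtain ⟨a, b, hab⟩ := q8_word k hq.1 hq
      have hPinv : (φ jP)⁻¹ = φ jP := by rw [← map_inv, inv_eq_of_mul_eq_one_right hP2]
      have hσr : φ jP * (r : G) * φ jP = r * φ k := by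
        have e : φ k = (r : G)⁻¹ * ((σ r : R) : G) := hk
        rw [e, mul_inv_cancel_left, hσdef, coe_conjR]
        show _ = φ jP * (r : G) * (φ jP)⁻¹
        rw [hPinv]
      have hkk : jP * k * jP * k = 1 := h.inj (by
        rw [map_one, map_mul, map_mul, map_mul]
        have hPP : φ jP * φ jP = 1 := by rw [← map_mul, hP2, map_one]
        calc φ jP * φ k * φ jP * φ k
            = φ jP * ((r : G)⁻¹ * (r * φ k)) * φ jP * ((r : G)⁻¹ * (r * φ k)) := by group
          _ = (φ jP * (r : G)⁻¹ * φ jP) * ((r : G) * (φ jP * φ jP)) *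
              ((r : G)⁻¹ * (φ jP * (r : G) * φ jP)) := by rw [← hσr]; group
          _ = (φ jP * (r : G)⁻¹ * φ jP) * (φ jP * (r : G) * φ jP) := by rw [hPP]; group
          _ = φ jP * (r : G)⁻¹ * (φ jP * φ jP) * (r : G) * φ jP := by group
          _ = 1 := by rw [hPP, mul_one, inv_mul_cancel_right, hPP])
      rw [hab] at hkk
      obtain ⟨a', b', hs⟩ := q8_split_coset a b hkk
      rw [← hab] at hs
      set s := iA ^ a'.val * iB ^ b'.val
      have hsR : φ s ∈ R := by
        simp only [s, map_mul, map_pow]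
        exact R.mul_mem (R.pow_mem (hR.q8 _ hQA) _) (R.pow_mem (hR.q8 _ hQB) _)
      have hfix : ∀ y ∈ R, φ jP * y * φ jP = y → y ∈ φ.range := by
        intro y hy hyf
        refine hTr y ⟨hJ y hy, ?_⟩
        calc y * φ jP = φ jP * y * φ jP * φ jP := by rw [hyf]
          _ = φ jP * y * (φ jP * φ jP) := by group
          _ = _ := by rw [← map_mul φ jP jP, hP2, map_one, mul_one]
      have hcase : φ jP * ((r : G) * φ s) * φ jP = r * φ (k * (jP * s * jP)) := by
        have hPP : φ jP * φ jP = 1 := by rw [← map_mul, hP2, map_one]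
        rw [map_mul φ k, map_mul φ (jP * s) jP, map_mul φ jP s, ← mul_assoc (r : G) (φ k), ← hσr]
        calc φ jP * ((r : G) * φ s) * φ jP
            = φ jP * (r : G) * 1 * φ s * φ jP := by group
          _ = φ jP * (r : G) * (φ jP * φ jP) * φ s * φ jP := by rw [hPP]
          _ = _ := by group
      refine hrn ?_
      rcases hs with hs | hs
      · have h1 := hfix _ (R.mul_mem r.2 hsR) (by rw [hcase, hs])
        have h2 := φ.range.mul_mem h1 (φ.range.inv_mem ⟨s, rfl⟩)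
        rwa [mul_inv_cancel_right] at h2
      · have h1 := hfix _ (R.mul_mem (R.mul_mem r.2 hsR) (hR.q8 _ hQA)) (by
          have hPP : φ jP * φ jP = 1 := by rw [← map_mul, hP2, map_one]
          have hjA : φ jH * φ iA = φ iA * φ jH := by
            rw [← map_mul, ← map_mul, Subgroup.mem_centralizer_singleton_iff.1 hQA.1]
          have hHP : φ jH * φ jP = φ jP * φ jH := by rw [← map_mul, ← map_mul, hPH]
          have hjj : φ jH * φ jH = 1 := by rw [← map_mul, hH2, map_one]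
          have hPA' : φ jP * φ iA = φ iA * φ jP * φ jH := by
            rw [← map_mul, ← map_mul, ← map_mul, hPA]
          calc φ jP * ((r : G) * φ s * φ iA) * φ jP
              = φ jP * ((r : G) * φ s) * 1 * φ iA * φ jP := by group
            _ = φ jP * ((r : G) * φ s) * (φ jP * φ jP) * φ iA * φ jP := by rw [hPP]
            _ = (r : G) * φ (k * (jP * s * jP)) * (φ jP * φ iA) * φ jP := by rw [← hcase]; group
            _ = (r : G) * φ (s * jH) * (φ iA * φ jP * φ jH) * φ jP := by rw [hs, hPA']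
            _ = (r : G) * φ s * (φ jH * φ iA) * (φ jP * (φ jH * φ jP)) := by rw [map_mul]; group
            _ = (r : G) * φ s * φ iA * (φ jH * (φ jP * φ jP) * φ jH) := by
              rw [hjA, hHP]; group
            _ = (r : G) * φ s * φ iA := by rw [hPP, mul_one, hjj, mul_one])
        have h2 := φ.range.mul_mem h1 (φ.range.inv_mem
          (φ.range.mul_mem (⟨s, rfl⟩ : φ s ∈ φ.range) ⟨iA, rfl⟩))
        convert h2 using 1
        group
  intro x hx'
  obtain ⟨n, -, r, hr, rfl⟩ := hR.frat x hx'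
  exact φ.range.mul_mem ⟨n, rfl⟩ (hRr hr)

end Cfsg.Agent.L43Three45.Isolated1
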