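import Cfsg.Agent.Lib.L43Isolated1JModel

/-!
Model computations for the core of the centraliser of the involution (isolated case of S3373).
-/

set_option autoImplicit false
set_option linter.style.haveILetI false
set_option maxRecDepth 8000
set_option maxHeartbeats 2000000

namespace Cfsg.Agent.L43Three45.Isolated1

local notation "M4" => Matrix (Fin 4) (Fin 4) (ZMod 3)

/-! ### Facts about the model -/

theorem jPlane_mem : ∀ q b : ZMod 3, uEl 0 0 q b 0 0 ∈ jCen ∧
    uEl 0 0 q b 0 0 = jP * uEl 0 0 q b 0 0 * jP⁻¹ * (uEl 0 0 q b 0 0)⁻¹ := by decide +kernel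

/-- The group `⟨zH, xH⟩` as the image of a homomorphism. -/
def jPlane : Multiplicative (ZMod 3 × ZMod 3) →* jCen where
  toFun v := ⟨uEl 0 0 v.toAdd.1 v.toAdd.2 0 0, (jPlane_mem _ _).1⟩
  map_one' := by decide +kernel
  map_mul' := by decide +kernel

theorem jPlane_injective : Function.Injective jPlane := by decide +kernel

theorem borel_of_conj : ∀ g ∈ jCen, ∀ q b : ZMod 3,
    g * xH = uEl 0 0 q b 0 0 * g → ((g : L4) : M4) 2 1 = 0 := by
  refine jCen_forall ?_
  decide +kernel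

theorem borel_pow : ∀ g ∈ jCen, IsBorel g → g ^ 36 = 1 := by
  refine jCen_forall ?_
  decide +kernel

theorem borel_three : ∀ g ∈ jCen, IsBorel g → g ^ 9 = 1 →
    g = uEl 0 0 (((g : L4) : M4) 0 3) (((g : L4) : M4) 1 2) 0 0 := by
  refine jCen_forall ?_
  decide +kernel

/-- Centralising `zH` and `xH`. -/
def CentPlane (g : H1) : Prop := g * zH = zH * g ∧ g * xH = xH * g

instance : DecidablePred CentPlane :=
  fun g => inferInstanceAs (Decidable (g * zH = zH * g ∧ g * xH = xH * g))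

theorem borel_xor : ∀ g ∈ jCen, IsBorel g → (CentPlane (g * jP) ↔ ¬ CentPlane g) := by
  refine jCen_forall ?_
  decide +kernel

theorem centPlane_plane : ∀ g ∈ jCen, CentPlane g → ∀ q b : ZMod 3,
    g * uEl 0 0 q b 0 0 = uEl 0 0 q b 0 0 * g := by
  refine jCen_forall ?_
  decide +kernel

theorem jCen_conj_zH : ∀ g ∈ jCen, g * zH = zH * g ∨ g * zH = zH * zH * g := by
  refine jCen_forall ?_
  decide +kernel

theorem jCen_comm_zH {g : H1} (hg : g ∈ jCen) : (g * zH * g⁻¹ * zH⁻¹) ^ 3 = 1 := by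
  have h3 : zH ^ 3 = 1 := zH_cube
  rcases jCen_conj_zH g hg with e | e
  · rw [e, mul_inv_cancel_right, mul_inv_cancel, one_pow]
  · rw [e, mul_inv_cancel_right, mul_inv_cancel_right, h3]

theorem jCen_twelve : ∀ g ∈ jCen, g * zH = zH * g → g ^ 12 = 1 := by
  refine jCen_forall ?_
  decide +kernel

theorem q8_split : ∀ g ∈ jCen, IsQ8 g →
    (IsBorel (iA * g⁻¹) → iA = g ∨ iA = g ^ 3) ∧ (IsBorel (iB * g⁻¹) → iB = g ∨ iB = g ^ 3) := by
  refine jCen_forall ?_
  decide +kernel

theorem q8_word : ∀ g ∈ jCen, IsQ8 g →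
    ∃ a : Fin 4, ∃ b : Fin 2, g = iA ^ a.val * iB ^ b.val := by
  refine jCen_forall ?_
  decide +kernel

theorem q8_cent_xH : ∀ g ∈ jCen, IsQ8 g → g * xH = xH * g → g = 1 ∨ g = jH := by
  refine jCen_forall ?_
  decide +kernel

/-- The word giving `xH` from two pairs of generators of quaternion groups. -/
def xWord {M : Type*} [Mul M] (a b i i' : M) : M := b * i * i' * a * i' * b * i' * b * a * i' * b

theorem xH_word : xH = xWord (piH * iA * piH⁻¹) (piH * iB * piH⁻¹) iA iB := by decide +kernel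

theorem map_xWord {M N : Type*} [Group M] [Group N] (f : M →* N) (a b i i' : M) :
    f (xWord a b i i') = xWord (f a) (f b) (f i) (f i') := by
  simp only [xWord, map_mul]

theorem commute_xWord {M : Type*} [Group M] {c a b i i' : M} (ha : Commute c a) (hb : Commute c b)
    (hi : Commute c i) (hi' : Commute c i') : Commute c (xWord a b i i') :=
  (((((((((hb.mul_right hi).mul_right hi').mul_right ha).mul_right hi').mul_right hb).mul_right
    hi').mul_right hb).mul_right ha).mul_right hi').mul_right hb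

theorem named_facts : iA ∈ jCen ∧ iB ∈ jCen ∧ IsBorel jP ∧ iA * iA = jH ∧ iA ^ 4 = 1 ∧ iB ^ 4 = 1 ∧
    piH * jH * piH⁻¹ = jP ∧ jP * jP = 1 ∧ jH * jH = 1 ∧ jP * xH * jP⁻¹ = xH⁻¹ ∧ xH ^ 3 = 1 ∧
    uEl 0 0 1 0 0 0 = zH ∧ uEl 0 0 0 1 0 0 = xH := by decide +kernel

end Cfsg.Agent.L43Three45.Isolated1
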