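import Cfsg.Agent.Lib.L43Isolated1Local
import Cfsg.Agent.Lib.L43Isolated1InvModel
import Cfsg.Agent.Lib.FrobeniusNilpotent

/-!
The core of the centraliser of the involution (isolated case of S3373): it is a normal
`2`-subgroup meeting `H` in a quaternion group, and the Borel subgroup supplements it.
-/

set_option autoImplicit false
set_option linter.style.haveILetI false
set_option maxRecDepth 8000
set_option maxHeartbeats 2000000

open scoped Pointwise

namespace Cfsg.Agent.L43Three45.Isolated1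

local notation "M4" => Matrix (Fin 4) (Fin 4) (ZMod 3)

local instance : Fact (Nat.Prime 3) := ⟨Nat.prime_three⟩

/-! ### Elements of coprime prime power order in a nilpotent group -/

theorem sylow_normal {T : Type*} [Group T] [Finite T] [Group.IsNilpotent T] {p : ℕ}
    [hp : Fact p.Prime] (S : Sylow p T) : (S : Subgroup T).Normal :=
  (Group.isNilpotent_of_finite_tfae.out 0 3 rfl rfl).mp inferInstance p hp S

theorem mem_sylow_of_nilpotent {T : Type*} [Group T] [Finite T] [Group.IsNilpotent T] {p : ℕ}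
    [Fact p.Prime] (S : Sylow p T) {a : T} {m : ℕ} (ha : a ^ p ^ m = 1) :
    a ∈ (S : Subgroup T) := by
  haveI hn : (S : Subgroup T).Normal := sylow_normal S
  obtain ⟨g, hg⟩ := exists_conj_mem S ha
  simpa [mul_assoc] using hn.conj_mem _ hg g⁻¹

theorem commute_of_nilpotent {T : Type*} [Group T] [Finite T] [Group.IsNilpotent T] {p q : ℕ}
    [Fact p.Prime] [Fact q.Prime] (hne : p ≠ q) {a b : T} {m n : ℕ} (ha : a ^ p ^ m = 1)
    (hb : b ^ q ^ n = 1) : Commute a b := by
  obtain ⟨S⟩ : Nonempty (Sylow p T) := inferInstance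
  obtain ⟨U⟩ : Nonempty (Sylow q T) := inferInstance
  exact Subgroup.commute_of_normal_of_disjoint (S : Subgroup T) (U : Subgroup T)
    (sylow_normal S) (sylow_normal U)
    (IsPGroup.disjoint_of_ne p q hne _ _ S.isPGroup' U.isPGroup') a b
    (mem_sylow_of_nilpotent S ha) (mem_sylow_of_nilpotent U hb)

variable {G : Type*} [Group G] [Finite G] {φ : H1 →* G}

/-- The core of the centraliser of the involution. -/
theorem exists_invR (h : One φ) (hctl : Ctl φ) (hx : CentIn φ xH) (_hpi : CentIn φ piH) :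
    ∃ R : Subgroup G, InvR φ R := by
  obtain ⟨hiA, hiB, hjP, hiA2, hiA4, hiB4, hpj, hjP2, hjH2, hjx, hx3, huz, hux⟩ := named_facts
  set D := Subgroup.centralizer ({φ jH} : Set G)
  let ψ : jCen →* D := restr φ jH
  have hψi : Function.Injective ψ := restr_inj h jH
  have hrange : ∀ b : D, b ∈ ψ.range → (b : G) ∈ φ.range := by
    rintro _ ⟨m, rfl⟩
    exact ⟨m, rfl⟩
  have hzC : zH ∈ jCen := huz ▸ (jPlane_mem 1 0).1
  have hxC : xH ∈ jCen := hux ▸ (jPlane_mem 0 1).1
  let jPC : jCen := ⟨jP, hjP.1⟩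
  -- the Sylow subgroup
  set P : Subgroup D := jPlane.range.map ψ with hPdef
  have hplane : ∀ q b : ZMod 3, ψ ⟨uEl 0 0 q b 0 0, (jPlane_mem q b).1⟩ ∈ P := fun q b =>
    ⟨_, ⟨Multiplicative.ofAdd (q, b), rfl⟩, rfl⟩
  have hzP : ψ ⟨zH, hzC⟩ ∈ P := by
    have := hplane 1 0
    simpa only [huz] using this
  have hxP : ψ ⟨xH, hxC⟩ ∈ P := by
    have := hplane 0 1
    simpa only [hux] using this
  have hcube : ∀ v : Multiplicative (ZMod 3 × ZMod 3), v ^ 3 = 1 := by decide +kernel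
  have hP : IsPGroup 3 P := by
    refine IsPGroup.map ?_ ψ
    rintro ⟨_, v, rfl⟩
    exact ⟨1, Subtype.ext (by rw [pow_one, SubmonoidClass.coe_pow, ← map_pow, hcube, map_one]; rfl)⟩
  have hnorm : ∀ y ∈ Subgroup.normalizer (P : Set D), ∃ m : jCen, ψ m = y ∧ IsBorel (m : H1) := by
    intro y hy
    have h1 := (Subgroup.mem_normalizer_iff.1 hy _).1 hzP
    obtain ⟨m, rfl⟩ : ∃ m : jCen, ψ m = y := mem_restr_range h
      (hctl zH zH_mem_E1 zH_ne y (hrange _ (Subgroup.map_le_range _ _ h1)))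
    obtain ⟨_, ⟨v, rfl⟩, hv⟩ := (Subgroup.mem_normalizer_iff.1 hy _).1 hxP
    refine ⟨m, rfl, m.2, borel_of_conj m m.2 v.toAdd.1 v.toAdd.2 ?_⟩
    have h2 : jPlane v = m * (⟨xH, hxC⟩ : jCen) * m⁻¹ := hψi (by
      rw [map_mul, map_mul, map_inv]; exact hv)
    have h3 : uEl 0 0 v.toAdd.1 v.toAdd.2 0 0 = (m : H1) * xH * (m : H1)⁻¹ :=
      congrArg Subtype.val h2
    rw [h3, inv_mul_cancel_right]
  obtain ⟨S, hS⟩ : ∃ S : Sylow 3 D, (S : Subgroup D) = P := by
    refine exists_sylow_of_normalizer hP fun y hy n hyn => ?_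
    obtain ⟨m, rfl, hm⟩ := hnorm y hy
    have h1 : m ^ 3 ^ n = 1 := hψi (by rw [map_pow, hyn, map_one])
    have h36 : (m : H1) ^ 36 = 1 := borel_pow m m.2 hm
    have h9 : (m : H1) ^ 9 = 1 := by
      rw [← orderOf_dvd_iff_pow_eq_one]
      have a1 : orderOf (m : H1) ∣ 3 ^ n := orderOf_dvd_of_pow_eq_one (congrArg Subtype.val h1)
      have a2 : orderOf (m : H1) ∣ 36 := orderOf_dvd_of_pow_eq_one h36
      obtain ⟨k, -, hk⟩ := (Nat.dvd_prime_pow Nat.prime_three).1 a1
      rw [hk] at a2 ⊢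
      by_contra hlt
      have h3k : 3 ≤ k := by
        by_contra h2
        exact hlt (pow_dvd_pow 3 (show k ≤ 2 by omega))
      exact absurd ((pow_dvd_pow 3 h3k).trans a2) (by norm_num)
    have h2 := borel_three m m.2 hm h9
    have := hplane (((m : H1) : L4).1 0 3) (((m : H1) : L4).1 1 2)
    rwa [show (⟨_, (jPlane_mem _ _).1⟩ : jCen) = m from Subtype.ext h2.symm] at this
  have hPcomm : ∀ p ∈ P, ∀ q ∈ P, p * q = q * p := by
    rintro _ ⟨_, ⟨v, rfl⟩, rfl⟩ _ ⟨_, ⟨w, rfl⟩, rfl⟩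
    rw [← map_mul, ← map_mul, ← map_mul, ← map_mul, mul_comm]
  have hab : IsMulCommutative (S : Subgroup D) := by
    rw [hS]
    exact ⟨⟨fun a b => Subtype.ext (hPcomm _ a.2 _ b.2)⟩⟩
  have hnc : ¬ IsCyclic (S : Subgroup D) := by
    rw [hS]
    intro hc
    have hαi : Function.Injective (ψ.comp jPlane) := hψi.comp jPlane_injective
    have he : P = (ψ.comp jPlane).range := (MonoidHom.range_comp _ _).symm
    rw [he] at hc
    haveI : IsCyclic (Multiplicative (ZMod 3 × ZMod 3)) :=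
      isCyclic_of_surjective (MonoidHom.ofInjective hαi).symm
        (MonoidHom.ofInjective hαi).symm.surjective
    have h1 := IsCyclic.exponent_eq_card (α := Multiplicative (ZMod 3 × ZMod 3))
    have h2 : Monoid.exponent (Multiplicative (ZMod 3 × ZMod 3)) ∣ 3 :=
      Monoid.exponent_dvd_of_forall_pow_eq_one hcube
    have h3 : Nat.card (Multiplicative (ZMod 3 × ZMod 3)) = 9 := by
      rw [Nat.card_congr Multiplicative.toAdd, Nat.card_prod, Nat.card_zmod]
    rw [h1, h3] at h2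
    exact absurd h2 (by norm_num)
  have hcentP : ∀ (y : Subgroup.normalizer (P : Set D)) (m : jCen), ψ m = (y : D) →
      (y ∈ (Subgroup.centralizer (P : Set D)).subgroupOf (Subgroup.normalizer (P : Set D)) ↔
        CentPlane (m : H1)) := by
    intro y m hm
    rw [Subgroup.mem_subgroupOf, Subgroup.mem_centralizer_iff, ← hm]
    constructor
    · intro hy
      have a1 := hy _ hzP
      have a2 := hy _ hxP
      rw [← map_mul, ← map_mul] at a1 a2
      exact ⟨(congrArg Subtype.val (hψi a1)).symm, (congrArg Subtype.val (hψi a2)).symm⟩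
    · rintro hmc _ ⟨_, ⟨v, rfl⟩, rfl⟩
      rw [← map_mul, ← map_mul]
      exact congrArg ψ (Subtype.ext (centPlane_plane m m.2 hmc _ _).symm)
  have hjPN : ψ jPC ∈ Subgroup.normalizer (P : Set D) := by
    refine Subgroup.le_normalizer_map (f := ψ) ⟨jPC, ?_, rfl⟩
    refine Subgroup.mem_normalizer_iff.2 fun p => ?_
    have key : ∀ p : jCen, p ∈ jPlane.range → jPC * p * jPC⁻¹ ∈ jPlane.range := by
      rintro _ ⟨v, rfl⟩
      refine ⟨v⁻¹, Subtype.ext ?_⟩
      have e := (jPlane_mem v.toAdd.1 v.toAdd.2).2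
      have e3 : (jPlane v) ^ 3 = 1 := by rw [← map_pow, hcube, map_one]
      have e4 : jPC * jPlane v * jPC⁻¹ = jPlane v * jPlane v := by
        refine Subtype.ext ?_
        show jP * uEl 0 0 v.toAdd.1 v.toAdd.2 0 0 * jP⁻¹ =
          uEl 0 0 v.toAdd.1 v.toAdd.2 0 0 * uEl 0 0 v.toAdd.1 v.toAdd.2 0 0
        conv_rhs => arg 1; rw [e]
        group
      rw [e4, map_inv, inv_eq_of_mul_eq_one_right (b := jPlane v * jPlane v)
        (by rw [← e3, pow_succ', pow_two])]
    refine ⟨key p, fun hp => ?_⟩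
    have hjj : jPC * jPC = 1 := Subtype.ext hjP2
    have := key _ hp
    rwa [show jPC * (jPC * p * jPC⁻¹) * jPC⁻¹ = (jPC * jPC) * p * (jPC * jPC)⁻¹ by group, hjj,
      one_mul, inv_one, mul_one] at this
  have hidx : ((Subgroup.centralizer ((S : Subgroup D) : Set D)).subgroupOf
      (Subgroup.normalizer ((S : Subgroup D) : Set D))).index = 2 := by
    rw [hS, Subgroup.index_eq_two_iff]
    refine ⟨⟨_, hjPN⟩, fun y => ?_⟩
    obtain ⟨m, hm, hmB⟩ := hnorm y y.2
    rw [hcentP y m hm, hcentP (y * ⟨_, hjPN⟩) (m * jPC) (by rw [map_mul, hm]; rfl)]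
    exact (xor_iff_not_iff _ _).2 (by
      show ¬ (CentPlane ((m : H1) * jP) ↔ CentPlane (m : H1))
      rw [borel_xor m m.2 hmB]
      tauto)
  -- the residual is everything
  have hres : Cfsg.pResidual 3 D = ⊤ := by
    have hjm : ψ jPC ∈ Cfsg.pResidual 3 D := by
      refine TransferPResidual.mem_pResidual_of_coprime ?_
      have : orderOf (ψ jPC) ∣ 2 := orderOf_dvd_of_pow_eq_one (by
        rw [pow_two, ← map_mul, show jPC * jPC = 1 from Subtype.ext hjP2, map_one])
      exact Nat.Coprime.coprime_dvd_left this (by norm_num)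
    have hn : (Cfsg.pResidual 3 D).Normal := inferInstance
    have hle : P ≤ Cfsg.pResidual 3 D := by
      rintro _ ⟨_, ⟨v, rfl⟩, rfl⟩
      have e : jPlane v = jPC * (jPlane v * jPC⁻¹ * (jPlane v)⁻¹) := Subtype.ext (by
        show uEl 0 0 v.toAdd.1 v.toAdd.2 0 0 = _
        conv_lhs => rw [(jPlane_mem v.toAdd.1 v.toAdd.2).2]
        show _ = jP * (uEl 0 0 v.toAdd.1 v.toAdd.2 0 0 * jP⁻¹ * (uEl 0 0 v.toAdd.1 v.toAdd.2 0 0)⁻¹)
        group)
      rw [e, map_mul, map_mul, map_mul, map_inv, map_inv]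
      exact mul_mem hjm (hn.conj_mem _ (inv_mem hjm) _)
    have := TransferPResidual.sup_pResidual_eq_top_of_sylow_le S (le_of_eq_of_le hS hle)
    rwa [sup_idem] at this
  have hlen : Cfsg.PLengthLE 3 1 D :=
    (S3347.result 3 (by norm_num) S hab hnc hidx).resolve_left (fun hne => hne hres)
  set O := Cfsg.pPrimeCore 3 D with hOdef
  haveI hOn : O.Normal := HallCore.pPrimeCore_normal 3 D
  have hO3 : (Nat.card O).Coprime 3 := HallCore.coprime_card_pPrimeCore 3 D
  have hfrat : ∀ x : D, ∃ n : jCen, IsBorel (n : H1) ∧ ∃ o ∈ O, ψ n * o = x := by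
    intro x
    obtain ⟨n, hn, o, ho, hno⟩ := PLengthOne.exists_normalizer_mul hlen S x
    rw [hS] at hn
    obtain ⟨m, hm, hmB⟩ := hnorm n hn
    exact ⟨m, hmB, o, ho, by rw [hm, hno]⟩
  -- the intersection with `H`
  have hinH : ∀ m : jCen, ψ m ∈ O → IsQ8 (m : H1) := by
    intro m hm
    have hm3 : Nat.Coprime (orderOf (m : H1)) 3 := by
      rw [Subgroup.orderOf_coe, ← orderOf_injective ψ hψi m]
      exact hO3.coprime_dvd_left (Subgroup.orderOf_dvd_natCard _ hm)
    have hcz : (m : H1) * zH = zH * (m : H1) := by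
      set zj : jCen := ⟨zH, hzC⟩
      have hk : ψ (m * zj * m⁻¹ * zj⁻¹) ∈ O := by
        rw [show m * zj * m⁻¹ * zj⁻¹ = m * (zj * m⁻¹ * zj⁻¹) by group, map_mul, map_mul, map_mul,
          map_inv, map_inv]
        exact mul_mem hm (hOn.conj_mem _ (inv_mem hm) _)
      have h3 : ψ (m * zj * m⁻¹ * zj⁻¹) ^ 3 = 1 := by
        rw [← map_pow, show (m * zj * m⁻¹ * zj⁻¹) ^ 3 = 1 from
          Subtype.ext (jCen_comm_zH m.2), map_one]
      have h1 : ψ (m * zj * m⁻¹ * zj⁻¹) = 1 := orderOf_eq_one_iff.1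
        (Nat.eq_one_of_dvd_coprimes hO3.symm (orderOf_dvd_of_pow_eq_one h3)
          (Subgroup.orderOf_dvd_natCard _ hk))
      have h2 := congrArg Subtype.val (hψi (h1.trans (map_one ψ).symm))
      exact mul_inv_eq_iff_eq_mul.1 (mul_inv_eq_one.1 h2)
    have hm4 : (m : H1) ^ 4 = 1 := by
      rw [← orderOf_dvd_iff_pow_eq_one]
      have := orderOf_dvd_of_pow_eq_one (jCen_twelve m m.2 hcz)
      exact hm3.dvd_of_dvd_mul_left (show orderOf (m : H1) ∣ 3 * 4 from this)
    exact ⟨m.2, hcz, hm4⟩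
  have hgenO : ∀ i : jCen, (∀ g ∈ jCen, IsQ8 g → IsBorel ((i : H1) * g⁻¹) →
      (i : H1) = g ∨ (i : H1) = g ^ 3) → ψ i ∈ O := by
    intro i hi
    obtain ⟨n, hn, o, ho, hno⟩ := hfrat (ψ i)
    have ho' : ψ (n⁻¹ * i) = o := by rw [map_mul, map_inv, ← hno, inv_mul_cancel_left]
    have hq := hinH _ (ho' ▸ ho)
    have hb : IsBorel ((i : H1) * ((n⁻¹ * i : jCen) : H1)⁻¹) := by
      have : (i : H1) * ((n⁻¹ * i : jCen) : H1)⁻¹ = (n : H1) := by
        simp only [Subgroup.coe_mul, InvMemClass.coe_inv]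
        group
      rw [this]
      exact hn
    rcases hi _ (n⁻¹ * i).2 hq hb with e | e
    · rw [show i = n⁻¹ * i from Subtype.ext e, ho']
      exact ho
    · rw [show i = (n⁻¹ * i) ^ 3 from Subtype.ext e, map_pow, ho']
      exact pow_mem ho 3
  have hA : ψ ⟨iA, hiA⟩ ∈ O := hgenO _ fun g hg hq => (q8_split g hg hq).1
  have hB : ψ ⟨iB, hiB⟩ ∈ O := hgenO _ fun g hg hq => (q8_split g hg hq).2
  have hq8O : ∀ m : jCen, IsQ8 (m : H1) → ψ m ∈ O := by
    intro m hm
    obtain ⟨a, b, hab'⟩ := q8_word m m.2 hm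
    rw [show m = ⟨iA, hiA⟩ ^ a.val * ⟨iB, hiB⟩ ^ b.val from Subtype.ext hab', map_mul, map_pow,
      map_pow]
    exact mul_mem (pow_mem hA _) (pow_mem hB _)
  -- nilpotency
  have hjmem : jH ∈ jCen := Subgroup.mem_centralizer_singleton_iff.2 rfl
  let jj : jCen := ⟨jH, hjmem⟩
  have hjj : jj * jj = 1 := Subtype.ext hjH2
  have hjjO : ψ jj ∈ O := by
    rw [show jj = ⟨iA, hiA⟩ * ⟨iA, hiA⟩ from Subtype.ext hiA2.symm, map_mul]
    exact mul_mem hA hA
  have hjc : ∀ d : D, d * ψ jj = ψ jj * d := fun d =>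
    Subtype.ext (Subgroup.mem_centralizer_singleton_iff.1 d.2)
  set Z : Subgroup O := Subgroup.zpowers ⟨ψ jj, hjjO⟩ with hZdef
  have hZc : Z ≤ Subgroup.center O := Subgroup.zpowers_le.2
    (Subgroup.mem_center_iff.2 fun o => Subtype.ext (hjc o))
  haveI hZn : Z.Normal := ⟨fun n hn g => by
    rw [(Subgroup.mem_center_iff.1 (hZc hn) g), mul_inv_cancel_right]; exact hn⟩
  let σ : MulAut O := MulAut.conjNormal (ψ ⟨xH, hxC⟩)
  have hσ : ∀ o : O, ((σ o : O) : D) = ψ ⟨xH, hxC⟩ * o * (ψ ⟨xH, hxC⟩)⁻¹ := fun o =>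
    MulAut.conjNormal_apply _ o
  have hσZ : ∀ n : O, n ∈ Z → σ n = n := fun n hn => by
    obtain ⟨k, rfl⟩ := hn
    show σ ((⟨ψ jj, hjjO⟩ : O) ^ k) = _
    rw [map_zpow]
    congr 1
    refine Subtype.ext ?_
    rw [hσ, hjc (ψ ⟨xH, hxC⟩), mul_inv_cancel_right]
  have hσmap : Z.map σ.toMonoidHom = Z := by
    ext n
    constructor
    · rintro ⟨a, ha, rfl⟩
      show σ a ∈ Z
      rw [hσZ a ha]
      exact ha
    · intro hn
      exact ⟨n, hn, hσZ n hn⟩
  let θ : MulAut (O ⧸ Z) := QuotientGroup.congr Z Z σ hσmap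
  have hθ : ∀ o : O, θ (QuotientGroup.mk o) = QuotientGroup.mk (σ o) := fun o => rfl
  have hσ3 : ∀ o : O, σ (σ (σ o)) = o := fun o => by
    refine Subtype.ext ?_
    have key : ∀ x a : D, x * (x * (x * a * x⁻¹) * x⁻¹) * x⁻¹ = x ^ 3 * a * (x ^ 3)⁻¹ := fun x a => by
      rw [pow_succ, pow_two]
      group
    rw [hσ, hσ, hσ, key, ← map_pow, show (⟨xH, hxC⟩ : jCen) ^ 3 = 1 from Subtype.ext hx3, map_one, one_mul, inv_one,
      mul_one]
  have hQ8x : ∀ o : O, (o : D) * ψ ⟨xH, hxC⟩ = ψ ⟨xH, hxC⟩ * o → o ∈ Z := by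
    intro o ho
    obtain ⟨m, hm⟩ : ∃ m : jCen, ψ m = (o : D) :=
      mem_restr_range h (hx ((o : D) : G) (congrArg Subtype.val ho))
    have hq := hinH m (hm ▸ o.2)
    have hmx : (m : H1) * xH = xH * (m : H1) := congrArg Subtype.val
      (hψi (show ψ (m * ⟨xH, hxC⟩) = ψ (⟨xH, hxC⟩ * m) by rw [map_mul, map_mul, hm, ho]))
    rcases q8_cent_xH m m.2 hq hmx with e | e
    · rw [show o = 1 from Subtype.ext (by
        rw [← hm, show m = 1 from Subtype.ext e, map_one]; rfl)]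
      exact one_mem _
    · rw [show o = ⟨ψ jj, hjjO⟩ from Subtype.ext (by
        rw [← hm, show m = jj from Subtype.ext e])]
      exact Subgroup.mem_zpowers _
  have hfpf : ∀ t, θ t = t → t = 1 := by
    intro t ht
    induction t using QuotientGroup.induction_on with
    | _ o =>
      rw [hθ, eq_comm, QuotientGroup.eq] at ht
      set z := o⁻¹ * σ o with hz
      have e1 : σ o = o * z := by rw [hz, mul_inv_cancel_left]
      have e3 : z ^ 3 = 1 := by
        have := hσ3 o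
        rw [e1, map_mul, e1, hσZ z ht, map_mul, map_mul, e1, hσZ z ht] at this
        rw [pow_succ, pow_two]
        simpa [mul_assoc] using this
      have e2 : z ^ 2 = 1 := by
        obtain ⟨k, hk⟩ := ht
        rw [← hk, ← zpow_natCast, ← zpow_mul, mul_comm, zpow_mul,
          show (⟨ψ jj, hjjO⟩ : O) ^ ((2 : ℕ) : ℤ) = 1 from by
            rw [zpow_natCast, pow_two]; exact Subtype.ext (by
              show ψ jj * ψ jj = 1
              rw [← map_mul, hjj, map_one]), one_zpow]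
      have ez : z = 1 := by
        calc z = z ^ 3 * (z ^ 2)⁻¹ := by group
          _ = 1 := by rw [e3, e2]; group
      rw [ez, mul_one] at e1
      refine (QuotientGroup.eq_one_iff o).2 (hQ8x o ?_)
      have := congrArg (fun u : O => (u : D)) e1
      simp only [hσ] at this
      exact (mul_inv_eq_iff_eq_mul.1 this).symm
  have hθ3 : θ ^ 3 = 1 := by
    refine MulEquiv.ext fun t => ?_
    induction t using QuotientGroup.induction_on with
    | _ o =>
      show θ (θ (θ (QuotientGroup.mk o))) = QuotientGroup.mk o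
      rw [hθ, hθ, hθ, hσ3]
  haveI : Group.IsNilpotent (O ⧸ Z) :=
    FrobeniusNilpotent.isNilpotent_of_fpf θ hfpf 3 Nat.prime_three hθ3
  haveI hOnil : Group.IsNilpotent O :=
    Subgroup.isNilpotent_of_ker_le_center (QuotientGroup.mk' Z)
      (by rw [QuotientGroup.ker_mk']; exact hZc)
  -- elements of order prime to six
  have hA' : ∀ d : D, (orderOf d).Coprime 36 → d ∈ O := by
    intro d hd
    obtain ⟨n, hn, o, ho, hno⟩ := hfrat d
    rw [← QuotientGroup.eq_one_iff, ← orderOf_eq_one_iff]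
    refine Nat.eq_one_of_dvd_coprimes hd (orderOf_map_dvd (QuotientGroup.mk' O) d)
      (orderOf_dvd_of_pow_eq_one ?_)
    rw [← hno, QuotientGroup.mk_mul, (QuotientGroup.eq_one_iff o).2 ho, mul_one,
      ← QuotientGroup.mk_pow, ← map_pow, show n ^ 36 = 1 from Subtype.ext (borel_pow n n.2 hn),
      map_one, QuotientGroup.mk_one]
  have h36 : ∀ {c : G} {q k : ℕ}, q.Prime → q ≠ 2 → q ≠ 3 → c ^ q ^ k = 1 →
      (orderOf c).Coprime 36 := by
    intro c q k hq h2 h3 hc
    refine Nat.Coprime.coprime_dvd_left (orderOf_dvd_of_pow_eq_one hc) (Nat.Coprime.pow_left k ?_)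
    refine (Nat.Prime.coprime_iff_not_dvd hq).2 fun hd => ?_
    rcases hq.dvd_mul.1 (show q ∣ 2 ^ 2 * 3 ^ 2 from hd) with hd' | hd'
    · exact h2 ((Nat.prime_dvd_prime_iff_eq hq Nat.prime_two).1 (hq.dvd_of_dvd_pow hd'))
    · exact h3 ((Nat.prime_dvd_prime_iff_eq hq Nat.prime_three).1 (hq.dvd_of_dvd_pow hd'))
  -- the odd part is trivial
  have htwo : IsPGroup 2 O := by
    haveI : Fact (Nat.Prime 2) := ⟨Nat.prime_two⟩
    refine IsPGroup.of_card (n := (Nat.card O).primeFactorsList.length)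
      (Nat.eq_prime_pow_of_unique_prime_dvd Nat.card_pos.ne' fun {q} hq hqd => ?_)
    by_contra hq2
    have hq3 : q ≠ 3 := by
      rintro rfl
      exact absurd (Nat.eq_one_of_dvd_coprimes hO3 hqd dvd_rfl) (by norm_num)
    haveI := Fact.mk hq
    obtain ⟨U⟩ : Nonempty (Sylow q O) := inferInstance
    have htriv : ∀ c : O, c ∈ (U : Subgroup O) → c = 1 := by
      -- elements of `U` commuting with `jP` are trivial
      have hquad : ∀ c : O, c ∈ (U : Subgroup O) → ((c : D) : G) ∈ φ.range → c = 1 := by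
        intro c hc hcr
        obtain ⟨m, hm⟩ : ∃ m : jCen, ψ m = (c : D) := mem_restr_range h hcr
        have h4 : c ^ 4 = 1 := Subtype.ext (by
          rw [SubmonoidClass.coe_pow, ← hm, ← map_pow,
            show m ^ 4 = 1 from Subtype.ext (hinH m (hm ▸ c.2)).2.2, map_one]; rfl)
        obtain ⟨k, hk⟩ := U.isPGroup' ⟨c, hc⟩
        have hk' : c ^ q ^ k = 1 := congrArg Subtype.val hk
        rw [← orderOf_eq_one_iff]
        refine Nat.eq_one_of_dvd_coprimes (Nat.Coprime.pow_left k ?_)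
          (orderOf_dvd_of_pow_eq_one hk') (orderOf_dvd_of_pow_eq_one h4)
        refine (Nat.Prime.coprime_iff_not_dvd hq).2 fun hd => hq2 ?_
        exact (Nat.prime_dvd_prime_iff_eq hq Nat.prime_two).1
          (hq.dvd_of_dvd_pow (show q ∣ 2 ^ 2 from hd))
      have hfix : ∀ c : O, c ∈ (U : Subgroup O) →
          (c : D) * ψ jPC = ψ jPC * c → c = 1 := by
        intro c hc hcj
        refine hquad c hc (hx _ ?_)
        obtain ⟨k, hk⟩ := U.isPGroup' ⟨c, hc⟩
        have hk' : c ^ q ^ k = 1 := congrArg Subtype.val hk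
        have hcj' : ((c : D) : G) * φ jP = φ jP * ((c : D) : G) := congrArg Subtype.val hcj
        have hk2 : ((c : D) : G) ^ q ^ k = 1 := by
          have := congrArg (fun u : O => ((u : D) : G)) hk'
          simpa using this
        have hpj' : φ jP = φ piH * φ jH * (φ piH)⁻¹ := by
          rw [← map_inv, ← map_mul, ← map_mul, hpj]
        have hcA : ∀ i : jCen, ψ i ∈ O → (i : H1) ^ 4 = 1 →
            Commute ((c : D) : G) (φ (i : H1)) := by
          intro i hi hi4
          have hi4' : (⟨ψ i, hi⟩ : O) ^ 2 ^ 2 = 1 := Subtype.ext (by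
            rw [SubmonoidClass.coe_pow, ← map_pow,
              show i ^ 2 ^ 2 = 1 from Subtype.ext hi4, map_one]; rfl)
          exact congrArg (fun u : O => ((u : D) : G)) (commute_of_nilpotent hq2 hk' hi4').eq
        have b1 := hcA _ hA hiA4
        have b2 := hcA _ hB hiB4
        generalize ((c : D) : G) = cg at hcj' hk2 b1 b2 ⊢
        have hc' : (φ piH)⁻¹ * cg * φ piH ∈ D := by
          refine Subgroup.mem_centralizer_singleton_iff.2 ?_
          rw [hpj'] at hcj'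
          calc (φ piH)⁻¹ * cg * φ piH * φ jH
              = (φ piH)⁻¹ * (cg * (φ piH * φ jH * (φ piH)⁻¹)) * φ piH := by group
            _ = (φ piH)⁻¹ * (φ piH * φ jH * (φ piH)⁻¹ * cg) * φ piH := by rw [hcj']
            _ = φ jH * ((φ piH)⁻¹ * cg * φ piH) := by group
        have hd : orderOf (⟨_, hc'⟩ : D) = orderOf cg := by
          rw [← Subgroup.orderOf_coe]
          show orderOf ((φ piH)⁻¹ * cg * φ piH) = _
          have := MulEquiv.orderOf_eq (MulAut.conj (φ piH)⁻¹) cg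
          rwa [MulAut.conj_apply, inv_inv] at this
        have hcO : (⟨_, hc'⟩ : D) ∈ O := hA' _ (hd ▸ h36 hq hq2 hq3 hk2)
        -- commutation with the two quaternion groups
        have hk3 : (⟨⟨_, hc'⟩, hcO⟩ : O) ^ q ^ k = 1 := by
          refine Subtype.ext (Subtype.ext ?_)
          simp only [SubmonoidClass.coe_pow, OneMemClass.coe_one]
          rw [show ((φ piH)⁻¹ * cg * φ piH) = (φ piH)⁻¹ * cg * (φ piH)⁻¹⁻¹ by rw [inv_inv],
            conj_pow, hk2]
          group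
        have hcomm2 : ∀ i : jCen, ψ i ∈ O → (i : H1) ^ 4 = 1 →
            cg * φ (piH * (i : H1) * piH⁻¹) = φ (piH * (i : H1) * piH⁻¹) * cg := by
          intro i hi hi4
          have hi4' : (⟨ψ i, hi⟩ : O) ^ 2 ^ 2 = 1 := Subtype.ext (by
            rw [SubmonoidClass.coe_pow, ← map_pow,
              show i ^ 2 ^ 2 = 1 from Subtype.ext hi4, map_one]; rfl)
          have e := congrArg (fun u : O => ((u : D) : G))
            (commute_of_nilpotent hq2 hk3 hi4').eq
          have e' : (φ piH)⁻¹ * cg * φ piH * φ (i : H1) =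
              φ (i : H1) * ((φ piH)⁻¹ * cg * φ piH) := e
          rw [map_mul, map_mul, map_inv]
          calc cg * (φ piH * φ (i : H1) * (φ piH)⁻¹)
              = φ piH * ((φ piH)⁻¹ * cg * φ piH * φ (i : H1)) * (φ piH)⁻¹ := by group
            _ = _ := by rw [e']; group
        have a1 := hcomm2 _ hA hiA4
        have a2 := hcomm2 _ hB hiB4
        rw [xH_word, map_xWord]
        exact (commute_xWord a1 a2 b1 b2).eq
      let τ : MulAut O := MulAut.conjNormal (ψ jPC)
      have hτ : ∀ o : O, ((τ o : O) : D) = ψ jPC * o * (ψ jPC)⁻¹ := fun o =>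
        MulAut.conjNormal_apply _ o
      have hτ2 : ∀ o : O, τ (τ o) = o := fun o => by
        refine Subtype.ext ?_
        rw [hτ, hτ, show ψ jPC * (ψ jPC * (o : D) * (ψ jPC)⁻¹) * (ψ jPC)⁻¹ =
          (ψ jPC * ψ jPC) * (o : D) * (ψ jPC * ψ jPC)⁻¹ by group, ← map_mul,
          show jPC * jPC = 1 from Subtype.ext hjP2, map_one, one_mul, inv_one, mul_one]
      have hstab : ∀ (f : MulAut O) (c : O), c ∈ (U : Subgroup O) → f c ∈ (U : Subgroup O) := by
        intro f c hc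
        obtain ⟨k, hk⟩ := U.isPGroup' ⟨c, hc⟩
        exact mem_sylow_of_nilpotent U (m := k)
          (by rw [← map_pow, show c ^ q ^ k = 1 from congrArg Subtype.val hk, map_one])
      intro c hc
      let f : ↥(U : Subgroup O) → ↥(U : Subgroup O) := fun w =>
        ⟨(w : O)⁻¹ * τ w, mul_mem (inv_mem w.2) (hstab τ _ w.2)⟩
      have hf : Function.Injective f := by
        intro w v e
        have e' : (w : O)⁻¹ * τ w = (v : O)⁻¹ * τ v := congrArg Subtype.val e
        have h1 : τ ((w : O) * (v : O)⁻¹) = (w : O) * (v : O)⁻¹ := by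
          rw [map_mul, map_inv]
          calc τ (w : O) * (τ (v : O))⁻¹ = (w : O) * ((w : O)⁻¹ * τ w) * (τ (v : O))⁻¹ := by group
            _ = (w : O) * (v : O)⁻¹ := by rw [e']; group
        have h2 := congrArg Subtype.val h1
        rw [hτ] at h2
        exact Subtype.ext (mul_inv_eq_one.1
          (hfix _ (mul_mem w.2 (inv_mem v.2)) (mul_inv_eq_iff_eq_mul.1 h2).symm))
      have hinv : ∀ c : O, c ∈ (U : Subgroup O) → τ c = c⁻¹ := by
        intro c hc
        obtain ⟨w, hw⟩ := Finite.injective_iff_surjective.1 hf ⟨c, hc⟩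
        have hw' : (w : O)⁻¹ * τ w = c := congrArg Subtype.val hw
        rw [← hw', map_mul, map_inv, hτ2, mul_inv_rev, inv_inv]
      have e1 : ψ jPC * (c : D) * (ψ jPC)⁻¹ = (c : D)⁻¹ := by
        have := congrArg Subtype.val (hinv c hc)
        rwa [hτ] at this
      have e2 : ψ jPC * (ψ ⟨xH, hxC⟩ * (c : D) * (ψ ⟨xH, hxC⟩)⁻¹) * (ψ jPC)⁻¹ =
          (ψ ⟨xH, hxC⟩ * (c : D) * (ψ ⟨xH, hxC⟩)⁻¹)⁻¹ := by
        have := congrArg Subtype.val (hinv _ (hstab σ c hc))
        rwa [hτ, InvMemClass.coe_inv, hσ] at this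
      have e3 : ψ jPC * ψ ⟨xH, hxC⟩ * (ψ jPC)⁻¹ = (ψ ⟨xH, hxC⟩)⁻¹ := by
        rw [← map_inv, ← map_mul, ← map_mul, ← map_inv]
        exact congrArg ψ (Subtype.ext hjx)
      have hx3' : ψ ⟨xH, hxC⟩ ^ 3 = 1 := by
        rw [← map_pow, show (⟨xH, hxC⟩ : jCen) ^ 3 = 1 from Subtype.ext hx3, map_one]
      generalize hX : ψ ⟨xH, hxC⟩ = x at e2 e3 hx3'
      have e4 : (c : D)⁻¹ * x ^ 2 = x ^ 2 * (c : D)⁻¹ := by
        have e5 : x⁻¹ * (c : D)⁻¹ * x = x * (c : D)⁻¹ * x⁻¹ := by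
          calc x⁻¹ * (c : D)⁻¹ * x
              = (ψ jPC * x * (ψ jPC)⁻¹) * (ψ jPC * (c : D) * (ψ jPC)⁻¹) *
                (ψ jPC * x * (ψ jPC)⁻¹)⁻¹ := by rw [e1, e3]; group
            _ = ψ jPC * (x * (c : D) * x⁻¹) * (ψ jPC)⁻¹ := by group
            _ = x * (c : D)⁻¹ * x⁻¹ := by rw [e2]; group
        calc (c : D)⁻¹ * x ^ 2 = x * (x⁻¹ * (c : D)⁻¹ * x) * x := by rw [pow_two]; group
          _ = x ^ 2 * (c : D)⁻¹ := by rw [e5, pow_two]; group
      have e6 : Commute (c : D) x := by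
        have h1 : Commute (c : D) (x ^ 2) := Commute.inv_left_iff.1 (show Commute (c : D)⁻¹ (x ^ 2) from e4)
        have h2 := h1.pow_right 2
        rwa [← pow_mul, show 2 * 2 = 3 + 1 from rfl, pow_succ, hx3', one_mul] at h2
      rw [← hX] at e6
      exact hquad c hc (hx _ (congrArg Subtype.val e6.eq))
    have hU : (U : Subgroup O) = ⊥ := (Subgroup.eq_bot_iff_forall _).2 htriv
    exact absurd hqd (by
      have := U.not_dvd_index
      rwa [hU, Subgroup.index_bot] at this)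
  refine ⟨O.map D.subtype, Subgroup.map_subtype_le _, fun d hd => ?_, fun g hg => ?_, fun g hg => ?_,
    htwo.map D.subtype, fun x hx' => ?_⟩
  · refine Subgroup.mem_normalizer_iff.2 fun y => ⟨?_, ?_⟩
    · rintro ⟨o, ho, rfl⟩
      exact ⟨_, hOn.conj_mem o ho ⟨d, hd⟩, rfl⟩
    · rintro ⟨o, ho, hoy⟩
      refine ⟨(⟨d, hd⟩ : D)⁻¹ * o * (⟨d, hd⟩ : D)⁻¹⁻¹, hOn.conj_mem o ho _, ?_⟩
      simp only [map_mul, map_inv, hoy, Subgroup.coe_subtype]
      group
  · obtain ⟨o, ho, hoe⟩ := hg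
    obtain ⟨m, hm⟩ : ∃ m : jCen, ψ m = o := mem_restr_range h (b := o) ⟨g, hoe.symm⟩
    have : (m : H1) = g := h.inj ((congrArg Subtype.val hm).trans hoe)
    exact this ▸ hinH m (hm ▸ ho)
  · exact ⟨ψ ⟨g, hg.1⟩, hq8O _ hg, rfl⟩
  · obtain ⟨n, hn, o, ho, hno⟩ := hfrat ⟨x, hx'⟩
    exact ⟨n, hn, o, ⟨o, ho, rfl⟩, congrArg Subtype.val hno⟩

end Cfsg.Agent.L43Three45.Isolated1
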