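import Cfsg.Agent.Lib.L43Isolated1Local
import Cfsg.Agent.Lib.L43Isolated1Inv
import Cfsg.Agent.Lib.L43Isolated1Final
import Cfsg.Agent.Lib.L43Isolated1End

/-!
The isolated case of the three-local recognition of `PSL(4,3)` (S3373): the first parabolic is
the whole group.
-/

set_option autoImplicit false

namespace Cfsg.Agent.L43Three45

open Isolated1 in
/-- If the central class meets the radical only in `E1` then `φ` is onto. -/
theorem range_eq_top {G : Type*} [Group G] [Finite G] {φ : H1 →* G} (h : One φ)
    (hi : Isolated φ) : φ.range = ⊤ := by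
  have hctl := ctl h hi
  have hx := centIn_xH h hctl
  have hpi := centIn_piH (centIn_nH h hctl hx)
  obtain ⟨R, hR⟩ := exists_invR h hctl hx hpi
  exact range_eq_top_of_centralizer h hctl (cent_jH_le_range h hctl hx hpi hR)

end Cfsg.Agent.L43Three45
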