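import Cfsg.Agent.Lib.L43Isolated1Fusion

/-!
Models of the centralisers of `1 + E₁₂` and of the regular element (isolated case of S3373).
-/

set_option autoImplicit false
set_option linter.style.haveILetI false
set_option maxRecDepth 8000
set_option maxHeartbeats 2000000

namespace Cfsg.Agent.L43Three45.Isolated1

open Matrix

local notation "M4" => Matrix (Fin 4) (Fin 4) (ZMod 3)

/-- The centraliser of `xH` in the model. -/
def xCen : Subgroup H1 := Subgroup.centralizer ({xH} : Set H1)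

/-- The matrices of `xCen`. -/
def mM (v2 v3 l b c d : ZMod 3) : M4 :=
  !![1, 0, v2, v3; 0, l, b, c; 0, 0, l, 0; 0, 0, d, 1]

theorem mM_det (v2 v3 l b c d : ZMod 3) (hl : l * l = 1) : (mM v2 v3 l b c d).det = 1 := by
  simp [mM, Matrix.det_succ_row_zero, Fin.sum_univ_succ]
  linear_combination hl

/-- The elements of `xCen`. -/
def mEl (v2 v3 l b c d : ZMod 3) (hl : l * l = 1) : H1 :=
  mkH (mM v2 v3 l b c d) (mM_det v2 v3 l b c d hl) (fun i => by fin_cases i <;> rfl)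

/-- The elements of `xCen` with trivial diagonal. -/
def pEl (v2 v3 b c d : ZMod 3) : H1 := mEl v2 v3 1 b c d (one_mul 1)

theorem mem_xCen {g : H1} (h : g ∈ xCen) :
    ∃ v2 v3 l b c d, ∃ hl : l * l = 1, g = mEl v2 v3 l b c d hl := by
  have e := eq_entries (show g * xH = xH * g from Subgroup.mem_centralizer_singleton_iff.1 h)
  obtain ⟨g00, g10, g20, g30⟩ := col0 g
  have n : ((xH : L4) : M4) = mM 0 0 1 1 0 0 := by decide +kernel
  have e02 := e 0 2
  have e11 := e 1 1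
  have e12 := e 1 2
  have e13 := e 1 3
  have e22 := e 2 2
  have e32 := e 3 2
  simp [n, mM, Matrix.mul_apply, Fin.sum_univ_four] at e02 e11 e12 e13 e22 e32
  have k01 : ((g : L4) : M4) 0 1 = 0 := by linear_combination e02
  have k21 : ((g : L4) : M4) 2 1 = 0 := by linear_combination e22
  have k31 : ((g : L4) : M4) 3 1 = 0 := by linear_combination e32
  have k23 : ((g : L4) : M4) 2 3 = 0 := by linear_combination e13
  have k22 : ((g : L4) : M4) 1 1 = ((g : L4) : M4) 2 2 := by linear_combination e12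
  have hd := (g : L4).2
  rw [Matrix.det_succ_column_zero, Fin.sum_univ_succ] at hd
  simp [Fin.sum_univ_succ, g00, g10, g20, g30, Matrix.det_fin_three, k31, k21, k23, ← k22] at hd
  have hl : ((g : L4) : M4) 1 1 * ((g : L4) : M4) 1 1 = 1 ∧ ((g : L4) : M4) 3 3 = 1 := by
    revert hd
    generalize ((g : L4) : M4) 1 1 = a, ((g : L4) : M4) 3 3 = b
    revert a b
    decide +kernel
  exact ⟨((g : L4) : M4) 0 2, ((g : L4) : M4) 0 3, ((g : L4) : M4) 1 1, ((g : L4) : M4) 1 2,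
    ((g : L4) : M4) 1 3, ((g : L4) : M4) 3 2, hl.1,
    ext12 k01 rfl rfl rfl rfl rfl k21 k22.symm k23 k31 rfl hl.2⟩

theorem mEl_mem (v2 v3 l b c d : ZMod 3) (hl : l * l = 1) : mEl v2 v3 l b c d hl ∈ xCen := by
  refine Subgroup.mem_centralizer_singleton_iff.2 ?_
  have n : ((xH : L4) : M4) = mM 0 0 1 1 0 0 := by decide +kernel
  refine eq_of_matrix ?_
  rw [show ((mEl v2 v3 l b c d hl : L4) : M4) = mM v2 v3 l b c d from rfl, n]
  ext i j
  fin_cases i <;> fin_cases j <;> simp [mM, Matrix.mul_apply, Fin.sum_univ_four] <;> ring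

theorem mem_xCen' (g : xCen) :
    ∃ v2 v3 l b c d, ∃ hl : l * l = 1, (g : H1) = mEl v2 v3 l b c d hl := mem_xCen g.2

theorem one_mM : ((((1 : H1)) : L4) : M4) = mM 0 0 1 0 0 0 := by decide +kernel

/-- The diagonal entry, a homomorphism. -/
def lhom : xCen →* ZMod 3 where
  toFun g := ((g : H1) : L4).1 1 1
  map_one' := by
    rw [show (((1 : xCen) : H1) : L4).1 = mM 0 0 1 0 0 0 from one_mM]
    rfl
  map_mul' g h := by
    obtain ⟨v2, v3, l, b, c, d, hl, eg⟩ := mem_xCen' g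
    obtain ⟨w2, w3, m, b', c', d', hm, eh⟩ := mem_xCen' h
    show ((((g : H1) * (h : H1) : H1) : L4) : M4) 1 1 = _
    rw [coe_mul', eg, eh]
    simp [mEl, coe_mkH, mM, Matrix.mul_apply, Fin.sum_univ_four]

/-- The corner entry, a homomorphism to a group of order three. -/
def chom : xCen →* Multiplicative (ZMod 3) where
  toFun g := Multiplicative.ofAdd (((g : H1) : L4).1 0 3)
  map_one' := by
    rw [show (((1 : xCen) : H1) : L4).1 = mM 0 0 1 0 0 0 from one_mM]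
    rfl
  map_mul' g h := by
    obtain ⟨v2, v3, l, b, c, d, hl, eg⟩ := mem_xCen' g
    obtain ⟨w2, w3, m, b', c', d', hm, eh⟩ := mem_xCen' h
    rw [← ofAdd_add]
    refine congrArg Multiplicative.ofAdd ?_
    show ((((g : H1) * (h : H1) : H1) : L4) : M4) 0 3 = _
    rw [coe_mul', eg, eh]
    simp [mEl, coe_mkH, mM, Matrix.mul_apply, Fin.sum_univ_four]
    ring

theorem mem_ker_lhom {g : xCen} (h : lhom g = 1) :
    ∃ v2 v3 b c d, (g : H1) = pEl v2 v3 b c d := by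
  obtain ⟨v2, v3, l, b, c, d, hl, e⟩ := mem_xCen' g
  have hl1 : l = 1 := by
    rw [← h]
    show l = (((g : H1) : L4) : M4) 1 1
    rw [e]
    rfl
  subst hl1
  exact ⟨v2, v3, b, c, d, e⟩

theorem chom_pEl {g : xCen} {v2 v3 b c d : ZMod 3} (e : (g : H1) = pEl v2 v3 b c d)
    (h : chom g = 1) : v3 = 0 := by
  have h' : (((g : H1) : L4) : M4) 0 3 = 0 := congrArg Multiplicative.toAdd h
  rw [e] at h'
  exact h'

theorem lhom_sq (g : xCen) : lhom g * lhom g = 1 := by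
  obtain ⟨v2, v3, l, b, c, d, hl, e⟩ := mem_xCen' g
  show (((g : H1) : L4) : M4) 1 1 * (((g : H1) : L4) : M4) 1 1 = 1
  rw [e]
  exact hl

/-- The distinguished elements. -/
def xC : xCen := ⟨xH, by rw [xCen, Subgroup.mem_centralizer_singleton_iff]⟩
def eC : xCen := ⟨eH, by rw [xCen, Subgroup.mem_centralizer_singleton_iff]; decide +kernel⟩
def zC : xCen := ⟨zH, by rw [xCen, Subgroup.mem_centralizer_singleton_iff]; decide +kernel⟩
def cC : xCen := ⟨x13, by rw [xCen, Subgroup.mem_centralizer_singleton_iff]; decide +kernel⟩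
def dC : xCen := ⟨x32, by rw [xCen, Subgroup.mem_centralizer_singleton_iff]; decide +kernel⟩
def jC : xCen := ⟨jH, by rw [xCen, Subgroup.mem_centralizer_singleton_iff]; decide +kernel⟩

theorem inverted_gens :
    eH = jH * (eH * jH⁻¹ * eH⁻¹) ∧ x13 = jH * (x13 * jH⁻¹ * x13⁻¹) ∧
      x32 = jH * (x32 * jH⁻¹ * x32⁻¹) ∧
      xH = x13 * x32 * x13⁻¹ * x32⁻¹ ∧ jH * jH = 1 := by decide +kernel

theorem pEl_word : ∀ v2 b c d : ZMod 3, pEl v2 0 b c d =
    eH ^ v2.val * x13 ^ c.val * x32 ^ d.val * xH ^ (b - c * d).val := by decide +kernel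

theorem pEl_nine : ∀ v2 v3 b c d : ZMod 3, pEl v2 v3 b c d ^ 9 = 1 := by decide +kernel

theorem pEl_cube : ∀ v2 b c d : ZMod 3, pEl v2 0 b c d ^ 3 = 1 := by decide +kernel

theorem pEl_central : ∀ b : ZMod 3, pEl 0 0 b 0 0 = xH ^ b.val := by decide +kernel

theorem pEl_mul (v2 v3 b c d w2 w3 b' c' d' : ZMod 3) :
    pEl v2 v3 b c d * pEl w2 w3 b' c' d' =
      pEl (w2 + v2 + v3 * d') (w3 + v3) (b' + b + c * d') (c' + c) (d + d') :=
  ext_entries fun i j => by
    rw [coe_mul']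
    fin_cases i <;> fin_cases j <;>
      simp [pEl, mEl, coe_mkH, mM, Matrix.mul_apply, Fin.sum_univ_four] <;> ring

/-- Elements with trivial corner commute modulo the centre. -/
theorem pEl_comm_mod (v2 b c d w2 b' c' d' : ZMod 3) :
    ∃ k : ℕ, pEl v2 0 b c d * pEl w2 0 b' c' d' =
      pEl w2 0 b' c' d' * pEl v2 0 b c d * xH ^ k := by
  refine ⟨(c * d' - c' * d).val, ?_⟩
  rw [← pEl_central, pEl_mul, pEl_mul, pEl_mul]
  congr 1 <;> ring

theorem pEl_center_comm (v2 b : ZMod 3) (w2 w3 b' c' d' : ZMod 3) :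
    pEl v2 0 b 0 0 * pEl w2 w3 b' c' d' = pEl w2 w3 b' c' d' * pEl v2 0 b 0 0 := by
  rw [pEl_mul, pEl_mul]
  congr 1 <;> ring

theorem pEl_centre {v2 v3 b c d : ZMod 3}
    (h1 : pEl v2 v3 b c d * x13 = x13 * pEl v2 v3 b c d)
    (h2 : pEl v2 v3 b c d * x32 = x32 * pEl v2 v3 b c d) : v3 = 0 ∧ c = 0 ∧ d = 0 := by
  have n1 : x13 = pEl 0 0 0 1 0 := by decide +kernel
  have n2 : x32 = pEl 0 0 0 0 1 := by decide +kernel
  rw [n1, pEl_mul, pEl_mul] at h1
  rw [n2, pEl_mul, pEl_mul] at h2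
  have a := congrArg (fun g : H1 => ((g : L4) : M4) 1 2) h1
  have b1 := congrArg (fun g : H1 => ((g : L4) : M4) 1 2) h2
  have c1 := congrArg (fun g : H1 => ((g : L4) : M4) 0 2) h2
  simp [pEl, mEl, coe_mkH, mM] at a b1 c1
  refine ⟨?_, ?_, ?_⟩
  · linear_combination c1
  · linear_combination b1
  · linear_combination a

theorem x13_mul_eH_notMem : ∀ k i : Fin 3,
    x13 * eH ^ k.val ≠ xH ^ i.val ∧ eH ≠ xH ^ i.val ∧
      jH * x13 * jH⁻¹ * x13⁻¹ ≠ xH ^ i.val := by decide +kernel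

theorem xH_pow_mod (n : ℕ) : ∃ i : Fin 3, xH ^ n = xH ^ i.val :=
  ⟨⟨n % 3, Nat.mod_lt _ (by norm_num)⟩, pow_eq_pow_mod n (by decide +kernel)⟩

/-- The elements of `E1` centralising `xH`. -/
theorem E1_inf_xCen {g : xCen} (h : ((g : H1) : L4) ∈ E1) :
    ∃ v2 v3, (g : H1) = pEl v2 v3 0 0 0 := by
  obtain ⟨v2, v3, l, b, c, d, hl, e⟩ := mem_xCen' g
  rw [e] at h
  obtain rfl : l = 1 := h.1 1 1 (by decide)
  obtain rfl : b = 0 := h.1 1 2 (by decide)
  obtain rfl : c = 0 := h.1 1 3 (by decide)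
  obtain rfl : d = 0 := h.1 3 2 (by decide)
  exact ⟨v2, v3, e⟩

theorem pEl_E1_comm : ∀ v2 v3 w2 w3 : ZMod 3,
    pEl v2 v3 0 0 0 * pEl w2 w3 0 0 0 = pEl w2 w3 0 0 0 * pEl v2 v3 0 0 0 ∧
      pEl v2 v3 0 0 0 ^ 3 = 1 := by decide +kernel

theorem eH_mem_E1 : (eH : L4) ∈ E1 := by
  refine ⟨fun i j hi => ?_, eH.2⟩
  fin_cases i <;> fin_cases j <;> first | rfl | exact absurd rfl hi

theorem eH_ne : eH ≠ 1 ∧ (zH ≠ 1) ∧ ∀ k : Fin 3, zH ≠ eH ^ k.val := by decide +kernel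

/-- The conjugator from `xH` to an element of the plane. -/
def planeM (x w : ZMod 3) : M4 := !![1, x, 0, 0; 0, w, 0, 0; 0, 0, 0, -w; 0, 0, 1, 0]

theorem planeM_spec : ∀ x w : ZMod 3, w ≠ 0 → (planeM x w).det = 1 ∧
    planeM x w * ((xH : L4) : M4) = uM 0 0 x 0 w 0 * planeM x w := by decide +kernel

/-- The elements of the plane `⟨zH, x13⟩` off `E1` are conjugate to `xH`. -/
theorem plane_conj {x w : ZMod 3} (hw : w ≠ 0) :
    ∃ k : H1, uEl 0 0 x 0 w 0 = k * xH * k⁻¹ := by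
  obtain ⟨h1, h2⟩ := planeM_spec x w hw
  refine ⟨mkH _ h1 (fun i => by fin_cases i <;> rfl), ?_⟩
  rw [eq_mul_inv_iff_mul_eq]
  refine eq_of_matrix ?_
  simp only [uEl, coe_mkH]
  exact h2.symm

theorem x13_conj : ∃ k : H1, x13 = k * xH * k⁻¹ := by
  obtain ⟨k, hk⟩ := plane_conj (x := 0) (w := 1) one_ne_zero
  exact ⟨k, by rw [← hk]; decide +kernel⟩

/-- The centraliser of the regular element in the model. -/
def nCen : Subgroup H1 := Subgroup.centralizer ({nH} : Set H1)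

theorem mem_nCen (g : nCen) : ∃ x w u, (g : H1) = uEl 0 0 x u w u :=
  cent_nH (Subgroup.mem_centralizer_singleton_iff.1 g.2)

theorem uEl_mem_nCen (x w u : ZMod 3) : uEl 0 0 x u w u ∈ nCen :=
  Subgroup.mem_centralizer_singleton_iff.2 (eq_of_matrix (aEl_comm x w u))

theorem uM_mul_nCen : ∀ x w u : ZMod 3, ∀ x' w' u' : ZMod 3,
    uM 0 0 x u w u * uM 0 0 x' u' w' u' = uM 0 0 x' u' w' u' * uM 0 0 x u w u := by
  decide +kernel

theorem uEl_nine : ∀ x w u : ZMod 3, uEl 0 0 x u w u ^ 9 = 1 := by decide +kernel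

theorem nCen_comm (g h : nCen) : g * h = h * g := by
  obtain ⟨x, w, u, e⟩ := mem_nCen g
  obtain ⟨x', w', u', e'⟩ := mem_nCen h
  refine Subtype.ext ?_
  rw [Subgroup.coe_mul, Subgroup.coe_mul, e, e']
  exact eq_of_matrix (uM_mul_nCen x w u x' w' u')

/-- The plane `⟨zH, x13⟩` as the image of a homomorphism. -/
def planeHom : Multiplicative (ZMod 3 × ZMod 3) →* nCen where
  toFun v := ⟨uEl 0 0 v.toAdd.1 0 v.toAdd.2 0, uEl_mem_nCen _ _ 0⟩
  map_one' := by decide +kernel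
  map_mul' := by decide +kernel

theorem planeHom_injective : Function.Injective planeHom := by decide +kernel

theorem plane_cases {x w : ZMod 3} (h : uEl 0 0 x 0 w 0 ≠ 1) :
    w ≠ 0 ∨ ((uEl 0 0 x 0 w 0 : H1) : L4) ∈ E1 := by
  by_cases hw : w = 0
  · subst hw
    refine Or.inr ⟨fun i j hi => ?_, (uEl 0 0 x 0 0 0).2⟩
    fin_cases i <;> fin_cases j <;> first | rfl | exact absurd rfl hi
  · exact Or.inl hw

end Cfsg.Agent.L43Three45.Isolated1
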