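import Cfsg.Agent.Lib.L43Isolated1InvModel
import Cfsg.Agent.Lib.L43Isolated1Cent

/-!
Model computations for the final analysis of the core of the involution centraliser (isolated
case of S3373).
-/

set_option autoImplicit false
set_option linter.style.haveILetI false
set_option maxRecDepth 8000
set_option maxHeartbeats 2000000

namespace Cfsg.Agent.L43Three45.Isolated1

/-- The four group `⟨jH, jP⟩`. -/
def IsV (g : H1) : Prop := g = 1 ∨ g = jH ∨ g = jP ∨ g = jP * jH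

instance : DecidablePred IsV :=
  fun g => inferInstanceAs (Decidable (g = 1 ∨ g = jH ∨ g = jP ∨ g = jP * jH))

/-- The four group `⟨jH, jP⟩` as a subgroup. -/
def vGrp : Subgroup H1 where
  carrier := {g | IsV g}
  one_mem' := Or.inl rfl
  mul_mem' := by
    rintro a b (rfl | rfl | rfl | rfl) (rfl | rfl | rfl | rfl) <;>
      (show IsV _; decide +kernel)
  inv_mem' := by
    rintro a (rfl | rfl | rfl | rfl) <;> (show IsV _; decide +kernel)

theorem vGrp_sq {g : H1} (hg : g ∈ vGrp) : g * g = 1 := by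
  rcases hg with rfl | rfl | rfl | rfl <;> decide +kernel

theorem vGrp_conj {g : H1} (hg : g ∈ vGrp) :
    piH * g * piH⁻¹ ∈ vGrp ∧ g * jH = jH * g ∧ g * jP = jP * g := by
  rcases hg with rfl | rfl | rfl | rfl <;> (refine ⟨?_, ?_, ?_⟩ <;> first | (show IsV _; decide +kernel) | decide +kernel)

theorem fin_T : ∀ n ∈ jCen, IsBorel n → ∀ a : Fin 4, ∀ b : Fin 2,
    jP * n * jP = n * (iA ^ a.val * iB ^ b.val) → IsV n := by
  refine jCen_forall ?_
  decide +kernel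

theorem q8_fin : ∀ g ∈ jCen, IsQ8 g →
    (g * jP = jP * g → g = 1 ∨ g = jH) ∧ (g * x21 = x21 * g → g = 1 ∨ g = jH) ∧
      (g * iA = iA * g ∨ g * iA = jH * (iA * g)) := by
  refine jCen_forall ?_
  decide +kernel

theorem q8_split_coset : ∀ a : Fin 4, ∀ b : Fin 2,
    jP * (iA ^ a.val * iB ^ b.val) * jP * (iA ^ a.val * iB ^ b.val) = 1 →
    ∃ a' : Fin 4, ∃ b' : Fin 2,
      iA ^ a.val * iB ^ b.val * (jP * (iA ^ a'.val * iB ^ b'.val) * jP) =
          iA ^ a'.val * iB ^ b'.val ∨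
      iA ^ a.val * iB ^ b.val * (jP * (iA ^ a'.val * iB ^ b'.val) * jP) =
          iA ^ a'.val * iB ^ b'.val * jH := by decide +kernel

theorem fin_named : piH⁻¹ * jP * piH = jH ∧ piH⁻¹ * jH * piH = jP * jH ∧
    piH⁻¹ * x13 * piH = x21 ∧ piH * jP * piH⁻¹ = jP * jH ∧ piH ^ 3 = 1 ∧
    piH = iA * (piH * iA * piH⁻¹) * jH ∧ iA * jP = jP * iA * jH ∧ jP * iA = iA * jP * jH ∧
    x21 ^ 3 = 1 ∧ x21 ∈ jCen ∧ zH ∈ jCen ∧ xH ∈ jCen ∧ jP * jH = jH * jP ∧
    IsQ8 jH ∧ IsQ8 iA ∧ IsQ8 iB ∧ ¬ IsQ8 (jP * jH) ∧ ¬ IsQ8 jP ∧ x13 ^ 3 = 1 ∧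
    jP * jP = 1 ∧ jH * jH = 1 ∧ iB * zH = zH * iB := by decide +kernel

theorem piH_cent_V : ∀ g : H1, IsV g → piH * g = g * piH → g = 1 := by
  rintro g (rfl | rfl | rfl | rfl) <;> decide +kernel

/-- The plane `⟨x13, x23⟩`. -/
def pl9 (c d : ZMod 3) : H1 := uEl 0 0 0 0 c d

theorem pl9_facts : (∀ c d c' d' : ZMod 3, pl9 c d * pl9 c' d' = pl9 (c + c') (d + d')) ∧
    pl9 0 0 = 1 ∧ pl9 1 0 = x13 ∧
    ∀ c d : ZMod 3, (c ≠ 0 ∨ d ≠ 0) → ∃ a : Fin 4, ∃ b : Fin 2, ∃ e : Fin 4,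
      (iB ^ a.val * jP ^ b.val * iB ^ e.val) * x13 =
        pl9 c d * (iB ^ a.val * jP ^ b.val * iB ^ e.val) := by decide +kernel

end Cfsg.Agent.L43Three45.Isolated1
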