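import Mathlib
import Cfsg.Agent.Lib.EngelClass65

/-!
General lemmas used in the isolated case of S3373.
-/

set_option autoImplicit false
set_option linter.style.haveILetI false

open scoped commutatorElement

namespace Cfsg.Agent.L43Three45.Isolated1

variable {G : Type*} [Group G] [Finite G] {p : ℕ} [hp : Fact p.Prime]

/-- A `p`-subgroup of the largest possible order is a Sylow subgroup. -/
theorem exists_sylow_of_card {P : Subgroup G} {n : ℕ} (hc : Nat.card P = p ^ n)
    (hn : ¬ p ^ (n + 1) ∣ Nat.card G) : ∃ S : Sylow p G, (S : Subgroup G) = P := by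
  obtain ⟨S, hS⟩ := (IsPGroup.of_card (n := n) hc).exists_le_sylow
  refine ⟨S, (Subgroup.eq_of_le_of_card_ge hS ?_).symm⟩
  obtain ⟨m, hm⟩ := IsPGroup.iff_card.1 S.isPGroup'
  rw [hc, hm]
  refine Nat.pow_le_pow_right hp.out.pos ?_
  by_contra hlt
  exact hn ((pow_dvd_pow p (Nat.succ_le_of_lt (not_le.1 hlt))).trans
    (hm ▸ Subgroup.card_subgroup_dvd_card (S : Subgroup G)))

/-- A `p`-subgroup containing every `p`-element of its normaliser is a Sylow subgroup. -/
theorem exists_sylow_of_normalizer {P : Subgroup G} (hP : IsPGroup p P)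
    (hN : ∀ x ∈ Subgroup.normalizer (P : Set G), ∀ n : ℕ, x ^ p ^ n = 1 → x ∈ P) :
    ∃ S : Sylow p G, (S : Subgroup G) = P := by
  obtain ⟨S, hS⟩ := hP.exists_le_sylow
  refine ⟨S, le_antisymm ?_ hS⟩
  by_contra h
  haveI : Group.IsNilpotent (S : Subgroup G) := S.isPGroup'.isNilpotent
  have hlt : P.subgroupOf (S : Subgroup G) < ⊤ :=
    lt_of_le_of_ne le_top fun e => h (Subgroup.subgroupOf_eq_top.1 e)
  obtain ⟨x, hx, hxP⟩ := SetLike.exists_of_lt (Group.normalizerCondition_of_isNilpotent _ hlt)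
  obtain ⟨n, hn⟩ := S.isPGroup' x
  refine hxP (hN _ (Subgroup.mem_normalizer_iff.2 fun y => ?_) n (congrArg Subtype.val hn))
  have hn' := Subgroup.mem_normalizer_iff.1 hx
  constructor
  · intro hy
    exact Subgroup.mem_subgroupOf.1 ((hn' ⟨y, hS hy⟩).1 (Subgroup.mem_subgroupOf.2 hy))
  · intro hy
    have hyS : y ∈ (S : Subgroup G) := by
      have h1 := mul_mem (mul_mem (inv_mem x.2) (hS hy)) x.2
      simpa [mul_assoc] using h1
    exact Subgroup.mem_subgroupOf.1 ((hn' ⟨y, hyS⟩).2 (Subgroup.mem_subgroupOf.2 hy))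

/-- An element of prime power order is conjugate into a given Sylow subgroup. -/
theorem exists_conj_mem (S : Sylow p G) {x : G} {n : ℕ} (hx : x ^ p ^ n = 1) :
    ∃ g : G, g * x * g⁻¹ ∈ (S : Subgroup G) := by
  have hZ : IsPGroup p (Subgroup.zpowers x) := by
    obtain ⟨k, -, hk⟩ := (Nat.dvd_prime_pow hp.out).1 (orderOf_dvd_of_pow_eq_one hx)
    exact IsPGroup.of_card (n := k) (by rw [Nat.card_zpowers, hk])
  obtain ⟨Q, hQ⟩ := hZ.exists_le_sylow
  obtain ⟨g, hg⟩ := MulAction.exists_smul_eq G Q S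
  refine ⟨g, ?_⟩
  rw [← hg, Sylow.coe_subgroup_smul, Subgroup.mem_pointwise_smul_iff_inv_smul_mem]
  simpa [mul_assoc] using hQ (Subgroup.mem_zpowers x)

omit hp in
/-- For a fixed-point-free automorphism of order three, the norm vanishes. -/
theorem norm_eq_one (σ : G ≃* G) (hf : ∀ x, σ x = x → x = 1) (h3 : ∀ x, σ (σ (σ x)) = x) (v : G) :
    v * σ v * σ (σ v) = 1 := by
  have hinj : Function.Injective fun w => w⁻¹ * σ w := by
    intro a b e
    have e' : a⁻¹ * σ a = b⁻¹ * σ b := e
    have : σ (a * b⁻¹) = a * b⁻¹ := by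
      rw [map_mul, map_inv, mul_inv_eq_iff_eq_mul]
      calc σ a = a * (a⁻¹ * σ a) := by group
        _ = a * b⁻¹ * σ b := by rw [e', mul_assoc]
    exact mul_inv_eq_one.1 (hf _ this)
  obtain ⟨w, rfl⟩ := Finite.injective_iff_surjective.1 hinj v
  simp only [map_mul, map_inv, h3]
  group

omit hp in
/-- For a fixed-point-free automorphism of order three, every element commutes with all the
conjugates of its image. -/
theorem commute_conj_image (σ : G ≃* G) (hf : ∀ x, σ x = x → x = 1)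
    (h3 : ∀ x, σ (σ (σ x)) = x) (a g : G) : Commute a (g * σ a * g⁻¹) := by
  set τ := σ.trans (MulAut.conj g) with hτ
  have hτa : ∀ x, τ x = g * σ x * g⁻¹ := fun _ => rfl
  have hN := norm_eq_one σ hf h3
  have h3' : ∀ x, τ (τ (τ x)) = x := fun x => by
    simp only [hτa, map_mul, map_inv, h3]
    rw [show g * (σ g * (σ (σ g) * x * (σ (σ g))⁻¹) * (σ g)⁻¹) * g⁻¹ =
      (g * σ g * σ (σ g)) * x * (g * σ g * σ (σ g))⁻¹ by group, hN]
    group
  have hf' : ∀ x, τ x = x → x = 1 := by
    intro x hx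
    obtain ⟨w, hw⟩ : ∃ w, w⁻¹ * σ w = g := by
      refine Finite.injective_iff_surjective.1 (fun a b e => ?_) g
      have e' : a⁻¹ * σ a = b⁻¹ * σ b := e
      have : σ (a * b⁻¹) = a * b⁻¹ := by
        rw [map_mul, map_inv, mul_inv_eq_iff_eq_mul]
        calc σ a = a * (a⁻¹ * σ a) := by group
          _ = a * b⁻¹ * σ b := by rw [e', mul_assoc]
      exact mul_inv_eq_one.1 (hf _ this)
    have h1 : σ (w * x * w⁻¹) = w * x * w⁻¹ := by
      conv_rhs => rw [← hx, hτa, ← hw]
      simp only [map_mul, map_inv]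
      group
    have := hf _ h1
    calc x = w⁻¹ * (w * x * w⁻¹) * w := by group
      _ = 1 := by rw [this]; group
  have e1 := norm_eq_one τ hf' h3' (τ a)
  have e2 := norm_eq_one (τ.trans τ) (fun x hx => hf' x (by
    have hx' : τ (τ x) = x := hx
    have := congrArg τ hx'
    rw [h3'] at this
    exact this.symm)) (fun x => by simp only [MulEquiv.trans_apply, h3']) a
  simp only [MulEquiv.trans_apply, h3'] at e1 e2
  -- `e1 : τ a * τ (τ a) * a = 1`, `e2 : a * τ (τ a) * τ a = 1`
  have k1 : τ (τ a) = (τ a)⁻¹ * a⁻¹ := by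
    calc τ (τ a) = (τ a)⁻¹ * (τ a * τ (τ a) * a) * a⁻¹ := by group
      _ = _ := by rw [e1, mul_one]
  have k2 : τ (τ a) = a⁻¹ * (τ a)⁻¹ := by
    calc τ (τ a) = a⁻¹ * (a * τ (τ a) * τ a) * (τ a)⁻¹ := by group
      _ = _ := by rw [e2, mul_one]
  have := congrArg (fun u => u⁻¹) (k1.symm.trans k2)
  simp only [mul_inv_rev, inv_inv] at this
  rw [← hτa]
  exact this

omit hp in
/-- A `2`-group with a fixed-point-free automorphism of order three has class at most two. -/
theorem commutator_central (hG : IsPGroup 2 G) (σ : G ≃* G) (hf : ∀ x, σ x = x → x = 1)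
    (h3 : ∀ x, σ (σ (σ x)) = x) (a b g : G) : g * ⁅a, b⁆ = ⁅a, b⁆ * g := by
  refine EngelClass65.class_two_aux (Nat.card G) G le_rfl hG (fun x c => ?_) a b g
  have hf2 : ∀ x, (σ.trans σ) x = x → x = 1 := fun x hx => hf x (by
    have hx' : σ (σ x) = x := hx
    have := congrArg σ hx'
    rw [h3] at this
    exact this.symm)
  have h32 : ∀ x, (σ.trans σ) ((σ.trans σ) ((σ.trans σ) x)) = x := fun x => by
    simp only [MulEquiv.trans_apply, h3]
  have c1 := commute_conj_image σ hf h3 x c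
  have c2 := commute_conj_image (σ.trans σ) hf2 h32 x c
  have e : c * x * c⁻¹ = ((c * σ x * c⁻¹) * (c * (σ.trans σ) x * c⁻¹))⁻¹ := by
    have hn := norm_eq_one σ hf h3 x
    rw [MulEquiv.trans_apply]
    calc c * x * c⁻¹ = c * (x * σ x * σ (σ x)) * ((σ x * σ (σ x))⁻¹) * c⁻¹ := by group
      _ = _ := by rw [hn]; group
  rw [e]
  exact (c1.mul_right c2).inv_right

/-- A nonempty set stable under a permutation of order dividing three whose cardinality is a power
of two contains a fixed point. -/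
theorem exists_fixed_three {α : Type*} [Finite α] {σ : Equiv.Perm α}
    (hσ : ∀ x, σ (σ (σ x)) = x) (hc : ∃ n, Nat.card α = 2 ^ n) : ∃ a, σ a = a := by
  classical
  haveI := Fintype.ofFinite α
  haveI : Fact (Nat.Prime 3) := ⟨Nat.prime_three⟩
  refine Equiv.Perm.exists_fixed_point_of_prime (p := 3) (n := 1) ?_ (Equiv.ext fun x => ?_)
  · obtain ⟨n, hn⟩ := hc
    rw [← Nat.card_eq_fintype_card, hn]
    intro h
    exact absurd (Nat.prime_three.dvd_of_dvd_pow h) (by norm_num)
  · simpa [pow_succ] using hσ x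

end Cfsg.Agent.L43Three45.Isolated1
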