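import Cfsg.Agent.Lib.L43Base45

/-!
The computations inside the model `H1` for the isolated case of S3373.
-/

set_option autoImplicit false
set_option linter.style.haveILetI false
set_option maxRecDepth 8000
set_option maxHeartbeats 2000000

namespace Cfsg.Agent.L43Three45.Isolated1

open Matrix

local notation "M4" => Matrix (Fin 4) (Fin 4) (ZMod 3)

theorem mk_eq {a : L4} {ha : a ∈ H1} {g : H1} (h : (g : L4) = a) : g = ⟨a, ha⟩ := Subtype.ext h

/-! ### Named elements -/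

/-- `1 + E₀₃`. -/
def zH : H1 := ⟨z4, z4_mem⟩
/-- `1 + E₀₂`. -/
def eH : H1 := ⟨tv 0 2 (by decide) 1, by decide +kernel⟩
/-- `1 + E₁₂`. -/
def xH : H1 := ⟨tv 1 2 (by decide) 1, by decide +kernel⟩
/-- `1 + E₁₃`. -/
def x13 : H1 := ⟨tv 1 3 (by decide) 1, by decide +kernel⟩
/-- `1 + E₂₃`. -/
def x23 : H1 := ⟨tv 2 3 (by decide) 1, by decide +kernel⟩
/-- `1 + E₃₂`. -/
def x32 : H1 := ⟨tv 3 2 (by decide) 1, by decide +kernel⟩
/-- `1 + E₂₁`. -/
def x21 : H1 := ⟨tv 2 1 (by decide) 1, by decide +kernel⟩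
/-- The regular element `1+E₁₂+E₂₃`. -/
def nH : H1 := x23 * xH
def jH : H1 := ⟨j4, by decide +kernel⟩
def jP : H1 := ⟨sgn2 1 3 (by decide), by decide +kernel⟩
def jQ : H1 := ⟨r1, r1_mem⟩
/-- The matrix of `iA`. -/
def iAL : L4 := ⟨!![1, 0, 0, 0; 0, 0, -1, 0; 0, 1, 0, 0; 0, 0, 0, 1], by decide +kernel⟩
/-- An element of order four with square `jH`. -/
def iA : H1 := ⟨iAL, by decide +kernel⟩
/-- The matrix of `iB`. -/
def iBL : L4 := ⟨!![1, 0, 0, 0; 0, 1, 1, 0; 0, 1, -1, 0; 0, 0, 0, 1], by decide +kernel⟩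
/-- A second element of order four with square `jH`. -/
def iB : H1 := ⟨iBL, by decide +kernel⟩
/-- The matrix of `piH`. -/
def piHL : L4 := ⟨!![1, 0, 0, 0; 0, 0, 1, 0; 0, 0, 0, 1; 0, 1, 0, 0], by decide +kernel⟩
/-- The monomial three-cycle on the indices `1, 2, 3`. -/
def piH : H1 := ⟨piHL, by decide +kernel⟩

theorem ext_entries {g h : H1}
    (e : ∀ i j : Fin 4, ((g : L4) : M4) i j = ((h : L4) : M4) i j) : g = h :=
  Subtype.ext (Subtype.ext (Matrix.ext e))

theorem col0 (g : H1) : ((g : L4) : M4) 0 0 = 1 ∧ ((g : L4) : M4) 1 0 = 0 ∧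
    ((g : L4) : M4) 2 0 = 0 ∧ ((g : L4) : M4) 3 0 = 0 :=
  ⟨g.2 0, g.2 1, g.2 2, g.2 3⟩

/-- Elements of `H1` agree when their last three columns agree. -/
theorem ext12 {g h : H1}
    (e01 : ((g : L4) : M4) 0 1 = ((h : L4) : M4) 0 1) (e02 : ((g : L4) : M4) 0 2 = ((h : L4) : M4) 0 2)
    (e03 : ((g : L4) : M4) 0 3 = ((h : L4) : M4) 0 3) (e11 : ((g : L4) : M4) 1 1 = ((h : L4) : M4) 1 1)
    (e12 : ((g : L4) : M4) 1 2 = ((h : L4) : M4) 1 2) (e13 : ((g : L4) : M4) 1 3 = ((h : L4) : M4) 1 3)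
    (e21 : ((g : L4) : M4) 2 1 = ((h : L4) : M4) 2 1) (e22 : ((g : L4) : M4) 2 2 = ((h : L4) : M4) 2 2)
    (e23 : ((g : L4) : M4) 2 3 = ((h : L4) : M4) 2 3) (e31 : ((g : L4) : M4) 3 1 = ((h : L4) : M4) 3 1)
    (e32 : ((g : L4) : M4) 3 2 = ((h : L4) : M4) 3 2) (e33 : ((g : L4) : M4) 3 3 = ((h : L4) : M4) 3 3) :
    g = h := by
  obtain ⟨g0, g1, g2, g3⟩ := col0 g
  obtain ⟨h0, h1, h2, h3⟩ := col0 h
  refine ext_entries fun i j => ?_
  fin_cases i <;> fin_cases j
  exacts [g0.trans h0.symm, e01, e02, e03, g1.trans h1.symm, e11, e12, e13, g2.trans h2.symm,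
    e21, e22, e23, g3.trans h3.symm, e31, e32, e33]

theorem coe_mul' (g h : H1) : (((g * h : H1) : L4) : M4) = ((g : L4) : M4) * ((h : L4) : M4) := by
  rw [Subgroup.coe_mul, Matrix.SpecialLinearGroup.coe_mul]

theorem eq_entries {g h k l : H1} (e : g * h = k * l) (i j : Fin 4) :
    (((g : L4) : M4) * ((h : L4) : M4)) i j = (((k : L4) : M4) * ((l : L4) : M4)) i j := by
  rw [← coe_mul', ← coe_mul', e]

/-- Make an element of `H1` from a matrix. -/
def mkH (M : M4) (hd : M.det = 1) (hc : ∀ i, M i 0 = if i = 0 then 1 else 0) : H1 :=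
  ⟨⟨M, hd⟩, hc⟩

theorem coe_mkH {M : M4} {hd : M.det = 1} {hc : ∀ i, M i 0 = if i = 0 then 1 else 0} :
    ((mkH M hd hc : L4) : M4) = M := rfl

theorem eq_of_matrix {g h k l : H1}
    (e : ((g : L4) : M4) * ((h : L4) : M4) = ((k : L4) : M4) * ((l : L4) : M4)) : g * h = k * l :=
  Subtype.ext (Subtype.ext e)

/-! ### The unitriangular group -/

/-- The upper unitriangular elements. -/
def upperU : Subgroup H1 where
  carrier := {g | ∀ i j : Fin 4, (j < i → ((g : L4) : M4) i j = 0) ∧ ((g : L4) : M4) i i = 1}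
  one_mem' := fun i j => by
    simp only [Subgroup.coe_one, Matrix.SpecialLinearGroup.coe_one, Matrix.one_apply_eq, and_true]
    exact fun h => Matrix.one_apply_ne h.ne'
  mul_mem' := fun {a b} ha hb i j => by
    simp only [coe_mul', Matrix.mul_apply]
    refine ⟨fun h => Finset.sum_eq_zero fun k _ => ?_, ?_⟩
    · rcases lt_or_ge k i with hk | hk
      · rw [(ha i k).1 hk, zero_mul]
      · rw [(hb k j).1 (lt_of_lt_of_le h hk), mul_zero]
    · rw [Finset.sum_eq_single i]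
      · rw [(ha i i).2, (hb i i).2, mul_one]
      · intro k _ hk
        rcases lt_or_gt_of_ne hk with h | h
        · rw [(ha i k).1 h, zero_mul]
        · rw [(hb k i).1 h, mul_zero]
      · exact fun h => absurd (Finset.mem_univ i) h
  inv_mem' := fun {a} ha => by
    have hm : ∀ n : ℕ, ∀ i j : Fin 4,
        (j < i → (((a ^ n : H1) : L4) : M4) i j = 0) ∧ (((a ^ n : H1) : L4) : M4) i i = 1 := by
      intro n
      induction n with
      | zero =>
        intro i j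
        simp only [pow_zero, Subgroup.coe_one, Matrix.SpecialLinearGroup.coe_one,
          Matrix.one_apply_eq, and_true]
        exact fun h => Matrix.one_apply_ne h.ne'
      | succ n ih =>
        intro i j
        simp only [pow_succ, coe_mul', Matrix.mul_apply]
        refine ⟨fun h => Finset.sum_eq_zero fun k _ => ?_, ?_⟩
        · rcases lt_or_ge k i with hk | hk
          · rw [(ih i k).1 hk, zero_mul]
          · rw [(ha k j).1 (lt_of_lt_of_le h hk), mul_zero]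
        · rw [Finset.sum_eq_single i]
          · rw [(ih i i).2, (ha i i).2, mul_one]
          · intro k _ hk
            rcases lt_or_gt_of_ne hk with h | h
            · rw [(ih i k).1 h, zero_mul]
            · rw [(ha k i).1 h, mul_zero]
          · exact fun h => absurd (Finset.mem_univ i) h
    have hinv : a⁻¹ = a ^ (orderOf a - 1) := by
      rw [inv_eq_iff_mul_eq_one, ← pow_succ', Nat.sub_add_cancel (orderOf_pos a),
        pow_orderOf_eq_one]
    rw [hinv]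
    exact hm _

/-- The matrices of the unitriangular group. -/
def uM (a p q b c d : ZMod 3) : M4 :=
  !![1, a, p, q; 0, 1, b, c; 0, 0, 1, d; 0, 0, 0, 1]

theorem uM_det (a p q b c d : ZMod 3) : (uM a p q b c d).det = 1 := by
  rw [Matrix.det_of_isUpperTriangular (M := uM a p q b c d)]
  · simp [Fin.prod_univ_four, uM]
  · intro i j h
    fin_cases i <;> fin_cases j <;> first | rfl | exact absurd h (by decide)

/-- The elements of the unitriangular group. -/
def uEl (a p q b c d : ZMod 3) : H1 :=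
  mkH (uM a p q b c d) (uM_det a p q b c d) (fun i => by fin_cases i <;> rfl)

theorem uEl_mem (a p q b c d : ZMod 3) : uEl a p q b c d ∈ upperU := by
  intro i j
  fin_cases i <;> fin_cases j <;>
    first | exact ⟨fun _ => rfl, rfl⟩ | exact ⟨fun h => absurd h (by decide), rfl⟩

theorem exists_uEl {g : H1} (hg : g ∈ upperU) :
    g = uEl (((g : L4) : M4) 0 1) (((g : L4) : M4) 0 2) (((g : L4) : M4) 0 3)
      (((g : L4) : M4) 1 2) (((g : L4) : M4) 1 3) (((g : L4) : M4) 2 3) :=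
  ext_entries fun i j => by
    fin_cases i <;> fin_cases j <;>
      first | rfl | exact (hg _ _).2 | exact (hg _ _).1 (by decide) | exact (hg _ 0).2

theorem card_upperU : Nat.card upperU = 3 ^ 6 := by
  let f : ZMod 3 × ZMod 3 × ZMod 3 × ZMod 3 × ZMod 3 × ZMod 3 → upperU := fun v =>
    ⟨uEl v.1 v.2.1 v.2.2.1 v.2.2.2.1 v.2.2.2.2.1 v.2.2.2.2.2, uEl_mem _ _ _ _ _ _⟩
  have hf : Function.Bijective f := by
    refine ⟨fun v w e => ?_, fun g => ⟨(_, _, _, _, _, _), Subtype.ext (exists_uEl g.2).symm⟩⟩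
    have h : ∀ i j, uM v.1 v.2.1 v.2.2.1 v.2.2.2.1 v.2.2.2.2.1 v.2.2.2.2.2 i j =
        uM w.1 w.2.1 w.2.2.1 w.2.2.2.1 w.2.2.2.2.1 w.2.2.2.2.2 i j := fun i j =>
      congrArg (fun u : upperU => (((u : H1) : L4) : M4) i j) e
    exact Prod.ext (h 0 1) (Prod.ext (h 0 2) (Prod.ext (h 0 3)
      (Prod.ext (h 1 2) (Prod.ext (h 1 3) (h 2 3)))))
  rw [← Nat.card_congr (Equiv.ofBijective f hf)]
  simp only [Nat.card_prod, Nat.card_zmod]
  norm_num

theorem uEl_cube {a p q b c d : ZMod 3} (h : uEl a p q b c d ^ 3 = 1) :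
    a = 0 ∨ b = 0 ∨ d = 0 := by
  have e := congrArg (fun g : H1 => ((g : L4) : M4) 0 3) h
  simp only [pow_succ, pow_zero, one_mul, coe_mul', Subgroup.coe_one,
    Matrix.SpecialLinearGroup.coe_one] at e
  simp [uEl, coe_mkH, uM, Matrix.mul_apply, Fin.sum_univ_four] at e
  revert e
  clear h
  revert a p q b c d
  decide +kernel

theorem uEl_mem_Q4 (a p q c d : ZMod 3) : ((uEl a p q 0 c d : H1) : L4) ∈ Q4 := by
  refine ⟨⟨(uEl a p q 0 c d).2, fun j => ?_⟩, fun i j => ?_⟩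
  · fin_cases j <;> rfl
  · fin_cases i <;> fin_cases j <;> rfl

theorem uEl_notMem_E1 {a p q b c d : ZMod 3} (h : c ≠ 0 ∨ d ≠ 0 ∨ b ≠ 0) :
    ((uEl a p q b c d : H1) : L4) ∉ E1 := by
  intro he
  rcases h with h | h | h
  · exact h (he.1 1 3 (by decide))
  · exact h (he.1 2 3 (by decide))
  · exact h (he.1 1 2 (by decide))

theorem flat_det : ∀ b c : ZMod 3, b ≠ 0 →
    (!![1, 0, 0, 0; 0, 1, 0, 0; 0, 0, 0, -b; 0, 0, b, c] : M4).det = 1 := by decide +kernel

theorem flat_eq : ∀ a p q b c : ZMod 3, b ≠ 0 →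
    (!![1, 0, 0, 0; 0, 1, 0, 0; 0, 0, 0, -b; 0, 0, b, c] : M4) * uM a p q b c 0 =
      uM a (-b * (q - c * p * b)) (p * b) 0 1 0 *
        !![1, 0, 0, 0; 0, 1, 0, 0; 0, 0, 0, -b; 0, 0, b, c] := by decide +kernel

theorem regular_det : ∀ p q b c d : ZMod 3, b ≠ 0 → d ≠ 0 →
    (!![1, -p * b, -(q + -p * b * c) * d, 0; 0, d, 0, 0; 0, 0, d * b, d * c; 0, 0, 0, b] :
      M4).det = 1 := by decide +kernel

theorem regular_eq : ∀ p q b c d : ZMod 3, b ≠ 0 → d ≠ 0 →
    (!![1, -p * b, -(q + -p * b * c) * d, 0; 0, d, 0, 0; 0, 0, d * b, d * c; 0, 0, 0, b] : M4) *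
        uM 0 p q b c d =
      ((nH : L4) : M4) *
        !![1, -p * b, -(q + -p * b * c) * d, 0; 0, d, 0, 0; 0, 0, d * b, d * c; 0, 0, 0, b] := by
  decide +kernel

/-- The regular elements are conjugate. -/
theorem uEl_regular (p q b c d : ZMod 3) (hb : b ≠ 0) (hd : d ≠ 0) :
    ∃ h : H1, uEl 0 p q b c d = h * nH * h⁻¹ := by
  refine ⟨(mkH _ (regular_det p q b c d hb hd) (fun i => by fin_cases i <;> rfl))⁻¹, ?_⟩
  rw [inv_inv, mul_assoc, eq_inv_mul_iff_mul_eq]
  exact eq_of_matrix (by simp only [uEl, coe_mkH]; exact regular_eq p q b c d hb hd)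

/-- The elements of order three of the unitriangular group. -/
theorem upperU_cases {g : H1} (hg : g ∈ upperU) (h3 : g ^ 3 = 1) :
    (∃ h : H1, ((h * g * h⁻¹ : H1) : L4) ∈ Q4 ∧ ((h * g * h⁻¹ : H1) : L4) ∉ E1) ∨
      (g : L4) ∈ Q4 ∨ ∃ h : H1, g = h * nH * h⁻¹ := by
  have e := exists_uEl hg
  generalize ((g : L4) : M4) 0 1 = a, ((g : L4) : M4) 0 2 = p, ((g : L4) : M4) 0 3 = q,
    ((g : L4) : M4) 1 2 = b, ((g : L4) : M4) 1 3 = c, ((g : L4) : M4) 2 3 = d at e
  subst e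
  by_cases hb : b = 0
  · subst hb
    exact Or.inr (Or.inl (uEl_mem_Q4 a p q c d))
  by_cases hd : d = 0
  · subst hd
    refine Or.inl ⟨mkH _ (flat_det b c hb) (fun i => by fin_cases i <;> rfl), ?_⟩
    have h1 : mkH _ (flat_det b c hb) (fun i => by fin_cases i <;> rfl) * uEl a p q b c 0 =
        uEl a (-b * (q - c * p * b)) (p * b) 0 1 0 *
          mkH _ (flat_det b c hb) (fun i => by fin_cases i <;> rfl) :=
      eq_of_matrix (by simp only [uEl, coe_mkH]; exact flat_eq a p q b c hb)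
    rw [h1, mul_inv_cancel_right]
    exact ⟨uEl_mem_Q4 _ _ _ _ _, uEl_notMem_E1 (Or.inl one_ne_zero)⟩
  rcases uEl_cube h3 with rfl | h | h
  · exact Or.inr (Or.inr (uEl_regular p q b c d hb hd))
  · exact absurd h hb
  · exact absurd h hd

/-! ### The elements of `E1` -/

/-- A matrix carrying `zH` to the element of `E1` with the given row. -/
def eConj (a p q : ZMod 3) : M4 :=
  if q ≠ 0 then !![1, 0, 0, 0; 0, 1, 0, 0; 0, 0, q, 0; 0, -(a * q), -p, q]
  else if p ≠ 0 then !![1, 0, 0, 0; 0, 1, 0, 0; 0, -(a * p), 0, p; 0, 0, -p, 0]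
  else !![1, 0, 0, 0; 0, 0, 0, a; 0, 1, 0, 0; 0, 0, a, 0]

theorem eConj_spec : ∀ a p q : ZMod 3, (a ≠ 0 ∨ p ≠ 0 ∨ q ≠ 0) →
    (eConj a p q).det = 1 ∧ (∀ i, eConj a p q i 0 = if i = 0 then 1 else 0) ∧
      eConj a p q * ((zH : L4) : M4) = uM a p q 0 0 0 * eConj a p q := by decide +kernel

/-- The nontrivial elements of `E1` are conjugate. -/
theorem E1_conj {e : H1} (he : (e : L4) ∈ E1) (hne : e ≠ 1) :
    ∃ h : H1, e = h * zH * h⁻¹ := by
  have hM : e = uEl (((e : L4) : M4) 0 1) (((e : L4) : M4) 0 2) (((e : L4) : M4) 0 3) 0 0 0 :=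
    ext12 rfl rfl rfl (he.1 _ _ (by decide)) (he.1 _ _ (by decide)) (he.1 _ _ (by decide))
      (he.1 _ _ (by decide)) (he.1 _ _ (by decide)) (he.1 _ _ (by decide))
      (he.1 _ _ (by decide)) (he.1 _ _ (by decide)) (he.1 _ _ (by decide))
  have hn : ((e : L4) : M4) 0 1 ≠ 0 ∨ ((e : L4) : M4) 0 2 ≠ 0 ∨ ((e : L4) : M4) 0 3 ≠ 0 := by
    by_contra h
    push Not at h
    refine hne (hM.trans ?_)
    rw [h.1, h.2.1, h.2.2]
    decide +kernel
  obtain ⟨h1, h2, h3⟩ := eConj_spec _ _ _ hn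
  obtain ⟨k, hh⟩ : ∃ k : H1, mkH _ h1 h2 = k := ⟨_, rfl⟩
  have key : uEl (((e : L4) : M4) 0 1) (((e : L4) : M4) 0 2) (((e : L4) : M4) 0 3) 0 0 0 * k =
      k * zH := by
    rw [← hh]
    exact eq_of_matrix (by simp only [uEl, coe_mkH]; exact h3.symm)
  generalize uEl (((e : L4) : M4) 0 1) (((e : L4) : M4) 0 2) (((e : L4) : M4) 0 3) 0 0 0 = u at hM key
  refine ⟨k, ?_⟩
  rw [hM, eq_mul_inv_iff_mul_eq]
  exact key

/-! ### The centraliser of the regular element -/

theorem cent_nH {g : H1} (h : g * nH = nH * g) :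
    ∃ x w u : ZMod 3, g = uEl 0 0 x u w u := by
  have e := eq_entries h
  obtain ⟨g00, g10, g20, g30⟩ := col0 g
  have n : ((nH : L4) : M4) = uM 0 0 0 1 0 1 := by decide +kernel
  have e01 := e 0 1
  have e02 := e 0 2
  have e03 := e 0 3
  have e11 := e 1 1
  have e12 := e 1 2
  have e13 := e 1 3
  have e21 := e 2 1
  have e22 := e 2 2
  have e23 := e 2 3
  have e31 := e 3 1
  have e32 := e 3 2
  have e33 := e 3 3
  simp [n, uM, Matrix.mul_apply, Fin.sum_univ_four] at e01 e02 e03 e11 e12 e13 e21 e22 e23 e31 e32 e33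
  have k31 : ((g : L4) : M4) 3 1 = 0 := by linear_combination e32
  have k32 : ((g : L4) : M4) 3 2 = 0 := by linear_combination e33
  have k21 : ((g : L4) : M4) 2 1 = 0 := by linear_combination e22 + k32
  have k01 : ((g : L4) : M4) 0 1 = 0 := by linear_combination e02
  have k02 : ((g : L4) : M4) 0 2 = 0 := by linear_combination e03
  have k11 : ((g : L4) : M4) 1 1 = ((g : L4) : M4) 2 2 := by linear_combination e12
  have k22 : ((g : L4) : M4) 2 2 = ((g : L4) : M4) 3 3 := by linear_combination e23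
  have k12 : ((g : L4) : M4) 1 2 = ((g : L4) : M4) 2 3 := by linear_combination e13
  have k33 : ((g : L4) : M4) 3 3 = 1 := by
    have hd := (g : L4).2
    rw [Matrix.det_succ_column_zero, Fin.sum_univ_succ] at hd
    simp [Fin.sum_univ_succ, g00, g10, g20, g30, Matrix.det_fin_three, k31, k32, k21, k11,
      k22] at hd
    revert hd
    generalize ((g : L4) : M4) 3 3 = t
    revert t
    decide +kernel
  exact ⟨((g : L4) : M4) 0 3, ((g : L4) : M4) 1 3, ((g : L4) : M4) 2 3,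
    ext12 k01 k02 rfl ((k11.trans k22).trans k33) k12 rfl k21 (k22.trans k33) rfl k31 k32 k33⟩

theorem aEl_comm : ∀ x w u : ZMod 3,
    uM 0 0 x u w u * ((nH : L4) : M4) = ((nH : L4) : M4) * uM 0 0 x u w u := by decide +kernel

theorem E1_cent_nH {e : H1} (he : (e : L4) ∈ E1) (h : e * nH = nH * e) :
    ∃ x : ZMod 3, e = uEl 0 0 x 0 0 0 := by
  obtain ⟨x, w, u, rfl⟩ := cent_nH h
  exact ⟨x, by
    rw [show w = 0 from he.1 1 3 (by decide), show u = 0 from he.1 1 2 (by decide)]⟩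

theorem piH_conj : ∃ h : H1, piH = h * nH * h⁻¹ := by
  refine ⟨mkH !![1, 0, 0, 0; 0, 1, -1, 1; 0, 1, 0, 0; 0, 1, 1, 0] (by decide +kernel)
    (fun i => by fin_cases i <;> rfl), ?_⟩
  rw [eq_mul_inv_iff_mul_eq]
  decide +kernel

end Cfsg.Agent.L43Three45.Isolated1
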