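import Cfsg.Agent.Lib.L43Parabolic80
import Cfsg.Agent.Lib.L43Isolated1Model
import Cfsg.Agent.Lib.L43Isolated1Gen

/-!
The first parabolic controls the fusion of the elements of `E1` (isolated case of S3373).
-/

set_option autoImplicit false
set_option linter.style.haveILetI false

namespace Cfsg.Agent.L43Three45.Isolated1

open Matrix

variable {G : Type*} [Group G] {φ : H1 →* G}

/-- An element of `G` which moves a nontrivial element of `E1` within `H` lies in `H`. -/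
def Ctl (φ : H1 →* G) : Prop :=
  ∀ e : H1, (e : L4) ∈ E1 → e ≠ 1 → ∀ g : G, g * φ e * g⁻¹ ∈ φ.range → g ∈ φ.range

/-- The centraliser of the image of `x` lies in `H`. -/
def CentIn (φ : H1 →* G) (x : H1) : Prop :=
  ∀ g : G, g * φ x = φ x * g → g ∈ φ.range

theorem CentIn.conj {x : H1} (hx : CentIn φ x) (k : H1) : CentIn φ (k * x * k⁻¹) := by
  intro g hg
  simp only [map_mul, map_inv] at hg
  have h1 : (φ k)⁻¹ * g * φ k * φ x = φ x * ((φ k)⁻¹ * g * φ k) := by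
    calc (φ k)⁻¹ * g * φ k * φ x = (φ k)⁻¹ * (g * (φ k * φ x * (φ k)⁻¹)) * φ k := by group
      _ = (φ k)⁻¹ * (φ k * φ x * (φ k)⁻¹ * g) * φ k := by rw [hg]
      _ = φ x * ((φ k)⁻¹ * g * φ k) := by group
  have h2 := φ.range.mul_mem (φ.range.mul_mem ⟨k, rfl⟩ (hx _ h1)) (φ.range.inv_mem ⟨k, rfl⟩)
  simpa [mul_assoc] using h2

theorem E1_normal {e : H1} (he : (e : L4) ∈ E1) (k : H1) : ((k * e * k⁻¹ : H1) : L4) ∈ E1 := by
  haveI : (E1.subgroupOf H1).Normal := ker_blk ▸ MonoidHom.normal_ker blk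
  exact (inferInstance : (E1.subgroupOf H1).Normal).conj_mem e he k

theorem zH_entries : ∀ i j : Fin 4, i ≠ 0 →
    (((zH : L4) : Matrix (Fin 4) (Fin 4) (ZMod 3))) i j = (if i = j then (1 : ZMod 3) else 0) := by
  intro i j hi
  fin_cases i <;> fin_cases j <;> first | rfl | exact absurd rfl hi

theorem zH_mem_E1 : (zH : L4) ∈ E1 := ⟨zH_entries, zH.2⟩

theorem nH_notMem_E1 : (nH : L4) ∉ E1 := fun h =>
  absurd (h.1 1 2 (by decide)) (by decide +kernel)

theorem zH_ne : zH ≠ 1 := by decide +kernel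

theorem zH_cube : zH ^ 3 = 1 := by decide +kernel

theorem cent_zH (h : One φ) {g : G} (hg : g * φ zH = φ zH * g) :
    ∃ a : H1, (a : L4) ∈ C4 ∧ φ a = g := by
  have : g ∈ Subgroup.centralizer ({φ ⟨z4, z4_mem⟩} : Set G) :=
    Subgroup.mem_centralizer_singleton_iff.2 hg
  rw [h.cent] at this
  obtain ⟨a, ha, hag⟩ := this
  exact ⟨a, ha, hag⟩

theorem centIn_zH (h : One φ) : CentIn φ zH := fun _ hg =>
  let ⟨a, _, ha⟩ := cent_zH h hg
  ⟨a, ha⟩

theorem flat_notClass (hi : Isolated φ) {w : H1} (hQ : (w : L4) ∈ Q4) (hE : (w : L4) ∉ E1) :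
    ¬ IsConj (φ zH) (φ w) := fun hc => hE (hi w hQ hc)

theorem not_dvd_H1 (h : One φ) : ¬ 3 ^ 7 ∣ Nat.card H1 := fun hd => h.not_dvd (hd.trans (by
  rw [Nat.card_congr (MonoidHom.ofInjective h.inj).toEquiv]
  exact Subgroup.card_subgroup_dvd_card φ.range))

theorem isConj_map_conj (x k : H1) : IsConj (φ x) (φ (k * x * k⁻¹)) :=
  φ.map_isConj (isConj_iff.2 ⟨k, rfl⟩)

variable [Finite G]

theorem exists_upperU_conj (h : One φ) {w : H1} (h3 : w ^ 3 = 1) :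
    ∃ k : H1, k * w * k⁻¹ ∈ upperU := by
  haveI : Fact (Nat.Prime 3) := ⟨Nat.prime_three⟩
  obtain ⟨S, hS⟩ := exists_sylow_of_card card_upperU (not_dvd_H1 h)
  rw [← hS]
  exact exists_conj_mem S (n := 1) (by simpa using h3)

/-- The elements of `H` in the central class: in `E1` or regular. -/
theorem class_cases (h : One φ) (hi : Isolated φ) {w : H1} (hc : IsConj (φ zH) (φ w)) :
    (w : L4) ∈ E1 ∨ ∃ k : H1, w = k * nH * k⁻¹ := by
  obtain ⟨c, hc'⟩ := isConj_iff.1 hc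
  have h3 : w ^ 3 = 1 := h.inj (by
    rw [map_pow, ← hc', conj_pow, ← map_pow, zH_cube, map_one]
    simp)
  obtain ⟨k, hk⟩ := exists_upperU_conj h h3
  have hu : (k * w * k⁻¹) ^ 3 = 1 := by rw [conj_pow, h3, mul_one, mul_inv_cancel]
  have hcu : IsConj (φ zH) (φ (k * w * k⁻¹)) := hc.trans (isConj_map_conj w k)
  rcases upperU_cases hk hu with ⟨l, hl, hl'⟩ | hQ | ⟨l, hl⟩
  · exact absurd (hcu.trans (isConj_map_conj _ l)) (flat_notClass hi hl hl')
  · refine Or.inl ?_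
    have := E1_normal (hi _ hQ hcu) k⁻¹
    simpa [mul_assoc] using this
  · refine Or.inr ⟨k⁻¹ * l, ?_⟩
    calc w = k⁻¹ * (k * w * k⁻¹) * k := by group
      _ = _ := by rw [hl]; group

theorem regular_pq : ∀ x : ZMod 3, uEl 0 0 x 0 1 0 * uEl 0 0 0 0 (-1) 0 = uEl 0 0 x 0 0 0 ∧
    uEl 0 0 x 0 1 0 * uEl 0 0 x 0 0 0 = uEl 0 0 x 0 0 0 * uEl 0 0 x 0 1 0 ∧
    uEl 0 0 0 0 (-1) 0 * uEl 0 0 x 0 0 0 = uEl 0 0 x 0 0 0 * uEl 0 0 0 0 (-1) 0 := by
  decide +kernel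

theorem uEl_zero_mul_ne : ∀ x w x' w' : ZMod 3,
    uEl 0 0 x 0 w 0 * uEl 0 0 x' 0 w' 0 ≠ nH := by decide +kernel

theorem commute_nH : zH * nH = nH * zH := by decide +kernel

/-- The regular class is not fused to the central one. -/
theorem no_regular (h : One φ) (hi : Isolated φ) {g : G} (hg : g * φ zH * g⁻¹ = φ nH) : False := by
  have hg' : g * φ zH = φ nH * g := mul_inv_eq_iff_eq_mul.1 hg
  have hcom : g⁻¹ * φ zH * g * φ zH = φ zH * (g⁻¹ * φ zH * g) := by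
    calc g⁻¹ * φ zH * g * φ zH = g⁻¹ * φ zH * (g * φ zH) := by group
      _ = g⁻¹ * (φ zH * φ nH) * g := by rw [hg']; group
      _ = g⁻¹ * (φ nH * φ zH) * g := by rw [← map_mul, commute_nH, map_mul]
      _ = g⁻¹ * (g * φ zH * g⁻¹) * φ zH * g := by rw [hg]; group
      _ = φ zH * (g⁻¹ * φ zH * g) := by group
  obtain ⟨v, hv⟩ := centIn_zH h _ hcom
  rcases class_cases h hi (w := v) (isConj_iff.2 ⟨g⁻¹, by rw [hv]; group⟩) with hE | ⟨k, hk⟩
  · have hv1 : v ≠ 1 := fun e => zH_ne (h.inj (by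
      rw [map_one]
      calc φ zH = g * (g⁻¹ * φ zH * g) * g⁻¹ := by group
        _ = 1 := by rw [← hv, e, map_one]; group))
    obtain ⟨k, hk⟩ := E1_conj hE hv1
    obtain ⟨m, hm⟩ := centIn_zH h ((φ k)⁻¹ * g⁻¹) (by
      rw [hk] at hv
      simp only [map_mul, map_inv] at hv
      calc (φ k)⁻¹ * g⁻¹ * φ zH = (φ k)⁻¹ * (g⁻¹ * φ zH * g) * g⁻¹ := by group
        _ = φ zH * ((φ k)⁻¹ * g⁻¹) := by rw [← hv]; group)
    have hgr : g = φ ((k * m)⁻¹) := by rw [map_inv, map_mul, hm]; group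
    refine nH_notMem_E1 ?_
    have : nH = (k * m)⁻¹ * zH * ((k * m)⁻¹)⁻¹ := h.inj (by
      rw [← hg, hgr]; simp only [map_mul, map_inv])
    rw [this]
    exact E1_normal zH_mem_E1 _
  · have hvz : v * zH = zH * v := h.inj (by rw [map_mul, map_mul, hv, hcom])
    obtain ⟨x, hx⟩ := E1_cent_nH (E1_normal zH_mem_E1 k⁻¹) (by
      rw [hk] at hvz
      calc k⁻¹ * zH * k⁻¹⁻¹ * nH = k⁻¹ * (zH * (k * nH * k⁻¹)) * k := by group
        _ = k⁻¹ * (k * nH * k⁻¹ * zH) * k := by rw [hvz]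
        _ = nH * (k⁻¹ * zH * k⁻¹⁻¹) := by group)
    obtain ⟨e1, e2, e3⟩ := regular_pq x
    have hz : zH = k * uEl 0 0 x 0 0 0 * k⁻¹ := by rw [← hx]; group
    -- a non-class element of the image centralising both `zH` and `v` goes to a non-class element
    have key : ∀ w : H1, (w : L4) ∈ Q4 → (w : L4) ∉ E1 → w * nH = nH * w →
        w * uEl 0 0 x 0 0 0 = uEl 0 0 x 0 0 0 * w →
        ∃ x' w', g * φ (k * w * k⁻¹) * g⁻¹ = φ (uEl 0 0 x' 0 w' 0) := by
      intro w hwQ hwE hwn hwe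
      have c1 : (k * w * k⁻¹) * zH = zH * (k * w * k⁻¹) := by
        rw [hz]
        calc k * w * k⁻¹ * (k * uEl 0 0 x 0 0 0 * k⁻¹) = k * (w * uEl 0 0 x 0 0 0) * k⁻¹ := by group
          _ = _ := by rw [hwe]; group
      have c2 : (k * w * k⁻¹) * v = v * (k * w * k⁻¹) := by
        rw [hk]
        calc k * w * k⁻¹ * (k * nH * k⁻¹) = k * (w * nH) * k⁻¹ := by group
          _ = _ := by rw [hwn]; group
      have hpw : IsConj (φ (k * w * k⁻¹)) (φ w) := (isConj_map_conj w k).symm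
      generalize k * w * k⁻¹ = p at c1 c2 hpw ⊢
      have d1 : g * φ p * g⁻¹ * φ nH = φ nH * (g * φ p * g⁻¹) := by
        rw [← hg]
        calc g * φ p * g⁻¹ * (g * φ zH * g⁻¹) = g * φ (p * zH) * g⁻¹ := by rw [map_mul]; group
          _ = _ := by rw [c1, map_mul]; group
      have d2 : g * φ p * g⁻¹ * φ zH = φ zH * (g * φ p * g⁻¹) := by
        rw [show φ zH = g * φ v * g⁻¹ by rw [hv]; group]
        calc g * φ p * g⁻¹ * (g * φ v * g⁻¹) = g * φ (p * v) * g⁻¹ := by rw [map_mul]; group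
          _ = _ := by rw [c2, map_mul]; group
      obtain ⟨a, ha⟩ := centIn_zH h _ d2
      obtain ⟨x', w', u, hu⟩ := cent_nH (g := a) (h.inj (by rw [map_mul, map_mul, ha, d1]))
      have hcp : IsConj (φ p) (φ a) := isConj_iff.2 ⟨g, ha.symm⟩
      by_cases h0 : u = 0
      · exact ⟨x', w', by rw [← ha, hu, h0]⟩
      exfalso
      obtain ⟨l, hl⟩ := uEl_regular 0 x' u w' u h0 h0
      rw [hu, hl] at hcp
      have hzn : IsConj (φ zH) (φ (l * nH * l⁻¹)) :=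
        (isConj_iff.2 ⟨g, hg⟩ : IsConj (φ zH) (φ nH)).trans (isConj_map_conj _ l)
      exact flat_notClass hi hwQ hwE ((hzn.trans hcp.symm).trans hpw)
    obtain ⟨xp, wp, hp⟩ := key _ (uEl_mem_Q4 0 0 x 1 0) (uEl_notMem_E1 (Or.inl (by decide)))
      (eq_of_matrix (aEl_comm x 1 0)) e2
    obtain ⟨xq, wq, hq⟩ := key _ (uEl_mem_Q4 0 0 0 (-1) 0) (uEl_notMem_E1 (Or.inl (by decide)))
      (eq_of_matrix (aEl_comm 0 (-1) 0)) e3
    refine uEl_zero_mul_ne xp wp xq wq (h.inj ?_)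
    rw [map_mul, ← hp, ← hq, ← hg]
    conv_rhs => rw [hz, ← e1]
    simp only [map_mul, map_inv]
    group

theorem ctl (h : One φ) (hi : Isolated φ) : Ctl φ := by
  intro e he hne g hg
  obtain ⟨k, rfl⟩ := E1_conj he hne
  obtain ⟨w, hw⟩ := hg
  simp only [map_mul, map_inv] at hw
  have hgz : g * φ k * φ zH * (g * φ k)⁻¹ = φ w := by rw [hw]; group
  suffices hk : g * φ k ∈ φ.range by
    have := φ.range.mul_mem hk (φ.range.inv_mem ⟨k, rfl⟩)
    simpa [mul_assoc] using this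
  generalize g * φ k = y at hgz
  rcases class_cases h hi (w := w) (isConj_iff.2 ⟨y, hgz⟩) with hE | ⟨l, rfl⟩
  · have hw1 : w ≠ 1 := fun e => zH_ne (h.inj (by
      rw [map_one]
      calc φ zH = y⁻¹ * (y * φ zH * y⁻¹) * y := by group
        _ = 1 := by rw [hgz, e, map_one]; group))
    obtain ⟨l, rfl⟩ := E1_conj hE hw1
    simp only [map_mul, map_inv] at hgz
    obtain ⟨m, hm⟩ := centIn_zH h ((φ l)⁻¹ * y) (by
      calc (φ l)⁻¹ * y * φ zH = (φ l)⁻¹ * (y * φ zH * y⁻¹) * y := by group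
        _ = φ zH * ((φ l)⁻¹ * y) := by rw [hgz]; group)
    exact ⟨l * m, by rw [map_mul, hm]; group⟩
  · exfalso
    refine no_regular h hi (g := (φ l)⁻¹ * y) ?_
    simp only [map_mul, map_inv] at hgz
    calc (φ l)⁻¹ * y * φ zH * ((φ l)⁻¹ * y)⁻¹ = (φ l)⁻¹ * (y * φ zH * y⁻¹) * φ l := by group
      _ = φ nH := by rw [hgz]; group

theorem centIn_E1 (hctl : Ctl φ) {e : H1} (he : (e : L4) ∈ E1) (hne : e ≠ 1) : CentIn φ e :=
  fun g hg => hctl e he hne g ⟨e, by rw [hg, mul_inv_cancel_right]⟩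

end Cfsg.Agent.L43Three45.Isolated1
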