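import Cfsg.Agent.Lib.L43Isolated1Fusion

/-!
The centraliser of the involution `jH` in the model, and the interface for the core of the
centraliser of its image (isolated case of S3373).
-/

set_option autoImplicit false
set_option linter.style.haveILetI false
set_option maxRecDepth 8000
set_option maxHeartbeats 2000000

namespace Cfsg.Agent.L43Three45.Isolated1

open Matrix

local notation "M4" => Matrix (Fin 4) (Fin 4) (ZMod 3)

/-- The centraliser of `jH` in the model. -/
def jCen : Subgroup H1 := Subgroup.centralizer ({jH} : Set H1)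

instance : DecidablePred (· ∈ jCen) := fun g => decidable_of_iff (g * jH = jH * g)
  Subgroup.mem_centralizer_singleton_iff.symm

/-- The matrices of `jCen`. -/
def jM (q a b c d : ZMod 3) : M4 :=
  !![1, 0, 0, q; 0, a, b, 0; 0, c, d, 0; 0, 0, 0, a * d - b * c]

theorem jM_det_all : ∀ a b c d : ZMod 3, a * d - b * c ≠ 0 →
    (a * d - b * c) * (a * d - b * c) = 1 := by decide +kernel

theorem jM_det (q a b c d : ZMod 3) (h : a * d - b * c ≠ 0) : (jM q a b c d).det = 1 := by
  simp [jM, Matrix.det_succ_row_zero, Fin.sum_univ_succ]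
  linear_combination jM_det_all a b c d h

/-- The elements of `jCen`. -/
def jEl (q a b c d : ZMod 3) (h : a * d - b * c ≠ 0) : H1 :=
  mkH (jM q a b c d) (jM_det q a b c d h) (fun i => by fin_cases i <;> rfl)

theorem mem_jCen {g : H1} (h : g ∈ jCen) :
    ∃ q a b c d, ∃ hd : a * d - b * c ≠ 0, g = jEl q a b c d hd := by
  have e := eq_entries (show g * jH = jH * g from Subgroup.mem_centralizer_singleton_iff.1 h)
  obtain ⟨g00, g10, g20, g30⟩ := col0 g
  have n : ((jH : L4) : M4) = jM 0 (-1) 0 0 (-1) := by decide +kernel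
  have e01 := e 0 1
  have e02 := e 0 2
  have e13 := e 1 3
  have e23 := e 2 3
  have e31 := e 3 1
  have e32 := e 3 2
  simp [n, jM, Matrix.mul_apply, Fin.sum_univ_four] at e01 e02 e13 e23 e31 e32
  have two : ∀ a : ZMod 3, a = -a → a = 0 := by decide +kernel
  have k01 : ((g : L4) : M4) 0 1 = 0 := two _ (by linear_combination -e01)
  have k02 : ((g : L4) : M4) 0 2 = 0 := two _ (by linear_combination -e02)
  have k13 : ((g : L4) : M4) 1 3 = 0 := two _ (by linear_combination e13)
  have k23 : ((g : L4) : M4) 2 3 = 0 := two _ (by linear_combination e23)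
  have k31 : ((g : L4) : M4) 3 1 = 0 := two _ (by linear_combination -e31)
  have k32 : ((g : L4) : M4) 3 2 = 0 := two _ (by linear_combination -e32)
  have hd := (g : L4).2
  rw [Matrix.det_succ_column_zero, Fin.sum_univ_succ] at hd
  simp [Fin.sum_univ_succ, g00, g10, g20, g30, Matrix.det_fin_three, k13, k23, k31, k32] at hd
  have hl : ((g : L4) : M4) 1 1 * ((g : L4) : M4) 2 2 -
        ((g : L4) : M4) 1 2 * ((g : L4) : M4) 2 1 ≠ 0 ∧
      ((g : L4) : M4) 3 3 = ((g : L4) : M4) 1 1 * ((g : L4) : M4) 2 2 -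
        ((g : L4) : M4) 1 2 * ((g : L4) : M4) 2 1 := by
    revert hd
    generalize ((g : L4) : M4) 1 1 = a, ((g : L4) : M4) 1 2 = b, ((g : L4) : M4) 2 1 = c,
      ((g : L4) : M4) 2 2 = d, ((g : L4) : M4) 3 3 = t
    revert a b c d t
    decide +kernel
  exact ⟨((g : L4) : M4) 0 3, ((g : L4) : M4) 1 1, ((g : L4) : M4) 1 2, ((g : L4) : M4) 2 1,
    ((g : L4) : M4) 2 2, hl.1,
    ext12 k01 k02 rfl rfl rfl k13 rfl rfl k23 k31 k32 hl.2⟩

/-- To check a property on `jCen` it suffices to check it on the parametrisation. -/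
theorem jCen_forall {P : H1 → Prop}
    (hP : ∀ q a b c d : ZMod 3, ∀ hd : a * d - b * c ≠ 0, P (jEl q a b c d hd)) :
    ∀ g ∈ jCen, P g := by
  intro g hg
  obtain ⟨q, a, b, c, d, hd, rfl⟩ := mem_jCen hg
  exact hP q a b c d hd

/-- The quaternion group of `jCen`. -/
def IsQ8 (g : H1) : Prop := g ∈ jCen ∧ g * zH = zH * g ∧ g ^ 4 = 1

instance : DecidablePred IsQ8 :=
  fun g => inferInstanceAs (Decidable (g ∈ jCen ∧ g * zH = zH * g ∧ g ^ 4 = 1))

/-- The Borel subgroup of `jCen`. -/
def IsBorel (g : H1) : Prop := g ∈ jCen ∧ ((g : L4) : M4) 2 1 = 0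

instance : DecidablePred IsBorel :=
  fun g => inferInstanceAs (Decidable (g ∈ jCen ∧ ((g : L4) : M4) 2 1 = 0))

variable {G : Type*} [Group G]

/-- What is known about the core `R` of the centraliser of the involution. -/
structure InvR (φ : H1 →* G) (R : Subgroup G) : Prop where
  le : R ≤ Subgroup.centralizer ({φ jH} : Set G)
  norm : Subgroup.centralizer ({φ jH} : Set G) ≤ Subgroup.normalizer (R : Set G)
  inH : ∀ g : H1, φ g ∈ R → IsQ8 g
  q8 : ∀ g : H1, IsQ8 g → φ g ∈ R
  two : IsPGroup 2 R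
  frat : ∀ x ∈ Subgroup.centralizer ({φ jH} : Set G),
    ∃ n : H1, IsBorel n ∧ ∃ r ∈ R, φ n * r = x

end Cfsg.Agent.L43Three45.Isolated1
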