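import Cfsg.Agent.Lib.L43Rank70Twist
import Cfsg.Agent.Lib.A9Local55Branch
import Cfsg.Agent.Lib.A9Nine59
import Cfsg.Agent.Lib.A9Gen70

/-!
The centralisers of the rank two elements of order three lie in the image of `SL(4,3)` (S3373).
-/

set_option autoImplicit false

namespace Cfsg.Agent.L43Three45

theorem cent_xP {G : Type*} [Group G] [Finite G] {f : L4 →* G} (hf : Full f) :
    Subgroup.centralizer ({f xP} : Set G) ≤ f.range := by
  open L43Rank70 in
  rcases A9Local55.dichotomy (loc hf) with h | ⟨ι, B⟩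
  · refine le_range_of_local hf (h _ (E_mem_Jq hf 0) fun e0 => ?_)
    have e1 : A9Base59.E 0 = 1 := phi_inj hf (e0.trans (map_one (phi hf)).symm)
    exact absurd (congrArg Subtype.val e1) (show A9Base59.e 0 ≠ 1 by decide +kernel)
  · obtain ⟨h1, h2⟩ := A9Base59.bridge (loc hf) B
    obtain ⟨ψ, N⟩ := A9Base59.nine_of_psi (loc hf) B (A9Gen70.exists_psi B h1 h2)
    exact (no_nine hf N).elim

theorem cent_rank_two {G : Type*} [Group G] [Finite G] {f : L4 →* G} (hf : Full f) :
    ∀ g, (g = xP ∨ g = xM) → Subgroup.centralizer ({f g} : Set G) ≤ f.range := by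
  rintro g (rfl | rfl)
  · exact cent_xP hf
  · have h := cent_xP (L43Rank70.twist_full hf)
    rwa [L43Rank70.twist_range, MonoidHom.comp_apply, L43Rank70.twist_facts.1] at h

end Cfsg.Agent.L43Three45
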