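import Cfsg.Agent.Lib.L43Rank70Model
import Cfsg.Agent.Lib.A9LocalBridge49

/-!
The centraliser of a rank two element modulo it satisfies the local hypotheses of degree nine, and
the alternating branch is impossible in it (S3373).
-/

set_option autoImplicit false
set_option Elab.async false

namespace Cfsg.Agent.L43Rank70

open Equiv Cfsg.Agent.L43Three45
open Cfsg.Agent.A9Base59 (H9 E Loc Branch Nine)

/-! ### Finite facts -/

def lw : L4 := toC one2 (2, 2, 0, 0) det_one2
def lx : L4 := toC one2 (2, 1, 2, 1) det_one2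

theorem xP_mem : xP ∈ Cx := Subgroup.mem_centralizer_singleton_iff.2 rfl

theorem negOne_mem : negOne ∈ Cx := by
  rw [Cx, Subgroup.mem_centralizer_singleton_iff]; decide +kernel

theorem betaH_negOne : betaH ⟨negOne, negOne_mem⟩ = 1 := by
  refine Subtype.ext (Perm.ext fun i => ?_)
  rw [betaH_coe, beta_apply]
  revert i; decide +kernel

theorem betaH_xP : betaH ⟨xP, xP_mem⟩ = 1 := by
  refine Subtype.ext (Perm.ext fun i => ?_)
  rw [betaH_coe, beta_apply]
  revert i; decide +kernel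

theorem negOne_xP_cube : (negOne * xP) ^ 3 ≠ 1 := by decide +kernel
theorem xP_cube : xP ^ 3 = 1 := by decide +kernel
theorem negOne_sq : negOne * negOne = 1 := by decide +kernel

theorem scalar_cases : ∀ s : F3, toC one2 (s, 0, 0, s) det_one2 = xP ^ s.val := by decide +kernel

theorem lw_beta : betaH ⟨lw, toC_mem _ _ _⟩ = E 0 * E 1 := by
  refine Subtype.ext (Perm.ext fun i => ?_)
  rw [betaH_coe, beta_apply]
  revert i; decide +kernel

theorem lx_beta : betaH ⟨lx, toC_mem _ _ _⟩ = E 0 * E 1 * E 2 := by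
  refine Subtype.ext (Perm.ext fun i => ?_)
  rw [betaH_coe, beta_apply]
  revert i; decide +kernel

theorem lw_transvection : ∃ h : L4, h * lw = z4 * h :=
  ⟨⟨!![1, 0, 0, 0; 0, 1, 0, 0; 0, 0, 2, 0; 0, 0, 2, 2], by decide +kernel⟩, by decide +kernel⟩

theorem lx_transvection : ∃ h : L4, h * lx = z4 * h :=
  ⟨⟨!![1, 0, 0, 0; 2, 1, 0, 0; 0, 0, 1, 0; 0, 0, 2, 1], by decide +kernel⟩, by decide +kernel⟩

theorem card_H9 : Nat.card H9 = 648 := by
  rw [← Nat.card_congr A9LocalBridge49.mEquiv.toEquiv, Nat.card_eq_fintype_card, Model648.card_M648]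

open Cfsg.Agent.S9Base37 in
theorem e_comm_conj (k : Fin 3) {p : Perm (Fin 9)} (hp : p ∈ H9) :
    ∃ l, p * A9Base59.e k * p⁻¹ = A9Base59.e l ∨ p * A9Base59.e k * p⁻¹ = (A9Base59.e l)⁻¹ := by
  obtain ⟨⟨π, g⟩, rfl⟩ := exists_par_of_blocks hp
  have hc : ∀ s : Perm (Fin 3), s * cyc * s⁻¹ = cyc ∨ s * cyc * s⁻¹ = cyc⁻¹ := by decide +kernel
  let single : Fin 3 → Perm (Fin 3) → Par := fun l s => (1, fun x => if x = l then s else 1)
  have he : ∀ l : Fin 3, toP9 (single l cyc) = A9Base59.e l ∧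
      toP9 (single l cyc⁻¹) = (A9Base59.e l)⁻¹ := by decide +kernel
  have hk : ∀ s, s = g k * cyc * (g k)⁻¹ →
      toP9 (π, g) * A9Base59.e k = toP9 (single (π k) s) * toP9 (π, g) := by
    intro s hs
    rw [← (he k).1, toP9_mul, toP9_mul]
    refine congrArg toP9 (Prod.ext (by simp [pmul, single]) (funext fun q => ?_))
    simp only [pmul, single, Equiv.Perm.one_apply, π.injective.eq_iff]
    by_cases hq : q = k
    · subst hq; simp [hs]
    · simp [hq]
  refine ⟨π k, ?_⟩
  rcases hc (g k) with h | h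
  · left; rw [mul_inv_eq_iff_eq_mul, hk _ rfl, h, (he _).1]
  · right; rw [mul_inv_eq_iff_eq_mul, hk _ rfl, h, (he _).2]

open Cfsg.Agent.S9Base37 in
theorem comm_e_mem {p : Perm (Fin 9)} (hp : p ∈ H9)
    (hc : ∀ k, p * A9Base59.e k = A9Base59.e k * p) :
    ∃ a b c : Fin 3, p = A9Base59.e 0 ^ a.val * A9Base59.e 1 ^ b.val * A9Base59.e 2 ^ c.val := by
  obtain ⟨⟨π, g⟩, rfl⟩ := exists_par_of_blocks hp
  have hπ : π = 1 := by
    refine Perm.ext fun k => ?_
    have key : ∀ k : Fin 3, ∀ j : Fin 9, qq j ≠ k → A9Base59.e k j = j := by decide +kernel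
    have key' : ∀ k : Fin 3, ∀ j : Fin 9, qq j = k → A9Base59.e k j ≠ j := by decide +kernel
    by_contra hne
    have h1 := Perm.ext_iff.1 (hc k) (pt k 0)
    rw [Perm.mul_apply, Perm.mul_apply] at h1
    rw [key k ((toP9 (π, g)) (pt k 0))
      (by rw [toP9_apply, qq_pt, qq_pt]; simpa using hne)] at h1
    exact key' k _ (qq_pt k 0) ((toP9 (π, g)).injective h1)
  subst hπ
  have hg : ∀ k, g k * cyc = cyc * g k := by
    intro k
    refine Perm.ext fun r => ?_
    have he : ∀ l : Fin 3, ∀ r : Fin 3, A9Base59.e l (pt l r) = pt l (cyc r) := by decide +kernel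
    have h1 := congrArg rr (Perm.ext_iff.1 (hc k) (pt k r))
    rw [Perm.mul_apply, Perm.mul_apply, he, toP9_apply, toP9_apply] at h1
    simp only [qq_pt, rr_pt, Perm.one_apply] at h1
    rw [he, rr_pt] at h1
    exact h1
  have hs : ∀ s : Perm (Fin 3), s * cyc = cyc * s → ∃ a : Fin 3, s = cyc ^ a.val := by decide +kernel
  choose a ha using fun k => hs _ (hg k)
  refine ⟨a 0, a 1, a 2, ?_⟩
  have : g = fun k => cyc ^ (![a 0, a 1, a 2] k).val := by
    funext k; rw [ha k]; fin_cases k <;> rfl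
  rw [this]
  have key : ∀ x y z : Fin 3, toP9 (1, fun k => cyc ^ (![x, y, z] k).val) =
      A9Base59.e 0 ^ x.val * A9Base59.e 1 ^ y.val * A9Base59.e 2 ^ z.val := by decide +kernel
  exact key _ _ _

/-- A permutation outside the block stabiliser carrying the weight three element into it. -/
def pT : Perm (Fin 9) := swap 1 3 * swap 2 6 * swap 5 7 * (swap 0 3 * swap 1 4 * swap 2 5)

theorem pT_spec : Perm.sign pT = 1 ∧ pT ∉ H9 ∧
    pT * (A9Base59.e 0 * A9Base59.e 1 * A9Base59.e 2) * pT⁻¹ ∈ H9 := by decide +kernel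

/-! ### Groups containing the image of `SL(4,3)` -/

variable {G : Type*} [Group G] {f : L4 →* G}

theorem negOne_map (hf : Full f) : f negOne = 1 := (hf.ker _).2 (Or.inr rfl)

/-- An element carrying a transvection of the image into the image lies in the image. -/
theorem key (hf : Full f) {t h : L4} (ht : h * t = z4 * h) {g : G}
    (hg : g * f t * g⁻¹ ∈ f.range) : g ∈ f.range := by
  obtain ⟨s, hs⟩ := hg
  have e : f t = (f h)⁻¹ * f z4 * f h := by
    rw [mul_assoc, ← map_mul, ← ht, map_mul, inv_mul_cancel_left]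
  obtain ⟨k, hk⟩ := hf.zclass s (isConj_iff.2 ⟨g * (f h)⁻¹, by rw [hs, e]; group⟩)
  have hc : (f k)⁻¹ * g * (f h)⁻¹ ∈ f.range := hf.cent (Subgroup.mem_centralizer_singleton_iff.2 (by
    have h1 : f k * f z4 * (f k)⁻¹ = g * ((f h)⁻¹ * f z4 * f h) * g⁻¹ := by
      rw [← e, ← hs, hk, map_mul, map_mul, map_inv]
    calc (f k)⁻¹ * g * (f h)⁻¹ * f z4
        = (f k)⁻¹ * (g * ((f h)⁻¹ * f z4 * f h) * g⁻¹) * g * (f h)⁻¹ := by group
      _ = f z4 * ((f k)⁻¹ * g * (f h)⁻¹) := by rw [← h1]; group))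
  have hk' : f k ∈ f.range := ⟨k, rfl⟩
  have hh' : f h ∈ f.range := ⟨h, rfl⟩
  simpa [mul_assoc] using mul_mem (mul_mem hk' hc) hh'

/-- The centraliser. -/
abbrev B (f : L4 →* G) : Subgroup G := Subgroup.centralizer ({f xP} : Set G)

/-- The element generates a central subgroup. -/
def Z (f : L4 →* G) : Subgroup (B f) := (Subgroup.zpowers (f xP)).subgroupOf (B f)

instance Z_normal : (Z f).Normal := ⟨fun n hn g => by
  obtain ⟨i, hi⟩ := Subgroup.mem_zpowers_iff.1 hn
  replace hi : f xP ^ i = (n : G) := hi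
  have hc : Commute (g : G) (n : G) := by
    rw [← hi]
    exact Commute.zpow_right (Subgroup.mem_centralizer_singleton_iff.1 g.2) i
  have : g * n * g⁻¹ = n := Subtype.ext (by
    show (g : G) * n * (g : G)⁻¹ = n
    rw [hc.eq, mul_inv_cancel_right])
  rwa [this]⟩

/-- The centraliser modulo the element. -/
abbrev Bq (f : L4 →* G) := B f ⧸ Z f

/-- The map from the centraliser in the linear group. -/
def gam (f : L4 →* G) : Cx →* B f :=
  (f.comp Cx.subtype).codRestrict (B f) fun g => Subgroup.mem_centralizer_singleton_iff.2 (by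
    show f g * f xP = f xP * f g
    rw [← map_mul, ← map_mul, Subgroup.mem_centralizer_singleton_iff.1 g.2])

theorem gam_coe (g : Cx) : (gam f g : G) = f g := rfl

theorem mk_eq_one_iff (b : B f) :
    (QuotientGroup.mk' (Z f) b = 1) ↔ (b : G) ∈ Subgroup.zpowers (f xP) := by
  rw [QuotientGroup.mk'_apply, QuotientGroup.eq_one_iff]; rfl

theorem ker_mem (hf : Full f) {g : Cx} (hg : beta g = 1) :
    f (g : L4) ∈ Subgroup.zpowers (f xP) := by
  obtain ⟨s, hs | hs⟩ := beta_ker hg
  · rw [hs, scalar_cases, map_pow]; exact Subgroup.npow_mem_zpowers _ _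
  · rw [hs, map_mul, negOne_map hf, one_mul, scalar_cases, map_pow]
    exact Subgroup.npow_mem_zpowers _ _

theorem well_defined (hf : Full f) {g g' : Cx} (h : betaH g = betaH g') :
    QuotientGroup.mk' (Z f) (gam f g) = QuotientGroup.mk' (Z f) (gam f g') := by
  rw [← mul_inv_eq_one, ← map_inv, ← map_mul, ← map_inv, ← map_mul, mk_eq_one_iff, gam_coe]
  refine ker_mem hf ?_
  rw [map_mul, map_inv, ← betaH_coe, ← betaH_coe, h, mul_inv_cancel]

/-- The embedding of the block stabiliser. -/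
noncomputable def phi (hf : Full f) : H9 →* Bq f :=
  MonoidHom.mk' (fun a => QuotientGroup.mk' (Z f) (gam f (Function.surjInv betaH_surj a)))
    fun a b => by
      rw [← map_mul, ← map_mul]
      refine well_defined hf ?_
      rw [map_mul, Function.surjInv_eq betaH_surj, Function.surjInv_eq betaH_surj,
        Function.surjInv_eq betaH_surj]

theorem phi_beta (hf : Full f) (g : Cx) :
    phi hf (betaH g) = QuotientGroup.mk' (Z f) (gam f g) :=
  well_defined hf (Function.surjInv_eq betaH_surj _)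

theorem eq_pm (hf : Full f) {a b : L4} (h : f a = f b) : a = b ∨ a = negOne * b := by
  have e2 : f (a * b⁻¹) = 1 :=
    calc f (a * b⁻¹) = f a * f b⁻¹ := map_mul f a b⁻¹
      _ = f b * f b⁻¹ := congrArg (· * f b⁻¹) h
      _ = f (b * b⁻¹) := (map_mul f b b⁻¹).symm
      _ = 1 := by simp only [mul_inv_cancel, map_one]
  have e3 : a = a * b⁻¹ * b := (inv_mul_cancel_right a b).symm
  rcases (hf.ker (a * b⁻¹)).1 e2 with e | e
  · exact Or.inl (by rw [e3, e, one_mul])
  · exact Or.inr (by rw [e3, e])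

theorem phi_inj (hf : Full f) : Function.Injective (phi hf) := by
  rw [injective_iff_map_eq_one]
  intro a ha
  obtain ⟨g, rfl⟩ := betaH_surj a
  rw [phi_beta, mk_eq_one_iff, gam_coe] at ha
  obtain ⟨i, hi⟩ := Subgroup.mem_zpowers_iff.1 ha
  rw [← map_zpow] at hi
  rcases eq_pm hf hi with e | e
  · rw [show g = (⟨xP, xP_mem⟩ : Cx) ^ i from Subtype.ext (by simp [e]), map_zpow, betaH_xP,
      one_zpow]
  · have e' : (g : L4) = negOne * xP ^ i := by
      rw [e, ← mul_assoc, negOne_sq, one_mul]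
    rw [show g = (⟨negOne, negOne_mem⟩ : Cx) * (⟨xP, xP_mem⟩ : Cx) ^ i from
      Subtype.ext (by simp [e']), map_mul, map_zpow, betaH_xP, betaH_negOne, one_zpow, one_mul]

theorem mem_range_iff (hf : Full f) (b : B f) :
    QuotientGroup.mk' (Z f) b ∈ (phi hf).range ↔ (b : G) ∈ f.range := by
  constructor
  · rintro ⟨a, ha⟩
    obtain ⟨g, rfl⟩ := betaH_surj a
    rw [phi_beta, QuotientGroup.mk'_eq_mk'] at ha
    obtain ⟨z, hz, rfl⟩ := ha
    obtain ⟨i, hi⟩ := Subgroup.mem_zpowers_iff.1 hz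
    replace hi : f xP ^ i = (z : G) := hi
    exact ⟨g * xP ^ i, by rw [map_mul, map_zpow, hi, Subgroup.coe_mul, gam_coe]⟩
  · rintro ⟨s, hs⟩
    have hb := Subgroup.mem_centralizer_singleton_iff.1 b.2
    rw [← hs, ← map_mul, ← map_mul] at hb
    have hsx : s ∈ Cx := Subgroup.mem_centralizer_singleton_iff.2 (by
      rcases eq_pm hf hb with e | e
      · exact e
      · exfalso
        have h1 : s * xP * s⁻¹ = negOne * xP := by rw [e]; group
        have h2 := congrArg (fun y => y ^ 3) h1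
        rw [conj_pow, xP_cube, mul_one, mul_inv_cancel] at h2
        exact negOne_xP_cube h2.symm)
    exact ⟨betaH ⟨s, hsx⟩, by rw [phi_beta]; exact congrArg _ (Subtype.ext hs)⟩

/-- Fusion of the elements with a transvection in their coset. -/
theorem fusion (hf : Full f) {w : H9} {l : Cx} (hl : betaH l = w)
    (ht : ∃ h : L4, h * (l : L4) = z4 * h) {q : Bq f}
    (hq : q * phi hf w * q⁻¹ ∈ (phi hf).range) : q ∈ (phi hf).range := by
  obtain ⟨b, rfl⟩ := QuotientGroup.mk'_surjective (Z f) q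
  obtain ⟨h, ht⟩ := ht
  rw [← hl, phi_beta, ← map_inv, ← map_mul, ← map_mul, mem_range_iff hf] at hq
  rw [mem_range_iff hf]
  exact key hf ht (by simpa [gam_coe] using hq)

/-- The elementary subgroup of order twenty-seven. -/
noncomputable def Jq (hf : Full f) : Subgroup (Bq f) :=
  Subgroup.closure {phi hf (E 0), phi hf (E 1), phi hf (E 2)}

theorem E_mem_Jq (hf : Full f) (k : Fin 3) : phi hf (E k) ∈ Jq hf := by
  fin_cases k <;> exact Subgroup.subset_closure (by simp)

theorem Jq_le (hf : Full f) : Jq hf ≤ (phi hf).range :=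
  (Subgroup.closure_le _).2 (by rintro _ (rfl | rfl | rfl) <;> exact ⟨_, rfl⟩)

theorem conj_Jq (hf : Full f) (a : H9) {y : Bq f} (hy : y ∈ Jq hf) :
    phi hf a * y * (phi hf a)⁻¹ ∈ Jq hf := by
  suffices h : Jq hf ≤ (Jq hf).comap (MulAut.conj (phi hf a)).toMonoidHom from h hy
  refine (Subgroup.closure_le _).2 ?_
  have hk : ∀ k, phi hf a * phi hf (E k) * (phi hf a)⁻¹ ∈ Jq hf := fun k => by
    obtain ⟨l, hl | hl⟩ := e_comm_conj k a.2
    · rw [← map_inv, ← map_mul, ← map_mul, show a * E k * a⁻¹ = E l from Subtype.ext hl]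
      exact E_mem_Jq hf l
    · rw [← map_inv, ← map_mul, ← map_mul, show a * E k * a⁻¹ = (E l)⁻¹ from Subtype.ext hl, map_inv]
      exact inv_mem (E_mem_Jq hf l)
  rintro _ (rfl | rfl | rfl) <;> exact hk _

theorem phi_range (hf : Full f) :
    (phi hf).range = Subgroup.normalizer (Jq hf : Set (Bq f)) := by
  refine le_antisymm ?_ fun q hq => ?_
  · rintro _ ⟨a, rfl⟩
    refine Subgroup.mem_normalizer_iff.2 fun y => ⟨conj_Jq hf a, fun hy => ?_⟩
    have := conj_Jq hf a⁻¹ hy
    simpa [mul_assoc] using this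
  · refine fusion hf (l := ⟨lw, toC_mem _ _ _⟩) lw_beta lw_transvection (Jq_le hf ?_)
    exact (Subgroup.mem_normalizer_iff.1 hq _).1
      (by rw [map_mul]; exact mul_mem (E_mem_Jq hf 0) (E_mem_Jq hf 1))

theorem phi_cJ (hf : Full f) :
    Subgroup.centralizer (Jq hf : Set (Bq f)) = Jq hf := by
  refine le_antisymm (fun q hq => ?_) ?_
  · rw [Subgroup.mem_centralizer_iff] at hq
    obtain ⟨a, rfl⟩ : q ∈ (phi hf).range := by
      refine fusion hf (l := ⟨lw, toC_mem _ _ _⟩) lw_beta lw_transvection ⟨E 0 * E 1, ?_⟩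
      rw [← hq _ (by rw [map_mul]; exact mul_mem (E_mem_Jq hf 0) (E_mem_Jq hf 1)), mul_inv_cancel_right]
    obtain ⟨i, j, k, he⟩ := comm_e_mem a.2 fun l => by
      have := phi_inj hf (by rw [map_mul, map_mul]; exact hq _ (E_mem_Jq hf l) :
        phi hf (E l * a) = phi hf (a * E l))
      exact (congrArg Subtype.val this).symm
    rw [show a = E 0 ^ i.val * E 1 ^ j.val * E 2 ^ k.val from Subtype.ext (by simpa [E] using he),
      map_mul, map_mul, map_pow, map_pow, map_pow]
    exact mul_mem (mul_mem (pow_mem (E_mem_Jq hf 0) _) (pow_mem (E_mem_Jq hf 1) _))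
      (pow_mem (E_mem_Jq hf 2) _)
  · refine (Subgroup.closure_le _).2 ?_
    have h : ∀ k, phi hf (E k) ∈ Subgroup.centralizer (Jq hf : Set (Bq f)) := fun k => by
      rw [Jq, Subgroup.centralizer_closure, Subgroup.mem_centralizer_iff]
      have hE : ∀ k l : Fin 3, A9Base59.e k * A9Base59.e l = A9Base59.e l * A9Base59.e k := by
        decide +kernel
      have hl : ∀ l, phi hf (E l) * phi hf (E k) = phi hf (E k) * phi hf (E l) := fun l => by
        rw [← map_mul, ← map_mul]; exact congrArg _ (Subtype.ext (hE l k))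
      rintro _ (rfl | rfl | rfl) <;> exact hl _
    rintro _ (rfl | rfl | rfl) <;> exact h _

theorem phi_cent (hf : Full f) {w : H9} {l : Cx} (hl : betaH l = w)
    (ht : ∃ h : L4, h * (l : L4) = z4 * h) :
    Subgroup.centralizer ({phi hf w} : Set (Bq f)) ≤ Subgroup.normalizer (Jq hf : Set (Bq f)) := by
  intro q hq
  rw [← phi_range]
  refine fusion hf hl ht ⟨w, ?_⟩
  rw [Subgroup.mem_centralizer_singleton_iff.1 hq, mul_inv_cancel_right]

theorem phi_sylow [Finite G] (hf : Full f) : ¬ 3 ^ 5 ∣ Nat.card (Bq f) := by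
  intro hdvd
  have : Fact (Nat.Prime 3) := ⟨Nat.prime_three⟩
  set R := (phi hf).range
  have hR : Nat.card R = 648 := by
    rw [← Nat.card_congr (MonoidHom.ofInjective (phi_inj hf)).toEquiv, card_H9]
  have hy : orderOf (E 0 * E 1) = 3 := by
    refine orderOf_eq_prime (Subtype.ext ?_) fun h => ?_
    · show (A9Base59.e 0 * A9Base59.e 1) ^ 3 = 1
      decide +kernel
    · exact absurd (congrArg Subtype.val h) (show A9Base59.e 0 * A9Base59.e 1 ≠ 1 by decide +kernel)
  let y : R := ⟨phi hf (E 0 * E 1), ⟨_, rfl⟩⟩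
  have hyp : IsPGroup 3 (Subgroup.zpowers y) := IsPGroup.of_card (n := 1) (by
    rw [Nat.card_zpowers, ← Subgroup.orderOf_coe, orderOf_injective _ (phi_inj hf), hy, pow_one])
  obtain ⟨P, hP⟩ := hyp.exists_le_sylow
  have hPc : Nat.card (P : Subgroup R) = 3 ^ 4 := by
    rw [P.card_eq_multiplicity, hR, Nat.factorization_def _ Nat.prime_three,
      show (648 : ℕ) = 3 ^ 4 * 8 by norm_num, padicValNat.mul (by norm_num) (by norm_num),
      padicValNat.prime_pow, padicValNat.eq_zero_of_not_dvd (by norm_num)]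
  set P0 : Subgroup (Bq f) := (P : Subgroup R).map R.subtype
  have hP0 : Nat.card P0 = 3 ^ 4 := by
    rw [← hPc]
    exact (Nat.card_congr ((P : Subgroup R).equivMapOfInjective _ R.subtype_injective).toEquiv).symm
  have h5 := Sylow.prime_pow_dvd_card_normalizer hdvd hP0
  have hle : Subgroup.normalizer (P0 : Set (Bq f)) ≤ R := fun q hq => by
    refine fusion hf (l := ⟨lw, toC_mem _ _ _⟩) lw_beta lw_transvection
      (Subgroup.map_subtype_le (P : Subgroup R) ?_)
    exact (Subgroup.mem_normalizer_iff.1 hq _).1 ⟨y, hP (Subgroup.mem_zpowers y), rfl⟩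
  have := h5.trans (Subgroup.card_dvd_of_le hle)
  rw [hR] at this
  norm_num at this

theorem loc [Finite G] (hf : Full f) : Loc (Jq hf) (phi hf) where
  inj := phi_inj hf
  range_eq := phi_range hf
  base := rfl
  cJ := phi_cJ hf
  sylow := phi_sylow hf
  cw := phi_cent hf (l := ⟨lw, toC_mem _ _ _⟩) lw_beta lw_transvection
  cx := phi_cent hf (l := ⟨lx, toC_mem _ _ _⟩) lx_beta lx_transvection

/-- The alternating branch does not occur. -/
theorem no_nine (hf : Full f) {ι : ∀ k : Fin 3, A9Base59.N9 k →* Bq f}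
    {ψ : alternatingGroup (Fin 9) →* Bq f} (N : Nine (phi hf) ι ψ) : False := by
  obtain ⟨hs, hn, hm⟩ := pT_spec
  let p : alternatingGroup (Fin 9) := ⟨pT, Perm.mem_alternatingGroup.2 hs⟩
  let x : alternatingGroup (Fin 9) := ⟨((E 0 * E 1 * E 2 : H9) : Perm (Fin 9)),
    Perm.mem_alternatingGroup.2 (E 0 * E 1 * E 2 : H9).2.1⟩
  have hx : ψ x = phi hf (E 0 * E 1 * E 2) := N.ext x (E 0 * E 1 * E 2 : H9).2
  have hp : ψ p ∈ (phi hf).range := by
    refine fusion hf (l := ⟨lx, toC_mem _ _ _⟩) lx_beta lx_transvection ⟨⟨_, hm⟩, ?_⟩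
    rw [← hx, ← map_inv, ← map_mul, ← map_mul]
    exact (N.ext (p * x * p⁻¹) hm).symm
  obtain ⟨a, ha⟩ := hp
  let a' : alternatingGroup (Fin 9) := ⟨a.1, Perm.mem_alternatingGroup.2 a.2.1⟩
  have : p = a' := N.inj (by rw [← ha]; exact (N.ext a' a.2).symm)
  have e : pT = a.1 := congrArg Subtype.val this
  exact hn (e ▸ a.2)

/-- The conclusion in the branch without alternating centralisers. -/
theorem le_range_of_local [Finite G] (hf : Full f)
    (he : Subgroup.centralizer ({phi hf (E 0)} : Set (Bq f)) ≤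
      Subgroup.normalizer (Jq hf : Set (Bq f))) :
    Subgroup.centralizer ({f xP} : Set G) ≤ f.range := by
  intro g hg
  have h := A9LocalBridge49.normalizer_eq_top (loc hf) he
  have : QuotientGroup.mk' (Z f) ⟨g, hg⟩ ∈ (phi hf).range := by
    rw [phi_range, h]; exact Subgroup.mem_top _
  exact (mem_range_iff hf _).1 this

end Cfsg.Agent.L43Rank70
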