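import Cfsg.Agent.Lib.L43Rank70Tab

/-!
The homomorphism from the centraliser of a rank two element of `SL(4,3)` onto the stabiliser of a
partition into three blocks in the alternating group of degree nine (S3373).
-/

set_option autoImplicit false
set_option Elab.async false

namespace Cfsg.Agent.L43Rank70

open Equiv Cfsg.Agent.L43Three45

abbrev Mat4 := Matrix (Fin 4) (Fin 4) F3

theorem xP_coe : (xP : Mat4) = !![1, 0, 1, 0; 0, 1, 0, 1; 0, 0, 1, 0; 0, 0, 0, 1] := by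
  decide +kernel

/-- The centraliser of the element of rank two. -/
def Cx : Subgroup L4 := Subgroup.centralizer ({xP} : Set L4)

def aOf (g : L4) : M2 := ((g : Mat4) 0 0, (g : Mat4) 0 1, (g : Mat4) 1 0, (g : Mat4) 1 1)
def bOf (g : L4) : M2 := ((g : Mat4) 0 2, (g : Mat4) 0 3, (g : Mat4) 1 2, (g : Mat4) 1 3)

theorem entries {g : L4} (hg : g ∈ Cx) :
    (g : Mat4) 2 0 = 0 ∧ (g : Mat4) 2 1 = 0 ∧ (g : Mat4) 3 0 = 0 ∧ (g : Mat4) 3 1 = 0 ∧
    (g : Mat4) 2 2 = (g : Mat4) 0 0 ∧ (g : Mat4) 2 3 = (g : Mat4) 0 1 ∧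
    (g : Mat4) 3 2 = (g : Mat4) 1 0 ∧ (g : Mat4) 3 3 = (g : Mat4) 1 1 := by
  have h := congrArg (fun m : L4 => (m : Mat4)) (Subgroup.mem_centralizer_singleton_iff.1 hg)
  simp only [Matrix.SpecialLinearGroup.coe_mul, xP_coe] at h
  have e : ∀ i j, (((g : Mat4) * (!![1, 0, 1, 0; 0, 1, 0, 1; 0, 0, 1, 0; 0, 0, 0, 1] : Mat4) : Mat4) i j) =
      ((!![1, 0, 1, 0; 0, 1, 0, 1; 0, 0, 1, 0; 0, 0, 0, 1] : Mat4) * (g : Mat4)) i j :=
    fun i j => congrFun (congrFun h i) j
  have e00 := e 0 0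
  have e01 := e 0 1
  have e10 := e 1 0
  have e11 := e 1 1
  have e02 := e 0 2
  have e03 := e 0 3
  have e12 := e 1 2
  have e13 := e 1 3
  simp [Matrix.mul_apply, Fin.sum_univ_four] at e00 e01 e10 e11 e02 e03 e12 e13
  refine ⟨?_, ?_, ?_, ?_, ?_, ?_, ?_, ?_⟩ <;>
    first | linear_combination e00 | linear_combination -e00 | linear_combination e01 |
      linear_combination -e01 | linear_combination e10 | linear_combination -e10 |
      linear_combination e11 | linear_combination -e11 | linear_combination e02 |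
      linear_combination -e02 | linear_combination e03 | linear_combination -e03 |
      linear_combination e12 | linear_combination -e12 | linear_combination e13 |
      linear_combination -e13

theorem aOf_mul {g h : L4} (hh : h ∈ Cx) : aOf (g * h) = mm (aOf g) (aOf h) := by
  obtain ⟨e1, e2, e3, e4, -⟩ := entries hh
  simp [aOf, mm, Matrix.mul_apply, Fin.sum_univ_four, e1, e2, e3, e4]

theorem bOf_mul {g h : L4} (hh : h ∈ Cx) :
    bOf (g * h) = mm (aOf g) (bOf h) + mm (bOf g) (aOf h) := by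
  obtain ⟨-, -, -, -, e1, e2, e3, e4⟩ := entries hh
  simp [aOf, bOf, mm, Matrix.mul_apply, Fin.sum_univ_four, e1, e2, e3, e4]
  refine ⟨?_, ?_, ?_, ?_⟩ <;> ring

theorem aOf_one : aOf 1 = one2 := by simp [aOf, one2]
theorem bOf_one : bOf 1 = (0, 0, 0, 0) := by simp [bOf]

theorem det2_mm (a a' : M2) : det2 (mm a a') = det2 a * det2 a' := by
  obtain ⟨a, b, c, d⟩ := a
  obtain ⟨a', b', c', d'⟩ := a'
  simp [det2, mm]; ring

theorem det_aOf {g : L4} (hg : g ∈ Cx) : det2 (aOf g) ≠ 0 := by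
  intro h
  have e := congrArg det2 (aOf_mul (g := g⁻¹) hg)
  rw [inv_mul_cancel, aOf_one, det2_mm, h, mul_zero] at e
  exact det_one2 e

theorem mm_assoc (x y z : M2) : mm (mm x y) z = mm x (mm y z) := by
  obtain ⟨a, b, c, d⟩ := x
  obtain ⟨a', b', c', d'⟩ := y
  obtain ⟨p, q, r, s⟩ := z
  simp [mm]
  refine ⟨?_, ?_, ?_, ?_⟩ <;> ring

theorem mm_add (x y z : M2) : mm (x + y) z = mm x z + mm y z := by
  obtain ⟨a, b, c, d⟩ := x
  obtain ⟨a', b', c', d'⟩ := y
  obtain ⟨p, q, r, s⟩ := z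
  simp [mm]
  refine ⟨?_, ?_, ?_, ?_⟩ <;> ring

theorem mm_one (x : M2) : mm x one2 = x := by
  obtain ⟨a, b, c, d⟩ := x
  simp [mm, one2]

theorem cc_add (l : Fin 3) (x y : M2) : cc l (x + y) = cc l x + cc l y := by
  simp only [cc, mm_add]
  generalize mm x (ax l) = p
  generalize mm y (ax l) = q
  obtain ⟨a, b, c, d⟩ := p
  obtain ⟨a', b', c', d'⟩ := q
  simp [tr2]; ring

theorem trans_mul {a a' : M2} (ha : det2 a ≠ 0) (ha' : det2 a' ≠ 0) (b b' : M2) :
    mm (mm a b' + mm b a') (inv2 (mm a a')) =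
      mm (mm a (mm b' (inv2 a'))) (inv2 a) + mm b (inv2 a) := by
  have e : mm (mm b a') (mm (inv2 a') (inv2 a)) = mm b (inv2 a) := by
    rw [← mm_assoc, mm_assoc b a', inv2_spec a' ha', mm_one]
  rw [inv2_mm a ha a' ha', mm_add, e]
  congr 1
  rw [mm_assoc, mm_assoc, mm_assoc]

theorem F_eq (a b : M2) (k : Fin 3) (o : F3) :
    F a b (S9Base37.pt k ⟨o.val, ZMod.val_lt o⟩) =
      S9Base37.pt (bp a k) ⟨(sg a k * o + cc (bp a k) (mm b (inv2 a))).val, ZMod.val_lt _⟩ := by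
  have h1 : (⟨(S9Base37.pt k ⟨o.val, ZMod.val_lt o⟩).val / 3, by omega⟩ : Fin 3) = k :=
    S9Base37.qq_pt _ _
  have h2 : (((S9Base37.pt k ⟨o.val, ZMod.val_lt o⟩).val % 3 : ℕ) : F3) = o := by
    have := congrArg Fin.val (S9Base37.rr_pt k ⟨o.val, ZMod.val_lt o⟩)
    simp only [S9Base37.rr] at this
    rw [this, ZMod.natCast_zmod_val]
  simp only [F, h1, h2]
  rfl

theorem pt_surj (i : Fin 9) : ∃ (k : Fin 3) (o : F3), S9Base37.pt k ⟨o.val, ZMod.val_lt o⟩ = i := by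
  refine ⟨S9Base37.qq i, ((i.val % 3 : ℕ) : F3), ?_⟩
  conv_rhs => rw [← S9Base37.pt_qr i]
  congr 1
  exact Fin.ext (ZMod.val_natCast_of_lt (n := 3) (Nat.mod_lt _ (by norm_num)))

theorem pt_congr (l : Fin 3) {x y : F3} (h : x = y) :
    S9Base37.pt l ⟨x.val, ZMod.val_lt x⟩ = S9Base37.pt l ⟨y.val, ZMod.val_lt y⟩ := by
  subst h; rfl

theorem F_mul {a a' : M2} (ha : det2 a ≠ 0) (ha' : det2 a' ≠ 0) (b b' : M2) (i : Fin 9) :
    F (mm a a') (mm a b' + mm b a') i = F a b (F a' b' i) := by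
  obtain ⟨k, o, rfl⟩ := pt_surj i
  rw [F_eq, F_eq, F_eq, bp_mm a ha a' ha', trans_mul ha ha', cc_add, cc_conj a ha, sg_mm a ha a' ha']
  apply pt_congr
  ring

theorem F_group {g h : L4} (hg : g ∈ Cx) (hh : h ∈ Cx) (i : Fin 9) :
    F (aOf (g * h)) (bOf (g * h)) i = F (aOf g) (bOf g) (F (aOf h) (bOf h) i) := by
  rw [aOf_mul hh, bOf_mul hh, F_mul (det_aOf hg) (det_aOf hh)]

/-- The action on nine points. -/
def beta : Cx →* Perm (Fin 9) where
  toFun g :=
    { toFun := F (aOf g.1) (bOf g.1)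
      invFun := F (aOf g.1⁻¹) (bOf g.1⁻¹)
      left_inv := fun i => by
        rw [← F_group (inv_mem g.2) g.2, inv_mul_cancel, aOf_one, bOf_one, F_one]
      right_inv := fun i => by
        rw [← F_group g.2 (inv_mem g.2), mul_inv_cancel, aOf_one, bOf_one, F_one] }
  map_one' := by
    ext i
    show (F (aOf 1) (bOf 1) i).val = i.val
    rw [aOf_one, bOf_one, F_one]
  map_mul' g h := by
    ext i
    exact congrArg Fin.val (F_group g.2 h.2 i)

theorem beta_apply (g : Cx) (i : Fin 9) : beta g i = F (aOf g.1) (bOf g.1) i := rfl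

theorem det_sq : ∀ a : M2, det2 a ≠ 0 → det2 a * det2 a = 1 := by decide +kernel

/-- The element with blocks `a, b, a`. -/
def toC (a b : M2) (ha : det2 a ≠ 0) : L4 :=
  ⟨!![a.1, a.2.1, b.1, b.2.1; a.2.2.1, a.2.2.2, b.2.2.1, b.2.2.2;
      0, 0, a.1, a.2.1; 0, 0, a.2.2.1, a.2.2.2], by
    rw [← det_sq a ha]
    obtain ⟨p, q, r, s⟩ := a
    simp [Matrix.det_succ_row_zero, Fin.sum_univ_succ, Fin.succAbove, det2]
    ring⟩

theorem toC_mem (a b : M2) (ha : det2 a ≠ 0) : toC a b ha ∈ Cx := by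
  rw [Cx, Subgroup.mem_centralizer_singleton_iff]
  refine Subtype.ext ?_
  simp only [Matrix.SpecialLinearGroup.coe_mul, xP_coe]
  ext i j
  fin_cases i <;> fin_cases j <;> simp [toC, Matrix.mul_apply, Fin.sum_univ_four] <;> ring

theorem beta_toC (a b : M2) (ha : det2 a ≠ 0) (i : Fin 9) :
    beta ⟨toC a b ha, toC_mem a b ha⟩ i = F a b i := by
  rw [beta_apply]
  rfl

/-- The element of `Cx` given by `u` and `a`. -/
def mk (u a : M2) (ha : det2 a ≠ 0) : Cx := ⟨toC a (mm u a) ha, toC_mem _ _ ha⟩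

theorem sign_lin : ∀ a : M2, ∀ ha : det2 a ≠ 0, Perm.sign (beta (mk (0, 0, 0, 0) a ha)) = 1 := by
  decide +kernel

theorem sign_trans : ∀ u : M2, Perm.sign (beta (mk u one2 det_one2)) = 1 := by decide +kernel

theorem mk_decomp {g : L4} (hg : g ∈ Cx) :
    (⟨g, hg⟩ : Cx) = mk (mm (bOf g) (inv2 (aOf g))) one2 det_one2 *
      mk (0, 0, 0, 0) (aOf g) (det_aOf hg) := by
  obtain ⟨e1, e2, e3, e4, e5, e6, e7, e8⟩ := entries hg
  have hb : mm (mm (bOf g) (inv2 (aOf g))) (aOf g) = bOf g := by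
    rw [mm_assoc, show mm (inv2 (aOf g)) (aOf g) = one2 from ?_, mm_one]
    have : ∀ a : M2, det2 a ≠ 0 → mm (inv2 a) a = one2 := by decide +kernel
    exact this _ (det_aOf hg)
  refine Subtype.ext (Subtype.ext ?_)
  simp only [Subgroup.coe_mul, Matrix.SpecialLinearGroup.coe_mul, mk]
  revert hb
  generalize hu : mm (bOf g) (inv2 (aOf g)) = u
  intro hb
  obtain ⟨p, q, r, s⟩ := u
  simp only [mm, aOf, bOf, Prod.mk.injEq] at hb
  obtain ⟨f1, f2, f3, f4⟩ := hb
  ext i j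
  fin_cases i <;> fin_cases j <;>
    simp [toC, aOf, one2, mm, Matrix.mul_apply, Fin.sum_univ_four, e1, e2, e3, e4, e5, e6, e7, e8,
      f1, f2, f3, f4]

theorem sign_beta (g : Cx) : Perm.sign (beta g) = 1 := by
  obtain ⟨g, hg⟩ := g
  rw [mk_decomp hg, map_mul, map_mul, sign_lin, sign_trans, one_mul]

open A9Base59 in
theorem beta_mem (g : Cx) : beta g ∈ H9 := by
  refine ⟨sign_beta g, fun i j => ?_⟩
  obtain ⟨k, o, rfl⟩ := pt_surj i
  obtain ⟨k', o', rfl⟩ := pt_surj j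
  rw [beta_apply, beta_apply, F_eq, F_eq]
  show S9Base37.qq _ = S9Base37.qq _ ↔ S9Base37.qq _ = S9Base37.qq _
  simp only [S9Base37.qq_pt]
  exact ⟨fun h => by rw [h], bp_inj _ (det_aOf g.2) k k'⟩

/-- The homomorphism onto the block stabiliser. -/
def betaH : Cx →* A9Base59.H9 := beta.codRestrict A9Base59.H9 beta_mem

theorem betaH_coe (g : Cx) : (betaH g : Perm (Fin 9)) = beta g := rfl

theorem beta_ker {g : Cx} (h : beta g = 1) :
    ∃ s : F3, (g : L4) = toC one2 (s, 0, 0, s) det_one2 ∨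
      (g : L4) = negOne * toC one2 (s, 0, 0, s) det_one2 := by
  obtain ⟨g, hg⟩ := g
  obtain ⟨e1, e2, e3, e4, e5, e6, e7, e8⟩ := entries hg
  have h0 : ∀ (k : Fin 3) (o : F3), bp (aOf g) k = k ∧
      sg (aOf g) k * o + cc (bp (aOf g) k) (mm (bOf g) (inv2 (aOf g))) = o := by
    intro k o
    have := Perm.ext_iff.1 h (S9Base37.pt k ⟨o.val, ZMod.val_lt o⟩)
    rw [Perm.one_apply, beta_apply, F_eq] at this
    have h1 := congrArg S9Base37.qq this
    have h2 := congrArg (fun i => (S9Base37.rr i).val) this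
    simp only [S9Base37.qq_pt, S9Base37.rr_pt] at h1 h2
    exact ⟨h1, ZMod.val_injective _ h2⟩
  have hc : ∀ k, cc k (mm (bOf g) (inv2 (aOf g))) = 0 := fun k => by
    obtain ⟨a1, a2⟩ := h0 k 0
    rwa [a1, mul_zero, zero_add] at a2
  have hs : ∀ k, bp (aOf g) k = k ∧ sg (aOf g) k = 1 := fun k => by
    obtain ⟨a1, a2⟩ := h0 k 1
    rw [a1, hc, add_zero, mul_one] at a2
    exact ⟨a1, a2⟩
  obtain ⟨s, hu⟩ := ker_trans _ hc
  refine ⟨s, ?_⟩
  rcases ker_lin _ (det_aOf hg) hs with ha | ha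
  · left
    rw [ha, show inv2 one2 = one2 from by decide, mm_one] at hu
    simp only [aOf, bOf, one2, Prod.mk.injEq] at ha hu
    obtain ⟨a1, a2, a3, a4⟩ := ha
    obtain ⟨b1, b2, b3, b4⟩ := hu
    refine Subtype.ext (Matrix.ext fun i j => ?_)
    fin_cases i <;> fin_cases j <;>
      simp [toC, one2, a1, a2, a3, a4, b1, b2, b3, b4, e1, e2, e3, e4, e5, e6, e7, e8]
  · right
    rw [ha] at hu
    simp only [aOf, bOf, inv2, mm, Prod.mk.injEq] at ha hu
    obtain ⟨a1, a2, a3, a4⟩ := ha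
    obtain ⟨b1, b2, b3, b4⟩ := hu
    refine Subtype.ext ?_
    rw [Matrix.SpecialLinearGroup.coe_mul,
      show (negOne : Mat4) = !![2, 0, 0, 0; 0, 2, 0, 0; 0, 0, 2, 0; 0, 0, 0, 2] from by decide +kernel]
    refine Matrix.ext fun i j => ?_
    have h3 : (3 : F3) = 0 := by decide
    fin_cases i <;> fin_cases j <;>
      simp [toC, one2, Matrix.mul_apply, Fin.sum_univ_four, a1, a2, a3, a4, e1, e2, e3, e4, e5, e6, e7, e8] <;>
      first | linear_combination 2 * b1 - 5 * (g : Mat4) 0 2 * h3 |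
        linear_combination 2 * b2 - 5 * (g : Mat4) 0 3 * h3 |
        linear_combination 2 * b3 - 5 * (g : Mat4) 1 2 * h3 |
        linear_combination 2 * b4 - 5 * (g : Mat4) 1 3 * h3

open Cfsg.Agent.S9Base37 in
theorem exists_par_of_blocks {p : Perm (Fin 9)} (h : p ∈ A9Base59.H9) :
    ∃ q : Par, toP9 q = p := by
  obtain ⟨-, hb⟩ := h
  have hb' : ∀ k r, qq (p (pt k r)) = qq (p (pt k 0)) := fun k r =>
    (hb _ _).1 ((qq_pt k r).trans (qq_pt k 0).symm)
  have hinj : Function.Injective fun k => qq (p (pt k 0)) := fun k l e => by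
    have := (hb (pt k 0) (pt l 0)).2 e
    exact (qq_pt k 0).symm.trans (this.trans (qq_pt l 0))
  have hinj' : ∀ k, Function.Injective fun r => rr (p (pt k r)) := fun k r s e => by
    have e2 : qq (p (pt k r)) = qq (p (pt k s)) := (hb' k r).trans (hb' k s).symm
    have : p (pt k r) = p (pt k s) := by
      rw [← pt_qr (p (pt k r)), ← pt_qr (p (pt k s)), e2, show rr (p (pt k r)) = rr (p (pt k s)) from e]
    simpa [rr_pt] using congrArg rr (p.injective this)
  refine ⟨(Equiv.ofBijective _ (Finite.injective_iff_bijective.1 hinj),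
    fun k => Equiv.ofBijective _ (Finite.injective_iff_bijective.1 (hinj' k))), ?_⟩
  ext i
  rw [toP9_apply]
  simp only [Equiv.ofBijective_apply]
  conv_rhs => rw [← pt_qr i, ← pt_qr (p (pt (qq i) (rr i))), hb']

open Cfsg.Agent.S9Base37 in
theorem exists_beta (π : Perm (Fin 3)) (g : Fin 3 → Perm (Fin 3)) {a : M2} (ha : det2 a ≠ 0)
    (h : ∀ k, bp a k = π k ∧ sg a k = ((g k 1).val : F3) - ((g k 0).val : F3)) :
    ∃ x : Cx, beta x = toP9 (π, g) := by
  obtain ⟨u, hu⟩ := cover_trans ((g (π.symm 0) 0).val : F3) ((g (π.symm 1) 0).val : F3)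
    ((g (π.symm 2) 0).val : F3)
  have hu' : ∀ k, cc (π k) u = ((g k 0).val : F3) := fun k => by
    rw [hu (π k)]
    have : ∀ l : Fin 3, ![((g (π.symm 0) 0).val : F3), ((g (π.symm 1) 0).val : F3),
        ((g (π.symm 2) 0).val : F3)] l = ((g (π.symm l) 0).val : F3) := by
      intro l; fin_cases l <;> rfl
    rw [this, Equiv.symm_apply_apply]
  refine ⟨mk u a ha, Equiv.ext fun i => ?_⟩
  obtain ⟨k, o, rfl⟩ := pt_surj i
  rw [mk, beta_toC, F_eq, toP9_apply, qq_pt, rr_pt]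
  rw [mm_assoc, inv2_spec a ha, mm_one]
  obtain ⟨h1, h2⟩ := h k
  obtain ⟨-, h3⟩ := affine_perm (g k)
  simp only [h1]
  refine congrArg (pt (π k)) (Fin.ext ?_)
  show (sg a k * o + cc (π k) u).val = _
  rw [h2, hu' k, h3 o]

open Cfsg.Agent.S9Base37 in
theorem betaH_surj : Function.Surjective betaH := by
  rintro ⟨p, hp⟩
  obtain ⟨⟨π, g⟩, rfl⟩ := exists_par_of_blocks hp
  rcases cover_lin π _ (affine_perm (g 0)).1 _ (affine_perm (g 1)).1 _ (affine_perm (g 2)).1 with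
    ⟨a, ha, hF⟩ | ⟨a, ha, hF⟩
  · obtain ⟨x, hx⟩ := exists_beta π g ha fun k => ⟨(hF k).1, by
      rw [(hF k).2]; fin_cases k <;> rfl⟩
    exact ⟨x, Subtype.ext (by rw [betaH_coe, hx])⟩
  · exfalso
    let g' : Fin 3 → Perm (Fin 3) := fun k => g k * (if k = 0 then swap 0 1 else 1)
    obtain ⟨x, hx⟩ := exists_beta π g' ha fun k => ⟨(hF k).1, by
      rw [(hF k).2]
      fin_cases k
      · exact (affine_swap (g 0)).symm
      · simp [g']
      · simp [g']⟩
    have e : pmul (π, g) (pd 0) = (π, g') := by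
      refine Prod.ext (by simp [pmul, pd]) (funext fun q => ?_)
      simp [pmul, pd, g']
    have h2 := congrArg Perm.sign hx
    rw [sign_beta, ← e, ← toP9_mul, map_mul, hp.1,
      show Perm.sign (toP9 (pd 0)) = -1 from by decide +kernel, one_mul] at h2
    exact absurd h2 (by decide)

end Cfsg.Agent.L43Rank70
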