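import Mathlib
import Cfsg.Agent.Lib.S9Model37

/-!
Coordinates on `S₃ ≀ S₃` and the base.
-/

set_option autoImplicit false
set_option Elab.async false

namespace Cfsg.Agent.S9Base37

open Equiv S9Model37

/-- A block permutation and a permutation inside each block. -/
abbrev Par := Equiv.Perm (Fin 3) × (Fin 3 → Equiv.Perm (Fin 3))

/-- The point `3 q + r`. -/
def pt (q r : Fin 3) : Fin 9 := ⟨3 * q.val + r.val, by omega⟩

def qq (i : Fin 9) : Fin 3 := ⟨i.val / 3, by omega⟩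
def rr (i : Fin 9) : Fin 3 := ⟨i.val % 3, by omega⟩

theorem pt_qr (i : Fin 9) : pt (qq i) (rr i) = i := Fin.ext (Nat.div_add_mod i.val 3)

theorem qq_pt (q r : Fin 3) : qq (pt q r) = q := Fin.ext (by simp only [qq, pt]; omega)

theorem rr_pt (q r : Fin 3) : rr (pt q r) = r := Fin.ext (by simp only [rr, pt]; omega)

/-- The permutation of nine points with given coordinates. -/
def toP9 (p : Par) : P9 where
  toFun i := pt (p.1 (qq i)) (p.2 (qq i) (rr i))
  invFun i := pt (p.1⁻¹ (qq i)) ((p.2 (p.1⁻¹ (qq i)))⁻¹ (rr i))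
  left_inv i := by simp [qq_pt, rr_pt, pt_qr]
  right_inv i := by simp [qq_pt, rr_pt, pt_qr]

theorem toP9_apply (p : Par) (i : Fin 9) : toP9 p i = pt (p.1 (qq i)) (p.2 (qq i) (rr i)) := rfl

def pmul (a b : Par) : Par := (a.1 * b.1, fun q => a.2 (b.1 q) * b.2 q)

theorem toP9_mul (a b : Par) : toP9 a * toP9 b = toP9 (pmul a b) := by
  ext i
  simp [Equiv.Perm.mul_apply, toP9_apply, pmul, qq_pt, rr_pt]

theorem toP9_one : toP9 (1, fun _ => 1) = 1 := by
  ext i
  simp [toP9_apply, pt_qr]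

def cyc : Equiv.Perm (Fin 3) := swap 0 1 * swap 1 2

def pc (q : Fin 3) : Par := (1, fun x => if x = q then cyc else 1)
def pd (q : Fin 3) : Par := (1, fun x => if x = q then swap 0 1 else 1)
def prot : Par := (swap 0 1 * swap 1 2, fun _ => 1)
def ptau : Par := (swap 0 1, fun _ => 1)
def pd12 : Par := pmul (pd 0) (pd 1)
def pd23 : Par := pmul (pd 1) (pd 2)
def pd123 : Par := pmul pd12 (pd 2)

theorem gens_eq : toP9 (pc 0) = c1 ∧ toP9 (pc 1) = c2 ∧ toP9 (pc 2) = c3 ∧ toP9 (pd 0) = d1 ∧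
    toP9 (pd 1) = d2 ∧ toP9 (pd 2) = d3 ∧ toP9 prot = rot ∧ toP9 ptau = tau := by decide +kernel

theorem gens_inv : ∀ q : Fin 3, (toP9 (pc q))⁻¹ = toP9 (pmul (pc q) (pc q)) ∧
    (toP9 (pd q))⁻¹ = toP9 (pd q) := by decide +kernel

/-- A subgroup generated by permutations with coordinates in a product-closed set has coordinates there. -/
theorem exists_par {U : Subgroup P9} {gens : Set P9} (hU : U = Subgroup.closure gens) (P : Par → Prop)
    (h1 : P (1, fun _ => 1)) (hmul : ∀ a b, P a → P b → P (pmul a b))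
    (hgen : ∀ g ∈ gens, ∃ a, P a ∧ toP9 a = g) {σ : P9} (hσ : σ ∈ U) :
    ∃ a, P a ∧ toP9 a = σ := by
  subst hU
  rw [← Subgroup.mem_toSubmonoid, Subgroup.closure_toSubmonoid_of_finite] at hσ
  induction hσ using Submonoid.closure_induction with
  | mem g hg => exact hgen g hg
  | one => exact ⟨_, h1, toP9_one⟩
  | mul x y _ _ hx hy =>
    obtain ⟨a, ha, rfl⟩ := hx
    obtain ⟨b, hb, rfl⟩ := hy
    exact ⟨pmul a b, hmul a b ha hb, (toP9_mul a b).symm⟩

/-- The product of the signs inside the blocks. -/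
def sprod (p : Par) : ℤˣ :=
  Equiv.Perm.sign (p.2 0) * Equiv.Perm.sign (p.2 1) * Equiv.Perm.sign (p.2 2)

theorem prod_perm {M : Type*} [CommMonoid M] (s : Equiv.Perm (Fin 3)) (f : Fin 3 → M) :
    f (s 0) * f (s 1) * f (s 2) = f 0 * f 1 * f 2 := by
  have := Equiv.prod_comp s f
  simpa [Fin.prod_univ_three] using this

theorem sprod_pmul (a b : Par) : sprod (pmul a b) = sprod a * sprod b := by
  simp only [sprod, pmul, map_mul]
  rw [← prod_perm b.1 fun q => Equiv.Perm.sign (a.2 q)]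
  ac_rfl

theorem mem_W {σ : P9} (h : σ ∈ W) : ∃ a, toP9 a = σ := by
  obtain ⟨a, -, ha⟩ := exists_par (U := W) (gens := {c1, c2, c3, d1, d2, d3, rot, tau}) rfl (fun _ => True) trivial (fun _ _ _ _ => trivial)
    (by
      obtain ⟨e1, e2, e3, e4, e5, e6, e7, e8⟩ := gens_eq
      simp only [Set.mem_insert_iff, Set.mem_singleton_iff]
      rintro g (rfl | rfl | rfl | rfl | rfl | rfl | rfl | rfl)
      exacts [⟨_, trivial, e1⟩, ⟨_, trivial, e2⟩, ⟨_, trivial, e3⟩, ⟨_, trivial, e4⟩,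
        ⟨_, trivial, e5⟩, ⟨_, trivial, e6⟩, ⟨_, trivial, e7⟩, ⟨_, trivial, e8⟩]) h
  exact ⟨a, ha⟩

theorem toP9_pd12 : toP9 pd12 = d1 * d2 := by decide +kernel
theorem toP9_pd23 : toP9 pd23 = d2 * d3 := by decide +kernel
theorem toP9_pd123 : toP9 pd123 = d1 * d2 * d3 := by decide +kernel

theorem gens_sprod : sprod (pc 0) = 1 ∧ sprod (pc 1) = 1 ∧ sprod (pc 2) = 1 ∧ sprod prot = 1 ∧
    sprod ptau = 1 ∧ sprod pd12 = 1 ∧ sprod pd23 = 1 ∧ sprod (1, fun _ => 1) = 1 := by decide +kernel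

theorem mem_W4 {σ : P9} (h : σ ∈ W4) : ∃ a, sprod a = 1 ∧ toP9 a = σ := by
  obtain ⟨s1, s2, s3, s4, s5, s6, s7, s8⟩ := gens_sprod
  refine exists_par (U := W4) (gens := {c1, c2, c3, rot, tau, d1 * d2, d2 * d3}) rfl (fun a => sprod a = 1) s8
    (fun a b ha hb => by rw [sprod_pmul, ha, hb, one_mul]) ?_ h
  obtain ⟨e1, e2, e3, -, -, -, e7, e8⟩ := gens_eq
  simp only [Set.mem_insert_iff, Set.mem_singleton_iff]
  rintro g (rfl | rfl | rfl | rfl | rfl | rfl | rfl)
  exacts [⟨_, s1, e1⟩, ⟨_, s2, e2⟩, ⟨_, s3, e3⟩, ⟨_, s4, e7⟩, ⟨_, s5, e8⟩, ⟨_, s6, toP9_pd12⟩,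
    ⟨_, s7, toP9_pd23⟩]

/-! ### The base -/

def bel (a : Fin 3 × Fin 3 × Fin 3) : P9 := c1 ^ a.1.val * c2 ^ a.2.1.val * c3 ^ a.2.2.val

set_option maxRecDepth 100000 in
theorem bel_step : ∀ a b c : Fin 3, bel (a, b, c) * c1 = bel (a + 1, b, c) ∧
    bel (a, b, c) * c2 = bel (a, b + 1, c) ∧ bel (a, b, c) * c3 = bel (a, b, c + 1) := by
  decide +kernel

theorem mem_base_iff {σ : P9} : σ ∈ base ↔ ∃ a, bel a = σ := by
  refine ⟨fun h => ?_, ?_⟩
  · rw [base, ← Subgroup.mem_toSubmonoid, Subgroup.closure_toSubmonoid_of_finite] at h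
    induction h using Submonoid.closure_induction_right with
    | one => exact ⟨(0, 0, 0), by simp [bel]⟩
    | mul_right x _ y hy hx =>
      obtain ⟨a, rfl⟩ := hx
      obtain ⟨a1, a2, a3⟩ := a
      obtain ⟨s1, s2, s3⟩ := bel_step a1 a2 a3
      simp only [Set.mem_insert_iff, Set.mem_singleton_iff] at hy
      rcases hy with rfl | rfl | rfl
      · exact ⟨_, s1.symm⟩
      · exact ⟨_, s2.symm⟩
      · exact ⟨_, s3.symm⟩
  · rintro ⟨a, rfl⟩
    refine mul_mem (mul_mem (pow_mem ?_ _) (pow_mem ?_ _)) (pow_mem ?_ _) <;>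
      exact Subgroup.subset_closure (by simp)

theorem base_le {U : Subgroup P9} (h1 : c1 ∈ U) (h2 : c2 ∈ U) (h3 : c3 ∈ U) : base ≤ U :=
  (Subgroup.closure_le _).2 (by rintro g (rfl | rfl | rfl) <;> assumption)

theorem base_le_W : base ≤ W := base_le C1.2 C2.2 C3.2

theorem base_le_W4 : base ≤ W4 :=
  base_le (Subgroup.subset_closure (by simp)) (Subgroup.subset_closure (by simp))
    (Subgroup.subset_closure (by simp))

theorem base_le_W1 : base ≤ W1 :=
  base_le (Subgroup.subset_closure (by simp)) (Subgroup.subset_closure (by simp))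
    (Subgroup.subset_closure (by simp))

theorem base_le_W2 : base ≤ W2 :=
  base_le (Subgroup.subset_closure (by simp)) (Subgroup.subset_closure (by simp))
    (Subgroup.subset_closure (by simp))

theorem base_le_W0 : base ≤ W0 :=
  base_le (Subgroup.subset_closure (by simp)) (Subgroup.subset_closure (by simp))
    (Subgroup.subset_closure (by simp))

set_option maxRecDepth 100000 in
theorem bel_facts : (∀ a b, bel a * bel b = bel b * bel a) ∧ (∀ a, bel a ^ 3 = 1) ∧
    Function.Injective bel := by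
  refine ⟨?_, ?_, ?_⟩ <;> decide +kernel

theorem card_base : Nat.card base = 27 := by
  have e : (base : Set P9) = Set.range bel := Set.ext fun σ => mem_base_iff
  have h : Nat.card base = Nat.card (Set.range bel) := Nat.card_congr (Equiv.setCongr e)
  rw [h, Nat.card_range_of_injective bel_facts.2.2]
  simp

end Cfsg.Agent.S9Base37
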