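import Cfsg.Agent.Lib.L43Base45
import Cfsg.Agent.Lib.A9Base59
import Cfsg.Agent.Lib.S9Base37

/-!
Finite tables for the centraliser of a rank two element in `SL(4,3)` (S3373).
-/

set_option autoImplicit false
set_option Elab.async false

namespace Cfsg.Agent.L43Rank70

open Equiv

abbrev F3 := ZMod 3
/-- Two by two matrices, by rows. -/
abbrev M2 := F3 × F3 × F3 × F3

def mm : M2 → M2 → M2 := fun ⟨a, b, c, d⟩ ⟨a', b', c', d'⟩ =>
  (a * a' + b * c', a * b' + b * d', c * a' + d * c', c * b' + d * d')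

def one2 : M2 := (1, 0, 0, 1)

def det2 : M2 → F3 := fun ⟨a, b, c, d⟩ => a * d - b * c

def inv2 : M2 → M2 := fun ⟨a, b, c, d⟩ =>
  let e := a * d - b * c
  (e * d, -(e * b), -(e * c), e * a)

def tr2 : M2 → F3 := fun ⟨a, _, _, d⟩ => a + d

/-- The three orthogonal elements of norm one. -/
def ax : Fin 3 → M2 := ![(0, 1, 2, 0), (1, 1, 1, 2), (1, 2, 2, 2)]

/-- Coordinates. -/
def cc (l : Fin 3) (u : M2) : F3 := tr2 (mm u (ax l))

/-- The permutation of the axes. -/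
def bp (a : M2) (k : Fin 3) : Fin 3 :=
  if tr2 (mm (mm (mm a (ax k)) (inv2 a)) (ax 0)) ≠ 0 then 0
  else if tr2 (mm (mm (mm a (ax k)) (inv2 a)) (ax 1)) ≠ 0 then 1 else 2

/-- The signs. -/
def sg (a : M2) (k : Fin 3) : F3 := tr2 (mm (mm (mm a (ax k)) (inv2 a)) (ax (bp a k)))

/-- The action on nine points. -/
def F (a b : M2) (i : Fin 9) : Fin 9 :=
  let k : Fin 3 := ⟨i.val / 3, by omega⟩
  let o : F3 := (i.val % 3 : ℕ)
  let l := bp a k
  ⟨3 * l.val + (sg a k * o + cc l (mm b (inv2 a))).val, by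
    have := l.isLt
    have := ZMod.val_lt (sg a k * o + cc l (mm b (inv2 a)))
    omega⟩

theorem det_one2 : det2 one2 ≠ 0 := by decide +kernel

theorem inv2_spec : ∀ a : M2, det2 a ≠ 0 → mm a (inv2 a) = one2 := by decide +kernel

theorem inv2_mm : ∀ a : M2, det2 a ≠ 0 → ∀ a' : M2, det2 a' ≠ 0 →
    inv2 (mm a a') = mm (inv2 a') (inv2 a) := by decide +kernel

theorem bp_mm : ∀ a : M2, det2 a ≠ 0 → ∀ a' : M2, det2 a' ≠ 0 → ∀ k : Fin 3,
    bp (mm a a') k = bp a (bp a' k) := by decide +kernel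

theorem sg_mm : ∀ a : M2, det2 a ≠ 0 → ∀ a' : M2, det2 a' ≠ 0 → ∀ k : Fin 3,
    sg (mm a a') k = sg a (bp a' k) * sg a' k := by decide +kernel

theorem cc_conj : ∀ a : M2, det2 a ≠ 0 → ∀ u : M2, ∀ k : Fin 3,
    cc (bp a k) (mm (mm a u) (inv2 a)) = sg a k * cc k u := by decide +kernel

theorem bp_inj : ∀ a : M2, det2 a ≠ 0 → ∀ k l : Fin 3, bp a k = bp a l → k = l := by
  decide +kernel

theorem F_one : ∀ i : Fin 9, F one2 (0, 0, 0, 0) i = i := by decide +kernel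

theorem ker_lin : ∀ a : M2, det2 a ≠ 0 → (∀ k : Fin 3, bp a k = k ∧ sg a k = 1) →
    a = one2 ∨ a = (2, 0, 0, 2) := by decide +kernel

theorem ker_trans : ∀ u : M2, (∀ k : Fin 3, cc k u = 0) → ∃ s : F3, u = (s, 0, 0, s) := by
  decide +kernel

set_option synthInstance.maxSize 2000 in
/-- The linear parts: all block permutations and signs, up to one change of sign. -/
theorem cover_lin : ∀ p : Equiv.Perm (Fin 3), ∀ s0 : F3, s0 ≠ 0 → ∀ s1 : F3, s1 ≠ 0 → ∀ s2 : F3,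
    s2 ≠ 0 →
    (∃ a : M2, det2 a ≠ 0 ∧ ∀ k : Fin 3, bp a k = p k ∧ sg a k = ![s0, s1, s2] k) ∨
    (∃ a : M2, det2 a ≠ 0 ∧ ∀ k : Fin 3, bp a k = p k ∧ sg a k = ![-s0, s1, s2] k) := by
  decide +kernel

theorem cover_trans : ∀ c0 c1 c2 : F3, ∃ u : M2, ∀ l : Fin 3, cc l u = ![c0, c1, c2] l := by
  decide +kernel

/-- A permutation of three points is affine. -/
theorem affine_perm : ∀ g : Equiv.Perm (Fin 3),
    ((g 1).val : F3) - ((g 0).val : F3) ≠ 0 ∧
    ∀ o : F3, (g ⟨o.val, ZMod.val_lt o⟩).val =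
      ((((g 1).val : F3) - ((g 0).val : F3)) * o + ((g 0).val : F3)).val := by decide +kernel

theorem affine_swap : ∀ g : Equiv.Perm (Fin 3),
    ((((g * Equiv.swap 0 1 : Equiv.Perm (Fin 3))) 1).val : F3) - ((((g * Equiv.swap 0 1 : Equiv.Perm (Fin 3))) 0).val : F3) =
      -(((g 1).val : F3) - ((g 0).val : F3)) := by decide +kernel

end Cfsg.Agent.L43Rank70
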