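import Cfsg.Agent.Lib.L43Rank70Core

/-!
The outer automorphism exchanging the two classes of rank two elements (S3373).
-/

set_option autoImplicit false

namespace Cfsg.Agent.L43Rank70

open Cfsg.Agent.L43Three45

def sv (i : Fin 4) : F3 := if i = 3 then -1 else 1

theorem sv_sq : ∀ i : Fin 4, sv i * sv i = 1 := by decide +kernel

theorem sv_mat : Matrix.diagonal sv * Matrix.diagonal sv = (1 : Mat4) := by
  rw [Matrix.diagonal_mul_diagonal, ← Matrix.diagonal_one]
  exact congrArg Matrix.diagonal (funext sv_sq)

/-- Conjugation by `diag(1,1,1,-1)`. -/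
def twist : L4 →* L4 where
  toFun g := ⟨Matrix.diagonal sv * (g : Mat4) * Matrix.diagonal sv, by
    rw [Matrix.det_mul, Matrix.det_mul, g.2, mul_one, ← Matrix.det_mul, sv_mat, Matrix.det_one]⟩
  map_one' := Subtype.ext (by
    show Matrix.diagonal sv * ((1 : L4) : Mat4) * Matrix.diagonal sv = ((1 : L4) : Mat4)
    rw [Matrix.SpecialLinearGroup.coe_one, mul_one, sv_mat])
  map_mul' g h := Subtype.ext (by
    show Matrix.diagonal sv * ((g * h : L4) : Mat4) * Matrix.diagonal sv =
      (Matrix.diagonal sv * (g : Mat4) * Matrix.diagonal sv) *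
        (Matrix.diagonal sv * (h : Mat4) * Matrix.diagonal sv)
    rw [Matrix.SpecialLinearGroup.coe_mul]
    calc Matrix.diagonal sv * ((g : Mat4) * (h : Mat4)) * Matrix.diagonal sv
        = Matrix.diagonal sv * (g : Mat4) * (Matrix.diagonal sv * Matrix.diagonal sv) * (h : Mat4) *
            Matrix.diagonal sv := by rw [sv_mat]; simp only [mul_one, mul_assoc]
      _ = _ := by simp only [mul_assoc])

theorem twist_twist (g : L4) : twist (twist g) = g := Subtype.ext (by
  show Matrix.diagonal sv * (Matrix.diagonal sv * (g : Mat4) * Matrix.diagonal sv) *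
    Matrix.diagonal sv = (g : Mat4)
  calc Matrix.diagonal sv * (Matrix.diagonal sv * (g : Mat4) * Matrix.diagonal sv) * Matrix.diagonal sv
      = (Matrix.diagonal sv * Matrix.diagonal sv) * (g : Mat4) *
          (Matrix.diagonal sv * Matrix.diagonal sv) := by simp only [mul_assoc]
    _ = _ := by rw [sv_mat, one_mul, mul_one])

theorem twist_facts : twist xP = xM ∧ twist negOne = negOne ∧ twist z4 = z4⁻¹ := by decide +kernel

def h0 : L4 := sgn2 0 1 (by decide)

theorem h0_spec : h0 * z4⁻¹ * h0⁻¹ = z4 := by decide +kernel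

theorem h0_spec' : h0⁻¹ * z4 * h0 = z4⁻¹ := by decide +kernel

theorem twist_surj : Function.Surjective twist := fun g => ⟨twist g, twist_twist g⟩

variable {G : Type*} [Group G] {f : L4 →* G}

theorem twist_range : (f.comp twist).range = f.range := by
  rw [MonoidHom.range_comp, MonoidHom.range_eq_top.2 twist_surj, ← MonoidHom.range_eq_map]

theorem twist_full (hf : Full f) : Full (f.comp twist) := by
  obtain ⟨-, hn, hz⟩ := twist_facts
  refine ⟨fun g => ?_, ?_, fun g hg => ?_, hf.not_dvd⟩
  · rw [MonoidHom.comp_apply, hf.ker]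
    constructor
    · rintro (h | h)
      · left; rw [← twist_twist g, h, map_one]
      · right; rw [← twist_twist g, h, hn]
    · rintro (rfl | rfl)
      · left; exact map_one _
      · right; exact hn
  · rw [twist_range, MonoidHom.comp_apply, hz, map_inv]
    refine le_trans (fun c hc => ?_) hf.cent
    rw [Subgroup.mem_centralizer_singleton_iff] at hc ⊢
    have := Commute.inv_right (hc : Commute c (f z4)⁻¹)
    rwa [inv_inv] at this
  · simp only [MonoidHom.comp_apply, hz] at hg ⊢
    have h1 : IsConj (f z4) (f (twist g)) := by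
      refine IsConj.trans ?_ hg
      exact isConj_iff.2 ⟨(f h0)⁻¹, by rw [inv_inv, ← map_inv, ← map_mul, ← map_mul,
        h0_spec']⟩
    obtain ⟨h, hh⟩ := hf.zclass _ h1
    refine ⟨twist (h * h0), hh.trans (congrArg f ?_)⟩
    rw [map_mul, map_mul, map_inv, hz, twist_twist]
    conv_lhs => rw [← h0_spec]
    group

end Cfsg.Agent.L43Rank70
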