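import Cfsg.Agent.Lib.L43Second52Split

/-!
The second parabolic of S3373: if the central class is not isolated, `φ` extends compatibly to
`H2`.
-/

set_option autoImplicit false

namespace Cfsg.Agent.L43Three45.Second

open Matrix

theorem cv_col (v : V3) : cv (col v) = v := by
  funext i
  fin_cases i <;> simp [cv, coe_col]

theorem cv_emb (A : S3') : cv (emb A) = 0 := by
  funext i
  fin_cases i <;> simp [cv, coe_emb, embM]

theorem cv_mul (g k : H2) :
    cv ((g * k : H2) : L4) = cv g.1 + (blk g : M3).mulVec (cv k.1) := by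
  apply col_inj
  have h1 := decomp (g * k)
  have h2 : ((g * k : H2) : L4) =
      col (cv g.1 + (blk g : M3).mulVec (cv k.1)) * emb (blk g * blk k) := by
    rw [Subgroup.coe_mul, col_add, map_mul]
    calc (g : L4) * k = col (cv g.1) * emb (blk g) * (col (cv k.1) * emb (blk k)) := by
          rw [← decomp g, ← decomp k]
      _ = col (cv g.1) * (emb (blk g) * col (cv k.1)) * emb (blk k) := by group
      _ = _ := by rw [emb_col]; group
  rw [map_mul] at h1
  exact mul_right_cancel (h1.symm.trans h2)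

/-- Signed permutation moving `X02` to `X12`. -/
def PA : S3' := ⟨!![0, -1, 0; 1, 0, 0; 0, 0, 1], by decide +kernel⟩
/-- Signed permutation moving `X01` to `X21`. -/
def PB : S3' := ⟨!![0, 0, -1; 0, 1, 0; 1, 0, 0], by decide +kernel⟩

theorem T3_one (i j : Fin 3) (h : i ≠ j) (c : ZMod 3) : T3 i j h c = T3 i j h 1 ^ c.val := by
  revert i j c; decide +kernel

theorem sol01 : ∀ c : V3, (R3 : M3).mulVec c = c →
    c = c 2 • e2 := by decide +kernel

theorem sol02 : ∀ c : V3,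
    (J3 : M3).mulVec c = -(((T3 0 2 (by decide) 1)⁻¹ : S3') : M3).mulVec c →
    (R3 : M3).mulVec c = -(((T3 0 2 (by decide) 1)⁻¹ : S3') : M3).mulVec c → c = c 1 • e1 := by
  decide +kernel

theorem sol12 : ∀ c : V3, (J3 : M3).mulVec c = c → c = c 0 • e0 := by decide +kernel

theorem solve_ab : ∀ a b g : ZMod 3,
    a • e2 + (T3 0 1 (by decide) 1 : M3).mulVec (g • e0) =
      b • e1 + (T3 0 2 (by decide) 1 : M3).mulVec
        (g • e0 + (T3 1 2 (by decide) 1 : M3).mulVec (a • e2)) → a = 0 ∧ b = 0 := by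
  decide +kernel

variable {G : Type*} [Group G] {φ : H1 →* G}

/-- The value of `φ` on a member of the stabiliser. -/
def fS (φ : H1 →* G) (A : S3') (hA : (A : M3).mulVec e0 = e0) : G :=
  φ ⟨emb A, (emb_mem_C4 hA).1⟩

theorem fS_mul {A B : S3'} (hA : (A : M3).mulVec e0 = e0) (hB : (B : M3).mulVec e0 = e0)
    (hAB : ((A * B : S3') : M3).mulVec e0 = e0) :
    fS φ (A * B) hAB = fS φ A hA * fS φ B hB :=
  (congrArg φ (Subtype.ext (map_mul emb A B))).trans
    (map_mul φ ⟨emb A, (emb_mem_C4 hA).1⟩ ⟨emb B, (emb_mem_C4 hB).1⟩)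

theorem fS_congr {A B : S3'} (e : A = B) (hA : (A : M3).mulVec e0 = e0)
    (hB : (B : M3).mulVec e0 = e0) : fS φ A hA = fS φ B hB := by subst e; rfl

theorem fS_one (h1 : ((1 : S3') : M3).mulVec e0 = e0) : fS φ 1 h1 = 1 := by
  have e := fS_mul (φ := φ) h1 h1 (by rw [mul_one]; exact h1)
  rw [fS_congr (mul_one (1 : S3')) _ h1] at e
  exact left_eq_mul.1 e

theorem fS_inv {A : S3'} (hA : (A : M3).mulVec e0 = e0)
    (hA' : ((A⁻¹ : S3') : M3).mulVec e0 = e0) : fS φ A⁻¹ hA' = (fS φ A hA)⁻¹ := by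
  refine eq_inv_of_mul_eq_one_left ?_
  have h1 : ((1 : S3') : M3).mulVec e0 = e0 := by
    rw [Matrix.SpecialLinearGroup.coe_one, Matrix.one_mulVec]
  rw [← fS_mul hA' hA (by rw [inv_mul_cancel]; exact h1), fS_congr (inv_mul_cancel A) _ h1, fS_one]

variable (σ : S3' →* G) (hσ : ∀ (A : S3') (v : V3),
      σ A * ev φ v * (σ A)⁻¹ = ev φ ((A : M3).mulVec v))
include hσ

/-- The discrepancy. -/
theorem exists_disc (h : One φ) (A : S3') (hA : (A : M3).mulVec e0 = e0) :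
    ∃ c, fS φ A hA = ev φ c * σ A := by
  obtain ⟨c, hc⟩ := ker_ev h (g := fS φ A hA * (σ A)⁻¹) (fun v => by
    have h1 := hσ A⁻¹ v
    rw [map_inv, inv_inv] at h1
    calc fS φ A hA * (σ A)⁻¹ * ev φ v * (fS φ A hA * (σ A)⁻¹)⁻¹
        = fS φ A hA * ((σ A)⁻¹ * ev φ v * σ A) * (fS φ A hA)⁻¹ := by group
      _ = ev φ v := by
        rw [h1, fS, C4_conj (emb A) (emb_mem_C4 hA), blk_emb, Matrix.mulVec_mulVec,
          ← Matrix.SpecialLinearGroup.coe_mul, mul_inv_cancel, Matrix.SpecialLinearGroup.coe_one,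
          Matrix.one_mulVec])
  exact ⟨c, by rw [← hc]; group⟩

theorem disc_mul (c d : V3) (A B : S3') :
    ev φ c * σ A * (ev φ d * σ B) = ev φ (c + (A : M3).mulVec d) * σ (A * B) := by
  rw [ev_add, ← hσ, map_mul]
  group

omit hσ in
theorem disc_inj (h : One φ) {c d : V3} {A : S3'} (e : ev φ c * σ A = ev φ d * σ A) : c = d :=
  ev_inj h (mul_right_cancel e)

theorem disc_fix (h : One φ) {S A : S3'} {c : V3} {hA : (A : M3).mulVec e0 = e0}
    (hc : fS φ A hA = ev φ c * σ A) (hS : σ S * fS φ A hA * (σ S)⁻¹ = fS φ A hA)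
    (he : S * A * S⁻¹ = A) : (S : M3).mulVec c = c := by
  refine disc_inj σ h (A := A) ?_
  rw [← hc, ← hS, hc, ← hσ]
  conv_lhs => rw [← he, map_mul, map_mul, map_inv]
  group

theorem disc_neg (h : One φ) {S A : S3'} {c : V3} {hA : (A : M3).mulVec e0 = e0}
    (hc : fS φ A hA = ev φ c * σ A) (hS : σ S * fS φ A hA * (σ S)⁻¹ = (fS φ A hA)⁻¹)
    (he : S * A * S⁻¹ = A⁻¹) : (S : M3).mulVec c = -((A⁻¹ : S3') : M3).mulVec c := by
  refine disc_inj σ h (A := A⁻¹) ?_
  rw [← Matrix.mulVec_neg, ← hσ A⁻¹, ev_neg]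
  calc ev φ ((S : M3).mulVec c) * σ A⁻¹ = σ S * fS φ A hA * (σ S)⁻¹ := by
        rw [← hσ S, ← he, hc, map_mul, map_mul, map_inv]; group
    _ = _ := by rw [hS, hc, map_inv]; group

omit hσ in
/-- Removing a central discrepancy. -/
theorem kill (h : One φ) {P X Y : S3'} (hX : (X : M3).mulVec e0 = e0)
    (hY : (Y : M3).mulVec e0 = e0) {u : V3} (hu : emb X = er u) (hu0 : u 0 ≠ 0 ∨ u 1 ≠ 0)
    (hfX : fS φ X hX = σ X) (hP : P * X * P⁻¹ = Y)
    (hmix : ∀ c : ZMod 3, c ≠ 0 → ∃ g : L4, g ∈ H1 ∧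
      g * (emb Y * col (c • e0)) * g⁻¹ ∈ Q4 ∧ g * (emb Y * col (c • e0)) * g⁻¹ ∉ E1 ∧
      g * (emb Y * col (c • e0)) * g⁻¹ ∉ E2)
    {k : ZMod 3} (hc : fS φ Y hY = ev φ (k • e0) * σ Y) : fS φ Y hY = σ Y := by
  by_cases hz : k = 0
  · rw [hc, hz, zero_smul, ev_zero, one_mul]
  exfalso
  obtain ⟨g, hg, hQ, hn1, hn2⟩ := hmix (-k) (neg_ne_zero.2 hz)
  obtain ⟨w, hw, hw1, -⟩ := exists_swap u hu0
  have hm1 : emb Y ∈ H1 := (emb_mem_C4 hY).1
  have hmem : emb Y * col ((-k) • e0) ∈ H1 := mul_mem hm1 (col_mem_H1 _)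
  have hcomm : emb Y * col ((-k) • e0) = col ((-k) • e0) * emb Y := by
    rw [emb_col, Matrix.mulVec_smul, hY]
  have hval : φ ⟨emb Y * col ((-k) • e0), hmem⟩ = σ Y := by
    have e : φ ⟨emb Y * col ((-k) • e0), hmem⟩ = ev φ ((-k) • e0) * fS φ Y hY :=
      (congrArg φ (Subtype.ext hcomm)).trans
        (map_mul φ ⟨col ((-k) • e0), col_mem_H1 _⟩ ⟨emb Y, hm1⟩)
    rw [e, hc, neg_smul, ev_neg, inv_mul_cancel_left]
  have hz1 : IsConj (φ ⟨z4, z4_mem⟩) (σ X) := by
    rw [← hfX]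
    refine (isConj_iff.2 ⟨φ ⟨w, hw⟩, phi_conj hw (emb_mem_C4 hX).1 z4_mem ?_⟩).symm
    rw [hu, ← hw1, mul_inv_cancel_right]
  have hz2 : IsConj (σ X) (σ Y) := isConj_iff.2 ⟨σ P, by
    rw [← map_inv, ← map_mul, ← map_mul, hP]⟩
  have hz3 : IsConj (σ Y) (φ ⟨g * (emb Y * col ((-k) • e0)) * g⁻¹,
      conj_mem_gen H1 hg hmem⟩) := by
    rw [← hval]
    exact isConj_iff.2 ⟨φ ⟨g, hg⟩, phi_conj hg hmem _ rfl⟩
  have key := h.pure ⟨g * (emb Y * col ((-k) • e0)) * g⁻¹, conj_mem_gen H1 hg hmem⟩ hQ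
    ((hz1.trans hz2).trans hz3)
  rcases key with e | e
  · exact hn1 e
  · exact hn2 e

end Cfsg.Agent.L43Three45.Second

namespace Cfsg.Agent.L43Three45

open Matrix Second

variable {G : Type*} [Group G]

set_option maxHeartbeats 1000000 in
-- long argument
/-- The second parabolic. -/
theorem exists_two [Finite G] {phi : H1 →* G} (h : One phi) (hn : ¬ Isolated phi) :
    ∃ phi' : H2 →* G, Two phi phi' := by
  obtain ⟨σ, hσ, hσJ, hσR⟩ := exists_section' h hn
  let f : H2 →* G := MonoidHom.mk' (fun g => ev phi (cv g.1) * σ (blk g)) fun g k => by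
    simp only [cv_mul, map_mul blk, disc_mul σ hσ]
  have fcol : ∀ v, f ⟨col v, col_mem_H2 v⟩ = ev phi v := fun v => by
    show ev phi (cv (col v)) * σ (blk _) = _
    rw [cv_col, blk_col, map_one, mul_one]
  have femb : ∀ A, f ⟨emb A, emb_mem_H2 A⟩ = σ A := fun A => by
    show ev phi (cv (emb A)) * σ (blk _) = _
    rw [cv_emb, blk_emb, ev_zero, one_mul]
  have finj : Function.Injective f := by
    refine (injective_iff_map_eq_one f).2 fun g hg => ?_
    have hg' : σ (blk g) = ev phi (-cv g.1) := by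
      rw [ev_neg]; exact eq_inv_of_mul_eq_one_right hg
    have hb : blk g = 1 := by
      refine Subtype.ext (ext_basis fun v => ev_inj h ?_)
      rw [← hσ, hg', ← ev_add, add_comm, ev_add, Matrix.SpecialLinearGroup.coe_one,
        Matrix.one_mulVec]
      group
    have hv : cv g.1 = 0 := by
      refine ev_inj h ?_
      have : f g = ev phi (cv g.1) * σ (blk g) := rfl
      rw [hb, map_one, mul_one, hg] at this
      rw [← this, ev_zero]
    refine Subtype.ext ?_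
    rw [decomp g, hv, hb, col_zero, map_one, one_mul]
    rfl
  have hmap : (E2.subgroupOf H2).map f = (E2.subgroupOf H1).map phi := by
    ext x
    rw [mem_E2map]
    constructor
    · rintro ⟨⟨a, ha⟩, haE, rfl⟩
      obtain ⟨v, rfl⟩ := exists_col_of_mem_E2 (show a ∈ E2 from haE)
      exact ⟨v, (fcol v).symm⟩
    · rintro ⟨v, rfl⟩
      exact ⟨⟨col v, col_mem_H2 v⟩, col_mem_E2 v, fcol v⟩
  have hrange : f.range = NN phi := by
    refine le_antisymm ?_ fun n hn' => ?_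
    · rintro _ ⟨g, rfl⟩
      exact mul_mem (ev_mem_NN h _) (mem_NN_of_forall h fun v => ⟨_, hσ _ v⟩)
    · set A := proj h hn ⟨n, hn'⟩ with hA
      obtain ⟨v, hv⟩ := ker_ev h (g := n * (σ A)⁻¹) (fun v => by
        have h1 := hσ A⁻¹ v
        rw [map_inv, inv_inv] at h1
        calc n * (σ A)⁻¹ * ev phi v * (n * (σ A)⁻¹)⁻¹
            = n * ((σ A)⁻¹ * ev phi v * σ A) * n⁻¹ := by group
          _ = ev phi v := by
            rw [h1, proj_spec h hn ⟨n, hn'⟩, ← hA, Matrix.mulVec_mulVec,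
              ← Matrix.SpecialLinearGroup.coe_mul, mul_inv_cancel,
              Matrix.SpecialLinearGroup.coe_one, Matrix.one_mulVec])
      refine ⟨⟨col v, col_mem_H2 v⟩ * ⟨emb A, emb_mem_H2 A⟩, ?_⟩
      rw [map_mul, fcol, femb, ← hv]
      group
  -- the torus acts alike
  have conjJ : ∀ (A B : S3') (hA : (A : M3).mulVec e0 = e0) (hB : (B : M3).mulVec e0 = e0),
      J3 * A * J3⁻¹ = B → σ J3 * fS phi A hA * (σ J3)⁻¹ = fS phi B hB := by
    intro A B hA hB e
    rw [hσJ]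
    exact phi_conj _ _ _ (by rw [← e, map_mul, map_mul, map_inv])
  have conjR : ∀ (A B : S3') (hA : (A : M3).mulVec e0 = e0) (hB : (B : M3).mulVec e0 = e0),
      R3 * A * R3⁻¹ = B → σ R3 * fS phi A hA * (σ R3)⁻¹ = fS phi B hB := by
    intro A B hA hB e
    rw [hσR]
    exact phi_conj _ _ _ (by rw [r1_conj, r2_eq, ← e, map_mul, map_mul, map_inv])
  set X01 : S3' := T3 0 1 (by decide) 1 with hX01
  set X02 : S3' := T3 0 2 (by decide) 1 with hX02
  set X12 : S3' := T3 1 2 (by decide) 1 with hX12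
  set X21 : S3' := T3 2 1 (by decide) 1 with hX21
  have m01 : (X01 : M3).mulVec e0 = e0 := by decide +kernel
  have m02 : (X02 : M3).mulVec e0 = e0 := by decide +kernel
  have m12 : (X12 : M3).mulVec e0 = e0 := by decide +kernel
  have m21 : (X21 : M3).mulVec e0 = e0 := by decide +kernel
  have m02' : ((X02⁻¹ : S3') : M3).mulVec e0 = e0 := by decide +kernel
  obtain ⟨c01, d01⟩ := exists_disc σ hσ h X01 m01
  obtain ⟨c02, d02⟩ := exists_disc σ hσ h X02 m02
  obtain ⟨c12, d12⟩ := exists_disc σ hσ h X12 m12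
  obtain ⟨c21, d21⟩ := exists_disc σ hσ h X21 m21
  have s01 := sol01 c01 (disc_fix σ hσ h d01
    (conjR X01 X01 m01 m01 (by decide +kernel)) (by decide +kernel))
  have s02 := sol02 c02
    (disc_neg σ hσ h d02 (by rw [conjJ X02 X02⁻¹ m02 m02' (by decide +kernel), fS_inv m02 m02'])
      (by decide +kernel))
    (disc_neg σ hσ h d02 (by rw [conjR X02 X02⁻¹ m02 m02' (by decide +kernel), fS_inv m02 m02'])
      (by decide +kernel))
  have s12 := sol12 c12 (disc_fix σ hσ h d12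
    (conjJ X12 X12 m12 m12 (by decide +kernel)) (by decide +kernel))
  have s21 := sol12 c21 (disc_fix σ hσ h d21
    (conjJ X21 X21 m21 m21 (by decide +kernel)) (by decide +kernel))
  obtain ⟨ha, hb⟩ : c01 2 = 0 ∧ c02 1 = 0 := by
    have e : X01 * X12 = X02 * (X12 * X01) := by decide +kernel
    have h1 : fS phi X01 m01 * fS phi X12 m12 =
        fS phi X02 m02 * (fS phi X12 m12 * fS phi X01 m01) := by
      rw [← fS_mul m01 m12 (by decide +kernel), ← fS_mul m12 m01 (by decide +kernel),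
        ← fS_mul m02 (by decide +kernel) (by decide +kernel)]
      exact fS_congr e _ _
    rw [d01, d02, d12, disc_mul σ hσ, disc_mul σ hσ, disc_mul σ hσ, ← e] at h1
    have h2 := disc_inj σ h h1
    rw [s01, s02, s12] at h2
    exact solve_ab _ _ _ h2
  have f01 : fS phi X01 m01 = σ X01 := by
    rw [d01, s01, ha, zero_smul, ev_zero, one_mul]
  have f02 : fS phi X02 m02 = σ X02 := by
    rw [d02, s02, hb, zero_smul, ev_zero, one_mul]
  have f12 : fS phi X12 m12 = σ X12 :=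
    kill σ h (P := PA) m02 m12 (u := Second.e1) (by decide +kernel) (by decide +kernel) f02
      (by decide +kernel) mixed12 (k := c12 0) (by rw [d12]; exact congrArg (ev phi · * σ X12) s12)
  have f21 : fS phi X21 m21 = σ X21 :=
    kill σ h (P := PB) m01 m21 (u := Second.e0) (by decide +kernel) (by decide +kernel) f01
      (by decide +kernel) mixed21 (k := c21 0) (by rw [d21]; exact congrArg (ev phi · * σ X21) s21)
  -- the agreement
  let D : Subgroup L4 :=
    { carrier := {g | ∃ (h1 : g ∈ H1) (h2 : g ∈ H2), phi ⟨g, h1⟩ = f ⟨g, h2⟩}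
      one_mem' := ⟨one_mem _, one_mem _, (map_one phi).trans (map_one f).symm⟩
      mul_mem' := by
        rintro a b ⟨a1, a2, ea⟩ ⟨b1, b2, eb⟩
        refine ⟨mul_mem a1 b1, mul_mem a2 b2, ?_⟩
        rw [show (⟨a * b, mul_mem a1 b1⟩ : H1) = ⟨a, a1⟩ * ⟨b, b1⟩ from rfl,
          show (⟨a * b, mul_mem a2 b2⟩ : H2) = ⟨a, a2⟩ * ⟨b, b2⟩ from rfl, map_mul, map_mul, ea, eb]
      inv_mem' := by
        rintro a ⟨a1, a2, ea⟩
        refine ⟨inv_mem a1, inv_mem a2, ?_⟩
        rw [show (⟨a⁻¹, inv_mem a1⟩ : H1) = ⟨a, a1⟩⁻¹ from rfl,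
          show (⟨a⁻¹, inv_mem a2⟩ : H2) = ⟨a, a2⟩⁻¹ from rfl, map_inv, map_inv, ea] }
  have hDcol : ∀ v : V3, Second.col v ∈ D := fun v => ⟨col_mem_H1 v, col_mem_H2 v, (fcol v).symm⟩
  have hDX : ∀ (X : S3') (hX : (X : M3).mulVec e0 = e0), fS phi X hX = σ X → emb X ∈ D :=
    fun X hX e => ⟨(emb_mem_C4 hX).1, emb_mem_H2 X, e.trans (femb X).symm⟩
  have hDT : ∀ (i j : Fin 3) (hij : i ≠ j) (c : ZMod 3), emb (T3 i j hij 1) ∈ D →
      emb (T3 i j hij c) ∈ D := fun i j hij c hc => by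
    rw [T3_one i j hij c, map_pow]
    exact pow_mem hc _
  refine ⟨f, h, finj, ?_, fun g h1 h2 => ?_, ?_⟩
  · rw [hrange, hmap, NN_eq]
  · have hgD : g ∈ D := by
      have e := decomp ⟨g, h2⟩
      simp only at e
      rw [e]
      obtain ⟨p, q, r, s, u, v, hw⟩ := stab_word (blk_e0 (g := g) ⟨h1, h2⟩)
      refine mul_mem (hDcol _) ?_
      rw [hw, map_mul, map_mul, map_mul, map_mul, map_mul]
      exact mul_mem (mul_mem (mul_mem (mul_mem (hDT _ _ _ p (hDX X12 m12 f12))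
        (hDT _ _ _ q (hDX X21 m21 f21))) (hDT _ _ _ r (hDX X12 m12 f12)))
        (hDT _ _ _ s (hDX X21 m21 f21)))
        (mul_mem (hDT _ _ _ u (hDX X01 m01 f01)) (hDT _ _ _ v (hDX X02 m02 f02)))
    obtain ⟨_, _, e⟩ := hgD
    exact e
  · rw [show (⟨r2, r2_mem⟩ : H2) = ⟨emb R3, emb_mem_H2 R3⟩ from Subtype.ext r2_eq, femb, hσR]

end Cfsg.Agent.L43Three45
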