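import Cfsg.Agent.Lib.L43Second52Norm

/-!
The normaliser of the second abelian subgroup maps onto `SL(3,3)` with kernel the subgroup
(S3373).
-/

set_option autoImplicit false

namespace Cfsg.Agent.L43Three45.Second

open Matrix

theorem T3_10_e1 : ((T3 1 0 (by decide) 1 : S3') : M3).mulVec e1 = e1 := by decide +kernel

theorem T3_10_e0 : ((T3 1 0 (by decide) 1 : S3') : M3).mulVec e0 = e0 + e1 := by decide +kernel

theorem zero_mid_cases : ∀ v : V3, v ≠ 0 → v 1 = 0 → v 2 = 0 → v = e0 ∨ v = -e0 := by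
  decide +kernel

/-- The last unit vectors. -/
def basis (j : Fin 3) : V3 := fun i => if i = j then 1 else 0

theorem basis_eq : basis 0 = e0 ∧ basis 1 = e1 ∧ basis 2 = e2 := by decide +kernel

theorem mulVec_basis (A : M3) (i j : Fin 3) : A.mulVec (basis j) i = A i j := by
  fin_cases j <;> simp [Matrix.mulVec, dotProduct, basis, Fin.sum_univ_three]

theorem ext_basis {A B : M3} (h : ∀ v, A.mulVec v = B.mulVec v) : A = B := by
  ext i j
  rw [← mulVec_basis A, ← mulVec_basis B, h]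

variable {G : Type*} [Group G] {φ : H1 →* G}

theorem ev_inj (h : One φ) {v w : V3} (e : ev φ v = ev φ w) : v = w :=
  col_inj (phi_cancel h _ _ e)

theorem ev_sub (v w : V3) : ev φ (v - w) = ev φ v * (ev φ w)⁻¹ := by
  rw [eq_mul_inv_iff_mul_eq, ← ev_add, sub_add_cancel]

theorem ev_neg (v : V3) : ev φ (-v) = (ev φ v)⁻¹ :=
  eq_inv_of_mul_eq_one_left (by rw [← ev_add, neg_add_cancel, ev_zero])

/-- The normaliser of the image of `E2`. -/
def NN (φ : H1 →* G) : Subgroup G where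
  carrier := {n | (∀ v, ∃ w, n * ev φ v * n⁻¹ = ev φ w) ∧ ∀ v, ∃ w, n⁻¹ * ev φ v * n = ev φ w}
  one_mem' := ⟨fun v => ⟨v, by group⟩, fun v => ⟨v, by group⟩⟩
  mul_mem' := by
    rintro a b ⟨ha, ha'⟩ ⟨hb, hb'⟩
    refine ⟨fun v => ?_, fun v => ?_⟩
    · obtain ⟨w, hw⟩ := hb v
      obtain ⟨x, hx⟩ := ha w
      exact ⟨x, by rw [← hx, ← hw]; group⟩
    · obtain ⟨w, hw⟩ := ha' v
      obtain ⟨x, hx⟩ := hb' w
      exact ⟨x, by rw [← hx, ← hw]; group⟩
  inv_mem' := by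
    rintro a ⟨ha, ha'⟩
    exact ⟨fun v => by simpa using ha' v, fun v => by simpa using ha v⟩

theorem mem_NN_of_forall (h : One φ) {n : G} (hn : ∀ v, ∃ w, n * ev φ v * n⁻¹ = ev φ w) :
    n ∈ NN φ := by
  refine ⟨hn, fun v => ?_⟩
  choose f hf using hn
  have hinj : Function.Injective f := fun a b e => ev_inj h (by
    have h1 : n * ev φ a * n⁻¹ = n * ev φ b * n⁻¹ := by rw [hf, hf, e]
    simpa using h1)
  obtain ⟨u, hu⟩ := (Finite.injective_iff_surjective.1 hinj) v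
  exact ⟨u, by rw [← hu, ← hf]; group⟩

/-- Membership of the image of `E2`. -/
theorem mem_E2map {g : G} : g ∈ (E2.subgroupOf H1).map φ ↔ ∃ v, ev φ v = g := by
  constructor
  · rintro ⟨⟨a, ha⟩, haE, rfl⟩
    obtain ⟨v, hv⟩ := exists_col_of_mem_E2 (show a ∈ E2 from haE)
    exact ⟨v, congrArg φ (Subtype.ext hv.symm)⟩
  · rintro ⟨v, rfl⟩
    exact ⟨⟨col v, col_mem_H1 v⟩, col_mem_E2 v, rfl⟩

theorem NN_eq : NN φ = Subgroup.normalizer (((E2.subgroupOf H1).map φ : Subgroup G) : Set G) := by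
  ext n
  rw [Subgroup.mem_normalizer_iff]
  constructor
  · rintro ⟨h1, h2⟩ x
    constructor
    · intro hx
      obtain ⟨v, rfl⟩ := mem_E2map.1 hx
      obtain ⟨w, hw⟩ := h1 v
      exact mem_E2map.2 ⟨w, hw.symm⟩
    · intro hx
      obtain ⟨v, hv⟩ := mem_E2map.1 hx
      obtain ⟨w, hw⟩ := h2 v
      refine mem_E2map.2 ⟨w, ?_⟩
      rw [← hw, hv]
      group
  · intro hn
    refine ⟨fun v => ?_, fun v => ?_⟩
    · obtain ⟨w, hw⟩ := mem_E2map.1 ((hn (ev φ v)).1 (mem_E2map.2 ⟨v, rfl⟩))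
      exact ⟨w, hw.symm⟩
    · obtain ⟨w, hw⟩ := mem_E2map.1 ((hn (n⁻¹ * ev φ v * n)).2
        (mem_E2map.2 ⟨v, by group⟩))
      exact ⟨w, hw.symm⟩

/-- The images of the basis. -/
noncomputable def mat (n : NN φ) : M3 := fun i j => Classical.choose (n.2.1 (basis j)) i

theorem mat_spec (n : NN φ) (v : V3) : (n : G) * ev φ v * (n : G)⁻¹ = ev φ ((mat n).mulVec v) := by
  have hb : ∀ j, (n : G) * ev φ (basis j) * (n : G)⁻¹ = ev φ ((mat n).mulVec (basis j)) := by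
    intro j
    have : (mat n).mulVec (basis j) = Classical.choose (n.2.1 (basis j)) := by
      funext i
      rw [mulVec_basis]
      rfl
    rw [this]
    exact Classical.choose_spec (n.2.1 (basis j))
  have hs : ∀ (c : ZMod 3) (a : V3), (n : G) * ev φ a * (n : G)⁻¹ = ev φ ((mat n).mulVec a) →
      (n : G) * ev φ (c • a) * (n : G)⁻¹ = ev φ ((mat n).mulVec (c • a)) := by
    intro c a ha
    fin_cases c
    · show (n : G) * ev φ ((0 : ZMod 3) • a) * (n : G)⁻¹ = ev φ ((mat n).mulVec ((0 : ZMod 3) • a))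
      rw [zero_smul, Matrix.mulVec_zero, ev_zero]
      group
    · show (n : G) * ev φ ((1 : ZMod 3) • a) * (n : G)⁻¹ = ev φ ((mat n).mulVec ((1 : ZMod 3) • a))
      rw [one_smul]
      exact ha
    · show (n : G) * ev φ ((2 : ZMod 3) • a) * (n : G)⁻¹ = ev φ ((mat n).mulVec ((2 : ZMod 3) • a))
      rw [two_smul, Matrix.mulVec_add, ev_add, ev_add, ← ha]
      group
  have hv : v = v 0 • basis 0 + v 1 • basis 1 + v 2 • basis 2 := by
    funext i
    fin_cases i <;> simp [basis]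
  rw [hv, Matrix.mulVec_add, Matrix.mulVec_add, ev_add, ev_add, ev_add, ev_add, ← hs _ _ (hb 0),
    ← hs _ _ (hb 1), ← hs _ _ (hb 2)]
  group

theorem mat_eq (h : One φ) {n : NN φ} {A : M3}
    (e : ∀ v, (n : G) * ev φ v * (n : G)⁻¹ = ev φ (A.mulVec v)) : mat n = A :=
  ext_basis fun v => ev_inj h (by rw [← mat_spec, e])

theorem mat_mul (h : One φ) (m n : NN φ) : mat (m * n) = mat m * mat n :=
  mat_eq h fun v => by
    rw [← Matrix.mulVec_mulVec, ← mat_spec, ← mat_spec, Subgroup.coe_mul]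
    group

theorem mat_one (h : One φ) : mat (1 : NN φ) = 1 :=
  mat_eq h fun v => by rw [Matrix.one_mulVec, Subgroup.coe_one]; group

theorem C4_conj (a : L4) (ha : a ∈ C4) (v : V3) :
    φ ⟨a, ha.1⟩ * ev φ v * (φ ⟨a, ha.1⟩)⁻¹ = ev φ ((blk ⟨a, ha.2⟩ : M3).mulVec v) :=
  phi_conj ha.1 (col_mem_H1 v) (col_mem_H1 _) (conj_H2_col ⟨a, ha.2⟩ v)

theorem C4_mem_NN (h : One φ) {a : L4} (ha : a ∈ C4) : φ ⟨a, ha.1⟩ ∈ NN φ :=
  mem_NN_of_forall h fun v => ⟨_, C4_conj a ha v⟩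

theorem r1_ev (v : V3) :
    φ ⟨r1, r1_mem⟩ * ev φ v * (φ ⟨r1, r1_mem⟩)⁻¹ = ev φ ((R3 : M3).mulVec v) :=
  phi_conj r1_mem (col_mem_H1 v) (col_mem_H1 _) (r1_col v)

theorem r1_mem_NN (h : One φ) : φ ⟨r1, r1_mem⟩ ∈ NN φ :=
  mem_NN_of_forall h fun v => ⟨_, r1_ev v⟩

theorem mat_C4 (h : One φ) {a : L4} (ha : a ∈ C4) :
    mat ⟨φ ⟨a, ha.1⟩, C4_mem_NN h ha⟩ = (blk ⟨a, ha.2⟩ : M3) :=
  mat_eq h fun v => C4_conj a ha v

theorem mat_emb (h : One φ) {A : S3'} (hA : (A : M3).mulVec e0 = e0) :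
    ∃ n : NN φ, mat n = (A : M3) :=
  ⟨⟨_, C4_mem_NN h (emb_mem_C4 hA)⟩, by rw [mat_C4 h (emb_mem_C4 hA), blk_emb]⟩

/-- The image of the normaliser is all of `SL(3,3)`. -/
theorem mat_range (h : One φ) (hn : ¬ Isolated φ) :
    (∀ A : S3', ∃ n : NN φ, mat n = (A : M3)) ∧ ∀ n : NN φ, (mat n).det = 1 := by
  obtain ⟨k, hz, hy⟩ := exists_flip h hn
  have hk : k ∈ NN φ := mem_NN_of_forall h (flip_normalizes h hz hy)
  set K : NN φ := ⟨k, hk⟩ with hK
  have hM0 : (mat K).mulVec e0 = e1 := ev_inj h (by rw [← mat_spec]; exact hz)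
  have hinv : mat K⁻¹ * mat K = 1 := by rw [← mat_mul h, inv_mul_cancel, mat_one h]
  have hinv' : mat K * mat K⁻¹ = 1 := by rw [← mat_mul h, mul_inv_cancel, mat_one h]
  have hM1 : (mat K⁻¹).mulVec e1 = e0 := by
    rw [← hM0, Matrix.mulVec_mulVec, hinv, Matrix.one_mulVec]
  set g0 : S3' := T3 1 0 (by decide) 1 with hg0
  have hP : ((⟨mat K⁻¹ * (g0 : M3) * mat K, by
      rw [Matrix.det_mul, Matrix.det_mul, g0.2, mul_one, ← Matrix.det_mul, hinv, Matrix.det_one]⟩ :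
        S3') : M3).mulVec e0 = e0 := by
    show (mat K⁻¹ * (g0 : M3) * mat K).mulVec e0 = e0
    rw [← Matrix.mulVec_mulVec, ← Matrix.mulVec_mulVec, hM0, T3_10_e1, hM1]
  obtain ⟨p, hp⟩ := mat_emb h hP
  have hg0n : mat (K * p * K⁻¹) = (g0 : M3) := by
    rw [mat_mul h, mat_mul h, hp]
    show mat K * (mat K⁻¹ * (g0 : M3) * mat K) * mat K⁻¹ = (g0 : M3)
    calc mat K * (mat K⁻¹ * (g0 : M3) * mat K) * mat K⁻¹
        = (mat K * mat K⁻¹) * (g0 : M3) * (mat K * mat K⁻¹) := by simp only [mul_assoc]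
      _ = g0 := by rw [hinv', one_mul, mul_one]
  -- transitivity
  have trans : ∀ w : V3, w ≠ 0 → ∃ (n : NN φ) (A : S3'), mat n = (A : M3) ∧
      (A : M3).mulVec e0 = w := by
    intro w hw
    by_cases hmid : w 1 ≠ 0 ∨ w 2 ≠ 0
    · have hmid' : (w - e0) 1 ≠ 0 ∨ (w - e0) 2 ≠ 0 := by simpa [e0] using hmid
      obtain ⟨h1, h0⟩ := mvA_spec _ hmid'
      obtain ⟨m, hm⟩ := mat_emb h h0
      refine ⟨m * (K * p * K⁻¹), mvA (w - e0) * g0, ?_, ?_⟩
      · rw [mat_mul h, hm, hg0n]; rfl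
      · show (((mvA (w - e0) : S3') : M3) * (g0 : M3)).mulVec e0 = w
        rw [← Matrix.mulVec_mulVec, T3_10_e0, Matrix.mulVec_add, h0, h1, add_sub_cancel]
    · push Not at hmid
      rcases zero_mid_cases w hw hmid.1 hmid.2 with rfl | rfl
      · exact ⟨1, 1, mat_one h, Matrix.one_mulVec _⟩
      · exact ⟨⟨_, r1_mem_NN h⟩, R3, mat_eq h r1_ev, R3_e0⟩
  refine ⟨fun A => ?_, fun n => ?_⟩
  · have hw : (A : M3).mulVec e0 ≠ 0 := by
      intro e
      have := congrArg (((A⁻¹ : S3') : M3).mulVec) e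
      rw [Matrix.mulVec_mulVec, Matrix.mulVec_zero, ← Matrix.SpecialLinearGroup.coe_mul,
        inv_mul_cancel, Matrix.SpecialLinearGroup.coe_one, Matrix.one_mulVec] at this
      exact absurd this (by decide +kernel)
    obtain ⟨n, B, hB, hBe⟩ := trans _ hw
    have hfix : ((B⁻¹ * A : S3') : M3).mulVec e0 = e0 := by
      rw [Matrix.SpecialLinearGroup.coe_mul, ← Matrix.mulVec_mulVec, ← hBe, Matrix.mulVec_mulVec,
        ← Matrix.SpecialLinearGroup.coe_mul, inv_mul_cancel, Matrix.SpecialLinearGroup.coe_one,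
        Matrix.one_mulVec]
    obtain ⟨m, hm⟩ := mat_emb h hfix
    exact ⟨n * m, by rw [mat_mul h, hB, hm, ← Matrix.SpecialLinearGroup.coe_mul,
      mul_inv_cancel_left]⟩
  · have hw : (mat n).mulVec e0 ≠ 0 := by
      intro e
      have h1 := mat_spec n e0
      rw [e, ev_zero] at h1
      have h2 : ev φ e0 = ev φ 0 := by
        rw [ev_zero]
        calc ev φ e0 = (n : G)⁻¹ * ((n : G) * ev φ e0 * (n : G)⁻¹) * n := by group
          _ = 1 := by rw [h1]; group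
      exact absurd (ev_inj h h2) (by decide +kernel)
    obtain ⟨m, B, hB, hBe⟩ := trans _ hw
    have h1 : (mat (m⁻¹ * n)).mulVec e0 = e0 := by
      rw [mat_mul h, ← Matrix.mulVec_mulVec, ← hBe, ← hB, Matrix.mulVec_mulVec, ← mat_mul h,
        inv_mul_cancel, mat_one h, Matrix.one_mulVec]
    have h2 := mat_spec (m⁻¹ * n) e0
    rw [h1] at h2
    obtain ⟨a, ha, hea⟩ := cent_mem h (mul_inv_eq_iff_eq_mul.1 h2)
    have h3 : mat (m⁻¹ * n) = (blk ⟨a, ha.2⟩ : M3) := by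
      rw [← mat_C4 h ha]
      exact congrArg mat (Subtype.ext hea.symm)
    have h4 : mat n = mat m * mat (m⁻¹ * n) := by rw [← mat_mul h, mul_inv_cancel_left]
    rw [h4, Matrix.det_mul, hB, h3, B.2, (blk ⟨a, ha.2⟩).2, one_mul]

theorem mat_eq_one (h : One φ) {n : NN φ} (e : mat n = 1) : ∃ v, (n : G) = ev φ v := by
  obtain ⟨a, ha, hea⟩ := cent_mem h (g := (n : G)) (mul_inv_eq_iff_eq_mul.1 (by
    rw [mat_spec, e, Matrix.one_mulVec]))
  have hb : (blk ⟨a, ha.2⟩ : M3) = 1 := by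
    rw [← mat_C4 h ha, ← e]
    exact congrArg mat (Subtype.ext hea)
  refine ⟨cv a, ?_⟩
  have hd : a = col (cv a) := by
    have hd := decomp ⟨a, ha.2⟩
    rwa [show blk ⟨a, ha.2⟩ = 1 from Subtype.ext hb, map_one, mul_one] at hd
  rw [← hea]
  exact congrArg φ (Subtype.ext hd)

/-- The projection of the normaliser. -/
noncomputable def proj (h : One φ) (hn : ¬ Isolated φ) : NN φ →* S3' where
  toFun n := ⟨mat n, (mat_range h hn).2 n⟩
  map_one' := Subtype.ext (mat_one h)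
  map_mul' m n := Subtype.ext (mat_mul h m n)

theorem proj_surj (h : One φ) (hn : ¬ Isolated φ) : Function.Surjective (proj h hn) := fun A => by
  obtain ⟨n, hA⟩ := (mat_range h hn).1 A
  exact ⟨n, Subtype.ext hA⟩

theorem proj_spec (h : One φ) (hn : ¬ Isolated φ) (n : NN φ) (v : V3) :
    (n : G) * ev φ v * (n : G)⁻¹ = ev φ ((proj h hn n : M3).mulVec v) := mat_spec n v

end Cfsg.Agent.L43Three45.Second
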