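import Cfsg.Agent.Lib.L43Second52Model

/-!
Local facts in the model for the second parabolic of S3373.
-/

set_option autoImplicit false

namespace Cfsg.Agent.L43Three45.Second

open Matrix

/-- The middle block. -/
def midM (g : L4) : Matrix (Fin 2) (Fin 2) (ZMod 3) :=
  !![(g : M4) 1 1, (g : M4) 1 2; (g : M4) 2 1, (g : M4) 2 2]

theorem C4_entries {g : L4} (h : g ∈ C4) :
    (g : M4) 0 0 = 1 ∧ (g : M4) 1 0 = 0 ∧ (g : M4) 2 0 = 0 ∧ (g : M4) 3 0 = 0 ∧
      (g : M4) 3 1 = 0 ∧ (g : M4) 3 2 = 0 ∧ (g : M4) 3 3 = 1 := by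
  have h1 := h.1
  have h2 := h.2
  exact ⟨by simpa using h1 0, by simpa [Fin.ext_iff] using h1 1, by simpa [Fin.ext_iff] using h1 2,
    by simpa [Fin.ext_iff] using h1 3, by simpa [Fin.ext_iff] using h2 1,
    by simpa [Fin.ext_iff] using h2 2, by simpa using h2 3⟩

theorem det_midM {g : L4} (h : g ∈ C4) :
    (g : M4) 1 1 * (g : M4) 2 2 - (g : M4) 1 2 * (g : M4) 2 1 = 1 := by
  have := det_blk h.2
  obtain ⟨h00, h10, h20, -⟩ := C4_entries h
  have e : (Fin.castSucc (0 : Fin 3)) = (0 : Fin 4) := rfl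
  have e1 : (Fin.castSucc (1 : Fin 3)) = (1 : Fin 4) := rfl
  have e2 : (Fin.castSucc (2 : Fin 3)) = (2 : Fin 4) := rfl
  rw [Matrix.det_fin_three] at this
  simp [blkM, e, e1, e2, h00, h10, h20] at this
  linear_combination this

theorem midM_mul {g h : L4} (hg : g ∈ C4) (hh : h ∈ C4) :
    midM (g * h) = midM g * midM h := by
  obtain ⟨h00, h10, h20, h30, h31, h32, h33⟩ := C4_entries hh
  obtain ⟨g00, g10, g20, g30, g31, g32, g33⟩ := C4_entries hg
  ext i j
  fin_cases i <;> fin_cases j <;>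
    simp [midM, Matrix.mul_apply, Fin.sum_univ_two, Fin.sum_univ_four, g10, g20, h31, h32]

/-- The middle projection. -/
def mid : C4 →* Matrix.SpecialLinearGroup (Fin 2) (ZMod 3) where
  toFun g := ⟨midM g.1, by rw [Matrix.det_fin_two]; simpa [midM] using det_midM g.2⟩
  map_one' := Subtype.ext (by
    ext i j; fin_cases i <;> fin_cases j <;> simp [midM, Matrix.one_apply, Fin.ext_iff])
  map_mul' g h := Subtype.ext (midM_mul g.2 h.2)

theorem mem_Q4_of_mid {g : C4} (h : mid g = 1) : (g : L4) ∈ Q4 := by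
  refine ⟨g.2, fun i j => ?_⟩
  have : midM (g : L4) i j = (1 : Matrix (Fin 2) (Fin 2) (ZMod 3)) i j :=
    congrArg (fun A : Matrix.SpecialLinearGroup (Fin 2) (ZMod 3) =>
      (A : Matrix (Fin 2) (Fin 2) (ZMod 3)) i j) h
  fin_cases i <;> fin_cases j <;> simpa [midM, Fin.ext_iff] using this

theorem fixed_card : ∀ a b c d : ZMod 3, a * d - b * c = 1 →
    (a = 1 ∧ b = 0 ∧ c = 0 ∧ d = 1) ∨
    ((Finset.univ.filter fun u : ZMod 3 × ZMod 3 =>
        u.1 * a + u.2 * c = u.1 ∧ u.1 * b + u.2 * d = u.2).card ≤ 3 ∧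
      (Finset.univ.filter fun v : ZMod 3 × ZMod 3 =>
        a * v.1 + b * v.2 = v.1 ∧ c * v.1 + d * v.2 = v.2).card ≤ 3) := by decide +kernel

/-- A subgroup of order `243` centralising an element of the stabiliser forces that element into
the radical. -/
theorem mem_Q4_of_centralizer {w : C4} {T : Subgroup C4} (hT : Nat.card T = 243)
    (hc : ∀ t ∈ T, (t : L4) * w = w * t) : (w : L4) ∈ Q4 := by
  classical
  refine mem_Q4_of_mid ?_
  by_contra hne
  obtain ⟨w00, w10, w20, w30, w31, w32, w33⟩ := C4_entries w.2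
  rcases fixed_card _ _ _ _ (det_midM w.2) with ⟨ha, hb, hcc, hd⟩ | ⟨hu, hv⟩
  · refine hne (Subtype.ext ?_)
    show midM (w : L4) = 1
    ext i j
    fin_cases i <;> fin_cases j <;> simp [midM, ha, hb, hcc, hd]
  set f := mid.comp T.subtype with hf
  have hsplit : Nat.card T = Nat.card (T ⧸ f.ker) * Nat.card f.ker :=
    Subgroup.card_eq_card_quotient_mul_card_subgroup _
  rw [Nat.card_congr (QuotientGroup.quotientKerEquivRange f).toEquiv, hT] at hsplit
  have hr : Nat.card f.range ≤ 3 := by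
    have h1 : Nat.card f.range ∣ 243 := ⟨_, hsplit⟩
    have h2 : Nat.card f.range ∣ 24 := by
      have : Nat.card (Matrix.SpecialLinearGroup (Fin 2) (ZMod 3)) = 24 := by
        rw [Nat.card_eq_fintype_card]; decide +kernel
      exact this ▸ Subgroup.card_subgroup_dvd_card _
    exact Nat.le_of_dvd (by norm_num) (Nat.dvd_gcd h1 h2)
  let U := {u : ZMod 3 × ZMod 3 //
    u.1 * (w : M4) 1 1 + u.2 * (w : M4) 2 1 = u.1 ∧
      u.1 * (w : M4) 1 2 + u.2 * (w : M4) 2 2 = u.2}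
  let V := {v : ZMod 3 × ZMod 3 //
    (w : M4) 1 1 * v.1 + (w : M4) 1 2 * v.2 = v.1 ∧
      (w : M4) 2 1 * v.1 + (w : M4) 2 2 * v.2 = v.2}
  have hkey : ∀ t : f.ker, let g := ((t : T) : C4).1
      ((g : M4) 1 1 = 1 ∧ (g : M4) 1 2 = 0 ∧ (g : M4) 2 1 = 0 ∧ (g : M4) 2 2 = 1) ∧
      ((g : M4) 0 1 * (w : M4) 1 1 + (g : M4) 0 2 * (w : M4) 2 1 = (g : M4) 0 1 ∧
        (g : M4) 0 1 * (w : M4) 1 2 + (g : M4) 0 2 * (w : M4) 2 2 = (g : M4) 0 2) ∧
      ((w : M4) 1 1 * (g : M4) 1 3 + (w : M4) 1 2 * (g : M4) 2 3 = (g : M4) 1 3 ∧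
        (w : M4) 2 1 * (g : M4) 1 3 + (w : M4) 2 2 * (g : M4) 2 3 = (g : M4) 2 3) := by
    intro t g
    have hk : mid ((t : T) : C4) = 1 := t.2
    have hq := (mem_Q4_of_mid hk).2
    have q11 : (g : M4) 1 1 = 1 := by simpa using hq 0 0
    have q12 : (g : M4) 1 2 = 0 := by simpa [Fin.ext_iff] using hq 0 1
    have q21 : (g : M4) 2 1 = 0 := by simpa [Fin.ext_iff] using hq 1 0
    have q22 : (g : M4) 2 2 = 1 := by simpa using hq 1 1
    obtain ⟨g00, g10, g20, g30, g31, g32, g33⟩ := C4_entries ((t : T) : C4).2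
    have hcm := congrArg (fun x : L4 => (x : M4)) (hc _ (t : T).2)
    have e01 := congrFun (congrFun hcm 0) 1
    have e02 := congrFun (congrFun hcm 0) 2
    have e13 := congrFun (congrFun hcm 1) 3
    have e23 := congrFun (congrFun hcm 2) 3
    simp [Matrix.mul_apply, Fin.sum_univ_four, w00, w10, w20, w30, w31, w32, w33, g, q11, q12, q21,
      q22, g00, g10, g20, g30, g31, g32, g33] at e01 e02 e13 e23
    refine ⟨⟨q11, q12, q21, q22⟩, ⟨?_, ?_⟩, ⟨?_, ?_⟩⟩
    · linear_combination e01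
    · linear_combination e02
    · linear_combination -e13
    · linear_combination -e23
  let code : f.ker → U × ZMod 3 × V := fun t =>
    (⟨((((t : T) : C4).1 : M4) 0 1, (((t : T) : C4).1 : M4) 0 2), (hkey t).2.1⟩,
      (((t : T) : C4).1 : M4) 0 3,
      ⟨((((t : T) : C4).1 : M4) 1 3, (((t : T) : C4).1 : M4) 2 3), (hkey t).2.2⟩)
  have hinj : Function.Injective code := by
    intro s t h
    simp only [code, Prod.mk.injEq] at h
    obtain ⟨h12, h3, h45⟩ := h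
    obtain ⟨h1, h2⟩ := Prod.ext_iff.1 (congrArg Subtype.val h12)
    obtain ⟨h4, h5⟩ := Prod.ext_iff.1 (congrArg Subtype.val h45)
    dsimp only at h1 h2 h4 h5
    obtain ⟨a1, a2, a3, a4⟩ := (hkey s).1
    obtain ⟨b1, b2, b3, b4⟩ := (hkey t).1
    obtain ⟨s00, s10, s20, s30, s31, s32, s33⟩ := C4_entries ((s : T) : C4).2
    obtain ⟨t00, t10, t20, t30, t31, t32, t33⟩ := C4_entries ((t : T) : C4).2
    refine Subtype.ext (Subtype.ext (Subtype.ext (Subtype.ext ?_)))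
    ext i j
    fin_cases i <;> fin_cases j <;> simp [h1, h2, h3, h4, h5, a1, a2, a3, a4, b1, b2, b3, b4,
      s00, s10, s20, s30, s31, s32, s33, t00, t10, t20, t30, t31, t32, t33]
  have h1 := Nat.card_le_card_of_injective code hinj
  rw [Nat.card_prod, Nat.card_prod, Nat.card_zmod] at h1
  have hU : Nat.card U ≤ 3 := by
    rw [Nat.card_eq_fintype_card, Fintype.card_subtype]
    exact hu
  have hV : Nat.card V ≤ 3 := by
    rw [Nat.card_eq_fintype_card, Fintype.card_subtype]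
    exact hv
  have h2 : Nat.card U * (3 * Nat.card V) ≤ 3 * (3 * 3) :=
    Nat.mul_le_mul hU (Nat.mul_le_mul_left 3 hV)
  have h3 : Nat.card f.range * Nat.card f.ker ≤ 3 * 27 := Nat.mul_le_mul hr (by omega)
  omega

/-! ### The centraliser of `X13` -/

theorem cent_e1 {g : L4} (h : g ∈ C4) (hc : g * col e1 = col e1 * g) :
    (g : M4) 0 1 = 0 ∧ (g : M4) 1 1 = 1 ∧ (g : M4) 2 1 = 0 ∧ (g : M4) 2 2 = 1 := by
  have h1 : col ((blk ⟨g, h.2⟩ : M3).mulVec e1) = col e1 := by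
    rw [← conj_H2_col ⟨g, h.2⟩ e1, hc, mul_inv_cancel_right]
  have h2 := col_inj h1
  have g01 : (g : M4) 0 1 = 0 := by
    have := congrFun h2 0
    rw [mulVec_e1] at this
    exact this
  have g11 : (g : M4) 1 1 = 1 := by
    have := congrFun h2 1
    rw [mulVec_e1] at this
    exact this
  have g21 : (g : M4) 2 1 = 0 := by
    have := congrFun h2 2
    rw [mulVec_e1] at this
    exact this
  refine ⟨g01, g11, g21, ?_⟩
  have := det_midM h
  rw [g11, g21] at this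
  linear_combination this

/-- The centraliser of `z4` and `X13` in the model. -/
def S2' : Subgroup L4 := C4 ⊓ Subgroup.centralizer {col e1}

theorem mem_S2' {g : L4} : g ∈ S2' ↔ g ∈ C4 ∧ g * col e1 = col e1 * g := by
  rw [S2', Subgroup.mem_inf, Subgroup.mem_centralizer_singleton_iff]

/-- The three linear coordinates. -/
def p3 (g : L4) : V3 := ![(g : M4) 0 2, (g : M4) 1 2, (g : M4) 2 3]

theorem p3_mul {g h : L4} (hg : g ∈ S2') (hh : h ∈ S2') : p3 (g * h) = p3 g + p3 h := by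
  obtain ⟨hgC, hgc⟩ := mem_S2'.1 hg
  obtain ⟨hhC, hhc⟩ := mem_S2'.1 hh
  obtain ⟨g01, g11, g21, g22⟩ := cent_e1 hgC hgc
  obtain ⟨h01, h11, h21, h22⟩ := cent_e1 hhC hhc
  obtain ⟨g00, g10, g20, g30, g31, g32, g33⟩ := C4_entries hgC
  obtain ⟨h00, h10, h20, h30, h31, h32, h33⟩ := C4_entries hhC
  funext i
  fin_cases i <;>
    simp [p3, Matrix.mul_apply, Fin.sum_univ_four, g00, g01, g11, g20, g21, g22, g10, h22, h32,
      h33] <;> ring

/-- The commutator form. -/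
def bet (a b : V3) : V3 := ![a 0 * b 2 - b 0 * a 2, a 1 * b 2 - b 1 * a 2, 0]

theorem comm_eq {g h : L4} (hg : g ∈ S2') (hh : h ∈ S2') :
    g * h = col (bet (p3 g) (p3 h)) * (h * g) := by
  obtain ⟨hgC, hgc⟩ := mem_S2'.1 hg
  obtain ⟨hhC, hhc⟩ := mem_S2'.1 hh
  obtain ⟨g01, g11, g21, g22⟩ := cent_e1 hgC hgc
  obtain ⟨h01, h11, h21, h22⟩ := cent_e1 hhC hhc
  obtain ⟨g00, g10, g20, g30, g31, g32, g33⟩ := C4_entries hgC
  obtain ⟨h00, h10, h20, h30, h31, h32, h33⟩ := C4_entries hhC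
  apply Subtype.ext
  simp only [Matrix.SpecialLinearGroup.coe_mul, coe_col]
  ext i j
  fin_cases i <;> fin_cases j <;>
    simp [bet, p3, Matrix.mul_apply, Fin.sum_univ_four, g00, g01, g10, g11, g20, g21, g22, g30,
      g31, g32, g33, h00, h01, h10, h11, h20, h21, h22, h30, h31, h32, h33] <;> ring

theorem mem_E2_of_p3 {g : L4} (hg : g ∈ S2') (h0 : p3 g 0 = 0) (h1 : p3 g 1 = 0) : g ∈ E2 := by
  obtain ⟨hgC, hgc⟩ := mem_S2'.1 hg
  obtain ⟨g01, g11, g21, g22⟩ := cent_e1 hgC hgc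
  obtain ⟨g00, g10, g20, g30, g31, g32, g33⟩ := C4_entries hgC
  have g02 : (g : M4) 0 2 = 0 := h0
  have g12 : (g : M4) 1 2 = 0 := h1
  refine ⟨fun i j hj => ?_, hgC.2⟩
  fin_cases i <;> fin_cases j <;> simp at hj <;>
    simp [g00, g01, g02, g10, g11, g12, g20, g21, g22, g30, g31, g32, Fin.ext_iff]

/-- The linear map with given images. -/
def lin (p q r v : V3) : V3 := v 0 • p + v 1 • q + v 2 • r

def sJ (v : V3) : V3 := ![-v 0, v 1, -v 2]
def sR (v : V3) : V3 := ![-v 0, -v 1, v 2]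

/-- The key computation. -/
theorem flip_fixed : ∀ p q : V3, bet p q = 0 → ∀ r : V3, bet p r = e1 → bet q r = e0 →
    sR (sJ (lin p q r (sJ (lin p q r e2)))) = e2 → r 0 = 0 ∧ r 1 = 0 := by decide +kernel

/-- Mixed elements of the radical. -/
theorem mixed12 : ∀ c : ZMod 3, c ≠ 0 → ∃ h : L4, h ∈ H1 ∧
    h * (emb (T3 1 2 (by decide) 1) * col (c • e0)) * h⁻¹ ∈ Q4 ∧
    h * (emb (T3 1 2 (by decide) 1) * col (c • e0)) * h⁻¹ ∉ E1 ∧
    h * (emb (T3 1 2 (by decide) 1) * col (c • e0)) * h⁻¹ ∉ E2 := by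
  intro c hc
  refine ⟨⟨!![1, 0, 0, 0; 0, 1, 0, 0; 0, 0, 0, -1; 0, 0, 1, 0], by decide +kernel⟩, ?_, ?_, ?_, ?_⟩
  · exact fun i => by revert i; decide +kernel
  all_goals
    rcases (show c = 1 ∨ c = 2 by revert c hc; decide) with rfl | rfl
  · refine ⟨⟨?_, ?_⟩, ?_⟩ <;> intro i <;> revert i <;> decide +kernel
  · refine ⟨⟨?_, ?_⟩, ?_⟩ <;> intro i <;> revert i <;> decide +kernel
  · intro h; exact absurd (h.1 1 3 (by decide)) (by decide +kernel)
  · intro h; exact absurd (h.1 1 3 (by decide)) (by decide +kernel)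
  · intro h; exact absurd (h.1 0 2 (by decide)) (by decide +kernel)
  · intro h; exact absurd (h.1 0 2 (by decide)) (by decide +kernel)

theorem mixed21 : ∀ c : ZMod 3, c ≠ 0 → ∃ h : L4, h ∈ H1 ∧
    h * (emb (T3 2 1 (by decide) 1) * col (c • e0)) * h⁻¹ ∈ Q4 ∧
    h * (emb (T3 2 1 (by decide) 1) * col (c • e0)) * h⁻¹ ∉ E1 ∧
    h * (emb (T3 2 1 (by decide) 1) * col (c • e0)) * h⁻¹ ∉ E2 := by
  intro c hc
  refine ⟨⟨!![1, 0, 0, 0; 0, 0, 0, -1; 0, 0, 1, 0; 0, 1, 0, 0], by decide +kernel⟩, ?_, ?_, ?_, ?_⟩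
  · exact fun i => by revert i; decide +kernel
  all_goals
    rcases (show c = 1 ∨ c = 2 by revert c hc; decide) with rfl | rfl
  · refine ⟨⟨?_, ?_⟩, ?_⟩ <;> intro i <;> revert i <;> decide +kernel
  · refine ⟨⟨?_, ?_⟩, ?_⟩ <;> intro i <;> revert i <;> decide +kernel
  · intro h; exact absurd (h.1 2 3 (by decide)) (by decide +kernel)
  · intro h; exact absurd (h.1 2 3 (by decide)) (by decide +kernel)
  · intro h; exact absurd (h.1 0 1 (by decide)) (by decide +kernel)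
  · intro h; exact absurd (h.1 0 1 (by decide)) (by decide +kernel)

end Cfsg.Agent.L43Three45.Second
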