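import Cfsg.Agent.Lib.L43Base45

/-!
Facts in `SL(4,3)` for the second parabolic of S3373.
-/

set_option autoImplicit false

namespace Cfsg.Agent.L43Three45.Second

open Matrix

abbrev M4 := Matrix (Fin 4) (Fin 4) (ZMod 3)
abbrev M3 := Matrix (Fin 3) (Fin 3) (ZMod 3)
abbrev S3' := Matrix.SpecialLinearGroup (Fin 3) (ZMod 3)
abbrev V3 := Fin 3 → ZMod 3

/-- The element of `E2` with the given last column. -/
def col (v : V3) : L4 :=
  ⟨!![1, 0, 0, v 0; 0, 1, 0, v 1; 0, 0, 1, v 2; 0, 0, 0, 1], by revert v; decide +kernel⟩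

/-- A 3-by-3 block. -/
def embM (A : M3) : M4 :=
  !![A 0 0, A 0 1, A 0 2, 0; A 1 0, A 1 1, A 1 2, 0; A 2 0, A 2 1, A 2 2, 0; 0, 0, 0, 1]

theorem det_embM (A : M3) : (embM A).det = A.det := by
  rw [Matrix.det_succ_row _ 3, Fin.sum_univ_four]
  simp [embM, Matrix.det_fin_three, Matrix.submatrix_apply, Fin.succAbove, Fin.ext_iff]
  ring

theorem embM_mul (A B : M3) : embM (A * B) = embM A * embM B := by
  ext i j
  fin_cases i <;> fin_cases j <;>
    simp [embM, Matrix.mul_apply, Fin.sum_univ_three, Fin.sum_univ_four]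

theorem embM_one : embM 1 = 1 := by decide +kernel

/-- The block embedding. -/
def emb : S3' →* L4 where
  toFun A := ⟨embM A, by rw [det_embM, A.2]⟩
  map_one' := Subtype.ext (by simpa using embM_one)
  map_mul' A B := Subtype.ext (embM_mul A.1 B.1)

theorem coe_emb (A : S3') : ((emb A : L4) : M4) = embM A := rfl

theorem coe_col (v : V3) :
    ((col v : L4) : M4) = !![1, 0, 0, v 0; 0, 1, 0, v 1; 0, 0, 1, v 2; 0, 0, 0, 1] := rfl

theorem col_add (u v : V3) : col (u + v) = col u * col v := by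
  apply Subtype.ext
  rw [Matrix.SpecialLinearGroup.coe_mul, coe_col, coe_col, coe_col]
  ext i j
  fin_cases i <;> fin_cases j <;>
    simp [Matrix.mul_apply, Fin.sum_univ_four, add_comm]

theorem col_zero : col 0 = 1 := by decide +kernel

theorem col_inj {u v : V3} (h : col u = col v) : u = v := by
  funext i
  have := congrArg (fun g : L4 => (g : M4) i.castSucc 3) h
  fin_cases i <;> simpa [coe_col] using this

theorem emb_col (A : S3') (v : V3) :
    emb A * col v = col ((A : M3).mulVec v) * emb A := by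
  apply Subtype.ext
  rw [Matrix.SpecialLinearGroup.coe_mul, Matrix.SpecialLinearGroup.coe_mul, coe_emb, coe_col,
    coe_col]
  ext i j
  fin_cases i <;> fin_cases j <;>
    simp [embM, Matrix.mulVec, dotProduct, Matrix.mul_apply, Fin.sum_univ_three,
      Fin.sum_univ_four]

/-- The upper left block. -/
def blkM (g : L4) : M3 := (g : M4).submatrix Fin.castSucc Fin.castSucc

/-- The last column. -/
def cv (g : L4) : V3 := fun i => (g : M4) i.castSucc 3

theorem decompM {g : L4} (h : g ∈ H2) :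
    (g : M4) = ((col (cv g) : L4) : M4) * embM (blkM g) := by
  have hr : ∀ j, (g : M4) 3 j = if 3 = j then 1 else 0 := h
  rw [coe_col]
  ext i j
  fin_cases i <;> fin_cases j <;>
    simp [embM, blkM, cv, Matrix.mul_apply, Fin.sum_univ_four, hr, Fin.ext_iff] <;> rfl

theorem det_blk {g : L4} (h : g ∈ H2) : (blkM g).det = 1 := by
  have := congrArg Matrix.det (decompM h)
  rw [Matrix.det_mul, (col (cv g)).2, g.2, one_mul, det_embM] at this
  exact this.symm

theorem blkM_mul {g h : L4} (hh : h ∈ H2) : blkM (g * h) = blkM g * blkM h := by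
  have hr : ∀ j, (h : M4) 3 j = if 3 = j then 1 else 0 := hh
  ext i j
  fin_cases i <;> fin_cases j <;>
    simp [blkM, Matrix.mul_apply, Fin.sum_univ_three, Fin.sum_univ_four, hr, Fin.ext_iff] <;> rfl

/-- The projection to `SL(3,3)`. -/
def blk : H2 →* S3' where
  toFun g := ⟨blkM g.1, det_blk g.2⟩
  map_one' := Subtype.ext (by ext i j; simp [blkM, Matrix.one_apply, Fin.ext_iff])
  map_mul' g h := Subtype.ext (blkM_mul h.2)

theorem decomp (g : H2) : (g : L4) = col (cv g.1) * emb (blk g) :=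
  Subtype.ext (decompM g.2)

theorem col_mem_H2 (v : V3) : col v ∈ H2 := by revert v; decide +kernel
theorem col_mem_H1 (v : V3) : col v ∈ H1 := by revert v; decide +kernel

theorem col_mem_C4 (v : V3) : col v ∈ C4 := ⟨col_mem_H1 v, col_mem_H2 v⟩

theorem emb_mem_H2 (A : S3') : emb A ∈ H2 := by
  intro j
  rw [coe_emb]
  fin_cases j <;> simp [embM, Fin.ext_iff]

theorem emb_mem_H1 {A : S3'} (h : ∀ i, (A : M3) i 0 = if i = 0 then 1 else 0) : emb A ∈ H1 := by
  intro i
  rw [coe_emb]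
  fin_cases i <;> simp [embM, h, Fin.ext_iff]

theorem mem_H1_col {g : L4} (h : g ∈ H1) (i : Fin 3) :
    blkM g i 0 = if i = 0 then 1 else 0 := by
  have := h i.castSucc
  fin_cases i <;> simpa [blkM, Fin.ext_iff] using this

theorem blk_col (v : V3) : blk ⟨col v, col_mem_H2 v⟩ = 1 := by revert v; decide +kernel

theorem blk_emb (A : S3') : blk ⟨emb A, emb_mem_H2 A⟩ = A := by
  apply Subtype.ext
  show blkM (emb A) = (A : M3)
  ext i j
  fin_cases i <;> fin_cases j <;> simp [blkM, coe_emb, embM]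

theorem col_mem_E2 (v : V3) : col v ∈ E2 := by
  refine ⟨fun i j hj => ?_, col_mem_H2 v⟩
  rw [coe_col]
  fin_cases i <;> fin_cases j <;> simp at hj ⊢

theorem exists_col_of_mem_E2 {g : L4} (h : g ∈ E2) : ∃ v, g = col v := by
  refine ⟨cv g, ?_⟩
  have hb : blk ⟨g, h.2⟩ = 1 := Subtype.ext (by
    ext i j
    have := h.1 i.castSucc j.castSucc (by intro e; simp [Fin.ext_iff] at e; omega)
    show blkM g i j = (1 : M3) i j
    simpa [blkM, Matrix.one_apply] using this)
  have := decomp ⟨g, h.2⟩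
  rwa [hb, map_one, mul_one] at this

theorem conj_H2_col (g : H2) (v : V3) :
    (g : L4) * col v * (g : L4)⁻¹ = col ((blk g : M3).mulVec v) := by
  rw [decomp g, _root_.mul_inv_rev, mul_assoc (col (cv g.1)), emb_col]
  calc col (cv g.1) * (col _ * emb (blk g)) * ((emb (blk g))⁻¹ * (col (cv g.1))⁻¹)
      = col (cv g.1) * col ((blk g : M3).mulVec v) * (col (cv g.1))⁻¹ := by group
    _ = _ := by rw [← col_add, add_comm, col_add, mul_inv_cancel_right]

theorem E2_normal {g : L4} (h : g ∈ H2) {x : L4} (hx : x ∈ E2) : g * x * g⁻¹ ∈ E2 := by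
  obtain ⟨v, rfl⟩ := exists_col_of_mem_E2 hx
  rw [conj_H2_col ⟨g, h⟩]
  exact col_mem_E2 _

/-! ### The special elements -/

def e0 : V3 := ![1, 0, 0]
def e1 : V3 := ![0, 1, 0]
def e2 : V3 := ![0, 0, 1]

theorem z4_eq : z4 = col e0 := by decide +kernel

/-- Transvections in `SL(3,3)`. -/
def T3 (i j : Fin 3) (h : i ≠ j) (c : ZMod 3) : S3' :=
  ⟨Matrix.transvection i j c, Matrix.det_transvection_of_ne i j h c⟩

def R3 : S3' := ⟨!![-1, 0, 0; 0, -1, 0; 0, 0, 1], by decide +kernel⟩
def J3 : S3' := ⟨!![1, 0, 0; 0, -1, 0; 0, 0, -1], by decide +kernel⟩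

theorem r2_eq : r2 = emb R3 := by decide +kernel
theorem j4_eq : j4 = emb J3 := by decide +kernel

theorem negOne_comm (g : L4) : negOne * g = g * negOne := by
  have e : ((negOne : L4) : M4) = -1 := by decide +kernel
  apply Subtype.ext
  rw [Matrix.SpecialLinearGroup.coe_mul, Matrix.SpecialLinearGroup.coe_mul, e]
  simp

theorem r1_conj (g : L4) : r1 * g * r1⁻¹ = r2 * g * r2⁻¹ := by
  have e : r1 = r2 * negOne := by decide +kernel
  rw [e, _root_.mul_inv_rev, mul_assoc r2 negOne, negOne_comm]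
  group

theorem r1_col (v : V3) : r1 * col v * r1⁻¹ = col ((R3 : M3).mulVec v) := by
  rw [r1_conj, r2_eq, conj_H2_col ⟨emb R3, emb_mem_H2 R3⟩, blk_emb]

/-- Stabilisers of `e0`. -/
theorem mulVec_e0 (A : M3) (i : Fin 3) : A.mulVec e0 i = A i 0 := by
  fin_cases i <;> simp [Matrix.mulVec, dotProduct, e0, Fin.sum_univ_three]

theorem mulVec_e1 (A : M3) (i : Fin 3) : A.mulVec e1 i = A i 1 := by
  fin_cases i <;> simp [Matrix.mulVec, dotProduct, e1, Fin.sum_univ_three]

theorem blk_e0 {g : L4} (h : g ∈ C4) :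
    ((blk ⟨g, h.2⟩ : S3') : M3).mulVec e0 = e0 := by
  funext i
  rw [mulVec_e0]
  show blkM g i 0 = _
  rw [mem_H1_col h.1]
  fin_cases i <;> simp [e0]

theorem emb_mem_C4 {A : S3'} (h : (A : M3).mulVec e0 = e0) : emb A ∈ C4 := by
  refine ⟨emb_mem_H1 fun i => ?_, emb_mem_H2 A⟩
  have := congrFun h i
  rw [mulVec_e0] at this
  rw [this]
  fin_cases i <;> simp [e0]

theorem word_eq : ∀ p q r s u v : ZMod 3,
    ((T3 1 2 (by decide) p * T3 2 1 (by decide) q * T3 1 2 (by decide) r *
      T3 2 1 (by decide) s * (T3 0 1 (by decide) u * T3 0 2 (by decide) v) : S3') : M3) =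
      !![1, u, v; 0, (1 + p * q) * (1 + r * s) + p * s, (1 + p * q) * r + p;
        0, q * (1 + r * s) + s, q * r + 1] := by decide +kernel

/-- Generators of the stabiliser of `e0`. -/
theorem stab_word {A : S3'} (h : (A : M3).mulVec e0 = e0) : ∃ p q r s u v : ZMod 3,
    A = T3 1 2 (by decide) p * T3 2 1 (by decide) q * T3 1 2 (by decide) r *
      T3 2 1 (by decide) s * (T3 0 1 (by decide) u * T3 0 2 (by decide) v) := by
  have h0 : ∀ i, (A : M3) i 0 = e0 i := fun i => (mulVec_e0 _ i).symm.trans (congrFun h i)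
  have hdet : (A : M3) 1 1 * (A : M3) 2 2 - (A : M3) 1 2 * (A : M3) 2 1 = 1 := by
    have := A.2
    rw [Matrix.det_fin_three] at this
    simp [h0, e0] at this
    linear_combination this
  have h2 : ∀ a b c d : ZMod 3, a * d - b * c = 1 → ∃ p q r s : ZMod 3,
      (1 + p * q) * (1 + r * s) + p * s = a ∧ (1 + p * q) * r + p = b ∧
        q * (1 + r * s) + s = c ∧ q * r + 1 = d := by decide +kernel
  obtain ⟨p, q, r, s, e11, e12, e21, e22⟩ := h2 _ _ _ _ hdet
  refine ⟨p, q, r, s, (A : M3) 0 1, (A : M3) 0 2, Subtype.ext ?_⟩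
  rw [word_eq, e11, e12, e21, e22]
  ext i j
  fin_cases i <;> fin_cases j <;> simp [h0, e0]

/-- Moving `X13`. -/
def mvA (v : V3) : S3' :=
  ⟨if v 1 = 0 then if v 2 = 0 then 1 else !![1, v 0, 0; 0, v 1, -v 2; 0, v 2, 0]
    else !![1, v 0, 0; 0, v 1, 0; 0, v 2, v 1],
    by
      revert v
      decide +kernel⟩

end Cfsg.Agent.L43Three45.Second
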