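import Cfsg.Agent.Lib.L43Second52Local

/-!
An element of the normaliser of the second abelian subgroup moving the central element (S3373).
-/

set_option autoImplicit false

namespace Cfsg.Agent.L43Three45.Second

open Matrix

/-- The element of `E1` with the given first row. -/
def er (u : V3) : L4 :=
  ⟨!![1, u 0, u 1, u 2; 0, 1, 0, 0; 0, 0, 1, 0; 0, 0, 0, 1], by revert u; decide +kernel⟩

theorem er_of_mem {g : L4} (h : g ∈ E1) :
    g = er ![(g : M4) 0 1, (g : M4) 0 2, (g : M4) 0 3] := by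
  have h1 := h.1
  have h00 : (g : M4) 0 0 = 1 := by simpa using h.2 0
  apply Subtype.ext
  ext i j
  fin_cases i <;> fin_cases j <;> simp [er, h00] <;>
    (rw [h1 _ _ (by decide)]; simp [Fin.ext_iff])

theorem E1_normal {g x : L4} (hg : g ∈ H1) (hx : x ∈ E1) : g * x * g⁻¹ ∈ E1 := by
  refine ⟨fun i j hi => ?_, mul_mem (mul_mem hg hx.2) (inv_mem hg)⟩
  have hrow : ∀ k, ((g * x : L4) : M4) i k = (g : M4) i k := by
    intro k
    rw [Matrix.SpecialLinearGroup.coe_mul, Matrix.mul_apply, Fin.sum_univ_four]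
    have hgi : (g : M4) i 0 = 0 := by rw [hg i, if_neg hi]
    rw [hgi, zero_mul, zero_add, hx.1 1 k (by decide), hx.1 2 k (by decide),
      hx.1 3 k (by decide)]
    fin_cases k <;> simp [hgi, Fin.ext_iff]
  have : ((g * x * g⁻¹ : L4) : M4) i j = ((g * g⁻¹ : L4) : M4) i j := by
    rw [Matrix.SpecialLinearGroup.coe_mul, Matrix.SpecialLinearGroup.coe_mul (B := g⁻¹) (A := g)]
    rw [Matrix.mul_apply, Matrix.mul_apply]
    exact Finset.sum_congr rfl fun k _ => by rw [hrow]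
  rw [this, mul_inv_cancel, one_entry]

/-- An element of `H1` exchanging `z4` and a member of `E1`. -/
def swpM (u : V3) : M4 :=
  if u 0 = 0 then !![1, 0, 0, 0; 0, -1, 0, 0; 0, 0, -(u 1 * u 1 * u 2), u 1 * (1 - u 2 * u 2);
    0, 0, u 1, u 2]
  else !![1, 0, 0, 0; 0, -(u 0 * u 0 * u 2), u 0 * u 1 - u 0 * u 2 * u 1, u 0 * (1 - u 2 * u 2);
    0, 0, -1, 0; 0, u 0, u 1, u 2]

theorem exists_swap : ∀ u : V3, u 0 ≠ 0 ∨ u 1 ≠ 0 →
    ∃ h : L4, h ∈ H1 ∧ z4 * h = h * er u ∧ er u * h = h * z4 := by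
  have key : ∀ u : V3, u 0 ≠ 0 ∨ u 1 ≠ 0 → (swpM u).det = 1 ∧
      (∀ i, swpM u i 0 = if i = 0 then 1 else 0) ∧
      (z4 : M4) * swpM u = swpM u * (er u : M4) ∧ (er u : M4) * swpM u = swpM u * (z4 : M4) := by
    decide +kernel
  intro u hu
  obtain ⟨hd, hc, h1, h2⟩ := key u hu
  exact ⟨⟨swpM u, hd⟩, hc, Subtype.ext h1, Subtype.ext h2⟩

theorem er_zero_mid : ∀ u : V3, u 0 = 0 → u 1 = 0 → er u = col (u 2 • e0) := by decide +kernel

theorem col_mem_E1_of : ∀ v : V3, v 1 = 0 → v 2 = 0 → col v ∈ E1 := by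
  intro v h1 h2
  refine ⟨fun i j hi => ?_, col_mem_H1 v⟩
  rw [coe_col]
  fin_cases i <;> fin_cases j <;> simp [h1, h2] at hi ⊢

theorem col_e1_not_E1 : col e1 ∉ E1 := fun h => absurd (h.1 1 3 (by decide)) (by decide +kernel)

theorem mvA_spec : ∀ v : V3, v 1 ≠ 0 ∨ v 2 ≠ 0 →
    ((mvA v : S3') : M3).mulVec e1 = v ∧ ((mvA v : S3') : M3).mulVec e0 = e0 := by decide +kernel

theorem J3_e1 : ((J3 : S3') : M3).mulVec e1 = -e1 := by decide +kernel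
theorem R3_e1 : ((R3 : S3') : M3).mulVec e1 = -e1 := by decide +kernel
theorem J3_e0 : ((J3 : S3') : M3).mulVec e0 = e0 := by decide +kernel
theorem R3_e0 : ((R3 : S3') : M3).mulVec e0 = -e0 := by decide +kernel

/-- The elements of the centraliser of `X13` as a five-parameter family. -/
def sMat (x : ZMod 3 × ZMod 3 × ZMod 3 × ZMod 3 × ZMod 3) : L4 :=
  ⟨!![1, 0, x.1, x.2.1; 0, 1, x.2.2.1, x.2.2.2.1; 0, 0, 1, x.2.2.2.2; 0, 0, 0, 1], by
    revert x; decide +kernel⟩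

theorem card_S2' : Nat.card S2' = 243 := by
  have hmem : ∀ x, sMat x ∈ S2' := by
    intro x
    refine mem_S2'.2 ⟨⟨fun i => ?_, fun j => ?_⟩, ?_⟩
    · revert x i; decide +kernel
    · revert x j; decide +kernel
    · revert x; decide +kernel
  have hb : Function.Bijective fun x => (⟨sMat x, hmem x⟩ : S2') := by
    constructor
    · intro x y h
      have h' := congrArg (fun s : S2' => ((s : L4) : M4)) h
      have a := congrFun (congrFun h' 0) 2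
      have b := congrFun (congrFun h' 0) 3
      have c := congrFun (congrFun h' 1) 2
      have d := congrFun (congrFun h' 1) 3
      have e := congrFun (congrFun h' 2) 3
      simp [sMat] at a b c d e
      exact Prod.ext a (Prod.ext b (Prod.ext c (Prod.ext d e)))
    · rintro ⟨g, hg⟩
      obtain ⟨hgC, hgc⟩ := mem_S2'.1 hg
      obtain ⟨g01, g11, g21, g22⟩ := cent_e1 hgC hgc
      obtain ⟨g00, g10, g20, g30, g31, g32, g33⟩ := C4_entries hgC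
      refine ⟨((g : M4) 0 2, (g : M4) 0 3, (g : M4) 1 2, (g : M4) 1 3, (g : M4) 2 3),
        Subtype.ext (Subtype.ext ?_)⟩
      ext i j
      fin_cases i <;> fin_cases j <;> simp [sMat, g00, g01, g10, g11, g20, g21, g22, g30, g31,
        g32, g33]
  rw [← Nat.card_eq_of_bijective _ hb, Nat.card_prod, Nat.card_prod, Nat.card_prod, Nat.card_prod,
    Nat.card_zmod]

theorem S2'_le_H1 {g : L4} (h : g ∈ S2') : g ∈ H1 := (mem_S2'.1 h).1.1

theorem jconj_mem {g : L4} (h : g ∈ S2') : j4 * g * j4⁻¹ ∈ S2' := by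
  obtain ⟨hC, hc⟩ := mem_S2'.1 h
  have hj : j4 ∈ C4 := j4_eq ▸ emb_mem_C4 J3_e0
  refine mem_S2'.2 ⟨mul_mem (mul_mem hj hC) (inv_mem hj), ?_⟩
  have he : j4 * (col e1)⁻¹ * j4⁻¹ = col e1 := by decide +kernel
  calc j4 * g * j4⁻¹ * col e1 = j4 * g * j4⁻¹ * (j4 * (col e1)⁻¹ * j4⁻¹) := by rw [he]
    _ = j4 * (g * (col e1)⁻¹) * j4⁻¹ := by group
    _ = j4 * ((col e1)⁻¹ * g) * j4⁻¹ := by
      rw [(show Commute g (col e1)⁻¹ from (show Commute g (col e1) from hc).inv_right).eq]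
    _ = j4 * (col e1)⁻¹ * j4⁻¹ * (j4 * g * j4⁻¹) := by group
    _ = col e1 * (j4 * g * j4⁻¹) := by rw [he]

theorem conj_mem_gen {L : Type*} [Group L] (H : Subgroup L) {r g : L} (hr : r ∈ H) (hg : g ∈ H) :
    r * g * r⁻¹ ∈ H := H.mul_mem (H.mul_mem hr hg) (H.inv_mem hr)

theorem comm_of_inverted {L : Type*} [Group L] {r g x : L} (hc : g * x = x * g)
    (he : r * x * r⁻¹ = x⁻¹) : r * g * r⁻¹ * x = x * (r * g * r⁻¹) := by
  have h1 : r * x⁻¹ * r⁻¹ = x := by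
    calc r * x⁻¹ * r⁻¹ = (r * x * r⁻¹)⁻¹ := by group
      _ = x := by rw [he, inv_inv]
  have h2 : g * x⁻¹ = x⁻¹ * g := (Commute.inv_right (show Commute g x from hc)).eq
  calc r * g * r⁻¹ * x = r * g * r⁻¹ * (r * x⁻¹ * r⁻¹) := by rw [h1]
    _ = r * (g * x⁻¹) * r⁻¹ := by group
    _ = r * x⁻¹ * r⁻¹ * (r * g * r⁻¹) := by rw [h2]; group
    _ = x * (r * g * r⁻¹) := by rw [h1]

theorem conj_of_map {L : Type*} [Group L] {K : Subgroup L} {H : Type*} [Group H] (f : K →* H)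
    (hf : Function.Injective f) (a w y : K) (e : f a * f w * (f a)⁻¹ = f y) :
    (a : L) * w * (a : L)⁻¹ = y := by
  rw [← map_inv, ← map_mul, ← map_mul] at e
  exact congrArg Subtype.val (hf e)

theorem rconj_mem {g : L4} (h : g ∈ S2') : r1 * g * r1⁻¹ ∈ S2' := by
  obtain ⟨hC, hc⟩ := mem_S2'.1 h
  have h1 : r1 * g * r1⁻¹ ∈ H1 := conj_mem_gen H1 r1_mem hC.1
  have h2 : r1 * g * r1⁻¹ ∈ H2 := (r1_conj g).symm ▸ conj_mem_gen H2 r2_mem hC.2
  have he : r1 * col e1 * r1⁻¹ = (col e1)⁻¹ := by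
    rw [r1_col, R3_e1, eq_inv_iff_mul_eq_one, ← col_add, neg_add_cancel, col_zero]
  exact mem_S2'.2 ⟨⟨h1, h2⟩, comm_of_inverted hc he⟩

theorem p3_jconj {g : L4} (h : g ∈ S2') : p3 (j4 * g * j4⁻¹) = sJ (p3 g) := by
  have e : ((j4 : L4) : M4) = Matrix.diagonal ![1, -1, -1, 1] := by decide +kernel
  have e' : ((j4⁻¹ : L4) : M4) = Matrix.diagonal ![1, -1, -1, 1] := by decide +kernel
  funext i
  fin_cases i <;>
    simp [p3, sJ, e, e', Matrix.mul_diagonal, Matrix.diagonal_mul,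
      Matrix.SpecialLinearGroup.coe_mul, -Matrix.SpecialLinearGroup.coe_inv]

theorem p3_rconj {g : L4} (h : g ∈ S2') : p3 (r1 * g * r1⁻¹) = sR (p3 g) := by
  have e : ((r1 : L4) : M4) = Matrix.diagonal ![1, 1, -1, -1] := by decide +kernel
  have e' : ((r1⁻¹ : L4) : M4) = Matrix.diagonal ![1, 1, -1, -1] := by decide +kernel
  funext i
  fin_cases i <;>
    simp [p3, sR, e, e', Matrix.mul_diagonal, Matrix.diagonal_mul,
      Matrix.SpecialLinearGroup.coe_mul, -Matrix.SpecialLinearGroup.coe_inv]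

variable {G : Type*} [Group G] {φ : H1 →* G}

/-- The image of a member of `E2`. -/
def ev (φ : H1 →* G) (v : V3) : G := φ ⟨col v, col_mem_H1 v⟩

theorem ev_add (v w : V3) : ev φ (v + w) = ev φ v * ev φ w := by
  rw [ev, ev, ev, ← map_mul]
  exact congrArg φ (Subtype.ext (col_add v w))

theorem ev_zero : ev φ 0 = 1 := by
  have h := ev_add (φ := φ) 0 0
  rw [add_zero] at h
  exact left_eq_mul.1 h

theorem z_eq : φ ⟨z4, z4_mem⟩ = ev φ e0 := congrArg φ (Subtype.ext z4_eq)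

theorem phi_conj {g x y : L4} (hg : g ∈ H1) (hx : x ∈ H1) (hy : y ∈ H1) (h : g * x * g⁻¹ = y) :
    φ ⟨g, hg⟩ * φ ⟨x, hx⟩ * (φ ⟨g, hg⟩)⁻¹ = φ ⟨y, hy⟩ := by
  rw [← map_inv, ← map_mul, ← map_mul]
  exact congrArg φ (Subtype.ext h)

theorem cent_mem (h : One φ) {g : G} (hg : g * ev φ e0 = ev φ e0 * g) :
    ∃ (a : L4) (ha : a ∈ C4), φ ⟨a, ha.1⟩ = g := by
  have : g ∈ (C4.subgroupOf H1).map φ := by
    rw [← h.cent, Subgroup.mem_centralizer_singleton_iff, z_eq]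
    exact hg
  obtain ⟨⟨a, ha1⟩, ha, rfl⟩ := this
  exact ⟨a, ha, rfl⟩

theorem phi_cancel (h : One φ) {a b : L4} (ha : a ∈ H1) (hb : b ∈ H1)
    (e : φ ⟨a, ha⟩ = φ ⟨b, hb⟩) : a = b :=
  congrArg Subtype.val (h.inj e)

theorem C4_comm_z {a : L4} (ha : a ∈ C4) : a * col e0 = col e0 * a := by
  have := conj_H2_col ⟨a, ha.2⟩ e0
  rw [blk_e0 ha] at this
  exact mul_inv_eq_iff_eq_mul.1 this

/-- Every nonidentity member of the second abelian subgroup is central for a Sylow subgroup. -/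
theorem zclass_ev (h : One φ) (hn : ¬ Isolated φ) {v : V3} (hv : v 1 ≠ 0 ∨ v 2 ≠ 0) :
    IsConj (ev φ e0) (ev φ v) := by
  have mv : ∀ v : V3, v 1 ≠ 0 ∨ v 2 ≠ 0 → IsConj (ev φ e1) (ev φ v) := by
    intro v hv
    obtain ⟨h1, h0⟩ := mvA_spec v hv
    refine isConj_iff.2 ⟨φ ⟨emb (mvA v), (emb_mem_C4 h0).1⟩, phi_conj _ _ _ ?_⟩
    rw [conj_H2_col ⟨emb (mvA v), emb_mem_H2 _⟩, blk_emb, h1]
  simp only [Isolated, not_forall] at hn
  obtain ⟨⟨g, hg⟩, hQ, hc, hE⟩ := hn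
  rcases h.pure _ hQ hc with h1 | h2
  · exact absurd h1 hE
  · obtain ⟨w, hw⟩ := exists_col_of_mem_E2 h2
    simp only at hw
    subst hw
    have hw' : w 1 ≠ 0 ∨ w 2 ≠ 0 := by
      by_contra hcon
      push Not at hcon
      exact hE (col_mem_E1_of w hcon.1 hcon.2)
    rw [z_eq] at hc
    exact (IsConj.trans hc (mv w hw').symm).trans (mv v hv)

set_option maxHeartbeats 1000000 in
-- long argument
/-- An element exchanging the central element and `X13`. -/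
theorem exists_flip (h : One φ) (hn : ¬ Isolated φ) :
    ∃ k : G, k * ev φ e0 * k⁻¹ = ev φ e1 ∧ k * ev φ e1 * k⁻¹ = ev φ e0 := by
  obtain ⟨k, hk⟩ := isConj_iff.1 (zclass_ev h hn (v := e1) (Or.inl (by decide)))
  have hzy : ev φ e0 * ev φ e1 = ev φ e1 * ev φ e0 := by rw [← ev_add, ← ev_add, add_comm]
  obtain ⟨w, hw, hwk⟩ : ∃ (w : L4) (hw : w ∈ C4), φ ⟨w, hw.1⟩ = k⁻¹ * ev φ e0 * k := by
    refine cent_mem h ?_
    calc k⁻¹ * ev φ e0 * k * ev φ e0 = k⁻¹ * (ev φ e0 * (k * ev φ e0 * k⁻¹)) * k := by group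
      _ = k⁻¹ * (k * ev φ e0 * k⁻¹ * ev φ e0) * k := by rw [hk, hzy]
      _ = ev φ e0 * (k⁻¹ * ev φ e0 * k) := by group
  -- the centraliser of the pair has order 243
  let ψ : C4 →* G :=
    ((MulAut.conj k).toMonoidHom.comp φ).comp (Subgroup.inclusion (inf_le_left : C4 ≤ H1))
  have hψ : ∀ a : C4, ψ a = k * φ ⟨a.1, a.2.1⟩ * k⁻¹ := fun a => rfl
  have hψinj : Function.Injective ψ := by
    intro a b e
    rw [hψ, hψ, mul_left_inj, mul_right_inj] at e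
    exact Subtype.ext (phi_cancel h _ _ e)
  let φS : S2' →* G := φ.comp (Subgroup.inclusion (fun g hg => S2'_le_H1 hg))
  have hφS : ∀ a : S2', φS a = φ ⟨a.1, S2'_le_H1 a.2⟩ := fun a => rfl
  have hφSinj : Function.Injective φS := fun a b e => Subtype.ext (phi_cancel h _ _ e)
  set T : Subgroup C4 := φS.range.comap ψ with hT
  have hTle : φS.range ≤ ψ.range := by
    rintro _ ⟨⟨s, hs⟩, rfl⟩
    obtain ⟨hsC, hsc⟩ := mem_S2'.1 hs
    have hsy : φS ⟨s, hs⟩ * ev φ e1 = ev φ e1 * φS ⟨s, hs⟩ := by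
      rw [hφS, ev, ← map_mul, ← map_mul]
      exact congrArg φ (Subtype.ext hsc)
    obtain ⟨a, ha, e⟩ := cent_mem h (g := k⁻¹ * φS ⟨s, hs⟩ * k) (by
      calc k⁻¹ * φS ⟨s, hs⟩ * k * ev φ e0
          = k⁻¹ * (φS ⟨s, hs⟩ * (k * ev φ e0 * k⁻¹)) * k := by group
        _ = k⁻¹ * (k * ev φ e0 * k⁻¹ * φS ⟨s, hs⟩) * k := by rw [hk, hsy]
        _ = ev φ e0 * (k⁻¹ * φS ⟨s, hs⟩ * k) := by group)
    exact ⟨⟨a, ha⟩, by rw [hψ]; rw [e]; group⟩
  have hTcard : Nat.card T = 243 := by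
    rw [← Subgroup.card_map_of_injective (K := T) hψinj, hT, Subgroup.map_comap_eq,
      inf_eq_right.2 hTle, ← Nat.card_congr (MonoidHom.ofInjective hφSinj).toEquiv, card_S2']
  have hTc : ∀ t ∈ T, (t : L4) * ((⟨w, hw⟩ : C4) : L4) = ((⟨w, hw⟩ : C4) : L4) * t := by
    intro t ht
    obtain ⟨⟨s, hs⟩, e⟩ := ht
    obtain ⟨hsC, -⟩ := mem_S2'.1 hs
    have hsz : φS ⟨s, hs⟩ * ev φ e0 = ev φ e0 * φS ⟨s, hs⟩ := by
      rw [hφS, ev, ← map_mul, ← map_mul]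
      exact congrArg φ (Subtype.ext (C4_comm_z hsC))
    have e' : φ ⟨(t : L4), t.2.1⟩ = k⁻¹ * φS ⟨s, hs⟩ * k := by rw [e, hψ]; group
    refine phi_cancel h (mul_mem t.2.1 hw.1) (mul_mem hw.1 t.2.1) ?_
    rw [show (⟨(t : L4) * w, mul_mem t.2.1 hw.1⟩ : H1) = ⟨(t : L4), t.2.1⟩ * ⟨w, hw.1⟩ from rfl,
      show (⟨w * (t : L4), mul_mem hw.1 t.2.1⟩ : H1) = ⟨w, hw.1⟩ * ⟨(t : L4), t.2.1⟩ from rfl,
      map_mul, map_mul, e', hwk]
    calc k⁻¹ * φS ⟨s, hs⟩ * k * (k⁻¹ * ev φ e0 * k) = k⁻¹ * (φS ⟨s, hs⟩ * ev φ e0) * k := by group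
      _ = k⁻¹ * (ev φ e0 * φS ⟨s, hs⟩) * k := by rw [hsz]
      _ = k⁻¹ * ev φ e0 * k * (k⁻¹ * φS ⟨s, hs⟩ * k) := by group
  have hwQ : w ∈ Q4 := mem_Q4_of_centralizer (w := ⟨w, hw⟩) hTcard hTc
  have hwz : IsConj (φ ⟨z4, z4_mem⟩) (φ ⟨w, hw.1⟩) :=
    isConj_iff.2 ⟨k⁻¹, by rw [hwk, z_eq, inv_inv]⟩
  -- the conjugate is outside the centre
  have notz : ∀ c : ZMod 3, w ≠ col (c • e0) := by
    intro c e
    have e' : φ ⟨w, hw.1⟩ = ev φ (c • e0) := congrArg φ (Subtype.ext e)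
    rw [hwk] at e'
    have h1 : k * ev φ (c • e0) * k⁻¹ = ev φ (c • e1) := by
      fin_cases c
      · show k * ev φ ((0 : ZMod 3) • e0) * k⁻¹ = ev φ ((0 : ZMod 3) • e1)
        rw [zero_smul, zero_smul, ev_zero]
        group
      · show k * ev φ ((1 : ZMod 3) • e0) * k⁻¹ = ev φ ((1 : ZMod 3) • e1)
        rw [one_smul, one_smul]
        exact hk
      · have h2 : ∀ v : V3, (2 : ZMod 3) • v = v + v := fun v => two_smul _ v
        show k * ev φ ((2 : ZMod 3) • e0) * k⁻¹ = ev φ ((2 : ZMod 3) • e1)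
        rw [h2, h2, ev_add, ev_add, ← hk]
        group
    rw [← e'] at h1
    have h2 : ev φ e0 = ev φ (c • e1) := by rw [← h1]; group
    have h3 := col_inj (phi_cancel h _ _ h2)
    exact absurd (congrFun h3 0) ((by decide +kernel : ∀ c : ZMod 3, ¬ e0 0 = (c • e1) 0) c)
  rcases h.pure ⟨w, hw.1⟩ hwQ hwz with hE1 | hE2
  · exfalso
    have hu := er_of_mem hE1
    set u : V3 := ![(w : M4) 0 1, (w : M4) 0 2, (w : M4) 0 3] with hudef
    simp only at hu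
    have hmid : u 0 ≠ 0 ∨ u 1 ≠ 0 := by
      by_contra hcon
      push Not at hcon
      exact notz _ (hu.trans (er_zero_mid u hcon.1 hcon.2))
    obtain ⟨g, hg, hg1, hg2⟩ := exists_swap u hmid
    rw [← hu] at hg1 hg2
    obtain ⟨a, ha, hka⟩ := cent_mem h (g := k * φ ⟨g, hg⟩) (by
      have e1 : φ ⟨g, hg⟩ * φ ⟨z4, z4_mem⟩ = φ ⟨w, hw.1⟩ * φ ⟨g, hg⟩ := by
        rw [← map_mul, ← map_mul]
        exact congrArg φ (Subtype.ext hg2.symm)
      rw [z_eq, hwk] at e1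
      calc k * φ ⟨g, hg⟩ * ev φ e0 = k * (φ ⟨g, hg⟩ * ev φ e0) := by group
        _ = ev φ e0 * (k * φ ⟨g, hg⟩) := by rw [e1]; group)
    have e2 : φ ⟨z4, z4_mem⟩ * φ ⟨g, hg⟩ = φ ⟨g, hg⟩ * φ ⟨w, hw.1⟩ := by
      rw [← map_mul, ← map_mul]
      exact congrArg φ (Subtype.ext hg1)
    rw [z_eq] at e2
    have e3 : φ ⟨a, ha.1⟩ * φ ⟨w, hw.1⟩ * (φ ⟨a, ha.1⟩)⁻¹ = ev φ e1 := by
      rw [hka, ← hk]
      calc k * φ ⟨g, hg⟩ * φ ⟨w, hw.1⟩ * (k * φ ⟨g, hg⟩)⁻¹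
          = k * (φ ⟨g, hg⟩ * φ ⟨w, hw.1⟩) * (φ ⟨g, hg⟩)⁻¹ * k⁻¹ := by group
        _ = k * ev φ e0 * k⁻¹ := by rw [← e2]; group
    have e4 : a * w * a⁻¹ = col e1 :=
      conj_of_map φ h.inj ⟨a, ha.1⟩ ⟨w, hw.1⟩ ⟨col e1, col_mem_H1 e1⟩ e3
    exact col_e1_not_E1 (e4 ▸ E1_normal ha.1 hE1)
  · obtain ⟨v, hv⟩ := exists_col_of_mem_E2 hE2
    simp only at hv
    have hmid : v 1 ≠ 0 ∨ v 2 ≠ 0 := by
      by_contra hcon
      push Not at hcon
      refine notz (v 0) (hv.trans (congrArg col ?_))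
      funext i
      fin_cases i <;> simp [e0, hcon.1, hcon.2]
    obtain ⟨h1, h0⟩ := mvA_spec v hmid
    set a := φ ⟨emb (mvA v), (emb_mem_C4 h0).1⟩ with ha
    have haz : a * ev φ e0 * a⁻¹ = ev φ e0 :=
      phi_conj _ _ _ (by rw [conj_H2_col ⟨emb (mvA v), emb_mem_H2 _⟩, blk_emb, h0])
    have hay : a * ev φ e1 * a⁻¹ = ev φ v :=
      phi_conj _ _ _ (by rw [conj_H2_col ⟨emb (mvA v), emb_mem_H2 _⟩, blk_emb, h1])
    have hwv : ev φ v = k⁻¹ * ev φ e0 * k := by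
      rw [← hwk]
      exact congrArg φ (Subtype.ext hv.symm)
    refine ⟨k * a, ?_, ?_⟩
    · calc k * a * ev φ e0 * (k * a)⁻¹ = k * (a * ev φ e0 * a⁻¹) * k⁻¹ := by group
        _ = ev φ e1 := by rw [haz, hk]
    · calc k * a * ev φ e1 * (k * a)⁻¹ = k * (a * ev φ e1 * a⁻¹) * k⁻¹ := by group
        _ = ev φ e0 := by rw [hay, hwv]; group

end Cfsg.Agent.L43Three45.Second
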