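import Cfsg.Agent.Lib.L43Second52Move

/-!
The exchanging element normalises the second abelian subgroup (S3373).
-/

set_option autoImplicit false

namespace Cfsg.Agent.L43Three45.Second

open Matrix

theorem S2_col (v : V3) : col v ∈ S2' :=
  mem_S2'.2 ⟨col_mem_C4 v, by rw [← col_add, ← col_add, add_comm]⟩

theorem p3_col : ∀ v : V3, p3 (col v) = ![0, 0, v 2] := by decide +kernel

/-- `X02`. -/
def gA : L4 := emb (T3 0 2 (by decide) 1)
/-- `X12`. -/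
def gB : L4 := emb (T3 1 2 (by decide) 1)

theorem gA_mem : gA ∈ S2' :=
  mem_S2'.2 ⟨emb_mem_C4 (by decide +kernel), by decide +kernel⟩

theorem gB_mem : gB ∈ S2' :=
  mem_S2'.2 ⟨emb_mem_C4 (by decide +kernel), by decide +kernel⟩

theorem p3_gA : p3 gA = e0 := by decide +kernel
theorem p3_gB : p3 gB = e1 := by decide +kernel

theorem col_smul (c : ZMod 3) (v : V3) : col (c • v) = col v ^ c.val := by
  fin_cases c
  · show col ((0 : ZMod 3) • v) = col v ^ 0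
    rw [zero_smul, col_zero, pow_zero]
  · show col ((1 : ZMod 3) • v) = col v ^ 1
    rw [one_smul, pow_one]
  · show col ((2 : ZMod 3) • v) = col v ^ 2
    rw [two_smul (ZMod 3) v, col_add, pow_two]

theorem nsmul_val (c : ZMod 3) (v : V3) : c.val • v = c • v := by
  conv_rhs => rw [← ZMod.natCast_zmod_val c, Nat.cast_smul_eq_nsmul]

variable {G : Type*} [Group G] {φ : H1 →* G}

/-- `φ` on the centraliser of the pair. -/
def phS (φ : H1 →* G) : S2' →* G := φ.comp (Subgroup.inclusion fun _ hg => S2'_le_H1 hg)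

theorem phS_apply (g : S2') : phS φ g = φ ⟨g.1, S2'_le_H1 g.2⟩ := rfl

theorem phS_inj (h : One φ) : Function.Injective (phS φ) := fun a b e =>
  Subtype.ext (phi_cancel h _ _ e)

theorem phS_col (v : V3) : phS φ ⟨col v, S2_col v⟩ = ev φ v := rfl

theorem mem_phS (h : One φ) {g : G} (h0 : g * ev φ e0 = ev φ e0 * g)
    (h1 : g * ev φ e1 = ev φ e1 * g) : g ∈ (phS φ).range := by
  obtain ⟨a, ha, rfl⟩ := cent_mem h h0
  have : a * col e1 = col e1 * a := by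
    rw [ev, ← map_mul, ← map_mul] at h1
    exact congrArg Subtype.val (h.inj h1)
  exact ⟨⟨a, mem_S2'.2 ⟨ha, this⟩⟩, rfl⟩

theorem phS_comm0 (s : S2') : phS φ s * ev φ e0 = ev φ e0 * phS φ s := by
  rw [← phS_col, ← map_mul, ← map_mul]
  exact congrArg _ (Subtype.ext (C4_comm_z (mem_S2'.1 s.2).1))

theorem phS_comm1 (s : S2') : phS φ s * ev φ e1 = ev φ e1 * phS φ s := by
  rw [← phS_col, ← map_mul, ← map_mul]
  exact congrArg _ (Subtype.ext (mem_S2'.1 s.2).2)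

theorem comm_conj {x s a b k : G} (hk : k * a * k⁻¹ = b) (hs : s * a = a * s)
    (hx : x = k * s * k⁻¹) : x * b = b * x := by
  subst hx hk
  calc k * s * k⁻¹ * (k * a * k⁻¹) = k * (s * a) * k⁻¹ := by group
    _ = k * (a * s) * k⁻¹ := by rw [hs]
    _ = k * a * k⁻¹ * (k * s * k⁻¹) := by group

/-- The exchanging element normalises the image of `E2`. -/
theorem flip_normalizes (h : One φ) {k : G} (hz : k * ev φ e0 * k⁻¹ = ev φ e1)
    (hy : k * ev φ e1 * k⁻¹ = ev φ e0) : ∀ v, ∃ w, k * ev φ v * k⁻¹ = ev φ w := by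
  have hθ : ∀ s : S2', ∃ t : S2', phS φ t = k * phS φ s * k⁻¹ := fun s =>
    mem_phS h (comm_conj hy (phS_comm1 s) rfl) (comm_conj hz (phS_comm0 s) rfl)
  choose θ hθ using hθ
  have θmul : ∀ a b, θ (a * b) = θ a * θ b := fun a b => phS_inj h (by
    rw [map_mul, hθ, hθ, hθ, map_mul]
    group)
  let Θ : S2' →* S2' := MonoidHom.mk' θ θmul
  have hΘ : ∀ s, phS φ (Θ s) = k * phS φ s * k⁻¹ := hθ
  have Θ0 : Θ ⟨col e0, S2_col e0⟩ = ⟨col e1, S2_col e1⟩ := phS_inj h (by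
    rw [hΘ, phS_col, phS_col, hz])
  have Θ1 : Θ ⟨col e1, S2_col e1⟩ = ⟨col e0, S2_col e0⟩ := phS_inj h (by
    rw [hΘ, phS_col, phS_col, hy])
  -- linear form of the automorphism
  have p3m : ∀ a b : S2', p3 (a * b).1 = p3 a.1 + p3 b.1 := fun a b => p3_mul a.2 b.2
  have p31 : p3 ((1 : S2') : L4) = 0 := by decide +kernel
  have p3i : ∀ a : S2', p3 (a⁻¹).1 = -p3 a.1 := fun a =>
    eq_neg_of_add_eq_zero_left (by rw [← p3m, inv_mul_cancel, p31])
  set A : S2' := ⟨gA, gA_mem⟩ with hA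
  set B : S2' := ⟨gB, gB_mem⟩ with hB
  set C : S2' := ⟨col e2, S2_col e2⟩ with hC
  set p := p3 (Θ A).1 with hp
  set q := p3 (Θ B).1 with hq
  set r := p3 (Θ C).1 with hr
  have hpow' : ∀ (s : S2') (n : ℕ), p3 (s ^ n : S2').1 = n • p3 s.1 := by
    intro s n
    induction n with
    | zero => rw [pow_zero, p31, zero_smul]
    | succ n ih => rw [pow_succ, p3m, ih, succ_nsmul]
  have hpow : ∀ (s : S2') (n : ℕ), p3 ((Θ (s ^ n)).1) = n • p3 (Θ s).1 := fun s n => by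
    rw [map_pow, hpow']
  have hlin : ∀ s : S2', p3 (Θ s).1 = lin p q r (p3 s.1) := by
    intro s
    set u := A ^ (p3 s.1 0).val * B ^ (p3 s.1 1).val * C ^ (p3 s.1 2).val with hu
    have hu3 : p3 u.1 = p3 s.1 := by
      rw [hu, p3m, p3m, hpow', hpow', hpow', nsmul_val, nsmul_val, nsmul_val, hA, hB, hC, p3_gA,
        p3_gB, p3_col]
      funext i
      fin_cases i <;> simp [e0, e1, e2]
    have hd : p3 (u⁻¹ * s).1 = 0 := by
      rw [p3m, p3i, hu3, neg_add_cancel]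
    have hmem := mem_E2_of_p3 (u⁻¹ * s).2 (by rw [hd]; rfl) (by rw [hd]; rfl)
    obtain ⟨v, hv⟩ := exists_col_of_mem_E2 hmem
    have hv2 : v 2 = 0 := by
      have := congrFun (hv ▸ hd) 2
      rw [p3_col] at this
      simpa using this
    have hsplit : u⁻¹ * s =
        (⟨col e0, S2_col e0⟩ : S2') ^ (v 0).val * (⟨col e1, S2_col e1⟩ : S2') ^ (v 1).val := by
      apply Subtype.ext
      rw [hv]
      simp only [Subgroup.coe_mul, SubmonoidClass.coe_pow]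
      rw [← col_smul, ← col_smul, ← col_add]
      congr 1
      funext i
      fin_cases i <;> simp [e0, e1, hv2]
    have hs : p3 (Θ s).1 = p3 (Θ u).1 + p3 (Θ ((⟨col e0, S2_col e0⟩ : S2') ^ (v 0).val *
        (⟨col e1, S2_col e1⟩ : S2') ^ (v 1).val)).1 := by
      rw [← p3m, ← map_mul, ← hsplit, mul_inv_cancel_left]
    have hsu : p3 (Θ u).1 = p3 s.1 0 • p + p3 s.1 1 • q + p3 s.1 2 • r := by
      rw [hu, map_mul, map_mul, p3m, p3m, hpow, hpow, hpow, nsmul_val, nsmul_val, nsmul_val]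
    rw [hs, hsu, map_mul, p3m, hpow, hpow, Θ0, Θ1, p3_col, p3_col, nsmul_val, nsmul_val]
    funext i
    fin_cases i <;> simp [lin, e0, e1, p, q, r]
  -- the commutator relations
  have hcomm : ∀ a b : S2', ∀ v w : V3, bet (p3 a.1) (p3 b.1) = v →
      Θ ⟨col v, S2_col v⟩ = ⟨col w, S2_col w⟩ → bet (p3 (Θ a).1) (p3 (Θ b).1) = w := by
    intro a b v w hv hw
    have h1 : a * b = ⟨col v, S2_col v⟩ * (b * a) :=
      Subtype.ext (by simpa [hv] using comm_eq a.2 b.2)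
    have h2 := congrArg Θ h1
    rw [map_mul, map_mul, map_mul, hw] at h2
    have h3 := congrArg Subtype.val h2
    simp only [Subgroup.coe_mul] at h3
    rw [comm_eq (Θ a).2 (Θ b).2, mul_left_inj] at h3
    exact col_inj h3
  have hpq : bet p q = 0 := hcomm A B 0 0 (by
    rw [hA, hB, p3_gA, p3_gB]; decide +kernel) (by
      have : (⟨col 0, S2_col 0⟩ : S2') = 1 := Subtype.ext col_zero
      rw [this, map_one])
  have hpr : bet p r = e1 := hcomm A C e0 e1 (by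
    rw [hA, hC, p3_gA, p3_col]; decide +kernel) Θ0
  have hqr : bet q r = e0 := hcomm B C e1 e0 (by
    rw [hB, hC, p3_gB, p3_col]; decide +kernel) Θ1
  -- a product fixing the pair acts trivially on the coordinates
  have hj4 : (emb J3 : L4) = j4 := j4_eq.symm
  have hjmem : j4 ∈ H1 := hj4 ▸ (emb_mem_C4 J3_e0).1
  set ρ := φ ⟨r1, r1_mem⟩ with hρ
  set J' := φ ⟨j4, hjmem⟩ with hJ'
  have hJ0 : J' * ev φ e0 * J'⁻¹ = ev φ e0 := phi_conj _ _ _ (by
    rw [j4_eq, conj_H2_col ⟨emb J3, emb_mem_H2 _⟩, blk_emb, J3_e0])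
  have hJ1 : J' * ev φ e1 * J'⁻¹ = ev φ (-e1) := phi_conj _ _ _ (by
    rw [j4_eq, conj_H2_col ⟨emb J3, emb_mem_H2 _⟩, blk_emb, J3_e1])
  have hR0 : ρ * ev φ (-e0) * ρ⁻¹ = ev φ e0 := phi_conj _ _ _ (by
    rw [r1_col, Matrix.mulVec_neg, R3_e0, neg_neg])
  have hR1 : ρ * ev φ (-e1) * ρ⁻¹ = ev φ e1 := phi_conj _ _ _ (by
    rw [r1_col, Matrix.mulVec_neg, R3_e1, neg_neg])
  have evneg : ∀ v, ev φ (-v) = (ev φ v)⁻¹ := fun v =>
    eq_inv_of_mul_eq_one_left (by rw [← ev_add, neg_add_cancel, ev_zero])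
  have hky' : k * ev φ (-e1) * k⁻¹ = ev φ (-e0) := by rw [evneg, evneg, ← hy]; group
  have hJz' : J' * ev φ (-e0) * J'⁻¹ = ev φ (-e0) := by
    calc J' * ev φ (-e0) * J'⁻¹ = (J' * ev φ e0 * J'⁻¹)⁻¹ := by rw [evneg]; group
      _ = ev φ (-e0) := by rw [hJ0, evneg]
  set g := ρ * J' * k * J' * k with hg
  have hg0 : g * ev φ e0 * g⁻¹ = ev φ e0 := by
    calc g * ev φ e0 * g⁻¹
        = ρ * (J' * (k * (J' * (k * ev φ e0 * k⁻¹) * J'⁻¹) * k⁻¹) * J'⁻¹) * ρ⁻¹ := by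
          rw [hg]; group
      _ = ev φ e0 := by rw [hz, hJ1, hky', hJz', hR0]
  have hg1 : g * ev φ e1 * g⁻¹ = ev φ e1 := by
    calc g * ev φ e1 * g⁻¹
        = ρ * (J' * (k * (J' * (k * ev φ e1 * k⁻¹) * J'⁻¹) * k⁻¹) * J'⁻¹) * ρ⁻¹ := by
          rw [hg]; group
      _ = ev φ e1 := by rw [hy, hJ0, hz, hJ1, hR1]
  obtain ⟨σ, hσ⟩ := mem_phS h (g := g) (mul_inv_eq_iff_eq_mul.1 hg0) (mul_inv_eq_iff_eq_mul.1 hg1)
  let jc : S2' → S2' := fun s => ⟨j4 * s.1 * j4⁻¹, jconj_mem s.2⟩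
  let rc : S2' → S2' := fun s => ⟨r1 * s.1 * r1⁻¹, rconj_mem s.2⟩
  have hjc : ∀ s, phS φ (jc s) = J' * phS φ s * J'⁻¹ := fun s =>
    (phi_conj hjmem (S2'_le_H1 s.2) (S2'_le_H1 (jc s).2) rfl).symm
  have hrc : ∀ s, phS φ (rc s) = ρ * phS φ s * ρ⁻¹ := fun s =>
    (phi_conj r1_mem (S2'_le_H1 s.2) (S2'_le_H1 (rc s).2) rfl).symm
  have hbig : rc (jc (Θ (jc (Θ C)))) = σ * C * σ⁻¹ := phS_inj h (by
    rw [hrc, hjc, hΘ, hjc, hΘ, map_mul, map_mul, map_inv, hσ, hg]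
    group)
  have hfix : sR (sJ (lin p q r (sJ (lin p q r e2)))) = e2 := by
    have h1 := congrArg (fun s : S2' => p3 s.1) hbig
    have e2' : p3 C.1 = e2 := by rw [hC, p3_col]; decide +kernel
    change p3 (r1 * (j4 * (Θ (jc (Θ C))).1 * j4⁻¹) * r1⁻¹) = p3 (σ * C * σ⁻¹).1 at h1
    rw [p3_rconj (jconj_mem (Θ _).2), p3_jconj (Θ _).2, hlin] at h1
    change sR (sJ (lin p q r (p3 (j4 * (Θ C).1 * j4⁻¹)))) = _ at h1
    rw [p3_jconj (Θ _).2, hlin, e2'] at h1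
    rw [h1, p3m, p3m, p3i, e2', add_neg_cancel_comm]
  obtain ⟨hr0, hr1⟩ := flip_fixed p q hpq r hpr hqr hfix
  obtain ⟨w2, hw2⟩ := exists_col_of_mem_E2 (mem_E2_of_p3 (Θ C).2 hr0 hr1)
  have hC2 : k * ev φ e2 * k⁻¹ = ev φ w2 := by
    rw [← phS_col, ← hC, ← hΘ, ← phS_col]
    exact congrArg _ (Subtype.ext hw2)
  have hpw : ∀ (c : ZMod 3) (a b : V3), k * ev φ a * k⁻¹ = ev φ b →
      k * ev φ (c • a) * k⁻¹ = ev φ (c • b) := by
    intro c a b hab
    fin_cases c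
    · show k * ev φ ((0 : ZMod 3) • a) * k⁻¹ = ev φ ((0 : ZMod 3) • b)
      rw [zero_smul, zero_smul, ev_zero]
      group
    · show k * ev φ ((1 : ZMod 3) • a) * k⁻¹ = ev φ ((1 : ZMod 3) • b)
      rw [one_smul, one_smul]
      exact hab
    · show k * ev φ ((2 : ZMod 3) • a) * k⁻¹ = ev φ ((2 : ZMod 3) • b)
      rw [two_smul, two_smul, ev_add, ev_add, ← hab]
      group
  intro v
  refine ⟨v 0 • e1 + v 1 • e0 + v 2 • w2, ?_⟩
  have hv : v = v 0 • e0 + v 1 • e1 + v 2 • e2 := by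
    funext i; fin_cases i <;> simp [e0, e1, e2]
  conv_lhs => rw [hv]
  rw [ev_add, ev_add, ev_add, ev_add, ← hpw (v 0) _ _ hz, ← hpw (v 1) _ _ hy, ← hpw (v 2) _ _ hC2]
  group

end Cfsg.Agent.L43Three45.Second
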