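import Cfsg.Agent.Lib.L43Second52Coord
import Cfsg.Agent.Lib.CoprimeGaschutz

/-!
The normaliser of the second abelian subgroup splits, compatibly with the torus (S3373).
-/

set_option autoImplicit false

namespace Cfsg.Agent.L43Three45.Second

open Matrix

/-- Upper unitriangular matrices. -/
def uM (p : ZMod 3 × ZMod 3 × ZMod 3) : S3' :=
  ⟨!![1, p.1, p.2.1; 0, 1, p.2.2; 0, 0, 1], by revert p; decide +kernel⟩

theorem uM_mul (p q : ZMod 3 × ZMod 3 × ZMod 3) :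
    uM p * uM q = uM (p.1 + q.1, p.2.1 + q.2.1 + p.1 * q.2.2, p.2.2 + q.2.2) := by
  apply Subtype.ext
  rw [Matrix.SpecialLinearGroup.coe_mul]
  ext i j
  fin_cases i <;> fin_cases j <;>
    simp [uM, Matrix.mul_apply, Fin.sum_univ_three] <;> ring

theorem uM_zero : uM (0, 0, 0) = 1 := by decide +kernel

theorem uM_inj : ∀ p q, uM p = uM q → p = q := by
  intro p q e
  have h := congrArg (fun A : S3' => (A : M3)) e
  have a := congrFun (congrFun h 0) 1
  have b := congrFun (congrFun h 0) 2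
  have c := congrFun (congrFun h 1) 2
  simp [uM] at a b c
  exact Prod.ext a (Prod.ext b c)

theorem uM_e0 : ∀ p, (uM p : M3).mulVec e0 = e0 := by decide +kernel

/-- The unitriangular subgroup. -/
def UT : Subgroup S3' where
  carrier := Set.range uM
  one_mem' := ⟨_, uM_zero⟩
  mul_mem' := by
    rintro _ _ ⟨p, rfl⟩ ⟨q, rfl⟩
    exact ⟨_, (uM_mul p q).symm⟩
  inv_mem' := by
    rintro _ ⟨p, rfl⟩
    refine ⟨(-p.1, p.1 * p.2.2 - p.2.1, -p.2.2), eq_inv_of_mul_eq_one_left ?_⟩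
    rw [uM_mul, ← uM_zero]
    congr 1
    refine Prod.ext ?_ (Prod.ext ?_ ?_) <;> simp

theorem card_V3 : Nat.card V3 = 27 := by rw [Nat.card_eq_fintype_card]; decide +kernel

theorem UT_e0 {A : S3'} (hA : A ∈ UT) : (A : M3).mulVec e0 = e0 := by
  obtain ⟨p, rfl⟩ := hA
  exact uM_e0 p

variable {G : Type*} [Group G] {φ : H1 →* G}

theorem ev_mem_NN (h : One φ) (v : V3) : ev φ v ∈ NN φ := C4_mem_NN h (col_mem_C4 v)

theorem proj_ev (h : One φ) (hn : ¬ Isolated φ) (v : V3) :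
    proj h hn ⟨ev φ v, ev_mem_NN h v⟩ = 1 :=
  Subtype.ext ((mat_C4 h (col_mem_C4 v)).trans (congrArg Subtype.val (blk_col v)))

/-- An element centralising the image of `E2` lies in it. -/
theorem ker_ev (h : One φ) {g : G} (hg : ∀ v, g * ev φ v * g⁻¹ = ev φ v) :
    ∃ v, g = ev φ v :=
  mat_eq_one h (n := ⟨g, mem_NN_of_forall h fun v => ⟨v, hg v⟩⟩)
    (mat_eq h fun v => by rw [Matrix.one_mulVec]; exact hg v)

variable [Finite G]

theorem exists_section (h : One φ) (hn : ¬ Isolated φ) :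
    ∃ σ : S3' →* G, ∀ (A : S3') (v : V3),
      σ A * ev φ v * (σ A)⁻¹ = ev φ ((A : M3).mulVec v) := by
  set π := proj h hn with hπ
  let aN : UT →* NN φ :=
    { toFun := fun a => ⟨φ ⟨emb a.1, (emb_mem_C4 (UT_e0 a.2)).1⟩,
        C4_mem_NN h (emb_mem_C4 (UT_e0 a.2))⟩
      map_one' := Subtype.ext ((congrArg φ (Subtype.ext (map_one emb))).trans (map_one φ))
      map_mul' := fun a b => Subtype.ext ((congrArg φ (Subtype.ext (map_mul emb a.1 b.1))).trans
        (map_mul φ ⟨emb a.1, (emb_mem_C4 (UT_e0 a.2)).1⟩ ⟨emb b.1, (emb_mem_C4 (UT_e0 b.2)).1⟩)) }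
  have haN : ∀ a : UT, π (aN a) = a.1 := fun a =>
    Subtype.ext ((mat_C4 h (emb_mem_C4 (UT_e0 a.2))).trans (congrArg Subtype.val (blk_emb a.1)))
  set K := π.ker with hK
  have hKev : ∀ n : NN φ, n ∈ K → ∃ v, (n : G) = ev φ v := fun n hn' =>
    mat_eq_one h (congrArg Subtype.val hn')
  have hKc : IsMulCommutative K := ⟨⟨fun x y => by
    obtain ⟨v, hv⟩ := hKev _ x.2
    obtain ⟨w, hw⟩ := hKev _ y.2
    refine Subtype.ext (Subtype.ext ?_)
    show (x.1 : G) * y.1 = (y.1 : G) * x.1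
    rw [hv, hw, ← ev_add, ← ev_add, add_comm]⟩⟩
  set U := UT.comap π with hU
  have hKU : K ≤ U := fun n hn' => by
    show π n ∈ UT
    rw [show π n = 1 from hn']
    exact one_mem _
  have hAU : aN.range ≤ U := by
    rintro _ ⟨a, rfl⟩
    show π (aN a) ∈ UT
    rw [haN]
    exact a.2
  have hAK : aN.range ⊓ K = ⊥ := by
    refine eq_bot_iff.2 ?_
    rintro _ ⟨⟨a, rfl⟩, ha⟩
    have ha1 : a = 1 := Subtype.ext (by rw [← haN a]; exact ha)
    simp [ha1]
  -- decomposition of the preimage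
  have hdec : ∀ u ∈ U, ∃ k ∈ K, ∃ a : UT, u = k * aN a := by
    intro u hu
    refine ⟨u * (aN ⟨π u, hu⟩)⁻¹, ?_, ⟨π u, hu⟩, by group⟩
    show π _ = 1
    rw [map_mul, map_inv, haN, mul_inv_cancel]
  have hKA : K ⊔ aN.range = U := by
    refine le_antisymm (sup_le hKU hAU) fun u hu => ?_
    obtain ⟨k, hk, a, rfl⟩ := hdec u hu
    exact mul_mem (Subgroup.mem_sup_left hk) (Subgroup.mem_sup_right ⟨a, rfl⟩)
  have hKcard : Nat.card K = 27 := by
    rw [← card_V3, ← Nat.card_eq_of_bijective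
      (fun v => (⟨⟨ev φ v, ev_mem_NN h v⟩, proj_ev h hn v⟩ : K))]
    refine ⟨fun v w e => ev_inj h (congrArg (fun x : K => (x.1 : G)) e), fun x => ?_⟩
    obtain ⟨v, hv⟩ := hKev _ x.2
    exact ⟨v, Subtype.ext (Subtype.ext hv.symm)⟩
  have hUTcard : Nat.card UT = 27 := by
    rw [← Nat.card_eq_of_bijective (fun p => (⟨uM p, p, rfl⟩ : UT))
      ⟨fun p q e => uM_inj p q (congrArg Subtype.val e), fun ⟨_, p, hp⟩ => ⟨p, Subtype.ext hp⟩⟩,
      Nat.card_prod, Nat.card_prod, Nat.card_zmod]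
  have hUcard : Nat.card U = 729 := by
    rw [← Nat.card_eq_of_bijective
      (fun x : K × UT => (⟨x.1.1 * aN x.2, mul_mem (hKU x.1.2) (hAU ⟨x.2, rfl⟩)⟩ : U)),
      Nat.card_prod, hKcard, hUTcard]
    refine ⟨fun x y e => ?_, fun u => ?_⟩
    · have e1 : x.1.1 * aN x.2 = y.1.1 * aN y.2 := congrArg Subtype.val e
      have e2 := congrArg π e1
      rw [map_mul, map_mul, show π x.1.1 = 1 from x.1.2, show π y.1.1 = 1 from y.1.2, one_mul,
        one_mul, haN, haN] at e2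
      have e3 : x.2 = y.2 := Subtype.ext e2
      rw [e3, mul_left_inj] at e1
      exact Prod.ext (Subtype.ext e1) e3
    · obtain ⟨k, hk, a, ha⟩ := hdec u.1 u.2
      exact ⟨(⟨k, hk⟩, a), Subtype.ext ha.symm⟩
  have hcop : (Nat.card K).Coprime U.index := by
    rw [hKcard, show (27 : ℕ) = 3 ^ 3 from rfl, Nat.coprime_pow_left_iff (by norm_num),
      Nat.prime_three.coprime_iff_not_dvd]
    intro hd
    refine h.not_dvd (dvd_trans ?_ (Subgroup.card_subgroup_dvd_card (NN φ)))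
    rw [← U.card_mul_index, hUcard]
    exact Nat.mul_dvd_mul (dvd_refl 729) hd
  obtain ⟨Hc, hHc⟩ := CoprimeGaschutz.exists_complement hKU hcop aN.range hAU hAK hKA
  have hbij : Function.Bijective (π.comp Hc.subtype) := by
    refine ⟨fun x y e => ?_, fun A => ?_⟩
    · have e' : π x.1 = π y.1 := e
      have h1 : x.1 * y.1⁻¹ ∈ K := by
        show π _ = 1
        rw [map_mul, map_inv, e', mul_inv_cancel]
      have h2 : x.1 * y.1⁻¹ ∈ Hc := mul_mem x.2 (inv_mem y.2)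
      exact Subtype.ext (mul_inv_eq_one.1 (Subgroup.disjoint_def.1 hHc.disjoint h1 h2))
    · obtain ⟨n, rfl⟩ := proj_surj h hn A
      obtain ⟨⟨k, x⟩, hkx⟩ := hHc.2 n
      exact ⟨x, by
        show π x.1 = π n
        rw [← hkx, map_mul, show π k.1 = 1 from k.2, one_mul]⟩
  let e := MulEquiv.ofBijective _ hbij
  refine ⟨((NN φ).subtype.comp Hc.subtype).comp e.symm.toMonoidHom, fun A v => ?_⟩
  have h1 : π ((e.symm A : Hc) : NN φ) = A := e.apply_symm_apply A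
  have h2 := proj_spec h hn ((e.symm A : Hc) : NN φ) v
  rw [← hπ, h1] at h2
  exact h2

theorem torus_adjust : ∀ c0 c1 : V3, c0 + (J3 : M3).mulVec c0 = 0 →
    c1 + (R3 : M3).mulVec c1 = 0 →
    c0 + (J3 : M3).mulVec c1 = c1 + (R3 : M3).mulVec c0 →
    (![-c1 0, -c0 1, -c0 2] - (J3 : M3).mulVec ![-c1 0, -c0 1, -c0 2] = c0 ∧
      ![-c1 0, -c0 1, -c0 2] - (R3 : M3).mulVec ![-c1 0, -c0 1, -c0 2] = c1) := by
  decide +kernel

/-- A complement containing the torus. -/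
theorem exists_section' (h : One φ) (hn : ¬ Isolated φ) :
    ∃ σ : S3' →* G, (∀ (A : S3') (v : V3),
      σ A * ev φ v * (σ A)⁻¹ = ev φ ((A : M3).mulVec v)) ∧
      σ J3 = φ ⟨emb J3, (emb_mem_C4 J3_e0).1⟩ ∧ σ R3 = φ ⟨r1, r1_mem⟩ := by
  obtain ⟨σ, hσ⟩ := exists_section h hn
  set a0 := φ ⟨emb J3, (emb_mem_C4 J3_e0).1⟩ with ha0
  set a1 := φ ⟨r1, r1_mem⟩ with ha1
  have hJ : ∀ v, a0 * ev φ v * a0⁻¹ = ev φ ((J3 : M3).mulVec v) := fun v => by
    rw [ha0, C4_conj (emb J3) (emb_mem_C4 J3_e0) v, blk_emb]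
  have hR : ∀ v, a1 * ev φ v * a1⁻¹ = ev φ ((R3 : M3).mulVec v) := r1_ev
  have hker : ∀ (g : G) (A : S3'), (∀ v, g * ev φ v * g⁻¹ = ev φ ((A : M3).mulVec v)) →
      ∃ c, g = ev φ c * σ A := by
    intro g A hg
    obtain ⟨c, hc⟩ := ker_ev h (g := g * (σ A)⁻¹) (fun v => by
      have h1 := hσ A⁻¹ v
      rw [map_inv, inv_inv] at h1
      calc g * (σ A)⁻¹ * ev φ v * (g * (σ A)⁻¹)⁻¹ = g * ((σ A)⁻¹ * ev φ v * σ A) * g⁻¹ := by group
        _ = ev φ v := by
          rw [h1, hg, Matrix.mulVec_mulVec, ← Matrix.SpecialLinearGroup.coe_mul, mul_inv_cancel,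
            Matrix.SpecialLinearGroup.coe_one, Matrix.one_mulVec])
    exact ⟨c, by rw [← hc]; group⟩
  obtain ⟨c0, h0⟩ := hker a0 J3 hJ
  obtain ⟨c1, h1⟩ := hker a1 R3 hR
  have hmul : ∀ (c d : V3) (A B : S3'),
      ev φ c * σ A * (ev φ d * σ B) = ev φ (c + (A : M3).mulVec d) * σ (A * B) := by
    intro c d A B
    rw [ev_add, ← hσ, map_mul]
    group
  have hJ2 : c0 + (J3 : M3).mulVec c0 = 0 := by
    refine ev_inj h ?_
    have e1 : a0 * a0 = 1 := by
      rw [ha0, ← map_mul, ← map_one φ]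
      exact congrArg φ (Subtype.ext (by decide +kernel))
    rw [h0, hmul, show J3 * J3 = 1 by decide +kernel, map_one, mul_one] at e1
    rw [e1, ev_zero]
  have hR2 : c1 + (R3 : M3).mulVec c1 = 0 := by
    refine ev_inj h ?_
    have e1 : a1 * a1 = 1 := by
      rw [ha1, ← map_mul, ← map_one φ]
      exact congrArg φ (Subtype.ext (by decide +kernel))
    rw [h1, hmul, show R3 * R3 = 1 by decide +kernel, map_one, mul_one] at e1
    rw [e1, ev_zero]
  have hJR : c0 + (J3 : M3).mulVec c1 = c1 + (R3 : M3).mulVec c0 := by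
    refine ev_inj h ?_
    have e1 : a0 * a1 = a1 * a0 := by
      rw [ha0, ha1, ← map_mul, ← map_mul]
      exact congrArg φ (Subtype.ext (by decide +kernel))
    rw [h0, h1, hmul, hmul, show J3 * R3 = R3 * J3 by decide +kernel] at e1
    exact mul_right_cancel e1
  obtain ⟨hv0, hv1⟩ := torus_adjust c0 c1 hJ2 hR2 hJR
  set v : V3 := ![-c1 0, -c0 1, -c0 2] with hv
  have hform : ∀ A, ev φ v * σ A * (ev φ v)⁻¹ = ev φ (v - (A : M3).mulVec v) * σ A := by
    intro A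
    rw [ev_sub, ← hσ]
    group
  refine ⟨(MulAut.conj (ev φ v)).toMonoidHom.comp σ, fun A w => ?_, ?_, ?_⟩
  · show ev φ v * σ A * (ev φ v)⁻¹ * ev φ w * (ev φ v * σ A * (ev φ v)⁻¹)⁻¹ = _
    have hc : (ev φ v)⁻¹ * ev φ w * ev φ v = ev φ w := by
      rw [mul_assoc, ← ev_add, add_comm, ev_add]
      group
    calc ev φ v * σ A * (ev φ v)⁻¹ * ev φ w * (ev φ v * σ A * (ev φ v)⁻¹)⁻¹
        = ev φ v * (σ A * ((ev φ v)⁻¹ * ev φ w * ev φ v) * (σ A)⁻¹) * (ev φ v)⁻¹ := by group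
      _ = _ := by
        rw [hc, hσ, ← ev_add, add_comm, ev_add]
        group
  · show ev φ v * σ J3 * (ev φ v)⁻¹ = a0
    rw [hform, hv0, ← h0]
  · show ev φ v * σ R3 * (ev φ v)⁻¹ = a1
    rw [hform, hv1, ← h1]

end Cfsg.Agent.L43Three45.Second
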