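import Cfsg.Agent.Lib.OrthUnitarySix
import Cfsg.Agent.Lib.OrthUnitarySmallIso
import Cfsg.Agent.Lib.OrthUnitaryPrelude
import Cfsg.Agent.Lib.AutPSU52Api
import Cfsg.Agent.Lib.AutOrth45Forms

/-!
# `O₆⁻(2)` is the automorphism group of `PSU₄(2)`
-/

set_option autoImplicit false
set_option linter.unusedSectionVars false

namespace Cfsg.Agent.OrthMinusSixTwoAut48

open QuadraticMap
open Cfsg.Agent.OrthUnitaryQuad Cfsg.Agent.OrthUnitaryStd
open Cfsg.Agent.OrthUnitaryPrelude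

variable {F : Type} [Field F] [Fintype F]

theorem card_PSU_four (hF : Fintype.card F = 4) : Nat.card (Cfsg.PSU 4 F 2) = 25920 := by
  have h := OrthUnitaryHerm.card_PSU_mul (n := 4) (q := 2)
    (show Fintype.card F = 2 ^ 2 by rw [hF]; rfl) (by norm_num)
  rw [OrthUnitaryHerm.card_GU (show Fintype.card F = 2 ^ 2 by rw [hF]; rfl)] at h
  norm_num [Finset.prod_range_succ, Nat.even_iff] at h
  omega

theorem card_mulAut_four (hF : Fintype.card F = 4) :
    Nat.card (MulAut (Cfsg.PSU 4 F 2)) = 51840 := by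
  haveI : Fact (Nat.Prime 2) := ⟨Nat.prime_two⟩
  rw [AutPSU52Api.card_mulAut (p := 2) (f := 1) (by norm_num) le_rfl
    (show Fintype.card F = 2 ^ 2 by rw [hF]; rfl) (by norm_num) (by norm_num), card_PSU_four hF]
  rfl

theorem nonempty_equiv (hF : Fintype.card F = 4) :
    Nonempty (Cfsg.isometryGroup (ZMod 2) (Cfsg.quadFormMinus 2 (ZMod 2) 1 1) ≃*
      MulAut (Cfsg.PSU 4 F 2)) := by
  have hab : ∀ z₁ z₂ : ZMod 2, z₁ ^ 2 + 1 * z₁ * z₂ + 1 * z₂ ^ 2 = 0 → z₁ = 0 ∧ z₂ = 0 := by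
    decide
  obtain ⟨e⟩ := Cfsg.Agent.OrthUnitarySix.nonempty_six (F := ZMod 2) (K := F) (q := 2)
    (ZMod.card 2) (by rw [hF]; rfl) (a := 1) (b := 1) hab
  set Q := QuadClassify.qMinus 2 (ZMod 2) (1 : ZMod 2) 1 with hQ
  have hf : ∀ v, Cfsg.quadFormMinus 2 (ZMod 2) 1 1 v = Q v := fun v => by
    rw [hQ]; exact (congrFun (QuadClassify.qMinus_coe (F := ZMod 2) 2 1 1) v).symm
  set O := Cfsg.isometryGroup (ZMod 2) (Cfsg.quadFormMinus 2 (ZMod 2) 1 1)
  let eO : O ≃* orth Q := isometryGroupEquiv Q _ hf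
  haveI := finite_orth Q
  set Ω := Cfsg.Omega (ZMod 2) (Cfsg.quadFormMinus 2 (ZMod 2) 1 1)
  have hnd : (polarBilin Q).Nondegenerate := AutOrth45Forms.nondegenerate_qMinus hab 2
  have hcent : ∀ g : O, (∀ k ∈ Ω, g * k = k * g) → g = 1 := by
    intro g hg
    let v : (Fin 2 ⊕ Fin 2) ⊕ Fin 2 → ZMod 2 := Pi.single (Sum.inl (Sum.inl 0)) 1
    have hv : Q v = 0 := by rw [← hf]; decide
    have hv0 : v ≠ 0 := by
      intro h
      have := congrFun h (Sum.inl (Sum.inl 0))
      simp [v] at this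
    refine eO.injective ?_
    rw [map_one]
    refine OrthUnitarySmallIso.eq_one_of_commute (by decide) hnd (by simp) hv hv0 fun k hk => ?_
    obtain ⟨k, rfl⟩ := eO.surjective k
    rw [← map_mul, ← map_mul, hg k]
    exact (OrthUnitaryOmega.mem_commutator_iff eO k).mpr hk
  have hΩ : Subgroup.center Ω = ⊥ := by
    rw [eq_bot_iff]
    intro x hx
    rw [Subgroup.mem_bot]
    refine Subtype.ext (hcent x fun k hk => ?_)
    exact congrArg Subtype.val (Subgroup.mem_center_iff.1 hx ⟨k, hk⟩).symm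
  let e' : Ω ≃* Cfsg.PSU 4 F 2 :=
    (QuotientGroup.quotientBot.symm.trans (QuotientGroup.quotientMulEquivOfEq hΩ.symm)).trans e
  let f : O →* MulAut (Cfsg.PSU 4 F 2) := (MulAut.congr e').toMonoidHom.comp MulAut.conjNormal
  have hinj : Function.Injective f := by
    rw [injective_iff_map_eq_one]
    intro g hg
    have h1 : (MulAut.conjNormal g : MulAut Ω) = 1 := (MulAut.congr e').injective (by rw [map_one]; exact hg)
    refine hcent g fun k hk => ?_
    have h2 := congrArg Subtype.val (DFunLike.congr_fun h1 ⟨k, hk⟩)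
    simp only [MulAut.conjNormal_apply, MulAut.one_apply] at h2
    exact mul_inv_eq_iff_eq_mul.1 h2
  have hcard : Nat.card O = Nat.card (MulAut (Cfsg.PSU 4 F 2)) := by
    rw [card_mulAut_four hF,
      Cfsg.Agent.OrthUnitaryForms.card_isometryGroup_minus (F := ZMod 2) (q := 2) (ZMod.card 2) hab 2]
    norm_num [Finset.prod_range_succ]
  exact ⟨MulEquiv.ofBijective f ((Nat.bijective_iff_injective_and_card f).2 ⟨hinj, hcard⟩)⟩

end Cfsg.Agent.OrthMinusSixTwoAut48
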