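import Mathlib
import Cfsg.Agent.Lib.LFModel89
import Cfsg.Agent.Lib.OrthMinusSixTwoAut48

/-!
The stabiliser of a vector of weight two in the model `3.U4(3)` acts on the four remaining
coordinates; when its order is 25920 this gives an isomorphism with `SU₄(2)`.
-/

set_option autoImplicit false
set_option linter.unusedSectionVars false
set_option linter.style.haveILetI false
set_option maxHeartbeats 800000

namespace Cfsg.Agent.LFBlock18

open Cfsg Cfsg.Agent.U62Mon93 Cfsg.Agent.U62Existence93 Cfsg.Agent.U62Twist93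
open Cfsg.Agent.OrthUnitaryHerm
open scoped Matrix

variable {F : Type} [Field F] [Fintype F] {s : F} (h : S4 s)

/-- the vector of weight two -/
def yv (F : Type) [Field F] : Fin 6 → F := ![1, 1, 0, 0, 0, 0]

/-- the last four coordinates -/
def k2 (i : Fin 4) : Fin 6 := ⟨i + 2, by omega⟩

theorem k2_ne (i : Fin 4) : k2 i ≠ 0 ∧ k2 i ≠ 1 := by revert i; decide

/-- the block -/
def blk (g : SU 6 F 2) : Matrix (Fin 4) (Fin 4) F := Matrix.of fun i j => entry g (k2 i) (k2 j)

/-- The stabiliser of the vector. -/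
noncomputable def stab (h : S4 s) : Subgroup (K0 h) where
  carrier := {g | (g.1.1 : Matrix (Fin 6) (Fin 6) F) *ᵥ yv F = yv F}
  one_mem' := Matrix.one_mulVec _
  mul_mem' := fun {a b} ha hb => by
    show (a.1.1.1 * b.1.1.1) *ᵥ yv F = yv F
    rw [← Matrix.mulVec_mulVec, hb, ha]
  inv_mem' := fun {a} ha => by
    show (a⁻¹ : K0 h).1.1.1 *ᵥ yv F = yv F
    conv_lhs => rw [← (show a.1.1.1 *ᵥ yv F = yv F from ha), Matrix.mulVec_mulVec]
    have e : (a⁻¹ * a : K0 h).1.1.1 = 1 := by rw [inv_mul_cancel]; rfl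
    exact (congrArg (fun M => M *ᵥ yv F) e).trans (Matrix.one_mulVec _)

theorem add_self (h : S4 s) (a : F) : a + a = 0 := by rw [← two_mul, h.two, zero_mul]

theorem eq_of_add (h : S4 s) {a b : F} (e : a + b = 0) : a = b := by
  linear_combination e - (add_self h b)

variable {g : SU 6 F 2}

theorem col_sum (hg : g.1.1 *ᵥ yv F = yv F) (i : Fin 6) :
    entry g i 0 + entry g i 1 = yv F i := by
  have e := congrFun hg i
  simpa [Matrix.mulVec, dotProduct, Fin.sum_univ_six, yv, entry] using e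

include h in
theorem row_sum (hg : g.1.1 *ᵥ yv F = yv F) (j : Fin 6) :
    entry g 0 j + entry g 1 j = yv F j := by
  have e := isU_of_mem_SU g (Pi.single j 1) (yv F)
  rw [hg, Matrix.mulVec_single_one] at e
  have e1 : hermForm 6 F 2 (g.1.1.col j) (yv F) = entry g 0 j + entry g 1 j := by
    simp [hermForm, Fin.sum_univ_six, yv, entry, Matrix.col]
  have hy : ∀ k, yv F k ^ 2 = yv F k := fun k => by fin_cases k <;> simp [yv]
  have e2 : hermForm 6 F 2 (Pi.single j 1) (yv F) = yv F j := by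
    rw [herm_single_left, hy]
  rw [← e1, ← e2]
  exact e

include h in
theorem rows_eq (hg : g.1.1 *ᵥ yv F = yv F) (j : Fin 4) :
    entry g 0 (k2 j) = entry g 1 (k2 j) := by
  refine eq_of_add h ?_
  rw [row_sum h hg]
  fin_cases j <;> simp [yv, k2]

theorem sum_k2 (f : Fin 6 → F) : ∑ k, f k = f 0 + f 1 + ∑ i : Fin 4, f (k2 i) := by
  simp only [Fin.sum_univ_six, Fin.sum_univ_four, k2]
  show _ = f 0 + f 1 + (f 2 + f 3 + f 4 + f 5)
  ring

include h in
theorem blk_mul {g' : SU 6 F 2} (hg : g.1.1 *ᵥ yv F = yv F) (hg' : g'.1.1 *ᵥ yv F = yv F) :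
    blk (g * g') = blk g * blk g' := by
  ext i j
  rw [Matrix.mul_apply]
  show entry (g * g') (k2 i) (k2 j) = _
  rw [entry_mul, sum_k2, rows_eq h hg' j, ← add_mul, col_sum hg]
  have : yv F (k2 i) = 0 := by fin_cases i <;> simp [yv, k2]
  rw [this, zero_mul, zero_add]
  rfl

theorem blk_one : blk (1 : SU 6 F 2) = 1 := by
  ext i j
  show entry (1 : SU 6 F 2) (k2 i) (k2 j) = _
  rw [entry_one, Matrix.one_apply]
  simp [k2, Fin.ext_iff]

/-- four coordinates as six -/
def emb (w : Fin 4 → F) : Fin 6 → F := ![0, 0, w 0, w 1, w 2, w 3]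

theorem emb_k2 (w : Fin 4 → F) (i : Fin 4) : emb w (k2 i) = w i := by
  fin_cases i <;> rfl

theorem mulVec_emb (g : SU 6 F 2) (w : Fin 4 → F) (k : Fin 6) :
    (g.1.1 *ᵥ emb w) k = ∑ j : Fin 4, entry g k (k2 j) * w j := by
  show ∑ x, entry g k x * emb w x = _
  rw [sum_k2]
  simp [emb_k2, show emb w 0 = 0 from rfl, show emb w 1 = 0 from rfl]

include h in
theorem emb_image (hg : g.1.1 *ᵥ yv F = yv F) (w : Fin 4 → F) :
    (g.1.1 *ᵥ emb w) 0 = (g.1.1 *ᵥ emb w) 1 ∧
      ∀ i, (g.1.1 *ᵥ emb w) (k2 i) = (blk g *ᵥ w) i := by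
  refine ⟨?_, fun i => by rw [mulVec_emb]; rfl⟩
  simp only [mulVec_emb, rows_eq h hg]

include h in
theorem blk_isU (hg : g.1.1 *ᵥ yv F = yv F) : IsU 2 (blk g) := by
  intro u v
  have e := isU_of_mem_SU g (emb u) (emb v)
  obtain ⟨hu0, hu⟩ := emb_image h hg u
  obtain ⟨hv0, hv⟩ := emb_image h hg v
  simp only [hermForm, sum_k2, emb_k2, hu, hv, hu0, hv0] at e ⊢
  simpa [add_self h, show emb u 0 = 0 from rfl, show emb u 1 = 0 from rfl] using e

include h in
theorem blk_det (hg : g.1.1 *ᵥ yv F = yv F) : (blk g).det = 1 := by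
  classical
  set M : Matrix (Fin 6) (Fin 6) F :=
    Matrix.transvection 0 1 (1 : F) * g.1.1 * Matrix.transvection 0 1 (1 : F) with hM
  have hdet : M.det = 1 := by
    rw [hM, Matrix.det_mul, Matrix.det_mul, Matrix.det_transvection_of_ne _ _ (by decide),
      one_mul, mul_one]
    exact g.1.2
  have hentry : ∀ i j, M i j =
      (entry g i j + if i = 0 then entry g 1 j else 0) +
        if j = 1 then entry g i 0 + (if i = 0 then entry g 1 0 else 0) else 0 := by
    intro i j
    rw [hM]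
    by_cases hj : j = 1
    · subst hj
      rw [if_pos rfl, Matrix.mul_transvection_apply_same]
      by_cases hi : i = 0
      · subst hi; simp [entry]
      · simp [hi, entry]
    · rw [if_neg hj, Matrix.mul_transvection_apply_of_ne _ _ _ _ hj]
      by_cases hi : i = 0
      · subst hi; simp [entry]
      · simp [hi, entry]
  have hrow : ∀ j, M 0 j = if j = 0 then 1 else 0 := by
    intro j
    rw [hentry, if_pos rfl, row_sum h hg, if_pos rfl, row_sum h hg]
    fin_cases j <;> simp [yv, add_self h]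
  have hcol : ∀ i : Fin 5, M i.succ 1 = if i = 0 then 1 else 0 := by
    intro i
    rw [hentry, if_neg (Fin.succ_ne_zero i), if_pos rfl, if_neg (Fin.succ_ne_zero i), add_zero,
      add_zero, add_comm, col_sum hg]
    fin_cases i <;> simp [yv]
  rw [Matrix.det_succ_row_zero, Finset.sum_eq_single (0 : Fin 6)
    (fun j _ hj => by rw [hrow, if_neg hj, mul_zero, zero_mul])
    (fun hh => absurd (Finset.mem_univ _) hh)] at hdet
  simp only [Fin.val_zero, pow_zero, one_mul, hrow, Fin.succAbove_zero] at hdet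
  rw [Matrix.det_succ_column_zero, Finset.sum_eq_single (0 : Fin 5) (fun i _ hi => by
      rw [Matrix.submatrix_apply, Fin.succ_zero_eq_one, hcol, if_neg hi, mul_zero, zero_mul])
    (fun hh => absurd (Finset.mem_univ _) hh)] at hdet
  have h11 : M 1 1 = 1 := (hcol 0).trans (if_pos rfl)
  simp only [Fin.val_zero, pow_zero, one_mul, Matrix.submatrix_apply, Fin.succ_zero_eq_one,
    Fin.succAbove_zero, Matrix.submatrix_submatrix, h11, if_true] at hdet
  rw [← hdet]
  congr 1
  ext i j
  show entry g (k2 i) (k2 j) = M i.succ.succ j.succ.succ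
  have hi : k2 i = i.succ.succ := Fin.ext rfl
  have hj : k2 j = j.succ.succ := Fin.ext rfl
  rw [← hi, ← hj, hentry, if_neg (k2_ne i).1, if_neg (k2_ne j).2, add_zero, add_zero]

/-- The block homomorphism. -/
noncomputable def blkHom : stab h →* SU 4 F 2 :=
  MonoidHom.mk' (fun g => mkSU (blk g.1.1) (blk_det h g.2) (blk_isU h g.2)) fun a b =>
    Subtype.ext (Subtype.ext (blk_mul h a.2 b.2))

theorem blkHom_entry (g : stab h) (i j : Fin 4) :
    ((blkHom h g).1.1 : Matrix (Fin 4) (Fin 4) F) i j = entry g.1.1 (k2 i) (k2 j) := rfl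

include h in
/-- An element fixing the vector with trivial block has fourth power one. -/
theorem pow_four (hg : g.1.1 *ᵥ yv F = yv F) (hb : blk g = 1) : g ^ 4 = 1 := by
  classical
  set N : Matrix (Fin 6) (Fin 6) F := g.1.1 + 1 with hN
  have hperp : ∀ v, (N *ᵥ v) 0 = (N *ᵥ v) 1 := by
    intro v
    refine eq_of_add h ?_
    have e := isU_of_mem_SU g v (yv F)
    rw [hg] at e
    have hv : ∀ x : Fin 6 → F, hermForm 6 F 2 x (yv F) = x 0 + x 1 := fun x => by
      simp [hermForm, Fin.sum_univ_six, yv]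
    rw [hv, hv] at e
    rw [hN, Matrix.add_mulVec, Matrix.one_mulVec]
    simp only [Pi.add_apply]
    linear_combination e + add_self h (v 0 + v 1)
  have hNy : N *ᵥ yv F = 0 := by
    rw [hN, Matrix.add_mulVec, Matrix.one_mulVec, hg]
    exact funext fun i => add_self h _
  have hline : ∀ v : Fin 6 → F, v 0 = v 1 → ∃ a : F, N *ᵥ v = a • yv F := by
    intro v hv
    refine ⟨(N *ᵥ v) 0, funext fun k => ?_⟩
    have hk : ∀ i : Fin 4, (N *ᵥ v) (k2 i) = 0 := by
      intro i
      obtain ⟨-, hi⟩ := emb_image h hg (fun j => v (k2 j))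
      have hvd : v = v 0 • yv F + emb (fun j => v (k2 j)) := funext fun x => by
        fin_cases x <;> simp [yv, emb, k2, hv]
      rw [hvd, Matrix.mulVec_add, Matrix.mulVec_smul, hNy, smul_zero, zero_add, hN,
        Matrix.add_mulVec, Matrix.one_mulVec, Pi.add_apply, hi, emb_k2, hb, Matrix.one_mulVec,
        add_self h]
    have h01 := hperp v
    fin_cases k
    · simp [yv]
    · simp [yv, ← h01]
    · simpa [yv, k2] using hk 0
    · simpa [yv, k2] using hk 1
    · simpa [yv, k2] using hk 2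
    · simpa [yv, k2] using hk 3
  have hN3 : N * N * N = 0 := Matrix.ext_of_mulVec_single fun i => by
    rw [← Matrix.mulVec_mulVec, ← Matrix.mulVec_mulVec, Matrix.zero_mulVec]
    obtain ⟨a, ha⟩ := hline _ (hperp (Pi.single i 1))
    rw [ha, Matrix.mulVec_smul, hNy, smul_zero]
  have h2 : ∀ A : Matrix (Fin 6) (Fin 6) F, A + A = 0 := fun A =>
    Matrix.ext fun i j => add_self h _
  have hgN : g.1.1 = N + 1 := by rw [hN, add_assoc, h2, add_zero]
  have hsq : ∀ A : Matrix (Fin 6) (Fin 6) F, (A + 1) * (A + 1) = A * A + 1 := fun A => by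
    rw [add_mul, mul_add, mul_one, one_mul, show A * A + A + (A + 1) = A * A + (A + A) + 1 by abel,
      h2, add_zero]
  refine Subtype.ext (Subtype.ext ?_)
  show g.1.1 ^ 4 = (1 : Matrix (Fin 6) (Fin 6) F)
  rw [show (4 : ℕ) = 2 * 2 from rfl, pow_mul, pow_two, pow_two, hgN, hsq, hsq,
    show N * N * (N * N) = N * N * N * N by simp only [mul_assoc], hN3, zero_mul, zero_add]

theorem ker_pGroup : IsPGroup 2 (blkHom h).ker := by
  rintro ⟨g, hg⟩
  refine ⟨2, Subtype.ext (Subtype.ext (Subtype.ext ?_))⟩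
  exact pow_four h g.2 (congrArg (fun x : SU 4 F 2 => (x.1.1 : Matrix (Fin 4) (Fin 4) F)) hg)

/-- A permutation of four coordinates as an even permutation of six. -/
def six (τ : Equiv.Perm (Fin 4)) : Equiv.Perm (Fin 6) :=
  finSumFinEquiv.permCongr
    (Equiv.sumCongr (if Equiv.Perm.sign τ = 1 then (1 : Equiv.Perm (Fin 2)) else Equiv.swap 0 1) τ)

theorem six_spec : ∀ τ : Equiv.Perm (Fin 4), Equiv.Perm.sign (six τ) = 1 ∧
    (∀ i j : Fin 4, k2 i = six τ (k2 j) ↔ i = τ j) ∧ (six τ 0 = 0 ∧ six τ 1 = 1 ∨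
      six τ 0 = 1 ∧ six τ 1 = 0) := by
  decide +kernel

theorem six_mul : ∀ σ τ : Equiv.Perm (Fin 4), six (σ * τ) = six σ * six τ := by decide +kernel

include h in
theorem exists_six (τ : Equiv.Perm (Fin 4)) :
    ∃ g : stab h, U62Mon93.IsM s g.1.1 (six τ) 0 := by
  obtain ⟨g, hg⟩ := exists_isM h (six τ) (d := 0) (by simp)
  have hK : g ∈ K0 h := Kc_zero h ▸ mem_Kc_of_even h 0 (six_spec τ).1 hg
  refine ⟨⟨⟨g, hK⟩, funext fun i => ?_⟩, hg⟩
  show ∑ x, entry g i x * yv F x = yv F i
  simp only [Fin.sum_univ_six, hg _ _, Pi.zero_apply, ex_zero]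
  obtain ⟨-, -, h01 | h01⟩ := six_spec τ <;> rw [h01.1, h01.2] <;> fin_cases i <;> simp [yv]

/-- The block is an isomorphism. -/
theorem blk_bijective (hcard : Nat.card (stab h) = 25920) : Function.Bijective (blkHom h) := by
  classical
  haveI : Finite (SU 6 F 2) := Subtype.finite
  haveI : Finite (SU 4 F 2) := Subtype.finite
  haveI : Fact (Nat.Prime 2) := ⟨Nat.prime_two⟩
  have hF : Fintype.card F = 2 ^ 2 := h.card'
  have hcen : Nat.card (Subgroup.center (SU 4 F 2)) = 1 := by
    rw [card_center_SU hF (by norm_num)]; rfl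
  have hSU : Nat.card (SU 4 F 2) = 25920 := by
    rw [Subgroup.card_eq_card_quotient_mul_card_subgroup (Subgroup.center (SU 4 F 2)), hcen,
      mul_one]
    exact OrthMinusSixTwoAut48.card_PSU_four h.card
  haveI hsimple : IsSimpleGroup (PSU 4 F 2) :=
    OrthUnitaryPSU.isSimpleGroup_PSU hF (by norm_num) (by norm_num)
  have hbot : Subgroup.center (SU 4 F 2) = ⊥ := Subgroup.eq_bot_of_card_eq _ hcen
  let eq4 : PSU 4 F 2 ≃* SU 4 F 2 :=
    (QuotientGroup.quotientMulEquivOfEq hbot).trans QuotientGroup.quotientBot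
  haveI : IsSimpleGroup (SU 4 F 2) := eq4.symm.isSimpleGroup
  -- the kernel and the image
  obtain ⟨a, ha⟩ := IsPGroup.iff_card.1 (ker_pGroup h)
  have hprod : Nat.card (blkHom h).range * 2 ^ a = 25920 := by
    rw [← ha, ← hcard, Subgroup.card_eq_card_quotient_mul_card_subgroup (blkHom h).ker,
      Nat.card_congr (QuotientGroup.quotientKerEquivRange (blkHom h)).toEquiv]
  choose lift hlift using exists_six h
  let L : Equiv.Perm (Fin 4) →* stab h := MonoidHom.mk' lift fun σ τ =>
    Subtype.ext (Subtype.ext (U62Mon93.IsM.eq (hlift (σ * τ))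
      (by rw [six_mul]; simpa [← Pi.zero_def] using (hlift σ).mul h (hlift τ))))
  have hinj : Function.Injective ((blkHom h).comp L) := by
    intro σ τ e
    refine Equiv.ext fun j => ?_
    have e' : entry (lift σ).1.1 (k2 (σ j)) (k2 j) = entry (lift τ).1.1 (k2 (σ j)) (k2 j) :=
      congrFun (congrFun (congrArg (fun x : SU 4 F 2 => (x.1.1 : Matrix (Fin 4) (Fin 4) F)) e) _) _
    rw [hlift σ, hlift τ, if_pos (((six_spec σ).2.1 _ _).2 rfl)] at e'
    by_contra hne
    rw [if_neg fun e2 => hne (((six_spec τ).2.1 _ _).1 e2)] at e'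
    exact ex_ne_zero h _ e'
  have h24 : 24 ∣ Nat.card (blkHom h).range := by
    have := Subgroup.card_dvd_of_injective (((blkHom h).comp L).codRestrict (blkHom h).range
      fun x => ⟨L x, rfl⟩) fun σ τ e => hinj (congrArg Subtype.val e)
    rwa [Nat.card_perm, Nat.card_fin] at this
  have h405 : 405 ∣ Nat.card (blkHom h).range := by
    refine (Nat.Coprime.pow_right a (by norm_num : Nat.Coprime 405 2)).dvd_of_dvd_mul_right ?_
    rw [hprod]; norm_num
  set R := (blkHom h).range with hR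
  have h3240 : 3240 ∣ Nat.card R :=
    Nat.Coprime.dvd_mul_right (by norm_num : Nat.Coprime 3240 1) |>.1 (by
      rw [mul_one]
      exact (Nat.lcm_dvd h24 h405 : Nat.lcm 24 405 ∣ _))
  have hidx : Nat.card R * R.index = 25920 := hSU ▸ R.card_mul_index
  have hle : R.index ≤ 8 := by
    have h0 : 0 < Nat.card R := Nat.card_pos
    have := Nat.le_of_dvd h0 h3240
    nlinarith
  have htop : R = ⊤ := by
    by_contra hne
    have hker : (MulAction.toPermHom (SU 4 F 2) (SU 4 F 2 ⧸ R)).ker = ⊥ := by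
      rcases (MonoidHom.normal_ker
        (MulAction.toPermHom (SU 4 F 2) (SU 4 F 2 ⧸ R))).eq_bot_or_eq_top with e | e
      · exact e
      · exfalso
        refine hne ((Subgroup.eq_top_iff' R).2 fun x => ?_)
        have hx : x ∈ (MulAction.toPermHom (SU 4 F 2) (SU 4 F 2 ⧸ R)).ker := e ▸ Subgroup.mem_top x
        have hx' : x • ((1 : SU 4 F 2) : SU 4 F 2 ⧸ R) = ((1 : SU 4 F 2) : SU 4 F 2 ⧸ R) :=
          DFunLike.congr_fun (MonoidHom.mem_ker.1 hx) ((1 : SU 4 F 2) : SU 4 F 2 ⧸ R)
        rw [MulAction.Quotient.smul_coe, smul_eq_mul, mul_one, QuotientGroup.eq, mul_one,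
          inv_mem_iff] at hx'
        exact hx'
    have hdvd := Subgroup.card_dvd_of_injective _ ((MonoidHom.ker_eq_bot_iff _).1 hker)
    rw [hSU, Nat.card_perm, ← Subgroup.index_eq_card] at hdvd
    have hk : R.index ≠ 0 := Subgroup.index_ne_zero_of_finite
    interval_cases R.index <;> norm_num [Nat.factorial] at hdvd
  have hsurj : Function.Surjective (blkHom h) := MonoidHom.range_eq_top.1 htop
  exact ⟨((Nat.bijective_iff_surjective_and_card _).2 ⟨hsurj, hcard.trans hSU.symm⟩).1, hsurj⟩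

end Cfsg.Agent.LFBlock18
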