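import Mathlib
import Cfsg.Agent.Lib.LFMathieu89

/-!
The large elementary abelian subgroup as the even cocode: a point map whose products of two values
are exactly the involutions outside the class of `z`, equivariant under the normaliser.
-/

set_option autoImplicit false
set_option linter.unusedSectionVars false
set_option linter.style.haveILetI false
set_option maxRecDepth 100000
set_option maxHeartbeats 800000

namespace Cfsg.Agent.LFCocodePts19

open Subgroup Cfsg.Agent.U62Mon93 Cfsg.Agent.U62Existence93 Cfsg.Agent.LFModel89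
  Cfsg.Agent.LFBound89 Cfsg.Agent.LFSetting89 Cfsg.Agent.LFSylow89
  Cfsg.Agent.LFOrbitA89 Cfsg.Agent.LFFusion89 Cfsg.Agent.LFCoord89 Cfsg.Agent.GolayDuadRigid13
open Cfsg (GolayPt M24)

universe u

/-- A point map on an elementary abelian subgroup with the properties of the even cocode. -/
structure Pts {G : Type u} [Group G] (A : Subgroup G) (z : G) (pt : GolayPt → G)
    (φ : ↥(Subgroup.normalizer (A : Set G)) →* ↥M24) : Prop where
  sq : ∀ x ∈ A, x * x = 1
  comm : ∀ x ∈ A, ∀ y ∈ A, x * y = y * x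
  mem : ∀ i, pt i ∈ A
  surj : Function.Surjective φ
  ker : ∀ m, φ m = 1 ↔ (m : G) ∈ A
  equiv : ∀ (m : ↥(Subgroup.normalizer (A : Set G))) (i j : GolayPt),
    (m : G) * (pt i * pt j) * (m : G)⁻¹ =
      pt ((φ m : Equiv.Perm GolayPt) i) * pt ((φ m : Equiv.Perm GolayPt) j)
  rel : ∀ x ∈ A, (x ≠ 1 ∧ ¬ IsConj z x) ↔ ∃ i j, i ≠ j ∧ pt i * pt j = x
  inj : ∀ i j k l, i ≠ j → k ≠ l → pt i * pt j = pt k * pt l → (i = k ∧ j = l) ∨ (i = l ∧ j = k)
  four : ∀ i j k l r s, i ≠ j → i ≠ k → i ≠ l → j ≠ k → j ≠ l → k ≠ l →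
    pt i * pt j * pt k * pt l ≠ pt r * pt s
  prodFun : ∃ P : Finset GolayPt → G, P ∅ = 1 ∧ P Finset.univ = 1 ∧
    (∀ s, P s ∈ A) ∧ (∀ p s, p ∉ s → P (insert p s) = pt p * P s) ∧ ∀ s ∈ Cfsg.octads, P s = 1
  sylow : ∀ P : Subgroup G, IsPGroup 2 P → A ≤ P → P ≤ Subgroup.normalizer (A : Set G)

section Generic

variable {G : Type u} [Group G] {A : Subgroup G} {z : G} {pt : GolayPt → G}
  {φ : ↥(Subgroup.normalizer (A : Set G)) →* ↥M24} (P : Pts A z pt φ)
include P

theorem exists_m (l l' : List GolayPt) (hl : l.Nodup) (hl' : l'.Nodup)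
    (hlen : l.length = l'.length) (h5 : l.length ≤ 5) :
    ∃ m : ↥(Subgroup.normalizer (A : Set G)), l.map (φ m : Equiv.Perm GolayPt) = l' := by
  obtain ⟨σ, hσ, e⟩ := GolayModule.exists_map_lists hl hl' hlen h5
  obtain ⟨m, hm⟩ := P.surj ⟨σ, hσ⟩
  exact ⟨m, by rw [hm]; exact e⟩

theorem A_le : A ≤ Subgroup.normalizer (A : Set G) := Subgroup.le_normalizer

theorem norm_mem {m x : G} (hm : m ∈ Subgroup.normalizer (A : Set G)) (hx : x ∈ A) :
    m * x * m⁻¹ ∈ A :=
  (Subgroup.mem_normalizer_iff.1 hm x).1 hx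

theorem comm_iff_pair (m : ↥(Subgroup.normalizer (A : Set G))) {i j : GolayPt} (hij : i ≠ j) :
    (m : G) * (pt i * pt j) * (m : G)⁻¹ = pt i * pt j ↔
      ((φ m : Equiv.Perm GolayPt) i = i ∧ (φ m : Equiv.Perm GolayPt) j = j) ∨
      ((φ m : Equiv.Perm GolayPt) i = j ∧ (φ m : Equiv.Perm GolayPt) j = i) := by
  rw [P.equiv]
  refine ⟨fun e => P.inj _ _ i j ((φ m).1.injective.ne hij) hij e, ?_⟩
  rintro (⟨e1, e2⟩ | ⟨e1, e2⟩) <;> rw [e1, e2]
  exact P.comm _ (P.mem j) _ (P.mem i)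

theorem share {i j k l : GolayPt} (hij : i ≠ j) (hkl : k ≠ l)
    (hne : pt i * pt j * (pt k * pt l) ≠ 1)
    (hR : ¬ IsConj z (pt i * pt j * (pt k * pt l))) :
    (i = k ∧ j ≠ l) ∨ (i = l ∧ j ≠ k) ∨ (j = k ∧ i ≠ l) ∨ (j = l ∧ i ≠ k) := by
  by_cases h1 : i = k
  · refine Or.inl ⟨h1, fun h2 => hne ?_⟩
    rw [h1, h2]; exact P.sq _ (mul_mem (P.mem k) (P.mem l))
  by_cases h2 : i = l
  · refine Or.inr (Or.inl ⟨h2, fun h => hne ?_⟩)
    rw [h2, h, P.comm _ (P.mem l) _ (P.mem k)]; exact P.sq _ (mul_mem (P.mem k) (P.mem l))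
  by_cases h3 : j = k
  · exact Or.inr (Or.inr (Or.inl ⟨h3, h2⟩))
  by_cases h4 : j = l
  · exact Or.inr (Or.inr (Or.inr ⟨h4, h1⟩))
  obtain ⟨r, s, -, e⟩ := (P.rel _ (mul_mem (mul_mem (P.mem i) (P.mem j))
    (mul_mem (P.mem k) (P.mem l)))).1 ⟨hne, hR⟩
  exact absurd (by rw [e, mul_assoc]) (P.four i j k l r s hij h1 h2 h3 h4 hkl)

end Generic

variable {G : Type u} [Group G] [Finite G] {z : G} {Q : Subgroup (centralizer ({z} : Set G))} [Q.Normal]
variable {V : Type u} [AddCommGroup V] {zc : centralizer ({z} : Set G)}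
  {π : centralizer ({z} : Set G) → V} {ρ : centralizer ({z} : Set G) ⧸ Q →* AddMonoid.End V}
  {q : V → ZMod 2} {n : centralizer ({z} : Set G) ⧸ Q}
  {Mb : Subgroup (centralizer ({z} : Set G) ⧸ Q)}
variable (D : Data z Q zc π ρ q n Mb)
variable {F : Type} [Field F] [Fintype F] {s : F} {h : S4 s} {ν : (Fin 6 → F) → V}
  {Φ : K0 h →* centralizer ({z} : Set G) ⧸ Q} (C : Coord h ρ q n Mb ν Φ)

include D C

/-- Every 2-subgroup containing the subgroup normalises it. -/
theorem sylow_norm (hF : Cfsg.IsOfLargeFischerTypeAt z Q) (P : Subgroup G) (hP : IsPGroup 2 P)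
    (hAP : AG D C ≤ P) : P ≤ Subgroup.normalizer (AG D C : Set G) := by
  haveI : Fact (Nat.Prime 2) := ⟨Nat.prime_two⟩
  obtain ⟨hAea, hAc, -⟩ := AG_facts D C
  obtain ⟨S, -, -, huniq⟩ := exists_sylow D C hF
  obtain ⟨T, hT⟩ := hP.exists_le_sylow
  obtain ⟨g, hg⟩ := MulAction.exists_smul_eq G T S
  have hSe : (S : Subgroup G) = cj g (T : Subgroup G) := by rw [← hg]; rfl
  intro x hx
  refine Subgroup.mem_normalizer_fintype fun a ha => ?_
  have hle : ∀ y ∈ (T : Subgroup G), cj (g * y) (AG D C) ≤ (S : Subgroup G) := by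
    intro y hy
    rintro _ ⟨b, hb, rfl⟩
    rw [hSe]
    refine ⟨y * b * y⁻¹, mul_mem (mul_mem hy (hT (hAP hb))) (inv_mem hy), ?_⟩
    simp [mul_assoc]
  have key : ∀ y ∈ (T : Subgroup G), cj (g * y) (AG D C) = AG D C := fun y hy =>
    huniq _ (hle y hy) (hAea.cj _) (by rw [card_cj, hAc])
  have e1 : g * (x * a * x⁻¹) * g⁻¹ ∈ cj (g * 1) (AG D C) := by
    rw [key 1 (one_mem _), ← key x (hT hx)]
    exact ⟨a, ha, by simp [mul_assoc]⟩
  obtain ⟨b, hb, e⟩ := e1
  have e' : b = x * a * x⁻¹ := by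
    simpa using e
  exact e' ▸ hb

/-- The point map. -/
theorem exists_pts (hF : Cfsg.IsOfLargeFischerTypeAt z Q) :
    ∃ (pt : GolayPt → G) (φ : ↥(Subgroup.normalizer (AG D C : Set G)) →* ↥M24),
      Pts (AG D C) z pt φ := by
  classical
  obtain ⟨Ψ, hmul, hA, hinj, hsurj, hR⟩ := model D C hF
  obtain ⟨hAea, hAc, -⟩ := AG_facts D C
  letI : CommGroup (AG D C) :=
    { (AG D C).toGroup with mul_comm := fun a b => Subtype.ext (hAea.2 a a.2 b b.2) }
  let M := Subgroup.normalizer (AG D C : Set G)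
  let ψ : ℕ → Additive (AG D C) := fun i => Additive.ofMul ⟨Ψ i, hA i⟩
  have hx : ∀ a b, ψ (Nat.xor a b) = ψ a + ψ b := fun a b =>
    congrArg Additive.ofMul (Subtype.ext (hmul a b) :
      (⟨Ψ (Nat.xor a b), hA _⟩ : AG D C) = ⟨Ψ a, hA a⟩ * ⟨Ψ b, hA b⟩)
  have hinj' : ∀ i < 2048, ∀ j < 2048, ψ i = ψ j → i = j := fun i hi j hj e =>
    hinj i hi j hj (congrArg (fun v : Additive (AG D C) => (Additive.toMul v).1) e)
  have hsurj' : ∀ v, ∃ i < 2048, ψ i = v := fun v => by
    obtain ⟨i, hi, e⟩ := hsurj _ (Additive.toMul v).2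
    exact ⟨i, hi, congrArg Additive.ofMul (Subtype.ext e : (⟨Ψ i, hA i⟩ : AG D C) = Additive.toMul v)⟩
  obtain ⟨hL, hspan, hduads⟩ := LFCocode89.cocode hx hinj' hsurj'
  set L := LFCocode89.Lc ψ hx with hLdef
  have hdiff : ∀ v, v ∈ duads L ↔ (Additive.toMul v).1 ≠ 1 ∧ ¬ IsConj z (Additive.toMul v).1 := by
    intro v
    rw [hduads]
    constructor
    · rintro ⟨r, hr, rfl⟩
      exact ((hR _).2 ⟨r, hr, rfl⟩).2
    · intro hv
      obtain ⟨r, hr, e⟩ := (hR _).1 ⟨(Additive.toMul v).2, hv.1, hv.2⟩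
      exact ⟨r, hr, congrArg Additive.ofMul (Subtype.ext e : (⟨Ψ r, hA r⟩ : AG D C) = Additive.toMul v)⟩
  let c : M →* AddMonoid.End (Additive (AG D C)) :=
    { toFun := fun m =>
        { toFun := fun v => Additive.ofMul
            ⟨(m : G) * (Additive.toMul v).1 * (m : G)⁻¹, AG_normal D C m.2 (Additive.toMul v).2⟩
          map_zero' := congrArg Additive.ofMul (Subtype.ext (by simp) :
            (⟨(m : G) * (1 : AG D C).1 * (m : G)⁻¹, AG_normal D C m.2 (one_mem _)⟩ : AG D C) = 1)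
          map_add' := fun a b => congrArg Additive.ofMul (Subtype.ext (by simp [mul_assoc]) :
            (⟨(m : G) * (Additive.toMul a * Additive.toMul b).1 * (m : G)⁻¹, AG_normal D C m.2
              (Additive.toMul a * Additive.toMul b).2⟩ : AG D C) =
              ⟨_, AG_normal D C m.2 (Additive.toMul a).2⟩ * ⟨_, AG_normal D C m.2 (Additive.toMul b).2⟩) }
      map_one' := AddMonoidHom.ext fun v => congrArg Additive.ofMul (Subtype.ext (by simp) :
        (⟨((1 : M) : G) * (Additive.toMul v).1 * ((1 : M) : G)⁻¹,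
          AG_normal D C (1 : M).2 (Additive.toMul v).2⟩ : AG D C) = Additive.toMul v)
      map_mul' := fun a b => AddMonoidHom.ext fun v => congrArg Additive.ofMul (Subtype.ext
        (show ((a * b : M) : G) * (Additive.toMul v).1 * ((a * b : M) : G)⁻¹ =
          (a : G) * ((b : G) * (Additive.toMul v).1 * (b : G)⁻¹) * (a : G)⁻¹ by simp [mul_assoc])) }
  have hcval : ∀ (m : M) v, (Additive.toMul (c m v)).1 = (m : G) * (Additive.toMul v).1 * (m : G)⁻¹ :=
    fun m v => rfl
  have hRG : ∀ m : M, ∀ p q, p ≠ q → ∃ r t, r ≠ t ∧ c m (duad L p q) = duad L r t := by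
    intro m p q hpq
    have h1 := (hdiff _).1 ⟨p, q, hpq, rfl⟩
    obtain ⟨r, t, hrt, e⟩ := (hdiff (c m (duad L p q))).2 ⟨fun e => h1.1 (by
        rw [hcval, mul_inv_eq_one] at e
        exact mul_eq_left.1 e), fun e => h1.2 (by
        rw [hcval] at e
        exact IsConj.trans e (isConj_iff.2 ⟨(m : G)⁻¹, by group⟩))⟩
    exact ⟨r, t, hrt, e.symm⟩
  obtain ⟨φ, hφ, hker, hsur⟩ := GolayDuadRigid13.exists_hom hL hspan c hRG
  have hkerc : c.ker = (AG D C).subgroupOf M := by
    ext m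
    rw [MonoidHom.mem_ker, Subgroup.mem_subgroupOf]
    constructor
    · intro e
      refine LFMathieu89.cent_AG D C fun x hx => ?_
      have e1 := congrArg (fun f : AddMonoid.End (Additive (AG D C)) =>
        (Additive.toMul (f (Additive.ofMul ⟨x, hx⟩))).1) e
      simp only [hcval] at e1
      exact mul_inv_eq_iff_eq_mul.1 e1
    · intro hm
      refine AddMonoidHom.ext fun v => congrArg Additive.ofMul (Subtype.ext ?_)
      show (m : G) * (Additive.toMul v).1 * (m : G)⁻¹ = (Additive.toMul v).1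
      rw [hAea.2 _ hm _ (Additive.toMul v).2, mul_inv_cancel_right]
  have hidx : 244823040 ∣ c.ker.index := by
    have h1 := Subgroup.card_mul_index ((AG D C).subgroupOf M)
    rw [Nat.card_congr (Subgroup.subgroupOfEquivOfLe (show AG D C ≤ M from Subgroup.le_normalizer)).toEquiv,
      hAc] at h1
    rw [hkerc]
    refine Nat.dvd_of_mul_dvd_mul_left (show 0 < 2 ^ 11 by norm_num) ?_
    rw [h1]
    exact (by norm_num : (2 ^ 11 * 244823040 : ℕ) = 501397585920) ▸ LFMathieu89.dvd_M D C hF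
  let P : Finset GolayPt → G := fun s => (Additive.toMul (L (GolayModule.ind s))).1
  let pt : GolayPt → G := fun p => P {p}
  have hind : ∀ p : GolayPt, ∀ s, p ∉ s →
      GolayModule.ind (insert p s) = GolayModule.ind {p} + GolayModule.ind s := fun p s hp => by
    funext r
    simp only [GolayModule.ind, Pi.add_apply, Finset.mem_insert, Finset.mem_singleton]
    by_cases h1 : r = p
    · subst h1; simp [hp]
    · simp [h1]
  have hins : ∀ p s, p ∉ s → P (insert p s) = pt p * P s := fun p s hp => by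
    simp only [P, pt, hind p s hp, map_add]; rfl
  have hpair : ∀ p q, p ≠ q → pt p * pt q = (Additive.toMul (duad L p q)).1 := fun p q hpq => by
    rw [duad, show ({p, q} : Finset GolayPt) = insert p {q} from rfl]
    exact (hins p {q} (by simpa using hpq)).symm
  have hsq : ∀ x ∈ AG D C, x * x = 1 := hAea.1
  have hptA : ∀ i, pt i ∈ AG D C := fun i => (Additive.toMul (L (GolayModule.ind {i}))).2
  refine ⟨pt, φ, ⟨hsq, hAea.2, hptA, hsur hidx, fun m => ?_, ?_, ?_, ?_, ?_,
    ⟨P, ?_, ?_, fun s => (Additive.toMul (L (GolayModule.ind s))).2, hins, ?_⟩, sylow_norm D C hF⟩⟩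
  · rw [← MonoidHom.mem_ker, hker, hkerc, Subgroup.mem_subgroupOf]
  · intro m i j
    rcases eq_or_ne i j with rfl | hij
    · rw [hsq _ (hptA i), mul_one, mul_inv_cancel,
        hsq _ (hptA _)]
    · rw [hpair i j hij, ← hcval, hφ m i j hij, hpair _ _ ((φ m).1.injective.ne hij)]
  · intro x hxA
    constructor
    · rintro ⟨h1, h2⟩
      obtain ⟨i, j, hij, e⟩ := (hdiff (Additive.ofMul ⟨x, hxA⟩)).2 ⟨h1, h2⟩
      exact ⟨i, j, hij, by rw [hpair i j hij, e]; rfl⟩
    · rintro ⟨i, j, hij, rfl⟩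
      rw [hpair i j hij]
      exact (hdiff _).1 ⟨i, j, hij, rfl⟩
  · intro i j k l hij hkl e
    rw [hpair i j hij, hpair k l hkl] at e
    have e' := (duad_eq_iff hL hij hkl).1 (Additive.toMul.injective (Subtype.ext e))
    have hi : i ∈ ({k, l} : Finset GolayPt) := e' ▸ Finset.mem_insert_self _ _
    have hj : j ∈ ({k, l} : Finset GolayPt) :=
      e' ▸ Finset.mem_insert_of_mem (Finset.mem_singleton_self _)
    simp only [Finset.mem_insert, Finset.mem_singleton] at hi hj
    rcases hi with rfl | rfl <;> rcases hj with rfl | rfl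
    · exact absurd rfl hij
    · exact Or.inl ⟨rfl, rfl⟩
    · exact Or.inr ⟨rfl, rfl⟩
    · exact absurd rfl hij
  · intro i j k l r t h1 h2 h3 h4 h5 h6 e
    have hS : ({i, j, k, l} : Finset GolayPt).card = 4 := by
      simp [h1, h2, h3, h4, h5, h6]
    have e4 : P {i, j, k, l} = pt i * pt j * pt k * pt l := by
      rw [show ({i, j, k, l} : Finset GolayPt) = insert i (insert j (insert k {l})) from rfl,
        hins _ _ (by simp [h1, h2, h3]), hins _ _ (by simp [h4, h5]), hins _ _ (by simp [h6])]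
      simp only [mul_assoc]; rfl
    rcases eq_or_ne r t with rfl | hrt
    · rw [hsq (pt r) (hptA r), ← e4] at e
      have h0 : L (GolayModule.ind ({i, j, k, l} : Finset GolayPt)) = L (GolayModule.ind ∅) := by
        rw [GolayModule.ind_empty, map_zero]
        exact Additive.toMul.injective (Subtype.ext e)
      have := eq_of_L_eq hL (by rw [hS]; norm_num) (by simp) (by rw [hS]; simp) h0
      rw [this] at hS
      simp at hS
    · rw [hpair r t hrt, ← e4] at e
      have := eq_of_L_eq hL (by rw [hS]; norm_num) (by rw [Finset.card_pair hrt])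
        (by rw [hS, Finset.card_pair hrt]; norm_num) (Additive.toMul.injective (Subtype.ext e))
      rw [this, Finset.card_pair hrt] at hS
      norm_num at hS
  · show (Additive.toMul (L (GolayModule.ind ∅))).1 = 1
    rw [GolayModule.ind_empty, map_zero]; rfl
  · show (Additive.toMul (L (GolayModule.ind Finset.univ))).1 = 1
    rw [(hL _ (by decide)).2 (GolayModule.ind_mem_iff.2 GolayBasic.univ_mem_supports)]; rfl
  · intro o ho
    show (Additive.toMul (L (GolayModule.ind o))).1 = 1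
    obtain ⟨ho1, ho8⟩ := GolayBasic.mem_octads.1 ho
    rw [(hL o (by rw [ho8]; norm_num)).2 (GolayModule.ind_mem_iff.2 ho1)]; rfl

end Cfsg.Agent.LFCocodePts19
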