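import Mathlib
import Cfsg.Agent.Lib.FischerFrameSetting18

/-!
The line of a singular vector lies in the totally singular subspace attached to it.
-/

set_option autoImplicit false
set_option linter.unusedSectionVars false
set_option maxHeartbeats 1000000

namespace Cfsg.Agent.LFLine52

open Cfsg.Agent.FischerFrame18

universe u

attribute [local instance] Classical.propDecidable

variable {X V : Type u} [Group X] [AddCommGroup V] {ρ : X →* AddMonoid.End V} {q : V → ZMod 2}

theorem op_one_eq (v : V) : op ρ (1 : X) v = v := op_one v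

theorem polar_symm (u v : V) : polarQ q u v = polarQ q v u := by
  simp only [polarQ, add_comm u v]; ring

section

variable (hR : OrthMod ρ q)
include hR

theorem polar_addr (u v w : V) : polarQ q u (v + w) = polarQ q u v + polarQ q u w := by
  rw [polar_symm u (v + w), hR.addl, polar_symm v u, polar_symm w u]

theorem polar_inv (g : X) (u v : V) : polarQ q (op ρ g u) (op ρ g v) = polarQ q u v := by
  have h : ∀ w, q (op ρ g w) = q w := hR.inv g
  simp only [polarQ, ← map_add, h]

theorem add_cancel' (u v : V) : u + (u + v) = v := by rw [← add_assoc, hR.two, zero_add]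

/-- A totally singular subgroup of order 64 is its own perpendicular. -/
theorem mem_of_perp (A : AddSubgroup V) (hA : Nat.card A = 64) (hAq : ∀ a ∈ A, q a = 0) {v : V}
    (hv : ∀ a ∈ A, polarQ q v a = 0) : v ∈ A := by
  haveI : Finite V := Nat.finite_of_card_ne_zero (by rw [hR.card]; norm_num)
  let P : AddSubgroup V :=
    { carrier := {v | ∀ a ∈ A, polarQ q v a = 0}
      zero_mem' := fun a ha => by
        show q (0 + a) + q 0 + q a = 0
        rw [zero_add, hAq a ha, hAq 0 A.zero_mem, add_zero, add_zero]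
      add_mem' := fun {u w} hu hw a ha => by rw [hR.addl, hu a ha, hw a ha, add_zero]
      neg_mem' := fun {u} hu a ha => by
        rw [show -u = u from neg_eq_of_add_eq_zero_left (hR.two u)]; exact hu a ha }
  have hle : A ≤ P := fun a ha b hb => by
    show q (a + b) + q a + q b = 0
    rw [hAq _ (add_mem ha hb), hAq a ha, hAq b hb, add_zero, add_zero]
  let φ : A → (V ⧸ P →+ ZMod 2) := fun a => QuotientAddGroup.lift P
    (AddMonoidHom.mk' (fun w => polarQ q w a) fun u w => hR.addl u w a) fun w hw => hw a a.2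
  have hφ : Function.Injective φ := by
    intro a b e
    refine Subtype.ext ?_
    by_contra hne
    have hab : (a : V) + b ≠ 0 := fun h => hne (by
      rw [← neg_eq_of_add_eq_zero_left (hR.two (b : V))]; exact eq_neg_of_add_eq_zero_left h)
    refine hab (hR.nondeg _ fun w => ?_)
    have e' : polarQ q w a = polarQ q w b := DFunLike.congr_fun e (w : V ⧸ P)
    rw [polar_symm _ w, polar_addr hR, e']
    exact ZModModule.add_self _
  have two' : ∀ w : V ⧸ P, w + w = 0 := fun w => by
    obtain ⟨u, rfl⟩ := QuotientAddGroup.mk_surjective w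
    rw [← QuotientAddGroup.mk_add, hR.two]; rfl
  haveI : Finite (V ⧸ P →+ ZMod 2) := Finite.of_injective (fun F => (F : V ⧸ P → ZMod 2))
    DFunLike.coe_injective
  have h1 := Nat.card_le_card_of_injective φ hφ
  rw [card_dual _ two', hA] at h1
  have h2 := AddSubgroup.card_eq_card_quotient_mul_card_addSubgroup P
  rw [hR.card] at h2
  have h3 : Nat.card P ≤ Nat.card A := by rw [hA]; nlinarith
  exact (AddSubgroup.eq_of_le_of_card_ge hle h3).ge hv

end

section

variable [Finite X] (hR : OrthMod ρ q) {n : X}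
  (hfpf : ∀ v, op ρ n (op ρ n v) + op ρ n v + v = 0)
include hR hfpf

theorem nu_sq (v : V) : op ρ n (op ρ n v) = op ρ n v + v := by
  have h := eq_neg_of_add_eq_zero_left (show op ρ n (op ρ n v) + (op ρ n v + v) = 0 by
    rw [← add_assoc]; exact hfpf v)
  rw [h]; exact neg_eq_of_add_eq_zero_left (hR.two _)

theorem nu_cube (v : V) : op ρ n (op ρ n (op ρ n v)) = v := by
  rw [nu_sq hR hfpf (op ρ n v), nu_sq hR hfpf v, add_comm, add_cancel' hR]

theorem nu_fixed {v : V} (h : op ρ n v = v) : v = 0 := by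
  have := hfpf v
  rwa [h, h, hR.two, zero_add] at this

theorem n_cube : n ^ 3 = 1 := hR.faith _ fun v => by
  show op ρ (n ^ 3) v = v
  rw [show n ^ 3 = n * (n * n) by rw [pow_succ', pow_two], op_mul, op_mul]
  exact nu_cube hR hfpf v

/-- The line of `s` lies in `A`. -/
theorem nu_mem (hn : ∀ g, g * n * g⁻¹ = n ∨ g * n * g⁻¹ = n ^ 2)
    (A : AddSubgroup V) (hAcard : Nat.card A = 64) (hAq : ∀ a ∈ A, q a = 0) {s : V} (hs : s ∈ A)
    (hs0 : s ≠ 0) (X₀ E : Subgroup X) (hEX : E ≤ X₀) (hXs : ∀ g ∈ X₀, op ρ g s = s)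
    (hXA : ∀ g ∈ X₀, ∀ a ∈ A, op ρ g a ∈ A)
    (hEA : ∀ e ∈ E, ∀ a ∈ A, op ρ e a = a ∨ op ρ e a = a + s) (hE : Nat.card E = 32)
    (θ : ↥X₀ →* alternatingGroup (Fin 6)) (hθ : Function.Surjective θ) : op ρ n s ∈ A := by
  classical
  haveI : Finite V := Nat.finite_of_card_ne_zero (by rw [hR.card]; norm_num)
  have hqi : ∀ g w, q (op ρ g w) = q w := fun g w => hR.inv g w
  haveI : IsSimpleGroup ↥(alternatingGroup (Fin 6)) := alternatingGroup.isSimpleGroup (by simp)
  have h360 : Nat.card ↥(alternatingGroup (Fin 6)) = 360 := by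
    rw [Nat.card_eq_fintype_card, card_alternatingGroup]; rfl
  by_contra hx
  -- the centraliser of `n` has index at most two
  have hn3 := n_cube hR hfpf
  let Y : Subgroup ↥X₀ := (Subgroup.centralizer ({n} : Set X)).subgroupOf X₀
  have hYmem : ∀ g : ↥X₀, g ∈ Y ↔ (g : X) * n * (g : X)⁻¹ = n := fun g => by
    rw [Subgroup.mem_subgroupOf, Subgroup.mem_centralizer_singleton_iff, mul_inv_eq_iff_eq_mul]
  let χ : ↥X₀ →* Multiplicative (ZMod 2) :=
    MonoidHom.mk' (fun g => Multiplicative.ofAdd (if g ∈ Y then 0 else 1)) fun a b => by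
      show Multiplicative.ofAdd (if a * b ∈ Y then (0 : ZMod 2) else 1)
        = Multiplicative.ofAdd ((if a ∈ Y then (0 : ZMod 2) else 1) + if b ∈ Y then 0 else 1)
      refine congrArg Multiplicative.ofAdd ?_
      by_cases ha : a ∈ Y
      · simp only [Y.mul_mem_cancel_left ha, ha, if_true, zero_add]
      · by_cases hb : b ∈ Y
        · simp only [Y.mul_mem_cancel_right hb, ha, hb, if_true, if_false, add_zero]
        · have ha' := (hn (a : X)).resolve_left (fun e => ha ((hYmem a).mpr e))
          have hb' := (hn (b : X)).resolve_left (fun e => hb ((hYmem b).mpr e))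
          have hab : a * b ∈ Y := (hYmem _).mpr <| by
            rw [Subgroup.coe_mul,
              show (a : X) * b * n * ((a : X) * b)⁻¹ = a * ((b : X) * n * (b : X)⁻¹) * (a : X)⁻¹ by group,
              hb', ← conj_pow, ha', ← pow_mul, show 2 * 2 = 3 + 1 from rfl, pow_succ, hn3, one_mul]
          simp only [hab, ha, hb, if_true, if_false]
          decide
  have hker : χ.ker = Y := by
    ext g
    rw [MonoidHom.mem_ker]
    show Multiplicative.ofAdd (if g ∈ Y then (0 : ZMod 2) else 1) = 1 ↔ _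
    by_cases hg : g ∈ Y
    · simp [hg]
    · simp [hg, ← ofAdd_zero]
  haveI hYn : Y.Normal := hker ▸ MonoidHom.normal_ker χ
  have hYi : Y.index ≤ 2 := by
    rw [← hker, Subgroup.index_ker]
    refine (Subgroup.card_le_card_group _).trans ?_
    rw [Nat.card_congr Multiplicative.toAdd, Nat.card_zmod]
  haveI : Finite ↥X₀ := inferInstance
  have hθY : Y.map θ = ⊤ := by
    rcases (Subgroup.Normal.map hYn θ hθ).eq_bot_or_eq_top with h | h
    · exfalso
      have h1 : Nat.card ↥(alternatingGroup (Fin 6)) ≤ Y.index := by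
        rw [Subgroup.index_eq_card]
        refine Nat.card_le_card_of_surjective
          (QuotientGroup.lift Y θ fun g hg => (Subgroup.map_eq_bot_iff Y).mp h hg) ?_
        intro a
        obtain ⟨g, rfl⟩ := hθ a
        exact ⟨g, rfl⟩
      omega
    · exact h
  have hcomm : ∀ g : ↥X₀, g ∈ Y → ∀ v, op ρ (g : X) (op ρ n v) = op ρ n (op ρ (g : X) v) :=
    fun g hg v => op_comm (Subgroup.mem_centralizer_singleton_iff.mp hg) v
  -- the form
  have hB0 : ∀ a ∈ A, polarQ q a (op ρ n a) = 0 := by
    intro a ha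
    show q (a + op ρ n a) + q a + q (op ρ n a) = 0
    rw [add_comm a, ← nu_sq hR hfpf a]
    simp only [hqi, hAq a ha, add_zero]
  have hBs : ∀ a ∈ A, polarQ q s (op ρ n a) = polarQ q a (op ρ n s) := by
    intro a ha
    have h := hB0 _ (add_mem hs ha)
    rw [map_add, hR.addl, polar_addr hR, polar_addr hR, hB0 s hs, hB0 a ha, zero_add, add_zero] at h
    exact CharTwo.add_eq_zero.mp h
  obtain ⟨b₀, hb₀, hb₀1⟩ : ∃ b ∈ A, polarQ q b (op ρ n s) = 1 := by
    by_contra h
    push Not at h
    refine hx (mem_of_perp hR A hAcard hAq fun a ha => ?_)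
    rw [polar_symm]
    have := h a ha
    revert this
    generalize polarQ q a (op ρ n s) = c
    revert c; decide
  -- the part of `A` moved into `A`
  let J : AddSubgroup V :=
    { carrier := {a | a ∈ A ∧ op ρ n a ∈ A}
      zero_mem' := ⟨A.zero_mem, by rw [map_zero]; exact A.zero_mem⟩
      add_mem' := fun {a b} ha hb => ⟨add_mem ha.1 hb.1, by rw [map_add]; exact add_mem ha.2 hb.2⟩
      neg_mem' := fun {a} ha => ⟨neg_mem ha.1, by rw [map_neg]; exact neg_mem ha.2⟩ }
  have hJn : ∀ a ∈ J, op ρ n a ∈ J := fun a ha =>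
    ⟨ha.2, by rw [nu_sq hR hfpf]; exact add_mem ha.2 ha.1⟩
  have hsJ : s ∉ J := fun h => hx h.2
  have hJle : J ≤ A := fun a ha => ha.1
  by_cases hJ : J = ⊥
  · -- the elements of `E` centralising `n` are determined by one value
    have hsum : ∀ v, ∃ a ∈ A, ∃ b ∈ A, a + op ρ n b = v := by
      let f : ↥A × ↥A → V := fun p => (p.1 : V) + op ρ n p.2
      have hf : Function.Injective f := by
        rintro ⟨a, b⟩ ⟨a', b'⟩ e
        have e' : (a : V) + op ρ n b = a' + op ρ n b' := e
        have h1 : op ρ n ((b : V) - b') = a' - a := by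
          rw [map_sub, sub_eq_sub_iff_add_eq_add, add_comm (a' : V), add_comm _ (a : V), e',
            add_comm]
        have h2 : (b : V) - b' ∈ J := ⟨sub_mem b.2 b'.2, by rw [h1]; exact sub_mem a'.2 a.2⟩
        rw [hJ, AddSubgroup.mem_bot, sub_eq_zero] at h2
        rw [h2] at e'
        exact Prod.ext (Subtype.ext (add_right_cancel e')) (Subtype.ext h2)
      intro v
      obtain ⟨p, hp⟩ := (hf.bijective_of_nat_card_le (by rw [Nat.card_prod, hAcard, hR.card])).2 v
      exact ⟨p.1, p.1.2, p.2, p.2.2, hp⟩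
    let E0 : Subgroup ↥X₀ := E.subgroupOf X₀ ⊓ Y
    have hdet : ∀ e : ↥E0, ∀ a ∈ A, op ρ ((e : ↥X₀) : X) a =
        if op ρ ((e : ↥X₀) : X) b₀ = b₀ then a
        else if polarQ q a (op ρ n s) = 1 then a + s else a := by
      intro e a ha
      have heA := hEA _ (Subgroup.mem_subgroupOf.mp e.2.1)
      have hinv := polar_inv hR ((e : ↥X₀) : X) a (op ρ n b₀)
      rw [hcomm _ e.2.2] at hinv
      have hne : a + s ≠ a := fun h => hs0 (add_eq_left.mp h)
      rcases heA b₀ hb₀ with hb | hb <;> rcases heA a ha with h | h <;> rw [h, hb] at hinv ⊢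
      · rw [if_pos rfl]
      · rw [hR.addl, add_eq_left, hBs b₀ hb₀, hb₀1] at hinv
        exact absurd hinv one_ne_zero
      · rw [if_neg fun h' => hs0 (add_eq_left.mp h'), if_neg]
        rw [map_add, polar_addr hR, add_eq_left] at hinv
        rw [hinv]; decide
      · rw [if_neg fun h' => hs0 (add_eq_left.mp h'), if_pos]
        rw [map_add, polar_addr hR, hR.addl, hR.addl, hBs b₀ hb₀, hb₀1, hB0 s hs, add_zero] at hinv
        revert hinv
        generalize polarQ q a (op ρ n b₀) = c
        generalize polarQ q a (op ρ n s) = d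
        revert c d; decide
    have hinj : Function.Injective
        (fun e : ↥E0 => decide (op ρ ((e : ↥X₀) : X) b₀ = b₀)) := by
      intro e e' h
      have h' : op ρ ((e : ↥X₀) : X) b₀ = b₀ ↔ op ρ ((e' : ↥X₀) : X) b₀ = b₀ := decide_eq_decide.mp h
      refine Subtype.ext (Subtype.ext ?_)
      have heq : ∀ a ∈ A, op ρ ((e : ↥X₀) : X) a = op ρ ((e' : ↥X₀) : X) a := fun a ha => by
        rw [hdet e a ha, hdet e' a ha]; simp only [h']
      refine inv_mul_eq_one.mp (hR.faith (((e : ↥X₀) : X)⁻¹ * ((e' : ↥X₀) : X)) fun v => ?_)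
      show op ρ _ v = v
      obtain ⟨a, ha, b, hb, rfl⟩ := hsum v
      rw [op_mul, map_add (op ρ ((e' : ↥X₀) : X)), hcomm _ e'.2.2, ← heq a ha, ← heq b hb,
        ← hcomm _ e.2.2, ← map_add, op_inv_self]
    have h1 := Nat.card_le_card_of_injective _ hinj
    rw [Nat.card_eq_fintype_card (α := Bool), Fintype.card_bool] at h1
    have h2 : Y.relIndex (E.subgroupOf X₀) ≤ 2 :=
      (Nat.le_of_dvd (Nat.pos_of_ne_zero Subgroup.index_ne_zero_of_finite)
        (Subgroup.relIndex_dvd_index_of_normal Y _)).trans hYi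
    have h3 := ((Y.subgroupOf (E.subgroupOf X₀))).card_mul_index
    rw [Nat.card_congr (Subgroup.subgroupOfEquivOfLe hEX).toEquiv, hE] at h3
    have h4 : Nat.card ↥(Y.subgroupOf (E.subgroupOf X₀)) = Nat.card ↥E0 :=
      Nat.card_congr { toFun := fun x => ⟨x.1.1, x.1.2, x.2⟩
                       invFun := fun x => ⟨⟨x.1, x.2.1⟩, x.2.2⟩
                       left_inv := fun _ => rfl
                       right_inv := fun _ => rfl }
    rw [h4] at h3
    change Nat.card ↥E0 * Y.relIndex (E.subgroupOf X₀) = 32 at h3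
    have := Nat.mul_le_mul h1 h2
    omega
  · -- an element of order five fixing `J`
    obtain ⟨a₀, ha₀, ha₀0⟩ : ∃ a ∈ J, a ≠ 0 := by
      by_contra h
      push Not at h
      exact hJ ((AddSubgroup.eq_bot_iff_forall _).mpr h)
    have hJd : Nat.card J ∣ 64 := hAcard ▸ AddSubgroup.card_dvd_of_le hJle
    have hJ16 : Nat.card J ≤ 16 := by
      have hlt : Nat.card J ≠ 64 := fun h => hsJ
        ((AddSubgroup.eq_of_le_of_card_ge hJle (by rw [h, hAcard])).ge hs)
      have h32 : Nat.card J ≠ 32 := by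
        intro h
        let σ : Equiv.Perm {a : ↥J // (a : V) ≠ 0} :=
          { toFun := fun a => ⟨⟨op ρ n a.1.1, hJn _ a.1.2⟩, fun e => a.2 (op_inj n (e.trans (map_zero _).symm))⟩
            invFun := fun a => ⟨⟨op ρ n (op ρ n a.1.1), hJn _ (hJn _ a.1.2)⟩, fun e => a.2 (op_inj n
              (op_inj n (by rw [map_zero, map_zero]; exact e)))⟩
            left_inv := fun a => Subtype.ext (Subtype.ext (nu_cube hR hfpf a.1.1))
            right_inv := fun a => Subtype.ext (Subtype.ext (nu_cube hR hfpf a.1.1)) }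
        letI : Fintype {a : ↥J // (a : V) ≠ 0} := Fintype.ofFinite _
        haveI : Fact (Nat.Prime 3) := ⟨Nat.prime_three⟩
        have hσ : σ ^ 3 ^ 1 = 1 := Equiv.ext fun a =>
          Subtype.ext (Subtype.ext (nu_cube hR hfpf a.1.1))
        have hc : Fintype.card {a : ↥J // (a : V) ≠ 0} = 31 := by
          letI : Fintype ↥J := Fintype.ofFinite _
          have he : {a : ↥J // (a : V) ≠ 0} ≃ {a : ↥J // ¬ a = (0 : ↥J)} :=
            { toFun := fun a => ⟨a.1, fun h => a.2 (by rw [h]; rfl)⟩
              invFun := fun a => ⟨a.1, fun h => a.2 (Subtype.ext h)⟩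
              left_inv := fun _ => rfl
              right_inv := fun _ => rfl }
          rw [Fintype.card_congr he, Fintype.card_subtype_compl, Fintype.card_subtype_eq,
            ← Nat.card_eq_fintype_card, h]
        obtain ⟨a, ha⟩ := Equiv.Perm.exists_fixed_point_of_prime (p := 3) (by rw [hc]; decide) hσ
        exact a.2 (nu_fixed hR hfpf (congrArg (fun a => (a.1 : ↥J).1) ha))
      have hpos : 0 < Nat.card J := Nat.card_pos
      have h64 := Nat.le_of_dvd (by norm_num) hJd
      by_contra hbig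
      interval_cases hc : Nat.card J <;> omega
    -- two generators
    let lin : V → AddSubgroup V := fun a =>
      { carrier := {v | v = 0 ∨ v = a ∨ v = op ρ n a ∨ v = a + op ρ n a}
        zero_mem' := Or.inl rfl
        add_mem' := fun {u w} hu hw => by
          simp only [Set.mem_setOf_eq] at hu hw ⊢
          have c1 : op ρ n a + a = a + op ρ n a := add_comm _ _
          have c2 : a + op ρ n a + a = op ρ n a := by rw [add_comm a, add_assoc, hR.two, add_zero]
          have c3 : a + op ρ n a + op ρ n a = a := by rw [add_assoc, hR.two, add_zero]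
          have c4 : op ρ n a + (a + op ρ n a) = a := by rw [add_comm]; exact c3
          have c5 : a + (a + op ρ n a) = op ρ n a := add_cancel' hR _ _
          rcases hu with rfl | rfl | rfl | rfl <;> rcases hw with rfl | rfl | rfl | rfl <;>
            simp [hR.two, c1, c2, c3, c4, c5]
        neg_mem' := fun {u} hu => by
          rw [show -u = u from neg_eq_of_add_eq_zero_left (hR.two u)]; exact hu }
    have hlinJ : ∀ a ∈ J, lin a ≤ J := fun a ha v hv => by
      rcases hv with rfl | rfl | rfl | rfl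
      exacts [J.zero_mem, ha, hJn a ha, add_mem ha (hJn a ha)]
    have hlinn : ∀ a v, v ∈ lin a → op ρ n v ∈ lin a := fun a v hv => by
      rcases hv with rfl | rfl | rfl | rfl
      exacts [Or.inl (map_zero _), Or.inr (Or.inr (Or.inl rfl)),
        Or.inr (Or.inr (Or.inr (by rw [nu_sq hR hfpf, add_comm]))),
        Or.inr (Or.inl (by rw [map_add, nu_sq hR hfpf, add_cancel' hR]))]
    obtain ⟨b₁, hb₁, hgen⟩ : ∃ b ∈ J, ∀ a ∈ J, ∃ u ∈ lin a₀, ∃ w ∈ lin b, u + w = a := by
      by_cases h1 : ∀ a ∈ J, a ∈ lin a₀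
      · exact ⟨a₀, ha₀, fun a ha => ⟨a, h1 a ha, 0, Or.inl rfl, add_zero a⟩⟩
      push Not at h1
      obtain ⟨b, hb, hbne⟩ := h1
      have hb0 : b ≠ 0 := fun e => hbne (Or.inl e)
      refine ⟨b, hb, ?_⟩
      let e : Bool → V → V := fun t v => if t then v else 0
      have hmem : ∀ a i j, e i a + e j (op ρ n a) ∈ lin a := fun a i j => by
        cases i <;> cases j <;> simp only [e, Bool.false_eq_true, if_true, if_false, add_zero, zero_add]
        exacts [Or.inl rfl, Or.inr (Or.inr (Or.inl rfl)), Or.inr (Or.inl rfl), Or.inr (Or.inr (Or.inr rfl))]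
      have hker : ∀ a, a ≠ 0 → ∀ i j i' j', e i a + e j (op ρ n a) = e i' a + e j' (op ρ n a) →
          i = i' ∧ j = j' := by
        intro a ha i j i' j' h
        have h1 : op ρ n a ≠ a := fun h => ha (nu_fixed hR hfpf h)
        have h4 : op ρ n a ≠ 0 := fun h => ha (op_inj n (h.trans (map_zero _).symm))
        have h5 : a + op ρ n a ≠ 0 := fun h => h1 (by
          rw [eq_comm, ← neg_eq_of_add_eq_zero_left (hR.two (op ρ n a))]
          exact eq_neg_of_add_eq_zero_left h)
        cases i <;> cases j <;> cases i' <;> cases j' <;>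
          simp only [e, Bool.false_eq_true, if_true, if_false, add_zero, zero_add] at h <;>
          first
            | exact ⟨rfl, rfl⟩
            | exact absurd h h1
            | exact absurd h.symm h1
            | exact absurd h h4
            | exact absurd h.symm h4
            | exact absurd h ha
            | exact absurd h.symm ha
            | exact absurd h h5
            | exact absurd h.symm h5
            | exact absurd (add_eq_left.mp h.symm) h4
            | exact absurd (add_eq_left.mp h) h4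
            | exact absurd (add_eq_right.mp h.symm) ha
            | exact absurd (add_eq_right.mp h) ha
      have hmeet : ∀ v, v ∈ lin a₀ → v ∈ lin b → v = 0 := by
        intro v hv hvb
        rcases hvb with rfl | rfl | rfl | rfl
        · rfl
        · exact absurd hv hbne
        · have := hlinn _ _ (hlinn _ _ hv)
          rw [nu_cube hR hfpf] at this
          exact absurd this hbne
        · have := hlinn _ _ hv
          rw [map_add, nu_sq hR hfpf, add_cancel' hR] at this
          exact absurd this hbne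
      let f : (Bool × Bool) × (Bool × Bool) → ↥J := fun p =>
        ⟨(e p.1.1 a₀ + e p.1.2 (op ρ n a₀)) + (e p.2.1 b + e p.2.2 (op ρ n b)),
          add_mem (hlinJ _ ha₀ (hmem _ _ _)) (hlinJ _ hb (hmem _ _ _))⟩
      have hf : Function.Injective f := by
        rintro ⟨⟨i, j⟩, k, l⟩ ⟨⟨i', j'⟩, k', l'⟩ h
        have h' : (e i a₀ + e j (op ρ n a₀)) + (e k b + e l (op ρ n b))
          = (e i' a₀ + e j' (op ρ n a₀)) + (e k' b + e l' (op ρ n b)) := congrArg Subtype.val h
        have hd : (e i a₀ + e j (op ρ n a₀)) - (e i' a₀ + e j' (op ρ n a₀))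
            = (e k' b + e l' (op ρ n b)) - (e k b + e l (op ρ n b)) := by
          rw [sub_eq_sub_iff_add_eq_add, h']; exact add_comm _ _
        have h0 := hmeet _ (sub_mem (hmem a₀ i j) (hmem a₀ i' j')) (hd ▸ sub_mem (hmem b k' l') (hmem b k l))
        obtain ⟨r1, r2⟩ := hker a₀ ha₀0 i j i' j' (sub_eq_zero.mp h0)
        obtain ⟨r3, r4⟩ := hker b hb0 k' l' k l (sub_eq_zero.mp (hd.symm.trans h0))
        rw [r1, r2, r3, r4]
      intro a ha
      obtain ⟨p, hp⟩ := (hf.bijective_of_nat_card_le (by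
        simp only [Nat.card_eq_fintype_card (α := (Bool × Bool) × (Bool × Bool)), Fintype.card_prod,
          Fintype.card_bool]
        exact hJ16)).2 ⟨a, ha⟩
      exact ⟨_, hmem _ _ _, _, hmem _ _ _, congrArg Subtype.val hp⟩
    -- the kernel on `J`
    have hJY : ∀ g : ↥Y, ∀ a ∈ J, op ρ ((g : ↥X₀) : X) a ∈ J := fun g a ha =>
      ⟨hXA _ (g : ↥X₀).2 a ha.1, by
        rw [← hcomm _ g.2]; exact hXA _ (g : ↥X₀).2 _ ha.2⟩
    let K : Subgroup ↥Y :=
      { carrier := {g | ∀ a ∈ J, op ρ ((g : ↥X₀) : X) a = a}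
        one_mem' := fun a _ => op_one a
        mul_mem' := fun {g h} hg hh a ha => by
          rw [Subgroup.coe_mul, Subgroup.coe_mul, op_mul, hh a ha, hg a ha]
        inv_mem' := fun {g} hg a ha => by
          conv_lhs => rw [← hg a ha]
          rw [Subgroup.coe_inv, Subgroup.coe_inv, op_inv_self] }
    haveI : K.Normal := ⟨fun k hk g a ha => by
      have h1 := hJY g⁻¹ a ha
      simp only [Subgroup.coe_mul, Subgroup.coe_inv] at h1 ⊢
      rw [op_mul, op_mul, hk _ h1, op_self_inv]⟩
    have hfix4 : ∀ g : ↥Y, ∀ a, op ρ ((g : ↥X₀) : X) a = a → ∀ v ∈ lin a,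
        op ρ ((g : ↥X₀) : X) v = v := by
      intro g a ha v hv
      rcases hv with rfl | rfl | rfl | rfl
      exacts [map_zero _, ha, by rw [hcomm _ g.2, ha], by rw [map_add, hcomm _ g.2, ha]]
    have hKi : K.index ≤ 256 := by
      have hlift : ∀ g h : ↥Y, op ρ ((g : ↥X₀) : X) a₀ = op ρ ((h : ↥X₀) : X) a₀ →
          op ρ ((g : ↥X₀) : X) b₁ = op ρ ((h : ↥X₀) : X) b₁ → g⁻¹ * h ∈ K := by
        intro g h e1 e2 a ha
        have k1 : ∀ v, op ρ ((g : ↥X₀) : X) v = op ρ ((h : ↥X₀) : X) v →
            op ρ (((g⁻¹ * h : ↥Y) : ↥X₀) : X) v = v := fun v e => by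
          rw [Subgroup.coe_mul, Subgroup.coe_inv, Subgroup.coe_mul, Subgroup.coe_inv, op_mul, ← e,
            op_inv_self]
        obtain ⟨u, hu, w, hw, rfl⟩ := hgen a ha
        rw [map_add, hfix4 _ _ (k1 _ e1) u hu, hfix4 _ _ (k1 _ e2) w hw]
      rw [Subgroup.index_eq_card]
      let F : ↥Y ⧸ K → ↥J × ↥J := fun c =>
        (⟨op ρ ((c.out : ↥X₀) : X) a₀, hJY _ a₀ ha₀⟩, ⟨op ρ ((c.out : ↥X₀) : X) b₁, hJY _ b₁ hb₁⟩)
      have hF : Function.Injective F := by
        intro c d e
        rw [← QuotientGroup.out_eq' c, ← QuotientGroup.out_eq' d, QuotientGroup.eq]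
        exact hlift _ _ (congrArg (fun p : ↥J × ↥J => (p.1 : V)) e)
          (congrArg (fun p : ↥J × ↥J => (p.2 : V)) e)
      refine (Nat.card_le_card_of_injective F hF).trans ?_
      rw [Nat.card_prod]
      exact le_of_le_of_eq (Nat.mul_le_mul hJ16 hJ16) rfl
    let θY : ↥Y →* alternatingGroup (Fin 6) := θ.comp Y.subtype
    have hθYs : Function.Surjective θY := fun a => by
      obtain ⟨g, hg, e⟩ := hθY.ge (Subgroup.mem_top a)
      exact ⟨⟨g, hg⟩, e⟩
    have hθK : K.map θY = ⊤ := by
      rcases (Subgroup.Normal.map (H := K) inferInstance θY hθYs).eq_bot_or_eq_top with h | h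
      · exfalso
        have h1 : Nat.card ↥(alternatingGroup (Fin 6)) ≤ K.index := by
          rw [Subgroup.index_eq_card]
          refine Nat.card_le_card_of_surjective
            (QuotientGroup.lift K θY fun g hg => (Subgroup.map_eq_bot_iff K).mp h hg) ?_
          intro a
          obtain ⟨g, rfl⟩ := hθYs a
          exact ⟨g, rfl⟩
        omega
      · exact h
    haveI : Fact (Nat.Prime 5) := ⟨by norm_num⟩
    obtain ⟨k, hk⟩ := exists_prime_orderOf_dvd_card' (G := ↥K) 5 (by
      have h1 := Subgroup.card_map_dvd (H := K) θY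
      rw [hθK, Subgroup.card_top, h360] at h1
      exact (show 5 ∣ 360 by norm_num).trans h1)
    set g : X := (((k : ↥Y) : ↥X₀) : X) with hgdef
    have hg5 : orderOf g = 5 := by rw [hgdef, Subgroup.orderOf_coe, Subgroup.orderOf_coe, Subgroup.orderOf_coe, hk]
    have hgp : g ^ 5 = 1 := by rw [← hg5, pow_orderOf_eq_one]
    have hgA : ∀ a ∈ A, op ρ g a = a := by
      let Fx : AddSubgroup V :=
        { carrier := {a | a ∈ A ∧ op ρ g a = a}
          zero_mem' := ⟨A.zero_mem, map_zero _⟩
          add_mem' := fun {a b} ha hb => ⟨add_mem ha.1 hb.1, by rw [map_add, ha.2, hb.2]⟩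
          neg_mem' := fun {a} ha => ⟨neg_mem ha.1, by rw [map_neg, ha.2]⟩ }
      have hFJ : ∀ a ∈ J, a ∈ Fx := fun a ha => ⟨ha.1, k.2 a ha⟩
      have hFs : s ∈ Fx := ⟨hs, hXs _ ((k : ↥Y) : ↥X₀).2⟩
      have hFle : Fx ≤ A := fun a ha => ha.1
      by_contra hne
      push Not at hne
      obtain ⟨a, ha, hga⟩ := hne
      have hFd : Nat.card Fx ∣ 64 := hAcard ▸ AddSubgroup.card_dvd_of_le hFle
      have hFlt : Nat.card Fx < 64 := by
        refine lt_of_le_of_ne (Nat.le_of_dvd (by norm_num) hFd) fun h => hga ?_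
        exact ((AddSubgroup.eq_of_le_of_card_ge hFle (by rw [h, hAcard])).ge ha).2
      have hF5 : 5 ≤ Nat.card Fx := by
        let f : Fin 5 → ↥Fx := ![⟨s, hFs⟩, ⟨0, Fx.zero_mem⟩, ⟨a₀, hFJ _ ha₀⟩,
          ⟨_, hFJ _ (hJn a₀ ha₀)⟩, ⟨_, hFJ _ (hJn _ (hJn a₀ ha₀))⟩]
        have h1 : op ρ n a₀ ≠ a₀ := fun h => ha₀0 (nu_fixed hR hfpf h)
        have h2 : op ρ n (op ρ n a₀) ≠ op ρ n a₀ := fun h => h1 (op_inj n h)
        have h3 : op ρ n (op ρ n a₀) ≠ a₀ := fun h => h1 (by
          conv_rhs => rw [← nu_cube hR hfpf a₀, h])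
        have h4 : op ρ n a₀ ≠ 0 := fun h => ha₀0 (op_inj n (h.trans (map_zero _).symm))
        have h5 : op ρ n (op ρ n a₀) ≠ 0 := fun h => h4 (op_inj n (h.trans (map_zero _).symm))
        have h6 : s ≠ a₀ := fun h => hsJ (h ▸ ha₀)
        have h7 : s ≠ op ρ n a₀ := fun h => hsJ (h ▸ hJn a₀ ha₀)
        have h8 : s ≠ op ρ n (op ρ n a₀) := fun h => hsJ (h ▸ hJn _ (hJn a₀ ha₀))
        have hf : Function.Injective f := by
          intro i j e
          have e' := congrArg Subtype.val e
          fin_cases i <;> fin_cases j <;> simp only [f, Fin.zero_eta, Fin.mk_one, Fin.reduceFinMk,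
            Matrix.cons_val] at e' <;> first | rfl | exact absurd e' (Ne.symm ‹_›) | exact absurd e' ‹_›
        simpa using Nat.card_le_card_of_injective f hf
      have h5it : ∀ v, op ρ g (op ρ g (op ρ g (op ρ g (op ρ g v)))) = v := fun v => by
        rw [← op_mul, ← op_mul, ← op_mul, ← op_mul,
          show g * g * g * g * g = g ^ 5 by simp [pow_succ, mul_assoc], hgp, op_one]
      have hgm : ∀ v ∈ A, op ρ g v ∈ A := fun v hv => hXA _ ((k : ↥Y) : ↥X₀).2 v hv
      let σ : Equiv.Perm {v : ↥A // ¬ ((v : V) ∈ Fx)} :=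
        { toFun := fun v => ⟨⟨op ρ g v.1.1, hgm _ v.1.2⟩, fun h => v.2 ⟨v.1.2, op_inj g h.2⟩⟩
          invFun := fun v => ⟨⟨op ρ g (op ρ g (op ρ g (op ρ g v.1.1))),
            hgm _ (hgm _ (hgm _ (hgm _ v.1.2)))⟩, fun h => v.2 ⟨v.1.2, op_inj g (op_inj g
              (op_inj g (op_inj g h.2)))⟩⟩
          left_inv := fun v => Subtype.ext (Subtype.ext (h5it v.1.1))
          right_inv := fun v => Subtype.ext (Subtype.ext (h5it v.1.1)) }
      letI : Fintype {v : ↥A // ¬ ((v : V) ∈ Fx)} := Fintype.ofFinite _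
      letI : Fintype ↥A := Fintype.ofFinite _
      have hσ : σ ^ 5 ^ 1 = 1 := Equiv.ext fun v => Subtype.ext (Subtype.ext (h5it v.1.1))
      have hc : Fintype.card {v : ↥A // ¬ ((v : V) ∈ Fx)} = 64 - Nat.card Fx := by
        rw [Fintype.card_subtype_compl, ← Nat.card_eq_fintype_card, hAcard, ← Nat.card_eq_fintype_card,
          Nat.card_congr (Equiv.subtypeSubtypeEquivSubtype (p := fun x => x ∈ A) (q := fun x => x ∈ Fx) fun {x} h => h.1)]
      obtain ⟨v, hv⟩ := Equiv.Perm.exists_fixed_point_of_prime (p := 5) (by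
        rw [hc]
        intro h5d
        interval_cases hc' : Nat.card Fx <;> omega) hσ
      exact v.2 ⟨v.1.2, congrArg (fun w => (w.1 : ↥A).1) hv⟩
    have hgV : ∀ v, op ρ g v = v := by
      intro v
      have hd : op ρ g v + v ∈ A := mem_of_perp hR A hAcard hAq fun a ha => by
        have h := polar_inv hR g v a
        rw [hgA a ha] at h
        rw [hR.addl, h]; exact ZModModule.add_self _
      have hgd := hgA _ hd
      rw [map_add] at hgd
      -- the square of `g` is trivial
      have h2 : op ρ g (op ρ g v) = v := by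
        have := congrArg (fun w => w + op ρ g v) hgd
        simpa [add_assoc, add_comm, add_left_comm, hR.two, add_cancel' hR] using this
      have h5it : op ρ g (op ρ g (op ρ g (op ρ g (op ρ g v)))) = v := by
        rw [← op_mul, ← op_mul, ← op_mul, ← op_mul,
          show g * g * g * g * g = g ^ 5 by simp [pow_succ, mul_assoc], hgp, op_one]
      rwa [h2, h2] at h5it
    have hg1 := hR.faith g hgV
    rw [hg1, orderOf_one] at hg5
    exact absurd hg5 (by norm_num)

end

end Cfsg.Agent.LFLine52
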