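import Mathlib
import Cfsg.Agent.Lib.LFSetting89
import Cfsg.Agent.Lib.LFLineMod52
import Cfsg.Agent.Lib.LFLocal52
import Cfsg.Agent.Lib.LargeExtraspecialSetting

/-!
The elementary abelian group of order eight and its normaliser in a group of large Fischer type,
from the structure of the stabiliser of a conjugate of `z` in `Q`.
-/

set_option autoImplicit false
set_option maxHeartbeats 1000000
set_option linter.style.haveILetI false
set_option linter.unusedSectionVars false

namespace Cfsg.Agent.LFGlue52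

open Subgroup Cfsg.Agent.LargeExtraspecial Cfsg.Agent.LargeExtraspecialPair
  Cfsg.Agent.FischerFrame18 Cfsg.Agent.LFLine52

universe u

attribute [local instance] Classical.propDecidable

section

variable {G : Type u} [Group G] [Finite G]

theorem transport {Q : Subgroup G} {z : G} (h : LHyp Q z) {a c d : G}
    (e : a * (c * z * c⁻¹) * a⁻¹ = d * z * d⁻¹) {q : G}
    (hq : q ∈ Q.map (MulAut.conj c).toMonoidHom) :
    a * q * a⁻¹ ∈ Q.map (MulAut.conj d).toMonoidHom := by
  obtain ⟨p, hp, rfl⟩ := hq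
  refine h.map_conj_congr (a := a * c) ?_ ⟨p, hp, ?_⟩
  · rw [← e]; group
  · simp only [MulEquiv.coe_toMonoidHom, MulAut.conj_apply]; group

theorem main (z : G) (Q : Subgroup (centralizer ({z} : Set G))) [Q.Normal]
    (hF : Cfsg.IsOfLargeFischerTypeAt z Q)
    (h42 : ∀ (g : G), (∃ hsc : g * z * g⁻¹ ∈ centralizer ({z} : Set G),
        (⟨g * z * g⁻¹, hsc⟩ : centralizer ({z} : Set G)) ∈ Q) → g * z * g⁻¹ ≠ z →
      ∀ (X E : Subgroup ((centralizer ({z} : Set G)) ⧸ Q)),
      X = ((centralizer ({z} : Set G) ⊓ centralizer ({g * z * g⁻¹} : Set G)).subgroupOf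
        (centralizer ({z} : Set G))).map (QuotientGroup.mk' Q) →
      E = (((Q.map (centralizer ({z} : Set G)).subtype).map (MulAut.conj g).toMonoidHom ⊓
        centralizer ({z} : Set G)).subgroupOf (centralizer ({z} : Set G))).map (QuotientGroup.mk' Q) →
      Cfsg.IsElementaryAbelian 2 ((Q.map (centralizer ({z} : Set G)).subtype) ⊓
        (Q.map (centralizer ({z} : Set G)).subtype).map (MulAut.conj g).toMonoidHom) ∧
      Nat.card ↥((Q.map (centralizer ({z} : Set G)).subtype) ⊓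
        (Q.map (centralizer ({z} : Set G)).subtype).map (MulAut.conj g).toMonoidHom) = 2 ^ 7 ∧
      E ≤ X ∧ Nat.card E = 32 ∧ ∃ _ : (E.subgroupOf X).Normal,
        Nonempty (↥X ⧸ E.subgroupOf X ≃* alternatingGroup (Fin 6))) :
    ∃ V : Subgroup G, Cfsg.IsElementaryAbelian 2 V ∧ Nat.card V = 8 ∧ z ∈ V ∧
      ∃ R : Subgroup G, R = (Cfsg.pCore 2 ↥(normalizer (V : Set G))).map
          (normalizer (V : Set G)).subtype ∧
        Cfsg.IsSpecial 2 ↥R ∧ Nat.card R = 2 ^ 15 ∧ (center ↥R).map R.subtype = V ∧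
        ∃ _ : (R.subgroupOf (normalizer (V : Set G))).Normal,
          Nonempty (↥(normalizer (V : Set G)) ⧸ R.subgroupOf (normalizer (V : Set G)) ≃*
            Matrix.SpecialLinearGroup (Fin 3) (ZMod 2) × ↥(alternatingGroup (Fin 6))) := by
  classical
  obtain ⟨V, _, zc, π, ρ, q, n, Mb, D⟩ := LFSetting89.exists_data z Q hF
  obtain ⟨⟨hz, hFit, hQex, -, -⟩, -⟩ := hF
  obtain ⟨g, ⟨hsc, hsQ⟩, hne⟩ := D.moved
  set Q₀ := Q.map (centralizer ({z} : Set G)).subtype with hQ₀
  have h : LHyp Q₀ z := (LargeExtraspecialSetting.lhyp_of_fitting hz Q hFit hQex).1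
  set s := g * z * g⁻¹ with hs
  set sC : (centralizer ({z} : Set G)) := ⟨s, hsc⟩ with hsC
  set Qs := Q₀.map (MulAut.conj g).toMonoidHom with hQs
  obtain ⟨hEl, hDc, hEX, hE32, hEn, ⟨eA⟩⟩ := h42 g ⟨hsc, hsQ⟩ hne _ _ rfl rfl
  set X : Subgroup ((centralizer ({z} : Set G)) ⧸ Q) :=
    (((centralizer ({z} : Set G)) ⊓ centralizer ({s} : Set G)).subgroupOf (centralizer ({z} : Set G))).map (QuotientGroup.mk' Q) with hX
  set E : Subgroup ((centralizer ({z} : Set G)) ⧸ Q) := ((Qs ⊓ (centralizer ({z} : Set G))).subgroupOf (centralizer ({z} : Set G))).map (QuotientGroup.mk' Q) with hE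
  have hcard0 : Nat.card Q₀ = 2 ^ 13 := by
    rw [hQ₀, Subgroup.card_map_of_injective (centralizer ({z} : Set G)).subtype_injective]; exact D.card_Q
  have hcardm : ∀ a : G, Nat.card (Q₀.map (MulAut.conj a).toMonoidHom) = 2 ^ 13 := fun a => by
    rw [Subgroup.card_map_of_injective (MulAut.conj a).injective]; exact hcard0
  have hsQ₀ : s ∈ Q₀ := ⟨sC, hsQ, rfl⟩
  have P : Pair Q₀ Qs z s := pair_of_conj h hsQ₀ hne (by rw [hcard0]; norm_num)
  have hR := D.orth
  have hL := D.link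
  have two : ∀ v : V, v + v = 0 := hR.two
  have eqπ : ∀ {a b : (centralizer ({z} : Set G))}, a ∈ Q → b ∈ Q → π a = π b → a = b⁻¹ ∨ a = zc * b⁻¹ := by
    intro a b ha hb e
    rcases (hL.ker _ (Q.mul_mem ha hb)).mp (by rw [hL.add a ha b hb, e, two]) with e' | e'
    · exact Or.inl (eq_inv_of_mul_eq_one_left e')
    · exact Or.inr (eq_mul_inv_of_mul_eq e')
  have π1 : π 1 = 0 := (hL.ker 1 Q.one_mem).mpr (Or.inl rfl)
  have hzcQ : zc ∈ Q := D.ext.mem
  -- the totally singular subgroup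
  let A : AddSubgroup V :=
    { carrier := {v | ∃ y : (centralizer ({z} : Set G)), y ∈ Q ∧ (y : G) ∈ Qs ∧ π y = v}
      zero_mem' := ⟨1, Q.one_mem, Qs.one_mem, π1⟩
      add_mem' := by
        rintro _ _ ⟨y, hy, hy', rfl⟩ ⟨y', hy2, hy2', rfl⟩
        exact ⟨y * y', Q.mul_mem hy hy2, Qs.mul_mem hy' hy2', hL.add y hy y' hy2⟩
      neg_mem' := by
        intro v hv
        rw [show -v = v from neg_eq_of_add_eq_zero_left (two v)]
        exact hv }
  have hDsq : ∀ y : (centralizer ({z} : Set G)), y ∈ Q → (y : G) ∈ Qs → y * y = 1 := fun y hy hy' =>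
    Subtype.ext (P.E_sq (e := (y : G)) ⟨⟨y, hy, rfl⟩, hy'⟩)
  have hAq : ∀ a ∈ A, q a = 0 := by
    rintro _ ⟨y, hy, hy', rfl⟩
    rw [hL.qval y hy, if_pos (hDsq y hy hy')]
  let D' : Subgroup (centralizer ({z} : Set G)) := Q ⊓ Qs.comap (centralizer ({z} : Set G)).subtype
  have hD' : Nat.card D' = 2 ^ 7 := by
    have e : D'.map (centralizer ({z} : Set G)).subtype = Q₀ ⊓ Qs := by
      ext w
      constructor
      · rintro ⟨y, hy, rfl⟩
        exact ⟨⟨y, hy.1, rfl⟩, hy.2⟩
      · rintro ⟨⟨y, hy, rfl⟩, hw⟩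
        exact ⟨y, ⟨hy, hw⟩, rfl⟩
    rw [← hDc, ← e, Subgroup.card_map_of_injective (centralizer ({z} : Set G)).subtype_injective]
  have hAcard : Nat.card A = 64 := by
    let f : ↥D' →* Multiplicative A := MonoidHom.mk'
      (fun y => Multiplicative.ofAdd ⟨π y, y, y.2.1, y.2.2, rfl⟩) fun a b => by
        rw [← ofAdd_add]
        exact congrArg Multiplicative.ofAdd (Subtype.ext (hL.add _ a.2.1 _ b.2.1))
    have hf : Function.Surjective f := by
      intro v
      obtain ⟨y, hy, hy', e⟩ := (Multiplicative.toAdd v).2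
      exact ⟨⟨y, hy, hy'⟩, Multiplicative.toAdd.injective (Subtype.ext e)⟩
    have hzD : zc ∈ D' := ⟨hzcQ, show (zc : G) ∈ Qs by rw [D.zc_val]; exact P.zQ'⟩
    have hk : Nat.card f.ker = 2 := by
      have hmem : ∀ y : ↥D', y ∈ f.ker ↔ (y : (centralizer ({z} : Set G))) = 1 ∨ (y : (centralizer ({z} : Set G))) = zc := fun y => by
        rw [MonoidHom.mem_ker, ← hL.ker _ y.2.1]
        exact ⟨fun e => congrArg (fun a => ((Multiplicative.toAdd a : A) : V)) e,
          fun e => Multiplicative.toAdd.injective (Subtype.ext e)⟩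
      refine Nat.card_eq_two_iff.mpr ⟨1, ⟨⟨zc, hzD⟩, (hmem _).mpr (Or.inr rfl)⟩, ?_, ?_⟩
      · intro e
        exact D.ext.ne_one (congrArg (fun a : f.ker => ((a : ↥D') : (centralizer ({z} : Set G)))) e).symm
      · ext ⟨y, hy⟩
        simp only [Set.mem_insert_iff, Set.mem_singleton_iff, Set.mem_univ, iff_true]
        exact ((hmem y).mp hy).imp (fun e => Subtype.ext (Subtype.ext e))
          fun e => Subtype.ext (Subtype.ext e)
    have h1 := Subgroup.card_eq_card_quotient_mul_card_subgroup f.ker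
    rw [Nat.card_congr (QuotientGroup.quotientKerEquivOfSurjective f hf).toEquiv, hk, hD',
      Nat.card_congr Multiplicative.toAdd] at h1
    omega
  have hsA : π sC ∈ A := ⟨sC, hsQ, P.h'.mem, rfl⟩
  have hs0 : π sC ≠ 0 := fun e => by
    rcases (hL.ker _ hsQ).mp e with e' | e'
    · exact P.h'.ne_one (congrArg Subtype.val e')
    · exact hne ((congrArg Subtype.val e').trans D.zc_val)
  have hXs : ∀ a ∈ X, op ρ a (π sC) = π sC := by
    rintro _ ⟨a, ha, rfl⟩
    show ρ (a : (centralizer ({z} : Set G)) ⧸ Q) (π sC) = π sC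
    rw [← hL.equiv a sC hsQ]
    exact congrArg π (Subtype.ext (mul_inv_eq_iff_eq_mul.mpr
      (mem_centralizer_singleton_iff.mp (mem_inf.mp (mem_subgroupOf.mp ha)).2)))
  have hXA : ∀ a ∈ X, ∀ v ∈ A, op ρ a v ∈ A := by
    rintro _ ⟨a, ha, rfl⟩ _ ⟨y, hy, hy', rfl⟩
    refine ⟨a * y * a⁻¹, (inferInstance : Q.Normal).conj_mem y hy a, ?_, hL.equiv a y hy⟩
    exact P.h'.norm _ (mem_centralizer_singleton_iff.mp (mem_inf.mp (mem_subgroupOf.mp ha)).2) _ hy'
  have hEA : ∀ a ∈ E, ∀ v ∈ A, op ρ a v = v ∨ op ρ a v = v + π sC := by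
    rintro _ ⟨a, ha, rfl⟩ _ ⟨y, hy, hy', rfl⟩
    have e : op ρ (QuotientGroup.mk' Q a) (π y) = π (a * y * a⁻¹) := (hL.equiv a y hy).symm
    rcases P.h'.conj _ (mem_inf.mp (mem_subgroupOf.mp ha)).1 _ hy' with e' | e'
    · exact Or.inl (by rw [e, show a * y * a⁻¹ = y from Subtype.ext e'])
    · exact Or.inr (by
        rw [e, show a * y * a⁻¹ = sC * y from Subtype.ext e', hL.add sC hsQ y hy, add_comm])
  let θX : ↥X →* alternatingGroup (Fin 6) :=
    eA.toMonoidHom.comp (QuotientGroup.mk' (E.subgroupOf X))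
  have hθX : Function.Surjective θX := eA.surjective.comp (QuotientGroup.mk'_surjective _)
  haveI : Finite ((centralizer ({z} : Set G)) ⧸ Q) := inferInstance
  obtain ⟨y, hy, hy', eπ⟩ := nu_mem hR D.fpf D.conj_n A hAcard hAq hsA hs0 X E hEX hXs hXA hEA
    hE32 θX hθX
  obtain ⟨nh, hnh⟩ := QuotientGroup.mk'_surjective Q n
  set x₀ : (centralizer ({z} : Set G)) := nh * sC * nh⁻¹ with hx₀
  have hx₀Q : x₀ ∈ Q := (inferInstance : Q.Normal).conj_mem sC hsQ nh
  have hπx : π x₀ = op ρ n (π sC) := by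
    rw [hx₀, hL.equiv nh sC hsQ, ← hnh]; rfl
  set x : G := (x₀ : G) with hx
  set t : G := (nh : G) with ht
  have hxe : x = t * s * t⁻¹ := rfl
  have hxQs : x ∈ Qs := by
    rcases eqπ hx₀Q hy (hπx.trans eπ.symm) with e | e <;> rw [hx, e]
    · exact Qs.inv_mem hy'
    · rw [coe_mul, D.zc_val]; exact Qs.mul_mem P.zQ' (Qs.inv_mem hy')
  have hxQ : x ∈ Q₀ := ⟨x₀, hx₀Q, rfl⟩
  have hxz : x ≠ z := fun e => by
    apply hne
    have htz : t * z = z * t := mem_centralizer_singleton_iff.mp nh.2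
    calc s = t⁻¹ * x * t := by rw [hxe]; group
      _ = t⁻¹ * (z * t) := by rw [e]; group
      _ = z := by rw [← htz]; group
  have hnus : op ρ n (π sC) ≠ π sC := fun e => hs0 (nu_fixed hR D.fpf e)
  have hxs : x ≠ s := fun e =>
    hnus (by rw [← hπx, show x₀ = sC from Subtype.ext e])
  have hxzs : x ≠ z * s := fun e => hnus (by
    rw [← hπx, show x₀ = zc * sC from Subtype.ext (show x = (zc : G) * s by rw [D.zc_val]; exact e),
      hL.add zc hzcQ sC hsQ, (hL.ker zc hzcQ).mpr (Or.inr rfl), zero_add])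
  set Qx := Q₀.map (MulAut.conj (t * g)).toMonoidHom with hQx
  have hxz' : x = (t * g) * z * (t * g)⁻¹ := by rw [hxe, hs]; group
  have hXh : LHyp Qx x := hxz' ▸ h.map_conj (t * g)
  have hQ1 : ∀ w ∈ Q₀, w ∈ Q₀.map (MulAut.conj (1 : G)).toMonoidHom := fun w hw => ⟨w, hw, by simp⟩
  have T : LFLocal52.Tri Q₀ Qs Qx z s x := {
    pair := P
    hx := hXh
    xQ := hxQ
    xQs := hxQs
    zQx := h.z_mem_conj (hxz' ▸ hxQ) (hxz' ▸ hxz) (by rw [hcard0]; norm_num)
    sQx := by
      obtain ⟨w, hw, e⟩ := P.h'.z_mem_conj (g := t) (hxe ▸ hxQs) (hxe ▸ hxs)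
        (by rw [hQs, hcardm]; norm_num)
      obtain ⟨p, hp, rfl⟩ := hw
      refine ⟨p, hp, ?_⟩
      rw [← e]
      simp only [MulEquiv.coe_toMonoidHom, MulAut.conj_apply]
      group
    x_ne_z := hxz
    x_ne_s := hxs
    x_ne_zs := hxzs
    cardQ := hcard0
    cardQs := hcardm g
    cardE := hDc
    cQ := fun a ha w hw => transport h (c := 1) (by simpa using ha) (hQ1 w hw)
    cQs := fun a ha w hw => transport h (a := a) (c := g) (d := t * g) (ha.trans hxz') hw
    cQx := fun a ha w hw => transport h (a := a) (c := t * g) (d := g) (by rw [← hxz', ha]) hw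
    selfperp := by
      rintro _ ⟨yC, hyQ, rfl⟩ hcomm
      refine ⟨⟨yC, hyQ, rfl⟩, ?_⟩
      obtain ⟨y', hy2, hy2', e⟩ := mem_of_perp hR A hAcard hAq (v := π yC) fun a ha => by
        obtain ⟨d, hd, hd', rfl⟩ := ha
        rw [hL.polar yC hyQ d hd, if_pos (Subtype.ext (hcomm d ⟨⟨d, hd, rfl⟩, hd'⟩))]
      rcases eqπ hyQ hy2 e.symm with e' | e' <;> rw [e']
      · exact Qs.inv_mem hy2'
      · rw [map_mul, map_inv, show (centralizer ({z} : Set G)).subtype zc = z from D.zc_val]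
        exact Qs.mul_mem P.zQ' (Qs.inv_mem hy2')
    move := by
      intro a haz has
      let aC : (centralizer ({z} : Set G)) := ⟨a, mem_centralizer_singleton_iff.mpr haz⟩
      have hs' : op ρ (aC : (centralizer ({z} : Set G)) ⧸ Q) (π sC) = π sC :=
        hXs _ ⟨aC, mem_subgroupOf.mpr (mem_inf.mpr ⟨aC.2, mem_centralizer_singleton_iff.mpr has⟩),
          rfl⟩
      have hax : π (aC * x₀ * aC⁻¹) = op ρ (aC : (centralizer ({z} : Set G)) ⧸ Q) (op ρ n (π sC)) := by
        rw [hL.equiv aC x₀ hx₀Q, hπx]; rfl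
      have hm : ((aC : (centralizer ({z} : Set G)) ⧸ Q) * n * (aC : (centralizer ({z} : Set G)) ⧸ Q)⁻¹) * (aC : (centralizer ({z} : Set G)) ⧸ Q) = (aC : (centralizer ({z} : Set G)) ⧸ Q) * n := by group
      have hv : π (aC * x₀ * aC⁻¹) = π x₀ ∨ π (aC * x₀ * aC⁻¹) = π (sC * x₀) := by
        rcases D.conj_n (aC : (centralizer ({z} : Set G)) ⧸ Q) with e | e <;> rw [e] at hm
        · left; rw [hax, ← op_mul, ← hm, op_mul, hs', hπx]
        · right
          rw [hax, ← op_mul, ← hm, op_mul, hs', pow_two, op_mul, nu_sq hR D.fpf,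
            hL.add sC hsQ x₀ hx₀Q, hπx, add_comm]
      have hmem := (inferInstance : Q.Normal).conj_mem x₀ hx₀Q aC
      have hinv : ∀ w : (centralizer ({z} : Set G)), w ∈ Q → (w : G) ∈ Qs → (w : G)⁻¹ = w := fun w hw hw' =>
        inv_eq_of_mul_eq_one_right (congrArg Subtype.val (hDsq w hw hw'))
      have hxinv : x⁻¹ = x := hinv x₀ hx₀Q hxQs
      have hsxinv : (s * x)⁻¹ = s * x := hinv (sC * x₀) (Q.mul_mem hsQ hx₀Q)
        (Qs.mul_mem P.h'.mem hxQs)
      rcases hv with e | e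
      · rcases eqπ hmem hx₀Q e with e' | e'
        · exact Or.inl ((congrArg Subtype.val e').trans hxinv)
        · refine Or.inr (Or.inl ?_)
          exact (congrArg Subtype.val e').trans
            (show (zc : G) * x⁻¹ = z * x by rw [D.zc_val, hxinv])
      · rcases eqπ hmem (Q.mul_mem hsQ hx₀Q) e with e' | e'
        · exact Or.inr (Or.inr (Or.inl ((congrArg Subtype.val e').trans hsxinv)))
        · refine Or.inr (Or.inr (Or.inr ?_))
          exact (congrArg Subtype.val e').trans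
            (show (zc : G) * (s * x)⁻¹ = z * s * x by rw [D.zc_val, hsxinv]; exact (mul_assoc z s x).symm) }
  -- the map onto the alternating group
  let ιK : ↥((centralizer ({z} : Set G)) ⊓ centralizer ({s} : Set G)) →* (centralizer ({z} : Set G)) ⧸ Q :=
    (QuotientGroup.mk' Q).comp (Subgroup.inclusion inf_le_left)
  have hιX : ∀ a, ιK a ∈ X := fun a => ⟨_, mem_subgroupOf.mpr a.2, rfl⟩
  let θ : ↥((centralizer ({z} : Set G)) ⊓ centralizer ({s} : Set G)) →* alternatingGroup (Fin 6) :=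
    θX.comp (ιK.codRestrict X hιX)
  have hθ : Function.Surjective θ := by
    refine hθX.comp ?_
    rintro ⟨_, a, ha, rfl⟩
    exact ⟨⟨a, mem_subgroupOf.mp ha⟩, rfl⟩
  have hθE : ∀ a, θ a = 1 ↔ ιK a ∈ E := fun a => by
    show eA (QuotientGroup.mk' (E.subgroupOf X) (ιK.codRestrict X hιX a)) = 1 ↔ _
    rw [map_eq_one_iff _ eA.injective, QuotientGroup.mk'_apply, QuotientGroup.eq_one_iff,
      mem_subgroupOf]
    rfl
  refine LFLocal52.structure_normalizer T θ hθ fun a => (hθE a).trans ⟨fun ha => ?_, fun ha => ?_⟩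
  · obtain ⟨w, hw, e⟩ := ha
    have hwq : (Subgroup.inclusion inf_le_left a : (centralizer ({z} : Set G))) * w⁻¹ ∈ Q := by
      rw [← QuotientGroup.eq_one_iff, QuotientGroup.mk_mul, QuotientGroup.mk_inv, mul_inv_eq_one]
      exact e.symm
    obtain ⟨hwQs, hwC⟩ := mem_inf.mp (mem_subgroupOf.mp hw)
    have hws : (w : G) * s = s * w := P.h'.comm _ hwQs
    have has : (a : G) * s = s * a :=
      mem_centralizer_singleton_iff.mp (mem_inf.mp a.2).2
    have hq : (a : G) * (w : G)⁻¹ ∈ P.C := P.mem_C.mpr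
      ⟨⟨_, hwq, rfl⟩, ((show Commute (a : G) s from has).mul_left
        (show Commute (w : G) s from hws).inv_left).eq⟩
    have hw' : (w : G) ∈ P.C' := P.mem_C'.mpr ⟨hwQs, mem_centralizer_singleton_iff.mp hwC⟩
    have := P.R.mul_mem ((le_sup_right : P.C ≤ P.R) hq) ((le_sup_left : P.C' ≤ P.R) hw')
    rwa [inv_mul_cancel_right] at this
  · have hle : P.R ≤ (E.comap (QuotientGroup.mk' Q)).map (centralizer ({z} : Set G)).subtype := by
      refine sup_le (fun w hw => ?_) fun w hw => ?_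
      · obtain ⟨hwQs, hwz⟩ := P.mem_C'.mp hw
        exact ⟨⟨w, mem_centralizer_singleton_iff.mpr hwz⟩,
          ⟨_, mem_subgroupOf.mpr (mem_inf.mpr ⟨hwQs, mem_centralizer_singleton_iff.mpr hwz⟩), rfl⟩,
          rfl⟩
      · obtain ⟨⟨w, hwQ, rfl⟩, -⟩ := P.mem_C.mp hw
        refine ⟨w, ?_, rfl⟩
        rw [SetLike.mem_coe, mem_comap, QuotientGroup.mk'_apply,
          (QuotientGroup.eq_one_iff w).mpr hwQ]
        exact one_mem _
    obtain ⟨w, hw, e⟩ := hle ha
    have : Subgroup.inclusion inf_le_left a = w := Subtype.ext e.symm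
    show QuotientGroup.mk' Q (Subgroup.inclusion inf_le_left a) ∈ E
    rw [this]
    exact hw

end

end Cfsg.Agent.LFGlue52
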