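import Mathlib
import Cfsg.Agent.Lib.LFCheck89
import Cfsg.Agent.Lib.LFStabData18
import Cfsg.Agent.Lib.U62Existence93

/-!
Checks on the coded stabilisers in the model `3.U4(3)`.
-/

set_option autoImplicit false
set_option maxRecDepth 100000

namespace Cfsg.Agent.LFStabCheck18

open Cfsg.Agent.LFData89 Cfsg.Agent.LFCheck89 Cfsg.Agent.LFStabData18
open Cfsg.Agent.U62Mon93 Cfsg.Agent.U62Existence93

/-- membership -/
def memB (x : ℕ) (l : List ℕ) : Bool := l.any fun y => Nat.beq x y

theorem memB_iff {x : ℕ} {l : List ℕ} : memB x l = true ↔ x ∈ l := by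
  simp only [memB, List.any_eq_true, Nat.beq_eq]
  exact ⟨fun ⟨y, hy, e⟩ => e ▸ hy, fun hx => ⟨x, hx, rfl⟩⟩

/-- the small orbit -/
def small : List ℕ := smallRows.map Prod.fst

/-- every row comes from an earlier one -/
def rowOK (i : ℕ) : Bool :=
  let r := smallRows.getD i (0, 0, 0)
  Nat.blt r.1 4096 && bif Nat.beq i 0 then Nat.beq r.1 5
    else Nat.blt r.2.1 i && Nat.blt r.2.2 8 &&
      Nat.beq r.1 (app (genC.getD r.2.2 0) (smallRows.getD r.2.1 (0, 0, 0)).1)

theorem rows_ok : allBelow rowOK 378 = true ∧ small.length = 378 := by decide +kernel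

theorem rows_distinct : allBelow (fun i => allBelow (fun j =>
    !Nat.beq (small.getD i 0) (small.getD j 0)) i) 378 = true := by decide +kernel

theorem small_closed : allBelow (fun k => small.all fun c => memB (app (genC.getD k 0) c) small) 8 =
    true := by decide +kernel

theorem small_facts : qpar 5 = false ∧ qpar uC = false ∧ memB uC small = false ∧ uC < 4096 := by
  decide +kernel

/-- an element of the group of order sixteen -/
def e2 (i : ℕ) : ℕ := e2M.getD i 0

theorem e2_words : allBelow (fun i => Nat.beq (word (e2W.getD i [])) (e2 i) &&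
    ((e2W.getD i []).all fun x => Nat.blt x 8) && Nat.blt (e2 i) (2 ^ 72) &&
    Nat.beq (app (e2 i) uC) uC) 16 = true ∧ e2 0 = idM ∧ e2M.length = 16 := by decide +kernel

theorem e2_group : allBelow (fun i => Nat.beq (mulM (e2 i) (e2 i)) idM && allBelow (fun j =>
    memB (mulM (e2 i) (e2 j)) e2M && Nat.beq (mulM (e2 i) (e2 j)) (mulM (e2 j) (e2 i)) &&
    (Nat.beq i j || !Nat.beq (e2 i) (e2 j))) 16) 16 = true := by decide +kernel

theorem rsfg_words :
    word rW = rM ∧ word sW = sM ∧ word fW = fM ∧ word gW = gM ∧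
      (rW ++ sW ++ fW ++ gW).all (fun x => Nat.blt x 8) = true ∧
      app rM uC = uC ∧ app sM uC = uC ∧ app fM uC = uC ∧ app gM uC = uC ∧
      mulM rM (mulM rM rM) = idM ∧ mulM sM (mulM sM sM) = idM ∧ mulM rM sM = mulM sM rM ∧
      rM < 2 ^ 72 ∧ sM < 2 ^ 72 ∧ mulM rM rI = idM ∧ mulM gM gI = idM := by decide +kernel

theorem e2_normalised : allBelow (fun i =>
    memB (mulM (mulM rM (e2 i)) rI) e2M && memB (mulM (mulM gM (e2 i)) gI) e2M) 16 = true := by
  decide +kernel

/-- a monomial code -/
def MonC (M : ℕ) (π : Equiv.Perm (Fin 6)) (d : Fin 6 → ZMod 3) : Prop :=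
  ∀ i j : Fin 6, dig (col M j) i = if i = π j then exC (d j) else 0

instance (M : ℕ) (π : Equiv.Perm (Fin 6)) (d : Fin 6 → ZMod 3) : Decidable (MonC M π d) :=
  inferInstanceAs (Decidable (∀ _ _, _))

theorem monC_rg : MonC rM ca 0 ∧ MonC gM c5 ![0, 0, 0, 0, 1, 2] := by decide +kernel

/-- some column has two nonzero entries -/
def twoIn (M : ℕ) : Bool :=
  (List.range 6).any fun j => (List.range 6).any fun i =>
    !Nat.beq (dig (col M j) i) 0 && (List.range i).any fun k => !Nat.beq (dig (col M j) k) 0

theorem e2_not_monomial : allBelow (fun i => Nat.beq i 0 || twoIn (e2 i)) 16 = true := by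
  decide +kernel

/-- the cube is one -/
def cubeOne (M : ℕ) : Bool := Nat.beq (mulM M (mulM M M)) idM

theorem r_lifts : allBelow (fun i => !cubeOne (mulM (e2 i) rM) || e2M.any fun e =>
    Nat.beq (mulM (e2 i) rM) (mulM e (mulM rM e))) 16 = true := by decide +kernel

theorem s_lifts : allBelow (fun i => !(cubeOne (mulM (e2 i) sM) &&
    Nat.beq (mulM rM (mulM (e2 i) sM)) (mulM (mulM (e2 i) sM) rM)) || e2M.any fun e =>
    Nat.beq (mulM e rM) (mulM rM e) && Nat.beq (mulM (e2 i) sM) (mulM e (mulM sM e))) 16 = true := by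
  decide +kernel

/-- add a vector to a list closed under addition -/
def grow (l : List ℕ) (x : ℕ) : List ℕ := bif memB x l then l else l ++ l.map (Nat.xor x)

/-- grow by the images of a growing list of vectors -/
def spanGo (gens : List ℕ) : ℕ → List ℕ → List ℕ → List ℕ
  | 0, _, l => l
  | _ + 1, [], l => l
  | fuel + 1, v :: todo, l =>
    bif Nat.ble 32 l.length then l
    else bif memB v l then spanGo gens fuel todo l
    else spanGo gens fuel (todo ++ gens.map fun g => app g v) (grow l v)

/-- the span of the images of a vector -/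
def span (gens : List ℕ) (v : ℕ) : List ℕ := spanGo gens 40 [v] [0]

/-- the vectors on the first three coordinates with sum zero -/
def zList : List ℕ :=
  (List.range 64).filter fun c => !Nat.beq c 0 && Nat.beq (Nat.xor (Nat.xor (dig c 0) (dig c 1)) (dig c 2)) 0

theorem zList_ok : allBelow (fun c => Nat.beq (app rM c) c || memB (Nat.xor (app rM c) c) zList) 4096 =
    true := by decide +kernel

theorem spans_ok : allBelow (fun i => zList.all fun v =>
    Nat.ble 32 (span [rM, sM, mulM (e2 i) fM] v).length) 16 = true := by decide +kernel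

theorem rsFix_ok : allBelow (fun c =>
    !(Nat.beq (app rM c) c && Nat.beq (app sM c) c) || memB c rsFix) 4096 = true ∧
      allBelow (fun i => Nat.ble
        (rsFix.filter fun c => Nat.beq (app (mulM (e2 i) fM) c) c).length 4) 16 = true := by
  decide +kernel

/-- the polar of the parity -/
def polB (a b : ℕ) : Bool := xor (qpar (Nat.xor a b)) (xor (qpar a) (qpar b))

theorem wList_ok : wList.length = 64 ∧ allBelow (fun c =>
    !(!polB c uC && allBelow (fun k => Nat.beq (app (e2 (2 ^ k)) c) c ||
      Nat.beq (app (e2 (2 ^ k)) c) (Nat.xor c uC)) 4) || memB c wList) 4096 = true := by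
  decide +kernel

theorem wList_props : (wList.all fun c => !qpar c && !polB c (scal uC) && Nat.blt c 4096) = true ∧
    (wBasis.all fun w => memB w wList) = true ∧
    allBelow (fun c => (wBasis.any fun w => polB c w) || memB c wList) 4096 = true := by
  decide +kernel

end Cfsg.Agent.LFStabCheck18
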