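import Mathlib
import Cfsg.Agent.Lib.LFElem89
import Cfsg.Agent.Lib.LFStabCheck18
import Cfsg.Agent.Lib.FischerFrameSmall18

/-!
The two classes of involutions of `Q` in the coordinates of the model: the vector of weight two
lies in the orbit of length 378, and `uC` in the orbit of the conjugates of `z`.
-/

set_option autoImplicit false
set_option linter.unusedSectionVars false
set_option linter.style.haveILetI false
set_option maxHeartbeats 800000
set_option maxRecDepth 100000

namespace Cfsg.Agent.LFOrbits18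

open Subgroup Cfsg.Agent.LargeExtraspecial Cfsg.Agent.U62Mon93 Cfsg.Agent.U62Existence93
open Cfsg.Agent.LFForm89 Cfsg.Agent.LFModel89 Cfsg.Agent.LFSetting89 Cfsg.Agent.LFSylow89
open Cfsg.Agent.LFMat89 Cfsg.Agent.LFData89 Cfsg.Agent.LFCheck89
open Cfsg.Agent.LFStabData18 Cfsg.Agent.LFStabCheck18 Cfsg.Agent.LFElem89
open Cfsg.Agent.FischerFrame18 (InvQ imgStab card_imgStab conj_noncentral)
open scoped Matrix

theorem orbit_mul_stab {X V : Type*} [Group X] [Finite X] [AddCommGroup V]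
    (ρ : X →* AddMonoid.End V) (M : Subgroup X) (v : V) :
    Nat.card {w : V // ∃ g ∈ M, op ρ g v = w} * Nat.card {g : X // g ∈ M ∧ op ρ g v = v} =
      Nat.card M := by
  letI : MulAction M V :=
    { smul := fun g w => op ρ g w
      one_smul := fun w => rho_one ρ w
      mul_smul := fun g g' w => rho_mul ρ g g' w }
  have h1 : Nat.card {w : V // ∃ g ∈ M, op ρ g v = w} = Nat.card (MulAction.orbit M v) :=
    Nat.card_congr (Equiv.subtypeEquivRight fun w =>
      ⟨fun ⟨g, hg, e⟩ => ⟨⟨g, hg⟩, e⟩, fun ⟨g, e⟩ => ⟨g, g.2, e⟩⟩)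
  have h2 : Nat.card {g : X // g ∈ M ∧ op ρ g v = v} = Nat.card (MulAction.stabilizer M v) :=
    Nat.card_congr
      { toFun := fun g => ⟨⟨g, g.2.1⟩, g.2.2⟩
        invFun := fun g => ⟨g.1, g.1.2, g.2⟩
        left_inv := fun _ => rfl
        right_inv := fun _ => rfl }
  rw [h1, h2, Nat.card_congr (MulAction.orbitEquivQuotientStabilizer M v),
    ← Subgroup.card_eq_card_quotient_mul_card_subgroup]

universe u

variable {G : Type u} [Group G] [Finite G] {z : G} {Q : Subgroup (centralizer ({z} : Set G))}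
  [Q.Normal] {V : Type u} [AddCommGroup V] {zc : centralizer ({z} : Set G)}
  {π : centralizer ({z} : Set G) → V} {ρ : centralizer ({z} : Set G) ⧸ Q →* AddMonoid.End V}
  {q : V → ZMod 2} {n : centralizer ({z} : Set G) ⧸ Q}
  {Mb : Subgroup (centralizer ({z} : Set G) ⧸ Q)}
  {F : Type} [Field F] [Fintype F] {s : F} {h : S4 s} {ν : (Fin 6 → F) → V}
  {Φ : K0 h →* centralizer ({z} : Set G) ⧸ Q}
variable (hF : Cfsg.IsOfLargeFischerTypeAt z Q) (D : Data z Q zc π ρ q n Mb)
  (C : Coord h ρ q n Mb ν Φ)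

section
include D

theorem imgStab_iff {x : centralizer ({z} : Set G)} (hx : x ∈ Q)
    (g : centralizer ({z} : Set G) ⧸ Q) : g ∈ imgStab z Q x ↔ op ρ g (π x) = π x := by
  constructor
  · rintro ⟨c, hc, rfl⟩
    rw [← act D c hx]
    rcases hc with e | e
    · rw [e]
    · have e' : c * x * c⁻¹ = x * zc := Subtype.ext (by rw [e, Subgroup.coe_mul, D.zc_val])
      rw [e', D.link.add x hx zc D.ext.mem, (D.link.ker zc D.ext.mem).2 (Or.inr rfl), add_zero]
  · intro hg
    obtain ⟨c, rfl⟩ := QuotientGroup.mk'_surjective Q g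
    have hcQ : c * x * c⁻¹ ∈ Q := Subgroup.Normal.conj_mem ‹Q.Normal› x hx c
    refine ⟨c, ?_, rfl⟩
    rcases pi_eq D hx hcQ (((act D c hx).trans hg).symm) with e | e
    · exact Or.inl e
    · refine Or.inr ?_
      rw [e, Subgroup.coe_mul, D.zc_val]

theorem card_stab_of {x : centralizer ({z} : Set G)} (hx : x ∈ Q) :
    Nat.card {g : centralizer ({z} : Set G) ⧸ Q //
      g ∈ (⊤ : Subgroup (centralizer ({z} : Set G) ⧸ Q)) ∧ op ρ g (π x) = π x} =
      Nat.card (imgStab z Q x) :=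
  Nat.card_congr (Equiv.subtypeEquivRight fun g => by
    rw [imgStab_iff D hx]; simp)

end

section
include D C

theorem exists_inv {c : ℕ} (hc : c < 4096) (h0 : c ≠ 0) (hq : qpar c = false) :
    ∃ x, InvQ z Q x ∧ π x = nc s ν c := by
  have hne : nc s ν c ≠ 0 := fun e => h0 (nc_inj (hyp D) C hc (Nat.succ_pos _)
    (e.trans (nc_zero (hyp D) C).symm))
  obtain ⟨x, hx, hxe⟩ := D.link.surj (nc s ν c)
  refine ⟨x, ⟨hx, ?_, ?_, ?_⟩, hxe⟩
  · rw [sq_iff D hx, hxe, q_nc (hyp D) C, hq]; rfl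
  · exact fun e => hne (by rw [← hxe, e, pi_one D])
  · exact fun e => hne (by
      rw [← hxe, (D.link.ker x hx).2 (Or.inr (Subtype.ext (e.trans D.zc_val.symm)))])

/-- The small orbit in the module. -/
def Sm (s : F) (ν : (Fin 6 → F) → V) : Set V := {v | ∃ c ∈ small, v = nc s ν c}

theorem small_lt : ∀ c ∈ small, c < 4096 := by
  intro c hc
  obtain ⟨i, hi, rfl⟩ := List.mem_iff_getElem.1 hc
  have hi' : i < 378 := rows_ok.2 ▸ hi
  have := allBelow_spec rows_ok.1 i hi'
  simp only [rowOK, Bool.and_eq_true, Nat.blt_eq] at this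
  simpa [small, List.getD_eq_getElem?_getD, List.getElem?_eq_getElem (show i < smallRows.length by
    simpa [small] using hi)] using this.1

theorem card_Sm : Nat.card (Sm s ν) = 378 := by
  classical
  have hnd : small.Nodup := by
    rw [List.nodup_iff_injective_getElem]
    intro i j e
    by_contra hne
    have hlen := rows_ok.2
    rcases Nat.lt_or_gt_of_ne (fun e' => hne (Fin.ext e')) with hl | hl
    · have := allBelow_spec (allBelow_spec rows_distinct j (hlen ▸ j.2)) i hl
      simp [List.getD_eq_getElem?_getD, i.2, j.2] at this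
      rw [show small[(j : ℕ)] = small[(i : ℕ)] from e.symm] at this
      simp at this
    · have := allBelow_spec (allBelow_spec rows_distinct i (hlen ▸ i.2)) j hl
      simp [List.getD_eq_getElem?_getD, i.2, j.2] at this
      rw [show small[(i : ℕ)] = small[(j : ℕ)] from e] at this
      simp at this
  rw [← rows_ok.2, ← List.toFinset_card_of_nodup hnd, ← Nat.card_eq_finsetCard]
  refine Nat.card_congr (Equiv.ofBijective (fun v : Sm s ν =>
    (⟨v.2.choose, List.mem_toFinset.2 v.2.choose_spec.1⟩ : small.toFinset)) ⟨fun a b e => ?_, ?_⟩)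
  · refine Subtype.ext ?_
    rw [a.2.choose_spec.2, b.2.choose_spec.2, show a.2.choose = b.2.choose from congrArg Subtype.val e]
  · rintro ⟨c, hc⟩
    have hc' := List.mem_toFinset.1 hc
    refine ⟨⟨nc s ν c, c, hc', rfl⟩, Subtype.ext ?_⟩
    have hsp := (⟨c, hc', rfl⟩ : nc s ν c ∈ Sm s ν).choose_spec
    exact (nc_inj (hyp D) C (small_lt D C c hc') (small_lt D C _ hsp.1) hsp.2).symm

theorem five_mem : nc s ν 5 ∈ Sm s ν :=
  ⟨5, memB_iff.1 (by decide +kernel), rfl⟩

theorem gen_small (k : Fin 8) {v : V} (hv : v ∈ Sm s ν) :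
    op ρ (Φ ⟨gmat h k, gmat_mem h k⟩) v ∈ Sm s ν := by
  obtain ⟨c, hc, rfl⟩ := hv
  refine ⟨app (genC.getD k 0) c, ?_, ?_⟩
  · exact memB_iff.1 (List.all_eq_true.1 (allBelow_spec small_closed k k.2) c hc)
  · rw [nc, C.act, nc, vec_app h, matOf_gen h k]

theorem small_invariant {g : centralizer ({z} : Set G) ⧸ Q} (hg : g ∈ Mb) {v : V}
    (hv : v ∈ Sm s ν) : op ρ g v ∈ Sm s ν := by
  let K : Subgroup (centralizer ({z} : Set G) ⧸ Q) :=
    { carrier := {g | ∀ v ∈ Sm s ν, op ρ g v ∈ Sm s ν}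
      one_mem' := fun v hv => by rw [rho_one]; exact hv
      mul_mem' := fun {a b} ha hb v hv => by rw [rho_mul]; exact ha _ (hb v hv)
      inv_mem' := fun {a} ha v hv => by
        rw [inv_eq_of_mul_eq_one_right (show a * a ^ (orderOf a - 1) = 1 by
          rw [← pow_succ', Nat.sub_add_cancel (orderOf_pos a), pow_orderOf_eq_one])]
        generalize orderOf a - 1 = m
        induction m with
        | zero => rw [pow_zero, rho_one]; exact hv
        | succ m ih => rw [pow_succ', rho_mul]; exact ha _ ih }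
  suffices hle : Mb ≤ K from hle hg v hv
  rw [← C.range]
  have hK0 : K0 h ≤ (K.comap Φ).map (K0 h).subtype :=
    (Subgroup.closure_le _).2 fun x hx => by
      obtain ⟨k, rfl⟩ := hx
      exact ⟨⟨gmat h k, gmat_mem h k⟩, fun v hv => gen_small D C k hv, rfl⟩
  rintro _ ⟨x, rfl⟩
  obtain ⟨y, hy, e⟩ := hK0 x.2
  exact (Subtype.ext e : y = x) ▸ hy

theorem small_reach {i : ℕ} (hi : i < 378) :
    ∃ g ∈ Mb, op ρ g (nc s ν 5) = nc s ν (small.getD i 0) := by
  induction i using Nat.strong_induction_on with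
  | _ i ih =>
    have hrow := allBelow_spec rows_ok.1 i hi
    have hget : ∀ j, small.getD j 0 = (smallRows.getD j (0, 0, 0)).1 := fun j => by
      simp only [small, List.getD_eq_getElem?_getD, List.getElem?_map]
      cases smallRows[j]? <;> rfl
    rw [hget]
    rcases Nat.eq_zero_or_pos i with rfl | hpos
    · exact ⟨1, one_mem _, by rw [rho_one]; rfl⟩
    · have hb : Nat.beq i 0 = false := by
        cases e : Nat.beq i 0
        · rfl
        · exact absurd (Nat.eq_of_beq_eq_true e) (by omega)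
      simp only [rowOK, hb, cond_false, Bool.and_eq_true, Nat.blt_eq, Nat.beq_eq] at hrow
      obtain ⟨-, ⟨hp, hk⟩, he⟩ := hrow
      obtain ⟨g, hg, hge⟩ := ih _ hp (by omega)
      refine ⟨Φ ⟨gmat h ⟨_, hk⟩, gmat_mem h _⟩ * g, mul_mem (C.range ▸ ⟨_, rfl⟩) hg, ?_⟩
      rw [rho_mul, hge, hget, nc, C.act, nc, he, vec_app h, ← matOf_gen h ⟨_, hk⟩]

theorem small_orbit (v : V) : v ∈ Sm s ν ↔ ∃ g ∈ Mb, op ρ g (nc s ν 5) = v := by
  constructor
  · rintro ⟨c, hc, rfl⟩
    obtain ⟨i, hi, rfl⟩ := List.mem_iff_getElem.1 hc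
    obtain ⟨g, hg, e⟩ := small_reach D C (rows_ok.2 ▸ hi)
    exact ⟨g, hg, e.trans (by simp [List.getD_eq_getElem?_getD, hi])⟩
  · rintro ⟨g, hg, rfl⟩
    exact small_invariant D C hg (five_mem D C)

theorem card_stab_five :
    Nat.card {g : centralizer ({z} : Set G) ⧸ Q // g ∈ Mb ∧ op ρ g (nc s ν 5) = nc s ν 5} =
      25920 := by
  have h := orbit_mul_stab ρ Mb (nc s ν 5)
  rw [card_Mb (hyp D) C, Nat.card_congr (Equiv.subtypeEquivRight fun v =>
    (small_orbit D C v).symm), show Nat.card {v // v ∈ Sm s ν} = 378 from card_Sm D C] at h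
  omega

end

section
include hF D C

/-- The vector of weight two and the small orbit. -/
theorem five_class : ∃ x, InvQ z Q x ∧ π x = nc s ν 5 ∧ ¬ IsConj z (x : G) ∧
    ∀ v, (∃ g, op ρ g (nc s ν 5) = v) ↔ v ∈ Sm s ν := by
  haveI := finiteV D
  obtain ⟨x, hx, hxe⟩ := exists_inv D C (show 5 < 4096 by norm_num) (by norm_num) small_facts.1
  have horb := orbit_mul_stab ρ (⊤ : Subgroup (centralizer ({z} : Set G) ⧸ Q)) (π x)
  rw [card_stab_of D hx.mem, Subgroup.card_top, D.card] at horb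
  obtain ⟨t, ht⟩ : ∃ t, t ∉ Mb := by
    by_contra hno
    push Not at hno
    have := D.index_two
    rw [(Subgroup.eq_top_iff' Mb).2 hno, Subgroup.index_top] at this
    omega
  have hcases : ∀ w, (∃ g ∈ (⊤ : Subgroup (centralizer ({z} : Set G) ⧸ Q)), op ρ g (π x) = w) →
      w ∈ Sm s ν ∪ op ρ t '' Sm s ν := by
    rintro w ⟨g, -, rfl⟩
    rw [hxe]
    by_cases hg : g ∈ Mb
    · exact Or.inl (small_invariant D C hg (five_mem D C))
    · refine Or.inr ⟨op ρ (t⁻¹ * g) (nc s ν 5), small_invariant D C ?_ (five_mem D C), ?_⟩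
      · rw [Subgroup.mul_mem_iff_of_index_two D.index_two, inv_mem_iff]
        exact iff_of_false ht hg
      · rw [← rho_mul, mul_inv_cancel_left]
  have hnc : ¬ IsConj z (x : G) := by
    intro hconj
    rw [(card_imgStab hF hx).1 hconj] at horb
    have hle := Nat.card_mono (Set.toFinite (Sm s ν ∪ op ρ t '' Sm s ν)) hcases
    have h2 : Nat.card (Sm s ν ∪ op ρ t '' Sm s ν : Set V) ≤ 756 := by
      rw [Nat.card_coe_set_eq]
      refine (Set.ncard_union_le _ _).trans ?_
      have h1 := Set.ncard_image_le (f := op ρ t) (Set.toFinite (Sm s ν))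
      have e := card_Sm D C
      rw [Nat.card_coe_set_eq] at e
      omega
    replace hle : Nat.card {w : V // ∃ g ∈ (⊤ : Subgroup (centralizer ({z} : Set G) ⧸ Q)),
        op ρ g (π x) = w} ≤ Nat.card (Sm s ν ∪ op ρ t '' Sm s ν : Set V) := hle
    omega
  rw [(card_imgStab hF hx).2 hnc] at horb
  refine ⟨x, hx, hxe, hnc, fun v => ?_⟩
  have hsub : Sm s ν ⊆ {w | ∃ g ∈ (⊤ : Subgroup (centralizer ({z} : Set G) ⧸ Q)),
      op ρ g (π x) = w} := fun w hw => by
    obtain ⟨g, -, e⟩ := (small_orbit D C w).1 hw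
    exact ⟨g, trivial, hxe.symm ▸ e⟩
  have heq := Set.eq_of_subset_of_ncard_le hsub (by
    rw [← Nat.card_coe_set_eq, ← Nat.card_coe_set_eq, card_Sm D C]
    show Nat.card {w : V // ∃ g ∈ (⊤ : Subgroup (centralizer ({z} : Set G) ⧸ Q)),
      op ρ g (π x) = w} ≤ 378
    omega) (Set.toFinite _)
  rw [heq, hxe]
  simp

/-- The other vector is the image of a conjugate of `z`. -/
theorem u_class : ∃ y, InvQ z Q y ∧ π y = nc s ν uC ∧ IsConj z (y : G) := by
  obtain ⟨x, hx, hxe, hnc, horb⟩ := five_class hF D C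
  obtain ⟨-, hq, hmem, hu⟩ := small_facts
  obtain ⟨y, hy, hye⟩ := exists_inv D C hu (by decide +kernel) hq
  refine ⟨y, hy, hye, ?_⟩
  by_contra hnz
  obtain ⟨c, hc⟩ := conj_noncentral hF hx hy hnc hnz
  obtain ⟨c', hc', e⟩ := (horb (nc s ν uC)).1 ⟨QuotientGroup.mk' Q c, by
    rw [← hxe, ← act D c hx.mem, hc, hye]⟩
  have := nc_inj (hyp D) C hu (small_lt D C c' hc') e
  rw [← this] at hc'
  rw [memB_iff.2 hc'] at hmem
  exact absurd hmem (by simp)

/-- Every involution of `Q` outside the class of `z` lies over the small orbit. -/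
theorem exists_move {t : centralizer ({z} : Set G)} (ht : InvQ z Q t)
    (htz : ¬ IsConj z (t : G)) : ∃ g, op ρ g (nc s ν 5) = π t := by
  obtain ⟨x, hx, hxe, hnc, -⟩ := five_class hF D C
  obtain ⟨c, hc⟩ := conj_noncentral hF hx ht hnc htz
  exact ⟨QuotientGroup.mk' Q c, by rw [← hxe, ← act D c hx.mem, hc]⟩

end

end Cfsg.Agent.LFOrbits18
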