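import Cfsg.Agent.Lib.U62Existence93

/-!
The three twists of the subgroup 3.U4(3) of SU(6,2) by diagonal similitudes, and their distinctness.
-/

set_option autoImplicit false
set_option linter.style.haveILetI false
set_option linter.unusedSectionVars false

namespace Cfsg.Agent.U62Twist93

open Cfsg Cfsg.Agent.OrthUnitaryHerm Cfsg.Agent.U62Mon93 Cfsg.Agent.U62Existence93
open Cfsg.Agent.PermImageCert
open scoped Matrix

variable {F : Type} [Field F] [Fintype F] {s : F}

/-- The exponents of the twist. -/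
def dv (c : ZMod 3) : Fin 6 → ZMod 3 := fun i => if i = 0 then c else 0

/-- The twisted matrix. -/
def twMat (s : F) (c : ZMod 3) (g : SU 6 F 2) : Matrix (Fin 6) (Fin 6) F :=
  monMat 1 (fun i => ex s (dv c i)) * (g.1 : Matrix (Fin 6) (Fin 6) F) *
    monMat 1 (fun i => ex s (-dv c i))

theorem monMat_one (d : Fin 6 → F) : monMat 1 d = Matrix.diagonal d := by simp [monMat]

theorem twMat_apply (h : S4 s) (c : ZMod 3) (g : SU 6 F 2) (i j : Fin 6) :
    twMat s c g i j = ex s (dv c i - dv c j) * entry g i j := by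
  rw [twMat, monMat_one, monMat_one, Matrix.mul_diagonal, Matrix.diagonal_mul, sub_eq_add_neg,
    ex_add h, entry]
  ring

theorem exists_tw (h : S4 s) (c : ZMod 3) (g : SU 6 F 2) :
    ∃ g' : SU 6 F 2, ∀ i j, entry g' i j = ex s (dv c i - dv c j) * entry g i j := by
  have hd : (twMat s c g).det = 1 := by
    rw [twMat, Matrix.det_mul, Matrix.det_mul, det_monMat, det_monMat, ex_sum h, ex_sum h, g.1.2,
      sign_cast h, one_mul, one_mul, mul_one, ← ex_add h, Finset.sum_neg_distrib, add_neg_cancel,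
      ex_zero]
  have hu : IsU 2 (twMat s c g) :=
    ((isU_monMat _ fun j => ex_cube h _).mul (isU_of_mem_SU g)).mul
      (isU_monMat _ fun j => ex_cube h _)
  exact ⟨mkSU _ hd hu, fun i j => twMat_apply h c g i j⟩

/-- The twist of an element. -/
noncomputable def twF (h : S4 s) (c : ZMod 3) (g : SU 6 F 2) : SU 6 F 2 := (exists_tw h c g).choose

theorem twF_entry (h : S4 s) (c : ZMod 3) (g : SU 6 F 2) (i j : Fin 6) :
    entry (twF h c g) i j = ex s (dv c i - dv c j) * entry g i j :=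
  (exists_tw h c g).choose_spec i j

theorem twF_add (h : S4 s) (c c' : ZMod 3) (g : SU 6 F 2) :
    twF h c (twF h c' g) = twF h (c + c') g :=
  entry_ext fun i j => by
    rw [twF_entry, twF_entry, twF_entry, ← mul_assoc, ← ex_add h]
    congr 2
    unfold dv
    split <;> split <;> ring

theorem twF_zero (h : S4 s) (g : SU 6 F 2) : twF h 0 g = g :=
  entry_ext fun i j => by rw [twF_entry]; simp [dv, ex_zero]

theorem twF_mul (h : S4 s) (c : ZMod 3) (g g' : SU 6 F 2) :
    twF h c (g * g') = twF h c g * twF h c g' :=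
  entry_ext fun i j => by
    rw [twF_entry, entry_mul, entry_mul, Finset.mul_sum]
    refine Finset.sum_congr rfl fun k _ => ?_
    rw [twF_entry, twF_entry,
      show dv c i - dv c j = (dv c i - dv c k) + (dv c k - dv c j) by abel, ex_add h]
    ring

/-- The twist. -/
noncomputable def tw (h : S4 s) (c : ZMod 3) : SU 6 F 2 ≃* SU 6 F 2 where
  toFun := twF h c
  invFun := twF h (-c)
  left_inv g := by rw [twF_add, neg_add_cancel, twF_zero]
  right_inv g := by rw [twF_add, add_neg_cancel, twF_zero]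
  map_mul' := twF_mul h c

theorem isM_tw (h : S4 s) (c : ZMod 3) {g : SU 6 F 2} {π : Equiv.Perm (Fin 6)}
    {d : Fin 6 → ZMod 3} (hg : IsM s g π d) :
    IsM s (tw h c g) π (fun j => dv c (π j) - dv c j + d j) := by
  intro i j
  show entry (twF h c g) i j = _
  rw [twF_entry, hg i j]
  split
  · rename_i hi; subst hi; rw [ex_add h (dv c (π j) - dv c j) (d j)]
  · rw [mul_zero]

theorem tw_center (h : S4 s) (c : ZMod 3) {z : SU 6 F 2} (hz : z ∈ Subgroup.center (SU 6 F 2)) :
    tw h c z = z := by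
  obtain ⟨a, ha⟩ := center_const h hz
  refine IsM.eq (isM_tw h c ha) ?_
  simpa using ha

theorem tw_center_iff (h : S4 s) (c : ZMod 3) {z : SU 6 F 2} :
    tw h c z ∈ Subgroup.center (SU 6 F 2) ↔ z ∈ Subgroup.center (SU 6 F 2) := by
  refine ⟨fun hz => ?_, fun hz => by rwa [tw_center h c hz]⟩
  have : tw h c z = z := (tw h c).injective (tw_center h c hz)
  rwa [this] at hz

/-- The three subgroups. -/
noncomputable def Kc (h : S4 s) (c : ZMod 3) : Subgroup (SU 6 F 2) :=
  (K0 h).map (tw h c).toMonoidHom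

theorem Kc_zero (h : S4 s) : Kc h 0 = K0 h := by
  ext g
  simp [Kc, Subgroup.mem_map, tw, twF_zero]

theorem mem_Kc (h : S4 s) {c : ZMod 3} {g : SU 6 F 2} : g ∈ Kc h c ↔ twF h (-c) g ∈ K0 h := by
  constructor
  · rintro ⟨x, hx, rfl⟩
    show twF h (-c) (twF h c x) ∈ K0 h
    rwa [twF_add, neg_add_cancel, twF_zero]
  · intro hg
    exact ⟨_, hg, (tw h c).apply_symm_apply g⟩

theorem mem_Kc_of_sq (h : S4 s) (c : ZMod 3) {g : SU 6 F 2} {π : Equiv.Perm (Fin 6)}
    {d : Fin 6 → ZMod 3} (hg : IsM s g (π ^ 2) d) : g ∈ Kc h c :=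
  (mem_Kc h).2 (mem_K0_of_isM h (isM_tw h (-c) hg))

theorem E_le_Kc (h : S4 s) (c : ZMod 3) : E h ≤ Kc h c := fun g ⟨d, hd⟩ =>
  mem_Kc_of_sq h c (π := 1) (by simpa using hd)

theorem T_le_Kc (h : S4 s) (c : ZMod 3) : T h ≤ Kc h c := fun g ⟨π, hπ, d, hd⟩ =>
  (mem_Kc h).2 (T_le_K0 h ⟨π, hπ, _, isM_tw h (-c) hd⟩)

theorem central_of_commutes_Kc (h : S4 s) (c : ZMod 3) {z : SU 6 F 2}
    (hz : ∀ x ∈ Kc h c, x * z = z * x) : z ∈ Subgroup.center (SU 6 F 2) := by
  rw [← tw_center_iff h (-c)]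
  refine central_of_commutes h fun x hx => ?_
  have := congrArg (tw h (-c)) (hz _ (Subgroup.mem_map_of_mem (tw h c).toMonoidHom hx))
  simpa [tw, twF_mul, twF_add, twF_zero] using this

theorem exists_hom_Kc (h : S4 s) (c : ZMod 3) (F9 : Type) [Field F9] [Fintype F9]
    (hF9 : Fintype.card F9 = 9) :
    ∃ f : Kc h c →* PSU 4 F9 3, Function.Surjective f ∧
      ∀ x, f x = 1 ↔ (x : SU 6 F 2) ∈ Subgroup.center (SU 6 F 2) := by
  obtain ⟨f, hf, hker⟩ := exists_hom h F9 hF9
  let e : K0 h ≃* Kc h c := (tw h c).subgroupMap (K0 h)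
  refine ⟨f.comp e.symm.toMonoidHom, hf.comp e.symm.surjective, fun x => ?_⟩
  rw [MonoidHom.comp_apply, MulEquiv.coe_toMonoidHom, hker, ← tw_center_iff h c]
  rw [show tw h c (e.symm x : SU 6 F 2) = (x : SU 6 F 2) from
    congrArg Subtype.val (e.apply_symm_apply x)]

/-! ### Odd permutations -/

theorem closure_eq_alternating :
    Subgroup.closure ({ca, c5} : Set (Equiv.Perm (Fin 6))) = alternatingGroup (Fin 6) := by
  refine Subgroup.eq_of_le_of_card_ge ((Subgroup.closure_le _).2 ?_) ?_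
  · rintro σ (rfl | rfl) <;> exact Equiv.Perm.mem_alternatingGroup.2 (by decide)
  · have h2 : Nat.card (alternatingGroup (Fin 6)) = 360 := by
      rw [nat_card_alternatingGroup, Nat.card_fin]; rfl
    rw [h2]; exact card_closure_six

theorem mem_Kc_of_even (h : S4 s) (c : ZMod 3) {g : SU 6 F 2} {π : Equiv.Perm (Fin 6)}
    {d : Fin 6 → ZMod 3} (hπ : Equiv.Perm.sign π = 1) (hg : IsM s g π d) : g ∈ Kc h c := by
  have hA : π ∈ Subgroup.closure ({ca, c5} : Set (Equiv.Perm (Fin 6))) := by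
    rw [closure_eq_alternating]; exact Equiv.Perm.mem_alternatingGroup.2 hπ
  have hlift : ∃ x ∈ K0 h, ∃ e, IsM s x π e := by
    clear hg hπ
    induction hA using Subgroup.closure_induction with
    | mem σ hσ =>
      rcases hσ with rfl | rfl
      · exact ⟨_, gmat_mem h 5, _, isM_ca h⟩
      · exact ⟨_, gmat_mem h 6, _, isM_c5 h⟩
    | one => exact ⟨1, one_mem _, _, IsM.one⟩
    | mul a b _ _ iha ihb =>
      obtain ⟨x, hx, d, hd⟩ := iha
      obtain ⟨y, hy, e, he⟩ := ihb
      exact ⟨_, mul_mem hx hy, _, hd.mul h he⟩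
    | inv a _ iha =>
      obtain ⟨x, hx, d, hd⟩ := iha
      exact ⟨_, inv_mem hx, _, hd.inv h⟩
  obtain ⟨x, hx, e, he⟩ := hlift
  have h1 : x⁻¹ * twF h (-c) g ∈ E h := ⟨_, by
    have hm := (he.inv h).mul h (isM_tw h (-c) hg)
    rwa [inv_mul_cancel] at hm⟩
  exact (mem_Kc h).2 (by simpa using mul_mem hx (E_le_K0 h h1))

theorem swap_u : ∀ i j : Fin 6,
    UnitaryImage.ent code4 6 (mcode 7) ((Equiv.swap 0 1 i : Fin 6) : ℕ) j =
      UnitaryImage.ent code4 6 (mcode 7) i ((Equiv.swap 0 1 j : Fin 6) : ℕ) := by decide +kernel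

theorem IsM.mul_entry {g : SU 6 F 2} {π : Equiv.Perm (Fin 6)} {d : Fin 6 → ZMod 3}
    (hg : IsM s g π d) (x : SU 6 F 2) (i j : Fin 6) :
    entry (g * x) i j = ex s (d (π⁻¹ i)) * entry x (π⁻¹ i) j := by
  rw [entry_mul, Finset.sum_eq_single (π⁻¹ i)]
  · rw [hg i (π⁻¹ i), if_pos (show i = π (π⁻¹ i) from (π.apply_symm_apply i).symm)]
  · intro k _ hk
    rw [hg i k, if_neg (fun e => hk (by rw [e]; simp)), zero_mul]
  · exact fun hh => absurd (Finset.mem_univ _) hh

theorem IsM.entry_mul' {g : SU 6 F 2} {π : Equiv.Perm (Fin 6)} {d : Fin 6 → ZMod 3}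
    (hg : IsM s g π d) (x : SU 6 F 2) (i j : Fin 6) :
    entry (x * g) i j = entry x i (π j) * ex s (d j) := by
  rw [entry_mul, Finset.sum_eq_single (π j)]
  · rw [hg (π j) j, if_pos rfl]
  · intro k _ hk; rw [hg k j, if_neg hk, mul_zero]
  · exact fun hh => absurd (Finset.mem_univ _) hh

theorem swap_normalizes (h : S4 s) {t : SU 6 F 2} (ht : IsM s t (Equiv.swap 0 1) 0) {y : SU 6 F 2}
    (hy : y ∈ K0 h) : t * y * t⁻¹ ∈ K0 h := by
  induction hy using Subgroup.closure_induction with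
  | mem g hg =>
    obtain ⟨k, rfl⟩ := hg
    have hmon : ∀ {k : Fin 8} {π : Equiv.Perm (Fin 6)} {d : Fin 6 → ZMod 3},
        IsM s (gmat h k) π d → Equiv.Perm.sign π = 1 → t * gmat h k * t⁻¹ ∈ K0 h := by
      intro k π d hk hπ
      have h1 := (ht.mul h hk).mul h (ht.inv h)
      rw [← Kc_zero h]
      refine mem_Kc_of_even h 0 ?_ h1
      simp [hπ]
    rcases (show (∃ i : Fin 5, k = Fin.castLE (by norm_num) i) ∨ k = 5 ∨ k = 6 ∨ k = 7 by
      revert k; decide) with ⟨i, rfl⟩ | rfl | rfl | rfl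
    · exact hmon (isM_de h i) (by simp)
    · exact hmon (isM_ca h) (by decide)
    · exact hmon (isM_c5 h) (by decide)
    · have hc : t * gmat h 7 = gmat h 7 * t := entry_ext fun i j => by
        rw [IsM.mul_entry ht, IsM.entry_mul' ht, gmat_entry, gmat_entry, Equiv.swap_inv, swap_u]
        simp [ex_zero]
      rw [hc, mul_inv_cancel_right]
      exact gmat_mem h 7
  | one => simp
  | mul a b _ _ iha ihb => simpa [mul_assoc] using mul_mem iha ihb
  | inv a _ iha => simpa [mul_assoc] using inv_mem iha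

theorem odd_normalizes (h : S4 s) {c : ZMod 3} {g : SU 6 F 2} {π : Equiv.Perm (Fin 6)}
    {d : Fin 6 → ZMod 3} (hg : IsM s g π d) {y : SU 6 F 2} (hy : y ∈ Kc h c) :
    g * y * g⁻¹ ∈ Kc h c := by
  rcases Int.units_eq_one_or (Equiv.Perm.sign π) with hs | hs
  · have := mem_Kc_of_even h c hs hg
    exact mul_mem (mul_mem this hy) (inv_mem this)
  obtain ⟨t, ht⟩ := exists_isM h (Equiv.swap 0 1 : Equiv.Perm (Fin 6)) (d := 0) (by simp)
  rw [mem_Kc, twF_mul, twF_mul]
  have hx : t⁻¹ * twF h (-c) g ∈ K0 h := by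
    rw [← Kc_zero h]
    refine mem_Kc_of_even h 0 ?_ ((ht.inv h).mul h (isM_tw h (-c) hg))
    simp [hs]
  have hinv : twF h (-c) g⁻¹ = (twF h (-c) g)⁻¹ := map_inv (tw h (-c)) g
  have hconj := swap_normalizes h ht
    (mul_mem (mul_mem hx ((mem_Kc h).1 hy)) (inv_mem hx))
  rw [hinv]
  simpa [mul_assoc] using hconj

/-! ### Distinctness -/

/-- The twisted copies of the last generator as codes. -/
def tcode (c : ZMod 3) : ℕ := U62Frames93.twisted.getD (c.val - 1) 0

theorem tcode_eq : ∀ c : ZMod 3, c ≠ 0 → ∀ i j : Fin 6,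
    UnitaryImage.ent code4 6 (tcode c) i j =
      code4.mul (exC (dv c i - dv c j)) (UnitaryImage.ent code4 6 (mcode 7) i j) := by
  decide +kernel

/-- A point is off a column. -/
noncomputable def offCol (M col x : ℕ) : Bool :=
  !allBelow (fun t => allBelow (fun u => Nat.beq
    (code4.mul (UnitaryImage.ent code4 6 M t col)
      (UnitaryImage.fld code4 (UnitaryImage.rowVec (UnitaryImage.code U62Frames93.points x) 0) u))
    (code4.mul (UnitaryImage.ent code4 6 M u col)
      (UnitaryImage.fld code4 (UnitaryImage.rowVec (UnitaryImage.code U62Frames93.points x) 0) t)))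
    6) 6

/-- No frame meets two columns of a twisted generator. -/
noncomputable def apartOK (c : ZMod 3) : Bool :=
  allBelow (fun k => allBelow (fun i => offCol (tcode c) 0 (6 * k + i)) 6 ||
    allBelow (fun i => offCol (tcode c) 3 (6 * k + i)) 6) 112

theorem apartOK_ok : ∀ c : ZMod 3, c ≠ 0 → apartOK c = true := by decide +kernel

theorem iota_inj : ∀ x y : Fin 4, code4.add x y = 0 → x = y := by decide +kernel

theorem tw_gmat_not_mem (h : S4 s) {c : ZMod 3} (hc : c ≠ 0) :
    tw h c (gmat h 7) ∉ K0 h := by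
  intro hmem
  obtain ⟨σ, -, hσ⟩ := exists_moves h hmem
  have hcol : ∀ j : Fin 6, ∃ i : Fin 6, ∀ t u : Fin 6,
      code4.mul (UnitaryImage.ent code4 6 (tcode c) t j) (UnitaryImage.fld code4
        (UnitaryImage.rowVec (UnitaryImage.code U62Frames93.points (6 * (σ 0 : ℕ) + i)) 0) u) =
      code4.mul (UnitaryImage.ent code4 6 (tcode c) u j) (UnitaryImage.fld code4
        (UnitaryImage.rowVec (UnitaryImage.code U62Frames93.points (6 * (σ 0 : ℕ) + i)) 0) t) := by
    intro j
    have h1 : UnitaryImage.subPerm 6 2 (tw h c (gmat h 7)) (Submodule.span F {Pi.single j (1 : F)})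
        ∈ frame s (σ 0) := by
      rw [← hσ 0]; exact ⟨_, (mem_frame_zero h).2 ⟨j, rfl⟩, rfl⟩
    obtain ⟨i, hi⟩ := h1
    change pt s _ = _ at hi
    rw [UnitaryImage.subPerm_apply, Submodule.map_span, Set.image_singleton,
      Matrix.mulVecLin_apply, Matrix.mulVec_single_one, pt_eq_span] at hi
    obtain ⟨r, hr⟩ := Submodule.mem_span_singleton.1 (hi.symm ▸
      Submodule.mem_span_singleton_self ((tw h c (gmat h 7)).1.1.col j) :
      (tw h c (gmat h 7)).1.1.col j ∈ F ∙ pvec s (6 * (σ 0 : ℕ) + i))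
    refine ⟨i, fun t u => ?_⟩
    set v := UnitaryImage.rowVec (UnitaryImage.code U62Frames93.points (6 * (σ 0 : ℕ) + i)) 0
    have hG := genOK (F := F) h
    have hv : ∀ x : Fin 6, UnitaryImage.iota code4 s (UnitaryImage.ent code4 6 (tcode c) x j) =
        r * UnitaryImage.iota code4 s (UnitaryImage.fld code4 v x) := fun x => by
      have h3 := (congrFun hr x).symm
      change entry (twF h c (gmat h 7)) x j = _ at h3
      have hlt : exC (dv c x - dv c j) < code4.p * code4.p :=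
        show (dv c x - dv c j).val + 1 < 4 by
          have := ZMod.val_lt (dv c x - dv c j); omega
      have hlt2 : UnitaryImage.ent code4 6 (mcode 7) x j < code4.p * code4.p :=
        UnitaryImage.fld_lt hG _ _
      rw [tcode_eq c hc, (UnitaryImage.iota_mul hG hlt hlt2).1, iota_exC h,
        ← gmat_entry h, ← twF_entry h, h3]
      rfl
    obtain ⟨a1, l1⟩ := UnitaryImage.iota_mul hG
      (x := UnitaryImage.ent code4 6 (tcode c) t j) (y := UnitaryImage.fld code4 v u)
      (UnitaryImage.fld_lt hG _ _) (UnitaryImage.fld_lt hG _ _)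
    obtain ⟨a2, l2⟩ := UnitaryImage.iota_mul hG
      (x := UnitaryImage.ent code4 6 (tcode c) u j) (y := UnitaryImage.fld code4 v t)
      (UnitaryImage.fld_lt hG _ _) (UnitaryImage.fld_lt hG _ _)
    obtain ⟨a3, l3⟩ := UnitaryImage.iota_add hG l1 l2
    refine congrArg Fin.val (iota_inj ⟨_, l1⟩ ⟨_, l2⟩ ?_)
    by_contra hne
    refine UnitaryImage.iota_ne_zero hG l3 hne ?_
    rw [a3, a1, a2, hv t, hv u]
    linear_combination (r * UnitaryImage.iota code4 s (UnitaryImage.fld code4 v t) *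
      UnitaryImage.iota code4 s (UnitaryImage.fld code4 v u)) * h.two
  have hch := allBelow_spec (apartOK_ok c hc) _ (σ 0).2
  rw [Bool.or_eq_true] at hch
  rcases hch with hch | hch
  · obtain ⟨i, hi⟩ := hcol 0
    have := allBelow_spec hch i i.2
    rw [offCol, Bool.not_eq_true', ← Bool.not_eq_true] at this
    exact this (UnitaryImage.allBelow_of_forall fun t ht => UnitaryImage.allBelow_of_forall
      fun u hu => Nat.beq_eq.mpr (hi ⟨t, ht⟩ ⟨u, hu⟩))
  · obtain ⟨i, hi⟩ := hcol 3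
    have := allBelow_spec hch i i.2
    rw [offCol, Bool.not_eq_true', ← Bool.not_eq_true] at this
    exact this (UnitaryImage.allBelow_of_forall fun t ht => UnitaryImage.allBelow_of_forall
      fun u hu => Nat.beq_eq.mpr (hi ⟨t, ht⟩ ⟨u, hu⟩))

theorem Kc_injective (h : S4 s) {a b : ZMod 3} (hab : Kc h a = Kc h b) : a = b := by
  by_contra hne
  refine tw_gmat_not_mem h (sub_ne_zero.2 hne) ?_
  have h1 : tw h a (gmat h 7) ∈ Kc h b :=
    hab ▸ Subgroup.mem_map_of_mem (tw h a).toMonoidHom (gmat_mem h 7)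
  rw [mem_Kc] at h1
  show twF h (a - b) (gmat h 7) ∈ K0 h
  rw [sub_eq_neg_add, ← twF_add]
  exact h1

end Cfsg.Agent.U62Twist93
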