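import Mathlib
import Cfsg.Agent.Lib.LFOrbits18
import Cfsg.Agent.Lib.U62Twist93

/-!
The stabiliser in the model of a vector lying over a conjugate of `z`: an elementary abelian normal
subgroup of order 16 with the alternating group of degree six as quotient.
-/

set_option autoImplicit false
set_option linter.unusedSectionVars false
set_option linter.style.haveILetI false
set_option maxHeartbeats 800000
set_option maxRecDepth 100000

namespace Cfsg.Agent.LFUStab18

open Subgroup Cfsg.Agent.U62Mon93 Cfsg.Agent.U62Existence93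
open Cfsg.Agent.LFModel89 Cfsg.Agent.LFSetting89 Cfsg.Agent.LFSylow89
open Cfsg.Agent.LFMat89 Cfsg.Agent.LFData89 Cfsg.Agent.LFCheck89 Cfsg.Agent.LFElem89
open Cfsg.Agent.LFStabData18 Cfsg.Agent.LFStabCheck18 Cfsg.Agent.LFOrbits18
open Cfsg.Agent.FischerFrame18 (InvQ imgStab card_imgStab imgE interH exists_setting)
open scoped Matrix

section Codes

variable {X : Type*} [Group X] [Finite X] {V : Type*} [AddCommGroup V]
  {F : Type} [Field F] [Fintype F] {s : F} {h : S4 s} {ρ : X →* AddMonoid.End V}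
  {q : V → ZMod 2} {n : X} {Mb : Subgroup X} {ν : (Fin 6 → F) → V} {Φ : K0 h →* X}

/-- The element acts as the coded matrix. -/
def Rp (ρ : X →* AddMonoid.End V) (s : F) (ν : (Fin 6 → F) → V) (g : X) (M : ℕ) : Prop :=
  ∀ v, op ρ g (ν v) = ν (matOf s M *ᵥ v)

variable (H : Hyp ρ q n Mb) (C : Coord h ρ q n Mb ν Φ)
include H C

theorem Rp_unique {g g' : X} {M : ℕ} (hg : Rp ρ s ν g M) (hg' : Rp ρ s ν g' M) : g = g' :=
  ext_op H C fun v => (hg v).trans (hg' v).symm

theorem Rp_mul {g g' : X} {M M' : ℕ} (hg : Rp ρ s ν g M) (hg' : Rp ρ s ν g' M') :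
    Rp ρ s ν (g * g') (mulM M M') := fun v => by
  rw [rho_mul, hg', hg, matOf_mul h, Matrix.mulVec_mulVec]

theorem Rp_one : Rp ρ s ν 1 idM := fun v => by rw [rho_one, matOf_id h, Matrix.one_mulVec]

theorem Rp_inv {g : X} {M I : ℕ} (hg : Rp ρ s ν g M) (hI : mulM M I = idM) :
    Rp ρ s ν g⁻¹ I := fun v => by
  have e : op ρ g (ν (matOf s I *ᵥ v)) = ν v := by
    rw [hg, Matrix.mulVec_mulVec, ← matOf_mul h, hI, matOf_id h, Matrix.one_mulVec]
  conv_lhs => rw [← e, ← rho_mul, inv_mul_cancel, rho_one]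

theorem Rp_nc {g : X} {M : ℕ} (hg : Rp ρ s ν g M) (c : ℕ) :
    op ρ g (nc s ν c) = nc s ν (app M c) := by rw [nc, hg, nc, vec_app h]

theorem Rp_word {w : List ℕ} {M : ℕ} (hw : w.all (fun x => Nat.blt x 8) = true)
    (hM : word w = M) : ∃ g ∈ Mb, Rp ρ s ν g M := by
  obtain ⟨g, hg, e⟩ := word_mem h w hw
  exact ⟨Φ ⟨g, hg⟩, C.range ▸ ⟨_, rfl⟩, fun v => by rw [C.act, e, hM]⟩

theorem Rp_code {g : X} {M M' : ℕ} (hM : M < 2 ^ 72) (hM' : M' < 2 ^ 72)
    (hg : Rp ρ s ν g M) (hg' : Rp ρ s ν g M') : M = M' :=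
  matOf_inj h hM hM' (Matrix.ext_of_mulVec_single fun i => C.bij.1 ((hg _).symm.trans (hg' _)))

theorem e2_spec {i : ℕ} (hi : i < 16) : (∃ g ∈ Mb, Rp ρ s ν g (e2 i)) ∧ e2 i < 2 ^ 72 ∧
    app (e2 i) uC = uC := by
  have e := allBelow_spec e2_words.1 i hi
  simp only [Bool.and_eq_true, Nat.beq_eq, Nat.blt_eq] at e
  exact ⟨Rp_word H C e.1.1.2 e.1.1.1, e.1.2, e.2⟩

omit H C in
theorem e2_index {M : ℕ} (hM : M ∈ e2M) : ∃ i < 16, M = e2 i := by
  obtain ⟨i, hi, rfl⟩ := List.mem_iff_getElem.1 hM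
  exact ⟨i, e2_words.2.2 ▸ hi, by simp [e2, List.getD_eq_getElem?_getD, hi]⟩

omit H C in
theorem e2_mul {i j : ℕ} (hi : i < 16) (hj : j < 16) : ∃ k < 16, mulM (e2 i) (e2 j) = e2 k ∧
    mulM (e2 i) (e2 j) = mulM (e2 j) (e2 i) ∧ mulM (e2 i) (e2 i) = idM ∧
      (i ≠ j → e2 i ≠ e2 j) := by
  have e := allBelow_spec e2_group i hi
  simp only [Bool.and_eq_true, Nat.beq_eq] at e
  have e' := allBelow_spec e.2 j hj
  simp only [Bool.and_eq_true, Bool.or_eq_true, Nat.beq_eq, memB_iff] at e'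
  obtain ⟨k, hk, ek⟩ := e2_index e'.1.1
  refine ⟨k, hk, ek, e'.1.2, e.1, fun hne heq => ?_⟩
  rcases e'.2 with e'' | e''
  · exact hne e''
  · simp [heq] at e''

/-- The normal subgroup of order sixteen. -/
def E2x (H : Hyp ρ q n Mb) (C : Coord h ρ q n Mb ν Φ) : Subgroup X where
  carrier := {g | ∃ i < 16, Rp ρ s ν g (e2 i)}
  one_mem' := ⟨0, by norm_num, by rw [e2_words.2.1]; exact Rp_one H C⟩
  mul_mem' := fun {a b} ⟨i, hi, ha⟩ ⟨j, hj, hb⟩ => by
    obtain ⟨k, hk, ek, -⟩ := e2_mul hi hj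
    exact ⟨k, hk, ek ▸ Rp_mul H C ha hb⟩
  inv_mem' := fun {a} ⟨i, hi, ha⟩ => by
    obtain ⟨k, hk, -, -, hsq, -⟩ := e2_mul hi hi
    exact ⟨i, hi, Rp_inv H C ha hsq⟩

theorem E2x_sq {g : X} (hg : g ∈ E2x H C) : g * g = 1 := by
  obtain ⟨i, hi, hg⟩ := hg
  obtain ⟨k, hk, -, -, hsq, -⟩ := e2_mul hi hi
  exact Rp_unique H C (hsq ▸ Rp_mul H C hg hg) (Rp_one H C)

theorem card_E2x : Nat.card (E2x H C) = 16 := by
  classical
  let f : Fin 16 → E2x H C := fun i =>
    ⟨(e2_spec H C i.2).1.choose, i, i.2, (e2_spec H C i.2).1.choose_spec.2⟩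
  refine ((Nat.card_congr (Equiv.ofBijective f ⟨fun i j e => ?_, ?_⟩)).symm.trans (Nat.card_fin 16))
  · by_contra hne
    obtain ⟨k, hk, -, -, -, hd⟩ := e2_mul i.2 j.2
    refine hd (fun e' => hne (Fin.ext e')) (Rp_code H C (e2_spec H C i.2).2.1
      (e2_spec H C j.2).2.1 (e2_spec H C i.2).1.choose_spec.2 ?_)
    rw [show (e2_spec H C i.2).1.choose = (e2_spec H C j.2).1.choose from congrArg Subtype.val e]
    exact (e2_spec H C j.2).1.choose_spec.2
  · rintro ⟨g, i, hi, hg⟩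
    exact ⟨⟨i, hi⟩, Subtype.ext (Rp_unique H C (e2_spec H C hi).1.choose_spec.2 hg)⟩

theorem E2x_le : E2x H C ≤ Mb := by
  rintro g ⟨i, hi, hg⟩
  obtain ⟨g', hg', e⟩ := (e2_spec H C hi).1
  exact Rp_unique H C hg e ▸ hg'

theorem E2x_fix {g : X} (hg : g ∈ E2x H C) : op ρ g (nc s ν uC) = nc s ν uC := by
  obtain ⟨i, hi, hg⟩ := hg
  rw [Rp_nc H C hg, (e2_spec H C hi).2.2]

theorem E2x_conj {g : X} {M I : ℕ} (hg : Rp ρ s ν g M) (hI : mulM M I = idM)
    (hnorm : ∀ i < 16, memB (mulM (mulM M (e2 i)) I) e2M = true) :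
    ∀ e ∈ E2x H C, g * e * g⁻¹ ∈ E2x H C := by
  rintro e ⟨i, hi, he⟩
  obtain ⟨j, hj, ej⟩ := e2_index (memB_iff.1 (hnorm i hi))
  exact ⟨j, hj, ej ▸ Rp_mul H C (Rp_mul H C hg he) (Rp_inv H C hg hI)⟩

/-- The monomial elements of the model normalising the subgroup of order 16 and fixing the vector
give every even permutation of the lines. -/
theorem monomial_normaliser {N : Subgroup X} (hr : ∀ g, Rp ρ s ν g rM → g ∈ N)
    (hg : ∀ g, Rp ρ s ν g gM → g ∈ N) (hE : E2x H C ≤ N) : 5760 ≤ Nat.card N := by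
  classical
  haveI : Finite (SU 6 F 2) := Subtype.finite
  let P : Subgroup (K0 h) := N.comap Φ ⊓ (Mon h).subgroupOf (K0 h)
  have hperm : ∀ x : P, ∃ π d, U62Mon93.IsM s x.1.1 π d := fun x => Subgroup.mem_subgroupOf.1 x.2.2
  choose pp dd hpd using hperm
  let θ : P →* Equiv.Perm (Fin 6) := MonoidHom.mk' pp fun a b =>
    ((hpd (a * b)).perm_unique h ((hpd a).mul h (hpd b))).1
  have hsub : Subgroup.closure ({ca, c5} : Set (Equiv.Perm (Fin 6))) ≤ θ.range := by
    refine (Subgroup.closure_le _).2 ?_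
    have key : ∀ (M : ℕ) (w : List ℕ) (π : Equiv.Perm (Fin 6)) (d : Fin 6 → ZMod 3),
        w.all (fun x => Nat.blt x 8) = true → word w = M → MonC M π d →
          (∀ g, Rp ρ s ν g M → g ∈ N) → π ∈ θ.range := by
      intro M w π d hw hM hmon hN
      obtain ⟨x, hx, e⟩ := word_mem h w hw
      have hxm : U62Mon93.IsM s x π d := fun i j => by
        show (x.1 : Matrix (Fin 6) (Fin 6) F) i j = _
        rw [e, hM]
        show UnitaryImage.iota code4 s (dig (col M j) i) = _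
        rw [hmon i j]
        split
        · exact iota_exC h _
        · exact UnitaryImage.iota_zero
      refine ⟨⟨⟨x, hx⟩, hN _ fun v => by rw [C.act, e, hM], π, d, hxm⟩, ?_⟩
      exact ((hpd _).perm_unique h hxm).1
    obtain ⟨e1, -, -, e4, hall, -⟩ := rsfg_words
    simp only [List.all_append, Bool.and_eq_true] at hall
    rintro π (rfl | rfl)
    · exact key rM rW _ _ hall.1.1.1 e1 monC_rg.1 hr
    · exact key gM gW _ _ hall.2 e4 monC_rg.2 hg
  have h360 : 360 ≤ Nat.card P :=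
    (card_closure_six.trans (Subgroup.card_le_of_le hsub)).trans
      (Nat.card_le_card_of_surjective θ.rangeRestrict θ.rangeRestrict_surjective)
  let f : E2x H C × P → N := fun p => ⟨p.1.1 * Φ p.2.1, mul_mem (hE p.1.2) p.2.2.1⟩
  have hf : Function.Injective f := by
    rintro ⟨a, x⟩ ⟨b, y⟩ e
    have e' : (a : X) * Φ x.1 = b * Φ y.1 := congrArg Subtype.val e
    have hm : (b : X)⁻¹ * a = Φ (y * x⁻¹ : P).1 := by
      rw [Subgroup.coe_mul, Subgroup.coe_inv, map_mul, map_inv, eq_mul_inv_iff_mul_eq, mul_assoc,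
        e', inv_mul_cancel_left]
    obtain ⟨i, hi, hR⟩ := mul_mem (inv_mem b.2) a.2
    rw [hm] at hR
    have hmat : ((y * x⁻¹ : P).1.1.1 : Matrix (Fin 6) (Fin 6) F) = matOf s (e2 i) :=
      Matrix.ext_of_mulVec_single fun j => C.bij.1 ((C.act _ _).symm.trans (hR _))
    have hi0 : i = 0 := by
      by_contra hne
      have hk := allBelow_spec e2_not_monomial i hi
      have hb : Nat.beq i 0 = false := by
        cases e : Nat.beq i 0
        · rfl
        · exact absurd (Nat.eq_of_beq_eq_true e) hne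
      rw [hb, Bool.false_or] at hk
      simp only [twoIn, List.any_eq_true, List.mem_range, Bool.and_eq_true] at hk
      obtain ⟨j, hj, k, hk6, hnz, k', hk', hnz'⟩ := hk
      have hpos : ∀ c : ℕ, c < 6 → (!Nat.beq (dig (col (e2 i) j) c) 0) = true →
          (⟨c % 6, Nat.mod_lt _ (by norm_num)⟩ : Fin 6) = pp (y * x⁻¹) ⟨j, hj⟩ := by
        intro c hc hcn
        by_contra hcne
        have hz := hpd (y * x⁻¹) ⟨c % 6, Nat.mod_lt _ (by norm_num)⟩ ⟨j, hj⟩
        rw [if_neg hcne] at hz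
        have hval := congrFun (congrFun hmat ⟨c % 6, Nat.mod_lt _ (by norm_num)⟩) ⟨j, hj⟩
        refine UnitaryImage.iota_ne_zero (genOK h) (x := dig (col (e2 i) j) c) (dig_lt _ _) ?_ ?_
        · intro e0; rw [e0] at hcn; simp at hcn
        · have hmod : c % 6 = c := Nat.mod_eq_of_lt hc
          simp only [matOf, Matrix.of_apply, vec, hmod] at hval
          rw [← hval]
          have hc' : (⟨c % 6, Nat.mod_lt _ (by norm_num)⟩ : Fin 6) = ⟨c, hc⟩ := Fin.ext hmod
          rw [hc'] at hz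
          exact hz
      have e1 := (hpos k hk6 hnz).trans (hpos k' (by omega) hnz').symm
      have e2' := congrArg Fin.val e1
      simp only [Nat.mod_eq_of_lt hk6, Nat.mod_eq_of_lt (show k' < 6 by omega)] at e2'
      omega
    subst hi0
    rw [e2_words.2.1] at hR
    have h1 : Φ (y * x⁻¹ : P).1 = 1 := Rp_unique H C hR (Rp_one H C)
    have hxy : y = x := mul_inv_eq_one.1 (Subtype.ext (C.inj (h1.trans (map_one Φ).symm)))
    subst hxy
    exact Prod.ext (Subtype.ext (mul_right_cancel e')) rfl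
  have := Nat.card_le_card_of_injective f hf
  rw [Nat.card_prod, card_E2x H C] at this
  omega

end Codes

universe u

variable {G : Type u} [Group G] [Finite G] {z : G} {Q : Subgroup (centralizer ({z} : Set G))}
  [Q.Normal] {V : Type u} [AddCommGroup V] {zc : centralizer ({z} : Set G)}
  {π : centralizer ({z} : Set G) → V} {ρ : centralizer ({z} : Set G) ⧸ Q →* AddMonoid.End V}
  {q : V → ZMod 2} {n : centralizer ({z} : Set G) ⧸ Q}
  {Mb : Subgroup (centralizer ({z} : Set G) ⧸ Q)}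
  {F : Type} [Field F] [Fintype F] {s : F} {h : S4 s} {ν : (Fin 6 → F) → V}
  {Φ : K0 h →* centralizer ({z} : Set G) ⧸ Q}
variable (hF : Cfsg.IsOfLargeFischerTypeAt z Q) (D : Data z Q zc π ρ q n Mb)
  (C : Coord h ρ q n Mb ν Φ)

/-- The stabiliser in the subgroup of index two. -/
def T0u (ρ : centralizer ({z} : Set G) ⧸ Q →* AddMonoid.End V)
    (Mb : Subgroup (centralizer ({z} : Set G) ⧸ Q)) (v : V) :
    Subgroup (centralizer ({z} : Set G) ⧸ Q) where
  carrier := {g | g ∈ Mb ∧ op ρ g v = v}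
  one_mem' := ⟨one_mem _, rho_one ρ v⟩
  mul_mem' := fun {a b} ha hb => ⟨mul_mem ha.1 hb.1, by rw [rho_mul, hb.2, ha.2]⟩
  inv_mem' := fun {a} ha => ⟨inv_mem ha.1, by
    conv_lhs => rw [← ha.2, ← rho_mul, inv_mul_cancel, rho_one]⟩

include hF D C in
/-- The stabiliser has a homomorphism onto `A₆` whose kernel is the subgroup of order 16, which
is also the intersection with the image of the conjugate extraspecial group. -/
theorem structure_T0 {y : centralizer ({z} : Set G)} (hy : InvQ z Q y)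
    (hye : π y = nc s ν uC) {g : G} (hg : g * z * g⁻¹ = (y : G)) :
    (∀ a ∈ T0u ρ Mb (nc s ν uC), ∀ e ∈ E2x (hyp D) C, a * e * a⁻¹ ∈ E2x (hyp D) C) ∧
      Nat.card (interH z g Q) = 128 ∧
      (∃ φ : T0u ρ Mb (nc s ν uC) →* alternatingGroup (Fin 6), Function.Surjective φ ∧
        ∀ a, φ a = 1 ↔ (a : centralizer ({z} : Set G) ⧸ Q) ∈ E2x (hyp D) C) ∧
      (∀ a, a ∈ imgE z g Q → a ∈ Mb → a ∈ E2x (hyp D) C) ∧
      (∀ a ∈ E2x (hyp D) C, a ∈ imgE z g Q) ∧
      Nat.card (imgE z g Q) = 32 ∧ (∀ a ∈ imgE z g Q, op ρ a (π y) = π y) := by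
  classical
  haveI : IsSimpleGroup (alternatingGroup (Fin 6)) := alternatingGroup.isSimpleGroup (by simp)
  have hA6 : Nat.card (alternatingGroup (Fin 6)) = 360 := by
    rw [nat_card_alternatingGroup, Nat.card_fin]; rfl
  obtain ⟨V', _, zc', π', ρ', q', Fr, S⟩ := exists_setting z Q hF
  set T := ((centralizer ({z} : Set G) ⊓ centralizer ({(y : G)} : Set G)).subgroupOf
    (centralizer ({z} : Set G))).map (QuotientGroup.mk' Q) with hTdef
  obtain ⟨h128, hET, hnorm, hEel, h32, hEn, ⟨eA⟩⟩ := S.local_structure hy.mem hy.ne_z hg T hTdef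
  set E := imgE z g Q with hEdef
  set E2 := E2x (hyp D) C with hE2def
  set T0 := T0u ρ Mb (nc s ν uC) with hT0def
  have hTfix : ∀ a ∈ T, op ρ a (π y) = π y := by
    rintro _ ⟨c, hc, rfl⟩
    rw [← act D c hy.mem]
    congr 1
    exact Subtype.ext (mul_inv_eq_iff_eq_mul.2
      (mem_centralizer_singleton_iff.1 (Subgroup.mem_subgroupOf.1 hc).2))
  have hTcard : Nat.card T = 11520 := by
    have e := Subgroup.card_eq_card_quotient_mul_card_subgroup (E.subgroupOf T)
    rw [Nat.card_congr eA.toEquiv, hA6, Nat.card_congr (Subgroup.subgroupOfEquivOfLe hET).toEquiv,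
      h32] at e
    exact e
  have hstab : ∀ a, a ∈ T ↔ op ρ a (nc s ν uC) = nc s ν uC := by
    have hsub : (T : Set (centralizer ({z} : Set G) ⧸ Q)) ⊆ imgStab z Q y := fun a ha =>
      (imgStab_iff D hy.mem a).2 (hTfix a ha)
    have heq := Set.eq_of_subset_of_ncard_le hsub (by
      rw [← Nat.card_coe_set_eq, ← Nat.card_coe_set_eq, (card_imgStab hF hy).1
        (isConj_iff.2 ⟨g, hg⟩)]
      exact hTcard.ge) (Set.toFinite _)
    intro a
    rw [← SetLike.mem_coe, heq, imgStab_iff D hy.mem, hye]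
  have hT0T : T0 ≤ T := fun a ha => (hstab a).2 ha.2
  have hT0eq : T0 = T ⊓ Mb := by
    ext a
    exact ⟨fun ha => ⟨hT0T ha, ha.1⟩, fun ha => ⟨ha.2, (hstab a).1 ha.1⟩⟩
  have hT0card : Nat.card T0 = 5760 := by
    haveI : Mb.Normal := Subgroup.normal_of_index_eq_two D.index_two
    have h1 : Mb.relIndex T ∣ 2 := D.index_two ▸ Subgroup.relIndex_dvd_index_of_normal Mb T
    have h2 := Subgroup.card_mul_index (Mb.subgroupOf T)
    rw [hTcard] at h2
    have h3 : Nat.card (Mb.subgroupOf T) = Nat.card T0 := by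
      rw [← Subgroup.inf_subgroupOf_right,
        Nat.card_congr (Subgroup.subgroupOfEquivOfLe (inf_le_right : Mb ⊓ T ≤ T)).toEquiv, hT0eq,
        inf_comm]
    have h4 := orbit_mul_stab ρ Mb (nc s ν uC)
    rw [card_Mb (hyp D) C, show Nat.card {g // g ∈ Mb ∧ op ρ g (nc s ν uC) = nc s ν uC} =
      Nat.card T0 from rfl] at h4
    have h5 : Nat.card T0 ∣ 9797760 := ⟨_, (mul_comm _ _).trans h4 |>.symm⟩
    rw [h3] at h2
    change Nat.card T0 * Mb.relIndex T = 11520 at h2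
    rcases (Nat.dvd_prime Nat.prime_two).1 h1 with e | e <;> rw [e] at h2
    · rw [show Nat.card T0 = 11520 by omega] at h5
      norm_num at h5
    · omega
  -- the subgroup of order sixteen is normal
  have hE2T0 : E2 ≤ T0 := fun a ha => ⟨E2x_le (hyp D) C ha, E2x_fix (hyp D) C ha⟩
  let Nz : Subgroup (centralizer ({z} : Set G) ⧸ Q) := T0 ⊓ Subgroup.normalizer (E2 : Set _)
  have hNz : T0 ≤ Nz := by
    obtain ⟨-, -, -, -, hall, e6, -, -, e9, -, -, -, -, -, hrI, hgI⟩ := rsfg_words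
    have hgen : ∀ (M I : ℕ), app M uC = uC → mulM M I = idM →
        (∀ i < 16, memB (mulM (mulM M (e2 i)) I) e2M = true) →
        ∀ a ∈ Mb, Rp ρ s ν a M → a ∈ Nz := by
      intro M I hu hI hn a haM ha
      refine ⟨⟨haM, by rw [Rp_nc (hyp D) C ha, hu]⟩, ?_⟩
      show a ∈ Subgroup.normalizer (E2 : Set _)
      rw [Subgroup.mem_normalizer_iff]
      have hc := E2x_conj (hyp D) C ha hI hn
      have hmap : E2.map (MulAut.conj a).toMonoidHom = E2 := Subgroup.eq_of_le_of_card_ge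
        (by rintro _ ⟨b, hb, rfl⟩; exact hc b hb)
        (by rw [Subgroup.card_map_of_injective (MulAut.conj a).injective])
      intro b
      refine ⟨hc b, fun hb => ?_⟩
      obtain ⟨b', hb', e⟩ := hmap.ge hb
      have : b' = b := (MulAut.conj a).injective e
      exact this ▸ hb'
    have hle : 5760 ≤ Nat.card Nz := by
      refine monomial_normaliser (hyp D) C (fun a ha => ?_) (fun a ha => ?_) ?_
      · obtain ⟨e1, -⟩ := rsfg_words
        simp only [List.all_append, Bool.and_eq_true] at hall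
        obtain ⟨a', ha', e'⟩ := Rp_word (hyp D) C hall.1.1.1 e1
        exact hgen rM rI e6 hrI (fun i hi => (Bool.and_eq_true_iff.1
          (allBelow_spec e2_normalised i hi)).1) a (Rp_unique (hyp D) C ha e' ▸ ha') ha
      · obtain ⟨-, -, -, e4, -⟩ := rsfg_words
        simp only [List.all_append, Bool.and_eq_true] at hall
        obtain ⟨a', ha', e'⟩ := Rp_word (hyp D) C hall.2 e4
        exact hgen gM gI e9 hgI (fun i hi => (Bool.and_eq_true_iff.1
          (allBelow_spec e2_normalised i hi)).2) a (Rp_unique (hyp D) C ha e' ▸ ha') ha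
      · exact le_inf hE2T0 Subgroup.le_normalizer
    exact (Subgroup.eq_of_le_of_card_ge inf_le_left (hT0card ▸ hle)).ge
  have hconj : ∀ a ∈ T0, ∀ e ∈ E2, a * e * a⁻¹ ∈ E2 := fun a ha e he =>
    (Subgroup.mem_normalizer_iff.1 (hNz ha).2 e).1 he
  -- the map to the alternating group
  haveI := hEn
  let φT : T →* alternatingGroup (Fin 6) :=
    eA.toMonoidHom.comp (QuotientGroup.mk' (E.subgroupOf T))
  have φTker : ∀ a, φT a = 1 ↔ (a : centralizer ({z} : Set G) ⧸ Q) ∈ E := fun a => by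
    show eA (QuotientGroup.mk' _ a) = 1 ↔ _
    rw [map_eq_one_iff _ eA.injective]
    exact (QuotientGroup.eq_one_iff a).trans Subgroup.mem_subgroupOf
  have φTsurj : Function.Surjective φT := eA.surjective.comp (QuotientGroup.mk'_surjective _)
  let φ : T0 →* alternatingGroup (Fin 6) := φT.comp (Subgroup.inclusion hT0T)
  have φker : ∀ a : T0, φ a = 1 ↔ (a : centralizer ({z} : Set G) ⧸ Q) ∈ E := fun a => φTker _
  haveI hT0n : (T0.subgroupOf T).Normal := ⟨fun a ha b => by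
    rw [Subgroup.mem_subgroupOf] at ha ⊢
    refine ⟨(Subgroup.normal_of_index_eq_two D.index_two).conj_mem _ ha.1 b, (hstab _).1 ?_⟩
    exact mul_mem (mul_mem b.2 (hT0T ha)) (inv_mem b.2)⟩
  have φsurj : Function.Surjective φ := by
    have hr : φ.range = (T0.subgroupOf T).map φT := by
      ext x
      constructor
      · rintro ⟨a, rfl⟩; exact ⟨Subgroup.inclusion hT0T a, a.2, rfl⟩
      · rintro ⟨a, ha, rfl⟩; exact ⟨⟨a, Subgroup.mem_subgroupOf.1 ha⟩, rfl⟩
    rcases (hT0n.map φT φTsurj).eq_bot_or_eq_top with e | e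
    · exfalso
      have hle : T0 ≤ E := fun a ha => (φker ⟨a, ha⟩).1 (by
        have : φ ⟨a, ha⟩ ∈ φ.range := ⟨_, rfl⟩
        rw [hr, e] at this
        exact this)
      have := Subgroup.card_le_of_le hle
      omega
    · rw [← MonoidHom.range_eq_top, hr, e]
  have hker16 : Nat.card φ.ker = 16 := by
    have e := Subgroup.card_eq_card_quotient_mul_card_subgroup φ.ker
    rw [Nat.card_congr (QuotientGroup.quotientKerEquivOfSurjective φ φsurj).toEquiv, hA6,
      hT0card] at e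
    omega
  haveI hE2n : (E2.subgroupOf T0).Normal := ⟨fun e he a => hconj a a.2 e he⟩
  have hker : φ.ker = E2.subgroupOf T0 := by
    have hle : E2.subgroupOf T0 ≤ φ.ker := by
      rcases (hE2n.map φ φsurj).eq_bot_or_eq_top with e | e
      · exact (Subgroup.map_eq_bot_iff _).1 e
      · exfalso
        have := Subgroup.card_map_dvd (E2.subgroupOf T0) φ
        rw [e, Subgroup.card_top, hA6,
          Nat.card_congr (Subgroup.subgroupOfEquivOfLe hE2T0).toEquiv, card_E2x] at this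
        norm_num at this
    refine (Subgroup.eq_of_le_of_card_ge hle (le_of_eq ?_)).symm
    rw [hker16, Nat.card_congr (Subgroup.subgroupOfEquivOfLe hE2T0).toEquiv, card_E2x]
  have hφE2 : ∀ a : T0, φ a = 1 ↔ (a : centralizer ({z} : Set G) ⧸ Q) ∈ E2 := fun a => by
    rw [← MonoidHom.mem_ker, hker, Subgroup.mem_subgroupOf]
  refine ⟨hconj, h128, ⟨φ, φsurj, hφE2⟩, fun a ha hM => ?_, fun a ha => ?_, h32,
    fun a ha => hTfix a (hET ha)⟩
  · have haT0 : a ∈ T0 := hT0eq ▸ ⟨hET ha, hM⟩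
    exact (hφE2 ⟨a, haT0⟩).1 ((φker ⟨a, haT0⟩).2 ha)
  · exact (φker ⟨a, hE2T0 ha⟩).1 ((hφE2 ⟨a, hE2T0 ha⟩).2 ha)

end Cfsg.Agent.LFUStab18
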