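import Mathlib
import Cfsg.Agent.Lib.LFUStab18
import Cfsg.Agent.S5441

/-!
An element of order three over the fixed point free element, the canonical lift of a singular
vector, and the elements of the centraliser of the element of order three inside a conjugate
extraspecial group.
-/

set_option autoImplicit false
set_option linter.unusedSectionVars false
set_option linter.style.haveILetI false
set_option maxHeartbeats 800000
set_option maxRecDepth 100000

namespace Cfsg.Agent.LFInter18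

open Subgroup Cfsg.Agent.U62Mon93 Cfsg.Agent.U62Existence93 Cfsg.Agent.LargeExtraspecial
open Cfsg.Agent.LargeExtraspecialPair
open Cfsg.Agent.LFForm89 Cfsg.Agent.LFModel89 Cfsg.Agent.LFSetting89 Cfsg.Agent.LFSylow89
open Cfsg.Agent.LFMat89 Cfsg.Agent.LFData89 Cfsg.Agent.LFCheck89 Cfsg.Agent.LFElem89
open Cfsg.Agent.LFStabData18 Cfsg.Agent.LFStabCheck18 Cfsg.Agent.LFOrbits18 Cfsg.Agent.LFUStab18
open Cfsg.Agent.FischerFrame18 (InvQ imgE interH)
open scoped Matrix

universe u

variable {G : Type u} [Group G] [Finite G] {z : G} {Q : Subgroup (centralizer ({z} : Set G))}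
  [Q.Normal] {V : Type u} [AddCommGroup V] {zc : centralizer ({z} : Set G)}
  {π : centralizer ({z} : Set G) → V} {ρ : centralizer ({z} : Set G) ⧸ Q →* AddMonoid.End V}
  {q : V → ZMod 2} {n : centralizer ({z} : Set G) ⧸ Q}
  {Mb : Subgroup (centralizer ({z} : Set G) ⧸ Q)}
  {F : Type} [Field F] [Fintype F] {s : F} {h : S4 s} {ν : (Fin 6 → F) → V}
  {Φ : K0 h →* centralizer ({z} : Set G) ⧸ Q}
variable (hF : Cfsg.IsOfLargeFischerTypeAt z Q) (D : Data z Q zc π ρ q n Mb)
  (C : Coord h ρ q n Mb ν Φ)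

/-- The product of the three conjugates under an element of order three. -/
def tri {H : Type*} [Group H] (x a : H) : H := a * (x * a * x⁻¹) * (x * (x * a * x⁻¹) * x⁻¹)

section
include D

theorem zc_left (a : centralizer ({z} : Set G)) : zc * a = a * zc := (D.zc_central a).symm

theorem mul_z {a : centralizer ({z} : Set G)} : a * zc * zc = a := by
  rw [mul_assoc, D.ext.zz, mul_one]

theorem tri_mul_z (x a : centralizer ({z} : Set G)) : tri x (a * zc) = tri x a * zc := by
  have e' : ∀ u v : centralizer ({z} : Set G), u * zc * v = u * v * zc := fun u v => by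
    rw [mul_assoc u zc v, zc_left D v, ← mul_assoc]
  simp only [tri, e', ← mul_assoc, mul_z D]

theorem pi_zc : π zc = 0 := (D.link.ker zc D.ext.mem).2 (Or.inr rfl)

theorem pi_conj {x : centralizer ({z} : Set G)} (hx : QuotientGroup.mk' Q x = n)
    {a : centralizer ({z} : Set G)} (ha : a ∈ Q) : π (x * a * x⁻¹) = op ρ n (π a) := by
  rw [act D x ha, hx]

theorem conj_mem (x : centralizer ({z} : Set G)) {a : centralizer ({z} : Set G)} (ha : a ∈ Q) :
    x * a * x⁻¹ ∈ Q := Subgroup.Normal.conj_mem ‹Q.Normal› a ha x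

theorem tri_cases {x : centralizer ({z} : Set G)} (hx : QuotientGroup.mk' Q x = n)
    {a : centralizer ({z} : Set G)} (ha : a ∈ Q) : tri x a = 1 ∨ tri x a = zc := by
  have h1 := conj_mem D x ha
  have h2 := conj_mem D x h1
  refine (D.link.ker _ (mul_mem (mul_mem ha h1) h2)).1 ?_
  rw [D.link.add _ (mul_mem ha h1) _ h2, D.link.add _ ha _ h1, pi_conj D hx h1, pi_conj D hx ha]
  exact (show π a + op ρ n (π a) + op ρ n (op ρ n (π a)) =
    op ρ n (op ρ n (π a)) + op ρ n (π a) + π a by abel).trans (D.fpf (π a))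

theorem tri_comm {x w h' : centralizer ({z} : Set G)} (hc : h' * x = x * h')
    (e : h' * w * h'⁻¹ = w * zc) : h' * tri x w * h'⁻¹ = tri x w * zc := by
  have hx : h' * x * h'⁻¹ = x := by rw [hc, mul_inv_cancel_right]
  have : h' * tri x w * h'⁻¹ = tri (h' * x * h'⁻¹) (h' * w * h'⁻¹) := by
    simp only [tri]; group
  rw [this, hx, e, tri_mul_z D]

/-- A central product is not multiplied by the centre. -/
theorem no_flip {x w h' : centralizer ({z} : Set G)} (hx : QuotientGroup.mk' Q x = n)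
    (hc : h' * x = x * h') (hw : w ∈ Q) : h' * w * h'⁻¹ ≠ w * zc := by
  intro e
  have e1 := tri_comm D hc e
  rcases tri_cases D hx hw with ht | ht <;> rw [ht] at e1
  · rw [mul_one, mul_inv_cancel, one_mul] at e1
    exact D.ext.ne_one e1.symm
  · rw [show h' * zc * h'⁻¹ = zc by rw [D.zc_central h', mul_inv_cancel_right], D.ext.zz] at e1
    exact D.ext.ne_one e1

/-- One of the two lifts has trivial product. -/
theorem exists_lift {x : centralizer ({z} : Set G)} (hx : QuotientGroup.mk' Q x = n)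
    {a : centralizer ({z} : Set G)} (ha : a ∈ Q) :
    ∃ b ∈ Q, π b = π a ∧ (b = a ∨ b = a * zc) ∧ tri x b = 1 := by
  rcases tri_cases D hx ha with e | e
  · exact ⟨a, ha, rfl, Or.inl rfl, e⟩
  · refine ⟨a * zc, mul_mem ha D.ext.mem, ?_, Or.inr rfl, by rw [tri_mul_z D, e, D.ext.zz]⟩
    rw [D.link.add a ha zc D.ext.mem, pi_zc D, add_zero]

theorem fixes_lift {x y h' : centralizer ({z} : Set G)} (hx : QuotientGroup.mk' Q x = n)
    (hc : h' * x = x * h') (hy : y ∈ Q) (hfix : op ρ (QuotientGroup.mk' Q h') (π y) = π y) :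
    h' * y * h'⁻¹ = y := by
  rcases pi_eq D hy (conj_mem D h' hy) (by rw [act D h' hy, hfix]) with e | e
  · exact e
  · exact absurd e (no_flip D hx hc hy)

theorem tri_of_comm {x a w : centralizer ({z} : Set G)} (h1 : Commute w (x * a * x⁻¹))
    (h2 : Commute w (x * (x * a * x⁻¹) * x⁻¹))
    (h3 : Commute (x * w * x⁻¹) (x * (x * a * x⁻¹) * x⁻¹)) :
    tri x (a * w) = tri x a * tri x w := by
  simp only [tri]
  have e1 : x * (a * w) * x⁻¹ = x * a * x⁻¹ * (x * w * x⁻¹) := by group
  have e2 : x * (x * (a * w) * x⁻¹) * x⁻¹ =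
      x * (x * a * x⁻¹) * x⁻¹ * (x * (x * w * x⁻¹) * x⁻¹) := by group
  rw [e2, e1]
  set b := x * a * x⁻¹
  set c := x * b * x⁻¹
  set w' := x * w * x⁻¹
  set w'' := x * w' * x⁻¹
  calc a * w * (b * w') * (c * w'') = a * (w * b) * (w' * c) * w'' := by group
    _ = a * (b * w) * (c * w') * w'' := by rw [h1.eq, h3.eq]
    _ = a * b * (w * c) * w' * w'' := by group
    _ = a * b * (c * w) * w' * w'' := by rw [h2.eq]
    _ = a * b * c * (w * w' * w'') := by group

end

section
include hF D C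

/-- A lift of the vector that is interchanged with `z`. -/
theorem exists_swap {x : centralizer ({z} : Set G)} (hx : QuotientGroup.mk' Q x = n) :
    ∃ (y : centralizer ({z} : Set G)) (g : G), InvQ z Q y ∧ π y = nc s ν uC ∧ tri x y = 1 ∧
      g * z * g⁻¹ = (y : G) ∧ g * (y : G) * g⁻¹ = z := by
  obtain ⟨y0, hy0, hy0e, hconj⟩ := u_class hF D C
  obtain ⟨y, hyQ, hye, hcases, htri⟩ := exists_lift D hx hy0.mem
  obtain ⟨p, hp, hpe⟩ := D.ext.partner y0 hy0.mem hy0.ne_one (fun e => hy0.ne_z (e ▸ D.zc_val))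
  have hyconj : IsConj z (y : G) := by
    rcases hcases with e | e
    · exact e ▸ hconj
    · refine hconj.trans (isConj_iff.2 ⟨(p : G), ?_⟩)
      rw [e, D.zc_central, ← hpe]
      simp
  have hyne : y ≠ 1 ∧ (y : G) ≠ z := by
    have hne : π y ≠ 0 := by
      rw [hye, hy0e]
      exact fun e => (show uC ≠ 0 by decide) (nc_inj (hyp D) C small_facts.2.2.2 (Nat.succ_pos _)
        (e.trans (nc_zero (hyp D) C).symm))
    exact ⟨fun e => hne (by rw [e, pi_one D]),
      fun e => hne (by rw [show y = zc from Subtype.ext (e.trans D.zc_val.symm), pi_zc D])⟩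
  have hy : InvQ z Q y := ⟨hyQ, by
    rw [sq_iff D hyQ, hye, hy0e, q_nc (hyp D) C, small_facts.2.1]; rfl, hyne.1, hyne.2⟩
  obtain ⟨g₀, hg₀⟩ := isConj_iff.1 hyconj
  -- `z` lies in the conjugate group
  set QG := Q.map (centralizer ({z} : Set G)).subtype with hQG
  have hgQG : g₀ * z * g₀⁻¹ ∈ QG := hg₀.symm ▸ ⟨y, hyQ, rfl⟩
  have P := pair_of_conj (lhyp D) hgQG (hg₀.symm ▸ hy.ne_z)
    (by rw [Subgroup.card_map_of_injective (Subgroup.subtype_injective _), D.card_Q]; norm_num)
  obtain ⟨_, ⟨w, hw, rfl⟩, hwe⟩ := P.zQ'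
  simp only [MulEquiv.coe_toMonoidHom, MulAut.conj_apply, Subgroup.coe_subtype] at hwe
  have hwz : (w : G) ≠ z := fun e => by
    rw [e, hg₀] at hwe
    exact hy.ne_z hwe
  have hwconj : IsConj z (w : G) :=
    isConj_iff.2 ⟨g₀⁻¹, (congrArg (fun t : G => g₀⁻¹ * t * g₀⁻¹⁻¹) hwe.symm).trans (by group)⟩
  obtain ⟨c, hc, hce⟩ := S5441.result z Q hF (w : G) (y : G) ⟨w.2, hw⟩ ⟨y.2, hyQ⟩ hwconj hyconj
    hwz hy.ne_z
  have hcz : c * z * c⁻¹ = z :=
    mul_inv_eq_iff_eq_mul.2 (mem_centralizer_singleton_iff.1 hc)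
  refine ⟨y, g₀ * c⁻¹, hy, hye.trans hy0e, htri, ?_, ?_⟩
  · rw [← hg₀]
    have : c⁻¹ * z * c = z := by
      conv_lhs => rw [← hcz]
      group
    calc g₀ * c⁻¹ * z * (g₀ * c⁻¹)⁻¹ = g₀ * (c⁻¹ * z * c) * g₀⁻¹ := by group
      _ = g₀ * z * g₀⁻¹ := by rw [this]
  · rw [← hce]
    calc g₀ * c⁻¹ * (c * (w : G) * c⁻¹) * (g₀ * c⁻¹)⁻¹ = g₀ * w * g₀⁻¹ := by group
      _ = z := hwe

theorem pol_code {a b : ℕ} {v w : V} (ha : v = nc s ν a) (hb : w = nc s ν b) :
    pol q v w = if polB a b then 1 else 0 := by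
  have hx : nc s ν (Nat.xor a b) = nc s ν a + nc s ν b := by rw [nc, nc, nc, vec_xor h, C.add]
  subst ha hb
  simp only [pol, ← hx, q_nc (hyp D) C, polB]
  have key : ∀ b1 b2 b3 : Bool, ((if b1 = true then (1 : ZMod 2) else 0) +
      (if b2 = true then 1 else 0) + if b3 = true then 1 else 0) =
      if (b1 ^^ (b2 ^^ b3)) = true then 1 else 0 := by decide
  exact key _ _ _

/-- The elements over the subgroup of order sixteen lie in the conjugate group. -/
theorem mem_conj_group {x y : centralizer ({z} : Set G)} {g : G}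
    (hx : QuotientGroup.mk' Q x = n) (hy : InvQ z Q y) (hye : π y = nc s ν uC)
    (htri : tri x y = 1) (hg : g * z * g⁻¹ = (y : G)) {c : centralizer ({z} : Set G)}
    (hcx : c * x = x * c) (hc : QuotientGroup.mk' Q c ∈ E2x (hyp D) C) :
    (c : G) ∈ (Q.map (centralizer ({z} : Set G)).subtype).map (MulAut.conj g).toMonoidHom := by
  classical
  obtain ⟨-, h128, -, -, hE2E, -, -⟩ := structure_T0 hF D C hy hye hg
  set QG := Q.map (centralizer ({z} : Set G)).subtype with hQG
  set Q' := QG.map (MulAut.conj g).toMonoidHom with hQ'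
  have P := pair_of_conj (lhyp D) (show g * z * g⁻¹ ∈ QG from hg.symm ▸ ⟨y, hy.mem, rfl⟩)
    (hg.symm ▸ hy.ne_z)
    (by rw [Subgroup.card_map_of_injective (Subgroup.subtype_injective _), D.card_Q]; norm_num)
  rw [hg] at P
  haveI := finiteV D
  -- the intersection and its image
  have hI : ∀ {w : centralizer ({z} : Set G)}, w ∈ interH z g Q ↔ w ∈ Q ∧ (w : G) ∈ Q' :=
    fun {w} => Iff.rfl
  have hIy : ∀ {w}, w ∈ interH z g Q → w * y = y * w := fun {w} hw =>
    Subtype.ext (P.h'.comm _ (hI.1 hw).2)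
  have hD : ∀ {e : centralizer ({z} : Set G) ⧸ Q}, e ∈ E2x (hyp D) C →
      ∃ d : centralizer ({z} : Set G), (d : G) ∈ Q' ∧ QuotientGroup.mk' Q d = e := by
    intro e he
    obtain ⟨d, hd, rfl⟩ := hE2E e he
    exact ⟨d, hd.1, rfl⟩
  have hact : ∀ {d w : centralizer ({z} : Set G)}, (d : G) ∈ Q' → w ∈ interH z g Q →
      d * w * d⁻¹ = w ∨ d * w * d⁻¹ = y * w := by
    intro d w hd hw
    rcases P.h'.conj _ hd _ (hI.1 hw).2 with e | e
    · exact Or.inl (Subtype.ext e)
    · exact Or.inr (Subtype.ext e)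
  have hyS : π y ∈ piIm D (interH z g Q) :=
    ⟨y, ⟨hI.2 ⟨hy.mem, P.h'.mem⟩, hy.mem⟩, rfl⟩
  have hcode : ∀ v ∈ piIm D (interH z g Q), ∃ k ∈ wList, v = nc s ν k := by
    rintro _ ⟨w, ⟨hw, hwQ⟩, rfl⟩
    obtain ⟨k, hk, hke⟩ := exists_nc (hyp D) C (π w)
    refine ⟨k, memB_iff.1 ?_, hke.symm⟩
    have hx1 := allBelow_spec wList_ok.2 k hk
    have hp : polB k uC = false := by
      have := (comm_iff D hwQ hy.mem).1 (hIy hw)
      rw [pol_code hF D C hke.symm hye] at this
      cases hb : polB k uC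
      · rfl
      · rw [hb] at this; simp at this
    have hgens : allBelow (fun i => Nat.beq (app (e2 (2 ^ i)) k) k ||
        Nat.beq (app (e2 (2 ^ i)) k) (Nat.xor k uC)) 4 = true := by
      have hone : ∀ i < 4, (Nat.beq (app (e2 (2 ^ i)) k) k ||
          Nat.beq (app (e2 (2 ^ i)) k) (Nat.xor k uC)) = true := by
        intro i hi
        have h16 : 2 ^ i < 16 := by
          calc 2 ^ i < 2 ^ 4 := Nat.pow_lt_pow_right (by norm_num) hi
            _ = 16 := rfl
        obtain ⟨⟨e, heM, he⟩, -, -⟩ := e2_spec (hyp D) C h16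
        obtain ⟨d, hd, hde⟩ := hD (show e ∈ E2x (hyp D) C from ⟨_, h16, he⟩)
        have happ : π (d * w * d⁻¹) = nc s ν (app (e2 (2 ^ i)) k) := by
          rw [act D d hwQ, hde, ← hke, Rp_nc (hyp D) C he]
        rcases hact hd hw with e' | e' <;> rw [e'] at happ
        · rw [Bool.or_eq_true, Nat.beq_eq, Nat.beq_eq]
          exact Or.inl (nc_inj (hyp D) C (app_lt _ _) hk (happ.symm.trans hke.symm))
        · rw [D.link.add y hy.mem w hwQ, hye, ← hke, add_comm, nc, nc, ← C.add, ← vec_xor h] at happ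
          have := nc_inj (hyp D) C (app_lt _ _) (xor_lt hk small_facts.2.2.2) happ.symm
          rw [Bool.or_eq_true, Nat.beq_eq, Nat.beq_eq]
          exact Or.inr this
      simp only [allBelow, hone 0 (by norm_num), hone 1 (by norm_num), hone 2 (by norm_num),
        hone 3 (by norm_num), Bool.and_self]
    rw [hp, hgens] at hx1
    simpa using hx1
  have hwl : ∀ k ∈ wList, k < 4096 ∧ qpar k = false ∧ polB k (scal uC) = false := by
    intro k hk
    have := List.all_eq_true.1 wList_props.1 k hk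
    simp only [Bool.and_eq_true, Bool.not_eq_true', Nat.blt_eq] at this
    exact ⟨this.2, this.1.1, this.1.2⟩
  have hfull : ∀ k ∈ wList, nc s ν k ∈ piIm D (interH z g Q) := by
    have h64 : 64 ≤ Nat.card (piIm D (interH z g Q)) := by
      have e := card_piIm D (interH z g Q)
      rw [show interH z g Q ⊓ Q = interH z g Q from inf_eq_left.2 fun w hw => (hI.1 hw).1, h128] at e
      omega
    have hsub : ((piIm D (interH z g Q) : AddSubgroup V) : Set V) ⊆
        ↑(wList.toFinset.image (nc s ν)) := fun v hv => by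
      obtain ⟨k, hk, rfl⟩ := hcode v hv
      exact Finset.mem_coe.2 (Finset.mem_image_of_mem _ (List.mem_toFinset.2 hk))
    have heq := Set.eq_of_subset_of_ncard_le hsub (by
      rw [Set.ncard_coe_finset]
      refine (Finset.card_image_le.trans (List.toFinset_card_le _)).trans ?_
      rw [wList_ok.1, ← Nat.card_coe_set_eq]
      exact h64) (Finset.finite_toSet _)
    intro k hk
    rw [← SetLike.mem_coe, heq]
    exact Finset.mem_coe.2 (Finset.mem_image_of_mem _ (List.mem_toFinset.2 hk))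
  -- the correction
  obtain ⟨d, hd, hde⟩ := hD hc
  set q₀ := c⁻¹ * d with hq₀
  have hq₀Q : q₀ ∈ Q := QuotientGroup.eq.1 hde.symm
  have hnz : ∀ w ∈ interH z g Q, pol q (π w) (op ρ n (π y)) = 0 := by
    intro w hw
    obtain ⟨k, hk, hke⟩ := hcode (π w) ⟨w, ⟨hw, (hI.1 hw).1⟩, rfl⟩
    rw [pol_code hF D C hke (show op ρ n (π y) = nc s ν (scal uC) by
      rw [hye, nc, C.scalar, nc, vec_scal h small_facts.2.2.2]), (hwl k hk).2.2]
    rfl
  have hcomm : ∀ w ∈ interH z g Q, c * w * c⁻¹ = d * w * d⁻¹ := by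
    intro w hw
    have hwQ := (hI.1 hw).1
    have hsame : π (c * w * c⁻¹) = π (d * w * d⁻¹) := by rw [act D c hwQ, act D d hwQ, hde]
    rcases hact hd hw with e | e <;> rw [e] at hsame ⊢
    · rcases pi_eq D hwQ (conj_mem D c hwQ) hsame.symm with e' | e'
      · exact e'
      · exact absurd e' (no_flip D hx hcx hwQ)
    · have hywQ : y * w ∈ Q := mul_mem hy.mem hwQ
      rcases pi_eq D hywQ (conj_mem D c hwQ) hsame.symm with e' | e'
      · exact e'
      exfalso
      -- the three conjugates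
      have hyz : π (x * y * x⁻¹) = op ρ n (π y) := pi_conj D hx hy.mem
      have hyzz : π (x * (x * y * x⁻¹) * x⁻¹) = op ρ n (op ρ n (π y)) := by
        rw [pi_conj D hx (conj_mem D x hy.mem), hyz]
      have hwy : pol q (π w) (π y) = 0 := (comm_iff D hwQ hy.mem).1 (hIy hw)
      have h1 : Commute w (x * y * x⁻¹) := (comm_iff D hwQ (conj_mem D x hy.mem)).2 (by
        rw [hyz]; exact hnz w hw)
      have hy2 : x * (x * y * x⁻¹) * x⁻¹ ∈ Q := conj_mem D x (conj_mem D x hy.mem)
      have h2 : Commute w (x * (x * y * x⁻¹) * x⁻¹) := (comm_iff D hwQ hy2).2 (by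
        rw [hyzz, (hyp D).fx.o_two, (hyp D).fx.addr, hwy, add_zero]
        exact hnz w hw)
      have h3 : Commute (x * w * x⁻¹) (x * (x * y * x⁻¹) * x⁻¹) :=
        (comm_iff D (conj_mem D x hwQ) hy2).2 (by
          rw [hyzz, pi_conj D hx hwQ, (hyp D).fx.pol_o]
          exact hnz w hw)
      have e1 : c * tri x w * c⁻¹ = tri x (y * w * zc) := by
        have : c * tri x w * c⁻¹ = tri (c * x * c⁻¹) (c * w * c⁻¹) := by simp only [tri]; group
        rw [this, e', show c * x * c⁻¹ = x by rw [hcx, mul_inv_cancel_right]]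
      rw [tri_mul_z D, tri_of_comm D h1 h2 h3, htri, one_mul] at e1
      rcases tri_cases D hx hwQ with ht | ht <;> rw [ht] at e1
      · rw [mul_one, mul_inv_cancel, one_mul] at e1
        exact D.ext.ne_one e1.symm
      · rw [show c * zc * c⁻¹ = zc by rw [D.zc_central c, mul_inv_cancel_right], D.ext.zz] at e1
        exact D.ext.ne_one e1
  -- the correction is orthogonal to the intersection
  obtain ⟨k₀, hk₀, hk₀e⟩ := exists_nc (hyp D) C (π q₀)
  have hq₀I : q₀ ∈ interH z g Q := by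
    have hk : k₀ ∈ wList := by
      have hx1 := allBelow_spec wList_props.2.2 k₀ hk₀
      rw [Bool.or_eq_true] at hx1
      rcases hx1 with hx1 | hx1
      · exfalso
        obtain ⟨b, hb, hpb⟩ := List.any_eq_true.1 hx1
        obtain ⟨w, ⟨hw, hwQ⟩, hwe⟩ := hfull b (memB_iff.1 (List.all_eq_true.1 wList_props.2.1 b hb))
        have hqw : q₀ * w = w * q₀ := by
          have e := hcomm w hw
          rw [hq₀]
          calc c⁻¹ * d * w = c⁻¹ * (d * w * d⁻¹) * d := by group
            _ = c⁻¹ * (c * w * c⁻¹) * d := by rw [e]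
            _ = w * (c⁻¹ * d) := by group
        have := (comm_iff D hq₀Q hwQ).1 hqw
        rw [pol_code hF D C hk₀e.symm hwe, hpb] at this
        simp at this
      · exact memB_iff.1 hx1
    obtain ⟨w, ⟨hw, hwQ⟩, hwe⟩ := hfull k₀ hk
    have hzI : zc ∈ interH z g Q := hI.2 ⟨D.ext.mem, by rw [D.zc_val]; exact P.zQ'⟩
    rcases pi_eq D hwQ hq₀Q (hwe.trans hk₀e) with e | e
    · exact e ▸ hw
    · exact e ▸ mul_mem hw hzI
  have hcd : c = d * q₀⁻¹ := by rw [hq₀]; group
  rw [hcd, Subgroup.coe_mul, Subgroup.coe_inv]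
  exact mul_mem hd (inv_mem (hI.1 hq₀I).2)

end

end Cfsg.Agent.LFInter18
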