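import Mathlib
import Cfsg.Agent.Lib.LFMathieu89

/-!
The normaliser of the Thompson subgroup of a Sylow subgroup in a group of large Fischer type.
-/

set_option autoImplicit false
set_option linter.style.haveILetI false

namespace Cfsg.Agent.LFMathieuT89

open Subgroup Cfsg.Agent.U62Mon93 Cfsg.Agent.LFSetting89 Cfsg.Agent.LFElem89 Cfsg.Agent.LFFusion89
  Cfsg.Agent.LFBound89 Cfsg.Agent.LFSylow89
open scoped Pointwise

universe u

variable {G : Type u} [Group G] [Finite G]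

theorem thompson_mathieu (z : G) (Q : Subgroup (centralizer ({z} : Set G))) [Q.Normal]
    (hF : Cfsg.IsOfLargeFischerTypeAt z Q) (T : Sylow 2 G) (A M : Subgroup G)
    (hA : A = Cfsg.thompsonSubgroupOf 2 (T : Subgroup G)) (hM : M = Subgroup.normalizer (A : Set G)) :
    EA A ∧ Nat.card A = 2 ^ 11 ∧ ∃ (φ : ↥M →* ↥Cfsg.M24),
      Function.Surjective φ ∧ φ.ker = A.subgroupOf M ∧
      ∀ t ∈ A, t ≠ 1 → ¬ IsConj z t → ∃ φ' : ↥M →* ↥Cfsg.M24,
        Function.Surjective φ' ∧ φ'.ker = A.subgroupOf M ∧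
        ∀ m, ((φ' m : Equiv.Perm Cfsg.GolayPt) ∈
            MulAction.stabilizer (Equiv.Perm Cfsg.GolayPt) ({none, some 0} : Set Cfsg.GolayPt)) ↔
          (m : G) * t = t * (m : G) := by
  classical
  obtain ⟨V, _, zc, π, ρ, q, n, Mb, D⟩ := LFSetting89.exists_data z Q hF
  haveI : Fintype (GaloisField 2 2) := Fintype.ofFinite _
  have hF4 : Fintype.card (GaloisField 2 2) = 4 := by
    rw [← Nat.card_eq_fintype_card, GaloisField.card 2 2 two_ne_zero]; norm_num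
  obtain ⟨s, hs⟩ := exists_S4 hF4
  obtain ⟨ν, Φ, C⟩ := LFModel89.exists_coord (hyp D) hs
  obtain ⟨g, hg⟩ := thompson_eq D C hF T
  obtain ⟨hea, hcard, -⟩ := AG_facts D C
  rw [hg] at hA
  subst hA
  subst hM
  obtain ⟨φ, d, hφs, hφk, htr, hst⟩ := LFMathieu89.mathieu D C hF
  have key : ∀ k : G, cj k (AG D C) = cj g (AG D C) → ∃ φ' :
      ↥(Subgroup.normalizer (cj g (AG D C) : Set G)) →* ↥Cfsg.M24,
      Function.Surjective φ' ∧ φ'.ker = (cj g (AG D C)).subgroupOf _ ∧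
      ∀ m, ((φ' m : Equiv.Perm Cfsg.GolayPt) ∈
          MulAction.stabilizer (Equiv.Perm Cfsg.GolayPt) ({none, some 0} : Set Cfsg.GolayPt)) ↔
        (m : G) * (k * d * k⁻¹) = k * d * k⁻¹ * (m : G) := by
    intro k hk
    rw [← hk]
    have hmem : ∀ x : G, x ∈ cj k (AG D C) ↔ k⁻¹ * x * k ∈ AG D C := fun x =>
      ⟨fun ⟨y, hy, e⟩ => e ▸ (show k⁻¹ * (k * y * k⁻¹) * k ∈ AG D C by
        rwa [show k⁻¹ * (k * y * k⁻¹) * k = y by group]),
      fun hx => ⟨_, hx, show k * (k⁻¹ * x * k) * k⁻¹ = x by group⟩⟩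
    have hin : ∀ m, m ∈ Subgroup.normalizer (cj k (AG D C) : Set G) → k⁻¹ * m * k ∈ Subgroup.normalizer (AG D C : Set G) := fun m hm => by
      refine Subgroup.mem_normalizer_fintype fun x hx => ?_
      have h1 : k * x * k⁻¹ ∈ cj k (AG D C) := ⟨x, hx, rfl⟩
      have h2 := (hmem _).1 ((Subgroup.mem_normalizer_iff.1 hm _).1 h1)
      rwa [show k⁻¹ * (m * (k * x * k⁻¹) * m⁻¹) * k = k⁻¹ * m * k * x * (k⁻¹ * m * k)⁻¹ by group] at h2
    have hout : ∀ m, m ∈ Subgroup.normalizer (AG D C : Set G) → k * m * k⁻¹ ∈ Subgroup.normalizer (cj k (AG D C) : Set G) := fun m hm => by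
      refine Subgroup.mem_normalizer_fintype fun x hx => ?_
      have h2 := (Subgroup.mem_normalizer_iff.1 hm _).1 ((hmem x).1 hx)
      exact (hmem _).2 (by
        rwa [show k⁻¹ * (k * m * k⁻¹ * x * (k * m * k⁻¹)⁻¹) * k = m * (k⁻¹ * x * k) * m⁻¹ by group])
    let e : ↥(Subgroup.normalizer (cj k (AG D C) : Set G)) →* ↥(Subgroup.normalizer (AG D C : Set G)) :=
      MonoidHom.mk' (fun m => ⟨k⁻¹ * m.1 * k, hin m.1 m.2⟩) fun a b => Subtype.ext (show k⁻¹ * (a.1 * b.1) * k = k⁻¹ * a.1 * k * (k⁻¹ * b.1 * k) by group)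
    refine ⟨φ.comp e, fun σ => ?_, ?_, fun m => ?_⟩
    · obtain ⟨m, hm⟩ := hφs σ
      refine ⟨⟨k * m.1 * k⁻¹, hout m.1 m.2⟩, ?_⟩
      rw [MonoidHom.comp_apply, show e ⟨k * m.1 * k⁻¹, hout m.1 m.2⟩ = m from Subtype.ext
        (show k⁻¹ * (k * m.1 * k⁻¹) * k = m.1 by group), hm]
    · ext m
      rw [MonoidHom.mem_ker, MonoidHom.comp_apply, hφk, Subgroup.mem_subgroupOf, hmem]
      rfl
    · rw [MonoidHom.comp_apply, hst]
      show k⁻¹ * (m : G) * k * d * (k⁻¹ * (m : G) * k)⁻¹ = d ↔ _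
      rw [mul_inv_eq_iff_eq_mul]
      constructor
      · intro h
        calc (m : G) * (k * d * k⁻¹) = k * (k⁻¹ * (m : G) * k * d) * k⁻¹ := by group
          _ = k * (d * (k⁻¹ * (m : G) * k)) * k⁻¹ := by rw [h]
          _ = _ := by group
      · intro h
        calc k⁻¹ * (m : G) * k * d = k⁻¹ * ((m : G) * (k * d * k⁻¹)) * k := by group
          _ = k⁻¹ * (k * d * k⁻¹ * (m : G)) * k := by rw [h]
          _ = _ := by group
  obtain ⟨φ', h1, h2, -⟩ := key g rfl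
  refine ⟨hea.cj g, by rw [card_cj, hcard], φ', h1, h2, fun t ht ht1 htc => ?_⟩
  obtain ⟨y, hy, rfl⟩ := ht
  change g * y * g⁻¹ ≠ 1 at ht1
  change ¬ IsConj z (g * y * g⁻¹) at htc
  obtain ⟨m, hm, rfl⟩ := htr y hy (fun e => ht1 (by rw [e]; group))
    (fun e => htc (IsConj.trans e (isConj_iff.2 ⟨g, rfl⟩)))
  have hgm : cj (g * m) (AG D C) = cj g (AG D C) := by
    refine Subgroup.eq_of_le_of_card_ge ?_ (by rw [card_cj, card_cj])
    rintro _ ⟨x, hx, rfl⟩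
    exact ⟨m * x * m⁻¹, AG_normal D C hm hx,
      show g * (m * x * m⁻¹) * g⁻¹ = g * m * x * (g * m)⁻¹ by group⟩
  obtain ⟨φ'', h1'', h2'', h3''⟩ := key (g * m) hgm
  refine ⟨φ'', h1'', h2'', fun a => ?_⟩
  rw [h3'', show g * m * d * (g * m)⁻¹ = g * (m * d * m⁻¹) * g⁻¹ by group]
  rfl

end Cfsg.Agent.LFMathieuT89
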