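import Mathlib
import Cfsg.Agent.Lib.LFUStab18

/-!
No four-dimensional subspace is invariant under a complement of the subgroup of order 16.
-/

set_option autoImplicit false
set_option linter.unusedSectionVars false
set_option linter.style.haveILetI false
set_option maxHeartbeats 800000
set_option maxRecDepth 100000

namespace Cfsg.Agent.LFModule18

open Cfsg.Agent.U62Mon93 Cfsg.Agent.U62Existence93
open Cfsg.Agent.LFModel89 Cfsg.Agent.LFSylow89
open Cfsg.Agent.LFMat89 Cfsg.Agent.LFData89 Cfsg.Agent.LFCheck89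
open Cfsg.Agent.LFStabData18 Cfsg.Agent.LFStabCheck18 Cfsg.Agent.LFUStab18
open scoped Matrix

theorem beq_of_eq {a b : ℕ} (e : a = b) : Nat.beq a b = true := by subst e; exact Nat.beq_refl a

variable {X : Type*} [Group X] [Finite X] {V : Type*} [AddCommGroup V]
  {F : Type} [Field F] [Fintype F] {s : F} {h : S4 s} {ρ : X →* AddMonoid.End V}
  {q : V → ZMod 2} {n : X} {Mb : Subgroup X} {ν : (Fin 6 → F) → V} {Φ : K0 h →* X}
variable (H : Hyp ρ q n Mb) (C : Coord h ρ q n Mb ν Φ)
include H C

theorem nc_xor (a b : ℕ) : nc s ν (Nat.xor a b) = nc s ν a + nc s ν b := by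
  rw [nc, nc, nc, vec_xor h, C.add]

/-- A list of distinct codes, closed under addition, inside a subspace. -/
structure Sub (U : AddSubgroup V) (l : List ℕ) : Prop where
  nodup : l.Nodup
  zero : 0 ∈ l
  lt : ∀ a ∈ l, a < 4096
  mem : ∀ a ∈ l, nc s ν a ∈ U
  closed : ∀ a ∈ l, ∀ b ∈ l, Nat.xor a b ∈ l

theorem xor_cancel (x a : ℕ) : Nat.xor x (Nat.xor x a) = a := by
  show x ^^^ (x ^^^ a) = a
  rw [← Nat.xor_assoc, Nat.xor_self, Nat.zero_xor]

theorem sub_grow {U : AddSubgroup V} {l : List ℕ} (hl : Sub (s := s) (ν := ν) U l) {x : ℕ}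
    (hx : x < 4096) (hxU : nc s ν x ∈ U) : Sub (s := s) (ν := ν) U (grow l x) := by
  unfold grow
  cases hm : memB x l
  · have hxl : x ∉ l := fun e => by simp [memB_iff.2 e] at hm
    simp only [cond_false]
    have cl : ∀ a b : ℕ, Nat.xor (Nat.xor x a) b = Nat.xor x (Nat.xor a b) := fun a b =>
      Nat.xor_assoc x a b
    have cl2 : ∀ a b : ℕ, Nat.xor a (Nat.xor x b) = Nat.xor x (Nat.xor a b) := fun a b => by
      show a ^^^ (x ^^^ b) = x ^^^ (a ^^^ b)
      rw [← Nat.xor_assoc, Nat.xor_comm a x, Nat.xor_assoc]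
    refine ⟨?_, List.mem_append_left _ hl.zero, ?_, ?_, ?_⟩
    · rw [List.nodup_append]
      refine ⟨hl.nodup, hl.nodup.map fun a b e => ?_, fun a ha b hb hab => ?_⟩
      · rw [← xor_cancel H C x a, show Nat.xor x a = Nat.xor x b from e, xor_cancel H C x b]
      · obtain ⟨c, hc, rfl⟩ := List.mem_map.1 hb
        refine hxl ?_
        have := hl.closed a ha c hc
        rwa [hab, show Nat.xor (Nat.xor x c) c = x from by
          show x ^^^ c ^^^ c = x
          rw [Nat.xor_assoc, Nat.xor_self, Nat.xor_zero]] at this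
    · intro a ha
      rcases List.mem_append.1 ha with ha | ha
      · exact hl.lt a ha
      · obtain ⟨c, hc, rfl⟩ := List.mem_map.1 ha
        exact xor_lt hx (hl.lt c hc)
    · intro a ha
      rcases List.mem_append.1 ha with ha | ha
      · exact hl.mem a ha
      · obtain ⟨c, hc, rfl⟩ := List.mem_map.1 ha
        rw [nc_xor H C]
        exact add_mem hxU (hl.mem c hc)
    · intro a ha b hb
      rcases List.mem_append.1 ha with ha | ha <;> rcases List.mem_append.1 hb with hb | hb
      · exact List.mem_append_left _ (hl.closed a ha b hb)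
      · obtain ⟨c, hc, rfl⟩ := List.mem_map.1 hb
        exact List.mem_append_right _ (List.mem_map.2 ⟨_, hl.closed a ha c hc, (cl2 a c).symm⟩)
      · obtain ⟨c, hc, rfl⟩ := List.mem_map.1 ha
        exact List.mem_append_right _ (List.mem_map.2 ⟨_, hl.closed c hc b hb, (cl c b).symm⟩)
      · obtain ⟨c, hc, rfl⟩ := List.mem_map.1 ha
        obtain ⟨c', hc', rfl⟩ := List.mem_map.1 hb
        refine List.mem_append_left _ ?_
        rw [cl, cl2, xor_cancel H C]
        exact hl.closed c hc c' hc'
  · simpa using hl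

theorem sub_spanGo {U : AddSubgroup V} {gens : List ℕ}
    (hinv : ∀ M ∈ gens, ∀ c < 4096, nc s ν c ∈ U → nc s ν (app M c) ∈ U) :
    ∀ (fuel : ℕ) (todo l : List ℕ), Sub (s := s) (ν := ν) U l →
      (∀ v ∈ todo, v < 4096 ∧ nc s ν v ∈ U) →
      Sub (s := s) (ν := ν) U (spanGo gens fuel todo l)
  | 0, todo, l, hl, _ => by simpa [spanGo] using hl
  | fuel + 1, [], l, hl, _ => by simpa [spanGo] using hl
  | fuel + 1, v :: todo, l, hl, ht => by
    rw [spanGo]
    cases Nat.ble 32 l.length
    · cases memB v l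
      · simp only [cond_false]
        refine sub_spanGo hinv fuel _ _ (sub_grow H C hl (ht v (by simp)).1 (ht v (by simp)).2) ?_
        intro w hw
        rcases List.mem_append.1 hw with hw | hw
        · exact ht w (List.mem_cons_of_mem _ hw)
        · obtain ⟨M, hM, rfl⟩ := List.mem_map.1 hw
          exact ⟨app_lt M v, hinv M hM v (ht v (by simp)).1 (ht v (by simp)).2⟩
      · simp only [cond_false, cond_true]
        exact sub_spanGo hinv fuel _ _ hl fun w hw => ht w (List.mem_cons_of_mem _ hw)
    · simpa using hl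

/-- The three special elements admit no invariant subgroup of order sixteen. -/
theorem no_invariant {U : AddSubgroup V} (hU : Nat.card U = 16) {a b c : X} {i : ℕ} (hi : i < 16)
    (ha : Rp ρ s ν a rM) (hb : Rp ρ s ν b sM) (hc : Rp ρ s ν c (mulM (e2 i) fM))
    (hinv : ∀ v ∈ U, op ρ a v ∈ U ∧ op ρ b v ∈ U ∧ op ρ c v ∈ U)
    (htriv : (∀ v ∈ U, op ρ a v = v) → ∀ v ∈ U, op ρ b v = v ∧ op ρ c v = v) : False := by
  classical
  haveI : Finite U := Nat.finite_of_card_ne_zero (by rw [hU]; norm_num)
  by_cases hall : ∀ v ∈ U, op ρ a v = v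
  · -- inside the common fixed space
    have hcode : ∀ v : U, ∃ k, k < 4096 ∧ nc s ν k = v := fun v => exists_nc H C _
    choose k hk hkv using hcode
    set L := rsFix.filter fun c => Nat.beq (app (mulM (e2 i) fM) c) c
    have hmem : ∀ v : U, k v ∈ L := by
      intro v
      have fixM : ∀ {g : X} {M : ℕ}, Rp ρ s ν g M → op ρ g (v : V) = v → app M (k v) = k v :=
        fun {g M} hg e => nc_inj H C (app_lt _ _) (hk v) (by rw [← Rp_nc H C hg, hkv, e])
      have hx := allBelow_spec rsFix_ok.1 (k v) (hk v)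
      rw [show Nat.beq (app rM (k v)) (k v) = true from beq_of_eq (fixM ha (hall v v.2)),
        show Nat.beq (app sM (k v)) (k v) = true from beq_of_eq (fixM hb (htriv hall v v.2).1)] at hx
      simp only [Bool.and_self, Bool.not_true, Bool.false_or, memB_iff] at hx
      exact List.mem_filter.2 ⟨hx, beq_of_eq (fixM hc (htriv hall v v.2).2)⟩
    have hle := Nat.card_le_card_of_injective
      (fun v : U => (⟨k v, List.mem_toFinset.2 (hmem v)⟩ : L.toFinset))
      fun v w e => Subtype.ext (by
        rw [← hkv v, ← hkv w, show k v = k w from congrArg Subtype.val e])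
    rw [hU, Nat.card_eq_finsetCard] at hle
    have h4 : L.length ≤ 4 := Nat.le_of_ble_eq_true (allBelow_spec rsFix_ok.2 i hi)
    have := hle.trans (List.toFinset_card_le L)
    omega
  · push Not at hall
    obtain ⟨v, hv, hne⟩ := hall
    obtain ⟨d, hd, rfl⟩ := exists_nc H C v
    set w := Nat.xor (app rM d) d with hw
    have hwz : w ∈ zList := by
      have hx := allBelow_spec zList_ok d hd
      cases hb' : Nat.beq (app rM d) d
      · rwa [hb', Bool.false_or, memB_iff] at hx
      · exact absurd (by rw [Rp_nc H C ha, Nat.eq_of_beq_eq_true hb']) hne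
    have hwU : nc s ν w ∈ U := by
      rw [hw, nc_xor H C, ← Rp_nc H C ha]
      exact add_mem (hinv _ hv).1 hv
    have hlen := List.all_eq_true.1 (allBelow_spec spans_ok i hi) w hwz
    set gens := [rM, sM, mulM (e2 i) fM] with hgens
    have hinv' : ∀ M ∈ gens, ∀ c' < 4096, nc s ν c' ∈ U → nc s ν (app M c') ∈ U := by
      intro M hM c' hc' hcU
      rw [hgens] at hM
      rcases List.mem_cons.1 hM with e | hM
      · rw [e, ← Rp_nc H C ha c']; exact (hinv _ hcU).1
      · rcases List.mem_cons.1 hM with e | hM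
        · rw [e, ← Rp_nc H C hb c']; exact (hinv _ hcU).2.1
        · rw [List.mem_singleton.1 hM, ← Rp_nc H C hc c']; exact (hinv _ hcU).2.2
    have h0 : Sub (s := s) (ν := ν) U [0] := by
      refine ⟨List.nodup_singleton 0, List.mem_singleton.2 rfl, ?_, ?_, ?_⟩
      · intro a ha'
        rw [List.mem_singleton] at ha'
        rw [ha']
        norm_num
      · intro a ha'
        rw [List.mem_singleton] at ha'
        rw [ha', nc_zero H C]
        exact U.zero_mem
      · intro a ha' b hb'
        rw [List.mem_singleton] at ha' hb' ⊢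
        rw [ha', hb']
        exact Nat.xor_self 0
    have htodo : ∀ x ∈ [w], x < 4096 ∧ nc s ν x ∈ U := by
      intro a ha'
      rw [List.mem_singleton] at ha'
      rw [ha', hw]
      exact ⟨xor_lt (app_lt _ _) hd, hw ▸ hwU⟩
    have hs0 := sub_spanGo H C hinv' 40 [w] [0] h0 htodo
    change Nat.ble 32 (LFStabCheck18.span gens w).length = true at hlen
    unfold LFStabCheck18.span at hlen
    generalize spanGo gens 40 [w] [0] = l at hlen hs0
    have hle := Nat.card_le_card_of_injective
      (fun x : l.toFinset =>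
        (⟨nc s ν x, hs0.mem x (List.mem_toFinset.1 x.2)⟩ : U))
      fun x y e => Subtype.ext (nc_inj H C (hs0.lt x (List.mem_toFinset.1 x.2))
        (hs0.lt y (List.mem_toFinset.1 y.2)) (congrArg Subtype.val e))
    rw [hU, Nat.card_eq_finsetCard, List.toFinset_card_of_nodup hs0.nodup] at hle
    have := Nat.le_of_ble_eq_true hlen
    omega

end Cfsg.Agent.LFModule18
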