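import Mathlib
import Cfsg.Agent.Lib.LFCocodePts19
import Cfsg.Agent.Lib.TransferThompson
import Cfsg.Agent.Lib.GolayOctadStab

/-!
The centralizer of an involution of the small class in a group of large Fischer type has a subgroup
of index two: the transfer to the normaliser of the large elementary abelian subgroup, evaluated at
an element of order four.
-/

set_option autoImplicit false
set_option linter.unusedSectionVars false
set_option linter.style.haveILetI false

namespace Cfsg.Agent.LFNoncentralTransfer19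

open Subgroup Cfsg.Agent.LFCocodePts19
open Cfsg (GolayPt M24)

universe u

/-- Elements of exponent four fixing two points fix a third. -/
def Third : Prop :=
  ∀ g : ↥M24, g ^ 4 = 1 → ∀ a b : GolayPt, a ≠ b → (g : Equiv.Perm GolayPt) a = a →
    (g : Equiv.Perm GolayPt) b = b → ∃ i, i ≠ a ∧ i ≠ b ∧ (g : Equiv.Perm GolayPt) i = i

/-- The configuration. -/
structure Frame {G : Type u} [Group G] (A : Subgroup G) (z t e p : G) (pt : GolayPt → G)
    (φ : ↥(Subgroup.normalizer (A : Set G)) →* ↥M24) (a b c y : GolayPt) : Prop where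
  pts : Pts A z pt φ
  nd : [a, b, c, y].Nodup
  eqt : t = pt a * pt b
  eqe : e = pt a * pt c
  eqzt : z * t = pt c * pt y
  alpha : ∀ x, x * x = 1 → Commute x t → Commute x e →
    ∃ k, Commute k t ∧ Commute k e ∧ k * x * k⁻¹ ∈ A
  two : ∀ k, Commute k t → Commute k z →
    k * e * k⁻¹ = e ∨ k * e * k⁻¹ = e * t ∨ k * e * k⁻¹ = e * z ∨ k * e * k⁻¹ = e * z * t
  pt_comm : Commute p t
  p_sq : p * p = z
  p_e : p * e * p⁻¹ = e * z

/-- The conjugates of `e` under the centralizer of `t`. -/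
def DD {G : Type u} [Group G] (t e : G) : Set G := {x | ∃ g, Commute g t ∧ g * e * g⁻¹ = x}

theorem conj_fix {G : Type u} [Group G] {g x : G} (h : Commute g x) : g * x * g⁻¹ = x := by
  rw [h.eq, mul_inv_cancel_right]

theorem comm_of_fix {G : Type u} [Group G] {g x : G} (h : g * x * g⁻¹ = x) : Commute g x :=
  mul_inv_eq_iff_eq_mul.1 h

theorem four_pts (a b i j : GolayPt) : ∃ r : GolayPt, r ≠ a ∧ r ≠ b ∧ r ≠ i ∧ r ≠ j := by
  obtain ⟨r, -, hr⟩ := Finset.exists_mem_notMem_of_card_lt_card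
    (s := ({a, b, i, j} : Finset GolayPt)) (t := Finset.univ)
    ((Finset.card_le_four).trans_lt (by decide))
  exact ⟨r, by simpa using hr⟩

section

variable {G : Type u} [Group G] {A : Subgroup G} {z t e p : G} {pt : GolayPt → G}
  {φ : ↥(Subgroup.normalizer (A : Set G)) →* ↥M24} {a b c y : GolayPt}
  (S : Frame A z t e p pt φ a b c y)
include S

theorem ne6 : a ≠ b ∧ a ≠ c ∧ a ≠ y ∧ b ≠ c ∧ b ≠ y ∧ c ≠ y := by
  have := S.nd
  simp only [List.nodup_cons, List.mem_cons, List.not_mem_nil, or_false, not_or,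
    List.nodup_nil, and_true, not_false_eq_true] at this
  exact ⟨this.1.1, this.1.2.1, this.1.2.2, this.2.1.1, this.2.1.2, this.2.2⟩

theorem sqA {x : G} (h : x ∈ A) : x * x = 1 := S.pts.sq x h

theorem comA {x w : G} (h : x ∈ A) (h' : w ∈ A) : Commute x w := S.pts.comm x h w h'

theorem cancel (i : GolayPt) (x : G) : pt i * (pt i * x) = x := by
  rw [← mul_assoc, S.pts.sq _ (S.pts.mem i), one_mul]

theorem tA : t ∈ A := S.eqt ▸ mul_mem (S.pts.mem a) (S.pts.mem b)

theorem eA : e ∈ A := S.eqe ▸ mul_mem (S.pts.mem a) (S.pts.mem c)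

theorem tt : t * t = 1 := sqA S (tA S)

theorem z_eq : z = pt c * pt y * (pt a * pt b) := by
  rw [← S.eqzt, ← S.eqt, mul_assoc, tt S, mul_one]

theorem zA : z ∈ A := by
  rw [z_eq S]; exact mul_mem (mul_mem (S.pts.mem _) (S.pts.mem _)) (mul_mem (S.pts.mem _) (S.pts.mem _))

theorem comm_tz : Commute z t := comA S (zA S) (tA S)

theorem z_ne_one : z ≠ 1 := by
  obtain ⟨h1, h2, h3, h4, h5, h6⟩ := ne6 S
  intro h
  refine S.pts.four c y a b a a h6 h2.symm h4.symm h3.symm h5.symm h1 ?_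
  rw [S.pts.sq _ (S.pts.mem a), mul_assoc (pt c * pt y), ← z_eq S, h]

theorem not_R {i j : GolayPt} (hij : i ≠ j) : pt i * pt j ≠ 1 ∧ ¬ IsConj z (pt i * pt j) :=
  (S.pts.rel _ (mul_mem (S.pts.mem i) (S.pts.mem j))).2 ⟨i, j, hij, rfl⟩

theorem ne_R {x : G} (hx : IsConj z x) (i j : GolayPt) : x ≠ pt i * pt j := by
  intro h
  rcases eq_or_ne i j with rfl | hij
  · rw [h, S.pts.sq _ (S.pts.mem i)] at hx
    exact z_ne_one S (isConj_one_left.1 hx)
  · exact (not_R S hij).2 (h ▸ hx)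

theorem t_ne_one : t ≠ 1 := S.eqt ▸ (not_R S (ne6 S).1).1

theorem zt_not : ¬ IsConj z (z * t) := S.eqzt ▸ (not_R S (ne6 S).2.2.2.2.2).2

theorem et_eq : e * t = pt b * pt c := by
  rw [S.eqe, S.eqt]
  have h1 : pt c * (pt a * pt b) = pt a * pt b * pt c :=
    (comA S (S.pts.mem c) (mul_mem (S.pts.mem a) (S.pts.mem b))).eq
  rw [mul_assoc, h1, ← mul_assoc, cancel S]

theorem ez_eq : e * z = pt b * pt y := by
  rw [show z = pt c * pt y * t by rw [← S.eqzt, mul_assoc, tt S, mul_one], S.eqe,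
    show pt a * pt c * (pt c * pt y * t) = pt a * (pt c * (pt c * (pt y * t))) by simp only [mul_assoc],
    cancel S, (comA S (S.pts.mem y) (tA S)).eq, S.eqt, show pt a * (pt a * pt b * pt y) =
      pt a * (pt a * (pt b * pt y)) by simp only [mul_assoc], cancel S]

theorem ezt_eq : e * z * t = pt a * pt y := by
  rw [ez_eq S, S.eqt, mul_assoc, ← mul_assoc (pt y), (comA S (S.pts.mem y) (S.pts.mem a)).eq,
    mul_assoc (pt a), (comA S (S.pts.mem y) (S.pts.mem b)).eq, ← mul_assoc, ← mul_assoc,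
    (comA S (S.pts.mem b) (S.pts.mem a)).eq, mul_assoc (pt a), S.pts.sq _ (S.pts.mem b), mul_one]

theorem e_ne : e ≠ 1 := S.eqe ▸ (not_R S (ne6 S).2.1).1

theorem e_sq : e * e = 1 := sqA S (eA S)

theorem move_t {m : ↥(Subgroup.normalizer (A : Set G))}
    (h : ((φ m : Equiv.Perm GolayPt) a = a ∧ (φ m : Equiv.Perm GolayPt) b = b) ∨
      ((φ m : Equiv.Perm GolayPt) a = b ∧ (φ m : Equiv.Perm GolayPt) b = a)) :
    Commute (m : G) t := by
  refine comm_of_fix ?_
  rw [S.eqt]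
  exact (comm_iff_pair S.pts m (ne6 S).1).2 h

theorem keep_ab {m : ↥(Subgroup.normalizer (A : Set G))} (h : Commute (m : G) t) :
    ((φ m : Equiv.Perm GolayPt) a = a ∧ (φ m : Equiv.Perm GolayPt) b = b) ∨
      ((φ m : Equiv.Perm GolayPt) a = b ∧ (φ m : Equiv.Perm GolayPt) b = a) := by
  refine (comm_iff_pair S.pts m (ne6 S).1).1 ?_
  rw [← S.eqt]
  exact conj_fix h

theorem DD_conj {x g : G} (hx : x ∈ DD t e) (hg : Commute g t) : g * x * g⁻¹ ∈ DD t e := by
  obtain ⟨h, hh, rfl⟩ := hx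
  exact ⟨g * h, hg.mul_left hh, by group⟩

theorem DD_pt {i : GolayPt} (hia : i ≠ a) (hib : i ≠ b) :
    pt a * pt i ∈ DD t e ∧ pt b * pt i ∈ DD t e := by
  obtain ⟨h1, h2, -, h4, -, -⟩ := ne6 S
  constructor
  · obtain ⟨m, hm⟩ := exists_m S.pts [a, b, c] [a, b, i] (by simp [h1, h2, h4])
      (by simp [h1, hia.symm, hib.symm]) rfl (by simp)
    simp only [List.map_cons, List.map_nil, List.cons.injEq, and_true] at hm
    refine ⟨m, move_t S (Or.inl ⟨hm.1, hm.2.1⟩), ?_⟩
    rw [S.eqe, S.pts.equiv, hm.1, hm.2.2]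
  · obtain ⟨m, hm⟩ := exists_m S.pts [a, b, c] [b, a, i] (by simp [h1, h2, h4])
      (by simp [h1.symm, hia.symm, hib.symm]) rfl (by simp)
    simp only [List.map_cons, List.map_nil, List.cons.injEq, and_true] at hm
    refine ⟨m, move_t S (Or.inr ⟨hm.1, hm.2.1⟩), ?_⟩
    rw [S.eqe, S.pts.equiv, hm.1, hm.2.2]

theorem DD_mul_t {x : G} (hx : x ∈ DD t e) : x * t ∈ DD t e := by
  obtain ⟨g, hg, rfl⟩ := hx
  have h : g * e * g⁻¹ * t = g * (e * t) * g⁻¹ := by
    conv_lhs => rw [← conj_fix hg]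
    group
  rw [h]
  exact DD_conj S (et_eq S ▸ (DD_pt S (ne6 S).2.1.symm (ne6 S).2.2.2.1.symm).2) hg

theorem DD_spec {x : G} (hx : x ∈ DD t e) :
    x * x = 1 ∧ x ≠ 1 ∧ Commute x t ∧ ¬ IsConj z x := by
  obtain ⟨g, hg, rfl⟩ := hx
  refine ⟨?_, fun h => e_ne S (conj_eq_one_iff.1 h), ?_, fun h => ?_⟩
  · rw [show g * e * g⁻¹ * (g * e * g⁻¹) = g * (e * e) * g⁻¹ by group, e_sq S]; group
  · have := (comA S (eA S) (tA S)).map (MulAut.conj g).toMonoidHom
    simpa [conj_fix hg] using this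
  · refine (not_R S (ne6 S).2.1).2 ?_
    rw [← S.eqe]
    exact h.trans (isConj_iff.2 ⟨g⁻¹, by group⟩)

theorem DD_shape {x : G} (hx : x ∈ DD t e) (hxA : x ∈ A) :
    ∃ i, i ≠ a ∧ i ≠ b ∧ (x = pt a * pt i ∨ x = pt b * pt i) := by
  obtain ⟨-, hx1, -, hxz⟩ := DD_spec S hx
  obtain ⟨i, j, hij, rfl⟩ := (S.pts.rel x hxA).1 ⟨hx1, hxz⟩
  obtain ⟨-, hy1, -, hyz⟩ := DD_spec S (DD_mul_t S hx)
  rw [S.eqt] at hy1 hyz
  have hab := (ne6 S).1
  have hswap : pt i * pt j = pt j * pt i := S.pts.comm _ (S.pts.mem i) _ (S.pts.mem j)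
  rcases share S.pts hij hab hy1 hyz with ⟨h, h'⟩ | ⟨h, h'⟩ | ⟨h, h'⟩ | ⟨h, h'⟩ <;> subst h
  · exact ⟨j, hij.symm, h', Or.inl rfl⟩
  · exact ⟨j, h', hij.symm, Or.inr rfl⟩
  · exact ⟨i, hij, h', Or.inl hswap⟩
  · exact ⟨i, h', hij, Or.inr hswap⟩

/-- A member commuting with `z` commutes with `e`. -/
theorem comm_e {x : G} (hx : x ∈ DD t e) (hxz : Commute x z) : Commute x e := by
  obtain ⟨h1, -, -, h4, h5, h6⟩ := ne6 S
  have hac := (ne6 S).2.1
  have hay := (ne6 S).2.2.1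
  obtain ⟨g, hg, hgx⟩ := hx
  set z1 := g⁻¹ * z * g with hz1
  have hz1z : IsConj z z1 := isConj_iff.2 ⟨g⁻¹, by rw [hz1, inv_inv]⟩
  have hz1sq : z1 * z1 = 1 := by
    rw [hz1, show g⁻¹ * z * g * (g⁻¹ * z * g) = g⁻¹ * (z * z) * g by group, sqA S (zA S)]; group
  have hz1t : Commute z1 t := by
    have := (comm_tz S).map (MulAut.conj g⁻¹).toMonoidHom
    simp only [MulEquiv.coe_toMonoidHom, MulAut.conj_apply, conj_fix hg.inv_left] at this
    simpa [hz1] using this
  have hz1e : Commute z1 e := by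
    have := (hxz.symm).map (MulAut.conj g⁻¹).toMonoidHom
    simp only [MulEquiv.coe_toMonoidHom, MulAut.conj_apply, inv_inv] at this
    rwa [show g⁻¹ * x * g = e by rw [← hgx]; group] at this
  obtain ⟨k, hkt, hke, hkA⟩ := S.alpha z1 hz1sq hz1t hz1e
  set z2 := k * z1 * k⁻¹ with hz2
  set h := k * g⁻¹ with hh
  have hht : Commute h t := hkt.mul_left hg.inv_left
  have hhx : h * x * h⁻¹ = e := by
    rw [hh, ← hgx, show k * g⁻¹ * (g * e * g⁻¹) * (k * g⁻¹)⁻¹ = k * e * k⁻¹ by group]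
    exact conj_fix hke
  have hhz : h * z * h⁻¹ = z2 := by rw [hh, hz2, hz1]; group
  have hconj : IsConj z z2 := isConj_iff.2 ⟨h, hhz⟩
  have hzt2 : h * (z * t) * h⁻¹ = z2 * t := by
    rw [show h * (z * t) * h⁻¹ = h * z * h⁻¹ * (h * t * h⁻¹) by group, hhz, conj_fix hht]
  obtain ⟨i, j, hij, hijz⟩ : ∃ i j, i ≠ j ∧ pt i * pt j = z2 * t := by
    refine (S.pts.rel _ (mul_mem hkA (tA S))).1 ⟨fun hc => ?_, fun hc => ?_⟩
    · rw [← hzt2, conj_eq_one_iff] at hc
      exact (not_R S h6).1 (S.eqzt ▸ hc)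
    · exact zt_not S (hc.trans (isConj_iff.2 ⟨h⁻¹, by rw [← hzt2]; group⟩))
  have hz2e : z2 = pt i * pt j * (pt a * pt b) := by
    rw [hijz, ← S.eqt, mul_assoc, tt S, mul_one]
  have hR := ne_R S hconj
  have hia : i ≠ a := fun hc => hR j b (by
    rw [hz2e, hc, ← mul_assoc, (comA S (mul_mem (S.pts.mem a) (S.pts.mem j)) (S.pts.mem a)).eq,
      cancel S])
  have hib : i ≠ b := fun hc => hR j a (by
    rw [hz2e, hc, (comA S (S.pts.mem b) (S.pts.mem j)).eq,
      (comA S (S.pts.mem a) (S.pts.mem b)).eq, mul_assoc, cancel S])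
  have hja : j ≠ a := fun hc => hR i b (by rw [hz2e, hc, mul_assoc, cancel S])
  have hjb : j ≠ b := fun hc => hR i a (by
    rw [hz2e, hc, (comA S (S.pts.mem a) (S.pts.mem b)).eq, mul_assoc, cancel S])
  obtain ⟨m, hm⟩ := exists_m S.pts [a, b, c, y] [a, b, i, j] S.nd
    (by simp [h1, hia.symm, hib.symm, hja.symm, hjb.symm, hij]) rfl (by simp)
  simp only [List.map_cons, List.map_nil, List.cons.injEq, and_true] at hm
  obtain ⟨m1, m2, m3, m4⟩ := hm
  have hmt : Commute (m : G) t := move_t S (Or.inl ⟨m1, m2⟩)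
  have hmz : (m : G) * z * (m : G)⁻¹ = z2 := by
    rw [hz2e, z_eq S, show (m : G) * (pt c * pt y * (pt a * pt b)) * (m : G)⁻¹ =
      (m : G) * (pt c * pt y) * (m : G)⁻¹ * ((m : G) * (pt a * pt b) * (m : G)⁻¹) by group,
      S.pts.equiv, S.pts.equiv, m1, m2, m3, m4]
  have hw1 : Commute ((m : G)⁻¹ * h) t := hmt.inv_left.mul_left hht
  have hw2 : Commute ((m : G)⁻¹ * h) z := comm_of_fix (by
    rw [show (m : G)⁻¹ * h * z * ((m : G)⁻¹ * h)⁻¹ = (m : G)⁻¹ * (h * z * h⁻¹) * (m : G) by group,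
      hhz, ← hmz]
    group)
  have hA : h * e * h⁻¹ ∈ A := by
    have e1 : h * e * h⁻¹ = (m : G) * ((m : G)⁻¹ * h * e * ((m : G)⁻¹ * h)⁻¹) * (m : G)⁻¹ := by group
    rw [e1]
    refine norm_mem S.pts m.2 ?_
    rcases S.two _ hw1 hw2 with d | d | d | d <;> rw [d]
    exacts [eA S, mul_mem (eA S) (tA S), mul_mem (eA S) (zA S),
      mul_mem (mul_mem (eA S) (zA S)) (tA S)]
  have hcc : Commute (h * e * h⁻¹) (h * x * h⁻¹) := by rw [hhx]; exact comA S hA (eA S)
  have := hcc.symm.map (MulAut.conj h⁻¹).toMonoidHom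
  simpa [mul_assoc] using this

/-- A member commuting with a conjugate of `z` over two points commutes with the pair point. -/
theorem comm_pt {x : G} {i j : GolayPt} (hia : i ≠ a) (hib : i ≠ b) (hja : j ≠ a) (hjb : j ≠ b)
    (hij : i ≠ j) (hx : x ∈ DD t e) (hxz : Commute x (t * (pt i * pt j))) :
    Commute x (pt a * pt i) := by
  obtain ⟨h1, -, -, -, -, -⟩ := ne6 S
  obtain ⟨m, hm⟩ := exists_m S.pts [a, b, c, y] [a, b, i, j] S.nd
    (by simp [h1, hia.symm, hib.symm, hja.symm, hjb.symm, hij]) rfl (by simp)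
  simp only [List.map_cons, List.map_nil, List.cons.injEq, and_true] at hm
  obtain ⟨m1, m2, m3, m4⟩ := hm
  have hmt : Commute (m : G) t := move_t S (Or.inl ⟨m1, m2⟩)
  have hmz : (m : G) * z * (m : G)⁻¹ = t * (pt i * pt j) := by
    rw [z_eq S, show (m : G) * (pt c * pt y * (pt a * pt b)) * (m : G)⁻¹ =
      (m : G) * (pt c * pt y) * (m : G)⁻¹ * ((m : G) * (pt a * pt b) * (m : G)⁻¹) by group,
      S.pts.equiv, S.pts.equiv, m1, m2, m3, m4, S.eqt]
    exact (comA S (mul_mem (S.pts.mem i) (S.pts.mem j)) (mul_mem (S.pts.mem a) (S.pts.mem b))).eq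
  have hx' : (m : G)⁻¹ * x * (m : G) ∈ DD t e := by
    simpa using DD_conj S hx hmt.inv_left
  have hz' : Commute ((m : G)⁻¹ * x * (m : G)) z := by
    have := hxz.map (MulAut.conj (m : G)⁻¹).toMonoidHom
    rw [← hmz] at this
    simpa [mul_assoc] using this
  have := (comm_e S hx' hz').map (MulAut.conj (m : G)).toMonoidHom
  simp only [MulEquiv.coe_toMonoidHom, MulAut.conj_apply] at this
  rw [S.eqe, S.pts.equiv, m1, m3,
    show (m : G) * ((m : G)⁻¹ * x * (m : G)) * (m : G)⁻¹ = x by group] at this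
  exact this

/-- A member normalising the subgroup lies in it. -/
theorem DD_mem {x : G} (hx : x ∈ DD t e) (hxN : x ∈ Subgroup.normalizer (A : Set G)) : x ∈ A := by
  classical
  obtain ⟨hxx, -, hxt, -⟩ := DD_spec S hx
  set σ := (φ ⟨x, hxN⟩ : Equiv.Perm GolayPt) with hσ
  have hab := keep_ab S (m := ⟨x, hxN⟩) hxt
  have hinv : ∀ i, σ (σ i) = i := fun i => by
    have h2 : (⟨x, hxN⟩ : ↥(Subgroup.normalizer (A : Set G))) * ⟨x, hxN⟩ = 1 := Subtype.ext hxx
    have := congrArg (fun m => (φ m : Equiv.Perm GolayPt) i) h2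
    simp only [map_mul, map_one, Subgroup.coe_mul, Subgroup.coe_one, Equiv.Perm.mul_apply,
      Equiv.Perm.one_apply, ← hσ] at this
    exact this
  have hfix : ∀ i, i ≠ a → i ≠ b → σ i = i := by
    intro i hia hib
    by_contra hne
    have hja : σ i ≠ a := fun h => by
      rcases hab with ⟨h1, -⟩ | ⟨-, h2⟩
      · exact hia (σ.injective (h.trans h1.symm))
      · exact hib (σ.injective (h.trans h2.symm))
    have hjb : σ i ≠ b := fun h => by
      rcases hab with ⟨-, h2⟩ | ⟨h1, -⟩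
      · exact hib (σ.injective (h.trans h2.symm))
      · exact hia (σ.injective (h.trans h1.symm))
    have hc := comm_pt S hia hib hja hjb (Ne.symm hne) hx (comm_of_fix (by
      rw [show x * (t * (pt i * pt (σ i))) * x⁻¹ = x * t * x⁻¹ * (x * (pt i * pt (σ i)) * x⁻¹) by group,
        conj_fix hxt, S.pts.equiv ⟨x, hxN⟩, ← hσ, hinv]
      rw [(comA S (S.pts.mem (σ i)) (S.pts.mem i)).eq]))
    rcases (comm_iff_pair S.pts ⟨x, hxN⟩ hia.symm).1 (conj_fix hc) with ⟨-, h⟩ | ⟨-, h⟩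
    · exact hne h
    · exact hja h
  obtain ⟨r1, r2, r3, hr5⟩ : ∃ r1 r2 r3 : GolayPt, ({a, b, r1, r2, r3} : Finset GolayPt).card = 5 := by
    obtain ⟨r1, q1, q2, -, -⟩ := four_pts a b a b
    obtain ⟨r2, s1, s2, s3, -⟩ := four_pts a b r1 r1
    obtain ⟨r3, u1, u2, u3, u4⟩ := four_pts a b r1 r2
    exact ⟨r1, r2, r3, by simp [(ne6 S).1, q1.symm, q2.symm, s1.symm, s2.symm, s3.symm, u1.symm,
      u2.symm, u3.symm, u4.symm]⟩
  obtain ⟨o, ho, hsub⟩ := GolaySteiner.exists_octad_five hr5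
  refine (S.pts.ker _).1 (GolayOctadStab.eq_one_of_fix_compl ho fun i hi => hfix i ?_ ?_)
  · rintro rfl; exact hi (hsub (by simp))
  · rintro rfl; exact hi (hsub (by simp))

variable [Finite G]

/-- A member commuting with `z` is conjugate into the subgroup fixing `z` and `t`. -/
theorem DD_conj_A {x : G} (hx : x ∈ DD t e) (hxz : Commute x z) :
    ∃ k, Commute k t ∧ Commute k z ∧ k * x * k⁻¹ ∈ A := by
  classical
  haveI : Fact (Nat.Prime 2) := ⟨Nat.prime_two⟩
  obtain ⟨hxx, -, hxt, -⟩ := DD_spec S hx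
  set H1 : Subgroup G := centralizer ({t, z} : Set G) with hH1
  have hmem : ∀ {g : G}, g ∈ H1 ↔ Commute g t ∧ Commute g z := fun {g} => by
    simp only [hH1, Subgroup.mem_centralizer_iff, Set.mem_insert_iff, Set.mem_singleton_iff,
      forall_eq_or_imp, forall_eq]
    exact ⟨fun h => ⟨h.1.symm, h.2.symm⟩, fun h => ⟨h.1.symm, h.2.symm⟩⟩
  have hAH : A ≤ H1 := fun w hw => hmem.2 ⟨comA S hw (tA S), comA S hw (zA S)⟩
  have hA2 : IsPGroup 2 (A.subgroupOf H1) := fun w => ⟨1, Subtype.ext (Subtype.ext (by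
    simpa [pow_two] using S.pts.sq _ (Subgroup.mem_subgroupOf.1 w.2)))⟩
  obtain ⟨P, hP⟩ := hA2.exists_le_sylow
  have hx2 : IsPGroup 2 (Subgroup.zpowers (⟨x, hmem.2 ⟨hxt, hxz⟩⟩ : H1)) := fun w => ⟨1, by
    obtain ⟨w, i, rfl⟩ := w
    refine Subtype.ext ?_
    show ((⟨x, hmem.2 ⟨hxt, hxz⟩⟩ : H1) ^ i) ^ (2 ^ 1) = 1
    rw [pow_one, pow_two, ← zpow_add, ← two_mul, zpow_mul, zpow_two,
      show (⟨x, hmem.2 ⟨hxt, hxz⟩⟩ : H1) * ⟨x, hmem.2 ⟨hxt, hxz⟩⟩ = 1 from Subtype.ext hxx, one_zpow]⟩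
  obtain ⟨R, hR⟩ := hx2.exists_le_sylow
  obtain ⟨k, hk⟩ := MulAction.exists_smul_eq H1 R P
  have hkx : k * ⟨x, hmem.2 ⟨hxt, hxz⟩⟩ * k⁻¹ ∈ (P : Subgroup H1) := by
    rw [← hk]
    exact ⟨_, hR (Subgroup.mem_zpowers _), rfl⟩
  have hPN := S.pts.sylow ((P : Subgroup H1).map H1.subtype) (P.isPGroup'.map _)
    (fun w hw => ⟨⟨w, hAH hw⟩, hP (Subgroup.mem_subgroupOf.2 hw), rfl⟩)
  obtain ⟨k1, k2⟩ := hmem.1 k.2
  exact ⟨k, k1, k2, DD_mem S (DD_conj S hx k1) (hPN ⟨_, hkx, rfl⟩)⟩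

/-- A conjugate of `z` under the centralizer of `t`, normalising the subgroup, fixes `a`. -/
theorem z_fix_a {g : G} (hg : Commute g t) (hN : g * z * g⁻¹ ∈ Subgroup.normalizer (A : Set G)) :
    (φ ⟨g * z * g⁻¹, hN⟩ : Equiv.Perm GolayPt) a = a := by
  classical
  by_contra hne
  set r := g * z * g⁻¹ with hr
  set σ := (φ ⟨r, hN⟩ : Equiv.Perm GolayPt) with hσ
  have hrr : r * r = 1 := by
    rw [hr, show g * z * g⁻¹ * (g * z * g⁻¹) = g * (z * z) * g⁻¹ by group, sqA S (zA S)]; group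
  have hrinv : r⁻¹ = r := inv_eq_of_mul_eq_one_right hrr
  have hrt : Commute r t := by
    have := (comm_tz S).map (MulAut.conj g).toMonoidHom
    simpa [conj_fix hg] using this
  have hrz : IsConj z r := isConj_iff.2 ⟨g, rfl⟩
  obtain ⟨hab, hba⟩ : σ a = b ∧ σ b = a := (keep_ab S (m := ⟨r, hN⟩) hrt).resolve_left fun h => hne h.1
  have hinv : ∀ i, σ (σ i) = i := fun i => by
    have h2 : (⟨r, hN⟩ : ↥(Subgroup.normalizer (A : Set G))) * ⟨r, hN⟩ = 1 := Subtype.ext hrr
    have := congrArg (fun m => (φ m : Equiv.Perm GolayPt) i) h2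
    simp only [map_mul, map_one, Subgroup.coe_mul, Subgroup.coe_one, Equiv.Perm.mul_apply,
      Equiv.Perm.one_apply, ← hσ] at this
    exact this
  have hfpf : ∀ i, i ≠ a → i ≠ b → σ i ≠ i := by
    intro i hia hib hi
    have h1 : r * (pt a * pt i) * r⁻¹ = pt a * pt i * t := by
      rw [S.pts.equiv ⟨r, hN⟩, ← hσ, hab, hi, S.eqt,
        show pt a * pt i * (pt a * pt b) = pt a * (pt i * pt a) * pt b by group,
        (comA S (S.pts.mem i) (S.pts.mem a)).eq, cancel S,
        (comA S (S.pts.mem b) (S.pts.mem i)).eq]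
    set x0 := g⁻¹ * (pt a * pt i) * g with hx0
    have hx0D : x0 ∈ DD t e := by
      simpa [hx0] using DD_conj S (DD_pt S hia hib).1 hg.inv_left
    obtain ⟨hx00, -, -, -⟩ := DD_spec S hx0D
    have hx0i : x0⁻¹ = x0 := inv_eq_of_mul_eq_one_right hx00
    have h2 : z * x0 * z⁻¹ = x0 * t := by
      rw [show z * x0 * z⁻¹ = g⁻¹ * (g * z * g⁻¹ * (pt a * pt i) * (g * z * g⁻¹)⁻¹) * g by
        rw [hx0]; group, ← hr, h1, hx0,
        show g⁻¹ * (pt a * pt i * t) * g = g⁻¹ * (pt a * pt i) * g * (g⁻¹ * t * g) by group,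
        show g⁻¹ * t * g = t by simpa using conj_fix hg.inv_left]
    refine zt_not S (isConj_iff.2 ⟨x0, ?_⟩)
    have h3 : x0 * z * x0⁻¹ = x0 * (z * x0⁻¹ * z⁻¹) * z := by group
    rw [h3, hx0i, h2, ← mul_assoc, hx00, one_mul, (comm_tz S).eq]
  set x := g * e * g⁻¹ with hx
  have hxD : x ∈ DD t e := ⟨g, hg, rfl⟩
  have hxrD : x * r ∈ DD t e := by
    rw [hx, hr, show g * e * g⁻¹ * (g * z * g⁻¹) = g * (e * z) * g⁻¹ by group, ez_eq S]
    exact DD_conj S (DD_pt S (ne6 S).2.2.1.symm (ne6 S).2.2.2.2.1.symm).2 hg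
  have hxr : r * x * r⁻¹ = x := by
    rw [hx, hr, show g * z * g⁻¹ * (g * e * g⁻¹) * (g * z * g⁻¹)⁻¹ = g * (z * e * z⁻¹) * g⁻¹ by group,
      conj_fix (comA S (zA S) (eA S))]
  have hxt : Commute x t := (DD_spec S hxD).2.2.1
  have hpair : ∀ i, i ≠ a → i ≠ b →
      pt i * pt (σ i) * x * (pt i * pt (σ i))⁻¹ = x * r ∨
      pt i * pt (σ i) * x * (pt i * pt (σ i))⁻¹ = x * r * t := by
    intro i hia hib
    have hja : σ i ≠ a := fun h => hib (σ.injective (h.trans hba.symm))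
    have hjb : σ i ≠ b := fun h => hia (σ.injective (h.trans hab.symm))
    have hij := (hfpf i hia hib).symm
    set w := t * (pt i * pt (σ i)) with hw
    have hwA : w ∈ A := mul_mem (tA S) (mul_mem (S.pts.mem _) (S.pts.mem _))
    have hrw : Commute r w := comm_of_fix (by
      rw [hw, show r * (t * (pt i * pt (σ i))) * r⁻¹ = r * t * r⁻¹ * (r * (pt i * pt (σ i)) * r⁻¹) by group,
        conj_fix hrt, S.pts.equiv ⟨r, hN⟩, ← hσ, hinv, (comA S (S.pts.mem (σ i)) (S.pts.mem i)).eq])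
    set h := g⁻¹ * w * g with hh
    have hwt : Commute w t := comA S hwA (tA S)
    have hht : Commute h t := by
      have := hwt.map (MulAut.conj g⁻¹).toMonoidHom
      simp only [MulEquiv.coe_toMonoidHom, MulAut.conj_apply, conj_fix hg.inv_left] at this
      simpa [hh] using this
    have hhz : Commute h z := by
      have := hrw.symm.map (MulAut.conj g⁻¹).toMonoidHom
      simpa [hh, hr, mul_assoc] using this
    have hback : ∀ u v : G, h * u * h⁻¹ = v → w * (g * u * g⁻¹) * w⁻¹ = g * v * g⁻¹ := by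
      intro u v huv
      rw [← huv, hh]; group
    have hwe : w * x * w⁻¹ = pt i * pt (σ i) * x * (pt i * pt (σ i))⁻¹ := by
      rw [hw, (comA S (tA S) (mul_mem (S.pts.mem i) (S.pts.mem (σ i)))).eq,
        show pt i * pt (σ i) * t * x * (pt i * pt (σ i) * t)⁻¹ =
          pt i * pt (σ i) * (t * x * t⁻¹) * (pt i * pt (σ i))⁻¹ by group, conj_fix hxt.symm]
    rcases S.two h hht hhz with d | d | d | d
    · exfalso
      have hwx : Commute w x := comm_of_fix (hback e e d)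
      have hwxr : Commute w (x * r) := hwx.mul_right hrw.symm
      have c1 := comm_pt S hia hib hja hjb hij hxD hwx.symm
      have c2 := comm_pt S hia hib hja hjb hij hxrD hwxr.symm
      have c3 : Commute (x⁻¹ * (x * r)) (pt a * pt i) := c1.inv_left.mul_left c2
      rw [inv_mul_cancel_left] at c3
      rcases (comm_iff_pair S.pts ⟨r, hN⟩ hia.symm).1 (conj_fix c3) with ⟨h', -⟩ | ⟨h', -⟩
      · exact hne h'
      · exact hib (h'.symm.trans hab)
    · exfalso
      have hh2 : h * h = 1 := by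
        rw [hh, show g⁻¹ * w * g * (g⁻¹ * w * g) = g⁻¹ * (w * w) * g by group, sqA S hwA]; group
      have hhi : h⁻¹ = h := inv_eq_of_mul_eq_one_right hh2
      have e1 : e * h * e⁻¹ = h * t := by
        rw [inv_eq_of_mul_eq_one_right (e_sq S)]
        rw [hhi] at d
        calc e * h * e = h * (h * e * h) * e := by rw [← mul_assoc h, ← mul_assoc h, hh2, one_mul]
          _ = h * t := by
            rw [d, show h * (e * t) * e = h * (e * (t * e)) by simp only [mul_assoc],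
              (comA S (tA S) (eA S)).eq, ← mul_assoc e, e_sq S, one_mul]
      have e2 : g * (h * t) * g⁻¹ = pt i * pt (σ i) := by
        rw [hh, show g * (g⁻¹ * w * g * t) * g⁻¹ = w * (g * t * g⁻¹) by group, conj_fix hg, hw,
          (comA S (tA S) (mul_mem (S.pts.mem i) (S.pts.mem (σ i)))).eq, mul_assoc, tt S, mul_one]
      refine (not_R S hij).2 ?_
      obtain ⟨m, hm⟩ := exists_m S.pts [a, b, c, y] [a, b, i, σ i] S.nd
        (by simp [(ne6 S).1, hia.symm, hib.symm, hja.symm, hjb.symm, hij]) rfl (by simp)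
      simp only [List.map_cons, List.map_nil, List.cons.injEq, and_true] at hm
      have hzw : IsConj z w := isConj_iff.2 ⟨m, by
        rw [z_eq S, show (m : G) * (pt c * pt y * (pt a * pt b)) * (m : G)⁻¹ =
          (m : G) * (pt c * pt y) * (m : G)⁻¹ * ((m : G) * (pt a * pt b) * (m : G)⁻¹) by group,
          S.pts.equiv, S.pts.equiv, hm.1, hm.2.1, hm.2.2.1, hm.2.2.2, hw, S.eqt]
        exact (comA S (mul_mem (S.pts.mem _) (S.pts.mem _))
          (mul_mem (S.pts.mem _) (S.pts.mem _))).eq⟩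
      rw [← e2]
      refine hzw.trans (isConj_iff.2 ⟨g * e * g⁻¹, ?_⟩)
      rw [← e1, hh]; group
    · left
      rw [← hwe, hback e _ d, hx, hr]; group
    · right
      rw [← hwe, hback e _ d, hx, hr,
        show g * (e * z * t) * g⁻¹ = g * e * g⁻¹ * (g * z * g⁻¹) * (g * t * g⁻¹) by group, conj_fix hg]
  obtain ⟨P, hP0, hP1, hPA, hPi, -⟩ := S.pts.prodFun
  have key : ∀ (n : ℕ) (T : Finset GolayPt), T.card = n → a ∉ T → b ∉ T → (∀ i ∈ T, σ i ∈ T) →
      ∃ k, 2 * k = n ∧ (P T * x * (P T)⁻¹ = x * r ^ k ∨ P T * x * (P T)⁻¹ = x * r ^ k * t) := by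
    intro n
    induction n using Nat.strong_induction_on with
    | _ n ih =>
      intro T hT haT hbT hcl
      rcases T.eq_empty_or_nonempty with rfl | ⟨i, hi⟩
      · refine ⟨0, by simpa using hT, Or.inl ?_⟩
        rw [hP0, pow_zero]; group
      have hia : i ≠ a := fun h => haT (h ▸ hi)
      have hib : i ≠ b := fun h => hbT (h ▸ hi)
      have hne' := hfpf i hia hib
      set T' := (T.erase i).erase (σ i) with hT'
      have hσi : σ i ∈ T.erase i := Finset.mem_erase.2 ⟨hne', hcl i hi⟩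
      have hc1 : T'.card + 2 = n := by
        rw [hT', Finset.card_erase_of_mem hσi, Finset.card_erase_of_mem hi]
        have h1 : 0 < (T.erase i).card := Finset.card_pos.2 ⟨_, hσi⟩
        rw [Finset.card_erase_of_mem hi] at h1
        omega
      obtain ⟨k, hk, hk'⟩ := ih T'.card (by omega) T' rfl
        (fun h => haT (Finset.mem_of_mem_erase (Finset.mem_of_mem_erase h)))
        (fun h => hbT (Finset.mem_of_mem_erase (Finset.mem_of_mem_erase h))) (fun j hj => by
          simp only [hT', Finset.mem_erase] at hj ⊢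
          refine ⟨fun h => hj.2.1 (σ.injective h), fun h => hj.1 ?_, hcl j hj.2.2⟩
          rw [← hinv j, h])
      have hPT : P T = pt i * pt (σ i) * P T' := by
        conv_lhs => rw [← Finset.insert_erase hi]
        rw [hPi _ _ (Finset.notMem_erase _ _)]
        conv_lhs => rw [← Finset.insert_erase hσi]
        rw [hPi _ _ (Finset.notMem_erase _ _), mul_assoc]
      set q := pt i * pt (σ i) with hq
      have hqA : q ∈ A := mul_mem (S.pts.mem _) (S.pts.mem _)
      have hqt : q * t * q⁻¹ = t := conj_fix (comA S hqA (tA S))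
      have hqr : q * r ^ k * q⁻¹ = r ^ k := by
        refine conj_fix (Commute.pow_right ?_ k)
        refine (comm_of_fix ?_ : Commute r q).symm
        rw [hq, S.pts.equiv ⟨r, hN⟩, ← hσ, hinv, (comA S (S.pts.mem (σ i)) (S.pts.mem i)).eq]
      have hTT : P T * x * (P T)⁻¹ = q * (P T' * x * (P T')⁻¹) * q⁻¹ := by rw [hPT]; group
      refine ⟨k + 1, by omega, ?_⟩
      rw [pow_succ', hTT]
      rcases hk' with e1 | e1 <;> rw [e1]
      · rw [show q * (x * r ^ k) * q⁻¹ = q * x * q⁻¹ * (q * r ^ k * q⁻¹) by group, hqr]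
        rcases hpair i hia hib with d | d <;> rw [hq, d]
        · left; simp only [mul_assoc]
        · right
          rw [mul_assoc (x * r) t, ((hrt.pow_left k).symm).eq]
          simp only [mul_assoc]
      · rw [show q * (x * r ^ k * t) * q⁻¹ = q * x * q⁻¹ * (q * r ^ k * q⁻¹) * (q * t * q⁻¹) by group,
          hqr, hqt]
        rcases hpair i hia hib with d | d <;> rw [hq, d]
        · right; simp only [mul_assoc]
        · left
          rw [mul_assoc (x * r) t, ((hrt.pow_left k).symm).eq,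
            show x * r * (r ^ k * t) * t = x * r * r ^ k * (t * t) by simp only [mul_assoc],
            tt S, mul_one]
          simp only [mul_assoc]
  set T := (Finset.univ : Finset GolayPt) \ {a, b} with hTdef
  have hTc : T.card = 22 := by
    rw [hTdef, Finset.card_sdiff_of_subset (Finset.subset_univ _), Finset.card_pair (ne6 S).1,
      show (Finset.univ : Finset GolayPt).card = 24 from rfl]
  obtain ⟨k, hk, hk'⟩ := key 22 T hTc (by simp [hTdef]) (by simp [hTdef]) (fun i hi => by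
    simp only [hTdef, Finset.mem_sdiff, Finset.mem_univ, true_and, Finset.mem_insert,
      Finset.mem_singleton, not_or] at hi ⊢
    exact ⟨fun h => hi.2 (σ.injective (h.trans hba.symm)), fun h => hi.1 (σ.injective (h.trans hab.symm))⟩)
  have hPt : P T = t := by
    have h1 : insert a (insert b T) = Finset.univ := by
      ext i; simp [hTdef]; tauto
    have h2 := hPi a (insert b T) (by simp [hTdef, (ne6 S).1])
    rw [h1, hP1, hPi b T (by simp [hTdef]), ← mul_assoc, ← S.eqt] at h2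
    calc P T = t * (t * P T) := by rw [← mul_assoc, tt S, one_mul]
      _ = t := by rw [← h2, mul_one]
  rw [hPt, conj_fix hxt.symm] at hk'
  have h11 : r ^ k = r := by
    obtain rfl : k = 11 := by omega
    rw [show (11 : ℕ) = 2 * 5 + 1 from rfl, pow_succ, pow_mul, pow_two, hrr, one_pow, one_mul]
  rw [h11] at hk'
  rcases hk' with d | d
  · rw [left_eq_mul] at d
    exact z_ne_one S (isConj_one_left.1 (d ▸ hrz))
  · rw [mul_assoc, left_eq_mul] at d
    refine (not_R S (ne6 S).1).2 ?_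
    rw [← S.eqt, show t = r by rw [← inv_eq_of_mul_eq_one_right (tt S)]; exact (eq_inv_of_mul_eq_one_left d).symm]
    exact hrz

/-- A conjugate of `p` under the centralizer of `t`, normalising the subgroup, moves `a`. -/
theorem p_move_a (hthird : Third) {g : G} (hg : Commute g t)
    (hN : g * p * g⁻¹ ∈ Subgroup.normalizer (A : Set G)) :
    (φ ⟨g * p * g⁻¹, hN⟩ : Equiv.Perm GolayPt) a ≠ a := by
  classical
  intro ha
  set v := g * p * g⁻¹ with hv
  have hvt : Commute v t := by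
    have := S.pt_comm.map (MulAut.conj g).toMonoidHom
    simpa [conj_fix hg] using this
  obtain ⟨-, hb⟩ := (keep_ab S (m := ⟨v, hN⟩) hvt).resolve_right fun h => (ne6 S).1 (ha.symm.trans h.1)
  have hv4 : (⟨v, hN⟩ : ↥(Subgroup.normalizer (A : Set G))) ^ 4 = 1 := Subtype.ext (by
    rw [Subgroup.coe_pow]
    show (g * p * g⁻¹) ^ 4 = 1
    rw [conj_pow, show (4 : ℕ) = 2 * 2 from rfl, pow_mul, pow_two p, S.p_sq,
      pow_two, sqA S (zA S)]
    simp)
  obtain ⟨i, hia, hib, hi⟩ := hthird (φ ⟨v, hN⟩) (by rw [← map_pow, hv4, map_one]) a b (ne6 S).1 ha hb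
  set x := g⁻¹ * (pt a * pt i) * g with hx
  have hxD : x ∈ DD t e := by
    simpa [hx] using DD_conj S (DD_pt S hia hib).1 hg.inv_left
  have hvfix : v * (pt a * pt i) * v⁻¹ = pt a * pt i :=
    (comm_iff_pair S.pts ⟨v, hN⟩ hia.symm).2 (Or.inl ⟨ha, hi⟩)
  have hpx : Commute p x := comm_of_fix (by
    rw [show p * x * p⁻¹ = g⁻¹ * (g * p * g⁻¹ * (pt a * pt i) * (g * p * g⁻¹)⁻¹) * g by rw [hx]; group,
      ← hv, hvfix])
  have hxz : Commute x z := by rw [← S.p_sq]; exact hpx.symm.mul_right hpx.symm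
  obtain ⟨k, hkt, hkz, hkA⟩ := DD_conj_A S hxD hxz
  set p' := k * p * k⁻¹ with hp'
  have hp't : Commute p' t := by
    have := S.pt_comm.map (MulAut.conj k).toMonoidHom
    simpa [conj_fix hkt] using this
  have hpz : p * z * p⁻¹ = z := by rw [← S.p_sq]; group
  have hptf : p * t * p⁻¹ = t := conj_fix S.pt_comm
  have hp'z : p' * z * p'⁻¹ = z := by
    rw [hp', show k * p * k⁻¹ * z * (k * p * k⁻¹)⁻¹ = k * (p * (k⁻¹ * z * k) * p⁻¹) * k⁻¹ by group,
      show k⁻¹ * z * k = z by simpa using conj_fix hkz.inv_left, hpz, conj_fix hkz]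
  have hp'e : p' * e * p'⁻¹ = e * z := by
    have hz4 : p * (k⁻¹ * e * k) * p⁻¹ = k⁻¹ * e * k * z := by
      have h4 := S.two k⁻¹ hkt.inv_left hkz.inv_left
      rw [inv_inv] at h4
      have htz : t * z = z * t := (comm_tz S).eq.symm
      rcases h4 with d | d | d | d <;> rw [d]
      · exact S.p_e
      · rw [show p * (e * t) * p⁻¹ = p * e * p⁻¹ * (p * t * p⁻¹) by group, S.p_e, hptf, mul_assoc,
          mul_assoc, htz]
      · rw [show p * (e * z) * p⁻¹ = p * e * p⁻¹ * (p * z * p⁻¹) by group, S.p_e, hpz]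
      · rw [show p * (e * z * t) * p⁻¹ = p * e * p⁻¹ * (p * z * p⁻¹) * (p * t * p⁻¹) by group,
          S.p_e, hpz, hptf]
        simp only [mul_assoc]
        rw [htz]
    rw [hp', show k * p * k⁻¹ * e * (k * p * k⁻¹)⁻¹ = k * (p * (k⁻¹ * e * k) * p⁻¹) * k⁻¹ by group,
      hz4, show k * (k⁻¹ * e * k * z) * k⁻¹ = e * (k * z * k⁻¹) by group, conj_fix hkz]
  set x' := k * x * k⁻¹ with hx'
  have hp'x : Commute p' x' := by
    have := hpx.map (MulAut.conj k).toMonoidHom
    simpa [hp', hx'] using this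
  obtain ⟨l, hla, hlb, hl⟩ := DD_shape S (DD_conj S hxD hkt) hkA
  have hfix : Commute p' (pt a * pt l) := by
    rcases hl with h | h
    · rw [← h]; exact hp'x
    · have e1 : pt a * pt l = x' * t := by
        rw [show x' = pt b * pt l from h, S.eqt, show pt b * pt l * (pt a * pt b) = pt b * (pt l * pt a) * pt b by group,
          (comA S (S.pts.mem l) (S.pts.mem a)).eq,
          (comA S (S.pts.mem b) (mul_mem (S.pts.mem a) (S.pts.mem l))).eq, mul_assoc,
          S.pts.sq _ (S.pts.mem b), mul_one]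
      rw [e1]; exact hp'x.mul_right hp't
  obtain ⟨h1, h2, h3, h4, h5, h6⟩ := ne6 S
  have hlc : l ≠ c := fun h => by
    rw [h, ← S.eqe] at hfix
    rw [conj_fix hfix, left_eq_mul] at hp'e
    exact z_ne_one S hp'e
  have hly : l ≠ y := fun h => by
    rw [h, ← ezt_eq S] at hfix
    have := conj_fix hfix
    rw [show p' * (e * z * t) * p'⁻¹ = p' * e * p'⁻¹ * (p' * z * p'⁻¹) * (p' * t * p'⁻¹) by group,
      hp'e, hp'z, conj_fix hp't] at this
    exact z_ne_one S (mul_eq_left.1 (mul_right_cancel this))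
  have hle : pt a * pt l * e = pt l * pt c := by
    rw [S.eqe, (comA S (S.pts.mem a) (S.pts.mem l)).eq, mul_assoc, cancel S]
  have hconj : p' * (pt l * pt c) * p'⁻¹ = pt a * pt l * (pt b * pt y) := by
    rw [← hle, show p' * (pt a * pt l * e) * p'⁻¹ = p' * (pt a * pt l) * p'⁻¹ * (p' * e * p'⁻¹) by group,
      conj_fix hfix, hp'e, ez_eq S]
  obtain ⟨u, w, -, huw⟩ := (S.pts.rel (pt a * pt l * (pt b * pt y))
    (mul_mem (mul_mem (S.pts.mem _) (S.pts.mem _)) (mul_mem (S.pts.mem _) (S.pts.mem _)))).1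
    ⟨fun h => (not_R S hlc).1 (conj_eq_one_iff.1 (hconj.trans h)),
      fun h => (not_R S hlc).2 (h.trans (isConj_iff.2 ⟨p'⁻¹, by rw [← hconj]; group⟩))⟩
  exact S.pts.four a l b y u w hla.symm h1 h3 hlb hly h5 (by rw [huw, mul_assoc])

/-- There is a subgroup of index two of the centralizer missing `p`. -/
theorem exists_index_two (hthird : Third) :
    ∃ W : Subgroup ↥(centralizer ({t} : Set G)), W.index = 2 ∧
      ⟨p, Subgroup.mem_centralizer_singleton_iff.2 S.pt_comm.eq⟩ ∉ W := by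
  classical
  haveI : Fact (Nat.Prime 2) := ⟨Nat.prime_two⟩
  set Ct := centralizer ({t} : Set G) with hCt
  set N : Subgroup Ct := (Subgroup.normalizer (A : Set G)).subgroupOf Ct with hN
  have hab := (ne6 S).1
  let ι : N →* ↥(Subgroup.normalizer (A : Set G)) :=
    { toFun := fun m => ⟨((m : Ct) : G), Subgroup.mem_subgroupOf.1 m.2⟩
      map_one' := rfl
      map_mul' := fun _ _ => rfl }
  have hcom : ∀ m : N, Commute (ι m : G) t := fun m =>
    Subgroup.mem_centralizer_singleton_iff.1 (m : Ct).2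
  let χ : N →* ℤˣ := MonoidHom.mk' (fun m => if (φ (ι m) : Equiv.Perm GolayPt) a = a then 1 else -1)
    fun m m' => by
      have e : (φ (ι (m * m')) : Equiv.Perm GolayPt) a =
          (φ (ι m) : Equiv.Perm GolayPt) ((φ (ι m') : Equiv.Perm GolayPt) a) := by
        rw [map_mul, map_mul]; rfl
      simp only [e]
      rcases keep_ab S (hcom m) with ⟨h1, h2⟩ | ⟨h1, h2⟩ <;>
        rcases keep_ab S (hcom m') with ⟨h3, h4⟩ | ⟨h3, h4⟩ <;>
        simp [h1, h2, h3, hab.symm]
  have hx4 : orderOf (⟨p, Subgroup.mem_centralizer_singleton_iff.2 S.pt_comm.eq⟩ : Ct) = 2 ^ 2 := by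
    refine orderOf_eq_prime_pow ?_ ?_
    · intro h
      have := congrArg Subtype.val h
      rw [Subgroup.coe_pow, pow_one, pow_two] at this
      exact z_ne_one S (S.p_sq ▸ this)
    · refine Subtype.ext ?_
      rw [Subgroup.coe_pow, show (2 : ℕ) ^ (1 + 1) = 2 * 2 from rfl, pow_mul, pow_two p, S.p_sq, pow_two,
        sqA S (zA S)]
      rfl
  set xp : Ct := ⟨p, Subgroup.mem_centralizer_singleton_iff.2 S.pt_comm.eq⟩ with hxp
  have hodd : ¬ 2 ∣ N.index := by
    have hA2 : IsPGroup 2 (A.subgroupOf Ct) := fun w => ⟨1, Subtype.ext (Subtype.ext (by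
      simpa [pow_two] using S.pts.sq _ (Subgroup.mem_subgroupOf.1 w.2)))⟩
    obtain ⟨P, hP⟩ := hA2.exists_le_sylow
    have hPN := S.pts.sylow ((P : Subgroup Ct).map Ct.subtype) (P.isPGroup'.map _) (fun w hw =>
      ⟨⟨w, Subgroup.mem_centralizer_singleton_iff.2 (comA S hw (tA S)).eq⟩,
        hP (Subgroup.mem_subgroupOf.2 hw), rfl⟩)
    have hle : (P : Subgroup Ct) ≤ N := fun w hw => Subgroup.mem_subgroupOf.2 (hPN ⟨w, hw, rfl⟩)
    exact fun h => P.not_dvd_index (h.trans (Subgroup.index_dvd_of_le hle))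
  have hχeq : ∀ (m : N), χ m = if (φ (ι m) : Equiv.Perm GolayPt) a = a then 1 else -1 := fun m => rfl
  obtain ⟨n, hn, hV⟩ := TransferThompson.transfer_eq_pow_fixed (H := N) χ (p := 2) hx4 (-1)
    (by
      intro g k hk hmem
      obtain ⟨j, rfl⟩ := hk
      rw [hχeq, if_pos]
      have e1 : ((xp ^ (2 * j) : Ct) : G) = z ^ j := by
        rw [Subgroup.coe_pow, pow_mul, pow_two]
        exact congrArg (· ^ j) S.p_sq
      have hgt : Commute ((g : G)⁻¹) t := (show Commute (g : G) t from Subgroup.mem_centralizer_singleton_iff.1 g.2).inv_left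
      have hm := Subgroup.mem_subgroupOf.1 hmem
      have e2 : ((g⁻¹ * xp ^ (2 * j) * g : Ct) : G) = (g : G)⁻¹ * z ^ j * (g : G)⁻¹⁻¹ := by
        rw [Subgroup.coe_mul, Subgroup.coe_mul, Subgroup.coe_inv, e1, inv_inv]
      rcases Nat.even_or_odd j with ⟨i, rfl⟩ | ⟨i, rfl⟩
      · have h1 : ι ⟨_, hmem⟩ = 1 := Subtype.ext (by
          show ((g⁻¹ * xp ^ (2 * (i + i)) * g : Ct) : G) = 1
          rw [e2, pow_add, ← (Commute.refl z).mul_pow, sqA S (zA S), one_pow]; group)
        rw [h1, map_one]; rfl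
      · have e3 : z ^ (2 * i + 1) = z := by
          rw [pow_succ, pow_mul, pow_two, sqA S (zA S), one_pow, one_mul]
        rw [e3] at e2
        have h1 : ι ⟨_, hmem⟩ = ⟨(g : G)⁻¹ * z * (g : G)⁻¹⁻¹, e2 ▸ hm⟩ := Subtype.ext e2
        rw [h1]
        exact z_fix_a S hgt _)
    (by
      intro g hmem
      have hgt : Commute ((g : G)⁻¹) t := (show Commute (g : G) t from Subgroup.mem_centralizer_singleton_iff.1 g.2).inv_left
      have hm := Subgroup.mem_subgroupOf.1 hmem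
      have e2 : ((g⁻¹ * xp * g : Ct) : G) = (g : G)⁻¹ * p * (g : G)⁻¹⁻¹ := by
        rw [inv_inv]; rfl
      have h1 : ι ⟨_, hmem⟩ = ⟨(g : G)⁻¹ * p * (g : G)⁻¹⁻¹, e2 ▸ hm⟩ := Subtype.ext e2
      rw [hχeq, if_neg]
      rw [h1]
      exact p_move_a S hthird hgt _)
  have hV' : MonoidHom.transfer χ xp = -1 := by
    rw [hV, Odd.neg_one_pow]
    rw [Nat.odd_iff]
    have h2 : N.index % 2 = 1 := Nat.two_dvd_ne_zero.1 hodd
    rw [show n % 2 = N.index % 2 from hn, h2]
  refine ⟨(MonoidHom.transfer χ).ker, ?_, fun h => ?_⟩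
  · rw [Subgroup.index_ker, MonoidHom.range_eq_top.2 ?_, Subgroup.card_top, Nat.card_eq_fintype_card]
    · rfl
    · intro u
      rcases Int.units_eq_one_or u with rfl | rfl
      · exact ⟨1, map_one _⟩
      · exact ⟨xp, hV'⟩
  · rw [MonoidHom.mem_ker, hV'] at h
    exact absurd h (by decide)

/-- A subgroup of index two containing the centralizers of the four groups and missing `p` moves
`e` within its coset to no other element, and moves it to another commuting coset. -/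
theorem moves {W : Subgroup ↥(centralizer ({t} : Set G))}
    (hp : ⟨p, Subgroup.mem_centralizer_singleton_iff.2 S.pt_comm.eq⟩ ∉ W)
    (hsub : ∀ (g : G) (k : ↥(centralizer ({t} : Set G))), Commute g t →
      Commute (g⁻¹ * (k : G) * g) e → k ∈ W) :
    (∀ g : ↥(centralizer ({t} : Set G)), g ∈ W → (g : G) * e * (g : G)⁻¹ ≠ e * t) ∧
      ∃ g ∈ W, ((g : ↥(centralizer ({t} : Set G))) : G) * e * (g : G)⁻¹ = e * z * t := by
  classical
  obtain ⟨h1, h2, h3, h4, h5, h6⟩ := ne6 S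
  obtain ⟨i, i1, i2, i3, i4⟩ := four_pts a b c y
  have mk : ∀ (s s' : GolayPt) (m : ↥(Subgroup.normalizer (A : Set G))),
      [a, b, i, s].map (φ m : Equiv.Perm GolayPt) = [a, b, i, s'] →
      ∃ hm : (m : G) ∈ centralizer ({t} : Set G), (⟨m, hm⟩ : ↥(centralizer ({t} : Set G))) ∈ W := by
    intro s s' m hm
    simp only [List.map_cons, List.map_nil, List.cons.injEq, and_true] at hm
    have hmt := move_t S (Or.inl ⟨hm.1, hm.2.1⟩)
    obtain ⟨g, hgt, hge⟩ := (DD_pt S i1 i2).1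
    refine ⟨Subgroup.mem_centralizer_singleton_iff.2 hmt.eq, hsub g _ hgt ?_⟩
    have hc : Commute (m : G) (g * e * g⁻¹) :=
      comm_of_fix (by rw [hge]; exact (comm_iff_pair S.pts m i1.symm).2 (Or.inl ⟨hm.1, hm.2.2.1⟩))
    have := hc.map (MulAut.conj g⁻¹).toMonoidHom
    simpa [mul_assoc] using this
  constructor
  · intro g hg hge
    obtain ⟨m, hm⟩ := exists_m S.pts [a, b, i, y] [a, b, i, c] (by simp [h1, h3, h5, i1.symm, i2.symm, i4])
      (by simp [h1, h2, h4, i1.symm, i2.symm, i3]) rfl (by simp)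
    obtain ⟨hmC, hmW⟩ := mk y c m hm
    simp only [List.map_cons, List.map_nil, List.cons.injEq, and_true] at hm
    set xp : ↥(centralizer ({t} : Set G)) := ⟨p, Subgroup.mem_centralizer_singleton_iff.2 S.pt_comm.eq⟩
    have hse : (m : G) * p * e * ((m : G) * p)⁻¹ = e * t := by
      rw [show (m : G) * p * e * ((m : G) * p)⁻¹ = (m : G) * (p * e * p⁻¹) * (m : G)⁻¹ by group, S.p_e,
        ez_eq S, S.pts.equiv, hm.2.1, hm.2.2.2, et_eq S]
    have hfix : ((g : G)⁻¹ * ((m : G) * p)) * e * ((g : G)⁻¹ * ((m : G) * p))⁻¹ = e := by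
      rw [show (g : G)⁻¹ * ((m : G) * p) * e * ((g : G)⁻¹ * ((m : G) * p))⁻¹ =
        (g : G)⁻¹ * ((m : G) * p * e * ((m : G) * p)⁻¹) * (g : G) by group, hse, ← hge]
      group
    have h0 : g⁻¹ * (⟨m, hmC⟩ * xp) ∈ W := by
      refine hsub 1 _ (Commute.one_left t) ?_
      rw [inv_one, one_mul, mul_one]
      exact comm_of_fix hfix
    refine hp ?_
    have := mul_mem (inv_mem hmW) (mul_mem hg h0)
    simpa using this
  · obtain ⟨m, hm⟩ := exists_m S.pts [a, b, i, c] [a, b, i, y] (by simp [h1, h2, h4, i1.symm, i2.symm, i3])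
      (by simp [h1, h3, h5, i1.symm, i2.symm, i4]) rfl (by simp)
    obtain ⟨hmC, hmW⟩ := mk c y m hm
    simp only [List.map_cons, List.map_nil, List.cons.injEq, and_true] at hm
    refine ⟨⟨m, hmC⟩, hmW, ?_⟩
    show (m : G) * e * (m : G)⁻¹ = _
    rw [S.eqe, S.pts.equiv, hm.1, hm.2.2.2, ← S.eqe, ezt_eq S]

end

end Cfsg.Agent.LFNoncentralTransfer19
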