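import Mathlib
import Cfsg.Agent.Lib.LFOrbits18
import Cfsg.Agent.Lib.LFBlock18

/-!
The stabiliser of a vector of the small orbit is the automorphism group of `U₄(2)`.
-/

set_option autoImplicit false
set_option linter.unusedSectionVars false
set_option linter.style.haveILetI false
set_option maxHeartbeats 800000
set_option maxRecDepth 100000

namespace Cfsg.Agent.LFSmallStab18

open Cfsg Subgroup Cfsg.Agent.U62Mon93 Cfsg.Agent.U62Existence93 Cfsg.Agent.OrthUnitaryHerm
open Cfsg.Agent.LFModel89 Cfsg.Agent.LFSetting89 Cfsg.Agent.LFSylow89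
open Cfsg.Agent.LFMat89 Cfsg.Agent.LFElem89 Cfsg.Agent.LFOrbits18 Cfsg.Agent.LFBlock18
open Cfsg.Agent.LFCheck89
open Cfsg.Agent.FischerFrame18 (InvQ imgStab card_imgStab)
open scoped Matrix

universe u

variable {G : Type u} [Group G] [Finite G] {z : G} {Q : Subgroup (centralizer ({z} : Set G))}
  [Q.Normal] {V : Type u} [AddCommGroup V] {zc : centralizer ({z} : Set G)}
  {π : centralizer ({z} : Set G) → V} {ρ : centralizer ({z} : Set G) ⧸ Q →* AddMonoid.End V}
  {q : V → ZMod 2} {n : centralizer ({z} : Set G) ⧸ Q}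
  {Mb : Subgroup (centralizer ({z} : Set G) ⧸ Q)}
  {F : Type} [Field F] [Fintype F] {s : F} {h : S4 s} {ν : (Fin 6 → F) → V}
  {Φ : K0 h →* centralizer ({z} : Set G) ⧸ Q}
variable (hF : Cfsg.IsOfLargeFischerTypeAt z Q) (D : Data z Q zc π ρ q n Mb)
  (C : Coord h ρ q n Mb ν Φ)

theorem vec_five (h : S4 s) : vec s 5 = yv F := funext fun i => by
  fin_cases i <;>
    simp [vec, yv, LFCheck89.dig, UnitaryImage.iota_one (genOK h), UnitaryImage.iota_zero]

/-- The stabiliser of a vector. -/
def fixer (ρ : centralizer ({z} : Set G) ⧸ Q →* AddMonoid.End V) (v : V) :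
    Subgroup (centralizer ({z} : Set G) ⧸ Q) where
  carrier := {g | op ρ g v = v}
  one_mem' := rho_one ρ v
  mul_mem' := fun {a b} ha hb => by
    show op ρ (a * b) v = v
    rw [rho_mul, hb, ha]
  inv_mem' := fun {a} ha => by
    show op ρ a⁻¹ v = v
    conv_lhs => rw [← (show op ρ a v = v from ha)]
    rw [← rho_mul, inv_mul_cancel, rho_one]

include D C in
theorem phi_fix (g : K0 h) :
    op ρ (Φ g) (nc s ν 5) = nc s ν 5 ↔ g ∈ stab h := by
  rw [nc, C.act, C.bij.1.eq_iff, vec_five h]
  rfl

include C in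
theorem phi_mem (g : K0 h) : Φ g ∈ Mb := by
  rw [← C.range]; exact ⟨g, rfl⟩

include D C in
theorem card_stab : Nat.card (stab h) = 25920 := by
  rw [← card_stab_five D C]
  refine Nat.card_congr (Equiv.ofBijective (fun g : stab h => (⟨Φ g.1, phi_mem C g.1,
    (phi_fix D C g.1).2 g.2⟩ : {x // x ∈ Mb ∧ op ρ x (nc s ν 5) = nc s ν 5})) ⟨?_, ?_⟩)
  · exact fun a b e => Subtype.ext (C.inj (congrArg Subtype.val e))
  · rintro ⟨x, hx, hfx⟩
    obtain ⟨g, rfl⟩ : x ∈ Φ.range := by rw [C.range]; exact hx
    exact ⟨⟨g, (phi_fix D C g).1 hfx⟩, rfl⟩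

include hF D C in
/-- The stabiliser of the base vector. -/
theorem fixer_five_iso :
    Nonempty (fixer ρ (nc s ν 5) ≃* MulAut (PSU 4 F 2)) := by
  classical
  set St := fixer ρ (nc s ν 5) with hSt
  have hcardSt : Nat.card St = 51840 := by
    obtain ⟨x, hx, hxe, hnc, -⟩ := five_class hF D C
    rw [← (card_imgStab hF hx).2 hnc]
    exact Nat.card_congr (Equiv.subtypeEquivRight fun g => by
      rw [imgStab_iff D hx.mem, hxe]; rfl)
  haveI : Mb.Normal := Subgroup.normal_of_index_eq_two D.index_two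
  let P : Subgroup St := Mb.subgroupOf St
  haveI : P.Normal := Subgroup.normal_subgroupOf
  have hPcard := card_stab D C
  let eP : stab h ≃* P := MulEquiv.ofBijective
    (MonoidHom.mk' (fun g : stab h =>
      (⟨⟨Φ g.1, (phi_fix D C g.1).2 g.2⟩, Subgroup.mem_subgroupOf.2 (phi_mem C g.1)⟩ : P))
      fun a b => Subtype.ext (Subtype.ext (map_mul Φ a.1 b.1)))
    ⟨fun a b e => Subtype.ext (C.inj (congrArg (fun p : P => p.1.1) e)), by
      rintro ⟨⟨x, hfx⟩, hx⟩
      obtain ⟨g, rfl⟩ : x ∈ Φ.range := by rw [C.range]; exact hx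
      exact ⟨⟨g, (phi_fix D C g).1 hfx⟩, rfl⟩⟩
  have hcen : Nat.card (Subgroup.center (SU 4 F 2)) = 1 := by
    rw [card_center_SU h.card' (by norm_num)]; rfl
  have hbot : Subgroup.center (SU 4 F 2) = ⊥ := Subgroup.eq_bot_of_card_eq _ hcen
  let eU : P ≃* PSU 4 F 2 := eP.symm.trans ((MulEquiv.ofBijective _ (blk_bijective h hPcard)).trans
    ((QuotientGroup.quotientMulEquivOfEq hbot).trans QuotientGroup.quotientBot).symm)
  let f : St →* MulAut (PSU 4 F 2) := (MulAut.congr eU).toMonoidHom.comp MulAut.conjNormal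
  have hinj : Function.Injective f := by
    rw [injective_iff_map_eq_one]
    intro g hg
    have h1 : (MulAut.conjNormal g : MulAut P) = 1 :=
      (MulAut.congr eU).injective (by rw [map_one]; exact hg)
    have hcomm : ∀ p : P, g * p = p * g := fun p => by
      have := congrArg Subtype.val (DFunLike.congr_fun h1 p)
      simp only [MulAut.conjNormal_apply, MulAut.one_apply] at this
      exact mul_inv_eq_iff_eq_mul.1 this
    by_cases hgM : (g : centralizer ({z} : Set G) ⧸ Q) ∈ Mb
    · -- central in a group without centre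
      have hgc : eU ⟨g, hgM⟩ ∈ Subgroup.center (PSU 4 F 2) :=
        Subgroup.mem_center_iff.2 fun p => by
          obtain ⟨p', rfl⟩ := eU.surjective p
          rw [← map_mul, ← map_mul]
          exact congrArg eU (Subtype.ext (hcomm p').symm)
      haveI : IsSimpleGroup (PSU 4 F 2) :=
        OrthUnitaryPSU.isSimpleGroup_PSU h.card' (by norm_num) (by norm_num)
      have hperf : commutator (PSU 4 F 2) = ⊤ := by
        rw [_root_.commutator_def, ← Subgroup.map_top_of_surjective
          (QuotientGroup.mk' (Subgroup.center (SU 4 F 2))) (QuotientGroup.mk'_surjective _),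
          ← Subgroup.map_commutator, ← _root_.commutator_def,
          OrthUnitaryPSU.commutator_eq_top (q := 2) h.card' (by norm_num) (by norm_num)]
      have hb : Subgroup.center (PSU 4 F 2) = ⊥ := by
        rcases (inferInstance : (Subgroup.center (PSU 4 F 2)).Normal).eq_bot_or_eq_top with hb | ht
        · exact hb
        · have : commutator (PSU 4 F 2) = ⊥ := (commutator_eq_bot_iff_center_eq_top _).2 ht
          rw [hperf] at this
          exact absurd this top_ne_bot
      rw [hb, Subgroup.mem_bot] at hgc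
      exact congrArg Subtype.val (eU.injective (hgc.trans (map_one eU).symm))
    · -- an outer element inverts the scalar
      exfalso
      obtain ⟨e, he⟩ := exists_isM h 1 (d := (![0, 0, 1, 1, 1, 0] : Fin 6 → ZMod 3)) (by decide)
      have heK : e ∈ K0 h := E_le_K0 h ⟨_, he⟩
      have hmul : ∀ v : Fin 6 → F, ∀ i,
          (e.1.1 *ᵥ v) i = ex s ((![0, 0, 1, 1, 1, 0] : Fin 6 → ZMod 3) i) * v i := fun v i => by
        show ∑ x, entry e i x * v x = _
        rw [Finset.sum_eq_single i (fun x _ hx => by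
            rw [he, Equiv.Perm.one_apply, if_neg (Ne.symm hx), zero_mul])
          (fun hh => absurd (Finset.mem_univ _) hh), he, Equiv.Perm.one_apply, if_pos rfl]
      have hes : (⟨e, heK⟩ : K0 h) ∈ stab h := funext fun i => by
        rw [hmul]; fin_cases i <;> simp [yv, ex_zero]
      let p : P := eP ⟨⟨e, heK⟩, hes⟩
      have hp : ((p : St) : centralizer ({z} : Set G) ⧸ Q) = Φ ⟨e, heK⟩ := rfl
      have hcomm' : (g : centralizer ({z} : Set G) ⧸ Q) * Φ ⟨e, heK⟩ = Φ ⟨e, heK⟩ * g := by
        rw [← hp]; exact congrArg Subtype.val (hcomm p)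
      set e2 : Fin 6 → F := Pi.single 2 1 with he2
      obtain ⟨u, hu⟩ := C.bij.2 (op ρ (g : centralizer ({z} : Set G) ⧸ Q) (ν e2))
      have hee : e.1.1 *ᵥ e2 = s • e2 := funext fun i => by
        rw [hmul]; fin_cases i <;> simp [e2, ex_one]
      have key : e.1.1 *ᵥ u = (s * s) • u := by
        refine C.bij.1 ?_
        have h2 : op ρ (Φ ⟨e, heK⟩) (ν u) = op ρ n (op ρ n (ν u)) := by
          rw [hu, ← rho_mul, ← hcomm', rho_mul, C.act, show ((⟨e, heK⟩ : K0 h).1.1 :
            Matrix (Fin 6) (Fin 6) F) *ᵥ e2 = s • e2 from hee, ← C.scalar, semilinear D C _ hgM]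
        rw [C.act, C.scalar, C.scalar, smul_smul] at h2
        exact h2
      have hu0 : u = 0 := funext fun i => by
        have hi := congrFun key i
        rw [hmul, Pi.smul_apply, smul_eq_mul, ← pow_two, ← ex_two] at hi
        by_contra hne
        have := ex_injective h (mul_right_cancel₀ hne hi)
        fin_cases i <;> revert this <;> decide
      rw [hu0] at hu
      have h0 : ν e2 = ν 0 := by
        have e' := congrArg (op ρ (g : centralizer ({z} : Set G) ⧸ Q)⁻¹) hu
        rw [← rho_mul, inv_mul_cancel, rho_one] at e'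
        have hν0 : ν 0 = 0 := by
          have e := C.add 0 0
          rw [add_zero] at e
          exact add_eq_left.1 e.symm
        rw [← e', hν0, map_zero]
      have := congrFun (C.bij.1 h0) 2
      simp [e2] at this
  haveI : Finite (SU 4 F 2) := Subtype.finite
  exact ⟨MulEquiv.ofBijective f ((Nat.bijective_iff_injective_and_card f).2 ⟨hinj, by
    rw [hcardSt, OrthMinusSixTwoAut48.card_mulAut_four h.card]⟩)⟩

include hF D C in
/-- The image of the stabiliser of an involution outside the class of `z`. -/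
theorem image_iso {t : centralizer ({z} : Set G)} (ht : InvQ z Q t)
    (htz : ¬ IsConj z (t : G)) {S : Subgroup (centralizer ({z} : Set G) ⧸ Q)}
    (hS : (S : Set (centralizer ({z} : Set G) ⧸ Q)) = imgStab z Q t) :
    Nonempty (S ≃* Cfsg.isometryGroup (ZMod 2) (Cfsg.quadFormMinus 2 (ZMod 2) 1 1)) := by
  obtain ⟨g, hg⟩ := exists_move hF D C ht htz
  obtain ⟨e⟩ := fixer_five_iso hF D C
  obtain ⟨e'⟩ := OrthMinusSixTwoAut48.nonempty_equiv h.card
  have hmap : (fixer ρ (nc s ν 5)).map (MulAut.conj g).toMonoidHom = S := by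
    ext x
    rw [← SetLike.mem_coe (p := S), hS, imgStab_iff D ht.mem, ← hg]
    constructor
    · rintro ⟨y, hy, rfl⟩
      show op ρ (g * y * g⁻¹) _ = _
      rw [← rho_mul, inv_mul_cancel_right, rho_mul, show op ρ y (nc s ν 5) = nc s ν 5 from hy]
    · intro hx
      refine ⟨g⁻¹ * x * g, ?_, by simp [mul_assoc]⟩
      show op ρ (g⁻¹ * x * g) _ = _
      rw [rho_mul, rho_mul, hx, ← rho_mul, inv_mul_cancel, rho_one]
  subst hmap
  exact ⟨(((fixer ρ (nc s ν 5)).equivMapOfInjective _ (MulAut.conj g).injective).symm.trans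
    e).trans e'.symm⟩

end Cfsg.Agent.LFSmallStab18
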