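import Mathlib
import Cfsg.Agent.Lib.LFOrbitA89
import Cfsg.Agent.Lib.LFSmallStab18

/-!
Vocabulary for the centralizer of a four group `E` in a group of large Fischer type: the image of its
centralizer, its transvections, and the conjugates of `z` that stay alone in their coset of `E`.
-/

set_option autoImplicit false
set_option linter.unusedSectionVars false

namespace Cfsg.Agent.LFU62Defs19

open Cfsg Subgroup Cfsg.Agent.U62Mon93 Cfsg.Agent.U62Existence93 Cfsg.Agent.LFModel89
open Cfsg.Agent.LFSetting89 Cfsg.Agent.LFSylow89 Cfsg.Agent.LFSmallStab18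

universe u

variable {G : Type u} [Group G] [Finite G] {z : G} {Q : Subgroup (centralizer ({z} : Set G))}
  [Q.Normal] {V : Type u} [AddCommGroup V]
  {F : Type} [Field F] [Fintype F] {s : F}

/-- The indices in the first elementary subgroup of the five transvections. -/
def five : List ℕ := [15, 59, 63, 96, 107]

/-- The line of the weight two vector, as codes. -/
def lineC : List ℕ := [0, 5, 10, 15]

/-- The line of the weight two vector. -/
def LineV (s : F) (ν : (Fin 6 → F) → V) : Set V := {v | ∃ c ∈ lineC, v = nc s ν c}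

/-- The image of the centralizer of the four group: the linear stabiliser of the vector. -/
def St (ρ : centralizer ({z} : Set G) ⧸ Q →* AddMonoid.End V) (s : F) (ν : (Fin 6 → F) → V)
    (Mb : Subgroup (centralizer ({z} : Set G) ⧸ Q)) : Subgroup (centralizer ({z} : Set G) ⧸ Q) :=
  Mb ⊓ fixer ρ (nc s ν 5)

/-- The transvection attached to the line. -/
noncomputable def tauE (h : S4 s) (Φ : K0 h →* centralizer ({z} : Set G) ⧸ Q) :
    centralizer ({z} : Set G) ⧸ Q := tau h Φ 15

/-- The transvections. -/
def TT (ρ : centralizer ({z} : Set G) ⧸ Q →* AddMonoid.End V) (ν : (Fin 6 → F) → V)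
    (Mb : Subgroup (centralizer ({z} : Set G) ⧸ Q)) (h : S4 s)
    (Φ : K0 h →* centralizer ({z} : Set G) ⧸ Q) : Set (centralizer ({z} : Set G) ⧸ Q) :=
  {t | ∃ g ∈ St ρ s ν Mb, g * tauE h Φ * g⁻¹ = t}

/-- A four group in `Q` over the line, not containing the central involution. -/
structure IsE (π : centralizer ({z} : Set G) → V) (s : F) (ν : (Fin 6 → F) → V)
    (zc : centralizer ({z} : Set G)) (E : Subgroup (centralizer ({z} : Set G))) : Prop where
  le : E ≤ Q
  card : Nat.card E = 4
  zc_notMem : zc ∉ E
  img : π '' (E : Set (centralizer ({z} : Set G))) = LineV s ν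

/-- The conjugates of `z` centralising `E` that are alone in their coset. -/
def DH (z : G) (E : Subgroup (centralizer ({z} : Set G))) : Set (centralizer ({z} : Set G)) :=
  {x | (∀ e ∈ E, x * e = e * x) ∧ IsConj z (x : G) ∧
    ∀ e ∈ E, e ≠ 1 → ¬ IsConj z ((x * e : centralizer ({z} : Set G)) : G)}

end Cfsg.Agent.LFU62Defs19
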