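import Mathlib
import Cfsg.Agent.Lib.LFCheck89
import Cfsg.Agent.Lib.LFData89

/-!
Finite checks on codes around the perpendicular of the line of the weight two vector.
-/

set_option autoImplicit false
set_option maxRecDepth 100000

namespace Cfsg.Agent.LFU62PerpData19

open Cfsg.Agent.LFData89 Cfsg.Agent.LFCheck89

/-- the polar form on codes -/
def pb (a b : ℕ) : Bool := xor (xor (qpar (Nat.xor a b)) (qpar a)) (qpar b)

/-- in the perpendicular of the line -/
def inPerp (c : ℕ) : Bool := !pb c 5 && !pb c 10

/-- in the line -/
def inLine (c : ℕ) : Bool := Nat.beq c 0 || Nat.beq c 5 || Nat.beq c 10 || Nat.beq c 15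

/-- the commutator with the transvection -/
def dlt (w : ℕ) : ℕ := Nat.xor (app (el 15) w) w

/-- four vectors of the perpendicular whose commutators represent the range modulo the line -/
def reps : List ℕ := (List.range 4096).filter inPerp |>.foldl
  (fun l w => bif l.any (fun w' => inLine (Nat.xor (dlt w) (dlt w'))) then l else l ++ [w]) []

/-- every commutator is represented modulo the line -/
def repsOK : Bool :=
  allBelow (fun c => reps.any fun w => inPerp w && Nat.blt w 4096 && inLine (Nat.xor (dlt w) (dlt c))) 4096

theorem reps_ok : repsOK = true := by decide +kernel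

theorem card_perp : ((List.range 4096).filter inPerp).length = 1024 := by decide +kernel

theorem perp_pair : inPerp 16 = true ∧ inPerp 32 = true ∧ pb 16 32 = true := by decide +kernel

end Cfsg.Agent.LFU62PerpData19
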