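import Mathlib

/-!
The local hypotheses on an involution `z` with centralizer like that of a transvection of `U₆(2)`:
the other conjugates of `z` in the centralizer map in fours onto the 45 transvections of `U₄(2)`.
First consequences: the lines of the commuting graph.
-/

set_option autoImplicit false
set_option linter.unusedSectionVars false

namespace Cfsg.Agent.U62RecogSetup19

universe u v

variable {L : Type u} [Group L] {U : Type v} [Group U]

/-- The facts needed about the 45 transvections of the small unitary group. -/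
structure TGraph (T : Set U) : Prop where
  inv : ∀ t ∈ T, t * t = 1
  card : T.ncard = 45
  deg : ∀ t ∈ T, {s | s ∈ T ∧ s ≠ t ∧ Commute s t}.ncard = 12
  com : ∀ s ∈ T, ∀ t ∈ T, ¬ Commute s t →
    {u | u ∈ T ∧ Commute u s ∧ Commute u t}.ncard = 3
  sep : ∀ s ∈ T, ∀ t ∈ T, s ≠ t → Commute s t → ∃ u ∈ T, Commute u s ∧ ¬ Commute u t
  gq : ∀ K ⊆ T, K.ncard = 5 → (∀ a ∈ K, ∀ b ∈ K, Commute a b) → ∀ u ∈ T, ∃ a ∈ K, Commute u a
  prod : ∀ s ∈ T, ∀ t ∈ T, s ≠ t → Commute s t → s * t ∉ T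
  pair : ∀ a ∈ T, ∀ b ∈ T, ∀ c ∈ T, ∀ d ∈ T, a ≠ b → c ≠ d → Commute a b → Commute c d →
    a * b = c * d → (a = c ∧ b = d) ∨ (a = d ∧ b = c)
  braid : ∀ s ∈ T, ∀ t ∈ T, ¬ Commute s t → s * t * s = t * s * t

/-- The conjugates of `z` commuting with `a`, other than `a`. -/
def Xa (D : Set L) (a : L) : Set L := {x | x ∈ D ∧ Commute x a ∧ x ≠ a}

/-- Commuting with the same conjugates of `z` among those commuting with `a`. -/
def Same (D : Set L) (a x y : L) : Prop :=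
  ∀ g ∈ D, Commute g a → (Commute g x ↔ Commute g y)

/-- The local hypotheses. -/
structure Setup (D : Set L) (z : L) (T : Set U) (ψ : L → U) : Prop where
  class_eq : D = {d | ∃ g : L, g * z * g⁻¹ = d}
  zz : z * z = 1
  ne_one : z ≠ 1
  card_H : Nat.card (Subgroup.centralizer ({z} : Set L)) = 13271040
  graph : TGraph T
  hom : ∀ g h : L, Commute g z → Commute h z → ψ (g * h) = ψ g * ψ h
  card_X : (Xa D z).ncard = 180
  img : ∀ x ∈ Xa D z, ψ x ∈ T
  fibre : ∀ t ∈ T, {x | x ∈ Xa D z ∧ ψ x = t}.ncard = 4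
  comm : ∀ x ∈ Xa D z, ∀ y ∈ Xa D z, (Commute x y ↔ Commute (ψ x) (ψ y))
  four : ∀ x₁ ∈ Xa D z, ∀ x₂ ∈ Xa D z, ∀ x₃ ∈ Xa D z, ∀ x₄ ∈ Xa D z, x₁ ≠ x₂ → x₁ ≠ x₃ → x₁ ≠ x₄ →
    x₂ ≠ x₃ → x₂ ≠ x₄ → x₃ ≠ x₄ → ψ x₁ = ψ x₂ → ψ x₁ = ψ x₃ → ψ x₁ = ψ x₄ → x₁ * x₂ * x₃ * x₄ = z
  sepQ : ∀ x ∈ Xa D z, ∀ y ∈ Xa D z, ∀ x' ∈ Xa D z, ∀ y' ∈ Xa D z, ψ x = ψ y → ψ x' = ψ y' →
    x ≠ y → x' ≠ y' → (x * y = x' * y' ∨ x * y = z * (x' * y')) → ψ x = ψ x'
  transX : ∀ x ∈ Xa D z, ∀ y ∈ Xa D z, ∃ g : L, Commute g z ∧ g * x * g⁻¹ = y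
  gens : Subgroup.closure (insert z (Xa D z)) = Subgroup.centralizer ({z} : Set L)
  ker_two : ∀ g : L, Commute g z → ψ g = 1 → ∃ k : ℕ, g ^ 2 ^ k = 1

theorem commute_cj (g : L) {a b : L} (h : Commute a b) : Commute (g * a * g⁻¹) (g * b * g⁻¹) :=
  h.map (MulAut.conj g).toMonoidHom

theorem commute_cj_iff {g a b : L} : Commute (g * a * g⁻¹) (g * b * g⁻¹) ↔ Commute a b := by
  refine ⟨fun h => ?_, commute_cj g⟩
  have := commute_cj g⁻¹ h
  simpa [mul_assoc] using this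

theorem cj_ne {g a b : L} (h : a ≠ b) : g * a * g⁻¹ ≠ g * b * g⁻¹ := fun e =>
  h (mul_left_cancel (mul_right_cancel e))

variable {D : Set L} {z : L} {T : Set U} {ψ : L → U} (S : Setup D z T ψ)
include S

theorem z_mem : z ∈ D := by rw [S.class_eq]; exact ⟨1, by group⟩

theorem conj_mem {a : L} (ha : a ∈ D) (g : L) : g * a * g⁻¹ ∈ D := by
  rw [S.class_eq] at ha ⊢
  obtain ⟨h, rfl⟩ := ha
  exact ⟨g * h, by group⟩

theorem exists_cj {a : L} (ha : a ∈ D) : ∃ g : L, g * z * g⁻¹ = a := by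
  rw [S.class_eq] at ha; exact ha

theorem mem_sq {a : L} (ha : a ∈ D) : a * a = 1 ∧ a ≠ 1 := by
  obtain ⟨g, rfl⟩ := exists_cj S ha
  refine ⟨?_, fun e => S.ne_one (conj_eq_one_iff.1 e)⟩
  rw [show g * z * g⁻¹ * (g * z * g⁻¹) = g * (z * z) * g⁻¹ by group, S.zz]; group

theorem mem_inv {a : L} (ha : a ∈ D) : a⁻¹ = a := inv_eq_of_mul_eq_one_right (mem_sq S ha).1

theorem xa_conj {a x : L} (g : L) (hx : x ∈ Xa D a) : g * x * g⁻¹ ∈ Xa D (g * a * g⁻¹) :=
  ⟨conj_mem S hx.1 g, commute_cj g hx.2.1, cj_ne hx.2.2⟩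

/-- The hypotheses hold at every conjugate. -/
theorem move {a : L} (ha : a ∈ D) : ∃ ψ' : L → U, Setup D a T ψ' := by
  obtain ⟨g, rfl⟩ := exists_cj S ha
  let c : L → L := fun x => g⁻¹ * x * g
  have hc : ∀ x, g * c x * g⁻¹ = x := fun x => by simp [c, mul_assoc]
  have hcomm : ∀ {x : L}, Commute x (g * z * g⁻¹) → Commute (c x) z := fun {x} h => by
    have := commute_cj g⁻¹ h
    simpa [c, mul_assoc] using this
  have hX : ∀ {x : L}, x ∈ Xa D (g * z * g⁻¹) → c x ∈ Xa D z := fun {x} h => by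
    have := xa_conj S g⁻¹ h
    simpa [c, mul_assoc] using this
  have hX' : ∀ {x : L}, x ∈ Xa D z → g * x * g⁻¹ ∈ Xa D (g * z * g⁻¹) := fun h => xa_conj S g h
  have hcc : ∀ x, c (g * x * g⁻¹) = x := fun x => by simp [c, mul_assoc]
  have hinj : Function.Injective c := fun x y e => by rw [← hc x, e, hc y]
  refine ⟨fun x => ψ (c x), ?_⟩
  refine
    { class_eq := ?_
      zz := (mem_sq S (conj_mem S (z_mem S) g)).1
      ne_one := (mem_sq S (conj_mem S (z_mem S) g)).2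
      card_H := ?_
      graph := S.graph
      hom := fun a b ha hb => by
        rw [← S.hom _ _ (hcomm ha) (hcomm hb)]
        congr 1
        simp [c, mul_assoc]
      card_X := ?_
      img := fun x hx => S.img _ (hX hx)
      fibre := fun t ht => ?_
      comm := fun x hx y hy => ?_
      four := ?_
      sepQ := ?_
      transX := fun x hx y hy => ?_
      gens := ?_
      ker_two := fun h hh hψ => ?_ }
  · rw [S.class_eq]
    ext d
    constructor
    · rintro ⟨h, rfl⟩; exact ⟨h * g⁻¹, by group⟩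
    · rintro ⟨h, rfl⟩; exact ⟨h * g, by group⟩
  · rw [← S.card_H]
    refine Nat.card_congr (?_ : ↥(Subgroup.centralizer ({g * z * g⁻¹} : Set L)) ≃
      ↥(Subgroup.centralizer ({z} : Set L)))
    refine ⟨fun x => ⟨c (x : L), Subgroup.mem_centralizer_singleton_iff.2
        (hcomm (show Commute (x : L) (g * z * g⁻¹) from Subgroup.mem_centralizer_singleton_iff.1 x.2)).eq⟩,
      fun x => ⟨g * (x : L) * g⁻¹, Subgroup.mem_centralizer_singleton_iff.2
        (commute_cj g (show Commute (x : L) z from Subgroup.mem_centralizer_singleton_iff.1 x.2)).eq⟩,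
      fun x => Subtype.ext (hc x), fun x => Subtype.ext (hcc x)⟩
  · rw [← S.card_X]
    refine (Set.ncard_congr (s := Xa D z) (t := Xa D (g * z * g⁻¹)) (fun x _ => g * x * g⁻¹)
      (fun x hx => hX' hx)
      (fun x y _ _ e => mul_left_cancel (mul_right_cancel e)) fun y hy => ⟨c y, hX hy, hc y⟩).symm
  · rw [← S.fibre t ht]
    refine (Set.ncard_congr (s := {x | x ∈ Xa D z ∧ ψ x = t})
      (t := {x | x ∈ Xa D (g * z * g⁻¹) ∧ ψ (c x) = t}) (fun x _ => g * x * g⁻¹)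
      (fun x hx => ⟨hX' hx.1, by show ψ (c (g * x * g⁻¹)) = t; rw [hcc]; exact hx.2⟩)
      (fun x y _ _ e => mul_left_cancel (mul_right_cancel e)) fun y hy => ⟨c y, ⟨hX hy.1, hy.2⟩, hc y⟩).symm
  · rw [← S.comm _ (hX hx) _ (hX hy)]
    conv_lhs => rw [← hc x, ← hc y, commute_cj_iff]
  · intro x₁ h₁ x₂ h₂ x₃ h₃ x₄ h₄ a b d e f i j k l
    have := S.four _ (hX h₁) _ (hX h₂) _ (hX h₃) _ (hX h₄) (hinj.ne a) (hinj.ne b) (hinj.ne d)
      (hinj.ne e) (hinj.ne f) (hinj.ne i) j k l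
    rw [← this]
    simp [c, mul_assoc]
  · intro x hx y hy x' hx' y' hy' e1 e2 n1 n2 e
    refine S.sepQ _ (hX hx) _ (hX hy) _ (hX hx') _ (hX hy') e1 e2 (hinj.ne n1) (hinj.ne n2) ?_
    have hmul : ∀ a b, c a * c b = c (a * b) := fun a b => by simp [c, mul_assoc]
    rcases e with e | e
    · exact Or.inl (by rw [hmul, hmul, e])
    · refine Or.inr ?_
      rw [hmul, hmul, e, ← hcc z, hmul, hcc]
  · obtain ⟨h, h1, h2⟩ := S.transX _ (hX hx) _ (hX hy)
    refine ⟨g * h * g⁻¹, commute_cj g h1, ?_⟩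
    rw [← hc y, ← h2]
    simp [c, mul_assoc]
  · have e : insert (g * z * g⁻¹) (Xa D (g * z * g⁻¹)) =
        (MulAut.conj g) '' insert z (Xa D z) := by
      rw [Set.image_insert_eq]
      congr 1
      ext x
      exact ⟨fun hx => ⟨c x, hX hx, hc x⟩, fun ⟨y, hy, e⟩ => e ▸ hX' hy⟩
    rw [e, ← MulEquiv.coe_toMonoidHom, ← MonoidHom.map_closure, S.gens]
    ext x
    rw [Subgroup.mem_map, Subgroup.mem_centralizer_singleton_iff]
    constructor
    · rintro ⟨y, hy, rfl⟩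
      exact (commute_cj g (Subgroup.mem_centralizer_singleton_iff.1 hy)).eq
    · exact fun hx => ⟨c x, Subgroup.mem_centralizer_singleton_iff.2 (hcomm hx).eq, hc x⟩
  · obtain ⟨k, hk⟩ := S.ker_two _ (hcomm hh) hψ
    refine ⟨k, ?_⟩
    have : (c h) ^ 2 ^ k = g⁻¹ * h ^ 2 ^ k * g := by
      have := conj_pow (a := g⁻¹) (b := h) (i := 2 ^ k)
      simpa [c] using this
    rw [this] at hk
    have e := congrArg (fun w => g * w * g⁻¹) hk
    simpa [mul_assoc] using e

/-! ### Lines through `z` -/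

section Lines

variable [Finite L]

theorem psi_z : ψ z = 1 := by
  have hT : T.Nonempty := Set.nonempty_of_ncard_ne_zero (by rw [S.graph.card]; norm_num)
  obtain ⟨t, ht⟩ := hT
  obtain ⟨x, hx, rfl⟩ := Set.nonempty_of_ncard_ne_zero
    (show {x | x ∈ Xa D z ∧ ψ x = t}.ncard ≠ 0 by rw [S.fibre t ht]; norm_num)
  have h1 : ψ 1 = 1 := by
    have := S.hom 1 1 (Commute.one_left z) (Commute.one_left z)
    rw [mul_one] at this
    exact mul_eq_left.1 this.symm
  obtain ⟨h₁, h₂, h₃, h₄, e1, e2, e3, e4, e5, e6, m1, m2, m3, m4⟩ :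
      ∃ a b c d, a ≠ b ∧ a ≠ c ∧ a ≠ d ∧ b ≠ c ∧ b ≠ d ∧ c ≠ d ∧
        a ∈ {y | y ∈ Xa D z ∧ ψ y = ψ x} ∧ b ∈ {y | y ∈ Xa D z ∧ ψ y = ψ x} ∧
        c ∈ {y | y ∈ Xa D z ∧ ψ y = ψ x} ∧ d ∈ {y | y ∈ Xa D z ∧ ψ y = ψ x} := by
    obtain ⟨a, b, c, d, n1, n2, n3, n4, n5, n6, e⟩ := Set.ncard_eq_four.1 (S.fibre _ ht)
    exact ⟨a, b, c, d, n1, n2, n3, n4, n5, n6, by simp [e], by simp [e], by simp [e], by simp [e]⟩
  have hp := S.four _ m1.1 _ m2.1 _ m3.1 _ m4.1 e1 e2 e3 e4 e5 e6 (m1.2.trans m2.2.symm)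
    (m1.2.trans m3.2.symm) (m1.2.trans m4.2.symm)
  have c12 := m1.1.2.1.mul_left m2.1.2.1
  have c123 := c12.mul_left m3.1.2.1
  rw [← hp, S.hom _ _ c123 m4.1.2.1, S.hom _ _ c12 m3.1.2.1, S.hom _ _ m1.1.2.1 m2.1.2.1,
    m1.2, m2.2, m3.2, m4.2, S.graph.inv _ ht, one_mul, S.graph.inv _ ht]

theorem four_members {x : L} (hx : x ∈ Xa D z) :
    ∃ a b c, a ∈ Xa D z ∧ b ∈ Xa D z ∧ c ∈ Xa D z ∧ ψ a = ψ x ∧ ψ b = ψ x ∧ ψ c = ψ x ∧
      x ≠ a ∧ x ≠ b ∧ x ≠ c ∧ a ≠ b ∧ a ≠ c ∧ b ≠ c ∧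
      {y | y ∈ Xa D z ∧ ψ y = ψ x} = {x, a, b, c} ∧ x * a * b * c = z := by
  have h4 := S.fibre _ (S.img x hx)
  have hxm : x ∈ {y | y ∈ Xa D z ∧ ψ y = ψ x} := ⟨hx, rfl⟩
  have h3 : ({y | y ∈ Xa D z ∧ ψ y = ψ x} \ {x}).ncard = 3 := by
    rw [Set.ncard_sdiff_singleton_of_mem hxm, h4]
  obtain ⟨a, b, c, n1, n2, n3, e⟩ := Set.ncard_eq_three.1 h3
  have hm : ∀ w ∈ ({a, b, c} : Set L), (w ∈ Xa D z ∧ ψ w = ψ x) ∧ w ≠ x := fun w hw => by
    rw [← e] at hw; exact hw
  obtain ⟨⟨ha, hae⟩, hax⟩ := hm a (by simp)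
  obtain ⟨⟨hb, hbe⟩, hbx⟩ := hm b (by simp)
  obtain ⟨⟨hc, hce⟩, hcx⟩ := hm c (by simp)
  refine ⟨a, b, c, ha, hb, hc, hae, hbe, hce, hax.symm, hbx.symm, hcx.symm, n1, n2, n3, ?_,
    S.four x hx a ha b hb c hc hax.symm hbx.symm hcx.symm n1 n2 n3 hae.symm hbe.symm hce.symm⟩
  rw [← Set.insert_sdiff_self_of_mem hxm, e]

theorem same_iff {x y : L} (hx : x ∈ Xa D z) (hy : y ∈ Xa D z) : Same D z x y ↔ ψ x = ψ y := by
  constructor
  · intro h
    by_contra hne
    have hc : Commute (ψ y) (ψ x) := by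
      rw [← S.comm y hy x hx]
      exact (h y hy.1 hy.2.1).2 (Commute.refl y)
    obtain ⟨u, hu, h1, h2⟩ := S.graph.sep _ (S.img x hx) _ (S.img y hy) hne hc.symm
    obtain ⟨g, hg, rfl⟩ := Set.nonempty_of_ncard_ne_zero
      (show {g | g ∈ Xa D z ∧ ψ g = u}.ncard ≠ 0 by rw [S.fibre u hu]; norm_num)
    exact h2 ((S.comm g hg y hy).1 ((h g hg.1 hg.2.1).1 ((S.comm g hg x hx).2 h1)))
  · intro h g hg hgz
    by_cases e : g = z
    · subst e; exact iff_of_true hx.2.1.symm hy.2.1.symm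
    · rw [S.comm g ⟨hg, hgz, e⟩ x hx, S.comm g ⟨hg, hgz, e⟩ y hy, h]

theorem comm_same {x y : L} (hx : x ∈ Xa D z) (hy : y ∈ Xa D z) (h : ψ x = ψ y) : Commute x y := by
  rw [S.comm x hx y hy, h]

/-- Lines are symmetric. -/
theorem line_symm {x y : L} (hx : x ∈ Xa D z) (hy : y ∈ Xa D z) (hxy : x ≠ y) (h : Same D z x y) :
    Same D x z y := by
  obtain ⟨ψ', S'⟩ := move S hx.1
  rw [same_iff S hx hy] at h
  obtain ⟨a, b, c, ha, hb, hc, hae, hbe, hce, na, nb, nc, nab, nac, nbc, hset, hprod⟩ := four_members S hx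
  have hy' : y = a ∨ y = b ∨ y = c := by
    have : y ∈ ({x, a, b, c} : Set L) := by rw [← hset]; exact ⟨hy, h.symm⟩
    simpa [Ne.symm hxy] using this
  have hzX : z ∈ Xa D x := ⟨z_mem S, hx.2.1.symm, hx.2.2.symm⟩
  have haX : a ∈ Xa D x := ⟨ha.1, comm_same S ha hx hae, na.symm⟩
  have hbX : b ∈ Xa D x := ⟨hb.1, comm_same S hb hx hbe, nb.symm⟩
  have hcX : c ∈ Xa D x := ⟨hc.1, comm_same S hc hx hce, nc.symm⟩
  have cab := comm_same S ha hb (hae.trans hbe.symm)
  have cac := comm_same S ha hc (hae.trans hce.symm)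
  have cbc := comm_same S hb hc (hbe.trans hce.symm)
  have e0 : z * a * b * c = x := by
    have hz' : z = x * (a * b * c) := by rw [← hprod]; group
    have habc : a * b * c * (a * b * c) = 1 := by
      have hab : Commute c (a * b) := cac.symm.mul_right cbc.symm
      calc a * b * c * (a * b * c) = a * b * (c * (a * b)) * c := by group
        _ = a * b * (a * b) * (c * c) := by rw [hab.eq]; group
        _ = a * (b * a) * b := by rw [(mem_sq S hc.1).1, mul_one]; group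
        _ = a * a * (b * b) := by rw [← cab.eq]; group
        _ = 1 := by rw [(mem_sq S ha.1).1, (mem_sq S hb.1).1, one_mul]
    calc z * a * b * c = x * (a * b * c * (a * b * c)) := by rw [hz']; group
      _ = x := by rw [habc, mul_one]
  have hima := S'.img a haX
  have himb := S'.img b hbX
  have himc := S'.img c hcX
  have himz := S'.img z hzX
  have c1 : Commute (ψ' z) (ψ' a) := (S'.comm z hzX a haX).1 ha.2.1.symm
  have c2 : Commute (ψ' b) (ψ' c) := (S'.comm b hbX c hcX).1 cbc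
  have hmul : ψ' z * ψ' a = ψ' b * ψ' c := by
    have e : ψ' x = ψ' (z * a) * ψ' (b * c) := by
      rw [← S'.hom _ _ (hzX.2.1.mul_left haX.2.1) (hbX.2.1.mul_left hcX.2.1), ← e0]
      group
    rw [psi_z S', S'.hom _ _ hzX.2.1 haX.2.1, S'.hom _ _ hbX.2.1 hcX.2.1] at e
    calc ψ' z * ψ' a = ψ' z * ψ' a * (ψ' b * ψ' c * (ψ' b * ψ' c)) := by
          rw [show ψ' b * ψ' c * (ψ' b * ψ' c) = ψ' b * (ψ' c * ψ' b) * ψ' c by group, ← c2.eq,
            show ψ' b * (ψ' b * ψ' c) * ψ' c = ψ' b * ψ' b * (ψ' c * ψ' c) by group,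
            S'.graph.inv _ himb, S'.graph.inv _ himc, one_mul, mul_one]
      _ = ψ' z * ψ' a * (ψ' b * ψ' c) * (ψ' b * ψ' c) := by rw [mul_assoc (ψ' z * ψ' a)]
      _ = ψ' b * ψ' c := by rw [← e, one_mul]
  have hall : ψ' z = ψ' a ∧ ψ' z = ψ' b ∧ ψ' z = ψ' c := by
    by_cases h1 : ψ' z = ψ' a
    · have h2 : ψ' b = ψ' c := by
        rw [h1, S'.graph.inv _ hima] at hmul
        have := (mul_eq_one_iff_inv_eq).1 hmul.symm
        rw [← this]
        exact (inv_eq_of_mul_eq_one_right (S'.graph.inv _ himb)).symm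
      have h3 : z * a = x * (b * c) := by
        have hbc2 : b * c * (b * c) = 1 := by
          rw [show b * c * (b * c) = b * (c * b) * c by group, ← cbc.eq,
            show b * (b * c) * c = b * b * (c * c) by group, (mem_sq S hb.1).1, (mem_sq S hc.1).1,
            mul_one]
        calc z * a = z * a * b * c * (b * c) := by
              rw [mul_assoc (z * a) b c, mul_assoc (z * a), hbc2, mul_one]
          _ = x * (b * c) := by rw [e0]
      have h4 := S'.sepQ z hzX a haX b hbX c hcX h1 h2 ha.2.2.symm nbc (Or.inr h3)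
      exact ⟨h1, h4, h4.trans h2⟩
    · by_cases h2 : ψ' b = ψ' c
      · exfalso
        rw [h2, S'.graph.inv _ himc] at hmul
        have := (mul_eq_one_iff_inv_eq).1 hmul
        exact h1 ((inv_eq_of_mul_eq_one_right (S'.graph.inv _ himz)).symm.trans this)
      · exfalso
        rcases S'.graph.pair _ himz _ hima _ himb _ himc h1 h2 c1 c2 hmul with ⟨p, q⟩ | ⟨p, q⟩
        · have h3 : z * b = x * (a * c) := by
            have hac2 : a * c * (a * c) = 1 := by
              rw [show a * c * (a * c) = a * (c * a) * c by group, ← cac.eq,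
                show a * (a * c) * c = a * a * (c * c) by group, (mem_sq S ha.1).1, (mem_sq S hc.1).1,
                mul_one]
            calc z * b = z * b * (a * c * (a * c)) := by rw [hac2, mul_one]
              _ = z * (b * a) * c * (a * c) := by group
              _ = z * a * b * c * (a * c) := by rw [← cab.eq]; group
              _ = x * (a * c) := by rw [e0]
          exact h1 (S'.sepQ z hzX b hbX a haX c hcX p q hb.2.2.symm nac (Or.inr h3))
        · have h3 : z * c = x * (a * b) := by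
            have hab2 : a * b * (a * b) = 1 := by
              rw [show a * b * (a * b) = a * (b * a) * b by group, ← cab.eq,
                show a * (a * b) * b = a * a * (b * b) by group, (mem_sq S ha.1).1, (mem_sq S hb.1).1,
                mul_one]
            calc z * c = z * c * (a * b * (a * b)) := by rw [hab2, mul_one]
              _ = z * (c * (a * b)) * (a * b) := by group
              _ = z * a * b * c * (a * b) := by rw [(cac.symm.mul_right cbc.symm).eq]; group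
              _ = x * (a * b) := by rw [e0]
          exact h1 (S'.sepQ z hzX c hcX a haX b hbX p q hc.2.2.symm nab (Or.inr h3))
  have hyX : y ∈ Xa D x := by
    rcases hy' with rfl | rfl | rfl <;> assumption
  rw [same_iff S' hzX hyX]
  rcases hy' with rfl | rfl | rfl
  · exact hall.1
  · exact hall.2.1
  · exact hall.2.2

/-- An element commuting with two members of a line commutes with `z`. -/
theorem comm_base {x y g : L} (hx : x ∈ Xa D z) (hy : y ∈ Xa D z) (hxy : x ≠ y) (h : ψ x = ψ y)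
    (hg : g ∈ D) (h1 : Commute g x) (h2 : Commute g y) : Commute g z :=
  (line_symm S hx hy hxy ((same_iff S hx hy).2 h) g hg h1).2 h2

end Lines

end Cfsg.Agent.U62RecogSetup19
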