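import Mathlib
import Cfsg.Agent.Lib.LFU62Defs19
import Cfsg.Agent.Lib.LFU62PerpData19
import Cfsg.Agent.Lib.U62RecogSetup19

/-!
The centralizer of `z` and of the four group: transitivity on the conjugates of `z` alone in their
coset, their commutation, and generation.
-/

set_option autoImplicit false
set_option linter.unusedSectionVars false
set_option linter.style.haveILetI false
set_option maxHeartbeats 800000

namespace Cfsg.Agent.LFU62Local19

open Cfsg Subgroup Cfsg.Agent.U62Mon93 Cfsg.Agent.U62Existence93 Cfsg.Agent.LFForm89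
open Cfsg.Agent.LFModel89 Cfsg.Agent.LFSetting89 Cfsg.Agent.LFSylow89 Cfsg.Agent.LFSmallStab18
open Cfsg.Agent.LFMat89 Cfsg.Agent.LFElem89 Cfsg.Agent.LFBound89 Cfsg.Agent.LFOrbitA89
open Cfsg.Agent.LFU62Defs19

universe u

variable {G : Type u} [Group G] [Finite G] {z : G} {Q : Subgroup (centralizer ({z} : Set G))}
  [Q.Normal] {V : Type u} [AddCommGroup V] {zc : centralizer ({z} : Set G)}
  {π : centralizer ({z} : Set G) → V} {ρ : centralizer ({z} : Set G) ⧸ Q →* AddMonoid.End V}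
  {q : V → ZMod 2} {n : centralizer ({z} : Set G) ⧸ Q}
  {Mb : Subgroup (centralizer ({z} : Set G) ⧸ Q)}
  {F : Type} [Field F] [Fintype F] {s : F} {h : S4 s} {ν : (Fin 6 → F) → V}
  {Φ : K0 h →* centralizer ({z} : Set G) ⧸ Q}

/-- The perpendicular of the line. -/
def PerpV (q : V → ZMod 2) (s : F) (ν : (Fin 6 → F) → V) : Set V :=
  {v | pol q v (nc s ν 5) = 0 ∧ pol q v (nc s ν 10) = 0}

/-- The elements of the centralizer of `z` centralising `E`. -/
abbrev CH (E : Subgroup (centralizer ({z} : Set G))) : Subgroup (centralizer ({z} : Set G)) :=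
  centralizer (E : Set (centralizer ({z} : Set G)))

/-- The facts about the stabiliser of the vector. -/
structure StabFacts (Q : Subgroup (centralizer ({z} : Set G))) [Q.Normal]
    (ρ : centralizer ({z} : Set G) ⧸ Q →* AddMonoid.End V) (q : V → ZMod 2)
    (ν : (Fin 6 → F) → V) (Mb : Subgroup (centralizer ({z} : Set G) ⧸ Q)) (h : S4 s)
    (Φ : K0 h →* centralizer ({z} : Set G) ⧸ Q) : Prop where
  conj_tauE : ∀ x ∈ Mb, x * x = 1 → x ≠ 1 → ∃ g ∈ Mb, g * x * g⁻¹ = tauE h Φ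
  card : Nat.card (St ρ s ν Mb) = 25920
  mem_St : ∀ g, op ρ g (nc s ν 5) = nc s ν 5 → op ρ g (nc s ν 10) = nc s ν 10 → g ∈ St ρ s ν Mb
  graph : U62RecogSetup19.TGraph (TT ρ ν Mb h Φ)
  gen : Subgroup.closure (TT ρ ν Mb h Φ) = St ρ s ν Mb
  mem_TT : ∀ x ∈ St ρ s ν Mb, x * x = 1 → x ≠ 1 → nc s ν 5 ∈ (ee ρ x).range →
    nc s ν 10 ∈ (ee ρ x).range → x ∈ TT ρ ν Mb h Φ
  five_conj : ∀ k ∈ five, ∃ g ∈ St ρ s ν Mb, g * tauE h Φ * g⁻¹ = tau h Φ k
  five_near : ∀ t ∈ TT ρ ν Mb h Φ, t * tauE h Φ = tauE h Φ * t →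
    ∃ g ∈ St ρ s ν Mb, g * tauE h Φ * g⁻¹ = tauE h Φ ∧ ∃ k ∈ five, g * t * g⁻¹ = tau h Φ k
  meet : ∀ t ∈ TT ρ ν Mb h Φ, t ≠ tauE h Φ → ∀ v, v ∈ (ee ρ (tauE h Φ)).range → v ∈ (ee ρ t).range →
    v ∈ LineV s ν
  perp_sub : ∀ t ∈ TT ρ ν Mb h Φ, ∀ v ∈ (ee ρ t).range, v ∈ PerpV q s ν
  perp_gen : PerpV q s ν ⊆ (AddSubgroup.closure
    (LineV s ν ∪ {v | ∃ t ∈ TT ρ ν Mb h Φ, v ∈ (ee ρ t).range}) : Set V)

/-- The facts from the coordinates of the large elementary abelian subgroup. -/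
structure CoordFacts (D : Data z Q zc π ρ q n Mb) (C : Coord h ρ q n Mb ν Φ)
    (E : Subgroup (centralizer ({z} : Set G))) : Prop where
  isE : IsE (Q := Q) π s ν zc E
  ea : EA E
  le_AA : E ≤ AA D C
  RR : ∀ e ∈ E, e ≠ 1 → ¬ IsConj z (e : G)
  not_Q : ∀ x ∈ DH z E, x ≠ zc → x ∉ Q
  t_AA : ∀ k ∈ five, ∀ x : centralizer ({z} : Set G), x * x = 1 → QuotientGroup.mk' Q x = tau h Φ k →
    ¬ IsConj z (x : G) → x ∈ AA D C
  t_diff : ∀ x y : centralizer ({z} : Set G), x * x = 1 → y * y = 1 →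
    QuotientGroup.mk' Q x = tauE h Φ → QuotientGroup.mk' Q y = tauE h Φ →
    ¬ IsConj z (x : G) → ¬ IsConj z (y : G) → π (x * y) ∈ (ee ρ (tauE h Φ)).range
  count : ∀ k ∈ five, {x | x ∈ DH z E ∧ QuotientGroup.mk' Q x = tau h Φ k}.ncard = 4
  four : ∀ a b c d : centralizer ({z} : Set G), a ∈ DH z E → b ∈ DH z E → c ∈ DH z E → d ∈ DH z E →
    a ≠ b → a ≠ c → a ≠ d → b ≠ c → b ≠ d → c ≠ d → QuotientGroup.mk' Q a = tauE h Φ →
    QuotientGroup.mk' Q b = tauE h Φ → QuotientGroup.mk' Q c = tauE h Φ →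
    QuotientGroup.mk' Q d = tauE h Φ → a * b * c * d * zc ∈ E
  diff : ∀ x y : centralizer ({z} : Set G), x ∈ DH z E → y ∈ DH z E → x ≠ y →
    QuotientGroup.mk' Q x = tauE h Φ → QuotientGroup.mk' Q y = tauE h Φ →
    π (x * y) ∈ (ee ρ (tauE h Φ)).range ∧ π (x * y) ∉ LineV s ν
  gen : E ≤ Subgroup.closure (DH z E)
  move : ∃ g : G, (∀ e ∈ E, g * (e : G) = (e : G) * g) ∧ ∃ x ∈ DH z E, x ≠ zc ∧ g * z * g⁻¹ = (x : G)
  zc_DH : zc ∈ DH z E

section

variable (D : Data z Q zc π ρ q n Mb) (C : Coord h ρ q n Mb ν Φ)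
  {E : Subgroup (centralizer ({z} : Set G))}
  (S : StabFacts Q ρ q ν Mb h Φ) (K : CoordFacts D C E)
include D C S K

theorem mem_CH {c : centralizer ({z} : Set G)} : c ∈ CH E ↔ ∀ e ∈ E, c * e * c⁻¹ = e := by
  refine ⟨fun hc e he => mul_inv_eq_iff_eq_mul.2 (Subgroup.mem_centralizer_iff.1 hc e he).symm,
    fun hc => Subgroup.mem_centralizer_iff.2 fun e he => (mul_inv_eq_iff_eq_mul.1 (hc e he)).symm⟩

theorem e_sq {e : centralizer ({z} : Set G)} (he : e ∈ E) : e * e = 1 := K.ea.1 e he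

theorem line_mem {c : ℕ} (hc : c ∈ lineC) : ∃ e ∈ E, π e = nc s ν c := by
  have : nc s ν c ∈ π '' (E : Set (centralizer ({z} : Set G))) := K.isE.img ▸ ⟨c, hc, rfl⟩
  exact this

theorem pi_E {e : centralizer ({z} : Set G)} (he : e ∈ E) : π e ∈ LineV s ν :=
  K.isE.img ▸ ⟨e, he, rfl⟩

theorem nc_xor (a b : ℕ) : nc s ν (Nat.xor a b) = nc s ν a + nc s ν b := by
  rw [nc, nc, nc, vec_xor h, C.add]

theorem pol_nc (a b : ℕ) :
    pol q (nc s ν a) (nc s ν b) = if LFU62PerpData19.pb a b then 1 else 0 := by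
  unfold pol LFU62PerpData19.pb
  rw [← nc_xor D C S K, q_nc (hyp D) C, q_nc (hyp D) C, q_nc (hyp D) C]
  cases LFCheck89.qpar (Nat.xor a b) <;> cases LFCheck89.qpar a <;> cases LFCheck89.qpar b <;> simp <;>
    decide

theorem perp_iff {c : ℕ} : nc s ν c ∈ PerpV q s ν ↔ LFU62PerpData19.inPerp c = true := by
  show pol q _ _ = 0 ∧ pol q _ _ = 0 ↔ _
  rw [pol_nc D C S K, pol_nc D C S K, LFU62PerpData19.inPerp]
  cases LFU62PerpData19.pb c 5 <;> cases LFU62PerpData19.pb c 10 <;> simp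

theorem line_add {a b : V} (ha : a ∈ LineV s ν) (hb : b ∈ LineV s ν) : a + b ∈ LineV s ν := by
  obtain ⟨i, hi, rfl⟩ := ha
  obtain ⟨j, hj, rfl⟩ := hb
  refine ⟨Nat.xor i j, ?_, (nc_xor D C S K i j).symm⟩
  have : ∀ i ∈ lineC, ∀ j ∈ lineC, Nat.xor i j ∈ lineC := by decide +kernel
  exact this i hi j hj

theorem zero_line : (0 : V) ∈ LineV s ν := ⟨0, by decide, (nc_zero (hyp D) C).symm⟩

theorem pol_line {v w : V} (hv : v ∈ PerpV q s ν) (hw : w ∈ LineV s ν) : pol q v w = 0 := by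
  obtain ⟨c, hc, rfl⟩ := hw
  simp only [lineC, List.mem_cons, List.not_mem_nil, or_false] at hc
  rcases hc with rfl | rfl | rfl | rfl
  · rw [nc_zero (hyp D) C, (hyp D).fx.pol_zero_right]
  · exact hv.1
  · exact hv.2
  · rw [show (15 : ℕ) = Nat.xor 5 10 from rfl, nc_xor D C S K, (hyp D).fx.addr, hv.1, hv.2, add_zero]

/-- The elements of `Q` centralising `E` are those over the perpendicular. -/
theorem Q_CH {x : centralizer ({z} : Set G)} (hx : x ∈ Q) : x ∈ CH E ↔ π x ∈ PerpV q s ν := by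
  constructor
  · intro hc
    have key : ∀ c ∈ lineC, pol q (π x) (nc s ν c) = 0 := fun c hc' => by
      obtain ⟨e, he, hπ⟩ := line_mem D C S K hc'
      rw [← hπ, ← comm_iff D hx (K.isE.le he)]
      exact (Subgroup.mem_centralizer_iff.1 hc e he).symm
    exact ⟨key 5 (by decide), key 10 (by decide)⟩
  · intro hv
    refine Subgroup.mem_centralizer_iff.2 fun e he => Eq.symm ?_
    rw [comm_iff D hx (K.isE.le he)]
    exact pol_line D C S K hv (pi_E D C S K he)

theorem DH_spec {x : centralizer ({z} : Set G)} (hx : x ∈ DH z E) :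
    x ∈ CH E ∧ x * x = 1 ∧ x ≠ 1 := by
  obtain ⟨h1, h2, -⟩ := hx
  refine ⟨Subgroup.mem_centralizer_iff.2 fun e he => (h1 e he).symm, ?_, ?_⟩
  · obtain ⟨g, hg⟩ := isConj_iff.1 h2
    refine Subtype.ext ?_
    rw [Subgroup.coe_mul, ← hg, show g * z * g⁻¹ * (g * z * g⁻¹) = g * (z * z) * g⁻¹ by group,
      (lhyp D).zz]
    simp
  · intro e
    rw [e] at h2
    exact (lhyp D).ne_one (isConj_one_left.1 h2)

theorem DH_inj {x y : centralizer ({z} : Set G)} (hx : x ∈ DH z E) (hy : y ∈ DH z E) (h : x⁻¹ * y ∈ E) :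
    x = y := by
  by_contra hne
  refine hx.2.2 _ h (fun e => hne (inv_mul_eq_one.1 e)) ?_
  rw [mul_inv_cancel_left]
  exact hy.2.1

theorem DH_conj {c x : centralizer ({z} : Set G)} (hc : c ∈ CH E) (hx : x ∈ DH z E) :
    c * x * c⁻¹ ∈ DH z E := by
  have hce := (mem_CH D C S K).1 hc
  have hiff : ∀ w : centralizer ({z} : Set G),
      IsConj z ((c * w * c⁻¹ : centralizer ({z} : Set G)) : G) ↔ IsConj z (w : G) := fun w => by
    have e : IsConj (w : G) ((c * w * c⁻¹ : centralizer ({z} : Set G)) : G) := isConj_iff.2 ⟨c, rfl⟩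
    exact ⟨fun h' => h'.trans e.symm, fun h' => h'.trans e⟩
  refine ⟨fun e he => ?_, (hiff x).2 hx.2.1, fun e he he1 hcon => ?_⟩
  · conv_lhs => rw [← hce e he]
    conv_rhs => rw [← hce e he]
    rw [show c * x * c⁻¹ * (c * e * c⁻¹) = c * (x * e) * c⁻¹ by group, hx.1 e he]
    group
  · refine hx.2.2 e he he1 ((hiff _).1 ?_)
    rwa [show c * (x * e) * c⁻¹ = c * x * c⁻¹ * (c * e * c⁻¹) by group, hce e he]

theorem mem_range_conj {g x : centralizer ({z} : Set G) ⧸ Q} {v : V} (hv : v ∈ (ee ρ x).range) :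
    op ρ g v ∈ (ee ρ (g * x * g⁻¹)).range := by
  obtain ⟨w, rfl⟩ := hv
  refine ⟨op ρ g w, ?_⟩
  rw [ee_apply, ee_apply, map_add, ← rho_mul, ← rho_mul, inv_mul_cancel_right]

theorem op_line {g : centralizer ({z} : Set G) ⧸ Q} (hg : g ∈ St ρ s ν Mb) {v : V}
    (hv : v ∈ LineV s ν) : op ρ g v = v := by
  have h5 : op ρ g (nc s ν 5) = nc s ν 5 := hg.2
  have h10 : op ρ g (nc s ν 10) = nc s ν 10 := by
    have e : nc s ν 10 = op ρ n (nc s ν 5) := by
      rw [nc, nc, C.scalar, ← vec_scal h (by norm_num : 5 < 4096)]; rfl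
    rw [e, ← rho_mul, D.comm_n g hg.1, rho_mul, h5]
  obtain ⟨c, hc, rfl⟩ := hv
  simp only [lineC, List.mem_cons, List.not_mem_nil, or_false] at hc
  rcases hc with rfl | rfl | rfl | rfl
  · rw [nc_zero (hyp D) C, map_zero]
  · exact h5
  · exact h10
  · rw [show (15 : ℕ) = Nat.xor 5 10 from rfl, nc_xor D C S K, map_add, h5, h10]

theorem CH_img {c : centralizer ({z} : Set G)} (hc : c ∈ CH E) :
    QuotientGroup.mk' Q c ∈ St ρ s ν Mb := by
  have key : ∀ d ∈ lineC, op ρ (QuotientGroup.mk' Q c) (nc s ν d) = nc s ν d := fun d hd => by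
    obtain ⟨e, he, hπ⟩ := line_mem D C S K hd
    rw [← hπ, ← LFElem89.act D c (K.isE.le he), (mem_CH D C S K).1 hc e he]
  exact S.mem_St _ (key 5 (by decide)) (key 10 (by decide))

/-- Elements of the stabiliser lift to the centralizer of `E`. -/
theorem exists_lift {g : centralizer ({z} : Set G) ⧸ Q} (hg : g ∈ St ρ s ν Mb) :
    ∃ c ∈ CH E, QuotientGroup.mk' Q c = g := by
  classical
  obtain ⟨c, rfl⟩ := QuotientGroup.mk'_surjective Q g
  have hcase : ∀ e ∈ E, c * e * c⁻¹ = e ∨ c * e * c⁻¹ = e * zc := fun e he => by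
    refine pi_eq D (K.isE.le he) ((inferInstance : Q.Normal).conj_mem e (K.isE.le he) c) ?_
    rw [LFElem89.act D c (K.isE.le he), op_line D C S K hg (pi_E D C S K he)]
  obtain ⟨e1, he1, h5⟩ := line_mem D C S K (c := 5) (by decide)
  obtain ⟨e2, he2, h10⟩ := line_mem D C S K (c := 10) (by decide)
  have hgen : ∀ e ∈ E, e = 1 ∨ e = e1 ∨ e = e2 ∨ e = e1 * e2 := by
    intro e he
    have hinj : ∀ a ∈ E, ∀ b ∈ E, π a = π b → a = b := fun a ha b hb hab => by
      rcases pi_eq D (K.isE.le ha) (K.isE.le hb) hab with e' | e'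
      · exact e'.symm
      · refine absurd ?_ K.isE.zc_notMem
        rw [show zc = a⁻¹ * b by rw [e']; group]
        exact mul_mem (inv_mem ha) hb
    obtain ⟨d, hd, hde⟩ := pi_E D C S K he
    simp only [lineC, List.mem_cons, List.not_mem_nil, or_false] at hd
    rcases hd with rfl | rfl | rfl | rfl
    · exact Or.inl (hinj e he 1 (one_mem _) (by rw [hde, nc_zero (hyp D) C, LFElem89.pi_one D]))
    · exact Or.inr (Or.inl (hinj e he e1 he1 (hde.trans h5.symm)))
    · exact Or.inr (Or.inr (Or.inl (hinj e he e2 he2 (hde.trans h10.symm))))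
    · exact Or.inr (Or.inr (Or.inr (hinj e he _ (mul_mem he1 he2) (by
        rw [hde, D.link.add _ (K.isE.le he1) _ (K.isE.le he2), h5, h10, ← nc_xor D C S K]; rfl))))
  -- which signs an element of `Q` realises
  have hzconj : ∀ x : centralizer ({z} : Set G), x * zc * x⁻¹ = zc := fun x => by
    rw [D.zc_central x, mul_inv_cancel_right]
  have sgn : ∀ p ∈ Q, ∀ a ∈ Q, p * a * p⁻¹ = a ∨ p * a * p⁻¹ = a * zc := fun p hp a ha => by
    refine pi_eq D ha ((inferInstance : Q.Normal).conj_mem a ha p) ?_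
    rw [LFElem89.act D p ha, LFOrbitA89.mk_Q D C hp, rho_one]
  let R : centralizer ({z} : Set G) → Bool → Bool → Prop := fun p a b =>
    p * e1 * p⁻¹ = (bif a then e1 * zc else e1) ∧ p * e2 * p⁻¹ = (bif b then e2 * zc else e2)
  have hz2 : zc * zc = 1 := D.ext.zz
  have Rmul : ∀ p p' a b a' b', R p a b → R p' a' b' → R (p * p') (xor a a') (xor b b') := by
    intro p p' a b a' b' hp hp'
    have step : ∀ (e : centralizer ({z} : Set G)) (a a' : Bool),
        p * e * p⁻¹ = (bif a then e * zc else e) → p' * e * p'⁻¹ = (bif a' then e * zc else e) →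
          p * p' * e * (p * p')⁻¹ = (bif xor a a' then e * zc else e) := by
      intro e a a' hpe hpe'
      rw [show p * p' * e * (p * p')⁻¹ = p * (p' * e * p'⁻¹) * p⁻¹ by group, hpe']
      cases a' <;> cases a <;> simp only [cond_true, cond_false, Bool.xor_false, Bool.xor_true,
        Bool.not_false, Bool.not_true] at hpe ⊢ <;>
        try rw [show p * (e * zc) * p⁻¹ = p * e * p⁻¹ * (p * zc * p⁻¹) by group, hzconj p, hpe]
      · exact hpe
      · exact hpe
      · rw [mul_assoc, hz2, mul_one]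
    exact ⟨step e1 a a' hp.1 hp'.1, step e2 b b' hp.2 hp'.2⟩
  have exR : ∀ a b : Bool, ∃ p ∈ Q, R p a b := by
    have part : ∀ e ∈ E, e ≠ 1 → ∃ p ∈ Q, p * e * p⁻¹ ≠ e := fun e he h1 => by
      obtain ⟨p, hp, hpe⟩ := D.ext.partner e (K.isE.le he) h1 fun e' => K.isE.zc_notMem (e' ▸ he)
      exact ⟨p, hp, fun e' => D.ext.z_mul_ne e (hpe.symm.trans e')⟩
    have hR : ∀ p ∈ Q, ∃ a b, R p a b := fun p hp => by
      rcases sgn p hp e1 (K.isE.le he1) with a | a <;> rcases sgn p hp e2 (K.isE.le he2) with b | b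
      exacts [⟨false, false, a, b⟩, ⟨false, true, a, b⟩, ⟨true, false, a, b⟩, ⟨true, true, a, b⟩]
    have n1 : e1 ≠ 1 := fun e => by
      rw [e, LFElem89.pi_one D, ← nc_zero (hyp D) C] at h5
      exact absurd (nc_inj (hyp D) C (by norm_num) (by norm_num) h5) (by norm_num)
    have n2 : e2 ≠ 1 := fun e => by
      rw [e, LFElem89.pi_one D, ← nc_zero (hyp D) C] at h10
      exact absurd (nc_inj (hyp D) C (by norm_num) (by norm_num) h10) (by norm_num)
    have n3 : e1 * e2 ≠ 1 := fun e => by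
      have hcc : nc s ν 15 = nc s ν 0 := by
        rw [show (15 : ℕ) = Nat.xor 5 10 from rfl, nc_xor D C S K, ← h5, ← h10,
          ← D.link.add _ (K.isE.le he1) _ (K.isE.le he2), e, LFElem89.pi_one D, nc_zero (hyp D) C]
      exact absurd (nc_inj (hyp D) C (by norm_num) (by norm_num) hcc) (by norm_num)
    obtain ⟨p1, hp1, m1⟩ := part e1 he1 n1
    obtain ⟨p2, hp2, m2⟩ := part e2 he2 n2
    obtain ⟨p3, hp3, m3⟩ := part _ (mul_mem he1 he2) n3
    obtain ⟨a1, b1, r1⟩ := hR p1 hp1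
    obtain ⟨a2, b2, r2⟩ := hR p2 hp2
    obtain ⟨a3, b3, r3⟩ := hR p3 hp3
    have ha1 : a1 = true := by
      cases a1
      · exact absurd r1.1 m1
      · rfl
    have hb2 : b2 = true := by
      cases b2
      · exact absurd r2.2 m2
      · rfl
    have hab3 : xor a3 b3 = true := by
      obtain ⟨ra, rb⟩ := r3
      have e' : p3 * (e1 * e2) * p3⁻¹ = p3 * e1 * p3⁻¹ * (p3 * e2 * p3⁻¹) := by group
      cases a3 <;> cases b3 <;> simp only [cond_true, cond_false] at ra rb <;> try rfl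
      · exact absurd (by rw [e', ra, rb]) m3
      · refine absurd ?_ m3
        rw [e', ra, rb, show e1 * zc * (e2 * zc) = e1 * (zc * e2) * zc by group, ← D.zc_central e2,
          show e1 * (e2 * zc) * zc = e1 * e2 * (zc * zc) by group, hz2, mul_one]
    subst ha1; subst hb2
    intro a b
    have m12 := Rmul _ _ _ _ _ _ r1 r2
    have m13 := Rmul _ _ _ _ _ _ r1 r3
    cases a <;> cases b
    · exact ⟨1, one_mem _, by simp [R]⟩
    all_goals cases b1 <;> cases a2 <;> cases a3 <;> cases b3 <;>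
      first
        | (exact absurd hab3 (by decide))
        | exact ⟨p1, hp1, r1⟩
        | exact ⟨p2, hp2, r2⟩
        | exact ⟨p3, hp3, r3⟩
        | exact ⟨_, mul_mem hp1 hp2, m12⟩
        | exact ⟨_, mul_mem hp1 hp3, m13⟩
  obtain ⟨a, hca⟩ : ∃ a : Bool, c * e1 * c⁻¹ = bif a then e1 * zc else e1 := by
    rcases hcase e1 he1 with e | e
    exacts [⟨false, e⟩, ⟨true, e⟩]
  obtain ⟨b, hcb⟩ : ∃ b : Bool, c * e2 * c⁻¹ = bif b then e2 * zc else e2 := by
    rcases hcase e2 he2 with e | e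
    exacts [⟨false, e⟩, ⟨true, e⟩]
  obtain ⟨p, hp, hpa, hpb⟩ := exR a b
  refine ⟨p * c, (mem_CH D C S K).2 ?_, by rw [map_mul, LFOrbitA89.mk_Q D C hp, one_mul]⟩
  have step : ∀ e (a : Bool), c * e * c⁻¹ = (bif a then e * zc else e) →
      p * e * p⁻¹ = (bif a then e * zc else e) → p * c * e * (p * c)⁻¹ = e := by
    intro e a hce hpe
    rw [show p * c * e * (p * c)⁻¹ = p * (c * e * c⁻¹) * p⁻¹ by group, hce]
    cases a <;> simp only [cond_true, cond_false] at hpe ⊢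
    · exact hpe
    · rw [show p * (e * zc) * p⁻¹ = p * e * p⁻¹ * (p * zc * p⁻¹) by group, hzconj, hpe, mul_assoc, hz2,
        mul_one]
  have hA := step e1 a hca hpa
  have hB := step e2 b hcb hpb
  intro e he
  rcases hgen e he with rfl | rfl | rfl | rfl
  · group
  · exact hA
  · exact hB
  · rw [show p * c * (e1 * e2) * (p * c)⁻¹ = p * c * e1 * (p * c)⁻¹ * (p * c * e2 * (p * c)⁻¹) by group,
      hA, hB]

theorem DH_img {x : centralizer ({z} : Set G)} (hx : x ∈ DH z E) (hne : x ≠ zc) :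
    QuotientGroup.mk' Q x ∈ TT ρ ν Mb h Φ := by
  obtain ⟨hc, hxx, -⟩ := DH_spec D C S K hx
  have hs := CH_img D C S K hc
  set t := QuotientGroup.mk' Q x with ht
  have htt : t * t = 1 := by rw [ht, ← map_mul, hxx, map_one]
  have ht1 : t ≠ 1 := fun e => K.not_Q x hx hne ((QuotientGroup.eq_one_iff x).1 e)
  obtain ⟨g, -, hgt⟩ := S.conj_tauE t hs.1 htt ht1
  obtain ⟨c, rfl⟩ := QuotientGroup.mk'_surjective Q g
  have hrange : ∀ f ∈ E, f ≠ 1 → π f ∈ (ee ρ t).range := by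
    intro f hf hf1
    obtain ⟨e, he, he1, hef⟩ : ∃ e ∈ E, e ≠ 1 ∧ e ≠ f := by
      obtain ⟨a, ha, ha'⟩ := line_mem D C S K (c := 5) (by decide)
      obtain ⟨b, hb, hb'⟩ := line_mem D C S K (c := 10) (by decide)
      have na : a ≠ 1 := fun e => by
        rw [e, LFElem89.pi_one D, ← nc_zero (hyp D) C] at ha'
        exact absurd (nc_inj (hyp D) C (by norm_num) (by norm_num) ha') (by norm_num)
      have nb : b ≠ 1 := fun e => by
        rw [e, LFElem89.pi_one D, ← nc_zero (hyp D) C] at hb'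
        exact absurd (nc_inj (hyp D) C (by norm_num) (by norm_num) hb') (by norm_num)
      by_cases e : a = f
      · refine ⟨b, hb, nb, fun e' => ?_⟩
        rw [e', ← e, ha'] at hb'
        exact absurd (nc_inj (hyp D) C (by norm_num) (by norm_num) hb') (by norm_num)
      · exact ⟨a, ha, na, e⟩
    have he' : e * f ∈ E := mul_mem he hf
    have he'1 : e * f ≠ 1 := fun e' => hef (by
      have := inv_eq_of_mul_eq_one_right e'
      rw [inv_eq_of_mul_eq_one_right (e_sq D C S K he)] at this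
      exact this)
    have hy : ∀ e ∈ E, e ≠ 1 → (c * (x * e) * c⁻¹) * (c * (x * e) * c⁻¹) = 1 ∧
        QuotientGroup.mk' Q (c * (x * e) * c⁻¹) = tauE h Φ ∧
        ¬ IsConj z ((c * (x * e) * c⁻¹ : centralizer ({z} : Set G)) : G) := fun e he h1 => by
      refine ⟨?_, ?_, fun hcon => hx.2.2 e he h1
        (hcon.trans (isConj_iff.2 ⟨(c : G)⁻¹, by simp [mul_assoc]⟩))⟩
      · rw [show c * (x * e) * c⁻¹ * (c * (x * e) * c⁻¹) = c * (x * (e * x) * e) * c⁻¹ by group,
          ← hx.1 e he, show x * (x * e) * e = x * x * (e * e) by group, hxx, e_sq D C S K he]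
        group
      · rw [map_mul, map_mul, map_mul, LFOrbitA89.mk_Q D C (K.isE.le he), mul_one, map_inv]
        exact hgt
    obtain ⟨a1, a2, a3⟩ := hy e he he1
    obtain ⟨b1, b2, b3⟩ := hy _ he' he'1
    have hd := K.t_diff _ _ a1 b1 a2 b2 a3 b3
    have hprod : c * (x * e) * c⁻¹ * (c * (x * (e * f)) * c⁻¹) = c * f * c⁻¹ := by
      rw [show c * (x * e) * c⁻¹ * (c * (x * (e * f)) * c⁻¹) = c * (x * (e * x) * (e * f)) * c⁻¹ by group,
        ← hx.1 e he, show x * (x * e) * (e * f) = x * x * (e * e) * f by group, hxx, e_sq D C S K he]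
      group
    rw [hprod, LFElem89.act D c (K.isE.le hf)] at hd
    have hb := mem_range_conj D C S K (g := (QuotientGroup.mk' Q c)⁻¹) hd
    rw [← rho_mul, inv_mul_cancel, rho_one, ← hgt] at hb
    simpa [mul_assoc] using hb
  refine S.mem_TT t hs htt ht1 ?_ ?_
  · obtain ⟨e, he, hπ⟩ := line_mem D C S K (c := 5) (by decide)
    refine hπ ▸ hrange e he fun e' => ?_
    rw [e', LFElem89.pi_one D, ← nc_zero (hyp D) C] at hπ
    exact absurd (nc_inj (hyp D) C (by norm_num) (by norm_num) hπ) (by norm_num)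
  · obtain ⟨e, he, hπ⟩ := line_mem D C S K (c := 10) (by decide)
    refine hπ ▸ hrange e he fun e' => ?_
    rw [e', LFElem89.pi_one D, ← nc_zero (hyp D) C] at hπ
    exact absurd (nc_inj (hyp D) C (by norm_num) (by norm_num) hπ) (by norm_num)

theorem to_base {t : centralizer ({z} : Set G) ⧸ Q} (ht : t ∈ TT ρ ν Mb h Φ) :
    ∃ c ∈ CH E, QuotientGroup.mk' Q c * t * (QuotientGroup.mk' Q c)⁻¹ = tauE h Φ := by
  obtain ⟨g, hg, rfl⟩ := ht
  obtain ⟨c, hc, hcg⟩ := exists_lift D C S K (inv_mem hg)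
  exact ⟨c, hc, by rw [hcg]; group⟩

/-- Every commutator with the transvection is one with an element over the perpendicular, modulo
the line. -/
theorem range_rep {v : V} (hv : v ∈ (ee ρ (tauE h Φ)).range) :
    ∃ w ∈ PerpV q s ν, ee ρ (tauE h Φ) w + v ∈ LineV s ν := by
  obtain ⟨u, rfl⟩ := hv
  obtain ⟨c, hc, rfl⟩ := exists_nc (hyp D) C u
  have hall := LFCheck89.allBelow_spec LFU62PerpData19.reps_ok c hc
  simp only [List.any_eq_true, Bool.and_eq_true, Nat.blt_eq] at hall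
  obtain ⟨w, -, ⟨hw1, -⟩, hwl⟩ := hall
  refine ⟨nc s ν w, (perp_iff D C S K).2 hw1, ?_⟩
  have hd : ∀ a, ee ρ (tauE h Φ) (nc s ν a) = nc s ν (LFU62PerpData19.dlt a) := fun a => by
    rw [ee_apply, tauE, op_tau_nc (hyp D) C (by norm_num : 15 < 128), LFU62PerpData19.dlt,
      nc_xor D C S K]
  rw [hd, hd, ← nc_xor D C S K]
  refine ⟨_, ?_, rfl⟩
  simp only [LFU62PerpData19.inLine, Bool.or_eq_true, Nat.beq_eq] at hwl
  simp only [lineC, List.mem_cons, List.not_mem_nil, or_false]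
  tauto

theorem conj_Q {x y : centralizer ({z} : Set G)} (hy : y ∈ Q)
    (hx : QuotientGroup.mk' Q x = tauE h Φ) (hxx : x * x = 1) :
    QuotientGroup.mk' Q (y * x * y⁻¹) = tauE h Φ ∧ x * (y * x * y⁻¹) ∈ Q ∧
      π (x * (y * x * y⁻¹)) = ee ρ (tauE h Φ) (π y) := by
  have h1 : QuotientGroup.mk' Q (y * x * y⁻¹) = tauE h Φ := by
    rw [map_mul, map_mul, map_inv, LFOrbitA89.mk_Q D C hy, hx, one_mul, inv_one, mul_one]
  refine ⟨h1, ?_, ?_⟩
  · rw [← QuotientGroup.eq_one_iff]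
    show QuotientGroup.mk' Q _ = 1
    rw [map_mul, h1, ← hx, ← map_mul, hxx, map_one]
  · have e : x * (y * x * y⁻¹) = x * y * x⁻¹ * y⁻¹ := by
      rw [inv_eq_of_mul_eq_one_right hxx]; group
    rw [e, D.link.add _ ((inferInstance : Q.Normal).conj_mem y hy x) _ (inv_mem hy),
      LFElem89.act D x hy, LFElem89.pi_inv D hy, hx, ee_apply]

theorem Q_trans {x y : centralizer ({z} : Set G)} (hx : x ∈ DH z E) (hy : y ∈ DH z E)
    (hxt : QuotientGroup.mk' Q x = tauE h Φ) (hyt : QuotientGroup.mk' Q y = tauE h Φ) :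
    ∃ c ∈ CH E, c * x * c⁻¹ = y := by
  by_cases hne : x = y
  · exact ⟨1, one_mem _, by rw [one_mul, inv_one, mul_one, hne]⟩
  obtain ⟨-, hxx, -⟩ := DH_spec D C S K hx
  obtain ⟨-, hyy, -⟩ := DH_spec D C S K hy
  obtain ⟨w, hw, hwl⟩ := range_rep D C S K (K.diff x y hx hy hne hxt hyt).1
  obtain ⟨p, hp, hpw⟩ := D.link.surj w
  have hpC : p ∈ CH E := (Q_CH D C S K hp).2 (hpw ▸ hw)
  obtain ⟨h1, h2, h3⟩ := conj_Q D C S K hp hxt hxx
  refine ⟨p, hpC, ?_⟩
  by_contra hne'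
  have h4 := (K.diff _ y (DH_conj D C S K hpC hx) hy hne' h1 hyt).2
  refine h4 ?_
  have hxy : x * y ∈ Q := by
    rw [← QuotientGroup.eq_one_iff]
    show QuotientGroup.mk' Q _ = 1
    rw [map_mul, hxt, ← hyt, ← map_mul, hyy, map_one]
  have hpx : p * x * p⁻¹ * x ∈ Q := by
    rw [← QuotientGroup.eq_one_iff]
    show QuotientGroup.mk' Q _ = 1
    rw [map_mul, h1, ← hxt, ← map_mul, hxx, map_one]
  have e1 : p * x * p⁻¹ * y = p * x * p⁻¹ * x * (x * y) := by
    rw [show p * x * p⁻¹ * x * (x * y) = p * x * p⁻¹ * (x * x) * y by group, hxx, mul_one]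
  have e2 : p * x * p⁻¹ * x = (x * (p * x * p⁻¹))⁻¹ := by
    rw [mul_inv_rev, inv_eq_of_mul_eq_one_right hxx,
      show (p * x * p⁻¹)⁻¹ = p * x⁻¹ * p⁻¹ by group, inv_eq_of_mul_eq_one_right hxx]
  rw [e1, D.link.add _ hpx _ hxy, e2, LFElem89.pi_inv D h2, h3, hpw]
  exact hwl

theorem transitive {x y : centralizer ({z} : Set G)} (hx : x ∈ DH z E) (hy : y ∈ DH z E)
    (hxz : x ≠ zc) (hyz : y ≠ zc) : ∃ c ∈ CH E, c * x * c⁻¹ = y := by
  obtain ⟨a, ha, hat⟩ := to_base D C S K (DH_img D C S K hx hxz)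
  obtain ⟨b, hb, hbt⟩ := to_base D C S K (DH_img D C S K hy hyz)
  obtain ⟨c, hc, hcxy⟩ := Q_trans D C S K (DH_conj D C S K ha hx) (DH_conj D C S K hb hy)
    (by rw [map_mul, map_mul, map_inv]; exact hat) (by rw [map_mul, map_mul, map_inv]; exact hbt)
  refine ⟨b⁻¹ * c * a, mul_mem (mul_mem (inv_mem hb) hc) ha, ?_⟩
  calc b⁻¹ * c * a * x * (b⁻¹ * c * a)⁻¹ = b⁻¹ * (c * (a * x * a⁻¹) * c⁻¹) * b := by group
    _ = y := by rw [hcxy]; group

theorem five_AA {k : ℕ} (hk : k ∈ five) {x : centralizer ({z} : Set G)} (hx : x ∈ DH z E)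
    (hxk : QuotientGroup.mk' Q x = tau h Φ k) : x ∈ AA D C := by
  obtain ⟨e, he, hπ⟩ := line_mem D C S K (c := 5) (by decide)
  have he1 : e ≠ 1 := fun e' => by
    rw [e', LFElem89.pi_one D, ← nc_zero (hyp D) C] at hπ
    exact absurd (nc_inj (hyp D) C (by norm_num) (by norm_num) hπ) (by norm_num)
  obtain ⟨-, hxx, -⟩ := DH_spec D C S K hx
  have hmem := K.t_AA k hk (x * e)
    (by rw [show x * e * (x * e) = x * (e * x) * e by group, ← hx.1 e he,
          show x * (x * e) * e = x * x * (e * e) by group, hxx, e_sq D C S K he, one_mul])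
    (by rw [map_mul, LFOrbitA89.mk_Q D C (K.isE.le he), mul_one]; exact hxk)
    (hx.2.2 e he he1)
  have := mul_mem hmem (K.le_AA he)
  rwa [mul_assoc, e_sq D C S K he, mul_one] at this

theorem commuting {x y : centralizer ({z} : Set G)} (hx : x ∈ DH z E) (hy : y ∈ DH z E)
    (hxz : x ≠ zc) (hyz : y ≠ zc)
    (hc : Commute (QuotientGroup.mk' Q x) (QuotientGroup.mk' Q y)) : Commute x y := by
  obtain ⟨a, ha, hat⟩ := to_base D C S K (DH_img D C S K hx hxz)
  have hx' := DH_conj D C S K ha hx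
  have hy' := DH_conj D C S K ha hy
  have hxt : QuotientGroup.mk' Q (a * x * a⁻¹) = tauE h Φ := by rw [map_mul, map_mul, map_inv]; exact hat
  have hyz' : a * y * a⁻¹ ≠ zc := fun e => hyz (by
    have e' : y = a⁻¹ * zc * a := by rw [← e]; group
    rwa [mul_assoc, ← D.zc_central a, inv_mul_cancel_left] at e')
  have hcomm : QuotientGroup.mk' Q (a * y * a⁻¹) * tauE h Φ =
      tauE h Φ * QuotientGroup.mk' Q (a * y * a⁻¹) := by
    rw [← hxt]
    have := U62RecogSetup19.commute_cj (QuotientGroup.mk' Q a) hc.symm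
    simp only [← map_inv, ← map_mul] at this ⊢
    rw [map_mul, map_mul (QuotientGroup.mk' Q) (a * x * a⁻¹)] at *
    exact this.eq
  obtain ⟨g, hg, hgt, k, hk, hgy⟩ := S.five_near _ (DH_img D C S K hy' hyz') hcomm
  obtain ⟨b, hb, hbg⟩ := exists_lift D C S K hg
  have m1 := five_AA D C S K (k := 15) (by decide) (DH_conj D C S K hb hx')
    (by rw [map_mul, map_mul, map_inv, hbg, hxt]; exact hgt)
  have m2 := five_AA D C S K hk (DH_conj D C S K hb hy')
    (by rw [map_mul, map_mul, map_inv, hbg]; exact hgy)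
  have hcc : Commute (b * (a * x * a⁻¹) * b⁻¹) (b * (a * y * a⁻¹) * b⁻¹) := (AA_facts D C).1.2 _ m1 _ m2
  exact U62RecogSetup19.commute_cj_iff.1 (U62RecogSetup19.commute_cj_iff.1 hcc)

theorem count_all {t : centralizer ({z} : Set G) ⧸ Q} (ht : t ∈ TT ρ ν Mb h Φ) :
    {x | x ∈ DH z E ∧ QuotientGroup.mk' Q x = t}.ncard = 4 := by
  obtain ⟨a, ha, hat⟩ := to_base D C S K ht
  rw [← K.count 15 (by decide)]
  refine Set.ncard_congr (fun x _ => a * x * a⁻¹) (fun x hx => ⟨DH_conj D C S K ha hx.1, ?_⟩)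
    (fun x y _ _ e => mul_left_cancel (mul_right_cancel e)) fun y hy => ⟨a⁻¹ * y * a, ⟨?_, ?_⟩, by group⟩
  · rw [map_mul, map_mul, map_inv, hx.2]; exact hat
  · have := DH_conj D C S K (inv_mem ha) hy.1
    rwa [inv_inv] at this
  · rw [map_mul, map_mul, map_inv, hy.2,
      show t = (QuotientGroup.mk' Q a)⁻¹ * tauE h Φ * QuotientGroup.mk' Q a by rw [← hat]; group]
    rfl

/-- The set generating the centralizer. -/
theorem CH_le : CH E ≤ Subgroup.closure (insert zc (DH z E ∪ (E : Set (centralizer ({z} : Set G))))) := by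
  set H0 := Subgroup.closure (insert zc (DH z E ∪ (E : Set (centralizer ({z} : Set G))))) with hH0
  have hzc : zc ∈ H0 := Subgroup.subset_closure (Set.mem_insert _ _)
  have hDH : ∀ x ∈ DH z E, x ∈ H0 := fun x hx =>
    Subgroup.subset_closure (Set.mem_insert_of_mem _ (Or.inl hx))
  have hE : ∀ e ∈ E, e ∈ H0 := fun e he =>
    Subgroup.subset_closure (Set.mem_insert_of_mem _ (Or.inr he))
  have hH0C : H0 ≤ CH E := by
    refine (Subgroup.closure_le _).2 ?_
    rintro x (rfl | hx | hx)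
    · exact (mem_CH D C S K).2 fun e _ => by rw [← D.zc_central e, mul_inv_cancel_right]
    · exact (DH_spec D C S K hx).1
    · exact Subgroup.mem_centralizer_iff.2 fun e he => K.ea.2 e he x hx
  have himg : St ρ s ν Mb ≤ H0.map (QuotientGroup.mk' Q) := by
    rw [← S.gen]
    refine (Subgroup.closure_le _).2 fun t ht => ?_
    obtain ⟨x, hx, hxt⟩ := Set.nonempty_of_ncard_ne_zero
      (show {x | x ∈ DH z E ∧ QuotientGroup.mk' Q x = t}.ncard ≠ 0 by
        rw [count_all D C S K ht]; norm_num)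
    exact ⟨x, hDH x hx, hxt⟩
  let P : AddSubgroup V :=
    { carrier := {v | ∃ x ∈ H0, x ∈ Q ∧ π x = v}
      zero_mem' := ⟨1, one_mem _, one_mem _, LFElem89.pi_one D⟩
      add_mem' := by
        rintro _ _ ⟨a, ha, haQ, rfl⟩ ⟨b, hb, hbQ, rfl⟩
        exact ⟨a * b, mul_mem ha hb, mul_mem haQ hbQ, D.link.add _ haQ _ hbQ⟩
      neg_mem' := by
        rintro _ ⟨a, ha, haQ, rfl⟩
        exact ⟨a, ha, haQ, (neg_eq_of_add_eq_zero_left (D.orth.two _)).symm⟩ }
  have hline : LineV s ν ⊆ P := by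
    rintro v ⟨c, hc, rfl⟩
    obtain ⟨e, he, hπ⟩ := line_mem D C S K hc
    exact ⟨e, hE e he, K.isE.le he, hπ⟩
  have hbase : ∀ v ∈ (ee ρ (tauE h Φ)).range, v ∈ P := by
    intro v hv
    obtain ⟨w, hw, hwl⟩ := range_rep D C S K hv
    obtain ⟨p, hp, hpw⟩ := D.link.surj w
    have hpC : p ∈ CH E := (Q_CH D C S K hp).2 (hpw ▸ hw)
    obtain ⟨x, hx, hxt⟩ := Set.nonempty_of_ncard_ne_zero
      (show {x | x ∈ DH z E ∧ QuotientGroup.mk' Q x = tau h Φ 15}.ncard ≠ 0 by
        rw [K.count 15 (by decide)]; norm_num)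
    obtain ⟨-, h2, h3⟩ := conj_Q D C S K hp hxt (DH_spec D C S K hx).2.1
    have : ee ρ (tauE h Φ) w ∈ P :=
      ⟨_, mul_mem (hDH x hx) (hDH _ (DH_conj D C S K hpC hx)), h2, by rw [h3, hpw]⟩
    have e : v = ee ρ (tauE h Φ) w + (ee ρ (tauE h Φ) w + v) := by
      rw [← add_assoc, D.orth.two, zero_add]
    rw [e]
    exact add_mem this (hline hwl)
  have hperp : PerpV q s ν ⊆ P := by
    refine S.perp_gen.trans ((AddSubgroup.closure_le P).2 ?_)
    rintro v (hv | ⟨t, ⟨g, hg, rfl⟩, hv⟩)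
    · exact hline hv
    · obtain ⟨c, hc, hcg⟩ := himg hg
      have hb := mem_range_conj D C S K (g := g⁻¹) hv
      rw [show g⁻¹ * (g * tauE h Φ * g⁻¹) * g⁻¹⁻¹ = tauE h Φ by group] at hb
      obtain ⟨x, hx, hxQ, hxπ⟩ := hbase _ hb
      refine ⟨c * x * c⁻¹, mul_mem (mul_mem hc hx) (inv_mem hc),
        (inferInstance : Q.Normal).conj_mem x hxQ c, ?_⟩
      rw [LFElem89.act D c hxQ, hxπ, hcg, ← rho_mul, mul_inv_cancel, rho_one]
  intro c hc
  obtain ⟨d, hd, hdc⟩ := himg (CH_img D C S K hc)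
  set r := d⁻¹ * c with hr
  have hrC : r ∈ CH E := mul_mem (inv_mem (hH0C hd)) hc
  have hrQ : r ∈ Q := by
    rw [← QuotientGroup.eq_one_iff]
    show QuotientGroup.mk' Q _ = 1
    rw [hr, map_mul, map_inv, hdc, inv_mul_cancel]
  obtain ⟨x, hx, hxQ, hxπ⟩ := hperp ((Q_CH D C S K hrQ).1 hrC)
  have : c = d * r := by rw [hr]; group
  rw [this]
  refine mul_mem hd ?_
  rcases pi_eq D hxQ hrQ hxπ with e | e <;> rw [e]
  exacts [hx, mul_mem hx hzc]

/-- The order of the centralizer. -/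
theorem card_CH : Nat.card (CH E) = 4 * 13271040 := by
  classical
  let f : CH E →* St ρ s ν Mb :=
    ((QuotientGroup.mk' Q).comp (CH E).subtype).codRestrict _ fun c => CH_img D C S K c.2
  have hf : Function.Surjective f := fun g => by
    obtain ⟨c, hc, hcg⟩ := exists_lift D C S K g.2
    exact ⟨⟨c, hc⟩, Subtype.ext hcg⟩
  have hker : Nat.card f.ker = 2048 := by
    let W : Set V := PerpV q s ν
    have hW : W.ncard = 1024 := by
      have e : W = (fun c => nc s ν c) '' {c | c < 4096 ∧ LFU62PerpData19.inPerp c = true} := by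
        ext v
        constructor
        · intro hv
          obtain ⟨c, hc, rfl⟩ := exists_nc (hyp D) C v
          exact ⟨c, ⟨hc, (perp_iff D C S K).1 hv⟩, rfl⟩
        · rintro ⟨c, ⟨-, hc⟩, rfl⟩
          exact (perp_iff D C S K).2 hc
      have e2 : {c | c < 4096 ∧ LFU62PerpData19.inPerp c = true} =
          (((List.range 4096).filter LFU62PerpData19.inPerp).toFinset : Set ℕ) := by
        ext c; simp
      rw [e, Set.InjOn.ncard_image (fun a ha b hb e => nc_inj (hyp D) C ha.1 hb.1 e), e2,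
        Set.ncard_coe_finset, List.toFinset_card_of_nodup (List.nodup_range.filter _),
        LFU62PerpData19.card_perp]
    have := Fintype.ofFinite (centralizer ({z} : Set G))
    have e3 : Nat.card f.ker = ({x | x ∈ Q ∧ π x ∈ W} : Set (centralizer ({z} : Set G))).ncard := by
      rw [← Nat.card_coe_set_eq]
      refine Nat.card_congr
        { toFun := fun c => ⟨c.1.1, ?_, ?_⟩
          invFun := fun x => ⟨⟨x.1, (Q_CH D C S K x.2.1).2 x.2.2⟩, ?_⟩
          left_inv := fun c => rfl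
          right_inv := fun x => rfl }
      · exact (QuotientGroup.eq_one_iff _).1 (congrArg Subtype.val c.2)
      · exact (Q_CH D C S K ((QuotientGroup.eq_one_iff _).1 (congrArg Subtype.val c.2))).1 c.1.2
      · exact Subtype.ext ((QuotientGroup.eq_one_iff _).2 x.2.1)
    haveI : Finite V := LFElem89.finiteV D
    have := Fintype.ofFinite V
    rw [e3, Set.ncard_eq_toFinset_card', Finset.card_eq_sum_card_fiberwise (f := π) (t := W.toFinset)
      (fun x hx => by
        simp only [Finset.mem_coe, Set.mem_toFinset, Set.mem_ofPred_eq] at hx ⊢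
        exact hx.2),
      Finset.sum_const_nat (m := 2) (fun v hv => ?_), ← Set.ncard_eq_toFinset_card', hW]
    obtain ⟨p, hp, rfl⟩ := D.link.surj v
    rw [Set.mem_toFinset] at hv
    rw [Finset.card_eq_two]
    refine ⟨p, p * zc, fun e => D.ext.ne_one (left_eq_mul.1 e), ?_⟩
    ext x
    simp only [Finset.mem_filter, Set.mem_toFinset, Set.mem_ofPred_eq, Finset.mem_insert,
      Finset.mem_singleton]
    constructor
    · rintro ⟨⟨hxQ, -⟩, hx⟩
      exact pi_eq D hp hxQ hx.symm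
    · rintro (rfl | rfl)
      · exact ⟨⟨hp, hv⟩, rfl⟩
      · exact ⟨⟨mul_mem hp D.ext.mem, (pi_mul_zc D C hp).symm ▸ hv⟩, pi_mul_zc D C hp⟩
  have h1 := Subgroup.card_mul_index f.ker
  rw [Subgroup.index_ker, MonoidHom.range_eq_top.2 hf, Subgroup.card_top, S.card, hker] at h1
  omega

end

end Cfsg.Agent.LFU62Local19
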