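import Mathlib
import Cfsg.Agent.Lib.LFU62Local19

/-!
The centralizer of the four group modulo the four group satisfies the local hypotheses on a
transvection of `U₆(2)`, and is quasisimple when that quotient is simple.
-/

set_option autoImplicit false
set_option linter.unusedSectionVars false
set_option linter.style.haveILetI false
set_option maxHeartbeats 800000

namespace Cfsg.Agent.LFU62Bridge19

open Cfsg Subgroup Cfsg.Agent.U62Mon93 Cfsg.Agent.U62Existence93
open Cfsg.Agent.LFModel89 Cfsg.Agent.LFSetting89 Cfsg.Agent.LFSylow89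
open Cfsg.Agent.LFMat89 Cfsg.Agent.LFElem89 Cfsg.Agent.LFBound89 Cfsg.Agent.LFOrbitA89
open Cfsg.Agent.LFU62Defs19 Cfsg.Agent.LFU62Local19
open Cfsg.Agent.U62RecogSetup19 (Xa Setup)

universe u

variable {G : Type u} [Group G] [Finite G] {z : G} {Q : Subgroup (centralizer ({z} : Set G))}
  [Q.Normal] {V : Type u} [AddCommGroup V] {zc : centralizer ({z} : Set G)}
  {π : centralizer ({z} : Set G) → V} {ρ : centralizer ({z} : Set G) ⧸ Q →* AddMonoid.End V}
  {q : V → ZMod 2} {n : centralizer ({z} : Set G) ⧸ Q}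
  {Mb : Subgroup (centralizer ({z} : Set G) ⧸ Q)}
  {F : Type} [Field F] [Fintype F] {s : F} {h : S4 s} {ν : (Fin 6 → F) → V}
  {Φ : K0 h →* centralizer ({z} : Set G) ⧸ Q}

/-- The four group in the whole group. -/
abbrev EG (E : Subgroup (centralizer ({z} : Set G))) : Subgroup G :=
  E.map (centralizer ({z} : Set G)).subtype

/-- Its centralizer. -/
abbrev CE (E : Subgroup (centralizer ({z} : Set G))) : Subgroup G :=
  centralizer (EG E : Set G)

instance normal_EG (E : Subgroup (centralizer ({z} : Set G))) : ((EG E).subgroupOf (CE E)).Normal :=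
  ⟨fun m hm g => by
    have hc : (g : G) * m = m * g :=
      (Subgroup.mem_centralizer_iff.1 g.2 _ (Subgroup.mem_subgroupOf.1 hm)).symm
    have e : g * m * g⁻¹ = m := Subtype.ext (by
      rw [Subgroup.coe_mul, Subgroup.coe_mul, Subgroup.coe_inv, hc, mul_inv_cancel_right])
    rwa [e]⟩

/-- The quotient. -/
abbrev LL (E : Subgroup (centralizer ({z} : Set G))) : Type u := ↥(CE E) ⧸ (EG E).subgroupOf (CE E)

open scoped Classical in
/-- The image in the centralizer quotient. -/
noncomputable def psiL (Q : Subgroup (centralizer ({z} : Set G))) [Q.Normal]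
    (E : Subgroup (centralizer ({z} : Set G))) (l : LL E) : centralizer ({z} : Set G) ⧸ Q :=
  if hc : ((Quotient.out l : CE E) : G) ∈ centralizer ({z} : Set G) then
    QuotientGroup.mk' Q ⟨_, hc⟩ else 1

/-- The conjugates of an element. -/
def DL {E : Subgroup (centralizer ({z} : Set G))} (zl : LL E) : Set (LL E) :=
  {d | ∃ g : LL E, g * zl * g⁻¹ = d}

variable (D : Data z Q zc π ρ q n Mb) (C : Coord h ρ q n Mb ν Φ)
  {E : Subgroup (centralizer ({z} : Set G))}
  (S : StabFacts Q ρ q ν Mb h Φ) (K : CoordFacts D C E)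
include D C S K

theorem zc_CH : zc ∈ CH E :=
  (mem_CH D C S K).2 fun e _ => by rw [← D.zc_central e, mul_inv_cancel_right]

theorem mem_CE {c : centralizer ({z} : Set G)} : (c : G) ∈ CE E ↔ c ∈ CH E := by
  constructor
  · intro hc
    refine Subgroup.mem_centralizer_iff.2 fun e he => Subtype.ext ?_
    exact Subgroup.mem_centralizer_iff.1 hc e ⟨e, he, rfl⟩
  · intro hc
    refine Subgroup.mem_centralizer_iff.2 ?_
    rintro _ ⟨e, he, rfl⟩
    exact congrArg Subtype.val (Subgroup.mem_centralizer_iff.1 hc e he)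

/-- The class of an element of the centralizer of `z` and `E`. -/
noncomputable def toL (c : CH E) : LL E :=
  QuotientGroup.mk (⟨((c : centralizer ({z} : Set G)) : G), (mem_CE D C S K).2 c.2⟩ : CE E)

theorem toL_mul (c d : CH E) : toL D C S K (c * d) = toL D C S K c * toL D C S K d := rfl

theorem toL_inv (c : CH E) : toL D C S K c⁻¹ = (toL D C S K c)⁻¹ := rfl

theorem toL_one : toL D C S K 1 = 1 := rfl

theorem toL_eq {c d : CH E} : toL D C S K c = toL D C S K d ↔ (c : centralizer ({z} : Set G))⁻¹ * d ∈ E := by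
  rw [toL, toL, QuotientGroup.eq, Subgroup.mem_subgroupOf]
  constructor
  · rintro ⟨e, he, hh⟩
    have : e = (c : centralizer ({z} : Set G))⁻¹ * d := Subtype.ext hh
    exact this ▸ he
  · exact fun hh => ⟨_, hh, rfl⟩

/-- An element of the centralizer of `E` centralising the image of `z` centralises `z`. -/
theorem commute_z {r : CE E} (hc : Commute (r : LL E) (toL D C S K ⟨zc, zc_CH D C S K⟩)) :
    (r : G) * z = z * r := by
  set zr : CE E := ⟨(zc : G), (mem_CE D C S K).2 (zc_CH D C S K)⟩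
  have h1 : ((zr⁻¹ * (r * zr * r⁻¹) : CE E) : LL E) = 1 := by
    rw [QuotientGroup.mk_mul, QuotientGroup.mk_mul, QuotientGroup.mk_mul, QuotientGroup.mk_inv,
      QuotientGroup.mk_inv, show (r : LL E) * (zr : LL E) = (zr : LL E) * (r : LL E) from hc.eq,
      mul_inv_cancel_right, inv_mul_cancel]
  rw [QuotientGroup.eq_one_iff, Subgroup.mem_subgroupOf] at h1
  obtain ⟨e, he, hh⟩ := h1
  by_cases he1 : e = 1
  · subst he1
    have h2 : (1 : G) = z⁻¹ * ((r : G) * z * (r : G)⁻¹) := by simpa [zr, D.zc_val] using hh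
    rw [eq_inv_mul_iff_mul_eq, mul_one] at h2
    exact mul_inv_eq_iff_eq_mul.1 h2.symm
  · exfalso
    refine K.zc_DH.2.2 e he he1 ?_
    refine isConj_iff.2 ⟨(r : G), ?_⟩
    rw [Subgroup.coe_mul, D.zc_val]
    have h2 : (e : G) = z⁻¹ * ((r : G) * z * (r : G)⁻¹) := by simpa [zr, D.zc_val] using hh
    rw [h2]; group

theorem exists_CH {l : LL E} (hl : Commute l (toL D C S K ⟨zc, zc_CH D C S K⟩)) :
    ∃ c : CH E, toL D C S K c = l := by
  obtain ⟨r, rfl⟩ := QuotientGroup.mk_surjective l
  have hz := commute_z D C S K hl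
  refine ⟨⟨⟨(r : G), Subgroup.mem_centralizer_singleton_iff.2 hz⟩, (mem_CE D C S K).1 r.2⟩, rfl⟩

theorem psi_toL (c : CH E) :
    psiL Q E (toL D C S K c) = QuotientGroup.mk' Q (c : centralizer ({z} : Set G)) := by
  set l := toL D C S K c with hl
  set r : CE E := Quotient.out l with hrdef
  have hr : (r : LL E) = l := Quotient.out_eq l
  obtain ⟨e, he, hh⟩ : ∃ e ∈ E, (e : G) = ((c : centralizer ({z} : Set G)) : G)⁻¹ * r := by
    have := QuotientGroup.eq.1 (hr.trans hl).symm
    rw [Subgroup.mem_subgroupOf] at this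
    obtain ⟨e, he, hh⟩ := this
    exact ⟨e, he, hh⟩
  have hr' : (r : G) = ((c * e : centralizer ({z} : Set G)) : G) := by
    rw [Subgroup.coe_mul, hh]; group
  have hrz : (r : G) ∈ centralizer ({z} : Set G) := by rw [hr']; exact Subtype.property _
  rw [psiL, dif_pos hrz, show (⟨(r : G), hrz⟩ : centralizer ({z} : Set G)) = c * e from Subtype.ext hr',
    map_mul, LFOrbitA89.mk_Q D C (K.isE.le he), mul_one]

theorem X_iff {l : LL E} :
    l ∈ Xa (DL (toL D C S K ⟨zc, zc_CH D C S K⟩)) (toL D C S K ⟨zc, zc_CH D C S K⟩) ↔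
      ∃ x : CH E, (x : centralizer ({z} : Set G)) ∈ DH z E ∧
        (x : centralizer ({z} : Set G)) ≠ zc ∧ toL D C S K x = l := by
  set zl := toL D C S K ⟨zc, zc_CH D C S K⟩ with hzl
  constructor
  · rintro ⟨⟨g, hg⟩, hc, hne⟩
    obtain ⟨r, rfl⟩ := QuotientGroup.mk_surjective g
    set zr : CE E := ⟨(zc : G), (mem_CE D C S K).2 (zc_CH D C S K)⟩
    have hlr : ((r * zr * r⁻¹ : CE E) : LL E) = l := hg
    have hz := commute_z D C S K (r := r * zr * r⁻¹) (by rw [hlr]; exact hc)
    let x : CH E := ⟨⟨((r * zr * r⁻¹ : CE E) : G), Subgroup.mem_centralizer_singleton_iff.2 hz⟩,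
      (mem_CE D C S K).1 (r * zr * r⁻¹).2⟩
    have hxl : toL D C S K x = l := hlr
    have hxv : ((x : centralizer ({z} : Set G)) : G) = (r : G) * z * (r : G)⁻¹ := by
      show (r : G) * (zc : G) * (r : G)⁻¹ = _
      rw [D.zc_val]
    refine ⟨x, ⟨fun e he => (Subgroup.mem_centralizer_iff.1 x.2 e he).symm,
      isConj_iff.2 ⟨(r : G), hxv.symm⟩, fun e he he1 hcon => K.zc_DH.2.2 e he he1 ?_⟩, fun e => ?_, hxl⟩
    · have hre : (r : G) * (e : G) * (r : G)⁻¹ = e :=
        mul_inv_eq_iff_eq_mul.2 (Subgroup.mem_centralizer_iff.1 r.2 _ ⟨e, he, rfl⟩).symm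
      rw [Subgroup.coe_mul, hxv] at hcon
      rw [Subgroup.coe_mul, D.zc_val]
      refine hcon.trans (isConj_iff.2 ⟨(r : G), ?_⟩).symm
      conv_rhs => rw [← hre]
      group
    · exact hne (hxl.symm.trans (congrArg _ (Subtype.ext e)))
  · rintro ⟨x, hx, hxz, rfl⟩
    refine ⟨?_, ?_, ?_⟩
    · obtain ⟨g, hgE, x0, hx0, hx0z, hg⟩ := K.move
      obtain ⟨c, hc, hcx⟩ := transitive D C S K hx0 hx hx0z hxz
      have hgC : (c : G) * g ∈ CE E := by
        refine mul_mem ((mem_CE D C S K).2 hc) (Subgroup.mem_centralizer_iff.2 ?_)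
        rintro _ ⟨e, he, rfl⟩
        exact (hgE e he).symm
      refine ⟨((⟨_, hgC⟩ : CE E) : LL E), ?_⟩
      rw [hzl, toL, toL, ← QuotientGroup.mk_inv, ← QuotientGroup.mk_mul, ← QuotientGroup.mk_mul]
      refine congrArg _ (Subtype.ext ?_)
      show (c : G) * g * (zc : G) * ((c : G) * g)⁻¹ = ((x : centralizer ({z} : Set G)) : G)
      rw [D.zc_val, ← hcx, show (c : G) * g * z * ((c : G) * g)⁻¹ = (c : G) * (g * z * g⁻¹) * (c : G)⁻¹ by
        group, hg]
      rfl
    · show toL D C S K x * zl = zl * toL D C S K x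
      rw [hzl, ← toL_mul, ← toL_mul]
      exact congrArg _ (Subtype.ext (D.zc_central x))
    · intro e
      rw [hzl, toL_eq] at e
      exact hxz (DH_inj D C S K hx K.zc_DH e)

theorem toL_X_inj {x y : CH E} (hx : (x : centralizer ({z} : Set G)) ∈ DH z E)
    (hy : (y : centralizer ({z} : Set G)) ∈ DH z E) (e : toL D C S K x = toL D C S K y) : x = y :=
  Subtype.ext (DH_inj D C S K hx hy ((toL_eq D C S K).1 e))

theorem line_range {v : V} (hv : v ∈ LineV s ν) : v ∈ (ee ρ (tauE h Φ)).range := by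
  obtain ⟨t, ht, rfl⟩ := hv
  have hall : ∀ t ∈ lineC, (List.range 4096).any (fun c => Nat.beq (LFU62PerpData19.dlt c) t) = true := by
    decide +kernel
  have h1 := hall t ht
  obtain ⟨c, hc⟩ : ∃ c, LFU62PerpData19.dlt c = t := by
    rw [List.any_eq_true] at h1
    obtain ⟨c, -, hc⟩ := h1
    exact ⟨c, Nat.eq_of_beq_eq_true hc⟩
  refine ⟨nc s ν c, ?_⟩
  rw [ee_apply, tauE, op_tau_nc (hyp D) C (by norm_num : 15 < 128), ← hc, LFU62PerpData19.dlt,
    LFU62Local19.nc_xor D C S K]

theorem setup : Setup (DL (toL D C S K ⟨zc, zc_CH D C S K⟩)) (toL D C S K ⟨zc, zc_CH D C S K⟩)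
    (TT ρ ν Mb h Φ) (psiL Q E) := by
  classical
  set zl := toL D C S K ⟨zc, zc_CH D C S K⟩ with hzl
  have hzE : (zc : centralizer ({z} : Set G)) ∉ E := K.isE.zc_notMem
  have hX := fun l => X_iff D C S K (l := l)
  simp only [← hzl] at hX
  have hfib : ∀ t ∈ TT ρ ν Mb h Φ, {l | l ∈ Xa (DL zl) zl ∧ psiL Q E l = t}.ncard = 4 := by
    intro t ht
    rw [← count_all D C S K ht]
    refine (Set.ncard_congr (fun x hx => toL D C S K ⟨x, (DH_spec D C S K hx.1).1⟩) ?_ ?_ ?_).symm
    · intro x hx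
      refine ⟨(hX _).2 ⟨⟨x, _⟩, hx.1, ?_, rfl⟩, ?_⟩
      · intro e
        have ht1 : t ≠ 1 := fun e' => by
          have hd := S.graph.deg _ ht
          rw [e'] at hd
          have : {u | u ∈ TT ρ ν Mb h Φ ∧ u ≠ 1 ∧ Commute u 1} = TT ρ ν Mb h Φ \ {1} := by
            ext u
            exact ⟨fun h' => ⟨h'.1, h'.2.1⟩, fun h' => ⟨h'.1, h'.2, Commute.one_right u⟩⟩
          rw [this, Set.ncard_sdiff_singleton_of_mem (e' ▸ ht), S.graph.card] at hd
          omega
        refine ht1 ?_
        rw [← hx.2, show x = zc from e, LFOrbitA89.mk_Q D C D.ext.mem]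
      · rw [psi_toL]; exact hx.2
    · exact fun x y hx hy e => congrArg Subtype.val (toL_X_inj D C S K hx.1 hy.1 e)
    · rintro l ⟨hl, hlt⟩
      obtain ⟨x, hx, -, rfl⟩ := (hX l).1 hl
      exact ⟨x, ⟨hx, by rw [← psi_toL D C S K]; exact hlt⟩, rfl⟩
  have himg : ∀ l ∈ Xa (DL zl) zl, psiL Q E l ∈ TT ρ ν Mb h Φ := fun l hl => by
    obtain ⟨x, hx, hxz, rfl⟩ := (hX l).1 hl
    rw [psi_toL]
    exact DH_img D C S K hx hxz
  refine
    { class_eq := rfl
      zz := ?_
      ne_one := ?_
      card_H := ?_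
      graph := S.graph
      hom := fun a b ha hb => ?_
      card_X := ?_
      img := himg
      fibre := hfib
      comm := fun a ha b hb => ?_
      four := ?_
      sepQ := ?_
      transX := fun a ha b hb => ?_
      gens := ?_
      ker_two := fun a ha hψ => ?_ }
  · rw [hzl, ← toL_mul, ← toL_one D C S K]
    exact congrArg _ (Subtype.ext D.ext.zz)
  · intro e
    rw [hzl, ← toL_one D C S K, toL_eq] at e
    exact hzE (by simpa using E.inv_mem e)
  · let f : CH E →* centralizer ({zl} : Set (LL E)) :=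
      MonoidHom.mk' (fun c => ⟨toL D C S K c, Subgroup.mem_centralizer_singleton_iff.2 (by
        rw [hzl, ← toL_mul, ← toL_mul]; exact congrArg _ (Subtype.ext (D.zc_central c)))⟩)
        fun a b => rfl
    have hf : Function.Surjective f := fun l => by
      obtain ⟨c, hc⟩ := exists_CH D C S K (l := (l : LL E))
        (show Commute (l : LL E) zl from Subgroup.mem_centralizer_singleton_iff.1 l.2)
      exact ⟨c, Subtype.ext hc⟩
    have hker : f.ker = E.subgroupOf (CH E) := by
      ext c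
      rw [MonoidHom.mem_ker, Subgroup.mem_subgroupOf]
      constructor
      · intro e
        have e' : toL D C S K c = toL D C S K 1 := congrArg Subtype.val e
        rw [toL_eq] at e'
        simpa using E.inv_mem e'
      · intro e
        refine Subtype.ext ?_
        show toL D C S K c = toL D C S K 1
        rw [toL_eq]
        simpa using E.inv_mem e
    have hEle : E ≤ CH E := fun e he => Subgroup.mem_centralizer_iff.2 fun e' he' => K.ea.2 e' he' e he
    have h1 := Subgroup.card_mul_index f.ker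
    rw [Subgroup.index_ker, MonoidHom.range_eq_top.2 hf, Subgroup.card_top, hker,
      Nat.card_congr (Subgroup.subgroupOfEquivOfLe hEle).toEquiv, K.isE.card, card_CH D C S K] at h1
    omega
  · obtain ⟨x, rfl⟩ := exists_CH D C S K ha
    obtain ⟨y, rfl⟩ := exists_CH D C S K hb
    rw [← toL_mul, psi_toL, psi_toL, psi_toL]
    exact map_mul _ _ _
  · have := Fintype.ofFinite (LL E)
    have hTfin : (TT ρ ν Mb h Φ).Finite :=
      Set.finite_of_ncard_ne_zero (by rw [S.graph.card]; norm_num)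
    rw [Set.ncard_eq_toFinset_card', Finset.card_eq_sum_card_fiberwise (f := psiL Q E)
      (t := hTfin.toFinset)
      (fun l hl => by rw [Finset.mem_coe, Set.Finite.mem_toFinset]; exact himg l (Set.mem_toFinset.1 hl)),
      Finset.sum_const_nat (m := 4) (fun t ht => ?_), ← Set.ncard_eq_toFinset_card _ hTfin, S.graph.card]
    rw [← hfib t (hTfin.mem_toFinset.1 ht), Set.ncard_eq_toFinset_card']
    congr 1
    ext l
    simp
  · obtain ⟨x, hx, hxz, rfl⟩ := (hX a).1 ha
    obtain ⟨y, hy, hyz, rfl⟩ := (hX b).1 hb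
    rw [psi_toL, psi_toL]
    constructor
    · intro hc
      have h1 := congrArg (psiL Q E) (show toL D C S K (x * y) = toL D C S K (y * x) from hc.eq)
      rw [psi_toL, psi_toL] at h1
      exact (map_mul _ _ _).symm.trans (h1.trans (map_mul _ _ _))
    · intro hc
      have := commuting D C S K hx hy hxz hyz hc
      show toL D C S K (x * y) = toL D C S K (y * x)
      exact congrArg _ (Subtype.ext this.eq)
  · intro l₁ h₁ l₂ h₂ l₃ h₃ l₄ h₄ n12 n13 n14 n23 n24 n34 e12 e13 e14
    obtain ⟨x₁, hx₁, hz₁, rfl⟩ := (hX l₁).1 h₁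
    obtain ⟨x₂, hx₂, -, rfl⟩ := (hX l₂).1 h₂
    obtain ⟨x₃, hx₃, -, rfl⟩ := (hX l₃).1 h₃
    obtain ⟨x₄, hx₄, -, rfl⟩ := (hX l₄).1 h₄
    rw [psi_toL, psi_toL] at e12 e13 e14
    obtain ⟨c, hc, hct⟩ := to_base D C S K (DH_img D C S K hx₁ hz₁)
    have hne : ∀ {a b : CH E}, toL D C S K a ≠ toL D C S K b →
        c * (a : centralizer ({z} : Set G)) * c⁻¹ ≠ c * b * c⁻¹ := fun hab e =>
      hab (congrArg _ (Subtype.ext (mul_left_cancel (mul_right_cancel e))))
    have himg' : ∀ {a : CH E}, QuotientGroup.mk' Q (a : centralizer ({z} : Set G)) =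
        QuotientGroup.mk' Q (x₁ : centralizer ({z} : Set G)) →
        QuotientGroup.mk' Q (c * (a : centralizer ({z} : Set G)) * c⁻¹) = tauE h Φ := fun ha => by
      rw [map_mul, map_mul, map_inv, ha]; exact hct
    have hk := K.four _ _ _ _ (DH_conj D C S K hc hx₁) (DH_conj D C S K hc hx₂)
      (DH_conj D C S K hc hx₃) (DH_conj D C S K hc hx₄) (hne n12) (hne n13) (hne n14) (hne n23)
      (hne n24) (hne n34) (himg' rfl) (himg' e12.symm) (himg' e13.symm) (himg' e14.symm)
    have hzz := D.ext.zz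
    have hp : (x₁ : centralizer ({z} : Set G)) * x₂ * x₃ * x₄ * zc ∈ E := by
      have h2 := (mem_CH D C S K).1 (inv_mem hc) _ hk
      have e : c⁻¹ * (c * (x₁ : centralizer ({z} : Set G)) * c⁻¹ * (c * x₂ * c⁻¹) * (c * x₃ * c⁻¹) *
          (c * x₄ * c⁻¹) * zc) * c⁻¹⁻¹ = x₁ * x₂ * x₃ * x₄ * (c⁻¹ * zc * c) := by group
      rw [e, mul_assoc c⁻¹, ← D.zc_central c, inv_mul_cancel_left] at h2
      have e2 : (x₁ : centralizer ({z} : Set G)) * x₂ * x₃ * x₄ * zc =
          c * (x₁ : centralizer ({z} : Set G)) * c⁻¹ * (c * x₂ * c⁻¹) * (c * x₃ * c⁻¹) *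
          (c * x₄ * c⁻¹) * zc := h2
      rw [e2]; exact hk
    rw [← toL_mul, ← toL_mul, ← toL_mul, hzl, toL_eq]
    have := E.inv_mem hp
    rw [mul_inv_rev, inv_eq_of_mul_eq_one_right hzz] at this
    have h3 : ((x₁ * x₂ * x₃ * x₄ : CH E) : centralizer ({z} : Set G))⁻¹ * zc =
        zc * ((x₁ : centralizer ({z} : Set G)) * x₂ * x₃ * x₄)⁻¹ := D.zc_central _
    rw [h3]; exact this
  · intro l hl m hm l' hl' m' hm' e e' n n' heq
    obtain ⟨x, hx, hxz, rfl⟩ := (hX l).1 hl
    obtain ⟨y, hy, -, rfl⟩ := (hX m).1 hm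
    obtain ⟨x', hx', hxz', rfl⟩ := (hX l').1 hl'
    obtain ⟨y', hy', -, rfl⟩ := (hX m').1 hm'
    rw [psi_toL, psi_toL] at e e' ⊢
    obtain ⟨c, hc, hct⟩ := to_base D C S K (DH_img D C S K hx hxz)
    have hcne : ∀ {a b : CH E}, toL D C S K a ≠ toL D C S K b →
        c * (a : centralizer ({z} : Set G)) * c⁻¹ ≠ c * b * c⁻¹ := fun hab e =>
      hab (congrArg _ (Subtype.ext (mul_left_cancel (mul_right_cancel e))))
    set a := c * (x : centralizer ({z} : Set G)) * c⁻¹ with ha
    set b := c * (y : centralizer ({z} : Set G)) * c⁻¹ with hb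
    set a' := c * (x' : centralizer ({z} : Set G)) * c⁻¹ with ha'
    set b' := c * (y' : centralizer ({z} : Set G)) * c⁻¹ with hb'
    have hat : QuotientGroup.mk' Q a = tauE h Φ := by rw [ha, map_mul, map_mul, map_inv]; exact hct
    have hbt : QuotientGroup.mk' Q b = tauE h Φ := by
      rw [hb, map_mul, map_mul, map_inv, ← e]; exact hct
    obtain ⟨hr, hnl⟩ := K.diff a b (DH_conj D C S K hc hx) (DH_conj D C S K hc hy) (hcne n) hat hbt
    by_contra hne
    have hne2 : QuotientGroup.mk' Q a' ≠ tauE h Φ := by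
      rw [← hat, ha, ha', map_mul, map_mul, map_mul, map_mul]
      exact fun e2 => hne (mul_left_cancel (mul_right_cancel e2)).symm
    have hT' : QuotientGroup.mk' Q a' ∈ TT ρ ν Mb h Φ := by
      refine DH_img D C S K (DH_conj D C S K hc hx') fun e2 => hxz' ?_
      have : (x' : centralizer ({z} : Set G)) = c⁻¹ * zc * c := by rw [← e2, ha']; group
      rw [this, mul_assoc, ← D.zc_central c, inv_mul_cancel_left]
    have hb't : QuotientGroup.mk' Q b' = QuotientGroup.mk' Q a' := by
      rw [ha', hb', map_mul, map_mul, map_mul, map_mul, e']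
    obtain ⟨d, hd, hdt⟩ := to_base D C S K hT'
    obtain ⟨hr', -⟩ := K.diff (d * a' * d⁻¹) (d * b' * d⁻¹) (DH_conj D C S K hd (DH_conj D C S K hc hx'))
      (DH_conj D C S K hd (DH_conj D C S K hc hy'))
      (fun e2 => hcne n' (mul_left_cancel (mul_right_cancel e2)))
      (by rw [map_mul, map_mul, map_inv]; exact hdt) (by rw [map_mul, map_mul, map_inv, hb't]; exact hdt)
    have hq : a' * b' ∈ Q := by
      rw [← QuotientGroup.eq_one_iff]
      show QuotientGroup.mk' Q _ = 1
      rw [map_mul, hb't, ← map_mul, (DH_spec D C S K (DH_conj D C S K hc hx')).2.1, map_one]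
    rw [show d * a' * d⁻¹ * (d * b' * d⁻¹) = d * (a' * b') * d⁻¹ by group, LFElem89.act D d hq] at hr'
    have hr'' := mem_range_conj D C S K (g := (QuotientGroup.mk' Q d)⁻¹) hr'
    rw [← rho_mul, inv_mul_cancel, rho_one, ← hdt] at hr''
    have hr3 : π (a' * b') ∈ (ee ρ (QuotientGroup.mk' Q a')).range := by simpa [mul_assoc] using hr''
    -- the two products differ by an element over the line
    obtain ⟨f, hf, hfπ, hfe⟩ : ∃ f ∈ Q, π f ∈ LineV s ν ∧ a * b = a' * b' * f := by
      have key : ∀ w : centralizer ({z} : Set G), w = 1 ∨ w = zc →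
          (w * ((x' : centralizer ({z} : Set G)) * y'))⁻¹ * (x * y) ∈ E →
          ∃ f ∈ Q, π f ∈ LineV s ν ∧ a * b = a' * b' * f := by
        intro w hw hmem
        set g := (w * ((x' : centralizer ({z} : Set G)) * y'))⁻¹ * (x * y) with hg
        have hwQ : w ∈ Q := by rcases hw with rfl | rfl; exacts [one_mem Q, D.ext.mem]
        have hwπ : π w = 0 := by rcases hw with rfl | rfl; exacts [LFElem89.pi_one D, pi_zc D C]
        have hgc := (mem_CH D C S K).1 hc g hmem
        have hwc : ∀ v : centralizer ({z} : Set G), v * w = w * v := fun v => by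
          rcases hw with rfl | rfl
          · rw [mul_one, one_mul]
          · exact D.zc_central v
        refine ⟨w * g, mul_mem hwQ (K.isE.le hmem), ?_, ?_⟩
        · rw [D.link.add _ hwQ _ (K.isE.le hmem), hwπ, zero_add]; exact pi_E D C S K hmem
        · calc a * b = c * (w * (x' * y') * g) * c⁻¹ := by
                rw [hg, mul_inv_cancel_left, ha, hb]; group
            _ = (c * w * c⁻¹) * (a' * b') * (c * g * c⁻¹) := by rw [ha', hb']; group
            _ = w * (a' * b') * g := by rw [hgc, hwc c, mul_inv_cancel_right]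
            _ = a' * b' * (w * g) := by rw [← hwc (a' * b'), mul_assoc]
      rcases heq with heq | heq
      · refine key 1 (Or.inl rfl) ?_
        rw [one_mul]
        have := (toL_eq D C S K (c := x' * y') (d := x * y)).1 heq.symm
        exact this
      · refine key zc (Or.inr rfl) ?_
        have := (toL_eq D C S K (c := ⟨zc, zc_CH D C S K⟩ * (x' * y')) (d := x * y)).1 heq.symm
        exact this
    refine hnl ?_
    rw [hfe, D.link.add _ hq _ hf]
    refine line_add D C S K (S.meet _ hT' hne2 _ ?_ hr3) hfπ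
    have e3 : π (a' * b') = π (a * b) + π f := by
      rw [hfe, D.link.add _ hq _ hf, add_assoc, D.orth.two, add_zero]
    rw [e3]
    refine add_mem hr ?_
    -- the line lies in the range
    obtain ⟨w, hw⟩ : π f ∈ (ee ρ (tauE h Φ)).range := line_range D C S K hfπ
    exact ⟨w, hw⟩
  · obtain ⟨x, hx, hxz, rfl⟩ := (hX a).1 ha
    obtain ⟨y, hy, hyz, rfl⟩ := (hX b).1 hb
    obtain ⟨c, hc, hcxy⟩ := transitive D C S K hx hy hxz hyz
    refine ⟨toL D C S K ⟨c, hc⟩, ?_, ?_⟩
    · show toL D C S K _ * zl = zl * toL D C S K _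
      rw [hzl, ← toL_mul, ← toL_mul]
      exact congrArg _ (Subtype.ext (D.zc_central c))
    · rw [← toL_inv, ← toL_mul, ← toL_mul]
      exact congrArg _ (Subtype.ext hcxy)
  · refine le_antisymm ((Subgroup.closure_le _).2 ?_) fun l hl => ?_
    · rintro l (rfl | hl)
      · exact Subgroup.mem_centralizer_singleton_iff.2 rfl
      · exact Subgroup.mem_centralizer_singleton_iff.2 hl.2.1.eq
    · obtain ⟨c, rfl⟩ := exists_CH D C S K (l := l)
        (show Commute l zl from Subgroup.mem_centralizer_singleton_iff.1 hl)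
      obtain ⟨c, hc⟩ := c
      have key : ∀ d (hd : d ∈ Subgroup.closure (insert zc (DH z E ∪ (E : Set (centralizer ({z} : Set G)))))),
          ∃ hd' : d ∈ CH E, toL D C S K ⟨d, hd'⟩ ∈ Subgroup.closure (insert zl (Xa (DL zl) zl)) := by
        intro d hd
        induction hd using Subgroup.closure_induction with
        | mem d hd =>
          rcases hd with rfl | hd | hd
          · exact ⟨zc_CH D C S K, Subgroup.subset_closure (Set.mem_insert _ _)⟩
          · refine ⟨(DH_spec D C S K hd).1, ?_⟩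
            by_cases e : d = zc
            · subst e; exact Subgroup.subset_closure (Set.mem_insert _ _)
            · exact Subgroup.subset_closure (Set.mem_insert_of_mem _ ((hX _).2 ⟨_, hd, e, rfl⟩))
          · refine ⟨Subgroup.mem_centralizer_iff.2 fun e he => K.ea.2 e he d hd, ?_⟩
            have e1 : ∀ hd', toL D C S K ⟨d, hd'⟩ = 1 := fun hd' => by
              rw [← toL_one D C S K, toL_eq]
              simpa using E.inv_mem hd
            rw [e1]; exact one_mem _
        | one => exact ⟨one_mem _, one_mem _⟩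
        | mul a b _ _ ia ib => exact ⟨mul_mem ia.1 ib.1, mul_mem ia.2 ib.2⟩
        | inv a _ ia => exact ⟨inv_mem ia.1, inv_mem ia.2⟩
      exact (key c (CH_le D C S K hc)).2
  · obtain ⟨c, rfl⟩ := exists_CH D C S K ha
    rw [psi_toL] at hψ
    obtain ⟨k, hk⟩ := (IsPGroup.of_card (n := 13) D.card_Q)
      ⟨(c : centralizer ({z} : Set G)), (QuotientGroup.eq_one_iff _).1 hψ⟩
    refine ⟨k, ?_⟩
    have e : c ^ 2 ^ k = 1 := Subtype.ext (by simpa using congrArg Subtype.val hk)
    have : ∀ m : ℕ, (toL D C S K c) ^ m = toL D C S K (c ^ m) := fun m => by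
      induction m with
      | zero => rw [pow_zero, pow_zero, toL_one]
      | succ m ih => rw [pow_succ, pow_succ, ih, toL_mul]
    rw [this, e, toL_one]

end Cfsg.Agent.LFU62Bridge19
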