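import Mathlib
import Cfsg.Agent.Lib.U62RecogSetup19

/-!
The component of `z` in the commuting graph on its conjugates has 693 vertices and diameter two,
and two vertices of it that do not commute generate a dihedral group of order six.
-/

set_option autoImplicit false
set_option linter.unusedSectionVars false
set_option linter.style.haveILetI false

namespace Cfsg.Agent.U62RecogGraph19

open Cfsg.Agent.U62RecogSetup19

universe u v

variable {L : Type u} [Group L] [Finite L] {U : Type v} [Group U]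

/-- The conjugates at distance two. -/
def Far (D : Set L) (z : L) : Set L := {b | b ∈ D ∧ ¬ Commute b z ∧ ∃ l ∈ Xa D z, Commute b l}

/-- Adjacency: commuting conjugates. -/
def Adj (D : Set L) (a b : L) : Prop := a ∈ D ∧ b ∈ D ∧ Commute a b

/-- The component of `z`. -/
def Gam (D : Set L) (z : L) : Set L := {d | Relation.ReflTransGen (Adj D) z d}

theorem same_symm {D : Set L} {a x y : L} (h : Same D a x y) : Same D a y x := fun g hg hga =>
  (h g hg hga).symm

theorem same_trans {D : Set L} {a x y w : L} (h : Same D a x y) (h' : Same D a y w) : Same D a x w :=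
  fun g hg hga => (h g hg hga).trans (h' g hg hga)

theorem rtg_symm {D : Set L} {a b : L} (h : Relation.ReflTransGen (Adj D) a b) :
    Relation.ReflTransGen (Adj D) b a := by
  induction h with
  | refl => exact Relation.ReflTransGen.refl
  | tail _ h2 ih => exact Relation.ReflTransGen.head ⟨h2.2.1, h2.1, h2.2.2.symm⟩ ih

variable {D : Set L} {z : L} {T : Set U} {ψ : L → U} (S : Setup D z T ψ)
include S

theorem rtg_conj {a b : L} (g : L) (h : Relation.ReflTransGen (Adj D) a b) :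
    Relation.ReflTransGen (Adj D) (g * a * g⁻¹) (g * b * g⁻¹) := by
  induction h with
  | refl => exact Relation.ReflTransGen.refl
  | tail _ h2 ih => exact ih.tail ⟨conj_mem S h2.1 g, conj_mem S h2.2.1 g, commute_cj g h2.2.2⟩

theorem ncard_preim {A : Set U} (hA : A ⊆ T) :
    {x | x ∈ Xa D z ∧ ψ x ∈ A}.ncard = 4 * A.ncard := by
  classical
  have := Fintype.ofFinite L
  have hAfin : A.Finite := (Set.finite_of_ncard_ne_zero (by rw [S.graph.card]; norm_num)).subset hA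
  have hs : {x | x ∈ Xa D z ∧ ψ x ∈ A}.Finite := Set.toFinite _
  rw [Set.ncard_eq_toFinset_card _ hs, Set.ncard_eq_toFinset_card _ hAfin,
    Finset.card_eq_sum_card_fiberwise (f := ψ) (t := hAfin.toFinset)
      (fun x hx => by
        simp only [Finset.mem_coe, Set.Finite.mem_toFinset, Set.mem_ofPred_eq] at hx ⊢
        exact hx.2),
    Finset.sum_const_nat (m := 4), mul_comm]
  intro t ht
  rw [Set.Finite.mem_toFinset] at ht
  rw [← S.fibre t (hA ht), Set.ncard_eq_toFinset_card _ (Set.toFinite _)]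
  congr 1
  ext x
  simp only [Finset.mem_filter, Set.Finite.mem_toFinset, Set.mem_ofPred_eq]
  exact ⟨fun h => ⟨h.1.1, h.2⟩, fun h => ⟨⟨h.1, h.2 ▸ ht⟩, h.2⟩⟩

/-- Common neighbours in the centralizer of two members that do not commute. -/
theorem card_common {x y : L} (hx : x ∈ Xa D z) (hy : y ∈ Xa D z) (h : ¬ Commute x y) :
    {g | g ∈ Xa D z ∧ Commute g x ∧ Commute g y}.ncard = 12 := by
  have hc : ¬ Commute (ψ x) (ψ y) := fun e => h ((S.comm x hx y hy).2 e)
  have e : {g | g ∈ Xa D z ∧ Commute g x ∧ Commute g y} =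
      {g | g ∈ Xa D z ∧ ψ g ∈ {u | u ∈ T ∧ Commute u (ψ x) ∧ Commute u (ψ y)}} := by
    ext g
    constructor
    · rintro ⟨hg, h1, h2⟩
      exact ⟨hg, S.img g hg, (S.comm g hg x hx).1 h1, (S.comm g hg y hy).1 h2⟩
    · rintro ⟨hg, -, h1, h2⟩
      exact ⟨hg, (S.comm g hg x hx).2 h1, (S.comm g hg y hy).2 h2⟩
  rw [e, ncard_preim S (fun u hu => hu.1), S.graph.com _ (S.img x hx) _ (S.img y hy) hc]

theorem card_commuting {y : L} (hy : y ∈ Xa D z) :
    {g | g ∈ Xa D z ∧ Commute g y}.ncard = 52 := by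
  have hA : {u | u ∈ T ∧ Commute u (ψ y)} = insert (ψ y) {s | s ∈ T ∧ s ≠ ψ y ∧ Commute s (ψ y)} := by
    ext u
    simp only [Set.mem_insert_iff, Set.mem_ofPred_eq]
    constructor
    · rintro ⟨h1, h2⟩
      by_cases e : u = ψ y
      · exact Or.inl e
      · exact Or.inr ⟨h1, e, h2⟩
    · rintro (rfl | ⟨h1, -, h2⟩)
      · exact ⟨S.img y hy, Commute.refl _⟩
      · exact ⟨h1, h2⟩
  have e : {g | g ∈ Xa D z ∧ Commute g y} =
      {g | g ∈ Xa D z ∧ ψ g ∈ {u | u ∈ T ∧ Commute u (ψ y)}} := by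
    ext g
    exact ⟨fun ⟨hg, h1⟩ => ⟨hg, S.img g hg, (S.comm g hg y hy).1 h1⟩,
      fun ⟨hg, _, h1⟩ => ⟨hg, (S.comm g hg y hy).2 h1⟩⟩
  rw [e, ncard_preim S (fun u hu => hu.1), hA, Set.ncard_insert_of_notMem (fun h => h.2.1 rfl)
    ((Set.finite_of_ncard_ne_zero (by rw [S.graph.deg _ (S.img y hy)]; norm_num))),
    S.graph.deg _ (S.img y hy)]

theorem z_mem_xa {l : L} (hl : l ∈ Xa D z) : z ∈ Xa D l :=
  ⟨z_mem S, hl.2.1.symm, hl.2.2.symm⟩

theorem card_out {l : L} (hl : l ∈ Xa D z) :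
    {b | b ∈ Xa D l ∧ ¬ Commute b z}.ncard = 128 := by
  obtain ⟨ψ', S'⟩ := move S hl.1
  have hin : {b | b ∈ Xa D l ∧ Commute b z} =
      insert z ({g | g ∈ Xa D z ∧ Commute g l} \ {l}) := by
    ext b
    simp only [Set.mem_insert_iff, Set.mem_sdiff, Set.mem_singleton_iff, Set.mem_ofPred_eq]
    constructor
    · rintro ⟨hb, hbz⟩
      by_cases e : b = z
      · exact Or.inl e
      · exact Or.inr ⟨⟨⟨hb.1, hbz, e⟩, hb.2.1⟩, hb.2.2⟩
    · rintro (rfl | ⟨⟨hb, hbl⟩, hne⟩)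
      · exact ⟨z_mem_xa S hl, Commute.refl _⟩
      · exact ⟨⟨hb.1, hbl, hne⟩, hb.2.1⟩
  have h52 : {b | b ∈ Xa D l ∧ Commute b z}.ncard = 52 := by
    have hlm : l ∈ {g | g ∈ Xa D z ∧ Commute g l} := ⟨hl, Commute.refl l⟩
    rw [hin, Set.ncard_insert_of_notMem (fun h => h.1.1.2.2 rfl) (Set.toFinite _),
      Set.ncard_sdiff_singleton_of_mem hlm, card_commuting S hl]
  have := Set.ncard_sdiff_add_ncard_of_subset (s := {b | b ∈ Xa D l ∧ Commute b z}) (t := Xa D l)
    (fun b hb => hb.1) (Set.toFinite _)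
  have e : Xa D l \ {b | b ∈ Xa D l ∧ Commute b z} = {b | b ∈ Xa D l ∧ ¬ Commute b z} := by
    ext b
    exact ⟨fun h => ⟨h.1, fun c => h.2 ⟨h.1, c⟩⟩, fun h => ⟨h.1, fun c => h.2 c.2⟩⟩
  rw [e, h52, S'.card_X] at this
  omega

/-- One common neighbour in each class. -/
theorem common_bij {b : L} (hb : b ∈ Far D z) :
    Set.BijOn ψ {l | l ∈ Xa D z ∧ Commute b l} T := by
  classical
  obtain ⟨hbD, hbz, l₀, hl₀, hbl₀⟩ := hb
  refine ⟨fun l hl => S.img l hl.1, fun l hl l' hl' e => ?_, ?_⟩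
  · by_contra hne
    exact hbz (comm_base S hl.1 hl'.1 hne e hbD hl.2 hl'.2)
  have step : ∀ l, l ∈ Xa D z → Commute b l → ∀ t ∈ T, t ≠ ψ l → Commute t (ψ l) →
      ∃ y, y ∈ Xa D z ∧ Commute b y ∧ ψ y = t := by
    intro l hl hbl t ht hne hc
    obtain ⟨ψ', S'⟩ := move S hl.1
    let F := {y | y ∈ Xa D z ∧ ψ y = t}
    have hFl : ∀ y ∈ F, y ∈ Xa D l := fun y hy => ⟨hy.1.1,
      (S.comm y hy.1 l hl).2 (hy.2.symm ▸ hc), fun e => hne (by rw [← hy.2, e])⟩
    have hzl := z_mem_xa S hl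
    have hinj : Set.InjOn ψ' F := by
      intro y hy y' hy' e
      by_contra hyy
      have h1 : Same D l y y' := (same_iff S' (hFl y hy) (hFl y' hy')).2 e
      have h2 : Same D y l y' := line_symm S' (hFl y hy) (hFl y' hy') hyy h1
      have h3 : Same D y z y' :=
        line_symm S hy.1 hy'.1 hyy ((same_iff S hy.1 hy'.1).2 (hy.2.trans hy'.2.symm))
      obtain ⟨ψy, Sy⟩ := move S hy.1.1
      have h4 : Same D z y l := line_symm Sy (z_mem_xa S hy.1)
        ⟨hl.1, ((hFl y hy).2.1).symm, (hFl y hy).2.2.symm⟩ hl.2.2.symm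
        (same_trans h3 (same_symm h2))
      exact hne (by rw [← hy.2, (same_iff S hy.1 hl).1 h4])
    have hzne : ∀ y ∈ F, ψ' z ≠ ψ' y := by
      intro y hy e
      have h1 : Same D l z y := (same_iff S' hzl (hFl y hy)).2 e
      have h2 : Same D z l y := line_symm S' hzl (hFl y hy) hy.1.2.2.symm h1
      exact hne (by rw [← hy.2, (same_iff S hl hy.1).1 h2])
    set K := insert (ψ' z) (ψ' '' F) with hK
    have hKfin : (ψ' '' F).Finite := (Set.toFinite F).image _
    have hK5 : K.ncard = 5 := by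
      rw [hK, Set.ncard_insert_of_notMem (by rintro ⟨y, hy, e⟩; exact hzne y hy e.symm) hKfin,
        Set.InjOn.ncard_image hinj, S.fibre t ht]
    have hKT : K ⊆ T := by
      rintro u (rfl | ⟨y, hy, rfl⟩)
      · exact S'.img z hzl
      · exact S'.img y (hFl y hy)
    have hKc : ∀ u ∈ K, ∀ w ∈ K, Commute u w := by
      have h1 : ∀ y ∈ F, Commute (ψ' z) (ψ' y) := fun y hy =>
        (S'.comm z hzl y (hFl y hy)).1 hy.1.2.1.symm
      rintro u (rfl | ⟨y, hy, rfl⟩) w (rfl | ⟨y', hy', rfl⟩)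
      · exact Commute.refl _
      · exact h1 y' hy'
      · exact (h1 y hy).symm
      · exact (S'.comm y (hFl y hy) y' (hFl y' hy')).1
          (comm_same S hy.1 hy'.1 (hy.2.trans hy'.2.symm))
    have hbl' : b ∈ Xa D l := ⟨hbD, hbl, fun e => hbz (e ▸ hl.2.1)⟩
    obtain ⟨a, ha, hca⟩ := S'.graph.gq K hKT hK5 hKc _ (S'.img b hbl')
    rcases ha with rfl | ⟨y, hy, rfl⟩
    · exact absurd ((S'.comm b hbl' z hzl).2 hca) hbz
    · exact ⟨y, hy.1, (S'.comm b hbl' y (hFl y hy)).2 hca, hy.2⟩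
  intro t ht
  have hl₀T := S.img l₀ hl₀
  by_cases e : t = ψ l₀
  · exact ⟨l₀, ⟨hl₀, hbl₀⟩, e.symm⟩
  by_cases hc : Commute t (ψ l₀)
  · obtain ⟨y, h1, h2, h3⟩ := step l₀ hl₀ hbl₀ t ht e hc
    exact ⟨y, ⟨h1, h2⟩, h3⟩
  obtain ⟨u, hu, hu1, hu2⟩ := Set.nonempty_of_ncard_ne_zero
    (show {u | u ∈ T ∧ Commute u t ∧ Commute u (ψ l₀)}.ncard ≠ 0 by
      rw [S.graph.com t ht _ hl₀T hc]; norm_num)
  have hue : u ≠ ψ l₀ := fun e' => hc (e' ▸ hu1).symm
  obtain ⟨y, h1, h2, h3⟩ := step l₀ hl₀ hbl₀ u hu hue hu2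
  obtain ⟨y', h1', h2', h3'⟩ := step y h1 h2 t ht (fun e' => hc (by rw [e', h3]; exact hu2))
    (by rw [h3]; exact hu1.symm)
  exact ⟨y', ⟨h1', h2'⟩, h3'⟩

theorem card_common_far {b : L} (hb : b ∈ Far D z) :
    {l | l ∈ Xa D z ∧ Commute b l}.ncard = 45 := by
  have h := common_bij S hb
  rw [← h.injOn.ncard_image, h.image_eq, S.graph.card]

theorem card_Far : (Far D z).ncard = 512 := by
  classical
  have := Fintype.ofFinite L
  let X := (Xa D z).toFinset
  let Fr := (Far D z).toFinset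
  have key := Finset.sum_card_bipartiteAbove_eq_sum_card_bipartiteBelow
    (fun (b l : L) => Commute b l) (s := Fr) (t := X)
  have h1 : ∀ b ∈ Fr, (X.bipartiteAbove (fun b l : L => Commute b l) b).card = 45 := by
    intro b hb
    rw [← card_common_far S (Set.mem_toFinset.1 hb), Set.ncard_eq_toFinset_card']
    congr 1
    ext l
    simp [Finset.bipartiteAbove, X]
  have h2 : ∀ l ∈ X, (Fr.bipartiteBelow (fun b l : L => Commute b l) l).card = 128 := by
    intro l hl
    rw [← card_out S (Set.mem_toFinset.1 hl), Set.ncard_eq_toFinset_card']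
    congr 1
    ext b
    simp only [Finset.bipartiteBelow, Finset.mem_filter, Set.mem_toFinset, Set.mem_ofPred_eq, Fr]
    constructor
    · rintro ⟨⟨hbD, hbz, -⟩, hbl⟩
      exact ⟨⟨hbD, hbl, fun e => hbz (e ▸ (Set.mem_toFinset.1 hl).2.1)⟩, hbz⟩
    · rintro ⟨hb, hbz⟩
      exact ⟨⟨hb.1, hbz, l, Set.mem_toFinset.1 hl, hb.2.1⟩, hb.2.1⟩
  rw [Finset.sum_const_nat h1, Finset.sum_const_nat h2,
    show X.card = 180 by rw [← Set.ncard_eq_toFinset_card', S.card_X],
    ← Set.ncard_eq_toFinset_card'] at key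
  omega

/-- No vertex at distance three. -/
theorem far_closed {b c : L} (hb : b ∈ Far D z) (hc : c ∈ Xa D b) :
    c = z ∨ c ∈ Xa D z ∨ c ∈ Far D z := by
  obtain ⟨hbD, hbz, l₀, hl₀, hbl₀⟩ := hb
  obtain ⟨ψ', S'⟩ := move S hbD
  have hzb : z ∈ Far D b := ⟨z_mem S, fun e => hbz e.symm, l₀,
    ⟨hl₀.1, hbl₀.symm, fun e => hbz (e ▸ hl₀.2.1)⟩, hl₀.2.1.symm⟩
  obtain ⟨l, ⟨hl, hzl⟩, hle⟩ := (common_bij S' hzb).surjOn (S'.img c hc)
  by_cases hcz : Commute c z
  · by_cases e : c = z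
    · exact Or.inl e
    · exact Or.inr (Or.inl ⟨hc.1, hcz, e⟩)
  · refine Or.inr (Or.inr ⟨hc.1, hcz, l, ⟨hl.1, hzl.symm, fun e => hbz (e ▸ hl.2.1).symm⟩, ?_⟩)
    exact comm_same S' hc hl hle.symm

theorem gam_eq : Gam D z = insert z (Xa D z ∪ Far D z) := by
  ext d
  simp only [Gam, Set.mem_ofPred_eq, Set.mem_insert_iff, Set.mem_union]
  constructor
  · intro h
    induction h with
    | refl => exact Or.inl rfl
    | @tail b c _ h2 ih =>
      obtain ⟨hb, hc, hbc⟩ := h2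
      rcases ih with hb' | hb' | hb'
      · subst hb'
        by_cases e : c = b
        · exact Or.inl e
        · exact Or.inr (Or.inl ⟨hc, hbc.symm, e⟩)
      · by_cases e : c = z
        · exact Or.inl e
        by_cases hcz : Commute c z
        · exact Or.inr (Or.inl ⟨hc, hcz, e⟩)
        · exact Or.inr (Or.inr ⟨hc, hcz, b, hb', hbc.symm⟩)
      · by_cases e : c = b
        · exact Or.inr (Or.inr (e ▸ hb'))
        exact far_closed S hb' ⟨hc, hbc.symm, e⟩
  · rintro (rfl | h | ⟨hd, -, l, hl, hdl⟩)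
    · exact Relation.ReflTransGen.refl
    · exact Relation.ReflTransGen.single ⟨z_mem S, h.1, h.2.1.symm⟩
    · exact (Relation.ReflTransGen.single (show Adj D z l from ⟨z_mem S, hl.1, hl.2.1.symm⟩)).tail
        ⟨hl.1, hd, hdl.symm⟩

theorem gam_sub : Gam D z ⊆ D := by
  rw [gam_eq S]
  rintro d (rfl | h | h)
  exacts [z_mem S, h.1, h.1]

theorem card_Gam : (Gam D z).ncard = 693 := by
  rw [gam_eq S, Set.ncard_insert_of_notMem _ (Set.toFinite _),
    Set.ncard_union_eq _ (Set.toFinite _) (Set.toFinite _), S.card_X, card_Far S]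
  · exact Set.disjoint_left.2 fun d h h' => h'.2.1 h.2.1
  · rintro (h | h)
    exacts [h.2.2 rfl, h.2.1 (Commute.refl _)]

theorem psi_one : ψ 1 = 1 := by
  have := S.hom 1 1 (Commute.one_left z) (Commute.one_left z)
  rw [mul_one] at this
  exact mul_eq_left.1 this.symm

/-- The braid relation for two members of the centralizer. -/
theorem braid_X {x y : L} (hx : x ∈ Xa D z) (hy : y ∈ Xa D z) (h : ¬ Commute x y) :
    x * y * x = y * x * y := by
  by_contra hne
  obtain ⟨ψ', S'⟩ := move S hx.1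
  have hyf : y ∈ Far D x :=
    ⟨hy.1, fun e => h e.symm, z, z_mem_xa S hx, hy.2.1⟩
  have h45 := card_common_far S' hyf
  have hmk : ∀ u v : L, u ∈ Xa D z → v ∈ Xa D z →
      u * v * u ∈ Xa D z ∧ ψ (u * v * u) = ψ u * ψ v * ψ u := by
    intro u v hu hv
    have h1 := xa_conj S u hv
    rw [mul_inv_eq_iff_eq_mul.2 hu.2.1.eq, mem_inv S hu.1] at h1
    exact ⟨h1, by rw [S.hom _ _ (hu.2.1.mul_left hv.2.1) hu.2.1, S.hom _ _ hu.2.1 hv.2.1]⟩
  obtain ⟨hw, hwψ⟩ := hmk x y hx hy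
  obtain ⟨hw', hw'ψ⟩ := hmk y x hy hx
  have hψ : ψ (x * y * x) = ψ (y * x * y) := by
    rw [hwψ, hw'ψ]
    exact S.graph.braid _ (S.img x hx) _ (S.img y hy) fun e => h ((S.comm x hx y hy).2 e)
  have hsub : {l | l ∈ Xa D x ∧ Commute y l} ⊆
      insert z {g | g ∈ Xa D z ∧ Commute g x ∧ Commute g y} := by
    rintro l ⟨hl, hly⟩
    have hlz : Commute l z := comm_base S hw hw' hne hψ hl.1
      ((hl.2.1.mul_right hly.symm).mul_right hl.2.1) ((hly.symm.mul_right hl.2.1).mul_right hly.symm)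
    by_cases e : l = z
    · exact Or.inl e
    · exact Or.inr ⟨⟨hl.1, hlz, e⟩, hl.2.1, hly.symm⟩
  have := (Set.ncard_le_ncard hsub (Set.toFinite _)).trans (Set.ncard_insert_le _ _)
  rw [h45, card_common S hx hy h] at this
  omega

/-- Two vertices of the component commute or generate a dihedral group of order six. -/
theorem braid_gam {a b : L} (ha : a ∈ Gam D z) (hb : b ∈ Gam D z) (h : ¬ Commute a b) :
    a * b * a = b * a * b := by
  obtain ⟨ψ', S'⟩ := move S (gam_sub S ha)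
  have hab : b ∈ Gam D a := (rtg_symm ha).trans hb
  rw [gam_eq S'] at hab
  rcases hab with rfl | hab | ⟨hbD, -, l, hl, hbl⟩
  · exact absurd (Commute.refl b) h
  · exact absurd hab.2.1.symm h
  obtain ⟨ψl, Sl⟩ := move S hl.1
  exact braid_X Sl ⟨gam_sub S ha, hl.2.1.symm, hl.2.2.symm⟩
    ⟨hbD, hbl, fun e => h (e ▸ hl.2.1.symm)⟩ h

/-- The stabiliser of the component. -/
def Mg (S : Setup D z T ψ) : Subgroup L where
  carrier := {g | g * z * g⁻¹ ∈ Gam D z}
  one_mem' := by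
    show (1 : L) * z * 1⁻¹ ∈ Gam D z
    rw [inv_one, one_mul, mul_one]; exact Relation.ReflTransGen.refl
  mul_mem' := fun {g h} hg hh => by
    have := hg.trans (rtg_conj S g hh)
    show Relation.ReflTransGen (Adj D) z (g * h * z * (g * h)⁻¹)
    rwa [show g * h * z * (g * h)⁻¹ = g * (h * z * h⁻¹) * g⁻¹ by group]
  inv_mem' := fun {g} hg => by
    have := rtg_conj S g⁻¹ (rtg_symm hg)
    show Relation.ReflTransGen (Adj D) z (g⁻¹ * z * g⁻¹⁻¹)
    rwa [show g⁻¹ * (g * z * g⁻¹) * g⁻¹⁻¹ = z by group] at this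

theorem mem_Mg {g : L} : g ∈ Mg S ↔ g * z * g⁻¹ ∈ Gam D z := Iff.rfl

theorem Mg_conj {g d : L} (hg : g ∈ Mg S) (hd : d ∈ Gam D z) : g * d * g⁻¹ ∈ Gam D z :=
  ((mem_Mg S).1 hg).trans (rtg_conj S g hd)

theorem conj_back {g d : L} (hd : d ∈ Gam D z) (h : g * d * g⁻¹ ∈ Gam D z) : g ∈ Mg S :=
  h.trans (rtg_conj S g (rtg_symm hd))

theorem cent_le : Subgroup.centralizer ({z} : Set L) ≤ Mg S := fun g hg => by
  rw [mem_Mg, mul_inv_eq_iff_eq_mul.2 (Subgroup.mem_centralizer_singleton_iff.1 hg)]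
  exact Relation.ReflTransGen.refl

theorem gam_le_Mg {d : L} (hd : d ∈ Gam D z) : d ∈ Mg S := by
  have hdD := gam_sub S hd
  by_cases hc : Commute d z
  · exact cent_le S (Subgroup.mem_centralizer_singleton_iff.2 hc.eq)
  rw [gam_eq S] at hd
  rcases hd with rfl | hd | ⟨-, -, l, hl, hdl⟩
  · exact absurd (Commute.refl _) hc
  · exact absurd hd.2.1 hc
  · refine (Relation.ReflTransGen.single
      (show Adj D z l from ⟨z_mem S, hl.1, hl.2.1.symm⟩)).tail ⟨hl.1, conj_mem S (z_mem S) d, ?_⟩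
    exact (hdl.symm.mul_right hl.2.1).mul_right hdl.symm.inv_right

theorem card_Mg : Nat.card (Mg S) = 693 * 13271040 := by
  letI : MulAction (Mg S) L := MulAction.compHom L ((MulAut.conj (G := L)).comp (Mg S).subtype)
  have horb : MulAction.orbit (Mg S) z = Gam D z := by
    ext b
    constructor
    · rintro ⟨m, rfl⟩; exact m.2
    · intro hb
      obtain ⟨g, rfl⟩ := exists_cj S (gam_sub S hb)
      exact ⟨⟨g, hb⟩, rfl⟩
  have hst : Nat.card (MulAction.stabilizer (Mg S) z) = Nat.card (Subgroup.centralizer ({z} : Set L)) := by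
    refine Nat.card_congr ⟨fun m => ⟨(m.1 : L), ?_⟩, fun g => ⟨⟨(g : L), cent_le S g.2⟩, ?_⟩,
      fun m => rfl, fun g => rfl⟩
    · exact Subgroup.mem_centralizer_singleton_iff.2 (mul_inv_eq_iff_eq_mul.1 m.2)
    · exact mul_inv_eq_iff_eq_mul.2 (Subgroup.mem_centralizer_singleton_iff.1 g.2)
  rw [← (MulAction.stabilizer (Mg S) z).card_mul_index, MulAction.index_stabilizer, horb, hst,
    card_Gam S, S.card_H]

end Cfsg.Agent.U62RecogGraph19
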