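import Mathlib
import Cfsg.Agent.Lib.U62RecogGraph19
import Cfsg.Agent.Lib.ZStarTheorem
import Cfsg.Agent.S1324
import Cfsg.Agent.S5438
import Cfsg.Agent.S5439

/-!
The stabiliser of the component is the whole group: it contains the centralizers of `z`, of a product
of two commuting members of the component, and of a product of three.
-/

set_option autoImplicit false
set_option linter.unusedSectionVars false
set_option linter.style.haveILetI false

namespace Cfsg.Agent.U62RecogWhole19

open Cfsg.Agent.U62RecogSetup19 Cfsg.Agent.U62RecogGraph19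

universe u v

variable {L : Type u} [Group L] [Finite L] {U : Type v} [Group U]

theorem sq_prod {a b : L} (ha : a * a = 1) (hb : b * b = 1) (h : Commute a b) :
    a * b * (a * b) = 1 := by
  rw [show a * b * (a * b) = a * (b * a) * b by group, ← h.eq,
    show a * (a * b) * b = a * a * (b * b) by group, ha, hb, one_mul]

theorem same_conj {D : Set L} (hD : ∀ g, ∀ a ∈ D, g * a * g⁻¹ ∈ D) {a x y : L} (g : L)
    (h : Same D a x y) : Same D (g * a * g⁻¹) (g * x * g⁻¹) (g * y * g⁻¹) := by
  intro d hd hda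
  have e : d = g * (g⁻¹ * d * g) * g⁻¹ := by group
  have hd' : g⁻¹ * d * g ∈ D := by simpa using hD g⁻¹ d hd
  rw [e, commute_cj_iff] at hda
  rw [e, commute_cj_iff, commute_cj_iff]
  exact h _ hd' hda

variable {D : Set L} {z : L} {T : Set U} {ψ : L → U} (S : Setup D z T ψ)
include S

theorem one_notMem : (1 : U) ∉ T := by
  intro h1
  have hd := S.graph.deg _ h1
  have : {s | s ∈ T ∧ s ≠ 1 ∧ Commute s 1} = T \ {1} := by
    ext s
    exact ⟨fun h => ⟨h.1, h.2.1⟩, fun h => ⟨h.1, h.2, Commute.one_right s⟩⟩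
  rw [this, Set.ncard_sdiff_singleton_of_mem h1, S.graph.card] at hd
  omega

/-- The product of two commuting members is not a conjugate of `z`. -/
theorem two_notMem {y : L} (hy : y ∈ Xa D z) : z * y ∉ D := by
  intro h
  have hzy : Commute (z * y) z := (Commute.refl z).mul_left hy.2.1
  have hne : z * y ≠ z := fun e => (mem_sq S hy.1).2 (mul_eq_left.1 e)
  have hmem : z * y ∈ {w | w ∈ Xa D z ∧ ψ w = ψ y} :=
    ⟨⟨h, hzy, hne⟩, by rw [S.hom _ _ (Commute.refl z) hy.2.1, psi_z S, one_mul]⟩
  have hny : z * y ≠ y := fun e => S.ne_one (mul_eq_right.1 e)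
  obtain ⟨a, b, c, ha, hb, hc, hae, hbe, hce, na, nb, nc, nab, nac, nbc, hset, hprod⟩ := four_members S hy
  rw [hset] at hmem
  have cab := comm_same S ha hb (hae.trans hbe.symm)
  have cac := comm_same S ha hc (hae.trans hce.symm)
  have cbc := comm_same S hb hc (hbe.trans hce.symm)
  have hzy2 : ∀ w, y * w = z → w = z * y := fun w e => by
    calc w = y * (y * w) := by rw [← mul_assoc, (mem_sq S hy.1).1, one_mul]
      _ = y * z := by rw [e]
      _ = z * y := hy.2.1.eq
  have hkey : a * b * c = z * y := hzy2 _ (by rw [← hprod]; group)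
  rcases hmem with e | e | e | e
  · exact hny e
  · rw [e, mul_assoc] at hkey
    exact nbc (by rw [← mem_inv S hb.1]; exact inv_eq_of_mul_eq_one_right (mul_eq_left.1 hkey))
  · rw [e, cab.eq, mul_assoc] at hkey
    exact nac (by rw [← mem_inv S ha.1]; exact inv_eq_of_mul_eq_one_right (mul_eq_left.1 hkey))
  · rw [e] at hkey
    exact nab (by rw [← mem_inv S ha.1]; exact inv_eq_of_mul_eq_one_right (mul_eq_right.1 hkey))

/-- Three distinct commuting members have no member as product, one of them being `z`. -/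
theorem three_notMem {x y : L} (hx : x ∈ Xa D z) (hy : y ∈ Xa D z) (hne : x ≠ y) (hc : Commute x y) :
    z * x * y ∉ D := by
  intro h
  have hcz : Commute (z * x * y) z := ((Commute.refl z).mul_left hx.2.1).mul_left hy.2.1
  have hnz : z * x * y ≠ z := by
    intro e
    rw [mul_assoc] at e
    have := inv_eq_of_mul_eq_one_right (mul_eq_left.1 e)
    rw [mem_inv S hx.1] at this
    exact hne this
  have hψ : ψ (z * x * y) = ψ x * ψ y := by
    rw [S.hom _ _ ((Commute.refl z).mul_left hx.2.1) hy.2.1, S.hom _ _ (Commute.refl z) hx.2.1,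
      psi_z S, one_mul]
  have hT := S.img _ ⟨h, hcz, hnz⟩
  rw [hψ] at hT
  by_cases e : ψ x = ψ y
  · rw [← e, S.graph.inv _ (S.img x hx)] at hT
    exact one_notMem S hT
  · exact S.graph.prod _ (S.img x hx) _ (S.img y hy) e ((S.comm x hx y hy).1 hc) hT

/-- A member of the component centralising a product centralises the factors. -/
theorem pair_cent {y p : L} (hy : y ∈ Xa D z) (hp : p ∈ Gam D z) (h : Commute p (z * y)) :
    Commute p z := by
  by_contra hpz
  have hpD := gam_sub S hp
  have hpy : ¬ Commute p y := fun hpy => hpz (by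
    have := h.mul_right hpy
    rwa [mul_assoc, (mem_sq S hy.1).1, mul_one] at this)
  have hfar : p ∈ Far D z := by
    rw [gam_eq S] at hp
    rcases hp with rfl | hp | hp
    · exact absurd (Commute.refl _) hpz
    · exact absurd hp.2.1 hpz
    · exact hp
  obtain ⟨l, ⟨hl, hpl⟩, hle⟩ := (common_bij S hfar).surjOn (S.img y hy)
  have hly : l ≠ y := fun e => hpy (e ▸ hpl)
  have hlz : z ∈ Xa D l := z_mem_xa S hl
  have hyl : y ∈ Xa D l := ⟨hy.1, (comm_same S hy hl hle.symm), hly.symm⟩
  have hsame : Same D l z y := line_symm S hl hy hly ((same_iff S hl hy).2 hle)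
  have hlfix : p * l * p⁻¹ = l := mul_inv_eq_iff_eq_mul.2 hpl.eq
  have hsame' : Same D l (p * z * p⁻¹) (p * y * p⁻¹) := by
    have := same_conj (fun g a ha => conj_mem S ha g) p hsame
    rwa [hlfix] at this
  have hz' : p * z * p⁻¹ ∈ Xa D l := by simpa [hlfix] using xa_conj S p hlz
  have hy' : p * y * p⁻¹ ∈ Xa D l := by simpa [hlfix] using xa_conj S p hyl
  obtain ⟨ψ', S'⟩ := move S hl.1
  have heq : p * z * p⁻¹ * (p * y * p⁻¹) = z * y := by
    rw [show p * z * p⁻¹ * (p * y * p⁻¹) = p * (z * y) * p⁻¹ by group]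
    exact mul_inv_eq_iff_eq_mul.2 h.eq
  have he := S'.sepQ z hlz y hyl _ hz' _ hy' ((same_iff S' hlz hyl).1 hsame)
    ((same_iff S' hz' hy').1 hsame') hy.2.2.symm (cj_ne hy.2.2.symm) (Or.inl heq.symm)
  have hc : Commute z (p * z * p⁻¹) := comm_same S' hlz hz' he
  rw [mem_inv S hpD] at hc
  have hb := braid_gam S (Relation.ReflTransGen.refl : z ∈ Gam D z) hp (fun e => hpz e.symm)
  refine hpz ?_
  show p * z = z * p
  calc p * z = z * z * (p * z) := by rw [S.zz, one_mul]
    _ = z * (z * p * z) := by group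
    _ = z * (p * z * p) := by rw [hb]
    _ = p * z * p * z := hc.eq
    _ = z * p * z * z := by rw [← hb]
    _ = z * p * (z * z) := by group
    _ = z * p := by rw [S.zz, mul_one]

/-- A pair of distinct commuting vertices of the component is a conjugate of `(z, y)`. -/
theorem pair_move {a b : L} (ha : a ∈ Gam D z) (hb : b ∈ Gam D z) (hne : a ≠ b) (hc : Commute a b)
    {y : L} (hy : y ∈ Xa D z) : ∃ g ∈ Mg S, g * z * g⁻¹ = a ∧ g * y * g⁻¹ = b := by
  obtain ⟨g, hg⟩ := exists_cj S (gam_sub S ha)
  have hb' : g⁻¹ * b * g ∈ Xa D z := by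
    have := xa_conj S g⁻¹ (show b ∈ Xa D a from ⟨gam_sub S hb, hc.symm, hne.symm⟩)
    rw [← hg] at this
    simpa [mul_assoc] using this
  obtain ⟨h, hh, e⟩ := S.transX y hy _ hb'
  refine ⟨g * h, ?_, ?_, ?_⟩
  · exact mul_mem (show g * z * g⁻¹ ∈ Gam D z from hg.symm ▸ ha)
      (cent_le S (Subgroup.mem_centralizer_singleton_iff.2 hh.eq))
  · rw [show g * h * z * (g * h)⁻¹ = g * (h * z * h⁻¹) * g⁻¹ by group,
      mul_inv_eq_iff_eq_mul.2 hh.eq, hg]
  · rw [show g * h * y * (g * h)⁻¹ = g * (h * y * h⁻¹) * g⁻¹ by group, e]; group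

theorem xa_nonempty : (Xa D z).Nonempty :=
  Set.nonempty_of_ncard_ne_zero (by rw [S.card_X]; norm_num)

theorem pair_cent_any {a b p : L} (ha : a ∈ Gam D z) (hb : b ∈ Gam D z) (hne : a ≠ b)
    (hc : Commute a b) (hp : p ∈ Gam D z) (h : Commute p (a * b)) : Commute p a ∧ Commute p b := by
  obtain ⟨y, hy⟩ := xa_nonempty S
  obtain ⟨g, hg, rfl, rfl⟩ := pair_move S ha hb hne hc hy
  have hp' : g⁻¹ * p * g ∈ Gam D z := by simpa using Mg_conj S (inv_mem hg) hp
  have h' : Commute (g⁻¹ * p * g) (z * y) := by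
    have := commute_cj g⁻¹ h
    simpa [mul_assoc] using this
  have h1 := pair_cent S hy hp' h'
  have h2 : Commute (g⁻¹ * p * g) y := by
    have := h1.mul_right h'
    rwa [← mul_assoc, S.zz, one_mul] at this
  exact ⟨by simpa [mul_assoc] using commute_cj g h1, by simpa [mul_assoc] using commute_cj g h2⟩

theorem gam_odd_fixed {d : L} (hd : d ∈ D) (hdM : d ∈ Mg S) : ∃ a ∈ Gam D z, Commute d a := by
  classical
  have := Fintype.ofFinite L
  by_contra hno
  push Not at hno
  let f : Gam D z → Gam D z := fun a => ⟨d * a * d⁻¹, Mg_conj S hdM a.2⟩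
  have hf : Function.Involutive f := fun a => Subtype.ext (by
    show d * (d * a * d⁻¹) * d⁻¹ = (a : L)
    rw [mem_inv S hd, show d * (d * (a : L) * d) * d = d * d * a * (d * d) by group,
      (mem_sq S hd).1, one_mul, mul_one])
  haveI : Fintype (Gam D z) := Fintype.ofFinite _
  have h2 : (Equiv.Perm.support (hf.toPerm f)).card = Fintype.card (Gam D z) := by
    rw [← Finset.card_univ]
    congr 1
    refine Finset.eq_univ_iff_forall.2 fun a => Equiv.Perm.mem_support.2 fun e => hno a a.2 ?_
    exact mul_inv_eq_iff_eq_mul.1 (congrArg Subtype.val e)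
  have h3 : 2 ∣ (Equiv.Perm.support (hf.toPerm f)).card := by
    rw [← Equiv.Perm.sum_cycleType]
    refine Multiset.dvd_sum fun n hn => ?_
    have hdvd := (Equiv.Perm.dvd_of_mem_cycleType hn).trans
      (orderOf_dvd_of_pow_eq_one (n := 2) (Equiv.ext fun a => hf a))
    have := Equiv.Perm.two_le_of_mem_cycleType hn
    rw [le_antisymm (Nat.le_of_dvd two_pos hdvd) this]
  rw [h2, ← Nat.card_eq_fintype_card, Nat.card_coe_set_eq, card_Gam S] at h3
  omega

/-- The members in the stabiliser are the vertices. -/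
theorem mem_gam_of_Mg {d : L} (hd : d ∈ D) (hdM : d ∈ Mg S) : d ∈ Gam D z := by
  obtain ⟨a, ha, hc⟩ := gam_odd_fixed S hd hdM
  exact ha.tail ⟨gam_sub S ha, hd, hc.symm⟩

theorem fix_gam {d g : L} (hd : d ∈ Gam D z) (h : g⁻¹ * d * g ∈ Mg S) : g ∈ Mg S := by
  have hD : g⁻¹ * d * g ∈ D := by simpa using conj_mem S (gam_sub S hd) g⁻¹
  refine conj_back S (mem_gam_of_Mg S hD h) ?_
  rwa [show g * (g⁻¹ * d * g) * g⁻¹ = d by group]

theorem orderOf_z : orderOf z = 2 :=
  orderOf_eq_prime (by rw [pow_two, S.zz]) S.ne_one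

theorem two_central : Cfsg.IsTwoCentralInvolution z := by
  classical
  haveI : Fact (Nat.Prime 2) := ⟨Nat.prime_two⟩
  refine ⟨orderOf_z S, ?_⟩
  have := Fintype.ofFinite L
  -- a single fixed coset
  have hodd : ¬ 2 ∣ (Mg S).index := by
    haveI : Fintype (L ⧸ Mg S) := Fintype.ofFinite _
    have hz1 : z ∈ Mg S := gam_le_Mg S Relation.ReflTransGen.refl
    let e : Equiv.Perm (L ⧸ Mg S) := MulAction.toPerm z
    have he : ∀ c, e c = c → c = ((1 : L) : L ⧸ Mg S) := by
      intro c hc
      induction c using QuotientGroup.induction_on with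
      | H g =>
        have h1 := (QuotientGroup.eq.1 (show ((z * g : L) : L ⧸ Mg S) = (g : L ⧸ Mg S) from hc))
        have h2 : g⁻¹ * z * g ∈ Mg S := by
          have := inv_mem h1
          simpa [mul_assoc, mem_inv S (z_mem S)] using this
        exact QuotientGroup.eq.2 (by simpa using fix_gam S (Relation.ReflTransGen.refl) h2)
    have hfix : e ((1 : L) : L ⧸ Mg S) = ((1 : L) : L ⧸ Mg S) :=
      show ((z * 1 : L) : L ⧸ Mg S) = ((1 : L) : L ⧸ Mg S) from
        QuotientGroup.eq.2 (by simpa using hz1)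
    have hsup : e.support = Finset.univ.erase ((1 : L) : L ⧸ Mg S) := by
      ext c
      simp only [Equiv.Perm.mem_support, Finset.mem_erase, Finset.mem_univ, and_true]
      exact ⟨fun h e' => h (e' ▸ hfix), fun h h' => h (he c h')⟩
    have h2 : 2 ∣ e.support.card := by
      rw [← Equiv.Perm.sum_cycleType]
      refine Multiset.dvd_sum fun n hn => ?_
      have he2 : e ^ 2 = 1 := Equiv.ext fun c => by
        show z • z • c = c
        rw [smul_smul, S.zz, one_smul]
      have hdvd := (Equiv.Perm.dvd_of_mem_cycleType hn).trans (orderOf_dvd_of_pow_eq_one he2)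
      rw [le_antisymm (Nat.le_of_dvd two_pos hdvd) (Equiv.Perm.two_le_of_mem_cycleType hn)]
    rw [hsup, Finset.card_erase_of_mem (Finset.mem_univ _), Finset.card_univ,
      ← Nat.card_eq_fintype_card, ← Subgroup.index_eq_card] at h2
    have := Subgroup.index_ne_zero_of_finite (H := Mg S)
    omega
  set H := Subgroup.centralizer ({z} : Set L) with hH
  have hHidx : ¬ 2 ∣ H.index := by
    rw [← Subgroup.relIndex_mul_index (cent_le S)]
    intro h
    rcases (Nat.Prime.dvd_mul Nat.prime_two).1 h with h | h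
    · have h1 := Subgroup.card_mul_index (H.subgroupOf (Mg S))
      rw [Nat.card_congr (Subgroup.subgroupOfEquivOfLe (cent_le S)).toEquiv, card_Mg S, hH, S.card_H] at h1
      have : H.relIndex (Mg S) = 693 := by
        rw [hH]; show (Subgroup.subgroupOf _ _).index = 693
        omega
      rw [this] at h
      omega
    · exact hodd h
  obtain ⟨P⟩ : Nonempty (Sylow 2 H) := inferInstance
  have hcard : Nat.card ((P : Subgroup H).map H.subtype) = 2 ^ (Nat.card L).factorization 2 := by
    rw [Subgroup.card_map_of_injective H.subtype_injective, P.card_eq_multiplicity,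
      ← H.card_mul_index, Nat.factorization_mul Nat.card_pos.ne' Subgroup.index_ne_zero_of_finite,
      Finsupp.add_apply, Nat.factorization_eq_zero_of_not_dvd hHidx, add_zero]
  let PL : Sylow 2 L := Sylow.ofCard _ hcard
  have hle : (PL : Subgroup L) ≤ H := Subgroup.map_subtype_le _
  have hzP : (⟨z, Subgroup.mem_centralizer_singleton_iff.2 rfl⟩ : H) ∈ (P : Subgroup H) := by
    set zH : H := ⟨z, Subgroup.mem_centralizer_singleton_iff.2 rfl⟩
    have hcen : Subgroup.zpowers zH ≤ Subgroup.center H := Subgroup.zpowers_le.2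
      (Subgroup.mem_center_iff.2 fun x => Subtype.ext (Subgroup.mem_centralizer_singleton_iff.1 x.2))
    haveI : (Subgroup.zpowers zH).Normal :=
      ⟨fun n hn g => by rwa [Subgroup.mem_center_iff.1 (hcen hn) g, mul_inv_cancel_right]⟩
    have h2 : IsPGroup 2 (Subgroup.zpowers zH) :=
      IsPGroup.of_card (n := 1) (by rw [Nat.card_zpowers, Subgroup.orderOf_mk, orderOf_z S, pow_one])
    exact P.is_maximal' (P.isPGroup'.to_sup_of_normal_right h2) le_sup_left ▸
      Subgroup.mem_sup_right (Subgroup.mem_zpowers _)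
  exact ⟨PL, ⟨_, hzP, rfl⟩, fun x hx => Subgroup.mem_centralizer_singleton_iff.1 (hle hx)⟩

/-- The stabiliser controls the fusion of its involutions. -/
theorem fusion {x g : L} (hx : x ∈ Mg S) (hx2 : x * x = 1) (h : g * x * g⁻¹ ∈ Mg S) :
    ∃ m ∈ Mg S, m * x * m⁻¹ = g * x * g⁻¹ := by
  refine (Cfsg.Agent.S5438.result z (two_central S) (Mg S) (gam_le_Mg S Relation.ReflTransGen.refl)
    fun g hg => fix_gam S Relation.ReflTransGen.refl hg).2 x hx ?_ g h
  obtain ⟨k, -, hk⟩ := (Nat.dvd_prime_pow Nat.prime_two).1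
    (orderOf_dvd_of_pow_eq_one (n := 2 ^ 1) (show x ^ 2 ^ 1 = 1 by rw [pow_one, pow_two, hx2]))
  exact ⟨k, hk⟩

theorem cent_gam {d : L} (hd : d ∈ Gam D z) : Subgroup.centralizer ({d} : Set L) ≤ Mg S := fun g hg =>
  conj_back S hd (by rwa [mul_inv_eq_iff_eq_mul.2 (Subgroup.mem_centralizer_singleton_iff.1 hg)])

theorem gam_X {x : L} (hx : x ∈ Xa D z) : x ∈ Gam D z := by
  rw [gam_eq S]; exact Or.inr (Or.inl hx)

/-- The centralizer of a product of two commuting members. -/
theorem cent_two_base {y : L} (hy : y ∈ Xa D z) :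
    Subgroup.centralizer ({z * y} : Set L) ≤ Mg S := by
  classical
  haveI : Fact (Nat.Prime 2) := ⟨Nat.prime_two⟩
  set w := z * y with hw
  set K := Subgroup.centralizer ({w} : Set L) with hK
  have hww : w * w = 1 := sq_prod S.zz (mem_sq S hy.1).1 hy.2.1.symm
  have hw1 : w ≠ 1 := fun e => hy.2.2 (by
    have := inv_eq_of_mul_eq_one_right e
    rw [mem_inv S (z_mem S)] at this
    exact this.symm)
  have hzK : z ∈ K := Subgroup.mem_centralizer_singleton_iff.2
    ((Commute.refl z).mul_right hy.2.1.symm).eq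
  let wK : K := ⟨w, Subgroup.mem_centralizer_singleton_iff.2 rfl⟩
  let zK : K := ⟨z, hzK⟩
  have hwcen : wK ∈ Subgroup.center K :=
    Subgroup.mem_center_iff.2 fun x => Subtype.ext (Subgroup.mem_centralizer_singleton_iff.1 x.2)
  let W := Subgroup.zpowers wK
  haveI hWn : W.Normal := ⟨fun n hn g => by
    rwa [Subgroup.mem_center_iff.1 (Subgroup.zpowers_le.2 hwcen hn) g, mul_inv_cancel_right]⟩
  have hWmem : ∀ x : K, x ∈ W → x = 1 ∨ x = wK := by
    intro x hx
    obtain ⟨i, rfl⟩ := Subgroup.mem_zpowers_iff.1 hx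
    have h2 : wK ^ (2 : ℤ) = 1 := Subtype.ext (by
      rw [zpow_two, Subgroup.coe_mul]; exact hww)
    rcases Int.even_or_odd' i with ⟨j, rfl | rfl⟩
    · left; rw [zpow_mul, h2, one_zpow]
    · right; rw [zpow_add, zpow_mul, h2, one_zpow, one_mul, zpow_one]
  let zq : K ⧸ W := (zK : K ⧸ W)
  have hzq : zq * zq = 1 := by
    show ((zK * zK : K) : K ⧸ W) = 1
    rw [show zK * zK = 1 from Subtype.ext S.zz]; rfl
  have hzq1 : zq ≠ 1 := fun e => by
    rcases hWmem _ ((QuotientGroup.eq_one_iff zK).1 e) with e | e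
    · exact S.ne_one (congrArg Subtype.val e)
    · have e' : z = w := congrArg Subtype.val e
      exact (mem_sq S hy.1).2 (mul_eq_left.1 e'.symm)
  have hiso : Cfsg.IsIsolatedInvolution zq := by
    refine ⟨orderOf_eq_prime (by rw [pow_two, hzq]) hzq1, fun q hq => ?_⟩
    induction q using QuotientGroup.induction_on with
    | H g =>
      set a := g * zK * g⁻¹ with ha
      have hg2 : Commute ((g : L) * z * (g : L)⁻¹) w := by
        have := (Subgroup.mem_center_iff.1 hwcen a)
        exact congrArg Subtype.val this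
      have haD : (g : L) * z * (g : L)⁻¹ ∈ D := conj_mem S (z_mem S) _
      have hmem : a * zK * (zK * a)⁻¹ ∈ W := by
        have h' : ((a * zK : K) : K ⧸ W) = ((zK * a : K) : K ⧸ W) := hq.symm
        rw [← QuotientGroup.eq_one_iff, QuotientGroup.mk_mul (N := W) (a * zK), QuotientGroup.mk_inv, h',
          mul_inv_cancel]
      rcases hWmem _ hmem with e | e
      · have hc : Commute ((g : L) * z * (g : L)⁻¹) z := congrArg Subtype.val (mul_inv_eq_one.1 e)
        show (a : K ⧸ W) = (zK : K ⧸ W)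
        by_cases h1 : (g : L) * z * (g : L)⁻¹ = z
        · rw [show a = zK from Subtype.ext h1]
        · by_cases h2 : (g : L) * z * (g : L)⁻¹ = y
          · refine QuotientGroup.eq.2 ?_
            have : a⁻¹ * zK = wK := Subtype.ext (by
              show ((g : L) * z * (g : L)⁻¹)⁻¹ * z = w
              rw [h2, mem_inv S hy.1, hw]; exact hy.2.1.eq)
            rw [this]; exact Subgroup.mem_zpowers _
          · exfalso
            set x := (g : L) * z * (g : L)⁻¹
            have hxX : x ∈ Xa D z := ⟨haD, hc, h1⟩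
            have hxy : Commute x y := by
              have := hc.mul_right hg2
              rwa [hw, ← mul_assoc, S.zz, one_mul] at this
            refine three_notMem S hxX hy h2 hxy ?_
            have hb : x * w ∈ D := by
              have : (g : L) * y * (g : L)⁻¹ = x * w := by
                have hgw : (g : L) * w * (g : L)⁻¹ = w :=
                  mul_inv_eq_iff_eq_mul.2 (Subgroup.mem_centralizer_singleton_iff.1 g.2)
                conv_rhs => rw [← hgw, hw]
                show _ = (g : L) * z * (g : L)⁻¹ * ((g : L) * (z * y) * (g : L)⁻¹)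
                rw [show (g : L) * z * (g : L)⁻¹ * ((g : L) * (z * y) * (g : L)⁻¹) =
                  (g : L) * (z * z * y) * (g : L)⁻¹ by group, S.zz, one_mul]
              exact this ▸ conj_mem S hy.1 _
            rw [hw, ← mul_assoc, hc.eq] at hb
            exact hb
      · exfalso
        set x := (g : L) * z * (g : L)⁻¹ with hx
        have e' : x * z * (z * x)⁻¹ = w := congrArg Subtype.val e
        have hxi : x⁻¹ = x := mem_inv S haD
        have hzi := mem_inv S (z_mem S)
        rw [mul_inv_rev, hxi, hzi] at e'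
        have hxzx : x * z * x = y := by
          have h := congrArg (fun t => t * z) e'
          simp only [hw] at h
          rw [show x * z * (x * z) * z = x * z * x * (z * z) by group, S.zz, mul_one, mul_assoc z y z,
            hy.2.1.eq, ← mul_assoc z z, S.zz, one_mul] at h
          exact h
        have hxM : x ∈ Mg S := by
          show x * z * x⁻¹ ∈ Gam D z
          rw [hxi, hxzx]; exact gam_X S hy
        have hxG := mem_gam_of_Mg S haD hxM
        by_cases hc : Commute x z
        · rw [hc.eq, mul_assoc, (mem_sq S haD).1, mul_one] at hxzx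
          exact hy.2.2 hxzx.symm
        · have hb := braid_gam S hxG (Relation.ReflTransGen.refl : z ∈ Gam D z) hc
          rw [hb] at hxzx
          have hx' : x = y := by
            calc x = z * (z * x * z) * z := by
                  rw [show z * (z * x * z) * z = z * z * x * (z * z) by group, S.zz, one_mul, mul_one]
              _ = z * y * z := by rw [hxzx]
              _ = y := by rw [mul_assoc, hy.2.1.eq, ← mul_assoc, S.zz, one_mul]
          exact hc (hx'.symm ▸ hy.2.1)
  obtain ⟨N, hNn, hNodd, hN⟩ := ZStarTheorem.exists_odd_normal hiso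
  haveI := hNn
  let N2 := N.comap (QuotientGroup.mk' W)
  have hWN : W ≤ N2 := fun x hx => by
    show (x : K ⧸ W) ∈ N
    rw [(QuotientGroup.eq_one_iff x).2 hx]; exact one_mem N
  have hW2 : Nat.card (W.subgroupOf N2) = 2 := by
    rw [Nat.card_congr (Subgroup.subgroupOfEquivOfLe hWN).toEquiv, Nat.card_zpowers,
      Subgroup.orderOf_mk]
    exact orderOf_eq_prime (by rw [pow_two, hww]) hw1
  have hWi : (W.subgroupOf N2).index = Nat.card N := by
    show W.relIndex N2 = _
    conv_lhs => rw [← QuotientGroup.ker_mk' W]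
    rw [Subgroup.relIndex_ker, Subgroup.map_comap_eq_self_of_surjective (QuotientGroup.mk'_surjective W)]
  have hcop : (Nat.card (W.subgroupOf N2)).Coprime (W.subgroupOf N2).index := by
    rw [hW2, hWi]; exact Nat.coprime_two_left.2 hNodd
  obtain ⟨C, hC⟩ := Subgroup.exists_right_complement'_of_coprime hcop
  have hCcard : Nat.card C = Nat.card N := by rw [← hC.symm.index_eq_card, hWi]
  have hcardN2 : Nat.card N2 = 2 * Nat.card N := by
    rw [← Subgroup.card_mul_index (W.subgroupOf N2), hW2, hWi]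
  have hodd : ∀ x : N2, Odd (orderOf x) → x ∈ C := by
    intro x hx
    obtain ⟨⟨⟨s, hs⟩, c⟩, hsc⟩ := hC.2 x
    simp only at hsc
    rcases hWmem _ (Subgroup.mem_subgroupOf.1 hs) with e | e
    · have : s = 1 := Subtype.ext e
      rw [this, one_mul] at hsc
      exact hsc ▸ c.2
    · exfalso
      have hs1 : Commute s (c : N2) := Subtype.ext (by
        rw [Subgroup.coe_mul, Subgroup.coe_mul, e]
        exact (Subgroup.mem_center_iff.1 hwcen _).symm)
      have hx1 : x ^ Nat.card N = 1 := by
        refine orderOf_dvd_iff_pow_eq_one.1 ?_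
        have := orderOf_dvd_natCard x
        rw [hcardN2] at this
        exact ((Nat.coprime_two_right.2 hx)).dvd_of_dvd_mul_left this
      have hc1 : (c : N2) ^ Nat.card N = 1 := by
        have := congrArg Subtype.val (pow_card_eq_one' (x := (⟨c.1, c.2⟩ : C)))
        rw [hCcard] at this
        simpa using this
      rw [← hsc, hs1.mul_pow, hc1, mul_one] at hx1
      obtain ⟨j, hj⟩ := hNodd
      have hss : s * s = 1 := Subtype.ext (by rw [Subgroup.coe_mul, e]; exact Subtype.ext hww)
      rw [hj, pow_succ, pow_mul, pow_two, hss, one_pow, one_mul] at hx1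
      rw [hx1] at e
      exact hw1 (congrArg Subtype.val e).symm
  let f : N2 →* L := K.subtype.comp N2.subtype
  have hfinj : Function.Injective f := Subtype.val_injective.comp Subtype.val_injective
  let XC := C.map f
  have hXodd : ¬ 2 ∣ Nat.card XC := by
    rw [Subgroup.card_map_of_injective hfinj, hCcard]
    exact Nat.two_dvd_ne_zero.2 (Nat.odd_iff.1 hNodd)
  have hXn : ∀ g ∈ K, ∀ c ∈ XC, g * c * g⁻¹ ∈ XC := by
    rintro g hg _ ⟨c, hc, rfl⟩
    haveI : N2.Normal := hNn.comap _
    have hm : (⟨g, hg⟩ : K) * (c : K) * (⟨g, hg⟩ : K)⁻¹ ∈ N2 :=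
      (inferInstance : N2.Normal).conj_mem _ c.2 _
    refine ⟨⟨_, hm⟩, hodd _ ?_, rfl⟩
    rw [← Subgroup.orderOf_coe]
    show Odd (orderOf (MulAut.conj (⟨g, hg⟩ : K) ((c : N2) : K)))
    rw [MulEquiv.orderOf_eq, Subgroup.orderOf_coe]
    have hd : orderOf c ∣ Nat.card N := by
      rw [← hCcard, ← Subgroup.orderOf_mk c hc]
      exact orderOf_dvd_natCard _
    exact hNodd.of_dvd_nat hd
  -- the line of `z` and `y`
  obtain ⟨a, b, c, ha, hb, hc, hae, hbe, hce, na, nb, nc, nab, nac, nbc, hset, hprod⟩ := four_members S hy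
  let s5 : Set L := {z, y, a, b, c}
  have hs5 : ∀ u ∈ s5, u ∈ Gam D z := by
    rintro u (rfl | rfl | rfl | rfl | rfl)
    exacts [Relation.ReflTransGen.refl, gam_X S hy, gam_X S ha, gam_X S hb, gam_X S hc]
  have hcm : ∀ u ∈ s5, ∀ v ∈ s5, u * v = v * u := by
    have cy : ∀ {u}, u ∈ Xa D z → ψ u = ψ y → Commute u y := fun hu e => comm_same S hu hy e
    have c2 : ∀ {u v}, u ∈ Xa D z → v ∈ Xa D z → ψ u = ψ y → ψ v = ψ y → Commute u v :=
      fun hu hv e e' => comm_same S hu hv (e.trans e'.symm)
    have hin : ∀ u ∈ s5, u = z ∨ (u ∈ Xa D z ∧ ψ u = ψ y) := by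
      rintro u (rfl | rfl | rfl | rfl | rfl)
      exacts [Or.inl rfl, Or.inr ⟨hy, rfl⟩, Or.inr ⟨ha, hae⟩, Or.inr ⟨hb, hbe⟩, Or.inr ⟨hc, hce⟩]
    intro u hu v hv
    rcases hin u hu with rfl | ⟨h1, e1⟩ <;> rcases hin v hv with rfl | ⟨h2, e2⟩
    · rfl
    · exact h2.2.1.symm.eq
    · exact h1.2.1.eq
    · exact (c2 h1 h2 e1 e2).eq
  let A := Subgroup.closure s5
  have hAK : A ≤ K := (Subgroup.closure_le _).2 fun u hu => Subgroup.mem_centralizer_singleton_iff.2
    (Commute.mul_right (hcm u hu z (by simp [s5])) (hcm u hu y (by simp [s5])) : Commute u (z * y)).eq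
  haveI hAcomm : IsMulCommutative A := Subgroup.isMulCommutative_closure hcm
  have hAea : Cfsg.IsElementaryAbelian 2 A := by
    refine ⟨hAcomm, fun u hu => ?_⟩
    induction hu using Subgroup.closure_induction with
    | mem u hu => rw [pow_two]; exact (mem_sq S (gam_sub S (hs5 u hu))).1
    | one => exact one_pow 2
    | mul u v hu' hv' iu iv =>
      have hcomm : Commute u v :=
        congrArg Subtype.val (hAcomm.is_comm.comm (⟨u, hu'⟩ : A) ⟨v, hv'⟩)
      rw [hcomm.mul_pow, iu, iv, one_mul]
    | inv u _ iu => rw [inv_pow, iu, inv_one]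
  have hA4 : 2 ^ 2 ≤ Nat.card A := by
    let Z2 := Subgroup.zpowers z
    have hle : Z2 ≤ A := Subgroup.zpowers_le.2 (Subgroup.subset_closure (by simp [s5]))
    have h2 : Nat.card Z2 = 2 := by rw [Nat.card_zpowers, orderOf_z S]
    have hdvd := Subgroup.card_dvd_of_le hle
    rw [h2] at hdvd
    have hne : Nat.card A ≠ 2 := fun e => by
      have hAZ : Z2 = A := Subgroup.eq_of_le_of_card_ge hle (by rw [h2, e])
      have hyZ : y ∈ Z2 := hAZ ▸ Subgroup.subset_closure (by simp [s5])
      obtain ⟨i, hi⟩ := Subgroup.mem_zpowers_iff.1 hyZ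
      have hz2 : z ^ (2 : ℤ) = 1 := by rw [zpow_two, S.zz]
      rcases Int.even_or_odd' i with ⟨j, rfl | rfl⟩ <;>
        simp only [zpow_add, zpow_mul, hz2, one_zpow, zpow_one, one_mul] at hi
      · exact (mem_sq S hy.1).2 hi.symm
      · exact hy.2.2 hi.symm
    have := Nat.card_pos (α := A)
    obtain ⟨k, hk⟩ := hdvd
    omega
  have hAX : A ≤ Subgroup.normalizer (XC : Set L) := fun g hg =>
    Subgroup.mem_normalizer_fintype fun c hc => hXn g (hAK hg) c hc
  have hXM : XC ≤ Mg S := by
    rw [Cfsg.Agent.S1324.result 2 A XC hAea hA4 hXodd hAX]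
    refine iSup_le fun ⟨B, hBA, hB2⟩ => ?_
    obtain ⟨d, hd, hdB⟩ : ∃ d ∈ s5, d ∈ B := by
      by_contra hno
      push Not at hno
      have hmA : ∀ u ∈ s5, u ∈ A := fun u hu => Subgroup.subset_closure hu
      have hidx : (B.subgroupOf A).index = 2 := by
        have h1 : (B.subgroupOf A).index ≠ 1 := fun e => hno z (by simp [s5]) (by
          have := Subgroup.subgroupOf_eq_top.1 (Subgroup.index_eq_one.1 e)
          exact this (hmA z (by simp [s5])))
        have h0 := Subgroup.index_ne_zero_of_finite (H := B.subgroupOf A)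
        have : (B.subgroupOf A).index ≤ 2 := hB2
        omega
      have hpair : ∀ u ∈ s5, ∀ v ∈ s5, u * v ∈ B := fun u hu v hv => by
        have := (Subgroup.mul_mem_iff_of_index_two hidx (a := ⟨u, hmA u hu⟩) (b := ⟨v, hmA v hv⟩)).2
          (iff_of_false (fun e => hno u hu (Subgroup.mem_subgroupOf.1 e))
            fun e => hno v hv (Subgroup.mem_subgroupOf.1 e))
        exact Subgroup.mem_subgroupOf.1 this
      refine hno z (by simp [s5]) ?_
      rw [← hprod, show y * a * b * c = y * a * (b * c) by group]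
      exact mul_mem (hpair y (by simp [s5]) a (by simp [s5])) (hpair b (by simp [s5]) c (by simp [s5]))
    exact inf_le_right.trans ((Subgroup.centralizer_le (Set.singleton_subset_iff.2 hdB)).trans
      (cent_gam S (hs5 d hd)))
  -- conclusion
  intro g hg
  have hcomm := hN ((⟨g, hg⟩ : K) : K ⧸ W)
  have hmem : zK * ⟨g, hg⟩ * zK⁻¹ * (⟨g, hg⟩ : K)⁻¹ ∈ N2 := hcomm
  obtain ⟨⟨⟨s, hs⟩, c'⟩, hsc⟩ := hC.2 ⟨_, hmem⟩
  simp only at hsc
  have hc'M : ((c' : N2) : K).1 ∈ Mg S := hXM ⟨c', c'.2, rfl⟩
  have hwM : w ∈ Mg S := mul_mem (gam_le_Mg S Relation.ReflTransGen.refl) (gam_le_Mg S (gam_X S hy))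
  have hsM : ((s : N2) : K).1 ∈ Mg S := by
    rcases hWmem _ (Subgroup.mem_subgroupOf.1 hs) with e | e <;> rw [e]
    exacts [one_mem _, hwM]
  have hmain : z * g * z⁻¹ * g⁻¹ ∈ Mg S := by
    have e := congrArg (fun t : N2 => ((t : K) : L)) hsc
    simp only [Subgroup.coe_mul, Subgroup.coe_inv] at e
    rw [show z * g * z⁻¹ * g⁻¹ = ((s : N2) : K).1 * ((c' : N2) : K).1 from e.symm]
    exact mul_mem hsM hc'M
  have h2 : g * z * g⁻¹ ∈ Mg S := by
    have := mul_mem (inv_mem (gam_le_Mg S (Relation.ReflTransGen.refl : z ∈ Gam D z))) hmain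
    rw [show z⁻¹ * (z * g * z⁻¹ * g⁻¹) = g * z⁻¹ * g⁻¹ by group, mem_inv S (z_mem S)] at this
    exact this
  exact mem_gam_of_Mg S (conj_mem S (z_mem S) g) h2

theorem cent_two {a b : L} (ha : a ∈ Gam D z) (hb : b ∈ Gam D z) (hne : a ≠ b) (hc : Commute a b) :
    Subgroup.centralizer ({a * b} : Set L) ≤ Mg S := by
  obtain ⟨y, hy⟩ := xa_nonempty S
  obtain ⟨g, hg, rfl, rfl⟩ := pair_move S ha hb hne hc hy
  intro x hx
  have hx' : g⁻¹ * x * g ∈ Subgroup.centralizer ({z * y} : Set L) := by
    rw [Subgroup.mem_centralizer_singleton_iff] at hx ⊢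
    have h : Commute x (g * z * g⁻¹ * (g * y * g⁻¹)) := hx
    have := commute_cj g⁻¹ h
    simp only [mul_assoc, inv_inv, inv_mul_cancel_left, inv_mul_cancel, mul_one] at this
    have e := this.eq
    simp only [mul_assoc] at e ⊢
    exact e
  have := mul_mem (mul_mem hg (cent_two_base S hy hx')) (inv_mem hg)
  simpa [mul_assoc] using this

/-- A product of three members spanning a plane is not a product of two commuting members. -/
theorem triple_ne {f d x y : L} (hf : f ∈ Xa D z) (hd : d ∈ Xa D z) (hne : ψ f ≠ ψ d)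
    (hc : Commute f d) (hx : x ∈ Gam D z) (hy : y ∈ Gam D z) (hxy : x ≠ y) (hcxy : Commute x y)
    (h : z * f * d = x * y) : False := by
  have hz : Commute z (x * y) := h ▸ ((Commute.refl z).mul_right hf.2.1.symm).mul_right hd.2.1.symm
  obtain ⟨h1, h2⟩ := pair_cent_any S hx hy hxy hcxy Relation.ReflTransGen.refl hz
  have hkey : ∀ v, v ∈ D → Commute v z → z * f * d = z * v → False := by
    intro v hv hvz e
    rw [mul_assoc] at e
    have e' := mul_left_cancel e
    by_cases hv' : v = z
    · have := congrArg ψ e'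
      rw [hv', psi_z S, S.hom _ _ hf.2.1 hd.2.1] at this
      exact hne (by
        have := inv_eq_of_mul_eq_one_right this
        rwa [inv_eq_of_mul_eq_one_right (S.graph.inv _ (S.img f hf))] at this)
    · have hv2 := S.img v ⟨hv, hvz, hv'⟩
      rw [← e', S.hom _ _ hf.2.1 hd.2.1] at hv2
      exact S.graph.prod _ (S.img f hf) _ (S.img d hd) hne ((S.comm f hf d hd).1 hc) hv2
  by_cases ex : x = z
  · exact hkey y (gam_sub S hy) h2.symm (by rw [h, ex])
  by_cases ey : y = z
  · exact hkey x (gam_sub S hx) h1.symm (by rw [h, ey]; exact h1.symm.eq)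
  have hxX : x ∈ Xa D z := ⟨gam_sub S hx, h1.symm, ex⟩
  have hyX : y ∈ Xa D z := ⟨gam_sub S hy, h2.symm, ey⟩
  have hψ : ψ f * ψ d = ψ x * ψ y := by
    have := congrArg ψ h
    rwa [S.hom _ _ ((Commute.refl z).mul_left hf.2.1) hd.2.1, S.hom _ _ (Commute.refl z) hf.2.1,
      psi_z S, one_mul, S.hom _ _ hxX.2.1 hyX.2.1] at this
  have hψne : ψ x ≠ ψ y := fun e => by
    rw [e, S.graph.inv _ (S.img y hyX)] at hψ
    have := inv_eq_of_mul_eq_one_right hψ
    rw [inv_eq_of_mul_eq_one_right (S.graph.inv _ (S.img f hf))] at this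
    exact hne this
  have main : ∀ u v, u ∈ Xa D z → v ∈ Xa D z → Commute u v → ψ u = ψ f → ψ v = ψ d →
      z * f * d = u * v → False := by
    intro u v hu hv huv eu ev e
    have e1 : u * f = z * (v * d) := by
      have cfd : f * d * (f * d) = 1 := sq_prod (mem_sq S hf.1).1 (mem_sq S hd.1).1 hc
      have cuf : Commute u f := comm_same S hu hf eu
      have cvd : Commute v d := comm_same S hv hd ev
      have cfv : Commute f v := by rw [S.comm f hf v hv, ev]; exact (S.comm f hf d hd).1 hc
      calc u * f = u * f * (v * v) := by rw [(mem_sq S hv.1).1, mul_one]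
        _ = u * (f * v) * v := by group
        _ = u * (v * f) * v := by rw [cfv.eq]
        _ = u * v * (f * v) := by group
        _ = z * f * d * (f * v) := by rw [e]
        _ = z * (f * d * f) * v := by group
        _ = z * (f * f * d) * v := by rw [mul_assoc f d f, ← hc.eq, ← mul_assoc f f]
        _ = z * (d * v) := by rw [(mem_sq S hf.1).1, one_mul]; group
        _ = z * (v * d) := by rw [cvd.eq]
    by_cases euf : u = f
    · subst euf
      rw [(mem_sq S hu.1).1] at e1
      have hzi := inv_eq_of_mul_eq_one_right e1.symm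
      rw [mem_inv S (z_mem S)] at hzi
      by_cases evd : v = d
      · subst evd; rw [(mem_sq S hv.1).1] at hzi; exact S.ne_one hzi
      · refine two_notMem S hv ?_
        have : z * v = d := by
          rw [hzi, mul_assoc, ← (comm_same S hv hd ev).eq, ← mul_assoc, (mem_sq S hv.1).1, one_mul]
        exact this ▸ hd.1
    · have evd : v ≠ d := fun e' => by
        subst e'
        rw [(mem_sq S hv.1).1, mul_one] at e1
        refine two_notMem S hu ?_
        have : z * u = f := by
          rw [← e1, mul_assoc, ← (comm_same S hu hf eu).eq, ← mul_assoc, (mem_sq S hu.1).1, one_mul]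
        exact this ▸ hf.1
      have := S.sepQ u hu f hf v hv d hd eu ev euf evd (Or.inr e1)
      exact hne (eu.symm.trans (this.trans ev))
  rcases S.graph.pair _ (S.img f hf) _ (S.img d hd) _ (S.img x hxX) _ (S.img y hyX) hne hψne
    ((S.comm f hf d hd).1 hc) ((S.comm x hxX y hyX).1 hcxy) hψ with ⟨p, q⟩ | ⟨p, q⟩
  · exact main x y hxX hyX hcxy p.symm q.symm h
  · exact main y x hyX hxX hcxy.symm p.symm q.symm (h.trans hcxy.eq)

/-- The centralizer of a product of three members spanning a plane. -/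
theorem cent_three {c d : L} (hc : c ∈ Xa D z) (hd : d ∈ Xa D z) (hne : ψ c ≠ ψ d)
    (hcd : Commute c d) : Subgroup.centralizer ({z * c * d} : Set L) ≤ Mg S := by
  classical
  set u := z * c * d with hu
  set K := Subgroup.centralizer ({u} : Set L) with hK
  obtain ⟨l, e, f, hl, he, hf, hle, hee, hfe, nl, ne, nf, nle, nlf, nef, hset, hprod⟩ := four_members S hc
  have hld : Commute l d := by rw [S.comm l hl d hd, hle, ← S.comm c hc d hd]; exact hcd
  have hed : Commute e d := by rw [S.comm e he d hd, hee, ← S.comm c hc d hd]; exact hcd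
  have hzK : z ∈ K := Subgroup.mem_centralizer_singleton_iff.2
    (((Commute.refl z).mul_right hc.2.1.symm).mul_right hd.2.1.symm).eq
  have hlK : l ∈ K := Subgroup.mem_centralizer_singleton_iff.2
    ((hl.2.1.mul_right (comm_same S hl hc hle)).mul_right hld).eq
  let M0 := (Mg S).subgroupOf K
  let zK : K := ⟨z, hzK⟩
  let lK : K := ⟨l, hlK⟩
  have hM : M0 = ⊤ := by
    refine Cfsg.Agent.S5439.result {x | IsConj zK x} {x | IsConj lK x} zK lK ?_ ?_ rfl rfl ?_ M0 ?_ ?_
    · exact (Subgroup.orderOf_coe zK).symm.trans (orderOf_z S)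
    · rw [← Subgroup.orderOf_coe]
      exact orderOf_eq_prime (by rw [pow_two]; exact (mem_sq S hl.1).1) (mem_sq S hl.1).2
    · intro hIJ
      have hm : lK ∈ {x | IsConj zK x} := by rw [hIJ]; exact IsConj.refl lK
      obtain ⟨g, hg⟩ := isConj_iff.1 hm
      have hgL : (g : L) * z * (g : L)⁻¹ = l := congrArg Subtype.val hg
      have hgu : (g : L) * u * (g : L)⁻¹ = u :=
        mul_inv_eq_iff_eq_mul.2 (Subgroup.mem_centralizer_singleton_iff.1 g.2)
      have huz : z * u = c * d := by rw [hu, ← mul_assoc, ← mul_assoc, S.zz, one_mul]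
      have hcdM : c * d ∈ Mg S := mul_mem (gam_le_Mg S (gam_X S hc)) (gam_le_Mg S (gam_X S hd))
      have hlu : (g : L) * (c * d) * (g : L)⁻¹ = l * u := by
        rw [← huz, show (g : L) * (z * u) * (g : L)⁻¹ =
          (g : L) * z * (g : L)⁻¹ * ((g : L) * u * (g : L)⁻¹) by group, hgL, hgu]
      have hluM : l * u ∈ Mg S := mul_mem (gam_le_Mg S (gam_X S hl))
        (mul_mem (mul_mem (gam_le_Mg S Relation.ReflTransGen.refl) (gam_le_Mg S (gam_X S hc)))
          (gam_le_Mg S (gam_X S hd)))
      obtain ⟨m, hm, hmeq⟩ := fusion S hcdM (sq_prod (mem_sq S hc.1).1 (mem_sq S hd.1).1 hcd)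
        (hlu.symm ▸ hluM)
      -- the product is `e f d`
      have hluef : l * u = e * f * d := by
        have h1 : l * (z * c) = e * f := by
          have clc : Commute l c := comm_same S hl hc hle
          have cef : Commute e f := comm_same S he hf (hee.trans hfe.symm)
          calc l * (z * c) = l * z * c := by group
            _ = l * (c * l * (e * f)) * c := by rw [← hprod]; group
            _ = l * c * l * (e * f * c) := by group
            _ = c * (l * l) * (c * (e * f)) := by
              rw [clc.eq, ((comm_same S he hc hee).mul_left (comm_same S hf hc hfe)).eq]; group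
            _ = e * f := by rw [(mem_sq S hl.1).1, mul_one, ← mul_assoc, (mem_sq S hc.1).1, one_mul]
        rw [hu, ← mul_assoc, h1]
      -- move `e` to `z`
      obtain ⟨ψe, Se⟩ := move S he.1
      have hfX : f ∈ Xa D e := ⟨hf.1, comm_same S hf he (hfe.trans hee.symm), nef.symm⟩
      have hne' : e ≠ d := fun e' => hne (by rw [← hee, e'])
      have hdX : d ∈ Xa D e := ⟨hd.1, hed.symm, hne'.symm⟩
      have hfd : Commute f d := by rw [S.comm f hf d hd, hfe, ← S.comm c hc d hd]; exact hcd
      have hne2 : ψe f ≠ ψe d := by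
        intro e'
        have hzX := z_mem_xa S he
        have h1 : Same D z e f := (same_iff S he hf).2 (hee.trans hfe.symm)
        have h2 : Same D e z f := line_symm S he hf nef h1
        have h3 : Same D e z d := same_trans h2 ((same_iff Se hfX hdX).2 e')
        have h4 := (same_iff S he hd).1 (line_symm Se hzX hdX hd.2.2.symm h3)
        exact hne (hee.symm.trans h4)
      have hgam : ∀ w, w ∈ Gam D z → w ∈ Gam D e := fun w hw => (rtg_symm (gam_X S he)).trans hw
      refine triple_ne Se hfX hdX hne2 hfd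
        (hgam _ (Mg_conj S hm (gam_X S hc))) (hgam _ (Mg_conj S hm (gam_X S hd)))
        (cj_ne (fun e' => hne (by rw [e']))) (commute_cj m hcd) ?_
      rw [← hluef, ← hlu, ← hmeq]; group
    · intro x hx
      obtain ⟨a, ha, g, hg⟩ : ∃ a : K, (a : L) ∈ Gam D z ∧ ∃ g, g * a * g⁻¹ = x := by
        rcases hx with hx | hx
        · exact ⟨zK, Relation.ReflTransGen.refl, isConj_iff.1 hx⟩
        · exact ⟨lK, gam_X S hl, isConj_iff.1 hx⟩
      refine ⟨(g : K ⧸ M0), ?_, ?_⟩
      · show ((x * g : K) : K ⧸ M0) = (g : K ⧸ M0)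
        rw [← hg, inv_mul_cancel_right]
        refine QuotientGroup.eq.2 ?_
        rw [show (g * a)⁻¹ * g = a⁻¹ by group]
        exact inv_mem (Subgroup.mem_subgroupOf.2 (gam_le_Mg S ha))
      · intro c' hc'
        induction c' using QuotientGroup.induction_on with
        | H k =>
          refine QuotientGroup.eq.2 ?_
          have h1 := QuotientGroup.eq.1 (show ((x * k : K) : K ⧸ M0) = (k : K ⧸ M0) from hc')
          rw [← hg] at h1
          have h2 : (g⁻¹ * k)⁻¹ * a * (g⁻¹ * k) ∈ M0 := by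
            have := inv_mem h1
            rwa [show ((g * a * g⁻¹ * k)⁻¹ * k)⁻¹ = (g⁻¹ * k)⁻¹ * a * (g⁻¹ * k) by group] at this
          have h3 := inv_mem (Subgroup.mem_subgroupOf.2 (fix_gam S ha (Subgroup.mem_subgroupOf.1 h2)) :
            g⁻¹ * k ∈ M0)
          rwa [show (g⁻¹ * k)⁻¹ = k⁻¹ * g by group] at h3
    · intro a ha haM b hb hbM hab hcomm
      have hmemG : ∀ w : K, (IsConj zK w ∨ IsConj lK w) → w ∈ M0 → (w : L) ∈ Gam D z := by
        intro w hw hwM
        refine mem_gam_of_Mg S ?_ (Subgroup.mem_subgroupOf.1 hwM)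
        rcases hw with hw | hw <;> obtain ⟨g, rfl⟩ := isConj_iff.1 hw
        exacts [conj_mem S (z_mem S) _, conj_mem S hl.1 _]
      have h := cent_two S (hmemG a (Or.inl ha) haM) (hmemG b hb hbM) (fun e => hab (Subtype.ext e))
        (congrArg Subtype.val hcomm)
      intro k hk
      refine Subgroup.mem_subgroupOf.2 (h (Subgroup.mem_centralizer_singleton_iff.2 ?_))
      exact congrArg Subtype.val (Subgroup.mem_centralizer_singleton_iff.1 hk)
  intro g hg
  have : (⟨g, hg⟩ : K) ∈ M0 := hM ▸ Subgroup.mem_top _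
  exact Subgroup.mem_subgroupOf.1 this

/-- The stabiliser of the component is everything. -/
theorem Mg_top : Mg S = ⊤ := by
  classical
  obtain ⟨y₀, hy₀⟩ := xa_nonempty S
  set w₀ := z * y₀ with hw₀
  have hw2 : w₀ * w₀ = 1 := sq_prod S.zz (mem_sq S hy₀.1).1 hy₀.2.1.symm
  have hzG : z ∈ Gam D z := Relation.ReflTransGen.refl
  have hwM : w₀ ∈ Mg S := mul_mem (gam_le_Mg S hzG) (gam_le_Mg S (gam_X S hy₀))
  refine Cfsg.Agent.S5439.result {x | IsConj z x} {x | IsConj w₀ x} z w₀ (orderOf_z S) ?_ rfl rfl ?_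
    (Mg S) ?_ ?_
  · refine orderOf_eq_prime (by rw [pow_two, hw2]) fun e => hy₀.2.2 ?_
    have := inv_eq_of_mul_eq_one_right e
    rw [mem_inv S (z_mem S)] at this
    exact this.symm
  · intro e
    refine two_notMem S hy₀ ?_
    have hm : w₀ ∈ {x | IsConj z x} := by rw [e]; exact IsConj.refl w₀
    obtain ⟨g, hg⟩ := isConj_iff.1 hm
    have : w₀ ∈ D := hg ▸ conj_mem S (z_mem S) g
    exact this
  · intro x hx
    obtain ⟨a, ha, hfix, g, hg⟩ : ∃ a, a ∈ Mg S ∧ (∀ g, g⁻¹ * a * g ∈ Mg S → g ∈ Mg S) ∧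
        ∃ g, g * a * g⁻¹ = x := by
      rcases hx with hx | hx
      · exact ⟨z, gam_le_Mg S hzG, fun g => fix_gam S hzG, isConj_iff.1 hx⟩
      · refine ⟨w₀, hwM, fun g hg => ?_, isConj_iff.1 hx⟩
        obtain ⟨m, hm, e⟩ := fusion S hwM hw2 (g := g⁻¹) (by simpa using hg)
        have hgm : g * m ∈ Subgroup.centralizer ({w₀} : Set L) := by
          rw [Subgroup.mem_centralizer_singleton_iff, ← mul_inv_eq_iff_eq_mul]
          rw [show g * m * w₀ * (g * m)⁻¹ = g * (m * w₀ * m⁻¹) * g⁻¹ by group, e]; group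
        exact (Subgroup.mul_mem_cancel_right _ hm).1 (cent_two_base S hy₀ hgm)
    refine ⟨(g : L ⧸ Mg S), ?_, ?_⟩
    · show ((x * g : L) : L ⧸ Mg S) = (g : L ⧸ Mg S)
      rw [← hg, inv_mul_cancel_right]
      refine QuotientGroup.eq.2 ?_
      rw [show (g * a)⁻¹ * g = a⁻¹ by group]
      exact inv_mem ha
    · intro c' hc'
      induction c' using QuotientGroup.induction_on with
      | H k =>
        refine QuotientGroup.eq.2 ?_
        have h1 := QuotientGroup.eq.1 (show ((x * k : L) : L ⧸ Mg S) = (k : L ⧸ Mg S) from hc')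
        rw [← hg] at h1
        have h2 : (g⁻¹ * k)⁻¹ * a * (g⁻¹ * k) ∈ Mg S := by
          have := inv_mem h1
          rwa [show ((g * a * g⁻¹ * k)⁻¹ * k)⁻¹ = (g⁻¹ * k)⁻¹ * a * (g⁻¹ * k) by group] at this
        have h3 := inv_mem (hfix _ h2)
        rwa [show (g⁻¹ * k)⁻¹ = k⁻¹ * g by group] at h3
  · intro a ha haM b hb hbM hab hcomm
    have hin : ∀ w, IsConj z w → w ∈ Mg S → w ∈ Gam D z := fun w hw hwM' => by
      obtain ⟨g, rfl⟩ := isConj_iff.1 hw
      exact mem_gam_of_Mg S (conj_mem S (z_mem S) g) hwM'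
    have haG := hin a ha haM
    rcases hb with hb | hb
    · exact cent_two S haG (hin b hb hbM) hab hcomm
    obtain ⟨g, rfl⟩ := isConj_iff.1 hb
    obtain ⟨m, hm, hmb⟩ := fusion S hwM hw2 hbM
    obtain ⟨q, hq, rfl⟩ : ∃ q ∈ Mg S, q * z * q⁻¹ = a := by
      obtain ⟨q, rfl⟩ := exists_cj S (gam_sub S haG)
      exact ⟨q, haG, rfl⟩
    -- back to `a = z`
    set r := q⁻¹ * m with hr
    have hrM : r ∈ Mg S := mul_mem (inv_mem hq) hm
    have hcM := Mg_conj S hrM hzG
    have hdM := Mg_conj S hrM (gam_X S hy₀)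
    set c := r * z * r⁻¹ with hcdef
    set d := r * y₀ * r⁻¹ with hddef
    have hcd : Commute c d := commute_cj r hy₀.2.1.symm
    have hne : c ≠ d := cj_ne hy₀.2.2.symm
    have hb' : q⁻¹ * (g * w₀ * g⁻¹) * q = c * d := by rw [← hmb, hcdef, hddef, hr, hw₀]; group
    have hz' : Commute z (c * d) := by
      have := commute_cj q⁻¹ (show Commute (q * z * q⁻¹) (g * w₀ * g⁻¹) from hcomm)
      rw [inv_inv, hb'] at this
      simpa [mul_assoc] using this
    obtain ⟨h1, h2⟩ := pair_cent_any S hcM hdM hne hcd hzG hz'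
    have goal : Subgroup.centralizer ({z * (c * d)} : Set L) ≤ Mg S := by
      by_cases ec : c = z
      · rw [ec, ← mul_assoc, S.zz, one_mul]; exact cent_gam S hdM
      by_cases ed : d = z
      · rw [ed, h1.symm.eq, ← mul_assoc, S.zz, one_mul]; exact cent_gam S hcM
      have hcX : c ∈ Xa D z := ⟨gam_sub S hcM, h1.symm, ec⟩
      have hdX : d ∈ Xa D z := ⟨gam_sub S hdM, h2.symm, ed⟩
      by_cases e : ψ c = ψ d
      · obtain ⟨a', b', c', ha', hb', hc', hae, hbe, hce, na, nb, nc, nab, nac, nbc, hset, hprod⟩ :=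
          four_members S hcX
        have hdm : d ∈ ({c, a', b', c'} : Set L) := by rw [← hset]; exact ⟨hdX, e.symm⟩
        have key : ∀ p r' : L, p ∈ Xa D z → r' ∈ Xa D z → Commute p r' → p ≠ r' →
            c * d * (p * r') = z → Subgroup.centralizer ({z * (c * d)} : Set L) ≤ Mg S := by
          intro p r' hp hr' hpr hne' e'
          have hcd2 : c * d * (c * d) = 1 := sq_prod (mem_sq S hcX.1).1 (mem_sq S hdX.1).1 hcd
          have : z * (c * d) = p * r' := by
            rw [((hcX.2.1.mul_left hdX.2.1).symm).eq, ← e', ← mul_assoc, hcd2, one_mul]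
          rw [this]
          exact cent_two S (gam_X S hp) (gam_X S hr') hne' hpr
        have cab := comm_same S ha' hb' (hae.trans hbe.symm)
        have cac := comm_same S ha' hc' (hae.trans hce.symm)
        have cbc := comm_same S hb' hc' (hbe.trans hce.symm)
        rcases hdm with hd' | hd' | hd' | hd'
        · exact absurd hd'.symm hne
        · exact key b' c' hb' hc' cbc nbc (by rw [hd', ← hprod]; group)
        · exact key a' c' ha' hc' cac nac (by
            rw [hd', ← hprod, show c * b' * (a' * c') = c * (b' * a') * c' by group, ← cab.eq]; group)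
        · exact key a' b' ha' hb' cab nab (by
            rw [hd', ← hprod, show c * c' * (a' * b') = c * (c' * (a' * b')) by group,
              ← (cac.mul_left cbc).eq]; group)
      · rw [← mul_assoc]
        exact cent_three S hcX hdX e hcd
    intro x hx
    have hx' : q⁻¹ * x * q ∈ Subgroup.centralizer ({z * (c * d)} : Set L) := by
      rw [Subgroup.mem_centralizer_singleton_iff] at hx ⊢
      have := commute_cj q⁻¹ (show Commute x _ from hx)
      rw [inv_inv, show q⁻¹ * (q * z * q⁻¹ * (g * w₀ * g⁻¹)) * q = z * (q⁻¹ * (g * w₀ * g⁻¹) * q) by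
        group, hb'] at this
      exact this.eq
    have := mul_mem (mul_mem hq (goal hx')) (inv_mem hq)
    simpa [mul_assoc] using this

theorem class_eq_gam : Gam D z = D :=
  Set.Subset.antisymm (gam_sub S) fun _ hd => mem_gam_of_Mg S hd (Mg_top S ▸ Subgroup.mem_top _)

theorem card_group : Nat.card L = 693 * 13271040 := by
  rw [← card_Mg S, Mg_top S, Subgroup.card_top]

end Cfsg.Agent.U62RecogWhole19
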