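import Mathlib
import Cfsg.Agent.Lib.LFU62Bridge19
import Cfsg.Agent.Lib.U62RecogWhole19

/-!
The centralizer of the four group is quasisimple with the four group as centre as soon as its
quotient by the four group is simple.
-/

set_option autoImplicit false
set_option linter.unusedSectionVars false
set_option linter.style.haveILetI false
set_option maxHeartbeats 800000

namespace Cfsg.Agent.LFU62Final19

open scoped commutatorElement
open Cfsg Subgroup Cfsg.Agent.U62Mon93 Cfsg.Agent.U62Existence93 Cfsg.Agent.LFForm89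
open Cfsg.Agent.LFModel89 Cfsg.Agent.LFSetting89 Cfsg.Agent.LFSylow89
open Cfsg.Agent.LFMat89 Cfsg.Agent.LFElem89 Cfsg.Agent.LFBound89 Cfsg.Agent.LFOrbitA89
open Cfsg.Agent.LFU62Defs19 Cfsg.Agent.LFU62Local19 Cfsg.Agent.LFU62Bridge19

universe u

variable {G : Type u} [Group G] [Finite G] {z : G} {Q : Subgroup (centralizer ({z} : Set G))}
  [Q.Normal] {V : Type u} [AddCommGroup V] {zc : centralizer ({z} : Set G)}
  {π : centralizer ({z} : Set G) → V} {ρ : centralizer ({z} : Set G) ⧸ Q →* AddMonoid.End V}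
  {q : V → ZMod 2} {n : centralizer ({z} : Set G) ⧸ Q}
  {Mb : Subgroup (centralizer ({z} : Set G) ⧸ Q)}
  {F : Type} [Field F] [Fintype F] {s : F} {h : S4 s} {ν : (Fin 6 → F) → V}
  {Φ : K0 h →* centralizer ({z} : Set G) ⧸ Q}

variable (D : Data z Q zc π ρ q n Mb) (C : Coord h ρ q n Mb ν Φ)
  {E : Subgroup (centralizer ({z} : Set G))}
  (S : StabFacts Q ρ q ν Mb h Φ) (K : CoordFacts D C E)
include D C S K

/-- An element of the centralizer of `z` and `E`, in the centralizer of `E`. -/
noncomputable def inCE (c : CH E) : CE E :=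
  ⟨((c : centralizer ({z} : Set G)) : G), (mem_CE D C S K).2 c.2⟩

theorem not_comm : ¬ ∀ a b : LL E, a * b = b * a := by
  intro hcomm
  have hS := setup D C S K
  have h1 := U62RecogWhole19.card_group hS
  have h2 := hS.card_H
  have e : centralizer ({toL D C S K ⟨zc, zc_CH D C S K⟩} : Set (LL E)) = ⊤ :=
    eq_top_iff.2 fun g _ => Subgroup.mem_centralizer_singleton_iff.2 (hcomm _ _)
  rw [e, Subgroup.card_top, h1] at h2
  norm_num at h2

theorem zc_commutator : inCE D C S K ⟨zc, zc_CH D C S K⟩ ∈ commutator (CE E) := by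
  obtain ⟨h16, h32, hpb⟩ := LFU62PerpData19.perp_pair
  obtain ⟨a, ha, haπ⟩ := D.link.surj (nc s ν 16)
  obtain ⟨b, hb, hbπ⟩ := D.link.surj (nc s ν 32)
  have haC : a ∈ CH E := (Q_CH D C S K ha).2 (haπ ▸ (perp_iff D C S K).2 h16)
  have hbC : b ∈ CH E := (Q_CH D C S K hb).2 (hbπ ▸ (perp_iff D C S K).2 h32)
  have hne : a * b ≠ b * a := fun e => by
    rw [comm_iff D ha hb, haπ, hbπ, pol_nc D C S K, hpb] at e
    simp at e
  have hconj : π (a * b * a⁻¹) = π b := by
    rw [LFElem89.act D a hb, LFOrbitA89.mk_Q D C ha, rho_one]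
  have hmem : zc = b⁻¹ * (a * b * a⁻¹) := by
    rcases pi_eq D hb ((inferInstance : Q.Normal).conj_mem b hb a) hconj.symm with e | e
    · exact absurd (mul_inv_eq_iff_eq_mul.1 e) hne
    · rw [e, inv_mul_cancel_left]
  have hc : inCE D C S K ⟨zc, zc_CH D C S K⟩ =
      ⁅(inCE D C S K ⟨b, hbC⟩)⁻¹, inCE D C S K ⟨a, haC⟩⁆ := by
    refine Subtype.ext ?_
    show (zc : G) = ((b : G)⁻¹ * (a : G) * (b : G)⁻¹⁻¹ * (a : G)⁻¹)
    rw [hmem]
    simp [mul_assoc]
  rw [hc]
  exact Subgroup.commutator_mem_commutator (Subgroup.mem_top _) (Subgroup.mem_top _)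

theorem E_commutator {e : centralizer ({z} : Set G)} (he : e ∈ E) :
    ∃ he' : (e : G) ∈ CE E, (⟨(e : G), he'⟩ : CE E) ∈ commutator (CE E) := by
  have key : ∀ d (hd : d ∈ Subgroup.closure (DH z E)),
      ∃ hd' : d ∈ CH E, inCE D C S K ⟨d, hd'⟩ ∈ commutator (CE E) := by
    intro d hd
    induction hd using Subgroup.closure_induction with
    | mem d hd =>
      refine ⟨(DH_spec D C S K hd).1, ?_⟩
      by_cases hdz : d = zc
      · subst hdz; exact zc_commutator D C S K
      · obtain ⟨g, hgE, x0, hx0, hx0z, hg⟩ := K.move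
        obtain ⟨c, hc, hcx⟩ := transitive D C S K hx0 hd hx0z hdz
        have hgC : (c : G) * g ∈ CE E := by
          refine mul_mem ((mem_CE D C S K).2 hc) (Subgroup.mem_centralizer_iff.2 ?_)
          rintro _ ⟨e, he, rfl⟩
          exact (hgE e he).symm
        have : inCE D C S K ⟨d, (DH_spec D C S K hd).1⟩ =
            (⟨_, hgC⟩ : CE E) * inCE D C S K ⟨zc, zc_CH D C S K⟩ * (⟨_, hgC⟩ : CE E)⁻¹ := by
          refine Subtype.ext ?_
          show (d : G) = (c : G) * g * (zc : G) * ((c : G) * g)⁻¹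
          rw [D.zc_val, ← hcx, show (c : G) * g * z * ((c : G) * g)⁻¹ =
            (c : G) * (g * z * g⁻¹) * (c : G)⁻¹ by group, hg]
          rfl
        rw [this]
        exact (inferInstance : (commutator (CE E)).Normal).conj_mem _ (zc_commutator D C S K) _
    | one => exact ⟨one_mem _, one_mem _⟩
    | mul a b _ _ ia ib => exact ⟨mul_mem ia.1 ib.1, mul_mem ia.2 ib.2⟩
    | inv a _ ia => exact ⟨inv_mem ia.1, inv_mem ia.2⟩
  obtain ⟨hd', hm⟩ := key e (K.gen he)
  exact ⟨(mem_CE D C S K).2 hd', hm⟩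

theorem perfect (hs : IsSimpleGroup (LL E)) : Group.IsPerfect (CE E) := by
  have := hs
  rw [Group.isPerfect_def, eq_top_iff]
  intro r _
  set f := QuotientGroup.mk' ((EG E).subgroupOf (CE E)) with hf
  have himg : (commutator (CE E)).map f = ⊤ := by
    rcases ((inferInstance : (commutator (CE E)).Normal).map f
      (QuotientGroup.mk'_surjective _)).eq_bot_or_eq_top with e | e
    · exfalso
      refine not_comm D C S K fun a b => ?_
      obtain ⟨a, rfl⟩ := QuotientGroup.mk'_surjective _ a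
      obtain ⟨b, rfl⟩ := QuotientGroup.mk'_surjective _ b
      have h1 : f ⁅a, b⁆ ∈ (commutator (CE E)).map f :=
        ⟨_, Subgroup.commutator_mem_commutator (Subgroup.mem_top _) (Subgroup.mem_top _), rfl⟩
      rw [e, Subgroup.mem_bot, map_commutatorElement] at h1
      exact commutatorElement_eq_one_iff_mul_comm.1 h1
    · exact e
  obtain ⟨d, hd, hdr⟩ : f r ∈ (commutator (CE E)).map f := himg ▸ Subgroup.mem_top _
  have hE : d⁻¹ * r ∈ (EG E).subgroupOf (CE E) := QuotientGroup.eq.1 hdr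
  obtain ⟨e, he, hev⟩ := Subgroup.mem_subgroupOf.1 hE
  obtain ⟨he', hm⟩ := E_commutator D C S K he
  have : r = d * ⟨(e : G), he'⟩ := by
    refine Subtype.ext ?_
    show (r : G) = (d : G) * (e : G)
    rw [show (e : G) = ((d⁻¹ * r : CE E) : G) from hev]
    simp
  rw [this]
  exact mul_mem hd hm

theorem center_eq (hs : IsSimpleGroup (LL E)) :
    Subgroup.center (CE E) = (EG E).subgroupOf (CE E) := by
  have := hs
  refine le_antisymm (fun c hc => ?_) fun c hc => Subgroup.mem_center_iff.2 fun r =>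
    Subtype.ext (Subgroup.mem_centralizer_iff.1 r.2 _ (Subgroup.mem_subgroupOf.1 hc)).symm
  have h1 : (c : LL E) ∈ Subgroup.center (LL E) := Subgroup.mem_center_iff.2 fun l => by
    obtain ⟨r, rfl⟩ := QuotientGroup.mk_surjective l
    rw [← QuotientGroup.mk_mul, ← QuotientGroup.mk_mul, Subgroup.mem_center_iff.1 hc r]
  rcases (inferInstance : (Subgroup.center (LL E)).Normal).eq_bot_or_eq_top with e | e
  · rw [e, Subgroup.mem_bot] at h1
    exact (QuotientGroup.eq_one_iff _).1 h1
  · exact absurd (fun a b => Subgroup.mem_center_iff.1 (e ▸ Subgroup.mem_top b : b ∈ Subgroup.center (LL E)) a)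
      (not_comm D C S K)

theorem quasisimple (hs : IsSimpleGroup (LL E)) : IsQuasisimple (CE E) := by
  refine ⟨perfect D C S K hs, ?_⟩
  exact ((QuotientGroup.quotientMulEquivOfEq (center_eq D C S K hs)).isSimpleGroup_congr).2 hs

/-- The four group with the properties required of it. -/
theorem four_group (hs : IsSimpleGroup (LL E)) {K4 : Type} [Field K4] [Fintype K4]
    (hK : Fintype.card K4 = 4) (iso : Nonempty (LL E ≃* PSU 6 K4 2)) :
    ∃ E' : Subgroup G, E' ≤ Q.map (centralizer ({z} : Set G)).subtype ∧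
      IsElementaryAbelian 2 E' ∧ Nat.card E' = 4 ∧ z ∉ E' ∧
      (∃ t ∈ E', orderOf t = 2 ∧ ¬ IsConj z t) ∧ IsQuasisimple ↥(centralizer (E' : Set G)) ∧
      ∃ (_ : (E'.subgroupOf (centralizer (E' : Set G))).Normal) (K : Type) (_ : Field K)
        (_ : Fintype K), Fintype.card K = 4 ∧
        Nonempty (↥(centralizer (E' : Set G)) ⧸ E'.subgroupOf (centralizer (E' : Set G)) ≃*
          PSU 6 K 2) := by
  have hq := quasisimple D C S K hs
  refine ⟨EG E, ?_, ?_, ?_, ?_, ?_, hq, ?_⟩
  · exact Subgroup.map_mono K.isE.le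
  · refine ⟨⟨⟨?_⟩⟩, ?_⟩
    · rintro ⟨_, a, ha, rfl⟩ ⟨_, b, hb, rfl⟩
      have h2 : (a : G) * b = b * a := congrArg Subtype.val (K.ea.2 a ha b hb)
      exact Subtype.ext h2
    · rintro _ ⟨a, ha, rfl⟩
      rw [sq]
      have h2 : (a : G) * a = 1 := congrArg Subtype.val (K.ea.1 a ha)
      exact h2
  · have h2 := Nat.card_congr
      (E.equivMapOfInjective _ (Subgroup.subtype_injective (centralizer ({z} : Set G)))).toEquiv
    rw [← h2, K.isE.card]
  · rintro ⟨e, he, hev⟩
    exact K.isE.zc_notMem ((show e = zc from Subtype.ext (hev.trans D.zc_val.symm)) ▸ he)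
  · obtain ⟨e, he, hπ⟩ := line_mem D C S K (c := 5) (by decide)
    have he1 : e ≠ 1 := fun e' => by
      rw [e', LFElem89.pi_one D, ← nc_zero (hyp D) C] at hπ
      exact absurd (nc_inj (hyp D) C (by norm_num) (by norm_num) hπ) (by norm_num)
    have h2 : (e : G) * e = 1 := congrArg Subtype.val (K.ea.1 e he)
    have h3 : (e : G) ≠ 1 := fun e' => he1 (Subtype.ext e')
    have h4 : orderOf (e : G) = 2 := orderOf_eq_prime (by rw [sq]; exact h2) h3
    exact ⟨(e : G), Subgroup.mem_map_of_mem _ he, h4, K.RR e he he1⟩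
  · refine ⟨normal_EG E, K4, ?_, ?_, ?_, ?_⟩
    · assumption
    · assumption
    · exact hK
    · exact iso

end Cfsg.Agent.LFU62Final19
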