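import Mathlib
import Cfsg.Agent.Lib.LFU62Final19
import Cfsg.Agent.Lib.LFNoncentralTransfer19
import Cfsg.Agent.Lib.Unit62Exist55

/-!
The configuration around an involution of the small class: the four group gives two generators and
the conjugation into the large elementary abelian subgroup.
-/

set_option autoImplicit false
set_option linter.unusedSectionVars false
set_option linter.style.haveILetI false
set_option maxHeartbeats 800000

namespace Cfsg.Agent.LFNoncentralFrame19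

open Cfsg Subgroup Cfsg.Agent.U62Mon93 Cfsg.Agent.U62Existence93
open Cfsg.Agent.LFModel89 Cfsg.Agent.LFSetting89 Cfsg.Agent.LFSylow89
open Cfsg.Agent.LFMat89 Cfsg.Agent.LFElem89 Cfsg.Agent.LFBound89 Cfsg.Agent.LFOrbitA89
open Cfsg.Agent.LFU62Defs19 Cfsg.Agent.LFU62Local19 Cfsg.Agent.LFU62Bridge19
open Cfsg.Agent.LFFusion89 Cfsg.Agent.LFCocodePts19 Cfsg.Agent.LFNoncentralTransfer19
open Cfsg.Agent.UnitaryF4Geo Cfsg.Agent.Unit62Cover55

universe u

/-- A subgroup centralising two commuting involutions and covering the unitary group over the four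
group they generate. -/
structure Pair {G : Type u} [Group G] {P : Type} [Group P] (W : Subgroup G) (t e : G) (θ : W →* P) :
    Prop where
  perfect : Group.IsPerfect W
  tmem : t ∈ W
  emem : e ∈ W
  ct : ∀ x ∈ W, Commute x t
  ce : ∀ x ∈ W, Commute x e
  tt : t * t = 1
  ee : e * e = 1
  t1 : t ≠ 1
  e1 : e ≠ 1
  et : e ≠ t
  surj : Function.Surjective θ
  ker : ∀ x : W, θ x = 1 ↔ (x : G) = 1 ∨ (x : G) = t ∨ (x : G) = e ∨ (x : G) = t * e
  all : ∀ x, Commute x t → Commute x e → x ∈ W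

section

variable {G : Type u} [Group G] [Finite G] {W : Subgroup G} {t e : G}
  {F : Type} [Field F] [Fintype F] [hF4 : FourField F] {θ : W →* Cfsg.PSU 6 F 2}
  (X : Pair W t e θ)
include X

theorem zp_le : ∀ g ∈ (Subgroup.zpowers t).subgroupOf W, θ g = 1 := by
  intro g hg
  obtain ⟨i, hi⟩ := Subgroup.mem_zpowers_iff.1 (Subgroup.mem_subgroupOf.1 hg)
  refine (X.ker g).2 ?_
  rcases Int.even_or_odd i with ⟨j, rfl⟩ | ⟨j, rfl⟩
  · left; rw [← hi, ← two_mul, zpow_mul, zpow_two, X.tt, one_zpow]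
  · right; left; rw [← hi, zpow_add, zpow_mul, zpow_two, X.tt, one_zpow, one_mul, zpow_one]

theorem zp_normal : ((Subgroup.zpowers t).subgroupOf W).Normal :=
  ⟨fun m hm g => by
    obtain ⟨i, hi⟩ := Subgroup.mem_zpowers_iff.1 (Subgroup.mem_subgroupOf.1 hm)
    have : g * m * g⁻¹ = m := Subtype.ext (by
      simp only [Subgroup.coe_mul, Subgroup.coe_inv, ← hi]
      exact LFNoncentralTransfer19.conj_fix ((X.ct _ g.2).zpow_right i))
    rwa [this]⟩

theorem mem_zp {x : W} : x ∈ (Subgroup.zpowers t).subgroupOf W ↔ (x : G) = 1 ∨ (x : G) = t := by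
  rw [Subgroup.mem_subgroupOf, Subgroup.mem_zpowers_iff]
  constructor
  · rintro ⟨i, hi⟩
    rcases Int.even_or_odd i with ⟨j, rfl⟩ | ⟨j, rfl⟩
    · left; rw [← hi, ← two_mul, zpow_mul, zpow_two, X.tt, one_zpow]
    · right; rw [← hi, zpow_add, zpow_mul, zpow_two, X.tt, one_zpow, one_mul, zpow_one]
  · rintro (h | h)
    · exact ⟨0, by rw [h, zpow_zero]⟩
    · exact ⟨1, by rw [h, zpow_one]⟩

/-- The quotient by the first involution is a double cover. -/
theorem cov [((Subgroup.zpowers t).subgroupOf W).Normal] :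
    Cov (z := QuotientGroup.mk' ((Subgroup.zpowers t).subgroupOf W) ⟨e, X.emem⟩)
      (QuotientGroup.lift ((Subgroup.zpowers t).subgroupOf W) θ fun g hg => zp_le X g hg) := by
  refine ⟨?_, ?_, ?_, ?_, ?_⟩
  · rw [Group.isPerfect_def, _root_.commutator_def,
      ← Subgroup.map_top_of_surjective _ (QuotientGroup.mk'_surjective ((Subgroup.zpowers t).subgroupOf W)),
      ← Subgroup.map_commutator, ← _root_.commutator_def, Group.isPerfect_def.1 X.perfect]
  · exact fun y => (X.surj y).elim fun x hx => ⟨QuotientGroup.mk x, hx⟩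
  · intro x
    obtain ⟨x, rfl⟩ := QuotientGroup.mk'_surjective _ x
    show θ x = 1 ↔ _
    rw [X.ker x, QuotientGroup.mk'_eq_mk', show (QuotientGroup.mk' ((Subgroup.zpowers t).subgroupOf W)) x = 1 ↔
      x ∈ (Subgroup.zpowers t).subgroupOf W from QuotientGroup.eq_one_iff x, mem_zp X]
    constructor
    · rintro (h | h | h | h)
      · exact Or.inl (Or.inl h)
      · exact Or.inl (Or.inr h)
      · exact Or.inr ⟨1, one_mem _, Subtype.ext (by simpa using h)⟩
      · refine Or.inr ⟨⟨t, X.tmem⟩, (mem_zp X).2 (Or.inr rfl), Subtype.ext ?_⟩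
        show (x : G) * t = e
        rw [h, (X.ct e X.emem).symm.eq, mul_assoc, X.tt, mul_one]
    · rintro ((h | h) | ⟨w, hw, h⟩)
      · exact Or.inl h
      · exact Or.inr (Or.inl h)
      · have h' : (x : G) * w = e := congrArg Subtype.val h
        rcases (mem_zp X).1 hw with hw' | hw' <;> rw [hw'] at h'
        · exact Or.inr (Or.inr (Or.inl (by rw [← h', mul_one])))
        · refine Or.inr (Or.inr (Or.inr ?_))
          rw [(X.ct e X.emem).symm.eq, ← h', mul_assoc, X.tt, mul_one]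
  · intro x
    obtain ⟨x, rfl⟩ := QuotientGroup.mk'_surjective _ x
    rw [← map_mul, ← map_mul]
    exact congrArg _ (Subtype.ext (X.ce _ x.2).eq.symm)
  · intro h
    rcases (mem_zp X).1 ((QuotientGroup.eq_one_iff _).1 h) with h' | h'
    · exact X.e1 h'
    · exact X.et h'

/-- Involutions centralising the pair are conjugate into a large elementary abelian subgroup. -/
theorem conj_into {A : Subgroup G} (hsq : ∀ x ∈ A, x * x = 1)
    (hcom : ∀ x ∈ A, ∀ y ∈ A, x * y = y * x) (hc : Nat.card A = 2 ^ 11) (ht : t ∈ A) (he : e ∈ A)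
    {x : G} (hxx : x * x = 1) (hxt : Commute x t) (hxe : Commute x e) :
    ∃ k, Commute k t ∧ Commute k e ∧ k * x * k⁻¹ ∈ A := by
  classical
  haveI := zp_normal X
  have hX := cov X
  have hAW : A ≤ W := fun w hw => X.all w (hcom w hw t ht) (hcom w hw e he)
  set f := QuotientGroup.mk' ((Subgroup.zpowers t).subgroupOf W) with hf
  set B := (A.subgroupOf W).map f with hB
  have hBig : Big B := by
    refine ⟨?_, ?_, ?_⟩
    · rintro _ ⟨w, hw, rfl⟩
      rw [← map_mul, show w * w = 1 from Subtype.ext (hsq _ hw), map_one]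
    · rintro _ ⟨w, hw, rfl⟩ _ ⟨w', hw', rfl⟩
      rw [← map_mul, ← map_mul, show w * w' = w' * w from Subtype.ext (hcom _ hw _ hw')]
    · set g := f.comp (A.subgroupOf W).subtype with hg
      have hr : g.range = B := by rw [hg, MonoidHom.range_comp, Subgroup.range_subtype]
      have h1 := Subgroup.card_mul_index g.ker
      rw [Subgroup.index_ker, hr, Nat.card_congr (Subgroup.subgroupOfEquivOfLe hAW).toEquiv, hc] at h1
      have h2 : Nat.card g.ker ≤ 2 := by
        have hinj : Function.Injective fun w : g.ker =>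
            (⟨(((w.1).1 : W) : G), by
              have h3 : (w.1.1 : W) ∈ (Subgroup.zpowers t).subgroupOf W :=
                (QuotientGroup.eq_one_iff _).1 w.2
              rcases (mem_zp X).1 h3 with h4 | h4
              · exact Or.inl h4
              · exact Or.inr h4⟩ : ({1, t} : Set G)) := fun w w' h =>
          Subtype.ext (Subtype.ext (Subtype.ext (by simpa using h)))
        refine (Nat.card_le_card_of_injective _ hinj).trans ?_
        rw [Nat.card_coe_set_eq]
        exact (Set.ncard_insert_le _ _).trans (by simp)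
      have h3 : Nat.card g.ker * Nat.card B ≤ 2 * Nat.card B := Nat.mul_le_mul_right _ h2
      omega
  obtain ⟨e1, f1, hfr, hBe⟩ := hX.big_cases hBig
  have hxW : x ∈ W := X.all x hxt hxe
  obtain ⟨e2, f2, hfr2, hx2⟩ := Unit62Exist55.exists_plane hX (x := f ⟨x, hxW⟩)
    (by rw [← map_mul, show (⟨x, hxW⟩ : W) * ⟨x, hxW⟩ = 1 from Subtype.ext hxx, map_one])
  obtain ⟨y, hy⟩ := hX.exists_conj hfr2 hfr
  have hin := (hy _).1 hx2
  rw [← hBe] at hin
  obtain ⟨y, rfl⟩ := QuotientGroup.mk'_surjective _ y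
  rw [← map_inv, ← map_mul, ← map_mul] at hin
  obtain ⟨w, hw, hwe⟩ := hin
  refine ⟨y, X.ct _ y.2, X.ce _ y.2, ?_⟩
  have h4 : w⁻¹ * (y * ⟨x, hxW⟩ * y⁻¹) ∈ (Subgroup.zpowers t).subgroupOf W :=
    QuotientGroup.eq.1 hwe
  have h5 : (y : G) * x * (y : G)⁻¹ = (w : G) * ((w⁻¹ * (y * ⟨x, hxW⟩ * y⁻¹) : W) : G) := by
    simp
  rw [h5]
  refine mul_mem hw ?_
  rcases (mem_zp X).1 h4 with h6 | h6 <;> rw [h6]
  exacts [one_mem _, ht]

end

variable {G : Type u} [Group G] [Finite G] {z : G} {Q : Subgroup (centralizer ({z} : Set G))}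
  [Q.Normal] {V : Type u} [AddCommGroup V] {zc : centralizer ({z} : Set G)}
  {π : centralizer ({z} : Set G) → V} {ρ : centralizer ({z} : Set G) ⧸ Q →* AddMonoid.End V}
  {q : V → ZMod 2} {n : centralizer ({z} : Set G) ⧸ Q}
  {Mb : Subgroup (centralizer ({z} : Set G) ⧸ Q)}
  {F : Type} [Field F] [Fintype F] {s : F} {h : S4 s} {ν : (Fin 6 → F) → V}
  {Φ : K0 h →* centralizer ({z} : Set G) ⧸ Q}

variable (D : Data z Q zc π ρ q n Mb) (C : Coord h ρ q n Mb ν Φ)
  {E : Subgroup (centralizer ({z} : Set G))}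
  (S : StabFacts Q ρ q ν Mb h Φ) (K : CoordFacts D C E)
include D C S K

theorem nc_ne {a b : ℕ} (ha : a < 4096) (hb : b < 4096) (hab : a ≠ b) : nc s ν a ≠ nc s ν b :=
  fun e => hab (nc_inj (hyp D) C ha hb e)

/-- The four elements of the four group. -/
theorem exists_gens : ∃ e1 ∈ E, ∃ e2 ∈ E, π e1 = nc s ν 5 ∧ π e2 = nc s ν 10 ∧
    π (e1 * e2) = nc s ν 15 ∧
    ∀ x ∈ E, x = 1 ∨ x = e1 ∨ x = e2 ∨ x = e1 * e2 := by
  classical
  obtain ⟨e1, he1, h5⟩ := line_mem D C S K (c := 5) (by decide)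
  obtain ⟨e2, he2, h10⟩ := line_mem D C S K (c := 10) (by decide)
  have h15 : π (e1 * e2) = nc s ν 15 := by
    rw [show (15 : ℕ) = Nat.xor 5 10 from rfl, nc_xor D C S K, ← h5, ← h10,
      D.link.add _ (K.isE.le he1) _ (K.isE.le he2)]
  have h0 : π 1 = nc s ν 0 := by rw [LFElem89.pi_one D, nc_zero (hyp D) C]
  refine ⟨e1, he1, e2, he2, h5, h10, h15, fun x hx => ?_⟩
  have key : ∀ {a b : centralizer ({z} : Set G)} {i j : ℕ}, i < 4096 → j < 4096 → i ≠ j →
      π a = nc s ν i → π b = nc s ν j → a ≠ b := fun hi hj hij ha hb e =>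
    nc_ne D C S K hi hj hij (ha.symm.trans (e ▸ hb))
  have hsub : ({1, e1, e2, e1 * e2} : Finset (centralizer ({z} : Set G))) ⊆
      (Set.toFinite (E : Set (centralizer ({z} : Set G)))).toFinset := by
    intro w hw
    simp only [Finset.mem_insert, Finset.mem_singleton] at hw
    rw [Set.Finite.mem_toFinset]
    rcases hw with rfl | rfl | rfl | rfl
    exacts [one_mem _, he1, he2, mul_mem he1 he2]
  have hc : (Set.toFinite (E : Set (centralizer ({z} : Set G)))).toFinset.card = 4 := by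
    rw [← Set.ncard_eq_toFinset_card _ _, ← Nat.card_coe_set_eq]; exact K.isE.card
  have hc' : ({1, e1, e2, e1 * e2} : Finset (centralizer ({z} : Set G))).card = 4 := by
    have a1 := key (i := 0) (j := 5) (by norm_num) (by norm_num) (by norm_num) h0 h5
    have a2 := key (i := 0) (j := 10) (by norm_num) (by norm_num) (by norm_num) h0 h10
    have a3 := key (i := 0) (j := 15) (by norm_num) (by norm_num) (by norm_num) h0 h15
    have a4 := key (i := 5) (j := 10) (by norm_num) (by norm_num) (by norm_num) h5 h10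
    have a5 := key (i := 5) (j := 15) (by norm_num) (by norm_num) (by norm_num) h5 h15
    have a6 := key (i := 10) (j := 15) (by norm_num) (by norm_num) (by norm_num) h10 h15
    rw [Finset.card_insert_of_notMem, Finset.card_insert_of_notMem, Finset.card_insert_of_notMem,
      Finset.card_singleton]
    · simp [a6]
    · simp only [Finset.mem_insert, Finset.mem_singleton]
      exact not_or.2 ⟨a4, a5⟩
    · simp only [Finset.mem_insert, Finset.mem_singleton]
      exact not_or.2 ⟨a1, not_or.2 ⟨a2, a3⟩⟩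
  have := (Finset.eq_of_subset_of_card_le hsub (by rw [hc, hc'])).symm ▸
    ((Set.Finite.mem_toFinset _).2 hx : x ∈ (Set.toFinite (E : Set (centralizer ({z} : Set G)))).toFinset)
  simpa only [Finset.mem_insert, Finset.mem_singleton] using this

/-- The configuration at an involution over the weight two vector. -/
theorem exists_frame (hF : Cfsg.IsOfLargeFischerTypeAt z Q) (hs : IsSimpleGroup (LL E))
    {K4 : Type} [Field K4] [Fintype K4] [FourField K4] (iso : Nonempty (LL E ≃* PSU 6 K4 2)) :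
    ∃ (t e p : G) (pt : GolayPt → G) (φ : ↥(Subgroup.normalizer (AG D C : Set G)) →* ↥M24)
      (a b c y : GolayPt) (W : Subgroup G) (θ : W →* Cfsg.PSU 6 K4 2),
      Frame (AG D C) z t e p pt φ a b c y ∧ Pair W t e θ ∧
      ∃ x : centralizer ({z} : Set G), FischerFrame18.InvQ z Q x ∧ (x : G) = t ∧ ¬ IsConj z t := by
  classical
  obtain ⟨e1, he1, e2, he2, h5, h10, h15, hall⟩ := exists_gens D C S K
  obtain ⟨pt, φ, P⟩ := exists_pts D C hF
  have hQ1 := K.isE.le he1
  have hQ2 := K.isE.le he2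
  have hne : ∀ {w : centralizer ({z} : Set G)} {i : ℕ}, i < 4096 → i ≠ 0 → π w = nc s ν i → w ≠ 1 :=
    fun {w i} hi hi0 hw e => nc_ne D C S K hi (by norm_num) hi0
      (hw.symm.trans (by rw [e, LFElem89.pi_one D, nc_zero (hyp D) C]))
  have n1 := hne (i := 5) (by norm_num) (by norm_num) h5
  have n2 := hne (i := 10) (by norm_num) (by norm_num) h10
  have n3 := hne (i := 15) (by norm_num) (by norm_num) h15
  have inA : ∀ w ∈ E, (w : G) ∈ AG D C := fun w hw => ⟨w, K.le_AA hw, rfl⟩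
  have hzA : z ∈ AG D C := (AG_facts D C).2.2
  have asR : ∀ w ∈ E, w ≠ 1 → ∃ i j, i ≠ j ∧ pt i * pt j = (w : G) := fun w hw h1 =>
    (P.rel _ (inA w hw)).1 ⟨fun e => h1 (Subtype.ext e), K.RR w hw h1⟩
  have asRz : ∀ w ∈ E, w ≠ 1 → ∃ i j, i ≠ j ∧ pt i * pt j = z * (w : G) := fun w hw h1 => by
    refine (P.rel _ (mul_mem hzA (inA w hw))).1 ⟨fun e => ?_, fun e => ?_⟩
    · refine K.isE.zc_notMem ((show zc = w from Subtype.ext ?_) ▸ hw)
      rw [D.zc_val, ← inv_eq_of_mul_eq_one_right (show (w : G) * w = 1 from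
        congrArg Subtype.val (K.ea.1 w hw))]
      exact eq_inv_of_mul_eq_one_left e
    · obtain ⟨y, -, hy⟩ := D.ext.partner w (K.isE.le hw) h1 fun e' => K.isE.zc_notMem (e' ▸ hw)
      have hy' : (y : G) * (w : G) * (y : G)⁻¹ = z * (w : G) :=
        (congrArg Subtype.val hy).trans (by rw [Subgroup.coe_mul, D.zc_val])
      exact K.RR w hw h1 (e.trans (isConj_iff.2 ⟨(y : G)⁻¹, by rw [← hy']; group⟩))
  have hzR : ∀ {i j}, i ≠ j → pt i * pt j ≠ z := fun {i j} hij e =>
    ((P.rel z hzA).2 ⟨i, j, hij, e⟩).2 (IsConj.refl z)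
  have hz1 : z ≠ 1 := fun e => D.ext.ne_one (Subtype.ext (D.zc_val.trans e))
  have hsh : ∀ {i j k l : GolayPt} (w : centralizer ({z} : Set G)), w ∈ E → w ≠ 1 → i ≠ j → k ≠ l →
      pt i * pt j * (pt k * pt l) = (w : G) →
      (i = k ∧ j ≠ l) ∨ (i = l ∧ j ≠ k) ∨ (j = k ∧ i ≠ l) ∨ (j = l ∧ i ≠ k) := by
    intro i j k l w hw h1 hij hkl e
    exact share P hij hkl (e ▸ fun e' => h1 (Subtype.ext e')) (e ▸ K.RR w hw h1)
  obtain ⟨a0, b0, hab0, ht0⟩ := asR e1 he1 n1
  obtain ⟨c0, d0, hcd0, he0⟩ := asR e2 he2 n2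
  have hswap : ∀ i j : GolayPt, pt i * pt j = pt j * pt i := fun i j => P.comm _ (P.mem i) _ (P.mem j)
  obtain ⟨a, b, c, hab, hac, hbc, eqt, eqe⟩ : ∃ a b c : GolayPt, a ≠ b ∧ a ≠ c ∧ b ≠ c ∧
      (e1 : G) = pt a * pt b ∧ (e2 : G) = pt a * pt c := by
    rcases hsh (e1 * e2) (mul_mem he1 he2) n3 hab0 hcd0 (by rw [ht0, he0]; rfl) with
      ⟨h1, h2⟩ | ⟨h1, h2⟩ | ⟨h1, h2⟩ | ⟨h1, h2⟩ <;> subst h1
    · exact ⟨a0, b0, d0, hab0, hcd0, h2, ht0.symm, he0.symm⟩
    · exact ⟨a0, b0, c0, hab0, hcd0.symm, h2, ht0.symm, he0.symm.trans (hswap _ _)⟩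
    · exact ⟨b0, a0, d0, hab0.symm, hcd0, h2, ht0.symm.trans (hswap _ _), he0.symm⟩
    · exact ⟨b0, a0, c0, hab0.symm, hcd0.symm, h2, ht0.symm.trans (hswap _ _),
        he0.symm.trans (hswap _ _)⟩
  obtain ⟨i, j, hij, hzt⟩ := asRz e1 he1 n1
  obtain ⟨k, l, hkl, hze⟩ := asRz e2 he2 n2
  have hsqA := P.sq
  have e1sq : (e1 : G) * e1 = 1 := hsqA _ (inA e1 he1)
  have e2sq : (e2 : G) * e2 = 1 := hsqA _ (inA e2 he2)
  have hz : z = pt i * pt j * (pt a * pt b) := by rw [hzt, ← eqt, mul_assoc, e1sq, mul_one]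
  have hzz : z * z = 1 := hsqA z hzA
  have disj : ∀ r, (r = i ∨ r = j) → r ≠ a ∧ r ≠ b := by
    have step : ∀ r r', pt i * pt j = pt r * pt r' → r ≠ r' → r ≠ a ∧ r ≠ b := by
      intro r r' hrr hne
      constructor
      · intro hra
        subst hra
        rw [hrr, hswap r r', mul_assoc, ← mul_assoc (pt r), hsqA _ (P.mem r), one_mul] at hz
        rcases eq_or_ne r' b with rfl | hne'
        · exact hz1 (hz.trans (hsqA _ (P.mem _)))
        · exact hzR hne' hz.symm
      · intro hrb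
        subst hrb
        rw [hrr, hswap r r', hswap a r, mul_assoc, ← mul_assoc (pt r), hsqA _ (P.mem r), one_mul] at hz
        rcases eq_or_ne r' a with rfl | hne'
        · exact hz1 (hz.trans (hsqA _ (P.mem _)))
        · exact hzR hne' hz.symm
    rintro r (rfl | rfl)
    · exact step r j rfl hij
    · exact step r i (hswap i r) hij.symm
  have hbc3 : (e1 : G) * (e2 : G) = pt b * pt c := by
    rw [eqt, eqe, hswap a b, mul_assoc, ← mul_assoc (pt a), hsqA _ (P.mem a), one_mul]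
  obtain ⟨y, hay, hby, hcy, eqzt⟩ : ∃ y, a ≠ y ∧ b ≠ y ∧ c ≠ y ∧ z * (e1 : G) = pt c * pt y := by
    have hzp : pt i * pt j * (pt b * pt c) = z * (e2 : G) := by
      rw [hzt, ← hbc3, mul_assoc, ← mul_assoc (e1 : G), e1sq, one_mul]
    have hprod : pt i * pt j * (pt b * pt c) ≠ 1 ∧ ¬ IsConj z (pt i * pt j * (pt b * pt c)) := by
      rw [hzp, ← hze]
      exact (P.rel _ (mul_mem (P.mem k) (P.mem l))).2 ⟨k, l, hkl, rfl⟩
    rcases share P hij hbc hprod.1 hprod.2 with ⟨h1, h2⟩ | ⟨h1, h2⟩ | ⟨h1, h2⟩ | ⟨h1, h2⟩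
    · exact absurd h1 (disj i (Or.inl rfl)).2
    · exact ⟨j, (disj j (Or.inr rfl)).1.symm, (disj j (Or.inr rfl)).2.symm, h1 ▸ hij,
        by rw [← hzt, h1]⟩
    · exact absurd h1 (disj j (Or.inr rfl)).2
    · exact ⟨i, (disj i (Or.inl rfl)).1.symm, (disj i (Or.inl rfl)).2.symm, h1 ▸ hij.symm,
        by rw [← hzt, h1, hswap]⟩
  obtain ⟨p, hp, hpπ⟩ := D.link.surj (nc s ν 1)
  have hp1 : Commute p e1 := by
    show p * e1 = e1 * p
    rw [comm_iff D hp hQ1, hpπ, h5, pol_nc D C S K, show LFU62PerpData19.pb 1 5 = false by decide +kernel]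
    rfl
  have hp2 : p * e2 * p⁻¹ = e2 * zc := by
    refine (pi_eq D hQ2 ((inferInstance : Q.Normal).conj_mem e2 hQ2 p) ?_).resolve_left fun e => ?_
    · rw [LFElem89.act D p hQ2, LFOrbitA89.mk_Q D C hp, rho_one]
    · have hc := mul_inv_eq_iff_eq_mul.1 e
      rw [comm_iff D hp hQ2, hpπ, h10, pol_nc D C S K,
        show LFU62PerpData19.pb 1 10 = true by decide +kernel] at hc
      simp at hc
  have hpp : p * p = zc := by
    refine (D.ext.sq p hp).resolve_left fun e => ?_
    rw [sq_iff D hp, hpπ, q_nc (hyp D) C, show LFCheck89.qpar 1 = true by decide +kernel] at e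
    simp at e
  have two : ∀ g : G, Commute g (e1 : G) → Commute g z →
      g * e2 * g⁻¹ = (e2 : G) ∨ g * e2 * g⁻¹ = (e2 : G) * e1 ∨ g * e2 * g⁻¹ = (e2 : G) * z ∨
        g * e2 * g⁻¹ = (e2 : G) * z * e1 := by
    intro g hg1 hgz
    set gH : centralizer ({z} : Set G) := ⟨g, Subgroup.mem_centralizer_singleton_iff.2 hgz.eq⟩ with hgH
    set m := QuotientGroup.mk' Q gH with hm
    have hfix5 : op ρ m (nc s ν 5) = nc s ν 5 := by
      rw [← h5, hm, ← LFElem89.act D gH hQ1]
      exact congrArg π (Subtype.ext (LFNoncentralTransfer19.conj_fix hg1))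
    have hscal : ∀ c, c < 4096 → op ρ n (nc s ν c) = nc s ν (LFCheck89.scal c) := fun c hc => by
      rw [nc, nc, C.scalar, ← vec_scal h hc]
    have hs10 : op ρ n (nc s ν 5) = nc s ν 10 := hscal 5 (by norm_num)
    have hs15 : op ρ n (nc s ν 10) = nc s ν 15 := hscal 10 (by norm_num)
    have hcl : op ρ m (nc s ν 10) = nc s ν 10 ∨ op ρ m (nc s ν 10) = nc s ν 15 := by
      rcases D.conj_n m with e | e
      · left
        rw [← hs10, ← rho_mul, mul_inv_eq_iff_eq_mul.1 e, rho_mul, hfix5]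
      · right
        rw [← hs10, ← rho_mul, mul_inv_eq_iff_eq_mul.1 e, rho_mul, hfix5, pow_two, rho_mul, hs10, hs15]
    have hgQ : gH * e2 * gH⁻¹ ∈ Q := (inferInstance : Q.Normal).conj_mem e2 hQ2 gH
    have e21 : (e1 : G) * e2 = e2 * e1 := congrArg Subtype.val (K.ea.2 e1 he1 e2 he2)
    rcases hcl with e | e
    · rcases pi_eq D hQ2 hgQ (by rw [LFElem89.act D gH hQ2, ← hm, h10, e]) with e' | e'
      · exact Or.inl (congrArg Subtype.val e')
      · exact Or.inr (Or.inr (Or.inl ((congrArg Subtype.val e').trans (by rw [Subgroup.coe_mul, D.zc_val]))))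
    · rcases pi_eq D (mul_mem hQ1 hQ2) hgQ (by rw [LFElem89.act D gH hQ2, ← hm, h15, h10, e]) with e' | e'
      · exact Or.inr (Or.inl ((congrArg Subtype.val e').trans e21))
      · refine Or.inr (Or.inr (Or.inr ((congrArg Subtype.val e').trans ?_)))
        show (e1 : G) * e2 * zc = e2 * z * e1
        rw [D.zc_val, e21, mul_assoc, mul_assoc,
          show (e1 : G) * z = z * e1 from P.comm _ (inA e1 he1) _ hzA]
  obtain ⟨iso⟩ := iso
  set W := CE E with hW
  let θ : W →* PSU 6 K4 2 := iso.toMonoidHom.comp (QuotientGroup.mk' ((EG E).subgroupOf (CE E)))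
  have hEG : ∀ {x : G}, x ∈ EG E ↔ x = 1 ∨ x = (e1 : G) ∨ x = (e2 : G) ∨ x = (e1 : G) * e2 := by
    intro x
    constructor
    · rintro ⟨w, hw, rfl⟩
      rcases hall w hw with rfl | rfl | rfl | rfl
      exacts [Or.inl rfl, Or.inr (Or.inl rfl), Or.inr (Or.inr (Or.inl rfl)), Or.inr (Or.inr (Or.inr rfl))]
    · rintro (rfl | rfl | rfl | rfl)
      exacts [one_mem _, ⟨e1, he1, rfl⟩, ⟨e2, he2, rfl⟩, ⟨e1 * e2, mul_mem he1 he2, rfl⟩]
  have hmem : ∀ w ∈ E, (w : G) ∈ W := fun w hw => Subgroup.mem_centralizer_iff.2 fun v hv => by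
    obtain ⟨v', hv', rfl⟩ := hv
    exact congrArg Subtype.val (K.ea.2 v' hv' w hw)
  have hPair : Pair W (e1 : G) (e2 : G) θ :=
    { perfect := (LFU62Final19.quasisimple D C S K hs).1
      tmem := hmem e1 he1
      emem := hmem e2 he2
      ct := fun x hx => (Subgroup.mem_centralizer_iff.1 hx _ ⟨e1, he1, rfl⟩).symm
      ce := fun x hx => (Subgroup.mem_centralizer_iff.1 hx _ ⟨e2, he2, rfl⟩).symm
      tt := e1sq
      ee := e2sq
      t1 := fun e => n1 (Subtype.ext e)
      e1 := fun e => n2 (Subtype.ext e)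
      et := fun e => nc_ne D C S K (show 10 < 4096 by norm_num) (show 5 < 4096 by norm_num) (by norm_num)
        (by rw [← h10, ← h5, show e2 = e1 from Subtype.ext e])
      surj := iso.surjective.comp (QuotientGroup.mk'_surjective _)
      ker := fun x => by
        show iso (QuotientGroup.mk' _ x) = 1 ↔ _
        rw [map_eq_one_iff _ iso.injective]
        exact ((QuotientGroup.eq_one_iff x).trans Subgroup.mem_subgroupOf).trans hEG
      all := fun x h1 h2 => Subgroup.mem_centralizer_iff.2 fun v hv => by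
        rcases hEG.1 hv with rfl | rfl | rfl | rfl
        exacts [(Commute.one_left x).eq, h1.symm.eq, h2.symm.eq, (h1.mul_right h2).symm.eq] }
  refine ⟨e1, e2, p, pt, φ, a, b, c, y, W, θ, ⟨P, ?_, eqt, eqe, eqzt, fun x hx h1 h2 => ?_, two,
    congrArg Subtype.val hp1.eq, ?_, ?_⟩, hPair,
    e1, ⟨hQ1, K.ea.1 e1 he1, n1, fun e => ?_⟩, rfl, K.RR e1 he1 n1⟩
  · simp [hab, hac, hay, hbc, hby, hcy]
  · exact conj_into hPair P.sq P.comm (AG_facts D C).2.1 (inA e1 he1) (inA e2 he2) hx h1 h2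
  · exact (congrArg Subtype.val hpp).trans D.zc_val
  · exact (congrArg Subtype.val hp2).trans (by rw [Subgroup.coe_mul, D.zc_val])
  · exact K.isE.zc_notMem ((show zc = e1 from Subtype.ext (D.zc_val.trans e.symm)) ▸ he1)

end Cfsg.Agent.LFNoncentralFrame19
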