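import Mathlib
import Cfsg.Agent.Lib.LFNoncentralFrame19
import Cfsg.Agent.Lib.Fi22RecogMain11
import Cfsg.Agent.Lib.ThreeTransFi22Out41
import Cfsg.Agent.Lib.ComponentsFitting
import Cfsg.Agent.Lib.ComponentsBasic

/-!
The centralizer of an involution of the small class modulo the involution is the automorphism group
of `Fi22`.
-/

set_option autoImplicit false
set_option linter.unusedSectionVars false
set_option linter.style.haveILetI false
set_option maxHeartbeats 800000

namespace Cfsg.Agent.LFNoncentralFinal19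

open Subgroup Cfsg.Agent.LFNoncentralTransfer19 Cfsg.Agent.LFNoncentralFrame19
open Cfsg.Agent.UnitaryF4Geo Cfsg.Agent.Unit62Cover55
open Cfsg (GolayPt M24)
open scoped commutatorElement

universe u

theorem cov_congr {C C' : Type*} [Group C] [Finite C] [Group C'] [Finite C'] {F : Type} [Field F]
    [Fintype F] [FourField F] {z : C} {θ : C →* Cfsg.PSU 6 F 2} (X : Cov z θ) (e : C ≃* C') :
    Cov (e z) (θ.comp e.symm.toMonoidHom) := by
  refine ⟨?_, X.surj.comp e.symm.surjective, fun x => ?_, fun x => ?_, fun h => X.ne (e.map_eq_one_iff.1 h)⟩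
  · rw [Group.isPerfect_def, _root_.commutator_def, ← Subgroup.map_top_of_surjective e.toMonoidHom e.surjective,
      ← Subgroup.map_commutator, ← _root_.commutator_def, Group.isPerfect_def.1 X.perfect]
  · show θ (e.symm x) = 1 ↔ _
    rw [X.ker, e.symm.map_eq_one_iff, MulEquiv.symm_apply_eq]
  · obtain ⟨w, rfl⟩ := e.surjective x
    rw [← map_mul, ← map_mul, X.central]

/-- A homomorphism to an abelian group kills the members of a perfect subgroup. -/
theorem eq_one_of_perfect {H M : Type*} [Group H] [Group M] (hH : Group.IsPerfect H) (f : H →* M)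
    (hM : ∀ x y : H, Commute (f x) (f y)) (x : H) : f x = 1 := by
  have h1 : commutator H ≤ f.ker := by
    rw [_root_.commutator_def, Subgroup.commutator_le]
    intro a _ b _
    rw [MonoidHom.mem_ker, map_commutatorElement]
    exact commutatorElement_eq_one_iff_mul_comm.2 (hM a b)
  exact h1 (by rw [Group.isPerfect_def.1 hH]; exact Subgroup.mem_top x)

/-- A normal quasisimple subgroup containing its centralizer is the generalized Fitting subgroup. -/
theorem gen_eq_of_self_cent {H : Type*} [Group H] [Finite H] {K : Subgroup H} (hn : K.Normal)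
    (hq : Cfsg.IsQuasisimple ↥K) (hc : centralizer (K : Set H) ≤ K) :
    Cfsg.generalizedFittingSubgroup H = K := by
  have hK : Cfsg.IsComponent K := ⟨hn.isSubnormal, hq⟩
  refine le_antisymm (sup_le (sSup_le fun L hL => ?_) ?_) (ComponentsFitting.component_le_gen hK)
  · by_cases h : L = K
    · exact h.le
    · have h' := ComponentsBasic.components_commute hL hK h
      exact (commutator_eq_bot_iff_le_centralizer.mp h').trans hc
  · have h := ComponentsFitting.component_commute_fitting hK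
    rw [commutator_comm] at h
    exact (commutator_eq_bot_iff_le_centralizer.mp h).trans hc

/-- The conclusion. -/
def Good {G : Type u} [Group G] (t : G) : Prop :=
  ∃ K : Subgroup ↥(centralizer ({t} : Set G)), K.Normal ∧ Cfsg.IsQuasisimple ↥K ∧
    centralizer (K : Set ↥(centralizer ({t} : Set G))) ≤ K ∧ K.index = 2 ∧
    (∃ x ∈ K, (x : G) = t) ∧
    ∃ f : ↥(centralizer ({t} : Set G)) →* MulAut Cfsg.Spor.Fi22, Function.Surjective f ∧
      ∀ x, f x = 1 ↔ (x : G) ∈ Subgroup.zpowers t

theorem good_congr {G : Type u} [Group G] (α : G ≃* G) {t t' : G} (ht : α t = t') (h : Good t) :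
    Good t' := by
  subst ht
  obtain ⟨K, hn, hq, hc, hi, ⟨x, hx, hxt⟩, f, hf, hk⟩ := h
  let e : ↥(centralizer ({t} : Set G)) ≃* ↥(centralizer ({α t} : Set G)) :=
    { toFun := fun g => ⟨α g, Subgroup.mem_centralizer_singleton_iff.2 (by
        rw [← map_mul, ← map_mul, Subgroup.mem_centralizer_singleton_iff.1 g.2])⟩
      invFun := fun g => ⟨α.symm g, Subgroup.mem_centralizer_singleton_iff.2 (α.injective (by
        rw [map_mul, map_mul, α.apply_symm_apply, Subgroup.mem_centralizer_singleton_iff.1 g.2]))⟩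
      left_inv := fun g => Subtype.ext (α.symm_apply_apply g)
      right_inv := fun g => Subtype.ext (α.apply_symm_apply g)
      map_mul' := fun g g' => Subtype.ext (map_mul α (g : G) (g' : G)) }
  refine ⟨K.map e.toMonoidHom, hn.map _ e.surjective, ?_, ?_, ?_, ⟨e x, ⟨x, hx, rfl⟩, ?_⟩,
    f.comp e.symm.toMonoidHom, hf.comp e.symm.surjective, fun w => ?_⟩
  · exact (ComponentsBasic.isQuasisimple_congr (K.equivMapOfInjective _ e.injective)).1 hq
  · intro w hw
    refine ⟨e.symm w, hc (Subgroup.mem_centralizer_iff.2 fun k hk' => e.injective ?_), e.apply_symm_apply w⟩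
    rw [map_mul, map_mul, e.apply_symm_apply]
    exact Subgroup.mem_centralizer_iff.1 hw _ ⟨k, hk', rfl⟩
  · exact (Subgroup.index_map_equiv K e).trans hi
  · show α (x : G) = α t
    rw [hxt]
  · show f (e.symm w) = 1 ↔ _
    rw [hk]
    show α.symm (w : G) ∈ _ ↔ _
    rw [Subgroup.mem_zpowers_iff, Subgroup.mem_zpowers_iff]
    refine exists_congr fun i => ?_
    rw [← α.injective.eq_iff, map_zpow, α.apply_symm_apply]

variable {G : Type u} [Group G] [Finite G] {A : Subgroup G} {z t e p : G} {pt : GolayPt → G}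
  {φ : ↥(Subgroup.normalizer (A : Set G)) →* ↥M24} {a b c y : GolayPt} {W : Subgroup G}
  {F : Type} [Field F] [Fintype F] [FourField F] {θ : W →* Cfsg.PSU 6 F 2}

/-- The main argument. -/
theorem good (S : Frame A z t e p pt φ a b c y) (X : Pair W t e θ) (hthird : Third) : Good t := by
  classical
  set Ct := centralizer ({t} : Set G) with hCt
  obtain ⟨C1, hC1i, hp⟩ := exists_index_two S hthird
  haveI hC1n : C1.Normal := Subgroup.normal_of_index_eq_two hC1i
  have memCt : ∀ {x : G}, Commute x t → x ∈ Ct := fun hx =>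
    Subgroup.mem_centralizer_singleton_iff.2 hx.eq
  have ctC : ∀ x : Ct, Commute (x : G) t := fun x => Subgroup.mem_centralizer_singleton_iff.1 x.2
  have htt := X.tt
  let i0 : W →* Ct := Subgroup.inclusion fun w hw => memCt (X.ct w hw)
  have hW1 : ∀ w : W, i0 w ∈ C1 := fun w => by
    rw [← QuotientGroup.eq_one_iff]
    refine eq_one_of_perfect X.perfect ((QuotientGroup.mk' C1).comp i0) (fun u v => ?_) w
    haveI : Fact (Nat.Prime 2) := ⟨Nat.prime_two⟩
    haveI : IsCyclic (Ct ⧸ C1) := isCyclic_of_prime_card (p := 2) hC1i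
    letI : CommGroup (Ct ⧸ C1) := IsCyclic.commGroup
    exact Commute.all _ _
  have hsub : ∀ (g : G) (k : Ct), Commute g t → Commute (g⁻¹ * (k : G) * g) e → k ∈ C1 := by
    intro g k hg hk
    have hkt : Commute (g⁻¹ * (k : G) * g) t := (hg.inv_left.mul_left (ctC k)).mul_left hg
    have h1 := hC1n.conj_mem _ (hW1 ⟨_, X.all _ hkt hk⟩) ⟨g, memCt hg⟩
    have e1 : (⟨g, memCt hg⟩ : Ct) * i0 ⟨_, X.all _ hkt hk⟩ * (⟨g, memCt hg⟩ : Ct)⁻¹ = k := by
      refine Subtype.ext ?_
      show g * (g⁻¹ * (k : G) * g) * g⁻¹ = k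
      group
    rwa [e1] at h1
  obtain ⟨hswap, m, hmC1, hme⟩ := moves S hp hsub
  -- the involution and the four group inside
  let tc : C1 := ⟨i0 ⟨t, X.tmem⟩, hW1 _⟩
  let ec : C1 := ⟨i0 ⟨e, X.emem⟩, hW1 _⟩
  have mem_zt : ∀ {x : G}, x ∈ Subgroup.zpowers t ↔ x = 1 ∨ x = t := by
    intro x
    rw [Subgroup.mem_zpowers_iff]
    constructor
    · rintro ⟨i, hi⟩
      rcases Int.even_or_odd i with ⟨j, rfl⟩ | ⟨j, rfl⟩
      · left; rw [← hi, ← two_mul, zpow_mul, zpow_two, htt, one_zpow]
      · right; rw [← hi, zpow_add, zpow_mul, zpow_two, htt, one_zpow, one_mul, zpow_one]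
    · rintro (h | h)
      · exact ⟨0, by rw [h, zpow_zero]⟩
      · exact ⟨1, by rw [h, zpow_one]⟩
  set T1 : Subgroup C1 := (Subgroup.zpowers t).comap ((Ct.subtype).comp C1.subtype) with hT1
  have memT1 : ∀ {x : C1}, x ∈ T1 ↔ ((x : Ct) : G) = 1 ∨ ((x : Ct) : G) = t := fun {x} => mem_zt
  have fixT : ∀ (g : Ct) {x : G}, x = 1 ∨ x = t → (g : G) * x * (g : G)⁻¹ = x := by
    rintro g x (rfl | rfl)
    · group
    · exact LFNoncentralTransfer19.conj_fix (ctC g)
  haveI hT1n : T1.Normal := ⟨fun x hx g => by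
    have e1 : g * x * g⁻¹ = x := Subtype.ext (Subtype.ext (fixT (g : Ct) (memT1.1 hx)))
    rwa [e1]⟩
  have hT1mem : tc ∈ T1 := memT1.2 (Or.inr rfl)
  let X0 := C1 ⧸ T1
  let r : C1 →* X0 := QuotientGroup.mk' T1
  have r_eq : ∀ {x w : C1}, r x = r w ↔ ((x : Ct) : G)⁻¹ * ((w : Ct) : G) = 1 ∨
      ((x : Ct) : G)⁻¹ * ((w : Ct) : G) = t := fun {x w} => by
    rw [QuotientGroup.mk'_eq_mk']
    constructor
    · rintro ⟨k, hk, rfl⟩
      simpa using memT1.1 hk
    · intro h
      exact ⟨x⁻¹ * w, memT1.2 (by simpa using h), by group⟩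
  set d : X0 := r ec with hd
  let i1 : W →* C1 := i0.codRestrict C1 hW1
  have hWd : ∀ w : W, r (i1 w) ∈ centralizer ({d} : Set X0) := fun w => by
    refine Subgroup.mem_centralizer_singleton_iff.2 ?_
    rw [hd, ← map_mul, ← map_mul]
    exact congrArg r (Subtype.ext (Subtype.ext (X.ce _ w.2).eq))
  let ψ : W →* ↥(centralizer ({d} : Set X0)) := (r.comp i1).codRestrict _ hWd
  have hψs : Function.Surjective ψ := by
    rintro ⟨q, hq⟩
    obtain ⟨k, rfl⟩ := QuotientGroup.mk'_surjective T1 q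
    have h1 := Subgroup.mem_centralizer_singleton_iff.1 hq
    rw [hd, ← map_mul, ← map_mul, r_eq] at h1
    have hke : Commute ((k : Ct) : G) e := by
      rcases h1 with h1 | h1
      · rw [inv_mul_eq_one] at h1
        exact h1
      · exfalso
        refine hswap (k : Ct)⁻¹ (inv_mem k.2) ?_
        have h2 : (((k : Ct) : G) * e)⁻¹ * (e * ((k : Ct) : G)) = t := h1
        rw [Subgroup.coe_inv, inv_inv]
        calc ((k : Ct) : G)⁻¹ * e * ((k : Ct) : G) = e * ((((k : Ct) : G) * e)⁻¹ * (e * ((k : Ct) : G))) := by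
              group
          _ = e * t := by rw [h2]
    refine ⟨⟨_, X.all _ (ctC _) hke⟩, ?_⟩
    rfl
  haveI hWn := zp_normal X
  have hψk : ψ.ker = (Subgroup.zpowers t).subgroupOf W := by
    ext w
    rw [MonoidHom.mem_ker, Subgroup.mem_subgroupOf]
    refine Subtype.ext_iff.trans ?_
    exact (QuotientGroup.eq_one_iff (i1 w)).trans Iff.rfl
  let e2 : W ⧸ (Subgroup.zpowers t).subgroupOf W ≃* ↥(centralizer ({d} : Set X0)) :=
    (QuotientGroup.quotientMulEquivOfEq hψk.symm).trans
      (QuotientGroup.quotientKerEquivOfSurjective ψ hψs)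
  have hcov := cov_congr (cov X) e2
  have he2 : e2 (QuotientGroup.mk' _ (⟨e, X.emem⟩ : W)) = Unit62Count55.dd d := by
    refine Subtype.ext ?_
    rfl
  rw [he2] at hcov
  have hnwc : ∃ g : X0, g * d * g⁻¹ ∈ centralizer ({d} : Set X0) ∧ g * d * g⁻¹ ≠ d := by
    refine ⟨r ⟨m, hmC1⟩, ?_⟩
    have e1 : r ⟨m, hmC1⟩ * d * (r ⟨m, hmC1⟩)⁻¹ = r (⟨m, hmC1⟩ * ec * (⟨m, hmC1⟩ : C1)⁻¹) := by
      rw [hd, map_mul, map_mul, map_inv]
    have e2 : (((⟨m, hmC1⟩ * ec * (⟨m, hmC1⟩ : C1)⁻¹ : C1) : Ct) : G) = e * z * t := hme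
    rw [e1]
    refine ⟨Subgroup.mem_centralizer_singleton_iff.2 ?_, ?_⟩
    · rw [hd, ← map_mul, ← map_mul]
      refine congrArg r (Subtype.ext (Subtype.ext ?_))
      show (((⟨m, hmC1⟩ * ec * (⟨m, hmC1⟩ : C1)⁻¹ : C1) : Ct) : G) * e =
        e * (((⟨m, hmC1⟩ * ec * (⟨m, hmC1⟩ : C1)⁻¹ : C1) : Ct) : G)
      rw [e2]
      exact (comA S (mul_mem (mul_mem (eA S) (zA S)) (tA S)) (eA S)).eq
    · intro h
      rw [hd, r_eq, e2] at h
      have e3 : (e * z * t)⁻¹ * e = z * t := by
        rw [mul_inv_rev, mul_inv_rev, inv_eq_of_mul_eq_one_right htt,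
          inv_eq_of_mul_eq_one_right (sqA S (zA S)), (comA S (tA S) (mul_mem (zA S) (inv_mem (eA S)))).eq]
        rw [mul_assoc, (comA S (tA S) (eA S)).eq, ← mul_assoc, mul_assoc z, inv_mul_cancel, mul_one]
      change (e * z * t)⁻¹ * e = 1 ∨ (e * z * t)⁻¹ * e = t at h
      rw [e3] at h
      rcases h with h | h
      · exact (not_R S (ne6 S).2.2.2.2.2).1 (S.eqzt ▸ h)
      · exact z_ne_one S (mul_eq_right.1 h)
  have hS : Fi22RecogBridge11.Setup d ((QuotientGroup.lift _ θ fun g hg => zp_le X g hg).comp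
      e2.symm.toMonoidHom) := ⟨hcov, hnwc⟩
  obtain ⟨f0, -⟩ := ThreeTransM22Pres51.exists_equiv_of_hyp (Fi22RecogMain11.hyp hS)
  have hbot : Subgroup.center X0 = ⊥ := Fi22RecogLocal11.center_eq_bot hS
  haveI hsimp : IsSimpleGroup X0 := by
    haveI : IsSimpleGroup Cfsg.Spor.Fi22 := CosetCertFi22Simple.simple
    exact f0.symm.isSimpleGroup
  -- the action of the whole centralizer
  have hTmap : ∀ g : Ct, T1.map (MulAut.conjNormal g : MulAut C1).toMonoidHom = T1 := by
    intro g
    ext x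
    constructor
    · rintro ⟨w, hw, rfl⟩
      refine memT1.2 ?_
      have h1 := fixT g (memT1.1 hw)
      show ((((MulAut.conjNormal g : MulAut C1) w : C1) : Ct) : G) = 1 ∨ _
      rw [MulAut.conjNormal_apply]
      show (g : G) * ((w : Ct) : G) * (g : G)⁻¹ = 1 ∨ (g : G) * ((w : Ct) : G) * (g : G)⁻¹ = t
      rw [h1]
      exact memT1.1 hw
    · intro hx
      refine ⟨x, hx, Subtype.ext (Subtype.ext ?_)⟩
      show ((((MulAut.conjNormal g : MulAut C1) x : C1) : Ct) : G) = _
      rw [MulAut.conjNormal_apply]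
      exact fixT g (memT1.1 hx)
  let act : Ct →* MulAut X0 :=
    MonoidHom.mk' (fun g => QuotientGroup.congr T1 T1 (MulAut.conjNormal g) (hTmap g)) fun g h => by
      refine MulEquiv.ext fun q => ?_
      obtain ⟨w, rfl⟩ := QuotientGroup.mk'_surjective T1 q
      show QuotientGroup.mk' T1 ((MulAut.conjNormal (g * h) : MulAut C1) w) =
        QuotientGroup.mk' T1 ((MulAut.conjNormal g : MulAut C1) ((MulAut.conjNormal h : MulAut C1) w))
      rw [map_mul]; rfl
  have act_one : ∀ g : Ct, act g = 1 → (g : G) = 1 ∨ (g : G) = t := by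
    intro g hg
    have hk : ∀ k : C1, ((k : Ct) : G)⁻¹ * ((g : G) * ((k : Ct) : G) * (g : G)⁻¹) = 1 ∨
        ((k : Ct) : G)⁻¹ * ((g : G) * ((k : Ct) : G) * (g : G)⁻¹) = t := fun k => by
      have h1 : r ((MulAut.conjNormal g : MulAut C1) k) = r k := DFunLike.congr_fun hg (r k)
      rcases r_eq.1 h1.symm with h2 | h2
      · left
        rw [MulAut.conjNormal_apply] at h2
        exact h2
      · right
        rw [MulAut.conjNormal_apply] at h2
        exact h2
    set T := Subgroup.zpowers t with hT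
    have hcom : ∀ w : W, (w : G)⁻¹ * ((g : G) * (w : G) * (g : G)⁻¹) ∈ T := fun w =>
      mem_zt.2 (hk (i1 w))
    let δ : W →* G :=
      { toFun := fun w => (w : G)⁻¹ * ((g : G) * (w : G) * (g : G)⁻¹)
        map_one' := by simp
        map_mul' := fun u v => by
          have h1 : Commute ((u : G)⁻¹ * ((g : G) * (u : G) * (g : G)⁻¹)) (v : G) := by
            rcases mem_zt.1 (hcom u) with h | h <;> rw [h]
            exacts [Commute.one_left _, (X.ct _ v.2).symm]
          calc ((u * v : W) : G)⁻¹ * ((g : G) * ((u * v : W) : G) * (g : G)⁻¹)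
              = (v : G)⁻¹ * ((u : G)⁻¹ * ((g : G) * (u : G) * (g : G)⁻¹)) *
                ((g : G) * (v : G) * (g : G)⁻¹) := by
                rw [Subgroup.coe_mul]; group
            _ = ((u : G)⁻¹ * ((g : G) * (u : G) * (g : G)⁻¹)) *
                ((v : G)⁻¹ * ((g : G) * (v : G) * (g : G)⁻¹)) := by
                rw [← h1.inv_right.eq]; group }
    have hδ : ∀ w, δ w = 1 := eq_one_of_perfect X.perfect δ fun u v => by
      rcases mem_zt.1 (hcom u) with h | h <;> rcases mem_zt.1 (hcom v) with h' | h' <;>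
        simp only [δ, MonoidHom.coe_mk, OneHom.coe_mk, h, h']
      exacts [Commute.refl _, Commute.one_left _, Commute.one_right _, Commute.refl _]
    have hge : Commute (g : G) e := by
      have h1 : (e : G)⁻¹ * ((g : G) * e * (g : G)⁻¹) = 1 := hδ ⟨e, X.emem⟩
      exact LFNoncentralTransfer19.comm_of_fix (inv_mul_eq_one.1 h1).symm
    have hgW : (g : G) ∈ W := X.all _ (ctC g) hge
    have hgC1 : g ∈ C1 := hW1 ⟨_, hgW⟩
    have hcen : r ⟨g, hgC1⟩ ∈ Subgroup.center X0 := Subgroup.mem_center_iff.2 fun q => by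
      obtain ⟨k, rfl⟩ := QuotientGroup.mk'_surjective T1 q
      have h1 : r ((MulAut.conjNormal g : MulAut C1) k) = r k := DFunLike.congr_fun hg (r k)
      have e1 : (MulAut.conjNormal g : MulAut C1) k = (⟨g, hgC1⟩ : C1) * k * (⟨g, hgC1⟩ : C1)⁻¹ :=
        Subtype.ext (MulAut.conjNormal_apply g k)
      rw [e1, map_mul, map_mul, map_inv, mul_inv_eq_iff_eq_mul] at h1
      exact h1.symm
    rw [hbot, Subgroup.mem_bot, QuotientGroup.mk'_apply, QuotientGroup.eq_one_iff] at hcen
    exact memT1.1 hcen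
  let f : Ct →* MulAut Cfsg.Spor.Fi22 := (MulAut.congr f0.symm).toMonoidHom.comp act
  have hker : ∀ x : Ct, f x = 1 ↔ (x : G) ∈ Subgroup.zpowers t := by
    intro x
    show MulAut.congr f0.symm (act x) = 1 ↔ _
    rw [(MulAut.congr f0.symm).map_eq_one_iff]
    refine ⟨fun h => mem_zt.2 (act_one x h), fun h => MulEquiv.ext fun q => ?_⟩
    obtain ⟨k, rfl⟩ := QuotientGroup.mk'_surjective T1 q
    show r ((MulAut.conjNormal x : MulAut C1) k) = r k
    refine congrArg r (Subtype.ext ?_)
    rw [MulAut.conjNormal_apply]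
    refine Subtype.ext ?_
    show (x : G) * ((k : Ct) : G) * (x : G)⁻¹ = ((k : Ct) : G)
    rcases mem_zt.1 h with h' | h' <;> rw [h']
    · group
    · exact LFNoncentralTransfer19.conj_fix (ctC k).symm
  -- counting
  have hT2 : Nat.card (Subgroup.zpowers t) = 2 := by
    rw [Nat.card_zpowers]
    exact orderOf_eq_prime (by rw [pow_two]; exact htt) X.t1
  have hT1c : Nat.card T1 = 2 := by
    rw [← hT2]
    refine Nat.card_congr ⟨fun x => ⟨((x.1 : Ct) : G), x.2⟩, fun x => ⟨⟨i0 ⟨x.1, ?_⟩, hW1 _⟩, x.2⟩,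
      fun x => rfl, fun x => rfl⟩
    rcases mem_zt.1 x.2 with h | h <;> rw [h]
    exacts [one_mem _, X.tmem]
  have hfkc : Nat.card f.ker = 2 := by
    rw [← hT2]
    exact Nat.card_congr ⟨fun x => ⟨(x.1 : G), (hker _).1 x.2⟩,
      fun x => ⟨⟨x.1, memCt ((mem_zt.1 x.2).elim (fun h => by rw [h]; exact Commute.one_left t)
        fun h => by rw [h])⟩, (hker _).2 x.2⟩, fun x => rfl, fun x => rfl⟩
  have hfc : Nat.card X0 = Nat.card Cfsg.Spor.Fi22 := (Nat.card_congr f0.toEquiv).symm
  haveI : Finite Cfsg.Spor.Fi22 := Finite.of_equiv X0 f0.symm.toEquiv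
  haveI : Finite (MulAut Cfsg.Spor.Fi22) :=
    Finite.of_injective (fun a : MulAut Cfsg.Spor.Fi22 => (a : Cfsg.Spor.Fi22 → Cfsg.Spor.Fi22))
      DFunLike.coe_injective
  have haut : Nat.card (MulAut Cfsg.Spor.Fi22) = 2 * Nat.card Cfsg.Spor.Fi22 := by
    have h1 := Subgroup.card_mul_index (Cfsg.Inn Cfsg.Spor.Fi22)
    have h2 : (Cfsg.Inn Cfsg.Spor.Fi22).index = 2 := ThreeTransFi22Out41.card_out
    have h3 : Nat.card (Cfsg.Inn Cfsg.Spor.Fi22) = Nat.card Cfsg.Spor.Fi22 := by
      refine (Nat.card_congr (Equiv.ofInjective (MulAut.conj : Cfsg.Spor.Fi22 →* _) ?_)).symm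
      rw [injective_iff_map_eq_one]
      intro w hw
      have h4 : f0 w ∈ Subgroup.center X0 := Subgroup.mem_center_iff.2 fun q => by
        obtain ⟨q, rfl⟩ := f0.surjective q
        rw [← map_mul, ← map_mul]
        refine congrArg f0 ?_
        have h5 : w * q * w⁻¹ = q := by simpa using DFunLike.congr_fun hw q
        exact (mul_inv_eq_iff_eq_mul.1 h5).symm
      rw [hbot, Subgroup.mem_bot] at h4
      exact f0.map_eq_one_iff.1 h4
    rw [← h1, h2, h3, mul_comm]
  have hsurj : Function.Surjective f := by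
    rw [← MonoidHom.range_eq_top]
    refine Subgroup.eq_top_of_card_eq _ ?_
    have h1 := Subgroup.card_mul_index f.ker
    rw [Subgroup.index_ker, hfkc] at h1
    have h2 := Subgroup.card_mul_index C1
    rw [hC1i] at h2
    have h3 := Subgroup.card_eq_card_quotient_mul_card_subgroup T1
    rw [hT1c, show Nat.card (C1 ⧸ T1) = Nat.card Cfsg.Spor.Fi22 from hfc] at h3
    rw [haut, mul_comm 2, ← h3]
    have h4 : 2 * Nat.card f.range = Nat.card C1 * 2 := h1.trans h2.symm
    linarith
  -- the normal quasisimple subgroup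
  have htop : commutator C1 = ⊤ := by
    have htd : T1 ≤ commutator C1 := by
      intro x hx
      rcases memT1.1 hx with h | h
      · rw [show x = 1 from Subtype.ext (Subtype.ext h)]; exact one_mem _
      · have h1 : (⟨t, X.tmem⟩ : W) ∈ commutator W := by
          rw [Group.isPerfect_def.1 X.perfect]; exact Subgroup.mem_top _
        have h2 : i1 ⟨t, X.tmem⟩ ∈ (commutator W).map i1 := ⟨_, h1, rfl⟩
        rw [_root_.commutator_def, Subgroup.map_commutator] at h2
        rw [show x = i1 ⟨t, X.tmem⟩ from Subtype.ext (Subtype.ext h), _root_.commutator_def]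
        exact Subgroup.commutator_mono le_top le_top h2
    have himg : (commutator C1).map r = ⊤ := by
      rcases ((inferInstance : (commutator C1).Normal).map r
        (QuotientGroup.mk'_surjective T1)).eq_bot_or_eq_top with h | h
      · exfalso
        have h1 : Subgroup.center X0 = ⊤ := by
          rw [← commutator_eq_bot_iff_center_eq_top, ← h, _root_.commutator_def, _root_.commutator_def,
            Subgroup.map_commutator, Subgroup.map_top_of_surjective r (QuotientGroup.mk'_surjective T1)]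
        rw [hbot] at h1
        exact bot_ne_top h1
      · exact h
    rw [eq_top_iff]
    intro x _
    obtain ⟨w, hw, hwx⟩ : r x ∈ (commutator C1).map r := himg ▸ Subgroup.mem_top _
    rw [show x = w * (w⁻¹ * x) by group]
    exact mul_mem hw (htd (QuotientGroup.eq.1 hwx))
  have hcenC1 : Subgroup.center C1 = T1 := by
    refine le_antisymm (fun x hx => ?_) fun x hx => Subgroup.mem_center_iff.2 fun k =>
      Subtype.ext (Subtype.ext ?_)
    · have h1 : r x ∈ Subgroup.center X0 := Subgroup.mem_center_iff.2 fun q => by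
        obtain ⟨k, rfl⟩ := QuotientGroup.mk'_surjective T1 q
        rw [← map_mul, ← map_mul, Subgroup.mem_center_iff.1 hx k]
      rw [hbot, Subgroup.mem_bot] at h1
      exact (QuotientGroup.eq_one_iff x).1 h1
    · show ((k : Ct) : G) * ((x : Ct) : G) = ((x : Ct) : G) * ((k : Ct) : G)
      rcases memT1.1 hx with h | h <;> rw [h]
      · rw [one_mul, mul_one]
      · exact (ctC k).eq
  refine ⟨C1, hC1n, ⟨Group.isPerfect_def.2 htop, ?_⟩, ?_, hC1i, ⟨(tc : Ct), tc.2, rfl⟩, f, hsurj, hker⟩
  · exact ((QuotientGroup.quotientMulEquivOfEq hcenC1).isSimpleGroup_congr).2 hsimp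
  · intro g hg
    have h1 : act g = 1 := MulEquiv.ext fun q => by
      obtain ⟨k, rfl⟩ := QuotientGroup.mk'_surjective T1 q
      show r ((MulAut.conjNormal g : MulAut C1) k) = r k
      refine congrArg r (Subtype.ext ?_)
      rw [MulAut.conjNormal_apply]
      exact mul_inv_eq_iff_eq_mul.2 (Subgroup.mem_centralizer_iff.1 hg _ k.2).symm
    rcases act_one g h1 with h | h
    · rw [show g = 1 from Subtype.ext h]; exact one_mem _
    · rw [show g = (tc : Ct) from Subtype.ext h]; exact tc.2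

end Cfsg.Agent.LFNoncentralFinal19
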