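import Mathlib
import Cfsg.Agent.Lib.LFInter18
import Cfsg.Agent.Lib.LFModule18

/-!
The centraliser of an element of order three over the fixed point free element contains no copy
of the subgroup of index two of the quotient.
-/

set_option autoImplicit false
set_option linter.unusedSectionVars false
set_option linter.style.haveILetI false
set_option maxHeartbeats 800000
set_option maxRecDepth 100000

namespace Cfsg.Agent.LFNonsplit18

open Subgroup Cfsg.Agent.U62Mon93 Cfsg.Agent.U62Existence93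
open Cfsg.Agent.LFModel89 Cfsg.Agent.LFSetting89 Cfsg.Agent.LFSylow89
open Cfsg.Agent.LFMat89 Cfsg.Agent.LFData89 Cfsg.Agent.LFCheck89 Cfsg.Agent.LFElem89
open Cfsg.Agent.LFStabData18 Cfsg.Agent.LFStabCheck18 Cfsg.Agent.LFOrbits18 Cfsg.Agent.LFUStab18
open Cfsg.Agent.LFInter18
open Cfsg.Agent.FischerFrame18 (InvQ imgE interH)
open scoped Matrix

universe u

variable {G : Type u} [Group G] [Finite G] {z : G} {Q : Subgroup (centralizer ({z} : Set G))}
  [Q.Normal] {V : Type u} [AddCommGroup V] {zc : centralizer ({z} : Set G)}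
  {π : centralizer ({z} : Set G) → V} {ρ : centralizer ({z} : Set G) ⧸ Q →* AddMonoid.End V}
  {q : V → ZMod 2} {n : centralizer ({z} : Set G) ⧸ Q}
  {Mb : Subgroup (centralizer ({z} : Set G) ⧸ Q)}
  {F : Type} [Field F] [Fintype F] {s : F} {h : S4 s} {ν : (Fin 6 → F) → V}
  {Φ : K0 h →* centralizer ({z} : Set G) ⧸ Q}

theorem rM_ne : rM ≠ idM := by decide

theorem no_section (hF : Cfsg.IsOfLargeFischerTypeAt z Q) (D : Data z Q zc π ρ q n Mb)
    (C : Coord h ρ q n Mb ν Φ) {x : centralizer ({z} : Set G)}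
    (hx : QuotientGroup.mk' Q x = n) (σ : Mb →* centralizer ({z} : Set G))
    (hσ : ∀ m, QuotientGroup.mk' Q (σ m) = m) (hσx : ∀ m, σ m * x = x * σ m) : False := by
  classical
  haveI := finiteV D
  haveI : IsSimpleGroup (alternatingGroup (Fin 6)) := alternatingGroup.isSimpleGroup (by simp)
  set H := hyp D
  obtain ⟨y, g, hy, hye, htri, hg, hgy⟩ := exists_swap hF D C hx
  have hst := structure_T0 hF D C hy hye hg
  set T0 := T0u ρ Mb (nc s ν uC) with hT0
  set E2 := E2x H C with hE2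
  obtain ⟨hconj, -, ⟨φ, φsurj, φker⟩, hEM, -, -, -⟩ := hst
  have hE2T0 : E2 ≤ T0 := fun a ha => ⟨E2x_le H C ha, E2x_fix H C ha⟩
  -- lifts fix the chosen vector
  let σ0 : T0 →* centralizer ({z} : Set G) := σ.comp (Subgroup.inclusion fun a ha => ha.1)
  have hσ0 : ∀ a : T0, QuotientGroup.mk' Q (σ0 a) = (a : centralizer ({z} : Set G) ⧸ Q) :=
    fun a => hσ _
  have hfixy : ∀ a : T0, σ0 a * y * (σ0 a)⁻¹ = y := fun a =>
    fixes_lift D hx (hσx _) hy.mem (by rw [hσ0, hye]; exact a.2.2)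
  -- conjugation exchanging the two involutions
  have hmem : ∀ a : T0, g⁻¹ * (σ0 a : G) * g ∈ centralizer ({z} : Set G) := fun a => by
    have e : (σ0 a : G) * (g * z * g⁻¹) = g * z * g⁻¹ * (σ0 a : G) := by
      rw [hg]
      exact congrArg Subtype.val (mul_inv_eq_iff_eq_mul.1 (hfixy a))
    refine mem_centralizer_singleton_iff.2 ?_
    calc g⁻¹ * (σ0 a : G) * g * z = g⁻¹ * ((σ0 a : G) * (g * z * g⁻¹)) * g := by group
      _ = g⁻¹ * (g * z * g⁻¹ * (σ0 a : G)) * g := by rw [e]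
      _ = z * (g⁻¹ * (σ0 a : G) * g) := by group
  let ψ : T0 →* centralizer ({z} : Set G) := MonoidHom.mk' (fun a => ⟨_, hmem a⟩) fun a b =>
    Subtype.ext (by
      show g⁻¹ * ((σ0 (a * b) : centralizer ({z} : Set G)) : G) * g = _ * _
      rw [map_mul, Subgroup.coe_mul]
      group)
  have hψ : ∀ a : T0, ((ψ a : centralizer ({z} : Set G)) : G) = g⁻¹ * (σ0 a : G) * g := fun a => rfl
  have hψy : ∀ a : T0, ψ a * y * (ψ a)⁻¹ = y := fun a => by
    refine mul_inv_eq_iff_eq_mul.2 (Subtype.ext ?_)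
    have e : (σ0 a : G) * (g * y * g⁻¹) = g * y * g⁻¹ * (σ0 a : G) := by
      rw [hgy]
      exact mem_centralizer_singleton_iff.1 (σ0 a).2
    rw [Subgroup.coe_mul, Subgroup.coe_mul, hψ]
    calc g⁻¹ * (σ0 a : G) * g * y = g⁻¹ * ((σ0 a : G) * (g * y * g⁻¹)) * g := by group
      _ = g⁻¹ * (g * y * g⁻¹ * (σ0 a : G)) * g := by rw [e]
      _ = y * (g⁻¹ * (σ0 a : G) * g) := by group
  let Ψ : T0 →* centralizer ({z} : Set G) ⧸ Q := (QuotientGroup.mk' Q).comp ψ
  -- its kernel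
  have hψQ : ∀ a : T0, (a : centralizer ({z} : Set G) ⧸ Q) ∈ E2 → ψ a ∈ Q := by
    intro a ha
    obtain ⟨w, ⟨c, hc, rfl⟩, hwe⟩ := mem_conj_group hF D C hx hy hye htri hg (hσx _)
      (show QuotientGroup.mk' Q (σ0 a) ∈ E2 by rw [hσ0]; exact ha)
    change g * (c : G) * g⁻¹ = (σ0 a : G) at hwe
    have e : ψ a = c := Subtype.ext (by
      rw [hψ, ← hwe]
      group)
    exact e ▸ hc
  have hΨker : ∀ a : T0, Ψ a = 1 ↔ (a : centralizer ({z} : Set G) ⧸ Q) ∈ E2 := by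
    intro a
    constructor
    · intro e
      have hq : ψ a ∈ Q := (QuotientGroup.eq_one_iff _).1 e
      refine hEM _ ?_ a.2.1
      rw [← hσ0 a]
      refine Subgroup.mem_map_of_mem _ (Subgroup.mem_subgroupOf.2 ⟨?_, (σ0 a).2⟩)
      exact ⟨_, ⟨ψ a, hq, rfl⟩, by simp [hψ, mul_assoc]⟩
    · exact fun ha => (QuotientGroup.eq_one_iff _).2 (hψQ a ha)
  -- the image lies in the stabiliser
  have hsq3 : ∀ a ∈ E2, a * a * a = 1 → a = 1 := fun a ha e => by
    rwa [E2x_sq H C ha, one_mul] at e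
  obtain ⟨w1, w2, w3, -, hall, e6, e7, e8, -, hr3, hs3, hrs, hrb, hsb, -, -⟩ := rsfg_words
  simp only [List.all_append, Bool.and_eq_true] at hall
  obtain ⟨r, hrM, hr⟩ := Rp_word H C hall.1.1.1 w1
  obtain ⟨sg, hsM, hsg⟩ := Rp_word H C hall.1.1.2 w2
  obtain ⟨f, hfM, hf⟩ := Rp_word H C hall.1.2 w3
  have hrT : r ∈ T0 := ⟨hrM, by rw [Rp_nc H C hr, e6]⟩
  have hsT : sg ∈ T0 := ⟨hsM, by rw [Rp_nc H C hsg, e7]⟩
  have hfT : f ∈ T0 := ⟨hfM, by rw [Rp_nc H C hf, e8]⟩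
  have hr3' : r * (r * r) = 1 :=
    Rp_unique H C (hr3 ▸ Rp_mul H C hr (Rp_mul H C hr hr)) (Rp_one H C)
  have hs3' : sg * (sg * sg) = 1 :=
    Rp_unique H C (hs3 ▸ Rp_mul H C hsg (Rp_mul H C hsg hsg)) (Rp_one H C)
  have hrs' : r * sg = sg * r :=
    Rp_unique H C (Rp_mul H C hr hsg) (by rw [hrs]; exact Rp_mul H C hsg hr)
  have hφr : φ ⟨r, hrT⟩ ≠ 1 := fun e => by
    have h1 := hsq3 r ((φker ⟨r, hrT⟩).1 e) (by rw [mul_assoc]; exact hr3')
    have hid : idM < 2 ^ 72 := by decide +kernel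
    exact rM_ne (Rp_code H C hrb hid hr (h1 ▸ Rp_one H C))
  have hΨMb : ∀ a : T0, Ψ a ∈ Mb := by
    haveI : Mb.Normal := Subgroup.normal_of_index_eq_two D.index_two
    let K : Subgroup T0 := Mb.comap Ψ
    haveI hKn : (K.map φ).Normal := (inferInstance : K.Normal).map φ φsurj
    have hsqK : ∀ a : T0, a * a ∈ K := fun a => by
      show Ψ (a * a) ∈ Mb
      rw [map_mul, Subgroup.mul_mem_iff_of_index_two D.index_two]
    rcases hKn.eq_bot_or_eq_top with e | e
    · exfalso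
      refine hφr ?_
      have h2 : φ (⟨r, hrT⟩ * ⟨r, hrT⟩) = 1 := by
        have := Subgroup.mem_map_of_mem φ (hsqK ⟨r, hrT⟩)
        rwa [e, Subgroup.mem_bot] at this
      have h3 : φ (⟨r, hrT⟩ * (⟨r, hrT⟩ * ⟨r, hrT⟩)) = 1 := by
        rw [show (⟨r, hrT⟩ : T0) * (⟨r, hrT⟩ * ⟨r, hrT⟩) = 1 from Subtype.ext hr3', map_one]
      rwa [map_mul, h2, mul_one] at h3
    · intro a
      obtain ⟨k, hk, hke⟩ : φ a ∈ K.map φ := e ▸ Subgroup.mem_top _
      have hker : Ψ (k⁻¹ * a) = 1 := (hΨker _).2 ((φker _).1 (by rw [map_mul, map_inv, hke,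
        inv_mul_cancel]))
      rw [map_mul, map_inv, inv_mul_eq_one] at hker
      exact hker ▸ hk
  let Ψ' : T0 →* T0 := Ψ.codRestrict T0 fun a => ⟨hΨMb a, by
    show op ρ (QuotientGroup.mk' Q (ψ a)) _ = _
    rw [← hye, ← act D _ hy.mem, hψy]⟩
  let α : T0 →* alternatingGroup (Fin 6) := φ.comp Ψ'
  have hαker : ∀ a : T0, α a = 1 ↔ (a : centralizer ({z} : Set G) ⧸ Q) ∈ E2 := by
    intro a
    constructor
    · intro e
      -- the preimage of the kernel is normal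
      let L : Subgroup T0 := α.ker
      haveI hLn : (L.map φ).Normal := (inferInstance : L.Normal).map φ φsurj
      rcases hLn.eq_bot_or_eq_top with e' | e'
      · have := Subgroup.mem_map_of_mem φ (show a ∈ L from e)
        rw [e', Subgroup.mem_bot] at this
        exact (φker a).1 this
      · exfalso
        obtain ⟨k, hk, hke⟩ : φ ⟨r, hrT⟩ ∈ L.map φ := e' ▸ Subgroup.mem_top _
        have hk3 : Ψ (k * (k * k)) = 1 := (hΨker _).2 ((φker _).1 (by
          rw [map_mul, map_mul, hke, ← map_mul, ← map_mul,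
            show (⟨r, hrT⟩ : T0) * (⟨r, hrT⟩ * ⟨r, hrT⟩) = 1 from Subtype.ext hr3', map_one]))
        have hk1 : Ψ k = 1 := by
          refine hsq3 _ ((φker (Ψ' k)).1 hk) ?_
          rw [mul_assoc, ← map_mul, ← map_mul]
          exact hk3
        exact hφr (hke ▸ (φker k).2 ((hΨker k).1 hk1))
    · intro ha
      have : Ψ' a = 1 := Subtype.ext ((hΨker a).2 ha)
      show φ (Ψ' a) = 1
      rw [this, map_one]
  have αsurj : Function.Surjective α := by
    have hA6 : Nat.card (alternatingGroup (Fin 6)) = 360 := by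
      rw [nat_card_alternatingGroup, Nat.card_fin]; rfl
    have hk : α.ker = φ.ker := Subgroup.ext fun a => (hαker a).trans (φker a).symm
    have e : Nat.card α.range = 360 := by
      rw [← hA6, ← Nat.card_congr (QuotientGroup.quotientKerEquivRange α).toEquiv, hk,
        Nat.card_congr (QuotientGroup.quotientKerEquivOfSurjective φ φsurj).toEquiv]
    exact MonoidHom.range_eq_top.1 (Subgroup.eq_top_of_card_eq _ (e.trans hA6.symm))
  have hlift : ∀ b : T0, ∃ m : T0, α m = φ b ∧ ∃ e ∈ E2, Ψ m = e * b := by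
    intro b
    obtain ⟨m, hm⟩ := αsurj (φ b)
    refine ⟨m, hm, Ψ m * (b : centralizer ({z} : Set G) ⧸ Q)⁻¹, ?_, by group⟩
    exact (φker (Ψ' m * b⁻¹)).1 (by rw [map_mul, map_inv, show φ (Ψ' m) = φ b from hm,
      mul_inv_cancel])
  obtain ⟨mr, hmr, er, her, hΨr⟩ := hlift ⟨r, hrT⟩
  obtain ⟨ms, hms, es, hes, hΨs⟩ := hlift ⟨sg, hsT⟩
  obtain ⟨mf, hmf, ef, hef, hΨf⟩ := hlift ⟨f, hfT⟩
  have hjr3 : Ψ mr * (Ψ mr * Ψ mr) = 1 := by
    rw [← map_mul, ← map_mul]
    refine (hΨker _).2 ((hαker _).1 ?_)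
    rw [map_mul, map_mul, hmr, ← map_mul, ← map_mul,
      show (⟨r, hrT⟩ : T0) * (⟨r, hrT⟩ * ⟨r, hrT⟩) = 1 from Subtype.ext hr3', map_one]
  have hjs3 : Ψ ms * (Ψ ms * Ψ ms) = 1 := by
    rw [← map_mul, ← map_mul]
    refine (hΨker _).2 ((hαker _).1 ?_)
    rw [map_mul, map_mul, hms, ← map_mul, ← map_mul,
      show (⟨sg, hsT⟩ : T0) * (⟨sg, hsT⟩ * ⟨sg, hsT⟩) = 1 from Subtype.ext hs3', map_one]
  have hjrs : Ψ mr * Ψ ms = Ψ ms * Ψ mr := by
    rw [← map_mul, ← map_mul, ← inv_mul_eq_one, ← map_inv, ← map_mul]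
    refine (hΨker _).2 ((hαker _).1 ?_)
    rw [map_mul, map_inv, map_mul, map_mul, hmr, hms, ← map_mul, ← map_mul, inv_mul_eq_one]
    exact congrArg φ (Subtype.ext hrs')
  -- conjugate the first to `r`
  obtain ⟨i, hi, hei⟩ := her
  obtain ⟨e', he', hcr⟩ : ∃ e' ∈ E2, e' * Ψ mr * e' = r := by
    have hR : Rp ρ s ν (Ψ mr) (mulM (e2 i) rM) := hΨr ▸ Rp_mul H C hei hr
    have hid : idM < 2 ^ 72 := by decide +kernel
    have hcube : cubeOne (mulM (e2 i) rM) = true := by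
      rw [cubeOne, Nat.beq_eq]
      exact Rp_code H C (mulM_lt _ _) hid
        (hjr3 ▸ Rp_mul H C hR (Rp_mul H C hR hR)) (Rp_one H C)
    have hl := allBelow_spec r_lifts i hi
    rw [hcube, Bool.not_true, Bool.false_or, List.any_eq_true] at hl
    obtain ⟨M, hM, hMe⟩ := hl
    obtain ⟨j, hj, rfl⟩ := e2_index hM
    obtain ⟨⟨ej, -, hej⟩, -, -⟩ := e2_spec H C hj
    refine ⟨ej, ⟨j, hj, hej⟩, ?_⟩
    have e : Ψ mr = ej * (r * ej) :=
      Rp_unique H C hR ((Nat.eq_of_beq_eq_true hMe).symm ▸ Rp_mul H C hej (Rp_mul H C hr hej))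
    rw [e, show ej * (ej * (r * ej)) * ej = ej * ej * r * (ej * ej) by simp only [mul_assoc],
      E2x_sq H C ⟨j, hj, hej⟩, one_mul, mul_one]
  have hinv2 : ∀ {a}, a ∈ E2 → a⁻¹ = a := fun ha => inv_eq_of_mul_eq_one_right (E2x_sq H C ha)
  have hshift : ∀ {b a e : centralizer ({z} : Set G) ⧸ Q}, b ∈ T0 → a ∈ E2 → e ∈ E2 →
      ∃ e'' ∈ E2, a * (e * b) * a = e'' * b := fun {b a e} hb ha he =>
    ⟨a * e * (b * a * b⁻¹), mul_mem (mul_mem ha he) (hconj b hb a ha), by group⟩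
  obtain ⟨es', hes', hs1⟩ := hshift hsT he' hes
  obtain ⟨i₁, hi₁, hei₁⟩ := hes'
  have hconjmul : ∀ {a b c : centralizer ({z} : Set G) ⧸ Q}, a ∈ E2 →
      a * b * a * (a * c * a) = a * (b * c) * a := fun {a b c} ha => by
    rw [show a * b * a * (a * c * a) = a * b * (a * a) * c * a by simp only [mul_assoc],
      E2x_sq H C ha, mul_one]
    simp only [mul_assoc]
  obtain ⟨e'', he'', hre'', hcs⟩ : ∃ e'' ∈ E2, e'' * r = r * e'' ∧
      e'' * (e' * Ψ ms * e') * e'' = sg := by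
    have hR : Rp ρ s ν (e' * Ψ ms * e') (mulM (e2 i₁) sM) := by
      rw [hΨs, hs1]; exact Rp_mul H C hei₁ hsg
    have hid : idM < 2 ^ 72 := by decide +kernel
    have hcube : cubeOne (mulM (e2 i₁) sM) = true := by
      rw [cubeOne, Nat.beq_eq]
      have h3 := Rp_mul H C hR (Rp_mul H C hR hR)
      rw [hconjmul he', hconjmul he', hjs3, mul_one, E2x_sq H C he'] at h3
      exact Rp_code H C (mulM_lt _ _) hid h3 (Rp_one H C)
    have hcomm : Nat.beq (mulM rM (mulM (e2 i₁) sM)) (mulM (mulM (e2 i₁) sM) rM) = true := by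
      rw [Nat.beq_eq]
      have h1 := Rp_mul H C hr hR
      have h2 := Rp_mul H C hR hr
      rw [← hcr, hconjmul he'] at h1 h2
      rw [hjrs] at h1
      exact Rp_code H C (mulM_lt _ _) (mulM_lt _ _) h1 h2
    have hl := allBelow_spec s_lifts i₁ hi₁
    rw [hcube, hcomm, Bool.and_self, Bool.not_true, Bool.false_or, List.any_eq_true] at hl
    obtain ⟨M, hM, hMe⟩ := hl
    rw [Bool.and_eq_true, Nat.beq_eq, Nat.beq_eq] at hMe
    obtain ⟨j, hj, rfl⟩ := e2_index hM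
    obtain ⟨⟨ej, -, hej⟩, -, -⟩ := e2_spec H C hj
    have hec : ej * r = r * ej := by
      have h1 := Rp_mul H C hej hr
      rw [hMe.1] at h1
      exact Rp_unique H C h1 (Rp_mul H C hr hej)
    refine ⟨ej, ⟨j, hj, hej⟩, hec, ?_⟩
    have e : e' * Ψ ms * e' = ej * (sg * ej) := by
      have h1 := Rp_mul H C hej (Rp_mul H C hsg hej)
      rw [← hMe.2] at h1
      exact Rp_unique H C hR h1
    rw [e, show ej * (ej * (sg * ej)) * ej = ej * ej * sg * (ej * ej) by simp only [mul_assoc],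
      E2x_sq H C ⟨j, hj, hej⟩, one_mul, mul_one]
  have hcr' : e'' * (e' * Ψ mr * e') * e'' = r := by
    rw [hcr, hre'', mul_assoc, E2x_sq H C he'', mul_one]
  obtain ⟨ef', hef', hf1⟩ := hshift hfT he' hef
  obtain ⟨ef'', hef'', hf2⟩ := hshift hfT he'' hef'
  obtain ⟨i₂, hi₂, hei₂⟩ := hef''
  have hcf : Rp ρ s ν (e'' * (e' * Ψ mf * e') * e'') (mulM (e2 i₂) fM) := by
    rw [hΨf, hf1, hf2]; exact Rp_mul H C hei₂ hf
  -- the invariant subgroup
  let P2 : Subgroup (centralizer ({z} : Set G)) := (E2.subgroupOf T0).map ψ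
  have hP2Q : P2 ≤ Q := by
    rintro _ ⟨a, ha, rfl⟩
    exact hψQ a (Subgroup.mem_subgroupOf.1 ha)
  let U : AddSubgroup V := piIm D P2
  have hUcard : Nat.card U = 16 := by
    rw [← card_E2x H C, ← hE2, ← Nat.card_congr (Subgroup.subgroupOfEquivOfLe hE2T0).toEquiv]
    let t : E2.subgroupOf T0 → U := fun a => ⟨π (ψ a), ψ a,
      ⟨Subgroup.mem_map_of_mem ψ a.2, hψQ _ (Subgroup.mem_subgroupOf.1 a.2)⟩, rfl⟩
    refine (Nat.card_congr (Equiv.ofBijective t ⟨fun a b e => ?_, ?_⟩)).symm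
    · have e' : π (ψ (a⁻¹ * b : E2.subgroupOf T0)) = 0 := by
        have ha := hψQ _ (Subgroup.mem_subgroupOf.1 a.2)
        have hb := hψQ _ (Subgroup.mem_subgroupOf.1 b.2)
        rw [Subgroup.coe_mul, Subgroup.coe_inv, map_mul, map_inv,
          D.link.add _ (inv_mem ha) _ hb, pi_inv D ha, show π (ψ (a : T0)) = π (ψ (b : T0)) from
          congrArg Subtype.val e, D.orth.two]
      rcases (D.link.ker _ (hψQ _ (Subgroup.mem_subgroupOf.1 (a⁻¹ * b).2))).1 e' with e1 | e1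
      · refine (inv_mul_eq_one.1 (Subtype.ext (Subtype.ext ?_)))
        rw [← hσ0]
        have : σ0 (a⁻¹ * b : E2.subgroupOf T0).1 = 1 := Subtype.ext (by
          have e2 := congrArg Subtype.val e1
          rw [hψ, Subgroup.coe_one, mul_assoc, inv_mul_eq_one] at e2
          simpa using e2.symm)
        rw [this, map_one]
        rfl
      · exfalso
        have hyσ : σ0 (a⁻¹ * b : E2.subgroupOf T0).1 = y := Subtype.ext (by
          have e2 := congrArg Subtype.val e1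
          rw [hψ, D.zc_val] at e2
          refine Eq.trans ?_ ((congrArg (fun t : G => g * t * g⁻¹) e2).trans hg)
          group)
        have h1 := hσ0 (a⁻¹ * b : E2.subgroupOf T0).1
        rw [hyσ, show QuotientGroup.mk' Q y = 1 from (QuotientGroup.eq_one_iff y).2 hy.mem] at h1
        rw [show ((a⁻¹ * b : E2.subgroupOf T0).1) = 1 from Subtype.ext h1.symm, map_one] at hyσ
        exact hy.ne_one hyσ.symm
    · rintro ⟨v, w, ⟨⟨a, ha, rfl⟩, hwQ⟩, rfl⟩
      exact ⟨⟨a, ha⟩, rfl⟩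
  have hUinv : ∀ m : T0, ∀ v ∈ U, op ρ (Ψ m) v ∈ U := by
    rintro m _ ⟨w, ⟨⟨a, ha, rfl⟩, hwQ⟩, rfl⟩
    refine ⟨ψ (m * a * m⁻¹), ⟨Subgroup.mem_map_of_mem ψ (Subgroup.mem_subgroupOf.2
      (hconj _ m.2 _ (Subgroup.mem_subgroupOf.1 ha))), ?_⟩, ?_⟩
    · exact hψQ _ (hconj _ m.2 _ (Subgroup.mem_subgroupOf.1 ha))
    · rw [map_mul, map_mul, map_inv, act D _ hwQ]
      rfl
  have htriv : (∀ v ∈ U, op ρ (Ψ mr) v = v) → ∀ m : T0, ∀ v ∈ U, op ρ (Ψ m) v = v := by
    intro hall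
    let K : Subgroup T0 :=
      { carrier := {m | ∀ v ∈ U, op ρ (Ψ m) v = v}
        one_mem' := fun v _ => by rw [map_one, rho_one]
        mul_mem' := fun {a b} ha hb v hv => by rw [map_mul, rho_mul, hb v hv, ha v hv]
        inv_mem' := fun {a} ha v hv => by
          conv_lhs => rw [← ha v hv, map_inv, ← rho_mul, inv_mul_cancel, rho_one] }
    haveI : K.Normal := ⟨fun k hk m v hv => by
      rw [map_mul, map_mul, map_inv, rho_mul, rho_mul,
        hk _ (by rw [← map_inv]; exact hUinv _ v hv), ← rho_mul, mul_inv_cancel, rho_one]⟩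
    haveI hKn : (K.map α).Normal := (inferInstance : K.Normal).map α αsurj
    rcases hKn.eq_bot_or_eq_top with e | e
    · have := Subgroup.mem_map_of_mem α (show mr ∈ K from hall)
      rw [e, Subgroup.mem_bot, hmr] at this
      exact absurd this hφr
    · intro m
      obtain ⟨k, hk, hke⟩ : α m ∈ K.map α := e ▸ Subgroup.mem_top _
      have h1 : Ψ (k⁻¹ * m) = 1 := (hΨker _).2 ((hαker _).1 (by
        rw [map_mul, map_inv, hke, inv_mul_cancel]))
      rw [map_mul, map_inv, inv_mul_eq_one] at h1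
      exact fun v hv => by rw [← h1]; exact hk v hv
  -- transport
  set w := e'' * e' with hw
  have hwb : ∀ m : T0, e'' * (e' * Ψ m * e') * e'' = w * Ψ m * w⁻¹ := fun m => by
    rw [hw, mul_inv_rev, hinv2 he', hinv2 he'']; simp only [mul_assoc]
  let U' : AddSubgroup V := U.map (op ρ w)
  have hU' : Nat.card U' = 16 := by
    rw [← hUcard]
    refine (Nat.card_congr (Equiv.ofBijective (fun v : U => (⟨op ρ w v, v, v.2, rfl⟩ : U'))
      ⟨fun a b e => Subtype.ext ?_, ?_⟩)).symm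
    · have e' := congrArg (fun t : U' => op ρ w⁻¹ (t : V)) e
      simpa [← rho_mul, rho_one] using e'
    · rintro ⟨_, v, hv, rfl⟩; exact ⟨⟨v, hv⟩, rfl⟩
  have hmove : ∀ m : T0, ∀ v, op ρ (w * Ψ m * w⁻¹) (op ρ w v) = op ρ w (op ρ (Ψ m) v) := fun m v => by
    rw [← rho_mul, inv_mul_cancel_right, rho_mul]
  refine LFModule18.no_invariant H C hU' hi₂ (a := e'' * (e' * Ψ mr * e') * e'')
    (b := e'' * (e' * Ψ ms * e') * e'') (c := e'' * (e' * Ψ mf * e') * e'')
    (by rw [hcr']; exact hr) (by rw [hcs]; exact hsg) hcf ?_ ?_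
  · rintro _ ⟨v, hv, rfl⟩
    simp only [hwb, hmove]
    exact ⟨⟨_, hUinv mr v hv, rfl⟩, ⟨_, hUinv ms v hv, rfl⟩, ⟨_, hUinv mf v hv, rfl⟩⟩
  · intro hfix
    have hall' : ∀ v ∈ U, op ρ (Ψ mr) v = v := fun v hv => by
      have e := hfix _ ⟨v, hv, rfl⟩
      rw [hwb, hmove] at e
      have e' := congrArg (fun t => op ρ w⁻¹ t) e
      simpa [← rho_mul, rho_one] using e'
    rintro _ ⟨v, hv, rfl⟩
    simp only [hwb, hmove, htriv hall' ms v hv, htriv hall' mf v hv]
    exact ⟨trivial, trivial⟩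

end Cfsg.Agent.LFNonsplit18
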