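import Mathlib
import Cfsg.Agent.Lib.LFNonsplit18

/-!
The centraliser of an element of order three over the fixed point free element is `6.U₄(3)`.
-/

set_option autoImplicit false
set_option linter.unusedSectionVars false
set_option linter.style.haveILetI false
set_option maxHeartbeats 800000
set_option maxRecDepth 100000

namespace Cfsg.Agent.LFSixfold18

open Cfsg Subgroup Cfsg.Agent.U62Mon93 Cfsg.Agent.U62Existence93 Cfsg.Agent.U62Twist93
open Cfsg.Agent.LFModel89 Cfsg.Agent.LFSetting89 Cfsg.Agent.LFSylow89 Cfsg.Agent.LFElem89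
open scoped Matrix

universe u

variable {G : Type u} [Group G] [Finite G] {z : G} {Q : Subgroup (centralizer ({z} : Set G))}
  [Q.Normal] {V : Type u} [AddCommGroup V] {zc : centralizer ({z} : Set G)}
  {π : centralizer ({z} : Set G) → V} {ρ : centralizer ({z} : Set G) ⧸ Q →* AddMonoid.End V}
  {q : V → ZMod 2} {n : centralizer ({z} : Set G) ⧸ Q}
  {Mb : Subgroup (centralizer ({z} : Set G) ⧸ Q)}
  {F : Type} [Field F] [Fintype F] {s : F} {h : S4 s} {ν : (Fin 6 → F) → V}
  {Φ : K0 h →* centralizer ({z} : Set G) ⧸ Q}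

/-- The scalar of order three is a product of two commutators. -/
theorem scalar_mem (h : S4 s) : ∃ g : K0 h, g ∈ commutator (K0 h) ∧
    U62Mon93.IsM s g.1 1 (fun _ => 1) := by
  have key : ∀ (p : Equiv.Perm (Fin 6)) (c : Fin 6 → ZMod 3), Equiv.Perm.sign p = 1 →
      ∑ i, c i = 0 → ∃ g : K0 h, g ∈ commutator (K0 h) ∧
        U62Mon93.IsM s g.1 1 (fun j => c (p⁻¹ j) - c j) := by
    intro p c hp hc
    obtain ⟨P, hP⟩ := exists_isM h p (d := 0) (by simp)
    obtain ⟨e, he⟩ := exists_isM h 1 hc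
    have hPK : P ∈ K0 h := Kc_zero h ▸ mem_Kc_of_even h 0 hp hP
    have heK : e ∈ K0 h := E_le_K0 h ⟨c, he⟩
    refine ⟨⟨P, hPK⟩ * ⟨e, heK⟩ * ⟨P, hPK⟩⁻¹ * ⟨e, heK⟩⁻¹, ?_, ?_⟩
    · rw [← commutatorElement_def, _root_.commutator_def]
      exact Subgroup.commutator_mem_commutator (Subgroup.mem_top _) (Subgroup.mem_top _)
    · have := (hP.conj_eq h he).mul h (he.inv h)
      simpa [sub_eq_add_neg] using this
  obtain ⟨g1, hg1, h1⟩ := key ca ![0, 2, 1, 0, 0, 0] (by decide) (by decide)
  obtain ⟨g2, hg2, h2⟩ := key cb ![0, 0, 0, 0, 2, 1] (by decide) (by decide)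
  refine ⟨g1 * g2, mul_mem hg1 hg2, ?_⟩
  have h12 := h1.mul h h2
  rw [mul_one] at h12
  have hd : (fun j : Fin 6 => (![0, 2, 1, 0, 0, 0] : Fin 6 → ZMod 3) (ca⁻¹ ((1 : Equiv.Perm (Fin 6)) j)) -
      (![0, 2, 1, 0, 0, 0] : Fin 6 → ZMod 3) ((1 : Equiv.Perm (Fin 6)) j) +
      ((![0, 0, 0, 0, 2, 1] : Fin 6 → ZMod 3) (cb⁻¹ j) -
        (![0, 0, 0, 0, 2, 1] : Fin 6 → ZMod 3) j)) = fun _ => 1 := by decide
  rw [hd] at h12
  exact h12

theorem n_mem_commutator (D : Data z Q zc π ρ q n Mb) (C : Coord h ρ q n Mb ν Φ) :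
    (⟨n, D.n_mem⟩ : Mb) ∈ commutator Mb := by
  obtain ⟨g, hg, hgm⟩ := scalar_mem h
  have hΦ : Φ g = n := ext_op (hyp D) C fun v => by
    rw [C.act, C.scalar]
    congr 1
    funext i
    show ∑ x, entry g.1 i x * v x = _
    rw [Finset.sum_eq_single i (fun x _ hx => by
        rw [hgm, Equiv.Perm.one_apply, if_neg (Ne.symm hx), zero_mul])
      (fun hh => absurd (Finset.mem_univ _) hh), hgm, Equiv.Perm.one_apply, if_pos rfl, ex_one]
    rfl
  let Φ' : K0 h →* Mb := Φ.codRestrict Mb fun x => by rw [← C.range]; exact ⟨x, rfl⟩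
  have h1 : Φ' g ∈ commutator Mb := by
    have h2 := Subgroup.mem_map_of_mem Φ' hg
    rw [_root_.commutator_def, Subgroup.map_commutator] at h2
    exact Subgroup.commutator_mono le_top le_top h2
  rwa [show Φ' g = (⟨n, D.n_mem⟩ : Mb) from Subtype.ext hΦ] at h1

theorem result (hF : Cfsg.IsOfLargeFischerTypeAt z Q) (D : Data z Q zc π ρ q n Mb)
    (C : Coord h ρ q n Mb ν Φ) (X : Subgroup (centralizer ({z} : Set G))) (hX : Nat.card X = 3)
    (hXQ : (X ⊔ Q).Normal) :
    Cfsg.IsQuasisimple ↥(centralizer (X : Set (centralizer ({z} : Set G)))) ∧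
      IsCyclic ↥(Subgroup.center ↥(centralizer (X : Set (centralizer ({z} : Set G))))) ∧
      Nat.card ↥(Subgroup.center ↥(centralizer (X : Set (centralizer ({z} : Set G))))) = 6 ∧
      ∃ (K : Type) (_ : Field K) (_ : Fintype K), Fintype.card K = 9 ∧
        Nonempty (↥(centralizer (X : Set (centralizer ({z} : Set G)))) ⧸
          Subgroup.center ↥(centralizer (X : Set (centralizer ({z} : Set G)))) ≃* Cfsg.PSU 4 K 3) := by
  classical
  haveI := finiteV D
  haveI : Fact (Nat.Prime 3) := ⟨Nat.prime_three⟩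
  set mk := QuotientGroup.mk' Q with hmk
  obtain ⟨K, _, _, φ, hK, φsurj, φker⟩ := D.quot
  haveI hsimple : IsSimpleGroup (Cfsg.PSU 4 K 3) :=
    OrthUnitaryPSU.isSimpleGroup_PSU (q := 3) (by rw [hK]; rfl) (by norm_num) (by norm_num)
  have hperf : commutator (Cfsg.PSU 4 K 3) = ⊤ := by
    rw [_root_.commutator_def, ← Subgroup.map_top_of_surjective
      (QuotientGroup.mk' (Subgroup.center (SU 4 K 3))) (QuotientGroup.mk'_surjective _),
      ← Subgroup.map_commutator, ← _root_.commutator_def,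
      OrthUnitaryPSU.commutator_eq_top (q := 3) (by rw [hK]; rfl) (by norm_num) (by norm_num)]
  -- the generator
  have hXQd : X ⊓ Q = ⊥ := by
    refine Subgroup.eq_bot_of_card_eq _ (Nat.dvd_one.1 ?_)
    have h1 := Subgroup.card_dvd_of_le (inf_le_left : X ⊓ Q ≤ X)
    have h2 := Subgroup.card_dvd_of_le (inf_le_right : X ⊓ Q ≤ Q)
    rw [hX] at h1
    rw [D.card_Q] at h2
    exact (Nat.dvd_gcd h1 h2).trans (by norm_num)
  have hXinj : ∀ a ∈ X, ∀ b ∈ X, mk a = mk b → a = b := by
    intro a ha b hb e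
    have : a⁻¹ * b ∈ X ⊓ Q := Subgroup.mem_inf.2 ⟨mul_mem (inv_mem ha) hb, QuotientGroup.eq.1 e⟩
    rw [hXQd, Subgroup.mem_bot, inv_mul_eq_one] at this
    exact this
  set Xb := X.map mk with hXb
  haveI hXbn : Xb.Normal := by
    have e : Xb = (X ⊔ Q).map mk := by
      rw [Subgroup.map_sup, (Subgroup.map_eq_bot_iff _).2 (QuotientGroup.ker_mk' Q).ge, sup_bot_eq]
    rw [e]
    exact hXQ.map _ (QuotientGroup.mk'_surjective Q)
  have hXcube : ∀ a ∈ X, a * a * a = 1 := by
    intro a ha
    have := orderOf_dvd_natCard (⟨a, ha⟩ : X)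
    rw [hX, ← Subgroup.orderOf_coe, orderOf_dvd_iff_pow_eq_one, pow_three'] at this
    exact this
  have hXM : Xb ≤ Mb := by
    rintro _ ⟨a, ha, rfl⟩
    have h2 : mk a * mk a ∈ Mb := by rw [Subgroup.mul_mem_iff_of_index_two D.index_two]
    have h3 : mk a * mk a * mk a ∈ Mb := by
      rw [← map_mul, ← map_mul, hXcube a ha, map_one]; exact one_mem _
    exact (Subgroup.mul_mem_cancel_left _ h2).1 h3
  have hXn : Xb ≤ Subgroup.zpowers n := by
    haveI : (Xb.subgroupOf Mb).Normal := Subgroup.normal_subgroupOf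
    rcases (Subgroup.Normal.map (H := Xb.subgroupOf Mb) inferInstance φ φsurj).eq_bot_or_eq_top
      with e | e
    · intro a ha
      refine (φker ⟨a, hXM ha⟩).1 ?_
      have := Subgroup.mem_map_of_mem φ (show (⟨a, hXM ha⟩ : Mb) ∈ Xb.subgroupOf Mb from ha)
      rwa [e, Subgroup.mem_bot] at this
    · exfalso
      have h1 := Subgroup.card_map_dvd (Xb.subgroupOf Mb) φ
      rw [e, Subgroup.card_top, PSUFourThree56.card_PSU hK,
        Nat.card_congr (Subgroup.subgroupOfEquivOfLe hXM).toEquiv] at h1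
      have h2 := Nat.le_of_dvd Nat.card_pos h1
      have h3 : Nat.card Xb ≤ 3 := hX ▸ Nat.card_le_card_of_surjective (mk.subgroupMap X)
        (mk.subgroupMap_surjective X)
      omega
  have hXeq : Xb = Subgroup.zpowers n := by
    refine Subgroup.eq_of_le_of_card_ge hXn ?_
    rw [Nat.card_zpowers, D.order_n]
    rw [← hX]
    exact Nat.card_le_card_of_injective (fun a : X => (⟨mk a, Subgroup.mem_map_of_mem mk a.2⟩ : Xb))
      fun a b e => Subtype.ext (hXinj a a.2 b b.2 (congrArg Subtype.val e))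
  obtain ⟨x, hxX, hxn⟩ : n ∈ Xb := hXeq.ge (Subgroup.mem_zpowers n)
  change mk x = n at hxn
  have hxne : (⟨x, hxX⟩ : X) ≠ 1 := fun e => by
    have h1 : n = 1 := by rw [← hxn, show x = 1 from congrArg Subtype.val e, map_one]
    have := D.order_n
    rw [h1, orderOf_one] at this
    omega
  have hgen : ∀ a ∈ X, a ∈ Subgroup.zpowers x := by
    intro a ha
    have h1 : Subgroup.zpowers (⟨x, hxX⟩ : X) = ⊤ := zpowers_eq_top_of_prime_card hX hxne
    obtain ⟨i, hi⟩ := (Subgroup.eq_top_iff' _).1 h1 ⟨a, ha⟩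
    exact ⟨i, congrArg Subtype.val hi⟩
  set C' := centralizer (X : Set (centralizer ({z} : Set G))) with hC'
  have hCmem : ∀ c, c ∈ C' ↔ c * x = x * c := by
    intro c
    rw [hC', Subgroup.mem_centralizer_iff]
    refine ⟨fun hc => (hc x hxX).symm, fun hc a ha => ?_⟩
    obtain ⟨i, rfl⟩ := hgen a ha
    exact ((Commute.zpow_right hc i).eq).symm
  -- intersection with `Q`
  have hCQ : ∀ c ∈ C', c ∈ Q → c = 1 ∨ c = zc := by
    intro c hc hcQ
    refine (D.link.ker c hcQ).1 ?_
    have hfix : op ρ n (π c) = π c := by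
      rw [← hxn, ← act D x hcQ]
      congr 1
      rw [← (hCmem c).1 hc, mul_inv_cancel_right]
    have := D.fpf (π c)
    change op ρ n (op ρ n (π c)) + op ρ n (π c) + π c = 0 at this
    rw [hfix, hfix, D.orth.two, zero_add] at this
    exact this
  have hzcC : zc ∈ C' := (hCmem zc).2 (D.zc_central x).symm
  -- image
  have hCM : ∀ c ∈ C', mk c ∈ Mb := by
    intro c hc
    by_contra hcM
    have hcn : mk c * n = n * mk c := by rw [← hxn, ← map_mul, (hCmem c).1 hc, map_mul]
    have hfix : ∀ v : V, v = 0 := by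
      intro v
      obtain ⟨w, rfl⟩ : ∃ w, op ρ (mk c) w = v :=
        ⟨op ρ (mk c)⁻¹ v, by rw [← rho_mul, mul_inv_cancel, rho_one]⟩
      have h1 := semilinear D C (mk c) hcM w
      rw [← rho_mul, hcn, rho_mul] at h1
      have h2 := congrArg (op ρ n) h1
      set v := op ρ (mk c) w
      rw [(hyp D).fx.o_three] at h2
      have := D.fpf v
      change op ρ n (op ρ n v) + op ρ n v + v = 0 at this
      rw [h2, add_comm v, add_assoc, D.orth.two, add_zero] at this
      have h3 := congrArg (op ρ n) this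
      rw [map_zero, h2] at h3
      exact h3
    haveI : Subsingleton V := ⟨fun a b => by rw [hfix a, hfix b]⟩
    have h4 := D.orth.card
    rw [Nat.card_of_subsingleton (0 : V)] at h4
    omega
  let τ : C' →* Mb := (mk.comp C'.subtype).codRestrict Mb fun c => hCM c c.2
  have τsurj : Function.Surjective τ := by
    intro m
    obtain ⟨a, ha⟩ := QuotientGroup.mk'_surjective Q (m : centralizer ({z} : Set G) ⧸ Q)
    -- correct by an element of `Q`
    have hb : a * x * a⁻¹ * x⁻¹ ∈ Q := by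
      rw [← QuotientGroup.eq_one_iff]
      show mk (a * x * a⁻¹ * x⁻¹) = 1
      rw [map_mul, map_mul, map_mul, map_inv, map_inv, hxn, ha, D.comm_n m m.2,
        mul_inv_cancel_right, mul_inv_cancel]
    let S := X ⊔ Q
    have hXS : X ≤ S := le_sup_left
    have haX : X.map (MulAut.conj a).toMonoidHom ≤ S := by
      rintro _ ⟨b, hb, rfl⟩
      exact hXQ.conj_mem b (hXS hb) a
    have hScard : Nat.card S = 3 * 2 ^ 13 := by
      have h1 := Subgroup.card_eq_card_quotient_mul_card_subgroup (Q.subgroupOf S)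
      rw [Nat.card_congr (Subgroup.subgroupOfEquivOfLe (le_sup_right : Q ≤ S)).toEquiv, D.card_Q] at h1
      have h2 : Nat.card (S ⧸ Q.subgroupOf S) = 3 := by
        rw [Nat.card_congr (QuotientGroup.quotientMulEquivOfEq
          (show Q.subgroupOf S = (mk.comp S.subtype).ker by
            rw [← MonoidHom.comap_ker, QuotientGroup.ker_mk']; rfl)).toEquiv,
          Nat.card_congr (QuotientGroup.quotientKerEquivRange (mk.comp S.subtype)).toEquiv,
          MonoidHom.range_comp, Subgroup.range_subtype, Subgroup.map_sup,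
          (Subgroup.map_eq_bot_iff Q).2 (QuotientGroup.ker_mk' Q).ge, sup_bot_eq, ← hXb, hXeq,
          Nat.card_zpowers, D.order_n]
      rw [h2] at h1
      exact h1
    have hfac : (Nat.card S).factorization 3 = 1 := by
      rw [hScard, Nat.factorization_mul (by norm_num) (by norm_num)]
      rw [Finsupp.add_apply, Nat.Prime.factorization_self Nat.prime_three,
        Nat.factorization_eq_zero_of_not_dvd (show ¬ (3 ∣ 2 ^ 13) by norm_num)]
    let P1 : Sylow 3 S := Sylow.ofCard (X.subgroupOf S) (by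
      rw [Nat.card_congr (Subgroup.subgroupOfEquivOfLe hXS).toEquiv, hX, hfac, pow_one])
    let P2 : Sylow 3 S := Sylow.ofCard ((X.map (MulAut.conj a).toMonoidHom).subgroupOf S) (by
      rw [Nat.card_congr (Subgroup.subgroupOfEquivOfLe haX).toEquiv,
        Subgroup.card_map_of_injective (MulAut.conj a).injective, hX, hfac, pow_one])
    obtain ⟨g, hg⟩ := MulAction.exists_smul_eq S P2 P1
    have hgx : (g : centralizer ({z} : Set G)) * (a * x * a⁻¹) * (g : centralizer ({z} : Set G))⁻¹ ∈ X := by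
      have h1 : g * (⟨a * x * a⁻¹, haX ⟨x, hxX, rfl⟩⟩ : S) * g⁻¹ ∈ (g • P2 : Sylow 3 S) :=
        ⟨⟨a * x * a⁻¹, haX ⟨x, hxX, rfl⟩⟩, ⟨x, hxX, rfl⟩, rfl⟩
      rw [hg] at h1
      exact h1
    obtain ⟨g', hg'⟩ := g
    obtain ⟨w, hw, p, hp, rfl⟩ : ∃ w ∈ X, ∃ p ∈ Q, w * p = g' := by
      have := Subgroup.mem_sup_of_normal_right.1 hg'
      exact this
    have hpX : p * (a * x * a⁻¹) * p⁻¹ ∈ X := by
      have := mul_mem (mul_mem (inv_mem hw) hgx) hw
      simpa [mul_assoc] using this
    have hpx : p * (a * x * a⁻¹) * p⁻¹ = x := by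
      refine hXinj _ hpX x hxX ?_
      have h1 : mk p = 1 := (QuotientGroup.eq_one_iff p).2 hp
      rw [map_mul, map_mul, map_mul, map_mul, map_inv, map_inv, h1, inv_one, one_mul, mul_one,
        hxn, ha, D.comm_n m m.2, mul_inv_cancel_right]
    refine ⟨⟨p * a, (hCmem _).2 ?_⟩, Subtype.ext ?_⟩
    · rw [← mul_inv_eq_iff_eq_mul]
      exact Eq.trans (by group) hpx
    · show mk (p * a) = _
      rw [map_mul, (QuotientGroup.eq_one_iff p).2 hp |> fun e => show mk p = 1 from e, one_mul, ha]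
  have τker : ∀ c : C', τ c = 1 ↔ ((c : centralizer ({z} : Set G)) = 1 ∨ (c : centralizer ({z} : Set G)) = zc) := by
    intro c
    constructor
    · intro e
      exact hCQ c c.2 ((QuotientGroup.eq_one_iff _).1 (congrArg Subtype.val e))
    · intro e
      refine Subtype.ext ((QuotientGroup.eq_one_iff _).2 ?_)
      rcases e with e | e <;> simp only [Subgroup.coe_subtype, e]
      · exact one_mem Q
      · exact D.ext.mem
  -- the central extension
  let ψ : C' →* Cfsg.PSU 4 K 3 := φ.comp τ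
  have ψsurj : Function.Surjective ψ := φsurj.comp τsurj
  let xC : C' := ⟨x, (hCmem x).2 rfl⟩
  let zC : C' := ⟨zc, hzcC⟩
  have hτx : τ xC = ⟨n, D.n_mem⟩ := Subtype.ext hxn
  have hxcen : xC ∈ Subgroup.center C' := Subgroup.mem_center_iff.2 fun c =>
    Subtype.ext ((hCmem c).1 c.2)
  have hzcen : zC ∈ Subgroup.center C' := Subgroup.mem_center_iff.2 fun c =>
    Subtype.ext (D.zc_central c)
  have ψker : ∀ c : C', ψ c = 1 ↔ c ∈ Subgroup.zpowers (zC * xC) := by
    have hz2 : zC * zC = 1 := Subtype.ext D.ext.zz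
    have hx3 : xC * xC * xC = 1 := Subtype.ext (hXcube x hxX)
    have hc : Commute zC xC := (Subgroup.mem_center_iff.1 hzcen xC).symm
    have hpowz : (zC * xC) ^ (3 : ℕ) = zC := by
      rw [hc.mul_pow, pow_three', pow_three', hz2, hx3, one_mul, mul_one]
    have hpowx : (zC * xC) ^ (4 : ℕ) = xC := by
      rw [hc.mul_pow, show (4 : ℕ) = 3 + 1 from rfl, pow_succ, pow_succ xC 3, pow_three', pow_three',
        hz2, hx3, one_mul, one_mul, hz2, one_mul]
    intro c
    constructor
    · intro e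
      obtain ⟨i, hi⟩ := (φker (τ c)).1 e
      have h1 : τ (c * (xC ^ i)⁻¹) = 1 := by
        rw [map_mul, map_inv, map_zpow, hτx, mul_inv_eq_one]
        exact Subtype.ext (hi.symm.trans (by simp))
      have hxm : xC ∈ Subgroup.zpowers (zC * xC) := ⟨4, (zpow_natCast (zC * xC) 4).trans hpowx⟩
      have hzm : zC ∈ Subgroup.zpowers (zC * xC) := ⟨3, (zpow_natCast (zC * xC) 3).trans hpowz⟩
      have h2 : c * (xC ^ i)⁻¹ ∈ Subgroup.zpowers (zC * xC) := by
        rcases (τker _).1 h1 with e' | e'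
        · rw [show c * (xC ^ i)⁻¹ = 1 from Subtype.ext e']; exact one_mem _
        · rw [show c * (xC ^ i)⁻¹ = zC from Subtype.ext e']; exact hzm
      have := mul_mem h2 (zpow_mem hxm i)
      rwa [inv_mul_cancel_right] at this
    · rintro ⟨i, rfl⟩
      show ψ ((zC * xC) ^ i) = 1
      rw [map_zpow, map_mul]
      show (φ (τ zC) * φ (τ xC)) ^ i = 1
      rw [(τker zC).2 (Or.inr rfl), map_one, hτx, (φker _).2 (Subgroup.mem_zpowers n), one_mul,
        one_zpow]
  have hcenPSU : Subgroup.center (Cfsg.PSU 4 K 3) = ⊥ := by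
    rcases (inferInstance : (Subgroup.center (Cfsg.PSU 4 K 3)).Normal).eq_bot_or_eq_top with hb | ht
    · exact hb
    · have : commutator (Cfsg.PSU 4 K 3) = ⊥ := (commutator_eq_bot_iff_center_eq_top _).2 ht
      rw [hperf] at this
      exact absurd this top_ne_bot
  have hcen : Subgroup.center C' = Subgroup.zpowers (zC * xC) := by
    refine le_antisymm (fun c hc => (ψker c).1 ?_) (Subgroup.zpowers_le.2 (mul_mem hzcen hxcen))
    have h1 : ψ c ∈ Subgroup.center (Cfsg.PSU 4 K 3) := Subgroup.mem_center_iff.2 fun p => by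
      obtain ⟨d, rfl⟩ := ψsurj p
      rw [← map_mul, ← map_mul, Subgroup.mem_center_iff.1 hc d]
    rwa [hcenPSU, Subgroup.mem_bot] at h1
  have hord : orderOf (zC * xC) = 6 := by
    have hz : orderOf zC = 2 := orderOf_eq_prime (by rw [pow_two]; exact Subtype.ext D.ext.zz)
      fun e => D.ext.ne_one (congrArg Subtype.val e)
    have hx : orderOf xC = 3 := orderOf_eq_prime (by rw [pow_three']; exact Subtype.ext (hXcube x hxX))
      fun e => hxne (Subtype.ext (show x = 1 from congrArg Subtype.val e))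
    rw [(Subgroup.mem_center_iff.1 hzcen xC).symm |> fun e : zC * xC = xC * zC =>
      (show Commute zC xC from e).orderOf_mul_eq_mul_orderOf_of_coprime (by rw [hz, hx]; norm_num),
      hz, hx]
  have hkerψ : ψ.ker = Subgroup.center C' := Subgroup.ext fun c => by
    rw [MonoidHom.mem_ker, ψker, hcen]
  have eq : C' ⧸ Subgroup.center C' ≃* Cfsg.PSU 4 K 3 :=
    (QuotientGroup.quotientMulEquivOfEq hkerψ.symm).trans
      (QuotientGroup.quotientKerEquivOfSurjective ψ ψsurj)
  -- perfect
  have hperfC : commutator C' = ⊤ := by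
    set Dv := commutator C' with hDv
    have hτD : Dv.map τ = commutator Mb := by
      rw [hDv, _root_.commutator_def, Subgroup.map_commutator, Subgroup.map_top_of_surjective τ τsurj,
        ← _root_.commutator_def]
    have hMperf : commutator Mb = ⊤ := by
      refine (Subgroup.eq_top_iff' _).2 fun m => ?_
      obtain ⟨d, hd, hde⟩ : φ m ∈ (commutator Mb).map φ := by
        rw [_root_.commutator_def, Subgroup.map_commutator, Subgroup.map_top_of_surjective φ φsurj,
          ← _root_.commutator_def, hperf]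
        trivial
      obtain ⟨i, hi⟩ := (φker (d⁻¹ * m)).1 (by rw [map_mul, map_inv, hde, inv_mul_cancel])
      have h1 : d⁻¹ * m = (⟨n, D.n_mem⟩ : Mb) ^ i := Subtype.ext (hi.symm.trans (by simp))
      rw [← mul_inv_cancel_left d m, h1]
      exact mul_mem hd (zpow_mem (n_mem_commutator D C) i)
    rw [hMperf] at hτD
    have hz : zC ∈ Dv := by
      by_contra hz
      have hinj : Function.Injective (τ.comp Dv.subtype) := by
        refine (injective_iff_map_eq_one _).2 fun d hd => ?_
        rcases (τker _).1 hd with e | e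
        · exact Subtype.ext (Subtype.ext e)
        · exact absurd (show zC ∈ Dv from (show (d : C') = zC from Subtype.ext e) ▸ d.2) hz
      have hsurj : Function.Surjective (τ.comp Dv.subtype) := fun m => by
        obtain ⟨d, hd, e⟩ : m ∈ Dv.map τ := hτD ▸ Subgroup.mem_top m
        exact ⟨⟨d, hd⟩, e⟩
      let e := MulEquiv.ofBijective _ ⟨hinj, hsurj⟩
      refine LFNonsplit18.no_section hF D C hxn
        (C'.subtype.comp (Dv.subtype.comp e.symm.toMonoidHom)) (fun m => ?_) (fun m => ?_)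
      · exact congrArg Subtype.val (e.apply_symm_apply m)
      · exact (hCmem _).1 ((e.symm m : Dv) : C').2
    refine (Subgroup.eq_top_iff' _).2 fun c => ?_
    obtain ⟨d, hd, e⟩ : τ c ∈ Dv.map τ := hτD ▸ Subgroup.mem_top _
    have h1 : τ (d⁻¹ * c) = 1 := by rw [map_mul, map_inv, e, inv_mul_cancel]
    rw [← mul_inv_cancel_left d c]
    refine mul_mem hd ?_
    rcases (τker _).1 h1 with e' | e'
    · rw [show d⁻¹ * c = 1 from Subtype.ext e']; exact one_mem _
    · rw [show d⁻¹ * c = zC from Subtype.ext e']; exact hz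
  refine ⟨⟨⟨hperfC⟩, ?_⟩, ?_, ?_, ⟨K, inferInstance, inferInstance, hK, ⟨eq⟩⟩⟩
  · exact eq.isSimpleGroup
  · rw [hcen]; infer_instance
  · rw [hcen, Nat.card_zpowers, hord]

end Cfsg.Agent.LFSixfold18
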