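import Mathlib
import Cfsg.Agent.Lib.LFStabCheck18
import Cfsg.Agent.Lib.LFU62PerpData19
import Cfsg.Agent.Lib.LFU62Defs19

/-!
Finite checks on codes for the coordinates around the four group.
-/

set_option autoImplicit false
set_option maxRecDepth 100000

namespace Cfsg.Agent.LFU62CoordCheck19

open Cfsg.Agent.LFData89 Cfsg.Agent.LFCheck89 Cfsg.Agent.LFStabCheck18 Cfsg.Agent.LFU62Defs19

/-- No singular vector off the small orbit has all three translates by the line in it. -/
def smOK : Bool :=
  memB 5 small && memB 10 small && memB 15 small && mem 5 uList && mem 10 uList &&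
  allBelow (fun c => qpar c || Nat.beq c 0 || memB c small || !LFU62PerpData19.inPerp c ||
    !(memB (Nat.xor c 5) small && memB (Nat.xor c 10) small && memB (Nat.xor c 15) small)) 4096

theorem sm_ok : smOK = true := by decide +kernel

/-- The five indices are those whose commutator space holds the line. -/
def fiveOK : Bool :=
  (five.all fun k => mem k eOne && !Nat.beq k 0) &&
  (eOne.all fun k => Nat.beq k 0 || mem k five ||
    (List.range 4096).any fun w => Nat.beq (app (el k) w) w && LFU62PerpData19.pb 5 w) &&
  (five.all fun k => five.any fun k' => !Nat.beq (tab k k') 0 && !mem (tab k k') five)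

theorem five_ok : fiveOK = true := by decide +kernel

end Cfsg.Agent.LFU62CoordCheck19
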