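import Mathlib
import Cfsg.Agent.Lib.LFU62Local19
import Cfsg.Agent.Lib.LFCoord89
import Cfsg.Agent.Lib.LFFusion89

/-!
Involutions of the small class over the first elementary subgroup: sixteen in each coset of the
subgroup, forming one class under `Q`, and every one over the coset lies in the subgroup.
-/

set_option autoImplicit false
set_option linter.unusedSectionVars false
set_option linter.style.haveILetI false
set_option maxHeartbeats 800000
set_option maxRecDepth 100000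

namespace Cfsg.Agent.LFU62CoordR19

open Subgroup Cfsg.Agent.U62Mon93 Cfsg.Agent.U62Existence93
open Cfsg.Agent.LFMat89 Cfsg.Agent.LFModel89 Cfsg.Agent.LFSylow89 Cfsg.Agent.LFBound89
open Cfsg.Agent.LFSetting89 Cfsg.Agent.LFElem89 Cfsg.Agent.LFData89 Cfsg.Agent.LFCheck89
open Cfsg.Agent.LFOrbitX89 Cfsg.Agent.LFOrbitA89 Cfsg.Agent.LFFusion89 Cfsg.Agent.LFCoord89
open Cfsg.Agent.LFOrbits18 Cfsg.Agent.LFStabCheck18 Cfsg.Agent.LFU62Defs19
open Cfsg.Agent.FischerFrame18 (InvQ)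

universe u

/-- Two words centralising the first involution. -/
def cw : List (List ℕ) := [[1, 1, 7, 7, 3, 3, 1, 7, 7, 2, 0], [4, 4, 7, 7, 0, 0, 7, 2, 1, 7, 3]]

/-- Every singular fixed vector of the first involution is moved into the fixed space. -/
def kerOK : Bool :=
  Nat.beq (eOne.getD 1 0) 4 &&
  (cw.all fun w => w.all (fun x => Nat.blt x 8) && Nat.beq (mulM (word w) (el 4)) (mulM (el 4) (word w))) &&
  (let us := uList
   let ms := cw.map word
   allBelow (fun c => qpar c || !Nat.beq (app (el 4) c) c || mem c us ||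
    ms.any fun m => mem (app m c) us) 4096)

theorem ker_ok : kerOK = true := by decide +kernel

variable {G : Type u} [Group G] [Finite G] {z : G} {Q : Subgroup (centralizer ({z} : Set G))} [Q.Normal]
variable {V : Type u} [AddCommGroup V] {zc : centralizer ({z} : Set G)}
  {π : centralizer ({z} : Set G) → V} {ρ : centralizer ({z} : Set G) ⧸ Q →* AddMonoid.End V}
  {q : V → ZMod 2} {n : centralizer ({z} : Set G) ⧸ Q}
  {Mb : Subgroup (centralizer ({z} : Set G) ⧸ Q)}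
variable {F : Type} [Field F] [Fintype F] {s : F} {h : S4 s} {ν : (Fin 6 → F) → V}
  {Φ : K0 h →* centralizer ({z} : Set G) ⧸ Q}
variable (D : Data z Q zc π ρ q n Mb) (C : Coord h ρ q n Mb ν Φ)

include D C

theorem commute_tau_n {k : ℕ} (hk : k < 128) : tau h Φ k * n = n * tau h Φ k :=
  D.comm_n _ (tau_mem (hyp D) C hk)

theorem range_n {k : ℕ} (hk : k < 128) {v : V} (hv : v ∈ (ee ρ (tau h Φ k)).range) :
    op ρ n v ∈ (ee ρ (tau h Φ k)).range := by
  obtain ⟨w, rfl⟩ := hv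
  exact ⟨op ρ n w, by rw [ee_apply, ee_apply, map_add, ← rho_mul, ← rho_mul, commute_tau_n D C hk]⟩

theorem range_sub {a : centralizer ({z} : Set G)} (ha : a ∈ AA D C) {v : V}
    (hv : v ∈ (ee ρ (QuotientGroup.mk' Q a)).range) : v ∈ UU D C := by
  obtain ⟨w, rfl⟩ := hv
  exact range_le_U D C ha w

theorem range_op {g x : centralizer ({z} : Set G) ⧸ Q} {v : V} (hv : v ∈ (ee ρ x).range) :
    op ρ g v ∈ (ee ρ (g * x * g⁻¹)).range := by
  obtain ⟨w, rfl⟩ := hv
  exact ⟨op ρ g w, by rw [ee_apply, ee_apply, map_add, ← rho_mul, ← rho_mul, inv_mul_cancel_right]⟩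

/-- The members of the small class over an index, inside the subgroup. -/
def Rs (D : Data z Q zc π ρ q n Mb) (C : Coord h ρ q n Mb ν Φ) (k : ℕ) :
    Set (centralizer ({z} : Set G)) :=
  {x | x ∈ AA D C ∧ QuotientGroup.mk' Q x = tau h Φ k ∧ RR x}

theorem sq_ee (x : centralizer ({z} : Set G) ⧸ Q) (g : centralizer ({z} : Set G) ⧸ Q) :
    Nat.card (ee ρ x).range ≤ Nat.card (ee ρ (g * x * g⁻¹)).range := by
  haveI := finiteV D
  exact Nat.card_le_card_of_injective (fun v : (ee ρ x).range => (⟨op ρ g v, range_op D C v.2⟩ :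
    (ee ρ (g * x * g⁻¹)).range)) fun a b e =>
      Subtype.ext (LFOrbitX89.op_inj (hyp D) C (congrArg Subtype.val e))

variable (hF : Cfsg.IsOfLargeFischerTypeAt z Q)
include hF

theorem Rs_ge {k : ℕ} (hk : k ∈ eOne) (hk0 : k ≠ 0) : 16 ≤ (Rs D C k).ncard := by
  classical
  obtain ⟨xn, hX⟩ := exists_xn D C
  obtain ⟨a, haA, -, hae, haR, -⟩ := rlift D C hX hF hk hk0
  have hr : 16 ≤ Nat.card (ee ρ (tau h Φ k)).range := by
    obtain ⟨g, -, -, hg⟩ := E1_trans (hyp D) C hk hk0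
    rw [← (card_ee D C).1, ← hg]
    exact sq_ee D C _ g
  refine hr.trans ?_
  rw [← Nat.card_coe_set_eq]
  haveI := finiteV D
  refine Nat.card_le_card_of_surjective (fun x : Rs D C k => if hx : π (a * x.1) ∈ (ee ρ (tau h Φ k)).range
    then (⟨_, hx⟩ : (ee ρ (tau h Φ k)).range) else 0) ?_
  rintro ⟨_, w, rfl⟩
  obtain ⟨y, hy, rfl⟩ := D.link.surj w
  obtain ⟨-, -, h3⟩ := comm_pi D C haA hy
  refine ⟨⟨y * a * y⁻¹, NA_conj D C (Q_le_NA D C hy) haA, ?_, ?_⟩, ?_⟩
  · rw [map_mul, map_mul, map_inv, LFOrbitA89.mk_Q D C hy, hae, one_mul, inv_one, mul_one]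
  · exact (RR_rel D C hX ⟨y, Q_le_NA D C hy, rfl⟩).1 haR
  · rw [hae] at h3
    have hm : π (a * (y * a * y⁻¹)) ∈ (ee ρ (tau h Φ k)).range := ⟨π y, h3.symm⟩
    show dite _ _ _ = _
    rw [dif_pos hm]
    exact Subtype.ext h3

theorem Rs_card {k : ℕ} (hk : k ∈ eOne) (hk0 : k ≠ 0) : (Rs D C k).ncard = 16 := by
  classical
  obtain ⟨-, -, -, -, -, -, -, -, -, h240, -⟩ := classes D C hF
  set I := eOne.toFinset.erase 0 with hI
  have hIc : I.card = 15 := by
    rw [hI, Finset.card_erase_of_mem (List.mem_toFinset.2 eOne_zero.1),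
      List.toFinset_card_of_nodup eOne_list.2.1, eOne_list.1]
  have hkI : ∀ {i}, i ∈ I ↔ i ≠ 0 ∧ i ∈ eOne := fun {i} => by simp [hI]
  have := Fintype.ofFinite (centralizer ({z} : Set G))
  let Sx : Finset (centralizer ({z} : Set G)) :=
    Finset.univ.filter fun x => x ∈ AA D C ∧ x ∉ Q ∧ ¬ IsConj z (x : G)
  let R' : ℕ → Finset (centralizer ({z} : Set G)) := fun i => Finset.univ.filter fun x => x ∈ Rs D C i
  have hR' : ∀ i, (R' i).card = (Rs D C i).ncard := fun i => by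
    rw [← Set.ncard_coe_finset]; congr 1; ext x; simp [R']
  have hdisj : (I : Set ℕ).PairwiseDisjoint R' := by
    intro i hi j hj hij
    rw [Function.onFun, Finset.disjoint_left]
    intro x hx hx'
    simp only [R', Finset.mem_filter, Finset.mem_univ, true_and] at hx hx'
    exact hij (tau_inj (hyp D) C (eOne_list.2.2 i (hkI.1 hi).2) (eOne_list.2.2 j (hkI.1 hj).2)
      (hx.2.1.symm.trans hx'.2.1))
  have hsub : I.biUnion R' ⊆ Sx := by
    intro x hx
    simp only [Finset.mem_biUnion, R', Finset.mem_filter, Finset.mem_univ, true_and] at hx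
    obtain ⟨i, hi, h1, h2, h3⟩ := hx
    simp only [Sx, Finset.mem_filter, Finset.mem_univ, true_and]
    refine ⟨h1, fun hQ => (hkI.1 hi).1 ?_, h3⟩
    rw [LFOrbitA89.mk_Q D C hQ, ← tau_zero (hyp D) C] at h2
    exact (tau_inj (hyp D) C (by norm_num) (eOne_list.2.2 i (hkI.1 hi).2) h2).symm
  have hle := Finset.card_le_card hsub
  rw [Finset.card_biUnion hdisj] at hle
  have hSx : Sx.card = 240 := by
    rw [← h240, ← Set.ncard_coe_finset]; congr 1; ext x; simp [Sx]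
  rw [hSx] at hle
  have hkI' : k ∈ I := hkI.2 ⟨hk0, hk⟩
  rw [← Finset.add_sum_erase _ _ hkI'] at hle
  have hrest : 14 * 16 ≤ ∑ i ∈ I.erase k, (R' i).card := by
    have hc : (I.erase k).card = 14 := by rw [Finset.card_erase_of_mem hkI', hIc]
    calc 14 * 16 = (I.erase k).card • 16 := by rw [hc, smul_eq_mul]
      _ ≤ _ := Finset.card_nsmul_le_sum _ _ _ fun i hi => by
        rw [hR']
        exact Rs_ge D C hF (hkI.1 (Finset.mem_of_mem_erase hi)).2 (hkI.1 (Finset.mem_of_mem_erase hi)).1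
  have := Rs_ge D C hF hk hk0
  have e := hR' k
  omega

/-- Two members over the same index differ in the commutator space. -/
theorem Rs_diff {k : ℕ} (hk : k ∈ eOne) (hk0 : k ≠ 0) {x x' : centralizer ({z} : Set G)}
    (hx : x ∈ Rs D C k) (hx' : x' ∈ Rs D C k) :
    x * x' ∈ Q ∧ π (x * x') ∈ (ee ρ (tau h Φ k)).range := by
  classical
  obtain ⟨xn, hX⟩ := exists_xn D C
  obtain ⟨a, haA, -, hae, haR, -⟩ := rlift D C hX hF hk hk0
  haveI := finiteV D
  set W := (ee ρ (tau h Φ k)).range with hW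
  set O : Set (centralizer ({z} : Set G)) := {x | ∃ y ∈ Q, y * a * y⁻¹ = x} with hO
  have hOR : O ⊆ Rs D C k := by
    rintro _ ⟨y, hy, rfl⟩
    exact ⟨NA_conj D C (Q_le_NA D C hy) haA,
      by rw [map_mul, map_mul, map_inv, LFOrbitA89.mk_Q D C hy, hae, one_mul, inv_one, mul_one],
      (RR_rel D C hX ⟨y, Q_le_NA D C hy, rfl⟩).1 haR⟩
  have hOc : 16 ≤ O.ncard := by
    have hr : 16 ≤ Nat.card W := by
      obtain ⟨g, -, -, hg⟩ := E1_trans (hyp D) C hk hk0
      rw [← (card_ee D C).1, hW, ← hg]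
      exact sq_ee D C _ g
    refine hr.trans ?_
    rw [← Nat.card_coe_set_eq]
    refine Nat.card_le_card_of_surjective (fun x : O => (⟨π (a * x.1), by
      obtain ⟨y, hy, e⟩ := x.2
      obtain ⟨-, -, h3⟩ := comm_pi D C haA hy
      rw [← e, h3, hae]; exact ⟨_, rfl⟩⟩ : W)) ?_
    rintro ⟨_, w, rfl⟩
    obtain ⟨y, hy, rfl⟩ := D.link.surj w
    refine ⟨⟨_, y, hy, rfl⟩, Subtype.ext ?_⟩
    obtain ⟨-, -, h3⟩ := comm_pi D C haA hy
    rw [hae] at h3
    exact h3
  have heq : O = Rs D C k :=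
    Set.eq_of_subset_of_ncard_le hOR (by rw [Rs_card D C hF hk hk0]; exact hOc) (Set.toFinite _)
  rw [← heq] at hx hx'
  obtain ⟨y, hy, rfl⟩ := hx
  obtain ⟨y', hy', rfl⟩ := hx'
  obtain ⟨m1, q1, p1⟩ := comm_pi D C haA hy
  obtain ⟨m2, q2, p2⟩ := comm_pi D C haA hy'
  have e : y * a * y⁻¹ * (y' * a * y'⁻¹) = a * (y * a * y⁻¹) * (a * (y' * a * y'⁻¹)) := by
    rw [(AA_facts D C).1.2 a haA _ (NA_conj D C (Q_le_NA D C hy) haA), mul_assoc (y * a * y⁻¹) a,
      ← mul_assoc a a, AA_sq D C haA, one_mul]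
  rw [e]
  refine ⟨mul_mem q1 q2, ?_⟩
  rw [D.link.add _ q1 _ q2, p1, p2, hae]
  exact add_mem ⟨_, rfl⟩ ⟨_, rfl⟩

/-- An involution of the small class over the first index lies in the subgroup. -/
theorem base_mem {x : centralizer ({z} : Set G)} (hxx : x * x = 1)
    (hx : QuotientGroup.mk' Q x = tau h Φ (eOne.getD 1 0)) (hR : RR x) : x ∈ AA D C := by
  classical
  obtain ⟨xn, hX⟩ := exists_xn D C
  obtain ⟨hb1, hb2, hb3⟩ := eOne_zero
  obtain ⟨a, haA, hfix, hae, haR, -⟩ := rlift D C hX hF hb2 hb3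
  set b := eOne.getD 1 0 with hb
  have hb128 := eOne_list.2.2 b hb2
  have hainv : a⁻¹ = a := inv_eq_of_mul_eq_one_right (AA_sq D C haA)
  set y := a * x with hy
  have hyQ : y ∈ Q := by
    rw [← QuotientGroup.eq_one_iff]
    show QuotientGroup.mk' Q y = 1
    rw [hy, map_mul, hx, ← hae, ← map_mul, AA_sq D C haA, map_one]
  have hxy : x = a * y := by rw [hy, ← mul_assoc, AA_sq D C haA, one_mul]
  have hay : a * y * a⁻¹ = y⁻¹ := by
    refine eq_inv_of_mul_eq_one_left ?_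
    rw [hainv, mul_assoc (a * y), ← hxy]
    exact hxx
  have hker : ee ρ (QuotientGroup.mk' Q a) (π y) = 0 := by
    rw [ee_apply, ← LFElem89.act D a hyQ, hay, LFElem89.pi_inv D hyQ, D.orth.two]
  have hcomm := comm_ker D C haA hX.img (Or.inl hfix) hyQ hker
  have hac : a * y * a⁻¹ = y := by
    rw [mul_inv_eq_iff_eq_mul]
    exact (mul_inv_eq_iff_eq_mul.1 hcomm).symm
  have hyy : y * y = 1 := by
    rw [hac] at hay
    exact mul_eq_one_iff_eq_inv.2 hay
  -- a word moving the vector into the fixed space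
  obtain ⟨c, hc, hcv⟩ := exists_nc (hyp D) C (π y)
  have hcq : qpar c = false := by
    have h1 := (sq_iff D hyQ).1 hyy
    rw [← hcv, q_nc (hyp D) C] at h1
    cases hq : qpar c
    · rfl
    · rw [hq] at h1; simp at h1
  have hcf : app (el b) c = c := by
    refine nc_inj (hyp D) C (app_lt _ _) hc ?_
    rw [ee_apply, hae, ← hcv, op_tau_nc (hyp D) C hb128] at hker
    rw [← add_zero (nc s ν (app _ c)), ← D.orth.two (nc s ν c), ← add_assoc, hker, zero_add]
  have hk := ker_ok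
  simp only [kerOK, Bool.and_eq_true, List.all_eq_true, Nat.beq_eq] at hk
  obtain ⟨⟨hb4, hcw⟩, hall⟩ := hk
  rw [← hb] at hb4
  have h1 := allBelow_spec hall c hc
  simp only [Bool.or_eq_true, Bool.not_eq_true', hcq, List.any_eq_true, List.mem_map,
    exists_exists_and_eq_and] at h1
  rw [← hb4, hcf] at h1
  simp only [Nat.beq_refl, Bool.false_eq_true, false_or, Bool.true_eq_false] at h1
  have finish : π y ∈ UU D C → x ∈ AA D C := fun hu =>
    hxy ▸ mul_mem haA ((mem_AA_Q D C hyQ).2 hu)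
  rcases h1 with h1 | ⟨w, hw, h1⟩
  · exact finish ((mem_Fix_E1 (hyp D) C).2 ⟨c, mem_iff.1 h1, hcv.symm⟩)
  obtain ⟨hw8, hwc⟩ := hcw w hw
  obtain ⟨g, hg, hgv⟩ := exists_word (hyp D) C (w := w) (List.all_eq_true.2 hw8)
  have hgt : g * tau h Φ b * g⁻¹ = tau h Φ b := by
    rw [mul_inv_eq_iff_eq_mul]
    refine ext_op (hyp D) C fun v => ?_
    rw [rho_mul, rho_mul, op_tau (hyp D) C hb128, hgv, hgv, op_tau (hyp D) C hb128,
      Matrix.mulVec_mulVec, Matrix.mulVec_mulVec, ← matOf_mul h, ← matOf_mul h]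
    simp only [hb4] at hwc ⊢
    rw [hwc]
  obtain ⟨c', rfl⟩ := QuotientGroup.mk'_surjective Q g
  obtain ⟨p, hp, hpe⟩ : ∃ p ∈ Q, xn * c' * xn⁻¹ = c' * p := by
    refine ⟨c'⁻¹ * (xn * c' * xn⁻¹), ?_, by group⟩
    rw [← QuotientGroup.eq_one_iff]
    show QuotientGroup.mk' Q _ = 1
    rw [map_mul, map_inv, map_mul, map_mul, map_inv, hX.img, ← D.comm_n _ hg]
    group
  set w0 := a * (c' * a * c'⁻¹) with hw0
  have hca : QuotientGroup.mk' Q (c' * a * c'⁻¹) = tau h Φ b := by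
    rw [map_mul, map_mul, map_inv, hae, hgt]
  have hw0Q : w0 ∈ Q := by
    rw [← QuotientGroup.eq_one_iff]
    show QuotientGroup.mk' Q w0 = 1
    rw [hw0, map_mul, hca, ← hae, ← map_mul, AA_sq D C haA, map_one]
  obtain ⟨-, hu1, hu2⟩ := comm_pi D C haA hp
  rw [hae] at hu2
  set u := a * (p * a * p⁻¹) with hu
  have hxw : xn * w0 * xn⁻¹ = w0 * (c' * u * c'⁻¹) := by
    calc xn * w0 * xn⁻¹ = xn * a * xn⁻¹ * (xn * c' * xn⁻¹ * (xn * a * xn⁻¹) * (xn * c' * xn⁻¹)⁻¹) := by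
          rw [hw0]; group
      _ = a * (c' * p * a * (c' * p)⁻¹) := by rw [hfix, hpe]
      _ = a * (c' * a * c'⁻¹) * (c' * (a⁻¹ * (p * a * p⁻¹)) * c'⁻¹) := by group
      _ = w0 * (c' * u * c'⁻¹) := by rw [hainv]
  set W := (ee ρ (tau h Φ b)).range with hW
  have hcu : π (c' * u * c'⁻¹) ∈ W := by
    rw [LFElem89.act D c' hu1, hu2]
    have h4 := range_op D C (g := QuotientGroup.mk' Q c')
      (show op ρ (tau h Φ b) (π p) + π p ∈ (ee ρ (tau h Φ b)).range from ⟨π p, rfl⟩)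
    rwa [hgt] at h4
  have hv0 : π w0 ∈ W := by
    have e1 : op ρ n (π w0) + π w0 ∈ W := by
      have e := congrArg π hxw
      rw [LFElem89.act D xn hw0Q, hX.img,
        D.link.add _ hw0Q _ ((inferInstance : Q.Normal).conj_mem u hu1 c')] at e
      rw [e, add_comm (π w0), add_assoc, D.orth.two, add_zero]
      exact hcu
    have e2 : op ρ n (op ρ n (π w0)) ∈ W := by
      have h3 : op ρ n (op ρ n (π w0)) + op ρ n (π w0) + π w0 = 0 := D.fpf (π w0)
      rw [add_assoc] at h3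
      rw [show op ρ n (op ρ n (π w0)) = op ρ n (π w0) + π w0 by
        rw [← add_zero (op ρ n (op ρ n (π w0))), ← D.orth.two (op ρ n (π w0) + π w0), ← add_assoc, h3,
          zero_add]]
      exact e1
    have e3 := range_n D C hb128 e2
    have hn3 : n ^ 3 = 1 := D.order_n ▸ pow_orderOf_eq_one n
    rwa [← rho_mul, ← rho_mul, show n * n * n = n ^ 3 by rw [pow_succ, pow_two], hn3,
      rho_one] at e3
  set y' := c' * y * c'⁻¹ with hy'
  have hy'Q : y' ∈ Q := (inferInstance : Q.Normal).conj_mem y hyQ c'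
  have hy'v : π y' = op ρ (QuotientGroup.mk' Q c') (π y) := LFElem89.act D c' hyQ
  have hy'U : π y' ∈ UU D C := by
    refine (mem_Fix_E1 (hyp D) C).2 ⟨app (word w) c, mem_iff.1 h1, ?_⟩
    rw [hy'v, ← hcv, nc, hgv, nc, vec_app h]
  have hWU : ∀ v ∈ W, v ∈ UU D C := fun v hv => range_sub D C haA (hae.symm ▸ hv)
  have hx' : c' * x * c'⁻¹ = a * (w0 * y') := by
    rw [hxy, hw0, hy']
    simp only [← mul_assoc, AA_sq D C haA, one_mul]
    group
  have hπ : π (w0 * y') = π w0 + π y' := D.link.add _ hw0Q _ hy'Q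
  have hsum : π (w0 * y') ∈ UU D C := hπ ▸ add_mem (hWU _ hv0) hy'U
  have hxA' : c' * x * c'⁻¹ ∈ AA D C :=
    hx' ▸ mul_mem haA ((mem_AA_Q D C (mul_mem hw0Q hy'Q)).2 hsum)
  have hxR : c' * x * c'⁻¹ ∈ Rs D C b := by
    refine ⟨hxA', by rw [map_mul, map_mul, map_inv, hx, hgt], fun e => hR ?_⟩
    exact e.trans (isConj_iff.2 ⟨(c' : G)⁻¹, by simp [mul_assoc]⟩)
  obtain ⟨-, hd⟩ := Rs_diff D C hF hb2 hb3 ⟨haA, hae, haR⟩ hxR
  rw [hx', ← mul_assoc, AA_sq D C haA, one_mul, hπ] at hd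
  have hy'W : π y' ∈ W := by
    have h3 := add_mem hv0 hd
    rwa [← add_assoc, D.orth.two, zero_add] at h3
  refine finish (hWU _ ?_)
  have hback := range_op D C (g := (QuotientGroup.mk' Q c')⁻¹) hy'W
  rw [hy'v, ← rho_mul, inv_mul_cancel, rho_one,
    show (QuotientGroup.mk' Q c')⁻¹ * tau h Φ b * (QuotientGroup.mk' Q c')⁻¹⁻¹ = tau h Φ b by
      conv_lhs => rw [← hgt]
      group] at hback
  exact hback

/-- An involution of the small class over the first elementary subgroup lies in the subgroup. -/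
theorem Rs_mem {k : ℕ} (hk : k ∈ eOne) (hk0 : k ≠ 0) {x : centralizer ({z} : Set G)}
    (hxx : x * x = 1) (hx : QuotientGroup.mk' Q x = tau h Φ k) (hR : RR x) : x ∈ AA D C := by
  obtain ⟨g, -, hgN, hg⟩ := E1_trans (hyp D) C hk hk0
  obtain ⟨g', rfl⟩ := QuotientGroup.mk'_surjective Q g
  have hNA : g' ∈ NA D C := LFOrbitX89.mem_normalizer (hyp D) C hgN
  have hrel : (g'⁻¹ * x * g') = g'⁻¹ * x * g'⁻¹⁻¹ := by rw [inv_inv]
  have h1 := base_mem D C hF (x := g'⁻¹ * x * g')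
    (by rw [show g'⁻¹ * x * g' * (g'⁻¹ * x * g') = g'⁻¹ * (x * x) * g' by group, hxx]; group)
    (by rw [map_mul, map_mul, map_inv, hx, ← hg]; group)
    (fun e => hR (e.trans (isConj_iff.2 ⟨(g' : G), by simp [mul_assoc]⟩)))
  have h2 := NA_conj D C hNA h1
  rwa [show g' * (g'⁻¹ * x * g') * g'⁻¹ = x by group] at h2

end Cfsg.Agent.LFU62CoordR19
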