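import Mathlib
import Cfsg.Agent.Lib.LFU62CoordR19
import Cfsg.Agent.Lib.LFCocodePts19
import Cfsg.Agent.Lib.LFU62CoordCheck19

/-!
The coordinates of the large elementary abelian subgroup around the four group: the conjugates of `z`
alone in their coset are the twenty one four sets through three fixed points, and those over each of
five indices form a quad.
-/

set_option autoImplicit false
set_option linter.unusedSectionVars false
set_option linter.style.haveILetI false
set_option maxHeartbeats 3200000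
set_option maxRecDepth 100000

namespace Cfsg.Agent.LFU62Coord19

open Subgroup Cfsg.Agent.U62Mon93 Cfsg.Agent.U62Existence93
open Cfsg.Agent.LFMat89 Cfsg.Agent.LFModel89 Cfsg.Agent.LFSylow89 Cfsg.Agent.LFBound89
open Cfsg.Agent.LFSetting89 Cfsg.Agent.LFElem89 Cfsg.Agent.LFData89 Cfsg.Agent.LFCheck89
open Cfsg.Agent.LFOrbitX89 Cfsg.Agent.LFOrbitA89 Cfsg.Agent.LFFusion89 Cfsg.Agent.LFCoord89
open Cfsg.Agent.LFOrbits18 Cfsg.Agent.LFStabCheck18 Cfsg.Agent.LFU62Defs19
open Cfsg.Agent.LFU62Local19 (CoordFacts)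
open Cfsg.Agent.LFU62CoordR19 Cfsg.Agent.LFCocodePts19 Cfsg.Agent.LFU62CoordCheck19
open Cfsg.Agent.LFForm89
open Cfsg.Agent.FischerFrame18 (InvQ)
open Cfsg (GolayPt M24)
open scoped Pointwise

universe u

/-- Four pairwise commuting involutions: cancelling a pair. -/
theorem cancel_pair {M : Type*} [CommGroup M] {u v w i : M} (hu : u * u = 1) (hw : w * w = 1) :
    u * v * (w * i) * (u * w) = v * i := by
  calc u * v * (w * i) * (u * w) = (u * u) * (w * w) * (v * i) := by ac_rfl
    _ = v * i := by rw [hu, hw, one_mul, one_mul]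

theorem sm_start : memB 5 small = true ∧ memB 10 small = true ∧ memB 15 small = true ∧
    mem 5 uList = true ∧ mem 10 uList = true := by
  have := sm_ok
  simp only [smOK, Bool.and_eq_true] at this
  exact ⟨this.1.1.1.1.1, this.1.1.1.1.2, this.1.1.1.2, this.1.1.2, this.1.2⟩

theorem sm_all : ∀ c, c < 4096 → (qpar c || Nat.beq c 0 || memB c small || !LFU62PerpData19.inPerp c ||
    !(memB (Nat.xor c 5) small && memB (Nat.xor c 10) small && memB (Nat.xor c 15) small)) = true := by
  have := sm_ok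
  simp only [smOK, Bool.and_eq_true] at this
  exact fun c hc => allBelow_spec this.2 c hc

theorem five_list : ∀ k ∈ five, mem k eOne = true ∧ (!Nat.beq k 0) = true := by
  have := five_ok
  simp only [fiveOK, Bool.and_eq_true, List.all_eq_true] at this
  exact this.1.1

theorem five_excl : ∀ k ∈ eOne, (Nat.beq k 0 || mem k five ||
    (List.range 4096).any fun w => Nat.beq (app (el k) w) w && LFU62PerpData19.pb 5 w) = true := by
  have := five_ok
  simp only [fiveOK, Bool.and_eq_true, List.all_eq_true] at this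
  exact this.1.2

theorem five_trans : ∀ k ∈ five,
    (five.any fun k' => !Nat.beq (tab k k') 0 && !mem (tab k k') five) = true := by
  have := five_ok
  simp only [fiveOK, Bool.and_eq_true, List.all_eq_true] at this
  exact this.2

section Generic

variable {G : Type u} [Group G] {A : Subgroup G} {z : G} {pt : GolayPt → G}
  {φ : ↥(Subgroup.normalizer (A : Set G)) →* ↥M24} (P : Pts A z pt φ)
include P

theorem calc_in {u v w i : GolayPt} : pt u * pt v * (pt w * pt i) * (pt u * pt w) = pt v * pt i := by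
  letI : CommGroup A := { A.toGroup with mul_comm := fun a b => Subtype.ext (P.comm a a.2 b b.2) }
  have := cancel_pair (M := A) (u := ⟨pt u, P.mem u⟩) (v := ⟨pt v, P.mem v⟩) (w := ⟨pt w, P.mem w⟩)
    (i := ⟨pt i, P.mem i⟩) (Subtype.ext (P.sq _ (P.mem u))) (Subtype.ext (P.sq _ (P.mem w)))
  exact congrArg Subtype.val this

theorem swap (i j : GolayPt) : pt i * pt j = pt j * pt i := P.comm _ (P.mem i) _ (P.mem j)

theorem cl (i : GolayPt) (x : G) : pt i * (pt i * x) = x := by
  rw [← mul_assoc, P.sq _ (P.mem i), one_mul]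

theorem join (i j k : GolayPt) : pt i * pt k * (pt j * pt k) = pt i * pt j := by
  rw [swap P j k, mul_assoc, cl P]

theorem ne_conj {x : G} (hx : IsConj z x) (hz : z ≠ 1) (i j : GolayPt) : x ≠ pt i * pt j := by
  intro h
  rcases eq_or_ne i j with rfl | hij
  · rw [h, P.sq _ (P.mem i)] at hx
    exact hz (isConj_one_left.1 hx)
  · exact ((P.rel _ (mul_mem (P.mem i) (P.mem j))).2 ⟨i, j, hij, rfl⟩).2 (h ▸ hx)

end Generic

variable {G : Type u} [Group G] [Finite G] {z : G} {Q : Subgroup (centralizer ({z} : Set G))} [Q.Normal]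
variable {V : Type u} [AddCommGroup V] {zc : centralizer ({z} : Set G)}
  {π : centralizer ({z} : Set G) → V} {ρ : centralizer ({z} : Set G) ⧸ Q →* AddMonoid.End V}
  {q : V → ZMod 2} {n : centralizer ({z} : Set G) ⧸ Q}
  {Mb : Subgroup (centralizer ({z} : Set G) ⧸ Q)}
variable {F : Type} [Field F] [Fintype F] {s : F} {h : S4 s} {ν : (Fin 6 → F) → V}
  {Φ : K0 h →* centralizer ({z} : Set G) ⧸ Q}
variable (D : Data z Q zc π ρ q n Mb) (C : Coord h ρ q n Mb ν Φ)
variable (hF : Cfsg.IsOfLargeFischerTypeAt z Q)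

include D C

theorem pol_code (c d : ℕ) :
    pol q (nc s ν c) (nc s ν d) = if LFU62PerpData19.pb c d then 1 else 0 := by
  unfold pol LFU62PerpData19.pb
  rw [show nc s ν c + nc s ν d = nc s ν (Nat.xor c d) by rw [nc, nc, nc, vec_xor h, C.add],
    q_nc (hyp D) C, q_nc (hyp D) C, q_nc (hyp D) C]
  cases qpar (Nat.xor c d) <;> cases qpar c <;> cases qpar d <;> simp <;> decide

theorem perp_code {c d : ℕ} {x y : centralizer ({z} : Set G)} (hx : x ∈ Q) (hy : y ∈ Q)
    (hcx : π x = nc s ν c) (hdy : π y = nc s ν d) (hc : x * y = y * x) :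
    LFU62PerpData19.pb c d = false := by
  have h1 := (comm_iff D hx hy).1 hc
  rw [hcx, hdy, pol_code D C] at h1
  cases hb : LFU62PerpData19.pb c d
  · rfl
  · rw [hb] at h1
    simp at h1

theorem flip_conj {w : centralizer ({z} : Set G)} (hw : w ∈ Q) (h1 : w ≠ 1) (h2 : w ≠ zc) :
    IsConj (w : G) ((w * zc : centralizer ({z} : Set G)) : G) := by
  obtain ⟨y, -, hy⟩ := D.ext.partner w hw h1 h2
  refine isConj_iff.2 ⟨(y : G), ?_⟩
  rw [D.zc_central w]
  exact congrArg Subtype.val hy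

include hF

/-- An involution of `Q` is outside the class of `z` exactly when it lies over the small orbit. -/
theorem R_iff {w : centralizer ({z} : Set G)} (hw : InvQ z Q w) : RR w ↔ π w ∈ Sm s ν := by
  obtain ⟨x, hx, hxe, hnc, horb⟩ := five_class hF D C
  constructor
  · intro hR
    obtain ⟨g, hg⟩ := exists_move hF D C hw hR
    exact hg ▸ (horb _).1 ⟨g, rfl⟩
  · intro hS e
    obtain ⟨g, -, hg⟩ := (small_orbit D C _).1 hS
    obtain ⟨c, rfl⟩ := QuotientGroup.mk'_surjective Q g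
    have hu : c * x * c⁻¹ ∈ Q := (inferInstance : Q.Normal).conj_mem x hx.mem c
    have hxu : IsConj (x : G) ((c * x * c⁻¹ : centralizer ({z} : Set G)) : G) := isConj_iff.2 ⟨c, rfl⟩
    have hπ : π (c * x * c⁻¹) = π w := by rw [LFElem89.act D c hx.mem, hxe, hg]
    rcases pi_eq D hu hw.mem hπ with e' | e'
    · exact hnc (e.trans (e' ▸ hxu.symm))
    · refine hnc (IsConj.trans e (IsConj.trans ?_ hxu.symm))
      rw [e']
      refine (flip_conj D C hu (fun e1 => hx.ne_one (conj_eq_one_iff.1 e1)) fun e1 => hnc ?_).symm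
      refine IsConj.trans ?_ hxu.symm
      rw [e1, D.zc_val]

theorem RR_xn {w : centralizer ({z} : Set G)} (g : centralizer ({z} : Set G)) (hw : RR w) :
    RR (g * w * g⁻¹) := fun e => hw (e.trans (isConj_iff.2 ⟨(g : G)⁻¹, by simp [mul_assoc]⟩))

/-- The facts from the coordinates. -/
theorem exists_facts : ∃ E : Subgroup (centralizer ({z} : Set G)), CoordFacts D C E := by
  classical
  obtain ⟨hea, -, hmap, -⟩ := AA_facts D C
  obtain ⟨pt, φ, P⟩ := exists_pts D C hF
  obtain ⟨xn, hX⟩ := exists_xn D C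
  obtain ⟨hs5, hs10, hs15, hu5, hu10⟩ := sm_start
  have five_mem' : ∀ k ∈ five, k ∈ eOne ∧ k ≠ 0 := fun k hk => by
    have := five_list k hk
    refine ⟨mem_iff.1 this.1, fun e => ?_⟩
    rw [e] at this
    exact absurd this.2 (by decide)
  have hz1 : z ≠ 1 := (lhyp D).ne_one
  have hzQ := D.ext.mem
  -- the four group
  have hscal : ∀ c, c < 4096 → op ρ n (nc s ν c) = nc s ν (scal c) := fun c hc => by
    rw [nc, nc, C.scalar, ← vec_scal h hc]
  obtain ⟨e1, he1, he1π⟩ := exists_inv D C (show 5 < 4096 by norm_num) (by norm_num)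
    (show qpar 5 = false by decide +kernel)
  set e2 := xn * e1 * xn⁻¹ with he2def
  have he2Q : e2 ∈ Q := (inferInstance : Q.Normal).conj_mem e1 he1.mem xn
  have he2π : π e2 = nc s ν 10 := by
    rw [LFElem89.act D xn he1.mem, hX.img, he1π, hscal 5 (by norm_num)]
    rfl
  have inU : ∀ {w : centralizer ({z} : Set G)} {c : ℕ}, w ∈ Q → π w = nc s ν c → mem c uList = true →
      w ∈ AA D C := fun hw hπ hc =>
    (mem_AA_Q D C hw).2 (hπ ▸ (mem_Fix_E1 (hyp D) C).2 ⟨_, mem_iff.1 hc, rfl⟩)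
  have he1A := inU he1.mem he1π hu5
  have he2A := inU he2Q he2π hu10
  have c12 : e1 * e2 = e2 * e1 := hea.2 e1 he1A e2 he2A
  have q1 := hea.1 e1 he1A
  have q2 := hea.1 e2 he2A
  have m31 : e1 * e2 * e1 = e2 := by rw [c12, mul_assoc, q1, mul_one]
  have m32 : e1 * e2 * e2 = e1 := by rw [mul_assoc, q2, mul_one]
  have m13 : e1 * (e1 * e2) = e2 := by rw [← mul_assoc, q1, one_mul]
  have m23 : e2 * (e1 * e2) = e1 := by rw [c12, ← mul_assoc, q2, one_mul]
  set e3 := e1 * e2 with he3def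
  have he3A : e3 ∈ AA D C := mul_mem he1A he2A
  have he3Q : e3 ∈ Q := mul_mem he1.mem he2Q
  have he3π : π e3 = nc s ν 15 := by
    rw [D.link.add _ he1.mem _ he2Q, he1π, he2π, nc, nc, nc, ← C.add, ← vec_xor h]; rfl
  have π0 : π 1 = nc s ν 0 := by rw [LFElem89.pi_one D, nc_zero (hyp D) C]
  have πz : π zc = nc s ν 0 := by rw [LFOrbitA89.pi_zc D C, nc_zero (hyp D) C]
  have mkInv : ∀ {w : centralizer ({z} : Set G)} {c : ℕ}, w ∈ AA D C → w ∈ Q → π w = nc s ν c →
      c < 4096 → c ≠ 0 → InvQ z Q w := fun {w c} hA hQ hπ hc h0 =>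
    ⟨hQ, hea.1 w hA, fun e => h0 (nc_inj (hyp D) C hc (by norm_num) (hπ.symm.trans (e ▸ π0))),
      fun e => h0 (nc_inj (hyp D) C hc (by norm_num)
        (hπ.symm.trans ((Subtype.ext (e.trans D.zc_val.symm) : w = zc) ▸ πz)))⟩
  have smR : ∀ {w : centralizer ({z} : Set G)} {c : ℕ}, InvQ z Q w → π w = nc s ν c →
      memB c small = true → RR w := fun hw hπ hc =>
    (R_iff D C hF hw).2 (hπ ▸ ⟨_, memB_iff.1 hc, rfl⟩)
  have R1 : RR e1 := smR he1 he1π hs5
  have I2 := mkInv he2A he2Q he2π (by norm_num) (by norm_num)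
  have R2 : RR e2 := smR I2 he2π hs10
  have I3 := mkInv he3A he3Q he3π (by norm_num) (by norm_num)
  have R3 : RR e3 := smR I3 he3π hs15
  let E : Subgroup (centralizer ({z} : Set G)) :=
    { carrier := {x | x = 1 ∨ x = e1 ∨ x = e2 ∨ x = e3}
      one_mem' := Or.inl rfl
      mul_mem' := by
        rintro u v (rfl | rfl | rfl | rfl) (rfl | rfl | rfl | rfl)
        exacts [Or.inl (one_mul _), Or.inr (Or.inl (one_mul _)), Or.inr (Or.inr (Or.inl (one_mul _))),
          Or.inr (Or.inr (Or.inr (one_mul _))), Or.inr (Or.inl (mul_one _)), Or.inl q1,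
          Or.inr (Or.inr (Or.inr rfl)), Or.inr (Or.inr (Or.inl m13)),
          Or.inr (Or.inr (Or.inl (mul_one _))), Or.inr (Or.inr (Or.inr c12.symm)), Or.inl q2,
          Or.inr (Or.inl m23), Or.inr (Or.inr (Or.inr (mul_one _))), Or.inr (Or.inr (Or.inl m31)),
          Or.inr (Or.inl m32), Or.inl (hea.1 e3 he3A)]
      inv_mem' := by
        rintro u (rfl | rfl | rfl | rfl)
        · exact Or.inl inv_one
        · exact Or.inr (Or.inl (inv_eq_of_mul_eq_one_right q1))
        · exact Or.inr (Or.inr (Or.inl (inv_eq_of_mul_eq_one_right q2)))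
        · exact Or.inr (Or.inr (Or.inr (inv_eq_of_mul_eq_one_right (hea.1 e3 he3A)))) }
  have hE : ∀ {x}, x ∈ E ↔ x = 1 ∨ x = e1 ∨ x = e2 ∨ x = e3 := fun {x} => Iff.rfl
  have hEA : E ≤ AA D C := fun x hx => by
    rcases hE.1 hx with rfl | rfl | rfl | rfl
    exacts [one_mem _, he1A, he2A, he3A]
  have hEQ : E ≤ Q := fun x hx => by
    rcases hE.1 hx with rfl | rfl | rfl | rfl
    exacts [one_mem _, he1.mem, he2Q, he3Q]
  have hER : ∀ e ∈ E, e ≠ 1 → RR e := fun x hx h1 => by
    rcases hE.1 hx with rfl | rfl | rfl | rfl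
    exacts [absurd rfl h1, R1, R2, R3]
  have key : ∀ {u v : centralizer ({z} : Set G)} {i j : ℕ}, i < 4096 → j < 4096 → i ≠ j →
      π u = nc s ν i → π v = nc s ν j → u ≠ v := fun hi hj hij hu hv e =>
    hij (nc_inj (hyp D) C hi hj (hu.symm.trans (e ▸ hv)))
  have a01 := key (i := 0) (j := 5) (by norm_num) (by norm_num) (by norm_num) π0 he1π
  have a02 := key (i := 0) (j := 10) (by norm_num) (by norm_num) (by norm_num) π0 he2π
  have a03 := key (i := 0) (j := 15) (by norm_num) (by norm_num) (by norm_num) π0 he3π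
  have a12 := key (i := 5) (j := 10) (by norm_num) (by norm_num) (by norm_num) he1π he2π
  have a13 := key (i := 5) (j := 15) (by norm_num) (by norm_num) (by norm_num) he1π he3π
  have a23 := key (i := 10) (j := 15) (by norm_num) (by norm_num) (by norm_num) he2π he3π
  have hEc : Nat.card E = 4 := by
    have hset : (E : Set (centralizer ({z} : Set G))) =
        ↑({1, e1, e2, e3} : Finset (centralizer ({z} : Set G))) := by
      ext x
      simp only [SetLike.mem_coe, Finset.coe_insert, Finset.coe_singleton, Set.mem_insert_iff,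
        Set.mem_singleton_iff]
      exact hE
    rw [← SetLike.coe_sort_coe, Nat.card_coe_set_eq, hset, Set.ncard_coe_finset,
      Finset.card_insert_of_notMem, Finset.card_insert_of_notMem, Finset.card_insert_of_notMem,
      Finset.card_singleton]
    · simp [a23]
    · simp only [Finset.mem_insert, Finset.mem_singleton]; exact not_or.2 ⟨a12, a13⟩
    · simp only [Finset.mem_insert, Finset.mem_singleton]; exact not_or.2 ⟨a01, not_or.2 ⟨a02, a03⟩⟩
  have hzE : zc ∉ E := fun hc => by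
    rcases hE.1 hc with e | e | e | e
    · exact D.ext.ne_one e
    · exact key (i := 0) (j := 5) (by norm_num) (by norm_num) (by norm_num) πz he1π e
    · exact key (i := 0) (j := 10) (by norm_num) (by norm_num) (by norm_num) πz he2π e
    · exact key (i := 0) (j := 15) (by norm_num) (by norm_num) (by norm_num) πz he3π e
  have himg : π '' (E : Set (centralizer ({z} : Set G))) = LineV s ν := by
    ext v
    simp only [Set.mem_image, SetLike.mem_coe, LineV, lineC, List.mem_cons, List.not_mem_nil,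
      or_false, Set.mem_ofPred_eq]
    constructor
    · rintro ⟨x, hx, rfl⟩
      rcases hE.1 hx with rfl | rfl | rfl | rfl
      exacts [⟨0, Or.inl rfl, π0⟩, ⟨5, Or.inr (Or.inl rfl), he1π⟩, ⟨10, Or.inr (Or.inr (Or.inl rfl)), he2π⟩,
        ⟨15, Or.inr (Or.inr (Or.inr rfl)), he3π⟩]
    · rintro ⟨c, rfl | rfl | rfl | rfl, rfl⟩
      exacts [⟨1, one_mem _, π0⟩, ⟨e1, Or.inr (Or.inl rfl), he1π⟩,
        ⟨e2, Or.inr (Or.inr (Or.inl rfl)), he2π⟩, ⟨e3, Or.inr (Or.inr (Or.inr rfl)), he3π⟩]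
  have hEa : EA E := hea.le hEA
  -- the conjugates alone in their coset
  have DHsq : ∀ {x}, x ∈ DH z E → x * x = 1 := fun {x} hx => by
    obtain ⟨g, hg⟩ := isConj_iff.1 hx.2.1
    refine Subtype.ext ?_
    rw [Subgroup.coe_mul, ← hg, show g * z * g⁻¹ * (g * z * g⁻¹) = g * (z * z) * g⁻¹ by group,
      (lhyp D).zz]
    simp
  have xe_sq : ∀ {x}, x ∈ DH z E → ∀ e ∈ E, x * e * (x * e) = 1 := fun {x} hx e he => by
    rw [show x * e * (x * e) = x * (e * x) * e by group, ← hx.1 e he,
      show x * (x * e) * e = x * x * (e * e) by group, DHsq hx, hEa.1 e he, one_mul]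
  have zDH : zc ∈ DH z E := by
    refine ⟨fun e _ => (D.zc_central e).symm, by rw [D.zc_val], fun e he h1 hc => hER e he h1 ?_⟩
    refine hc.trans ?_
    rw [← D.zc_central e]
    exact (flip_conj D C (hEQ he) h1 fun e' => hzE (e' ▸ he)).symm
  have notQ : ∀ x ∈ DH z E, x ≠ zc → x ∉ Q := by
    intro x hx hxz hxQ
    obtain ⟨c, hc, hcx⟩ := exists_nc (hyp D) C (π x)
    have hxInv : InvQ z Q x := ⟨hxQ, DHsq hx, fun e => hz1 (isConj_one_left.1
      (by have := hx.2.1; rw [e] at this; exact this)), fun e => hxz (Subtype.ext (e.trans D.zc_val.symm))⟩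
    have hc0 : c ≠ 0 := by
      rintro rfl
      rw [nc_zero (hyp D) C] at hcx
      rcases (D.link.ker x hxQ).1 hcx.symm with e | e
      exacts [hxInv.ne_one e, hxz e]
    have hcs : memB c small = false := by
      cases hm : memB c small
      · rfl
      · exact absurd hx.2.1 (smR hxInv hcx.symm hm)
    have hcq : qpar c = false := by
      have h1 := (sq_iff D hxQ).1 hxInv.sq
      rw [← hcx, q_nc (hyp D) C] at h1
      cases hq : qpar c
      · rfl
      · rw [hq] at h1; simp at h1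
    have hperp : LFU62PerpData19.inPerp c = true := by
      rw [LFU62PerpData19.inPerp, perp_code D C hxQ he1.mem hcx.symm he1π (hx.1 e1 (Or.inr (Or.inl rfl))),
        perp_code D C hxQ he2Q hcx.symm he2π (hx.1 e2 (Or.inr (Or.inr (Or.inl rfl))))]
      rfl
    have hall : ∀ e ∈ E, e ≠ 1 → ∀ d, d < 4096 → π e = nc s ν d → memB (Nat.xor c d) small = true := by
      intro e he h1 d hd hπ
      have hxeQ : x * e ∈ Q := mul_mem hxQ (hEQ he)
      have hne1 : x * e ≠ 1 := fun e' => hER e he h1 (by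
        rw [show e = x by rw [← inv_eq_of_mul_eq_one_right (DHsq hx)]; exact (inv_eq_of_mul_eq_one_right e').symm]
        exact hx.2.1)
      have hI : InvQ z Q (x * e) := ⟨hxeQ, xe_sq hx e he, hne1, fun e' => hx.2.2 e he h1 (by rw [e'])⟩
      obtain ⟨c', hc', e'⟩ := (R_iff D C hF hI).1 (hx.2.2 e he h1)
      refine memB_iff.2 ?_
      rw [D.link.add _ hxQ _ (hEQ he), ← hcx, hπ, nc, nc, ← C.add, ← vec_xor h] at e'
      exact nc_inj (hyp D) C (small_lt D C c' hc') (LFMat89.xor_lt hc hd) e'.symm ▸ hc'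
    have h1 := sm_all c hc
    rw [hcq, hcs, hperp, hall e1 (Or.inr (Or.inl rfl)) he1.ne_one 5 (by norm_num) he1π,
      hall e2 (Or.inr (Or.inr (Or.inl rfl))) I2.ne_one 10 (by norm_num) he2π,
      hall e3 (Or.inr (Or.inr (Or.inr rfl))) I3.ne_one 15 (by norm_num) he3π] at h1
    simp [hc0] at h1
  have inRs : ∀ {x k}, x ∈ DH z E → k ∈ eOne → k ≠ 0 → QuotientGroup.mk' Q x = tau h Φ k →
      x ∈ AA D C ∧ ∀ e ∈ E, e ≠ 1 → x * e ∈ Rs D C k := by
    intro x k hx hk hk0 hxk
    have hm : ∀ e ∈ E, QuotientGroup.mk' Q (x * e) = tau h Φ k := fun e he => by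
      rw [map_mul, LFOrbitA89.mk_Q D C (hEQ he), mul_one, hxk]
    have hA : x ∈ AA D C := by
      have h1 := Rs_mem D C hF hk hk0 (xe_sq hx e1 (Or.inr (Or.inl rfl))) (hm e1 (Or.inr (Or.inl rfl)))
        (hx.2.2 e1 (Or.inr (Or.inl rfl)) he1.ne_one)
      have := mul_mem h1 he1A
      rwa [mul_assoc, q1, mul_one] at this
    exact ⟨hA, fun e he h1 => ⟨mul_mem hA (hEA he), hm e he, hx.2.2 e he h1⟩⟩
  have mk_five : ∀ {x}, x ∈ DH z E → x ∈ AA D C → x ≠ zc →
      ∃ k ∈ five, QuotientGroup.mk' Q x = tau h Φ k := by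
    intro x hx hxA hxz
    have h1 : QuotientGroup.mk' Q x ∈ E1 (hyp D) C := hmap ▸ Subgroup.mem_map_of_mem _ hxA
    obtain ⟨k, hk, hkx⟩ := h1
    have hk0 : k ≠ 0 := fun e => notQ x hx hxz ((QuotientGroup.eq_one_iff x).1 (by
      show QuotientGroup.mk' Q x = 1
      rw [hkx, e, tau_zero (hyp D) C]))
    refine ⟨k, ?_, hkx⟩
    obtain ⟨-, hR⟩ := inRs hx hk hk0 hkx
    obtain ⟨-, hr⟩ := Rs_diff D C hF hk hk0 (hR e2 (Or.inr (Or.inr (Or.inl rfl))) I2.ne_one)
      (hR e3 (Or.inr (Or.inr (Or.inr rfl))) I3.ne_one)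
    have e23 : x * e2 * (x * e3) = e1 := by
      rw [show x * e2 * (x * e3) = x * (e2 * x) * e3 by group, ← hx.1 e2 (Or.inr (Or.inr (Or.inl rfl))),
        show x * (x * e2) * e3 = x * x * (e2 * e3) by group, DHsq hx, one_mul, m23]
    rw [e23, he1π] at hr
    have h2 := five_excl k hk
    simp only [Bool.or_eq_true, Nat.beq_eq, mem_iff, List.any_eq_true, List.mem_range,
      Bool.and_eq_true] at h2
    rcases h2 with (h2 | h2) | ⟨w, -, hw1, hw2⟩
    · exact absurd h2 hk0
    · exact h2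
    · exfalso
      obtain ⟨v, hv⟩ := hr
      have hfix : op ρ (tau h Φ k) (nc s ν w) = nc s ν w := by
        rw [op_tau_nc (hyp D) C (eOne_list.2.2 k hk), hw1]
      have h3 : pol q (nc s ν 5) (nc s ν w) = 0 := by
        rw [← hv, ee_apply, (hyp D).fx.addl]
        conv_lhs => arg 1; rw [← hfix]
        rw [show pol q (op ρ (tau h Φ k) v) (op ρ (tau h Φ k) (nc s ν w)) = pol q v (nc s ν w) by
          simp only [pol, ← map_add, (hyp D).inv]]
        exact (by decide : ∀ a : ZMod 2, a + a = 0) _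
      rw [pol_code D C, hw2] at h3
      simp at h3
  -- the points
  have hpt : ∀ i, ∃ p : centralizer ({z} : Set G), p ∈ AA D C ∧ (p : G) = pt i := fun i => by
    obtain ⟨p, hp, e⟩ := P.mem i
    exact ⟨p, hp, e⟩
  choose pH hpA hpG using hpt
  have hpG2 : ∀ i j, ((pH i * pH j : centralizer ({z} : Set G)) : G) = pt i * pt j := fun i j => by
    rw [Subgroup.coe_mul, hpG, hpG]
  have inAG : ∀ {x}, x ∈ AA D C → (x : G) ∈ AG D C := fun {x} hx => ⟨x, hx, rfl⟩
  have asR : ∀ {w}, w ∈ AA D C → w ≠ 1 → RR w → ∃ i j, i ≠ j ∧ pt i * pt j = (w : G) := fun hA h1 hR =>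
    (P.rel _ (inAG hA)).1 ⟨fun e => h1 (Subtype.ext e), hR⟩
  have c1 : ∀ {w : centralizer ({z} : Set G)}, w ≠ 1 → (w : G) ≠ 1 := fun hw e => hw (Subtype.ext e)
  obtain ⟨a0, b0, hab0, ht0⟩ := asR he1A he1.ne_one R1
  obtain ⟨c0, d0, hcd0, he0⟩ := asR he2A I2.ne_one R2
  obtain ⟨a, b, c, hab, hac, hbc, eqt, eqe⟩ : ∃ a b c : GolayPt, a ≠ b ∧ a ≠ c ∧ b ≠ c ∧
      (e1 : G) = pt a * pt b ∧ (e2 : G) = pt a * pt c := by
    have hp3 : pt a0 * pt b0 * (pt c0 * pt d0) = (e3 : G) := by
      rw [ht0, he0]; rfl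
    rcases share P hab0 hcd0 (hp3 ▸ c1 I3.ne_one) (hp3 ▸ R3) with
      ⟨h1, h2⟩ | ⟨h1, h2⟩ | ⟨h1, h2⟩ | ⟨h1, h2⟩ <;> subst h1
    · exact ⟨a0, b0, d0, hab0, hcd0, h2, ht0.symm, he0.symm⟩
    · exact ⟨a0, b0, c0, hab0, hcd0.symm, h2, ht0.symm, he0.symm.trans (swap P _ _)⟩
    · exact ⟨b0, a0, d0, hab0.symm, hcd0, h2, ht0.symm.trans (swap P _ _), he0.symm⟩
    · exact ⟨b0, a0, c0, hab0.symm, hcd0.symm, h2, ht0.symm.trans (swap P _ _),
        he0.symm.trans (swap P _ _)⟩
  have eqte : (e3 : G) = pt b * pt c := by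
    show (e1 : G) * (e2 : G) = _
    rw [eqt, eqe, swap P a b, mul_assoc, cl P]
  let d : GolayPt → centralizer ({z} : Set G) := fun i => e1 * (pH c * pH i)
  have hdA : ∀ i, d i ∈ AA D C := fun i => mul_mem he1A (mul_mem (hpA c) (hpA i))
  have hdG : ∀ i, (d i : G) = pt a * pt b * (pt c * pt i) := fun i => by
    show (e1 : G) * ((pH c * pH i : centralizer ({z} : Set G)) : G) = _
    rw [hpG2, eqt]
  have hd1 : ∀ i, (d i : G) * (e1 : G) = pt c * pt i := fun i => by
    rw [hdG, eqt, P.comm _ (mul_mem (mul_mem (P.mem a) (P.mem b)) (mul_mem (P.mem c) (P.mem i))) _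
      (mul_mem (P.mem a) (P.mem b)), ← mul_assoc (pt a * pt b), P.sq _ (mul_mem (P.mem a) (P.mem b)),
      one_mul]
  have hd2 : ∀ i, (d i : G) * (e2 : G) = pt b * pt i := fun i => by
    rw [hdG, eqe]; exact calc_in P
  have hd3 : ∀ i, (d i : G) * (e3 : G) = pt a * pt i := fun i => by
    rw [hdG, eqte, swap P a b]; exact calc_in P
  have shape : ∀ {x}, x ∈ DH z E → x ∈ AA D C → ∃ i, i ≠ a ∧ i ≠ b ∧ i ≠ c ∧ x = d i := by
    intro x hx hxA
    have hxe : ∀ e ∈ E, e ≠ 1 → ((x : G) * (e : G) ≠ 1 ∧ ¬ IsConj z ((x : G) * (e : G))) := fun e he h1 =>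
      ⟨fun e' => hER e he h1 (by
        rw [show e = x by
          rw [← inv_eq_of_mul_eq_one_right (DHsq hx)]
          exact (inv_eq_of_mul_eq_one_right (Subtype.ext e' : x * e = 1)).symm]
        exact hx.2.1), hx.2.2 e he h1⟩
    obtain ⟨i, j, hij, hx1⟩ := (P.rel _ (mul_mem (inAG hxA) (inAG he1A))).1
      (hxe e1 (Or.inr (Or.inl rfl)) he1.ne_one)
    have hx0 : (x : G) = pt i * pt j * (pt a * pt b) := by
      rw [hx1, ← eqt, mul_assoc, P.sq _ (inAG he1A), mul_one]
    have hR := ne_conj P hx.2.1 hz1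
    have hia : i ≠ a := fun e => hR j b (by rw [hx0, e, swap P a j, mul_assoc, cl P])
    have hja : j ≠ a := fun e => hR i b (by rw [hx0, e, mul_assoc, cl P])
    have hib : i ≠ b := fun e => hR j a (by rw [hx0, e, swap P a b, swap P b j, mul_assoc, cl P])
    have hjb : j ≠ b := fun e => hR i a (by rw [hx0, e, swap P a b, mul_assoc, cl P])
    have hxe2 : (x : G) * (e2 : G) = pt i * pt j * (pt b * pt c) := by
      rw [hx0, eqe, mul_assoc (pt i * pt j), swap P a b, swap P a c, join P b c a]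
    have h2 := hxe e2 (Or.inr (Or.inr (Or.inl rfl))) I2.ne_one
    rw [hxe2] at h2
    have hci : c = i ∨ c = j := by
      rcases share P hij hbc h2.1 h2.2 with ⟨h1, -⟩ | ⟨h1, -⟩ | ⟨h1, -⟩ | ⟨h1, -⟩
      · exact absurd h1 hib
      · exact Or.inl h1.symm
      · exact absurd h1 hjb
      · exact Or.inr h1.symm
    rcases hci with rfl | rfl
    · exact ⟨j, hja, hjb, hij.symm, Subtype.ext (by
        rw [hx0, hdG]
        exact P.comm _ (mul_mem (P.mem _) (P.mem _)) _ (mul_mem (P.mem _) (P.mem _)))⟩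
    · exact ⟨i, hia, hib, hij, Subtype.ext (by
        rw [hx0, hdG, swap P i]
        exact P.comm _ (mul_mem (P.mem _) (P.mem _)) _ (mul_mem (P.mem _) (P.mem _)))⟩
  obtain ⟨y, hya, hyb, hyc, hy⟩ := shape zDH (zc_mem D C)
  have hzG : z = pt a * pt b * (pt c * pt y) := by rw [← hdG, ← hy, D.zc_val]
  have nd4 : ∀ {i}, i ≠ a → i ≠ b → i ≠ c → [a, b, c, i].Nodup := fun {i} h1 h2 h3 => by
    simp [hab, hac, hbc, h1.symm, h2.symm, h3.symm]
  have dDH : ∀ {i}, i ≠ a → i ≠ b → i ≠ c → d i ∈ DH z E := by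
    intro i h1 h2 h3
    obtain ⟨m, hm⟩ := exists_m P [a, b, c, y] [a, b, c, i] (nd4 hya hyb hyc) (nd4 h1 h2 h3) rfl (by simp)
    simp only [List.map_cons, List.map_nil, List.cons.injEq, and_true] at hm
    refine ⟨fun e he => hea.2 _ (hdA i) e (hEA he), isConj_iff.2 ⟨m, ?_⟩, fun e he he1' => ?_⟩
    · refine (congrArg (fun w => (m : G) * w * (m : G)⁻¹) hzG).trans ?_
      rw [hdG, show (m : G) * (pt a * pt b * (pt c * pt y)) * (m : G)⁻¹ =
        (m : G) * (pt a * pt b) * (m : G)⁻¹ * ((m : G) * (pt c * pt y) * (m : G)⁻¹) by group,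
        P.equiv, P.equiv, hm.1, hm.2.1, hm.2.2.1, hm.2.2.2]
    · have hr : ∀ {u v}, u ≠ v → ¬ IsConj z (pt u * pt v) := fun huv =>
        ((P.rel _ (mul_mem (P.mem _) (P.mem _))).2 ⟨_, _, huv, rfl⟩).2
      rcases hE.1 he with rfl | rfl | rfl | rfl
      · exact absurd rfl he1'
      · rw [Subgroup.coe_mul, hd1]; exact hr h3.symm
      · rw [Subgroup.coe_mul, hd2]; exact hr h2.symm
      · rw [Subgroup.coe_mul, hd3]; exact hr h1.symm
  have d_inj : ∀ {i j}, d i = d j → i = j := by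
    intro i j e
    have h1 := congrArg (fun w : centralizer ({z} : Set G) => (w : G) * (e3 : G)) e
    simp only [hd3] at h1
    have := mul_left_cancel h1
    by_contra hne
    have h2 : pt i * pt j = 1 := by rw [this, P.sq _ (P.mem j)]
    exact ((P.rel _ (mul_mem (P.mem i) (P.mem j))).2 ⟨i, j, hne, rfl⟩).1 h2
  -- the six classes
  let f : GolayPt → centralizer ({z} : Set G) ⧸ Q := fun i => QuotientGroup.mk' Q (pH i * pH a)
  have hf2 : ∀ i, f i * f i = 1 := fun i => by
    rw [← map_mul, hea.1 _ (mul_mem (hpA i) (hpA a)), map_one]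
  have hfij : ∀ i j, QuotientGroup.mk' Q (pH i * pH j) = f i * f j := fun i j => by
    rw [← map_mul]
    refine congrArg _ (Subtype.ext ?_)
    rw [hpG2, Subgroup.coe_mul, hpG2, hpG2, join P]
  have fQ : ∀ {i} {w : centralizer ({z} : Set G)}, w ∈ Q → pt i * pt a = (w : G) → f i = 1 :=
    fun {i w} hw e => LFOrbitA89.mk_Q D C ((Subtype.ext ((hpG2 i a).trans e) : pH i * pH a = w) ▸ hw)
  have fa : f a = 1 := fQ (w := 1) (one_mem _) (P.sq _ (P.mem a))
  have fb : f b = 1 := fQ he1.mem ((swap P b a).trans eqt.symm)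
  have fc : f c = 1 := fQ he2Q ((swap P c a).trans eqe.symm)
  have fd : ∀ i, f i = QuotientGroup.mk' Q (d i) := fun i => by
    have e : pH i * pH a = d i * e3 := Subtype.ext (by rw [hpG2, Subgroup.coe_mul, hd3, swap P])
    show QuotientGroup.mk' Q (pH i * pH a) = _
    rw [e, map_mul, LFOrbitA89.mk_Q D C he3Q, mul_one]
  set Six : Finset (centralizer ({z} : Set G) ⧸ Q) :=
    insert 1 (five.toFinset.image (fun k => tau h Φ k)) with hSix
  have mem_Six : ∀ {v}, v ∈ Six ↔ v = 1 ∨ ∃ k ∈ five, v = tau h Φ k := fun {v} => by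
    simp [hSix, eq_comm]
  have fSix : ∀ i, f i ∈ Six := fun i => by
    rw [mem_Six]
    by_cases h1 : i = a
    · exact Or.inl (h1 ▸ fa)
    by_cases h2 : i = b
    · exact Or.inl (h2 ▸ fb)
    by_cases h3 : i = c
    · exact Or.inl (h3 ▸ fc)
    by_cases hz : d i = zc
    · exact Or.inl (by rw [fd, hz, LFOrbitA89.mk_Q D C hzQ])
    · obtain ⟨k, hk, e⟩ := mk_five (dDH h1 h2 h3) (hdA i) hz
      exact Or.inr ⟨k, hk, (fd i).trans e⟩
  set fib : centralizer ({z} : Set G) ⧸ Q → Finset GolayPt := fun v => Finset.univ.filter fun i => f i = v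
    with hfib
  have mem_fib : ∀ {i v}, i ∈ fib v ↔ f i = v := fun {i v} => by simp [hfib]
  have := Fintype.ofFinite (centralizer ({z} : Set G))
  obtain ⟨-, -, -, -, -, -, -, -, h36, -, -⟩ := classes D C hF
  let S36 : Finset (centralizer ({z} : Set G)) :=
    Finset.univ.filter fun x => x ∈ AA D C ∧ x ∈ Q ∧ ¬ IsConj z (x : G) ∧ x ≠ 1
  have hS36 : S36.card = 36 := by
    rw [← h36, ← Set.ncard_coe_finset]
    refine congrArg Set.ncard (Set.ext fun x => ?_)
    simp [S36]
  let pairs : Finset (GolayPt × GolayPt) := Six.biUnion fun v => (fib v).offDiag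
  have hpairs : ∀ {p : GolayPt × GolayPt}, p ∈ pairs ↔ p.1 ≠ p.2 ∧ f p.1 = f p.2 := fun {p} => by
    simp only [pairs, Finset.mem_biUnion, Finset.mem_offDiag, mem_fib]
    exact ⟨fun ⟨v, _, h1, h2, h3⟩ => ⟨h3, h1.trans h2.symm⟩, fun ⟨h1, h2⟩ => ⟨_, fSix p.1, rfl, h2.symm, h1⟩⟩
  have hpc : pairs.card = 72 := by
    rw [Finset.card_eq_sum_card_fiberwise (f := fun p : GolayPt × GolayPt => pH p.1 * pH p.2) (t := S36)
      (fun p hp => by
        obtain ⟨h1, h2⟩ := hpairs.1 (Finset.mem_coe.1 hp)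
        simp only [S36, Finset.mem_coe, Finset.mem_filter, Finset.mem_univ, true_and]
        obtain ⟨r1, r2⟩ := (P.rel _ (mul_mem (P.mem p.1) (P.mem p.2))).2 ⟨_, _, h1, rfl⟩
        refine ⟨mul_mem (hpA _) (hpA _), (QuotientGroup.eq_one_iff _).1 ?_, by rw [hpG2]; exact r2,
          fun e => r1 (by rw [← hpG2, e]; rfl)⟩
        show QuotientGroup.mk' Q _ = 1
        rw [hfij, h2, hf2]),
      Finset.sum_const_nat (m := 2) (fun x hx => ?_), hS36]
    simp only [S36, Finset.mem_filter, Finset.mem_univ, true_and] at hx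
    obtain ⟨hxA, hxQ, hxR, hx1⟩ := hx
    obtain ⟨i, j, hij, e⟩ := asR hxA hx1 hxR
    rw [Finset.card_eq_two]
    refine ⟨(i, j), (j, i), fun e' => hij (congrArg Prod.fst e'), ?_⟩
    have e' : pH i * pH j = x := Subtype.ext ((hpG2 i j).trans e)
    ext ⟨u, v⟩
    simp only [Finset.mem_filter, Finset.mem_insert, Finset.mem_singleton, Prod.mk.injEq]
    constructor
    · rintro ⟨hp, hv⟩
      exact P.inj u v i j (hpairs.1 hp).1 hij (by rw [← hpG2, hv, ← e', hpG2])
    · intro huv
      have hff : f i = f j := by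
        have h1 := hfij i j
        rw [e', LFOrbitA89.mk_Q D C hxQ] at h1
        calc f i = f i * (f j * f j) := by rw [hf2, mul_one]
          _ = f j := by rw [← mul_assoc, ← h1, one_mul]
      rcases huv with ⟨rfl, rfl⟩ | ⟨rfl, rfl⟩
      · exact ⟨hpairs.2 ⟨hij, hff⟩, e'⟩
      · refine ⟨hpairs.2 ⟨hij.symm, hff.symm⟩, ?_⟩
        rw [← e']; exact hea.2 _ (hpA _) _ (hpA _)
  have fib4 : ∀ v ∈ Six, (fib v).card = 4 := by
    have h24 : ∑ v ∈ Six, (fib v).card = 24 :=
      (Finset.card_eq_sum_card_fiberwise (f := f) (fun i _ => fSix i)).symm.trans rfl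
    have h72 : ∑ v ∈ Six, ((fib v).card * (fib v).card - (fib v).card) = 72 := by
      rw [← hpc, Finset.card_biUnion]
      · exact Finset.sum_congr rfl fun v _ => (Finset.offDiag_card _).symm
      · intro v _ w _ hvw
        rw [Function.onFun, Finset.disjoint_left]
        intro p hp hp'
        exact hvw ((mem_fib.1 (Finset.mem_offDiag.1 hp).1).symm.trans (mem_fib.1 (Finset.mem_offDiag.1 hp').1))
    have h6 : Six.card ≤ 6 := (Finset.card_insert_le _ _).trans (Nat.succ_le_succ (Finset.card_image_le.trans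
      ((List.toFinset_card_le _).trans (by decide))))
    have hsum : ∑ v ∈ Six, (((fib v).card : ℤ) - 4) ^ 2 ≤ 0 := by
      have e : ∀ v ∈ Six, (((fib v).card : ℤ) - 4) ^ 2 =
          (((fib v).card * (fib v).card - (fib v).card : ℕ) : ℤ) - 7 * ((fib v).card : ℤ) + 16 := fun v _ => by
        rw [Nat.cast_sub (Nat.le_mul_self _), Nat.cast_mul]; ring
      rw [Finset.sum_congr rfl e, Finset.sum_add_distrib, Finset.sum_sub_distrib, ← Finset.mul_sum,
        ← Nat.cast_sum, ← Nat.cast_sum, h72, h24, Finset.sum_const, nsmul_eq_mul]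
      have : (Six.card : ℤ) ≤ 6 := by exact_mod_cast h6
      norm_num
      linarith
    intro v hv
    have h0 := (Finset.sum_eq_zero_iff_of_nonneg fun w _ => sq_nonneg (((fib w).card : ℤ) - 4)).1
      (le_antisymm hsum (Finset.sum_nonneg fun w _ => sq_nonneg _)) v hv
    have := pow_eq_zero_iff (n := 2) (by norm_num) |>.1 h0
    omega
  have five_ne : ∀ k ∈ five, tau h Φ k ≠ 1 := fun k hk e => (five_mem' k hk).2 (tau_inj (hyp D) C
    (eOne_list.2.2 k (five_mem' k hk).1) (by norm_num) (e.trans (tau_zero (hyp D) C).symm))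
  have fib_ok : ∀ {k i}, k ∈ five → f i = tau h Φ k → i ≠ a ∧ i ≠ b ∧ i ≠ c := fun {k i} hk e =>
    ⟨fun e' => five_ne k hk (by rw [← e, e', fa]), fun e' => five_ne k hk (by rw [← e, e', fb]),
      fun e' => five_ne k hk (by rw [← e, e', fc])⟩
  have DHk : ∀ k ∈ five, {x | x ∈ DH z E ∧ QuotientGroup.mk' Q x = tau h Φ k} =
      ((fib (tau h Φ k)).image d : Set (centralizer ({z} : Set G))) := by
    intro k hk
    ext x
    simp only [Set.mem_ofPred_eq, Finset.coe_image, Set.mem_image, Finset.mem_coe, mem_fib]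
    constructor
    · rintro ⟨hx, hxk⟩
      obtain ⟨i, -, -, -, rfl⟩ := shape hx (inRs hx (five_mem' k hk).1 (five_mem' k hk).2 hxk).1
      exact ⟨i, (fd i).trans hxk, rfl⟩
    · rintro ⟨i, hi, rfl⟩
      obtain ⟨h1, h2, h3⟩ := fib_ok hk hi
      exact ⟨dDH h1 h2 h3, (fd i).symm.trans hi⟩
  -- the product over a quad
  have quad : ∀ {v}, v ∈ Six → ∀ {i j k l}, i ≠ j → i ≠ k → i ≠ l → j ≠ k → j ≠ l → k ≠ l →
      f i = v → f j = v → f k = v → f l = v → pt i * pt j * (pt k * pt l) = z := by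
    intro v hv i j k l hij hik hil hjk hjl hkl fi fj fk fl
    set w := pH i * pH j * (pH k * pH l) with hw
    have hwA : w ∈ AA D C := mul_mem (mul_mem (hpA i) (hpA j)) (mul_mem (hpA k) (hpA l))
    have hwQ : w ∈ Q := by
      rw [← QuotientGroup.eq_one_iff]
      show QuotientGroup.mk' Q w = 1
      rw [hw, map_mul, hfij, hfij, fi, fj, fk, fl]
      rcases mem_Six.1 hv with rfl | ⟨k', hk', rfl⟩
      · simp
      · rw [← fi, hf2, one_mul]
    have hwG : (w : G) = pt i * pt j * (pt k * pt l) := by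
      rw [hw, Subgroup.coe_mul, hpG2, hpG2]
    have hfibeq : fib v = {i, j, k, l} := by
      refine (Finset.eq_of_subset_of_card_le ?_ ?_).symm
      · intro r hr
        simp only [Finset.mem_insert, Finset.mem_singleton] at hr
        rw [mem_fib]
        rcases hr with rfl | rfl | rfl | rfl <;> assumption
      · rw [fib4 v hv]
        simp [hij, hik, hil, hjk, hjl, hkl]
    have hcent : ∀ q' ∈ Q, w * q' = q' * w := by
      intro q' hq'
      have hqN := NA_normalizer D C (Q_le_NA D C hq')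
      set σ := (φ ⟨(q' : G), hqN⟩ : Equiv.Perm GolayPt) with hσ
      have heq : ∀ r s, (q' : G) * (pt r * pt s) * (q' : G)⁻¹ = pt (σ r) * pt (σ s) :=
        fun r s => P.equiv ⟨(q' : G), hqN⟩ r s
      have hfσ : ∀ r s, f (σ r) * f (σ s) = f r * f s := fun r s => by
        have e : pH (σ r) * pH (σ s) = q' * (pH r * pH s) * q'⁻¹ := Subtype.ext (by
          rw [hpG2, Subgroup.coe_mul, Subgroup.coe_mul, hpG2, Subgroup.coe_inv]; exact (heq r s).symm)
        rw [← hfij, ← hfij, e, map_mul, map_mul, map_inv, LFOrbitA89.mk_Q D C hq', one_mul, inv_one,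
          mul_one]
      have hmul : ∀ r, f (σ r) = f r * f (σ a) := fun r => by
        have := hfσ r a
        rw [fa, mul_one] at this
        calc f (σ r) = f (σ r) * (f (σ a) * f (σ a)) := by rw [hf2, mul_one]
          _ = f r * f (σ a) := by rw [← mul_assoc, this]
      have hσa : f (σ a) = 1 := by
        rcases mem_Six.1 (fSix (σ a)) with e | ⟨k0, hk0, e⟩
        · exact e
        exfalso
        have h1 := five_trans k0 hk0
        simp only [List.any_eq_true, Bool.and_eq_true, Bool.not_eq_true'] at h1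
        obtain ⟨k1, hk1, hne0, hne5⟩ := h1
        obtain ⟨r, hr⟩ := Finset.card_pos.1 (show 0 < (fib (tau h Φ k1)).card by
          rw [fib4 _ (mem_Six.2 (Or.inr ⟨k1, hk1, rfl⟩))]; norm_num)
        have h2 := fSix (σ r)
        have hlt0 := eOne_list.2.2 k0 (five_mem' k0 hk0).1
        have hlt1 := eOne_list.2.2 k1 (five_mem' k1 hk1).1
        have hcm : tau h Φ k1 * tau h Φ k0 = tau h Φ k0 * tau h Φ k1 :=
          (E1_ea (hyp D) C).2 _ ⟨k1, (five_mem' k1 hk1).1, rfl⟩ _ ⟨k0, (five_mem' k0 hk0).1, rfl⟩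
        rw [hmul, e, mem_fib.1 hr, hcm, (tau_mul (hyp D) C hlt0 hlt1).2, mem_Six] at h2
        have hlt2 := (tau_mul (hyp D) C hlt0 hlt1).1
        rcases h2 with e2 | ⟨k2, hk2, e2⟩
        · rw [← tau_zero (hyp D) C] at e2
          rw [tau_inj (hyp D) C hlt2 (by norm_num) e2] at hne0
          simp at hne0
        · rw [tau_inj (hyp D) C hlt2 (eOne_list.2.2 k2 (five_mem' k2 hk2).1) e2, mem_iff.2 hk2] at hne5
          simp at hne5
      have hperm : [σ i, σ j, σ k, σ l].Perm [i, j, k, l] := by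
        refine (List.perm_ext_iff_of_nodup ?_ ?_).2 ?_
        · simp [σ.injective.eq_iff, hij, hik, hil, hjk, hjl, hkl]
        · simp [hij, hik, hil, hjk, hjl, hkl]
        · have himg : (fib v).image σ = fib v := by
            refine Finset.eq_of_subset_of_card_le (fun r hr => ?_) (by
              rw [Finset.card_image_of_injective _ σ.injective])
            obtain ⟨r', hr', rfl⟩ := Finset.mem_image.1 hr
            rw [mem_fib, hmul, hσa, mul_one]
            exact mem_fib.1 hr'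
          intro r
          rw [hfibeq] at himg
          have := Finset.ext_iff.1 himg r
          simpa [eq_comm] using this
      have hprod := List.Perm.prod_eq' (hperm.map pt) (by
        simp only [List.map_cons, List.map_nil, List.pairwise_cons, List.mem_cons, List.not_mem_nil,
          or_false, false_imp_iff, implies_true, List.Pairwise.nil, and_true, forall_eq_or_imp, forall_eq]
        exact ⟨⟨P.comm _ (P.mem _) _ (P.mem _), P.comm _ (P.mem _) _ (P.mem _), P.comm _ (P.mem _) _ (P.mem _)⟩,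
          ⟨P.comm _ (P.mem _) _ (P.mem _), P.comm _ (P.mem _) _ (P.mem _)⟩,
          P.comm _ (P.mem _) _ (P.mem _)⟩)
      simp only [List.map_cons, List.map_nil, List.prod_cons, List.prod_nil, mul_one] at hprod
      have hfix : (q' : G) * (w : G) * (q' : G)⁻¹ = w := by
        rw [hwG, show (q' : G) * (pt i * pt j * (pt k * pt l)) * (q' : G)⁻¹ =
          (q' : G) * (pt i * pt j) * (q' : G)⁻¹ * ((q' : G) * (pt k * pt l) * (q' : G)⁻¹) by group,
          heq, heq]
        simpa only [mul_assoc] using hprod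
      exact Subtype.ext (mul_inv_eq_iff_eq_mul.1 hfix).symm
    rcases D.self_cent w hcent with e | e
    · exfalso
      refine P.four i j k l i i hij hik hil hjk hjl hkl ?_
      rw [P.sq _ (P.mem i), mul_assoc (pt i * pt j), ← hwG, e]
      rfl
    · rw [← hwG, e, D.zc_val]
  -- generation
  set T := (Subgroup.closure (DH z E)).map (centralizer ({z} : Set G)).subtype with hT
  obtain ⟨Pf, hP0, hP1, hPA, hPi, hPo⟩ := P.prodFun
  have dT : ∀ {i}, i ≠ a → i ≠ b → i ≠ c → pt a * pt b * (pt c * pt i) ∈ T := fun {i} h1 h2 h3 =>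
    ⟨d i, Subgroup.subset_closure (dDH h1 h2 h3), hdG i⟩
  have hgen : ∀ s : Finset GolayPt, a ∉ s → b ∉ s → c ∉ s →
      (Even s.card → Pf s ∈ T) ∧ (¬ Even s.card → pt a * pt b * pt c * Pf s ∈ T) := by
    intro s
    induction s using Finset.induction_on with
    | empty => exact fun _ _ _ => ⟨fun _ => hP0 ▸ one_mem _, fun h0 => absurd ⟨0, rfl⟩ h0⟩
    | @insert r s hr ih =>
      intro ha hb hc
      simp only [Finset.mem_insert, not_or] at ha hb hc
      obtain ⟨ih1, ih2⟩ := ih ha.2 hb.2 hc.2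
      have hr' := dT (Ne.symm ha.1) (Ne.symm hb.1) (Ne.symm hc.1)
      rw [Finset.card_insert_of_notMem hr, Nat.even_add_one, hPi r s hr]
      refine ⟨fun h1 => ?_, fun h1 => ?_⟩
      · have h3 := mul_mem hr' (ih2 h1)
        rwa [← mul_assoc (pt a * pt b), P.comm _ (mul_mem (mul_mem (P.mem a) (P.mem b)) (P.mem c)) _ (P.mem r),
          mul_assoc (pt r), ← mul_assoc (pt a * pt b * pt c),
          P.sq _ (mul_mem (mul_mem (P.mem a) (P.mem b)) (P.mem c)), one_mul] at h3
      · have h3 := mul_mem hr' (ih1 (not_not.1 h1))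
        simpa only [mul_assoc] using h3
  have pair_T : ∀ u v w : GolayPt, u ≠ v → u ≠ w → v ≠ w → ({a, b, c} : Finset GolayPt) = {u, v, w} →
      pt u * pt v ∈ T := by
    intro u v w huv huw hvw hset
    obtain ⟨r1, r2, r3, hr5⟩ : ∃ r1 r2 r3 : GolayPt, ({u, v, r1, r2, r3} : Finset GolayPt).card = 5 := by
      have ex : ∀ s : Finset GolayPt, s.card < 24 → ∃ r, r ∉ s := fun s hs => by
        obtain ⟨r, -, hr⟩ := Finset.exists_mem_notMem_of_card_lt_card (s := s) (t := Finset.univ) hs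
        exact ⟨r, hr⟩
      obtain ⟨r1, h1⟩ := ex {u, v} (lt_of_le_of_lt Finset.card_le_two (by norm_num))
      obtain ⟨r2, h2⟩ := ex {u, v, r1} (lt_of_le_of_lt Finset.card_le_three (by norm_num))
      obtain ⟨r3, h3⟩ := ex {u, v, r1, r2} (lt_of_le_of_lt Finset.card_le_four (by norm_num))
      simp only [Finset.mem_insert, Finset.mem_singleton, not_or] at h1 h2 h3
      exact ⟨r1, r2, r3, by
        simp [huv, Ne.symm h1.1, Ne.symm h1.2, Ne.symm h2.1, Ne.symm h2.2.1, Ne.symm h2.2.2,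
          Ne.symm h3.1, Ne.symm h3.2.1, Ne.symm h3.2.2.1, Ne.symm h3.2.2.2]⟩
    obtain ⟨O, hO, hsub⟩ := GolaySteiner.exists_octad_five hr5
    have hO8 := (GolayBasic.mem_octads.1 hO).2
    obtain ⟨w', hw'⟩ : ∃ r, r ∉ O := by
      obtain ⟨r, -, hr⟩ := Finset.exists_mem_notMem_of_card_lt_card (s := O) (t := Finset.univ)
        (by rw [hO8]; decide)
      exact ⟨r, hr⟩
    have huO : u ∈ O := hsub (by simp)
    have hvO : v ∈ O := hsub (by simp)
    obtain ⟨σ, hσ, e⟩ := GolayModule.exists_map_lists (l := [u, v, w']) (l' := [u, v, w])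
      (by simp [huv, show u ≠ w' from fun e => hw' (e ▸ huO), show v ≠ w' from fun e => hw' (e ▸ hvO)])
      (by simp [huv, huw, hvw]) rfl (by simp)
    simp only [List.map_cons, List.map_nil, List.cons.injEq, and_true] at e
    have hO' : σ • O ∈ Cfsg.octads := GolayPerm.smul_mem_octads hσ hO
    have m1 : u ∈ σ • O := by
      have h' := Finset.smul_mem_smul_finset (a := σ) huO
      rwa [Equiv.Perm.smul_def, e.1] at h'
    have m2 : v ∈ σ • O := by
      have h' := Finset.smul_mem_smul_finset (a := σ) hvO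
      rwa [Equiv.Perm.smul_def, e.2.1] at h'
    have m3 : w ∉ σ • O := by
      rw [← e.2.2, ← Equiv.Perm.smul_def, Finset.smul_mem_smul_finset_iff]; exact hw'
    set s := ((σ • O).erase u).erase v with hs
    have hsc : s.card = 6 := by
      rw [hs, Finset.card_erase_of_mem (Finset.mem_erase.2 ⟨huv.symm, m2⟩), Finset.card_erase_of_mem m1,
        (GolayBasic.mem_octads.1 hO').2]
    have hns : ∀ r ∈ ({a, b, c} : Finset GolayPt), r ∉ s := by
      intro r hr hrs
      rw [hset] at hr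
      simp only [Finset.mem_insert, Finset.mem_singleton] at hr
      rw [hs, Finset.mem_erase, Finset.mem_erase] at hrs
      rcases hr with rfl | rfl | rfl
      exacts [hrs.2.1 rfl, hrs.1 rfl, m3 hrs.2.2]
    have hPs := (hgen s (hns a (by simp)) (hns b (by simp)) (hns c (by simp))).1 (by rw [hsc]; decide)
    have hO1 := hPo _ hO'
    have hi1 : insert v s = (σ • O).erase u := Finset.insert_erase (Finset.mem_erase.2 ⟨huv.symm, m2⟩)
    rw [← Finset.insert_erase m1, hPi u _ (Finset.notMem_erase _ _), ← hi1,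
      hPi v s (Finset.notMem_erase _ _), ← mul_assoc] at hO1
    rw [mul_eq_one_iff_eq_inv.1 hO1]
    exact inv_mem hPs
  have backT : ∀ {x : centralizer ({z} : Set G)}, (x : G) ∈ T → x ∈ Subgroup.closure (DH z E) := fun {x} hx => by
    obtain ⟨w, hw, e⟩ := hx
    exact (Subtype.ext e : w = x) ▸ hw
  have g1 : e1 ∈ Subgroup.closure (DH z E) := backT (eqt ▸ pair_T a b c hab hac hbc rfl)
  have g2 : e2 ∈ Subgroup.closure (DH z E) := backT (eqe ▸ pair_T a c b hac hab hbc.symm (by
    rw [Finset.pair_comm b c]))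
  refine ⟨E,
    { isE := ⟨hEQ, hEc, hzE, himg⟩
      ea := hEa
      le_AA := hEA
      RR := hER
      not_Q := notQ
      t_AA := fun k hk x hxx hx hR => Rs_mem D C hF (five_mem' k hk).1 (five_mem' k hk).2 hxx hx hR
      t_diff := fun x x' hxx hxx' hx hx' hR hR' => ?_
      count := fun k hk => ?_
      four := fun x1 x2 x3 x4 h1 h2 h3 h4 n12 n13 n14 n23 n24 n34 t1 t2 t3 t4 => ?_
      diff := fun x x' hx hx' hne ht ht' => ?_
      gen := fun e he => ?_
      move := ?_
      zc_DH := zDH }⟩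
  · have h15 : (15 : ℕ) ∈ five := by decide
    obtain ⟨k1, k0⟩ := five_mem' 15 h15
    exact (Rs_diff D C hF k1 k0 ⟨Rs_mem D C hF k1 k0 hxx hx hR, hx, hR⟩
      ⟨Rs_mem D C hF k1 k0 hxx' hx' hR', hx', hR'⟩).2
  · rw [DHk k hk, Set.ncard_coe_finset, Finset.card_image_of_injective _ fun i j e => d_inj e,
      fib4 _ (mem_Six.2 (Or.inr ⟨k, hk, rfl⟩))]
  · have hk : (15 : ℕ) ∈ five := by decide
    have get : ∀ x, x ∈ DH z E → QuotientGroup.mk' Q x = tauE h Φ → ∃ i, f i = tau h Φ 15 ∧ d i = x := by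
      intro x hx hxt
      have : x ∈ ((fib (tau h Φ 15)).image d : Set (centralizer ({z} : Set G))) := DHk 15 hk ▸ ⟨hx, hxt⟩
      simp only [Finset.coe_image, Set.mem_image, Finset.mem_coe, mem_fib] at this
      exact this
    obtain ⟨i, fi, rfl⟩ := get x1 h1 t1
    obtain ⟨j, fj, rfl⟩ := get x2 h2 t2
    obtain ⟨k, fk, rfl⟩ := get x3 h3 t3
    obtain ⟨l, fl, rfl⟩ := get x4 h4 t4
    have hq := quad (mem_Six.2 (Or.inr ⟨15, hk, rfl⟩)) (fun e => n12 (congrArg d e))
      (fun e => n13 (congrArg d e)) (fun e => n14 (congrArg d e)) (fun e => n23 (congrArg d e))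
      (fun e => n24 (congrArg d e)) (fun e => n34 (congrArg d e)) fi fj fk fl
    refine Or.inl (Subtype.ext ?_)
    have hpair : ∀ u v, (d u : G) * (d v : G) = pt u * pt v := fun u v => by
      calc (d u : G) * (d v : G) = (d u : G) * (e3 : G) * ((d v : G) * (e3 : G)) := by
            rw [mul_assoc (d u : G), ← mul_assoc (e3 : G),
              P.comm _ (inAG he3A) _ (inAG (hdA v)), mul_assoc (d v : G), P.sq _ (inAG he3A), mul_one]
        _ = pt u * pt v := by rw [hd3, hd3, swap P a u, swap P a v, join P]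
    simp only [Subgroup.coe_mul, Subgroup.coe_one]
    rw [show (d i : G) * (d j : G) * (d k : G) * (d l : G) =
      (d i : G) * (d j : G) * ((d k : G) * (d l : G)) by group, hpair, hpair, hq, D.zc_val]
    exact (lhyp D).zz
  · have hk : (15 : ℕ) ∈ five := by decide
    obtain ⟨hA, hR⟩ := inRs hx (five_mem' 15 hk).1 (five_mem' 15 hk).2 ht
    obtain ⟨hA', hR'⟩ := inRs hx' (five_mem' 15 hk).1 (five_mem' 15 hk).2 ht'
    obtain ⟨i, hia, hib, hic, rfl⟩ := shape hx hA
    obtain ⟨j, hja, hjb, hjc, rfl⟩ := shape hx' hA'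
    obtain ⟨hQ, hr⟩ := Rs_diff D C hF (five_mem' 15 hk).1 (five_mem' 15 hk).2
      (hR e3 (Or.inr (Or.inr (Or.inr rfl))) I3.ne_one) (hR' e3 (Or.inr (Or.inr (Or.inr rfl))) I3.ne_one)
    have hij : d i * d j = pH i * pH j := Subtype.ext (by
      rw [Subgroup.coe_mul, hpG2]
      calc (d i : G) * (d j : G) = (d i : G) * (e3 : G) * ((d j : G) * (e3 : G)) := by
            rw [mul_assoc (d i : G), ← mul_assoc (e3 : G),
              P.comm _ (inAG he3A) _ (inAG (hdA j)), mul_assoc (d j : G), P.sq _ (inAG he3A), mul_one]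
        _ = pt i * pt j := by rw [hd3, hd3, swap P a i, swap P a j, join P])
    have e : d i * e3 * (d j * e3) = d i * d j := by
      rw [mul_assoc, ← mul_assoc e3, hea.2 _ he3A _ (hdA j), mul_assoc (d j), hea.1 _ he3A, mul_one]
    rw [e] at hQ hr
    refine ⟨hr, fun hl => ?_⟩
    rw [← himg] at hl
    obtain ⟨w, hw, hwπ⟩ := hl
    have hne' : i ≠ j := fun e' => hne (congrArg d e')
    obtain ⟨r1, r2⟩ := (P.rel _ (mul_mem (P.mem i) (P.mem j))).2 ⟨i, j, hne', rfl⟩
    have no : ∀ u v, u ≠ v → (u = a ∨ u = b ∨ u = c ∨ v = a ∨ v = b ∨ v = c) →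
        pt i * pt j ≠ pt u * pt v := fun u v huv hor e' => by
      rcases P.inj i j u v hne' huv e' with ⟨rfl, rfl⟩ | ⟨rfl, rfl⟩ <;>
        rcases hor with e | e | e | e | e | e <;>
        first | exact hia e | exact hib e | exact hic e | exact hja e | exact hjb e | exact hjc e
    have hzw : ∀ {w : centralizer ({z} : Set G)}, ((w * zc : centralizer ({z} : Set G)) : G) =
        (w : G) * (pt a * pt b * (pt c * pt y)) := fun {w} => by
      rw [Subgroup.coe_mul, D.zc_val, ← hzG]
    rcases pi_eq D (hEQ hw) hQ hwπ with e' | e' <;> rw [hij] at e' <;>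
      have e'' := congrArg Subtype.val e' <;> rw [hpG2] at e''
    · rcases hE.1 hw with rfl | rfl | rfl | rfl
      · exact r1 e''
      · exact no a b hab (Or.inl rfl) (e''.trans eqt)
      · exact no a c hac (Or.inl rfl) (e''.trans eqe)
      · exact no b c hbc (Or.inr (Or.inl rfl)) (e''.trans eqte)
    · rw [hzw] at e''
      rcases hE.1 hw with rfl | rfl | rfl | rfl
      · rw [Subgroup.coe_one, one_mul, ← hzG] at e''
        exact r2 (e'' ▸ IsConj.refl z)
      · refine no c y hyc.symm (Or.inr (Or.inr (Or.inl rfl))) (e''.trans ?_)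
        rw [eqt, ← mul_assoc, P.sq _ (mul_mem (P.mem a) (P.mem b)), one_mul]
      · refine no b y hyb.symm (Or.inr (Or.inl rfl)) (e''.trans ?_)
        rw [eqe, P.comm _ (mul_mem (P.mem a) (P.mem c)) _
          (mul_mem (mul_mem (P.mem a) (P.mem b)) (mul_mem (P.mem c) (P.mem y)))]
        exact calc_in P
      · refine no a y hya.symm (Or.inl rfl) (e''.trans ?_)
        rw [eqte, P.comm _ (mul_mem (P.mem b) (P.mem c)) _
          (mul_mem (mul_mem (P.mem a) (P.mem b)) (mul_mem (P.mem c) (P.mem y))), swap P a b]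
        exact calc_in P
  · rcases hE.1 he with rfl | rfl | rfl | rfl
    exacts [one_mem _, g1, g2, mul_mem g1 g2]
  · obtain ⟨i, hi⟩ : ∃ i, i ∉ ({a, b, c, y} : Finset GolayPt) := by
      obtain ⟨r, -, hr⟩ := Finset.exists_mem_notMem_of_card_lt_card (s := ({a, b, c, y} : Finset GolayPt))
        (t := Finset.univ) (lt_of_le_of_lt Finset.card_le_four (by decide))
      exact ⟨r, hr⟩
    simp only [Finset.mem_insert, Finset.mem_singleton, not_or] at hi
    obtain ⟨m, hm⟩ := exists_m P [a, b, c, y] [a, b, c, i] (nd4 hya hyb hyc) (nd4 hi.1 hi.2.1 hi.2.2.1)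
      rfl (by simp)
    simp only [List.map_cons, List.map_nil, List.cons.injEq, and_true] at hm
    refine ⟨m, fun e he => ?_, d i, dDH hi.1 hi.2.1 hi.2.2.1,
      fun e' => hi.2.2.2 (d_inj (e'.trans hy)), ?_⟩
    · have fx : ∀ u v, (φ m : Equiv.Perm GolayPt) u = u → (φ m : Equiv.Perm GolayPt) v = v →
          (m : G) * (pt u * pt v) = pt u * pt v * (m : G) := fun u v hu hv => by
        refine mul_inv_eq_iff_eq_mul.1 ?_
        rw [P.equiv, hu, hv]
      rcases hE.1 he with rfl | rfl | rfl | rfl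
      · simp
      · rw [eqt]; exact fx a b hm.1 hm.2.1
      · rw [eqe]; exact fx a c hm.1 hm.2.2.1
      · rw [eqte]; exact fx b c hm.2.1 hm.2.2.1
    · refine (congrArg (fun w => (m : G) * w * (m : G)⁻¹) hzG).trans ?_
      rw [hdG, show (m : G) * (pt a * pt b * (pt c * pt y)) * (m : G)⁻¹ =
        (m : G) * (pt a * pt b) * (m : G)⁻¹ * ((m : G) * (pt c * pt y) * (m : G)⁻¹) by group,
        P.equiv, P.equiv, hm.1, hm.2.1, hm.2.2.1, hm.2.2.2]

end Cfsg.Agent.LFU62Coord19
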