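import Mathlib
import Cfsg.Agent.Lib.LFU62PerpData19
import Cfsg.Agent.Lib.LFU62StabData58
import Cfsg.Agent.Lib.LFStabCheck18

/-!
Checks on the coded stabiliser of the vector of weight two and its transvections.
-/

set_option autoImplicit false
set_option maxRecDepth 100000

namespace Cfsg.Agent.LFU62StabCheck58

open Cfsg.Agent.LFData89 Cfsg.Agent.LFCheck89 Cfsg.Agent.LFU62StabData58
open Cfsg.Agent.LFStabCheck18 (memB small)
open Cfsg.Agent.LFU62PerpData19 (inPerp inLine dlt)

/-- letters of a word -/
def letters (w : List ℕ) : Bool := w.all fun x => Nat.blt x 8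

/-- a transvection -/
def T (j : ℕ) : ℕ := tl.getD j 0

/-- a conjugating element -/
def W (j : ℕ) : ℕ := wt.getD j 0

/-- commuting -/
def cmB (i j : ℕ) : Bool := Nat.testBit (cmRow.getD i 0) j

/-- two codes commute -/
def cmM (a b : ℕ) : Bool := Nat.beq (mulM a b) (mulM b a)

def tlOK : Bool :=
  allBelow (fun j =>
    letters (tw.getD j []) && Nat.beq (word (tw.getD j [])) (W j) && Nat.beq (app (W j) 5) 5 &&
    Nat.beq (mulM (W j) (el 15)) (mulM (T j) (W j)) && Nat.blt (T j) (2 ^ 72) &&
    Nat.beq (mulM (T j) (T j)) idM && allBelow (fun i => !Nat.beq (T i) (T j)) j) 45 &&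
  Nat.beq (T 0) (el 15)

theorem tl_ok : tlOK = true := by decide +kernel

def cmOK : Bool :=
  allBelow (fun i => allBelow (fun j => cmB i j == cmM (T i) (T j)) 45) 45

theorem cm_ok : cmOK = true := by decide +kernel

def graphOK : Bool :=
  allBelow (fun i =>
    Nat.beq ((List.range 45).filter fun j => !Nat.beq j i && cmB j i).length 12 &&
    allBelow (fun j =>
      bif cmB i j then
        Nat.beq i j || (List.range 45).any fun u => cmB u i && !cmB u j
      else Nat.beq ((List.range 45).filter fun u => cmB u i && cmB u j).length 3) 45) 45

theorem graph_ok : graphOK = true := by decide +kernel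

/-- five mutually commuting meet the neighbourhood of every one -/
def gqOK : Bool :=
  allBelow (fun b => allBelow (fun a => !cmB a b || allBelow (fun d =>
    !(Nat.blt b d && cmB a d && cmB b d) || allBelow (fun e =>
      !(Nat.blt d e && cmB a e && cmB b e && cmB d e) || allBelow (fun f =>
        !(Nat.blt e f && cmB a f && cmB b f && cmB d f && cmB e f) ||
        allBelow (fun u => cmB u a || cmB u b || cmB u d || cmB u e || cmB u f) 45) 45) 45) 45) b) 45

theorem gq_ok : gqOK = true := by decide +kernel

/-- the product of a commuting pair determines it -/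
def prodOK : Bool :=
  allBelow (fun j => allBelow (fun i => !cmB i j ||
    let p := mulM (T i) (T j)
    (match prodRow.find? (fun r => Nat.beq r.1 p) with
      | some r => Nat.beq r.2.1 i && Nat.beq r.2.2 j
      | none => false) && allBelow (fun k => !Nat.beq p (T k)) 45) j) 45

theorem prod_ok : prodOK = true := by decide +kernel

def braidOK : Bool :=
  allBelow (fun j => allBelow (fun i => cmB i j ||
    Nat.beq (mulM (mulM (T i) (T j)) (T i)) (mulM (mulM (T j) (T i)) (T j))) 45) 45

theorem braid_ok : braidOK = true := by decide +kernel

/-- every involution of the Sylow subgroup is conjugate to the transvection -/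
def cjOK : Bool :=
  allBelow (fun i => Nat.beq i 0 || !Nat.beq (tab i i) 0 || cjWord.any fun r => Nat.beq r.1 i &&
    letters r.2 && Nat.beq (mulM (word r.2) (el 15)) (mulM (el i) (word r.2))) 128

theorem cj_ok : cjOK = true := by decide +kernel

/-- the central involution of the Sylow subgroup -/
def centralOK : Bool :=
  allBelow (fun j => Nat.beq (tab 11 j) (tab j 11)) 128 && Nat.beq (tab 11 11) 0

theorem central_ok : centralOK = true := by decide +kernel

/-- the three elements of order three -/
def three (k : ℕ) : ℕ := word (threeWord.getD k [])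

/-- the group they generate -/
def l27 : List ℕ :=
  [idM, three 0, mulM (three 0) (three 0)].flatMap fun a =>
    [idM, three 1, mulM (three 1) (three 1)].flatMap fun b =>
      [idM, three 2, mulM (three 2) (three 2)].map fun c => mulM a (mulM b c)

def threeOK : Bool :=
  allBelow (fun k => letters (threeWord.getD k [])) 3 && Nat.beq l27.length 27 && decide l27.Nodup &&
    l27.all (fun x => cmM x (el 15) && Nat.blt x (2 ^ 72) && l27.all fun y => memB (mulM x y) l27) &&
    memB idM l27

theorem three_ok : threeOK = true := by decide +kernel

/-- the range of the commutator with the transvection -/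
def rngOK : Bool :=
  allBelow (fun c => memB (dlt c) rng) 4096 &&
    rng.all fun a => Nat.blt a 4096 && (List.range 4096).any fun c => Nat.beq (dlt c) a

theorem rng_ok : rngOK = true := by decide +kernel

/-- the members of the small orbit in the range are conjugate to the vector -/
def mvOK : Bool :=
  rng.all (fun a => !memB a small || mvWord.any fun r => Nat.beq r.1 a && letters r.2 &&
    cmM (word r.2) (el 15) && Nat.beq (app (word r.2) 5) a) &&
  Nat.ble (rng.filter fun a => memB a small).length 6 && memB 5 rng && memB 10 rng

theorem mv_ok : mvOK = true := by decide +kernel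

/-- every neighbour of the transvection is conjugate to one of five -/
def nbOK : Bool :=
  allBelow (fun j => !cmB j 0 || nbWord.any fun r => Nat.beq r.1 j &&
    memB r.2.1 [15, 59, 63, 96, 107] && letters r.2.2 && Nat.beq (app (word r.2.2) 5) 5 &&
    cmM (word r.2.2) (el 15) &&
    Nat.beq (mulM (word r.2.2) (el r.2.1)) (mulM (T j) (word r.2.2))) 45

theorem nb_ok : nbOK = true := by decide +kernel

theorem five_mem : [15, 59, 63, 96, 107].all (fun k => memB (el k) tl) = true := by decide +kernel

/-- ranges of different transvections meet in the line, inside the perpendicular -/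
def meetOK : Bool :=
  allBelow (fun j => rng.all fun a =>
    inPerp (app (W j) a) && (Nat.beq j 0 || !memB (app (W j) a) rng || inLine (app (W j) a))) 45

theorem meet_ok : meetOK = true := by decide +kernel

/-- a summand -/
def gv (g : ℕ × ℕ) : ℕ := bif Nat.blt g.1 45 then app (W g.1) g.2 else g.2

/-- reduction by the rows -/
def red (rows : List (ℕ × List (ℕ × ℕ))) (c : ℕ) : ℕ :=
  rows.foldl (fun c r => bif Nat.testBit c r.1 then r.2.foldl (fun c g => Nat.xor c (gv g)) c else c) c

def spanOK : Bool :=
  allBelow (fun c => !inPerp c || Nat.beq (red perpRow c) 0) 4096 &&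
    perpRow.all fun r => r.2.all fun g =>
      bif Nat.blt g.1 45 then memB g.2 rng else inLine g.2

theorem span_ok : spanOK = true := by decide +kernel

end Cfsg.Agent.LFU62StabCheck58
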