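import Mathlib
import Cfsg.Agent.Lib.LFU62Local19
import Cfsg.Agent.Lib.LFU62StabCheck58

/-!
The stabiliser of the vector of weight two in the model: its transvections form the commuting graph of
`U₄(2)`, generate it, and their commutator ranges span the perpendicular of the line.
-/

set_option autoImplicit false
set_option linter.unusedSectionVars false
set_option linter.style.haveILetI false
set_option maxHeartbeats 800000
set_option maxRecDepth 100000

namespace Cfsg.Agent.LFU62Stab58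

open Cfsg Subgroup Cfsg.Agent.U62Mon93 Cfsg.Agent.U62Existence93 Cfsg.Agent.OrthUnitaryHerm
open Cfsg.Agent.LFModel89 Cfsg.Agent.LFSetting89 Cfsg.Agent.LFSylow89 Cfsg.Agent.LFSmallStab18
open Cfsg.Agent.LFMat89 Cfsg.Agent.LFElem89 Cfsg.Agent.LFOrbitA89 Cfsg.Agent.LFOrbits18
open Cfsg.Agent.LFU62Defs19 Cfsg.Agent.LFU62Local19
open Cfsg.Agent.LFData89 (sylEl)
open Cfsg.Agent.LFCheck89 (el app mulM word idM allBelow_spec tab qpar)
open Cfsg.Agent.LFU62StabData58 Cfsg.Agent.LFU62StabCheck58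
open Cfsg.Agent.LFStabCheck18 (memB memB_iff small)
open Cfsg.Agent.LFBlock18 (stab blkHom blk_bijective)
open scoped Matrix

attribute [local irreducible] LFU62StabCheck58.three

universe u

theorem orbit_mul {X : Type*} [Group X] [Finite X] (M : Subgroup X) (t : X) :
    {x | ∃ g ∈ M, g * t * g⁻¹ = x}.ncard *
      Nat.card ↥(M ⊓ Subgroup.centralizer ({t} : Set X)) = Nat.card M := by
  letI : MulAction M X :=
    { smul := fun g x => (g : X) * x * (g : X)⁻¹
      one_smul := fun x => show (1 : X) * x * (1 : X)⁻¹ = x by simp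
      mul_smul := fun g g' x => show (g * g' : X) * x * (g * g' : X)⁻¹ =
        (g : X) * ((g' : X) * x * (g' : X)⁻¹) * (g : X)⁻¹ by group }
  have h1 : {x | ∃ g ∈ M, g * t * g⁻¹ = x} = MulAction.orbit M t := Set.ext fun x =>
    ⟨fun ⟨g, hg, e⟩ => ⟨⟨g, hg⟩, e⟩, fun ⟨g, e⟩ => ⟨g, g.2, e⟩⟩
  have h2 : Nat.card ↥(M ⊓ Subgroup.centralizer ({t} : Set X)) =
      Nat.card (MulAction.stabilizer M t) :=
    Nat.card_congr
      { toFun := fun g => ⟨⟨g, g.2.1⟩, show (g : X) * t * (g : X)⁻¹ = t by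
          rw [Subgroup.mem_centralizer_singleton_iff.1 g.2.2, mul_inv_cancel_right]⟩
        invFun := fun g => ⟨g.1, g.1.2, Subgroup.mem_centralizer_singleton_iff.2
          (mul_inv_eq_iff_eq_mul.1 (show (g.1 : X) * t * (g.1 : X)⁻¹ = t from g.2))⟩
        left_inv := fun _ => rfl
        right_inv := fun _ => rfl }
  rw [h1, h2, ← Nat.card_coe_set_eq, Nat.card_congr (MulAction.orbitEquivQuotientStabilizer M t),
    ← Subgroup.card_eq_card_quotient_mul_card_subgroup]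

variable {G : Type u} [Group G] [Finite G] {z : G} {Q : Subgroup (centralizer ({z} : Set G))}
  [Q.Normal] {V : Type u} [AddCommGroup V] {zc : centralizer ({z} : Set G)}
  {π : centralizer ({z} : Set G) → V} {ρ : centralizer ({z} : Set G) ⧸ Q →* AddMonoid.End V}
  {q : V → ZMod 2} {n : centralizer ({z} : Set G) ⧸ Q}
  {Mb : Subgroup (centralizer ({z} : Set G) ⧸ Q)}
  {F : Type} [Field F] [Fintype F] {s : F} {h : S4 s} {ν : (Fin 6 → F) → V}
  {Φ : K0 h →* centralizer ({z} : Set G) ⧸ Q}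

/-- An element acts as a code. -/
def Rep (ρ : centralizer ({z} : Set G) ⧸ Q →* AddMonoid.End V) (s : F) (ν : (Fin 6 → F) → V)
    (x : centralizer ({z} : Set G) ⧸ Q) (M : ℕ) : Prop :=
  ∀ v, op ρ x (ν v) = ν (matOf s M *ᵥ v)

variable (D : Data z Q zc π ρ q n Mb) (C : Coord h ρ q n Mb ν Φ)

section
include D C

theorem xorv (a b : ℕ) : nc s ν (Nat.xor a b) = nc s ν a + nc s ν b := by
  rw [nc, nc, nc, vec_xor h, C.add]

theorem rep_nc {x : centralizer ({z} : Set G) ⧸ Q} {M : ℕ} (hx : Rep ρ s ν x M) (c : ℕ) :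
    op ρ x (nc s ν c) = nc s ν (app M c) := by
  rw [nc, hx, nc, vec_app h]

theorem rep_ext {x y : centralizer ({z} : Set G) ⧸ Q} {M : ℕ} (hx : Rep ρ s ν x M)
    (hy : Rep ρ s ν y M) : x = y :=
  ext_op (hyp D) C fun v => (hx v).trans (hy v).symm

theorem rep_code {x : centralizer ({z} : Set G) ⧸ Q} {a b : ℕ} (ha : a < 2 ^ 72) (hb : b < 2 ^ 72)
    (hx : Rep ρ s ν x a) (hy : Rep ρ s ν x b) : a = b :=
  matOf_inj h ha hb (Matrix.ext_of_mulVec_single fun _ => C.bij.1 ((hx _).symm.trans (hy _)))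

theorem rep_mul {x y : centralizer ({z} : Set G) ⧸ Q} {a b : ℕ} (hx : Rep ρ s ν x a)
    (hy : Rep ρ s ν y b) : Rep ρ s ν (x * y) (mulM a b) := fun v => by
  rw [rho_mul, hy, hx, matOf_mul h, Matrix.mulVec_mulVec]

theorem rep_one : Rep ρ s ν (1 : centralizer ({z} : Set G) ⧸ Q) idM := fun v => by
  rw [rho_one, matOf_id h, Matrix.one_mulVec]

theorem rep_tau {i : ℕ} (hi : i < 128) : Rep ρ s ν (tau h Φ i) (el i) := op_tau (hyp D) C hi

theorem rep_word {w : List ℕ} (hw : letters w = true) :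
    ∃ x ∈ Mb, Rep ρ s ν x (word w) := by
  obtain ⟨g, hg, e⟩ := word_mem h w hw
  refine ⟨Φ ⟨g, hg⟩, phi_mem C _, fun v => ?_⟩
  rw [C.act]
  exact congrArg (fun A => ν (A *ᵥ v)) e

theorem rep_conj {g x : centralizer ({z} : Set G) ⧸ Q} {W A B : ℕ} (hg : Rep ρ s ν g W)
    (hx : Rep ρ s ν x A) (e : mulM W A = mulM B W) : Rep ρ s ν (g * x * g⁻¹) B := fun v => by
  obtain ⟨u, hu⟩ := C.bij.2 (op ρ g⁻¹ (ν v))
  have hv : v = matOf s W *ᵥ u := C.bij.1 (by rw [← hg, hu, ← rho_mul, mul_inv_cancel, rho_one])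
  rw [rho_mul, ← hu, rho_mul, hx, hg, hv, Matrix.mulVec_mulVec, Matrix.mulVec_mulVec, ← matOf_mul h,
    ← matOf_mul h, e]

theorem rep_comm {x y : centralizer ({z} : Set G) ⧸ Q} {a b : ℕ} (hx : Rep ρ s ν x a)
    (hy : Rep ρ s ν y b) : x * y = y * x ↔ cmM a b = true := by
  rw [cmM, Nat.beq_eq]
  constructor
  · intro e
    refine rep_code D C (mulM_lt _ _) (mulM_lt _ _) (rep_mul D C hx hy) ?_
    rw [e]
    exact rep_mul D C hy hx
  · intro e
    refine rep_ext D C (rep_mul D C hx hy) ?_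
    rw [e]
    exact rep_mul D C hy hx

theorem tl_spec {j : ℕ} (hj : j < 45) :
    (letters (tw.getD j []) = true ∧ word (tw.getD j []) = W j ∧ app (W j) 5 = 5 ∧
      mulM (W j) (el 15) = mulM (T j) (W j) ∧ T j < 2 ^ 72 ∧ mulM (T j) (T j) = idM) ∧
      ∀ i < j, T i ≠ T j := by
  have h1 := tl_ok
  rw [tlOK, Bool.and_eq_true] at h1
  have h2 := allBelow_spec h1.1 j hj
  simp only [Bool.and_eq_true, Nat.beq_eq, Nat.blt_eq] at h2
  obtain ⟨⟨⟨⟨⟨⟨a, b⟩, c⟩, d⟩, e⟩, f⟩, g⟩ := h2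
  refine ⟨⟨a, b, c, d, e, f⟩, fun i hi e' => ?_⟩
  have := allBelow_spec g i hi
  simp [e'] at this

theorem exists_tl {j : ℕ} (hj : j < 45) : ∃ g ∈ St ρ s ν Mb, Rep ρ s ν g (W j) ∧
    Rep ρ s ν (g * tauE h Φ * g⁻¹) (T j) := by
  obtain ⟨⟨a, b, c, d, -, -⟩, -⟩ := tl_spec D C hj
  obtain ⟨g, hg, hr⟩ := rep_word D C a
  rw [b] at hr
  refine ⟨g, ⟨hg, ?_⟩, hr, rep_conj D C hr (rep_tau D C (by norm_num)) d⟩
  show op ρ g (nc s ν 5) = nc s ν 5
  rw [rep_nc D C hr, c]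

theorem tau_ne_one : tauE h Φ ≠ 1 := fun e => by
  have := tau_inj (hyp D) C (by norm_num : 15 < 128) (by norm_num : 0 < 128)
    ((show tau h Φ 15 = 1 from e).trans (tau_zero (hyp D) C).symm)
  omega

theorem tau_sq : tauE h Φ * tauE h Φ = 1 := by
  rw [tauE, (tau_mul (hyp D) C (by norm_num) (by norm_num)).2, show tab 15 15 = 0 by decide +kernel,
    tau_zero (hyp D) C]

theorem conj_tauE : ∀ x ∈ Mb, x * x = 1 → x ≠ 1 → ∃ g ∈ Mb, g * x * g⁻¹ = tauE h Φ := by
  intro x hx hxx hx1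
  have hP : IsPGroup 2 (Subgroup.zpowers x) := by
    rintro ⟨y, hy⟩
    obtain ⟨k, rfl⟩ := Subgroup.mem_zpowers_iff.1 hy
    refine ⟨1, Subtype.ext ?_⟩
    show (x ^ k) ^ (2 ^ 1) = 1
    rw [pow_one, pow_two, ← (Commute.refl x).mul_zpow, hxx, one_zpow]
  obtain ⟨g, hg, hle⟩ := exists_conj_T0 (hyp D) C (Subgroup.zpowers_le.2 hx) hP
  obtain ⟨i, hi, hgi⟩ := hle (mem_cj_of (Subgroup.mem_zpowers x))
  have hi0 : i ≠ 0 := by
    rintro rfl
    rw [tau_zero (hyp D) C] at hgi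
    exact hx1 (conj_eq_one_iff.1 hgi)
  have hii : tab i i = 0 := tau_inj (hyp D) C (tau_mul (hyp D) C hi hi).1 (by norm_num) (by
    rw [← (tau_mul (hyp D) C hi hi).2, tau_zero (hyp D) C, ← hgi,
      show g * x * g⁻¹ * (g * x * g⁻¹) = g * (x * x) * g⁻¹ by group, hxx]
    group)
  have h1 := allBelow_spec cj_ok i hi
  rw [Bool.or_eq_true, Bool.or_eq_true, Nat.beq_eq, hii, List.any_eq_true] at h1
  obtain ⟨r, -, hr1⟩ := h1.resolve_left fun e => e.elim hi0 (by decide)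
  rw [Bool.and_eq_true, Bool.and_eq_true, Nat.beq_eq, Nat.beq_eq] at hr1
  obtain ⟨⟨-, hl⟩, he⟩ := hr1
  obtain ⟨c, hc, hr⟩ := rep_word D C hl
  have hci : c * tauE h Φ * c⁻¹ = tau h Φ i :=
    rep_ext D C (rep_conj D C hr (rep_tau D C (by norm_num)) he) (rep_tau D C hi)
  refine ⟨c⁻¹ * g, mul_mem (inv_mem hc) hg, ?_⟩
  rw [show c⁻¹ * g * x * (c⁻¹ * g)⁻¹ = c⁻¹ * (g * x * g⁻¹) * c by group, hgi, ← hci]
  group

theorem rng_tauE {v : V} : v ∈ (ee ρ (tauE h Φ)).range ↔ ∃ a ∈ rng, v = nc s ν a := by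
  have hd : ∀ c, ee ρ (tauE h Φ) (nc s ν c) = nc s ν (LFU62PerpData19.dlt c) := fun c => by
    rw [ee_apply, tauE, op_tau_nc (hyp D) C (by norm_num : 15 < 128), LFU62PerpData19.dlt,
      xorv D C]
  have h1 := rng_ok
  simp only [rngOK, Bool.and_eq_true, List.all_eq_true, List.any_eq_true, Nat.beq_eq,
    Nat.blt_eq] at h1
  constructor
  · rintro ⟨u, rfl⟩
    obtain ⟨c, hc, rfl⟩ := exists_nc (hyp D) C u
    exact ⟨_, memB_iff.1 (allBelow_spec h1.1 c hc), hd c⟩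
  · rintro ⟨a, ha, rfl⟩
    obtain ⟨-, c, -, e⟩ := h1.2 a ha
    exact ⟨nc s ν c, by rw [hd, e]⟩

theorem range_conj {g x : centralizer ({z} : Set G) ⧸ Q} {v : V} (hv : v ∈ (ee ρ x).range) :
    op ρ g v ∈ (ee ρ (g * x * g⁻¹)).range := by
  obtain ⟨w, rfl⟩ := hv
  refine ⟨op ρ g w, ?_⟩
  rw [ee_apply, ee_apply, map_add, ← rho_mul, ← rho_mul, inv_mul_cancel_right]

theorem small_range {g : centralizer ({z} : Set G) ⧸ Q} (hg : g ∈ Mb)
    (hr : op ρ g (nc s ν 5) ∈ (ee ρ (tauE h Φ)).range) :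
    ∃ a ∈ rng.filter (fun a => memB a small), op ρ g (nc s ν 5) = nc s ν a := by
  obtain ⟨a, ha, e⟩ := (rng_tauE D C).1 hr
  obtain ⟨c, hc, e'⟩ := (small_orbit D C _).2 ⟨g, hg, rfl⟩
  have h1 := rng_ok
  simp only [rngOK, Bool.and_eq_true, List.all_eq_true, Nat.blt_eq] at h1
  have : a = c := nc_inj (hyp D) C (h1.2 a ha).1 (small_lt D C c hc) (e.symm.trans e')
  exact ⟨a, List.mem_filter.2 ⟨ha, memB_iff.2 (this ▸ hc)⟩, e⟩

/-- The centralizer of the transvection in the subgroup of index two is big. -/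
theorem card_cent :
    3456 ∣ Nat.card ↥(Mb ⊓ Subgroup.centralizer ({tauE h Φ} : Set (centralizer ({z} : Set G) ⧸ Q))) := by
  classical
  set CC := Mb ⊓ Subgroup.centralizer ({tauE h Φ} : Set (centralizer ({z} : Set G) ⧸ Q)) with hCC
  -- the power of two
  have hce := central_ok
  rw [centralOK, Bool.and_eq_true, Nat.beq_eq] at hce
  have h11 : tau h Φ 11 * tau h Φ 11 = 1 := by
    rw [(tau_mul (hyp D) C (by norm_num) (by norm_num)).2, hce.2, tau_zero (hyp D) C]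
  have h11' : tau h Φ 11 ≠ 1 := fun e => by
    have := tau_inj (hyp D) C (by norm_num : 11 < 128) (by norm_num : 0 < 128)
      (e.trans (tau_zero (hyp D) C).symm)
    omega
  obtain ⟨g, hg, hge⟩ := conj_tauE D C _ (tau_mem (hyp D) C (by norm_num)) h11 h11'
  have h2 : 128 ∣ Nat.card CC := by
    rw [← card_T0 (hyp D) C, ← card_cj g]
    refine Subgroup.card_dvd_of_le ?_
    rintro _ ⟨_, ⟨j, hj, rfl⟩, rfl⟩
    refine ⟨Mb.mul_mem (Mb.mul_mem hg (tau_mem (hyp D) C hj)) (Mb.inv_mem hg),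
      Subgroup.mem_centralizer_singleton_iff.2 ?_⟩
    show g * tau h Φ j * g⁻¹ * tauE h Φ = tauE h Φ * (g * tau h Φ j * g⁻¹)
    have e := allBelow_spec hce.1 j hj
    rw [Nat.beq_eq] at e
    have hcm : Commute (tau h Φ j) (tau h Φ 11) := by
      show _ * _ = _ * _
      rw [(tau_mul (hyp D) C hj (by norm_num)).2, (tau_mul (hyp D) C (by norm_num) hj).2, e]
    rw [← hge]
    exact (U62RecogSetup19.commute_cj g hcm).eq
  -- the power of three
  have h3 := three_ok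
  simp only [threeOK, Bool.and_eq_true, List.all_eq_true, Nat.blt_eq, Nat.beq_eq,
    decide_eq_true_eq] at h3
  obtain ⟨⟨⟨⟨hl, hlen⟩, hnd⟩, hall⟩, hone⟩ := h3
  let S : Submonoid (centralizer ({z} : Set G) ⧸ Q) :=
    { carrier := {x | x ∈ CC ∧ ∃ M ∈ l27, Rep ρ s ν x M}
      one_mem' := ⟨one_mem _, idM, memB_iff.1 hone, rep_one D C⟩
      mul_mem' := fun {a b} ⟨ha, A, hA, hrA⟩ ⟨hb, B, hB, hrB⟩ =>
        ⟨mul_mem ha hb, mulM A B, memB_iff.1 ((hall A hA).2 B hB), rep_mul D C hrA hrB⟩ }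
  have hinv : ∀ a ∈ S, a⁻¹ ∈ S := fun a ha => by
    have e : a⁻¹ = a ^ (orderOf a - 1) := by
      rw [inv_eq_iff_mul_eq_one, ← pow_succ', Nat.sub_add_cancel (orderOf_pos a), pow_orderOf_eq_one]
    rw [e]
    exact S.pow_mem ha _
  let P : Subgroup (centralizer ({z} : Set G) ⧸ Q) :=
    { S with inv_mem' := fun {a} ha => hinv a ha }
  have hex : ∀ k < 3, ∃ x ∈ Mb, Rep ρ s ν x (three k) := fun k hk => by
    unfold three
    exact rep_word D C (allBelow_spec hl k hk)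
  have hmem : ∀ M ∈ l27, ∃ x ∈ P, Rep ρ s ν x M := by
    intro M hM
    suffices hh : ∃ x ∈ Mb, Rep ρ s ν x M by
      obtain ⟨x, hx, hr⟩ := hh
      exact ⟨x, ⟨⟨hx, Subgroup.mem_centralizer_singleton_iff.2
        ((rep_comm D C hr (rep_tau D C (by norm_num))).2 (hall M hM).1.1)⟩, M, hM, hr⟩, hr⟩
    have hpw : ∀ k < 3, ∀ M ∈ [idM, three k, mulM (three k) (three k)],
        ∃ x ∈ Mb, Rep ρ s ν x M := fun k hk => by
      obtain ⟨x, hx, hr⟩ := hex k hk
      refine List.forall_mem_cons.2 ⟨⟨1, Mb.one_mem, rep_one D C⟩, List.forall_mem_cons.2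
        ⟨⟨x, hx, hr⟩, List.forall_mem_cons.2 ⟨⟨x * x, Mb.mul_mem hx hx, rep_mul D C hr hr⟩,
          fun M hM => absurd hM List.not_mem_nil⟩⟩⟩
    simp only [l27, List.mem_flatMap, List.mem_map] at hM
    obtain ⟨a, ha, b, hb, c, hc, eM⟩ := hM
    obtain ⟨x, hx, hrx⟩ := hpw 0 (by norm_num) a ha
    obtain ⟨y, hy, hry⟩ := hpw 1 (by norm_num) b hb
    obtain ⟨w, hw, hrw⟩ := hpw 2 (by norm_num) c hc
    rw [← eM]
    exact ⟨_, Mb.mul_mem hx (Mb.mul_mem hy hw), rep_mul D C hrx (rep_mul D C hry hrw)⟩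
  choose f hfP hfr using hmem
  have h27 : Nat.card P = 27 := by
    rw [← hlen, ← List.toFinset_card_of_nodup hnd, ← Nat.card_eq_finsetCard]
    refine (Nat.card_congr (Equiv.ofBijective (fun M : l27.toFinset =>
      (⟨f M.1 (List.mem_toFinset.1 M.2), hfP _ _⟩ : P)) ⟨fun a b e => ?_, fun x => ?_⟩)).symm
    · have e' : f a.1 (List.mem_toFinset.1 a.2) = f b.1 (List.mem_toFinset.1 b.2) :=
        congrArg Subtype.val e
      have hb := hfr b.1 (List.mem_toFinset.1 b.2)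
      rw [← e'] at hb
      exact Subtype.ext (rep_code D C (hall _ (List.mem_toFinset.1 a.2)).1.2
        (hall _ (List.mem_toFinset.1 b.2)).1.2 (hfr _ _) hb)
    · obtain ⟨-, M, hM, hr⟩ := x.2
      exact ⟨⟨M, List.mem_toFinset.2 hM⟩, Subtype.ext (rep_ext D C (hfr _ _) hr)⟩
  have h27' : 27 ∣ Nat.card CC := h27 ▸ Subgroup.card_dvd_of_le (fun x hx => hx.1)
  exact (Nat.Coprime.mul_dvd_of_dvd_of_dvd (by norm_num : Nat.Coprime 128 27) h2 h27')

theorem card_St : Nat.card (St ρ s ν Mb) = 25920 := card_stab_five D C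

theorem five_range : nc s ν 5 ∈ (ee ρ (tauE h Φ)).range := by
  have := mv_ok
  simp only [mvOK, Bool.and_eq_true] at this
  exact (rng_tauE D C).2 ⟨5, memB_iff.1 this.1.2, rfl⟩

theorem card_TT_le : (TT ρ ν Mb h Φ).ncard ≤ 45 := by
  classical
  have hC := card_cent D C
  set CC := Mb ⊓ Subgroup.centralizer ({tauE h Φ} : Set (centralizer ({z} : Set G) ⧸ Q)) with hCC
  have horb := orbit_mul_stab ρ CC (nc s ν 5)
  have hle : Nat.card {w : V // ∃ g ∈ CC, op ρ g (nc s ν 5) = w} ≤ 6 := by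
    have hm := mv_ok
    simp only [mvOK, Bool.and_eq_true] at hm
    let L := (rng.filter fun a => memB a small).toFinset
    have hsub : {w : V | ∃ g ∈ CC, op ρ g (nc s ν 5) = w} ⊆ nc s ν '' (L : Set ℕ) := by
      rintro w ⟨g, hg, rfl⟩
      have hr := range_conj D C (g := g) (five_range D C)
      rw [Subgroup.mem_centralizer_singleton_iff.1 hg.2, mul_inv_cancel_right] at hr
      obtain ⟨a, ha, e⟩ := small_range D C hg.1 hr
      exact ⟨a, List.mem_toFinset.2 ha, e.symm⟩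
    calc Nat.card {w : V // ∃ g ∈ CC, op ρ g (nc s ν 5) = w}
        = {w : V | ∃ g ∈ CC, op ρ g (nc s ν 5) = w}.ncard := Nat.card_coe_set_eq _
      _ ≤ (nc s ν '' (L : Set ℕ)).ncard := Set.ncard_le_ncard hsub (Set.toFinite _)
      _ ≤ L.card := (Set.ncard_image_le (Set.toFinite _)).trans (Set.ncard_coe_finset L).le
      _ ≤ 6 := (List.toFinset_card_le _).trans (Nat.le_of_ble_eq_true hm.1.1.2)
  have hst : Nat.card {g // g ∈ CC ∧ op ρ g (nc s ν 5) = nc s ν 5} =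
      Nat.card ↥(St ρ s ν Mb ⊓
        Subgroup.centralizer ({tauE h Φ} : Set (centralizer ({z} : Set G) ⧸ Q))) :=
    Nat.card_congr (Equiv.subtypeEquivRight fun g =>
      ⟨fun ⟨⟨a, b⟩, c⟩ => ⟨⟨a, c⟩, b⟩, fun ⟨⟨a, c⟩, b⟩ => ⟨⟨a, b⟩, c⟩⟩)
  rw [hst] at horb
  have hTT := orbit_mul (St ρ s ν Mb) (tauE h Φ)
  rw [card_St D C] at hTT
  set k := Nat.card ↥(St ρ s ν Mb ⊓
    Subgroup.centralizer ({tauE h Φ} : Set (centralizer ({z} : Set G) ⧸ Q))) with hk
  have hpos : 0 < Nat.card CC := Nat.card_pos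
  have hle' := Nat.le_of_dvd hpos hC
  have hmul : Nat.card CC ≤ 6 * k := horb ▸ Nat.mul_le_mul_right k hle
  have hTT' : (TT ρ ν Mb h Φ).ncard * k = 25920 := hTT
  by_contra hlt
  push Not at hlt
  have hge := Nat.mul_le_mul hlt (show 576 ≤ k by omega)
  omega

open Classical in
/-- The transvections, numbered. -/
noncomputable def tt (D : Data z Q zc π ρ q n Mb) (C : Coord h ρ q n Mb ν Φ) (j : ℕ) :
    centralizer ({z} : Set G) ⧸ Q :=
  if hj : j < 45 then (exists_tl D C hj).choose * tauE h Φ * (exists_tl D C hj).choose⁻¹ else 1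

theorem tt_spec {j : ℕ} (hj : j < 45) :
    tt D C j ∈ TT ρ ν Mb h Φ ∧ Rep ρ s ν (tt D C j) (T j) := by
  rw [tt, dif_pos hj]
  obtain ⟨a, -, b⟩ := (exists_tl D C hj).choose_spec
  exact ⟨⟨_, a, rfl⟩, b⟩

theorem tt_inj {i j : ℕ} (hi : i < 45) (hj : j < 45) (e : tt D C i = tt D C j) : i = j := by
  have h1 := rep_code D C (tl_spec D C hi).1.2.2.2.2.1 (tl_spec D C hj).1.2.2.2.2.1
    (tt_spec D C hi).2 (e ▸ (tt_spec D C hj).2)
  rcases Nat.lt_trichotomy i j with hl | hl | hl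
  · exact absurd h1 ((tl_spec D C hj).2 i hl)
  · exact hl
  · exact absurd h1.symm ((tl_spec D C hi).2 j hl)

theorem TT_eq : TT ρ ν Mb h Φ = (fun j => tt D C j) '' (Finset.range 45 : Set ℕ) := by
  refine (Set.eq_of_subset_of_ncard_le ?_ ?_ (Set.toFinite _)).symm
  · rintro _ ⟨j, hj, rfl⟩
    exact (tt_spec D C (Finset.mem_range.1 hj)).1
  · rw [Set.InjOn.ncard_image (fun a ha b hb e =>
      tt_inj D C (Finset.mem_range.1 ha) (Finset.mem_range.1 hb) e), Set.ncard_coe_finset,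
      Finset.card_range]
    exact card_TT_le D C

theorem mem_tl {t : centralizer ({z} : Set G) ⧸ Q} :
    t ∈ TT ρ ν Mb h Φ ↔ ∃ j < 45, t = tt D C j := by
  rw [TT_eq D C]
  constructor
  · rintro ⟨j, hj, rfl⟩; exact ⟨j, Finset.mem_range.1 hj, rfl⟩
  · rintro ⟨j, hj, rfl⟩; exact ⟨j, Finset.mem_range.2 hj, rfl⟩

theorem tt_zero : tt D C 0 = tauE h Φ := by
  have h1 := tl_ok
  rw [tlOK, Bool.and_eq_true, Nat.beq_eq] at h1
  exact rep_ext D C (tt_spec D C (by norm_num)).2 (h1.2.symm ▸ rep_tau D C (by norm_num : 15 < 128))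

theorem cm_iff {i j : ℕ} (hi : i < 45) (hj : j < 45) :
    Commute (tt D C i) (tt D C j) ↔ cmB i j = true := by
  have h1 := allBelow_spec (allBelow_spec cm_ok i hi) j hj
  rw [beq_iff_eq] at h1
  rw [h1]
  exact rep_comm D C (tt_spec D C hi).2 (tt_spec D C hj).2

theorem ncard_TT (p : ℕ → Bool) (R : centralizer ({z} : Set G) ⧸ Q → Prop)
    (hp : ∀ u < 45, R (tt D C u) ↔ p u = true) :
    {w | w ∈ TT ρ ν Mb h Φ ∧ R w}.ncard = ((List.range 45).filter p).length := by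
  classical
  have e : {w | w ∈ TT ρ ν Mb h Φ ∧ R w} =
      (fun j => tt D C j) '' (((List.range 45).filter p).toFinset : Set ℕ) := by
    ext w
    simp only [Set.mem_ofPred_eq, Set.mem_image, Finset.mem_coe, List.mem_toFinset, List.mem_filter,
      List.mem_range]
    constructor
    · rintro ⟨hw, hR⟩
      obtain ⟨u, hu, rfl⟩ := (mem_tl D C).1 hw
      exact ⟨u, ⟨hu, (hp u hu).1 hR⟩, rfl⟩
    · rintro ⟨u, ⟨hu, hpu⟩, rfl⟩
      exact ⟨(tt_spec D C hu).1, (hp u hu).2 hpu⟩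
  rw [e, Set.InjOn.ncard_image (fun a ha b hb e' => by
      simp only [Finset.mem_coe, List.mem_toFinset, List.mem_filter, List.mem_range] at ha hb
      exact tt_inj D C ha.1 hb.1 e'), Set.ncard_coe_finset,
    List.toFinset_card_of_nodup (List.nodup_range.filter _)]

theorem cm_symm {i j : ℕ} (hi : i < 45) (hj : j < 45) (e : cmB i j = true) : cmB j i = true :=
  (cm_iff D C hj hi).1 ((cm_iff D C hi hj).2 e).symm

theorem prod_spec {i j : ℕ} (hi : i < 45) (hj : j < 45) (hne : i ≠ j) (hc : cmB i j = true) :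
    (∃ r, prodRow.find? (fun r => Nat.beq r.1 (mulM (T i) (T j))) = some r ∧
      ((r.2.1 = i ∧ r.2.2 = j) ∨ (r.2.1 = j ∧ r.2.2 = i))) ∧
    ∀ k < 45, mulM (T i) (T j) ≠ T k := by
  have key : ∀ i j, i < j → j < 45 → cmB i j = true →
      (∃ r, prodRow.find? (fun r => Nat.beq r.1 (mulM (T i) (T j))) = some r ∧
        r.2.1 = i ∧ r.2.2 = j) ∧ ∀ k < 45, mulM (T i) (T j) ≠ T k := by
    intro i j hij hj hc
    have h1 := allBelow_spec (allBelow_spec prod_ok j hj) i hij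
    simp only [hc, Bool.not_true, Bool.false_or, Bool.and_eq_true] at h1
    obtain ⟨h1, h2⟩ := h1
    refine ⟨?_, fun k hk e => ?_⟩
    · cases hf : prodRow.find? (fun r => Nat.beq r.1 (mulM (T i) (T j))) with
      | none => rw [hf] at h1; simp at h1
      | some r =>
        rw [hf] at h1
        simp only [Bool.and_eq_true, Nat.beq_eq] at h1
        exact ⟨r, rfl, h1⟩
    · have := allBelow_spec h2 k hk
      simp [e] at this
  rcases Nat.lt_or_gt_of_ne hne with hl | hl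
  · obtain ⟨⟨r, a, b⟩, c⟩ := key i j hl hj hc
    exact ⟨⟨r, a, Or.inl b⟩, c⟩
  · obtain ⟨⟨r, a, b⟩, c⟩ := key j i hl hi (cm_symm D C hi hj hc)
    have h1 := allBelow_spec (allBelow_spec cm_ok i hi) j hj
    rw [beq_iff_eq, hc] at h1
    have e : mulM (T i) (T j) = mulM (T j) (T i) := Nat.eq_of_beq_eq_true h1.symm
    rw [e]
    exact ⟨⟨r, a, Or.inr b⟩, c⟩

theorem graph : U62RecogSetup19.TGraph (TT ρ ν Mb h Φ) := by
  classical
  have hg := graph_ok
  refine
    { inv := ?_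
      card := ?_
      deg := ?_
      com := ?_
      sep := ?_
      gq := ?_
      prod := ?_
      pair := ?_
      braid := ?_ }
  · rintro _ ⟨g, -, rfl⟩
    rw [show g * tauE h Φ * g⁻¹ * (g * tauE h Φ * g⁻¹) = g * (tauE h Φ * tauE h Φ) * g⁻¹ by group,
      tau_sq D C]
    group
  · rw [TT_eq D C, Set.InjOn.ncard_image (fun a ha b hb e =>
      tt_inj D C (Finset.mem_range.1 ha) (Finset.mem_range.1 hb) e), Set.ncard_coe_finset,
      Finset.card_range]
  · intro t ht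
    obtain ⟨i, hi, rfl⟩ := (mem_tl D C).1 ht
    have h1 := allBelow_spec hg i hi
    rw [Bool.and_eq_true, Nat.beq_eq] at h1
    rw [ncard_TT D C (fun j => !Nat.beq j i && cmB j i) _ (fun u hu => ?_), h1.1]
    rw [Bool.and_eq_true, cm_iff D C hu hi, Bool.not_eq_true', Bool.eq_false_iff]
    refine and_congr_left fun _ => ⟨fun a b => a ?_, fun a b => a ?_⟩
    · rw [Nat.eq_of_beq_eq_true b]
    · simp [tt_inj D C hu hi b]
  · intro a ha b hb hn
    obtain ⟨i, hi, rfl⟩ := (mem_tl D C).1 ha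
    obtain ⟨j, hj, rfl⟩ := (mem_tl D C).1 hb
    have h1 := allBelow_spec hg i hi
    rw [Bool.and_eq_true] at h1
    have h2 := allBelow_spec h1.2 j hj
    have hf : cmB i j = false := Bool.eq_false_iff.2 fun e => hn ((cm_iff D C hi hj).2 e)
    rw [hf, cond_false, Nat.beq_eq] at h2
    rw [ncard_TT D C (fun u => cmB u i && cmB u j) _ (fun u hu => ?_), h2]
    rw [Bool.and_eq_true, cm_iff D C hu hi, cm_iff D C hu hj]
  · intro a ha b hb hne hc
    obtain ⟨i, hi, rfl⟩ := (mem_tl D C).1 ha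
    obtain ⟨j, hj, rfl⟩ := (mem_tl D C).1 hb
    have h1 := allBelow_spec hg i hi
    rw [Bool.and_eq_true] at h1
    have h2 := allBelow_spec h1.2 j hj
    rw [(cm_iff D C hi hj).1 hc, cond_true, Bool.or_eq_true, Nat.beq_eq, List.any_eq_true] at h2
    obtain ⟨u, hu, h3⟩ := h2.resolve_left fun e => hne (by rw [e])
    rw [Bool.and_eq_true, Bool.not_eq_true'] at h3
    have hu' := List.mem_range.1 hu
    exact ⟨_, (tt_spec D C hu').1, (cm_iff D C hu' hi).2 h3.1, fun e => by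
      rw [(cm_iff D C hu' hj).1 e] at h3; simp at h3⟩
  · intro K hK hK5 hcm u hu
    obtain ⟨v, hv, rfl⟩ := (mem_tl D C).1 hu
    let I := (Finset.range 45).filter fun j => tt D C j ∈ K
    have hI : I.card = 5 := by
      rw [← hK5, ← Set.ncard_coe_finset,
        ← Set.InjOn.ncard_image (f := fun j => tt D C j) (s := (I : Set ℕ)) (fun a ha b hb e =>
          tt_inj D C (Finset.mem_range.1 (Finset.mem_filter.1 ha).1)
            (Finset.mem_range.1 (Finset.mem_filter.1 hb).1) e)]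
      congr 1
      ext w
      constructor
      · rintro ⟨j, hj, rfl⟩; exact (Finset.mem_filter.1 hj).2
      · intro hw
        obtain ⟨j, hj, rfl⟩ := (mem_tl D C).1 (hK hw)
        exact ⟨j, Finset.mem_filter.2 ⟨Finset.mem_range.2 hj, hw⟩, rfl⟩
    let e := I.orderEmbOfFin hI
    have hm : ∀ k, e k < 45 ∧ tt D C (e k) ∈ K := fun k => by
      have := Finset.mem_filter.1 (Finset.orderEmbOfFin_mem I hI k)
      exact ⟨Finset.mem_range.1 this.1, this.2⟩
    have hcb : ∀ a b, cmB (e a) (e b) = true := fun a b =>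
      (cm_iff D C (hm a).1 (hm b).1).1 (hcm _ (hm a).2 _ (hm b).2)
    have hlt : ∀ a b : Fin 5, a < b → Nat.blt (e a) (e b) = true := fun a b hab => by
      rw [Nat.blt_eq]; exact e.strictMono hab
    have h1 := allBelow_spec gq_ok _ (hm 1).1
    have h2 := allBelow_spec h1 _ (show e 0 < e 1 from e.strictMono (by decide))
    simp only [hcb, Bool.not_true, Bool.false_or] at h2
    have h3 := allBelow_spec h2 _ (hm 2).1
    simp only [hcb, hlt 1 2 (by decide), Bool.and_self, Bool.not_true, Bool.false_or] at h3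
    have h4 := allBelow_spec h3 _ (hm 3).1
    simp only [hcb, hlt 2 3 (by decide), Bool.and_self, Bool.not_true, Bool.false_or] at h4
    have h5 := allBelow_spec h4 _ (hm 4).1
    simp only [hcb, hlt 3 4 (by decide), Bool.and_self, Bool.not_true, Bool.false_or] at h5
    have h6 := allBelow_spec h5 v hv
    simp only [Bool.or_eq_true] at h6
    rcases h6 with (((h6 | h6) | h6) | h6) | h6 <;>
      exact ⟨_, (hm _).2, (cm_iff D C hv (hm _).1).2 h6⟩
  · intro a ha b hb hne hc hmem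
    obtain ⟨i, hi, rfl⟩ := (mem_tl D C).1 ha
    obtain ⟨j, hj, rfl⟩ := (mem_tl D C).1 hb
    obtain ⟨k, hk, e⟩ := (mem_tl D C).1 hmem
    refine (prod_spec D C hi hj (fun e' => hne (by rw [e'])) ((cm_iff D C hi hj).1 hc)).2 k hk ?_
    exact rep_code D C (mulM_lt _ _) (tl_spec D C hk).1.2.2.2.2.1
      (rep_mul D C (tt_spec D C hi).2 (tt_spec D C hj).2) (e.symm ▸ (tt_spec D C hk).2)
  · intro a ha b hb c hc d hd hab hcd cab ccd e
    obtain ⟨i, hi, rfl⟩ := (mem_tl D C).1 ha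
    obtain ⟨j, hj, rfl⟩ := (mem_tl D C).1 hb
    obtain ⟨k, hk, rfl⟩ := (mem_tl D C).1 hc
    obtain ⟨l, hl, rfl⟩ := (mem_tl D C).1 hd
    have ecode : mulM (T i) (T j) = mulM (T k) (T l) :=
      rep_code D C (mulM_lt _ _) (mulM_lt _ _)
        (rep_mul D C (tt_spec D C hi).2 (tt_spec D C hj).2)
        (e.symm ▸ rep_mul D C (tt_spec D C hk).2 (tt_spec D C hl).2)
    obtain ⟨⟨r, hr, hr'⟩, -⟩ :=
      prod_spec D C hi hj (fun e' => hab (by rw [e'])) ((cm_iff D C hi hj).1 cab)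
    obtain ⟨⟨r', hs, hs'⟩, -⟩ :=
      prod_spec D C hk hl (fun e' => hcd (by rw [e'])) ((cm_iff D C hk hl).1 ccd)
    rw [ecode, hs] at hr
    obtain rfl := Option.some.inj hr
    rcases hr' with ⟨p1, p2⟩ | ⟨p1, p2⟩ <;> rcases hs' with ⟨q1, q2⟩ | ⟨q1, q2⟩
    · exact Or.inl ⟨by rw [← p1, q1], by rw [← p2, q2]⟩
    · exact Or.inr ⟨by rw [← p1, q1], by rw [← p2, q2]⟩
    · exact Or.inr ⟨by rw [← p2, q2], by rw [← p1, q1]⟩
    · exact Or.inl ⟨by rw [← p2, q2], by rw [← p1, q1]⟩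
  · intro a ha b hb hn
    obtain ⟨i, hi, rfl⟩ := (mem_tl D C).1 ha
    obtain ⟨j, hj, rfl⟩ := (mem_tl D C).1 hb
    have h1 := allBelow_spec (allBelow_spec braid_ok j hj) i hi
    rw [Bool.eq_false_iff.2 fun e => hn ((cm_iff D C hi hj).2 e), Bool.false_or, Nat.beq_eq] at h1
    have hs := (tt_spec D C hi).2
    have ht := (tt_spec D C hj).2
    exact rep_ext D C (h1 ▸ rep_mul D C (rep_mul D C hs ht) hs)
      (rep_mul D C (rep_mul D C ht hs) ht)

theorem gen : Subgroup.closure (TT ρ ν Mb h Φ) = St ρ s ν Mb := by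
  classical
  have hcard := LFSmallStab18.card_stab D C
  haveI : IsSimpleGroup (SU 4 F 2) := by
    have hcen : Nat.card (Subgroup.center (SU 4 F 2)) = 1 := by
      rw [card_center_SU h.card' (by norm_num)]; rfl
    have hbot : Subgroup.center (SU 4 F 2) = ⊥ := Subgroup.eq_bot_of_card_eq _ hcen
    haveI : IsSimpleGroup (PSU 4 F 2) :=
      OrthUnitaryPSU.isSimpleGroup_PSU h.card' (by norm_num) (by norm_num)
    let eq4 : PSU 4 F 2 ≃* SU 4 F 2 :=
      (QuotientGroup.quotientMulEquivOfEq hbot).trans QuotientGroup.quotientBot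
    exact eq4.symm.isSimpleGroup
  haveI : IsSimpleGroup (stab h) :=
    (MulEquiv.ofBijective _ (blk_bijective h hcard)).isSimpleGroup
  let f : stab h →* centralizer ({z} : Set G) ⧸ Q := Φ.comp (stab h).subtype
  have hf : Function.Injective f := fun a b e => Subtype.ext (C.inj e)
  have hfr : f.range = St ρ s ν Mb := by
    ext x
    constructor
    · rintro ⟨g, rfl⟩
      exact ⟨phi_mem C g.1, (phi_fix D C g.1).2 g.2⟩
    · rintro ⟨hx, hfx⟩
      obtain ⟨g, rfl⟩ : x ∈ Φ.range := by rw [C.range]; exact hx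
      exact ⟨⟨g, (phi_fix D C g).1 hfx⟩, rfl⟩
  haveI : IsSimpleGroup (St ρ s ν Mb) :=
    ((MonoidHom.ofInjective hf).trans (MulEquiv.subgroupCongr hfr)).symm.isSimpleGroup
  have hle : Subgroup.closure (TT ρ ν Mb h Φ) ≤ St ρ s ν Mb := by
    refine (Subgroup.closure_le _).2 ?_
    rintro _ ⟨g, hg, rfl⟩
    refine mul_mem (mul_mem hg ⟨tau_mem (hyp D) C (by norm_num), ?_⟩) (inv_mem hg)
    show op ρ (tau h Φ 15) (nc s ν 5) = nc s ν 5
    rw [op_tau_nc (hyp D) C (by norm_num), show app (el 15) 5 = 5 by decide +kernel]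
  let N := (Subgroup.closure (TT ρ ν Mb h Φ)).subgroupOf (St ρ s ν Mb)
  haveI hN : N.Normal := by
    refine ⟨fun x hx g => ?_⟩
    rw [Subgroup.mem_subgroupOf] at hx ⊢
    have hmap : (Subgroup.closure (TT ρ ν Mb h Φ)).map
        (MulAut.conj (g : centralizer ({z} : Set G) ⧸ Q)).toMonoidHom ≤
          Subgroup.closure (TT ρ ν Mb h Φ) := by
      rw [MonoidHom.map_closure]
      refine (Subgroup.closure_le _).2 ?_
      rintro _ ⟨_, ⟨k, hk, rfl⟩, rfl⟩
      exact Subgroup.subset_closure ⟨(g : centralizer ({z} : Set G) ⧸ Q) * k, mul_mem g.2 hk, by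
        simp [mul_assoc]⟩
    exact hmap ⟨_, hx, rfl⟩
  have htE : tauE h Φ ∈ Subgroup.closure (TT ρ ν Mb h Φ) :=
    Subgroup.subset_closure ⟨1, one_mem _, by simp⟩
  rcases hN.eq_bot_or_eq_top with hb | ht
  · exfalso
    have h1 : (⟨tauE h Φ, hle htE⟩ : St ρ s ν Mb) ∈ N := Subgroup.mem_subgroupOf.2 htE
    rw [hb, Subgroup.mem_bot] at h1
    exact tau_ne_one D C (congrArg Subtype.val h1)
  · exact le_antisymm hle (Subgroup.subgroupOf_eq_top.1 ht)

theorem mem_TT : ∀ x ∈ St ρ s ν Mb, x * x = 1 → x ≠ 1 → nc s ν 5 ∈ (ee ρ x).range →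
    nc s ν 10 ∈ (ee ρ x).range → x ∈ TT ρ ν Mb h Φ := by
  intro x hx hxx hx1 h5 _
  obtain ⟨g, hg, hge⟩ := conj_tauE D C x hx.1 hxx hx1
  have hr := range_conj D C (g := g) h5
  rw [hge] at hr
  obtain ⟨a, ha, e⟩ := small_range D C hg hr
  obtain ⟨ha', has⟩ := List.mem_filter.1 ha
  have hm := mv_ok
  simp only [mvOK, Bool.and_eq_true, List.all_eq_true] at hm
  have h1 := hm.1.1.1 a ha'
  simp only [has, Bool.not_true, Bool.false_or, List.any_eq_true, Bool.and_eq_true, Nat.beq_eq] at h1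
  obtain ⟨r, -, ⟨⟨-, hl⟩, hcm⟩, ha5⟩ := h1
  obtain ⟨c, hc, hrc⟩ := rep_word D C hl
  have hct : c * tauE h Φ = tauE h Φ * c := (rep_comm D C hrc (rep_tau D C (by norm_num))).2 hcm
  have hfix : op ρ (c⁻¹ * g) (nc s ν 5) = nc s ν 5 := by
    rw [rho_mul, e, ← ha5, ← rep_nc D C hrc, ← rho_mul, inv_mul_cancel, rho_one]
  refine ⟨(c⁻¹ * g)⁻¹, (St ρ s ν Mb).inv_mem ⟨Mb.mul_mem (Mb.inv_mem hc) hg, hfix⟩, ?_⟩
  calc (c⁻¹ * g)⁻¹ * tauE h Φ * (c⁻¹ * g)⁻¹⁻¹ = g⁻¹ * (c * tauE h Φ * c⁻¹) * g := by group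
    _ = g⁻¹ * (g * x * g⁻¹) * g := by rw [hct, mul_inv_cancel_right, hge]
    _ = x := by group

theorem five_conj : ∀ k ∈ five, ∃ g ∈ St ρ s ν Mb, g * tauE h Φ * g⁻¹ = tau h Φ k := by
  intro k hk
  have hk' : k < 128 := by
    have : ∀ k ∈ five, k < 128 := by decide
    exact this k hk
  have h1 := memB_iff.1 (List.all_eq_true.1 LFU62StabCheck58.five_mem k hk)
  obtain ⟨j, hj, hje⟩ := List.mem_iff_getElem.1 h1
  have hj' : j < 45 := by
    have : tl.length = 45 := by decide +kernel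
    omega
  obtain ⟨g, hg, -, hr⟩ := exists_tl D C hj'
  refine ⟨g, hg, rep_ext D C hr ?_⟩
  rw [show LFU62StabCheck58.T j = el k by
    show tl.getD j 0 = el k
    rw [List.getD_eq_getElem?_getD, List.getElem?_eq_getElem hj, Option.getD_some, hje]]
  exact rep_tau D C hk'

theorem five_near : ∀ t ∈ TT ρ ν Mb h Φ, t * tauE h Φ = tauE h Φ * t →
    ∃ g ∈ St ρ s ν Mb, g * tauE h Φ * g⁻¹ = tauE h Φ ∧ ∃ k ∈ five, g * t * g⁻¹ = tau h Φ k := by
  intro t ht hcm
  obtain ⟨j, hj, rfl⟩ := (mem_tl D C).1 ht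
  have hc : cmB j 0 = true := (cm_iff D C hj (by norm_num)).1 (by rw [tt_zero D C]; exact hcm)
  have h1 := allBelow_spec nb_ok j hj
  simp only [hc, Bool.not_true, Bool.false_or, List.any_eq_true, Bool.and_eq_true, Nat.beq_eq] at h1
  obtain ⟨⟨j', k, w⟩, -, ⟨⟨⟨⟨-, hk⟩, hl⟩, h5⟩, hct⟩, he⟩ := h1
  have hk' : k ∈ five := memB_iff.1 hk
  have hk128 : k < 128 := by
    have : ∀ k ∈ five, k < 128 := by decide
    exact this k hk'
  obtain ⟨c, hc', hr⟩ := rep_word D C hl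
  have hctau : c * tauE h Φ = tauE h Φ * c := (rep_comm D C hr (rep_tau D C (by norm_num))).2 hct
  have hcfix : op ρ c (nc s ν 5) = nc s ν 5 := by rw [rep_nc D C hr]; exact congrArg (nc s ν) h5
  have hck : c * tau h Φ k * c⁻¹ = tt D C j :=
    rep_ext D C (rep_conj D C hr (rep_tau D C hk128) he) (tt_spec D C hj).2
  refine ⟨c⁻¹, inv_mem ⟨hc', hcfix⟩, ?_, k, hk', ?_⟩
  · rw [inv_inv, mul_assoc, ← hctau, inv_mul_cancel_left]
  · rw [← hck]; group

theorem range_tt {j : ℕ} (hj : j < 45) {v : V} (hv : v ∈ (ee ρ (tt D C j)).range) :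
    ∃ a ∈ rng, v = nc s ν (app (W j) a) := by
  obtain ⟨g, -, hgW, hgT⟩ := exists_tl D C hj
  rw [rep_ext D C (tt_spec D C hj).2 hgT] at hv
  have hb := range_conj D C (g := g⁻¹) hv
  rw [show g⁻¹ * (g * tauE h Φ * g⁻¹) * g⁻¹⁻¹ = tauE h Φ by group] at hb
  obtain ⟨a, ha, e⟩ := (rng_tauE D C).1 hb
  refine ⟨a, ha, ?_⟩
  rw [← rep_nc D C hgW, ← e, ← rho_mul, mul_inv_cancel, rho_one]

theorem meet : ∀ t ∈ TT ρ ν Mb h Φ, t ≠ tauE h Φ → ∀ v, v ∈ (ee ρ (tauE h Φ)).range →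
    v ∈ (ee ρ t).range → v ∈ LineV s ν := by
  intro t ht hne v hv hvt
  obtain ⟨j, hj, rfl⟩ := (mem_tl D C).1 ht
  obtain ⟨a, ha, rfl⟩ := range_tt D C hj hvt
  obtain ⟨b, hb, e⟩ := (rng_tauE D C).1 hv
  have hb' : b < 4096 := by
    have h1 := rng_ok
    simp only [rngOK, Bool.and_eq_true, List.all_eq_true, Nat.blt_eq] at h1
    exact (h1.2 b hb).1
  have e' := nc_inj (hyp D) C (app_lt _ _) hb' e
  have hj0 : Nat.beq j 0 = false := by
    rw [Bool.eq_false_iff]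
    intro e0
    exact hne (by rw [Nat.eq_of_beq_eq_true e0, tt_zero D C])
  have h1 := List.all_eq_true.1 (allBelow_spec meet_ok j hj) a ha
  rw [Bool.and_eq_true, hj0, Bool.false_or, e', memB_iff.2 hb, Bool.not_true, Bool.false_or] at h1
  refine ⟨app (W j) a, ?_, rfl⟩
  rw [e']
  have h2 := h1.2
  simp only [LFU62PerpData19.inLine, Bool.or_eq_true, Nat.beq_eq] at h2
  simp only [lineC, List.mem_cons, List.not_mem_nil, or_false]
  tauto

theorem perp_code {c : ℕ} :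
    nc s ν c ∈ PerpV q s ν ↔ LFU62PerpData19.inPerp c = true := by
  have hpol : ∀ a b, LFForm89.pol q (nc s ν a) (nc s ν b) =
      if LFU62PerpData19.pb a b then 1 else 0 := fun a b => by
    unfold LFForm89.pol LFU62PerpData19.pb
    rw [← xorv D C, q_nc (hyp D) C, q_nc (hyp D) C, q_nc (hyp D) C]
    cases qpar (Nat.xor a b) <;> cases qpar a <;> cases qpar b <;> simp <;> decide
  show LFForm89.pol q _ _ = 0 ∧ LFForm89.pol q _ _ = 0 ↔ _
  rw [hpol, hpol, LFU62PerpData19.inPerp]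
  cases LFU62PerpData19.pb c 5 <;> cases LFU62PerpData19.pb c 10 <;> simp

theorem perp_sub : ∀ t ∈ TT ρ ν Mb h Φ, ∀ v ∈ (ee ρ t).range, v ∈ PerpV q s ν := by
  intro t ht v hv
  obtain ⟨j, hj, rfl⟩ := (mem_tl D C).1 ht
  obtain ⟨a, ha, rfl⟩ := range_tt D C hj hv
  have h1 := List.all_eq_true.1 (allBelow_spec meet_ok j hj) a ha
  rw [Bool.and_eq_true] at h1
  exact (perp_code D C).2 h1.1

theorem gv_mem {g : ℕ × ℕ}
    (hg : (bif Nat.blt g.1 45 then memB g.2 rng else LFU62PerpData19.inLine g.2) = true) :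
    nc s ν (gv g) ∈ LineV s ν ∪ {v | ∃ t ∈ TT ρ ν Mb h Φ, v ∈ (ee ρ t).range} := by
  cases hb : Nat.blt g.1 45
  · rw [hb, cond_false] at hg
    refine Or.inl ⟨g.2, ?_, by rw [gv, hb, cond_false]⟩
    simp only [LFU62PerpData19.inLine, Bool.or_eq_true, Nat.beq_eq] at hg
    simp only [lineC, List.mem_cons, List.not_mem_nil, or_false]
    tauto
  · rw [hb, cond_true] at hg
    rw [Nat.blt_eq] at hb
    obtain ⟨x, hx, hxW, hxT⟩ := exists_tl D C hb
    refine Or.inr ⟨_, ⟨x, hx, rfl⟩, ?_⟩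
    rw [gv, show Nat.blt g.1 45 = true by rw [Nat.blt_eq]; exact hb, cond_true,
      ← rep_nc D C hxW]
    exact range_conj D C ((rng_tauE D C).2 ⟨_, memB_iff.1 hg, rfl⟩)

theorem red_mem {P : AddSubgroup V} : ∀ (rows : List (ℕ × List (ℕ × ℕ))) (c : ℕ),
    (∀ r ∈ rows, ∀ g ∈ r.2, nc s ν (gv g) ∈ P) → nc s ν (red rows c) ∈ P → nc s ν c ∈ P := by
  have one : ∀ (l : List (ℕ × ℕ)) (c : ℕ), (∀ g ∈ l, nc s ν (gv g) ∈ P) →
      nc s ν (l.foldl (fun c g => Nat.xor c (gv g)) c) ∈ P → nc s ν c ∈ P := by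
    intro l
    induction l with
    | nil => exact fun c _ hc => hc
    | cons g l ih =>
      intro c hl hc
      have h1 := ih _ (fun g' hg' => hl g' (List.mem_cons_of_mem _ hg')) hc
      rw [xorv D C] at h1
      exact (P.add_mem_cancel_right (hl g List.mem_cons_self)).1 h1
  intro rows
  induction rows with
  | nil => exact fun c _ hc => hc
  | cons r rows ih =>
    intro c hr hc
    have h1 := ih _ (fun r' hr' => hr r' (List.mem_cons_of_mem _ hr')) hc
    cases hb : Nat.testBit c r.1 <;> simp only [hb, cond_false, cond_true] at h1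
    · exact h1
    · exact one r.2 c (hr r List.mem_cons_self) h1

theorem perp_gen : PerpV q s ν ⊆ (AddSubgroup.closure
    (LineV s ν ∪ {v | ∃ t ∈ TT ρ ν Mb h Φ, v ∈ (ee ρ t).range}) : Set V) := by
  intro v hv
  obtain ⟨c, hc, rfl⟩ := exists_nc (hyp D) C v
  have h1 := span_ok
  simp only [spanOK, Bool.and_eq_true, List.all_eq_true] at h1
  have h2 := allBelow_spec h1.1 c hc
  rw [(perp_code D C).1 hv, Bool.not_true, Bool.false_or, Nat.beq_eq] at h2
  refine red_mem D C perpRow c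
    (fun r hr g hg => AddSubgroup.subset_closure (gv_mem D C (h1.2 r hr g hg))) ?_
  rw [h2, nc_zero (hyp D) C]
  exact zero_mem _

theorem mem_St : ∀ g, op ρ g (nc s ν 5) = nc s ν 5 → op ρ g (nc s ν 10) = nc s ν 10 →
    g ∈ St ρ s ν Mb := by
  intro g h5 h10
  refine ⟨?_, h5⟩
  by_contra hg
  have hn : ∀ c, c < 4096 → op ρ n (nc s ν c) = nc s ν (LFCheck89.scal c) := fun c hc => by
    rw [nc, C.scalar, ← vec_scal h hc]; rfl
  have e10 : op ρ n (nc s ν 5) = nc s ν 10 := (hn 5 (by norm_num)).trans rfl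
  have e15 : op ρ n (nc s ν 10) = nc s ν 15 := (hn 10 (by norm_num)).trans rfl
  have h1 := semilinear D C g hg (nc s ν 5)
  rw [h5, e10, h10, e15] at h1
  exact absurd (nc_inj (hyp D) C (by norm_num) (by norm_num) h1) (by norm_num)

/-- The facts about the stabiliser of the vector. -/
theorem stab_facts : StabFacts Q ρ q ν Mb h Φ where
  conj_tauE := conj_tauE D C
  card := card_St D C
  mem_St := mem_St D C
  graph := graph D C
  gen := gen D C
  mem_TT := mem_TT D C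
  five_conj := five_conj D C
  five_near := five_near D C
  meet := meet D C
  perp_sub := perp_sub D C
  perp_gen := perp_gen D C

end

end Cfsg.Agent.LFU62Stab58
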