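import Mathlib
import Cfsg.Agent.Lib.KTransAlt59
import Cfsg.Agent.Lib.PrimeDegreeCoord

/-!
# Livingstone-Wagner, first form: the step from (k-2)- to (k-1)-transitivity (helper59)
-/

set_option autoImplicit false

namespace Cfsg.Agent.LWStep59

noncomputable section

open MulAction Cfsg.Agent.KTransAlt59
open scoped Pointwise

variable {α : Type*} [Fintype α] [DecidableEq α]

/-- permutations of a tuple induced by the group -/
def tupleGroup (G : Subgroup (Equiv.Perm α)) {d : ℕ} (e : Fin d ↪ α) :
    Subgroup (Equiv.Perm (Fin d)) where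
  carrier := {σ | ∃ g ∈ G, ∀ i, g (e i) = e (σ i)}
  one_mem' := ⟨1, G.one_mem, fun _ => rfl⟩
  mul_mem' := by
    rintro a b ⟨g, hg, hga⟩ ⟨h, hh, hhb⟩
    refine ⟨g * h, G.mul_mem hg hh, fun i => ?_⟩
    rw [Equiv.Perm.mul_apply, hhb, hga]
    rfl
  inv_mem' := by
    rintro a ⟨g, hg, hga⟩
    refine ⟨g⁻¹, G.inv_mem hg, fun i => ?_⟩
    rw [Equiv.Perm.inv_eq_iff_eq, hga]
    simp

omit [Fintype α] [DecidableEq α] in
lemma mem_tupleGroup {G : Subgroup (Equiv.Perm α)} {d : ℕ} {e : Fin d ↪ α}
    {σ : Equiv.Perm (Fin d)} :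
    σ ∈ tupleGroup G e ↔ ∃ g ∈ G, ∀ i, g (e i) = e (σ i) := Iff.rfl

omit [Fintype α] in
/-- moving a finset by the group when it is homogeneous -/
lemma exists_map_eq {G : Subgroup (Equiv.Perm α)} {d : ℕ}
    (hh : IsPretransitive G (Set.powersetCard α d)) (e f : Fin d ↪ α) :
    ∃ g ∈ G, ∃ π : Equiv.Perm (Fin d), ∀ i, g (e i) = f (π i) := by
  let A : Set.powersetCard α d := ⟨Finset.univ.map e, by simp [Set.powersetCard.mem_iff]⟩
  let B : Set.powersetCard α d := ⟨Finset.univ.map f, by simp [Set.powersetCard.mem_iff]⟩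
  obtain ⟨g, hg⟩ := hh.exists_smul_eq A B
  have hg' : g • (Finset.univ.map e) = Finset.univ.map f := congrArg Subtype.val hg
  have hmem : ∀ i, ∃ j, (g : Equiv.Perm α) (e i) = f j := by
    intro i
    have : g • (e i) ∈ Finset.univ.map f := hg' ▸ Finset.smul_mem_smul_finset (by simp)
    obtain ⟨j, -, hj⟩ := Finset.mem_map.mp this
    exact ⟨j, hj.symm⟩
  choose π hπ using hmem
  have hinj : Function.Injective π := by
    intro i j h
    exact e.injective ((g : Equiv.Perm α).injective (by rw [hπ, hπ, h]))
  exact ⟨g, g.2, Equiv.ofBijective π (Finite.injective_iff_bijective.mp hinj), hπ⟩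

omit [Fintype α] in
/-- every element permuting some tuple is conjugate into the group of a given tuple -/
lemma conj_mem {G : Subgroup (Equiv.Perm α)} {d : ℕ}
    (hh : IsPretransitive G (Set.powersetCard α d)) (e : Fin d ↪ α) {f : Fin d ↪ α}
    {g : Equiv.Perm α} (hg : g ∈ G) {σ : Equiv.Perm (Fin d)} (hσ : ∀ i, g (f i) = f (σ i)) :
    ∃ τ : Equiv.Perm (Fin d), τ * σ * τ⁻¹ ∈ tupleGroup G e := by
  obtain ⟨h, hh', π, hπ⟩ := exists_map_eq hh e f
  refine ⟨π⁻¹, h⁻¹ * g * h, G.mul_mem (G.mul_mem (G.inv_mem hh') hg) hh', fun i => ?_⟩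
  rw [Equiv.Perm.mul_apply, Equiv.Perm.mul_apply, hπ, hσ, Equiv.Perm.inv_eq_iff_eq, hπ]
  simp

/-- a finset mapped to itself gives a permuted tuple -/
lemma exists_tuple {d : ℕ} (g : Equiv.Perm α) (t : Finset α) (ht : t.card = d)
    (hinv : ∀ x ∈ t, g x ∈ t) :
    ∃ (f : Fin d ↪ α) (σ : Equiv.Perm (Fin d)), (∀ i, g (f i) = f (σ i)) ∧
      Finset.univ.map f = t ∧
      ∀ h : ∀ x : α, g x ∈ t ↔ x ∈ t, Equiv.Perm.sign σ = Equiv.Perm.sign (g.subtypePerm h) := by
  have hiff : ∀ x : α, g x ∈ t ↔ x ∈ t := by
    intro x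
    refine ⟨fun h => ?_, hinv x⟩
    have himg : t.image g = t := Finset.eq_of_subset_of_card_le
      (fun y hy => by obtain ⟨z, hz, rfl⟩ := Finset.mem_image.mp hy; exact hinv z hz)
      (by rw [Finset.card_image_of_injective _ g.injective])
    rw [← himg] at h
    obtain ⟨y, hy, hyx⟩ := Finset.mem_image.mp h
    rwa [← g.injective hyx]
  let eq : {x // x ∈ t} ≃ Fin d := Fintype.equivFinOfCardEq (by rw [Fintype.card_coe, ht])
  refine ⟨eq.symm.toEmbedding.trans (Function.Embedding.subtype _),
    eq.permCongr (g.subtypePerm hiff), fun i => ?_, ?_, fun h => Equiv.Perm.sign_permCongr _ _⟩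
  · simp [Equiv.permCongr_apply, Equiv.Perm.subtypePerm_apply]
  · ext x
    simp only [Finset.mem_map, Finset.mem_univ, true_and, Function.Embedding.trans_apply]
    exact ⟨fun ⟨i, h⟩ => h ▸ (eq.symm i).2, fun h => ⟨eq ⟨x, h⟩, by simp⟩⟩

/-- sign of an involutory permutation -/
lemma sign_of_sq {β : Type*} [Fintype β] [DecidableEq β] (σ : Equiv.Perm β) (j : ℕ)
    (h2 : σ * σ = 1) (hj : σ.support.card = 2 * j) : Equiv.Perm.sign σ = (-1) ^ j := by
  rcases Nat.eq_zero_or_pos j with rfl | hjpos
  · have : σ = 1 := Equiv.Perm.card_support_eq_zero.mp (by simpa using hj)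
    simp [this]
  · have hne : σ ≠ 1 := fun h => by rw [h, Equiv.Perm.support_one, Finset.card_empty] at hj; omega
    haveI : Fact (Nat.Prime 2) := ⟨Nat.prime_two⟩
    have ho : orderOf σ = 2 := orderOf_eq_prime (by rw [pow_two]; exact h2) hne
    obtain ⟨q, hq⟩ := Equiv.Perm.cycleType_prime_order (σ := σ) (ho ▸ Nat.prime_two)
    rw [ho] at hq
    have hsum := Equiv.Perm.sum_cycleType σ
    rw [hq, Multiset.sum_replicate, hj, smul_eq_mul] at hsum
    rw [Equiv.Perm.sign_of_cycleType, hq, Multiset.sum_replicate, Multiset.card_replicate,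
      smul_eq_mul, show (q + 1) = j by omega, pow_add, pow_mul']
    rw [show ((-1 : ℤˣ)) ^ 2 = 1 by decide, one_pow, one_mul]

/-- an involution with `j` two-cycles inside an invariant `d`-set gives a permutation of sign
`(-1)^j` in the tuple group, up to conjugacy -/
lemma sign_witness {G : Subgroup (Equiv.Perm α)} {d : ℕ}
    (hh : IsPretransitive G (Set.powersetCard α d)) (e : Fin d ↪ α) {z : Equiv.Perm α}
    (hz : z ∈ G) (h2 : z * z = 1) (t : Finset α) (ht : t.card = d) (hinv : ∀ x ∈ t, z x ∈ t)
    (j : ℕ) (hj : (t.filter (fun x => z x ≠ x)).card = 2 * j) :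
    ∃ σ ∈ tupleGroup G e, Equiv.Perm.sign σ = (-1) ^ j ∧ (0 < j → orderOf σ = 2) := by
  obtain ⟨f, σ, hσ, hft, -⟩ := exists_tuple z t ht hinv
  have hσ2 : σ * σ = 1 := by
    refine Equiv.ext fun i => f.injective ?_
    rw [Equiv.Perm.mul_apply, ← hσ, ← hσ, ← Equiv.Perm.mul_apply, h2]
    rfl
  have hsupp : σ.support.card = 2 * j := by
    rw [← hj, ← hft, Finset.filter_map, Finset.card_map]
    congr 1
    ext i
    simp [hσ, f.injective.eq_iff]
  obtain ⟨τ, hτ⟩ := conj_mem hh e hz hσ
  refine ⟨τ * σ * τ⁻¹, hτ, ?_, fun hj0 => ?_⟩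
  · rw [← sign_of_sq σ j hσ2 hsupp, map_mul, map_mul, map_inv, mul_comm (Equiv.Perm.sign τ),
      mul_assoc, mul_inv_cancel, mul_one]
  · have : orderOf (τ * σ * τ⁻¹) = orderOf σ :=
      (orderOf_injective (MulAut.conj τ).toMonoidHom (MulEquiv.injective _) σ)
    rw [this]
    haveI : Fact (Nat.Prime 2) := ⟨Nat.prime_two⟩
    refine orderOf_eq_prime (by rw [pow_two]; exact hσ2) fun h => ?_
    rw [h, Equiv.Perm.support_one, Finset.card_empty] at hsupp
    omega

/-- all lifts of every double transposition are involutions in the extremal case -/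
lemma inverts_contradiction (G : Subgroup (Equiv.Perm α)) (l : ℕ) (hl : Odd l) (hl1 : 1 < l)
    (hn : Fintype.card α = 4 + 2 * l) (h4 : IsMultiplyPretransitive G α 4)
    (hcard : Nat.card G = (Fintype.card α).descFactorial 4 * l)
    (hB : ∀ (g : G) (e : Fin 5 ↪ α), g • e = e → g = 1) : False := by
  classical
  set n := Fintype.card α with hndef
  rw [Nat.card_eq_fintype_card] at hcard
  have hD : Fintype.card (Fin 4 ↪ α) = n.descFactorial 4 := by
    rw [Fintype.card_embedding_eq, Fintype.card_fin]
  have hDpos : 0 < n.descFactorial 4 := Nat.descFactorial_pos.mpr (by omega)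
  have hK : ∀ e : Fin 4 ↪ α, Fintype.card (stabilizer G e) = l := by
    intro e
    have huniv : orbit G e = Set.univ := Set.eq_univ_of_forall fun f => h4.exists_smul_eq e f
    have hidx : (stabilizer G e).index = n.descFactorial 4 := by
      refine (MulAction.index_stabilizer (G := G) e).trans ((congrArg Set.ncard huniv).trans ?_)
      rw [Set.ncard_univ, Nat.card_eq_fintype_card, hD]
    have h1 := Subgroup.card_mul_index (stabilizer G e)
    rw [hidx, Nat.card_eq_fintype_card, Nat.card_eq_fintype_card, hcard, mul_comm] at h1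
    exact Nat.eq_of_mul_eq_mul_left hDpos h1
  have hmemK : ∀ (e : Fin 4 ↪ α) (g : G), g ∈ stabilizer G e ↔ ∀ i, g • e i = e i := by
    intro e g
    rw [MulAction.mem_stabilizer_iff]
    exact ⟨fun h i => DFunLike.congr_fun h i, fun h => DFunLike.ext _ _ h⟩
  have hcoset : ∀ (σ : Equiv.Perm (Fin 4)) (e : Fin 4 ↪ α),
      (Finset.univ.filter (fun g : G => ∀ i, g • e i = e (σ i))).card = l := by
    intro σ e
    obtain ⟨g0, hg0⟩ := exists_pat h4 σ e
    rw [← hK e, ← Finset.card_univ]
    symm
    refine Finset.card_bij (fun k _ => g0 * (k : G)) ?_ ?_ ?_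
    · intro k _
      refine Finset.mem_filter.mpr ⟨Finset.mem_univ _, fun i => ?_⟩
      rw [mul_smul, (hmemK e k).mp k.2 i, hg0]
    · intro k _ k' _ h
      exact Subtype.ext (mul_left_cancel h)
    · intro g hg
      have hg' := (Finset.mem_filter.mp hg).2
      refine ⟨⟨g0⁻¹ * g, (hmemK e _).mpr fun i => ?_⟩, Finset.mem_univ _, by simp⟩
      rw [mul_smul, hg' i, ← hg0 i, inv_smul_smul]
  let S : Finset G :=
    Finset.univ.filter (fun z => z * z = 1 ∧ z ≠ 1 ∧ (fixF (β := α) z).card = 2)
  have hS : ∀ {z : G}, z ∈ S ↔ z * z = 1 ∧ z ≠ 1 ∧ (fixF (β := α) z).card = 2 := by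
    intro z; simp [S]
  have hdc : ∀ σ : Equiv.Perm (Fin 4), ∑ z ∈ S, (pat (β := α) z σ).card =
      ∑ e : Fin 4 ↪ α, (S.filter (fun z => ∀ i, z • e i = e (σ i))).card := fun σ =>
    Finset.sum_card_bipartiteAbove_eq_sum_card_bipartiteBelow
      (r := fun (z : G) (e : Fin 4 ↪ α) => ∀ i, z • e i = e (σ i))
  -- every tuple has an involution swapping the first two points
  have hex : ∀ e : Fin 4 ↪ α,
      1 ≤ (S.filter (fun z => ∀ i, z • e i = e (Equiv.swap (0 : Fin 4) 1 i))).card := by
    intro e
    obtain ⟨g, hg⟩ := exists_pat h4 (Equiv.swap (0 : Fin 4) 1) e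
    have hgK : g * g ∈ stabilizer G e := (hmemK e _).mpr fun i => by
      rw [mul_smul, hg, hg, Equiv.swap_apply_self]
    have hgl : (g * g) ^ l = 1 := by
      have := pow_card_eq_one (x := (⟨g * g, hgK⟩ : stabilizer G e))
      rw [hK e] at this
      simpa using congrArg Subtype.val this
    obtain ⟨q, hq⟩ := hl
    have htp : ∀ i, (g ^ l) • e i = e (Equiv.swap (0 : Fin 4) 1 i) := by
      intro i
      have hsq : (g * g) ^ q ∈ stabilizer G e := Subgroup.pow_mem _ hgK q
      rw [hq, pow_succ, pow_mul, pow_two, mul_smul, hg, (hmemK e _).mp hsq]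
    have hne : g ^ l ≠ 1 := by
      intro h
      have h0 := htp 0
      rw [h, one_smul] at h0
      exact absurd (e.injective h0) (by decide)
    have hsq : g ^ l * g ^ l = 1 := by rw [← pow_add, ← two_mul, pow_mul, pow_two, hgl]
    set t := g ^ l with htdef
    have hle2 : 2 ≤ (fixF (β := α) t).card := by
      have : ({e 2, e 3} : Finset α) ⊆ fixF t := by
        intro x hx
        rcases Finset.mem_insert.mp hx with rfl | hx
        · exact Finset.mem_filter.mpr ⟨Finset.mem_univ _, htp 2⟩
        · rw [Finset.mem_singleton] at hx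
          subst hx
          exact Finset.mem_filter.mpr ⟨Finset.mem_univ _, htp 3⟩
      refine le_trans ?_ (Finset.card_le_card this)
      rw [Finset.card_pair (fun h => absurd (e.injective h) (by decide))]
    have hle3 : (fixF (β := α) t).card ≤ 3 := by
      by_contra hcon
      obtain ⟨f⟩ : Nonempty (Fin 4 ↪ {x : α // x ∈ fixF t}) :=
        Function.Embedding.nonempty_of_card_le (by rw [Fintype.card_fin, Fintype.card_coe]; omega)
      let f' := f.trans (Function.Embedding.subtype _)
      have hK' : t ∈ stabilizer G f' :=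
        (hmemK f' t).mpr fun i => (Finset.mem_filter.mp (f i).2).2
      haveI : Fact (Nat.Prime 2) := ⟨Nat.prime_two⟩
      have ho : orderOf (⟨t, hK'⟩ : stabilizer G f') = 2 :=
        orderOf_eq_prime (Subtype.ext (by simpa [pow_two] using hsq))
          (fun h => hne (congrArg Subtype.val h))
      have := orderOf_dvd_card (x := (⟨t, hK'⟩ : stabilizer G f'))
      rw [ho, hK f', hq] at this
      omega
    have hev : Even (movF (β := α) t).card := by
      have h := Equiv.Perm.two_dvd_card_support (σ := (MulAction.toPerm t : Equiv.Perm α))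
        (Equiv.ext fun x => by
          show (MulAction.toPerm t ^ 2) x = x
          simp [pow_two, smul_smul, hsq])
      have e' : (movF (β := α) t) = Equiv.Perm.support (MulAction.toPerm t : Equiv.Perm α) := by
        ext x
        simp [movF]
      rw [even_iff_two_dvd, e']
      exact h
    refine Finset.card_pos.mpr ⟨t, Finset.mem_filter.mpr ⟨hS.mpr ⟨hsq, hne, ?_⟩, htp⟩⟩
    have := card_fix_add_mov (β := α) t
    rw [Nat.even_iff] at hev
    omega
  -- equality in the double counting
  have h1 : n.descFactorial 4 ≤ ∑ z ∈ S, (pat (β := α) z (Equiv.swap (0 : Fin 4) 1)).card := by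
    rw [hdc, ← hD, ← Finset.card_univ, Finset.card_eq_sum_ones]
    exact Finset.sum_le_sum fun e _ => hex e
  rw [Finset.sum_const_nat (m := (n - 2) * 2) (fun z hz => by
    rw [card_pat_swap (β := α) z (hS.mp hz).1, (hS.mp hz).2.2]
    have := card_fix_add_mov (β := α) z
    rw [(hS.mp hz).2.2] at this
    rw [show (movF (β := α) z).card = n - 2 by omega])] at h1
  have hall : ∀ (e : Fin 4 ↪ α),
      (S.filter (fun z => ∀ i, z • e i = e (dswap i))).card = l := by
    have hle : ∀ e ∈ (Finset.univ : Finset (Fin 4 ↪ α)),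
        (S.filter (fun z => ∀ i, z • e i = e (dswap i))).card ≤ (fun _ => l) e := fun e _ => by
      show _ ≤ l
      rw [← hcoset dswap e]
      exact Finset.card_le_card (Finset.filter_subset_filter _ (Finset.subset_univ S))
    have heq : ∑ e : Fin 4 ↪ α, (S.filter (fun z => ∀ i, z • e i = e (dswap i))).card =
        ∑ _e : Fin 4 ↪ α, l := by
      refine le_antisymm (Finset.sum_le_sum hle) ?_
      rw [Finset.sum_const, Finset.card_univ, hD, smul_eq_mul, ← hdc,
        Finset.sum_const_nat (s := S) (m := (n - 2) * (2 * l)) (fun z hz => by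
        rw [card_pat_double (β := α) z (hS.mp hz).1]
        have := card_fix_add_mov (β := α) z
        rw [(hS.mp hz).2.2] at this
        rw [show (movF (β := α) z).card = n - 2 by omega]
        congr 1
        omega)]
      calc n.descFactorial 4 * l ≤ S.card * ((n - 2) * 2) * l := Nat.mul_le_mul_right l h1
        _ = S.card * ((n - 2) * (2 * l)) := by ring
    exact fun e => (Finset.sum_eq_sum_iff_of_le hle).mp heq e (Finset.mem_univ e)
  have hinvol : ∀ (e : Fin 4 ↪ α) (g : G), (∀ i, g • e i = e (dswap i)) → g * g = 1 := by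
    intro e g hg
    have heq : S.filter (fun z => ∀ i, z • e i = e (dswap i)) =
        Finset.univ.filter (fun z => ∀ i, z • e i = e (dswap i)) :=
      Finset.eq_of_subset_of_card_le (Finset.filter_subset_filter _ (Finset.subset_univ S))
        (by rw [hcoset, hall])
    have : g ∈ S.filter (fun z => ∀ i, z • e i = e (dswap i)) :=
      heq ▸ Finset.mem_filter.mpr ⟨Finset.mem_univ _, hg⟩
    exact (hS.mp (Finset.mem_filter.mp this).1).1
  obtain ⟨e⟩ : Nonempty (Fin 4 ↪ α) :=
    Function.Embedding.nonempty_of_card_le (by rw [Fintype.card_fin]; omega)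
  obtain ⟨v0, v1, v2, v3⟩ := dswap_vals
  -- relabelled tuples
  let π1 : Equiv.Perm (Fin 4) := Equiv.swap 1 2
  let π2 : Equiv.Perm (Fin 4) := Equiv.swap 1 3
  have hinv : ∀ (π : Equiv.Perm (Fin 4)) (g : G),
      (∀ i, g • e i = e (π (dswap (π.symm i)))) → ∀ k ∈ stabilizer G e, g * k = k⁻¹ * g := by
    intro π g hg k hk
    have hgg : g * g = 1 := hinvol (π.toEmbedding.trans e) g fun i => by
      show g • e (π i) = e (π (dswap i))
      rw [hg, Equiv.symm_apply_apply]
    have hgk : (g * k) * (g * k) = 1 := hinvol (π.toEmbedding.trans e) (g * k) fun i => by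
      show (g * k) • e (π i) = e (π (dswap i))
      rw [mul_smul, (hmemK e k).mp hk, hg, Equiv.symm_apply_apply]
    have h3 : g * k = (g * k)⁻¹ := eq_inv_of_mul_eq_one_left hgk
    rw [mul_inv_rev, show g⁻¹ = g from inv_eq_of_mul_eq_one_right hgg] at h3
    exact h3
  obtain ⟨g1, hg1⟩ := exists_pat h4 (π1 * dswap * π1⁻¹) e
  obtain ⟨g2, hg2⟩ := exists_pat h4 (π2 * dswap * π2⁻¹) e
  have hi1 := hinv π1 g1 hg1
  have hi2 := hinv π2 g2 hg2
  have hi3 := hinv 1 (g1 * g2) (fun i => by
    rw [mul_smul, hg2, hg1]
    refine congrArg e ?_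
    revert i
    simp only [π1, π2, dswap]
    decide)
  have hKone : ∀ k ∈ stabilizer G e, k = 1 := by
    intro k hk
    have hc : g1 * g2 * k = k * (g1 * g2) := by
      rw [mul_assoc, hi2 k hk, ← mul_assoc, hi1 _ (Subgroup.inv_mem _ hk), inv_inv, mul_assoc]
    have h2 : k = k⁻¹ := mul_right_cancel (hc.symm.trans (hi3 k hk))
    have hk2 : k ^ 2 = 1 := by
      rw [pow_two]
      nth_rewrite 1 [h2]
      exact inv_mul_cancel k
    have hkl : k ^ l = 1 := by
      have := pow_card_eq_one (x := (⟨k, hk⟩ : stabilizer G e))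
      rw [hK e] at this
      simpa using congrArg Subtype.val this
    obtain ⟨q, hq⟩ := hl
    rw [hq, pow_succ, pow_mul, hk2, one_pow, one_mul] at hkl
    exact hkl
  have : l ≤ 1 := by
    rw [← hK e]
    exact Fintype.card_le_one_iff.mpr fun a b => Subtype.ext ((hKone a a.2).trans (hKone b b.2).symm)
  omega

/-- an element of order 3 cannot be found in a tuple group of order prime to 3 -/
lemma three_cycle_contra {G : Subgroup (Equiv.Perm α)} {d : ℕ}
    (hh : IsPretransitive G (Set.powersetCard α d)) (e : Fin d ↪ α)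
    (hx : ¬ 3 ∣ Nat.card (tupleGroup G e)) {z : Equiv.Perm α} (hz : z ∈ G) (h3 : z ^ 3 = 1)
    (t : Finset α) (ht : t.card = d) (hinv : ∀ x ∈ t, z x ∈ t) {c : α} (hc : c ∈ t)
    (hcm : z c ≠ c) : False := by
  obtain ⟨f, σ, hσ, hft, -⟩ := exists_tuple z t ht hinv
  obtain ⟨τ, hτ⟩ := conj_mem hh e hz hσ
  have hpow : ∀ (q : ℕ) i, (z ^ q) (f i) = f ((σ ^ q) i) := by
    intro q
    induction q with
    | zero => intro i; rfl
    | succ q ih => intro i; rw [pow_succ, pow_succ, Equiv.Perm.mul_apply, hσ, ih]; rfl
  have hσ3 : σ ^ 3 = 1 := Equiv.ext fun i => f.injective (by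
    rw [← hpow, h3]; rfl)
  have hσ1 : σ ≠ 1 := by
    intro h
    rw [← hft] at hc
    obtain ⟨i, -, rfl⟩ := Finset.mem_map.mp hc
    rw [hσ, h] at hcm
    exact hcm rfl
  haveI : Fact (Nat.Prime 3) := ⟨by norm_num⟩
  have ho : orderOf (τ * σ * τ⁻¹) = 3 := by
    have : orderOf (τ * σ * τ⁻¹) = orderOf σ :=
      (orderOf_injective (MulAut.conj τ).toMonoidHom (MulEquiv.injective _) σ)
    rw [this, orderOf_eq_prime hσ3 hσ1]
  apply hx
  have := orderOf_dvd_natCard (⟨τ * σ * τ⁻¹, hτ⟩ : tupleGroup G e)
  rwa [Subgroup.orderOf_mk, ho] at this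

set_option maxRecDepth 20000 in
/-- a subgroup of order six of `S_4` has no involution of sign one -/
lemma six_no_even (X : Subgroup (Equiv.Perm (Fin 4))) (h6 : Nat.card X = 6)
    {δ : Equiv.Perm (Fin 4)} (hδ : δ ∈ X) (hs : Equiv.Perm.sign δ = 1) (ho : orderOf δ = 2) :
    False := by
  haveI : Fact (Nat.Prime 3) := ⟨by norm_num⟩
  obtain ⟨γ, hγ⟩ := exists_prime_orderOf_dvd_card' (G := X) 3 (by rw [h6]; norm_num)
  have hγ' : (γ : Equiv.Perm (Fin 4)) ^ 3 = 1 ∧ (γ : Equiv.Perm (Fin 4)) ≠ 1 := by
    rw [← Subgroup.orderOf_coe] at hγ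
    refine ⟨hγ ▸ pow_orderOf_eq_one _, fun h => ?_⟩
    rw [h, orderOf_one] at hγ
    omega
  have hδ2 : δ ^ 2 = 1 ∧ δ ≠ 1 := by
    refine ⟨ho ▸ pow_orderOf_eq_one _, fun h => ?_⟩
    rw [h, orderOf_one] at ho
    omega
  have key : ∀ a b : Equiv.Perm (Fin 4), (a ^ 2 = 1 ∧ a ≠ 1 ∧ Equiv.Perm.sign a = 1 ∧ b ^ 3 = 1 ∧
      b ≠ 1) → [1, a, b, b * b, a * b, b * a, b * a * b].Nodup := by decide
  classical
  have h7 : 7 ≤ ({1, δ, (γ : Equiv.Perm (Fin 4)), (γ : Equiv.Perm (Fin 4)) * γ,
      δ * (γ : Equiv.Perm (Fin 4)), (γ : Equiv.Perm (Fin 4)) * δ,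
      (γ : Equiv.Perm (Fin 4)) * δ * γ} : Finset (Equiv.Perm (Fin 4))).card := by
    have hnd := key δ γ ⟨hδ2.1, hδ2.2, hs, hγ'.1, hγ'.2⟩
    have h := List.toFinset_card_of_nodup hnd
    simp only [List.toFinset_cons, List.toFinset_nil, List.length_cons, List.length_nil,
      insert_empty_eq] at h
    exact h.ge
  have hsub : ({1, δ, (γ : Equiv.Perm (Fin 4)), (γ : Equiv.Perm (Fin 4)) * γ, δ * (γ : Equiv.Perm (Fin 4)), (γ : Equiv.Perm (Fin 4)) * δ, (γ : Equiv.Perm (Fin 4)) * δ * γ} :
      Finset (Equiv.Perm (Fin 4))) ⊆ Finset.univ.filter (fun x => x ∈ X) := by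
    intro x hx
    simp only [Finset.mem_insert, Finset.mem_singleton] at hx
    refine Finset.mem_filter.mpr ⟨Finset.mem_univ _, ?_⟩
    rcases hx with rfl | rfl | rfl | rfl | rfl | rfl | rfl
    · exact one_mem _
    · exact hδ
    · exact γ.2
    · exact mul_mem γ.2 γ.2
    · exact mul_mem hδ γ.2
    · exact mul_mem γ.2 hδ
    · exact mul_mem (mul_mem γ.2 hδ) γ.2
  have := Finset.card_le_card hsub
  rw [← Fintype.card_subtype, ← Nat.card_eq_fintype_card] at this
  omega

/-- no 3-transitive group of degree 24 with stabilisers of three points of order 7 -/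
lemma not_degree_24 (G : Subgroup (Equiv.Perm α)) (hn : Fintype.card α = 24)
    (h2 : IsMultiplyPretransitive G α 2) (hcard : Nat.card G = 24 * 23 * 22 * 7) : False := by
  classical
  haveI : Fact (Nat.Prime 23) := ⟨by norm_num⟩
  haveI := h2
  haveI : IsPretransitive G α := isPretransitive_of_is_two_pretransitive
  obtain ⟨a⟩ : Nonempty α := Fintype.card_pos_iff.mp (by omega)
  haveI : IsMultiplyPretransitive (stabilizer G a) (SubMulAction.ofStabilizer G a) 1 :=
    SubMulAction.ofStabilizer.isMultiplyPretransitive.mp h2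
  haveI hGa : IsPretransitive (stabilizer G a) (SubMulAction.ofStabilizer G a) :=
    is_one_pretransitive_iff.mp inferInstance
  set ψ := MulAction.toPermHom (stabilizer G a) (SubMulAction.ofStabilizer G a) with hψ
  have hinj : Function.Injective ψ := by
    intro u v huv
    refine Subtype.ext (Subtype.ext (Equiv.ext fun x => ?_))
    by_cases hx : x = a
    · subst hx
      exact u.2.trans v.2.symm
    · exact congrArg Subtype.val (DFunLike.congr_fun huv ⟨x, hx⟩)
  have hstab : Nat.card (stabilizer G a) * 24 = 24 * 23 * 22 * 7 := by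
    have h := Subgroup.card_mul_index (stabilizer G a)
    rwa [MulAction.index_stabilizer_of_transitive, hcard, Nat.card_eq_fintype_card (α := α),
      hn] at h
  have hG : Nat.card ψ.range = 23 * 154 := by
    rw [← Nat.card_congr (MonoidHom.ofInjective hinj).toEquiv]
    omega
  have hpts : Nat.card (SubMulAction.ofStabilizer G a) = 23 := by
    have h := Set.ncard_compl ({a} : Set α)
    rw [Set.ncard_singleton, Nat.card_eq_fintype_card, hn] at h
    exact (Nat.card_coe_set_eq _).trans h
  haveI : IsPretransitive ψ.range (SubMulAction.ofStabilizer G a) := ⟨fun x y => by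
    obtain ⟨g, hg⟩ := hGa.exists_smul_eq x y
    exact ⟨⟨ψ g, g, rfl⟩, hg⟩⟩
  obtain ⟨P⟩ : Nonempty (Sylow 23 ψ.range) := inferInstance
  have h1 := Cfsg.Agent.PrimeDegreeCoord.card_normalizer_dvd hpts ψ.range P
  have h2' : 23 ∣ Nat.card (Subgroup.normalizer ((P : Subgroup ψ.range) : Set ψ.range)) :=
    (dvd_of_eq (Eq.symm (Cfsg.Agent.PrimeDegreeCoord.card_sylow hpts ψ.range P))).trans
      (Subgroup.card_dvd_of_le Subgroup.le_normalizer)
  have h3 : (Subgroup.normalizer ((P : Subgroup ψ.range) : Set ψ.range)).index % 23 = 1 := by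
    have e := P.card_eq_index_normalizer
    exact (congrArg (· % 23) e.symm).trans (card_sylow_modEq_one 23 ψ.range)
  have h4 := Subgroup.card_mul_index (Subgroup.normalizer ((P : Subgroup ψ.range) : Set ψ.range))
  rw [hG] at h4
  obtain ⟨d, hd⟩ := h2'
  rw [hd] at h1 h4
  have hd' : d ∣ 22 := (Nat.mul_dvd_mul_iff_left (by norm_num : 0 < 23)).mp h1
  have hd22 : d ≤ 22 := Nat.le_of_dvd (by norm_num) hd'
  interval_cases d <;> omega

omit [DecidableEq α] in
/-- an element of order 3 of a point stabiliser gives an invariant three-point orbit -/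
lemma exists_three_orbit (z : Equiv.Perm α) (h3 : z ^ 3 = 1) (h1 : z ≠ 1) :
    ∃ c : α, z c ≠ c ∧ z (z c) ≠ c ∧ z (z (z c)) = c := by
  obtain ⟨c, hc⟩ : ∃ c, z c ≠ c := by
    by_contra h
    push Not at h
    exact h1 (Equiv.ext h)
  have h : z (z (z c)) = c := by
    have := DFunLike.congr_fun h3 c
    simpa [pow_succ, pow_zero] using this
  exact ⟨c, hc, fun h' => hc (by rwa [h'] at h), h⟩

/-- the step from `m`- to `(m+1)`-transitivity -/
theorem lw_step (G : Subgroup (Equiv.Perm α)) (m : ℕ) (hm : 1 ≤ m)
    (hn : 2 * m + 4 ≤ Fintype.card α) (ht : IsMultiplyPretransitive G α m)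
    (hh1 : IsPretransitive G (Set.powersetCard α (m + 1)))
    (hh2 : IsPretransitive G (Set.powersetCard α (m + 2)))
    (hB : ∀ (g : G) (e : Fin (m + 1) ↪ α), g • e = e → g = 1) :
    IsMultiplyPretransitive G α (m + 1) := by
  classical
  set n := Fintype.card α with hndef
  by_contra hnt
  -- a tuple whose group is proper
  obtain ⟨e, hXtop⟩ : ∃ e : Fin (m + 1) ↪ α, tupleGroup G e ≠ ⊤ := by
    by_contra hc
    push Not at hc
    apply hnt
    refine ⟨fun e f => ?_⟩
    obtain ⟨g, hg, π, hπ⟩ := exists_map_eq hh1 e f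
    have hmem : π⁻¹ ∈ tupleGroup G f := by rw [hc f]; trivial
    obtain ⟨h, hh, hhπ⟩ := hmem
    refine ⟨⟨h * g, G.mul_mem hh hg⟩, ?_⟩
    ext i
    show h (g (e i)) = f i
    rw [hπ, hhπ]
    simp
  set X := tupleGroup G e with hX
  set x := Nat.card X with hxdef
  set r := X.index with hrdef
  have hxpos : 0 < x := Nat.card_pos
  have hxr : x * r = (m + 1).factorial := by
    rw [hxdef, hrdef, Subgroup.card_mul_index, Nat.card_perm, Nat.card_fin]
  have hr1 : r ≠ 1 := fun h => hXtop (Subgroup.index_eq_one.mp h)
  -- the order of G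
  obtain ⟨u⟩ : Nonempty (Fin m ↪ α) :=
    Function.Embedding.nonempty_of_card_le (by rw [Fintype.card_fin]; omega)
  set l := Nat.card (stabilizer G u) with hldef
  have hlpos : 0 < l := Nat.card_pos
  have hD : Nat.card (Fin m ↪ α) = n.descFactorial m := by
    rw [Nat.card_eq_fintype_card, Fintype.card_embedding_eq, Fintype.card_fin]
  have hcard : Nat.card G = n.descFactorial m * l := by
    have huniv : orbit G u = Set.univ := Set.eq_univ_of_forall fun f => ht.exists_smul_eq u f
    have hidx : (stabilizer G u).index = Nat.card (Fin m ↪ α) :=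
      (MulAction.index_stabilizer (G := G) u).trans ((congrArg Set.ncard huniv).trans
        (Set.ncard_univ _))
    rw [← hD, ← hidx, mul_comm]
    exact (Subgroup.card_mul_index _).symm
  have hcardX : Nat.card G = n.choose (m + 1) * x := by
    let A : Set.powersetCard α (m + 1) := ⟨Finset.univ.map e, by simp [Set.powersetCard.mem_iff]⟩
    have huniv : orbit G A = Set.univ := Set.eq_univ_of_forall fun f => hh1.exists_smul_eq A f
    have hidx : (stabilizer G A).index = n.choose (m + 1) := by
      refine (MulAction.index_stabilizer (G := G) A).trans ((congrArg Set.ncard huniv).trans ?_)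
      rw [Set.ncard_univ, Set.powersetCard.card, Nat.card_eq_fintype_card]
    have hstab : Nat.card (stabilizer G A) = x := by
      have hmem : ∀ g : stabilizer G A, ∀ i, ∃ j, ((g : G) : Equiv.Perm α) (e i) = e j := by
        intro g i
        have hg : (g : G) • (Finset.univ.map e) = Finset.univ.map e := congrArg Subtype.val g.2
        have : (g : G) • (e i) ∈ Finset.univ.map e := by
          exact hg.subset (Finset.smul_mem_smul_finset (by simp))
        obtain ⟨j, -, hj⟩ := Finset.mem_map.mp this
        exact ⟨j, hj.symm⟩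
      choose π hπ using hmem
      have hinj : ∀ g, Function.Injective (π g) := fun g i j h =>
        e.injective (((g : G) : Equiv.Perm α).injective (by rw [hπ, hπ, h]))
      let F : stabilizer G A → X := fun g =>
        ⟨Equiv.ofBijective (π g) (Finite.injective_iff_bijective.mp (hinj g)),
          ((g : G) : Equiv.Perm α), (g : G).2, hπ g⟩
      refine Nat.card_eq_of_bijective F ⟨fun g g' h => ?_, fun σ => ?_⟩
      · have h' : ∀ i, π g i = π g' i := fun i =>
          DFunLike.congr_fun (congrArg Subtype.val h) i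
        have hfix : (g' : G)⁻¹ * (g : G) = 1 := hB _ e (Function.Embedding.ext fun i => by
          show ((g' : G) : Equiv.Perm α)⁻¹ (((g : G) : Equiv.Perm α) (e i)) = e i
          rw [Equiv.Perm.inv_eq_iff_eq, hπ, hπ, h'])
        exact Subtype.ext (inv_mul_eq_one.mp hfix).symm
      · obtain ⟨g, hg, hgσ⟩ := σ.2
        have hgA : (⟨g, hg⟩ : G) ∈ stabilizer G A := by
          refine Subtype.ext (Finset.eq_of_subset_of_card_le ?_ ?_)
          · intro y hy
            obtain ⟨z, hz, rfl⟩ := Finset.mem_smul_finset.mp hy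
            obtain ⟨i, -, rfl⟩ := Finset.mem_map.mp hz
            exact Finset.mem_map.mpr ⟨_, Finset.mem_univ _, (hgσ i).symm⟩
          · exact (Finset.card_smul_finset (⟨g, hg⟩ : G) (Finset.univ.map e)).ge
        refine ⟨⟨⟨g, hg⟩, hgA⟩, Subtype.ext (Equiv.ext fun i => e.injective ?_)⟩
        exact (hπ ⟨⟨g, hg⟩, hgA⟩ i).symm.trans (hgσ i)
    rw [← hidx, ← hstab, mul_comm]
    exact (Subgroup.card_mul_index _).symm
  have hDpos : 0 < n.descFactorial m := Nat.descFactorial_pos.mpr (by omega)
  -- n - m = r * l
  have hrl : r * l = n - m := by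
    have h1 : (m + 1).factorial * n.choose (m + 1) = n.descFactorial m * (n - m) := by
      rw [← Nat.descFactorial_eq_factorial_mul_choose, Nat.descFactorial_succ, mul_comm]
    have h2 : n.descFactorial m * (x * (r * l)) = n.descFactorial m * (x * (n - m)) := by
      calc n.descFactorial m * (x * (r * l)) = (x * r) * (n.descFactorial m * l) := by ring
        _ = (m + 1).factorial * (n.choose (m + 1) * x) := by rw [hxr, ← hcard, hcardX]
        _ = ((m + 1).factorial * n.choose (m + 1)) * x := by ring
        _ = n.descFactorial m * (x * (n - m)) := by rw [h1]; ring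
    exact Nat.eq_of_mul_eq_mul_left Nat.card_pos (Nat.eq_of_mul_eq_mul_left hDpos h2)
  -- (n - m - 1) divides (m + 2) * x
  have hdvd : n - (m + 1) ∣ (m + 2) * x := by
    obtain ⟨B⟩ : Nonempty (Fin (m + 2) ↪ α) :=
      Function.Embedding.nonempty_of_card_le (by rw [Fintype.card_fin]; omega)
    let A : Set.powersetCard α (m + 2) := ⟨Finset.univ.map B, by simp [Set.powersetCard.mem_iff]⟩
    have huniv : orbit G A = Set.univ := Set.eq_univ_of_forall fun f => hh2.exists_smul_eq A f
    have hidx : (stabilizer G A).index = n.choose (m + 2) := by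
      refine (MulAction.index_stabilizer (G := G) A).trans ((congrArg Set.ncard huniv).trans ?_)
      rw [Set.ncard_univ, Set.powersetCard.card, Nat.card_eq_fintype_card]
    obtain ⟨q, hq⟩ : n.choose (m + 2) ∣ Nat.card G := hidx ▸ Subgroup.index_dvd_card _
    have hrec : n.choose (m + 2) * (m + 2) = n.choose (m + 1) * (n - (m + 1)) :=
      Nat.choose_succ_right_eq n (m + 1)
    refine ⟨q, ?_⟩
    have hpos : 0 < n.choose (m + 1) := Nat.choose_pos (by omega)
    refine Nat.eq_of_mul_eq_mul_left hpos ?_
    calc n.choose (m + 1) * ((m + 2) * x) = (m + 2) * (n.choose (m + 1) * x) := by ring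
      _ = n.choose (m + 1) * ((n - (m + 1)) * q) := by
        rw [← hcardX, hq, ← mul_assoc (n.choose (m + 1)), ← hrec]; ring
  -- elements of the tuple stabiliser
  have hfixK : ∀ g ∈ stabilizer G u, ∀ i, (g : Equiv.Perm α) (u i) = u i :=
    fun g hg i => DFunLike.congr_fun (MulAction.mem_stabilizer_iff.mp hg) i
  have hmany : ∀ g : G, g ≠ 1 → (fixF (β := α) g).card ≤ m := by
    intro g hg
    by_contra hcon
    obtain ⟨f⟩ : Nonempty (Fin (m + 1) ↪ {y : α // y ∈ fixF g}) :=
      Function.Embedding.nonempty_of_card_le (by rw [Fintype.card_fin, Fintype.card_coe]; omega)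
    refine hg (hB g (f.trans (Function.Embedding.subtype _)) (Function.Embedding.ext fun i => ?_))
    exact (Finset.mem_filter.mp (f i).2).2
  have hinvol_u : Even l → ∃ z : G, z * z = 1 ∧ z ≠ 1 ∧ ∀ i, (z : Equiv.Perm α) (u i) = u i := by
    intro hev
    haveI : Fact (Nat.Prime 2) := ⟨Nat.prime_two⟩
    obtain ⟨k, hk⟩ := exists_prime_orderOf_dvd_card' (G := stabilizer G u) 2
      (even_iff_two_dvd.mp hev)
    refine ⟨k, ?_, ?_, hfixK k k.2⟩
    · have h := pow_orderOf_eq_one k
      rw [hk, pow_two] at h
      simpa using congrArg Subtype.val h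
    · intro h
      have h' : k = 1 := Subtype.ext h
      rw [h', orderOf_one] at hk
      omega
  have hU : (Finset.univ.map u).card = m := by simp
  -- a single two-cycle plus fixed points
  have hone : Even l → ∃ σ ∈ X, Equiv.Perm.sign σ = (-1) ^ 1 ∧ (0 < 1 → orderOf σ = 2) := by
    intro hev
    obtain ⟨z, hz2, hz1, hzu⟩ := hinvol_u hev
    obtain ⟨a, ha⟩ : ∃ a, (z : Equiv.Perm α) a ≠ a := by
      by_contra hc
      push Not at hc
      exact hz1 (Subtype.ext (Equiv.ext hc))
    have hzz : ∀ y, (z : Equiv.Perm α) ((z : Equiv.Perm α) y) = y := fun y =>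
      DFunLike.congr_fun (congrArg Subtype.val hz2) y
    obtain ⟨s, hs, hsc⟩ := Finset.exists_subset_card_eq (s := Finset.univ.map u) (n := m - 1)
      (by omega)
    have hsfix : ∀ y ∈ s, (z : Equiv.Perm α) y = y := by
      intro y hy
      obtain ⟨i, -, rfl⟩ := Finset.mem_map.mp (hs hy)
      exact hzu i
    have ha' : (z : Equiv.Perm α) ((z : Equiv.Perm α) a) ≠ (z : Equiv.Perm α) a := by
      rw [hzz]; exact Ne.symm ha
    have hnot : a ∉ s ∧ (z : Equiv.Perm α) a ∉ s :=
      ⟨fun h => ha (hsfix a h), fun h => ha' (hsfix _ h)⟩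
    refine sign_witness hh1 e z.2 (congrArg Subtype.val hz2)
      (insert a (insert ((z : Equiv.Perm α) a) s)) ?_ ?_ 1 ?_
    · rw [Finset.card_insert_of_notMem (by simp [hnot.1, Ne.symm ha]),
        Finset.card_insert_of_notMem hnot.2, hsc]
      omega
    · intro y hy
      simp only [Finset.mem_insert] at hy ⊢
      rcases hy with rfl | rfl | hy
      · exact Or.inr (Or.inl rfl)
      · exact Or.inl (hzz a)
      · exact Or.inr (Or.inr (by rw [hsfix y hy]; exact hy))
    · rw [Finset.filter_insert, if_pos ha, Finset.filter_insert, if_pos ha',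
        Finset.filter_false_of_mem (fun y hy => not_not.mpr (hsfix y hy))]
      simp [Ne.symm ha]
  by_cases hm4 : 4 ≤ m
  · -- large m : X is the alternating group
    have hbound := Cfsg.Agent.KTransAlt59.degree_bound m hm4 G α ht hB l
      (by rw [hcard, Nat.card_eq_fintype_card]) (by rw [Nat.card_eq_fintype_card]; omega)
    rw [Nat.card_eq_fintype_card, ← hndef] at hbound
    have hr4 : r ≤ 4 := by
      rcases hbound with h | ⟨-, h⟩
      · refine Nat.le_of_mul_le_mul_right ?_ hlpos
        omega
      · omega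
    have hrpos : 0 < r := Nat.pos_of_ne_zero (Subgroup.index_ne_zero_of_finite)
    haveI : IsSimpleGroup (alternatingGroup (Fin (m + 1))) :=
      alternatingGroup.isSimpleGroup (by rw [Nat.card_fin]; omega)
    haveI : Nontrivial (Fin (m + 1)) := Fin.nontrivial_iff_two_le.mpr (by omega)
    have hA2 : 2 * Nat.card (alternatingGroup (Fin (m + 1))) = (m + 1).factorial := by
      have := two_mul_nat_card_alternatingGroup (α := Fin (m + 1))
      rwa [Nat.card_perm, Nat.card_fin] at this
    obtain ⟨y, hy⟩ := Cfsg.Agent.KTransAlt59.exists_fixed_point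
      ((MulAction.toPermHom (Equiv.Perm (Fin (m + 1))) (Equiv.Perm (Fin (m + 1)) ⧸ X)).comp
        (alternatingGroup (Fin (m + 1))).subtype) (m + 1)
      (fun q hq => by
        have h1 : q.factorial ≤ m.factorial := Nat.factorial_le (by omega)
        have h2 : (m + 1).factorial = (m + 1) * m.factorial := Nat.factorial_succ m
        have h3 := Nat.factorial_pos m
        nlinarith) (Or.inl (by rw [← Subgroup.index, ← hrdef]; omega))
    have hAX : alternatingGroup (Fin (m + 1)) ≤ X := by
      induction y using QuotientGroup.induction_on with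
      | H c =>
        intro σ hσ
        have hc : c * σ * c⁻¹ ∈ alternatingGroup (Fin (m + 1)) :=
          (inferInstance : (alternatingGroup (Fin (m + 1))).Normal).conj_mem σ hσ c
        have h := hy ⟨c * σ * c⁻¹, hc⟩
        have h' : (((c * σ * c⁻¹) * c : Equiv.Perm (Fin (m + 1))) :
            Equiv.Perm (Fin (m + 1)) ⧸ X) = c := h
        rw [eq_comm, QuotientGroup.eq] at h'
        simpa using h'
    have hr2 : r = 2 := by
      have h := Subgroup.index_dvd_of_le hAX
      rw [alternatingGroup.index_eq_two] at h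
      rcases (Nat.dvd_prime Nat.prime_two).mp h with h | h
      · exact absurd h hr1
      · exact h
    have heven : ∀ σ ∈ X, Equiv.Perm.sign σ = 1 := by
      intro σ hσ
      rw [Equiv.Perm.eq_alternatingGroup_of_index_eq_two (G := X) hr2] at hσ
      exact Equiv.Perm.mem_alternatingGroup.mp hσ
    rw [hr2] at hrl
    rcases Nat.even_or_odd l with hev | hodd
    · obtain ⟨σ, hσ, hs, -⟩ := hone hev
      rw [heven σ hσ] at hs
      exact absurd hs (by decide)
    · rcases (show m = 4 ∨ 5 ≤ m by omega) with rfl | hm5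
      · exact inverts_contradiction G l hodd (by omega) (by omega) ht hcard hB
      · -- an involution swapping two points of u, with three two-cycles on an invariant set
        have h0 : (⟨0, by omega⟩ : Fin m) ≠ ⟨1, by omega⟩ := by simp
        set i0 : Fin m := ⟨0, by omega⟩
        set i1 : Fin m := ⟨1, by omega⟩
        obtain ⟨g, hg⟩ := ht.exists_smul_eq u ((Equiv.swap i0 i1).toEmbedding.trans u)
        have hgu : ∀ i, (g : Equiv.Perm α) (u i) = u (Equiv.swap i0 i1 i) := fun i =>
          DFunLike.congr_fun hg i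
        have hgK : g * g ∈ stabilizer G u := by
          refine Function.Embedding.ext fun i => ?_
          show (g : Equiv.Perm α) ((g : Equiv.Perm α) (u i)) = u i
          rw [hgu, hgu, Equiv.swap_apply_self]
        have hgl : (g * g) ^ l = 1 := by
          have := pow_card_eq_one' (x := (⟨g * g, hgK⟩ : stabilizer G u))
          simpa [hldef] using congrArg Subtype.val this
        obtain ⟨q, hq⟩ := hodd
        set t : G := g ^ l with htdef
        have htu : ∀ i, (t : Equiv.Perm α) (u i) = u (Equiv.swap i0 i1 i) := by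
          intro i
          have hsq : (g * g) ^ q ∈ stabilizer G u := Subgroup.pow_mem _ hgK q
          rw [htdef, hq, pow_succ, pow_mul, pow_two, Subgroup.coe_mul, Equiv.Perm.mul_apply,
            hgu, hfixK _ hsq]
        have ht2 : t * t = 1 := by rw [htdef, ← pow_add, ← two_mul, pow_mul, pow_two, hgl]
        have ht1 : t ≠ 1 := by
          intro h
          have := htu i0
          rw [h, Equiv.swap_apply_left] at this
          exact h0 (u.injective this)
        have hzz : ∀ y, (t : Equiv.Perm α) ((t : Equiv.Perm α) y) = y := fun y =>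
          DFunLike.congr_fun (congrArg Subtype.val ht2) y
        let M := Finset.univ.filter (fun y => (t : Equiv.Perm α) y ≠ y)
        have hM6 : 6 ≤ M.card := by
          have h1 := card_fix_add_mov (β := α) t
          have h2 := hmany t ht1
          have : movF (β := α) t = M := by
            ext y
            simp [movF, M, Subgroup.smul_def, Equiv.Perm.smul_def]
          rw [this] at h1
          omega
        have hstep : ∀ P : Finset α, P ⊆ M → (∀ y ∈ P, (t : Equiv.Perm α) y ∈ P) →
            P.card < 6 → ∃ P' : Finset α, P' ⊆ M ∧ (∀ y ∈ P', (t : Equiv.Perm α) y ∈ P') ∧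
              P'.card = P.card + 2 := by
          intro P hP hPinv hPc
          obtain ⟨y, hy⟩ : (M \ P).Nonempty := by
            rw [← Finset.card_pos, Finset.card_sdiff_of_subset hP]
            omega
          obtain ⟨hyM, hyP⟩ := Finset.mem_sdiff.mp hy
          have hy' : (t : Equiv.Perm α) y ≠ y := (Finset.mem_filter.mp hyM).2
          have hty : (t : Equiv.Perm α) y ∉ P := fun h => hyP (hzz y ▸ hPinv _ h)
          refine ⟨insert y (insert ((t : Equiv.Perm α) y) P), ?_, ?_, ?_⟩
          · intro w hw
            simp only [Finset.mem_insert] at hw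
            rcases hw with rfl | rfl | hw
            · exact hyM
            · exact Finset.mem_filter.mpr ⟨Finset.mem_univ _, by rw [hzz]; exact Ne.symm hy'⟩
            · exact hP hw
          · intro w hw
            simp only [Finset.mem_insert] at hw ⊢
            rcases hw with rfl | rfl | hw
            · exact Or.inr (Or.inl rfl)
            · exact Or.inl (hzz y)
            · exact Or.inr (Or.inr (hPinv _ hw))
          · rw [Finset.card_insert_of_notMem (by simp [hyP, Ne.symm hy']),
              Finset.card_insert_of_notMem hty]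
        obtain ⟨P1, hP1, hP1i, hP1c⟩ := hstep ∅ (Finset.empty_subset _) (by simp) (by simp)
        obtain ⟨P2, hP2, hP2i, hP2c⟩ := hstep P1 hP1 hP1i (by simp at hP1c; omega)
        obtain ⟨P3, hP3, hP3i, hP3c⟩ := hstep P2 hP2 hP2i (by simp at hP1c; omega)
        simp only [Finset.card_empty] at hP1c
        obtain ⟨Q, hQ, hQc⟩ := Finset.exists_subset_card_eq
          (s := (((Finset.univ.map u).erase (u i0)).erase (u i1))) (n := m - 5)
          (by
            rw [Finset.card_erase_of_mem (by simp [Ne.symm h0]), Finset.card_erase_of_mem (by simp)]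
            omega)
        have hQfix : ∀ y ∈ Q, (t : Equiv.Perm α) y = y := by
          intro y hy
          have := hQ hy
          simp only [Finset.mem_erase, Finset.mem_map, Finset.mem_univ, true_and] at this
          obtain ⟨hy1, hy0, i, rfl⟩ := this
          rw [htu, Equiv.swap_apply_of_ne_of_ne (fun h => hy0 (congrArg u h))
            (fun h => hy1 (congrArg u h))]
        have hdisj : Disjoint P3 Q := Finset.disjoint_left.mpr fun y hyP hyQ =>
          (Finset.mem_filter.mp (hP3 hyP)).2 (hQfix y hyQ)
        obtain ⟨σ, hσ, hs, -⟩ := sign_witness hh1 e t.2 (congrArg Subtype.val ht2) (P3 ∪ Q)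
          (by rw [Finset.card_union_of_disjoint hdisj]; omega)
          (fun y hy => by
            rcases Finset.mem_union.mp hy with hy | hy
            · exact Finset.mem_union_left _ (hP3i y hy)
            · rw [hQfix y hy]; exact Finset.mem_union_right _ hy)
          3 (by
            rw [Finset.filter_union, Finset.filter_true_of_mem
              (fun y hy => (Finset.mem_filter.mp (hP3 hy)).2),
              Finset.filter_false_of_mem (fun y hy => not_not.mpr (hQfix y hy)),
              Finset.union_empty]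
            omega)
        rw [heven σ hσ] at hs
        exact absurd hs (by decide)
  · -- small m
    have hxdvd : r ∣ (m + 1).factorial := ⟨x, by rw [← hxr, mul_comm]⟩
    rcases (show m = 1 ∨ m = 2 ∨ m = 3 by omega) with rfl | rfl | rfl
    · have hr := Nat.le_of_dvd (by decide) hxdvd
      simp [Nat.factorial] at hxr hr
      have hrpos : 0 < r := Nat.pos_of_ne_zero (by rintro h; rw [h, mul_zero] at hxr; omega)
      have hx1 : x = 1 := by interval_cases r <;> omega
      rw [hx1] at hdvd
      have := Nat.le_of_dvd (by norm_num) hdvd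
      omega
    · -- m = 2
      simp only [show (2 + 1).factorial = 6 from rfl] at hxr hxdvd
      have hr := Nat.le_of_dvd (by norm_num) hxdvd
      have hrpos : 0 < r := Nat.pos_of_ne_zero (by rintro h; rw [h, mul_zero] at hxr; omega)
      have hnb := Nat.le_of_dvd (Nat.mul_pos (by omega) hxpos) hdvd
      have hsol : x = 2 ∧ l = 3 ∧ n = 11 := by
        obtain ⟨q, hq⟩ := hdvd
        interval_cases r
        · omega
        · have hxv : x = 3 := by omega
          rw [hxv] at hq hnb ⊢
          have hn15 : n ≤ 15 := by omega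
          interval_cases n <;> omega
        · have hxv : x = 2 := by omega
          rw [hxv] at hq hnb ⊢
          have hn11 : n ≤ 11 := by omega
          interval_cases n <;> omega
        · omega
        · omega
        · have hxv : x = 1 := by omega
          rw [hxv] at hq hnb ⊢
          omega
      obtain ⟨hx2, hl3, hn11⟩ := hsol
      haveI : Fact (Nat.Prime 3) := ⟨by norm_num⟩
      obtain ⟨k, hk⟩ := exists_prime_orderOf_dvd_card' (G := stabilizer G u) 3
        (by rw [← hldef, hl3])
      have hk3 : (((k : G) : Equiv.Perm α)) ^ 3 = 1 ∧ ((k : G) : Equiv.Perm α) ≠ 1 := by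
        rw [← Subgroup.orderOf_coe, ← Subgroup.orderOf_coe] at hk
        refine ⟨hk ▸ pow_orderOf_eq_one _, fun h => ?_⟩
        rw [h, orderOf_one] at hk
        omega
      obtain ⟨c, hc1, hc2, hc3⟩ := exists_three_orbit _ hk3.1 hk3.2
      set z : Equiv.Perm α := ((k : G) : Equiv.Perm α) with hzdef
      refine three_cycle_contra hh1 e (by rw [← hX, ← hxdef, hx2]; norm_num) (k : G).2 hk3.1
        {c, z c, z (z c)} ?_ ?_ (by simp) hc1
      · rw [Finset.card_insert_of_notMem (by simp [Ne.symm hc1, Ne.symm hc2]),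
          Finset.card_pair (fun h => hc1 (z.injective h).symm)]
      · intro y hy
        simp only [Finset.mem_insert, Finset.mem_singleton] at hy ⊢
        rcases hy with rfl | rfl | rfl
        · exact Or.inr (Or.inl rfl)
        · exact Or.inr (Or.inr rfl)
        · exact Or.inl hc3
    · -- m = 3
      simp only [show (3 + 1).factorial = 24 from rfl] at hxr hxdvd
      have hr := Nat.le_of_dvd (by norm_num) hxdvd
      have hrpos : 0 < r := Nat.pos_of_ne_zero (by rintro h; rw [h, mul_zero] at hxr; omega)
      have hnb := Nat.le_of_dvd (Nat.mul_pos (by omega) hxpos) hdvd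
      have hsol : (n = 19 ∧ Even l ∧ (x = 12 ∧ r = 2 ∨ x = 6 ∨ x = 3)) ∨
          (n = 12 ∧ l = 3 ∧ x = 8) ∨ (n = 24 ∧ l = 7 ∧ x = 8) := by
        obtain ⟨q, hq⟩ := hdvd
        rw [Nat.even_iff]
        interval_cases r
        all_goals first
          | omega
          | (have hxv : x = 12 := by omega
             rw [hxv] at hq hnb ⊢
             have hn64 : n ≤ 64 := by omega
             interval_cases n <;> omega)
          | (have hxv : x = 8 := by omega
             rw [hxv] at hq hnb ⊢
             have hn44 : n ≤ 44 := by omega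
             interval_cases n <;> omega)
          | (have hxv : x = 6 := by omega
             rw [hxv] at hq hnb ⊢
             have hn34 : n ≤ 34 := by omega
             interval_cases n <;> omega)
          | (have hxv : x = 4 := by omega
             rw [hxv] at hq hnb ⊢
             have hn24 : n ≤ 24 := by omega
             interval_cases n <;> omega)
          | (have hxv : x = 3 := by omega
             rw [hxv] at hq hnb ⊢
             have hn19 : n ≤ 19 := by omega
             interval_cases n <;> omega)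
          | (have hxv : x = 2 := by omega
             rw [hxv] at hq hnb ⊢
             have hn14 : n ≤ 14 := by omega
             interval_cases n <;> omega)
      rcases hsol with ⟨hn19, hev, hx⟩ | ⟨hn12, hl3, hx8⟩ | ⟨hn24, hl7, hx8⟩
      · obtain ⟨σ, hσ, hs, ho⟩ := hone hev
        rcases hx with ⟨-, hr2⟩ | hx6 | hx3
        · rw [Equiv.Perm.eq_alternatingGroup_of_index_eq_two (G := X) hr2,
            Equiv.Perm.mem_alternatingGroup] at hσ
          rw [hσ] at hs
          exact absurd hs (by decide)
        · -- two two-cycles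
          obtain ⟨z, hz2, hz1, hzu⟩ := hinvol_u hev
          have hzz : ∀ y, (z : Equiv.Perm α) ((z : Equiv.Perm α) y) = y := fun y =>
            DFunLike.congr_fun (congrArg Subtype.val hz2) y
          have hf := hmany z hz1
          have hfm := card_fix_add_mov (β := α) z
          obtain ⟨a, ha⟩ : (movF (β := α) z).Nonempty := Finset.card_pos.mp (by omega)
          have ha' : (z : Equiv.Perm α) a ≠ a := (Finset.mem_filter.mp ha).2
          obtain ⟨b, hb⟩ : (movF (β := α) z \ {a, (z : Equiv.Perm α) a}).Nonempty := by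
            rw [← Finset.card_pos]
            have := Finset.le_card_sdiff {a, (z : Equiv.Perm α) a} (movF (β := α) z)
            have := Finset.card_le_two (a := a) (b := (z : Equiv.Perm α) a)
            omega
          simp only [Finset.mem_sdiff, Finset.mem_insert, Finset.mem_singleton, not_or] at hb
          obtain ⟨hbm, hba, hbz⟩ := hb
          have hb' : (z : Equiv.Perm α) b ≠ b := (Finset.mem_filter.mp hbm).2
          have hazb : a ≠ (z : Equiv.Perm α) b := fun h => hbz (by rw [h, hzz])
          have hzab : (z : Equiv.Perm α) a ≠ (z : Equiv.Perm α) b := fun h =>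
            hba ((z : Equiv.Perm α).injective h).symm
          obtain ⟨δ, hδ, hδs, hδo⟩ := sign_witness hh1 e z.2 (congrArg Subtype.val hz2)
            {a, (z : Equiv.Perm α) a, b, (z : Equiv.Perm α) b}
            (by
              rw [Finset.card_insert_of_notMem (by simp [Ne.symm ha', Ne.symm hba, hazb]),
                Finset.card_insert_of_notMem (by simp [Ne.symm hbz, hzab]),
                Finset.card_pair (Ne.symm hb')])
            (fun y hy => by
              simp only [Finset.mem_insert, Finset.mem_singleton] at hy ⊢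
              rcases hy with rfl | rfl | rfl | rfl
              · exact Or.inr (Or.inl rfl)
              · exact Or.inl (hzz a)
              · exact Or.inr (Or.inr (Or.inr rfl))
              · exact Or.inr (Or.inr (Or.inl (hzz b))))
            2 (by
              rw [Finset.filter_true_of_mem]
              · rw [Finset.card_insert_of_notMem (by simp [Ne.symm ha', Ne.symm hba, hazb]),
                  Finset.card_insert_of_notMem (by simp [Ne.symm hbz, hzab]),
                  Finset.card_pair (Ne.symm hb')]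
              · intro y hy
                simp only [Finset.mem_insert, Finset.mem_singleton] at hy
                rcases hy with rfl | rfl | rfl | rfl
                · exact ha'
                · rw [hzz]; exact Ne.symm ha'
                · exact hb'
                · rw [hzz]; exact Ne.symm hb')
          exact six_no_even X hx6 hδ (by rw [hδs]; decide) (hδo (by norm_num))
        · have := orderOf_dvd_natCard (⟨σ, hσ⟩ : X)
          rw [Subgroup.orderOf_mk, ho one_pos, ← hxdef, hx3] at this
          omega
      · haveI : Fact (Nat.Prime 3) := ⟨by norm_num⟩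
        obtain ⟨k, hk⟩ := exists_prime_orderOf_dvd_card' (G := stabilizer G u) 3
          (by rw [← hldef, hl3])
        have hk3 : (((k : G) : Equiv.Perm α)) ^ 3 = 1 ∧ ((k : G) : Equiv.Perm α) ≠ 1 := by
          rw [← Subgroup.orderOf_coe, ← Subgroup.orderOf_coe] at hk
          refine ⟨(congrArg (((k : G) : Equiv.Perm α) ^ ·) hk).symm.trans (pow_orderOf_eq_one _), fun h => ?_⟩
          rw [h, orderOf_one] at hk
          omega
        obtain ⟨c, hc1, hc2, hc3⟩ := exists_three_orbit _ hk3.1 hk3.2
        set z : Equiv.Perm α := ((k : G) : Equiv.Perm α) with hzdef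
        have hu0 : z (u 0) = u 0 := hfixK k k.2 0
        have hd1 : u 0 ≠ c := fun h => hc1 (by rw [← h]; exact hu0)
        have hd2 : u 0 ≠ z c := fun h => hd1 (z.injective (hu0.trans h))
        have hd3 : u 0 ≠ z (z c) := fun h => hd2 (z.injective (hu0.trans h))
        refine three_cycle_contra hh1 e (by rw [← hX, ← hxdef, hx8]; norm_num) (k : G).2 hk3.1
          {u 0, c, z c, z (z c)} ?_ ?_ (by simp) hc1
        · rw [Finset.card_insert_of_notMem (by simp [hd1, hd2, hd3]),
            Finset.card_insert_of_notMem (by simp [Ne.symm hc1, Ne.symm hc2]),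
            Finset.card_pair (fun h => hc1 (z.injective h).symm)]
        · intro y hy
          simp only [Finset.mem_insert, Finset.mem_singleton] at hy ⊢
          rcases hy with rfl | rfl | rfl | rfl
          · exact Or.inl hu0
          · exact Or.inr (Or.inr (Or.inl rfl))
          · exact Or.inr (Or.inr (Or.inr rfl))
          · exact Or.inr (Or.inl hc3)
      · refine not_degree_24 G hn24 (isMultiplyPretransitive_of_le (n := 3) (by omega)
          (by rw [Nat.card_eq_fintype_card]; omega)) ?_
        rw [hcard, hn24, hl7]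
        rfl

end

end Cfsg.Agent.LWStep59
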