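import Mathlib
import Cfsg.Agent.Lib.LargeExtraspecialAffine

/-!
The two instances of the model: `SL_{n+2}(2)` with a transvection, and `AGL_{n+1}(2)` with a translation.
-/

set_option autoImplicit false
set_option maxHeartbeats 800000

namespace Cfsg.Agent.LargeExtraspecialAffine

open Matrix LargeExtraspecial

/-! ### The special linear group -/

section SL

variable {n : ℕ}

/-- `SL_{n+2}(2)`. -/
abbrev SL2 (n : ℕ) := Matrix.SpecialLinearGroup (Fin (n + 2)) (ZMod 2)

theorem val_mul (g g' : SL2 n) : ((g * g' : SL2 n) : Matrix (Fin (n + 2)) (Fin (n + 2)) (ZMod 2)) =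
    (g : Matrix (Fin (n + 2)) (Fin (n + 2)) (ZMod 2)) * (g' : Matrix (Fin (n + 2)) (Fin (n + 2)) (ZMod 2)) := rfl

theorem val_one : ((1 : SL2 n) : Matrix (Fin (n + 2)) (Fin (n + 2)) (ZMod 2)) = 1 := rfl

theorem succ_succ_ne_one (j : Fin n) : (j.succ.succ : Fin (n + 2)) ≠ 1 := fun e => by
  simpa [Fin.ext_iff] using e

/-- The block matrix `[[1, c, a], [0, 1, 0], [0, b, A]]`. -/
def blk (a : Fin n → ZMod 2) (c : ZMod 2) (A : Matrix (Fin n) (Fin n) (ZMod 2)) (b : Fin n → ZMod 2) :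
    Matrix (Fin (n + 2)) (Fin (n + 2)) (ZMod 2) :=
  Matrix.of (Fin.cons (Fin.cons 1 (Fin.cons c a)) (Fin.cons (Fin.cons 0 (Fin.cons 1 0))
    (fun i => Fin.cons 0 (Fin.cons (b i) (A i)))))

theorem dot_cons {m : ℕ} (x y : ZMod 2) (u v : Fin m → ZMod 2) :
    (Fin.cons x u : Fin (m + 1) → ZMod 2) ⬝ᵥ Fin.cons y v = x * y + u ⬝ᵥ v := by
  simp [dotProduct, Fin.sum_univ_succ]

theorem blk_mulVec (a : Fin n → ZMod 2) (c : ZMod 2) (A : Matrix (Fin n) (Fin n) (ZMod 2))
    (b : Fin n → ZMod 2) (x₀ x₁ : ZMod 2) (v : Fin n → ZMod 2) :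
    blk a c A b *ᵥ Fin.cons x₀ (Fin.cons x₁ v) =
      Fin.cons (x₀ + c * x₁ + a ⬝ᵥ v) (Fin.cons x₁ (x₁ • b + A *ᵥ v)) := by
  funext i
  refine Fin.cases ?_ (fun i => ?_) i
  · simp [Matrix.mulVec, blk, dot_cons, add_assoc]
  refine Fin.cases ?_ (fun i => ?_) i
  · simp [Matrix.mulVec, blk, dot_cons]
  · simp [Matrix.mulVec, blk, dot_cons, mul_comm]

theorem eq_of_cons {M N : Matrix (Fin (n + 2)) (Fin (n + 2)) (ZMod 2)}
    (h : ∀ (x₀ x₁ : ZMod 2) (v : Fin n → ZMod 2),
      M *ᵥ Fin.cons x₀ (Fin.cons x₁ v) = N *ᵥ Fin.cons x₀ (Fin.cons x₁ v)) : M = N :=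
  Matrix.ext_of_mulVec_single fun k => by
    have e : (Pi.single k 1 : Fin (n + 2) → ZMod 2) = Fin.cons ((Pi.single k 1 : Fin (n + 2) → ZMod 2) 0)
        (Fin.cons ((Pi.single k 1 : Fin (n + 2) → ZMod 2) 1)
          (Fin.tail (Fin.tail (Pi.single k 1 : Fin (n + 2) → ZMod 2)))) := by
      funext i
      refine Fin.cases ?_ (fun i => ?_) i
      · rfl
      refine Fin.cases ?_ (fun i => ?_) i
      · rfl
      · rfl
    rw [e]; exact h _ _ _

theorem blk_mul (a a' : Fin n → ZMod 2) (c c' : ZMod 2) (A A' : Matrix (Fin n) (Fin n) (ZMod 2))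
    (b b' : Fin n → ZMod 2) :
    blk a c A b * blk a' c' A' b' = blk (a' + a ᵥ* A') (c + c' + a ⬝ᵥ b') (A * A') (b + A *ᵥ b') := by
  refine eq_of_cons fun x₀ x₁ v => ?_
  rw [← mulVec_mulVec, blk_mulVec, blk_mulVec, blk_mulVec]
  have e : ∀ i, (x₁ • b + A *ᵥ (x₁ • b' + A' *ᵥ v)) i = (x₁ • (b + A *ᵥ b') + (A * A') *ᵥ v) i := fun i => by
    simp only [mulVec_add, mulVec_smul, mulVec_mulVec, smul_add, Pi.add_apply]; ring
  rw [funext e]
  congr 1
  simp only [dotProduct_add, dotProduct_smul, add_dotProduct, dotProduct_mulVec, smul_eq_mul]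
  ring

theorem blk_one : blk (0 : Fin n → ZMod 2) 0 1 0 = 1 :=
  eq_of_cons fun x₀ x₁ v => by simp [blk_mulVec]

/-- The matrix of a model element. -/
def blkP (p : Pb n) : Matrix (Fin (n + 2)) (Fin (n + 2)) (ZMod 2) := blk p.row p.cc p.lev p.col

theorem det_eq_one {m : ℕ} {M N : Matrix (Fin m) (Fin m) (ZMod 2)} (h : M * N = 1) : M.det = 1 := by
  have := congrArg Matrix.det h
  rw [Matrix.det_mul, Matrix.det_one] at this
  rcases z2_cases M.det with e | e
  · rw [e, zero_mul] at this; exact absurd this zero_ne_one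
  · exact e

theorem blkP_mul (p r : Pb n) : blkP (p * r) = blkP p * blkP r := by
  simp [blkP, blk_mul, mul_row, mul_cc, mul_lev, mul_col]

/-- The embedding of the model. -/
def slEmb : Pb n →* SL2 n where
  toFun p := ⟨blkP p, det_eq_one (N := blkP p⁻¹) (by
    rw [← blkP_mul, mul_inv_cancel]; exact blk_one)⟩
  map_one' := Subtype.ext blk_one
  map_mul' p r := Subtype.ext (blkP_mul p r)

theorem slEmb_coe (p : Pb n) : (slEmb p : Matrix (Fin (n + 2)) (Fin (n + 2)) (ZMod 2)) = blkP p := rfl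

theorem blk_inj {a a' : Fin n → ZMod 2} {c c' : ZMod 2} {A A' : Matrix (Fin n) (Fin n) (ZMod 2)}
    {b b' : Fin n → ZMod 2} (h : blk a c A b = blk a' c' A' b') :
    a = a' ∧ c = c' ∧ A = A' ∧ b = b' := by
  refine ⟨funext fun i => ?_, ?_, Matrix.ext fun i j => ?_, funext fun i => ?_⟩
  · simpa [blk] using congrFun (congrFun h 0) i.succ.succ
  · simpa [blk] using congrFun (congrFun h 0) (Fin.succ 0)
  · simpa [blk] using congrFun (congrFun h i.succ.succ) j.succ.succ
  · simpa [blk] using congrFun (congrFun h i.succ.succ) (Fin.succ 0)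

theorem slEmb_inj : Function.Injective (slEmb (n := n)) := fun p r h => by
  obtain ⟨h1, h2, h3, h4⟩ := blk_inj (congrArg Subtype.val h)
  exact Pb.ext h1 h2 (Units.ext h3) h4

variable {z : SL2 n} (hz : (z : Matrix (Fin (n + 2)) (Fin (n + 2)) (ZMod 2)) = Matrix.transvection 0 1 1)
include hz

theorem z_mulVec (v : Fin (n + 2) → ZMod 2) :
    (z : Matrix (Fin (n + 2)) (Fin (n + 2)) (ZMod 2)) *ᵥ v = v + v 1 • Pi.single 0 1 := by
  rw [hz, Matrix.transvection, add_mulVec, one_mulVec]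
  congr 1
  funext i
  rw [single_mulVec, Function.update_apply]
  by_cases e : i = 0
  · subst e; simp
  · simp [e]

theorem z_eq : slEmb (zP n) = z := by
  apply Subtype.ext
  refine eq_of_cons fun x₀ x₁ v => ?_
  rw [z_mulVec hz, slEmb_coe, blkP, blk_mulVec]
  funext i
  refine Fin.cases ?_ (fun i => ?_) i
  · simp [zP]
  refine Fin.cases ?_ (fun i => ?_) i <;> simp [zP, Fin.succ_ne_zero]

theorem range_slEmb : (slEmb (n := n)).range = Subgroup.centralizer ({z} : Set (SL2 n)) := by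
  apply le_antisymm
  · rintro _ ⟨p, rfl⟩
    rw [Subgroup.mem_centralizer_singleton_iff, ← z_eq hz, ← map_mul, ← map_mul]
    congr 1
    ext1
    · simp [mul_row, zP]
    · simp [mul_cc, zP, add_comm]
    · simp [mul_lev, zP]
    · simp [mul_col, zP]
  intro g hg
  have shape : ∀ g : SL2 n, g * z = z * g → ∃ a c A b,
      (g : Matrix (Fin (n + 2)) (Fin (n + 2)) (ZMod 2)) = blk a c A b := by
    intro g hg
    set G' := (g : Matrix (Fin (n + 2)) (Fin (n + 2)) (ZMod 2)) with hG'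
    have hgv : ∀ v, G' *ᵥ ((z : Matrix (Fin (n + 2)) (Fin (n + 2)) (ZMod 2)) *ᵥ v) =
        (z : Matrix (Fin (n + 2)) (Fin (n + 2)) (ZMod 2)) *ᵥ (G' *ᵥ v) := fun v => by
      rw [mulVec_mulVec, mulVec_mulVec, hG', ← val_mul, hg,
        val_mul]
    have key : ∀ v : Fin (n + 2) → ZMod 2,
        v 1 • (G' *ᵥ Pi.single 0 1) = (G' *ᵥ v) 1 • (Pi.single 0 1 : Fin (n + 2) → ZMod 2) := fun v => by
      have := hgv v
      rw [z_mulVec hz, z_mulVec hz, mulVec_add, mulVec_smul] at this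
      exact add_left_cancel this
    have hcol : G' *ᵥ (Pi.single 0 1 : Fin (n + 2) → ZMod 2) = Pi.single 0 1 := by
      have := key (Pi.single 1 1)
      rw [Pi.single_eq_same, one_smul] at this
      rcases z2_cases ((G' *ᵥ Pi.single 1 1) 1) with e | e <;> rw [e] at this
      · exfalso
        rw [zero_smul] at this
        have h0 : G'.det ≠ 0 := by rw [hG', g.prop]; exact one_ne_zero
        exact Matrix.mulVec_injective_iff_isUnit.mpr ((Matrix.isUnit_iff_isUnit_det _).mpr h0.isUnit)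
          |>.ne (show (Pi.single 0 1 : Fin (n + 2) → ZMod 2) ≠ 0 by simp) (this.trans (mulVec_zero _).symm)
      · simpa using this
    have hrow : ∀ v, (G' *ᵥ v) 1 = v 1 := fun v => by
      have := congrFun (key v) 0
      rw [hcol] at this
      simpa using this.symm
    refine ⟨fun j => G' 0 j.succ.succ, G' 0 1, Matrix.of fun i j => G' i.succ.succ j.succ.succ,
      fun i => G' i.succ.succ 1, ?_⟩
    ext i j
    have hc : ∀ i, G' i 0 = (Pi.single 0 1 : Fin (n + 2) → ZMod 2) i := fun i => by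
      rw [← congrFun hcol i, mulVec_single_one]; rfl
    have hr : ∀ j, G' 1 j = (Pi.single j 1 : Fin (n + 2) → ZMod 2) 1 := fun j => by
      rw [← hrow (Pi.single j 1), mulVec_single_one]; rfl
    refine Fin.cases ?_ (fun i => ?_) i <;> refine Fin.cases ?_ (fun j => ?_) j
    · simp [blk, hc]
    · refine Fin.cases ?_ (fun j => ?_) j <;> simp [blk]
    · refine Fin.cases ?_ (fun i => ?_) i <;> simp [blk, hc, Fin.succ_ne_zero]
    · refine Fin.cases ?_ (fun i => ?_) i
      · refine Fin.cases ?_ (fun j => ?_) j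
        · simp [blk, hr]
        · simp [blk, hr, succ_succ_ne_one, (succ_succ_ne_one _).symm]
      · refine Fin.cases ?_ (fun j => ?_) j <;> simp [blk]
  rw [Subgroup.mem_centralizer_singleton_iff] at hg
  obtain ⟨a, c, A, b, hA⟩ := shape g hg
  obtain ⟨a', c', A', b', hA'⟩ := shape g⁻¹ (Commute.inv_left hg).eq
  have hAA : A * A' = 1 := by
    have e := congrArg (fun x : SL2 n => (x : Matrix (Fin (n + 2)) (Fin (n + 2)) (ZMod 2)))
      (mul_inv_cancel g)
    simp only [val_mul, val_one, hA, hA', blk_mul] at e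
    exact (blk_inj (e.trans blk_one.symm)).2.2.1
  exact ⟨⟨a, c, ⟨A, A', hAA, mul_eq_one_comm.mp hAA⟩, b⟩, Subtype.ext hA.symm⟩

theorem sl_result (hn : 1 ≤ n) (Q : Subgroup (SL2 n))
    (hQ : Q = (Cfsg.pCore 2 ↥(Subgroup.centralizer ({z} : Set (SL2 n)))).map
      (Subgroup.centralizer ({z} : Set (SL2 n))).subtype) :
    Cfsg.IsExtraspecial 2 ↥Q ∧ Nat.card ↥Q = 2 ^ (2 * n + 1) ∧
      (∃ E : Subgroup (SL2 n), E ≤ Q ∧ Cfsg.IsElementaryAbelian 2 E ∧ Nat.card ↥E = 2 ^ (n + 1)) ∧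
      Cfsg.IsLargeExtraspecial Q ∧
      ∃ K : Subgroup (SL2 n), K ≤ Subgroup.centralizer ({z} : Set (SL2 n)) ∧ Q ⊓ K = ⊥ ∧
        Q ⊔ K = Subgroup.centralizer ({z} : Set (SL2 n)) ∧
        Nonempty (↥K ≃* Matrix.SpecialLinearGroup (Fin n) (ZMod 2)) := by
  obtain ⟨rfl, hcard, hE, K, hK1, hK2, hK3, ⟨eK⟩⟩ :=
    structure_of_model slEmb slEmb_inj z (range_slEmb hz) Q hQ
  have L := lhyp slEmb slEmb_inj z (z_eq hz) (range_slEmb hz) hn
  have huni : ∀ f f' : Fin (n + 2) → ZMod 2, f 0 = 0 →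
      (1 + vecMulVec (Pi.single (0 : Fin (n + 2)) 1) f) * (1 + vecMulVec (Pi.single (0 : Fin (n + 2)) 1) f') =
        1 + vecMulVec (Pi.single (0 : Fin (n + 2)) 1) (f + f') := fun f f' hf => by
    refine Matrix.ext_of_mulVec_single fun k => ?_
    simp only [← mulVec_mulVec, add_mulVec, one_mulVec, vecMulVec_mulVec, op_smul_eq_smul,
      dotProduct_add, dotProduct_smul, add_dotProduct, dotProduct_single_one, hf, smul_zero,
      add_zero]
    rw [Pi.add_apply, add_smul]; abel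
  let P : Subgroup (SL2 n) :=
    { carrier := {g | ∃ f : Fin (n + 2) → ZMod 2, f 0 = 0 ∧
        (g : Matrix (Fin (n + 2)) (Fin (n + 2)) (ZMod 2)) = 1 + vecMulVec (Pi.single 0 1) f}
      mul_mem' := by
        rintro g g' ⟨f, hf, eg⟩ ⟨f', hf', eg'⟩
        exact ⟨f + f', by simp [hf, hf'], by rw [val_mul, eg, eg', huni f f' hf]⟩
      one_mem' := ⟨0, rfl, by rw [val_one, vecMulVec_zero, add_zero]⟩
      inv_mem' := by
        rintro g ⟨f, hf, eg⟩
        have : g⁻¹ = g := inv_eq_of_mul_eq_one_right (Subtype.ext (by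
          rw [val_mul, eg, huni f f hf, val_one, vec_add, vecMulVec_zero, add_zero]))
        rw [this]; exact ⟨f, hf, eg⟩ }
  have hP : IsPGroup 2 P := fun g => ⟨1, by
    obtain ⟨f, hf, eg⟩ := g.2
    apply Subtype.ext
    apply Subtype.ext
    rw [pow_one, pow_two, Subgroup.coe_mul, val_mul, eg, huni f f hf, vec_add, vecMulVec_zero, add_zero]
    rfl⟩
  have hzf : (z : Matrix (Fin (n + 2)) (Fin (n + 2)) (ZMod 2)) =
      1 + vecMulVec (Pi.single 0 1) (Pi.single 1 1) := by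
    rw [hz, Matrix.transvection, Matrix.single_eq_single_vecMulVec_single]
  have hzP : z ∈ P := ⟨Pi.single 1 1, by simp, hzf⟩
  set i : Fin n := ⟨0, hn⟩
  set bP : Pb n := ⟨Pi.single i 1, 0, 1, 0⟩
  have hb : bP ∈ rad n := mem_rad.mpr rfl
  have hbP : bP ≠ 1 ∧ bP ≠ zP n := by
    constructor <;> intro e <;> have := congrFun (congrArg Pb.row e) i <;> simp [bP, one_row, zP] at this
  have hbf : (slEmb bP : Matrix (Fin (n + 2)) (Fin (n + 2)) (ZMod 2)) =
      1 + vecMulVec (Pi.single 0 1) (Fin.cons 0 (Fin.cons 0 (Pi.single i 1))) := by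
    refine eq_of_cons fun x₀ x₁ v => ?_
    rw [slEmb_coe, blkP, blk_mulVec, add_mulVec, one_mulVec, vecMulVec_mulVec, op_smul_eq_smul,
      dot_cons, dot_cons]
    funext k
    refine Fin.cases ?_ (fun k => ?_) k
    · simp [bP]
    refine Fin.cases ?_ (fun k => ?_) k <;> simp [bP, Fin.succ_ne_zero]
  refine ⟨(L.toExt).isExtraspecial ⟨bP, hb, rfl⟩ ?_ ?_, hcard, hE, ?_, K, hK1, hK2, hK3, ⟨eK.trans
    (MulEquiv.ofBijective Matrix.SpecialLinearGroup.toGL ⟨?_, ?_⟩).symm⟩⟩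
  · rw [ne_eq, map_eq_one_iff _ slEmb_inj]; exact hbP.1
  · rw [← z_eq hz]; exact slEmb_inj.ne hbP.2
  · refine L.isLarge_of_involution (b := slEmb bP) ⟨bP, hb, rfl⟩
      (by rw [ne_eq, map_eq_one_iff _ slEmb_inj]; exact hbP.1)
      (by rw [← z_eq hz]; exact slEmb_inj.ne hbP.2) ?_ hP hzP ?_
    · rw [← map_mul]
      convert map_one slEmb
      ext1 <;> simp [bP, mul_row, mul_cc, mul_lev, mul_col, one_row, one_cc, one_lev, one_col, vec_add]
    intro g hg
    set G' := (g : Matrix (Fin (n + 2)) (Fin (n + 2)) (ZMod 2)) with hG'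
    set f : Fin (n + 2) → ZMod 2 := Fin.cons 0 (Fin.cons 0 (Pi.single i 1)) with hf
    have hm : G' * vecMulVec (Pi.single 0 1) f = vecMulVec (Pi.single 0 1) f * G' := by
      have := congrArg (fun x : SL2 n => (x : Matrix (Fin (n + 2)) (Fin (n + 2)) (ZMod 2))) hg
      simp only [val_mul, hbf, Matrix.mul_add, Matrix.add_mul, Matrix.mul_one,
        Matrix.one_mul] at this
      exact add_left_cancel this
    have hcol : G' *ᵥ (Pi.single 0 1 : Fin (n + 2) → ZMod 2) = Pi.single 0 1 := by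
      have := congrArg (· *ᵥ (Pi.single i.succ.succ 1 : Fin (n + 2) → ZMod 2)) hm
      simp only [← mulVec_mulVec, vecMulVec_mulVec, op_smul_eq_smul, mulVec_smul] at this
      rw [show f ⬝ᵥ Pi.single i.succ.succ 1 = 1 by simp [f], one_smul] at this
      rcases z2_cases (f ⬝ᵥ G' *ᵥ Pi.single i.succ.succ 1) with e | e <;> rw [e] at this
      · exfalso
        rw [zero_smul] at this
        have h0 : G'.det ≠ 0 := by rw [hG', g.prop]; exact one_ne_zero
        exact Matrix.mulVec_injective_iff_isUnit.mpr ((Matrix.isUnit_iff_isUnit_det _).mpr h0.isUnit)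
          |>.ne (show (Pi.single 0 1 : Fin (n + 2) → ZMod 2) ≠ 0 by simp) (this.trans (mulVec_zero _).symm)
      · simpa using this
    set H' := ((g⁻¹ : SL2 n) : Matrix (Fin (n + 2)) (Fin (n + 2)) (ZMod 2)) with hH'
    have hinv : H' * G' = 1 := by
      rw [hH', hG', ← val_mul, inv_mul_cancel, val_one]
    refine ⟨(Pi.single 1 1 : Fin (n + 2) → ZMod 2) ᵥ* H', ?_, ?_⟩
    · have : H' *ᵥ (Pi.single 0 1 : Fin (n + 2) → ZMod 2) = Pi.single 0 1 := by
        conv_lhs => rw [← hcol]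
        rw [mulVec_mulVec, hinv, one_mulVec]
      have e := congrFun this 1
      rw [mulVec_single_one] at e
      rw [single_one_vecMul]
      simpa using e
    · rw [val_mul, val_mul, hzf, Matrix.mul_add, Matrix.mul_one,
        Matrix.add_mul, ← val_mul, mul_inv_cancel, val_one,
        mul_vecMulVec, vecMulVec_mul, hcol]
  · exact Matrix.SpecialLinearGroup.toGL_injective
  · intro A
    exact ⟨⟨A, det_eq_one (N := ((A⁻¹ : GL (Fin n) (ZMod 2)) : Matrix (Fin n) (Fin n) (ZMod 2))) A.mul_inv⟩,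
      Units.ext rfl⟩

end SL

end Cfsg.Agent.LargeExtraspecialAffine
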