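import Cfsg.Agent.Lib.LargeExtraspecialStructure
import Cfsg.Agent.Lib.CharTwoLocal

/-!
A simplicity criterion from the centraliser of an involution with extraspecial kernel.
-/

set_option autoImplicit false
set_option linter.style.haveILetI false

namespace Cfsg.Agent.LargeExtraspecialSimple46

open Subgroup Cfsg
open Cfsg.Agent.LargeExtraspecial Cfsg.Agent.LargeExtraspecialStructure

variable {S W : Type*} [Group S] [Finite S] [Group W]

/-- The hypotheses on the centraliser of `z`. -/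
structure Setting (z : S) (Q : Subgroup ↥(centralizer ({z} : Set S)))
    (φ : ↥(centralizer ({z} : Set S)) →* W) : Prop where
  order : orderOf z = 2
  extra : Cfsg.IsExtraspecial 2 Q
  big : 32 ≤ Nat.card Q
  ker : φ.ker = Q
  surj : Function.Surjective φ
  z_mem : ∃ hz : z ∈ centralizer ({z} : Set S), (⟨z, hz⟩ : ↥(centralizer ({z} : Set S))) ∈ Q
  cent : centralizer (Q : Set ↥(centralizer ({z} : Set S))) ≤ Q
  core : ∀ R : Subgroup W, R.Normal → IsPGroup 2 R → R = ⊥

variable {z : S} {Q : Subgroup ↥(centralizer ({z} : Set S))}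
  {φ : ↥(centralizer ({z} : Set S)) →* W} (h : Setting z Q φ)

include h

theorem pCore_eq : pCore 2 ↥(centralizer ({z} : Set S)) = Q := by
  haveI : Q.Normal := h.ker ▸ inferInstance
  refine le_antisymm ?_ (HallCore.le_pCore h.extra.1.1)
  have hn : ((pCore 2 ↥(centralizer ({z} : Set S))).map φ).Normal :=
    Subgroup.Normal.map inferInstance φ h.surj
  have := h.core _ hn ((HallCore.isPGroup_pCore 2 _).map φ)
  rw [← h.ker]
  exact (Subgroup.map_eq_bot_iff _).1 this

theorem gen_eq : generalizedFittingSubgroup ↥(centralizer ({z} : Set S)) = Q := by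
  rw [CharTwoLocal.gen_eq_of_charTwo (CharTwoLocal.charTwo_of_isPGroup ?_), pCore_eq h]
  rw [pCore_eq h]
  exact h.extra.1.1.to_le h.cent

theorem lhyp : LHyp (Q.map (centralizer ({z} : Set S)).subtype) z := by
  haveI : Q.Normal := h.ker ▸ inferInstance
  obtain ⟨z₀, he, -, x, hx, hx1, hxz⟩ := exists_ext h.extra
  obtain ⟨hz, hzQ⟩ := h.z_mem
  have hne : (⟨z, hz⟩ : ↥(centralizer ({z} : Set S))) ≠ 1 := by
    intro e
    have := h.order
    rw [show z = 1 from congrArg Subtype.val e, orderOf_one] at this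
    norm_num at this
  have hz0 : z₀ = ⟨z, hz⟩ := by
    rcases he.central hzQ (fun y _ => Subtype.ext (mem_centralizer_singleton_iff.1 y.2)) with e | e
    · exact absurd e hne
    · exact e.symm
  subst hz0
  have hval : ∀ a b : ↥(centralizer ({z} : Set S)), (a : S) = b → a = b := fun _ _ e => Subtype.ext e
  refine ⟨⟨⟨_, hzQ, rfl⟩, fun e => he.ne_one (Subtype.ext e), congrArg Subtype.val he.zz,
    ?_, ?_, ?_, ?_⟩, ?_, ?_, ⟨_, ⟨x, hx, rfl⟩, fun e => hx1 (Subtype.ext e), fun e => hxz (Subtype.ext e)⟩⟩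
  · rintro _ ⟨a, ha, rfl⟩
    exact congrArg Subtype.val (he.comm a ha)
  · rintro _ ⟨a, ha, rfl⟩
    exact (he.sq a ha).imp (congrArg Subtype.val) (congrArg Subtype.val)
  · rintro _ ⟨a, ha, rfl⟩ _ ⟨b, hb, rfl⟩
    exact (he.conj a ha b hb).imp (congrArg Subtype.val) (congrArg Subtype.val)
  · rintro _ ⟨a, ha, rfl⟩ h1 h2
    obtain ⟨y, hy, e⟩ := he.partner a ha (fun e => h1 (congrArg Subtype.val e))
      (fun e => h2 (congrArg Subtype.val e))
    exact ⟨_, ⟨y, hy, rfl⟩, congrArg Subtype.val e⟩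
  · intro g hg
    have hgC : g ∈ centralizer ({z} : Set S) :=
      mem_centralizer_singleton_iff.2 (hg z ⟨_, hzQ, rfl⟩)
    have hgQ : (⟨g, hgC⟩ : ↥(centralizer ({z} : Set S))) ∈ Q := h.cent
      (mem_centralizer_iff.2 fun y hy => Subtype.ext (hg y ⟨y, hy, rfl⟩).symm)
    exact (he.central hgQ fun y hy => Subtype.ext (hg y ⟨y, hy, rfl⟩).symm).imp
      (congrArg Subtype.val) (congrArg Subtype.val)
  · rintro g hg _ ⟨a, ha, rfl⟩
    exact ⟨⟨g, mem_centralizer_singleton_iff.2 hg⟩ * a * ⟨g, mem_centralizer_singleton_iff.2 hg⟩⁻¹,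
      (inferInstance : Q.Normal).conj_mem a ha _, rfl⟩

/-- The simplicity criterion. -/
theorem isSimpleGroup (g : S) (hgz : g * z * g⁻¹ ≠ z)
    (hgQ : ∃ hc : g * z * g⁻¹ ∈ centralizer ({z} : Set S),
      (⟨g * z * g⁻¹, hc⟩ : ↥(centralizer ({z} : Set S))) ∈ Q)
    (hirr : ∀ T : Subgroup ↥(centralizer ({z} : Set S)), T.Normal → T ≤ Q →
      (∃ x ∈ T, (x : S) = g * z * g⁻¹) → T = Q)
    (t : ↥(centralizer ({z} : Set S))) (ht : (t : S) ∈ normalClosure ({z} : Set S))
    (ht1 : φ t ≠ 1) (hgenW : ∀ R : Subgroup W, R.Normal → φ t ∈ R → R = ⊤) :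
    IsSimpleGroup S ∧ ¬ IsMulCommutative S := by
  haveI : Fact (Nat.Prime 2) := ⟨Nat.prime_two⟩
  haveI : Q.Normal := h.ker ▸ inferInstance
  have hl := lhyp h
  obtain ⟨hgc, hgq⟩ := hgQ
  have hcard : Nat.card ↥(Q.map (centralizer ({z} : Set S)).subtype) = Nat.card Q :=
    (Nat.card_congr (Subgroup.equivMapOfInjective _ _ (Subgroup.subtype_injective _)).toEquiv).symm
  have hlarge := hl.isLarge_of_conj (g := g) ⟨_, hgq, rfl⟩ hgz (hcard ▸ h.big)
  have hLH : LH (Q.map (centralizer ({z} : Set S)).subtype) z := ⟨hl, hlarge.2.2.2⟩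
  by_cases hR : pCore 2 S = ⊥
  swap
  · -- the closure of `z` would be a 2-group containing `t`
    exfalso
    have hle : normalClosure ({z} : Set S) ≤ pCore 2 S :=
      normalClosure_le_normal (Set.singleton_subset_iff.2 (normal_mem hLH hR))
    have hp : IsPGroup 2 ↥((pCore 2 S).subgroupOf (centralizer ({z} : Set S))) :=
      (HallCore.isPGroup_pCore 2 S).comap_subtype
    haveI : ((pCore 2 S).subgroupOf (centralizer ({z} : Set S))).Normal := inferInstance
    have hle' := HallCore.le_pCore (p := 2) hp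
    rw [pCore_eq h, ← h.ker] at hle'
    exact ht1 (hle' (show t ∈ (pCore 2 S).subgroupOf (centralizer ({z} : Set S)) from hle ht))
  have hn := normalClosure_eq hLH hR
  rcases structure_trivial hLH hR with ⟨hs, hna⟩ | ⟨L, u, -, -, -, -, -, -, z₁, -, -, -, hne⟩
  swap
  · exact absurd (by rw [pCore_eq h]) hne
  set N := layer S with hN
  set T : Subgroup ↥(centralizer ({z} : Set S)) := N.subgroupOf (centralizer ({z} : Set S)) with hT
  haveI : T.Normal := inferInstance
  have hzN : z ∈ N := hn ▸ subset_normalClosure rfl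
  have hgN : g * z * g⁻¹ ∈ N := (inferInstance : N.Normal).conj_mem z hzN g
  have hQT : Q ≤ T := by
    have := hirr (T ⊓ Q) inferInstance inf_le_right ⟨⟨_, hgc⟩, ⟨hgN, hgq⟩, rfl⟩
    exact this ▸ inf_le_left
  have hmap : T.map φ = ⊤ :=
    hgenW _ (Subgroup.Normal.map inferInstance φ h.surj) ⟨t, (hn ▸ ht : (t : S) ∈ N), rfl⟩
  have hCN : centralizer ({z} : Set S) ≤ N := by
    intro c hc
    obtain ⟨d, hd, e⟩ : φ ⟨c, hc⟩ ∈ T.map φ := hmap ▸ mem_top _
    have h1 : d⁻¹ * ⟨c, hc⟩ ∈ T := hQT (h.ker ▸ by rw [MonoidHom.mem_ker, map_mul, map_inv, e, inv_mul_cancel])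
    have h2 := T.mul_mem hd h1
    rw [mul_inv_cancel_left] at h2
    exact h2
  -- a Sylow subgroup whose centre is generated by `z`
  obtain ⟨P, hP⟩ := (hl.isPGroup).exists_le_sylow
  have hcenP : ∀ x : ↥(P : Subgroup S), x ∈ center ↥(P : Subgroup S) → (x : S) = 1 ∨ (x : S) = z :=
    fun x hx => hl.cent x fun y hy =>
      congrArg Subtype.val (mem_center_iff.1 hx ⟨y, hP hy⟩).symm
  haveI : Nontrivial ↥(P : Subgroup S) := ⟨⟨⟨z, hP hl.mem⟩, 1, fun e => hl.ne_one (congrArg Subtype.val e)⟩⟩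
  obtain ⟨x, hx, hx1⟩ := (Subgroup.nontrivial_iff_exists_ne_one _).1 P.isPGroup'.center_nontrivial
  have hxz : (x : S) = z := (hcenP x hx).resolve_left fun e => hx1 (Subtype.ext e)
  have hPC : (P : Subgroup S) ≤ centralizer ({z} : Set S) := fun y hy =>
    mem_centralizer_singleton_iff.2 (by
      rw [← hxz]; exact congrArg Subtype.val (mem_center_iff.1 hx ⟨y, hy⟩))
  have hPN : (P : Subgroup S) ≤ N := hPC.trans hCN
  have htop : N = ⊤ := by
    have hfr := Sylow.normalizer_sup_eq_top (P.subtype hPN)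
    rw [← top_le_iff, ← hfr, sup_le_iff]
    refine ⟨fun m hm => hCN (mem_centralizer_singleton_iff.2 ?_), le_rfl⟩
    have hm' : ∀ y, y ∈ (P : Subgroup S) ↔ m * y * m⁻¹ ∈ (P : Subgroup S) := by
      have hmap : (P.subtype hPN : Subgroup ↥N).map N.subtype = (P : Subgroup S) :=
        map_subgroupOf_eq_of_le hPN
      rw [hmap] at hm
      exact fun y => mem_normalizer_iff.1 hm y
    have hz' : m * z * m⁻¹ = 1 ∨ m * z * m⁻¹ = z := by
      refine hcenP ⟨m * z * m⁻¹, (hm' z).1 (hP hl.mem)⟩ (mem_center_iff.2 fun y => Subtype.ext ?_)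
      obtain ⟨y', hy'⟩ : ∃ y', y' = m⁻¹ * (y : S) * m := ⟨_, rfl⟩
      have hy'P : y' ∈ (P : Subgroup S) := (hm' y').2 (by rw [hy']; simp [mul_assoc])
      have hc : y' * z = z * y' := mem_centralizer_singleton_iff.1 (hPC hy'P)
      show (y : S) * (m * z * m⁻¹) = m * z * m⁻¹ * y
      rw [show (y : S) = m * y' * m⁻¹ by rw [hy']; group]
      calc m * y' * m⁻¹ * (m * z * m⁻¹) = m * (y' * z) * m⁻¹ := by group
        _ = m * (z * y') * m⁻¹ := by rw [hc]
        _ = _ := by group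
    rcases hz' with e | e
    · exact absurd (conj_eq_one_iff.1 e) hl.ne_one
    · exact mul_inv_eq_iff_eq_mul.1 e
  rw [hN] at htop
  haveI := hs
  refine ⟨((MulEquiv.subgroupCongr htop).trans Subgroup.topEquiv).symm.isSimpleGroup, fun hc => hna ?_⟩
  exact ⟨⟨fun a b => Subtype.ext (hc.is_comm.comm (a : S) b)⟩⟩

end Cfsg.Agent.LargeExtraspecialSimple46
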