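import Mathlib
import Cfsg.Prelude.Def_MonsterType
import Cfsg.Agent.Lib.LargeExtraspecial
import Cfsg.Agent.Lib.ComponentsBasic
import Cfsg.Agent.Lib.ComponentsFitting
import Cfsg.Agent.Lib.ComponentsCores
import Cfsg.Agent.Lib.PTerminalDiag

/-!
The normal closure of the centre of a large extraspecial 2-subgroup: either abelian, or the
generalized Fitting subgroup, which has at most two simple factors.
-/

set_option autoImplicit false

namespace Cfsg.Agent.LargeExtraspecialStructure

open Subgroup Cfsg LargeExtraspecial ComponentsBasic ComponentsFitting ComponentsCores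
open PTerminalDiag (four_dvd_card_of_simple)
open scoped commutatorElement

variable {G : Type*} [Group G]

/-- The standing hypothesis. -/
structure LH (Q : Subgroup G) (z : G) : Prop where
  lhyp : LHyp Q z
  odd : ∀ K : Subgroup G, Odd (Nat.card K) → Q ≤ normalizer (K : Set G) → K = ⊥

/-- Conjugate of a subgroup. -/
abbrev cj (g : G) (L : Subgroup G) : Subgroup G := L.map (MulAut.conj g).toMonoidHom

theorem conj_mem_cj {g : G} {L : Subgroup G} {x : G} (hx : x ∈ L) : g * x * g⁻¹ ∈ cj g L :=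
  ⟨x, hx, rfl⟩

theorem cj_cj (g h : G) (L : Subgroup G) : cj g (cj h L) = cj (g * h) L := by
  ext x
  simp only [cj, Subgroup.mem_map, MulEquiv.coe_toMonoidHom, MulAut.conj_apply]
  constructor
  · rintro ⟨_, ⟨y, hy, rfl⟩, rfl⟩; exact ⟨y, hy, by group⟩
  · rintro ⟨y, hy, rfl⟩; exact ⟨_, ⟨y, hy, rfl⟩, by group⟩

theorem cj_eq_self {g : G} {L : Subgroup G} (h : g ∈ normalizer (L : Set G)) : cj g L = L := by
  ext x
  simp only [cj, Subgroup.mem_map, MulEquiv.coe_toMonoidHom, MulAut.conj_apply]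
  constructor
  · rintro ⟨y, hy, rfl⟩
    exact (mem_normalizer_iff.1 h y).1 hy
  · intro hx
    exact ⟨g⁻¹ * x * g, (mem_normalizer_iff.1 h _).2 (by simpa [mul_assoc] using hx), by group⟩

theorem cj_one (L : Subgroup G) : cj 1 L = L := cj_eq_self (one_mem _)

variable [Finite G] {Q : Subgroup G} {z : G}

/-- A subgroup of even order normalised by `Q` contains `z`. -/
theorem mem_of_even (h : LH Q z) {T : Subgroup G} (hT : Q ≤ normalizer (T : Set G))
    (h2 : 2 ∣ Nat.card T) : z ∈ T := by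
  haveI : Fact (Nat.Prime 2) := ⟨Nat.prime_two⟩
  letI : MulAction ↥Q ↥T :=
    { smul := fun q t => ⟨(q : G) * t * (q : G)⁻¹, (mem_normalizer_iff.1 (hT q.2) t).1 t.2⟩
      one_smul := fun t => Subtype.ext (show ((1 : ↥Q) : G) * (t : G) * ((1 : ↥Q) : G)⁻¹ = t by simp)
      mul_smul := fun a b t => Subtype.ext (show ((a * b : ↥Q) : G) * (t : G) * ((a * b : ↥Q) : G)⁻¹ =
        (a : G) * ((b : G) * t * (b : G)⁻¹) * (a : G)⁻¹ by rw [Subgroup.coe_mul]; group) }
  obtain ⟨t, ht, ht1⟩ := h.lhyp.isPGroup.exists_fixed_point_of_prime_dvd_card_of_fixed_point ↥T h2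
    (a := 1) (fun q => Subtype.ext (show (q : G) * ((1 : ↥T) : G) * (q : G)⁻¹ = ((1 : ↥T) : G) by simp))
  have hfix : ∀ x ∈ Q, (t : G) * x = x * t := fun x hx =>
    (mul_inv_eq_iff_eq_mul.1 (congrArg Subtype.val (ht ⟨x, hx⟩))).symm
  rcases h.lhyp.cent t hfix with e | e
  · exact absurd (Subtype.ext e.symm) ht1
  · exact e ▸ t.2

/-- A nontrivial subgroup normalised by `Q` contains `z`. -/
theorem mem_of_ne_bot (h : LH Q z) {T : Subgroup G} (hT : Q ≤ normalizer (T : Set G)) (hne : T ≠ ⊥) :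
    z ∈ T :=
  mem_of_even h hT (by
    by_contra h2
    exact hne (h.odd T (Nat.odd_iff.2 (Nat.two_dvd_ne_zero.1 h2)) hT))

theorem normal_mem (h : LH Q z) {N : Subgroup G} [N.Normal] (hne : N ≠ ⊥) : z ∈ N :=
  mem_of_ne_bot h (by rw [normalizer_eq_top]; exact le_top) hne

theorem pCore_eq_bot (h : LH Q z) {p : ℕ} (hp : p.Prime) (hp2 : p ≠ 2) : pCore p G = ⊥ := by
  haveI := Fact.mk hp
  refine h.odd _ ?_ (by rw [normalizer_eq_top]; exact le_top)
  obtain ⟨k, hk⟩ := IsPGroup.iff_card.1 (isPGroup_pCore p (G := G))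
  rw [hk]
  exact (hp.odd_of_ne_two hp2).pow

/-- The case of a nontrivial `O₂`. -/
theorem abelian_case (h : LH Q z) (hR : pCore 2 G ≠ ⊥) :
    IsMulCommutative ↥(normalClosure ({z} : Set G)) ∧ generalizedFittingSubgroup G = pCore 2 G := by
  haveI : Fact (Nat.Prime 2) := ⟨Nat.prime_two⟩
  set R := pCore 2 G with hRdef
  set Z := (center ↥R).map R.subtype with hZ
  haveI : Z.Normal := inferInstance
  have hRp : IsPGroup 2 ↥R := isPGroup_pCore 2
  haveI : Nontrivial ↥R := (Subgroup.nontrivial_iff_ne_bot R).2 hR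
  have hZne : Z ≠ ⊥ := by
    rw [hZ, Ne, map_eq_bot_iff_of_injective _ R.subtype_injective]
    exact (Subgroup.nontrivial_iff_ne_bot _).1 hRp.center_nontrivial
  have hMZ : normalClosure ({z} : Set G) ≤ Z :=
    normalClosure_le_normal (Set.singleton_subset_iff.2 (normal_mem h hZne))
  refine ⟨⟨⟨fun a b => Subtype.ext ?_⟩⟩, ?_⟩
  · obtain ⟨a', ha', hae⟩ := hMZ a.2
    obtain ⟨b', hb', hbe⟩ := hMZ b.2
    show (a : G) * b = b * a
    rw [← hae, ← hbe, ← map_mul, ← map_mul, mem_center_iff.1 hb' a']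
  have hlay : layer G = ⊥ := by
    have hER : ⁅layer G, R⁆ = ⊥ := by
      rw [eq_bot_iff, ← layer_commute_fitting (G := G)]
      exact commutator_mono le_rfl (pCore_le_fitting Nat.prime_two)
    have hEz : ∀ e ∈ layer G, ∀ x ∈ Q, e * x * e⁻¹ ∈ Q := by
      intro e he
      refine h.lhyp.norm e ?_
      exact (commutatorElement_eq_one_iff_mul_comm.1 ((eq_bot_iff.1 hER)
        (commutator_mem_commutator he (normal_mem h hR))))
    have hEQ : ⁅layer G, Q⁆ ≤ layer G ⊓ Q := by
      refine commutator_le.2 fun e he x hx => Subgroup.mem_inf.2 ⟨?_, ?_⟩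
      · rw [commutatorElement_def, mul_assoc e, mul_assoc e]
        exact mul_mem he ((inferInstance : (layer G).Normal).conj_mem _ (inv_mem he) x)
      · exact mul_mem (hEz e he x hx) (inv_mem hx)
    have hn : ((layer G ⊓ Q).subgroupOf (layer G)).Normal := by
      refine ⟨fun n hn g => ?_⟩
      rw [mem_subgroupOf] at hn ⊢
      exact ⟨((g * n * g⁻¹ : ↥(layer G))).2, hEz g g.2 n hn.2⟩
    have hsn : (layer G ⊓ Q).IsSubnormal :=
      Subgroup.IsSubnormal.step _ _ inf_le_left (inferInstance : (layer G).Normal).isSubnormal hn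
    haveI : Group.IsNilpotent ↥(layer G ⊓ Q) :=
      (h.lhyp.isPGroup.to_le inf_le_right).isNilpotent
    have h0 : ⁅layer G ⊓ Q, layer G⁆ = ⊥ := by
      rw [commutator_comm]; exact layer_commute_solvable hsn
    have h1 : ⁅⁅layer G, Q⁆, layer G⁆ = ⊥ := by
      rw [eq_bot_iff, ← h0]; exact commutator_mono hEQ le_rfl
    have h2 : ⁅⁅layer G, layer G⁆, Q⁆ = ⊥ := by
      refine commutator_commutator_eq_bot_of_rotate h1 ?_
      rw [commutator_comm Q]; exact h1
    rw [layer_perfect] at h2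
    refine perfect_eq_bot_of_le_solvable layer_perfect (S := zpowers z) (h := ?_)
    intro e he
    have : e = 1 ∨ e = z := h.lhyp.cent e fun x hx =>
      commutatorElement_eq_one_iff_mul_comm.1 ((eq_bot_iff.1 h2) (commutator_mem_commutator he hx))
    rcases this with rfl | rfl
    · exact one_mem _
    · exact mem_zpowers _
  rw [gen_eq_fitting_iff.2 hlay, fittingSubgroup_eq_iSup]
  refine le_antisymm (iSup_le fun p => ?_) ?_
  · by_cases hp : (p : ℕ) = 2
    · rw [hp]
    · rw [pCore_eq_bot h (Nat.prime_of_mem_primeFactors p.2) hp]; exact bot_le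
  · have hmem : 2 ∈ (Nat.card G).primeFactors := by
      refine Nat.mem_primeFactors.2 ⟨Nat.prime_two, ?_, Nat.card_pos.ne'⟩
      obtain ⟨k, hk⟩ := IsPGroup.iff_card.1 hRp
      have hk0 : k ≠ 0 := by
        intro h0
        rw [h0, pow_zero] at hk
        exact hR (card_eq_one.1 hk)
      exact ((dvd_pow_self 2 hk0).trans hk.symm.dvd).trans (card_subgroup_dvd_card R)
    exact le_iSup (fun p : (Nat.card G).primeFactors => pCore p G) ⟨2, hmem⟩

section Trivial

variable (h : LH Q z) (hR : pCore 2 G = ⊥)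
include h hR

theorem fitting_eq_bot : fittingSubgroup G = ⊥ := by
  rw [fittingSubgroup_eq_iSup, eq_bot_iff]
  refine iSup_le fun p => ?_
  by_cases hp : (p : ℕ) = 2
  · rw [hp, hR]
  · rw [pCore_eq_bot h (Nat.prime_of_mem_primeFactors p.2) hp]

theorem gen_eq_layer : generalizedFittingSubgroup G = layer G := by
  rw [generalizedFittingSubgroup, fitting_eq_bot h hR, sup_bot_eq]

omit h hR in
theorem inf_centralizer_abelian (N : Subgroup G) :
    Group.IsNilpotent ↥(N ⊓ centralizer (N : Set G)) := by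
  haveI : IsMulCommutative ↥(N ⊓ centralizer (N : Set G)) :=
    ⟨⟨fun a b => Subtype.ext (b.2.2 a a.2.1)⟩⟩
  letI : CommGroup ↥(N ⊓ centralizer (N : Set G)) :=
    { (inferInstance : Group ↥(N ⊓ centralizer (N : Set G))) with
      mul_comm := fun a b => Subtype.ext (b.2.2 a a.2.1) }
  exact CommGroup.isNilpotent

/-- Nothing nontrivial and subnormal is central in itself. -/
theorem inf_centralizer_eq_bot {N : Subgroup G} (hN : N.IsSubnormal) :
    N ⊓ centralizer (N : Set G) = ⊥ := by
  have hn : ((N ⊓ centralizer (N : Set G)).subgroupOf N).Normal := by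
    refine ⟨fun n hn g => ?_⟩
    rw [mem_subgroupOf] at hn ⊢
    refine ⟨((g * n * g⁻¹ : ↥N)).2, fun y hy => ?_⟩
    show y * ((g : G) * n * (g : G)⁻¹) = (g : G) * n * (g : G)⁻¹ * y
    have hc := hn.2 g g.2
    rw [hc, mul_inv_cancel_right]
    exact hn.2 y hy
  haveI := inf_centralizer_abelian N
  have := subnormal_nilpotent_le_fitting
    (Subgroup.IsSubnormal.step _ _ inf_le_left hN hn) (inf_centralizer_abelian N)
  rw [fitting_eq_bot h hR] at this
  exact le_bot_iff.1 this

theorem component_simple {L : Subgroup G} (hL : IsComponent L) :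
    IsSimpleGroup ↥L ∧ ¬ IsMulCommutative ↥L := by
  refine ⟨?_, isQuasisimple_not_commutative hL.2⟩
  have hc : center ↥L = ⊥ := by
    have := inf_centralizer_eq_bot h hR hL.1
    rw [← map_center_subtype] at this
    exact (map_eq_bot_iff_of_injective _ L.subtype_injective).1 this
  haveI := hL.2.2
  haveI := isQuasisimple_nontrivial hL.2
  exact ⟨fun N _ => (normal_le_center_or_eq_top hL.2 N).imp (fun e => le_bot_iff.1 (hc ▸ e)) id⟩

theorem z_mem_layer : z ∈ layer G := by
  haveI : Nontrivial G := ⟨⟨z, 1, h.lhyp.ne_one⟩⟩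
  refine normal_mem h ?_
  rw [← gen_eq_layer h hR]
  exact gen_ne_bot

/-- Every component moves `z`. -/
theorem z_moved {L : Subgroup G} (hL : IsComponent L) :
    ¬ ∀ x ∈ L, x * z = z * x := by
  intro hc
  -- `z` would be central in the product of the orbit of `L`
  set O := ⨆ q : ↥Q, cj (q : G) L with hO
  have hle : L ≤ O := (cj_one L).ge.trans
    ((le_of_eq (by rw [OneMemClass.coe_one])).trans (le_iSup (fun q : ↥Q => cj (q : G) L) 1))
  have hOn : Q ≤ normalizer (O : Set G) := by
    intro x hx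
    have hmap : ∀ y ∈ Q, ∀ o ∈ O, y * o * y⁻¹ ∈ O := by
      intro y hy
      have hle' : O ≤ O.comap (MulAut.conj y).toMonoidHom := by
        refine iSup_le fun q => ?_
        rintro _ ⟨a, ha, rfl⟩
        show y * ((q : G) * a * (q : G)⁻¹) * y⁻¹ ∈ O
        have : y * ((q : G) * a * (q : G)⁻¹) * y⁻¹ =
            ((⟨y, hy⟩ * q : ↥Q) : G) * a * ((⟨y, hy⟩ * q : ↥Q) : G)⁻¹ := by
          rw [Subgroup.coe_mul]; group
        rw [this]
        exact le_iSup (fun q : ↥Q => cj (q : G) L) _ (conj_mem_cj ha)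
      exact fun o ho => hle' ho
    exact mem_normalizer_fintype fun o ho => hmap x hx o ho
  have hzO : z ∈ O := mem_of_ne_bot h hOn fun e => (isQuasisimple_ne_bot hL.2) (le_bot_iff.1 (e ▸ hle))
  have hzc : z ∈ centralizer (O : Set G) := by
    have hle' : O ≤ centralizer ({z} : Set G) := by
      refine iSup_le fun q => ?_
      rintro _ ⟨a, ha, rfl⟩
      rw [mem_centralizer_iff]
      intro y hy
      rw [Set.mem_singleton_iff.1 hy]
      show z * ((q : G) * a * (q : G)⁻¹) = (q : G) * a * (q : G)⁻¹ * z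
      have hq : (q : G) * z = z * q := h.lhyp.comm q q.2
      have hq' : z * (q : G)⁻¹ = (q : G)⁻¹ * z := by
        rw [eq_inv_mul_iff_mul_eq, ← mul_assoc, hq, mul_inv_cancel_right]
      calc z * ((q : G) * a * (q : G)⁻¹) = (z * q) * a * (q : G)⁻¹ := by group
        _ = q * (z * a) * (q : G)⁻¹ := by rw [← hq]; group
        _ = q * (a * z) * (q : G)⁻¹ := by rw [hc a ha]
        _ = q * a * (z * (q : G)⁻¹) := by group
        _ = _ := by rw [hq']; group
    intro o ho
    exact (hle' ho z rfl).symm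
  have hOsn : O ⊓ centralizer (O : Set G) = ⊥ := by
    apply inf_centralizer_eq_bot h hR
    have hn : (O.subgroupOf (layer G)).Normal := by
      have hOle : O ≤ layer G := iSup_le fun q => component_le_layer (isComponent_conj hL _)
      refine (normal_subgroupOf_iff_le_normalizer hOle).2 ?_
      refine sSup_le fun K hK => ?_
      intro k hk
      have : ∀ o ∈ O, k * o * k⁻¹ ∈ O := by
        have hle' : O ≤ O.comap (MulAut.conj k).toMonoidHom := by
          refine iSup_le fun q => ?_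
          intro a ha
          show k * a * k⁻¹ ∈ O
          exact le_iSup (fun q : ↥Q => cj (q : G) L) q
            ((mem_normalizer_iff.1 (component_le_normalizer hK (isComponent_conj hL _) hk) a).1 ha)
        exact fun o ho => hle' ho
      exact mem_normalizer_fintype this
    exact Subgroup.IsSubnormal.step _ _ (iSup_le fun q => component_le_layer (isComponent_conj hL _))
      (inferInstance : (layer G).Normal).isSubnormal hn
  have : z ∈ O ⊓ centralizer (O : Set G) := ⟨hzO, hzc⟩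
  rw [hOsn] at this
  exact h.lhyp.ne_one (mem_bot.1 this)

theorem normalClosure_eq : normalClosure ({z} : Set G) = layer G := by
  set M := normalClosure ({z} : Set G) with hM
  have hMn : M.Normal := normalClosure_normal
  refine le_antisymm (normalClosure_le_normal (Set.singleton_subset_iff.2 (z_mem_layer h hR)))
    (sSup_le fun L hL => ?_)
  refine (component_le_or_commute hL hMn.isSubnormal).resolve_right fun hc => z_moved h hR hL ?_
  intro x hx
  exact commutatorElement_eq_one_iff_mul_comm.1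
    ((eq_bot_iff.1 hc) (commutator_mem_commutator hx (subset_normalClosure rfl)))

/-- The product of the components other than `L`. -/
def others (L : Subgroup G) : Subgroup G := ⨆ K : {K : Subgroup G // IsComponent K ∧ K ≠ L}, (K : Subgroup G)

omit h hR in
theorem others_commute {L : Subgroup G} (hL : IsComponent L) {a b : G} (ha : a ∈ L)
    (hb : b ∈ others L) : a * b = b * a := by
  have hle : others L ≤ centralizer (L : Set G) := iSup_le fun K =>
    commutator_eq_bot_iff_le_centralizer.1 (components_commute K.2.1 hL K.2.2)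
  exact hle hb a ha

omit h hR in
theorem decompose {L : Subgroup G} (hL : IsComponent L) {x : G} (hx : x ∈ layer G) :
    ∃ a ∈ L, ∃ b ∈ others L, x = a * b := by
  have hle : layer G ≤ L ⊔ others L := sSup_le fun K hK => by
    by_cases e : K = L
    · exact e ▸ le_sup_left
    · exact le_sup_of_le_right (le_iSup (fun K : {K : Subgroup G // IsComponent K ∧ K ≠ L} =>
        (K : Subgroup G)) ⟨K, hK, e⟩)
  have hn : others L ≤ normalizer (L : Set G) := iSup_le fun K => component_le_normalizer K.2.1 hL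
  have hx' := hle hx
  rw [← SetLike.mem_coe, coe_mul_of_right_le_normalizer_left L (others L) hn] at hx'
  obtain ⟨a, ha, b, hb, rfl⟩ := hx'
  exact ⟨a, ha, b, hb, rfl⟩

theorem others_disjoint {L : Subgroup G} (hL : IsComponent L) {a : G} (ha : a ∈ L)
    (hb : a ∈ others L) : a = 1 := by
  have : a ∈ L ⊓ centralizer (L : Set G) :=
    ⟨ha, fun y hy => others_commute hL hy hb⟩
  rwa [inf_centralizer_eq_bot h hR hL.1, mem_bot] at this

theorem coord_unique {L : Subgroup G} (hL : IsComponent L) {a a' b b' : G} (ha : a ∈ L)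
    (ha' : a' ∈ L) (hb : b ∈ others L) (hb' : b' ∈ others L) (e : a * b = a' * b') :
    a = a' ∧ b = b' := by
  have h1 : a'⁻¹ * a = b' * b⁻¹ := by
    rw [eq_mul_inv_iff_mul_eq, mul_assoc, e, inv_mul_cancel_left]
  have h2 := others_disjoint h hR hL (mul_mem (inv_mem ha') ha) (h1 ▸ mul_mem hb' (inv_mem hb))
  have h3 : a = a' := (inv_mul_eq_one.1 h2).symm
  exact ⟨h3, mul_left_cancel (h3 ▸ e)⟩

/-- The structure of `F*(G)`. -/
theorem structure_trivial :
    IsSimpleGroup ↥(layer G) ∧ ¬ IsMulCommutative ↥(layer G) ∨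
    ∃ (L : Subgroup G) (u : G), u ∈ Q ∧ IsSimpleGroup ↥L ∧ ¬ IsMulCommutative ↥L ∧
      L ⊓ cj u L = ⊥ ∧ (∀ x ∈ L, ∀ y ∈ cj u L, x * y = y * x) ∧ L ⊔ cj u L = layer G ∧
      ∃ z₁ ∈ L, z = z₁ * (u * z₁ * u⁻¹) ∧
        (∃ R : Sylow 2 ↥L, (R : Subgroup ↥L) = (centralizer ({z₁} : Set G)).subgroupOf L ∧
          (frattini ↥(R : Subgroup ↥L)).map ((L.subtype).comp (R : Subgroup ↥L).subtype) ≤ zpowers z₁) ∧
        Q ≠ (pCore 2 ↥(centralizer ({z} : Set G))).map (centralizer ({z} : Set G)).subtype := by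
  haveI : Fact (Nat.Prime 2) := ⟨Nat.prime_two⟩
  haveI : Nontrivial G := ⟨⟨z, 1, h.lhyp.ne_one⟩⟩
  obtain ⟨L, hL⟩ : ∃ L : Subgroup G, IsComponent L := by
    by_contra hno
    have hl : layer G = ⊥ := sSup_eq_bot.2 fun K hK => absurd ⟨K, hK⟩ hno
    have hz := z_mem_layer h hR
    rw [hl] at hz
    exact h.lhyp.ne_one (mem_bot.1 hz)
  obtain ⟨hLs, hLna⟩ := component_simple h hR hL
  by_cases hfix : Q ≤ normalizer (L : Set G)
  · left
    have hzL : z ∈ L := mem_of_ne_bot h hfix (isQuasisimple_ne_bot hL.2)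
    have hall : layer G = L := by
      refine le_antisymm (sSup_le fun K hK => ?_) (component_le_layer hL)
      by_cases e : K = L
      · exact e.le
      · exfalso
        exact z_moved h hR hK fun x hx => commutatorElement_eq_one_iff_mul_comm.1
          ((eq_bot_iff.1 (components_commute hK hL e)) (commutator_mem_commutator hx hzL))
    rw [hall]
    exact ⟨hLs, hLna⟩
  right
  obtain ⟨u, hu, hun⟩ := SetLike.not_le_iff_exists.1 hfix
  have huL : cj u L ≠ L := fun e => hun (mem_normalizer_fintype fun x hx => e ▸ conj_mem_cj hx)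
  have hLu : IsComponent (cj u L) := isComponent_conj hL u
  obtain ⟨z₁, hz₁, z', hz', hzz⟩ := decompose hL (z_mem_layer h hR)
  have hz₁1 : z₁ ≠ 1 := by
    intro e
    refine z_moved h hR hL fun x hx => ?_
    rw [hzz, e, one_mul]
    exact others_commute hL hx hz'
  have hz₁₁ : z₁ * z₁ = 1 ∧ z' * z' = 1 := by
    refine coord_unique h hR hL (mul_mem hz₁ hz₁) (one_mem _) (mul_mem hz' hz') (one_mem _) ?_
    have hcz : z' * z₁ = z₁ * z' := (others_commute hL hz₁ hz').symm
    calc z₁ * z₁ * (z' * z') = z₁ * (z₁ * z') * z' := by group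
      _ = z₁ * (z' * z₁) * z' := by rw [hcz]
      _ = (z₁ * z') * (z₁ * z') := by group
      _ = 1 * 1 := by rw [← hzz, h.lhyp.zz, one_mul]
  have hz₁inv : z₁⁻¹ = z₁ := inv_eq_of_mul_eq_one_right hz₁₁.1
  -- centralizing `z` in `L`
  have hCz : ∀ c ∈ L, c * z₁ = z₁ * c → c * z = z * c := by
    intro c hc e
    rw [hzz, ← mul_assoc, e, mul_assoc, others_commute hL hc hz', mul_assoc]
  have hcjo : ∀ q, cj q L ≠ L → ∀ c ∈ L, q * c * q⁻¹ ∈ others L := fun q hq c hc =>
    le_iSup (fun K : {K : Subgroup G // IsComponent K ∧ K ≠ L} => (K : Subgroup G))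
      ⟨cj q L, isComponent_conj hL q, hq⟩ (conj_mem_cj hc)
  -- the elements `[c, u]`
  have hx : ∀ c ∈ L, c * z₁ = z₁ * c → c * (u * c⁻¹ * u⁻¹) ∈ Q := by
    intro c hc e
    have h1 := mul_mem (h.lhyp.norm c (hCz c hc e) u hu) (inv_mem hu)
    simpa [mul_assoc] using h1
  have hpow : ∀ c ∈ L, c * z₁ = z₁ * c → ∃ k : ℕ, c ^ 2 ^ k = 1 := by
    intro c hc e
    obtain ⟨k, hk⟩ := h.lhyp.isPGroup ⟨_, hx c hc e⟩
    have hk' : (c * (u * c⁻¹ * u⁻¹)) ^ 2 ^ k = 1 := congrArg Subtype.val hk
    rw [(show Commute c (u * c⁻¹ * u⁻¹) from others_commute hL hc (hcjo u huL _ (inv_mem hc))).mul_pow,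
      ← one_mul (1 : G)] at hk'
    exact ⟨k, (coord_unique h hR hL (pow_mem hc _) (one_mem _)
      (pow_mem (hcjo u huL _ (inv_mem hc)) _) (one_mem _) hk').1⟩
  have hsq : ∀ c ∈ L, c * z₁ = z₁ * c → c * c = 1 ∨ c * c = z₁ := by
    intro c hc e
    have hd := hcjo u huL _ (inv_mem hc)
    set d := u * c⁻¹ * u⁻¹ with hdef
    have hcd : d * c = c * d := (others_commute hL hc hd).symm
    have h2 : c * d * (c * d) = (c * c) * (d * d) := by
      calc c * d * (c * d) = c * (d * c) * d := by group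
        _ = _ := by rw [hcd]; group
    rcases h.lhyp.sq _ (hx c hc e) with h1 | h1
    · left
      rw [h2, ← one_mul (1 : G)] at h1
      exact (coord_unique h hR hL (mul_mem hc hc) (one_mem _) (mul_mem hd hd) (one_mem _) h1).1
    · right
      rw [h2, hzz] at h1
      exact (coord_unique h hR hL (mul_mem hc hc) hz₁ (mul_mem hd hd) hz' h1).1
  have hcomm : ∀ c ∈ L, c * z₁ = z₁ * c → ∀ e ∈ L, e * z₁ = z₁ * e →
      c * e * c⁻¹ * e⁻¹ = 1 ∨ c * e * c⁻¹ * e⁻¹ = z₁ := by
    intro c hc hce e he hee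
    have hd := hcjo u huL _ (inv_mem hc)
    have hf := hcjo u huL _ (inv_mem he)
    set d := u * c⁻¹ * u⁻¹ with hdef
    set f := u * e⁻¹ * u⁻¹ with hfdef
    have c1 : Commute c d := others_commute hL hc hd
    have c2 : Commute c f := others_commute hL hc hf
    have c3 : Commute e d := others_commute hL he hd
    have c4 : Commute e f := others_commute hL he hf
    have e1 : (c * d) * (e * f) * (c * d)⁻¹ = (c * e * c⁻¹) * (d * f * d⁻¹) := by
      calc (c * d) * (e * f) * (c * d)⁻¹ = c * (d * e) * f * d⁻¹ * c⁻¹ := by group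
        _ = c * e * (d * f * d⁻¹ * c⁻¹) := by rw [← c3.eq]; group
        _ = c * e * (c⁻¹ * (d * f * d⁻¹)) := by
          rw [(((c1.mul_right c2).mul_right c1.inv_right).inv_left).eq]
        _ = _ := by group
    have hm1 : c * e * c⁻¹ ∈ L := mul_mem (mul_mem hc he) (inv_mem hc)
    have hm2 : d * f * d⁻¹ ∈ others L := mul_mem (mul_mem hd hf) (inv_mem hd)
    rcases h.lhyp.conj _ (hx c hc hce) _ (hx e he hee) with h1 | h1
    · left
      rw [e1] at h1
      rw [(coord_unique h hR hL hm1 he hm2 hf h1).1, mul_inv_cancel]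
    · right
      have e2 : z * (e * f) = (z₁ * e) * (z' * f) := by
        rw [hzz]
        calc z₁ * z' * (e * f) = z₁ * (z' * e) * f := by group
          _ = _ := by rw [← others_commute hL he hz']; group
      rw [e1, e2] at h1
      rw [(coord_unique h hR hL hm1 (mul_mem hz₁ he) hm2 (mul_mem hz' hf) h1).1, mul_inv_cancel_right]
  set C := L ⊓ centralizer ({z₁} : Set G) with hC
  have hCmem : ∀ {c}, c ∈ C ↔ c ∈ L ∧ c * z₁ = z₁ * c := by
    intro c
    rw [hC, mem_inf, mem_centralizer_singleton_iff]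
  have hC2 : IsPGroup 2 ↥C := fun c => by
    obtain ⟨k, hk⟩ := hpow c (hCmem.1 c.2).1 (hCmem.1 c.2).2
    exact ⟨k, Subtype.ext hk⟩
  -- some element of `C` outside `⟨z₁⟩`
  obtain ⟨c₀, hc₀, hc₀1, hc₀z⟩ : ∃ c ∈ C, c ≠ 1 ∧ c ≠ z₁ := by
    by_contra hno
    push_neg at hno
    haveI := hLs
    have h2L : 2 ∣ Nat.card ↥L := by
      have hd : orderOf (⟨z₁, hz₁⟩ : ↥L) = 2 :=
        orderOf_eq_prime (Subtype.ext (by rw [Subgroup.coe_pow, pow_two]; exact hz₁₁.1))
          (fun e => hz₁1 (congrArg Subtype.val e))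
      exact hd ▸ orderOf_dvd_natCard _
    obtain ⟨S, hS⟩ : ∃ S : Sylow 2 ↥L, zpowers (⟨z₁, hz₁⟩ : ↥L) ≤ S :=
      (IsPGroup.of_card (n := 1) (by
        rw [Nat.card_zpowers, pow_one]
        exact orderOf_eq_prime (Subtype.ext (by rw [Subgroup.coe_pow, pow_two]; exact hz₁₁.1))
          (fun e => hz₁1 (congrArg Subtype.val e)))).exists_le_sylow
    haveI : Nontrivial ↥(S : Subgroup ↥L) := ⟨⟨⟨⟨z₁, hz₁⟩, hS (mem_zpowers _)⟩, 1,
      fun e => hz₁1 (congrArg (fun x : ↥(S : Subgroup ↥L) => ((x : ↥L) : G)) e)⟩⟩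
    obtain ⟨t, ht, ht1⟩ := (Subgroup.nontrivial_iff_exists_ne_one _).1 S.isPGroup'.center_nontrivial
    have htz : t = ⟨⟨z₁, hz₁⟩, hS (mem_zpowers _)⟩ := by
      have hc := hno ((t : ↥L) : G) (hCmem.2 ⟨(t : ↥L).2,
        congrArg (fun x : ↥(S : Subgroup ↥L) => ((x : ↥L) : G))
          (mem_center_iff.1 ht ⟨⟨z₁, hz₁⟩, hS (mem_zpowers _)⟩).symm⟩)
      exact Subtype.ext (Subtype.ext (hc fun e => ht1 (Subtype.ext (Subtype.ext e))))
    have hSC : ∀ s : ↥(S : Subgroup ↥L), ((s : ↥L) : G) ∈ C := by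
      intro s
      refine hCmem.2 ⟨(s : ↥L).2, ?_⟩
      have := congrArg (fun x : ↥(S : Subgroup ↥L) => ((x : ↥L) : G)) (mem_center_iff.1 ht s)
      rw [htz] at this
      exact this
    have hle : Nat.card ↥(S : Subgroup ↥L) ≤ 2 := by
      have hsub : (((↑) : ↥L → G) '' ((S : Subgroup ↥L) : Set ↥L)) ⊆ ({1, z₁} : Set G) := by
        rintro _ ⟨s, hs, rfl⟩
        by_cases e : (s : G) = 1
        · exact Or.inl e
        · exact Or.inr (hno _ (hSC ⟨s, hs⟩) e)
      have h1 := Set.ncard_le_ncard hsub (Set.toFinite _)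
      rw [Set.ncard_image_of_injective _ Subtype.val_injective, Set.ncard_pair (Ne.symm hz₁1)] at h1
      exact (Nat.card_coe_set_eq ((S : Subgroup ↥L) : Set ↥L)).trans_le h1
    have h4 : 4 ∣ Nat.card ↥L := four_dvd_card_of_simple hLna h2L
    have h5 : 4 ∣ Nat.card ↥(S : Subgroup ↥L) :=
      (S.pow_dvd_card_of_pow_dvd_card (n := 2) (by simpa using h4))
    exact absurd (Nat.le_of_dvd Nat.card_pos h5) (by omega)
  -- exactly two components
  have htwo : ∀ K, IsComponent K → K = L ∨ K = cj u L := by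
    intro K hK
    by_contra hne
    push_neg at hne
    -- reduce to a component in the `Q`-orbit
    have horb : ∃ v ∈ Q, cj v L = K := by
      by_contra hno
      push_neg at hno
      refine z_moved h hR hK fun x hx' => ?_
      set O := ⨆ q : ↥Q, cj (q : G) L with hO
      have hle : L ≤ O := (cj_one L).ge.trans
        ((le_of_eq (by rw [OneMemClass.coe_one])).trans (le_iSup (fun q : ↥Q => cj (q : G) L) 1))
      have hOn : Q ≤ normalizer (O : Set G) := by
        intro y hy
        refine mem_normalizer_fintype fun o ho => ?_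
        have hle' : O ≤ O.comap (MulAut.conj y).toMonoidHom := by
          refine iSup_le fun q => ?_
          rintro _ ⟨a, ha, rfl⟩
          show y * ((q : G) * a * (q : G)⁻¹) * y⁻¹ ∈ O
          have : y * ((q : G) * a * (q : G)⁻¹) * y⁻¹ =
              ((⟨y, hy⟩ * q : ↥Q) : G) * a * ((⟨y, hy⟩ * q : ↥Q) : G)⁻¹ := by
            rw [Subgroup.coe_mul]; group
          rw [this]
          exact le_iSup (fun q : ↥Q => cj (q : G) L) _ (conj_mem_cj ha)
        exact hle' ho
      have hzO : z ∈ O := mem_of_ne_bot h hOn fun e => (isQuasisimple_ne_bot hL.2) (le_bot_iff.1 (e ▸ hle))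
      have hc : O ≤ centralizer (K : Set G) := iSup_le fun q =>
        commutator_eq_bot_iff_le_centralizer.1
          (components_commute (isComponent_conj hL _) hK (hno q q.2))
      exact hc hzO x hx'
    obtain ⟨v, hv, hvK⟩ := horb
    obtain ⟨hc₀L, hc₀c⟩ := hCmem.1 hc₀
    have hvL : cj v L ≠ L := hvK ▸ hne.1
    have hvuL : cj (v * u) L ≠ L := by
      intro e
      apply hne.2
      rw [← hvK]
      have huv : cj (u * v) (cj u L) = cj u L := by
        rw [cj_cj, mul_assoc, ← cj_cj, e]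
      have h2 : cj (u * u) L = L := by
        refine cj_eq_self ?_
        rcases h.lhyp.sq u hu with e' | e' <;> rw [e']
        · exact one_mem _
        · exact layer_le_normalizer_component hL (z_mem_layer h hR)
      have h3 : cj (u * v) (cj u L) = cj u (cj (v * u) L) := by rw [cj_cj, cj_cj, mul_assoc]
      rw [e] at h3
      calc cj v L = cj (u * (u * v)) L := ?_
        _ = cj u L := ?_
      · rw [← mul_assoc, ← cj_cj (u * u)]
        exact (cj_eq_self (by
          rcases h.lhyp.sq u hu with e' | e' <;> rw [e']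
          · exact one_mem _
          · exact layer_le_normalizer_component (isComponent_conj hL v) (z_mem_layer h hR))).symm
      · rw [← cj_cj]
        congr 1
        rcases h.lhyp.conj v hv u hu with e' | e'
        · have e'' : v * u = u * v := mul_inv_eq_iff_eq_mul.1 e'
          rw [← e'']; exact e
        · have e'' : v * u = z * (u * v) := by
            rw [← mul_assoc]; exact mul_inv_eq_iff_eq_mul.1 e'
          have : cj z (cj (u * v) L) = cj (u * v) L :=
            cj_eq_self (layer_le_normalizer_component (isComponent_conj hL _) (z_mem_layer h hR))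
          rw [← this, cj_cj, ← e'']; exact e
    set d := u * c₀⁻¹ * u⁻¹ with hd
    have hdo : d ∈ others L := hcjo u huL _ (inv_mem hc₀L)
    have hc1 : v * c₀ * v⁻¹ ∈ others L := hcjo v hvL _ hc₀L
    have hd1 : v * d * v⁻¹ ∈ others L := by
      have := hcjo (v * u) hvuL _ (inv_mem hc₀L)
      simpa [hd, mul_assoc] using this
    have e1 : v * (c₀ * d) * v⁻¹ = 1 * ((v * c₀ * v⁻¹) * (v * d * v⁻¹)) := by group
    rcases h.lhyp.conj v hv _ (hx c₀ hc₀L hc₀c) with h1 | h1
    · rw [e1] at h1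
      exact hc₀1 (coord_unique h hR hL (one_mem _) hc₀L (mul_mem hc1 hd1) hdo h1).1.symm
    · have e2 : z * (c₀ * d) = (z₁ * c₀) * (z' * d) := by
        rw [hzz]
        calc z₁ * z' * (c₀ * d) = z₁ * (z' * c₀) * d := by group
          _ = _ := by rw [← others_commute hL hc₀L hz']; group
      rw [e1, e2] at h1
      have h3 := (coord_unique h hR hL (one_mem _) (mul_mem hz₁ hc₀L) (mul_mem hc1 hd1)
        (mul_mem hz' hdo) h1).1
      apply hc₀z
      rw [← hz₁inv]
      exact eq_inv_of_mul_eq_one_right h3.symm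
  have hoth : others L = cj u L := by
    refine le_antisymm (iSup_le fun K => ((htwo K K.2.1).resolve_left K.2.2).le) ?_
    exact le_iSup (fun K : {K : Subgroup G // IsComponent K ∧ K ≠ L} => (K : Subgroup G))
      ⟨cj u L, hLu, huL⟩
  have huu : cj u (cj u L) = L := by
    rcases htwo (cj u (cj u L)) (isComponent_conj hLu u) with e | e
    · exact e
    · exact absurd ((Subgroup.map_injective (MulAut.conj u).injective) e) huL
  have hz'eq : z' = u * z₁ * u⁻¹ := by
    have h1 : u * z' * u⁻¹ ∈ L := by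
      have := conj_mem_cj (g := u) (hoth ▸ hz' : z' ∈ cj u L)
      rwa [huu] at this
    have h2 : u * z₁ * u⁻¹ ∈ others L := hcjo u huL _ hz₁
    have h3 : z₁ * z' = (u * z' * u⁻¹) * (u * z₁ * u⁻¹) := by
      have hzu : u * z * u⁻¹ = z := by rw [h.lhyp.comm u hu, mul_inv_cancel_right]
      calc z₁ * z' = u * z * u⁻¹ := by rw [hzu, hzz]
        _ = u * (z' * z₁) * u⁻¹ := by rw [hzz, others_commute hL hz₁ hz']
        _ = _ := by group
    exact (coord_unique h hR hL hz₁ h1 hz' h2 h3).2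
  refine ⟨L, u, hu, hLs, hLna, ?_, ?_, ?_, z₁, hz₁, by rw [← hz'eq, hzz], ?_, ?_⟩
  · rw [eq_bot_iff]
    exact fun x hx' => others_disjoint h hR hL hx'.1 (hoth ▸ hx'.2)
  · exact fun x hx' y hy => others_commute hL hx' (hoth ▸ hy)
  · refine le_antisymm (sup_le (component_le_layer hL) (component_le_layer hLu)) (sSup_le fun K hK => ?_)
    rcases htwo K hK with e | e <;> rw [e]
    exacts [le_sup_left, le_sup_right]
  · -- the Sylow subgroup
    obtain ⟨S⟩ := (inferInstance : Nonempty (Sylow 2 ↥L))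
    obtain ⟨T, hT⟩ : ∃ T : Sylow 2 G, (S : Subgroup ↥L).map L.subtype ≤ T :=
      (S.isPGroup'.map L.subtype).exists_le_sylow
    obtain ⟨T₀, hT₀⟩ : ∃ T₀ : Sylow 2 G, Q ≤ T₀ := h.lhyp.isPGroup.exists_le_sylow
    obtain ⟨g, hg⟩ := MulAction.exists_smul_eq G T₀ T
    have hTz : ∀ x ∈ (T : Subgroup G), x * (g * z * g⁻¹) = (g * z * g⁻¹) * x := by
      intro x hx'
      rw [← hg] at hx'
      obtain ⟨y, hy, rfl⟩ := hx'
      show g * y * g⁻¹ * (g * z * g⁻¹) = g * z * g⁻¹ * (g * y * g⁻¹)
      have hyz : y * z = z * y := by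
        haveI : Nontrivial ↥(T₀ : Subgroup G) :=
          ⟨⟨⟨z, hT₀ h.lhyp.mem⟩, 1, fun e => h.lhyp.ne_one (congrArg Subtype.val e)⟩⟩
        obtain ⟨t, ht, ht1⟩ := (Subgroup.nontrivial_iff_exists_ne_one _).1 T₀.isPGroup'.center_nontrivial
        have htz : (t : G) = z := (h.lhyp.cent (t : G) fun q hq =>
          (congrArg Subtype.val (mem_center_iff.1 ht ⟨q, hT₀ hq⟩)).symm).resolve_left
            fun e => ht1 (Subtype.ext e)
        have := congrArg Subtype.val (mem_center_iff.1 ht ⟨y, hy⟩)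
        rw [Subgroup.coe_mul, Subgroup.coe_mul, htz] at this
        exact this
      calc g * y * g⁻¹ * (g * z * g⁻¹) = g * (y * z) * g⁻¹ := by group
        _ = _ := by rw [hyz]; group
    -- an element `k` normalising `L` with `S` centralising `k z₁ k⁻¹`
    obtain ⟨k, hk, hkc⟩ : ∃ k, cj k L = L ∧ ∀ s : ↥(S : Subgroup ↥L),
        ((s : ↥L) : G) * (k * z₁ * k⁻¹) = (k * z₁ * k⁻¹) * ((s : ↥L) : G) := by
      have hgz : ∀ (a b : G), a ∈ L → b ∈ others L → g * z * g⁻¹ = a * b →
          ∀ s : ↥(S : Subgroup ↥L), ((s : ↥L) : G) * a = a * ((s : ↥L) : G) := by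
        intro a b ha hb e s
        have hsT := hTz _ (hT ⟨s, s.2, rfl⟩)
        rw [e] at hsT
        have hs : ((s : ↥L) : G) ∈ L := (s : ↥L).2
        change ((s : ↥L) : G) * (a * b) = a * b * ((s : ↥L) : G) at hsT
        rw [← mul_assoc, mul_assoc a b, ← others_commute hL hs hb, ← mul_assoc] at hsT
        exact mul_right_cancel hsT
      rcases htwo (cj g L) (isComponent_conj hL g) with e | e
      · refine ⟨g, e, hgz _ (g * z' * g⁻¹) (e ▸ conj_mem_cj hz₁) ?_ (by rw [hzz]; group)⟩
        rcases htwo (cj g (cj u L)) (isComponent_conj hLu g) with e2 | e2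
        · exact absurd ((Subgroup.map_injective (MulAut.conj g).injective) (e2.trans e.symm)) huL
        · rw [hoth, ← e2]; exact conj_mem_cj (hoth ▸ hz')
      · have e2 : cj g (cj u L) = L := by
          rcases htwo (cj g (cj u L)) (isComponent_conj hLu g) with e2 | e2
          · exact e2
          · exact absurd ((Subgroup.map_injective (MulAut.conj g).injective) (e2.trans e.symm)) huL
        refine ⟨g * u, by rw [← cj_cj]; exact e2, ?_⟩
        have e3 : g * u * z₁ * (g * u)⁻¹ = g * z' * g⁻¹ := by rw [hz'eq]; group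
        rw [e3]
        refine hgz _ (g * z₁ * g⁻¹) ?_ ?_ ?_
        · rw [← e2]; exact conj_mem_cj (hoth ▸ hz')
        · rw [hoth, ← e]; exact conj_mem_cj hz₁
        · rw [hzz, others_commute hL hz₁ hz']; group
    have hinj : Nat.card ↥(S : Subgroup ↥L) ≤ Nat.card ↥C := by
      have hmem : ∀ s : ↥(S : Subgroup ↥L), k⁻¹ * ((s : ↥L) : G) * k ∈ C := fun s => by
        refine hCmem.2 ⟨?_, ?_⟩
        · have h1 : ((s : ↥L) : G) ∈ cj k L := by rw [hk]; exact (s : ↥L).2
          obtain ⟨a, ha, hae⟩ := h1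
          rw [← hae]
          show k⁻¹ * (k * a * k⁻¹) * k ∈ L
          simpa [mul_assoc] using ha
        · have h1 := congrArg (fun x => k⁻¹ * x * k) (hkc s)
          simpa [mul_assoc] using h1
      refine Nat.card_le_card_of_injective (fun s => (⟨_, hmem s⟩ : ↥C)) fun a b e => ?_
      have e' : k⁻¹ * ((a : ↥L) : G) * k = k⁻¹ * ((b : ↥L) : G) * k := congrArg Subtype.val e
      exact Subtype.ext (Subtype.ext (mul_left_cancel (mul_right_cancel e')))
    have hCL : C ≤ L := inf_le_left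
    obtain ⟨R, hR'⟩ : ∃ R : Sylow 2 ↥L, C.subgroupOf L ≤ R :=
      (hC2.comap_subtype).exists_le_sylow
    have hReq : C.subgroupOf L = (R : Subgroup ↥L) := by
      refine Subgroup.eq_of_le_of_card_ge hR' ?_
      rw [Nat.card_congr (subgroupOfEquivOfLe hCL).toEquiv]
      refine le_trans (le_of_eq ?_) hinj
      exact Nat.card_congr (Sylow.equiv R S).toEquiv
    have hC' : C.subgroupOf L = (centralizer ({z₁} : Set G)).subgroupOf L := by
      rw [hC, inf_subgroupOf_left]
    refine ⟨R, hReq.symm.trans hC', ?_⟩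
    rw [map_le_iff_le_comap]
    refine frattini_le_of_sq_mem _ ?_ ?_
    · intro x
      have hxC : ((x : ↥L) : G) ∈ C := mem_subgroupOf.1 (hReq.ge x.2)
      show ((x : ↥L) : G) * ((x : ↥L) : G) ∈ zpowers z₁
      rcases hsq _ (hCmem.1 hxC).1 (hCmem.1 hxC).2 with e | e <;> rw [e]
      exacts [one_mem _, mem_zpowers _]
    · intro x y
      have hxC : ((x : ↥L) : G) ∈ C := mem_subgroupOf.1 (hReq.ge x.2)
      have hyC : ((y : ↥L) : G) ∈ C := mem_subgroupOf.1 (hReq.ge y.2)
      show ((x : ↥L) : G) * ((y : ↥L) : G) * ((x : ↥L) : G)⁻¹ * ((y : ↥L) : G)⁻¹ ∈ zpowers z₁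
      rcases hcomm _ (hCmem.1 hxC).1 (hCmem.1 hxC).2 _ (hCmem.1 hyC).1 (hCmem.1 hyC).2 with e | e <;> rw [e]
      exacts [one_mem _, mem_zpowers _]
  · -- `Q` is not the whole 2-core of `C(z)`
    intro hQ
    set H := centralizer ({z} : Set G) with hH
    have hNp : IsPGroup 2 ↥(H ⊓ layer G) := by
      intro x
      obtain ⟨a, ha, b, hb, hab⟩ := decompose hL x.2.2
      have hxz : (x : G) * z = z * x := mem_centralizer_singleton_iff.1 x.2.1
      rw [hab, hzz] at hxz
      have e1 : a * b * (z₁ * z') = (a * z₁) * (b * z') := by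
        calc a * b * (z₁ * z') = a * (b * z₁) * z' := by group
          _ = _ := by rw [← others_commute hL hz₁ hb]; group
      have e2 : z₁ * z' * (a * b) = (z₁ * a) * (z' * b) := by
        calc z₁ * z' * (a * b) = z₁ * (z' * a) * b := by group
          _ = _ := by rw [← others_commute hL ha hz']; group
      rw [e1, e2] at hxz
      obtain ⟨ea, eb⟩ := coord_unique h hR hL (mul_mem ha hz₁) (mul_mem hz₁ ha) (mul_mem hb hz')
        (mul_mem hz' hb) hxz
      rw [hoth] at hb
      obtain ⟨b₁, hb₁, hb₁e⟩ := hb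
      have hb₁z : b₁ * z₁ = z₁ * b₁ := by
        rw [← hb₁e, hz'eq] at eb
        have h1 := congrArg (fun t => u⁻¹ * t * u) eb
        simpa [mul_assoc] using h1
      obtain ⟨i, hi⟩ := hpow a ha ea
      obtain ⟨j, hj⟩ := hpow b₁ hb₁ hb₁z
      refine ⟨i + j, Subtype.ext ?_⟩
      show (x : G) ^ 2 ^ (i + j) = 1
      rw [hab, (show Commute a b from others_commute hL ha (hoth ▸ ⟨b₁, hb₁, hb₁e⟩)).mul_pow, ← hb₁e]
      show a ^ 2 ^ (i + j) * (u * b₁ * u⁻¹) ^ 2 ^ (i + j) = 1
      rw [conj_pow, pow_add, pow_mul, hi, one_pow, mul_comm (2 ^ i), pow_mul, hj, one_pow]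
      group
    have hle : H ⊓ layer G ≤ Q := by
      rw [hQ]
      haveI : ((H ⊓ layer G).subgroupOf H).Normal := ⟨fun n hn g => mem_subgroupOf.2 (Subgroup.mem_inf.2
        ⟨(g * n * g⁻¹).2, (inferInstance : (layer G).Normal).conj_mem _ (Subgroup.mem_inf.1 (mem_subgroupOf.1 hn)).2 g⟩)⟩
      have hle' : (H ⊓ layer G).subgroupOf H ≤ pCore 2 ↥H :=
        le_pCore' (hNp.comap_subtype (K := H))
      have := map_mono (f := H.subtype) hle'
      rwa [map_subgroupOf_eq_of_le inf_le_left] at this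
    obtain ⟨hcL, hcc⟩ := hCmem.1 hc₀
    have hcQ : c₀ ∈ Q := hle ⟨mem_centralizer_singleton_iff.2 (hCz c₀ hcL hcc),
      component_le_layer hL hcL⟩
    rcases h.lhyp.conj u hu c₀ hcQ with e | e
    · exact hc₀1 (others_disjoint h hR hL hcL (e ▸ hcjo u huL c₀ hcL))
    · have h1 : 1 * (u * c₀ * u⁻¹) = (z₁ * c₀) * z' := by
        rw [one_mul, e, hzz, mul_assoc, ← others_commute hL hcL hz', mul_assoc]
      have h2 := (coord_unique h hR hL (one_mem _) (mul_mem hz₁ hcL) (hcjo u huL c₀ hcL) hz' h1).1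
      apply hc₀z
      rw [← hz₁inv]
      exact eq_inv_of_mul_eq_one_right h2.symm

end Trivial

end Cfsg.Agent.LargeExtraspecialStructure
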