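import Cfsg.Agent.Lib.LargeExtraspecial
import Cfsg.Agent.Lib.TransferFixed
import Cfsg.Agent.Lib.TransferPResidual

/-!
# The transfer into a group of exponent 2 and large extraspecial subgroups
-/

set_option autoImplicit false

namespace Cfsg.Agent.LargeExtraspecialTransfer62

open Subgroup MulAction Cfsg.Agent.LargeExtraspecial

variable {G : Type*} [Group G]

/-- In an extraspecial group of order at least 32 centralizers are not abelian. -/
theorem exists_noncomm [Finite G] {Q : Subgroup G} {z x : G} (h : Ext Q z) (hx : x ∈ Q)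
    (h1 : x ≠ 1) (hz : x ≠ z) (hcard : 32 ≤ Nat.card Q) :
    ∃ a ∈ Q, ∃ b ∈ Q, a * x = x * a ∧ b * x = x * b ∧ a * b * a⁻¹ = z * b := by
  by_contra hno
  push Not at hno
  obtain ⟨w, hw, ew⟩ := h.partner x hx h1 hz
  have hab : ∀ s ∈ Q, s * x = x * s → ∀ t ∈ Q, t * x = x * t → t * s = s * t := fun s hs hcs t ht hct =>
    mul_inv_eq_iff_eq_mul.mp ((h.conj t ht s hs).resolve_right (hno t ht s hs hct hcs))
  have hmem : ∀ s ∈ Q, s * x = x * s → s ∈ ({1, z, x⁻¹, z * x⁻¹} : Set G) := by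
    intro s hs hcs
    simpa using h.double_centralizer hx hs fun t ht hct => hab s hs hcs t ht hct
  have hsub : (Q : Set G) ⊆
      ({1, z, x⁻¹, z * x⁻¹} : Set G) ∪ (fun s => w⁻¹ * s) '' {1, z, x⁻¹, z * x⁻¹} := by
    intro q hq
    by_cases hqx : q * x = x * q
    · exact Or.inl (hmem q hq hqx)
    · refine Or.inr ⟨w * q, hmem _ (Q.mul_mem hw hq) ?_, by group⟩
      exact mul_inv_eq_iff_eq_mul.mp (h.mul_fix hw ew ((h.not_comm_iff hx hq).mp hqx))
  have h4 : ({1, z, x⁻¹, z * x⁻¹} : Set G).ncard ≤ 4 := by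
    refine (Set.ncard_insert_le _ _).trans ?_
    refine (Nat.add_le_add_right (Set.ncard_insert_le _ _) _).trans ?_
    refine (Nat.add_le_add_right (Nat.add_le_add_right (Set.ncard_insert_le _ _) _) _).trans ?_
    rw [Set.ncard_singleton]
  have h2 := Set.ncard_le_ncard hsub (Set.toFinite _)
  have h5 := Set.ncard_union_le ({1, z, x⁻¹, z * x⁻¹} : Set G)
    ((fun s => w⁻¹ * s) '' {1, z, x⁻¹, z * x⁻¹})
  have h6 : ((fun s => w⁻¹ * s) '' ({1, z, x⁻¹, z * x⁻¹} : Set G)).ncard ≤ 4 :=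
    (Set.ncard_image_le (Set.toFinite _)).trans h4
  rw [← SetLike.coe_sort_coe, Nat.card_coe_set_eq] at hcard
  omega

/-- A non-trivial homomorphism into a group of exponent 2 is non-trivial on some involution. -/
theorem exists_involution [Finite G] {Q : Subgroup G} {z : G} (h : Ext Q z)
    (hcard : 32 ≤ Nat.card Q) {A : Type*} [CommGroup A] (hA : ∀ a : A, a * a = 1) (ψ : Q →* A)
    (hψ : ψ ≠ 1) : ∃ x : Q, x * x = 1 ∧ ψ x ≠ 1 := by
  by_contra hno
  push Not at hno
  obtain ⟨u, hu⟩ : ∃ u : Q, ψ u ≠ 1 := by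
    by_contra hc
    push Not at hc
    exact hψ (MonoidHom.ext hc)
  have hzQ : ψ ⟨z, h.mem⟩ = 1 := hno _ (Subtype.ext h.zz)
  -- elements of order four have non-trivial value; commuting products
  have hu2 : (u : G) * u = z := (h.sq u u.2).resolve_left fun e => hu (hno u (Subtype.ext e))
  obtain ⟨a, ha, b, hb, hax, hbx, hab⟩ := exists_noncomm h u.2
    (fun e => hu (by rw [show u = 1 from Subtype.ext e, map_one]))
    (fun e => hu (by rw [show u = ⟨z, h.mem⟩ from Subtype.ext e, hzQ])) hcard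
  have key : ∀ t : Q, (t : G) * u = u * t → (ψ t = 1 ↔ (t : G) * t = 1) := by
    intro t htu
    refine ⟨fun ht => (h.sq t t.2).resolve_right fun e => hu ?_, fun e => hno t (Subtype.ext e)⟩
    have hsq : ((u * t : Q) : G) * ((u * t : Q) : G) = 1 := by
      push_cast
      rw [mul_assoc, ← mul_assoc (t : G), htu, mul_assoc (u : G) t t, e, ← mul_assoc, hu2, h.zz]
    have h3 := hno (u * t) (Subtype.ext hsq)
    rwa [map_mul, ht, mul_one] at h3
  have ka := key ⟨a, ha⟩ hax
  have kb := key ⟨b, hb⟩ hbx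
  have kab := key (⟨a, ha⟩ * ⟨b, hb⟩) (by push_cast; rw [mul_assoc, hbx, ← mul_assoc, hax, mul_assoc])
  rw [map_mul] at kab
  simp only [Subgroup.coe_mul] at kab ka kb
  have hne : a * b ≠ b * a := fun e => h.z_mul_ne b (by rw [← hab, e, mul_inv_cancel_right])
  have hba : b * a = z * (a * b) := by
    have e1 : a * b = z * b * a := mul_inv_eq_iff_eq_mul.mp hab
    rw [e1, mul_assoc z b a, h.z_mul_z_mul]
  have habab : a * b * (a * b) = z * (a * a * (b * b)) := by
    calc a * b * (a * b) = a * (b * a) * b := by group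
      _ = a * (z * (a * b)) * b := by rw [hba]
      _ = (a * z) * (a * b * b) := by group
      _ = z * (a * a * (b * b)) := by rw [h.comm a ha]; group
  rcases h.sq a ha with e1 | e1 <;> rcases h.sq b hb with e2 | e2
  · rw [ka.mpr e1, kb.mpr e2, one_mul, habab, e1, e2, one_mul, mul_one] at kab
    exact h.ne_one (kab.mp rfl)
  · rw [ka.mpr e1, one_mul, habab, e1, e2, one_mul, h.zz] at kab
    exact h.ne_one (e2.symm.trans (kb.mp (kab.mpr rfl)))
  · rw [kb.mpr e2, mul_one, habab, e1, e2, mul_one, h.zz] at kab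
    exact h.ne_one (e1.symm.trans (ka.mp (kab.mpr rfl)))
  · have e3 : a * b * (a * b) = z := by rw [habab, e1, e2, h.zz, mul_one]
    rw [e3] at kab
    have na : ψ ⟨a, ha⟩ ≠ 1 := fun e => h.ne_one (e1.symm.trans (ka.mp e))
    have nb : ψ ⟨b, hb⟩ ≠ 1 := fun e => h.ne_one (e2.symm.trans (kb.mp e))
    have nab : ψ ⟨a, ha⟩ * ψ ⟨b, hb⟩ ≠ 1 := fun e => h.ne_one (kab.mp e)
    -- with `u` the value is again non-trivial on the involution `u a`
    have hsq : ((u * ⟨a, ha⟩ : Q) : G) * ((u * ⟨a, ha⟩ : Q) : G) = 1 := by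
      push_cast
      rw [mul_assoc, ← mul_assoc a, hax, mul_assoc (u : G) a a, e1, ← mul_assoc, hu2, h.zz]
    have hsq' : ((u * ⟨b, hb⟩ : Q) : G) * ((u * ⟨b, hb⟩ : Q) : G) = 1 := by
      push_cast
      rw [mul_assoc, ← mul_assoc b, hbx, mul_assoc (u : G) b b, e2, ← mul_assoc, hu2, h.zz]
    have h3 := hno _ (Subtype.ext hsq)
    have h4 := hno _ (Subtype.ext hsq')
    rw [map_mul] at h3 h4
    have h5 : ψ ⟨a, ha⟩ = ψ ⟨b, hb⟩ := mul_left_cancel (h3.trans h4.symm)
    exact nab (h5 ▸ hA _)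

open scoped Classical in
/-- Let `z` be an involution with `C(E) ≤ E` for the extraspecial subgroup `E` of order at least 32
normal in `C(z)`. If `G` has no non-trivial homomorphism into the group `A` of exponent 2, then every
homomorphism from `C(z)` into `A` kills `E`. -/
theorem hom_trivial [Finite G] {E : Subgroup G} {z : G} (h : Ext E z) (hcard : 32 ≤ Nat.card E)
    (hcent : centralizer (E : Set G) ≤ E) {A : Type*} [CommGroup A] (hA : ∀ a : A, a * a = 1)
    (hG : ∀ f : G →* A, f = 1) (φ : centralizer ({z} : Set G) →* A)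
    {e : centralizer ({z} : Set G)} (he : (e : G) ∈ E) : φ e = 1 := by
  revert φ e
  set H := centralizer ({z} : Set G) with hH
  intro φ e he
  haveI : Fintype (G ⧸ H) := Fintype.ofFinite _
  have hEH : E ≤ H := fun y hy => mem_centralizer_singleton_iff.mpr (h.comm y hy)
  by_contra hne
  obtain ⟨x, hx2, hxφ⟩ := exists_involution h hcard hA (φ.comp (inclusion hEH))
    (fun h0 => hne (DFunLike.congr_fun h0 ⟨e, he⟩))
  have hx1 : (x : G) ≠ 1 := fun e => hxφ (by rw [show x = 1 from Subtype.ext e, map_one])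
  have hxx : (x : G) * x = 1 := congrArg Subtype.val hx2
  -- `z` is a commutator inside `C_E(x)`
  have hxz : (x : G) ≠ z := by
    intro e'
    obtain ⟨y, hy, hy1, hyz⟩ : ∃ y ∈ E, y ≠ 1 ∧ y ≠ z := by
      by_contra hc
      push Not at hc
      have hsub : (E : Set G) ⊆ {1, z} := fun y hy => by
        rcases eq_or_ne y 1 with h1 | h1
        · exact Or.inl h1
        · exact Or.inr (hc y hy h1)
      have h1 := (Set.ncard_le_ncard hsub (Set.toFinite _)).trans (Set.ncard_insert_le _ _)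
      rw [Set.ncard_singleton] at h1
      rw [← SetLike.coe_sort_coe, Nat.card_coe_set_eq] at hcard
      omega
    obtain ⟨a, ha, b, hb, -, -, hab⟩ := exists_noncomm h hy hy1 hyz hcard
    refine hxφ ?_
    have h1 : x = (⟨a, ha⟩ : E) * ⟨b, hb⟩ * ⟨a, ha⟩⁻¹ * ⟨b, hb⟩⁻¹ := by
      apply Subtype.ext
      push_cast
      rw [hab, mul_inv_cancel_right, e']
    rw [h1, map_mul, map_mul, map_mul, map_inv, map_inv, mul_inv_cancel_comm, mul_inv_cancel]
  obtain ⟨a, ha, b, hb, hax, hbx, hab⟩ := exists_noncomm h x.2 hx1 hxz hcard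
  obtain ⟨x', hx', hxx'⟩ := h.partner x x.2 hx1 hxz
  -- transfer
  set T := E ⊓ centralizer ({(x : G)} : Set G) with hT
  have hTx : ∀ t ∈ T, t * x = x * t := fun t ht => mem_centralizer_singleton_iff.mp ht.2
  have hTp : IsPGroup 2 T := (Ext.isPGroup h).to_le inf_le_left
  have hxord : orderOf (x : G) = 2 ^ 1 := by
    rw [pow_one]
    exact orderOf_eq_prime (by rw [pow_two]; exact hxx) hx1
  have htr := TransferFixed.transfer_eq_prod_fixedValue φ hxord (fun g k hk hmem => by
    obtain ⟨j, rfl⟩ := hk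
    have h1 : (⟨_, hmem⟩ : H) = 1 := by
      apply Subtype.ext
      show g⁻¹ * (x : G) ^ (2 * j) * g = 1
      rw [pow_mul, pow_two, hxx, one_pow, mul_one, inv_mul_cancel]
    rw [h1, map_one])
  rw [hG (MonoidHom.transfer φ), MonoidHom.one_apply] at htr
  -- values along `T`-orbits
  have hval : ∀ t ∈ T, ∀ q : G ⧸ H, TransferFixed.fixedValue φ (x : G) (t • q) =
      TransferFixed.fixedValue φ (x : G) q := by
    intro t ht q
    induction q using QuotientGroup.induction_on with
    | _ g =>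
    change TransferFixed.fixedValue φ (x : G) ((t * g : G) : G ⧸ H) = _
    have e1 : (t * g)⁻¹ * (x : G) * (t * g) = g⁻¹ * x * g := by
      rw [show (t * g)⁻¹ * (x : G) * (t * g) = g⁻¹ * (t⁻¹ * (x * t)) * g by group, ← hTx t ht,
        inv_mul_cancel_left]
    by_cases hg : g⁻¹ * (x : G) * g ∈ H
    · rw [TransferFixed.fixedValue_mk φ hg, TransferFixed.fixedValue_mk φ (e1.symm ▸ hg)]
      congr 1
      exact Subtype.ext e1
    · rw [TransferFixed.fixedValue_of_ne, TransferFixed.fixedValue_of_ne]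
      · intro hq
        exact hg (by
          have := TransferFixed.mem_of_smul_eq hq
          obtain ⟨k, hk⟩ := QuotientGroup.mk_out_eq_mul H g
          rw [hk, show (g * (k : G))⁻¹ * x * (g * k) = (k : G)⁻¹ * (g⁻¹ * x * g) * k by group] at this
          have h2 := H.mul_mem (H.mul_mem k.2 this) (H.inv_mem k.2)
          simpa [mul_assoc] using h2)
      · intro hq
        refine hg ?_
        have hq' : (((x : G) * (t * g) : G) : G ⧸ H) = ((t * g : G) : G ⧸ H) := hq
        have h2 := QuotientGroup.eq.mp hq'.symm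
        rwa [← mul_assoc, e1] at h2
  rw [TransferFixed.prod_eq_prod_fixed (S := T) (TransferFixed.fixedValue φ (x : G)) (fun q hq => by
    have hconst : ∀ r ∈ Finset.univ.filter (· ∈ orbit T q),
        TransferFixed.fixedValue φ (x : G) r = TransferFixed.fixedValue φ (x : G) q := by
      intro r hr
      obtain ⟨t, rfl⟩ := (Finset.mem_filter.mp hr).2
      exact hval t t.2 q
    rw [Finset.prod_congr rfl hconst, Finset.prod_const]
    obtain ⟨k, hk⟩ := hTp.card_orbit q
    have hk2 : (Finset.univ.filter (· ∈ orbit T q)).card = 2 ^ k := by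
      rw [← hk, Nat.card_eq_fintype_card, ← Set.toFinset_card]
      congr 1
      ext r
      simp
    rw [hk2]
    rcases k with _ | k
    · exfalso
      apply hq
      intro t
      have h1 : Nat.card (orbit T q) = 1 := hk
      obtain ⟨_, ⟨r, hr⟩⟩ := Nat.card_eq_one_iff_unique.mp h1
      have : (⟨t • q, mem_orbit q t⟩ : orbit T q) = ⟨q, mem_orbit_self q⟩ :=
        (Nat.card_eq_one_iff_unique.mp h1).1.elim _ _
      exact congrArg Subtype.val this
    · rw [pow_succ', pow_mul, pow_two, hA, one_pow])] at htr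
  set Φ := Finset.univ.filter (· ∈ fixedPoints T (G ⧸ H)) with hΦ
  have hmemΦ : ∀ q : G ⧸ H, q ∈ Φ ↔ ∀ t ∈ T, t • q = q := by
    intro q
    rw [hΦ, Finset.mem_filter]
    exact ⟨fun hq t ht => hq.2 ⟨t, ht⟩, fun hq => ⟨Finset.mem_univ _, fun t => hq t t.2⟩⟩
  have hbase : ∀ y ∈ H, y • ((1 : G) : G ⧸ H) = ((1 : G) : G ⧸ H) := by
    intro y hy
    apply TransferFixed.smul_eq_of_mem
    simpa using hy
  have h1Φ : ((1 : G) : G ⧸ H) ∈ Φ := (hmemΦ _).mpr fun t ht => hbase t (hEH ht.1)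
  -- `x'` normalizes `T`
  have hnorm : ∀ t ∈ T, x'⁻¹ * t * x' ∈ T := by
    intro t ht
    refine ⟨E.mul_mem (E.mul_mem (E.inv_mem hx') ht.1) hx', mem_centralizer_singleton_iff.mpr ?_⟩
    have e1 : x' * x * x'⁻¹ = z * x := hxx'
    have e2 : t * (z * x) = z * x * t := by
      rw [← mul_assoc, h.comm t ht.1, mul_assoc, hTx t ht, ← mul_assoc]
    rw [← e1] at e2
    calc x'⁻¹ * t * x' * x = x'⁻¹ * (t * (x' * x * x'⁻¹)) * x' := by group
      _ = x'⁻¹ * (x' * x * x'⁻¹ * t) * x' := by rw [e2]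
      _ = x * (x'⁻¹ * t * x') := by group
  have hsq' : ∀ q ∈ Φ, x' • x' • q = q := by
    intro q hq
    rw [← mul_smul]
    refine (hmemΦ q).mp hq _ ⟨E.mul_mem hx' hx', mem_centralizer_singleton_iff.mpr ?_⟩
    rcases h.sq x' hx' with e1 | e1 <;> rw [e1]
    · rw [one_mul, mul_one]
    · exact (h.comm _ x.2).symm
  have hmove : ∀ q ∈ Φ, x' • q ∈ Φ := by
    intro q hq
    rw [hmemΦ]
    intro t ht
    rw [← mul_smul, show t * x' = x' * (x'⁻¹ * t * x') by group, mul_smul,
      (hmemΦ q).mp hq _ (hnorm t ht)]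
  have hfix : ∀ q ∈ Φ, x' • q = q → q = ((1 : G) : G ⧸ H) := by
    intro q hq hq'
    induction q using QuotientGroup.induction_on with
    | _ g =>
    have hall : ∀ y ∈ E, y • ((g : G) : G ⧸ H) = (g : G ⧸ H) := by
      intro y hy
      rcases h.conj y hy x x.2 with e1 | e1
      · exact (hmemΦ _).mp hq y ⟨hy, mem_centralizer_singleton_iff.mpr (mul_inv_eq_iff_eq_mul.mp e1)⟩
      · have h2 := (hmemΦ _).mp hq (x' * y)
          ⟨E.mul_mem hx' hy, mem_centralizer_singleton_iff.mpr
            (mul_inv_eq_iff_eq_mul.mp (h.mul_fix hx' hxx' e1))⟩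
        rw [mul_smul] at h2
        calc y • ((g : G) : G ⧸ H) = x'⁻¹ • x' • y • ((g : G) : G ⧸ H) := (inv_smul_smul _ _).symm
          _ = x'⁻¹ • ((g : G) : G ⧸ H) := by rw [h2]
          _ = x'⁻¹ • x' • ((g : G) : G ⧸ H) := by rw [hq']
          _ = _ := inv_smul_smul _ _
    have hw : g * z * g⁻¹ ∈ centralizer (E : Set G) := by
      rw [mem_centralizer_iff]
      intro y hy
      have h2 : g⁻¹ * y * g ∈ H := by
        have h3 : g⁻¹ * (y * g) ∈ H := QuotientGroup.eq.mp (hall y hy).symm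
        rwa [← mul_assoc] at h3
      have h4 := mem_centralizer_singleton_iff.mp h2
      calc y * (g * z * g⁻¹) = g * ((g⁻¹ * y * g) * z) * g⁻¹ := by group
        _ = g * (z * (g⁻¹ * y * g)) * g⁻¹ := by rw [h4]
        _ = g * z * g⁻¹ * y := by group
    rcases h.central (hcent hw) (fun y hy => mem_centralizer_iff.mp hw y hy) with e1 | e1
    · exact absurd (conj_eq_one_iff.mp e1) h.ne_one
    · refine (QuotientGroup.eq.mpr ?_).symm
      rw [inv_one, one_mul, mem_centralizer_singleton_iff]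
      exact mul_inv_eq_iff_eq_mul.mp e1
  have hval' : ∀ q ∈ Φ, TransferFixed.fixedValue φ (x : G) (x' • q) =
      TransferFixed.fixedValue φ (x : G) q := by
    intro q hq
    induction q using QuotientGroup.induction_on with
    | _ g =>
    change TransferFixed.fixedValue φ (x : G) ((x' * g : G) : G ⧸ H) = _
    have hmem : ∀ t ∈ T, g⁻¹ * t * g ∈ H := by
      intro t ht
      have h3 : g⁻¹ * (t * g) ∈ H := QuotientGroup.eq.mp ((hmemΦ _).mp hq t ht).symm
      rwa [← mul_assoc] at h3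
    have hxT : (x : G) ∈ T := ⟨x.2, mem_centralizer_singleton_iff.mpr rfl⟩
    have hzT : z ∈ T := ⟨h.mem, mem_centralizer_singleton_iff.mpr (h.comm _ x.2).symm⟩
    have e1 : (x' * g)⁻¹ * (x : G) * (x' * g) = (g⁻¹ * z * g) * (g⁻¹ * x * g) := by
      have e2 : x'⁻¹ * x * x' = z * x := by
        have e3 : x' * (z * x) * x'⁻¹ = x := by
          have e4 : x' * (z * x) * x'⁻¹ = (x' * z) * x'⁻¹ * (x' * x * x'⁻¹) := by group
          rw [e4, h.comm x' hx', mul_inv_cancel_right, hxx', h.z_mul_z_mul]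
        calc x'⁻¹ * x * x' = x'⁻¹ * (x' * (z * x) * x'⁻¹) * x' := by rw [e3]
          _ = z * x := by group
      rw [show (x' * g)⁻¹ * (x : G) * (x' * g) = g⁻¹ * (x'⁻¹ * x * x') * g by group, e2]
      group
    have haT : a ∈ T := ⟨ha, mem_centralizer_singleton_iff.mpr hax⟩
    have hbT : b ∈ T := ⟨hb, mem_centralizer_singleton_iff.mpr hbx⟩
    have hzφ : φ ⟨g⁻¹ * z * g, hmem z hzT⟩ = 1 := by
      have e3 : (⟨g⁻¹ * z * g, hmem z hzT⟩ : H) = ⟨_, hmem a haT⟩ * ⟨_, hmem b hbT⟩ *
          ⟨_, hmem a haT⟩⁻¹ * ⟨_, hmem b hbT⟩⁻¹ := by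
        apply Subtype.ext
        push_cast
        calc g⁻¹ * z * g = g⁻¹ * (a * b * a⁻¹ * b⁻¹) * g := by rw [hab, mul_inv_cancel_right]
          _ = _ := by group
      rw [e3, map_mul, map_mul, map_mul, map_inv, map_inv, mul_inv_cancel_comm, mul_inv_cancel]
    rw [TransferFixed.fixedValue_mk φ (hmem x hxT),
      TransferFixed.fixedValue_mk φ (e1.symm ▸ H.mul_mem (hmem z hzT) (hmem x hxT))]
    rw [show (⟨_, e1.symm ▸ H.mul_mem (hmem z hzT) (hmem x hxT)⟩ : H) =
      ⟨_, hmem z hzT⟩ * ⟨_, hmem x hxT⟩ from Subtype.ext e1, map_mul, hzφ, one_mul]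
  have hrest : ∏ q ∈ Φ.erase ((1 : G) : G ⧸ H), TransferFixed.fixedValue φ (x : G) q = 1 := by
    refine Finset.prod_involution (fun q _ => x' • q) ?_ ?_ ?_ ?_
    · intro q hq
      rw [hval' q (Finset.mem_of_mem_erase hq), hA]
    · intro q hq _ he
      exact (Finset.ne_of_mem_erase hq) (hfix q (Finset.mem_of_mem_erase hq) he)
    · intro q hq
      refine Finset.mem_erase.mpr ⟨fun e1 => ?_, hmove q (Finset.mem_of_mem_erase hq)⟩
      have := hsq' q (Finset.mem_of_mem_erase hq)
      rw [e1, hbase x' (hEH hx')] at this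
      exact Finset.ne_of_mem_erase hq this.symm
    · intro q hq
      exact hsq' q (Finset.mem_of_mem_erase hq)
  rw [← Finset.mul_prod_erase Φ _ h1Φ, hrest, mul_one,
    TransferFixed.fixedValue_mk φ (g := 1) (by simpa using hEH x.2)] at htr
  refine hxφ (Eq.trans ?_ htr.symm)
  simp only [MonoidHom.comp_apply]
  congr 1
  apply Subtype.ext
  simp

end Cfsg.Agent.LargeExtraspecialTransfer62
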