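import Mathlib
import Cfsg.Agent.Lib.U62RecogWhole19
import Cfsg.Agent.Lib.FischerUnEquiv99
import Cfsg.Agent.Lib.OrthUnitaryHerm

/-!
A group satisfying the local hypotheses at a transposition is simple and is `U₆(2)`: modulo its
centre it is a 3-transposition group with classes of four, hence a unitary group over the field with
four elements, and the order fixes the dimension and shows that the centre is trivial.
-/

set_option autoImplicit false
set_option linter.unusedSectionVars false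
set_option linter.style.haveILetI false

namespace Cfsg.Agent.U62RecogIdent29

open Cfsg.Agent.U62RecogSetup19 Cfsg.Agent.U62RecogGraph19 Cfsg.Agent.U62RecogWhole19
open Cfsg.Agent.ThreeTransp
open Cfsg.Agent.FischerSolvClasses99 (Hx el Qx)

universe u v

variable {L : Type u} [Group L] [Finite L] {U : Type v} [Group U]
variable {D : Set L} {z : L} {T : Set U} {ψ : L → U} (S : Setup D z T ψ)
include S

theorem d_gam {a : L} (ha : a ∈ D) : a ∈ Gam D z := by rw [class_eq_gam S]; exact ha

/-- Two members commute or generate a dihedral group of order six. -/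
theorem braid {a b : L} (ha : a ∈ D) (hb : b ∈ D) (h : ¬ Commute a b) : a * b * a = b * a * b :=
  braid_gam S (d_gam S ha) (d_gam S hb) h

theorem cube {a b : L} (ha : a ∈ D) (hb : b ∈ D) (h : ¬ Commute a b) : (a * b) ^ 3 = 1 := by
  calc (a * b) ^ 3 = a * b * a * (b * a * b) := by rw [pow_three]; group
    _ = a * b * a * (a * b * a) := by rw [braid S ha hb h]
    _ = a * b * (a * a) * b * a := by group
    _ = 1 := by rw [(mem_sq S ha).1, mul_one, mul_assoc a b b, (mem_sq S hb).1, mul_one, (mem_sq S ha).1]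

/-- Non-commuting members are conjugate under the group they generate. -/
theorem conj_pair {a b : L} (ha : a ∈ D) (hb : b ∈ D) (h : ¬ Commute a b) :
    a * b * a * (a * b)⁻¹ = b := by
  calc a * b * a * (a * b)⁻¹ = a * b * a * (b⁻¹ * a⁻¹) := by group
    _ = b * a * b * (b⁻¹ * a⁻¹) := by rw [braid S ha hb h]
    _ = b := by group

/-- Two commuting members are separated by a third one. -/
theorem exists_sep {a y : L} (hy : y ∈ Xa D a) (ha : a ∈ D) :
    ∃ w ∈ D, Commute w y ∧ ¬ Commute w a := by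
  obtain ⟨ψ', S'⟩ := move S hy.1
  have haX : a ∈ Xa D y := ⟨ha, hy.2.1.symm, hy.2.2.symm⟩
  by_contra hall
  push Not at hall
  have h1 : {g | g ∈ Xa D y ∧ Commute g a} = Xa D y :=
    Set.ext fun g => ⟨fun h => h.1, fun h => ⟨h, hall g h.1 h.2.1⟩⟩
  have h2 := card_commuting S' haX
  rw [h1, S'.card_X] at h2
  omega

/-- A member commuting with neither of two commuting members. -/
theorem exists_away {y : L} (hy : y ∈ Xa D z) : ∃ w ∈ D, ¬ Commute z w ∧ ¬ Commute w y := by
  obtain ⟨ψ', S'⟩ := move S hy.1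
  by_contra hall
  push Not at hall
  have hsub : Far D z ⊆ Xa D y := fun w hw =>
    ⟨hw.1, hall w hw.1 (fun e => hw.2.1 e.symm), fun e => hw.2.1 (e ▸ hy.2.1)⟩
  have := Set.ncard_le_ncard hsub (Set.toFinite _)
  rw [card_Far S, S'.card_X] at this
  omega

theorem closure_D : Subgroup.closure D = ⊤ := by
  have hcj : ∀ d ∈ D, ∃ h ∈ Subgroup.closure D, h * z * h⁻¹ = d := by
    have step : ∀ a b, a ∈ D → b ∈ D → ¬ Commute a b →
        (∃ h ∈ Subgroup.closure D, h * z * h⁻¹ = a) → ∃ h ∈ Subgroup.closure D, h * z * h⁻¹ = b := by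
      rintro a b ha hb hn ⟨h, hh, e⟩
      refine ⟨a * b * h, mul_mem (mul_mem (Subgroup.subset_closure ha) (Subgroup.subset_closure hb)) hh, ?_⟩
      calc a * b * h * z * (a * b * h)⁻¹ = a * b * (h * z * h⁻¹) * (a * b)⁻¹ := by group
        _ = b := by rw [e, conj_pair S ha hb hn]
    intro d hd
    have hz : ∃ h ∈ Subgroup.closure D, h * z * h⁻¹ = z := ⟨1, one_mem _, by group⟩
    by_cases hc : Commute d z
    · by_cases e : d = z
      · exact e ▸ hz
      · obtain ⟨w, hw, h1, h2⟩ := exists_away S ⟨hd, hc, e⟩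
        exact step w d hw hd h2 (step z w (z_mem S) hw h1 hz)
    · exact step z d (z_mem S) hd (fun e => hc e.symm) hz
  refine eq_top_iff.2 fun g _ => ?_
  obtain ⟨h, hh, e⟩ := hcj _ (conj_mem S (z_mem S) g)
  have hc : h⁻¹ * g ∈ Subgroup.centralizer ({z} : Set L) := by
    rw [Subgroup.mem_centralizer_singleton_iff]
    calc h⁻¹ * g * z = h⁻¹ * (g * z * g⁻¹) * g := by group
      _ = h⁻¹ * (h * z * h⁻¹) * g := by rw [e]
      _ = z * (h⁻¹ * g) := by group
  rw [← S.gens] at hc
  have hle : Subgroup.closure (insert z (Xa D z)) ≤ Subgroup.closure D := by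
    refine Subgroup.closure_mono (Set.insert_subset_iff.2 ⟨z_mem S, fun x hx => hx.1⟩)
  have := mul_mem hh (hle hc)
  rwa [mul_inv_cancel_left] at this

theorem tc : TC D where
  sq := fun a ha => (mem_sq S ha).1
  or3 := fun a ha b hb => by
    by_cases h : Commute a b
    · exact Or.inl h
    · exact Or.inr (cube S ha hb h)
  conj := fun g d hd => conj_mem S hd g
  gen := closure_D S
  trans := fun a ha b hb => by
    obtain ⟨g, rfl⟩ := exists_cj S ha
    obtain ⟨h, rfl⟩ := exists_cj S hb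
    exact ⟨h * g⁻¹, by group⟩
  nonempty := ⟨z, z_mem S⟩

/-- Abelian images are trivial. -/
theorem hom_trivial {A : Type*} [Group A] (f : L →* A) (hf : ∀ x y, f x * f y = f y * f x) :
    ∀ g, f g = 1 := by
  have hD : ∀ d ∈ D, f d = f z := by
    intro d hd
    obtain ⟨g, rfl⟩ := exists_cj S hd
    rw [map_mul, map_mul, hf g z, map_inv, mul_inv_cancel_right]
  obtain ⟨x, hx⟩ := xa_nonempty S
  obtain ⟨a, b, c, ha, hb, hc, -, -, -, -, -, -, -, -, -, -, hprod⟩ := four_members S hx
  have h1 : f z = 1 := by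
    have h2 : f z * f z = 1 := by rw [← map_mul, S.zz, map_one]
    have h := congrArg f hprod
    rw [map_mul, map_mul, map_mul, hD _ hx.1, hD _ ha.1, hD _ hb.1, hD _ hc.1, h2, one_mul, h2] at h
    exact h.symm
  intro g
  have hle : Subgroup.closure D ≤ f.ker :=
    (Subgroup.closure_le _).2 fun d hd => by rw [SetLike.mem_coe, MonoidHom.mem_ker, hD d hd, h1]
  exact hle (closure_D S ▸ Subgroup.mem_top g)

theorem perfect : commutator L = ⊤ := by
  refine eq_top_iff.2 fun g _ => ?_
  have := hom_trivial S (Abelianization.of : L →* Abelianization L) (fun x y => mul_comm _ _) g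
  exact (QuotientGroup.eq_one_iff g).1 this

/-- A normal subgroup is central or everything. -/
theorem normal_dichotomy (N : Subgroup L) [N.Normal] : N ≤ Subgroup.center L ∨ N = ⊤ := by
  by_cases hall : ∀ d ∈ D, ∀ n ∈ N, n * d * n⁻¹ = d
  · refine Or.inl fun n hn => Subgroup.mem_center_iff.2 fun g => ?_
    have hle : Subgroup.closure D ≤ Subgroup.centralizer ({n} : Set L) :=
      (Subgroup.closure_le _).2 fun d hd =>
        Subgroup.mem_centralizer_singleton_iff.2 (mul_inv_eq_iff_eq_mul.1 (hall d hd n hn)).symm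
    exact Subgroup.mem_centralizer_singleton_iff.1 (hle (closure_D S ▸ Subgroup.mem_top g))
  push Not at hall
  obtain ⟨d, hd, n, hn, hne⟩ := hall
  right
  set π := QuotientGroup.mk' N with hπ
  have hπn : π n = 1 := (QuotientGroup.eq_one_iff n).2 hn
  set d' := n * d * n⁻¹ with hd'
  have hd'D : d' ∈ D := conj_mem S hd n
  have hdd : π d' = π d := by rw [hd', map_mul, map_mul, map_inv, hπn, one_mul, inv_one, mul_one]
  have hsq : ∀ a ∈ D, π a * π a = 1 := fun a ha => by rw [← map_mul, (mem_sq S ha).1, map_one]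
  -- a non-commuting pair with equal images
  obtain ⟨w, hw, hwd, hwe⟩ : ∃ w ∈ D, ¬ Commute w d ∧ π w = π d := by
    by_cases hc : Commute d' d
    · obtain ⟨w, hw, h1, h2⟩ := exists_sep S (show d' ∈ Xa D d from ⟨hd'D, hc, hne⟩) hd
      refine ⟨w, hw, h2, ?_⟩
      have h3 := congrArg π (cube S hw hd h2)
      have h4 : π w * π d = π d * π w := by rw [← hdd, ← map_mul, ← map_mul, h1.eq]
      rw [map_pow, map_mul, map_one, pow_three,
        show π w * π d * (π w * π d * (π w * π d)) = π w * π d * (π w * π d) * (π w * π d) by group,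
        show π w * π d * (π w * π d) = π w * π d * (π d * π w) by rw [h4],
        show π w * π d * (π d * π w) = π w * (π d * π d) * π w by group,
        hsq d hd, mul_one, hsq w hw, one_mul] at h3
      calc π w = π w * (π d * π d) := by rw [hsq d hd, mul_one]
        _ = π d := by rw [← mul_assoc, h3, one_mul]
    · exact ⟨d', hd'D, hc, hdd⟩
  -- a commuting pair with equal images
  obtain ⟨x, hx, hxw⟩ : ∃ x ∈ Xa D d, ¬ Commute x w := by
    obtain ⟨ψ', S'⟩ := move S hd
    by_contra hall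
    push Not at hall
    have hwF : w ∈ Far D d := by
      have := class_eq_gam S' ▸ hw
      rw [gam_eq S'] at this
      rcases this with rfl | h | h
      · exact absurd (Commute.refl _) hwd
      · exact absurd h.2.1 hwd
      · exact h
    have hcf := card_common_far S' hwF
    rw [show {l | l ∈ Xa D d ∧ Commute w l} = Xa D d from
      Set.ext fun l => ⟨fun h => h.1, fun h => ⟨h, (hall l h).symm⟩⟩, S'.card_X] at hcf
    omega
  have hxe : π x = π d := by
    have h3 := congrArg π (cube S hx.1 hw hxw)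
    have h4 : π x * π d = π d * π x := by rw [← map_mul, ← map_mul, hx.2.1.eq]
    rw [map_pow, map_mul, map_one, hwe, pow_three,
      show π x * π d * (π x * π d * (π x * π d)) = π x * π d * (π x * π d) * (π x * π d) by group,
      show π x * π d * (π x * π d) = π x * π d * (π d * π x) by rw [h4],
      show π x * π d * (π d * π x) = π x * (π d * π d) * π x by group,
      hsq d hd, mul_one, hsq x hx.1, one_mul] at h3
    calc π x = π x * (π d * π d) := by rw [hsq d hd, mul_one]
      _ = π d := by rw [← mul_assoc, h3, one_mul]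
  -- all commuting pairs have equal images
  have hpair : ∀ a b, a ∈ D → b ∈ D → Commute a b → π a = π b := by
    intro a b ha hb hab
    by_cases e : a = b
    · rw [e]
    obtain ⟨y, hy⟩ := xa_nonempty S
    obtain ⟨g, -, hga, hgb⟩ := pair_move S (d_gam S ha) (d_gam S hb) e hab hy
    obtain ⟨h, -, hhd, hhx⟩ := pair_move S (d_gam S hd) (d_gam S hx.1) hx.2.2.symm hx.2.1.symm hy
    have hzy : π z = π y := by
      rw [show z = h⁻¹ * d * h by rw [← hhd]; group, show y = h⁻¹ * x * h by rw [← hhx]; group,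
        map_mul, map_mul, map_mul, map_mul, hxe]
    rw [← hga, ← hgb, map_mul, map_mul, map_mul, map_mul, hzy]
  have hcon : ∀ b, b ∈ Gam D z → π b = π z := by
    intro b hb
    induction hb with
    | refl => rfl
    | tail _ h2 ih => rw [← hpair _ _ h2.1 h2.2.1 h2.2.2, ih]
  have hab : ∀ g, Commute (π g) (π z) := by
    intro g
    have := hcon _ (d_gam S (conj_mem S (z_mem S) g))
    rw [map_mul, map_mul, map_inv] at this
    exact mul_inv_eq_iff_eq_mul.1 this
  have hcomm : ∀ a b, π a * π b = π b * π a := by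
    intro a b
    have hle : Subgroup.closure D ≤ (Subgroup.centralizer ({π a} : Set (L ⧸ N))).comap π :=
      (Subgroup.closure_le _).2 fun e he => by
        rw [SetLike.mem_coe, Subgroup.mem_comap, Subgroup.mem_centralizer_singleton_iff,
          hcon e (d_gam S he)]
        exact (hab a).symm.eq
    have := Subgroup.mem_centralizer_singleton_iff.1 (hle (closure_D S ▸ Subgroup.mem_top b))
    exact this.symm
  exact eq_top_iff.2 fun g _ => (QuotientGroup.eq_one_iff g).1 (hom_trivial S π hcomm g)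

/-! ### The quotient by the centre -/

local notation "πc" => QuotientGroup.mk' (Subgroup.center L)

theorem mul_central_notMem {c : L} (hc : c ∈ Subgroup.center L) (hc1 : c ≠ 1) {a : L} (ha : a ∈ D) :
    a * c ∉ D := by
  intro h
  obtain ⟨ψ', S'⟩ := move S ha
  have hX : a * c ∈ Xa D a :=
    ⟨h, (Commute.refl a).mul_left (Subgroup.mem_center_iff.1 hc a).symm,
      fun e => hc1 (mul_eq_left.1 e)⟩
  have h52 := card_commuting S' hX
  rw [show {g | g ∈ Xa D a ∧ Commute g (a * c)} = Xa D a from Set.ext fun g =>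
    ⟨fun hg => hg.1, fun hg => ⟨hg, hg.2.1.mul_right (Subgroup.mem_center_iff.1 hc g)⟩⟩,
    S'.card_X] at h52
  omega

theorem pi_inj {a b : L} (ha : a ∈ D) (hb : b ∈ D) (h : πc a = πc b) : a = b := by
  have hc : a⁻¹ * b ∈ Subgroup.center L := QuotientGroup.eq.1 h
  by_contra hne
  refine mul_central_notMem S hc (fun e => hne ?_) ha (by rwa [mul_inv_cancel_left])
  exact inv_inv a ▸ inv_eq_of_mul_eq_one_right e

theorem pi_comm {a b : L} (ha : a ∈ D) (hb : b ∈ D) : Commute (πc a) (πc b) ↔ Commute a b := by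
  refine ⟨fun h => ?_, fun h => h.map _⟩
  by_contra hn
  have h3 := congrArg πc (cube S ha hb hn)
  rw [map_pow, map_mul, map_one, pow_three,
    show πc a * πc b * (πc a * πc b * (πc a * πc b)) =
      πc a * (πc b * πc a) * πc b * (πc a * πc b) by group, ← h.eq,
    show πc a * (πc a * πc b) * πc b * (πc a * πc b) =
      (πc a * πc a) * (πc b * πc b) * (πc a * πc b) by group,
    ← map_mul _ a a, ← map_mul _ b b, (mem_sq S ha).1, (mem_sq S hb).1, map_one, one_mul, one_mul] at h3
  have e : πc b = πc a := by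
    have := inv_eq_of_mul_eq_one_right h3
    rw [← map_inv, mem_inv S ha] at this
    exact this.symm
  exact hn (pi_inj S hb ha e ▸ Commute.refl a)

theorem tc_quot : TC (πc '' D) where
  sq := by rintro _ ⟨a, ha, rfl⟩; rw [← map_mul, (mem_sq S ha).1, map_one]
  or3 := by
    rintro _ ⟨a, ha, rfl⟩ _ ⟨b, hb, rfl⟩
    rcases (tc S).or3 a ha b hb with h | h
    · exact Or.inl (h.map _)
    · exact Or.inr (by rw [← map_mul, ← map_pow, h, map_one])
  conj := by
    intro g
    obtain ⟨g, rfl⟩ := QuotientGroup.mk'_surjective (Subgroup.center L) g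
    rintro _ ⟨a, ha, rfl⟩
    exact ⟨g * a * g⁻¹, conj_mem S ha g, by rw [map_mul, map_mul, map_inv]⟩
  gen := by
    rw [← MonoidHom.map_closure, closure_D S, ← MonoidHom.range_eq_map,
      MonoidHom.range_eq_top.2 (QuotientGroup.mk'_surjective _)]
  trans := by
    rintro _ ⟨a, ha, rfl⟩ _ ⟨b, hb, rfl⟩
    obtain ⟨g, rfl⟩ := (tc S).trans a ha b hb
    exact ⟨πc g, by rw [map_mul, map_mul, map_inv]⟩
  nonempty := ⟨_, z, z_mem S, rfl⟩

theorem dx_image {a : L} (ha : a ∈ D) : Dx (πc '' D) (πc a) = πc '' Xa D a := by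
  ext q
  constructor
  · rintro ⟨⟨b, hb, rfl⟩, hne, hc⟩
    exact ⟨b, ⟨hb, ((pi_comm S ha hb).1 hc).symm, fun e => hne (e ▸ rfl)⟩, rfl⟩
  · rintro ⟨b, hb, rfl⟩
    exact ⟨⟨b, hb.1, rfl⟩, fun e => hb.2.2 (pi_inj S hb.1 ha e), (hb.2.1.symm).map _⟩

theorem cls_image {y : L} (hy : y ∈ Xa D z) :
    FischerPolar99.Cls (πc '' D) (πc z) (πc y) = πc '' {f | f ∈ Xa D z ∧ ψ f = ψ y} := by
  ext q
  constructor
  · rintro ⟨hq, h⟩
    rw [dx_image S (z_mem S)] at hq
    obtain ⟨f, hf, rfl⟩ := hq
    refine ⟨f, ⟨hf, ?_⟩, rfl⟩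
    by_contra hne
    have hfy : Commute f y := (pi_comm S hf.1 hy.1).1
      (h _ ⟨y, hy.1, rfl⟩ (hy.2.1.symm.map _) (Commute.refl _))
    obtain ⟨t, ht, h1, h2⟩ := S.graph.sep _ (S.img y hy) _ (S.img f hf) (fun e => hne e.symm)
      ((S.comm y hy f hf).1 hfy.symm)
    obtain ⟨g, hg, rfl⟩ := Set.nonempty_of_ncard_ne_zero
      (show {g | g ∈ Xa D z ∧ ψ g = t}.ncard ≠ 0 by rw [S.fibre t ht]; norm_num)
    have := h _ ⟨g, hg.1, rfl⟩ (hg.2.1.symm.map _) (((S.comm g hg y hy).2 h1).symm.map _)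
    exact h2 ((S.comm g hg f hf).1 ((pi_comm S hf.1 hg.1).1 this).symm)
  · rintro ⟨f, ⟨hf, he⟩, rfl⟩
    refine ⟨by rw [dx_image S (z_mem S)]; exact ⟨f, hf, rfl⟩, ?_⟩
    rintro _ ⟨g, hg, rfl⟩ h1 h2
    exact (((same_iff S hf hy).2 he g hg ((pi_comm S (z_mem S) hg).1 h1).symm).2
      ((pi_comm S hy.1 hg).1 h2).symm).symm.map _

theorem cls_four {y : L} (hy : y ∈ Xa D z) :
    (FischerPolar99.Cls (πc '' D) (πc z) (πc y)).ncard = 4 := by
  rw [cls_image S hy, Set.InjOn.ncard_image fun a ha b hb => pi_inj S ha.1.1 hb.1.1]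
  exact S.fibre _ (S.img y hy)

/-- The products of two members of a class are moved by a third member, also modulo the centre. -/
theorem core_z :
    ¬ Cfsg.pCore 2 ↥(Hx (πc '' D) (πc z)) ≤ Subgroup.center ↥(Hx (πc '' D) (πc z)) := by
  intro hle
  have hH : Hx (πc '' D) (πc z) = (Subgroup.closure (Xa D z)).map πc := by
    rw [MonoidHom.map_closure, ← dx_image S (z_mem S)]
  set H₀ := Subgroup.closure (Xa D z) with hH₀
  have hcz : ∀ h ∈ H₀, Commute h z := fun h hh => Subgroup.mem_centralizer_singleton_iff.1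
    ((Subgroup.closure_le (Subgroup.centralizer ({z} : Set L))).2
      (fun w hw => Subgroup.mem_centralizer_singleton_iff.2 hw.2.1.eq) hh)
  -- the kernel of `ψ` on `H₀`
  let f : H₀ →* U :=
    { toFun := fun h => ψ h
      map_one' := psi_one S
      map_mul' := fun a b => S.hom _ _ (hcz _ a.2) (hcz _ b.2) }
  let φ : H₀ →* ↥(Hx (πc '' D) (πc z)) :=
    ((πc).comp H₀.subtype).codRestrict _ fun h => by rw [hH]; exact ⟨h, h.2, rfl⟩
  have hφ : Function.Surjective φ := by
    rintro ⟨q, hq⟩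
    rw [hH] at hq
    obtain ⟨h, hh, rfl⟩ := hq
    exact ⟨⟨h, hh⟩, Subtype.ext rfl⟩
  haveI : Fact (Nat.Prime 2) := ⟨Nat.prime_two⟩
  have hk2 : IsPGroup 2 f.ker := fun h => by
    obtain ⟨k, hk⟩ := S.ker_two _ (hcz _ h.1.2) h.2
    exact ⟨k, Subtype.ext (Subtype.ext hk)⟩
  haveI hn : (f.ker.map φ).Normal := (inferInstance : f.ker.Normal).map _ hφ
  have hcen : f.ker.map φ ≤ Subgroup.center ↥(Hx (πc '' D) (πc z)) := le_trans
    (le_sSup (show _ ∈ {N : Subgroup ↥(Hx (πc '' D) (πc z)) | N.Normal ∧ IsPGroup 2 N} from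
      ⟨hn, hk2.map φ⟩)) hle
  obtain ⟨x, hx⟩ := xa_nonempty S
  obtain ⟨a, b, c, ha, hb, hc, hae, -, -, nxa, -, -, -, -, -, -, -⟩ := four_members S hx
  have hxa : Commute x a := comm_same S hx ha hae.symm
  obtain ⟨g, hg, hgx⟩ : ∃ g ∈ Xa D z, ¬ Commute g x := by
    by_contra hall
    push Not at hall
    have h52 := card_commuting S hx
    rw [show {g | g ∈ Xa D z ∧ Commute g x} = Xa D z from
      Set.ext fun g => ⟨fun h => h.1, fun h => ⟨h, hall g h⟩⟩, S.card_X] at h52
    omega
  set t := x * a with ht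
  let tH : H₀ := ⟨t, mul_mem (Subgroup.subset_closure hx) (Subgroup.subset_closure ha)⟩
  have htker : tH ∈ f.ker := by
    show ψ (x * a) = 1
    rw [S.hom _ _ hx.2.1 ha.2.1, hae, S.graph.inv _ (S.img x hx)]
  have hcomm : ∀ w ∈ Xa D z, Commute (πc t) (πc w) := fun w hw => by
    have := Subgroup.mem_center_iff.1 (hcen ⟨tH, htker, rfl⟩)
      (φ ⟨w, Subgroup.subset_closure hw⟩)
    exact (congrArg Subtype.val this).symm
  -- `t` centralises `g` exactly
  set k := x * g with hk
  have hkt : t * k * t⁻¹ * k⁻¹ ∈ Subgroup.center L := by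
    rw [← QuotientGroup.eq_one_iff]
    show πc (t * k * t⁻¹ * k⁻¹) = 1
    have h : Commute (πc t) (πc k) := by
      rw [hk, map_mul πc x g]; exact (hcomm x hx).mul_right (hcomm g hg)
    rw [map_mul, map_mul, map_mul, map_inv, map_inv, h.eq]
    group
  set e := t * k * t⁻¹ * k⁻¹ with he
  have htx : t * x * t⁻¹ = x :=
    mul_inv_eq_iff_eq_mul.2 ((Commute.refl x).mul_left hxa.symm).eq
  have htg : t * g * t⁻¹ = g := by
    have hgk : k * x * k⁻¹ = g := conj_pair S hx.1 hg.1 fun e => hgx e.symm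
    conv_lhs => rw [← hgk]
    calc t * (k * x * k⁻¹) * t⁻¹ = (t * k * t⁻¹) * (t * x * t⁻¹) * (t * k * t⁻¹)⁻¹ := by group
      _ = (e * k) * x * (e * k)⁻¹ := by rw [htx, show t * k * t⁻¹ = e * k by rw [he]; group]
      _ = e * (k * x * k⁻¹) * e⁻¹ := by group
      _ = g := by rw [hgk, ← Subgroup.mem_center_iff.1 hkt g, mul_inv_cancel_right]
  have htg' : Commute t g := mul_inv_eq_iff_eq_mul.1 htg
  have hgfix : g * z * g⁻¹ = z := mul_inv_eq_iff_eq_mul.2 hg.2.1.eq
  have hx' : g * x * g⁻¹ ∈ Xa D z := by simpa [hgfix] using xa_conj S g hx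
  have ha' : g * a * g⁻¹ ∈ Xa D z := by simpa [hgfix] using xa_conj S g ha
  have hψc : ∀ w ∈ Xa D z, ψ (g * w * g⁻¹) = ψ g * ψ w * ψ g := fun w hw => by
    rw [mem_inv S hg.1, S.hom _ _ (hg.2.1.mul_left hw.2.1) hg.2.1, S.hom _ _ hg.2.1 hw.2.1]
  have hsame := S.sepQ x hx a ha _ hx' _ ha' hae.symm
    (by rw [hψc x hx, hψc a ha, hae]) nxa (cj_ne nxa) (Or.inl (by
      rw [show g * x * g⁻¹ * (g * a * g⁻¹) = g * t * g⁻¹ by rw [ht]; group]
      exact (mul_inv_eq_iff_eq_mul.2 htg'.symm.eq).symm))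
  rw [hψc x hx] at hsame
  refine hgx ((S.comm g hg x hx).2 ?_)
  show ψ g * ψ x = ψ x * ψ g
  calc ψ g * ψ x = ψ g * ψ x * (ψ g * ψ g) := by rw [S.graph.inv _ (S.img g hg), mul_one]
    _ = ψ g * ψ x * ψ g * ψ g := by group
    _ = ψ x * ψ g := by rw [← hsame]

omit S in
/-- The order of `PSU_n(2)` has the divisor `43` for `n ≥ 7`. -/
theorem dvd_card_psu {F : Type} [Field F] [Fintype F] (hF : Fintype.card F = 4) {n : ℕ} (hn : 7 ≤ n) :
    43 ∣ Nat.card (Cfsg.PSU n F 2) := by
  have h := OrthUnitaryHerm.card_PSU_mul (F := F) (q := 2) (n := n) (by rw [hF]; norm_num) (by omega)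
  rw [OrthUnitaryHerm.card_GU (F := F) (q := 2) (by rw [hF]; norm_num) n] at h
  have hd : 43 ∣ Nat.gcd n (2 + 1) * (2 + 1) * Nat.card (Cfsg.PSU n F 2) := by
    rw [h]
    exact dvd_mul_of_dvd_right (dvd_trans (by norm_num)
      (Finset.dvd_prod_of_mem _ (Finset.mem_range.2 (show 6 < n by omega)))) _
  have hgcd : Nat.gcd n (2 + 1) * (2 + 1) = 3 ∨ Nat.gcd n (2 + 1) * (2 + 1) = 9 := by
    rcases (Nat.dvd_prime Nat.prime_three).1 (Nat.gcd_dvd_right n 3) with e | e
    · left; rw [e]
    · right; rw [e]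
  rcases hgcd with e | e <;> rw [e] at hd <;>
    exact (Nat.Coprime.dvd_of_dvd_mul_left (by norm_num) hd)

variable (K : Type) [Field K] [Fintype K]

theorem psu_quot (hK : Fintype.card K = 4) :
    ∃ n, 4 ≤ n ∧ Nonempty ((L ⧸ Subgroup.center L) ≃* Cfsg.PSU n K 2) := by
  classical
  set D' := πc '' D with hD'
  have hne : ∀ a ∈ D', a ≠ 1 := by
    rintro _ ⟨a, ha, rfl⟩ e
    have hac : a ∈ Subgroup.center L := (QuotientGroup.eq_one_iff a).1 e
    obtain ⟨ψ', S'⟩ := move S ha
    obtain ⟨x, hx⟩ := xa_nonempty S'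
    obtain ⟨w, -, h1, -⟩ := exists_away S' hx
    exact h1 (Subgroup.mem_center_iff.1 hac w).symm
  have hperf' : commutator (L ⧸ Subgroup.center L) = ⊤ := by
    rw [commutator_def, ← MonoidHom.range_eq_top.2 (QuotientGroup.mk'_surjective (Subgroup.center L)),
      MonoidHom.range_eq_map, ← Subgroup.map_commutator, ← commutator_def, perfect S]
  have hperf : ⁅commutator (L ⧸ Subgroup.center L), commutator (L ⧸ Subgroup.center L)⁆ =
      commutator (L ⧸ Subgroup.center L) := by
    conv_lhs => rw [hperf', ← commutator_def]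
  have hsol : ∀ N : Subgroup (L ⧸ Subgroup.center L), N.Normal → Group.IsSolvable ↥N → N = ⊥ := by
    intro N hN hs
    rcases normal_dichotomy S (N.comap πc) with h | h
    · refine eq_bot_iff.2 fun q hq => ?_
      obtain ⟨g, rfl⟩ := QuotientGroup.mk'_surjective (Subgroup.center L) q
      exact Subgroup.mem_bot.2 ((QuotientGroup.eq_one_iff g).2 (h hq))
    · exfalso
      obtain rfl : N = ⊤ := eq_top_iff.2 fun q _ => by
        obtain ⟨g, rfl⟩ := QuotientGroup.mk'_surjective (Subgroup.center L) q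
        exact (h ▸ Subgroup.mem_top g : g ∈ N.comap πc)
      haveI : Group.IsSolvable (L ⧸ Subgroup.center L) :=
        Group.isSolvable_of_isSolvable_injective
          (f := (Subgroup.topEquiv (G := L ⧸ Subgroup.center L)).symm.toMonoidHom)
          (MulEquiv.injective _)
      haveI : Nontrivial (L ⧸ Subgroup.center L) :=
        ⟨⟨πc z, 1, hne _ ⟨z, z_mem S, rfl⟩⟩⟩
      exact (Group.IsSolvable.commutator_lt_top_of_nontrivial (L ⧸ Subgroup.center L)).ne hperf'
  have hcore : ∀ q ∈ D', ¬ Cfsg.pCore 2 ↥(Hx D' q) ≤ Subgroup.center ↥(Hx D' q) := by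
    rintro _ ⟨a, ha, rfl⟩
    obtain ⟨ψ', S'⟩ := move S ha
    exact core_z S'
  have C : FischerPolar99.PCtx D' := ⟨tc_quot S, hne, hsol, hperf, hcore⟩
  obtain ⟨y, hy⟩ := xa_nonempty S
  have hy' : πc y ∈ Dx D' (πc z) := by rw [dx_image S (z_mem S)]; exact ⟨y, hy, rfl⟩
  obtain ⟨w, hw, hn, -⟩ := exists_away S hy
  have P : FischerUnLabel99.Frame D' (πc z) (πc w) :=
    ⟨C, fun u hu v hv => (FischerPolar99.ncard_cls C hu hv ⟨z, z_mem S, rfl⟩ hy').trans (cls_four S hy),
      ⟨z, z_mem S, rfl⟩, ⟨w, hw, rfl⟩, fun e => hn ((pi_comm S hw (z_mem S)).1 e).symm⟩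
  haveI : UnitaryF4Geo.FourField K := ⟨hK⟩
  obtain ⟨Γ⟩ := P.exists_gauge (F := K)
  obtain ⟨Co⟩ := FischerUnCoord99.exists_space Γ P
  exact ⟨Co.n, Co.four_le, FischerUnEquiv99.exists_equiv Co P⟩

/-- The group is simple and is `U₆(2)`. -/
theorem ident (hK : Fintype.card K = 4) :
    IsSimpleGroup L ∧ Nonempty (L ≃* Cfsg.PSU 6 K 2) := by
  classical
  obtain ⟨n, h4, ⟨e⟩⟩ := psu_quot S K hK
  have hmul := Subgroup.card_eq_card_quotient_mul_card_subgroup (Subgroup.center L)
  rw [Nat.card_congr e.toEquiv, card_group S] at hmul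
  have hZdvd : Nat.card (Subgroup.center L) ∣ 13271040 := by
    rw [← S.card_H]
    exact Subgroup.card_dvd_of_le (Subgroup.center_le_centralizer _)
  have h693 : 693 ∣ Nat.card (Cfsg.PSU n K 2) := by
    obtain ⟨k, hk⟩ := hZdvd
    refine ⟨k, mul_right_cancel₀ (Nat.card_pos (α := Subgroup.center L)).ne' ?_⟩
    rw [← hmul, hk]; ring
  have hn : n = 6 := by
    rcases Nat.lt_or_ge n 7 with h7 | h7
    · rcases (show n = 4 ∨ n = 5 ∨ n = 6 by omega) with rfl | rfl | rfl
      · exfalso
        have h := OrthUnitaryHerm.card_PSU_mul (F := K) (q := 2) (n := 4) (by rw [hK]; norm_num) (by norm_num)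
        rw [OrthUnitaryHerm.card_GU (F := K) (q := 2) (by rw [hK]; norm_num) 4] at h
        simp only [Finset.prod_range_succ, Finset.prod_range_zero] at h
        norm_num [-Nat.card_eq_fintype_card] at h
        omega
      · exfalso
        have h := OrthUnitaryHerm.card_PSU_mul (F := K) (q := 2) (n := 5) (by rw [hK]; norm_num) (by norm_num)
        rw [OrthUnitaryHerm.card_GU (F := K) (q := 2) (by rw [hK]; norm_num) 5] at h
        simp only [Finset.prod_range_succ, Finset.prod_range_zero] at h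
        norm_num [-Nat.card_eq_fintype_card] at h
        omega
      · rfl
    · exfalso
      have h43 : 43 ∣ 693 * 13271040 := hmul ▸ (dvd_card_psu hK h7).mul_right _
      norm_num at h43
  subst hn
  haveI : Nontrivial L := ⟨⟨z, 1, S.ne_one⟩⟩
  have hZ : Subgroup.center L = ⊥ := by
    have h := OrthUnitaryHerm.card_PSU_mul (F := K) (q := 2) (n := 6) (by rw [hK]; norm_num) (by norm_num)
    rw [OrthUnitaryHerm.card_GU (F := K) (q := 2) (by rw [hK]; norm_num) 6] at h
    simp only [Finset.prod_range_succ, Finset.prod_range_zero] at h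
    norm_num [-Nat.card_eq_fintype_card] at h
    rw [show Nat.card (Cfsg.PSU 6 K 2) = 9196830720 by omega] at hmul
    exact Subgroup.eq_bot_of_card_eq _ (by omega)
  refine ⟨⟨fun N hN => ?_⟩, ⟨?_⟩⟩
  · rcases normal_dichotomy S N with h | h
    · exact Or.inl (eq_bot_iff.2 (hZ ▸ h))
    · exact Or.inr h
  · exact ((QuotientGroup.quotientMulEquivOfEq hZ).trans QuotientGroup.quotientBot).symm.trans e

end Cfsg.Agent.U62RecogIdent29
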