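import Cfsg.Agent.Lib.LargeFischerIndexTwo28Main
import Cfsg.Agent.S5450

/-!
The structure of the centraliser of a non-central involution of `Q` in the form used for the overgroups of
index two.
-/

set_option autoImplicit false

namespace Cfsg.Agent.LargeFischerAut22Glue35

open Subgroup

universe u

theorem aut22 (G : Type u) [Group G] [Finite G] : LargeFischerIndexTwo28Main.Aut22 G := by
  intro z Q _ hF t htQ ht2 ht
  haveI : ((zpowers t).subgroupOf (centralizer ({t} : Set G))).Normal := by
    refine ⟨fun n hn g => ?_⟩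
    obtain ⟨k, hk⟩ := mem_zpowers_iff.mp (mem_subgroupOf.mp hn)
    have hc : Commute (g : G) t := mem_centralizer_singleton_iff.mp g.2
    refine mem_subgroupOf.mpr (mem_zpowers_iff.mpr ⟨k, ?_⟩)
    rw [Subgroup.coe_mul, Subgroup.coe_mul, InvMemClass.coe_inv, ← hk, (hc.zpow_right k).eq,
      mul_inv_cancel_right]
  obtain ⟨h1, h2, h3, h4⟩ := S5450.result z Q hF t htQ ht2 ht
    (Cfsg.generalizedFittingSubgroup ↥(centralizer ({t} : Set G))) rfl
  exact ⟨_, h1, h2, h3, fun {_} => h4⟩

end Cfsg.Agent.LargeFischerAut22Glue35
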