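import Mathlib

/-!
Congruence classes modulo 2 in an even positive lattice without roots, given by a Gram matrix.
-/

set_option autoImplicit false

namespace Cfsg.Agent.LatticeMod2

open Matrix

variable {n : ℕ} (B : Matrix (Fin n) (Fin n) ℤ)

/-- The bilinear form of a Gram matrix. -/
def bil (x y : Fin n → ℤ) : ℤ := x ⬝ᵥ (B *ᵥ y)

theorem bil_add_left (x y z : Fin n → ℤ) : bil B (x + y) z = bil B x z + bil B y z := by
  simp [bil, add_dotProduct]

theorem bil_add_right (x y z : Fin n → ℤ) : bil B x (y + z) = bil B x y + bil B x z := by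
  simp [bil, mulVec_add, dotProduct_add]

theorem bil_smul_left (c : ℤ) (x y : Fin n → ℤ) : bil B (c • x) y = c * bil B x y := by
  unfold bil
  rw [smul_dotProduct, smul_eq_mul]

theorem bil_smul_right (c : ℤ) (x y : Fin n → ℤ) : bil B x (c • y) = c * bil B x y := by
  unfold bil
  rw [mulVec_smul, dotProduct_smul, smul_eq_mul]

theorem bil_comm (hs : B.IsSymm) (x y : Fin n → ℤ) : bil B x y = bil B y x := by
  unfold bil
  rw [dotProduct_mulVec, ← mulVec_transpose, hs.eq, dotProduct_comm]

theorem bil_neg_left (x y : Fin n → ℤ) : bil B (-x) y = -bil B x y := by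
  simp [bil, neg_dotProduct]

theorem bil_neg_right (x y : Fin n → ℤ) : bil B x (-y) = -bil B x y := by
  simp [bil, mulVec_neg, dotProduct_neg]

theorem bil_sub_left (x y z : Fin n → ℤ) : bil B (x - y) z = bil B x z - bil B y z := by
  rw [sub_eq_add_neg, bil_add_left, bil_neg_left]; ring

theorem bil_sub_right (x y z : Fin n → ℤ) : bil B x (y - z) = bil B x y - bil B x z := by
  rw [sub_eq_add_neg, bil_add_right, bil_neg_right]; ring

theorem bil_sub_sub (hs : B.IsSymm) (x y : Fin n → ℤ) :
    bil B (x - y) (x - y) = bil B x x + bil B y y - 2 * bil B x y := by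
  rw [bil_sub_left, bil_sub_right, bil_sub_right, bil_comm B hs y x]; ring

theorem bil_add_add (hs : B.IsSymm) (x y : Fin n → ℤ) :
    bil B (x + y) (x + y) = bil B x x + bil B y y + 2 * bil B x y := by
  rw [bil_add_left, bil_add_right, bil_add_right, bil_comm B hs y x]; ring

/-- Positive, even, rootless. -/
structure Rootless : Prop where
  symm : B.IsSymm
  pos : ∀ x : Fin n → ℤ, x ≠ 0 → 0 < bil B x x
  even : ∀ x : Fin n → ℤ, (2 : ℤ) ∣ bil B x x
  noRoot : ∀ x : Fin n → ℤ, bil B x x ≠ 2

variable {B}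

theorem Rootless.four_le (h : Rootless B) {z : Fin n → ℤ} (hz : z ≠ 0) : 4 ≤ bil B z z := by
  have h1 := h.pos z hz
  obtain ⟨k, hk⟩ := h.even z
  have h2 := h.noRoot z
  omega

theorem Rootless.sixteen_le (h : Rootless B) {w : Fin n → ℤ} (hw : ∀ i, (2 : ℤ) ∣ w i)
    (hne : w ≠ 0) : 16 ≤ bil B w w := by
  choose z hz using hw
  have hwz : w = (2 : ℤ) • z := by
    funext i
    simp [hz i]
  have hzne : z ≠ 0 := by
    intro hz0
    exact hne (by rw [hwz, hz0, smul_zero])
  have h4 := h.four_le hzne
  rw [hwz, bil_smul_left, bil_smul_right]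
  linarith

theorem Rootless.congr_cases (h : Rootless B) {x y : Fin n → ℤ}
    (hc : ∀ i, (2 : ℤ) ∣ (x - y) i) :
    x = y ∨ x = -y ∨ (16 ≤ bil B (x - y) (x - y) ∧ 16 ≤ bil B (x + y) (x + y)) := by
  have hc' : ∀ i, (2 : ℤ) ∣ (x + y) i := by
    intro i
    obtain ⟨k, hk⟩ := hc i
    refine ⟨k + y i, ?_⟩
    simp only [Pi.sub_apply] at hk
    simp only [Pi.add_apply]
    linarith
  by_cases h1 : x - y = 0
  · exact Or.inl (sub_eq_zero.mp h1)
  by_cases h2 : x + y = 0
  · exact Or.inr (Or.inl (eq_neg_of_add_eq_zero_left h2))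
  exact Or.inr (Or.inr ⟨h.sixteen_le hc h1, h.sixteen_le hc' h2⟩)

theorem Rootless.eq_or_neg_of_small (h : Rootless B) {x y : Fin n → ℤ}
    (hc : ∀ i, (2 : ℤ) ∣ (x - y) i) (hs : bil B x x + bil B y y < 16) : x = y ∨ x = -y := by
  rcases h.congr_cases hc with h1 | h1 | ⟨h1, h2⟩
  · exact Or.inl h1
  · exact Or.inr h1
  · exfalso
    rw [bil_sub_sub B h.symm] at h1
    rw [bil_add_add B h.symm] at h2
    omega

theorem Rootless.orthogonal_of_norm_eight (h : Rootless B) {x y : Fin n → ℤ}
    (hc : ∀ i, (2 : ℤ) ∣ (x - y) i) (hx : bil B x x = 8) (hy : bil B y y = 8) :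
    y = x ∨ y = -x ∨ bil B x y = 0 := by
  rcases h.congr_cases hc with h1 | h1 | ⟨h1, h2⟩
  · exact Or.inl h1.symm
  · exact Or.inr (Or.inl (by rw [h1, neg_neg]))
  · refine Or.inr (Or.inr ?_)
    rw [bil_sub_sub B h.symm] at h1
    rw [bil_add_add B h.symm] at h2
    omega

/-- A set of norm-8 vectors in one class modulo 2 has at most `2 n` members. -/
theorem Rootless.class_card_le (h : Rootless B) (T : Finset (Fin n → ℤ))
    (hn : ∀ x ∈ T, bil B x x = 8)
    (hc : ∀ x ∈ T, ∀ y ∈ T, ∀ i, (2 : ℤ) ∣ (x - y) i) : T.card ≤ 2 * n := by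
  classical
  have key : ∀ U : Finset (Fin n → ℤ), U ⊆ T → ∃ S : Finset (Fin n → ℤ), S ⊆ U ∧
      (∀ x ∈ S, ∀ y ∈ S, x ≠ y → bil B x y = 0) ∧ ∀ x ∈ U, x ∈ S ∨ -x ∈ S := by
    intro U
    induction U using Finset.induction with
    | empty => intro _; exact ⟨∅, by simp⟩
    | @insert a U haU ih =>
      intro hU
      have haT : a ∈ T := hU (Finset.mem_insert_self a U)
      obtain ⟨S, hSU, hSo, hSc⟩ := ih ((Finset.subset_insert a U).trans hU)
      by_cases ha : a ∈ S ∨ -a ∈ S
      · refine ⟨S, hSU.trans (Finset.subset_insert a U), hSo, ?_⟩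
        intro x hx
        rcases Finset.mem_insert.mp hx with rfl | hx
        · exact ha
        · exact hSc x hx
      · push Not at ha
        have horth : ∀ s ∈ S, bil B a s = 0 := by
          intro s hs
          have hsT : s ∈ T := hU (Finset.mem_insert_of_mem (hSU hs))
          rcases h.orthogonal_of_norm_eight (hc a haT s hsT) (hn a haT) (hn s hsT) with h1 | h1 | h1
          · exact absurd (h1 ▸ hs) ha.1
          · exact absurd (h1 ▸ hs) ha.2
          · exact h1
        refine ⟨insert a S, Finset.insert_subset_insert a hSU, ?_, ?_⟩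
        · intro x hx y hy hxy
          rcases Finset.mem_insert.mp hx with hxa | hx'
          · rcases Finset.mem_insert.mp hy with hya | hy'
            · exact absurd (hxa.trans hya.symm) hxy
            · rw [hxa]; exact horth y hy'
          · rcases Finset.mem_insert.mp hy with hya | hy'
            · rw [hya, bil_comm B h.symm]; exact horth x hx'
            · exact hSo x hx' y hy' hxy
        · intro x hx
          rcases Finset.mem_insert.mp hx with rfl | hx
          · exact Or.inl (Finset.mem_insert_self _ S)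
          · exact (hSc x hx).imp Finset.mem_insert_of_mem Finset.mem_insert_of_mem
  obtain ⟨S, hST, hSo, hSc⟩ := key T (Finset.Subset.refl T)
  have hli : LinearIndependent ℤ (fun s : S => (s : Fin n → ℤ)) := by
    rw [Fintype.linearIndependent_iff]
    intro g hg j
    have h0 : bil B (∑ i : S, g i • (i : Fin n → ℤ)) (j : Fin n → ℤ) = 0 := by
      rw [hg]; simp [bil]
    have h1 : bil B (∑ i : S, g i • (i : Fin n → ℤ)) (j : Fin n → ℤ)
        = ∑ i : S, g i * bil B (i : Fin n → ℤ) (j : Fin n → ℤ) := by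
      unfold bil
      rw [sum_dotProduct]
      exact Finset.sum_congr rfl fun i _ => smul_dotProduct _ _ _
    rw [h1, Finset.sum_eq_single j] at h0
    · rw [hn j (hST j.2)] at h0
      omega
    · intro i _ hij
      rw [hSo i i.2 j j.2 (fun hc => hij (Subtype.ext hc)), mul_zero]
    · intro hj
      exact absurd (Finset.mem_univ j) hj
  have hle : S.card ≤ n := by
    have := hli.fintype_card_le_finrank
    simpa using this
  have hsub : T ⊆ S ∪ S.image (fun x => -x) := by
    intro x hx
    rcases hSc x hx with hs | hs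
    · exact Finset.mem_union_left _ hs
    · exact Finset.mem_union_right _ (Finset.mem_image.mpr ⟨-x, hs, neg_neg x⟩)
  have := (Finset.card_le_card hsub).trans
    ((Finset.card_union_le _ _).trans (Nat.add_le_add_left Finset.card_image_le _))
  omega

/-- Reduction modulo 2. -/
def red (x : Fin n → ℤ) : Fin n → ZMod 2 := fun i => (x i : ZMod 2)

theorem red_eq_iff (x y : Fin n → ℤ) : red x = red y ↔ ∀ i, (2 : ℤ) ∣ (x - y) i := by
  unfold red
  rw [funext_iff]
  refine forall_congr' fun i => ?_
  rw [eq_comm, ZMod.intCast_eq_intCast_iff_dvd_sub]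
  simp

end Cfsg.Agent.LatticeMod2
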