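import Mathlib

/-!
Poisson summation for Gaussians attached to an invertible real matrix, on the integer lattice.
-/

set_option autoImplicit false

noncomputable section

namespace Cfsg.Agent.LatticeThetaPoisson

open MeasureTheory Set Filter Topology Matrix
open scoped Real

variable {n : ℕ}

/-- The integer vector `v` as a real vector. -/
def castR (v : Fin n → ℤ) : Fin n → ℝ := fun i => (v i : ℝ)

theorem summable_exp_neg_int_sq {c : ℝ} (hc : 0 < c) :
    Summable fun a : ℤ => Real.exp (-c * (a : ℝ) ^ 2) := by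
  have key : Summable fun k : ℕ => Real.exp (-c * (k : ℝ) ^ 2) := by
    have hr : Real.exp (-c) < 1 := Real.exp_lt_one_iff.2 (by linarith)
    refine Summable.of_nonneg_of_le (fun k => (Real.exp_pos _).le) (fun k => ?_)
      (summable_geometric_of_lt_one (Real.exp_pos _).le hr)
    rw [← Real.exp_nat_mul]
    refine Real.exp_le_exp.2 ?_
    rcases Nat.eq_zero_or_pos k with rfl | hk
    · simp
    · have h1 : (1 : ℝ) ≤ k := by exact_mod_cast hk
      nlinarith [mul_le_mul_of_nonneg_right h1 (mul_nonneg hc.le (Nat.cast_nonneg (α := ℝ) k))]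
  refine Summable.of_nat_of_neg (by simpa using key) ?_
  simpa using key

theorem summable_pi_exp_neg_sq {c : ℝ} (hc : 0 < c) :
    ∀ n : ℕ, Summable fun v : Fin n → ℤ => Real.exp (-c * ∑ i, (v i : ℝ) ^ 2)
  | 0 => Summable.of_finite
  | n + 1 => by
    rw [← (Fin.consEquiv fun _ : Fin (n + 1) => ℤ).summable_iff]
    refine ((summable_exp_neg_int_sq hc).mul_of_nonneg (summable_pi_exp_neg_sq hc n)
      (fun a => (Real.exp_pos _).le) (fun v => (Real.exp_pos _).le)).congr ?_
    rintro ⟨a, v⟩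
    simp [Fin.sum_univ_succ, ← Real.exp_add, mul_add]

/-- The positive definite form of `M`. -/
def qform (M : Matrix (Fin n) (Fin n) ℝ) (x : Fin n → ℝ) : ℝ := ∑ i, (M *ᵥ x) i ^ 2

theorem qform_nonneg (M : Matrix (Fin n) (Fin n) ℝ) (x : Fin n → ℝ) : 0 ≤ qform M x :=
  Finset.sum_nonneg fun _ _ => sq_nonneg _

theorem continuous_qform (M : Matrix (Fin n) (Fin n) ℝ) : Continuous (qform M) := by
  unfold qform; fun_prop

theorem exists_qform_bound (M : Matrix (Fin n) (Fin n) ℝ) (hM : M.det ≠ 0) :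
    ∃ κ : ℝ, 0 < κ ∧ ∀ x, κ * ∑ i, x i ^ 2 ≤ qform M x := by
  set K : ℝ := (∑ i, ∑ j, M⁻¹ i j ^ 2) + 1 with hK
  have hK0 : 0 < K := by positivity
  refine ⟨K⁻¹, inv_pos.2 hK0, fun x => ?_⟩
  rw [inv_mul_le_iff₀ hK0]
  have hx : x = M⁻¹ *ᵥ (M *ᵥ x) := by
    rw [mulVec_mulVec, nonsing_inv_mul M (isUnit_iff_ne_zero.2 hM), one_mulVec]
  calc ∑ i, x i ^ 2 = ∑ i, (∑ j, M⁻¹ i j * (M *ᵥ x) j) ^ 2 := by
        conv_lhs => rw [hx]
        rfl
    _ ≤ ∑ i, (∑ j, M⁻¹ i j ^ 2) * ∑ j, (M *ᵥ x) j ^ 2 :=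
        Finset.sum_le_sum fun i _ => Finset.sum_mul_sq_le_sq_mul_sq _ _ _
    _ = (∑ i, ∑ j, M⁻¹ i j ^ 2) * qform M x := by rw [Finset.sum_mul]; rfl
    _ ≤ K * qform M x := by
        refine mul_le_mul_of_nonneg_right ?_ (qform_nonneg M x)
        rw [hK]; linarith

theorem summable_exp_neg_qform (M : Matrix (Fin n) (Fin n) ℝ) (hM : M.det ≠ 0) {c : ℝ}
    (hc : 0 < c) : Summable fun v : Fin n → ℤ => Real.exp (-c * qform M (castR v)) := by
  obtain ⟨κ, hκ, hb⟩ := exists_qform_bound M hM
  refine Summable.of_nonneg_of_le (fun v => (Real.exp_pos _).le) (fun v => ?_)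
    (summable_pi_exp_neg_sq (mul_pos hc hκ) n)
  refine Real.exp_le_exp.2 ?_
  have h := mul_le_mul_of_nonneg_left (hb (castR v)) hc.le
  simp only [castR] at h ⊢
  linarith

section Poisson

variable (M : Matrix (Fin n) (Fin n) ℝ) (s : ℝ)

/-- The Gaussian. -/
def gauss (x : Fin n → ℝ) : ℂ := Complex.exp (-((π * s : ℝ) : ℂ) * (qform M x : ℂ))

theorem norm_gauss (x : Fin n → ℝ) : ‖gauss M s x‖ = Real.exp (-(π * s) * qform M x) := by
  rw [gauss, Complex.norm_exp]
  congr 1
  simp [Complex.mul_re]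

theorem continuous_gauss : Continuous (gauss M s) := by
  have := continuous_qform M
  unfold gauss; fun_prop

/-- The periodised Gaussian. -/
def periodization (x : Fin n → ℝ) : ℂ := ∑' v : Fin n → ℤ, gauss M s (x + castR v)

theorem periodization_add (x : Fin n → ℝ) (w : Fin n → ℤ) :
    periodization M s (x + castR w) = periodization M s x := by
  unfold periodization
  rw [← (Equiv.addLeft w).tsum_eq (fun v => gauss M s (x + castR v))]
  refine tsum_congr fun v => ?_
  congr 1
  ext i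
  simp [castR, add_assoc]

theorem exists_box_bound (hM : M.det ≠ 0) (hs : 0 < s) (R : ℝ) :
    ∃ u : (Fin n → ℤ) → ℝ, Summable u ∧
      ∀ v, ∀ x : Fin n → ℝ, (∀ i, |x i| ≤ R) → ‖gauss M s (x + castR v)‖ ≤ u v := by
  obtain ⟨κ, hκ, hb⟩ := exists_qform_bound M hM
  set c := π * s * κ with hcdef
  have hc : 0 < c := by positivity
  refine ⟨fun v => Real.exp (c * (n * R ^ 2)) * Real.exp (-(c / 2) * ∑ i, (v i : ℝ) ^ 2),
    (summable_pi_exp_neg_sq (half_pos hc) n).mul_left _, fun v x hx => ?_⟩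
  show _ ≤ Real.exp _ * Real.exp _
  rw [norm_gauss, ← Real.exp_add]
  refine Real.exp_le_exp.2 ?_
  have h1 : ∑ i, ((v i : ℝ) ^ 2 / 2 - R ^ 2) ≤ ∑ i, (x + castR v) i ^ 2 := by
    refine Finset.sum_le_sum fun i _ => ?_
    have : x i ^ 2 ≤ R ^ 2 := sq_le_sq' (abs_le.1 (hx i)).1 (abs_le.1 (hx i)).2
    simp only [Pi.add_apply, castR]
    nlinarith [sq_nonneg (2 * x i + (v i : ℝ))]
  rw [Finset.sum_sub_distrib, Finset.sum_const, Finset.card_univ, Fintype.card_fin, nsmul_eq_mul,
    ← Finset.sum_div] at h1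
  have h2 := mul_le_mul_of_nonneg_left h1 hc.le
  have h3 := mul_le_mul_of_nonneg_left (hb (x + castR v)) (mul_nonneg Real.pi_pos.le hs.le)
  rw [← mul_assoc, ← hcdef] at h3
  nlinarith

theorem continuous_periodization (hM : M.det ≠ 0) (hs : 0 < s) :
    Continuous (periodization M s) := by
  refine continuous_iff_continuousAt.2 fun x => ?_
  set R := ‖x‖ + 1
  obtain ⟨u, hu, hb⟩ := exists_box_bound M s hM hs R
  have hcont : ContinuousOn (periodization M s) (Metric.ball x 1) := by
    refine continuousOn_tsum (fun v => ?_) hu fun v y hy => hb v y fun i => ?_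
    · exact ((continuous_gauss M s).comp (by fun_prop)).continuousOn
    · have h1 : ‖y i‖ ≤ ‖y‖ := norm_le_pi_norm y i
      have h2 : ‖y‖ ≤ ‖x‖ + ‖y - x‖ := norm_le_norm_add_norm_sub' y x
      rw [Metric.mem_ball, dist_eq_norm] at hy
      rw [← Real.norm_eq_abs]; linarith
  exact hcont.continuousAt (Metric.ball_mem_nhds x one_pos)

/-- The quotient map to the torus. -/
def toTorus (x : Fin n → ℝ) : UnitAddTorus (Fin n) := fun i => (x i : UnitAddCircle)

/-- Representatives in the unit cube. -/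
def rep (t : UnitAddTorus (Fin n)) : Fin n → ℝ := fun i => (AddCircle.equivIoc 1 0 (t i)).1

theorem periodization_rep (x : Fin n → ℝ) :
    periodization M s (rep (toTorus x)) = periodization M s x := by
  have key : ∀ i, ∃ k : ℤ, rep (toTorus x) i = x i + k := fun i => by
    have h0 : ((rep (toTorus x) i - x i : ℝ) : UnitAddCircle) = 0 := by
      rw [AddCircle.coe_sub, sub_eq_zero]
      exact AddCircle.coe_equivIoc
    obtain ⟨k, hk⟩ := (AddCircle.coe_eq_zero_iff (1 : ℝ)).1 h0
    exact ⟨k, by rw [zsmul_eq_mul, mul_one] at hk; linarith⟩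
  choose w hw using key
  rw [show rep (toTorus x) = x + castR w from funext hw, periodization_add]

theorem continuous_torusFun (hM : M.det ≠ 0) (hs : 0 < s) :
    Continuous fun t : UnitAddTorus (Fin n) => periodization M s (rep t) := by
  have hq : IsOpenQuotientMap (toTorus : (Fin n → ℝ) → UnitAddTorus (Fin n)) :=
    IsOpenQuotientMap.piMap fun _ => QuotientAddGroup.isOpenQuotientMap_mk
  rw [hq.isQuotientMap.continuous_iff]
  refine (continuous_periodization M s hM hs).congr fun x => ?_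
  exact (periodization_rep M s x).symm

/-- The periodised Gaussian on the torus. -/
def torusFun (hM : M.det ≠ 0) (hs : 0 < s) : C(UnitAddTorus (Fin n), ℂ) :=
  ⟨fun t => periodization M s (rep t), continuous_torusFun M s hM hs⟩

/-- The character of the lattice. -/
def wave (m : Fin n → ℤ) (x : Fin n → ℝ) : ℂ :=
  Complex.exp (∑ i, (-(2 * π * Complex.I) * (m i : ℂ)) * (x i : ℂ))

theorem continuous_wave (m : Fin n → ℤ) : Continuous (wave m) := by unfold wave; fun_prop

theorem norm_wave (m : Fin n → ℤ) (x : Fin n → ℝ) : ‖wave m x‖ = 1 := by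
  rw [wave, Complex.norm_exp, Complex.re_sum]
  simp [Complex.mul_re]

theorem wave_add (m : Fin n → ℤ) (x : Fin n → ℝ) (v : Fin n → ℤ) :
    wave m (x + castR v) = wave m x := by
  rw [wave, wave, Complex.exp_eq_exp_iff_exists_int]
  refine ⟨-∑ i, m i * v i, ?_⟩
  simp only [Pi.add_apply, castR, Complex.ofReal_add, Complex.ofReal_intCast, mul_add,
    Finset.sum_add_distrib, Int.cast_neg, Int.cast_sum, Int.cast_mul, neg_mul, Finset.sum_mul,
    ← Finset.sum_neg_distrib]
  congr 1
  exact Finset.sum_congr rfl fun i _ => by ring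

theorem mFourier_toTorus (m : Fin n → ℤ) (x : Fin n → ℝ) :
    UnitAddTorus.mFourier (-m) (toTorus x) = wave m x := by
  simp only [UnitAddTorus.mFourier, ContinuousMap.coe_mk, toTorus, fourier_coe_apply, wave,
    Complex.exp_sum]
  refine Finset.prod_congr rfl fun i _ => ?_
  simp only [Pi.neg_apply, Int.cast_neg, Complex.ofReal_one, div_one]
  congr 1
  ring

/-- The half-open unit cubes. -/
def cube (v : Fin n → ℤ) : Set (Fin n → ℝ) :=
  {x | ∀ i, x i ∈ Ioc (v i : ℝ) ((v i : ℝ) + 1)}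

theorem measurableSet_cube (v : Fin n → ℤ) : MeasurableSet (cube v) :=
  MeasurableSet.univ_pi' fun _ => measurableSet_Ioc

theorem cube_disjoint : Pairwise (Function.onFun Disjoint (cube (n := n))) := by
  intro v w hvw
  refine Set.disjoint_left.2 fun x hv hw => hvw (funext fun i => ?_)
  have h1 : (v i : ℝ) < w i + 1 := (hv i).1.trans_le (hw i).2
  have h2 : (w i : ℝ) < v i + 1 := (hw i).1.trans_le (hv i).2
  have h1' : v i < w i + 1 := by exact_mod_cast h1
  have h2' : w i < v i + 1 := by exact_mod_cast h2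
  omega

theorem iUnion_cube : ⋃ v : Fin n → ℤ, cube v = univ := by
  refine eq_univ_of_forall fun x => mem_iUnion.2 ⟨fun i => ⌈x i⌉ - 1, fun i => ?_⟩
  push_cast
  exact ⟨by linarith [Int.ceil_lt_add_one (x i)], by linarith [Int.le_ceil (x i)]⟩

theorem setIntegral_shift {E : Type*} [NormedAddCommGroup E] [NormedSpace ℝ E]
    (g : (Fin n → ℝ) → E) (v : Fin n → ℤ) :
    ∫ x in cube 0, g (x + castR v) = ∫ x in cube v, g x := by
  have hpre : (fun x => x + castR v) ⁻¹' cube v = cube 0 := by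
    ext x
    refine forall_congr' fun i => ?_
    simp only [Pi.add_apply, castR, Pi.zero_apply, Int.cast_zero, mem_Ioc]
    constructor <;> rintro ⟨h1, h2⟩ <;> constructor <;> linarith
  rw [← hpre]
  exact (measurePreserving_add_right volume (castR v)).setIntegral_preimage_emb
    (measurableEmbedding_addRight (castR v)) g (cube v)

theorem integral_comp_mulVec {E : Type*} [NormedAddCommGroup E] [NormedSpace ℝ E]
    (hM : M.det ≠ 0) (h : (Fin n → ℝ) → E) :
    ∫ x, h (M *ᵥ x) = |M.det⁻¹| • ∫ y, h y := by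
  have hmap := Real.map_matrix_volume_pi_eq_smul_volume_pi hM
  have hemb : MeasurableEmbedding (toLin' M : (Fin n → ℝ) → Fin n → ℝ) := by
    refine Continuous.measurableEmbedding (LinearMap.continuous_on_pi _) ?_
    intro a b hab
    exact (mulVec_injective_iff_isUnit.2 ((isUnit_iff_isUnit_det M).2
      (isUnit_iff_ne_zero.2 hM))) (by simpa using hab)
  have h1 := hemb.integral_map (μ := volume) h
  rw [hmap, integral_smul_measure, ENNReal.toReal_ofReal (abs_nonneg _)] at h1
  simpa using h1.symm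

theorem integrable_gauss_mul (hM : M.det ≠ 0) (hs : 0 < s) (m : Fin n → ℤ) :
    Integrable fun x => wave m x * gauss M s x := by
  obtain ⟨κ, hκ, hb⟩ := exists_qform_bound M hM
  have hint := (GaussianFourier.integrable_cexp_neg_mul_sum_add (ι := Fin n)
    (b := ((π * s * κ : ℝ) : ℂ)) (by rw [Complex.ofReal_re]; positivity) 0).norm
  refine hint.mono' ((continuous_wave m).mul (continuous_gauss M s)).aestronglyMeasurable
    (Filter.Eventually.of_forall fun x => ?_)
  rw [norm_mul, norm_wave, one_mul, norm_gauss, Complex.norm_exp]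
  refine Real.exp_le_exp.2 ?_
  have h := mul_le_mul_of_nonneg_left (hb x) (mul_nonneg Real.pi_pos.le hs.le)
  simp only [Pi.zero_apply, zero_mul, Finset.sum_const_zero, add_zero, ← Complex.ofReal_pow,
    ← Complex.ofReal_sum, ← Complex.ofReal_neg, ← Complex.ofReal_mul, Complex.ofReal_re]
  linarith

/-- The dual form of `M`. -/
def qdual (m : Fin n → ℤ) : ℝ := ∑ i, ((M⁻¹)ᵀ *ᵥ castR m) i ^ 2

theorem qdual_eq_qform (m : Fin n → ℤ) : qdual M m = qform (M⁻¹)ᵀ (castR m) := rfl

theorem integral_gauss (hM : M.det ≠ 0) (hs : 0 < s) (m : Fin n → ℤ) :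
    ∫ x, wave m x * gauss M s x =
      |M.det⁻¹| • (((π : ℂ) / ((π * s : ℝ) : ℂ)) ^ ((n : ℂ) / 2) *
        Complex.exp (-((π / s : ℝ) : ℂ) * (qdual M m : ℂ))) := by
  set N := M⁻¹
  set w : Fin n → ℝ := Nᵀ *ᵥ castR m with hw
  have key : ∀ x, wave m x * gauss M s x = (fun y : Fin n → ℝ =>
      Complex.exp (-((π * s : ℝ) : ℂ) * ∑ i, (y i : ℂ) ^ 2 +
        ∑ i, (-(2 * π * Complex.I) * (w i : ℂ)) * (y i : ℂ))) (M *ᵥ x) := by
    intro x
    have hdot : ∑ i, (m i : ℝ) * x i = ∑ i, w i * (M *ᵥ x) i := by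
      show castR m ⬝ᵥ x = w ⬝ᵥ (M *ᵥ x)
      rw [hw, mulVec_transpose, ← dotProduct_mulVec, mulVec_mulVec,
        nonsing_inv_mul M (isUnit_iff_ne_zero.2 hM), one_mulVec]
    simp only [wave, gauss, qform, ← Complex.exp_add]
    congr 1
    simp only [mul_assoc, ← Finset.mul_sum]
    have hc : ∑ i, (m i : ℂ) * (x i : ℂ) = ∑ i, (w i : ℂ) * ((M *ᵥ x) i : ℂ) := by
      exact_mod_cast hdot
    rw [hc]
    push_cast
    ring
  simp_rw [key]
  rw [integral_comp_mulVec M hM (fun y : Fin n → ℝ =>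
      Complex.exp (-((π * s : ℝ) : ℂ) * ∑ i, (y i : ℂ) ^ 2 +
        ∑ i, (-(2 * π * Complex.I) * (w i : ℂ)) * (y i : ℂ))),
    GaussianFourier.integral_cexp_neg_mul_sum_add (by rw [Complex.ofReal_re]; positivity),
    Fintype.card_fin]
  congr 3
  have hs' : (s : ℂ) ≠ 0 := by exact_mod_cast hs.ne'
  have hπ : (π : ℂ) ≠ 0 := by exact_mod_cast Real.pi_pos.ne'
  simp only [qdual, mul_pow, ← Finset.mul_sum]
  push_cast
  field_simp
  rw [Complex.I_sq]
  ring

theorem mFourierCoeff_torusFun (hM : M.det ≠ 0) (hs : 0 < s) (m : Fin n → ℤ) :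
    UnitAddTorus.mFourierCoeff (torusFun M s hM hs) m = ∫ x, wave m x * gauss M s x := by
  rw [UnitAddTorus.mFourierCoeff_eq_integral _ _ (0 : Fin n → ℝ)]
  have hbox : {x : Fin n → ℝ | ∀ i, x i ∈ Ioc ((0 : Fin n → ℝ) i) ((0 : Fin n → ℝ) i + 1)} =
      cube 0 := by
    ext x; simp [cube]
  rw [hbox]
  set g := fun x => wave m x * gauss M s x with hg
  have hgi : Integrable g := integrable_gauss_mul M s hM hs m
  have hgU : HasSum (fun v => ∫ x in cube v, g x) (∫ x, g x) := by
    have := hasSum_integral_iUnion (μ := volume) (f := g) measurableSet_cube cube_disjoint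
      hgi.integrableOn
    rwa [iUnion_cube, setIntegral_univ] at this
  have hnU : Summable fun v => ∫ x in cube v, ‖g x‖ := by
    have := hasSum_integral_iUnion (μ := volume) (f := fun x => ‖g x‖) measurableSet_cube
      cube_disjoint hgi.norm.integrableOn
    exact this.summable
  have e1 : ∀ x : Fin n → ℝ, UnitAddTorus.mFourier (-m) (fun i => (x i : UnitAddCircle)) •
      torusFun M s hM hs (fun i => (x i : UnitAddCircle)) = ∑' v, g (x + castR v) := by
    intro x
    show UnitAddTorus.mFourier (-m) (toTorus x) * periodization M s (rep (toTorus x)) = _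
    rw [mFourier_toTorus, periodization_rep, periodization, ← tsum_mul_left]
    simp only [hg, wave_add]
  simp_rw [e1]
  rw [← integral_tsum_of_summable_integral_norm]
  · simp_rw [setIntegral_shift g]
    exact hgU.tsum_eq
  · exact fun v => (hgi.comp_add_right (castR v)).integrableOn
  · refine hnU.congr fun v => ?_
    exact (setIntegral_shift (fun x => ‖g x‖) v).symm

/-- Poisson summation for the Gaussian of `M` on the integer lattice. -/
theorem poisson_gaussian (hM : M.det ≠ 0) (hs : 0 < s) :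
    ∑' v : Fin n → ℤ, Complex.exp (-((π * s : ℝ) : ℂ) * (qform M (castR v) : ℂ)) =
      |M.det⁻¹| • (((π : ℂ) / ((π * s : ℝ) : ℂ)) ^ ((n : ℂ) / 2) *
        ∑' m : Fin n → ℤ, Complex.exp (-((π / s : ℝ) : ℂ) * (qdual M m : ℂ))) := by
  have hcoef : ∀ m, UnitAddTorus.mFourierCoeff (torusFun M s hM hs) m =
      |M.det⁻¹| • (((π : ℂ) / ((π * s : ℝ) : ℂ)) ^ ((n : ℂ) / 2) *
        Complex.exp (-((π / s : ℝ) : ℂ) * (qdual M m : ℂ))) := fun m => by
    rw [mFourierCoeff_torusFun, integral_gauss M s hM hs]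
  have hdet : ((M⁻¹)ᵀ).det ≠ 0 := by
    rw [det_transpose, det_nonsing_inv, Ring.inverse_eq_inv']
    exact inv_ne_zero hM
  have hsum : Summable fun m : Fin n → ℤ =>
      Complex.exp (-((π / s : ℝ) : ℂ) * (qdual M m : ℂ)) := by
    refine Summable.of_norm ((summable_exp_neg_qform (M⁻¹)ᵀ hdet (div_pos Real.pi_pos hs)).congr
      fun m => ?_)
    rw [← qdual_eq_qform, Complex.norm_exp, ← Complex.ofReal_neg, ← Complex.ofReal_mul,
      Complex.ofReal_re]
  have hS : Summable (UnitAddTorus.mFourierCoeff (torusFun M s hM hs)) := by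
    exact ((hsum.mul_left _).const_smul _).congr fun m => (hcoef m).symm
  have h := (UnitAddTorus.hasSum_mFourier_series_apply_of_summable hS (toTorus 0)).tsum_eq
  have hone : ∀ i : Fin n → ℤ, UnitAddTorus.mFourier i (toTorus (0 : Fin n → ℝ)) = 1 := fun i => by
    simp [UnitAddTorus.mFourier, toTorus]
  simp only [hone, smul_eq_mul, mul_one, hcoef] at h
  have h0 : torusFun M s hM hs (toTorus 0) =
      ∑' v : Fin n → ℤ, Complex.exp (-((π * s : ℝ) : ℂ) * (qform M (castR v) : ℂ)) := by
    show periodization M s (rep (toTorus 0)) = _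
    rw [periodization_rep]
    simp [periodization, gauss]
  rw [← h0, ← h, Summable.tsum_const_smul _ (hsum.mul_left _), tsum_mul_left]

end Poisson

end Cfsg.Agent.LatticeThetaPoisson
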