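import Mathlib
import Cfsg.Agent.Lib.LatticeThetaPoisson

/-!
The theta series of an even unimodular positive lattice of rank `2k`, `4 ∣ k`, as a level one
modular form of weight `k`, and its `q`-expansion.
-/

set_option autoImplicit false

noncomputable section

namespace Cfsg.Agent.LatticeThetaForm

open Matrix Filter Topology UpperHalfPlane ModularForm Cfsg.Agent.LatticeThetaPoisson
open scoped Real MatrixGroups

variable {n : ℕ}

/-- An even unimodular positive definite integral form. -/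
structure EvenUnimodular (B : Matrix (Fin n) (Fin n) ℤ) : Prop where
  symm : B.IsSymm
  pos : ∀ x : Fin n → ℤ, x ≠ 0 → 0 < x ⬝ᵥ (B *ᵥ x)
  even : ∀ x : Fin n → ℤ, (2 : ℤ) ∣ x ⬝ᵥ (B *ᵥ x)
  det : B.det = 1

/-- The norm of a lattice vector. -/
def norm' (B : Matrix (Fin n) (Fin n) ℤ) (v : Fin n → ℤ) : ℤ := v ⬝ᵥ (B *ᵥ v)

theorem norm'_nonneg {B : Matrix (Fin n) (Fin n) ℤ} (h : EvenUnimodular B) (v : Fin n → ℤ) :
    0 ≤ norm' B v := by
  rcases eq_or_ne v 0 with rfl | hv
  · simp [norm']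
  · exact (h.pos v hv).le

/-- The real form of `B`. -/
def realMat (B : Matrix (Fin n) (Fin n) ℤ) : Matrix (Fin n) (Fin n) ℝ := B.map (Int.cast)

theorem castR_mulVec (B : Matrix (Fin n) (Fin n) ℤ) (v : Fin n → ℤ) :
    castR (B *ᵥ v) = realMat B *ᵥ castR v := by
  ext i
  simp [castR, realMat, mulVec, dotProduct]

theorem norm'_cast (B : Matrix (Fin n) (Fin n) ℤ) (v : Fin n → ℤ) :
    (norm' B v : ℝ) = castR v ⬝ᵥ (realMat B *ᵥ castR v) := by
  rw [← castR_mulVec]
  simp [norm', dotProduct, castR]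

theorem realMat_posSemidef {B : Matrix (Fin n) (Fin n) ℤ} (h : EvenUnimodular B) :
    (realMat B).PosSemidef := by
  rw [posSemidef_iff_dotProduct_mulVec]
  refine ⟨?_, fun x => ?_⟩
  · rw [isHermitian_iff_isSymm]
    exact h.symm.map _
  rw [star_trivial]
  set u : ℕ → Fin n → ℝ := fun j i => (⌊((j : ℝ) + 1) * x i⌋ : ℝ) / ((j : ℝ) + 1) with hu
  have hlim : Tendsto u atTop (𝓝 x) := by
    refine tendsto_pi_nhds.2 fun i => ?_
    have h1 : Tendsto (fun j : ℕ => x i - 1 / ((j : ℝ) + 1)) atTop (𝓝 (x i)) := by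
      simpa using tendsto_const_nhds.sub (tendsto_one_div_add_atTop_nhds_zero_nat (𝕜 := ℝ))
    refine tendsto_of_tendsto_of_tendsto_of_le_of_le h1 tendsto_const_nhds (fun j => ?_)
      (fun j => ?_)
    · have hj : (0 : ℝ) < (j : ℝ) + 1 := by positivity
      simp only [hu]
      rw [le_div_iff₀ hj, sub_mul, one_div_mul_cancel hj.ne']
      linarith [Int.lt_floor_add_one (((j : ℝ) + 1) * x i)]
    · have hj : (0 : ℝ) < (j : ℝ) + 1 := by positivity
      simp only [hu]
      rw [div_le_iff₀ hj]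
      linarith [Int.floor_le (((j : ℝ) + 1) * x i)]
  have hc : Continuous fun y : Fin n → ℝ => y ⬝ᵥ (realMat B *ᵥ y) := by fun_prop
  refine ge_of_tendsto' ((hc.tendsto x).comp hlim) fun j => ?_
  have hj : u j = (((j : ℝ) + 1)⁻¹) • castR (fun i => ⌊((j : ℝ) + 1) * x i⌋) := by
    ext i; simp [hu, castR, div_eq_inv_mul]
  simp only [Function.comp_apply, hj, mulVec_smul, dotProduct_smul, smul_dotProduct, smul_eq_mul,
    ← norm'_cast]
  have := norm'_nonneg h (fun i => ⌊((j : ℝ) + 1) * x i⌋)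
  have : (0 : ℝ) ≤ (norm' B (fun i => ⌊((j : ℝ) + 1) * x i⌋) : ℝ) := by exact_mod_cast this
  positivity

open scoped MatrixOrder in
theorem exists_factor {B : Matrix (Fin n) (Fin n) ℤ} (h : EvenUnimodular B) :
    ∃ M : Matrix (Fin n) (Fin n) ℝ, realMat B = Mᵀ * M ∧ |M.det| = 1 := by
  classical
  have hdet : (realMat B).det = 1 := by
    have := (Int.castRingHom ℝ).map_det B
    rw [h.det, map_one] at this
    exact this.symm
  have hpd : (realMat B).PosDef := (realMat_posSemidef h).posDef_iff_isUnit.2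
    ((isUnit_iff_isUnit_det _).2 (by rw [hdet]; exact isUnit_one))
  obtain ⟨M, -, hM⟩ := CStarAlgebra.isStrictlyPositive_iff_eq_star_mul_self.mp
    hpd.isStrictlyPositive
  have hM' : realMat B = Mᵀ * M := by
    rw [hM, star_eq_conjTranspose, conjTranspose_eq_transpose_of_trivial]
  refine ⟨M, hM', ?_⟩
  have : M.det ^ 2 = 1 := by
    rw [← hdet, hM', det_mul, det_transpose, sq]
  nlinarith [sq_abs M.det, abs_nonneg M.det]

theorem qform_eq {B : Matrix (Fin n) (Fin n) ℤ} {M : Matrix (Fin n) (Fin n) ℝ}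
    (hM : realMat B = Mᵀ * M) (v : Fin n → ℤ) : qform M (castR v) = (norm' B v : ℝ) := by
  rw [norm'_cast, hM, ← mulVec_mulVec, dotProduct_mulVec, vecMul_transpose]
  simp [qform, dotProduct, sq]

theorem qdual_eq {B : Matrix (Fin n) (Fin n) ℤ} {M : Matrix (Fin n) (Fin n) ℝ}
    (hM : realMat B = Mᵀ * M) (hdet : M.det ≠ 0) (v : Fin n → ℤ) :
    qdual M (B *ᵥ v) = (norm' B v : ℝ) := by
  rw [← qform_eq hM v, qdual, qform, castR_mulVec, hM, ← mulVec_mulVec, mulVec_mulVec,
    ← transpose_mul, mul_nonsing_inv M (isUnit_iff_ne_zero.2 hdet), transpose_one, one_mulVec]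

/-- The theta series as a function of a complex number. -/
def theta (B : Matrix (Fin n) (Fin n) ℤ) (z : ℂ) : ℂ :=
  ∑' v : Fin n → ℤ, Complex.exp (π * Complex.I * z * (norm' B v : ℂ))

theorem norm_term (B : Matrix (Fin n) (Fin n) ℤ) (z : ℂ) (v : Fin n → ℤ) :
    ‖Complex.exp (π * Complex.I * z * (norm' B v : ℂ))‖ =
      Real.exp (-(π * z.im) * (norm' B v : ℝ)) := by
  rw [Complex.norm_exp]
  congr 1
  simp [Complex.mul_re, Complex.mul_im]

theorem summable_bound {B : Matrix (Fin n) (Fin n) ℤ} (h : EvenUnimodular B) {c : ℝ}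
    (hc : 0 < c) : Summable fun v : Fin n → ℤ => Real.exp (-c * (norm' B v : ℝ)) := by
  obtain ⟨M, hM, hd⟩ := exists_factor h
  have hd0 : M.det ≠ 0 := fun h0 => by simp [h0] at hd
  exact (summable_exp_neg_qform M hd0 hc).congr fun v => by rw [qform_eq hM]

theorem summable_term {B : Matrix (Fin n) (Fin n) ℤ} (h : EvenUnimodular B) {z : ℂ}
    (hz : 0 < z.im) :
    Summable fun v : Fin n → ℤ => Complex.exp (π * Complex.I * z * (norm' B v : ℂ)) :=
  Summable.of_norm ((summable_bound h (mul_pos Real.pi_pos hz)).congr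
    fun v => (norm_term B z v).symm)

theorem differentiableOn_theta {B : Matrix (Fin n) (Fin n) ℤ} (h : EvenUnimodular B) :
    DifferentiableOn ℂ (theta B) {z : ℂ | 0 < z.im} := by
  intro z hz
  have hz : 0 < z.im := hz
  have hopen : IsOpen {w : ℂ | z.im / 2 < w.im} := isOpen_lt continuous_const Complex.continuous_im
  have hd : DifferentiableOn ℂ (theta B) {w : ℂ | z.im / 2 < w.im} := by
    refine Complex.differentiableOn_tsum_of_summable_norm
      (summable_bound h (mul_pos Real.pi_pos (half_pos hz))) (fun v => ?_) hopen fun v w hw => ?_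
    · exact (Differentiable.cexp (by fun_prop)).differentiableOn
    · rw [norm_term]
      refine Real.exp_le_exp.2 (mul_le_mul_of_nonneg_right ?_
        (by exact_mod_cast norm'_nonneg h v))
      exact neg_le_neg (mul_le_mul_of_nonneg_left (le_of_lt hw) Real.pi_pos.le)
  exact (hd.differentiableAt (hopen.mem_nhds (show z.im / 2 < z.im by linarith))).differentiableWithinAt

theorem theta_add_one {B : Matrix (Fin n) (Fin n) ℤ} (h : EvenUnimodular B) (z : ℂ) :
    theta B (z + 1) = theta B z := by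
  refine tsum_congr fun v => ?_
  obtain ⟨j, hj⟩ := h.even v
  rw [Complex.exp_eq_exp_iff_exists_int]
  refine ⟨j, ?_⟩
  have : (norm' B v : ℂ) = 2 * (j : ℂ) := by exact_mod_cast hj
  rw [this]; ring

theorem theta_imag_inv {B : Matrix (Fin n) (Fin n) ℤ} (h : EvenUnimodular B) {k : ℕ}
    (hn : n = 2 * k) {t : ℝ} (ht : 0 < t) :
    theta B (Complex.I * ((1 / t : ℝ) : ℂ)) = (t : ℂ) ^ k * theta B (Complex.I * (t : ℂ)) := by
  obtain ⟨M, hM, hd⟩ := exists_factor h
  have hd0 : M.det ≠ 0 := fun h0 => by simp [h0] at hd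
  have hbij : Function.Bijective fun v : Fin n → ℤ => B *ᵥ v := by
    have hu : IsUnit B.det := by rw [h.det]; exact isUnit_one
    refine Function.bijective_iff_has_inverse.2 ⟨fun m => B⁻¹ *ᵥ m, fun v => ?_, fun m => ?_⟩
    · simp [mulVec_mulVec, nonsing_inv_mul B hu]
    · simp [mulVec_mulVec, mul_nonsing_inv B hu]
  have hP := poisson_gaussian M t hd0 ht
  rw [abs_inv, hd, inv_one, one_smul,
    ← (Equiv.ofBijective _ hbij).tsum_eq
      (fun m => Complex.exp (-((π / t : ℝ) : ℂ) * (qdual M m : ℂ)))] at hP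
  have e1 : theta B (Complex.I * ((1 / t : ℝ) : ℂ)) =
      ∑' v : Fin n → ℤ, Complex.exp (-((π / t : ℝ) : ℂ) *
        (qdual M ((Equiv.ofBijective _ hbij) v) : ℂ)) := by
    refine tsum_congr fun v => congrArg Complex.exp ?_
    rw [Equiv.ofBijective_apply, qdual_eq hM hd0, Complex.ofReal_intCast]
    linear_combination ((π : ℂ) * ((1 / t : ℝ) : ℂ) * (norm' B v : ℂ)) * Complex.I_mul_I +
      (norm' B v : ℂ) * (by push_cast; ring : ((π / t : ℝ) : ℂ) - π * ((1 / t : ℝ) : ℂ) = 0)
  have e2 : theta B (Complex.I * (t : ℂ)) =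
      ∑' v : Fin n → ℤ, Complex.exp (-((π * t : ℝ) : ℂ) * (qform M (castR v) : ℂ)) := by
    refine tsum_congr fun v => congrArg Complex.exp ?_
    rw [qform_eq hM, Complex.ofReal_intCast, Complex.ofReal_mul]
    linear_combination ((π : ℂ) * t * (norm' B v : ℂ)) * Complex.I_mul_I
  have hexp : ((π : ℂ) / ((π * t : ℝ) : ℂ)) ^ ((n : ℂ) / 2) = ((t : ℂ) ^ k)⁻¹ := by
    have hk : ((n : ℂ) / 2) = (k : ℂ) := by rw [hn]; push_cast; ring
    have hπ : (π : ℂ) ≠ 0 := by exact_mod_cast Real.pi_pos.ne'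
    rw [hk, Complex.cpow_natCast, ← inv_pow, Complex.ofReal_mul, div_mul_cancel_left₀ hπ]
  rw [e1, e2, hP, hexp, ← mul_assoc, mul_inv_cancel₀ (pow_ne_zero _ (by exact_mod_cast ht.ne')),
    one_mul]

theorem theta_inv {B : Matrix (Fin n) (Fin n) ℤ} (h : EvenUnimodular B) {k : ℕ}
    (hn : n = 2 * k) (hk : 4 ∣ k) {z : ℂ} (hz : 0 < z.im) :
    theta B (-1 / z) = z ^ k * theta B z := by
  set U := {w : ℂ | 0 < w.im} with hU
  have hUo : IsOpen U := isOpen_lt continuous_const Complex.continuous_im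
  have hUc : IsPreconnected U := (convex_halfSpace_im_gt 0).isPreconnected
  have hne : ∀ w ∈ U, w ≠ 0 := fun w hw h0 => by simp [hU, h0] at hw
  have hmap : ∀ w ∈ U, -1 / w ∈ U := fun w hw => by
    have h1 : 0 < w.im := hw
    show 0 < (-1 / w).im
    simp only [Complex.div_im, Complex.neg_im, Complex.one_im, Complex.neg_re, Complex.one_re]
    have h2 : 0 < Complex.normSq w := Complex.normSq_pos.2 (hne w hw)
    have : 0 < w.im / Complex.normSq w := div_pos h1 h2
    ring_nf at this ⊢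
    linarith
  have hd := differentiableOn_theta h
  have hL : AnalyticOnNhd ℂ (fun w => theta B (-1 / w)) U :=
    (hd.comp ((differentiableOn_const (-1 : ℂ)).div differentiableOn_id hne) hmap).analyticOnNhd hUo
  have hR : AnalyticOnNhd ℂ (fun w => w ^ k * theta B w) U :=
    ((differentiableOn_id.pow k).mul hd).analyticOnNhd hUo
  refine AnalyticOnNhd.eqOn_of_preconnected_of_frequently_eq hL hR hUc
    (z₀ := Complex.I) (by simp [hU]) ?_ hz
  have hT : Tendsto (fun j : ℕ => Complex.I * ((1 + 1 / ((j : ℝ) + 1) : ℝ) : ℂ)) atTop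
      (𝓝[≠] Complex.I) := by
    refine tendsto_nhdsWithin_iff.2 ⟨?_, Eventually.of_forall fun j => ?_⟩
    · have h1 : Tendsto (fun j : ℕ => 1 + 1 / ((j : ℝ) + 1)) atTop (𝓝 (1 : ℝ)) := by
        simpa using tendsto_const_nhds.add (tendsto_one_div_add_atTop_nhds_zero_nat (𝕜 := ℝ))
      simpa using tendsto_const_nhds.mul ((Complex.continuous_ofReal.tendsto 1).comp h1)
    · intro hj
      have := congrArg Complex.im hj
      simp only [Complex.mul_im, Complex.I_re, Complex.I_im, Complex.ofReal_re, one_mul,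
        Complex.ofReal_im, zero_mul, zero_add] at this
      have : (0 : ℝ) < 1 / ((j : ℝ) + 1) := by positivity
      linarith
  refine hT.frequently (Frequently.of_forall fun j => ?_)
  set t : ℝ := 1 + 1 / ((j : ℝ) + 1)
  have ht : 0 < t := by positivity
  have htc : (t : ℂ) ≠ 0 := by exact_mod_cast ht.ne'
  have e : -1 / (Complex.I * (t : ℂ)) = Complex.I * ((1 / t : ℝ) : ℂ) := by
    rw [eq_comm, eq_div_iff (mul_ne_zero Complex.I_ne_zero htc)]
    push_cast
    field_simp
    exact Complex.I_sq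
  obtain ⟨l, rfl⟩ := hk
  rw [e, theta_imag_inv h hn ht, mul_pow, pow_mul Complex.I, Complex.I_pow_four, one_pow, one_mul]

variable (B : Matrix (Fin n) (Fin n) ℤ)

/-- The theta series on the upper half plane. -/
def thetaH (τ : ℍ) : ℂ := theta B τ

variable {B}

theorem thetaH_slash_T (h : EvenUnimodular B) (k : ℤ) :
    thetaH B ∣[k] ModularGroup.T = thetaH B := by
  funext τ
  rw [SL_slash_apply, modular_T_smul]
  simp only [thetaH, UpperHalfPlane.coe_vadd]
  rw [Complex.ofReal_one, add_comm, theta_add_one h]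
  have e : denom (ModularGroup.T : GL (Fin 2) ℝ) τ = 1 := by
    simp [denom, ModularGroup.coe_T]
  simp [e]

theorem thetaH_slash_S (h : EvenUnimodular B) {k : ℕ} (hn : n = 2 * k) (hk : 4 ∣ k) :
    thetaH B ∣[(k : ℤ)] ModularGroup.S = thetaH B := by
  funext τ
  rw [SlashInvariantForm.slash_S_apply]
  simp only [thetaH]
  rw [show (-(τ : ℂ))⁻¹ = -1 / (τ : ℂ) by rw [div_eq_mul_inv, inv_neg]; ring,
    theta_inv h hn hk τ.im_pos, _root_.zpow_neg, zpow_natCast, mul_comm ((τ : ℂ) ^ k), mul_assoc,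
    mul_inv_cancel₀ (pow_ne_zero _ τ.ne_zero), mul_one]

theorem thetaH_slash (h : EvenUnimodular B) {k : ℕ} (hn : n = 2 * k) (hk : 4 ∣ k)
    (γ : SL(2, ℤ)) : thetaH B ∣[(k : ℤ)] γ = thetaH B :=
  SlashInvariantForm.slash_action_generators_SL2Z (thetaH_slash_S h hn hk) (thetaH_slash_T h _) γ

theorem thetaH_isBoundedAtImInfty (h : EvenUnimodular B) : IsBoundedAtImInfty (thetaH B) := by
  rw [isBoundedAtImInfty_iff]
  refine ⟨∑' v : Fin n → ℤ, Real.exp (-π * (norm' B v : ℝ)), 1, fun τ hτ => ?_⟩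
  refine (norm_tsum_le_tsum_norm (summable_term h τ.im_pos).norm).trans ?_
  refine Summable.tsum_le_tsum (fun v => ?_) (summable_term h τ.im_pos).norm
    (summable_bound h Real.pi_pos)
  rw [norm_term]
  refine Real.exp_le_exp.2 (mul_le_mul_of_nonneg_right ?_ (by exact_mod_cast norm'_nonneg h v))
  have : (1 : ℝ) ≤ (τ : ℂ).im := hτ
  nlinarith [Real.pi_pos]

/-- The theta series as a modular form. -/
def thetaForm (h : EvenUnimodular B) {k : ℕ} (hn : n = 2 * k) (hk : 4 ∣ k) :
    ModularForm 𝒮ℒ (k : ℤ) where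
  toFun := thetaH B
  slash_action_eq' := fun _ ⟨γ, hγ⟩ => hγ ▸ thetaH_slash h hn hk γ
  holo' := UpperHalfPlane.mdifferentiable_iff.2 ((differentiableOn_theta h).congr
    fun z hz => by simp [thetaH, ofComplex_apply_of_im_pos hz])
  bdd_at_cusps' {c} hc := by
    rw [Subgroup.IsArithmetic.isCusp_iff_isCusp_SL2Z] at hc
    rw [OnePoint.isBoundedAt_iff_forall_SL2Z hc]
    intro γ _
    rw [thetaH_slash h hn hk γ]
    exact thetaH_isBoundedAtImInfty h

theorem finite_level (h : EvenUnimodular B) (m : ℤ) :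
    {v : Fin n → ℤ | norm' B v = m}.Finite := by
  have := (summable_bound h one_pos).tendsto_cofinite_zero.eventually
    (gt_mem_nhds (Real.exp_pos (-(m : ℝ))))
  rw [eventually_cofinite] at this
  refine this.subset fun v hv => ?_
  simp [show norm' B v = m from hv]

/-- The number of vectors of norm `2m` is the `m`-th coefficient of the `q`-expansion. -/
theorem thetaForm_coeff (h : EvenUnimodular B) {k : ℕ} (hn : n = 2 * k) (hk : 4 ∣ k) (m : ℕ) :
    (qExpansion 1 (thetaForm h hn hk)).coeff m =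
      ({v : Fin n → ℤ | norm' B v = 2 * (m : ℤ)}.ncard : ℂ) := by
  refine (ModularFormClass.qExpansion_coeff_unique (f := thetaForm h hn hk) one_pos
    one_mem_strictPeriods_SL (c := fun j : ℕ =>
      ({v : Fin n → ℤ | norm' B v = 2 * (j : ℤ)}.ncard : ℂ)) (fun τ => ?_) m).symm
  set N : (Fin n → ℤ) → ℕ := fun v => (norm' B v / 2).toNat with hN
  have hN2 : ∀ v, norm' B v = 2 * (N v : ℤ) := fun v => by
    have h1 := norm'_nonneg h v
    obtain ⟨j, hj⟩ := h.even v
    change norm' B v = 2 * j at hj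
    simp only [hN]
    omega
  have hsum : HasSum (fun v => Complex.exp (π * Complex.I * (τ : ℂ) * (norm' B v : ℂ)))
      (thetaH B τ) := (summable_term h τ.im_pos).hasSum
  have hs2 := ((Equiv.sigmaFiberEquiv N).hasSum_iff.2 hsum).sigma (g := fun j : ℕ =>
      ({v : Fin n → ℤ | norm' B v = 2 * (j : ℤ)}.ncard : ℂ) • Function.Periodic.qParam 1 τ ^ j)
    (fun j => ?_)
  · exact hs2
  · have hfin : Finite {v // N v = j} := by
      refine Set.Finite.to_subtype ((finite_level h (2 * (j : ℤ))).subset fun v hv => ?_)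
      show norm' B v = _
      rw [hN2 v, show N v = j from hv]
    have := Fintype.ofFinite {v // N v = j}
    have hterm : ∀ v : {v // N v = j}, Complex.exp (π * Complex.I * (τ : ℂ) *
        (norm' B ((Equiv.sigmaFiberEquiv N) ⟨j, v⟩) : ℂ)) = Function.Periodic.qParam 1 τ ^ j := by
      rintro ⟨v, hv⟩
      rw [Equiv.sigmaFiberEquiv_apply, hN2 v, hv, Function.Periodic.qParam, ← Complex.exp_nat_mul]
      push_cast
      ring_nf
    have hcard : {v : Fin n → ℤ | norm' B v = 2 * (j : ℤ)}.ncard =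
        Fintype.card {v // N v = j} := by
      rw [← Nat.card_coe_set_eq, ← Nat.card_eq_fintype_card]
      refine Nat.card_congr (Equiv.subtypeEquivRight fun v => ?_)
      show norm' B v = _ ↔ _
      rw [hN2 v]; omega
    show HasSum (fun v : {v // N v = j} => Complex.exp (π * Complex.I * (τ : ℂ) *
        (norm' B ((Equiv.sigmaFiberEquiv N) ⟨j, v⟩) : ℂ))) _
    simp only [hterm, hcard]
    have h2 := hasSum_fintype (fun _ : {v // N v = j} => Function.Periodic.qParam 1 (τ : ℂ) ^ j)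
    rw [Finset.sum_const, Finset.card_univ, nsmul_eq_mul] at h2
    rwa [smul_eq_mul]

end Cfsg.Agent.LatticeThetaForm
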