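import Mathlib
import Cfsg.Prelude.Def_LocalStructure
import Cfsg.Agent.Lib.CoprimeAction
import Cfsg.Agent.Lib.PSLCard
import Cfsg.Agent.Lib.PSLSimple

/-!
The least order of a group without normal Sylow p-subgroup, given the classification of simple groups
of order below the cube of p.
-/

set_option autoImplicit false

namespace Cfsg.Agent.LeastNonPClosed40

open Matrix

variable {G : Type} [Group G] [Finite G] {p : ℕ} [Fact p.Prime]

/-- An element of p-power order acting nontrivially on a normal p'-subgroup produces a prime power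
congruent to one mod p below the order of that subgroup. -/
theorem exists_prime_pow (P : Sylow p G) (N : Subgroup G) [N.Normal]
    (hN : ¬ p ∣ Nat.card N) (hact : ¬ N ≤ Subgroup.centralizer ((P : Subgroup G) : Set G)) :
    ∃ k : ℕ, IsPrimePow k ∧ k % p = 1 ∧ k ≤ Nat.card N := by
  classical
  have hpp : p.Prime := Fact.out
  set A := (P : Subgroup G) with hA
  have hAN : A ≤ Subgroup.normalizer (N : Set G) := by
    rw [Subgroup.normalizer_eq_top]; exact le_top
  have hcop : (Nat.card A).Coprime (Nat.card N) := by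
    obtain ⟨n, hn⟩ := IsPGroup.iff_card.mp P.2
    rw [hn]
    exact Nat.Coprime.pow_left n ((Nat.Prime.coprime_iff_not_dvd hpp).mpr hN)
  have hsol : Group.IsSolvable A ∨ Group.IsSolvable N :=
    Or.inl (CoprimeAction.isSolvable_of_isPGroup P.2)
  -- some invariant Sylow subgroup of N is moved
  obtain ⟨q, hq, Q, hQn, hQc⟩ : ∃ (q : ℕ) (_ : q.Prime) (Q : Subgroup G),
      (∃ n, Nat.card Q = q ^ n) ∧ Q ≤ N ∧ A ≤ Subgroup.normalizer (Q : Set G) ∧
        ¬ Q ≤ Subgroup.centralizer (A : Set G) := by
    by_contra hno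
    push_neg at hno
    apply hact
    set C := N ⊓ Subgroup.centralizer (A : Set G) with hC
    have hdvd : Nat.card N ∣ Nat.card C := by
      refine (Nat.dvd_iff_prime_pow_dvd_dvd (Nat.card C) (Nat.card N)).mpr fun q k hq hk => ?_
      haveI := Fact.mk hq
      obtain ⟨R, hR⟩ := CoprimeAction.exists_invariant_sylow hAN hcop hsol q
      have hRc := CoprimeAction.card_map_sylow R
      have hle := Subgroup.map_subtype_le (R : Subgroup N)
      have hcC : (R : Subgroup N).map N.subtype ≤ C :=
        le_inf hle (hno q hq _ ⟨_, hRc⟩ hle hR)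
      refine dvd_trans ?_ (Subgroup.card_dvd_of_le hcC)
      rw [hRc]
      exact pow_dvd_pow q ((Nat.Prime.pow_dvd_iff_le_factorization hq (Nat.card_pos).ne').mp hk)
    have heq : C = N := Subgroup.eq_of_le_of_card_ge inf_le_left
      (Nat.le_of_dvd Nat.card_pos hdvd)
    exact heq ▸ inf_le_right
  obtain ⟨n, hn⟩ := hQn
  obtain ⟨hQN, hAQ, hQne⟩ := hQc
  set D := Q ⊓ Subgroup.centralizer (A : Set G) with hD
  have hDQ : D ≤ Q := inf_le_left
  -- the fixed points of the action of A on Q are congruent to Q
  let act : MulAction A Q :=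
    { smul := fun a x => ⟨a.1 * x.1 * a.1⁻¹, (Subgroup.mem_normalizer_iff.mp (hAQ a.2) x.1).mp x.2⟩
      one_smul := fun x => Subtype.ext (by show (1 : G) * x.1 * 1⁻¹ = x.1; group)
      mul_smul := fun a b x => Subtype.ext (by
        show (a.1 * b.1) * x.1 * (a.1 * b.1)⁻¹ = a.1 * (b.1 * x.1 * b.1⁻¹) * a.1⁻¹
        group) }
  have hmod := IsPGroup.card_modEq_card_fixedPoints P.2 (α := Q)
  have hfix : Nat.card (MulAction.fixedPoints A Q) = Nat.card D := by
    refine Nat.card_congr
      { toFun := fun x => ⟨x.1.1, x.1.2, fun a ha => ?_⟩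
        invFun := fun x => ⟨⟨x.1, x.2.1⟩, fun a => Subtype.ext ?_⟩
        left_inv := fun x => rfl
        right_inv := fun x => rfl }
    · have h : a * x.1.1 * a⁻¹ = x.1.1 := congrArg Subtype.val (x.2 ⟨a, ha⟩)
      calc a * x.1.1 = (a * x.1.1 * a⁻¹) * a := by group
        _ = x.1.1 * a := by rw [h]
    · show a.1 * x.1 * a.1⁻¹ = x.1
      have h := x.2.2 a.1 a.2
      rw [h]; group
  rw [hfix] at hmod
  have hdvdDQ := Subgroup.card_dvd_of_le hDQ
  rw [hn] at hdvdDQ hmod
  obtain ⟨d, hdn, hd⟩ := (Nat.dvd_prime_pow hq).mp hdvdDQ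
  rw [hd] at hmod
  have hlt : d < n := by
    rcases Nat.lt_or_eq_of_le hdn with h | h
    · exact h
    · exact absurd ((Subgroup.eq_of_le_of_card_ge hDQ (by rw [hn, hd, h])) ▸ inf_le_right : Q ≤ Subgroup.centralizer (A : Set G)) hQne
  have hqN : q ^ n ∣ Nat.card N := hn ▸ Subgroup.card_dvd_of_le hQN
  have hqp : Nat.Coprime p (q ^ d) := by
    refine (Nat.Prime.coprime_iff_not_dvd hpp).mpr fun h => hN ?_
    exact h.trans ((pow_dvd_pow q hdn).trans hqN)
  refine ⟨q ^ (n - d), hq.isPrimePow.pow (by omega), ?_, ?_⟩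
  · have h1 : q ^ d * q ^ (n - d) ≡ q ^ d * 1 [MOD p] := by
      rw [← pow_add, Nat.add_sub_cancel' hdn, mul_one]; exact hmod
    have h2 : q ^ (n - d) ≡ 1 [MOD p] := Nat.ModEq.cancel_left_of_coprime hqp h1
    rw [h2, Nat.mod_eq_of_lt hpp.one_lt]
  · exact (Nat.pow_le_pow_right hq.pos (Nat.sub_le n d)).trans (Nat.le_of_dvd Nat.card_pos hqN)

/-- The classification input. -/
def SmallSimple (p : ℕ) : Prop :=
  ∀ (S : Type) [Group S] [Finite S] [IsSimpleGroup S], ¬ IsCyclic S → p ∣ Nat.card S → Nat.card S < p ^ 3 →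
    p * (p ^ 2 - 1) / 2 ≤ Nat.card S

/-- The lower bound. -/
theorem lower (hS : SmallSimple p) (m : ℕ)
    (hleast : ∀ k : ℕ, IsPrimePow k → k % p = 1 → m ≤ k) :
    ∀ (n : ℕ) (H : Type) [Group H] [Finite H], Nat.card H = n → ¬ Cfsg.IsPClosed p H →
      min (p * m) (p * (p ^ 2 - 1) / 2) ≤ n := by
  classical
  have hpp : p.Prime := Fact.out
  intro n
  induction n using Nat.strong_induction_on with
  | h n ih =>
    intro H _ _ hH hnc
    by_contra hlt
    push_neg at hlt
    -- proper subgroups and quotients are p-closed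
    have hsub : ∀ K : Subgroup H, K ≠ ⊤ → Cfsg.IsPClosed p K := by
      intro K hK
      by_contra h
      have hc : Nat.card K < n := by
        rw [← hH]
        exact lt_of_le_of_ne (Nat.le_of_dvd Nat.card_pos (Subgroup.card_subgroup_dvd_card K))
          (fun e => hK (Subgroup.eq_top_of_card_eq K e))
      exact absurd (ih _ hc K rfl h) (by omega)
    have hquo : ∀ (N : Subgroup H) [N.Normal], N ≠ ⊥ → Cfsg.IsPClosed p (H ⧸ N) := by
      intro N _ hN
      by_contra h
      have hc : Nat.card (H ⧸ N) < n := by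
        rw [← hH, Subgroup.card_eq_card_quotient_mul_card_subgroup N]
        exact lt_mul_of_one_lt_right Nat.card_pos (N.one_lt_card_iff_ne_bot.mpr hN)
      exact absurd (ih _ hc (H ⧸ N) rfl h) (by omega)
    by_cases hsimple : ∀ N : Subgroup H, N.Normal → N = ⊥ ∨ N = ⊤
    · haveI : Nontrivial H := by
        rcases subsingleton_or_nontrivial H with h | h
        · exact absurd (fun P => by rw [Subsingleton.elim (P : Subgroup H) ⊥]; infer_instance) hnc
        · exact h
      haveI : IsSimpleGroup H := ⟨fun N hN => hsimple N hN⟩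
      have hcyc : ¬ IsCyclic H := fun h => hnc fun P => by
        haveI := h
        letI := IsCyclic.commGroup (α := H)
        infer_instance
      have hdvd : p ∣ Nat.card H := by
        by_contra h
        refine hnc fun P => ?_
        have : Nat.card (P : Subgroup H) = 1 := by
          rw [P.card_eq_multiplicity, Nat.factorization_eq_zero_of_not_dvd h, pow_zero]
        rw [Subgroup.card_eq_one.mp this]; infer_instance
      have hbd : Nat.card H < p ^ 3 := by
        rw [hH]
        refine lt_of_lt_of_le (lt_of_lt_of_le hlt (min_le_right _ _)) ?_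
        calc p * (p ^ 2 - 1) / 2 ≤ p * (p ^ 2 - 1) := Nat.div_le_self _ _
          _ ≤ p * p ^ 2 := Nat.mul_le_mul_left _ (Nat.sub_le _ _)
          _ = p ^ 3 := by ring
      have := hS H hcyc hdvd hbd
      rw [hH] at this
      exact absurd ((min_le_right (p * m) _).trans this) (by omega)
    · push_neg at hsimple
      obtain ⟨N, hNn, hNb, hNt⟩ := hsimple
      have : ∃ P : Sylow p H, ¬ (P : Subgroup H).Normal := by
        by_contra h; push_neg at h; exact hnc h
      obtain ⟨P, hP⟩ := this
      -- the Sylow subgroup of N is normal in H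
      obtain ⟨R⟩ := (inferInstance : Nonempty (Sylow p N))
      haveI hRn : (R : Subgroup N).Normal := hsub N hNt R
      haveI := Sylow.characteristic_of_normal R hRn
      set R' := (R : Subgroup N).map N.subtype with hR'
      haveI : R'.Normal := ConjAct.normal_of_characteristic_of_normal
      have hPN : ∀ (M : Subgroup H) [M.Normal], M ≠ ⊥ → ((P : Subgroup H) ⊔ M).Normal := by
        intro M _ hM
        have := hquo M hM ((P.mapSurjective (QuotientGroup.mk'_surjective M)))
        have h2 := this.comap (QuotientGroup.mk' M)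
        rwa [Sylow.coe_mapSurjective, Subgroup.comap_map_eq, QuotientGroup.ker_mk'] at h2
      by_cases hR1 : R' = ⊥
      · have hpN : ¬ p ∣ Nat.card N := by
          intro h
          have h2 : Nat.card (R : Subgroup N) = 1 := by
            rw [← Subgroup.card_map_of_injective N.subtype_injective, ← hR', hR1, Subgroup.card_bot]
          exact Sylow.ne_bot_of_dvd_card R h (Subgroup.card_eq_one.mp h2)
        have hPNn := hPN N hNb
        have htop : (P : Subgroup H) ⊔ N = ⊤ := by
          by_contra h
          have hle : (P : Subgroup H) ≤ (P : Subgroup H) ⊔ N := le_sup_left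
          set P' := P.subtype hle
          haveI hn' : (P' : Subgroup ((P : Subgroup H) ⊔ N : Subgroup H)).Normal := hsub _ h P'
          haveI := Sylow.characteristic_of_normal P' hn'
          have h3 : ((P' : Subgroup ((P : Subgroup H) ⊔ N : Subgroup H)).map (Subgroup.subtype _)).Normal :=
            ConjAct.normal_of_characteristic_of_normal
          rw [Sylow.coe_subtype, Subgroup.map_subgroupOf_eq_of_le hle] at h3
          exact hP h3
        have hact : ¬ N ≤ Subgroup.centralizer ((P : Subgroup H) : Set H) := by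
          intro h
          refine hP ?_
          rw [← Subgroup.normalizer_eq_top_iff, eq_top_iff, ← htop]
          refine sup_le Subgroup.le_normalizer fun x hx => ?_
          exact Subgroup.centralizer_le_normalizer _ (h hx)
        obtain ⟨k, hk1, hk2, hk3⟩ := exists_prime_pow P N hpN hact
        have hmk := (hleast k hk1 hk2).trans hk3
        have hPp : p ∣ Nat.card (P : Subgroup H) := by
          obtain ⟨j, hj⟩ := IsPGroup.iff_card.mp P.2
          rcases Nat.eq_zero_or_pos j with h0 | h0
          · refine absurd ?_ hP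
            rw [Subgroup.card_eq_one.mp (show Nat.card (P : Subgroup H) = 1 by rw [hj, h0, pow_zero])]; infer_instance
          · rw [hj]; exact dvd_pow_self p h0.ne'
        have hd : p * Nat.card N ∣ n := by
          rw [← hH]
          refine Nat.Coprime.mul_dvd_of_dvd_of_dvd ((Nat.Prime.coprime_iff_not_dvd hpp).mpr hpN)
            (hPp.trans (Subgroup.card_subgroup_dvd_card _)) (Subgroup.card_subgroup_dvd_card _)
        have h5 := Nat.le_of_dvd (hH ▸ Nat.card_pos) hd
        have h6 : p * m ≤ n := (Nat.mul_le_mul_left p hmk).trans h5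
        exact absurd ((min_le_left (p * m) (p * (p ^ 2 - 1) / 2)).trans h6) (by omega)
      · have h := hPN R' hR1
        have hle : R' ≤ (P : Subgroup H) := by
          have hR'p : IsPGroup p R' := R.2.map _
          obtain ⟨Q, hQ⟩ := hR'p.exists_le_sylow
          obtain ⟨g, rfl⟩ := MulAction.exists_smul_eq H Q P
          intro x hx
          rw [Sylow.coe_subgroup_smul, Subgroup.mem_pointwise_smul_iff_inv_smul_mem]
          exact hQ (by simpa using (‹R'.Normal›).conj_mem x hx g⁻¹)
        rw [sup_eq_left.mpr hle] at h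
        exact hP h

/-- A projective special linear group over a field of more than three elements is not p-closed
when p divides its order. -/
theorem psl_not_closed {F : Type} [Field F] [Finite F] (h4 : 4 ≤ Nat.card F)
    (hdvd : p ∣ Nat.card (ProjectiveSpecialLinearGroup (Fin 2) F))
    (hne : Nat.card (ProjectiveSpecialLinearGroup (Fin 2) F) ≠ p) :
    ¬ Cfsg.IsPClosed p (ProjectiveSpecialLinearGroup (Fin 2) F) := by
  intro h
  haveI : IsSimpleGroup (ProjectiveSpecialLinearGroup (Fin 2) F) :=
    Cfsg.Agent.PSLSimple.isSimpleGroup_PSL_fin' le_rfl fun _ => h4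
  obtain ⟨P⟩ := (inferInstance : Nonempty (Sylow p (ProjectiveSpecialLinearGroup (Fin 2) F)))
  rcases (h P).eq_bot_or_eq_top with e | e
  · exact Sylow.ne_bot_of_dvd_card P hdvd e
  · have hcomm : ∀ a b : ProjectiveSpecialLinearGroup (Fin 2) F, a * b = b * a := by
      haveI : Group.IsNilpotent (ProjectiveSpecialLinearGroup (Fin 2) F) := by
        have := P.2.isNilpotent
        rw [e] at this
        exact Group.nilpotent_of_mulEquiv Subgroup.topEquiv
      intro a b
      rcases (Subgroup.center (ProjectiveSpecialLinearGroup (Fin 2) F)).normal_of_characteristic.eq_bot_or_eq_top with c | c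
      · exact absurd c (Group.IsNilpotent.center_ne_bot _)
      · exact ((Subgroup.mem_center_iff.mp (c ▸ Subgroup.mem_top b)) a)
    letI : CommGroup (ProjectiveSpecialLinearGroup (Fin 2) F) :=
      { (inferInstance : Group (ProjectiveSpecialLinearGroup (Fin 2) F)) with mul_comm := hcomm }
    haveI := Fact.mk (IsSimpleGroup.prime_card (α := ProjectiveSpecialLinearGroup (Fin 2) F))
    exact hne ((Nat.prime_dvd_prime_iff_eq Fact.out (Fact.out : (Nat.card _).Prime)).mp hdvd).symm

/-- The group attaining the first bound. -/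
theorem exists_semidirect (m : ℕ) (hm : IsPrimePow m) (hm1 : m % p = 1) :
    ∃ (H : Type) (_ : Group H) (_ : Finite H), Nat.card H = p * m ∧ ¬ Cfsg.IsPClosed p H := by
  classical
  have hpp : p.Prime := Fact.out
  obtain ⟨q, k, hq, hk, rfl⟩ := hm
  rw [← Nat.prime_iff] at hq
  haveI := Fact.mk hq
  let F := GaloisField q k
  have hF : Nat.card F = q ^ k := GaloisField.card q k hk.ne'
  haveI : Finite F := Nat.finite_of_card_ne_zero (by rw [hF]; exact pow_ne_zero _ hq.ne_zero)
  have hdvd : p ∣ Nat.card Fˣ := by
    rw [Nat.card_units, hF]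
    exact ⟨q ^ k / p, by have := Nat.div_add_mod (q ^ k) p; omega⟩
  obtain ⟨u, hu⟩ := exists_prime_orderOf_dvd_card' p hdvd
  let U := Subgroup.zpowers u
  let φ : U →* MulAut (Multiplicative F) :=
    { toFun := fun v => AddEquiv.toMultiplicative (DistribMulAction.toAddEquiv F v.1)
      map_one' := by ext x; exact congrArg Multiplicative.ofAdd (one_smul Fˣ x.toAdd)
      map_mul' := fun a b => by ext x; exact congrArg Multiplicative.ofAdd (mul_smul a.1 b.1 x.toAdd) }
  let H := Multiplicative F ⋊[φ] U
  haveI : Finite H := Finite.of_equiv _ SemidirectProduct.equivProd.symm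
  have hcU : Nat.card U = p := by rw [Nat.card_zpowers, hu]
  have hcH : Nat.card H = p * q ^ k := by
    rw [Nat.card_congr SemidirectProduct.equivProd, Nat.card_prod, Nat.card_congr Multiplicative.toAdd,
      hF, hcU, mul_comm]
  refine ⟨H, inferInstance, inferInstance, hcH, fun h => ?_⟩
  set P := (SemidirectProduct.inr : U →* H).range with hP
  have hcP : Nat.card P = p := by
    rw [← hcU]
    exact (Nat.card_congr (MonoidHom.ofInjective SemidirectProduct.inr_injective).toEquiv).symm
  have hnd : ¬ p ∣ q ^ k := fun h => by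
    rw [Nat.dvd_iff_mod_eq_zero] at h; omega
  have hsyl : Nat.card P = p ^ (Nat.card H).factorization p := by
    rw [hcP, hcH, Nat.factorization_mul hpp.ne_zero (pow_ne_zero _ hq.ne_zero)]
    simp [hpp.factorization_self, Nat.factorization_eq_zero_of_not_dvd (fun h => hnd (h.trans (dvd_pow_self q hk.ne')))]
  have hn := h (Sylow.ofCard P hsyl)
  rw [Sylow.coe_ofCard] at hn
  have hu1 : (u : Fˣ) ≠ 1 := fun e => hpp.ne_one (by rw [← hu, e, orderOf_one])
  let a : H := SemidirectProduct.inl (Multiplicative.ofAdd (1 : F))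
  let b : H := SemidirectProduct.inr ⟨u, Subgroup.mem_zpowers u⟩
  obtain ⟨v, hv⟩ := hn.conj_mem b ⟨_, rfl⟩ a
  have key : ∀ (x : Multiplicative F) (w : U), ((SemidirectProduct.inl x * SemidirectProduct.inr w *
      (SemidirectProduct.inl x)⁻¹ : Multiplicative F ⋊[φ] U)).left = x * φ w x⁻¹ := by
    intro x w; simp; exact (map_inv _ _).symm
  have hl : (1 : Multiplicative F) = Multiplicative.ofAdd (1 : F) *
      φ ⟨u, Subgroup.mem_zpowers u⟩ (Multiplicative.ofAdd (1 : F))⁻¹ :=
    (congrArg SemidirectProduct.left hv).trans (key _ _)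
  have hl' : (0 : F) = 1 + (u : F) * -1 := congrArg Multiplicative.toAdd hl
  exact hu1 (Units.ext (by rw [Units.val_one]; linear_combination hl'))

/-- The least order. -/
theorem main (hp : p ≠ 2) (hS : SmallSimple p) (m : ℕ) (hm : IsPrimePow m) (hm1 : m % p = 1)
    (hleast : ∀ k : ℕ, IsPrimePow k → k % p = 1 → m ≤ k) :
    (∀ (H : Type) [Group H] [Finite H], ¬ Cfsg.IsPClosed p H → min (p * m) (p * (p ^ 2 - 1) / 2) ≤ Nat.card H) ∧
      ∃ (H : Type) (_ : Group H) (_ : Finite H), Nat.card H = min (p * m) (p * (p ^ 2 - 1) / 2) ∧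
        ¬ Cfsg.IsPClosed p H := by
  have hpp : p.Prime := Fact.out
  refine ⟨fun H _ _ h => lower hS m hleast _ H rfl h, ?_⟩
  by_cases hle : p * m ≤ p * (p ^ 2 - 1) / 2
  · rw [min_eq_left hle]
    exact exists_semidirect m hm hm1
  · rw [min_eq_right (by omega)]
    have h5 : 5 ≤ p := by
      have h2 := hpp.two_le
      by_contra h
      have h3 : p = 3 := by
        interval_cases p <;> first | rfl | exact absurd rfl hp | norm_num at hpp
      subst h3
      have := hleast 4 (Nat.prime_two.isPrimePow.pow two_ne_zero : IsPrimePow (2 ^ 2)) (by norm_num)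
      norm_num at hle
      omega
    have hc : Nat.card (ZMod p) = p := by simp
    have hcard : Nat.card (ProjectiveSpecialLinearGroup (Fin 2) (ZMod p)) = p * (p ^ 2 - 1) / 2 := by
      rw [PSLCard.card_PSL2_odd (by rw [hc]; exact hpp.odd_of_ne_two hp), hc]
    obtain ⟨j, hj⟩ : 2 ∣ p ^ 2 - 1 := by
      obtain ⟨i, rfl⟩ := hpp.odd_of_ne_two hp
      exact ⟨2 * i * i + 2 * i, by ring_nf; omega⟩
    have hdiv : p * (p ^ 2 - 1) / 2 = p * j := by
      rw [hj, ← Nat.mul_assoc, Nat.mul_comm p 2, Nat.mul_assoc, Nat.mul_div_cancel_left _ two_pos]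
    refine ⟨_, inferInstance, inferInstance, hcard,
      psl_not_closed (by rw [hc]; omega) (by rw [hcard, hdiv]; exact dvd_mul_right p j) ?_⟩
    rw [hcard, hdiv]
    intro h
    have h25 : 25 ≤ p ^ 2 := by nlinarith
    have : j = 1 := by
      nlinarith [hpp.pos]
    omega

end Cfsg.Agent.LeastNonPClosed40
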