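import Cfsg.Agent.Lib.GolayBasic
import Cfsg.Agent.Lib.GolayPerm
import Cfsg.Prelude.Def_SporadicCombinatorics

/-!
The rank-24 lattice built from the length-24 code: normal form of membership, monomial
automorphisms, evenness and minimal norm.
-/

set_option autoImplicit false

open scoped Pointwise

namespace Cfsg.Agent.LeechBasic

open Cfsg Cfsg.Agent.GolayBasic

/-- The binary word attached to an integer vector: second binary digit of each coordinate. -/
def wbit (x : GolayPt → ℤ) : GolayPt → ZMod 2 := fun i => ((x i / 2 : ℤ) : ZMod 2)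

/-- Normal form of membership in `leechSet`. -/
def IsLeech (x : GolayPt → ℤ) : Prop :=
  (∀ i, x i % 2 = x none % 2) ∧ (∑ i, x i) % 8 = 4 * (x none % 2) ∧ wbit x ∈ golayCode

theorem one_mem_golayCode : (1 : GolayPt → ZMod 2) ∈ golayCode :=
  Submodule.subset_span (Set.mem_union_right _ rfl)

theorem wbit_ne_zero_iff (x : GolayPt → ℤ) (i : GolayPt) : wbit x i ≠ 0 ↔ x i / 2 % 2 = 1 := by
  rw [Ne, wbit, ZMod.intCast_zmod_eq_zero_iff_dvd]
  omega

theorem mem_supports_golay {w : GolayPt → ZMod 2} :
    support₂ w ∈ supports (golayCode : Set (GolayPt → ZMod 2)) ↔ w ∈ golayCode :=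
  ⟨fun ⟨_, hv, h⟩ => support₂_inj h ▸ hv, fun h => ⟨w, h, rfl⟩⟩

theorem mem_leechSet_iff {x : GolayPt → ℤ} : x ∈ leechSet ↔ IsLeech x := by
  constructor
  · rintro ⟨m, hpar, hsum, hk⟩
    have hpar' : ∀ i, x i % 2 = x none % 2 := fun i => by
      have h1 := hpar i; have h2 := hpar none; unfold Int.ModEq at h1 h2; omega
    refine ⟨hpar', ?_, ?_⟩
    · have h2 := hpar none; unfold Int.ModEq at hsum h2; omega
    · rw [← mem_supports_golay]
      convert hk (x none % 2 + 2) using 1
      ext i
      simp only [support₂, Finset.mem_filter, Finset.mem_univ, true_and, wbit_ne_zero_iff]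
      have := hpar' i
      unfold Int.ModEq
      omega
  · rintro ⟨hpar, hsum, hw⟩
    refine ⟨x none % 2, fun i => ?_, ?_, fun k => ?_⟩
    · have := hpar i; unfold Int.ModEq; omega
    · unfold Int.ModEq; omega
    · by_cases h1 : k % 2 = x none % 2
      · by_cases h2 : k % 4 = x none % 2 + 2
        · convert mem_supports_golay.mpr hw using 1
          ext i
          simp only [support₂, Finset.mem_filter, Finset.mem_univ, true_and, wbit_ne_zero_iff]
          have := hpar i
          unfold Int.ModEq
          omega
        · convert compl_mem_supports (mem_supports_golay.mpr hw) using 1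
          ext i
          simp only [support₂, Finset.mem_compl, Finset.mem_filter, Finset.mem_univ, true_and,
            wbit_ne_zero_iff]
          have := hpar i
          unfold Int.ModEq
          omega
      · convert (by rw [← mset_zero, mset_mem_supports (by norm_num)]; decide +kernel : (∅ : Finset GolayPt) ∈ supports (golayCode : Set (GolayPt → ZMod 2))) using 1
        ext i
        simp only [Finset.mem_filter, Finset.mem_univ, true_and, Finset.notMem_empty, iff_false]
        have := hpar i
        unfold Int.ModEq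
        omega

theorem wbit_add {x y : GolayPt → ℤ} (hx : IsLeech x) (hy : IsLeech y) :
    wbit (x + y) = wbit x + wbit y + (if x none % 2 = 1 ∧ y none % 2 = 1 then 1 else 0) := by
  funext i
  have h1 := hx.1 i
  have h2 := hy.1 i
  by_cases h : x none % 2 = 1 ∧ y none % 2 = 1
  · simp only [if_pos h, Pi.add_apply, Pi.one_apply, wbit]
    rw [show (x i + y i) / 2 = x i / 2 + y i / 2 + 1 by omega]
    push_cast; rfl
  · simp only [if_neg h, Pi.add_apply, Pi.zero_apply, wbit, add_zero]
    rw [show (x i + y i) / 2 = x i / 2 + y i / 2 by omega]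
    push_cast; rfl

theorem isLeech_zero : IsLeech 0 :=
  ⟨fun i => rfl, by simp, by
    have : wbit 0 = 0 := by funext i; simp [wbit]
    rw [this]; exact zero_mem _⟩

theorem isLeech_add {x y : GolayPt → ℤ} (hx : IsLeech x) (hy : IsLeech y) : IsLeech (x + y) := by
  refine ⟨fun i => ?_, ?_, ?_⟩
  · have := hx.1 i; have := hy.1 i; simp only [Pi.add_apply]; omega
  · have := hx.2.1; have := hy.2.1
    simp only [Pi.add_apply, Finset.sum_add_distrib]
    omega
  · rw [wbit_add hx hy]
    refine add_mem (add_mem hx.2.2 hy.2.2) ?_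
    split_ifs
    · exact one_mem_golayCode
    · exact zero_mem _

theorem isLeech_neg {x : GolayPt → ℤ} (hx : IsLeech x) : IsLeech (-x) := by
  refine ⟨fun i => ?_, ?_, ?_⟩
  · have := hx.1 i; simp only [Pi.neg_apply]; omega
  · have := hx.2.1
    simp only [Pi.neg_apply, Finset.sum_neg_distrib]
    omega
  · have key : wbit (-x) = wbit x + (if x none % 2 = 1 then 1 else 0) := by
      funext i
      have := hx.1 i
      have hneg : ∀ z : ZMod 2, -z = z := by decide
      by_cases h : x none % 2 = 1
      · simp only [if_pos h, Pi.neg_apply, Pi.add_apply, Pi.one_apply, wbit]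
        rw [show -x i / 2 = -(x i / 2 + 1) by omega]
        push_cast; exact hneg _
      · simp only [if_neg h, Pi.neg_apply, Pi.add_apply, Pi.zero_apply, wbit, add_zero]
        rw [show -x i / 2 = -(x i / 2) by omega]
        push_cast; exact hneg _
    rw [key]
    refine add_mem hx.2.2 ?_
    split_ifs
    · exact one_mem_golayCode
    · exact zero_mem _

/-- The normal-form vectors as an additive subgroup. -/
def leechGroup : AddSubgroup (GolayPt → ℤ) where
  carrier := {x | IsLeech x}
  zero_mem' := isLeech_zero
  add_mem' := isLeech_add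
  neg_mem' := isLeech_neg

theorem leechLattice_eq : leechLattice = leechGroup := by
  refine le_antisymm ?_ ?_
  · rw [leechLattice, AddSubgroup.closure_le]
    intro x hx
    exact mem_leechSet_iff.mp hx
  · intro x hx
    exact AddSubgroup.subset_closure (mem_leechSet_iff.mpr hx)

theorem mem_leechLattice {x : GolayPt → ℤ} : x ∈ leechLattice ↔ IsLeech x := by
  rw [leechLattice_eq]; rfl

theorem coe_leechLattice : (leechLattice : Set (GolayPt → ℤ)) = leechSet := by
  ext x; exact mem_leechLattice.trans mem_leechSet_iff.symm

/-! ### doubly even -/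

theorem four_dvd_card {s : Finset GolayPt}
    (hs : s ∈ supports (golayCode : Set (GolayPt → ZMod 2))) : 4 ∣ s.card := by
  rcases card_support_cases hs with h | h | h | h | h
  · simp [h]
  all_goals rw [h]; norm_num

theorem card_univ_pt : (Finset.univ : Finset GolayPt).card = 24 := by
  simp

/-! ### monomial maps -/

/-- Sign change on a set of coordinates. -/
def flip (c : Finset GolayPt) (x : GolayPt → ℤ) : GolayPt → ℤ := fun i => if i ∈ c then -x i else x i

theorem isLeech_flip {c : Finset GolayPt} (hc : c ∈ supports (golayCode : Set (GolayPt → ZMod 2)))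
    {x : GolayPt → ℤ} (hx : IsLeech x) : IsLeech (flip c x) := by
  have hpar : ∀ i, flip c x i % 2 = x i % 2 := fun i => by unfold flip; split_ifs <;> omega
  refine ⟨fun i => ?_, ?_, ?_⟩
  · rw [hpar, hpar]; exact hx.1 i
  · rw [hpar none]
    have h0 : (∑ i, flip c x i) = (∑ i, x i) - 2 * ∑ i ∈ c, x i := by
      have : ∀ i, flip c x i = x i - 2 * (if i ∈ c then x i else 0) := fun i => by
        unfold flip; split_ifs <;> ring
      simp only [this, Finset.sum_sub_distrib, ← Finset.mul_sum, Finset.sum_ite_mem, Finset.univ_inter]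
    -- the partial sum over a codeword is divisible by 4
    have h4 : (4 : ℤ) ∣ ∑ i ∈ c, x i := by
      have hmod : ∀ i ∈ c, x i ≡ x none % 2 + 2 * (if i ∈ support₂ (wbit x) then 1 else 0) [ZMOD 4] := by
        intro i _
        have := hx.1 i
        have e : i ∈ support₂ (wbit x) ↔ x i / 2 % 2 = 1 := by
          simp [support₂, wbit_ne_zero_iff]
        unfold Int.ModEq
        split_ifs with h
        · have := e.mp h; omega
        · have h' : ¬ (x i / 2 % 2 = 1) := fun hh => h (e.mpr hh)
          omega
      have hsum := Int.ModEq.sum hmod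
      rw [Finset.sum_add_distrib, Finset.sum_const, ← Finset.mul_sum, Finset.sum_boole,
        Finset.filter_mem_eq_inter] at hsum
      obtain ⟨a, ha⟩ := four_dvd_card hc
      obtain ⟨b, hb⟩ := even_card_inter hc (mem_supports_golay.mpr hx.2.2)
      rw [ha, hb, nsmul_eq_mul] at hsum
      push_cast at hsum
      rw [show (4 * (a : ℤ) * (x none % 2) + 2 * ((b : ℤ) + b)) = 4 * ((a : ℤ) * (x none % 2) + b) by ring] at hsum
      unfold Int.ModEq at hsum
      omega
    have := hx.2.1
    rw [h0]
    omega
  · have key : wbit (flip c x) = wbit x + (if x none % 2 = 1 then (fun i => if i ∈ c then 1 else 0) else 0) := by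
      funext i
      have := hx.1 i
      have hneg : ∀ z : ZMod 2, -z = z := by decide
      by_cases h : x none % 2 = 1
      · simp only [if_pos h, Pi.add_apply, wbit, flip]
        split_ifs with hi
        · rw [show -x i / 2 = -(x i / 2 + 1) by omega]
          push_cast; exact hneg _
        · rw [add_zero]
      · simp only [if_neg h, Pi.add_apply, Pi.zero_apply, wbit, flip, add_zero]
        split_ifs with hi
        · rw [show -x i / 2 = -(x i / 2) by omega]
          push_cast; exact hneg _
        · rfl
    rw [key]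
    refine add_mem hx.2.2 ?_
    split_ifs
    · obtain ⟨v, hv, rfl⟩ := hc
      suffices h : (fun i => if i ∈ support₂ v then (1 : ZMod 2) else 0) = v by rw [h]; exact hv
      funext i
      have hz : ∀ z : ZMod 2, (if z ≠ 0 then (1 : ZMod 2) else 0) = z := by decide
      simpa [support₂] using hz (v i)
    · exact zero_mem _

theorem isLeech_perm {σ : Equiv.Perm GolayPt} (hσ : σ ∈ M24) {x : GolayPt → ℤ} (hx : IsLeech x) :
    IsLeech (fun i => x (σ i)) := by
  refine ⟨fun i => ?_, ?_, ?_⟩
  · rw [hx.1 (σ i), hx.1 (σ none)]
  · rw [Equiv.sum_comp σ x, hx.1 (σ none)]; exact hx.2.1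
  · rw [← mem_supports_golay]
    have : support₂ (wbit fun i => x (σ i)) = σ⁻¹ • support₂ (wbit x) := by
      ext i
      rw [Finset.mem_inv_smul_finset_iff, Equiv.Perm.smul_def, support₂, support₂, Finset.mem_filter,
        Finset.mem_filter]
      simp [wbit]
    rw [this]
    exact GolayPerm.smul_mem_supports (inv_mem hσ) (mem_supports_golay.mpr hx.2.2)

theorem isLeech_signedPerm {σ : Equiv.Perm GolayPt} (hσ : σ ∈ M24) {c : Finset GolayPt}
    (hc : c ∈ supports (golayCode : Set (GolayPt → ZMod 2))) {x : GolayPt → ℤ} (hx : IsLeech x) :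
    IsLeech (signedPerm σ c x) :=
  isLeech_flip hc (isLeech_perm (inv_mem hσ) hx)

/-! ### evenness -/

theorem sixteen_dvd_sqNorm {x : GolayPt → ℤ} (hx : IsLeech x) : (16 : ℤ) ∣ sqNorm x := by
  set m := x none % 2 with hm
  -- x i = m + 2 c i + 4 y i
  have hdec : ∀ i, x i = m + 2 * (if i ∈ support₂ (wbit x) then 1 else 0) + 4 * (x i / 4) := by
    intro i
    have := hx.1 i
    have e : i ∈ support₂ (wbit x) ↔ x i / 2 % 2 = 1 := by simp [support₂, wbit_ne_zero_iff]
    split_ifs with h
    · have := e.mp h; omega
    · have h' : ¬ (x i / 2 % 2 = 1) := fun hh => h (e.mpr hh)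
      omega
  obtain ⟨a, ha⟩ := four_dvd_card (mem_supports_golay.mpr hx.2.2)
  have hsum := hx.2.1
  rw [← hm] at hsum
  have hc24 : ((Finset.univ : Finset GolayPt).card : ℤ) = 24 := by rw [card_univ_pt]; rfl
  have h1 : (∑ i, x i) = 24 * m + 2 * ((support₂ (wbit x)).card : ℤ) + 4 * ∑ i, x i / 4 := by
    rw [Finset.sum_congr rfl fun i _ => hdec i, Finset.sum_add_distrib, Finset.sum_add_distrib,
      Finset.sum_const, ← Finset.mul_sum, ← Finset.mul_sum, Finset.sum_boole, Finset.filter_mem_eq_inter,
      Finset.univ_inter, nsmul_eq_mul, hc24]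
  set c : GolayPt → ℤ := fun i => if i ∈ support₂ (wbit x) then 1 else 0 with hc
  have hsq : ∀ i, x i ^ 2 =
      m ^ 2 + (4 * m + 4) * c i + 8 * m * (x i / 4) + 16 * (c i * (x i / 4) + (x i / 4) ^ 2) := by
    intro i
    have h : x i = m + 2 * c i + 4 * (x i / 4) := hdec i
    have hcc : c i * c i = c i := by simp only [hc]; split_ifs <;> norm_num
    generalize hy : x i / 4 = y at h ⊢
    rw [h]
    linear_combination 4 * hcc
  have h2 : sqNorm x = 24 * m ^ 2 + (4 * m + 4) * ((support₂ (wbit x)).card : ℤ)
      + 8 * m * (∑ i, x i / 4) + 16 * ∑ i, (c i * (x i / 4) + (x i / 4) ^ 2) := by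
    rw [sqNorm, Finset.sum_congr rfl fun i _ => hsq i, Finset.sum_add_distrib, Finset.sum_add_distrib,
      Finset.sum_add_distrib, Finset.sum_const, ← Finset.mul_sum, ← Finset.mul_sum, ← Finset.mul_sum,
      nsmul_eq_mul, hc24]
    simp only [hc, Finset.sum_boole, Finset.filter_mem_eq_inter, Finset.univ_inter]
  rw [h2]
  rw [ha] at h1 ⊢
  rcases (show m = 0 ∨ m = 1 by omega) with hm0 | hm1
  · rw [hm0]; push_cast; omega
  · rw [hm1] at hsum h1 ⊢; push_cast; push_cast at h1; omega

theorem thirtytwo_le_sqNorm {x : GolayPt → ℤ} (hx : IsLeech x) (h0 : x ≠ 0) : 32 ≤ sqNorm x := by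
  have h16 := sixteen_dvd_sqNorm hx
  have hnn : ∀ i, (0 : ℤ) ≤ x i ^ 2 := fun i => sq_nonneg _
  have key : 16 < sqNorm x := by
    by_cases hm : x none % 2 = 1
    · -- all coordinates odd
      have h1 : ∀ i ∈ Finset.univ, (1 : ℤ) ≤ x i ^ 2 := fun i _ => by
        have := hx.1 i
        have : x i ≠ 0 := by omega
        nlinarith [Int.one_le_abs this, sq_abs (x i), abs_nonneg (x i)]
      have := Finset.sum_le_sum h1
      rw [Finset.sum_const, card_univ_pt] at this
      rw [nsmul_eq_mul] at this
      push_cast at this
      simp only [sqNorm]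
      linarith
    · by_cases hw : wbit x = 0
      · -- all coordinates divisible by four, with an even number of fours
        have h4 : ∀ i, x i % 4 = 0 := fun i => by
          have := hx.1 i
          have : ¬ (x i / 2 % 2 = 1) := fun h => (wbit_ne_zero_iff x i).mpr h (by rw [hw]; rfl)
          omega
        obtain ⟨i, hi⟩ := Function.ne_iff.mp h0
        simp only [Pi.zero_apply] at hi
        by_cases hj : ∃ j, j ≠ i ∧ x j ≠ 0
        · obtain ⟨j, hji, hj⟩ := hj
          have h2 : ∑ k ∈ ({i, j} : Finset GolayPt), x k ^ 2 ≤ sqNorm x :=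
            Finset.sum_le_sum_of_subset_of_nonneg (Finset.subset_univ _) fun k _ _ => hnn k
          rw [Finset.sum_pair hji.symm] at h2
          have sq16 : ∀ k, x k ≠ 0 → 16 ≤ x k ^ 2 := fun k hk => by
            have := h4 k
            rcases lt_or_gt_of_ne hk with h | h
            · nlinarith [show x k ≤ -4 by omega]
            · nlinarith [show 4 ≤ x k by omega]
          have := sq16 i hi; have := sq16 j hj
          omega
        · push Not at hj
          have hs : ∑ k, x k = x i := Finset.sum_eq_single i (fun k _ hk => hj k hk) (by simp)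
          have := hx.2.1
          rw [hs] at this
          have h2 : x i ^ 2 ≤ sqNorm x :=
            Finset.single_le_sum (fun k _ => hnn k) (Finset.mem_univ i)
          have := h4 i
          rcases lt_or_gt_of_ne hi with h | h
          · nlinarith [show x i ≤ -8 by omega]
          · nlinarith [show 8 ≤ x i by omega]
      · have hne : support₂ (wbit x) ≠ ∅ := fun h => hw (support₂_inj (h.trans (by
          ext i; simp [support₂])))
        have hcard : 8 ≤ (support₂ (wbit x)).card := by
          rcases card_support_cases (mem_supports_golay.mpr hx.2.2) with h | h | h | h | h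
          · exact absurd h hne
          all_goals omega
        have h2 : ∑ k ∈ support₂ (wbit x), (4 : ℤ) ≤ sqNorm x := by
          refine le_trans (Finset.sum_le_sum fun k hk => ?_)
            (Finset.sum_le_sum_of_subset_of_nonneg (Finset.subset_univ _) fun k _ _ => hnn k)
          have hk' : x k / 2 % 2 = 1 := (wbit_ne_zero_iff x k).mp (by simpa [support₂] using hk)
          have := hx.1 k
          rcases le_total (x k) 0 with h | h
          · nlinarith [show x k ≤ -2 by omega]
          · nlinarith [show 2 ≤ x k by omega]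
        rw [Finset.sum_const, nsmul_eq_mul] at h2
        have h8 : (8 : ℤ) ≤ ((support₂ (wbit x)).card : ℤ) := by exact_mod_cast hcard
        linarith
  omega

end Cfsg.Agent.LeechBasic
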