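import Cfsg.Agent.Lib.LeechXi
import Cfsg.Agent.Lib.GolaySteiner

/-!
The stabiliser of the standard cross is the monomial group.
-/

set_option autoImplicit false

open scoped Pointwise

namespace Cfsg.Agent.LeechMonomial

open Cfsg Cfsg.Agent.GolayBasic Cfsg.Agent.LeechBasic Cfsg.Agent.LeechAut Cfsg.Agent.LeechXi

theorem unitVec_eq_single (n : ℤ) (i : GolayPt) : unitVec n i = Pi.single i n := by
  funext j; simp [unitVec, Pi.single_apply]

/-- Automorphisms mapping the standard cross into itself. -/
def MapsStd (g : Co0) : Prop :=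
  ∀ v : leechLattice, (v : GolayPt → ℤ) ∈ stdCross → ((g • v : leechLattice) : GolayPt → ℤ) ∈ stdCross

theorem exists_signedPerm_image {g : Co0} (hg : MapsStd g) :
    ∃ (π : Equiv.Perm GolayPt) (c : Finset GolayPt),
      ∀ v : leechLattice, ((g • v : leechLattice) : GolayPt → ℤ) = signedPerm π c v := by
  classical
  have h : ∀ i, ∃ (j : GolayPt) (s : ℤ), (s = 8 ∨ s = -8) ∧
      ((g • frame i : leechLattice) : GolayPt → ℤ) = unitVec s j := by
    intro i
    obtain ⟨j, s, hs, he⟩ := hg (frame i) ⟨i, 8, Or.inl rfl, unitVec_eq_single 8 i⟩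
    exact ⟨j, s, hs, he.trans (unitVec_eq_single s j).symm⟩
  choose p s hs hgf using h
  have hinj : Function.Injective p := by
    intro i i' hii
    by_contra hne
    have := dotInt_smul g (frame i) (frame i')
    rw [hgf, hgf, hii, dotInt_unitVec] at this
    have h0 : dotInt (frame i : GolayPt → ℤ) (frame i' : GolayPt → ℤ) = 0 := by
      show dotInt (unitVec 8 i) (unitVec 8 i') = 0
      rw [dotInt_unitVec]
      simp [unitVec, Ne.symm hne]
    rw [h0] at this
    simp [unitVec] at this
    rcases hs i with h1 | h1 <;> rcases hs i' with h2 | h2 <;> rw [h1, h2] at this <;> norm_num at this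
  let π : Equiv.Perm GolayPt := Equiv.ofBijective p (Finite.injective_iff_bijective.mp hinj)
  let c : Finset GolayPt := Finset.univ.filter fun j => s (π.symm j) = -8
  refine ⟨π, c, fun v => ?_⟩
  funext j
  have h8 := eight_mul_coe_smul g v j
  simp only [hgf, unitVec, mul_ite, mul_zero] at h8
  have hπ : ∀ i, (j = p i) = (i = π.symm j) := fun i => by
    refine propext ⟨fun hh => ?_, fun hh => ?_⟩
    · rw [hh]; exact (Equiv.symm_apply_apply π i).symm
    · rw [hh]; exact (Equiv.apply_symm_apply π j).symm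
  simp only [hπ, Finset.sum_ite_eq', Finset.mem_univ, if_true] at h8
  simp only [signedPerm, c, Finset.mem_filter, Finset.mem_univ, true_and]
  rcases hs (π.symm j) with h1 | h1 <;> rw [h1] at h8 ⊢ <;> norm_num <;> omega

theorem wbit_twoMask (b : ℕ) : wbit (twoMask b) = word b := by
  funext p
  rw [word_apply, wbit]
  simp only [twoMask]
  split_ifs <;> rfl

theorem mapsStd_iff {g : Co0} :
    MapsStd g ↔ ∃ (σ : Equiv.Perm GolayPt) (hσ : σ ∈ M24) (c : Finset GolayPt)
      (hc : c ∈ supports (golayCode : Set (GolayPt → ZMod 2))), g = monomial σ hσ c hc := by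
  constructor
  · intro hg
    obtain ⟨π, c, hgc⟩ := exists_signedPerm_image hg
    have hπ : π ∈ M24 := by
      refine GolayPerm.mem_M24_of_rows fun b hb => ?_
      have hm : signedPerm π c (twoMask b) ∈ leechLattice := by
        rw [← hgc ⟨twoMask b, twoMask_mem hb⟩]; exact Subtype.coe_prop _
      have hw := mem_supports_golay.mpr (mem_leechLattice.mp hm).2.2
      have he : support₂ (wbit (signedPerm π c (twoMask b))) = π • mset b := by
        ext j
        rw [← Finset.inv_smul_mem_iff, Equiv.Perm.smul_def, mem_mset, Equiv.Perm.inv_def]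
        simp only [support₂, Finset.mem_filter, Finset.mem_univ, true_and, wbit_ne_zero_iff, signedPerm, twoMask]
        split_ifs <;> simp [*]
      rwa [he] at hw
    have hc : c ∈ supports (golayCode : Set (GolayPt → ZMod 2)) := by
      have h1 : signedPerm π c oddVec ∈ leechLattice := by
        rw [← hgc ⟨oddVec, oddVec_mem⟩]; exact Subtype.coe_prop _
      have h2 : signedPerm π ∅ oddVec ∈ leechLattice :=
        mem_leechLattice.mpr (isLeech_signedPerm hπ empty_mem_supports (mem_leechLattice.mp oddVec_mem))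
      have key : wbit (signedPerm π c oddVec) =
          wbit (signedPerm π ∅ oddVec) + fun j => if j ∈ c then 1 else 0 := by
        funext j
        have hodd : oddVec (π.symm j) % 2 = 1 := by unfold oddVec; split_ifs <;> rfl
        have hneg : ∀ z : ZMod 2, -z = z := by decide
        simp only [Pi.add_apply, wbit, signedPerm, Finset.notMem_empty, if_false]
        split_ifs with hj
        · rw [show -oddVec (π.symm j) / 2 = -(oddVec (π.symm j) / 2 + 1) by omega]
          push_cast; exact hneg _
        · rw [add_zero]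
      have := (sub_mem (mem_leechLattice.mp h1).2.2 (mem_leechLattice.mp h2).2.2)
      rw [key, add_sub_cancel_left] at this
      refine ⟨_, this, ?_⟩
      ext j; simp [support₂]
    refine ⟨π, hπ, c, hc, ext_frame fun i => Subtype.ext ?_⟩
    rw [hgc, coe_monomial_smul]
  · rintro ⟨σ, hσ, c, hc, rfl⟩ v ⟨i, s, hs, hv⟩
    rw [coe_monomial_smul, hv]
    refine ⟨σ i, if σ i ∈ c then -s else s, ?_, ?_⟩
    · split_ifs <;> omega
    · funext j
      simp only [signedPerm, Pi.single_apply]
      by_cases hj : j = σ i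
      · subst hj; simp
      · have hj' : σ.symm j ≠ i := fun hh => hj (by rw [← hh, Equiv.apply_symm_apply])
        simp [hj, hj']

theorem mem_golayMonomialMaps {g : Co0} (hg : MapsStd g) :
    ∃ f ∈ golayMonomialMaps, ∀ v : leechLattice, ((g • v : leechLattice) : GolayPt → ℤ) = f (v : GolayPt → ℤ) := by
  obtain ⟨σ, hσ, c, hc, rfl⟩ := mapsStd_iff.mp hg
  exact ⟨signedPerm σ c, ⟨σ, hσ, c, hc, rfl⟩, fun v => coe_monomial_smul hσ hc v⟩

theorem monomial_injective {σ τ : Equiv.Perm GolayPt} {c d : Finset GolayPt} (hσ : σ ∈ M24) (hτ : τ ∈ M24)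
    (hc : c ∈ supports (golayCode : Set (GolayPt → ZMod 2))) (hd : d ∈ supports (golayCode : Set (GolayPt → ZMod 2)))
    (h : monomial σ hσ c hc = monomial τ hτ d hd) : σ = τ ∧ c = d := by
  have key : ∀ i j, signedPerm σ c (unitVec 8 i) j = signedPerm τ d (unitVec 8 i) j := fun i j => by
    have := congrArg (fun x : leechLattice => (x : GolayPt → ℤ) j)
      (congrArg (fun g : Co0 => g • frame i) h)
    simpa [coe_monomial_smul, frame] using this
  have h1 : σ = τ := by
    ext i : 1
    have := key i (σ i)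
    simp only [signedPerm, unitVec, Equiv.symm_apply_apply, if_true] at this
    by_contra hne
    have hne' : τ.symm (σ i) ≠ i := fun hh => hne (by conv_rhs => rw [← hh, Equiv.apply_symm_apply])
    rw [if_neg hne'] at this
    split_ifs at this <;> omega
  subst h1
  refine ⟨rfl, ?_⟩
  ext j
  have := key (σ.symm j) j
  simp only [signedPerm, unitVec, if_true] at this
  by_cases hc' : j ∈ c <;> by_cases hd' : j ∈ d <;> simp [hc', hd'] at this ⊢

theorem card_mapsStd : Nat.card {g : Co0 // MapsStd g} = 4096 * 244823040 := by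
  let f : supports (golayCode : Set (GolayPt → ZMod 2)) × M24 → {g : Co0 // MapsStd g} := fun q =>
    ⟨monomial q.2.1 q.2.2 q.1.1 q.1.2, mapsStd_iff.mpr ⟨_, _, _, _, rfl⟩⟩
  have hf : Function.Bijective f := by
    constructor
    · rintro ⟨⟨c, hc⟩, ⟨σ, hσ⟩⟩ ⟨⟨d, hd⟩, ⟨τ, hτ⟩⟩ h
      obtain ⟨rfl, rfl⟩ := monomial_injective hσ hτ hc hd (congrArg Subtype.val h)
      rfl
    · rintro ⟨g, hg⟩
      obtain ⟨σ, hσ, c, hc, rfl⟩ := mapsStd_iff.mp hg
      exact ⟨(⟨c, hc⟩, ⟨σ, hσ⟩), rfl⟩
  rw [← Nat.card_eq_of_bijective f hf, Nat.card_prod, GolayM24.card_M24, Nat.card_coe_set_eq]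
  congr 1
  show (support₂ '' (golayCode : Set (GolayPt → ZMod 2))).ncard = 4096
  rw [Set.InjOn.ncard_image (fun v _ w _ h => support₂_inj h), ← Nat.card_coe_set_eq]
  exact card_golayCode

end Cfsg.Agent.LeechMonomial
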