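import Cfsg.Agent.Lib.LeechOrbitData
import Cfsg.Agent.Lib.LeechMonomial
import Cfsg.Agent.Lib.LeechCount

/-!
Transitivity of the automorphism group on lattice vectors of norm 32, 48 and 64.

A vector is moved by monomial maps to a finite list of normal forms; for each of these a
kernel-checked word in monomial maps and `xi` leads to the target.
-/

set_option autoImplicit false

open scoped Pointwise

namespace Cfsg.Agent.LeechOrbit

open Cfsg Cfsg.Agent.GolayBasic Cfsg.Agent.LeechBasic Cfsg.Agent.LeechAut Cfsg.Agent.LeechXi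
open Cfsg.Agent.LeechOrbitData (Step Entry perms)
open Cfsg.Agent.GolayPerm (pimg pts mem_pts good permOf permOf_mem_M24 permOf_apply valid_of_good pfun pimg_lt)

/-! ### encoded vectors -/

/-- A coordinate of an encoded vector. -/
def dig (n i : ℕ) : ℤ := (((n >>> (5 * i)) &&& 31 : ℕ) : ℤ) - 16

/-- An encoded vector. -/
def vec (n : ℕ) : GolayPt → ℤ := fun p => dig n (idx p)

theorem vec_pt (n : ℕ) {i : ℕ} (hi : i < 24) : vec n (pt i) = dig n i := by rw [vec, idx_pt hi]

/-- `u` is the vector with code `n`, up to the group. -/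
def Reaches (tgt : GolayPt → ℤ) (u : GolayPt → ℤ) : Prop :=
  u ∈ leechLattice → ∃ g : Co0, ∀ v : leechLattice, (v : GolayPt → ℤ) = u →
    ((g • v : leechLattice) : GolayPt → ℤ) = tgt

theorem reaches_of_map {tgt u w : GolayPt → ℤ} (g : Co0)
    (hg : ∀ v : leechLattice, (v : GolayPt → ℤ) = u → ((g • v : leechLattice) : GolayPt → ℤ) = w)
    (h : Reaches tgt w) : Reaches tgt u := by
  intro hu
  have hw : w ∈ leechLattice := hg ⟨u, hu⟩ rfl ▸ Subtype.coe_prop _
  obtain ⟨k, hk⟩ := h hw
  exact ⟨k * g, fun v hv => by rw [mul_smul]; exact hk _ (hg v hv)⟩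

/-! ### checking steps -/

/-- The six tetrads with their signs. -/
def tetTable : List (ℤ × ℕ × ℕ × ℕ × ℕ) :=
  [(-1, 0, 1, 2, 3), (1, 13, 18, 20, 21), (1, 5, 14, 17, 23), (1, 8, 15, 16, 19), (1, 4, 7, 10, 12),
    (1, 6, 9, 11, 22)]

theorem tetTable_spec : ∀ p : GolayPt, ∃ q ∈ tetTable,
    idx p ∈ [q.2.1, q.2.2.1, q.2.2.2.1, q.2.2.2.2] ∧
    q.1 = (if tet p = 0 then -1 else 1) ∧ [q.2.1, q.2.2.1, q.2.2.2.1, q.2.2.2.2].Nodup ∧
    (Finset.univ.filter fun r => tet r = tet p) =
      ([pt q.2.1, pt q.2.2.1, pt q.2.2.2.1, pt q.2.2.2.2].toFinset) ∧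
    [pt q.2.1, pt q.2.2.1, pt q.2.2.2.1, pt q.2.2.2.2].Nodup := by
  decide +kernel

/-- `w` is the image of `u` under the non-monomial map. -/
def xiOK (u w : ℕ) : Bool :=
  tetTable.all fun q =>
    let h := (dig u q.2.1 + dig u q.2.2.1 + dig u q.2.2.2.1 + dig u q.2.2.2.2) / 2
    [q.2.1, q.2.2.1, q.2.2.2.1, q.2.2.2.2].all fun i => dig w i == q.1 * (dig u i - h)

theorem vec_xiOK {u w : ℕ} (h : xiOK u w = true) : xiFun (vec u) = vec w := by
  funext p
  obtain ⟨q, hq, hmem, hsgn, -, hset, hnd⟩ := tetTable_spec p
  have h1 := List.all_eq_true.1 (List.all_eq_true.1 h q hq) (idx p) hmem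
  rw [beq_iff_eq] at h1
  show _ = dig w (idx p)
  rw [h1, hsgn, xiFun, tetSum, hset, List.sum_toFinset _ hnd]
  have hlt : ∀ i ∈ tetTable, i.2.1 < 24 ∧ i.2.2.1 < 24 ∧ i.2.2.2.1 < 24 ∧ i.2.2.2.2 < 24 := by decide
  obtain ⟨l1, l2, l3, l4⟩ := hlt q hq
  simp only [List.map_cons, List.map_nil, List.sum_cons, List.sum_nil, vec_pt _ l1, vec_pt _ l2,
    vec_pt _ l3, vec_pt _ l4]
  simp only [vec]
  ring_nf

/-- `w` is the image of `u` under a monomial map. -/
def monoOK (P m u w : ℕ) : Bool :=
  inCode m && pts.all fun i => dig w (pimg P i) == if m.testBit (pimg P i) then -dig u i else dig u i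

theorem vec_monoOK {P m u w : ℕ} (hP : good P = true) (h : monoOK P m u w = true) :
    signedPerm (permOf P) (mset m) (vec u) = vec w := by
  simp only [monoOK, Bool.and_eq_true, List.all_eq_true, beq_iff_eq] at h
  funext q
  obtain ⟨p, rfl⟩ := (permOf P).surjective q
  simp only [signedPerm, Equiv.symm_apply_apply, mem_mset]
  have hv := valid_of_good hP
  have he : idx (permOf P p) = pimg P (idx p) := by
    rw [permOf_apply hv, pfun, idx_pt (pimg_lt hv (idx_lt p))]
  show _ = dig w (idx (permOf P p))
  rw [he, h.2 (idx p) (mem_pts.2 (idx_lt p))]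
  rfl

/-- Check a word of steps from `u` to `tgt`. -/
def stepsOK (tgt : ℕ) : ℕ → List Step → Bool
  | u, [] => u == tgt
  | u, (j, m, w) :: rest =>
    (if j = 0 then xiOK u w else monoOK (perms.getD (j - 1) 0) m u w && decide (j ≤ perms.length)) &&
      stepsOK tgt w rest

theorem perms_good : perms.all good = true := by decide +kernel

theorem reaches_of_stepsOK (tgt : ℕ) : ∀ (st : List Step) (u : ℕ), stepsOK tgt u st = true →
    Reaches (vec tgt) (vec u) := by
  intro st
  induction st with
  | nil =>
    intro u h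
    simp only [stepsOK, beq_iff_eq] at h
    subst h
    exact fun _ => ⟨1, fun v hv => by rw [one_smul, hv]⟩
  | cons s rest ih =>
    obtain ⟨j, m, w⟩ := s
    intro u h
    simp only [stepsOK, Bool.and_eq_true] at h
    obtain ⟨h1, h2⟩ := h
    by_cases hj : j = 0
    · rw [if_pos hj] at h1
      exact reaches_of_map xi (fun v hv => by rw [coe_xi_smul, hv, vec_xiOK h1]) (ih w h2)
    · rw [if_neg hj, Bool.and_eq_true] at h1
      obtain ⟨h1, hlen⟩ := h1
      have hP : good (perms.getD (j - 1) 0) = true := by
        have hlt : j - 1 < perms.length := by have := of_decide_eq_true hlen; omega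
        rw [List.getD_eq_getElem _ _ hlt]
        exact List.all_eq_true.1 perms_good _ (List.getElem_mem hlt)
      have hm : inCode m = true := by
        simp only [monoOK, Bool.and_eq_true] at h1; exact h1.1
      refine reaches_of_map (monomial _ (permOf_mem_M24 hP) (mset m) ((mset_mem_supports (inCode_lt hm)).2 hm))
        (fun v hv => ?_) (ih w h2)
      rw [coe_monomial_smul, hv, vec_monoOK hP h1]

/-! ### enumeration of normal forms -/

/-- Least possible norm. -/
def minCost : List (List ℕ) → ℕ
  | [] => 0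
  | o :: os => o.headD 0 * o.headD 0 + minCost os

/-- All lists of natural numbers with given options and norm. -/
def enum : List (List ℕ) → ℕ → List (List ℕ)
  | [], b => if b = 0 then [[]] else []
  | o :: os, b => o.flatMap fun v =>
      if v * v + minCost os ≤ b then (enum os (b - v * v)).map (fun r => v :: r) else []

/-- The first option is the least. -/
def headLeast (os : List (List ℕ)) : Bool := os.all fun o => o.all fun v => decide (o.headD 0 ≤ v)

theorem minCost_le {os : List (List ℕ)} (ho : headLeast os = true) {l : List ℕ}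
    (hl : List.Forall₂ (fun v o => v ∈ o) l os) : minCost os ≤ (l.map fun v => v * v).sum := by
  induction hl with
  | nil => simp [minCost]
  | @cons v o l os hv _ ih =>
    simp only [headLeast, List.all_cons, Bool.and_eq_true] at ho
    have h1 : o.headD 0 ≤ v := of_decide_eq_true (List.all_eq_true.1 ho.1 v hv)
    have h2 := ih (by simpa [headLeast] using ho.2)
    have h3 := Nat.mul_le_mul h1 h1
    simp only [minCost, List.map_cons, List.sum_cons]
    omega

theorem mem_enum {os : List (List ℕ)} (ho : headLeast os = true) {l : List ℕ}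
    (hl : List.Forall₂ (fun v o => v ∈ o) l os) : l ∈ enum os (l.map fun v => v * v).sum := by
  induction hl with
  | nil => simp [enum]
  | @cons v o l os hv hl ih =>
    simp only [headLeast, List.all_cons, Bool.and_eq_true] at ho
    have ho2 : headLeast os = true := by simpa [headLeast] using ho.2
    have h2 := minCost_le ho2 hl
    simp only [enum, List.mem_flatMap, List.map_cons, List.sum_cons]
    refine ⟨v, hv, ?_⟩
    rw [if_pos (by omega), List.mem_map]
    exact ⟨l, by rw [Nat.add_sub_cancel_left]; exact ih ho2, rfl⟩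

/-- The list of absolute values of an encoded vector. -/
def absList (n : ℕ) : List ℕ := pts.map fun i => (dig n i).natAbs

/-- The coordinate sum of an encoded vector. -/
def digSum (n : ℕ) : ℤ := (pts.map fun i => dig n i).sum

theorem digSum_eq (n : ℕ) : digSum n = ∑ p, vec n p := by
  rw [digSum, show pts = List.range 24 from rfl, ← List.sum_toFinset _ List.nodup_range,
    List.toFinset_range, Finset.sum_range]
  exact (Finset.sum_equiv idxEquiv (fun _ => by simp) fun p _ => rfl).symm

/-! ### even vectors -/

/-- Options for the absolute values of an even vector with class `c`. -/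
def evenOpts (c : ℕ) : List (List ℕ) :=
  pts.map fun i => if c.testBit i then [2, 6] else if c = 0 ∧ 5 ≤ i then [0] else [0, 4, 8]

/-- A sign pattern is realised by a codeword up to a variant. -/
def signOK (wit : List ℕ) (K : List ℕ) (supp b : ℕ) : Bool :=
  wit.any fun q => inCode q && K.contains ((q &&& supp) ^^^ b)

/-- Check an entry for an even class. -/
def evenEntryOK (c tgt : ℕ) (e : Entry) : Bool :=
  let a := e.1; let r := e.2.1; let wit := e.2.2.1; let vs := e.2.2.2
  if c = 0 ∧ digSum a % 8 ≠ 0 then true else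
    let supp := (pts.map fun i => if dig a i == 0 then 0 else 1 <<< i).sum
    let K := vs.map fun v => v.1
    let f := ((pts.filter fun i => c.testBit i).headD 0)
    pts.all (fun i => (dig r i).natAbs == (dig a i).natAbs && (supp.testBit i == (dig a i != 0))) &&
      (digSum r % 8 == 0) &&
      K.contains 0 && K.all (fun j => K.all fun k => K.contains (j ^^^ k)) &&
      pts.all (fun i => !supp.testBit i || if c.testBit i then i == f || signOK wit K supp ((1 <<< i) ||| (1 <<< f))
        else signOK wit K supp (1 <<< i)) &&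
      pts.all (fun i => !c.testBit i || supp.testBit i) &&
      (c == 0 || c.testBit f && decide (f < 24)) &&
      vs.all (fun v => stepsOK tgt v.2.1 v.2.2 &&
        pts.all fun i => dig v.2.1 i == if v.1.testBit i then -dig r i else dig r i)

/-- Check the list of entries for an even class and a norm. -/
def evenOK (N c tgt : ℕ) (es : List Entry) : Bool :=
  headLeast (evenOpts c) && ((enum (evenOpts c) N) == es.map fun e => absList e.1) &&
    es.all (evenEntryOK c tgt)

theorem sign_flip {y r : ℤ} {q k : Bool} (habs : r.natAbs = y.natAbs)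
    (h : (q = true ∧ y ≠ 0) ↔ ((y ≠ r ∧ ¬ k = true) ∨ (k = true ∧ ¬ y ≠ r))) :
    (if q = true then -y else y) = (if k = true then -r else r) := by
  by_cases hy : y = 0
  · split_ifs <;> omega
  · cases q <;> cases k <;> simp [hy] at h ⊢ <;> omega

/-- A set of sign changes that a codeword realises on the support, up to a variant. -/
def Good (K : List ℕ) (supp : ℕ) (S : Finset GolayPt) : Prop :=
  ∃ q, inCode q = true ∧ ∃ k ∈ K, mset q ∩ mset supp = symmDiff S (mset k)

theorem good_empty {K : List ℕ} {supp : ℕ} (h : 0 ∈ K) : Good K supp ∅ :=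
  ⟨0, by decide +kernel, 0, h, by rw [mset_zero]; simp⟩

theorem good_symmDiff {K : List ℕ} {supp : ℕ} (hK : ∀ j ∈ K, ∀ k ∈ K, j ^^^ k ∈ K) {S T : Finset GolayPt}
    (hS : Good K supp S) (hT : Good K supp T) : Good K supp (symmDiff S T) := by
  obtain ⟨q, hq, k, hk, hqk⟩ := hS
  obtain ⟨q', hq', k', hk', hqk'⟩ := hT
  refine ⟨q ^^^ q', inCode_xor hq hq', k ^^^ k', hK k hk k' hk', ?_⟩
  rw [mset_xor, mset_xor]
  ext p
  have e1 := Finset.ext_iff.mp hqk p
  have e2 := Finset.ext_iff.mp hqk' p
  simp only [Finset.mem_inter, Finset.mem_symmDiff] at e1 e2 ⊢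
  tauto

theorem good_of_signOK {wit K : List ℕ} {supp b : ℕ} (h : signOK wit K supp b = true) :
    Good K supp (mset b) := by
  simp only [signOK, List.any_eq_true, Bool.and_eq_true] at h
  obtain ⟨q, -, hq, hk⟩ := h
  rw [List.contains_iff_mem] at hk
  refine ⟨q, hq, _, hk, ?_⟩
  rw [← mset_xor, ← mset_and, Nat.xor_comm (q &&& supp) b, ← Nat.xor_assoc, Nat.xor_self, Nat.zero_xor]

variable {P : (GolayPt → ℤ) → Prop}

/-- The vectors with step lists of a list of entries. -/
def listed (es : List Entry) : List (ℕ × List Step) :=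
  es.flatMap fun e => e.2.2.2.map fun v => (v.2.1, v.2.2)

/-- A property that passes back along monomial maps. -/
def MonoInvariant (P : (GolayPt → ℤ) → Prop) : Prop :=
  ∀ (σ : Equiv.Perm GolayPt), σ ∈ M24 → ∀ c ∈ supports (golayCode : Set (GolayPt → ZMod 2)),
    ∀ z : GolayPt → ℤ, P (signedPerm σ c z) → P z

theorem monoInvariant_reaches (tgt : GolayPt → ℤ) : MonoInvariant (Reaches tgt) :=
  fun σ hσ c hc _ h => reaches_of_map (monomial σ hσ c hc) (fun v hv => by rw [coe_monomial_smul, hv]) h

theorem gen_even {N c tgt : ℕ} {es : List Entry} (hP : MonoInvariant P)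
    (hb : ∀ u st, (u, st) ∈ listed es → stepsOK tgt u st = true → P (vec u))
    (hOK : evenOK N c tgt es = true) {y : GolayPt → ℤ}
    (hy : y ∈ leechLattice) (hn : sqNorm y = N) (hN : N ≤ 64) (h0 : y none % 2 = 0)
    (hw : support₂ (wbit y) = mset c) (hc0 : c = 0 → ∀ p, 5 ≤ idx p → y p = 0) : P y := by
  obtain ⟨hpar, hsum8, hcode⟩ := mem_leechLattice.mp hy
  simp only [evenOK, Bool.and_eq_true, beq_iff_eq] at hOK
  obtain ⟨⟨hhead, henum⟩, hes⟩ := hOK
  have hbnd : ∀ p, -8 ≤ y p ∧ y p ≤ 8 := fun p => by
    have := LeechCount.mem_allVals_of_sqNorm (x := y) (by omega) p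
    simp only [LeechCount.allVals, List.mem_cons, List.not_mem_nil, or_false] at this
    omega
  have hcls : ∀ p, c.testBit (idx p) = true ↔ y p / 2 % 2 = 1 := fun p => by
    rw [← mem_mset, ← hw]
    simp [support₂, wbit_ne_zero_iff]
  set l : List ℕ := pts.map fun i => (y (pt i)).natAbs with hl
  have hl1 : List.Forall₂ (fun v o => v ∈ o) l (evenOpts c) := by
    rw [hl, evenOpts, List.forall₂_map_left_iff, List.forall₂_map_right_iff, List.forall₂_same]
    intro i hi
    have hi' := mem_pts.1 hi
    have h1 := hbnd (pt i)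
    have h2 := (hpar (pt i)).trans h0
    have h3 := hcls (pt i)
    rw [idx_pt hi'] at h3
    by_cases hb : c.testBit i = true
    · rw [if_pos hb]
      have := h3.mp hb
      simp only [List.mem_cons, List.not_mem_nil, or_false]
      omega
    · rw [if_neg hb]
      have : ¬ (y (pt i) / 2 % 2 = 1) := fun hh => hb (h3.mpr hh)
      by_cases hc : c = 0 ∧ 5 ≤ i
      · rw [if_pos hc, hc0 hc.1 (pt i) (by rw [idx_pt hi']; exact hc.2)]
        simp
      · rw [if_neg hc]
        simp only [List.mem_cons, List.not_mem_nil, or_false]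
        omega
  have hl2 : (l.map fun v => v * v).sum = N := by
    have : (((l.map fun v => v * v).sum : ℕ) : ℤ) = N := by
      rw [← hn, hl, List.map_map, show pts = List.range 24 from rfl, ← List.sum_toFinset _ List.nodup_range,
        List.toFinset_range, Finset.sum_range, Nat.cast_sum, sqNorm]
      refine (Finset.sum_equiv idxEquiv (fun _ => by simp) fun p _ => ?_).symm
      show y p ^ 2 = (((y (pt (idx p))).natAbs * (y (pt (idx p))).natAbs : ℕ) : ℤ)
      rw [pt_idx]; push_cast; rw [abs_mul_abs_self, pow_two]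
    exact_mod_cast this
  have hmem := mem_enum hhead hl1
  rw [hl2, henum, List.mem_map] at hmem
  obtain ⟨e, he, hea⟩ := hmem
  obtain ⟨a, r, wit, vs⟩ := e
  have hchk := List.all_eq_true.1 hes _ he
  simp only [evenEntryOK] at hchk
  simp only [absList, hl, List.map_inj_left] at hea
  have habs : ∀ p, (dig a (idx p)).natAbs = (y p).natAbs := fun p => by
    have := hea (idx p) (mem_pts.2 (idx_lt p))
    rwa [pt_idx] at this
  by_cases hskip : c = 0 ∧ digSum a % 8 ≠ 0
  · exfalso
    apply hskip.2
    have h4 : ∀ p, y p % 4 = 0 := fun p => by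
      have h2 := (hpar p).trans h0
      have h3 := hcls p
      have hb : ¬ (c.testBit (idx p) = true) := by rw [hskip.1]; simp
      have : ¬ (y p / 2 % 2 = 1) := fun hh => hb (h3.mpr hh)
      omega
    have hmod : ∀ p ∈ (Finset.univ : Finset GolayPt), vec a p ≡ y p [ZMOD 8] := fun p _ => by
      have := habs p; have := h4 p
      unfold Int.ModEq vec
      omega
    have hs := Int.ModEq.sum hmod
    rw [← digSum_eq] at hs
    unfold Int.ModEq at hs
    rw [hs, hsum8, h0]
    rfl
  rw [if_neg hskip] at hchk
  set supp := (pts.map fun i => if dig a i == 0 then 0 else 1 <<< i).sum with hsupp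
  set K := vs.map fun v => v.1 with hK
  set f := ((pts.filter fun i => c.testBit i).headD 0) with hf
  simp only [Bool.and_eq_true, List.all_eq_true, beq_iff_eq, List.contains_iff_mem, Bool.or_eq_true,
    Bool.not_eq_true', decide_eq_true_eq] at hchk
  obtain ⟨⟨⟨⟨⟨⟨⟨hra, hr8⟩, hK0⟩, hKc⟩, hsign⟩, hcs⟩, hcf⟩, hvs⟩ := hchk
  clear_value supp f
  have hs0 : ∀ p, p ∈ mset supp ↔ y p ≠ 0 := fun p => by
    rw [mem_mset, (hra (idx p) (mem_pts.2 (idx_lt p))).2]
    have := habs p
    simp only [bne_iff_ne]
    omega
  have hrabs : ∀ p, (vec r p).natAbs = (y p).natAbs := fun p =>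
    ((hra (idx p) (mem_pts.2 (idx_lt p))).1).trans (habs p)
  -- the positions where the signs differ
  set S : Finset GolayPt := Finset.univ.filter fun p => y p ≠ vec r p with hS
  have hSsupp : ∀ p ∈ S, p ∈ mset supp := fun p hp => by
    rw [hs0]; intro h
    have := hrabs p
    apply (Finset.mem_filter.mp hp).2
    omega
  have hSpar : Even (S ∩ mset c).card := by
    have hd : (∑ p, y p) - ∑ p, vec r p = ∑ p ∈ S, 2 * y p := by
      rw [← Finset.sum_sub_distrib, ← Finset.sum_filter_ne_zero]
      refine Finset.sum_congr ?_ fun p hp => ?_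
      · ext p; simp [hS, sub_ne_zero]
      · have := (Finset.mem_filter.mp hp).2
        have := hrabs p
        omega
    have hmod : ∀ p ∈ S, y p ≡ 2 * (if p ∈ mset c then 1 else 0) [ZMOD 4] := fun p _ => by
      have h2 := (hpar p).trans h0
      unfold Int.ModEq
      split_ifs with h
      · rw [mem_mset] at h; have := (hcls p).mp h; omega
      · have : ¬ (y p / 2 % 2 = 1) := fun hh => h (mem_mset.mpr ((hcls p).mpr hh))
        omega
    have hs := Int.ModEq.sum hmod
    rw [← Finset.mul_sum, Finset.sum_boole, Finset.filter_mem_eq_inter] at hs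
    rw [← Finset.mul_sum, ← digSum_eq] at hd
    rw [Nat.even_iff]
    unfold Int.ModEq at hs
    rw [h0] at hsum8
    omega
  have hfm : ∀ p, p ∈ mset c → f < 24 ∧ pt f ∈ mset c := by
    intro p hp
    rcases hcf with h | h
    · rw [h, mset_zero] at hp; simp at hp
    · exact ⟨h.2, by rw [mem_mset, idx_pt h.2]; exact h.1⟩
  have hone : ∀ p ∈ mset supp, p ∉ mset c → Good K supp {p} := by
    intro p hp hpc
    rcases hsign (idx p) (mem_pts.2 (idx_lt p)) with h | h
    · rw [mem_mset] at hp; rw [hp] at h; simp at h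
    · rw [if_neg (fun hh => hpc (mem_mset.mpr hh))] at h
      have := good_of_signOK h
      rwa [GolayPerm.mset_one_shiftLeft (idx_lt p), pt_idx] at this
  have hpair : ∀ p ∈ mset c, p ≠ pt f → Good K supp {p, pt f} := by
    intro p hp hpf
    obtain ⟨hf24, -⟩ := hfm p hp
    have hb := mem_mset.mp hp
    rcases hsign (idx p) (mem_pts.2 (idx_lt p)) with h | h
    · rcases hcs (idx p) (mem_pts.2 (idx_lt p)) with h' | h'
      · rw [hb] at h'; simp at h'
      · rw [h'] at h; simp at h
    · rw [if_pos hb, Bool.or_eq_true, beq_iff_eq] at h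
      rcases h with h | h
      · exact absurd (by rw [← h, pt_idx]) hpf
      · have := good_of_signOK h
        rw [mset_or, GolayPerm.mset_one_shiftLeft (idx_lt p), GolayPerm.mset_one_shiftLeft hf24, pt_idx] at this
        exact this
  have hgood : ∀ n (T : Finset GolayPt), T.card = n → (∀ p ∈ T, p ∈ mset supp) → Even (T ∩ mset c).card →
      Good K supp T := by
    intro n
    induction n using Nat.strong_induction_on with
    | _ n ih =>
      intro T hT hTs hTe
      rcases (T \ mset c).eq_empty_or_nonempty with hd | ⟨p, hp⟩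
      · rcases T.eq_empty_or_nonempty with h | ⟨p, hp⟩
        · rw [h]; exact good_empty hK0
        have hTc : T ⊆ mset c := Finset.sdiff_eq_empty_iff_subset.mp hd
        rw [Finset.inter_eq_left.mpr hTc, hT] at hTe
        obtain ⟨k, hk⟩ := hTe
        have hpos := Finset.card_pos.mpr ⟨p, hp⟩
        obtain ⟨q, hq⟩ : (T.erase p).Nonempty := by
          rw [← Finset.card_pos, Finset.card_erase_of_mem hp]; omega
        obtain ⟨hqp, hqT⟩ := Finset.mem_erase.mp hq
        have hT' := ih (n - 2) (by omega) ((T.erase p).erase q)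
          (by rw [Finset.card_erase_of_mem hq, Finset.card_erase_of_mem hp]; omega)
          (fun z hz => hTs z (Finset.mem_of_mem_erase (Finset.mem_of_mem_erase hz)))
          (by
            rw [Finset.inter_eq_left.mpr (((Finset.erase_subset _ _).trans (Finset.erase_subset _ _)).trans hTc),
              Finset.card_erase_of_mem hq, Finset.card_erase_of_mem hp, hT, Nat.even_iff]
            omega)
        have hpq : Good K supp {p, q} := by
          by_cases h1 : p = pt f
          · rw [Finset.pair_comm, h1]; exact hpair q (hTc hqT) (h1 ▸ hqp)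
          by_cases h2 : q = pt f
          · rw [h2]; exact hpair p (hTc hp) h1
          have := good_symmDiff hKc (hpair p (hTc hp) h1) (hpair q (hTc hqT) h2)
          have he : symmDiff ({p, pt f} : Finset GolayPt) {q, pt f} = {p, q} := by
            ext z
            simp only [Finset.mem_symmDiff, Finset.mem_insert, Finset.mem_singleton]
            grind
          rwa [he] at this
        have := good_symmDiff hKc hT' hpq
        have he : symmDiff ((T.erase p).erase q) {p, q} = T := by
          ext z
          simp only [Finset.mem_symmDiff, Finset.mem_erase, Finset.mem_insert, Finset.mem_singleton]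
          grind
        rwa [he] at this
      · obtain ⟨hpT, hpc⟩ := Finset.mem_sdiff.mp hp
        have hpos := Finset.card_pos.mpr ⟨p, hpT⟩
        have hT' := ih (n - 1) (by omega) (T.erase p) (by rw [Finset.card_erase_of_mem hpT]; omega)
          (fun z hz => hTs z (Finset.mem_of_mem_erase hz))
          (by rwa [Finset.erase_inter, Finset.erase_eq_of_notMem (fun h => hpc (Finset.mem_inter.mp h).2)])
        have := good_symmDiff hKc hT' (hone p (hTs p hpT) hpc)
        have he : symmDiff (T.erase p) {p} = T := by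
          ext z
          simp only [Finset.mem_symmDiff, Finset.mem_erase, Finset.mem_singleton]
          grind
        rwa [he] at this
  obtain ⟨q, hq, k, hk, hqk⟩ := hgood _ S rfl hSsupp hSpar
  rw [hK, List.mem_map] at hk
  obtain ⟨⟨k', u, st⟩, hv, rfl⟩ := hk
  obtain ⟨hst, hu⟩ := hvs _ hv
  have hflip : signedPerm 1 (mset q) y = vec u := by
    funext p
    show _ = dig u (idx p)
    rw [hu (idx p) (mem_pts.2 (idx_lt p))]
    simp only [signedPerm, show (1 : Equiv.Perm GolayPt).symm p = p from rfl]
    have hiff := Finset.ext_iff.mp hqk p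
    simp only [Finset.mem_inter, Finset.mem_symmDiff, hs0, mem_mset] at hiff
    have := hrabs p
    have hSp : p ∈ S ↔ y p ≠ dig r (idx p) := by
      rw [hS, Finset.mem_filter]; simp [vec]
    rw [hSp] at hiff
    simp only [mem_mset]
    unfold vec at this
    exact sign_flip this hiff
  refine hP 1 (one_mem _) (mset q) ((mset_mem_supports (inCode_lt hq)).2 hq) y ?_
  rw [hflip]
  exact hb u st (List.mem_flatMap.2 ⟨_, he, List.mem_map.2 ⟨_, hv, rfl⟩⟩) hst

theorem reaches_even {N c tgt : ℕ} {es : List Entry} (hOK : evenOK N c tgt es = true) {y : GolayPt → ℤ}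
    (hy : y ∈ leechLattice) (hn : sqNorm y = N) (hN : N ≤ 64) (h0 : y none % 2 = 0)
    (hw : support₂ (wbit y) = mset c) (hc0 : c = 0 → ∀ p, 5 ≤ idx p → y p = 0) :
    Reaches (vec tgt) y :=
  gen_even (monoInvariant_reaches _) (fun u st _ h => reaches_of_stepsOK tgt st u h) hOK hy hn hN h0 hw hc0

/-! ### odd vectors -/

/-- Options for an odd vector normalised to be `1` modulo 4: a value is coded by `v + 8`. -/
def oddOpts : List (List ℕ) := pts.map fun i => if i < 5 then [1, 3, 5, 7] else [1]

/-- The value of an odd coordinate with given absolute value. -/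
def oddVal (v : ℕ) : ℤ := if v % 4 = 1 then v else -(v : ℤ)

/-- Check an entry for odd vectors. -/
def oddEntryOK (tgt : ℕ) (e : Entry) : Bool :=
  if digSum e.1 % 8 ≠ 4 then true else
    match e.2.2.2 with
    | [(_, u, st)] => stepsOK tgt u st && pts.all fun i => dig u i == dig e.1 i
    | _ => false

/-- Check the list of entries for odd vectors. -/
def oddOK (N tgt : ℕ) (es : List Entry) : Bool :=
  headLeast oddOpts && ((enum oddOpts N) == es.map fun e => absList e.1) &&
    es.all (fun e => oddEntryOK tgt e && pts.all fun i => dig e.1 i % 4 == 1)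

theorem gen_odd {N tgt : ℕ} {es : List Entry}
    (hb : ∀ u st, (u, st) ∈ listed es → stepsOK tgt u st = true → P (vec u))
    (hOK : oddOK N tgt es = true) {y : GolayPt → ℤ}
    (hy : y ∈ leechLattice) (hn : sqNorm y = N) (hN : N ≤ 64) (h4 : ∀ p, y p % 4 = 1)
    (h5 : ∀ p, 5 ≤ idx p → y p = 1) : P y := by
  obtain ⟨-, hsum8, -⟩ := mem_leechLattice.mp hy
  simp only [oddOK, Bool.and_eq_true, beq_iff_eq] at hOK
  obtain ⟨⟨hhead, henum⟩, hes⟩ := hOK
  have hbnd : ∀ p, -8 ≤ y p ∧ y p ≤ 8 := fun p => by
    have := LeechCount.mem_allVals_of_sqNorm (x := y) (by omega) p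
    simp only [LeechCount.allVals, List.mem_cons, List.not_mem_nil, or_false] at this
    omega
  set l : List ℕ := pts.map fun i => (y (pt i)).natAbs with hl
  have hl1 : List.Forall₂ (fun v o => v ∈ o) l oddOpts := by
    rw [hl, oddOpts, List.forall₂_map_left_iff, List.forall₂_map_right_iff, List.forall₂_same]
    intro i hi
    have h1 := hbnd (pt i)
    have h2 := h4 (pt i)
    by_cases hb : i < 5
    · rw [if_pos hb]; simp only [List.mem_cons, List.not_mem_nil, or_false]; omega
    · rw [if_neg hb, h5 (pt i) (by rw [idx_pt (mem_pts.1 hi)]; omega)]; simp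
  have hl2 : (l.map fun v => v * v).sum = N := by
    have : (((l.map fun v => v * v).sum : ℕ) : ℤ) = N := by
      rw [← hn, hl, List.map_map, show pts = List.range 24 from rfl, ← List.sum_toFinset _ List.nodup_range,
        List.toFinset_range, Finset.sum_range, Nat.cast_sum, sqNorm]
      refine (Finset.sum_equiv idxEquiv (fun _ => by simp) fun p _ => ?_).symm
      show y p ^ 2 = (((y (pt (idx p))).natAbs * (y (pt (idx p))).natAbs : ℕ) : ℤ)
      rw [pt_idx]; push_cast; rw [abs_mul_abs_self, pow_two]
    exact_mod_cast this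
  have hmem := mem_enum hhead hl1
  rw [hl2, henum, List.mem_map] at hmem
  obtain ⟨e, he, hea⟩ := hmem
  have hchk := List.all_eq_true.1 hes _ he
  simp only [Bool.and_eq_true, List.all_eq_true, beq_iff_eq] at hchk
  obtain ⟨hchk, hmod⟩ := hchk
  simp only [absList, hl, List.map_inj_left] at hea
  have heq : vec e.1 = y := by
    funext p
    have h1 := hea (idx p) (mem_pts.2 (idx_lt p))
    rw [pt_idx] at h1
    have h2 := hmod (idx p) (mem_pts.2 (idx_lt p))
    have h3 := h4 p
    show dig e.1 (idx p) = y p
    omega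
  rw [oddEntryOK, if_neg (by
    rw [digSum_eq, heq, hsum8]
    have := h4 none
    omega)] at hchk
  obtain ⟨a, r, wit, vs⟩ := e
  match vs, hchk with
  | [(k, u, st)], hchk =>
    simp only [Bool.and_eq_true, List.all_eq_true, beq_iff_eq] at hchk
    have : vec u = y := by
      rw [← heq]; funext p; exact hchk.2 (idx p) (mem_pts.2 (idx_lt p))
    rw [← this]
    exact hb u st (List.mem_flatMap.2 ⟨_, he, List.mem_map.2 ⟨_, List.mem_cons_self, rfl⟩⟩) hchk.1

theorem reaches_odd {N tgt : ℕ} {es : List Entry} (hOK : oddOK N tgt es = true) {y : GolayPt → ℤ}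
    (hy : y ∈ leechLattice) (hn : sqNorm y = N) (hN : N ≤ 64) (h4 : ∀ p, y p % 4 = 1)
    (h5 : ∀ p, 5 ≤ idx p → y p = 1) : Reaches (vec tgt) y :=
  gen_odd (fun u st _ h => reaches_of_stepsOK tgt st u h) hOK hy hn hN h4 h5

/-! ### normalising -/

theorem sq_ge {v k : ℤ} (hk : 0 ≤ k) (h : v ≤ -k ∨ k ≤ v) : k * k ≤ v ^ 2 := by
  rcases h with h | h <;> nlinarith


theorem exists_move_five (E : Finset GolayPt) (hE : E.card ≤ 5) :
    ∃ σ ∈ M24, ∀ p ∈ E, idx (σ p) < 5 := by
  obtain ⟨T, hET, -, hT⟩ := Finset.exists_subsuperset_card_eq (Finset.subset_univ E) hE (by simp)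
  let x : Fin 5 → GolayPt := fun i => (T.equivFinOfCardEq hT).symm i
  have hx : Function.Injective x := fun i j h => (T.equivFinOfCardEq hT).symm.injective (Subtype.ext h)
  let y : Fin 5 → GolayPt := fun i => pt i
  have hy : Function.Injective y := fun i j h => Fin.ext (by
    have := congrArg idx h
    simpa [y, idx_pt (show (i : ℕ) < 24 by omega), idx_pt (show (j : ℕ) < 24 by omega)] using this)
  obtain ⟨σ, hσ, h⟩ := GolayM24.exists_map_five_five x y hx hy
  refine ⟨σ, hσ, fun p hp => ?_⟩
  have hp' : x ((T.equivFinOfCardEq hT) ⟨p, hET hp⟩) = p := by simp [x]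
  rw [← hp', h]
  simp only [y]
  rw [idx_pt (by omega)]
  omega

theorem signedPerm_empty_apply (σ : Equiv.Perm GolayPt) (x : GolayPt → ℤ) (p : GolayPt) :
    signedPerm σ ∅ x p = x (σ.symm p) := by
  simp [signedPerm]

theorem gen_all {N tgt : ℕ} (hN : N ≤ 64) {eo ez eoct edod eco : List Entry}
    (ho : oddOK N tgt eo = true) (hz : evenOK N 0 tgt ez = true)
    (h8 : evenOK N 13062145 tgt eoct = true)
    (h12 : N < 48 ∨ evenOK N 340831 tgt edod = true)
    (h16 : N < 64 ∨ evenOK N 3715070 tgt eco = true)
    (hP : MonoInvariant P)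
    (hb : ∀ u st, (u, st) ∈ listed (eo ++ ez ++ eoct ++ edod ++ eco) → stepsOK tgt u st = true → P (vec u))
    {x : GolayPt → ℤ} (hx : x ∈ leechLattice) (hn : sqNorm x = N) : P x := by
  have hsub : ∀ es : List Entry, (∀ e ∈ es, e ∈ eo ++ ez ++ eoct ++ edod ++ eco) →
      ∀ u st, (u, st) ∈ listed es → stepsOK tgt u st = true → P (vec u) := fun es hes u st hm => by
    obtain ⟨e, he, hv⟩ := List.mem_flatMap.1 hm
    exact hb u st (List.mem_flatMap.2 ⟨e, hes e he, hv⟩)
  obtain ⟨hpar, -, hcode⟩ := mem_leechLattice.mp hx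
  have hws : support₂ (wbit x) ∈ supports (golayCode : Set (GolayPt → ZMod 2)) := mem_supports_golay.mpr hcode
  have hmv : ∀ (σ : Equiv.Perm GolayPt) (hσ : σ ∈ M24) (z : GolayPt → ℤ),
      P (signedPerm σ ∅ z) → P z := fun σ hσ z h => hP σ hσ ∅ empty_mem_supports z h
  have hnorm : ∀ (σ : Equiv.Perm GolayPt) (c : Finset GolayPt) (z : GolayPt → ℤ),
      sqNorm (signedPerm σ c z) = sqNorm z := sqNorm_signedPerm
  by_cases h0 : x none % 2 = 0
  · -- even vectors
    have hsupp : ∀ σ : Equiv.Perm GolayPt,
        support₂ (wbit (signedPerm σ ∅ x)) = σ • support₂ (wbit x) := by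
      intro σ
      ext p
      rw [← Finset.inv_smul_mem_iff, Equiv.Perm.smul_def, Equiv.Perm.inv_def]
      rw [support₂, support₂, Finset.mem_filter, Finset.mem_filter]
      simp only [Finset.mem_univ, true_and, wbit, signedPerm_empty_apply]
    have hev : ∀ p, x p % 2 = 0 := fun p => (hpar p).trans h0
    have hbig : ∀ p ∈ support₂ (wbit x), (4 : ℤ) ≤ x p ^ 2 := fun p hp => by
      have h1 : x p / 2 % 2 = 1 := (wbit_ne_zero_iff x p).mp (by simpa [support₂] using hp)
      have := hev p
      exact sq_ge (k := 2) (by norm_num) (by omega)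
    have hcard : 4 * ((support₂ (wbit x)).card : ℤ) ≤ N := by
      rw [← hn]
      refine le_trans ?_ (Finset.sum_le_sum_of_subset_of_nonneg (Finset.subset_univ (support₂ (wbit x)))
        fun p _ _ => sq_nonneg (x p))
      have := Finset.sum_le_sum hbig
      rw [Finset.sum_const, nsmul_eq_mul] at this
      linarith
    have hto : ∀ (c : ℕ) (es : List Entry) (σ : Equiv.Perm GolayPt), σ ∈ M24 →
        σ • support₂ (wbit x) = mset c → evenOK N c tgt es = true → c ≠ 0 →
        (∀ e ∈ es, e ∈ eo ++ ez ++ eoct ++ edod ++ eco) → P x := by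
      intro c es σ hσ hσc hok hne hes
      refine hmv σ hσ x (gen_even hP (hsub es hes) hok ?_ ((hnorm σ ∅ x).trans hn) hN ?_ ((hsupp σ).trans hσc)
        (fun h => absurd h hne))
      · exact mem_leechLattice.mpr (isLeech_signedPerm hσ empty_mem_supports (mem_leechLattice.mp hx))
      · rw [signedPerm_empty_apply]; exact hev _
    rcases card_support_cases hws with h | h | h | h | h
    · -- divisible by four
      have h4 : ∀ p, x p % 4 = 0 := fun p => by
        have := hev p
        have : ¬ (x p / 2 % 2 = 1) := fun hh => by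
          have : p ∈ support₂ (wbit x) := by simpa [support₂] using (wbit_ne_zero_iff x p).mpr hh
          rw [h] at this; simp at this
        omega
      set E := Finset.univ.filter fun p => x p ≠ 0 with hE
      have hE5 : E.card ≤ 5 := by
        have h16 : ∀ p ∈ E, (16 : ℤ) ≤ x p ^ 2 := fun p hp => by
          have := (Finset.mem_filter.mp hp).2
          have := h4 p
          exact sq_ge (k := 4) (by norm_num) (by omega)
        have h1 := Finset.sum_le_sum h16
        rw [Finset.sum_const, nsmul_eq_mul] at h1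
        have h2 : ∑ p ∈ E, x p ^ 2 ≤ sqNorm x :=
          Finset.sum_le_sum_of_subset_of_nonneg (Finset.subset_univ _) fun p _ _ => sq_nonneg (x p)
        have : 16 * (E.card : ℤ) ≤ 64 := by linarith [(Nat.cast_le (α := ℤ)).mpr hN]
        omega
      obtain ⟨σ, hσ, hσE⟩ := exists_move_five E hE5
      refine hmv σ hσ x (gen_even hP (hsub ez (by simp +contextual)) hz ?_ ((hnorm σ ∅ x).trans hn) hN ?_ ?_ ?_)
      · exact mem_leechLattice.mpr (isLeech_signedPerm hσ empty_mem_supports (mem_leechLattice.mp hx))
      · rw [signedPerm_empty_apply]; exact hev _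
      · rw [hsupp, h, mset_zero, Finset.smul_finset_empty]
      · intro _ p hp
        rw [signedPerm_empty_apply]
        by_contra hne
        have := hσE (σ.symm p) (Finset.mem_filter.mpr ⟨Finset.mem_univ _, hne⟩)
        rw [Equiv.apply_symm_apply] at this
        omega
    · obtain ⟨σ, hσ, hσc⟩ := GolayM24.exists_smul_eq_of_octads (o' := mset 13062145)
        (o := support₂ (wbit x)) ⟨hws, h⟩ ((mset_mem_octads (by norm_num)).2 (by decide +kernel))
      exact hto _ _ σ hσ hσc h8 (by norm_num) (by simp +contextual)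
    · obtain ⟨σ, hσ, hσc⟩ := GolayM24.exists_smul_eq_of_dodecads (d' := mset 340831)
        (d := support₂ (wbit x)) ⟨hws, h⟩ ((mset_mem_dodecads (by norm_num)).2 (by decide +kernel))
      rcases h12 with h12 | h12
      · rw [h] at hcard; omega
      exact hto _ _ σ hσ hσc h12 (by norm_num) (by simp +contextual)
    · obtain ⟨σ, hσ, hσc⟩ := GolayM24.exists_smul_eq_of_octads (o' := mset 13062145)
        (o := (support₂ (wbit x))ᶜ) ⟨compl_mem_supports hws, by rw [Finset.card_compl, h]; simp⟩
        ((mset_mem_octads (by norm_num)).2 (by decide +kernel))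
      rcases h16 with h16 | h16
      · rw [h] at hcard; omega
      refine hto _ _ σ hσ ?_ h16 (by norm_num) (by simp +contextual)
      rw [show (3715070 : ℕ) = 16777215 ^^^ 13062145 by decide +kernel, mset_compl, ← hσc]
      ext p
      rw [← Finset.inv_smul_mem_iff, Finset.mem_compl, ← Finset.inv_smul_mem_iff, Finset.mem_compl, not_not]
    · rw [h] at hcard; omega
  · -- odd vectors: first make all coordinates 1 modulo 4
    have hodd : ∀ p, x p % 2 = 1 := fun p => by have := hpar p; omega
    set z := signedPerm 1 (support₂ (wbit x)) x with hz'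
    have hzmap : P z → P x := fun h => hP 1 (one_mem _) _ hws x h
    refine hzmap ?_
    have hzL : z ∈ leechLattice :=
      mem_leechLattice.mpr (isLeech_signedPerm (one_mem _) hws (mem_leechLattice.mp hx))
    have hz4 : ∀ p, z p % 4 = 1 := fun p => by
      simp only [hz', signedPerm, show (1 : Equiv.Perm GolayPt).symm p = p from rfl, support₂,
        Finset.mem_filter, Finset.mem_univ, true_and, wbit_ne_zero_iff]
      have := hodd p
      split_ifs <;> omega
    have hzn : sqNorm z = N := (hnorm _ _ x).trans hn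
    set E := Finset.univ.filter fun p => z p ≠ 1 with hE
    have hE5 : E.card ≤ 5 := by
      have h9 : ∀ p ∈ (Finset.univ : Finset GolayPt), (1 : ℤ) + (if p ∈ E then 8 else 0) ≤ z p ^ 2 := by
        intro p _
        have := hz4 p
        split_ifs with hp
        · have := (Finset.mem_filter.mp hp).2
          exact le_trans (by norm_num) (sq_ge (k := 3) (v := z p) (by norm_num) (by omega))
        · exact le_trans (by norm_num) (sq_ge (k := 1) (v := z p) (by norm_num) (by omega))
      have h1 := Finset.sum_le_sum h9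
      rw [Finset.sum_add_distrib, Finset.sum_const, Finset.sum_ite_mem, Finset.univ_inter,
        Finset.sum_const, card_univ_pt] at h1
      simp only [sqNorm] at hzn
      rw [hzn] at h1
      have : (N : ℤ) ≤ 64 := by exact_mod_cast hN
      simp only [nsmul_eq_mul] at h1
      push_cast at h1
      omega
    obtain ⟨σ, hσ, hσE⟩ := exists_move_five E hE5
    refine hmv σ hσ z (gen_odd (hsub eo (by simp +contextual)) ho ?_ ((hnorm σ ∅ z).trans hzn) hN (fun p => ?_) (fun p hp => ?_))
    · exact mem_leechLattice.mpr (isLeech_signedPerm hσ empty_mem_supports (mem_leechLattice.mp hzL))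
    · rw [signedPerm_empty_apply]; exact hz4 _
    · rw [signedPerm_empty_apply]
      by_contra hne
      have := hσE (σ.symm p) (Finset.mem_filter.mpr ⟨Finset.mem_univ _, hne⟩)
      rw [Equiv.apply_symm_apply] at this
      omega

theorem reaches_all {N tgt : ℕ} (hN : N ≤ 64) {eo ez eoct edod eco : List Entry}
    (ho : oddOK N tgt eo = true) (hz : evenOK N 0 tgt ez = true)
    (h8 : evenOK N 13062145 tgt eoct = true)
    (h12 : N < 48 ∨ evenOK N 340831 tgt edod = true)
    (h16 : N < 64 ∨ evenOK N 3715070 tgt eco = true)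
    {x : GolayPt → ℤ} (hx : x ∈ leechLattice) (hn : sqNorm x = N) : Reaches (vec tgt) x :=
  gen_all hN ho hz h8 h12 h16 (monoInvariant_reaches _) (fun u st _ h => reaches_of_stepsOK tgt st u h) hx hn

end Cfsg.Agent.LeechOrbit
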