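import Cfsg.Agent.Lib.LeechCount
import Cfsg.Agent.Lib.LeechOrbit

/-!
Counting lattice vectors of given norm with given products against up to three fixed vectors.
-/

set_option autoImplicit false
set_option linter.constructorNameAsVariable false

namespace Cfsg.Agent.LeechCensus

open Cfsg Cfsg.Agent.GolayBasic Cfsg.Agent.LeechBasic Cfsg.Agent.LeechCount Cfsg.Agent.LeechOrbit
open Cfsg.Agent.GolayPerm (pts mem_pts)

/-- Coordinate sum and three products. -/
abbrev Acc : Type := ℤ × ℤ × ℤ × ℤ

/-- A group of coordinates: value list, number of coordinates, coefficients. -/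
abbrev Group : Type := List ℤ × ℕ × ℤ × ℤ × ℤ

/-- The contribution of a coordinate value. -/
def psi (w : ℤ × ℤ × ℤ) (v : ℤ) : Acc := (v, w.1 * v, w.2.1 * v, w.2.2 * v)

/-- Indicator of a valid end state. -/
def finalAcc (n : ℕ) (a : Acc) : ℕ :=
  if n = 0 ∧ a.1 % 8 = 0 ∧ a.2.1 = 0 ∧ a.2.2.1 = 0 ∧ a.2.2.2 = 0 then 1 else 0

/-- Count over a list of groups. -/
def countGroups : List Group → ℕ → Acc → ℕ
  | [], n, a => finalAcc n a
  | g :: gs, n, a => countRec cost (psi g.2.2) (fun n' a' => countGroups gs n' a') g.1 g.2.1 n a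

/-- The sum that `countGroups` computes. -/
def total {ι : Type} [Fintype ι] [DecidableEq ι] (t : ι → Finset ℤ) (w : ι → ℤ × ℤ × ℤ) (n : ℕ)
    (a : Acc) : ℕ :=
  ∑ g ∈ Fintype.piFinset t,
    if ∑ i, cost (g i) ≤ n then finalAcc (n - ∑ i, cost (g i)) (a - ∑ i, psi (w i) (g i)) else 0

theorem total_split {ι : Type} [Fintype ι] [DecidableEq ι] (t : ι → Finset ℤ) (w : ι → ℤ × ℤ × ℤ)
    (p : ι → Prop) [DecidablePred p] (vs : List ℤ) (hvs : vs.Nodup) (w₁ : ℤ × ℤ × ℤ)
    (ht : ∀ i, p i → t i = vs.toFinset) (hw : ∀ i, p i → w i = w₁) (n : ℕ) (a : Acc) :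
    total t w n a = countRec cost (psi w₁)
      (fun n' a' => total (fun i : {i // ¬ p i} => t i.1) (fun i => w i.1) n' a')
      vs (Fintype.card {i // p i}) n a := by
  rw [← countRec_spec cost (psi w₁) _ vs hvs {i // p i} n a]
  unfold total
  have hsum : ∀ {M : Type} [AddCommMonoid M] (f : ι → M),
      ∑ i, f i = ∑ i : {i // p i}, f i.1 + ∑ i : {i // ¬ p i}, f i.1 := fun f =>
    (Fintype.sum_subtype_add_sum_subtype p f).symm
  rw [show (∑ g₁ ∈ Fintype.piFinset (fun _ : {i // p i} => vs.toFinset),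
      if ∑ i, cost (g₁ i) ≤ n then ∑ g₀ ∈ Fintype.piFinset (fun i : {i // ¬ p i} => t i.1),
          (if ∑ i, cost (g₀ i) ≤ n - ∑ i, cost (g₁ i) then
            finalAcc (n - ∑ i, cost (g₁ i) - ∑ i, cost (g₀ i))
              (a - ∑ i, psi w₁ (g₁ i) - ∑ i : {i // ¬ p i}, psi (w i.1) (g₀ i)) else 0)
        else 0) =
      ∑ g₁ ∈ Fintype.piFinset (fun _ : {i // p i} => vs.toFinset),
        ∑ g₀ ∈ Fintype.piFinset (fun i : {i // ¬ p i} => t i.1),
          if ∑ i, cost (g₁ i) + ∑ i, cost (g₀ i) ≤ n then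
            finalAcc (n - (∑ i, cost (g₁ i) + ∑ i, cost (g₀ i)))
              (a - (∑ i, psi w₁ (g₁ i) + ∑ i : {i // ¬ p i}, psi (w i.1) (g₀ i))) else 0 from by
    refine Finset.sum_congr rfl fun g₁ _ => ?_
    by_cases hle : ∑ i, cost (g₁ i) ≤ n
    · rw [if_pos hle]
      refine Finset.sum_congr rfl fun g₀ _ => ?_
      by_cases h : ∑ i, cost (g₁ i) + ∑ i, cost (g₀ i) ≤ n
      · rw [if_pos h, if_pos (by omega), Nat.sub_sub, sub_sub]
      · rw [if_neg h, if_neg (by omega)]
    · rw [if_neg hle]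
      exact (Finset.sum_eq_zero fun g₀ _ => if_neg (by omega)).symm]
  rw [← Finset.sum_product']
  refine Finset.sum_nbij' (fun g => (fun i => g i.1, fun i => g i.1))
    (fun q i => if h : p i then q.1 ⟨i, h⟩ else q.2 ⟨i, h⟩) ?_ ?_ ?_ ?_ ?_
  · intro g hg
    simp only [Finset.mem_coe, Finset.mem_product, Fintype.mem_piFinset] at hg ⊢
    exact ⟨fun i => ht i.1 i.2 ▸ hg i.1, fun i => hg i.1⟩
  · intro q hq
    simp only [Finset.mem_coe, Finset.mem_product, Fintype.mem_piFinset] at hq ⊢
    intro i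
    by_cases h : p i
    · rw [dif_pos h, ht i h]; exact hq.1 ⟨i, h⟩
    · rw [dif_neg h]; exact hq.2 ⟨i, h⟩
  · intro g _
    funext i
    by_cases h : p i <;> simp [h]
  · intro q _
    refine Prod.ext (funext fun i => ?_) (funext fun i => ?_)
    · simp [i.2]
    · simp [i.2]
  · intro g _
    rw [hsum fun i => cost (g i), hsum fun i => psi (w i) (g i),
      Finset.sum_congr rfl (fun (i : {i // p i}) _ => by rw [hw i.1 i.2] :
        ∀ i ∈ (Finset.univ : Finset {i // p i}), psi (w i.1) (g i.1) = psi w₁ (g i.1))]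

theorem countGroups_spec : ∀ (gs : List Group), (∀ g ∈ gs, g.1.Nodup) →
    ∀ (ι : Type) [Fintype ι] [DecidableEq ι] (t : ι → Finset ℤ) (w : ι → ℤ × ℤ × ℤ) (lab : ι → ℕ),
      (∀ i, lab i < gs.length) →
      (∀ i, t i = (gs.getD (lab i) ([], 0, 0, 0, 0)).1.toFinset) →
      (∀ i, w i = (gs.getD (lab i) ([], 0, 0, 0, 0)).2.2) →
      (∀ j < gs.length, Fintype.card {i // lab i = j} = (gs.getD j ([], 0, 0, 0, 0)).2.1) →
      ∀ (n : ℕ) (a : Acc), total t w n a = countGroups gs n a := by
  intro gs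
  induction gs with
  | nil =>
    intro _ ι _ _ t w lab hlab _ _ _ n a
    haveI : IsEmpty ι := ⟨fun i => absurd (hlab i) (by simp)⟩
    have : Fintype.piFinset t = {isEmptyElim} := by
      ext g
      exact ⟨fun _ => Finset.mem_singleton.mpr (Subsingleton.elim _ _), fun _ => Fintype.mem_piFinset.mpr isEmptyElim⟩
    rw [total, this, Finset.sum_singleton, countGroups]
    simp
  | cons g gs ih =>
    intro hnd ι _ _ t w lab hlab ht hw hc n a
    rw [total_split t w (fun i => lab i = 0) g.1 (hnd g List.mem_cons_self) g.2.2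
      (fun i hi => by rw [ht, hi]; rfl) (fun i hi => by rw [hw, hi]; rfl), countGroups, hc 0 (by simp)]
    congr 1
    funext n' a'
    have hpos : ∀ i : {i // ¬ lab i = 0}, ∃ j, lab i.1 = j + 1 := fun i =>
      ⟨lab i.1 - 1, (Nat.succ_pred_eq_of_pos (Nat.pos_of_ne_zero i.2)).symm⟩
    refine ih (fun g' hg' => hnd g' (List.mem_cons_of_mem _ hg')) {i // ¬ lab i = 0} _ _
      (fun i => lab i.1 - 1) (fun i => ?_) (fun i => ?_) (fun i => ?_) (fun j hj => ?_) n' a'
    · obtain ⟨j, hj⟩ := hpos i
      have := hlab i.1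
      rw [List.length_cons] at this
      omega
    · obtain ⟨j, hj⟩ := hpos i
      rw [ht, hj]; simp
    · obtain ⟨j, hj⟩ := hpos i
      rw [hw, hj]; simp
    · have := hc (j + 1) (by simp; omega)
      rw [List.getD_cons_succ] at this
      rw [← this]
      exact Fintype.card_congr ⟨fun i => ⟨i.1.1, by have := i.2; have := i.1.2; omega⟩,
        fun i => ⟨⟨i.1, by rw [i.2]; omega⟩, by simp [i.2]⟩, fun i => rfl, fun i => rfl⟩

/-! ### classes of coordinates and profiles of codewords -/

/-- The coefficients at a point number. -/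
def triple (F : ℕ × ℕ × ℕ) (i : ℕ) : ℤ × ℤ × ℤ := (dig F.1 i, dig F.2.1 i, dig F.2.2 i)

/-- The distinct coefficient triples. -/
def classes (F : ℕ × ℕ × ℕ) : List (ℤ × ℤ × ℤ) := (pts.map (triple F)).dedup

/-- The points with given coefficients. -/
def clsMask (F : ℕ × ℕ × ℕ) (w : ℤ × ℤ × ℤ) : ℕ :=
  ((pts.filter fun i => triple F i == w).map fun i => 1 <<< i).sum

/-- Intersection numbers of a word with the classes. -/
def profile (masks : List ℕ) (m : ℕ) : List ℕ := masks.map fun k => wt (m &&& k)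

/-- The groups for a parity and a profile. -/
def mkGroups (m : ℤ) : List (ℤ × ℤ × ℤ) → List ℕ → List ℕ → List Group
  | w :: ws, k :: ks, c :: cs =>
    (allVals.filter (fun v => v % 4 == m + 2), c, w) ::
      (allVals.filter (fun v => v % 4 == m), k - c, w) :: mkGroups m ws ks cs
  | _, _, _ => []

/-- Vectors with given profile, norm and products. -/
def countProfile (F : ℕ × ℕ × ℕ) (N : ℕ) (d : ℤ × ℤ × ℤ) (pr : List ℕ) : ℕ :=
  countGroups (mkGroups 0 (classes F) ((classes F).map fun w => wt (clsMask F w)) pr) N (0, d) +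
    countGroups (mkGroups 1 (classes F) ((classes F).map fun w => wt (clsMask F w)) pr) N (4, d)

/-- The census from a list of profiles with multiplicities. -/
def censusSum (F : ℕ × ℕ × ℕ) (N : ℕ) (d : ℤ × ℤ × ℤ) : List (List ℕ × ℕ) → ℕ
  | [] => 0
  | q :: qs => q.2 * countProfile F N d q.1 + censusSum F N d qs

/-- Sum of the histogram digits. -/
def histValue : List (List ℕ × ℕ) → ℕ
  | [] => 0
  | q :: qs => q.2 + 8192 * histValue qs

/-- Histogram of the profiles over the code in base `8192`. -/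
def histCode (masks : List ℕ) (keys : List (List ℕ)) : ℕ :=
  ((List.range 4096).map fun x => 8192 ^ (keys.idxOf (profile masks (enc x)))).sum

/-- Check a list of profiles with multiplicities. -/
def profilesOK (F : ℕ × ℕ × ℕ) (qs : List (List ℕ × ℕ)) : Bool :=
  let masks := (classes F).map (clsMask F)
  let keys : List (List ℕ) := qs.map fun q => q.1
  decide keys.Nodup && qs.all (fun q => decide (q.2 < 8192)) &&
    histCode masks keys == histValue qs

theorem digits_unique : ∀ (qs : List ℕ) (c : ℕ → ℕ), (∀ j, c j < 8192) → (∀ q ∈ qs, q < 8192) →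
    ∀ (M : ℕ), qs.length ≤ M → ∑ j ∈ Finset.range M, c j * 8192 ^ j =
      (qs.foldr (fun q r => q + 8192 * r) 0) → ∀ j < M, c j = qs.getD j 0 := by
  intro qs
  induction qs with
  | nil =>
    intro c _ _ M _ h j hj
    have := Finset.sum_eq_zero_iff.mp (h.trans (by simp)) j (Finset.mem_range.mpr hj)
    simp at this ⊢
    exact this
  | cons q qs ih =>
    intro c hc hq M hM h j hj
    obtain ⟨M, rfl⟩ : ∃ M', M = M' + 1 := ⟨M - 1, by simp at hM; omega⟩
    rw [Finset.sum_range_succ', List.foldr_cons] at h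
    have hs : ∑ i ∈ Finset.range M, c (i + 1) * 8192 ^ (i + 1) =
        8192 * ∑ i ∈ Finset.range M, c (i + 1) * 8192 ^ i := by
      rw [Finset.mul_sum]; exact Finset.sum_congr rfl fun i _ => by ring
    rw [hs, pow_zero, mul_one] at h
    have h0 := hc 0
    have h1 := hq q List.mem_cons_self
    have he : c 0 = q := by omega
    have he' : ∑ i ∈ Finset.range M, c (i + 1) * 8192 ^ i = qs.foldr (fun q r => q + 8192 * r) 0 := by omega
    match j with
    | 0 => simpa using he
    | j + 1 =>
      simpa using ih (fun i => c (i + 1)) (fun i => hc _) (fun q' hq' => hq q' (List.mem_cons_of_mem _ hq'))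
        M (by simp at hM; omega) he' j (by omega)

theorem histValue_eq : ∀ qs : List (List ℕ × ℕ),
    histValue qs = (qs.map fun q => q.2).foldr (fun q r => q + 8192 * r) 0
  | [] => rfl
  | q :: qs => by rw [histValue, histValue_eq qs]; rfl

theorem sum_profiles {F : ℕ × ℕ × ℕ} {qs : List (List ℕ × ℕ)} (h : profilesOK F qs = true)
    (f : List ℕ → ℕ) :
    ∑ x ∈ Finset.range 4096, f (profile ((classes F).map (clsMask F)) (enc x)) =
      (qs.map fun q => q.2 * f q.1).sum := by
  simp only [profilesOK, Bool.and_eq_true, decide_eq_true_eq, List.all_eq_true, beq_iff_eq] at h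
  obtain ⟨⟨hnd, hlt⟩, hh⟩ := h
  generalize (classes F).map (clsMask F) = masks at hh ⊢
  set keys := qs.map fun q => q.1 with hkeys
  set c : ℕ → ℕ := fun j => ((Finset.range 4096).filter fun x => keys.idxOf (profile masks (enc x)) = j).card
  have hmaps : ∀ x ∈ Finset.range 4096, keys.idxOf (profile masks (enc x)) ∈ Finset.range (qs.length + 1) :=
    fun x _ => Finset.mem_range.mpr (Nat.lt_succ_of_le (by
      have : keys.idxOf (profile masks (enc x)) ≤ keys.length := List.idxOf_le_length
      rwa [hkeys, List.length_map] at this))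
  have hc : ∀ j, c j < 8192 := fun j => lt_of_le_of_lt (Finset.card_filter_le _ _) (by simp)
  have hhist : ∑ j ∈ Finset.range (qs.length + 1), c j * 8192 ^ j = histValue qs := by
    rw [← hh, histCode, ← List.sum_toFinset _ List.nodup_range, List.toFinset_range,
      ← Finset.sum_fiberwise_of_maps_to hmaps]
    exact Finset.sum_congr rfl fun j _ => by
      rw [Finset.sum_congr rfl (fun x hx => by rw [(Finset.mem_filter.mp hx).2]), Finset.sum_const, smul_eq_mul]
  have hdig := digits_unique (qs.map fun q => q.2) c hc (fun q hq => by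
    obtain ⟨q', hq', rfl⟩ := List.mem_map.mp hq; exact hlt q' hq') (qs.length + 1) (by simp)
    (by rw [hhist, histValue_eq])
  -- the miss class is empty
  have hmiss : c qs.length = 0 := by
    have := hdig qs.length (by omega)
    rw [List.getD_eq_default _ _ (by simp)] at this
    exact this
  rw [← Finset.sum_fiberwise_of_maps_to hmaps (fun x => f (profile masks (enc x))), Finset.sum_range_succ,
    show ((Finset.range 4096).filter fun x => keys.idxOf (profile masks (enc x)) = qs.length) = ∅ from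
      Finset.card_eq_zero.mp hmiss, Finset.sum_empty, add_zero, Finset.sum_range, ← Fin.sum_univ_fun_getElem qs]
  refine Finset.sum_congr rfl fun j _ => ?_
  have hk : ∀ x ∈ (Finset.range 4096).filter (fun x => keys.idxOf (profile masks (enc x)) = (j : ℕ)),
      f (profile masks (enc x)) = f qs[(j : ℕ)].1 := by
    intro x hx
    have hx' := (Finset.mem_filter.mp hx).2
    have hlt' : keys.idxOf (profile masks (enc x)) < keys.length := by rw [hx', hkeys, List.length_map]; exact j.isLt
    have := List.getElem_idxOf hlt'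
    simp only [hx'] at this
    refine congrArg f ?_
    rw [← this]
    simp [hkeys]
  have := hdig j (by omega)
  rw [List.getD_eq_getElem _ _ (by simp), List.getElem_map] at this
  rw [Finset.sum_congr rfl hk, Finset.sum_const, smul_eq_mul, ← this]

theorem mkGroups_spec (m : ℤ) : ∀ (ws : List (ℤ × ℤ × ℤ)) (ks cs : List ℕ), ks.length = ws.length →
    cs.length = ws.length → (mkGroups m ws ks cs).length = 2 * ws.length ∧
      ∀ j < ws.length,
        (mkGroups m ws ks cs).getD (2 * j) ([], 0, 0, 0, 0) =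
          (allVals.filter (fun v => v % 4 == m + 2), cs.getD j 0, ws.getD j (0, 0, 0)) ∧
        (mkGroups m ws ks cs).getD (2 * j + 1) ([], 0, 0, 0, 0) =
          (allVals.filter (fun v => v % 4 == m), ks.getD j 0 - cs.getD j 0, ws.getD j (0, 0, 0))
  | [], _, _, _, _ => ⟨by simp [mkGroups], by simp⟩
  | w :: ws, k :: ks, c :: cs, hk, hc => by
    obtain ⟨h1, h2⟩ := mkGroups_spec m ws ks cs (by simpa using hk) (by simpa using hc)
    refine ⟨by simp [mkGroups, h1]; ring, fun j hj => ?_⟩
    match j with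
    | 0 => simp [mkGroups]
    | j + 1 =>
      obtain ⟨a, b⟩ := h2 j (by simpa using hj)
      rw [show 2 * (j + 1) = 2 * j + 1 + 1 by ring]
      simp only [mkGroups, List.getD_cons_succ]
      exact ⟨a, b⟩

theorem mset_sum_filter (l : List ℕ) (hl : l.Nodup) :
    mset ((l.map fun i => 1 <<< i).sum) = Finset.univ.filter fun p => idx p ∈ l := by
  ext p
  have key : (l.map fun i => 1 <<< i).sum = ∑ i ∈ l.toFinset, 2 ^ i := by
    rw [List.sum_toFinset _ hl]; simp [Nat.one_shiftLeft]
  rw [mem_mset, Finset.mem_filter, key, ← Nat.mem_bitIndices, ← List.mem_toFinset,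
    Finset.toFinset_bitIndices_twoPowSum, List.mem_toFinset]
  simp

/-- Sorting the coordinates by class and by the bit of the codeword. -/
theorem total_eq_countGroups (m : ℤ) (c : GolayPt → ZMod 2) (tr : GolayPt → ℤ × ℤ × ℤ)
    (ws : List (ℤ × ℤ × ℤ)) (hnd : ws.Nodup) (hmem : ∀ i, tr i ∈ ws) (ks cs : List ℕ)
    (hkl : ks.length = ws.length) (hcl : cs.length = ws.length)
    (hks : ∀ (q : ℕ) (hq : q < ws.length),
      ks.getD q 0 = (Finset.univ.filter fun i => tr i = ws[q]).card)
    (hcs : ∀ (q : ℕ) (hq : q < ws.length),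
      cs.getD q 0 = (Finset.univ.filter fun i => tr i = ws[q] ∧ c i ≠ 0).card) (n : ℕ) (a : Acc) :
    total (fun i => if c i ≠ 0 then (allVals.filter fun v => v % 4 == m + 2).toFinset
      else (allVals.filter fun v => v % 4 == m).toFinset) tr n a =
      countGroups (mkGroups m ws ks cs) n a := by
  obtain ⟨hlen, hget⟩ := mkGroups_spec m ws ks cs hkl hcl
  generalize hgs : mkGroups m ws ks cs = gs at hlen hget ⊢
  clear hgs
  have hav : allVals.Nodup := by decide
  let lab : GolayPt → ℕ := fun i => 2 * ws.idxOf (tr i) + if c i ≠ 0 then 0 else 1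
  have hidx : ∀ i : GolayPt, ws.idxOf (tr i) < ws.length := fun i =>
    List.idxOf_lt_length_of_mem (hmem i)
  have hat : ∀ i : GolayPt, ws.getD (ws.idxOf (tr i)) (0, 0, 0) = tr i := fun i => by
    rw [List.getD_eq_getElem _ _ (hidx i), List.getElem_idxOf]
  have hnd' : ∀ g ∈ gs, g.1.Nodup := by
    intro g hg
    obtain ⟨j, hj, rfl⟩ := List.mem_iff_getElem.mp hg
    rw [← List.getD_eq_getElem _ ([], 0, 0, 0, 0) hj]
    obtain ⟨q, r, hr, rfl⟩ : ∃ q r, r < 2 ∧ j = 2 * q + r := ⟨j / 2, j % 2, by omega, by omega⟩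
    obtain ⟨h1, h2⟩ := hget q (by omega)
    rcases (show r = 0 ∨ r = 1 by omega) with rfl | rfl
    · rw [add_zero, h1]; show (List.filter _ _).Nodup; exact hav.filter _
    · rw [h2]; show (List.filter _ _).Nodup; exact hav.filter _
  have hlab : ∀ i, lab i < gs.length := fun i => by
    have := hidx i
    simp only [lab, hlen]
    split_ifs <;> omega
  have ht : ∀ i, (if c i ≠ 0 then (allVals.filter fun v => v % 4 == m + 2).toFinset
      else (allVals.filter fun v => v % 4 == m).toFinset) =
      (gs.getD (lab i) ([], 0, 0, 0, 0)).1.toFinset := fun i => by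
    obtain ⟨h1, h2⟩ := hget _ (hidx i)
    simp only [lab]
    split_ifs with h
    · rw [add_zero, h1]
    · rw [h2]
  have hw : ∀ i, tr i = (gs.getD (lab i) ([], 0, 0, 0, 0)).2.2 := fun i => by
    obtain ⟨h1, h2⟩ := hget _ (hidx i)
    simp only [lab]
    split_ifs with h
    · rw [add_zero, h1]; exact (hat i).symm
    · rw [h2]; exact (hat i).symm
  have hcard : ∀ j < gs.length, Fintype.card {i // lab i = j} = (gs.getD j ([], 0, 0, 0, 0)).2.1 := by
    intro j hj
    obtain ⟨q, r, hr, rfl⟩ : ∃ q r, r < 2 ∧ j = 2 * q + r := ⟨j / 2, j % 2, by omega, by omega⟩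
    have hq : q < ws.length := by omega
    obtain ⟨h1, h2⟩ := hget q hq
    have hq' : ∀ i : GolayPt, tr i = ws[q] ↔ ws.idxOf (tr i) = q := fun i => by
      constructor
      · intro h; rw [h]; exact hnd.idxOf_getElem _ _
      · intro h; subst h; rw [List.getElem_idxOf]
    rw [Fintype.card_subtype]
    rcases (show r = 0 ∨ r = 1 by omega) with rfl | rfl
    · rw [add_zero, h1]
      dsimp only
      rw [hcs q hq]
      congr 1
      ext i
      simp only [Finset.mem_filter, Finset.mem_univ, true_and, lab, hq']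
      split_ifs with h <;> simp [h] <;> omega
    · rw [h2]
      dsimp only
      rw [hcs q hq, hks q hq,
        ← Finset.card_sdiff_of_subset (fun i hi => by simp at hi ⊢; exact hi.1)]
      congr 1
      ext i
      simp only [Finset.mem_filter, Finset.mem_sdiff, Finset.mem_univ, true_and, lab, hq']
      split_ifs with h <;> simp [h] <;> omega
  exact countGroups_spec gs hnd' GolayPt _ tr lab hlab ht hw hcard n a

theorem mem_mset_clsMask (F : ℕ × ℕ × ℕ) (w : ℤ × ℤ × ℤ) :
    mset (clsMask F w) = Finset.univ.filter fun p => triple F (idx p) = w := by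
  rw [clsMask, mset_sum_filter _ ((show pts.Nodup by decide).filter _)]
  ext p
  simp [mem_pts, idx_lt p]

/-- The vectors counted by a fibre. -/
theorem mem_fiber_iff {m : ℤ} (hm : m = 0 ∨ m = 1) {c : GolayPt → ZMod 2} (hc : c ∈ golayCode)
    (x : GolayPt → ℤ) (N : ℕ) :
    ((∀ i, x i ∈ allVals) ∧ IsLeech x ∧ sqNorm x = N ∧ x none % 2 = m ∧ wbit x = c) ↔
      (∀ i, x i ∈ if c i ≠ 0 then (allVals.filter fun v => v % 4 == m + 2).toFinset
        else (allVals.filter fun v => v % 4 == m).toFinset) ∧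
        ∑ i, cost (x i) = N ∧ (4 * m - ∑ i, x i) % 8 = 0 := by
  have hcost : (∑ i, cost (x i) = N) ↔ sqNorm x = N := by
    rw [sqNorm, ← Nat.cast_inj (R := ℤ), Nat.cast_sum]
    simp only [cost_cast]
  constructor
  · rintro ⟨hv, hL, hn, hpar, hw⟩
    refine ⟨fun i => ?_, hcost.mpr hn, ?_⟩
    · have h1 := hL.1 i
      by_cases h : c i = 0
      · rw [if_neg (by simp [h])]
        have : ¬ (x i / 2 % 2 = 1) := fun hh => (wbit_ne_zero_iff x i).mpr hh (by rw [hw, h])
        simp only [List.mem_toFinset, List.mem_filter, beq_iff_eq]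
        exact ⟨hv i, by omega⟩
      · rw [if_pos h]
        have := (wbit_ne_zero_iff x i).mp (by rw [hw]; exact h)
        simp only [List.mem_toFinset, List.mem_filter, beq_iff_eq]
        exact ⟨hv i, by omega⟩
    · have := hL.2.1; omega
  · rintro ⟨hv, hn, hs⟩
    have key : ∀ i, x i ∈ allVals ∧ x i % 2 = m ∧ wbit x i = c i := by
      intro i
      have := hv i
      by_cases h : c i = 0
      · rw [if_neg (by simp [h])] at this
        simp only [List.mem_toFinset, List.mem_filter, beq_iff_eq] at this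
        refine ⟨this.1, by omega, ?_⟩
        by_contra hne
        rw [h] at hne
        have := (wbit_ne_zero_iff x i).mp hne
        omega
      · rw [if_pos h] at this
        simp only [List.mem_toFinset, List.mem_filter, beq_iff_eq] at this
        refine ⟨this.1, by omega, ?_⟩
        have h1 : c i = 1 := by revert h; generalize c i = z; revert z; decide
        have h2 : wbit x i ≠ 0 := (wbit_ne_zero_iff x i).mpr (by omega)
        rw [h1]
        revert h2; generalize wbit x i = z; revert z; decide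
    have hw : wbit x = c := funext fun i => (key i).2.2
    refine ⟨fun i => (key i).1, ⟨fun i => (key i).2.1.trans (key none).2.1.symm, ?_, hw ▸ hc⟩,
      hcost.mp hn, (key none).2.1, hw⟩
    rw [(key none).2.1]
    omega

/-- The sum of `total` counts vectors with given norm, coordinate sum and products. -/
theorem total_eq_card (t : GolayPt → Finset ℤ) (F : ℕ × ℕ × ℕ) (N : ℕ) (s : ℤ) (d : ℤ × ℤ × ℤ) :
    total t (fun i => triple F (idx i)) N (s, d) =
      ((Fintype.piFinset t).filter fun x => ∑ i, cost (x i) = N ∧ (s - ∑ i, x i) % 8 = 0 ∧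
        dotInt (vec F.1) x = d.1 ∧ dotInt (vec F.2.1) x = d.2.1 ∧ dotInt (vec F.2.2) x = d.2.2).card := by
  rw [total, Finset.card_filter]
  refine Finset.sum_congr rfl fun g _ => ?_
  have hpsi : ∑ i, psi (triple F (idx i)) (g i) =
      (∑ i, g i, dotInt (vec F.1) g, dotInt (vec F.2.1) g, dotInt (vec F.2.2) g) := by
    simp only [psi, triple, Prod.ext_iff, Prod.fst_sum, Prod.snd_sum, dotInt, vec, and_self]
  rw [hpsi]
  simp only [finalAcc, Prod.fst_sub, Prod.snd_sub]
  by_cases hle : ∑ i, cost (g i) ≤ N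
  · rw [if_pos hle]
    by_cases hcond : ∑ i, cost (g i) = N ∧ (s - ∑ i, g i) % 8 = 0 ∧ dotInt (vec F.1) g = d.1 ∧
        dotInt (vec F.2.1) g = d.2.1 ∧ dotInt (vec F.2.2) g = d.2.2
    · rw [if_pos hcond, if_pos ⟨by omega, hcond.2.1, by omega, by omega, by omega⟩]
    · rw [if_neg hcond, if_neg (fun hh => hcond ⟨by omega, hh.2.1, by omega, by omega, by omega⟩)]
  · rw [if_neg hle, if_neg (fun h => hle h.1.le)]

theorem card_class (F : ℕ × ℕ × ℕ) (w : ℤ × ℤ × ℤ) :
    wt (clsMask F w) = (Finset.univ.filter fun i => triple F (idx i) = w).card := by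
  rw [← card_mset, mem_mset_clsMask]

theorem card_class_inter (F : ℕ × ℕ × ℕ) (c : GolayPt → ZMod 2) (w : ℤ × ℤ × ℤ) :
    wt (wmask c &&& clsMask F w) =
      (Finset.univ.filter fun i => triple F (idx i) = w ∧ c i ≠ 0).card := by
  rw [← card_mset, mset_and, mem_mset_clsMask]
  congr 1
  ext i
  rw [Finset.mem_inter, ← support₂_word, word_wmask]
  simp [support₂, and_comm]

/-- The two parity classes for one codeword. -/
def fiberSet (F : ℕ × ℕ × ℕ) (N : ℕ) (d : ℤ × ℤ × ℤ) (m : ℤ) (c : GolayPt → ZMod 2) :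
    Finset (GolayPt → ℤ) :=
  (Fintype.piFinset fun i => if c i ≠ 0 then (allVals.filter fun v => v % 4 == m + 2).toFinset
      else (allVals.filter fun v => v % 4 == m).toFinset).filter fun x =>
    ∑ i, cost (x i) = N ∧ (4 * m - ∑ i, x i) % 8 = 0 ∧
      dotInt (vec F.1) x = d.1 ∧ dotInt (vec F.2.1) x = d.2.1 ∧ dotInt (vec F.2.2) x = d.2.2

theorem card_fiberSet (F : ℕ × ℕ × ℕ) (N : ℕ) (d : ℤ × ℤ × ℤ) (m : ℤ) (c : GolayPt → ZMod 2) :
    (fiberSet F N d m c).card = countGroups
      (mkGroups m (classes F) ((classes F).map fun w => wt (clsMask F w))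
        (profile ((classes F).map (clsMask F)) (wmask c))) N (4 * m, d) := by
  have hcls : ∀ p : GolayPt, triple F (idx p) ∈ classes F := fun p => by
    rw [classes, List.mem_dedup]
    exact List.mem_map.mpr ⟨idx p, mem_pts.2 (idx_lt p), rfl⟩
  have hnd : (classes F).Nodup := List.nodup_dedup _
  rw [fiberSet, ← total_eq_card]
  generalize classes F = ws at hcls hnd ⊢
  refine total_eq_countGroups m c _ _ hnd hcls _ _ (List.length_map ..)
    (by rw [profile, List.length_map, List.length_map]) (fun q hq => ?_) (fun q hq => ?_) N _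
  · rw [List.getD_eq_getElem _ _ (by rw [List.length_map]; exact hq), List.getElem_map, card_class]
  · rw [List.getD_eq_getElem _ _ (by rw [profile, List.length_map, List.length_map]; exact hq)]
    simp only [profile, List.getElem_map]
    rw [card_class_inter]

open scoped Classical in
/-- Splitting the vectors by parity and codeword. -/
theorem ncard_eq_sum_fibers (F : ℕ × ℕ × ℕ) {N : ℕ} (hN : N < 81) (d : ℤ × ℤ × ℤ) :
    {x : GolayPt → ℤ | x ∈ leechLattice ∧ sqNorm x = N ∧ dotInt (vec F.1) x = d.1 ∧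
      dotInt (vec F.2.1) x = d.2.1 ∧ dotInt (vec F.2.2) x = d.2.2}.ncard =
      ∑ c ∈ Finset.univ.filter (fun w : GolayPt → ZMod 2 => w ∈ golayCode),
        ((fiberSet F N d 0 c).card + (fiberSet F N d 1 c).card) := by
  let S : Finset (GolayPt → ℤ) :=
    (Fintype.piFinset fun _ : GolayPt => allVals.toFinset).filter fun x => IsLeech x ∧ sqNorm x = N ∧
      dotInt (vec F.1) x = d.1 ∧ dotInt (vec F.2.1) x = d.2.1 ∧ dotInt (vec F.2.2) x = d.2.2
  have hS : {x : GolayPt → ℤ | x ∈ leechLattice ∧ sqNorm x = N ∧ dotInt (vec F.1) x = d.1 ∧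
      dotInt (vec F.2.1) x = d.2.1 ∧ dotInt (vec F.2.2) x = d.2.2} = (S : Set _) := by
    ext x
    simp only [S, Set.mem_setOf_eq, Finset.coe_filter, Fintype.mem_piFinset, List.mem_toFinset,
      mem_leechLattice]
    exact ⟨fun hx => ⟨mem_allVals_of_sqNorm (by omega), hx⟩, fun hx => hx.2⟩
  rw [hS, Set.ncard_coe_finset]
  have hmap : ∀ x ∈ S, (x none % 2, wbit x) ∈
      ({0, 1} : Finset ℤ) ×ˢ Finset.univ.filter (fun w : GolayPt → ZMod 2 => w ∈ golayCode) := by
    intro x hx
    simp only [S, Finset.mem_filter] at hx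
    simp only [Finset.mem_product, Finset.mem_insert, Finset.mem_singleton, Finset.mem_filter,
      Finset.mem_univ, true_and]
    exact ⟨by omega, hx.2.1.2.2⟩
  rw [Finset.card_eq_sum_card_fiberwise hmap, Finset.sum_product, Finset.sum_pair (by decide : (0 : ℤ) ≠ 1),
    ← Finset.sum_add_distrib]
  refine Finset.sum_congr rfl fun c hc => ?_
  have hc' := (Finset.mem_filter.mp hc).2
  have key : ∀ m : ℤ, m = 0 ∨ m = 1 →
      (S.filter fun x => (x none % 2, wbit x) = (m, c)) = fiberSet F N d m c := by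
    intro m hm
    ext x
    simp only [S, fiberSet, Finset.mem_filter, Fintype.mem_piFinset, List.mem_toFinset, Prod.mk.injEq]
    have := mem_fiber_iff hm hc' x N
    constructor
    · rintro ⟨⟨h1, h2, h3, h4⟩, h5, h6⟩
      obtain ⟨a, b, e⟩ := this.mp ⟨h1, h2, h3, h5, h6⟩
      exact ⟨a, b, e, h4⟩
    · rintro ⟨a, b, e, h4⟩
      obtain ⟨h1, h2, h3, h5, h6⟩ := this.mpr ⟨a, b, e⟩
      exact ⟨⟨h1, h2, h3, h4⟩, h5, h6⟩
  rw [key 0 (Or.inl rfl), key 1 (Or.inr rfl)]

theorem censusSum_eq (F : ℕ × ℕ × ℕ) (N : ℕ) (d : ℤ × ℤ × ℤ) : ∀ l : List (List ℕ × ℕ),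
    (l.map fun q => q.2 * countProfile F N d q.1).sum = censusSum F N d l
  | [] => rfl
  | q :: l => by rw [List.map_cons, List.sum_cons, censusSum, censusSum_eq F N d l]

open scoped Classical in
theorem ncard_census {F : ℕ × ℕ × ℕ} {qs : List (List ℕ × ℕ)} (h : profilesOK F qs = true) {N : ℕ}
    (hN : N < 81) (d : ℤ × ℤ × ℤ) :
    {x : GolayPt → ℤ | x ∈ leechLattice ∧ sqNorm x = N ∧ dotInt (vec F.1) x = d.1 ∧
      dotInt (vec F.2.1) x = d.2.1 ∧ dotInt (vec F.2.2) x = d.2.2}.ncard = censusSum F N d qs := by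
  rw [ncard_eq_sum_fibers F hN d, ← censusSum_eq, ← sum_profiles h]
  refine (Finset.sum_nbij (fun x => word (enc x)) ?_ ?_ ?_ ?_).symm
  · intro x hx
    exact Finset.mem_filter.mpr ⟨Finset.mem_univ _, word_enc_mem (Finset.mem_range.mp hx)⟩
  · intro x hx y hy h
    have := word_inj (enc_lt (Finset.mem_range.mp hx)) (enc_lt (Finset.mem_range.mp hy)) h
    rw [← enc_and (Finset.mem_range.mp hx), ← enc_and (Finset.mem_range.mp hy), this]
  · intro w hw
    obtain ⟨x, hx, h⟩ := exists_enc (Finset.mem_filter.mp hw).2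
    exact ⟨x, Finset.mem_coe.mpr (Finset.mem_range.mpr hx), h⟩
  · intro x hx
    rw [card_fiberSet, card_fiberSet, word_inj (wmask_lt _) (enc_lt (Finset.mem_range.mp hx))
      (word_wmask _), countProfile]
    rfl

end Cfsg.Agent.LeechCensus
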