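import Cfsg.Agent.Lib.LeechCent11
import Cfsg.Agent.Lib.GolayOutM22

/-!
The centraliser of the element of order 5 in the stabilisers of the two standard pairs.
-/

set_option autoImplicit false

open scoped Pointwise

namespace Cfsg.Agent.LeechCent5

open Cfsg Cfsg.Agent.GolayBasic Cfsg.Agent.LeechBasic Cfsg.Agent.LeechAut Cfsg.Agent.LeechOrbit
open Cfsg.Agent.LeechCert Cfsg.Agent.LeechOutTool Cfsg.Agent.LeechOutData Cfsg.Agent.LeechCent11
open Cfsg.Agent.LeechNormalizers (permElt mem_mono_of_frame fixes_none frame_none_apply coe_permElt_smul)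
open Cfsg.Agent.GolayPerm (good valid pts mem_pts pimg pimg_lt permOf permOf_mem_M24 permOf_apply valid_of_good pfun)
open Cfsg.Agent.LeechStab (mono mem_mono permHom monomial_mul monomial_congr)
open Cfsg.Agent.LeechMonomial (monomial_injective)
open Cfsg.Agent.LeechXi (isL isL_iff)
open Cfsg.Agent.LeechFreeInvolution (frameCodes)

/-- The permutation of order 5. -/
def pU : ℕ := 965300289861748889990672440075108384

theorem pU_good : good pU = true := by decide +kernel

theorem El_wU : El wU = permElt pU pU_good := El_perm (by decide +kernel)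

/-- Iterated image of a point number. -/
def pw : ℕ → ℕ → ℕ
  | 0, i => i
  | e + 1, i => pimg pU (pw e i)

/-- One point of each cycle. -/
def reps : List ℕ := [0, 23, 1, 5, 2, 3, 7, 14]

/-- The cycle of each point. -/
def cls : List ℕ := [0, 2, 4, 5, 5, 3, 4, 6, 4, 4, 6, 6, 5, 5, 7, 7, 4, 6, 5, 7, 7, 7, 6, 1]

/-- A vector constant on cycles. -/
def pattU (l : List ℤ) : GolayPt → ℤ := fun p => l.getD (cls.getD (idx p) 0) 0

theorem fixed_patt {v : leechLattice} (hv : El wU • v = v) :
    (v : GolayPt → ℤ) = pattU (reps.map fun i => (v : GolayPt → ℤ) (pt i)) := by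
  rw [El_wU] at hv
  have hstep : ∀ e i, i < 24 → pw e i < 24 ∧ (v : GolayPt → ℤ) (pt (pw e i)) = (v : GolayPt → ℤ) (pt i) := by
    intro e
    induction e with
    | zero => exact fun i hi => ⟨hi, rfl⟩
    | succ e ih =>
      intro i hi
      obtain ⟨h1, h2⟩ := ih i hi
      refine ⟨pimg_lt (valid_of_good pU_good) h1, ?_⟩
      have e' : permOf pU (pt (pw e i)) = pt (pw (e + 1) i) := by
        rw [permOf_apply (valid_of_good pU_good), pfun, idx_pt h1]; rfl
      conv_lhs => rw [← e', ← hv]
      rw [coe_permElt_smul, h2]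
  have key : ∀ i < 24, cls.getD i 0 < 8 ∧ ∃ e < 5, pw e (reps.getD (cls.getD i 0) 0) = i := by decide +kernel
  funext p
  obtain ⟨hc, e, -, he⟩ := key (idx p) (idx_lt p)
  have hr : ∀ c < 8, reps.getD c 0 < 24 := by decide +kernel
  have := (hstep e _ (hr _ hc)).2
  rw [he, pt_idx] at this
  rw [this]
  simp only [pattU]
  rw [List.getD_eq_getElem (List.map _ reps) _ (by simpa [reps] using hc), List.getElem_map,
    List.getD_eq_getElem]

theorem sum_pts (f : GolayPt → ℤ) : ∑ p, f p = (pts.map fun i => f (pt i)).sum := by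
  rw [show pts = List.range 24 from rfl, ← List.sum_toFinset _ List.nodup_range, List.toFinset_range,
    Finset.sum_range]
  exact Finset.sum_equiv idxEquiv (fun _ => by simp) fun p _ => by simp [idxEquiv, pt_idx]

/-- The candidates in the box; `s` is the sign of the first coordinate. -/
def boxOK (s : ℤ) (T : List ℕ) : Bool :=
  (List.range 7).all fun i1 => (List.range 7).all fun i2 => (List.range 7).all fun i3 => (List.range 7).all fun i4 =>
    let c1 : ℤ := (i1 : ℤ) - 3
    let c2 : ℤ := (i2 : ℤ) - 3
    let c3 : ℤ := (i3 : ℤ) - 3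
    let c4 : ℤ := (i4 : ℤ) - 3
    let s2 : ℤ := 5 * (c1 * c1 + c2 * c2 + c3 * c3 + c4 * c4)
    decide (64 < s2) || (List.range 9).all fun j =>
      let b : ℤ := (j : ℤ)
      let a : ℤ := s * (8 - b)
      decide (64 < s2 + a * a + b * b) || (List.range 17).all fun k =>
        let p : ℤ := (k : ℤ) - 8
        let q : ℤ := 40 - 5 * b - a - p - 5 * (c1 + c2 + c3 + c4)
        !(decide (a * a + b * b + p * p + q * q + s2 = 64)) ||
          !(isL (pattU [a, b, p, q, c1, c2, c3, c4])) ||
          T.any fun n => pts.all fun i => dig n i == pattU [a, b, p, q, c1, c2, c3, c4] (pt i)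

theorem census {s : ℤ} {T : List ℕ} (hbox : boxOK s T = true) {v : leechLattice}
    (hv : El wU • v = v) (hn : sqNorm (v : GolayPt → ℤ) = 64) (hV : dotInt Spor.vecV (v : GolayPt → ℤ) = -40)
    (hU : (v : GolayPt → ℤ) (pt 0) = s * (8 - (v : GolayPt → ℤ) (pt 23))) (hs : s = 1 ∨ s = -1) :
    ∃ n ∈ T, (v : GolayPt → ℤ) = vec n := by
  have hp := fixed_patt hv
  simp only [reps, List.map_cons, List.map_nil] at hp
  set a := (v : GolayPt → ℤ) (pt 0) with ha
  set b := (v : GolayPt → ℤ) (pt 23) with hb
  set p := (v : GolayPt → ℤ) (pt 1)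
  set q := (v : GolayPt → ℤ) (pt 5)
  set c1 := (v : GolayPt → ℤ) (pt 2)
  set c2 := (v : GolayPt → ℤ) (pt 3)
  set c3 := (v : GolayPt → ℤ) (pt 7)
  set c4 := (v : GolayPt → ℤ) (pt 14)
  have hmem : isL (pattU [a, b, p, q, c1, c2, c3, c4]) = true := isL_iff.mpr (hp ▸ v.2)
  have hw : ∀ i ∈ pts, Spor.vecV (pt i) = if i = 23 then -5 else -1 := by decide +kernel
  rw [sqNorm, sum_pts, hp] at hn
  rw [dotInt, sum_pts, hp, List.map_congr_left (g := fun i => (if i = 23 then -5 else -1) * pattU [a, b, p, q, c1, c2, c3, c4] (pt i))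
    (fun i hi => by rw [hw i hi])] at hV
  rw [List.map_congr_left (g := fun i => ([a, b, p, q, c1, c2, c3, c4].getD (cls.getD i 0) 0) ^ 2)
    (fun i hi => by rw [pattU, idx_pt (mem_pts.1 hi)])] at hn
  rw [List.map_congr_left (g := fun i => (if i = 23 then -5 else -1) * [a, b, p, q, c1, c2, c3, c4].getD (cls.getD i 0) 0)
    (fun i hi => by rw [pattU, idx_pt (mem_pts.1 hi)])] at hV
  simp [pts, cls, List.range_succ, List.sum_cons] at hn hV
  ring_nf at hn hV
  have hb0 : 0 ≤ b ∧ b ≤ 8 := by
    rcases hs with rfl | rfl <;> constructor <;> nlinarith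
  have hc : (-3 ≤ c1 ∧ c1 ≤ 3) ∧ (-3 ≤ c2 ∧ c2 ≤ 3) ∧ (-3 ≤ c3 ∧ c3 ≤ 3) ∧ (-3 ≤ c4 ∧ c4 ≤ 3) := by
    refine ⟨?_, ?_, ?_, ?_⟩ <;> constructor <;> nlinarith
  have hp' : -8 ≤ p ∧ p ≤ 8 := by constructor <;> nlinarith
  simp only [boxOK, List.all_eq_true, List.mem_range, Bool.or_eq_true, decide_eq_true_eq, Bool.not_eq_true',
    decide_eq_false_iff_not] at hbox
  have h := hbox (c1 + 3).toNat (by omega) (c2 + 3).toNat (by omega) (c3 + 3).toNat (by omega) (c4 + 3).toNat (by omega)
  rw [Int.toNat_of_nonneg (by omega), Int.toNat_of_nonneg (by omega), Int.toNat_of_nonneg (by omega),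
    Int.toNat_of_nonneg (by omega)] at h
  simp only [add_sub_cancel_right] at h
  rcases h with h | h
  · exfalso; nlinarith
  have h := h b.toNat (by omega)
  rw [Int.toNat_of_nonneg hb0.1, ← hU] at h
  rcases h with h | h
  · exfalso; nlinarith
  have h := h (p + 8).toNat (by omega)
  rw [Int.toNat_of_nonneg (by omega), add_sub_cancel_right] at h
  have hq : 40 - 5 * b - a - p - 5 * (c1 + c2 + c3 + c4) = q := by linarith
  rw [hq] at h
  rcases h with (h | h) | h
  · exact absurd (by nlinarith) h
  · rw [hmem] at h; exact absurd h (by decide)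
  simp only [List.any_eq_true, List.all_eq_true, beq_iff_eq] at h
  obtain ⟨n, hn', he⟩ := h
  refine ⟨n, hn', ?_⟩
  funext x
  rw [hp, ← pt_idx x, vec_pt _ (idx_lt x), he _ (mem_pts.2 (idx_lt x))]

/-- The centralising elements for given orbit words. -/
def c5 (g5 : List (List Step)) : List (List Step) := g5.flatMap fun g => m5.map fun s => s :: g

/-- The images of the frame vector. -/
noncomputable def imgs (g5 : List (List Step)) : List ℕ := g5.map fun g => applyWord g (frameCodes.getD 23 0)

/-- The orbit words fix the pair and centralise. -/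
noncomputable def g5OK (g5 : List (List Step)) (u : ℕ) : Bool :=
  g5.all fun g => eqOK (wU ++ g) (g ++ wU) && fixes g cV && fixes g u

theorem commute_wU {s : ℤ} (hs : s = 1 ∨ s = -1) {g5 : List (List Step)} {u : ℕ} {w : leechLattice}
    (hw : (w : GolayPt → ℤ) = vec u) (hwv : ∀ p, vec u p = if p = none then 4 else if p = some 0 then 4 * s else 0)
    (hok : g5OK g5 u = true) (hbox : boxOK s (imgs g5) = true)
    {h : Co0} (hV : h • Spor.leechV = Spor.leechV) (hW : h • w = w) (hc : Commute h (El wU)) :
    ∃ x ∈ c5 g5, h = El x := by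
  have hwd : ∀ x : leechLattice, dotInt (w : GolayPt → ℤ) (x : GolayPt → ℤ) =
      4 * (x : GolayPt → ℤ) none + 4 * s * (x : GolayPt → ℤ) (some 0) := by
    intro x
    rw [dotInt, Finset.sum_eq_add (none : GolayPt) (some 0) (by simp)
      (fun p _ hp => by rw [hw, hwv, if_neg hp.1, if_neg hp.2, zero_mul]) (by simp) (by simp), hw, hwv, hwv]
    simp
  have hfU : El wU • frame none = frame none := by
    refine Subtype.ext ?_
    rw [El_frame (by decide +kernel), frame_code, (by decide +kernel : applyWord wU (frameCodes.getD (idx (none : GolayPt)) 0) =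
      frameCodes.getD (idx (none : GolayPt)) 0)]
  have hd1 : dotInt (w : GolayPt → ℤ) ((frame none : leechLattice) : GolayPt → ℤ) = 32 := by
    rw [hwd, frame_none_apply, frame_none_apply]; simp
  obtain ⟨n, hn, hv⟩ := census hbox (smul_frame_fixed (hc.eq.symm) hfU) (by rw [sqNorm_smul, sqNorm_frame]) (by
      have := dotInt_smul h Spor.leechV (frame none)
      rw [hV] at this
      exact this.trans (by decide +kernel)) (by
      have := dotInt_smul h w (frame none)
      rw [hW, hd1, hwd] at this
      change ((h • frame none : leechLattice) : GolayPt → ℤ) (some 0) =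
        s * (8 - ((h • frame none : leechLattice) : GolayPt → ℤ) none)
      rcases hs with rfl | rfl <;> omega) hs
  obtain ⟨g, hg, rfl⟩ := List.mem_map.1 hn
  simp only [g5OK, List.all_eq_true, Bool.and_eq_true] at hok
  obtain ⟨⟨hgc, hgV⟩, hgu⟩ := hok g hg
  have hgval : wordValid g = true := by
    simp only [fixes, Bool.and_eq_true] at hgV; exact hgV.1.1
  have hcg : El g * El wU = El wU * El g := El_rel hgc
  set h' := (El g)⁻¹ * h with hh'
  have hf : h' • frame none = frame none := by
    rw [hh', mul_smul, inv_smul_eq_iff]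
    refine Subtype.ext ?_
    rw [hv, El_frame hgval]
    rfl
  have hc' : Commute h' (El wU) := (Commute.inv_left hcg).mul_left hc
  have hV' : h' • Spor.leechV = Spor.leechV := by
    rw [hh', mul_smul, hV, inv_smul_eq_iff, El_fixes hgV coe_leechV]
  have hW' : h' • w = w := by rw [hh', mul_smul, hW, inv_smul_eq_iff, El_fixes hgu hw]
  obtain ⟨σ, hσ, c, hcs, e⟩ := mem_mono.mp (mem_mono_of_frame (Or.inl hf))
  obtain ⟨hn0, -⟩ := fixes_none (e ▸ Or.inl hf)
  have hVp := congrArg Subtype.val hV'
  rw [e, coe_monomial_smul] at hVp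
  have hc0 : c = ∅ := by
    ext q
    simp only [Finset.notMem_empty, iff_false]
    intro hq
    have := congrFun hVp q
    simp only [signedPerm, if_pos hq] at this
    change -Spor.vecV (σ.symm q) = Spor.vecV q at this
    simp only [Spor.vecV] at this
    split_ifs at this <;> omega
  subst hc0
  have hWp := congrArg Subtype.val hW'
  rw [e, coe_monomial_smul, hw] at hWp
  have h0 : σ (some 0) = some 0 := by
    have h0 := congrFun hWp (σ (some 0))
    simp only [signedPerm, Equiv.symm_apply_apply, Finset.notMem_empty, if_false] at h0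
    rw [hwv, hwv] at h0
    by_contra hne
    have hne' : σ (some 0) ≠ none := fun he => by
      rw [← hn0] at he; exact absurd (σ.injective he) (by decide)
    simp [hne, hne'] at h0
    rcases hs with rfl | rfl <;> omega
  have hcom := hc'.eq
  rw [e, El_wU] at hcom
  simp only [permElt, permHom, MonoidHom.mk'_apply, monomial_mul] at hcom
  have hp := (monomial_injective _ _ _ _ hcom).1
  have hσ22 : σ ∈ Spor.M22 := GolayOutM22.mem_iff.2 ⟨hσ, hn0, h0⟩
  set V : Equiv.Perm GolayPt := permOf GolayOutConst.pV22 with hV22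
  have hVU : V * permOf pU = permOf GolayOutConst.pU2 * V := by
    refine Equiv.ext fun p => ?_
    simp only [hV22, Equiv.Perm.mul_apply, permOf_apply (by decide +kernel : valid GolayOutConst.pV22 = true),
      permOf_apply (valid_of_good pU_good), permOf_apply (by decide +kernel : valid GolayOutConst.pU2 = true)]
    revert p
    decide +kernel
  have hVmem : V ∈ Spor.M22 := GolayOutM22.gV.2
  obtain ⟨s', hs', hsV⟩ := GolaySolve.exists_sol GolayOutM22.chainU GolayOutM22.memU GolayOutM22.sizeU
    (x := GolayOutConst.pU) (y := GolayOutConst.pU2) (r := 2) (es := GolayOutDataM22.esV)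
    (sols := GolayOutDataM22.solsV) (by decide +kernel) (mul_mem hVmem hσ22) (by
      show V * σ * permOf pU = permOf GolayOutConst.pU2 * (V * σ)
      rw [mul_assoc, hp, ← mul_assoc, hVU, mul_assoc])
  have key : ∀ x ∈ GolayOutDataM22.solsV, valid x = true ∧ (List.range 5).any (fun k =>
      GolayOutTool.sameWord [x] (GolayOutConst.pV22 :: List.replicate k pU)) = true := by decide +kernel
  obtain ⟨hxv, hk⟩ := key s' hs'
  simp only [List.any_eq_true, List.mem_range] at hk
  obtain ⟨k, hk5, hk⟩ := hk
  have hσk : σ = permOf pU ^ k := by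
    have := GolayOutTool.prod_eq_of_sameWord (l := [s']) (by simpa using hxv) (fun P hP => by
      rcases List.mem_cons.1 hP with rfl | hP
      · decide +kernel
      · rw [List.eq_of_mem_replicate hP]; exact valid_of_good pU_good) hk
    simp only [List.map_cons, List.map_nil, List.prod_cons, List.prod_nil, mul_one, List.map_replicate,
      List.prod_replicate, ← hsV] at this
    exact mul_left_cancel this
  have key2 : ∀ k < 5, eqOK [m5.getD k none] (rep k wU) = true := by decide +kernel
  have hlen : k < m5.length := by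
    rw [show m5.length = 5 by decide +kernel]; exact hk5
  refine ⟨m5.getD k none :: g, List.mem_flatMap.2 ⟨g, hg, List.mem_map.2
    ⟨_, by rw [List.getD_eq_getElem _ _ hlen]; exact List.getElem_mem hlen, rfl⟩⟩, ?_⟩
  have hh : h' = El [m5.getD k none] := by
    rw [El_eq (key2 k hk5), rep, El_replicate (by decide +kernel), El_wU, permElt, ← map_pow, e]
    exact monomial_congr hσ (pow_mem (permOf_mem_M24 pU_good) k) empty_mem_supports empty_mem_supports hσk rfl
  rw [show m5.getD k none :: g = [m5.getD k none] ++ g from rfl,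
    El_append (eqOK_valid (key2 k hk5)).1 hgval, ← hh, hh', mul_inv_cancel_left]

theorem coe_U {p : GolayPt} : vec cU p = if p = none then 4 else if p = some 0 then 4 * 1 else 0 := by
  revert p; decide +kernel

theorem coe_U' {p : GolayPt} : vec cU' p = if p = none then 4 else if p = some 0 then 4 * (-1) else 0 := by
  revert p; decide +kernel

theorem commute_M {h : Co0} (hV : h • Spor.leechV = Spor.leechV) (hU : h • Spor.leechU = Spor.leechU)
    (hc : Commute h (El wU)) : ∃ x ∈ c5 g5M, h = El x :=
  commute_wU (Or.inl rfl) coe_leechU (fun _ => coe_U) (by decide +kernel) (by decide +kernel) hV hU hc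

theorem commute_H {h : Co0} (hV : h • Spor.leechV = Spor.leechV) (hU : h • Spor.leechU' = Spor.leechU')
    (hc : Commute h (El wU)) : ∃ x ∈ c5 g5H, h = El x :=
  commute_wU (Or.inr rfl) coe_leechU' (fun _ => coe_U') (by decide +kernel) (by decide +kernel) hV hU hc

end Cfsg.Agent.LeechCent5
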