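import Cfsg.Agent.Lib.LeechCensus
import Cfsg.Agent.Lib.LeechOrder

/-!
Orbits of joint stabilisers of up to three short lattice vectors.

A generator is a word in monomial maps and `xi`; the orbit of a vector is recomputed from a
breadth-first script, sorted, and compared with the census of all vectors with the same products.
-/

set_option autoImplicit false
set_option linter.constructorNameAsVariable false

open scoped Pointwise

namespace Cfsg.Agent.LeechCert

open Cfsg Cfsg.Agent.GolayBasic Cfsg.Agent.LeechBasic Cfsg.Agent.LeechAut Cfsg.Agent.LeechXi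
open Cfsg.Agent.LeechOrbit Cfsg.Agent.LeechCount
open Cfsg.Agent.GolayPerm (pimg pts mem_pts good permOf permOf_mem_M24 permOf_apply valid_of_good pfun pimg_lt)

/-- A five-digit field. -/
def dg (n s : ℕ) : ℕ := Nat.land (Nat.shiftRight n s) 31

theorem dg_eq (n s : ℕ) : dg n s = (n >>> s) &&& 31 := rfl

/-- Number with given fields. -/
def horner : List ℕ → ℕ
  | [] => 0
  | a :: l => a + 32 * horner l

/-- `horner` after `map`, by primitive recursion (cheap for the kernel). -/
noncomputable def hornerMap {α : Type} (f : α → ℕ) (l : List α) : ℕ :=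
  List.rec 0 (fun a _ ih => Nat.add (f a) (Nat.mul 32 ih)) l

theorem hornerMap_eq {α : Type} (f : α → ℕ) : ∀ l : List α, hornerMap f l = horner (l.map f)
  | [] => rfl
  | a :: l => by
    rw [List.map_cons, horner, ← hornerMap_eq f l]; rfl

/-- Evaluate the number before passing it on. -/
def force {α : Type} (n : ℕ) (k : ℕ → α) : α := Nat.casesOn n (k 0) (fun m => k (m + 1))

theorem force_eq {α : Type} (n : ℕ) (k : ℕ → α) : force n k = k n := by cases n <;> rfl

theorem dg_horner : ∀ l : List ℕ, (∀ a ∈ l, a < 32) → ∀ i, dg (horner l) (5 * i) = l.getD i 0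
  | [], _, i => by simp [dg, horner]
  | a :: l, h, 0 => by
    have := h a List.mem_cons_self
    rw [dg_eq, show (31 : ℕ) = 2 ^ 5 - 1 by norm_num, Nat.and_two_pow_sub_one_eq_mod, horner]
    simp
    omega
  | a :: l, h, i + 1 => by
    have := h a List.mem_cons_self
    rw [List.getD_cons_succ, ← dg_horner l (fun b hb => h b (List.mem_cons_of_mem _ hb)) i, dg_eq, dg_eq,
      horner, show 5 * (i + 1) = 5 + 5 * i by ring, Nat.shiftRight_add,
      show (a + 32 * horner l) >>> 5 = horner l by rw [Nat.shiftRight_eq_div_pow]; omega]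

theorem dig_eq_dg (n i : ℕ) : dig n i = (dg n (5 * i) : ℤ) - 16 := rfl

theorem dg_lt (n s : ℕ) : dg n s < 32 := Nat.lt_succ_of_le Nat.and_le_right

/-- A step: `none` is the non-monomial map, otherwise a permutation, a sign mask and their table. -/
abbrev Step : Type := Option (ℕ × ℕ × List (ℕ × Bool))

/-- Table of the non-monomial map: sign, own field, the fields of the tetrad. -/
def xiTab : List (Bool × ℕ × ℕ × ℕ × ℕ × ℕ) :=
  [(true, 0, 0, 5, 10, 15), (true, 5, 0, 5, 10, 15), (true, 10, 0, 5, 10, 15), (true, 15, 0, 5, 10, 15),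
   (false, 20, 20, 35, 50, 60), (false, 25, 25, 70, 85, 115), (false, 30, 30, 45, 55, 110),
   (false, 35, 20, 35, 50, 60), (false, 40, 40, 75, 80, 95), (false, 45, 30, 45, 55, 110),
   (false, 50, 20, 35, 50, 60), (false, 55, 30, 45, 55, 110), (false, 60, 20, 35, 50, 60),
   (false, 65, 65, 90, 100, 105), (false, 70, 25, 70, 85, 115), (false, 75, 40, 75, 80, 95),
   (false, 80, 40, 75, 80, 95), (false, 85, 25, 70, 85, 115), (false, 90, 65, 90, 100, 105),
   (false, 95, 40, 75, 80, 95), (false, 100, 65, 90, 100, 105), (false, 105, 65, 90, 100, 105),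
   (false, 110, 30, 45, 55, 110), (false, 115, 25, 70, 85, 115)]

/-- One field of the image under the non-monomial map. -/
def xiEntry (n : ℕ) (q : Bool × ℕ × ℕ × ℕ × ℕ × ℕ) : ℕ :=
  force ((Nat.div (Nat.add (Nat.add (dg n q.2.2.1) (dg n q.2.2.2.1))
      (Nat.add (dg n q.2.2.2.2.1) (dg n q.2.2.2.2.2))) 2)) fun h =>
    bif q.1 then Nat.sub h (dg n q.2.1) else Nat.sub (Nat.add (dg n q.2.1) 32) h

theorem xiEntry_eq (n : ℕ) (q : Bool × ℕ × ℕ × ℕ × ℕ × ℕ) : xiEntry n q =
    bif q.1 then ((dg n q.2.2.1 + dg n q.2.2.2.1) + (dg n q.2.2.2.2.1 + dg n q.2.2.2.2.2)) / 2 - dg n q.2.1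
    else dg n q.2.1 + 32 - ((dg n q.2.2.1 + dg n q.2.2.2.1) + (dg n q.2.2.2.2.1 + dg n q.2.2.2.2.2)) / 2 := by
  rw [xiEntry, force_eq]; rfl

/-- One field of the image under a monomial map. -/
def monoEntry (n : ℕ) (q : ℕ × Bool) : ℕ := bif q.2 then Nat.sub 32 (dg n q.1) else dg n q.1

theorem monoEntry_eq (n : ℕ) (q : ℕ × Bool) : monoEntry n q = bif q.2 then 32 - dg n q.1 else dg n q.1 := rfl

/-- Apply a step to an encoded vector. -/
noncomputable def applyStep (n : ℕ) (s : Step) : ℕ :=
  force n fun n => Option.rec (hornerMap (xiEntry n) xiTab) (fun s => hornerMap (monoEntry n) s.2.2) s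

theorem applyStep_none (n : ℕ) : applyStep n none = horner (xiTab.map (xiEntry n)) := by
  rw [applyStep, force_eq, ← hornerMap_eq]

theorem applyStep_some (n : ℕ) (s : ℕ × ℕ × List (ℕ × Bool)) :
    applyStep n (some s) = horner (s.2.2.map (monoEntry n)) := by
  rw [applyStep, force_eq, ← hornerMap_eq]

/-- Apply a word, first step first. -/
noncomputable def applyWord : List Step → ℕ → ℕ
  | [], n => n
  | s :: w, n => applyWord w (applyStep n s)

/-- A step is given correctly. -/
def stepValid : Step → Bool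
  | none => true
  | some s => good s.1 && inCode s.2.1 && (s.2.2.length == 24) &&
      pts.all fun p => s.2.2.getD (pimg s.1 p) (0, false) == (5 * p, s.2.1.testBit (pimg s.1 p))

theorem xiTab_spec : ∀ p : GolayPt, ∃ a b c d : ℕ, a < 24 ∧ b < 24 ∧ c < 24 ∧ d < 24 ∧
    xiTab.getD (idx p) (false, 0, 0, 0, 0, 0) = (decide (tet p = 0), 5 * idx p, 5 * a, 5 * b, 5 * c, 5 * d) ∧
    (Finset.univ.filter fun r => tet r = tet p) = [pt a, pt b, pt c, pt d].toFinset ∧
    [pt a, pt b, pt c, pt d].Nodup := by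
  intro p
  obtain ⟨q, hq, h⟩ : ∃ q ∈ tetTable,
      xiTab.getD (idx p) (false, 0, 0, 0, 0, 0) =
        (decide (tet p = 0), 5 * idx p, 5 * q.2.1, 5 * q.2.2.1, 5 * q.2.2.2.1, 5 * q.2.2.2.2) ∧
      (Finset.univ.filter fun r => tet r = tet p) =
        ([pt q.2.1, pt q.2.2.1, pt q.2.2.2.1, pt q.2.2.2.2].toFinset) ∧
      [pt q.2.1, pt q.2.2.1, pt q.2.2.2.1, pt q.2.2.2.2].Nodup := by
    revert p; decide +kernel
  have hlt : ∀ i ∈ tetTable, i.2.1 < 24 ∧ i.2.2.1 < 24 ∧ i.2.2.2.1 < 24 ∧ i.2.2.2.2 < 24 := by decide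
  obtain ⟨l1, l2, l3, l4⟩ := hlt q hq
  exact ⟨_, _, _, _, l1, l2, l3, l4, h⟩

theorem abs_le_of_sqNorm {x : GolayPt → ℤ} (h : sqNorm x ≤ 80) (p : GolayPt) : -8 ≤ x p ∧ x p ≤ 8 := by
  have := mem_allVals_of_sqNorm (x := x) (by omega) p
  simp only [allVals, List.mem_cons, List.not_mem_nil, or_false] at this
  omega

theorem vec_horner {l : List ℕ} (hl : l.length = 24) {y : GolayPt → ℤ} (hy : sqNorm y ≤ 80)
    (h : ∀ p, (l.getD (idx p) 0 : ℤ) = y p + 16) : vec (horner l) = y := by
  have hlt : ∀ a ∈ l, a < 32 := by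
    intro a ha
    obtain ⟨i, hi, rfl⟩ := List.mem_iff_getElem.mp ha
    rw [hl] at hi
    have h1 := h (pt i)
    rw [idx_pt hi, List.getD_eq_getElem _ _ (by omega)] at h1
    have := abs_le_of_sqNorm hy (pt i)
    omega
  funext p
  rw [vec, dig_eq_dg, dg_horner l hlt, h p]
  ring

theorem exists_step {s : Step} (hs : stepValid s = true) :
    ∃ g : Co0, ∀ (v : leechLattice) (n : ℕ), sqNorm (v : GolayPt → ℤ) ≤ 80 → (v : GolayPt → ℤ) = vec n →
      ((g • v : leechLattice) : GolayPt → ℤ) = vec (applyStep n s) := by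
  rcases s with - | ⟨P, m, tab⟩
  · refine ⟨xi, fun v n hv hn => ?_⟩
    have hb : sqNorm ((xi • v : leechLattice) : GolayPt → ℤ) ≤ 80 := by rw [sqNorm_smul]; exact hv
    rw [applyStep_none, vec_horner rfl hb (fun p => ?_)]
    obtain ⟨a, b, c, d, la, lb, lc, ld, htab, hset, hnd⟩ := xiTab_spec p
    have hlen : idx p < xiTab.length := idx_lt p
    have hbd := abs_le_of_sqNorm hb p
    rw [coe_xi_smul, hn, xiFun, tetSum, hset, List.sum_toFinset _ hnd] at hbd ⊢
    rw [List.getD_eq_getElem _ _ (by simpa using hlen), List.getElem_map,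
      ← List.getD_eq_getElem _ (false, 0, 0, 0, 0, 0) hlen, htab]
    simp only [List.map_cons, List.map_nil, List.sum_cons, List.sum_nil, vec_pt _ la, vec_pt _ lb, vec_pt _ lc,
      vec_pt _ ld, vec, dig_eq_dg, idx_pt la, idx_pt lb, idx_pt lc, idx_pt ld] at hbd ⊢
    by_cases h0 : tet p = 0
    · simp only [h0, decide_true, xiEntry_eq, cond_true, if_true] at hbd ⊢
      omega
    · simp only [h0, decide_false, xiEntry_eq, cond_false, if_false] at hbd ⊢
      omega
  · simp only [stepValid, Bool.and_eq_true, List.all_eq_true, beq_iff_eq] at hs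
    obtain ⟨⟨⟨hP, hm⟩, hlen⟩, htab⟩ := hs
    refine ⟨monomial _ (permOf_mem_M24 hP) (mset m) ((mset_mem_supports (inCode_lt hm)).2 hm),
      fun v n hv hn => ?_⟩
    have hb := sqNorm_smul
      (monomial _ (permOf_mem_M24 hP) (mset m) ((mset_mem_supports (inCode_lt hm)).2 hm)) v
    rw [coe_monomial_smul, hn] at hb ⊢
    rw [hn] at hv
    rw [applyStep_some, vec_horner (by simpa using hlen) (hb.trans_le hv) (fun q => ?_)]
    obtain ⟨p, rfl⟩ := (permOf P).surjective q
    have hvd := valid_of_good hP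
    have he : idx (permOf P p) = pimg P (idx p) := by
      rw [permOf_apply hvd, pfun, idx_pt (pimg_lt hvd (idx_lt p))]
    have hlt : pimg P (idx p) < tab.length := by rw [hlen]; exact pimg_lt hvd (idx_lt p)
    rw [he, List.getD_eq_getElem _ _ (by simpa using hlt), List.getElem_map,
      ← List.getD_eq_getElem _ (0, false) hlt, htab _ (mem_pts.2 (idx_lt p))]
    have := dg_lt n (5 * idx p)
    simp only [signedPerm, Equiv.symm_apply_apply, mem_mset, he, vec, dig_eq_dg, monoEntry_eq]
    cases m.testBit (pimg P (idx p)) <;> simp <;> omega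

/-- A valid word. -/
def wordValid (w : List Step) : Bool := w.all stepValid

theorem exists_word : ∀ {w : List Step}, wordValid w = true →
    ∃ g : Co0, ∀ (v : leechLattice) (n : ℕ), sqNorm (v : GolayPt → ℤ) ≤ 80 → (v : GolayPt → ℤ) = vec n →
      ((g • v : leechLattice) : GolayPt → ℤ) = vec (applyWord w n)
  | [], _ => ⟨1, fun v n _ hn => by rw [one_smul, applyWord, hn]⟩
  | s :: w, h => by
    simp only [wordValid, List.all_cons, Bool.and_eq_true] at h
    obtain ⟨g, hg⟩ := exists_step h.1
    obtain ⟨k, hk⟩ := exists_word (w := w) h.2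
    exact ⟨k * g, fun v n hv hn => by
      rw [mul_smul]; exact hk _ _ (by rw [sqNorm_smul]; exact hv) (hg v n hv hn)⟩

/-- An automorphism fixing the encoded vectors. -/
def Fixes (F : ℕ × ℕ × ℕ) (g : Co0) : Prop :=
  ∀ v : leechLattice, ((v : GolayPt → ℤ) = vec F.1 ∨ (v : GolayPt → ℤ) = vec F.2.1 ∨
    (v : GolayPt → ℤ) = vec F.2.2) → g • v = v

theorem fixes_one (F : ℕ × ℕ × ℕ) : Fixes F 1 := fun v _ => one_smul _ v

theorem fixes_mul {F : ℕ × ℕ × ℕ} {g h : Co0} (hg : Fixes F g) (hh : Fixes F h) : Fixes F (g * h) :=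
  fun v hv => by rw [mul_smul, hh v hv, hg v hv]

theorem fixes_inv {F : ℕ × ℕ × ℕ} {g : Co0} (hg : Fixes F g) : Fixes F g⁻¹ :=
  fun v hv => by rw [inv_smul_eq_iff, hg v hv]

/-- Norm of an encoded vector at most 80. -/
def smallVec (n : ℕ) : Bool := decide ((pts.map fun i => dig n i ^ 2).sum ≤ 80)

theorem sqNorm_vec (n : ℕ) : sqNorm (vec n) = (pts.map fun i => dig n i ^ 2).sum := by
  rw [show pts = List.range 24 from rfl, ← List.sum_toFinset _ List.nodup_range, List.toFinset_range,
    Finset.sum_range, sqNorm]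
  exact (Finset.sum_equiv idxEquiv (fun _ => by simp) fun p _ => rfl)

/-- A word fixes the encoded vectors. -/
noncomputable def fixOK (F : ℕ × ℕ × ℕ) (w : List Step) : Bool :=
  wordValid w && (applyWord w F.1 == F.1) && (applyWord w F.2.1 == F.2.1) && (applyWord w F.2.2 == F.2.2)

/-- The fixed vectors are short. -/
def smallF (F : ℕ × ℕ × ℕ) : Bool := smallVec F.1 && smallVec F.2.1 && smallVec F.2.2

theorem exists_fixing {F : ℕ × ℕ × ℕ} (hF : smallF F = true) {w : List Step} (h : fixOK F w = true) :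
    ∃ g : Co0, Fixes F g ∧ ∀ (v : leechLattice) (n : ℕ), sqNorm (v : GolayPt → ℤ) ≤ 80 →
      (v : GolayPt → ℤ) = vec n → ((g • v : leechLattice) : GolayPt → ℤ) = vec (applyWord w n) := by
  simp only [fixOK, Bool.and_eq_true, beq_iff_eq] at h
  simp only [smallF, smallVec, Bool.and_eq_true, decide_eq_true_eq, ← sqNorm_vec] at hF
  obtain ⟨g, hg⟩ := exists_word h.1.1.1
  refine ⟨g, fun v hv => Subtype.ext ?_, hg⟩
  rcases hv with hv | hv | hv
  · rw [hg v _ (hv ▸ hF.1.1) hv, h.1.1.2, hv]
  · rw [hg v _ (hv ▸ hF.1.2) hv, h.1.2, hv]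
  · rw [hg v _ (hv ▸ hF.2) hv, h.2, hv]

/-! ### breadth-first orbits -/

/-- Images of a point selected by a bit mask. -/
noncomputable def childrenOf : List (List Step) → ℕ → ℕ → List ℕ
  | [], _, _ => []
  | w :: ws, m, p => if m % 2 = 1 then applyWord w p :: childrenOf ws (m / 2) p else childrenOf ws (m / 2) p

/-- The next layer. -/
noncomputable def nextLayer (gens : List (List Step)) (B : ℕ) : List ℕ → ℕ → List ℕ
  | [], _ => []
  | p :: ps, S => childrenOf gens (S % B) p ++ nextLayer gens B ps (S / B)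

/-- All layers. -/
noncomputable def orbitList (gens : List (List Step)) (B : ℕ) : List ℕ → List ℕ → List ℕ
  | [], layer => layer
  | S :: Ss, layer => layer ++ orbitList gens B Ss (nextLayer gens B layer S)

/-- Merge of sorted lists, by primitive recursion. -/
noncomputable def merge (a : List ℕ) : List ℕ → List ℕ :=
  List.rec (fun b => b) (fun x xs ih => fun b =>
    List.rec (x :: xs) (fun y ys ih2 => bif Nat.blt x y then x :: ih (y :: ys) else y :: ih2) b) a

/-- Merge neighbours. -/
noncomputable def mergePass : List (List ℕ) → List (List ℕ)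
  | a :: b :: rest => merge a b :: mergePass rest
  | l => l

/-- Repeated passes. -/
noncomputable def mergeAll : ℕ → List (List ℕ) → List (List ℕ)
  | 0, l => l
  | k + 1, l => mergeAll k (mergePass l)

/-- Sorting. -/
noncomputable def msort (l : List ℕ) : List ℕ := (mergeAll 15 (l.map fun a => [a])).flatten

/-- Strictly increasing codes of given number, all above a bound. -/
def ascCount : ℕ → List ℕ → ℕ → Bool
  | lo, [], k => Nat.beq k 0 && Nat.ble lo 1329227995784915872903807060280344576
  | lo, a :: l, k => Nat.ble lo a && Nat.ble 1 k && ascCount (Nat.succ a) l (Nat.sub k 1)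

theorem mem_merge : ∀ (a b : List ℕ) (x : ℕ), x ∈ merge a b → x ∈ a ∨ x ∈ b := by
  intro a
  induction a with
  | nil => exact fun b x h => Or.inr h
  | cons u us ih =>
    intro b
    induction b with
    | nil => exact fun x h => Or.inl h
    | cons v vs ih2 =>
      intro x h
      change x ∈ bif Nat.blt u v then u :: merge us (v :: vs) else v :: merge (u :: us) vs at h
      cases hb : Nat.blt u v <;> rw [hb] at h
      · rcases List.mem_cons.mp h with rfl | h
        · exact Or.inr List.mem_cons_self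
        · rcases ih2 x h with h | h
          · exact Or.inl h
          · exact Or.inr (List.mem_cons_of_mem _ h)
      · rcases List.mem_cons.mp h with rfl | h
        · exact Or.inl List.mem_cons_self
        · rcases ih _ x h with h | h
          · exact Or.inl (List.mem_cons_of_mem _ h)
          · exact Or.inr h

theorem mem_mergePass : ∀ (l : List (List ℕ)) (x : ℕ), x ∈ (mergePass l).flatten → x ∈ l.flatten
  | [], x, h => h
  | [a], x, h => h
  | a :: b :: rest, x, h => by
    simp only [mergePass, List.flatten_cons, List.mem_append] at h ⊢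
    rcases h with h | h
    · rcases mem_merge _ _ x h with h | h
      · exact Or.inl h
      · exact Or.inr (Or.inl h)
    · exact Or.inr (Or.inr (mem_mergePass rest x h))

theorem mem_msort {l : List ℕ} {x : ℕ} (h : x ∈ msort l) : x ∈ l := by
  have key : ∀ (k : ℕ) (L : List (List ℕ)), x ∈ (mergeAll k L).flatten → x ∈ L.flatten := by
    intro k
    induction k with
    | zero => exact fun L h => h
    | succ k ih => exact fun L h => mem_mergePass L x (ih _ h)
  have := key _ _ h
  simp at this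
  exact this

theorem ascCount_spec : ∀ (l : List ℕ) (lo k : ℕ), ascCount lo l k = true →
    l.length = k ∧ lo ≤ 2 ^ 120 ∧ l.Nodup ∧ ∀ a ∈ l, lo ≤ a ∧ a < 2 ^ 120
  | [], lo, k, h => by
    simp only [ascCount, Bool.and_eq_true, Nat.beq_eq, Nat.ble_eq] at h
    exact ⟨by simp [h.1], h.2, List.nodup_nil, by simp⟩
  | a :: l, lo, k, h => by
    simp only [ascCount, Bool.and_eq_true, Nat.ble_eq, Nat.sub_eq] at h
    obtain ⟨h1, h2, h3, h4⟩ := ascCount_spec l _ _ h.2
    refine ⟨by simp only [List.length_cons]; omega, by omega,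
      List.nodup_cons.mpr ⟨fun ha => by have := (h4 a ha).1; omega, h3⟩, fun b hb => ?_⟩
    rcases List.mem_cons.mp hb with rfl | hb
    · exact ⟨h.1.1, by omega⟩
    · have := h4 b hb; omega

theorem eq_of_vec_eq {a b : ℕ} (ha : a < 2 ^ 120) (hb : b < 2 ^ 120) (h : vec a = vec b) : a = b := by
  refine Nat.eq_of_testBit_eq fun j => ?_
  by_cases hj : j < 120
  · have := congrFun h (pt (j / 5))
    rw [vec_pt _ (by omega), vec_pt _ (by omega), dig_eq_dg, dig_eq_dg, sub_left_inj, Nat.cast_inj] at this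
    have hb5 := congrArg (fun n => Nat.testBit n (j % 5)) this
    simp only [dg_eq, Nat.testBit_and, Nat.testBit_shiftRight,
      show Nat.testBit 31 (j % 5) = true by
        rw [show (31 : ℕ) = 2 ^ 5 - 1 by norm_num, Nat.testBit_two_pow_sub_one]; simp; omega,
      Bool.and_true] at hb5
    rwa [show 5 * (j / 5) + j % 5 = j by omega] at hb5
  · rw [Nat.testBit_lt_two_pow (lt_of_lt_of_le ha (Nat.pow_le_pow_right (by norm_num) (by omega))),
      Nat.testBit_lt_two_pow (lt_of_lt_of_le hb (Nat.pow_le_pow_right (by norm_num) (by omega)))]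

/-- Full check of an orbit certificate. -/
noncomputable def certOK (F : ℕ × ℕ × ℕ) (root : ℕ) (gens : List (List Step)) (B : ℕ) (scripts : List ℕ) (count : ℕ) :
    Bool :=
  smallF F && gens.all (fixOK F) && ascCount 0 (msort (orbitList gens B scripts [root])) count

/-- A code is in the orbit of `r`. -/
def InOrbit (F : ℕ × ℕ × ℕ) (r : leechLattice) (c : ℕ) : Prop :=
  ∃ g : Co0, Fixes F g ∧ ((g • r : leechLattice) : GolayPt → ℤ) = vec c

section Orbit

variable {F : ℕ × ℕ × ℕ} {gens : List (List Step)} {r : leechLattice}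

theorem inOrbit_child (hF : smallF F = true) (hg : ∀ w ∈ gens, fixOK F w = true)
    (hr : sqNorm (r : GolayPt → ℤ) ≤ 80) : ∀ (ws : List (List Step)), (∀ w ∈ ws, w ∈ gens) → ∀ (m p : ℕ),
      InOrbit F r p → ∀ c ∈ childrenOf ws m p, InOrbit F r c := by
  intro ws
  induction ws with
  | nil => intro _ m p _ c hc; simp [childrenOf] at hc
  | cons w ws ih =>
    intro hws m p hp c hc
    have hrest := ih (fun w' hw' => hws w' (List.mem_cons_of_mem _ hw')) (m / 2) p hp
    simp only [childrenOf] at hc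
    split_ifs at hc with h
    · rcases List.mem_cons.mp hc with rfl | hc
      · obtain ⟨g, hgf, hgp⟩ := hp
        obtain ⟨k, hkf, hk⟩ := exists_fixing hF (hg w (hws w List.mem_cons_self))
        exact ⟨k * g, fixes_mul hkf hgf, by rw [mul_smul]; exact hk _ _ (by rw [sqNorm_smul]; exact hr) hgp⟩
      · exact hrest c hc
    · exact hrest c hc

theorem inOrbit_next (hF : smallF F = true) (hg : ∀ w ∈ gens, fixOK F w = true)
    (hr : sqNorm (r : GolayPt → ℤ) ≤ 80) (B : ℕ) : ∀ (ps : List ℕ) (S : ℕ),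
      (∀ p ∈ ps, InOrbit F r p) → ∀ c ∈ nextLayer gens B ps S, InOrbit F r c
  | [], S, _, c, hc => by simp [nextLayer] at hc
  | p :: ps, S, hps, c, hc => by
    rcases List.mem_append.mp hc with hc | hc
    · exact inOrbit_child hF hg hr gens (fun _ h => h) _ p (hps p List.mem_cons_self) c hc
    · exact inOrbit_next hF hg hr B ps _ (fun q hq => hps q (List.mem_cons_of_mem _ hq)) c hc

theorem inOrbit_list (hF : smallF F = true) (hg : ∀ w ∈ gens, fixOK F w = true)
    (hr : sqNorm (r : GolayPt → ℤ) ≤ 80) (B : ℕ) : ∀ (Ss layer : List ℕ),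
      (∀ p ∈ layer, InOrbit F r p) → ∀ c ∈ orbitList gens B Ss layer, InOrbit F r c
  | [], layer, hl, c, hc => hl c hc
  | S :: Ss, layer, hl, c, hc => by
    rcases List.mem_append.mp hc with hc | hc
    · exact hl c hc
    · exact inOrbit_list hF hg hr B Ss _ (inOrbit_next hF hg hr B layer S hl) c hc

end Orbit

/-- Lattice vectors of given norm with given products against the encoded vectors. -/
def census (F : ℕ × ℕ × ℕ) (N : ℕ) (d : ℤ × ℤ × ℤ) : Set leechLattice :=
  {x | sqNorm (x : GolayPt → ℤ) = N ∧ dotInt (vec F.1) x = d.1 ∧ dotInt (vec F.2.1) x = d.2.1 ∧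
    dotInt (vec F.2.2) x = d.2.2}

theorem ncard_census {F : ℕ × ℕ × ℕ} {qs : List (List ℕ × ℕ)} (h : LeechCensus.profilesOK F qs = true)
    {N : ℕ} (hN : N < 81) (d : ℤ × ℤ × ℤ) :
    (census F N d).ncard = LeechCensus.censusSum F N d qs := by
  rw [← LeechCensus.ncard_census h hN d, ← Set.ncard_image_of_injective _ Subtype.val_injective]
  congr 1
  ext x
  constructor
  · rintro ⟨v, hv, rfl⟩; exact ⟨v.2, hv⟩
  · rintro ⟨h1, h2⟩; exact ⟨⟨x, h1⟩, h2, rfl⟩

theorem smul_mem_census {F : ℕ × ℕ × ℕ} {N : ℕ} {d : ℤ × ℤ × ℤ} {g : Co0} (hg : Fixes F g)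
    {a b c : leechLattice} (ha : (a : GolayPt → ℤ) = vec F.1) (hb : (b : GolayPt → ℤ) = vec F.2.1)
    (hc : (c : GolayPt → ℤ) = vec F.2.2) {x : leechLattice} (hx : x ∈ census F N d) :
    g • x ∈ census F N d := by
  obtain ⟨h1, h2, h3, h4⟩ := hx
  have key : ∀ u : leechLattice, g • u = u →
      dotInt (u : GolayPt → ℤ) (g • x : leechLattice) = dotInt (u : GolayPt → ℤ) x := by
    intro u hu
    conv_lhs => rw [← hu]
    exact dotInt_smul g u x
  refine ⟨by rw [sqNorm_smul]; exact h1, ?_, ?_, ?_⟩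
  · rw [← ha, key a (hg a (Or.inl ha)), ha]; exact h2
  · rw [← hb, key b (hg b (Or.inr (Or.inl hb))), hb]; exact h3
  · rw [← hc, key c (hg c (Or.inr (Or.inr hc))), hc]; exact h4

/-- The joint stabiliser is transitive on the census set. -/
theorem exists_fixes_smul {F : ℕ × ℕ × ℕ} {root : ℕ} {gens : List (List Step)} {B : ℕ} {scripts : List ℕ}
    {count : ℕ} {N : ℕ} {d : ℤ × ℤ × ℤ} (hc : certOK F root gens B scripts count = true)
    (hcard : (census F N d).ncard = count) (hcount : 0 < count) (hN : N < 81) {a b c : leechLattice}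
    (ha : (a : GolayPt → ℤ) = vec F.1) (hb : (b : GolayPt → ℤ) = vec F.2.1) (hc' : (c : GolayPt → ℤ) = vec F.2.2)
    {r : leechLattice} (hr : (r : GolayPt → ℤ) = vec root) (hrm : r ∈ census F N d)
    {x y : leechLattice} (hx : x ∈ census F N d) (hy : y ∈ census F N d) :
    ∃ g : Co0, Fixes F g ∧ g • x = y := by
  simp only [certOK, Bool.and_eq_true, List.all_eq_true] at hc
  obtain ⟨⟨hF, hgens⟩, hasc⟩ := hc
  obtain ⟨hlen, -, hnd, hbd⟩ := ascCount_spec _ _ _ hasc
  have horb : ∀ p ∈ msort (orbitList gens B scripts [root]), InOrbit F r p := fun p hp =>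
    inOrbit_list hF hgens (by rw [hrm.1]; omega) B scripts [root] (fun q hq => by
      rw [List.mem_singleton] at hq; subst hq
      exact ⟨1, fixes_one F, by rw [one_smul, hr]⟩) p (mem_msort hp)
  generalize msort (orbitList gens B scripts [root]) = L at hlen hnd hbd horb
  set O : Set leechLattice := {z | ∃ g : Co0, Fixes F g ∧ g • r = z} with hO
  have hsub : O ⊆ census F N d := by
    rintro z ⟨g, hg, rfl⟩
    exact smul_mem_census hg ha hb hc' hrm
  have hfin : (census F N d).Finite := Set.finite_of_ncard_pos (by rw [hcard]; exact hcount)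
  have hle : count ≤ O.ncard := by
    have hsubL : (L.toFinset.image vec : Set (GolayPt → ℤ)) ⊆ Subtype.val '' O := by
      intro z hz
      obtain ⟨p, hp, rfl⟩ := Finset.mem_image.mp (Finset.mem_coe.mp hz)
      obtain ⟨g, hg, hgp⟩ := horb p (List.mem_toFinset.mp hp)
      exact ⟨g • r, ⟨g, hg, rfl⟩, hgp⟩
    have := Set.ncard_le_ncard hsubL ((hfin.subset hsub).image _)
    rw [Set.ncard_coe_finset, Set.ncard_image_of_injective _ Subtype.val_injective,
      Finset.card_image_of_injOn (fun p hp q hq h => eq_of_vec_eq (hbd p (List.mem_toFinset.mp hp)).2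
        (hbd q (List.mem_toFinset.mp hq)).2 h), List.toFinset_card_of_nodup hnd, hlen] at this
    exact this
  have heq : O = census F N d := Set.eq_of_subset_of_ncard_le hsub (by rw [hcard]; exact hle) hfin
  rw [← heq] at hx hy
  obtain ⟨g, hg, rfl⟩ := hx
  obtain ⟨k, hk, rfl⟩ := hy
  exact ⟨k * g⁻¹, fixes_mul hk (fixes_inv hg), by rw [mul_smul, inv_smul_smul]⟩

end Cfsg.Agent.LeechCert
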