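import Cfsg.Agent.Lib.LeechCert

/-!
Fixed vectors and the histogram of the code against their classes.
-/

set_option autoImplicit false

namespace Cfsg.Agent.LeechCert.Fix1

/-- fixed vectors -/
def fixedCodes : ℕ × ℕ × ℕ :=
  (852206658587909773353650494292640276,
   686053159114795289240674611757597200,
   686053159114795289240674611757597200)

/-- profiles of the code -/
def profiles : List (List ℕ × ℕ) :=
  [([0, 0], 1),
   ([6, 2], 77),
   ([8, 0], 330),
   ([7, 1], 352),
   ([11, 1], 1344),
   ([10, 2], 616),
   ([12, 0], 616),
   ([14, 2], 330),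
   ([15, 1], 352),
   ([16, 0], 77),
   ([22, 2], 1)]

theorem profiles_ok : LeechCensus.profilesOK fixedCodes profiles = true := by decide +kernel

theorem ncard_neg_eight_aux : LeechCensus.censusSum fixedCodes 32 (-8, 0, 0) profiles = 47104 := by decide +kernel

theorem ncard_neg_eight : (census fixedCodes 32 (-8, 0, 0)).ncard = 47104 :=
  (ncard_census profiles_ok (by norm_num) _).trans ncard_neg_eight_aux

theorem ncard_orth_aux : LeechCensus.censusSum fixedCodes 32 (0, 0, 0) profiles = 93150 := by decide +kernel

theorem ncard_orth : (census fixedCodes 32 (0, 0, 0)).ncard = 93150 :=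
  (ncard_census profiles_ok (by norm_num) _).trans ncard_orth_aux

end Cfsg.Agent.LeechCert.Fix1
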