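import Cfsg.Agent.Lib.LeechCert

/-!
Fixed vectors and the histogram of the code against their classes.
-/

set_option autoImplicit false

namespace Cfsg.Agent.LeechCert.Fix2

/-- fixed vectors -/
def fixedCodes : ℕ × ℕ × ℕ :=
  (477021337197006099550156565987704303,
   686053159114795289240674611757597200,
   686053159114795289240674611757597200)

/-- profiles of the code -/
def profiles : List (List ℕ × ℕ) :=
  [([0, 0], 1),
   ([7, 1], 253),
   ([8, 0], 506),
   ([12, 0], 1288),
   ([11, 1], 1288),
   ([15, 1], 506),
   ([16, 0], 253),
   ([23, 1], 1)]

theorem profiles_ok : LeechCensus.profilesOK fixedCodes profiles = true := by decide +kernel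

end Cfsg.Agent.LeechCert.Fix2
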