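import Cfsg.Agent.Lib.LeechCert

/-!
Fixed vectors and the histogram of the code against their classes.
-/

set_option autoImplicit false

namespace Cfsg.Agent.LeechCert.Fix3

/-- fixed vectors -/
def fixedCodes : ℕ × ℕ × ℕ :=
  (477021337197006099550156565987704303,
   519899659641680805127698729222554124,
   686053159114795289240674611757597200)

/-- profiles of the code -/
def profiles : List (List ℕ × ℕ) :=
  [([0, 0, 0], 1),
   ([1, 6, 1], 77),
   ([0, 8, 0], 330),
   ([0, 7, 1], 176),
   ([1, 7, 0], 176),
   ([1, 11, 0], 672),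
   ([0, 11, 1], 672),
   ([1, 10, 1], 616),
   ([0, 12, 0], 616),
   ([1, 14, 1], 330),
   ([0, 15, 1], 176),
   ([1, 15, 0], 176),
   ([0, 16, 0], 77),
   ([1, 22, 1], 1)]

theorem profiles_ok : LeechCensus.profilesOK fixedCodes profiles = true := by decide +kernel

end Cfsg.Agent.LeechCert.Fix3
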