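import Cfsg.Agent.Lib.LeechCertFix2

/-!
Certificate for one stabiliser orbit of lattice vectors.
-/

set_option autoImplicit false

namespace Cfsg.Agent.LeechCert.OrbB

open Fix2 (fixedCodes profiles profiles_ok)

/-- first point -/
def root : ℕ := 519899659641680805127698729222554124

/-- generators -/
def gens : List (List Step) :=
  [[some (961357735365277179220784994356698208, 0,
      [(0, false), (75, false), (90, false), (5, false), (110, false), (85, false), (80, false), (10, false), (30, false), (100, false), (70, false), (60, false), (35, false), (55, false), (65, false), (40, false), (45, false), (95, false), (50, false), (105, false), (15, false), (25, false), (20, false), (115, false)])],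
   [some (981884805914149226480670352472215779, 0,
      [(25, false), (35, false), (55, false), (0, false), (10, false), (90, false), (15, false), (5, false), (50, false), (20, false), (100, false), (45, false), (80, false), (105, false), (70, false), (65, false), (40, false), (95, false), (75, false), (60, false), (110, false), (30, false), (85, false), (115, false)])],
   [some (969215704757831813215208409375852961, 0,
      [(100, false), (0, false), (65, false), (90, false), (70, false), (80, false), (30, false), (20, false), (25, false), (85, false), (110, false), (40, false), (95, false), (5, false), (55, false), (45, false), (35, false), (50, false), (10, false), (75, false), (15, false), (105, false), (60, false), (115, false)])],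
   [some (196838751625837762864190335615609187, 14902053,
      [(60, true), (75, false), (70, true), (0, false), (115, false), (30, true), (50, false), (20, false), (80, true), (85, true), (10, false), (5, false), (95, false), (55, true), (100, true), (25, false), (35, true), (45, true), (65, false), (15, false), (105, false), (90, true), (40, true), (110, true)]),
    none,
    some (508021801015221303749152529779395762, 15104324,
      [(70, false), (45, false), (75, true), (10, false), (15, false), (5, false), (90, true), (110, false), (35, true), (20, false), (80, false), (105, true), (115, true), (25, true), (30, true), (60, false), (50, false), (95, true), (0, true), (65, false), (55, false), (40, true), (100, true), (85, true)]),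
    none,
    some (314322221120565644617141046450240886, 7221256,
      [(25, false), (35, false), (45, false), (30, true), (105, false), (85, false), (70, false), (115, false), (55, false), (50, false), (20, false), (5, false), (90, true), (80, true), (60, false), (10, false), (95, false), (75, true), (110, true), (65, true), (100, false), (15, true), (0, true), (40, false)])]]

/-- layers -/
def scripts : List ℕ :=
  [0xe,
   0xfeb,
   0xfffff7dfbb,
   0x8b3bc6d6afc27bbbff7f08cbc4fffff18fda,
   0xfb001a144a00b74c842b7b89c0a14ada8e88f2b4830ee247ee9f89bf0dbbc80fc01fc68b115f8c3fe4b0edbfff0880,
   0x428602000080080288b020a0800c00c80202ac00000003009180b88002706a17000b205dca080880000400008080009280200006a1880a0c0c028004007b3ef820870002082fdf410020af56088840788000a808800cc400ad2f3,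
   0x400000000080000000000000220000000800004000000000100211000080030200008800000040002000004080002000018040800000020050002800202a2033802f100050000a000004c0100,
   0x110000000000]

theorem cert : certOK fixedCodes root gens 16 scripts 552 = true := by decide +kernel

theorem census_eq : LeechCensus.censusSum fixedCodes 32 (24, 0, 0) profiles = 552 := by decide +kernel

theorem ncard : (census fixedCodes 32 (24, 0, 0)).ncard = 552 :=
  (ncard_census profiles_ok (by norm_num) _).trans census_eq

end Cfsg.Agent.LeechCert.OrbB
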