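import Cfsg.Agent.Lib.LeechCertFix3

/-!
Certificate for one stabiliser orbit of lattice vectors.
-/

set_option autoImplicit false

namespace Cfsg.Agent.LeechCert.OrbD

open Fix3 (fixedCodes profiles profiles_ok)

/-- first point -/
def root : ℕ := 519899659641680805127698729222423056

/-- generators -/
def gens : List (List Step) :=
  [[some (967133278164556605756603013334805600, 0,
      [(0, false), (105, false), (25, false), (5, false), (30, false), (55, false), (50, false), (15, false), (90, false), (110, false), (20, false), (10, false), (80, false), (70, false), (65, false), (85, false), (60, false), (45, false), (75, false), (35, false), (95, false), (100, false), (40, false), (115, false)])],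
   [some (980275914351787324191492553553580224, 0,
      [(0, false), (90, false), (30, false), (15, false), (10, false), (105, false), (5, false), (25, false), (80, false), (60, false), (35, false), (95, false), (40, false), (45, false), (85, false), (75, false), (65, false), (55, false), (20, false), (110, false), (50, false), (100, false), (70, false), (115, false)])],
   [some (974380510768821363662145534143076928, 0,
      [(0, false), (30, false), (20, false), (15, false), (90, false), (35, false), (10, false), (50, false), (60, false), (65, false), (100, false), (85, false), (45, false), (80, false), (110, false), (75, false), (40, false), (70, false), (5, false), (55, false), (105, false), (25, false), (95, false), (115, false)])],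
   [some (30679817395925146966428680130435763, 13629219,
      [(115, true), (20, true), (80, false), (95, false), (85, false), (50, true), (10, false), (65, false), (30, true), (15, true), (100, true), (25, false), (60, true), (45, true), (70, true), (90, true), (40, true), (55, true), (75, true), (0, true), (105, false), (5, false), (35, true), (110, true)]),
    none,
    some (258784077795162200192732444115373472, 14101751,
      [(0, true), (15, true), (40, true), (10, false), (60, true), (30, true), (115, true), (110, true), (85, false), (20, false), (70, true), (105, true), (65, false), (5, true), (35, false), (50, false), (100, true), (90, true), (75, true), (55, false), (95, true), (80, false), (45, true), (25, true)]),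
    none,
    some (929750173012997828760878507593476833, 14847533,
      [(90, true), (0, false), (80, true), (100, true), (45, false), (75, true), (65, false), (40, false), (105, false), (50, true), (10, true), (55, true), (110, false), (15, false), (20, false), (30, true), (35, false), (60, true), (95, false), (70, false), (85, false), (25, true), (115, true), (5, true)])]]

/-- layers -/
def scripts : List ℕ :=
  [0x9,
   0xff,
   0xf4bbdd9f,
   0xf5bd9f1ef9e7def88f9cda8,
   0x88981e913d89b188bd0100ca3b8e190bdb0e601bdbdadfd3f30c1f8671c,
   0x10800000a0104000001001080004100000802000220814005002002004208000012003102044008406032d061a110809b182181090,
   0x800000000008800080001000000000]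

theorem cert : certOK fixedCodes root gens 16 scripts 275 = true := by decide +kernel

theorem census_eq : LeechCensus.censusSum fixedCodes 32 (24, 16, 0) profiles = 275 := by decide +kernel

theorem ncard : (census fixedCodes 32 (24, 16, 0)).ncard = 275 :=
  (ncard_census profiles_ok (by norm_num) _).trans census_eq

end Cfsg.Agent.LeechCert.OrbD
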