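import Cfsg.Agent.Lib.LeechCertFix5

/-!
Certificate for one stabiliser orbit of lattice vectors.
-/

set_option autoImplicit false

namespace Cfsg.Agent.LeechCert.OrbEb

open Fix5 (fixedCodes profiles profiles_ok)

/-- first point -/
def root : ℕ := 519899659641680805127698591783600656

/-- generators -/
def gens : List (List Step) :=
  [[some (980275914351787324191492553553580224, 0,
      [(0, false), (90, false), (30, false), (15, false), (10, false), (105, false), (5, false), (25, false), (80, false), (60, false), (35, false), (95, false), (40, false), (45, false), (85, false), (75, false), (65, false), (55, false), (20, false), (110, false), (50, false), (100, false), (70, false), (115, false)])],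
   [some (974380510768821363662145534143076928, 0,
      [(0, false), (30, false), (20, false), (15, false), (90, false), (35, false), (10, false), (50, false), (60, false), (65, false), (100, false), (85, false), (45, false), (80, false), (110, false), (75, false), (40, false), (70, false), (5, false), (55, false), (105, false), (25, false), (95, false), (115, false)])],
   [some (969952412052033243847481939299780672, 0,
      [(0, false), (20, false), (5, false), (15, false), (30, false), (100, false), (90, false), (105, false), (65, false), (40, false), (25, false), (110, false), (80, false), (60, false), (55, false), (75, false), (45, false), (95, false), (10, false), (70, false), (35, false), (50, false), (85, false), (115, false)])],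
   [some (21561876808897298295672058122965697, 14650325,
      [(115, true), (0, false), (80, true), (45, false), (10, true), (25, false), (35, true), (55, true), (50, true), (90, true), (95, false), (15, true), (85, false), (65, false), (70, false), (30, true), (110, true), (100, true), (75, true), (105, true), (40, true), (60, false), (5, true), (20, true)]),
    none,
    some (963294188492783672779296092975453780, 3752694,
      [(90, false), (100, true), (65, true), (105, false), (95, true), (25, true), (110, true), (75, true), (20, false), (55, true), (80, false), (45, false), (40, false), (15, false), (70, true), (50, false), (35, true), (85, false), (5, false), (60, true), (0, true), (10, true), (30, false), (115, false)]),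
    none,
    some (516292794518522520643835047382160743, 1378634,
      [(65, false), (35, true), (85, false), (30, true), (25, false), (10, false), (95, true), (0, false), (20, true), (60, false), (80, false), (5, true), (115, false), (110, false), (90, false), (70, false), (45, true), (75, false), (15, true), (100, false), (40, true), (55, false), (50, false), (105, false)])],
   [some (296571188567808932154947639153603189, 7592067,
      [(60, true), (100, true), (65, false), (75, false), (110, false), (30, false), (70, false), (115, true), (85, false), (20, false), (90, false), (25, true), (10, true), (95, false), (55, true), (105, true), (45, true), (80, true), (15, false), (5, false), (50, true), (0, true), (40, true), (35, false)]),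
    none,
    some (292656497921460518017773091853520064, 13694730,
      [(0, false), (110, true), (80, false), (25, true), (55, false), (60, false), (5, false), (115, false), (95, true), (75, true), (15, true), (85, false), (40, true), (35, true), (105, true), (30, true), (70, false), (100, false), (50, false), (10, false), (90, true), (20, false), (45, true), (65, true)]),
    none,
    some (18243170908817572742069017874176592, 11884587,
      [(115, true), (105, true), (35, false), (85, true), (50, false), (60, true), (10, false), (80, false), (75, false), (40, false), (95, false), (55, true), (90, true), (15, false), (110, true), (70, false), (0, true), (30, false), (5, true), (45, false), (20, true), (65, true), (25, false), (100, true)])]]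

/-- layers -/
def scripts : List ℕ :=
  [0x1f,
   0x1fc6308,
   0xf1910e7dbfb5f0f,
   0x5440004658f1c08f802000428dc0195803f04730084314,
   0x2040001480520000000401050000100002040a84020204098095b034d0a242f0,
   0x8100000010200000000]

theorem cert : certOK fixedCodes root gens 32 scripts 162 = true := by decide +kernel

theorem census_eq : LeechCensus.censusSum fixedCodes 32 (24, 16, 16) profiles = 162 := by decide +kernel

theorem ncard : (census fixedCodes 32 (24, 16, 16)).ncard = 162 :=
  (ncard_census profiles_ok (by norm_num) _).trans census_eq

end Cfsg.Agent.LeechCert.OrbEb
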