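import Cfsg.Agent.Lib.LeechCertFix4

/-!
Certificate for one stabiliser orbit of lattice vectors.
-/

set_option autoImplicit false

namespace Cfsg.Agent.LeechCert.OrbF

open Fix4 (fixedCodes profiles profiles_ok)

/-- first point -/
def root : ℕ := 519899659641680805127698729222554124

/-- generators -/
def gens : List (List Step) :=
  [[some (974380510768821363662145534143076928, 0,
      [(0, false), (30, false), (20, false), (15, false), (90, false), (35, false), (10, false), (50, false), (60, false), (65, false), (100, false), (85, false), (45, false), (80, false), (110, false), (75, false), (40, false), (70, false), (5, false), (55, false), (105, false), (25, false), (95, false), (115, false)])],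
   [some (980722484200596395698520587850878144, 0,
      [(0, false), (90, false), (30, false), (10, false), (15, false), (65, false), (5, false), (25, false), (60, false), (80, false), (40, false), (50, false), (35, false), (55, false), (70, false), (20, false), (105, false), (45, false), (75, false), (110, false), (95, false), (100, false), (85, false), (115, false)])],
   [some (962655861924580849728200773901356736, 0,
      [(0, false), (40, false), (30, false), (10, false), (15, false), (110, false), (70, false), (25, false), (80, false), (100, false), (35, false), (20, false), (90, false), (50, false), (85, false), (55, false), (65, false), (75, false), (95, false), (105, false), (45, false), (60, false), (5, false), (115, false)])],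
   [some (168226784494188449521873720860690605, 15048437,
      [(45, true), (110, false), (90, true), (100, false), (115, true), (5, true), (60, true), (35, true), (30, false), (85, true), (70, true), (25, true), (50, true), (0, false), (15, false), (65, true), (55, true), (95, false), (10, true), (105, false), (40, false), (80, true), (20, true), (75, true)]),
    none,
    some (338094597766541383408962466926083296, 6714673,
      [(0, true), (80, false), (45, false), (85, false), (110, true), (20, true), (30, false), (5, false), (115, true), (15, false), (25, true), (40, false), (75, true), (35, true), (105, true), (10, false), (55, false), (90, true), (60, true), (95, false), (50, false), (100, true), (70, true), (65, false)]),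
    none,
    some (185167394989396175333065006757006439, 3145329,
      [(25, true), (60, false), (50, false), (5, false), (115, true), (75, true), (90, true), (0, false), (55, false), (40, true), (95, true), (20, true), (80, true), (65, true), (110, true), (85, true), (45, true), (35, true), (15, true), (10, true), (105, false), (70, true), (30, false), (100, false)])]]

/-- layers -/
def scripts : List ℕ :=
  [0x8,
   0xf,
   0xb5ef,
   0xd291badda7ff,
   0x1004108117b01105ac080f078b58d8c,
   0x2000000202002000080008200180100]

theorem cert : certOK fixedCodes root gens 16 scripts 100 = true := by decide +kernel

theorem census_eq : LeechCensus.censusSum fixedCodes 32 (24, -24, 0) profiles = 100 := by decide +kernel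

theorem ncard : (census fixedCodes 32 (24, -24, 0)).ncard = 100 :=
  (ncard_census profiles_ok (by norm_num) _).trans census_eq

end Cfsg.Agent.LeechCert.OrbF
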