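import Cfsg.Agent.Lib.LeechCertFix6

/-!
Certificate for one stabiliser orbit of lattice vectors.
-/

set_option autoImplicit false

namespace Cfsg.Agent.LeechCert.OrbGb

open Fix6 (fixedCodes profiles profiles_ok)

/-- first point -/
def root : ℕ := 602892744438547352392985676767314446

/-- generators -/
def gens : List (List Step) :=
  [[some (980763967072770371293591072154261120, 0,
      [(0, false), (45, false), (20, false), (40, false), (70, false), (10, false), (75, false), (90, false), (65, false), (85, false), (60, false), (95, false), (35, false), (80, false), (15, false), (30, false), (25, false), (105, false), (50, false), (110, false), (5, false), (55, false), (100, false), (115, false)])],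
   [some (969952412052033243847481939299780672, 0,
      [(0, false), (20, false), (5, false), (15, false), (30, false), (100, false), (90, false), (105, false), (65, false), (40, false), (25, false), (110, false), (80, false), (60, false), (55, false), (75, false), (45, false), (95, false), (10, false), (70, false), (35, false), (50, false), (85, false), (115, false)])],
   [some (984363140085273155288445662158951456, 0,
      [(0, false), (5, false), (25, false), (85, false), (90, false), (10, false), (80, false), (60, false), (40, false), (45, false), (105, false), (75, false), (35, false), (100, false), (70, false), (55, false), (30, false), (15, false), (20, false), (95, false), (65, false), (50, false), (110, false), (115, false)])]]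

/-- layers -/
def scripts : List ℕ :=
  [0x7,
   0xff,
   0xddfecf,
   0x210a42b95edeb2,
   0x8840000042e094b6,
   0x80003000004]

theorem cert : certOK fixedCodes root gens 8 scripts 77 = true := by decide +kernel

theorem census_eq : LeechCensus.censusSum fixedCodes 32 (24, -24, 16) profiles = 77 := by decide +kernel

theorem ncard : (census fixedCodes 32 (24, -24, 16)).ncard = 77 :=
  (ncard_census profiles_ok (by norm_num) _).trans census_eq

end Cfsg.Agent.LeechCert.OrbGb
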