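import Cfsg.Agent.Lib.LeechCertFix7

/-!
Certificate for one stabiliser orbit of lattice vectors.
-/

set_option autoImplicit false

namespace Cfsg.Agent.LeechCert.OrbHa

open Fix7 (fixedCodes profiles profiles_ok)

/-- first point -/
def root : ℕ := 685972029476378245280666283997086160

/-- generators -/
def gens : List (List Step) :=
  [[some (984402238616750566983576813236787680, 0,
      [(0, false), (30, false), (20, false), (90, false), (15, false), (40, false), (10, false), (50, false), (65, false), (60, false), (45, false), (105, false), (100, false), (70, false), (95, false), (5, false), (35, false), (80, false), (75, false), (55, false), (85, false), (25, false), (110, false), (115, false)])],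
   [some (962646859440912962280617536895820128, 0,
      [(0, false), (50, false), (100, false), (20, false), (90, false), (110, false), (25, false), (15, false), (10, false), (85, false), (30, false), (5, false), (45, false), (55, false), (60, false), (95, false), (80, false), (40, false), (75, false), (105, false), (70, false), (35, false), (65, false), (115, false)])],
   [some (983460578409025161860289515176306880, 0,
      [(0, false), (40, false), (45, false), (55, false), (75, false), (100, false), (5, false), (70, false), (90, false), (20, false), (10, false), (50, false), (25, false), (60, false), (30, false), (15, false), (65, false), (35, false), (85, false), (95, false), (105, false), (110, false), (80, false), (115, false)])]]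

/-- layers -/
def scripts : List ℕ :=
  [0x7,
   0x1ff,
   0x7effffe,
   0x27ffd6fef7ff7ffbdf7,
   0x1486c0c9f0646d3efd2ee8975e7e6fdf5dddafdfdf367d3a,
   0x812102004200508a030436008844200640000480009695a056bb445a94b080d006e3041380cde59a83ba1,
   0x1000000000000000000008000010040000000800000200004000000401000150]

theorem cert : certOK fixedCodes root gens 8 scripts 330 = true := by decide +kernel

theorem census_eq : LeechCensus.censusSum fixedCodes 32 (16, 0, 0) profiles = 330 := by decide +kernel

theorem ncard : (census fixedCodes 32 (16, 0, 0)).ncard = 330 :=
  (ncard_census profiles_ok (by norm_num) _).trans census_eq

end Cfsg.Agent.LeechCert.OrbHa
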