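import Cfsg.Agent.Lib.LeechCertFix7

/-!
Certificate for one stabiliser orbit of lattice vectors.
-/

set_option autoImplicit false

namespace Cfsg.Agent.LeechCert.OrbHb

open Fix7 (fixedCodes profiles profiles_ok)

/-- first point -/
def root : ℕ := 602976409378237973394960772713890258

/-- generators -/
def gens : List (List Step) :=
  [[some (984402238616750566983576813236787680, 0,
      [(0, false), (30, false), (20, false), (90, false), (15, false), (40, false), (10, false), (50, false), (65, false), (60, false), (45, false), (105, false), (100, false), (70, false), (95, false), (5, false), (35, false), (80, false), (75, false), (55, false), (85, false), (25, false), (110, false), (115, false)])],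
   [some (962646859440912962280617536895820128, 0,
      [(0, false), (50, false), (100, false), (20, false), (90, false), (110, false), (25, false), (15, false), (10, false), (85, false), (30, false), (5, false), (45, false), (55, false), (60, false), (95, false), (80, false), (40, false), (75, false), (105, false), (70, false), (35, false), (65, false), (115, false)])],
   [some (983460578409025161860289515176306880, 0,
      [(0, false), (40, false), (45, false), (55, false), (75, false), (100, false), (5, false), (70, false), (90, false), (20, false), (10, false), (50, false), (25, false), (60, false), (30, false), (15, false), (65, false), (35, false), (85, false), (95, false), (105, false), (110, false), (80, false), (115, false)])]]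

/-- layers -/
def scripts : List ℕ :=
  [0x7,
   0x1ff,
   0x7ffffff,
   0x1ffff2fffbffbbedfffff,
   0x1fcfd9dda68c3075fb9c6ceefd7adffbf4787ffdf7ecdb20f7f7f37,
   0x8802888824881000ae120841281c2472007802b4c39e60480242c04309b87ac8f1c141621d42125227b940d5a7ad48fc8dee080af76d6fe,
   0x4000000000000400000000000000010002900000000000008000010001120000000008000000400b20c040000000400014024200124143]

theorem cert : certOK fixedCodes root gens 8 scripts 462 = true := by decide +kernel

theorem census_eq : LeechCensus.censusSum fixedCodes 32 (16, 0, 16) profiles = 462 := by decide +kernel

theorem ncard : (census fixedCodes 32 (16, 0, 16)).ncard = 462 :=
  (ncard_census profiles_ok (by norm_num) _).trans census_eq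

end Cfsg.Agent.LeechCert.OrbHb
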