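import Cfsg.Agent.Lib.LeechCertFix7

/-!
Certificate for one stabiliser orbit of lattice vectors.
-/

set_option autoImplicit false

namespace Cfsg.Agent.LeechCert.OrbHc

open Fix7 (fixedCodes profiles profiles_ok)

/-- first point -/
def root : ℕ := 645770985101808136585020126522752497

/-- generators -/
def gens : List (List Step) :=
  [[some (984402238616750566983576813236787680, 0,
      [(0, false), (30, false), (20, false), (90, false), (15, false), (40, false), (10, false), (50, false), (65, false), (60, false), (45, false), (105, false), (100, false), (70, false), (95, false), (5, false), (35, false), (80, false), (75, false), (55, false), (85, false), (25, false), (110, false), (115, false)])],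
   [some (962646859440912962280617536895820128, 0,
      [(0, false), (50, false), (100, false), (20, false), (90, false), (110, false), (25, false), (15, false), (10, false), (85, false), (30, false), (5, false), (45, false), (55, false), (60, false), (95, false), (80, false), (40, false), (75, false), (105, false), (70, false), (35, false), (65, false), (115, false)])],
   [some (983460578409025161860289515176306880, 0,
      [(0, false), (40, false), (45, false), (55, false), (75, false), (100, false), (5, false), (70, false), (90, false), (20, false), (10, false), (50, false), (25, false), (60, false), (30, false), (15, false), (65, false), (35, false), (85, false), (95, false), (105, false), (110, false), (80, false), (115, false)])]]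

/-- layers -/
def scripts : List ℕ :=
  [0x7,
   0x1ff,
   0x7fffffe,
   0x3ffffffffaffffffffff,
   0x7fbf7dde7ff67bf7fffebfff6e7ffd7feffbedfff7fffffdefe7ffbdf,
   0x14caf1f4bcd6243cfc9ba96e17f4dabf38f595a5b524e472e7d1fdd9655327bdc1b16ee7ff0be35df19639e7d005fdffbfedf7df3ffeb1bb4d3bfbff8fffd57a7b9f8efbfefffe9edfe7,
   0x220642804a300120000e100808100870048300447189518ca400682278b029f0a840c218602c4600c81048f04240337942205863a610450db08821b09057014c880a53384208080821c0722220a34ede8190f49edb48643a720200b8a385f46ff62f90f2cea15e8e4f92c80eb7fa11daf1ef818371a30882c21c03e8baae5244d1a938e15d3aef96aee7ddb60b4a7d4,
   0x80000000000000000000000000000000000000000000020000000000000200000002000000000400000041000000000480000000000001000000004010001001000008080005104409081200002001000080000000044010000000000000103200000008000080014010000811200088010030140000002445000020820820c85402c0024055100040200008400250800400000080802100072901000280]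

theorem cert : certOK fixedCodes root gens 8 scripts 1232 = true := by decide +kernel

theorem census_eq : LeechCensus.censusSum fixedCodes 32 (16, 0, 8) profiles = 1232 := by decide +kernel

theorem ncard : (census fixedCodes 32 (16, 0, 8)).ncard = 1232 :=
  (ncard_census profiles_ok (by norm_num) _).trans census_eq

end Cfsg.Agent.LeechCert.OrbHc
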