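import Cfsg.Agent.Lib.LeechCertFix8

/-!
Certificate for one stabiliser orbit of lattice vectors.
-/

set_option autoImplicit false

namespace Cfsg.Agent.LeechCert.OrbIa

open Fix8 (fixedCodes profiles profiles_ok)

/-- first point -/
def root : ℕ := 728931479003725254217104923559511603

/-- generators -/
def gens : List (List Step) :=
  [[some (980275914351787324191492553553580224, 0,
      [(0, false), (90, false), (30, false), (15, false), (10, false), (105, false), (5, false), (25, false), (80, false), (60, false), (35, false), (95, false), (40, false), (45, false), (85, false), (75, false), (65, false), (55, false), (20, false), (110, false), (50, false), (100, false), (70, false), (115, false)])],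
   [some (969952412052033243847481939299780672, 0,
      [(0, false), (20, false), (5, false), (15, false), (30, false), (100, false), (90, false), (105, false), (65, false), (40, false), (25, false), (110, false), (80, false), (60, false), (55, false), (75, false), (45, false), (95, false), (10, false), (70, false), (35, false), (50, false), (85, false), (115, false)])],
   [some (980169841451906051980531848262766752, 0,
      [(0, false), (100, false), (80, false), (105, false), (70, false), (5, false), (75, false), (35, false), (65, false), (15, false), (30, false), (55, false), (90, false), (20, false), (85, false), (60, false), (25, false), (40, false), (50, false), (110, false), (10, false), (95, false), (45, false), (115, false)])],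
   [some (941782136577067066959022516306615886, 6213200,
      [(40, false), (55, false), (60, false), (95, false), (65, true), (70, false), (25, true), (10, false), (35, false), (45, true), (75, true), (20, true), (85, false), (15, false), (0, true), (90, true), (105, false), (80, true), (5, true), (30, true), (50, true), (110, false), (115, true), (100, false)]),
    none,
    some (1765186311189095013347588583306449, 1869893,
      [(115, true), (110, false), (25, true), (70, false), (85, false), (75, false), (5, true), (45, false), (60, false), (35, false), (30, false), (105, true), (55, false), (10, false), (65, false), (95, true), (100, false), (0, false), (90, true), (15, true), (40, true), (20, false), (80, false), (50, false)]),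
    none,
    some (760163568357789748764481698881844230, 11515111,
      [(5, true), (25, true), (80, true), (45, false), (70, false), (35, true), (0, true), (15, true), (90, false), (110, false), (95, true), (85, false), (55, true), (10, true), (65, false), (100, true), (50, true), (60, true), (115, true), (105, true), (40, false), (30, true), (75, false), (20, true)])]]

/-- layers -/
def scripts : List ℕ :=
  [0xf,
   0xfbee,
   0xf7ae7eaffcfdc,
   0x2faebe6bcffc36a27cf8deeebf4c7fe5e6adc66,
   0xc84c6407800083000026a887a0c788090263044ce0808aa620c00e741f01646c8e020e2772a704c3b40c098d8fe6984da06c,
   0x8000004002000000000002040000000000000040100000890001c000000200040088008000000280000000200004100800080400004008400088888e001088b000078c4c0,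
   0x8008000000000000000]

theorem cert : certOK fixedCodes root gens 16 scripts 352 = true := by decide +kernel

theorem census_eq : LeechCensus.censusSum fixedCodes 32 (-16, -8, 0) profiles = 352 := by decide +kernel

theorem ncard : (census fixedCodes 32 (-16, -8, 0)).ncard = 352 :=
  (ncard_census profiles_ok (by norm_num) _).trans census_eq

end Cfsg.Agent.LeechCert.OrbIa
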