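import Cfsg.Agent.Lib.LeechCertFix8

/-!
Certificate for one stabiliser orbit of lattice vectors.
-/

set_option autoImplicit false

namespace Cfsg.Agent.LeechCert.OrbIb

open Fix8 (fixedCodes profiles profiles_ok)

/-- first point -/
def root : ℕ := 852206658587909773353650494292509200

/-- generators -/
def gens : List (List Step) :=
  [[some (980275914351787324191492553553580224, 0,
      [(0, false), (90, false), (30, false), (15, false), (10, false), (105, false), (5, false), (25, false), (80, false), (60, false), (35, false), (95, false), (40, false), (45, false), (85, false), (75, false), (65, false), (55, false), (20, false), (110, false), (50, false), (100, false), (70, false), (115, false)])],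
   [some (969952412052033243847481939299780672, 0,
      [(0, false), (20, false), (5, false), (15, false), (30, false), (100, false), (90, false), (105, false), (65, false), (40, false), (25, false), (110, false), (80, false), (60, false), (55, false), (75, false), (45, false), (95, false), (10, false), (70, false), (35, false), (50, false), (85, false), (115, false)])],
   [some (980169841451906051980531848262766752, 0,
      [(0, false), (100, false), (80, false), (105, false), (70, false), (5, false), (75, false), (35, false), (65, false), (15, false), (30, false), (55, false), (90, false), (20, false), (85, false), (60, false), (25, false), (40, false), (50, false), (110, false), (10, false), (95, false), (45, false), (115, false)])],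
   [some (941782136577067066959022516306615886, 6213200,
      [(40, false), (55, false), (60, false), (95, false), (65, true), (70, false), (25, true), (10, false), (35, false), (45, true), (75, true), (20, true), (85, false), (15, false), (0, true), (90, true), (105, false), (80, true), (5, true), (30, true), (50, true), (110, false), (115, true), (100, false)]),
    none,
    some (1765186311189095013347588583306449, 1869893,
      [(115, true), (110, false), (25, true), (70, false), (85, false), (75, false), (5, true), (45, false), (60, false), (35, false), (30, false), (105, true), (55, false), (10, false), (65, false), (95, true), (100, false), (0, false), (90, true), (15, true), (40, true), (20, false), (80, false), (50, false)]),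
    none,
    some (760163568357789748764481698881844230, 11515111,
      [(5, true), (25, true), (80, true), (45, false), (70, false), (35, true), (0, true), (15, true), (90, false), (110, false), (95, true), (85, false), (55, true), (10, true), (65, false), (100, true), (50, true), (60, true), (115, true), (105, true), (40, false), (30, true), (75, false), (20, true)])]]

/-- layers -/
def scripts : List ℕ :=
  [0xc,
   0xff,
   0xffee7bea,
   0xffceffceffcffcfeecacbfcfc,
   0xff2aff8e8fbd4eeeaffeccfedcffee7beeffffaeefeede7f4edfc77ceea80afee2a8accffeea8,
   0x3a88f08487c02666b020e84fc9a8be607cbd94e04acc64c866a824b28f87e74ea3762d079634c9acc98081c280366b2c18457ea0e4cc4e6cf6e5ce1cf34aa625f8db8f907b6faabb2cbffcfdc7d6af7e085ae8fff43bc7c0208f0effcffc8483a8de04feccfbccd8cf7cf0b,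
   0x80000080000000000000018400040c004000000100080000000108000804040020000000000000000000024000040004b00080a0c808010020208c020800000020b048007000000004500000080086001000400004309000028202082004000800602010180202204081008000c2a000080800c024c0240048402658f820216200040022262020b5620a00c40442050cc2c040e8244006381034824ba2042a26a290008a88240148a8ba49d015ae1da8baad020026041e280840768ac00828a3444802392270aca9908c4d8850216c0802484ca,
   0x408000000000000000000000000000000000000000000000000000000000000000000000000000000080000000000008000000000008004000040000100020000000000000000000001000000000000100000100000000004000000004000000000000000000000000000]

theorem cert : certOK fixedCodes root gens 16 scripts 1100 = true := by decide +kernel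

theorem census_eq : LeechCensus.censusSum fixedCodes 32 (-16, 16, 0) profiles = 1100 := by decide +kernel

theorem ncard : (census fixedCodes 32 (-16, 16, 0)).ncard = 1100 :=
  (ncard_census profiles_ok (by norm_num) _).trans census_eq

end Cfsg.Agent.LeechCert.OrbIb
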