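import Cfsg.Agent.Lib.LeechStab

/-!
The stabiliser of a norm 32 vector has no normal 2-subgroup, and acts faithfully on the orthogonal
complement of the vector modulo twice the lattice and modulo the vector.
-/

set_option autoImplicit false
set_option linter.style.haveILetI false

open scoped symmDiff Pointwise

namespace Cfsg.Agent.LeechCo2

open Cfsg Cfsg.Agent.GolayBasic Cfsg.Agent.LeechBasic Cfsg.Agent.LeechAut Cfsg.Agent.LeechIndex
open Cfsg.Agent.LeechMonomial Cfsg.Agent.LeechStab

theorem signElt_apply (c : CodeSupp) (v : leechLattice) (i : GolayPt) :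
    ((signElt c • v : leechLattice) : GolayPt → ℤ) i =
      if i ∈ c.1 then -(v : GolayPt → ℤ) i else (v : GolayPt → ℤ) i := by
  rw [signElt, coe_monomial_smul]
  simp [signedPerm, show (1 : Equiv.Perm GolayPt).symm = 1 from rfl]

theorem monomial_apply {σ : Equiv.Perm GolayPt} (hσ : σ ∈ M24) {c : Finset GolayPt}
    (hc : c ∈ CodeSupp) (v : leechLattice) (j : GolayPt) :
    ((monomial σ hσ c hc • v : leechLattice) : GolayPt → ℤ) (σ j) =
      if σ j ∈ c then -(v : GolayPt → ℤ) j else (v : GolayPt → ℤ) j := by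
  rw [coe_monomial_smul]
  simp [signedPerm]

theorem monomial_conj_sign {σ : Equiv.Perm GolayPt} (hσ : σ ∈ M24) {c : Finset GolayPt}
    (hc : c ∈ CodeSupp) (d : CodeSupp) :
    monomial σ hσ c hc * signElt d * (monomial σ hσ c hc)⁻¹ =
      signElt ⟨σ • d.1, GolayPerm.smul_mem_supports hσ d.2⟩ := by
  rw [mul_inv_eq_iff_eq_mul, signElt, signElt, monomial_mul, monomial_mul]
  refine monomial_congr _ _ _ _ (by simp) ?_
  rw [one_smul, symmDiff_comm]

theorem sqNorm_neg' (x : GolayPt → ℤ) : sqNorm (-x) = sqNorm x := by simp [sqNorm]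

theorem neg_center {g : Co0} : negAut * g = g * negAut :=
  ((Subgroup.mem_center_iff.mp negAut_mem_center) g).symm

theorem sign_stab {c : CodeSupp} (h : signElt c • vecP = vecP) : none ∉ c.1 ∧ some 0 ∉ c.1 := by
  have key : ∀ i, (i = none ∨ i = some 0) → i ∉ c.1 := fun i hi hic => by
    have e := congrFun (congrArg Subtype.val h) i
    rw [signElt_apply, if_pos hic, coe_vecP, if_pos hi] at e
    norm_num at e
  exact ⟨key _ (Or.inl rfl), key _ (Or.inr rfl)⟩

/-- The vector used with the non-monomial element. -/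
def vecM : leechLattice := LeechFrame.M (pt 13) (pt 18)

theorem xi_vecM : LeechXi.xi • vecM = vecM := by
  refine Subtype.ext (funext fun i => ?_)
  rw [LeechXi.coe_xi_smul]
  revert i
  decide +kernel

theorem xi_frame_ne : ∀ j k : GolayPt, LeechXi.tet j = LeechXi.tet k →
    LeechXi.xiFun (unitVec 8 j) k ≠ 0 := by decide +kernel

theorem tet_partner : ∀ p : GolayPt, ∃ q : GolayPt, q ≠ p ∧ LeechXi.tet q = LeechXi.tet p := by
  decide +kernel

theorem tet_facts : LeechXi.tet (pt 20) = LeechXi.tet (pt 13) ∧ pt 20 ≠ pt 13 ∧ pt 20 ≠ pt 18 ∧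
    pt 13 ≠ pt 18 := by decide +kernel

theorem stab_small {A : Subgroup Co0} (hA : IsPGroup 2 A)
    (hle : A ≤ MulAction.stabilizer Co0 vecP)
    (hn : ∀ g ∈ MulAction.stabilizer Co0 vecP, ∀ a ∈ A, g * a * g⁻¹ ∈ A) : A = ⊥ := by
  have hcs : A ≤ classStab vecP := fun a ha => mem_classStab_of_eq_or_neg (Or.inl (hle ha))
  have hnc : ∀ g ∈ classStab vecP, ∀ a ∈ A, g * a * g⁻¹ ∈ A := by
    intro g hg a ha
    rcases smul_eq_or_neg (by rw [sqNorm_vecP]; norm_num) hg with e | e
    · exact hn g e a ha
    · have := hn (negAut * g) (by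
        rw [MulAction.mem_stabilizer_iff, mul_smul, e, negAut_smul, neg_neg]) a ha
      rwa [show negAut * g * a * (negAut * g)⁻¹ = g * a * g⁻¹ by
        rw [neg_center, mul_inv_rev, mul_assoc g negAut a, neg_center, ← mul_assoc g a negAut]; group] at this
  have hsig := signs32P hA hcs hnc
  obtain ⟨hz20, h20a, h20b, h1318⟩ := tet_facts
  obtain ⟨σ, hσ, hσa, hσb⟩ := GolayStab.exists_map_two (p := pt 13) (q := pt 18) h1318
  replace hσa : σ none = pt 13 := hσa
  replace hσb : σ (some 0) = pt 18 := hσb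
  obtain ⟨c0, hc0, hc0a, hc0b⟩ : ∃ c0 ∈ CodeSupp, pt 13 ∉ c0 ∧ pt 18 ∈ c0 := by
    obtain ⟨c, hc, hne⟩ := exists_separating h1318
    by_cases h : pt 13 ∈ c
    · exact ⟨cᶜ, compl_mem_supports hc, by simpa using h,
        by simpa using fun h' => hne (iff_of_true h h')⟩
    · exact ⟨c, hc, h, by tauto⟩
  set m := monomial σ hσ c0 hc0 with hm
  have hmu : m • vecP = vecM := by
    refine Subtype.ext (funext fun i => ?_)
    obtain ⟨j, rfl⟩ := σ.surjective i
    rw [hm, monomial_apply, coe_vecP]
    show _ = LeechFrame.two (pt 13) (pt 18) 4 (-4) (σ j)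
    by_cases ja : j = none
    · subst ja; rw [hσa]; simp [LeechFrame.two, hc0a, h1318]
    by_cases jb : j = some 0
    · subst jb; rw [hσb]; simp [LeechFrame.two, hc0b, h1318.symm]
    have k1 : σ j ≠ pt 13 := fun e => ja (σ.injective (e.trans hσa.symm))
    have k2 : σ j ≠ pt 18 := fun e => jb (σ.injective (e.trans hσb.symm))
    simp [LeechFrame.two, ja, jb, k1, k2]
  let P : CodeSupp → Prop := fun d => m⁻¹ * signElt d * m ∈ A
  have hfixM : ∀ d, P d → pt 13 ∉ d.1 ∧ pt 18 ∉ d.1 := by
    intro d hd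
    have h := hle hd
    rw [MulAction.mem_stabilizer_iff, mul_smul, mul_smul, hmu, inv_smul_eq_iff, hmu] at h
    have key : ∀ i, (vecM : GolayPt → ℤ) i ≠ 0 → i ∉ d.1 := fun i hi hid => hi (by
      have e := congrFun (congrArg Subtype.val h) i
      rw [signElt_apply, if_pos hid] at e
      omega)
    exact ⟨key _ (by decide +kernel), key _ (by decide +kernel)⟩
  have hnorm : ∀ g : Co0, g • vecM = vecM → ∀ d, P d → ∃ d', g * signElt d * g⁻¹ = signElt d' ∧ P d' := by
    intro g hg d hd
    have h1 : m⁻¹ * g * m ∈ MulAction.stabilizer Co0 vecP := by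
      rw [MulAction.mem_stabilizer_iff, mul_smul, mul_smul, hmu, hg, inv_smul_eq_iff, hmu]
    have h2 := hn _ h1 _ hd
    rw [show m⁻¹ * g * m * (m⁻¹ * signElt d * m) * (m⁻¹ * g * m)⁻¹ =
      m⁻¹ * (g * signElt d * g⁻¹) * m by group] at h2
    obtain ⟨c, hc⟩ := hsig _ h2
    refine ⟨⟨σ • c.1, GolayPerm.smul_mem_supports hσ c.2⟩, ?_, ?_⟩
    · rw [← monomial_conj_sign hσ hc0, ← hm, ← hc]; group
    · show m⁻¹ * _ * m ∈ A
      rw [← monomial_conj_sign hσ hc0, ← hm]
      rw [hc] at h2
      rwa [show m⁻¹ * (m * signElt c * m⁻¹) * m = signElt c by group]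
  have htet : ∀ d, P d → ∀ j k, LeechXi.tet j = LeechXi.tet k → (j ∈ d.1 ↔ k ∈ d.1) := by
    intro d hd j k hjk
    obtain ⟨d', he, -⟩ := hnorm LeechXi.xi⁻¹
      (inv_smul_eq_iff.mpr xi_vecM.symm) d hd
    rw [inv_inv] at he
    have h3 : signElt d • LeechXi.xi • frame j = LeechXi.xi • signElt d' • frame j := by
      rw [← mul_smul, ← mul_smul, ← he]; congr 1; group
    have hv : signElt d' • frame j = frame j ∨ signElt d' • frame j = -frame j := by
      by_cases h : j ∈ d'.1
      · right
        refine Subtype.ext (funext fun i => ?_)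
        rw [signElt_apply]
        show _ = -(unitVec 8 j i)
        show (if i ∈ d'.1 then -(unitVec 8 j i) else unitVec 8 j i) = _
        by_cases hij : i = j
        · subst hij; rw [if_pos h]
        · simp [unitVec, hij]
      · left
        refine Subtype.ext (funext fun i => ?_)
        rw [signElt_apply]
        show (if i ∈ d'.1 then -(unitVec 8 j i) else unitVec 8 j i) = unitVec 8 j i
        by_cases hij : i = j
        · subst hij; rw [if_neg h]
        · simp [unitVec, hij]
    have hw : ∀ i, ((LeechXi.xi • frame j : leechLattice) : GolayPt → ℤ) i =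
        LeechXi.xiFun (unitVec 8 j) i := fun i => by rw [LeechXi.coe_xi_smul]; rfl
    have hne_j := xi_frame_ne j j rfl
    have hne_k := xi_frame_ne j k hjk
    rcases hv with hv | hv <;> rw [hv] at h3
    · have key : ∀ i, LeechXi.xiFun (unitVec 8 j) i ≠ 0 → i ∉ d.1 := fun i hi hid => hi (by
        have e := congrFun (congrArg Subtype.val h3) i
        rw [signElt_apply, if_pos hid, hw] at e
        omega)
      exact iff_of_false (key j hne_j) (key k hne_k)
    · have key : ∀ i, LeechXi.xiFun (unitVec 8 j) i ≠ 0 → i ∈ d.1 := fun i hi => by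
        by_contra hid
        apply hi
        have e := congrFun (congrArg Subtype.val h3) i
        rw [smul_neg_vec, AddSubgroup.coe_neg, Pi.neg_apply, signElt_apply, if_neg hid, hw] at e
        omega
      exact iff_of_true (key j hne_j) (key k hne_k)
  have hempty : ∀ d, P d → d.1 = ∅ := by
    intro d hd
    by_contra hne
    obtain ⟨a, ha⟩ := Finset.nonempty_iff_ne_empty.mpr hne
    obtain ⟨b, hba, hb⟩ := tet_partner a
    have hbd : b ∈ d.1 := (htet d hd b a hb).mpr ha
    obtain ⟨h13, h18⟩ := hfixM d hd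
    have he : pt 20 ∉ d.1 := fun h => h13 ((htet d hd _ _ hz20).mp h)
    obtain ⟨w, hw⟩ : ∃ w : GolayPt, w ∉ ({pt 13, pt 18, a, b, pt 20} : Finset GolayPt) := by
      by_contra hno
      push Not at hno
      have h3 := Finset.card_le_card
        (fun w _ => hno w : Finset.univ ⊆ ({pt 13, pt 18, a, b, pt 20} : Finset GolayPt))
      rw [card_univ_pt] at h3
      have := h3.trans Finset.card_le_five
      omega
    simp only [Finset.mem_insert, Finset.mem_singleton, not_or] at hw
    have na : pt 13 ≠ a := fun e => h13 (e ▸ ha)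
    have nb : pt 13 ≠ b := fun e => h13 (e ▸ hbd)
    have ma : pt 18 ≠ a := fun e => h18 (e ▸ ha)
    have mb : pt 18 ≠ b := fun e => h18 (e ▸ hbd)
    have ea : a ≠ pt 20 := fun e => he (e ▸ ha)
    obtain ⟨π, hπ, hmap⟩ := GolayM24.exists_map_five_five ![pt 13, pt 18, a, pt 20, w]
      ![pt 13, pt 18, a, b, w]
      (inj5 h1318 na h20a.symm (Ne.symm hw.1) ma h20b.symm (Ne.symm hw.2.1) ea (Ne.symm hw.2.2.1)
        (Ne.symm hw.2.2.2.2))
      (inj5 h1318 na nb (Ne.symm hw.1) ma mb (Ne.symm hw.2.1) hba.symm (Ne.symm hw.2.2.1)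
        (Ne.symm hw.2.2.2.1))
    have e0 : π (pt 13) = pt 13 := hmap 0
    have e1 : π (pt 18) = pt 18 := hmap 1
    have e2 : π a = a := hmap 2
    have e3 : π (pt 20) = b := hmap 3
    obtain ⟨d', hd', hPd'⟩ := hnorm (monomial π hπ ∅ empty_mem_supports) (by
      refine Subtype.ext (funext fun i => ?_)
      obtain ⟨j, rfl⟩ := π.surjective i
      rw [monomial_apply, if_neg (Finset.notMem_empty _)]
      by_cases j1 : j = pt 13
      · rw [j1, e0]
      by_cases j2 : j = pt 18
      · rw [j2, e1]
      have k1 : π j ≠ pt 13 := fun e => j1 (π.injective (e.trans e0.symm))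
      have k2 : π j ≠ pt 18 := fun e => j2 (π.injective (e.trans e1.symm))
      show LeechFrame.two (pt 13) (pt 18) 4 (-4) j = LeechFrame.two (pt 13) (pt 18) 4 (-4) (π j)
      simp [LeechFrame.two, j1, j2, k1, k2]) d hd
    rw [monomial_conj_sign] at hd'
    have hset : π • d.1 = d'.1 := congrArg Subtype.val (signElt_injective hd')
    have hb' : b ∉ d'.1 := by
      rw [← hset, ← e3, ← Equiv.Perm.smul_def, Finset.smul_mem_smul_finset_iff]
      exact he
    have ha' : a ∈ d'.1 := by
      rw [← hset, ← e2, ← Equiv.Perm.smul_def, Finset.smul_mem_smul_finset_iff]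
      exact ha
    exact hb' ((htet d' hPd' b a hb).mpr ha')
  rw [eq_bot_iff]
  intro a ha
  obtain ⟨c, rfl⟩ := hsig a ha
  have hP : P ⟨σ • c.1, GolayPerm.smul_mem_supports hσ c.2⟩ := by
    show m⁻¹ * _ * m ∈ A
    rw [← monomial_conj_sign hσ hc0, ← hm]
    rwa [show m⁻¹ * (m * signElt c * m⁻¹) * m = signElt c by group]
  have hce : c.1 = ∅ := Finset.smul_finset_eq_empty.mp (hempty _ hP)
  rw [Subgroup.mem_bot]
  exact Eq.trans (monomial_congr (one_mem M24) (one_mem _) c.2 empty_mem_supports rfl hce) monomial_one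

/-- Faithfulness on the orthogonal complement. -/
theorem eq_one_of_perp {g : Co0} (hg : g • vecP = vecP)
    (h : ∀ w : leechLattice, (16 : ℤ) ∣ dotInt (w : GolayPt → ℤ) vecP →
      ((g • w : leechLattice) : GolayPt → ℤ) - w ∈ twiceLeech ∨
      ((g • w : leechLattice) : GolayPt → ℤ) - ((w + vecP : leechLattice) : GolayPt → ℤ) ∈ twiceLeech) :
    g = 1 := by
  -- the standard cross
  have hf : ((g • frame none : leechLattice) : GolayPt → ℤ) - frame none ∈ twiceLeech := by
    refine (h (frame none) (by decide +kernel)).resolve_right fun h2 => ?_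
    have h3 : ((g • frame none : leechLattice) : GolayPt → ℤ) -
        (LeechFrame.M (some 0) none : leechLattice) ∈ twiceLeech := by
      have : (((frame none + vecP : leechLattice)) : GolayPt → ℤ) -
          (LeechFrame.M (some 0) none : leechLattice) ∈ twiceLeech := by
        refine mem_twiceLeech.mpr ⟨(frame none : GolayPt → ℤ), (frame none).2, ?_⟩
        funext i
        revert i
        decide +kernel
      have := add_mem h2 this
      rwa [sub_add_sub_cancel] at this
    have h32 : sqNorm (LeechFrame.M (some 0) none : GolayPt → ℤ) = 32 := by decide +kernel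
    have h64 : sqNorm ((g • frame none : leechLattice) : GolayPt → ℤ) = 64 := by
      rw [sqNorm_smul]; exact sqNorm_frame none
    rcases LeechMod2.congr_short (LeechFrame.M (some 0) none).2 h3 (by omega) (by omega) with e | e | e
    · rw [e] at h64; omega
    · rw [e, sqNorm_neg'] at h64; omega
    · omega
  have hmono : g ∈ mono := by rw [← classStab_frame]; exact hf
  obtain ⟨σ, hσ, c, hc, rfl⟩ := mem_mono.mp hmono
  have hPF := (pairFix_of_mem hσ hc (mem_classStab_of_eq_or_neg (Or.inl hg))).1
  -- pairs outside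
  have hout : ∀ i j : GolayPt, i ≠ j → i ≠ none → i ≠ some 0 → j ≠ none → j ≠ some 0 →
      monomial σ hσ c hc • LeechFrame.M i j = LeechFrame.M i j ∨
      monomial σ hσ c hc • LeechFrame.M i j = -LeechFrame.M i j := by
    intro i j hij hi1 hi2 hj1 hj2
    have hnM : sqNorm (LeechFrame.M i j : GolayPt → ℤ) = 32 := by
      revert i j; decide +kernel
    have hdot : (16 : ℤ) ∣ dotInt (LeechFrame.M i j : GolayPt → ℤ) vecP ∧
        sqNorm ((LeechFrame.M i j + vecP : leechLattice) : GolayPt → ℤ) = 64 := by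
      revert i j; decide +kernel
    have hxn : sqNorm ((monomial σ hσ c hc • LeechFrame.M i j : leechLattice) : GolayPt → ℤ) = 32 := by
      rw [sqNorm_smul]; exact hnM
    rcases h _ hdot.1 with h2 | h2
    · rcases LeechMod2.congr_short (LeechFrame.M i j).2 h2 (by omega) (by omega) with e | e | e
      · exact Or.inl (Subtype.ext e)
      · exact Or.inr (Subtype.ext e)
      · omega
    · exfalso
      have hn2 := hdot.2
      rcases LeechMod2.congr_short (LeechFrame.M i j + vecP).2 h2 (by omega) (by omega) with e | e | e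
      · rw [e] at hxn; omega
      · rw [e, sqNorm_neg'] at hxn; omega
      · omega
  have hfix2 : ∀ i j : GolayPt, i ≠ j → i ≠ none → i ≠ some 0 → j ≠ none → j ≠ some 0 →
      σ i = i ∨ σ i = j := by
    intro i j hij hi1 hi2 hj1 hj2
    by_contra hcon
    obtain ⟨c1, c2⟩ := not_or.mp hcon
    have e := monomial_apply hσ hc (LeechFrame.M i j) i
    have hMi : (LeechFrame.M i j : GolayPt → ℤ) i = 4 := by
      show LeechFrame.two i j 4 (-4) i = 4
      simp [LeechFrame.two, hij]
    have hMσ : (LeechFrame.M i j : GolayPt → ℤ) (σ i) = 0 := by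
      show LeechFrame.two i j 4 (-4) (σ i) = 0
      simp [LeechFrame.two, c1, c2]
    rcases hout i j hij hi1 hi2 hj1 hj2 with e1 | e1 <;>
      rw [e1, hMi] at e <;> simp [hMσ] at e <;> split_ifs at e <;> norm_num at e
  have hfix : ∀ i, i ≠ none → i ≠ some 0 → σ i = i := by
    intro i hi1 hi2
    obtain ⟨j, k, hji, hki, hjk, hj1, hj2, hk1, hk2⟩ : ∃ j k : GolayPt, j ≠ i ∧ k ≠ i ∧ j ≠ k ∧
        j ≠ none ∧ j ≠ some 0 ∧ k ≠ none ∧ k ≠ some 0 := by
      revert i; decide +kernel
    rcases hfix2 i j hji.symm hi1 hi2 hj1 hj2 with e | e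
    · exact e
    rcases hfix2 i k hki.symm hi1 hi2 hk1 hk2 with e' | e'
    · exact e'
    · exact absurd (e.symm.trans e') hjk
  have hσ1 : σ = 1 := by
    rcases hPF with ⟨h1, h2⟩ | ⟨h1, h2⟩
    · refine Equiv.ext fun i => ?_
      by_cases i1 : i = none
      · rw [i1]; exact h1
      by_cases i2 : i = some 0
      · rw [i2]; exact h2
      exact hfix i i1 i2
    · refine (no_central_swap hσ h1 h2 fun π hπ => Equiv.ext fun i => ?_).elim
      obtain ⟨-, p1, p2⟩ := mem_M22.mp hπ
      simp only [Equiv.Perm.mul_apply]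
      by_cases i1 : i = none
      · rw [i1, p1, h1, p2]
      by_cases i2 : i = some 0
      · rw [i2, p2, h2, p1]
      rw [hfix i i1 i2, hfix _ (fun e => i1 (π.injective (e.trans p1.symm)))
        (fun e => i2 (π.injective (e.trans p2.symm)))]
  subst hσ1
  obtain ⟨hc1, hc2⟩ := sign_stab (c := ⟨c, hc⟩) hg
  have hiff : ∀ i j : GolayPt, i ≠ j → i ≠ none → i ≠ some 0 → j ≠ none → j ≠ some 0 → (i ∈ c ↔ j ∈ c) := by
    intro i j hij hi1 hi2 hj1 hj2
    have ei := monomial_apply hσ hc (LeechFrame.M i j) i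
    have ej := monomial_apply hσ hc (LeechFrame.M i j) j
    rw [Equiv.Perm.one_apply] at ei ej
    have hMi : (LeechFrame.M i j : GolayPt → ℤ) i = 4 := by
      show LeechFrame.two i j 4 (-4) i = 4
      simp [LeechFrame.two, hij]
    have hMj : (LeechFrame.M i j : GolayPt → ℤ) j = -4 := by
      show LeechFrame.two i j 4 (-4) j = -4
      simp [LeechFrame.two, hij.symm]
    rcases hout i j hij hi1 hi2 hj1 hj2 with e | e <;> rw [e] at ei ej <;>
      simp only [AddSubgroup.coe_neg, Pi.neg_apply, hMi, hMj] at ei ej <;>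
      constructor <;> intro hh <;> by_contra hh' <;> simp [hh, hh'] at ei ej
  have hcempty : c = ∅ := by
    by_contra hne
    obtain ⟨i, hi⟩ := Finset.nonempty_iff_ne_empty.mpr hne
    have hi1 : i ≠ none := fun e => hc1 (e ▸ hi)
    have hi2 : i ≠ some 0 := fun e => hc2 (e ▸ hi)
    have hceq : c = Finset.univ \ {none, some 0} := by
      ext j
      simp only [Finset.mem_sdiff, Finset.mem_univ, true_and, Finset.mem_insert, Finset.mem_singleton, not_or]
      refine ⟨fun hj => ⟨fun e => hc1 (e ▸ hj), fun e => hc2 (e ▸ hj)⟩, fun hj => ?_⟩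
      by_cases hji : i = j
      · exact hji ▸ hi
      · exact (hiff i j hji hi1 hi2 hj.1 hj.2).mp hi
    have h22 : c.card = 22 := by rw [hceq]; decide +kernel
    rcases card_support_cases hc with h | h | h | h | h
    · exact hne h
    all_goals omega
  subst hcempty
  exact monomial_one

end Cfsg.Agent.LeechCo2
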