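import Mathlib

/-!
A group with a labelled set of points whose generators induce given permutations is, modulo a
subgroup fixing every point, the group generated by these permutations, as soon as a checked
chain of stabilisers shows that the latter is large enough.
-/

set_option autoImplicit false

namespace Cfsg.Agent.PermImageCert

/-- Image of a point under a packed permutation. -/
def get (P k : ℕ) : ℕ := Nat.land (Nat.shiftRight P (Nat.mul 10 k)) 1023

/-- A check for all numbers below a bound. -/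
noncomputable def allBelow (f : ℕ → Bool) (n : ℕ) : Bool := Nat.rec true (fun k ih => f k && ih) n

theorem allBelow_spec {f : ℕ → Bool} : ∀ {n : ℕ}, allBelow f n = true → ∀ k < n, f k = true
  | 0, _, k, hk => absurd hk (Nat.not_lt_zero k)
  | n + 1, h, k, hk => by
    have h' : (f n && allBelow f n) = true := h
    rw [Bool.and_eq_true] at h'
    rcases Nat.lt_succ_iff_lt_or_eq.mp hk with hk | rfl
    · exact allBelow_spec h'.2 k hk
    · exact h'.1

variable {N : ℕ}

/-- The permutation has the given code. -/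
def Rep (σ : Equiv.Perm (Fin N)) (P : ℕ) : Prop := ∀ k : Fin N, (σ k : ℕ) = get P k

theorem Rep.unique {σ τ : Equiv.Perm (Fin N)} {P : ℕ} (h : Rep σ P) (h' : Rep τ P) : σ = τ :=
  Equiv.ext fun k => Fin.ext ((h k).trans (h' k).symm)

/-- The permutations with a code in the list. -/
def genSet (N : ℕ) (Ps : List ℕ) : Set (Equiv.Perm (Fin N)) := {σ | ∃ P ∈ Ps, Rep σ P}

/-- The group they generate. -/
def genGroup (N : ℕ) (Ps : List ℕ) : Subgroup (Equiv.Perm (Fin N)) := Subgroup.closure (genSet N Ps)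

/-- Two codes of mutually inverse permutations. -/
noncomputable def invOK (N : ℕ) (q : ℕ × ℕ) : Bool :=
  allBelow (fun k => Nat.blt (get q.1 k) N && Nat.blt (get q.2 k) N &&
    Nat.beq (get q.1 (get q.2 k)) k && Nat.beq (get q.2 (get q.1 k)) k) N

theorem exists_rep {q : ℕ × ℕ} (h : invOK N q = true) : ∃ σ : Equiv.Perm (Fin N), Rep σ q.1 ∧ Rep σ⁻¹ q.2 := by
  have h' := fun k => allBelow_spec h k
  simp only [Bool.and_eq_true, Nat.blt_eq, Nat.beq_eq] at h'
  exact ⟨{ toFun := fun k => ⟨get q.1 k, (h' k k.2).1.1.1⟩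
           invFun := fun k => ⟨get q.2 k, (h' k k.2).1.1.2⟩
           left_inv := fun k => Fin.ext (h' k k.2).2
           right_inv := fun k => Fin.ext (h' k k.2).1.2 }, fun _ => rfl, fun _ => rfl⟩

/-- The codes of the generators and of their inverses. -/
def allCodes (gens : List (ℕ × ℕ)) : List ℕ := gens.map Prod.fst ++ gens.map Prod.snd

/-- The code `P` is in the group. -/
def InGroup (N : ℕ) (Ps : List ℕ) (P : ℕ) : Prop := ∃ σ ∈ genGroup N Ps, Rep σ P

theorem inGroup_allCodes {gens : List (ℕ × ℕ)} (h : gens.all (invOK N) = true) :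
    ∀ P ∈ allCodes gens, InGroup N (gens.map Prod.fst) P := by
  rw [List.all_eq_true] at h
  intro P hP
  simp only [allCodes, List.mem_append, List.mem_map] at hP
  rcases hP with ⟨q, hq, rfl⟩ | ⟨q, hq, rfl⟩ <;> obtain ⟨σ, h1, h2⟩ := exists_rep (h q hq)
  · exact ⟨σ, Subgroup.subset_closure ⟨_, List.mem_map.mpr ⟨q, hq, rfl⟩, h1⟩, h1⟩
  · exact ⟨σ⁻¹, Subgroup.inv_mem _ (Subgroup.subset_closure ⟨_, List.mem_map.mpr ⟨q, hq, rfl⟩, h1⟩), h2⟩

/-! ### Products -/

/-- Each further code is the product of two earlier ones. -/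
noncomputable def slpOK (N : ℕ) : List ℕ → List (ℕ × ℕ × ℕ) → Bool
  | _, [] => true
  | known, o :: os =>
    Nat.blt o.1 known.length && Nat.blt o.2.1 known.length &&
      allBelow (fun k => Nat.beq (get o.2.2 k) (get (known.getD o.1 0) (get (known.getD o.2.1 0) k))) N &&
      slpOK N (known ++ [o.2.2]) os

theorem inGroup_slp {Ps : List ℕ} : ∀ (os : List (ℕ × ℕ × ℕ)) (known : List ℕ), slpOK N known os = true →
    (∀ P ∈ known, InGroup N Ps P) → ∀ P ∈ known ++ os.map (fun o => o.2.2), InGroup N Ps P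
  | [], known, _, hk => by simpa using hk
  | o :: os, known, h, hk => by
    simp only [slpOK, Bool.and_eq_true, Nat.blt_eq] at h
    obtain ⟨⟨⟨ha, hb⟩, hall⟩, hrest⟩ := h
    have hnew : InGroup N Ps o.2.2 := by
      obtain ⟨σ, hσ, hσr⟩ := hk (known.getD o.1 0) (by
        rw [List.getD_eq_getElem _ _ ha]; exact List.getElem_mem _)
      obtain ⟨τ, hτ, hτr⟩ := hk (known.getD o.2.1 0) (by
        rw [List.getD_eq_getElem _ _ hb]; exact List.getElem_mem _)
      refine ⟨σ * τ, Subgroup.mul_mem _ hσ hτ, fun k => ?_⟩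
      have := allBelow_spec hall k k.2
      rw [Nat.beq_eq] at this
      rw [this, ← hτr k, ← hσr (τ k)]
      rfl
    have := inGroup_slp os (known ++ [o.2.2]) hrest (fun P hP => by
      rcases List.mem_append.mp hP with hP | hP
      · exact hk P hP
      · rw [List.mem_singleton] at hP; exact hP ▸ hnew)
    simpa using this

/-! ### Stabiliser chain -/

/-- A tree of images of a base point: each entry packs a point, its parent and a table index. -/
noncomputable def treeOK (N : ℕ) (T pre : List ℕ) : ℕ → List ℕ → Bool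
  | _, [] => true
  | mask, e :: es =>
    Nat.blt (Nat.mod e 1024) N && Nat.blt (Nat.mod (Nat.div e 1024) 1024) N &&
      Nat.blt (Nat.div e 1048576) T.length &&
      Nat.testBit mask (Nat.mod (Nat.div e 1024) 1024) && !(Nat.testBit mask (Nat.mod e 1024)) &&
      Nat.beq (get (T.getD (Nat.div e 1048576) 0) (Nat.mod (Nat.div e 1024) 1024)) (Nat.mod e 1024) &&
      pre.all (fun b => Nat.beq (get (T.getD (Nat.div e 1048576) 0) b) b) &&
      treeOK N T pre (mask ||| 1 <<< (Nat.mod e 1024)) es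

/-- The trees along a sequence of base points. -/
noncomputable def chainOK (N : ℕ) (T : List ℕ) : List ℕ → List (ℕ × List ℕ) → Bool
  | _, [] => true
  | pre, l :: L => Nat.blt l.1 N && treeOK N T pre (1 <<< l.1) l.2 && chainOK N T (l.1 :: pre) L

/-- The product of the orbit lengths. -/
def chainSize : List (ℕ × List ℕ) → ℕ
  | [] => 1
  | l :: L => (l.2.length + 1) * chainSize L

/-- The elements fixing the listed points. -/
def fixSub (H : Subgroup (Equiv.Perm (Fin N))) (pre : List ℕ) : Subgroup (Equiv.Perm (Fin N)) where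
  carrier := {σ | σ ∈ H ∧ ∀ k : Fin N, (k : ℕ) ∈ pre → σ k = k}
  one_mem' := ⟨one_mem H, fun _ _ => rfl⟩
  mul_mem' ha hb := ⟨mul_mem ha.1 hb.1, fun k hk => by rw [Equiv.Perm.mul_apply, hb.2 k hk, ha.2 k hk]⟩
  inv_mem' ha := ⟨inv_mem ha.1, fun k hk => by rw [Equiv.Perm.inv_eq_iff_eq, ha.2 k hk]⟩

variable {H : Subgroup (Equiv.Perm (Fin N))} {T : List ℕ}

theorem tree_spec (hT : ∀ P ∈ T, ∃ σ ∈ H, Rep σ P) (pre : List ℕ) (b : Fin N) :
    ∀ (es : List ℕ) (mask : ℕ), treeOK N T pre mask es = true → ∀ S : Finset (Fin N),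
      (∀ p : Fin N, mask.testBit p = true ↔ p ∈ S) → (∀ p ∈ S, ∃ σ ∈ fixSub H pre, σ b = p) →
      ∃ S' : Finset (Fin N), S'.card = S.card + es.length ∧ ∀ p ∈ S', ∃ σ ∈ fixSub H pre, σ b = p
  | [], _, _, S, _, hS => ⟨S, by simp, hS⟩
  | e :: es, mask, h, S, hm, hS => by
    simp only [treeOK, Bool.and_eq_true, Nat.blt_eq, Nat.beq_eq, List.all_eq_true, Bool.not_eq_true'] at h
    obtain ⟨⟨⟨⟨⟨⟨⟨hp, hq⟩, hg⟩, hmq⟩, hmp⟩, hget⟩, hpre⟩, hrest⟩ := h
    obtain ⟨σ, hσ, hσr⟩ := hT (T.getD (Nat.div e 1048576) 0) (by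
      rw [List.getD_eq_getElem _ _ hg]; exact List.getElem_mem _)
    have hσf : σ ∈ fixSub H pre := ⟨hσ, fun k hk => Fin.ext ((hσr k).trans (hpre _ hk))⟩
    obtain ⟨τ, hτ, hτb⟩ := hS ⟨_, hq⟩ ((hm ⟨_, hq⟩).mp hmq)
    have hnew : (⟨_, hp⟩ : Fin N) ∉ S := fun hin => by
      have := (hm ⟨_, hp⟩).mpr hin
      simp only [hmp] at this
      exact Bool.false_ne_true this
    have hreach : ∃ σ ∈ fixSub H pre, σ b = (⟨_, hp⟩ : Fin N) :=
      ⟨σ * τ, mul_mem hσf hτ, by rw [Equiv.Perm.mul_apply, hτb]; exact Fin.ext ((hσr _).trans hget)⟩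
    obtain ⟨S', hS', hS''⟩ := tree_spec hT pre b es _ hrest (insert ⟨_, hp⟩ S) (fun p => by
        rw [Nat.testBit_or, Bool.or_eq_true, hm p, Finset.mem_insert, Nat.one_shiftLeft, Nat.testBit_two_pow,
          decide_eq_true_eq, Fin.ext_iff, or_comm]
        exact or_congr_left ⟨Eq.symm, Eq.symm⟩)
      (fun p hp' => by
        rcases Finset.mem_insert.mp hp' with rfl | hp'
        · exact hreach
        · exact hS p hp')
    exact ⟨S', by rw [hS', Finset.card_insert_of_notMem hnew, List.length_cons]; ring, hS''⟩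

theorem chain_spec (hT : ∀ P ∈ T, ∃ σ ∈ H, Rep σ P) : ∀ (L : List (ℕ × List ℕ)) (pre : List ℕ),
    chainOK N T pre L = true → chainSize L ≤ Nat.card (fixSub H pre)
  | [], pre, _ => by
    rw [chainSize]; exact Nat.one_le_iff_ne_zero.mpr Nat.card_pos.ne'
  | l :: L, pre, h => by
    simp only [chainOK, Bool.and_eq_true, Nat.blt_eq] at h
    obtain ⟨⟨hb, htree⟩, hrest⟩ := h
    obtain ⟨S, hS, hSr⟩ := tree_spec hT pre ⟨l.1, hb⟩ l.2 _ htree {⟨l.1, hb⟩} (fun p => by
        rw [Nat.one_shiftLeft, Nat.testBit_two_pow, decide_eq_true_eq, Finset.mem_singleton, Fin.ext_iff]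
        exact ⟨Eq.symm, Eq.symm⟩)
      (fun p hp => ⟨1, one_mem _, by rw [Finset.mem_singleton] at hp; rw [hp]; rfl⟩)
    let G' := fixSub H pre
    have horb : S.card ≤ (MulAction.orbit G' (⟨l.1, hb⟩ : Fin N)).ncard := by
      rw [← Set.ncard_coe_finset]
      refine Set.ncard_le_ncard (fun p hp => ?_) (Set.toFinite _)
      obtain ⟨σ, hσ, hσb⟩ := hSr p hp
      exact ⟨⟨σ, hσ⟩, hσb⟩
    have hstab : Nat.card (MulAction.stabilizer G' (⟨l.1, hb⟩ : Fin N)) = Nat.card (fixSub H (l.1 :: pre)) :=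
      Nat.card_congr
        { toFun := fun g => ⟨g.1.1, g.1.2.1, fun k hk => by
            rcases List.mem_cons.mp hk with hk | hk
            · have e : k = (⟨l.1, hb⟩ : Fin N) := Fin.ext hk
              rw [e]; exact g.2
            · exact g.1.2.2 k hk⟩
          invFun := fun g => ⟨⟨g.1, g.2.1, fun k hk => g.2.2 k (List.mem_cons_of_mem _ hk)⟩,
            g.2.2 _ List.mem_cons_self⟩
          left_inv := fun _ => rfl
          right_inv := fun _ => rfl }
    have hih := chain_spec hT L (l.1 :: pre) hrest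
    calc chainSize (l :: L) = (l.2.length + 1) * chainSize L := rfl
      _ ≤ (MulAction.orbit G' (⟨l.1, hb⟩ : Fin N)).ncard * Nat.card (fixSub H (l.1 :: pre)) :=
        Nat.mul_le_mul (by rw [Finset.card_singleton] at hS; omega) hih
      _ = Nat.card G' := by
        rw [← hstab, ← MulAction.index_stabilizer, Subgroup.index_mul_card]

/-- The generated group has at least the order given by a chain. -/
theorem le_card_genGroup {gens : List (ℕ × ℕ)} {os : List (ℕ × ℕ × ℕ)} {L : List (ℕ × List ℕ)}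
    (hg : gens.all (invOK N) = true) (hs : slpOK N (allCodes gens) os = true)
    (hc : chainOK N (allCodes gens ++ os.map (fun o => o.2.2)) [] L = true) :
    chainSize L ≤ Nat.card (genGroup N (gens.map Prod.fst)) := by
  refine (chain_spec (H := genGroup N (gens.map Prod.fst))
    (inGroup_slp os _ hs (inGroup_allCodes hg)) L [] hc).trans ?_
  exact Subgroup.card_le_of_le (show fixSub (genGroup N (gens.map Prod.fst)) [] ≤ _ from fun σ hσ => hσ.1)

/-! ### The isomorphism -/

/-- An action on labelled points identifies the quotient with the group of permutations. -/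
theorem nonempty_iso {G α : Type*} [Group G] [Finite G] (φ : G →* Equiv.Perm α) (e : Fin N → α)
    (he : Function.Injective e) (Ps : List ℕ)
    (hg : ∀ σ ∈ genSet N Ps, ∃ g, ∀ k, φ g (e k) = e (σ k))
    (Z : Subgroup G) [Z.Normal] (hZ : ∀ z ∈ Z, ∀ k, φ z (e k) = e k) (M : ℕ)
    (hG : Nat.card G = Nat.card Z * M) (hM : M ≤ Nat.card (genGroup N Ps)) :
    Nonempty (G ⧸ Z ≃* genGroup N Ps) := by
  let X : Subgroup G :=
    { carrier := {g | ∃ σ ∈ genGroup N Ps, ∀ k, φ g (e k) = e (σ k)}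
      one_mem' := ⟨1, one_mem _, fun k => by simp⟩
      mul_mem' := by
        rintro a b ⟨σ, hσ, ha⟩ ⟨τ, hτ, hb⟩
        exact ⟨σ * τ, mul_mem hσ hτ, fun k => by
          rw [map_mul, Equiv.Perm.mul_apply, hb k, ha (τ k)]; rfl⟩
      inv_mem' := by
        rintro a ⟨σ, hσ, ha⟩
        refine ⟨σ⁻¹, inv_mem hσ, fun k => ?_⟩
        rw [map_inv, Equiv.Perm.inv_eq_iff_eq, ha (σ⁻¹ k)]
        exact congrArg e (σ.apply_symm_apply k).symm }
  choose s hs hse using fun g : X => g.2
  have huniq : ∀ (g : X) (σ : Equiv.Perm (Fin N)), (∀ k, φ (g : G) (e k) = e (σ k)) → s g = σ :=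
    fun g σ h => Equiv.ext fun k => he ((hse g k).symm.trans (h k))
  let f : X →* genGroup N Ps := MonoidHom.mk' (fun g => ⟨s g, hs g⟩) fun a b =>
    Subtype.ext (huniq (a * b) _ fun k => by
      rw [Subgroup.coe_mul, map_mul, Equiv.Perm.mul_apply, hse b k, hse a (s b k)]; rfl)
  have hf : Function.Surjective f := by
    have hlift : ∀ σ ∈ genGroup N Ps, ∃ g : X, s g = σ := by
      intro σ hσ
      induction hσ using Subgroup.closure_induction with
      | mem σ hσ =>
        obtain ⟨g, hgσ⟩ := hg σ hσ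
        exact ⟨⟨g, σ, Subgroup.subset_closure hσ, hgσ⟩, huniq _ _ hgσ⟩
      | one => exact ⟨1, huniq _ _ fun k => by simp⟩
      | mul a b _ _ iha ihb =>
        obtain ⟨g, rfl⟩ := iha
        obtain ⟨g', rfl⟩ := ihb
        exact ⟨g * g', congrArg Subtype.val (map_mul f g g')⟩
      | inv a _ iha =>
        obtain ⟨g, rfl⟩ := iha
        exact ⟨g⁻¹, congrArg Subtype.val (map_inv f g)⟩
    rintro ⟨σ, hσ⟩
    obtain ⟨g, hg'⟩ := hlift σ hσ
    exact ⟨g, Subtype.ext hg'⟩
  have hZX : Z ≤ X := fun z hz => ⟨1, one_mem _, fun k => hZ z hz k⟩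
  have hker : Z.subgroupOf X ≤ f.ker := fun z hz =>
    MonoidHom.mem_ker.mpr (Subtype.ext (huniq z 1 fun k => hZ _ hz k))
  have hcX : Nat.card X = Nat.card f.ker * Nat.card (genGroup N Ps) := by
    rw [Subgroup.card_eq_card_quotient_mul_card_subgroup f.ker,
      Nat.card_congr (QuotientGroup.quotientKerEquivOfSurjective f hf).toEquiv, mul_comm]
  have hZc : Nat.card Z ≤ Nat.card f.ker := by
    rw [← Nat.card_congr (Subgroup.subgroupOfEquivOfLe hZX).toEquiv]
    exact Subgroup.card_le_of_le hker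
  have hXG : Nat.card X ≤ Nat.card G := Subgroup.card_le_card_group X
  have hMpos : 0 < M := Nat.pos_of_ne_zero fun h => by
    rw [h, mul_zero] at hG; exact Nat.card_pos.ne' hG
  have h1 : Nat.card G ≤ Nat.card X := by
    rw [hG, hcX]; exact Nat.mul_le_mul hZc hM
  have hX : X = ⊤ := Subgroup.eq_top_of_card_eq X (le_antisymm hXG h1)
  have hkc : Nat.card f.ker = Nat.card Z := by
    refine le_antisymm (Nat.le_of_mul_le_mul_right ?_ hMpos) hZc
    calc Nat.card f.ker * M ≤ Nat.card f.ker * Nat.card (genGroup N Ps) := Nat.mul_le_mul_left _ hM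
      _ = Nat.card X := hcX.symm
      _ ≤ Nat.card G := hXG
      _ = Nat.card Z * M := hG
  let F : G →* genGroup N Ps := f.comp (((MulEquiv.subgroupCongr hX).trans Subgroup.topEquiv).symm.toMonoidHom)
  have hF : Function.Surjective F :=
    hf.comp ((MulEquiv.subgroupCongr hX).trans Subgroup.topEquiv).symm.surjective
  have hkerF : F.ker = Z := by
    refine (Subgroup.eq_of_le_of_card_ge ?_ ?_).symm
    · intro z hz
      exact MonoidHom.mem_ker.mpr (hker (show ((((MulEquiv.subgroupCongr hX).trans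
        Subgroup.topEquiv).symm z : X) : G) ∈ Z from hz))
    · rw [← hkc]
      exact (Nat.card_congr
        { toFun := fun g => ⟨(g.1 : G), g.2⟩
          invFun := fun g => ⟨⟨g.1, hX.symm ▸ Subgroup.mem_top _⟩, g.2⟩
          left_inv := fun _ => rfl
          right_inv := fun _ => rfl }).symm.le
  exact ⟨(QuotientGroup.quotientMulEquivOfEq hkerF.symm).trans
    (QuotientGroup.quotientKerEquivOfSurjective F hF)⟩

end Cfsg.Agent.PermImageCert

namespace Cfsg.Agent.PermImageCert

/-- The first tree of a chain gives transitivity. -/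
theorem transitive_of_tree {N : ℕ} {gens : List (ℕ × ℕ)} {os : List (ℕ × ℕ × ℕ)} {es : List ℕ}
    {L : List (ℕ × List ℕ)} (hg : gens.all (invOK N) = true) (hs : slpOK N (allCodes gens) os = true)
    (hc : chainOK N (allCodes gens ++ os.map (fun o => o.2.2)) [] ((0, es) :: L) = true)
    (hlen : es.length + 1 = N) (k : Fin N) :
    ∃ σ ∈ genGroup N (gens.map Prod.fst), (σ k : ℕ) = 0 := by
  simp only [chainOK, Bool.and_eq_true, Nat.blt_eq] at hc
  obtain ⟨⟨hb, htree⟩, -⟩ := hc
  obtain ⟨S, hS, hSr⟩ := tree_spec (inGroup_slp os _ hs (inGroup_allCodes hg)) [] ⟨0, hb⟩ es _ htree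
    {⟨0, hb⟩} (fun p => by
      rw [Nat.one_shiftLeft, Nat.testBit_two_pow, decide_eq_true_eq, Finset.mem_singleton, Fin.ext_iff]
      exact ⟨Eq.symm, Eq.symm⟩)
    (fun p hp => ⟨1, one_mem _, by rw [Finset.mem_singleton] at hp; rw [hp]; rfl⟩)
  have hU : S = Finset.univ := Finset.eq_univ_of_card S (by
    rw [Finset.card_singleton] at hS; rw [hS, Fintype.card_fin]; omega)
  obtain ⟨σ, hσ, hσk⟩ := hSr k (hU ▸ Finset.mem_univ k)
  refine ⟨σ⁻¹, inv_mem hσ.1, ?_⟩
  rw [← hσk]; simp

end Cfsg.Agent.PermImageCert
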