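import Cfsg.Agent.Lib.LeechStab
import Cfsg.Agent.Lib.LeechCo2
import Cfsg.Agent.Lib.GolayOctadStab
import Cfsg.Agent.Lib.SymplecticType
import Cfsg.Agent.Lib.PermImageCert

/-!
The extraspecial group of order 512 of monomial maps fixing the standard octad pointwise.
-/

set_option autoImplicit false
set_option linter.style.haveILetI false

open scoped symmDiff Pointwise commutatorElement

namespace Cfsg.Agent.LeechCo2Core

open Cfsg Cfsg.Agent.GolayBasic Cfsg.Agent.LeechBasic Cfsg.Agent.LeechAut Cfsg.Agent.LeechMonomial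
open Cfsg.Agent.LeechStab Cfsg.Agent.GolayOctadStab Cfsg.Agent.GolayData
open Cfsg.Agent.GolayPerm (pimg pmask pts good valid permOf permOf_mem_M24 valid_of_good smul_mset permOf_apply pfun)

/-- The code words vanishing on the octad. -/
def disjointCodes : List ℕ := [0, 10558, 36294, 42232, 525274, 535268, 560668, 567074, 1050548, 1060490,
  1084018, 1090380, 1573998, 1584464, 1608104, 1613974, 2101096, 2106966, 2130606, 2141072, 2624690,
  2631052, 2654580, 2664522, 3147996, 3154402, 3179802, 3189796, 3672838, 3678776, 3704512, 3715070]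

theorem disjointCodes_ok : disjointCodes.all (fun m => inCode m && Nat.blt m 16777216 &&
    Nat.beq (Nat.land m 13062145) 0) = true := by decide +kernel

theorem disjointCodes_complete : PermImageCert.allBelow (fun a => PermImageCert.allBelow (fun b =>
    !Nat.beq (Nat.land (enc (64 * a + b)) 13062145) 0 || disjointCodes.any (Nat.beq (enc (64 * a + b)))) 64) 64 = true := by
  decide +kernel

theorem compl_mem : (mset 3715070) ∈ CodeSupp := (mset_mem_supports (by norm_num)).2 (by decide +kernel)

theorem mem_compl_iff {p : GolayPt} : p ∈ mset 3715070 ↔ p ∉ O0 := by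
  rw [← Finset.mem_compl, O0, ← mset_compl]; rfl

/-- The sign change outside the octad. -/
def tElt : Co0 := signElt ⟨mset 3715070, compl_mem⟩

theorem tElt_apply (v : leechLattice) (i : GolayPt) :
    ((tElt • v : leechLattice) : GolayPt → ℤ) i =
      if i ∈ O0 then (v : GolayPt → ℤ) i else -(v : GolayPt → ℤ) i := by
  rw [tElt, LeechCo2.signElt_apply]
  by_cases h : i ∈ O0
  · rw [if_pos h, if_neg fun h' => mem_compl_iff.mp h' h]
  · rw [if_neg h, if_pos (mem_compl_iff.mpr h)]

/-- Membership in the extraspecial group. -/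
def InCore (g : Co0) : Prop :=
  ∃ (σ : Equiv.Perm GolayPt) (hσ : σ ∈ M24) (c : Finset GolayPt) (hc : c ∈ CodeSupp),
    (∀ p ∈ O0, σ p = p) ∧ (∀ p ∈ O0, p ∉ c) ∧ g = monomial σ hσ c hc

/-- An element of the extraspecial group from its codes. -/
def Coded (g : Co0) : Prop :=
  ∃ (P m : ℕ) (hP : P ∈ tr24_6) (hm : m ∈ disjointCodes) (hc : mset m ∈ CodeSupp),
    g = monomial (permOf P) (permOf_mem_M24 (check_of_mem hP).1) (mset m) hc

theorem code_mem {m : ℕ} (hm : m ∈ disjointCodes) :
    inCode m = true ∧ m < 2 ^ 24 ∧ Nat.land m 13062145 = 0 := by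
  have := List.all_eq_true.mp disjointCodes_ok m hm
  simp only [Bool.and_eq_true, Nat.blt_eq, Nat.beq_eq] at this
  exact ⟨this.1.1, by simpa using this.1.2, this.2⟩

theorem notMem_of_code {m : ℕ} (hm : m ∈ disjointCodes) {p : GolayPt} (hp : p ∈ O0) : p ∉ mset m := fun h => by
  have e := congrArg (fun n => Nat.testBit n (idx p)) (code_mem hm).2.2
  simp only [Nat.zero_testBit] at e
  rw [show Nat.land m 13062145 = m &&& 13062145 from rfl, Nat.testBit_and, mem_mset.mp h, mem_O0 hp] at e
  exact Bool.false_ne_true e.symm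

theorem inCore_iff_coded {g : Co0} : InCore g ↔ Coded g := by
  constructor
  · rintro ⟨σ, hσ, c, hc, hfix, hdis, rfl⟩
    obtain ⟨P, hP, hPσ⟩ := exists_listed (g := (⟨σ, hσ⟩ : M24)) (mem_pfix.mpr hfix)
    obtain ⟨x, hx, rfl⟩ := mem_supports_iff.1 hc
    have hz : Nat.land (enc x) 13062145 = 0 := by
      refine Nat.eq_of_testBit_eq fun i => ?_
      rw [show Nat.land (enc x) 13062145 = enc x &&& 13062145 from rfl, Nat.testBit_and, Nat.zero_testBit]
      by_cases hi : i < 24
      · cases hb : (enc x).testBit i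
        · rfl
        · rw [Bool.true_and, Bool.eq_false_iff]
          intro hO
          exact hdis (pt i) (mem_mset.2 (by rwa [idx_pt hi])) (mem_mset.2 (by rwa [idx_pt hi]))
      · rw [Nat.testBit_lt_two_pow (lt_of_lt_of_le (by norm_num : (13062145 : ℕ) < 2 ^ 24)
          (Nat.pow_le_pow_right (by norm_num) (by omega))), Bool.and_false]
    have h := PermImageCert.allBelow_spec (PermImageCert.allBelow_spec disjointCodes_complete (x / 64) (by omega))
      (x % 64) (by omega)
    rw [Nat.div_add_mod, hz] at h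
    simp only [Bool.or_eq_true, List.any_eq_true, Bool.not_eq_true'] at h
    rcases h with h | ⟨m, hm, hb⟩
    · exact absurd h (by decide)
    · have e : enc x = m := Nat.eq_of_beq_eq_true hb
      exact ⟨P, m, hP, hm, e ▸ hc, monomial_congr _ _ _ _ hPσ (by rw [e])⟩
  · rintro ⟨P, m, hP, hm, hc, rfl⟩
    exact ⟨_, _, _, _, (check_of_mem hP).2.1, fun p hp => notMem_of_code hm hp, rfl⟩

theorem inCore_mul {g h : Co0} (hg : InCore g) (hh : InCore h) : InCore (g * h) := by
  obtain ⟨σ, hσ, c, hc, hf, hd, rfl⟩ := hg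
  obtain ⟨τ, hτ, d, hd', hf', hd'', rfl⟩ := hh
  refine ⟨σ * τ, mul_mem hσ hτ, c ∆ (σ • d), symmDiff_mem_supports hc (GolayPerm.smul_mem_supports hσ hd'),
    fun p hp => by rw [Equiv.Perm.mul_apply, hf' p hp, hf p hp], fun p hp hin => ?_, monomial_mul hσ hτ hc hd'⟩
  have hpd : p ∉ σ • d := fun h => by
    rw [← Finset.inv_smul_mem_iff, Equiv.Perm.smul_def, Equiv.Perm.inv_eq_iff_eq.mpr (hf p hp).symm] at h
    exact hd'' p hp h
  rw [Finset.mem_symmDiff] at hin
  rcases hin with ⟨h, -⟩ | ⟨h, -⟩
  · exact hd p hp h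
  · exact hpd h

/-- The translations and the sign changes interact through the sign change outside the octad. -/
theorem twist_ok : tr24_6.all (fun P => disjointCodes.all fun m =>
    Nat.beq (Nat.xor (pmask P m) m) 0 || Nat.beq (Nat.xor (pmask P m) m) 3715070) = true := by decide +kernel

theorem twist {P m : ℕ} (hP : P ∈ tr24_6) (hm : m ∈ disjointCodes) :
    mset m ∆ (permOf P • mset m) = ∅ ∨ mset m ∆ (permOf P • mset m) = mset 3715070 := by
  have h := List.all_eq_true.mp (List.all_eq_true.mp twist_ok P hP) m hm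
  simp only [Bool.or_eq_true, Nat.beq_eq] at h
  rw [smul_mset (valid_of_good (check_of_mem hP).1), symmDiff_comm, ← mset_xor]
  rcases h with h | h
  · left
    rw [show pmask P m ^^^ m = 0 from h]
    ext p; simp [mem_mset]
  · exact Or.inr (by rw [show pmask P m ^^^ m = 3715070 from h])

theorem perm_sq {P : ℕ} (hP : P ∈ tr24_6) : permOf P * permOf P = 1 :=
  Equiv.ext fun p => (check_of_mem hP).2.2.1 p

theorem sign_empty_or_t {c : Finset GolayPt} (hc : c ∈ CodeSupp) (h : c = ∅ ∨ c = mset 3715070) :
    monomial 1 (one_mem _) c hc = 1 ∨ monomial 1 (one_mem _) c hc = tElt := by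
  rcases h with rfl | rfl
  · exact Or.inl monomial_one
  · exact Or.inr rfl

theorem coded_sq {g : Co0} (hg : Coded g) : g * g = 1 ∨ g * g = tElt := by
  obtain ⟨P, m, hP, hm, hc, rfl⟩ := hg
  rw [monomial_mul]
  have e := monomial_congr (mul_mem (permOf_mem_M24 (check_of_mem hP).1) (permOf_mem_M24 (check_of_mem hP).1))
    (one_mem _) (symmDiff_mem_supports hc (GolayPerm.smul_mem_supports (permOf_mem_M24 (check_of_mem hP).1) hc))
    (symmDiff_mem_supports hc (GolayPerm.smul_mem_supports (permOf_mem_M24 (check_of_mem hP).1) hc))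
    (perm_sq hP) rfl
  rw [e]
  exact sign_empty_or_t _ (twist hP hm)

/-- The extraspecial group. -/
def core : Subgroup Co0 where
  carrier := {g | InCore g}
  one_mem' := ⟨1, one_mem _, ∅, empty_mem_supports, fun _ _ => rfl,
    fun p _ => Finset.notMem_empty p, monomial_one.symm⟩
  mul_mem' := inCore_mul
  inv_mem' := by
    intro g hg
    rcases coded_sq (inCore_iff_coded.mp hg) with h | h
    · rw [inv_eq_of_mul_eq_one_right h]; exact hg
    · rw [show g⁻¹ = g * tElt from inv_eq_of_mul_eq_one_right (by rw [← mul_assoc, h, tElt, signElt_sq])]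
      exact inCore_mul hg ⟨1, one_mem _, _, compl_mem, fun _ _ => rfl,
        fun p hp h' => mem_compl_iff.mp h' hp, rfl⟩

theorem mem_core {g : Co0} : g ∈ core ↔ InCore g := Iff.rfl

theorem tElt_mem : tElt ∈ core :=
  ⟨1, one_mem _, _, compl_mem, fun _ _ => rfl, fun _ hp h => mem_compl_iff.mp h hp, rfl⟩

theorem tElt_ne_one : tElt ≠ 1 := by
  intro h
  rw [tElt, signElt, ← monomial_one] at h
  have := (monomial_injective (one_mem _) (one_mem _) compl_mem empty_mem_supports h).2
  have h1 : pt 1 ∈ mset 3715070 := by decide +kernel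
  rw [this] at h1
  exact Finset.notMem_empty _ h1

theorem pts_nodup : (tr24_6.map fun P => pimg P 1).Nodup := by decide +kernel

theorem coded_inj {P P' m m' : ℕ} (hP : P ∈ tr24_6) (hP' : P' ∈ tr24_6) (hm : m ∈ disjointCodes)
    (hm' : m' ∈ disjointCodes) {hc : mset m ∈ CodeSupp} {hc' : mset m' ∈ CodeSupp}
    (h : monomial (permOf P) (permOf_mem_M24 (check_of_mem hP).1) (mset m) hc =
      monomial (permOf P') (permOf_mem_M24 (check_of_mem hP').1) (mset m') hc') : P = P' ∧ m = m' := by
  obtain ⟨h1, h2⟩ := monomial_injective _ _ _ _ h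
  refine ⟨List.inj_on_of_nodup_map pts_nodup hP hP' ?_, mset_inj (code_mem hm).2.1 (code_mem hm').2.1 h2⟩
  have := congrArg (fun σ : Equiv.Perm GolayPt => idx (σ (pt 1))) h1
  simpa [permOf_apply (valid_of_good (check_of_mem hP).1), permOf_apply (valid_of_good (check_of_mem hP').1),
    pfun, idx_pt (show 1 < 24 by norm_num), idx_pt (GolayPerm.pimg_lt (valid_of_good (check_of_mem hP).1) (show 1 < 24 by norm_num)),
    idx_pt (GolayPerm.pimg_lt (valid_of_good (check_of_mem hP').1) (show 1 < 24 by norm_num))] using this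

theorem card_core : Nat.card core = 512 := by
  let f : {P // P ∈ tr24_6} × {m // m ∈ disjointCodes} → core := fun q =>
    ⟨monomial (permOf q.1.1) (permOf_mem_M24 (check_of_mem q.1.2).1) (mset q.2.1)
      ((mset_mem_supports (code_mem q.2.2).2.1).2 (code_mem q.2.2).1),
      inCore_iff_coded.mpr ⟨_, _, q.1.2, q.2.2, _, rfl⟩⟩
  have hf : Function.Bijective f := by
    refine ⟨fun q q' h => ?_, fun g => ?_⟩
    · obtain ⟨e1, e2⟩ := coded_inj (hc := (mset_mem_supports (code_mem q.2.2).2.1).2 (code_mem q.2.2).1)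
        (hc' := (mset_mem_supports (code_mem q'.2.2).2.1).2 (code_mem q'.2.2).1)
        q.1.2 q'.1.2 q.2.2 q'.2.2 (congrArg Subtype.val h)
      exact Prod.ext (Subtype.ext e1) (Subtype.ext e2)
    · obtain ⟨P, m, hP, hm, hc, he⟩ := inCore_iff_coded.mp g.2
      exact ⟨(⟨P, hP⟩, ⟨m, hm⟩), Subtype.ext he.symm⟩
  rw [← Nat.card_eq_of_bijective f hf, Nat.card_prod,
    Nat.card_congr (List.Nodup.getEquiv tr24_6 (List.Nodup.of_map _ pts_nodup)).symm,
    Nat.card_congr (List.Nodup.getEquiv disjointCodes (by decide +kernel)).symm,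
    Nat.card_fin, Nat.card_fin]
  rfl

theorem tElt_comm {g : Co0} (hg : g ∈ core) : tElt * g = g * tElt := by
  obtain ⟨σ, hσ, c, hc, hf, -, rfl⟩ := hg
  rw [tElt, signElt, monomial_mul, monomial_mul]
  refine monomial_congr _ _ _ _ (by rw [one_mul, mul_one]) ?_
  rw [one_smul, symmDiff_comm]
  refine congrArg (fun s => c ∆ s) (Eq.symm ?_)
  ext p
  rw [← Finset.inv_smul_mem_iff, Equiv.Perm.smul_def, mem_compl_iff, mem_compl_iff]
  refine not_congr ⟨fun h => ?_, fun h => ?_⟩
  · have e := hf _ h
    rw [show σ (σ⁻¹ p) = p from σ.apply_symm_apply p] at e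
    rwa [e]
  · rwa [Equiv.Perm.inv_eq_iff_eq.mpr (hf p h).symm]

/-- Every nontrivial translation moves some code word, every code word but two is moved. -/
theorem moves_ok : tr24_6.all (fun P => pts.all (fun i => Nat.beq (pimg P i) i) ||
      disjointCodes.any (fun m => !Nat.beq (pmask P m) m)) &&
    disjointCodes.all (fun m => Nat.beq m 0 || Nat.beq m 3715070 ||
      tr24_6.any (fun P => !Nat.beq (pmask P m) m)) = true := by decide +kernel

theorem isExtraspecial_core : IsExtraspecial 2 core := by
  haveI : Fact (Nat.Prime 2) := ⟨Nat.prime_two⟩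
  haveI : Finite core := Nat.finite_of_card_ne_zero (by rw [card_core]; norm_num)
  let z : core := ⟨tElt, tElt_mem⟩
  have hz2 : orderOf z = 2 := by
    refine orderOf_eq_prime (Subtype.ext ?_) fun h => tElt_ne_one (congrArg Subtype.val h)
    rw [sq]; exact signElt_sq _
  have hzc : z ∈ Subgroup.center core :=
    Subgroup.mem_center_iff.mpr fun g => Subtype.ext (tElt_comm g.2).symm
  have hpw : ∀ g : core, g * g ∈ Subgroup.zpowers z := fun g => by
    rcases coded_sq (inCore_iff_coded.mp g.2) with h | h
    · rw [show g * g = 1 from Subtype.ext h]; exact one_mem _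
    · rw [show g * g = z from Subtype.ext h]; exact Subgroup.mem_zpowers z
  have hmove := moves_ok
  simp only [Bool.and_eq_true, List.all_eq_true, Bool.or_eq_true, List.any_eq_true, Bool.not_eq_true',
    Nat.beq_eq, decide_eq_true_eq] at hmove
  have hne : ∀ {P m : ℕ}, P ∈ tr24_6 → Nat.beq (pmask P m) m = false → m ∈ disjointCodes →
      permOf P • mset m ≠ mset m := fun {P m} hP hb hm e => by
    rw [smul_mset (valid_of_good (check_of_mem hP).1)] at e
    have hlt : pmask P m < 2 ^ 24 := by
      have hall : tr24_6.all (fun P => disjointCodes.all fun m => Nat.blt (pmask P m) 16777216) = true := by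
        decide +kernel
      have := List.all_eq_true.mp (List.all_eq_true.mp hall P hP) m hm
      simpa using this
    rw [mset_inj hlt (code_mem hm).2.1 e] at hb
    exact Bool.false_ne_true (hb.symm.trans (Nat.beq_eq.mpr rfl))
  refine SymplecticType.isExtraspecial_of (z := z) ?_ ⟨hzc, hz2⟩ ?_ (fun g => by rw [sq]; exact hpw g) ?_ ?_
  · exact IsPGroup.of_card (n := 9) (by rw [card_core]; rfl)
  · intro g h
    have e : ⁅g, h⁆ = (g * h) * (g * h) * ((h * h)⁻¹ * (g * g)⁻¹) := by
      have hc : ∀ a : core, Commute (a * a) h := fun a => by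
        obtain ⟨k, hk⟩ := Subgroup.mem_zpowers_iff.mp (hpw a)
        rw [← hk]
        exact ((Subgroup.mem_center_iff.mp (zpow_mem hzc k)) h).symm
      have hc' : ∀ a : core, ∀ b : core, (a * a)⁻¹ * b = b * (a * a)⁻¹ := fun a b => by
        obtain ⟨k, hk⟩ := Subgroup.mem_zpowers_iff.mp (hpw a)
        rw [← hk]
        exact ((Subgroup.mem_center_iff.mp (inv_mem (zpow_mem hzc k))) b).symm
      rw [commutatorElement_def]
      calc g * h * g⁻¹ * h⁻¹ = g * h * (g * (g * g)⁻¹) * (h * (h * h)⁻¹) := by group
        _ = g * h * g * ((g * g)⁻¹ * h) * (h * h)⁻¹ := by group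
        _ = g * h * g * (h * (g * g)⁻¹) * (h * h)⁻¹ := by rw [hc']
        _ = (g * h) * (g * h) * ((g * g)⁻¹ * (h * h)⁻¹) := by group
        _ = _ := by rw [hc']
    rw [e]
    exact mul_mem (hpw _) (mul_mem (inv_mem (hpw _)) (inv_mem (hpw _)))
  · intro g hg
    obtain ⟨P, m, hP, hm, hc, he⟩ := inCore_iff_coded.mp g.2
    have hcomm := Subgroup.mem_center_iff.mp hg
    have hP1 : permOf P = 1 := by
      rcases hmove.1 P hP with h | ⟨m', hm', hb⟩
      · refine Equiv.ext fun p => idx_inj ?_
        have := h (idx p) (GolayPerm.mem_pts.2 (idx_lt p))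
        rw [permOf_apply (valid_of_good (check_of_mem hP).1), pfun,
          idx_pt (GolayPerm.pimg_lt (valid_of_good (check_of_mem hP).1) (idx_lt p)), this]
        rfl
      · exfalso
        have hc' := (mset_mem_supports (code_mem hm').2.1).2 (code_mem hm').1
        have e := congrArg Subtype.val (hcomm ⟨monomial 1 (one_mem _) (mset m') hc',
          1, one_mem _, _, hc', fun _ _ => rfl, fun p hp => notMem_of_code hm' hp, rfl⟩)
        rw [Subgroup.coe_mul, Subgroup.coe_mul, he] at e
        simp only [monomial_mul] at e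
        have e2 := (monomial_injective _ _ _ _ e).2
        rw [one_smul, symmDiff_comm] at e2
        exact hne hP hb hm' (symmDiff_right_injective _ e2).symm
    have hm2 : m = 0 ∨ m = 3715070 := by
      rcases hmove.2 m hm with (h | h) | ⟨P', hP', hb⟩
      · exact Or.inl h
      · exact Or.inr h
      · exfalso
        have hc' : (∅ : Finset GolayPt) ∈ CodeSupp := empty_mem_supports
        have e := congrArg Subtype.val (hcomm ⟨monomial (permOf P') (permOf_mem_M24 (check_of_mem hP').1) ∅ hc',
          _, _, _, hc', (check_of_mem hP').2.1, fun p _ => Finset.notMem_empty p, rfl⟩)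
        rw [Subgroup.coe_mul, Subgroup.coe_mul, he] at e
        simp only [monomial_mul] at e
        have e2 := (monomial_injective _ _ _ _ e).2
        simp only [hP1, one_smul, Finset.smul_finset_empty] at e2
        have hA : ∀ s : Finset GolayPt, (∅ : Finset GolayPt) ∆ s = s ∧ s ∆ (∅ : Finset GolayPt) = s := fun s => by
          constructor <;> simp [symmDiff_def]
        rw [(hA _).1, (hA _).2] at e2
        exact hne hP' hb hm e2
    have hcs : mset m = ∅ ∨ mset m = mset 3715070 := by
      rcases hm2 with rfl | rfl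
      · left; ext p; simp [mem_mset]
      · exact Or.inr rfl
    have hg' : (g : Co0) = monomial 1 (one_mem _) (mset m) hc := he.trans (monomial_congr _ _ _ _ hP1 rfl)
    rcases sign_empty_or_t hc hcs with h | h
    · rw [show g = 1 from Subtype.ext (hg'.trans h)]; exact one_mem _
    · rw [show g = z from Subtype.ext (hg'.trans h)]; exact Subgroup.mem_zpowers z
  · by_contra hcon
    push Not at hcon
    have hall : ∀ g : core, g ∈ Subgroup.center core := fun g => Subgroup.mem_center_iff.mpr fun h =>
      (commutatorElement_eq_one_iff_commute.mp (hcon h g))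
    obtain ⟨P, hP, m, hm, hb⟩ : ∃ P ∈ tr24_6, ∃ m ∈ disjointCodes, Nat.beq (pmask P m) m = false := by
      have : tr24_6.any (fun P => disjointCodes.any fun m => !Nat.beq (pmask P m) m) = true := by decide +kernel
      simpa [List.any_eq_true] using this
    have hc := (mset_mem_supports (code_mem hm).2.1).2 (code_mem hm).1
    have hc' : (∅ : Finset GolayPt) ∈ CodeSupp := empty_mem_supports
    have e := congrArg Subtype.val (Subgroup.mem_center_iff.mp
      (hall ⟨monomial 1 (one_mem _) (mset m) hc, 1, one_mem _, _, hc, fun _ _ => rfl,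
        fun p hp => notMem_of_code hm hp, rfl⟩)
      ⟨monomial (permOf P) (permOf_mem_M24 (check_of_mem hP).1) ∅ hc',
          _, _, _, hc', (check_of_mem hP).2.1, fun p _ => Finset.notMem_empty p, rfl⟩)
    simp only [Subgroup.coe_mul, monomial_mul] at e
    have e2 := (monomial_injective _ _ _ _ e).2
    simp only [one_smul] at e2
    have hA : ∀ s : Finset GolayPt, (∅ : Finset GolayPt) ∆ s = s ∧ s ∆ (∅ : Finset GolayPt) = s := fun s => by
      constructor <;> simp [symmDiff_def]
    rw [(hA _).1, (hA _).2] at e2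
    exact hne hP hb hm e2

end Cfsg.Agent.LeechCo2Core
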