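import Cfsg.Agent.Lib.SymplecticBasic

/-!
A group permuting the vectors of a symplectic space over `ZMod 2` and keeping the form, with image
at least as large as the symplectic group, maps onto that group.
-/

set_option autoImplicit false
set_option linter.style.haveILetI false

namespace Cfsg.Agent.SympPermImage

open Matrix Cfsg Cfsg.Agent.SymplecticBasic

variable {m : ℕ}

/-- The symplectic space. -/
abbrev V (m : ℕ) : Type := Fin m ⊕ Fin m → ZMod 2

theorem exists_of_preserves (σ : Equiv.Perm (V m))
    (hσ : ∀ u v, sympForm m (ZMod 2) (σ u) (σ v) = sympForm m (ZMod 2) u v) :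
    ∃ g : symplecticGroup (Fin m) (ZMod 2), ∀ u, g • u = σ u := by
  have hadd : ∀ u v, σ (u + v) = σ u + σ v := fun u v => by
    rw [← sub_eq_zero]
    refine form_nondeg fun w => ?_
    obtain ⟨w, rfl⟩ := σ.surjective w
    rw [form_sub_left, form_add_left, hσ, hσ, hσ, form_add_left, sub_self]
  let f : V m →ₗ[ZMod 2] V m := (AddMonoidHom.mk' σ hadd).toZModLinearMap 2
  have hf : ∀ u, LinearMap.toMatrix' f *ᵥ u = σ u := fun u => by
    rw [← Matrix.toLin'_apply, Matrix.toLin'_toMatrix']; rfl
  exact ⟨⟨LinearMap.toMatrix' f, mem_sp_iff_form.mpr fun u v => by rw [hf, hf]; exact hσ u v⟩, hf⟩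

theorem exists_iso {G : Type*} [Group G] (ψ : G →* Equiv.Perm (V m))
    (hψ : ∀ g u v, sympForm m (ZMod 2) (ψ g u) (ψ g v) = sympForm m (ZMod 2) u v)
    (hcard : Nat.card (symplecticGroup (Fin m) (ZMod 2)) ≤ Nat.card ψ.range) :
    Nonempty (G ⧸ ψ.ker ≃* symplecticGroup (Fin m) (ZMod 2)) := by
  choose s hs using fun g => exists_of_preserves (ψ g) (hψ g)
  let f : G →* symplecticGroup (Fin m) (ZMod 2) := MonoidHom.mk' s fun a b => ext_smul fun u => by
    rw [mul_smul, hs, hs, hs, map_mul, Equiv.Perm.mul_apply]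
  have hker : f.ker = ψ.ker := by
    ext g
    rw [MonoidHom.mem_ker, MonoidHom.mem_ker]
    constructor
    · intro h
      exact Equiv.ext fun u => by rw [← hs g u, show s g = 1 from h, one_smul]; rfl
    · intro h
      exact ext_smul fun u => by
        rw [show f g = s g from rfl, hs, h, one_smul]; rfl
  have hsurj : Function.Surjective f := by
    rw [← MonoidHom.range_eq_top]
    refine Subgroup.eq_top_of_card_eq _ (le_antisymm (Subgroup.card_le_card_group _) (hcard.trans ?_))
    rw [← Nat.card_congr (QuotientGroup.quotientKerEquivRange ψ).toEquiv,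
      ← Nat.card_congr (QuotientGroup.quotientKerEquivRange f).toEquiv, hker]
  exact ⟨(QuotientGroup.quotientMulEquivOfEq hker.symm).trans
    (QuotientGroup.quotientKerEquivOfSurjective f hsurj)⟩

end Cfsg.Agent.SympPermImage
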