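import Cfsg.Agent.Lib.LeechCo2Roots
import Cfsg.Agent.Lib.LeechCo2Core
import Cfsg.Agent.Lib.SympPermImage
import Cfsg.Agent.Lib.SymplecticOrder
import Cfsg.Agent.Lib.SymplecticSimple
import Cfsg.Agent.Lib.LeechCertOrders

/-!
The centraliser in Co₂ of the sign change outside an octad: an extraspecial group of order 512
extended by the symplectic group of rank 3 over the field with two elements.
-/

set_option autoImplicit false
set_option linter.style.haveILetI false

open scoped Pointwise

namespace Cfsg.Agent.LeechCo2Cent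

open Cfsg Cfsg.Agent.GolayBasic Cfsg.Agent.LeechBasic Cfsg.Agent.LeechAut Cfsg.Agent.LeechOrbit
open Cfsg.Agent.GolayPerm (pts mem_pts)
open Cfsg.Agent.LeechCert Cfsg.Agent.PermImageCert Cfsg.Agent.GolayOctadStab Cfsg.Agent.LeechCo2Core
open Cfsg.Agent.LeechStab Cfsg.Agent.LeechMonomial Cfsg.Agent.SympPermImage

/-! ### The tables -/

theorem isL_A : ∀ k : Fin 63, LeechXi.isL (vec (LeechImage.code rootsA k)) = true := by decide +kernel

/-- A root from the table. -/
def rA (k : Fin 63) : leechLattice := ofCode (LeechImage.code rootsA k) (isL_A k)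

theorem table_props : ∀ k : Fin 63, sqNorm (rA k : GolayPt → ℤ) = 32 ∧
    (∀ p, p ∉ O0 → (rA k : GolayPt → ℤ) p = 0) ∧
    (rA k : GolayPt → ℤ) none + (rA k : GolayPt → ℤ) (some 0) = 0 ∧
    ∀ p, vec (LeechImage.code rootsB k) p = -(rA k : GolayPt → ℤ) p := by decide +kernel

theorem isRoot_rA (k : Fin 63) : IsRoot (rA k) :=
  ⟨(table_props k).1, (table_props k).2.1, (table_props k).2.2.1⟩

/-- The coordinates modulo two of a root. -/
def lab (k : Fin 63) : V 3 :=
  Sum.elim (fun i => if (labels.getD k 0).testBit i.val then 1 else 0)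
    (fun i => if (labels.getD k 0).testBit (i.val + 3) then 1 else 0)

/-- The symplectic form, written out. -/
def form3 (u v : V 3) : ZMod 2 :=
  (u (Sum.inr 0) * v (Sum.inl 0) - u (Sum.inl 0) * v (Sum.inr 0)) +
    (u (Sum.inr 1) * v (Sum.inl 1) - u (Sum.inl 1) * v (Sum.inr 1)) +
    (u (Sum.inr 2) * v (Sum.inl 2) - u (Sum.inl 2) * v (Sum.inr 2))

theorem form3_eq (u v : V 3) : sympForm 3 (ZMod 2) u v = form3 u v := by
  rw [SymplecticBasic.form_eq_sum, Fin.sum_univ_three]; rfl

theorem lab_form' : ∀ k l : Fin 63, form3 (lab k) (lab l) =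
    ((dotInt (rA k : GolayPt → ℤ) (rA l) / 16 : ℤ) : ZMod 2) := by decide +kernel

theorem lab_form (k l : Fin 63) : sympForm 3 (ZMod 2) (lab k) (lab l) =
    ((dotInt (rA k : GolayPt → ℤ) (rA l) / 16 : ℤ) : ZMod 2) := (form3_eq _ _).trans (lab_form' k l)

theorem lab_inj : ∀ k l : Fin 63, lab k = lab l → k = l := by decide +kernel

theorem lab_ne : ∀ k : Fin 63, lab k ≠ 0 := by decide +kernel

theorem card_nonzero : Nat.card {v : V 3 // v ≠ 0} = 63 := by
  rw [Nat.card_eq_fintype_card, Fintype.card_subtype_compl, Fintype.card_subtype_eq]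
  simp

/-- The roots up to sign as the nonzero vectors. -/
noncomputable def labEquiv : Fin 63 ≃ {v : V 3 // v ≠ 0} :=
  Equiv.ofBijective (fun k => ⟨lab k, lab_ne k⟩) ((Nat.bijective_iff_injective_and_card _).mpr
    ⟨fun k l h => lab_inj k l (congrArg Subtype.val h), by rw [card_nonzero, Nat.card_fin]⟩)

theorem orth_graph : ∀ k l : Fin 63, ∃ m : Fin 63, dotInt (rA k : GolayPt → ℤ) (rA m) ≠ 0 ∧
    dotInt (rA l : GolayPt → ℤ) (rA m) ≠ 0 := by decide +kernel

/-! ### The group -/

/-- The centraliser of the sign change in the stabiliser of the standard vector. -/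
def cent : Subgroup Co0 := MulAction.stabilizer Co0 Spor.leechU ⊓ Subgroup.centralizer {tElt}

theorem mem_cent {g : Co0} : g ∈ cent ↔ g • Spor.leechU = Spor.leechU ∧ tElt * g = g * tElt := by
  rw [cent, Subgroup.mem_inf, MulAction.mem_stabilizer_iff, Subgroup.mem_centralizer_singleton_iff]
  exact and_congr_right fun _ => eq_comm

theorem inO_iff (x : leechLattice) : InO x ↔ tElt • x = x := by
  constructor
  · intro h
    refine Subtype.ext (funext fun p => ?_)
    rw [tElt_apply]
    by_cases hp : p ∈ O0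
    · rw [if_pos hp]
    · rw [if_neg hp, h p hp]; rfl
  · intro h p hp
    have := congrArg (fun y : leechLattice => (y : GolayPt → ℤ) p) h
    simp only [tElt_apply, if_neg hp] at this
    omega

theorem dot_U (x : GolayPt → ℤ) :
    dotInt ((Spor.leechU : leechLattice) : GolayPt → ℤ) x = 4 * (x none + x (some 0)) := by
  have e : ((Spor.leechU : leechLattice) : GolayPt → ℤ) = unitVec 4 none + unitVec 4 (some 0) := by
    funext p; revert p; decide +kernel
  rw [e, dotInt_comm]
  have h : dotInt x (unitVec 4 none + unitVec 4 (some 0)) =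
      dotInt x (unitVec 4 none) + dotInt x (unitVec 4 (some 0)) := by
    simp only [dotInt, Pi.add_apply, mul_add, Finset.sum_add_distrib]
  rw [h, dotInt_unitVec, dotInt_unitVec]; ring

theorem smul_root {g : Co0} (hg : g ∈ cent) {x : leechLattice} (hx : IsRoot x) : IsRoot (g • x) := by
  obtain ⟨hU, ht⟩ := mem_cent.mp hg
  refine ⟨by rw [sqNorm_smul]; exact hx.1, (inO_iff _).mpr ?_, ?_⟩
  · rw [← mul_smul, ht, mul_smul, (inO_iff x).mp hx.2.1]
  · have h := dotInt_smul g Spor.leechU x
    rw [hU, dot_U, dot_U, hx.2.2] at h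
    omega

theorem exists_index {x : leechLattice} (hx : IsRoot x) : ∃ k : Fin 63, x = rA k ∨ x = -rA k := by
  obtain ⟨k, hk, h | h⟩ := exists_root hx
  · exact ⟨⟨k, hk⟩, Or.inl (Subtype.ext h)⟩
  · exact ⟨⟨k, hk⟩, Or.inr (Subtype.ext (funext fun p => (congrFun h p).trans ((table_props ⟨k, hk⟩).2.2.2 p)))⟩

theorem dot_neg_left (x y : GolayPt → ℤ) : dotInt (-x) y = -dotInt x y := by
  rw [dotInt, dotInt, ← Finset.sum_neg_distrib]
  exact Finset.sum_congr rfl fun i _ => by rw [Pi.neg_apply]; ring

theorem cast_div_neg {d : ℤ} (h : ∃ e, d = 16 * e) : (((-d) / 16 : ℤ) : ZMod 2) = ((d / 16 : ℤ) : ZMod 2) := by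
  obtain ⟨e, rfl⟩ := h
  rw [Int.mul_ediv_cancel_left _ (by norm_num), show -(16 * e) = 16 * -e by ring,
    Int.mul_ediv_cancel_left _ (by norm_num), Int.cast_neg, ZMod.neg_eq_self_mod_two]

theorem dot_sixteen : ∀ k l : Fin 63, dotInt (rA k : GolayPt → ℤ) (rA l) % 16 = 0 := by decide +kernel

theorem parity_of {x : leechLattice} {k : Fin 63} (hx : x = rA k ∨ x = -rA k) (l : Fin 63) :
    ((dotInt (x : GolayPt → ℤ) (rA l) / 16 : ℤ) : ZMod 2) = sympForm 3 (ZMod 2) (lab k) (lab l) := by
  rw [lab_form]
  rcases hx with rfl | rfl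
  · rfl
  · rw [show ((-rA k : leechLattice) : GolayPt → ℤ) = -(rA k : GolayPt → ℤ) from rfl, dot_neg_left]
    exact cast_div_neg ⟨dotInt (rA k : GolayPt → ℤ) (rA l) / 16, by have := dot_sixteen k l; omega⟩

theorem index_unique {x : leechLattice} {k k' : Fin 63} (hk : x = rA k ∨ x = -rA k)
    (hk' : x = rA k' ∨ x = -rA k') : k = k' := by
  refine lab_inj k k' (sub_eq_zero.mp (SymplecticBasic.form_nondeg fun v => ?_))
  rcases eq_or_ne v 0 with rfl | hv
  · exact SymplecticBasic.form_zero_right _
  · obtain ⟨l, hl⟩ := labEquiv.surjective ⟨v, hv⟩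
    have e : lab l = v := congrArg Subtype.val hl
    rw [SymplecticBasic.form_sub_left, ← e, ← parity_of hk, ← parity_of hk', sub_self]

/-- The permutation of the roots up to sign. -/
noncomputable def rootMap (g : cent) (k : Fin 63) : Fin 63 :=
  (exists_index (smul_root g.2 (isRoot_rA k))).choose

theorem rootMap_spec (g : cent) (k : Fin 63) :
    (g : Co0) • rA k = rA (rootMap g k) ∨ (g : Co0) • rA k = -rA (rootMap g k) :=
  (exists_index (smul_root g.2 (isRoot_rA k))).choose_spec

theorem rootMap_mul (g h : cent) (k : Fin 63) : rootMap (g * h) k = rootMap g (rootMap h k) := by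
  refine index_unique (rootMap_spec (g * h) k) ?_
  rw [Subgroup.coe_mul, mul_smul]
  rcases rootMap_spec h k with e | e <;> rw [e]
  · exact rootMap_spec g _
  · rw [smul_neg_vec]
    rcases rootMap_spec g (rootMap h k) with e' | e' <;> rw [e']
    · exact Or.inr rfl
    · exact Or.inl (neg_neg _)

theorem rootMap_one (k : Fin 63) : rootMap 1 k = k :=
  index_unique (rootMap_spec 1 k) (Or.inl (one_smul _ _))

/-- The action on the roots up to sign. -/
noncomputable def rootPerm : cent →* Equiv.Perm (Fin 63) :=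
  MonoidHom.mk' (fun g =>
      { toFun := rootMap g
        invFun := rootMap g⁻¹
        left_inv := fun k => by rw [← rootMap_mul, inv_mul_cancel, rootMap_one]
        right_inv := fun k => by rw [← rootMap_mul, mul_inv_cancel, rootMap_one] })
    fun g h => Equiv.ext fun k => rootMap_mul g h k

/-- The action on the symplectic space. -/
noncomputable def vecPerm : cent →* Equiv.Perm (V 3) :=
  (Equiv.Perm.extendDomainHom labEquiv).comp rootPerm

theorem vecPerm_lab (g : cent) (k : Fin 63) : vecPerm g (lab k) = lab (rootMap g k) :=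
  Equiv.Perm.extendDomain_apply_image (rootPerm g) labEquiv k

theorem vecPerm_zero (g : cent) : vecPerm g 0 = 0 :=
  Equiv.Perm.extendDomain_apply_not_subtype (rootPerm g) labEquiv (fun h => h rfl)

theorem vecPerm_form (g : cent) (u v : V 3) :
    sympForm 3 (ZMod 2) (vecPerm g u) (vecPerm g v) = sympForm 3 (ZMod 2) u v := by
  rcases eq_or_ne u 0 with rfl | hu
  · rw [vecPerm_zero, SymplecticBasic.form_zero_left, SymplecticBasic.form_zero_left]
  rcases eq_or_ne v 0 with rfl | hv
  · rw [vecPerm_zero, SymplecticBasic.form_zero_right, SymplecticBasic.form_zero_right]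
  obtain ⟨k, hk⟩ := labEquiv.surjective ⟨u, hu⟩
  obtain ⟨l, hl⟩ := labEquiv.surjective ⟨v, hv⟩
  rw [← show lab k = u from congrArg Subtype.val hk, ← show lab l = v from congrArg Subtype.val hl,
    vecPerm_lab, vecPerm_lab, ← parity_of (rootMap_spec g k), lab_form k l, ← dotInt_smul (g : Co0) (rA k) (rA l)]
  rcases rootMap_spec g l with e | e <;> rw [e]
  rw [dotInt_comm _ ((-rA (rootMap g l) : leechLattice) : GolayPt → ℤ),
    show ((-rA (rootMap g l) : leechLattice) : GolayPt → ℤ) = -(rA (rootMap g l) : GolayPt → ℤ) from rfl,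
    dot_neg_left, dotInt_comm (rA (rootMap g l) : GolayPt → ℤ)]
  refine (cast_div_neg ?_).symm
  rcases rootMap_spec g k with e' | e' <;> rw [e']
  · exact ⟨_, (Int.mul_ediv_cancel' (Int.dvd_of_emod_eq_zero (dot_sixteen _ _))).symm⟩
  · rw [show ((-rA (rootMap g k) : leechLattice) : GolayPt → ℤ) = -(rA (rootMap g k) : GolayPt → ℤ) from rfl,
      dot_neg_left]
    exact ⟨_, (Int.mul_ediv_cancel' (dvd_neg.mpr (Int.dvd_of_emod_eq_zero (dot_sixteen _ _)))).symm⟩

/-! ### The image -/

/-- The code of `8 e_i`. -/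
def frameCode (i : ℕ) : ℕ := c0 + 8 * 2 ^ (5 * i)

theorem frame_vec : ∀ i : GolayPt, ∀ p, vec (frameCode (idx i)) p = unitVec 8 i p := by decide +kernel

/-- A word keeps the two sides of the octad apart. -/
noncomputable def sidesOK (w : List Step) : Bool :=
  allBelow (fun i => allBelow (fun j => (Nat.testBit 13062145 i == Nat.testBit 13062145 j) ||
    Nat.beq (dg (applyWord w (frameCode i)) (5 * j)) 16) 24) 24

theorem perms_ok : perms.all (invOK 63) = true := by decide +kernel

theorem slp_ok : slpOK 63 (allCodes perms) slp = true := by decide +kernel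

theorem chain_ok : chainOK 63 (allCodes perms ++ slp.map (fun o => o.2.2)) [] chain = true := by decide +kernel

theorem chain_size : chainSize chain = 1451520 := by decide +kernel

theorem words_ok : (words.zip (perms.map Prod.fst)).all
    (fun q => LeechImage.pairImageOK (cU, c0, c0) 63 rootsA rootsB q && sidesOK q.1) = true := by decide +kernel

theorem words_map : (words.zip (perms.map Prod.fst)).map Prod.snd = perms.map Prod.fst := by decide +kernel

theorem smallF_ok : smallF (cU, c0, c0) = true := by decide +kernel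

theorem vec_A_small : ∀ k : Fin 63, smallVec (LeechImage.code rootsA k) = true := by decide +kernel

theorem exists_cent {q : List Step × ℕ} (hq : q ∈ words.zip (perms.map Prod.fst)) :
    ∃ g : cent, ∀ k : Fin 63, ((rootMap g k : Fin 63) : ℕ) = get q.2 k := by
  have h := List.all_eq_true.mp words_ok q hq
  simp only [Bool.and_eq_true, LeechImage.pairImageOK] at h
  obtain ⟨⟨hfix, himg⟩, hside⟩ := h
  obtain ⟨g, hg, hw⟩ := exists_fixing smallF_ok hfix
  have hgU : g • Spor.leechU = Spor.leechU := hg _ (Or.inl coe_leechU)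
  have hgt : tElt * g = g * tElt := by
    refine ext_frame fun i => ?_
    have hco : ((frame i : leechLattice) : GolayPt → ℤ) = vec (frameCode (idx i)) :=
      (funext (frame_vec i)).symm
    have hgi : ∀ p, ¬ (p ∈ O0 ↔ i ∈ O0) → ((g • frame i : leechLattice) : GolayPt → ℤ) p = 0 := fun p hp => by
      rw [hw (frame i) _ (by rw [sqNorm_frame]; norm_num) hco, vec, dig_eq_dg]
      have := allBelow_spec (allBelow_spec hside (idx i) (idx_lt i)) (idx p) (idx_lt p)
      simp only [Bool.or_eq_true, beq_iff_eq, Nat.beq_eq] at this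
      rcases this with e | e
      · refine absurd ?_ hp
        rw [O0, mem_mset, mem_mset, e]
      · rw [e]; rfl
    have ht : tElt • frame i = if i ∈ O0 then frame i else -frame i := by
      refine Subtype.ext (funext fun p => ?_)
      rw [tElt_apply]
      by_cases hp : p = i
      · subst hp; by_cases hi : p ∈ O0 <;> simp [hi]
      · have h0 : ((frame i : leechLattice) : GolayPt → ℤ) p = 0 := if_neg hp
        by_cases hi : i ∈ O0 <;> by_cases hp' : p ∈ O0 <;> simp [hi, hp', h0]
    rw [mul_smul, mul_smul, ht]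
    refine Subtype.ext (funext fun p => ?_)
    rw [tElt_apply]
    by_cases hi : i ∈ O0
    · rw [if_pos hi]
      by_cases hp : p ∈ O0
      · rw [if_pos hp]
      · rw [if_neg hp, hgi p (by tauto)]; rfl
    · rw [if_neg hi, smul_neg_vec,
        show ((-(g • frame i) : leechLattice) : GolayPt → ℤ) p = -((g • frame i : leechLattice) : GolayPt → ℤ) p from rfl]
      by_cases hp : p ∈ O0
      · rw [if_pos hp, hgi p (by tauto)]; rfl
      · rw [if_neg hp]
  refine ⟨⟨g, mem_cent.mpr ⟨hgU, hgt⟩⟩, fun k => ?_⟩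
  have hk := allBelow_spec himg k k.2
  simp only [Bool.or_eq_true, Bool.and_eq_true, Nat.beq_eq] at hk
  have hs : sqNorm (rA k : GolayPt → ℤ) ≤ 80 := by rw [(table_props k).1]; norm_num
  have hlt : get q.2 k < 63 := by
    have hall : (perms.map Prod.fst).all (fun P => allBelow (fun j => Nat.blt (get P j) 63) 63) = true := by
      decide +kernel
    have hmem : q.2 ∈ perms.map Prod.fst := by rw [← words_map]; exact List.mem_map.mpr ⟨q, hq, rfl⟩
    have := allBelow_spec (List.all_eq_true.mp hall _ hmem) k k.2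
    simpa using this
  refine congrArg Fin.val (index_unique (rootMap_spec ⟨g, _⟩ k) (k' := ⟨_, hlt⟩) ?_)
  have himage : ((g • rA k : leechLattice) : GolayPt → ℤ) = vec (applyWord q.1 (LeechImage.code rootsA k)) :=
    hw (rA k) _ hs rfl
  rcases hk with ⟨e, -⟩ | ⟨e, -⟩
  · exact Or.inl (Subtype.ext (himage.trans (congrArg vec e)))
  · exact Or.inr (Subtype.ext (himage.trans ((congrArg vec e).trans (funext fun p => (table_props ⟨_, hlt⟩).2.2.2 p))))

theorem card_Sp : Nat.card (Matrix.symplecticGroup (Fin 3) (ZMod 2)) = 1451520 := by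
  rw [SymplecticOrder.card_symplectic (q := 2) (ZMod.card 2) 3]
  simp [Finset.prod_range_succ]

theorem le_range : Nat.card (Matrix.symplecticGroup (Fin 3) (ZMod 2)) ≤ Nat.card vecPerm.range := by
  have h1 : genGroup 63 (perms.map Prod.fst) ≤ rootPerm.range := by
    refine (Subgroup.closure_le _).mpr fun σ ⟨P, hP, hσ⟩ => ?_
    rw [← words_map] at hP
    obtain ⟨q, hq, rfl⟩ := List.mem_map.mp hP
    obtain ⟨g, hg⟩ := exists_cent hq
    exact ⟨g, Equiv.ext fun k => Fin.ext ((hg k).trans (hσ k).symm)⟩
  rw [card_Sp, ← chain_size]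
  refine ((le_card_genGroup perms_ok slp_ok chain_ok).trans (Subgroup.card_le_of_le h1)).trans ?_
  rw [vecPerm, MonoidHom.range_comp,
    ← Nat.card_congr (Subgroup.equivMapOfInjective rootPerm.range _
      (Equiv.Perm.extendDomainHom_injective labEquiv)).toEquiv]

/-! ### The kernel -/

theorem mono_root_fixed {σ : Equiv.Perm GolayPt} {hσ : σ ∈ M24} {c : Finset GolayPt} {hc : c ∈ CodeSupp}
    (hf : ∀ p ∈ O0, σ p = p) (hd : ∀ p ∈ O0, p ∉ c) {x : leechLattice} (hx : InO x) :
    monomial σ hσ c hc • x = x := by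
  refine Subtype.ext (funext fun p => ?_)
  rw [coe_monomial_smul]
  simp only [signedPerm]
  by_cases hp : p ∈ O0
  · rw [if_neg (hd p hp), (Equiv.symm_apply_eq σ).mpr (hf p hp).symm]
  · have hp' : σ.symm p ∉ O0 := fun h => hp (by
      have e := hf _ h
      rw [Equiv.apply_symm_apply] at e
      rwa [e])
    rw [hx _ hp', hx _ hp]
    simp

theorem core_le_cent : core ≤ cent := by
  intro g hg
  refine mem_cent.mpr ⟨?_, tElt_comm hg⟩
  obtain ⟨σ, hσ, c, hc, hf, hd, rfl⟩ := hg
  refine mono_root_fixed hf hd fun p hp => ?_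
  have : ∀ p, p ∉ O0 → ((Spor.leechU : leechLattice) : GolayPt → ℤ) p = 0 := by decide +kernel
  exact this p hp

/-- A point of the octad outside the pair, and another one. -/
theorem six_partner : ∀ p ∈ O0, p = none ∨ p = some 0 ∨ ∃ q ∈ O0, q ≠ p ∧ q ≠ none ∧ q ≠ some 0 ∧ p ≠ none ∧
    p ≠ some 0 := by decide +kernel

theorem isRoot_two {i j : GolayPt} (hij : i ≠ j) (hi : i ∈ O0) (hj : j ∈ O0)
    {x : leechLattice} (hx : (x : GolayPt → ℤ) = LeechFrame.two i j 4 4 ∨ (x : GolayPt → ℤ) = LeechFrame.two i j 4 (-4))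
    (h0 : (x : GolayPt → ℤ) none + (x : GolayPt → ℤ) (some 0) = 0) : IsRoot x := by
  refine ⟨?_, fun p hp => ?_, h0⟩
  · have key : ∀ a b : GolayPt, a ≠ b → sqNorm (LeechFrame.two a b 4 4) = 32 ∧
        sqNorm (LeechFrame.two a b 4 (-4)) = 32 := by decide +kernel
    rcases hx with e | e <;> rw [e]
    · exact (key i j hij).1
    · exact (key i j hij).2
  · have hpi : p ≠ i := fun e => hp (e ▸ hi)
    have hpj : p ≠ j := fun e => hp (e ▸ hj)
    rcases hx with e | e <;> rw [e] <;> simp [LeechFrame.two, hpi, hpj]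

theorem two_self : ∀ i p : GolayPt, LeechFrame.two i i 4 4 p = unitVec 8 i p := by decide +kernel

theorem mem_core_of_ker {g : cent} (hg : vecPerm g = 1) : (g : Co0) ∈ core := by
  obtain ⟨hgU, hgt⟩ := mem_cent.mp g.2
  have hfix : ∀ k, rootMap g k = k := fun k => lab_inj _ _ (by rw [← vecPerm_lab, hg]; rfl)
  have hsgn : ∃ ε : ℤ, (ε = 1 ∨ ε = -1) ∧ ∀ x : leechLattice, IsRoot x → (g : Co0) • x = ε • x := by
    have hk : ∀ k, ∃ ε : ℤ, (ε = 1 ∨ ε = -1) ∧ (g : Co0) • rA k = ε • rA k := fun k => by
      rcases rootMap_spec g k with e | e <;> rw [hfix k] at e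
      · exact ⟨1, Or.inl rfl, by rw [e, one_smul]⟩
      · exact ⟨-1, Or.inr rfl, by rw [e, neg_one_zsmul]⟩
    choose ε hε hεk using hk
    have hcoe : ∀ k, ((g : Co0) • rA k : leechLattice).1 = ε k • (rA k : GolayPt → ℤ) := fun k => by
      rw [hεk k]; rfl
    have hmul : ∀ k m, dotInt (rA k : GolayPt → ℤ) (rA m) ≠ 0 → ε k = ε m := fun k m hd => by
      have e := dotInt_smul (g : Co0) (rA k) (rA m)
      rw [hcoe, hcoe] at e
      have e2 : dotInt (ε k • (rA k : GolayPt → ℤ)) (ε m • (rA m : GolayPt → ℤ)) =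
          ε k * ε m * dotInt (rA k : GolayPt → ℤ) (rA m) := by
        simp only [dotInt, Finset.mul_sum, Pi.smul_apply, smul_eq_mul]
        exact Finset.sum_congr rfl fun i _ => by ring
      rw [e2] at e
      rcases hε k with a | a <;> rcases hε m with b | b <;> rw [a, b] at e ⊢ <;> omega
    refine ⟨ε 0, hε 0, fun x hx => ?_⟩
    obtain ⟨k, hk⟩ := exists_index hx
    have e : ε k = ε 0 := by
      obtain ⟨m, h1, h2⟩ := orth_graph k 0
      exact (hmul k m h1).trans (hmul 0 m h2).symm
    rcases hk with rfl | rfl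
    · rw [hεk, e]
    · rw [smul_neg_vec, hεk, e, smul_neg]
  obtain ⟨ε, hε, hroot⟩ := hsgn
  -- images of the frame vectors of the octad
  have hM : IsRoot (LeechFrame.M none (some 0)) :=
    isRoot_two (by decide) (by decide +kernel) (by decide +kernel) (Or.inr rfl) (by decide +kernel)
  have hframe : ∀ i : GolayPt, (frame i : leechLattice) = LeechFrame.U i := fun i =>
    Subtype.ext (funext fun p => (two_self i p).symm)
  have hnone : (g : Co0) • frame none = Spor.leechU + ε • LeechFrame.M none (some 0) := by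
    have e : (frame none : leechLattice) = Spor.leechU + LeechFrame.M none (some 0) := by
      refine Subtype.ext (funext fun p => ?_); revert p; decide +kernel
    rw [e, smul_add_vec, hgU, hroot _ hM]
  have hzero : (g : Co0) • frame (some 0) = Spor.leechU - ε • LeechFrame.M none (some 0) := by
    have e : (frame (some 0) : leechLattice) = Spor.leechU - LeechFrame.M none (some 0) := by
      refine Subtype.ext (funext fun p => ?_); revert p; decide +kernel
    rw [e, smul_sub_vec, hgU, hroot _ hM]
  have hsix : ∀ p ∈ O0, p ≠ none → p ≠ some 0 → (g : Co0) • frame p = ε • frame p := by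
    intro p hp h1 h2
    obtain h | h | ⟨q, hq, hqp, hq1, hq2, -, -⟩ := six_partner p hp
    · exact absurd h h1
    · exact absurd h h2
    have hz : ∀ c : ℤ, (Pi.single p (4 : ℤ) + Pi.single q c : GolayPt → ℤ) none +
        (Pi.single p (4 : ℤ) + Pi.single q c : GolayPt → ℤ) (some 0) = 0 := fun c => by
      simp [Ne.symm h1, Ne.symm h2, Ne.symm hq1, Ne.symm hq2]
    have e : (frame p : leechLattice) = LeechFrame.P p q + LeechFrame.M p q := by
      refine Subtype.ext (funext fun r => ?_)
      change unitVec 8 p r = LeechFrame.two p q 4 4 r + LeechFrame.two p q 4 (-4) r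
      simp only [unitVec, LeechFrame.two, Pi.add_apply, Pi.single_apply]
      split_ifs <;> omega
    rw [e, smul_add_vec, hroot _ (isRoot_two hqp.symm hp hq (Or.inl rfl) (hz 4)),
      hroot _ (isRoot_two hqp.symm hp hq (Or.inr rfl) (hz (-4))), smul_add]
  -- the permutation of the octad
  let τ : GolayPt → GolayPt := fun p => if ε = 1 then p else Equiv.swap none (some 0) p
  let sg : GolayPt → ℤ := fun p => if p = none ∨ p = some 0 then 8 else 8 * ε
  have himgO : ∀ p ∈ O0, ((g : Co0) • frame p : leechLattice).1 = unitVec (sg p) (τ p) := by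
    intro p hp
    by_cases h1 : p = none
    · subst h1
      rw [hnone]
      funext r
      rcases hε with e | e
      · simp only [τ, sg, e, if_true, true_or, one_smul]; revert r; decide +kernel
      · simp only [τ, sg, e, show ¬((-1 : ℤ) = 1) by norm_num, if_false, true_or, if_true, neg_one_zsmul,
          Equiv.swap_apply_left]
        revert r; decide +kernel
    by_cases h2 : p = some 0
    · subst h2
      rw [hzero]
      funext r
      rcases hε with e | e
      · simp only [τ, sg, e, if_true, or_true, one_smul]; revert r; decide +kernel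
      · simp only [τ, sg, e, show ¬((-1 : ℤ) = 1) by norm_num, if_false, or_true, if_true, neg_one_zsmul,
          Equiv.swap_apply_right]
        revert r; decide +kernel
    · rw [hsix p hp h1 h2]
      funext r
      have hτ : τ p = p := by
        simp only [τ]; split_ifs
        · rfl
        · exact Equiv.swap_apply_of_ne_of_ne h1 h2
      rw [hτ]
      change ε * unitVec 8 p r = unitVec (sg p) p r
      simp only [sg, h1, h2, or_false, if_false, unitVec]
      split_ifs <;> ring
  have hτO : ∀ p ∈ O0, τ p ∈ O0 := by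
    have h : ∀ p ∈ O0, Equiv.swap none (some 0) p ∈ O0 := by decide +kernel
    intro p hp; simp only [τ]; split_ifs
    · exact hp
    · exact h p hp
  have hτi : ∀ p q, τ p = τ q → p = q := fun p q h => by
    simp only [τ] at h; split_ifs at h
    · exact h
    · exact (Equiv.swap none (some 0)).injective h
  have hstd : MapsStd (g : Co0) := by
    rintro v ⟨i, s, hs, hv⟩
    suffices key : ∀ i : GolayPt, ∃ (j : GolayPt) (d : ℤ), (d = 8 ∨ d = -8) ∧
        ((g : Co0) • frame i : leechLattice).1 = Pi.single j d by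
      obtain ⟨j, d, hd, hj⟩ := key i
      rcases hs with rfl | rfl
      · rw [show v = frame i from Subtype.ext (hv.trans (unitVec_eq_single 8 i).symm), hj]
        exact ⟨j, d, hd, rfl⟩
      · rw [show v = -frame i from Subtype.ext (hv.trans (by
            rw [show ((-frame i : leechLattice) : GolayPt → ℤ) = -unitVec 8 i from rfl, unitVec_eq_single,
              Pi.single_neg])), smul_neg_vec,
          show ((-((g : Co0) • frame i) : leechLattice) : GolayPt → ℤ) = -(((g : Co0) • frame i : leechLattice).1) from rfl,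
          hj, ← Pi.single_neg]
        exact ⟨j, -d, by omega, rfl⟩
    intro i
    by_cases hi : i ∈ O0
    · refine ⟨τ i, sg i, ?_, by rw [himgO i hi, unitVec_eq_single]⟩
      simp only [sg]; split_ifs <;> omega
    set y := (g : Co0) • LeechFrame.P none i with hy
    have hni : none ≠ i := fun e => hi (e ▸ (by decide +kernel))
    have hy32 : sqNorm (y : GolayPt → ℤ) = 32 := by
      rw [hy, sqNorm_smul]
      have key : ∀ a b : GolayPt, a ≠ b → sqNorm (LeechFrame.two a b 4 4) = 32 := by decide +kernel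
      exact key _ _ hni
    have hyO : ∀ p ∈ O0, (y : GolayPt → ℤ) (τ p) = if p = none then 4 else 0 := by
      intro p hp
      have e := dotInt_smul (g : Co0) (LeechFrame.P none i) (frame p)
      rw [← hy, himgO p hp, dotInt_unitVec, show ((frame p : leechLattice) : GolayPt → ℤ) = unitVec 8 p from rfl,
        dotInt_unitVec] at e
      change sg p * (y : GolayPt → ℤ) (τ p) = 8 * LeechFrame.two none i 4 4 p at e
      have hpi : p ≠ i := fun e' => hi (e' ▸ hp)
      by_cases hpn : p = none
      · subst hpn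
        simp only [sg, true_or, if_true, LeechFrame.two, Pi.add_apply, Pi.single_eq_same,
          Pi.single_eq_of_ne hni] at e ⊢
        omega
      · simp only [LeechFrame.two, Pi.add_apply, Pi.single_eq_of_ne hpn, Pi.single_eq_of_ne hpi] at e
        rw [if_neg hpn]
        have : sg p ≠ 0 := by simp only [sg]; split_ifs <;> omega
        rcases mul_eq_zero.mp (e.trans (by norm_num)) with h | h
        · exact absurd h this
        · exact h
    have hnO : none ∈ O0 := by decide +kernel
    have hyOO : ∀ p ∈ O0, (y : GolayPt → ℤ) p = if p = τ none then 4 else 0 := by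
      intro p hp
      obtain ⟨q, hq, rfl⟩ : ∃ q ∈ O0, τ q = p := by
        have hsurj := Finset.surjOn_of_injOn_of_card_le τ (s := O0) (t := O0) hτO
          (fun a _ b _ h => hτi a b h) le_rfl
        exact hsurj hp
      rw [hyO q hq]
      by_cases hqn : q = none
      · rw [if_pos hqn, if_pos (by rw [hqn])]
      · rw [if_neg hqn, if_neg (fun h => hqn (hτi _ _ h))]
    have hpar : ∀ p, (y : GolayPt → ℤ) p % 2 = 0 := by
      intro p
      obtain ⟨h, -, -⟩ := mem_leechLattice.mp y.2
      have := h p; have := h (τ none); rw [hyOO _ (hτO _ hnO), if_pos rfl] at this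
      omega
    have hout : sqNorm (y : GolayPt → ℤ) = 16 + ∑ p ∈ O0ᶜ, (y : GolayPt → ℤ) p ^ 2 := by
      rw [sqNorm, ← Finset.sum_add_sum_compl O0,
        Finset.sum_eq_single_of_mem (τ none) (hτO _ hnO) (fun p hp hne => by rw [hyOO p hp, if_neg hne]; norm_num),
        hyOO _ (hτO _ hnO), if_pos rfl]
      norm_num
    rw [hy32] at hout
    have hw0 : support₂ (wbit (y : GolayPt → ℤ)) = ∅ := by
      have hsup := mem_supports_golay.mpr (mem_leechLattice.mp y.2).2.2
      by_contra hne
      have h8 : 8 ≤ (support₂ (wbit (y : GolayPt → ℤ))).card := by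
        rcases card_support_cases hsup with h | h | h | h | h
        · exact absurd h hne
        all_goals omega
      have hmem : ∀ p ∈ support₂ (wbit (y : GolayPt → ℤ)), p ∈ O0ᶜ ∧ 4 ≤ (y : GolayPt → ℤ) p ^ 2 := by
        intro p hp
        simp only [support₂, Finset.mem_filter, Finset.mem_univ, true_and, wbit_ne_zero_iff] at hp
        refine ⟨Finset.mem_compl.mpr fun hpO => ?_, ?_⟩
        · rw [hyOO p hpO] at hp; split_ifs at hp <;> omega
        · have := hpar p
          rcases le_or_gt ((y : GolayPt → ℤ) p) (-2) with h | h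
          · nlinarith
          · nlinarith [show (2 : ℤ) ≤ (y : GolayPt → ℤ) p by omega]
      have h1 : ((support₂ (wbit (y : GolayPt → ℤ))).card : ℤ) * 4 ≤ 16 := by
        calc ((support₂ (wbit (y : GolayPt → ℤ))).card : ℤ) * 4
            = ∑ p ∈ support₂ (wbit (y : GolayPt → ℤ)), (4 : ℤ) := by rw [Finset.sum_const, nsmul_eq_mul]
          _ ≤ ∑ p ∈ support₂ (wbit (y : GolayPt → ℤ)), (y : GolayPt → ℤ) p ^ 2 :=
              Finset.sum_le_sum fun p hp => (hmem p hp).2
          _ ≤ ∑ p ∈ O0ᶜ, (y : GolayPt → ℤ) p ^ 2 :=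
              Finset.sum_le_sum_of_subset_of_nonneg (fun p hp => (hmem p hp).1) fun p _ _ => sq_nonneg _
          _ = 16 := by linarith
      have : (8 : ℤ) ≤ ((support₂ (wbit (y : GolayPt → ℤ))).card : ℤ) := by exact_mod_cast h8
      omega
    have h4 : ∀ p, (y : GolayPt → ℤ) p % 4 = 0 := by
      intro p
      have hp : p ∉ support₂ (wbit (y : GolayPt → ℤ)) := by rw [hw0]; exact Finset.notMem_empty p
      simp only [support₂, Finset.mem_filter, Finset.mem_univ, true_and, wbit_ne_zero_iff] at hp
      have := hpar p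
      omega
    obtain ⟨m, hm, hm0⟩ : ∃ m ∈ O0ᶜ, (y : GolayPt → ℤ) m ≠ 0 := by
      by_contra hcon
      push Not at hcon
      rw [Finset.sum_eq_zero fun p hp => by rw [hcon p hp]; norm_num] at hout
      norm_num at hout
    have hm16 : 16 ≤ (y : GolayPt → ℤ) m ^ 2 := by
      have := h4 m
      rcases lt_or_gt_of_ne hm0 with h | h
      · nlinarith [show (y : GolayPt → ℤ) m ≤ -4 by omega]
      · nlinarith [show (4 : ℤ) ≤ (y : GolayPt → ℤ) m by omega]
    have hrest := Finset.add_sum_erase _ (fun p => (y : GolayPt → ℤ) p ^ 2) hm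
    have hnn : ∀ p ∈ O0ᶜ.erase m, (0 : ℤ) ≤ (y : GolayPt → ℤ) p ^ 2 := fun p _ => sq_nonneg _
    have hz := Finset.sum_nonneg hnn
    have hzero' : ∀ p ∈ O0ᶜ, p ≠ m → (y : GolayPt → ℤ) p = 0 := fun p hp hne => by
      have := (Finset.sum_eq_zero_iff_of_nonneg hnn).mp (by linarith) p (Finset.mem_erase.mpr ⟨hne, hp⟩)
      exact pow_eq_zero_iff (n := 2) (by norm_num) |>.mp this
    have hm4 : (y : GolayPt → ℤ) m = 4 ∨ (y : GolayPt → ℤ) m = -4 := by
      have hsq : (y : GolayPt → ℤ) m ^ 2 = 4 ^ 2 := by norm_num; linarith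
      rcases sq_eq_sq_iff_eq_or_eq_neg.mp hsq with h | h
      · exact Or.inl h
      · exact Or.inr h
    refine ⟨m, 2 * (y : GolayPt → ℤ) m, by omega, ?_⟩
    have e : (frame i : leechLattice) = (LeechFrame.P none i + LeechFrame.P none i) - frame none := by
      refine Subtype.ext (funext fun r => ?_)
      change unitVec 8 i r = (LeechFrame.two none i 4 4 r + LeechFrame.two none i 4 4 r) - unitVec 8 none r
      simp only [unitVec, LeechFrame.two, Pi.add_apply, Pi.single_apply]
      split_ifs <;> omega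
    rw [e, smul_sub_vec, smul_add_vec, ← hy]
    funext r
    change ((y : GolayPt → ℤ) r + (y : GolayPt → ℤ) r) - ((g : Co0) • frame none : leechLattice).1 r =
      Pi.single (M := fun _ => ℤ) m (2 * (y : GolayPt → ℤ) m) r
    rw [himgO none hnO]
    simp only [unitVec, sg, true_or, if_true]
    have hmO : m ∉ O0 := Finset.mem_compl.mp hm
    have hmτ : m ≠ τ none := fun e' => hmO (e' ▸ hτO _ hnO)
    by_cases hrm : r = m
    · rw [hrm, Pi.single_eq_same, if_neg hmτ]; ring
    · rw [Pi.single_eq_of_ne hrm]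
      by_cases hrO : r ∈ O0
      · rw [hyOO r hrO]; split_ifs <;> ring
      · rw [hzero' r (Finset.mem_compl.mpr hrO) hrm, if_neg (show ¬ r = τ none from fun e1 => hrO (e1 ▸ hτO _ hnO))]; ring
  obtain ⟨σ, hσ, c, hc, he⟩ := mapsStd_iff.mp hstd
  have hσO : ∀ p ∈ O0, σ p = τ p ∧ (τ p ∈ c → sg p = -8) ∧ (τ p ∉ c → sg p = 8) := by
    intro p hp
    have e := himgO p hp
    rw [he, coe_monomial_smul] at e
    have e1 := congrFun e (σ p)
    simp only [signedPerm, Equiv.symm_apply_apply,
      show ((frame p : leechLattice) : GolayPt → ℤ) p = 8 from if_pos rfl, unitVec] at e1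
    have hpτ : σ p = τ p := by
      by_contra hne
      rw [if_neg hne] at e1
      split_ifs at e1 <;> omega
    rw [if_pos hpτ, hpτ] at e1
    exact ⟨hpτ, fun h => by rw [if_pos h] at e1; omega, fun h => by rw [if_neg h] at e1; omega⟩
  have hε1 : ε = 1 := by
    rcases hε with h | h
    · exact h
    exfalso
    have hsw : ∀ p ∈ O0, σ p = Equiv.swap none (some 0) p := fun p hp => by
      rw [(hσO p hp).1]; simp [τ, h]
    exact no_swap hσ hsw
  have hτid : ∀ p, τ p = p := fun p => by simp [τ, hε1]
  refine ⟨σ, hσ, c, hc, fun p hp => (hσO p hp).1.trans (hτid p), fun p hp hpc => ?_, he⟩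
  have h := (hσO p hp).2.1 (by rwa [hτid p])
  simp only [sg, hε1] at h
  split_ifs at h <;> norm_num at h
where
  /-- No element of the code group induces a transposition on an octad. -/
  no_swap {σ : Equiv.Perm GolayPt} (hσ : σ ∈ M24) (hsw : ∀ p ∈ O0, σ p = Equiv.swap none (some 0) p) : False := by
    have hswO : ∀ p ∈ O0, Equiv.swap none (some 0) p ∈ O0 := by decide +kernel
    have hmem : ∀ g : soct O0, ∀ p, p ∈ O0 ↔ ((g : M24) : Equiv.Perm GolayPt) p ∈ O0 := fun g p => by
      have h := Finset.smul_mem_smul_finset_iff (s := O0) (b := p) ((g : M24) : Equiv.Perm GolayPt)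
      rw [mem_soct.mp g.2, Equiv.Perm.smul_def] at h
      exact h.symm
    let res : soct O0 →* Equiv.Perm {p // p ∈ O0} :=
      MonoidHom.mk' (fun g => ((g : M24) : Equiv.Perm GolayPt).subtypePerm (fun p => (hmem g p).symm))
        fun a b => Equiv.ext fun p => Subtype.ext rfl
    have hker : res.ker = (pfix O0).subgroupOf (soct O0) := by
      ext g
      rw [MonoidHom.mem_ker, Subgroup.mem_subgroupOf, mem_pfix]
      exact ⟨fun h p hp => congrArg (fun f : Equiv.Perm {p // p ∈ O0} => (f ⟨p, hp⟩ : GolayPt)) h,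
        fun h => Equiv.ext fun p => Subtype.ext (h p.1 p.2)⟩
    have hck : Nat.card res.ker = 16 := by
      rw [hker, Nat.card_congr (Subgroup.subgroupOfEquivOfLe (pfix_le_soct O0)).toEquiv, card_pfix_O0]
    have h1 := Subgroup.card_eq_card_quotient_mul_card_subgroup res.ker
    rw [Nat.card_congr (QuotientGroup.quotientKerEquivRange res).toEquiv, hck, card_soct O0_mem] at h1
    have hO8 : Fintype.card {p // p ∈ O0} = 8 := by decide +kernel
    have hidx : res.range.index = 2 := by
      have h2 := res.range.card_mul_index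
      rw [Nat.card_perm, Nat.card_eq_fintype_card (α := {p // p ∈ O0}), hO8, show Nat.factorial 8 = 40320 by rfl,
        show Nat.card res.range = 20160 by omega] at h2
      omega
    have hσs : (⟨σ, hσ⟩ : M24) ∈ soct O0 := by
      refine mem_soct.mpr (Finset.eq_of_subset_of_card_le ?_ (by rw [Finset.card_smul_finset]))
      intro q hq
      obtain ⟨p, hp, rfl⟩ := Finset.mem_smul_finset.mp hq
      rw [Equiv.Perm.smul_def, hsw p hp]
      exact hswO p hp
    have himg : res ⟨_, hσs⟩ = Equiv.swap ⟨none, by decide +kernel⟩ ⟨some 0, by decide +kernel⟩ := by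
      refine Equiv.ext fun p => Subtype.ext ?_
      change σ p.1 = _
      rw [hsw p.1 p.2]
      simp only [Equiv.swap_apply_def, Subtype.ext_iff]
      split_ifs <;> rfl
    have hin : res ⟨_, hσs⟩ ∈ res.range := ⟨_, rfl⟩
    rw [Equiv.Perm.eq_alternatingGroup_of_index_eq_two hidx, himg, Equiv.Perm.mem_alternatingGroup,
      Equiv.Perm.sign_swap (by simp)] at hin
    exact absurd hin (by decide)

theorem ker_eq : vecPerm.ker = core.subgroupOf cent := by
  ext g
  rw [MonoidHom.mem_ker, Subgroup.mem_subgroupOf]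
  refine ⟨mem_core_of_ker, fun h => ?_⟩
  obtain ⟨σ, hσ, c, hc, hf, hd, he⟩ := h
  have hk : ∀ k, rootMap g k = k := fun k =>
    index_unique (rootMap_spec g k) (Or.inl (by rw [he]; exact mono_root_fixed hf hd (table_props k).2.1))
  refine Equiv.ext fun v => ?_
  rcases eq_or_ne v 0 with rfl | hv
  · rw [vecPerm_zero]; rfl
  · obtain ⟨k, hk'⟩ := labEquiv.surjective ⟨v, hv⟩
    rw [← show lab k = v from congrArg Subtype.val hk', vecPerm_lab, hk k]; rfl

end Cfsg.Agent.LeechCo2Cent
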