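import Cfsg.Agent.Lib.LeechCertBase
import Cfsg.Agent.Lib.PermImageCert

/-!
A joint stabiliser of three short lattice vectors as a group of permutations of some short vectors.
-/

set_option autoImplicit false
set_option linter.style.haveILetI false

open scoped Pointwise

namespace Cfsg.Agent.LeechImage

open Cfsg Cfsg.Agent.GolayBasic Cfsg.Agent.LeechBasic Cfsg.Agent.LeechAut Cfsg.Agent.LeechOrbit
open Cfsg.Agent.LeechCert Cfsg.Agent.PermImageCert

/-- Entry of a two-level table. -/
def code (tab : List (List ℕ)) (k : ℕ) : ℕ := (tab.getD (Nat.div k 32) []).getD (Nat.mod k 32) 0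

/-- A table of distinct short lattice vectors. -/
noncomputable def codesOK (N : ℕ) (tab : List (List ℕ)) : Bool :=
  allBelow (fun k => Nat.blt (code tab k) 1329227995784915872903807060280344576 && smallVec (code tab k) &&
      LeechXi.isL (vec (code tab k))) N &&
    allBelow (fun k => Nat.blt (code tab k) (code tab (k + 1))) (N - 1)

/-- A word fixes the three vectors and moves the table as its permutation does. -/
noncomputable def imageOK (F : ℕ × ℕ × ℕ) (N : ℕ) (tab : List (List ℕ)) (q : List Step × ℕ) : Bool :=
  fixOK F q.1 && allBelow (fun k => Nat.beq (applyWord q.1 (code tab k)) (code tab (get q.2 k))) N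

/-- The joint stabiliser. -/
abbrev stab3 (a b c : leechLattice) : Subgroup Co0 :=
  MulAction.stabilizer Co0 a ⊓ MulAction.stabilizer Co0 b ⊓ MulAction.stabilizer Co0 c

theorem exists_iso {F : ℕ × ℕ × ℕ} {a b c : leechLattice} (ha : (a : GolayPt → ℤ) = vec F.1)
    (hb : (b : GolayPt → ℤ) = vec F.2.1) (hc : (c : GolayPt → ℤ) = vec F.2.2) (hF : smallF F = true)
    {N : ℕ} (tab : List (List ℕ)) (htab : codesOK N tab = true) (gens : List (List Step × ℕ))
    (hgens : gens.all (imageOK F N tab) = true) {M : ℕ} (hpos : 0 < M) (hM : M ≤ Nat.card (genGroup N (gens.map Prod.snd)))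
    (hcard : Nat.card ↥(stab3 a b c) = M) :
    Nonempty (↥(stab3 a b c) ≃* genGroup N (gens.map Prod.snd)) := by
  simp only [codesOK, Bool.and_eq_true] at htab
  have hk := fun (k : ℕ) (h : k < N) => allBelow_spec htab.1 k h
  simp only [Bool.and_eq_true, Nat.blt_eq] at hk
  let e : Fin N → leechLattice := fun k => ofCode (code tab k) (hk k k.2).2
  have hstrict : ∀ i j : ℕ, i < j → j < N → code tab i < code tab j := by
    intro i j hij hj
    induction j with
    | zero => omega
    | succ j ih =>
      have := allBelow_spec htab.2 j (by omega)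
      rw [Nat.blt_eq] at this
      rcases Nat.lt_succ_iff_lt_or_eq.mp hij with h | rfl
      · exact (ih h (by omega)).trans this
      · exact this
  have he : Function.Injective e := by
    intro i j h
    have hc' : code tab i = code tab j := eq_of_vec_eq
      (by have := (hk i i.2).1.1; simpa using this)
      (by have := (hk j j.2).1.1; simpa using this) (congrArg Subtype.val h)
    by_contra hne
    rcases lt_or_gt_of_ne (fun e => hne (Fin.ext e)) with h' | h'
    · exact (hstrict _ _ h' j.2).ne hc'
    · exact (hstrict _ _ h' i.2).ne' hc'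
  haveI : Finite ↥(stab3 a b c) := Nat.finite_of_card_ne_zero (by rw [hcard]; omega)
  obtain ⟨iso⟩ := nonempty_iso ((MulAction.toPermHom Co0 leechLattice).comp (stab3 a b c).subtype) e he
    (gens.map Prod.snd) (fun σ ⟨P, hP, hσ⟩ => by
      obtain ⟨q, hq, rfl⟩ := List.mem_map.mp hP
      have hq' := List.all_eq_true.mp hgens q hq
      simp only [imageOK, Bool.and_eq_true] at hq'
      obtain ⟨g, hg, himg⟩ := exists_fixing hF hq'.1
      refine ⟨⟨g, ⟨hg a (Or.inl ha), hg b (Or.inr (Or.inl hb))⟩, hg c (Or.inr (Or.inr hc))⟩, fun k => ?_⟩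
      have hb' := allBelow_spec hq'.2 k k.2
      rw [Nat.beq_eq] at hb'
      have hs : sqNorm ((e k : leechLattice) : GolayPt → ℤ) ≤ 80 := by
        have := (hk k k.2).1.2
        simp only [smallVec, decide_eq_true_eq, ← sqNorm_vec] at this
        exact this
      refine Subtype.ext ?_
      change ((g • e k : leechLattice) : GolayPt → ℤ) = vec (code tab (σ k))
      rw [himg (e k) _ hs rfl, hb', hσ k])
    ⊥ (fun z hz k => by rw [Subgroup.mem_bot.mp hz]; rfl) M (by rw [hcard, Subgroup.card_bot, one_mul]) hM
  exact ⟨QuotientGroup.quotientBot.symm.trans iso⟩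

/-- A table of disjointly labelled pairs of short lattice vectors. -/
noncomputable def pairsOK (N : ℕ) (tabA tabB : List (List ℕ)) : Bool :=
  codesOK N tabA && allBelow (fun k => Nat.blt (code tabA k) (code tabB k) &&
    Nat.blt (code tabB k) 1329227995784915872903807060280344576 && smallVec (code tabB k) &&
    LeechXi.isL (vec (code tabB k))) N

/-- A word fixes the three vectors and moves the pairs as its permutation does. -/
noncomputable def pairImageOK (F : ℕ × ℕ × ℕ) (N : ℕ) (tabA tabB : List (List ℕ))
    (q : List Step × ℕ) : Bool :=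
  fixOK F q.1 && allBelow (fun k =>
    (Nat.beq (applyWord q.1 (code tabA k)) (code tabA (get q.2 k)) &&
      Nat.beq (applyWord q.1 (code tabB k)) (code tabB (get q.2 k))) ||
    (Nat.beq (applyWord q.1 (code tabA k)) (code tabB (get q.2 k)) &&
      Nat.beq (applyWord q.1 (code tabB k)) (code tabA (get q.2 k)))) N

theorem exists_iso_pairs {F : ℕ × ℕ × ℕ} {a b c : leechLattice} (ha : (a : GolayPt → ℤ) = vec F.1)
    (hb : (b : GolayPt → ℤ) = vec F.2.1) (hc : (c : GolayPt → ℤ) = vec F.2.2) (hF : smallF F = true)
    {N : ℕ} (tabA tabB : List (List ℕ)) (htab : pairsOK N tabA tabB = true) (gens : List (List Step × ℕ))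
    (hgens : gens.all (pairImageOK F N tabA tabB) = true) {M : ℕ} (hpos : 0 < M)
    (hM : M ≤ Nat.card (genGroup N (gens.map Prod.snd))) (hcard : Nat.card ↥(stab3 a b c) = M) :
    Nonempty (↥(stab3 a b c) ≃* genGroup N (gens.map Prod.snd)) := by
  simp only [pairsOK, codesOK, Bool.and_eq_true] at htab
  have hA := fun (k : ℕ) (h : k < N) => allBelow_spec htab.1.1 k h
  have hB := fun (k : ℕ) (h : k < N) => allBelow_spec htab.2 k h
  simp only [Bool.and_eq_true, Nat.blt_eq] at hA hB
  let eA : Fin N → leechLattice := fun k => ofCode (code tabA k) (hA k k.2).2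
  let eB : Fin N → leechLattice := fun k => ofCode (code tabB k) (hB k k.2).2
  let e : Fin N → Set leechLattice := fun k => {eA k, eB k}
  have hstrict : ∀ i j : ℕ, i < j → j < N → code tabA i < code tabA j := by
    intro i j hij hj
    induction j with
    | zero => omega
    | succ j ih =>
      have := allBelow_spec htab.1.2 j (by omega)
      rw [Nat.blt_eq] at this
      rcases Nat.lt_succ_iff_lt_or_eq.mp hij with h | rfl
      · exact (ih h (by omega)).trans this
      · exact this
  have hbA : ∀ k : Fin N, code tabA k < 2 ^ 120 := fun k => by simpa using (hA k k.2).1.1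
  have hbB : ∀ k : Fin N, code tabB k < 2 ^ 120 := fun k => by simpa using (hB k k.2).1.1.2
  have he : Function.Injective e := by
    intro i j h
    have h1 : eA i ∈ e j := h ▸ Set.mem_insert _ _
    have h2 : eA j ∈ e i := h.symm ▸ Set.mem_insert _ _
    have hAA : code tabA i = code tabA j := by
      rcases h1 with h1 | h1
      · exact eq_of_vec_eq (hbA i) (hbA j) (congrArg Subtype.val h1)
      · rcases h2 with h2 | h2
        · exact (eq_of_vec_eq (hbA j) (hbA i) (congrArg Subtype.val h2)).symm
        · have e1 := eq_of_vec_eq (hbA i) (hbB j) (congrArg Subtype.val h1)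
          have e2 := eq_of_vec_eq (hbA j) (hbB i) (congrArg Subtype.val h2)
          have := (hB i i.2).1.1.1
          have := (hB j j.2).1.1.1
          omega
    by_contra hne
    rcases lt_or_gt_of_ne (fun e => hne (Fin.ext e)) with h' | h'
    · exact (hstrict _ _ h' j.2).ne hAA
    · exact (hstrict _ _ h' i.2).ne' hAA
  haveI : Finite ↥(stab3 a b c) := Nat.finite_of_card_ne_zero (by rw [hcard]; omega)
  obtain ⟨iso⟩ := nonempty_iso ((MulAction.toPermHom Co0 (Set leechLattice)).comp (stab3 a b c).subtype) e he
    (gens.map Prod.snd) (fun σ ⟨P, hP, hσ⟩ => by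
      obtain ⟨q, hq, rfl⟩ := List.mem_map.mp hP
      have hq' := List.all_eq_true.mp hgens q hq
      simp only [pairImageOK, Bool.and_eq_true] at hq'
      obtain ⟨g, hg, himg⟩ := exists_fixing hF hq'.1
      refine ⟨⟨g, ⟨hg a (Or.inl ha), hg b (Or.inr (Or.inl hb))⟩, hg c (Or.inr (Or.inr hc))⟩, fun k => ?_⟩
      have hb' := allBelow_spec hq'.2 k k.2
      simp only [Bool.or_eq_true, Bool.and_eq_true, Nat.beq_eq, ← hσ k] at hb'
      have hs : ∀ {n : ℕ}, smallVec n = true → sqNorm (vec n) ≤ 80 := fun {n} h => by
        simp only [smallVec, decide_eq_true_eq, ← sqNorm_vec] at h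
        exact h
      have iA : ((g • eA k : leechLattice) : GolayPt → ℤ) = vec (applyWord q.1 (code tabA k)) :=
        himg (eA k) _ (hs (hA k k.2).1.2) rfl
      have iB : ((g • eB k : leechLattice) : GolayPt → ℤ) = vec (applyWord q.1 (code tabB k)) :=
        himg (eB k) _ (hs (hB k k.2).1.2) rfl
      change g • ({eA k, eB k} : Set leechLattice) = {eA (σ k), eB (σ k)}
      rw [← Set.image_smul, Set.image_pair]
      rcases hb' with ⟨u, v⟩ | ⟨u, v⟩
      · rw [show g • eA k = eA (σ k) from Subtype.ext (iA.trans (congrArg vec u)),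
          show g • eB k = eB (σ k) from Subtype.ext (iB.trans (congrArg vec v))]
      · rw [show g • eA k = eB (σ k) from Subtype.ext (iA.trans (congrArg vec u)),
          show g • eB k = eA (σ k) from Subtype.ext (iB.trans (congrArg vec v)), Set.pair_comm])
    ⊥ (fun z hz k => by rw [Subgroup.mem_bot.mp hz, map_one]; rfl) M (by rw [hcard, Subgroup.card_bot, one_mul]) hM
  exact ⟨QuotientGroup.quotientBot.symm.trans iso⟩

end Cfsg.Agent.LeechImage
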