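import Cfsg.Agent.Lib.LeechCo2CentData
import Cfsg.Agent.Lib.LeechStab
import Cfsg.Agent.Lib.GolayOctadStab
import Cfsg.Agent.Lib.LeechImage

/-!
The minimal vectors supported in the standard octad and orthogonal to the standard minimal vector.
-/

set_option autoImplicit false
set_option linter.style.haveILetI false

namespace Cfsg.Agent.LeechCo2Cent

open Cfsg Cfsg.Agent.GolayBasic Cfsg.Agent.LeechBasic Cfsg.Agent.LeechAut Cfsg.Agent.LeechOrbit
open Cfsg.Agent.GolayPerm (pts mem_pts)
open Cfsg.Agent.LeechCert Cfsg.Agent.PermImageCert Cfsg.Agent.GolayOctadStab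

/-- Vectors vanishing outside the octad. -/
def InO (x : GolayPt → ℤ) : Prop := ∀ p, p ∉ O0 → x p = 0

/-- A root: short, supported in the octad and orthogonal to the fixed vector. -/
def IsRoot (x : leechLattice) : Prop :=
  sqNorm (x : GolayPt → ℤ) = 32 ∧ InO x ∧ (x : GolayPt → ℤ) none + (x : GolayPt → ℤ) (some 0) = 0

/-- The code of a vector given by seven of its digits. -/
def octCode (a b c d e f g : ℕ) : ℕ :=
  horner [a, 16, 16, 16, 16, 16, 16, 16, 16, 16, 16, 16, b, 16, c, 16, d, e, f, 16, 16, 16, g, 32 - a]

/-- The possible digits are covered by the two tables. -/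
noncomputable def coverOK (vals : List ℕ) : Bool :=
  vals.all fun a => vals.all fun b => vals.all fun c => vals.all fun d => vals.all fun e => vals.all fun f =>
    vals.all fun g =>
      !(decide (((a : ℤ) - 16) ^ 2 + ((b : ℤ) - 16) ^ 2 + ((c : ℤ) - 16) ^ 2 + ((d : ℤ) - 16) ^ 2 +
          ((e : ℤ) - 16) ^ 2 + ((f : ℤ) - 16) ^ 2 + ((g : ℤ) - 16) ^ 2 + ((a : ℤ) - 16) ^ 2 = 32) &&
        Nat.beq ((b + c + d + e + f + g) % 8) 0) ||
      allBelowAny (fun k => Nat.beq (LeechImage.code rootsA k) (octCode a b c d e f g) ||
        Nat.beq (LeechImage.code rootsB k) (octCode a b c d e f g)) 63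
where
  /-- Some number below a bound satisfies the test. -/
  allBelowAny (h : ℕ → Bool) (n : ℕ) : Bool := !allBelow (fun k => !h k) n

theorem cover0 : coverOK [12, 16, 20] = true := by decide +kernel

theorem cover2 : coverOK [14, 18] = true := by decide +kernel

theorem code_in_O_check : allBelow (fun a => allBelow (fun b => !(Nat.beq (Nat.land (enc (64 * a + b)) 3715070) 0) ||
    Nat.beq (enc (64 * a + b)) 0 || Nat.beq (enc (64 * a + b)) 13062145) 64) 64 = true := by decide +kernel

theorem code_in_O (y : ℕ) (hy : y < 4096) (h : enc y &&& 3715070 = 0) : enc y = 0 ∨ enc y = 13062145 := by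
  have := allBelow_spec (allBelow_spec code_in_O_check (y / 64) (by omega)) (y % 64) (by omega)
  rw [Nat.div_add_mod] at this
  simp only [Bool.or_eq_true, Bool.not_eq_true', Nat.beq_eq, or_assoc] at this
  rcases this with h' | h'
  · rw [show Nat.land (enc y) 3715070 = 0 from h] at h'
    exact absurd h' (by decide)
  · exact h'

theorem O0_list : ∀ p : GolayPt, p ∈ O0 ↔ p ∈ [pt 0, pt 12, pt 14, pt 16, pt 17, pt 18, pt 22, pt 23] := by
  decide +kernel

theorem even_coords {x : leechLattice} (hx : InO x) (p : GolayPt) : (x : GolayPt → ℤ) p % 2 = 0 := by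
  obtain ⟨h, -, -⟩ := mem_leechLattice.mp x.2
  have h1 : (x : GolayPt → ℤ) (pt 1) = 0 := hx _ (by decide +kernel)
  have := h (pt 1); have := h p
  omega

theorem word_cases {x : leechLattice} (hx : InO x) :
    (∀ p ∈ O0, (x : GolayPt → ℤ) p % 4 = 0) ∨ (∀ p ∈ O0, (x : GolayPt → ℤ) p % 4 = 2) := by
  obtain ⟨-, -, hw⟩ := mem_leechLattice.mp x.2
  obtain ⟨y, hy, he⟩ := exists_enc hw
  have hbit : ∀ p, (enc y).testBit (idx p) = true ↔ (x : GolayPt → ℤ) p % 4 = 2 := by
    intro p
    have := even_coords hx p
    constructor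
    · intro h
      have : wbit (x : GolayPt → ℤ) p ≠ 0 := by rw [← he, word_apply, h]; decide
      rw [wbit_ne_zero_iff] at this
      omega
    · intro h
      by_contra hb
      have : wbit (x : GolayPt → ℤ) p = 0 := by rw [← he, word_apply, Bool.eq_false_iff.mpr hb]; rfl
      exact (wbit_ne_zero_iff _ _).mpr (by omega) this
  have hout : enc y &&& 3715070 = 0 := by
    refine Nat.eq_of_testBit_eq fun i => ?_
    rw [Nat.testBit_and, Nat.zero_testBit, Bool.and_eq_false_iff]
    by_cases hi : i < 24
    · by_cases hO : pt i ∈ O0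
      · right
        have : ∀ p ∈ O0, (3715070 : ℕ).testBit (idx p) = false := by decide +kernel
        have := this _ hO
        rwa [idx_pt hi] at this
      · left
        rw [Bool.eq_false_iff]
        intro h
        have := (hbit (pt i)).mp (by rw [idx_pt hi]; exact h)
        rw [hx _ hO] at this
        omega
    · right
      exact Nat.testBit_lt_two_pow (lt_of_lt_of_le (by norm_num : (3715070 : ℕ) < 2 ^ 24)
        (Nat.pow_le_pow_right (by norm_num) (by omega)))
  rcases code_in_O y hy hout with h | h
  · refine Or.inl fun p _ => ?_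
    have := even_coords hx p
    by_contra hne
    have hb := (hbit p).mpr (by omega)
    rw [h, Nat.zero_testBit] at hb
    exact Bool.false_ne_true hb
  · exact Or.inr fun p hp => (hbit p).mp (by rw [h]; exact mem_mset.mp hp)

/-- Every root occurs in the tables. -/
theorem exists_root {x : leechLattice} (hx : IsRoot x) : ∃ k < 63,
    (x : GolayPt → ℤ) = vec (LeechImage.code rootsA k) ∨ (x : GolayPt → ℤ) = vec (LeechImage.code rootsB k) := by
  obtain ⟨hn, hO, h0⟩ := hx
  set y : GolayPt → ℤ := (x : GolayPt → ℤ) with hy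
  have hbound : ∀ p, -5 ≤ y p ∧ y p ≤ 5 := fun p => by
    have : y p ^ 2 ≤ 32 := by
      rw [← hn]; exact Finset.single_le_sum (fun i _ => sq_nonneg (y i)) (Finset.mem_univ p)
    constructor <;> nlinarith
  obtain ⟨-, hsum, -⟩ := mem_leechLattice.mp x.2
  have hsplit : ∀ f : GolayPt → ℤ, (∀ p, p ∉ O0 → f p = 0) → ∑ p, f p =
      f (pt 0) + f (pt 12) + f (pt 14) + f (pt 16) + f (pt 17) + f (pt 18) + f (pt 22) + f (pt 23) := fun f hf => by
    rw [← Finset.sum_subset (Finset.subset_univ O0) (fun p _ hp => hf p hp),
      show O0 = [pt 0, pt 12, pt 14, pt 16, pt 17, pt 18, pt 22, pt 23].toFinset from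
        Finset.ext fun p => by rw [List.mem_toFinset]; exact O0_list p,
      List.sum_toFinset _ (by decide +kernel)]
    simp only [List.map_cons, List.map_nil, List.sum_cons, List.sum_nil]
    ring
  have e0 : y (pt 23) = -y (pt 0) := by
    rw [show pt 23 = none from rfl, show pt 0 = some 0 from rfl]; linarith
  have hsq := hsplit (fun p => y p ^ 2) (fun p hp => by rw [hO p hp]; norm_num)
  rw [show (∑ p, y p ^ 2) = 32 from hn] at hsq
  have hs := hsplit y hO
  rw [e0] at hsq hs
  have h23 : y none % 2 = 0 := even_coords hO none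
  rw [show (∑ i, y i) = _ from hs] at hsum
  have hsum8 : (y (pt 12) + y (pt 14) + y (pt 16) + y (pt 17) + y (pt 18) + y (pt 22)) % 8 = 0 := by
    have hn8 : (y none % 2) = 0 := h23
    simp only [hy] at hsum hn8 ⊢
    omega
  let d : ℕ → ℕ := fun i => (y (pt i) + 16).toNat
  have hd : ∀ i, (d i : ℤ) = y (pt i) + 16 := fun i => Int.toNat_of_nonneg (by have := hbound (pt i); omega)
  have hvec : y = vec (octCode (d 0) (d 12) (d 14) (d 16) (d 17) (d 18) (d 22)) := by
    refine (vec_horner (l := [d 0, 16, 16, 16, 16, 16, 16, 16, 16, 16, 16, 16, d 12, 16, d 14, 16, d 16, d 17,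
      d 18, 16, 16, 16, d 22, 32 - d 0]) rfl (by rw [hn]; norm_num) fun p => ?_).symm
    have hlist : p ∈ pts.map pt := List.mem_map.mpr ⟨idx p, mem_pts.2 (idx_lt p), pt_idx p⟩
    simp only [pts, List.map_cons,
      List.map_nil, List.mem_cons, List.not_mem_nil, or_false] at hlist
    have := hbound (pt 0)
    rcases hlist with h | h | h | h | h | h | h | h | h | h | h | h | h | h | h | h | h | h | h | h | h | h | h | h <;>
      subst h <;> rw [idx_pt (by norm_num)] <;>
      simp only [List.getD_cons_succ, List.getD_cons_zero, hd] <;>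
      first
        | (rw [hO _ (by decide +kernel)]; rfl)
        | (rw [e0, Nat.cast_sub (by have := hd 0; omega), hd]; push_cast; ring)
  have hfin : ∀ vals : List ℕ, coverOK vals = true → (∀ i ∈ [0, 12, 14, 16, 17, 18, 22], d i ∈ vals) →
      ∃ k < 63, y = vec (LeechImage.code rootsA k) ∨ y = vec (LeechImage.code rootsB k) := by
    intro vals hc hv
    simp only [coverOK, List.all_eq_true] at hc
    have := hc _ (hv 0 (by simp)) _ (hv 12 (by simp)) _ (hv 14 (by simp)) _ (hv 16 (by simp)) _ (hv 17 (by simp))
      _ (hv 18 (by simp)) _ (hv 22 (by simp))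
    rw [Bool.or_eq_true] at this
    rcases this with h | h
    · exfalso
      have hc2 : (d 12 + d 14 + d 16 + d 17 + d 18 + d 22) % 8 = 0 := by
        have := hd 12; have := hd 14; have := hd 16; have := hd 17; have := hd 18; have := hd 22
        omega
      simp only [hd, add_sub_cancel_right, Bool.not_eq_true', Bool.and_eq_false_iff, decide_eq_false_iff_not,
        hc2] at h
      rcases h with h | h
      · exact h (by rw [neg_sq] at hsq; linarith)
      · exact Bool.false_ne_true h.symm
    · by_contra hcon
      push Not at hcon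
      have hall : allBelow (fun k => !(Nat.beq (LeechImage.code rootsA k) (octCode (d 0) (d 12) (d 14) (d 16) (d 17)
          (d 18) (d 22)) || Nat.beq (LeechImage.code rootsB k) (octCode (d 0) (d 12) (d 14) (d 16) (d 17)
          (d 18) (d 22)))) 63 = true := by
        refine allBelow_of_forall fun k hk => ?_
        rw [Bool.not_eq_true', Bool.or_eq_false_iff]
        constructor <;> rw [Bool.eq_false_iff] <;> intro hb <;> have := Nat.eq_of_beq_eq_true hb
        · exact (hcon k hk).1 (by rw [this]; exact hvec)
        · exact (hcon k hk).2 (by rw [this]; exact hvec)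
      simp only [coverOK.allBelowAny, hall] at h
      exact Bool.false_ne_true h
  rcases word_cases hO with hc | hc
  · refine hfin _ cover0 fun i hi => ?_
    have hpi : pt i ∈ O0 := by revert i; decide +kernel
    have := hc _ hpi; have := hbound (pt i); have := hd i
    change y (pt i) % 4 = 0 at *
    simp only [List.mem_cons, List.not_mem_nil, or_false]
    omega
  · refine hfin _ cover2 fun i hi => ?_
    have hpi : pt i ∈ O0 := by revert i; decide +kernel
    have := hc _ hpi; have := hbound (pt i); have := hd i
    change y (pt i) % 4 = 2 at *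
    simp only [List.mem_cons, List.not_mem_nil, or_false]
    omega
where
  /-- A check holding for all numbers below a bound. -/
  allBelow_of_forall {f : ℕ → Bool} : ∀ {n : ℕ}, (∀ k < n, f k = true) → allBelow f n = true
    | 0, _ => rfl
    | n + 1, h => by
      change (f n && allBelow f n) = true
      rw [h n (by omega), exists_root.allBelow_of_forall fun k hk => h k (by omega)]; rfl

end Cfsg.Agent.LeechCo2Cent
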