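import Cfsg.Agent.Lib.GolaySimpleGen
import Cfsg.Agent.Lib.FrattiniTuples

/-!
A simplicity criterion for a finite group with a self-centralising subgroup of prime order `p`:
every prime power dividing the order is either not congruent to 1 modulo `p` or has too small an
automorphism group.
-/

set_option autoImplicit false

open scoped Pointwise

namespace Cfsg.Agent.LeechSimpleCrit

variable {G : Type*} [Group G] [Finite G]

/-- A Sylow subgroup of a normal subgroup of order prime to `p` has order 1 modulo `p`. -/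
theorem ordProj_modEq_one {p : ℕ} (hp : p.Prime) (hpG : ¬ p ^ 2 ∣ Nat.card G) {P : Subgroup G}
    (hP : Nat.card P = p) (hC : Subgroup.centralizer (P : Set G) ≤ P) {N : Subgroup G} [N.Normal]
    (hpN : ¬ p ∣ Nat.card N) {q : ℕ} (hq : q.Prime) :
    (q ^ (Nat.card N).factorization q) % p = 1 := by
  haveI : Fact p.Prime := ⟨hp⟩
  haveI : Fact q.Prime := ⟨hq⟩
  obtain ⟨Q⟩ : Nonempty (Sylow q N) := inferInstance
  set Q' : Subgroup G := (Q : Subgroup N).map N.subtype with hQ'
  set M : Subgroup G := Subgroup.normalizer (Q' : Set G) with hM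
  have hsup : M ⊔ N = ⊤ := Sylow.normalizer_sup_eq_top Q
  have hidx : N.index = (N.subgroupOf M).index := by
    rw [← Subgroup.relIndex_top_right, ← hsup, Subgroup.relIndex_sup_right]
    rfl
  have hpNidx : p ∣ N.index := by
    have h := Subgroup.card_mul_index N
    have : p ∣ Nat.card N * N.index := by
      rw [h, ← hP]; exact Subgroup.card_subgroup_dvd_card P
    exact (hp.dvd_mul.mp this).resolve_left hpN
  have hpM : p ∣ Nat.card M := (hidx ▸ hpNidx).trans (Subgroup.index_dvd_card _)
  obtain ⟨x, hx⟩ := exists_prime_orderOf_dvd_card' (G := M) p hpM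
  have hxG : orderOf (x : G) = p := by rw [Subgroup.orderOf_coe, hx]
  have hfac : p ^ (Nat.card G).factorization p = p := by
    have h1 : (Nat.card G).factorization p = 1 := by
      refine le_antisymm ?_ ((hp.dvd_iff_one_le_factorization Nat.card_pos.ne').mp
        (hP ▸ Subgroup.card_subgroup_dvd_card P))
      by_contra hlt
      exact hpG ((pow_dvd_pow p (by omega)).trans (Nat.ordProj_dvd _ p))
    rw [h1, pow_one]
  let T : Sylow p G := Sylow.ofCard (Subgroup.zpowers (x : G)) (by rw [hfac, Nat.card_zpowers, hxG])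
  let S : Sylow p G := Sylow.ofCard P (by rw [hfac, hP])
  obtain ⟨g, hg⟩ := MulAction.exists_smul_eq G S T
  -- the fixed points of `x` on `Q'` are trivial
  have hxM : (x : G) ∈ M := x.2
  letI : MulAction (Subgroup.zpowers (x : G)) Q' :=
    { smul := fun a y => ⟨(a : G) * y * (a : G)⁻¹, by
        have : (a : G) ∈ M := Subgroup.zpowers_le.mpr hxM a.2
        exact (Subgroup.mem_normalizer_iff.mp this y).mp y.2⟩
      one_smul := fun y => Subtype.ext (show (1 : G) * y * (1 : G)⁻¹ = y by group)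
      mul_smul := fun a b y => Subtype.ext (show ((a : G) * b) * y * ((a : G) * b)⁻¹ =
        (a : G) * ((b : G) * y * (b : G)⁻¹) * (a : G)⁻¹ by group) }
  have hPx : IsPGroup p (Subgroup.zpowers (x : G)) :=
    IsPGroup.of_card (n := 1) (by rw [Nat.card_zpowers, hxG, pow_one])
  have hfix : ∀ y : Q', y ∈ MulAction.fixedPoints (Subgroup.zpowers (x : G)) Q' → y = 1 := by
    intro y hy
    have hyN : (y : G) ∈ N := by
      obtain ⟨z, -, hz⟩ := y.2
      rw [← hz]; exact z.2
    have hcomm : g⁻¹ * (y : G) * g ∈ Subgroup.centralizer (P : Set G) := by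
      rw [Subgroup.mem_centralizer_iff]
      intro a ha
      have haT : g * a * g⁻¹ ∈ (T : Subgroup G) := by
        rw [← hg, Sylow.coe_subgroup_smul, Subgroup.mem_smul_pointwise_iff_exists]
        exact ⟨a, ha, by simp [MulAut.conj_apply]⟩
      have := congrArg Subtype.val (hy ⟨g * a * g⁻¹, haT⟩)
      change g * a * g⁻¹ * y * (g * a * g⁻¹)⁻¹ = y at this
      have := congrArg (fun t => g⁻¹ * t * (g * a)) this
      simp only [mul_assoc, mul_inv_rev, inv_inv, inv_mul_cancel_left, mul_inv_cancel_left,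
        inv_mul_cancel, mul_one] at this ⊢
      exact this
    have hP1 := hC hcomm
    have hN1 : g⁻¹ * (y : G) * g ∈ N := by
      have := Subgroup.Normal.conj_mem ‹N.Normal› _ hyN g⁻¹
      simpa using this
    have hbot : P ⊓ N = ⊥ := by
      rw [← Subgroup.card_eq_one]
      have h1 : Nat.card ↥(P ⊓ N) ∣ p := hP ▸ Subgroup.card_dvd_of_le inf_le_left
      rcases (Nat.dvd_prime hp).mp h1 with h | h
      · exact h
      · exact absurd (h ▸ Subgroup.card_dvd_of_le inf_le_right) hpN
    have : g⁻¹ * (y : G) * g = 1 := by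
      rw [← Subgroup.mem_bot, ← hbot]; exact ⟨hP1, hN1⟩
    apply Subtype.ext
    have := congrArg (fun t => g * t * g⁻¹) this
    simpa [mul_assoc] using this
  have hmod := hPx.card_modEq_card_fixedPoints (α := Q')
  have hone : Nat.card (MulAction.fixedPoints (Subgroup.zpowers (x : G)) Q') = 1 := by
    rw [Nat.card_eq_one_iff_unique]
    refine ⟨⟨fun a b => Subtype.ext ((hfix _ a.2).trans (hfix _ b.2).symm)⟩, ⟨⟨1, fun a => ?_⟩⟩⟩
    exact Subtype.ext (show (a : G) * 1 * (a : G)⁻¹ = 1 by group)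
  rw [hone, hQ', Nat.card_congr (Subgroup.equivMapOfInjective _ _ N.subtype_injective).symm.toEquiv,
    Sylow.card_eq_multiplicity] at hmod
  rw [hmod, Nat.mod_eq_of_lt hp.one_lt]

/-- In such a group every nontrivial normal subgroup has order divisible by `p`. -/
theorem dvd_card_normal {p : ℕ} (hp : p.Prime) (hpG : ¬ p ^ 2 ∣ Nat.card G) {P : Subgroup G}
    (hP : Nat.card P = p) (hC : Subgroup.centralizer (P : Set G) ≤ P) {q₀ a₀ : ℕ} (hq₀ : q₀.Prime)
    (harith : ∀ q, q.Prime → ∀ a, 0 < a → q ^ a ∣ Nat.card G → q ^ a % p = 1 → q = q₀ ∧ a = a₀)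
    (hobs : ∀ r ≤ a₀, ¬ Nat.card G ∣
      q₀ ^ a₀ * (q₀ ^ (r * (a₀ - r)) * ∏ i ∈ Finset.range r, (q₀ ^ r - q₀ ^ i)))
    (N : Subgroup G) [hN : N.Normal] (hne : N ≠ ⊥) : p ∣ Nat.card N := by
  by_contra hpN
  have hpart : ∀ (K : Subgroup G) [K.Normal], ¬ p ∣ Nat.card K →
      Nat.card K ∣ q₀ ^ a₀ ∧ (Nat.card K ≠ 1 → Nat.card K = q₀ ^ a₀) := by
    intro K _ hK
    have hz : ∀ q, q ≠ q₀ → (Nat.card K).factorization q = 0 := by
      intro q hq
      by_cases hqp : q.Prime
      · by_contra h0
        exact hq (harith q hqp _ (Nat.pos_of_ne_zero h0)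
          ((Nat.ordProj_dvd _ q).trans (Subgroup.card_subgroup_dvd_card K))
          (ordProj_modEq_one hp hpG hP hC hK hqp)).1
      · exact Nat.factorization_eq_zero_of_not_prime _ hqp
    have heq : Nat.card K = q₀ ^ (Nat.card K).factorization q₀ := by
      refine Nat.eq_of_factorization_eq Nat.card_pos.ne' (pow_ne_zero _ hq₀.ne_zero) fun q => ?_
      rw [Nat.Prime.factorization_pow hq₀]
      by_cases hq : q = q₀
      · subst hq; rw [Finsupp.single_eq_same]
      · rw [Finsupp.single_eq_of_ne hq, hz q hq]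
    by_cases h0 : (Nat.card K).factorization q₀ = 0
    · rw [h0, pow_zero] at heq
      exact ⟨heq ▸ one_dvd _, fun h => absurd heq h⟩
    · have := (harith q₀ hq₀ _ (Nat.pos_of_ne_zero h0)
        ((Nat.ordProj_dvd _ q₀).trans (Subgroup.card_subgroup_dvd_card K))
        (ordProj_modEq_one hp hpG hP hC hK hq₀)).2
      rw [this] at heq
      exact ⟨heq ▸ dvd_rfl, fun _ => heq⟩
  have hcardN : Nat.card N = q₀ ^ a₀ :=
    (hpart N hpN).2 fun h => hne (Subgroup.card_eq_one.mp h)
  -- the centraliser of N is again of order prime to p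
  set C := Subgroup.centralizer (N : Set G) with hCdef
  have hpC : ¬ p ∣ Nat.card C := by
    intro hdvd
    haveI : Fact p.Prime := ⟨hp⟩
    obtain ⟨x, hx⟩ := exists_prime_orderOf_dvd_card' (G := C) p hdvd
    have hfac : p ^ (Nat.card G).factorization p = p := by
      have h1 : (Nat.card G).factorization p = 1 := by
        refine le_antisymm ?_ ((hp.dvd_iff_one_le_factorization Nat.card_pos.ne').mp
          (hP ▸ Subgroup.card_subgroup_dvd_card P))
        by_contra hlt
        exact hpG ((pow_dvd_pow p (by omega)).trans (Nat.ordProj_dvd _ p))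
      rw [h1, pow_one]
    let T : Sylow p G := Sylow.ofCard (Subgroup.zpowers (x : G))
      (by rw [hfac, Nat.card_zpowers, Subgroup.orderOf_coe, hx])
    let S : Sylow p G := Sylow.ofCard P (by rw [hfac, hP])
    obtain ⟨g, hg⟩ := MulAction.exists_smul_eq G T S
    have hPC : P ≤ C := by
      intro a ha
      have ha' : a ∈ (S : Subgroup G) := ha
      rw [← hg, Sylow.coe_subgroup_smul, Subgroup.mem_smul_pointwise_iff_exists] at ha'
      obtain ⟨b, hb, rfl⟩ := ha'
      have hbC : b ∈ C := Subgroup.zpowers_le.mpr x.2 hb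
      simpa [MulAut.conj_apply] using Subgroup.Normal.conj_mem inferInstance b hbC g
    have hNP : N ≤ P := by
      refine le_trans ?_ hC
      intro n hn
      rw [Subgroup.mem_centralizer_iff]
      intro a ha
      exact (Subgroup.mem_centralizer_iff.mp (hPC ha) n hn).symm
    have h1 : Nat.card N ∣ p := hP ▸ Subgroup.card_dvd_of_le hNP
    rcases (Nat.dvd_prime hp).mp h1 with h | h
    · exact hne (Subgroup.card_eq_one.mp h)
    · exact hpN (h ▸ dvd_rfl)
  have hCdvd : Nat.card C ∣ q₀ ^ a₀ := (hpart C hpC).1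
  let φ : G →* MulAut N := MulAut.conjNormal
  have hker : φ.ker = C := by
    ext g
    rw [MonoidHom.mem_ker, hCdef, Subgroup.mem_centralizer_iff]
    constructor
    · intro h n hn
      have h2 : g * n * g⁻¹ = n := congrArg (fun f : MulAut N => (f ⟨n, hn⟩ : G)) h
      calc n * g = (g * n * g⁻¹) * g := by rw [h2]
        _ = g * n := by group
    · intro h
      apply MulEquiv.ext
      intro n
      apply Subtype.ext
      show g * n * g⁻¹ = n
      rw [← h n n.2]; group
  haveI : Fact q₀.Prime := ⟨hq₀⟩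
  have hPN : IsPGroup q₀ N := IsPGroup.of_card hcardN
  obtain ⟨r, hr⟩ : ∃ r, (frattini ↥N).index = q₀ ^ r := by
    obtain ⟨k, -, hk⟩ := (Nat.dvd_prime_pow hq₀).mp (hcardN ▸ (frattini ↥N).index_dvd_card)
    exact ⟨k, hk⟩
  have hra : r ≤ a₀ := by
    have := (frattini ↥N).index_dvd_card
    rw [hr, hcardN] at this
    exact (Nat.pow_dvd_pow_iff_le_right hq₀.one_lt).mp this
  refine hobs r hra ?_
  rw [← Subgroup.index_mul_card φ.ker, mul_comm, Subgroup.index_ker, hker]
  exact mul_dvd_mul hCdvd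
    ((Subgroup.card_subgroup_dvd_card _).trans (FrattiniTuples.card_mulAut_dvd hcardN hr))

/-- The normaliser order from an upper bound and the Sylow congruence. -/
theorem card_normalizer_of_le {p m q B : ℕ} (hp : p.Prime) (hm : ¬ p ∣ m) (hG : Nat.card G = p * m)
    {P : Subgroup G} (hP : Nat.card P = p) (hle : Nat.card (Subgroup.normalizer (P : Set G)) ≤ p * B)
    (hB : ∀ k ∈ List.range (B + 1), k * (m / k) = m → (m / k) % p = 1 → k = q) :
    Nat.card (Subgroup.normalizer (P : Set G)) = p * q := by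
  haveI : Fact p.Prime := ⟨hp⟩
  set NP := Subgroup.normalizer (P : Set G) with hNP
  obtain ⟨k, hk⟩ : p ∣ Nat.card NP := hP ▸ Subgroup.card_dvd_of_le Subgroup.le_normalizer
  have hk0 : 0 < k := Nat.pos_of_ne_zero fun h => by
    have h0 : 0 < Nat.card NP := Nat.card_pos
    rw [hk, h, mul_zero] at h0
    exact lt_irrefl 0 h0
  have hkm : k ∣ m := by
    have := Subgroup.card_subgroup_dvd_card NP
    rw [hk, hG] at this
    exact (Nat.mul_dvd_mul_iff_left hp.pos).1 this
  have hidx : NP.index = m / k := by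
    have := Subgroup.card_mul_index NP
    rw [hk, hG, mul_assoc] at this
    rw [← Nat.eq_of_mul_eq_mul_left hp.pos this, Nat.mul_div_cancel_left _ hk0]
  let S : Sylow p G := Sylow.ofCard P (by rw [hP, hG, GolaySimpleGen.eq_of_factorization hp hm])
  have hmod := card_sylow_modEq_one p G
  rw [Sylow.card_eq_index_normalizer S, show Subgroup.normalizer (S : Set G) = NP from rfl, hidx] at hmod
  have hk' := hB k (List.mem_range.2 (by
    rw [hk] at hle
    exact Nat.lt_succ_of_le (Nat.le_of_mul_le_mul_left hle hp.pos))) (Nat.mul_div_cancel' hkm)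
    (by rw [hmod, Nat.mod_eq_of_lt hp.one_lt])
  rw [hk, hk']

/-- Simplicity from a normaliser bound and an element inducing a nontrivial automorphism. -/
theorem isSimpleGroup_of_bound {p m q B : ℕ} (hp : p.Prime) (hq : q.Prime) (hm : ¬ p ∣ m)
    (hG : Nat.card G = p * m) (hmq : m ≠ q) (hm1 : m ≠ 1) {P : Subgroup G} (hP : Nat.card P = p)
    (hle : Nat.card (Subgroup.normalizer (P : Set G)) ≤ p * B)
    (hB : ∀ k ∈ List.range (B + 1), k * (m / k) = m → (m / k) % p = 1 → k = q)
    (hne : ¬ Subgroup.normalizer (P : Set G) ≤ Subgroup.centralizer (P : Set G))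
    {q₀ a₀ : ℕ} (hq₀ : q₀.Prime)
    (harith : ∀ x, x.Prime → ∀ a, 0 < a → x ^ a ∣ Nat.card G → x ^ a % p = 1 → x = q₀ ∧ a = a₀)
    (hobs : ∀ r ≤ a₀, ¬ Nat.card G ∣
      q₀ ^ a₀ * (q₀ ^ (r * (a₀ - r)) * ∏ i ∈ Finset.range r, (q₀ ^ r - q₀ ^ i))) :
    IsSimpleGroup G := by
  have hNP := card_normalizer_of_le hp hm hG hP hle hB
  haveI : Fact p.Prime := ⟨hp⟩
  set C := Subgroup.centralizer (P : Set G) with hCdef
  have hcyc : IsCyclic P := isCyclic_of_prime_card hP
  have hPC : P ≤ C := by
    intro a ha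
    rw [hCdef, Subgroup.mem_centralizer_iff]
    intro b hb
    exact congrArg Subtype.val ((IsCyclic.isMulCommutative (α := P)).is_comm.comm (⟨b, hb⟩ : P) ⟨a, ha⟩)
  have hCN : C ≤ Subgroup.normalizer (P : Set G) := Subgroup.centralizer_le_normalizer _
  have hCP : C ≤ P := by
    obtain ⟨c, hc⟩ : p ∣ Nat.card C := hP ▸ Subgroup.card_dvd_of_le hPC
    have h1 : c ∣ q := by
      have := Subgroup.card_dvd_of_le hCN
      rw [hNP, hc] at this
      exact (Nat.mul_dvd_mul_iff_left hp.pos).1 this
    rcases (Nat.dvd_prime hq).1 h1 with h | h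
    · exact (Subgroup.eq_of_le_of_card_ge hPC (by rw [hc, hP, h, mul_one])).ge
    · exact absurd (Subgroup.eq_of_le_of_card_ge hCN (by rw [hc, hNP, h])).ge hne
  refine GolaySimpleGen.isSimpleGroup_of_normalizer hp hq hm hG hmq hm1 P hP hNP fun N hN hbot => ?_
  haveI := hN
  refine dvd_card_normal hp ?_ hP hCP hq₀ harith hobs N hbot
  rw [hG, pow_two]
  exact fun h => hm ((Nat.mul_dvd_mul_iff_left hp.pos).1 h)

end Cfsg.Agent.LeechSimpleCrit
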