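import Cfsg.Agent.Lib.LeechNormalizers
import Cfsg.Agent.Lib.LeechSimpleCrit
import Cfsg.Agent.Lib.LeechCertOrders

/-!
Simplicity of the quotient by the centre and of the stabilisers of short vectors and pairs.
-/

set_option autoImplicit false

open scoped Pointwise

namespace Cfsg.Agent.LeechCoSimple

open Cfsg Cfsg.Agent.GolayBasic Cfsg.Agent.LeechBasic Cfsg.Agent.LeechAut Cfsg.Agent.LeechOrder
open Cfsg.Agent.LeechOrbit Cfsg.Agent.LeechCert Cfsg.Agent.LeechNormalizers
open Cfsg.Agent.GolayPerm (permOf permOf_mem_M24)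
open Cfsg.Agent.GolaySimple (z11 z23)
open Cfsg.Agent.GolayNormalizer (cyc)
open Cfsg.Agent.LeechMonomial (monomial_injective)
open Cfsg.Agent.LeechStab (mono mem_mono prj prj_eq permHom monomial_mul monomial_congr)

/-- An element conjugating `g` into its cyclic group does so both ways. -/
theorem conj_inv_mem {S : Subgroup Co0} {g : Co0} (hn : ∀ h ∈ S, h * g * h⁻¹ ∈ Subgroup.zpowers g) {h : Co0}
    (hh : h ∈ S) : h⁻¹ * g * h ∈ Subgroup.zpowers g := by
  simpa using hn h⁻¹ (inv_mem hh)

/-- The permutation parts of a monomial subgroup. -/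
noncomputable def projHom {S : Subgroup Co0} (hle : S ≤ mono) : S →* Equiv.Perm GolayPt :=
  (M24.subtype).comp (prj.comp (Subgroup.inclusion hle))

theorem projHom_eq {S : Subgroup Co0} (hle : S ≤ mono) {h : S} {σ : Equiv.Perm GolayPt} {hσ : σ ∈ M24}
    {c : Finset GolayPt} {hc : c ∈ supports (golayCode : Set (GolayPt → ZMod 2))}
    (e : (h : Co0) = monomial σ hσ c hc) : projHom hle h = σ :=
  prj_eq (g := Subgroup.inclusion hle h) e

theorem projHom_range_le {S : Subgroup Co0} (hle : S ≤ mono) : (projHom hle).range ≤ M24 := by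
  rintro _ ⟨h, rfl⟩
  exact (prj (Subgroup.inclusion hle h)).2

theorem projHom_perm {S : Subgroup Co0} (hle : S ≤ mono) {z : ℕ} {hz : GolayPerm.good z = true}
    (h : permElt z hz ∈ S) : projHom hle ⟨permElt z hz, h⟩ = permOf z :=
  projHom_eq hle (σ := permOf z) (hσ := permOf_mem_M24 hz) (c := ∅) (hc := empty_mem_supports) rfl

theorem projHom_conj {S : Subgroup Co0} (hle : S ≤ mono) {z : ℕ} {hz : GolayPerm.good z = true}
    (hzS : permElt z hz ∈ S) (hn : ∀ h ∈ S, h * permElt z hz * h⁻¹ ∈ Subgroup.zpowers (permElt z hz))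
    {σ : Equiv.Perm GolayPt} (hσ : σ ∈ (projHom hle).range) : σ * permOf z * σ⁻¹ ∈ cyc z := by
  obtain ⟨h, rfl⟩ := hσ
  obtain ⟨k, hk⟩ := Subgroup.mem_zpowers_iff.mp (hn h h.2)
  have hk' : (⟨permElt z hz, hzS⟩ : S) ^ k = h * ⟨permElt z hz, hzS⟩ * h⁻¹ := Subtype.ext hk
  have := congrArg (projHom hle) hk'
  rw [map_zpow, map_mul, map_mul, map_inv, projHom_perm] at this
  exact Subgroup.mem_zpowers_iff.mpr ⟨k, this⟩

/-- The normaliser of `g23` has at most 506 elements, half of which fix a given vector. -/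
theorem bound23 {S : Subgroup Co0} (hgS : g23 ∈ S)
    (hn : ∀ h ∈ S, h * g23 * h⁻¹ ∈ Subgroup.zpowers g23) :
    Nat.card S ≤ 2 * (23 * 11) ∧ (negAut ∉ S → Nat.card S ≤ 23 * 11) := by
  haveI := finite_Co0
  have hframe : ∀ h ∈ S, h • frame none = frame none ∨ h • frame none = -frame none := fun h hh =>
    fixed23 (by rw [sqNorm_smul, sqNorm_frame]) (smul_fixed (conj_inv_mem hn hh) g23_frame)
  have hle : S ≤ mono := fun h hh => mem_mono_of_frame (hframe h hh)
  set f := projHom hle
  have hnone : ∀ σ ∈ f.range, σ none = none := by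
    rintro _ ⟨h, rfl⟩
    obtain ⟨σ, hσ, c, hc, e⟩ := mem_mono.mp (hle h.2)
    rw [projHom_eq hle e]
    exact (fixes_none (e ▸ hframe h h.2)).1
  have himg : Nat.card f.range ≤ 23 * 11 := by
    refine GolayNormalizer.card_normalizer_le (a := 0) (b := 23) (by norm_num) (by norm_num) (by norm_num)
      GolaySimple.table23' [0] [23] (N := 11) GolaySimple.accepted23 f.range (projHom_range_le hle)
      ⟨⟨g23, hgS⟩, projHom_perm hle hgS⟩ ?_ ?_ (fun g hg => by
        rw [show pt 23 = none from rfl, hnone g hg]; simp [idx])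
      (fun g hg => projHom_conj hle hgS hn hg)
    · intro g hg i hi hloc
      have : i = 23 := (by decide +kernel : ∀ i < 24, (GolaySimple.loc23.getD i (2, 0)).1 = 2 → i = 23) i hi hloc
      subst this
      rw [show pt 23 = none from rfl, hnone g hg]; rfl
    · intro g hg
      have hne : g (pt 0) ≠ none := fun e => by
        rw [← hnone g hg] at e
        exact absurd (g.injective e) (by decide)
      have h : ∀ p : GolayPt, p ≠ none →
          ∃ e < 23, GolayPerm.pimg (GolaySimple.zs23.getD e 0) (idx p) = 0 := by decide +kernel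
      obtain ⟨e, he, hp⟩ := h _ hne
      exact ⟨e, he, by
        rw [Equiv.Perm.mul_apply, GolayNormalizer.idx_pow GolaySimple.table23' _ e he, hp]; simp⟩
  have hker : ∀ h : S, f h = 1 → (h : Co0) = 1 ∨ (h : Co0) = negAut := by
    intro h h1
    obtain ⟨σ, hσ, c, hc, e⟩ := mem_mono.mp (hle h.2)
    obtain rfl : σ = 1 := (projHom_eq hle e).symm.trans h1
    obtain ⟨k, hk⟩ := Subgroup.mem_zpowers_iff.mp (hn h h.2)
    have hk' : (⟨g23, hgS⟩ : S) ^ k = h * ⟨g23, hgS⟩ * h⁻¹ := Subtype.ext hk
    have hp := congrArg f hk'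
    rw [map_zpow, map_mul, map_mul, map_inv, h1, one_mul, inv_one, mul_one,
      show f ⟨g23, hgS⟩ = permOf z23 from projHom_perm hle hgS] at hp
    have hgk : g23 ^ k = g23 := by
      have hd : ((23 : ℕ) : ℤ) ∣ k - 1 := by
        rw [← orderOf_z23, orderOf_dvd_iff_zpow_eq_one, zpow_sub, hp, zpow_one, mul_inv_cancel]
      obtain ⟨d, hd⟩ := hd
      rw [show k = 1 + 23 * d by push_cast at hd; omega, zpow_add, zpow_one, zpow_mul,
        show g23 ^ (23 : ℤ) = 1 by
          rw [show (23 : ℤ) = ((23 : ℕ) : ℤ) from rfl, zpow_natCast, ← orderOf_g23, pow_orderOf_eq_one],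
        one_zpow, mul_one]
    have hcomm : (h : Co0) * g23 = g23 * h := by
      rw [hgk] at hk
      exact (eq_mul_inv_iff_mul_eq.mp hk).symm
    rw [e, show g23 = monomial (permOf z23) (permOf_mem_M24 z23_good) ∅ empty_mem_supports from rfl,
      monomial_mul, monomial_mul] at hcomm
    have hcz := (monomial_injective _ _ _ _ hcomm).2
    simp only [one_smul, Finset.smul_finset_empty, ← Finset.bot_eq_empty, symmDiff_bot, bot_symmDiff] at hcz
    have hinv : ∀ e : ℕ, ∀ p, ((permOf z23 ^ e) p ∈ c ↔ p ∈ c) := by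
      intro e
      induction e with
      | zero => simp
      | succ e ih =>
        intro p
        rw [pow_succ', Equiv.Perm.mul_apply]
        rw [← ih p]
        conv_lhs => rw [hcz]
        exact Finset.smul_mem_smul_finset_iff (permOf z23)
    have hiff : ∀ p : GolayPt, p ≠ none → (p ∈ c ↔ some 0 ∈ c) := by
      intro p hp
      have h : ∀ p : GolayPt, p ≠ none → GolayPerm.pimg (GolaySimple.zs23.getD (idx p) 0) 0 = idx p := by
        decide +kernel
      have hlt : idx p < 23 := by
        cases p with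
        | none => exact absurd rfl hp
        | some a => exact ZMod.val_lt a
      have e' : (permOf z23 ^ idx p) (some 0) = p := idx_inj (by
        rw [GolayNormalizer.idx_pow GolaySimple.table23 (some 0) _ hlt]; exact h p hp)
      conv_lhs => rw [← e']
      exact hinv _ _
    have hbad : mset 8388607 ∉ supports (golayCode : Set (GolayPt → ZMod 2)) ∧
        mset 8388608 ∉ supports (golayCode : Set (GolayPt → ZMod 2)) := by
      rw [mset_mem_supports (by norm_num), mset_mem_supports (by norm_num)]; decide +kernel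
    have hone : (h : Co0) = 1 ↔ True ∧ c = ∅ := by
      rw [e, ← LeechStab.monomial_one]
      exact ⟨fun he => ⟨trivial, (monomial_injective _ _ _ _ he).2⟩,
        fun he => monomial_congr _ _ _ _ rfl he.2⟩
    by_cases h0 : some 0 ∈ c <;> by_cases hn0 : none ∈ c
    · refine Or.inr ?_
      have : c = Finset.univ := by
        ext p; simp only [Finset.mem_univ, iff_true]
        by_cases hp : p = none
        · exact hp ▸ hn0
        · exact (hiff p hp).mpr h0
      rw [e]
      refine ext_frame fun i => Subtype.ext ?_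
      rw [coe_monomial_smul, coe_negAut_smul, this]
      funext p
      simp [signedPerm, show (1 : Equiv.Perm GolayPt).symm = 1 from rfl]
    · refine absurd ?_ hbad.1
      have : c = mset 8388607 := by
        ext p
        have hm : ∀ p : GolayPt, p ∈ mset 8388607 ↔ p ≠ none := by decide +kernel
        rw [hm]
        by_cases hp : p = none
        · subst hp; simp [hn0]
        · simp [hp, (hiff p hp).mpr h0]
      exact this ▸ hc
    · refine absurd ?_ hbad.2
      have : c = mset 8388608 := by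
        ext p
        have hm : ∀ p : GolayPt, p ∈ mset 8388608 ↔ p = none := by decide +kernel
        rw [hm]
        by_cases hp : p = none
        · subst hp; simp [hn0]
        · simp [hp, (hiff p hp), h0]
      exact this ▸ hc
    · refine Or.inl (hone.mpr ⟨trivial, ?_⟩)
      ext p
      by_cases hp : p = none
      · subst hp; simp [hn0]
      · simp [(hiff p hp), h0]
  have hcard : Nat.card S = Nat.card f.ker * Nat.card f.range := by
    rw [← Subgroup.index_ker f, mul_comm, Subgroup.index_mul_card]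
  have hkmap : ((fun h : f.ker => ((h : S) : Co0)) '' Set.univ) ⊆ ({1, negAut} : Set Co0) := by
    rintro _ ⟨⟨h, hk⟩, -, rfl⟩
    exact hker h hk
  have hk2 : Nat.card f.ker ≤ 2 := by
    have := Set.ncard_le_ncard hkmap
    rw [Set.ncard_image_of_injective _ (fun a b he => Subtype.ext (Subtype.ext he)), Set.ncard_univ] at this
    exact this.trans ((Set.ncard_insert_le _ _).trans (by rw [Set.ncard_singleton]))
  constructor
  · rw [hcard]; exact Nat.mul_le_mul hk2 himg
  · intro hneg
    have : f.ker = ⊥ := by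
      rw [Subgroup.eq_bot_iff_forall]
      intro h hh
      rcases hker h hh with e | e
      · exact Subtype.ext e
      · exact absurd (e ▸ h.2) hneg
    rw [hcard, this, Subgroup.card_bot, one_mul]
    exact himg

/-- The normaliser of `g11` in the stabiliser of two standard vectors has at most 55 elements. -/
theorem bound11 {S : Subgroup Co0} (hgS : g11 ∈ S)
    (hn : ∀ h ∈ S, h * g11 * h⁻¹ ∈ Subgroup.zpowers g11) (w : leechLattice)
    (hw : w = Spor.leechU ∨ w = Spor.leechU') (hV : ∀ h ∈ S, h • Spor.leechV = Spor.leechV)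
    (hW : ∀ h ∈ S, h • w = w) : Nat.card S ≤ 11 * 5 := by
  haveI := finite_Co0
  have hframe : ∀ h ∈ S, h • frame none = frame none := by
    intro h hh
    refine fixed11 (by rw [sqNorm_smul, sqNorm_frame]) (smul_fixed (conj_inv_mem hn hh) g11_frame) ?_ ?_
    · have := dotInt_smul h Spor.leechV (frame none)
      rw [hV h hh] at this
      exact this.trans (by decide +kernel)
    · have := dotInt_smul h w (frame none)
      rw [hW h hh] at this
      rcases hw with rfl | rfl
      · exact Or.inl (this.trans (by decide +kernel))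
      · exact Or.inr (this.trans (by decide +kernel))
  have hle : S ≤ mono := fun h hh => mem_mono_of_frame (Or.inl (hframe h hh))
  set f := projHom hle
  have hdata : ∀ h : S, ∃ (σ : Equiv.Perm GolayPt) (hσ : σ ∈ M24),
      (h : Co0) = monomial σ hσ ∅ empty_mem_supports ∧ σ none = none ∧ σ (some 0) = some 0 := by
    intro h
    obtain ⟨σ, hσ, c, hc, e⟩ := mem_mono.mp (hle h.2)
    obtain ⟨hs, hcn⟩ := fixes_none (e ▸ Or.inl (hframe h h.2))
    have hcn := hcn (e ▸ hframe h h.2)
    have hVp := congrArg Subtype.val (hV h h.2)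
    rw [e, coe_monomial_smul] at hVp
    have hc0 : c = ∅ := by
      ext q
      simp only [Finset.notMem_empty, iff_false]
      intro hq
      have := congrFun hVp q
      simp only [signedPerm, if_pos hq] at this
      change -Spor.vecV (σ.symm q) = Spor.vecV q at this
      simp only [Spor.vecV] at this
      split_ifs at this <;> omega
    subst hc0
    refine ⟨σ, hσ, e, hs, ?_⟩
    have hWp := congrArg Subtype.val (hW h h.2)
    rw [e, coe_monomial_smul] at hWp
    have h0 := congrFun hWp (σ (some 0))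
    simp only [signedPerm, Equiv.symm_apply_apply, Finset.notMem_empty, if_false] at h0
    by_contra hne
    have hne' : σ (some 0) ≠ none := fun he => by
      rw [← hs] at he; exact absurd (σ.injective he) (by decide)
    rcases hw with rfl | rfl
    · change Spor.vecU (some 0) = Spor.vecU (σ (some 0)) at h0
      simp [Spor.vecU, hne, hne'] at h0
    · change Spor.vecU' (some 0) = Spor.vecU' (σ (some 0)) at h0
      simp [Spor.vecU', hne, hne'] at h0
  have hfix : ∀ g ∈ f.range, g (pt 0) = pt 0 ∧ g (pt 23) = pt 23 := by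
    rintro _ ⟨h, rfl⟩
    obtain ⟨σ, hσ, e, h1, h2⟩ := hdata h
    rw [projHom_eq hle e]
    exact ⟨h2, h1⟩
  have hinj : Function.Injective f := by
    intro a b hab
    obtain ⟨σ, hσ, ea, -, -⟩ := hdata a
    obtain ⟨τ, hτ, eb, -, -⟩ := hdata b
    rw [projHom_eq hle ea, projHom_eq hle eb] at hab
    exact Subtype.ext (by rw [ea, eb]; exact monomial_congr _ _ _ _ hab rfl)
  rw [Nat.card_congr (MonoidHom.ofInjective hinj).toEquiv]
  exact GolaySimple.bound11 (projHom_range_le hle) (fun g hg => (hfix g hg).1) (fun g hg => (hfix g hg).2)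
    ⟨⟨g11, hgS⟩, projHom_perm hle hgS⟩ (fun g hg => projHom_conj hle hgS hn hg)

/-- Membership in a normaliser of a finite cyclic subgroup. -/
theorem mem_normalizer_zpowers {G : Type*} [Group G] [Finite G] {n g : G} {k : ℕ}
    (h : n * g * n⁻¹ = g ^ k) (hk : (orderOf g).Coprime k) :
    n ∈ Subgroup.normalizer ((Subgroup.zpowers g : Subgroup G) : Set G) := by
  have hgen : g ∈ Subgroup.zpowers (g ^ k) := by
    rw [Subgroup.eq_of_le_of_card_ge (Subgroup.zpowers_le.mpr (Subgroup.npow_mem_zpowers g k) :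
      Subgroup.zpowers (g ^ k) ≤ Subgroup.zpowers g)
      (by rw [Nat.card_zpowers, Nat.card_zpowers, hk.orderOf_pow])]
    exact Subgroup.mem_zpowers g
  rw [Subgroup.mem_normalizer_iff]
  intro x
  constructor
  · intro hx
    obtain ⟨i, rfl⟩ := Subgroup.mem_zpowers_iff.mp hx
    rw [← conj_zpow, h]
    exact Subgroup.zpow_mem _ (Subgroup.npow_mem_zpowers g k) i
  · intro hx
    obtain ⟨i, hi⟩ := Subgroup.mem_zpowers_iff.mp hx
    obtain ⟨j, hj⟩ := Subgroup.mem_zpowers_iff.mp hgen
    rw [← hj, ← zpow_mul, ← h, conj_zpow] at hi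
    rw [← mul_left_cancel (mul_right_cancel hi)]
    exact Subgroup.zpow_mem _ (Subgroup.mem_zpowers g) _

theorem harith_of_list {n p q₀ a₀ : ℕ} (l : List (ℕ × ℕ)) (hl : (l.map fun x => x.1 ^ x.2).prod = n)
    (hpr : ∀ x ∈ l, x.1.Prime) (hmax : l.all (fun x => n % x.1 ^ (x.2 + 1) != 0) = true)
    (hok : l.all (fun x => (List.range (x.2 + 1)).all fun a =>
      a == 0 || x.1 ^ a % p != 1 || (x.1 == q₀ && a == a₀)) = true) :
    ∀ q, q.Prime → ∀ a, 0 < a → q ^ a ∣ n → q ^ a % p = 1 → q = q₀ ∧ a = a₀ := by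
  intro q hq a ha hdvd hmod
  have hqn : q ∣ (l.map fun x => x.1 ^ x.2).prod := hl ▸ (dvd_pow_self q ha.ne').trans hdvd
  obtain ⟨y, hy, hqy⟩ := (Prime.dvd_prod_iff hq.prime).mp hqn
  obtain ⟨⟨r, e⟩, hx, rfl⟩ := List.mem_map.mp hy
  obtain rfl : q = r := (Nat.prime_dvd_prime_iff_eq hq (hpr _ hx)).mp (hq.dvd_of_dvd_pow hqy)
  have hle : a ≤ e := by
    by_contra hlt
    have h1 := List.all_eq_true.mp hmax _ hx
    rw [bne_iff_ne] at h1
    exact h1 (Nat.mod_eq_zero_of_dvd ((pow_dvd_pow q (by omega : e + 1 ≤ a)).trans hdvd))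
  have h2 := List.all_eq_true.mp (List.all_eq_true.mp hok _ hx) a (List.mem_range.mpr (by omega))
  simp only [Bool.or_eq_true, beq_iff_eq, bne_iff_ne, Bool.and_eq_true] at h2
  rcases h2 with (h2 | h2) | h2
  · omega
  · exact absurd hmod h2
  · exact h2

/-- Simplicity of a subgroup of the automorphism group containing `g` and an element inducing a power map. -/
theorem simple_of_subgroup {G : Subgroup Co0} {g n : Co0} {p m q B k : ℕ} (hp : p.Prime) (hq : q.Prime)
    (hg : g ∈ G) (hnG : n ∈ G) (hconj : n * g * n⁻¹ = g ^ k) (hne : g ^ k ≠ g) (hk : p.Coprime k)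
    (hord : orderOf g = p) (hm : ¬ p ∣ m) (hG : Nat.card G = p * m) (hmq : m ≠ q) (hm1 : m ≠ 1)
    (hbound : ∀ S : Subgroup Co0, S ≤ G → g ∈ S → (∀ h ∈ S, h * g * h⁻¹ ∈ Subgroup.zpowers g) →
      Nat.card S ≤ p * B)
    (hB : ∀ k ∈ List.range (B + 1), k * (m / k) = m → (m / k) % p = 1 → k = q)
    {q₀ a₀ : ℕ} (hq₀ : q₀.Prime)
    (harith : ∀ x, x.Prime → ∀ a, 0 < a → x ^ a ∣ Nat.card G → x ^ a % p = 1 → x = q₀ ∧ a = a₀)
    (hobs : ∀ r ≤ a₀, ¬ Nat.card G ∣
      q₀ ^ a₀ * (q₀ ^ (r * (a₀ - r)) * ∏ i ∈ Finset.range r, (q₀ ^ r - q₀ ^ i))) :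
    IsSimpleGroup G := by
  haveI := finite_Co0
  have hord' : orderOf (⟨g, hg⟩ : G) = p := by rw [← Subgroup.orderOf_coe]; exact hord
  set P : Subgroup G := Subgroup.zpowers (⟨g, hg⟩ : G) with hPdef
  refine LeechSimpleCrit.isSimpleGroup_of_bound (P := P) (B := B) hp hq hm hG hmq hm1
    (by rw [hPdef, Nat.card_zpowers, hord']) ?_ hB ?_ hq₀ harith hobs
  · rw [Nat.card_congr (Subgroup.equivMapOfInjective (Subgroup.normalizer (P : Set G)) _
      G.subtype_injective).toEquiv]
    refine hbound _ (Subgroup.map_subtype_le _)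
      ⟨⟨g, hg⟩, Subgroup.le_normalizer (Subgroup.mem_zpowers _), rfl⟩ ?_
    rintro _ ⟨x, hx, rfl⟩
    rw [SetLike.mem_coe, Subgroup.mem_normalizer_iff] at hx
    obtain ⟨i, hi⟩ := Subgroup.mem_zpowers_iff.mp ((hx ⟨g, hg⟩).1 (Subgroup.mem_zpowers _))
    exact Subgroup.mem_zpowers_iff.mpr ⟨i, by have := congrArg G.subtype hi; simpa using this⟩
  · intro hle
    have hnorm : (⟨n, hnG⟩ : G) ∈ Subgroup.normalizer (P : Set G) :=
      mem_normalizer_zpowers (k := k) (Subtype.ext hconj) (by rw [hord']; exact hk)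
    have hc := Subgroup.mem_centralizer_iff.mp (hle hnorm) ⟨g, hg⟩ (Subgroup.mem_zpowers _)
    have hc' : g * n = n * g := congrArg Subtype.val hc
    apply hne
    rw [← hconj, ← hc', mul_inv_cancel_right]

/-- The vector with a −3 at the extra point and 1 elsewhere. -/
def vecOne : GolayPt → ℤ := fun p => if p = none then -3 else 1

theorem vecOne_mem : vecOne ∈ leechLattice := LeechXi.isL_iff.mp (by decide +kernel)

theorem not_negAut {v : leechLattice} (hv : v ≠ -v) {S : Subgroup Co0}
    (hS : S ≤ MulAction.stabilizer Co0 v) : negAut ∉ S := fun h => by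
  have := MulAction.mem_stabilizer_iff.mp (hS h)
  rw [negAut_smul] at this
  exact hv this.symm

theorem isSimple_stab23 {v : leechLattice} (hv : v ≠ -v)
    (hz : ∀ p, (v : GolayPt → ℤ) (GolayPerm.pfun z23 p) = (v : GolayPt → ℤ) p)
    (hz' : ∀ p, (v : GolayPt → ℤ) (GolayPerm.pfun z11 p) = (v : GolayPt → ℤ) p)
    {m : ℕ} (hm : ¬ 23 ∣ m) (hG : Nat.card (MulAction.stabilizer Co0 v) = 23 * m) (hm1 : m ≠ 1)
    (hm11 : m ≠ 11)
    (hB : ∀ k ∈ List.range 12, k * (m / k) = m → (m / k) % 23 = 1 → k = 11)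
    {q₀ a₀ : ℕ} (hq₀ : q₀.Prime)
    (harith : ∀ x, x.Prime → ∀ a, 0 < a → x ^ a ∣ 23 * m → x ^ a % 23 = 1 → x = q₀ ∧ a = a₀)
    (hobs : ∀ r ≤ a₀, ¬ 23 * m ∣
      q₀ ^ a₀ * (q₀ ^ (r * (a₀ - r)) * ∏ i ∈ Finset.range r, (q₀ ^ r - q₀ ^ i))) :
    IsSimpleGroup (MulAction.stabilizer Co0 v) :=
  simple_of_subgroup (g := g23) (n := g11) (k := 2) (B := 11) (q := 11) (by norm_num) (by norm_num)
    (MulAction.mem_stabilizer_iff.mpr (g23_smul_eq hz)) (MulAction.mem_stabilizer_iff.mpr (g11_smul_eq hz'))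
    conj_g23.1 conj_g23.2 (by norm_num) orderOf_g23 hm hG hm11 hm1
    (fun S hS hgS hn => (bound23 hgS hn).2 (not_negAut hv hS)) hB hq₀ (hG ▸ harith) (hG ▸ hobs)

/-- Simplicity of the stabiliser of a minimal vector. -/
theorem isSimple_stab32 {v : leechLattice} (hv : sqNorm (v : GolayPt → ℤ) = 32) :
    IsSimpleGroup (MulAction.stabilizer Co0 v) := by
  set w : leechLattice := ⟨vecOne, vecOne_mem⟩
  obtain ⟨g, hg⟩ := exists_smul_eq (Or.inl rfl) hv (show sqNorm (w : GolayPt → ℤ) = (32 : ℕ) by decide +kernel)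
  have hw : IsSimpleGroup (MulAction.stabilizer Co0 w) := by
    refine isSimple_stab23 (m := 1839366144000) (q₀ := 2) (a₀ := 11) ?_ (by decide +kernel) (by decide +kernel)
      (by norm_num) ?_ (by norm_num) (by norm_num) (by decide +kernel) Nat.prime_two
      (harith_of_list [(2, 18), (3, 6), (5, 3), (7, 1), (11, 1), (23, 1)] (by norm_num) (by norm_num)
        (by decide +kernel) (by decide +kernel)) (by decide +kernel)
    · intro h; exact absurd (congrArg (fun x : leechLattice => (x : GolayPt → ℤ) none) h) (by decide +kernel)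
    · rw [LeechCertOrders.card_stab_norm32 (v := w) (by decide +kernel)]
  haveI := hw
  have e := MulAction.stabilizerEquivStabilizer (g := g) (a := v) (b := w) hg.symm
  exact MulEquiv.isSimpleGroup e

/-- Simplicity of the stabiliser of a vector of norm 48. -/
theorem isSimple_stab48 {v : leechLattice} (hv : sqNorm (v : GolayPt → ℤ) = 48) :
    IsSimpleGroup (MulAction.stabilizer Co0 v) := by
  obtain ⟨g, hg⟩ := LeechPairs.move48 hv
  have hw : IsSimpleGroup (MulAction.stabilizer Co0 Spor.leechV) := by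
    refine isSimple_stab23 (m := 21555072000) (q₀ := 2) (a₀ := 0) ?_ (by decide +kernel) (by decide +kernel)
      (by norm_num) ?_ (by norm_num) (by norm_num) (by decide +kernel) Nat.prime_two
      (harith_of_list [(2, 10), (3, 7), (5, 3), (7, 1), (11, 1), (23, 1)] (by norm_num) (by norm_num)
        (by decide +kernel) (by decide +kernel)) (by decide +kernel)
    · intro h; exact absurd (congrArg (fun x : leechLattice => (x : GolayPt → ℤ) none) h) (by decide +kernel)
    · rw [LeechCertOrders.card_stab_norm48 LeechPairs.sqNorm_leechV]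
  haveI := hw
  exact MulEquiv.isSimpleGroup (MulAction.stabilizerEquivStabilizer (g := g) (a := v) (b := Spor.leechV) hg.symm)

theorem isSimple_pair {w : leechLattice} (hw : w = Spor.leechU ∨ w = Spor.leechU') {m : ℕ} (hm : ¬ 11 ∣ m)
    (hG : Nat.card ↥(MulAction.stabilizer Co0 Spor.leechV ⊓ MulAction.stabilizer Co0 w) = 11 * m)
    (hm1 : m ≠ 1) (hm5 : m ≠ 5)
    (hB : ∀ k ∈ List.range 6, k * (m / k) = m → (m / k) % 11 = 1 → k = 5)
    {q₀ a₀ : ℕ} (hq₀ : q₀.Prime)
    (harith : ∀ x, x.Prime → ∀ a, 0 < a → x ^ a ∣ 11 * m → x ^ a % 11 = 1 → x = q₀ ∧ a = a₀)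
    (hobs : ∀ r ≤ a₀, ¬ 11 * m ∣
      q₀ ^ a₀ * (q₀ ^ (r * (a₀ - r)) * ∏ i ∈ Finset.range r, (q₀ ^ r - q₀ ^ i))) :
    IsSimpleGroup ↥(MulAction.stabilizer Co0 Spor.leechV ⊓ MulAction.stabilizer Co0 w) := by
  refine simple_of_subgroup (g := g11) (n := h11) (k := 3) (B := 5) (q := 5) (by norm_num) (by norm_num)
    ⟨g11_fix.1, ?_⟩ ⟨h11_fix.1, ?_⟩ conj_g11.1 conj_g11.2 (by norm_num) orderOf_g11 hm hG hm5 hm1
    (fun S hS hgS hn => bound11 hgS hn w hw (fun h hh => (hS hh).1) (fun h hh => (hS hh).2)) hB hq₀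
    (hG ▸ harith) (hG ▸ hobs)
  · rcases hw with rfl | rfl
    exacts [g11_fix.2.1, g11_fix.2.2]
  · rcases hw with rfl | rfl
    exacts [h11_fix.2.1, h11_fix.2.2]

end Cfsg.Agent.LeechCoSimple
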