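import Cfsg.Agent.Lib.LeechFreeInvolution
import Cfsg.Agent.Lib.LeechCoOneSimple

/-!
Automorphisms of the lattice given by words of encoded steps, compared on the frame vectors.
-/

set_option autoImplicit false

open scoped Pointwise

namespace Cfsg.Agent.LeechOutTool

open Cfsg Cfsg.Agent.GolayBasic Cfsg.Agent.LeechBasic Cfsg.Agent.LeechAut
open Cfsg.Agent.LeechOrbit Cfsg.Agent.LeechCert
open Cfsg.Agent.LeechFreeInvolution (frameCodes frameCodes_spec)
open Cfsg.Agent.GolayPerm (good pts mem_pts pimg pimg_lt permOf permOf_mem_M24 permOf_apply valid_of_good pfun)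

open Classical in
/-- The element of a word. -/
noncomputable def El (w : List Step) : Co0 :=
  if h : wordValid w = true then (exists_word h).choose else 1

theorem El_smul {w : List Step} (h : wordValid w = true) (v : leechLattice) (n : ℕ)
    (hv : sqNorm (v : GolayPt → ℤ) ≤ 80) (hn : (v : GolayPt → ℤ) = vec n) :
    ((El w • v : leechLattice) : GolayPt → ℤ) = vec (applyWord w n) := by
  rw [El, dif_pos h]
  exact (exists_word h).choose_spec v n hv hn

theorem frame_code (i : GolayPt) :
    ((frame i : leechLattice) : GolayPt → ℤ) = vec (frameCodes.getD (idx i) 0) :=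
  (frameCodes_spec i).symm

theorem El_frame {w : List Step} (h : wordValid w = true) (i : GolayPt) :
    ((El w • frame i : leechLattice) : GolayPt → ℤ) = vec (applyWord w (frameCodes.getD (idx i) 0)) :=
  El_smul h _ _ (by rw [sqNorm_frame]; norm_num) (frame_code i)

theorem wordValid_append {a b : List Step} :
    wordValid (a ++ b) = (wordValid a && wordValid b) := List.all_append

theorem applyWord_append : ∀ (a b : List Step) (n : ℕ), applyWord (a ++ b) n = applyWord b (applyWord a n)
  | [], _, _ => rfl
  | s :: a, b, n => by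
    show applyWord (a ++ b) (applyStep n s) = _
    rw [applyWord_append a b]
    rfl

theorem El_nil : El [] = 1 :=
  ext_frame fun i => Subtype.ext (by rw [El_frame rfl, one_smul, frame_code]; rfl)

theorem El_append {a b : List Step} (ha : wordValid a = true) (hb : wordValid b = true) :
    El (a ++ b) = El b * El a :=
  ext_frame fun i => Subtype.ext (by
    rw [El_frame (by rw [wordValid_append, ha, hb]; rfl), applyWord_append, mul_smul,
      El_smul hb _ _ (by rw [sqNorm_smul, sqNorm_frame]; norm_num) (El_frame ha i)])

theorem valid_replicate {w : List Step} (h : wordValid w = true) :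
    ∀ n, wordValid (List.replicate n w).flatten = true
  | 0 => rfl
  | n + 1 => by rw [List.replicate_succ, List.flatten_cons, wordValid_append, h, valid_replicate h n]; rfl

theorem El_replicate {w : List Step} (h : wordValid w = true) :
    ∀ n, El (List.replicate n w).flatten = El w ^ n
  | 0 => El_nil
  | n + 1 => by
    rw [List.replicate_succ, List.flatten_cons, El_append h (valid_replicate h n), El_replicate h n, pow_succ]

/-- The word as a power. -/
def rep (n : ℕ) (w : List Step) : List Step := (List.replicate n w).flatten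

/-- Two words give the same automorphism. -/
noncomputable def eqOK (a b : List Step) : Bool :=
  wordValid a && wordValid b && frameCodes.all fun c => applyWord a c == applyWord b c

theorem frame_mem_codes (i : GolayPt) : frameCodes.getD (idx i) 0 ∈ frameCodes := by
  have h : idx i < frameCodes.length := idx_lt i
  rw [List.getD_eq_getElem _ _ h]
  exact List.getElem_mem h

theorem El_eq {a b : List Step} (h : eqOK a b = true) : El a = El b := by
  simp only [eqOK, Bool.and_eq_true, List.all_eq_true, beq_iff_eq] at h
  exact ext_frame fun i => Subtype.ext (by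
    rw [El_frame h.1.1, El_frame h.1.2, h.2 _ (frame_mem_codes i)])

/-- A word moves nothing at the encoded vector. -/
noncomputable def fixB (w : List Step) (n : ℕ) : Bool :=
  force (applyWord w n) fun u => pts.all fun q => dig u q == dig n q

theorem fixB_of_smul {w : List Step} (hw : wordValid w = true) {n : ℕ} {v : leechLattice}
    (hv : sqNorm (v : GolayPt → ℤ) ≤ 80) (hn : (v : GolayPt → ℤ) = vec n) (h : El w • v = v) :
    fixB w n = true := by
  simp only [fixB, force_eq, List.all_eq_true, beq_iff_eq]
  intro q hq
  have e := El_smul hw v n hv hn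
  rw [h, hn] at e
  have := congrFun e (pt q)
  rw [vec_pt _ (mem_pts.1 hq), vec_pt _ (mem_pts.1 hq)] at this
  exact this.symm

theorem eqOK_valid {a b : List Step} (h : eqOK a b = true) : wordValid a = true ∧ wordValid b = true := by
  simp only [eqOK, Bool.and_eq_true] at h
  exact h.1

/-- Two words give different automorphisms: some frame vector has different images. -/
noncomputable def neOK (a b : List Step) : Bool :=
  wordValid a && wordValid b && frameCodes.any fun c =>
    force (applyWord a c) fun u => force (applyWord b c) fun v => pts.any fun q => !(dig u q == dig v q)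

theorem El_ne {a b : List Step} (h : neOK a b = true) : El a ≠ El b := by
  simp only [neOK, force_eq, Bool.and_eq_true, List.any_eq_true, Bool.not_eq_true', beq_eq_false_iff_ne] at h
  obtain ⟨⟨ha, hb⟩, c, hc, q, hq, hne⟩ := h
  intro e
  obtain ⟨i, hi, rfl⟩ := List.getElem_of_mem hc
  have hi' : i < 24 := hi
  have h1 := El_frame ha (pt i)
  rw [e, El_frame hb (pt i), idx_pt hi', List.getD_eq_getElem _ _ hi] at h1
  have h2 := congrFun h1 (pt q)
  rw [vec_pt _ (mem_pts.1 hq), vec_pt _ (mem_pts.1 hq)] at h2
  exact hne h2.symm

/-- A word fixes an encoded short vector. -/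
noncomputable def fixes (w : List Step) (n : ℕ) : Bool :=
  wordValid w && smallVec n && (applyWord w n == n)

theorem El_fixes {w : List Step} {n : ℕ} (h : fixes w n = true) {v : leechLattice}
    (hn : (v : GolayPt → ℤ) = vec n) : El w • v = v := by
  simp only [fixes, smallVec, Bool.and_eq_true, decide_eq_true_eq, beq_iff_eq, ← sqNorm_vec] at h
  exact Subtype.ext (by rw [El_smul h.1.1 v n (by rw [hn]; exact h.1.2) hn, h.2, hn])

/-- A word is a given monomial map. -/
noncomputable def monoOK' (w : List Step) (P m : ℕ) : Bool :=
  wordValid w && good P && inCode m && pts.all fun i =>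
    force (applyWord w (frameCodes.getD i 0)) fun u => pts.all fun q => dig u q == if q == pimg P i then (if m.testBit q then -8 else 8) else 0

theorem El_mono {w : List Step} {P m : ℕ} (h : monoOK' w P m = true) (hP : permOf P ∈ M24)
    (hm : mset m ∈ supports (golayCode : Set (GolayPt → ZMod 2))) :
    El w = monomial (permOf P) hP (mset m) hm := by
  simp only [monoOK', force_eq, Bool.and_eq_true, List.all_eq_true, beq_iff_eq] at h
  obtain ⟨⟨⟨hw, hg⟩, -⟩, h⟩ := h
  refine ext_frame fun i => Subtype.ext ?_
  rw [El_frame hw, coe_monomial_smul]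
  funext p
  have hv := valid_of_good hg
  have h1 := h (idx i) (mem_pts.2 (idx_lt i)) (idx p) (mem_pts.2 (idx_lt p))
  show dig _ (idx p) = _
  rw [h1]
  have hiff : (idx p = pimg P (idx i)) ↔ (permOf P).symm p = i := by
    rw [Equiv.symm_apply_eq, permOf_apply hv, pfun]
    constructor
    · intro e; rw [← e, pt_idx]
    · intro e; rw [e, idx_pt (pimg_lt hv (idx_lt i))]
  simp only [signedPerm, mem_mset]
  change _ = if _ then -(unitVec 8 i ((permOf P).symm p)) else unitVec 8 i ((permOf P).symm p)
  simp only [unitVec, hiff]
  split_ifs <;> simp_all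

theorem monoOK'_mem {w : List Step} {P m : ℕ} (h : monoOK' w P m = true) :
    permOf P ∈ M24 ∧ mset m ∈ supports (golayCode : Set (GolayPt → ZMod 2)) := by
  simp only [monoOK', Bool.and_eq_true] at h
  exact ⟨permOf_mem_M24 h.1.1.2, (mset_mem_supports (inCode_lt h.1.2)).2 h.1.2⟩

/-! ### products along lists of indices -/

/-- The word of a list of indices. -/
def expand (W : List (List Step)) : List ℕ → List Step
  | [] => []
  | i :: l => W.getD i [] ++ expand W l

/-- The product along a list of indices, last factor first. -/
def ev {G : Type*} [Monoid G] (g : List G) : List ℕ → G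
  | [] => 1
  | i :: l => ev g l * g.getD i 1

theorem map_ev {G H : Type*} [Monoid G] [Monoid H] (f : G →* H) (g : List G) :
    ∀ l, f (ev g l) = ev (g.map f) l
  | [] => map_one f
  | i :: l => by
    rw [ev, ev, map_mul, map_ev f g l]
    congr 1
    rw [← map_one f, List.getD_map]

theorem valid_getD {W : List (List Step)} (hW : ∀ w ∈ W, wordValid w = true) (i : ℕ) :
    wordValid (W.getD i []) = true := by
  rcases lt_or_ge i W.length with h | h
  · rw [List.getD_eq_getElem _ _ h]; exact hW _ (List.getElem_mem h)
  · rw [List.getD_eq_default _ _ h]; rfl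

theorem valid_expand {W : List (List Step)} (hW : ∀ w ∈ W, wordValid w = true) :
    ∀ l, wordValid (expand W l) = true
  | [] => rfl
  | i :: l => by rw [expand, wordValid_append, valid_getD hW, valid_expand hW l]; rfl

theorem El_expand {W : List (List Step)} (hW : ∀ w ∈ W, wordValid w = true) :
    ∀ l, El (expand W l) = ev (W.map El) l
  | [] => El_nil
  | i :: l => by
    rw [expand, ev, El_append (valid_getD hW i) (valid_expand hW l), El_expand hW l]
    congr 1
    rcases lt_or_ge i W.length with h | h
    · rw [List.getD_eq_getElem _ _ h, List.getD_eq_getElem _ _ (by simpa using h)]; simp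
    · rw [List.getD_eq_default _ _ h, List.getD_eq_default _ _ (by simpa using h), El_nil]

theorem ev_mem {G : Type*} [Group G] {K : Subgroup G} {g : List G} (h : ∀ x ∈ g, x ∈ K) :
    ∀ l, ev g l ∈ K
  | [] => one_mem K
  | i :: l => mul_mem (ev_mem h l) (by
      rcases lt_or_ge i g.length with hi | hi
      · rw [List.getD_eq_getElem _ _ hi]; exact h _ (List.getElem_mem hi)
      · rw [List.getD_eq_default _ _ hi]; exact one_mem K)

theorem expand_mem {K : Subgroup Co0} {W : List (List Step)} (hW : ∀ w ∈ W, wordValid w = true)
    (h : ∀ w ∈ W, El w ∈ K) (l : List ℕ) : El (expand W l) ∈ K := by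
  rw [El_expand hW]
  exact ev_mem (by simpa using h) l

/-! ### orbits in a subgroup -/

/-- Images under selected generators, layer by layer. -/
noncomputable def orbitOK (W : List (List Step)) (root B : ℕ) (scripts : List ℕ) (count : ℕ) : Bool :=
  W.all wordValid && smallVec root && ascCount 0 (msort (orbitList W B scripts [root])) count

section Orbit

variable {K : Subgroup Co0} {W : List (List Step)} {r : leechLattice}

/-- A code is in the orbit. -/
def InK (K : Subgroup Co0) (r : leechLattice) (c : ℕ) : Prop :=
  ∃ g ∈ K, ((g • r : leechLattice) : GolayPt → ℤ) = vec c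

theorem inK_child (hW : ∀ w ∈ W, wordValid w = true) (hK : ∀ w ∈ W, El w ∈ K)
    (hr : sqNorm (r : GolayPt → ℤ) ≤ 80) : ∀ (ws : List (List Step)), (∀ w ∈ ws, w ∈ W) → ∀ (m p : ℕ),
      InK K r p → ∀ c ∈ childrenOf ws m p, InK K r c := by
  intro ws
  induction ws with
  | nil => intro _ m p _ c hc; simp [childrenOf] at hc
  | cons w ws ih =>
    intro hws m p hp c hc
    have hrest := ih (fun w' hw' => hws w' (List.mem_cons_of_mem _ hw')) (m / 2) p hp
    simp only [childrenOf] at hc
    split_ifs at hc with h
    · rcases List.mem_cons.mp hc with rfl | hc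
      · obtain ⟨g, hg, hgp⟩ := hp
        have hw := hws w List.mem_cons_self
        exact ⟨El w * g, mul_mem (hK w hw) hg,
          by rw [mul_smul]; exact El_smul (hW w hw) _ _ (by rw [sqNorm_smul]; exact hr) hgp⟩
      · exact hrest c hc
    · exact hrest c hc

theorem inK_next (hW : ∀ w ∈ W, wordValid w = true) (hK : ∀ w ∈ W, El w ∈ K)
    (hr : sqNorm (r : GolayPt → ℤ) ≤ 80) (B : ℕ) : ∀ (ps : List ℕ) (S : ℕ),
      (∀ p ∈ ps, InK K r p) → ∀ c ∈ nextLayer W B ps S, InK K r c
  | [], S, _, c, hc => by simp [nextLayer] at hc
  | p :: ps, S, hps, c, hc => by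
    rcases List.mem_append.mp hc with hc | hc
    · exact inK_child hW hK hr W (fun _ h => h) _ p (hps p List.mem_cons_self) c hc
    · exact inK_next hW hK hr B ps _ (fun q hq => hps q (List.mem_cons_of_mem _ hq)) c hc

theorem inK_list (hW : ∀ w ∈ W, wordValid w = true) (hK : ∀ w ∈ W, El w ∈ K)
    (hr : sqNorm (r : GolayPt → ℤ) ≤ 80) (B : ℕ) : ∀ (Ss layer : List ℕ),
      (∀ p ∈ layer, InK K r p) → ∀ c ∈ orbitList W B Ss layer, InK K r c
  | [], layer, hl, c, hc => hl c hc
  | S :: Ss, layer, hl, c, hc => by
    rcases List.mem_append.mp hc with hc | hc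
    · exact hl c hc
    · exact inK_list hW hK hr B Ss _ (inK_next hW hK hr B layer S hl) c hc

/-- An orbit certificate and a subgroup of the point stabiliser bound the order from below. -/
theorem card_ge (hK : ∀ w ∈ W, El w ∈ K) {root B count : ℕ} {scripts : List ℕ}
    (h : orbitOK W root B scripts count = true) (hr : (r : GolayPt → ℤ) = vec root)
    {A : Subgroup Co0} (hA : A ≤ K) (hAr : A ≤ MulAction.stabilizer Co0 r) :
    count * Nat.card A ≤ Nat.card K := by
  haveI := LeechOrder.finite_Co0
  simp only [orbitOK, smallVec, Bool.and_eq_true, List.all_eq_true, decide_eq_true_eq, ← sqNorm_vec] at h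
  obtain ⟨⟨hW, hsm⟩, hasc⟩ := h
  obtain ⟨hlen, -, hnd, hbnd⟩ := ascCount_spec _ _ _ hasc
  have hmem : ∀ c ∈ orbitList W B scripts [root], InK K r c := inK_list hW hK (by rw [hr]; exact hsm) B scripts [root]
    fun p hp => by
      rw [List.mem_singleton] at hp; subst hp
      exact ⟨1, one_mem K, by rw [one_smul]; exact hr⟩
  set L := msort (orbitList W B scripts [root]) with hL
  have hin : ∀ c ∈ L, InK K r c := fun c hc => hmem c (mem_msort hc)
  choose g hg hgv using hin
  haveI : Finite (MulAction.orbit K r) := (Set.finite_range _).to_subtype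
  have horb : L.length ≤ (MulAction.orbit K r).ncard := by
    rw [← List.toFinset_card_of_nodup hnd, ← Fintype.card_coe L.toFinset, ← Nat.card_eq_fintype_card,
      ← Nat.card_coe_set_eq]
    refine Nat.card_le_card_of_injective (fun c : L.toFinset => (⟨g c.1 (List.mem_toFinset.1 c.2) • r,
      ⟨⟨_, hg c.1 (List.mem_toFinset.1 c.2)⟩, rfl⟩⟩ : MulAction.orbit K r)) fun c d e => ?_
    have e' := congrArg (fun v : MulAction.orbit K r => ((v.1 : leechLattice) : GolayPt → ℤ)) e
    simp only [hgv] at e'
    exact Subtype.ext (eq_of_vec_eq (hbnd _ (List.mem_toFinset.1 c.2)).2 (hbnd _ (List.mem_toFinset.1 d.2)).2 e')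
  have hst : Nat.card A ≤ Nat.card (MulAction.stabilizer K r) :=
    Nat.card_le_card_of_injective (fun a : A => (⟨⟨a.1, hA a.2⟩, hAr a.2⟩ : MulAction.stabilizer K r))
      fun a b e => Subtype.ext (congrArg (fun z : MulAction.stabilizer K r => z.1.1) e)
  rw [← (MulAction.stabilizer K r).card_mul_index, MulAction.index_stabilizer, ← hlen, mul_comm (Nat.card _)]
  exact Nat.mul_le_mul horb hst

end Orbit

/-- A subgroup of a simple group that is too large is everything. -/
theorem eq_top_of_bound {G : Type*} [Group G] [Finite G] [IsSimpleGroup G] {p : ℕ} (hp : p.Prime)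
    (hdvd : p ∣ Nat.card G) {K : Subgroup G} {b : ℕ} (hb : b ≤ Nat.card K) (hlt : Nat.card G < p * b) :
    K = ⊤ := by
  by_contra hne
  have hcore : K.normalCore = ⊥ :=
    (K.normalCore_normal.eq_bot_or_eq_top).resolve_right fun h => hne (top_le_iff.1 (h ▸ K.normalCore_le))
  have hinj : Function.Injective (MulAction.toPermHom G (G ⧸ K)) := by
    rw [← MonoidHom.ker_eq_bot_iff, ← Subgroup.normalCore_eq_ker, hcore]
  have hd : p ∣ Nat.card (Equiv.Perm (G ⧸ K)) := hdvd.trans (Subgroup.card_dvd_of_injective _ hinj)
  rw [Nat.card_perm, hp.dvd_factorial] at hd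
  have hi : p ≤ K.index := hd
  have := K.card_mul_index
  have h2 : b * p ≤ Nat.card K * K.index := Nat.mul_le_mul hb hi
  rw [this, mul_comm] at h2
  omega

end Cfsg.Agent.LeechOutTool
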