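import Cfsg.Agent.Lib.LeechFischer17Data
import Cfsg.Agent.Lib.LeechOutTool
import Cfsg.Agent.Lib.LeechMod2
import Cfsg.Agent.Lib.PermImageCert

/-!
The fixed lattice of a permutation `u` of cycle type `1^6 3^6` modulo twice itself has `2^12` classes,
each with a checked representative of norm at most 64; the centraliser of `u` in `Co0` acts on them.
-/

set_option autoImplicit false

open scoped Pointwise

namespace Cfsg.Agent.LeechFischer17

open Cfsg Cfsg.Agent.GolayBasic Cfsg.Agent.LeechBasic Cfsg.Agent.LeechAut Cfsg.Agent.LeechXi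
open Cfsg.Agent.LeechCert Cfsg.Agent.LeechOutTool Cfsg.Agent.LeechIndex Cfsg.Agent.LeechOrbit
open Cfsg.Agent.GolayPerm (pts mem_pts)

/-- The automorphism given by the permutation. -/
noncomputable def uC : Co0 := El [uStep]

theorem uStep_valid : wordValid [uStep] = true := by decide +kernel

/-- Its centraliser. -/
noncomputable def W : Subgroup Co0 := Subgroup.centralizer ({uC} : Set Co0)

theorem mem_W {g : Co0} : g ∈ W ↔ g * uC = uC * g := Subgroup.mem_centralizer_singleton_iff

theorem uC_mem_W : uC ∈ W := mem_W.mpr rfl

theorem uC_pow : uC ^ 3 = 1 := by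
  rw [uC, ← El_replicate uStep_valid, ← El_nil]
  exact El_eq (by decide +kernel)

theorem uC_ne_one : uC ≠ 1 := by
  intro h
  have h0 := El_frame uStep_valid (pt 0)
  rw [show El [uStep] = 1 from h, one_smul, frame_code] at h0
  have h1 := congrFun h0 (pt 0)
  revert h1
  decide +kernel

/-- The trace `x + ux + u²x`. -/
noncomputable def tr (x : leechLattice) : leechLattice := x + uC • x + uC • uC • x

theorem tr_fixed {x : leechLattice} (h : uC • x = x) :
    (tr x : GolayPt → ℤ) - (x : GolayPt → ℤ) ∈ twiceLeech := by
  rw [tr, h, h]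
  refine mem_twiceLeech.mpr ⟨x, x.2, ?_⟩
  rw [AddSubgroup.coe_add, AddSubgroup.coe_add, two_nsmul]
  abel

/-! ### The checker -/

/-- The fields of a difference of three encoded vectors, shifted by 128. -/
def dfld (n m k i : ℕ) : ℕ :=
  Nat.sub (Nat.add (dg n (5 * i)) 144) (Nat.add (dg m (5 * i)) (dg k (5 * i)))

/-- The vector given by fields shifted by 128 is twice a lattice vector. -/
noncomputable def twiceOK (D : ℕ → ℕ) : Bool :=
  pts.all (fun i => D i % 2 == 0 && D i / 2 % 2 == D 23 / 2 % 2) &&
  (pts.map fun i => D i / 2).sum % 8 == 4 * (D 23 / 2 % 2) &&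
  inCode (Nat.ofBits fun i : Fin 24 => D i.val / 4 % 2 == 1)

/-- The encoded vector `n` is congruent to `m + k` modulo twice the lattice. -/
noncomputable def congOK (n m k : ℕ) : Bool := twiceOK (dfld n m k)

theorem sum_pts (f : GolayPt → ℤ) : (pts.map fun i => f (pt i)).sum = ∑ p, f p := by
  rw [show pts = List.range 24 from rfl, ← List.sum_toFinset _ List.nodup_range, List.toFinset_range,
    Finset.sum_range]
  exact (Finset.sum_equiv idxEquiv (fun _ => by simp) fun p _ => by
    show f p = f (pt (idx p)); rw [pt_idx]).symm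

theorem twiceOK_spec {D : ℕ → ℕ} {z : GolayPt → ℤ} (h : twiceOK D = true)
    (hD : ∀ p, (D (idx p) : ℤ) = z p + 128) : z ∈ twiceLeech := by
  simp only [twiceOK, Bool.and_eq_true, List.all_eq_true, beq_iff_eq] at h
  obtain ⟨⟨hall, hsum⟩, hcode⟩ := h
  set y : GolayPt → ℤ := fun p => (D (idx p) : ℤ) / 2 - 64 with hy
  refine mem_twiceLeech.mpr ⟨y, isL_iff.mp ?_, ?_⟩
  · have h23 : idx none = 23 := rfl
    simp only [isL, Bool.and_eq_true, decide_eq_true_eq]
    refine ⟨⟨fun p => ?_, ?_⟩, ?_⟩
    · have := (hall _ (mem_pts.2 (idx_lt p))).2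
      simp only [hy, h23]
      omega
    · have e : (∑ p, y p) = ((pts.map fun i => D i / 2).sum : ℕ) - 1536 := by
        rw [← sum_pts]
        have : ∀ l : List ℕ, (∀ i ∈ l, i < 24) → (l.map fun i => y (pt i)).sum =
            ((l.map fun i => D i / 2).sum : ℕ) - 64 * (l.length : ℤ) := by
          intro l hl
          induction l with
          | nil => rfl
          | cons a l ih =>
            rw [List.map_cons, List.sum_cons, ih fun i hi => hl i (List.mem_cons_of_mem _ hi), List.map_cons,
              List.sum_cons, List.length_cons]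
            simp only [hy, idx_pt (hl a List.mem_cons_self)]
            push_cast
            ring
        rw [this _ fun i hi => mem_pts.1 hi]
        rfl
      rw [e]
      simp only [hy, h23]
      omega
    · refine Eq.trans (congrArg inCode ?_) hcode
      rw [wmask]
      refine congrArg Nat.ofBits (funext fun i => Bool.eq_iff_iff.mpr ?_)
      rw [decide_eq_true_eq, wbit_ne_zero_iff, beq_iff_eq]
      simp only [hy, idx_pt i.2]
      omega
  · funext p
    have h1 := hD p
    have h2 := (hall _ (mem_pts.2 (idx_lt p))).1
    simp only [Pi.smul_apply, nsmul_eq_mul, hy, Nat.cast_ofNat]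
    omega

theorem congOK_spec {n m k : ℕ} (h : congOK n m k = true) :
    vec n - vec m - vec k ∈ twiceLeech :=
  twiceOK_spec h fun p => by
    have h1 := dg_lt n (5 * idx p)
    have h2 := dg_lt m (5 * idx p)
    have h3 := dg_lt k (5 * idx p)
    simp only [Pi.sub_apply, vec, dig_eq_dg, dfld, Nat.add_eq, Nat.sub_eq]
    omega

/-! ### Representatives -/

/-- The code of the representative of a class. -/
def rd (c : ℕ) : ℕ := (reps.getD (c / 64) []).getD (c % 64) 0

/-- The vector of a class. -/
def rv (c : ℕ) : GolayPt → ℤ := vec (rd c)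

/-- The combination of the twelve fixed vectors. -/
def comb (c : ℕ) : GolayPt → ℤ :=
  ∑ j ∈ Finset.range 12, if c.testBit j then vec (basisF.getD j 0) else 0

theorem basisF_ok : basisF.all (fun n => smallVec n && isL (vec n) && applyStep n uStep == n) = true := by
  decide +kernel

theorem vec_basisF_mem {j : ℕ} (hj : j < 12) : vec (basisF.getD j 0) ∈ leechLattice := by
  have h := List.all_eq_true.mp basisF_ok (basisF.getD j 0) (by
    rw [List.getD_eq_getElem _ _ (show j < basisF.length from hj)]; exact List.getElem_mem _)
  simp only [Bool.and_eq_true] at h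
  exact isL_iff.mp h.1.2

theorem comb_mem (c : ℕ) : comb c ∈ leechLattice :=
  sum_mem fun j hj => by
    split_ifs
    · exact vec_basisF_mem (Finset.mem_range.mp hj)
    · exact zero_mem _

/-- The checker for 256 consecutive classes. -/
noncomputable def rdPart (j q : ℕ) : Bool := PermImageCert.allBelow (fun c =>
  congOK (rd (2 ^ j + (256 * q + c))) (rd (256 * q + c)) (basisF.getD j 0)) 256

theorem rd_small : (List.range 8).all (fun j => PermImageCert.allBelow (fun c =>
    congOK (rd (2 ^ j + c)) (rd c) (basisF.getD j 0)) (2 ^ j)) = true := by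
  decide +kernel

theorem rdPart_8_0 : rdPart 8 0 = true := by decide +kernel

theorem rdPart_9_0 : rdPart 9 0 = true := by decide +kernel

theorem rdPart_9_1 : rdPart 9 1 = true := by decide +kernel

theorem rdPart_10_0 : rdPart 10 0 = true := by decide +kernel

theorem rdPart_10_1 : rdPart 10 1 = true := by decide +kernel

theorem rdPart_10_2 : rdPart 10 2 = true := by decide +kernel

theorem rdPart_10_3 : rdPart 10 3 = true := by decide +kernel

theorem rdPart_11_0 : rdPart 11 0 = true := by decide +kernel

theorem rdPart_11_1 : rdPart 11 1 = true := by decide +kernel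

theorem rdPart_11_2 : rdPart 11 2 = true := by decide +kernel

theorem rdPart_11_3 : rdPart 11 3 = true := by decide +kernel

theorem rdPart_11_4 : rdPart 11 4 = true := by decide +kernel

theorem rdPart_11_5 : rdPart 11 5 = true := by decide +kernel

theorem rdPart_11_6 : rdPart 11 6 = true := by decide +kernel

theorem rdPart_11_7 : rdPart 11 7 = true := by decide +kernel

theorem allBelow_of {f : ℕ → Bool} : ∀ {n : ℕ}, (∀ k < n, f k = true) → PermImageCert.allBelow f n = true
  | 0, _ => rfl
  | n + 1, h => by
    show (f n && PermImageCert.allBelow f n) = true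
    rw [h n n.lt_succ_self, allBelow_of fun k hk => h k (Nat.lt_succ_of_lt hk)]
    rfl

theorem rdPart_all {j q : ℕ} (hj : 8 ≤ j) (hj' : j < 12) (hq : q < 2 ^ (j - 8)) : rdPart j q = true := by
  interval_cases j
  · replace hq : q < 1 := by simpa using hq
    interval_cases q
    · exact rdPart_8_0
  · replace hq : q < 2 := by simpa using hq
    interval_cases q
    · exact rdPart_9_0
    · exact rdPart_9_1
  · replace hq : q < 4 := by simpa using hq
    interval_cases q
    · exact rdPart_10_0
    · exact rdPart_10_1
    · exact rdPart_10_2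
    · exact rdPart_10_3
  · replace hq : q < 8 := by simpa using hq
    interval_cases q
    · exact rdPart_11_0
    · exact rdPart_11_1
    · exact rdPart_11_2
    · exact rdPart_11_3
    · exact rdPart_11_4
    · exact rdPart_11_5
    · exact rdPart_11_6
    · exact rdPart_11_7

theorem rd_all : (List.range 12).all (fun j => PermImageCert.allBelow (fun c =>
    congOK (rd (2 ^ j + c)) (rd c) (basisF.getD j 0)) (2 ^ j)) = true := by
  refine List.all_eq_true.mpr fun j hj => ?_
  rw [List.mem_range] at hj
  rcases Nat.lt_or_ge j 8 with h8 | h8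
  · exact List.all_eq_true.mp rd_small j (List.mem_range.mpr h8)
  refine allBelow_of fun c hc => ?_
  have e : 2 ^ j = 2 ^ (j - 8) * 256 := by
    rw [show (256 : ℕ) = 2 ^ 8 from rfl, ← pow_add, Nat.sub_add_cancel h8]
  have hq : c / 256 < 2 ^ (j - 8) := Nat.div_lt_of_lt_mul (by rw [mul_comm, ← e]; exact hc)
  have h := PermImageCert.allBelow_spec (rdPart_all h8 hj hq) (c % 256) (Nat.mod_lt _ (by norm_num))
  simpa only [Nat.div_add_mod] using h

end Cfsg.Agent.LeechFischer17
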