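import Cfsg.Agent.Lib.LeechFischer17Base

/-!
The classes modulo twice the lattice of the fixed vectors of `u` are those of the `2^12`
representatives, and the centraliser of `u` permutes them.
-/

set_option autoImplicit false

open scoped Pointwise

namespace Cfsg.Agent.LeechFischer17

open Cfsg Cfsg.Agent.GolayBasic Cfsg.Agent.LeechBasic Cfsg.Agent.LeechAut Cfsg.Agent.LeechXi
open Cfsg.Agent.LeechCert Cfsg.Agent.LeechOutTool Cfsg.Agent.LeechIndex Cfsg.Agent.LeechOrbit
open Cfsg.Agent.GolayPerm (pts mem_pts)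

theorem two_nsmul_mem {x : GolayPt → ℤ} (hx : x ∈ leechLattice) : 2 • x ∈ twiceLeech :=
  mem_twiceLeech.mpr ⟨x, hx, rfl⟩

theorem twice_le {x : GolayPt → ℤ} (hx : x ∈ twiceLeech) : x ∈ leechLattice := by
  obtain ⟨y, hy, rfl⟩ := mem_twiceLeech.mp hx
  exact nsmul_mem hy 2

theorem comb_two_pow_add {j c : ℕ} (hj : j < 12) (hc : c < 2 ^ j) :
    comb (2 ^ j + c) = comb c + vec (basisF.getD j 0) := by
  have hlow : c.testBit j = false := Nat.testBit_lt_two_pow hc
  rw [comb, comb, ← Finset.add_sum_erase _ _ (Finset.mem_range.mpr hj),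
    ← Finset.add_sum_erase _ (fun i => if c.testBit i then vec (basisF.getD i 0) else 0)
      (Finset.mem_range.mpr hj), Nat.testBit_two_pow_add_eq, hlow]
  simp only [Bool.not_false, if_true, Bool.false_eq_true, if_false, zero_add]
  rw [add_comm]
  congr 1
  refine Finset.sum_congr rfl fun i hi => ?_
  have hne := (Finset.mem_erase.mp hi).1
  congr 1
  rcases Nat.lt_or_gt_of_ne hne with h | h
  · rw [Nat.testBit_two_pow_add_gt h]
  · rw [Nat.testBit_lt_two_pow (x := c) (lt_trans hc (Nat.pow_lt_pow_right (by norm_num) h)),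
      Nat.testBit_lt_two_pow (x := 2 ^ j + c) (by
        have h2 : 2 ^ (j + 1) ≤ 2 ^ i := Nat.pow_le_pow_right (by norm_num) h
        rw [pow_succ] at h2
        omega)]

theorem comb_xor (a b : ℕ) : comb (a ^^^ b) - comb a - comb b ∈ twiceLeech := by
  rw [comb, comb, comb, ← Finset.sum_sub_distrib, ← Finset.sum_sub_distrib]
  refine sum_mem fun j hj => ?_
  rw [Nat.testBit_xor]
  have h2 := two_nsmul_mem (neg_mem (vec_basisF_mem (Finset.mem_range.mp hj)))
  cases a.testBit j <;> cases b.testBit j <;>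
    simp only [bne_self_eq_false, Bool.false_bne, Bool.bne_false, if_true, Bool.false_eq_true, if_false]
  · simp
  · simp
  · simp
  · convert h2 using 1
    rw [two_nsmul]; abel

theorem comb_zero : comb 0 = 0 := by simp [comb]

/-- The squared norm of an encoded vector as a natural number. -/
def nrm (n : ℕ) : ℕ :=
  (pts.map fun i => (dg n (5 * i) - 16) * (dg n (5 * i) - 16) + (16 - dg n (5 * i)) * (16 - dg n (5 * i))).sum

theorem nrm_eq (n : ℕ) : sqNorm (vec n) = nrm n := by
  rw [sqNorm_vec, nrm]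
  induction pts with
  | nil => rfl
  | cons a l ih =>
    simp only [List.map_cons, List.sum_cons, Nat.cast_add, ih]
    congr 1
    rw [dig_eq_dg]
    rcases le_total (dg n (5 * a)) 16 with h | h
    · rw [Nat.sub_eq_zero_of_le h]; push_cast [h]; ring
    · rw [Nat.sub_eq_zero_of_le h]; push_cast [h]; ring

theorem reps_ok : PermImageCert.allBelow (fun c =>
    applyStep (rd c) uStep == rd c && decide (nrm (rd c) ≤ 64) && (decide (0 < nrm (rd c)) || c == 0)) 4096 =
      true := by
  decide +kernel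

theorem rv_zero : rv 0 = 0 := by funext p; revert p; decide +kernel

theorem rv_congr : ∀ c < 4096, rv c - comb c ∈ twiceLeech := by
  intro c
  induction c using Nat.strong_induction_on with
  | _ c ih =>
    intro hc
    rcases Nat.eq_zero_or_pos c with rfl | hpos
    · rw [rv_zero, comb_zero, sub_zero]; exact zero_mem _
    obtain ⟨j, hj⟩ : ∃ j, j = Nat.log 2 c := ⟨_, rfl⟩
    have h1 : 2 ^ j ≤ c := hj ▸ Nat.pow_log_le_self 2 hpos.ne'
    have h2 : c < 2 ^ (j + 1) := hj ▸ Nat.lt_pow_succ_log_self (by norm_num) c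
    obtain ⟨d, rfl⟩ := Nat.exists_eq_add_of_le h1
    have hd : d < 2 ^ j := by rw [pow_succ] at h2; omega
    have hj12 : j < 12 := by
      by_contra hh
      have : 2 ^ 12 ≤ 2 ^ j := Nat.pow_le_pow_right (by norm_num) (by omega)
      omega
    have h3 : congOK (rd (2 ^ j + d)) (rd d) (basisF.getD j 0) = true :=
      PermImageCert.allBelow_spec (List.all_eq_true.mp rd_all j (List.mem_range.mpr hj12)) d hd
    have h4 := ih d (by have := Nat.two_pow_pos j; omega) (by omega)
    rw [comb_two_pow_add hj12 hd]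
    have := add_mem (congOK_spec h3) h4
    convert this using 1
    simp only [rv]
    abel

theorem sqNorm_rv_le {c : ℕ} (hc : c < 4096) : sqNorm (rv c) ≤ 64 := by
  have h := PermImageCert.allBelow_spec reps_ok c hc
  simp only [Bool.and_eq_true, decide_eq_true_eq] at h
  rw [rv, nrm_eq]
  exact_mod_cast h.1.2

theorem rv_mem {c : ℕ} (hc : c < 4096) : rv c ∈ leechLattice := by
  have := add_mem (twice_le (rv_congr c hc)) (comb_mem c)
  rwa [sub_add_cancel] at this

theorem xor_lt {a b : ℕ} (ha : a < 4096) (hb : b < 4096) : a ^^^ b < 4096 :=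
  Nat.xor_lt_two_pow (n := 12) ha hb

theorem rv_inj {c d : ℕ} (hc : c < 4096) (hd : d < 4096) (h : rv c - rv d ∈ twiceLeech) : c = d := by
  have hx := xor_lt hc hd
  have h1 : rv (c ^^^ d) ∈ twiceLeech := by
    have h2 := add_mem (add_mem (rv_congr _ hx) (comb_xor c d)) h
    have h3 := sub_mem (sub_mem h2 (rv_congr c hc)) (neg_mem (rv_congr d hd))
    have h4 := add_mem h3 (two_nsmul_mem (comb_mem d))
    convert h4 using 1
    rw [two_nsmul]; abel
  have h5 := LeechMod2.eq_zero_of_mem_twice h1 (sqNorm_rv_le hx)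
  have h := PermImageCert.allBelow_spec reps_ok _ hx
  simp only [Bool.and_eq_true, Bool.or_eq_true, decide_eq_true_eq, beq_iff_eq] at h
  rcases h.2 with h' | h'
  · have h6 := nrm_eq (rd (c ^^^ d))
    rw [show vec (rd (c ^^^ d)) = 0 from h5,
      show sqNorm (0 : GolayPt → ℤ) = 0 from Finset.sum_eq_zero fun _ _ => rfl] at h6
    omega
  · exact Nat.xor_eq_zero_iff.mp h'

/-- The representative as a lattice vector. -/
noncomputable def rvL (c : Fin 4096) : leechLattice := ⟨rv c, rv_mem c.2⟩

theorem coe_rvL (c : Fin 4096) : (rvL c : GolayPt → ℤ) = rv c := rfl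

theorem uC_smul_rvL (c : Fin 4096) : uC • rvL c = rvL c := by
  have h := PermImageCert.allBelow_spec reps_ok c c.2
  simp only [Bool.and_eq_true, beq_iff_eq] at h
  refine Subtype.ext ?_
  rw [uC, El_smul uStep_valid (rvL c) (rd c) (by rw [coe_rvL]; have := sqNorm_rv_le c.2; omega) rfl]
  show vec (applyStep (rd c) uStep) = rv c
  rw [h.1.1, rv]

/-! ### Every fixed vector -/

/-- The code of a vector with small entries. -/
def code24 (x : GolayPt → ℤ) : ℕ := horner (pts.map fun i => (x (pt i) + 16).toNat)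

theorem vec_code24 {x : GolayPt → ℤ} (hx : sqNorm x ≤ 80) : vec (code24 x) = x := by
  refine vec_horner (by simp [show pts = List.range 24 from rfl]) hx fun p => ?_
  have hlt : idx p < pts.length := idx_lt p
  rw [List.getD_eq_getElem _ _ (by simpa using hlt), List.getElem_map]
  have he : pts[idx p] = idx p := by
    simp [show pts = List.range 24 from rfl]
  rw [he, pt_idx]
  have := abs_le_of_sqNorm hx p
  omega

/-- The fields of `n + m + k - r`, shifted by 128. -/
def tfld (n m k r i : ℕ) : ℕ :=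
  Nat.sub (Nat.add (Nat.add (dg n (5 * i)) (dg m (5 * i))) (Nat.add (dg k (5 * i)) 96)) (dg r (5 * i))

/-- The trace of the encoded vector is in the class `c`. -/
noncomputable def traceOK (n c : ℕ) : Bool :=
  decide (c < 4096) && smallVec n &&
    force (applyStep n uStep) fun m => force (applyStep m uStep) fun k => twiceOK (tfld n m k (rd c))

/-- The classes of representatives. -/
noncomputable def span : AddSubgroup (GolayPt → ℤ) where
  carrier := {y | ∃ c < 4096, y - comb c ∈ twiceLeech}
  zero_mem' := ⟨0, by norm_num, by rw [comb_zero, sub_zero]; exact zero_mem _⟩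
  add_mem' := by
    rintro x y ⟨c, hc, hx⟩ ⟨d, hd, hy⟩
    refine ⟨c ^^^ d, xor_lt hc hd, ?_⟩
    convert sub_mem (add_mem hx hy) (comb_xor c d) using 1
    abel
  neg_mem' := by
    rintro x ⟨c, hc, hx⟩
    refine ⟨c, hc, ?_⟩
    convert sub_mem (neg_mem hx) (two_nsmul_mem (comb_mem c)) using 1
    rw [two_nsmul]; abel

/-- The trace as an additive map. -/
noncomputable def trHom : leechLattice →+ (GolayPt → ℤ) :=
  AddMonoidHom.mk' (fun x => (tr x : GolayPt → ℤ)) fun x y => by
    simp only [tr, smul_add_vec, AddSubgroup.coe_add]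
    abel

theorem trace_class {x : GolayPt → ℤ} {c : ℕ} (hx : x ∈ leechLattice) (h : traceOK (code24 x) c = true)
    (hn : sqNorm x ≤ 80) : trHom ⟨x, hx⟩ ∈ span := by
  simp only [traceOK, force_eq, Bool.and_eq_true, decide_eq_true_eq] at h
  obtain ⟨⟨hc, -⟩, h⟩ := h
  have h1 := El_smul uStep_valid ⟨x, hx⟩ (code24 x) hn (vec_code24 hn).symm
  have h2 := El_smul uStep_valid (El [uStep] • (⟨x, hx⟩ : leechLattice)) _ (by rw [sqNorm_smul]; exact hn) h1
  have h3 : (tr ⟨x, hx⟩ : GolayPt → ℤ) - rv c ∈ twiceLeech := by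
    refine twiceOK_spec h fun p => ?_
    have a1 := dg_lt (code24 x) (5 * idx p)
    have a2 := dg_lt (applyStep (code24 x) uStep) (5 * idx p)
    have a3 := dg_lt (applyStep (applyStep (code24 x) uStep) uStep) (5 * idx p)
    have a4 := dg_lt (rd c) (5 * idx p)
    simp only [tr, uC, AddSubgroup.coe_add, Pi.add_apply, Pi.sub_apply, h1, h2]
    rw [← vec_code24 hn]
    simp only [applyWord, rv, vec, dig_eq_dg, tfld, Nat.add_eq, Nat.sub_eq]
    rw [vec_code24 hn]
    omega
  refine ⟨c, hc, ?_⟩
  have := add_mem h3 (rv_congr c hc)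
  convert this using 1
  show (tr ⟨x, hx⟩ : GolayPt → ℤ) - comb c = _
  abel

theorem gens_ok : ((pts.all fun i => traceOK (code24 (fourDiff (pt i))) (fourCls.getD i 0)) &&
    ((basisRows.zip rowCls).all fun q => traceOK (code24 (twoMask q.1)) q.2) &&
    traceOK (code24 oddVec) oddCls && traceOK (code24 (unitVec 8 none)) heightCls) = true := by
  decide +kernel

theorem rows_zip : (basisRows.zip rowCls).map Prod.fst = basisRows := by decide +kernel

theorem norms_ok : (∀ i : GolayPt, sqNorm (fourDiff i) ≤ 80) ∧ (∀ b ∈ basisRows, sqNorm (twoMask b) ≤ 80) ∧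
    sqNorm oddVec ≤ 80 := by
  refine ⟨?_, ?_, ?_⟩ <;> decide +kernel

theorem trHom_mem (x : leechLattice) : trHom x ∈ span := by
  have h := gens_ok
  simp only [Bool.and_eq_true, List.all_eq_true] at h
  obtain ⟨⟨⟨hfour, hrow⟩, hodd⟩, hh⟩ := h
  obtain ⟨nfour, nrow, nodd⟩ := norms_ok
  have hle : leechLattice ≤ (span.comap trHom).map leechLattice.subtype := by
    refine leechLattice_le _ ⟨⟨_, oddVec_mem⟩, trace_class _ hodd nodd, rfl⟩ (fun b hb => ?_) (fun i => ?_)
      ⟨frame none, trace_class (x := unitVec 8 none) (frame none).2 hh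
        (show sqNorm (frame none : GolayPt → ℤ) ≤ 80 by rw [sqNorm_frame]; norm_num), rfl⟩
    · obtain ⟨q, hq, rfl⟩ : ∃ q ∈ basisRows.zip rowCls, q.1 = b := by
        have := rows_zip.symm ▸ hb
        simpa using this
      exact ⟨⟨_, twoMask_mem hb⟩, trace_class _ (hrow q hq) (nrow _ hb), rfl⟩
    · refine ⟨⟨_, fourDiff_mem i⟩, trace_class (c := fourCls.getD (idx i) 0) _ ?_ (nfour i), rfl⟩
      have := hfour (idx i) (mem_pts.2 (idx_lt i))
      rwa [pt_idx] at this
  obtain ⟨y, hy, hyx⟩ := hle x.2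
  rwa [← Subtype.ext hyx]

theorem exists_class {x : leechLattice} (hx : uC • x = x) :
    ∃ c : Fin 4096, (x : GolayPt → ℤ) - (rvL c : GolayPt → ℤ) ∈ twiceLeech := by
  obtain ⟨c, hc, h⟩ := trHom_mem x
  refine ⟨⟨c, hc⟩, ?_⟩
  have := sub_mem (sub_mem h (tr_fixed hx)) (rv_congr c hc)
  convert this using 1
  show (x : GolayPt → ℤ) - rv c = (tr x : GolayPt → ℤ) - comb c - ((tr x : GolayPt → ℤ) - x) - (rv c - comb c)
  abel

/-! ### The action -/

theorem smul_twice (g : Co0) {x y : leechLattice} (h : (x : GolayPt → ℤ) - y ∈ twiceLeech) :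
    ((g • x : leechLattice) : GolayPt → ℤ) - (g • y : leechLattice) ∈ twiceLeech := by
  obtain ⟨w, hw, e⟩ := mem_twiceLeech.mp h
  have e1 : x - y = 2 • (⟨w, hw⟩ : leechLattice) := Subtype.ext e
  have e2 : g • x - g • y = 2 • (g • (⟨w, hw⟩ : leechLattice)) := by
    rw [← smul_sub_vec, e1, two_nsmul, two_nsmul, smul_add_vec]
  rw [← AddSubgroup.coe_sub, e2]
  exact two_nsmul_mem (g • (⟨w, hw⟩ : leechLattice)).2

theorem smul_fixed {g : Co0} (hg : g ∈ W) {x : leechLattice} (hx : uC • x = x) : uC • g • x = g • x := by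
  rw [← mul_smul, ← mem_W.mp hg, mul_smul, hx]

theorem exists_image (g : W) (c : Fin 4096) :
    ∃ d : Fin 4096, (((g : Co0) • rvL c : leechLattice) : GolayPt → ℤ) - (rvL d : GolayPt → ℤ) ∈ twiceLeech :=
  exists_class (smul_fixed g.2 (uC_smul_rvL c))

/-- The image of a class. -/
noncomputable def img (g : W) (c : Fin 4096) : Fin 4096 := (exists_image g c).choose

theorem img_spec (g : W) (c : Fin 4096) :
    (((g : Co0) • rvL c : leechLattice) : GolayPt → ℤ) - (rvL (img g c) : GolayPt → ℤ) ∈ twiceLeech :=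
  (exists_image g c).choose_spec

theorem img_eq {g : W} {c d : Fin 4096}
    (h : (((g : Co0) • rvL c : leechLattice) : GolayPt → ℤ) - (rvL d : GolayPt → ℤ) ∈ twiceLeech) :
    img g c = d := by
  refine Fin.ext (rv_inj (img g c).2 d.2 ?_)
  convert sub_mem h (img_spec g c) using 1
  simp only [coe_rvL]
  abel

theorem img_mul (g h : W) (c : Fin 4096) : img (g * h) c = img g (img h c) := by
  refine img_eq ?_
  rw [Subgroup.coe_mul, mul_smul]
  convert add_mem (smul_twice (g : Co0) (img_spec h c)) (img_spec g (img h c)) using 1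
  abel

theorem img_one (c : Fin 4096) : img 1 c = c :=
  img_eq (by rw [Subgroup.coe_one, one_smul, sub_self]; exact zero_mem _)

/-- The action of the centraliser on the classes. -/
noncomputable def actHom : W →* Equiv.Perm (Fin 4096) where
  toFun g :=
    { toFun := img g
      invFun := img g⁻¹
      left_inv := fun c => by rw [← img_mul, inv_mul_cancel, img_one]
      right_inv := fun c => by rw [← img_mul, mul_inv_cancel, img_one] }
  map_one' := Equiv.ext img_one
  map_mul' g h := Equiv.ext (img_mul g h)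

theorem actHom_apply (g : W) (c : Fin 4096) : actHom g c = img g c := rfl

theorem smul_congr_of_ker {g : W} (hg : g ∈ actHom.ker) {x : leechLattice} (hx : uC • x = x) :
    (((g : Co0) • x : leechLattice) : GolayPt → ℤ) - (x : GolayPt → ℤ) ∈ twiceLeech := by
  obtain ⟨c, hc⟩ := exists_class hx
  have h1 : img g c = c := by
    rw [← actHom_apply, MonoidHom.mem_ker.mp hg]; rfl
  have h2 := img_spec g c
  rw [h1] at h2
  convert sub_mem (add_mem (smul_twice (g : Co0) hc) h2) hc using 1
  abel

end Cfsg.Agent.LeechFischer17
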