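import Cfsg.Agent.Lib.LeechFischer17Classes
import Cfsg.Agent.Lib.LeechUnitary43

/-!
The centraliser of `u` permutes 112 frames of classes of norm 48.
-/

set_option autoImplicit false
set_option linter.style.haveILetI false

open scoped Pointwise

namespace Cfsg.Agent.LeechFischer17

open Cfsg Cfsg.Agent.GolayBasic Cfsg.Agent.LeechBasic Cfsg.Agent.LeechAut
open Cfsg.Agent.LeechCert Cfsg.Agent.LeechOutTool Cfsg.Agent.LeechOrbit Cfsg.Agent.PermImageCert
open Cfsg.Agent.GolayPerm (pts mem_pts)

/-- The classes of a frame. -/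
def fr (k : ℕ) : List ℕ := frames.getD k []

/-- The vectors of a frame. -/
def frameSet (k : Fin 112) : Set leechLattice :=
  {v | ∃ c : Fin 4096, (c : ℕ) ∈ fr k ∧ (v = rvL c ∨ v = -rvL c)}

theorem frames_ok : PermImageCert.allBelow (fun k =>
    (fr k).all (fun c => Nat.blt c 4096) && !(fr k).isEmpty &&
      PermImageCert.allBelow (fun l => !(fr l).elem ((fr k).headD 0) || Nat.beq l k) 112) 112 = true := by
  decide +kernel

theorem frameSet_injective : Function.Injective frameSet := by
  intro k l h
  have hk := allBelow_spec frames_ok k k.2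
  simp only [Bool.and_eq_true, List.all_eq_true, Nat.blt_eq] at hk
  obtain ⟨⟨hlt, hne⟩, hown⟩ := hk
  obtain ⟨c0, rest, e⟩ : ∃ a b, fr k = a :: b := by
    rcases hfk : fr k with _ | ⟨a, b⟩
    · rw [hfk] at hne; simp at hne
    · exact ⟨a, b, rfl⟩
  have hc : c0 < 4096 := hlt c0 (e ▸ List.mem_cons_self)
  have hmem : rvL ⟨c0, hc⟩ ∈ frameSet l := h ▸ ⟨⟨c0, hc⟩, e ▸ List.mem_cons_self, Or.inl rfl⟩
  obtain ⟨d, hd, hv⟩ := hmem
  have hd0 : (⟨c0, hc⟩ : Fin 4096) = d := by
    refine Fin.ext (rv_inj hc d.2 ?_)
    rcases hv with hv | hv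
    · have h1 := congrArg (fun x : leechLattice => (x : GolayPt → ℤ)) hv
      simp only [coe_rvL] at h1
      rw [h1, sub_self]; exact zero_mem _
    · have h1 := congrArg (fun x : leechLattice => (x : GolayPt → ℤ)) hv
      simp only [AddSubgroup.coe_neg, coe_rvL] at h1
      rw [h1]
      convert neg_mem (two_nsmul_mem (rv_mem d.2)) using 1
      rw [two_nsmul]; abel
  have h2 := allBelow_spec hown l l.2
  rw [e, List.headD_cons] at h2
  rw [← hd0] at hd
  have h3 : (fr l).elem c0 = true := List.elem_iff.mpr hd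
  rw [h3] at h2
  simp only [Bool.not_true, Bool.false_or, Nat.beq_eq] at h2
  exact (Fin.ext h2).symm

/-- The negated encoded vector. -/
def negCode (n : ℕ) : ℕ := horner (pts.map fun i => 32 - dg n (5 * i))

theorem vec_negCode {n : ℕ} (h : sqNorm (vec n) ≤ 80) : vec (negCode n) = -vec n := by
  have hneg : sqNorm (-vec n) = sqNorm (vec n) := Finset.sum_congr rfl fun p _ => by
    rw [Pi.neg_apply]; ring
  refine vec_horner (by simp [show pts = List.range 24 from rfl]) (hneg.trans_le h) fun p => ?_
  have hlt : idx p < pts.length := idx_lt p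
  rw [List.getD_eq_getElem _ _ (by simpa using hlt), List.getElem_map]
  have he : pts[idx p] = idx p := by simp [show pts = List.range 24 from rfl]
  rw [he]
  have := abs_le_of_sqNorm h p
  simp only [Pi.neg_apply, vec, dig_eq_dg] at this ⊢
  omega

/-- A word maps the frames as the packed permutation does. -/
noncomputable def moveOK (w : List Step) (P : ℕ) : Bool :=
  PermImageCert.allBelow (fun k => (fr k).all fun c => force (applyWord w (rd c)) fun n =>
    (fr (get P k)).any fun d => Nat.beq n (rd d) || Nat.beq n (negCode (rd d))) 112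

theorem smul_rvL_of_code {w : List Step} (hw : wordValid w = true) {c d : Fin 4096}
    (h : applyWord w (rd c) = rd d ∨ applyWord w (rd c) = negCode (rd d)) :
    El w • rvL c = rvL d ∨ El w • rvL c = -rvL d := by
  have h1 := El_smul hw (rvL c) (rd c) (by rw [coe_rvL]; have := sqNorm_rv_le c.2; omega) rfl
  rcases h with h | h
  · left; apply Subtype.ext; rw [h1, h, coe_rvL, rv]
  · right; apply Subtype.ext
    rw [h1, h, vec_negCode (by have := sqNorm_rv_le d.2; rw [rv] at this; omega), AddSubgroup.coe_neg, coe_rvL, rv]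

theorem smul_frame_le {w : List Step} {P : ℕ} (hw : wordValid w = true) (h : moveOK w P = true)
    {σ : Equiv.Perm (Fin 112)} (hσ : Rep σ P) (k : Fin 112) : El w • frameSet k ⊆ frameSet (σ k) := by
  rintro _ ⟨v, ⟨c, hc, hv⟩, rfl⟩
  have h1 := allBelow_spec h k k.2
  simp only [List.all_eq_true, force_eq, List.any_eq_true, Bool.or_eq_true, Nat.beq_eq] at h1
  obtain ⟨d, hd, hcd⟩ := h1 _ hc
  have hk := allBelow_spec frames_ok (σ k) (σ k).2
  simp only [Bool.and_eq_true, List.all_eq_true, Nat.blt_eq] at hk
  rw [← hσ k] at hd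
  have hlt : d < 4096 := hk.1.1 d hd
  refine ⟨⟨d, hlt⟩, hd, ?_⟩
  show El w • v = _ ∨ El w • v = _
  rcases hv with rfl | rfl <;>
    rcases smul_rvL_of_code hw (c := c) (d := ⟨d, hlt⟩) hcd with e | e
  · exact Or.inl e
  · exact Or.inr e
  · exact Or.inr (by rw [smul_neg_vec, e])
  · exact Or.inl (by rw [smul_neg_vec, e, neg_neg])

theorem frameSet_finite (k : Fin 112) : (frameSet k).Finite := by
  refine ((Set.finite_range rvL).union (Set.finite_range fun c => -rvL c)).subset ?_
  rintro v ⟨c, -, rfl | rfl⟩
  · exact Or.inl ⟨c, rfl⟩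
  · exact Or.inr ⟨c, rfl⟩

theorem smul_frame_eq {g : Co0} {σ : Equiv.Perm (Fin 112)}
    (h : ∀ k, g • frameSet k ⊆ frameSet (σ k)) (k : Fin 112) : g • frameSet k = frameSet (σ k) := by
  have hle : ∀ k ∈ (Finset.univ : Finset (Fin 112)), (frameSet k).ncard ≤ (frameSet (σ k)).ncard :=
    fun k _ => (Set.ncard_smul_set g (frameSet k)).symm.le.trans
      (Set.ncard_le_ncard (h k) (frameSet_finite _))
  have heq := (Finset.sum_eq_sum_iff_of_le hle).mp
    (Equiv.sum_comp σ (fun k => (frameSet k).ncard)).symm k (Finset.mem_univ k)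
  exact Set.eq_of_subset_of_ncard_le (h k) (by rw [Set.ncard_smul_set]; exact heq.ge) (frameSet_finite _)

/-- The centraliser elements keeping the family of frames. -/
noncomputable def T : Subgroup Co0 := W ⊓ MulAction.stabilizer Co0 (Set.range frameSet)

theorem mem_T {g : Co0} {σ : Equiv.Perm (Fin 112)} (hW : g ∈ W)
    (h : ∀ k, g • frameSet k = frameSet (σ k)) : g ∈ T := by
  refine ⟨hW, MulAction.mem_stabilizer_iff.mpr (Set.ext fun X => ⟨?_, ?_⟩)⟩
  · rintro ⟨_, ⟨k, rfl⟩, rfl⟩; exact ⟨σ k, (h k).symm⟩
  · rintro ⟨k, rfl⟩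
    exact ⟨frameSet (σ.symm k), ⟨_, rfl⟩, by show g • frameSet _ = _; rw [h, σ.apply_symm_apply]⟩

theorem exists_frame (g : T) (k : Fin 112) : ∃ j, (g : Co0) • frameSet k = frameSet j := by
  have h := MulAction.mem_stabilizer_iff.mp g.2.2
  have h1 : (g : Co0) • frameSet k ∈ Set.range frameSet := h ▸ ⟨_, ⟨k, rfl⟩, rfl⟩
  obtain ⟨j, hj⟩ := h1
  exact ⟨j, hj.symm⟩

/-- The image of a frame. -/
noncomputable def fimg (g : T) (k : Fin 112) : Fin 112 := (exists_frame g k).choose

theorem fimg_spec (g : T) (k : Fin 112) : (g : Co0) • frameSet k = frameSet (fimg g k) :=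
  (exists_frame g k).choose_spec

theorem fimg_mul (g h : T) (k : Fin 112) : fimg (g * h) k = fimg g (fimg h k) :=
  frameSet_injective (by rw [← fimg_spec, ← fimg_spec, ← fimg_spec, Subgroup.coe_mul, mul_smul])

theorem fimg_one (k : Fin 112) : fimg 1 k = k :=
  frameSet_injective (by rw [← fimg_spec, Subgroup.coe_one, one_smul])

/-- The action on the frames. -/
noncomputable def frameHom : T →* Equiv.Perm (Fin 112) where
  toFun g :=
    { toFun := fimg g
      invFun := fimg g⁻¹
      left_inv := fun k => by rw [← fimg_mul, inv_mul_cancel, fimg_one]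
      right_inv := fun k => by rw [← fimg_mul, mul_inv_cancel, fimg_one] }
  map_one' := Equiv.ext fimg_one
  map_mul' g h := Equiv.ext (fimg_mul g h)

theorem frameHom_eq {g : T} {σ : Equiv.Perm (Fin 112)} (h : ∀ k, (g : Co0) • frameSet k = frameSet (σ k)) :
    frameHom g = σ :=
  Equiv.ext fun k => frameSet_injective ((fimg_spec g k).symm.trans (h k))

/-! ### The four generators -/

/-- The word of a generator. -/
def gw (i : Fin 4) : List Step := gword.getD i []

/-- The code of its permutation. -/
def gp (i : Fin 4) : ℕ := (perms.getD i (0, 0)).1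

theorem gw_valid : ∀ i, wordValid (gw i) = true := by decide +kernel

theorem gw_comm : ∀ i, eqOK (gw i ++ [uStep]) ([uStep] ++ gw i) = true := by decide +kernel

theorem gw_mem_W (i : Fin 4) : El (gw i) ∈ W := by
  rw [mem_W]
  have := El_eq (gw_comm i)
  rw [El_append (gw_valid i) uStep_valid, El_append uStep_valid (gw_valid i)] at this
  exact this.symm

theorem perms_ok : perms.all (invOK 112) = true := by decide +kernel

theorem slp_ok : slpOK 112 (allCodes perms) slp = true := by decide +kernel

theorem chain_ok : chainOK 112 (allCodes perms ++ slp.map (fun o => o.2.2)) [] chain = true := by decide +kernel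

theorem chain_size : chainSize chain = 6531840 := by decide +kernel

theorem moves0 : moveOK (gw 0) (gp 0) = true := by decide +kernel

theorem moves1 : moveOK (gw 1) (gp 1) = true := by decide +kernel

theorem moves2 : moveOK (gw 2) (gp 2) = true := by decide +kernel

theorem moves3 : moveOK (gw 3) (gp 3) = true := by decide +kernel

theorem moves : ∀ i : Fin 4, moveOK (gw i) (gp i) = true
  | 0 => moves0
  | 1 => moves1
  | 2 => moves2
  | 3 => moves3

theorem exists_gperm (i : Fin 4) : ∃ σ : Equiv.Perm (Fin 112), Rep σ (gp i) := by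
  have hi : (i : ℕ) < perms.length := i.2
  obtain ⟨σ, hσ, -⟩ := exists_rep (List.all_eq_true.mp perms_ok (perms.getD i (0, 0))
    (by rw [List.getD_eq_getElem _ _ hi]; exact List.getElem_mem _))
  exact ⟨σ, hσ⟩

/-- The permutation of a generator. -/
noncomputable def gσ (i : Fin 4) : Equiv.Perm (Fin 112) := (exists_gperm i).choose

theorem gσ_rep (i : Fin 4) : Rep (gσ i) (gp i) := (exists_gperm i).choose_spec

theorem gw_frame (i : Fin 4) : ∀ k, El (gw i) • frameSet k = frameSet (gσ i k) :=
  smul_frame_eq (smul_frame_le (gw_valid i) (moves i) (gσ_rep i))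

/-- The generators in the group. -/
noncomputable def gT (i : Fin 4) : T := ⟨El (gw i), mem_T (gw_mem_W i) (gw_frame i)⟩

theorem frameHom_gT (i : Fin 4) : frameHom (gT i) = gσ i := frameHom_eq (gw_frame i)

theorem genGroup_le_range : genGroup 112 (perms.map Prod.fst) ≤ frameHom.range := by
  rw [genGroup, Subgroup.closure_le]
  rintro σ ⟨P, hP, hσ⟩
  obtain ⟨i, hi⟩ : ∃ i : Fin 4, gp i = P := by
    clear hσ
    revert P
    decide +kernel
  exact ⟨gT i, by rw [frameHom_gT]; exact (gσ_rep i).unique (hi ▸ hσ)⟩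

theorem card_range_ge : 6531840 ≤ Nat.card frameHom.range :=
  (le_of_eq_of_le chain_size.symm (le_card_genGroup perms_ok slp_ok chain_ok)).trans
    (Subgroup.card_le_of_le genGroup_le_range)

/-! ### The scalar -/

/-- The generators of the square root of the scalar, first applied first. -/
def nIdx : List (Fin 4) := [0, 1, 2, 3, 2, 3, 1, 2, 0, 1, 2, 3, 2, 3, 1, 2]

/-- Concatenated word. -/
def catWord (l : List (Fin 4)) : List Step := (l.map gw).flatten

/-- Product. -/
noncomputable def catT : List (Fin 4) → T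
  | [] => 1
  | i :: l => catT l * gT i

theorem catWord_valid : ∀ l : List (Fin 4), wordValid (catWord l) = true
  | [] => rfl
  | i :: l => by
    rw [catWord, List.map_cons, List.flatten_cons, wordValid_append, gw_valid i, Bool.true_and]
    exact catWord_valid l

theorem coe_catT : ∀ l : List (Fin 4), ((catT l : T) : Co0) = El (catWord l)
  | [] => El_nil.symm
  | i :: l => by
    show ((catT l * gT i : T) : Co0) = El (gw i ++ catWord l)
    rw [El_append (gw_valid i) (catWord_valid l), Subgroup.coe_mul, coe_catT l]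
    rfl

/-- The image of a point. -/
def catGet : List (Fin 4) → ℕ → ℕ
  | [], k => k
  | i :: l, k => catGet l (get (gp i) k)

theorem frameHom_catT : ∀ (l : List (Fin 4)) (k : Fin 112), ((frameHom (catT l) k : Fin 112) : ℕ) = catGet l k
  | [], k => by rw [catT, map_one]; rfl
  | i :: l, k => by
    rw [catT, map_mul, frameHom_gT, Equiv.Perm.mul_apply, frameHom_catT l, gσ_rep i k]
    rfl

/-- The scalar. -/
noncomputable def nT : T := catT nIdx

theorem nT_mem_ker : nT ∈ frameHom.ker := by
  refine MonoidHom.mem_ker.mpr (Equiv.ext fun k => Fin.ext ?_)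
  rw [nT, frameHom_catT]
  revert k
  decide +kernel

theorem nword_moves : (applyWord (catWord nIdx) (rd 66) == rd 1070 ||
      applyWord (catWord nIdx) (rd 66) == negCode (rd 1070)) &&
    (applyWord (catWord nIdx) (rd 1070) == rd 1132 ||
      applyWord (catWord nIdx) (rd 1070) == negCode (rd 1132)) = true := by
  decide +kernel

end Cfsg.Agent.LeechFischer17
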