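import Cfsg.Agent.Lib.LeechFischer17Base
import Cfsg.Agent.Lib.LeechStab

/-!
The monomial part of the centraliser of `u` has order at most `2^6 * 1080`.
-/

set_option autoImplicit false
set_option linter.style.haveILetI false

open scoped Pointwise symmDiff

namespace Cfsg.Agent.LeechFischer17

open Cfsg Cfsg.Agent.GolayBasic Cfsg.Agent.LeechBasic Cfsg.Agent.LeechAut Cfsg.Agent.LeechMonomial
open Cfsg.Agent.LeechCert Cfsg.Agent.LeechOutTool Cfsg.Agent.LeechOrbit Cfsg.Agent.LeechStab
open Cfsg.Agent.LeechFreeInvolution (frameCodes)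
open Cfsg.Agent.GolayPerm (pts mem_pts pimg pmask good permOf permOf_mem_M24 permOf_apply valid_of_good pfun
  smul_mset eq_one_of_closeCheck smul_singleton_of_fix)

theorem uP_good : good uP = true := by decide +kernel

/-- The permutation. -/
noncomputable def pu : Equiv.Perm GolayPt := permOf uP

theorem pu_apply (p : GolayPt) : pu p = pfun uP p := permOf_apply (valid_of_good uP_good) p

theorem pu_mem : pu ∈ M24 := permOf_mem_M24 uP_good

theorem uC_table : ∀ i p : GolayPt,
    vec (applyWord [uStep] (frameCodes.getD (idx i) 0)) p = unitVec 8 (pfun uP i) p := by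
  decide +kernel

theorem uC_eq_monomial : uC = monomial pu pu_mem ∅ empty_mem_supports :=
  ext_frame fun i => Subtype.ext (by
    rw [uC, El_frame uStep_valid, coe_monomial_smul]
    funext p
    rw [uC_table i p, ← pu_apply]
    simp only [signedPerm, Finset.notMem_empty, if_false]
    show _ = unitVec 8 i (pu.symm p)
    simp only [unitVec, Equiv.symm_apply_eq])

theorem uC_mem_mono : uC ∈ mono := uC_eq_monomial ▸ monomial_mem _ _

/-- The centraliser of the permutation in `M24`. -/
noncomputable def permCent : Subgroup (Equiv.Perm GolayPt) := M24 ⊓ Subgroup.centralizer {pu}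

theorem mem_permCent {g : Equiv.Perm GolayPt} : g ∈ permCent ↔ g ∈ M24 ∧ g * pu = pu * g :=
  and_congr_right fun _ => Subgroup.mem_centralizer_singleton_iff

theorem pu_mem_permCent : pu ∈ permCent := mem_permCent.mpr ⟨pu_mem, rfl⟩

theorem pu_pow : pu ^ 3 = 1 := by
  ext p : 1
  rw [pow_three]
  simp only [Equiv.Perm.mul_apply, Equiv.Perm.one_apply, pu_apply]
  revert p
  decide +kernel

theorem pimg_facts : pfun uP (pt 2) = pt 21 ∧ pfun uP (pt 21) = pt 22 ∧ pfun uP (pt 22) = pt 2 ∧
    (∀ p, p ∈ mset 15274244 → pfun uP p = p ∨ p = pt 2 ∨ p = pt 21 ∨ p = pt 22) ∧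
    Fintype.card {p : GolayPt // pfun uP p = p} = 6 ∧ pfun uP (pt 2) ≠ pt 2 ∧
    (pt 2 ∈ mset 15274244) := by
  decide +kernel

/-- An element fixing the five points as a set carries the first cycle point into its cycle. -/
theorem cycle_image {g : Equiv.Perm GolayPt} (hg : g ∈ permCent) (h5 : g • mset 8982784 = mset 8982784) :
    g (pt 2) = pt 2 ∨ g (pt 2) = pt 21 ∨ g (pt 2) = pt 22 := by
  obtain ⟨-, -, -, hO, -, hne, hp⟩ := pimg_facts
  obtain ⟨hg1, hg2⟩ := mem_permCent.mp hg
  have ho : mset 15274244 ∈ octads := (mset_mem_octads (by norm_num)).2 (by decide +kernel)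
  have hsub : mset 8982784 ⊆ mset 15274244 := by decide +kernel
  have hgo : g • mset 15274244 = mset 15274244 :=
    GolaySteiner.octad_eq_of_five (GolayPerm.smul_mem_octads hg1 ho) ho (s := mset 8982784) (by decide +kernel)
      (by rw [← h5]; exact Finset.smul_finset_subset_smul_finset hsub) hsub
  have hin : g (pt 2) ∈ mset 15274244 := by
    rw [← hgo]; exact Finset.smul_mem_smul_finset hp
  rcases hO _ hin with h | h
  · refine absurd ?_ hne
    apply g.injective
    have := congrArg (fun s : Equiv.Perm GolayPt => s (pt 2)) hg2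
    simp only [Equiv.Perm.mul_apply, pu_apply] at this
    rw [this, h]
  · exact h

theorem pu_pow_fix (p : GolayPt) (h : pfun uP p = p) : ∀ j : ℕ, (pu ^ j) p = p
  | 0 => rfl
  | j + 1 => by rw [pow_succ, Equiv.Perm.mul_apply, pu_apply, h, pu_pow_fix p h j]

/-- An element fixing the five points as a set is, up to a power of `u`, one fixing the cycle pointwise. -/
theorem exists_pow {g : Equiv.Perm GolayPt} (hg : g ∈ permCent) (h5 : g • mset 8982784 = mset 8982784) :
    ∃ j < 3, ((pu ^ j)⁻¹ * g) (pt 2) = pt 2 ∧ ((pu ^ j)⁻¹ * g) (pt 21) = pt 21 ∧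
      ((pu ^ j)⁻¹ * g) (pt 22) = pt 22 := by
  obtain ⟨h1, h2, -⟩ := pimg_facts
  obtain ⟨j, hj, e⟩ : ∃ j < 3, (pu ^ j) (pt 2) = g (pt 2) := by
    rcases cycle_image hg h5 with h | h | h
    · exact ⟨0, by norm_num, by rw [h]; rfl⟩
    · exact ⟨1, by norm_num, by rw [h, pow_one, pu_apply, h1]⟩
    · exact ⟨2, by norm_num, by rw [h, pow_two, Equiv.Perm.mul_apply, pu_apply, pu_apply, h1, h2]⟩
  set k := (pu ^ j)⁻¹ * g with hk
  have hk2 : k (pt 2) = pt 2 := by rw [hk, Equiv.Perm.mul_apply, ← e, Equiv.Perm.inv_def, Equiv.symm_apply_apply]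
  have hkc : k * pu = pu * k := (mem_permCent.mp (mul_mem (inv_mem (pow_mem pu_mem_permCent j)) hg)).2
  have hstep : ∀ p, k p = p → k (pfun uP p) = pfun uP p := fun p hp => by
    have := congrArg (fun s : Equiv.Perm GolayPt => s p) hkc
    simp only [Equiv.Perm.mul_apply, pu_apply, hp] at this
    exact this
  have hk21 : k (pt 21) = pt 21 := h1 ▸ hstep _ hk2
  exact ⟨j, hj, hk2, hk21, h2 ▸ hstep _ hk21⟩

theorem ker_close : GolayPerm.closeCheck kerInit kerOps = true := by decide +kernel

theorem swap_close : GolayPerm.closeCheck swapInit swapOps = true := by decide +kernel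

/-- The fixed points of the permutation. -/
abbrev Hs : Type := {p : GolayPt // pfun uP p = p}

theorem permCent_fixed {g : Equiv.Perm GolayPt} (hg : g ∈ permCent) (p : GolayPt) :
    pfun uP p = p ↔ pfun uP (g p) = g p := by
  have := congrArg (fun s : Equiv.Perm GolayPt => s p) (mem_permCent.mp hg).2
  simp only [Equiv.Perm.mul_apply, pu_apply] at this
  rw [← this]
  exact g.injective.eq_iff.symm

/-- The action on the six fixed points. -/
noncomputable def hexHom : permCent →* Equiv.Perm Hs where
  toFun g := (g : Equiv.Perm GolayPt).subtypePerm fun p => (permCent_fixed g.2 p).symm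
  map_one' := Equiv.ext fun _ => rfl
  map_mul' _ _ := Equiv.ext fun _ => rfl

theorem hexHom_apply (g : permCent) (p : Hs) : ((hexHom g p : Hs) : GolayPt) = (g : Equiv.Perm GolayPt) p := rfl

theorem five_pts : ∀ p, p ∈ mset 8982784 → pfun uP p = p := by decide +kernel

theorem kerInit_eq : kerInit = 16777215 :: [1, 8, 12, 16, 19, 23, 2, 21, 22].map (fun b => 1 <<< b) := by
  decide +kernel

theorem swapInit_eq :
    swapInit = (16777215 :: [1, 8, 12, 16, 2, 21, 22].map (fun b => 1 <<< b)) ++ [8912896] := by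
  decide +kernel

theorem fix_univ (g : Equiv.Perm GolayPt) : g • mset 16777215 = mset 16777215 := by
  rw [mset_all, Finset.smul_finset_univ]

theorem card_ker_le : Nat.card hexHom.ker ≤ 3 := by
  classical
  refine le_trans (Nat.card_le_card_of_surjective (α := Fin 3)
    (fun j => ⟨⟨pu ^ (j : ℕ), pow_mem pu_mem_permCent _⟩, MonoidHom.mem_ker.mpr (Equiv.ext fun p =>
      Subtype.ext (pu_pow_fix p p.2 j))⟩) ?_) (by simp)
  rintro ⟨⟨g, hg⟩, hk⟩
  have hfix : ∀ p, pfun uP p = p → g p = p := fun p hp => by
    have := congrArg Subtype.val (congrArg (fun s : Equiv.Perm Hs => s ⟨p, hp⟩) (MonoidHom.mem_ker.mp hk))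
    exact this
  have h5 : g • mset 8982784 = mset 8982784 := by
    refine Finset.ext fun p => ⟨fun hp => ?_, fun hp => ?_⟩
    · obtain ⟨q, hq, rfl⟩ := Finset.mem_smul_finset.mp hp
      rw [Equiv.Perm.smul_def, hfix q (five_pts q hq)]; exact hq
    · exact Finset.mem_smul_finset.mpr ⟨p, hp, by rw [Equiv.Perm.smul_def, hfix p (five_pts p hp)]⟩
  obtain ⟨j, hj, h2, h21, h22⟩ := exists_pow hg h5
  refine ⟨⟨j, hj⟩, Subtype.ext (Subtype.ext ?_)⟩
  show pu ^ j = g
  refine (inv_mul_eq_one.mp (eq_one_of_closeCheck ker_close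
    (mul_mem (inv_mem (pow_mem pu_mem j)) (mem_permCent.mp hg).1) fun m hm => ?_))
  rw [kerInit_eq, List.mem_cons] at hm
  rcases hm with rfl | hm
  · exact fix_univ _
  obtain ⟨b, hb, rfl⟩ := List.mem_map.mp hm
  have hH : ∀ p, pfun uP p = p → ((pu ^ j)⁻¹ * g) p = p := fun p hp => by
    rw [Equiv.Perm.mul_apply, hfix p hp, Equiv.Perm.inv_eq_iff_eq, pu_pow_fix p hp j]
  simp only [List.mem_cons, List.not_mem_nil, or_false] at hb
  rcases hb with rfl | rfl | rfl | rfl | rfl | rfl | rfl | rfl | rfl <;>
    first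
      | exact smul_singleton_of_fix (by norm_num) h2
      | exact smul_singleton_of_fix (by norm_num) h21
      | exact smul_singleton_of_fix (by norm_num) h22
      | exact smul_singleton_of_fix (by norm_num) (hH _ (by decide +kernel))

/-- The transposition of the last two fixed points. -/
noncomputable def swapH : Equiv.Perm Hs :=
  Equiv.swap ⟨pt 19, by decide +kernel⟩ ⟨pt 23, by decide +kernel⟩

theorem swapH_not_mem : swapH ∉ hexHom.range := by
  rintro ⟨⟨g, hg⟩, e⟩
  have hval : ∀ (p : GolayPt) (hp : pfun uP p = p), g p = (swapH ⟨p, hp⟩ : Hs) := fun p hp =>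
    congrArg Subtype.val (congrArg (fun s : Equiv.Perm Hs => s ⟨p, hp⟩) e)
  have h19 : g (pt 19) = pt 23 := by rw [hval _ (by decide +kernel), swapH, Equiv.swap_apply_left]
  have h23 : g (pt 23) = pt 19 := by rw [hval _ (by decide +kernel), swapH, Equiv.swap_apply_right]
  have hoth : ∀ p, pfun uP p = p → p ≠ pt 19 → p ≠ pt 23 → g p = p := fun p hp a b => by
    rw [hval p hp, swapH, Equiv.swap_apply_of_ne_of_ne (fun h => a (congrArg Subtype.val h))
      (fun h => b (congrArg Subtype.val h))]
  have hmem : ∀ q, q ∈ mset 8982784 → g q ∈ mset 8982784 := by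
    intro q hq
    by_cases a : q = pt 19
    · rw [a, h19]; decide +kernel
    by_cases b : q = pt 23
    · rw [b, h23]; decide +kernel
    · rw [hoth q (five_pts q hq) a b]; exact hq
  have h5 : g • mset 8982784 = mset 8982784 :=
    Finset.eq_of_subset_of_card_le (fun p hp => by
      obtain ⟨q, hq, rfl⟩ := Finset.mem_smul_finset.mp hp
      exact hmem q hq) (by rw [Finset.card_smul_finset])
  obtain ⟨j, hj, h2, h21, h22⟩ := exists_pow hg h5
  have hj' : ∀ p, pfun uP p = p → ((pu ^ j)⁻¹ * g) p = g p := fun p hp => by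
    rw [Equiv.Perm.mul_apply, Equiv.Perm.inv_eq_iff_eq, pu_pow_fix _ ((permCent_fixed hg p).mp hp) j]
  have hk : (pu ^ j)⁻¹ * g = 1 := by
    refine eq_one_of_closeCheck swap_close (mul_mem (inv_mem (pow_mem pu_mem j)) (mem_permCent.mp hg).1)
      fun m hm => ?_
    rw [swapInit_eq, List.mem_append, List.mem_cons, List.mem_singleton] at hm
    rcases hm with (rfl | hm) | rfl
    · exact fix_univ _
    · obtain ⟨b, hb, rfl⟩ := List.mem_map.mp hm
      simp only [List.mem_cons, List.not_mem_nil, or_false] at hb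
      rcases hb with rfl | rfl | rfl | rfl | rfl | rfl | rfl <;>
        first
          | exact smul_singleton_of_fix (by norm_num) h2
          | exact smul_singleton_of_fix (by norm_num) h21
          | exact smul_singleton_of_fix (by norm_num) h22
          | exact smul_singleton_of_fix (by norm_num) (by
              rw [hj' _ (by decide +kernel)]
              exact hoth _ (by decide +kernel) (by decide +kernel) (by decide +kernel))
    · rw [show mset 8912896 = {pt 19, pt 23} by decide +kernel, Finset.smul_finset_insert,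
        Finset.smul_finset_singleton, Equiv.Perm.smul_def, Equiv.Perm.smul_def,
        hj' _ (by decide +kernel), hj' _ (by decide +kernel), h19, h23, Finset.pair_comm]
  have := congrArg (fun s : Equiv.Perm GolayPt => s (pt 19)) hk
  rw [hj' _ (by decide +kernel), h19, Equiv.Perm.one_apply] at this
  revert this
  decide +kernel

theorem card_permCent_le : Nat.card permCent ≤ 1080 := by
  classical
  rw [Subgroup.card_eq_card_quotient_mul_card_subgroup hexHom.ker,
    Nat.card_congr (QuotientGroup.quotientKerEquivRange hexHom).toEquiv]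
  have hr : Nat.card hexHom.range ≤ 360 := by
    have hne : hexHom.range ≠ ⊤ := fun h => swapH_not_mem (h ▸ Subgroup.mem_top _)
    have h2 : 2 ≤ hexHom.range.index := by
      have h1 : hexHom.range.index ≠ 1 := fun h => hne (Subgroup.index_eq_one.mp h)
      have h0 : hexHom.range.index ≠ 0 := Subgroup.index_ne_zero_of_finite
      omega
    have h3 := hexHom.range.card_mul_index
    have hH : Nat.card Hs = 6 := Nat.card_eq_fintype_card.trans pimg_facts.2.2.2.2.1
    rw [Nat.card_perm (α := Hs), hH] at h3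
    have h4 : Nat.card hexHom.range * 2 ≤ 720 :=
      (Nat.mul_le_mul_left _ h2).trans_eq (h3.trans rfl)
    omega
  calc Nat.card hexHom.range * Nat.card hexHom.ker ≤ 360 * 3 := Nat.mul_le_mul hr card_ker_le
    _ = 1080 := rfl

/-- The code supports kept by the permutation. -/
abbrev InvCode : Type := {c : CodeSupp // pu • c.1 = c.1}

theorem invCode_count :
    ((Finset.range 4096).filter fun y => pmask uP (enc y) = enc y).card = 64 := by
  decide +kernel

theorem card_invCode_le : Nat.card InvCode ≤ 64 := by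
  rw [← invCode_count, ← Nat.card_eq_finsetCard]
  have hmask : ∀ c : InvCode, ∃ y : ((Finset.range 4096).filter fun y => pmask uP (enc y) = enc y),
      mset (enc y) = c.1.1 := by
    rintro ⟨⟨s, hs⟩, hc⟩
    have hcode : inCode (smask s) = true :=
      (mset_mem_supports (smask_lt s)).1 (by rw [mset_smask]; exact hs)
    obtain ⟨y, hy, e⟩ := exists_enc_of_inCode hcode
    refine ⟨⟨y, Finset.mem_filter.mpr ⟨Finset.mem_range.mpr hy, ?_⟩⟩, by rw [e, mset_smask]⟩
    refine mset_inj ?_ (enc_lt hy) ?_
    · exact Nat.lt_pow_two_of_testBit _ fun i hi => by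
        by_contra hb
        rw [Bool.not_eq_false, GolayPerm.testBit_pmask] at hb
        obtain ⟨k, hk, -, hkj⟩ := hb
        have := GolayPerm.pimg_lt (valid_of_good uP_good) hk
        omega
    · rw [← smul_mset (valid_of_good uP_good), e, mset_smask]; exact hc
  choose f hf using hmask
  exact Nat.card_le_card_of_injective f fun a b h => Subtype.ext (Subtype.ext (by rw [← hf a, ← hf b, h]))

theorem card_monoW_le : Nat.card ↥(mono ⊓ W) ≤ 69120 := by
  classical
  have h : ∀ g : ↥(mono ⊓ W), ∃ q : permCent × InvCode,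
      (g : Co0) = monomial q.1.1 q.1.2.1 q.2.1.1 q.2.1.2 := by
    rintro ⟨g, hgm, hgW⟩
    obtain ⟨σ, hσ, c, hc, rfl⟩ := mem_mono.mp hgm
    have e := mem_W.mp hgW
    rw [uC_eq_monomial, monomial_mul hσ pu_mem hc empty_mem_supports,
      monomial_mul pu_mem hσ empty_mem_supports hc] at e
    obtain ⟨e1, e2⟩ := monomial_injective _ _ _ _ e
    rw [Finset.smul_finset_empty, ← Finset.bot_eq_empty, symmDiff_bot, bot_symmDiff] at e2
    exact ⟨(⟨σ, mem_permCent.mpr ⟨hσ, e1⟩⟩, ⟨⟨c, hc⟩, e2.symm⟩), rfl⟩
  choose f hf using h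
  refine (Nat.card_le_card_of_injective f fun a b hab => Subtype.ext ?_).trans ?_
  · rw [hf a, hf b, hab]
  · rw [Nat.card_prod]
    exact (Nat.mul_le_mul card_permCent_le card_invCode_le).trans (by norm_num)

end Cfsg.Agent.LeechFischer17
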