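import Cfsg.Agent.Lib.LeechFischer17Frames
import Cfsg.Agent.Lib.LeechFischer17Perm

/-!
The centraliser of `u` in `Co0` is `3 × 6.U4(3).2`: modulo the kernel of its action on the classes of
fixed vectors it has a normal subgroup of order 3 and above it `U4(3)` with index 2, and no nontrivial
normal 2-subgroup.
-/

set_option autoImplicit false
set_option linter.style.haveILetI false

open scoped Pointwise

namespace Cfsg.Agent.LeechFischer17

open Cfsg Cfsg.Agent.GolayBasic Cfsg.Agent.LeechBasic Cfsg.Agent.LeechAut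
open Cfsg.Agent.LeechCert Cfsg.Agent.LeechOutTool Cfsg.Agent.LeechOrbit Cfsg.Agent.PermImageCert
open Cfsg.Agent.LeechIndex

instance finite_W : Finite W :=
  haveI := LeechOrder.finite_Co0
  Subtype.finite

instance finite_T : Finite T :=
  haveI := LeechOrder.finite_Co0
  Subtype.finite

theorem uC_smul_frame : uC • frame none = frame none := by
  refine Subtype.ext ?_
  rw [uC, El_frame uStep_valid]
  funext p
  rw [uC_table none p]
  show _ = unitVec 8 none p
  revert p
  decide +kernel

/-! ### The order of the centraliser -/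

/-- The classes of norm 64. -/
def big : Finset (Fin 4096) := Finset.univ.filter fun c : Fin 4096 => nrm (rd (c : ℕ)) = 64

theorem card_big : big.card = 1701 := by decide +kernel

theorem exists_big (g : W) : ∃ c ∈ big,
    (((g : Co0) • frame none : leechLattice) : GolayPt → ℤ) - (rvL c : GolayPt → ℤ) ∈ twiceLeech := by
  obtain ⟨c, hc⟩ := exists_class (smul_fixed g.2 uC_smul_frame)
  refine ⟨c, Finset.mem_filter.mpr ⟨Finset.mem_univ _, ?_⟩, hc⟩
  have hx : sqNorm (((g : Co0) • frame none : leechLattice) : GolayPt → ℤ) = 64 := by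
    rw [sqNorm_smul, sqNorm_frame]
  have hy : sqNorm (rv c) = 64 := by
    rcases LeechMod2.congr_short (rv_mem c.2) hc hx.le (sqNorm_rv_le c.2) with h | h | h
    · rw [← h]; exact hx
    · have h' : rv (c : ℕ) = -(((g : Co0) • frame none : leechLattice) : GolayPt → ℤ) := by
        rw [h, neg_neg]
      rw [h', ← hx]
      exact Finset.sum_congr rfl fun p _ => by rw [Pi.neg_apply]; ring
    · exact h.2.1
  rw [rv, nrm_eq] at hy
  exact_mod_cast hy

theorem card_W_le : Nat.card W ≤ 117573120 := by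
  classical
  choose f hf hfc using exists_big
  have hb : ∀ g : W, (Function.invFun f (f g) : W)⁻¹ * g ∈ (LeechStab.mono ⊓ W).subgroupOf W := by
    intro g
    set a := Function.invFun f (f g) with ha
    have e : f a = f g := Function.invFun_eq ⟨g, rfl⟩
    refine Subgroup.mem_subgroupOf.mpr ⟨?_, (a⁻¹ * g).2⟩
    show ((a⁻¹ * g : W) : Co0) ∈ LeechStab.mono
    rw [← LeechStab.classStab_frame, LeechStab.mem_classStab, Subgroup.coe_mul, Subgroup.coe_inv]
    have hd : (((g : Co0) • frame none : leechLattice) : GolayPt → ℤ) -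
        (((a : Co0) • frame none : leechLattice) : GolayPt → ℤ) ∈ twiceLeech := by
      have ha' := hfc a
      rw [e] at ha'
      convert sub_mem (hfc g) ha' using 1
      abel
    have h1 := smul_twice ((a : Co0)⁻¹) hd
    rwa [inv_smul_smul, ← mul_smul] at h1
  let F : W → big × ↥((LeechStab.mono ⊓ W).subgroupOf W) := fun g =>
    (⟨f g, hf g⟩, ⟨_, hb g⟩)
  have hF : Function.Injective F := by
    intro a b h
    simp only [F, Prod.ext_iff, Subtype.ext_iff] at h
    have h1 : f a = f b := by exact h.1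
    have h2 : (Function.invFun f (f a))⁻¹ * a = (Function.invFun f (f b))⁻¹ * b := Subtype.ext (Subtype.ext (by exact h.2))
    rw [h1] at h2
    exact mul_left_cancel h2
  refine (Nat.card_le_card_of_injective F hF).trans ?_
  rw [Nat.card_prod, Nat.card_eq_finsetCard, card_big,
    Nat.card_congr (Subgroup.subgroupOfEquivOfLe (inf_le_right : LeechStab.mono ⊓ W ≤ W)).toEquiv]
  exact (Nat.mul_le_mul_left _ card_monoW_le).trans (by norm_num)

/-! ### The kernel on the frames -/

theorem negAut_mem_W : negAut ∈ W :=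
  mem_W.mpr (Subgroup.mem_center_iff.mp negAut_mem_center uC).symm

theorem neg_frame (k : Fin 112) : negAut • frameSet k = frameSet ((1 : Equiv.Perm (Fin 112)) k) := by
  refine smul_frame_eq (σ := 1) (fun k => ?_) k
  rintro _ ⟨v, ⟨c, hc, hv⟩, rfl⟩
  refine ⟨c, hc, ?_⟩
  show negAut • v = _ ∨ negAut • v = _
  rcases hv with rfl | rfl
  · exact Or.inr (negAut_smul _)
  · exact Or.inl (by rw [negAut_smul, neg_neg])

theorem uC_frame (k : Fin 112) : uC • frameSet k = frameSet ((1 : Equiv.Perm (Fin 112)) k) := by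
  refine smul_frame_eq (σ := 1) (fun k => ?_) k
  rintro _ ⟨v, ⟨c, hc, hv⟩, rfl⟩
  refine ⟨c, hc, ?_⟩
  show uC • v = _ ∨ uC • v = _
  rcases hv with rfl | rfl
  · exact Or.inl (uC_smul_rvL c)
  · exact Or.inr (by rw [smul_neg_vec, uC_smul_rvL])

/-- `-1` in the group. -/
noncomputable def negT : T := ⟨negAut, mem_T negAut_mem_W neg_frame⟩

/-- `u` in the group. -/
noncomputable def uT : T := ⟨uC, mem_T uC_mem_W uC_frame⟩

/-- Into the centraliser. -/
noncomputable def toW : T →* W := Subgroup.inclusion inf_le_left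

theorem img_negT (c : Fin 4096) : img (toW negT) c = c := by
  refine img_eq ?_
  show ((negAut • rvL c : leechLattice) : GolayPt → ℤ) - _ ∈ twiceLeech
  rw [negAut_smul, AddSubgroup.coe_neg]
  convert neg_mem (two_nsmul_mem (rvL c).2) using 1
  rw [two_nsmul]; abel

theorem img_uT (c : Fin 4096) : img (toW uT) c = c := by
  refine img_eq ?_
  show ((uC • rvL c : leechLattice) : GolayPt → ℤ) - _ ∈ twiceLeech
  rw [uC_smul_rvL, sub_self]
  exact zero_mem _

theorem negT_mem_ker : negT ∈ frameHom.ker := MonoidHom.mem_ker.mpr (frameHom_eq neg_frame)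

theorem uT_mem_ker : uT ∈ frameHom.ker := MonoidHom.mem_ker.mpr (frameHom_eq uC_frame)

theorem negT_ker : toW negT ∈ actHom.ker := MonoidHom.mem_ker.mpr (Equiv.ext img_negT)

theorem uT_ker : toW uT ∈ actHom.ker := MonoidHom.mem_ker.mpr (Equiv.ext img_uT)

/-- Eighteen elements of the kernel. -/
noncomputable def kerElt (q : Fin 3 × Fin 2 × Fin 3) : T :=
  nT ^ (q.1 : ℕ) * (negT ^ (q.2.1 : ℕ) * uT ^ (q.2.2 : ℕ))

theorem kerElt_mem (q : Fin 3 × Fin 2 × Fin 3) : kerElt q ∈ frameHom.ker :=
  mul_mem (pow_mem nT_mem_ker _) (mul_mem (pow_mem negT_mem_ker _) (pow_mem uT_mem_ker _))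

theorem img_of_code {w : List Step} (hw : wordValid w = true) {g : W} (hg : (g : Co0) = El w)
    {c d : Fin 4096} (h : applyWord w (rd c) = rd d ∨ applyWord w (rd c) = negCode (rd d)) : img g c = d := by
  refine img_eq ?_
  rw [hg]
  rcases smul_rvL_of_code hw h with e | e <;> rw [e]
  · rw [sub_self]; exact zero_mem _
  · rw [AddSubgroup.coe_neg]
    convert neg_mem (two_nsmul_mem (rvL d).2) using 1
    rw [two_nsmul]; abel

theorem actHom_kerElt (q : Fin 3 × Fin 2 × Fin 3) :
    img (toW (kerElt q)) 66 = [(66 : Fin 4096), 1070, 1132].getD q.1 0 := by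
  have hA : toW (negT ^ (q.2.1 : ℕ) * uT ^ (q.2.2 : ℕ)) ∈ actHom.ker := by
    rw [map_mul, map_pow, map_pow]
    exact mul_mem (pow_mem negT_ker _) (pow_mem uT_ker _)
  rw [kerElt, map_mul, img_mul, ← actHom_apply (toW _) 66, MonoidHom.mem_ker.mp hA, Equiv.Perm.one_apply,
    map_pow]
  have h := nword_moves
  simp only [Bool.and_eq_true, Bool.or_eq_true, beq_iff_eq, decide_eq_true_eq] at h
  have hn : ((toW nT : W) : Co0) = El (catWord nIdx) := coe_catT nIdx
  have e1 := img_of_code (catWord_valid nIdx) hn (c := 66) (d := 1070) h.1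
  have e2 := img_of_code (catWord_valid nIdx) hn (c := 1070) (d := 1132) h.2
  obtain ⟨i, hi⟩ := q.1
  show img (toW nT ^ i) 66 = _
  interval_cases i
  · rw [pow_zero, img_one]; rfl
  · rw [pow_one, e1]; rfl
  · rw [pow_two, img_mul, e1, e2]; rfl

theorem small_injective {s s' : Fin 2} {j j' : Fin 3}
    (h : negAut ^ (s : ℕ) * uC ^ (j : ℕ) = negAut ^ (s' : ℕ) * uC ^ (j' : ℕ)) : s = s' ∧ j = j' := by
  have hu : ∀ n : ℕ, uC ^ n • frame none = frame none := by
    intro n
    induction n with
    | zero => rw [pow_zero, one_smul]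
    | succ n ih => rw [pow_succ, mul_smul, uC_smul_frame, ih]
  have hs : s = s' := by
    have h1 := congrArg (fun g : Co0 => g • frame none) h
    simp only [mul_smul, hu] at h1
    have hne : frame none ≠ -frame none := LeechStab.ne_neg (by rw [sqNorm_frame]; norm_num)
    obtain ⟨a, ha⟩ := s
    obtain ⟨b, hb⟩ := s'
    refine Fin.ext ?_
    show a = b
    interval_cases a <;> interval_cases b
    · rfl
    · simp only [pow_zero, pow_one, one_smul, negAut_smul] at h1; exact absurd h1 hne
    · simp only [pow_zero, pow_one, one_smul, negAut_smul] at h1; exact absurd h1.symm hne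
    · rfl
  subst hs
  have h2 := mul_left_cancel h
  have ho : orderOf uC = 3 := orderOf_eq_prime uC_pow uC_ne_one
  exact ⟨rfl, Fin.ext (pow_injOn_Iio_orderOf (by rw [ho]; exact j.2) (by rw [ho]; exact j'.2) h2)⟩

theorem kerElt_injective : Function.Injective kerElt := by
  rintro ⟨i, s, j⟩ ⟨i', s', j'⟩ h
  have h1 : [(66 : Fin 4096), 1070, 1132].getD i 0 = [(66 : Fin 4096), 1070, 1132].getD i' 0 := by
    rw [← actHom_kerElt (i, s, j), ← actHom_kerElt (i', s', j'), h]
  have key : ∀ i i' : Fin 3, [(66 : Fin 4096), 1070, 1132].getD i 0 = [(66 : Fin 4096), 1070, 1132].getD i' 0 →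
      i = i' := by decide
  obtain rfl : i = i' := key i i' h1
  have h2 := congrArg (fun g : T => (g : Co0)) (mul_left_cancel h)
  simp only [Subgroup.coe_mul, SubgroupClass.coe_pow] at h2
  obtain ⟨rfl, rfl⟩ := small_injective h2
  rfl

theorem card_ker_ge : 18 ≤ Nat.card frameHom.ker := by
  have := Nat.card_le_card_of_injective (fun q => (⟨kerElt q, kerElt_mem q⟩ : frameHom.ker))
    fun a b h => kerElt_injective (congrArg Subtype.val h)
  simpa using this

theorem card_T_facts : T = W ∧ Nat.card frameHom.ker = 18 ∧ Nat.card frameHom.range = 6531840 := by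
  haveI := LeechOrder.finite_Co0
  have h1 : Nat.card T = Nat.card frameHom.range * Nat.card frameHom.ker := by
    rw [Subgroup.card_eq_card_quotient_mul_card_subgroup frameHom.ker,
      Nat.card_congr (QuotientGroup.quotientKerEquivRange frameHom).toEquiv]
  have h2 : Nat.card T ≤ Nat.card W := Subgroup.card_le_of_le inf_le_left
  have h3 := card_range_ge
  have h4 := card_ker_ge
  have h5 := card_W_le
  have hk : Nat.card frameHom.ker = 18 := by nlinarith
  have hr : Nat.card frameHom.range = 6531840 := by nlinarith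
  refine ⟨Subgroup.eq_of_le_of_card_ge inf_le_left ?_, hk, hr⟩
  rw [h1, hk, hr]
  exact h5

theorem mem_T_of_mem_W {g : Co0} (h : g ∈ W) : g ∈ T := by rw [card_T_facts.1]; exact h

/-- The action of the centraliser on the frames. -/
noncomputable def wHom : W →* Equiv.Perm (Fin 112) :=
  frameHom.comp (Subgroup.inclusion card_T_facts.1.symm.le)

theorem wHom_range : wHom.range = frameHom.range := by
  refine le_antisymm (fun σ hσ => ?_) (fun σ hσ => ?_)
  · obtain ⟨g, rfl⟩ := hσ; exact ⟨_, rfl⟩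
  · obtain ⟨g, rfl⟩ := hσ; exact ⟨toW g, congrArg frameHom (Subtype.ext rfl)⟩

theorem card_W : Nat.card W = 117573120 := by
  rw [← card_T_facts.1, Subgroup.card_eq_card_quotient_mul_card_subgroup frameHom.ker,
    Nat.card_congr (QuotientGroup.quotientKerEquivRange frameHom).toEquiv, card_T_facts.2.1, card_T_facts.2.2]

theorem card_wHom_range : Nat.card wHom.range = 6531840 := by rw [wHom_range]; exact card_T_facts.2.2

theorem card_wHom_ker : Nat.card wHom.ker = 18 := by
  have h := Subgroup.card_eq_card_quotient_mul_card_subgroup wHom.ker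
  rw [Nat.card_congr (QuotientGroup.quotientKerEquivRange wHom).toEquiv, card_wHom_range, card_W] at h
  omega

theorem frames_norm : PermImageCert.allBelow (fun k => (fr k).all fun c => Nat.blt (nrm (rd c)) 64) 112 = true := by
  decide +kernel

theorem actHom_ker_le : actHom.ker ≤ wHom.ker := by
  intro g hg
  refine MonoidHom.mem_ker.mpr (frameHom_eq (σ := 1) (smul_frame_eq fun k => ?_))
  rintro _ ⟨v, ⟨c, hc, hv⟩, rfl⟩
  refine ⟨c, hc, ?_⟩
  show (g : Co0) • v = _ ∨ (g : Co0) • v = _
  have hn : sqNorm (rvL c : GolayPt → ℤ) < 64 := by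
    rw [coe_rvL, rv, nrm_eq]
    have := List.all_eq_true.mp (allBelow_spec frames_norm k k.2) _ hc
    rw [Nat.blt_eq] at this
    exact_mod_cast this
  have key : (g : Co0) • rvL c = rvL c ∨ (g : Co0) • rvL c = -rvL c := by
    rcases LeechMod2.congr_short (rvL c).2 (smul_congr_of_ker hg (uC_smul_rvL c))
      (by rw [sqNorm_smul]; exact hn.le) hn.le with h | h | h
    · exact Or.inl (Subtype.ext h)
    · exact Or.inr (Subtype.ext h)
    · omega
  rcases hv with rfl | rfl <;> rcases key with e | e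
  · exact Or.inl e
  · exact Or.inr e
  · exact Or.inr (by rw [smul_neg_vec, e])
  · exact Or.inl (by rw [smul_neg_vec, e, neg_neg])

/-- The eighteen elements of the kernel in the centraliser. -/
noncomputable def kerEquiv : Fin 3 × Fin 2 × Fin 3 ≃ wHom.ker :=
  Equiv.ofBijective
    (fun q => ⟨toW (kerElt q), MonoidHom.mem_ker.mpr
      (show frameHom _ = 1 from (congrArg frameHom (Subtype.ext rfl)).trans (MonoidHom.mem_ker.mp (kerElt_mem q)))⟩)
    ((Nat.bijective_iff_injective_and_card _).mpr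
      ⟨fun a b h => kerElt_injective (Subgroup.inclusion_injective _ (congrArg Subtype.val h)), by
        rw [card_wHom_ker]; simp⟩)

theorem card_actHom_ker : Nat.card actHom.ker = 6 := by
  refine le_antisymm ?_ ?_
  · have hsurj : ∀ g : actHom.ker, ∃ q : Fin 2 × Fin 3, toW (kerElt (0, q)) = g := by
      rintro ⟨g, hg⟩
      obtain ⟨⟨i, q⟩, hq⟩ := kerEquiv.surjective ⟨g, actHom_ker_le hg⟩
      have hq' : toW (kerElt (i, q)) = g := congrArg Subtype.val hq
      have h1 : img g 66 = 66 := by rw [← actHom_apply, MonoidHom.mem_ker.mp hg]; rfl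
      rw [← hq', actHom_kerElt] at h1
      have key : ∀ i : Fin 3, [(66 : Fin 4096), 1070, 1132].getD i 0 = 66 → i = 0 := by decide
      obtain rfl : i = 0 := key i h1
      exact ⟨q, hq'⟩
    choose f hf using hsurj
    have := Nat.card_le_card_of_injective f fun a b h => Subtype.ext (by rw [← hf a, ← hf b, h])
    simpa using this
  · have := Nat.card_le_card_of_injective
      (fun q : Fin 2 × Fin 3 => (⟨toW (negT ^ (q.1 : ℕ) * uT ^ (q.2 : ℕ)), by
        rw [map_mul, map_pow, map_pow]
        exact mul_mem (pow_mem negT_ker _) (pow_mem uT_ker _)⟩ : actHom.ker))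
      fun a b h => by
        have h' := congrArg (fun x : W => (x : Co0)) (congrArg Subtype.val h)
        simp only [toW, Subgroup.coe_inclusion, Subgroup.coe_mul, SubgroupClass.coe_pow] at h'
        obtain ⟨e1, e2⟩ := small_injective h'
        exact Prod.ext e1 e2
    simpa using this

/-! ### The unitary group -/

/-- The simple group inside. -/
noncomputable def U43 : Subgroup (Equiv.Perm (Fin 112)) := genGroup 112 (LeechUnitary43.perms.map Prod.fst)

theorem their_mem : LeechUnitary43.perms.map Prod.fst =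
    [(allCodes perms ++ slp.map fun o => o.2.2).getD 20 0, (allCodes perms ++ slp.map fun o => o.2.2).getD 34 0] := by
  decide +kernel

theorem U43_le : U43 ≤ wHom.range := by
  rw [wHom_range, U43, genGroup, Subgroup.closure_le]
  rintro σ ⟨P, hP, hσ⟩
  have hmem : P ∈ allCodes perms ++ slp.map fun o => o.2.2 := by
    rw [their_mem] at hP
    simp only [List.mem_cons, List.not_mem_nil, or_false] at hP
    rcases hP with rfl | rfl <;>
      · rw [List.getD_eq_getElem _ _ (by decide +kernel)]; exact List.getElem_mem _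
  obtain ⟨τ, hτ, hτP⟩ := inGroup_slp slp _ slp_ok (inGroup_allCodes perms_ok) P hmem
  exact genGroup_le_range (hσ.unique hτP ▸ hτ)

theorem U43_iso (F : Type) [Field F] [Fintype F] (hF : Fintype.card F = 9) :
    Nonempty (PSU 4 F 3 ≃* U43) := by
  obtain ⟨s, hs, hsp⟩ := UnitaryImageFields.gen_nine hF
  have hgen : UnitaryImage.GenOK LeechUnitary43.field s :=
    { tables := LeechUnitary43.tables_ok
      char := UnitaryImageFields.cast_char (k := 2) Nat.prime_three (by rw [hF]; rfl)
      sq := by simp [LeechUnitary43.field, hs]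
      frob := by simpa [LeechUnitary43.field] using hsp
      prime := Nat.prime_three }
  obtain ⟨e⟩ := UnitaryImage.exists_iso hgen (n := 4) (r := 2) (N := 112) (by norm_num)
    (show Fintype.card F = 3 ^ 2 by rw [hF]; rfl)
    LeechUnitary43.subspaces LeechUnitary43.annihilators LeechUnitary43.distinct_ok
    (LeechUnitary43.matrices.zip (LeechUnitary43.perms.map Prod.fst)) LeechUnitary43.matrices_ok
    (by
      rw [LeechUnitary43.matrices_map]
      exact transitive_of_tree LeechUnitary43.perms_ok LeechUnitary43.slp_ok LeechUnitary43.chain_ok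
        LeechUnitary43.tree_length)
    (M := 3265920) (by rw [LeechUnitary43.matrices_map]; exact LeechUnitary43.le_card)
    (UnitaryImageFields.card_PSU43 hF)
  exact ⟨e.trans (MulEquiv.subgroupCongr (by rw [LeechUnitary43.matrices_map]; rfl))⟩

theorem exists_field9 : ∃ (K : Type) (_ : Field K) (_ : Fintype K), Fintype.card K = 9 :=
  letI := Fintype.ofFinite (GaloisField 3 2)
  ⟨GaloisField 3 2, inferInstance, this, by
    rw [← Nat.card_eq_fintype_card, GaloisField.card 3 2 (by norm_num)]; norm_num⟩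

theorem card_U43 : Nat.card U43 = 3265920 := by
  obtain ⟨K, _, _, hK⟩ := exists_field9
  obtain ⟨e⟩ := U43_iso K hK
  rw [← Nat.card_congr e.toEquiv, UnitaryImageFields.card_PSU43 hK]

/-- The subgroup of index 2. -/
noncomputable def MW : Subgroup W := U43.comap wHom

theorem index_MW : MW.index = 2 := by
  rw [MW, Subgroup.index_comap]
  have h := Subgroup.card_mul_index (U43.subgroupOf wHom.range)
  rw [Nat.card_congr (Subgroup.subgroupOfEquivOfLe U43_le).toEquiv, card_U43, card_wHom_range] at h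
  rw [Subgroup.relIndex]
  omega

theorem MW_normal : MW.Normal := Subgroup.normal_of_index_eq_two index_MW

theorem wHom_ker_le_MW : wHom.ker ≤ MW := Subgroup.ker_le_comap wHom U43

/-! ### No normal 2-subgroup -/

/-- Orbit of a point under the elements fixing the first. -/
def orb (x : Fin 112) : Set (Fin 112) :=
  {y | ∃ σ ∈ fixSub (genGroup 112 (perms.map Prod.fst)) [0], σ x = y}

theorem trees_ok : treeOK 112 (allCodes perms ++ slp.map fun o => o.2.2) [0] (1 <<< 1) tree1 = true ∧
    treeOK 112 (allCodes perms ++ slp.map fun o => o.2.2) [0] (1 <<< 11) treeB = true ∧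
    tree1.length + 1 = 81 ∧ treeB.length + 1 = 30 ∧
    (List.range 112).all (fun x => x == 0 || x == 1 || x == 11 || (tree1.map (· % 1024)).elem x ||
      (treeB.map (· % 1024)).elem x) = true := by
  decide +kernel

theorem tree_mem {T : List ℕ} {H : Subgroup (Equiv.Perm (Fin 112))} (hT : ∀ P ∈ T, ∃ σ ∈ H, Rep σ P)
    (pre : List ℕ) (b : Fin 112) : ∀ (es : List ℕ) (mask : ℕ), treeOK 112 T pre mask es = true →
    (∀ p : Fin 112, mask.testBit p = true → ∃ σ ∈ fixSub H pre, σ b = p) →
    ∀ e ∈ es, ∀ p : Fin 112, (p : ℕ) = e % 1024 → ∃ σ ∈ fixSub H pre, σ b = p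
  | [], _, _, _, e, he => absurd he List.not_mem_nil
  | a :: es, mask, h, hS, e, he => by
    simp only [treeOK, Bool.and_eq_true, Nat.blt_eq, Nat.beq_eq, List.all_eq_true] at h
    obtain ⟨⟨⟨⟨⟨⟨⟨hp, hq⟩, hg⟩, hmq⟩, -⟩, hget⟩, hpre⟩, hrest⟩ := h
    obtain ⟨σ, hσ, hσr⟩ := hT (T.getD (Nat.div a 1048576) 0) (by
      rw [List.getD_eq_getElem _ _ hg]; exact List.getElem_mem _)
    have hσf : σ ∈ fixSub H pre := ⟨hσ, fun k hk => Fin.ext ((hσr k).trans (hpre _ hk))⟩
    obtain ⟨τ, hτ, hτb⟩ := hS ⟨_, hq⟩ hmq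
    have hnew : ∀ p : Fin 112, (p : ℕ) = Nat.mod a 1024 → ∃ σ ∈ fixSub H pre, σ b = p := fun p hp' =>
      ⟨σ * τ, mul_mem hσf hτ, by
        rw [Equiv.Perm.mul_apply, hτb]; exact Fin.ext ((hσr _).trans (hget.trans hp'.symm))⟩
    rcases List.mem_cons.mp he with rfl | he
    · exact hnew
    · refine tree_mem hT pre b es _ hrest (fun p hp' => ?_) e he
      rw [Nat.testBit_or, Bool.or_eq_true] at hp'
      rcases hp' with hp' | hp'
      · exact hS p hp'
      · rw [Nat.one_shiftLeft, Nat.testBit_two_pow, decide_eq_true_eq] at hp'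
        exact hnew p hp'.symm

theorem known_mem : ∀ P ∈ allCodes perms ++ slp.map (fun o => o.2.2),
    ∃ σ ∈ genGroup 112 (perms.map Prod.fst), Rep σ P :=
  inGroup_slp slp _ slp_ok (inGroup_allCodes perms_ok)

theorem orb_large {x : Fin 112} (hx : (x : ℕ) ≠ 0) : 30 ≤ (orb x).ncard := by
  obtain ⟨h1, h2, l1, l2, hcov⟩ := trees_ok
  have hb : ∀ (b : Fin 112) (es : List ℕ),
      treeOK 112 (allCodes perms ++ slp.map fun o => o.2.2) [0] (1 <<< (b : ℕ)) es = true →
      es.length + 1 ≤ (orb b).ncard ∧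
        ∀ p : Fin 112, ((p : ℕ) = b ∨ (p : ℕ) ∈ es.map (· % 1024)) → p ∈ orb b := by
    intro b es h
    have hone : ∀ p : Fin 112, (1 <<< (b : ℕ)).testBit p = true →
        ∃ σ ∈ fixSub (genGroup 112 (perms.map Prod.fst)) [0], σ b = p := fun p hp => by
      rw [Nat.one_shiftLeft, Nat.testBit_two_pow, decide_eq_true_eq] at hp
      exact ⟨1, one_mem _, Fin.ext hp⟩
    constructor
    · obtain ⟨S, hS, hS'⟩ := tree_spec known_mem [0] b es _ h {b} (fun p => by
        rw [Nat.one_shiftLeft, Nat.testBit_two_pow, decide_eq_true_eq, Finset.mem_singleton, Fin.ext_iff]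
        exact ⟨Eq.symm, Eq.symm⟩) (fun p hp => ⟨1, one_mem _, by rw [Finset.mem_singleton] at hp; rw [hp]; rfl⟩)
      rw [show es.length + 1 = S.card by rw [hS, Finset.card_singleton]; omega, ← Set.ncard_coe_finset]
      exact Set.ncard_le_ncard (fun p hp => hS' p hp) (Set.toFinite _)
    · rintro p (hp | hp)
      · exact hone p (by rw [Nat.one_shiftLeft, Nat.testBit_two_pow, decide_eq_true_eq, hp])
      · obtain ⟨e, he, hep⟩ := List.mem_map.mp hp
        exact tree_mem known_mem [0] b es _ h hone e he p hep.symm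
  have hsame : ∀ b : Fin 112, x ∈ orb b → orb b ⊆ orb x := by
    rintro b ⟨σ, hσ, rfl⟩ y ⟨τ, hτ, rfl⟩
    exact ⟨τ * σ⁻¹, mul_mem hτ (inv_mem hσ), by
      rw [Equiv.Perm.mul_apply, Equiv.Perm.inv_def, Equiv.symm_apply_apply]⟩
  have hc := List.all_eq_true.mp hcov x (List.mem_range.mpr x.2)
  simp only [Bool.or_eq_true, beq_iff_eq, List.elem_iff] at hc
  obtain ⟨g1, m1⟩ := hb ⟨1, by norm_num⟩ tree1 h1
  obtain ⟨g2, m2⟩ := hb ⟨11, by norm_num⟩ treeB h2
  rcases hc with (((h | h) | h) | h) | h
  · exact absurd h hx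
  · exact le_trans (by omega) (g1.trans (Set.ncard_le_ncard (hsame _ (m1 x (Or.inl h))) (Set.toFinite _)))
  · exact le_trans (by omega) (g2.trans (Set.ncard_le_ncard (hsame _ (m2 x (Or.inl h))) (Set.toFinite _)))
  · exact le_trans (by omega) (g1.trans (Set.ncard_le_ncard (hsame _ (m1 x (Or.inr h))) (Set.toFinite _)))
  · exact le_trans (by omega) (g2.trans (Set.ncard_le_ncard (hsame _ (m2 x (Or.inr h))) (Set.toFinite _)))

theorem transitive (k : Fin 112) : ∃ σ ∈ wHom.range, (σ k : ℕ) = 0 := by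
  obtain ⟨σ, hσ, h⟩ := transitive_of_tree LeechUnitary43.perms_ok LeechUnitary43.slp_ok LeechUnitary43.chain_ok
    LeechUnitary43.tree_length k
  exact ⟨σ, U43_le hσ, h⟩

theorem range_no_normal_two (P : Subgroup wHom.range) [P.Normal] (hP : IsPGroup 2 P) : P = ⊥ := by
  haveI : MulAction.IsPretransitive wHom.range (Fin 112) := ⟨fun a b => by
    obtain ⟨σ, hσ, ha⟩ := transitive a
    obtain ⟨τ, hτ, hb⟩ := transitive b
    refine ⟨⟨τ⁻¹ * σ, mul_mem (inv_mem hτ) hσ⟩, ?_⟩
    show (τ⁻¹ * σ) a = b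
    rw [Equiv.Perm.mul_apply, show σ a = τ b from Fin.ext (ha.trans hb.symm), Equiv.Perm.inv_def,
      Equiv.symm_apply_apply]⟩
  set D := MulAction.orbit P (0 : Fin 112) with hD
  have hblock : MulAction.IsBlock wHom.range D := MulAction.IsBlock.orbit_of_normal 0
  have hdvd : D.ncard ∣ 112 := by
    have := hblock.ncard_dvd_card ⟨0, MulAction.mem_orbit_self _⟩
    simpa using this
  have hpow : ∃ n, D.ncard = 2 ^ n := by
    haveI : Fact (Nat.Prime 2) := ⟨Nat.prime_two⟩
    obtain ⟨n, hn⟩ := hP.card_orbit (0 : Fin 112)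
    exact ⟨n, by rw [← Nat.card_coe_set_eq]; exact hn⟩
  have hsmall : ∀ x ∈ D, (x : ℕ) = 0 := by
    intro x hx
    by_contra hne
    have hsub : insert 0 (orb x) ⊆ D := by
      rw [Set.insert_subset_iff]
      refine ⟨MulAction.mem_orbit_self _, ?_⟩
      rintro y ⟨σ, hσ, rfl⟩
      obtain ⟨⟨p, hp⟩, rfl⟩ := hx
      have hσr : σ ∈ wHom.range := by rw [wHom_range]; exact genGroup_le_range hσ.1
      have h0 : σ 0 = 0 := hσ.2 0 (by simp)
      refine ⟨⟨⟨σ, hσr⟩ * p * ⟨σ, hσr⟩⁻¹, (inferInstance : P.Normal).conj_mem p hp _⟩, ?_⟩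
      show (σ * (p : Equiv.Perm (Fin 112)) * σ⁻¹) 0 = σ ((p : Equiv.Perm (Fin 112)) 0)
      rw [Equiv.Perm.mul_apply, Equiv.Perm.mul_apply, show σ⁻¹ 0 = 0 by rw [Equiv.Perm.inv_eq_iff_eq, h0]]
    have h0 : (0 : Fin 112) ∉ orb x := by
      rintro ⟨σ, hσ, h⟩
      exact hne (congrArg Fin.val (σ.injective (h.trans (hσ.2 0 (by simp)).symm)))
    have h1 : 31 ≤ D.ncard := by
      refine le_trans ?_ (Set.ncard_le_ncard hsub (Set.toFinite _))
      rw [Set.ncard_insert_of_notMem h0 (Set.toFinite _)]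
      have := orb_large hne
      omega
    obtain ⟨n, hn⟩ := hpow
    rw [hn] at h1 hdvd
    have h5 : 5 ≤ n := by
      by_contra hh
      have : 2 ^ n ≤ 2 ^ 4 := Nat.pow_le_pow_right (by norm_num) (by omega)
      omega
    have := (pow_dvd_pow 2 h5).trans hdvd
    norm_num at this
  rw [eq_bot_iff]
  intro p hp
  rw [Subgroup.mem_bot]
  refine Subtype.ext (Equiv.ext fun k => ?_)
  obtain ⟨σ, hσ, hk⟩ := transitive k
  have hmem : (⟨σ, hσ⟩ * p * ⟨σ, hσ⟩⁻¹ : wHom.range) • (0 : Fin 112) ∈ D :=
    ⟨⟨_, (inferInstance : P.Normal).conj_mem p hp _⟩, rfl⟩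
  have hk0 : σ k = (0 : Fin 112) := Fin.ext hk
  have h1 := hsmall _ hmem
  have h2 : (σ * (p : Equiv.Perm (Fin 112)) * σ⁻¹) 0 = (0 : Fin 112) := Fin.ext h1
  rw [Equiv.Perm.mul_apply, Equiv.Perm.mul_apply, show σ⁻¹ 0 = k by rw [Equiv.Perm.inv_eq_iff_eq, hk0]] at h2
  exact σ.injective (h2.trans hk0.symm)

theorem two_core_trivial (P : Subgroup W) [P.Normal] (hle : actHom.ker ≤ P) {n : ℕ}
    (hP : Nat.card P = 6 * 2 ^ n) : P = actHom.ker := by
  have hsurj : Function.Surjective wHom.rangeRestrict := MonoidHom.rangeRestrict_surjective _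
  haveI : (P.map wHom.rangeRestrict).Normal := (inferInstance : P.Normal).map _ hsurj
  have hq : IsPGroup 2 (P.map wHom.rangeRestrict) := by
    let f := (wHom.rangeRestrict).subgroupMap P
    have hker : actHom.ker.subgroupOf P ≤ f.ker := fun x hx => MonoidHom.mem_ker.mpr (Subtype.ext (Subtype.ext
      (MonoidHom.mem_ker.mp (actHom_ker_le hx))))
    have hd : Nat.card (P.map wHom.rangeRestrict) ∣ (actHom.ker.subgroupOf P).index := by
      rw [← Nat.card_congr (QuotientGroup.quotientKerEquivOfSurjective f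
        (MonoidHom.subgroupMap_surjective _ _)).toEquiv, ← Subgroup.index_eq_card]
      exact Subgroup.index_dvd_of_le hker
    have hi : (actHom.ker.subgroupOf P).index = 2 ^ n := by
      have h := Subgroup.card_mul_index (actHom.ker.subgroupOf P)
      rw [Nat.card_congr (Subgroup.subgroupOfEquivOfLe hle).toEquiv, card_actHom_ker, hP] at h
      omega
    rw [hi] at hd
    obtain ⟨k, -, hk⟩ := (Nat.dvd_prime_pow Nat.prime_two).mp hd
    exact IsPGroup.of_card hk
  have hbot := range_no_normal_two _ hq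
  have hPk : P ≤ wHom.ker := fun x hx => by
    have h1 : wHom.rangeRestrict x ∈ P.map wHom.rangeRestrict := ⟨x, hx, rfl⟩
    rw [hbot, Subgroup.mem_bot] at h1
    exact MonoidHom.mem_ker.mpr (congrArg Subtype.val h1)
  have hdvd : 6 * 2 ^ n ∣ 18 := hP ▸ card_wHom_ker ▸ Subgroup.card_dvd_of_le hPk
  have h3 : 2 ^ n ∣ 3 := (Nat.mul_dvd_mul_iff_left (a := 6) (by norm_num)).mp hdvd
  have hn : n = 0 := by
    by_contra hh
    have := (dvd_pow_self 2 hh).trans h3
    norm_num at this
  refine (Subgroup.eq_of_le_of_card_ge hle ?_).symm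
  rw [hP, hn, card_actHom_ker, pow_zero, mul_one]

end Cfsg.Agent.LeechFischer17
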