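import Cfsg.Agent.Lib.LeechCert

/-!
An element inverting `u` in the code group and its action on the frames; `u` as a commutator.
-/

set_option autoImplicit false

namespace Cfsg.Agent.LeechFischer17
open Cfsg.Agent.LeechCert (Step)

/-- the inverting step -/
def tStep : Step := some (983553010088178266402939871779325984, 0, [(0, false), (5, false), (10, false), (75, false), (30, false), (50, false), (20, false), (65, false), (40, false), (85, false), (25, false), (55, false), (60, false), (35, false), (100, false), (15, false), (95, false), (45, false), (90, false), (80, false), (70, false), (110, false), (105, false), (115, false)])

/-- the first factor -/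
def aStep : Step := some (359659848836789974585607879858968614, 0, [(90, false), (5, false), (105, false), (15, false), (20, false), (85, false), (0, false), (55, false), (115, false), (100, false), (45, false), (65, false), (60, false), (35, false), (70, false), (25, false), (40, false), (75, false), (30, false), (95, false), (50, false), (110, false), (10, false), (80, false)])

/-- the second factor -/
def bStep : Step := some (670381023859483397690428996411690609, 0, [(75, false), (60, false), (35, false), (10, false), (110, false), (100, false), (90, false), (15, false), (80, false), (25, false), (30, false), (20, false), (95, false), (70, false), (105, false), (85, false), (115, false), (0, false), (50, false), (5, false), (45, false), (65, false), (55, false), (40, false)])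

/-- its permutation of the frames and the inverse -/
def tauP : ℕ × ℕ := (0x1946e190550f44c0e86819c661bc6d18c171841c09c5e1145c14c5a0ac1215c331b03b16c520a8500444e0d86a0f84a1242e0dc461744410c20050400fc4b1ac21150690600f11c4d0d40715832018300bc480b40d164510400e17c260940408c130f04207c160646000c1a074391881e054410885813c290e0280b00c02c0a024080d0310142406c0200400, 0x1946e190550f44c0e86819c661bc6d18c171841c09c5e1145c14c5a0ac1215c331b03b16c520a8500444e0d86a0f84a1242e0dc461744410c20050400fc4b1ac21150690600f11c4d0d40715832018300bc480b40d164510400e17c260940408c130f04207c160646000c1a074391881e054410885813c290e0280b00c02c0a024080d0310142406c0200400)

/-- indices of the factors -/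
def tauJ : List ℕ := [80]

/-- the residual -/
def tauR : ℕ := 0x1bc371186c1ac6a1a427160591846418c621944217c310d05316c5a1986715c1e0c04e170521003e0fc5407c0b12c2e03c4811c6d0904406c601045113c500bc160ec09054381b8360d45d0841d178550f44a05c200ac2a0a4051a0260944508c1a0cc2c134560c80d10c22064180b43c0e40c04c12044081240e070141300a0e810010060a00700c0200400

end Cfsg.Agent.LeechFischer17
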