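import Cfsg.Agent.Lib.LeechFischer17Model
import Cfsg.Agent.Lib.LeechFischer17NormData

/-!
An element of `Co0` inverting `u` induces on the 112 frames a permutation outside the group induced by
the centraliser, and `u` is a commutator in the centraliser.
-/

set_option autoImplicit false
set_option linter.style.haveILetI false

open scoped Pointwise commutatorElement

namespace Cfsg.Agent.LeechFischer17

open Cfsg Cfsg.Agent.GolayBasic Cfsg.Agent.LeechBasic Cfsg.Agent.LeechAut
open Cfsg.Agent.LeechCert Cfsg.Agent.LeechOutTool Cfsg.Agent.LeechOrbit Cfsg.Agent.PermImageCert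
open Cfsg.Agent.LeechIndex

theorem tStep_valid : wordValid [tStep] = true := by decide +kernel

theorem aStep_valid : wordValid [aStep] = true := by decide +kernel

theorem bStep_valid : wordValid [bStep] = true := by decide +kernel

/-- An element inverting `u`. -/
noncomputable def tauC : Co0 := El [tStep]

theorem tauC_conj : tauC * uC * tauC⁻¹ = uC⁻¹ := by
  have h := El_eq (a := [tStep] ++ [uStep]) (b := ([uStep] ++ [uStep]) ++ [tStep]) (by decide +kernel)
  rw [El_append tStep_valid uStep_valid, El_append (by decide +kernel) tStep_valid,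
    El_append uStep_valid uStep_valid] at h
  have e2 : uC * uC = uC⁻¹ := eq_inv_of_mul_eq_one_left (by rw [← pow_two, ← pow_succ]; exact uC_pow)
  have h1 : uC * tauC = tauC * uC⁻¹ := by rw [← e2]; exact h
  calc tauC * uC * tauC⁻¹ = uC⁻¹ * (uC * tauC) * uC * tauC⁻¹ := by group
    _ = uC⁻¹ * (tauC * uC⁻¹) * uC * tauC⁻¹ := by rw [h1]
    _ = uC⁻¹ := by group

theorem exists_tauσ : ∃ σ : Equiv.Perm (Fin 112), Rep σ tauP.1 :=
  let ⟨σ, hσ, _⟩ := exists_rep (N := 112) (q := tauP) (by decide +kernel)
  ⟨σ, hσ⟩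

/-- Its permutation of the frames. -/
noncomputable def tauσ : Equiv.Perm (Fin 112) := exists_tauσ.choose

theorem tauσ_rep : Rep tauσ tauP.1 := exists_tauσ.choose_spec

theorem tau_moves : moveOK [tStep] tauP.1 = true := by decide +kernel

theorem tauC_frame (k : Fin 112) : tauC • frameSet k = frameSet (tauσ k) :=
  smul_frame_eq (smul_frame_le tStep_valid tau_moves tauσ_rep) k

theorem chain_fix {N : ℕ} {H : Subgroup (Equiv.Perm (Fin N))} {T : List ℕ}
    (hT : ∀ P ∈ T, ∃ σ ∈ H, Rep σ P) : ∀ (L : List (ℕ × List ℕ)) (pre : List ℕ),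
    chainOK N T pre L = true →
      chainSize L * Nat.card (fixSub H ((L.map Prod.fst).reverse ++ pre)) ≤ Nat.card (fixSub H pre)
  | [], pre, _ => by simp [chainSize]
  | l :: L, pre, h => by
    simp only [chainOK, Bool.and_eq_true, Nat.blt_eq] at h
    obtain ⟨⟨hb, htree⟩, hrest⟩ := h
    obtain ⟨S, hS, hSr⟩ := tree_spec hT pre ⟨l.1, hb⟩ l.2 _ htree {⟨l.1, hb⟩} (fun p => by
        rw [Nat.one_shiftLeft, Nat.testBit_two_pow, decide_eq_true_eq, Finset.mem_singleton, Fin.ext_iff]
        exact ⟨Eq.symm, Eq.symm⟩)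
      (fun p hp => ⟨1, one_mem _, by rw [Finset.mem_singleton] at hp; rw [hp]; rfl⟩)
    let G' := fixSub H pre
    have horb : S.card ≤ (MulAction.orbit G' (⟨l.1, hb⟩ : Fin N)).ncard := by
      rw [← Set.ncard_coe_finset]
      refine Set.ncard_le_ncard (fun p hp => ?_) (Set.toFinite _)
      obtain ⟨σ, hσ, hσb⟩ := hSr p hp
      exact ⟨⟨σ, hσ⟩, hσb⟩
    have hstab : Nat.card (MulAction.stabilizer G' (⟨l.1, hb⟩ : Fin N)) = Nat.card (fixSub H (l.1 :: pre)) :=
      Nat.card_congr
        { toFun := fun g => ⟨g.1.1, g.1.2.1, fun k hk => by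
            rcases List.mem_cons.mp hk with hk | hk
            · have e : k = (⟨l.1, hb⟩ : Fin N) := Fin.ext hk
              rw [e]; exact g.2
            · exact g.1.2.2 k hk⟩
          invFun := fun g => ⟨⟨g.1, g.2.1, fun k hk => g.2.2 k (List.mem_cons_of_mem _ hk)⟩,
            g.2.2 _ List.mem_cons_self⟩
          left_inv := fun _ => rfl
          right_inv := fun _ => rfl }
    have hih := chain_fix hT L (l.1 :: pre) hrest
    rw [show ((l :: L).map Prod.fst).reverse ++ pre = (L.map Prod.fst).reverse ++ l.1 :: pre by simp]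
    calc chainSize (l :: L) * Nat.card (fixSub H ((L.map Prod.fst).reverse ++ l.1 :: pre))
        = (l.2.length + 1) * (chainSize L * Nat.card (fixSub H ((L.map Prod.fst).reverse ++ l.1 :: pre))) :=
          Nat.mul_assoc _ _ _
      _ ≤ (MulAction.orbit G' (⟨l.1, hb⟩ : Fin N)).ncard * Nat.card (fixSub H (l.1 :: pre)) :=
        Nat.mul_le_mul (by rw [Finset.card_singleton] at hS; omega) hih
      _ = Nat.card G' := by
        rw [← hstab, ← MulAction.index_stabilizer, Subgroup.index_mul_card]

theorem resid_ok : PermImageCert.allBelow (fun k =>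
      Nat.beq (get ((allCodes perms ++ slp.map fun o => o.2.2).getD 80 0) (get tauR k)) (get tauP.1 k)) 112 = true ∧
    (allCodes perms ++ slp.map fun o => o.2.2).length > 80 ∧
    ((chain.map Prod.fst).reverse.all fun b => Nat.beq (get tauR b) b) = true ∧ get tauR 4 ≠ 4 := by
  decide +kernel

/-- The permutation lies outside the group induced by the centraliser. -/
theorem tauσ_not_mem : tauσ ∉ wHom.range := by
  intro hmem
  set H := wHom.range with hH
  have hle : genGroup 112 (perms.map Prod.fst) ≤ H := by rw [hH, wHom_range]; exact genGroup_le_range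
  have hT : ∀ P ∈ allCodes perms ++ slp.map (fun o => o.2.2), ∃ σ ∈ H, Rep σ P := fun P hP =>
    let ⟨σ, hσ, h⟩ := known_mem P hP
    ⟨σ, hle hσ, h⟩
  obtain ⟨h1, hlen, hfix, hne⟩ := resid_ok
  have htriv : Nat.card (fixSub H ((chain.map Prod.fst).reverse ++ [])) = 1 := by
    have h := (chain_fix hT chain [] chain_ok).trans (Subgroup.card_le_of_le (fun σ hσ => hσ.1))
    rw [chain_size, card_wHom_range] at h
    have h0 : 0 < Nat.card (fixSub H ((chain.map Prod.fst).reverse ++ [])) := Nat.card_pos
    nlinarith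
  obtain ⟨σ, hσ, hrep⟩ := hT ((allCodes perms ++ slp.map fun o => o.2.2).getD 80 0)
    (by rw [List.getD_eq_getElem _ _ hlen]; exact List.getElem_mem _)
  have hres : ∀ k : Fin 112, (((σ⁻¹ * tauσ) k : Fin 112) : ℕ) = get tauR k := by
    intro k
    have hk := allBelow_spec h1 k k.2
    rw [Nat.beq_eq] at hk
    obtain ⟨j, hj⟩ : ∃ j : Fin 112, (j : ℕ) = get tauR k := by
      refine ⟨⟨get tauR k, ?_⟩, rfl⟩
      have : PermImageCert.allBelow (fun k => Nat.blt (get tauR k) 112) 112 = true := by decide +kernel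
      exact Nat.blt_eq.mp (allBelow_spec this k k.2)
    have e : σ j = tauσ k := Fin.ext (by rw [hrep j, hj, hk, ← tauσ_rep k])
    rw [← hj, Equiv.Perm.mul_apply, ← e, Equiv.Perm.inv_def, Equiv.symm_apply_apply]
  have hmem' : σ⁻¹ * tauσ ∈ fixSub H ((chain.map Prod.fst).reverse ++ []) := by
    refine ⟨mul_mem (inv_mem hσ) hmem, fun k hk => Fin.ext ?_⟩
    rw [List.append_nil] at hk
    rw [hres k]
    exact Nat.beq_eq.mp (List.all_eq_true.mp hfix k hk)
  rw [Subgroup.card_eq_one] at htriv
  rw [htriv, Subgroup.mem_bot] at hmem'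
  have h4 := hres ⟨4, by norm_num⟩
  rw [hmem'] at h4
  exact hne h4.symm

/-- A permutation commuting with the action of the centraliser is trivial. -/
theorem eq_one_of_comm {c : Equiv.Perm (Fin 112)} (h : ∀ σ ∈ wHom.range, σ * c = c * σ) : c = 1 := by
  have h0 : (c 0 : ℕ) = 0 := by
    by_contra hne
    have h30 := orb_large (x := c 0) hne
    have hsub : orb (c 0) ⊆ {c 0} := by
      rintro y ⟨σ, hσ, rfl⟩
      have hσr : σ ∈ wHom.range := by rw [wHom_range]; exact genGroup_le_range hσ.1
      have e := congrArg (fun s : Equiv.Perm (Fin 112) => s 0) (h σ hσr)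
      simp only [Equiv.Perm.mul_apply] at e
      rw [hσ.2 0 (by simp)] at e
      exact e
    have := Set.ncard_le_ncard hsub (Set.toFinite _)
    rw [Set.ncard_singleton] at this
    omega
  refine Equiv.ext fun k => ?_
  obtain ⟨σ, hσ, hk⟩ := transitive k
  have hk0 : σ k = (0 : Fin 112) := Fin.ext hk
  have e := congrArg (fun s : Equiv.Perm (Fin 112) => s k) (h σ hσ)
  simp only [Equiv.Perm.mul_apply] at e
  rw [hk0, show c 0 = (0 : Fin 112) from Fin.ext h0, ← hk0] at e
  exact σ.injective e

theorem frame_fix_of_congr {g : Co0}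
    (h : ∀ c : Fin 4096, (((g • rvL c : leechLattice) : GolayPt → ℤ)) - (rvL c : GolayPt → ℤ) ∈ twiceLeech)
    (k : Fin 112) : g • frameSet k = frameSet k := by
  refine smul_frame_eq (σ := 1) (fun k => ?_) k
  rintro _ ⟨v, ⟨c, hc, hv⟩, rfl⟩
  refine ⟨c, hc, ?_⟩
  show g • v = _ ∨ g • v = _
  have hn : sqNorm (rvL c : GolayPt → ℤ) < 64 := by
    rw [coe_rvL, rv, nrm_eq]
    have := List.all_eq_true.mp (allBelow_spec frames_norm k k.2) _ hc
    rw [Nat.blt_eq] at this
    exact_mod_cast this
  have key : g • rvL c = rvL c ∨ g • rvL c = -rvL c := by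
    rcases LeechMod2.congr_short (rvL c).2 (h c) (by rw [sqNorm_smul]; exact hn.le) hn.le with h | h | h
    · exact Or.inl (Subtype.ext h)
    · exact Or.inr (Subtype.ext h)
    · omega
  rcases hv with rfl | rfl <;> rcases key with e | e
  · exact Or.inl e
  · exact Or.inr e
  · exact Or.inr (by rw [smul_neg_vec, e])
  · exact Or.inl (by rw [smul_neg_vec, e, neg_neg])

theorem wHom_frame (g : W) (k : Fin 112) : (g : Co0) • frameSet k = frameSet (wHom g k) :=
  fimg_spec (Subgroup.inclusion card_T_facts.1.symm.le g) k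

/-- `u` is a commutator in its centraliser. -/
theorem uC_comm : ∃ a b : W, ((⁅a, b⁆ : W) : Co0) = uC := by
  have hcomm : ∀ {s : Step}, wordValid [s] = true → eqOK ([s] ++ [uStep]) ([uStep] ++ [s]) = true →
      El [s] ∈ W := by
    intro s hs h
    have := El_eq h
    rw [El_append hs uStep_valid, El_append uStep_valid hs] at this
    rw [mem_W]
    exact this.symm
  refine ⟨⟨_, hcomm aStep_valid (by decide +kernel)⟩, ⟨_, hcomm bStep_valid (by decide +kernel)⟩, ?_⟩
  have h := El_eq (a := [bStep] ++ [aStep]) (b := ([aStep] ++ [bStep]) ++ [uStep]) (by decide +kernel)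
  rw [El_append bStep_valid aStep_valid, El_append (by decide +kernel) uStep_valid,
    El_append aStep_valid bStep_valid] at h
  show El [aStep] * El [bStep] * (El [aStep])⁻¹ * (El [bStep])⁻¹ = uC
  rw [h]
  show El [uStep] * (El [bStep] * El [aStep]) * (El [aStep])⁻¹ * (El [bStep])⁻¹ = El [uStep]
  group

end Cfsg.Agent.LeechFischer17
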