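import Cfsg.Agent.Lib.LeechFischer17Perm

/-!
A Sylow 3-subgroup of the monomial group whose centre is generated by `u`.
-/

set_option autoImplicit false
set_option linter.style.haveILetI false

open scoped Pointwise

namespace Cfsg.Agent.LeechFischer17

open Cfsg Cfsg.Agent.GolayBasic Cfsg.Agent.LeechBasic Cfsg.Agent.LeechAut Cfsg.Agent.LeechStab
open Cfsg.Agent.GolayPerm (pts mem_pts pimg good valid permOf permOf_mem_M24 permOf_apply valid_of_good pfun)

/-- Composition of packed permutations agrees. -/
def compEq (R P Q : ℕ) : Bool :=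
  pts.all fun i => Nat.beq (pimg R i) (pimg P (pimg Q i))

/-- The packed identity. -/
def idP : ℕ := LeechCert.horner (pts.map fun i => i)

theorem syl_ok : (sylList.all good && sylList.elem idP && sylList.elem uP &&
    (sylList.all fun P => sylList.all fun Q => sylList.any fun R => compEq R P Q) &&
    (sylList.all fun P => (sylList.all fun Q => sylList.any fun R => compEq R P Q && compEq R Q P) ==
      (compEq P idP idP || compEq P uP idP || compEq P uP uP))) = true := by
  decide +kernel

theorem syl_nodup : (sylList.map fun P => pts.map (pimg P)).Nodup ∧ sylList.length = 27 := by decide +kernel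

theorem syl_good {P : ℕ} (h : P ∈ sylList) : good P = true := by
  have h1 := syl_ok
  simp only [Bool.and_eq_true, List.all_eq_true] at h1
  exact h1.1.1.1.1 P h

theorem permOf_comp {R P Q : ℕ} (hR : good R = true) (hP : good P = true) (hQ : good Q = true)
    (h : compEq R P Q = true) : permOf R = permOf P * permOf Q := by
  simp only [compEq, List.all_eq_true, Nat.beq_eq] at h
  ext p : 1
  rw [Equiv.Perm.mul_apply, permOf_apply (valid_of_good hR), permOf_apply (valid_of_good hP),
    permOf_apply (valid_of_good hQ), pfun, pfun, pfun, idx_pt (GolayPerm.pimg_lt (valid_of_good hQ) (idx_lt p)),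
    h _ (mem_pts.2 (idx_lt p))]

theorem permOf_id : permOf idP = 1 := by
  ext p : 1
  rw [permOf_apply (by decide +kernel), Equiv.Perm.one_apply]
  revert p
  decide +kernel

/-- The permutations of the list. -/
noncomputable def sylMonoid : Submonoid M24 where
  carrier := {σ | ∃ P ∈ sylList, (σ : Equiv.Perm GolayPt) = permOf P}
  one_mem' := by
    have h := syl_ok
    simp only [Bool.and_eq_true, List.all_eq_true, List.elem_iff] at h
    exact ⟨idP, h.1.1.1.2, permOf_id.symm⟩
  mul_mem' := by
    rintro a b ⟨P, hP, ha⟩ ⟨Q, hQ, hb⟩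
    have h := syl_ok
    simp only [Bool.and_eq_true, List.all_eq_true, List.any_eq_true] at h
    obtain ⟨R, hR, hc⟩ := h.1.2 P hP Q hQ
    refine ⟨R, hR, ?_⟩
    rw [Subgroup.coe_mul, ha, hb, permOf_comp (syl_good hR) (syl_good hP) (syl_good hQ) hc]

instance finite_M24' : Finite M24 := Subtype.finite

/-- The subgroup of `M24`. -/
noncomputable def sylPerm : Subgroup M24 where
  toSubmonoid := sylMonoid
  inv_mem' := by
    intro a ha
    have e : a⁻¹ = a ^ (orderOf a - 1) := inv_eq_of_mul_eq_one_right (by
      rw [← pow_succ', Nat.sub_add_cancel (orderOf_pos a), pow_orderOf_eq_one])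
    rw [e]
    exact sylMonoid.pow_mem ha _

/-- The Sylow 3-subgroup of the monomial group. -/
noncomputable def syl : Subgroup Co0 := sylPerm.map permHom

theorem syl_le_mono : syl ≤ mono := by
  rintro _ ⟨σ, -, rfl⟩
  exact monomial_mem σ.2 empty_mem_supports

theorem card_syl : Nat.card syl = 27 := by
  classical
  rw [syl, ← Nat.card_congr (Subgroup.equivMapOfInjective sylPerm _ permHom_injective).toEquiv]
  obtain ⟨hnd, hlen⟩ := syl_nodup
  have hget : ∀ i : Fin 27, sylList[(i : ℕ)]'(by rw [hlen]; exact i.2) ∈ sylList := fun i => List.getElem_mem _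
  refine (Nat.card_eq_of_bijective (fun i : Fin 27 =>
    (⟨⟨permOf (sylList[(i : ℕ)]'(by rw [hlen]; exact i.2)), permOf_mem_M24 (syl_good (hget i))⟩,
      ⟨_, hget i, rfl⟩⟩ : sylPerm)) ⟨fun i j h => ?_, ?_⟩).symm.trans (Nat.card_fin 27)
  · have h' : permOf (sylList[(i : ℕ)]'(by rw [hlen]; exact i.2)) =
        permOf (sylList[(j : ℕ)]'(by rw [hlen]; exact j.2)) :=
      congrArg Subtype.val (congrArg Subtype.val h)
    refine Fin.ext ?_
    have hl : (i : ℕ) < (sylList.map fun P => pts.map (pimg P)).length := by simp [hlen, i.2]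
    have hl' : (j : ℕ) < (sylList.map fun P => pts.map (pimg P)).length := by simp [hlen, j.2]
    refine (hnd.getElem_inj_iff (hi := hl) (hj := hl')).mp ?_
    rw [List.getElem_map, List.getElem_map]
    refine List.map_congr_left fun k hk => ?_
    have := congrArg idx (congrArg (fun σ : Equiv.Perm GolayPt => σ (pt k)) h')
    have hk' := mem_pts.1 hk
    simpa only [permOf_apply (valid_of_good (syl_good (hget i))), permOf_apply (valid_of_good (syl_good (hget j))),
      pfun, idx_pt hk', idx_pt (GolayPerm.pimg_lt (valid_of_good (syl_good (hget i))) hk'),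
      idx_pt (GolayPerm.pimg_lt (valid_of_good (syl_good (hget j))) hk')] using this
  · rintro ⟨⟨σ, hσ⟩, P, hP, e⟩
    obtain ⟨i, hi, rfl⟩ := List.getElem_of_mem hP
    exact ⟨⟨i, hlen ▸ hi⟩, Subtype.ext (Subtype.ext e.symm)⟩

theorem uC_eq_permHom : uC = permHom ⟨pu, pu_mem⟩ := uC_eq_monomial

theorem uC_mem_syl : uC ∈ syl := by
  have h := syl_ok
  simp only [Bool.and_eq_true, List.elem_iff] at h
  exact ⟨⟨pu, pu_mem⟩, ⟨uP, h.1.1.2, rfl⟩, uC_eq_permHom.symm⟩

theorem center_syl {g : Co0} (hg : g ∈ syl) (hc : ∀ h ∈ syl, g * h = h * g) :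
    g ∈ Subgroup.zpowers uC := by
  obtain ⟨σ, ⟨P, hP, hσ⟩, rfl⟩ := hg
  have h := syl_ok
  simp only [Bool.and_eq_true, List.all_eq_true, List.elem_iff, beq_iff_eq] at h
  obtain ⟨⟨⟨⟨-, hid⟩, hu⟩, hmul⟩, hcen⟩ := h
  have hall : (sylList.all fun Q => sylList.any fun R => compEq R P Q && compEq R Q P) = true := by
    simp only [List.all_eq_true, List.any_eq_true, Bool.and_eq_true]
    intro Q hQ
    obtain ⟨R, hR, hc'⟩ : ∃ R ∈ sylList, compEq R P Q = true := by
      simpa only [List.any_eq_true] using hmul P hP Q hQ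
    refine ⟨R, hR, hc', ?_⟩
    let τ : M24 := ⟨permOf Q, permOf_mem_M24 (syl_good hQ)⟩
    have hcomm : σ * τ = τ * σ := permHom_injective (by
      rw [map_mul, map_mul]; exact hc _ ⟨τ, ⟨Q, hQ, rfl⟩, rfl⟩)
    have e : permOf R = permOf Q * permOf P := by
      rw [permOf_comp (syl_good hR) (syl_good hP) (syl_good hQ) hc']
      have := congrArg Subtype.val hcomm
      simpa [τ, hσ] using this
    simp only [compEq, List.all_eq_true, Nat.beq_eq]
    intro k hk
    have hk' := mem_pts.1 hk
    have := congrArg idx (congrArg (fun σ : Equiv.Perm GolayPt => σ (pt k)) e)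
    simpa only [Equiv.Perm.mul_apply, permOf_apply (valid_of_good (syl_good hR)),
      permOf_apply (valid_of_good (syl_good hP)), permOf_apply (valid_of_good (syl_good hQ)),
      pfun, idx_pt hk', idx_pt (GolayPerm.pimg_lt (valid_of_good (syl_good hR)) hk'),
      idx_pt (GolayPerm.pimg_lt (valid_of_good (syl_good hP)) hk'),
      idx_pt (GolayPerm.pimg_lt (valid_of_good (syl_good hQ))
        (GolayPerm.pimg_lt (valid_of_good (syl_good hP)) hk'))] using this
  have h3 := hcen P hP
  rw [hall] at h3
  simp only [Bool.true_eq, Bool.or_eq_true] at h3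
  have hgood := syl_good hP
  have hu' : good uP = true := uP_good
  have hi' : good idP = true := syl_good hid
  rw [uC_eq_permHom]
  rcases h3 with (e | e) | e
  · have : σ = 1 := Subtype.ext (by
      rw [hσ, permOf_comp hgood hi' hi' e, permOf_id, one_mul]; rfl)
    rw [this, map_one]; exact one_mem _
  · have : σ = ⟨pu, pu_mem⟩ := Subtype.ext (by
      rw [hσ, permOf_comp hgood hu' hi' e, permOf_id, mul_one]; rfl)
    rw [this]; exact Subgroup.mem_zpowers _
  · have : σ = ⟨pu, pu_mem⟩ * ⟨pu, pu_mem⟩ := Subtype.ext (by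
      rw [hσ, permOf_comp hgood hu' hu' e]; rfl)
    rw [this, map_mul]; exact mul_mem (Subgroup.mem_zpowers _) (Subgroup.mem_zpowers _)

end Cfsg.Agent.LeechFischer17
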