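import Cfsg.Agent.Lib.LeechFive69Cert

/-!
The centralizer in `Co0` of an element of order 5 of trace 4 and its fixed classes modulo twice
the lattice.
-/

set_option autoImplicit false

open scoped Pointwise

namespace Cfsg.Agent.LeechFive69

open Cfsg Cfsg.Agent.GolayBasic Cfsg.Agent.LeechBasic Cfsg.Agent.LeechAut Cfsg.Agent.LeechOrbit
open Cfsg.Agent.LeechIndex
open Cfsg.Agent.LeechCert Cfsg.Agent.LeechOutTool Cfsg.Agent.LeechOutData Cfsg.Agent.LeechCent11
open Cfsg.Agent.LeechNormalizers (permElt mem_mono_of_frame fixes_none frame_none_apply coe_permElt_smul)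
open Cfsg.Agent.GolayPerm (good valid pts mem_pts pimg pimg_lt permOf permOf_mem_M24 permOf_apply valid_of_good pfun)
open Cfsg.Agent.LeechStab (mono mem_mono permHom monomial_mul monomial_congr)
open Cfsg.Agent.LeechMonomial (monomial_injective)
open Cfsg.Agent.LeechXi (isL isL_iff)
open Cfsg.Agent.LeechFreeInvolution (frameCodes)
open Cfsg.Agent.LeechCent5 (pU pU_good El_wU pattU fixed_patt cls reps sum_pts)
open Cfsg.Agent.LeechFive69Data Cfsg.Agent.WreathFive69
open Cfsg.Agent.MonsterOdd69 (Cong comb OddData)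

/-- The powers of the permutation. -/
def powP (k : ℕ) : ℕ := (m5.getD k none).elim 0 fun s => s.1

theorem powP_spec (k : ℕ) (hk : k < 5) : permOf (powP k) = permOf pU ^ k := by
  have key : ∀ k < 5, valid (powP k) = true ∧
      GolayOutTool.sameWord [powP k] (List.replicate k pU) = true := by decide +kernel
  obtain ⟨h1, h2⟩ := key k hk
  have := GolayOutTool.prod_eq_of_sameWord (l := [powP k]) (by simpa using h1) (fun P hP => by
    rw [List.eq_of_mem_replicate hP]; exact valid_of_good pU_good) h2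
  simpa using this

/-- A monomial element fixing the pair. -/
theorem mono_case {h : Co0} (hU : h • Spor.leechU = Spor.leechU) (hU' : h • Spor.leechU' = Spor.leechU')
    (hc : Commute h u5) : ∃ e ∈ monoW, h = El e.1 := by
  have hfix : h • frame none = frame none := by
    have hsum : frame none = Spor.leechU + Spor.leechU' := by
      refine Subtype.ext (funext fun p => ?_)
      rw [frame_none_apply]
      show _ = Spor.vecU p + Spor.vecU' p
      revert p; decide +kernel
    rw [hsum]
    have := h.2.1 Spor.leechU Spor.leechU'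
    change h • (Spor.leechU + Spor.leechU') = h • Spor.leechU + h • Spor.leechU' at this
    rw [this, hU, hU']
  obtain ⟨σ, hσ, c, hcs, e⟩ := mem_mono.mp (mem_mono_of_frame (Or.inl hfix))
  obtain ⟨hn0, hnc⟩ := fixes_none (e ▸ Or.inl hfix)
  have hnc' : none ∉ c := hnc (e ▸ hfix)
  have hUp := congrArg Subtype.val hU
  rw [e, coe_monomial_smul] at hUp
  have hUv : ∀ p, Spor.vecU p = if p = none then 4 else if p = some 0 then 4 else 0 := by
    intro p; revert p; decide +kernel
  change signedPerm σ c Spor.vecU = Spor.vecU at hUp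
  have h0 : σ (some 0) = some 0 := by
    have h0 := congrFun hUp (σ (some 0))
    simp only [signedPerm, Equiv.symm_apply_apply] at h0
    by_contra hne
    have hne' : σ (some 0) ≠ none := fun he => by
      rw [← hn0] at he; exact absurd (σ.injective he) (by decide)
    rw [hUv (σ (some 0)), if_neg hne', if_neg hne] at h0
    simp [hUv] at h0
    by_cases hin : σ (some 0) ∈ c <;> simp [hin] at h0
  have hc0 : some 0 ∉ c := by
    intro hin
    have h1 := congrFun hUp (some 0)
    simp only [signedPerm, if_pos hin] at h1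
    rw [show σ.symm (some 0) = some 0 from (Equiv.symm_apply_eq σ).mpr h0.symm, hUv] at h1
    simp at h1
  have hcom := hc.eq
  rw [u5, e, El_wU] at hcom
  simp only [permElt, permHom, MonoidHom.mk'_apply, monomial_mul] at hcom
  obtain ⟨hp, hmk⟩ := monomial_injective _ _ _ _ hcom
  simp only [Finset.smul_finset_empty] at hmk
  simp only [← Finset.bot_eq_empty, symmDiff_bot, bot_symmDiff] at hmk
  -- the permutation
  have hσ22 : σ ∈ Spor.M22 := GolayOutM22.mem_iff.2 ⟨hσ, hn0, h0⟩
  set V : Equiv.Perm GolayPt := permOf GolayOutConst.pV22 with hV22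
  have hVU : V * permOf pU = permOf GolayOutConst.pU2 * V := by
    refine Equiv.ext fun p => ?_
    simp only [hV22, Equiv.Perm.mul_apply, permOf_apply (by decide +kernel : valid GolayOutConst.pV22 = true),
      permOf_apply (valid_of_good pU_good), permOf_apply (by decide +kernel : valid GolayOutConst.pU2 = true)]
    revert p
    decide +kernel
  have hVmem : V ∈ Spor.M22 := GolayOutM22.gV.2
  obtain ⟨s', hs', hsV⟩ := GolaySolve.exists_sol GolayOutM22.chainU GolayOutM22.memU GolayOutM22.sizeU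
    (x := GolayOutConst.pU) (y := GolayOutConst.pU2) (r := 2) (es := GolayOutDataM22.esV)
    (sols := GolayOutDataM22.solsV) (by decide +kernel) (mul_mem hVmem hσ22) (by
      show V * σ * permOf pU = permOf GolayOutConst.pU2 * (V * σ)
      rw [mul_assoc, hp, ← mul_assoc, hVU, mul_assoc])
  have key : ∀ x ∈ GolayOutDataM22.solsV, valid x = true ∧ (List.range 5).any (fun k =>
      GolayOutTool.sameWord [x] (GolayOutConst.pV22 :: List.replicate k pU)) = true := by decide +kernel
  obtain ⟨hxv, hk⟩ := key s' hs'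
  simp only [List.any_eq_true, List.mem_range] at hk
  obtain ⟨k, hk5, hk⟩ := hk
  have hσk : σ = permOf pU ^ k := by
    have := GolayOutTool.prod_eq_of_sameWord (l := [s']) (by simpa using hxv) (fun P hP => by
      rcases List.mem_cons.1 hP with rfl | hP
      · decide +kernel
      · rw [List.eq_of_mem_replicate hP]; exact valid_of_good pU_good) hk
    simp only [List.map_cons, List.map_nil, List.prod_cons, List.prod_nil, mul_one, List.map_replicate,
      List.prod_replicate, ← hsV] at this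
    exact mul_left_cancel this
  -- the signs
  have hinv : ∀ p, (permOf pU p ∈ c ↔ p ∈ c) := fun p => by
    conv_lhs => rw [hmk]
    exact Finset.smul_mem_smul_finset_iff (permOf pU)
  obtain ⟨m, hm, rfl⟩ : ∃ m ∈ masks, c = mset m := by
    classical
    have hstep : ∀ i, i < 24 → ((pt (pimg pU i) ∈ c) ↔ pt i ∈ c) := fun i hi => by
      have := hinv (pt i)
      rwa [permOf_apply (valid_of_good pU_good), pfun, idx_pt hi] at this
    have hpw : ∀ n i, i < 24 → LeechCent5.pw n i < 24 ∧ (pt (LeechCent5.pw n i) ∈ c ↔ pt i ∈ c) := by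
      intro n
      induction n with
      | zero => exact fun i hi => ⟨hi, Iff.rfl⟩
      | succ n ih =>
        intro i hi
        obtain ⟨h1, h2⟩ := ih i hi
        exact ⟨pimg_lt (valid_of_good pU_good) h1, (hstep _ h1).trans h2⟩
    have keyrep : ∀ i < 24, cls.getD i 0 < 8 ∧ ∃ n < 5, LeechCent5.pw n (reps.getD (cls.getD i 0) 0) = i := by
      decide +kernel
    have keym : ∀ f : Fin 8 → Bool, f 0 = false → f 1 = false →
        inCode (Nat.ofBits fun i : Fin 24 => f ⟨cls.getD i.1 0 % 8, Nat.mod_lt _ (by norm_num)⟩) = true →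
        (Nat.ofBits fun i : Fin 24 => f ⟨cls.getD i.1 0 % 8, Nat.mod_lt _ (by norm_num)⟩) ∈ masks := by
      decide +kernel
    set f : Fin 8 → Bool := fun j => decide (pt (reps.getD j.1 0) ∈ c) with hf
    set M := Nat.ofBits fun i : Fin 24 => f ⟨cls.getD i.1 0 % 8, Nat.mod_lt _ (by norm_num)⟩ with hM
    have he : c = mset M := by
      ext q
      rw [mem_mset, hM, Nat.testBit_ofBits_lt _ _ (idx_lt q), hf]
      obtain ⟨hl, n, -, hn⟩ := keyrep (idx q) (idx_lt q)
      simp only [Nat.mod_eq_of_lt hl, decide_eq_true_eq]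
      have h2 := (hpw n _ ((by decide : ∀ j < 8, reps.getD j 0 < 24) _ hl)).2
      rw [hn, pt_idx] at h2
      exact h2
    refine ⟨M, keym f ?_ ?_ ((mset_mem_supports (Nat.ofBits_lt_two_pow _)).1 (he ▸ hcs)), he⟩
    · exact decide_eq_false hc0
    · exact decide_eq_false hnc'
  have key2 : ∀ k < 5, ∀ m ∈ masks, decide (m.testBit 0 = false ∧ m.testBit 23 = false) = true →
      monoW.any (fun e => monoOK' e.1 (powP k) m) = true := by decide +kernel
  have hm0 : decide (m.testBit 0 = false ∧ m.testBit 23 = false) = true := by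
    rw [decide_eq_true_eq]
    refine ⟨?_, ?_⟩
    · have := hc0; rw [mem_mset] at this; exact Bool.eq_false_iff.mpr this
    · have := hnc'; rw [mem_mset] at this; exact Bool.eq_false_iff.mpr this
  have hk2 := key2 k hk5 m hm hm0
  simp only [List.any_eq_true] at hk2
  obtain ⟨en, hen, hok⟩ := hk2
  refine ⟨en, hen, ?_⟩
  rw [El_mono hok (monoOK'_mem hok).1 (monoOK'_mem hok).2, e]
  exact monomial_congr _ _ _ _ (hσk.trans (powP_spec k hk5).symm) rfl

/-! ### the classes modulo twice the lattice -/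

theorem basis_ok : ∀ k : Fin 8, isL (vec (basis.getD k 0)) = true ∧ smallVec (basis.getD k 0) = true ∧
    applyWord wU (basis.getD k 0) = basis.getD k 0 := by decide +kernel

/-- A basis of the fixed classes. -/
def bVec (k : Fin 8) : leechLattice := ofCode _ (basis_ok k).1

theorem fixed_bVec (k : Fin 8) : u5 • bVec k = bVec k :=
  El_fixes (by
    simp only [fixes, Bool.and_eq_true, beq_iff_eq]
    exact ⟨⟨by decide +kernel, (basis_ok k).2.1⟩, (basis_ok k).2.2⟩) (coe_ofCode _ _)

theorem cong_iff {v w : leechLattice} : Cong v w ↔ ∃ a : leechLattice, v - w = a + a := by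
  rw [Cong, mem_twiceLeech]
  constructor
  · rintro ⟨a, ha, e⟩
    exact ⟨⟨a, ha⟩, Subtype.ext (by rw [AddSubgroup.coe_sub, AddSubgroup.coe_add, e, two_nsmul])⟩
  · rintro ⟨a, e⟩
    exact ⟨a, a.2, by rw [← AddSubgroup.coe_sub, e, AddSubgroup.coe_add, two_nsmul]⟩

theorem cong_refl (v : leechLattice) : Cong v v := cong_iff.mpr ⟨0, by simp⟩

theorem cong_symm {v w : leechLattice} (h : Cong v w) : Cong w v := by
  obtain ⟨a, ha⟩ := cong_iff.mp h
  exact cong_iff.mpr ⟨-a, by rw [← neg_sub, ha]; abel⟩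

theorem cong_trans {v w x : leechLattice} (h : Cong v w) (h' : Cong w x) : Cong v x := by
  obtain ⟨a, ha⟩ := cong_iff.mp h
  obtain ⟨b, hb⟩ := cong_iff.mp h'
  exact cong_iff.mpr ⟨a + b, by rw [← sub_add_sub_cancel v w x, ha, hb]; abel⟩

theorem cong_add {v w v' w' : leechLattice} (h : Cong v w) (h' : Cong v' w') : Cong (v + v') (w + w') := by
  obtain ⟨a, ha⟩ := cong_iff.mp h
  obtain ⟨b, hb⟩ := cong_iff.mp h'
  exact cong_iff.mpr ⟨a + b, by rw [add_sub_add_comm, ha, hb]; abel⟩

theorem cong_neg (v : leechLattice) : Cong (-v) v := cong_iff.mpr ⟨-v, by abel⟩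

theorem comb_xor (c c' : Fin 8 → Bool) :
    Cong (comb bVec c + comb bVec c') (comb bVec fun k => xor (c k) (c' k)) := by
  refine cong_iff.mpr ⟨∑ k, if c k && c' k then bVec k else 0, ?_⟩
  simp only [comb]
  rw [← Finset.sum_add_distrib, ← Finset.sum_sub_distrib, ← Finset.sum_add_distrib]
  refine Finset.sum_congr rfl fun k _ => ?_
  rcases Bool.eq_false_or_eq_true (c k) with h1 | h1 <;> rcases Bool.eq_false_or_eq_true (c' k) with h2 | h2 <;>
    simp [h1, h2]

theorem comb_zero : comb bVec (fun _ => false) = 0 := by simp [comb]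

/-- The classes spanned by the basis. -/
def Span : AddSubgroup leechLattice where
  carrier := {v | ∃ c, Cong v (comb bVec c)}
  zero_mem' := ⟨fun _ => false, by rw [comb_zero]; exact cong_refl 0⟩
  add_mem' := by
    rintro v w ⟨c, hc⟩ ⟨c', hc'⟩
    exact ⟨_, cong_trans (cong_add hc hc') (comb_xor c c')⟩
  neg_mem' := by
    rintro v ⟨c, hc⟩
    exact ⟨c, cong_trans (cong_neg v) hc⟩

/-- The slot patterns of the generators. -/
def gensL : List (List ℤ) :=
  [[1, -3, 1, 1, 1, 1, 1, 1]] ++ masks.map (fun m => reps.map fun i => if m.testBit i then (2 : ℤ) else 0) ++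
    ((List.range 7).map fun k => (List.range 8).map fun j => (if j = k then (4 : ℤ) else 0) - if j = 7 then 4 else 0) ++
    [[0, 0, 0, 0, 0, 0, 0, 8]]

/-- Coordinates of a combination. -/
def combF (c : ℕ) (p : GolayPt) : ℤ := ((List.range 8).map fun k => if c.testBit k then vec (basis.getD k 0) p else 0).sum

/-- The check of a generator. -/
def spanOK (l : List ℤ) (c : ℕ) : Bool :=
  isL (pattU l) && decide (∀ p, (pattU l p - combF c p) % 2 = 0) &&
    isL (fun p => (pattU l p - combF c p) / 2)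

theorem span_data : ((gensL.zip spanC).all fun x => spanOK x.1 x.2) && (gensL.length == spanC.length) = true := by
  decide +kernel

theorem coe_comb (c : ℕ) (p : GolayPt) :
    ((comb bVec fun k => c.testBit k : leechLattice) : GolayPt → ℤ) p = combF c p := by
  simp only [comb, combF, Fin.sum_univ_eight, List.range_succ, List.range_zero, List.nil_append, List.cons_append,
    List.map_cons, List.map_nil, List.sum_cons, List.sum_nil, AddSubgroup.coe_add, Pi.add_apply]
  simp only [apply_ite (fun v : leechLattice => (v : GolayPt → ℤ) p), AddSubgroup.coe_zero, Pi.zero_apply]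
  simp [bVec, coe_ofCode, add_assoc]

theorem gen_mem {l : List ℤ} (hl : l ∈ gensL) : ∃ v : leechLattice, (v : GolayPt → ℤ) = pattU l ∧ v ∈ Span := by
  have h := span_data
  simp only [Bool.and_eq_true, List.all_eq_true, beq_iff_eq] at h
  obtain ⟨i, hi, rfl⟩ := List.getElem_of_mem hl
  have hlen : gensL.length = spanC.length := by simpa using h.2
  have h1 := h.1 (gensL[i], spanC[i]'(hlen ▸ hi)) (List.mem_iff_getElem.mpr ⟨i, by simp [hi, hlen ▸ hi], by simp⟩)
  simp only [spanOK, Bool.and_eq_true, decide_eq_true_eq] at h1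
  obtain ⟨⟨hm, hpar⟩, hhalf⟩ := h1
  refine ⟨⟨_, isL_iff.mp hm⟩, rfl, fun k => (spanC[i]'(hlen ▸ hi)).testBit k, cong_iff.mpr ⟨⟨_, isL_iff.mp hhalf⟩, ?_⟩⟩
  refine Subtype.ext (funext fun p => ?_)
  rw [AddSubgroup.coe_sub, AddSubgroup.coe_add, Pi.sub_apply, Pi.add_apply, coe_comb]
  have := hpar p
  show pattU gensL[i] p - _ = (pattU gensL[i] p - _) / 2 + (pattU gensL[i] p - _) / 2
  omega

theorem pattU_apply (l : List ℤ) (p : GolayPt) : pattU l p = l.getD (cls.getD (idx p) 0) 0 := rfl

theorem mask_slots : ∀ y : Fin 8 → Bool,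
    inCode (Nat.ofBits fun i : Fin 24 => y ⟨cls.getD i.1 0 % 8, Nat.mod_lt _ (by norm_num)⟩) = true →
    ∃ m ∈ masks, ∀ k : Fin 8, m.testBit (reps.getD k.1 0) = y k := by
  decide +kernel

/-- Fixed lattice vectors lie in the span. -/
theorem fixed_mem {v : leechLattice} (hv : u5 • v = v) : v ∈ Span := by
  have hp := fixed_patt hv
  set A : ℕ → ℤ := fun k => (v : GolayPt → ℤ) (pt (reps.getD k 0)) with hA
  have hcls : ∀ p : GolayPt, cls.getD (idx p) 0 < 8 := by decide +kernel
  have hpA : ∀ p, (v : GolayPt → ℤ) p = A (cls.getD (idx p) 0) := fun p => by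
    conv_lhs => rw [hp]
    rw [pattU_apply, hA]
    simp only
    have hl := hcls p
    generalize cls.getD (idx p) 0 = j at hl ⊢
    interval_cases j <;> rfl
  -- remove the parity
  obtain ⟨o, ho, hoS⟩ := gen_mem (l := [1, -3, 1, 1, 1, 1, 1, 1]) (by decide)
  have hvL := mem_leechLattice.mp v.2
  set e : ℤ := (v : GolayPt → ℤ) none % 2 with he
  set A1 : ℕ → ℤ := fun k => A k - e * ([1, -3, 1, 1, 1, 1, 1, 1] : List ℤ).getD k 0 with hA1
  have h1 : ∀ p, ((v - e • o : leechLattice) : GolayPt → ℤ) p = A1 (cls.getD (idx p) 0) := fun p => by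
    rw [AddSubgroup.coe_sub, AddSubgroup.coe_zsmul, Pi.sub_apply, Pi.smul_apply, smul_eq_mul, hpA, ho, pattU_apply]
  set v1 := v - e • o with hv1
  have hev : ∀ k < 8, A1 k % 2 = 0 := by
    intro k hk
    have hrep : ∀ k < 8, cls.getD (idx (pt (reps.getD k 0))) 0 = k ∧
        ([1, -3, 1, 1, 1, 1, 1, 1] : List ℤ).getD k 0 % 2 = 1 := by decide +kernel
    have := hvL.1 (pt (reps.getD k 0))
    rw [← he] at this
    have hodd := (hrep k hk).2
    show (A k - e * _) % 2 = 0
    have hA' : A k % 2 = e := this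
    rw [Int.sub_emod, Int.mul_emod, hodd, hA']
    rcases Int.emod_two_eq_zero_or_one ((v : GolayPt → ℤ) none) with h | h <;> rw [he, h] <;> norm_num
  -- remove the code word
  have hv1L := mem_leechLattice.mp v1.2
  set y : Fin 8 → Bool := fun k => decide (A1 k / 2 % 2 = 1) with hy
  have hwm : wmask (wbit (v1 : GolayPt → ℤ)) =
      Nat.ofBits fun i : Fin 24 => y ⟨cls.getD i.1 0 % 8, Nat.mod_lt _ (by norm_num)⟩ := by
    unfold wmask
    congr 1
    funext i
    have hlt := hcls (pt i.1)
    rw [idx_pt i.2] at hlt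
    rw [hy]
    refine decide_eq_decide.mpr ?_
    rw [wbit_ne_zero_iff, h1, idx_pt i.2]
    simp only [Nat.mod_eq_of_lt hlt]
  obtain ⟨m, hm, hmy⟩ := mask_slots y (by rw [← hwm]; exact mem_golayCode.mp hv1L.2.2)
  obtain ⟨d, hd, hdS⟩ := gen_mem (l := reps.map fun i => if m.testBit i then (2 : ℤ) else 0) (by
    simp only [gensL, List.mem_append, List.mem_map]
    exact Or.inl (Or.inl (Or.inr ⟨m, hm, rfl⟩)))
  set A2 : ℕ → ℤ := fun k => A1 k - (reps.map fun i => if m.testBit i then (2 : ℤ) else 0).getD k 0 with hA2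
  have h2 : ∀ p, ((v1 - d : leechLattice) : GolayPt → ℤ) p = A2 (cls.getD (idx p) 0) := fun p => by
    rw [AddSubgroup.coe_sub, Pi.sub_apply, h1, hd, pattU_apply]
  set v2 := v1 - d with hv2
  have h4 : ∀ k < 8, A2 k % 4 = 0 := by
    intro k hk
    have hy' := hmy ⟨k, hk⟩
    show (A1 k - _) % 4 = 0
    rw [List.getD_eq_getElem _ _ (by simpa [reps] using hk), List.getElem_map]
    rw [List.getD_eq_getElem _ _ (by simpa [reps] using hk)] at hy'
    have := hev k hk
    simp only [hy] at hy'
    rw [hy']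
    by_cases h : A1 k / 2 % 2 = 1
    · simp only [h, decide_true, if_true]; omega
    · simp only [h, decide_false, Bool.false_eq_true, if_false]; omega
  have hsum := (mem_leechLattice.mp v2.2).2.1
  have hn2 : (v2 : GolayPt → ℤ) none % 2 = 0 := by
    have := h4 (cls.getD (idx (none : GolayPt)) 0) (hcls none)
    rw [h2]; omega
  rw [sum_pts, List.map_congr_left (g := fun i => A2 (cls.getD i 0))
    (fun i hi => by rw [h2, idx_pt (mem_pts.1 hi)]), hn2] at hsum
  simp [pts, cls, List.sum_cons] at hsum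
  -- the remaining part
  have hD : ∀ k : Fin 7, ∃ w : leechLattice, (w : GolayPt → ℤ) = pattU ((List.range 8).map fun j =>
      (if j = k.1 then (4 : ℤ) else 0) - if j = 7 then 4 else 0) ∧ w ∈ Span := fun k => gen_mem (by
    simp only [gensL, List.mem_append, List.mem_map]
    exact Or.inl (Or.inr ⟨k.1, List.mem_range.mpr k.2, rfl⟩))
  choose D hDv hDS using hD
  obtain ⟨F, hF, hFS⟩ := gen_mem (l := [0, 0, 0, 0, 0, 0, 0, 8]) (by decide)
  set T := ∑ k : Fin 7, (A2 k / 4) • D k +
    ((A2 0 / 4 + A2 1 / 4 + A2 2 / 4 + A2 3 / 4 + A2 4 / 4 + A2 5 / 4 + A2 6 / 4 + A2 7 / 4) / 2) • F with hT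
  have hT2 : v2 = T := by
    refine Subtype.ext (funext fun p => ?_)
    rw [h2, hT]
    simp only [Fin.sum_univ_seven, AddSubgroup.coe_add, AddSubgroup.coe_zsmul, Pi.add_apply, Pi.smul_apply,
      smul_eq_mul, hDv, hF, pattU_apply]
    have := h4 0 (by norm_num)
    have := h4 1 (by norm_num)
    have := h4 2 (by norm_num)
    have := h4 3 (by norm_num)
    have := h4 4 (by norm_num)
    have := h4 5 (by norm_num)
    have := h4 6 (by norm_num)
    have := h4 7 (by norm_num)
    have hl := hcls p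
    generalize cls.getD (idx p) 0 = j at hl ⊢
    interval_cases j <;> simp [List.range_succ] <;> omega
  have e1 : v = e • o + (d + T) := by
    rw [← hT2, hv2, hv1]; abel
  rw [e1]
  refine Span.add_mem (Span.zsmul_mem hoS e) (Span.add_mem hdS ?_)
  rw [hT]
  exact Span.add_mem (Span.sum_mem fun k _ => Span.zsmul_mem (hDS k) _) (Span.zsmul_mem hFS _)

theorem smul_cong {g : Co0} {v w : leechLattice} (h : Cong v w) : Cong (g • v) (g • w) := by
  obtain ⟨a, ha⟩ := cong_iff.mp h
  refine cong_iff.mpr ⟨g • a, ?_⟩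
  have e1 : v = w + (a + a) := by rw [← ha, add_sub_cancel]
  have hsm : ∀ x y : leechLattice, g • (x + y) = g • x + g • y := fun x y => g.2.1 x y
  rw [e1, hsm, hsm, add_sub_cancel_left]

theorem smul_comb (c : Fin 8 → Bool) : u5 • comb bVec c = comb bVec c := by
  have hsm : ∀ x y : leechLattice, u5 • (x + y) = u5 • x + u5 • y := fun x y => u5.2.1 x y
  have h0 : u5 • (0 : leechLattice) = 0 := by
    have h := hsm 0 0
    rw [add_zero] at h
    exact left_eq_add.mp h
  unfold comb
  simp only [Fin.sum_univ_eight, hsm]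
  congr 7 <;> split_ifs <;> simp [fixed_bVec, h0]

theorem span_cong {v : leechLattice} (h : Cong (u5 • v) v) : ∃ c, Cong v (comb bVec c) := by
  have hsm : ∀ x y : leechLattice, u5 • (x + y) = u5 • x + u5 • y := fun x y => u5.2.1 x y
  set w := v + u5 • v + u5 • u5 • v + u5 • u5 • u5 • v + u5 • u5 • u5 • u5 • v with hw
  have h5 : u5 • u5 • u5 • u5 • u5 • v = v := by
    have e : u5 ^ 5 = 1 := by rw [← order_u5, pow_orderOf_eq_one]
    calc u5 • u5 • u5 • u5 • u5 • v = (u5 ^ 5) • v := by simp only [pow_succ, pow_zero, one_mul, mul_smul]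
      _ = v := by rw [e, one_smul]
  have hwf : u5 • w = w := by
    simp only [hw, hsm, h5]; abel
  have c1 := smul_cong (g := u5) h
  have c2 := smul_cong (g := u5) c1
  have c3 := smul_cong (g := u5) c2
  have e2 : Cong (u5 • u5 • v) v := cong_trans c1 h
  have e3 : Cong (u5 • u5 • u5 • v) v := cong_trans c2 e2
  have e4 : Cong (u5 • u5 • u5 • u5 • v) v := cong_trans c3 e3
  have hwv : Cong w v := cong_trans (cong_add (cong_add (cong_add (cong_add (cong_refl v) h) e2) e3) e4)
    (cong_iff.mpr ⟨v + v, by abel⟩)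
  obtain ⟨c, hc⟩ := fixed_mem hwf
  exact ⟨c, cong_trans (cong_symm hwv) hc⟩

theorem nondeg_data : ∀ c : Fin 256, c.1 ≠ 0 → ∃ j : Fin 8,
    ¬ (16 : ℤ) ∣ ((List.range 8).map fun k => if c.1.testBit k then dotInt (vec (basis.getD k 0)) (vec (basis.getD j 0)) else 0).sum := by
  decide +kernel

theorem nondeg (c : Fin 8 → Bool) (hc : ∃ i, c i = true) :
    ∃ j, ¬ (16 : ℤ) ∣ dotInt (comb bVec c : GolayPt → ℤ) (bVec j) := by
  have hN : ∀ k : Fin 8, (Nat.ofBits c).testBit k = c k := fun k => Nat.testBit_ofBits_lt _ _ k.2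
  have hne : Nat.ofBits c ≠ 0 := by
    obtain ⟨i, hi⟩ := hc
    intro h0
    have := hN i
    rw [h0, hi] at this
    simp at this
  obtain ⟨j, hj⟩ := nondeg_data ⟨Nat.ofBits c, Nat.ofBits_lt_two_pow _⟩ hne
  refine ⟨j, fun h => hj ?_⟩
  have e : comb bVec c = comb bVec fun k => (Nat.ofBits c).testBit k := by simp only [hN]
  rw [e] at h
  convert h using 1
  simp only [comb, Fin.sum_univ_eight, List.range_succ, List.range_zero, List.nil_append, List.cons_append,
    List.map_cons, List.map_nil, List.sum_cons, List.sum_nil, AddSubgroup.coe_add, dotInt_add_left]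
  simp only [apply_ite (fun v : leechLattice => dotInt (v : GolayPt → ℤ) (bVec j : GolayPt → ℤ)), AddSubgroup.coe_zero]
  simp [dotInt, bVec, coe_ofCode, add_assoc]

theorem dot_twice {v w : leechLattice} (h : Cong v w) (x : leechLattice) :
    (16 : ℤ) ∣ dotInt (v : GolayPt → ℤ) x - dotInt (w : GolayPt → ℤ) x := by
  obtain ⟨a, ha⟩ := cong_iff.mp h
  have e : v = w + (a + a) := by rw [← ha, add_sub_cancel]
  obtain ⟨k, hk⟩ := MonsterLocal.eight_dvd_dot (v := a) (w := x)
  refine ⟨k, ?_⟩
  rw [e, AddSubgroup.coe_add, AddSubgroup.coe_add, dotInt_add_left, dotInt_add_left, hk]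
  ring

theorem indep (c c' : Fin 8 → Bool) (h : Cong (comb bVec c) (comb bVec c')) : c = c' := by
  by_contra hne
  obtain ⟨j, hj⟩ := nondeg (fun k => xor (c k) (c' k)) (by
    by_contra h0
    push Not at h0
    exact hne (funext fun k => by have := h0 k; revert this; cases c k <;> cases c' k <;> simp))
  refine hj ?_
  have h1 : Cong (comb bVec fun k => xor (c k) (c' k)) 0 :=
    cong_trans (cong_symm (comb_xor c c'))
      (cong_trans (cong_add h (cong_refl _)) (cong_iff.mpr ⟨comb bVec c', by rw [sub_zero]⟩))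
  have h2 := dot_twice h1 (bVec j)
  simpa [dotInt] using h2

/-! ### the homomorphism onto the wreath product -/

/-- The centralizer of the element of order 5. -/
abbrev C5 : Subgroup Co0 := Subgroup.centralizer ({u5} : Set Co0)

theorem coe_U32 : sqNorm (Spor.leechU : GolayPt → ℤ) = 32 ∧ sqNorm (Spor.leechU' : GolayPt → ℤ) = 32 := by
  constructor <;> decide +kernel

theorem fix_U : u5 • Spor.leechU = Spor.leechU ∧ u5 • Spor.leechU' = Spor.leechU' :=
  ⟨El_fixes (by decide +kernel : fixes wU cU = true) coe_leechU,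
    El_fixes (by decide +kernel : fixes wU cU' = true) coe_leechU'⟩

theorem decompose {h : Co0} (hc : Commute h u5) :
    ∃ e1 ∈ orbW, ∃ e2 ∈ stabW, ∃ e3 ∈ monoW, h = El e1.1 * El e2.1 * El e3.1 := by
  have key1 : ∀ n ∈ allR, orbW.any (fun e => applyWord e.1 cU == n) = true := by decide +kernel
  have key2 : ∀ n ∈ allR, decide (dotInt (vec cU) (vec n) = 0) = true →
      stabW.any (fun e => applyWord e.1 cU == cU && applyWord e.1 cU' == n) = true := by decide +kernel
  have h80 : ∀ v : leechLattice, sqNorm (v : GolayPt → ℤ) = 32 → sqNorm (v : GolayPt → ℤ) ≤ 80 :=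
    fun v hv => by rw [hv]; norm_num
  have hcomm : ∀ {g : Co0}, Commute g u5 → ∀ {v : leechLattice}, u5 • v = v → u5 • (g • v) = g • v :=
    fun hg _ hv => smul_frame_fixed hg.eq.symm hv
  obtain ⟨n1, hn1, hv1⟩ := census32 (hcomm hc fix_U.1) (by rw [sqNorm_smul]; exact coe_U32.1)
  have hk := key1 n1 hn1
  simp only [List.any_eq_true, beq_iff_eq] at hk
  obtain ⟨e1, he1, hv1'⟩ := hk
  have hok1 := List.all_eq_true.mp orb_ok e1 he1
  have hval : ∀ {e : Ent}, entOK e = true → wordValid e.1 = true := fun {e} h => by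
    simp only [entOK, Bool.and_eq_true] at h; exact h.1.1.1.1.1.1.1.2
  set h1 := (El e1.1)⁻¹ * h with hh1
  have hc1 : Commute h1 u5 := (ent_spec hok1).1.inv_left.mul_left hc
  have h1U : h1 • Spor.leechU = Spor.leechU := by
    rw [hh1, mul_smul, inv_smul_eq_iff]
    refine Subtype.ext ?_
    rw [hv1, El_smul (hval hok1) _ _ (h80 _ coe_U32.1) coe_leechU, hv1']
  obtain ⟨n2, hn2, hv2⟩ := census32 (hcomm hc1 fix_U.2) (by rw [sqNorm_smul]; exact coe_U32.2)
  have hd : dotInt (vec cU) (vec n2) = 0 := by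
    rw [← hv2, dotInt_eq_of_smul h1U coe_leechU, coe_leechU, coe_leechU']
    decide +kernel
  have hk := key2 n2 hn2 (decide_eq_true hd)
  simp only [List.any_eq_true, Bool.and_eq_true, beq_iff_eq] at hk
  obtain ⟨e2, he2, hU2, hU2'⟩ := hk
  have hok2 := List.all_eq_true.mp stab_ok e2 he2
  set h2 := (El e2.1)⁻¹ * h1 with hh2
  have h2U : h2 • Spor.leechU = Spor.leechU := by
    rw [hh2, mul_smul, h1U, inv_smul_eq_iff]
    refine Subtype.ext ?_
    rw [El_smul (hval hok2) _ _ (h80 _ coe_U32.1) coe_leechU, hU2, coe_leechU]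
  have h2U' : h2 • Spor.leechU' = Spor.leechU' := by
    rw [hh2, mul_smul, inv_smul_eq_iff]
    refine Subtype.ext ?_
    rw [hv2, El_smul (hval hok2) _ _ (h80 _ coe_U32.2) coe_leechU', hU2']
  obtain ⟨e3, he3, e3eq⟩ := mono_case h2U h2U' ((ent_spec hok2).1.inv_left.mul_left hc1)
  refine ⟨e1, he1, e2, he2, e3, he3, ?_⟩
  rw [← e3eq, hh2, hh1]
  group

theorem exists_rel (h : C5) : ∃ w : alternatingFiveWreathTwo, Rel (h : Co0) w := by
  obtain ⟨e1, h1, e2, h2, e3, h3, e⟩ := decompose (Subgroup.mem_centralizer_singleton_iff.mp h.2)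
  obtain ⟨-, m1, r1⟩ := ent_spec (List.all_eq_true.mp orb_ok e1 h1)
  obtain ⟨-, m2, r2⟩ := ent_spec (List.all_eq_true.mp stab_ok e2 h2)
  obtain ⟨-, m3, r3⟩ := ent_spec (List.all_eq_true.mp mono_ok e3 h3)
  exact ⟨⟨_, mul_mem (mul_mem m1 m2) m3⟩, e ▸ rel_mul (rel_mul r1 r2) r3⟩

/-- The action of the centralizer on the ten partitions. -/
noncomputable def theta : C5 →* alternatingFiveWreathTwo :=
  MonoidHom.mk' (fun h => (exists_rel h).choose) fun g h =>
    Subtype.ext (rel_functional (exists_rel (g * h)).choose_spec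
      (rel_mul (exists_rel g).choose_spec (exists_rel h).choose_spec))

theorem theta_eq {h : C5} {w : Equiv.Perm (Fin 5 ⊕ Fin 5)} (hw : Rel (h : Co0) w) :
    (theta h : Equiv.Perm (Fin 5 ⊕ Fin 5)) = w :=
  rel_functional (exists_rel h).choose_spec hw

/-- A certified preimage. -/
theorem range_of_ent {e : Ent} (he : e ∈ genW) :
    ∃ g : C5, (g : Co0) = El e.1 ∧ (theta g : Equiv.Perm (Fin 5 ⊕ Fin 5)) = wOf e := by
  obtain ⟨hc, -, hr⟩ := ent_spec (List.all_eq_true.mp gen_ok e he)
  exact ⟨⟨El e.1, Subgroup.mem_centralizer_singleton_iff.mpr hc.eq⟩, rfl, theta_eq hr⟩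

/-- The three certified elements. -/
def gA : Ent := genW.getD 0 ([], [], [], [], [], [], false)
/-- The second. -/
def gB : Ent := genW.getD 1 ([], [], [], [], [], [], false)
/-- The swap. -/
def gS : Ent := genW.getD 2 ([], [], [], [], [], [], false)

theorem gen_mem' : gA ∈ genW ∧ gB ∈ genW ∧ gS ∈ genW := by
  have h : genW.length = 3 := by decide +kernel
  have hk : ∀ (n : ℕ) (d : Ent), n < genW.length → genW.getD n d ∈ genW := fun n d hn => by
    rw [List.getD_eq_getElem _ _ hn]; exact List.getElem_mem hn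
  exact ⟨hk 0 _ (by omega), hk 1 _ (by omega), hk 2 _ (by omega)⟩

theorem gen_facts :
    (tauOf gA = 1 ∧ gA.2.2.2.2.2.2 = false) ∧ (tauOf gB = 1 ∧ gB.2.2.2.2.2.2 = false) ∧
    (sigmaOf gS = 1 ∧ tauOf gS = 1 ∧ gS.2.2.2.2.2.2 = true) ∧
    Equiv.Perm.sign (sigmaOf gA) = 1 ∧ Equiv.Perm.sign (sigmaOf gB) = 1 := by
  decide +kernel

/-- Closing a list under multiplication by two elements. -/
def grow (a b : Equiv.Perm (Fin 5)) : ℕ → List (Equiv.Perm (Fin 5))
  | 0 => [1]
  | n + 1 => let l := grow a b n; (l ++ l.map (· * a) ++ l.map (· * b)).dedup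

theorem grow_all : ∀ σ : Equiv.Perm (Fin 5), Equiv.Perm.sign σ = 1 →
    σ ∈ grow (sigmaOf gA) (sigmaOf gB) 10 := by
  decide +kernel

theorem theta_surjective : Function.Surjective theta := by
  obtain ⟨⟨hAt, hAf⟩, ⟨hBt, hBf⟩, ⟨hSs, hSt, hSf⟩, -, -⟩ := gen_facts
  obtain ⟨hA, hB, hS⟩ := gen_mem'
  set R := theta.range.map alternatingFiveWreathTwo.subtype with hR
  have hmem : ∀ {e : Ent}, e ∈ genW → wOf e ∈ R := fun {e} he => by
    obtain ⟨g, -, hg⟩ := range_of_ent he
    exact ⟨theta g, ⟨g, rfl⟩, hg⟩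
  have ha : emb (sigmaOf gA) 1 false ∈ R := by simpa [wOf, hAt, hAf] using hmem hA
  have hb : emb (sigmaOf gB) 1 false ∈ R := by simpa [wOf, hBt, hBf] using hmem hB
  have hs : emb 1 1 true ∈ R := by simpa [wOf, hSs, hSt, hSf] using hmem hS
  have hgrow : ∀ n, ∀ σ ∈ grow (sigmaOf gA) (sigmaOf gB) n, emb σ 1 false ∈ R := by
    intro n
    induction n with
    | zero =>
      intro σ hσ
      rw [grow, List.mem_singleton] at hσ
      rw [hσ, emb_one]
      exact R.one_mem
    | succ n ih =>
      intro σ hσ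
      simp only [grow, List.mem_dedup, List.mem_append, List.mem_map] at hσ
      rcases hσ with (hσ | ⟨τ, hτ, rfl⟩) | ⟨τ, hτ, rfl⟩
      · exact ih σ hσ
      · simpa [emb_mul] using R.mul_mem (ih τ hτ) ha
      · simpa [emb_mul] using R.mul_mem (ih τ hτ) hb
  intro w
  obtain ⟨σ, τ, f, hσ, hτ, hw⟩ := exists_emb w.2
  have h1 : emb σ 1 false ∈ R := hgrow 10 σ (grow_all σ (Equiv.Perm.mem_alternatingGroup.mp hσ))
  have h2 : emb 1 τ false ∈ R := by
    have := R.mul_mem (R.mul_mem hs (hgrow 10 τ (grow_all τ (Equiv.Perm.mem_alternatingGroup.mp hτ)))) hs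
    simpa [emb_mul] using this
  have h3 : emb 1 1 f ∈ R := by
    cases f
    · rw [emb_one]; exact R.one_mem
    · exact hs
  have h4 := R.mul_mem (R.mul_mem h1 h2) h3
  simp only [emb_mul] at h4
  simp at h4
  obtain ⟨w', hw', e⟩ := h4
  obtain ⟨g, rfl⟩ := hw'
  exact ⟨g, Subtype.ext (e.trans hw.symm)⟩

theorem neg_mem : negAut ∈ C5 :=
  Subgroup.mem_centralizer_singleton_iff.mpr (Subgroup.mem_center_iff.mp negAut_mem_center u5).symm

theorem u5_mem : u5 ∈ C5 := Subgroup.mem_centralizer_singleton_iff.mpr rfl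

theorem theta_u : theta ⟨u5, u5_mem⟩ = 1 := by
  refine Subtype.ext (theta_eq ⟨1, fun x => Or.inl ?_, fun _ => ⟨1, fun _ => rfl⟩⟩)
  have key : ∀ x : Fin 60, fixes wU (posR.getD x 0) = true := by decide +kernel
  exact El_fixes (key x) (coe_root x)

theorem theta_neg : theta ⟨negAut, neg_mem⟩ = 1 :=
  Subtype.ext (theta_eq ⟨1, fun x => Or.inr (negAut_smul _), fun _ => ⟨1, fun _ => rfl⟩⟩)

/-- The generator of the kernel. -/
noncomputable def nu : C5 := ⟨negAut, neg_mem⟩ * ⟨u5, u5_mem⟩

theorem neg_sq : negAut * negAut = (1 : Co0) := by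
  refine ext_frame fun i => Subtype.ext ?_
  rw [mul_smul, negAut_smul, negAut_smul, neg_neg, one_smul]

theorem order_nu : orderOf nu = 10 := by
  rw [← Subgroup.orderOf_coe]
  show orderOf (negAut * u5) = 10
  have h2 : orderOf negAut = 2 := by
    refine orderOf_eq_prime (by rw [pow_two]; exact neg_sq) fun h => ?_
    have := congrArg (fun a : Co0 => a • (frame none : leechLattice)) h
    simp only [negAut_smul, one_smul] at this
    exact LeechStab.ne_neg (by rw [sqNorm_frame]; norm_num) this.symm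
  rw [Commute.orderOf_mul_eq_mul_orderOf_of_coprime
    (Subgroup.mem_center_iff.mp negAut_mem_center u5).symm (by rw [h2, order_u5]; norm_num), h2, order_u5]

theorem card_C5 : Nat.card C5 ≤ 72000 := by
  haveI := LeechOrder.finite_Co0
  have hlen : orbW.length = 120 ∧ stabW.length = 30 ∧ monoW.length = 20 := by
    refine ⟨?_, ?_, ?_⟩ <;> decide +kernel
  let F : Fin orbW.length × Fin stabW.length × Fin monoW.length → Co0 :=
    fun x => El (orbW.get x.1).1 * El (stabW.get x.2.1).1 * El (monoW.get x.2.2).1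
  have hsub : (C5 : Set Co0) ⊆ Set.range F := by
    intro h hh
    obtain ⟨e1, h1, e2, h2, e3, h3, e⟩ := decompose (Subgroup.mem_centralizer_singleton_iff.mp hh)
    obtain ⟨i, rfl⟩ := List.mem_iff_get.mp h1
    obtain ⟨j, rfl⟩ := List.mem_iff_get.mp h2
    obtain ⟨k, rfl⟩ := List.mem_iff_get.mp h3
    exact ⟨(i, j, k), e.symm⟩
  calc Nat.card C5 = (C5 : Set Co0).ncard := Nat.card_coe_set_eq _
    _ ≤ (Set.range F).ncard := Set.ncard_le_ncard hsub
    _ ≤ Nat.card (Fin orbW.length × Fin stabW.length × Fin monoW.length) := by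
      rw [← Nat.card_coe_set_eq]; exact Finite.card_range_le F
    _ = 72000 := by
      rw [Nat.card_prod, Nat.card_prod, Nat.card_fin, Nat.card_fin, Nat.card_fin, hlen.1, hlen.2.1, hlen.2.2]

theorem ker_theta : theta.ker = Subgroup.zpowers nu := by
  haveI := LeechOrder.finite_Co0
  have hle : Subgroup.zpowers nu ≤ theta.ker := by
    rw [Subgroup.zpowers_le, MonoidHom.mem_ker, nu, map_mul, theta_neg, theta_u, mul_one]
  refine (Subgroup.eq_of_le_of_card_ge hle ?_).symm
  rw [Nat.card_zpowers, order_nu]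
  have h1 := Subgroup.card_eq_card_quotient_mul_card_subgroup theta.ker
  rw [Nat.card_congr (QuotientGroup.quotientKerEquivOfSurjective theta theta_surjective).toEquiv] at h1
  have h2 := card_C5
  have h3 := WreathFive69.card_ge
  nlinarith

theorem theta_ker_iff (g : C5) :
    theta g = 1 ↔ ∃ k : ℕ, (g : Co0) = u5 ^ k ∨ (g : Co0) = negAut * u5 ^ k := by
  haveI := LeechOrder.finite_Co0
  constructor
  · intro h
    rw [← MonoidHom.mem_ker, ker_theta] at h
    obtain ⟨k, rfl⟩ := mem_powers_iff_mem_zpowers.mpr h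
    refine ⟨k, ?_⟩
    have hc : Commute negAut u5 := (Subgroup.mem_center_iff.mp negAut_mem_center u5).symm
    show (nu : Co0) ^ k = _ ∨ (nu : Co0) ^ k = _
    rw [show (nu : Co0) = negAut * u5 from rfl, hc.mul_pow]
    rcases Nat.even_or_odd k with ⟨m, hm⟩ | ⟨m, hm⟩
    · left; rw [hm, ← two_mul, pow_mul negAut, pow_two, neg_sq, one_pow, one_mul]
    · right; rw [hm, pow_succ, pow_mul negAut, pow_two, neg_sq, one_pow, one_mul]
  · rintro ⟨k, h | h⟩
    · rw [show g = (⟨u5, u5_mem⟩ : C5) ^ k from Subtype.ext h, map_pow, theta_u, one_pow]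
    · rw [show g = ⟨negAut, neg_mem⟩ * (⟨u5, u5_mem⟩ : C5) ^ k from Subtype.ext h, map_mul, map_pow,
        theta_u, theta_neg, one_pow, one_mul]

theorem faithful (g : C5) (hg : ∀ i, Cong ((g : Co0) • bVec i) (bVec i)) : theta g = 1 := by
  haveI := LeechOrder.finite_Co0
  by_contra hne
  have hsm : ∀ (a : Co0) (x y : leechLattice), a • (x + y) = a • x + a • y := fun a x y => a.2.1 x y
  have hcomb : ∀ a : Co0, (∀ i, Cong (a • bVec i) (bVec i)) → ∀ c, Cong (a • comb bVec c) (comb bVec c) := by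
    intro a ha c
    have h0 : a • (0 : leechLattice) = 0 := by
      have h := hsm a 0 0
      rw [add_zero] at h
      exact left_eq_add.mp h
    have hterm : ∀ k, Cong (a • (if c k then bVec k else 0)) (if c k then bVec k else 0) := fun k => by
      cases c k
      · simp only [Bool.false_eq_true, if_false, h0]; exact cong_refl 0
      · exact ha k
    unfold comb
    simp only [Fin.sum_univ_eight, hsm]
    exact cong_add (cong_add (cong_add (cong_add (cong_add (cong_add (cong_add (hterm 0) (hterm 1)) (hterm 2))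
      (hterm 3)) (hterm 4)) (hterm 5)) (hterm 6)) (hterm 7)
  have hfix : ∀ (b : C5) (i : Fin 8), u5 • ((b : Co0) • bVec i) = (b : Co0) • bVec i := fun b i =>
    smul_frame_fixed (Subgroup.mem_centralizer_singleton_iff.mp b.2).symm (fixed_bVec i)
  let K : Subgroup C5 :=
    { carrier := {b | ∀ i, Cong ((b : Co0) • bVec i) (bVec i)}
      one_mem' := fun i => by simpa using cong_refl (bVec i)
      mul_mem' := fun {a b} ha hb i => by
        rw [Subgroup.coe_mul, mul_smul]
        exact cong_trans (smul_cong (hb i)) (ha i)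
      inv_mem' := fun {a} ha i => by
        have := smul_cong (g := (a : Co0)⁻¹) (ha i)
        rw [inv_smul_smul] at this
        exact cong_symm this }
  haveI hK : K.Normal := ⟨fun a ha b i => by
    obtain ⟨c, hc⟩ := fixed_mem (hfix b⁻¹ i)
    rw [Subgroup.coe_mul, Subgroup.coe_mul, mul_smul, mul_smul]
    have h1 : Cong ((a : Co0) • ((b⁻¹ : C5) : Co0) • bVec i) (((b⁻¹ : C5) : Co0) • bVec i) :=
      cong_trans (smul_cong hc) (cong_trans (hcomb _ ha c) (cong_symm hc))
    have h2 := smul_cong (g := (b : Co0)) h1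
    rwa [Subgroup.coe_inv, smul_inv_smul] at h2⟩
  haveI : (K.map theta).Normal := hK.map theta theta_surjective
  obtain ⟨⟨hAt, hAf⟩, -, -, hAs, -⟩ := gen_facts
  obtain ⟨hA, -, -⟩ := gen_mem'
  have hmem := left_le (N := K.map theta)
    ((Subgroup.ne_bot_iff_exists_ne_one).mpr ⟨⟨theta g, g, hg, rfl⟩, fun e => hne (congrArg Subtype.val e)⟩)
    (Equiv.Perm.mem_alternatingGroup.mpr hAs)
  obtain ⟨k, hk, hkA⟩ := hmem
  obtain ⟨a, ha, haw⟩ := range_of_ent hA
  have hker : k⁻¹ * a ∈ theta.ker := by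
    rw [MonoidHom.mem_ker, map_mul, map_inv, inv_mul_eq_one]
    refine Subtype.ext ?_
    rw [haw, hkA]
    simp [wOf, hAt, hAf]
  have hkerK : theta.ker ≤ K := by
    rw [ker_theta, Subgroup.zpowers_le]
    intro i
    show Cong ((negAut * u5) • bVec i) (bVec i)
    rw [mul_smul, fixed_bVec, negAut_smul]
    exact cong_neg _
  have haK : a ∈ K := by simpa using K.mul_mem hk (hkerK hker)
  have key : ∃ i j : Fin 8, ¬ (16 : ℤ) ∣ dotInt (vec (applyWord gA.1 (basis.getD i 0))) (vec (basis.getD j 0)) -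
      dotInt (vec (basis.getD i 0)) (vec (basis.getD j 0)) := by decide +kernel
  obtain ⟨i, j, hij⟩ := key
  refine hij ?_
  have h := dot_twice (haK i) (bVec j)
  have hv : wordValid gA.1 = true := by
    have := List.all_eq_true.mp gen_ok gA hA
    simp only [entOK, Bool.and_eq_true] at this; exact this.1.1.1.1.1.1.1.2
  have h80 : sqNorm ((bVec i : leechLattice) : GolayPt → ℤ) ≤ 80 := by
    have := (basis_ok i).2.1
    rw [smallVec, decide_eq_true_eq, ← sqNorm_vec] at this
    exact this
  rw [ha, El_smul hv _ _ h80 (coe_ofCode _ _)] at h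
  exact h

/-- The data of the element of order 5. -/
noncomputable def data : OddData 5 8 u5 alternatingFiveWreathTwo where
  prime := by norm_num
  odd := by norm_num
  order := order_u5
  b := bVec
  pos := by norm_num
  fixed c := by rw [smul_comb]; exact cong_refl _
  span v h := span_cong h
  indep := indep
  nondeg := nondeg
  θ := theta
  surj := theta_surjective
  ker := theta_ker_iff
  small := WreathFive69.small
  faithful := faithful

theorem mem_mono_u5 : u5 ∈ mono := by
  refine mem_mono_of_frame (Or.inl (Subtype.ext ?_))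
  rw [El_frame (by decide +kernel), frame_code]
  rw [show applyWord wU (frameCodes.getD (idx (none : GolayPt)) 0) = frameCodes.getD (idx (none : GolayPt)) 0 by
    decide +kernel]

end Cfsg.Agent.LeechFive69
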