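import Cfsg.Agent.Lib.LeechOutData

/-!
Data for the centralizer of the element of order 5 of trace 4.
-/

set_option autoImplicit false
set_option maxRecDepth 20000

namespace Cfsg.Agent.LeechFive69Data

open Cfsg.Agent.LeechCert (Step)

abbrev Ent : Type := List Step × List ℕ × (List ℕ × List ℕ × List ℕ × List ℕ × Bool)

/-- fixed vectors of norm 32 up to sign -/
def posR : List ℕ :=
  [519899659641680805127698729356771856,
   852206658587909773353650494426858000,
   769129908848934679657860724693678672,
   602976409375820195544884842292853328,
   602976409380655898823488498687298128,
   769129908853770382936464381356558928,
   686053159114795289240674611623379600,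
   519899659641680805127698729222554256,
   852206658587909773353650494292640400,
   686053159114795289240674611891815056,
   728847734913316492063531367707164081,
   643258580837976080114936173691387313,
   643174839148418589966014130639390129,
   728931481559469994818216774992446897,
   726251588882557980383200243575471601,
   812008231293609385235402887928528369,
   560098089409443496270224361174646257,
   645854731820494901122427005527703025,
   645770985179177101646345254636865009,
   560181831103836689697750060621088241,
   811924484652291585759321137306125809,
   726335330576951173810725943290349041,
   643258580837976080114936173557169713,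
   562694235440202007950555485172121137,
   809412080311090564227912056226430513,
   728847734913316492063531367841381937,
   728931481559469994818216774858229297,
   809328338621533074078990013174433329,
   562777982086355510705240892457403953,
   643174839148418589966014130773607985,
   645854731820494901122427005393485425,
   726251588882557980383200243709689457,
   726335330576951173810725943156131441,
   645770985179177101646345254771082865,
   686136903282650785692478336792019410,
   766533760344713864953251575108223442,
   605572557884876713528097648406970834,
   685969414946939792788870886723174866,
   769129906375472376633582699105698322,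
   602976406902357892520606816704872978,
   602976411854118201847766524275278354,
   769129911327232685960742406944539154,
   685969414946939792788870886588957266,
   600380260871599380840275692573180498,
   771726057357991197641073530942014034,
   686136903282650785692478336926237266,
   643174836670120583663132448522747379,
   728931479081171988515335092875804147,
   728847737391614498366413049823806963,
   643258583316274086417817855808030195,
   726335333050413476835003968744111667,
   645770987652639404670623280359063091,
   645854729347032598098148979805505075,
   726251586409095677358922218121709107,
   686053159114795289240674611757597076,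
   686053159114795289240674611623379476,
   519899659641680805127698729222554132,
   852206658587909773353650494292640276,
   686053159114795289240674611891814932,
   686053159114795289240674611757597332]

/-- their negatives -/
def negR : List ℕ :=
  [852206658587909773353650494158422544,
   519899659641680805127698729088336400,
   602976409380655898823488498821515728,
   769129908853770382936464381222341072,
   769129908848934679657860724827896272,
   602976409375820195544884842158635472,
   686053159114795289240674611891814800,
   852206658587909773353650494292640144,
   519899659641680805127698729222554000,
   686053159114795289240674611623379344,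
   643258583316274086417817855808030319,
   728847737391614498366413049823807087,
   728931479081171988515335092875804271,
   643174836670120583663132448522747503,
   645854729347032598098148979939722799,
   560098086935981193245946335586666031,
   812008228820147082211124862340548143,
   726251586409095677358922217987491375,
   726335333050413476835003968878329391,
   811924487125753888783599162894106159,
   560181833577298992722028086209068591,
   645770987652639404670623280224845359,
   728847737391614498366413049958024687,
   809412082789388570530793738343073263,
   562694237918500014253437167288763887,
   643258583316274086417817855673812463,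
   643174836670120583663132448656965103,
   562777979608057504402359210340761071,
   809328336143235067776108331057790447,
   728931479081171988515335092741586415,
   726251586409095677358922218121708975,
   645854729347032598098148979805504943,
   645770987652639404670623280359062959,
   726335333050413476835003968744111535,
   685969414946939792788870886723174990,
   605572557884876713528097648406970958,
   766533760344713864953251575108223566,
   686136903282650785692478336792019534,
   602976411854118201847766524409496078,
   769129911327232685960742406810321422,
   769129906375472376633582699239916046,
   602976406902357892520606816570655246,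
   686136903282650785692478336926237134,
   771726057357991197641073530942013902,
   600380260871599380840275692573180366,
   685969414946939792788870886588957134,
   728931481559469994818216774992447021,
   643174839148418589966014130639390253,
   643258580837976080114936173691387437,
   728847734913316492063531367707164205,
   645770985179177101646345254771082733,
   726335330576951173810725943156131309,
   726251588882557980383200243709689325,
   645854731820494901122427005393485293,
   686053159114795289240674611757597324,
   686053159114795289240674611891814924,
   852206658587909773353650494292640268,
   519899659641680805127698729222554124,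
   686053159114795289240674611623379468,
   686053159114795289240674611757597068]

/-- the ten partitions -/
def blk : List (List ℕ) :=
  [[0, 0, 1, 2, 3, 4, 0, 0, 0, 0, 3, 4, 2, 1, 4, 1, 2, 3, 3, 1, 2, 4, 1, 4, 3, 2, 2, 4, 3, 1, 2, 1, 3, 4, 1, 4, 3, 2, 3, 4, 2, 1, 4, 1, 2, 3, 4, 3, 2, 1, 1, 2, 3, 4, 0, 0, 0, 0, 0, 0],
   [0, 1, 0, 0, 0, 2, 0, 0, 3, 4, 2, 3, 3, 0, 4, 0, 2, 0, 4, 1, 2, 1, 2, 1, 3, 1, 0, 3, 0, 2, 0, 4, 2, 4, 4, 3, 3, 2, 2, 1, 1, 1, 4, 2, 3, 4, 2, 3, 3, 1, 4, 1, 4, 2, 3, 4, 1, 3, 1, 4],
   [0, 1, 0, 0, 2, 0, 3, 4, 0, 0, 4, 2, 0, 4, 0, 2, 0, 3, 1, 2, 1, 3, 1, 4, 1, 2, 2, 0, 4, 0, 3, 0, 3, 2, 2, 4, 4, 3, 1, 2, 1, 1, 3, 4, 2, 3, 4, 2, 1, 4, 1, 3, 2, 3, 4, 1, 4, 1, 3, 3],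
   [0, 1, 1, 2, 1, 1, 1, 3, 1, 4, 4, 1, 4, 2, 0, 3, 0, 2, 2, 1, 3, 1, 1, 2, 1, 4, 0, 2, 0, 4, 3, 2, 1, 3, 4, 3, 2, 4, 0, 0, 0, 2, 2, 3, 3, 4, 0, 4, 2, 4, 3, 2, 0, 3, 4, 0, 0, 3, 4, 3],
   [0, 1, 2, 1, 1, 1, 3, 1, 4, 1, 1, 3, 2, 3, 2, 0, 4, 0, 1, 4, 1, 2, 3, 1, 2, 1, 3, 0, 2, 0, 2, 4, 4, 1, 3, 2, 4, 3, 0, 0, 2, 0, 3, 4, 4, 2, 3, 0, 3, 2, 2, 4, 4, 0, 3, 3, 4, 0, 0, 4],
   [0, 0, 1, 2, 3, 4, 0, 0, 0, 0, 4, 3, 1, 2, 1, 3, 4, 2, 2, 3, 4, 1, 4, 2, 1, 3, 3, 2, 1, 4, 1, 2, 4, 3, 3, 1, 2, 4, 4, 3, 1, 2, 2, 4, 3, 1, 4, 3, 2, 1, 1, 2, 3, 4, 0, 0, 0, 0, 0, 0],
   [0, 1, 1, 2, 1, 1, 1, 3, 1, 4, 3, 1, 2, 3, 4, 0, 2, 0, 4, 1, 2, 1, 1, 3, 1, 2, 2, 0, 3, 0, 2, 4, 1, 4, 4, 3, 3, 2, 0, 0, 2, 0, 4, 3, 2, 4, 3, 0, 2, 3, 4, 2, 4, 0, 3, 4, 3, 0, 0, 4],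
   [0, 1, 2, 1, 1, 1, 3, 1, 4, 1, 1, 4, 4, 2, 0, 2, 0, 3, 1, 2, 1, 3, 2, 1, 4, 1, 0, 4, 0, 2, 3, 2, 3, 1, 2, 4, 4, 3, 0, 0, 0, 2, 3, 2, 4, 3, 0, 4, 4, 2, 2, 3, 0, 3, 4, 0, 0, 4, 3, 3],
   [0, 1, 0, 0, 0, 2, 0, 0, 3, 4, 4, 2, 4, 0, 2, 0, 3, 0, 1, 3, 1, 2, 1, 2, 1, 4, 0, 2, 0, 4, 0, 3, 3, 2, 4, 2, 3, 4, 1, 2, 1, 1, 2, 3, 3, 4, 2, 4, 1, 4, 1, 3, 3, 2, 4, 1, 3, 1, 4, 3],
   [0, 1, 0, 0, 2, 0, 3, 4, 0, 0, 2, 3, 0, 3, 0, 4, 0, 2, 2, 1, 4, 1, 3, 1, 2, 1, 3, 0, 2, 0, 4, 0, 2, 4, 3, 4, 2, 3, 2, 1, 1, 1, 3, 4, 4, 2, 3, 2, 3, 1, 4, 1, 2, 4, 3, 3, 1, 4, 1, 4]]

/-- block representatives -/
def bRep : List (List ℕ) :=
  [[0, 2, 3, 4, 5],
   [0, 1, 5, 8, 9],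
   [0, 1, 4, 6, 7],
   [0, 1, 3, 7, 9],
   [0, 1, 2, 6, 8],
   [0, 2, 3, 4, 5],
   [0, 1, 3, 7, 9],
   [0, 1, 2, 6, 8],
   [0, 1, 5, 8, 9],
   [0, 1, 4, 6, 7]]

/-- orbit words, part 0 -/
def orbW0 : List Ent :=
  [([some (66338862830766066076396169046202528, 3719203, [(0, true), (115, true), (45, false), (105, false), (95, false), (5, true), (10, false), (60, false), (80, false), (40, false), (90, false), (20, false), (100, false), (75, false), (55, true), (50, true), (30, false), (65, false), (70, false), (110, true), (85, true), (35, true), (15, false), (25, false)])],
   [8, 7, 5, 2, 4, 3, 1, 6, 9, 0, 26, 18, 14, 22, 27, 32, 12, 19, 15, 10, 30, 23, 20, 13, 33, 28, 24, 31, 11, 16, 21, 29, 25, 17, 38, 42, 34, 40, 44, 36, 35, 43, 41, 37, 45, 39, 48, 52, 50, 46, 53, 49, 47, 51, 55, 57, 54, 59, 56, 58],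
   ([0, 4, 1, 3, 2], [0, 2, 4, 3, 1], [0, 1, 4, 2, 3], [0, 1, 3, 4, 2], true)),
   ([some (211892490131455484380679954830632672, 8663097, [(0, true), (25, false), (30, false), (110, true), (55, true), (115, true), (80, false), (105, false), (45, false), (10, false), (75, false), (70, false), (35, true), (85, true), (90, false), (65, false), (40, false), (100, false), (50, true), (20, false), (60, false), (15, false), (95, false), (5, true)])],
   [9, 6, 5, 3, 2, 4, 8, 0, 1, 7, 28, 19, 23, 16, 33, 29, 18, 12, 30, 22, 17, 11, 32, 26, 21, 13, 31, 25, 14, 10, 27, 20, 24, 15, 43, 39, 40, 36, 45, 34, 42, 37, 44, 38, 41, 35, 52, 49, 51, 46, 53, 48, 50, 47, 56, 59, 55, 58, 54, 57],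
   ([0, 3, 1, 2, 4], [0, 2, 3, 1, 4], [0, 4, 2, 1, 3], [0, 3, 2, 4, 1], true)),
   ([some (984818244535754528103549039458486304, 12717187, [(0, true), (5, true), (10, false), (15, false), (20, false), (25, false), (30, false), (35, true), (40, false), (45, false), (50, true), (55, true), (60, false), (65, false), (70, false), (75, false), (80, false), (85, true), (90, false), (95, false), (100, false), (105, false), (110, true), (115, true)])],
   [1, 0, 5, 4, 3, 2, 9, 7, 8, 6, 13, 12, 11, 10, 21, 20, 19, 18, 17, 16, 15, 14, 29, 28, 27, 26, 25, 24, 23, 22, 33, 32, 31, 30, 37, 35, 36, 34, 41, 40, 39, 38, 45, 43, 44, 42, 49, 48, 47, 46, 53, 52, 51, 50, 54, 58, 56, 57, 55, 59],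
   ([0, 2, 1, 4, 3], [0, 2, 1, 4, 3], [0, 2, 1, 4, 3], [0, 2, 1, 4, 3], true)),
   ([some (984818244535754528103549039458486304, 3719203, [(0, true), (5, true), (10, false), (15, false), (20, false), (25, true), (30, false), (35, false), (40, false), (45, false), (50, false), (55, false), (60, false), (65, false), (70, true), (75, true), (80, false), (85, false), (90, false), (95, true), (100, true), (105, true), (110, false), (115, false)])],
   [1, 0, 4, 5, 2, 3, 6, 8, 7, 9, 12, 13, 10, 11, 18, 19, 20, 21, 14, 15, 16, 17, 26, 27, 28, 29, 22, 23, 24, 25, 32, 33, 30, 31, 34, 36, 35, 37, 40, 41, 38, 39, 42, 44, 43, 45, 48, 49, 46, 47, 52, 53, 50, 51, 54, 55, 57, 56, 58, 59],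
   ([0, 1, 2, 3, 4], [0, 1, 2, 3, 4], [0, 1, 2, 3, 4], [0, 1, 2, 3, 4], true)),
   ([some (211892490131455484380679954830632672, 12717187, [(0, true), (25, true), (30, false), (110, false), (55, false), (115, false), (80, false), (105, true), (45, false), (10, false), (75, true), (70, true), (35, false), (85, false), (90, false), (65, false), (40, false), (100, true), (50, false), (20, false), (60, false), (15, false), (95, true), (5, true)])],
   [9, 6, 3, 5, 4, 2, 7, 1, 0, 8, 19, 28, 16, 23, 12, 18, 29, 33, 11, 17, 22, 30, 13, 21, 26, 32, 10, 14, 25, 31, 20, 27, 15, 24, 36, 40, 39, 43, 34, 45, 37, 42, 35, 41, 38, 44, 49, 52, 46, 51, 48, 53, 47, 50, 56, 54, 58, 55, 59, 57],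
   ([0, 1, 3, 4, 2], [0, 1, 4, 2, 3], [0, 2, 4, 3, 1], [0, 4, 1, 3, 2], true))]

/-- orbit words, part 1 -/
def orbW1 : List Ent :=
  [([some (66338862830766066076396169046202528, 8663097, [(0, true), (115, false), (45, false), (105, true), (95, true), (5, true), (10, false), (60, false), (80, false), (40, false), (90, false), (20, false), (100, true), (75, true), (55, false), (50, false), (30, false), (65, false), (70, true), (110, false), (85, false), (35, false), (15, false), (25, true)])],
   [8, 7, 2, 5, 3, 4, 0, 9, 6, 1, 18, 26, 22, 14, 19, 12, 32, 27, 23, 30, 10, 15, 28, 33, 13, 20, 16, 11, 31, 24, 29, 21, 17, 25, 40, 34, 42, 38, 36, 44, 43, 35, 39, 45, 37, 41, 52, 48, 46, 50, 49, 53, 51, 47, 55, 56, 59, 54, 57, 58],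
   ([0, 1, 4, 2, 3], [0, 1, 3, 4, 2], [0, 4, 1, 3, 2], [0, 2, 4, 3, 1], true)),
   ([some (188452274868421494761278041585039757, 15048437, [(25, true), (20, false), (80, true), (55, false), (115, true), (105, true), (15, true), (90, true), (35, false), (50, true), (85, true), (60, true), (5, true), (0, false), (10, false), (30, true), (70, true), (110, false), (65, true), (40, false), (95, false), (75, true), (100, true), (45, true)]),
    none,
    some (338094597766541383408962466926083296, 6714673, [(0, true), (80, false), (45, false), (85, false), (110, true), (20, true), (30, false), (5, false), (115, true), (15, false), (25, true), (40, false), (75, true), (35, true), (105, true), (10, false), (55, false), (90, true), (60, true), (95, false), (50, false), (100, true), (70, true), (65, false)]),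
    none,
    some (595213462162605248575372138077980235, 1862238, [(35, false), (10, true), (60, true), (70, true), (100, true), (90, false), (55, true), (80, false), (50, false), (30, true), (110, false), (0, true), (20, false), (25, true), (115, true), (75, false), (65, false), (105, false), (5, true), (45, true), (95, true), (40, false), (85, false), (15, false)]),
    none,
    some (338094597766541383408962466926083296, 6714673, [(0, true), (80, false), (45, false), (85, false), (110, true), (20, true), (30, false), (5, false), (115, true), (15, false), (25, true), (40, false), (75, true), (35, true), (105, true), (10, false), (55, false), (90, true), (60, true), (95, false), (50, false), (100, true), (70, true), (65, false)]),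
    none,
    some (679589550823386563235388888544532787, 7638712, [(60, false), (25, false), (15, false), (90, true), (40, true), (100, true), (80, false), (70, true), (65, false), (5, true), (85, true), (110, true), (55, false), (50, false), (30, false), (20, true), (115, false), (105, false), (45, true), (0, false), (95, true), (35, true), (10, true), (75, false)])],
   [58, 30, 49, 25, 12, 40, 45, 37, 21, 51, 48, 14, 23, 34, 56, 29, 1, 47, 44, 2, 20, 28, 50, 26, 35, 3, 9, 39, 54, 41, 10, 19, 24, 16, 31, 46, 11, 18, 57, 0, 7, 15, 52, 22, 5, 36, 55, 27, 33, 13, 43, 4, 8, 38, 42, 59, 6, 53, 17, 32],
   ([2, 4, 0, 3, 1], [2, 4, 0, 3, 1], [2, 3, 4, 0, 1], [3, 4, 0, 1, 2], true)),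
   ([some (188452274868421494761278041585039757, 15048437, [(25, true), (20, false), (80, true), (55, false), (115, true), (105, true), (15, true), (90, true), (35, false), (50, true), (85, true), (60, true), (5, true), (0, false), (10, false), (30, true), (70, true), (110, false), (65, true), (40, false), (95, false), (75, true), (100, true), (45, true)]),
    none,
    some (338094597766541383408962466926083296, 6714673, [(0, true), (80, false), (45, false), (85, false), (110, true), (20, true), (30, false), (5, false), (115, true), (15, false), (25, true), (40, false), (75, true), (35, true), (105, true), (10, false), (55, false), (90, true), (60, true), (95, false), (50, false), (100, true), (70, true), (65, false)]),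
    none,
    some (595213462162605248575372138077980235, 1862238, [(35, false), (10, true), (60, true), (70, true), (100, true), (90, false), (55, true), (80, false), (50, false), (30, true), (110, false), (0, true), (20, false), (25, true), (115, true), (75, false), (65, false), (105, false), (5, true), (45, true), (95, true), (40, false), (85, false), (15, false)]),
    none,
    some (338094597766541383408962466926083296, 6714673, [(0, true), (80, false), (45, false), (85, false), (110, true), (20, true), (30, false), (5, false), (115, true), (15, false), (25, true), (40, false), (75, true), (35, true), (105, true), (10, false), (55, false), (90, true), (60, true), (95, false), (50, false), (100, true), (70, true), (65, false)]),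
    none,
    some (679589550823386563235388888544532787, 9323032, [(60, false), (25, false), (15, false), (90, true), (40, true), (100, false), (80, false), (70, false), (65, false), (5, true), (85, false), (110, false), (55, false), (50, false), (30, true), (20, false), (115, false), (105, true), (45, true), (0, true), (95, false), (35, false), (10, false), (75, true)])],
   [55, 31, 48, 22, 13, 41, 42, 34, 18, 50, 49, 17, 24, 37, 57, 26, 1, 46, 43, 3, 19, 27, 51, 29, 36, 2, 6, 38, 54, 40, 11, 20, 23, 15, 30, 47, 10, 21, 56, 0, 8, 16, 53, 25, 4, 35, 58, 28, 32, 12, 44, 5, 7, 39, 45, 59, 9, 52, 14, 33],
   ([1, 3, 0, 4, 2], [2, 0, 4, 1, 3], [1, 4, 3, 0, 2], [3, 0, 4, 2, 1], true)),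
   ([some (188452274868421494761278041585039757, 15048437, [(25, true), (20, false), (80, true), (55, false), (115, true), (105, true), (15, true), (90, true), (35, false), (50, true), (85, true), (60, true), (5, true), (0, false), (10, false), (30, true), (70, true), (110, false), (65, true), (40, false), (95, false), (75, true), (100, true), (45, true)]),
    none,
    some (338094597766541383408962466926083296, 6714673, [(0, true), (80, false), (45, false), (85, false), (110, true), (20, true), (30, false), (5, false), (115, true), (15, false), (25, true), (40, false), (75, true), (35, true), (105, true), (10, false), (55, false), (90, true), (60, true), (95, false), (50, false), (100, true), (70, true), (65, false)]),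
    none,
    some (595213462162605248575372138077980235, 1862238, [(35, false), (10, true), (60, true), (70, true), (100, true), (90, false), (55, true), (80, false), (50, false), (30, true), (110, false), (0, true), (20, false), (25, true), (115, true), (75, false), (65, false), (105, false), (5, true), (45, true), (95, true), (40, false), (85, false), (15, false)]),
    none,
    some (338094597766541383408962466926083296, 6714673, [(0, true), (80, false), (45, false), (85, false), (110, true), (20, true), (30, false), (5, false), (115, true), (15, false), (25, true), (40, false), (75, true), (35, true), (105, true), (10, false), (55, false), (90, true), (60, true), (95, false), (50, false), (100, true), (70, true), (65, false)]),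
    none,
    some (679589550823386563235388888544532787, 11776356, [(60, false), (25, false), (15, true), (90, false), (40, false), (100, true), (80, true), (70, false), (65, true), (5, false), (85, false), (110, false), (55, true), (50, true), (30, false), (20, true), (115, true), (105, true), (45, false), (0, false), (95, true), (35, true), (10, false), (75, true)])],
   [58, 32, 47, 29, 10, 38, 45, 37, 17, 53, 46, 18, 27, 34, 57, 25, 0, 49, 43, 4, 16, 24, 52, 22, 36, 5, 9, 41, 54, 39, 12, 15, 28, 20, 33, 48, 13, 14, 56, 1, 8, 19, 50, 26, 3, 35, 55, 23, 31, 11, 44, 2, 7, 40, 42, 59, 6, 51, 21, 30],
   ([2, 3, 4, 0, 1], [3, 4, 0, 1, 2], [2, 4, 0, 3, 1], [2, 4, 0, 3, 1], false)),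
   ([some (188452274868421494761278041585039757, 15048437, [(25, true), (20, false), (80, true), (55, false), (115, true), (105, true), (15, true), (90, true), (35, false), (50, true), (85, true), (60, true), (5, true), (0, false), (10, false), (30, true), (70, true), (110, false), (65, true), (40, false), (95, false), (75, true), (100, true), (45, true)]),
    none,
    some (338094597766541383408962466926083296, 6714673, [(0, true), (80, false), (45, false), (85, false), (110, true), (20, true), (30, false), (5, false), (115, true), (15, false), (25, true), (40, false), (75, true), (35, true), (105, true), (10, false), (55, false), (90, true), (60, true), (95, false), (50, false), (100, true), (70, true), (65, false)]),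
    none,
    some (595213462162605248575372138077980235, 1862238, [(35, false), (10, true), (60, true), (70, true), (100, true), (90, false), (55, true), (80, false), (50, false), (30, true), (110, false), (0, true), (20, false), (25, true), (115, true), (75, false), (65, false), (105, false), (5, true), (45, true), (95, true), (40, false), (85, false), (15, false)]),
    none,
    some (338094597766541383408962466926083296, 6714673, [(0, true), (80, false), (45, false), (85, false), (110, true), (20, true), (30, false), (5, false), (115, true), (15, false), (25, true), (40, false), (75, true), (35, true), (105, true), (10, false), (55, false), (90, true), (60, true), (95, false), (50, false), (100, true), (70, true), (65, false)]),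
    none,
    some (679589550823386563235388888544532787, 4816324, [(60, false), (25, false), (15, true), (90, false), (40, false), (100, false), (80, true), (70, true), (65, true), (5, false), (85, true), (110, true), (55, true), (50, true), (30, true), (20, false), (115, true), (105, false), (45, false), (0, true), (95, false), (35, false), (10, true), (75, false)])],
   [55, 33, 46, 26, 11, 39, 42, 34, 14, 52, 47, 21, 28, 37, 56, 22, 0, 48, 44, 5, 15, 23, 53, 25, 35, 4, 6, 40, 54, 38, 13, 16, 27, 19, 32, 49, 12, 17, 57, 1, 7, 20, 51, 29, 2, 36, 58, 24, 30, 10, 43, 3, 8, 41, 45, 59, 9, 50, 18, 31],
   ([1, 4, 3, 0, 2], [3, 0, 4, 2, 1], [1, 3, 0, 4, 2], [2, 0, 4, 1, 3], false))]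

/-- orbit words, part 2 -/
def orbW2 : List Ent :=
  [([some (188452274868421494761278041585039757, 15048437, [(25, true), (20, false), (80, true), (55, false), (115, true), (105, true), (15, true), (90, true), (35, false), (50, true), (85, true), (60, true), (5, true), (0, false), (10, false), (30, true), (70, true), (110, false), (65, true), (40, false), (95, false), (75, true), (100, true), (45, true)]),
    none,
    some (338094597766541383408962466926083296, 6714673, [(0, true), (80, false), (45, false), (85, false), (110, true), (20, true), (30, false), (5, false), (115, true), (15, false), (25, true), (40, false), (75, true), (35, true), (105, true), (10, false), (55, false), (90, true), (60, true), (95, false), (50, false), (100, true), (70, true), (65, false)]),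
    none,
    some (595213462162605248575372138077980235, 1862238, [(35, false), (10, true), (60, true), (70, true), (100, true), (90, false), (55, true), (80, false), (50, false), (30, true), (110, false), (0, true), (20, false), (25, true), (115, true), (75, false), (65, false), (105, false), (5, true), (45, true), (95, true), (40, false), (85, false), (15, false)]),
    none,
    some (338094597766541383408962466926083296, 6714673, [(0, true), (80, false), (45, false), (85, false), (110, true), (20, true), (30, false), (5, false), (115, true), (15, false), (25, true), (40, false), (75, true), (35, true), (105, true), (10, false), (55, false), (90, true), (60, true), (95, false), (50, false), (100, true), (70, true), (65, false)]),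
    none,
    some (679589550823386563235388888544532787, 13139618, [(60, false), (25, true), (15, false), (90, false), (40, false), (100, true), (80, false), (70, true), (65, false), (5, true), (85, true), (110, true), (55, true), (50, true), (30, true), (20, false), (115, false), (105, false), (45, false), (0, true), (95, false), (35, false), (10, true), (75, true)])],
   [58, 10, 53, 17, 32, 38, 37, 45, 29, 47, 52, 22, 15, 42, 57, 21, 0, 51, 36, 5, 28, 20, 46, 18, 43, 4, 6, 41, 59, 39, 30, 27, 16, 24, 11, 50, 31, 26, 56, 1, 7, 23, 48, 14, 2, 44, 55, 19, 13, 33, 35, 3, 8, 40, 34, 54, 9, 49, 25, 12],
   ([3, 1, 0, 2, 4], [2, 1, 3, 0, 4], [3, 2, 1, 0, 4], [3, 2, 1, 0, 4], true)),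
   ([some (188452274868421494761278041585039757, 15048437, [(25, true), (20, false), (80, true), (55, false), (115, true), (105, true), (15, true), (90, true), (35, false), (50, true), (85, true), (60, true), (5, true), (0, false), (10, false), (30, true), (70, true), (110, false), (65, true), (40, false), (95, false), (75, true), (100, true), (45, true)]),
    none,
    some (338094597766541383408962466926083296, 6714673, [(0, true), (80, false), (45, false), (85, false), (110, true), (20, true), (30, false), (5, false), (115, true), (15, false), (25, true), (40, false), (75, true), (35, true), (105, true), (10, false), (55, false), (90, true), (60, true), (95, false), (50, false), (100, true), (70, true), (65, false)]),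
    none,
    some (595213462162605248575372138077980235, 1862238, [(35, false), (10, true), (60, true), (70, true), (100, true), (90, false), (55, true), (80, false), (50, false), (30, true), (110, false), (0, true), (20, false), (25, true), (115, true), (75, false), (65, false), (105, false), (5, true), (45, true), (95, true), (40, false), (85, false), (15, false)]),
    none,
    some (338094597766541383408962466926083296, 6714673, [(0, true), (80, false), (45, false), (85, false), (110, true), (20, true), (30, false), (5, false), (115, true), (15, false), (25, true), (40, false), (75, true), (35, true), (105, true), (10, false), (55, false), (90, true), (60, true), (95, false), (50, false), (100, true), (70, true), (65, false)]),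
    none,
    some (679589550823386563235388888544532787, 3322370, [(60, false), (25, true), (15, false), (90, false), (40, false), (100, false), (80, false), (70, false), (65, false), (5, true), (85, false), (110, false), (55, true), (50, true), (30, false), (20, true), (115, false), (105, true), (45, false), (0, false), (95, true), (35, true), (10, false), (75, false)])],
   [55, 11, 52, 14, 33, 39, 34, 42, 26, 46, 53, 25, 16, 45, 56, 18, 0, 50, 35, 4, 27, 19, 47, 21, 44, 5, 9, 40, 59, 38, 31, 28, 15, 23, 10, 51, 30, 29, 57, 1, 8, 24, 49, 17, 3, 43, 58, 20, 12, 32, 36, 2, 7, 41, 37, 54, 6, 48, 22, 13],
   ([4, 2, 0, 1, 3], [2, 3, 1, 4, 0], [4, 1, 2, 0, 3], [3, 1, 2, 4, 0], true)),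
   ([some (188452274868421494761278041585039757, 15048437, [(25, true), (20, false), (80, true), (55, false), (115, true), (105, true), (15, true), (90, true), (35, false), (50, true), (85, true), (60, true), (5, true), (0, false), (10, false), (30, true), (70, true), (110, false), (65, true), (40, false), (95, false), (75, true), (100, true), (45, true)]),
    none,
    some (338094597766541383408962466926083296, 6714673, [(0, true), (80, false), (45, false), (85, false), (110, true), (20, true), (30, false), (5, false), (115, true), (15, false), (25, true), (40, false), (75, true), (35, true), (105, true), (10, false), (55, false), (90, true), (60, true), (95, false), (50, false), (100, true), (70, true), (65, false)]),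
    none,
    some (595213462162605248575372138077980235, 1862238, [(35, false), (10, true), (60, true), (70, true), (100, true), (90, false), (55, true), (80, false), (50, false), (30, true), (110, false), (0, true), (20, false), (25, true), (115, true), (75, false), (65, false), (105, false), (5, true), (45, true), (95, true), (40, false), (85, false), (15, false)]),
    none,
    some (338094597766541383408962466926083296, 6714673, [(0, true), (80, false), (45, false), (85, false), (110, true), (20, true), (30, false), (5, false), (115, true), (15, false), (25, true), (40, false), (75, true), (35, true), (105, true), (10, false), (55, false), (90, true), (60, true), (95, false), (50, false), (100, true), (70, true), (65, false)]),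
    none,
    some (679589550823386563235388888544532787, 999806, [(60, false), (25, true), (15, true), (90, true), (40, true), (100, true), (80, true), (70, false), (65, true), (5, false), (85, false), (110, false), (55, false), (50, false), (30, true), (20, false), (115, true), (105, true), (45, true), (0, true), (95, false), (35, false), (10, false), (75, false)])],
   [58, 12, 51, 21, 30, 40, 37, 45, 25, 49, 50, 26, 19, 42, 56, 17, 1, 53, 35, 3, 24, 16, 48, 14, 44, 2, 6, 39, 59, 41, 32, 23, 20, 28, 13, 52, 33, 22, 57, 0, 8, 27, 46, 18, 4, 43, 55, 15, 11, 31, 36, 5, 7, 38, 34, 54, 9, 47, 29, 10],
   ([3, 2, 1, 0, 4], [3, 2, 1, 0, 4], [3, 1, 0, 2, 4], [2, 1, 3, 0, 4], false)),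
   ([some (188452274868421494761278041585039757, 15048437, [(25, true), (20, false), (80, true), (55, false), (115, true), (105, true), (15, true), (90, true), (35, false), (50, true), (85, true), (60, true), (5, true), (0, false), (10, false), (30, true), (70, true), (110, false), (65, true), (40, false), (95, false), (75, true), (100, true), (45, true)]),
    none,
    some (338094597766541383408962466926083296, 6714673, [(0, true), (80, false), (45, false), (85, false), (110, true), (20, true), (30, false), (5, false), (115, true), (15, false), (25, true), (40, false), (75, true), (35, true), (105, true), (10, false), (55, false), (90, true), (60, true), (95, false), (50, false), (100, true), (70, true), (65, false)]),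
    none,
    some (595213462162605248575372138077980235, 1862238, [(35, false), (10, true), (60, true), (70, true), (100, true), (90, false), (55, true), (80, false), (50, false), (30, true), (110, false), (0, true), (20, false), (25, true), (115, true), (75, false), (65, false), (105, false), (5, true), (45, true), (95, true), (40, false), (85, false), (15, false)]),
    none,
    some (338094597766541383408962466926083296, 6714673, [(0, true), (80, false), (45, false), (85, false), (110, true), (20, true), (30, false), (5, false), (115, true), (15, false), (25, true), (40, false), (75, true), (35, true), (105, true), (10, false), (55, false), (90, true), (60, true), (95, false), (50, false), (100, true), (70, true), (65, false)]),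
    none,
    some (679589550823386563235388888544532787, 16092638, [(60, false), (25, true), (15, true), (90, true), (40, true), (100, false), (80, true), (70, true), (65, true), (5, false), (85, true), (110, true), (55, false), (50, false), (30, false), (20, true), (115, true), (105, false), (45, true), (0, false), (95, true), (35, true), (10, true), (75, true)])],
   [55, 13, 50, 18, 31, 41, 34, 42, 22, 48, 51, 29, 20, 45, 57, 14, 1, 52, 36, 2, 23, 15, 49, 17, 43, 3, 9, 38, 59, 40, 33, 24, 19, 27, 12, 53, 32, 25, 56, 0, 7, 28, 47, 21, 5, 44, 58, 16, 10, 30, 35, 4, 8, 39, 37, 54, 6, 46, 26, 11],
   ([4, 1, 2, 0, 3], [3, 1, 2, 4, 0], [4, 2, 0, 1, 3], [2, 3, 1, 4, 0], false)),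
   ([some (175372055592406048016863494116147597, 15048437, [(10, true), (45, false), (90, true), (105, false), (115, true), (95, true), (25, true), (110, true), (100, false), (40, true), (85, true), (60, true), (5, true), (0, false), (15, false), (20, true), (70, true), (80, false), (35, true), (75, false), (55, false), (50, true), (65, true), (30, true)]),
    none,
    some (338094597766541383408962466926083296, 6714673, [(0, true), (80, false), (45, false), (85, false), (110, true), (20, true), (30, false), (5, false), (115, true), (15, false), (25, true), (40, false), (75, true), (35, true), (105, true), (10, false), (55, false), (90, true), (60, true), (95, false), (50, false), (100, true), (70, true), (65, false)]),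
    none,
    some (595330023861681656070746549995151437, 14091721, [(100, true), (25, false), (5, false), (75, true), (60, false), (65, false), (20, true), (35, true), (10, true), (55, false), (110, true), (30, false), (50, false), (0, false), (115, false), (85, false), (40, true), (80, true), (95, true), (90, false), (105, true), (70, false), (45, true), (15, true)])],
   [49, 47, 41, 19, 15, 39, 29, 34, 58, 25, 26, 53, 51, 22, 23, 50, 56, 2, 4, 57, 52, 27, 38, 11, 17, 44, 43, 21, 13, 40, 31, 1, 0, 33, 20, 42, 6, 16, 28, 35, 36, 24, 5, 55, 59, 3, 46, 30, 32, 48, 18, 8, 7, 14, 37, 10, 54, 45, 12, 9],
   ([3, 4, 2, 0, 1], [3, 4, 2, 0, 1], [3, 2, 4, 1, 0], [4, 3, 1, 0, 2], true))]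

/-- orbit words, part 3 -/
def orbW3 : List Ent :=
  [([some (191386968571169277398009509172352109, 15048437, [(85, true), (100, false), (50, true), (5, false), (115, true), (10, true), (55, true), (60, true), (45, false), (80, true), (90, true), (75, true), (15, true), (0, false), (105, false), (40, true), (30, true), (35, false), (25, true), (110, false), (20, false), (65, true), (95, true), (70, true)]),
    none,
    some (338094597766541383408962466926083296, 6714673, [(0, true), (80, false), (45, false), (85, false), (110, true), (20, true), (30, false), (5, false), (115, true), (15, false), (25, true), (40, false), (75, true), (35, true), (105, true), (10, false), (55, false), (90, true), (60, true), (95, false), (50, false), (100, true), (70, true), (65, false)]),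
    none,
    some (712956422623603395316950740173409684, 11362788, [(25, false), (70, false), (15, true), (60, false), (50, false), (110, true), (40, true), (105, true), (20, true), (55, false), (65, false), (90, false), (5, false), (75, true), (95, true), (30, false), (45, true), (115, false), (35, true), (10, true), (0, false), (80, true), (85, false), (100, true)])],
   [43, 8, 22, 29, 5, 2, 32, 16, 19, 31, 14, 4, 34, 38, 13, 20, 49, 53, 27, 1, 12, 6, 24, 0, 11, 9, 10, 15, 46, 50, 37, 41, 21, 3, 18, 26, 39, 45, 35, 7, 54, 57, 17, 40, 25, 42, 28, 33, 47, 55, 48, 58, 23, 30, 52, 36, 56, 44, 59, 51],
   ([4, 3, 2, 1, 0], [4, 3, 2, 1, 0], [3, 0, 2, 1, 4], [1, 3, 2, 0, 4], true)),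
   ([some (191386968571169277398009509172352109, 15048437, [(85, true), (100, false), (50, true), (5, false), (115, true), (10, true), (55, true), (60, true), (45, false), (80, true), (90, true), (75, true), (15, true), (0, false), (105, false), (40, true), (30, true), (35, false), (25, true), (110, false), (20, false), (65, true), (95, true), (70, true)]),
    none,
    some (338094597766541383408962466926083296, 6714673, [(0, true), (80, false), (45, false), (85, false), (110, true), (20, true), (30, false), (5, false), (115, true), (15, false), (25, true), (40, false), (75, true), (35, true), (105, true), (10, false), (55, false), (90, true), (60, true), (95, false), (50, false), (100, true), (70, true), (65, false)]),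
    none,
    some (712956422623603395316950740173409684, 5745988, [(25, false), (70, false), (15, true), (60, false), (50, false), (110, false), (40, true), (105, false), (20, true), (55, false), (65, true), (90, true), (5, false), (75, true), (95, false), (30, true), (45, true), (115, true), (35, true), (10, false), (0, true), (80, false), (85, true), (100, false)])],
   [44, 7, 25, 26, 4, 3, 33, 15, 20, 30, 17, 5, 37, 39, 12, 19, 48, 52, 28, 1, 13, 9, 23, 0, 10, 6, 11, 16, 47, 51, 34, 40, 18, 2, 21, 29, 38, 42, 36, 8, 54, 56, 14, 41, 22, 45, 27, 32, 46, 58, 49, 55, 24, 31, 53, 35, 57, 43, 59, 50],
   ([3, 4, 1, 2, 0], [4, 2, 3, 0, 1], [4, 0, 1, 2, 3], [1, 2, 3, 4, 0], true)),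
   ([some (188452274868421494761278041585039757, 15048437, [(25, true), (20, false), (80, true), (55, false), (115, true), (105, true), (15, true), (90, true), (35, false), (50, true), (85, true), (60, true), (5, true), (0, false), (10, false), (30, true), (70, true), (110, false), (65, true), (40, false), (95, false), (75, true), (100, true), (45, true)]),
    none,
    some (338094597766541383408962466926083296, 6714673, [(0, true), (80, false), (45, false), (85, false), (110, true), (20, true), (30, false), (5, false), (115, true), (15, false), (25, true), (40, false), (75, true), (35, true), (105, true), (10, false), (55, false), (90, true), (60, true), (95, false), (50, false), (100, true), (70, true), (65, false)]),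
    none,
    some (595213462162605248575372138077980235, 1862238, [(35, false), (10, true), (60, true), (70, true), (100, true), (90, false), (55, true), (80, false), (50, false), (30, true), (110, false), (0, true), (20, false), (25, true), (115, true), (75, false), (65, false), (105, false), (5, true), (45, true), (95, true), (40, false), (85, false), (15, false)]),
    none,
    some (338094597766541383408962466926083296, 6714673, [(0, true), (80, false), (45, false), (85, false), (110, true), (20, true), (30, false), (5, false), (115, true), (15, false), (25, true), (40, false), (75, true), (35, true), (105, true), (10, false), (55, false), (90, true), (60, true), (95, false), (50, false), (100, true), (70, true), (65, false)]),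
    none,
    some (52734491693042373428467693806728502, 2726648, [(100, false), (115, false), (35, false), (65, true), (85, true), (95, true), (60, true), (40, true), (110, false), (5, true), (75, false), (70, true), (50, true), (10, false), (30, false), (55, true), (20, true), (15, false), (45, false), (25, true), (105, false), (80, true), (0, false), (90, false)]),
    none,
    some (258784077795162200192732444115373472, 14101751, [(0, true), (15, true), (40, true), (10, false), (60, true), (30, true), (115, true), (110, true), (85, false), (20, false), (70, true), (105, true), (65, false), (5, true), (35, false), (50, false), (100, true), (90, true), (75, true), (55, false), (95, true), (80, false), (45, true), (25, true)]),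
    none,
    some (310753476269186866884764762881369106, 11006430, [(5, false), (85, true), (50, true), (25, true), (30, true), (80, false), (60, true), (115, true), (95, true), (10, false), (75, false), (45, false), (105, true), (20, true), (35, true), (110, true), (70, true), (40, true), (0, true), (90, false), (65, false), (100, true), (55, false), (15, true)]),
    none,
    some (258784077795162200192732444115373472, 14101751, [(0, true), (15, true), (40, true), (10, false), (60, true), (30, true), (115, true), (110, true), (85, false), (20, false), (70, true), (105, true), (65, false), (5, true), (35, false), (50, false), (100, true), (90, true), (75, true), (55, false), (95, true), (80, false), (45, true), (25, true)]),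
    none,
    some (551167350658764319848948886024162019, 8578263, [(90, true), (30, true), (10, true), (0, false), (75, true), (85, false), (25, true), (55, true), (110, false), (35, false), (100, true), (40, false), (95, false), (115, true), (50, true), (60, true), (20, false), (80, true), (65, false), (105, false), (45, false), (70, false), (15, false), (5, true)])],
   [48, 34, 12, 44, 47, 25, 54, 11, 37, 26, 4, 58, 30, 8, 40, 27, 20, 36, 52, 29, 33, 49, 9, 19, 45, 15, 57, 51, 24, 3, 35, 16, 10, 39, 0, 21, 32, 7, 18, 41, 50, 31, 56, 5, 53, 28, 1, 17, 59, 2, 14, 43, 38, 23, 6, 55, 22, 42, 13, 46],
   ([4, 3, 2, 1, 0], [4, 3, 2, 1, 0], [4, 2, 1, 3, 0], [4, 2, 1, 3, 0], true)),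
   ([some (175372055592406048016863494116147597, 15048437, [(10, true), (45, false), (90, true), (105, false), (115, true), (95, true), (25, true), (110, true), (100, false), (40, true), (85, true), (60, true), (5, true), (0, false), (15, false), (20, true), (70, true), (80, false), (35, true), (75, false), (55, false), (50, true), (65, true), (30, true)]),
    none,
    some (338094597766541383408962466926083296, 6714673, [(0, true), (80, false), (45, false), (85, false), (110, true), (20, true), (30, false), (5, false), (115, true), (15, false), (25, true), (40, false), (75, true), (35, true), (105, true), (10, false), (55, false), (90, true), (60, true), (95, false), (50, false), (100, true), (70, true), (65, false)]),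
    none,
    some (188777620681059469749000511209656816, 15887234, [(25, false), (15, true), (50, false), (90, false), (115, false), (65, false), (60, false), (80, true), (75, true), (95, true), (30, false), (45, true), (70, false), (105, true), (40, true), (5, false), (0, false), (110, true), (85, false), (55, false), (10, true), (20, true), (35, true), (100, true)])],
   [23, 19, 5, 33, 11, 4, 21, 39, 1, 25, 26, 24, 20, 14, 10, 27, 7, 42, 34, 8, 15, 32, 2, 52, 22, 44, 35, 18, 46, 3, 53, 9, 6, 47, 12, 38, 55, 30, 13, 36, 43, 31, 45, 0, 57, 37, 28, 48, 50, 16, 29, 59, 54, 17, 40, 49, 56, 41, 51, 58],
   ([1, 3, 2, 0, 4], [3, 0, 2, 1, 4], [4, 3, 2, 1, 0], [4, 3, 2, 1, 0], true)),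
   ([some (175372055592406048016863494116147597, 15048437, [(10, true), (45, false), (90, true), (105, false), (115, true), (95, true), (25, true), (110, true), (100, false), (40, true), (85, true), (60, true), (5, true), (0, false), (15, false), (20, true), (70, true), (80, false), (35, true), (75, false), (55, false), (50, true), (65, true), (30, true)]),
    none,
    some (338094597766541383408962466926083296, 6714673, [(0, true), (80, false), (45, false), (85, false), (110, true), (20, true), (30, false), (5, false), (115, true), (15, false), (25, true), (40, false), (75, true), (35, true), (105, true), (10, false), (55, false), (90, true), (60, true), (95, false), (50, false), (100, true), (70, true), (65, false)]),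
    none,
    some (188777620681059469749000511209656816, 567074, [(25, false), (15, true), (50, false), (90, false), (115, false), (65, true), (60, false), (80, false), (75, true), (95, true), (30, true), (45, false), (70, false), (105, true), (40, false), (5, true), (0, false), (110, false), (85, false), (55, true), (10, false), (20, false), (35, false), (100, false)])],
   [24, 20, 4, 32, 10, 5, 18, 38, 1, 22, 29, 23, 19, 17, 11, 28, 8, 45, 37, 7, 16, 33, 3, 53, 25, 43, 36, 21, 47, 2, 52, 6, 9, 46, 13, 39, 58, 31, 12, 35, 44, 30, 42, 0, 56, 34, 27, 49, 51, 15, 26, 59, 54, 14, 41, 48, 57, 40, 50, 55],
   ([2, 4, 1, 0, 3], [3, 2, 0, 4, 1], [3, 4, 1, 2, 0], [4, 2, 3, 0, 1], true))]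

/-- orbit words, part 4 -/
def orbW4 : List Ent :=
  [([some (175372055592406048016863494116147597, 15048437, [(10, true), (45, false), (90, true), (105, false), (115, true), (95, true), (25, true), (110, true), (100, false), (40, true), (85, true), (60, true), (5, true), (0, false), (15, false), (20, true), (70, true), (80, false), (35, true), (75, false), (55, false), (50, true), (65, true), (30, true)]),
    none,
    some (338094597766541383408962466926083296, 6714673, [(0, true), (80, false), (45, false), (85, false), (110, true), (20, true), (30, false), (5, false), (115, true), (15, false), (25, true), (40, false), (75, true), (35, true), (105, true), (10, false), (55, false), (90, true), (60, true), (95, false), (50, false), (100, true), (70, true), (65, false)]),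
    none,
    some (188777620681059469749000511209656816, 5151640, [(25, false), (15, false), (50, false), (90, true), (115, true), (65, false), (60, false), (80, true), (75, true), (95, true), (30, false), (45, true), (70, true), (105, false), (40, false), (5, true), (0, false), (110, true), (85, true), (55, true), (10, false), (20, false), (35, true), (100, false)])],
   [15, 27, 2, 13, 31, 3, 29, 41, 0, 17, 18, 16, 28, 22, 30, 19, 7, 34, 42, 8, 23, 12, 5, 48, 14, 36, 43, 26, 50, 4, 49, 6, 9, 51, 32, 40, 55, 10, 33, 44, 35, 11, 37, 1, 56, 45, 20, 52, 46, 24, 21, 54, 59, 25, 38, 53, 57, 39, 47, 58],
   ([4, 2, 3, 0, 1], [3, 4, 1, 2, 0], [1, 2, 3, 4, 0], [4, 0, 1, 2, 3], true)),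
   ([some (175372055592406048016863494116147597, 15048437, [(10, true), (45, false), (90, true), (105, false), (115, true), (95, true), (25, true), (110, true), (100, false), (40, true), (85, true), (60, true), (5, true), (0, false), (15, false), (20, true), (70, true), (80, false), (35, true), (75, false), (55, false), (50, true), (65, true), (30, true)]),
    none,
    some (338094597766541383408962466926083296, 6714673, [(0, true), (80, false), (45, false), (85, false), (110, true), (20, true), (30, false), (5, false), (115, true), (15, false), (25, true), (40, false), (75, true), (35, true), (105, true), (10, false), (55, false), (90, true), (60, true), (95, false), (50, false), (100, true), (70, true), (65, false)]),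
    none,
    some (188777620681059469749000511209656816, 11818808, [(25, false), (15, false), (50, false), (90, true), (115, true), (65, true), (60, false), (80, false), (75, true), (95, true), (30, true), (45, false), (70, true), (105, false), (40, true), (5, false), (0, false), (110, false), (85, true), (55, false), (10, true), (20, true), (35, false), (100, true)])],
   [16, 28, 3, 12, 30, 2, 26, 40, 0, 14, 21, 15, 27, 25, 31, 20, 8, 37, 45, 7, 24, 13, 4, 49, 17, 35, 44, 29, 51, 5, 48, 9, 6, 50, 33, 41, 58, 11, 32, 43, 36, 10, 34, 1, 57, 42, 19, 53, 47, 23, 18, 54, 59, 22, 39, 52, 56, 38, 46, 55],
   ([3, 1, 4, 0, 2], [3, 1, 4, 0, 2], [2, 1, 4, 3, 0], [4, 1, 0, 3, 2], true)),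
   ([some (188452274868421494761278041585039757, 15048437, [(25, true), (20, false), (80, true), (55, false), (115, true), (105, true), (15, true), (90, true), (35, false), (50, true), (85, true), (60, true), (5, true), (0, false), (10, false), (30, true), (70, true), (110, false), (65, true), (40, false), (95, false), (75, true), (100, true), (45, true)]),
    none,
    some (338094597766541383408962466926083296, 6714673, [(0, true), (80, false), (45, false), (85, false), (110, true), (20, true), (30, false), (5, false), (115, true), (15, false), (25, true), (40, false), (75, true), (35, true), (105, true), (10, false), (55, false), (90, true), (60, true), (95, false), (50, false), (100, true), (70, true), (65, false)]),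
    none,
    some (595213462162605248575372138077980235, 1862238, [(35, false), (10, true), (60, true), (70, true), (100, true), (90, false), (55, true), (80, false), (50, false), (30, true), (110, false), (0, true), (20, false), (25, true), (115, true), (75, false), (65, false), (105, false), (5, true), (45, true), (95, true), (40, false), (85, false), (15, false)]),
    none,
    some (338094597766541383408962466926083296, 6714673, [(0, true), (80, false), (45, false), (85, false), (110, true), (20, true), (30, false), (5, false), (115, true), (15, false), (25, true), (40, false), (75, true), (35, true), (105, true), (10, false), (55, false), (90, true), (60, true), (95, false), (50, false), (100, true), (70, true), (65, false)]),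
    none,
    some (691427880024997469084000763666013362, 5792252, [(100, false), (15, false), (40, true), (30, true), (45, true), (5, true), (70, true), (10, true), (20, true), (60, false), (75, false), (35, false), (65, false), (95, true), (55, true), (85, false), (115, false), (90, false), (0, false), (25, true), (110, true), (105, false), (50, true), (80, false)]),
    none,
    some (258784077795162200192732444115373472, 14101751, [(0, true), (15, true), (40, true), (10, false), (60, true), (30, true), (115, true), (110, true), (85, false), (20, false), (70, true), (105, true), (65, false), (5, true), (35, false), (50, false), (100, true), (90, true), (75, true), (55, false), (95, true), (80, false), (45, true), (25, true)]),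
    none,
    some (715777984645649763547742138814451718, 1127686, [(5, false), (65, true), (50, true), (20, false), (70, false), (75, false), (0, false), (110, false), (95, true), (100, false), (40, true), (85, false), (35, true), (105, true), (55, false), (80, false), (15, true), (115, false), (30, false), (90, false), (10, true), (45, false), (25, false), (60, false)]),
    none,
    some (258784077795162200192732444115373472, 14101751, [(0, true), (15, true), (40, true), (10, false), (60, true), (30, true), (115, true), (110, true), (85, false), (20, false), (70, true), (105, true), (65, false), (5, true), (35, false), (50, false), (100, true), (90, true), (75, true), (55, false), (95, true), (80, false), (45, true), (25, true)]),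
    none,
    some (681674634758743498925333276215773940, 11361349, [(90, true), (45, false), (10, true), (40, false), (105, false), (70, false), (55, true), (65, false), (35, false), (20, false), (25, true), (30, true), (60, true), (110, false), (50, true), (95, false), (115, true), (15, false), (100, true), (75, true), (0, false), (80, true), (85, false), (5, true)])],
   [20, 32, 18, 1, 24, 4, 38, 22, 10, 5, 2, 47, 9, 41, 33, 48, 7, 40, 21, 36, 6, 52, 17, 19, 45, 8, 57, 25, 50, 3, 55, 23, 28, 11, 27, 34, 49, 0, 30, 44, 59, 51, 39, 13, 54, 14, 15, 12, 58, 31, 42, 56, 35, 26, 29, 53, 43, 37, 16, 46],
   ([1, 0, 3, 2, 4], [1, 0, 3, 2, 4], [0, 3, 2, 4, 1], [0, 4, 2, 1, 3], true)),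
   ([some (191386968571169277398009509172352109, 15048437, [(85, true), (100, false), (50, true), (5, false), (115, true), (10, true), (55, true), (60, true), (45, false), (80, true), (90, true), (75, true), (15, true), (0, false), (105, false), (40, true), (30, true), (35, false), (25, true), (110, false), (20, false), (65, true), (95, true), (70, true)]),
    none,
    some (338094597766541383408962466926083296, 6714673, [(0, true), (80, false), (45, false), (85, false), (110, true), (20, true), (30, false), (5, false), (115, true), (15, false), (25, true), (40, false), (75, true), (35, true), (105, true), (10, false), (55, false), (90, true), (60, true), (95, false), (50, false), (100, true), (70, true), (65, false)]),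
    none,
    some (712956422623603395316950740173409684, 1151486, [(25, false), (70, true), (15, true), (60, true), (50, true), (110, true), (40, true), (105, true), (20, true), (55, false), (65, false), (90, false), (5, true), (75, false), (95, false), (30, true), (45, true), (115, false), (35, false), (10, false), (0, true), (80, false), (85, false), (100, false)])],
   [35, 8, 14, 21, 2, 5, 12, 24, 27, 11, 22, 3, 42, 40, 33, 28, 53, 49, 19, 0, 32, 9, 16, 1, 31, 6, 30, 23, 50, 46, 45, 39, 29, 4, 26, 18, 41, 37, 43, 7, 59, 56, 25, 38, 17, 34, 20, 13, 51, 55, 52, 58, 15, 10, 48, 44, 57, 36, 54, 47],
   ([1, 2, 3, 4, 0], [4, 0, 1, 2, 3], [2, 0, 3, 4, 1], [1, 4, 0, 2, 3], true)),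
   ([some (191386968571169277398009509172352109, 15048437, [(85, true), (100, false), (50, true), (5, false), (115, true), (10, true), (55, true), (60, true), (45, false), (80, true), (90, true), (75, true), (15, true), (0, false), (105, false), (40, true), (30, true), (35, false), (25, true), (110, false), (20, false), (65, true), (95, true), (70, true)]),
    none,
    some (338094597766541383408962466926083296, 6714673, [(0, true), (80, false), (45, false), (85, false), (110, true), (20, true), (30, false), (5, false), (115, true), (15, false), (25, true), (40, false), (75, true), (35, true), (105, true), (10, false), (55, false), (90, true), (60, true), (95, false), (50, false), (100, true), (70, true), (65, false)]),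
    none,
    some (712956422623603395316950740173409684, 15424862, [(25, false), (70, true), (15, true), (60, true), (50, true), (110, false), (40, true), (105, false), (20, true), (55, false), (65, true), (90, true), (5, true), (75, false), (95, true), (30, false), (45, true), (115, true), (35, false), (10, true), (0, false), (80, true), (85, true), (100, true)])],
   [36, 7, 17, 18, 3, 4, 13, 23, 28, 10, 25, 2, 45, 41, 32, 27, 52, 48, 20, 0, 33, 6, 15, 1, 30, 9, 31, 24, 51, 47, 42, 38, 26, 5, 29, 21, 40, 34, 44, 8, 59, 57, 22, 39, 14, 37, 19, 12, 50, 58, 53, 55, 16, 11, 49, 43, 56, 35, 54, 46],
   ([2, 1, 4, 3, 0], [4, 1, 0, 3, 2], [1, 0, 4, 3, 2], [1, 0, 4, 3, 2], true))]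

/-- orbit words, part 5 -/
def orbW5 : List Ent :=
  [([some (188452274868421494761278041585039757, 15048437, [(25, true), (20, false), (80, true), (55, false), (115, true), (105, true), (15, true), (90, true), (35, false), (50, true), (85, true), (60, true), (5, true), (0, false), (10, false), (30, true), (70, true), (110, false), (65, true), (40, false), (95, false), (75, true), (100, true), (45, true)]),
    none,
    some (338094597766541383408962466926083296, 6714673, [(0, true), (80, false), (45, false), (85, false), (110, true), (20, true), (30, false), (5, false), (115, true), (15, false), (25, true), (40, false), (75, true), (35, true), (105, true), (10, false), (55, false), (90, true), (60, true), (95, false), (50, false), (100, true), (70, true), (65, false)]),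
    none,
    some (595213462162605248575372138077980235, 1862238, [(35, false), (10, true), (60, true), (70, true), (100, true), (90, false), (55, true), (80, false), (50, false), (30, true), (110, false), (0, true), (20, false), (25, true), (115, true), (75, false), (65, false), (105, false), (5, true), (45, true), (95, true), (40, false), (85, false), (15, false)]),
    none,
    some (338094597766541383408962466926083296, 6714673, [(0, true), (80, false), (45, false), (85, false), (110, true), (20, true), (30, false), (5, false), (115, true), (15, false), (25, true), (40, false), (75, true), (35, true), (105, true), (10, false), (55, false), (90, true), (60, true), (95, false), (50, false), (100, true), (70, true), (65, false)]),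
    none,
    some (860668939193660735584083326928247185, 15371767, [(35, true), (105, true), (95, true), (60, false), (100, true), (50, true), (20, true), (80, true), (40, true), (45, false), (15, true), (85, true), (5, false), (25, false), (70, false), (55, true), (90, false), (0, true), (75, false), (30, true), (115, false), (65, true), (10, true), (110, true)]),
    none,
    some (338094597766541383408962466926083296, 6714673, [(0, true), (80, false), (45, false), (85, false), (110, true), (20, true), (30, false), (5, false), (115, true), (15, false), (25, true), (40, false), (75, true), (35, true), (105, true), (10, false), (55, false), (90, true), (60, true), (95, false), (50, false), (100, true), (70, true), (65, false)]),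
    none,
    some (712956422623603395316950740173409684, 7302503, [(25, true), (70, true), (15, true), (60, false), (50, false), (110, true), (40, true), (105, false), (20, true), (55, false), (65, true), (90, true), (5, false), (75, true), (95, true), (30, false), (45, true), (115, true), (35, true), (10, true), (0, false), (80, true), (85, true), (100, false)])],
   [19, 33, 21, 1, 23, 5, 39, 25, 11, 4, 3, 46, 6, 40, 32, 49, 8, 41, 18, 35, 9, 53, 14, 20, 42, 7, 56, 22, 51, 2, 58, 24, 27, 10, 28, 37, 48, 0, 31, 43, 59, 50, 38, 12, 54, 17, 16, 13, 55, 30, 45, 57, 36, 29, 26, 52, 44, 34, 15, 47],
   ([2, 0, 4, 1, 3], [1, 3, 0, 4, 2], [0, 4, 1, 3, 2], [0, 2, 4, 3, 1], true)),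
   ([some (188452274868421494761278041585039757, 15048437, [(25, true), (20, false), (80, true), (55, false), (115, true), (105, true), (15, true), (90, true), (35, false), (50, true), (85, true), (60, true), (5, true), (0, false), (10, false), (30, true), (70, true), (110, false), (65, true), (40, false), (95, false), (75, true), (100, true), (45, true)]),
    none,
    some (338094597766541383408962466926083296, 6714673, [(0, true), (80, false), (45, false), (85, false), (110, true), (20, true), (30, false), (5, false), (115, true), (15, false), (25, true), (40, false), (75, true), (35, true), (105, true), (10, false), (55, false), (90, true), (60, true), (95, false), (50, false), (100, true), (70, true), (65, false)]),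
    none,
    some (595213462162605248575372138077980235, 1862238, [(35, false), (10, true), (60, true), (70, true), (100, true), (90, false), (55, true), (80, false), (50, false), (30, true), (110, false), (0, true), (20, false), (25, true), (115, true), (75, false), (65, false), (105, false), (5, true), (45, true), (95, true), (40, false), (85, false), (15, false)]),
    none,
    some (338094597766541383408962466926083296, 6714673, [(0, true), (80, false), (45, false), (85, false), (110, true), (20, true), (30, false), (5, false), (115, true), (15, false), (25, true), (40, false), (75, true), (35, true), (105, true), (10, false), (55, false), (90, true), (60, true), (95, false), (50, false), (100, true), (70, true), (65, false)]),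
    none,
    some (185167394989396175333065006757006439, 7139732, [(25, false), (60, false), (50, true), (5, false), (115, true), (75, false), (90, false), (0, true), (55, true), (40, false), (95, false), (20, false), (80, true), (65, true), (110, true), (85, true), (45, false), (35, false), (15, true), (10, true), (105, false), (70, true), (30, true), (100, false)])],
   [7, 50, 13, 28, 49, 2, 43, 35, 15, 30, 12, 19, 26, 36, 6, 23, 0, 10, 45, 41, 14, 22, 31, 24, 34, 40, 56, 4, 54, 3, 46, 17, 29, 21, 51, 11, 47, 16, 9, 1, 55, 18, 32, 27, 39, 37, 8, 25, 52, 48, 42, 38, 58, 5, 44, 59, 57, 33, 20, 53],
   ([3, 2, 1, 0, 4], [3, 2, 1, 0, 4], [4, 2, 0, 1, 3], [2, 3, 1, 4, 0], false)),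
   ([some (188452274868421494761278041585039757, 15048437, [(25, true), (20, false), (80, true), (55, false), (115, true), (105, true), (15, true), (90, true), (35, false), (50, true), (85, true), (60, true), (5, true), (0, false), (10, false), (30, true), (70, true), (110, false), (65, true), (40, false), (95, false), (75, true), (100, true), (45, true)]),
    none,
    some (338094597766541383408962466926083296, 6714673, [(0, true), (80, false), (45, false), (85, false), (110, true), (20, true), (30, false), (5, false), (115, true), (15, false), (25, true), (40, false), (75, true), (35, true), (105, true), (10, false), (55, false), (90, true), (60, true), (95, false), (50, false), (100, true), (70, true), (65, false)]),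
    none,
    some (595213462162605248575372138077980235, 1862238, [(35, false), (10, true), (60, true), (70, true), (100, true), (90, false), (55, true), (80, false), (50, false), (30, true), (110, false), (0, true), (20, false), (25, true), (115, true), (75, false), (65, false), (105, false), (5, true), (45, true), (95, true), (40, false), (85, false), (15, false)]),
    none,
    some (338094597766541383408962466926083296, 6714673, [(0, true), (80, false), (45, false), (85, false), (110, true), (20, true), (30, false), (5, false), (115, true), (15, false), (25, true), (40, false), (75, true), (35, true), (105, true), (10, false), (55, false), (90, true), (60, true), (95, false), (50, false), (100, true), (70, true), (65, false)]),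
    none,
    some (185167394989396175333065006757006439, 9846068, [(25, false), (60, false), (50, true), (5, false), (115, true), (75, true), (90, false), (0, false), (55, true), (40, false), (95, true), (20, true), (80, true), (65, true), (110, false), (85, false), (45, false), (35, true), (15, true), (10, false), (105, true), (70, false), (30, false), (100, true)])],
   [8, 51, 12, 27, 48, 3, 44, 36, 16, 31, 13, 20, 29, 35, 9, 24, 0, 11, 42, 40, 17, 25, 30, 23, 37, 41, 57, 5, 54, 2, 47, 14, 26, 18, 50, 10, 46, 15, 6, 1, 58, 21, 33, 28, 38, 34, 7, 22, 53, 49, 45, 39, 55, 4, 43, 59, 56, 32, 19, 52],
   ([4, 1, 2, 0, 3], [3, 1, 2, 4, 0], [3, 1, 0, 2, 4], [2, 1, 3, 0, 4], false)),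
   ([some (188452274868421494761278041585039757, 15048437, [(25, true), (20, false), (80, true), (55, false), (115, true), (105, true), (15, true), (90, true), (35, false), (50, true), (85, true), (60, true), (5, true), (0, false), (10, false), (30, true), (70, true), (110, false), (65, true), (40, false), (95, false), (75, true), (100, true), (45, true)]),
    none,
    some (338094597766541383408962466926083296, 6714673, [(0, true), (80, false), (45, false), (85, false), (110, true), (20, true), (30, false), (5, false), (115, true), (15, false), (25, true), (40, false), (75, true), (35, true), (105, true), (10, false), (55, false), (90, true), (60, true), (95, false), (50, false), (100, true), (70, true), (65, false)]),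
    none,
    some (595213462162605248575372138077980235, 1862238, [(35, false), (10, true), (60, true), (70, true), (100, true), (90, false), (55, true), (80, false), (50, false), (30, true), (110, false), (0, true), (20, false), (25, true), (115, true), (75, false), (65, false), (105, false), (5, true), (45, true), (95, true), (40, false), (85, false), (15, false)]),
    none,
    some (338094597766541383408962466926083296, 6714673, [(0, true), (80, false), (45, false), (85, false), (110, true), (20, true), (30, false), (5, false), (115, true), (15, false), (25, true), (40, false), (75, true), (35, true), (105, true), (10, false), (55, false), (90, true), (60, true), (95, false), (50, false), (100, true), (70, true), (65, false)]),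
    none,
    some (185167394989396175333065006757006439, 11259464, [(25, false), (60, false), (50, false), (5, true), (115, false), (75, false), (90, true), (0, false), (55, false), (40, true), (95, true), (20, true), (80, false), (65, false), (110, true), (85, true), (45, true), (35, true), (15, false), (10, true), (105, false), (70, true), (30, false), (100, true)])],
   [8, 52, 11, 24, 47, 4, 44, 36, 19, 32, 10, 15, 22, 35, 6, 27, 1, 12, 45, 39, 18, 26, 33, 28, 34, 38, 57, 2, 54, 5, 48, 21, 25, 17, 53, 13, 49, 20, 9, 0, 55, 14, 30, 23, 41, 37, 7, 29, 50, 46, 42, 40, 58, 3, 43, 59, 56, 31, 16, 51],
   ([4, 2, 0, 1, 3], [2, 3, 1, 4, 0], [3, 2, 1, 0, 4], [3, 2, 1, 0, 4], true)),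
   ([some (188452274868421494761278041585039757, 15048437, [(25, true), (20, false), (80, true), (55, false), (115, true), (105, true), (15, true), (90, true), (35, false), (50, true), (85, true), (60, true), (5, true), (0, false), (10, false), (30, true), (70, true), (110, false), (65, true), (40, false), (95, false), (75, true), (100, true), (45, true)]),
    none,
    some (338094597766541383408962466926083296, 6714673, [(0, true), (80, false), (45, false), (85, false), (110, true), (20, true), (30, false), (5, false), (115, true), (15, false), (25, true), (40, false), (75, true), (35, true), (105, true), (10, false), (55, false), (90, true), (60, true), (95, false), (50, false), (100, true), (70, true), (65, false)]),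
    none,
    some (595213462162605248575372138077980235, 1862238, [(35, false), (10, true), (60, true), (70, true), (100, true), (90, false), (55, true), (80, false), (50, false), (30, true), (110, false), (0, true), (20, false), (25, true), (115, true), (75, false), (65, false), (105, false), (5, true), (45, true), (95, true), (40, false), (85, false), (15, false)]),
    none,
    some (338094597766541383408962466926083296, 6714673, [(0, true), (80, false), (45, false), (85, false), (110, true), (20, true), (30, false), (5, false), (115, true), (15, false), (25, true), (40, false), (75, true), (35, true), (105, true), (10, false), (55, false), (90, true), (60, true), (95, false), (50, false), (100, true), (70, true), (65, false)]),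
    none,
    some (185167394989396175333065006757006439, 5309160, [(25, false), (60, false), (50, false), (5, true), (115, false), (75, true), (90, true), (0, true), (55, false), (40, true), (95, false), (20, false), (80, false), (65, false), (110, false), (85, false), (45, true), (35, false), (15, false), (10, false), (105, true), (70, false), (30, true), (100, false)])],
   [7, 53, 10, 23, 46, 5, 43, 35, 20, 33, 11, 16, 25, 36, 9, 28, 1, 13, 42, 38, 21, 29, 32, 27, 37, 39, 56, 3, 54, 4, 49, 18, 22, 14, 52, 12, 48, 19, 6, 0, 58, 17, 31, 24, 40, 34, 8, 26, 51, 47, 45, 41, 55, 2, 44, 59, 57, 30, 15, 50],
   ([3, 1, 0, 2, 4], [2, 1, 3, 0, 4], [4, 1, 2, 0, 3], [3, 1, 2, 4, 0], true))]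

/-- orbit words, part 6 -/
def orbW6 : List Ent :=
  [([some (851835855358908965219336740583988549, 13624252, [(95, false), (85, false), (20, true), (30, true), (90, true), (0, true), (45, false), (105, true), (70, true), (50, true), (5, false), (25, false), (100, false), (75, true), (15, true), (40, true), (110, true), (65, true), (55, true), (60, true), (115, false), (35, false), (80, true), (10, true)]),
    none,
    some (558996653415206758357550315011089920, 16044209, [(0, true), (35, false), (75, false), (45, false), (25, true), (50, true), (30, false), (65, true), (55, false), (10, false), (100, false), (80, false), (90, true), (115, false), (110, true), (60, true), (5, false), (15, false), (85, true), (95, false), (105, true), (70, true), (20, true), (40, true)]),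
    none,
    some (736387674286017519017462394396511432, 1332261, [(35, true), (70, false), (85, true), (10, false), (80, false), (65, true), (5, false), (45, false), (0, false), (105, false), (90, true), (100, false), (25, true), (75, false), (95, true), (55, false), (30, false), (115, false), (40, true), (60, false), (20, true), (15, false), (50, false), (110, false)]),
    none,
    some (558996653415206758357550315011089920, 16044209, [(0, true), (35, false), (75, false), (45, false), (25, true), (50, true), (30, false), (65, true), (55, false), (10, false), (100, false), (80, false), (90, true), (115, false), (110, true), (60, true), (5, false), (15, false), (85, true), (95, false), (105, true), (70, true), (20, true), (40, true)]),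
    none,
    some (646780892717315303492377228131075693, 13816973, [(65, true), (10, false), (40, true), (70, true), (90, false), (95, false), (25, false), (55, true), (105, false), (30, false), (35, true), (85, false), (100, true), (0, false), (45, true), (115, true), (75, false), (80, true), (110, false), (5, false), (60, true), (15, false), (50, true), (20, true)])],
   [38, 15, 52, 28, 26, 4, 39, 0, 47, 17, 6, 25, 45, 56, 18, 16, 24, 46, 13, 44, 2, 33, 19, 7, 34, 30, 40, 10, 55, 32, 14, 36, 11, 3, 51, 9, 54, 21, 22, 20, 50, 43, 23, 8, 12, 42, 1, 37, 49, 59, 31, 35, 48, 5, 58, 41, 57, 29, 53, 27],
   ([4, 3, 0, 2, 1], [2, 4, 3, 1, 0], [1, 0, 3, 2, 4], [1, 0, 3, 2, 4], false)),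
   ([some (188452274868421494761278041585039757, 15048437, [(25, true), (20, false), (80, true), (55, false), (115, true), (105, true), (15, true), (90, true), (35, false), (50, true), (85, true), (60, true), (5, true), (0, false), (10, false), (30, true), (70, true), (110, false), (65, true), (40, false), (95, false), (75, true), (100, true), (45, true)]),
    none,
    some (338094597766541383408962466926083296, 6714673, [(0, true), (80, false), (45, false), (85, false), (110, true), (20, true), (30, false), (5, false), (115, true), (15, false), (25, true), (40, false), (75, true), (35, true), (105, true), (10, false), (55, false), (90, true), (60, true), (95, false), (50, false), (100, true), (70, true), (65, false)]),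
    none,
    some (595213462162605248575372138077980235, 1862238, [(35, false), (10, true), (60, true), (70, true), (100, true), (90, false), (55, true), (80, false), (50, false), (30, true), (110, false), (0, true), (20, false), (25, true), (115, true), (75, false), (65, false), (105, false), (5, true), (45, true), (95, true), (40, false), (85, false), (15, false)]),
    none,
    some (338094597766541383408962466926083296, 6714673, [(0, true), (80, false), (45, false), (85, false), (110, true), (20, true), (30, false), (5, false), (115, true), (15, false), (25, true), (40, false), (75, true), (35, true), (105, true), (10, false), (55, false), (90, true), (60, true), (95, false), (50, false), (100, true), (70, true), (65, false)]),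
    none,
    some (736293392858204641236609788084426132, 5468947, [(20, true), (100, true), (95, false), (30, false), (85, true), (10, false), (75, false), (105, false), (40, true), (70, true), (90, false), (80, false), (5, true), (35, true), (45, true), (65, false), (50, true), (115, true), (25, false), (55, false), (0, true), (60, false), (15, true), (110, false)]),
    none,
    some (220048119786717969456457942323765344, 16569195, [(0, true), (65, true), (15, false), (5, true), (45, false), (115, true), (25, true), (70, false), (10, true), (110, true), (75, false), (95, false), (20, true), (60, false), (50, true), (90, true), (105, false), (40, false), (85, true), (100, true), (80, true), (55, true), (35, true), (30, true)]),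
    none,
    some (675058179405286524919430908197619831, 8566443, [(95, true), (105, true), (65, false), (5, true), (15, false), (40, true), (90, false), (30, true), (110, false), (35, true), (55, true), (45, false), (75, true), (80, true), (60, false), (100, true), (115, false), (20, true), (10, false), (50, false), (85, false), (25, false), (70, false), (0, true)])],
   [0, 52, 9, 8, 59, 31, 55, 56, 14, 16, 51, 50, 12, 1, 29, 7, 27, 6, 32, 33, 36, 34, 18, 19, 45, 44, 57, 2, 58, 3, 54, 5, 42, 43, 20, 49, 21, 48, 17, 15, 47, 4, 22, 23, 35, 37, 41, 30, 24, 25, 10, 11, 53, 13, 40, 38, 39, 28, 26, 46],
   ([3, 1, 4, 0, 2], [3, 1, 4, 0, 2], [2, 0, 4, 1, 3], [1, 3, 0, 4, 2], true)),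
   ([some (188452274868421494761278041585039757, 15048437, [(25, true), (20, false), (80, true), (55, false), (115, true), (105, true), (15, true), (90, true), (35, false), (50, true), (85, true), (60, true), (5, true), (0, false), (10, false), (30, true), (70, true), (110, false), (65, true), (40, false), (95, false), (75, true), (100, true), (45, true)]),
    none,
    some (338094597766541383408962466926083296, 6714673, [(0, true), (80, false), (45, false), (85, false), (110, true), (20, true), (30, false), (5, false), (115, true), (15, false), (25, true), (40, false), (75, true), (35, true), (105, true), (10, false), (55, false), (90, true), (60, true), (95, false), (50, false), (100, true), (70, true), (65, false)]),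
    none,
    some (595213462162605248575372138077980235, 1862238, [(35, false), (10, true), (60, true), (70, true), (100, true), (90, false), (55, true), (80, false), (50, false), (30, true), (110, false), (0, true), (20, false), (25, true), (115, true), (75, false), (65, false), (105, false), (5, true), (45, true), (95, true), (40, false), (85, false), (15, false)]),
    none,
    some (338094597766541383408962466926083296, 6714673, [(0, true), (80, false), (45, false), (85, false), (110, true), (20, true), (30, false), (5, false), (115, true), (15, false), (25, true), (40, false), (75, true), (35, true), (105, true), (10, false), (55, false), (90, true), (60, true), (95, false), (50, false), (100, true), (70, true), (65, false)]),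
    none,
    some (736293392858204641236609788084426132, 5468947, [(20, true), (100, true), (95, false), (30, false), (85, true), (10, false), (75, false), (105, false), (40, true), (70, true), (90, false), (80, false), (5, true), (35, true), (45, true), (65, false), (50, true), (115, true), (25, false), (55, false), (0, true), (60, false), (15, true), (110, false)]),
    none,
    some (220048119786717969456457942323765344, 16569195, [(0, true), (65, true), (15, false), (5, true), (45, false), (115, true), (25, true), (70, false), (10, true), (110, true), (75, false), (95, false), (20, true), (60, false), (50, true), (90, true), (105, false), (40, false), (85, true), (100, true), (80, true), (55, true), (35, true), (30, true)]),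
    none,
    some (675058179405286524919430908197619831, 7895563, [(95, true), (105, true), (65, false), (5, true), (15, false), (40, false), (90, false), (30, false), (110, false), (35, true), (55, false), (45, true), (75, true), (80, true), (60, true), (100, false), (115, false), (20, false), (10, false), (50, true), (85, true), (25, true), (70, true), (0, false)])],
   [0, 53, 6, 7, 59, 30, 58, 57, 17, 15, 50, 51, 13, 1, 26, 8, 28, 9, 33, 32, 35, 37, 21, 20, 42, 43, 56, 3, 55, 2, 54, 4, 45, 44, 19, 48, 18, 49, 14, 16, 46, 5, 25, 24, 36, 34, 40, 31, 23, 22, 11, 10, 52, 12, 41, 39, 38, 27, 29, 47],
   ([4, 2, 3, 0, 1], [3, 4, 1, 2, 0], [1, 0, 3, 2, 4], [1, 0, 3, 2, 4], true)),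
   ([some (851835855358908965219336740583988549, 13624252, [(95, false), (85, false), (20, true), (30, true), (90, true), (0, true), (45, false), (105, true), (70, true), (50, true), (5, false), (25, false), (100, false), (75, true), (15, true), (40, true), (110, true), (65, true), (55, true), (60, true), (115, false), (35, false), (80, true), (10, true)]),
    none,
    some (558996653415206758357550315011089920, 16044209, [(0, true), (35, false), (75, false), (45, false), (25, true), (50, true), (30, false), (65, true), (55, false), (10, false), (100, false), (80, false), (90, true), (115, false), (110, true), (60, true), (5, false), (15, false), (85, true), (95, false), (105, true), (70, true), (20, true), (40, true)]),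
    none,
    some (736387674286017519017462394396511432, 1332261, [(35, true), (70, false), (85, true), (10, false), (80, false), (65, true), (5, false), (45, false), (0, false), (105, false), (90, true), (100, false), (25, true), (75, false), (95, true), (55, false), (30, false), (115, false), (40, true), (60, false), (20, true), (15, false), (50, false), (110, false)]),
    none,
    some (558996653415206758357550315011089920, 16044209, [(0, true), (35, false), (75, false), (45, false), (25, true), (50, true), (30, false), (65, true), (55, false), (10, false), (100, false), (80, false), (90, true), (115, false), (110, true), (60, true), (5, false), (15, false), (85, true), (95, false), (105, true), (70, true), (20, true), (40, true)]),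
    none,
    some (646780892717315303492377228131075693, 2627629, [(65, true), (10, false), (40, true), (70, true), (90, false), (95, true), (25, false), (55, false), (105, false), (30, false), (35, false), (85, true), (100, true), (0, false), (45, false), (115, false), (75, false), (80, false), (110, false), (5, true), (60, false), (15, true), (50, false), (20, false)])],
   [39, 16, 53, 27, 29, 5, 38, 0, 46, 14, 9, 22, 42, 57, 21, 15, 23, 47, 12, 43, 3, 32, 20, 8, 37, 31, 41, 11, 58, 33, 17, 35, 10, 2, 50, 6, 54, 18, 25, 19, 51, 44, 24, 7, 13, 45, 1, 34, 48, 59, 30, 36, 49, 4, 55, 40, 56, 26, 52, 28],
   ([3, 4, 0, 1, 2], [2, 3, 4, 0, 1], [2, 0, 4, 1, 3], [1, 3, 0, 4, 2], false)),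
   ([some (851835855358908965219336740583988549, 13624252, [(95, false), (85, false), (20, true), (30, true), (90, true), (0, true), (45, false), (105, true), (70, true), (50, true), (5, false), (25, false), (100, false), (75, true), (15, true), (40, true), (110, true), (65, true), (55, true), (60, true), (115, false), (35, false), (80, true), (10, true)]),
    none,
    some (558996653415206758357550315011089920, 16044209, [(0, true), (35, false), (75, false), (45, false), (25, true), (50, true), (30, false), (65, true), (55, false), (10, false), (100, false), (80, false), (90, true), (115, false), (110, true), (60, true), (5, false), (15, false), (85, true), (95, false), (105, true), (70, true), (20, true), (40, true)]),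
    none,
    some (736387674286017519017462394396511432, 1332261, [(35, true), (70, false), (85, true), (10, false), (80, false), (65, true), (5, false), (45, false), (0, false), (105, false), (90, true), (100, false), (25, true), (75, false), (95, true), (55, false), (30, false), (115, false), (40, true), (60, false), (20, true), (15, false), (50, false), (110, false)]),
    none,
    some (558996653415206758357550315011089920, 16044209, [(0, true), (35, false), (75, false), (45, false), (25, true), (50, true), (30, false), (65, true), (55, false), (10, false), (100, false), (80, false), (90, true), (115, false), (110, true), (60, true), (5, false), (15, false), (85, true), (95, false), (105, true), (70, true), (20, true), (40, true)]),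
    none,
    some (646780892717315303492377228131075693, 1436497, [(65, true), (10, false), (40, false), (70, false), (90, true), (95, false), (25, true), (55, false), (105, true), (30, true), (35, false), (85, true), (100, false), (0, true), (45, true), (115, true), (75, true), (80, false), (110, true), (5, false), (60, true), (15, false), (50, false), (20, false)])],
   [40, 19, 50, 24, 22, 2, 41, 1, 49, 21, 6, 29, 45, 57, 14, 20, 28, 48, 11, 43, 4, 31, 15, 8, 34, 32, 38, 12, 55, 30, 18, 35, 13, 5, 53, 9, 54, 17, 26, 16, 52, 44, 27, 7, 10, 42, 0, 37, 47, 59, 33, 36, 46, 3, 58, 39, 56, 25, 51, 23],
   ([1, 0, 3, 2, 4], [1, 0, 3, 2, 4], [4, 3, 0, 2, 1], [2, 4, 3, 1, 0], true))]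

/-- orbit words, part 7 -/
def orbW7 : List Ent :=
  [([some (188452274868421494761278041585039757, 15048437, [(25, true), (20, false), (80, true), (55, false), (115, true), (105, true), (15, true), (90, true), (35, false), (50, true), (85, true), (60, true), (5, true), (0, false), (10, false), (30, true), (70, true), (110, false), (65, true), (40, false), (95, false), (75, true), (100, true), (45, true)]),
    none,
    some (338094597766541383408962466926083296, 6714673, [(0, true), (80, false), (45, false), (85, false), (110, true), (20, true), (30, false), (5, false), (115, true), (15, false), (25, true), (40, false), (75, true), (35, true), (105, true), (10, false), (55, false), (90, true), (60, true), (95, false), (50, false), (100, true), (70, true), (65, false)]),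
    none,
    some (595213462162605248575372138077980235, 1862238, [(35, false), (10, true), (60, true), (70, true), (100, true), (90, false), (55, true), (80, false), (50, false), (30, true), (110, false), (0, true), (20, false), (25, true), (115, true), (75, false), (65, false), (105, false), (5, true), (45, true), (95, true), (40, false), (85, false), (15, false)]),
    none,
    some (338094597766541383408962466926083296, 6714673, [(0, true), (80, false), (45, false), (85, false), (110, true), (20, true), (30, false), (5, false), (115, true), (15, false), (25, true), (40, false), (75, true), (35, true), (105, true), (10, false), (55, false), (90, true), (60, true), (95, false), (50, false), (100, true), (70, true), (65, false)]),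
    none,
    some (736293392858204641236609788084426132, 5468947, [(20, true), (100, true), (95, false), (30, false), (85, true), (10, false), (75, false), (105, false), (40, true), (70, true), (90, false), (80, false), (5, true), (35, true), (45, true), (65, false), (50, true), (115, true), (25, false), (55, false), (0, true), (60, false), (15, true), (110, false)]),
    none,
    some (220048119786717969456457942323765344, 16569195, [(0, true), (65, true), (15, false), (5, true), (45, false), (115, true), (25, true), (70, false), (10, true), (110, true), (75, false), (95, false), (20, true), (60, false), (50, true), (90, true), (105, false), (40, false), (85, true), (100, true), (80, true), (55, true), (35, true), (30, true)]),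
    none,
    some (675058179405286524919430908197619831, 4557175, [(95, true), (105, true), (65, true), (5, false), (15, true), (40, true), (90, true), (30, false), (110, true), (35, false), (55, false), (45, true), (75, false), (80, false), (60, false), (100, true), (115, true), (20, false), (10, true), (50, false), (85, false), (25, false), (70, true), (0, false)])],
   [1, 50, 9, 7, 59, 33, 55, 57, 18, 20, 53, 52, 10, 0, 25, 8, 23, 6, 30, 31, 35, 34, 14, 15, 45, 43, 56, 4, 58, 5, 54, 3, 42, 44, 16, 47, 17, 46, 21, 19, 49, 2, 26, 27, 36, 37, 39, 32, 28, 29, 12, 13, 51, 11, 38, 40, 41, 24, 22, 48],
   ([2, 0, 4, 1, 3], [1, 3, 0, 4, 2], [3, 1, 4, 0, 2], [3, 1, 4, 0, 2], false)),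
   ([some (188452274868421494761278041585039757, 15048437, [(25, true), (20, false), (80, true), (55, false), (115, true), (105, true), (15, true), (90, true), (35, false), (50, true), (85, true), (60, true), (5, true), (0, false), (10, false), (30, true), (70, true), (110, false), (65, true), (40, false), (95, false), (75, true), (100, true), (45, true)]),
    none,
    some (338094597766541383408962466926083296, 6714673, [(0, true), (80, false), (45, false), (85, false), (110, true), (20, true), (30, false), (5, false), (115, true), (15, false), (25, true), (40, false), (75, true), (35, true), (105, true), (10, false), (55, false), (90, true), (60, true), (95, false), (50, false), (100, true), (70, true), (65, false)]),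
    none,
    some (595213462162605248575372138077980235, 1862238, [(35, false), (10, true), (60, true), (70, true), (100, true), (90, false), (55, true), (80, false), (50, false), (30, true), (110, false), (0, true), (20, false), (25, true), (115, true), (75, false), (65, false), (105, false), (5, true), (45, true), (95, true), (40, false), (85, false), (15, false)]),
    none,
    some (338094597766541383408962466926083296, 6714673, [(0, true), (80, false), (45, false), (85, false), (110, true), (20, true), (30, false), (5, false), (115, true), (15, false), (25, true), (40, false), (75, true), (35, true), (105, true), (10, false), (55, false), (90, true), (60, true), (95, false), (50, false), (100, true), (70, true), (65, false)]),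
    none,
    some (919847909065536726416013470734814885, 133817, [(100, true), (95, false), (55, false), (10, true), (110, true), (0, true), (60, false), (65, true), (20, false), (50, true), (15, false), (35, true), (80, false), (40, false), (75, false), (70, false), (85, false), (30, true), (45, false), (25, false), (105, false), (5, false), (115, false), (90, false)]),
    none,
    some (258784077795162200192732444115373472, 14101751, [(0, true), (15, true), (40, true), (10, false), (60, true), (30, true), (115, true), (110, true), (85, false), (20, false), (70, true), (105, true), (65, false), (5, true), (35, false), (50, false), (100, true), (90, true), (75, true), (55, false), (95, true), (80, false), (45, true), (25, true)]),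
    none,
    some (141989132273303787815889008212387848, 8632760, [(5, false), (80, false), (15, false), (115, true), (55, true), (40, true), (65, false), (50, true), (0, true), (100, false), (10, false), (25, true), (105, true), (110, true), (60, false), (45, true), (35, true), (70, true), (30, false), (90, false), (85, false), (95, false), (75, false), (20, true)]),
    none,
    some (258784077795162200192732444115373472, 14101751, [(0, true), (15, true), (40, true), (10, false), (60, true), (30, true), (115, true), (110, true), (85, false), (20, false), (70, true), (105, true), (65, false), (5, true), (35, false), (50, false), (100, true), (90, true), (75, true), (55, false), (95, true), (80, false), (45, true), (25, true)]),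
    none,
    some (971620576635340505064640470816363541, 5365074, [(5, false), (45, true), (35, false), (70, false), (60, true), (10, false), (80, true), (15, false), (65, true), (100, false), (85, true), (75, true), (110, true), (50, false), (20, true), (95, true), (105, true), (55, false), (30, false), (90, false), (25, true), (0, false), (40, true), (115, false)]),
    none,
    some (258784077795162200192732444115373472, 14101751, [(0, true), (15, true), (40, true), (10, false), (60, true), (30, true), (115, true), (110, true), (85, false), (20, false), (70, true), (105, true), (65, false), (5, true), (35, false), (50, false), (100, true), (90, true), (75, true), (55, false), (95, true), (80, false), (45, true), (25, true)]),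
    none,
    some (395516178563854897490496848473299683, 8817383, [(90, true), (25, true), (75, true), (0, false), (65, false), (55, true), (10, true), (100, true), (95, false), (115, true), (45, false), (80, true), (35, false), (20, false), (15, false), (60, true), (110, false), (50, true), (30, true), (40, false), (70, false), (85, false), (105, false), (5, true)])],
   [27, 46, 29, 0, 38, 16, 53, 39, 5, 14, 52, 20, 9, 15, 12, 41, 8, 17, 28, 22, 56, 37, 43, 26, 10, 55, 57, 3, 47, 31, 58, 2, 32, 40, 50, 25, 4, 59, 36, 48, 54, 13, 30, 19, 1, 45, 44, 18, 7, 34, 49, 6, 24, 51, 33, 35, 11, 23, 42, 21],
   ([0, 4, 2, 1, 3], [0, 3, 2, 4, 1], [3, 0, 2, 1, 4], [1, 3, 2, 0, 4], false)),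
   ([some (851835855358908965219336740583988549, 13624252, [(95, false), (85, false), (20, true), (30, true), (90, true), (0, true), (45, false), (105, true), (70, true), (50, true), (5, false), (25, false), (100, false), (75, true), (15, true), (40, true), (110, true), (65, true), (55, true), (60, true), (115, false), (35, false), (80, true), (10, true)]),
    none,
    some (558996653415206758357550315011089920, 16044209, [(0, true), (35, false), (75, false), (45, false), (25, true), (50, true), (30, false), (65, true), (55, false), (10, false), (100, false), (80, false), (90, true), (115, false), (110, true), (60, true), (5, false), (15, false), (85, true), (95, false), (105, true), (70, true), (20, true), (40, true)]),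
    none,
    some (736387674286017519017462394396511432, 1332261, [(35, true), (70, false), (85, true), (10, false), (80, false), (65, true), (5, false), (45, false), (0, false), (105, false), (90, true), (100, false), (25, true), (75, false), (95, true), (55, false), (30, false), (115, false), (40, true), (60, false), (20, true), (15, false), (50, false), (110, false)]),
    none,
    some (558996653415206758357550315011089920, 16044209, [(0, true), (35, false), (75, false), (45, false), (25, true), (50, true), (30, false), (65, true), (55, false), (10, false), (100, false), (80, false), (90, true), (115, false), (110, true), (60, true), (5, false), (15, false), (85, true), (95, false), (105, true), (70, true), (20, true), (40, true)]),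
    none,
    some (646780892717315303492377228131075693, 15673329, [(65, true), (10, false), (40, false), (70, false), (90, true), (95, true), (25, true), (55, true), (105, true), (30, true), (35, true), (85, false), (100, false), (0, true), (45, false), (115, false), (75, true), (80, true), (110, true), (5, true), (60, false), (15, true), (50, true), (20, true)])],
   [41, 20, 51, 23, 25, 3, 40, 1, 48, 18, 9, 26, 42, 56, 17, 19, 27, 49, 10, 44, 5, 30, 16, 7, 37, 33, 39, 13, 58, 31, 21, 36, 12, 4, 52, 6, 54, 14, 29, 15, 53, 43, 28, 8, 11, 45, 0, 34, 46, 59, 32, 35, 47, 2, 55, 38, 57, 22, 50, 24],
   ([2, 0, 4, 1, 3], [1, 3, 0, 4, 2], [3, 4, 0, 1, 2], [2, 3, 4, 0, 1], true)),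
   ([some (851835855358908965219336740583988549, 13624252, [(95, false), (85, false), (20, true), (30, true), (90, true), (0, true), (45, false), (105, true), (70, true), (50, true), (5, false), (25, false), (100, false), (75, true), (15, true), (40, true), (110, true), (65, true), (55, true), (60, true), (115, false), (35, false), (80, true), (10, true)]),
    none,
    some (558996653415206758357550315011089920, 16044209, [(0, true), (35, false), (75, false), (45, false), (25, true), (50, true), (30, false), (65, true), (55, false), (10, false), (100, false), (80, false), (90, true), (115, false), (110, true), (60, true), (5, false), (15, false), (85, true), (95, false), (105, true), (70, true), (20, true), (40, true)]),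
    none,
    some (736387674286017519017462394396511432, 1332261, [(35, true), (70, false), (85, true), (10, false), (80, false), (65, true), (5, false), (45, false), (0, false), (105, false), (90, true), (100, false), (25, true), (75, false), (95, true), (55, false), (30, false), (115, false), (40, true), (60, false), (20, true), (15, false), (50, false), (110, false)]),
    none,
    some (558996653415206758357550315011089920, 16044209, [(0, true), (35, false), (75, false), (45, false), (25, true), (50, true), (30, false), (65, true), (55, false), (10, false), (100, false), (80, false), (90, true), (115, false), (110, true), (60, true), (5, false), (15, false), (85, true), (95, false), (105, true), (70, true), (20, true), (40, true)]),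
    none,
    some (646780892717315303492377228131075693, 7218327, [(65, true), (10, true), (40, true), (70, false), (90, true), (95, false), (25, false), (55, true), (105, false), (30, false), (35, true), (85, false), (100, false), (0, true), (45, false), (115, false), (75, false), (80, true), (110, true), (5, true), (60, false), (15, true), (50, true), (20, false)])],
   [40, 23, 48, 20, 18, 3, 41, 1, 51, 25, 9, 17, 37, 57, 26, 24, 16, 50, 33, 36, 5, 13, 27, 7, 42, 10, 38, 30, 55, 12, 22, 44, 31, 4, 47, 6, 59, 29, 14, 28, 46, 35, 15, 8, 32, 34, 0, 45, 53, 54, 11, 43, 52, 2, 58, 39, 56, 21, 49, 19],
   ([1, 2, 0, 3, 4], [2, 0, 1, 3, 4], [4, 0, 2, 3, 1], [1, 4, 2, 3, 0], false)),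
   ([some (188452274868421494761278041585039757, 15048437, [(25, true), (20, false), (80, true), (55, false), (115, true), (105, true), (15, true), (90, true), (35, false), (50, true), (85, true), (60, true), (5, true), (0, false), (10, false), (30, true), (70, true), (110, false), (65, true), (40, false), (95, false), (75, true), (100, true), (45, true)]),
    none,
    some (338094597766541383408962466926083296, 6714673, [(0, true), (80, false), (45, false), (85, false), (110, true), (20, true), (30, false), (5, false), (115, true), (15, false), (25, true), (40, false), (75, true), (35, true), (105, true), (10, false), (55, false), (90, true), (60, true), (95, false), (50, false), (100, true), (70, true), (65, false)]),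
    none,
    some (595213462162605248575372138077980235, 1862238, [(35, false), (10, true), (60, true), (70, true), (100, true), (90, false), (55, true), (80, false), (50, false), (30, true), (110, false), (0, true), (20, false), (25, true), (115, true), (75, false), (65, false), (105, false), (5, true), (45, true), (95, true), (40, false), (85, false), (15, false)]),
    none,
    some (338094597766541383408962466926083296, 6714673, [(0, true), (80, false), (45, false), (85, false), (110, true), (20, true), (30, false), (5, false), (115, true), (15, false), (25, true), (40, false), (75, true), (35, true), (105, true), (10, false), (55, false), (90, true), (60, true), (95, false), (50, false), (100, true), (70, true), (65, false)]),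
    none,
    some (736293392858204641236609788084426132, 5468947, [(20, true), (100, true), (95, false), (30, false), (85, true), (10, false), (75, false), (105, false), (40, true), (70, true), (90, false), (80, false), (5, true), (35, true), (45, true), (65, false), (50, true), (115, true), (25, false), (55, false), (0, true), (60, false), (15, true), (110, false)]),
    none,
    some (220048119786717969456457942323765344, 16569195, [(0, true), (65, true), (15, false), (5, true), (45, false), (115, true), (25, true), (70, false), (10, true), (110, true), (75, false), (95, false), (20, true), (60, false), (50, true), (90, true), (105, false), (40, false), (85, true), (100, true), (80, true), (55, true), (35, true), (30, true)]),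
    none,
    some (675058179405286524919430908197619831, 4081329, [(95, true), (105, false), (65, false), (5, false), (15, true), (40, true), (90, false), (30, true), (110, false), (35, true), (55, true), (45, false), (75, false), (80, false), (60, true), (100, false), (115, false), (20, true), (10, true), (50, true), (85, true), (25, true), (70, false), (0, false)])],
   [1, 48, 6, 8, 54, 11, 55, 57, 22, 24, 47, 46, 32, 0, 21, 7, 19, 9, 12, 13, 44, 42, 26, 27, 37, 36, 56, 5, 58, 4, 59, 2, 34, 35, 28, 53, 29, 52, 25, 23, 51, 3, 14, 15, 43, 45, 39, 10, 16, 17, 30, 31, 49, 33, 38, 40, 41, 20, 18, 50],
   ([2, 4, 1, 0, 3], [3, 2, 0, 4, 1], [3, 0, 1, 4, 2], [1, 2, 4, 0, 3], true))]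

/-- orbit words, part 8 -/
def orbW8 : List Ent :=
  [([some (188452274868421494761278041585039757, 15048437, [(25, true), (20, false), (80, true), (55, false), (115, true), (105, true), (15, true), (90, true), (35, false), (50, true), (85, true), (60, true), (5, true), (0, false), (10, false), (30, true), (70, true), (110, false), (65, true), (40, false), (95, false), (75, true), (100, true), (45, true)]),
    none,
    some (338094597766541383408962466926083296, 6714673, [(0, true), (80, false), (45, false), (85, false), (110, true), (20, true), (30, false), (5, false), (115, true), (15, false), (25, true), (40, false), (75, true), (35, true), (105, true), (10, false), (55, false), (90, true), (60, true), (95, false), (50, false), (100, true), (70, true), (65, false)]),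
    none,
    some (595213462162605248575372138077980235, 1862238, [(35, false), (10, true), (60, true), (70, true), (100, true), (90, false), (55, true), (80, false), (50, false), (30, true), (110, false), (0, true), (20, false), (25, true), (115, true), (75, false), (65, false), (105, false), (5, true), (45, true), (95, true), (40, false), (85, false), (15, false)]),
    none,
    some (338094597766541383408962466926083296, 6714673, [(0, true), (80, false), (45, false), (85, false), (110, true), (20, true), (30, false), (5, false), (115, true), (15, false), (25, true), (40, false), (75, true), (35, true), (105, true), (10, false), (55, false), (90, true), (60, true), (95, false), (50, false), (100, true), (70, true), (65, false)]),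
    none,
    some (736293392858204641236609788084426132, 5468947, [(20, true), (100, true), (95, false), (30, false), (85, true), (10, false), (75, false), (105, false), (40, true), (70, true), (90, false), (80, false), (5, true), (35, true), (45, true), (65, false), (50, true), (115, true), (25, false), (55, false), (0, true), (60, false), (15, true), (110, false)]),
    none,
    some (220048119786717969456457942323765344, 16569195, [(0, true), (65, true), (15, false), (5, true), (45, false), (115, true), (25, true), (70, false), (10, true), (110, true), (75, false), (95, false), (20, true), (60, false), (50, true), (90, true), (105, false), (40, false), (85, true), (100, true), (80, true), (55, true), (35, true), (30, true)]),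
    none,
    some (675058179405286524919430908197619831, 12880401, [(95, true), (105, false), (65, false), (5, false), (15, true), (40, false), (90, false), (30, false), (110, false), (35, true), (55, false), (45, true), (75, false), (80, false), (60, false), (100, true), (115, false), (20, false), (10, true), (50, false), (85, false), (25, false), (70, true), (0, true)])],
   [1, 49, 9, 7, 54, 10, 58, 56, 25, 23, 46, 47, 33, 0, 18, 8, 20, 6, 13, 12, 43, 45, 29, 28, 34, 35, 57, 4, 55, 5, 59, 3, 37, 36, 27, 52, 26, 53, 22, 24, 50, 2, 17, 16, 44, 42, 38, 11, 15, 14, 31, 30, 48, 32, 39, 41, 40, 19, 21, 51],
   ([1, 3, 2, 0, 4], [3, 0, 2, 1, 4], [4, 0, 2, 3, 1], [1, 4, 2, 3, 0], true)),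
   ([some (851835855358908965219336740583988549, 13624252, [(95, false), (85, false), (20, true), (30, true), (90, true), (0, true), (45, false), (105, true), (70, true), (50, true), (5, false), (25, false), (100, false), (75, true), (15, true), (40, true), (110, true), (65, true), (55, true), (60, true), (115, false), (35, false), (80, true), (10, true)]),
    none,
    some (558996653415206758357550315011089920, 16044209, [(0, true), (35, false), (75, false), (45, false), (25, true), (50, true), (30, false), (65, true), (55, false), (10, false), (100, false), (80, false), (90, true), (115, false), (110, true), (60, true), (5, false), (15, false), (85, true), (95, false), (105, true), (70, true), (20, true), (40, true)]),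
    none,
    some (736387674286017519017462394396511432, 1332261, [(35, true), (70, false), (85, true), (10, false), (80, false), (65, true), (5, false), (45, false), (0, false), (105, false), (90, true), (100, false), (25, true), (75, false), (95, true), (55, false), (30, false), (115, false), (40, true), (60, false), (20, true), (15, false), (50, false), (110, false)]),
    none,
    some (558996653415206758357550315011089920, 16044209, [(0, true), (35, false), (75, false), (45, false), (25, true), (50, true), (30, false), (65, true), (55, false), (10, false), (100, false), (80, false), (90, true), (115, false), (110, true), (60, true), (5, false), (15, false), (85, true), (95, false), (105, true), (70, true), (20, true), (40, true)]),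
    none,
    some (646780892717315303492377228131075693, 9758775, [(65, true), (10, true), (40, true), (70, false), (90, true), (95, true), (25, false), (55, false), (105, false), (30, false), (35, false), (85, true), (100, false), (0, true), (45, true), (115, true), (75, false), (80, false), (110, true), (5, false), (60, true), (15, false), (50, false), (20, true)])],
   [41, 24, 49, 19, 21, 2, 40, 1, 50, 22, 6, 14, 34, 56, 29, 23, 15, 51, 32, 35, 4, 12, 28, 8, 45, 11, 39, 31, 58, 13, 25, 43, 30, 5, 46, 9, 59, 26, 17, 27, 47, 36, 16, 7, 33, 37, 0, 42, 52, 54, 10, 44, 53, 3, 55, 38, 57, 18, 48, 20],
   ([2, 1, 0, 4, 3], [2, 1, 0, 4, 3], [3, 0, 1, 4, 2], [1, 2, 4, 0, 3], false)),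
   ([some (851835855358908965219336740583988549, 13624252, [(95, false), (85, false), (20, true), (30, true), (90, true), (0, true), (45, false), (105, true), (70, true), (50, true), (5, false), (25, false), (100, false), (75, true), (15, true), (40, true), (110, true), (65, true), (55, true), (60, true), (115, false), (35, false), (80, true), (10, true)]),
    none,
    some (558996653415206758357550315011089920, 16044209, [(0, true), (35, false), (75, false), (45, false), (25, true), (50, true), (30, false), (65, true), (55, false), (10, false), (100, false), (80, false), (90, true), (115, false), (110, true), (60, true), (5, false), (15, false), (85, true), (95, false), (105, true), (70, true), (20, true), (40, true)]),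
    none,
    some (736387674286017519017462394396511432, 1332261, [(35, true), (70, false), (85, true), (10, false), (80, false), (65, true), (5, false), (45, false), (0, false), (105, false), (90, true), (100, false), (25, true), (75, false), (95, true), (55, false), (30, false), (115, false), (40, true), (60, false), (20, true), (15, false), (50, false), (110, false)]),
    none,
    some (558996653415206758357550315011089920, 16044209, [(0, true), (35, false), (75, false), (45, false), (25, true), (50, true), (30, false), (65, true), (55, false), (10, false), (100, false), (80, false), (90, true), (115, false), (110, true), (60, true), (5, false), (15, false), (85, true), (95, false), (105, true), (70, true), (20, true), (40, true)]),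
    none,
    some (646780892717315303492377228131075693, 11082571, [(65, true), (10, true), (40, false), (70, true), (90, false), (95, false), (25, true), (55, false), (105, true), (30, true), (35, false), (85, true), (100, true), (0, false), (45, false), (115, false), (75, true), (80, false), (110, false), (5, true), (60, false), (15, true), (50, false), (20, true)])],
   [38, 27, 46, 16, 14, 5, 39, 0, 53, 29, 9, 21, 37, 56, 22, 28, 20, 52, 31, 35, 3, 11, 23, 8, 42, 12, 40, 32, 55, 10, 26, 43, 33, 2, 49, 6, 59, 25, 18, 24, 48, 36, 19, 7, 30, 34, 1, 45, 51, 54, 13, 44, 50, 4, 58, 41, 57, 17, 47, 15],
   ([4, 0, 2, 3, 1], [1, 4, 2, 3, 0], [1, 2, 0, 3, 4], [2, 0, 1, 3, 4], true)),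
   ([some (188452274868421494761278041585039757, 15048437, [(25, true), (20, false), (80, true), (55, false), (115, true), (105, true), (15, true), (90, true), (35, false), (50, true), (85, true), (60, true), (5, true), (0, false), (10, false), (30, true), (70, true), (110, false), (65, true), (40, false), (95, false), (75, true), (100, true), (45, true)]),
    none,
    some (338094597766541383408962466926083296, 6714673, [(0, true), (80, false), (45, false), (85, false), (110, true), (20, true), (30, false), (5, false), (115, true), (15, false), (25, true), (40, false), (75, true), (35, true), (105, true), (10, false), (55, false), (90, true), (60, true), (95, false), (50, false), (100, true), (70, true), (65, false)]),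
    none,
    some (595213462162605248575372138077980235, 1862238, [(35, false), (10, true), (60, true), (70, true), (100, true), (90, false), (55, true), (80, false), (50, false), (30, true), (110, false), (0, true), (20, false), (25, true), (115, true), (75, false), (65, false), (105, false), (5, true), (45, true), (95, true), (40, false), (85, false), (15, false)]),
    none,
    some (338094597766541383408962466926083296, 6714673, [(0, true), (80, false), (45, false), (85, false), (110, true), (20, true), (30, false), (5, false), (115, true), (15, false), (25, true), (40, false), (75, true), (35, true), (105, true), (10, false), (55, false), (90, true), (60, true), (95, false), (50, false), (100, true), (70, true), (65, false)]),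
    none,
    some (736293392858204641236609788084426132, 5468947, [(20, true), (100, true), (95, false), (30, false), (85, true), (10, false), (75, false), (105, false), (40, true), (70, true), (90, false), (80, false), (5, true), (35, true), (45, true), (65, false), (50, true), (115, true), (25, false), (55, false), (0, true), (60, false), (15, true), (110, false)]),
    none,
    some (220048119786717969456457942323765344, 16569195, [(0, true), (65, true), (15, false), (5, true), (45, false), (115, true), (25, true), (70, false), (10, true), (110, true), (75, false), (95, false), (20, true), (60, false), (50, true), (90, true), (105, false), (40, false), (85, true), (100, true), (80, true), (55, true), (35, true), (30, true)]),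
    none,
    some (675058179405286524919430908197619831, 16349549, [(95, true), (105, false), (65, true), (5, true), (15, false), (40, true), (90, true), (30, false), (110, true), (35, false), (55, false), (45, true), (75, true), (80, true), (60, true), (100, false), (115, true), (20, false), (10, false), (50, true), (85, true), (25, true), (70, true), (0, true)])],
   [0, 46, 6, 7, 54, 13, 55, 56, 26, 28, 49, 48, 30, 1, 17, 8, 15, 9, 10, 11, 43, 42, 22, 23, 37, 35, 57, 3, 58, 2, 59, 4, 34, 36, 24, 51, 25, 50, 29, 27, 53, 5, 18, 19, 44, 45, 41, 12, 20, 21, 32, 33, 47, 31, 40, 38, 39, 16, 14, 52],
   ([3, 0, 1, 4, 2], [1, 2, 4, 0, 3], [2, 4, 1, 0, 3], [3, 2, 0, 4, 1], false)),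
   ([some (188452274868421494761278041585039757, 15048437, [(25, true), (20, false), (80, true), (55, false), (115, true), (105, true), (15, true), (90, true), (35, false), (50, true), (85, true), (60, true), (5, true), (0, false), (10, false), (30, true), (70, true), (110, false), (65, true), (40, false), (95, false), (75, true), (100, true), (45, true)]),
    none,
    some (338094597766541383408962466926083296, 6714673, [(0, true), (80, false), (45, false), (85, false), (110, true), (20, true), (30, false), (5, false), (115, true), (15, false), (25, true), (40, false), (75, true), (35, true), (105, true), (10, false), (55, false), (90, true), (60, true), (95, false), (50, false), (100, true), (70, true), (65, false)]),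
    none,
    some (595213462162605248575372138077980235, 1862238, [(35, false), (10, true), (60, true), (70, true), (100, true), (90, false), (55, true), (80, false), (50, false), (30, true), (110, false), (0, true), (20, false), (25, true), (115, true), (75, false), (65, false), (105, false), (5, true), (45, true), (95, true), (40, false), (85, false), (15, false)]),
    none,
    some (338094597766541383408962466926083296, 6714673, [(0, true), (80, false), (45, false), (85, false), (110, true), (20, true), (30, false), (5, false), (115, true), (15, false), (25, true), (40, false), (75, true), (35, true), (105, true), (10, false), (55, false), (90, true), (60, true), (95, false), (50, false), (100, true), (70, true), (65, false)]),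
    none,
    some (736293392858204641236609788084426132, 5468947, [(20, true), (100, true), (95, false), (30, false), (85, true), (10, false), (75, false), (105, false), (40, true), (70, true), (90, false), (80, false), (5, true), (35, true), (45, true), (65, false), (50, true), (115, true), (25, false), (55, false), (0, true), (60, false), (15, true), (110, false)]),
    none,
    some (220048119786717969456457942323765344, 16569195, [(0, true), (65, true), (15, false), (5, true), (45, false), (115, true), (25, true), (70, false), (10, true), (110, true), (75, false), (95, false), (20, true), (60, false), (50, true), (90, true), (105, false), (40, false), (85, true), (100, true), (80, true), (55, true), (35, true), (30, true)]),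
    none,
    some (675058179405286524919430908197619831, 243149, [(95, true), (105, false), (65, true), (5, true), (15, false), (40, false), (90, true), (30, true), (110, true), (35, false), (55, true), (45, false), (75, true), (80, true), (60, false), (100, true), (115, true), (20, true), (10, false), (50, false), (85, false), (25, false), (70, false), (0, false)])],
   [0, 47, 9, 8, 54, 12, 58, 57, 29, 27, 48, 49, 31, 1, 14, 7, 16, 6, 11, 10, 44, 45, 25, 24, 34, 36, 56, 2, 55, 3, 59, 5, 37, 35, 23, 50, 22, 51, 26, 28, 52, 4, 21, 20, 43, 42, 40, 13, 19, 18, 33, 32, 46, 30, 41, 39, 38, 15, 17, 53],
   ([4, 0, 2, 3, 1], [1, 4, 2, 3, 0], [1, 3, 2, 0, 4], [3, 0, 2, 1, 4], false))]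

/-- orbit words, part 9 -/
def orbW9 : List Ent :=
  [([some (851835855358908965219336740583988549, 13624252, [(95, false), (85, false), (20, true), (30, true), (90, true), (0, true), (45, false), (105, true), (70, true), (50, true), (5, false), (25, false), (100, false), (75, true), (15, true), (40, true), (110, true), (65, true), (55, true), (60, true), (115, false), (35, false), (80, true), (10, true)]),
    none,
    some (558996653415206758357550315011089920, 16044209, [(0, true), (35, false), (75, false), (45, false), (25, true), (50, true), (30, false), (65, true), (55, false), (10, false), (100, false), (80, false), (90, true), (115, false), (110, true), (60, true), (5, false), (15, false), (85, true), (95, false), (105, true), (70, true), (20, true), (40, true)]),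
    none,
    some (736387674286017519017462394396511432, 1332261, [(35, true), (70, false), (85, true), (10, false), (80, false), (65, true), (5, false), (45, false), (0, false), (105, false), (90, true), (100, false), (25, true), (75, false), (95, true), (55, false), (30, false), (115, false), (40, true), (60, false), (20, true), (15, false), (50, false), (110, false)]),
    none,
    some (558996653415206758357550315011089920, 16044209, [(0, true), (35, false), (75, false), (45, false), (25, true), (50, true), (30, false), (65, true), (55, false), (10, false), (100, false), (80, false), (90, true), (115, false), (110, true), (60, true), (5, false), (15, false), (85, true), (95, false), (105, true), (70, true), (20, true), (40, true)]),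
    none,
    some (646780892717315303492377228131075693, 5494763, [(65, true), (10, true), (40, false), (70, true), (90, false), (95, true), (25, true), (55, true), (105, true), (30, true), (35, true), (85, false), (100, true), (0, false), (45, true), (115, true), (75, true), (80, true), (110, false), (5, false), (60, true), (15, false), (50, true), (20, false)])],
   [39, 28, 47, 15, 17, 4, 38, 0, 52, 26, 6, 18, 34, 57, 25, 27, 19, 53, 30, 36, 2, 10, 24, 7, 45, 13, 41, 33, 58, 11, 29, 44, 32, 3, 48, 9, 59, 22, 21, 23, 49, 35, 20, 8, 31, 37, 1, 42, 50, 54, 12, 43, 51, 5, 55, 40, 56, 14, 46, 16],
   ([3, 0, 1, 4, 2], [1, 2, 4, 0, 3], [2, 1, 0, 4, 3], [2, 1, 0, 4, 3], true)),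
   ([some (188452274868421494761278041585039757, 15048437, [(25, true), (20, false), (80, true), (55, false), (115, true), (105, true), (15, true), (90, true), (35, false), (50, true), (85, true), (60, true), (5, true), (0, false), (10, false), (30, true), (70, true), (110, false), (65, true), (40, false), (95, false), (75, true), (100, true), (45, true)]),
    none,
    some (338094597766541383408962466926083296, 6714673, [(0, true), (80, false), (45, false), (85, false), (110, true), (20, true), (30, false), (5, false), (115, true), (15, false), (25, true), (40, false), (75, true), (35, true), (105, true), (10, false), (55, false), (90, true), (60, true), (95, false), (50, false), (100, true), (70, true), (65, false)]),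
    none,
    some (595213462162605248575372138077980235, 1862238, [(35, false), (10, true), (60, true), (70, true), (100, true), (90, false), (55, true), (80, false), (50, false), (30, true), (110, false), (0, true), (20, false), (25, true), (115, true), (75, false), (65, false), (105, false), (5, true), (45, true), (95, true), (40, false), (85, false), (15, false)]),
    none,
    some (338094597766541383408962466926083296, 6714673, [(0, true), (80, false), (45, false), (85, false), (110, true), (20, true), (30, false), (5, false), (115, true), (15, false), (25, true), (40, false), (75, true), (35, true), (105, true), (10, false), (55, false), (90, true), (60, true), (95, false), (50, false), (100, true), (70, true), (65, false)]),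
    none,
    some (185167394989396175333065006757006439, 13631886, [(25, false), (60, true), (50, true), (5, true), (115, false), (75, false), (90, false), (0, true), (55, true), (40, false), (95, false), (20, false), (80, false), (65, false), (110, false), (85, false), (45, false), (35, false), (15, false), (10, false), (105, true), (70, false), (30, true), (100, true)])],
   [7, 46, 33, 20, 53, 5, 35, 43, 23, 10, 32, 27, 18, 44, 9, 15, 1, 30, 37, 39, 22, 14, 11, 16, 42, 38, 57, 3, 59, 4, 50, 25, 21, 29, 47, 31, 51, 24, 6, 0, 55, 26, 12, 19, 41, 45, 8, 17, 48, 52, 34, 40, 58, 2, 36, 54, 56, 13, 28, 49],
   ([2, 3, 4, 0, 1], [3, 4, 0, 1, 2], [1, 3, 0, 4, 2], [2, 0, 4, 1, 3], false)),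
   ([some (188452274868421494761278041585039757, 15048437, [(25, true), (20, false), (80, true), (55, false), (115, true), (105, true), (15, true), (90, true), (35, false), (50, true), (85, true), (60, true), (5, true), (0, false), (10, false), (30, true), (70, true), (110, false), (65, true), (40, false), (95, false), (75, true), (100, true), (45, true)]),
    none,
    some (338094597766541383408962466926083296, 6714673, [(0, true), (80, false), (45, false), (85, false), (110, true), (20, true), (30, false), (5, false), (115, true), (15, false), (25, true), (40, false), (75, true), (35, true), (105, true), (10, false), (55, false), (90, true), (60, true), (95, false), (50, false), (100, true), (70, true), (65, false)]),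
    none,
    some (595213462162605248575372138077980235, 1862238, [(35, false), (10, true), (60, true), (70, true), (100, true), (90, false), (55, true), (80, false), (50, false), (30, true), (110, false), (0, true), (20, false), (25, true), (115, true), (75, false), (65, false), (105, false), (5, true), (45, true), (95, true), (40, false), (85, false), (15, false)]),
    none,
    some (338094597766541383408962466926083296, 6714673, [(0, true), (80, false), (45, false), (85, false), (110, true), (20, true), (30, false), (5, false), (115, true), (15, false), (25, true), (40, false), (75, true), (35, true), (105, true), (10, false), (55, false), (90, true), (60, true), (95, false), (50, false), (100, true), (70, true), (65, false)]),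
    none,
    some (185167394989396175333065006757006439, 2805038, [(25, false), (60, true), (50, true), (5, true), (115, false), (75, true), (90, false), (0, false), (55, true), (40, false), (95, true), (20, true), (80, false), (65, false), (110, true), (85, true), (45, false), (35, true), (15, false), (10, true), (105, false), (70, true), (30, false), (100, false)])],
   [8, 47, 32, 19, 52, 4, 36, 44, 24, 11, 33, 28, 21, 43, 6, 16, 1, 31, 34, 38, 25, 17, 10, 15, 45, 39, 56, 2, 59, 5, 51, 22, 18, 26, 46, 30, 50, 23, 9, 0, 58, 29, 13, 20, 40, 42, 7, 14, 49, 53, 37, 41, 55, 3, 35, 54, 57, 12, 27, 48],
   ([1, 4, 3, 0, 2], [3, 0, 4, 2, 1], [2, 4, 0, 3, 1], [2, 4, 0, 3, 1], false)),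
   ([some (188452274868421494761278041585039757, 15048437, [(25, true), (20, false), (80, true), (55, false), (115, true), (105, true), (15, true), (90, true), (35, false), (50, true), (85, true), (60, true), (5, true), (0, false), (10, false), (30, true), (70, true), (110, false), (65, true), (40, false), (95, false), (75, true), (100, true), (45, true)]),
    none,
    some (338094597766541383408962466926083296, 6714673, [(0, true), (80, false), (45, false), (85, false), (110, true), (20, true), (30, false), (5, false), (115, true), (15, false), (25, true), (40, false), (75, true), (35, true), (105, true), (10, false), (55, false), (90, true), (60, true), (95, false), (50, false), (100, true), (70, true), (65, false)]),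
    none,
    some (595213462162605248575372138077980235, 1862238, [(35, false), (10, true), (60, true), (70, true), (100, true), (90, false), (55, true), (80, false), (50, false), (30, true), (110, false), (0, true), (20, false), (25, true), (115, true), (75, false), (65, false), (105, false), (5, true), (45, true), (95, true), (40, false), (85, false), (15, false)]),
    none,
    some (338094597766541383408962466926083296, 6714673, [(0, true), (80, false), (45, false), (85, false), (110, true), (20, true), (30, false), (5, false), (115, true), (15, false), (25, true), (40, false), (75, true), (35, true), (105, true), (10, false), (55, false), (90, true), (60, true), (95, false), (50, false), (100, true), (70, true), (65, false)]),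
    none,
    some (185167394989396175333065006757006439, 1523282, [(25, false), (60, true), (50, false), (5, false), (115, true), (75, false), (90, true), (0, false), (55, false), (40, true), (95, true), (20, true), (80, true), (65, true), (110, false), (85, false), (45, true), (35, true), (15, true), (10, false), (105, true), (70, false), (30, false), (100, false)])],
   [8, 48, 31, 16, 51, 3, 36, 44, 27, 12, 30, 23, 14, 43, 9, 19, 0, 32, 37, 41, 26, 18, 13, 20, 42, 40, 56, 5, 59, 2, 52, 29, 17, 25, 49, 33, 53, 28, 6, 1, 55, 22, 10, 15, 39, 45, 7, 21, 46, 50, 34, 38, 58, 4, 35, 54, 57, 11, 24, 47],
   ([1, 3, 0, 4, 2], [2, 0, 4, 1, 3], [2, 3, 4, 0, 1], [3, 4, 0, 1, 2], true)),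
   ([some (188452274868421494761278041585039757, 15048437, [(25, true), (20, false), (80, true), (55, false), (115, true), (105, true), (15, true), (90, true), (35, false), (50, true), (85, true), (60, true), (5, true), (0, false), (10, false), (30, true), (70, true), (110, false), (65, true), (40, false), (95, false), (75, true), (100, true), (45, true)]),
    none,
    some (338094597766541383408962466926083296, 6714673, [(0, true), (80, false), (45, false), (85, false), (110, true), (20, true), (30, false), (5, false), (115, true), (15, false), (25, true), (40, false), (75, true), (35, true), (105, true), (10, false), (55, false), (90, true), (60, true), (95, false), (50, false), (100, true), (70, true), (65, false)]),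
    none,
    some (595213462162605248575372138077980235, 1862238, [(35, false), (10, true), (60, true), (70, true), (100, true), (90, false), (55, true), (80, false), (50, false), (30, true), (110, false), (0, true), (20, false), (25, true), (115, true), (75, false), (65, false), (105, false), (5, true), (45, true), (95, true), (40, false), (85, false), (15, false)]),
    none,
    some (338094597766541383408962466926083296, 6714673, [(0, true), (80, false), (45, false), (85, false), (110, true), (20, true), (30, false), (5, false), (115, true), (15, false), (25, true), (40, false), (75, true), (35, true), (105, true), (10, false), (55, false), (90, true), (60, true), (95, false), (50, false), (100, true), (70, true), (65, false)]),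
    none,
    some (185167394989396175333065006757006439, 15594226, [(25, false), (60, true), (50, false), (5, false), (115, true), (75, true), (90, true), (0, true), (55, false), (40, true), (95, false), (20, false), (80, true), (65, true), (110, true), (85, true), (45, true), (35, false), (15, true), (10, true), (105, false), (70, true), (30, true), (100, true)])],
   [7, 49, 30, 15, 50, 2, 35, 43, 28, 13, 31, 24, 17, 44, 6, 20, 0, 33, 34, 40, 29, 21, 12, 19, 45, 41, 57, 4, 59, 3, 53, 26, 14, 22, 48, 32, 52, 27, 9, 1, 58, 25, 11, 16, 38, 42, 8, 18, 47, 51, 37, 39, 55, 5, 36, 54, 56, 10, 23, 46],
   ([2, 4, 0, 3, 1], [2, 4, 0, 3, 1], [1, 4, 3, 0, 2], [3, 0, 4, 2, 1], true))]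

/-- orbit words, part 10 -/
def orbW10 : List Ent :=
  [([some (226171291961137634594401717152166913, 3719203, [(5, true), (0, true), (90, false), (30, false), (45, false), (115, true), (60, false), (105, false), (65, false), (15, false), (75, false), (70, false), (40, false), (10, false), (110, true), (55, true), (20, false), (100, false), (80, false), (35, true), (50, true), (85, true), (95, false), (25, false)])],
   [1, 0, 41, 40, 38, 39, 57, 55, 58, 56, 46, 47, 49, 48, 19, 18, 21, 20, 16, 17, 14, 15, 27, 26, 29, 28, 24, 25, 22, 23, 50, 51, 53, 52, 36, 34, 37, 35, 5, 4, 2, 3, 44, 42, 45, 43, 11, 10, 12, 13, 31, 30, 32, 33, 54, 8, 6, 9, 7, 59],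
   ([0, 4, 3, 2, 1], [0, 4, 3, 2, 1], [0, 3, 4, 1, 2], [0, 3, 4, 1, 2], true)),
   ([some (54656202412536120667236423848644631, 12717187, [(5, true), (115, true), (65, false), (105, false), (95, false), (25, false), (15, false), (50, true), (60, false), (20, false), (110, true), (35, true), (100, false), (75, false), (45, false), (80, false), (90, false), (55, true), (70, false), (30, false), (10, false), (40, false), (85, true), (0, true)])],
   [9, 6, 45, 34, 37, 42, 58, 54, 59, 55, 46, 51, 52, 49, 18, 12, 33, 29, 22, 30, 11, 17, 21, 13, 32, 26, 25, 31, 10, 14, 47, 50, 53, 48, 40, 36, 43, 39, 5, 3, 4, 2, 41, 35, 44, 38, 23, 16, 19, 28, 24, 15, 20, 27, 56, 1, 7, 8, 0, 57],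
   ([0, 2, 4, 3, 1], [0, 4, 1, 3, 2], [0, 3, 1, 2, 4], [0, 2, 3, 1, 4], true)),
   ([some (54656202412536120667236423848644631, 3719203, [(5, true), (115, true), (65, false), (105, false), (95, false), (25, true), (15, false), (50, false), (60, false), (20, false), (110, false), (35, false), (100, false), (75, false), (45, true), (80, true), (90, false), (55, false), (70, false), (30, true), (10, true), (40, true), (85, false), (0, false)])],
   [6, 9, 42, 37, 34, 45, 55, 54, 59, 58, 47, 50, 53, 48, 21, 13, 32, 26, 25, 31, 10, 14, 18, 12, 33, 29, 22, 30, 11, 17, 46, 51, 52, 49, 41, 35, 44, 38, 4, 2, 5, 3, 40, 36, 43, 39, 24, 15, 20, 27, 23, 16, 19, 28, 57, 1, 8, 7, 0, 56],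
   ([0, 1, 3, 4, 2], [0, 1, 4, 2, 3], [0, 4, 2, 1, 3], [0, 3, 2, 4, 1], true)),
   ([some (226171291961137634594401717152166913, 12717187, [(5, true), (0, true), (90, false), (30, false), (45, false), (115, false), (60, false), (105, true), (65, false), (15, false), (75, true), (70, true), (40, false), (10, false), (110, false), (55, false), (20, false), (100, true), (80, false), (35, false), (50, false), (85, false), (95, true), (25, true)])],
   [1, 0, 40, 41, 39, 38, 56, 58, 55, 57, 47, 46, 48, 49, 20, 21, 18, 19, 15, 14, 17, 16, 28, 29, 26, 27, 23, 22, 25, 24, 51, 50, 52, 53, 35, 37, 34, 36, 4, 5, 3, 2, 43, 45, 42, 44, 10, 11, 13, 12, 30, 31, 33, 32, 54, 7, 9, 6, 8, 59],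
   ([0, 3, 4, 1, 2], [0, 3, 4, 1, 2], [0, 4, 3, 2, 1], [0, 4, 3, 2, 1], true)),
   ([some (188452274868421494761278041585039757, 15048437, [(25, true), (20, false), (80, true), (55, false), (115, true), (105, true), (15, true), (90, true), (35, false), (50, true), (85, true), (60, true), (5, true), (0, false), (10, false), (30, true), (70, true), (110, false), (65, true), (40, false), (95, false), (75, true), (100, true), (45, true)]),
    none,
    some (338094597766541383408962466926083296, 6714673, [(0, true), (80, false), (45, false), (85, false), (110, true), (20, true), (30, false), (5, false), (115, true), (15, false), (25, true), (40, false), (75, true), (35, true), (105, true), (10, false), (55, false), (90, true), (60, true), (95, false), (50, false), (100, true), (70, true), (65, false)]),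
    none,
    some (595213462162605248575372138077980235, 1862238, [(35, false), (10, true), (60, true), (70, true), (100, true), (90, false), (55, true), (80, false), (50, false), (30, true), (110, false), (0, true), (20, false), (25, true), (115, true), (75, false), (65, false), (105, false), (5, true), (45, true), (95, true), (40, false), (85, false), (15, false)]),
    none,
    some (338094597766541383408962466926083296, 6714673, [(0, true), (80, false), (45, false), (85, false), (110, true), (20, true), (30, false), (5, false), (115, true), (15, false), (25, true), (40, false), (75, true), (35, true), (105, true), (10, false), (55, false), (90, true), (60, true), (95, false), (50, false), (100, true), (70, true), (65, false)]),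
    none,
    some (691427880024997469084000763666013362, 5524213, [(100, true), (15, false), (40, true), (30, false), (45, true), (5, true), (70, true), (10, true), (20, false), (60, true), (75, false), (35, true), (65, false), (95, false), (55, true), (85, false), (115, false), (90, false), (0, true), (25, false), (110, true), (105, false), (50, true), (80, false)]),
    none,
    some (258784077795162200192732444115373472, 14101751, [(0, true), (15, true), (40, true), (10, false), (60, true), (30, true), (115, true), (110, true), (85, false), (20, false), (70, true), (105, true), (65, false), (5, true), (35, false), (50, false), (100, true), (90, true), (75, true), (55, false), (95, true), (80, false), (45, true), (25, true)]),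
    none,
    some (715777984645649763547742138814451718, 1127686, [(5, false), (65, true), (50, true), (20, false), (70, false), (75, false), (0, false), (110, false), (95, true), (100, false), (40, true), (85, false), (35, true), (105, true), (55, false), (80, false), (15, true), (115, false), (30, false), (90, false), (10, true), (45, false), (25, false), (60, false)]),
    none,
    some (258784077795162200192732444115373472, 14101751, [(0, true), (15, true), (40, true), (10, false), (60, true), (30, true), (115, true), (110, true), (85, false), (20, false), (70, true), (105, true), (65, false), (5, true), (35, false), (50, false), (100, true), (90, true), (75, true), (55, false), (95, true), (80, false), (45, true), (25, true)]),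
    none,
    some (681674634758743498925333276215773940, 5415866, [(90, false), (45, true), (10, false), (40, true), (105, true), (70, true), (55, false), (65, true), (35, true), (20, true), (25, false), (30, false), (60, false), (110, true), (50, false), (95, true), (115, false), (15, true), (100, false), (75, false), (0, true), (80, false), (85, true), (5, false)])],
   [20, 46, 40, 48, 55, 26, 38, 22, 16, 37, 34, 0, 12, 41, 30, 1, 44, 18, 42, 56, 11, 28, 39, 13, 14, 54, 57, 3, 50, 25, 24, 51, 52, 6, 58, 2, 31, 47, 33, 7, 35, 23, 17, 19, 8, 45, 15, 9, 27, 49, 21, 36, 59, 4, 29, 53, 43, 5, 10, 32],
   ([1, 2, 0, 3, 4], [2, 0, 1, 3, 4], [0, 2, 4, 3, 1], [0, 4, 1, 3, 2], false))]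

/-- orbit words, part 11 -/
def orbW11 : List Ent :=
  [([some (188452274868421494761278041585039757, 15048437, [(25, true), (20, false), (80, true), (55, false), (115, true), (105, true), (15, true), (90, true), (35, false), (50, true), (85, true), (60, true), (5, true), (0, false), (10, false), (30, true), (70, true), (110, false), (65, true), (40, false), (95, false), (75, true), (100, true), (45, true)]),
    none,
    some (338094597766541383408962466926083296, 6714673, [(0, true), (80, false), (45, false), (85, false), (110, true), (20, true), (30, false), (5, false), (115, true), (15, false), (25, true), (40, false), (75, true), (35, true), (105, true), (10, false), (55, false), (90, true), (60, true), (95, false), (50, false), (100, true), (70, true), (65, false)]),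
    none,
    some (595213462162605248575372138077980235, 1862238, [(35, false), (10, true), (60, true), (70, true), (100, true), (90, false), (55, true), (80, false), (50, false), (30, true), (110, false), (0, true), (20, false), (25, true), (115, true), (75, false), (65, false), (105, false), (5, true), (45, true), (95, true), (40, false), (85, false), (15, false)]),
    none,
    some (338094597766541383408962466926083296, 6714673, [(0, true), (80, false), (45, false), (85, false), (110, true), (20, true), (30, false), (5, false), (115, true), (15, false), (25, true), (40, false), (75, true), (35, true), (105, true), (10, false), (55, false), (90, true), (60, true), (95, false), (50, false), (100, true), (70, true), (65, false)]),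
    none,
    some (691427880024997469084000763666013362, 5524213, [(100, true), (15, false), (40, true), (30, false), (45, true), (5, true), (70, true), (10, true), (20, false), (60, true), (75, false), (35, true), (65, false), (95, false), (55, true), (85, false), (115, false), (90, false), (0, true), (25, false), (110, true), (105, false), (50, true), (80, false)]),
    none,
    some (258784077795162200192732444115373472, 14101751, [(0, true), (15, true), (40, true), (10, false), (60, true), (30, true), (115, true), (110, true), (85, false), (20, false), (70, true), (105, true), (65, false), (5, true), (35, false), (50, false), (100, true), (90, true), (75, true), (55, false), (95, true), (80, false), (45, true), (25, true)]),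
    none,
    some (715777984645649763547742138814451718, 1127686, [(5, false), (65, true), (50, true), (20, false), (70, false), (75, false), (0, false), (110, false), (95, true), (100, false), (40, true), (85, false), (35, true), (105, true), (55, false), (80, false), (15, true), (115, false), (30, false), (90, false), (10, true), (45, false), (25, false), (60, false)]),
    none,
    some (258784077795162200192732444115373472, 14101751, [(0, true), (15, true), (40, true), (10, false), (60, true), (30, true), (115, true), (110, true), (85, false), (20, false), (70, true), (105, true), (65, false), (5, true), (35, false), (50, false), (100, true), (90, true), (75, true), (55, false), (95, true), (80, false), (45, true), (25, true)]),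
    none,
    some (681674634758743498925333276215773940, 11038490, [(90, false), (45, true), (10, false), (40, true), (105, true), (70, false), (55, false), (65, false), (35, true), (20, true), (25, true), (30, true), (60, false), (110, true), (50, true), (95, false), (115, false), (15, false), (100, false), (75, true), (0, false), (80, true), (85, false), (5, true)])],
   [19, 47, 41, 49, 58, 29, 39, 25, 15, 34, 37, 0, 13, 40, 31, 1, 43, 21, 45, 57, 10, 27, 38, 12, 17, 54, 56, 2, 51, 22, 23, 50, 53, 9, 55, 3, 30, 46, 32, 8, 36, 24, 14, 20, 7, 42, 16, 6, 28, 48, 18, 35, 59, 5, 26, 52, 44, 4, 11, 33],
   ([2, 1, 0, 4, 3], [2, 1, 0, 4, 3], [0, 1, 3, 4, 2], [0, 1, 4, 2, 3], false)),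
   ([some (188452274868421494761278041585039757, 15048437, [(25, true), (20, false), (80, true), (55, false), (115, true), (105, true), (15, true), (90, true), (35, false), (50, true), (85, true), (60, true), (5, true), (0, false), (10, false), (30, true), (70, true), (110, false), (65, true), (40, false), (95, false), (75, true), (100, true), (45, true)]),
    none,
    some (338094597766541383408962466926083296, 6714673, [(0, true), (80, false), (45, false), (85, false), (110, true), (20, true), (30, false), (5, false), (115, true), (15, false), (25, true), (40, false), (75, true), (35, true), (105, true), (10, false), (55, false), (90, true), (60, true), (95, false), (50, false), (100, true), (70, true), (65, false)]),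
    none,
    some (595213462162605248575372138077980235, 1862238, [(35, false), (10, true), (60, true), (70, true), (100, true), (90, false), (55, true), (80, false), (50, false), (30, true), (110, false), (0, true), (20, false), (25, true), (115, true), (75, false), (65, false), (105, false), (5, true), (45, true), (95, true), (40, false), (85, false), (15, false)]),
    none,
    some (338094597766541383408962466926083296, 6714673, [(0, true), (80, false), (45, false), (85, false), (110, true), (20, true), (30, false), (5, false), (115, true), (15, false), (25, true), (40, false), (75, true), (35, true), (105, true), (10, false), (55, false), (90, true), (60, true), (95, false), (50, false), (100, true), (70, true), (65, false)]),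
    none,
    some (691427880024997469084000763666013362, 5524213, [(100, true), (15, false), (40, true), (30, false), (45, true), (5, true), (70, true), (10, true), (20, false), (60, true), (75, false), (35, true), (65, false), (95, false), (55, true), (85, false), (115, false), (90, false), (0, true), (25, false), (110, true), (105, false), (50, true), (80, false)]),
    none,
    some (258784077795162200192732444115373472, 14101751, [(0, true), (15, true), (40, true), (10, false), (60, true), (30, true), (115, true), (110, true), (85, false), (20, false), (70, true), (105, true), (65, false), (5, true), (35, false), (50, false), (100, true), (90, true), (75, true), (55, false), (95, true), (80, false), (45, true), (25, true)]),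
    none,
    some (715777984645649763547742138814451718, 1127686, [(5, false), (65, true), (50, true), (20, false), (70, false), (75, false), (0, false), (110, false), (95, true), (100, false), (40, true), (85, false), (35, true), (105, true), (55, false), (80, false), (15, true), (115, false), (30, false), (90, false), (10, true), (45, false), (25, false), (60, false)]),
    none,
    some (258784077795162200192732444115373472, 14101751, [(0, true), (15, true), (40, true), (10, false), (60, true), (30, true), (115, true), (110, true), (85, false), (20, false), (70, true), (105, true), (65, false), (5, true), (35, false), (50, false), (100, true), (90, true), (75, true), (55, false), (95, true), (80, false), (45, true), (25, true)]),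
    none,
    some (681674634758743498925333276215773940, 9804902, [(90, false), (45, true), (10, true), (40, false), (105, false), (70, true), (55, true), (65, false), (35, false), (20, false), (25, true), (30, true), (60, true), (110, false), (50, false), (95, true), (115, true), (15, false), (100, true), (75, false), (0, true), (80, false), (85, false), (5, true)])],
   [16, 48, 38, 46, 55, 22, 40, 26, 20, 37, 34, 1, 10, 39, 32, 0, 43, 14, 42, 57, 13, 24, 41, 11, 18, 54, 56, 5, 52, 29, 28, 53, 50, 6, 58, 4, 33, 49, 31, 8, 36, 27, 21, 15, 7, 45, 19, 9, 23, 47, 17, 35, 59, 2, 25, 51, 44, 3, 12, 30],
   ([0, 2, 4, 3, 1], [0, 4, 1, 3, 2], [1, 2, 0, 3, 4], [2, 0, 1, 3, 4], true)),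
   ([some (188452274868421494761278041585039757, 15048437, [(25, true), (20, false), (80, true), (55, false), (115, true), (105, true), (15, true), (90, true), (35, false), (50, true), (85, true), (60, true), (5, true), (0, false), (10, false), (30, true), (70, true), (110, false), (65, true), (40, false), (95, false), (75, true), (100, true), (45, true)]),
    none,
    some (338094597766541383408962466926083296, 6714673, [(0, true), (80, false), (45, false), (85, false), (110, true), (20, true), (30, false), (5, false), (115, true), (15, false), (25, true), (40, false), (75, true), (35, true), (105, true), (10, false), (55, false), (90, true), (60, true), (95, false), (50, false), (100, true), (70, true), (65, false)]),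
    none,
    some (595213462162605248575372138077980235, 1862238, [(35, false), (10, true), (60, true), (70, true), (100, true), (90, false), (55, true), (80, false), (50, false), (30, true), (110, false), (0, true), (20, false), (25, true), (115, true), (75, false), (65, false), (105, false), (5, true), (45, true), (95, true), (40, false), (85, false), (15, false)]),
    none,
    some (338094597766541383408962466926083296, 6714673, [(0, true), (80, false), (45, false), (85, false), (110, true), (20, true), (30, false), (5, false), (115, true), (15, false), (25, true), (40, false), (75, true), (35, true), (105, true), (10, false), (55, false), (90, true), (60, true), (95, false), (50, false), (100, true), (70, true), (65, false)]),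
    none,
    some (691427880024997469084000763666013362, 5524213, [(100, true), (15, false), (40, true), (30, false), (45, true), (5, true), (70, true), (10, true), (20, false), (60, true), (75, false), (35, true), (65, false), (95, false), (55, true), (85, false), (115, false), (90, false), (0, true), (25, false), (110, true), (105, false), (50, true), (80, false)]),
    none,
    some (258784077795162200192732444115373472, 14101751, [(0, true), (15, true), (40, true), (10, false), (60, true), (30, true), (115, true), (110, true), (85, false), (20, false), (70, true), (105, true), (65, false), (5, true), (35, false), (50, false), (100, true), (90, true), (75, true), (55, false), (95, true), (80, false), (45, true), (25, true)]),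
    none,
    some (715777984645649763547742138814451718, 1127686, [(5, false), (65, true), (50, true), (20, false), (70, false), (75, false), (0, false), (110, false), (95, true), (100, false), (40, true), (85, false), (35, true), (105, true), (55, false), (80, false), (15, true), (115, false), (30, false), (90, false), (10, true), (45, false), (25, false), (60, false)]),
    none,
    some (258784077795162200192732444115373472, 14101751, [(0, true), (15, true), (40, true), (10, false), (60, true), (30, true), (115, true), (110, true), (85, false), (20, false), (70, true), (105, true), (65, false), (5, true), (35, false), (50, false), (100, true), (90, true), (75, true), (55, false), (95, true), (80, false), (45, true), (25, true)]),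
    none,
    some (681674634758743498925333276215773940, 7295174, [(90, false), (45, true), (10, true), (40, false), (105, false), (70, false), (55, true), (65, true), (35, false), (20, false), (25, false), (30, false), (60, true), (110, false), (50, true), (95, false), (115, true), (15, true), (100, true), (75, true), (0, false), (80, true), (85, true), (5, false)])],
   [15, 49, 39, 47, 58, 25, 41, 29, 19, 34, 37, 1, 11, 38, 33, 0, 44, 17, 45, 56, 12, 23, 40, 10, 21, 54, 57, 4, 53, 26, 27, 52, 51, 9, 55, 5, 32, 48, 30, 7, 35, 28, 18, 16, 8, 42, 20, 6, 24, 46, 14, 36, 59, 3, 22, 50, 43, 2, 13, 31],
   ([0, 1, 3, 4, 2], [0, 1, 4, 2, 3], [2, 1, 0, 4, 3], [2, 1, 0, 4, 3], true)),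
   ([some (961406072249396583030532977619118085, 8663097, [(5, true), (25, false), (20, false), (35, true), (110, true), (0, true), (65, false), (30, false), (90, false), (60, false), (10, false), (80, false), (85, true), (50, true), (75, false), (100, false), (15, false), (40, false), (55, true), (70, false), (105, false), (95, false), (45, false), (115, true)])],
   [8, 7, 44, 36, 43, 35, 59, 56, 57, 54, 46, 50, 48, 52, 12, 19, 27, 32, 10, 15, 23, 30, 33, 28, 20, 13, 31, 24, 16, 11, 51, 47, 53, 49, 34, 40, 38, 42, 5, 2, 3, 4, 45, 39, 41, 37, 14, 22, 18, 26, 25, 17, 29, 21, 55, 9, 0, 1, 6, 58],
   ([0, 3, 2, 4, 1], [0, 4, 2, 1, 3], [0, 3, 2, 4, 1], [0, 4, 2, 1, 3], true)),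
   ([some (961406072249396583030532977619118085, 4060028, [(5, false), (25, false), (20, true), (35, true), (110, true), (0, true), (65, true), (30, false), (90, true), (60, true), (10, false), (80, false), (85, true), (50, true), (75, true), (100, true), (15, true), (40, false), (55, true), (70, true), (105, true), (95, true), (45, false), (115, false)])],
   [7, 8, 35, 43, 36, 44, 54, 56, 57, 59, 51, 47, 53, 49, 33, 28, 20, 13, 31, 24, 16, 11, 12, 19, 27, 32, 10, 15, 23, 30, 46, 50, 48, 52, 45, 39, 41, 37, 3, 4, 5, 2, 34, 40, 38, 42, 25, 17, 29, 21, 14, 22, 18, 26, 58, 9, 1, 0, 6, 55],
   ([0, 1, 4, 2, 3], [0, 1, 3, 4, 2], [0, 1, 4, 2, 3], [0, 1, 3, 4, 2], true))]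

/-- orbit words, part 12 -/
def orbW12 : List Ent :=
  [([some (961406072249396583030532977619118085, 12717187, [(5, true), (25, true), (20, false), (35, false), (110, false), (0, false), (65, false), (30, true), (90, false), (60, false), (10, true), (80, true), (85, false), (50, false), (75, false), (100, false), (15, false), (40, true), (55, false), (70, false), (105, false), (95, false), (45, true), (115, true)])],
   [7, 8, 35, 43, 36, 44, 54, 56, 57, 59, 51, 47, 53, 49, 33, 28, 20, 13, 31, 24, 16, 11, 12, 19, 27, 32, 10, 15, 23, 30, 46, 50, 48, 52, 45, 39, 41, 37, 3, 4, 5, 2, 34, 40, 38, 42, 25, 17, 29, 21, 14, 22, 18, 26, 58, 9, 1, 0, 6, 55],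
   ([0, 1, 4, 2, 3], [0, 1, 3, 4, 2], [0, 1, 4, 2, 3], [0, 1, 3, 4, 2], true)),
   ([some (961406072249396583030532977619118085, 0, [(5, false), (25, false), (20, false), (35, false), (110, false), (0, false), (65, false), (30, false), (90, false), (60, false), (10, false), (80, false), (85, false), (50, false), (75, false), (100, false), (15, false), (40, false), (55, false), (70, false), (105, false), (95, false), (45, false), (115, false)])],
   [7, 8, 35, 43, 36, 44, 54, 56, 57, 59, 52, 48, 50, 46, 30, 23, 15, 10, 32, 27, 19, 12, 11, 16, 24, 31, 13, 20, 28, 33, 49, 53, 47, 51, 42, 40, 38, 34, 4, 3, 2, 5, 37, 39, 41, 45, 26, 18, 22, 14, 21, 29, 17, 25, 55, 6, 0, 1, 9, 58],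
   ([0, 2, 3, 1, 4], [0, 3, 1, 2, 4], [0, 2, 3, 1, 4], [0, 3, 1, 2, 4], false)),
   ([some (188452274868421494761278041585039757, 15048437, [(25, true), (20, false), (80, true), (55, false), (115, true), (105, true), (15, true), (90, true), (35, false), (50, true), (85, true), (60, true), (5, true), (0, false), (10, false), (30, true), (70, true), (110, false), (65, true), (40, false), (95, false), (75, true), (100, true), (45, true)]),
    none,
    some (338094597766541383408962466926083296, 6714673, [(0, true), (80, false), (45, false), (85, false), (110, true), (20, true), (30, false), (5, false), (115, true), (15, false), (25, true), (40, false), (75, true), (35, true), (105, true), (10, false), (55, false), (90, true), (60, true), (95, false), (50, false), (100, true), (70, true), (65, false)]),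
    none,
    some (595213462162605248575372138077980235, 1862238, [(35, false), (10, true), (60, true), (70, true), (100, true), (90, false), (55, true), (80, false), (50, false), (30, true), (110, false), (0, true), (20, false), (25, true), (115, true), (75, false), (65, false), (105, false), (5, true), (45, true), (95, true), (40, false), (85, false), (15, false)]),
    none,
    some (338094597766541383408962466926083296, 6714673, [(0, true), (80, false), (45, false), (85, false), (110, true), (20, true), (30, false), (5, false), (115, true), (15, false), (25, true), (40, false), (75, true), (35, true), (105, true), (10, false), (55, false), (90, true), (60, true), (95, false), (50, false), (100, true), (70, true), (65, false)]),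
    none,
    some (691427880024997469084000763666013362, 5524213, [(100, true), (15, false), (40, true), (30, false), (45, true), (5, true), (70, true), (10, true), (20, false), (60, true), (75, false), (35, true), (65, false), (95, false), (55, true), (85, false), (115, false), (90, false), (0, true), (25, false), (110, true), (105, false), (50, true), (80, false)]),
    none,
    some (258784077795162200192732444115373472, 14101751, [(0, true), (15, true), (40, true), (10, false), (60, true), (30, true), (115, true), (110, true), (85, false), (20, false), (70, true), (105, true), (65, false), (5, true), (35, false), (50, false), (100, true), (90, true), (75, true), (55, false), (95, true), (80, false), (45, true), (25, true)]),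
    none,
    some (715777984645649763547742138814451718, 1127686, [(5, false), (65, true), (50, true), (20, false), (70, false), (75, false), (0, false), (110, false), (95, true), (100, false), (40, true), (85, false), (35, true), (105, true), (55, false), (80, false), (15, true), (115, false), (30, false), (90, false), (10, true), (45, false), (25, false), (60, false)]),
    none,
    some (258784077795162200192732444115373472, 14101751, [(0, true), (15, true), (40, true), (10, false), (60, true), (30, true), (115, true), (110, true), (85, false), (20, false), (70, true), (105, true), (65, false), (5, true), (35, false), (50, false), (100, true), (90, true), (75, true), (55, false), (95, true), (80, false), (45, true), (25, true)]),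
    none,
    some (681674634758743498925333276215773940, 9482041, [(90, true), (45, false), (10, false), (40, true), (105, true), (70, true), (55, false), (65, false), (35, true), (20, true), (25, true), (30, true), (60, false), (110, true), (50, false), (95, true), (115, false), (15, false), (100, false), (75, false), (0, true), (80, false), (85, false), (5, true)])],
   [15, 49, 39, 47, 58, 25, 41, 29, 19, 34, 37, 1, 11, 38, 33, 0, 44, 17, 45, 56, 12, 23, 40, 10, 21, 54, 57, 4, 53, 26, 27, 52, 51, 9, 55, 5, 32, 48, 30, 7, 35, 28, 18, 16, 8, 42, 20, 6, 24, 46, 14, 36, 59, 3, 22, 50, 43, 2, 13, 31],
   ([0, 1, 3, 4, 2], [0, 1, 4, 2, 3], [2, 1, 0, 4, 3], [2, 1, 0, 4, 3], true)),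
   ([some (188452274868421494761278041585039757, 15048437, [(25, true), (20, false), (80, true), (55, false), (115, true), (105, true), (15, true), (90, true), (35, false), (50, true), (85, true), (60, true), (5, true), (0, false), (10, false), (30, true), (70, true), (110, false), (65, true), (40, false), (95, false), (75, true), (100, true), (45, true)]),
    none,
    some (338094597766541383408962466926083296, 6714673, [(0, true), (80, false), (45, false), (85, false), (110, true), (20, true), (30, false), (5, false), (115, true), (15, false), (25, true), (40, false), (75, true), (35, true), (105, true), (10, false), (55, false), (90, true), (60, true), (95, false), (50, false), (100, true), (70, true), (65, false)]),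
    none,
    some (595213462162605248575372138077980235, 1862238, [(35, false), (10, true), (60, true), (70, true), (100, true), (90, false), (55, true), (80, false), (50, false), (30, true), (110, false), (0, true), (20, false), (25, true), (115, true), (75, false), (65, false), (105, false), (5, true), (45, true), (95, true), (40, false), (85, false), (15, false)]),
    none,
    some (338094597766541383408962466926083296, 6714673, [(0, true), (80, false), (45, false), (85, false), (110, true), (20, true), (30, false), (5, false), (115, true), (15, false), (25, true), (40, false), (75, true), (35, true), (105, true), (10, false), (55, false), (90, true), (60, true), (95, false), (50, false), (100, true), (70, true), (65, false)]),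
    none,
    some (691427880024997469084000763666013362, 5524213, [(100, true), (15, false), (40, true), (30, false), (45, true), (5, true), (70, true), (10, true), (20, false), (60, true), (75, false), (35, true), (65, false), (95, false), (55, true), (85, false), (115, false), (90, false), (0, true), (25, false), (110, true), (105, false), (50, true), (80, false)]),
    none,
    some (258784077795162200192732444115373472, 14101751, [(0, true), (15, true), (40, true), (10, false), (60, true), (30, true), (115, true), (110, true), (85, false), (20, false), (70, true), (105, true), (65, false), (5, true), (35, false), (50, false), (100, true), (90, true), (75, true), (55, false), (95, true), (80, false), (45, true), (25, true)]),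
    none,
    some (715777984645649763547742138814451718, 1127686, [(5, false), (65, true), (50, true), (20, false), (70, false), (75, false), (0, false), (110, false), (95, true), (100, false), (40, true), (85, false), (35, true), (105, true), (55, false), (80, false), (15, true), (115, false), (30, false), (90, false), (10, true), (45, false), (25, false), (60, false)]),
    none,
    some (258784077795162200192732444115373472, 14101751, [(0, true), (15, true), (40, true), (10, false), (60, true), (30, true), (115, true), (110, true), (85, false), (20, false), (70, true), (105, true), (65, false), (5, true), (35, false), (50, false), (100, true), (90, true), (75, true), (55, false), (95, true), (80, false), (45, true), (25, true)]),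
    none,
    some (681674634758743498925333276215773940, 1351424, [(90, false), (45, false), (10, false), (40, false), (105, false), (70, false), (55, false), (65, false), (35, true), (20, true), (25, true), (30, true), (60, true), (110, false), (50, false), (95, true), (115, false), (15, false), (100, true), (75, false), (0, true), (80, false), (85, false), (5, false)])],
   [27, 51, 39, 53, 58, 21, 41, 17, 23, 42, 45, 1, 33, 38, 11, 0, 35, 29, 37, 56, 30, 19, 40, 32, 25, 59, 57, 5, 47, 14, 15, 46, 49, 6, 55, 4, 10, 50, 12, 8, 44, 16, 22, 28, 7, 34, 24, 9, 20, 52, 26, 43, 54, 2, 18, 48, 36, 3, 31, 13],
   ([3, 4, 0, 1, 2], [2, 3, 4, 0, 1], [0, 4, 2, 1, 3], [0, 3, 2, 4, 1], false)),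
   ([some (188452274868421494761278041585039757, 15048437, [(25, true), (20, false), (80, true), (55, false), (115, true), (105, true), (15, true), (90, true), (35, false), (50, true), (85, true), (60, true), (5, true), (0, false), (10, false), (30, true), (70, true), (110, false), (65, true), (40, false), (95, false), (75, true), (100, true), (45, true)]),
    none,
    some (338094597766541383408962466926083296, 6714673, [(0, true), (80, false), (45, false), (85, false), (110, true), (20, true), (30, false), (5, false), (115, true), (15, false), (25, true), (40, false), (75, true), (35, true), (105, true), (10, false), (55, false), (90, true), (60, true), (95, false), (50, false), (100, true), (70, true), (65, false)]),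
    none,
    some (595213462162605248575372138077980235, 1862238, [(35, false), (10, true), (60, true), (70, true), (100, true), (90, false), (55, true), (80, false), (50, false), (30, true), (110, false), (0, true), (20, false), (25, true), (115, true), (75, false), (65, false), (105, false), (5, true), (45, true), (95, true), (40, false), (85, false), (15, false)]),
    none,
    some (338094597766541383408962466926083296, 6714673, [(0, true), (80, false), (45, false), (85, false), (110, true), (20, true), (30, false), (5, false), (115, true), (15, false), (25, true), (40, false), (75, true), (35, true), (105, true), (10, false), (55, false), (90, true), (60, true), (95, false), (50, false), (100, true), (70, true), (65, false)]),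
    none,
    some (691427880024997469084000763666013362, 5524213, [(100, true), (15, false), (40, true), (30, false), (45, true), (5, true), (70, true), (10, true), (20, false), (60, true), (75, false), (35, true), (65, false), (95, false), (55, true), (85, false), (115, false), (90, false), (0, true), (25, false), (110, true), (105, false), (50, true), (80, false)]),
    none,
    some (258784077795162200192732444115373472, 14101751, [(0, true), (15, true), (40, true), (10, false), (60, true), (30, true), (115, true), (110, true), (85, false), (20, false), (70, true), (105, true), (65, false), (5, true), (35, false), (50, false), (100, true), (90, true), (75, true), (55, false), (95, true), (80, false), (45, true), (25, true)]),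
    none,
    some (715777984645649763547742138814451718, 1127686, [(5, false), (65, true), (50, true), (20, false), (70, false), (75, false), (0, false), (110, false), (95, true), (100, false), (40, true), (85, false), (35, true), (105, true), (55, false), (80, false), (15, true), (115, false), (30, false), (90, false), (10, true), (45, false), (25, false), (60, false)]),
    none,
    some (258784077795162200192732444115373472, 14101751, [(0, true), (15, true), (40, true), (10, false), (60, true), (30, true), (115, true), (110, true), (85, false), (20, false), (70, true), (105, true), (65, false), (5, true), (35, false), (50, false), (100, true), (90, true), (75, true), (55, false), (95, true), (80, false), (45, true), (25, true)]),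
    none,
    some (681674634758743498925333276215773940, 2714748, [(90, false), (45, false), (10, true), (40, true), (105, true), (70, true), (55, true), (65, false), (35, false), (20, false), (25, true), (30, true), (60, false), (110, true), (50, true), (95, false), (115, true), (15, false), (100, false), (75, true), (0, false), (80, true), (85, false), (5, false)])],
   [24, 52, 40, 50, 55, 14, 38, 18, 28, 45, 42, 0, 30, 41, 12, 1, 35, 22, 34, 56, 33, 16, 39, 31, 26, 59, 57, 2, 48, 21, 20, 49, 46, 9, 58, 3, 13, 53, 11, 8, 44, 19, 29, 23, 7, 37, 27, 6, 15, 51, 25, 43, 54, 5, 17, 47, 36, 4, 32, 10],
   ([0, 3, 1, 2, 4], [0, 2, 3, 1, 4], [4, 3, 0, 2, 1], [2, 4, 3, 1, 0], true))]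

/-- orbit words, part 13 -/
def orbW13 : List Ent :=
  [([some (188452274868421494761278041585039757, 15048437, [(25, true), (20, false), (80, true), (55, false), (115, true), (105, true), (15, true), (90, true), (35, false), (50, true), (85, true), (60, true), (5, true), (0, false), (10, false), (30, true), (70, true), (110, false), (65, true), (40, false), (95, false), (75, true), (100, true), (45, true)]),
    none,
    some (338094597766541383408962466926083296, 6714673, [(0, true), (80, false), (45, false), (85, false), (110, true), (20, true), (30, false), (5, false), (115, true), (15, false), (25, true), (40, false), (75, true), (35, true), (105, true), (10, false), (55, false), (90, true), (60, true), (95, false), (50, false), (100, true), (70, true), (65, false)]),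
    none,
    some (595213462162605248575372138077980235, 1862238, [(35, false), (10, true), (60, true), (70, true), (100, true), (90, false), (55, true), (80, false), (50, false), (30, true), (110, false), (0, true), (20, false), (25, true), (115, true), (75, false), (65, false), (105, false), (5, true), (45, true), (95, true), (40, false), (85, false), (15, false)]),
    none,
    some (338094597766541383408962466926083296, 6714673, [(0, true), (80, false), (45, false), (85, false), (110, true), (20, true), (30, false), (5, false), (115, true), (15, false), (25, true), (40, false), (75, true), (35, true), (105, true), (10, false), (55, false), (90, true), (60, true), (95, false), (50, false), (100, true), (70, true), (65, false)]),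
    none,
    some (691427880024997469084000763666013362, 5524213, [(100, true), (15, false), (40, true), (30, false), (45, true), (5, true), (70, true), (10, true), (20, false), (60, true), (75, false), (35, true), (65, false), (95, false), (55, true), (85, false), (115, false), (90, false), (0, true), (25, false), (110, true), (105, false), (50, true), (80, false)]),
    none,
    some (258784077795162200192732444115373472, 14101751, [(0, true), (15, true), (40, true), (10, false), (60, true), (30, true), (115, true), (110, true), (85, false), (20, false), (70, true), (105, true), (65, false), (5, true), (35, false), (50, false), (100, true), (90, true), (75, true), (55, false), (95, true), (80, false), (45, true), (25, true)]),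
    none,
    some (715777984645649763547742138814451718, 1127686, [(5, false), (65, true), (50, true), (20, false), (70, false), (75, false), (0, false), (110, false), (95, true), (100, false), (40, true), (85, false), (35, true), (105, true), (55, false), (80, false), (15, true), (115, false), (30, false), (90, false), (10, true), (45, false), (25, false), (60, false)]),
    none,
    some (258784077795162200192732444115373472, 14101751, [(0, true), (15, true), (40, true), (10, false), (60, true), (30, true), (115, true), (110, true), (85, false), (20, false), (70, true), (105, true), (65, false), (5, true), (35, false), (50, false), (100, true), (90, true), (75, true), (55, false), (95, true), (80, false), (45, true), (25, true)]),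
    none,
    some (681674634758743498925333276215773940, 11361349, [(90, true), (45, false), (10, true), (40, false), (105, false), (70, false), (55, true), (65, false), (35, false), (20, false), (25, true), (30, true), (60, true), (110, false), (50, true), (95, false), (115, true), (15, false), (100, true), (75, true), (0, false), (80, true), (85, false), (5, true)])],
   [20, 46, 40, 48, 55, 26, 38, 22, 16, 37, 34, 0, 12, 41, 30, 1, 44, 18, 42, 56, 11, 28, 39, 13, 14, 54, 57, 3, 50, 25, 24, 51, 52, 6, 58, 2, 31, 47, 33, 7, 35, 23, 17, 19, 8, 45, 15, 9, 27, 49, 21, 36, 59, 4, 29, 53, 43, 5, 10, 32],
   ([1, 2, 0, 3, 4], [2, 0, 1, 3, 4], [0, 2, 4, 3, 1], [0, 4, 1, 3, 2], false)),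
   ([some (226171291961137634594401717152166913, 4060028, [(5, false), (0, false), (90, true), (30, true), (45, true), (115, true), (60, true), (105, false), (65, true), (15, true), (75, false), (70, false), (40, true), (10, true), (110, true), (55, true), (20, true), (100, false), (80, true), (35, true), (50, true), (85, true), (95, false), (25, false)])],
   [1, 0, 40, 41, 39, 38, 56, 58, 55, 57, 47, 46, 48, 49, 20, 21, 18, 19, 15, 14, 17, 16, 28, 29, 26, 27, 23, 22, 25, 24, 51, 50, 52, 53, 35, 37, 34, 36, 4, 5, 3, 2, 43, 45, 42, 44, 10, 11, 13, 12, 30, 31, 33, 32, 54, 7, 9, 6, 8, 59],
   ([0, 3, 4, 1, 2], [0, 3, 4, 1, 2], [0, 4, 3, 2, 1], [0, 4, 3, 2, 1], true)),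
   ([some (54656202412536120667236423848644631, 8663097, [(5, true), (115, false), (65, false), (105, true), (95, true), (25, true), (15, false), (50, false), (60, false), (20, false), (110, false), (35, false), (100, true), (75, true), (45, false), (80, false), (90, false), (55, false), (70, true), (30, false), (10, false), (40, false), (85, false), (0, true)])],
   [9, 6, 34, 45, 42, 37, 55, 59, 54, 58, 51, 46, 49, 52, 29, 33, 12, 18, 17, 11, 30, 22, 26, 32, 13, 21, 14, 10, 31, 25, 50, 47, 48, 53, 39, 43, 36, 40, 3, 5, 2, 4, 38, 44, 35, 41, 16, 23, 28, 19, 15, 24, 27, 20, 56, 0, 8, 7, 1, 57],
   ([0, 4, 2, 1, 3], [0, 3, 2, 4, 1], [0, 1, 3, 4, 2], [0, 1, 4, 2, 3], true)),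
   ([some (54656202412536120667236423848644631, 0, [(5, false), (115, false), (65, false), (105, false), (95, false), (25, false), (15, false), (50, false), (60, false), (20, false), (110, false), (35, false), (100, false), (75, false), (45, false), (80, false), (90, false), (55, false), (70, false), (30, false), (10, false), (40, false), (85, false), (0, false)])],
   [6, 9, 42, 37, 34, 45, 55, 54, 59, 58, 49, 52, 51, 46, 17, 11, 30, 22, 29, 33, 12, 18, 14, 10, 31, 25, 26, 32, 13, 21, 48, 53, 50, 47, 39, 36, 43, 40, 2, 4, 3, 5, 38, 35, 44, 41, 28, 19, 16, 23, 27, 20, 15, 24, 56, 0, 7, 8, 1, 57],
   ([0, 4, 2, 1, 3], [0, 3, 2, 4, 1], [0, 1, 3, 4, 2], [0, 1, 4, 2, 3], false)),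
   ([some (226171291961137634594401717152166913, 0, [(5, false), (0, false), (90, false), (30, false), (45, false), (115, false), (60, false), (105, false), (65, false), (15, false), (75, false), (70, false), (40, false), (10, false), (110, false), (55, false), (20, false), (100, false), (80, false), (35, false), (50, false), (85, false), (95, false), (25, false)])],
   [0, 1, 39, 38, 40, 41, 56, 55, 58, 57, 48, 49, 47, 46, 15, 14, 17, 16, 20, 21, 18, 19, 23, 22, 25, 24, 28, 29, 26, 27, 52, 53, 51, 50, 35, 34, 37, 36, 3, 2, 4, 5, 43, 42, 45, 44, 13, 12, 10, 11, 33, 32, 30, 31, 54, 7, 6, 9, 8, 59],
   ([0, 3, 4, 1, 2], [0, 3, 4, 1, 2], [0, 4, 3, 2, 1], [0, 4, 3, 2, 1], false))]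

/-- orbit words, part 14 -/
def orbW14 : List Ent :=
  [([some (188452274868421494761278041585039757, 15048437, [(25, true), (20, false), (80, true), (55, false), (115, true), (105, true), (15, true), (90, true), (35, false), (50, true), (85, true), (60, true), (5, true), (0, false), (10, false), (30, true), (70, true), (110, false), (65, true), (40, false), (95, false), (75, true), (100, true), (45, true)]),
    none,
    some (338094597766541383408962466926083296, 6714673, [(0, true), (80, false), (45, false), (85, false), (110, true), (20, true), (30, false), (5, false), (115, true), (15, false), (25, true), (40, false), (75, true), (35, true), (105, true), (10, false), (55, false), (90, true), (60, true), (95, false), (50, false), (100, true), (70, true), (65, false)]),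
    none,
    some (595213462162605248575372138077980235, 1862238, [(35, false), (10, true), (60, true), (70, true), (100, true), (90, false), (55, true), (80, false), (50, false), (30, true), (110, false), (0, true), (20, false), (25, true), (115, true), (75, false), (65, false), (105, false), (5, true), (45, true), (95, true), (40, false), (85, false), (15, false)]),
    none,
    some (338094597766541383408962466926083296, 6714673, [(0, true), (80, false), (45, false), (85, false), (110, true), (20, true), (30, false), (5, false), (115, true), (15, false), (25, true), (40, false), (75, true), (35, true), (105, true), (10, false), (55, false), (90, true), (60, true), (95, false), (50, false), (100, true), (70, true), (65, false)]),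
    none,
    some (185167394989396175333065006757006439, 1182989, [(25, true), (60, false), (50, true), (5, true), (115, false), (75, false), (90, false), (0, false), (55, true), (40, false), (95, true), (20, true), (80, false), (65, false), (110, false), (85, false), (45, false), (35, true), (15, false), (10, false), (105, true), (70, false), (30, false), (100, false)])],
   [7, 49, 30, 15, 50, 2, 35, 43, 28, 13, 31, 24, 17, 44, 6, 20, 0, 33, 34, 40, 29, 21, 12, 19, 45, 41, 57, 4, 59, 3, 53, 26, 14, 22, 48, 32, 52, 27, 9, 1, 58, 25, 11, 16, 38, 42, 8, 18, 47, 51, 37, 39, 55, 5, 36, 54, 56, 10, 23, 46],
   ([2, 4, 0, 3, 1], [2, 4, 0, 3, 1], [1, 4, 3, 0, 2], [3, 0, 4, 2, 1], true)),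
   ([some (188452274868421494761278041585039757, 15048437, [(25, true), (20, false), (80, true), (55, false), (115, true), (105, true), (15, true), (90, true), (35, false), (50, true), (85, true), (60, true), (5, true), (0, false), (10, false), (30, true), (70, true), (110, false), (65, true), (40, false), (95, false), (75, true), (100, true), (45, true)]),
    none,
    some (338094597766541383408962466926083296, 6714673, [(0, true), (80, false), (45, false), (85, false), (110, true), (20, true), (30, false), (5, false), (115, true), (15, false), (25, true), (40, false), (75, true), (35, true), (105, true), (10, false), (55, false), (90, true), (60, true), (95, false), (50, false), (100, true), (70, true), (65, false)]),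
    none,
    some (595213462162605248575372138077980235, 1862238, [(35, false), (10, true), (60, true), (70, true), (100, true), (90, false), (55, true), (80, false), (50, false), (30, true), (110, false), (0, true), (20, false), (25, true), (115, true), (75, false), (65, false), (105, false), (5, true), (45, true), (95, true), (40, false), (85, false), (15, false)]),
    none,
    some (338094597766541383408962466926083296, 6714673, [(0, true), (80, false), (45, false), (85, false), (110, true), (20, true), (30, false), (5, false), (115, true), (15, false), (25, true), (40, false), (75, true), (35, true), (105, true), (10, false), (55, false), (90, true), (60, true), (95, false), (50, false), (100, true), (70, true), (65, false)]),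
    none,
    some (185167394989396175333065006757006439, 15253933, [(25, true), (60, false), (50, true), (5, true), (115, false), (75, true), (90, false), (0, true), (55, true), (40, false), (95, false), (20, false), (80, false), (65, false), (110, true), (85, true), (45, false), (35, false), (15, false), (10, true), (105, false), (70, true), (30, true), (100, true)])],
   [8, 48, 31, 16, 51, 3, 36, 44, 27, 12, 30, 23, 14, 43, 9, 19, 0, 32, 37, 41, 26, 18, 13, 20, 42, 40, 56, 5, 59, 2, 52, 29, 17, 25, 49, 33, 53, 28, 6, 1, 55, 22, 10, 15, 39, 45, 7, 21, 46, 50, 34, 38, 58, 4, 35, 54, 57, 11, 24, 47],
   ([1, 3, 0, 4, 2], [2, 0, 4, 1, 3], [2, 3, 4, 0, 1], [3, 4, 0, 1, 2], true)),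
   ([some (188452274868421494761278041585039757, 15048437, [(25, true), (20, false), (80, true), (55, false), (115, true), (105, true), (15, true), (90, true), (35, false), (50, true), (85, true), (60, true), (5, true), (0, false), (10, false), (30, true), (70, true), (110, false), (65, true), (40, false), (95, false), (75, true), (100, true), (45, true)]),
    none,
    some (338094597766541383408962466926083296, 6714673, [(0, true), (80, false), (45, false), (85, false), (110, true), (20, true), (30, false), (5, false), (115, true), (15, false), (25, true), (40, false), (75, true), (35, true), (105, true), (10, false), (55, false), (90, true), (60, true), (95, false), (50, false), (100, true), (70, true), (65, false)]),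
    none,
    some (595213462162605248575372138077980235, 1862238, [(35, false), (10, true), (60, true), (70, true), (100, true), (90, false), (55, true), (80, false), (50, false), (30, true), (110, false), (0, true), (20, false), (25, true), (115, true), (75, false), (65, false), (105, false), (5, true), (45, true), (95, true), (40, false), (85, false), (15, false)]),
    none,
    some (338094597766541383408962466926083296, 6714673, [(0, true), (80, false), (45, false), (85, false), (110, true), (20, true), (30, false), (5, false), (115, true), (15, false), (25, true), (40, false), (75, true), (35, true), (105, true), (10, false), (55, false), (90, true), (60, true), (95, false), (50, false), (100, true), (70, true), (65, false)]),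
    none,
    some (185167394989396175333065006757006439, 13972177, [(25, true), (60, false), (50, false), (5, false), (115, true), (75, false), (90, true), (0, true), (55, false), (40, true), (95, false), (20, false), (80, true), (65, true), (110, false), (85, false), (45, true), (35, false), (15, true), (10, false), (105, true), (70, false), (30, true), (100, true)])],
   [8, 47, 32, 19, 52, 4, 36, 44, 24, 11, 33, 28, 21, 43, 6, 16, 1, 31, 34, 38, 25, 17, 10, 15, 45, 39, 56, 2, 59, 5, 51, 22, 18, 26, 46, 30, 50, 23, 9, 0, 58, 29, 13, 20, 40, 42, 7, 14, 49, 53, 37, 41, 55, 3, 35, 54, 57, 12, 27, 48],
   ([1, 4, 3, 0, 2], [3, 0, 4, 2, 1], [2, 4, 0, 3, 1], [2, 4, 0, 3, 1], false)),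
   ([some (188452274868421494761278041585039757, 15048437, [(25, true), (20, false), (80, true), (55, false), (115, true), (105, true), (15, true), (90, true), (35, false), (50, true), (85, true), (60, true), (5, true), (0, false), (10, false), (30, true), (70, true), (110, false), (65, true), (40, false), (95, false), (75, true), (100, true), (45, true)]),
    none,
    some (338094597766541383408962466926083296, 6714673, [(0, true), (80, false), (45, false), (85, false), (110, true), (20, true), (30, false), (5, false), (115, true), (15, false), (25, true), (40, false), (75, true), (35, true), (105, true), (10, false), (55, false), (90, true), (60, true), (95, false), (50, false), (100, true), (70, true), (65, false)]),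
    none,
    some (595213462162605248575372138077980235, 1862238, [(35, false), (10, true), (60, true), (70, true), (100, true), (90, false), (55, true), (80, false), (50, false), (30, true), (110, false), (0, true), (20, false), (25, true), (115, true), (75, false), (65, false), (105, false), (5, true), (45, true), (95, true), (40, false), (85, false), (15, false)]),
    none,
    some (338094597766541383408962466926083296, 6714673, [(0, true), (80, false), (45, false), (85, false), (110, true), (20, true), (30, false), (5, false), (115, true), (15, false), (25, true), (40, false), (75, true), (35, true), (105, true), (10, false), (55, false), (90, true), (60, true), (95, false), (50, false), (100, true), (70, true), (65, false)]),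
    none,
    some (185167394989396175333065006757006439, 3145329, [(25, true), (60, false), (50, false), (5, false), (115, true), (75, true), (90, true), (0, false), (55, false), (40, true), (95, true), (20, true), (80, true), (65, true), (110, true), (85, true), (45, true), (35, true), (15, true), (10, true), (105, false), (70, true), (30, false), (100, false)])],
   [7, 46, 33, 20, 53, 5, 35, 43, 23, 10, 32, 27, 18, 44, 9, 15, 1, 30, 37, 39, 22, 14, 11, 16, 42, 38, 57, 3, 59, 4, 50, 25, 21, 29, 47, 31, 51, 24, 6, 0, 55, 26, 12, 19, 41, 45, 8, 17, 48, 52, 34, 40, 58, 2, 36, 54, 56, 13, 28, 49],
   ([2, 3, 4, 0, 1], [3, 4, 0, 1, 2], [1, 3, 0, 4, 2], [2, 0, 4, 1, 3], false)),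
   ([some (851835855358908965219336740583988549, 13624252, [(95, false), (85, false), (20, true), (30, true), (90, true), (0, true), (45, false), (105, true), (70, true), (50, true), (5, false), (25, false), (100, false), (75, true), (15, true), (40, true), (110, true), (65, true), (55, true), (60, true), (115, false), (35, false), (80, true), (10, true)]),
    none,
    some (558996653415206758357550315011089920, 16044209, [(0, true), (35, false), (75, false), (45, false), (25, true), (50, true), (30, false), (65, true), (55, false), (10, false), (100, false), (80, false), (90, true), (115, false), (110, true), (60, true), (5, false), (15, false), (85, true), (95, false), (105, true), (70, true), (20, true), (40, true)]),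
    none,
    some (736387674286017519017462394396511432, 1332261, [(35, true), (70, false), (85, true), (10, false), (80, false), (65, true), (5, false), (45, false), (0, false), (105, false), (90, true), (100, false), (25, true), (75, false), (95, true), (55, false), (30, false), (115, false), (40, true), (60, false), (20, true), (15, false), (50, false), (110, false)]),
    none,
    some (558996653415206758357550315011089920, 16044209, [(0, true), (35, false), (75, false), (45, false), (25, true), (50, true), (30, false), (65, true), (55, false), (10, false), (100, false), (80, false), (90, true), (115, false), (110, true), (60, true), (5, false), (15, false), (85, true), (95, false), (105, true), (70, true), (20, true), (40, true)]),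
    none,
    some (646780892717315303492377228131075693, 11282452, [(65, false), (10, false), (40, true), (70, false), (90, true), (95, false), (25, false), (55, false), (105, false), (30, false), (35, false), (85, true), (100, false), (0, true), (45, false), (115, false), (75, false), (80, false), (110, true), (5, true), (60, false), (15, true), (50, false), (20, true)])],
   [39, 28, 47, 15, 17, 4, 38, 0, 52, 26, 6, 18, 34, 57, 25, 27, 19, 53, 30, 36, 2, 10, 24, 7, 45, 13, 41, 33, 58, 11, 29, 44, 32, 3, 48, 9, 59, 22, 21, 23, 49, 35, 20, 8, 31, 37, 1, 42, 50, 54, 12, 43, 51, 5, 55, 40, 56, 14, 46, 16],
   ([3, 0, 1, 4, 2], [1, 2, 4, 0, 3], [2, 1, 0, 4, 3], [2, 1, 0, 4, 3], true))]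

/-- orbit words, part 15 -/
def orbW15 : List Ent :=
  [([some (175372055592406048016863494116147597, 15048437, [(10, true), (45, false), (90, true), (105, false), (115, true), (95, true), (25, true), (110, true), (100, false), (40, true), (85, true), (60, true), (5, true), (0, false), (15, false), (20, true), (70, true), (80, false), (35, true), (75, false), (55, false), (50, true), (65, true), (30, true)]),
    none,
    some (338094597766541383408962466926083296, 6714673, [(0, true), (80, false), (45, false), (85, false), (110, true), (20, true), (30, false), (5, false), (115, true), (15, false), (25, true), (40, false), (75, true), (35, true), (105, true), (10, false), (55, false), (90, true), (60, true), (95, false), (50, false), (100, true), (70, true), (65, false)]),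
    none,
    some (44256506880040984597049963126673554, 11811045, [(100, true), (115, false), (110, true), (105, false), (5, false), (30, true), (15, true), (95, true), (40, false), (90, false), (65, false), (20, true), (50, true), (55, true), (35, false), (75, false), (45, false), (85, false), (0, true), (25, false), (10, true), (70, true), (80, false), (60, true)]),
    none,
    some (258784077795162200192732444115373472, 14101751, [(0, true), (15, true), (40, true), (10, false), (60, true), (30, true), (115, true), (110, true), (85, false), (20, false), (70, true), (105, true), (65, false), (5, true), (35, false), (50, false), (100, true), (90, true), (75, true), (55, false), (95, true), (80, false), (45, true), (25, true)]),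
    none,
    some (310753476269186866884764762881369106, 11006430, [(5, false), (85, true), (50, true), (25, true), (30, true), (80, false), (60, true), (115, true), (95, true), (10, false), (75, false), (45, false), (105, true), (20, true), (35, true), (110, true), (70, true), (40, true), (0, true), (90, false), (65, false), (100, true), (55, false), (15, true)]),
    none,
    some (258784077795162200192732444115373472, 14101751, [(0, true), (15, true), (40, true), (10, false), (60, true), (30, true), (115, true), (110, true), (85, false), (20, false), (70, true), (105, true), (65, false), (5, true), (35, false), (50, false), (100, true), (90, true), (75, true), (55, false), (95, true), (80, false), (45, true), (25, true)]),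
    none,
    some (551167350658764319848948886024162019, 8578263, [(90, true), (30, true), (10, true), (0, false), (75, true), (85, false), (25, true), (55, true), (110, false), (35, false), (100, true), (40, false), (95, false), (115, true), (50, true), (60, true), (20, false), (80, true), (65, false), (105, false), (45, false), (70, false), (15, false), (5, true)])],
   [19, 13, 51, 56, 36, 23, 31, 43, 41, 49, 10, 27, 58, 16, 21, 44, 1, 52, 28, 48, 7, 42, 3, 46, 17, 54, 8, 39, 32, 25, 59, 40, 18, 35, 12, 53, 38, 9, 4, 11, 6, 26, 14, 20, 57, 45, 5, 47, 0, 37, 30, 55, 24, 33, 29, 2, 22, 15, 34, 50],
   ([0, 4, 1, 3, 2], [0, 2, 4, 3, 1], [2, 0, 1, 3, 4], [1, 2, 0, 3, 4], false)),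
   ([some (188452274868421494761278041585039757, 15048437, [(25, true), (20, false), (80, true), (55, false), (115, true), (105, true), (15, true), (90, true), (35, false), (50, true), (85, true), (60, true), (5, true), (0, false), (10, false), (30, true), (70, true), (110, false), (65, true), (40, false), (95, false), (75, true), (100, true), (45, true)]),
    none,
    some (338094597766541383408962466926083296, 6714673, [(0, true), (80, false), (45, false), (85, false), (110, true), (20, true), (30, false), (5, false), (115, true), (15, false), (25, true), (40, false), (75, true), (35, true), (105, true), (10, false), (55, false), (90, true), (60, true), (95, false), (50, false), (100, true), (70, true), (65, false)]),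
    none,
    some (595213462162605248575372138077980235, 1862238, [(35, false), (10, true), (60, true), (70, true), (100, true), (90, false), (55, true), (80, false), (50, false), (30, true), (110, false), (0, true), (20, false), (25, true), (115, true), (75, false), (65, false), (105, false), (5, true), (45, true), (95, true), (40, false), (85, false), (15, false)]),
    none,
    some (338094597766541383408962466926083296, 6714673, [(0, true), (80, false), (45, false), (85, false), (110, true), (20, true), (30, false), (5, false), (115, true), (15, false), (25, true), (40, false), (75, true), (35, true), (105, true), (10, false), (55, false), (90, true), (60, true), (95, false), (50, false), (100, true), (70, true), (65, false)]),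
    none,
    some (736293392858204641236609788084426132, 5468947, [(20, true), (100, true), (95, false), (30, false), (85, true), (10, false), (75, false), (105, false), (40, true), (70, true), (90, false), (80, false), (5, true), (35, true), (45, true), (65, false), (50, true), (115, true), (25, false), (55, false), (0, true), (60, false), (15, true), (110, false)]),
    none,
    some (220048119786717969456457942323765344, 16569195, [(0, true), (65, true), (15, false), (5, true), (45, false), (115, true), (25, true), (70, false), (10, true), (110, true), (75, false), (95, false), (20, true), (60, false), (50, true), (90, true), (105, false), (40, false), (85, true), (100, true), (80, true), (55, true), (35, true), (30, true)]),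
    none,
    some (675058179405286524919430908197619831, 427666, [(95, false), (105, true), (65, false), (5, false), (15, true), (40, false), (90, false), (30, true), (110, false), (35, true), (55, true), (45, false), (75, false), (80, false), (60, false), (100, true), (115, false), (20, true), (10, true), (50, false), (85, false), (25, false), (70, false), (0, false)])],
   [0, 46, 6, 7, 54, 13, 55, 56, 26, 28, 49, 48, 30, 1, 17, 8, 15, 9, 10, 11, 43, 42, 22, 23, 37, 35, 57, 3, 58, 2, 59, 4, 34, 36, 24, 51, 25, 50, 29, 27, 53, 5, 18, 19, 44, 45, 41, 12, 20, 21, 32, 33, 47, 31, 40, 38, 39, 16, 14, 52],
   ([3, 0, 1, 4, 2], [1, 2, 4, 0, 3], [2, 4, 1, 0, 3], [3, 2, 0, 4, 1], false)),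
   ([some (851835855358908965219336740583988549, 13624252, [(95, false), (85, false), (20, true), (30, true), (90, true), (0, true), (45, false), (105, true), (70, true), (50, true), (5, false), (25, false), (100, false), (75, true), (15, true), (40, true), (110, true), (65, true), (55, true), (60, true), (115, false), (35, false), (80, true), (10, true)]),
    none,
    some (558996653415206758357550315011089920, 16044209, [(0, true), (35, false), (75, false), (45, false), (25, true), (50, true), (30, false), (65, true), (55, false), (10, false), (100, false), (80, false), (90, true), (115, false), (110, true), (60, true), (5, false), (15, false), (85, true), (95, false), (105, true), (70, true), (20, true), (40, true)]),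
    none,
    some (736387674286017519017462394396511432, 1332261, [(35, true), (70, false), (85, true), (10, false), (80, false), (65, true), (5, false), (45, false), (0, false), (105, false), (90, true), (100, false), (25, true), (75, false), (95, true), (55, false), (30, false), (115, false), (40, true), (60, false), (20, true), (15, false), (50, false), (110, false)]),
    none,
    some (558996653415206758357550315011089920, 16044209, [(0, true), (35, false), (75, false), (45, false), (25, true), (50, true), (30, false), (65, true), (55, false), (10, false), (100, false), (80, false), (90, true), (115, false), (110, true), (60, true), (5, false), (15, false), (85, true), (95, false), (105, true), (70, true), (20, true), (40, true)]),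
    none,
    some (646780892717315303492377228131075693, 5694644, [(65, false), (10, false), (40, true), (70, false), (90, true), (95, true), (25, false), (55, true), (105, false), (30, false), (35, true), (85, false), (100, false), (0, true), (45, true), (115, true), (75, false), (80, true), (110, true), (5, false), (60, true), (15, false), (50, true), (20, false)])],
   [38, 27, 46, 16, 14, 5, 39, 0, 53, 29, 9, 21, 37, 56, 22, 28, 20, 52, 31, 35, 3, 11, 23, 8, 42, 12, 40, 32, 55, 10, 26, 43, 33, 2, 49, 6, 59, 25, 18, 24, 48, 36, 19, 7, 30, 34, 1, 45, 51, 54, 13, 44, 50, 4, 58, 41, 57, 17, 47, 15],
   ([4, 0, 2, 3, 1], [1, 4, 2, 3, 0], [1, 2, 0, 3, 4], [2, 0, 1, 3, 4], true)),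
   ([some (851835855358908965219336740583988549, 13624252, [(95, false), (85, false), (20, true), (30, true), (90, true), (0, true), (45, false), (105, true), (70, true), (50, true), (5, false), (25, false), (100, false), (75, true), (15, true), (40, true), (110, true), (65, true), (55, true), (60, true), (115, false), (35, false), (80, true), (10, true)]),
    none,
    some (558996653415206758357550315011089920, 16044209, [(0, true), (35, false), (75, false), (45, false), (25, true), (50, true), (30, false), (65, true), (55, false), (10, false), (100, false), (80, false), (90, true), (115, false), (110, true), (60, true), (5, false), (15, false), (85, true), (95, false), (105, true), (70, true), (20, true), (40, true)]),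
    none,
    some (736387674286017519017462394396511432, 1332261, [(35, true), (70, false), (85, true), (10, false), (80, false), (65, true), (5, false), (45, false), (0, false), (105, false), (90, true), (100, false), (25, true), (75, false), (95, true), (55, false), (30, false), (115, false), (40, true), (60, false), (20, true), (15, false), (50, false), (110, false)]),
    none,
    some (558996653415206758357550315011089920, 16044209, [(0, true), (35, false), (75, false), (45, false), (25, true), (50, true), (30, false), (65, true), (55, false), (10, false), (100, false), (80, false), (90, true), (115, false), (110, true), (60, true), (5, false), (15, false), (85, true), (95, false), (105, true), (70, true), (20, true), (40, true)]),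
    none,
    some (646780892717315303492377228131075693, 7018440, [(65, false), (10, false), (40, false), (70, true), (90, false), (95, false), (25, true), (55, true), (105, true), (30, true), (35, true), (85, false), (100, true), (0, false), (45, false), (115, false), (75, true), (80, true), (110, false), (5, true), (60, false), (15, true), (50, true), (20, false)])],
   [41, 24, 49, 19, 21, 2, 40, 1, 50, 22, 6, 14, 34, 56, 29, 23, 15, 51, 32, 35, 4, 12, 28, 8, 45, 11, 39, 31, 58, 13, 25, 43, 30, 5, 46, 9, 59, 26, 17, 27, 47, 36, 16, 7, 33, 37, 0, 42, 52, 54, 10, 44, 53, 3, 55, 38, 57, 18, 48, 20],
   ([2, 1, 0, 4, 3], [2, 1, 0, 4, 3], [3, 0, 1, 4, 2], [1, 2, 4, 0, 3], false)),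
   ([some (188452274868421494761278041585039757, 15048437, [(25, true), (20, false), (80, true), (55, false), (115, true), (105, true), (15, true), (90, true), (35, false), (50, true), (85, true), (60, true), (5, true), (0, false), (10, false), (30, true), (70, true), (110, false), (65, true), (40, false), (95, false), (75, true), (100, true), (45, true)]),
    none,
    some (338094597766541383408962466926083296, 6714673, [(0, true), (80, false), (45, false), (85, false), (110, true), (20, true), (30, false), (5, false), (115, true), (15, false), (25, true), (40, false), (75, true), (35, true), (105, true), (10, false), (55, false), (90, true), (60, true), (95, false), (50, false), (100, true), (70, true), (65, false)]),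
    none,
    some (595213462162605248575372138077980235, 1862238, [(35, false), (10, true), (60, true), (70, true), (100, true), (90, false), (55, true), (80, false), (50, false), (30, true), (110, false), (0, true), (20, false), (25, true), (115, true), (75, false), (65, false), (105, false), (5, true), (45, true), (95, true), (40, false), (85, false), (15, false)]),
    none,
    some (338094597766541383408962466926083296, 6714673, [(0, true), (80, false), (45, false), (85, false), (110, true), (20, true), (30, false), (5, false), (115, true), (15, false), (25, true), (40, false), (75, true), (35, true), (105, true), (10, false), (55, false), (90, true), (60, true), (95, false), (50, false), (100, true), (70, true), (65, false)]),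
    none,
    some (736293392858204641236609788084426132, 5468947, [(20, true), (100, true), (95, false), (30, false), (85, true), (10, false), (75, false), (105, false), (40, true), (70, true), (90, false), (80, false), (5, true), (35, true), (45, true), (65, false), (50, true), (115, true), (25, false), (55, false), (0, true), (60, false), (15, true), (110, false)]),
    none,
    some (220048119786717969456457942323765344, 16569195, [(0, true), (65, true), (15, false), (5, true), (45, false), (115, true), (25, true), (70, false), (10, true), (110, true), (75, false), (95, false), (20, true), (60, false), (50, true), (90, true), (105, false), (40, false), (85, true), (100, true), (80, true), (55, true), (35, true), (30, true)]),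
    none,
    some (675058179405286524919430908197619831, 3896814, [(95, false), (105, true), (65, true), (5, true), (15, false), (40, true), (90, true), (30, true), (110, true), (35, false), (55, true), (45, false), (75, true), (80, true), (60, true), (100, false), (115, true), (20, true), (10, false), (50, true), (85, true), (25, true), (70, false), (0, false)])],
   [1, 49, 9, 7, 54, 10, 58, 56, 25, 23, 46, 47, 33, 0, 18, 8, 20, 6, 13, 12, 43, 45, 29, 28, 34, 35, 57, 4, 55, 5, 59, 3, 37, 36, 27, 52, 26, 53, 22, 24, 50, 2, 17, 16, 44, 42, 38, 11, 15, 14, 31, 30, 48, 32, 39, 41, 40, 19, 21, 51],
   ([1, 3, 2, 0, 4], [3, 0, 2, 1, 4], [4, 0, 2, 3, 1], [1, 4, 2, 3, 0], true))]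

/-- orbit words, part 16 -/
def orbW16 : List Ent :=
  [([some (188452274868421494761278041585039757, 15048437, [(25, true), (20, false), (80, true), (55, false), (115, true), (105, true), (15, true), (90, true), (35, false), (50, true), (85, true), (60, true), (5, true), (0, false), (10, false), (30, true), (70, true), (110, false), (65, true), (40, false), (95, false), (75, true), (100, true), (45, true)]),
    none,
    some (338094597766541383408962466926083296, 6714673, [(0, true), (80, false), (45, false), (85, false), (110, true), (20, true), (30, false), (5, false), (115, true), (15, false), (25, true), (40, false), (75, true), (35, true), (105, true), (10, false), (55, false), (90, true), (60, true), (95, false), (50, false), (100, true), (70, true), (65, false)]),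
    none,
    some (595213462162605248575372138077980235, 1862238, [(35, false), (10, true), (60, true), (70, true), (100, true), (90, false), (55, true), (80, false), (50, false), (30, true), (110, false), (0, true), (20, false), (25, true), (115, true), (75, false), (65, false), (105, false), (5, true), (45, true), (95, true), (40, false), (85, false), (15, false)]),
    none,
    some (338094597766541383408962466926083296, 6714673, [(0, true), (80, false), (45, false), (85, false), (110, true), (20, true), (30, false), (5, false), (115, true), (15, false), (25, true), (40, false), (75, true), (35, true), (105, true), (10, false), (55, false), (90, true), (60, true), (95, false), (50, false), (100, true), (70, true), (65, false)]),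
    none,
    some (736293392858204641236609788084426132, 5468947, [(20, true), (100, true), (95, false), (30, false), (85, true), (10, false), (75, false), (105, false), (40, true), (70, true), (90, false), (80, false), (5, true), (35, true), (45, true), (65, false), (50, true), (115, true), (25, false), (55, false), (0, true), (60, false), (15, true), (110, false)]),
    none,
    some (220048119786717969456457942323765344, 16569195, [(0, true), (65, true), (15, false), (5, true), (45, false), (115, true), (25, true), (70, false), (10, true), (110, true), (75, false), (95, false), (20, true), (60, false), (50, true), (90, true), (105, false), (40, false), (85, true), (100, true), (80, true), (55, true), (35, true), (30, true)]),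
    none,
    some (675058179405286524919430908197619831, 12695886, [(95, false), (105, true), (65, true), (5, true), (15, false), (40, false), (90, true), (30, false), (110, true), (35, false), (55, false), (45, true), (75, true), (80, true), (60, false), (100, true), (115, true), (20, false), (10, false), (50, false), (85, false), (25, false), (70, true), (0, true)])],
   [1, 48, 6, 8, 54, 11, 55, 57, 22, 24, 47, 46, 32, 0, 21, 7, 19, 9, 12, 13, 44, 42, 26, 27, 37, 36, 56, 5, 58, 4, 59, 2, 34, 35, 28, 53, 29, 52, 25, 23, 51, 3, 14, 15, 43, 45, 39, 10, 16, 17, 30, 31, 49, 33, 38, 40, 41, 20, 18, 50],
   ([2, 4, 1, 0, 3], [3, 2, 0, 4, 1], [3, 0, 1, 4, 2], [1, 2, 4, 0, 3], true)),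
   ([some (851835855358908965219336740583988549, 13624252, [(95, false), (85, false), (20, true), (30, true), (90, true), (0, true), (45, false), (105, true), (70, true), (50, true), (5, false), (25, false), (100, false), (75, true), (15, true), (40, true), (110, true), (65, true), (55, true), (60, true), (115, false), (35, false), (80, true), (10, true)]),
    none,
    some (558996653415206758357550315011089920, 16044209, [(0, true), (35, false), (75, false), (45, false), (25, true), (50, true), (30, false), (65, true), (55, false), (10, false), (100, false), (80, false), (90, true), (115, false), (110, true), (60, true), (5, false), (15, false), (85, true), (95, false), (105, true), (70, true), (20, true), (40, true)]),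
    none,
    some (736387674286017519017462394396511432, 1332261, [(35, true), (70, false), (85, true), (10, false), (80, false), (65, true), (5, false), (45, false), (0, false), (105, false), (90, true), (100, false), (25, true), (75, false), (95, true), (55, false), (30, false), (115, false), (40, true), (60, false), (20, true), (15, false), (50, false), (110, false)]),
    none,
    some (558996653415206758357550315011089920, 16044209, [(0, true), (35, false), (75, false), (45, false), (25, true), (50, true), (30, false), (65, true), (55, false), (10, false), (100, false), (80, false), (90, true), (115, false), (110, true), (60, true), (5, false), (15, false), (85, true), (95, false), (105, true), (70, true), (20, true), (40, true)]),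
    none,
    some (646780892717315303492377228131075693, 9558888, [(65, false), (10, false), (40, false), (70, true), (90, false), (95, true), (25, true), (55, false), (105, true), (30, true), (35, false), (85, true), (100, true), (0, false), (45, true), (115, true), (75, true), (80, false), (110, false), (5, false), (60, true), (15, false), (50, false), (20, true)])],
   [40, 23, 48, 20, 18, 3, 41, 1, 51, 25, 9, 17, 37, 57, 26, 24, 16, 50, 33, 36, 5, 13, 27, 7, 42, 10, 38, 30, 55, 12, 22, 44, 31, 4, 47, 6, 59, 29, 14, 28, 46, 35, 15, 8, 32, 34, 0, 45, 53, 54, 11, 43, 52, 2, 58, 39, 56, 21, 49, 19],
   ([1, 2, 0, 3, 4], [2, 0, 1, 3, 4], [4, 0, 2, 3, 1], [1, 4, 2, 3, 0], false)),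
   ([some (851835855358908965219336740583988549, 13624252, [(95, false), (85, false), (20, true), (30, true), (90, true), (0, true), (45, false), (105, true), (70, true), (50, true), (5, false), (25, false), (100, false), (75, true), (15, true), (40, true), (110, true), (65, true), (55, true), (60, true), (115, false), (35, false), (80, true), (10, true)]),
    none,
    some (558996653415206758357550315011089920, 16044209, [(0, true), (35, false), (75, false), (45, false), (25, true), (50, true), (30, false), (65, true), (55, false), (10, false), (100, false), (80, false), (90, true), (115, false), (110, true), (60, true), (5, false), (15, false), (85, true), (95, false), (105, true), (70, true), (20, true), (40, true)]),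
    none,
    some (736387674286017519017462394396511432, 1332261, [(35, true), (70, false), (85, true), (10, false), (80, false), (65, true), (5, false), (45, false), (0, false), (105, false), (90, true), (100, false), (25, true), (75, false), (95, true), (55, false), (30, false), (115, false), (40, true), (60, false), (20, true), (15, false), (50, false), (110, false)]),
    none,
    some (558996653415206758357550315011089920, 16044209, [(0, true), (35, false), (75, false), (45, false), (25, true), (50, true), (30, false), (65, true), (55, false), (10, false), (100, false), (80, false), (90, true), (115, false), (110, true), (60, true), (5, false), (15, false), (85, true), (95, false), (105, true), (70, true), (20, true), (40, true)]),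
    none,
    some (646780892717315303492377228131075693, 1103886, [(65, false), (10, true), (40, true), (70, true), (90, false), (95, false), (25, false), (55, false), (105, false), (30, false), (35, false), (85, true), (100, true), (0, false), (45, true), (115, true), (75, false), (80, false), (110, false), (5, false), (60, true), (15, false), (50, false), (20, false)])],
   [41, 20, 51, 23, 25, 3, 40, 1, 48, 18, 9, 26, 42, 56, 17, 19, 27, 49, 10, 44, 5, 30, 16, 7, 37, 33, 39, 13, 58, 31, 21, 36, 12, 4, 52, 6, 54, 14, 29, 15, 53, 43, 28, 8, 11, 45, 0, 34, 46, 59, 32, 35, 47, 2, 55, 38, 57, 22, 50, 24],
   ([2, 0, 4, 1, 3], [1, 3, 0, 4, 2], [3, 4, 0, 1, 2], [2, 3, 4, 0, 1], true)),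
   ([some (188452274868421494761278041585039757, 15048437, [(25, true), (20, false), (80, true), (55, false), (115, true), (105, true), (15, true), (90, true), (35, false), (50, true), (85, true), (60, true), (5, true), (0, false), (10, false), (30, true), (70, true), (110, false), (65, true), (40, false), (95, false), (75, true), (100, true), (45, true)]),
    none,
    some (338094597766541383408962466926083296, 6714673, [(0, true), (80, false), (45, false), (85, false), (110, true), (20, true), (30, false), (5, false), (115, true), (15, false), (25, true), (40, false), (75, true), (35, true), (105, true), (10, false), (55, false), (90, true), (60, true), (95, false), (50, false), (100, true), (70, true), (65, false)]),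
    none,
    some (595213462162605248575372138077980235, 1862238, [(35, false), (10, true), (60, true), (70, true), (100, true), (90, false), (55, true), (80, false), (50, false), (30, true), (110, false), (0, true), (20, false), (25, true), (115, true), (75, false), (65, false), (105, false), (5, true), (45, true), (95, true), (40, false), (85, false), (15, false)]),
    none,
    some (338094597766541383408962466926083296, 6714673, [(0, true), (80, false), (45, false), (85, false), (110, true), (20, true), (30, false), (5, false), (115, true), (15, false), (25, true), (40, false), (75, true), (35, true), (105, true), (10, false), (55, false), (90, true), (60, true), (95, false), (50, false), (100, true), (70, true), (65, false)]),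
    none,
    some (736293392858204641236609788084426132, 5468947, [(20, true), (100, true), (95, false), (30, false), (85, true), (10, false), (75, false), (105, false), (40, true), (70, true), (90, false), (80, false), (5, true), (35, true), (45, true), (65, false), (50, true), (115, true), (25, false), (55, false), (0, true), (60, false), (15, true), (110, false)]),
    none,
    some (220048119786717969456457942323765344, 16569195, [(0, true), (65, true), (15, false), (5, true), (45, false), (115, true), (25, true), (70, false), (10, true), (110, true), (75, false), (95, false), (20, true), (60, false), (50, true), (90, true), (105, false), (40, false), (85, true), (100, true), (80, true), (55, true), (35, true), (30, true)]),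
    none,
    some (675058179405286524919430908197619831, 4241960, [(95, false), (105, false), (65, false), (5, true), (15, false), (40, true), (90, false), (30, false), (110, false), (35, true), (55, false), (45, true), (75, true), (80, true), (60, false), (100, true), (115, false), (20, false), (10, false), (50, false), (85, false), (25, false), (70, true), (0, false)])],
   [1, 51, 6, 8, 59, 32, 58, 56, 21, 19, 52, 53, 11, 0, 22, 7, 24, 9, 31, 30, 36, 37, 17, 16, 42, 44, 57, 5, 55, 4, 54, 2, 45, 43, 15, 46, 14, 47, 18, 20, 48, 3, 29, 28, 35, 34, 38, 33, 27, 26, 13, 12, 50, 10, 39, 41, 40, 23, 25, 49],
   ([1, 0, 3, 2, 4], [1, 0, 3, 2, 4], [4, 2, 3, 0, 1], [3, 4, 1, 2, 0], false)),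
   ([some (266496964631141810551457444656536915, 13629219, [(25, true), (95, true), (65, false), (75, false), (50, false), (90, true), (115, false), (40, false), (55, true), (105, true), (5, true), (35, false), (45, true), (110, true), (15, true), (80, true), (20, true), (70, true), (30, true), (0, true), (85, false), (100, false), (60, true), (10, true)]),
    none,
    some (258784077795162200192732444115373472, 14101751, [(0, true), (15, true), (40, true), (10, false), (60, true), (30, true), (115, true), (110, true), (85, false), (20, false), (70, true), (105, true), (65, false), (5, true), (35, false), (50, false), (100, true), (90, true), (75, true), (55, false), (95, true), (80, false), (45, true), (25, true)]),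
    none,
    some (310753476269186866884764762881369106, 11006430, [(5, false), (85, true), (50, true), (25, true), (30, true), (80, false), (60, true), (115, true), (95, true), (10, false), (75, false), (45, false), (105, true), (20, true), (35, true), (110, true), (70, true), (40, true), (0, true), (90, false), (65, false), (100, true), (55, false), (15, true)]),
    none,
    some (258784077795162200192732444115373472, 14101751, [(0, true), (15, true), (40, true), (10, false), (60, true), (30, true), (115, true), (110, true), (85, false), (20, false), (70, true), (105, true), (65, false), (5, true), (35, false), (50, false), (100, true), (90, true), (75, true), (55, false), (95, true), (80, false), (45, true), (25, true)]),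
    none,
    some (551167350658764319848948886024162019, 8578263, [(90, true), (30, true), (10, true), (0, false), (75, true), (85, false), (25, true), (55, true), (110, false), (35, false), (100, true), (40, false), (95, false), (115, true), (50, true), (60, true), (20, false), (80, true), (65, false), (105, false), (45, false), (70, false), (15, false), (5, true)])],
   [48, 1, 3, 51, 25, 23, 20, 40, 18, 41, 39, 10, 17, 16, 13, 12, 42, 44, 19, 9, 21, 7, 5, 56, 4, 58, 37, 36, 26, 27, 30, 31, 33, 49, 29, 28, 52, 53, 11, 54, 6, 8, 43, 14, 45, 15, 46, 47, 32, 0, 2, 59, 34, 35, 38, 22, 55, 24, 57, 50],
   ([2, 0, 3, 4, 1], [1, 4, 0, 2, 3], [3, 2, 4, 1, 0], [4, 3, 1, 0, 2], false))]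

/-- orbit words, part 17 -/
def orbW17 : List Ent :=
  [([some (851835855358908965219336740583988549, 13624252, [(95, false), (85, false), (20, true), (30, true), (90, true), (0, true), (45, false), (105, true), (70, true), (50, true), (5, false), (25, false), (100, false), (75, true), (15, true), (40, true), (110, true), (65, true), (55, true), (60, true), (115, false), (35, false), (80, true), (10, true)]),
    none,
    some (558996653415206758357550315011089920, 16044209, [(0, true), (35, false), (75, false), (45, false), (25, true), (50, true), (30, false), (65, true), (55, false), (10, false), (100, false), (80, false), (90, true), (115, false), (110, true), (60, true), (5, false), (15, false), (85, true), (95, false), (105, true), (70, true), (20, true), (40, true)]),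
    none,
    some (736387674286017519017462394396511432, 1332261, [(35, true), (70, false), (85, true), (10, false), (80, false), (65, true), (5, false), (45, false), (0, false), (105, false), (90, true), (100, false), (25, true), (75, false), (95, true), (55, false), (30, false), (115, false), (40, true), (60, false), (20, true), (15, false), (50, false), (110, false)]),
    none,
    some (558996653415206758357550315011089920, 16044209, [(0, true), (35, false), (75, false), (45, false), (25, true), (50, true), (30, false), (65, true), (55, false), (10, false), (100, false), (80, false), (90, true), (115, false), (110, true), (60, true), (5, false), (15, false), (85, true), (95, false), (105, true), (70, true), (20, true), (40, true)]),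
    none,
    some (646780892717315303492377228131075693, 15340718, [(65, false), (10, true), (40, true), (70, true), (90, false), (95, true), (25, false), (55, true), (105, false), (30, false), (35, true), (85, false), (100, true), (0, false), (45, false), (115, false), (75, false), (80, true), (110, false), (5, true), (60, false), (15, true), (50, true), (20, true)])],
   [40, 19, 50, 24, 22, 2, 41, 1, 49, 21, 6, 29, 45, 57, 14, 20, 28, 48, 11, 43, 4, 31, 15, 8, 34, 32, 38, 12, 55, 30, 18, 35, 13, 5, 53, 9, 54, 17, 26, 16, 52, 44, 27, 7, 10, 42, 0, 37, 47, 59, 33, 36, 46, 3, 58, 39, 56, 25, 51, 23],
   ([1, 0, 3, 2, 4], [1, 0, 3, 2, 4], [4, 3, 0, 2, 1], [2, 4, 3, 1, 0], true)),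
   ([some (851835855358908965219336740583988549, 13624252, [(95, false), (85, false), (20, true), (30, true), (90, true), (0, true), (45, false), (105, true), (70, true), (50, true), (5, false), (25, false), (100, false), (75, true), (15, true), (40, true), (110, true), (65, true), (55, true), (60, true), (115, false), (35, false), (80, true), (10, true)]),
    none,
    some (558996653415206758357550315011089920, 16044209, [(0, true), (35, false), (75, false), (45, false), (25, true), (50, true), (30, false), (65, true), (55, false), (10, false), (100, false), (80, false), (90, true), (115, false), (110, true), (60, true), (5, false), (15, false), (85, true), (95, false), (105, true), (70, true), (20, true), (40, true)]),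
    none,
    some (736387674286017519017462394396511432, 1332261, [(35, true), (70, false), (85, true), (10, false), (80, false), (65, true), (5, false), (45, false), (0, false), (105, false), (90, true), (100, false), (25, true), (75, false), (95, true), (55, false), (30, false), (115, false), (40, true), (60, false), (20, true), (15, false), (50, false), (110, false)]),
    none,
    some (558996653415206758357550315011089920, 16044209, [(0, true), (35, false), (75, false), (45, false), (25, true), (50, true), (30, false), (65, true), (55, false), (10, false), (100, false), (80, false), (90, true), (115, false), (110, true), (60, true), (5, false), (15, false), (85, true), (95, false), (105, true), (70, true), (20, true), (40, true)]),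
    none,
    some (646780892717315303492377228131075693, 14149586, [(65, false), (10, true), (40, false), (70, false), (90, true), (95, false), (25, true), (55, true), (105, true), (30, true), (35, true), (85, false), (100, false), (0, true), (45, true), (115, true), (75, true), (80, true), (110, true), (5, false), (60, true), (15, false), (50, true), (20, true)])],
   [39, 16, 53, 27, 29, 5, 38, 0, 46, 14, 9, 22, 42, 57, 21, 15, 23, 47, 12, 43, 3, 32, 20, 8, 37, 31, 41, 11, 58, 33, 17, 35, 10, 2, 50, 6, 54, 18, 25, 19, 51, 44, 24, 7, 13, 45, 1, 34, 48, 59, 30, 36, 49, 4, 55, 40, 56, 26, 52, 28],
   ([3, 4, 0, 1, 2], [2, 3, 4, 0, 1], [2, 0, 4, 1, 3], [1, 3, 0, 4, 2], false)),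
   ([some (188452274868421494761278041585039757, 15048437, [(25, true), (20, false), (80, true), (55, false), (115, true), (105, true), (15, true), (90, true), (35, false), (50, true), (85, true), (60, true), (5, true), (0, false), (10, false), (30, true), (70, true), (110, false), (65, true), (40, false), (95, false), (75, true), (100, true), (45, true)]),
    none,
    some (338094597766541383408962466926083296, 6714673, [(0, true), (80, false), (45, false), (85, false), (110, true), (20, true), (30, false), (5, false), (115, true), (15, false), (25, true), (40, false), (75, true), (35, true), (105, true), (10, false), (55, false), (90, true), (60, true), (95, false), (50, false), (100, true), (70, true), (65, false)]),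
    none,
    some (595213462162605248575372138077980235, 1862238, [(35, false), (10, true), (60, true), (70, true), (100, true), (90, false), (55, true), (80, false), (50, false), (30, true), (110, false), (0, true), (20, false), (25, true), (115, true), (75, false), (65, false), (105, false), (5, true), (45, true), (95, true), (40, false), (85, false), (15, false)]),
    none,
    some (338094597766541383408962466926083296, 6714673, [(0, true), (80, false), (45, false), (85, false), (110, true), (20, true), (30, false), (5, false), (115, true), (15, false), (25, true), (40, false), (75, true), (35, true), (105, true), (10, false), (55, false), (90, true), (60, true), (95, false), (50, false), (100, true), (70, true), (65, false)]),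
    none,
    some (736293392858204641236609788084426132, 5468947, [(20, true), (100, true), (95, false), (30, false), (85, true), (10, false), (75, false), (105, false), (40, true), (70, true), (90, false), (80, false), (5, true), (35, true), (45, true), (65, false), (50, true), (115, true), (25, false), (55, false), (0, true), (60, false), (15, true), (110, false)]),
    none,
    some (220048119786717969456457942323765344, 16569195, [(0, true), (65, true), (15, false), (5, true), (45, false), (115, true), (25, true), (70, false), (10, true), (110, true), (75, false), (95, false), (20, true), (60, false), (50, true), (90, true), (105, false), (40, false), (85, true), (100, true), (80, true), (55, true), (35, true), (30, true)]),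
    none,
    some (675058179405286524919430908197619831, 8881652, [(95, false), (105, false), (65, true), (5, false), (15, true), (40, true), (90, true), (30, true), (110, true), (35, false), (55, true), (45, false), (75, false), (80, false), (60, false), (100, true), (115, true), (20, true), (10, true), (50, false), (85, false), (25, false), (70, false), (0, true)])],
   [0, 53, 6, 7, 59, 30, 58, 57, 17, 15, 50, 51, 13, 1, 26, 8, 28, 9, 33, 32, 35, 37, 21, 20, 42, 43, 56, 3, 55, 2, 54, 4, 45, 44, 19, 48, 18, 49, 14, 16, 46, 5, 25, 24, 36, 34, 40, 31, 23, 22, 11, 10, 52, 12, 41, 39, 38, 27, 29, 47],
   ([4, 2, 3, 0, 1], [3, 4, 1, 2, 0], [1, 0, 3, 2, 4], [1, 0, 3, 2, 4], true)),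
   ([some (188452274868421494761278041585039757, 15048437, [(25, true), (20, false), (80, true), (55, false), (115, true), (105, true), (15, true), (90, true), (35, false), (50, true), (85, true), (60, true), (5, true), (0, false), (10, false), (30, true), (70, true), (110, false), (65, true), (40, false), (95, false), (75, true), (100, true), (45, true)]),
    none,
    some (338094597766541383408962466926083296, 6714673, [(0, true), (80, false), (45, false), (85, false), (110, true), (20, true), (30, false), (5, false), (115, true), (15, false), (25, true), (40, false), (75, true), (35, true), (105, true), (10, false), (55, false), (90, true), (60, true), (95, false), (50, false), (100, true), (70, true), (65, false)]),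
    none,
    some (595213462162605248575372138077980235, 1862238, [(35, false), (10, true), (60, true), (70, true), (100, true), (90, false), (55, true), (80, false), (50, false), (30, true), (110, false), (0, true), (20, false), (25, true), (115, true), (75, false), (65, false), (105, false), (5, true), (45, true), (95, true), (40, false), (85, false), (15, false)]),
    none,
    some (338094597766541383408962466926083296, 6714673, [(0, true), (80, false), (45, false), (85, false), (110, true), (20, true), (30, false), (5, false), (115, true), (15, false), (25, true), (40, false), (75, true), (35, true), (105, true), (10, false), (55, false), (90, true), (60, true), (95, false), (50, false), (100, true), (70, true), (65, false)]),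
    none,
    some (602631394953307854617013447920428657, 7728758, [(100, false), (25, true), (85, true), (55, false), (90, true), (75, true), (70, true), (30, false), (105, false), (10, true), (35, true), (95, true), (50, false), (45, true), (115, true), (15, true), (110, true), (0, false), (40, true), (5, false), (65, true), (80, true), (20, true), (60, false)])],
   [56, 13, 19, 51, 31, 41, 43, 36, 49, 23, 27, 50, 21, 44, 1, 52, 58, 16, 3, 34, 17, 22, 15, 48, 2, 42, 59, 40, 8, 39, 32, 25, 29, 18, 33, 24, 12, 53, 0, 55, 6, 26, 20, 47, 45, 5, 57, 14, 30, 11, 4, 37, 9, 38, 35, 7, 54, 28, 46, 10],
   ([2, 4, 1, 0, 3], [3, 2, 0, 4, 1], [1, 2, 0, 3, 4], [2, 0, 1, 3, 4], false)),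
   ([some (851835855358908965219336740583988549, 13624252, [(95, false), (85, false), (20, true), (30, true), (90, true), (0, true), (45, false), (105, true), (70, true), (50, true), (5, false), (25, false), (100, false), (75, true), (15, true), (40, true), (110, true), (65, true), (55, true), (60, true), (115, false), (35, false), (80, true), (10, true)]),
    none,
    some (558996653415206758357550315011089920, 16044209, [(0, true), (35, false), (75, false), (45, false), (25, true), (50, true), (30, false), (65, true), (55, false), (10, false), (100, false), (80, false), (90, true), (115, false), (110, true), (60, true), (5, false), (15, false), (85, true), (95, false), (105, true), (70, true), (20, true), (40, true)]),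
    none,
    some (736387674286017519017462394396511432, 1332261, [(35, true), (70, false), (85, true), (10, false), (80, false), (65, true), (5, false), (45, false), (0, false), (105, false), (90, true), (100, false), (25, true), (75, false), (95, true), (55, false), (30, false), (115, false), (40, true), (60, false), (20, true), (15, false), (50, false), (110, false)]),
    none,
    some (558996653415206758357550315011089920, 16044209, [(0, true), (35, false), (75, false), (45, false), (25, true), (50, true), (30, false), (65, true), (55, false), (10, false), (100, false), (80, false), (90, true), (115, false), (110, true), (60, true), (5, false), (15, false), (85, true), (95, false), (105, true), (70, true), (20, true), (40, true)]),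
    none,
    some (646780892717315303492377228131075693, 2960242, [(65, false), (10, true), (40, false), (70, false), (90, true), (95, true), (25, true), (55, false), (105, true), (30, true), (35, false), (85, true), (100, false), (0, true), (45, false), (115, false), (75, true), (80, false), (110, true), (5, true), (60, false), (15, true), (50, false), (20, false)])],
   [38, 15, 52, 28, 26, 4, 39, 0, 47, 17, 6, 25, 45, 56, 18, 16, 24, 46, 13, 44, 2, 33, 19, 7, 34, 30, 40, 10, 55, 32, 14, 36, 11, 3, 51, 9, 54, 21, 22, 20, 50, 43, 23, 8, 12, 42, 1, 37, 49, 59, 31, 35, 48, 5, 58, 41, 57, 29, 53, 27],
   ([4, 3, 0, 2, 1], [2, 4, 3, 1, 0], [1, 0, 3, 2, 4], [1, 0, 3, 2, 4], false))]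

/-- orbit words, part 18 -/
def orbW18 : List Ent :=
  [([some (188452274868421494761278041585039757, 15048437, [(25, true), (20, false), (80, true), (55, false), (115, true), (105, true), (15, true), (90, true), (35, false), (50, true), (85, true), (60, true), (5, true), (0, false), (10, false), (30, true), (70, true), (110, false), (65, true), (40, false), (95, false), (75, true), (100, true), (45, true)]),
    none,
    some (338094597766541383408962466926083296, 6714673, [(0, true), (80, false), (45, false), (85, false), (110, true), (20, true), (30, false), (5, false), (115, true), (15, false), (25, true), (40, false), (75, true), (35, true), (105, true), (10, false), (55, false), (90, true), (60, true), (95, false), (50, false), (100, true), (70, true), (65, false)]),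
    none,
    some (595213462162605248575372138077980235, 1862238, [(35, false), (10, true), (60, true), (70, true), (100, true), (90, false), (55, true), (80, false), (50, false), (30, true), (110, false), (0, true), (20, false), (25, true), (115, true), (75, false), (65, false), (105, false), (5, true), (45, true), (95, true), (40, false), (85, false), (15, false)]),
    none,
    some (338094597766541383408962466926083296, 6714673, [(0, true), (80, false), (45, false), (85, false), (110, true), (20, true), (30, false), (5, false), (115, true), (15, false), (25, true), (40, false), (75, true), (35, true), (105, true), (10, false), (55, false), (90, true), (60, true), (95, false), (50, false), (100, true), (70, true), (65, false)]),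
    none,
    some (185167394989396175333065006757006439, 11468055, [(25, true), (60, true), (50, true), (5, false), (115, true), (75, false), (90, false), (0, false), (55, true), (40, false), (95, true), (20, true), (80, true), (65, true), (110, true), (85, true), (45, false), (35, true), (15, true), (10, true), (105, false), (70, true), (30, false), (100, true)])],
   [7, 53, 10, 23, 46, 5, 43, 35, 20, 33, 11, 16, 25, 36, 9, 28, 1, 13, 42, 38, 21, 29, 32, 27, 37, 39, 56, 3, 54, 4, 49, 18, 22, 14, 52, 12, 48, 19, 6, 0, 58, 17, 31, 24, 40, 34, 8, 26, 51, 47, 45, 41, 55, 2, 44, 59, 57, 30, 15, 50],
   ([3, 1, 0, 2, 4], [2, 1, 3, 0, 4], [4, 1, 2, 0, 3], [3, 1, 2, 4, 0], true)),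
   ([some (188452274868421494761278041585039757, 15048437, [(25, true), (20, false), (80, true), (55, false), (115, true), (105, true), (15, true), (90, true), (35, false), (50, true), (85, true), (60, true), (5, true), (0, false), (10, false), (30, true), (70, true), (110, false), (65, true), (40, false), (95, false), (75, true), (100, true), (45, true)]),
    none,
    some (338094597766541383408962466926083296, 6714673, [(0, true), (80, false), (45, false), (85, false), (110, true), (20, true), (30, false), (5, false), (115, true), (15, false), (25, true), (40, false), (75, true), (35, true), (105, true), (10, false), (55, false), (90, true), (60, true), (95, false), (50, false), (100, true), (70, true), (65, false)]),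
    none,
    some (595213462162605248575372138077980235, 1862238, [(35, false), (10, true), (60, true), (70, true), (100, true), (90, false), (55, true), (80, false), (50, false), (30, true), (110, false), (0, true), (20, false), (25, true), (115, true), (75, false), (65, false), (105, false), (5, true), (45, true), (95, true), (40, false), (85, false), (15, false)]),
    none,
    some (338094597766541383408962466926083296, 6714673, [(0, true), (80, false), (45, false), (85, false), (110, true), (20, true), (30, false), (5, false), (115, true), (15, false), (25, true), (40, false), (75, true), (35, true), (105, true), (10, false), (55, false), (90, true), (60, true), (95, false), (50, false), (100, true), (70, true), (65, false)]),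
    none,
    some (185167394989396175333065006757006439, 5517751, [(25, true), (60, true), (50, true), (5, false), (115, true), (75, true), (90, false), (0, true), (55, true), (40, false), (95, false), (20, false), (80, true), (65, true), (110, false), (85, false), (45, false), (35, false), (15, true), (10, false), (105, true), (70, false), (30, true), (100, false)])],
   [8, 52, 11, 24, 47, 4, 44, 36, 19, 32, 10, 15, 22, 35, 6, 27, 1, 12, 45, 39, 18, 26, 33, 28, 34, 38, 57, 2, 54, 5, 48, 21, 25, 17, 53, 13, 49, 20, 9, 0, 55, 14, 30, 23, 41, 37, 7, 29, 50, 46, 42, 40, 58, 3, 43, 59, 56, 31, 16, 51],
   ([4, 2, 0, 1, 3], [2, 3, 1, 4, 0], [3, 2, 1, 0, 4], [3, 2, 1, 0, 4], true)),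
   ([some (188452274868421494761278041585039757, 15048437, [(25, true), (20, false), (80, true), (55, false), (115, true), (105, true), (15, true), (90, true), (35, false), (50, true), (85, true), (60, true), (5, true), (0, false), (10, false), (30, true), (70, true), (110, false), (65, true), (40, false), (95, false), (75, true), (100, true), (45, true)]),
    none,
    some (338094597766541383408962466926083296, 6714673, [(0, true), (80, false), (45, false), (85, false), (110, true), (20, true), (30, false), (5, false), (115, true), (15, false), (25, true), (40, false), (75, true), (35, true), (105, true), (10, false), (55, false), (90, true), (60, true), (95, false), (50, false), (100, true), (70, true), (65, false)]),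
    none,
    some (595213462162605248575372138077980235, 1862238, [(35, false), (10, true), (60, true), (70, true), (100, true), (90, false), (55, true), (80, false), (50, false), (30, true), (110, false), (0, true), (20, false), (25, true), (115, true), (75, false), (65, false), (105, false), (5, true), (45, true), (95, true), (40, false), (85, false), (15, false)]),
    none,
    some (338094597766541383408962466926083296, 6714673, [(0, true), (80, false), (45, false), (85, false), (110, true), (20, true), (30, false), (5, false), (115, true), (15, false), (25, true), (40, false), (75, true), (35, true), (105, true), (10, false), (55, false), (90, true), (60, true), (95, false), (50, false), (100, true), (70, true), (65, false)]),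
    none,
    some (185167394989396175333065006757006439, 6931147, [(25, true), (60, true), (50, false), (5, true), (115, false), (75, false), (90, true), (0, true), (55, false), (40, true), (95, false), (20, false), (80, false), (65, false), (110, true), (85, true), (45, true), (35, false), (15, false), (10, true), (105, false), (70, true), (30, true), (100, false)])],
   [8, 51, 12, 27, 48, 3, 44, 36, 16, 31, 13, 20, 29, 35, 9, 24, 0, 11, 42, 40, 17, 25, 30, 23, 37, 41, 57, 5, 54, 2, 47, 14, 26, 18, 50, 10, 46, 15, 6, 1, 58, 21, 33, 28, 38, 34, 7, 22, 53, 49, 45, 39, 55, 4, 43, 59, 56, 32, 19, 52],
   ([4, 1, 2, 0, 3], [3, 1, 2, 4, 0], [3, 1, 0, 2, 4], [2, 1, 3, 0, 4], false)),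
   ([some (188452274868421494761278041585039757, 15048437, [(25, true), (20, false), (80, true), (55, false), (115, true), (105, true), (15, true), (90, true), (35, false), (50, true), (85, true), (60, true), (5, true), (0, false), (10, false), (30, true), (70, true), (110, false), (65, true), (40, false), (95, false), (75, true), (100, true), (45, true)]),
    none,
    some (338094597766541383408962466926083296, 6714673, [(0, true), (80, false), (45, false), (85, false), (110, true), (20, true), (30, false), (5, false), (115, true), (15, false), (25, true), (40, false), (75, true), (35, true), (105, true), (10, false), (55, false), (90, true), (60, true), (95, false), (50, false), (100, true), (70, true), (65, false)]),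
    none,
    some (595213462162605248575372138077980235, 1862238, [(35, false), (10, true), (60, true), (70, true), (100, true), (90, false), (55, true), (80, false), (50, false), (30, true), (110, false), (0, true), (20, false), (25, true), (115, true), (75, false), (65, false), (105, false), (5, true), (45, true), (95, true), (40, false), (85, false), (15, false)]),
    none,
    some (338094597766541383408962466926083296, 6714673, [(0, true), (80, false), (45, false), (85, false), (110, true), (20, true), (30, false), (5, false), (115, true), (15, false), (25, true), (40, false), (75, true), (35, true), (105, true), (10, false), (55, false), (90, true), (60, true), (95, false), (50, false), (100, true), (70, true), (65, false)]),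
    none,
    some (185167394989396175333065006757006439, 9637483, [(25, true), (60, true), (50, false), (5, true), (115, false), (75, true), (90, true), (0, false), (55, false), (40, true), (95, true), (20, true), (80, false), (65, false), (110, false), (85, false), (45, true), (35, true), (15, false), (10, false), (105, true), (70, false), (30, false), (100, true)])],
   [7, 50, 13, 28, 49, 2, 43, 35, 15, 30, 12, 19, 26, 36, 6, 23, 0, 10, 45, 41, 14, 22, 31, 24, 34, 40, 56, 4, 54, 3, 46, 17, 29, 21, 51, 11, 47, 16, 9, 1, 55, 18, 32, 27, 39, 37, 8, 25, 52, 48, 42, 38, 58, 5, 44, 59, 57, 33, 20, 53],
   ([3, 2, 1, 0, 4], [3, 2, 1, 0, 4], [4, 2, 0, 1, 3], [2, 3, 1, 4, 0], false)),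
   ([some (188452274868421494761278041585039757, 15048437, [(25, true), (20, false), (80, true), (55, false), (115, true), (105, true), (15, true), (90, true), (35, false), (50, true), (85, true), (60, true), (5, true), (0, false), (10, false), (30, true), (70, true), (110, false), (65, true), (40, false), (95, false), (75, true), (100, true), (45, true)]),
    none,
    some (338094597766541383408962466926083296, 6714673, [(0, true), (80, false), (45, false), (85, false), (110, true), (20, true), (30, false), (5, false), (115, true), (15, false), (25, true), (40, false), (75, true), (35, true), (105, true), (10, false), (55, false), (90, true), (60, true), (95, false), (50, false), (100, true), (70, true), (65, false)]),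
    none,
    some (595213462162605248575372138077980235, 1862238, [(35, false), (10, true), (60, true), (70, true), (100, true), (90, false), (55, true), (80, false), (50, false), (30, true), (110, false), (0, true), (20, false), (25, true), (115, true), (75, false), (65, false), (105, false), (5, true), (45, true), (95, true), (40, false), (85, false), (15, false)]),
    none,
    some (338094597766541383408962466926083296, 6714673, [(0, true), (80, false), (45, false), (85, false), (110, true), (20, true), (30, false), (5, false), (115, true), (15, false), (25, true), (40, false), (75, true), (35, true), (105, true), (10, false), (55, false), (90, true), (60, true), (95, false), (50, false), (100, true), (70, true), (65, false)]),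
    none,
    some (860668939193660735584083326928247185, 1405448, [(35, false), (105, false), (95, false), (60, true), (100, false), (50, false), (20, false), (80, false), (40, false), (45, true), (15, false), (85, false), (5, true), (25, true), (70, true), (55, false), (90, true), (0, false), (75, true), (30, false), (115, true), (65, false), (10, false), (110, false)]),
    none,
    some (338094597766541383408962466926083296, 6714673, [(0, true), (80, false), (45, false), (85, false), (110, true), (20, true), (30, false), (5, false), (115, true), (15, false), (25, true), (40, false), (75, true), (35, true), (105, true), (10, false), (55, false), (90, true), (60, true), (95, false), (50, false), (100, true), (70, true), (65, false)]),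
    none,
    some (712956422623603395316950740173409684, 7302503, [(25, true), (70, true), (15, true), (60, false), (50, false), (110, true), (40, true), (105, false), (20, true), (55, false), (65, true), (90, true), (5, false), (75, true), (95, true), (30, false), (45, true), (115, true), (35, true), (10, true), (0, false), (80, true), (85, true), (100, false)])],
   [19, 33, 21, 1, 23, 5, 39, 25, 11, 4, 3, 46, 6, 40, 32, 49, 8, 41, 18, 35, 9, 53, 14, 20, 42, 7, 56, 22, 51, 2, 58, 24, 27, 10, 28, 37, 48, 0, 31, 43, 59, 50, 38, 12, 54, 17, 16, 13, 55, 30, 45, 57, 36, 29, 26, 52, 44, 34, 15, 47],
   ([2, 0, 4, 1, 3], [1, 3, 0, 4, 2], [0, 4, 1, 3, 2], [0, 2, 4, 3, 1], true))]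

/-- orbit words, part 19 -/
def orbW19 : List Ent :=
  [([some (191386968571169277398009509172352109, 15048437, [(85, true), (100, false), (50, true), (5, false), (115, true), (10, true), (55, true), (60, true), (45, false), (80, true), (90, true), (75, true), (15, true), (0, false), (105, false), (40, true), (30, true), (35, false), (25, true), (110, false), (20, false), (65, true), (95, true), (70, true)]),
    none,
    some (338094597766541383408962466926083296, 6714673, [(0, true), (80, false), (45, false), (85, false), (110, true), (20, true), (30, false), (5, false), (115, true), (15, false), (25, true), (40, false), (75, true), (35, true), (105, true), (10, false), (55, false), (90, true), (60, true), (95, false), (50, false), (100, true), (70, true), (65, false)]),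
    none,
    some (712956422623603395316950740173409684, 2707933, [(25, true), (70, false), (15, true), (60, true), (50, true), (110, false), (40, true), (105, true), (20, true), (55, false), (65, false), (90, false), (5, true), (75, false), (95, true), (30, false), (45, true), (115, false), (35, false), (10, true), (0, false), (80, true), (85, false), (100, false)])],
   [36, 7, 18, 17, 4, 3, 10, 28, 23, 13, 26, 5, 42, 38, 31, 24, 51, 47, 15, 1, 30, 9, 20, 0, 33, 6, 32, 27, 52, 48, 45, 41, 25, 2, 22, 14, 39, 37, 44, 8, 59, 57, 29, 40, 21, 34, 16, 11, 53, 55, 50, 58, 19, 12, 46, 43, 56, 35, 54, 49],
   ([2, 0, 3, 4, 1], [1, 4, 0, 2, 3], [1, 2, 3, 4, 0], [4, 0, 1, 2, 3], false)),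
   ([some (191386968571169277398009509172352109, 15048437, [(85, true), (100, false), (50, true), (5, false), (115, true), (10, true), (55, true), (60, true), (45, false), (80, true), (90, true), (75, true), (15, true), (0, false), (105, false), (40, true), (30, true), (35, false), (25, true), (110, false), (20, false), (65, true), (95, true), (70, true)]),
    none,
    some (338094597766541383408962466926083296, 6714673, [(0, true), (80, false), (45, false), (85, false), (110, true), (20, true), (30, false), (5, false), (115, true), (15, false), (25, true), (40, false), (75, true), (35, true), (105, true), (10, false), (55, false), (90, true), (60, true), (95, false), (50, false), (100, true), (70, true), (65, false)]),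
    none,
    some (712956422623603395316950740173409684, 15625729, [(25, true), (70, false), (15, false), (60, false), (50, false), (110, false), (40, false), (105, false), (20, false), (55, true), (65, true), (90, true), (5, false), (75, true), (95, true), (30, false), (45, false), (115, true), (35, true), (10, true), (0, false), (80, true), (85, true), (100, true)])],
   [35, 8, 14, 21, 2, 5, 12, 24, 27, 11, 22, 3, 42, 40, 33, 28, 53, 49, 19, 0, 32, 9, 16, 1, 31, 6, 30, 23, 50, 46, 45, 39, 29, 4, 26, 18, 41, 37, 43, 7, 59, 56, 25, 38, 17, 34, 20, 13, 51, 55, 52, 58, 15, 10, 48, 44, 57, 36, 54, 47],
   ([1, 2, 3, 4, 0], [4, 0, 1, 2, 3], [2, 0, 3, 4, 1], [1, 4, 0, 2, 3], true)),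
   ([some (188452274868421494761278041585039757, 15048437, [(25, true), (20, false), (80, true), (55, false), (115, true), (105, true), (15, true), (90, true), (35, false), (50, true), (85, true), (60, true), (5, true), (0, false), (10, false), (30, true), (70, true), (110, false), (65, true), (40, false), (95, false), (75, true), (100, true), (45, true)]),
    none,
    some (338094597766541383408962466926083296, 6714673, [(0, true), (80, false), (45, false), (85, false), (110, true), (20, true), (30, false), (5, false), (115, true), (15, false), (25, true), (40, false), (75, true), (35, true), (105, true), (10, false), (55, false), (90, true), (60, true), (95, false), (50, false), (100, true), (70, true), (65, false)]),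
    none,
    some (595213462162605248575372138077980235, 1862238, [(35, false), (10, true), (60, true), (70, true), (100, true), (90, false), (55, true), (80, false), (50, false), (30, true), (110, false), (0, true), (20, false), (25, true), (115, true), (75, false), (65, false), (105, false), (5, true), (45, true), (95, true), (40, false), (85, false), (15, false)]),
    none,
    some (338094597766541383408962466926083296, 6714673, [(0, true), (80, false), (45, false), (85, false), (110, true), (20, true), (30, false), (5, false), (115, true), (15, false), (25, true), (40, false), (75, true), (35, true), (105, true), (10, false), (55, false), (90, true), (60, true), (95, false), (50, false), (100, true), (70, true), (65, false)]),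
    none,
    some (691427880024997469084000763666013362, 10984963, [(100, true), (15, true), (40, false), (30, false), (45, false), (5, false), (70, false), (10, false), (20, false), (60, true), (75, true), (35, true), (65, true), (95, false), (55, false), (85, true), (115, true), (90, true), (0, true), (25, false), (110, false), (105, true), (50, false), (80, true)]),
    none,
    some (258784077795162200192732444115373472, 14101751, [(0, true), (15, true), (40, true), (10, false), (60, true), (30, true), (115, true), (110, true), (85, false), (20, false), (70, true), (105, true), (65, false), (5, true), (35, false), (50, false), (100, true), (90, true), (75, true), (55, false), (95, true), (80, false), (45, true), (25, true)]),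
    none,
    some (715777984645649763547742138814451718, 1127686, [(5, false), (65, true), (50, true), (20, false), (70, false), (75, false), (0, false), (110, false), (95, true), (100, false), (40, true), (85, false), (35, true), (105, true), (55, false), (80, false), (15, true), (115, false), (30, false), (90, false), (10, true), (45, false), (25, false), (60, false)]),
    none,
    some (258784077795162200192732444115373472, 14101751, [(0, true), (15, true), (40, true), (10, false), (60, true), (30, true), (115, true), (110, true), (85, false), (20, false), (70, true), (105, true), (65, false), (5, true), (35, false), (50, false), (100, true), (90, true), (75, true), (55, false), (95, true), (80, false), (45, true), (25, true)]),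
    none,
    some (681674634758743498925333276215773940, 11361349, [(90, true), (45, false), (10, true), (40, false), (105, false), (70, false), (55, true), (65, false), (35, false), (20, false), (25, true), (30, true), (60, true), (110, false), (50, true), (95, false), (115, true), (15, false), (100, true), (75, true), (0, false), (80, true), (85, false), (5, true)])],
   [20, 32, 18, 1, 24, 4, 38, 22, 10, 5, 2, 47, 9, 41, 33, 48, 7, 40, 21, 36, 6, 52, 17, 19, 45, 8, 57, 25, 50, 3, 55, 23, 28, 11, 27, 34, 49, 0, 30, 44, 59, 51, 39, 13, 54, 14, 15, 12, 58, 31, 42, 56, 35, 26, 29, 53, 43, 37, 16, 46],
   ([1, 0, 3, 2, 4], [1, 0, 3, 2, 4], [0, 3, 2, 4, 1], [0, 4, 2, 1, 3], true)),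
   ([some (175372055592406048016863494116147597, 15048437, [(10, true), (45, false), (90, true), (105, false), (115, true), (95, true), (25, true), (110, true), (100, false), (40, true), (85, true), (60, true), (5, true), (0, false), (15, false), (20, true), (70, true), (80, false), (35, true), (75, false), (55, false), (50, true), (65, true), (30, true)]),
    none,
    some (338094597766541383408962466926083296, 6714673, [(0, true), (80, false), (45, false), (85, false), (110, true), (20, true), (30, false), (5, false), (115, true), (15, false), (25, true), (40, false), (75, true), (35, true), (105, true), (10, false), (55, false), (90, true), (60, true), (95, false), (50, false), (100, true), (70, true), (65, false)]),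
    none,
    some (188777620681059469749000511209656816, 4958407, [(25, true), (15, true), (50, true), (90, false), (115, false), (65, false), (60, true), (80, true), (75, false), (95, false), (30, false), (45, true), (70, false), (105, true), (40, false), (5, true), (0, true), (110, true), (85, false), (55, true), (10, false), (20, false), (35, true), (100, false)])],
   [16, 28, 3, 12, 30, 2, 26, 40, 0, 14, 21, 15, 27, 25, 31, 20, 8, 37, 45, 7, 24, 13, 4, 49, 17, 35, 44, 29, 51, 5, 48, 9, 6, 50, 33, 41, 58, 11, 32, 43, 36, 10, 34, 1, 57, 42, 19, 53, 47, 23, 18, 54, 59, 22, 39, 52, 56, 38, 46, 55],
   ([3, 1, 4, 0, 2], [3, 1, 4, 0, 2], [2, 1, 4, 3, 0], [4, 1, 0, 3, 2], true)),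
   ([some (175372055592406048016863494116147597, 15048437, [(10, true), (45, false), (90, true), (105, false), (115, true), (95, true), (25, true), (110, true), (100, false), (40, true), (85, true), (60, true), (5, true), (0, false), (15, false), (20, true), (70, true), (80, false), (35, true), (75, false), (55, false), (50, true), (65, true), (30, true)]),
    none,
    some (338094597766541383408962466926083296, 6714673, [(0, true), (80, false), (45, false), (85, false), (110, true), (20, true), (30, false), (5, false), (115, true), (15, false), (25, true), (40, false), (75, true), (35, true), (105, true), (10, false), (55, false), (90, true), (60, true), (95, false), (50, false), (100, true), (70, true), (65, false)]),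
    none,
    some (188777620681059469749000511209656816, 11625575, [(25, true), (15, true), (50, true), (90, false), (115, false), (65, true), (60, true), (80, false), (75, false), (95, false), (30, true), (45, false), (70, false), (105, true), (40, true), (5, false), (0, true), (110, false), (85, false), (55, false), (10, true), (20, true), (35, false), (100, true)])],
   [15, 27, 2, 13, 31, 3, 29, 41, 0, 17, 18, 16, 28, 22, 30, 19, 7, 34, 42, 8, 23, 12, 5, 48, 14, 36, 43, 26, 50, 4, 49, 6, 9, 51, 32, 40, 55, 10, 33, 44, 35, 11, 37, 1, 56, 45, 20, 52, 46, 24, 21, 54, 59, 25, 38, 53, 57, 39, 47, 58],
   ([4, 2, 3, 0, 1], [3, 4, 1, 2, 0], [1, 2, 3, 4, 0], [4, 0, 1, 2, 3], true))]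

/-- orbit words, part 20 -/
def orbW20 : List Ent :=
  [([some (175372055592406048016863494116147597, 15048437, [(10, true), (45, false), (90, true), (105, false), (115, true), (95, true), (25, true), (110, true), (100, false), (40, true), (85, true), (60, true), (5, true), (0, false), (15, false), (20, true), (70, true), (80, false), (35, true), (75, false), (55, false), (50, true), (65, true), (30, true)]),
    none,
    some (338094597766541383408962466926083296, 6714673, [(0, true), (80, false), (45, false), (85, false), (110, true), (20, true), (30, false), (5, false), (115, true), (15, false), (25, true), (40, false), (75, true), (35, true), (105, true), (10, false), (55, false), (90, true), (60, true), (95, false), (50, false), (100, true), (70, true), (65, false)]),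
    none,
    some (188777620681059469749000511209656816, 16210141, [(25, true), (15, false), (50, true), (90, true), (115, true), (65, false), (60, true), (80, true), (75, false), (95, false), (30, false), (45, true), (70, true), (105, false), (40, true), (5, false), (0, true), (110, true), (85, true), (55, false), (10, true), (20, true), (35, true), (100, true)])],
   [24, 20, 4, 32, 10, 5, 18, 38, 1, 22, 29, 23, 19, 17, 11, 28, 8, 45, 37, 7, 16, 33, 3, 53, 25, 43, 36, 21, 47, 2, 52, 6, 9, 46, 13, 39, 58, 31, 12, 35, 44, 30, 42, 0, 56, 34, 27, 49, 51, 15, 26, 59, 54, 14, 41, 48, 57, 40, 50, 55],
   ([2, 4, 1, 0, 3], [3, 2, 0, 4, 1], [3, 4, 1, 2, 0], [4, 2, 3, 0, 1], true)),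
   ([some (175372055592406048016863494116147597, 15048437, [(10, true), (45, false), (90, true), (105, false), (115, true), (95, true), (25, true), (110, true), (100, false), (40, true), (85, true), (60, true), (5, true), (0, false), (15, false), (20, true), (70, true), (80, false), (35, true), (75, false), (55, false), (50, true), (65, true), (30, true)]),
    none,
    some (338094597766541383408962466926083296, 6714673, [(0, true), (80, false), (45, false), (85, false), (110, true), (20, true), (30, false), (5, false), (115, true), (15, false), (25, true), (40, false), (75, true), (35, true), (105, true), (10, false), (55, false), (90, true), (60, true), (95, false), (50, false), (100, true), (70, true), (65, false)]),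
    none,
    some (188777620681059469749000511209656816, 7756731, [(25, true), (15, true), (50, false), (90, true), (115, true), (65, true), (60, false), (80, true), (75, true), (95, true), (30, false), (45, true), (70, true), (105, false), (40, true), (5, false), (0, false), (110, true), (85, true), (55, false), (10, true), (20, true), (35, true), (100, false)])],
   [19, 23, 4, 11, 33, 5, 25, 39, 1, 21, 14, 20, 24, 26, 32, 15, 8, 34, 42, 7, 27, 10, 3, 46, 18, 35, 44, 22, 52, 2, 47, 6, 9, 53, 30, 38, 55, 12, 31, 43, 36, 13, 37, 0, 57, 45, 16, 50, 48, 28, 17, 54, 59, 29, 40, 51, 56, 41, 49, 58],
   ([1, 2, 3, 4, 0], [4, 0, 1, 2, 3], [4, 2, 3, 0, 1], [3, 4, 1, 2, 0], false)),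
   ([some (188452274868421494761278041585039757, 15048437, [(25, true), (20, false), (80, true), (55, false), (115, true), (105, true), (15, true), (90, true), (35, false), (50, true), (85, true), (60, true), (5, true), (0, false), (10, false), (30, true), (70, true), (110, false), (65, true), (40, false), (95, false), (75, true), (100, true), (45, true)]),
    none,
    some (338094597766541383408962466926083296, 6714673, [(0, true), (80, false), (45, false), (85, false), (110, true), (20, true), (30, false), (5, false), (115, true), (15, false), (25, true), (40, false), (75, true), (35, true), (105, true), (10, false), (55, false), (90, true), (60, true), (95, false), (50, false), (100, true), (70, true), (65, false)]),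
    none,
    some (595213462162605248575372138077980235, 1862238, [(35, false), (10, true), (60, true), (70, true), (100, true), (90, false), (55, true), (80, false), (50, false), (30, true), (110, false), (0, true), (20, false), (25, true), (115, true), (75, false), (65, false), (105, false), (5, true), (45, true), (95, true), (40, false), (85, false), (15, false)]),
    none,
    some (338094597766541383408962466926083296, 6714673, [(0, true), (80, false), (45, false), (85, false), (110, true), (20, true), (30, false), (5, false), (115, true), (15, false), (25, true), (40, false), (75, true), (35, true), (105, true), (10, false), (55, false), (90, true), (60, true), (95, false), (50, false), (100, true), (70, true), (65, false)]),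
    none,
    some (52734491693042373428467693806728502, 14050567, [(100, true), (115, true), (35, true), (65, false), (85, false), (95, false), (60, false), (40, false), (110, true), (5, false), (75, true), (70, false), (50, false), (10, true), (30, true), (55, false), (20, false), (15, true), (45, true), (25, false), (105, true), (80, false), (0, true), (90, true)]),
    none,
    some (258784077795162200192732444115373472, 14101751, [(0, true), (15, true), (40, true), (10, false), (60, true), (30, true), (115, true), (110, true), (85, false), (20, false), (70, true), (105, true), (65, false), (5, true), (35, false), (50, false), (100, true), (90, true), (75, true), (55, false), (95, true), (80, false), (45, true), (25, true)]),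
    none,
    some (310753476269186866884764762881369106, 11006430, [(5, false), (85, true), (50, true), (25, true), (30, true), (80, false), (60, true), (115, true), (95, true), (10, false), (75, false), (45, false), (105, true), (20, true), (35, true), (110, true), (70, true), (40, true), (0, true), (90, false), (65, false), (100, true), (55, false), (15, true)]),
    none,
    some (258784077795162200192732444115373472, 14101751, [(0, true), (15, true), (40, true), (10, false), (60, true), (30, true), (115, true), (110, true), (85, false), (20, false), (70, true), (105, true), (65, false), (5, true), (35, false), (50, false), (100, true), (90, true), (75, true), (55, false), (95, true), (80, false), (45, true), (25, true)]),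
    none,
    some (551167350658764319848948886024162019, 8578263, [(90, true), (30, true), (10, true), (0, false), (75, true), (85, false), (25, true), (55, true), (110, false), (35, false), (100, true), (40, false), (95, false), (115, true), (50, true), (60, true), (20, false), (80, true), (65, false), (105, false), (45, false), (70, false), (15, false), (5, true)])],
   [48, 34, 12, 44, 47, 25, 54, 11, 37, 26, 4, 58, 30, 8, 40, 27, 20, 36, 52, 29, 33, 49, 9, 19, 45, 15, 57, 51, 24, 3, 35, 16, 10, 39, 0, 21, 32, 7, 18, 41, 50, 31, 56, 5, 53, 28, 1, 17, 59, 2, 14, 43, 38, 23, 6, 55, 22, 42, 13, 46],
   ([4, 3, 2, 1, 0], [4, 3, 2, 1, 0], [4, 2, 1, 3, 0], [4, 2, 1, 3, 0], true)),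
   ([some (191386968571169277398009509172352109, 15048437, [(85, true), (100, false), (50, true), (5, false), (115, true), (10, true), (55, true), (60, true), (45, false), (80, true), (90, true), (75, true), (15, true), (0, false), (105, false), (40, true), (30, true), (35, false), (25, true), (110, false), (20, false), (65, true), (95, true), (70, true)]),
    none,
    some (338094597766541383408962466926083296, 6714673, [(0, true), (80, false), (45, false), (85, false), (110, true), (20, true), (30, false), (5, false), (115, true), (15, false), (25, true), (40, false), (75, true), (35, true), (105, true), (10, false), (55, false), (90, true), (60, true), (95, false), (50, false), (100, true), (70, true), (65, false)]),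
    none,
    some (712956422623603395316950740173409684, 9806279, [(25, true), (70, true), (15, true), (60, false), (50, false), (110, false), (40, true), (105, true), (20, true), (55, false), (65, false), (90, false), (5, false), (75, true), (95, false), (30, true), (45, true), (115, false), (35, true), (10, false), (0, true), (80, false), (85, false), (100, true)])],
   [44, 7, 26, 25, 3, 4, 30, 20, 15, 33, 18, 2, 34, 40, 11, 16, 47, 51, 23, 0, 10, 6, 28, 1, 13, 9, 12, 19, 48, 52, 37, 39, 17, 5, 14, 22, 41, 45, 36, 8, 54, 56, 21, 38, 29, 42, 24, 31, 49, 55, 46, 58, 27, 32, 50, 35, 57, 43, 59, 53],
   ([3, 0, 2, 1, 4], [1, 3, 2, 0, 4], [4, 3, 2, 1, 0], [4, 3, 2, 1, 0], false)),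
   ([some (191386968571169277398009509172352109, 15048437, [(85, true), (100, false), (50, true), (5, false), (115, true), (10, true), (55, true), (60, true), (45, false), (80, true), (90, true), (75, true), (15, true), (0, false), (105, false), (40, true), (30, true), (35, false), (25, true), (110, false), (20, false), (65, true), (95, true), (70, true)]),
    none,
    some (338094597766541383408962466926083296, 6714673, [(0, true), (80, false), (45, false), (85, false), (110, true), (20, true), (30, false), (5, false), (115, true), (15, false), (25, true), (40, false), (75, true), (35, true), (105, true), (10, false), (55, false), (90, true), (60, true), (95, false), (50, false), (100, true), (70, true), (65, false)]),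
    none,
    some (712956422623603395316950740173409684, 7302503, [(25, true), (70, true), (15, true), (60, false), (50, false), (110, true), (40, true), (105, false), (20, true), (55, false), (65, true), (90, true), (5, false), (75, true), (95, true), (30, false), (45, true), (115, true), (35, true), (10, true), (0, false), (80, true), (85, true), (100, false)])],
   [43, 8, 29, 22, 2, 5, 31, 19, 16, 32, 21, 3, 37, 41, 10, 15, 46, 50, 24, 0, 11, 9, 27, 1, 12, 6, 13, 20, 49, 53, 34, 38, 14, 4, 17, 25, 40, 42, 35, 7, 54, 57, 18, 39, 26, 45, 23, 30, 48, 58, 47, 55, 28, 33, 51, 36, 56, 44, 59, 52],
   ([4, 0, 1, 2, 3], [1, 2, 3, 4, 0], [3, 4, 1, 2, 0], [4, 2, 3, 0, 1], false))]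

/-- orbit words, part 21 -/
def orbW21 : List Ent :=
  [([some (175372055592406048016863494116147597, 15048437, [(10, true), (45, false), (90, true), (105, false), (115, true), (95, true), (25, true), (110, true), (100, false), (40, true), (85, true), (60, true), (5, true), (0, false), (15, false), (20, true), (70, true), (80, false), (35, true), (75, false), (55, false), (50, true), (65, true), (30, true)]),
    none,
    some (338094597766541383408962466926083296, 6714673, [(0, true), (80, false), (45, false), (85, false), (110, true), (20, true), (30, false), (5, false), (115, true), (15, false), (25, true), (40, false), (75, true), (35, true), (105, true), (10, false), (55, false), (90, true), (60, true), (95, false), (50, false), (100, true), (70, true), (65, false)]),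
    none,
    some (595330023861681656070746549995151437, 15713770, [(100, false), (25, true), (5, false), (75, true), (60, false), (65, true), (20, true), (35, true), (10, true), (55, false), (110, true), (30, false), (50, false), (0, false), (115, true), (85, true), (40, true), (80, true), (95, true), (90, true), (105, false), (70, true), (45, true), (15, true)])],
   [47, 49, 39, 15, 19, 41, 25, 34, 58, 29, 22, 51, 53, 26, 27, 52, 57, 4, 2, 56, 50, 23, 40, 13, 21, 43, 44, 17, 11, 38, 33, 0, 1, 31, 16, 42, 6, 20, 24, 36, 35, 28, 3, 55, 59, 5, 48, 32, 30, 46, 14, 7, 8, 18, 37, 12, 54, 45, 10, 9],
   ([3, 2, 4, 1, 0], [4, 3, 1, 0, 2], [3, 4, 2, 0, 1], [3, 4, 2, 0, 1], false)),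
   ([some (188452274868421494761278041585039757, 15048437, [(25, true), (20, false), (80, true), (55, false), (115, true), (105, true), (15, true), (90, true), (35, false), (50, true), (85, true), (60, true), (5, true), (0, false), (10, false), (30, true), (70, true), (110, false), (65, true), (40, false), (95, false), (75, true), (100, true), (45, true)]),
    none,
    some (338094597766541383408962466926083296, 6714673, [(0, true), (80, false), (45, false), (85, false), (110, true), (20, true), (30, false), (5, false), (115, true), (15, false), (25, true), (40, false), (75, true), (35, true), (105, true), (10, false), (55, false), (90, true), (60, true), (95, false), (50, false), (100, true), (70, true), (65, false)]),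
    none,
    some (595213462162605248575372138077980235, 1862238, [(35, false), (10, true), (60, true), (70, true), (100, true), (90, false), (55, true), (80, false), (50, false), (30, true), (110, false), (0, true), (20, false), (25, true), (115, true), (75, false), (65, false), (105, false), (5, true), (45, true), (95, true), (40, false), (85, false), (15, false)]),
    none,
    some (338094597766541383408962466926083296, 6714673, [(0, true), (80, false), (45, false), (85, false), (110, true), (20, true), (30, false), (5, false), (115, true), (15, false), (25, true), (40, false), (75, true), (35, true), (105, true), (10, false), (55, false), (90, true), (60, true), (95, false), (50, false), (100, true), (70, true), (65, false)]),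
    none,
    some (679589550823386563235388888544532787, 684577, [(60, true), (25, false), (15, false), (90, false), (40, false), (100, true), (80, false), (70, false), (65, false), (5, true), (85, false), (110, false), (55, true), (50, true), (30, true), (20, false), (115, false), (105, true), (45, false), (0, true), (95, false), (35, false), (10, false), (75, false)])],
   [55, 13, 50, 18, 31, 41, 34, 42, 22, 48, 51, 29, 20, 45, 57, 14, 1, 52, 36, 2, 23, 15, 49, 17, 43, 3, 9, 38, 59, 40, 33, 24, 19, 27, 12, 53, 32, 25, 56, 0, 7, 28, 47, 21, 5, 44, 58, 16, 10, 30, 35, 4, 8, 39, 37, 54, 6, 46, 26, 11],
   ([4, 1, 2, 0, 3], [3, 1, 2, 4, 0], [4, 2, 0, 1, 3], [2, 3, 1, 4, 0], false)),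
   ([some (253992418388263698381857268292967891, 13629219, [(25, true), (90, true), (80, false), (110, false), (55, false), (60, true), (115, false), (75, false), (20, true), (45, true), (70, true), (65, false), (100, true), (40, true), (5, true), (35, true), (50, true), (15, true), (30, true), (0, true), (85, false), (105, false), (95, true), (10, true)]),
    none,
    some (258784077795162200192732444115373472, 14101751, [(0, true), (15, true), (40, true), (10, false), (60, true), (30, true), (115, true), (110, true), (85, false), (20, false), (70, true), (105, true), (65, false), (5, true), (35, false), (50, false), (100, true), (90, true), (75, true), (55, false), (95, true), (80, false), (45, true), (25, true)]),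
    none,
    some (141989132273303787815889008212387848, 8632760, [(5, false), (80, false), (15, false), (115, true), (55, true), (40, true), (65, false), (50, true), (0, true), (100, false), (10, false), (25, true), (105, true), (110, true), (60, false), (45, true), (35, true), (70, true), (30, false), (90, false), (85, false), (95, false), (75, false), (20, true)]),
    none,
    some (258784077795162200192732444115373472, 14101751, [(0, true), (15, true), (40, true), (10, false), (60, true), (30, true), (115, true), (110, true), (85, false), (20, false), (70, true), (105, true), (65, false), (5, true), (35, false), (50, false), (100, true), (90, true), (75, true), (55, false), (95, true), (80, false), (45, true), (25, true)]),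
    none,
    some (971620576635340505064640470816363541, 5365074, [(5, false), (45, true), (35, false), (70, false), (60, true), (10, false), (80, true), (15, false), (65, true), (100, false), (85, true), (75, true), (110, true), (50, false), (20, true), (95, true), (105, true), (55, false), (30, false), (90, false), (25, true), (0, false), (40, true), (115, false)]),
    none,
    some (258784077795162200192732444115373472, 14101751, [(0, true), (15, true), (40, true), (10, false), (60, true), (30, true), (115, true), (110, true), (85, false), (20, false), (70, true), (105, true), (65, false), (5, true), (35, false), (50, false), (100, true), (90, true), (75, true), (55, false), (95, true), (80, false), (45, true), (25, true)]),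
    none,
    some (395516178563854897490496848473299683, 8817383, [(90, true), (25, true), (75, true), (0, false), (65, false), (55, true), (10, true), (100, true), (95, false), (115, true), (45, false), (80, true), (35, false), (20, false), (15, false), (60, true), (110, false), (50, true), (30, true), (40, false), (70, false), (85, false), (105, false), (5, true)])],
   [27, 44, 3, 31, 51, 16, 48, 36, 12, 8, 56, 37, 9, 13, 5, 17, 14, 41, 19, 30, 52, 20, 26, 43, 25, 59, 42, 29, 23, 0, 18, 2, 40, 32, 6, 10, 49, 55, 39, 53, 33, 15, 22, 28, 45, 1, 46, 58, 34, 7, 4, 50, 21, 38, 54, 11, 35, 47, 57, 24],
   ([1, 3, 2, 0, 4], [3, 0, 2, 1, 4], [2, 1, 3, 0, 4], [3, 1, 0, 2, 4], false)),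
   ([some (188452274868421494761278041585039757, 15048437, [(25, true), (20, false), (80, true), (55, false), (115, true), (105, true), (15, true), (90, true), (35, false), (50, true), (85, true), (60, true), (5, true), (0, false), (10, false), (30, true), (70, true), (110, false), (65, true), (40, false), (95, false), (75, true), (100, true), (45, true)]),
    none,
    some (338094597766541383408962466926083296, 6714673, [(0, true), (80, false), (45, false), (85, false), (110, true), (20, true), (30, false), (5, false), (115, true), (15, false), (25, true), (40, false), (75, true), (35, true), (105, true), (10, false), (55, false), (90, true), (60, true), (95, false), (50, false), (100, true), (70, true), (65, false)]),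
    none,
    some (595213462162605248575372138077980235, 1862238, [(35, false), (10, true), (60, true), (70, true), (100, true), (90, false), (55, true), (80, false), (50, false), (30, true), (110, false), (0, true), (20, false), (25, true), (115, true), (75, false), (65, false), (105, false), (5, true), (45, true), (95, true), (40, false), (85, false), (15, false)]),
    none,
    some (338094597766541383408962466926083296, 6714673, [(0, true), (80, false), (45, false), (85, false), (110, true), (20, true), (30, false), (5, false), (115, true), (15, false), (25, true), (40, false), (75, true), (35, true), (105, true), (10, false), (55, false), (90, true), (60, true), (95, false), (50, false), (100, true), (70, true), (65, false)]),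
    none,
    some (736293392858204641236609788084426132, 5468947, [(20, true), (100, true), (95, false), (30, false), (85, true), (10, false), (75, false), (105, false), (40, true), (70, true), (90, false), (80, false), (5, true), (35, true), (45, true), (65, false), (50, true), (115, true), (25, false), (55, false), (0, true), (60, false), (15, true), (110, false)]),
    none,
    some (220048119786717969456457942323765344, 16569195, [(0, true), (65, true), (15, false), (5, true), (45, false), (115, true), (25, true), (70, false), (10, true), (110, true), (75, false), (95, false), (20, true), (60, false), (50, true), (90, true), (105, false), (40, false), (85, true), (100, true), (80, true), (55, true), (35, true), (30, true)]),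
    none,
    some (544828666974798651160500628108033632, 7943163, [(0, true), (95, true), (100, false), (110, true), (90, true), (40, true), (25, true), (70, true), (85, true), (50, true), (20, false), (55, false), (65, true), (115, true), (15, false), (10, false), (60, true), (30, false), (35, false), (5, true), (80, true), (75, true), (45, true), (105, false)])],
   [55, 13, 0, 56, 7, 28, 6, 54, 26, 46, 10, 30, 16, 58, 14, 57, 52, 1, 23, 15, 36, 2, 17, 49, 3, 43, 59, 40, 9, 38, 8, 39, 4, 35, 53, 12, 25, 32, 18, 50, 31, 41, 21, 47, 44, 5, 45, 20, 51, 29, 27, 19, 33, 24, 37, 42, 34, 48, 22, 11],
   ([4, 0, 3, 1, 2], [1, 3, 4, 2, 0], [4, 3, 1, 0, 2], [3, 2, 4, 1, 0], false)),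
   ([some (524679367414147563005806580422196237, 15048437, [(5, true), (95, false), (30, true), (20, false), (25, true), (35, true), (105, true), (70, true), (60, false), (90, true), (65, true), (100, true), (115, true), (0, false), (45, false), (10, true), (55, true), (15, false), (75, true), (80, false), (110, false), (50, true), (85, true), (40, true)]),
    none,
    some (338094597766541383408962466926083296, 6714673, [(0, true), (80, false), (45, false), (85, false), (110, true), (20, true), (30, false), (5, false), (115, true), (15, false), (25, true), (40, false), (75, true), (35, true), (105, true), (10, false), (55, false), (90, true), (60, true), (95, false), (50, false), (100, true), (70, true), (65, false)]),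
    none,
    some (595213462162605248575372138077980235, 1862238, [(35, false), (10, true), (60, true), (70, true), (100, true), (90, false), (55, true), (80, false), (50, false), (30, true), (110, false), (0, true), (20, false), (25, true), (115, true), (75, false), (65, false), (105, false), (5, true), (45, true), (95, true), (40, false), (85, false), (15, false)]),
    none,
    some (338094597766541383408962466926083296, 6714673, [(0, true), (80, false), (45, false), (85, false), (110, true), (20, true), (30, false), (5, false), (115, true), (15, false), (25, true), (40, false), (75, true), (35, true), (105, true), (10, false), (55, false), (90, true), (60, true), (95, false), (50, false), (100, true), (70, true), (65, false)]),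
    none,
    some (185167394989396175333065006757006439, 3145329, [(25, true), (60, false), (50, false), (5, false), (115, true), (75, true), (90, true), (0, false), (55, false), (40, true), (95, true), (20, true), (80, true), (65, true), (110, true), (85, true), (45, true), (35, true), (15, true), (10, true), (105, false), (70, true), (30, false), (100, false)])],
   [43, 23, 20, 53, 33, 5, 7, 35, 10, 46, 11, 9, 37, 57, 16, 50, 32, 15, 39, 18, 21, 3, 1, 27, 25, 42, 59, 29, 44, 22, 30, 38, 4, 14, 55, 12, 47, 6, 19, 31, 51, 41, 0, 24, 45, 26, 8, 34, 58, 48, 40, 17, 52, 2, 54, 56, 36, 49, 13, 28],
   ([2, 3, 1, 4, 0], [4, 2, 0, 1, 3], [1, 2, 3, 4, 0], [4, 0, 1, 2, 3], false))]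

/-- orbit words, part 22 -/
def orbW22 : List Ent :=
  [([some (383164524125083995758051749393450323, 13629219, [(25, true), (70, true), (40, false), (15, false), (30, false), (105, true), (35, false), (110, false), (20, true), (115, true), (5, true), (65, false), (75, true), (90, true), (80, true), (50, true), (95, true), (10, true), (60, true), (0, true), (55, false), (85, false), (45, true), (100, true)]),
    none,
    some (258784077795162200192732444115373472, 14101751, [(0, true), (15, true), (40, true), (10, false), (60, true), (30, true), (115, true), (110, true), (85, false), (20, false), (70, true), (105, true), (65, false), (5, true), (35, false), (50, false), (100, true), (90, true), (75, true), (55, false), (95, true), (80, false), (45, true), (25, true)]),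
    none,
    some (715777984645649763547742138814451718, 1127686, [(5, false), (65, true), (50, true), (20, false), (70, false), (75, false), (0, false), (110, false), (95, true), (100, false), (40, true), (85, false), (35, true), (105, true), (55, false), (80, false), (15, true), (115, false), (30, false), (90, false), (10, true), (45, false), (25, false), (60, false)]),
    none,
    some (258784077795162200192732444115373472, 14101751, [(0, true), (15, true), (40, true), (10, false), (60, true), (30, true), (115, true), (110, true), (85, false), (20, false), (70, true), (105, true), (65, false), (5, true), (35, false), (50, false), (100, true), (90, true), (75, true), (55, false), (95, true), (80, false), (45, true), (25, true)]),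
    none,
    some (681674634758743498925333276215773940, 11361349, [(90, true), (45, false), (10, true), (40, false), (105, false), (70, false), (55, true), (65, false), (35, false), (20, false), (25, true), (30, true), (60, true), (110, false), (50, true), (95, false), (115, true), (15, false), (100, true), (75, true), (0, false), (80, true), (85, false), (5, true)])],
   [20, 15, 3, 25, 4, 26, 7, 33, 30, 44, 11, 28, 12, 23, 16, 18, 37, 1, 19, 17, 34, 0, 13, 39, 2, 47, 10, 40, 5, 48, 9, 51, 6, 52, 36, 14, 21, 54, 22, 38, 29, 41, 56, 42, 45, 8, 46, 24, 49, 27, 31, 58, 32, 55, 35, 43, 53, 50, 57, 59],
   ([3, 4, 0, 1, 2], [2, 3, 4, 0, 1], [4, 3, 0, 2, 1], [2, 4, 3, 1, 0], false)),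
   ([some (188452274868421494761278041585039757, 15048437, [(25, true), (20, false), (80, true), (55, false), (115, true), (105, true), (15, true), (90, true), (35, false), (50, true), (85, true), (60, true), (5, true), (0, false), (10, false), (30, true), (70, true), (110, false), (65, true), (40, false), (95, false), (75, true), (100, true), (45, true)]),
    none,
    some (338094597766541383408962466926083296, 6714673, [(0, true), (80, false), (45, false), (85, false), (110, true), (20, true), (30, false), (5, false), (115, true), (15, false), (25, true), (40, false), (75, true), (35, true), (105, true), (10, false), (55, false), (90, true), (60, true), (95, false), (50, false), (100, true), (70, true), (65, false)]),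
    none,
    some (595213462162605248575372138077980235, 1862238, [(35, false), (10, true), (60, true), (70, true), (100, true), (90, false), (55, true), (80, false), (50, false), (30, true), (110, false), (0, true), (20, false), (25, true), (115, true), (75, false), (65, false), (105, false), (5, true), (45, true), (95, true), (40, false), (85, false), (15, false)]),
    none,
    some (338094597766541383408962466926083296, 6714673, [(0, true), (80, false), (45, false), (85, false), (110, true), (20, true), (30, false), (5, false), (115, true), (15, false), (25, true), (40, false), (75, true), (35, true), (105, true), (10, false), (55, false), (90, true), (60, true), (95, false), (50, false), (100, true), (70, true), (65, false)]),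
    none,
    some (679589550823386563235388888544532787, 5000859, [(60, true), (25, true), (15, false), (90, true), (40, true), (100, false), (80, false), (70, true), (65, false), (5, true), (85, true), (110, true), (55, false), (50, false), (30, true), (20, false), (115, false), (105, false), (45, true), (0, true), (95, false), (35, false), (10, true), (75, false)])],
   [58, 32, 47, 29, 10, 38, 45, 37, 17, 53, 46, 18, 27, 34, 57, 25, 0, 49, 43, 4, 16, 24, 52, 22, 36, 5, 9, 41, 54, 39, 12, 15, 28, 20, 33, 48, 13, 14, 56, 1, 8, 19, 50, 26, 3, 35, 55, 23, 31, 11, 44, 2, 7, 40, 42, 59, 6, 51, 21, 30],
   ([2, 3, 4, 0, 1], [3, 4, 0, 1, 2], [2, 4, 0, 3, 1], [2, 4, 0, 3, 1], false)),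
   ([some (153669203526596571399886201145639501, 15048437, [(65, true), (85, false), (90, true), (115, false), (25, true), (45, true), (20, true), (100, true), (40, false), (30, true), (70, true), (50, true), (105, true), (0, false), (35, false), (80, true), (10, true), (60, false), (5, true), (15, false), (95, false), (75, true), (110, true), (55, true)]),
    none,
    some (338094597766541383408962466926083296, 6714673, [(0, true), (80, false), (45, false), (85, false), (110, true), (20, true), (30, false), (5, false), (115, true), (15, false), (25, true), (40, false), (75, true), (35, true), (105, true), (10, false), (55, false), (90, true), (60, true), (95, false), (50, false), (100, true), (70, true), (65, false)]),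
    none,
    some (712956422623603395316950740173409684, 7302503, [(25, true), (70, true), (15, true), (60, false), (50, false), (110, true), (40, true), (105, false), (20, true), (55, false), (65, true), (90, true), (5, false), (75, true), (95, true), (30, false), (45, true), (115, true), (35, true), (10, true), (0, false), (80, true), (85, true), (100, false)])],
   [19, 16, 22, 2, 29, 5, 43, 31, 32, 8, 27, 10, 24, 13, 1, 34, 21, 15, 0, 37, 14, 20, 46, 3, 38, 12, 49, 4, 41, 11, 50, 6, 53, 9, 54, 18, 17, 35, 39, 25, 40, 26, 7, 42, 45, 57, 23, 47, 28, 48, 55, 30, 58, 33, 36, 56, 51, 52, 44, 59],
   ([4, 0, 3, 1, 2], [1, 3, 4, 2, 0], [3, 0, 4, 2, 1], [1, 4, 3, 0, 2], false)),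
   ([some (188452274868421494761278041585039757, 15048437, [(25, true), (20, false), (80, true), (55, false), (115, true), (105, true), (15, true), (90, true), (35, false), (50, true), (85, true), (60, true), (5, true), (0, false), (10, false), (30, true), (70, true), (110, false), (65, true), (40, false), (95, false), (75, true), (100, true), (45, true)]),
    none,
    some (338094597766541383408962466926083296, 6714673, [(0, true), (80, false), (45, false), (85, false), (110, true), (20, true), (30, false), (5, false), (115, true), (15, false), (25, true), (40, false), (75, true), (35, true), (105, true), (10, false), (55, false), (90, true), (60, true), (95, false), (50, false), (100, true), (70, true), (65, false)]),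
    none,
    some (595213462162605248575372138077980235, 1862238, [(35, false), (10, true), (60, true), (70, true), (100, true), (90, false), (55, true), (80, false), (50, false), (30, true), (110, false), (0, true), (20, false), (25, true), (115, true), (75, false), (65, false), (105, false), (5, true), (45, true), (95, true), (40, false), (85, false), (15, false)]),
    none,
    some (338094597766541383408962466926083296, 6714673, [(0, true), (80, false), (45, false), (85, false), (110, true), (20, true), (30, false), (5, false), (115, true), (15, false), (25, true), (40, false), (75, true), (35, true), (105, true), (10, false), (55, false), (90, true), (60, true), (95, false), (50, false), (100, true), (70, true), (65, false)]),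
    none,
    some (679589550823386563235388888544532787, 9138503, [(60, true), (25, true), (15, true), (90, false), (40, false), (100, false), (80, true), (70, false), (65, true), (5, false), (85, false), (110, false), (55, true), (50, true), (30, true), (20, false), (115, true), (105, true), (45, false), (0, true), (95, false), (35, false), (10, false), (75, true)])],
   [58, 30, 49, 25, 12, 40, 45, 37, 21, 51, 48, 14, 23, 34, 56, 29, 1, 47, 44, 2, 20, 28, 50, 26, 35, 3, 9, 39, 54, 41, 10, 19, 24, 16, 31, 46, 11, 18, 57, 0, 7, 15, 52, 22, 5, 36, 55, 27, 33, 13, 43, 4, 8, 38, 42, 59, 6, 53, 17, 32],
   ([2, 4, 0, 3, 1], [2, 4, 0, 3, 1], [2, 3, 4, 0, 1], [3, 4, 0, 1, 2], true)),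
   ([some (66338862830766066076396169046202528, 8455014, [(0, false), (115, true), (45, true), (105, false), (95, false), (5, true), (10, true), (60, false), (80, true), (40, true), (90, false), (20, false), (100, false), (75, false), (55, false), (50, false), (30, true), (65, false), (70, false), (110, false), (85, false), (35, false), (15, false), (25, true)])],
   [7, 8, 3, 4, 2, 5, 0, 6, 9, 1, 21, 29, 25, 17, 20, 13, 33, 28, 24, 31, 11, 16, 27, 32, 12, 19, 15, 10, 30, 23, 26, 18, 14, 22, 41, 37, 45, 39, 35, 43, 44, 36, 38, 42, 34, 40, 53, 49, 47, 51, 48, 52, 50, 46, 58, 57, 59, 54, 56, 55],
   ([0, 2, 3, 1, 4], [0, 3, 1, 2, 4], [0, 3, 2, 4, 1], [0, 4, 2, 1, 3], true))]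

/-- orbit words, part 23 -/
def orbW23 : List Ent :=
  [([some (211892490131455484380679954830632672, 4060028, [(0, false), (25, false), (30, true), (110, true), (55, true), (115, true), (80, true), (105, false), (45, true), (10, true), (75, false), (70, false), (35, true), (85, true), (90, true), (65, true), (40, true), (100, false), (50, true), (20, true), (60, true), (15, true), (95, false), (5, false)])],
   [9, 6, 3, 5, 4, 2, 7, 1, 0, 8, 19, 28, 16, 23, 12, 18, 29, 33, 11, 17, 22, 30, 13, 21, 26, 32, 10, 14, 25, 31, 20, 27, 15, 24, 36, 40, 39, 43, 34, 45, 37, 42, 35, 41, 38, 44, 49, 52, 46, 51, 48, 53, 47, 50, 56, 54, 58, 55, 59, 57],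
   ([0, 1, 3, 4, 2], [0, 1, 4, 2, 3], [0, 2, 4, 3, 1], [0, 4, 1, 3, 2], true)),
   ([some (984818244535754528103549039458486304, 8455014, [(0, false), (5, true), (10, true), (15, false), (20, false), (25, true), (30, true), (35, false), (40, true), (45, true), (50, false), (55, false), (60, false), (65, false), (70, false), (75, false), (80, true), (85, false), (90, false), (95, false), (100, false), (105, false), (110, false), (115, true)])],
   [0, 1, 2, 3, 4, 5, 6, 7, 8, 9, 33, 32, 31, 30, 29, 28, 27, 26, 25, 24, 23, 22, 21, 20, 19, 18, 17, 16, 15, 14, 13, 12, 11, 10, 45, 43, 44, 42, 39, 38, 41, 40, 37, 35, 36, 34, 53, 52, 51, 50, 49, 48, 47, 46, 59, 58, 57, 56, 55, 54],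
   ([0, 3, 4, 1, 2], [0, 3, 4, 1, 2], [0, 3, 4, 1, 2], [0, 3, 4, 1, 2], true)),
   ([],
   [0, 1, 2, 3, 4, 5, 6, 7, 8, 9, 10, 11, 12, 13, 14, 15, 16, 17, 18, 19, 20, 21, 22, 23, 24, 25, 26, 27, 28, 29, 30, 31, 32, 33, 34, 35, 36, 37, 38, 39, 40, 41, 42, 43, 44, 45, 46, 47, 48, 49, 50, 51, 52, 53, 54, 55, 56, 57, 58, 59],
   ([0, 1, 2, 3, 4], [0, 1, 2, 3, 4], [0, 1, 2, 3, 4], [0, 1, 2, 3, 4], false)),
   ([some (211892490131455484380679954830632672, 0, [(0, false), (25, false), (30, false), (110, false), (55, false), (115, false), (80, false), (105, false), (45, false), (10, false), (75, false), (70, false), (35, false), (85, false), (90, false), (65, false), (40, false), (100, false), (50, false), (20, false), (60, false), (15, false), (95, false), (5, false)])],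
   [6, 9, 4, 2, 3, 5, 7, 0, 1, 8, 16, 23, 19, 28, 11, 17, 22, 30, 12, 18, 29, 33, 10, 14, 25, 31, 13, 21, 26, 32, 15, 24, 20, 27, 36, 39, 40, 43, 37, 42, 34, 45, 35, 38, 41, 44, 46, 51, 49, 52, 47, 50, 48, 53, 56, 54, 55, 58, 59, 57],
   ([0, 1, 3, 4, 2], [0, 1, 4, 2, 3], [0, 2, 4, 3, 1], [0, 4, 1, 3, 2], false)),
   ([some (66338862830766066076396169046202528, 0, [(0, false), (115, false), (45, false), (105, false), (95, false), (5, false), (10, false), (60, false), (80, false), (40, false), (90, false), (20, false), (100, false), (75, false), (55, false), (50, false), (30, false), (65, false), (70, false), (110, false), (85, false), (35, false), (15, false), (25, false)])],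
   [7, 8, 3, 4, 2, 5, 0, 6, 9, 1, 22, 14, 18, 26, 23, 30, 10, 15, 19, 12, 32, 27, 16, 11, 31, 24, 28, 33, 13, 20, 17, 25, 29, 21, 40, 42, 34, 38, 43, 35, 36, 44, 39, 37, 45, 41, 46, 50, 52, 48, 51, 47, 49, 53, 55, 56, 54, 59, 57, 58],
   ([0, 1, 4, 2, 3], [0, 1, 3, 4, 2], [0, 4, 1, 3, 2], [0, 2, 4, 3, 1], false))]

/-- orbit words -/
def orbW : List Ent :=
  orbW0 ++
  orbW1 ++
  orbW2 ++
  orbW3 ++
  orbW4 ++
  orbW5 ++
  orbW6 ++
  orbW7 ++
  orbW8 ++
  orbW9 ++
  orbW10 ++
  orbW11 ++
  orbW12 ++
  orbW13 ++
  orbW14 ++
  orbW15 ++
  orbW16 ++
  orbW17 ++
  orbW18 ++
  orbW19 ++
  orbW20 ++
  orbW21 ++
  orbW22 ++
  orbW23

/-- orbit words of the stabiliser, part 0 -/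
def stabW0 : List Ent :=
  [([],
   [0, 1, 2, 3, 4, 5, 6, 7, 8, 9, 10, 11, 12, 13, 14, 15, 16, 17, 18, 19, 20, 21, 22, 23, 24, 25, 26, 27, 28, 29, 30, 31, 32, 33, 34, 35, 36, 37, 38, 39, 40, 41, 42, 43, 44, 45, 46, 47, 48, 49, 50, 51, 52, 53, 54, 55, 56, 57, 58, 59],
   ([0, 1, 2, 3, 4], [0, 1, 2, 3, 4], [0, 1, 2, 3, 4], [0, 1, 2, 3, 4], false)),
   ([some (4164511189226929929651063095482675, 13629219, [(115, true), (90, true), (45, false), (110, false), (80, false), (15, true), (105, false), (95, false), (55, true), (5, true), (25, true), (85, false), (65, true), (50, true), (40, true), (75, true), (20, true), (30, true), (35, true), (0, true), (70, false), (100, false), (10, true), (60, true)]),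
    none,
    some (258784077795162200192732444115373472, 14101751, [(0, true), (15, true), (40, true), (10, false), (60, true), (30, true), (115, true), (110, true), (85, false), (20, false), (70, true), (105, true), (65, false), (5, true), (35, false), (50, false), (100, true), (90, true), (75, true), (55, false), (95, true), (80, false), (45, true), (25, true)]),
    none,
    some (715777984645649763547742138814451718, 1127686, [(5, false), (65, true), (50, true), (20, false), (70, false), (75, false), (0, false), (110, false), (95, true), (100, false), (40, true), (85, false), (35, true), (105, true), (55, false), (80, false), (15, true), (115, false), (30, false), (90, false), (10, true), (45, false), (25, false), (60, false)]),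
    none,
    some (258784077795162200192732444115373472, 14101751, [(0, true), (15, true), (40, true), (10, false), (60, true), (30, true), (115, true), (110, true), (85, false), (20, false), (70, true), (105, true), (65, false), (5, true), (35, false), (50, false), (100, true), (90, true), (75, true), (55, false), (95, true), (80, false), (45, true), (25, true)]),
    none,
    some (681674634758743498925333276215773940, 11361349, [(90, true), (45, false), (10, true), (40, false), (105, false), (70, false), (55, true), (65, false), (35, false), (20, false), (25, true), (30, true), (60, true), (110, false), (50, true), (95, false), (115, true), (15, false), (100, true), (75, true), (0, false), (80, true), (85, false), (5, true)])],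
   [7, 44, 4, 3, 25, 26, 33, 20, 15, 30, 37, 39, 17, 5, 28, 1, 13, 9, 12, 19, 48, 52, 11, 16, 47, 51, 23, 0, 10, 6, 18, 2, 34, 40, 21, 38, 29, 42, 54, 56, 36, 8, 14, 22, 41, 45, 46, 58, 27, 32, 24, 31, 49, 55, 53, 35, 43, 57, 59, 50],
   ([3, 4, 1, 2, 0], [4, 2, 3, 0, 1], [4, 0, 1, 2, 3], [1, 2, 3, 4, 0], false)),
   ([some (45806780264351157218325901822280370, 9804902, [(55, false), (115, true), (50, true), (110, false), (75, false), (95, true), (25, true), (100, false), (45, false), (105, false), (30, true), (60, true), (15, true), (85, false), (80, false), (65, true), (10, true), (20, false), (0, true), (40, false), (35, true), (5, false), (90, false), (70, true)]),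
    none,
    some (220048119786717969456457942323765344, 16569195, [(0, true), (65, true), (15, false), (5, true), (45, false), (115, true), (25, true), (70, false), (10, true), (110, true), (75, false), (95, false), (20, true), (60, false), (50, true), (90, true), (105, false), (40, false), (85, true), (100, true), (80, true), (55, true), (35, true), (30, true)]),
    none,
    some (675058179405286524919430908197619831, 12880401, [(95, true), (105, false), (65, false), (5, false), (15, true), (40, false), (90, false), (30, false), (110, false), (35, true), (55, false), (45, true), (75, false), (80, false), (60, false), (100, true), (115, false), (20, false), (10, true), (50, false), (85, false), (25, false), (70, true), (0, true)])],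
   [24, 20, 32, 4, 5, 10, 22, 1, 38, 18, 23, 29, 17, 19, 45, 8, 28, 11, 33, 16, 7, 37, 43, 25, 53, 3, 2, 47, 21, 36, 6, 52, 46, 9, 31, 58, 39, 13, 35, 12, 30, 44, 34, 56, 0, 42, 49, 27, 15, 51, 59, 26, 14, 54, 41, 50, 40, 57, 48, 55],
   ([2, 1, 4, 3, 0], [4, 1, 0, 3, 2], [3, 1, 4, 0, 2], [3, 1, 4, 0, 2], true)),
   ([some (45806780264351157218325901822280370, 9804902, [(55, false), (115, true), (50, true), (110, false), (75, false), (95, true), (25, true), (100, false), (45, false), (105, false), (30, true), (60, true), (15, true), (85, false), (80, false), (65, true), (10, true), (20, false), (0, true), (40, false), (35, true), (5, false), (90, false), (70, true)]),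
    none,
    some (220048119786717969456457942323765344, 16569195, [(0, true), (65, true), (15, false), (5, true), (45, false), (115, true), (25, true), (70, false), (10, true), (110, true), (75, false), (95, false), (20, true), (60, false), (50, true), (90, true), (105, false), (40, false), (85, true), (100, true), (80, true), (55, true), (35, true), (30, true)]),
    none,
    some (675058179405286524919430908197619831, 16349549, [(95, true), (105, false), (65, true), (5, true), (15, false), (40, true), (90, true), (30, false), (110, true), (35, false), (55, false), (45, true), (75, true), (80, true), (60, true), (100, false), (115, true), (20, false), (10, false), (50, true), (85, true), (25, true), (70, true), (0, true)])],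
   [27, 15, 31, 3, 2, 13, 29, 0, 41, 17, 28, 22, 18, 16, 42, 8, 23, 12, 30, 19, 7, 34, 43, 26, 50, 4, 5, 48, 14, 36, 9, 51, 49, 6, 32, 55, 40, 10, 35, 11, 33, 44, 37, 56, 1, 45, 46, 24, 20, 52, 59, 25, 21, 54, 38, 53, 39, 57, 47, 58],
   ([4, 2, 3, 0, 1], [3, 4, 1, 2, 0], [1, 2, 3, 4, 0], [4, 0, 1, 2, 3], false)),
   ([some (4164511189226929929651063095482675, 13629219, [(115, true), (90, true), (45, false), (110, false), (80, false), (15, true), (105, false), (95, false), (55, true), (5, true), (25, true), (85, false), (65, true), (50, true), (40, true), (75, true), (20, true), (30, true), (35, true), (0, true), (70, false), (100, false), (10, true), (60, true)]),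
    none,
    some (258784077795162200192732444115373472, 14101751, [(0, true), (15, true), (40, true), (10, false), (60, true), (30, true), (115, true), (110, true), (85, false), (20, false), (70, true), (105, true), (65, false), (5, true), (35, false), (50, false), (100, true), (90, true), (75, true), (55, false), (95, true), (80, false), (45, true), (25, true)]),
    none,
    some (715777984645649763547742138814451718, 1127686, [(5, false), (65, true), (50, true), (20, false), (70, false), (75, false), (0, false), (110, false), (95, true), (100, false), (40, true), (85, false), (35, true), (105, true), (55, false), (80, false), (15, true), (115, false), (30, false), (90, false), (10, true), (45, false), (25, false), (60, false)]),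
    none,
    some (258784077795162200192732444115373472, 14101751, [(0, true), (15, true), (40, true), (10, false), (60, true), (30, true), (115, true), (110, true), (85, false), (20, false), (70, true), (105, true), (65, false), (5, true), (35, false), (50, false), (100, true), (90, true), (75, true), (55, false), (95, true), (80, false), (45, true), (25, true)]),
    none,
    some (681674634758743498925333276215773940, 15425791, [(90, true), (45, true), (10, true), (40, true), (105, true), (70, true), (55, true), (65, true), (35, false), (20, false), (25, false), (30, false), (60, false), (110, true), (50, true), (95, false), (115, true), (15, true), (100, false), (75, true), (0, false), (80, true), (85, true), (5, true)])],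
   [8, 35, 2, 5, 14, 21, 12, 27, 24, 11, 42, 40, 22, 3, 19, 0, 32, 9, 33, 28, 53, 49, 30, 23, 50, 46, 16, 1, 31, 6, 29, 4, 45, 39, 26, 41, 18, 37, 59, 56, 43, 7, 25, 17, 38, 34, 51, 55, 20, 13, 15, 10, 52, 58, 48, 44, 36, 57, 54, 47],
   ([1, 2, 3, 4, 0], [4, 0, 1, 2, 3], [2, 0, 3, 4, 1], [1, 4, 0, 2, 3], false))]

/-- orbit words of the stabiliser, part 1 -/
def stabW1 : List Ent :=
  [([some (22701218618443307285306235306026195, 13629219, [(115, true), (50, true), (40, false), (95, false), (70, false), (35, true), (5, false), (65, false), (55, true), (10, true), (90, true), (85, false), (60, true), (45, true), (25, true), (105, true), (75, true), (110, true), (80, true), (0, true), (100, false), (15, false), (20, true), (30, true)]),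
    none,
    some (258784077795162200192732444115373472, 14101751, [(0, true), (15, true), (40, true), (10, false), (60, true), (30, true), (115, true), (110, true), (85, false), (20, false), (70, true), (105, true), (65, false), (5, true), (35, false), (50, false), (100, true), (90, true), (75, true), (55, false), (95, true), (80, false), (45, true), (25, true)]),
    none,
    some (141989132273303787815889008212387848, 8632760, [(5, false), (80, false), (15, false), (115, true), (55, true), (40, true), (65, false), (50, true), (0, true), (100, false), (10, false), (25, true), (105, true), (110, true), (60, false), (45, true), (35, true), (70, true), (30, false), (90, false), (85, false), (95, false), (75, false), (20, true)]),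
    none,
    some (258784077795162200192732444115373472, 14101751, [(0, true), (15, true), (40, true), (10, false), (60, true), (30, true), (115, true), (110, true), (85, false), (20, false), (70, true), (105, true), (65, false), (5, true), (35, false), (50, false), (100, true), (90, true), (75, true), (55, false), (95, true), (80, false), (45, true), (25, true)]),
    none,
    some (971620576635340505064640470816363541, 5365074, [(5, false), (45, true), (35, false), (70, false), (60, true), (10, false), (80, true), (15, false), (65, true), (100, false), (85, true), (75, true), (110, true), (50, false), (20, true), (95, true), (105, true), (55, false), (30, false), (90, false), (25, true), (0, false), (40, true), (115, false)]),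
    none,
    some (258784077795162200192732444115373472, 14101751, [(0, true), (15, true), (40, true), (10, false), (60, true), (30, true), (115, true), (110, true), (85, false), (20, false), (70, true), (105, true), (65, false), (5, true), (35, false), (50, false), (100, true), (90, true), (75, true), (55, false), (95, true), (80, false), (45, true), (25, true)]),
    none,
    some (395516178563854897490496848473299683, 16598305, [(90, true), (25, false), (75, false), (0, false), (65, false), (55, true), (10, false), (100, false), (95, true), (115, false), (45, true), (80, false), (35, false), (20, false), (15, true), (60, false), (110, true), (50, false), (30, true), (40, true), (70, true), (85, true), (105, true), (5, true)])],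
   [50, 7, 49, 2, 13, 28, 43, 15, 35, 30, 26, 36, 12, 19, 45, 41, 14, 22, 6, 23, 0, 10, 56, 4, 54, 3, 31, 24, 34, 40, 29, 21, 46, 17, 51, 47, 11, 16, 55, 18, 9, 1, 32, 39, 27, 37, 52, 48, 8, 25, 58, 5, 42, 38, 44, 59, 33, 57, 20, 53],
   ([3, 2, 1, 0, 4], [3, 2, 1, 0, 4], [4, 2, 0, 1, 3], [2, 3, 1, 4, 0], true)),
   ([some (22701218618443307285306235306026195, 13629219, [(115, true), (50, true), (40, false), (95, false), (70, false), (35, true), (5, false), (65, false), (55, true), (10, true), (90, true), (85, false), (60, true), (45, true), (25, true), (105, true), (75, true), (110, true), (80, true), (0, true), (100, false), (15, false), (20, true), (30, true)]),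
    none,
    some (258784077795162200192732444115373472, 14101751, [(0, true), (15, true), (40, true), (10, false), (60, true), (30, true), (115, true), (110, true), (85, false), (20, false), (70, true), (105, true), (65, false), (5, true), (35, false), (50, false), (100, true), (90, true), (75, true), (55, false), (95, true), (80, false), (45, true), (25, true)]),
    none,
    some (141989132273303787815889008212387848, 8632760, [(5, false), (80, false), (15, false), (115, true), (55, true), (40, true), (65, false), (50, true), (0, true), (100, false), (10, false), (25, true), (105, true), (110, true), (60, false), (45, true), (35, true), (70, true), (30, false), (90, false), (85, false), (95, false), (75, false), (20, true)]),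
    none,
    some (258784077795162200192732444115373472, 14101751, [(0, true), (15, true), (40, true), (10, false), (60, true), (30, true), (115, true), (110, true), (85, false), (20, false), (70, true), (105, true), (65, false), (5, true), (35, false), (50, false), (100, true), (90, true), (75, true), (55, false), (95, true), (80, false), (45, true), (25, true)]),
    none,
    some (971620576635340505064640470816363541, 5365074, [(5, false), (45, true), (35, false), (70, false), (60, true), (10, false), (80, true), (15, false), (65, true), (100, false), (85, true), (75, true), (110, true), (50, false), (20, true), (95, true), (105, true), (55, false), (30, false), (90, false), (25, true), (0, false), (40, true), (115, false)]),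
    none,
    some (258784077795162200192732444115373472, 14101751, [(0, true), (15, true), (40, true), (10, false), (60, true), (30, true), (115, true), (110, true), (85, false), (20, false), (70, true), (105, true), (65, false), (5, true), (35, false), (50, false), (100, true), (90, true), (75, true), (55, false), (95, true), (80, false), (45, true), (25, true)]),
    none,
    some (395516178563854897490496848473299683, 12629597, [(90, true), (25, false), (75, true), (0, true), (65, true), (55, false), (10, true), (100, false), (95, false), (115, true), (45, true), (80, false), (35, true), (20, true), (15, false), (60, true), (110, false), (50, false), (30, false), (40, false), (70, false), (85, false), (105, true), (5, true)])],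
   [53, 7, 46, 5, 10, 23, 43, 20, 35, 33, 25, 36, 11, 16, 42, 38, 21, 29, 9, 28, 1, 13, 56, 3, 54, 4, 32, 27, 37, 39, 22, 14, 49, 18, 52, 48, 12, 19, 58, 17, 6, 0, 31, 40, 24, 34, 51, 47, 8, 26, 55, 2, 45, 41, 44, 59, 30, 57, 15, 50],
   ([3, 1, 0, 2, 4], [2, 1, 3, 0, 4], [4, 1, 2, 0, 3], [3, 1, 2, 4, 0], false)),
   ([some (18645141155486421749859557393608915, 13629219, [(115, true), (20, true), (85, false), (65, false), (75, false), (50, true), (5, false), (45, false), (70, true), (15, true), (25, true), (105, false), (10, true), (95, true), (110, true), (40, true), (55, true), (90, true), (80, true), (0, true), (100, false), (60, false), (35, true), (30, true)]),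
    none,
    some (258784077795162200192732444115373472, 14101751, [(0, true), (15, true), (40, true), (10, false), (60, true), (30, true), (115, true), (110, true), (85, false), (20, false), (70, true), (105, true), (65, false), (5, true), (35, false), (50, false), (100, true), (90, true), (75, true), (55, false), (95, true), (80, false), (45, true), (25, true)]),
    none,
    some (310753476269186866884764762881369106, 11006430, [(5, false), (85, true), (50, true), (25, true), (30, true), (80, false), (60, true), (115, true), (95, true), (10, false), (75, false), (45, false), (105, true), (20, true), (35, true), (110, true), (70, true), (40, true), (0, true), (90, false), (65, false), (100, true), (55, false), (15, true)]),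
    none,
    some (258784077795162200192732444115373472, 14101751, [(0, true), (15, true), (40, true), (10, false), (60, true), (30, true), (115, true), (110, true), (85, false), (20, false), (70, true), (105, true), (65, false), (5, true), (35, false), (50, false), (100, true), (90, true), (75, true), (55, false), (95, true), (80, false), (45, true), (25, true)]),
    none,
    some (551167350658764319848948886024162019, 12523435, [(90, true), (30, true), (10, false), (0, true), (75, false), (85, true), (25, false), (55, true), (110, true), (35, true), (100, true), (40, false), (95, true), (115, false), (50, false), (60, false), (20, true), (80, true), (65, true), (105, true), (45, true), (70, true), (15, false), (5, true)])],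
   [15, 38, 26, 4, 52, 28, 39, 47, 0, 17, 45, 56, 6, 25, 13, 44, 2, 33, 18, 16, 24, 46, 40, 10, 55, 32, 19, 7, 34, 30, 11, 3, 14, 36, 51, 54, 9, 21, 50, 43, 22, 20, 23, 12, 8, 42, 49, 59, 1, 37, 48, 5, 31, 35, 58, 41, 29, 57, 53, 27],
   ([4, 3, 0, 2, 1], [2, 4, 3, 1, 0], [1, 0, 3, 2, 4], [1, 0, 3, 2, 4], true)),
   ([some (18645141155486421749859557393608915, 13629219, [(115, true), (20, true), (85, false), (65, false), (75, false), (50, true), (5, false), (45, false), (70, true), (15, true), (25, true), (105, false), (10, true), (95, true), (110, true), (40, true), (55, true), (90, true), (80, true), (0, true), (100, false), (60, false), (35, true), (30, true)]),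
    none,
    some (258784077795162200192732444115373472, 14101751, [(0, true), (15, true), (40, true), (10, false), (60, true), (30, true), (115, true), (110, true), (85, false), (20, false), (70, true), (105, true), (65, false), (5, true), (35, false), (50, false), (100, true), (90, true), (75, true), (55, false), (95, true), (80, false), (45, true), (25, true)]),
    none,
    some (310753476269186866884764762881369106, 11006430, [(5, false), (85, true), (50, true), (25, true), (30, true), (80, false), (60, true), (115, true), (95, true), (10, false), (75, false), (45, false), (105, true), (20, true), (35, true), (110, true), (70, true), (40, true), (0, true), (90, false), (65, false), (100, true), (55, false), (15, true)]),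
    none,
    some (258784077795162200192732444115373472, 14101751, [(0, true), (15, true), (40, true), (10, false), (60, true), (30, true), (115, true), (110, true), (85, false), (20, false), (70, true), (105, true), (65, false), (5, true), (35, false), (50, false), (100, true), (90, true), (75, true), (55, false), (95, true), (80, false), (45, true), (25, true)]),
    none,
    some (551167350658764319848948886024162019, 8578263, [(90, true), (30, true), (10, true), (0, false), (75, true), (85, false), (25, true), (55, true), (110, false), (35, false), (100, true), (40, false), (95, false), (115, true), (50, true), (60, true), (20, false), (80, true), (65, false), (105, false), (45, false), (70, false), (15, false), (5, true)])],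
   [20, 41, 25, 3, 51, 23, 40, 48, 1, 18, 42, 56, 9, 26, 10, 44, 5, 30, 17, 19, 27, 49, 39, 13, 58, 31, 16, 7, 37, 33, 12, 4, 21, 36, 52, 54, 6, 14, 53, 43, 29, 15, 28, 11, 8, 45, 46, 59, 0, 34, 47, 2, 32, 35, 55, 38, 22, 57, 50, 24],
   ([2, 0, 4, 1, 3], [1, 3, 0, 4, 2], [3, 4, 0, 1, 2], [2, 3, 4, 0, 1], false)),
   ([some (18645141155486421749859557393608915, 13629219, [(115, true), (20, true), (85, false), (65, false), (75, false), (50, true), (5, false), (45, false), (70, true), (15, true), (25, true), (105, false), (10, true), (95, true), (110, true), (40, true), (55, true), (90, true), (80, true), (0, true), (100, false), (60, false), (35, true), (30, true)]),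
    none,
    some (258784077795162200192732444115373472, 14101751, [(0, true), (15, true), (40, true), (10, false), (60, true), (30, true), (115, true), (110, true), (85, false), (20, false), (70, true), (105, true), (65, false), (5, true), (35, false), (50, false), (100, true), (90, true), (75, true), (55, false), (95, true), (80, false), (45, true), (25, true)]),
    none,
    some (310753476269186866884764762881369106, 11006430, [(5, false), (85, true), (50, true), (25, true), (30, true), (80, false), (60, true), (115, true), (95, true), (10, false), (75, false), (45, false), (105, true), (20, true), (35, true), (110, true), (70, true), (40, true), (0, true), (90, false), (65, false), (100, true), (55, false), (15, true)]),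
    none,
    some (258784077795162200192732444115373472, 14101751, [(0, true), (15, true), (40, true), (10, false), (60, true), (30, true), (115, true), (110, true), (85, false), (20, false), (70, true), (105, true), (65, false), (5, true), (35, false), (50, false), (100, true), (90, true), (75, true), (55, false), (95, true), (80, false), (45, true), (25, true)]),
    none,
    some (551167350658764319848948886024162019, 16329489, [(90, true), (30, false), (10, false), (0, false), (75, true), (85, false), (25, false), (55, false), (110, true), (35, true), (100, false), (40, true), (95, false), (115, true), (50, false), (60, false), (20, true), (80, false), (65, false), (105, true), (45, true), (70, true), (15, true), (5, true)])],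
   [24, 41, 21, 2, 49, 19, 40, 50, 1, 22, 34, 56, 6, 14, 32, 35, 4, 12, 29, 23, 15, 51, 39, 31, 58, 13, 28, 8, 45, 11, 30, 5, 25, 43, 46, 59, 9, 26, 47, 36, 17, 27, 16, 33, 7, 37, 52, 54, 0, 42, 53, 3, 10, 44, 55, 38, 18, 57, 48, 20],
   ([2, 1, 0, 4, 3], [2, 1, 0, 4, 3], [3, 0, 1, 4, 2], [1, 2, 4, 0, 3], true))]

/-- orbit words of the stabiliser, part 2 -/
def stabW2 : List Ent :=
  [([some (18645141155486421749859557393608915, 13629219, [(115, true), (20, true), (85, false), (65, false), (75, false), (50, true), (5, false), (45, false), (70, true), (15, true), (25, true), (105, false), (10, true), (95, true), (110, true), (40, true), (55, true), (90, true), (80, true), (0, true), (100, false), (60, false), (35, true), (30, true)]),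
    none,
    some (258784077795162200192732444115373472, 14101751, [(0, true), (15, true), (40, true), (10, false), (60, true), (30, true), (115, true), (110, true), (85, false), (20, false), (70, true), (105, true), (65, false), (5, true), (35, false), (50, false), (100, true), (90, true), (75, true), (55, false), (95, true), (80, false), (45, true), (25, true)]),
    none,
    some (310753476269186866884764762881369106, 11006430, [(5, false), (85, true), (50, true), (25, true), (30, true), (80, false), (60, true), (115, true), (95, true), (10, false), (75, false), (45, false), (105, true), (20, true), (35, true), (110, true), (70, true), (40, true), (0, true), (90, false), (65, false), (100, true), (55, false), (15, true)]),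
    none,
    some (258784077795162200192732444115373472, 14101751, [(0, true), (15, true), (40, true), (10, false), (60, true), (30, true), (115, true), (110, true), (85, false), (20, false), (70, true), (105, true), (65, false), (5, true), (35, false), (50, false), (100, true), (90, true), (75, true), (55, false), (95, true), (80, false), (45, true), (25, true)]),
    none,
    some (551167350658764319848948886024162019, 12900461, [(90, true), (30, false), (10, true), (0, true), (75, false), (85, true), (25, true), (55, false), (110, false), (35, false), (100, false), (40, true), (95, true), (115, false), (50, true), (60, true), (20, false), (80, false), (65, true), (105, false), (45, false), (70, false), (15, true), (5, true)])],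
   [27, 38, 14, 5, 46, 16, 39, 53, 0, 29, 37, 56, 9, 21, 31, 35, 3, 11, 22, 28, 20, 52, 40, 32, 55, 10, 23, 8, 42, 12, 33, 2, 26, 43, 49, 59, 6, 25, 48, 36, 18, 24, 19, 30, 7, 34, 51, 54, 1, 45, 50, 4, 13, 44, 58, 41, 17, 57, 47, 15],
   ([4, 0, 2, 3, 1], [1, 4, 2, 3, 0], [1, 2, 0, 3, 4], [2, 0, 1, 3, 4], false)),
   ([some (22701218618443307285306235306026195, 13629219, [(115, true), (50, true), (40, false), (95, false), (70, false), (35, true), (5, false), (65, false), (55, true), (10, true), (90, true), (85, false), (60, true), (45, true), (25, true), (105, true), (75, true), (110, true), (80, true), (0, true), (100, false), (15, false), (20, true), (30, true)]),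
    none,
    some (258784077795162200192732444115373472, 14101751, [(0, true), (15, true), (40, true), (10, false), (60, true), (30, true), (115, true), (110, true), (85, false), (20, false), (70, true), (105, true), (65, false), (5, true), (35, false), (50, false), (100, true), (90, true), (75, true), (55, false), (95, true), (80, false), (45, true), (25, true)]),
    none,
    some (141989132273303787815889008212387848, 8632760, [(5, false), (80, false), (15, false), (115, true), (55, true), (40, true), (65, false), (50, true), (0, true), (100, false), (10, false), (25, true), (105, true), (110, true), (60, false), (45, true), (35, true), (70, true), (30, false), (90, false), (85, false), (95, false), (75, false), (20, true)]),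
    none,
    some (258784077795162200192732444115373472, 14101751, [(0, true), (15, true), (40, true), (10, false), (60, true), (30, true), (115, true), (110, true), (85, false), (20, false), (70, true), (105, true), (65, false), (5, true), (35, false), (50, false), (100, true), (90, true), (75, true), (55, false), (95, true), (80, false), (45, true), (25, true)]),
    none,
    some (971620576635340505064640470816363541, 5365074, [(5, false), (45, true), (35, false), (70, false), (60, true), (10, false), (80, true), (15, false), (65, true), (100, false), (85, true), (75, true), (110, true), (50, false), (20, true), (95, true), (105, true), (55, false), (30, false), (90, false), (25, true), (0, false), (40, true), (115, false)]),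
    none,
    some (258784077795162200192732444115373472, 14101751, [(0, true), (15, true), (40, true), (10, false), (60, true), (30, true), (115, true), (110, true), (85, false), (20, false), (70, true), (105, true), (65, false), (5, true), (35, false), (50, false), (100, true), (90, true), (75, true), (55, false), (95, true), (80, false), (45, true), (25, true)]),
    none,
    some (395516178563854897490496848473299683, 12286363, [(90, true), (25, true), (75, false), (0, true), (65, true), (55, false), (10, false), (100, true), (95, true), (115, false), (45, false), (80, true), (35, true), (20, true), (15, true), (60, false), (110, true), (50, true), (30, false), (40, true), (70, true), (85, true), (105, false), (5, true)])],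
   [47, 8, 52, 4, 32, 19, 36, 24, 44, 11, 21, 43, 33, 28, 34, 38, 25, 17, 6, 16, 1, 31, 56, 2, 59, 5, 10, 15, 45, 39, 18, 26, 51, 22, 46, 50, 30, 23, 58, 29, 9, 0, 13, 40, 20, 42, 49, 53, 7, 14, 55, 3, 37, 41, 35, 54, 12, 57, 27, 48],
   ([1, 4, 3, 0, 2], [3, 0, 4, 2, 1], [2, 4, 0, 3, 1], [2, 4, 0, 3, 1], true)),
   ([some (22701218618443307285306235306026195, 13629219, [(115, true), (50, true), (40, false), (95, false), (70, false), (35, true), (5, false), (65, false), (55, true), (10, true), (90, true), (85, false), (60, true), (45, true), (25, true), (105, true), (75, true), (110, true), (80, true), (0, true), (100, false), (15, false), (20, true), (30, true)]),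
    none,
    some (258784077795162200192732444115373472, 14101751, [(0, true), (15, true), (40, true), (10, false), (60, true), (30, true), (115, true), (110, true), (85, false), (20, false), (70, true), (105, true), (65, false), (5, true), (35, false), (50, false), (100, true), (90, true), (75, true), (55, false), (95, true), (80, false), (45, true), (25, true)]),
    none,
    some (141989132273303787815889008212387848, 8632760, [(5, false), (80, false), (15, false), (115, true), (55, true), (40, true), (65, false), (50, true), (0, true), (100, false), (10, false), (25, true), (105, true), (110, true), (60, false), (45, true), (35, true), (70, true), (30, false), (90, false), (85, false), (95, false), (75, false), (20, true)]),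
    none,
    some (258784077795162200192732444115373472, 14101751, [(0, true), (15, true), (40, true), (10, false), (60, true), (30, true), (115, true), (110, true), (85, false), (20, false), (70, true), (105, true), (65, false), (5, true), (35, false), (50, false), (100, true), (90, true), (75, true), (55, false), (95, true), (80, false), (45, true), (25, true)]),
    none,
    some (971620576635340505064640470816363541, 5365074, [(5, false), (45, true), (35, false), (70, false), (60, true), (10, false), (80, true), (15, false), (65, true), (100, false), (85, true), (75, true), (110, true), (50, false), (20, true), (95, true), (105, true), (55, false), (30, false), (90, false), (25, true), (0, false), (40, true), (115, false)]),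
    none,
    some (258784077795162200192732444115373472, 14101751, [(0, true), (15, true), (40, true), (10, false), (60, true), (30, true), (115, true), (110, true), (85, false), (20, false), (70, true), (105, true), (65, false), (5, true), (35, false), (50, false), (100, true), (90, true), (75, true), (55, false), (95, true), (80, false), (45, true), (25, true)]),
    none,
    some (395516178563854897490496848473299683, 8817383, [(90, true), (25, true), (75, true), (0, false), (65, false), (55, true), (10, true), (100, true), (95, false), (115, true), (45, false), (80, true), (35, false), (20, false), (15, false), (60, true), (110, false), (50, true), (30, true), (40, false), (70, false), (85, false), (105, false), (5, true)])],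
   [48, 8, 51, 3, 31, 16, 36, 27, 44, 12, 14, 43, 30, 23, 37, 41, 26, 18, 9, 19, 0, 32, 56, 5, 59, 2, 13, 20, 42, 40, 17, 25, 52, 29, 49, 53, 33, 28, 55, 22, 6, 1, 10, 39, 15, 45, 46, 50, 7, 21, 58, 4, 34, 38, 35, 54, 11, 57, 24, 47],
   ([1, 3, 0, 4, 2], [2, 0, 4, 1, 3], [2, 3, 4, 0, 1], [3, 4, 0, 1, 2], false)),
   ([some (18645141155486421749859557393608915, 13629219, [(115, true), (20, true), (85, false), (65, false), (75, false), (50, true), (5, false), (45, false), (70, true), (15, true), (25, true), (105, false), (10, true), (95, true), (110, true), (40, true), (55, true), (90, true), (80, true), (0, true), (100, false), (60, false), (35, true), (30, true)]),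
    none,
    some (258784077795162200192732444115373472, 14101751, [(0, true), (15, true), (40, true), (10, false), (60, true), (30, true), (115, true), (110, true), (85, false), (20, false), (70, true), (105, true), (65, false), (5, true), (35, false), (50, false), (100, true), (90, true), (75, true), (55, false), (95, true), (80, false), (45, true), (25, true)]),
    none,
    some (310753476269186866884764762881369106, 11006430, [(5, false), (85, true), (50, true), (25, true), (30, true), (80, false), (60, true), (115, true), (95, true), (10, false), (75, false), (45, false), (105, true), (20, true), (35, true), (110, true), (70, true), (40, true), (0, true), (90, false), (65, false), (100, true), (55, false), (15, true)]),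
    none,
    some (258784077795162200192732444115373472, 14101751, [(0, true), (15, true), (40, true), (10, false), (60, true), (30, true), (115, true), (110, true), (85, false), (20, false), (70, true), (105, true), (65, false), (5, true), (35, false), (50, false), (100, true), (90, true), (75, true), (55, false), (95, true), (80, false), (45, true), (25, true)]),
    none,
    some (516934905661965147480115336003573765, 1405448, [(5, false), (65, false), (35, false), (15, true), (20, false), (0, false), (70, false), (105, false), (40, false), (30, true), (85, false), (80, false), (115, true), (100, true), (110, true), (60, false), (75, true), (25, false), (55, true), (90, false), (50, true), (45, false), (10, false), (95, false)]),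
    none,
    some (258784077795162200192732444115373472, 14101751, [(0, true), (15, true), (40, true), (10, false), (60, true), (30, true), (115, true), (110, true), (85, false), (20, false), (70, true), (105, true), (65, false), (5, true), (35, false), (50, false), (100, true), (90, true), (75, true), (55, false), (95, true), (80, false), (45, true), (25, true)]),
    none,
    some (715777984645649763547742138814451718, 1127686, [(5, false), (65, true), (50, true), (20, false), (70, false), (75, false), (0, false), (110, false), (95, true), (100, false), (40, true), (85, false), (35, true), (105, true), (55, false), (80, false), (15, true), (115, false), (30, false), (90, false), (10, true), (45, false), (25, false), (60, false)]),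
    none,
    some (258784077795162200192732444115373472, 14101751, [(0, true), (15, true), (40, true), (10, false), (60, true), (30, true), (115, true), (110, true), (85, false), (20, false), (70, true), (105, true), (65, false), (5, true), (35, false), (50, false), (100, true), (90, true), (75, true), (55, false), (95, true), (80, false), (45, true), (25, true)]),
    none,
    some (681674634758743498925333276215773940, 11361349, [(90, true), (45, false), (10, true), (40, false), (105, false), (70, false), (55, true), (65, false), (35, false), (20, false), (25, true), (30, true), (60, true), (110, false), (50, true), (95, false), (115, true), (15, false), (100, true), (75, true), (0, false), (80, true), (85, false), (5, true)])],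
   [0, 54, 28, 26, 46, 13, 56, 55, 7, 6, 42, 43, 30, 52, 2, 38, 3, 39, 11, 10, 48, 49, 36, 34, 35, 37, 16, 15, 14, 17, 40, 4, 23, 22, 32, 50, 33, 51, 27, 29, 12, 47, 19, 18, 20, 21, 31, 53, 44, 45, 24, 25, 5, 41, 59, 8, 9, 57, 58, 1],
   ([0, 3, 1, 2, 4], [0, 2, 3, 1, 4], [0, 1, 4, 2, 3], [0, 1, 3, 4, 2], false)),
   ([some (4164511189226929929651063095482675, 13629219, [(115, true), (90, true), (45, false), (110, false), (80, false), (15, true), (105, false), (95, false), (55, true), (5, true), (25, true), (85, false), (65, true), (50, true), (40, true), (75, true), (20, true), (30, true), (35, true), (0, true), (70, false), (100, false), (10, true), (60, true)]),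
    none,
    some (258784077795162200192732444115373472, 14101751, [(0, true), (15, true), (40, true), (10, false), (60, true), (30, true), (115, true), (110, true), (85, false), (20, false), (70, true), (105, true), (65, false), (5, true), (35, false), (50, false), (100, true), (90, true), (75, true), (55, false), (95, true), (80, false), (45, true), (25, true)]),
    none,
    some (715777984645649763547742138814451718, 1127686, [(5, false), (65, true), (50, true), (20, false), (70, false), (75, false), (0, false), (110, false), (95, true), (100, false), (40, true), (85, false), (35, true), (105, true), (55, false), (80, false), (15, true), (115, false), (30, false), (90, false), (10, true), (45, false), (25, false), (60, false)]),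
    none,
    some (258784077795162200192732444115373472, 14101751, [(0, true), (15, true), (40, true), (10, false), (60, true), (30, true), (115, true), (110, true), (85, false), (20, false), (70, true), (105, true), (65, false), (5, true), (35, false), (50, false), (100, true), (90, true), (75, true), (55, false), (95, true), (80, false), (45, true), (25, true)]),
    none,
    some (837313091283705861227454354726043241, 1399606, [(90, false), (105, true), (80, true), (35, false), (55, true), (110, true), (70, false), (15, false), (40, true), (0, true), (25, false), (100, true), (65, true), (50, false), (45, true), (10, false), (20, true), (60, false), (95, true), (5, false), (115, true), (85, false), (30, false), (75, false)]),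
    none,
    some (258784077795162200192732444115373472, 14101751, [(0, true), (15, true), (40, true), (10, false), (60, true), (30, true), (115, true), (110, true), (85, false), (20, false), (70, true), (105, true), (65, false), (5, true), (35, false), (50, false), (100, true), (90, true), (75, true), (55, false), (95, true), (80, false), (45, true), (25, true)]),
    none,
    some (141989132273303787815889008212387848, 8632760, [(5, false), (80, false), (15, false), (115, true), (55, true), (40, true), (65, false), (50, true), (0, true), (100, false), (10, false), (25, true), (105, true), (110, true), (60, false), (45, true), (35, true), (70, true), (30, false), (90, false), (85, false), (95, false), (75, false), (20, true)]),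
    none,
    some (258784077795162200192732444115373472, 14101751, [(0, true), (15, true), (40, true), (10, false), (60, true), (30, true), (115, true), (110, true), (85, false), (20, false), (70, true), (105, true), (65, false), (5, true), (35, false), (50, false), (100, true), (90, true), (75, true), (55, false), (95, true), (80, false), (45, true), (25, true)]),
    none,
    some (971620576635340505064640470816363541, 5365074, [(5, false), (45, true), (35, false), (70, false), (60, true), (10, false), (80, true), (15, false), (65, true), (100, false), (85, true), (75, true), (110, true), (50, false), (20, true), (95, true), (105, true), (55, false), (30, false), (90, false), (25, true), (0, false), (40, true), (115, false)]),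
    none,
    some (258784077795162200192732444115373472, 14101751, [(0, true), (15, true), (40, true), (10, false), (60, true), (30, true), (115, true), (110, true), (85, false), (20, false), (70, true), (105, true), (65, false), (5, true), (35, false), (50, false), (100, true), (90, true), (75, true), (55, false), (95, true), (80, false), (45, true), (25, true)]),
    none,
    some (395516178563854897490496848473299683, 8817383, [(90, true), (25, true), (75, true), (0, false), (65, false), (55, true), (10, true), (100, true), (95, false), (115, true), (45, false), (80, true), (35, false), (20, false), (15, false), (60, true), (110, false), (50, true), (30, true), (40, false), (70, false), (85, false), (105, false), (5, true)])],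
   [54, 1, 10, 49, 25, 23, 9, 58, 7, 56, 51, 33, 43, 45, 46, 47, 13, 12, 40, 4, 41, 5, 18, 21, 20, 19, 34, 35, 37, 36, 29, 28, 3, 39, 52, 53, 30, 31, 48, 11, 22, 24, 14, 17, 15, 16, 42, 44, 50, 32, 38, 2, 26, 27, 59, 55, 6, 57, 8, 0],
   ([0, 3, 2, 4, 1], [0, 4, 2, 1, 3], [0, 2, 4, 3, 1], [0, 4, 1, 3, 2], false))]

/-- orbit words of the stabiliser, part 3 -/
def stabW3 : List Ent :=
  [([some (45806780264351157218325901822280370, 9804902, [(55, false), (115, true), (50, true), (110, false), (75, false), (95, true), (25, true), (100, false), (45, false), (105, false), (30, true), (60, true), (15, true), (85, false), (80, false), (65, true), (10, true), (20, false), (0, true), (40, false), (35, true), (5, false), (90, false), (70, true)]),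
    none,
    some (220048119786717969456457942323765344, 16569195, [(0, true), (65, true), (15, false), (5, true), (45, false), (115, true), (25, true), (70, false), (10, true), (110, true), (75, false), (95, false), (20, true), (60, false), (50, true), (90, true), (105, false), (40, false), (85, true), (100, true), (80, true), (55, true), (35, true), (30, true)]),
    none,
    some (750551349305943612336477415793175200, 8704546, [(0, false), (55, true), (110, false), (50, false), (60, false), (30, true), (105, false), (80, false), (45, false), (65, true), (10, false), (20, false), (75, true), (35, false), (40, true), (25, true), (100, false), (70, false), (115, true), (95, false), (85, false), (5, false), (15, false), (90, true)]),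
    none,
    some (258784077795162200192732444115373472, 14101751, [(0, true), (15, true), (40, true), (10, false), (60, true), (30, true), (115, true), (110, true), (85, false), (20, false), (70, true), (105, true), (65, false), (5, true), (35, false), (50, false), (100, true), (90, true), (75, true), (55, false), (95, true), (80, false), (45, true), (25, true)]),
    none,
    some (141989132273303787815889008212387848, 8632760, [(5, false), (80, false), (15, false), (115, true), (55, true), (40, true), (65, false), (50, true), (0, true), (100, false), (10, false), (25, true), (105, true), (110, true), (60, false), (45, true), (35, true), (70, true), (30, false), (90, false), (85, false), (95, false), (75, false), (20, true)]),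
    none,
    some (258784077795162200192732444115373472, 14101751, [(0, true), (15, true), (40, true), (10, false), (60, true), (30, true), (115, true), (110, true), (85, false), (20, false), (70, true), (105, true), (65, false), (5, true), (35, false), (50, false), (100, true), (90, true), (75, true), (55, false), (95, true), (80, false), (45, true), (25, true)]),
    none,
    some (971620576635340505064640470816363541, 5365074, [(5, false), (45, true), (35, false), (70, false), (60, true), (10, false), (80, true), (15, false), (65, true), (100, false), (85, true), (75, true), (110, true), (50, false), (20, true), (95, true), (105, true), (55, false), (30, false), (90, false), (25, true), (0, false), (40, true), (115, false)]),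
    none,
    some (258784077795162200192732444115373472, 14101751, [(0, true), (15, true), (40, true), (10, false), (60, true), (30, true), (115, true), (110, true), (85, false), (20, false), (70, true), (105, true), (65, false), (5, true), (35, false), (50, false), (100, true), (90, true), (75, true), (55, false), (95, true), (80, false), (45, true), (25, true)]),
    none,
    some (395516178563854897490496848473299683, 8817383, [(90, true), (25, true), (75, true), (0, false), (65, false), (55, true), (10, true), (100, true), (95, false), (115, true), (45, false), (80, true), (35, false), (20, false), (15, false), (60, true), (110, false), (50, true), (30, true), (40, false), (70, false), (85, false), (105, false), (5, true)])],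
   [59, 0, 52, 31, 16, 14, 56, 8, 55, 9, 5, 40, 18, 19, 45, 44, 42, 43, 29, 26, 27, 28, 39, 2, 38, 3, 51, 50, 32, 33, 36, 34, 46, 12, 25, 24, 22, 23, 53, 30, 17, 15, 49, 11, 48, 10, 21, 20, 41, 4, 47, 13, 37, 35, 1, 58, 6, 57, 7, 54],
   ([0, 3, 2, 4, 1], [0, 4, 2, 1, 3], [0, 3, 1, 2, 4], [0, 2, 3, 1, 4], true)),
   ([some (18645141155486421749859557393608915, 13629219, [(115, true), (20, true), (85, false), (65, false), (75, false), (50, true), (5, false), (45, false), (70, true), (15, true), (25, true), (105, false), (10, true), (95, true), (110, true), (40, true), (55, true), (90, true), (80, true), (0, true), (100, false), (60, false), (35, true), (30, true)]),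
    none,
    some (258784077795162200192732444115373472, 14101751, [(0, true), (15, true), (40, true), (10, false), (60, true), (30, true), (115, true), (110, true), (85, false), (20, false), (70, true), (105, true), (65, false), (5, true), (35, false), (50, false), (100, true), (90, true), (75, true), (55, false), (95, true), (80, false), (45, true), (25, true)]),
    none,
    some (310753476269186866884764762881369106, 11006430, [(5, false), (85, true), (50, true), (25, true), (30, true), (80, false), (60, true), (115, true), (95, true), (10, false), (75, false), (45, false), (105, true), (20, true), (35, true), (110, true), (70, true), (40, true), (0, true), (90, false), (65, false), (100, true), (55, false), (15, true)]),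
    none,
    some (258784077795162200192732444115373472, 14101751, [(0, true), (15, true), (40, true), (10, false), (60, true), (30, true), (115, true), (110, true), (85, false), (20, false), (70, true), (105, true), (65, false), (5, true), (35, false), (50, false), (100, true), (90, true), (75, true), (55, false), (95, true), (80, false), (45, true), (25, true)]),
    none,
    some (837691525854833343579663592678893120, 4282144, [(0, false), (90, false), (75, false), (95, false), (35, false), (110, true), (30, false), (20, false), (50, true), (10, true), (105, true), (55, false), (15, true), (65, false), (60, true), (80, false), (45, true), (40, false), (5, false), (70, false), (115, false), (85, false), (100, true), (25, false)]),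
    none,
    some (220048119786717969456457942323765344, 16569195, [(0, true), (65, true), (15, false), (5, true), (45, false), (115, true), (25, true), (70, false), (10, true), (110, true), (75, false), (95, false), (20, true), (60, false), (50, true), (90, true), (105, false), (40, false), (85, true), (100, true), (80, true), (55, true), (35, true), (30, true)]),
    none,
    some (675058179405286524919430908197619831, 16349549, [(95, true), (105, false), (65, true), (5, true), (15, false), (40, true), (90, true), (30, false), (110, true), (35, false), (55, false), (45, true), (75, true), (80, true), (60, true), (100, false), (115, true), (20, false), (10, false), (50, true), (85, true), (25, true), (70, true), (0, true)])],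
   [59, 1, 51, 32, 19, 21, 56, 8, 58, 6, 2, 39, 17, 16, 42, 44, 45, 43, 22, 25, 24, 23, 40, 5, 41, 4, 52, 53, 31, 30, 36, 37, 49, 11, 26, 27, 29, 28, 50, 33, 18, 20, 46, 12, 47, 13, 14, 15, 38, 3, 48, 10, 34, 35, 0, 55, 9, 57, 7, 54],
   ([0, 4, 2, 1, 3], [0, 3, 2, 4, 1], [0, 4, 1, 3, 2], [0, 2, 4, 3, 1], false)),
   ([some (816582144535301124833932744836005312, 13629219, [(0, true), (20, true), (105, false), (40, false), (30, false), (65, true), (25, false), (85, false), (15, true), (100, true), (50, true), (90, false), (35, true), (70, true), (5, true), (10, true), (45, true), (60, true), (75, true), (115, true), (80, false), (110, false), (55, true), (95, true)]),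
    none,
    some (258784077795162200192732444115373472, 14101751, [(0, true), (15, true), (40, true), (10, false), (60, true), (30, true), (115, true), (110, true), (85, false), (20, false), (70, true), (105, true), (65, false), (5, true), (35, false), (50, false), (100, true), (90, true), (75, true), (55, false), (95, true), (80, false), (45, true), (25, true)]),
    none,
    some (141989132273303787815889008212387848, 8632760, [(5, false), (80, false), (15, false), (115, true), (55, true), (40, true), (65, false), (50, true), (0, true), (100, false), (10, false), (25, true), (105, true), (110, true), (60, false), (45, true), (35, true), (70, true), (30, false), (90, false), (85, false), (95, false), (75, false), (20, true)]),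
    none,
    some (258784077795162200192732444115373472, 14101751, [(0, true), (15, true), (40, true), (10, false), (60, true), (30, true), (115, true), (110, true), (85, false), (20, false), (70, true), (105, true), (65, false), (5, true), (35, false), (50, false), (100, true), (90, true), (75, true), (55, false), (95, true), (80, false), (45, true), (25, true)]),
    none,
    some (971620576635340505064640470816363541, 5365074, [(5, false), (45, true), (35, false), (70, false), (60, true), (10, false), (80, true), (15, false), (65, true), (100, false), (85, true), (75, true), (110, true), (50, false), (20, true), (95, true), (105, true), (55, false), (30, false), (90, false), (25, true), (0, false), (40, true), (115, false)]),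
    none,
    some (258784077795162200192732444115373472, 14101751, [(0, true), (15, true), (40, true), (10, false), (60, true), (30, true), (115, true), (110, true), (85, false), (20, false), (70, true), (105, true), (65, false), (5, true), (35, false), (50, false), (100, true), (90, true), (75, true), (55, false), (95, true), (80, false), (45, true), (25, true)]),
    none,
    some (395516178563854897490496848473299683, 8817383, [(90, true), (25, true), (75, true), (0, false), (65, false), (55, true), (10, true), (100, true), (95, false), (115, true), (45, false), (80, true), (35, false), (20, false), (15, false), (60, true), (110, false), (50, true), (30, true), (40, false), (70, false), (85, false), (105, false), (5, true)])],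
   [35, 47, 28, 49, 10, 45, 36, 54, 24, 12, 37, 18, 40, 13, 14, 7, 21, 43, 29, 4, 58, 52, 17, 34, 38, 25, 23, 50, 46, 30, 56, 2, 32, 9, 3, 55, 22, 51, 53, 33, 39, 15, 31, 6, 1, 16, 42, 20, 41, 26, 0, 19, 5, 59, 48, 27, 11, 57, 44, 8],
   ([1, 2, 4, 0, 3], [3, 0, 1, 4, 2], [2, 4, 3, 1, 0], [4, 3, 0, 2, 1], false)),
   ([some (18645141155486421749859557393608915, 13629219, [(115, true), (20, true), (85, false), (65, false), (75, false), (50, true), (5, false), (45, false), (70, true), (15, true), (25, true), (105, false), (10, true), (95, true), (110, true), (40, true), (55, true), (90, true), (80, true), (0, true), (100, false), (60, false), (35, true), (30, true)]),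
    none,
    some (258784077795162200192732444115373472, 14101751, [(0, true), (15, true), (40, true), (10, false), (60, true), (30, true), (115, true), (110, true), (85, false), (20, false), (70, true), (105, true), (65, false), (5, true), (35, false), (50, false), (100, true), (90, true), (75, true), (55, false), (95, true), (80, false), (45, true), (25, true)]),
    none,
    some (310753476269186866884764762881369106, 11006430, [(5, false), (85, true), (50, true), (25, true), (30, true), (80, false), (60, true), (115, true), (95, true), (10, false), (75, false), (45, false), (105, true), (20, true), (35, true), (110, true), (70, true), (40, true), (0, true), (90, false), (65, false), (100, true), (55, false), (15, true)]),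
    none,
    some (258784077795162200192732444115373472, 14101751, [(0, true), (15, true), (40, true), (10, false), (60, true), (30, true), (115, true), (110, true), (85, false), (20, false), (70, true), (105, true), (65, false), (5, true), (35, false), (50, false), (100, true), (90, true), (75, true), (55, false), (95, true), (80, false), (45, true), (25, true)]),
    none,
    some (315699140819236809091851966375646219, 14596455, [(5, true), (85, true), (45, true), (15, false), (40, false), (30, true), (105, true), (115, false), (70, true), (50, false), (75, false), (0, true), (55, true), (80, true), (25, false), (35, true), (60, false), (65, true), (100, true), (110, true), (20, true), (10, false), (95, true), (90, true)])],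
   [48, 35, 13, 42, 23, 46, 36, 27, 54, 11, 5, 56, 6, 31, 26, 41, 37, 18, 33, 49, 53, 28, 43, 14, 7, 21, 51, 55, 3, 22, 17, 34, 10, 39, 19, 0, 9, 32, 20, 40, 30, 50, 52, 29, 58, 4, 16, 1, 59, 2, 15, 45, 25, 38, 8, 44, 12, 57, 24, 47],
   ([1, 2, 0, 3, 4], [2, 0, 1, 3, 4], [2, 0, 4, 1, 3], [1, 3, 0, 4, 2], true)),
   ([some (22701218618443307285306235306026195, 13629219, [(115, true), (50, true), (40, false), (95, false), (70, false), (35, true), (5, false), (65, false), (55, true), (10, true), (90, true), (85, false), (60, true), (45, true), (25, true), (105, true), (75, true), (110, true), (80, true), (0, true), (100, false), (15, false), (20, true), (30, true)]),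
    none,
    some (258784077795162200192732444115373472, 14101751, [(0, true), (15, true), (40, true), (10, false), (60, true), (30, true), (115, true), (110, true), (85, false), (20, false), (70, true), (105, true), (65, false), (5, true), (35, false), (50, false), (100, true), (90, true), (75, true), (55, false), (95, true), (80, false), (45, true), (25, true)]),
    none,
    some (141989132273303787815889008212387848, 8632760, [(5, false), (80, false), (15, false), (115, true), (55, true), (40, true), (65, false), (50, true), (0, true), (100, false), (10, false), (25, true), (105, true), (110, true), (60, false), (45, true), (35, true), (70, true), (30, false), (90, false), (85, false), (95, false), (75, false), (20, true)]),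
    none,
    some (258784077795162200192732444115373472, 14101751, [(0, true), (15, true), (40, true), (10, false), (60, true), (30, true), (115, true), (110, true), (85, false), (20, false), (70, true), (105, true), (65, false), (5, true), (35, false), (50, false), (100, true), (90, true), (75, true), (55, false), (95, true), (80, false), (45, true), (25, true)]),
    none,
    some (971620576635340505064640470816363541, 5365074, [(5, false), (45, true), (35, false), (70, false), (60, true), (10, false), (80, true), (15, false), (65, true), (100, false), (85, true), (75, true), (110, true), (50, false), (20, true), (95, true), (105, true), (55, false), (30, false), (90, false), (25, true), (0, false), (40, true), (115, false)]),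
    none,
    some (258784077795162200192732444115373472, 14101751, [(0, true), (15, true), (40, true), (10, false), (60, true), (30, true), (115, true), (110, true), (85, false), (20, false), (70, true), (105, true), (65, false), (5, true), (35, false), (50, false), (100, true), (90, true), (75, true), (55, false), (95, true), (80, false), (45, true), (25, true)]),
    none,
    some (649174795036959710701726000907335691, 10743859, [(5, true), (55, true), (70, false), (105, false), (80, true), (25, true), (40, false), (20, false), (85, false), (15, false), (65, false), (0, false), (100, true), (50, true), (10, true), (115, true), (60, true), (30, true), (45, false), (95, false), (110, false), (75, true), (35, false), (90, true)])],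
   [15, 58, 19, 34, 25, 49, 39, 47, 41, 29, 10, 40, 22, 52, 2, 44, 13, 33, 9, 51, 54, 21, 56, 45, 1, 37, 26, 50, 4, 43, 11, 31, 23, 12, 16, 24, 18, 46, 7, 30, 6, 59, 14, 36, 48, 5, 28, 20, 55, 32, 8, 42, 3, 35, 38, 0, 17, 57, 53, 27],
   ([4, 2, 0, 1, 3], [2, 3, 1, 4, 0], [1, 4, 3, 0, 2], [3, 0, 4, 2, 1], false))]

/-- orbit words of the stabiliser, part 4 -/
def stabW4 : List Ent :=
  [([some (18645141155486421749859557393608915, 13629219, [(115, true), (20, true), (85, false), (65, false), (75, false), (50, true), (5, false), (45, false), (70, true), (15, true), (25, true), (105, false), (10, true), (95, true), (110, true), (40, true), (55, true), (90, true), (80, true), (0, true), (100, false), (60, false), (35, true), (30, true)]),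
    none,
    some (258784077795162200192732444115373472, 14101751, [(0, true), (15, true), (40, true), (10, false), (60, true), (30, true), (115, true), (110, true), (85, false), (20, false), (70, true), (105, true), (65, false), (5, true), (35, false), (50, false), (100, true), (90, true), (75, true), (55, false), (95, true), (80, false), (45, true), (25, true)]),
    none,
    some (310753476269186866884764762881369106, 11006430, [(5, false), (85, true), (50, true), (25, true), (30, true), (80, false), (60, true), (115, true), (95, true), (10, false), (75, false), (45, false), (105, true), (20, true), (35, true), (110, true), (70, true), (40, true), (0, true), (90, false), (65, false), (100, true), (55, false), (15, true)]),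
    none,
    some (258784077795162200192732444115373472, 14101751, [(0, true), (15, true), (40, true), (10, false), (60, true), (30, true), (115, true), (110, true), (85, false), (20, false), (70, true), (105, true), (65, false), (5, true), (35, false), (50, false), (100, true), (90, true), (75, true), (55, false), (95, true), (80, false), (45, true), (25, true)]),
    none,
    some (293488234061021915417565687144031253, 6594610, [(5, false), (100, true), (110, false), (105, false), (50, true), (55, true), (30, false), (115, false), (40, false), (10, false), (65, false), (80, false), (95, false), (35, true), (85, false), (70, true), (60, false), (15, false), (20, true), (90, false), (45, false), (0, true), (75, true), (25, false)]),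
    none,
    some (258784077795162200192732444115373472, 14101751, [(0, true), (15, true), (40, true), (10, false), (60, true), (30, true), (115, true), (110, true), (85, false), (20, false), (70, true), (105, true), (65, false), (5, true), (35, false), (50, false), (100, true), (90, true), (75, true), (55, false), (95, true), (80, false), (45, true), (25, true)]),
    none,
    some (141989132273303787815889008212387848, 8632760, [(5, false), (80, false), (15, false), (115, true), (55, true), (40, true), (65, false), (50, true), (0, true), (100, false), (10, false), (25, true), (105, true), (110, true), (60, false), (45, true), (35, true), (70, true), (30, false), (90, false), (85, false), (95, false), (75, false), (20, true)]),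
    none,
    some (258784077795162200192732444115373472, 14101751, [(0, true), (15, true), (40, true), (10, false), (60, true), (30, true), (115, true), (110, true), (85, false), (20, false), (70, true), (105, true), (65, false), (5, true), (35, false), (50, false), (100, true), (90, true), (75, true), (55, false), (95, true), (80, false), (45, true), (25, true)]),
    none,
    some (971620576635340505064640470816363541, 5365074, [(5, false), (45, true), (35, false), (70, false), (60, true), (10, false), (80, true), (15, false), (65, true), (100, false), (85, true), (75, true), (110, true), (50, false), (20, true), (95, true), (105, true), (55, false), (30, false), (90, false), (25, true), (0, false), (40, true), (115, false)]),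
    none,
    some (258784077795162200192732444115373472, 14101751, [(0, true), (15, true), (40, true), (10, false), (60, true), (30, true), (115, true), (110, true), (85, false), (20, false), (70, true), (105, true), (65, false), (5, true), (35, false), (50, false), (100, true), (90, true), (75, true), (55, false), (95, true), (80, false), (45, true), (25, true)]),
    none,
    some (395516178563854897490496848473299683, 8817383, [(90, true), (25, true), (75, true), (0, false), (65, false), (55, true), (10, true), (100, true), (95, false), (115, true), (45, false), (80, true), (35, false), (20, false), (15, false), (60, true), (110, false), (50, true), (30, true), (40, false), (70, false), (85, false), (105, false), (5, true)])],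
   [20, 55, 37, 16, 46, 26, 22, 38, 48, 40, 28, 11, 12, 32, 25, 53, 3, 43, 56, 42, 0, 34, 6, 52, 54, 14, 5, 44, 10, 30, 29, 51, 13, 39, 21, 47, 36, 2, 7, 33, 9, 59, 19, 17, 27, 49, 4, 35, 8, 45, 58, 31, 23, 15, 24, 1, 18, 57, 50, 41],
   ([2, 1, 0, 4, 3], [2, 1, 0, 4, 3], [3, 4, 2, 0, 1], [3, 4, 2, 0, 1], false)),
   ([some (801536388264982951020148712011214144, 13629219, [(0, true), (55, true), (90, false), (85, false), (45, false), (20, true), (25, false), (70, false), (30, true), (110, true), (5, true), (10, false), (100, true), (40, true), (60, true), (105, true), (15, true), (50, true), (75, true), (115, true), (80, false), (35, false), (65, true), (95, true)]),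
    none,
    some (258784077795162200192732444115373472, 14101751, [(0, true), (15, true), (40, true), (10, false), (60, true), (30, true), (115, true), (110, true), (85, false), (20, false), (70, true), (105, true), (65, false), (5, true), (35, false), (50, false), (100, true), (90, true), (75, true), (55, false), (95, true), (80, false), (45, true), (25, true)]),
    none,
    some (310753476269186866884764762881369106, 11006430, [(5, false), (85, true), (50, true), (25, true), (30, true), (80, false), (60, true), (115, true), (95, true), (10, false), (75, false), (45, false), (105, true), (20, true), (35, true), (110, true), (70, true), (40, true), (0, true), (90, false), (65, false), (100, true), (55, false), (15, true)]),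
    none,
    some (258784077795162200192732444115373472, 14101751, [(0, true), (15, true), (40, true), (10, false), (60, true), (30, true), (115, true), (110, true), (85, false), (20, false), (70, true), (105, true), (65, false), (5, true), (35, false), (50, false), (100, true), (90, true), (75, true), (55, false), (95, true), (80, false), (45, true), (25, true)]),
    none,
    some (551167350658764319848948886024162019, 8578263, [(90, true), (30, true), (10, true), (0, false), (75, true), (85, false), (25, true), (55, true), (110, false), (35, false), (100, true), (40, false), (95, false), (115, true), (50, true), (60, true), (20, false), (80, true), (65, false), (105, false), (45, false), (70, false), (15, false), (5, true)])],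
   [55, 24, 14, 52, 28, 45, 40, 38, 50, 18, 10, 30, 33, 16, 42, 0, 34, 56, 36, 2, 47, 21, 12, 32, 35, 4, 26, 59, 46, 9, 39, 31, 49, 17, 3, 53, 43, 25, 54, 6, 11, 8, 51, 29, 15, 23, 37, 7, 44, 5, 27, 19, 13, 58, 20, 48, 22, 57, 1, 41],
   ([2, 3, 1, 4, 0], [4, 2, 0, 1, 3], [3, 0, 4, 2, 1], [1, 4, 3, 0, 2], false)),
   ([some (45806780264351157218325901822280370, 9804902, [(55, false), (115, true), (50, true), (110, false), (75, false), (95, true), (25, true), (100, false), (45, false), (105, false), (30, true), (60, true), (15, true), (85, false), (80, false), (65, true), (10, true), (20, false), (0, true), (40, false), (35, true), (5, false), (90, false), (70, true)]),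
    none,
    some (220048119786717969456457942323765344, 16569195, [(0, true), (65, true), (15, false), (5, true), (45, false), (115, true), (25, true), (70, false), (10, true), (110, true), (75, false), (95, false), (20, true), (60, false), (50, true), (90, true), (105, false), (40, false), (85, true), (100, true), (80, true), (55, true), (35, true), (30, true)]),
    none,
    some (767411102284479944157631050657350944, 12892080, [(0, false), (15, false), (20, false), (80, false), (100, true), (55, true), (105, false), (35, true), (60, true), (5, true), (40, true), (25, false), (65, true), (50, true), (70, false), (110, true), (45, false), (10, false), (115, true), (95, false), (85, false), (75, false), (30, true), (90, true)]),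
    none,
    some (258784077795162200192732444115373472, 14101751, [(0, true), (15, true), (40, true), (10, false), (60, true), (30, true), (115, true), (110, true), (85, false), (20, false), (70, true), (105, true), (65, false), (5, true), (35, false), (50, false), (100, true), (90, true), (75, true), (55, false), (95, true), (80, false), (45, true), (25, true)]),
    none,
    some (310753476269186866884764762881369106, 11006430, [(5, false), (85, true), (50, true), (25, true), (30, true), (80, false), (60, true), (115, true), (95, true), (10, false), (75, false), (45, false), (105, true), (20, true), (35, true), (110, true), (70, true), (40, true), (0, true), (90, false), (65, false), (100, true), (55, false), (15, true)]),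
    none,
    some (258784077795162200192732444115373472, 14101751, [(0, true), (15, true), (40, true), (10, false), (60, true), (30, true), (115, true), (110, true), (85, false), (20, false), (70, true), (105, true), (65, false), (5, true), (35, false), (50, false), (100, true), (90, true), (75, true), (55, false), (95, true), (80, false), (45, true), (25, true)]),
    none,
    some (551167350658764319848948886024162019, 8578263, [(90, true), (30, true), (10, true), (0, false), (75, true), (85, false), (25, true), (55, true), (110, false), (35, false), (100, true), (40, false), (95, false), (115, true), (50, true), (60, true), (20, false), (80, true), (65, false), (105, false), (45, false), (70, false), (15, false), (5, true)])],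
   [58, 27, 21, 51, 23, 42, 39, 41, 53, 17, 13, 33, 30, 19, 45, 1, 37, 56, 36, 5, 48, 14, 11, 31, 35, 3, 25, 59, 49, 6, 40, 32, 46, 18, 4, 50, 43, 26, 54, 9, 12, 8, 52, 22, 20, 28, 34, 7, 44, 2, 24, 16, 10, 55, 15, 47, 29, 57, 0, 38],
   ([4, 0, 3, 1, 2], [1, 3, 4, 2, 0], [1, 4, 2, 3, 0], [4, 0, 2, 3, 1], true)),
   ([some (18645141155486421749859557393608915, 13629219, [(115, true), (20, true), (85, false), (65, false), (75, false), (50, true), (5, false), (45, false), (70, true), (15, true), (25, true), (105, false), (10, true), (95, true), (110, true), (40, true), (55, true), (90, true), (80, true), (0, true), (100, false), (60, false), (35, true), (30, true)]),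
    none,
    some (258784077795162200192732444115373472, 14101751, [(0, true), (15, true), (40, true), (10, false), (60, true), (30, true), (115, true), (110, true), (85, false), (20, false), (70, true), (105, true), (65, false), (5, true), (35, false), (50, false), (100, true), (90, true), (75, true), (55, false), (95, true), (80, false), (45, true), (25, true)]),
    none,
    some (310753476269186866884764762881369106, 11006430, [(5, false), (85, true), (50, true), (25, true), (30, true), (80, false), (60, true), (115, true), (95, true), (10, false), (75, false), (45, false), (105, true), (20, true), (35, true), (110, true), (70, true), (40, true), (0, true), (90, false), (65, false), (100, true), (55, false), (15, true)]),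
    none,
    some (258784077795162200192732444115373472, 14101751, [(0, true), (15, true), (40, true), (10, false), (60, true), (30, true), (115, true), (110, true), (85, false), (20, false), (70, true), (105, true), (65, false), (5, true), (35, false), (50, false), (100, true), (90, true), (75, true), (55, false), (95, true), (80, false), (45, true), (25, true)]),
    none,
    some (315699140819236809091851966375646219, 10843809, [(5, true), (85, false), (45, false), (15, false), (40, false), (30, true), (105, false), (115, true), (70, false), (50, true), (75, true), (0, false), (55, true), (80, true), (25, true), (35, false), (60, true), (65, false), (100, true), (110, false), (20, false), (10, true), (95, false), (90, true)])],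
   [50, 44, 31, 34, 19, 52, 43, 15, 59, 33, 4, 56, 9, 13, 14, 41, 45, 22, 11, 51, 47, 16, 36, 26, 8, 25, 49, 55, 2, 18, 29, 42, 32, 39, 23, 0, 6, 10, 24, 40, 12, 48, 46, 17, 58, 5, 28, 1, 54, 3, 27, 37, 21, 38, 7, 35, 30, 57, 20, 53],
   ([3, 0, 1, 4, 2], [1, 2, 4, 0, 3], [4, 3, 0, 2, 1], [2, 4, 3, 1, 0], false)),
   ([some (4164511189226929929651063095482675, 13629219, [(115, true), (90, true), (45, false), (110, false), (80, false), (15, true), (105, false), (95, false), (55, true), (5, true), (25, true), (85, false), (65, true), (50, true), (40, true), (75, true), (20, true), (30, true), (35, true), (0, true), (70, false), (100, false), (10, true), (60, true)]),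
    none,
    some (258784077795162200192732444115373472, 14101751, [(0, true), (15, true), (40, true), (10, false), (60, true), (30, true), (115, true), (110, true), (85, false), (20, false), (70, true), (105, true), (65, false), (5, true), (35, false), (50, false), (100, true), (90, true), (75, true), (55, false), (95, true), (80, false), (45, true), (25, true)]),
    none,
    some (715777984645649763547742138814451718, 1127686, [(5, false), (65, true), (50, true), (20, false), (70, false), (75, false), (0, false), (110, false), (95, true), (100, false), (40, true), (85, false), (35, true), (105, true), (55, false), (80, false), (15, true), (115, false), (30, false), (90, false), (10, true), (45, false), (25, false), (60, false)]),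
    none,
    some (258784077795162200192732444115373472, 14101751, [(0, true), (15, true), (40, true), (10, false), (60, true), (30, true), (115, true), (110, true), (85, false), (20, false), (70, true), (105, true), (65, false), (5, true), (35, false), (50, false), (100, true), (90, true), (75, true), (55, false), (95, true), (80, false), (45, true), (25, true)]),
    none,
    some (316828273789519795312394109746390608, 6011884, [(40, false), (90, false), (105, true), (60, true), (20, false), (35, true), (45, true), (115, true), (50, true), (10, true), (75, false), (65, true), (85, true), (100, true), (95, false), (15, true), (0, true), (30, true), (5, false), (80, true), (110, true), (70, false), (25, true), (55, false)]),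
    none,
    some (220048119786717969456457942323765344, 16569195, [(0, true), (65, true), (15, false), (5, true), (45, false), (115, true), (25, true), (70, false), (10, true), (110, true), (75, false), (95, false), (20, true), (60, false), (50, true), (90, true), (105, false), (40, false), (85, true), (100, true), (80, true), (55, true), (35, true), (30, true)]),
    none,
    some (675058179405286524919430908197619831, 16349549, [(95, true), (105, false), (65, true), (5, true), (15, false), (40, true), (90, true), (30, false), (110, true), (35, false), (55, false), (45, true), (75, true), (80, true), (60, true), (100, false), (115, true), (20, false), (10, false), (50, true), (85, true), (25, true), (70, true), (0, true)])],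
   [53, 44, 37, 32, 51, 16, 30, 59, 20, 43, 31, 40, 22, 45, 46, 58, 5, 17, 36, 25, 8, 26, 12, 52, 48, 19, 21, 38, 42, 29, 6, 10, 3, 56, 49, 55, 18, 2, 27, 39, 11, 47, 28, 9, 1, 13, 14, 41, 24, 34, 54, 4, 23, 0, 50, 35, 33, 57, 15, 7],
   ([3, 2, 1, 0, 4], [3, 2, 1, 0, 4], [4, 1, 3, 2, 0], [4, 1, 3, 2, 0], false))]

/-- orbit words of the stabiliser, part 5 -/
def stabW5 : List Ent :=
  [([some (45806780264351157218325901822280370, 9804902, [(55, false), (115, true), (50, true), (110, false), (75, false), (95, true), (25, true), (100, false), (45, false), (105, false), (30, true), (60, true), (15, true), (85, false), (80, false), (65, true), (10, true), (20, false), (0, true), (40, false), (35, true), (5, false), (90, false), (70, true)]),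
    none,
    some (220048119786717969456457942323765344, 16569195, [(0, true), (65, true), (15, false), (5, true), (45, false), (115, true), (25, true), (70, false), (10, true), (110, true), (75, false), (95, false), (20, true), (60, false), (50, true), (90, true), (105, false), (40, false), (85, true), (100, true), (80, true), (55, true), (35, true), (30, true)]),
    none,
    some (855654942490951681473715494150554976, 16272351, [(0, true), (40, true), (85, true), (70, true), (45, true), (105, false), (50, true), (80, true), (25, true), (60, true), (15, false), (5, true), (30, false), (20, false), (90, true), (35, false), (100, false), (10, false), (55, false), (110, true), (115, true), (65, true), (75, true), (95, true)])],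
   [47, 48, 25, 34, 37, 26, 12, 54, 44, 11, 46, 30, 33, 49, 4, 58, 52, 29, 22, 51, 55, 3, 40, 13, 20, 42, 45, 15, 10, 39, 9, 19, 16, 6, 21, 7, 43, 14, 38, 17, 18, 41, 2, 56, 59, 5, 28, 53, 50, 23, 1, 31, 32, 0, 35, 24, 36, 57, 27, 8],
   ([1, 3, 2, 0, 4], [3, 0, 2, 1, 4], [2, 1, 4, 3, 0], [4, 1, 0, 3, 2], false)),
   ([some (764059065002481124469453440122102977, 9804902, [(15, false), (0, true), (20, true), (60, false), (45, false), (40, true), (5, true), (80, false), (70, false), (10, false), (95, true), (35, true), (110, true), (90, false), (75, false), (85, true), (100, true), (55, false), (115, true), (105, false), (65, true), (25, false), (50, false), (30, true)]),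
    none,
    some (220048119786717969456457942323765344, 16569195, [(0, true), (65, true), (15, false), (5, true), (45, false), (115, true), (25, true), (70, false), (10, true), (110, true), (75, false), (95, false), (20, true), (60, false), (50, true), (90, true), (105, false), (40, false), (85, true), (100, true), (80, true), (55, true), (35, true), (30, true)]),
    none,
    some (675058179405286524919430908197619831, 16349549, [(95, true), (105, false), (65, true), (5, true), (15, false), (40, true), (90, true), (30, false), (110, true), (35, false), (55, false), (45, true), (75, true), (80, true), (60, true), (100, false), (115, true), (20, false), (10, false), (50, true), (85, true), (25, true), (70, true), (0, true)])],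
   [38, 58, 10, 32, 37, 45, 29, 53, 47, 17, 42, 12, 36, 5, 28, 20, 52, 22, 6, 25, 59, 49, 9, 21, 54, 51, 16, 24, 46, 18, 43, 4, 34, 30, 3, 35, 11, 31, 55, 40, 56, 1, 2, 33, 44, 13, 14, 48, 8, 23, 7, 19, 26, 50, 27, 0, 39, 57, 41, 15],
   ([4, 1, 0, 3, 2], [2, 1, 4, 3, 0], [1, 3, 2, 0, 4], [3, 0, 2, 1, 4], false)),
   ([some (4164511189226929929651063095482675, 13629219, [(115, true), (90, true), (45, false), (110, false), (80, false), (15, true), (105, false), (95, false), (55, true), (5, true), (25, true), (85, false), (65, true), (50, true), (40, true), (75, true), (20, true), (30, true), (35, true), (0, true), (70, false), (100, false), (10, true), (60, true)]),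
    none,
    some (258784077795162200192732444115373472, 14101751, [(0, true), (15, true), (40, true), (10, false), (60, true), (30, true), (115, true), (110, true), (85, false), (20, false), (70, true), (105, true), (65, false), (5, true), (35, false), (50, false), (100, true), (90, true), (75, true), (55, false), (95, true), (80, false), (45, true), (25, true)]),
    none,
    some (715777984645649763547742138814451718, 1127686, [(5, false), (65, true), (50, true), (20, false), (70, false), (75, false), (0, false), (110, false), (95, true), (100, false), (40, true), (85, false), (35, true), (105, true), (55, false), (80, false), (15, true), (115, false), (30, false), (90, false), (10, true), (45, false), (25, false), (60, false)]),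
    none,
    some (258784077795162200192732444115373472, 14101751, [(0, true), (15, true), (40, true), (10, false), (60, true), (30, true), (115, true), (110, true), (85, false), (20, false), (70, true), (105, true), (65, false), (5, true), (35, false), (50, false), (100, true), (90, true), (75, true), (55, false), (95, true), (80, false), (45, true), (25, true)]),
    none,
    some (840281877544162907925134937859478530, 16139089, [(5, true), (70, false), (0, false), (85, false), (30, true), (45, false), (75, true), (110, false), (80, true), (50, true), (105, false), (40, false), (65, false), (15, false), (55, true), (20, false), (95, false), (100, true), (25, true), (35, false), (115, true), (10, true), (60, true), (90, true)])],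
   [55, 41, 42, 34, 31, 13, 18, 50, 48, 22, 2, 36, 11, 45, 46, 59, 26, 9, 29, 51, 15, 23, 17, 49, 27, 19, 52, 54, 14, 6, 33, 37, 3, 43, 32, 35, 12, 4, 0, 56, 39, 58, 10, 30, 44, 5, 28, 8, 47, 21, 53, 25, 16, 7, 24, 38, 40, 57, 1, 20],
   ([2, 1, 4, 3, 0], [4, 1, 0, 3, 2], [3, 0, 2, 1, 4], [1, 3, 2, 0, 4], false)),
   ([some (796315976899060507251346755000998208, 13629219, [(0, true), (50, true), (70, false), (60, false), (75, false), (110, true), (10, false), (40, false), (15, true), (25, true), (5, true), (90, false), (85, true), (20, true), (105, true), (45, true), (55, true), (95, true), (65, true), (115, true), (30, false), (80, false), (100, true), (35, true)]),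
    none,
    some (258784077795162200192732444115373472, 14101751, [(0, true), (15, true), (40, true), (10, false), (60, true), (30, true), (115, true), (110, true), (85, false), (20, false), (70, true), (105, true), (65, false), (5, true), (35, false), (50, false), (100, true), (90, true), (75, true), (55, false), (95, true), (80, false), (45, true), (25, true)]),
    none,
    some (715777984645649763547742138814451718, 1127686, [(5, false), (65, true), (50, true), (20, false), (70, false), (75, false), (0, false), (110, false), (95, true), (100, false), (40, true), (85, false), (35, true), (105, true), (55, false), (80, false), (15, true), (115, false), (30, false), (90, false), (10, true), (45, false), (25, false), (60, false)]),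
    none,
    some (258784077795162200192732444115373472, 14101751, [(0, true), (15, true), (40, true), (10, false), (60, true), (30, true), (115, true), (110, true), (85, false), (20, false), (70, true), (105, true), (65, false), (5, true), (35, false), (50, false), (100, true), (90, true), (75, true), (55, false), (95, true), (80, false), (45, true), (25, true)]),
    none,
    some (681674634758743498925333276215773940, 11361349, [(90, true), (45, false), (10, true), (40, false), (105, false), (70, false), (55, true), (65, false), (35, false), (20, false), (25, true), (30, true), (60, true), (110, false), (50, true), (95, false), (115, true), (15, false), (100, true), (75, true), (0, false), (80, true), (85, false), (5, true)])],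
   [53, 50, 42, 21, 14, 45, 33, 35, 59, 30, 28, 9, 6, 23, 37, 27, 32, 39, 40, 31, 24, 34, 18, 49, 55, 2, 5, 58, 46, 17, 11, 51, 52, 12, 3, 54, 56, 4, 38, 29, 22, 41, 25, 36, 8, 26, 10, 0, 1, 13, 48, 19, 16, 47, 7, 20, 43, 57, 15, 44],
   ([3, 0, 2, 1, 4], [1, 3, 2, 0, 4], [4, 1, 0, 3, 2], [2, 1, 4, 3, 0], false)),
   ([some (4221535755935243921454170431149239, 0, [(115, false), (25, false), (100, false), (110, false), (55, false), (5, false), (95, false), (65, false), (105, false), (70, false), (20, false), (15, false), (35, false), (85, false), (30, false), (45, false), (75, false), (90, false), (50, false), (40, false), (80, false), (10, false), (60, false), (0, false)])],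
   [54, 59, 37, 34, 42, 45, 6, 55, 58, 9, 14, 17, 29, 26, 10, 48, 49, 11, 33, 51, 50, 32, 30, 52, 53, 31, 13, 47, 46, 12, 22, 25, 21, 18, 3, 38, 39, 2, 35, 36, 43, 44, 4, 40, 41, 5, 28, 27, 15, 16, 20, 19, 23, 24, 0, 7, 56, 57, 8, 1],
   ([0, 4, 3, 2, 1], [0, 4, 3, 2, 1], [0, 2, 1, 4, 3], [0, 2, 1, 4, 3], false))]

/-- orbit words of the stabiliser -/
def stabW : List Ent :=
  stabW0 ++
  stabW1 ++
  stabW2 ++
  stabW3 ++
  stabW4 ++
  stabW5

/-- monomial elements fixing the pair, part 0 -/
def monoW0 : List Ent :=
  [([some (984818244535754528103549039458486304, 0, [(0, false), (5, false), (10, false), (15, false), (20, false), (25, false), (30, false), (35, false), (40, false), (45, false), (50, false), (55, false), (60, false), (65, false), (70, false), (75, false), (80, false), (85, false), (90, false), (95, false), (100, false), (105, false), (110, false), (115, false)])],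
   [0, 1, 2, 3, 4, 5, 6, 7, 8, 9, 10, 11, 12, 13, 14, 15, 16, 17, 18, 19, 20, 21, 22, 23, 24, 25, 26, 27, 28, 29, 30, 31, 32, 33, 34, 35, 36, 37, 38, 39, 40, 41, 42, 43, 44, 45, 46, 47, 48, 49, 50, 51, 52, 53, 54, 55, 56, 57, 58, 59],
   ([0, 1, 2, 3, 4], [0, 1, 2, 3, 4], [0, 1, 2, 3, 4], [0, 1, 2, 3, 4], false)),
   ([some (984818244535754528103549039458486304, 4060028, [(0, false), (5, false), (10, true), (15, true), (20, true), (25, true), (30, true), (35, false), (40, true), (45, true), (50, false), (55, false), (60, true), (65, true), (70, true), (75, true), (80, true), (85, false), (90, true), (95, true), (100, true), (105, true), (110, false), (115, false)])],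
   [1, 0, 5, 4, 3, 2, 9, 7, 8, 6, 13, 12, 11, 10, 21, 20, 19, 18, 17, 16, 15, 14, 29, 28, 27, 26, 25, 24, 23, 22, 33, 32, 31, 30, 37, 35, 36, 34, 41, 40, 39, 38, 45, 43, 44, 42, 49, 48, 47, 46, 53, 52, 51, 50, 54, 58, 56, 57, 55, 59],
   ([0, 2, 1, 4, 3], [0, 2, 1, 4, 3], [0, 2, 1, 4, 3], [0, 2, 1, 4, 3], true)),
   ([some (984818244535754528103549039458486304, 4603066, [(0, false), (5, true), (10, false), (15, true), (20, true), (25, true), (30, false), (35, true), (40, false), (45, false), (50, true), (55, true), (60, true), (65, true), (70, false), (75, false), (80, false), (85, true), (90, true), (95, false), (100, false), (105, false), (110, true), (115, false)])],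
   [1, 0, 4, 5, 2, 3, 6, 8, 7, 9, 31, 30, 33, 32, 25, 24, 23, 22, 29, 28, 27, 26, 17, 16, 15, 14, 21, 20, 19, 18, 11, 10, 13, 12, 45, 44, 43, 42, 41, 40, 39, 38, 37, 36, 35, 34, 51, 50, 53, 52, 47, 46, 49, 48, 59, 58, 56, 57, 55, 54],
   ([0, 3, 4, 1, 2], [0, 3, 4, 1, 2], [0, 3, 4, 1, 2], [0, 3, 4, 1, 2], false)),
   ([some (984818244535754528103549039458486304, 8114118, [(0, false), (5, true), (10, true), (15, false), (20, false), (25, false), (30, true), (35, true), (40, true), (45, true), (50, true), (55, true), (60, false), (65, false), (70, true), (75, true), (80, true), (85, true), (90, false), (95, true), (100, true), (105, true), (110, true), (115, false)])],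
   [0, 1, 3, 2, 5, 4, 9, 8, 7, 6, 32, 33, 30, 31, 26, 27, 28, 29, 22, 23, 24, 25, 18, 19, 20, 21, 14, 15, 16, 17, 12, 13, 10, 11, 42, 44, 43, 45, 38, 39, 40, 41, 34, 36, 35, 37, 52, 53, 50, 51, 48, 49, 46, 47, 59, 55, 56, 57, 58, 54],
   ([0, 4, 3, 2, 1], [0, 4, 3, 2, 1], [0, 4, 3, 2, 1], [0, 4, 3, 2, 1], true)),
   ([some (965300289861748889990672440075108384, 0, [(0, false), (5, false), (40, false), (20, false), (90, false), (25, false), (45, false), (110, false), (30, false), (80, false), (85, false), (50, false), (15, false), (60, false), (75, false), (100, false), (10, false), (35, false), (65, false), (70, false), (105, false), (95, false), (55, false), (115, false)])],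
   [0, 1, 2, 3, 4, 5, 6, 7, 8, 9, 10, 11, 12, 13, 14, 15, 16, 17, 18, 19, 20, 21, 22, 23, 24, 25, 26, 27, 28, 29, 30, 31, 32, 33, 34, 35, 36, 37, 38, 39, 40, 41, 42, 43, 44, 45, 46, 47, 48, 49, 50, 51, 52, 53, 54, 55, 56, 57, 58, 59],
   ([0, 1, 2, 3, 4], [0, 1, 2, 3, 4], [0, 1, 2, 3, 4], [0, 1, 2, 3, 4], false))]

/-- monomial elements fixing the pair, part 1 -/
def monoW1 : List Ent :=
  [([some (965300289861748889990672440075108384, 4060028, [(0, false), (5, false), (40, true), (20, true), (90, true), (25, true), (45, true), (110, false), (30, true), (80, true), (85, false), (50, false), (15, true), (60, true), (75, true), (100, true), (10, true), (35, false), (65, true), (70, true), (105, true), (95, true), (55, false), (115, false)])],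
   [1, 0, 5, 4, 3, 2, 9, 7, 8, 6, 13, 12, 11, 10, 21, 20, 19, 18, 17, 16, 15, 14, 29, 28, 27, 26, 25, 24, 23, 22, 33, 32, 31, 30, 37, 35, 36, 34, 41, 40, 39, 38, 45, 43, 44, 42, 49, 48, 47, 46, 53, 52, 51, 50, 54, 58, 56, 57, 55, 59],
   ([0, 2, 1, 4, 3], [0, 2, 1, 4, 3], [0, 2, 1, 4, 3], [0, 2, 1, 4, 3], true)),
   ([some (965300289861748889990672440075108384, 4603066, [(0, false), (5, true), (40, false), (20, true), (90, true), (25, true), (45, false), (110, true), (30, false), (80, false), (85, true), (50, true), (15, true), (60, true), (75, false), (100, false), (10, false), (35, true), (65, true), (70, false), (105, false), (95, false), (55, true), (115, false)])],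
   [1, 0, 4, 5, 2, 3, 6, 8, 7, 9, 31, 30, 33, 32, 25, 24, 23, 22, 29, 28, 27, 26, 17, 16, 15, 14, 21, 20, 19, 18, 11, 10, 13, 12, 45, 44, 43, 42, 41, 40, 39, 38, 37, 36, 35, 34, 51, 50, 53, 52, 47, 46, 49, 48, 59, 58, 56, 57, 55, 54],
   ([0, 3, 4, 1, 2], [0, 3, 4, 1, 2], [0, 3, 4, 1, 2], [0, 3, 4, 1, 2], false)),
   ([some (965300289861748889990672440075108384, 8114118, [(0, false), (5, true), (40, true), (20, false), (90, false), (25, false), (45, true), (110, true), (30, true), (80, true), (85, true), (50, true), (15, false), (60, false), (75, true), (100, true), (10, true), (35, true), (65, false), (70, true), (105, true), (95, true), (55, true), (115, false)])],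
   [0, 1, 3, 2, 5, 4, 9, 8, 7, 6, 32, 33, 30, 31, 26, 27, 28, 29, 22, 23, 24, 25, 18, 19, 20, 21, 14, 15, 16, 17, 12, 13, 10, 11, 42, 44, 43, 45, 38, 39, 40, 41, 34, 36, 35, 37, 52, 53, 50, 51, 48, 49, 46, 47, 59, 55, 56, 57, 58, 54],
   ([0, 4, 3, 2, 1], [0, 4, 3, 2, 1], [0, 4, 3, 2, 1], [0, 4, 3, 2, 1], true)),
   ([some (978076899444677511050001024522036256, 0, [(0, false), (5, false), (30, false), (90, false), (65, false), (25, false), (80, false), (55, false), (45, false), (10, false), (35, false), (85, false), (20, false), (15, false), (100, false), (105, false), (40, false), (110, false), (60, false), (75, false), (95, false), (70, false), (50, false), (115, false)])],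
   [0, 1, 2, 3, 4, 5, 6, 7, 8, 9, 10, 11, 12, 13, 14, 15, 16, 17, 18, 19, 20, 21, 22, 23, 24, 25, 26, 27, 28, 29, 30, 31, 32, 33, 34, 35, 36, 37, 38, 39, 40, 41, 42, 43, 44, 45, 46, 47, 48, 49, 50, 51, 52, 53, 54, 55, 56, 57, 58, 59],
   ([0, 1, 2, 3, 4], [0, 1, 2, 3, 4], [0, 1, 2, 3, 4], [0, 1, 2, 3, 4], false)),
   ([some (978076899444677511050001024522036256, 4060028, [(0, false), (5, false), (30, true), (90, true), (65, true), (25, true), (80, true), (55, false), (45, true), (10, true), (35, false), (85, false), (20, true), (15, true), (100, true), (105, true), (40, true), (110, false), (60, true), (75, true), (95, true), (70, true), (50, false), (115, false)])],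
   [1, 0, 5, 4, 3, 2, 9, 7, 8, 6, 13, 12, 11, 10, 21, 20, 19, 18, 17, 16, 15, 14, 29, 28, 27, 26, 25, 24, 23, 22, 33, 32, 31, 30, 37, 35, 36, 34, 41, 40, 39, 38, 45, 43, 44, 42, 49, 48, 47, 46, 53, 52, 51, 50, 54, 58, 56, 57, 55, 59],
   ([0, 2, 1, 4, 3], [0, 2, 1, 4, 3], [0, 2, 1, 4, 3], [0, 2, 1, 4, 3], true))]

/-- monomial elements fixing the pair, part 2 -/
def monoW2 : List Ent :=
  [([some (978076899444677511050001024522036256, 4603066, [(0, false), (5, true), (30, false), (90, true), (65, true), (25, true), (80, false), (55, true), (45, false), (10, false), (35, true), (85, true), (20, true), (15, true), (100, false), (105, false), (40, false), (110, true), (60, true), (75, false), (95, false), (70, false), (50, true), (115, false)])],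
   [1, 0, 4, 5, 2, 3, 6, 8, 7, 9, 31, 30, 33, 32, 25, 24, 23, 22, 29, 28, 27, 26, 17, 16, 15, 14, 21, 20, 19, 18, 11, 10, 13, 12, 45, 44, 43, 42, 41, 40, 39, 38, 37, 36, 35, 34, 51, 50, 53, 52, 47, 46, 49, 48, 59, 58, 56, 57, 55, 54],
   ([0, 3, 4, 1, 2], [0, 3, 4, 1, 2], [0, 3, 4, 1, 2], [0, 3, 4, 1, 2], false)),
   ([some (978076899444677511050001024522036256, 8114118, [(0, false), (5, true), (30, true), (90, false), (65, false), (25, false), (80, true), (55, true), (45, true), (10, true), (35, true), (85, true), (20, false), (15, false), (100, true), (105, true), (40, true), (110, true), (60, false), (75, true), (95, true), (70, true), (50, true), (115, false)])],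
   [0, 1, 3, 2, 5, 4, 9, 8, 7, 6, 32, 33, 30, 31, 26, 27, 28, 29, 22, 23, 24, 25, 18, 19, 20, 21, 14, 15, 16, 17, 12, 13, 10, 11, 42, 44, 43, 45, 38, 39, 40, 41, 34, 36, 35, 37, 52, 53, 50, 51, 48, 49, 46, 47, 59, 55, 56, 57, 58, 54],
   ([0, 4, 3, 2, 1], [0, 4, 3, 2, 1], [0, 4, 3, 2, 1], [0, 4, 3, 2, 1], true)),
   ([some (968955966875123533138286166201145376, 0, [(0, false), (5, false), (45, false), (65, false), (60, false), (25, false), (10, false), (50, false), (80, false), (40, false), (110, false), (35, false), (90, false), (20, false), (105, false), (95, false), (30, false), (55, false), (15, false), (100, false), (70, false), (75, false), (85, false), (115, false)])],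
   [0, 1, 2, 3, 4, 5, 6, 7, 8, 9, 10, 11, 12, 13, 14, 15, 16, 17, 18, 19, 20, 21, 22, 23, 24, 25, 26, 27, 28, 29, 30, 31, 32, 33, 34, 35, 36, 37, 38, 39, 40, 41, 42, 43, 44, 45, 46, 47, 48, 49, 50, 51, 52, 53, 54, 55, 56, 57, 58, 59],
   ([0, 1, 2, 3, 4], [0, 1, 2, 3, 4], [0, 1, 2, 3, 4], [0, 1, 2, 3, 4], false)),
   ([some (968955966875123533138286166201145376, 4060028, [(0, false), (5, false), (45, true), (65, true), (60, true), (25, true), (10, true), (50, false), (80, true), (40, true), (110, false), (35, false), (90, true), (20, true), (105, true), (95, true), (30, true), (55, false), (15, true), (100, true), (70, true), (75, true), (85, false), (115, false)])],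
   [1, 0, 5, 4, 3, 2, 9, 7, 8, 6, 13, 12, 11, 10, 21, 20, 19, 18, 17, 16, 15, 14, 29, 28, 27, 26, 25, 24, 23, 22, 33, 32, 31, 30, 37, 35, 36, 34, 41, 40, 39, 38, 45, 43, 44, 42, 49, 48, 47, 46, 53, 52, 51, 50, 54, 58, 56, 57, 55, 59],
   ([0, 2, 1, 4, 3], [0, 2, 1, 4, 3], [0, 2, 1, 4, 3], [0, 2, 1, 4, 3], true)),
   ([some (968955966875123533138286166201145376, 4603066, [(0, false), (5, true), (45, false), (65, true), (60, true), (25, true), (10, false), (50, true), (80, false), (40, false), (110, true), (35, true), (90, true), (20, true), (105, false), (95, false), (30, false), (55, true), (15, true), (100, false), (70, false), (75, false), (85, true), (115, false)])],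
   [1, 0, 4, 5, 2, 3, 6, 8, 7, 9, 31, 30, 33, 32, 25, 24, 23, 22, 29, 28, 27, 26, 17, 16, 15, 14, 21, 20, 19, 18, 11, 10, 13, 12, 45, 44, 43, 42, 41, 40, 39, 38, 37, 36, 35, 34, 51, 50, 53, 52, 47, 46, 49, 48, 59, 58, 56, 57, 55, 54],
   ([0, 3, 4, 1, 2], [0, 3, 4, 1, 2], [0, 3, 4, 1, 2], [0, 3, 4, 1, 2], false))]

/-- monomial elements fixing the pair, part 3 -/
def monoW3 : List Ent :=
  [([some (968955966875123533138286166201145376, 8114118, [(0, false), (5, true), (45, true), (65, false), (60, false), (25, false), (10, true), (50, true), (80, true), (40, true), (110, true), (35, true), (90, false), (20, false), (105, true), (95, true), (30, true), (55, true), (15, false), (100, true), (70, true), (75, true), (85, true), (115, false)])],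
   [0, 1, 3, 2, 5, 4, 9, 8, 7, 6, 32, 33, 30, 31, 26, 27, 28, 29, 22, 23, 24, 25, 18, 19, 20, 21, 14, 15, 16, 17, 12, 13, 10, 11, 42, 44, 43, 45, 38, 39, 40, 41, 34, 36, 35, 37, 52, 53, 50, 51, 48, 49, 46, 47, 59, 55, 56, 57, 58, 54],
   ([0, 4, 3, 2, 1], [0, 4, 3, 2, 1], [0, 4, 3, 2, 1], [0, 4, 3, 2, 1], true)),
   ([some (970459361523271695787015306425278496, 0, [(0, false), (5, false), (80, false), (60, false), (15, false), (25, false), (40, false), (85, false), (10, false), (30, false), (55, false), (110, false), (65, false), (90, false), (95, false), (70, false), (45, false), (50, false), (20, false), (105, false), (75, false), (100, false), (35, false), (115, false)])],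
   [0, 1, 2, 3, 4, 5, 6, 7, 8, 9, 10, 11, 12, 13, 14, 15, 16, 17, 18, 19, 20, 21, 22, 23, 24, 25, 26, 27, 28, 29, 30, 31, 32, 33, 34, 35, 36, 37, 38, 39, 40, 41, 42, 43, 44, 45, 46, 47, 48, 49, 50, 51, 52, 53, 54, 55, 56, 57, 58, 59],
   ([0, 1, 2, 3, 4], [0, 1, 2, 3, 4], [0, 1, 2, 3, 4], [0, 1, 2, 3, 4], false)),
   ([some (970459361523271695787015306425278496, 4060028, [(0, false), (5, false), (80, true), (60, true), (15, true), (25, true), (40, true), (85, false), (10, true), (30, true), (55, false), (110, false), (65, true), (90, true), (95, true), (70, true), (45, true), (50, false), (20, true), (105, true), (75, true), (100, true), (35, false), (115, false)])],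
   [1, 0, 5, 4, 3, 2, 9, 7, 8, 6, 13, 12, 11, 10, 21, 20, 19, 18, 17, 16, 15, 14, 29, 28, 27, 26, 25, 24, 23, 22, 33, 32, 31, 30, 37, 35, 36, 34, 41, 40, 39, 38, 45, 43, 44, 42, 49, 48, 47, 46, 53, 52, 51, 50, 54, 58, 56, 57, 55, 59],
   ([0, 2, 1, 4, 3], [0, 2, 1, 4, 3], [0, 2, 1, 4, 3], [0, 2, 1, 4, 3], true)),
   ([some (970459361523271695787015306425278496, 4603066, [(0, false), (5, true), (80, false), (60, true), (15, true), (25, true), (40, false), (85, true), (10, false), (30, false), (55, true), (110, true), (65, true), (90, true), (95, false), (70, false), (45, false), (50, true), (20, true), (105, false), (75, false), (100, false), (35, true), (115, false)])],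
   [1, 0, 4, 5, 2, 3, 6, 8, 7, 9, 31, 30, 33, 32, 25, 24, 23, 22, 29, 28, 27, 26, 17, 16, 15, 14, 21, 20, 19, 18, 11, 10, 13, 12, 45, 44, 43, 42, 41, 40, 39, 38, 37, 36, 35, 34, 51, 50, 53, 52, 47, 46, 49, 48, 59, 58, 56, 57, 55, 54],
   ([0, 3, 4, 1, 2], [0, 3, 4, 1, 2], [0, 3, 4, 1, 2], [0, 3, 4, 1, 2], false)),
   ([some (970459361523271695787015306425278496, 8114118, [(0, false), (5, true), (80, true), (60, false), (15, false), (25, false), (40, true), (85, true), (10, true), (30, true), (55, true), (110, true), (65, false), (90, false), (95, true), (70, true), (45, true), (50, true), (20, false), (105, true), (75, true), (100, true), (35, true), (115, false)])],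
   [0, 1, 3, 2, 5, 4, 9, 8, 7, 6, 32, 33, 30, 31, 26, 27, 28, 29, 22, 23, 24, 25, 18, 19, 20, 21, 14, 15, 16, 17, 12, 13, 10, 11, 42, 44, 43, 45, 38, 39, 40, 41, 34, 36, 35, 37, 52, 53, 50, 51, 48, 49, 46, 47, 59, 55, 56, 57, 58, 54],
   ([0, 4, 3, 2, 1], [0, 4, 3, 2, 1], [0, 4, 3, 2, 1], [0, 4, 3, 2, 1], true))]

/-- monomial elements fixing the pair -/
def monoW : List Ent :=
  monoW0 ++
  monoW1 ++
  monoW2 ++
  monoW3

/-- preimages of generators -/
def genW : List Ent :=
  [([some (45806780264351157218325901822280370, 9804902, [(55, false), (115, true), (50, true), (110, false), (75, false), (95, true), (25, true), (100, false), (45, false), (105, false), (30, true), (60, true), (15, true), (85, false), (80, false), (65, true), (10, true), (20, false), (0, true), (40, false), (35, true), (5, false), (90, false), (70, true)]),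
    none,
    some (220048119786717969456457942323765344, 16569195, [(0, true), (65, true), (15, false), (5, true), (45, false), (115, true), (25, true), (70, false), (10, true), (110, true), (75, false), (95, false), (20, true), (60, false), (50, true), (90, true), (105, false), (40, false), (85, true), (100, true), (80, true), (55, true), (35, true), (30, true)]),
    none,
    some (718346447676514371829478079800510916, 4336072, [(65, false), (35, false), (10, false), (25, true), (0, false), (50, false), (40, true), (70, true), (85, true), (110, false), (20, false), (75, true), (105, false), (95, true), (5, false), (15, false), (60, false), (115, true), (30, false), (100, false), (45, false), (55, false), (80, true), (90, false)]),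
    none,
    some (338094597766541383408962466926083296, 6714673, [(0, true), (80, false), (45, false), (85, false), (110, true), (20, true), (30, false), (5, false), (115, true), (15, false), (25, true), (40, false), (75, true), (35, true), (105, true), (10, false), (55, false), (90, true), (60, true), (95, false), (50, false), (100, true), (70, true), (65, false)]),
    none,
    some (188777620681059469749000511209656816, 7756731, [(25, true), (15, true), (50, false), (90, true), (115, true), (65, true), (60, false), (80, true), (75, true), (95, true), (30, false), (45, true), (70, true), (105, false), (40, true), (5, false), (0, false), (110, true), (85, true), (55, false), (10, true), (20, true), (35, true), (100, false)])],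
   [27, 18, 14, 5, 33, 9, 42, 23, 31, 3, 7, 34, 2, 46, 12, 39, 8, 53, 20, 52, 1, 45, 55, 10, 50, 4, 11, 29, 35, 0, 21, 16, 59, 25, 26, 49, 43, 6, 57, 47, 24, 38, 37, 56, 19, 30, 54, 15, 22, 28, 40, 32, 44, 58, 13, 48, 36, 41, 17, 51],
   ([3, 0, 2, 1, 4], [1, 3, 2, 0, 4], [0, 1, 2, 3, 4], [0, 1, 2, 3, 4], false)),
   ([some (191386968571169277398009509172352109, 15048437, [(85, true), (100, false), (50, true), (5, false), (115, true), (10, true), (55, true), (60, true), (45, false), (80, true), (90, true), (75, true), (15, true), (0, false), (105, false), (40, true), (30, true), (35, false), (25, true), (110, false), (20, false), (65, true), (95, true), (70, true)]),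
    none,
    some (338094597766541383408962466926083296, 6714673, [(0, true), (80, false), (45, false), (85, false), (110, true), (20, true), (30, false), (5, false), (115, true), (15, false), (25, true), (40, false), (75, true), (35, true), (105, true), (10, false), (55, false), (90, true), (60, true), (95, false), (50, false), (100, true), (70, true), (65, false)]),
    none,
    some (670592796770936220109290778901098146, 3601676, [(15, false), (55, false), (0, true), (90, true), (110, false), (65, false), (70, false), (35, false), (85, true), (20, false), (60, true), (10, false), (100, true), (25, true), (95, true), (30, true), (115, false), (45, true), (50, true), (105, false), (75, true), (5, true), (80, false), (40, false)]),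
    none,
    some (338094597766541383408962466926083296, 6714673, [(0, true), (80, false), (45, false), (85, false), (110, true), (20, true), (30, false), (5, false), (115, true), (15, false), (25, true), (40, false), (75, true), (35, true), (105, true), (10, false), (55, false), (90, true), (60, true), (95, false), (50, false), (100, true), (70, true), (65, false)]),
    none,
    some (255101145554426390707176554032551569, 7124855, [(15, true), (65, true), (70, true), (30, false), (110, true), (25, true), (115, true), (50, false), (90, true), (85, true), (95, true), (60, false), (45, true), (35, true), (55, false), (40, true), (105, false), (0, false), (80, true), (20, true), (5, false), (10, true), (75, true), (100, false)])],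
   [50, 12, 20, 57, 48, 44, 40, 24, 30, 35, 11, 51, 53, 1, 43, 18, 15, 55, 54, 3, 47, 16, 25, 8, 37, 27, 41, 59, 22, 33, 38, 7, 26, 36, 23, 32, 6, 39, 34, 31, 29, 9, 56, 4, 17, 46, 19, 42, 58, 5, 10, 0, 13, 52, 21, 49, 2, 45, 14, 28],
   ([4, 2, 3, 0, 1], [3, 4, 1, 2, 0], [0, 1, 2, 3, 4], [0, 1, 2, 3, 4], false)),
   ([some (984818244535754528103549039458486304, 3719203, [(0, true), (5, true), (10, false), (15, false), (20, false), (25, true), (30, false), (35, false), (40, false), (45, false), (50, false), (55, false), (60, false), (65, false), (70, true), (75, true), (80, false), (85, false), (90, false), (95, true), (100, true), (105, true), (110, false), (115, false)])],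
   [1, 0, 4, 5, 2, 3, 6, 8, 7, 9, 12, 13, 10, 11, 18, 19, 20, 21, 14, 15, 16, 17, 26, 27, 28, 29, 22, 23, 24, 25, 32, 33, 30, 31, 34, 36, 35, 37, 40, 41, 38, 39, 42, 44, 43, 45, 48, 49, 46, 47, 52, 53, 50, 51, 54, 55, 57, 56, 58, 59],
   ([0, 1, 2, 3, 4], [0, 1, 2, 3, 4], [0, 1, 2, 3, 4], [0, 1, 2, 3, 4], true))]

/-- basis modulo twice -/
def basis : List ℕ :=
  [685969414946939792788870886723174866,
   602976409380655898823488498687298128,
   769129906375472376633582699105698322,
   519899659641680805127698729356771856,
   726251586409095677358922218121709107,
   645854731820494901122427005393485425,
   560098089409443496270224361174646257,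
   766533760344713864953251575108223442]

/-- invariant code words -/
def masks : List ℕ :=
  [0,
   340831,
   3719203,
   4060028,
   4394981,
   4603066,
   8114118,
   8322201,
   8455014,
   8663097,
   12174149,
   12382234,
   12717187,
   13058012,
   16436384,
   16777215]

/-- coordinates of the generators modulo twice -/
def spanC : List ℕ :=
  [251,
   0,
   231,
   232,
   63,
   186,
   101,
   187,
   10,
   84,
   229,
   59,
   228,
   97,
   182,
   185,
   94,
   217,
   102,
   183,
   110,
   191,
   209,
   8,
   94]

end Cfsg.Agent.LeechFive69Data
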