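import Cfsg.Agent.Lib.MonsterSquare
import Cfsg.Agent.Lib.CoprimeAction
import Cfsg.Agent.Lib.CharTwoLocal

/-!
The centralizer of a subgroup of odd prime order of `C(z)`, modulo that subgroup, in a group of
Monster type: reduction to the centralizer of an element of `Co0`.
-/

set_option autoImplicit false
set_option linter.style.haveILetI false

namespace Cfsg.Agent.MonsterOdd69

open Cfsg Cfsg.Agent.LargeExtraspecial Cfsg.Agent.MonsterLocal
open Cfsg.Agent.GolayBasic Cfsg.Agent.LeechBasic Cfsg.Agent.LeechAut Cfsg.Agent.LeechIndex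

/-- Congruence modulo twice the lattice. -/
def Cong (v w : leechLattice) : Prop := (v : GolayPt → ℤ) - (w : GolayPt → ℤ) ∈ twiceLeech

/-- The sum of the selected basis vectors. -/
noncomputable def comb {n : ℕ} (b : Fin n → leechLattice) (c : Fin n → Bool) : leechLattice :=
  ∑ i, if c i then b i else 0

/-- What is needed about an element of odd prime order of `Co0`. -/
structure OddData (p n : ℕ) (u : Co0) (W : Type) [Group W] where
  prime : p.Prime
  odd : p ≠ 2
  order : orderOf u = p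
  b : Fin n → leechLattice
  pos : 0 < n
  fixed : ∀ c, Cong (u • comb b c) (comb b c)
  span : ∀ v, Cong (u • v) v → ∃ c, Cong v (comb b c)
  indep : ∀ c c', Cong (comb b c) (comb b c') → c = c'
  nondeg : ∀ c, (∃ i, c i = true) → ∃ j, ¬ (16 : ℤ) ∣ dotInt (comb b c : GolayPt → ℤ) (b j)
  θ : Subgroup.centralizer ({u} : Set Co0) →* W
  surj : Function.Surjective θ
  ker : ∀ g, θ g = 1 ↔ ∃ k : ℕ, (g : Co0) = u ^ k ∨ (g : Co0) = negAut * u ^ k
  small : ∀ N : Subgroup W, N.Normal → IsPGroup 2 N → N = ⊥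
  faithful : ∀ g : Subgroup.centralizer ({u} : Set Co0),
    (∀ i, Cong ((g : Co0) • b i) (b i)) → θ g = 1

variable {G : Type*} [Group G] [Finite G] {z : G}
  {Q : Subgroup (Subgroup.centralizer ({z} : Set G))} [Q.Normal]
  {e : (Subgroup.centralizer ({z} : Set G)) ⧸ Q ≃* Spor.Co1}
  {ψ : leechLattice → Q ⧸ Subgroup.center Q}

/-- The central element `-1` of `Co0` is the only one that can appear. -/
theorem commute_of_phi {u : Co0} {p : ℕ} (hp : p.Prime) (hp2 : p ≠ 2) (hu : orderOf u = p)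
    {g : Co0} (h : phi e (g * u * g⁻¹) = phi e u) : g * u = u * g := by
  have h1 : u⁻¹ * (g * u * g⁻¹) ∈ (phi e).ker := by
    rw [MonoidHom.mem_ker, map_mul, map_inv, h, inv_mul_cancel]
  rw [ker_phi] at h1
  have hoo : orderOf (g * u * g⁻¹) = p :=
    ((SemiconjBy.conj_mk g u).orderOf_eq).symm.trans hu
  rcases center_eq h1 with h2 | h2
  · exact mul_inv_eq_iff_eq_mul.mp (inv_mul_eq_one.mp h2).symm
  · exfalso
    have h3 : g * u * g⁻¹ = u * negAut := inv_mul_eq_iff_eq_mul.mp h2
    have hodd : Odd p := hp.odd_of_ne_two hp2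
    have h4 : (u * negAut) ^ p = 1 := by rw [← h3, ← hoo, pow_orderOf_eq_one]
    have hc : Commute u negAut := (Subgroup.mem_center_iff.mp negAut_mem_center u)
    rw [hc.mul_pow, ← hu, pow_orderOf_eq_one, one_mul, hu] at h4
    have h5 : negAut * negAut = (1 : Co0) := by
      refine ext_frame fun i => Subtype.ext ?_
      rw [mul_smul, negAut_smul, negAut_smul, neg_neg, one_smul]
    obtain ⟨m, rfl⟩ := hodd
    rw [pow_succ, pow_mul, pow_two, h5, one_pow, one_mul] at h4
    have h6 := congrArg (fun a : Co0 => a • (frame none : leechLattice)) h4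
    simp only [negAut_smul, one_smul] at h6
    exact LeechStab.ne_neg (by rw [sqNorm_frame]; norm_num) h6.symm

/-- **The generic step.** -/
theorem odd_type (S : Setup Q e ψ) {p n : ℕ} {u : Co0} {W : Type} [Group W] (D : OddData p n u W)
    (B : Subgroup G) (bC : Subgroup.centralizer ({z} : Set G))
    (hB : Subgroup.zpowers (bC : G) = B) (hord : orderOf (bC : G) = p)
    (himg : QuotientGroup.mk bC = phi e u)
    (hmove : ∃ m ∈ Subgroup.centralizer (B : Set G),
      m * z * m⁻¹ ∈ Q.map (Subgroup.centralizer ({z} : Set G)).subtype ∧ m * z * m⁻¹ ≠ z)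
    [hn : (B.subgroupOf (Subgroup.centralizer (B : Set G))).Normal] :
    ∃ (zb : ↥(Subgroup.centralizer (B : Set G)) ⧸ B.subgroupOf (Subgroup.centralizer (B : Set G)))
      (Q' : Subgroup (Subgroup.centralizer ({zb} : Set _))) (_ : Q'.Normal),
      orderOf zb = 2 ∧ generalizedFittingSubgroup (Subgroup.centralizer ({zb} : Set _)) = Q' ∧
      IsExtraspecial 2 Q' ∧ Nat.card Q' = 2 ^ (n + 1) ∧
      (∃ g, (∃ hq : g * zb * g⁻¹ ∈ Subgroup.centralizer ({zb} : Set _),
        (⟨g * zb * g⁻¹, hq⟩ : Subgroup.centralizer ({zb} : Set _)) ∈ Q') ∧ g * zb * g⁻¹ ≠ zb) ∧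
      (∀ x : Subgroup.centralizer ({zb} : Set _), x ∈ Q' ↔
        ∃ q : Subgroup.centralizer (B : Set G),
          (q : G) ∈ Q.map (Subgroup.centralizer ({z} : Set G)).subtype ∧
            QuotientGroup.mk q = (x : ↥(Subgroup.centralizer (B : Set G)) ⧸ B.subgroupOf (Subgroup.centralizer (B : Set G)))) ∧
      (∃ hz : z ∈ Subgroup.centralizer (B : Set G), zb = QuotientGroup.mk ⟨z, hz⟩) ∧
      Nonempty ((Subgroup.centralizer ({zb} : Set _)) ⧸ Q' ≃* W) := by
  haveI := LeechOrder.finite_Co0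
  haveI := Fact.mk D.prime
  set Qg := Q.map (Subgroup.centralizer ({z} : Set G)).subtype with hQg
  set T := Subgroup.centralizer (B : Set G) with hT
  set K := Subgroup.centralizer ({z} : Set G) ⊓ T with hK
  set b : G := (bC : G) with hb
  have hbB : b ∈ B := hB ▸ Subgroup.mem_zpowers b
  have hTb : ∀ {x : G}, x ∈ T ↔ b * x = x * b := by
    intro x
    constructor
    · exact fun h => Subgroup.mem_centralizer_iff.mp h b hbB
    · intro h
      refine Subgroup.mem_centralizer_iff.mpr fun y hy => ?_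
      obtain ⟨k, rfl⟩ := Subgroup.mem_zpowers_iff.mp (hB ▸ hy : y ∈ Subgroup.zpowers b)
      exact (Commute.zpow_left h k).eq
  have hbz : b * z = z * b := Subgroup.mem_centralizer_singleton_iff.mp bC.2
  have hzK : z ∈ K := ⟨Subgroup.mem_centralizer_singleton_iff.mpr rfl, hTb.mpr hbz⟩
  have hBp : ∀ y ∈ B, y ^ p = 1 := by
    intro y hy
    obtain ⟨k, rfl⟩ := Subgroup.mem_zpowers_iff.mp (hB ▸ hy : y ∈ Subgroup.zpowers b)
    rw [← zpow_natCast, ← zpow_mul, mul_comm, zpow_mul, zpow_natCast, ← hord, hb,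
      pow_orderOf_eq_one, one_zpow]
  have hodd : Odd p := D.prime.odd_of_ne_two D.odd
  -- elements of `B` with square one
  have hBsq : ∀ y ∈ B, y * y = 1 → y = 1 := by
    intro y hy h2
    obtain ⟨m, hm⟩ := hodd
    have := hBp y hy
    rwa [hm, pow_succ, pow_mul, pow_two, h2, one_pow, one_mul] at this
  have hQ4 : ∀ q ∈ Qg, q * q * (q * q) = 1 := by
    intro q hq
    rcases S.lh.sq q hq with h | h <;> rw [h]
    · rw [mul_one]
    · exact S.lh.zz
  have hBQ : ∀ y ∈ B, y ∈ Qg → y = 1 := fun y hy hq =>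
    hBsq y hy (hBsq (y * y) (B.mul_mem hy hy) (hQ4 y hq))
  have hQC : ∀ q ∈ Qg, q ∈ Subgroup.centralizer ({z} : Set G) := fun q hq =>
    Subgroup.mem_centralizer_singleton_iff.mpr (S.lh.comm q hq)
  -- the quotient by `B`
  let π := QuotientGroup.mk' (B.subgroupOf T)
  have hπ : ∀ {x y : T}, π x = π y ↔ (x : G)⁻¹ * y ∈ B := fun {x y} => by
    rw [QuotientGroup.mk'_apply, QuotientGroup.mk'_apply, QuotientGroup.eq, Subgroup.mem_subgroupOf]
    rfl
  set zb : T ⧸ B.subgroupOf T := π ⟨z, hzK.2⟩ with hzb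
  set Dz := Subgroup.centralizer ({zb} : Set (T ⧸ B.subgroupOf T)) with hDz
  have hKD : ∀ k : K, π ⟨(k : G), k.2.2⟩ ∈ Dz := fun k => by
    refine Subgroup.mem_centralizer_singleton_iff.mpr ?_
    rw [hzb, ← map_mul, ← map_mul]
    exact congrArg π (Subtype.ext (Subgroup.mem_centralizer_singleton_iff.mp k.2.1))
  let f : K →* Dz := (π.comp (Subgroup.inclusion inf_le_right)).codRestrict Dz hKD
  have hfeq : ∀ {x y : K}, f x = f y ↔ (x : G)⁻¹ * y ∈ B := fun {x y} =>
    ⟨fun h => hπ.mp (congrArg Subtype.val h), fun h => Subtype.ext (hπ.mpr h)⟩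
  have hf1 : ∀ {x : K}, f x = 1 ↔ (x : G) ∈ B := fun {x} => by
    rw [← map_one f, eq_comm, hfeq]; simp
  have hfsurj : Function.Surjective f := by
    rintro ⟨d, hd⟩
    obtain ⟨x, rfl⟩ := QuotientGroup.mk'_surjective _ d
    have h1 := Subgroup.mem_centralizer_singleton_iff.mp hd
    rw [hzb, ← map_mul, ← map_mul, hπ] at h1
    simp only [Subgroup.coe_mul] at h1
    refine ⟨⟨x, Subgroup.mem_centralizer_singleton_iff.mpr ?_, x.2⟩, rfl⟩
    -- `z⁻¹ z^x` lies in `B`, which commutes with both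
    set y := ((x : T) : G)
    set c := (y * z)⁻¹ * (z * y) with hc
    have hcz : c * z = z * c := Subgroup.mem_centralizer_iff.mp hzK.2 c h1
    have hcy : c * y = y * c := Subgroup.mem_centralizer_iff.mp x.2 c h1
    have e1 : z * y = y * z * c := by rw [hc]; group
    have e2 : c * c = 1 := by
      have h5 : y = y * (c * c) := by
        calc y = z * (z * y) := by rw [← mul_assoc, S.lh.zz, one_mul]
          _ = z * (y * z * c) := by rw [← e1]
          _ = z * y * (z * c) := by group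
          _ = y * z * c * (z * c) := by rw [e1]
          _ = y * z * (c * z) * c := by group
          _ = y * (z * z) * (c * c) := by rw [hcz]; group
          _ = y * (c * c) := by rw [S.lh.zz, mul_one]
      exact mul_eq_left.mp h5.symm
    rw [hBsq c h1 e2, mul_one] at e1
    exact e1.symm
  -- `C_Q(B)`
  set S₀ := Qg.subgroupOf K with hS₀
  haveI hS₀n : S₀.Normal := ⟨fun q hq k =>
    S.lh.norm (k : G) (Subgroup.mem_centralizer_singleton_iff.mp k.2.1) (q : G) hq⟩
  set Q' := S₀.map f with hQ'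
  haveI hQ'n : Q'.Normal := hS₀n.map f hfsurj
  -- classes of elements of `C_Q(B)`
  have hcoe : ∀ a : Q, ((a : Subgroup.centralizer ({z} : Set G)) : G) ∈ Qg := S.coe_mem
  have hequiv : ∀ {h : Subgroup.centralizer ({z} : Set G)} {g : Co0}, QuotientGroup.mk h = phi e g →
      ∀ {v : leechLattice} {a a' : Q}, ψ v = QuotientGroup.mk a → ψ (g • v) = QuotientGroup.mk a' →
      ((a' : Subgroup.centralizer ({z} : Set G)) : G) = (h : G) * (a : Subgroup.centralizer ({z} : Set G)) * (h : G)⁻¹ ∨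
      ((a' : Subgroup.centralizer ({z} : Set G)) : G) = z * ((h : G) * (a : Subgroup.centralizer ({z} : Set G)) * (h : G)⁻¹) := by
    intro h g hh v a a' ha ha'
    have := S.iso.2.2.2 h g (by rw [hh]; exact (e.apply_symm_apply _).symm) v a ha
    rw [ha', S.mk_eq] at this
    simpa using this
  have hfix_of_comm : ∀ {v : leechLattice} {a : Q}, ψ v = QuotientGroup.mk a →
      b * (a : Subgroup.centralizer ({z} : Set G)) = (a : Subgroup.centralizer ({z} : Set G)) * b →
      Cong (u • v) v := by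
    intro v a ha hba
    obtain ⟨a', ha'⟩ := QuotientGroup.mk_surjective (ψ (u • v))
    refine S.psi_eq.mp (ha'.symm.trans (Eq.trans ?_ ha.symm))
    rw [S.mk_eq]
    have := hequiv himg ha ha'.symm
    rwa [hba, mul_inv_cancel_right] at this
  have hcomm_of_fix : ∀ {v : leechLattice} {a : Q}, ψ v = QuotientGroup.mk a → Cong (u • v) v →
      ((a : Subgroup.centralizer ({z} : Set G)) : G) ∈ T := by
    intro v a ha hfix
    set x := ((a : Subgroup.centralizer ({z} : Set G)) : G) with hx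
    refine hTb.mpr ?_
    rcases hequiv himg ha ((S.psi_eq.mpr hfix).trans ha) with h | h
    · exact (mul_inv_eq_iff_eq_mul.mp h.symm)
    · exfalso
      have h1 : b * x * b⁻¹ = z * x := by
        calc b * x * b⁻¹ = z * (z * (b * x * b⁻¹)) := by rw [← mul_assoc, S.lh.zz, one_mul]
          _ = z * x := by rw [← h]
      have hpow : ∀ k : ℕ, b ^ k * x * (b ^ k)⁻¹ = z ^ k * x := by
        intro k
        induction k with
        | zero => simp
        | succ k ih =>
          have hzk : b * z ^ k = z ^ k * b := (Commute.pow_right hbz k).eq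
          calc b ^ (k + 1) * x * (b ^ (k + 1))⁻¹ = b * (b ^ k * x * (b ^ k)⁻¹) * b⁻¹ := by
                rw [pow_succ']; group
            _ = z ^ k * (b * x * b⁻¹) := by rw [ih, ← mul_assoc b, hzk]; group
            _ = z ^ (k + 1) * x := by rw [h1, pow_succ, mul_assoc]
      have h2 := hpow p
      obtain ⟨m, hm⟩ := hodd
      rw [hBp b hbB, hm, pow_succ, pow_mul, pow_two, S.lh.zz] at h2
      simp only [one_pow, one_mul, mul_one, inv_one] at h2
      exact S.lh.ne_one (mul_eq_right.mp h2.symm)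
  -- the lifts of the fixed classes
  choose lift hlift using fun c => QuotientGroup.mk_surjective (ψ (comb D.b c))
  have hliftT : ∀ c, ((lift c : Subgroup.centralizer ({z} : Set G)) : G) ∈ T := fun c =>
    hcomm_of_fix (hlift c).symm (D.fixed c)
  let lk : (Fin n → Bool) → K := fun c => ⟨(lift c : Subgroup.centralizer ({z} : Set G)),
    (lift c : Subgroup.centralizer ({z} : Set G)).2, hliftT c⟩
  have hclass : ∀ {x : G}, x ∈ Qg → x ∈ T → ∃ c, x = (lk c : G) ∨ x = z * (lk c : G) := by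
    intro x hxQ hxT
    obtain ⟨a, ha, rfl⟩ := hxQ
    obtain ⟨v, hv⟩ := S.iso.2.1 (QuotientGroup.mk (⟨a, ha⟩ : Q))
    obtain ⟨c, hc⟩ := D.span v (hfix_of_comm hv (hTb.mp hxT))
    refine ⟨c, ?_⟩
    have h := hv.symm.trans ((S.psi_eq.mpr hc).trans (hlift c).symm)
    rw [S.mk_eq] at h
    exact h
  have hlk_inj : ∀ {c c'}, ((lk c : G) = lk c' ∨ (lk c : G) = z * lk c') → c = c' := by
    intro c c' h
    refine D.indep c c' (S.psi_eq.mp ?_)
    rw [← hlift c, ← hlift c', S.mk_eq]
    exact h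
  -- extraspecial
  let zK : K := ⟨z, hzK⟩
  have hzQ : z ∈ Qg := S.lh.mem
  have hfne : ∀ {x : K}, (x : G) ∈ Qg → (x : G) ≠ 1 → f x ≠ 1 := fun {x} hx h1 h =>
    h1 (hBQ _ (hf1.mp h) hx)
  have hfinj : ∀ {x y : K}, (x : G) ∈ Qg → (y : G) ∈ Qg → f x = f y → x = y := fun {x y} hx hy h =>
    Subtype.ext (inv_mul_eq_one.mp (hBQ _ (hfeq.mp h) (Qg.mul_mem (Qg.inv_mem hx) hy)))
  have hpartner : ∀ c, (∃ i, c i = true) → ∃ j : K, (j : G) ∈ Qg ∧ (j : G) * lk c * (j : G)⁻¹ = z * lk c := by
    intro c hc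
    obtain ⟨i, hi⟩ := D.nondeg c hc
    have hb1 : comb D.b (fun k => decide (k = i)) = D.b i := by
      simp [comb]
    refine ⟨lk (fun k => decide (k = i)), hcoe _, ?_⟩
    refine (S.lh.toExt.not_comm_iff (hcoe _) (hcoe _)).mp fun h => hi ?_
    rw [← hb1]
    exact (S.comm_iff (hlift c).symm (hlift _).symm).mp (Subtype.ext (Subtype.ext h.symm))
  have hext : Ext Q' (f zK) := by
    refine ⟨⟨zK, hzQ, rfl⟩, hfne hzQ S.lh.ne_one, ?_, ?_, ?_, ?_, ?_⟩
    · rw [← map_mul, show zK * zK = 1 from Subtype.ext S.lh.zz, map_one]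
    · rintro _ ⟨q, hq, rfl⟩
      rw [← map_mul, ← map_mul]
      exact congrArg f (Subtype.ext (S.lh.comm (q : G) hq))
    · rintro _ ⟨q, hq, rfl⟩
      rw [← map_mul, ← map_one f]
      exact (S.lh.sq (q : G) hq).imp (fun h => congrArg f (Subtype.ext h))
        fun h => congrArg f (Subtype.ext h)
    · rintro _ ⟨q, hq, rfl⟩ _ ⟨r, hr, rfl⟩
      rw [← map_inv, ← map_mul, ← map_mul, ← map_mul]
      exact (S.lh.conj (q : G) hq (r : G) hr).imp (fun h => congrArg f (Subtype.ext h))
        fun h => congrArg f (Subtype.ext h)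
    · rintro _ ⟨q, hq, rfl⟩ h1 h2
      obtain ⟨c, hc⟩ := hclass hq q.2.2
      have hc0 : ∃ i, c i = true := by
        by_contra h0
        push Not at h0
        have hz0 : comb D.b c = 0 := by
          unfold comb; exact Finset.sum_eq_zero fun i _ => by simp [Bool.eq_false_iff.mpr (h0 i)]
        have h3 := hlift c
        rw [hz0, S.psi_zero, S.mk_eq] at h3
        simp only [Subgroup.coe_one, mul_one] at h3
        have : (q : G) = 1 ∨ (q : G) = z := by
          rcases hc with hc | hc <;> rcases h3 with h3 | h3 <;>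
            simp [lk, h3, S.lh.zz] at hc <;> simp [hc]
        rcases this with h | h
        · exact h1 (by rw [show q = 1 from Subtype.ext h, map_one])
        · exact h2 (by rw [show q = zK from Subtype.ext h])
      obtain ⟨j, hjQ, hj⟩ := hpartner c hc0
      refine ⟨f j, ⟨j, hjQ, rfl⟩, ?_⟩
      rw [← map_inv, ← map_mul, ← map_mul, ← map_mul]
      refine congrArg f (Subtype.ext ?_)
      show (j : G) * q * (j : G)⁻¹ = z * q
      have hjz : (j : G) * z = z * j := S.lh.comm _ hjQ
      rcases hc with hc | hc <;> rw [show (q : G) = _ from hc]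
      · exact hj
      · rw [← mul_assoc (j : G), hjz, mul_assoc z (j : G), mul_assoc z, hj]
  set c0 : Fin n → Bool := fun k => decide (k = ⟨0, D.pos⟩) with hc0
  have hc0' : ∃ i, c0 i = true := ⟨⟨0, D.pos⟩, by simp [hc0]⟩
  have hEQ : IsExtraspecial 2 Q' := by
    obtain ⟨j, hjQ, hj⟩ := hpartner c0 hc0'
    refine hext.isExtraspecial (x := f (lk c0)) ⟨lk c0, hcoe _, rfl⟩ ?_ ?_
    · refine hfne (hcoe _) fun h => S.lh.ne_one ?_
      rw [h] at hj
      simpa using hj.symm
    · intro h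
      have h' : (lk c0 : G) = z := congrArg Subtype.val (hfinj (y := zK) (hcoe _) hzQ h)
      rw [h', S.lh.comm (j : G) hjQ, mul_inv_cancel_right, S.lh.zz] at hj
      exact S.lh.ne_one hj
  -- the order
  have hcard : Nat.card Q' = 2 ^ (n + 1) := by
    let F : (Fin n → Bool) × Bool → Q' := fun x =>
      if x.2 then ⟨f (zK * lk x.1), ⟨_, Qg.mul_mem hzQ (hcoe _), rfl⟩⟩
      else ⟨f (lk x.1), ⟨_, hcoe _, rfl⟩⟩
    have hF : Function.Bijective F := by
      constructor
      · rintro ⟨c, a⟩ ⟨c', a'⟩ h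
        have h' := congrArg (Subtype.val : Q' → Dz) h
        cases a <;> cases a' <;> simp only [F, Bool.false_eq_true, if_false, if_true] at h' <;>
          have h2 := congrArg Subtype.val (hfinj (by first | exact hcoe _ | exact Qg.mul_mem hzQ (hcoe _))
            (by first | exact hcoe _ | exact Qg.mul_mem hzQ (hcoe _)) h') <;>
          (try simp only [Subgroup.coe_mul, zK] at h2)
        · rw [hlk_inj (Or.inl h2)]
        · have h3 := hlk_inj (Or.inr h2)
          subst h3
          exact absurd (mul_eq_right.mp h2.symm) S.lh.ne_one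
        · have h3 := hlk_inj (Or.inr h2.symm)
          subst h3
          exact absurd (mul_eq_right.mp h2) S.lh.ne_one
        · rw [hlk_inj (Or.inl (mul_left_cancel h2))]
      · rintro ⟨_, q, hq, rfl⟩
        obtain ⟨c, hc | hc⟩ := hclass hq q.2.2
        · exact ⟨(c, false), Subtype.ext (congrArg f (Subtype.ext hc.symm))⟩
        · exact ⟨(c, true), Subtype.ext (congrArg f (Subtype.ext hc.symm))⟩
    rw [← Nat.card_congr (Equiv.ofBijective F hF), Nat.card_prod, Nat.card_fun, Nat.card_eq_fintype_card,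
      Nat.card_eq_fintype_card, Fintype.card_bool, Fintype.card_fin, pow_succ]
  -- onto `W`
  have hrep : ∀ k : K, ∃ g : Subgroup.centralizer ({u} : Set Co0),
      phi e (g : Co0) = QuotientGroup.mk (⟨(k : G), k.2.1⟩ : Subgroup.centralizer ({z} : Set G)) := by
    intro k
    obtain ⟨g, hg⟩ := phi_surjective e (QuotientGroup.mk (⟨(k : G), k.2.1⟩ : Subgroup.centralizer ({z} : Set G)))
    refine ⟨⟨g, Subgroup.mem_centralizer_singleton_iff.mpr
      (commute_of_phi (e := e) D.prime D.odd D.order ?_)⟩, hg⟩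
    rw [map_mul, map_mul, map_inv, hg, ← himg, ← QuotientGroup.mk_mul, ← QuotientGroup.mk_inv,
      ← QuotientGroup.mk_mul]
    congr 1
    exact Subtype.ext (mul_inv_eq_iff_eq_mul.mpr (hTb.mp k.2.2).symm)
  have hneg : phi e negAut = 1 := by rw [← MonoidHom.mem_ker, ker_phi]; exact negAut_mem_center
  have hθeq : ∀ {g g' : Subgroup.centralizer ({u} : Set Co0)}, phi e (g : Co0) = phi e g' → D.θ g = D.θ g' := by
    intro g g' h
    have h1 : ((g⁻¹ * g' : Subgroup.centralizer ({u} : Set Co0)) : Co0) ∈ (phi e).ker := by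
      rw [MonoidHom.mem_ker, Subgroup.coe_mul, Subgroup.coe_inv, map_mul, map_inv, h, inv_mul_cancel]
    rw [ker_phi] at h1
    have h2 : D.θ (g⁻¹ * g') = 1 := (D.ker _).mpr ⟨0, by
      rcases center_eq h1 with h | h <;> simp [h]⟩
    rwa [map_mul, map_inv, inv_mul_eq_one] at h2
  choose rep hrep using hrep
  let χ : K →* W := MonoidHom.mk' (fun k => D.θ (rep k)) fun k k' => by
    show D.θ (rep (k * k')) = D.θ (rep k) * D.θ (rep k')
    rw [← map_mul]
    refine hθeq ?_
    show phi e (rep (k * k') : Co0) = phi e ((rep k : Co0) * (rep k' : Co0))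
    rw [map_mul (phi e), hrep, hrep, hrep]
    rfl
  have hχs : Function.Surjective χ := by
    intro w
    obtain ⟨g, rfl⟩ := D.surj w
    obtain ⟨k, hk⟩ := QuotientGroup.mk_surjective (phi e (g : Co0))
    have hco : (orderOf bC).Coprime (Nat.card Q) := by
      rw [← Nat.card_congr (Subgroup.equivMapOfInjective Q _ (Subgroup.subtype_injective _)).symm.toEquiv,
        S.card, ← Subgroup.orderOf_coe, hord]
      exact Nat.Coprime.pow_right 25 ((Nat.coprime_primes D.prime Nat.prime_two).mpr D.odd)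
    obtain ⟨c, hc, hkc⟩ := CoprimeAction.exists_fixed_mem_coset_zpowers (a := bC) (D := Q)
      (by rw [Subgroup.normalizer_eq_top]; exact Subgroup.mem_top _) hco k (by
        rw [← QuotientGroup.eq_one_iff, QuotientGroup.mk_mul, QuotientGroup.mk_mul, QuotientGroup.mk_mul,
          QuotientGroup.mk_inv, QuotientGroup.mk_inv, hk, himg, ← map_inv, ← map_inv, ← map_mul,
          ← map_mul, ← map_mul]
        rw [mul_assoc _ u (g : Co0), (Subgroup.mem_centralizer_singleton_iff.mp g.2).symm,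
          inv_mul_cancel_left, mul_inv_cancel, map_one])
    refine ⟨⟨(c : G), c.2, hTb.mpr (congrArg Subtype.val hc)⟩, hθeq ?_⟩
    rw [hrep, ← hk]
    exact (QuotientGroup.eq.mpr hkc).symm
  have hkerf : f.ker ≤ χ.ker := by
    intro k hk
    rw [MonoidHom.mem_ker] at hk ⊢
    obtain ⟨i, hi⟩ := Subgroup.mem_zpowers_iff.mp (hB ▸ hf1.mp hk : (k : G) ∈ Subgroup.zpowers b)
    have hub : u ∈ Subgroup.centralizer ({u} : Set Co0) := Subgroup.mem_centralizer_singleton_iff.mpr rfl
    have h1 : D.θ (rep k) = D.θ (⟨u, hub⟩ ^ i) := hθeq (by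
      rw [hrep, Subgroup.coe_zpow, map_zpow, ← himg, ← QuotientGroup.mk_zpow]
      exact congrArg _ (Subtype.ext (by rw [Subgroup.coe_zpow]; exact hi.symm)))
    show D.θ (rep k) = 1
    rw [h1, map_zpow, (D.ker ⟨u, hub⟩).mpr ⟨1, Or.inl (pow_one u).symm⟩, one_zpow]
  set χ' : Dz →* W := f.liftOfSurjective hfsurj ⟨χ, hkerf⟩ with hχ'
  have hχ'f : ∀ k, χ' (f k) = χ k := fun k => by
    rw [hχ']; exact f.liftOfRightInverse_comp_apply _ _ _ k
  have hker : χ'.ker = Q' := by
    ext d
    obtain ⟨k, rfl⟩ := hfsurj d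
    rw [MonoidHom.mem_ker, hχ'f]
    constructor
    · intro hk
      obtain ⟨i, hi⟩ := (D.ker (rep k)).mp hk
      have h1 : phi e (rep k : Co0) = QuotientGroup.mk (bC ^ i) := by
        rcases hi with h | h <;> rw [h]
        · rw [map_pow, ← himg, QuotientGroup.mk_pow]
        · rw [map_mul, hneg, one_mul, map_pow, ← himg, QuotientGroup.mk_pow]
      rw [hrep, eq_comm, QuotientGroup.eq] at h1
      have hbi : b ^ i ∈ B := B.pow_mem hbB i
      let j : K := ⟨b ^ i, (bC ^ i).2, hTb.mpr ((Commute.refl b).pow_right i).eq⟩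
      have hkj : f j = 1 := hf1.mpr hbi
      have hq : ((j⁻¹ * k : K) : G) ∈ Qg := ⟨_, h1, by simp [j, b]⟩
      exact ⟨j⁻¹ * k, hq, by rw [map_mul, map_inv, hkj, inv_one, one_mul]⟩
    · rintro ⟨q, hq, hqk⟩
      rw [← hχ'f, ← hqk, hχ'f]
      refine (D.ker _).mpr ?_
      obtain ⟨a, ha, haq⟩ := hq
      have h1 : phi e (rep q : Co0) = 1 := by
        rw [hrep, QuotientGroup.eq_one_iff]
        rw [show (⟨(q : G), q.2.1⟩ : Subgroup.centralizer ({z} : Set G)) = a from Subtype.ext haq.symm]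
        exact ha
      rw [← MonoidHom.mem_ker, ker_phi] at h1
      exact ⟨0, by rcases center_eq h1 with h | h <;> simp [h]⟩
  have hχ's : Function.Surjective χ' := fun w => (hχs w).imp' f fun k hk => (hχ'f k).trans hk
  let iso : Dz ⧸ Q' ≃* W :=
    (QuotientGroup.quotientMulEquivOfEq hker).symm.trans (QuotientGroup.quotientKerEquivOfSurjective χ' hχ's)
  -- generalized Fitting subgroup
  have hCQ : Subgroup.centralizer (Q' : Set Dz) ≤ Q' := by
    intro d hd
    obtain ⟨k, rfl⟩ := hfsurj d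
    rw [← hker, MonoidHom.mem_ker, hχ'f]
    refine D.faithful _ fun i => ?_
    set c : Fin n → Bool := fun k => decide (k = i) with hc
    have hb1 : comb D.b c = D.b i := by simp [comb, hc]
    have hx := hlift c
    rw [hb1] at hx
    obtain ⟨a', ha'⟩ := QuotientGroup.mk_surjective (ψ ((rep k : Co0) • D.b i))
    have h1 := hequiv (h := ⟨(k : G), k.2.1⟩) (hrep k).symm hx.symm ha'.symm
    have h2 : f (lk c * k) = f (k * lk c) := by
      rw [map_mul, map_mul]
      exact Subgroup.mem_centralizer_iff.mp hd _ ⟨lk c, hcoe _, rfl⟩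
    have h3 : (lk c * k : K)⁻¹ * (k * lk c) = 1 := by
      refine Subtype.ext (hBQ _ (hfeq.mp h2) ?_)
      simp only [Subgroup.coe_mul, mul_inv_rev]
      have := S.lh.norm (k : G)⁻¹ (Subgroup.mem_centralizer_singleton_iff.mp
        (Subgroup.inv_mem _ k.2.1)) _ (Qg.inv_mem (hcoe (lift c)))
      rw [inv_inv] at this
      have h4 := Qg.mul_mem this (hcoe (lift c))
      simpa [lk, mul_assoc] using h4
    have h5 : (k : G) * lk c * (k : G)⁻¹ = lk c :=
      mul_inv_eq_iff_eq_mul.mpr (congrArg Subtype.val (inv_mul_eq_one.mp h3)).symm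
    refine S.psi_eq.mp ?_
    rw [← ha', ← hx, S.mk_eq]
    change _ = (k : G) * (lk c : G) * (k : G)⁻¹ ∨ _ = z * ((k : G) * (lk c : G) * (k : G)⁻¹) at h1
    rwa [h5] at h1
  have hO2 : pCore 2 Dz = Q' := by
    have hp2 : IsPGroup 2 Q' :=
      (S.lh.toExt.isPGroup.comap_of_injective K.subtype Subtype.coe_injective).map f
    refine le_antisymm ?_ (HallCore.le_pCore hp2)
    intro d hd
    have hN := D.small ((pCore 2 Dz).map χ') ((inferInstance : (pCore 2 Dz).Normal).map χ' hχ's)
      ((HallCore.isPGroup_pCore 2 Dz).map χ')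
    rw [← hker, MonoidHom.mem_ker, ← Subgroup.mem_bot, ← hN]
    exact ⟨d, hd, rfl⟩
  have hF : generalizedFittingSubgroup Dz = Q' := by
    rw [CharTwoLocal.gen_eq_of_charTwo (show IsOfCharacteristicTwo Dz from by
      show Subgroup.centralizer (pCore 2 Dz : Set Dz) ≤ pCore 2 Dz
      rw [hO2]; exact hCQ), hO2]
  -- not weakly closed
  obtain ⟨m, hmT, hmQ, hmz⟩ := hmove
  let mT : T := ⟨m, hmT⟩
  let mK : K := ⟨m * z * m⁻¹, hQC _ hmQ, T.mul_mem (T.mul_mem hmT hzK.2) (T.inv_mem hmT)⟩
  have hmb : (f mK : T ⧸ B.subgroupOf T) = π mT * zb * (π mT)⁻¹ := by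
    rw [hzb, ← map_inv, ← map_mul, ← map_mul]; rfl
  refine ⟨zb, Q', hQ'n, ?_, hF, hEQ, hcard, ⟨π mT, ⟨hmb ▸ (f mK).2, ?_⟩, ?_⟩, ?_, ⟨hzK.2, rfl⟩, ⟨iso⟩⟩
  · refine orderOf_eq_prime ?_ fun h => hext.ne_one (Subtype.ext h)
    have h := congrArg Subtype.val hext.zz
    rw [pow_two]; exact h
  · have h : f mK ∈ Q' := ⟨mK, hmQ, rfl⟩
    convert h using 1
    exact Subtype.ext hmb.symm
  · rw [← hmb]
    intro h
    exact hmz (congrArg Subtype.val (hfinj (x := mK) (y := zK) hmQ hzQ (Subtype.ext h)))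
  · intro x
    constructor
    · rintro ⟨q, hq, rfl⟩; exact ⟨⟨q, q.2.2⟩, hq, rfl⟩
    · rintro ⟨q, hq, hqx⟩
      exact ⟨⟨q, hQC _ hq, q.2⟩, hq, Subtype.ext hqx⟩

end Cfsg.Agent.MonsterOdd69
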