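import Mathlib
import Cfsg.Prelude.Def_MonsterType

/-!
The wreath product of the alternating group of degree 5 with a group of order 2.
-/

set_option autoImplicit false

namespace Cfsg.Agent.WreathFive69

open Cfsg

/-- The alternating group of degree 5. -/
abbrev A5 : Type := alternatingGroup (Fin 5)

/-- An element of the wreath product. -/
def emb (σ τ : Equiv.Perm (Fin 5)) (f : Bool) : Equiv.Perm (Fin 5 ⊕ Fin 5) :=
  Equiv.Perm.sumCongr σ τ * (if f then (Equiv.sumComm (Fin 5) (Fin 5) : Equiv.Perm (Fin 5 ⊕ Fin 5)) else 1)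

theorem emb_inl (σ τ : Equiv.Perm (Fin 5)) (f : Bool) (i : Fin 5) :
    emb σ τ f (Sum.inl i) = if f then Sum.inr (τ i) else Sum.inl (σ i) := by
  cases f <;> simp [emb]

theorem emb_inr (σ τ : Equiv.Perm (Fin 5)) (f : Bool) (i : Fin 5) :
    emb σ τ f (Sum.inr i) = if f then Sum.inl (σ i) else Sum.inr (τ i) := by
  cases f <;> simp [emb]

theorem emb_mul (σ τ σ' τ' : Equiv.Perm (Fin 5)) (f f' : Bool) :
    emb σ τ f * emb σ' τ' f' =
      emb (σ * if f then τ' else σ') (τ * if f then σ' else τ') (f != f') := by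
  ext i
  rcases i with i | i <;> cases f <;> cases f' <;> simp [emb_inl, emb_inr]

theorem emb_one : emb 1 1 false = 1 := by
  ext i
  rcases i with i | i <;> simp [emb_inl, emb_inr]

theorem emb_inj {σ τ σ' τ' : Equiv.Perm (Fin 5)} {f f' : Bool} (h : emb σ τ f = emb σ' τ' f') :
    σ = σ' ∧ τ = τ' ∧ f = f' := by
  have h0 := fun i => congrArg (fun g : Equiv.Perm (Fin 5 ⊕ Fin 5) => g (Sum.inl i)) h
  have h1 := fun i => congrArg (fun g : Equiv.Perm (Fin 5 ⊕ Fin 5) => g (Sum.inr i)) h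
  simp only [emb_inl, emb_inr] at h0 h1
  cases f <;> cases f' <;> simp at h0 h1
  · exact ⟨Equiv.ext h0, Equiv.ext h1, rfl⟩
  · exact ⟨Equiv.ext h1, Equiv.ext h0, rfl⟩

theorem emb_mem {σ τ : Equiv.Perm (Fin 5)} (hσ : σ ∈ alternatingGroup (Fin 5))
    (hτ : τ ∈ alternatingGroup (Fin 5)) (f : Bool) : emb σ τ f ∈ alternatingFiveWreathTwo := by
  refine mul_mem (Subgroup.subset_closure (Or.inl ⟨⟨σ, hσ⟩, ⟨τ, hτ⟩, rfl⟩)) ?_
  cases f
  · exact one_mem _
  · exact Subgroup.subset_closure (Or.inr rfl)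

theorem exists_emb {w : Equiv.Perm (Fin 5 ⊕ Fin 5)} (hw : w ∈ alternatingFiveWreathTwo) :
    ∃ (σ τ : Equiv.Perm (Fin 5)) (f : Bool),
      σ ∈ alternatingGroup (Fin 5) ∧ τ ∈ alternatingGroup (Fin 5) ∧ w = emb σ τ f := by
  induction hw using Subgroup.closure_induction with
  | mem x hx =>
    rcases hx with ⟨σ, τ, rfl⟩ | rfl
    · exact ⟨σ, τ, false, σ.2, τ.2, by simp [emb]⟩
    · refine ⟨1, 1, true, one_mem _, one_mem _, ?_⟩
      ext i; rcases i with i | i <;> simp [emb_inl, emb_inr]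
  | one => exact ⟨1, 1, false, one_mem _, one_mem _, emb_one.symm⟩
  | mul x y _ _ hx hy =>
    obtain ⟨σ, τ, f, hσ, hτ, rfl⟩ := hx
    obtain ⟨σ', τ', f', hσ', hτ', rfl⟩ := hy
    refine ⟨_, _, _, ?_, ?_, emb_mul σ τ σ' τ' f f'⟩ <;> cases f <;>
      simp only [Bool.false_eq_true, if_false, if_true] <;>
      first | exact mul_mem hσ hσ' | exact mul_mem hσ hτ' | exact mul_mem hτ hσ' | exact mul_mem hτ hτ'
  | inv x _ hx =>
    obtain ⟨σ, τ, f, hσ, hτ, rfl⟩ := hx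
    refine ⟨(if f then τ else σ)⁻¹, (if f then σ else τ)⁻¹, f, ?_, ?_, ?_⟩
    · cases f <;> simp only [Bool.false_eq_true, if_false, if_true] <;> exact inv_mem (by assumption)
    · cases f <;> simp only [Bool.false_eq_true, if_false, if_true] <;> exact inv_mem (by assumption)
    · refine inv_eq_of_mul_eq_one_right ?_
      rw [emb_mul, ← emb_one]
      cases f <;> simp

theorem card_ge : 7200 ≤ Nat.card alternatingFiveWreathTwo := by
  have hA : Nat.card A5 = 60 := by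
    rw [nat_card_alternatingGroup]; simp [Nat.factorial]
  let F : A5 × A5 × Bool → alternatingFiveWreathTwo := fun x =>
    ⟨emb x.1.1 x.2.1.1 x.2.2, emb_mem x.1.2 x.2.1.2 _⟩
  have hF : Function.Injective F := by
    rintro ⟨a, b, f⟩ ⟨a', b', f'⟩ h
    obtain ⟨h1, h2, h3⟩ := emb_inj (congrArg Subtype.val h)
    simp only [Prod.mk.injEq]
    exact ⟨Subtype.ext h1, Subtype.ext h2, h3⟩
  have := Nat.card_le_card_of_injective F hF
  rw [Nat.card_prod, Nat.card_prod, hA, Nat.card_eq_fintype_card, Fintype.card_bool] at this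
  omega

theorem noncommute : ∀ σ : Equiv.Perm (Fin 5), Equiv.Perm.sign σ = 1 → σ ≠ 1 →
    ∃ α : Equiv.Perm (Fin 5), Equiv.Perm.sign α = 1 ∧ σ * α ≠ α * σ := by
  decide +kernel

/-- A nontrivial normal subgroup contains the left factor. -/
theorem left_le {N : Subgroup alternatingFiveWreathTwo} [hN : N.Normal] (h : N ≠ ⊥)
    {σ : Equiv.Perm (Fin 5)} (hσ : σ ∈ alternatingGroup (Fin 5)) :
    (⟨emb σ 1 false, emb_mem hσ (one_mem _) false⟩ : alternatingFiveWreathTwo) ∈ N := by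
  set N' := N.map alternatingFiveWreathTwo.subtype with hN'
  have hconj : ∀ x ∈ alternatingFiveWreathTwo, ∀ y ∈ N', x * y * x⁻¹ ∈ N' := by
    rintro x hx _ ⟨y, hy, rfl⟩
    exact ⟨⟨x, hx⟩ * y * ⟨x, hx⟩⁻¹, hN.conj_mem y hy _, rfl⟩
  have hcomm : ∀ x ∈ alternatingFiveWreathTwo, ∀ y ∈ N', y * x * y⁻¹ * x⁻¹ ∈ N' := fun x hx y hy => by
    rw [mul_assoc y, mul_assoc y]
    exact N'.mul_mem hy (hconj x hx _ (N'.inv_mem hy))
  have hinv : ∀ (σ τ : Equiv.Perm (Fin 5)) (f : Bool),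
      (emb σ τ f)⁻¹ = emb (if f then τ else σ)⁻¹ (if f then σ else τ)⁻¹ f := fun σ τ f => by
    refine inv_eq_of_mul_eq_one_right ?_
    rw [emb_mul, ← emb_one]
    cases f <;> simp
  obtain ⟨y, hy, hy1⟩ := (Subgroup.ne_bot_iff_exists_ne_one).mp h |>.elim fun a ha =>
    (⟨a, a.2, fun e => ha (Subtype.ext e)⟩ : ∃ y, y ∈ N ∧ y ≠ 1)
  obtain ⟨s, t, f, hs, ht, hyE⟩ := exists_emb y.2
  have hyN : emb s t f ∈ N' := ⟨y, hy, hyE⟩
  -- an element without swap
  obtain ⟨s, t, hs, ht, hst, hne⟩ : ∃ s t, s ∈ alternatingGroup (Fin 5) ∧ t ∈ alternatingGroup (Fin 5) ∧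
      emb s t false ∈ N' ∧ ¬ (s = 1 ∧ t = 1) := by
    cases f
    · exact ⟨s, t, hs, ht, hyN, fun ⟨h1, h2⟩ => hy1 (Subtype.ext (by rw [hyE, h1, h2, emb_one]; rfl))⟩
    · obtain ⟨α, hα, hα1⟩ : ∃ α : Equiv.Perm (Fin 5), Equiv.Perm.sign α = 1 ∧ α ≠ 1 := by decide +kernel
      have hαA : α ∈ alternatingGroup (Fin 5) := Equiv.Perm.mem_alternatingGroup.mpr hα
      have := hcomm _ (emb_mem hαA (one_mem _) false) _ hyN
      simp only [hinv, emb_mul] at this
      simp at this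
      exact ⟨_, _, inv_mem hαA, mul_mem (mul_mem ht hαA) (inv_mem ht), this,
        fun ⟨h1, _⟩ => hα1 (inv_eq_one.mp h1)⟩
  obtain ⟨s, t, hs, ht, hst, hs1⟩ : ∃ s t, s ∈ alternatingGroup (Fin 5) ∧ t ∈ alternatingGroup (Fin 5) ∧
      emb s t false ∈ N' ∧ s ≠ 1 := by
    by_cases h1 : s = 1
    · have := hconj _ (emb_mem (one_mem _) (one_mem _) true) _ hst
      simp only [hinv, emb_mul] at this
      simp at this
      exact ⟨t, s, ht, hs, this, fun h2 => hne ⟨h1, h2⟩⟩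
    · exact ⟨s, t, hs, ht, hst, h1⟩
  obtain ⟨α, hα, hne'⟩ := noncommute s (Equiv.Perm.mem_alternatingGroup.mp hs) hs1
  have hαA : α ∈ alternatingGroup (Fin 5) := Equiv.Perm.mem_alternatingGroup.mpr hα
  have hd := hcomm _ (emb_mem hαA (one_mem _) false) _ hst
  simp only [hinv, emb_mul] at hd
  simp at hd
  let M : Subgroup A5 :=
    { carrier := {b | emb (b : Equiv.Perm (Fin 5)) 1 false ∈ N'}
      one_mem' := by simpa [emb_one] using N'.one_mem
      mul_mem' := fun {a b} ha hb => by simpa [emb_mul] using N'.mul_mem ha hb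
      inv_mem' := fun {a} ha => by simpa [hinv] using N'.inv_mem ha }
  haveI : M.Normal := ⟨fun a ha g => by
    have := hconj _ (emb_mem g.2 (one_mem _) false) _ ha
    simp only [hinv, emb_mul] at this
    simp at this
    exact this⟩
  haveI : IsSimpleGroup A5 := alternatingGroup.isSimpleGroup_five
  rcases IsSimpleGroup.eq_bot_or_eq_top_of_normal M inferInstance with hM | hM
  · exfalso
    have hc : (⟨s * α * s⁻¹ * α⁻¹, mul_mem (mul_mem (mul_mem hs hαA) (inv_mem hs)) (inv_mem hαA)⟩ : A5) ∈ M := hd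
    rw [hM, Subgroup.mem_bot] at hc
    have hc' : s * α * s⁻¹ * α⁻¹ = 1 := congrArg Subtype.val hc
    exact hne' (mul_inv_eq_iff_eq_mul.mp (mul_inv_eq_one.mp hc'))
  · have hmem : (⟨σ, hσ⟩ : A5) ∈ M := hM ▸ Subgroup.mem_top _
    obtain ⟨n, hn, hnσ⟩ := hmem
    rwa [show (⟨emb σ 1 false, emb_mem hσ (one_mem _) false⟩ : alternatingFiveWreathTwo) = n from
      Subtype.ext hnσ.symm]

/-- There is no nontrivial normal 2-subgroup. -/
theorem small (N : Subgroup alternatingFiveWreathTwo) (hN : N.Normal) (h2 : IsPGroup 2 N) : N = ⊥ := by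
  by_contra h
  obtain ⟨α, hα, hα3, hα1⟩ : ∃ α : Equiv.Perm (Fin 5), Equiv.Perm.sign α = 1 ∧ α * α * α = 1 ∧ α ≠ 1 := by
    decide +kernel
  have hαA : α ∈ alternatingGroup (Fin 5) := Equiv.Perm.mem_alternatingGroup.mpr hα
  haveI := hN
  obtain ⟨k, hk⟩ := h2 ⟨_, left_le h hαA⟩
  have hk' : (emb α 1 false) ^ 2 ^ k = 1 := by
    have := congrArg (fun x : N => ((x : alternatingFiveWreathTwo) : Equiv.Perm (Fin 5 ⊕ Fin 5))) hk
    simpa using this
  have h3 : (emb α 1 false) ^ 3 = 1 := by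
    rw [pow_succ, pow_two, emb_mul, emb_mul, ← emb_one]
    simp [hα3]
  have h4 : emb α 1 false = 1 := by
    have := pow_gcd_eq_one.mpr ⟨hk', h3⟩
    rwa [Nat.Coprime.gcd_eq_one (Nat.Coprime.pow_left k (by norm_num)), pow_one] at this
  exact hα1 (emb_inj (h4.trans emb_one.symm)).1

end Cfsg.Agent.WreathFive69
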