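import Cfsg.Agent.Lib.LeechCent5
import Cfsg.Agent.Lib.LeechFive69Data
import Cfsg.Agent.Lib.MonsterOdd69
import Cfsg.Agent.Lib.WreathFive69

/-!
Certificates for the centralizer in `Co0` of an element of order 5 of trace 4.
-/

set_option autoImplicit false

open scoped Pointwise

namespace Cfsg.Agent.LeechFive69

open Cfsg Cfsg.Agent.GolayBasic Cfsg.Agent.LeechBasic Cfsg.Agent.LeechAut Cfsg.Agent.LeechOrbit
open Cfsg.Agent.LeechIndex
open Cfsg.Agent.LeechCert Cfsg.Agent.LeechOutTool Cfsg.Agent.LeechOutData Cfsg.Agent.LeechCent11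
open Cfsg.Agent.LeechNormalizers (permElt mem_mono_of_frame fixes_none frame_none_apply coe_permElt_smul)
open Cfsg.Agent.GolayPerm (good valid pts mem_pts pimg pimg_lt permOf permOf_mem_M24 permOf_apply valid_of_good pfun)
open Cfsg.Agent.LeechStab (mono mem_mono permHom monomial_mul monomial_congr)
open Cfsg.Agent.LeechMonomial (monomial_injective)
open Cfsg.Agent.LeechXi (isL isL_iff)
open Cfsg.Agent.LeechFreeInvolution (frameCodes)
open Cfsg.Agent.LeechCent5 (pU pU_good El_wU pattU fixed_patt cls reps sum_pts)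
open Cfsg.Agent.LeechFive69Data Cfsg.Agent.WreathFive69
open Cfsg.Agent.MonsterOdd69 (Cong comb OddData)

/-- The element of order 5. -/
noncomputable abbrev u5 : Co0 := El wU

theorem order_u5 : orderOf u5 = 5 := by
  haveI : Fact (Nat.Prime 5) := ⟨by norm_num⟩
  refine orderOf_eq_prime ?_ ?_
  · rw [← El_replicate (by decide +kernel), ← El_nil]
    exact El_eq (by decide +kernel : eqOK (rep 5 wU) [] = true)
  · rw [← El_nil]
    exact El_ne (by decide +kernel : neOK wU [] = true)

/-! ### fixed vectors of norm 32 -/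

/-- All fixed vectors of norm 32. -/
def allR : List ℕ := posR ++ negR

/-- The code of a short vector. -/
def codeOf (f : GolayPt → ℤ) : ℕ := horner ((List.range 24).map fun i => (f (pt i) + 16).toNat)

theorem vec_codeOf {f : GolayPt → ℤ} (h : sqNorm f ≤ 80) : vec (codeOf f) = f := by
  refine vec_horner (by simp) h fun p => ?_
  have := abs_le_of_sqNorm h p
  rw [List.getD_eq_getElem _ _ (by simpa using idx_lt p), List.getElem_map, List.getElem_range, pt_idx]
  omega

/-- The candidate box for one parity. -/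
def boxPar (A C : List ℤ) : Bool :=
  C.all fun c1 => C.all fun c2 => C.all fun c3 => C.all fun c4 =>
    A.all fun a => A.all fun b => A.all fun p => A.all fun q =>
      !(decide (a * a + b * b + p * p + q * q + 5 * (c1 * c1 + c2 * c2 + c3 * c3 + c4 * c4) = 32)) ||
        !(isL (pattU [a, b, p, q, c1, c2, c3, c4])) ||
        allR.contains (codeOf (pattU [a, b, p, q, c1, c2, c3, c4]))

theorem box_even : boxPar [-4, -2, 0, 2, 4] [-2, 0, 2] = true := by decide +kernel

theorem box_odd : boxPar [-5, -3, -1, 1, 3, 5] [-1, 1] = true := by decide +kernel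

theorem census32 {v : leechLattice} (hv : u5 • v = v) (hn : sqNorm (v : GolayPt → ℤ) = 32) :
    ∃ n ∈ allR, (v : GolayPt → ℤ) = vec n := by
  have hp := fixed_patt hv
  simp only [reps, List.map_cons, List.map_nil] at hp
  set a := (v : GolayPt → ℤ) (pt 0) with ha
  set b := (v : GolayPt → ℤ) (pt 23) with hb
  set p := (v : GolayPt → ℤ) (pt 1) with hp1
  set q := (v : GolayPt → ℤ) (pt 5) with hq1
  set c1 := (v : GolayPt → ℤ) (pt 2) with hc1
  set c2 := (v : GolayPt → ℤ) (pt 3) with hc2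
  set c3 := (v : GolayPt → ℤ) (pt 7) with hc3
  set c4 := (v : GolayPt → ℤ) (pt 14) with hc4
  have hmem : isL (pattU [a, b, p, q, c1, c2, c3, c4]) = true := isL_iff.mpr (hp ▸ v.2)
  have hpar : ∀ i : GolayPt, (v : GolayPt → ℤ) i % 2 = (v : GolayPt → ℤ) none % 2 :=
    (mem_leechLattice.mp v.2).1
  refine ⟨codeOf (v : GolayPt → ℤ), ?_, (vec_codeOf (by rw [hn]; norm_num)).symm⟩
  rw [hp]
  rw [sqNorm, sum_pts, hp] at hn
  rw [List.map_congr_left (g := fun i => ([a, b, p, q, c1, c2, c3, c4].getD (cls.getD i 0) 0) ^ 2)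
    (fun i hi => by rw [pattU, idx_pt (mem_pts.1 hi)])] at hn
  simp [pts, cls, List.range_succ, List.sum_cons] at hn
  have h4 : a * a + b * b + p * p + q * q + 5 * (c1 * c1 + c2 * c2 + c3 * c3 + c4 * c4) = 32 := by
    linear_combination hn
  have hA : ∀ x : ℤ, x * x ≤ 32 → -5 ≤ x ∧ x ≤ 5 := fun x hx => by constructor <;> nlinarith
  have hC : ∀ x : ℤ, 5 * (x * x) ≤ 32 → -2 ≤ x ∧ x ≤ 2 := fun x hx => by constructor <;> nlinarith
  have s1 := mul_self_nonneg a
  have s2 := mul_self_nonneg b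
  have s3 := mul_self_nonneg p
  have s4 := mul_self_nonneg q
  have s5 := mul_self_nonneg c1
  have s6 := mul_self_nonneg c2
  have s7 := mul_self_nonneg c3
  have s8 := mul_self_nonneg c4
  have r1 := hA a (by linarith)
  have r2 := hA b (by linarith)
  have r3 := hA p (by linarith)
  have r4 := hA q (by linarith)
  have r5 := hC c1 (by linarith)
  have r6 := hC c2 (by linarith)
  have r7 := hC c3 (by linarith)
  have r8 := hC c4 (by linarith)
  have e1 := hpar (pt 0)
  have e2 := hpar (pt 23)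
  have e3 := hpar (pt 1)
  have e4 := hpar (pt 5)
  have e5 := hpar (pt 2)
  have e6 := hpar (pt 3)
  have e7 := hpar (pt 7)
  have e8 := hpar (pt 14)
  rw [← ha] at e1
  rw [← hb] at e2
  rw [← hp1] at e3
  rw [← hq1] at e4
  rw [← hc1] at e5
  rw [← hc2] at e6
  rw [← hc3] at e7
  rw [← hc4] at e8
  rcases Int.emod_two_eq_zero_or_one ((v : GolayPt → ℤ) none) with hpar0 | hpar0
  · rw [hpar0] at e1 e2 e3 e4 e5 e6 e7 e8
    have hA2 : ∀ x : ℤ, -5 ≤ x ∧ x ≤ 5 → x % 2 = 0 → x ∈ ([-4, -2, 0, 2, 4] : List ℤ) := fun x h1 h2 => by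
      simp only [List.mem_cons, List.not_mem_nil, or_false]; omega
    have hC2 : ∀ x : ℤ, -2 ≤ x ∧ x ≤ 2 → x % 2 = 0 → x ∈ ([-2, 0, 2] : List ℤ) := fun x h1 h2 => by
      simp only [List.mem_cons, List.not_mem_nil, or_false]; omega
    have h := box_even
    simp only [boxPar, List.all_eq_true, Bool.or_eq_true, Bool.not_eq_true', decide_eq_false_iff_not,
      List.contains_iff_mem] at h
    rcases h c1 (hC2 _ r5 e5) c2 (hC2 _ r6 e6) c3 (hC2 _ r7 e7) c4 (hC2 _ r8 e8) a (hA2 _ r1 e1)
      b (hA2 _ r2 e2) p (hA2 _ r3 e3) q (hA2 _ r4 e4) with (h | h) | h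
    · exact absurd h4 h
    · rw [hmem] at h; exact absurd h (by decide)
    · exact h
  · rw [hpar0] at e1 e2 e3 e4 e5 e6 e7 e8
    have hA2 : ∀ x : ℤ, -5 ≤ x ∧ x ≤ 5 → x % 2 = 1 → x ∈ ([-5, -3, -1, 1, 3, 5] : List ℤ) := fun x h1 h2 => by
      simp only [List.mem_cons, List.not_mem_nil, or_false]; omega
    have hC2 : ∀ x : ℤ, -2 ≤ x ∧ x ≤ 2 → x % 2 = 1 → x ∈ ([-1, 1] : List ℤ) := fun x h1 h2 => by
      simp only [List.mem_cons, List.not_mem_nil, or_false]; omega
    have h := box_odd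
    simp only [boxPar, List.all_eq_true, Bool.or_eq_true, Bool.not_eq_true', decide_eq_false_iff_not,
      List.contains_iff_mem] at h
    rcases h c1 (hC2 _ r5 e5) c2 (hC2 _ r6 e6) c3 (hC2 _ r7 e7) c4 (hC2 _ r8 e8) a (hA2 _ r1 e1)
      b (hA2 _ r2 e2) p (hA2 _ r3 e3) q (hA2 _ r4 e4) with (h | h) | h
    · exact absurd h4 h
    · rw [hmem] at h; exact absurd h (by decide)
    · exact h

/-! ### the action on the ten partitions -/

/-- The roots up to sign. -/
theorem pos_mem : ∀ x : Fin 60, isL (vec (posR.getD x 0)) = true ∧ smallVec (posR.getD x 0) = true := by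
  decide +kernel

/-- A root. -/
def root (x : Fin 60) : leechLattice := ofCode _ (pos_mem x).1

theorem coe_root (x : Fin 60) : ((root x : leechLattice) : GolayPt → ℤ) = vec (posR.getD x 0) := rfl

/-- The number of one of the ten partitions. -/
def toN : Fin 5 ⊕ Fin 5 → ℕ := Sum.elim (fun i => i.1) (fun i => 5 + i.1)

/-- The block of a root in a partition. -/
def blkF (i : Fin 5 ⊕ Fin 5) (x : Fin 60) : Fin 5 :=
  ⟨((blk.getD (toN i) []).getD x 0) % 5, Nat.mod_lt _ (by norm_num)⟩

/-- The relation between automorphisms and permutations of the ten partitions. -/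
def Rel (h : Co0) (w : Equiv.Perm (Fin 5 ⊕ Fin 5)) : Prop :=
  ∃ p : Equiv.Perm (Fin 60), (∀ x, h • root x = root (p x) ∨ h • root x = -root (p x)) ∧
    ∀ i, ∃ β : Equiv.Perm (Fin 5), ∀ x, blkF (w i) (p x) = β (blkF i x)

theorem rel_one : Rel 1 1 :=
  ⟨1, fun x => Or.inl (one_smul _ _), fun _ => ⟨1, fun _ => rfl⟩⟩

theorem smul_neg' (g : Co0) (v : leechLattice) : g • (-v) = -(g • v) := by
  have h := g.2.1 v (-v)
  have h0 : g • (0 : leechLattice) = 0 := by
    have := g.2.1 0 0
    change g • ((0 : leechLattice) + 0) = g • (0 : leechLattice) + g • (0 : leechLattice) at this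
    simpa using this
  rw [add_neg_cancel] at h
  change g • (0 : leechLattice) = g • v + g • (-v) at h
  rw [h0] at h
  exact (neg_eq_of_add_eq_zero_right h.symm).symm

theorem rel_mul {g h : Co0} {w w' : Equiv.Perm (Fin 5 ⊕ Fin 5)} (h1 : Rel g w) (h2 : Rel h w') :
    Rel (g * h) (w * w') := by
  obtain ⟨p, hp, hw⟩ := h1
  obtain ⟨p', hp', hw'⟩ := h2
  refine ⟨p * p', fun x => ?_, fun i => ?_⟩
  · rw [mul_smul]
    rcases hp' x with e | e <;> rcases hp (p' x) with e' | e' <;>
      simp [e, e', smul_neg', Equiv.Perm.mul_apply]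
  · obtain ⟨β', hβ'⟩ := hw' i
    obtain ⟨β, hβ⟩ := hw (w' i)
    exact ⟨β * β', fun x => by
      rw [Equiv.Perm.mul_apply, Equiv.Perm.mul_apply, Equiv.Perm.mul_apply, hβ, hβ']⟩

theorem rel_inv {g : Co0} {w : Equiv.Perm (Fin 5 ⊕ Fin 5)} (h1 : Rel g w) : Rel g⁻¹ w⁻¹ := by
  obtain ⟨p, hp, hw⟩ := h1
  refine ⟨p⁻¹, fun x => ?_, fun i => ?_⟩
  · rcases hp (p⁻¹ x) with e | e <;> rw [← Equiv.Perm.mul_apply, mul_inv_cancel, Equiv.Perm.one_apply] at e
    · left; rw [inv_smul_eq_iff, e]
    · right; rw [inv_smul_eq_iff, smul_neg', e, neg_neg]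
  · obtain ⟨β, hβ⟩ := hw (w⁻¹ i)
    refine ⟨β⁻¹, fun x => ?_⟩
    have := hβ (p⁻¹ x)
    simp only [← Equiv.Perm.mul_apply, mul_inv_cancel, Equiv.Perm.one_apply] at this
    rw [this, ← Equiv.Perm.mul_apply, inv_mul_cancel, Equiv.Perm.one_apply]

/-- The graph of the action. -/
def relGraph : Subgroup (Co0 × Equiv.Perm (Fin 5 ⊕ Fin 5)) where
  carrier := {x | Rel x.1 x.2}
  one_mem' := rel_one
  mul_mem' := rel_mul
  inv_mem' := rel_inv

theorem roots_distinct : ∀ x y : Fin 60,
    (∀ p, vec (posR.getD x 0) p = vec (posR.getD y 0) p) ∨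
      (∀ p, vec (posR.getD x 0) p = -vec (posR.getD y 0) p) → x = y := by
  decide +kernel

theorem parts_distinct : ∀ i j : Fin 5 ⊕ Fin 5,
    (∀ x y : Fin 60, blkF i x = blkF i y → blkF j x = blkF j y) → i = j := by
  decide +kernel

theorem rel_unique {w : Equiv.Perm (Fin 5 ⊕ Fin 5)} (h : Rel 1 w) : w = 1 := by
  obtain ⟨p, hp, hw⟩ := h
  have hp1 : ∀ x, p x = x := fun x => by
    refine (roots_distinct x (p x) ?_).symm
    rcases hp x with e | e <;> rw [one_smul] at e
    · exact Or.inl fun q => congrFun (congrArg Subtype.val e) q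
    · exact Or.inr fun q => congrFun (congrArg Subtype.val e) q
  refine Equiv.ext fun i => ?_
  obtain ⟨β, hβ⟩ := hw i
  refine (parts_distinct i (w i) fun x y hxy => ?_).symm
  have h1 := hβ x
  have h2 := hβ y
  rw [hp1] at h1 h2
  rw [h1, h2, hxy]

theorem rel_functional {g : Co0} {w w' : Equiv.Perm (Fin 5 ⊕ Fin 5)} (h : Rel g w) (h' : Rel g w') : w = w' := by
  have := rel_mul (rel_inv h) h'
  rw [inv_mul_cancel] at this
  exact inv_mul_eq_one.mp (rel_unique this)

/-! ### the certified elements -/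

/-- A permutation of `Fin 5` from a table and the table of its inverse. -/
def mkPerm (l li : List ℕ) : Equiv.Perm (Fin 5) :=
  if h : (∀ i : Fin 5, li.getD (l.getD i 0) 0 = i ∧ l.getD i 0 < 5) ∧
      ∀ i : Fin 5, l.getD (li.getD i 0) 0 = i ∧ li.getD i 0 < 5 then
    { toFun := fun i => ⟨l.getD i 0, (h.1 i).2⟩
      invFun := fun i => ⟨li.getD i 0, (h.2 i).2⟩
      left_inv := fun i => Fin.ext (h.1 i).1
      right_inv := fun i => Fin.ext (h.2 i).1 }
  else 1

/-- The left, right component and the swap of an entry. -/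
def sigmaOf (e : Ent) : Equiv.Perm (Fin 5) := mkPerm e.2.2.1 e.2.2.2.1
/-- The right component. -/
def tauOf (e : Ent) : Equiv.Perm (Fin 5) := mkPerm e.2.2.2.2.1 e.2.2.2.2.2.1
/-- The permutation of the ten partitions of an entry. -/
def wOf (e : Ent) : Equiv.Perm (Fin 5 ⊕ Fin 5) := emb (sigmaOf e) (tauOf e) e.2.2.2.2.2.2

/-- The permutation of the roots of an entry. -/
def pF (e : Ent) (x : Fin 60) : Fin 60 := ⟨e.2.1.getD x 0 % 60, Nat.mod_lt _ (by norm_num)⟩

/-- A representative root of a block. -/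
def repF (i : Fin 5 ⊕ Fin 5) (b : Fin 5) : Fin 60 :=
  ⟨(bRep.getD (toN i) []).getD b 0 % 60, Nat.mod_lt _ (by norm_num)⟩

/-- The induced map on blocks. -/
def betaF (e : Ent) (i : Fin 5 ⊕ Fin 5) (b : Fin 5) : Fin 5 := blkF (wOf e i) (pF e (repF i b))

/-- All ten partition indices. -/
def ten : List (Fin 5 ⊕ Fin 5) :=
  [.inl 0, .inl 1, .inl 2, .inl 3, .inl 4, .inr 0, .inr 1, .inr 2, .inr 3, .inr 4]

/-- The check of an entry. -/
noncomputable def entOK (e : Ent) : Bool :=
  eqOK (wU ++ e.1) (e.1 ++ wU) && wordValid e.1 && e.2.1.all (fun n => decide (n < 60)) &&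
    decide e.2.1.Nodup && (e.2.1.length == 60) &&
    decide (Equiv.Perm.sign (sigmaOf e) = 1) && decide (Equiv.Perm.sign (tauOf e) = 1) &&
    ((List.finRange 60).all fun x =>
      force (applyWord e.1 (posR.getD x.1 0)) fun n =>
        (n == posR.getD (pF e x).1 0) || (n == negR.getD (pF e x).1 0)) &&
    ten.all fun i =>
      ((List.finRange 5).all fun b => (List.finRange 5).all fun b' =>
        decide (betaF e i b = betaF e i b' → b = b')) &&
      (List.finRange 60).all fun x => decide (blkF (wOf e i) (pF e x) = betaF e i (blkF i x))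

theorem neg_codes : ∀ x : Fin 60, ∀ p, vec (negR.getD x 0) p = -vec (posR.getD x 0) p := by
  decide +kernel

theorem mem_ten (i : Fin 5 ⊕ Fin 5) : i ∈ ten := by rcases i with i | i <;> fin_cases i <;> simp [ten]

theorem ent_spec {e : Ent} (h : entOK e = true) :
    Commute (El e.1) u5 ∧ wOf e ∈ alternatingFiveWreathTwo ∧ Rel (El e.1) (wOf e) := by
  simp only [entOK, force_eq, Bool.and_eq_true, List.all_eq_true, List.mem_finRange, forall_const,
    decide_eq_true_eq, Bool.or_eq_true, beq_iff_eq] at h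
  obtain ⟨⟨⟨⟨⟨⟨⟨⟨hc, hv⟩, hlt⟩, hnd⟩, hlen⟩, hs⟩, ht⟩, hr⟩, hb⟩ := h
  refine ⟨El_rel hc, emb_mem (Equiv.Perm.mem_alternatingGroup.mpr hs) (Equiv.Perm.mem_alternatingGroup.mpr ht) _, ?_⟩
  have hget : ∀ x : Fin 60, e.2.1.getD x 0 = e.2.1[x.1]'(by omega) := fun x =>
    List.getD_eq_getElem _ _ _
  have hinj : Function.Injective (pF e) := by
    intro x y hxy
    have h1 := congrArg Fin.val hxy
    simp only [pF] at h1
    rw [Nat.mod_eq_of_lt (by rw [hget]; exact hlt _ (List.getElem_mem _)),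
      Nat.mod_eq_of_lt (by rw [hget]; exact hlt _ (List.getElem_mem _)), hget, hget] at h1
    exact Fin.ext ((hnd.getElem_inj_iff).mp h1)
  refine ⟨Equiv.ofBijective (pF e) (Finite.injective_iff_bijective.mp hinj), fun x => ?_, fun i => ?_⟩
  · have h80 : sqNorm ((root x : leechLattice) : GolayPt → ℤ) ≤ 80 := by
      have := (pos_mem x).2
      rw [smallVec, decide_eq_true_eq, ← sqNorm_vec] at this
      exact this
    have e1 := El_smul hv (root x) _ h80 (coe_root x)
    rcases hr x with h1 | h1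
    · left
      refine Subtype.ext ?_
      rw [e1, h1]; rfl
    · right
      refine Subtype.ext ?_
      rw [e1, h1]
      funext p
      exact neg_codes _ p
  · obtain ⟨hβi, hβ⟩ := hb i (mem_ten i)
    exact ⟨Equiv.ofBijective (betaF e i)
      (Finite.injective_iff_bijective.mp fun b b' => hβi b b'), hβ⟩

theorem orb_ok : orbW.all entOK = true := by decide +kernel

theorem stab_ok : stabW.all entOK = true := by decide +kernel

theorem mono_ok : monoW.all entOK = true := by decide +kernel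

theorem gen_ok : genW.all entOK = true := by decide +kernel

end Cfsg.Agent.LeechFive69
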