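import Cfsg.Agent.Lib.LeechFive72Base
import Cfsg.Agent.Lib.LeechStab

/-!
The monomial part of the centraliser of `u` has order at most `2^4 * 60`.
-/

set_option autoImplicit false
set_option linter.style.haveILetI false

open scoped Pointwise symmDiff

namespace Cfsg.Agent.LeechFive72

open Cfsg Cfsg.Agent.GolayBasic Cfsg.Agent.LeechBasic Cfsg.Agent.LeechAut Cfsg.Agent.LeechMonomial
open Cfsg.Agent.LeechCert Cfsg.Agent.LeechOutTool Cfsg.Agent.LeechOrbit Cfsg.Agent.LeechStab
open Cfsg.Agent.LeechFreeInvolution (frameCodes)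
open Cfsg.Agent.GolayPerm (pts mem_pts pimg pmask good permOf permOf_mem_M24 permOf_apply valid_of_good pfun
  smul_mset eq_one_of_closeCheck smul_singleton_of_fix)

theorem uP_good : good uP = true := by decide +kernel

/-- The permutation. -/
noncomputable def pu : Equiv.Perm GolayPt := permOf uP

theorem pu_apply (p : GolayPt) : pu p = pfun uP p := permOf_apply (valid_of_good uP_good) p

theorem pu_mem : pu ∈ M24 := permOf_mem_M24 uP_good

theorem uC_table : ∀ i p : GolayPt,
    vec (applyWord [uStep] (frameCodes.getD (idx i) 0)) p = unitVec 8 (pfun uP i) p := by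
  decide +kernel

theorem uC_eq_monomial : uC = monomial pu pu_mem ∅ empty_mem_supports :=
  ext_frame fun i => Subtype.ext (by
    rw [uC, El_frame uStep_valid, coe_monomial_smul]
    funext p
    rw [uC_table i p, ← pu_apply]
    simp only [signedPerm, Finset.notMem_empty, if_false]
    show _ = unitVec 8 i (pu.symm p)
    simp only [unitVec, Equiv.symm_apply_eq])

theorem uC_mem_mono : uC ∈ mono := uC_eq_monomial ▸ monomial_mem _ _

/-- The centraliser of the permutation in `M24`. -/
noncomputable def permCent : Subgroup (Equiv.Perm GolayPt) := M24 ⊓ Subgroup.centralizer {pu}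

theorem mem_permCent {g : Equiv.Perm GolayPt} : g ∈ permCent ↔ g ∈ M24 ∧ g * pu = pu * g :=
  and_congr_right fun _ => Subgroup.mem_centralizer_singleton_iff

theorem pu_mem_permCent : pu ∈ permCent := mem_permCent.mpr ⟨pu_mem, rfl⟩

/-- Two fixed points followed by the cycle of `a`. -/
def posList (f0 f1 a : ℕ) : List ℕ :=
  [f0, f1, a, pimg uP a, pimg uP (pimg uP a), pimg uP (pimg uP (pimg uP a)),
    pimg uP (pimg uP (pimg uP (pimg uP a)))]

/-- The code of three images. -/
def imgCode (f0 f1 a : ℕ) : ℕ := (f0 * 4 + f1) * 32 + a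

/-- Five of the positions determine two octads which disagree at the last position. -/
noncomputable def badOK (f0 f1 a : ℕ) (e : ℕ × List ℕ × ℕ × ℕ × ℕ) : Bool :=
  e.2.1.length == 5 && decide ((e.2.1.map fun i => pt ((posList f0 f1 a).getD i 0)).Nodup) &&
  decide (e.2.2.1 < 2 ^ 24) && inCode e.2.2.1 && wt e.2.2.1 == 8 &&
  decide (e.2.2.2.1 < 2 ^ 24) && inCode e.2.2.2.1 && wt e.2.2.2.1 == 8 &&
  (e.2.1.all fun i => decide (i < 7) && decide (pt ((posList 0 1 aPt).getD i 0) ∈ mset e.2.2.1) &&
    decide (pt ((posList f0 f1 a).getD i 0) ∈ mset e.2.2.2.1)) &&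
  decide (e.2.2.2.2 < 7) &&
  (decide (pt ((posList 0 1 aPt).getD e.2.2.2.2 0) ∈ mset e.2.2.1) !=
    decide (pt ((posList f0 f1 a).getD e.2.2.2.2 0) ∈ mset e.2.2.2.1))

theorem img_cover : ((List.range 4).all fun f0 => (List.range 4).all fun f1 => (List.range 24).all fun a =>
    f0 == f1 || pimg uP a == a || validImg.elem (imgCode f0 f1 a) ||
      badImg.any fun e => e.1 == imgCode f0 f1 a && badOK f0 f1 a e) = true := by
  decide +kernel

theorem pfun_facts : (∀ p : GolayPt, pfun uP p = p → idx p < 4) ∧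
    (∀ p : GolayPt, pimg uP (idx p) = idx (pfun uP p)) ∧ pfun uP (pt 0) = pt 0 ∧ pfun uP (pt 1) = pt 1 ∧
    pfun uP (pt 4) ≠ pt 4 ∧ pfun uP (pt 4) = pt 18 ∧ pfun uP (pt 18) = pt 23 ∧ pfun uP (pt 23) = pt 6 ∧
    pfun uP (pt 6) = pt 15 ∧ validImg.length = 60 := by
  decide +kernel

theorem comm_apply {g : Equiv.Perm GolayPt} (hg : g ∈ permCent) (p : GolayPt) :
    g (pfun uP p) = pfun uP (g p) := by
  have := congrArg (fun s : Equiv.Perm GolayPt => s p) (mem_permCent.mp hg).2
  simpa only [Equiv.Perm.mul_apply, pu_apply] using this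

/-- The images of two fixed points and a point of a cycle. -/
noncomputable def codeOf (g : Equiv.Perm GolayPt) : ℕ :=
  imgCode (idx (g (pt 0))) (idx (g (pt 1))) (idx (g (pt 4)))

theorem fixed_image {g : Equiv.Perm GolayPt} (hg : g ∈ permCent) {p : GolayPt} (hp : pfun uP p = p) :
    idx (g p) < 4 :=
  pfun_facts.1 _ (by rw [← comm_apply hg, hp])

theorem codeOf_mem {g : Equiv.Perm GolayPt} (hg : g ∈ permCent) : codeOf g ∈ validImg := by
  obtain ⟨-, hidx, h0, h1, h4, -⟩ := pfun_facts
  have hne : idx (g (pt 0)) ≠ idx (g (pt 1)) := fun h => by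
    have h' := congrArg pt h
    rw [pt_idx, pt_idx] at h'
    exact absurd (g.injective h') (by decide +kernel)
  have hna : pimg uP (idx (g (pt 4))) ≠ idx (g (pt 4)) := fun h => by
    rw [hidx] at h
    have h' := congrArg pt h
    rw [pt_idx, pt_idx, ← comm_apply hg] at h'
    exact h4 (g.injective h')
  have h := img_cover
  simp only [List.all_eq_true, List.any_eq_true, List.mem_range, Bool.or_eq_true, Bool.and_eq_true,
    beq_iff_eq, List.elem_iff] at h
  rcases h _ (fixed_image hg h0) _ (fixed_image hg h1) _ (idx_lt (g (pt 4))) with ((h | h) | h) | h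
  · exact absurd h hne
  · exact absurd h hna
  · exact h
  obtain ⟨⟨c, five, O, O', j⟩, -, -, hb⟩ := h
  simp only [badOK, Bool.and_eq_true, decide_eq_true_eq, List.all_eq_true, beq_iff_eq] at hb
  obtain ⟨⟨⟨⟨⟨⟨⟨⟨⟨⟨hlen, hnd⟩, hO1⟩, hO2⟩, hO3⟩, hO1'⟩, hO2'⟩, hO3'⟩, hall⟩, hj⟩, hbad⟩ := hb
  have hcy : ∀ q : GolayPt, pt (pimg uP (idx q)) = pfun uP q := fun _ => rfl
  have himg : ∀ i < 7, g (pt ((posList 0 1 aPt).getD i 0)) =
      pt ((posList (idx (g (pt 0))) (idx (g (pt 1))) (idx (g (pt 4)))).getD i 0) := by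
    intro i hi
    have e4 : aPt = idx (pt 4) := by decide +kernel
    interval_cases i <;> simp only [posList, List.getD_cons_zero, List.getD_cons_succ, e4, hidx, pt_idx,
      comm_apply hg]
  have ho : mset O ∈ octads := (mset_mem_octads hO1).2 ⟨hO2, hO3⟩
  have ho' : mset O' ∈ octads := (mset_mem_octads hO1').2 ⟨hO2', hO3'⟩
  have hgo : g • mset O = mset O' := by
    refine GolaySteiner.octad_eq_of_five (GolayPerm.smul_mem_octads (mem_permCent.mp hg).1 ho) ho'
      (s := (five.map fun i => pt ((posList (idx (g (pt 0))) (idx (g (pt 1))) (idx (g (pt 4)))).getD i 0)).toFinset)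
      ?_ ?_ ?_
    · rw [List.toFinset_card_of_nodup hnd, List.length_map, hlen]
    · intro p hp
      obtain ⟨i, hi, rfl⟩ := List.mem_map.mp (List.mem_toFinset.mp hp)
      obtain ⟨⟨hi7, hiO⟩, -⟩ := hall i hi
      rw [← himg i hi7]
      exact Finset.smul_mem_smul_finset hiO
    · intro p hp
      obtain ⟨i, hi, rfl⟩ := List.mem_map.mp (List.mem_toFinset.mp hp)
      exact (hall i hi).2
  have key : pt ((posList 0 1 aPt).getD j 0) ∈ mset O ↔
      pt ((posList (idx (g (pt 0))) (idx (g (pt 1))) (idx (g (pt 4)))).getD j 0) ∈ mset O' := by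
    rw [← himg j hj, ← hgo]
    exact (Finset.smul_mem_smul_finset_iff g).symm
  rw [bne_iff_ne] at hbad
  exact absurd (decide_eq_decide.mpr key) hbad

theorem fix_close : GolayPerm.closeCheck fixInit fixOps = true := by decide +kernel

theorem fixInit_eq : fixInit = 16777215 :: [0, 1, 4, 18, 23, 6, 15].map (fun b => 1 <<< b) := by
  decide +kernel

theorem card_permCent_le : Nat.card permCent ≤ 60 := by
  classical
  obtain ⟨-, -, -, -, -, e1, e2, e3, e4, hlen⟩ := pfun_facts
  let f : permCent → validImg.toFinset := fun g => ⟨codeOf g, List.mem_toFinset.mpr (codeOf_mem g.2)⟩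
  have hf : Function.Injective f := by
    intro a b hab
    have h : codeOf (a : Equiv.Perm GolayPt) = codeOf (b : Equiv.Perm GolayPt) := congrArg Subtype.val hab
    obtain ⟨-, -, h0, h1, -⟩ := pfun_facts
    have a0 := fixed_image a.2 h0
    have a1 := fixed_image a.2 h1
    have b0 := fixed_image b.2 h0
    have b1 := fixed_image b.2 h1
    have a4 := idx_lt ((a : Equiv.Perm GolayPt) (pt 4))
    have b4 := idx_lt ((b : Equiv.Perm GolayPt) (pt 4))
    simp only [codeOf, imgCode] at h
    have key : ∀ k : ℕ, idx ((a : Equiv.Perm GolayPt) (pt k)) = idx ((b : Equiv.Perm GolayPt) (pt k)) →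
        ((b⁻¹ * a : permCent) : Equiv.Perm GolayPt) (pt k) = pt k := fun k hk => by
      have hk' := congrArg pt hk
      rw [pt_idx, pt_idx] at hk'
      rw [Subgroup.coe_mul, Subgroup.coe_inv, Equiv.Perm.mul_apply, hk', Equiv.Perm.inv_def,
        Equiv.symm_apply_apply]
    have k0 := key 0 (by omega)
    have k1 := key 1 (by omega)
    have k4 := key 4 (by omega)
    set k := b⁻¹ * a with hk
    have hstep : ∀ p q, pfun uP p = q → (k : Equiv.Perm GolayPt) p = p → (k : Equiv.Perm GolayPt) q = q :=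
      fun p q hpq hp => by rw [← hpq, comm_apply k.2, hp]
    have k18 := hstep _ _ e1 k4
    have k23 := hstep _ _ e2 k18
    have k6 := hstep _ _ e3 k23
    have k15 := hstep _ _ e4 k6
    have hk1 : (k : Equiv.Perm GolayPt) = 1 := eq_one_of_closeCheck fix_close (mem_permCent.mp k.2).1 fun m hm => by
      rw [fixInit_eq, List.mem_cons] at hm
      rcases hm with rfl | hm
      · rw [mset_all, Finset.smul_finset_univ]
      obtain ⟨b, hb, rfl⟩ := List.mem_map.mp hm
      simp only [List.mem_cons, List.not_mem_nil, or_false] at hb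
      rcases hb with rfl | rfl | rfl | rfl | rfl | rfl | rfl <;> refine smul_singleton_of_fix (by norm_num) ?_ <;>
        assumption
    exact (inv_mul_eq_one.mp (Subtype.ext hk1)).symm
  refine (Nat.card_le_card_of_injective f hf).trans ?_
  rw [Nat.card_eq_finsetCard]
  exact (List.toFinset_card_le _).trans hlen.le

/-- The code supports kept by the permutation. -/
abbrev InvCode : Type := {c : CodeSupp // pu • c.1 = c.1}

theorem invCode_count :
    ((Finset.range 4096).filter fun y => pmask uP (enc y) = enc y).card = 16 := by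
  decide +kernel

theorem card_invCode_le : Nat.card InvCode ≤ 16 := by
  rw [← invCode_count, ← Nat.card_eq_finsetCard]
  have hmask : ∀ c : InvCode, ∃ y : ((Finset.range 4096).filter fun y => pmask uP (enc y) = enc y),
      mset (enc y) = c.1.1 := by
    rintro ⟨⟨s, hs⟩, hc⟩
    have hcode : inCode (smask s) = true :=
      (mset_mem_supports (smask_lt s)).1 (by rw [mset_smask]; exact hs)
    obtain ⟨y, hy, e⟩ := exists_enc_of_inCode hcode
    refine ⟨⟨y, Finset.mem_filter.mpr ⟨Finset.mem_range.mpr hy, ?_⟩⟩, by rw [e, mset_smask]⟩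
    refine mset_inj ?_ (enc_lt hy) ?_
    · exact Nat.lt_pow_two_of_testBit _ fun i hi => by
        by_contra hb
        rw [Bool.not_eq_false, GolayPerm.testBit_pmask] at hb
        obtain ⟨k, hk, -, hkj⟩ := hb
        have := GolayPerm.pimg_lt (valid_of_good uP_good) hk
        omega
    · rw [← smul_mset (valid_of_good uP_good), e, mset_smask]; exact hc
  choose f hf using hmask
  exact Nat.card_le_card_of_injective f fun a b h => Subtype.ext (Subtype.ext (by rw [← hf a, ← hf b, h]))

theorem card_monoW_le : Nat.card ↥(mono ⊓ W) ≤ 960 := by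
  classical
  have h : ∀ g : ↥(mono ⊓ W), ∃ q : permCent × InvCode,
      (g : Co0) = monomial q.1.1 q.1.2.1 q.2.1.1 q.2.1.2 := by
    rintro ⟨g, hgm, hgW⟩
    obtain ⟨σ, hσ, c, hc, rfl⟩ := mem_mono.mp hgm
    have e := mem_W.mp hgW
    rw [uC_eq_monomial, monomial_mul hσ pu_mem hc empty_mem_supports,
      monomial_mul pu_mem hσ empty_mem_supports hc] at e
    obtain ⟨e1, e2⟩ := monomial_injective _ _ _ _ e
    rw [Finset.smul_finset_empty, ← Finset.bot_eq_empty, symmDiff_bot, bot_symmDiff] at e2
    exact ⟨(⟨σ, mem_permCent.mpr ⟨hσ, e1⟩⟩, ⟨⟨c, hc⟩, e2.symm⟩), rfl⟩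
  choose f hf using h
  refine (Nat.card_le_card_of_injective f fun a b hab => Subtype.ext ?_).trans ?_
  · rw [hf a, hf b, hab]
  · rw [Nat.card_prod]
    exact (Nat.mul_le_mul card_permCent_le card_invCode_le).trans (by norm_num)

end Cfsg.Agent.LeechFive72
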