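import Mathlib.GroupTheory.SpecificGroups.Alternating
import Mathlib.GroupTheory.PGroup
import Cfsg.Prelude.Def_MonsterType

/-!
The wreath product of `A₅` by a group of order 2 has order at most 7200 and no nontrivial normal
2-subgroup.
-/

set_option autoImplicit false
set_option linter.style.haveILetI false

namespace Cfsg.Agent.LeechFive72.Wreath

open Cfsg

/-- The product of the two copies. -/
noncomputable def base : alternatingGroup (Fin 5) × alternatingGroup (Fin 5) →* Equiv.Perm (Fin 5 ⊕ Fin 5) :=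
  (Equiv.Perm.sumCongrHom (Fin 5) (Fin 5)).comp
    ((alternatingGroup (Fin 5)).subtype.prodMap (alternatingGroup (Fin 5)).subtype)

theorem base_apply (q : alternatingGroup (Fin 5) × alternatingGroup (Fin 5)) :
    base q = Equiv.Perm.sumCongr (q.1 : Equiv.Perm (Fin 5)) (q.2 : Equiv.Perm (Fin 5)) := rfl

/-- The exchange. -/
def swapSides : Equiv.Perm (Fin 5 ⊕ Fin 5) := Equiv.sumComm (Fin 5) (Fin 5)

theorem swap_mul_base (q : alternatingGroup (Fin 5) × alternatingGroup (Fin 5)) :
    swapSides * base q = base (q.2, q.1) * swapSides := by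
  refine Equiv.ext fun x => ?_
  cases x <;> rfl

theorem swap_mul_swap : swapSides * swapSides = 1 := by
  refine Equiv.ext fun x => ?_
  cases x <;> rfl

theorem base_mem (q : alternatingGroup (Fin 5) × alternatingGroup (Fin 5)) : base q ∈ alternatingFiveWreathTwo :=
  Subgroup.subset_closure (Or.inl ⟨q.1, q.2, rfl⟩)

theorem swap_mem : swapSides ∈ alternatingFiveWreathTwo := Subgroup.subset_closure (Or.inr rfl)

theorem cases_mem {g : Equiv.Perm (Fin 5 ⊕ Fin 5)} (hg : g ∈ alternatingFiveWreathTwo) :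
    ∃ q, g = base q ∨ g = base q * swapSides := by
  induction hg using Subgroup.closure_induction with
  | mem g hg =>
    rcases hg with ⟨a, b, rfl⟩ | rfl
    · exact ⟨(a, b), Or.inl rfl⟩
    · exact ⟨1, Or.inr (by rw [map_one, one_mul]; rfl)⟩
  | one => exact ⟨1, Or.inl (map_one base).symm⟩
  | mul a b _ _ iha ihb =>
    obtain ⟨p, rfl | rfl⟩ := iha <;> obtain ⟨q, rfl | rfl⟩ := ihb
    · exact ⟨p * q, Or.inl (map_mul base p q).symm⟩
    · exact ⟨p * q, Or.inr (by rw [map_mul, mul_assoc])⟩
    · exact ⟨p * (q.2, q.1), Or.inr (by rw [mul_assoc, swap_mul_base, map_mul, mul_assoc])⟩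
    · refine ⟨p * (q.2, q.1), Or.inl ?_⟩
      rw [mul_assoc, ← mul_assoc swapSides, swap_mul_base, mul_assoc (base (q.2, q.1)), swap_mul_swap, mul_one,
        map_mul]
  | inv a _ iha =>
    obtain ⟨p, rfl | rfl⟩ := iha
    · exact ⟨p⁻¹, Or.inl (map_inv base p).symm⟩
    · refine ⟨(p⁻¹.2, p⁻¹.1), Or.inr ?_⟩
      rw [mul_inv_rev, ← map_inv, inv_eq_of_mul_eq_one_right swap_mul_swap, swap_mul_base]

theorem card_le : Nat.card alternatingFiveWreathTwo ≤ 7200 := by
  classical
  have h : ∀ g : alternatingFiveWreathTwo, ∃ r : (alternatingGroup (Fin 5) × alternatingGroup (Fin 5)) × Bool,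
      (g : Equiv.Perm (Fin 5 ⊕ Fin 5)) = base r.1 * if r.2 then swapSides else 1 := by
    intro g
    obtain ⟨q, h | h⟩ := cases_mem g.2
    · exact ⟨(q, false), by simpa using h⟩
    · exact ⟨(q, true), by simpa using h⟩
  choose f hf using h
  refine (Nat.card_le_card_of_injective f fun a b hab => Subtype.ext ?_).trans ?_
  · rw [hf a, hf b, hab]
  · rw [Nat.card_prod, Nat.card_prod, nat_card_alternatingGroup, Nat.card_eq_fintype_card (α := Bool)]
    simp [Nat.factorial]

theorem no_normal_two (P : Subgroup alternatingFiveWreathTwo) [P.Normal] (hP : IsPGroup 2 P) : P = ⊥ := by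
  haveI : Fact (Nat.Prime 2) := ⟨Nat.prime_two⟩
  let bW : alternatingGroup (Fin 5) × alternatingGroup (Fin 5) →* alternatingFiveWreathTwo :=
    base.codRestrict _ base_mem
  have hinj : Function.Injective bW := by
    intro p q h
    have h' : base p = base q := congrArg Subtype.val h
    have h2 := Equiv.Perm.sumCongrHom_injective (α := Fin 5) (β := Fin 5) h'
    exact Prod.ext (Subtype.ext (congrArg Prod.fst h2)) (Subtype.ext (congrArg Prod.snd h2))
  set R := P.comap bW with hR
  haveI hRn : R.Normal := (inferInstance : P.Normal).comap bW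
  have hR2 : IsPGroup 2 R := hP.comap_of_injective bW hinj
  haveI hA : IsSimpleGroup (alternatingGroup (Fin 5)) := alternatingGroup.isSimpleGroup_five
  have hsmall : ∀ (f : alternatingGroup (Fin 5) × alternatingGroup (Fin 5) →* alternatingGroup (Fin 5)),
      Function.Surjective f → R.map f = ⊥ := by
    intro f hf
    haveI : (R.map f).Normal := hRn.map f hf
    refine (IsSimpleGroup.eq_bot_or_eq_top_of_normal _ inferInstance).resolve_right fun htop => ?_
    obtain ⟨n, hn⟩ := IsPGroup.iff_card.mp (hR2.map f)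
    rw [htop, Subgroup.card_top, nat_card_alternatingGroup, Nat.card_fin] at hn
    have h3 : 3 ∣ 2 ^ n := hn ▸ (by norm_num [Nat.factorial] : 3 ∣ Nat.factorial 5 / 2)
    exact absurd (Nat.prime_three.dvd_of_dvd_pow h3) (by norm_num)
  have hR1 : R = ⊥ := by
    rw [eq_bot_iff]
    intro r hr
    have h1 : r.1 ∈ R.map (MonoidHom.fst _ _) := ⟨r, hr, rfl⟩
    have h2 : r.2 ∈ R.map (MonoidHom.snd _ _) := ⟨r, hr, rfl⟩
    rw [hsmall _ Prod.fst_surjective, Subgroup.mem_bot] at h1
    rw [hsmall _ Prod.snd_surjective, Subgroup.mem_bot] at h2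
    exact Subgroup.mem_bot.mpr (Prod.ext h1 h2)
  have hzero : ∀ q, bW q ∈ P → q = 1 := fun q hq => by
    have : q ∈ R := hq
    rwa [hR1, Subgroup.mem_bot] at this
  rw [eq_bot_iff]
  rintro ⟨g, hg⟩ hgP
  obtain ⟨q, rfl | rfl⟩ := cases_mem hg
  · have := hzero q hgP
    subst this
    exact Subgroup.mem_bot.mpr (Subtype.ext (map_one base))
  · exfalso
    -- an element outside the base moves every element of the first factor to the second
    obtain ⟨t, x, hx⟩ : ∃ (t : alternatingGroup (Fin 5)) (x : Fin 5), (t : Equiv.Perm (Fin 5))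
        ((q.1 : Equiv.Perm (Fin 5)) x) ≠ (q.1 : Equiv.Perm (Fin 5)) x := by
      refine ⟨⟨Equiv.swap 0 1 * Equiv.swap 2 3, by rw [Equiv.Perm.mem_alternatingGroup]; decide⟩,
        (q.1 : Equiv.Perm (Fin 5))⁻¹ 0, ?_⟩
      rw [← Equiv.Perm.mul_apply (q.1 : Equiv.Perm (Fin 5)), mul_inv_cancel, Equiv.Perm.one_apply]
      show (Equiv.swap (0 : Fin 5) 1 * Equiv.swap 2 3 : Equiv.Perm (Fin 5)) 0 ≠ 0
      decide
    set p : alternatingFiveWreathTwo := ⟨base q * swapSides, hg⟩ with hp
    set c := bW (t, 1) with hc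
    have hcomm : c * p * c⁻¹ * p⁻¹ ∈ P :=
      P.mul_mem ((inferInstance : P.Normal).conj_mem p hgP c) (P.inv_mem hgP)
    have hpc : p * c⁻¹ * p⁻¹ = bW (q * ((1 : alternatingGroup (Fin 5)), t⁻¹) * q⁻¹) := by
      refine Subtype.ext ?_
      show base q * swapSides * (base (t, 1))⁻¹ * (base q * swapSides)⁻¹ = base _
      rw [← map_inv, mul_assoc (base q) swapSides, swap_mul_base, map_mul, map_mul, map_inv base q]
      simp only [Prod.snd_inv, Prod.fst_inv, inv_one]
      group
    have h1 := hzero ((t, 1) * (q * ((1 : alternatingGroup (Fin 5)), t⁻¹) * q⁻¹)) (by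
      rw [map_mul, ← hpc, ← hc]
      convert hcomm using 1
      group)
    have h2 := congrArg Prod.fst h1
    simp only [Prod.fst_mul, Prod.fst_inv, Prod.fst_one, mul_one, mul_inv_cancel] at h2
    rw [h2] at hx
    exact hx rfl

end Cfsg.Agent.LeechFive72.Wreath
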