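import Cfsg.Agent.Lib.LeechFive72Classes
import Cfsg.Agent.Lib.LeechFive72Perm
import Cfsg.Agent.Lib.LeechFive72Wreath

/-!
The centraliser of `u` in `Co0` has order 72000; modulo the kernel of its action on the classes of fixed
vectors, of order 10, it is the wreath product of `A₅` by a group of order 2.
-/

set_option autoImplicit false
set_option linter.style.haveILetI false

open scoped Pointwise

namespace Cfsg.Agent.LeechFive72

open Cfsg Cfsg.Agent.GolayBasic Cfsg.Agent.LeechBasic Cfsg.Agent.LeechAut Cfsg.Agent.LeechXi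
open Cfsg.Agent.LeechCert Cfsg.Agent.LeechOutTool Cfsg.Agent.LeechOrbit Cfsg.Agent.PermImageCert
open Cfsg.Agent.LeechIndex

instance finite_W : Finite W :=
  haveI := LeechOrder.finite_Co0
  Subtype.finite

/-- A frame vector fixed by `u`. -/
noncomputable def fr0 : leechLattice := frame (pt 0)

theorem uC_smul_frame : uC • fr0 = fr0 := by
  refine Subtype.ext ?_
  rw [fr0, uC, El_frame uStep_valid]
  funext p
  rw [uC_table (pt 0) p]
  show _ = unitVec 8 (pt 0) p
  revert p
  decide +kernel

theorem fr0_congr : (fr0 : GolayPt → ℤ) - (frame none : GolayPt → ℤ) ∈ twiceLeech := by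
  refine mem_twiceLeech.mpr ⟨_, fourDiff_mem (pt 0), ?_⟩
  funext p
  show unitVec 8 (pt 0) p - unitVec 8 none p = (2 • fourDiff (pt 0)) p
  simp only [Pi.smul_apply, fourDiff, unitVec, two_nsmul]
  split_ifs <;> norm_num

theorem classStab_fr0 : LeechStab.classStab fr0 = LeechStab.mono := by
  rw [← LeechStab.classStab_frame]
  have key : ∀ (g : Co0) (v w : leechLattice), (v : GolayPt → ℤ) - w ∈ twiceLeech →
      g ∈ LeechStab.classStab v → g ∈ LeechStab.classStab w := fun g v w h hv => by
    rw [LeechStab.mem_classStab] at hv ⊢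
    convert add_mem (sub_mem hv (smul_twice g h)) h using 1
    abel
  ext g
  refine ⟨key g _ _ fr0_congr, key g _ _ ?_⟩
  convert neg_mem fr0_congr using 1
  abel

/-! ### The order -/

/-- The classes of norm 64. -/
def big : Finset (Fin 256) := Finset.univ.filter fun c : Fin 256 => nrm (rd (c : ℕ)) = 64

theorem card_big : big.card = 75 := by decide +kernel

theorem exists_big (g : W) : ∃ c ∈ big,
    (((g : Co0) • fr0 : leechLattice) : GolayPt → ℤ) - (rvL c : GolayPt → ℤ) ∈ twiceLeech := by
  obtain ⟨c, hc⟩ := exists_class (smul_fixed g.2 uC_smul_frame)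
  refine ⟨c, Finset.mem_filter.mpr ⟨Finset.mem_univ _, ?_⟩, hc⟩
  have hx : sqNorm (((g : Co0) • fr0 : leechLattice) : GolayPt → ℤ) = 64 := by
    rw [sqNorm_smul, fr0, sqNorm_frame]
  have hy : sqNorm (rv c) = 64 := by
    rcases LeechMod2.congr_short (rv_mem c.2) hc hx.le (sqNorm_rv_le c.2) with h | h | h
    · rw [← h]; exact hx
    · have h' : rv (c : ℕ) = -(((g : Co0) • fr0 : leechLattice) : GolayPt → ℤ) := by
        rw [h, neg_neg]
      rw [h', ← hx]
      exact Finset.sum_congr rfl fun p _ => by rw [Pi.neg_apply]; ring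
    · exact h.2.1
  rw [rv, nrm_eq] at hy
  exact_mod_cast hy

theorem card_W_le : Nat.card W ≤ 72000 := by
  classical
  choose f hf hfc using exists_big
  have hb : ∀ g : W, (Function.invFun f (f g) : W)⁻¹ * g ∈ (LeechStab.mono ⊓ W).subgroupOf W := by
    intro g
    set a := Function.invFun f (f g) with ha
    have e : f a = f g := Function.invFun_eq ⟨g, rfl⟩
    refine Subgroup.mem_subgroupOf.mpr ⟨?_, (a⁻¹ * g).2⟩
    show ((a⁻¹ * g : W) : Co0) ∈ LeechStab.mono
    rw [← classStab_fr0, LeechStab.mem_classStab, Subgroup.coe_mul, Subgroup.coe_inv]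
    have hd : (((g : Co0) • fr0 : leechLattice) : GolayPt → ℤ) -
        (((a : Co0) • fr0 : leechLattice) : GolayPt → ℤ) ∈ twiceLeech := by
      have ha' := hfc a
      rw [e] at ha'
      convert sub_mem (hfc g) ha' using 1
      abel
    have h1 := smul_twice ((a : Co0)⁻¹) hd
    rwa [inv_smul_smul, ← mul_smul] at h1
  let F : W → big × ↥((LeechStab.mono ⊓ W).subgroupOf W) := fun g =>
    (⟨f g, hf g⟩, ⟨_, hb g⟩)
  have hF : Function.Injective F := by
    intro a b h
    simp only [F, Prod.ext_iff, Subtype.ext_iff] at h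
    have h1 : f a = f b := by exact h.1
    have h2 : (Function.invFun f (f a))⁻¹ * a = (Function.invFun f (f b))⁻¹ * b :=
      Subtype.ext (Subtype.ext (by exact h.2))
    rw [h1] at h2
    exact mul_left_cancel h2
  refine (Nat.card_le_card_of_injective F hF).trans ?_
  rw [Nat.card_prod, Nat.card_eq_finsetCard, card_big,
    Nat.card_congr (Subgroup.subgroupOfEquivOfLe (inf_le_right : LeechStab.mono ⊓ W ≤ W)).toEquiv]
  exact (Nat.mul_le_mul_left _ card_monoW_le).trans (by norm_num)

/-! ### The kernel -/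

theorem negAut_mem_W : negAut ∈ W :=
  mem_W.mpr (Subgroup.mem_center_iff.mp negAut_mem_center uC).symm

/-- `-1` in the centraliser. -/
noncomputable def negW : W := ⟨negAut, negAut_mem_W⟩

/-- `u` in the centraliser. -/
noncomputable def uW : W := ⟨uC, uC_mem_W⟩

theorem negW_ker : negW ∈ actHom.ker := MonoidHom.mem_ker.mpr (Equiv.ext fun c => img_eq (d := c) (by
  show ((negAut • rvL c : leechLattice) : GolayPt → ℤ) - _ ∈ twiceLeech
  rw [negAut_smul, AddSubgroup.coe_neg]
  convert neg_mem (two_nsmul_mem (rvL c).2) using 1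
  rw [two_nsmul]; abel))

theorem uW_ker : uW ∈ actHom.ker := MonoidHom.mem_ker.mpr (Equiv.ext fun c => img_eq (d := c) (by
  show ((uC • rvL c : leechLattice) : GolayPt → ℤ) - _ ∈ twiceLeech
  rw [uC_smul_rvL, sub_self]
  exact zero_mem _))

theorem orderOf_uC : orderOf uC = 5 := by
  haveI : Fact (Nat.Prime 5) := ⟨by norm_num⟩
  exact orderOf_eq_prime uC_pow uC_ne_one

theorem small_injective {s s' : Fin 2} {j j' : Fin 5}
    (h : negAut ^ (s : ℕ) * uC ^ (j : ℕ) = negAut ^ (s' : ℕ) * uC ^ (j' : ℕ)) : s = s' ∧ j = j' := by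
  have hu : ∀ n : ℕ, uC ^ n • fr0 = fr0 := by
    intro n
    induction n with
    | zero => rw [pow_zero, one_smul]
    | succ n ih => rw [pow_succ, mul_smul, uC_smul_frame, ih]
  have hs : s = s' := by
    have h1 := congrArg (fun g : Co0 => g • fr0) h
    simp only [mul_smul, hu] at h1
    have hne : fr0 ≠ -fr0 := LeechStab.ne_neg (by rw [fr0, sqNorm_frame]; norm_num)
    obtain ⟨a, ha⟩ := s
    obtain ⟨b, hb⟩ := s'
    refine Fin.ext ?_
    show a = b
    interval_cases a <;> interval_cases b
    · rfl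
    · simp only [pow_zero, pow_one, one_smul, negAut_smul] at h1; exact absurd h1 hne
    · simp only [pow_zero, pow_one, one_smul, negAut_smul] at h1; exact absurd h1.symm hne
    · rfl
  subst hs
  have h2 := mul_left_cancel h
  exact ⟨rfl, Fin.ext (pow_injOn_Iio_orderOf (by rw [orderOf_uC]; exact j.2) (by rw [orderOf_uC]; exact j'.2) h2)⟩

/-- Ten elements of the kernel. -/
noncomputable def kerElt (q : Fin 2 × Fin 5) : actHom.ker :=
  ⟨negW ^ (q.1 : ℕ) * uW ^ (q.2 : ℕ), mul_mem (pow_mem negW_ker _) (pow_mem uW_ker _)⟩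

theorem kerElt_injective : Function.Injective kerElt := fun a b h => by
  have h' := congrArg (fun x : actHom.ker => ((x : W) : Co0)) h
  simp only [kerElt, negW, uW, Subgroup.coe_mul, SubgroupClass.coe_pow] at h'
  obtain ⟨e1, e2⟩ := small_injective h'
  exact Prod.ext e1 e2

/-! ### The action on the ten sets of classes -/

/-- One of the ten sets of classes. -/
def blk (k : Fin 10) : Set (Fin 256) := {c | (blocks.getD k 0).testBit c}

theorem blk_sep : ∀ k l : Fin 10, k = l ∨
    ∃ c : Fin 256, (blocks.getD k 0).testBit c ≠ (blocks.getD l 0).testBit c := by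
  decide +kernel

theorem blk_injective : Function.Injective blk := by
  intro k l h
  rcases blk_sep k l with e | ⟨c, hc⟩
  · exact e
  · exact absurd (Bool.eq_iff_iff.mpr (Set.ext_iff.mp h c)) hc

/-- The action on sets of classes. -/
def imgHom : Equiv.Perm (Fin 256) →* Equiv.Perm (Set (Fin 256)) where
  toFun σ := Equiv.Set.congr σ
  map_one' := Equiv.ext fun s => by simp [Equiv.Set.congr]
  map_mul' σ τ := Equiv.ext fun s => by simp [Equiv.Set.congr, Set.image_image]

/-- The action of the centraliser on sets of classes. -/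
noncomputable def setAct : W →* Equiv.Perm (Set (Fin 256)) := imgHom.comp actHom

theorem setAct_apply (g : W) (s : Set (Fin 256)) : setAct g s = actHom g '' s := rfl

/-- The words of the two generators. -/
def gw (i : Fin 2) : List Step := [gw0, gw1].getD i []

theorem gw_valid : ∀ i, wordValid (gw i) = true := by decide +kernel

theorem gw_comm : ∀ i, eqOK (gw i ++ [uStep]) ([uStep] ++ gw i) = true := by decide +kernel

theorem gw_mem_W (i : Fin 2) : El (gw i) ∈ W := by
  rw [mem_W]
  have := El_eq (gw_comm i)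
  rw [El_append (gw_valid i) uStep_valid, El_append uStep_valid (gw_valid i)] at this
  exact this.symm

/-- A word maps the classes and the ten sets as the packed permutations do. -/
noncomputable def moveOK (w : List Step) (P p : ℕ) : Bool :=
  PermImageCert.allBelow (fun c => Nat.blt (PermImageCert.get P c) 256 &&
    congOK (applyWord w (rd c)) (rd (PermImageCert.get P c)) (rd 0) &&
    PermImageCert.allBelow (fun k =>
      (blocks.getD k 0).testBit c == (blocks.getD (PermImageCert.get p k) 0).testBit (PermImageCert.get P c)) 10) 256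

theorem moves : ∀ i : Fin 2, moveOK (gw i) (clsPerm.getD i 0) (perms.getD i (0, 0)).1 = true := by decide +kernel

theorem gen_move (i : Fin 2) {σ : Equiv.Perm (Fin 10)} (hσ : Rep σ (perms.getD i (0, 0)).1) (k : Fin 10) :
    setAct ⟨El (gw i), gw_mem_W i⟩ (blk k) = blk (σ k) := by
  set g : W := ⟨El (gw i), gw_mem_W i⟩ with hg
  have key : ∀ c : Fin 256, c ∈ blk k ↔ actHom g c ∈ blk (σ k) := by
    intro c
    have h := PermImageCert.allBelow_spec (moves i) c c.2
    simp only [Bool.and_eq_true, Nat.blt_eq, beq_iff_eq] at h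
    obtain ⟨⟨hlt, hcong⟩, hblk⟩ := h
    have himg : img g c = ⟨_, hlt⟩ := by
      refine img_eq ?_
      rw [hg, El_smul (gw_valid i) (rvL c) (rd c) (by rw [coe_rvL]; have := sqNorm_rv_le c.2; omega) rfl]
      have := congOK_spec hcong
      rw [show vec (rd 0) = 0 from rv_zero, sub_zero] at this
      exact this
    rw [actHom_apply, himg]
    show (blocks.getD k 0).testBit c = true ↔ (blocks.getD (σ k) 0).testBit (PermImageCert.get _ c) = true
    have hk := PermImageCert.allBelow_spec hblk k k.2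
    rw [beq_iff_eq] at hk
    rw [hk, hσ k]
  rw [setAct_apply]
  ext d
  obtain ⟨c, rfl⟩ := (actHom g).surjective d
  rw [(actHom g).injective.mem_set_image, key]

theorem perms_ok : perms.all (invOK 10) = true := by decide +kernel

theorem slp_ok : slpOK 10 (allCodes perms) slp = true := by decide +kernel

theorem chain_ok : chainOK 10 (allCodes perms ++ slp.map (fun o => o.2.2)) [] chain = true := by decide +kernel

theorem chain_size : chainSize chain = 7200 := by decide +kernel

/-- The group on the ten sets. -/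
noncomputable def ten : Subgroup (Equiv.Perm (Fin 10)) := genGroup 10 (perms.map Prod.fst)

theorem card_ten_ge : 7200 ≤ Nat.card ten := chain_size ▸ le_card_genGroup perms_ok slp_ok chain_ok

theorem gens_lift : ∀ σ ∈ genSet 10 (perms.map Prod.fst), ∃ g, ∀ k, setAct g (blk k) = blk (σ k) := by
  rintro σ ⟨P, hP, hσ⟩
  obtain ⟨i, rfl⟩ : ∃ i : Fin 2, (perms.getD i (0, 0)).1 = P := by
    simp only [perms, List.map_cons, List.map_nil, List.mem_cons, List.not_mem_nil, or_false] at hP
    rcases hP with rfl | rfl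
    · exact ⟨0, rfl⟩
    · exact ⟨1, rfl⟩
  exact ⟨_, gen_move i hσ⟩

theorem card_facts : Nat.card W = 72000 ∧ Nat.card actHom.ker = 10 := by
  classical
  let X : Subgroup W :=
    { carrier := {g | ∃ σ ∈ ten, ∀ k, setAct g (blk k) = blk (σ k)}
      one_mem' := ⟨1, one_mem _, fun k => by simp⟩
      mul_mem' := by
        rintro a b ⟨σ, hσ, ha⟩ ⟨τ, hτ, hb⟩
        exact ⟨σ * τ, mul_mem hσ hτ, fun k => by
          rw [map_mul, Equiv.Perm.mul_apply, hb k, ha (τ k)]; rfl⟩
      inv_mem' := by
        rintro a ⟨σ, hσ, ha⟩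
        refine ⟨σ⁻¹, inv_mem hσ, fun k => ?_⟩
        rw [map_inv, Equiv.Perm.inv_eq_iff_eq, ha (σ⁻¹ k)]
        exact congrArg blk (σ.apply_symm_apply k).symm }
  choose s hs hse using fun g : X => g.2
  have huniq : ∀ (g : X) (σ : Equiv.Perm (Fin 10)), (∀ k, setAct (g : W) (blk k) = blk (σ k)) → s g = σ :=
    fun g σ h => Equiv.ext fun k => blk_injective ((hse g k).symm.trans (h k))
  let f : X →* ten := MonoidHom.mk' (fun g => ⟨s g, hs g⟩) fun a b =>
    Subtype.ext (huniq (a * b) _ fun k => by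
      rw [Subgroup.coe_mul, map_mul, Equiv.Perm.mul_apply, hse b k, hse a (s b k)]; rfl)
  have hf : Function.Surjective f := by
    have hle : ten ≤ f.range.map ten.subtype := by
      refine (Subgroup.closure_le _).mpr ?_
      intro σ hσ
      obtain ⟨g, hg⟩ := gens_lift σ hσ
      exact ⟨_, ⟨⟨g, σ, Subgroup.subset_closure hσ, hg⟩, rfl⟩, huniq _ _ hg⟩
    rintro ⟨σ, hσ⟩
    obtain ⟨_, ⟨g, rfl⟩, e⟩ := hle hσ
    exact ⟨g, Subtype.ext e⟩
  have hkerX : ∀ g ∈ actHom.ker, ∀ k, setAct g (blk k) = blk ((1 : Equiv.Perm (Fin 10)) k) := fun g hg k => by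
    rw [setAct_apply, MonoidHom.mem_ker.mp hg, Equiv.Perm.coe_one, Set.image_id, Equiv.Perm.one_apply]
  have hZX : actHom.ker ≤ X := fun g hg => ⟨1, one_mem _, hkerX g hg⟩
  have hker : actHom.ker.subgroupOf X ≤ f.ker := fun g hg =>
    MonoidHom.mem_ker.mpr (Subtype.ext (huniq g 1 (hkerX _ hg)))
  have h1 : Nat.card ten * Nat.card actHom.ker ≤ Nat.card W := by
    refine le_trans ?_ (Subgroup.card_le_card_group X)
    rw [Subgroup.card_eq_card_quotient_mul_card_subgroup f.ker,
      Nat.card_congr (QuotientGroup.quotientKerEquivOfSurjective f hf).toEquiv,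
      ← Nat.card_congr (Subgroup.subgroupOfEquivOfLe hZX).toEquiv]
    exact Nat.mul_le_mul_left _ (Subgroup.card_le_of_le hker)
  have h2 : 10 ≤ Nat.card actHom.ker := by
    simpa using Nat.card_le_card_of_injective kerElt kerElt_injective
  have h3 := card_ten_ge
  have h4 := card_W_le
  constructor <;> nlinarith

theorem card_W : Nat.card W = 72000 := card_facts.1

theorem card_actHom_ker : Nat.card actHom.ker = 10 := card_facts.2

theorem actHom_ker_cases {g : W} (hg : g ∈ actHom.ker) :
    ∃ (i : Fin 2) (j : Fin 5), (g : Co0) = negAut ^ (i : ℕ) * uC ^ (j : ℕ) := by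
  have hbij : Function.Bijective kerElt := by
    refine (Nat.bijective_iff_injective_and_card _).mpr ⟨kerElt_injective, ?_⟩
    rw [card_actHom_ker, Nat.card_prod, Nat.card_fin, Nat.card_fin]
  obtain ⟨⟨i, j⟩, h⟩ := hbij.2 ⟨g, hg⟩
  exact ⟨i, j, (congrArg (fun x : actHom.ker => ((x : W) : Co0)) h).symm⟩

theorem quot_iso_ten : Nonempty (W ⧸ actHom.ker ≃* ten) :=
  PermImageCert.nonempty_iso setAct blk blk_injective _ gens_lift actHom.ker
    (fun g hg k => by rw [setAct_apply, MonoidHom.mem_ker.mp hg, Equiv.Perm.coe_one, Set.image_id])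
    7200 (by rw [card_W, card_actHom_ker]) card_ten_ge

/-! ### The wreath product -/

/-- Two even permutations of five letters. -/
def a0 : Equiv.Perm (Fin 5) := Equiv.swap 0 1 * Equiv.swap 2 3

/-- An even permutation of five letters. -/
def b0 : Equiv.Perm (Fin 5) := Equiv.swap 0 2 * Equiv.swap 2 3 * Equiv.swap 3 4 * Equiv.swap 4 1

/-- An even permutation of five letters. -/
def a1 : Equiv.Perm (Fin 5) := Equiv.swap 1 3 * Equiv.swap 3 4

/-- An even permutation of five letters. -/
def b1 : Equiv.Perm (Fin 5) := Equiv.swap 1 4 * Equiv.swap 4 3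

theorem parts_ok : (a0 ∈ alternatingGroup (Fin 5) ∧ b0 ∈ alternatingGroup (Fin 5) ∧
    a1 ∈ alternatingGroup (Fin 5) ∧ b1 ∈ alternatingGroup (Fin 5)) ∧
    (∀ x, ((finSumFinEquiv (Equiv.Perm.sumCongr a0 b0 x) : Fin 10) : ℕ) =
      PermImageCert.get (perms.getD 0 (0, 0)).1 ((finSumFinEquiv x : Fin 10) : ℕ)) ∧
    ∀ x, ((finSumFinEquiv ((Equiv.Perm.sumCongr a1 b1 * Wreath.swapSides) x) : Fin 10) : ℕ) =
      PermImageCert.get (perms.getD 1 (0, 0)).1 ((finSumFinEquiv x : Fin 10) : ℕ) := by
  refine ⟨⟨?_, ?_, ?_, ?_⟩, ?_, ?_⟩ <;> first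
    | (rw [Equiv.Perm.mem_alternatingGroup]; decide +kernel)
    | decide +kernel

theorem ten_le : ten.map (finSumFinEquiv (m := 5) (n := 5)).symm.permCongrHom.toMonoidHom ≤
    alternatingFiveWreathTwo := by
  rw [show ten = Subgroup.closure (genSet 10 (perms.map Prod.fst)) from rfl, MonoidHom.map_closure,
    Subgroup.closure_le]
  rintro _ ⟨σ, ⟨P, hP, hσ⟩, rfl⟩
  obtain ⟨⟨ha0, hb0, ha1, hb1⟩, e0, e1⟩ := parts_ok
  simp only [perms, List.map_cons, List.map_nil, List.mem_cons, List.not_mem_nil, or_false] at hP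
  have key : ∀ τ : Equiv.Perm (Fin 5 ⊕ Fin 5),
      (∀ x, ((finSumFinEquiv (τ x) : Fin 10) : ℕ) = PermImageCert.get P ((finSumFinEquiv x : Fin 10) : ℕ)) →
      (finSumFinEquiv (m := 5) (n := 5)).symm.permCongrHom.toMonoidHom σ = τ := fun τ h => Equiv.ext fun x => by
    show finSumFinEquiv.symm (σ (finSumFinEquiv.symm.symm x)) = τ x
    rw [Equiv.symm_symm, Equiv.symm_apply_eq]
    exact Fin.ext ((hσ _).trans (h x).symm)
  rcases hP with rfl | rfl
  · rw [key _ e0]
    exact Wreath.base_mem (⟨a0, ha0⟩, ⟨b0, hb0⟩)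
  · rw [key _ e1]
    exact mul_mem (Wreath.base_mem (⟨a1, ha1⟩, ⟨b1, hb1⟩)) Wreath.swap_mem

theorem quot_iso : Nonempty (W ⧸ actHom.ker ≃* alternatingFiveWreathTwo) := by
  obtain ⟨e⟩ := quot_iso_ten
  set F := (finSumFinEquiv (m := 5) (n := 5)).symm.permCongrHom.toMonoidHom with hF
  have hinj : Function.Injective F := (finSumFinEquiv (m := 5) (n := 5)).symm.permCongrHom.injective
  have heq : ten.map F = alternatingFiveWreathTwo := by
    refine Subgroup.eq_of_le_of_card_ge ten_le (Wreath.card_le.trans (card_ten_ge.trans ?_))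
    exact (Nat.card_congr (Subgroup.equivMapOfInjective ten F hinj).toEquiv).le
  exact ⟨(e.trans (Subgroup.equivMapOfInjective ten F hinj)).trans (MulEquiv.subgroupCongr heq)⟩

theorem no_normal_two (P : Subgroup (W ⧸ actHom.ker)) [hn : P.Normal] (hP : IsPGroup 2 P) : P = ⊥ := by
  obtain ⟨e⟩ := quot_iso
  haveI : (P.map e.toMonoidHom).Normal := hn.map _ e.surjective
  exact (Subgroup.map_eq_bot_iff_of_injective P e.injective).mp
    (Wreath.no_normal_two _ (hP.map e.toMonoidHom))

end Cfsg.Agent.LeechFive72
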