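import Cfsg.Agent.Lib.LeechCertBase
import Cfsg.Agent.Lib.LeechCertOrbF

/-!
An involution fixing two norm 48 vectors and no member of their 100-point configuration.
-/

set_option autoImplicit false

namespace Cfsg.Agent.LeechFreeInvolution

open Cfsg Cfsg.Agent.GolayBasic Cfsg.Agent.LeechBasic Cfsg.Agent.LeechAut Cfsg.Agent.LeechOrbit
open Cfsg.Agent.LeechCert

/-- The word of the involution. -/
def invWord : List Step :=
  [some (974380510768821363662145534143076928, 0,
    [(0, false), (30, false), (20, false), (15, false), (90, false), (35, false), (10, false), (50, false), (60, false), (65, false), (100, false), (85, false), (45, false), (80, false), (110, false), (75, false), (40, false), (70, false), (5, false), (55, false), (105, false), (25, false), (95, false), (115, false)]),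
   some (962655861924580849728200773901356736, 0,
    [(0, false), (40, false), (30, false), (10, false), (15, false), (110, false), (70, false), (25, false), (80, false), (100, false), (35, false), (20, false), (90, false), (50, false), (85, false), (55, false), (65, false), (75, false), (95, false), (105, false), (45, false), (60, false), (5, false), (115, false)]),
   some (168226784494188449521873720860690605, 15048437,
    [(45, true), (110, false), (90, true), (100, false), (115, true), (5, true), (60, true), (35, true), (30, false), (85, true), (70, true), (25, true), (50, true), (0, false), (15, false), (65, true), (55, true), (95, false), (10, true), (105, false), (40, false), (80, true), (20, true), (75, true)]),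
   none,
   some (338094597766541383408962466926083296, 6714673,
    [(0, true), (80, false), (45, false), (85, false), (110, true), (20, true), (30, false), (5, false), (115, true), (15, false), (25, true), (40, false), (75, true), (35, true), (105, true), (10, false), (55, false), (90, true), (60, true), (95, false), (50, false), (100, true), (70, true), (65, false)]),
   none,
   some (185167394989396175333065006757006439, 3145329,
    [(25, true), (60, false), (50, false), (5, false), (115, true), (75, true), (90, true), (0, false), (55, false), (40, true), (95, true), (20, true), (80, true), (65, true), (110, true), (85, true), (45, true), (35, true), (15, true), (10, true), (105, false), (70, true), (30, false), (100, false)]),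
   some (168226784494188449521873720860690605, 15048437,
    [(45, true), (110, false), (90, true), (100, false), (115, true), (5, true), (60, true), (35, true), (30, false), (85, true), (70, true), (25, true), (50, true), (0, false), (15, false), (65, true), (55, true), (95, false), (10, true), (105, false), (40, false), (80, true), (20, true), (75, true)]),
   none,
   some (338094597766541383408962466926083296, 6714673,
    [(0, true), (80, false), (45, false), (85, false), (110, true), (20, true), (30, false), (5, false), (115, true), (15, false), (25, true), (40, false), (75, true), (35, true), (105, true), (10, false), (55, false), (90, true), (60, true), (95, false), (50, false), (100, true), (70, true), (65, false)]),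
   none,
   some (185167394989396175333065006757006439, 3145329,
    [(25, true), (60, false), (50, false), (5, false), (115, true), (75, true), (90, true), (0, false), (55, false), (40, true), (95, true), (20, true), (80, true), (65, true), (110, true), (85, true), (45, true), (35, true), (15, true), (10, true), (105, false), (70, true), (30, false), (100, false)]),
   some (974380510768821363662145534143076928, 0,
    [(0, false), (30, false), (20, false), (15, false), (90, false), (35, false), (10, false), (50, false), (60, false), (65, false), (100, false), (85, false), (45, false), (80, false), (110, false), (75, false), (40, false), (70, false), (5, false), (55, false), (105, false), (25, false), (95, false), (115, false)]),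
   some (962655861924580849728200773901356736, 0,
    [(0, false), (40, false), (30, false), (10, false), (15, false), (110, false), (70, false), (25, false), (80, false), (100, false), (35, false), (20, false), (90, false), (50, false), (85, false), (55, false), (65, false), (75, false), (95, false), (105, false), (45, false), (60, false), (5, false), (115, false)]),
   some (168226784494188449521873720860690605, 15048437,
    [(45, true), (110, false), (90, true), (100, false), (115, true), (5, true), (60, true), (35, true), (30, false), (85, true), (70, true), (25, true), (50, true), (0, false), (15, false), (65, true), (55, true), (95, false), (10, true), (105, false), (40, false), (80, true), (20, true), (75, true)]),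
   none,
   some (338094597766541383408962466926083296, 6714673,
    [(0, true), (80, false), (45, false), (85, false), (110, true), (20, true), (30, false), (5, false), (115, true), (15, false), (25, true), (40, false), (75, true), (35, true), (105, true), (10, false), (55, false), (90, true), (60, true), (95, false), (50, false), (100, true), (70, true), (65, false)]),
   none,
   some (185167394989396175333065006757006439, 3145329,
    [(25, true), (60, false), (50, false), (5, false), (115, true), (75, true), (90, true), (0, false), (55, false), (40, true), (95, true), (20, true), (80, true), (65, true), (110, true), (85, true), (45, true), (35, true), (15, true), (10, true), (105, false), (70, true), (30, false), (100, false)]),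
   some (168226784494188449521873720860690605, 15048437,
    [(45, true), (110, false), (90, true), (100, false), (115, true), (5, true), (60, true), (35, true), (30, false), (85, true), (70, true), (25, true), (50, true), (0, false), (15, false), (65, true), (55, true), (95, false), (10, true), (105, false), (40, false), (80, true), (20, true), (75, true)]),
   none,
   some (338094597766541383408962466926083296, 6714673,
    [(0, true), (80, false), (45, false), (85, false), (110, true), (20, true), (30, false), (5, false), (115, true), (15, false), (25, true), (40, false), (75, true), (35, true), (105, true), (10, false), (55, false), (90, true), (60, true), (95, false), (50, false), (100, true), (70, true), (65, false)]),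
   none,
   some (185167394989396175333065006757006439, 3145329,
    [(25, true), (60, false), (50, false), (5, false), (115, true), (75, true), (90, true), (0, false), (55, false), (40, true), (95, true), (20, true), (80, true), (65, true), (110, true), (85, true), (45, true), (35, true), (15, true), (10, true), (105, false), (70, true), (30, false), (100, false)]),
   some (974380510768821363662145534143076928, 0,
    [(0, false), (30, false), (20, false), (15, false), (90, false), (35, false), (10, false), (50, false), (60, false), (65, false), (100, false), (85, false), (45, false), (80, false), (110, false), (75, false), (40, false), (70, false), (5, false), (55, false), (105, false), (25, false), (95, false), (115, false)]),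
   some (962655861924580849728200773901356736, 0,
    [(0, false), (40, false), (30, false), (10, false), (15, false), (110, false), (70, false), (25, false), (80, false), (100, false), (35, false), (20, false), (90, false), (50, false), (85, false), (55, false), (65, false), (75, false), (95, false), (105, false), (45, false), (60, false), (5, false), (115, false)]),
   some (168226784494188449521873720860690605, 15048437,
    [(45, true), (110, false), (90, true), (100, false), (115, true), (5, true), (60, true), (35, true), (30, false), (85, true), (70, true), (25, true), (50, true), (0, false), (15, false), (65, true), (55, true), (95, false), (10, true), (105, false), (40, false), (80, true), (20, true), (75, true)]),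
   none,
   some (338094597766541383408962466926083296, 6714673,
    [(0, true), (80, false), (45, false), (85, false), (110, true), (20, true), (30, false), (5, false), (115, true), (15, false), (25, true), (40, false), (75, true), (35, true), (105, true), (10, false), (55, false), (90, true), (60, true), (95, false), (50, false), (100, true), (70, true), (65, false)]),
   none,
   some (185167394989396175333065006757006439, 3145329,
    [(25, true), (60, false), (50, false), (5, false), (115, true), (75, true), (90, true), (0, false), (55, false), (40, true), (95, true), (20, true), (80, true), (65, true), (110, true), (85, true), (45, true), (35, true), (15, true), (10, true), (105, false), (70, true), (30, false), (100, false)]),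
   some (168226784494188449521873720860690605, 15048437,
    [(45, true), (110, false), (90, true), (100, false), (115, true), (5, true), (60, true), (35, true), (30, false), (85, true), (70, true), (25, true), (50, true), (0, false), (15, false), (65, true), (55, true), (95, false), (10, true), (105, false), (40, false), (80, true), (20, true), (75, true)]),
   none,
   some (338094597766541383408962466926083296, 6714673,
    [(0, true), (80, false), (45, false), (85, false), (110, true), (20, true), (30, false), (5, false), (115, true), (15, false), (25, true), (40, false), (75, true), (35, true), (105, true), (10, false), (55, false), (90, true), (60, true), (95, false), (50, false), (100, true), (70, true), (65, false)]),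
   none,
   some (185167394989396175333065006757006439, 3145329,
    [(25, true), (60, false), (50, false), (5, false), (115, true), (75, true), (90, true), (0, false), (55, false), (40, true), (95, true), (20, true), (80, true), (65, true), (110, true), (85, true), (45, true), (35, true), (15, true), (10, true), (105, false), (70, true), (30, false), (100, false)])]

/-- The codes of the frame vectors. -/
def frameCodes : List ℕ :=
  [686053159114795289240674611757597208,
   686053159114795289240674611757597456,
   686053159114795289240674611757605392,
   686053159114795289240674611757859344,
   686053159114795289240674611765985808,
   686053159114795289240674612026032656,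
   686053159114795289240674620347531792,
   686053159114795289240674886635504144,
   686053159114795289240683407850619408,
   686053159114795289240956086734307856,
   686053159114795289249681811012338192,
   686053159114795289528904987909308944,
   686053159114795298464046648612373008,
   686053159114795584388579791110423056,
   686053159114804733973640351048024592,
   686053159115097520695578269051273744,
   686053159124466695797591645155246608,
   686053159424280299062019680482378256,
   686053169018315603523716810950590992,
   686053476027445346298024985933398544,
   686063300319597115075886585383240208,
   686377677668453715967457767778173456,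
   696437752831864944497735604416037392,
   1018360158061024257466626376827683344]

theorem checks : fixOK (cV, cW, c0) invWord = true ∧
    frameCodes.all (fun n => applyWord invWord (applyWord invWord n) == n) = true ∧
    (msort (orbitList OrbF.gens 16 OrbF.scripts [OrbF.root])).all (fun c => !(applyWord invWord c == c) && Nat.blt c 1329227995784915872903807060280344576 &&
      Nat.blt (applyWord invWord c) 1329227995784915872903807060280344576) = true := by
  decide +kernel

theorem frameCodes_spec : ∀ i : GolayPt, vec (frameCodes.getD (idx i) 0) = unitVec 8 i := by
  have : ∀ i p : GolayPt, dig (frameCodes.getD (idx i) 0) (idx p) = if p = i then 8 else 0 := by decide +kernel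
  exact fun i => funext fun p => this i p

/-- The vectors of the configuration are in the orbit list. -/
theorem exists_code {x : leechLattice} (hx : x ∈ census (cV, cW, c0) 32 (24, -24, 0)) :
    ∃ c ∈ msort (orbitList OrbF.gens 16 OrbF.scripts [OrbF.root]), (x : GolayPt → ℤ) = vec c := by
  have hr : LeechXi.isL (vec OrbF.root) = true := by decide +kernel
  have hrm : ofCode _ hr ∈ census (cV, cW, c0) 32 (24, -24, 0) :=
    mem_census₂.mpr (by rw [coe_ofCode]; decide +kernel)
  have hc := OrbF.cert
  simp only [certOK, Bool.and_eq_true, List.all_eq_true] at hc
  obtain ⟨⟨hF, hgens⟩, hasc⟩ := hc
  obtain ⟨hlen, -, hnd, hbd⟩ := ascCount_spec _ _ _ hasc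
  have horb : ∀ p ∈ msort (orbitList OrbF.gens 16 OrbF.scripts [OrbF.root]),
      InOrbit (cV, cW, c0) (ofCode _ hr) p := fun p hp =>
    inOrbit_list hF hgens (by rw [hrm.1]; norm_num) 16 OrbF.scripts [OrbF.root] (fun q hq => by
      rw [List.mem_singleton] at hq; subst hq
      exact ⟨1, fixes_one _, by rw [one_smul, coe_ofCode]⟩) p (mem_msort hp)
  generalize msort (orbitList OrbF.gens 16 OrbF.scripts [OrbF.root]) = L at hlen hnd hbd horb ⊢
  have hfin : (census (cV, cW, c0) 32 (24, -24, 0)).Finite :=
    Set.finite_of_ncard_pos (lt_of_lt_of_eq (by norm_num : 0 < 100) OrbF.ncard.symm)
  have hsub : (L.toFinset.image vec : Set (GolayPt → ℤ)) ⊆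
      Subtype.val '' census (cV, cW, c0) 32 (24, -24, 0) := by
    intro z hz
    obtain ⟨p, hp, rfl⟩ := Finset.mem_image.mp (Finset.mem_coe.mp hz)
    obtain ⟨g, hg, hgp⟩ := horb p (List.mem_toFinset.mp hp)
    exact ⟨_, smul_mem_census hg (a := Spor.leechV) (b := -(Spor.leechV + Spor.leechU')) (c := 0)
      coe_leechV coe_negVU' coe_zero_vec hrm, hgp⟩
  have heq := Set.eq_of_subset_of_ncard_le hsub (by
    rw [Set.ncard_image_of_injective _ Subtype.val_injective, Set.ncard_coe_finset,
      Finset.card_image_of_injOn (fun p hp q hq h => eq_of_vec_eq (hbd p (List.mem_toFinset.mp hp)).2
        (hbd q (List.mem_toFinset.mp hq)).2 h), List.toFinset_card_of_nodup hnd, hlen]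
    exact le_of_eq OrbF.ncard) (hfin.image _)
  have hxs : (x : GolayPt → ℤ) ∈ Subtype.val '' census (cV, cW, c0) 32 (24, -24, 0) := ⟨x, hx, rfl⟩
  rw [← heq] at hxs
  obtain ⟨c, hc, hxc⟩ := Finset.mem_image.mp (Finset.mem_coe.mp hxs)
  exact ⟨c, List.mem_toFinset.mp hc, hxc.symm⟩

/-- An involution fixing the standard pair and none of the 100 vectors. -/
theorem exists_free_involution : ∃ g : Co0, g • Spor.leechV = Spor.leechV ∧
    g • (-(Spor.leechV + Spor.leechU')) = -(Spor.leechV + Spor.leechU') ∧ orderOf g = 2 ∧
    ∀ x ∈ census (cV, cW, c0) 32 (24, -24, 0), g • x ≠ x := by
  obtain ⟨h1, h2, h3⟩ := checks
  obtain ⟨g, hg, hgw⟩ := exists_fixing (F := (cV, cW, c0)) (by decide +kernel) h1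
  have hfree : ∀ x ∈ census (cV, cW, c0) 32 (24, -24, 0), g • x ≠ x := by
    intro x hx he
    obtain ⟨c, hc, hxc⟩ := exists_code hx
    have := List.all_eq_true.1 h3 c hc
    simp only [Bool.and_eq_true, Bool.not_eq_true', beq_eq_false_iff_ne, Nat.blt_eq] at this
    have hv := hgw x c (by rw [hx.1]; norm_num) hxc
    rw [he, hxc] at hv
    have hw : vec (applyWord invWord c) = vec c := hv.symm
    apply this.1.1
    exact eq_of_vec_eq (by simpa using this.2) (by simpa using this.1.2) hw
  refine ⟨g, hg _ (Or.inl coe_leechV), hg _ (Or.inr (Or.inl coe_negVU')), ?_, hfree⟩
  refine orderOf_eq_prime ?_ ?_
  · refine ext_frame fun i => ?_
    rw [one_smul, pow_two, mul_smul]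
    apply Subtype.ext
    have e0 : ((frame i : leechLattice) : GolayPt → ℤ) = vec (frameCodes.getD (idx i) 0) :=
      (frameCodes_spec i).symm
    have e1 := hgw (frame i) _ (by rw [sqNorm_frame]; norm_num) e0
    have e2 := hgw (g • frame i) _ (by rw [sqNorm_smul, sqNorm_frame]; norm_num) e1
    have hmem : frameCodes.getD (idx i) 0 ∈ frameCodes := by
      rw [List.getD_eq_getElem _ _ (show idx i < frameCodes.length from idx_lt i)]
      exact List.getElem_mem _
    have := List.all_eq_true.1 h2 _ hmem
    rw [beq_iff_eq] at this
    rw [e2, this, e0]
  · intro h1
    have hr : LeechXi.isL (vec OrbF.root) = true := by decide +kernel
    refine hfree (ofCode _ hr) (mem_census₂.mpr (by rw [coe_ofCode]; decide +kernel)) ?_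
    rw [h1, one_smul]

end Cfsg.Agent.LeechFreeInvolution
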