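import Cfsg.Agent.Lib.LeechBasic

/-!
The index of the lattice in `ℤ^24` and of twice the lattice.
-/

set_option autoImplicit false

namespace Cfsg.Agent.LeechIndex

open Cfsg Cfsg.Agent.GolayBasic Cfsg.Agent.LeechBasic

/-- Reduction modulo 2 of a vector. -/
def mod2Hom : (GolayPt → ℤ) →+ (GolayPt → ZMod 2) where
  toFun x := fun i => (x i : ZMod 2)
  map_zero' := by funext i; simp
  map_add' x y := by funext i; simp

theorem mod2Hom_surjective : Function.Surjective mod2Hom := fun w =>
  ⟨fun i => (w i).val, by funext i; show ((w i).val : ℤ).cast = w i; simp⟩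

/-- The vectors with all coordinates even. -/
def evens : AddSubgroup (GolayPt → ℤ) := mod2Hom.ker

theorem mem_evens {x : GolayPt → ℤ} : x ∈ evens ↔ ∀ i, x i % 2 = 0 := by
  rw [evens, AddMonoidHom.mem_ker, funext_iff]
  refine forall_congr' fun i => ?_
  show ((x i : ℤ) : ZMod 2) = 0 ↔ _
  rw [ZMod.intCast_zmod_eq_zero_iff_dvd]
  omega

theorem index_evens : evens.index = 2 ^ 24 := by
  rw [evens, AddSubgroup.index_ker, AddMonoidHom.range_eq_top.mpr mod2Hom_surjective,
    Nat.card_congr AddSubgroup.topEquiv.toEquiv]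
  simp

/-- Halving, followed by reduction modulo the code. -/
noncomputable def halfHom : evens →+ (GolayPt → ZMod 2) ⧸ golayCode :=
  AddMonoidHom.mk' (fun x => Submodule.Quotient.mk (wbit x.1)) fun x y => by
    rw [← Submodule.Quotient.mk_add]
    congr 1
    funext i
    have := mem_evens.mp x.2 i
    have := mem_evens.mp y.2 i
    simp only [wbit, AddSubgroup.coe_add, Pi.add_apply]
    rw [show (x.1 i + y.1 i) / 2 = x.1 i / 2 + y.1 i / 2 by omega]
    push_cast; rfl

theorem halfHom_surjective : Function.Surjective halfHom := by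
  intro q
  obtain ⟨w, rfl⟩ := Submodule.Quotient.mk_surjective _ q
  refine ⟨⟨fun i => 2 * ((w i).val : ℤ), mem_evens.mpr fun i => by omega⟩, ?_⟩
  show Submodule.Quotient.mk (wbit _) = _
  congr 1
  funext i
  simp [wbit, Int.mul_ediv_cancel_left]

/-- The even vectors whose halves reduce into the code. -/
noncomputable def codeEvens : AddSubgroup (GolayPt → ℤ) := halfHom.ker.map evens.subtype

theorem codeEvens_le : codeEvens ≤ evens := AddSubgroup.map_subtype_le _

theorem mem_codeEvens {x : GolayPt → ℤ} : x ∈ codeEvens ↔ (∀ i, x i % 2 = 0) ∧ wbit x ∈ golayCode := by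
  constructor
  · rintro ⟨y, hy, rfl⟩
    exact ⟨mem_evens.mp y.2, (Submodule.Quotient.mk_eq_zero _).mp hy⟩
  · rintro ⟨h1, h2⟩
    exact ⟨⟨x, mem_evens.mpr h1⟩, (Submodule.Quotient.mk_eq_zero _).mpr h2, rfl⟩

theorem card_code_quotient : Nat.card ((GolayPt → ZMod 2) ⧸ golayCode) = 2 ^ 12 := by
  have h := Submodule.card_eq_card_quotient_mul_card golayCode
  have h24 : Nat.card (GolayPt → ZMod 2) = 4096 * 4096 := by
    simp
  rw [card_golayCode, h24] at h
  norm_num at h ⊢
  omega

theorem index_codeEvens : codeEvens.index = 2 ^ 36 := by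
  rw [codeEvens, AddSubgroup.index_map_subtype, index_evens, AddSubgroup.index_ker,
    AddMonoidHom.range_eq_top.mpr halfHom_surjective, Nat.card_congr AddSubgroup.topEquiv.toEquiv,
    card_code_quotient]
  norm_num

theorem four_dvd_sum_codeEvens {x : GolayPt → ℤ} (hx : x ∈ codeEvens) : (4 : ℤ) ∣ ∑ i, x i := by
  obtain ⟨h1, h2⟩ := mem_codeEvens.mp hx
  obtain ⟨a, ha⟩ := four_dvd_card (mem_supports_golay.mpr h2)
  have hmod : ∀ i ∈ (Finset.univ : Finset GolayPt),
      x i ≡ 2 * (if i ∈ support₂ (wbit x) then 1 else 0) [ZMOD 4] := by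
    intro i _
    have := h1 i
    have e : i ∈ support₂ (wbit x) ↔ x i / 2 % 2 = 1 := by simp [support₂, wbit_ne_zero_iff]
    unfold Int.ModEq
    split_ifs with h
    · have := e.mp h; omega
    · have h' : ¬ (x i / 2 % 2 = 1) := fun hh => h (e.mpr hh)
      omega
  have hsum := Int.ModEq.sum hmod
  rw [← Finset.mul_sum, Finset.sum_boole, Finset.filter_mem_eq_inter, Finset.univ_inter, ha] at hsum
  push_cast at hsum
  unfold Int.ModEq at hsum
  omega

/-- The parity of a quarter of the coordinate sum. -/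
noncomputable def sumHom : codeEvens →+ ZMod 2 :=
  AddMonoidHom.mk' (fun x => (((∑ i, x.1 i) / 4 : ℤ) : ZMod 2)) fun x y => by
    have := four_dvd_sum_codeEvens x.2
    simp only [AddSubgroup.coe_add, Pi.add_apply, Finset.sum_add_distrib]
    rw [Int.add_ediv_of_dvd_left this, Int.cast_add]

theorem sumHom_surjective : Function.Surjective sumHom := by
  intro z
  obtain rfl | rfl : z = 0 ∨ z = 1 := by revert z; decide
  · exact ⟨0, map_zero _⟩
  · refine ⟨⟨fun i => if i = none then 4 else 0, mem_codeEvens.mpr ⟨fun i => by split_ifs <;> rfl, ?_⟩⟩, ?_⟩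
    · have : wbit (fun i : GolayPt => if i = none then (4 : ℤ) else 0) = 0 := by
        funext i; simp only [wbit]; split_ifs <;> rfl
      rw [this]; exact zero_mem _
    · show (((∑ i : GolayPt, if i = none then (4 : ℤ) else 0) / 4 : ℤ) : ZMod 2) = 1
      simp

/-- The lattice vectors with all coordinates even. -/
noncomputable def evenPart : AddSubgroup (GolayPt → ℤ) := sumHom.ker.map codeEvens.subtype

theorem index_evenPart : evenPart.index = 2 ^ 37 := by
  rw [evenPart, AddSubgroup.index_map_subtype, index_codeEvens, AddSubgroup.index_ker,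
    AddMonoidHom.range_eq_top.mpr sumHom_surjective, Nat.card_congr AddSubgroup.topEquiv.toEquiv]
  simp

theorem mem_evenPart {x : GolayPt → ℤ} : x ∈ evenPart ↔ x ∈ leechLattice ∧ x none % 2 = 0 := by
  constructor
  · rintro ⟨y, hy, rfl⟩
    obtain ⟨h1, h2⟩ := mem_codeEvens.mp y.2
    have h4 := four_dvd_sum_codeEvens y.2
    have hy' : (((∑ i, y.1 i) / 4 : ℤ) : ZMod 2) = 0 := hy
    rw [ZMod.intCast_zmod_eq_zero_iff_dvd] at hy'
    refine ⟨mem_leechLattice.mpr ⟨fun i => (h1 i).trans (h1 none).symm, ?_, h2⟩, h1 none⟩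
    have := h1 none
    show (∑ i, y.1 i) % 8 = 4 * (y.1 none % 2)
    omega
  · rintro ⟨hL, h0⟩
    obtain ⟨h1, h2, h3⟩ := mem_leechLattice.mp hL
    refine ⟨⟨x, mem_codeEvens.mpr ⟨fun i => (h1 i).trans h0, h3⟩⟩, ?_, rfl⟩
    show (((∑ i, x i) / 4 : ℤ) : ZMod 2) = 0
    rw [ZMod.intCast_zmod_eq_zero_iff_dvd]
    omega

/-- The parity of a lattice vector. -/
def parityHom : leechLattice →+ ZMod 2 :=
  AddMonoidHom.mk' (fun x => (x.1 none : ZMod 2)) fun x y => by simp

theorem parityHom_surjective : Function.Surjective parityHom := by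
  intro z
  obtain rfl | rfl : z = 0 ∨ z = 1 := by revert z; decide
  · exact ⟨0, map_zero _⟩
  · refine ⟨⟨fun i => if i = none then -3 else 1, mem_leechLattice.mpr ⟨fun i => ?_, ?_, ?_⟩⟩, ?_⟩
    · by_cases h : i = none <;> simp [h]
    · decide
    · have : wbit (fun i : GolayPt => if i = none then (-3 : ℤ) else 1) = 0 := by
        funext i; simp only [wbit]; split_ifs <;> rfl
      rw [this]; exact zero_mem _
    · show (((if (none : GolayPt) = none then (-3 : ℤ) else 1) : ℤ) : ZMod 2) = 1
      rw [if_pos rfl]; decide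

theorem index_leechLattice : leechLattice.index = 2 ^ 36 := by
  have h : parityHom.ker.map leechLattice.subtype = evenPart := by
    ext x
    rw [mem_evenPart]
    constructor
    · rintro ⟨y, hy, rfl⟩
      refine ⟨y.2, ?_⟩
      have hy' : ((y.1 none : ℤ) : ZMod 2) = 0 := hy
      rw [ZMod.intCast_zmod_eq_zero_iff_dvd] at hy'
      show y.1 none % 2 = 0
      omega
    · rintro ⟨h1, h2⟩
      refine ⟨⟨x, h1⟩, ?_, rfl⟩
      show ((x none : ℤ) : ZMod 2) = 0
      rw [ZMod.intCast_zmod_eq_zero_iff_dvd]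
      omega
  have h2 := AddSubgroup.index_map_subtype parityHom.ker
  rw [h, index_evenPart, AddSubgroup.index_ker, AddMonoidHom.range_eq_top.mpr parityHom_surjective,
    Nat.card_congr AddSubgroup.topEquiv.toEquiv, Nat.card_zmod] at h2
  omega

/-- Doubling. -/
def doubleHom : (GolayPt → ℤ) →+ (GolayPt → ℤ) :=
  AddMonoidHom.mk' (fun x => x + x) fun x y => add_add_add_comm x y x y

theorem doubleHom_injective : Function.Injective doubleHom := by
  intro x y h
  funext i
  have : x i + x i = y i + y i := congrFun h i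
  omega

/-- Twice the lattice. -/
def twiceLeech : AddSubgroup (GolayPt → ℤ) := leechLattice.map doubleHom

theorem mem_twiceLeech {x : GolayPt → ℤ} : x ∈ twiceLeech ↔ ∃ z ∈ leechLattice, x = 2 • z := by
  constructor
  · rintro ⟨z, hz, rfl⟩; exact ⟨z, hz, (two_nsmul z).symm⟩
  · rintro ⟨z, hz, rfl⟩; exact ⟨z, hz, (two_nsmul z).symm⟩

theorem twiceLeech_le : twiceLeech ≤ leechLattice := by
  rintro _ ⟨z, hz, rfl⟩
  exact add_mem hz hz

theorem relIndex_twiceLeech : twiceLeech.relIndex leechLattice = 2 ^ 24 := by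
  have h1 := AddSubgroup.relIndex_mul_index twiceLeech_le
  have h2 : doubleHom.range = evens := by
    ext x
    rw [mem_evens]
    constructor
    · rintro ⟨y, rfl⟩ i
      show (y i + y i) % 2 = 0
      omega
    · intro h
      refine ⟨fun i => x i / 2, funext fun i => ?_⟩
      show x i / 2 + x i / 2 = x i
      have := h i
      omega
  have h3 : twiceLeech.index = leechLattice.index * evens.index := by
    rw [twiceLeech, AddSubgroup.index_map_of_injective _ doubleHom_injective, h2]
  rw [h3, index_leechLattice, index_evens] at h1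
  exact Nat.eq_of_mul_eq_mul_right (by positivity) (h1.trans (mul_comm _ _))

end Cfsg.Agent.LeechIndex
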