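import Cfsg.Agent.Lib.LeechTransitive
import Cfsg.Agent.Lib.LeechOrder
import Cfsg.Agent.Lib.LeechMaximalData

/-!
The stabiliser of the standard cross is maximal.
-/

set_option autoImplicit false

open scoped Pointwise

namespace Cfsg.Agent.LeechMaximal

open Cfsg Cfsg.Agent.GolayBasic Cfsg.Agent.LeechBasic Cfsg.Agent.LeechAut Cfsg.Agent.LeechXi
open Cfsg.Agent.LeechMonomial Cfsg.Agent.LeechIndex Cfsg.Agent.LeechOrder Cfsg.Agent.LeechOrbit
open Cfsg.Agent.LeechMaximalData
open Cfsg.Agent.GolayPerm (good pts mem_pts permOf permOf_mem_M24)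
open Cfsg.Agent.LeechOrbitData (Step perms data64odd data64zero data64octad data64dodecad data64co)

/-- The code of a frame vector. -/
def tgt64 : ℕ := 1018360158061024257466626376827683344

/-- The element of a step. -/
noncomputable def stepElt (j m : ℕ) : Co0 :=
  if j = 0 then xi
  else if h : good (perms.getD (j - 1) 0) = true ∧ inCode m = true then
    monomial _ (permOf_mem_M24 h.1) (mset m) ((mset_mem_supports (inCode_lt h.2)).2 h.2)
  else 1

/-- The element of a word. -/
noncomputable def wordElt : List (ℕ × ℕ) → Co0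
  | [] => 1
  | s :: w => wordElt w * stepElt s.1 s.2

/-- The word of a list of steps. -/
def word (st : List Step) : List (ℕ × ℕ) := st.map fun s => (s.1, s.2.1)

theorem wordElt_smul {tgt : ℕ} : ∀ (st : List Step) (u : ℕ), stepsOK tgt u st = true →
    ∀ v : leechLattice, (v : GolayPt → ℤ) = vec u →
      ((wordElt (word st) • v : leechLattice) : GolayPt → ℤ) = vec tgt := by
  intro st
  induction st with
  | nil =>
    intro u h v hv
    simp only [stepsOK, beq_iff_eq] at h
    rw [word, List.map_nil, wordElt, one_smul, hv, h]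
  | cons s rest ih =>
    obtain ⟨j, m, w⟩ := s
    intro u h v hv
    simp only [stepsOK, Bool.and_eq_true] at h
    obtain ⟨h1, h2⟩ := h
    show ((wordElt (word rest) * stepElt j m) • v : leechLattice).1 = _
    rw [mul_smul]
    refine ih w h2 _ ?_
    by_cases hj : j = 0
    · rw [if_pos hj] at h1
      rw [stepElt, if_pos hj, coe_xi_smul, hv, vec_xiOK h1]
    · rw [if_neg hj, Bool.and_eq_true] at h1
      obtain ⟨h1, hlen⟩ := h1
      have hP : good (perms.getD (j - 1) 0) = true := by
        have hlt : j - 1 < perms.length := by have := of_decide_eq_true hlen; omega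
        rw [List.getD_eq_getElem _ _ hlt]
        exact List.all_eq_true.1 perms_good _ (List.getElem_mem hlt)
      have hm : inCode m = true := by
        simp only [monoOK, Bool.and_eq_true] at h1; exact h1.1
      rw [stepElt, if_neg hj, dif_pos ⟨hP, hm⟩, coe_monomial_smul, hv, vec_monoOK hP h1]

theorem monomial_mem {σ : Equiv.Perm GolayPt} (hσ : σ ∈ M24) {c : Finset GolayPt}
    (hc : c ∈ supports (golayCode : Set (GolayPt → ZMod 2))) :
    monomial σ hσ c hc ∈ MulAction.stabilizer Co0 stdL :=
  mem_stabilizer_stdL.2 (mapsStd_iff.2 ⟨σ, hσ, c, hc, rfl⟩)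

variable {H : Subgroup Co0}

theorem stepElt_mem (hH : MulAction.stabilizer Co0 stdL ≤ H) {j m : ℕ} (h : j ≠ 0 ∨ xi ∈ H) :
    stepElt j m ∈ H := by
  unfold stepElt
  split_ifs with hj hg
  · exact h.resolve_left (fun hne => hne hj)
  · exact hH (monomial_mem _ _)
  · exact one_mem _

theorem wordElt_mem (hH : MulAction.stabilizer Co0 stdL ≤ H) :
    ∀ w : List (ℕ × ℕ), (∀ s ∈ w, s.1 ≠ 0) ∨ xi ∈ H → wordElt w ∈ H
  | [], _ => one_mem _
  | s :: w, h => mul_mem
      (wordElt_mem hH w (h.imp_left fun h t ht => h t (List.mem_cons_of_mem _ ht)))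
      (stepElt_mem hH (h.imp_left fun h => h s List.mem_cons_self))

/-- Congruence of encoded vectors modulo twice the lattice. -/
def congOK (a b : ℕ) : Bool :=
  pts.all (fun i => (dig a i - dig b i) % 2 == 0) && isL (fun p => (vec a p - vec b p) / 2)

theorem crossL_congOK {a b : ℕ} (h : congOK a b = true) {v w : leechLattice} (hw : w ∈ norm64)
    (ha : (v : GolayPt → ℤ) = vec a) (hb : (w : GolayPt → ℤ) = vec b) : crossL v = crossL w := by
  simp only [congOK, Bool.and_eq_true, List.all_eq_true, beq_iff_eq] at h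
  have hs : (v : GolayPt → ℤ) - w = 2 • fun p => (vec a p - vec b p) / 2 := by
    funext p
    have h1 := h.1 (idx p) (Cfsg.Agent.GolayPerm.mem_pts.2 (idx_lt p))
    rw [ha, hb]
    simp only [Pi.sub_apply, Pi.smul_apply, nsmul_eq_mul, Nat.cast_ofNat, vec]
    omega
  exact (crossL_eq ⟨hw, mem_twiceLeech.2 ⟨_, isL_iff.1 h.2, hs⟩⟩).symm

/-- No step of a list is the non-monomial map. -/
def allMono (l : List Step) : Bool := l.all fun s => s.1 != 0

/-- Check the moves of one normal form. -/
def certOK (q : ℕ × List Step) : Cert → Bool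
  | none => congOK q.1 tgt64
  | some (a, b, c) =>
    let z := (a.map fun s => s.2.2).getLastD q.1
    let w := (b.map fun s => s.2.2).getLastD z
    let y := (c.map fun s => s.2.2).getLastD x0
    allMono a && allMono c && (word b == word q.2) && stepsOK z q.1 a && stepsOK w z b &&
      stepsOK y x0 c && congOK w y

/-- Check all. -/
def allOK : List (ℕ × List Step) → List Cert → Bool
  | [], [] => true
  | q :: l, c :: cs => certOK q c && allOK l cs
  | _, _ => false

theorem exists_of_allOK : ∀ (l : List (ℕ × List Step)) (cs : List Cert), allOK l cs = true →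
    ∀ q ∈ l, ∃ c, certOK q c = true
  | [], _, _, q, hq => by simp at hq
  | q₀ :: l, [], h, q, _ => by simp [allOK] at h
  | q₀ :: l, c :: cs, h, q, hq => by
    simp only [allOK, Bool.and_eq_true] at h
    rcases List.mem_cons.1 hq with rfl | hq
    · exact ⟨c, h.1⟩
    · exact exists_of_allOK l cs h.2 q hq

/-- All normal forms with their paths. -/
def nfs : List (ℕ × List Step) :=
  listed (data64odd ++ data64zero ++ data64octad ++ data64dodecad ++ data64co)

theorem check_certs : allOK nfs certs = true ∧ xiOK tgt64 x0 = true := by decide +kernel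

theorem vec_tgt64 : ∀ p : GolayPt, vec tgt64 p = if p = none then 8 else 0 := by decide +kernel

theorem coe_tgt64 : ((frame none : leechLattice) : GolayPt → ℤ) = vec tgt64 := by
  funext p
  rw [vec_tgt64]
  simp [frame, unitVec]

theorem crossL_of_eq_tgt {v : leechLattice} (h : (v : GolayPt → ℤ) = vec tgt64) : crossL v = stdL := by
  rw [stdL_eq, show v = frame none from Subtype.ext (h.trans coe_tgt64.symm)]

theorem norm64_of_smul {v : leechLattice} (g : Co0) (h : v ∈ norm64) : g • v ∈ norm64 :=
  (sqNorm_smul g v).trans h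

/-- The step lists of the checked data bring every normal form to the frame vector. -/
theorem gen64 {P : (GolayPt → ℤ) → Prop} (hP : MonoInvariant P)
    (hb : ∀ u st, (u, st) ∈ nfs → stepsOK tgt64 u st = true → P (vec u))
    (v : leechLattice) (hv : v ∈ norm64) : P (v : GolayPt → ℤ) := by
  obtain ⟨a, b, c, d, e⟩ := check64
  exact gen_all (N := 64) (by norm_num) a b c (Or.inr d) (Or.inr e) hP hb v.2 hv

theorem xi_mem (hH : MulAction.stabilizer Co0 stdL ≤ H) {h : Co0} (hh : h ∈ H)
    (hne : h • stdL ≠ stdL) : xi ∈ H := by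
  let P : (GolayPt → ℤ) → Prop := fun x => ∀ v : leechLattice, (v : GolayPt → ℤ) = x → v ∈ norm64 →
    ∀ h ∈ H, h • stdL = crossL v → h • stdL ≠ stdL → xi ∈ H
  have hP : MonoInvariant P := by
    intro σ hσ c hc z hz v hv hn k hk hkv hkne
    refine hz (monomial σ hσ c hc • v) (by rw [coe_monomial_smul, hv]) (norm64_of_smul _ hn)
      (monomial σ hσ c hc * k) (mul_mem (hH (monomial_mem hσ hc)) hk) ?_ ?_
    · rw [mul_smul, hkv, smul_crossL]
    · rw [mul_smul]
      intro he
      apply hkne
      have hm : monomial σ hσ c hc • stdL = stdL := monomial_mem hσ hc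
      exact smul_left_cancel _ (he.trans hm.symm)
  refine gen64 hP ?_ (h • frame none) (norm64_of_smul _ (frame_mem_norm64 none)) _ rfl
    (norm64_of_smul _ (frame_mem_norm64 none)) h hh (by rw [stdL_eq, smul_crossL]) hne
  intro u st hmem hst v hv hn k hk hkv hkne
  obtain ⟨c, hc⟩ := exists_of_allOK _ _ check_certs.1 _ hmem
  match c, hc with
  | none, hc =>
    refine absurd ?_ hkne
    rw [hkv]
    exact (crossL_congOK hc (frame_mem_norm64 none) hv coe_tgt64).trans
      (crossL_of_eq_tgt coe_tgt64)
  | some (a, b, c), hc =>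
    simp only [certOK, Bool.and_eq_true, beq_iff_eq, allMono, List.all_eq_true, bne_iff_ne] at hc
    obtain ⟨⟨⟨⟨⟨⟨ha0, hc0⟩, hbw⟩, ha⟩, hb⟩, hc'⟩, hcong⟩ := hc
    have hm : ∀ l : List Step, (∀ s ∈ l, s.1 ≠ 0) → wordElt (word l) ∈ MulAction.stabilizer Co0 stdL :=
      fun l hl => wordElt_mem le_rfl _ (Or.inl fun s hs => by
        obtain ⟨t, ht, rfl⟩ := List.mem_map.1 hs
        exact hl t ht)
    set p := wordElt (word st) with hp
    set A := wordElt (word a) with hA
    set C := wordElt (word c) with hC
    have hstd : (p * k) • stdL = stdL := by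
      rw [mul_smul, hkv, smul_crossL]
      exact crossL_of_eq_tgt (wordElt_smul st u hst v hv)
    have hpH : p ∈ H := by
      have : p * k ∈ H := hH hstd
      simpa using mul_mem this (inv_mem hk)
    have hkv' : p⁻¹ • stdL = crossL v := by
      rw [← hkv, inv_smul_eq_iff, ← mul_smul, hstd]
    have hy0 : ((xi • frame none : leechLattice) : GolayPt → ℤ) = vec x0 := by
      rw [coe_xi_smul, coe_tgt64, vec_xiOK check_certs.2]
    have hw := wordElt_smul b _ hb (A • v) (wordElt_smul a u ha v hv)
    rw [hbw, ← hp] at hw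
    have hy := wordElt_smul c x0 hc' (xi • frame none) hy0
    rw [← hC] at hy
    have key : (p * A * p⁻¹) • stdL = (C * xi) • stdL := by
      rw [mul_smul, mul_smul, hkv', smul_crossL, smul_crossL, mul_smul, stdL_eq, smul_crossL, smul_crossL]
      exact crossL_congOK hcong (norm64_of_smul _ (norm64_of_smul _ (frame_mem_norm64 none))) hw hy
    have hg : p * A * p⁻¹ ∈ H := mul_mem (mul_mem hpH (hH (hm a ha0))) (inv_mem hpH)
    have : (p * A * p⁻¹)⁻¹ * (C * xi) ∈ H := hH (by
      rw [MulAction.mem_stabilizer_iff, mul_smul, inv_smul_eq_iff]; exact key.symm)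
    have h1 := mul_mem hg this
    rw [mul_inv_cancel_left] at h1
    have h2 := mul_mem (inv_mem (hH (hm c hc0))) h1
    rwa [← hC, inv_mul_cancel_left] at h2

/-- The stabiliser and `xi` generate. -/
theorem eq_top (hH : MulAction.stabilizer Co0 stdL ≤ H) (hxi : xi ∈ H) : H = ⊤ := by
  let P : (GolayPt → ℤ) → Prop := fun x => ∀ v : leechLattice, (v : GolayPt → ℤ) = x →
    ∃ h ∈ H, h • crossL v = stdL
  have hP : MonoInvariant P := by
    intro σ hσ c hc z hz v hv
    obtain ⟨k, hk, hkv⟩ := hz (monomial σ hσ c hc • v) (by rw [coe_monomial_smul, hv])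
    exact ⟨k * monomial σ hσ c hc, mul_mem hk (hH (monomial_mem hσ hc)),
      by rw [mul_smul, smul_crossL, hkv]⟩
  rw [eq_top_iff]
  intro g _
  obtain ⟨k, hk, hkv⟩ := gen64 hP (fun u st _ hst v hv =>
      ⟨wordElt (word st), wordElt_mem hH _ (Or.inr hxi), by
        rw [smul_crossL]; exact crossL_of_eq_tgt (wordElt_smul st u hst v hv)⟩)
    (g • frame none) (norm64_of_smul _ (frame_mem_norm64 none)) _ rfl
  rw [← smul_crossL, ← stdL_eq, ← mul_smul] at hkv
  simpa using mul_mem (inv_mem hk) (hH hkv)

theorem isCoatom_stabilizer : IsCoatom (MulAction.stabilizer Co0 stdL) := by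
  refine ⟨fun htop => ?_, fun K hK => ?_⟩
  · have h1 := card_stabilizer_stdL
    rw [htop, Subgroup.card_top, card_Co0] at h1
    norm_num at h1
  · obtain ⟨k, hk, hk'⟩ := Set.exists_of_ssubset hK
    exact eq_top hK.le (xi_mem hK.le hk hk')

end Cfsg.Agent.LeechMaximal
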