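import Cfsg.Agent.Lib.LeechPairs
import Cfsg.Agent.Lib.LeechMod2
import Cfsg.Agent.Lib.LeechOrder

/-!
The lattice modulo twice itself as a module for the automorphism group, and its invariant
quadratic form.
-/

set_option autoImplicit false

open scoped Pointwise

namespace Cfsg.Agent.LeechModTwo

open Cfsg Cfsg.Agent.GolayBasic Cfsg.Agent.LeechBasic Cfsg.Agent.LeechAut Cfsg.Agent.LeechXi
open Cfsg.Agent.LeechOrbit Cfsg.Agent.LeechCert Cfsg.Agent.LeechIndex Cfsg.Agent.LeechOrder

/-- `4e_∞ + 4e_a`. -/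
def plusVec (a : GolayPt) : GolayPt → ℤ := fun p => (if p = none then 4 else 0) + (if p = a then 4 else 0)

theorem plusVec_spec : ∀ a : GolayPt, a ≠ none → isL (plusVec a) = true ∧ sqNorm (plusVec a) = 32 ∧
    sqNorm (fourDiff a) = 32 ∧ (a ≠ some 0 → dotInt (plusVec a) (plusVec (some 0)) ≠ 0 ∧
      dotInt (fourDiff a) (plusVec (some 0)) ≠ 0) := by
  decide +kernel

/-- An automorphism that is trivial modulo twice the lattice is central. -/
theorem mem_center_of_trivial {g : Co0}
    (hg : ∀ v : leechLattice, ((g • v : leechLattice) : GolayPt → ℤ) - v ∈ twiceLeech) :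
    g ∈ Subgroup.center Co0 := by
  have hpm : ∀ v : leechLattice, sqNorm (v : GolayPt → ℤ) = 32 → g • v = v ∨ g • v = -v := by
    intro v hv
    rcases LeechMod2.congr_short v.2 (hg v) (by rw [sqNorm_smul]; omega) (by omega) with h | h | h
    · exact Or.inl (Subtype.ext h)
    · exact Or.inr (Subtype.ext h)
    · omega
  let P : GolayPt → leechLattice := fun a =>
    if h : a = none then 0 else ⟨plusVec a, isL_iff.mp (plusVec_spec a h).1⟩
  let D : GolayPt → leechLattice := fun a => ⟨fourDiff a, fourDiff_mem a⟩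
  have hP : ∀ a, a ≠ none → ((P a : leechLattice) : GolayPt → ℤ) = plusVec a := fun a ha => by
    simp only [P, dif_neg ha]
  have h0 : (some 0 : GolayPt) ≠ none := by decide
  -- the common sign
  obtain ⟨ε, hε, hP0⟩ : ∃ ε : ℤ, (ε = 1 ∨ ε = -1) ∧ g • P (some 0) = ε • P (some 0) := by
    rcases hpm (P (some 0)) (by rw [hP _ h0]; exact (plusVec_spec _ h0).2.1) with h | h
    · exact ⟨1, Or.inl rfl, by rw [h, one_zsmul]⟩
    · exact ⟨-1, Or.inr rfl, by rw [h, neg_one_zsmul]⟩
  have same : ∀ v : leechLattice, sqNorm (v : GolayPt → ℤ) = 32 →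
      dotInt (v : GolayPt → ℤ) (P (some 0)) ≠ 0 → g • v = ε • v := by
    intro v hv hd
    obtain ⟨δ, hδ, hvg⟩ : ∃ δ : ℤ, (δ = 1 ∨ δ = -1) ∧ g • v = δ • v := by
      rcases hpm v hv with h | h
      · exact ⟨1, Or.inl rfl, by rw [h, one_zsmul]⟩
      · exact ⟨-1, Or.inr rfl, by rw [h, neg_one_zsmul]⟩
    have h := dotInt_smul g v (P (some 0))
    rw [hvg, hP0, AddSubgroup.coe_zsmul, AddSubgroup.coe_zsmul] at h
    have e : dotInt (δ • (v : GolayPt → ℤ)) (ε • ((P (some 0) : leechLattice) : GolayPt → ℤ)) =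
        δ * ε * dotInt (v : GolayPt → ℤ) (P (some 0)) := by
      simp only [dotInt, Pi.smul_apply, smul_eq_mul, Finset.mul_sum]
      exact Finset.sum_congr rfl fun i _ => by ring
    rw [e] at h
    have h1 : δ * ε = 1 := by
      by_contra hne
      rcases hδ with rfl | rfl <;> rcases hε with rfl | rfl <;> simp at h hne <;> omega
    have : δ = ε := by rcases hδ with rfl | rfl <;> rcases hε with rfl | rfl <;> omega
    rw [hvg, this]
  have hPa : ∀ a, a ≠ none → g • P a = ε • P a := by
    intro a ha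
    by_cases ha0 : a = some 0
    · subst ha0; exact hP0
    · exact same _ (by rw [hP a ha]; exact (plusVec_spec a ha).2.1)
        (by rw [hP a ha, hP _ h0]; exact ((plusVec_spec a ha).2.2.2 ha0).1)
  have hDa : ∀ a, a ≠ none → a ≠ some 0 → g • D a = ε • D a := fun a ha ha0 =>
    same _ (plusVec_spec a ha).2.2.1 (by rw [hP _ h0]; exact ((plusVec_spec a ha).2.2.2 ha0).2)
  have hframe : ∀ i, g • frame i = ε • frame i := by
    have h1 : (some 1 : GolayPt) ≠ none ∧ (some 1 : GolayPt) ≠ some 0 := by decide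
    have hnone : g • frame none = ε • frame none := by
      have e : frame none = P (some 1) - D (some 1) := by
        apply Subtype.ext
        rw [AddSubgroup.coe_sub, hP _ h1.1]
        show unitVec 8 none = plusVec (some 1) - fourDiff (some 1)
        decide +kernel
      rw [e, smul_sub_vec, hPa _ h1.1, hDa _ h1.1 h1.2, zsmul_sub]
    intro i
    by_cases hi : i = none
    · subst hi; exact hnone
    · have e : frame i = P i + P i - frame none := by
        apply Subtype.ext
        rw [AddSubgroup.coe_sub, AddSubgroup.coe_add, hP _ hi]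
        funext p
        show unitVec 8 i p = _
        simp only [plusVec, Pi.sub_apply, Pi.add_apply, frame, unitVec]
        split_ifs with a b <;> simp_all
      rw [e, smul_sub_vec, smul_add_vec, hnone, hPa _ hi, zsmul_sub, zsmul_add]
  rcases hε with rfl | rfl
  · have : g = 1 := ext_frame fun i => by rw [hframe, one_zsmul, one_smul]
    rw [this]; exact one_mem _
  · have : g = negAut := ext_frame fun i => by rw [hframe, neg_one_zsmul, negAut_smul]
    rw [this]; exact negAut_mem_center

theorem isL_vA : isL (vec 1018360158061024257466626376827683344) = true := by decide +kernel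

theorem isL_vB : isL (vec 937879559309405975378814203089928718) = true := by decide +kernel

theorem isL_va : isL (vec 766533681193922603220813639353647632) = true := by decide +kernel

theorem isL_vb : isL (vec 686050623811101423276662448921788946) = true := by decide +kernel

theorem isL_vc : isL (vec 602976488606327364765788053439070672) = true := by decide +kernel

/-- An invariant subgroup between twice the lattice and the lattice containing a minimal vector is the lattice. -/
theorem eq_top_of_minimal {M : AddSubgroup (GolayPt → ℤ)} (hM : M ≤ leechLattice)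
    (hinv : ∀ g : Co0, ∀ v : leechLattice, (v : GolayPt → ℤ) ∈ M → ((g • v : leechLattice) : GolayPt → ℤ) ∈ M)
    {v : leechLattice} (hv : sqNorm (v : GolayPt → ℤ) = 32) (hvM : (v : GolayPt → ℤ) ∈ M) :
    M = leechLattice := by
  refine le_antisymm hM ?_
  rw [← closure_minimal, AddSubgroup.closure_le]
  rintro x ⟨hx, hxn⟩
  obtain ⟨g, hg⟩ := exists_smul_eq (Or.inl rfl) (v := v) (w := ⟨x, hx⟩) hv hxn
  have := hinv g v hvM
  rw [hg] at this
  exact this

theorem irreducible {M : AddSubgroup (GolayPt → ℤ)} (h2 : ∀ v ∈ leechLattice, (2 : ℤ) • v ∈ M)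
    (hM : M ≤ leechLattice)
    (hinv : ∀ g : Co0, ∀ v : leechLattice, (v : GolayPt → ℤ) ∈ M → ((g • v : leechLattice) : GolayPt → ℤ) ∈ M)
    {x : GolayPt → ℤ} (hx : x ∈ M) (hnot : x ∉ twiceLeech) : M = leechLattice := by
  obtain ⟨y, hy, hyn, hxy⟩ := LeechMod2.main.1 x (hM hx)
  have hyM : y ∈ M := by
    obtain ⟨z, hz, hzv⟩ := mem_twiceLeech.mp hxy
    have h := h2 z hz
    rw [two_zsmul, ← two_nsmul, ← hzv] at h
    have := sub_mem hx h
    rwa [sub_sub_cancel] at this
  have hy0 : y ≠ 0 := by
    rintro rfl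
    rw [sub_zero] at hxy
    exact hnot hxy
  have h32 := thirtytwo_le_sqNorm (mem_leechLattice.mp hy) hy0
  have h16 := sixteen_dvd_sqNorm (mem_leechLattice.mp hy)
  rcases (show sqNorm y = 32 ∨ sqNorm y = 48 ∨ sqNorm y = 64 by omega) with h | h | h
  · exact eq_top_of_minimal hM hinv (v := ⟨y, hy⟩) h hyM
  · have h48 : ∀ z : leechLattice, sqNorm (z : GolayPt → ℤ) = 48 → (z : GolayPt → ℤ) ∈ M := by
      intro z hz
      obtain ⟨g, hg⟩ := exists_smul_eq (Or.inr (Or.inl rfl)) (v := ⟨y, hy⟩) (w := z) h hz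
      have := hinv g ⟨y, hy⟩ hyM
      rwa [hg] at this
    refine eq_top_of_minimal hM hinv (v := Spor.leechV + (-(Spor.leechV + Spor.leechU')))
      (by decide +kernel) ?_
    rw [AddSubgroup.coe_add]
    exact add_mem (h48 _ LeechPairs.sqNorm_leechV) (h48 _ (by decide +kernel))
  · have h64 : ∀ z : leechLattice, sqNorm (z : GolayPt → ℤ) = 64 → (z : GolayPt → ℤ) ∈ M := by
      intro z hz
      obtain ⟨g, hg⟩ := exists_smul_eq (Or.inr (Or.inr rfl)) (v := ⟨y, hy⟩) (w := z) h hz
      have := hinv g ⟨y, hy⟩ hyM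
      rwa [hg] at this
    refine eq_top_of_minimal hM hinv (v := ofCode _ isL_vA - ofCode _ isL_vB) (by decide +kernel) ?_
    rw [AddSubgroup.coe_sub]
    exact sub_mem (h64 _ (by decide +kernel)) (h64 _ (by decide +kernel))

theorem eight_dvd_dotInt {x y : GolayPt → ℤ} (hx : x ∈ leechLattice) (hy : y ∈ leechLattice) :
    8 ∣ dotInt x y := by
  have h1 := sixteen_dvd_sqNorm (mem_leechLattice.mp hx)
  have h2 := sixteen_dvd_sqNorm (mem_leechLattice.mp hy)
  have h3 := sixteen_dvd_sqNorm (mem_leechLattice.mp (add_mem hx hy))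
  rw [sqNorm_add] at h3
  omega

section Form

variable (Q : leechLattice → ZMod 2)
  (hcoset : ∀ v w : leechLattice, Q (v + (w + w)) = Q v)
  (hquad : ∀ u v w : leechLattice, Q (u + v + w) + Q u + Q v + Q w = Q (u + v) + Q (u + w) + Q (v + w))
  (hinv : ∀ (g : Co0) (v : leechLattice), Q (g • v) = Q v)

include hcoset hquad hinv

theorem quad_unique (hne : ∃ v, Q v ≠ 0) (v : leechLattice) :
    Q v = ((sqNorm (v : GolayPt → ℤ) / 16 : ℤ) : ZMod 2) := by
  have hQ0 : Q 0 = 0 := by
    have := hquad 0 0 0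
    simp only [add_zero] at this
    revert this; generalize Q 0 = a; revert a; decide
  have same : ∀ {N : ℕ}, (N = 32 ∨ N = 48 ∨ N = 64) → ∀ {a b : leechLattice},
      sqNorm (a : GolayPt → ℤ) = N → sqNorm (b : GolayPt → ℤ) = N → Q a = Q b := by
    intro N hN a b ha hb
    obtain ⟨g, hg⟩ := exists_smul_eq hN ha hb
    rw [← hg, hinv]
  set u := Spor.leechU
  set a := ofCode _ isL_va
  set b := ofCode _ isL_vb
  set c := ofCode _ isL_vc
  have r1 := hquad u a b
  have r2 := hquad u a c
  have hsub : ∀ x y : leechLattice, Q (x + y) = Q (x - y) := fun x y => by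
    rw [← hcoset (x - y) y, show x - y + (y + y) = x + y by abel]
  obtain ⟨q32, hq32⟩ : ∃ q, ∀ x : leechLattice, sqNorm (x : GolayPt → ℤ) = 32 → Q x = q :=
    ⟨_, fun x hx => same (Or.inl rfl) (a := x) (b := u) hx (by decide +kernel)⟩
  obtain ⟨q48, hq48⟩ : ∃ q, ∀ x : leechLattice, sqNorm (x : GolayPt → ℤ) = 48 → Q x = q :=
    ⟨_, fun x hx => same (Or.inr (Or.inl rfl)) (a := x) (b := Spor.leechV) hx LeechPairs.sqNorm_leechV⟩
  obtain ⟨q64, hq64⟩ : ∃ q, ∀ x : leechLattice, sqNorm (x : GolayPt → ℤ) = 64 → Q x = q :=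
    ⟨_, fun x hx => same (Or.inr (Or.inr rfl)) (a := x) (b := frame none) hx (sqNorm_frame none)⟩
  -- the first relation
  rw [hsub u a, hsub u b, show u + a + b = u + (a + b) by abel, hsub u (a + b),
    hq32 _ (show sqNorm ((u - (a + b) : leechLattice) : GolayPt → ℤ) = 32 by decide +kernel),
    hq48 _ (show sqNorm ((u - a : leechLattice) : GolayPt → ℤ) = 48 by decide +kernel),
    hq48 _ (show sqNorm ((u - b : leechLattice) : GolayPt → ℤ) = 48 by decide +kernel),
    hq32 _ (show sqNorm ((a + b : leechLattice) : GolayPt → ℤ) = 32 by decide +kernel),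
    hq32 u (by decide +kernel), hq32 a (by decide +kernel), hq32 b (by decide +kernel)] at r1
  rw [hsub u a, show u + a + c = u + (a + c) by abel,
    hq64 _ (show sqNorm ((u + (a + c) : leechLattice) : GolayPt → ℤ) = 64 by decide +kernel),
    hq48 _ (show sqNorm ((u - a : leechLattice) : GolayPt → ℤ) = 48 by decide +kernel),
    hq48 _ (show sqNorm ((u + c : leechLattice) : GolayPt → ℤ) = 48 by decide +kernel),
    hq32 _ (show sqNorm ((a + c : leechLattice) : GolayPt → ℤ) = 32 by decide +kernel),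
    hq32 u (by decide +kernel), hq32 a (by decide +kernel), hq32 c (by decide +kernel)] at r2
  have e32 : q32 = 0 := by revert r1; generalize q32 = p; generalize q48 = q; revert p q; decide
  have e64 : q64 = 0 := by
    subst e32; revert r2; generalize q64 = p; generalize q48 = q; revert p q; decide
  have red : ∀ x : leechLattice, ∃ y : leechLattice, Q x = Q y ∧
      ((sqNorm (x : GolayPt → ℤ) / 16 : ℤ) : ZMod 2) = ((sqNorm (y : GolayPt → ℤ) / 16 : ℤ) : ZMod 2) ∧
      (y = 0 ∨ sqNorm (y : GolayPt → ℤ) = 32 ∨ sqNorm (y : GolayPt → ℤ) = 48 ∨ sqNorm (y : GolayPt → ℤ) = 64) := by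
    intro x
    obtain ⟨y, hy, hyn, hxy⟩ := LeechMod2.main.1 x x.2
    obtain ⟨z, hz, hzv⟩ := mem_twiceLeech.mp hxy
    have hxeq : x = ⟨y, hy⟩ + ((⟨z, hz⟩ : leechLattice) + ⟨z, hz⟩) := by
      apply Subtype.ext
      rw [AddSubgroup.coe_add, AddSubgroup.coe_add]
      show (x : GolayPt → ℤ) = y + (z + z)
      rw [← two_nsmul, ← hzv, add_sub_cancel]
    refine ⟨⟨y, hy⟩, by rw [hxeq]; exact hcoset _ _, ?_, ?_⟩
    · have h1 := eight_dvd_dotInt hy hz
      have h2 := sixteen_dvd_sqNorm (mem_leechLattice.mp hz)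
      have h3 := sixteen_dvd_sqNorm (mem_leechLattice.mp hy)
      have e : sqNorm (x : GolayPt → ℤ) = sqNorm y + 4 * dotInt y z + 4 * sqNorm z := by
        rw [hxeq, AddSubgroup.coe_add, AddSubgroup.coe_add]
        simp only [sqNorm, dotInt, Finset.mul_sum, ← Finset.sum_add_distrib, Pi.add_apply]
        exact Finset.sum_congr rfl fun i _ => by ring
      rw [ZMod.intCast_eq_intCast_iff']
      show sqNorm (x : GolayPt → ℤ) / 16 % 2 = sqNorm y / 16 % 2
      omega
    · by_cases hy0 : y = 0
      · exact Or.inl (Subtype.ext hy0)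
      · right
        have h32 := thirtytwo_le_sqNorm (mem_leechLattice.mp hy) hy0
        have h16 := sixteen_dvd_sqNorm (mem_leechLattice.mp hy)
        show sqNorm y = 32 ∨ sqNorm y = 48 ∨ sqNorm y = 64
        omega
  have e48 : q48 = 1 := by
    by_contra hcon
    have h0 : q48 = 0 := by revert hcon; generalize q48 = p; revert p; decide
    obtain ⟨x, hx⟩ := hne
    obtain ⟨y, hQ, -, hy⟩ := red x
    apply hx
    rw [hQ]
    rcases hy with rfl | h | h | h
    · exact hQ0
    · rw [hq32 y h, e32]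
    · rw [hq48 y h, h0]
    · rw [hq64 y h, e64]
  obtain ⟨y, hQ, hn, hy⟩ := red v
  rw [hQ, hn]
  rcases hy with rfl | h | h | h
  · rw [hQ0, AddSubgroup.coe_zero]; simp [sqNorm]
  · rw [hq32 y h, e32, h]; decide
  · rw [hq48 y h, e48, h]; decide
  · rw [hq64 y h, e64, h]; decide

end Form

/-- The even vectors whose bit word is constant. -/
def evenConst : AddSubgroup (GolayPt → ℤ) where
  carrier := {x | x ∈ leechLattice ∧ x none % 2 = 0 ∧ (wbit x = 0 ∨ wbit x = 1)}
  zero_mem' := ⟨zero_mem _, rfl, Or.inl (by funext p; simp [wbit])⟩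
  add_mem' := by
    rintro x y ⟨hx, hx0, hxw⟩ ⟨hy, hy0, hyw⟩
    refine ⟨add_mem hx hy, by simp only [Pi.add_apply]; omega, ?_⟩
    rw [wbit_add (mem_leechLattice.mp hx) (mem_leechLattice.mp hy), if_neg (fun h => by omega), add_zero]
    rcases hxw with e | e <;> rcases hyw with e' | e' <;> rw [e, e']
    · exact Or.inl (add_zero _)
    · exact Or.inr (zero_add _)
    · exact Or.inr (add_zero _)
    · refine Or.inl ?_
      funext p; show (1 : ZMod 2) + 1 = 0; decide
  neg_mem' := by
    rintro x ⟨hx, hx0, hxw⟩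
    refine ⟨neg_mem hx, by simp only [Pi.neg_apply]; omega, ?_⟩
    have : wbit (-x) = wbit x := by
      funext p
      have := (mem_leechLattice.mp hx).1 p
      simp only [wbit, Pi.neg_apply]
      rw [ZMod.intCast_eq_intCast_iff']
      push_cast
      omega
    rw [this]; exact hxw

/-- Parity, and the bit word up to the all-one word. -/
noncomputable def parityHom :
    leechLattice →+ ZMod 2 × ((GolayPt → ZMod 2) ⧸ AddSubgroup.zmultiples (1 : GolayPt → ZMod 2)) :=
  AddMonoidHom.mk' (fun x => (((x : GolayPt → ℤ) none : ℤ), QuotientAddGroup.mk (wbit x))) fun x y => by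
    refine Prod.ext (by simp) ?_
    show QuotientAddGroup.mk (wbit ((x : GolayPt → ℤ) + y)) = _
    rw [wbit_add (mem_leechLattice.mp x.2) (mem_leechLattice.mp y.2), QuotientAddGroup.mk_add,
      QuotientAddGroup.mk_add]
    split_ifs
    · rw [(QuotientAddGroup.eq_zero_iff (1 : GolayPt → ZMod 2)).mpr (AddSubgroup.mem_zmultiples _), add_zero]
      rfl
    · simp

theorem mem_zmultiples_one {w : GolayPt → ZMod 2} :
    w ∈ AddSubgroup.zmultiples (1 : GolayPt → ZMod 2) ↔ w = 0 ∨ w = 1 := by
  rw [AddSubgroup.mem_zmultiples_iff]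
  constructor
  · rintro ⟨k, rfl⟩
    rcases Int.emod_two_eq_zero_or_one k with h | h
    · refine Or.inl ?_
      funext p
      simp only [Pi.smul_apply, Pi.one_apply, Pi.zero_apply, zsmul_eq_mul, mul_one]
      rw [ZMod.intCast_zmod_eq_zero_iff_dvd]; push_cast; omega
    · refine Or.inr ?_
      funext p
      simp only [Pi.smul_apply, Pi.one_apply, zsmul_eq_mul, mul_one]
      rw [← Int.cast_one, ZMod.intCast_eq_intCast_iff']; push_cast; omega
  · rintro (rfl | rfl)
    · exact ⟨0, zero_zsmul _⟩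
    · exact ⟨1, one_zsmul _⟩

theorem ker_parityHom : parityHom.ker = evenConst.addSubgroupOf leechLattice := by
  ext x
  rw [AddMonoidHom.mem_ker, AddSubgroup.mem_addSubgroupOf]
  simp only [parityHom, AddMonoidHom.mk'_apply, Prod.ext_iff, Prod.fst_zero, Prod.snd_zero,
    QuotientAddGroup.eq_zero_iff, mem_zmultiples_one, ZMod.intCast_zmod_eq_zero_iff_dvd]
  constructor
  · rintro ⟨h1, h2⟩; exact ⟨x.2, by omega, h2⟩
  · rintro ⟨-, h1, h2⟩; exact ⟨by omega, h2⟩

theorem twoMask_enc_mem {y : ℕ} (hy : y < 4096) : twoMask (enc y) ∈ leechLattice := by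
  refine mem_leechLattice.mpr ⟨fun i => ?_, ?_, ?_⟩
  · simp only [twoMask]; split_ifs <;> rfl
  · have hsum : ∑ i, twoMask (enc y) i = 2 * ((mset (enc y)).card : ℤ) := by
      rw [mset, ← Finset.sum_boole, Finset.mul_sum]
      exact Finset.sum_congr rfl fun i _ => by simp only [twoMask]; split_ifs <;> rfl
    have h4 := four_dvd_card ((mset_mem_supports (enc_lt hy)).2 (inCode_enc hy))
    have h0 : twoMask (enc y) none % 2 = 0 := by simp only [twoMask]; split_ifs <;> rfl
    rw [hsum, h0]
    omega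
  · rw [show wbit (twoMask (enc y)) = word (enc y) from funext fun p => by
      rw [word_apply, wbit]; simp only [twoMask]; split_ifs <;> rfl]
    exact word_enc_mem hy

theorem card_range_parityHom : Nat.card parityHom.range = 2 ^ 12 := by
  classical
  let S := AddSubgroup.zmultiples (1 : GolayPt → ZMod 2)
  let C : AddSubgroup (GolayPt → ZMod 2) := golayCode.toAddSubgroup
  have hrange : parityHom.range = (⊤ : AddSubgroup (ZMod 2)).prod (C.map (QuotientAddGroup.mk' S)) := by
    refine le_antisymm ?_ ?_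
    · rintro _ ⟨x, rfl⟩
      exact ⟨trivial, wbit x, (mem_leechLattice.mp x.2).2.2, rfl⟩
    · rintro ⟨a, q⟩ ⟨-, w, hw, rfl⟩
      obtain ⟨y, hy, hyw⟩ := exists_enc hw
      set e : leechLattice := ⟨twoMask (enc y), twoMask_enc_mem hy⟩
      have he : parityHom e = (0, QuotientAddGroup.mk w) := by
        refine Prod.ext ?_ (congrArg QuotientAddGroup.mk ?_)
        · show (((twoMask (enc y)) none : ℤ) : ZMod 2) = 0
          simp only [twoMask]; split_ifs <;> decide
        · rw [← hyw]; funext p
          show wbit (twoMask (enc y)) p = word (enc y) p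
          rw [word_apply, wbit]
          simp only [twoMask]; split_ifs <;> rfl
      rcases (show a = 0 ∨ a = 1 by revert a; decide) with rfl | rfl
      · exact ⟨e, he⟩
      · refine ⟨e + ⟨oddVec, oddVec_mem⟩, ?_⟩
        rw [map_add, he]
        refine Prod.ext (by show (0 : ZMod 2) + ((-3 : ℤ) : ZMod 2) = 1; decide) ?_
        show QuotientAddGroup.mk w + QuotientAddGroup.mk (wbit oddVec) = _
        rw [(QuotientAddGroup.eq_zero_iff (wbit oddVec)).mpr, add_zero]
        · rfl
        · rw [mem_zmultiples_one]; exact Or.inl (by decide +kernel)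
  have hS : S ≤ C := by
    rw [AddSubgroup.zmultiples_le]; exact one_mem_golayCode
  have hker : (QuotientAddGroup.mk' S).ker = S := QuotientAddGroup.ker_mk' S
  have hcard : Nat.card (C.map (QuotientAddGroup.mk' S)) * Nat.card S = 4096 := by
    have h := AddSubgroup.card_mul_index ((QuotientAddGroup.mk' S).comp C.subtype).ker
    rw [AddSubgroup.index_ker, AddMonoidHom.range_comp, AddSubgroup.range_subtype] at h
    have hk : ((QuotientAddGroup.mk' S).comp C.subtype).ker = S.addSubgroupOf C := by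
      rw [← AddMonoidHom.comap_ker, hker]; rfl
    rw [hk, Nat.card_congr (AddSubgroup.addSubgroupOfEquivOfLe hS).toEquiv] at h
    rw [mul_comm, h]
    exact card_golayCode
  have hcS : Nat.card S = 2 := by
    rw [Nat.card_zmultiples]
    exact addOrderOf_eq_prime (by funext p; show (2 : ℕ) • (1 : ZMod 2) = 0; decide)
      (fun h => by have := congrFun h none; revert this; decide)
  rw [hrange, Nat.card_congr (AddSubgroup.prodEquiv _ _).toEquiv, Nat.card_prod,
    Nat.card_congr AddSubgroup.topEquiv.toEquiv, Nat.card_zmod]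
  rw [hcS] at hcard
  exact (mul_comm _ _).trans (hcard.trans (by norm_num))

theorem index_evenConst : (evenConst.addSubgroupOf leechLattice).index = 2 ^ 12 := by
  rw [← ker_parityHom, AddSubgroup.index_ker, card_range_parityHom]

theorem thirtytwo_dvd_of_evenConst {x : GolayPt → ℤ} (hx : x ∈ evenConst) : 32 ∣ sqNorm x := by
  obtain ⟨hL, h0, hw⟩ := hx
  obtain ⟨hpar, hsum, -⟩ := mem_leechLattice.mp hL
  obtain ⟨e, he, y, hy⟩ : ∃ e : ℤ, (e = 0 ∨ e = 2) ∧ ∃ y : GolayPt → ℤ, ∀ i, x i = 4 * y i + e := by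
    rcases hw with h | h
    · refine ⟨0, Or.inl rfl, fun i => x i / 4, fun i => ?_⟩
      have h1 : ¬ (x i / 2 % 2 = 1) := fun hh => (wbit_ne_zero_iff x i).mpr hh (congrFun h i)
      have := hpar i
      show x i = 4 * (x i / 4) + 0
      omega
    · refine ⟨2, Or.inr rfl, fun i => x i / 4, fun i => ?_⟩
      have h1 : x i / 2 % 2 = 1 := (wbit_ne_zero_iff x i).mp (by rw [h]; exact one_ne_zero)
      have := hpar i
      show x i = 4 * (x i / 4) + 2
      omega
  obtain ⟨K, hK⟩ : ∃ K, ∑ i, y i * (y i - 1) = 2 * K := by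
    refine ⟨∑ i, y i * (y i - 1) / 2, ?_⟩
    rw [Finset.mul_sum]
    refine Finset.sum_congr rfl fun i _ => (Int.mul_ediv_cancel' ?_).symm
    exact even_iff_two_dvd.mp (Int.even_mul_pred_self (y i))
  have hs : ∑ i, x i = 4 * ∑ i, y i + 24 * e := by
    rw [Finset.sum_congr rfl fun i _ => hy i, Finset.sum_add_distrib, ← Finset.mul_sum, Finset.sum_const,
      Finset.card_univ, show Fintype.card GolayPt = 24 by simp]
    simp
  have hn : sqNorm x = 16 * (∑ i, y i * (y i - 1)) + (16 + 8 * e) * ∑ i, y i + 24 * e ^ 2 := by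
    rw [sqNorm, Finset.sum_congr rfl (fun i _ =>
      show x i ^ 2 = 16 * (y i * (y i - 1)) + (16 + 8 * e) * y i + e ^ 2 by rw [hy i]; ring),
      Finset.sum_add_distrib, Finset.sum_add_distrib, ← Finset.mul_sum, ← Finset.mul_sum, Finset.sum_const,
      Finset.card_univ, show Fintype.card GolayPt = 24 by simp]
    simp
  rw [hn, hK]
  rcases he with rfl | rfl <;> omega

theorem two_mem_evenConst {v : GolayPt → ℤ} (hv : v ∈ leechLattice) : (2 : ℤ) • v ∈ evenConst := by
  refine ⟨zsmul_mem hv _, by simp [Pi.smul_apply], ?_⟩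
  have key : wbit ((2 : ℤ) • v) = fun _ => ((v none : ℤ) : ZMod 2) := by
    funext i
    have := (mem_leechLattice.mp hv).1 i
    simp only [wbit, Pi.smul_apply, smul_eq_mul]
    rw [ZMod.intCast_eq_intCast_iff']
    push_cast
    omega
  rw [key]
  rcases Int.emod_two_eq_zero_or_one (v none) with h | h
  · refine Or.inl ?_
    funext i
    rw [Pi.zero_apply, ZMod.intCast_zmod_eq_zero_iff_dvd]
    push_cast; omega
  · refine Or.inr ?_
    funext i
    rw [Pi.one_apply, ← Int.cast_one, ZMod.intCast_eq_intCast_iff']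
    push_cast; omega

end Cfsg.Agent.LeechModTwo
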