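import Cfsg.Agent.Lib.LeechOctadLattice46
import Cfsg.Agent.Lib.GolayOctadStab

/-!
The centraliser of the sign change on an octad, acting on the vectors supported on the octad modulo
twice themselves: the image is the commutator subgroup of the orthogonal group, the kernel consists
of monomial elements.
-/

set_option autoImplicit false
set_option linter.style.haveILetI false

open scoped symmDiff Pointwise

namespace Cfsg.Agent.LeechOctadImage46

open Cfsg Cfsg.Agent.GolayBasic Cfsg.Agent.LeechBasic Cfsg.Agent.LeechAut Cfsg.Agent.LeechIndex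
open Cfsg.Agent.LeechStab Cfsg.Agent.LeechOctadLattice46
open Cfsg.Agent.LeechCo2 (signElt_apply monomial_apply monomial_conj_sign)

abbrev s45 : Equiv.Perm (Fin 8) := Equiv.swap 4 5

/-- The sign change on the octad. -/
def eps : Co0 := signElt ⟨oct, oct_mem.1⟩

/-- Its centraliser. -/
abbrev Cen : Subgroup Co0 := Subgroup.centralizer ({eps} : Set Co0)

theorem mem_Cen {g : Co0} : g ∈ Cen ↔ g * eps = eps * g := Subgroup.mem_centralizer_singleton_iff

theorem mem_Sup_iff {v : leechLattice} : v ∈ Sup ↔ eps • v = -v := by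
  rw [mem_Sup]
  constructor
  · intro h
    refine Subtype.ext (funext fun p => ?_)
    rw [eps, signElt_apply, AddSubgroup.coe_neg, Pi.neg_apply]
    split_ifs with hp
    · rfl
    · rw [h p hp, neg_zero]
  · intro h p hp
    have e := congrFun (congrArg Subtype.val h) p
    rw [eps, signElt_apply, if_neg hp, AddSubgroup.coe_neg, Pi.neg_apply] at e
    omega

/-- The action on the octad vectors. -/
def gs (g : Cen) (v : Sup) : Sup :=
  ⟨(g : Co0) • (v : leechLattice), mem_Sup_iff.2 (by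
    rw [← mul_smul, ← mem_Cen.1 g.2, mul_smul, mem_Sup_iff.1 v.2, smul_neg_vec])⟩

theorem coe_gs (g : Cen) (v : Sup) : ((gs g v : Sup) : leechLattice) = (g : Co0) • (v : leechLattice) :=
  rfl

theorem gs_add (g : Cen) (v w : Sup) : gs g (v + w) = gs g v + gs g w :=
  Subtype.ext (smul_add_vec _ _ _)

theorem gs_neg (g : Cen) (v : Sup) : gs g (-v) = -gs g v := Subtype.ext (smul_neg_vec _ _)

theorem gs_mul (g h : Cen) (v : Sup) : gs (g * h) v = gs g (gs h v) :=
  Subtype.ext (by rw [coe_gs, coe_gs, coe_gs, Subgroup.coe_mul, mul_smul])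

theorem gs_one (v : Sup) : gs 1 v = v := Subtype.ext (one_smul _ _)

theorem kap_neg (v : Sup) : kap (-v) = kap v := by
  rw [map_neg, neg_eq_iff_add_eq_zero]
  exact H1Orth.vadd_self _

theorem kap_gs_congr (g : Cen) {v w : Sup} (h : kap v = kap w) : kap (gs g v) = kap (gs g w) := by
  obtain ⟨u, hu⟩ := exists_half (v := v - w) (by rw [map_sub, h, sub_self])
  rw [sub_eq_iff_eq_add] at hu
  rw [hu, gs_add, gs_add, map_add, kap_twice, zero_add]

/-- A vector with given coordinates modulo two. -/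
noncomputable def liftv (u : I8 → ZMod 2) : Sup := (kap_surjective u).choose

theorem kap_liftv (u : I8 → ZMod 2) : kap (liftv u) = u := (kap_surjective u).choose_spec

/-- The induced map modulo two. -/
noncomputable def gAdd (g : Cen) : (I8 → ZMod 2) →+ (I8 → ZMod 2) :=
  AddMonoidHom.mk' (fun u => kap (gs g (liftv u))) fun a b => by
    rw [← map_add, ← gs_add]
    exact kap_gs_congr g (by rw [map_add, kap_liftv, kap_liftv, kap_liftv])

theorem gAdd_kap (g : Cen) (v : Sup) : gAdd g (kap v) = kap (gs g v) :=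
  kap_gs_congr g (kap_liftv _)

/-- The induced matrix. -/
noncomputable def mMat (g : Cen) : Matrix I8 I8 (ZMod 2) :=
  LinearMap.toMatrix' ((gAdd g).toZModLinearMap 2)

theorem mMat_mulVec (g : Cen) (v : Sup) : (mMat g).mulVec (kap v) = kap (gs g v) := by
  rw [mMat, ← Matrix.toLin'_apply, Matrix.toLin'_toMatrix']
  exact gAdd_kap g v

/-- The matrices as a homomorphism. -/
noncomputable def mHom : Cen →* Matrix I8 I8 (ZMod 2) where
  toFun := mMat
  map_one' := by
    refine Matrix.ext_iff_mulVec.2 fun u => ?_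
    obtain ⟨v, rfl⟩ := kap_surjective u
    rw [mMat_mulVec, gs_one, Matrix.one_mulVec]
  map_mul' g h := by
    refine Matrix.ext_iff_mulVec.2 fun u => ?_
    obtain ⟨v, rfl⟩ := kap_surjective u
    rw [← Matrix.mulVec_mulVec, mMat_mulVec, mMat_mulVec, mMat_mulVec, gs_mul]

/-- The action as isometries. -/
noncomputable def θ : Cen →* H1Orth.IG QF :=
  mHom.toHomUnits.codRestrict (Cfsg.isometryGroup (ZMod 2) QF) (fun g => by
    intro u w
    show QF ((mMat g).mulVec u) = QF u
    obtain ⟨v, rfl⟩ := kap_surjective u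
    rw [mMat_mulVec, QF_kap, QF_kap, coe_gs, sqNorm_smul])

theorem act_θ (g : Cen) (v : Sup) : H1Orth.act (θ g) (kap v) = kap (gs g v) := mMat_mulVec g v

/-- Reflection words on bit masks. -/
def qMask (x : ℕ) : Bool :=
  (((x.testBit 0 && x.testBit 4).xor (x.testBit 1 && x.testBit 5)).xor
    (x.testBit 2 && x.testBit 6)).xor (x.testBit 3 && x.testBit 7)

set_option maxRecDepth 100000 in
/-- The hyperbolic space with its evaluation on bit masks. -/
def mP : H1Orth.Model QF where
  n := 8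
  e := finSumFinEquiv
  q := qMask
  hq := by decide +kernel
  hadd := by
    intro u v w
    simp only [H1Orth.pol, quadFormPlus, Pi.add_apply, Fin.sum_univ_four]
    ring_nf
    simp [show (2 : ZMod 2) = 0 from rfl, show (4 : ZMod 2) = 0 from rfl]

/-! ### Vectors -/

theorem difF_supp : ∀ a b : Fin 8, LeechXi.isL (LeechFrame.two (opt a) (opt b) 4 (-4)) = true ∧
    ∀ p, p ∉ oct → LeechFrame.two (opt a) (opt b) 4 (-4) p = 0 ∧
      LeechFrame.two (opt a) (opt b) 4 4 p = 0 := by decide +kernel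

/-- `4e_a - 4e_b`. -/
def Mv (a b : Fin 8) : Sup :=
  ⟨LeechFrame.M (opt a) (opt b), fun p hp => ((difF_supp a b).2 p hp).1⟩

/-- `4e_a + 4e_b`. -/
def Pv (a b : Fin 8) : Sup :=
  ⟨LeechFrame.P (opt a) (opt b), fun p hp => ((difF_supp a b).2 p hp).2⟩

theorem coe_Mv (a b k : Fin 8) : ((Mv a b : Sup) : leechLattice).1 (opt k) =
    (if k = a then 4 else 0) + if k = b then -4 else 0 := by
  show LeechFrame.two (opt a) (opt b) 4 (-4) (opt k) = _
  simp [LeechFrame.two, Pi.single_apply, opt_injective.eq_iff]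

theorem coe_Pv (a b k : Fin 8) : ((Pv a b : Sup) : leechLattice).1 (opt k) =
    (if k = a then 4 else 0) + if k = b then 4 else 0 := by
  show LeechFrame.two (opt a) (opt b) 4 4 (opt k) = _
  simp [LeechFrame.two, Pi.single_apply, opt_injective.eq_iff]

theorem norm_Mv_data : ∀ a b : Fin 8, a ≠ b →
    sqNorm (LeechFrame.two (opt a) (opt b) 4 (-4)) = 32 := by decide +kernel

theorem norm_Mv {a b : Fin 8} (h : a ≠ b) :
    sqNorm (((Mv a b : Sup) : leechLattice) : GolayPt → ℤ) = 32 := norm_Mv_data a b h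

theorem ext_opt {v w : Sup}
    (h : ∀ k, (v : leechLattice).1 (opt k) = (w : leechLattice).1 (opt k)) : v = w :=
  Sup_ext fun k => by rw [hy, hy, h k]

/-- The frame vector inside the octad. -/
def f0 : Sup := ⟨frame none, fun p hp => by
  show unitVec 8 none p = 0
  rw [unitVec, if_neg]
  rintro rfl
  exact hp (opt_zero ▸ opt_mem 0)⟩

theorem coe_f0 (k : Fin 8) : ((f0 : Sup) : leechLattice).1 (opt k) = if k = 0 then 8 else 0 := by
  show unitVec 8 none (opt k) = _
  rw [← opt_zero]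
  simp [unitVec, opt_injective.eq_iff]

/-! ### The reflection -/

/-- The root `4e_4 - 4e_5`. -/
abbrev r0 : Sup := Mv 4 5

/-- The mask of the root. -/
def r0m : ℕ := 70

theorem toV_r0m : H1Orth.toV mP.e r0m = kap r0 := by decide +kernel

theorem r0m_root : mP.isRoot r0m = true := by decide +kernel

theorem QF_r0 : QF (kap r0) = 1 := by decide +kernel

/-- The reflection in the root. -/
abbrev T0 : H1Orth.IG QF := mP.refl (kap r0) QF_r0

/-- The interchange of the coordinates `4` and `5`. -/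
def sw (v : Sup) : Sup := v - ((hy v 4 - hy v 5) / 2) • r0

theorem sw_coord (v : Sup) (k : Fin 8) :
    (sw v : leechLattice).1 (opt k) = (v : leechLattice).1 (opt (s45 k)) := by
  have h4 := coord_eq v 4
  have h5 := coord_eq v 5
  have hp := hy_parity v 4
  have hp' := hy_parity v 5
  simp only [sw, AddSubgroup.coe_sub, AddSubgroup.coe_zsmul, Pi.sub_apply, Pi.smul_apply,
    smul_eq_mul, coe_Mv]
  fin_cases k <;> simp [s45, Equiv.swap_apply_def] <;> omega

theorem dot_r0 (v : Sup) :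
    dotInt (((r0 : Sup) : leechLattice) : GolayPt → ℤ) (v : leechLattice) =
      8 * (hy v 4 - hy v 5) := by
  rw [dotInt, sum_oct _ (fun p hp => by rw [v.2 p hp, mul_zero]), Fin.sum_univ_eight]
  simp only [r0, coe_Mv, Fin.reduceEq, if_true, if_false]
  simp only [coord_eq]
  ring

theorem act_T0 (v : Sup) : H1Orth.act T0 (kap v) = kap (sw v) := by
  have hzs : ∀ (n : ℤ) (u : I8 → ZMod 2), -(n • u) = (n : ZMod 2) • u := fun n u => by
    funext i
    simp [CharTwo.neg_eq]
  rw [mP.act_refl, sw, map_sub, map_zsmul, pol_kap, dot_r0,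
    show 8 * (hy v 4 - hy v 5) / 16 = (hy v 4 - hy v 5) / 2 by omega, sub_eq_add_neg (kap v), hzs]

theorem T0_sq : T0 * T0 = 1 := by
  refine H1Orth.act_ext _ _ fun j => ?_
  obtain ⟨v, hv⟩ := kap_surjective (Pi.single j 1)
  rw [← hv, H1Orth.act_mul, act_T0, act_T0, H1Orth.act_one]
  exact congrArg kap (ext_opt fun k => by rw [sw_coord, sw_coord, s45, Equiv.swap_apply_self])

/-! ### Monomial elements -/

theorem monomial_mem_Cen {σ : Equiv.Perm GolayPt} (hσ : σ ∈ M24) {c : Finset GolayPt}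
    (hc : c ∈ CodeSupp) : monomial σ hσ c hc ∈ Cen ↔ σ • oct = oct := by
  rw [mem_Cen, ← mul_inv_eq_iff_eq_mul, eps, monomial_conj_sign]
  exact ⟨fun h => congrArg Subtype.val (signElt_injective h),
    fun h => congrArg signElt (Subtype.ext h)⟩

/-- A monomial element of the centraliser. -/
def monC (σ : Equiv.Perm GolayPt) (hσ : σ ∈ M24) (h : σ • oct = oct) (c : Finset GolayPt)
    (hc : c ∈ CodeSupp) : Cen :=
  ⟨monomial σ hσ c hc, (monomial_mem_Cen hσ hc).2 h⟩

/-- The octad points as a subtype. -/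
noncomputable def optE : Fin 8 ≃ {p : GolayPt // p ∈ oct} :=
  Equiv.ofBijective (fun k => ⟨opt k, opt_mem k⟩)
    ⟨fun _ _ h => opt_injective (congrArg Subtype.val h),
      fun p => by obtain ⟨k, hk⟩ := (mem_oct_iff _).1 p.2; exact ⟨k, Subtype.ext hk⟩⟩

theorem coe_optE (k : Fin 8) : ((optE k : {p : GolayPt // p ∈ oct}) : GolayPt) = opt k := rfl

theorem oct_invariant (g : GolayOctadStab.soct oct) (x : GolayPt) :
    (g.1 : Equiv.Perm GolayPt) x ∈ oct ↔ x ∈ oct := by
  have h : (g.1 : Equiv.Perm GolayPt) • oct = oct := GolayOctadStab.mem_soct.1 g.2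
  have h2 := Finset.smul_mem_smul_finset_iff (g.1 : Equiv.Perm GolayPt) (s := oct) (b := x)
  rwa [h] at h2

/-- The permutation of the octad. -/
noncomputable def res : GolayOctadStab.soct oct →* Equiv.Perm (Fin 8) :=
  MonoidHom.mk' (fun g => optE.symm.permCongr
    ((g.1 : Equiv.Perm GolayPt).subtypePerm (p := (· ∈ oct)) (oct_invariant g)))
    fun g h => by
      refine Equiv.ext fun k => ?_
      simp [Equiv.permCongr_apply]

theorem opt_res (g : GolayOctadStab.soct oct) (k : Fin 8) :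
    opt (res g k) = (g.1 : Equiv.Perm GolayPt) (opt k) := by
  rw [← coe_optE (res g k)]
  simp [res, Equiv.permCongr_apply, coe_optE]

theorem mem_ker_res {g : GolayOctadStab.soct oct} :
    g ∈ res.ker ↔ g.1 ∈ GolayOctadStab.pfix oct := by
  rw [MonoidHom.mem_ker, GolayOctadStab.mem_pfix]
  constructor
  · intro h p hp
    obtain ⟨k, rfl⟩ := (mem_oct_iff p).1 hp
    rw [← opt_res, h, Equiv.Perm.one_apply]
  · intro h
    exact Equiv.ext fun k => opt_injective (by rw [opt_res, h _ (opt_mem k), Equiv.Perm.one_apply])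

theorem range_res : res.range = alternatingGroup (Fin 8) := by
  refine Equiv.Perm.eq_alternatingGroup_of_index_eq_two ?_
  have hker : Nat.card res.ker = 16 := by
    rw [← GolayOctadStab.card_pfix oct_mem]
    exact Nat.card_congr
      { toFun := fun g => ⟨g.1.1, mem_ker_res.1 g.2⟩
        invFun := fun h => ⟨⟨h.1, GolayOctadStab.pfix_le_soct _ h.2⟩, mem_ker_res.2 h.2⟩
        left_inv := fun _ => rfl
        right_inv := fun _ => rfl }
  have h1 := res.ker.card_mul_index
  rw [hker, Subgroup.index_ker, GolayOctadStab.card_soct oct_mem] at h1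
  have h2 := res.range.card_mul_index
  rw [Nat.card_eq_fintype_card (α := Equiv.Perm (Fin 8)), Fintype.card_perm, Fintype.card_fin] at h2
  have h3 : Nat.card res.range = 20160 := by omega
  rw [h3, show Nat.factorial 8 = 40320 from rfl] at h2
  omega

theorem sign_res (g : GolayOctadStab.soct oct) : Equiv.Perm.sign (res g) = 1 :=
  Equiv.Perm.mem_alternatingGroup.1 (range_res ▸ ⟨g, rfl⟩)

theorem exists_res {π : Equiv.Perm (Fin 8)} (h : Equiv.Perm.sign π = 1) :
    ∃ g : GolayOctadStab.soct oct, res g = π := by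
  have : π ∈ res.range := range_res ▸ Equiv.Perm.mem_alternatingGroup.2 h
  exact this

/-- The element of a setwise stabiliser and a code word. -/
def monS (g : GolayOctadStab.soct oct) (c : Finset GolayPt) (hc : c ∈ CodeSupp) : Cen :=
  monC g.1.1 g.1.2 (GolayOctadStab.mem_soct.1 g.2) c hc

theorem monS_coord (g : GolayOctadStab.soct oct) {c : Finset GolayPt} (hc : c ∈ CodeSupp)
    (v : Sup) (k : Fin 8) : (gs (monS g c hc) v : leechLattice).1 (opt (res g k)) =
      if opt (res g k) ∈ c then -(v : leechLattice).1 (opt k) else (v : leechLattice).1 (opt k) := by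
  rw [opt_res, coe_gs]
  exact monomial_apply g.1.2 hc v _

theorem exists_monS {g : Cen} (hg : (g : Co0) ∈ mono) :
    ∃ (σ : GolayOctadStab.soct oct) (c : Finset GolayPt) (hc : c ∈ CodeSupp), g = monS σ c hc := by
  obtain ⟨σ, hσ, c, hc, e⟩ := mem_mono.mp hg
  have h : σ • oct = oct := (monomial_mem_Cen hσ hc).1 (e ▸ g.2)
  exact ⟨⟨⟨σ, hσ⟩, GolayOctadStab.mem_soct.2 h⟩, c, hc, Subtype.ext e⟩

/-! ### Normalisation by the reflection -/

theorem wsw_data : inCode (enc 73) = true ∧ enc 73 < 2 ^ 24 ∧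
    ∀ k : Fin 8, opt k ∈ mset (enc 73) ↔ k = 4 ∨ k = 5 := by decide +kernel

theorem exists_code_swap {c : Finset GolayPt} (hc : c ∈ CodeSupp) :
    ∃ c' : Finset GolayPt, c' ∈ CodeSupp ∧ ∀ k, opt k ∈ c' ↔ opt (s45 k) ∈ c := by
  by_cases h : (opt 4 ∈ c ↔ opt 5 ∈ c)
  · refine ⟨c, hc, fun k => ?_⟩
    rcases Decidable.em (k = 4) with rfl | h4
    · simpa [s45] using h
    rcases Decidable.em (k = 5) with rfl | h5
    · simpa [s45] using h.symm
    rw [s45, Equiv.swap_apply_of_ne_of_ne h4 h5]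
  · refine ⟨c ∆ mset (enc 73),
      symmDiff_mem_supports hc ((mset_mem_supports wsw_data.2.1).2 wsw_data.1), fun k => ?_⟩
    rw [Finset.mem_symmDiff, wsw_data.2.2]
    rcases Decidable.em (k = 4) with rfl | h4
    · simp [s45]; tauto
    rcases Decidable.em (k = 5) with rfl | h5
    · simp [s45]; tauto
    rw [s45, Equiv.swap_apply_of_ne_of_ne h4 h5]
    tauto

/-- Elements whose image stays in the range after conjugation by the reflection. -/
noncomputable def G0 : Subgroup Cen :=
  θ.range.comap ((MulAut.conj T0).toMonoidHom.comp θ)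

theorem mem_G0 {g h : Cen} (H : ∀ v, kap (gs h v) = kap (sw (gs g (sw v)))) : g ∈ G0 := by
  refine ⟨h, ?_⟩
  show θ h = T0 * θ g * T0⁻¹
  rw [inv_eq_of_mul_eq_one_right T0_sq]
  refine H1Orth.act_ext _ _ fun j => ?_
  obtain ⟨v, hv⟩ := kap_surjective (Pi.single j 1)
  rw [← hv, H1Orth.act_mul, H1Orth.act_mul, act_T0, act_θ, act_θ, act_T0, H]

theorem monS_G0 (g : GolayOctadStab.soct oct) {c : Finset GolayPt} (hc : c ∈ CodeSupp) :
    monS g c hc ∈ G0 := by
  obtain ⟨g', hg'⟩ := exists_res (π := s45 * res g * s45)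
    (by rw [map_mul, map_mul, sign_res, mul_one, Int.units_mul_self])
  obtain ⟨c', hc', hcc⟩ := exists_code_swap hc
  refine mem_G0 (h := monS g' c' hc') fun v => congrArg kap (ext_opt fun k => ?_)
  obtain ⟨j, rfl⟩ := (res g').surjective k
  rw [monS_coord, sw_coord]
  have e : s45 (res g' j) = res g (s45 j) := by
    rw [hg', Equiv.Perm.mul_apply, Equiv.Perm.mul_apply, s45, Equiv.swap_apply_self]
  simp only [hcc]
  rw [e, monS_coord, sw_coord, s45, Equiv.swap_apply_self]

theorem xi_commutes : ∀ i j : GolayPt,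
    LeechXi.xiFun (fun p => if p ∈ oct then -unitVec 8 i p else unitVec 8 i p) j =
      if j ∈ oct then -LeechXi.xiFun (unitVec 8 i) j else LeechXi.xiFun (unitVec 8 i) j := by
  decide +kernel

theorem xi_mem_Cen : LeechXi.xi ∈ Cen := by
  rw [mem_Cen]
  refine ext_frame fun i => Subtype.ext (funext fun j => ?_)
  rw [mul_smul, mul_smul, LeechXi.coe_xi_smul, eps, signElt_apply, LeechXi.coe_xi_smul]
  refine Eq.trans ?_ (xi_commutes i j)
  congr 1

/-- The non-monomial element. -/
def xiC : Cen := ⟨LeechXi.xi, xi_mem_Cen⟩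

theorem tet_swap : ∀ p : GolayPt,
    LeechXi.tet (Equiv.swap (opt 4) (opt 5) p) = LeechXi.tet p := by decide +kernel

theorem xiFun_swap (x : GolayPt → ℤ) (p : GolayPt) :
    LeechXi.xiFun (fun q => x (Equiv.swap (opt 4) (opt 5) q)) p =
      LeechXi.xiFun x (Equiv.swap (opt 4) (opt 5) p) := by
  have hs : ∀ t, LeechXi.tetSum t (fun q => x (Equiv.swap (opt 4) (opt 5) q)) =
      LeechXi.tetSum t x := fun t => by
    unfold LeechXi.tetSum
    rw [Finset.sum_filter, Finset.sum_filter,
      ← Equiv.sum_comp (Equiv.swap (opt 4) (opt 5)) (fun q => if LeechXi.tet q = t then x q else 0)]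
    simp only [tet_swap]
  simp only [LeechXi.xiFun, hs, tet_swap]

theorem sw_apply (v : Sup) (p : GolayPt) :
    (sw v : leechLattice).1 p = (v : leechLattice).1 (Equiv.swap (opt 4) (opt 5) p) := by
  by_cases hp : p ∈ oct
  · obtain ⟨k, rfl⟩ := (mem_oct_iff p).1 hp
    rw [sw_coord, s45, ← opt_injective.map_swap]
  · have h : Equiv.swap (opt 4) (opt 5) p = p := by
      refine Equiv.swap_apply_of_ne_of_ne ?_ ?_ <;> rintro rfl <;> exact hp (opt_mem _)
    rw [h, (sw v).2 p hp, v.2 p hp]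

theorem xiC_G0 : xiC ∈ G0 := by
  refine mem_G0 (h := xiC) fun v => congrArg kap (Subtype.ext (Subtype.ext (funext fun p => ?_)))
  rw [sw_apply, coe_gs, coe_gs]
  show LeechXi.xiFun _ p = LeechXi.xiFun _ _
  rw [show ((sw v : Sup) : leechLattice).1 = fun q => (v : leechLattice).1 (Equiv.swap (opt 4) (opt 5) q)
    from funext (sw_apply v), xiFun_swap, Equiv.swap_apply_self]

/-- The subgroup used for transitivity. -/
def D : Subgroup Cen := mono.subgroupOf Cen ⊔ Subgroup.zpowers xiC

theorem monS_mem_D (g : GolayOctadStab.soct oct) {c : Finset GolayPt} (hc : c ∈ CodeSupp) :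
    monS g c hc ∈ D :=
  Subgroup.mem_sup_left (show ((monS g c hc : Cen) : Co0) ∈ mono from monomial_mem g.1.2 hc)

theorem D_le_G0 : D ≤ G0 := by
  refine sup_le (fun g hg => ?_) ((Subgroup.zpowers_le).2 xiC_G0)
  obtain ⟨σ, c, hc, rfl⟩ := exists_monS hg
  exact monS_G0 σ hc

/-! ### Transitivity on roots -/

theorem exists_even_map {a b : Fin 8} (h : a ≠ b) :
    ∃ π : Equiv.Perm (Fin 8), Equiv.Perm.sign π = 1 ∧ π 4 = a ∧ π 5 = b := by
  set b1 := Equiv.swap 4 a b with hb1
  have h41 : b1 ≠ 4 := by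
    intro e
    rw [hb1, Equiv.apply_eq_iff_eq_symm_apply, Equiv.symm_swap, Equiv.swap_apply_left] at e
    exact h e.symm
  set π := Equiv.swap 4 a * Equiv.swap 5 b1 with hπ
  have e4 : π 4 = a := by
    rw [hπ, Equiv.Perm.mul_apply, Equiv.swap_apply_of_ne_of_ne (by decide) h41.symm,
      Equiv.swap_apply_left]
  have e5 : π 5 = b := by
    rw [hπ, Equiv.Perm.mul_apply, Equiv.swap_apply_left, hb1, Equiv.swap_apply_self]
  rcases Int.units_eq_one_or (Equiv.Perm.sign π) with hs | hs
  · exact ⟨π, hs, e4, e5⟩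
  · refine ⟨π * Equiv.swap 0 1, ?_, ?_, ?_⟩
    · rw [map_mul, hs, Equiv.Perm.sign_swap (by decide)]; rfl
    · rw [Equiv.Perm.mul_apply, Equiv.swap_apply_of_ne_of_ne (by decide) (by decide), e4]
    · rw [Equiv.Perm.mul_apply, Equiv.swap_apply_of_ne_of_ne (by decide) (by decide), e5]

theorem reach_Mv {a b : Fin 8} (h : a ≠ b) : ∃ g ∈ D, gs g r0 = Mv a b := by
  obtain ⟨π, hπ, ha, hb⟩ := exists_even_map h
  obtain ⟨σ, rfl⟩ := exists_res hπ
  refine ⟨monS σ ∅ empty_mem_supports, monS_mem_D _ _, ext_opt fun k => ?_⟩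
  obtain ⟨j, rfl⟩ := (res σ).surjective k
  rw [monS_coord, if_neg (Finset.notMem_empty _), coe_Mv, coe_Mv, ← ha, ← hb]
  simp only [(res σ).injective.eq_iff]

theorem separating : ∀ a b : Fin 8, a ≠ b → ∃ i : Fin 12,
    (opt a ∈ mset (enc (2 ^ i.val))) ≠ (opt b ∈ mset (enc (2 ^ i.val))) := by
  intro a b h
  simp only [ne_eq, eq_iff_iff]
  revert a b
  decide +kernel

theorem basis_code (i : Fin 12) : mset (enc (2 ^ i.val)) ∈ CodeSupp := by
  have h : 2 ^ i.val < 4096 := by
    calc 2 ^ i.val < 2 ^ 12 := Nat.pow_lt_pow_right (by norm_num) i.2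
      _ = 4096 := by norm_num
  exact (mset_mem_supports (enc_lt h)).2 (inCode_enc h)

theorem reach_Pv {a b : Fin 8} (h : a ≠ b) : ∃ g ∈ D, kap (gs g r0) = kap (Pv a b) := by
  obtain ⟨g, hg, e⟩ := reach_Mv h
  obtain ⟨i, hi⟩ := separating a b h
  rw [ne_eq, eq_iff_iff] at hi
  refine ⟨monS 1 _ (basis_code i) * g, mul_mem (monS_mem_D _ _) hg, ?_⟩
  rw [gs_mul, e]
  set c := mset (enc (2 ^ i.val)) with hc
  have key : ∀ k, (gs (monS 1 c (basis_code i)) (Mv a b) : leechLattice).1 (opt k) =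
      if opt k ∈ c then -(Mv a b : leechLattice).1 (opt k) else (Mv a b : leechLattice).1 (opt k) :=
    fun k => by
      have := monS_coord 1 (basis_code i) (Mv a b) k
      rwa [map_one, Equiv.Perm.one_apply] at this
  by_cases hb : opt b ∈ c
  · have ha : opt a ∉ c := fun ha => hi ⟨fun _ => hb, fun _ => ha⟩
    refine congrArg kap (ext_opt fun k => ?_)
    rw [key, coe_Mv, coe_Pv]
    rcases Decidable.em (k = a) with rfl | hka
    · simp [ha, h]
    rcases Decidable.em (k = b) with rfl | hkb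
    · simp [hb, Ne.symm h]
    simp [hka, hkb]
  · have ha : opt a ∈ c := by_contra fun ha => hi ⟨fun x => absurd x ha, fun x => absurd x hb⟩
    rw [← kap_neg (Pv a b)]
    refine congrArg kap (ext_opt fun k => ?_)
    rw [key, coe_Mv, AddSubgroup.coe_neg, AddSubgroup.coe_neg, Pi.neg_apply, coe_Pv]
    rcases Decidable.em (k = a) with rfl | hka
    · simp [ha, h]
    rcases Decidable.em (k = b) with rfl | hkb
    · simp [hb, Ne.symm h]
    simp [hka, hkb]

/-- A root with all coordinates odd. -/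
def W0 : Sup := gs xiC (Pv 1 4)

/-- Sign changes by numbered code words. -/
def sgnC (x : Fin 4096) : Cen :=
  monS 1 (mset (enc x.val)) ((mset_mem_supports (enc_lt x.2)).2 (inCode_enc x.2))

theorem reach_sign (x : Fin 4096) : ∃ g ∈ D, kap (gs g r0) = kap (gs (sgnC x) W0) := by
  obtain ⟨g, hg, e⟩ := reach_Pv (a := 1) (b := 4) (by decide)
  refine ⟨sgnC x * (xiC * g), mul_mem (monS_mem_D _ _)
    (mul_mem (Subgroup.mem_sup_right (Subgroup.mem_zpowers _)) hg), ?_⟩
  rw [gs_mul, gs_mul]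
  exact kap_gs_congr _ (kap_gs_congr _ e)

def tabM : List (ℕ × Fin 8 × Fin 8) :=
  [(226, 0, 1), (38, 0, 2), (172, 0, 3), (142, 0, 4), (200, 0, 5), (68, 0, 6), (106, 0, 7),
    (196, 1, 2), (78, 1, 3), (108, 1, 4), (42, 1, 5), (166, 1, 6), (136, 1, 7), (138, 2, 3),
    (168, 2, 4), (238, 2, 5), (98, 2, 6), (76, 2, 7), (34, 3, 4), (100, 3, 5), (232, 3, 6),
    (198, 3, 7), (70, 4, 5), (202, 4, 6), (228, 4, 7), (140, 5, 6), (162, 5, 7), (46, 6, 7)]

def tabP : List (ℕ × Fin 8 × Fin 8) :=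
  [(227, 0, 1), (39, 0, 2), (173, 0, 3), (143, 0, 4), (201, 0, 5), (69, 0, 6), (107, 0, 7),
    (197, 1, 2), (79, 1, 3), (109, 1, 4), (43, 1, 5), (167, 1, 6), (137, 1, 7), (139, 2, 3),
    (169, 2, 4), (239, 2, 5), (99, 2, 6), (77, 2, 7), (35, 3, 4), (101, 3, 5), (233, 3, 6),
    (199, 3, 7), (71, 4, 5), (203, 4, 6), (229, 4, 7), (141, 5, 6), (163, 5, 7), (47, 6, 7)]

def tabS : List (ℕ × Fin 4096) :=
  [(124, 0), (158, 112), (91, 21), (184, 101), (209, 74), (50, 58), (247, 95), (21, 47), (242, 23),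
    (17, 103), (212, 2), (54, 114), (94, 93), (188, 45), (121, 72), (154, 56), (181, 94), (86, 46),
    (147, 75), (113, 59), (25, 20), (251, 100), (62, 1), (221, 113), (58, 73), (216, 57), (29, 92),
    (254, 44), (151, 3), (116, 115), (177, 22), (83, 102), (57, 77), (218, 61), (31, 88), (253, 40),
    (149, 7), (119, 119), (178, 18), (81, 98), (182, 90), (84, 42), (145, 79), (114, 63), (27, 16),
    (248, 96), (61, 5), (223, 117), (241, 19), (19, 99), (214, 6), (53, 118), (92, 89), (191, 41),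
    (122, 76), (152, 60), (127, 4), (156, 116), (89, 17), (187, 97), (211, 78), (49, 62), (244, 91),
    (23, 43)]

theorem tabM_spec : ∀ e ∈ tabM, e.2.1 ≠ e.2.2 ∧ H1Orth.toV mP.e e.1 = kap (Mv e.2.1 e.2.2) := by
  decide +kernel

theorem tabP_spec : ∀ e ∈ tabP, e.2.1 ≠ e.2.2 ∧ H1Orth.toV mP.e e.1 = kap (Pv e.2.1 e.2.2) := by
  decide +kernel

theorem tabS_spec : ∀ e ∈ tabS, H1Orth.toV mP.e e.1 = kap (gs (sgnC e.2) W0) := by decide +kernel

theorem tab_cover : ∀ x : Fin 256, mP.q x.val = true →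
    x.val ∈ tabM.map Prod.fst ∨ x.val ∈ tabP.map Prod.fst ∨ x.val ∈ tabS.map Prod.fst := by
  decide +kernel

theorem root_orbit {x : ℕ} (hx : mP.isRoot x = true) :
    ∃ g ∈ D, H1Orth.act (θ g) (kap r0) = H1Orth.toV mP.e x := by
  simp only [H1Orth.Model.isRoot, Bool.and_eq_true, decide_eq_true_eq] at hx
  rcases tab_cover ⟨x, hx.1⟩ hx.2 with h | h | h <;> obtain ⟨e, he, h⟩ := List.mem_map.1 h
  · obtain ⟨hne, heq⟩ := tabM_spec e he
    obtain ⟨g, hg, hge⟩ := reach_Mv hne
    exact ⟨g, hg, by rw [act_θ, hge, ← heq, h]⟩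
  · obtain ⟨hne, heq⟩ := tabP_spec e he
    obtain ⟨g, hg, hge⟩ := reach_Pv hne
    exact ⟨g, hg, by rw [act_θ, hge, ← heq, h]⟩
  · obtain ⟨g, hg, hge⟩ := reach_sign e.2
    exact ⟨g, hg, by rw [act_θ, hge, ← tabS_spec e he, h]⟩

/-! ### The image -/

theorem pol_act (g : H1Orth.IG QF) (a b : I8 → ZMod 2) :
    H1Orth.pol QF (H1Orth.act g a) (H1Orth.act g b) = H1Orth.pol QF a b := by
  simp only [H1Orth.pol, ← H1Orth.act_add, H1Orth.Q_act]

theorem conj_refl (g : H1Orth.IG QF) (u : I8 → ZMod 2) (hu : QF u = 1)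
    (hu' : QF (H1Orth.act g u) = 1) :
    g * mP.refl u hu * g⁻¹ = mP.refl (H1Orth.act g u) hu' := by
  rw [mul_inv_eq_iff_eq_mul]
  refine H1Orth.act_ext _ _ fun j => ?_
  rw [H1Orth.act_mul, H1Orth.act_mul, mP.act_refl, mP.act_refl, pol_act, H1Orth.act_add]
  congr 1
  generalize H1Orth.pol QF u (Pi.single j 1) = c
  rcases LeechFrame.z2 c with rfl | rfl
  · simp [H1Orth.act_zero]
  · simp

theorem pair_mem_range {x : ℕ} (hx : mP.isRoot x = true) : mP.ev [r0m, x] ∈ θ.range := by
  obtain ⟨g, hg, e⟩ := root_orbit hx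
  have hTx : mP.T x = θ g * T0 * (θ g)⁻¹ := by
    have h1 : QF (H1Orth.toV mP.e x) = 1 := by rw [← e]; exact (H1Orth.Q_act _ _).trans QF_r0
    rw [H1Orth.Model.T, dif_pos h1, conj_refl (θ g) _ QF_r0 (e.symm ▸ h1)]
    congr 1
    exact e.symm
  have hT0 : mP.T r0m = T0 := by
    rw [H1Orth.Model.T, dif_pos (toV_r0m ▸ QF_r0)]
    congr 1
    exact toV_r0m
  rw [H1Orth.Model.ev_cons, H1Orth.Model.ev_cons, H1Orth.Model.ev_nil, mul_one, hTx, hT0]
  have h2 : T0 * θ g * T0⁻¹ ∈ θ.range := D_le_G0 hg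
  rw [inv_eq_of_mul_eq_one_right T0_sq] at h2
  have h3 := mul_mem h2 (inv_mem (θ.mem_range.2 ⟨g, rfl⟩))
  simpa only [mul_assoc] using h3

theorem stages_check : mP.stages [] [17, 35, 54, 71, 84, 101, 122, 242] = true := by decide +kernel

theorem link_check : mP.link r0m = true := by decide +kernel

theorem evens_le_range : mP.evens ≤ θ.range := by
  rintro _ ⟨l, hl, he, rfl⟩
  exact mP.even_mem _ r0m (fun v hv => pair_mem_range hv) l hl he

theorem evens_le_omega : mP.evens ≤ Omega (ZMod 2) QF := by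
  rintro _ ⟨l, hl, he, rfl⟩
  exact mP.even_mem _ r0m (fun v hv => mP.pair_mem r0m_root link_check hv) l hl he

theorem omega_le_range : Omega (ZMod 2) QF ≤ θ.range :=
  (mP.omega_le stages_check).trans evens_le_range

/-- An element congruent to a permutation of the octad on all differences permutes it so. -/
theorem res_of_kap (g : GolayOctadStab.soct oct) {c : Finset GolayPt} (hc : c ∈ CodeSupp)
    (s : Equiv.Perm (Fin 8))
    (h : ∀ a b, a ≠ b → kap (gs (monS g c hc) (Mv a b)) = kap (Mv (s a) (s b))) : res g = s := by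
  have key : ∀ a b, a ≠ b → res g a = s a ∨ res g a = s b := by
    intro a b hab
    have hn : sqNorm (((gs (monS g c hc) (Mv a b) : Sup) : leechLattice) : GolayPt → ℤ) = 32 := by
      rw [coe_gs, sqNorm_smul, norm_Mv hab]
    have hval : (gs (monS g c hc) (Mv a b) : leechLattice).1 (opt (res g a)) ≠ 0 := by
      rw [monS_coord, coe_Mv]
      split_ifs <;> simp_all
    by_contra hne
    push Not at hne
    rcases root_eq hn (norm_Mv (fun e => hab (s.injective e))) (h a b hab) with e | e <;>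
      exact hval (by rw [e]; simp [coe_Mv, hne.1, hne.2])
  refine Equiv.ext fun a => ?_
  obtain ⟨b, b', hb, hb', hbb⟩ : ∃ b b' : Fin 8, a ≠ b ∧ a ≠ b' ∧ b ≠ b' := by revert a; decide
  rcases key a b hb with e | e
  · exact e
  rcases key a b' hb' with e' | e'
  · exact e'
  exact absurd (s.injective (e.symm.trans e')) hbb

theorem mem_mono_of_fix {g : Cen} (h : kap (gs g f0) = kap f0) : (g : Co0) ∈ mono := by
  rw [← classStab_frame, mem_classStab]
  obtain ⟨u, hu⟩ := exists_half (v := gs g f0 - f0) (by rw [map_sub, h, sub_self])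
  refine mem_twiceLeech.mpr ⟨_, (u : leechLattice).2, ?_⟩
  have e := congrArg (fun x : Sup => ((x : leechLattice) : GolayPt → ℤ)) hu
  simp only [AddSubgroup.coe_sub, AddSubgroup.coe_add, coe_gs] at e
  rw [two_nsmul]
  exact e

theorem sw_Mv (a b : Fin 8) : sw (Mv a b) = Mv (s45 a) (s45 b) :=
  ext_opt fun k => by
    rw [sw_coord, coe_Mv, coe_Mv]
    simp only [s45, Equiv.swap_apply_eq_iff]

theorem sw_f0 : sw f0 = f0 :=
  ext_opt fun k => by
    rw [sw_coord, coe_f0, coe_f0]
    simp only [s45, Equiv.swap_apply_eq_iff]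
    congr 1

theorem T0_notMem : T0 ∉ θ.range := by
  rintro ⟨k, hk⟩
  have hact : ∀ v, kap (gs k v) = kap (sw v) := fun v => by rw [← act_θ, hk, act_T0]
  obtain ⟨σ, c, hc, rfl⟩ := exists_monS (mem_mono_of_fix (by rw [hact, sw_f0]))
  have h := res_of_kap σ hc s45 fun a b _ => by rw [hact, sw_Mv]
  have h1 := sign_res σ
  rw [h, Equiv.Perm.sign_swap (by decide)] at h1
  exact absurd h1 (by decide)

theorem range_eq : θ.range = Omega (ZMod 2) QF := by
  refine le_antisymm ?_ omega_le_range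
  intro x hx
  obtain ⟨l, hl, rfl⟩ := mP.gen stages_check x
  by_cases he : Even l.length
  · exact evens_le_omega ⟨l, hl, he, rfl⟩
  · refine absurd ?_ T0_notMem
    have hev : mP.ev (r0m :: l) ∈ θ.range := by
      refine evens_le_range ⟨r0m :: l, ?_, ?_, rfl⟩
      · simp only [H1Orth.Model.okW, List.all_cons, r0m_root, Bool.true_and]
        exact hl
      · rw [List.length_cons, Nat.even_add_one]; exact he
    have := mul_mem hev (inv_mem hx)
    rw [H1Orth.Model.ev_cons, mul_inv_cancel_right] at this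
    have hT0 : mP.T r0m = T0 := by
      rw [H1Orth.Model.T, dif_pos (toV_r0m ▸ QF_r0)]
      congr 1
      exact toV_r0m
    rwa [hT0] at this

/-! ### The kernel -/

theorem ker_iff (g : Cen) : θ g = 1 ↔ ∃ (σ : GolayOctadStab.soct oct) (c : Finset GolayPt)
    (hc : c ∈ CodeSupp), g = monS σ c hc ∧ σ.1 ∈ GolayOctadStab.pfix oct ∧
      (∀ k, opt k ∈ c ↔ opt 0 ∈ c) := by
  constructor
  · intro h
    have hact : ∀ v, kap (gs g v) = kap v := fun v => by rw [← act_θ, h, H1Orth.act_one]
    obtain ⟨σ, c, hc, rfl⟩ := exists_monS (mem_mono_of_fix (hact f0))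
    have hres : res σ = 1 := res_of_kap σ hc 1 fun a b _ => by
      rw [hact, Equiv.Perm.one_apply, Equiv.Perm.one_apply]
    refine ⟨σ, c, hc, rfl, mem_ker_res.1 hres, fun k => ?_⟩
    rcases Decidable.em (k = 0) with rfl | hk
    · exact Iff.rfl
    have hn : sqNorm (((gs (monS σ c hc) (Mv k 0) : Sup) : leechLattice) : GolayPt → ℤ) = 32 := by
      rw [coe_gs, sqNorm_smul, norm_Mv hk]
    have hcoord := monS_coord σ hc (Mv k 0)
    simp only [hres, Equiv.Perm.one_apply] at hcoord
    have hk' := hcoord k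
    have h0' := hcoord 0
    rcases root_eq hn (norm_Mv hk) (hact _) with e | e <;> rw [e] at hk' h0' <;>
      by_cases hkc : opt k ∈ c <;> by_cases h0c : opt 0 ∈ c <;>
      simp [coe_Mv, hk, Ne.symm hk, hkc, h0c] at hk' h0' ⊢
  · rintro ⟨σ, c, hc, rfl, hσ, hcc⟩
    refine H1Orth.act_ext _ _ fun j => ?_
    obtain ⟨v, hv⟩ := kap_surjective (Pi.single j 1)
    rw [← hv, act_θ, H1Orth.act_one]
    have hres : res σ = 1 := mem_ker_res.2 hσ
    have hcoord := monS_coord σ hc v
    simp only [hres, Equiv.Perm.one_apply] at hcoord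
    by_cases h0 : opt 0 ∈ c
    · rw [← kap_neg v]
      refine congrArg kap (ext_opt fun k => ?_)
      rw [hcoord, if_pos ((hcc k).2 h0)]
      rfl
    · refine congrArg kap (ext_opt fun k => ?_)
      rw [hcoord, if_neg fun hk => h0 ((hcc k).1 hk)]

end Cfsg.Agent.LeechOctadImage46
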