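import Cfsg.Agent.Lib.LeechCo2
import Cfsg.Agent.Lib.H1Orth

/-!
The vectors of the rank-24 lattice supported on an octad, modulo twice themselves, as the hyperbolic
quadratic space of dimension 8 over the field with two elements.
-/

set_option autoImplicit false

namespace Cfsg.Agent.LeechOctadLattice46

open Cfsg Cfsg.Agent.GolayBasic Cfsg.Agent.LeechBasic Cfsg.Agent.LeechAut Cfsg.Agent.LeechIndex

/-- The index set of the coordinates modulo two. -/
abbrev I8 : Type := Fin 4 ⊕ Fin 4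

/-- The quadratic space. -/
abbrev QF : (I8 → ZMod 2) → ZMod 2 := Cfsg.quadFormPlus 4 (ZMod 2)

/-- The points of the octad, numbered. -/
def opt (k : Fin 8) : GolayPt := pt (![23, 5, 14, 17, 13, 18, 20, 21] k)

/-- The octad, a union of two tetrads of the sextet of the non-monomial map. -/
def oct : Finset GolayPt := mset 11952160

theorem oct_mem : oct ∈ octads :=
  (mset_mem_octads (by norm_num)).2 (by decide +kernel)

theorem mem_oct_iff : ∀ p : GolayPt, p ∈ oct ↔ ∃ k : Fin 8, opt k = p := by decide +kernel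

theorem opt_mem (k : Fin 8) : opt k ∈ oct := (mem_oct_iff _).2 ⟨k, rfl⟩

theorem opt_injective : Function.Injective opt := by
  intro a b; revert a b; decide +kernel

theorem opt_zero : opt 0 = none := by decide +kernel

/-- The lattice vectors supported on the octad. -/
def Sup : AddSubgroup leechLattice where
  carrier := {v | ∀ p ∉ oct, (v : GolayPt → ℤ) p = 0}
  zero_mem' := fun _ _ => rfl
  add_mem' := fun {a b} ha hb p hp => by
    rw [AddSubgroup.coe_add, Pi.add_apply, ha p hp, hb p hp, add_zero]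
  neg_mem' := fun {a} ha p hp => by
    rw [AddSubgroup.coe_neg, Pi.neg_apply, ha p hp, neg_zero]

theorem mem_Sup {v : leechLattice} : v ∈ Sup ↔ ∀ p ∉ oct, (v : GolayPt → ℤ) p = 0 := Iff.rfl

/-- Half of the `k`-th coordinate. -/
def hy (v : Sup) (k : Fin 8) : ℤ := ((v : leechLattice) : GolayPt → ℤ) (opt k) / 2

theorem even_coord (v : Sup) (p : GolayPt) : ((v : leechLattice) : GolayPt → ℤ) p % 2 = 0 := by
  have h1 := mem_leechLattice.mp (v : leechLattice).2
  obtain ⟨q, hq⟩ : ∃ q : GolayPt, q ∉ oct := by decide +kernel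
  have h0 := v.2 q hq
  have := h1.1 q
  have := h1.1 p
  omega

theorem coord_eq (v : Sup) (k : Fin 8) :
    ((v : leechLattice) : GolayPt → ℤ) (opt k) = 2 * hy v k := by
  have := even_coord v (opt k)
  rw [hy]; omega

theorem sum_oct {α : Type} [AddCommMonoid α] (f : GolayPt → α) (hf : ∀ p ∉ oct, f p = 0) :
    ∑ p, f p = ∑ k, f (opt k) := by
  rw [← Finset.sum_subset (Finset.subset_univ oct) (fun p _ hp => hf p hp)]
  refine (Finset.sum_nbij opt (fun k _ => opt_mem k) (fun a _ b _ h => opt_injective h) ?_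
    (fun _ _ => rfl)).symm
  intro p hp
  obtain ⟨k, rfl⟩ := (mem_oct_iff p).1 (Finset.mem_coe.1 hp)
  exact ⟨k, Finset.mem_coe.2 (Finset.mem_univ _), rfl⟩

theorem hy_parity (v : Sup) (k : Fin 8) : hy v k % 2 = hy v 0 % 2 := by
  obtain ⟨-, -, h3⟩ := mem_leechLattice.mp (v : leechLattice).2
  set s := support₂ (wbit ((v : leechLattice) : GolayPt → ℤ)) with hs
  have hsm : s ∈ supports (golayCode : Set (GolayPt → ZMod 2)) := ⟨_, h3, rfl⟩
  have hsub : s ⊆ oct := fun p hp => by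
    by_contra hn
    rw [hs, LeechFrame.mem_support₂] at hp
    exact hp (by simp [wbit, v.2 p hn])
  have hiff : ∀ j : Fin 8, opt j ∈ s ↔ hy v j % 2 ≠ 0 := fun j => by
    have e := coord_eq v j
    have h0 := even_coord v none
    rw [hs, LeechFrame.mem_support₂, Ne, wbit]
    rw [ZMod.intCast_zmod_eq_zero_iff_dvd]
    push_cast
    omega
  have h8 : oct.card = 8 := by decide +kernel
  have hle := Finset.card_le_card hsub
  rcases card_support_cases hsm with h | h | h | h | h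
  · have he : s = ∅ := h
    have a := hiff k; have b := hiff 0
    rw [he] at a b
    simp at a b
    omega
  · have he : s = oct := Finset.eq_of_subset_of_card_le hsub (by omega)
    have a := (hiff k).1 (he ▸ opt_mem k); have b := (hiff 0).1 (he ▸ opt_mem 0)
    omega
  all_goals omega

theorem hy_sum (v : Sup) : (∑ k, hy v k) % 4 = 0 := by
  obtain ⟨-, h2, -⟩ := mem_leechLattice.mp (v : leechLattice).2
  rw [sum_oct _ v.2] at h2
  simp only [coord_eq, ← Finset.mul_sum] at h2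
  have := even_coord v none
  omega

/-- Coefficients with respect to a basis. -/
def cf (v : Sup) : Fin 8 → ℤ :=
  ![hy v 7, (hy v 1 - hy v 7) / 2, (hy v 2 - hy v 7) / 2, (hy v 3 - hy v 7) / 2,
    (hy v 4 - hy v 7) / 2, (hy v 5 - hy v 7) / 2, (hy v 6 - hy v 7) / 2,
    ((hy v 0 - hy v 7) - ((hy v 1 - hy v 7) + (hy v 2 - hy v 7) + (hy v 3 - hy v 7) +
      (hy v 4 - hy v 7) + (hy v 5 - hy v 7) + (hy v 6 - hy v 7))) / 4]

/-- The half coordinates of a combination. -/
def ofY (c : Fin 8 → ℤ) : Fin 8 → ℤ :=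
  ![c 0 + 2 * (c 1 + c 2 + c 3 + c 4 + c 5 + c 6) + 4 * c 7, c 0 + 2 * c 1, c 0 + 2 * c 2,
    c 0 + 2 * c 3, c 0 + 2 * c 4, c 0 + 2 * c 5, c 0 + 2 * c 6, c 0]

theorem hy_eq (v : Sup) (k : Fin 8) : hy v k = ofY (cf v) k := by
  have := hy_sum v
  rw [Fin.sum_univ_eight] at this
  have := hy_parity v 1
  have := hy_parity v 2
  have := hy_parity v 3
  have := hy_parity v 4
  have := hy_parity v 5
  have := hy_parity v 6
  have := hy_parity v 7
  fin_cases k <;> simp [ofY, cf] <;> omega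

theorem hy_add (v w : Sup) (k : Fin 8) : hy (v + w) k = hy v k + hy w k := by
  have := coord_eq v k
  have := coord_eq w k
  have := coord_eq (v + w) k
  rw [AddSubgroup.coe_add, AddSubgroup.coe_add, Pi.add_apply] at this
  omega

theorem ofY_add (c d : Fin 8 → ℤ) (k : Fin 8) : ofY (c + d) k = ofY c k + ofY d k := by
  fin_cases k <;> simp [ofY] <;> ring

theorem ofY_injective {c d : Fin 8 → ℤ} (h : ∀ k, ofY c k = ofY d k) : c = d := by
  have h0 := h 0; have h1 := h 1; have h2 := h 2; have h3 := h 3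
  have h4 := h 4; have h5 := h 5; have h6 := h 6; have h7 := h 7
  simp [ofY] at h0 h1 h2 h3 h4 h5 h6 h7
  funext k
  fin_cases k <;> simp <;> omega

theorem cf_add (v w : Sup) : cf (v + w) = cf v + cf w :=
  ofY_injective fun k => by rw [ofY_add, ← hy_eq, ← hy_eq, ← hy_eq, hy_add]

/-- The change to a hyperbolic basis. -/
def pMat : Fin 8 → ℕ := ![255, 22, 92, 56, 1, 14, 98, 58]

/-- Coordinates modulo two in a hyperbolic basis. -/
def P2 (c : Fin 8 → ZMod 2) : I8 → ZMod 2 := fun i =>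
  ∑ k : Fin 8, if (pMat (finSumFinEquiv i)).testBit k then c k else 0

theorem P2_add (c d : Fin 8 → ZMod 2) : P2 (c + d) = P2 c + P2 d := by
  funext i
  simp only [P2, Pi.add_apply, ← Finset.sum_add_distrib]
  exact Finset.sum_congr rfl fun k _ => by split_ifs <;> simp

/-- Reduction modulo two. -/
def cast2 (c : Fin 8 → ℤ) : Fin 8 → ZMod 2 := fun k => (c k : ZMod 2)

theorem cast2_add (c d : Fin 8 → ℤ) : cast2 (c + d) = cast2 c + cast2 d := by
  funext k; simp [cast2]

/-- Coordinates modulo two. -/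
def kap : Sup →+ (I8 → ZMod 2) :=
  AddMonoidHom.mk' (fun v => P2 (cast2 (cf v)))
    fun v w => by simp only [cf_add, cast2_add, P2_add]

theorem kap_apply (v : Sup) : kap v = P2 (cast2 (cf v)) := rfl

/-- The quadratic form in the coefficients. -/
def fq (c : Fin 8 → ZMod 2) : ZMod 2 :=
  c 0 + c 0 * (c 1 + c 2 + c 3 + c 4 + c 5 + c 6) + c 0 * c 7 + (c 1 + c 2 + c 3 + c 4 + c 5 + c 6) +
    (c 1 * c 2 + c 1 * c 3 + c 1 * c 4 + c 1 * c 5 + c 1 * c 6 + c 2 * c 3 + c 2 * c 4 + c 2 * c 5 +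
      c 2 * c 6 + c 3 * c 4 + c 3 * c 5 + c 3 * c 6 + c 4 * c 5 + c 4 * c 6 + c 5 * c 6)

/-- Bit vectors of length eight. -/
def bits (x : ℕ) : Fin 8 → ZMod 2 := fun k => if x.testBit k then 1 else 0

theorem bits_surj (c : Fin 8 → ZMod 2) : ∃ x < 2 ^ 8, bits x = c := by
  obtain ⟨x, hx, h⟩ := H1Orth.toV_surj (Equiv.refl (Fin 8)) c
  exact ⟨x, hx, h⟩

theorem P2_data : ∀ x : Fin (2 ^ 8), QF (P2 (bits x)) = fq (bits x) ∧
    (P2 (bits x) = 0 → x = 0) := by decide +kernel

theorem P2_eq_zero {c : Fin 8 → ZMod 2} (h : P2 c = 0) : c = 0 := by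
  obtain ⟨x, hx, rfl⟩ := bits_surj c
  have := (P2_data ⟨x, hx⟩).2 h
  rw [Fin.ext_iff] at this
  rw [show x = 0 from this]
  funext k
  simp [bits]

theorem QF_P2 (c : Fin 8 → ZMod 2) : QF (P2 c) = fq c := by
  obtain ⟨x, hx, rfl⟩ := bits_surj c
  exact (P2_data ⟨x, hx⟩).1

theorem sqNorm_sup (v : Sup) :
    sqNorm ((v : leechLattice) : GolayPt → ℤ) = 4 * ∑ k, hy v k ^ 2 := by
  rw [sqNorm, sum_oct _ (fun p hp => by rw [v.2 p hp]; norm_num), Finset.mul_sum]
  exact Finset.sum_congr rfl fun k _ => by rw [coord_eq]; ring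

/-- The integral form. -/
def iq (c : Fin 8 → ℤ) : ℤ :=
  let S := c 1 + c 2 + c 3 + c 4 + c 5 + c 6
  c 0 * c 0 + c 0 * S + c 0 * c 7 +
    (c 1 * c 1 + c 2 * c 2 + c 3 * c 3 + c 4 * c 4 + c 5 * c 5 + c 6 * c 6) +
    (c 1 * c 2 + c 1 * c 3 + c 1 * c 4 + c 1 * c 5 + c 1 * c 6 + c 2 * c 3 + c 2 * c 4 + c 2 * c 5 +
      c 2 * c 6 + c 3 * c 4 + c 3 * c 5 + c 3 * c 6 + c 4 * c 5 + c 4 * c 6 + c 5 * c 6) +
    2 * (S * c 7 + c 7 * c 7)

theorem sqNorm_iq (v : Sup) : sqNorm ((v : leechLattice) : GolayPt → ℤ) = 32 * iq (cf v) := by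
  rw [sqNorm_sup, Fin.sum_univ_eight]
  simp only [hy_eq]
  simp [ofY, iq]
  ring

theorem iq_cast (c : Fin 8 → ℤ) : ((iq c : ℤ) : ZMod 2) = fq (cast2 c) := by
  have hsq : ∀ a : ZMod 2, a * a = a := by decide
  simp only [iq, fq, cast2, Int.cast_add, Int.cast_mul, hsq]
  rw [show ((2 : ℤ) : ZMod 2) = 0 from rfl]
  ring

theorem sqNorm_dvd (v : Sup) : (32 : ℤ) ∣ sqNorm ((v : leechLattice) : GolayPt → ℤ) :=
  ⟨_, sqNorm_iq v⟩

theorem QF_kap (v : Sup) :
    QF (kap v) = ((sqNorm ((v : leechLattice) : GolayPt → ℤ) / 32 : ℤ) : ZMod 2) := by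
  rw [kap_apply, QF_P2, sqNorm_iq, Int.mul_ediv_cancel_left _ (by norm_num), iq_cast]

/-- The basis. -/
def basisY : Fin 8 → List ℤ :=
  ![[1, 1, 1, 1, 1, 1, 1, 1], [2, 2, 0, 0, 0, 0, 0, 0], [2, 0, 2, 0, 0, 0, 0, 0],
    [2, 0, 0, 2, 0, 0, 0, 0], [2, 0, 0, 0, 2, 0, 0, 0], [2, 0, 0, 0, 0, 2, 0, 0],
    [2, 0, 0, 0, 0, 0, 2, 0], [4, 0, 0, 0, 0, 0, 0, 0]]

/-- The basis, as functions. -/
def basisFun (k : Fin 8) : GolayPt → ℤ := fun p =>
  ∑ j : Fin 8, if opt j = p then 2 * (basisY k).getD j 0 else 0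

theorem basisFun_mem : ∀ k, LeechXi.isL (basisFun k) = true := by decide +kernel

theorem basisFun_supp : ∀ k, ∀ p, p ∉ oct → basisFun k p = 0 := by decide +kernel

/-- The basis vectors. -/
def bvec (k : Fin 8) : Sup :=
  ⟨⟨basisFun k, LeechXi.isL_iff.1 (basisFun_mem k)⟩, fun p hp => basisFun_supp k p hp⟩

theorem coe_Sup_sum {κ : Type} (s : Finset κ) (f : κ → Sup) (p : GolayPt) :
    (((∑ a ∈ s, f a : Sup) : leechLattice) : GolayPt → ℤ) p =
      ∑ a ∈ s, (((f a : Sup) : leechLattice) : GolayPt → ℤ) p := by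
  rw [AddSubgroup.val_finsetSum, AddSubgroup.val_finsetSum, Finset.sum_apply]

/-- The combination of the basis with given coefficients. -/
def ofC (c : Fin 8 → ℤ) : Sup := ∑ k, c k • bvec k

theorem hy_bvec : ∀ k j : Fin 8, basisFun k (opt j) = 2 * ofY (Pi.single k 1) j := by decide +kernel

theorem hy_ofC (c : Fin 8 → ℤ) (j : Fin 8) : hy (ofC c) j = ofY c j := by
  have : ((ofC c : Sup) : leechLattice) = ∑ k, c k • ((bvec k : Sup) : leechLattice) := by
    simp [ofC]
  have h2 : (((ofC c : Sup) : leechLattice) : GolayPt → ℤ) (opt j) =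
      ∑ k, c k * (2 * ofY (Pi.single k 1) j) := by
    rw [this, AddSubgroup.val_finsetSum, Finset.sum_apply]
    exact Finset.sum_congr rfl fun k _ => by
      simp only [AddSubgroup.coe_zsmul, Pi.smul_apply, smul_eq_mul]
      rw [show ((bvec k : Sup) : leechLattice).1 (opt j) = basisFun k (opt j) from rfl, hy_bvec]
  rw [hy, h2]
  have : ∑ k, c k * (2 * ofY (Pi.single k 1) j) = 2 * ofY c j := by
    fin_cases j <;> simp [Fin.sum_univ_eight, ofY] <;> ring
  rw [this]; omega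

theorem cf_ofC (c : Fin 8 → ℤ) : cf (ofC c) = c :=
  ofY_injective fun k => by rw [← hy_eq, hy_ofC]

theorem Sup_ext {v w : Sup} (h : ∀ k, hy v k = hy w k) : v = w := by
  refine Subtype.ext (Subtype.ext (funext fun p => ?_))
  by_cases hp : p ∈ oct
  · obtain ⟨k, rfl⟩ := (mem_oct_iff p).1 hp
    rw [coord_eq, coord_eq, h]
  · rw [v.2 p hp, w.2 p hp]

theorem eq_ofC (v : Sup) : v = ofC (cf v) :=
  Sup_ext fun k => by rw [hy_ofC, ← hy_eq]

theorem exists_half {v : Sup} (h : kap v = 0) : ∃ w : Sup, v = w + w := by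
  have hc := P2_eq_zero (kap_apply v ▸ h)
  refine ⟨ofC fun k => cf v k / 2, Sup_ext fun k => ?_⟩
  rw [hy_add, hy_ofC, hy_eq]
  have he : ∀ j, cf v j % 2 = 0 := fun j => by
    have := congrFun hc j
    simp only [cast2, Pi.zero_apply] at this
    have := (ZMod.intCast_zmod_eq_zero_iff_dvd (cf v j) 2).1 this
    omega
  have := he 0; have := he 1; have := he 2; have := he 3
  have := he 4; have := he 5; have := he 6; have := he 7
  fin_cases k <;> simp [ofY] <;> omega

theorem kap_twice (w : Sup) : kap (w + w) = 0 := by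
  rw [map_add]; exact H1Orth.vadd_self _

/-- The inverse change of basis. -/
def rMat : Fin 8 → ℕ := ![128, 240, 156, 58, 129, 232, 92, 198]

theorem P2_surj : ∀ x : Fin (2 ^ 8),
    P2 (fun k => ∑ j : Fin 8, if (x.val).testBit j ∧ (rMat j).testBit k then 1 else 0) =
      H1Orth.toV finSumFinEquiv x.val := by decide +kernel

theorem kap_surjective (u : I8 → ZMod 2) : ∃ v : Sup, kap v = u := by
  obtain ⟨x, hx, rfl⟩ := H1Orth.toV_surj finSumFinEquiv u
  refine ⟨ofC fun k => ∑ j : Fin 8, if x.testBit j ∧ (rMat j).testBit k then 1 else 0, ?_⟩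
  rw [kap_apply, cf_ofC, ← P2_surj ⟨x, hx⟩]
  congr 1
  funext k
  simp only [cast2, Int.cast_sum]
  exact Finset.sum_congr rfl fun j _ => by split_ifs <;> simp

theorem dot_sup (v w : Sup) :
    (16 : ℤ) ∣ dotInt ((v : leechLattice) : GolayPt → ℤ) (w : leechLattice) := by
  have h1 := sqNorm_dvd (v + w)
  have h2 := sqNorm_dvd v
  have h3 := sqNorm_dvd w
  rw [AddSubgroup.coe_add, AddSubgroup.coe_add, sqNorm_add] at h1
  omega

theorem pol_kap (v w : Sup) : H1Orth.pol QF (kap v) (kap w) =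
    ((dotInt ((v : leechLattice) : GolayPt → ℤ) (w : leechLattice) / 16 : ℤ) : ZMod 2) := by
  have h1 := sqNorm_dvd v
  have h2 := sqNorm_dvd w
  have h3 := dot_sup v w
  rw [H1Orth.pol, ← map_add, QF_kap, QF_kap, QF_kap, AddSubgroup.coe_add, AddSubgroup.coe_add,
    sqNorm_add]
  set a := sqNorm ((v : leechLattice) : GolayPt → ℤ)
  set b := sqNorm ((w : leechLattice) : GolayPt → ℤ)
  set d := dotInt ((v : leechLattice) : GolayPt → ℤ) (w : leechLattice)
  rw [show (a + 2 * d + b) / 32 = a / 32 + d / 16 + b / 32 by omega]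
  push_cast
  have : ∀ x y z : ZMod 2, x + y + z + x + z = y := by decide
  exact this _ _ _

/-- Two roots of the octad lattice congruent modulo twice it differ by a sign. -/
theorem root_eq {v w : Sup} (hv : sqNorm ((v : leechLattice) : GolayPt → ℤ) = 32)
    (hw : sqNorm ((w : leechLattice) : GolayPt → ℤ) = 32) (h : kap v = kap w) :
    v = w ∨ v = -w := by
  obtain ⟨u, hu⟩ := exists_half (v := v - w) (by rw [map_sub, h, sub_self])
  have ht : ((v : leechLattice) : GolayPt → ℤ) - (w : leechLattice) ∈ twiceLeech := by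
    refine mem_twiceLeech.mpr ⟨_, (u : leechLattice).2, ?_⟩
    rw [← AddSubgroup.coe_sub, ← AddSubgroup.coe_sub, hu, AddSubgroup.coe_add, AddSubgroup.coe_add,
      two_nsmul]
  rcases LeechMod2.congr_short (w : leechLattice).2 ht (by norm_num [hv]) (by norm_num [hw]) with
    e | e | e
  · exact Or.inl (Subtype.ext (Subtype.ext e))
  · exact Or.inr (Subtype.ext (Subtype.ext e))
  · omega

end Cfsg.Agent.LeechOctadLattice46
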