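import Cfsg.Agent.Lib.LeechOctadImage46
import Cfsg.Agent.Lib.LeechCoOneSimple
import Cfsg.Agent.Lib.SymplecticType
import Cfsg.Agent.Lib.CharTwoLocal
import Cfsg.Agent.Lib.OrthUnitaryCentre
import Cfsg.Agent.Lib.OrthUnitarySimpleStd
import Cfsg.Agent.Lib.OrthUnitaryForms
import Cfsg.Prelude.Def_Spor_Conway

/-!
An involution of the first Conway group: its centraliser has an extraspecial subgroup of order 2^9
as generalized Fitting subgroup, with quotient the commutator subgroup of the hyperbolic orthogonal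
group of dimension 8 over the field with two elements.
-/

set_option autoImplicit false
set_option linter.style.haveILetI false

open scoped symmDiff Pointwise commutatorElement

namespace Cfsg.Agent.LeechOctadQuot46

open Cfsg Cfsg.Agent.GolayBasic Cfsg.Agent.GolayPerm Cfsg.Agent.LeechAut Cfsg.Agent.LeechStab
open Cfsg.Agent.LeechOctadLattice46 Cfsg.Agent.LeechOctadImage46
open Cfsg.Agent.LeechCo2 (signElt_apply monomial_apply monomial_conj_sign)
open Cfsg.Agent.LeechCoOneSimple (negAut_sq)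

/-- The projection. -/
abbrev pr : Co0 →* Spor.Co1 := QuotientGroup.mk' (Subgroup.center Co0)

/-- The involution. -/
def zz : Spor.Co1 := pr eps

theorem pr_eq_one {g : Co0} : pr g = 1 ↔ g = 1 ∨ g = negAut := by
  rw [QuotientGroup.mk'_apply, QuotientGroup.eq_one_iff]
  refine ⟨center_eq, ?_⟩
  rintro (rfl | rfl)
  · exact one_mem _
  · exact negAut_mem_center

theorem eps_sq : eps * eps = 1 := signElt_sq _

theorem eps_apply_none : ((eps • frame none : leechLattice) : GolayPt → ℤ) none = -8 := by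
  rw [eps, signElt_apply, if_pos (opt_zero ▸ opt_mem 0)]
  simp [frame, unitVec]

theorem eps_ne : eps ≠ 1 ∧ eps ≠ negAut := by
  constructor
  · intro h
    have := eps_apply_none
    rw [h, one_smul] at this
    simp [frame, unitVec] at this
  · intro h
    obtain ⟨p, hp⟩ : ∃ p : GolayPt, p ∉ oct := by decide +kernel
    have e : ((eps • frame p : leechLattice) : GolayPt → ℤ) p = 8 := by
      rw [eps, signElt_apply, if_neg hp]
      simp [frame, unitVec]
    rw [h, negAut_smul] at e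
    simp [frame, unitVec] at e

theorem orderOf_zz : orderOf zz = 2 := by
  refine orderOf_eq_prime (p := 2) ?_ ?_
  · rw [pow_two, zz, ← map_mul, eps_sq, map_one]
  · intro h
    rcases pr_eq_one.1 h with e | e
    · exact eps_ne.1 e
    · exact eps_ne.2 e

/-! ### The centraliser -/

theorem card_compl_oct : Fintype.card {p : GolayPt // p ∉ oct} = 16 := by decide +kernel

/-- No automorphism sends the sign change to its negative. -/
theorem not_anti {g : Co0} (h : g * eps = negAut * eps * g) : False := by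
  have hmem : ∀ v : leechLattice, eps • v = v → g • v ∈ Sup := fun v hv => by
    rw [mem_Sup_iff]
    have e : g • (eps • v) = negAut • eps • g • v := by rw [← mul_smul, h, mul_smul, mul_smul]
    rw [hv, negAut_smul] at e
    exact neg_eq_iff_eq_neg.1 e.symm
  let W : ({p : GolayPt // p ∉ oct} → ℤ) →+ leechLattice :=
    AddMonoidHom.mk' (fun c => ∑ p, c p • frame p.1) fun a b => by
      simp only [Pi.add_apply, add_smul, Finset.sum_add_distrib]
  have hW : ∀ c (q : GolayPt), ((W c : leechLattice) : GolayPt → ℤ) q =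
      ∑ p : {p : GolayPt // p ∉ oct}, c p * unitVec 8 p.1 q := fun c q => by
    show ((∑ p, c p • frame p.1 : leechLattice) : GolayPt → ℤ) q = _
    rw [AddSubgroup.val_finsetSum, Finset.sum_apply]
    rfl
  have hfix : ∀ c, eps • W c = W c := fun c => by
    refine Subtype.ext (funext fun q => ?_)
    rw [eps, signElt_apply]
    split_ifs with hq
    · have hz : ((W c : leechLattice) : GolayPt → ℤ) q = 0 := by
        rw [hW]
        refine Finset.sum_eq_zero fun p _ => ?_
        rw [unitVec, if_neg (fun e => p.2 (by rw [← e]; exact hq)), mul_zero]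
      rw [hz, neg_zero]
    · rfl
  let F : ({p : GolayPt // p ∉ oct} → ℤ) →+ (Fin 8 → ℤ) :=
    AddMonoidHom.mk' (fun c k => ((g • W c : leechLattice) : GolayPt → ℤ) (opt k)) fun a b => by
      funext k
      simp only [map_add, smul_add_vec, AddSubgroup.coe_add, Pi.add_apply]
  have hinj : Function.Injective F := by
    rw [injective_iff_map_eq_zero]
    intro c hc
    have h0 : (⟨g • W c, hmem _ (hfix c)⟩ : Sup) = 0 :=
      ext_opt fun k => congrFun hc k
    have h1 : g • W c = 0 := congrArg Subtype.val h0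
    have h2 : W c = 0 := by
      have := congrArg (fun x => g⁻¹ • x) h1
      rwa [inv_smul_smul, smul_zero_vec] at this
    funext p
    have := hW c p.1
    rw [h2, Finset.sum_eq_single p (fun q _ hq => by
      rw [unitVec, if_neg (fun e => hq (Subtype.ext e.symm)), mul_zero])
      (fun hp => absurd (Finset.mem_univ p) hp), unitVec, if_pos rfl] at this
    simp at this
    exact this
  have hle := LinearMap.finrank_le_finrank_of_injective (f := F.toIntLinearMap) hinj
  rw [Module.finrank_fintype_fun_eq_card, Module.finrank_fintype_fun_eq_card, card_compl_oct,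
    Fintype.card_fin] at hle
  omega

/-- The centraliser in the first Conway group. -/
abbrev C : Subgroup Spor.Co1 := Subgroup.centralizer ({zz} : Set Spor.Co1)

/-- The projection between the centralisers. -/
def ψ : Cen →* C :=
  (pr.comp Cen.subtype).codRestrict C fun g => by
    rw [Subgroup.mem_centralizer_singleton_iff, MonoidHom.comp_apply, Subgroup.coe_subtype, zz,
      ← map_mul, ← map_mul, mem_Cen.1 g.2]

theorem coe_ψ (g : Cen) : ((ψ g : C) : Spor.Co1) = pr (g : Co0) := rfl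

theorem ψ_surjective : Function.Surjective ψ := by
  intro c
  obtain ⟨g, hg⟩ := QuotientGroup.mk'_surjective (Subgroup.center Co0) (c : Spor.Co1)
  have h := Subgroup.mem_centralizer_singleton_iff.1 c.2
  rw [← hg, zz, ← map_mul, ← map_mul] at h
  have h1 : pr ((g * eps) * (eps * g)⁻¹) = 1 := by
    rw [map_mul, map_inv, mul_inv_eq_one]; exact h
  rcases pr_eq_one.1 h1 with e | e
  · exact ⟨⟨g, mem_Cen.2 (mul_inv_eq_one.1 e)⟩, Subtype.ext hg⟩
  · exact (not_anti (g := g) (by rw [mul_assoc]; exact mul_inv_eq_iff_eq_mul.1 e)).elim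

theorem negAut_mem_Cen : negAut ∈ Cen :=
  mem_Cen.2 (Subgroup.mem_center_iff.1 negAut_mem_center eps).symm

/-- Negation in the centraliser. -/
def negC : Cen := ⟨negAut, negAut_mem_Cen⟩

theorem ψ_eq_one {g : Cen} : ψ g = 1 ↔ g = 1 ∨ g = negC := by
  rw [← Subtype.val_inj, coe_ψ, OneMemClass.coe_one, pr_eq_one]
  exact or_congr ⟨fun h => Subtype.ext h, fun h => congrArg Subtype.val h⟩
    ⟨fun h => Subtype.ext h, fun h => congrArg Subtype.val h⟩

theorem θ_negC : θ negC = 1 := by
  refine H1Orth.act_ext _ _ fun j => ?_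
  obtain ⟨v, hv⟩ := kap_surjective (Pi.single j 1)
  rw [← hv, act_θ, H1Orth.act_one, show gs negC v = -v from Subtype.ext (negAut_smul _), kap_neg]

theorem ker_ψ_le : ψ.ker ≤ θ.ker := fun g hg => by
  rcases ψ_eq_one.1 hg with rfl | rfl
  · exact one_mem _
  · exact θ_negC

/-- The action of the centraliser. -/
noncomputable def θC : C →* H1Orth.IG QF := ψ.liftOfSurjective ψ_surjective ⟨θ, ker_ψ_le⟩

theorem θC_ψ (g : Cen) : θC (ψ g) = θ g :=
  MonoidHom.liftOfRightInverse_comp_apply ψ _ _ _ g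

theorem θC_mem (c : C) : θC c ∈ Omega (ZMod 2) QF := by
  obtain ⟨g, rfl⟩ := ψ_surjective c
  rw [θC_ψ, ← range_eq]
  exact ⟨g, rfl⟩

/-- The action, onto the commutator subgroup. -/
noncomputable def φ : C →* Omega (ZMod 2) QF := θC.codRestrict _ θC_mem

theorem φ_surjective : Function.Surjective φ := by
  intro x
  obtain ⟨g, hg⟩ : (x : H1Orth.IG QF) ∈ θ.range := by rw [range_eq]; exact x.2
  exact ⟨ψ g, Subtype.ext ((θC_ψ g).trans hg)⟩

/-- The kernel. -/
noncomputable abbrev Q : Subgroup C := φ.ker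

theorem ψ_mem_Q {g : Cen} : ψ g ∈ Q ↔ θ g = 1 := by
  rw [MonoidHom.mem_ker, ← θC_ψ g]
  exact ⟨fun h => congrArg Subtype.val h, fun h => Subtype.ext h⟩

/-! ### The order of the kernel -/

theorem card_cond : Fintype.card {x : Fin 4096 //
    ∀ k : Fin 8, (enc x.val).testBit (idx (opt k)) = (enc x.val).testBit (idx (opt 0))} = 64 := by
  rw [Fintype.card_subtype]
  decide +kernel

theorem card_cond_supp :
    Nat.card {c : CodeSupp // ∀ k, opt k ∈ c.1 ↔ opt 0 ∈ c.1} = 64 := by
  let f : Fin 4096 → CodeSupp := fun x => ⟨mset (enc x),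
    (mset_mem_supports (enc_lt x.2)).2 (inCode_enc x.2)⟩
  have hf : Function.Bijective f := by
    refine (Nat.bijective_iff_injective_and_card f).mpr ⟨fun x y h => ?_, by rw [card_codeSupp]; simp⟩
    exact Fin.ext (injOn_mset_enc x.2 y.2 (congrArg Subtype.val h))
  rw [← Nat.card_congr (Equiv.subtypeEquiv (p := fun x : Fin 4096 =>
      ∀ k : Fin 8, (enc x.val).testBit (idx (opt k)) = (enc x.val).testBit (idx (opt 0)))
      (Equiv.ofBijective f hf) fun x => ?_)]
  · rw [Nat.card_eq_fintype_card, card_cond]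
  · refine forall_congr' fun k => ?_
    show _ ↔ (opt k ∈ mset (enc x) ↔ opt 0 ∈ mset (enc x))
    rw [mem_mset, mem_mset]
    exact Bool.eq_iff_iff

theorem monS_injective {σ τ : GolayOctadStab.soct oct} {c d : Finset GolayPt} {hc : c ∈ CodeSupp}
    {hd : d ∈ CodeSupp} (h : monS σ c hc = monS τ d hd) : σ = τ ∧ c = d := by
  have h' := LeechMonomial.monomial_injective σ.1.2 τ.1.2 hc hd (congrArg Subtype.val h)
  exact ⟨Subtype.ext (Subtype.ext h'.1), h'.2⟩

theorem card_ker_θ : Nat.card θ.ker = 1024 := by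
  let F : GolayOctadStab.pfix oct × {c : CodeSupp // ∀ k, opt k ∈ c.1 ↔ opt 0 ∈ c.1} → θ.ker :=
    fun x => ⟨monS ⟨x.1.1, GolayOctadStab.pfix_le_soct _ x.1.2⟩ x.2.1.1 x.2.1.2,
      (ker_iff _).2 ⟨_, _, _, rfl, x.1.2, x.2.2⟩⟩
  have hF : Function.Bijective F := by
    constructor
    · intro x y h
      obtain ⟨h1, h2⟩ := monS_injective (congrArg Subtype.val h)
      exact Prod.ext (Subtype.ext (congrArg Subtype.val h1 :)) (Subtype.ext (Subtype.ext h2))
    · rintro ⟨g, hg⟩
      obtain ⟨σ, c, hc, rfl, h1, h2⟩ := (ker_iff g).1 hg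
      exact ⟨(⟨σ.1, h1⟩, ⟨⟨c, hc⟩, h2⟩), rfl⟩
  rw [← Nat.card_eq_of_bijective F hF, Nat.card_prod, GolayOctadStab.card_pfix oct_mem, card_cond_supp]

theorem card_Q : Nat.card Q = 2 ^ 9 := by
  haveI := LeechOrder.finite_Co0
  let r : θ.ker →* Q := (ψ.comp θ.ker.subtype).codRestrict Q fun g => ψ_mem_Q.2 g.2
  have hsurj : Function.Surjective r := by
    rintro ⟨q, hq⟩
    obtain ⟨g, rfl⟩ := ψ_surjective q
    exact ⟨⟨g, ψ_mem_Q.1 hq⟩, rfl⟩
  have hker : Nat.card r.ker = 2 := by
    have hne : negC ≠ 1 := fun h => negAut_ne_one (congrArg Subtype.val h)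
    refine Nat.card_eq_two_iff.2 ⟨1, ⟨⟨negC, θ_negC⟩, Subtype.ext (ψ_eq_one.2 (Or.inr rfl))⟩,
      fun h => hne (congrArg (fun x : r.ker => x.1.1) h).symm, Set.eq_univ_of_forall fun x => ?_⟩
    rcases ψ_eq_one.1 (congrArg Subtype.val x.2) with e | e
    · exact Or.inl (Subtype.ext (Subtype.ext e))
    · exact Or.inr (Subtype.ext (Subtype.ext e))
  have h := Subgroup.card_eq_card_quotient_mul_card_subgroup r.ker
  rw [Nat.card_congr (QuotientGroup.quotientKerEquivOfSurjective r hsurj).toEquiv, hker,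
    card_ker_θ] at h
  omega

/-! ### Normal forms -/

theorem negC_monS (σ : GolayOctadStab.soct oct) {c : Finset GolayPt} (hc : c ∈ CodeSupp) :
    negC * monS σ c hc = monS σ cᶜ (compl_mem_supports hc) := by
  refine Subtype.ext ?_
  show negAut * monomial σ.1.1 σ.1.2 c hc = monomial σ.1.1 σ.1.2 cᶜ (compl_mem_supports hc)
  rw [negAut, monomial_mul]
  refine monomial_congr _ _ _ _ (one_mul _) ?_
  rw [one_smul]
  ext p
  simp [Finset.mem_symmDiff]

theorem exists_normal {q : C} (hq : q ∈ Q) : ∃ (σ : GolayOctadStab.soct oct) (c : Finset GolayPt)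
    (hc : c ∈ CodeSupp), q = ψ (monS σ c hc) ∧ σ.1 ∈ GolayOctadStab.pfix oct ∧ ∀ p ∈ oct, p ∉ c := by
  obtain ⟨g, rfl⟩ := ψ_surjective q
  obtain ⟨σ, c, hc, rfl, h1, h2⟩ := (ker_iff g).1 (ψ_mem_Q.1 hq)
  by_cases h0 : opt 0 ∈ c
  · refine ⟨σ, cᶜ, compl_mem_supports hc, ?_, h1, fun p hp => ?_⟩
    · rw [← negC_monS σ hc, map_mul, ψ_eq_one.2 (Or.inr rfl), one_mul]
    · obtain ⟨k, rfl⟩ := (mem_oct_iff p).1 hp
      rw [Finset.mem_compl, not_not]
      exact (h2 k).2 h0
  · refine ⟨σ, c, hc, rfl, h1, fun p hp => ?_⟩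
    obtain ⟨k, rfl⟩ := (mem_oct_iff p).1 hp
    exact fun hk => h0 ((h2 k).1 hk)

theorem monS_mem_Q {σ : GolayOctadStab.soct oct} {c : Finset GolayPt} (hc : c ∈ CodeSupp)
    (h1 : σ.1 ∈ GolayOctadStab.pfix oct) (h2 : ∀ p ∈ oct, p ∉ c) : ψ (monS σ c hc) ∈ Q :=
  ψ_mem_Q.2 ((ker_iff _).2 ⟨σ, c, hc, rfl, h1,
    fun k => iff_of_false (h2 _ (opt_mem k)) (h2 _ (opt_mem 0))⟩)

/-- The sign change as an element of the centraliser. -/
def epsC : Cen := ⟨eps, mem_Cen.2 rfl⟩

/-- The involution in the centraliser. -/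
def zC : C := ψ epsC

theorem coe_zC : ((zC : C) : Spor.Co1) = zz := rfl

theorem zC_mem_Q : zC ∈ Q := by
  refine ψ_mem_Q.2 ?_
  refine H1Orth.act_ext _ _ fun j => ?_
  obtain ⟨v, hv⟩ := kap_surjective (Pi.single j 1)
  rw [← hv, act_θ, H1Orth.act_one, show gs epsC v = -v from Subtype.ext (mem_Sup_iff.1 v.2), kap_neg]

theorem zC_central (c : C) : c * zC = zC * c :=
  Subtype.ext (Subgroup.mem_centralizer_singleton_iff.1 c.2)

theorem zC_sq : zC * zC = 1 :=
  Subtype.ext (show zz * zz = 1 by rw [← pow_two, ← orderOf_zz]; exact pow_orderOf_eq_one zz)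

theorem signElt_eq_monS (c : CodeSupp) :
    signElt c = ((monS 1 c.1 c.2 : Cen) : Co0) := rfl

theorem square_data :
    (((List.range 4096).filter fun x => enc x &&& 13062145 == 0).all fun x =>
      GolayData.tr24_6.all fun P =>
        (pts.all fun i => !(((enc x).testBit i) ^^ ((enc x).testBit (pimg P i)))) ||
        (pts.all fun i =>
          (((enc x).testBit i) ^^ ((enc x).testBit (pimg P i))) == !(13062145 : ℕ).testBit i)) =
      true := by decide +kernel

/-- A code word off the octad meets its translate in itself or in its relative complement. -/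
theorem symmDiff_translate {σ : M24} (hσ : σ ∈ GolayOctadStab.pfix oct) {c : Finset GolayPt}
    (hc : c ∈ CodeSupp) (hd : ∀ p ∈ oct, p ∉ c) :
    c ∆ ((σ : Equiv.Perm GolayPt) • c) = ∅ ∨ c ∆ ((σ : Equiv.Perm GolayPt) • c) = octᶜ := by
  obtain ⟨τ, hτ⟩ := GolayOctadStab.exists_tau oct_mem
  obtain ⟨P, hP, hPe⟩ := GolayOctadStab.exists_listed
    (GolayOctadStab.conj_mem_pfix' (τ := τ) (g := σ) (o := GolayOctadStab.O0) (by rwa [hτ]))
  obtain ⟨hgood, -, -, -⟩ := GolayOctadStab.check_of_mem hP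
  have hv := valid_of_good hgood
  obtain ⟨x, hx, hxe⟩ := mem_supports_iff.1
    (GolayPerm.smul_mem_supports (inv_mem τ.2) hc : ((τ : Equiv.Perm GolayPt))⁻¹ • c ∈ CodeSupp)
  set t : Equiv.Perm GolayPt := (τ : Equiv.Perm GolayPt) with ht
  set s : Equiv.Perm GolayPt := (σ : Equiv.Perm GolayPt) with hs
  have hbit : ∀ p, p ∈ c ↔ (enc x).testBit (idx (t⁻¹ p)) = true := fun p => by
    rw [← mem_mset, hxe, ← Equiv.Perm.smul_def, Finset.smul_mem_smul_finset_iff]
  have hoct : ∀ p, p ∈ oct ↔ (13062145 : ℕ).testBit (idx (t⁻¹ p)) = true := fun p => by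
    rw [← mem_mset, ← hτ, Finset.inv_smul_mem_iff.symm, Equiv.Perm.smul_def]
    rfl
  have hsq : ∀ p, s (s p) = p := fun p =>
    congrArg (fun g : M24 => (g : Equiv.Perm GolayPt) p) (GolayOctadStab.pfix_sq oct_mem hσ)
  have hmem : ∀ p, p ∈ s • c ↔
      (enc x).testBit (pimg P (idx (t⁻¹ p))) = true := fun p => by
    have hsymm : s⁻¹ p = s p := Equiv.Perm.inv_eq_iff_eq.2 (hsq p).symm
    rw [← Finset.inv_smul_mem_iff, Equiv.Perm.smul_def, hsymm, hbit]
    have e : t⁻¹ (s p) = permOf P (t⁻¹ p) := by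
      rw [← hPe]
      simp [ht, hs]
    rw [e, permOf_apply hv, pfun, idx_pt (pimg_lt hv (idx_lt _))]
  have hdis : enc x &&& 13062145 = 0 := by
    refine Nat.eq_of_testBit_eq fun i => ?_
    rw [Nat.testBit_and, Nat.zero_testBit]
    by_cases hi : i < 24
    · by_contra hne
      simp only [Bool.and_eq_false_iff, not_or, Bool.not_eq_false] at hne
      have hp1 := hbit (t (pt i))
      have hp2 := hoct (t (pt i))
      simp only [Equiv.Perm.inv_def, Equiv.symm_apply_apply, idx_pt hi] at hp1 hp2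
      exact hd _ (hp2.2 hne.2) (hp1.2 hne.1)
    · rw [Nat.testBit_lt_two_pow (lt_of_lt_of_le (show (13062145 : ℕ) < 2 ^ 24 by norm_num)
        (Nat.pow_le_pow_right (by norm_num) (not_lt.1 hi))), Bool.and_false]
  have h := square_data
  simp only [List.all_eq_true, List.mem_filter, List.mem_range, beq_iff_eq, and_imp,
    Bool.or_eq_true, Bool.not_eq_true'] at h
  rcases h x hx hdis P hP with h | h
  · left
    refine Finset.eq_empty_of_forall_notMem fun p hp => ?_
    have := h _ (mem_pts.2 (idx_lt (t⁻¹ p)))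
    rw [Finset.mem_symmDiff, hbit, hmem] at hp
    revert this hp
    cases (enc x).testBit (idx (t⁻¹ p)) <;> cases (enc x).testBit (pimg P (idx (t⁻¹ p))) <;> simp
  · right
    ext p
    have := h _ (mem_pts.2 (idx_lt (t⁻¹ p)))
    rw [Finset.mem_symmDiff, hbit, hmem, Finset.mem_compl, hoct]
    revert this
    cases (enc x).testBit (idx (t⁻¹ p)) <;> cases (enc x).testBit (pimg P (idx (t⁻¹ p))) <;>
      cases (13062145 : ℕ).testBit (idx (t⁻¹ p)) <;> simp

theorem monS_mul (σ τ : GolayOctadStab.soct oct) {c d : Finset GolayPt} (hc : c ∈ CodeSupp)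
    (hd : d ∈ CodeSupp) : monS σ c hc * monS τ d hd =
      monS (σ * τ) (c ∆ ((σ.1 : Equiv.Perm GolayPt) • d))
        (symmDiff_mem_supports hc (GolayPerm.smul_mem_supports σ.1.2 hd)) :=
  Subtype.ext (monomial_mul σ.1.2 τ.1.2 hc hd)

theorem monS_congr {σ τ : GolayOctadStab.soct oct} {c d : Finset GolayPt} (hc : c ∈ CodeSupp)
    (hd : d ∈ CodeSupp) (h1 : σ = τ) (h2 : c = d) : monS σ c hc = monS τ d hd := by
  subst h1; subst h2; rfl

theorem monS_one_empty : monS 1 ∅ empty_mem_supports = 1 := Subtype.ext monomial_one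

/-- The subgroup generated by the involution. -/
noncomputable abbrev Z : Subgroup Q := Subgroup.zpowers ⟨zC, zC_mem_Q⟩

theorem mem_Z {q : Q} (h : (q : C) = 1 ∨ (q : C) = zC) : q ∈ Z := by
  rcases h with h | h
  · rw [show q = 1 from Subtype.ext h]; exact one_mem _
  · rw [show q = ⟨zC, zC_mem_Q⟩ from Subtype.ext h]; exact Subgroup.mem_zpowers _

theorem isCentralPrime : PGroupsExtraspecial.IsCentralPrime 2 (⟨zC, zC_mem_Q⟩ : Q) := by
  refine ⟨Subgroup.mem_center_iff.2 fun g => Subtype.ext (zC_central g.1), ?_⟩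
  rw [Subgroup.orderOf_mk, ← Subgroup.orderOf_coe]
  exact orderOf_zz

theorem sq_mem_Z (q : Q) : q * q ∈ Z := by
  obtain ⟨σ, c, hc, e, h1, h2⟩ := exists_normal q.2
  refine mem_Z ?_
  have hσ : σ * σ = 1 := Subtype.ext (GolayOctadStab.pfix_sq oct_mem h1)
  rw [Subgroup.coe_mul, e, ← map_mul, monS_mul]
  rcases symmDiff_translate h1 hc h2 with h | h
  · left
    rw [monS_congr _ empty_mem_supports hσ h, monS_one_empty, map_one]
  · right
    rw [monS_congr _ (compl_mem_supports oct_mem.1) hσ h]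
    have : monS 1 octᶜ (compl_mem_supports oct_mem.1) = negC * epsC := by
      rw [← negC_monS 1 oct_mem.1]
      rfl
    rw [this, map_mul, ψ_eq_one.2 (Or.inr rfl), one_mul]
    rfl

theorem comm_mem_Z (g h : Q) : ⁅g, h⁆ ∈ Z := by
  haveI : Z.Normal := PGroupsBasic.normal_of_le_center (Subgroup.zpowers_le.2 isCentralPrime.1)
  have e : ⁅g, h⁆ = (g * h) * (g * h) * (h⁻¹ * (g * g)⁻¹ * h) * (h * h)⁻¹ := by
    rw [commutatorElement_def]; group
  rw [e]
  refine mul_mem (mul_mem (sq_mem_Z _) ?_) (inv_mem (sq_mem_Z h))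
  exact Subgroup.Normal.conj_mem' inferInstance _ (inv_mem (sq_mem_Z g)) h

theorem sep_data : ∀ p q : GolayPt, p ∉ oct → q ∉ oct → p ≠ q →
    ∃ i : Fin 5, ((enc (![204, 271, 537, 1107, 2134] i)).testBit (idx p) ≠
      (enc (![204, 271, 537, 1107, 2134] i)).testBit (idx q)) := by decide +kernel

theorem sep_code : ∀ i : Fin 5, inCode (enc (![204, 271, 537, 1107, 2134] i)) = true ∧
    enc (![204, 271, 537, 1107, 2134] i) < 2 ^ 24 ∧
    ∀ k, opt k ∉ mset (enc (![204, 271, 537, 1107, 2134] i)) := by decide +kernel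

theorem center_le : Subgroup.center Q ≤ Z := by
  intro q hq
  rw [Subgroup.mem_center_iff] at hq
  obtain ⟨σ, c, hc, e, h1, h2⟩ := exists_normal q.2
  have hcomm : ∀ (τ : GolayOctadStab.soct oct) (d : Finset GolayPt) (hd : d ∈ CodeSupp), τ.1 ∈ GolayOctadStab.pfix oct → (∀ p ∈ oct, p ∉ d) →
      c ∆ ((σ.1 : Equiv.Perm GolayPt) • d) = d ∆ ((τ.1 : Equiv.Perm GolayPt) • c) := by
    intro τ d hd ht hdd
    have h := congrArg Subtype.val (hq ⟨_, monS_mem_Q hd ht hdd⟩)
    simp only [Subgroup.coe_mul, e, ← map_mul] at h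
    have h' : ψ ((monS τ d hd * monS σ c hc)⁻¹ * (monS σ c hc * monS τ d hd)) = 1 := by
      rw [map_mul, map_inv, inv_mul_eq_one]; exact h
    have key : ∀ (ρ : GolayOctadStab.soct oct) (a b : Finset GolayPt) (ha : a ∈ CodeSupp)
        (hb : b ∈ CodeSupp), ρ.1 ∈ GolayOctadStab.pfix oct → (∀ p ∈ oct, p ∉ a) →
        (∀ p ∈ oct, p ∉ b) → ∀ p ∈ oct, p ∉ a ∆ ((ρ.1 : Equiv.Perm GolayPt) • b) := by
      intro ρ a b _ _ hρ ha hb p hp hmem
      rw [Finset.mem_symmDiff] at hmem
      have hfix : p ∈ (ρ.1 : Equiv.Perm GolayPt) • b ↔ p ∈ b := by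
        conv_lhs => rw [show p = (ρ.1 : Equiv.Perm GolayPt) • p from (hρ p hp).symm]
        rw [Finset.smul_mem_smul_finset_iff]
      rcases hmem with ⟨x, -⟩ | ⟨x, -⟩
      · exact ha p hp x
      · exact hb p hp (hfix.1 x)
    rcases ψ_eq_one.1 h' with e' | e'
    · rw [inv_mul_eq_one, monS_mul, monS_mul] at e'
      exact (monS_injective e').2.symm
    · exfalso
      rw [inv_mul_eq_iff_eq_mul, monS_mul, monS_mul,
        show ∀ x : Cen, x * negC = negC * x from fun x =>
          Subtype.ext (Subgroup.mem_center_iff.1 negAut_mem_center _), negC_monS] at e'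
      have hh := (monS_injective e').2
      refine key σ c d hc hd h1 h2 hdd _ (opt_mem 0) ?_
      rw [hh, Finset.mem_compl]
      exact key τ d c hd hc ht hdd h2 _ (opt_mem 0)
  have hσ : σ = 1 := by
    by_contra hne
    obtain ⟨p, hp⟩ : ∃ p : GolayPt, p ∉ oct := by decide +kernel
    have hmove : (σ.1 : Equiv.Perm GolayPt) p ≠ p := fun hf =>
      hne (Subtype.ext (GolayOctadStab.pfix_semireg oct_mem h1 hp hf))
    have hp' : (σ.1 : Equiv.Perm GolayPt) p ∉ oct := fun hin =>
      hp ((oct_invariant σ p).1 hin)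
    obtain ⟨i, hi⟩ := sep_data _ p hp' hp hmove
    obtain ⟨hcode, hlt, hdis⟩ := sep_code i
    set d := mset (enc (![204, 271, 537, 1107, 2134] i)) with hd
    have hdd : ∀ q ∈ oct, q ∉ d := fun q hq => by
      obtain ⟨k, rfl⟩ := (mem_oct_iff q).1 hq
      exact hdis k
    have hd' : d ∈ CodeSupp := (mset_mem_supports hlt).2 hcode
    have hcd := hcomm 1 d hd' (one_mem _) hdd
    rw [OneMemClass.coe_one, OneMemClass.coe_one, one_smul, symmDiff_comm d c] at hcd
    have hfix : (σ.1 : Equiv.Perm GolayPt) • d = d := symmDiff_right_injective c hcd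
    have : (σ.1 : Equiv.Perm GolayPt) p ∈ d ↔ p ∈ d := by
      conv_lhs => rw [← hfix, ← Equiv.Perm.smul_def, Finset.smul_mem_smul_finset_iff]
    rw [hd, mem_mset, mem_mset] at this
    exact hi (Bool.eq_iff_iff.2 this)
  subst hσ
  have hinv : ∀ τ : GolayOctadStab.soct oct, τ.1 ∈ GolayOctadStab.pfix oct →
      (τ.1 : Equiv.Perm GolayPt) • c = c := fun τ ht => by
    have := hcomm τ ∅ empty_mem_supports ht fun p _ => Finset.notMem_empty p
    rw [Finset.smul_finset_empty, symmDiff_comm] at this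
    exact (symmDiff_right_injective ∅ this).symm
  refine mem_Z ?_
  rcases c.eq_empty_or_nonempty with rfl | ⟨p, hp⟩
  · left; rw [e, monS_one_empty, map_one]
  · right
    have hc' : c = octᶜ := by
      ext r
      rw [Finset.mem_compl]
      refine ⟨fun hr hro => h2 r hro hr, fun hr => ?_⟩
      obtain ⟨v, hv, hvp⟩ := GolayOctadStab.pfix_trans oct_mem (fun h => h2 p h hp) hr
      rw [← hinv ⟨v, GolayOctadStab.pfix_le_soct _ hv⟩ hv, ← hvp, ← Equiv.Perm.smul_def,
        Finset.smul_mem_smul_finset_iff]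
      exact hp
    subst hc'
    rw [e, ← negC_monS 1 oct_mem.1, map_mul, ψ_eq_one.2 (Or.inr rfl), one_mul]
    rfl

theorem isExtraspecial_Q : Cfsg.IsExtraspecial 2 Q := by
  haveI := LeechOrder.finite_Co0
  haveI : Fact (Nat.Prime 2) := ⟨Nat.prime_two⟩
  have hz := isCentralPrime
  refine SymplecticType.isExtraspecial_of (IsPGroup.of_card card_Q) hz comm_mem_Z
    (fun g => by rw [pow_two]; exact sq_mem_Z g) center_le ?_
  by_contra hab
  push Not at hab
  have htop : Subgroup.center Q = ⊤ := by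
    rw [eq_top_iff]
    intro g _
    exact Subgroup.mem_center_iff.2 fun h => commutatorElement_eq_one_iff_mul_comm.1 (hab h g)
  have h := Subgroup.card_le_of_le center_le
  rw [htop, Subgroup.card_top, card_Q, Nat.card_zpowers, hz.2] at h
  norm_num at h

/-! ### Simplicity of the quotient -/

theorem isSimpleGroup_omega : IsSimpleGroup (Omega (ZMod 2) QF) := by
  have hnd := OrthUnitaryStd.nondegenerate_withBase
    (OrthUnitaryStd.nondegenerate_qfNil (F := ZMod 2)) 4
  have hpsimple : IsSimpleGroup (POmega (ZMod 2) QF) :=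
    OrthUnitarySimpleStd.isSimpleGroup_POmega _ _ (OrthUnitaryForms.eqPlus 4)
      (OrthUnitaryForms.eqPlus_isometry 4) hnd
      (by rw [OrthUnitaryStd.finrank_withBase_space, Module.finrank_fintype_fun_eq_card]; simp)
  have hcen : Subgroup.center (Omega (ZMod 2) QF) = ⊥ := by
    set e := (OrthUnitaryForms.eqPlus (F := ZMod 2) 4).symm (Pi.single (Sum.inl 0) 1) with he
    have he0 : e ≠ 0 := fun h => by
      have := congrArg (OrthUnitaryForms.eqPlus (F := ZMod 2) 4) h
      rw [he, LinearEquiv.apply_symm_apply, map_zero] at this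
      exact absurd this (by decide)
    have hcc := OrthUnitaryCentre.card_center_commutator hnd (e := e)
      (by rw [← OrthUnitaryForms.eqPlus_isometry, he, LinearEquiv.apply_symm_apply]; decide) he0
      (by rw [OrthUnitaryStd.finrank_withBase_space, Module.finrank_fintype_fun_eq_card]; simp)
    rw [if_neg (fun h => h.1 (by decide))] at hcc
    apply Subgroup.eq_bot_of_card_eq
    rw [← hcc]
    exact Nat.card_congr (Subgroup.centerCongr (OrthUnitaryStd.omegaEquiv _ _
      (OrthUnitaryForms.eqPlus 4) (OrthUnitaryForms.eqPlus_isometry 4))).toEquiv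
  haveI := hpsimple
  let e : Omega (ZMod 2) QF ≃* POmega (ZMod 2) QF :=
    ((QuotientGroup.quotientMulEquivOfEq hcen).trans QuotientGroup.quotientBot).symm
  exact e.isSimpleGroup

theorem xi_data :
    let w : GolayPt → ℤ := LeechFrame.two (pt 15) (pt 8) 4 4
    LeechXi.xiFun (fun p => if p ∈ mset (enc 204) then -w p else w p) (pt 16) = 0 ∧
      LeechXi.xiFun w (pt 16) ≠ 0 := by decide +kernel

theorem wit_code : inCode (enc 204) = true ∧ enc 204 < 2 ^ 24 ∧
    (∀ k, opt k ∉ mset (enc 204)) ∧ wt (enc 204) = 8 := by decide +kernel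

/-- A disjoint octad. -/
def oct' : Finset GolayPt := mset (enc 204)

theorem oct'_mem : oct' ∈ octads :=
  (mset_mem_octads wit_code.2.1).2 ⟨wit_code.1, wit_code.2.2.2⟩

theorem oct'_disj : ∀ p ∈ oct, p ∉ oct' := fun p hp => by
  obtain ⟨k, rfl⟩ := (mem_oct_iff p).1 hp
  exact wit_code.2.2.1 k

/-- The sign change on the disjoint octad. -/
def dC : Cen := monS 1 oct' oct'_mem.1

theorem dC_mem : ψ dC ∈ Q := monS_mem_Q _ (one_mem _) oct'_disj

theorem centralizer_le : Subgroup.centralizer (Q : Set C) ≤ Q := by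
  haveI := isSimpleGroup_omega
  set N := Subgroup.centralizer (Q : Set C) with hN
  haveI : N.Normal := inferInstance
  haveI : (N.map φ).Normal := Subgroup.Normal.map inferInstance φ φ_surjective
  rcases IsSimpleGroup.eq_bot_or_eq_top_of_normal (N.map φ) inferInstance with h | h
  · exact (Subgroup.map_eq_bot_iff _).1 h
  exfalso
  obtain ⟨n, hn, hne⟩ : φ (ψ xiC) ∈ N.map φ := h ▸ Subgroup.mem_top _
  set x := ψ xiC with hx
  have hq : n⁻¹ * x ∈ Q := by rw [MonoidHom.mem_ker, map_mul, map_inv, hne, inv_mul_cancel]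
  set d : Q := ⟨ψ dC, dC_mem⟩ with hd
  set q : Q := ⟨n⁻¹ * x, hq⟩ with hqd
  have hcn : ∀ r : C, r ∈ Q → n * r = r * n := fun r hr =>
    (Subgroup.mem_centralizer_iff.1 hn r hr).symm
  have hconj : x * ψ dC * x⁻¹ * (ψ dC)⁻¹ = ((⁅q, d⁆ : Q) : C) := by
    have e1 : x = n * (q : C) := by rw [hqd]; group
    have e2 : (q : C) * ψ dC * (q : C)⁻¹ ∈ Q := (q * d * q⁻¹).2
    rw [commutatorElement_def, Subgroup.coe_mul, Subgroup.coe_mul, Subgroup.coe_mul,
      Subgroup.coe_inv, Subgroup.coe_inv]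
    show _ = (q : C) * ψ dC * (q : C)⁻¹ * (ψ dC)⁻¹
    congr 1
    rw [e1, mul_inv_rev]
    calc n * (q : C) * ψ dC * ((q : C)⁻¹ * n⁻¹)
        = n * ((q : C) * ψ dC * (q : C)⁻¹) * n⁻¹ := by group
      _ = _ := by rw [hcn _ e2, mul_inv_cancel_right]
  obtain ⟨i, hi⟩ := Subgroup.mem_zpowers_iff.1 (comm_mem_Z q d)
  have hval : x * ψ dC * x⁻¹ * (ψ dC)⁻¹ = 1 ∨ x * ψ dC * x⁻¹ * (ψ dC)⁻¹ = zC := by
    rw [hconj, ← hi, Subgroup.coe_zpow]
    rcases Int.even_or_odd i with ⟨k, rfl⟩ | ⟨k, rfl⟩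
    · left; rw [← two_mul, zpow_mul, zpow_two, zC_sq, one_zpow]
    · right; rw [zpow_add, zpow_mul, zpow_two, zC_sq, one_zpow, one_mul, zpow_one]
  obtain ⟨f, hf, hpr⟩ : ∃ f : Cen, (∃ e : CodeSupp, (f : Co0) = signElt e) ∧
      ψ (xiC * dC * xiC⁻¹ * dC⁻¹) = ψ f := by
    rcases hval with h | h
    · refine ⟨1, ⟨⟨∅, empty_mem_supports⟩, monomial_one.symm⟩, ?_⟩
      rw [map_mul, map_mul, map_mul, map_inv, map_inv, map_one, ← hx, h]
    · refine ⟨epsC, ⟨⟨oct, oct_mem.1⟩, rfl⟩, ?_⟩
      rw [map_mul, map_mul, map_mul, map_inv, map_inv, ← hx, h]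
      rfl
  obtain ⟨e, he⟩ := hf
  have h1 : ψ (f⁻¹ * (xiC * dC * xiC⁻¹ * dC⁻¹)) = 1 := by
    rw [map_mul, map_inv, hpr, inv_mul_cancel]
  obtain ⟨e', he'⟩ : ∃ e' : CodeSupp, ((xiC * dC * xiC⁻¹ * dC⁻¹ : Cen) : Co0) = signElt e' := by
    rcases ψ_eq_one.1 h1 with h2 | h2
    · exact ⟨e, by rw [← inv_mul_eq_one.1 h2, he]⟩
    · refine ⟨⟨e.1 ∆ Finset.univ, symmDiff_mem_supports e.2 univ_mem_supports⟩, ?_⟩
      rw [inv_mul_eq_iff_eq_mul.1 h2, Subgroup.coe_mul, he, ← signElt_mul e ⟨_, univ_mem_supports⟩]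
      rfl
  have hmul : (LeechXi.xi : Co0) * signElt ⟨oct', oct'_mem.1⟩ =
      signElt e' * signElt ⟨oct', oct'_mem.1⟩ * LeechXi.xi := by
    rw [← he']
    simp only [Subgroup.coe_mul, Subgroup.coe_inv, signElt_eq_monS]
    show (xiC : Co0) * _ = _
    rw [show (dC : Co0) = ((monS 1 oct' oct'_mem.1 : Cen) : Co0) from rfl]
    simp only [xiC]
    group
  set v : leechLattice := LeechFrame.P (pt 15) (pt 8) with hv
  have happ := congrArg (fun g : Co0 => ((g • v : leechLattice) : GolayPt → ℤ) (pt 16)) hmul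
  simp only [mul_smul, LeechXi.coe_xi_smul, signElt_apply] at happ
  have hl : LeechXi.xiFun ((signElt ⟨oct', oct'_mem.1⟩ • v : leechLattice) : GolayPt → ℤ) (pt 16) = 0 := by
    refine Eq.trans ?_ xi_data.1
    congr 1
  rw [hl] at happ
  have hr : LeechXi.xiFun (v : GolayPt → ℤ) (pt 16) ≠ 0 := xi_data.2
  split_ifs at happ <;> omega

theorem omega_not_comm : ¬ ∀ a b : Omega (ZMod 2) QF, a * b = b * a := by
  intro hc
  have hcomm : ∀ g h : Cen, θ (g * h) = θ (h * g) := fun g h => by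
    have := congrArg Subtype.val (hc (φ (ψ g)) (φ (ψ h)))
    rw [map_mul, map_mul, ← θC_ψ g, ← θC_ψ h]
    exact this
  obtain ⟨π, hπ, h4, h5⟩ := exists_even_map (a := 5) (b := 6) (by decide)
  obtain ⟨π', hπ', h4', h5'⟩ := exists_even_map (a := 4) (b := 6) (by decide)
  obtain ⟨σ, rfl⟩ := exists_res hπ
  obtain ⟨σ', rfl⟩ := exists_res hπ'
  have hact : ∀ v, kap (gs (monS σ ∅ empty_mem_supports * monS σ' ∅ empty_mem_supports) v) =
      kap (gs (monS σ' ∅ empty_mem_supports * monS σ ∅ empty_mem_supports) v) := fun v => by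
    rw [← act_θ, hcomm, act_θ]
  simp only [monS_mul] at hact
  have hres := res_of_kap (σ * σ') _ (res (σ' * σ)) (fun a b _ => (hact (Mv a b)).trans ?_)
  · rw [map_mul, map_mul] at hres
    have := congrArg (fun π : Equiv.Perm (Fin 8) => π 4) hres
    simp only [Equiv.Perm.mul_apply, h4, h4', h5'] at this
    exact absurd this (by decide)
  · refine congrArg kap (ext_opt fun k => ?_)
    obtain ⟨j, rfl⟩ := (res (σ' * σ)).surjective k
    rw [monS_coord, if_neg (by simp), coe_Mv, coe_Mv]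
    simp only [(res (σ' * σ)).injective.eq_iff]

theorem generalizedFitting_eq : Cfsg.generalizedFittingSubgroup C = Q := by
  haveI := LeechOrder.finite_Co0
  haveI := isSimpleGroup_omega
  haveI : Fact (Nat.Prime 2) := ⟨Nat.prime_two⟩
  have hQ : IsPGroup 2 Q := IsPGroup.of_card card_Q
  have hcore : pCore 2 C = Q := by
    refine le_antisymm ?_ (HallCore.le_pCore hQ)
    haveI : ((pCore 2 C).map φ).Normal := Subgroup.Normal.map inferInstance φ φ_surjective
    rcases IsSimpleGroup.eq_bot_or_eq_top_of_normal ((pCore 2 C).map φ) inferInstance with h | h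
    · exact (Subgroup.map_eq_bot_iff _).1 h
    · exfalso
      have hp : IsPGroup 2 ((pCore 2 C).map φ) := (HallCore.isPGroup_pCore 2 C).map φ
      rw [h] at hp
      have hp' : IsPGroup 2 (Omega (ZMod 2) QF) := hp.of_equiv Subgroup.topEquiv
      haveI : Nontrivial (Omega (ZMod 2) QF) := IsSimpleGroup.toNontrivial
      rcases IsSimpleGroup.eq_bot_or_eq_top_of_normal (Subgroup.center (Omega (ZMod 2) QF))
        inferInstance with hb | hb
      · exact (Subgroup.nontrivial_iff_ne_bot _).1 hp'.center_nontrivial hb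
      · exact omega_not_comm fun a b => (Subgroup.mem_center_iff.1 (hb ▸ Subgroup.mem_top a) b).symm
  rw [CharTwoLocal.gen_eq_of_charTwo (CharTwoLocal.charTwo_of_isPGroup ?_), hcore]
  rw [hcore]
  exact hQ.to_le centralizer_le

theorem not_weakly_closed : ∃ g : Spor.Co1,
    (∃ hq : g * zz * g⁻¹ ∈ C, (⟨g * zz * g⁻¹, hq⟩ : C) ∈ Q) ∧ g * zz * g⁻¹ ≠ zz := by
  obtain ⟨σ, hσ, e⟩ := GolayM24.exists_smul_eq_of_octads oct_mem oct'_mem
  set m := monomial σ hσ ∅ empty_mem_supports with hm
  have hconj : pr m * zz * (pr m)⁻¹ = ((ψ dC : C) : Spor.Co1) := by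
    rw [zz, ← map_inv, ← map_mul, ← map_mul, coe_ψ, hm, eps, monomial_conj_sign]
    refine congrArg pr ?_
    show signElt _ = signElt ⟨oct', oct'_mem.1⟩
    exact congrArg signElt (Subtype.ext e)
  refine ⟨pr m, ⟨hconj ▸ (ψ dC).2, ?_⟩, ?_⟩
  · convert dC_mem using 1
    exact Subtype.ext hconj
  · rw [hconj, coe_ψ, zz]
    intro h
    have h' : pr (eps⁻¹ * (dC : Co0)) = 1 := by rw [map_mul, map_inv, h, inv_mul_cancel]
    rw [show eps⁻¹ = eps from inv_eq_of_mul_eq_one_right eps_sq] at h'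
    obtain ⟨p, hp⟩ : ∃ p, p ∈ oct' := ⟨pt 15, by decide +kernel⟩
    have hpo : p ∉ oct := fun hin => oct'_disj p hin hp
    have hA : ((( eps * (dC : Co0)) • frame p : leechLattice) : GolayPt → ℤ) p = -8 := by
      rw [mul_smul, eps, signElt_apply, if_neg hpo, show (dC : Co0) = signElt ⟨oct', oct'_mem.1⟩ from rfl,
        signElt_apply, if_pos hp]
      simp [frame, unitVec]
    have hB : ((( eps * (dC : Co0)) • frame none : leechLattice) : GolayPt → ℤ) none = -8 := by
      rw [mul_smul, eps, signElt_apply, if_pos (opt_zero ▸ opt_mem 0),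
        show (dC : Co0) = signElt ⟨oct', oct'_mem.1⟩ from rfl,
        signElt_apply, if_neg (oct'_disj none (opt_zero ▸ opt_mem 0))]
      simp [frame, unitVec]
    obtain ⟨r, hr, hr'⟩ : ∃ r : GolayPt, r ∉ oct ∧ r ∉ oct' := by decide +kernel
    have hC : ((( eps * (dC : Co0)) • frame r : leechLattice) : GolayPt → ℤ) r = 8 := by
      rw [mul_smul, eps, signElt_apply, if_neg hr, show (dC : Co0) = signElt ⟨oct', oct'_mem.1⟩ from rfl,
        signElt_apply, if_neg hr']
      simp [frame, unitVec]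
    rcases pr_eq_one.1 h' with h'' | h'' <;> rw [h''] at hA hC
    · simp [frame, unitVec] at hA
    · rw [negAut_smul] at hC; simp [frame, unitVec] at hC

end Cfsg.Agent.LeechOctadQuot46
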