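import Cfsg.Agent.Lib.LeechOctadSectionTables46
import Cfsg.Agent.Lib.LeechOctadQuot46

/-!
The centraliser, inside the centraliser of the octad sign change, of a fixed-point-free automorphism
of odd prime order: its action on the quotient of the normal 2-subgroup, from numerical certificates.
-/

set_option autoImplicit false
set_option linter.style.haveILetI false

open scoped Pointwise symmDiff

namespace Cfsg.Agent.LeechOctadSectionCore46

open Cfsg Cfsg.Agent.GolayBasic Cfsg.Agent.GolayPerm Cfsg.Agent.LeechBasic Cfsg.Agent.LeechAut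
open Cfsg.Agent.LeechStab Cfsg.Agent.LeechOctadLattice46 Cfsg.Agent.LeechOctadImage46
open Cfsg.Agent.LeechOctadQuot46 (negC epsC θ_negC)
open Cfsg.Agent.LeechOctadSectionTables46

/-! ### The kernel of the action on the octad -/

/-- The permutations fixing the octad pointwise. -/
def permList : List ℕ :=
  [984818244535754528103549039458486304,
   964048898635769892387945499611696129,
   970538992418718774876113737513730146,
   967943160906634882443693203669386307,
   980924140725294677160324934169664836,
   957558329490419463347195686262515398,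
   966644888605916630157456689154298247,
   965346457858280311602285612983897608,
   960154557144335963360164969615923561,
   975731210044482049100029598719258762,
   958856284866738415730512032145037611,
   977029403114242140829700647870933228,
   969240640889195770282912334269923951,
   971836868544283417183598037620604176,
   961452155988558973955598884050313715,
   956260017597569525519170223614504150]

/-- The code words constant on the octad. -/
def codeList : List ℕ :=
    [0, 32, 204, 236, 271, 303, 451, 483, 537, 569, 725, 757, 790, 822, 986, 1018, 1107, 1139, 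
  1183, 1215, 1372, 1404, 1424, 1456, 1610, 1642, 1670, 1702, 1861, 1893, 1929, 1961, 2134, 2166, 
  2202, 2234, 2393, 2425, 2453, 2485, 2639, 2671, 2691, 2723, 2880, 2912, 2956, 2988, 3077, 3109, 
  3273, 3305, 3338, 3370, 3526, 3558, 3612, 3644, 3792, 3824, 3859, 3891, 4063, 4095]

theorem permList_ok : permList.length = 16 ∧ ∀ i : Fin 16, good (permList.getD i 0) = true := by
  decide +kernel

theorem codeList_ok : codeList.length = 64 ∧ ∀ j : Fin 64, codeList.getD j 0 < 4096 := by
  decide +kernel

/-- The kernel elements, numbered. -/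
def kel (i : Fin 16) (j : Fin 64) : Mel :=
  ⟨permList.getD i 0, codeList.getD j 0, permList_ok.2 i, codeList_ok.2 j⟩

/-- The sign change on the octad, in numbers. -/
def epsM : Mel := ⟨984818244535754528103549039458486304, 32, by decide +kernel, by decide⟩

/-- The negation, in numbers. -/
def negM : Mel := ⟨984818244535754528103549039458486304, 4095, by decide +kernel, by decide⟩

/-- The sign change off the octad, in numbers. -/
def wM : Mel := ⟨984818244535754528103549039458486304, 4063, by decide +kernel, by decide⟩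

/-- The identity, in numbers. -/
def oneM : Mel := ⟨984818244535754528103549039458486304, 0, by decide +kernel, by decide⟩

theorem idData : ∀ i < 24, pimg 984818244535754528103549039458486304 i = i := by decide +kernel

theorem permOf_id : permOf 984818244535754528103549039458486304 = 1 :=
  Equiv.ext fun p => by
    rw [← pt_idx p]
    show permOf oneM.P (pt (idx p)) = _
    rw [oneM.permOf_pt (idx_lt p), Mel.img]
    show pt (pimg 984818244535754528103549039458486304 (idx p)) = _
    rw [idData _ (idx_lt p), Equiv.Perm.one_apply]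

theorem codes_named : mset (enc 32) = oct ∧ mset (enc 4095) = (Finset.univ : Finset GolayPt) ∧
    mset (enc 4063) = octᶜ ∧ mset (enc 0) = (∅ : Finset GolayPt) := by decide +kernel

theorem epsM_el : epsM.el = eps :=
  monomial_congr _ (one_mem _) _ oct_mem.1 permOf_id codes_named.1

theorem negM_el : negM.el = negAut :=
  monomial_congr _ (one_mem _) _ univ_mem_supports permOf_id codes_named.2.1

theorem oneM_el : oneM.el = 1 :=
  (monomial_congr _ (one_mem _) _ empty_mem_supports permOf_id codes_named.2.2.2).trans monomial_one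

theorem wM_el : wM.el = negAut * eps := by
  rw [← negM_el, ← epsM_el]
  exact (el_mul_eq (by decide +kernel)).symm

/-- A monomial element of the centraliser. -/
noncomputable def melC (m : Mel) (h : commChk m epsM = true) : Cen :=
  ⟨m.el, mem_Cen.2 (by rw [← epsM_el]; exact (el_comm_iff m epsM).2 h)⟩

theorem kel_data : ∀ (i : Fin 16) (j : Fin 64), commChk (kel i j) epsM = true ∧
    (∀ k : Fin 8, (kel i j).img (idx (opt k)) = idx (opt k) ∧
      (enc (kel i j).x).testBit (idx (opt k)) = (enc (kel i j).x).testBit (idx (opt 0))) := by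
  decide +kernel

theorem permList_inj : ∀ i j : Fin 16,
    (∀ k : Fin 24, pimg (permList.getD i 0) k = pimg (permList.getD j 0) k) → i = j := by
  decide +kernel

theorem codeList_inj : ∀ i j : Fin 64, codeList.getD i 0 = codeList.getD j 0 → i = j := by
  decide +kernel

/-- An element of the kernel, numbered. -/
noncomputable def kerEl (x : Fin 16 × Fin 64) : θ.ker :=
  ⟨melC (kel x.1 x.2) (kel_data x.1 x.2).1, by
    have hd := (kel_data x.1 x.2).2
    set m := kel x.1 x.2
    have hfix : (⟨permOf m.P, permOf_mem_M24 m.hP⟩ : M24) ∈ GolayOctadStab.pfix oct := by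
      intro p hp
      obtain ⟨k, rfl⟩ := (mem_oct_iff p).1 hp
      show permOf m.P (opt k) = opt k
      rw [← pt_idx (opt k), m.permOf_pt (idx_lt _), (hd k).1]
    refine (ker_iff _).2 ⟨⟨_, GolayOctadStab.pfix_le_soct _ hfix⟩, mset (enc m.x), m.code_mem, rfl,
      hfix, fun k => ?_⟩
    rw [mem_mset, mem_mset, (hd k).2]⟩

theorem kerEl_surjective : Function.Surjective kerEl := by
  haveI := LeechOrder.finite_Co0
  have hinj : Function.Injective kerEl := by
    intro x y h
    have h' : (kel x.1 x.2).el = (kel y.1 y.2).el := congrArg (fun k : θ.ker => ((k : Cen) : Co0)) h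
    obtain ⟨h1, h2⟩ := LeechMonomial.monomial_injective _ _ _ _ h'
    refine Prod.ext (permList_inj _ _ fun k => ?_) (codeList_inj _ _ ?_)
    · have e1 := (kel x.1 x.2).permOf_pt k.2
      rw [h1, (kel y.1 y.2).permOf_pt k.2] at e1
      have := congrArg idx e1
      rw [idx_pt ((kel y.1 y.2).img_lt k.2), idx_pt ((kel x.1 x.2).img_lt k.2)] at this
      exact this.symm
    · exact GolayBasic.injOn_mset_enc (kel x.1 x.2).hx (kel y.1 y.2).hx h2
  exact ((Nat.bijective_iff_injective_and_card kerEl).2 ⟨hinj, by
    rw [LeechOctadQuot46.card_ker_θ, Nat.card_prod]; simp⟩).2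

/-! ### Octad vectors with unit coordinates -/

/-- The vector with the given unit coordinates modulo two. -/
def liftU (j : Fin 8) : Sup := ofC fun k => if (rMat j).testBit k then 1 else 0

theorem liftU_data : ∀ j : Fin 8, P2 (fun k => if (rMat j).testBit k then 1 else 0) =
    H1Orth.toV finSumFinEquiv (2 ^ j.val) := by decide +kernel

theorem kap_liftU (j : Fin 8) : kap (liftU j) = H1Orth.toV finSumFinEquiv (2 ^ j.val) := by
  rw [kap_apply, liftU, cf_ofC, ← liftU_data]
  congr 1
  funext k
  simp only [cast2]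
  split_ifs <;> simp

/-- The coordinates modulo two, from the function alone. -/
def kapF (f : GolayPt → ℤ) : I8 → ZMod 2 :=
  let y : Fin 8 → ℤ := fun k => f (opt k) / 2
  P2 (cast2 ![y 7, (y 1 - y 7) / 2, (y 2 - y 7) / 2, (y 3 - y 7) / 2, (y 4 - y 7) / 2,
    (y 5 - y 7) / 2, (y 6 - y 7) / 2,
    ((y 0 - y 7) - ((y 1 - y 7) + (y 2 - y 7) + (y 3 - y 7) + (y 4 - y 7) + (y 5 - y 7) + (y 6 - y 7))) / 4])

theorem kap_eq_kapF (v : Sup) : kap v = kapF ((v : leechLattice) : GolayPt → ℤ) := rfl

/-- The image of a vector from a table. -/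
def tabApply (T : List ℕ) (v : GolayPt → ℤ) : GolayPt → ℤ := fun q =>
  (∑ i : GolayPt, v i * ent T (idx i) (idx q)) / 8

theorem coe_smul_tab {g : Co0} {T : List ℕ} (hT : IsTab g T) (v : leechLattice) :
    ((g • v : leechLattice) : GolayPt → ℤ) = tabApply T v := by
  funext q
  have h := eight_mul_coe_smul g v q
  have e : ∑ i, (v : GolayPt → ℤ) i * ((g • frame i : leechLattice) : GolayPt → ℤ) q =
      ∑ i : GolayPt, (v : GolayPt → ℤ) i * ent T (idx i) (idx q) :=
    Finset.sum_congr rfl fun i _ => by
      rw [← pt_idx i, hT _ (idx_lt i), pt_idx]; rfl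
  rw [tabApply, ← e, ← h, Int.mul_ediv_cancel_left _ (by norm_num)]

/-! ### Masks of coordinates -/

/-- The coordinates of an element against dual elements, as a mask. -/
def cmask {n : ℕ} (B : Fin n → Mel) (dual : Fin n → Fin n) (k : Mel) : ℕ :=
  Nat.ofBits fun j => !commChk k (B (dual j))

/-- The powers of a map given by columns. -/
def powC (cols : List ℕ) : ℕ → ℕ → ℕ
  | 0, x => x
  | k + 1, x => apC cols (powC cols k x)

/-- A possible image of `b` under an element fixing `prev` and commuting with the map. -/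
def cand (cols : List ℕ) (p : ℕ) (prev : List ℕ) (b x : ℕ) : Bool :=
  (mP.q x == mP.q b) &&
    ((List.range p).all fun k => mP.bq (powC cols k x) x == mP.bq (powC cols k b) b) &&
    (prev.all fun w => (List.range p).all fun k => mP.bq (powC cols k w) x == mP.bq (powC cols k w) b)

/-- The product of the numbers of possible images. -/
def frameBound (cols : List ℕ) (p : ℕ) : List ℕ → List ℕ → ℕ
  | _, [] => 1
  | prev, b :: bs => ((List.range 256).filter (cand cols p prev b)).length * frameBound cols p (b :: prev) bs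

/-- The certificate data. -/
structure Data {ι : Type} [Fintype ι] [DecidableEq ι] {QW : (ι → ZMod 2) → ZMod 2}
    (M : H1Orth.Model QW) where
  p : ℕ
  hp : p.Prime
  hp2 : p ≠ 2
  a : Cen
  aTab : List ℕ
  a_tab : IsTab (a : Co0) aTab
  a_pow : a ^ p = 1
  a_ne : a ≠ 1
  aCols : List ℕ
  aCols_ok : colsOk mP aCols = true
  aCols_eq : ∀ j : Fin 8,
    kapF (tabApply aTab ((liftU j : leechLattice) : GolayPt → ℤ)) = H1Orth.toV finSumFinEquiv (aCols.getD j 0)
  frames : List ℕ
  frames_lt : ∀ b ∈ frames, b < 256
  frames_span : ∀ j : Fin 8, (H1Orth.Model.span (frames.flatMap fun b =>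
    (List.range (p - 1)).map fun k => powC aCols k b)).contains (2 ^ j.val) = true
  c0 : ℕ
  frame_le : frameBound aCols p [] frames ≤ p * c0
  basis : List ℕ
  basis_lt : ∀ e ∈ basis, e < 2 ^ M.n
  stages : M.stages [] basis = true
  low : 2 * c0 ≤ lowCount M [] basis
  r : ℕ
  r_root : M.isRoot r = true
  link : M.link r = true
  B : Fin M.n → Mel
  B_ok : ∀ j, ∃ (i : Fin 16) (l : Fin 64), B j = kel i l
  B_comm : ∀ j, conjChk aTab (B j) (B j) = true
  dual : Fin M.n → Fin M.n
  B_coord : ∀ j, cmask B dual (B j) = 2 ^ j.val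
  kdata : ∀ (i : Fin 16) (j : Fin 64), conjChk aTab (kel i j) (kel i j) = true →
    (sqChk (kel i j) || mulChk (kel i j) (kel i j) wM) = true ∧
      M.q (cmask B dual (kel i j)) = !sqChk (kel i j)
  kcount : (Finset.univ.filter fun x : Fin 16 × Fin 64 =>
    conjChk aTab (kel x.1 x.2) (kel x.1 x.2) = true).card ≤ 4 * 2 ^ M.n
  four : ∀ m ∈ [negM, epsM, wM], conjChk aTab m m = true ∧ cmask B dual m = 0
  ng : ℕ
  gel : Fin ng → Cen
  gel_comm : ∀ g, gel g * a = a * gel g
  gTab : Fin ng → List ℕ
  g_tab : ∀ g, IsTab ((gel g : Cen) : Co0) (gTab g)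
  gconj : Fin ng → Fin M.n → Mel
  g_chk : ∀ g j, conjChk (gTab g) (B j) (gconj g j) = true
  gCols : List (List ℕ)
  gCols_len : gCols.length = ng
  gCols_ok : ∀ c ∈ gCols, colsOk M c = true
  gCols_eq : ∀ (g : Fin ng) (j : Fin M.n), (gCols.getD g []).getD j 0 = cmask B dual (gconj g j)
  words : List (ℕ × List ℕ)
  words_lt : ∀ e ∈ words, ∀ i ∈ e.2, i < ng
  words_cover : ∀ v : Fin (2 ^ M.n), M.isRoot v.val = true → v.val ∈ words.map Prod.fst
  words_ok : ∀ e ∈ words, ∀ k : Fin M.n, evC gCols e.2 (2 ^ k.val) = M.evn [r, e.1] (2 ^ k.val)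
  irrK : ℕ
  irr : irrChk M gCols irrK = true
  g1 : Co0
  g1_comm : g1 * (a : Co0) = (a : Co0) * g1
  ki : Fin 16
  kj : Fin 64
  k0_comm : conjChk aTab (kel ki kj) (kel ki kj) = true
  g1_conj : g1 * eps * g1⁻¹ = (kel ki kj).el
  k0_ne : cmask B dual (kel ki kj) ≠ 0
  us : List Co0
  us_comm : ∀ u ∈ us, u * (a : Co0) = (a : Co0) * u
  ti : Fin ng
  t_mem : ((gel ti : Cen) : Co0) = (us.map fun u => u * eps * u⁻¹).prod
  t_move : Fin M.n
  t_ne : evC gCols [ti.val] (2 ^ t_move.val) ≠ 2 ^ t_move.val
  tgen : Fin ng → List (List ℕ × List ℕ)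
  tgen_lt : ∀ g, ∀ e ∈ tgen g, (∀ i ∈ e.1, i < ng) ∧ ∀ i ∈ e.2, i < ng
  tgen_inv : ∀ g, ∀ e ∈ tgen g, ∀ k : Fin M.n, evC gCols (e.1 ++ e.2) (2 ^ k.val) = 2 ^ k.val
  tgen_ok : ∀ (g : Fin ng) (k : Fin M.n),
    evC gCols ((tgen g).flatMap fun e => e.1 ++ ti.val :: e.2) (2 ^ k.val) =
      evC gCols [g.val] (2 ^ k.val)

end Cfsg.Agent.LeechOctadSectionCore46
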