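import Cfsg.Agent.Lib.LeechOctadSectionCore46
import Cfsg.Agent.Lib.LargeExtraspecialSimple46
import Cfsg.Agent.Lib.SymplecticType

/-!
From the numerical certificates: a simple section of the automorphism group of the rank-24 lattice
with an involution centraliser of large extraspecial type.
-/

set_option autoImplicit false
set_option linter.style.haveILetI false

open scoped Pointwise commutatorElement

namespace Cfsg.Agent.LeechOctadSectionGroup46

open Cfsg Cfsg.Agent.GolayBasic Cfsg.Agent.LeechBasic Cfsg.Agent.LeechAut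
open Cfsg.Agent.LeechStab Cfsg.Agent.LeechOctadLattice46 Cfsg.Agent.LeechOctadImage46
open Cfsg.Agent.LeechOctadQuot46 (negC epsC θ_negC eps_ne eps_sq not_anti)
open Cfsg.Agent.LeechOctadSectionTables46 Cfsg.Agent.LeechOctadSectionCore46

/-! ### Four central elements -/

/-- The sign change off the octad. -/
def wC : Cen := negC * epsC

theorem coe_wC : ((wC : Cen) : Co0) = wM.el := by rw [wM_el]; rfl

theorem negC_central (g : Cen) : g * negC = negC * g :=
  Subtype.ext (Subgroup.mem_center_iff.1 negAut_mem_center (g : Co0))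

theorem epsC_central (g : Cen) : g * epsC = epsC * g := Subtype.ext (mem_Cen.1 g.2)

theorem wC_central (g : Cen) : g * wC = wC * g := by
  rw [wC, ← mul_assoc, negC_central, mul_assoc, epsC_central, ← mul_assoc]

theorem wC_sq : wC * wC = 1 := by
  refine Subtype.ext ?_
  rw [Subgroup.coe_mul, coe_wC, OneMemClass.coe_one]
  exact (el_sq_iff _).2 (by decide +kernel)

theorem negC_sq : negC * negC = 1 := by
  refine Subtype.ext ?_
  show negAut * negAut = 1
  rw [← negM_el]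
  exact (el_sq_iff _).2 (by decide +kernel)

theorem four_ne : negC ≠ 1 ∧ epsC ≠ 1 ∧ wC ≠ 1 ∧ epsC ≠ negC ∧ wC ≠ negC ∧ wC ≠ epsC := by
  have h1 : negC ≠ 1 := fun e => by
    have := congrArg (fun g : Cen => (((g : Co0) • frame none : leechLattice) : GolayPt → ℤ) none) e
    simp only [negC, negAut_smul, OneMemClass.coe_one, one_smul, AddSubgroup.coe_neg, Pi.neg_apply,
      frame, unitVec] at this
    norm_num at this
  have h2 : epsC ≠ 1 := fun e => eps_ne.1 (congrArg Subtype.val e)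
  have h3 : epsC ≠ negC := fun e => eps_ne.2 (congrArg Subtype.val e)
  refine ⟨h1, h2, fun e => h3 ?_, h3, fun e => h2 ?_, fun e => h1 ?_⟩
  · rw [wC, mul_eq_one_iff_eq_inv] at e
    rw [e, eq_inv_iff_mul_eq_one]
    exact Subtype.ext eps_sq
  · rwa [wC, mul_eq_left] at e
  · rwa [wC, mul_eq_right] at e

theorem θ_epsC : θ epsC = 1 := LeechOctadQuot46.ψ_mem_Q.1 LeechOctadQuot46.zC_mem_Q

/-- Squares in a normal subgroup give commutators in it. -/
theorem comm_mem_of_sq {G : Type*} [Group G] {N : Subgroup G} (hN : N.Normal)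
    (hsq : ∀ g : G, g ^ 2 ∈ N) (g h : G) : ⁅g, h⁆ ∈ N := by
  rw [show ⁅g, h⁆ = (g * h) ^ 2 * (h⁻¹ * (g ^ 2)⁻¹ * h) * (h ^ 2)⁻¹ by
    rw [commutatorElement_def]; simp only [pow_two]; group]
  exact mul_mem (mul_mem (hsq _) (hN.conj_mem' _ (inv_mem (hsq g)) h)) (inv_mem (hsq h))

section

variable {ι : Type} [Fintype ι] [DecidableEq ι] {QW : (ι → ZMod 2) → ZMod 2}
  {M : H1Orth.Model QW} (D : Data M)

/-- The centraliser of the automorphism of odd order. -/
def H : Subgroup Cen := Subgroup.centralizer {D.a}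

/-- Its part in the kernel. -/
noncomputable def K : Subgroup Cen := θ.ker ⊓ H D

theorem K_le : K D ≤ H D := inf_le_right

theorem mem_H {g : Cen} : g ∈ H D ↔ g * D.a = D.a * g := Subgroup.mem_centralizer_singleton_iff

theorem conjChk_iff (m : Mel) {g : Cen} (hg : (g : Co0) = m.el) :
    conjChk D.aTab m m = true ↔ g ∈ H D := by
  rw [mem_H, ← Subtype.coe_inj, Subgroup.coe_mul, Subgroup.coe_mul, hg]
  exact ⟨fun h => (mul_eq_of_conjChk D.a_tab h).symm, fun h => conjChk_of_mul_eq D.a_tab h.symm⟩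

theorem exists_kel {g : Cen} (hg : g ∈ K D) : ∃ (i : Fin 16) (j : Fin 64),
    conjChk D.aTab (kel i j) (kel i j) = true ∧ (g : Co0) = (kel i j).el := by
  obtain ⟨x, hx⟩ := kerEl_surjective ⟨g, hg.1⟩
  have e : (g : Co0) = (kel x.1 x.2).el := (congrArg (fun k : θ.ker => ((k : Cen) : Co0)) hx).symm
  exact ⟨x.1, x.2, (conjChk_iff D _ e).2 hg.2, e⟩

theorem exists_mem_K {i : Fin 16} {j : Fin 64} (h : conjChk D.aTab (kel i j) (kel i j) = true) :
    ∃ g ∈ K D, (g : Co0) = (kel i j).el :=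
  ⟨(kerEl (i, j) : Cen), ⟨(kerEl (i, j)).2, (conjChk_iff D (kel i j) rfl).1 h⟩, rfl⟩

theorem exists_B (j : Fin M.n) : ∃ g ∈ K D, (g : Co0) = (D.B j).el := by
  obtain ⟨i, l, e⟩ := D.B_ok j
  have := D.B_comm j
  rw [e] at this ⊢
  exact exists_mem_K D this

/-- The basic elements. -/
noncomputable def bC (j : Fin M.n) : Cen := (exists_B D j).choose

theorem bC_mem (j : Fin M.n) : bC D j ∈ K D := (exists_B D j).choose_spec.1

theorem coe_bC (j : Fin M.n) : (bC D j : Co0) = (D.B j).el := (exists_B D j).choose_spec.2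

open Classical in
/-- The coordinates: commutation with the dual elements. -/
noncomputable def κ (g : Cen) : ι → ZMod 2 :=
  fun i => if g * bC D (D.dual (M.e i)) = bC D (D.dual (M.e i)) * g then 0 else 1

theorem cmask_lt (m : Mel) : cmask D.B D.dual m < 2 ^ M.n := Nat.ofBits_lt_two_pow _

theorem κ_el (m : Mel) {g : Cen} (hg : (g : Co0) = m.el) :
    κ D g = H1Orth.toV M.e (cmask D.B D.dual m) := by
  funext i
  have key : g * bC D (D.dual (M.e i)) = bC D (D.dual (M.e i)) * g ↔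
      commChk m (D.B (D.dual (M.e i))) = true := by
    rw [← Subtype.coe_inj, Subgroup.coe_mul, Subgroup.coe_mul, hg, coe_bC]
    exact el_comm_iff _ _
  simp only [κ, H1Orth.toV, cmask, key, Nat.testBit_ofBits_lt _ _ (M.e i).2, Fin.eta]
  cases commChk m (D.B (D.dual (M.e i))) <;> simp

theorem κ_bC (j : Fin M.n) : κ D (bC D j) = H1Orth.toV M.e (2 ^ j.val) := by
  rw [κ_el D _ (coe_bC D j), D.B_coord]

theorem sq_and_form {g : Cen} (hg : g ∈ K D) :
    (g * g = 1 ∨ g * g = wC) ∧ (QW (κ D g) = 0 ↔ g * g = 1) := by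
  obtain ⟨i, j, hc, e⟩ := exists_kel D hg
  obtain ⟨h1, h2⟩ := D.kdata i j hc
  have hsq : g * g = 1 ↔ sqChk (kel i j) = true := by
    rw [← Subtype.coe_inj, Subgroup.coe_mul, e, OneMemClass.coe_one]
    exact el_sq_iff _
  refine ⟨?_, ?_⟩
  · rcases Bool.or_eq_true _ _ ▸ h1 with h | h
    · exact Or.inl (hsq.2 h)
    · exact Or.inr (Subtype.ext (by rw [Subgroup.coe_mul, e, coe_wC]; exact el_mul_eq h))
  · rw [κ_el D _ e, M.hq ⟨_, cmask_lt D _⟩, h2, hsq]
    cases sqChk (kel i j) <;> simp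

theorem comm_K {g h : Cen} (hg : g ∈ K D) (hh : h ∈ K D) :
    g * h = h * g ∨ g * h = wC * (h * g) := by
  obtain ⟨c, hc, ec⟩ : ∃ c, (c = 1 ∨ c = wC) ∧ g * h * (g * h) = c :=
    ⟨_, (sq_and_form D (mul_mem hg hh)).1, rfl⟩
  obtain ⟨c₁, hc₁, ec₁⟩ : ∃ c, (c = 1 ∨ c = wC) ∧ g * g = c := ⟨_, (sq_and_form D hg).1, rfl⟩
  obtain ⟨c₂, hc₂, ec₂⟩ : ∃ c, (c = 1 ∨ c = wC) ∧ h * h = c := ⟨_, (sq_and_form D hh).1, rfl⟩
  have hcen : ∀ c : Cen, c = 1 ∨ c = wC → (∀ x, x * c = c * x) ∧ c * c = 1 := by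
    rintro c (rfl | rfl)
    · exact ⟨fun x => by rw [mul_one, one_mul], one_mul 1⟩
    · exact ⟨wC_central, wC_sq⟩
  have key : g * h = c * c₁ * c₂ * (h * g) := by
    have e1 : g * h = c * (g * h)⁻¹ := by rw [← ec, mul_inv_cancel_right]
    have eg : g⁻¹ = c₁ * g := by
      rw [inv_eq_iff_mul_eq_one, ← mul_assoc, (hcen _ hc₁).1, mul_assoc, ec₁, (hcen _ hc₁).2]
    have eh : h⁻¹ = c₂ * h := by
      rw [inv_eq_iff_mul_eq_one, ← mul_assoc, (hcen _ hc₂).1, mul_assoc, ec₂, (hcen _ hc₂).2]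
    rw [e1, mul_inv_rev, eg, eh]
    calc c * (c₂ * h * (c₁ * g)) = c * (c₂ * (h * c₁) * g) := by group
      _ = c * (c₂ * (c₁ * h) * g) := by rw [(hcen _ hc₁).1]
      _ = c * (c₂ * c₁ * (h * g)) := by group
      _ = c * (c₁ * c₂ * (h * g)) := by rw [(hcen _ hc₁).1 c₂]
      _ = _ := by group
  rw [key]
  rcases hc with rfl | rfl <;> rcases hc₁ with h1 | h1 <;> rcases hc₂ with h2 | h2 <;>
    rw [h1, h2] <;> simp [wC_sq, ← mul_assoc]

theorem κ_mul {g h : Cen} (hg : g ∈ K D) (hh : h ∈ K D) : κ D (g * h) = κ D g + κ D h := by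
  classical
  funext i
  simp only [κ, Pi.add_apply]
  set b := bC D (D.dual (M.e i)) with hb
  have hbK : b ∈ K D := bC_mem D _
  have e : ∀ c₁ c₂ : Cen, (∀ x, x * c₂ = c₂ * x) → g * b = c₁ * (b * g) → h * b = c₂ * (b * h) →
      g * h * b = c₂ * c₁ * (b * (g * h)) := by
    intro c₁ c₂ hc₂ e1 e2
    calc g * h * b = g * (h * b) := mul_assoc _ _ _
      _ = g * (c₂ * (b * h)) := by rw [e2]
      _ = (g * c₂) * b * h := by group
      _ = c₂ * g * b * h := by rw [hc₂]
      _ = c₂ * (g * b) * h := by group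
      _ = _ := by rw [e1]; group
  have h1ne : ∀ x : Cen, wC * x ≠ x := fun x hx => four_ne.2.2.1 (by rwa [mul_eq_right] at hx)
  have hone : ∀ x : Cen, x * (1 : Cen) = 1 * x := fun x => by rw [mul_one, one_mul]
  rcases comm_K D hg hbK with e1 | e1 <;> rcases comm_K D hh hbK with e2 | e2
  · rw [if_pos (by simpa using e 1 1 hone (by rwa [one_mul]) (by rwa [one_mul])), if_pos e1,
      if_pos e2, add_zero]
  · have := e 1 wC wC_central (by rwa [one_mul]) e2
    rw [mul_one] at this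
    rw [if_neg (by rw [this]; exact h1ne _), if_pos e1, if_neg (by rw [e2]; exact h1ne _), zero_add]
  · have := e wC 1 hone e1 (by rwa [one_mul])
    rw [one_mul] at this
    rw [if_neg (by rw [this]; exact h1ne _), if_pos e2, if_neg (by rw [e1]; exact h1ne _), add_zero]
  · have := e wC wC wC_central e1 e2
    rw [wC_sq, one_mul] at this
    rw [if_pos this, if_neg (by rw [e1]; exact h1ne _), if_neg (by rw [e2]; exact h1ne _)]
    rfl

theorem κ_one : κ D 1 = 0 := by
  funext i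
  simp [κ]

/-- The coordinates as a homomorphism. -/
noncomputable def κH : K D →* Multiplicative (ι → ZMod 2) where
  toFun g := Multiplicative.ofAdd (κ D g)
  map_one' := by rw [OneMemClass.coe_one, κ_one]; rfl
  map_mul' g h := by rw [Subgroup.coe_mul, κ_mul D g.2 h.2]; rfl

theorem negC_mem : negC ∈ K D :=
  ⟨θ_negC, (mem_H D).2 (negC_central _).symm⟩

theorem epsC_mem : epsC ∈ K D :=
  ⟨θ_epsC, (mem_H D).2 (epsC_central _).symm⟩

theorem wC_mem : wC ∈ K D := mul_mem (negC_mem D) (epsC_mem D)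

theorem κ_four : κ D negC = 0 ∧ κ D epsC = 0 ∧ κ D wC = 0 := by
  refine ⟨?_, ?_, ?_⟩
  · rw [κ_el D negM negM_el.symm, (D.four negM (by simp)).2, H1Orth.toV_zero]
  · rw [κ_el D epsM epsM_el.symm, (D.four epsM (by simp)).2, H1Orth.toV_zero]
  · rw [κ_el D wM coe_wC, (D.four wM (by simp)).2, H1Orth.toV_zero]

theorem κ_surj (v : ι → ZMod 2) : ∃ g ∈ K D, κ D g = v := by
  let W : AddSubgroup (ι → ZMod 2) :=
    { carrier := {u | ∃ g ∈ K D, κ D g = u}
      zero_mem' := ⟨1, one_mem _, κ_one D⟩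
      add_mem' := by
        rintro _ _ ⟨g, hg, rfl⟩ ⟨h, hh, rfl⟩
        exact ⟨g * h, mul_mem hg hh, κ_mul D hg hh⟩
      neg_mem' := by
        rintro u ⟨g, hg, rfl⟩
        exact ⟨g, hg, (neg_eq_iff_add_eq_zero.2 (H1Orth.vadd_self _)).symm⟩ }
  show v ∈ W
  rw [← Finset.univ_sum_single v]
  refine W.sum_mem fun i _ => ?_
  rcases LeechFrame.z2 (v i) with e | e <;> rw [e]
  · rw [Pi.single_zero]; exact W.zero_mem
  · exact ⟨bC D (M.e i), bC_mem D _, by rw [κ_bC, H1Orth.toV_single]⟩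

theorem κH_surjective : Function.Surjective (κH D) := by
  intro v
  obtain ⟨g, hg, e⟩ := κ_surj D v.toAdd
  exact ⟨⟨g, hg⟩, congrArg Multiplicative.ofAdd e⟩

theorem card_space : Nat.card (Multiplicative (ι → ZMod 2)) = 2 ^ M.n := by
  rw [Nat.card_congr Multiplicative.toAdd, Nat.card_eq_fintype_card, Fintype.card_pi,
    Finset.prod_const, ZMod.card, Finset.card_univ, Fintype.card_congr M.e, Fintype.card_fin]

theorem card_K_le : Nat.card (K D) ≤ 4 * 2 ^ M.n := by
  classical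
  choose fi fj hf using fun g : K D => exists_kel D g.2
  refine le_trans ?_ D.kcount
  let F : K D → {x : Fin 16 × Fin 64 //
      x ∈ Finset.univ.filter fun x : Fin 16 × Fin 64 =>
        conjChk D.aTab (kel x.1 x.2) (kel x.1 x.2) = true} :=
    fun g => ⟨(fi g, fj g), Finset.mem_filter.2 ⟨Finset.mem_univ _, (hf g).1⟩⟩
  have hF : Function.Injective F := by
    intro g h e
    have e' : (fi g, fj g) = (fi h, fj h) := congrArg Subtype.val e
    simp only [Prod.mk.injEq] at e'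
    exact Subtype.ext (Subtype.ext (by rw [(hf g).2, (hf h).2, e'.1, e'.2]))
  refine (Nat.card_le_card_of_injective F hF).trans (le_of_eq ?_)
  rw [Nat.card_eq_fintype_card, Fintype.card_coe]

theorem κ_zero_iff {g : Cen} (hg : g ∈ K D) :
    κ D g = 0 ↔ g = 1 ∨ g = negC ∨ g = epsC ∨ g = wC := by
  refine ⟨fun h => ?_, ?_⟩
  swap
  · rintro (rfl | rfl | rfl | rfl)
    exacts [κ_one D, (κ_four D).1, (κ_four D).2.1, (κ_four D).2.2]
  haveI := LeechOrder.finite_Co0
  have hcard : Nat.card (κH D).ker ≤ 4 := by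
    have h1 := Subgroup.card_eq_card_quotient_mul_card_subgroup (κH D).ker
    rw [Nat.card_congr (QuotientGroup.quotientKerEquivOfSurjective _ (κH_surjective D)).toEquiv,
      card_space] at h1
    have h2 := card_K_le D
    rw [h1, mul_comm 4] at h2
    exact Nat.le_of_mul_le_mul_left h2 (Nat.two_pow_pos _)
  set X : Set Cen := {x | x ∈ K D ∧ κ D x = 0} with hX
  have hXc : X.ncard ≤ 4 := by
    refine le_trans (le_of_eq ?_) hcard
    rw [← Nat.card_coe_set_eq]
    exact Nat.card_congr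
      { toFun := fun x => ⟨⟨x.1, x.2.1⟩, congrArg Multiplicative.ofAdd x.2.2⟩
        invFun := fun x => ⟨x.1.1, x.1.2, congrArg Multiplicative.toAdd x.2⟩
        left_inv := fun _ => rfl
        right_inv := fun _ => rfl }
  have hsub : ({1, negC, epsC, wC} : Set Cen) ⊆ X := by
    rintro x (rfl | rfl | rfl | rfl)
    exacts [⟨one_mem _, κ_one D⟩, ⟨negC_mem D, (κ_four D).1⟩, ⟨epsC_mem D, (κ_four D).2.1⟩,
      ⟨wC_mem D, (κ_four D).2.2⟩]
  obtain ⟨n1, n2, n3, n4, n5, n6⟩ := four_ne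
  have h4 : ({1, negC, epsC, wC} : Set Cen).ncard = 4 := by
    rw [Set.ncard_insert_of_notMem (by simp [n1.symm, n2.symm, n3.symm]) (Set.toFinite _),
      Set.ncard_insert_of_notMem (by simp [n4.symm, n5.symm]) (Set.toFinite _),
      Set.ncard_pair n6.symm]
  have := Set.eq_of_subset_of_ncard_le hsub (h4 ▸ hXc) (Set.toFinite _)
  have hm : g ∈ X := ⟨hg, h⟩
  rw [← this] at hm
  simpa using hm

theorem four_central {f : Cen} (hf : f = 1 ∨ f = negC ∨ f = epsC ∨ f = wC) (g : Cen) :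
    g * f = f * g := by
  rcases hf with rfl | rfl | rfl | rfl
  exacts [by rw [mul_one, one_mul], negC_central g, epsC_central g, wC_central g]

theorem card_K : Nat.card (K D) = 4 * 2 ^ M.n := by
  haveI := LeechOrder.finite_Co0
  refine le_antisymm (card_K_le D) ?_
  have h1 := Subgroup.card_eq_card_quotient_mul_card_subgroup (κH D).ker
  rw [Nat.card_congr (QuotientGroup.quotientKerEquivOfSurjective _ (κH_surjective D)).toEquiv,
    card_space] at h1
  have h4 : 4 ≤ Nat.card (κH D).ker := by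
    obtain ⟨n1, n2, n3, n4, n5, n6⟩ := four_ne
    let f : Fin 4 → (κH D).ker := ![1,
      ⟨⟨negC, negC_mem D⟩, congrArg Multiplicative.ofAdd (κ_four D).1⟩,
      ⟨⟨epsC, epsC_mem D⟩, congrArg Multiplicative.ofAdd (κ_four D).2.1⟩,
      ⟨⟨wC, wC_mem D⟩, congrArg Multiplicative.ofAdd (κ_four D).2.2⟩]
    have hf : Function.Injective f := by
      intro x y e
      have e' := congrArg (fun z : (κH D).ker => ((z : K D) : Cen)) e
      fin_cases x <;> fin_cases y <;>
        simp [f, n1, n2, n3, n4, n5, n6, n1.symm, n2.symm, n3.symm, n4.symm, n5.symm, n6.symm]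
          at e' ⊢
    simpa using Nat.card_le_card_of_injective f hf
  rw [h1, mul_comm 4]
  exact Nat.mul_le_mul_left _ h4

theorem conj_mem {h k : Cen} (hh : h ∈ H D) (hk : k ∈ K D) : h * k * h⁻¹ ∈ K D :=
  ⟨(inferInstance : θ.ker.Normal).conj_mem k hk.1 h, (H D).mul_mem ((H D).mul_mem hh hk.2) ((H D).inv_mem hh)⟩

theorem κ_conj_congr {h k l : Cen} (hh : h ∈ H D) (hk : k ∈ K D) (hl : l ∈ K D)
    (e : κ D k = κ D l) : κ D (h * k * h⁻¹) = κ D (h * l * h⁻¹) := by
  have hf : l⁻¹ * k ∈ K D := mul_mem (inv_mem hl) hk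
  have e0 : κ D (l⁻¹ * k) = 0 := by
    have := κ_mul D hl hf
    rw [mul_inv_cancel_left, e] at this
    simpa using this
  have hc := four_central ((κ_zero_iff D hf).1 e0)
  have : h * k * h⁻¹ = h * l * h⁻¹ * (l⁻¹ * k) := by
    calc h * k * h⁻¹ = h * l * ((l⁻¹ * k) * h⁻¹) := by group
      _ = h * l * (h⁻¹ * (l⁻¹ * k)) := by rw [hc h⁻¹]
      _ = _ := by group
  rw [this, κ_mul D (conj_mem D hh hl) hf, e0, add_zero]

/-- A lift of coordinates. -/
noncomputable def liftK (v : ι → ZMod 2) : Cen := (κ_surj D v).choose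

theorem liftK_mem (v : ι → ZMod 2) : liftK D v ∈ K D := (κ_surj D v).choose_spec.1

theorem κ_liftK (v : ι → ZMod 2) : κ D (liftK D v) = v := (κ_surj D v).choose_spec.2

/-- The induced map. -/
noncomputable def hAdd (h : H D) : (ι → ZMod 2) →+ (ι → ZMod 2) :=
  AddMonoidHom.mk' (fun v => κ D (h * liftK D v * (h : Cen)⁻¹)) fun a b => by
    rw [← κ_mul D (conj_mem D h.2 (liftK_mem D a)) (conj_mem D h.2 (liftK_mem D b))]
    refine Eq.trans (κ_conj_congr D h.2 (liftK_mem D _) (mul_mem (liftK_mem D a) (liftK_mem D b))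
      (by rw [κ_liftK, κ_mul D (liftK_mem D a) (liftK_mem D b), κ_liftK, κ_liftK])) ?_
    congr 1
    group

theorem hAdd_κ (h : H D) {k : Cen} (hk : k ∈ K D) :
    hAdd D h (κ D k) = κ D (h * k * (h : Cen)⁻¹) :=
  κ_conj_congr D h.2 (liftK_mem D _) hk (κ_liftK D _)

/-- The induced matrices. -/
noncomputable def hMat : H D →* Matrix ι ι (ZMod 2) where
  toFun h := LinearMap.toMatrix' ((hAdd D h).toZModLinearMap 2)
  map_one' := by
    refine Matrix.ext_iff_mulVec.2 fun v => ?_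
    obtain ⟨k, hk, rfl⟩ := κ_surj D v
    rw [← Matrix.toLin'_apply, Matrix.toLin'_toMatrix', Matrix.one_mulVec]
    show hAdd D 1 (κ D k) = _
    rw [hAdd_κ D 1 hk]
    simp
  map_mul' g h := by
    refine Matrix.ext_iff_mulVec.2 fun v => ?_
    obtain ⟨k, hk, rfl⟩ := κ_surj D v
    rw [← Matrix.mulVec_mulVec, ← Matrix.toLin'_apply, Matrix.toLin'_toMatrix',
      ← Matrix.toLin'_apply, Matrix.toLin'_toMatrix', ← Matrix.toLin'_apply, Matrix.toLin'_toMatrix']
    show hAdd D (g * h) (κ D k) = hAdd D g (hAdd D h (κ D k))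
    rw [hAdd_κ D _ hk, hAdd_κ D _ hk, hAdd_κ D _ (conj_mem D h.2 hk)]
    congr 1

/-- The action on the quotient as isometries. -/
noncomputable def ρ : H D →* H1Orth.IG QW :=
  (hMat D).toHomUnits.codRestrict (Cfsg.isometryGroup (ZMod 2) QW) (fun h => by
    intro v w
    show QW (Matrix.mulVec (hMat D h) v) = QW v
    obtain ⟨k, hk, rfl⟩ := κ_surj D v
    have e : Matrix.mulVec (hMat D h) (κ D k) = κ D (h * k * (h : Cen)⁻¹) := by
      show Matrix.mulVec (LinearMap.toMatrix' ((hAdd D h).toZModLinearMap 2)) (κ D k) = _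
      rw [← Matrix.toLin'_apply, Matrix.toLin'_toMatrix']
      exact hAdd_κ D h hk
    rw [e]
    have h1 := (sq_and_form D hk).2
    have h2 := (sq_and_form D (conj_mem D h.2 hk)).2
    rw [conj_mul, conj_eq_one_iff, ← h1] at h2
    rcases LeechFrame.z2 (QW (κ D k)) with e0 | e0
    · rw [e0, h2.2 e0]
    · rcases LeechFrame.z2 (QW (κ D (h * k * (h : Cen)⁻¹))) with e1 | e1
      · exact absurd (h2.1 e1) (by rw [e0]; decide)
      · rw [e0, e1])

theorem act_ρ (h : H D) {k : Cen} (hk : k ∈ K D) :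
    H1Orth.act (ρ D h) (κ D k) = κ D (h * k * (h : Cen)⁻¹) := by
  show Matrix.mulVec (LinearMap.toMatrix' ((hAdd D h).toZModLinearMap 2)) (κ D k) = _
  rw [← Matrix.toLin'_apply, Matrix.toLin'_toMatrix']
  exact hAdd_κ D h hk

theorem ρ_eq_one {h : H D} :
    ρ D h = 1 ↔ ∀ k ∈ K D, κ D (h * k * (h : Cen)⁻¹) = κ D k := by
  constructor
  · intro e k hk
    rw [← act_ρ D h hk, e, H1Orth.act_one]
  · intro H'
    refine H1Orth.act_ext _ _ fun i => ?_
    obtain ⟨k, hk, e⟩ := κ_surj D (Pi.single i 1)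
    rw [← e, act_ρ D h hk, H' k hk, H1Orth.act_one]

/-! ### Orders -/

theorem orderOf_a : orderOf D.a = D.p := orderOf_eq_prime (hp := ⟨D.hp⟩) D.a_pow D.a_ne

theorem pow_four {k : Cen} (hk : k ∈ K D) : k ^ 4 = 1 := by
  rw [pow_succ, pow_succ, pow_succ, pow_one, mul_assoc]
  rcases (sq_and_form D hk).1 with e | e <;> simp [e, wC_sq]

theorem zpow_a_mem {i : ℤ} (h : D.a ^ i ∈ K D) : D.a ^ i = 1 := by
  have h4 := pow_four D h
  rw [← zpow_natCast, ← zpow_mul, ← orderOf_dvd_iff_zpow_eq_one, orderOf_a] at h4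
  rw [← orderOf_dvd_iff_zpow_eq_one, orderOf_a]
  rcases Int.Prime.dvd_mul' D.hp h4 with h' | h'
  · exact h'
  · exfalso
    have h'' : D.p ∣ 2 ^ 2 := by exact_mod_cast h'
    exact D.hp2 ((Nat.prime_dvd_prime_iff_eq D.hp Nat.prime_two).1 (D.hp.dvd_of_dvd_pow h''))

/-- The automorphism in its centraliser. -/
def aH : H D := ⟨D.a, (mem_H D).2 rfl⟩

theorem ρ_aH : ρ D (aH D) = 1 := by
  refine (ρ_eq_one D).2 fun k hk => ?_
  show κ D (D.a * k * D.a⁻¹) = _
  rw [← (mem_H D).1 hk.2, mul_inv_cancel_right]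

theorem ρ_K {h : H D} (hh : (h : Cen) ∈ K D) : ρ D h = 1 := by
  refine (ρ_eq_one D).2 fun k hk => ?_
  rcases comm_K D hh hk with e | e
  · rw [e, mul_inv_cancel_right]
  · rw [e, mul_assoc, mul_inv_cancel_right, κ_mul D (wC_mem D) hk, (κ_four D).2.2, zero_add]

theorem kerInj : ∃ F : Fin D.p × K D → (ρ D).ker, Function.Injective F ∧
    ∀ x, (((F x : H D)) : Cen) = D.a ^ (x.1 : ℕ) * x.2 := by
  refine ⟨fun x => ⟨aH D ^ (x.1 : ℕ) * ⟨x.2, x.2.2.2⟩, by
    rw [MonoidHom.mem_ker, map_mul, map_pow, ρ_aH, one_pow, one_mul]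
    exact ρ_K D (h := ⟨x.2, x.2.2.2⟩) x.2.2⟩, ?_, fun x => rfl⟩
  rintro ⟨i, k⟩ ⟨i', k'⟩ e
  have e' : D.a ^ (i : ℕ) * (k : Cen) = D.a ^ (i' : ℕ) * k' :=
    congrArg (fun z : (ρ D).ker => ((z : H D) : Cen)) e
  have h1 : D.a ^ ((i : ℤ) - i') = (k' : Cen) * (k : Cen)⁻¹ := by
    rw [zpow_sub, zpow_natCast, zpow_natCast, eq_mul_inv_iff_mul_eq]
    have hc : (D.a ^ (i' : ℕ))⁻¹ * D.a ^ (i : ℕ) = D.a ^ (i : ℕ) * (D.a ^ (i' : ℕ))⁻¹ :=
      ((Commute.refl D.a).pow_pow i' i).inv_left.eq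
    rw [← hc, mul_assoc, e', inv_mul_cancel_left]
  have h2 := zpow_a_mem D (h1 ▸ mul_mem k'.2 (inv_mem k.2))
  rw [← orderOf_dvd_iff_zpow_eq_one, orderOf_a] at h2
  have hi : i = i' := by
    have := Int.emod_eq_emod_iff_emod_sub_eq_zero.2 (Int.emod_eq_zero_of_dvd h2)
    rw [Int.emod_eq_of_lt (by omega) (by have := i.2; omega),
      Int.emod_eq_of_lt (by omega) (by have := i'.2; omega)] at this
    exact Fin.ext (by omega)
  subst hi
  exact Prod.ext rfl (Subtype.ext (mul_left_cancel e'))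

theorem hasCols_a : HasCols mP (θ D.a) D.aCols := by
  refine hasCols_of mP D.aCols_ok fun j hj => ?_
  have h8 : j < 8 := by
    have := D.aCols_ok
    simp only [colsOk, Bool.and_eq_true, decide_eq_true_eq] at this
    have hn : mP.n = 8 := rfl
    omega
  have := D.aCols_eq ⟨j, h8⟩
  rw [← coe_smul_tab D.a_tab, ← coe_gs, ← kap_eq_kapF, ← act_θ, kap_liftU] at this
  rw [List.getD_eq_getElem _ _ hj] at this
  exact this

theorem act_powC (k : ℕ) : ∀ x < 256, powC D.aCols k x < 256 ∧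
    H1Orth.act (θ D.a ^ k) (H1Orth.toV mP.e x) = H1Orth.toV mP.e (powC D.aCols k x) := by
  induction k with
  | zero => exact fun x hx => ⟨hx, by rw [pow_zero, H1Orth.act_one]; rfl⟩
  | succ k ih =>
    intro x hx
    obtain ⟨h1, h2⟩ := ih x hx
    obtain ⟨h3, h4⟩ := hasCols_a D _ h1
    exact ⟨h3, by rw [pow_succ', H1Orth.act_mul, h2, h4]; rfl⟩

theorem frame_bound : ∀ (bs prev : List ℕ), (∀ b ∈ bs, b < 256) → (∀ b ∈ prev, b < 256) →
    Nat.card (fixM mP (Subgroup.centralizer {θ D.a}) prev) ≤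
      frameBound D.aCols D.p prev bs *
        Nat.card (fixM mP (Subgroup.centralizer {θ D.a}) (bs.reverse ++ prev))
  | [], prev, _, _ => by simp [frameBound]
  | b :: bs, prev, hb, hp => by
    have hb' := hb b List.mem_cons_self
    have ih := frame_bound bs (b :: prev) (fun x hx => hb x (List.mem_cons_of_mem _ hx))
      (fun x hx => by rcases List.mem_cons.1 hx with rfl | h; exacts [hb', hp x h])
    have hle := card_fixM_le mP (Subgroup.centralizer {θ D.a}) prev b
      ((List.range 256).filter (cand D.aCols D.p prev b)) fun g hg y hy e => by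
      have hgc : ∀ k : ℕ, g * θ D.a ^ k = θ D.a ^ k * g :=
        fun k => (Commute.pow_right (Subgroup.mem_centralizer_singleton_iff.1 hg.1) k).eq
      have hy' : y < 256 := hy
      have hpolg : ∀ u v, H1Orth.pol QF (H1Orth.act g u) (H1Orth.act g v) = H1Orth.pol QF u v :=
        fun u v => by unfold H1Orth.pol; rw [← H1Orth.act_add, H1Orth.Q_act g, H1Orth.Q_act g, H1Orth.Q_act g]
      have hbq : ∀ u v u' v' : ℕ, u < 256 → v < 256 → u' < 256 → v' < 256 →
          H1Orth.pol QF (H1Orth.toV mP.e u) (H1Orth.toV mP.e v) =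
            H1Orth.pol QF (H1Orth.toV mP.e u') (H1Orth.toV mP.e v') → mP.bq u v = mP.bq u' v' := by
        intro u v u' v' hu hv hu' hv' h
        rw [mP.pol_toV hu hv, mP.pol_toV hu' hv'] at h
        revert h; cases mP.bq u v <;> cases mP.bq u' v' <;> simp
      simp only [List.mem_filter, List.mem_range, cand, Bool.and_eq_true, beq_iff_eq,
        List.all_eq_true]
      refine ⟨hy', ⟨?_, fun k _ => ?_⟩, fun w hw k _ => ?_⟩
      · have := H1Orth.Q_act g (H1Orth.toV mP.e b)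
        rw [e, mP.hq ⟨y, hy'⟩, mP.hq ⟨b, hb'⟩] at this
        revert this; cases mP.q y <;> cases mP.q b <;> simp
      · refine hbq _ _ _ _ (act_powC D k y hy').1 hy' (act_powC D k b hb').1 hb' ?_
        rw [← (act_powC D k y hy').2, ← (act_powC D k b hb').2, ← e, ← H1Orth.act_mul, ← hgc,
          H1Orth.act_mul, hpolg]
      · refine hbq _ _ _ _ (act_powC D k w (hp w hw)).1 hy' (act_powC D k w (hp w hw)).1 hb' ?_
        rw [← (act_powC D k w (hp w hw)).2]
        rw [← hpolg (H1Orth.act (θ D.a ^ k) (H1Orth.toV mP.e w)) (H1Orth.toV mP.e b)]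
        rw [e, ← H1Orth.act_mul, hgc, H1Orth.act_mul, hg.2 w hw]
    rw [frameBound, List.reverse_cons, List.append_assoc, List.singleton_append, mul_assoc]
    exact hle.trans (Nat.mul_le_mul_left _ ih)

theorem card_cent_le : Nat.card (Subgroup.centralizer {θ D.a} : Subgroup (H1Orth.IG QF)) ≤
    D.p * D.c0 := by
  set X : Subgroup (H1Orth.IG QF) := Subgroup.centralizer {θ D.a}
  have h0 : fixM mP X [] = X := Subgroup.ext fun g => ⟨And.left, fun h => ⟨h, by simp⟩⟩
  have h1 := frame_bound D D.frames [] D.frames_lt (by simp)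
  rw [h0, List.append_nil] at h1
  have hend : fixM mP X D.frames.reverse = ⊥ := by
    refine (Subgroup.eq_bot_iff_forall _).2 fun g hg => eq_of_act mP fun j hj => ?_
    rw [H1Orth.act_one]
    refine H1Orth.Model.fix_span (M := mP) g _ (fun q hq => ?_) _
      (List.mem_of_elem_eq_true (D.frames_span ⟨j, hj⟩))
    simp only [List.mem_flatMap, List.mem_map, List.mem_range] at hq
    obtain ⟨b, hb, k, -, rfl⟩ := hq
    obtain ⟨-, e⟩ := act_powC D k b (D.frames_lt b hb)
    rw [← e, ← H1Orth.act_mul,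
      (Commute.pow_right (Subgroup.mem_centralizer_singleton_iff.1 hg.1) k).eq, H1Orth.act_mul,
      hg.2 b (List.mem_reverse.2 hb)]
  rw [hend, Subgroup.card_bot, mul_one] at h1
  exact h1.trans D.frame_le

theorem card_H_le : Nat.card (H D) ≤ D.p * D.c0 * Nat.card (K D) := by
  haveI := LeechOrder.finite_Co0
  set f : H D →* H1Orth.IG QF := θ.comp (H D).subtype
  have h1 := Subgroup.card_eq_card_quotient_mul_card_subgroup f.ker
  rw [Nat.card_congr (QuotientGroup.quotientKerEquivRange f).toEquiv] at h1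
  rw [h1]
  refine Nat.mul_le_mul (le_trans (Subgroup.card_le_of_le ?_) (card_cent_le D)) ?_
  · rintro _ ⟨h, rfl⟩
    rw [Subgroup.mem_centralizer_singleton_iff]
    show θ h * θ D.a = θ D.a * θ h
    rw [← map_mul, (mem_H D).1 h.2, map_mul]
  · refine Nat.card_le_card_of_injective (fun x : f.ker => (⟨((x : H D) : Cen), x.2, (x : H D).2⟩ : K D))
      fun x y e => Subtype.ext (Subtype.ext ?_)
    exact congrArg (fun z : K D => (z : Cen)) e

/-! ### The image -/

/-- The generators. -/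
def gH (g : Fin D.ng) : H D := ⟨D.gel g, (mem_H D).2 (D.gel_comm g)⟩

/-- Their images. -/
noncomputable def gs' (i : ℕ) : H1Orth.IG QW :=
  if h : i < D.ng then ρ D (gH D ⟨i, h⟩) else 1

theorem gs'_apply (g : Fin D.ng) : gs' D g.val = ρ D (gH D g) := by rw [gs', dif_pos g.2]

theorem hasCols_g (g : Fin D.ng) : HasCols M (ρ D (gH D g)) (D.gCols.getD g []) := by
  have hg : (g : ℕ) < D.gCols.length := by rw [D.gCols_len]; exact g.2
  have hok := D.gCols_ok _ (List.getElem_mem hg)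
  rw [← List.getD_eq_getElem _ [] hg] at hok
  refine hasCols_of M hok fun j hj => ?_
  have hjn : j < M.n := by
    simp only [colsOk, Bool.and_eq_true, decide_eq_true_eq] at hok
    omega
  set b : Fin M.n := ⟨j, hjn⟩
  have e := D.gCols_eq g b
  rw [List.getD_eq_getElem _ _ hj] at e
  rw [e, show j = b.val from rfl, ← κ_bC, act_ρ D _ (bC_mem D b), κ_el D (D.gconj g b) ?_]
  rw [Subgroup.coe_mul, Subgroup.coe_mul, Subgroup.coe_inv, coe_bC,
    show (((gH D g : H D) : Cen) : Co0) = ((D.gel g : Cen) : Co0) from rfl,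
    mul_eq_of_conjChk (D.g_tab g) (D.g_chk g b), mul_inv_cancel_right]

theorem act_word (w : List ℕ) (hw : ∀ i ∈ w, i < D.ng) {x : ℕ} (hx : x < 2 ^ M.n) :
    evC D.gCols w x < 2 ^ M.n ∧ H1Orth.act ((w.map (gs' D)).prod) (H1Orth.toV M.e x) =
      H1Orth.toV M.e (evC D.gCols w x) :=
  act_prod M (gs := gs' D) (fun i hi => by
    have hi' : i < D.ng := D.gCols_len ▸ hi
    rw [show i = (⟨i, hi'⟩ : Fin D.ng).val from rfl, gs'_apply]
    exact hasCols_g D _) w (fun i hi => D.gCols_len.symm ▸ hw i hi) x hx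

theorem word_eq {w w' : List ℕ} (hw : ∀ i ∈ w, i < D.ng) (hw' : ∀ i ∈ w', i < D.ng)
    (h : ∀ k : Fin M.n, evC D.gCols w (2 ^ k.val) = evC D.gCols w' (2 ^ k.val)) :
    (w.map (gs' D)).prod = (w'.map (gs' D)).prod := by
  refine eq_of_act M fun k hk => ?_
  have hx : 2 ^ k < 2 ^ M.n := Nat.pow_lt_pow_right (by norm_num) hk
  rw [(act_word D w hw hx).2, (act_word D w' hw' hx).2]
  exact congrArg _ (h ⟨k, hk⟩)

/-- The group generated by the images. -/
noncomputable def genImg : Subgroup (H1Orth.IG QW) :=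
  Subgroup.closure (Set.range fun g : Fin D.ng => ρ D (gH D g))

theorem genImg_le : genImg D ≤ (ρ D).range :=
  (Subgroup.closure_le _).2 (by rintro _ ⟨g, rfl⟩; exact ⟨_, rfl⟩)

theorem prod_mem_genImg (w : List ℕ) : (w.map (gs' D)).prod ∈ genImg D := by
  refine Subgroup.list_prod_mem _ fun x hx => ?_
  obtain ⟨i, -, rfl⟩ := List.mem_map.1 hx
  unfold gs'
  split_ifs with h
  · exact Subgroup.subset_closure ⟨_, rfl⟩
  · exact one_mem _

theorem pair_mem_genImg {v : ℕ} (hv : M.isRoot v = true) : M.ev [D.r, v] ∈ genImg D := by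
  have hlt : v < 2 ^ M.n := by
    simp only [H1Orth.Model.isRoot, Bool.and_eq_true, decide_eq_true_eq] at hv; exact hv.1
  obtain ⟨e, he, hev⟩ := List.mem_map.1 (D.words_cover ⟨v, hlt⟩ hv)
  obtain rfl : e.1 = v := hev
  have : M.ev [D.r, e.1] = (e.2.map (gs' D)).prod := by
    refine eq_of_act M fun k hk => ?_
    have hx : 2 ^ k < 2 ^ M.n := Nat.pow_lt_pow_right (by norm_num) hk
    rw [(M.act_ev [D.r, e.1] (by simp [H1Orth.Model.okW, D.r_root, hv]) hx).1,
      (act_word D e.2 (D.words_lt e he) hx).2, D.words_ok e he ⟨k, hk⟩]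
  rw [this]
  exact prod_mem_genImg D _

theorem evens_le_genImg : M.evens ≤ genImg D := by
  rintro _ ⟨l, hl, hl', rfl⟩
  exact M.even_mem _ D.r (fun v hv => pair_mem_genImg D hv) l hl hl'

include D in
theorem evens_eq : M.evens = Omega (ZMod 2) QW := by
  refine le_antisymm ?_ (M.omega_le D.stages)
  rintro _ ⟨l, hl, hl', rfl⟩
  exact M.even_mem _ D.r (fun v hv => M.pair_mem D.r_root D.link hv) l hl hl'

theorem c0_le : D.c0 ≤ Nat.card M.evens := by
  have h1 := lowCount_le M D.basis [] (by simp) D.basis_lt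
  have h2 : Nat.card (fixM M ⊤ []) ≤ Nat.card (H1Orth.IG QW) := Subgroup.card_le_card_group _
  have h3 : Nat.card (H1Orth.IG QW) ≤ Nat.card (M.evens × Fin 2) := by
    refine Nat.card_le_card_of_surjective
      (fun x => (x.1 : H1Orth.IG QW) * if x.2 = 0 then 1 else M.T D.r) fun g => ?_
    obtain ⟨l, hl, rfl⟩ := M.gen D.stages g
    rcases Nat.even_or_odd l.length with he | he
    · exact ⟨(⟨_, l, hl, he, rfl⟩, 0), by simp⟩
    · refine ⟨(⟨_, l ++ [D.r], M.okW_append hl (by simp [H1Orth.Model.okW, D.r_root]), ?_, rfl⟩, 1), ?_⟩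
      · rw [List.length_append]; exact he.add_odd (by simp)
      · simp [H1Orth.Model.ev_append, H1Orth.Model.ev_cons, H1Orth.Model.ev_nil, mul_assoc, M.T_sq]
  rw [Nat.card_prod, Nat.card_fin] at h3
  have := D.low
  omega

theorem range_and_ker : (ρ D).range = Omega (ZMod 2) QW ∧ genImg D = Omega (ZMod 2) QW ∧
    ∀ h : H D, ρ D h = 1 → ∃ (i : ℕ), ∃ k ∈ K D, (h : Cen) = D.a ^ i * k := by
  haveI := LeechOrder.finite_Co0
  obtain ⟨F, hF, hFv⟩ := kerInj D
  have h1 := Subgroup.card_eq_card_quotient_mul_card_subgroup (ρ D).ker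
  rw [Nat.card_congr (QuotientGroup.quotientKerEquivRange (ρ D)).toEquiv] at h1
  have h2 := card_H_le D
  have h3 := Nat.card_le_card_of_injective F hF
  rw [Nat.card_prod, Nat.card_fin] at h3
  have hK0 : 0 < Nat.card (K D) := Nat.card_pos
  have hR0 : 0 < Nat.card (ρ D).range := Nat.card_pos
  have hle : M.evens ≤ (ρ D).range := (evens_le_genImg D).trans (genImg_le D)
  have h4 := Subgroup.card_le_of_le hle
  have h5 := c0_le D
  have hp0 : 0 < D.p := D.hp.pos
  rw [h1] at h2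
  have hr : Nat.card (ρ D).range ≤ D.c0 := by
    refine Nat.le_of_mul_le_mul_right ?_ (Nat.mul_pos hp0 hK0)
    calc _ ≤ Nat.card (ρ D).range * Nat.card (ρ D).ker := Nat.mul_le_mul_left _ h3
      _ ≤ _ := h2
      _ = _ := by ring
  have hc : Nat.card (ρ D).range = D.c0 := le_antisymm hr (h5.trans h4)
  have hk : Nat.card (ρ D).ker ≤ D.p * Nat.card (K D) := by
    rw [hc] at h2
    refine Nat.le_of_mul_le_mul_left (h2.trans (le_of_eq (by ring))) ?_
    omega
  have heq : M.evens = (ρ D).range :=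
    Subgroup.eq_of_le_of_card_ge hle (hr.trans h5)
  refine ⟨by rw [← evens_eq D, heq], le_antisymm ?_ ?_, fun h hh => ?_⟩
  · rw [← evens_eq D, heq]; exact genImg_le D
  · rw [← evens_eq D]; exact evens_le_genImg D
  · have hbij := (Nat.bijective_iff_injective_and_card F).2 ⟨hF, by
      rw [Nat.card_prod, Nat.card_fin]; omega⟩
    obtain ⟨x, hx⟩ := hbij.2 ⟨h, hh⟩
    exact ⟨x.1, x.2, x.2.2, by rw [← hFv x, hx]⟩

/-! ### Invariant subspaces -/

theorem eq_top_of_invariant {W : AddSubgroup (ι → ZMod 2)}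
    (hW : ∀ g : Fin D.ng, ∀ v ∈ W, H1Orth.act (ρ D (gH D g)) v ∈ W)
    {u : ι → ZMod 2} (hu : u ∈ W) (hu0 : u ≠ 0) : W = ⊤ := by
  refine eq_top_of_irr M D.irr (fun c hc x hx hxW => ?_) hu hu0
  obtain ⟨i, hi, rfl⟩ := List.getElem_of_mem hc
  obtain ⟨h1, h2⟩ := hasCols_g D ⟨i, D.gCols_len ▸ hi⟩ x hx
  rw [List.getD_eq_getElem _ _ hi] at h1 h2
  exact ⟨h1, h2 ▸ hW _ _ hxW⟩

include D in
theorem core (R : Subgroup (Omega (ZMod 2) QW)) (hR : R.Normal) (hp : IsPGroup 2 R) : R = ⊥ := by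
  classical
  haveI : Fact (Nat.Prime 2) := ⟨Nat.prime_two⟩
  letI : MulAction R (ι → ZMod 2) :=
    { smul := fun r v => H1Orth.act ((r : Omega (ZMod 2) QW) : H1Orth.IG QW) v
      one_smul := fun v => H1Orth.act_one v
      mul_smul := fun r s v => H1Orth.act_mul _ _ v }
  by_cases hn : M.n = 0
  · refine (Subgroup.eq_bot_iff_forall _).2 fun r _ => Subtype.ext (H1Orth.act_ext _ _ fun i => ?_)
    exact absurd (M.e i).2 (by omega)
  have hdvd : 2 ∣ Nat.card (ι → ZMod 2) := by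
    rw [← Nat.card_congr (Multiplicative.toAdd (α := ι → ZMod 2)), card_space (M := M)]
    exact dvd_pow_self 2 hn
  obtain ⟨u, hu, hu0⟩ := hp.exists_fixed_point_of_prime_dvd_card_of_fixed_point (ι → ZMod 2)
    hdvd (a := 0) (fun r => H1Orth.act_zero _)
  let W : AddSubgroup (ι → ZMod 2) :=
    { carrier := {v | ∀ r ∈ R, H1Orth.act (r : H1Orth.IG QW) v = v}
      zero_mem' := fun r _ => H1Orth.act_zero _
      add_mem' := fun {a b} ha hb r hr => by rw [H1Orth.act_add, ha r hr, hb r hr]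
      neg_mem' := fun {a} ha => by
        rw [neg_eq_iff_add_eq_zero.2 (H1Orth.vadd_self a)]; exact ha }
  have hinv : ∀ g : Fin D.ng, ∀ v ∈ W, H1Orth.act (ρ D (gH D g)) v ∈ W := by
    intro g v hv r hr
    set γ : Omega (ZMod 2) QW := ⟨ρ D (gH D g), (range_and_ker D).1 ▸ ⟨_, rfl⟩⟩
    have := hv _ (hR.conj_mem r hr γ⁻¹)
    rw [inv_inv, Subgroup.coe_mul, Subgroup.coe_mul, Subgroup.coe_inv, H1Orth.act_mul,
      H1Orth.act_mul] at this
    have e := congrArg (H1Orth.act (γ : H1Orth.IG QW)) this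
    rw [← H1Orth.act_mul, mul_inv_cancel, H1Orth.act_one] at e
    exact e
  have htop := eq_top_of_invariant D hinv (u := u) (fun r hr => hu ⟨r, hr⟩) hu0.symm
  refine (Subgroup.eq_bot_iff_forall _).2 fun r hr => Subtype.ext (H1Orth.act_ext _ _ fun i => ?_)
  have := (htop ▸ AddSubgroup.mem_top _ : (Pi.single i (1 : ZMod 2) : ι → ZMod 2) ∈ W) r hr
  rw [this, OneMemClass.coe_one, H1Orth.act_one]

/-! ### The section -/

/-- The subgroup of odd prime order. -/
def A : Subgroup Co0 := Subgroup.zpowers (D.a : Co0)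

/-- Its centraliser. -/
abbrev CA : Subgroup Co0 := Subgroup.centralizer (A D : Set Co0)

theorem orderOf_coe_a : orderOf (D.a : Co0) = D.p := by rw [Subgroup.orderOf_coe, orderOf_a]

theorem card_A : Nat.card (A D) = D.p := by rw [A, Nat.card_zpowers, orderOf_coe_a]

theorem mem_CA {g : Co0} : g ∈ CA D ↔ g * D.a = (D.a : Co0) * g := by
  rw [CA, Subgroup.mem_centralizer_iff]
  refine ⟨fun h => (h _ (Subgroup.mem_zpowers _)).symm, fun h x hx => ?_⟩
  obtain ⟨i, rfl⟩ := Subgroup.mem_zpowers_iff.1 hx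
  exact ((show Commute (D.a : Co0) g from h.symm).zpow_left i).eq

theorem mem_sup_iff {g : Co0} : g ∈ A D ⊔ Subgroup.center Co0 ↔
    ∃ i : ℤ, g = (D.a : Co0) ^ i ∨ g = (D.a : Co0) ^ i * negAut := by
  rw [Subgroup.mem_sup_of_normal_right]
  constructor
  · rintro ⟨y, hy, s, hs, rfl⟩
    obtain ⟨i, rfl⟩ := Subgroup.mem_zpowers_iff.1 hy
    rcases center_eq hs with rfl | rfl
    · exact ⟨i, Or.inl (mul_one _)⟩
    · exact ⟨i, Or.inr rfl⟩
  · rintro ⟨i, rfl | rfl⟩
    · exact ⟨_, Subgroup.zpow_mem_zpowers _ i, 1, one_mem _, mul_one _⟩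
    · exact ⟨_, Subgroup.zpow_mem_zpowers _ i, _, negAut_mem_center, rfl⟩

theorem normal_N : ((A D ⊔ Subgroup.center Co0).subgroupOf (CA D)).Normal := by
  refine ⟨fun n hn g => ?_⟩
  suffices e : g * n * g⁻¹ = n by rw [e]; exact hn
  have hc : (g : Co0) * n = (n : Co0) * g := by
    have hg := (mem_CA D).1 g.2
    obtain ⟨i, e | e⟩ := (mem_sup_iff D).1 (Subgroup.mem_subgroupOf.1 hn) <;> rw [e]
    · exact ((show Commute (g : Co0) D.a from hg).zpow_right i).eq
    · rw [← mul_assoc, ((show Commute (g : Co0) D.a from hg).zpow_right i).eq, mul_assoc,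
        Subgroup.mem_center_iff.1 negAut_mem_center, mul_assoc]
  rw [show g * n = n * g from Subtype.ext hc, mul_inv_cancel_right]

/-- The section. -/
abbrev Sec : Type := CA D ⧸ (A D ⊔ Subgroup.center Co0).subgroupOf (CA D)

section Quot

variable [((A D ⊔ Subgroup.center Co0).subgroupOf (CA D)).Normal]

/-- The projection. -/
abbrev π : CA D →* Sec D := QuotientGroup.mk' _

theorem π_eq_one {g : CA D} : π D g = 1 ↔ (g : Co0) ∈ A D ⊔ Subgroup.center Co0 := by
  rw [QuotientGroup.mk'_apply, QuotientGroup.eq_one_iff, Subgroup.mem_subgroupOf]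

/-- Elements commuting with the automorphism. -/
def ic : H D →* CA D :=
  (Cen.subtype.comp (H D).subtype).codRestrict _ fun h =>
    (mem_CA D).2 (congrArg Subtype.val ((mem_H D).1 h.2))

theorem coe_ic (h : H D) : ((ic D h : CA D) : Co0) = ((h : Cen) : Co0) := rfl

/-- The sign change in the centraliser. -/
def epsH : H D := ⟨epsC, (epsC_mem D).2⟩

/-- The involution. -/
def zS : Sec D := π D (ic D (epsH D))

/-- The centraliser of the involution. -/
abbrev CS : Subgroup (Sec D) := Subgroup.centralizer ({zS D} : Set (Sec D))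

/-- The projection between centralisers. -/
def jH : H D →* CS D :=
  ((π D).comp (ic D)).codRestrict _ fun h => by
    rw [Subgroup.mem_centralizer_singleton_iff, MonoidHom.comp_apply, zS, ← map_mul, ← map_mul,
      ← map_mul, show h * epsH D = epsH D * h from Subtype.ext (epsC_central _), map_mul]

theorem coe_jH (h : H D) : ((jH D h : CS D) : Sec D) = π D (ic D h) := rfl

theorem jH_eq_one {h : H D} : jH D h = 1 ↔
    ∃ i : ℤ, (h : Cen) = D.a ^ i ∨ (h : Cen) = D.a ^ i * negC := by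
  rw [← Subtype.coe_inj, coe_jH, OneMemClass.coe_one, π_eq_one, mem_sup_iff, coe_ic]
  exact exists_congr fun i => or_congr
    ⟨fun e => Subtype.ext e, fun e => congrArg Subtype.val e⟩
    ⟨fun e => Subtype.ext e, fun e => congrArg Subtype.val e⟩

theorem jH_surjective : Function.Surjective (jH D) := by
  intro c
  obtain ⟨g, hg⟩ := QuotientGroup.mk'_surjective _ (c : Sec D)
  have h := Subgroup.mem_centralizer_singleton_iff.1 c.2
  rw [← hg, zS, ← map_mul, ← map_mul] at h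
  have h1 : π D (g * ic D (epsH D) * (ic D (epsH D) * g)⁻¹) = 1 := by
    rw [map_mul, map_inv, mul_inv_eq_one]; exact h
  obtain ⟨i, hi⟩ := (mem_sup_iff D).1 ((π_eq_one D).1 h1)
  simp only [Subgroup.coe_mul, Subgroup.coe_inv, coe_ic] at hi
  have hga : Commute (g : Co0) D.a := (mem_CA D).1 g.2
  have hea : Commute eps (D.a : Co0) := (mem_Cen.1 D.a.2).symm
  have key : ∀ s : Co0, s ∈ Subgroup.center Co0 → s * s = 1 →
      (g : Co0) * eps * (eps * g)⁻¹ = (D.a : Co0) ^ i * s → (g : Co0) * eps = s * eps * g := by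
    intro s hs hs2 e
    have e1 : (g : Co0) * eps * (g : Co0)⁻¹ = (D.a : Co0) ^ i * s * eps := by
      rw [← e]; group
    have e2 : ((D.a : Co0) ^ i * s * eps) * ((D.a : Co0) ^ i * s * eps) = 1 := by
      rw [← e1]
      calc _ = (g : Co0) * (eps * eps) * (g : Co0)⁻¹ := by group
        _ = 1 := by rw [eps_sq, mul_one, mul_inv_cancel]
    have e3 : (D.a : Co0) ^ (i + i) = 1 := by
      rw [← e2]
      have hsc : ∀ x : Co0, x * s = s * x := fun x => Subgroup.mem_center_iff.1 hs x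
      have hei : eps * (D.a : Co0) ^ i = (D.a : Co0) ^ i * eps := (hea.zpow_right i).eq
      calc (D.a : Co0) ^ (i + i) = (D.a : Co0) ^ i * (D.a : Co0) ^ i * (s * s) * (eps * eps) := by
            rw [hs2, eps_sq, mul_one, mul_one, zpow_add]
        _ = (D.a : Co0) ^ i * ((D.a : Co0) ^ i * s) * (s * eps) * eps := by group
        _ = (D.a : Co0) ^ i * (s * (D.a : Co0) ^ i) * (eps * s) * eps := by rw [hsc, hsc eps]
        _ = (D.a : Co0) ^ i * s * ((D.a : Co0) ^ i * eps) * (s * eps) := by group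
        _ = (D.a : Co0) ^ i * s * (eps * (D.a : Co0) ^ i) * (s * eps) := by rw [hei]
        _ = _ := by group
    have e4 : (D.a : Co0) ^ i = 1 := by
      rw [← orderOf_dvd_iff_zpow_eq_one, orderOf_coe_a] at e3 ⊢
      rw [show i + i = 2 * i by ring] at e3
      rcases Int.Prime.dvd_mul' D.hp e3 with h' | h'
      · exfalso
        exact D.hp2 ((Nat.prime_dvd_prime_iff_eq D.hp Nat.prime_two).1 (by exact_mod_cast h'))
      · exact h'
    rw [e4, one_mul, mul_inv_eq_iff_eq_mul] at e1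
    exact e1
  have hcen : (g : Co0) ∈ Cen := by
    rcases hi with hi | hi
    · exact mem_Cen.2 ((key 1 (one_mem _) (one_mul _) (by rw [mul_one]; exact hi)).trans
        (by rw [one_mul]))
    · exact (not_anti (g := (g : Co0)) (key negAut negAut_mem_center
        (congrArg Subtype.val negC_sq) hi)).elim
  exact ⟨⟨⟨g, hcen⟩, (mem_H D).2 (Subtype.ext hga)⟩, Subtype.ext hg⟩

theorem ρ_mem_Omega (h : H D) : ρ D h ∈ Omega (ZMod 2) QW := (range_and_ker D).1 ▸ ⟨h, rfl⟩

/-- The action, onto the orthogonal group. -/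
noncomputable def ρO : H D →* Omega (ZMod 2) QW := (ρ D).codRestrict _ (ρ_mem_Omega D)

theorem ρO_eq_one {h : H D} : ρO D h = 1 ↔ ρ D h = 1 :=
  ⟨fun e => congrArg Subtype.val e, fun e => Subtype.ext e⟩

theorem ker_jH_le : (jH D).ker ≤ (ρO D).ker := by
  intro h hh
  obtain ⟨i, e | e⟩ := (jH_eq_one D).1 hh
  · have : h = aH D ^ i := Subtype.ext (by rw [e, Subgroup.coe_zpow]; rfl)
    rw [MonoidHom.mem_ker, ρO_eq_one, this, map_zpow, ρ_aH, one_zpow]
  · have : h = aH D ^ i * ⟨negC, (negC_mem D).2⟩ :=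
      Subtype.ext (by rw [e, Subgroup.coe_mul, Subgroup.coe_zpow]; rfl)
    rw [MonoidHom.mem_ker, ρO_eq_one, this, map_mul, map_zpow, ρ_aH, one_zpow, one_mul]
    exact ρ_K D (h := ⟨negC, (negC_mem D).2⟩) (negC_mem D)

/-- The map of the centraliser onto the orthogonal group. -/
noncomputable def φ : CS D →* Omega (ZMod 2) QW :=
  (jH D).liftOfSurjective (jH_surjective D) ⟨ρO D, ker_jH_le D⟩

theorem φ_jH (h : H D) : φ D (jH D h) = ρO D h :=
  MonoidHom.liftOfRightInverse_comp_apply _ _ _ ⟨ρO D, ker_jH_le D⟩ h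

theorem φ_surjective : Function.Surjective (φ D) := by
  intro x
  obtain ⟨h, hh⟩ : (x : H1Orth.IG QW) ∈ (ρ D).range := (range_and_ker D).1.symm ▸ x.2
  exact ⟨jH D h, by rw [φ_jH]; exact Subtype.ext hh⟩

/-- The kernel elements in the centraliser. -/
noncomputable def jK : K D →* CS D := (jH D).comp (Subgroup.inclusion (K_le D))

theorem coe_incl (k : K D) :
    ((Subgroup.inclusion (K_le D) k : H D) : Cen) = k := rfl

theorem jK_mem (k : K D) : jK D k ∈ (φ D).ker := by
  rw [MonoidHom.mem_ker]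
  show φ D (jH D _) = 1
  rw [φ_jH, ρO_eq_one]
  exact ρ_K D (by rw [coe_incl]; exact k.2)

theorem jK_eq_one {k : K D} (h : jK D k = 1) : (k : Cen) = 1 ∨ (k : Cen) = negC := by
  obtain ⟨i, e | e⟩ := (jH_eq_one D).1 h <;> rw [coe_incl] at e
  · exact Or.inl (by rw [e]; exact zpow_a_mem D (e ▸ k.2))
  · refine Or.inr ?_
    have : D.a ^ i ∈ K D := by
      have := mul_mem k.2 (inv_mem (negC_mem D))
      rwa [e, mul_inv_cancel_right] at this
    rw [e, zpow_a_mem D this, one_mul]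

theorem exists_jK {c : CS D} (hc : c ∈ (φ D).ker) : ∃ k : K D, jK D k = c := by
  obtain ⟨h, rfl⟩ := jH_surjective D c
  rw [MonoidHom.mem_ker, φ_jH, ρO_eq_one] at hc
  obtain ⟨i, k, hk, e⟩ := (range_and_ker D).2.2 h hc
  refine ⟨⟨k, hk⟩, ?_⟩
  have e' : h = aH D ^ i * ⟨k, hk.2⟩ := Subtype.ext (by rw [e, Subgroup.coe_mul, Subgroup.coe_pow]; rfl)
  have ha : jH D (aH D) = 1 := (jH_eq_one D).2 ⟨1, Or.inl (zpow_one _).symm⟩
  rw [e', map_mul, map_pow, ha, one_pow, one_mul]
  rfl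

/-- The sign change in the kernel. -/
noncomputable def zQ : (φ D).ker := ⟨jK D ⟨epsC, epsC_mem D⟩, jK_mem D _⟩

theorem coe_zQ : ((zQ D : CS D) : Sec D) = zS D := rfl

theorem jK_wC : jK D ⟨wC, wC_mem D⟩ = (zQ D : CS D) := by
  show jK D _ = jK D ⟨epsC, epsC_mem D⟩
  have : (⟨wC, wC_mem D⟩ : K D) = ⟨negC, negC_mem D⟩ * ⟨epsC, epsC_mem D⟩ := rfl
  rw [this, map_mul]
  have h : jK D ⟨negC, negC_mem D⟩ = 1 :=
    (jH_eq_one D).2 ⟨0, Or.inr (by rw [zpow_zero, one_mul]; rfl)⟩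
  rw [h, one_mul]

theorem jK_four {k : K D} (h : κ D k = 0) : jK D k = 1 ∨ jK D k = (zQ D : CS D) := by
  rcases (κ_zero_iff D k.2).1 h with e | e | e | e
  · exact Or.inl (by rw [show k = 1 from Subtype.ext e, map_one])
  · exact Or.inl ((jH_eq_one D).2 ⟨0, Or.inr (by rw [coe_incl, e, zpow_zero, one_mul])⟩)
  · exact Or.inr (by rw [show k = ⟨epsC, epsC_mem D⟩ from Subtype.ext e]; rfl)
  · exact Or.inr (by rw [show k = ⟨wC, wC_mem D⟩ from Subtype.ext e]; exact jK_wC D)

theorem zS_ne : zS D ≠ 1 := by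
  intro e
  rcases jK_eq_one D (k := ⟨epsC, epsC_mem D⟩) (Subtype.ext e) with h | h
  · exact four_ne.2.1 h
  · exact four_ne.2.2.2.1 h

theorem orderOf_zS : orderOf (zS D) = 2 := by
  refine orderOf_eq_prime (hp := ⟨Nat.prime_two⟩) ?_ (zS_ne D)
  rw [pow_two, zS, ← map_mul, ← map_mul, show epsH D * epsH D = 1 from Subtype.ext (Subtype.ext eps_sq),
    map_one, map_one]

theorem card_ker : Nat.card (φ D).ker = 2 ^ (M.n + 1) := by
  haveI := LeechOrder.finite_Co0
  set f : K D →* (φ D).ker := (jK D).codRestrict _ (jK_mem D)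
  have hs : Function.Surjective f := fun c => by
    obtain ⟨k, hk⟩ := exists_jK D c.2
    exact ⟨k, Subtype.ext hk⟩
  have h1 := Subgroup.card_eq_card_quotient_mul_card_subgroup f.ker
  rw [Nat.card_congr (QuotientGroup.quotientKerEquivOfSurjective _ hs).toEquiv, card_K] at h1
  have h2 : f.ker = Subgroup.zpowers (⟨negC, negC_mem D⟩ : K D) := by
    refine le_antisymm (fun k hk => ?_) ((Subgroup.zpowers_le).2 ?_)
    · rcases jK_eq_one D (congrArg Subtype.val hk) with e | e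
      · rw [show k = 1 from Subtype.ext e]; exact one_mem _
      · rw [show k = ⟨negC, negC_mem D⟩ from Subtype.ext e]; exact Subgroup.mem_zpowers _
    · exact Subtype.ext ((jH_eq_one D).2 ⟨0, Or.inr (by rw [zpow_zero, one_mul]; rfl)⟩)
  have h3 : orderOf (⟨negC, negC_mem D⟩ : K D) = 2 :=
    orderOf_eq_prime (hp := ⟨Nat.prime_two⟩) (by rw [pow_two]; exact Subtype.ext negC_sq)
      (fun e => four_ne.1 (congrArg Subtype.val e))
  rw [h2, Nat.card_zpowers, h3] at h1
  rw [pow_succ]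
  omega

theorem isExtraspecial (hn : 4 ≤ M.n) : Cfsg.IsExtraspecial 2 (φ D).ker := by
  haveI := LeechOrder.finite_Co0
  haveI : Fact (Nat.Prime 2) := ⟨Nat.prime_two⟩
  have hz2 : (zQ D : CS D) * zQ D = 1 := Subtype.ext (by
    show zS D * zS D = 1
    rw [← pow_two, ← orderOf_zS D, pow_orderOf_eq_one])
  have hz : PGroupsExtraspecial.IsCentralPrime 2 (zQ D) := by
    refine ⟨Subgroup.mem_center_iff.2 fun g => Subtype.ext (Subtype.ext ?_), ?_⟩
    · exact Subgroup.mem_centralizer_singleton_iff.1 (g : CS D).2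
    · rw [← Subgroup.orderOf_coe, ← Subgroup.orderOf_coe]
      exact orderOf_zS D
  have hmem : ∀ q : (φ D).ker, (q : CS D) = 1 ∨ (q : CS D) = zQ D → q ∈ Subgroup.zpowers (zQ D) := by
    rintro q (e | e)
    · rw [show q = 1 from Subtype.ext e]; exact one_mem _
    · rw [show q = zQ D from Subtype.ext e]; exact Subgroup.mem_zpowers _
  have hsq : ∀ g : (φ D).ker, g ^ 2 ∈ Subgroup.zpowers (zQ D) := by
    intro g
    obtain ⟨k, hk⟩ := exists_jK D g.2
    refine hmem _ ?_
    rw [Subgroup.coe_pow, pow_two, ← hk, ← map_mul]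
    rcases (sq_and_form D k.2).1 with e | e
    · left; rw [show k * k = 1 from Subtype.ext e, map_one]
    · right; rw [show k * k = ⟨wC, wC_mem D⟩ from Subtype.ext e, jK_wC]
  have hcomm : ∀ g h : (φ D).ker, ⁅g, h⁆ ∈ Subgroup.zpowers (zQ D) :=
    comm_mem_of_sq (PGroupsBasic.normal_of_le_center (Subgroup.zpowers_le.2 hz.1)) hsq
  have hcen : Subgroup.center (φ D).ker ≤ Subgroup.zpowers (zQ D) := by
    intro g hg
    obtain ⟨k, hk⟩ := exists_jK D g.2
    refine hmem g ?_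
    rw [← hk]
    refine jK_four D (funext fun i => ?_)
    obtain ⟨b, hb⟩ : ∃ b, b = bC D (D.dual (M.e i)) := ⟨_, rfl⟩
    simp only [κ, Pi.zero_apply, ← hb]
    refine if_pos ?_
    have hbK : b ∈ K D := hb ▸ bC_mem D _
    rcases comm_K D k.2 hbK with e | e
    · exact hb ▸ e
    exfalso
    have h1 := congrArg Subtype.val
      (Subgroup.mem_center_iff.1 hg ⟨jK D ⟨b, hbK⟩, jK_mem D _⟩).symm
    simp only [Subgroup.coe_mul, ← hk, ← map_mul] at h1
    rw [show k * ⟨b, hbK⟩ = ⟨wC, wC_mem D⟩ * (⟨b, hbK⟩ * k) from Subtype.ext e, map_mul,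
      mul_eq_right, jK_wC] at h1
    exact zS_ne D (congrArg Subtype.val h1)
  refine SymplecticType.isExtraspecial_of (IsPGroup.of_card (card_ker D)) hz hcomm hsq hcen ?_
  by_contra hab
  push Not at hab
  have htop : Subgroup.center (φ D).ker = ⊤ := by
    rw [eq_top_iff]
    intro g _
    exact Subgroup.mem_center_iff.2 fun h => commutatorElement_eq_one_iff_mul_comm.1 (hab h g)
  have h := Subgroup.card_le_of_le hcen
  rw [htop, Subgroup.card_top, card_ker, Nat.card_zpowers, hz.2] at h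
  have : 2 ^ 5 ≤ 2 ^ (M.n + 1) := Nat.pow_le_pow_right (by norm_num) (by omega)
  omega

theorem setting (hn : 4 ≤ M.n) :
    LargeExtraspecialSimple46.Setting (zS D) (φ D).ker (φ D) where
  order := orderOf_zS D
  extra := isExtraspecial D hn
  big := by
    rw [card_ker]
    calc 32 = 2 ^ 5 := rfl
      _ ≤ _ := Nat.pow_le_pow_right (by norm_num) (by omega)
  ker := rfl
  surj := φ_surjective D
  z_mem := ⟨Subgroup.mem_centralizer_singleton_iff.2 rfl, (zQ D).2⟩
  cent := by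
    intro c hc
    obtain ⟨h, rfl⟩ := jH_surjective D c
    rw [MonoidHom.mem_ker, φ_jH, ρO_eq_one, ρ_eq_one]
    intro k hk
    have hconj := conj_mem D h.2 hk
    have h1 := (Subgroup.mem_centralizer_iff.1 hc _ (jK_mem D ⟨k, hk⟩)).symm
    have h2 : jK D (⟨_, hconj⟩ * ⟨k, hk⟩⁻¹) = 1 := by
      rw [map_mul, map_inv, mul_inv_eq_one]
      have e : jK D ⟨_, hconj⟩ = jH D h * jK D ⟨k, hk⟩ * (jH D h)⁻¹ := by
        show jH D _ = jH D h * jH D _ * (jH D h)⁻¹
        rw [← map_inv, ← map_mul, ← map_mul]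
        exact congrArg _ (Subtype.ext rfl)
      rw [e, h1, mul_inv_cancel_right]
    have h3 : κ D ((h : Cen) * k * (h : Cen)⁻¹ * k⁻¹) = 0 := by
      rcases jK_eq_one D h2 with e | e <;> rw [Subgroup.coe_mul, Subgroup.coe_inv] at e <;> rw [e]
      exacts [κ_one D, (κ_four D).1]
    have h4 := κ_mul D (mul_mem hconj (inv_mem hk)) hk
    rwa [inv_mul_cancel_right, h3, zero_add] at h4
  core := core D

/-- The conjugating element. -/
def g1C : CA D := ⟨D.g1, (mem_CA D).2 D.g1_comm⟩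

theorem exists_k0 : ∃ k : K D, ((k : Cen) : Co0) = (kel D.ki D.kj).el ∧
    π D (g1C D) * zS D * (π D (g1C D))⁻¹ = (jK D k : Sec D) := by
  obtain ⟨k, hk, e⟩ := exists_mem_K D D.k0_comm
  refine ⟨⟨k, hk⟩, e, ?_⟩
  show _ = π D (ic D (Subgroup.inclusion (K_le D) ⟨k, hk⟩))
  rw [zS, ← map_inv, ← map_mul, ← map_mul]
  refine congrArg (π D) (Subtype.ext ?_)
  simp only [Subgroup.coe_mul, Subgroup.coe_inv, coe_ic, coe_incl]
  exact D.g1_conj.trans e.symm

theorem conj_ne : π D (g1C D) * zS D * (π D (g1C D))⁻¹ ≠ zS D := by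
  obtain ⟨k, hk, e⟩ := exists_k0 D
  rw [e]
  intro h
  have h' : jK D k = jK D ⟨epsC, epsC_mem D⟩ := Subtype.ext h
  have h2 : jK D (k * (⟨epsC, epsC_mem D⟩ : K D)⁻¹) = 1 := by
    rw [map_mul, map_inv, h', mul_inv_cancel]
  have h3 : κ D k = 0 := by
    rcases jK_eq_one D h2 with e2 | e2 <;> rw [Subgroup.coe_mul, Subgroup.coe_inv,
      mul_inv_eq_iff_eq_mul] at e2 <;> rw [e2]
    · rw [one_mul]; exact (κ_four D).2.1
    · exact (κ_four D).2.2
  rw [κ_el D _ hk] at h3
  exact D.k0_ne (H1Orth.toV_inj M.e (cmask_lt D _) (Nat.two_pow_pos _)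
    (h3.trans (H1Orth.toV_zero _).symm))

theorem irreducible (T : Subgroup (CS D)) (hT : T.Normal) (hTQ : T ≤ (φ D).ker)
    (hx : ∃ x ∈ T, (x : Sec D) = π D (g1C D) * zS D * (π D (g1C D))⁻¹) : T = (φ D).ker := by
  obtain ⟨x, hx, e⟩ := hx
  obtain ⟨k0, hk0, e0⟩ := exists_k0 D
  have hk0T : jK D k0 ∈ T := by
    rwa [show jK D k0 = x from Subtype.ext (by rw [e, e0])]
  let W : AddSubgroup (ι → ZMod 2) :=
    { carrier := {v | ∃ k : K D, jK D k ∈ T ∧ κ D k = v}
      zero_mem' := ⟨1, by rw [map_one]; exact one_mem _, κ_one D⟩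
      add_mem' := by
        rintro _ _ ⟨k, hk, rfl⟩ ⟨l, hl, rfl⟩
        exact ⟨k * l, by rw [map_mul]; exact mul_mem hk hl, κ_mul D k.2 l.2⟩
      neg_mem' := by
        rintro v ⟨k, hk, rfl⟩
        exact ⟨k, hk, (neg_eq_iff_add_eq_zero.2 (H1Orth.vadd_self _)).symm⟩ }
  have hinv : ∀ g : Fin D.ng, ∀ v ∈ W, H1Orth.act (ρ D (gH D g)) v ∈ W := by
    rintro g _ ⟨k, hk, rfl⟩
    refine ⟨⟨_, conj_mem D (gH D g).2 k.2⟩, ?_, (act_ρ D _ k.2).symm⟩
    have := hT.conj_mem _ hk (jH D (gH D g))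
    rw [show jK D k = jH D _ from rfl, ← map_inv, ← map_mul, ← map_mul] at this
    exact this
  have hne : κ D k0 ≠ 0 := fun h => by
    rw [κ_el D _ hk0] at h
    exact D.k0_ne (H1Orth.toV_inj M.e (cmask_lt D _) (Nat.two_pow_pos _)
      (h.trans (H1Orth.toV_zero _).symm))
  have htop := eq_top_of_invariant D hinv (u := κ D k0) ⟨k0, hk0T, rfl⟩ hne
  have hzT : (zQ D : CS D) ∈ T := by
    obtain ⟨i, hi⟩ := Function.ne_iff.1 hne
    set b : K D := ⟨bC D (D.dual (M.e i)), bC_mem D _⟩ with hb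
    have hbc : (k0 : Cen) * b ≠ (b : Cen) * k0 := fun h => hi (by simp only [κ]; exact if_pos h)
    have hw : k0 * b = ⟨wC, wC_mem D⟩ * (b * k0) :=
      Subtype.ext ((comm_K D k0.2 b.2).resolve_left hbc)
    rw [← jK_wC, show (⟨wC, wC_mem D⟩ : K D) = k0 * (b * k0⁻¹ * b⁻¹) from by
      calc (⟨wC, wC_mem D⟩ : K D) = ⟨wC, wC_mem D⟩ * (b * k0) * k0⁻¹ * b⁻¹ := by group
        _ = k0 * b * k0⁻¹ * b⁻¹ := by rw [← hw]
        _ = _ := by group, map_mul, map_mul, map_mul, map_inv, map_inv]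
    exact mul_mem hk0T (hT.conj_mem _ (inv_mem hk0T) _)
  refine le_antisymm hTQ fun c hc => ?_
  obtain ⟨k, rfl⟩ := exists_jK D hc
  obtain ⟨u, hu, hue⟩ : κ D k ∈ W := htop ▸ AddSubgroup.mem_top _
  have h0 : κ D (u⁻¹ * k : K D) = 0 := by
    have := κ_mul D u.2 (u⁻¹ * k : K D).2
    rw [← Subgroup.coe_mul, mul_inv_cancel_left, ← hue] at this
    simpa using this
  have : jK D k = jK D u * jK D (u⁻¹ * k) := by rw [← map_mul, mul_inv_cancel_left]
  rw [this]
  refine mul_mem hu ?_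
  rcases jK_four D h0 with e | e <;> rw [e]
  exacts [one_mem _, hzT]

theorem witness_mem : ((jH D (gH D D.ti) : CS D) : Sec D) ∈ Subgroup.normalClosure ({zS D} : Set (Sec D)) := by
  have key : ∀ l : List Co0, (∀ u ∈ l, u * (D.a : Co0) = (D.a : Co0) * u) →
      ∃ c : CA D, (c : Co0) = (l.map fun u => u * eps * u⁻¹).prod ∧
        π D c ∈ Subgroup.normalClosure ({zS D} : Set (Sec D)) := by
    intro l
    induction l with
    | nil => exact fun _ => ⟨1, rfl, by rw [map_one]; exact one_mem _⟩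
    | cons u l ih =>
      intro h
      obtain ⟨c, hc, hm⟩ := ih fun v hv => h v (List.mem_cons_of_mem _ hv)
      set uC : CA D := ⟨u, (mem_CA D).2 (h u List.mem_cons_self)⟩
      refine ⟨uC * ic D (epsH D) * uC⁻¹ * c, ?_, ?_⟩
      · rw [List.map_cons, List.prod_cons, ← hc]
        rfl
      · rw [map_mul, map_mul, map_mul, map_inv]
        exact mul_mem ((inferInstance : (Subgroup.normalClosure ({zS D} : Set (Sec D))).Normal).conj_mem
          _ (Subgroup.subset_normalClosure rfl) _) hm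
  obtain ⟨c, hc, hm⟩ := key D.us D.us_comm
  have : ic D (gH D D.ti) = c := Subtype.ext (by rw [hc, coe_ic]; exact D.t_mem)
  rw [coe_jH, this]
  exact hm

theorem witness_ne : φ D (jH D (gH D D.ti)) ≠ 1 := by
  rw [φ_jH, Ne, ρO_eq_one]
  intro e
  have hx : 2 ^ D.t_move.val < 2 ^ M.n := Nat.pow_lt_pow_right (by norm_num) D.t_move.2
  obtain ⟨h1, h2⟩ := act_word D [D.ti.val] (by simp) hx
  simp only [List.map_cons, List.map_nil, List.prod_cons, List.prod_nil, mul_one, gs'_apply, e,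
    H1Orth.act_one] at h2
  exact D.t_ne (H1Orth.toV_inj M.e h1 hx h2.symm)

theorem witness_gen (R : Subgroup (Omega (ZMod 2) QW)) (hR : R.Normal)
    (ht : φ D (jH D (gH D D.ti)) ∈ R) : R = ⊤ := by
  rw [φ_jH] at ht
  have hprod : ∀ l : List (List ℕ × List ℕ), (∀ e ∈ l, ((e.1 ++ e.2).map (gs' D)).prod = 1) →
      ∃ y ∈ R, (y : H1Orth.IG QW) =
        ((l.flatMap fun e => e.1 ++ D.ti.val :: e.2).map (gs' D)).prod := by
    intro l
    induction l with
    | nil => exact fun _ => ⟨1, one_mem _, rfl⟩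
    | cons e l ih =>
      intro h
      obtain ⟨y, hy, hye⟩ := ih fun x hx => h x (List.mem_cons_of_mem _ hx)
      have hW : (e.1.map (gs' D)).prod ∈ Omega (ZMod 2) QW :=
        (range_and_ker D).2.1 ▸ prod_mem_genImg D e.1
      have hinv : (e.2.map (gs' D)).prod = ((e.1.map (gs' D)).prod)⁻¹ := by
        refine eq_inv_of_mul_eq_one_right ?_
        rw [← List.prod_append, ← List.map_append]
        exact h e List.mem_cons_self
      set W₁ : Omega (ZMod 2) QW := ⟨(e.1.map (gs' D)).prod, hW⟩ with hW₁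
      have hm : W₁ * ρO D (gH D D.ti) * W₁⁻¹ * y ∈ R :=
        R.mul_mem (hR.conj_mem (ρO D (gH D D.ti)) ht W₁) hy
      refine ⟨W₁ * ρO D (gH D D.ti) * W₁⁻¹ * y, hm, ?_⟩
      have hv : ((W₁ : Omega (ZMod 2) QW) : H1Orth.IG QW) = (e.1.map (gs' D)).prod := rfl
      have ht' : ((ρO D (gH D D.ti) : Omega (ZMod 2) QW) : H1Orth.IG QW) = ρ D (gH D D.ti) := rfl
      rw [List.flatMap_cons, List.map_append, List.prod_append, ← hye, List.map_append,
        List.prod_append, List.map_cons, List.prod_cons, hinv, gs'_apply, Subgroup.coe_mul,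
        Subgroup.coe_mul, Subgroup.coe_mul, Subgroup.coe_inv, hv, ht']
      simp only [mul_assoc]
  have hle : genImg D ≤ R.map (Omega (ZMod 2) QW).subtype := by
    refine (Subgroup.closure_le _).2 ?_
    rintro _ ⟨g, rfl⟩
    obtain ⟨y, hy, hye⟩ := hprod (D.tgen g) fun e he => by
      have := word_eq D (w := e.1 ++ e.2) (w' := [])
        (fun i hi => (List.mem_append.1 hi).elim ((D.tgen_lt g e he).1 i) ((D.tgen_lt g e he).2 i))
        (by simp) (D.tgen_inv g e he)
      simpa using this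
    refine ⟨y, hy, hye.trans ?_⟩
    have := word_eq D (w := (D.tgen g).flatMap fun e => e.1 ++ D.ti.val :: e.2) (w' := [g.val])
      (fun i hi => by
        obtain ⟨e, he, hie⟩ := List.mem_flatMap.1 hi
        rcases List.mem_append.1 hie with h | h
        · exact (D.tgen_lt g e he).1 i h
        · rcases List.mem_cons.1 h with rfl | h'
          · exact D.ti.2
          · exact (D.tgen_lt g e he).2 i h')
      (by simp) (D.tgen_ok g)
    rw [this]
    simp [gs'_apply]
  refine eq_top_iff.2 fun w _ => ?_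
  have hwm : (w : H1Orth.IG QW) ∈ genImg D := by rw [(range_and_ker D).2.1]; exact w.2
  obtain ⟨y, hy, e⟩ := hle hwm
  exact (Subtype.ext e : y = w) ▸ hy

end Quot

/-- The section theorem. -/
theorem exists_section (hn4 : 4 ≤ M.n) :
    ∃ A : Subgroup ↥Cfsg.Co0, Nat.card A = D.p ∧ ∃ (_hn : ((A ⊔ Subgroup.center ↥Cfsg.Co0).subgroupOf (Subgroup.centralizer (A : Set ↥Cfsg.Co0))).Normal), ∃ (S : Type) (_ : Group S) (_ : Finite S), Nonempty (S ≃* ↥(Subgroup.centralizer (A : Set ↥Cfsg.Co0)) ⧸ (A ⊔ Subgroup.center ↥Cfsg.Co0).subgroupOf (Subgroup.centralizer (A : Set ↥Cfsg.Co0))) ∧ IsSimpleGroup S ∧ ¬ IsMulCommutative S ∧ ∃ z : S, orderOf z = 2 ∧ ∃ (Q : Subgroup (Subgroup.centralizer ({z} : Set S))) (_ : Q.Normal), Cfsg.generalizedFittingSubgroup (Subgroup.centralizer ({z} : Set S)) = Q ∧ Cfsg.IsExtraspecial 2 Q ∧ Nat.card Q = 2 ^ (M.n + 1) ∧ Nonempty ((Subgroup.centralizer ({z} : Set S)) ⧸ Q ≃* Cfsg.Omega (ZMod 2) QW) ∧ ∃ g : S, (∃ hq : g * z * g⁻¹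 ∈ Subgroup.centralizer ({z} : Set S), (⟨g * z * g⁻¹, hq⟩ : Subgroup.centralizer ({z} : Set S)) ∈ Q) ∧ g * z * g⁻¹ ≠ z := by
  haveI := LeechOrder.finite_Co0
  refine ⟨A D, card_A D, normal_N D, ?_⟩
  haveI := normal_N D
  have hs := setting D hn4
  obtain ⟨k0, -, e0⟩ := exists_k0 D
  have hgQ : ∃ hq : π D (g1C D) * zS D * (π D (g1C D))⁻¹ ∈ CS D,
      (⟨_, hq⟩ : CS D) ∈ (φ D).ker := by
    refine ⟨e0 ▸ (jK D k0).2, ?_⟩
    have : (⟨_, e0 ▸ (jK D k0).2⟩ : CS D) = jK D k0 := Subtype.ext e0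
    rw [this]
    exact jK_mem D k0
  have hsimple := LargeExtraspecialSimple46.isSimpleGroup hs (π D (g1C D)) (conj_ne D) hgQ (irreducible D)
    (jH D (gH D D.ti)) (witness_mem D) (witness_ne D) (witness_gen D)
  exact ⟨Sec D, inferInstance, inferInstance, ⟨MulEquiv.refl _⟩, hsimple.1, hsimple.2, zS D,
    orderOf_zS D, (φ D).ker, inferInstance, LargeExtraspecialSimple46.gen_eq hs, hs.extra,
    card_ker D, ⟨QuotientGroup.quotientKerEquivOfSurjective _ hs.surj⟩, π D (g1C D), hgQ, conj_ne D⟩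

end

end Cfsg.Agent.LeechOctadSectionGroup46
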