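import Cfsg.Agent.Lib.LeechOctadSectionPow46
import Cfsg.Agent.Lib.LeechOctadSectionGroup46
import Cfsg.Prelude.Def_Classical

/-!
Certificates for the centraliser of an element of order 5 inside the octad involution centraliser.
-/

set_option autoImplicit false

namespace Cfsg.Agent.LeechOctadSectionHall46

open Cfsg Cfsg.Agent.LeechBasic Cfsg.Agent.LeechAut Cfsg.Agent.LeechOctadLattice46
open Cfsg.Agent.LeechOctadImage46 Cfsg.Agent.LeechOctadSectionTables46
open Cfsg.Agent.LeechOctadSectionCore46 Cfsg.Agent.LeechOctadSectionPow46

/-- The quadratic form on bit masks. -/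
def qM (x : ℕ) : Bool :=
  (x.testBit 0 && x.testBit 1).xor (x.testBit 2 || x.testBit 3)

set_option maxRecDepth 100000 in
/-- The quadratic space with its evaluation on bit masks. -/
def mM : H1Orth.Model (Cfsg.quadFormMinus 1 (ZMod 2) 1 1) where
  n := 4
  e := (Equiv.sumCongr finSumFinEquiv (Equiv.refl _)).trans finSumFinEquiv
  q := qM
  hq := by decide +kernel
  hadd := by
    intro u v w
    simp only [H1Orth.pol, quadFormMinus, Pi.add_apply, Fin.sum_univ_one]
    ring_nf
    simp [show (2 : ZMod 2) = 0 from rfl, show (4 : ZMod 2) = 0 from rfl]

/-- The element of order 30. -/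
noncomputable def gC : Cen :=
  ⟨g0, mul_mem xi_mem_Cen (mem_Cen.2 (by rw [← epsM_el]; exact (el_comm_iff m0 epsM).2 (by decide +kernel)))⟩

theorem gC_pow : gC ^ 30 = 1 := Subtype.ext g0_pow

/-- The automorphism of order 5. -/
noncomputable def a : Cen := gC ^ 6

theorem a_tab : IsTab (a : Co0) T6 := isTab6

/-- The frames. -/
def aCols : List ℕ := [164, 144, 160, 59, 235, 190, 82, 180]

/-- The basic kernel elements. -/
def B : Fin 4 → Mel := ![kel 0 26, kel 2 14, kel 10 10, kel 11 22]

/-- The pairing. -/
def dual : Fin 4 → Fin 4 := ![1, 0, 3, 2]

/-- A monomial generator. -/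
def e1 : Mel := ⟨846901022922136049344525509088820482, 3042, by decide +kernel, by decide⟩

/-- Its table. -/
def E1 : List ℕ :=
  [686053159114795289240674611757605392,
  686053159114795289240665815664574992,
  686053159114493057785770954463920656,
  686053159114795289240674611757596944,
  686053159114795289240674336879690256,
  686053159424280299062019680482378256,
  686053159114795289240393136780886544,
  686053159114795289240674603167662608,
  686052842202145232183324237581795856,
  686053159114795289240674611765985808,
  686053159114795288952444235605885456,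
  696437752831864944497735604416037392,
  686053159114795289249681811012338192,
  685728640561136862513891455737020944,
  686053169018315603523716810950590992,
  686053159124466695797591645155246608,
  686053159114795289240674611757597208,
  686053159114795289240674611489161744,
  686053159114785844507708872467169808,
  686053159114795289240674611757859344,
  353746160168566321014722846687511056,
  686053159114795584388579791110423056,
  686053159114795298464046648612373008,
  686063300319597115075886585383240208]

theorem isTab_e1 : IsTab e1.el E1 := by
  have h := isTab_mul_el (m := e1) (U := E1) isTab_one (by decide +kernel)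
  rwa [mul_one] at h

/-- A monomial generator. -/
def e2 : Mel := ⟨709485330386487421354644657175386400, 676, by decide +kernel, by decide⟩

/-- Its table. -/
def E2 : List ℕ :=
  [686053159114795289240674611757597208,
  686053159114795289240393136780886544,
  696437752831864944497735604416037392,
  686053159114795289240674611757859344,
  686053159114795289240674611765985808,
  686063300319597115075886585383240208,
  686053159114795289240674620347531792,
  686053476027445346298024985933398544,
  686053159114795289240683407850619408,
  686053159114795289240674611757597456,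
  686053159105123882683757578359947792,
  686053159114795289528904987909308944,
  686053159114795298464046648612373008,
  686053159114785844507708872467169808,
  686053159114795584388579791110423056,
  686053159115097520695578269051273744,
  686053159114795289249681811012338192,
  1018360158061024257466626376827683344,
  686377677668453715967457767778173456,
  686053159114795289240674336879690256,
  686053159114795289240674611489161744,
  686053149211274974957632412564603408,
  686053159114795289240674611757589008,
  686053158805310279419329543032816144]

theorem isTab_e2 : IsTab e2.el E2 := by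
  have h := isTab_mul_el (m := e2) (U := E2) isTab_one (by decide +kernel)
  rwa [mul_one] at h

/-- The element moving the octad sign change into the kernel. -/
def g1 : Mel := ⟨58031898494841903654020995153018126, 31, by decide +kernel, by decide⟩

/-- An auxiliary product. -/
def g1e : Mel := ⟨58031898494841903654020995153018126, 1689, by decide +kernel, by decide⟩

theorem g1_conj : g1.el * eps * g1.el⁻¹ = (kel 0 26).el := by
  rw [mul_inv_eq_iff_eq_mul, ← epsM_el, el_mul_eq (a := g1) (b := epsM) (c := g1e) (by decide +kernel),
    el_mul_eq (a := kel 0 26) (b := g1) (c := g1e) (by decide +kernel)]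

theorem comm_a {m : Mel} (h : conjChk T6 m m = true) : m.el * (a : Co0) = (a : Co0) * m.el :=
  (mul_eq_of_conjChk a_tab h).symm

/-- The generators. -/
noncomputable def gel : Fin 3 → Cen := ![gC, melC e1 (by decide +kernel), melC e2 (by decide +kernel)]

theorem gel_comm : ∀ g, gel g * a = a * gel g := by
  intro g
  fin_cases g
  · exact (Commute.self_pow gC _).eq
  · exact Subtype.ext (comm_a (m := e1) (by decide +kernel))
  · exact Subtype.ext (comm_a (m := e2) (by decide +kernel))

/-- Their tables. -/
def gTab : Fin 3 → List ℕ := ![T1, E1, E2]

theorem g_tab : ∀ g, IsTab ((gel g : Cen) : Co0) (gTab g) := by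
  intro g
  fin_cases g
  · show IsTab g0 T1
    exact pow_one g0 ▸ isTab1
  · exact isTab_e1
  · exact isTab_e2

/-- A conjugate. -/
def c0_0 : Mel := ⟨970538992418718774876113737513730146, 986, by decide +kernel, by decide⟩

/-- A conjugate. -/
def c0_1 : Mel := ⟨975731210044482049100029598719258762, 3859, by decide +kernel, by decide⟩

/-- A conjugate. -/
def c0_2 : Mel := ⟨971836868544283417183598037620604176, 2880, by decide +kernel, by decide⟩

/-- A conjugate. -/
def c0_3 : Mel := ⟨977029403114242140829700647870933228, 2639, by decide +kernel, by decide⟩

/-- A conjugate. -/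
def c1_0 : Mel := ⟨984818244535754528103549039458486304, 2393, by decide +kernel, by decide⟩

/-- A conjugate. -/
def c1_1 : Mel := ⟨971836868544283417183598037620604176, 3526, by decide +kernel, by decide⟩

/-- A conjugate. -/
def c1_2 : Mel := ⟨958856284866738415730512032145037611, 2956, by decide +kernel, by decide⟩

/-- A conjugate. -/
def c1_3 : Mel := ⟨977029403114242140829700647870933228, 3273, by decide +kernel, by decide⟩

/-- A conjugate. -/
def c2_0 : Mel := ⟨984818244535754528103549039458486304, 1670, by decide +kernel, by decide⟩

/-- A conjugate. -/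
def c2_1 : Mel := ⟨956260017597569525519170223614504150, 2134, by decide +kernel, by decide⟩

/-- A conjugate. -/
def c2_2 : Mel := ⟨958856284866738415730512032145037611, 725, by decide +kernel, by decide⟩

/-- A conjugate. -/
def c2_3 : Mel := ⟨977029403114242140829700647870933228, 790, by decide +kernel, by decide⟩

/-- The conjugates of the basic elements. -/
def gconj : Fin 3 → Fin 4 → Mel :=
  ![![c0_0, c0_1, c0_2, c0_3], 
    ![c1_0, c1_1, c1_2, c1_3], 
    ![c2_0, c2_1, c2_2, c2_3]]

/-- An auxiliary element. -/
def k1 : Mel := ⟨970538992418718774876113737513730146, 986, by decide +kernel, by decide⟩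

/-- An auxiliary element. -/
def k2 : Mel := ⟨69715239882738251298441629154790112, 1696, by decide +kernel, by decide⟩

/-- An auxiliary element. -/
def k3 : Mel := ⟨397300938230598424129875621976331808, 1028, by decide +kernel, by decide⟩

/-- An auxiliary element. -/
def h2 : Mel := ⟨152331829859512359046125706923789026, 2986, by decide +kernel, by decide⟩

/-- An auxiliary element. -/
def h3 : Mel := ⟨272600867495618191303498774294353442, 642, by decide +kernel, by decide⟩

/-- An auxiliary element. -/
def h2k : Mel := ⟨153629864462407106015670597184096306, 2312, by decide +kernel, by decide⟩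

/-- An auxiliary element. -/
def h3k : Mel := ⟨277793718954804063908206266192267317, 32, by decide +kernel, by decide⟩

/-- The conjugators. -/
noncomputable def us : List Co0 := [h2.el * g0 * g1.el, h3.el * g0 * g1.el]

theorem us_comm : ∀ u ∈ us, u * (a : Co0) = (a : Co0) * u := by
  intro u hu
  have hg : Commute g0 (a : Co0) := Commute.self_pow g0 6
  have h1 : Commute g1.el (a : Co0) := comm_a (by decide +kernel)
  have k2' : Commute h2.el (a : Co0) := comm_a (by decide +kernel)
  have k3' : Commute h3.el (a : Co0) := comm_a (by decide +kernel)
  simp only [us, List.mem_cons, List.not_mem_nil, or_false] at hu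
  rcases hu with rfl | rfl
  · exact ((k2'.mul_left hg).mul_left h1).eq
  · exact ((k3'.mul_left hg).mul_left h1).eq

theorem conj_eps {h m : Mel} {x : Mel} (e1 : mulChk h k1 x = true) (e2 : mulChk m h x = true) :
    h.el * g0 * g1.el * eps * (h.el * g0 * g1.el)⁻¹ = m.el := by
  have hk : g0 * (kel 0 26).el = k1.el * g0 :=
    mul_eq_of_conjChk (pow_one g0 ▸ isTab1) (by decide +kernel)
  have hh : h.el * k1.el = m.el * h.el := (el_mul_eq e1).trans (el_mul_eq e2).symm
  calc h.el * g0 * g1.el * eps * (h.el * g0 * g1.el)⁻¹
      = h.el * g0 * (g1.el * eps * g1.el⁻¹) * g0⁻¹ * h.el⁻¹ := by group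
    _ = h.el * (g0 * (kel 0 26).el) * g0⁻¹ * h.el⁻¹ := by rw [g1_conj]; group
    _ = h.el * k1.el * h.el⁻¹ := by rw [hk]; group
    _ = _ := by rw [hh, mul_inv_cancel_right]

theorem t_mem : ((gel 2 : Cen) : Co0) = (us.map fun u => u * eps * u⁻¹).prod := by
  show e2.el = _
  simp only [us, List.map_cons, List.map_nil, List.prod_cons, List.prod_nil, mul_one]
  rw [conj_eps (h := h2) (m := k2) (x := h2k) (by decide +kernel) (by decide +kernel),
    conj_eps (h := h3) (m := k3) (x := h3k) (by decide +kernel) (by decide +kernel)]
  exact (el_mul_eq (by decide +kernel)).symm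

/-- The columns of the generators. -/
def gCols : List (List ℕ) := [[2, 11, 14, 8], [1, 15, 5, 9], [1, 7, 4, 9]]

/-- Reflection pairs as words. -/
def words : List (ℕ × List ℕ) :=
  [(3, []),
    (4, [2, 0, 2, 0, 1]),
    (5, [2, 0, 1, 0, 0]),
    (6, [0, 2, 0, 1]),
    (8, [0, 2, 1]),
    (9, [0]),
    (10, [0, 0]),
    (12, [1, 0, 1, 0, 2]),
    (13, [1, 0, 2, 0, 0]),
    (14, [0, 1, 0, 2])]

/-- The generators from conjugates of the witness. -/
def tgen : Fin 3 → List (List ℕ × List ℕ) :=
  ![[([1, 0, 1, 0, 2], [1, 0, 1, 0, 2]),
      ([2, 0, 2, 0, 0], [0, 1, 0, 1])],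
    [([0, 1, 0, 0], [0, 1, 0, 0]),
      ([1, 0, 1, 0, 2], [1, 0, 1, 0, 2]),
      ([0, 1, 0, 0], [0, 1, 0, 0])],
    [([], [])]]

/-- The certificate. -/
noncomputable def data : Data mM where
  p := 5
  hp := by norm_num
  hp2 := by decide
  a := a
  aTab := T6
  a_tab := a_tab
  a_pow := by rw [a, ← pow_mul]; exact gC_pow
  a_ne := fun h => by
    have h1 := a_tab
    rw [show ((a : Cen) : Co0) = 1 from congrArg Subtype.val h] at h1
    have e0 := (h1 0 (by norm_num)).symm.trans (isTab_one 0 (by norm_num))
    have e1 := congrFun e0 (GolayBasic.pt 0)
    revert e1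
    decide +kernel
  aCols := aCols
  aCols_ok := by decide +kernel
  aCols_eq := by decide +kernel
  frames := [6, 1]
  frames_lt := by decide
  frames_span := by decide +kernel
  c0 := 60
  frame_le := by decide +kernel
  basis := [1, 2, 4, 8]
  basis_lt := by decide +kernel
  stages := by decide +kernel
  low := by decide +kernel
  r := 3
  r_root := by decide +kernel
  link := by decide +kernel
  B := B
  B_ok := fun j => by fin_cases j <;> exact ⟨_, _, rfl⟩
  B_comm := by decide +kernel
  dual := dual
  B_coord := by decide +kernel
  kdata := by decide +kernel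
  kcount := by decide +kernel
  four := by
    intro m hm
    simp only [List.mem_cons, List.not_mem_nil, or_false] at hm
    rcases hm with rfl | rfl | rfl <;> decide +kernel
  ng := 3
  gel := gel
  gel_comm := gel_comm
  gTab := gTab
  g_tab := g_tab
  gconj := gconj
  g_chk := by decide +kernel
  gCols := gCols
  gCols_len := rfl
  gCols_ok := by decide +kernel
  gCols_eq := by decide +kernel
  words := words
  words_lt := by decide +kernel
  words_cover := by decide +kernel
  words_ok := by decide +kernel
  irrK := 4
  irr := by decide +kernel
  g1 := g1.el
  g1_comm := comm_a (by decide +kernel)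
  ki := 0
  kj := 26
  k0_comm := by decide +kernel
  g1_conj := g1_conj
  k0_ne := by decide +kernel
  us := us
  us_comm := us_comm
  ti := 2
  t_mem := t_mem
  t_move := ⟨1, by decide⟩
  t_ne := by decide +kernel
  tgen := tgen
  tgen_lt := by decide +kernel
  tgen_inv := by decide +kernel
  tgen_ok := by decide +kernel

end Cfsg.Agent.LeechOctadSectionHall46
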