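import Cfsg.Agent.Lib.LeechOctadSectionPow46
import Cfsg.Agent.Lib.LeechOctadSectionGroup46
import Cfsg.Prelude.Def_Classical

/-!
Certificates for the centraliser of an element of order 3 inside the octad involution centraliser.
-/

set_option autoImplicit false

namespace Cfsg.Agent.LeechOctadSectionSuz46

open Cfsg Cfsg.Agent.LeechBasic Cfsg.Agent.LeechAut Cfsg.Agent.LeechOctadLattice46
open Cfsg.Agent.LeechOctadImage46 Cfsg.Agent.LeechOctadSectionTables46
open Cfsg.Agent.LeechOctadSectionCore46 Cfsg.Agent.LeechOctadSectionPow46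

/-- The quadratic form on bit masks. -/
def qM (x : ℕ) : Bool :=
  ((x.testBit 0 && x.testBit 2).xor (x.testBit 1 && x.testBit 3)).xor (x.testBit 4 || x.testBit 5)

set_option maxRecDepth 100000 in
/-- The quadratic space with its evaluation on bit masks. -/
def mM : H1Orth.Model (Cfsg.quadFormMinus 2 (ZMod 2) 1 1) where
  n := 6
  e := (Equiv.sumCongr finSumFinEquiv (Equiv.refl _)).trans finSumFinEquiv
  q := qM
  hq := by decide +kernel
  hadd := by
    intro u v w
    simp only [H1Orth.pol, quadFormMinus, Pi.add_apply, Fin.sum_univ_two]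
    ring_nf
    simp [show (2 : ZMod 2) = 0 from rfl, show (4 : ZMod 2) = 0 from rfl]

/-- The element of order 30. -/
noncomputable def gC : Cen :=
  ⟨g0, mul_mem xi_mem_Cen (mem_Cen.2 (by rw [← epsM_el]; exact (el_comm_iff m0 epsM).2 (by decide +kernel)))⟩

theorem gC_pow : gC ^ 30 = 1 := Subtype.ext g0_pow

/-- The automorphism of order 3. -/
noncomputable def a : Cen := gC ^ 10

theorem a_tab : IsTab (a : Co0) T10 := isTab10

/-- The frames. -/
def aCols : List ℕ := [72, 10, 18, 2, 28, 204, 75, 183]

/-- The basic kernel elements. -/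
def B : Fin 6 → Mel := ![kel 0 14, kel 0 18, kel 1 4, kel 10 14, kel 2 2, kel 9 26]

/-- The pairing. -/
def dual : Fin 6 → Fin 6 := ![2, 3, 0, 1, 5, 4]

/-- A monomial generator. -/
def e1 : Mel := ⟨208533214836848016341333340093779143, 1867, by decide +kernel, by decide⟩

/-- Its table. -/
def E1 : List ℕ :=
  [686053159114795289240674886635504144,
  686053159114795289240674603167662608,
  686053159114795289240674611757335056,
  686052842202145232183324237581795856,
  686053159114795289240665815664574992,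
  686053158805310279419329543032816144,
  686053159105123882683757578359947792,
  686053159114795289240393136780886544,
  686053159115097520695578269051273744,
  686053159114795289528904987909308944,
  686053159114795289240674611757596944,
  686053159114795289231667412502856208,
  686053159114795289240674611765985808,
  686053169018315603523716810950590992,
  685728640561136862513891455737020944,
  686053159114795298464046648612373008,
  686053159114795289240674611757605392,
  686053159114785844507708872467169808,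
  686053159114794994092769432404771344,
  675668565397725633983613619099157008,
  353746160168566321014722846687511056,
  686043017909993463405462638131954192,
  686053159114795289240674611757597192,
  686053159114795289240674612026032656]

theorem isTab_e1 : IsTab e1.el E1 := by
  have h := isTab_mul_el (m := e1) (U := E1) isTab_one (by decide +kernel)
  rwa [mul_one] at h

/-- A monomial generator. -/
def e2 : Mel := ⟨984818244535754528103549039458486304, 2080, by decide +kernel, by decide⟩

/-- Its table. -/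
def E2 : List ℕ :=
  [686053159114795289240674611757597208,
  686053159114795289240674611757597456,
  686053159114795289240674611757605392,
  686053159114795289240674611757859344,
  686053159114795289240674611765985808,
  686053159114795289240674611489161744,
  686053159114795289240674620347531792,
  686053159114795289240674886635504144,
  686053159114795289240683407850619408,
  686053159114795289240956086734307856,
  686053159114795289249681811012338192,
  686053159114795288952444235605885456,
  686053159114795298464046648612373008,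
  686053159114795584388579791110423056,
  686053159114785844507708872467169808,
  686053159114493057785770954463920656,
  686053159105123882683757578359947792,
  686053159424280299062019680482378256,
  686053149211274974957632412564603408,
  686053476027445346298024985933398544,
  686043017909993463405462638131954192,
  686377677668453715967457767778173456,
  675668565397725633983613619099157008,
  1018360158061024257466626376827683344]

theorem isTab_e2 : IsTab e2.el E2 := by
  have h := isTab_mul_el (m := e2) (U := E2) isTab_one (by decide +kernel)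
  rwa [mul_one] at h

/-- The element moving the octad sign change into the kernel. -/
def g1 : Mel := ⟨8199682867708101328921785361055190, 3649, by decide +kernel, by decide⟩

/-- An auxiliary product. -/
def g1e : Mel := ⟨8199682867708101328921785361055190, 2782, by decide +kernel, by decide⟩

theorem g1_conj : g1.el * eps * g1.el⁻¹ = (kel 0 18).el := by
  rw [mul_inv_eq_iff_eq_mul, ← epsM_el, el_mul_eq (a := g1) (b := epsM) (c := g1e) (by decide +kernel),
    el_mul_eq (a := kel 0 18) (b := g1) (c := g1e) (by decide +kernel)]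

theorem comm_a {m : Mel} (h : conjChk T10 m m = true) : m.el * (a : Co0) = (a : Co0) * m.el :=
  (mul_eq_of_conjChk a_tab h).symm

/-- The generators. -/
noncomputable def gel : Fin 3 → Cen := ![gC, melC e1 (by decide +kernel), melC e2 (by decide +kernel)]

theorem gel_comm : ∀ g, gel g * a = a * gel g := by
  intro g
  fin_cases g
  · exact (Commute.self_pow gC _).eq
  · exact Subtype.ext (comm_a (m := e1) (by decide +kernel))
  · exact Subtype.ext (comm_a (m := e2) (by decide +kernel))

/-- Their tables. -/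
def gTab : Fin 3 → List ℕ := ![T1, E1, E2]

theorem g_tab : ∀ g, IsTab ((gel g : Cen) : Co0) (gTab g) := by
  intro g
  fin_cases g
  · show IsTab g0 T1
    exact pow_one g0 ▸ isTab1
  · exact isTab_e1
  · exact isTab_e2

/-- A conjugate. -/
def c0_0 : Mel := ⟨967943160906634882443693203669386307, 537, by decide +kernel, by decide⟩

/-- A conjugate. -/
def c0_1 : Mel := ⟨967943160906634882443693203669386307, 1670, by decide +kernel, by decide⟩

/-- A conjugate. -/
def c0_2 : Mel := ⟨956260017597569525519170223614504150, 2956, by decide +kernel, by decide⟩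

/-- A conjugate. -/
def c0_3 : Mel := ⟨965346457858280311602285612983897608, 204, by decide +kernel, by decide⟩

/-- A conjugate. -/
def c0_4 : Mel := ⟨975731210044482049100029598719258762, 3612, by decide +kernel, by decide⟩

/-- A conjugate. -/
def c0_5 : Mel := ⟨964048898635769892387945499611696129, 1610, by decide +kernel, by decide⟩

/-- A conjugate. -/
def c1_0 : Mel := ⟨984818244535754528103549039458486304, 2880, by decide +kernel, by decide⟩

/-- A conjugate. -/
def c1_1 : Mel := ⟨984818244535754528103549039458486304, 986, by decide +kernel, by decide⟩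

/-- A conjugate. -/
def c1_2 : Mel := ⟨971836868544283417183598037620604176, 3612, by decide +kernel, by decide⟩

/-- A conjugate. -/
def c1_3 : Mel := ⟨967943160906634882443693203669386307, 1670, by decide +kernel, by decide⟩

/-- A conjugate. -/
def c1_4 : Mel := ⟨975731210044482049100029598719258762, 2691, by decide +kernel, by decide⟩

/-- A conjugate. -/
def c1_5 : Mel := ⟨977029403114242140829700647870933228, 3792, by decide +kernel, by decide⟩

/-- A conjugate. -/
def c2_0 : Mel := ⟨984818244535754528103549039458486304, 986, by decide +kernel, by decide⟩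

/-- A conjugate. -/
def c2_1 : Mel := ⟨984818244535754528103549039458486304, 1183, by decide +kernel, by decide⟩

/-- A conjugate. -/
def c2_2 : Mel := ⟨964048898635769892387945499611696129, 2639, by decide +kernel, by decide⟩

/-- A conjugate. -/
def c2_3 : Mel := ⟨958856284866738415730512032145037611, 4063, by decide +kernel, by decide⟩

/-- A conjugate. -/
def c2_4 : Mel := ⟨970538992418718774876113737513730146, 204, by decide +kernel, by decide⟩

/-- A conjugate. -/
def c2_5 : Mel := ⟨975731210044482049100029598719258762, 1670, by decide +kernel, by decide⟩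

/-- The conjugates of the basic elements. -/
def gconj : Fin 3 → Fin 6 → Mel :=
  ![![c0_0, c0_1, c0_2, c0_3, c0_4, c0_5], 
    ![c1_0, c1_1, c1_2, c1_3, c1_4, c1_5], 
    ![c2_0, c2_1, c2_2, c2_3, c2_4, c2_5]]

/-- The conjugator. -/
def u2 : Mel := ⟨944374842416253166213913948406784038, 3909, by decide +kernel, by decide⟩

/-- An auxiliary product. -/
def u2e : Mel := ⟨944374842416253166213913948406784038, 1893, by decide +kernel, by decide⟩

/-- The conjugators. -/
noncomputable def us : List Co0 := [u2.el]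

theorem us_comm : ∀ u ∈ us, u * (a : Co0) = (a : Co0) * u := by
  intro u hu
  rcases List.mem_singleton.1 hu with rfl
  exact comm_a (by decide +kernel)

theorem t_mem : ((gel 2 : Cen) : Co0) = (us.map fun u => u * eps * u⁻¹).prod := by
  show e2.el = _
  rw [us, List.map_singleton, List.prod_singleton, eq_mul_inv_iff_mul_eq, ← epsM_el,
    el_mul_eq (a := u2) (b := epsM) (c := u2e) (by decide +kernel),
    el_mul_eq (a := e2) (b := u2) (c := u2e) (by decide +kernel)]

/-- The columns of the generators. -/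
def gCols : List (List ℕ) := [[21, 23, 27, 46, 35, 7], [2, 1, 42, 23, 33, 51], [1, 2, 6, 9, 16, 32]]

/-- Reflection pairs as words. -/
def words : List (ℕ × List ℕ) :=
  [(5, []),
    (7, [0, 1, 0, 0, 0, 2, 0, 1]),
    (10, [0, 2, 0, 0, 2, 0, 0, 0, 1, 1, 0, 1, 0, 0]),
    (11, [1, 0, 0, 2, 1, 0, 1, 1, 0, 0, 0, 0]),
    (13, [1, 0, 0, 0, 2, 0, 2, 0, 0, 1, 1]),
    (14, [0, 0, 2, 1, 1, 0, 2, 1, 0, 0]),
    (16, [1, 1, 0, 2, 0, 2, 1, 0, 0, 0]),
    (17, [2, 0, 2, 0, 1, 1, 0, 0, 1, 1, 0]),
    (18, [2, 0, 1, 0, 2, 1, 0, 0, 0]),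
    (19, [0, 0, 1, 1, 0, 0, 1, 1, 0]),
    (20, [2, 0, 0, 1, 0, 0, 2, 0, 1, 0]),
    (22, [1, 1, 0, 1, 1, 0, 1, 0, 0, 2, 0, 1, 0]),
    (24, [0, 0, 2, 0, 2, 1, 0, 2, 1, 0]),
    (25, [0, 1, 0, 0, 2, 1, 1, 0, 2, 1, 1, 0, 1]),
    (28, [2, 1, 0, 0, 0, 1, 0, 1, 1, 0, 0, 0, 0]),
    (31, [0, 0, 0, 1, 0, 1, 0, 0, 2, 1, 1, 0, 1]),
    (32, [0, 2, 0, 0, 1, 0, 1, 0, 2, 0, 2]),
    (33, [0, 0, 1, 1, 0, 0, 0, 1, 1]),
    (34, [0, 0, 1, 1, 0, 2, 0, 2, 1, 0]),
    (35, [0, 0, 0, 0, 1, 0, 0, 2, 1, 0, 1, 1]),
    (36, [1, 0, 2, 0, 0, 1, 0, 2, 0, 0]),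
    (38, [0, 2, 1, 1, 0, 2, 1, 0, 0, 0]),
    (40, [2, 0, 2, 1, 0, 2, 0, 1, 1, 0, 0]),
    (41, [2, 0, 0, 0, 2, 1, 1, 0, 0, 0, 1, 1]),
    (44, [1, 1, 0, 0, 1, 0, 0, 1, 0, 0, 1]),
    (47, [0, 1, 0, 1, 0, 0, 1, 0, 0, 2, 1]),
    (48, [1, 0, 0, 2, 1, 0, 2, 1, 1, 0, 0, 2, 0]),
    (49, [0, 0, 1, 1, 0, 0, 0]),
    (50, [0, 2, 1, 0, 2, 1, 0, 0, 2, 1, 1, 0, 1]),
    (51, [0, 2, 0, 0, 0, 2, 1, 0, 0, 0, 1, 0]),
    (52, [0, 2, 0, 2, 1, 0, 0, 0]),
    (54, [0, 0, 2, 0, 1, 1, 0, 1, 1, 0, 1, 0]),
    (56, [0, 1, 1, 0, 1, 0, 2, 0, 0, 0, 2]),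
    (57, [1, 0, 2, 0, 0, 1, 0, 0, 2, 0]),
    (60, [1, 0, 2, 0, 2, 0, 1, 1, 0, 0, 1]),
    (63, [0, 0, 1, 1, 0, 1, 1, 0, 0])]

/-- The generators from conjugates of the witness. -/
def tgen : Fin 3 → List (List ℕ × List ℕ) :=
  ![[([2, 0, 0, 2, 1, 1, 0, 2, 1, 0, 0, 2, 1], [2, 0, 0, 1, 0, 1, 1, 0, 0, 0, 0]),
      ([0, 2, 0, 0, 1, 1, 0, 0], [0, 0, 0, 1, 0, 2, 0, 2, 0, 2]),
      ([2, 0, 1, 0, 0, 2, 1, 1, 0, 2, 1, 1, 0], [0, 1, 1, 0, 0, 0, 0, 1, 0, 0, 1, 1]),
      ([2, 0, 0, 1, 0, 2, 1, 1, 0, 1, 1, 0, 0], [2, 0, 0, 0, 0, 1, 0, 2, 0, 2, 0, 1, 0]),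
      ([2, 0, 0, 0, 2, 1, 1, 0, 1, 0, 0], [1, 0, 1, 1, 0, 0, 0, 0, 1, 0, 0, 1, 0]),
      ([2, 0, 0, 0, 1, 0, 1, 1, 0, 0, 0, 2, 1], [1, 0, 0, 0, 1, 0, 2, 0, 0, 1, 0, 1, 0]),
      ([2, 0, 0, 2, 1, 1, 0, 2, 1, 0, 0, 2, 1], [2, 0, 0, 1, 0, 1, 1, 0, 0, 0, 0])],
    [([2, 0, 0, 2, 1, 1, 0, 2, 1, 0, 0, 2, 1], [2, 0, 0, 1, 0, 1, 1, 0, 0, 0, 0]),
      ([2, 0, 1, 0, 0, 2, 1, 1, 0, 2, 1, 1, 0], [0, 1, 1, 0, 0, 0, 0, 1, 0, 0, 1, 1]),
      ([2, 0, 0, 0, 2, 1, 1, 0, 1, 0, 0], [1, 0, 1, 1, 0, 0, 0, 0, 1, 0, 0, 1, 0]),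
      ([0, 1, 0, 0, 1, 1, 0, 2, 0, 2, 0, 0], [2, 1, 0, 1, 0, 0, 2, 0, 2, 0]),
      ([0, 2, 0, 0, 1, 1, 0, 0], [0, 0, 0, 1, 0, 2, 0, 2, 0, 2]),
      ([2, 0, 0, 2, 1, 1, 0, 2, 1, 0, 0, 2, 1], [2, 0, 0, 1, 0, 1, 1, 0, 0, 0, 0])],
    [([2, 0, 0, 1, 0, 2, 1, 1, 0, 1, 1, 0, 0], [2, 0, 0, 0, 0, 1, 0, 2, 0, 2, 0, 1, 0])]]

/-- The certificate. -/
noncomputable def data : Data mM where
  p := 3
  hp := by norm_num
  hp2 := by decide
  a := a
  aTab := T10
  a_tab := a_tab
  a_pow := by rw [a, ← pow_mul]; exact gC_pow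
  a_ne := fun h => by
    have h1 := a_tab
    rw [show ((a : Cen) : Co0) = 1 from congrArg Subtype.val h] at h1
    have e0 := (h1 0 (by norm_num)).symm.trans (isTab_one 0 (by norm_num))
    have e1 := congrFun e0 (GolayBasic.pt 0)
    revert e1
    decide +kernel
  aCols := aCols
  aCols_ok := by decide +kernel
  aCols_eq := by decide +kernel
  frames := [17, 1, 34, 2]
  frames_lt := by decide
  frames_span := by decide +kernel
  c0 := 25920
  frame_le := by decide +kernel
  basis := [1, 2, 4, 8, 16, 32]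
  basis_lt := by decide +kernel
  stages := by decide +kernel
  low := by decide +kernel
  r := 5
  r_root := by decide +kernel
  link := by decide +kernel
  B := B
  B_ok := fun j => by fin_cases j <;> exact ⟨_, _, rfl⟩
  B_comm := by decide +kernel
  dual := dual
  B_coord := by decide +kernel
  kdata := by decide +kernel
  kcount := by decide +kernel
  four := by
    intro m hm
    simp only [List.mem_cons, List.not_mem_nil, or_false] at hm
    rcases hm with rfl | rfl | rfl <;> decide +kernel
  ng := 3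
  gel := gel
  gel_comm := gel_comm
  gTab := gTab
  g_tab := g_tab
  gconj := gconj
  g_chk := by decide +kernel
  gCols := gCols
  gCols_len := rfl
  gCols_ok := by decide +kernel
  gCols_eq := by decide +kernel
  words := words
  words_lt := by decide +kernel
  words_cover := by decide +kernel
  words_ok := by decide +kernel
  irrK := 6
  irr := by decide +kernel
  g1 := g1.el
  g1_comm := comm_a (by decide +kernel)
  ki := 0
  kj := 18
  k0_comm := by decide +kernel
  g1_conj := g1_conj
  k0_ne := by decide +kernel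
  us := us
  us_comm := us_comm
  ti := 2
  t_mem := t_mem
  t_move := ⟨2, by decide⟩
  t_ne := by decide +kernel
  tgen := tgen
  tgen_lt := by decide +kernel
  tgen_inv := by decide +kernel
  tgen_ok := by decide +kernel

end Cfsg.Agent.LeechOctadSectionSuz46
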