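import Cfsg.Agent.Lib.LeechOctadImage46

/-!
Numerical certificates for automorphisms of the rank-24 lattice (tables of images of frame vectors,
monomial elements given by encoded permutations and code indices), and counting inside orthogonal
groups over the field with two elements on bit masks.
-/

set_option autoImplicit false
set_option linter.style.haveILetI false

namespace Cfsg.Agent.LeechOctadSectionTables46

open Cfsg Cfsg.Agent.GolayBasic Cfsg.Agent.GolayPerm Cfsg.Agent.LeechBasic Cfsg.Agent.LeechAut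
open Cfsg.Agent.LeechStab

/-! ### Monomial elements by numbers -/

/-- An encoded permutation of the code's group and the index of a code word. -/
structure Mel where
  P : ℕ
  x : ℕ
  hP : good P = true
  hx : x < 4096

namespace Mel

variable (m : Mel)

theorem code_mem : mset (enc m.x) ∈ CodeSupp := (mset_mem_supports (enc_lt m.hx)).2 (inCode_enc m.hx)

/-- The automorphism. -/
noncomputable def el : Co0 := monomial (permOf m.P) (permOf_mem_M24 m.hP) (mset (enc m.x)) m.code_mem

/-- The sign at a point number. -/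
def sgn (i : ℕ) : ℤ := if (enc m.x).testBit i then -1 else 1

/-- The image of a point number. -/
def img (i : ℕ) : ℕ := pimg m.P i

theorem img_lt {i : ℕ} (h : i < 24) : m.img i < 24 := pimg_lt (valid_of_good m.hP) h

theorem permOf_pt {i : ℕ} (h : i < 24) : permOf m.P (pt i) = pt (m.img i) := by
  rw [permOf_apply (valid_of_good m.hP), pfun, idx_pt h, img]

theorem el_apply (v : leechLattice) {q : ℕ} (hq : q < 24) :
    ((m.el • v : leechLattice) : GolayPt → ℤ) (pt (m.img q)) =
      m.sgn (m.img q) * (v : GolayPt → ℤ) (pt q) := by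
  rw [← m.permOf_pt hq]
  have e := LeechCo2.monomial_apply (permOf_mem_M24 m.hP) m.code_mem v (pt q)
  rw [el, e, m.permOf_pt hq, sgn]
  simp only [mem_mset, idx_pt (m.img_lt hq)]
  split_ifs <;> ring

theorem exists_img {j : ℕ} (hj : j < 24) : ∃ i < 24, m.img i = j := by
  refine ⟨idx ((permOf m.P).symm (pt j)), idx_lt _, ?_⟩
  have h := m.permOf_pt (idx_lt ((permOf m.P).symm (pt j)))
  rw [pt_idx, Equiv.apply_symm_apply] at h
  have := congrArg idx h
  rwa [idx_pt hj, idx_pt (m.img_lt (idx_lt _)), eq_comm] at this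

theorem el_frame {i : ℕ} (hi : i < 24) :
    m.el • frame (pt i) = m.sgn (m.img i) • frame (pt (m.img i)) := by
  refine Subtype.ext (funext fun p => ?_)
  obtain ⟨q, hq, hqe⟩ := m.exists_img (idx_lt p)
  rw [← pt_idx p, ← hqe, m.el_apply _ hq, AddSubgroup.coe_zsmul, Pi.smul_apply, smul_eq_mul]
  show m.sgn (m.img q) * unitVec 8 (pt i) (pt q) = m.sgn (m.img i) * unitVec 8 (pt (m.img i)) (pt (m.img q))
  simp only [unitVec]
  by_cases h : q = i
  · subst h; simp
  · rw [if_neg, if_neg]
    · ring
    · intro e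
      apply h
      have := congrArg idx e
      rw [idx_pt (m.img_lt hq), idx_pt (m.img_lt hi)] at this
      have h1 := m.permOf_pt hq
      rw [this, ← m.permOf_pt hi] at h1
      have := congrArg idx ((permOf m.P).injective h1)
      rwa [idx_pt hq, idx_pt hi] at this
    · intro e
      have := congrArg idx e
      rw [idx_pt hq, idx_pt hi] at this
      exact h this

theorem sgn_sq (i : ℕ) : m.sgn i * m.sgn i = 1 := by unfold sgn; split_ifs <;> rfl

end Mel

theorem ext_pts {g h : Co0} (H : ∀ i < 24, g • frame (pt i) = h • frame (pt i)) : g = h :=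
  ext_frame fun p => by rw [← pt_idx p]; exact H _ (idx_lt p)

/-! ### Tables -/

/-- An entry of a table: 24 vectors, five bits a coordinate with offset sixteen. -/
def ent (T : List ℕ) (i q : ℕ) : ℤ := (((T.getD i 0) >>> (5 * q)) &&& 31 : ℕ) - 16

/-- The vector number `i` of a table. -/
def vec (T : List ℕ) (i : ℕ) : GolayPt → ℤ := fun p => ent T i (idx p)

/-- `T` lists the images of the frame vectors under `g`. -/
def IsTab (g : Co0) (T : List ℕ) : Prop :=
  ∀ i < 24, ((g • frame (pt i) : leechLattice) : GolayPt → ℤ) = vec T i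

/-- The identity table. -/
def idTab : List ℕ := (List.range 24).map fun i =>
  (List.range 24).foldl (fun acc q => acc + ((if q = i then 24 else 16) <<< (5 * q))) 0

theorem idTab_ok : ∀ i < 24, ∀ q < 24, unitVec 8 (pt i) (pt q) = ent idTab i q := by
  decide +kernel

theorem isTab_one : IsTab 1 idTab := fun i hi => by
  funext p
  rw [one_smul]
  have := idTab_ok i hi (idx p) (idx_lt p)
  rwa [pt_idx] at this

/-- `U` is `T` followed by the monomial element. -/
def stepM (m : Mel) (T U : List ℕ) : Bool :=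
  (List.range 24).all fun i => (List.range 24).all fun q =>
    ent U i (m.img q) == m.sgn (m.img q) * ent T i q

theorem isTab_mul_el {g : Co0} {m : Mel} {T U : List ℕ} (hT : IsTab g T) (h : stepM m T U = true) :
    IsTab (m.el * g) U := by
  intro i hi
  funext p
  obtain ⟨q, hq, hqe⟩ := m.exists_img (idx_lt p)
  simp only [stepM, List.all_eq_true, List.mem_range, beq_iff_eq] at h
  rw [← pt_idx p, ← hqe, mul_smul, m.el_apply _ hq, hT i hi]
  show m.sgn (m.img q) * ent T i (idx (pt q)) = ent U i (idx (pt (m.img q)))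
  rw [idx_pt hq, idx_pt (m.img_lt hq), h i hi q hq]

/-- `T'` is `U` followed by the non-monomial element. -/
def stepX (U T' : List ℕ) : Bool :=
  (List.range 24).all fun i => (List.range 24).all fun q =>
    ent T' i q == LeechXi.xiFun (vec U i) (pt q)

theorem isTab_xi {g : Co0} {U T' : List ℕ} (hU : IsTab g U) (h : stepX U T' = true) :
    IsTab (LeechXi.xi * g) T' := by
  intro i hi
  funext p
  simp only [stepX, List.all_eq_true, List.mem_range, beq_iff_eq] at h
  rw [mul_smul, LeechXi.coe_xi_smul, hU i hi]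
  show _ = ent T' i (idx p)
  rw [h i hi (idx p) (idx_lt p), pt_idx]

/-- The table says `g k = k' g`. -/
def conjChk (T : List ℕ) (k k' : Mel) : Bool :=
  (List.range 24).all fun i => (List.range 24).all fun q =>
    k.sgn (k.img i) * ent T (k.img i) (k'.img q) == k'.sgn (k'.img q) * ent T i q

theorem mul_eq_of_conjChk {g : Co0} {T : List ℕ} {k k' : Mel} (hT : IsTab g T)
    (h : conjChk T k k' = true) : g * k.el = k'.el * g := by
  refine ext_pts fun i hi => Subtype.ext (funext fun p => ?_)
  obtain ⟨q, hq, hqe⟩ := k'.exists_img (idx_lt p)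
  simp only [conjChk, List.all_eq_true, List.mem_range, beq_iff_eq] at h
  rw [← pt_idx p, ← hqe, mul_smul, mul_smul, k.el_frame hi, smul_zsmul_vec, k'.el_apply _ hq, hT i hi,
    AddSubgroup.coe_zsmul, Pi.smul_apply, smul_eq_mul, hT _ (k.img_lt hi)]
  show k.sgn (k.img i) * ent T (k.img i) (idx (pt (k'.img q))) = k'.sgn (k'.img q) * ent T i (idx (pt q))
  rw [idx_pt hq, idx_pt (k'.img_lt hq), h i hi q hq]

theorem conjChk_of_mul_eq {g : Co0} {T : List ℕ} {k k' : Mel} (hT : IsTab g T)
    (h : g * k.el = k'.el * g) : conjChk T k k' = true := by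
  simp only [conjChk, List.all_eq_true, List.mem_range, beq_iff_eq]
  intro i hi q hq
  have e := congrArg (fun x : Co0 => ((x • frame (pt i) : leechLattice) : GolayPt → ℤ) (pt (k'.img q))) h
  simp only [mul_smul] at e
  rw [k.el_frame hi, smul_zsmul_vec, k'.el_apply _ hq, AddSubgroup.coe_zsmul, Pi.smul_apply,
    smul_eq_mul, hT i hi, hT _ (k.img_lt hi)] at e
  simp only [vec, idx_pt hq, idx_pt (k'.img_lt hq)] at e
  exact e

/-- The product of two monomial elements equals a third. -/
def mulChk (a b c : Mel) : Bool :=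
  (List.range 24).all fun i => (a.img (b.img i) == c.img i) &&
    (a.sgn (a.img (b.img i)) * b.sgn (b.img i) == c.sgn (c.img i))

theorem el_mul_frame (a b : Mel) {i : ℕ} (hi : i < 24) : (a.el * b.el) • frame (pt i) =
    (b.sgn (b.img i) * a.sgn (a.img (b.img i))) • frame (pt (a.img (b.img i))) := by
  rw [mul_smul, b.el_frame hi, smul_zsmul_vec, a.el_frame (b.img_lt hi), smul_smul]

theorem el_mul_eq {a b c : Mel} (h : mulChk a b c = true) : a.el * b.el = c.el := by
  refine ext_pts fun i hi => ?_
  simp only [mulChk, List.all_eq_true, List.mem_range, Bool.and_eq_true, beq_iff_eq] at h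
  obtain ⟨h1, h2⟩ := h i hi
  rw [el_mul_frame a b hi, c.el_frame hi, mul_comm, h2, h1]

theorem frame_smul_inj {i j : ℕ} (hi : i < 24) (hj : j < 24) {s t : ℤ} (hs : s * s = 1)
    (h : s • frame (pt i) = t • frame (pt j)) : i = j ∧ s = t := by
  have h1 := congrFun (congrArg Subtype.val h) (pt i)
  simp only [AddSubgroup.coe_zsmul, Pi.smul_apply, smul_eq_mul, frame, unitVec, if_true] at h1
  by_cases e : i = j
  · subst e
    rw [if_pos rfl] at h1
    exact ⟨rfl, by linarith⟩
  · rw [if_neg (fun e' => e (by have := congrArg idx e'; rwa [idx_pt hi, idx_pt hj] at this)),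
      mul_zero] at h1
    rw [show s = 0 by linarith] at hs
    norm_num at hs

/-- The two monomial elements commute. -/
def commChk (a b : Mel) : Bool :=
  (List.range 24).all fun i => (a.img (b.img i) == b.img (a.img i)) &&
    (b.sgn (b.img i) * a.sgn (a.img (b.img i)) == a.sgn (a.img i) * b.sgn (b.img (a.img i)))

theorem el_comm_iff (a b : Mel) : a.el * b.el = b.el * a.el ↔ commChk a b = true := by
  simp only [commChk, List.all_eq_true, List.mem_range, Bool.and_eq_true, beq_iff_eq]
  constructor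
  · intro h i hi
    have e := congrArg (fun g : Co0 => g • frame (pt i)) h
    simp only [el_mul_frame a b hi, el_mul_frame b a hi] at e
    exact frame_smul_inj (a.img_lt (b.img_lt hi)) (b.img_lt (a.img_lt hi))
      (by rw [mul_mul_mul_comm, b.sgn_sq, a.sgn_sq, one_mul]) e
  · intro h
    refine ext_pts fun i hi => ?_
    rw [el_mul_frame a b hi, el_mul_frame b a hi, (h i hi).2, (h i hi).1]

/-- The element is an involution or trivial. -/
def sqChk (a : Mel) : Bool :=
  (List.range 24).all fun i => (a.img (a.img i) == i) &&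
    (a.sgn (a.img i) * a.sgn (a.img (a.img i)) == 1)

theorem el_sq_iff (a : Mel) : a.el * a.el = 1 ↔ sqChk a = true := by
  simp only [sqChk, List.all_eq_true, List.mem_range, Bool.and_eq_true, beq_iff_eq]
  constructor
  · intro h i hi
    have e := congrArg (fun g : Co0 => g • frame (pt i)) h
    simp only [el_mul_frame a a hi, one_smul] at e
    exact frame_smul_inj (t := 1) (a.img_lt (a.img_lt hi)) hi
      (by rw [mul_mul_mul_comm, a.sgn_sq, a.sgn_sq, one_mul]) (by rw [e, one_smul])
  · intro h
    refine ext_pts fun i hi => ?_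
    rw [el_mul_frame a a hi, (h i hi).2, (h i hi).1, one_smul, one_smul]

/-! ### Bit masks -/

/-- Apply a matrix given by columns. -/
def apC : List ℕ → ℕ → ℕ
  | [], _ => 0
  | c :: l, x => (if x % 2 = 1 then c else 0) ^^^ apC l (x / 2)

theorem apC_correct {ι : Type} [Fintype ι] [DecidableEq ι] {n : ℕ} (e : ι ≃ Fin n)
    (f : (ι → ZMod 2) →+ (ι → ZMod 2)) :
    ∀ (cols : List ℕ) (k : ℕ), k + cols.length = n →
      (∀ (j : ℕ) (h : j < cols.length), cols[j] < 2 ^ n ∧
        f (H1Orth.toV e (2 ^ (k + j))) = H1Orth.toV e cols[j]) →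
      ∀ x < 2 ^ cols.length, apC cols x < 2 ^ n ∧
        f (H1Orth.toV e (x * 2 ^ k)) = H1Orth.toV e (apC cols x)
  | [], k, _, _, x, hx => by
    simp at hx
    subst hx
    simp [apC, H1Orth.toV_zero]
  | c :: l, k, hk, h, x, hx => by
    have hk' : k + 1 + l.length = n := by rw [List.length_cons] at hk; omega
    have ih := apC_correct e f l (k + 1) hk' (fun j hj => by
      have := h (j + 1) (by rw [List.length_cons]; omega)
      simpa [Nat.add_assoc, Nat.add_comm 1 j] using this) (x / 2)
      (by rw [List.length_cons, pow_succ] at hx; omega)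
    have h0 := h 0 (by simp)
    simp only [List.getElem_cons_zero, Nat.add_zero] at h0
    have hsplit : x * 2 ^ k = (if x % 2 = 1 then 2 ^ k else 0) ^^^ (x / 2 * 2 ^ (k + 1)) := by
      have e1 : x = (x % 2) ^^^ (x / 2 * 2) := by
        apply Nat.eq_of_testBit_eq
        intro i
        rcases i with _ | i
        · simp [Nat.testBit_zero]
        · rw [Nat.testBit_xor, Nat.testBit_add_one, Nat.testBit_add_one, Nat.testBit_add_one,
            Nat.mul_div_cancel _ (by norm_num), show x % 2 / 2 = 0 by omega, Nat.zero_testBit,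
            Bool.false_xor]
      conv_lhs => rw [e1]
      rw [← Nat.shiftLeft_eq, Nat.shiftLeft_xor_distrib, Nat.shiftLeft_eq, Nat.shiftLeft_eq,
        pow_succ]
      congr 1
      · rcases Nat.mod_two_eq_zero_or_one x with e2 | e2 <;> simp [e2]
      · ring
    refine ⟨Nat.xor_lt_two_pow (by split_ifs; exacts [h0.1, Nat.two_pow_pos n]) ih.1, ?_⟩
    rw [hsplit, H1Orth.toV_xor, map_add, ih.2, apC, H1Orth.toV_xor]
    congr 1
    split_ifs
    · exact h0.2
    · rw [H1Orth.toV_zero, map_zero]

section Model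

variable {ι : Type} [Fintype ι] [DecidableEq ι] {Q : (ι → ZMod 2) → ZMod 2} (M : H1Orth.Model Q)

/-- An isometry given by columns. -/
def colsOk (cols : List ℕ) : Bool := decide (cols.length = M.n) && cols.all fun c => decide (c < 2 ^ M.n)

/-- The action agrees with the columns. -/
def HasCols (g : H1Orth.IG Q) (cols : List ℕ) : Prop :=
  ∀ x < 2 ^ M.n, apC cols x < 2 ^ M.n ∧ H1Orth.act g (H1Orth.toV M.e x) = H1Orth.toV M.e (apC cols x)

theorem hasCols_of {g : H1Orth.IG Q} {cols : List ℕ} (hc : colsOk M cols = true)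
    (h : ∀ (j : ℕ) (hj : j < cols.length),
      H1Orth.act g (H1Orth.toV M.e (2 ^ j)) = H1Orth.toV M.e cols[j]) : HasCols M g cols := by
  simp only [colsOk, Bool.and_eq_true, decide_eq_true_eq, List.all_eq_true] at hc
  intro x hx
  have := apC_correct M.e (AddMonoidHom.mk' (H1Orth.act g) (H1Orth.act_add g)) cols 0
    (by rw [zero_add]; exact hc.1) (fun j hj => ⟨hc.2 _ (List.getElem_mem hj), by
      rw [zero_add]; exact h j hj⟩) x (by rw [hc.1]; exact hx)
  rw [pow_zero, mul_one] at this
  exact this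

/-- Evaluate a word in isometries given by columns. -/
def evC (cs : List (List ℕ)) : List ℕ → ℕ → ℕ
  | [], x => x
  | i :: w, x => apC (cs.getD i []) (evC cs w x)

theorem act_prod {gs : ℕ → H1Orth.IG Q} {cs : List (List ℕ)}
    (h : ∀ i < cs.length, HasCols M (gs i) (cs.getD i [])) :
    ∀ (w : List ℕ), (∀ i ∈ w, i < cs.length) → ∀ x < 2 ^ M.n, evC cs w x < 2 ^ M.n ∧
      H1Orth.act ((w.map gs).prod) (H1Orth.toV M.e x) = H1Orth.toV M.e (evC cs w x)
  | [], _, x, hx => by simp [evC, hx, H1Orth.act_one]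
  | i :: w, hw, x, hx => by
    obtain ⟨h1, h2⟩ := act_prod h w (fun j hj => hw j (List.mem_cons_of_mem _ hj)) x hx
    obtain ⟨h3, h4⟩ := h i (hw i List.mem_cons_self) _ h1
    refine ⟨h3, ?_⟩
    rw [List.map_cons, List.prod_cons, H1Orth.act_mul, h2, h4]
    rfl

theorem eq_of_act {g h : H1Orth.IG Q}
    (H : ∀ k < M.n, H1Orth.act g (H1Orth.toV M.e (2 ^ k)) = H1Orth.act h (H1Orth.toV M.e (2 ^ k))) :
    g = h := H1Orth.act_ext _ _ fun j => by
  rw [← H1Orth.toV_single M.e]; exact H _ (M.e j).2

/-- The subgroup fixing listed masks. -/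
def fixM (X : Subgroup (H1Orth.IG Q)) (prev : List ℕ) : Subgroup (H1Orth.IG Q) where
  carrier := {g | g ∈ X ∧ ∀ p ∈ prev, H1Orth.act g (H1Orth.toV M.e p) = H1Orth.toV M.e p}
  one_mem' := ⟨one_mem X, fun p _ => H1Orth.act_one _⟩
  mul_mem' := fun {a b} ha hb => ⟨mul_mem ha.1 hb.1, fun p hp => by
    rw [H1Orth.act_mul, hb.2 p hp, ha.2 p hp]⟩
  inv_mem' := fun {a} ha => ⟨inv_mem ha.1, fun p hp => H1Orth.act_inj a (by
    rw [← H1Orth.act_mul, mul_inv_cancel, H1Orth.act_one, ha.2 p hp])⟩

/-- The orbit bound. -/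
theorem card_fixM_le (X : Subgroup (H1Orth.IG Q)) (prev : List ℕ) (b : ℕ) (L : List ℕ)
    (hL : ∀ g ∈ fixM M X prev, ∀ y < 2 ^ M.n, H1Orth.act g (H1Orth.toV M.e b) = H1Orth.toV M.e y → y ∈ L) :
    Nat.card (fixM M X prev) ≤ L.length * Nat.card (fixM M X (b :: prev)) := by
  classical
  choose f hf using fun g : fixM M X prev => H1Orth.toV_surj M.e (H1Orth.act (g : H1Orth.IG Q) (H1Orth.toV M.e b))
  let idx' : fixM M X prev → Fin L.length := fun g =>
    ⟨L.idxOf (f g), List.idxOf_lt_length_of_mem (hL g g.2 _ (hf g).1 (hf g).2.symm)⟩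
  let sec : Fin L.length → fixM M X prev := fun i => if h : ∃ g, idx' g = i then h.choose else 1
  have hkey : ∀ g : fixM M X prev, H1Orth.act (g : H1Orth.IG Q) (H1Orth.toV M.e b) =
      H1Orth.act (sec (idx' g) : H1Orth.IG Q) (H1Orth.toV M.e b) := fun g => by
    have hex : ∃ g', idx' g' = idx' g := ⟨g, rfl⟩
    have h1 : sec (idx' g) = hex.choose := dif_pos hex
    rw [h1, ← (hf g).2, ← (hf hex.choose).2]
    have h2 := congrArg Fin.val hex.choose_spec
    have := List.idxOf_inj (hL hex.choose hex.choose.2 _ (hf hex.choose).1 (hf hex.choose).2.symm) |>.1 h2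
    rw [this]
  let F : fixM M X prev → Fin L.length × fixM M X (b :: prev) := fun g =>
    (idx' g, ⟨(sec (idx' g) : H1Orth.IG Q)⁻¹ * g, by
      have hm := mul_mem (inv_mem (sec (idx' g)).2) g.2
      refine ⟨hm.1, fun p hp => ?_⟩
      rcases List.mem_cons.1 hp with rfl | hp
      · rw [H1Orth.act_mul, hkey g, ← H1Orth.act_mul, inv_mul_cancel, H1Orth.act_one]
      · exact hm.2 p hp⟩)
  have hF : Function.Injective F := by
    intro g h e
    have e1 : idx' g = idx' h := congrArg Prod.fst e
    have e2 := congrArg (fun x => ((x.2 : fixM M X (b :: prev)) : H1Orth.IG Q)) e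
    simp only [F] at e2
    rw [e1] at e2
    exact Subtype.ext (mul_left_cancel e2)
  haveI : Finite (H1Orth.IG Q) := inferInstance
  calc Nat.card (fixM M X prev) ≤ Nat.card (Fin L.length × fixM M X (b :: prev)) :=
        Nat.card_le_card_of_injective F hF
    _ = L.length * Nat.card (fixM M X (b :: prev)) := by rw [Nat.card_prod, Nat.card_fin]

/-- A vector reached from `e` by at most two reflections fixing `prev`. -/
def reach (prev : List ℕ) (e w : ℕ) : Bool :=
  w == e || (M.genU prev (w ^^^ e) && M.tn (w ^^^ e) w == e) ||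
    ((List.range (2 ^ M.n)).any fun u =>
      M.genU prev u &&
        (M.genU prev (w ^^^ M.tn u e) && M.tn (w ^^^ M.tn u e) w == M.tn u e))

/-- The product of the numbers of reached vectors. -/
def lowCount : List ℕ → List ℕ → ℕ
  | _, [] => 1
  | prev, e :: es => ((List.range (2 ^ M.n)).filter (reach M prev e)).length * lowCount (e :: prev) es

theorem lowCount_le : ∀ (es prev : List ℕ), (∀ p ∈ prev, p < 2 ^ M.n) → (∀ e ∈ es, e < 2 ^ M.n) →
    lowCount M prev es ≤ Nat.card (fixM M ⊤ prev)
  | [], prev, _, _ => Nat.card_pos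
  | e :: es, prev, hp, he => by
    have heb := he e List.mem_cons_self
    have ih := lowCount_le es (e :: prev) (fun p hp' => by
      rcases List.mem_cons.1 hp' with rfl | h; exacts [heb, hp p h])
      (fun x hx => he x (List.mem_cons_of_mem _ hx))
    set L := (List.range (2 ^ M.n)).filter (reach M prev e) with hLdef
    have hmov : ∀ w : Fin L.length, ∃ g ∈ fixM M ⊤ prev,
        H1Orth.act g (H1Orth.toV M.e (L.get w)) = H1Orth.toV M.e e := by
      intro w
      have hw := L.get_mem w
      generalize L.get w = x at hw ⊢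
      rw [hLdef, List.mem_filter, List.mem_range] at hw
      obtain ⟨hx, hw⟩ := hw
      simp only [reach, Bool.or_eq_true, Bool.and_eq_true, beq_iff_eq, List.any_eq_true,
        List.mem_range] at hw
      rcases hw with (h | ⟨h1, h2⟩) | ⟨u, -, hu, hy, hyw⟩
      · exact ⟨1, one_mem _, by rw [H1Orth.act_one, h]⟩
      · obtain ⟨r, hr⟩ := M.genU_spec hp h1
        exact ⟨M.T (x ^^^ e), ⟨Subgroup.mem_top _, hr⟩, by rw [(M.act_T r hx).1, h2]⟩
      · obtain ⟨r, hr⟩ := M.genU_spec hp hu
        obtain ⟨r', hr'⟩ := M.genU_spec hp hy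
        refine ⟨M.T u * M.T (x ^^^ M.tn u e), ⟨Subgroup.mem_top _, fun p hp' => ?_⟩, ?_⟩
        · rw [H1Orth.act_mul, hr' p hp', hr p hp']
        · rw [H1Orth.act_mul, (M.act_T r' hx).1, hyw, (M.act_T r (M.act_T r heb).2).1, M.tn_tn r heb]
    choose mv hmv using hmov
    let F : Fin L.length × fixM M ⊤ (e :: prev) → fixM M ⊤ prev := fun x =>
      ⟨(mv x.1)⁻¹ * x.2, mul_mem (inv_mem (hmv x.1).1)
        ⟨Subgroup.mem_top _, fun p hp' => x.2.2.2 p (List.mem_cons_of_mem _ hp')⟩⟩
    have hF : Function.Injective F := by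
      intro x y h
      have h' : (mv x.1)⁻¹ * (x.2 : H1Orth.IG Q) = (mv y.1)⁻¹ * y.2 := congrArg Subtype.val h
      have hval : ∀ z : Fin L.length × fixM M ⊤ (e :: prev),
          H1Orth.act ((mv z.1)⁻¹ * (z.2 : H1Orth.IG Q)) (H1Orth.toV M.e e) = H1Orth.toV M.e (L.get z.1) := by
        intro z
        rw [H1Orth.act_mul, z.2.2.2 e List.mem_cons_self, ← (hmv z.1).2, ← H1Orth.act_mul,
          inv_mul_cancel, H1Orth.act_one]
      have hb : ∀ z : Fin L.length, L.get z < 2 ^ M.n := fun z =>
        List.mem_range.1 (List.mem_filter.1 (L.get_mem z)).1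
      have h1 : L.get x.1 = L.get y.1 := H1Orth.toV_inj M.e (hb _) (hb _) (by rw [← hval, ← hval, h'])
      have h2 : x.1 = y.1 := (List.nodup_range.filter _).injective_get h1
      rw [h2] at h'
      exact Prod.ext h2 (Subtype.ext (mul_left_cancel h'))
    calc lowCount M prev (e :: es) = L.length * lowCount M (e :: prev) es := rfl
      _ ≤ L.length * Nat.card (fixM M ⊤ (e :: prev)) := Nat.mul_le_mul_left _ ih
      _ = Nat.card (Fin L.length × fixM M ⊤ (e :: prev)) := by rw [Nat.card_prod, Nat.card_fin]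
      _ ≤ Nat.card (fixM M ⊤ prev) := Nat.card_le_card_of_injective F hF

/-- Close a set of masks under given maps and under sums. -/
def growC (cs : List (List ℕ)) (S : ℕ) : ℕ :=
  (List.range (2 ^ M.n)).foldl (fun acc x =>
    if S.testBit x then
      (List.range (2 ^ M.n)).foldl (fun a y => if S.testBit y then a ||| (1 <<< (x ^^^ y)) else a)
        (cs.foldl (fun a c => a ||| (1 <<< apC c x)) acc)
    else acc) S

/-- A set of masks all lying in `W`. -/
def GoodSet (W : AddSubgroup (ι → ZMod 2)) (S : ℕ) : Prop :=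
  ∀ x, S.testBit x = true → x < 2 ^ M.n ∧ H1Orth.toV M.e x ∈ W

theorem goodSet_or {W : AddSubgroup (ι → ZMod 2)} {S x : ℕ} (h : GoodSet M W S)
    (hx : x < 2 ^ M.n ∧ H1Orth.toV M.e x ∈ W) : GoodSet M W (S ||| (1 <<< x)) := by
  intro y hy
  rw [Nat.testBit_or, Bool.or_eq_true, Nat.shiftLeft_eq, one_mul, Nat.testBit_two_pow] at hy
  rcases hy with hy | hy
  · exact h y hy
  · simp only [decide_eq_true_eq] at hy
    exact hy ▸ hx

theorem foldl_good {α : Type} {W : AddSubgroup (ι → ZMod 2)} (f : ℕ → α → ℕ) (l : List α)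
    (hf : ∀ a ∈ l, ∀ S, GoodSet M W S → GoodSet M W (f S a)) :
    ∀ S, GoodSet M W S → GoodSet M W (l.foldl f S) := by
  induction l with
  | nil => exact fun S h => h
  | cons a l ih =>
    intro S h
    exact ih (fun b hb => hf b (List.mem_cons_of_mem _ hb)) _ (hf a List.mem_cons_self S h)

theorem growC_good {W : AddSubgroup (ι → ZMod 2)} {cs : List (List ℕ)}
    (hinv : ∀ c ∈ cs, ∀ x < 2 ^ M.n, H1Orth.toV M.e x ∈ W →
      apC c x < 2 ^ M.n ∧ H1Orth.toV M.e (apC c x) ∈ W) {S : ℕ} (h : GoodSet M W S) :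
    GoodSet M W (growC M cs S) := by
  refine foldl_good M _ _ (fun x hx acc hacc => ?_) _ h
  split_ifs with hS
  · refine foldl_good M _ _ (fun y hy a ha => ?_) _
      (foldl_good M _ _ (fun c hc a ha => goodSet_or M ha (hinv c hc x (h x hS).1 (h x hS).2)) _ hacc)
    split_ifs with hT
    · exact goodSet_or M ha ⟨Nat.xor_lt_two_pow (h x hS).1 (h y hT).1,
        by rw [H1Orth.toV_xor]; exact W.add_mem (h x hS).2 (h y hT).2⟩
    · exact ha
  · exact hacc

/-- Iterated closure. -/
def growN (cs : List (List ℕ)) : ℕ → ℕ → ℕ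
  | 0, S => S
  | k + 1, S => growN cs k (growC M cs S)

/-- Every non-zero mask generates everything within `k` rounds. -/
def irrChk (cs : List (List ℕ)) (k : ℕ) : Bool :=
  (List.range (2 ^ M.n)).all fun v => v == 0 ||
    (let S := growN M cs k (1 <<< v); (List.range M.n).all fun j => S.testBit (2 ^ j))

theorem eq_top_of_irr {cs : List (List ℕ)} {k : ℕ} (hchk : irrChk M cs k = true)
    {W : AddSubgroup (ι → ZMod 2)}
    (hinv : ∀ c ∈ cs, ∀ x < 2 ^ M.n, H1Orth.toV M.e x ∈ W →
      apC c x < 2 ^ M.n ∧ H1Orth.toV M.e (apC c x) ∈ W)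
    {u : ι → ZMod 2} (hu : u ∈ W) (hu0 : u ≠ 0) : W = ⊤ := by
  obtain ⟨v, hv, rfl⟩ := H1Orth.toV_surj M.e u
  have hgood : ∀ k S, GoodSet M W S → GoodSet M W (growN M cs k S) := by
    intro k
    induction k with
    | zero => exact fun S h => h
    | succ k ih => exact fun S h => ih _ (growC_good M hinv h)
  have h0 : GoodSet M W (1 <<< v) := by
    have := goodSet_or M (W := W) (S := 0) (x := v) (fun y hy => by simp at hy) ⟨hv, hu⟩
    rwa [Nat.zero_or] at this
  simp only [irrChk, List.all_eq_true, List.mem_range, Bool.or_eq_true, beq_iff_eq] at hchk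
  have hS := hgood k _ h0
  have hall := (hchk v hv).resolve_left fun e => hu0 (by rw [e, H1Orth.toV_zero])
  have hsingle : ∀ j : ι, (Pi.single j (1 : ZMod 2)) ∈ W := fun j => by
    rw [← H1Orth.toV_single M.e]; exact (hS _ (hall _ (M.e j).2)).2
  refine eq_top_iff.2 fun f _ => ?_
  rw [show f = ∑ j, Pi.single j (f j) from (Finset.univ_sum_single f).symm]
  refine W.sum_mem fun j _ => ?_
  rcases LeechFrame.z2 (f j) with e | e <;> rw [e]
  · rw [Pi.single_zero]; exact W.zero_mem
  · exact hsingle j

end Model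

end Cfsg.Agent.LeechOctadSectionTables46
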