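import Cfsg.Agent.Lib.LeechTransitive
import Cfsg.Agent.Lib.LeechOrder

/-!
Transitivity of the automorphism group on ordered orthogonal pairs of minimal vectors.

For `v ⊥ w` the vectors `v + w` and `v - w` have norm 64 and lie in one cross; the stabiliser of a
cross is monomial and moves any two orthogonal members to any other two.
-/

set_option autoImplicit false

open scoped Pointwise

namespace Cfsg.Agent.LeechOrthPairs

open Cfsg Cfsg.Agent.GolayBasic Cfsg.Agent.LeechBasic Cfsg.Agent.LeechAut Cfsg.Agent.LeechOrbit
open Cfsg.Agent.LeechOrder Cfsg.Agent.LeechIndex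
open Cfsg.Agent.GolayPerm (good permOf permOf_mem_M24)

/-- Permutations of the code fixing the extra point and sending one point to the point 0. -/
def permsTo : List ℕ :=
  [980275914351787324191492553553580224, 978127534630542868126355846376066049, 965821030361073719847814022296043683, 983350331206009268247438915376523843, 957388646321259774822570804901915795, 967775355460581737749518388520695009, 984600163590247362806179779145505833, 962121825276239607211455363287734960, 958726056257094075884180772576924935, 982788401095809812956993382642819361, 972632306315056009683815554060832898, 963460568879169083209473475469457686, 962490856400795498733768316121471587, 960150970951642669454850911466076374, 971373586971902820064784309886732463, 959532120280604536380192143430947403, 975521035704214752093224208077009130, 980106457146221389564379418514361479, 962177269282228603321713731364752067, 958393303502164445716060706508494276, 981506924570573545631802383397869062, 978754904164758987172986246609342124, 955711426904095975382402794974646889]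

theorem permsTo_spec : ∀ i : GolayPt, i ≠ none → ∃ P ∈ permsTo,
    good P = true ∧ permOf P none = none ∧ permOf P i = some 0 := by
  have h : ∀ j : ℕ, j < 23 → good (permsTo.getD j 0) = true ∧
      GolayPerm.pimg (permsTo.getD j 0) 23 = 23 ∧ GolayPerm.pimg (permsTo.getD j 0) j = 0 := by
    decide +kernel
  intro i hi
  have hlt : idx i < 23 := by
    cases i with
    | none => exact absurd rfl hi
    | some a => exact ZMod.val_lt a
  obtain ⟨h1, h2, h3⟩ := h (idx i) hlt
  refine ⟨_, ?_, h1, ?_, ?_⟩
  · rw [List.getD_eq_getElem _ _ (show idx i < permsTo.length from hlt)]; exact List.getElem_mem _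
  · rw [GolayPerm.permOf_apply (GolayPerm.valid_of_good h1), GolayPerm.pfun,
      show idx (none : GolayPt) = 23 from rfl, h2]
    rfl
  · rw [GolayPerm.permOf_apply (GolayPerm.valid_of_good h1), GolayPerm.pfun, h3]
    rfl

/-- Orthogonal norm 64 vectors of one cross go to two standard ones. -/
theorem pair_cross {a b : leechLattice} (ha : sqNorm (a : GolayPt → ℤ) = 64) (hb : b ∈ crossL a)
    (hd : dotInt (a : GolayPt → ℤ) b = 0) :
    ∃ g : Co0, g • a = frame none ∧ g • b = frame (some 0) := by
  obtain ⟨h, hh⟩ := exists_smul_eq (Or.inr (Or.inr rfl)) ha (sqNorm_frame none)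
  have hb' : h • b ∈ stdL := by
    rw [stdL_eq, ← hh, ← smul_crossL]; exact Set.smul_mem_smul_set hb
  obtain ⟨i, s, hs, hbi⟩ := hb'
  have hi : i ≠ none := by
    rintro rfl
    have h0 := dotInt_smul h a b
    rw [hd, hh, hbi] at h0
    rcases hs with rfl | rfl <;> simp [frame, unitVec, dotInt, Pi.single_apply] at h0
  obtain ⟨P, -, hP, hP0, hPi⟩ := permsTo_spec i hi
  obtain ⟨c, hc, hcn, hci⟩ : ∃ c : ℕ, inCode c = true ∧ none ∉ mset c ∧
      ((some 0 ∈ mset c) ↔ s = -8) := by
    rcases hs with rfl | rfl
    · exact ⟨0, by decide +kernel, by decide, by simp [mset_zero]⟩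
    · exact ⟨1302533, by decide +kernel, by decide +kernel,
        iff_of_true (by decide +kernel) rfl⟩
  refine ⟨monomial _ (permOf_mem_M24 hP) (mset c) ((mset_mem_supports (inCode_lt hc)).2 hc) * h, ?_, ?_⟩
  · rw [mul_smul, hh]
    apply Subtype.ext
    rw [coe_monomial_smul]
    funext q
    obtain ⟨p, rfl⟩ := (permOf P).surjective q
    simp only [signedPerm, Equiv.symm_apply_apply, frame, unitVec]
    by_cases hp : p = none
    · subst hp; rw [hP0, if_neg hcn]
    · rw [if_neg hp, neg_zero, ite_self, if_neg (fun e => hp ((permOf P).injective (e.trans hP0.symm)))]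
  · rw [mul_smul]
    apply Subtype.ext
    rw [coe_monomial_smul, hbi]
    funext q
    obtain ⟨p, rfl⟩ := (permOf P).surjective q
    simp only [signedPerm, Equiv.symm_apply_apply, frame, unitVec, Pi.single_apply]
    by_cases hp : p = i
    · subst hp
      rw [if_pos rfl, hPi, if_pos rfl]
      rcases hs with rfl | rfl
      · rw [if_neg (fun e => by simpa using hci.mp e)]
      · rw [if_pos (hci.mpr rfl)]; norm_num
    · rw [if_neg hp, neg_zero, ite_self, if_neg (fun e => hp ((permOf P).injective (e.trans hPi.symm)))]

/-- Ordered orthogonal pairs of minimal vectors form one orbit. -/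
theorem pair_orth {v w v' w' : leechLattice} (hv : sqNorm (v : GolayPt → ℤ) = 32)
    (hw : sqNorm (w : GolayPt → ℤ) = 32) (hd : dotInt (v : GolayPt → ℤ) w = 0)
    (hv' : sqNorm (v' : GolayPt → ℤ) = 32) (hw' : sqNorm (w' : GolayPt → ℤ) = 32)
    (hd' : dotInt (v' : GolayPt → ℤ) w' = 0) : ∃ g : Co0, g • v = v' ∧ g • w = w' := by
  have key : ∀ x y : leechLattice, sqNorm (x : GolayPt → ℤ) = 32 → sqNorm (y : GolayPt → ℤ) = 32 →
      dotInt (x : GolayPt → ℤ) y = 0 →
      ∃ g : Co0, g • (x + y) = frame none ∧ g • (x - y) = frame (some 0) := by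
    intro x y hx hy hxy
    refine pair_cross (by rw [AddSubgroup.coe_add, sqNorm_add, hx, hy, hxy]; norm_num) ⟨?_, ?_⟩ ?_
    · rw [AddSubgroup.coe_sub, sqNorm_sub, hx, hy, hxy]; norm_num
    · exact mem_twiceLeech.mpr ⟨(y : GolayPt → ℤ), y.2, by
        rw [AddSubgroup.coe_add, AddSubgroup.coe_sub]; funext p; simp; ring⟩
    · rw [AddSubgroup.coe_add, AddSubgroup.coe_sub]
      have e : dotInt ((x : GolayPt → ℤ) + (y : GolayPt → ℤ)) ((x : GolayPt → ℤ) - (y : GolayPt → ℤ)) =
          sqNorm (x : GolayPt → ℤ) - sqNorm (y : GolayPt → ℤ) := by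
        simp only [dotInt, sqNorm, Pi.add_apply, Pi.sub_apply, ← Finset.sum_sub_distrib]
        exact Finset.sum_congr rfl fun i _ => by ring
      rw [e, hx, hy]; norm_num
  obtain ⟨g, g1, g2⟩ := key v w hv hw hd
  obtain ⟨k, k1, k2⟩ := key v' w' hv' hw' hd'
  have t1 : (k⁻¹ * g) • (v + w) = v' + w' := by rw [mul_smul, inv_smul_eq_iff, g1, k1]
  have t2 : (k⁻¹ * g) • (v - w) = v' - w' := by rw [mul_smul, inv_smul_eq_iff, g2, k2]
  rw [smul_add_vec] at t1
  rw [smul_sub_vec] at t2
  refine ⟨k⁻¹ * g, ?_, ?_⟩
  · apply Subtype.ext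
    funext p
    have a := congrArg (fun z : leechLattice => (z : GolayPt → ℤ) p) t1
    have b := congrArg (fun z : leechLattice => (z : GolayPt → ℤ) p) t2
    simp only [AddSubgroup.coe_add, AddSubgroup.coe_sub, Pi.add_apply, Pi.sub_apply] at a b
    omega
  · apply Subtype.ext
    funext p
    have a := congrArg (fun z : leechLattice => (z : GolayPt → ℤ) p) t1
    have b := congrArg (fun z : leechLattice => (z : GolayPt → ℤ) p) t2
    simp only [AddSubgroup.coe_add, AddSubgroup.coe_sub, Pi.add_apply, Pi.sub_apply] at a b
    omega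

end Cfsg.Agent.LeechOrthPairs
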