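import Cfsg.Agent.Lib.LeechOutTool
import Cfsg.Agent.Lib.LeechOutGenData

/-!
Kernel checks for products of generators of the automorphism group of the lattice.
-/

set_option autoImplicit false

namespace Cfsg.Agent.LeechOutCo1

open Cfsg.Agent.LeechCert Cfsg.Agent.LeechOutTool Cfsg.Agent.LeechOutGenData

theorem lift_eq : eqOK (expand gensCo1 liftCo1_0) (permsCo1.getD 0 [] ++ liftSignCo1_0) = true := by
  decide +kernel

theorem sign_eq : eqOK (signsCo1.getD 0 []) (expand gensCo1 signIdxCo1) = true := by decide +kernel

end Cfsg.Agent.LeechOutCo1
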