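import Cfsg.Agent.Lib.LeechOutSign
import Cfsg.Agent.Lib.LeechOutCo1Check
import Cfsg.Agent.Lib.LeechMaximal
import Cfsg.Agent.Lib.GolayOutM24

/-!
Every automorphism of the automorphism group of the lattice modulo its centre is inner.
-/

set_option autoImplicit false

open scoped Pointwise

namespace Cfsg.Agent.LeechOutCo1

open Cfsg Cfsg.Agent.GolayBasic Cfsg.Agent.LeechBasic Cfsg.Agent.LeechAut Cfsg.Agent.LeechOrbit
open Cfsg.Agent.LeechCert Cfsg.Agent.LeechOutTool Cfsg.Agent.LeechCent11 Cfsg.Agent.LeechOutSep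
open Cfsg.Agent.LeechOutData Cfsg.Agent.LeechOutGenData Cfsg.Agent.LeechOutGroup Cfsg.Agent.LeechOutSign
open Cfsg.Agent.LeechStab (permHom signElt mono mem_mono)
open Cfsg.Agent.LeechOrder (stdL)
open Cfsg.Agent.GolayPerm (pts)

/-- The projection. -/
abbrev proj : Co0 →* Spor.Co1 := QuotientGroup.mk' (Subgroup.center Co0)

theorem proj_eq_one {a : Co0} : proj a = 1 ↔ a = 1 ∨ a = negAut := by
  rw [QuotientGroup.mk'_apply, QuotientGroup.eq_one_iff]
  refine ⟨center_eq, ?_⟩
  rintro (rfl | rfl)
  exacts [one_mem _, negAut_mem_center]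

theorem hN (a : Co0) : proj a = 1 ↔ (MonoidHom.id Co0) a ∈ [[], wNeg].map El := by
  rw [proj_eq_one]
  simp [El_nil, El_wNeg]

theorem card_Q : Nat.card Spor.Co1 = 23 * 180772904632320000 :=
  LeechCoOneSimple.card_quot.trans (by norm_num)

/-- An element commuting modulo the centre with one of odd order commutes with it. -/
theorem commute_lift {h y : Co0} {n : ℕ} (hn : Odd n) (hy : y ^ n = 1)
    (hc : Commute (proj h) (proj y)) : Commute h y := by
  have h1 : proj (h * y * h⁻¹ * y⁻¹) = 1 := by
    rw [map_mul, map_mul, map_mul, map_inv, map_inv, hc.eq, mul_inv_cancel_right, mul_inv_cancel]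
  rcases proj_eq_one.1 h1 with e | e
  · exact mul_inv_eq_iff_eq_mul.1 (mul_inv_eq_one.1 e)
  · exfalso
    have e' : h * y * h⁻¹ = negAut * y := mul_inv_eq_iff_eq_mul.1 e
    have h2 : (negAut * y) ^ n = 1 := by rw [← e', conj_pow, hy, mul_one, mul_inv_cancel]
    have hcn : Commute negAut y := (Subgroup.mem_center_iff.1 negAut_mem_center y).symm
    obtain ⟨m, rfl⟩ := hn
    rw [hcn.mul_pow, hy, mul_one, pow_succ, pow_mul, pow_two, LeechCoOneSimple.negAut_sq, one_pow,
      one_mul] at h2
    have h3 := congrArg (fun g : Co0 => ((g • frame none : leechLattice) : GolayPt → ℤ) none) h2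
    simp only [negAut_smul, one_smul, AddSubgroup.coe_neg, Pi.neg_apply,
      LeechNormalizers.frame_none_apply] at h3
    simp at h3

theorem pow_checks : eqOK (rep 11 w11) [] = true ∧ eqOK (rep 23 w23) [] = true ∧
    neOK w23 [] = true ∧ neOK w23 wNeg = true := by decide +kernel

theorem pow11 : El w11 ^ 11 = 1 := by
  rw [← pow_eq (by decide +kernel), El_eq pow_checks.1, El_nil]

theorem pow23 : El w23 ^ 23 = 1 := by
  rw [← pow_eq (by decide +kernel), El_eq pow_checks.2.1, El_nil]

theorem cent_x {g : Spor.Co1} (hg : Commute g (proj (El w23))) : ∃ k : ℕ, g = proj (El w23) ^ k := by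
  obtain ⟨h, rfl⟩ := QuotientGroup.mk'_surjective _ g
  have hc := commute_lift (by decide) pow23 hg
  rw [El_w23] at hc ⊢
  obtain ⟨k, hk | hk⟩ := commute_g23 hc <;> refine ⟨k, ?_⟩
  · rw [hk, map_pow]
  · rw [hk, map_mul, map_pow, proj_eq_one.2 (Or.inr rfl), mul_one]

theorem table : tableOK w23 w23i w11 zCo1 [[], wNeg] c11 sepWordsCo1 sepTabCo1 [(false, 45), (false, 66)] = true := by
  decide +kernel

theorem gens_top (K : Subgroup Co0) (h : El w23 ∈ K ∧ El w11 ∈ K ∧ El zCo1 ∈ K) : K = ⊤ := by
  have hsix : gensCo1.length = 6 ∧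
      (List.range 6).all (fun i => eqOK (gensCo1.getD i []) ((gens6 w23 w23i w11 w11i zCo1 zCo1i).getD i [])) = true := by
    decide +kernel
  have h6 := gens6_mem (wxi := w23i) (wyi := w11i) (wzi := zCo1i) (by decide +kernel) (by decide +kernel)
    (by decide +kernel) h
  have hW : ∀ w ∈ gensCo1, El w ∈ K := by
    obtain ⟨hlen, he⟩ := hsix
    intro w hw
    obtain ⟨i, hi, rfl⟩ := List.getElem_of_mem hw
    simp only [List.all_eq_true, List.mem_range] at he
    rw [← List.getD_eq_getElem _ [] hi, El_eq (he i (hlen ▸ hi))]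
    have hi' : i < (gens6 w23 w23i w11 w11i zCo1 zCo1i).length := hlen ▸ hi
    rw [List.getD_eq_getElem _ _ hi']
    exact h6 _ (List.getElem_mem hi')
  have hWv : ∀ w ∈ gensCo1, wordValid w = true :=
    List.all_eq_true.1 (by decide +kernel : gensCo1.all wordValid = true)
  have hlift := expand_mem hWv hW liftCo1_0
  rw [El_eq lift_eq] at hlift
  have hsigns : ∀ w ∈ signsCo1, El w ∈ K := by
    refine steps_mem (P := [permsCo1.getD 0 [] ++ liftSignCo1_0, w23, w11]) (steps := stepsCo1)
      (by decide +kernel) ?_ ?_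
    · rw [El_eq sign_eq]; exact expand_mem hWv hW _
    · intro w hw
      simp only [List.mem_cons, List.not_mem_nil, or_false] at hw
      rcases hw with rfl | rfl | rfl
      exacts [hlift, h.1, h.2.1]
  have hms : ∀ m ∈ masksCo1, SignIn K m := masks_mem (by decide +kernel) hsigns
  have hall := all_signs (K := K) (ms := masksCo1) (by decide +kernel) hms
  have hperm : ∀ σ : M24, permHom σ ∈ K := by
    refine mem_of_closure permHom GolayOutM24.closure_gens ?_
    intro t ht
    rcases ht with rfl | rfl | rfl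
    · exact permHom_mem (W := [w23]) (by simp [(by decide +kernel : wordValid w23 = true)])
        (K := K) (by simpa using h.1) (l := [0]) (P := GolayOutConst.pZ) (by decide +kernel) rfl
    · exact permHom_mem (W := [w11]) (by simp [(by decide +kernel : wordValid w11 = true)])
        (K := K) (by simpa using h.2.1) (l := [0]) (P := GolayOutConst.pT) (by decide +kernel) rfl
    · exact permHom_of_mono (P := GolayOutConst.pU10) (m := liftMaskCo1_0) (by decide +kernel) hlift
        (signIn_span hms _ (List.elem_iff.1 (by decide +kernel : (spanList masksCo1).elem liftMaskCo1_0 = true))) rfl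
  have hmono : MulAction.stabilizer Co0 stdL ≤ K := by
    intro g hg
    obtain ⟨σ, hσ, c, hc, rfl⟩ := mem_mono.mp hg
    rw [monomial_split]
    exact mul_mem (hall ⟨c, hc⟩) (hperm ⟨σ, hσ⟩)
  refine LeechMaximal.eq_top hmono (LeechMaximal.xi_mem hmono h.2.2 fun he => ?_)
  obtain ⟨σ, hσ, c, hc, e⟩ := mem_mono.mp (MulAction.mem_stabilizer_iff.mpr he)
  obtain ⟨q1, h1, q2, h2, hne, hd1, hd2⟩ : ∃ q1 < 24, ∃ q2 < 24, q1 ≠ q2 ∧
      dig (applyWord zCo1 (LeechFreeInvolution.frameCodes.getD 23 0)) q1 ≠ 0 ∧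
      dig (applyWord zCo1 (LeechFreeInvolution.frameCodes.getD 23 0)) q2 ≠ 0 := by decide +kernel
  have key : ∀ q < 24, dig (applyWord zCo1 (LeechFreeInvolution.frameCodes.getD 23 0)) q ≠ 0 → pt q = σ none := by
    intro q hq hd
    by_contra hq'
    apply hd
    have hv := congrFun (El_frame (w := zCo1) (by decide +kernel) none) (pt q)
    rw [vec_pt _ hq, e, coe_monomial_smul, show idx (none : GolayPt) = 23 from rfl] at hv
    rw [← hv]
    have hne' : σ.symm (pt q) ≠ none := fun e' => hq' ((Equiv.symm_apply_eq σ).1 e')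
    simp only [signedPerm]
    change (if pt q ∈ c then -((frame none : leechLattice) : GolayPt → ℤ) (σ.symm (pt q))
      else ((frame none : leechLattice) : GolayPt → ℤ) (σ.symm (pt q))) = 0
    rw [LeechNormalizers.frame_none_apply, if_neg hne', neg_zero, ite_self]
  exact hne (by rw [← idx_pt h1, ← idx_pt h2, key q1 h1 hd1, key q2 h2 hd2])

theorem card_out : Nat.card (Out Spor.Co1) = 1 := by
  haveI := LeechOrder.finite_Co0
  have hgen : Subgroup.closure ({proj (El w23), proj (El w11), proj (El zCo1)} : Set Spor.Co1) = ⊤ := by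
    set L : Subgroup Spor.Co1 := Subgroup.closure {proj (El w23), proj (El w11), proj (El zCo1)}
    have h := gens_top (L.comap proj) ⟨Subgroup.subset_closure (by simp), Subgroup.subset_closure (by simp),
      Subgroup.subset_closure (by simp)⟩
    rw [eq_top_iff]
    intro g _
    obtain ⟨a, rfl⟩ := QuotientGroup.mk'_surjective _ g
    have : a ∈ L.comap proj := h ▸ Subgroup.mem_top a
    exact this
  refine GolayOutGen.card_out_eq_one hgen fun φ => ?_
  obtain ⟨h1, h2, h3⟩ := rels (wx := w23) (wy := w11) (wz := zCo1) (r := 2) (r' := 12) (a := 1)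
    (by decide +kernel)
  have hx : orderOf (proj (El w23)) = 23 := by
    haveI : Fact (Nat.Prime 23) := ⟨by norm_num⟩
    refine orderOf_eq_prime (by rw [← map_pow, pow23, map_one]) fun he => ?_
    rcases proj_eq_one.1 he with e | e
    · exact El_ne pow_checks.2.2.1 (e.trans El_nil.symm)
    · exact El_ne pow_checks.2.2.2 (e.trans El_wNeg.symm)
  obtain ⟨ψ, hψ, hsx, hsy, c, hc, hcz⟩ := LeechOutCrit.normal_form (p := 23) (m := 180772904632320000)
    (by norm_num) (by norm_num) card_Q (x := proj (El w23)) (y := proj (El w11)) (z := proj (El zCo1))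
    (r := 2) (r' := 12) (a := 1) hx (by rw [← map_mul, h1, map_mul, map_pow])
    (by rw [← map_mul, h2, map_mul, map_pow]) (by rw [← map_mul, h3, map_mul, map_pow])
    (by decide +kernel) (by decide +kernel) (fun g hg => cent_x hg) φ
  obtain ⟨cw, rfl⟩ := QuotientGroup.mk'_surjective _ c
  have hcy := commute_lift (by decide) pow11 hc
  rw [El_w11] at hcy
  obtain ⟨b, i, hbi, hbx, hfc⟩ := exists_allowed (MonoidHom.id Co0) proj hN (x := El w23) (y := El w11)
    (z := El zCo1) (c := cw) rfl (by decide +kernel : eqOK (w23 ++ w23i) [] = true) rfl rfl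
    (commute_g11 hcy) hsx hsy hcz table
  refine ⟨ψ, hψ, ?_⟩
  have hc1 : b = false ∧ proj cw = 1 := by
    simp only [List.mem_cons, Prod.mk.injEq, List.not_mem_nil, or_false] at hbi
    rw [MonoidHom.id_apply] at hfc
    rcases hbi with ⟨rfl, rfl⟩ | ⟨rfl, rfl⟩ <;> refine ⟨rfl, proj_eq_one.2 ?_⟩ <;> rw [hfc]
    · first
      | exact Or.inl ((El_eq (by decide +kernel : eqOK (c11.getD 45 []) [] = true)).trans El_nil)
      | exact Or.inr ((El_eq (by decide +kernel : eqOK (c11.getD 45 []) wNeg = true)).trans El_wNeg)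
    · first
      | exact Or.inl ((El_eq (by decide +kernel : eqOK (c11.getD 66 []) [] = true)).trans El_nil)
      | exact Or.inr ((El_eq (by decide +kernel : eqOK (c11.getD 66 []) wNeg = true)).trans El_wNeg)
  obtain ⟨rfl, hc1⟩ := hc1
  intro t ht
  rcases ht with rfl | rfl | rfl
  · exact hbx
  · exact hsy
  · rw [hcz, hc1, mul_one]

end Cfsg.Agent.LeechOutCo1
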