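import Cfsg.Agent.Lib.LeechOutTool
import Cfsg.Agent.Lib.LeechOutGenData

/-!
Kernel checks for products of generators of the stabiliser of a minimal vector.
-/

set_option autoImplicit false

namespace Cfsg.Agent.LeechOutCo2

open Cfsg.Agent.LeechCert Cfsg.Agent.LeechOutTool Cfsg.Agent.LeechOutGenData

theorem lift0_eq : eqOK (expand gensCo2 liftCo2_0) (permsCo2.getD 0 [] ++ liftSignCo2_0) = true := by
  decide +kernel

theorem sign_eq : eqOK (signsCo2.getD 0 []) (expand gensCo2 signIdxCo2) = true := by decide +kernel

end Cfsg.Agent.LeechOutCo2
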