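import Cfsg.Agent.Lib.LeechOutGroup
import Cfsg.Agent.Lib.LeechCent5

/-!
Common steps for the stabilisers of the two standard pairs.
-/

set_option autoImplicit false

open scoped Pointwise

namespace Cfsg.Agent.LeechOutPair

open Cfsg Cfsg.Agent.GolayBasic Cfsg.Agent.LeechBasic Cfsg.Agent.LeechAut Cfsg.Agent.LeechOrbit
open Cfsg.Agent.LeechCert Cfsg.Agent.LeechOutTool Cfsg.Agent.LeechCent11 Cfsg.Agent.LeechOutSep
open Cfsg.Agent.LeechOutData Cfsg.Agent.LeechOutGenData Cfsg.Agent.LeechOutGroup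
open Cfsg.Agent.LeechNormalizers (g11)
open Cfsg.Agent.LeechStab (permHom)

/-- The joint stabiliser. -/
def S (w : leechLattice) : Subgroup Co0 :=
  MulAction.stabilizer Co0 Spor.leechV ⊓ MulAction.stabilizer Co0 w

theorem mem_S {w : leechLattice} {u : ℕ} (hw : (w : GolayPt → ℤ) = vec u) {a : List Step}
    (h1 : fixes a cV = true) (h2 : fixes a u = true) : El a ∈ S w :=
  ⟨MulAction.mem_stabilizer_iff.mpr (El_fixes h1 coe_leechV), MulAction.mem_stabilizer_iff.mpr (El_fixes h2 hw)⟩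

theorem c11_valid : ∀ w ∈ c11, wordValid w = true := by
  have h : c11.all wordValid = true := by decide +kernel
  exact List.all_eq_true.1 h

/-- The centralising elements fixing the pair are powers. -/
noncomputable def powOK (u : ℕ) : Bool :=
  c11.all fun a => !(fixB a cV && fixB a u) || (List.range 11).any fun k => eqOK a (rep k w11)

theorem cent_x {w : leechLattice} {u : ℕ} (hw : (w : GolayPt → ℤ) = vec u)
    (hn : sqNorm (w : GolayPt → ℤ) ≤ 80) (hok : powOK u = true) {g : Co0} (hg : g ∈ S w)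
    (hc : Commute g (El w11)) : ∃ k : ℕ, g = El w11 ^ k := by
  rw [El_w11] at hc
  obtain ⟨a, ha, rfl⟩ := commute_g11 hc
  have hv := c11_valid a ha
  simp only [powOK, List.all_eq_true, Bool.or_eq_true, List.any_eq_true, List.mem_range, Bool.not_eq_true',
    Bool.and_eq_false_iff] at hok
  rcases hok a ha with (h | h) | ⟨k, -, hk⟩
  · rw [fixB_of_smul hv (by rw [LeechPairs.sqNorm_leechV]; norm_num) coe_leechV
      (MulAction.mem_stabilizer_iff.mp hg.1)] at h
    exact absurd h (by decide)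
  · rw [fixB_of_smul hv hn hw (MulAction.mem_stabilizer_iff.mp hg.2)] at h
    exact absurd h (by decide)
  · refine ⟨k, ?_⟩
    rw [El_eq hk, pow_eq (by decide +kernel)]

/-- The stabiliser of the Mathieu group as a map. -/
noncomputable def ι22 : Spor.M22 →* M24 :=
  Subgroup.inclusion (fun _ hg => (GolayOutM22.mem_iff.1 hg).1)

theorem ι22_none (g : Spor.M22) : ((ι22 g : M24) : Equiv.Perm GolayPt) none = none :=
  (GolayOutM22.mem_iff.1 g.2).2.1

theorem perm22_mem {K : Subgroup Co0} {W : List (List Step)} (hW : ∀ w ∈ W, El w ∈ K)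
    (hv : ∀ w ∈ W, wordValid w = true) {l l' : List ℕ}
    (h1 : monoOK' (expand W l) GolayOutConst.pT 0 = true) (h2 : monoOK' (expand W l') GolayOutConst.pV22 0 = true) :
    ∀ g, permHom (ι22 g) ∈ K := by
  refine mem_of_closure (permHom.comp ι22) GolayOutM22.closure_gens ?_
  intro g hg
  rcases hg with rfl | rfl
  · exact permHom_mem hv hW (σ := ι22 GolayOutM22.gT) h1 rfl
  · exact permHom_mem hv hW (σ := ι22 GolayOutM22.gV) h2 rfl

theorem gens_le {w : leechLattice} [IsSimpleGroup (S w)] (K : Subgroup Co0) (hKS : K ≤ S w) {wz wzi : List Step}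
    (hzi : eqOK (wz ++ wzi) [] = true) (h : El w11 ∈ K ∧ El wU ∈ K ∧ El wz ∈ K) {l : List ℕ}
    (h2 : monoOK' (expand (gens6 w11 w11i wU wUi wz wzi) l) GolayOutConst.pV22 0 = true) {count : ℕ}
    {scripts : List ℕ}
    (horb : orbitOK (gens6 w11 w11i wU wUi wz wzi) (LeechFreeInvolution.frameCodes.getD 23 0) 64 scripts count = true)
    (hdvd : 11 ∣ Nat.card (S w)) (hlt : Nat.card (S w) < 11 * (count * 443520)) : S w ≤ K := by
  have hxi : eqOK (w11 ++ w11i) [] = true := by decide +kernel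
  have hyi : eqOK (wU ++ wUi) [] = true := by decide +kernel
  have hW := gens6_mem hxi hyi hzi h
  have hv := gens6_valid hxi hyi hzi
  have hcard := card_ge_perm ι22 (Subgroup.inclusion_injective _) ι22_none
    (perm22_mem hW hv (l := [0]) (by
      have : expand (gens6 w11 w11i wU wUi wz wzi) [0] = w11 ++ [] := rfl
      rw [this]; decide +kernel) h2) hW horb
  rw [GolayM24.card_M22] at hcard
  exact le_of_bound hKS (p := 11) (by norm_num) hdvd hcard hlt

theorem closure_top {w : leechLattice} [IsSimpleGroup (S w)] {wz wzi : List Step}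
    (hxS : El w11 ∈ S w) (hyS : El wU ∈ S w) (hzS : El wz ∈ S w) (hzi : eqOK (wz ++ wzi) [] = true) {l : List ℕ}
    (h2 : monoOK' (expand (gens6 w11 w11i wU wUi wz wzi) l) GolayOutConst.pV22 0 = true) {count : ℕ}
    {scripts : List ℕ}
    (horb : orbitOK (gens6 w11 w11i wU wUi wz wzi) (LeechFreeInvolution.frameCodes.getD 23 0) 64 scripts count = true)
    (hdvd : 11 ∣ Nat.card (S w)) (hlt : Nat.card (S w) < 11 * (count * 443520)) :
    Subgroup.closure ({⟨_, hxS⟩, ⟨_, hyS⟩, ⟨_, hzS⟩} : Set (S w)) = ⊤ := by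
  refine closure_sub ?_
  rw [Set.image_insert_eq, Set.image_insert_eq, Set.image_singleton]
  refine gens_le _ ((Subgroup.closure_le _).2 ?_) hzi ⟨?_, ?_, ?_⟩ h2 horb hdvd hlt
  · intro g hg
    rcases hg with rfl | rfl | rfl
    exacts [hxS, hyS, hzS]
  iterate 3 exact Subgroup.subset_closure (by simp)

/-- Conjugation as an automorphism of a subgroup it preserves. -/
noncomputable def conjOn (T : Subgroup Co0) (e : Co0) (h : ∀ g, g ∈ T ↔ e * g * e⁻¹ ∈ T) : MulAut T where
  toFun g := ⟨e * g * e⁻¹, (h g).1 g.2⟩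
  invFun g := ⟨e⁻¹ * g * e, (h _).2 (by
    rw [show e * (e⁻¹ * (g : Co0) * e) * e⁻¹ = g by group]; exact g.2)⟩
  left_inv g := Subtype.ext (by
    show e⁻¹ * (e * (g : Co0) * e⁻¹) * e = g
    group)
  right_inv g := Subtype.ext (by
    show e * (e⁻¹ * (g : Co0) * e) * e⁻¹ = g
    group)
  map_mul' g k := Subtype.ext (by
    show e * ((g : Co0) * k) * e⁻¹ = e * g * e⁻¹ * (e * k * e⁻¹)
    group)

theorem conj_mem_iff {w : leechLattice} {e : Co0}
    (h : ∀ g : Co0, (g • Spor.leechV = Spor.leechV ∧ g • w = w) ↔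
      (g • (e • Spor.leechV) = e • Spor.leechV ∧ g • (e • w) = e • w)) :
    ∀ g, g ∈ S w ↔ e * g * e⁻¹ ∈ S w := by
  intro g
  simp only [S, Subgroup.mem_inf, MulAction.mem_stabilizer_iff]
  rw [h (e * g * e⁻¹)]
  simp [mul_smul, inv_smul_smul]

/-- From a normal form with two possibilities and an outer automorphism. -/
theorem out_two {G : Type*} [Group G] {x y z x' z' : G} (hgen : Subgroup.closure ({x, y, z} : Set G) = ⊤)
    (h : ∀ φ : MulAut G, ∃ ψ, GolayOutGen.Sim φ ψ ∧ ψ y = y ∧ ((ψ x = x ∧ ψ z = z) ∨ (ψ x = x' ∧ ψ z = z')))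
    (s : MulAut G) (hs : s ∉ Inn G) : Nat.card (Out G) = 2 := by
  obtain ⟨χ, hχ, hχy, ⟨h1, h2⟩ | ⟨e1, e2⟩⟩ := h s
  · exfalso
    apply hs
    have := hχ
    rw [GolayOutGen.Sim, GolayOutGen.eq_of_gens hgen (φ := χ) (ψ := 1) (by
      intro t ht
      rcases ht with rfl | rfl | rfl
      exacts [h1, hχy, h2]), inv_one, mul_one] at this
    exact this
  refine GolayOutGen.card_out_eq_two hgen χ (fun φ => ?_) s hs
  obtain ⟨ψ, hψ, hψy, ⟨h1, h2⟩ | ⟨hx', hz'⟩⟩ := h φ
  · refine ⟨ψ, hψ, Or.inl fun t ht => ?_⟩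
    rcases ht with rfl | rfl | rfl
    exacts [h1, hψy, h2]
  · refine ⟨ψ, hψ, Or.inr fun t ht => ?_⟩
    rcases ht with rfl | rfl | rfl
    exacts [hx'.trans e1.symm, hψy.trans hχy.symm, hz'.trans e2.symm]

end Cfsg.Agent.LeechOutPair
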