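import Cfsg.Agent.Lib.LeechOutSign
import Cfsg.Agent.Lib.LeechOutPair
import Cfsg.Agent.Lib.LeechOutCo2CheckA
import Cfsg.Agent.Lib.LeechOutCo2CheckB

/-!
Every automorphism of the stabiliser of a minimal vector is inner.
-/

set_option autoImplicit false

open scoped Pointwise

namespace Cfsg.Agent.LeechOutCo2

open Cfsg Cfsg.Agent.GolayBasic Cfsg.Agent.LeechBasic Cfsg.Agent.LeechAut Cfsg.Agent.LeechOrbit
open Cfsg.Agent.LeechCert Cfsg.Agent.LeechOutTool Cfsg.Agent.LeechCent11 Cfsg.Agent.LeechOutSep
open Cfsg.Agent.LeechOutData Cfsg.Agent.LeechOutGenData Cfsg.Agent.LeechOutGroup Cfsg.Agent.LeechOutSign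
open Cfsg.Agent.LeechStab (permHom)

/-- The code of the vector with one `-3`. -/
def cOne : ℕ := 562777982086355510705240892457403953

/-- The vector with one `-3`. -/
noncomputable def One : leechLattice := ⟨LeechCoSimple.vecOne, LeechCoSimple.vecOne_mem⟩

theorem coe_One : (One : GolayPt → ℤ) = vec cOne := by
  show LeechCoSimple.vecOne = _
  funext p; revert p; decide +kernel

theorem norm_One : sqNorm (One : GolayPt → ℤ) = 32 := by
  show sqNorm LeechCoSimple.vecOne = _
  decide +kernel

/-- The stabiliser. -/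
noncomputable def S : Subgroup Co0 := MulAction.stabilizer Co0 One

theorem mem_S {w : List Step} (h : fixes w cOne = true) : El w ∈ S :=
  MulAction.mem_stabilizer_iff.mpr (El_fixes h coe_One)

theorem hx : El w23 ∈ S := mem_S (by decide +kernel)

theorem hy : El w11 ∈ S := mem_S (by decide +kernel)

theorem hz : El zCo2 ∈ S := mem_S (by decide +kernel)

theorem card_S : Nat.card S = 23 * 1839366144000 :=
  (LeechCertOrders.card_stab_norm32 (v := One) norm_One).trans (by norm_num)

/-- The centralising elements in the stabiliser. -/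
noncomputable def C : List (List Step) := c11.filter fun w => fixB w cOne

theorem cent_y {g : Co0} (hg : g ∈ S) (hc : Commute g (El w11)) : ∃ w ∈ C, g = El w := by
  rw [El_w11] at hc
  obtain ⟨w, hw, rfl⟩ := commute_g11 hc
  exact ⟨w, List.mem_filter.2 ⟨hw, fixB_of_smul (LeechOutPair.c11_valid w hw)
    (by rw [norm_One]; norm_num) coe_One (MulAction.mem_stabilizer_iff.mp hg)⟩, rfl⟩

theorem cent_x {g : Co0} (hg : g ∈ S) (hc : Commute g (El w23)) : ∃ k : ℕ, g = El w23 ^ k := by
  rw [El_w23] at hc ⊢
  obtain ⟨k, hk | hk⟩ := commute_g23 hc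
  · exact ⟨k, hk⟩
  · exfalso
    have hk' : LeechNormalizers.g23 ^ k ∈ S := pow_mem (El_w23 ▸ hx) k
    have hn : negAut ∈ S := by
      have := mul_mem (inv_mem hk') hg
      rwa [hk, inv_mul_cancel_left] at this
    have h2 := MulAction.mem_stabilizer_iff.mp hn
    rw [negAut_smul] at h2
    have := congrArg (fun v : leechLattice => (v : GolayPt → ℤ) none) h2
    exact absurd this (by decide +kernel)

theorem conj_checks :
    eqOK (g0 ++ g0i) [] = true ∧ wordValid gensCo2.flatten = true ∧
    (List.range 3).all (fun i => eqOK (gensCo2.getD i [])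
      (g0i ++ ([w23, w11, zCo2].getD i [] ++ g0)) && eqOK (gensCo2.getD i [] ++ gensCo2.getD (i + 3) []) []) = true ∧
    gensCo2.length = 6 ∧ applyWord g0 cOne = cU := by decide +kernel

theorem gens_le (K : Subgroup Co0) (h : El w23 ∈ K ∧ El w11 ∈ K ∧ El zCo2 ∈ K) (hKS : K ≤ S) : S ≤ K := by
  haveI := LeechOrder.finite_Co0
  obtain ⟨hg, hval, hgen, hlen, hmove⟩ := conj_checks
  set g := El g0 with hgdef
  have hgU : g • One = Spor.leechU := Subtype.ext (by
    rw [hgdef, El_smul (by decide +kernel) _ _ (by rw [norm_One]; norm_num) coe_One, hmove, coe_leechU])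
  set K' := K.map (MulAut.conj g).toMonoidHom with hK'
  have hS' : MulAction.stabilizer Co0 Spor.leechU = S.map (MulAut.conj g).toMonoidHom := by
    rw [← hgU, MulAction.stabilizer_smul_eq_stabilizer_map_conj]
    rfl
  have hWv : ∀ w ∈ gensCo2, wordValid w = true := by
    intro w hw
    simp only [wordValid, List.all_eq_true] at hval ⊢
    exact fun s hs => hval s (List.mem_flatten.2 ⟨w, hw, hs⟩)
  simp only [List.all_eq_true, Bool.and_eq_true, List.mem_range] at hgen
  have hbase : ∀ i < 3, El (gensCo2.getD i []) ∈ K' := by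
    intro i hi
    have hv : wordValid ([w23, w11, zCo2].getD i []) = true :=
      (by decide +kernel : ∀ i < 3, wordValid ([w23, w11, zCo2].getD i []) = true) i hi
    rw [El_eq (hgen i hi).1, El_append (by decide +kernel) (by rw [wordValid_append, hv]; decide +kernel),
      El_append hv (by decide +kernel), El_inv hg]
    refine ⟨El ([w23, w11, zCo2].getD i []), ?_, rfl⟩
    interval_cases i
    exacts [h.1, h.2.1, h.2.2]
  have hW : ∀ w ∈ gensCo2, El w ∈ K' := by
    intro w hw
    obtain ⟨i, hi, rfl⟩ := List.getElem_of_mem hw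
    rw [← List.getD_eq_getElem _ [] hi]
    rw [hlen] at hi
    rcases lt_or_ge i 3 with h3 | h3
    · exact hbase i h3
    · obtain ⟨j, rfl⟩ : ∃ j, i = j + 3 := ⟨i - 3, by omega⟩
      rw [El_inv (hgen j (by omega)).2]
      exact inv_mem (hbase j (by omega))
  have hlift0 := expand_mem hWv hW liftCo2_0
  have hlift1 := expand_mem hWv hW liftCo2_1
  rw [El_eq lift0_eq] at hlift0
  rw [El_eq lift1_eq] at hlift1
  have hsigns : ∀ w ∈ signsCo2, El w ∈ K' := by
    refine steps_mem (P := [permsCo2.getD 0 [] ++ liftSignCo2_0, permsCo2.getD 1 [] ++ liftSignCo2_1]) (steps := stepsCo2)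
      (by decide +kernel) ?_ ?_
    · rw [El_eq sign_eq]
      exact expand_mem hWv hW _
    · intro w hw
      simp only [List.mem_cons, List.not_mem_nil, or_false] at hw
      rcases hw with rfl | rfl
      exacts [hlift0, hlift1]
  have hms : ∀ m ∈ masksCo2, SignIn K' m := masks_mem (by decide +kernel) hsigns
  have hsp : ∀ m, (spanList masksCo2).elem m = true → SignIn K' m :=
    fun m hm => signIn_span hms m (List.elem_iff.1 hm)
  have hperm : ∀ h : Spor.M22, permHom (LeechOutPair.ι22 h) ∈ K' := by
    refine mem_of_closure (permHom.comp LeechOutPair.ι22) GolayOutM22.closure_gens ?_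
    intro t ht
    rcases ht with rfl | rfl
    · exact permHom_of_mono (P := GolayOutConst.pT) (m := liftMaskCo2_0) (by decide +kernel) hlift0
        (hsp _ (by decide +kernel)) (σ := LeechOutPair.ι22 GolayOutM22.gT) rfl
    · exact permHom_of_mono (P := GolayOutConst.pV22) (m := liftMaskCo2_1) (by decide +kernel) hlift1
        (hsp _ (by decide +kernel)) (σ := LeechOutPair.ι22 GolayOutM22.gV) rfl
  have hcard := card_ge_mono LeechOutPair.ι22 (Subgroup.inclusion_injective _) LeechOutPair.ι22_none hperm
    (n := 1024) (by decide +kernel) hms (by decide +kernel) hW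
    (B := 64) (count := 4051) (scripts := scriptsCo2) orbit_ok
  rw [GolayM24.card_M22, hK', ← Nat.card_congr (Subgroup.equivMapOfInjective K _ (MulAut.conj g).injective).toEquiv]
    at hcard
  haveI : IsSimpleGroup S := LeechCoSimple.isSimple_stab32 norm_One
  exact le_of_bound hKS (p := 23) (by norm_num) ⟨_, card_S⟩ hcard (by rw [card_S]; norm_num)

theorem table : tableOK w23 w23i w11 zCo2 [[]] C sepWordsCo2 sepTabCo2 [(false, 0)] = true := by decide +kernel

theorem card_out : Nat.card (Out S) = 1 := by
  haveI := LeechOrder.finite_Co0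
  have hgen : Subgroup.closure ({⟨_, hx⟩, ⟨_, hy⟩, ⟨_, hz⟩} : Set S) = ⊤ := by
    refine closure_sub ?_
    rw [Set.image_insert_eq, Set.image_insert_eq, Set.image_singleton]
    refine gens_le _ ⟨?_, ?_, ?_⟩ ((Subgroup.closure_le _).2 ?_)
    iterate 3 exact Subgroup.subset_closure (by simp)
    intro g hg
    rcases hg with rfl | rfl | rfl
    exacts [hx, hy, hz]
  refine GolayOutGen.card_out_eq_one hgen fun φ => ?_
  obtain ⟨ψ, hψ, hψy, b, i, hbi, hψx, c, hψz, hc⟩ := normal_form_sub (p := 23) (m := 1839366144000) (r := 2)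
    (r' := 12) (a := 10) (by norm_num) (by norm_num) card_S hx hy hz (wxi := w23i) (by decide +kernel)
    (by decide +kernel) (by decide +kernel) (by decide +kernel) (by decide +kernel) (by decide +kernel)
    (fun g hg hc => cent_x hg hc) (fun g hg hc => cent_y hg hc) table φ
  refine ⟨ψ, hψ, ?_⟩
  rw [List.mem_singleton, Prod.mk.injEq] at hbi
  obtain ⟨rfl, rfl⟩ := hbi
  have hc1 : c = 1 := Subtype.ext (by
    rw [hc, El_eq (by decide +kernel : eqOK (C.getD 0 []) [] = true), El_nil]; rfl)
  intro t ht
  rcases ht with rfl | rfl | rfl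
  · exact hψx
  · exact hψy
  · rw [hψz, hc1, mul_one]

theorem card_out_Co2 : Nat.card (Out Spor.Co2) = 1 := by
  obtain ⟨g, hg⟩ := LeechOrbit.exists_smul_eq (Or.inl rfl) (v := One) (w := Spor.leechU)
    (show sqNorm (One : GolayPt → ℤ) = (32 : ℕ) by exact_mod_cast norm_One) (by decide +kernel)
  rw [show Nat.card (Out Spor.Co2) = Nat.card (Out ↥(MulAction.stabilizer Co0 Spor.leechU)) from
      (LeechOutCrit.card_out_congr (LeechCertOrders.infStabEquiv Spor.leechU)).symm,
    ← LeechOutCrit.card_out_congr (MulAction.stabilizerEquivStabilizer (g := g) (a := One)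
      (b := Spor.leechU) hg.symm)]
  exact card_out

end Cfsg.Agent.LeechOutCo2
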