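import Cfsg.Agent.Lib.LeechOutGroup
import Cfsg.Agent.Lib.GolayOutM23

/-!
Every automorphism of the stabiliser of a norm 48 vector is inner.
-/

set_option autoImplicit false

open scoped Pointwise

namespace Cfsg.Agent.LeechOutCo3

open Cfsg Cfsg.Agent.GolayBasic Cfsg.Agent.LeechBasic Cfsg.Agent.LeechAut Cfsg.Agent.LeechOrbit
open Cfsg.Agent.LeechCert Cfsg.Agent.LeechOutTool Cfsg.Agent.LeechCent11 Cfsg.Agent.LeechOutSep
open Cfsg.Agent.LeechOutData Cfsg.Agent.LeechOutGenData Cfsg.Agent.LeechOutGroup
open Cfsg.Agent.LeechStab (permHom)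

/-- The stabiliser. -/
def S : Subgroup Co0 := MulAction.stabilizer Co0 Spor.leechV

theorem mem_S {w : List Step} (h : fixes w cV = true) : El w ∈ S :=
  MulAction.mem_stabilizer_iff.mpr (El_fixes h coe_leechV)

theorem hx : El w23 ∈ S := mem_S (by decide +kernel)

theorem hy : El w11 ∈ S := mem_S (by decide +kernel)

theorem hz : El zCo3 ∈ S := mem_S (by decide +kernel)

theorem card_S : Nat.card S = 23 * 21555072000 :=
  (LeechCertOrders.card_stab_norm48 (v := Spor.leechV) LeechPairs.sqNorm_leechV).trans (by norm_num)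

theorem c11_valid : ∀ w ∈ c11, wordValid w = true := by
  have h : c11.all wordValid = true := by decide +kernel
  exact List.all_eq_true.1 h

/-- The centralising elements in the stabiliser. -/
noncomputable def C : List (List Step) := c11.filter fun w => fixB w cV

theorem cent_y {g : Co0} (hg : g ∈ S) (hc : Commute g (El w11)) : ∃ w ∈ C, g = El w := by
  rw [El_w11] at hc
  obtain ⟨w, hw, rfl⟩ := commute_g11 hc
  exact ⟨w, List.mem_filter.2 ⟨hw, fixB_of_smul (c11_valid w hw)
    (by rw [LeechPairs.sqNorm_leechV]; norm_num) coe_leechV (MulAction.mem_stabilizer_iff.mp hg)⟩, rfl⟩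

theorem cent_x {g : Co0} (hg : g ∈ S) (hc : Commute g (El w23)) : ∃ k : ℕ, g = El w23 ^ k := by
  rw [El_w23] at hc ⊢
  obtain ⟨k, hk | hk⟩ := commute_g23 hc
  · exact ⟨k, hk⟩
  · exfalso
    have hk' : LeechNormalizers.g23 ^ k ∈ S := pow_mem (El_w23 ▸ hx) k
    have hn : negAut ∈ S := by
      have := mul_mem (inv_mem hk') hg
      rwa [hk, inv_mul_cancel_left] at this
    have h2 := MulAction.mem_stabilizer_iff.mp hn
    rw [negAut_smul] at h2
    have := congrArg (fun v : leechLattice => (v : GolayPt → ℤ) none) h2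
    exact absurd this (by decide +kernel)

theorem gens_le (K : Subgroup Co0) (h : El w23 ∈ K ∧ El w11 ∈ K ∧ El zCo3 ∈ K) (hKS : K ≤ S) : S ≤ K := by
  have hW := gens6_mem (wxi := w23i) (wyi := w11i) (wzi := zCo3i) (by decide +kernel) (by decide +kernel)
    (by decide +kernel) h
  set ι : Spor.M23 →* M24 := Subgroup.inclusion (show Spor.M23 ≤ M24 by
    rw [GolayM24.M23_eq]; intro g hg; exact (GolayPerm.mem_fixList.1 hg).1) with hι
  have hfix : ∀ g : Spor.M23, ((ι g : M24) : Equiv.Perm GolayPt) none = none := by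
    rintro ⟨g, hg⟩
    have := hg
    rw [GolayM24.M23_eq, GolayPerm.mem_fixList] at this
    exact this.2 23 (by simp)
  have hgen : ∀ g : Spor.M23, permHom (ι g) ∈ K := by
    refine mem_of_closure (permHom.comp ι) GolayOutM23.closure_gens ?_
    intro g hg
    rcases hg with rfl | rfl | rfl
    · have := permHom_mem (W := [w23]) (by simp [(by decide +kernel : wordValid w23 = true)])
        (K := K) (by simpa using h.1) (l := [0]) (P := GolayOutConst.pZ) (by decide +kernel)
        (σ := ι GolayOutM23.gZ) rfl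
      exact this
    · have := permHom_mem (W := [w11]) (by simp [(by decide +kernel : wordValid w11 = true)])
        (K := K) (by simpa using h.2.1) (l := [0]) (P := GolayOutConst.pT) (by decide +kernel)
        (σ := ι GolayOutM23.gT) rfl
      exact this
    · exact permHom_mem (gens6_valid (by decide +kernel) (by decide +kernel) (by decide +kernel)) hW
        (l := liftCo3) (P := GolayOutConst.pU) (by decide +kernel) (σ := ι GolayOutM23.gU) rfl
  have hcard := card_ge_perm ι (Subgroup.inclusion_injective _) hfix hgen hW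
    (B := 64) (count := 2114) (scripts := scriptsCo3) (by decide +kernel)
  rw [GolayM24.card_M23] at hcard
  haveI : IsSimpleGroup S := LeechCoSimple.isSimple_stab48 LeechPairs.sqNorm_leechV
  exact le_of_bound hKS (p := 23) (by norm_num) ⟨_, card_S⟩ hcard (by rw [card_S]; norm_num)

theorem table : tableOK w23 w23i w11 zCo3 [[]] C sepWordsCo3 sepTabCo3 [(false, 11)] = true := by decide +kernel

theorem card_out : Nat.card (Out S) = 1 := by
  haveI := LeechOrder.finite_Co0
  set K : Subgroup Co0 := Subgroup.closure {El w23, El w11, El zCo3}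
  have hgen : Subgroup.closure ({⟨_, hx⟩, ⟨_, hy⟩, ⟨_, hz⟩} : Set S) = ⊤ := by
    refine closure_sub ?_
    rw [Set.image_insert_eq, Set.image_insert_eq, Set.image_singleton]
    refine gens_le K ⟨?_, ?_, ?_⟩ ((Subgroup.closure_le _).2 ?_)
    iterate 3 exact Subgroup.subset_closure (by simp)
    intro g hg
    rcases hg with rfl | rfl | rfl
    exacts [hx, hy, hz]
  refine GolayOutGen.card_out_eq_one hgen fun φ => ?_
  obtain ⟨ψ, hψ, hψy, b, i, hbi, hψx, c, hψz, hc⟩ := normal_form_sub (p := 23) (m := 21555072000) (r := 2)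
    (r' := 12) (a := 1) (by norm_num) (by norm_num) card_S hx hy hz (wxi := w23i) (by decide +kernel)
    (by decide +kernel) (by decide +kernel) (by decide +kernel) (by decide +kernel) (by decide +kernel)
    (fun g hg hc => cent_x hg hc) (fun g hg hc => cent_y hg hc) table φ
  refine ⟨ψ, hψ, ?_⟩
  rw [List.mem_singleton, Prod.mk.injEq] at hbi
  obtain ⟨rfl, rfl⟩ := hbi
  have hc1 : c = 1 := Subtype.ext (by
    rw [hc, El_eq (by decide +kernel : eqOK (C.getD 11 []) [] = true), El_nil]; rfl)
  intro t ht
  rcases ht with rfl | rfl | rfl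
  · exact hψx
  · exact hψy
  · rw [hψz, hc1, mul_one]

theorem card_out_Co3 : Nat.card (Out Spor.Co3) = 1 :=
  ((LeechOutCrit.card_out_congr (LeechCertOrders.infStabEquiv Spor.leechV)).symm.trans card_out :)

end Cfsg.Agent.LeechOutCo3
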