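import Cfsg.Agent.Lib.LeechOutPair

/-!
The outer automorphism group of the stabiliser of the second standard pair has order two.
-/

set_option autoImplicit false

open scoped Pointwise

namespace Cfsg.Agent.LeechOutHS

open Cfsg Cfsg.Agent.GolayBasic Cfsg.Agent.LeechBasic Cfsg.Agent.LeechAut Cfsg.Agent.LeechOrbit
open Cfsg.Agent.LeechCert Cfsg.Agent.LeechOutTool Cfsg.Agent.LeechCent11 Cfsg.Agent.LeechOutSep
open Cfsg.Agent.LeechOutData Cfsg.Agent.LeechOutGenData Cfsg.Agent.LeechOutGroup Cfsg.Agent.LeechOutPair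
open Cfsg.Agent.LeechNormalizers (g11 g11_frame frame_none_apply)

theorem hx : El w11 ∈ S Spor.leechU' := mem_S coe_leechU' (by decide +kernel) (by decide +kernel)

theorem hy : El wU ∈ S Spor.leechU' := mem_S coe_leechU' (by decide +kernel) (by decide +kernel)

theorem hz : El zHS ∈ S Spor.leechU' := mem_S coe_leechU' (by decide +kernel) (by decide +kernel)

theorem card_S : Nat.card (S Spor.leechU') = 11 * 4032000 :=
  (LeechCertOrders.card_stab_pair11178 (u := Spor.leechV) (x := Spor.leechU') LeechPairs.sqNorm_leechV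
    (by decide +kernel) (by decide +kernel)).trans (by norm_num)

theorem simple_S : IsSimpleGroup (S Spor.leechU') := LeechCoOneSimple.isSimple_HS

theorem table : tableOK w11 w11i wU zHS [[]] (LeechCent5.c5 g5H) sepWordsHS sepTabHS
    [(false, 20), (true, 7)] = true := by decide +kernel

theorem card_out : Nat.card (Out (S Spor.leechU')) = 2 := by
  haveI := LeechOrder.finite_Co0
  haveI := simple_S
  have hgen := closure_top (w := Spor.leechU') hx hy hz (wzi := zHSi) (by decide +kernel) (l := liftHS)
    (by decide +kernel) (count := 10) (scripts := scriptsHS) (by decide +kernel) ⟨_, card_S⟩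
    (by rw [card_S]; norm_num)
  have he : eqOK (eHS ++ eHSi) [] = true := by decide +kernel
  have hconj : ∀ g, g ∈ S Spor.leechU' ↔ El eHS * g * (El eHS)⁻¹ ∈ S Spor.leechU' := by
    have e1 : El eHS • Spor.leechV = Spor.leechV + Spor.leechU' := Subtype.ext (by
      rw [El_smul (by decide +kernel) _ _ (by rw [LeechPairs.sqNorm_leechV]; norm_num) coe_leechV,
        AddSubgroup.coe_add]
      funext p; revert p; decide +kernel)
    have e2 : El eHS • Spor.leechU' = -Spor.leechU' := Subtype.ext (by
      rw [El_smul (by decide +kernel) _ _ (by decide +kernel) coe_leechU', AddSubgroup.coe_neg]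
      funext p; revert p; decide +kernel)
    refine conj_mem_iff fun g => ?_
    rw [e1, e2, smul_add_vec, smul_neg_vec]
    constructor
    · rintro ⟨a, b⟩
      rw [a, b]; exact ⟨rfl, rfl⟩
    · rintro ⟨a, b⟩
      rw [neg_inj] at b
      rw [b] at a
      exact ⟨add_right_cancel a, b⟩
  set s := conjOn _ _ hconj with hs
  obtain ⟨c₀, hc₀⟩ : ∃ c : S Spor.leechU', (c : Co0) = El ((LeechCent5.c5 g5H).getD 7 []) :=
    ⟨⟨_, mem_S (a := (LeechCent5.c5 g5H).getD 7 []) coe_leechU' (by decide +kernel) (by decide +kernel)⟩, rfl⟩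
  refine out_two hgen (x' := (⟨_, hx⟩ : S Spor.leechU')⁻¹) (z' := (⟨_, hz⟩ : S Spor.leechU') * c₀) ?_ s ?_
  · intro φ
    obtain ⟨ψ, hψ, hψy, b, i, hbi, hψx, c, hψz, hc⟩ := normal_form_sub (p := 11) (m := 4032000) (r := 4)
      (r' := 3) (a := 1) (by norm_num) (by norm_num) card_S hx hy hz (wxi := w11i) (by decide +kernel)
      (by decide +kernel) (by decide +kernel) (by decide +kernel) (by decide +kernel) (by decide +kernel)
      (fun g hg hc => cent_x coe_leechU' (by decide +kernel) (by decide +kernel) hg hc)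
      (fun g hg hc => LeechCent5.commute_H (MulAction.mem_stabilizer_iff.mp hg.1)
        (MulAction.mem_stabilizer_iff.mp hg.2) hc) table φ
    refine ⟨ψ, hψ, hψy, ?_⟩
    simp only [List.mem_cons, Prod.mk.injEq, List.not_mem_nil, or_false] at hbi
    rcases hbi with ⟨rfl, rfl⟩ | ⟨rfl, rfl⟩
    · left
      have hc1 : c = 1 := Subtype.ext (by
        rw [hc, El_eq (by decide +kernel : eqOK ((LeechCent5.c5 g5H).getD 20 []) [] = true), El_nil]; rfl)
      exact ⟨hψx, by rw [hψz, hc1, mul_one]⟩
    · right
      exact ⟨hψx, by rw [hψz, Subtype.ext (hc.trans hc₀.symm)]⟩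
  · rintro ⟨g, hg⟩
    have h1 : (g : Co0) * g11 * (g : Co0)⁻¹ = g11⁻¹ := by
      have h := congrArg (fun f : MulAut (S Spor.leechU') => ((f ⟨_, hx⟩ : S Spor.leechU') : Co0)) hg
      simp only [MulAut.conj_apply, Subgroup.coe_mul, Subgroup.coe_inv] at h
      rw [← El_w11, h, ← El_inv (by decide +kernel : eqOK (w11 ++ w11i) [] = true)]
      show El eHS * El w11 * (El eHS)⁻¹ = _
      rw [mul_inv_eq_iff_eq_mul, El_rel (by decide +kernel : eqOK (w11 ++ eHS) (eHS ++ w11i) = true)]
    have h2 : (g : Co0) * g11 = g11⁻¹ * g := by rw [← h1, inv_mul_cancel_right]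
    refine no_invert (LeechNormalizers.fixed11 (by rw [sqNorm_smul, sqNorm_frame]) ?_ ?_ (Or.inr ?_)) h2
    · have h3 : g11 * (g : Co0) * g11 = g := by rw [mul_assoc, h2, mul_inv_cancel_left]
      conv_rhs => rw [← h3, mul_smul, mul_smul, g11_frame]
    · have := dotInt_smul (g : Co0) Spor.leechV (frame none)
      rw [MulAction.mem_stabilizer_iff.mp g.2.1] at this
      exact this.trans (by decide +kernel)
    · have := dotInt_smul (g : Co0) Spor.leechU' (frame none)
      rw [MulAction.mem_stabilizer_iff.mp g.2.2] at this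
      exact this.trans (by decide +kernel)

theorem card_out_HS : Nat.card (Out Spor.HS) = 2 :=
  ((LeechOutCrit.card_out_congr (LeechCertOrders.infStabEquiv₂ Spor.leechV Spor.leechU')).symm.trans card_out :)

end Cfsg.Agent.LeechOutHS
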