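import Cfsg.Agent.Lib.LeechOutPair

/-!
The outer automorphism group of the stabiliser of the first standard pair has order two.
-/

set_option autoImplicit false

open scoped Pointwise

namespace Cfsg.Agent.LeechOutMcL

open Cfsg Cfsg.Agent.GolayBasic Cfsg.Agent.LeechBasic Cfsg.Agent.LeechAut Cfsg.Agent.LeechOrbit
open Cfsg.Agent.LeechCert Cfsg.Agent.LeechOutTool Cfsg.Agent.LeechCent11 Cfsg.Agent.LeechOutSep
open Cfsg.Agent.LeechOutData Cfsg.Agent.LeechOutGenData Cfsg.Agent.LeechOutGroup Cfsg.Agent.LeechOutPair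
open Cfsg.Agent.LeechNormalizers (g11 g11_frame frame_none_apply)

theorem hx : El w11 ∈ S Spor.leechU := mem_S coe_leechU (by decide +kernel) (by decide +kernel)

theorem hy : El wU ∈ S Spor.leechU := mem_S coe_leechU (by decide +kernel) (by decide +kernel)

theorem hz : El zMcL ∈ S Spor.leechU := mem_S coe_leechU (by decide +kernel) (by decide +kernel)

theorem card_S : Nat.card (S Spor.leechU) = 11 * 81648000 :=
  (Nat.card_congr (LeechCertOrders.infStabEquiv₂ Spor.leechV Spor.leechU).toEquiv).trans
    (LeechCertOrders.card_McL.trans (by norm_num))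

theorem simple_S : IsSimpleGroup (S Spor.leechU) := LeechCoOneSimple.isSimple_McL

theorem table : tableOK w11 w11i wU zMcL [[]] (LeechCent5.c5 g5M) sepWordsMcL sepTabMcL
    [(false, 0), (false, 18)] = true := by decide +kernel

theorem card_out : Nat.card (Out (S Spor.leechU)) = 2 := by
  haveI := LeechOrder.finite_Co0
  haveI := simple_S
  have hgen := closure_top (w := Spor.leechU) hx hy hz (wzi := zMcLi) (by decide +kernel) (l := liftMcL)
    (by decide +kernel) (count := 185) (scripts := scriptsMcL) (by decide +kernel) ⟨_, card_S⟩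
    (by rw [card_S]; norm_num)
  have hconj : ∀ g, g ∈ S Spor.leechU ↔ El eMcL * g * (El eMcL)⁻¹ ∈ S Spor.leechU := by
    have e1 : El eMcL • Spor.leechV = Spor.leechV := El_fixes (by decide +kernel) coe_leechV
    have e2 : El eMcL • Spor.leechU = -(Spor.leechU + Spor.leechV) := Subtype.ext (by
      rw [El_smul (by decide +kernel) _ _ (by decide +kernel) coe_leechU, AddSubgroup.coe_neg,
        AddSubgroup.coe_add]
      funext p; revert p; decide +kernel)
    refine conj_mem_iff fun g => ?_
    rw [e1, e2, smul_neg_vec, smul_add_vec]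
    constructor
    · rintro ⟨a, b⟩
      rw [a, b]; exact ⟨rfl, rfl⟩
    · rintro ⟨a, b⟩
      rw [neg_inj, a] at b
      exact ⟨a, add_right_cancel b⟩
  set s := conjOn _ _ hconj with hs
  obtain ⟨c₀, hc₀⟩ : ∃ c : S Spor.leechU, (c : Co0) = El ((LeechCent5.c5 g5M).getD 18 []) :=
    ⟨⟨_, mem_S (a := (LeechCent5.c5 g5M).getD 18 []) coe_leechU (by decide +kernel) (by decide +kernel)⟩, rfl⟩
  refine out_two hgen (x' := (⟨_, hx⟩ : S Spor.leechU)) (z' := (⟨_, hz⟩ : S Spor.leechU) * c₀) ?_ s ?_
  · intro φ
    obtain ⟨ψ, hψ, hψy, b, i, hbi, hψx, c, hψz, hc⟩ := normal_form_sub (p := 11) (m := 81648000) (r := 4)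
      (r' := 3) (a := 1) (by norm_num) (by norm_num) card_S hx hy hz (wxi := w11i) (by decide +kernel)
      (by decide +kernel) (by decide +kernel) (by decide +kernel) (by decide +kernel) (by decide +kernel)
      (fun g hg hc => cent_x coe_leechU (by decide +kernel) (by decide +kernel) hg hc)
      (fun g hg hc => LeechCent5.commute_M (MulAction.mem_stabilizer_iff.mp hg.1)
        (MulAction.mem_stabilizer_iff.mp hg.2) hc) table φ
    refine ⟨ψ, hψ, hψy, ?_⟩
    simp only [List.mem_cons, Prod.mk.injEq, List.not_mem_nil, or_false] at hbi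
    rcases hbi with ⟨rfl, rfl⟩ | ⟨rfl, rfl⟩
    · left
      have hc1 : c = 1 := Subtype.ext (by
        rw [hc, El_eq (by decide +kernel : eqOK ((LeechCent5.c5 g5M).getD 0 []) [] = true), El_nil]; rfl)
      exact ⟨hψx, by rw [hψz, hc1, mul_one]⟩
    · right
      exact ⟨hψx, by rw [hψz, Subtype.ext (hc.trans hc₀.symm)]⟩
  · rintro ⟨g, hg⟩
    have key : ∀ t : S Spor.leechU, (g : Co0) * t * (g : Co0)⁻¹ = El eMcL * t * (El eMcL)⁻¹ := fun t => by
      have h := congrArg (fun f : MulAut (S Spor.leechU) => ((f t : S Spor.leechU) : Co0)) hg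
      simp only [MulAut.conj_apply, Subgroup.coe_mul, Subgroup.coe_inv] at h
      exact h
    have hcx : Commute (g : Co0) (El w11) := by
      have h := key ⟨_, hx⟩
      have he : El eMcL * El w11 * (El eMcL)⁻¹ = El w11 := by
        rw [El_rel (by decide +kernel : eqOK (w11 ++ eMcL) (eMcL ++ w11) = true), mul_inv_cancel_right]
      exact mul_inv_eq_iff_eq_mul.mp (h.trans he)
    obtain ⟨k, hk⟩ := cent_x coe_leechU (by decide +kernel) (by decide +kernel) g.2 hcx
    have h11 : El w11 ^ 11 = 1 := by
      rw [← pow_eq (by decide +kernel) 11, El_eq (by decide +kernel : eqOK (rep 11 w11) [] = true), El_nil]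
    have hk' : (g : Co0) = El w11 ^ (k % 11) := hk.trans (pow_eq_pow_mod k h11)
    have hne : ∀ j < 11, neOK (eMcLi ++ (zMcL ++ eMcL)) (rep (11 - j) w11 ++ (zMcL ++ rep j w11)) = true := by
      decide +kernel
    have hj := Nat.mod_lt k (by norm_num : 11 > 0)
    apply El_ne (hne _ hj)
    have hv : wordValid w11 = true := by decide +kernel
    have hvz : wordValid zMcL = true := by decide +kernel
    have hinv : El w11 ^ (11 - k % 11) = (El w11 ^ (k % 11))⁻¹ :=
      eq_inv_of_mul_eq_one_left (by rw [← pow_add, Nat.sub_add_cancel hj.le, h11])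
    rw [El_append (by decide +kernel) (by decide +kernel), El_append hvz (by decide +kernel),
      rep, rep, El_append (valid_replicate hv _) (by rw [wordValid_append, hvz, valid_replicate hv]; rfl),
      El_append hvz (valid_replicate hv _), El_replicate hv, El_replicate hv, hinv,
      El_inv (by decide +kernel : eqOK (eMcL ++ eMcLi) [] = true), ← hk']
    exact (key ⟨_, hz⟩).symm

theorem card_out_McL : Nat.card (Out Spor.McL) = 2 :=
  ((LeechOutCrit.card_out_congr (LeechCertOrders.infStabEquiv₂ Spor.leechV Spor.leechU)).symm.trans card_out :)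

end Cfsg.Agent.LeechOutMcL
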