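import Cfsg.Agent.Lib.LeechOutCrit
import Cfsg.Agent.Lib.LeechCent11

/-!
Separating candidate images of three generators.
-/

set_option autoImplicit false

open scoped Pointwise

namespace Cfsg.Agent.LeechOutSep

open Cfsg Cfsg.Agent.LeechOrbit Cfsg.Agent.LeechCert Cfsg.Agent.LeechOutTool Cfsg.Agent.LeechCent11

/-- The product is killed for the generators. -/
noncomputable def realOK (W N : List (List Step)) (q : List ℕ × ℕ) : Bool :=
  W.all wordValid && N.any (eqOK (rep q.2 (expand W q.1)))

/-- The product survives for the images. -/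
noncomputable def imgOK (W N : List (List Step)) (q : List ℕ × ℕ) : Bool :=
  W.all wordValid && N.all (neOK (rep q.2 (expand W q.1)))

section

universe u v

variable {A : Type u} [Group A] {Q : Type v} [Group Q] (f : A →* Co0) (q : A →* Q) {N : List (List Step)}

theorem false_of_word (hN : ∀ a, q a = 1 ↔ f a ∈ N.map El) (ψ : MulAut Q) {g g' : List A}
    (hψ : (g.map q).map ψ = g'.map q) {W W' : List (List Step)} (hW : g.map f = W.map El)
    (hW' : g'.map f = W'.map El) {p : List ℕ × ℕ} (h1 : realOK W N p = true) (h2 : imgOK W' N p = true) :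
    False := by
  simp only [realOK, imgOK, Bool.and_eq_true, List.all_eq_true, List.any_eq_true] at h1 h2
  obtain ⟨hWv, w, hw, he⟩ := h1
  obtain ⟨hWv', hne⟩ := h2
  have e : ∀ {g : List A} {W : List (List Step)}, g.map f = W.map El → (∀ w ∈ W, wordValid w = true) →
      f (ev g p.1 ^ p.2) = El (rep p.2 (expand W p.1)) := by
    intro g W hg hv
    rw [rep, El_replicate (valid_expand hv _), El_expand hv, map_pow, map_ev, hg]
  have hq : q (ev g p.1 ^ p.2) = 1 := (hN _).2 (List.mem_map.2 ⟨w, hw, by rw [e hW hWv, El_eq he]⟩)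
  have hq' : q (ev g' p.1 ^ p.2) = 1 := by
    rw [map_pow, map_ev, ← hψ]
    have := map_ev ψ.toMonoidHom (g.map q) p.1
    change ψ (ev (g.map q) p.1) = ev ((g.map q).map ψ) p.1 at this
    rw [← this, ← map_pow, ← map_ev, ← map_pow, hq, map_one]
  obtain ⟨w', hw', he'⟩ := List.mem_map.1 ((hN _).1 hq')
  rw [e hW' hWv'] at he'
  exact El_ne (hne w' hw') he'.symm

/-- The image of the first generator. -/
def sgnW (wx wxi : List Step) (b : Bool) : List Step := bif b then wxi else wx

/-- The candidate images as words. -/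
def candW (wx wxi wy wz : List Step) (C : List (List Step)) (b : Bool) (i : ℕ) : List (List Step) :=
  [sgnW wx wxi b, wy, C.getD i [] ++ wz]

/-- Every candidate is allowed or separated. -/
noncomputable def tableOK (wx wxi wy wz : List Step) (N C : List (List Step)) (ps : List (List ℕ × ℕ))
    (tab : List ℕ) (allowed : List (Bool × ℕ)) : Bool :=
  ps.all (realOK [wx, wy, wz] N) && C.all wordValid && [false, true].all fun b => (List.range C.length).all fun i =>
    allowed.elem (b, i) || (decide ((tab.getD ((bif b then C.length else 0) + i) ps.length) < ps.length) &&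
      imgOK (candW wx wxi wy wz C b i) N (ps.getD (tab.getD ((bif b then C.length else 0) + i) ps.length) ([], 0)))

variable {wx wxi wy wz : List Step}

/-- An automorphism in normal form is one of the allowed candidates. -/
theorem exists_allowed (hN : ∀ a, q a = 1 ↔ f a ∈ N.map El) {x y z c : A} (hx : f x = El wx)
    (hxi : eqOK (wx ++ wxi) [] = true) (hy : f y = El wy) (hz : f z = El wz) {C : List (List Step)}
    (hc : ∃ w ∈ C, f c = El w) {ψ : MulAut Q} (hψx : ψ (q x) = q x ∨ ψ (q x) = (q x)⁻¹) (hψy : ψ (q y) = q y)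
    (hψz : ψ (q z) = q z * q c) {ps : List (List ℕ × ℕ)} {tab : List ℕ} {allowed : List (Bool × ℕ)}
    (h : tableOK wx wxi wy wz N C ps tab allowed = true) :
    ∃ b i, (b, i) ∈ allowed ∧ ψ (q x) = (bif b then (q x)⁻¹ else q x) ∧ f c = El (C.getD i []) := by
  simp only [tableOK, Bool.and_eq_true, List.all_eq_true, Bool.or_eq_true, List.mem_range, decide_eq_true_eq,
    List.elem_iff] at h
  obtain ⟨⟨hreal, hCv⟩, htab⟩ := h
  obtain ⟨w, hw, hfc⟩ := hc
  obtain ⟨i, hi, rfl⟩ := List.getElem_of_mem hw
  obtain ⟨b, hb⟩ : ∃ b : Bool, ψ (q x) = (bif b then (q x)⁻¹ else q x) := by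
    rcases hψx with e | e
    · exact ⟨false, e⟩
    · exact ⟨true, e⟩
  refine ⟨b, i, ?_, hb, by rw [List.getD_eq_getElem _ _ hi, hfc]⟩
  rcases htab b (by cases b <;> simp) i hi with ha | ⟨hlt, himg⟩
  · exact ha
  exfalso
  set j := tab.getD ((bif b then C.length else 0) + i) ps.length
  have hjm : ps.getD j ([], 0) ∈ ps := by
    rw [List.getD_eq_getElem _ _ hlt]; exact List.getElem_mem hlt
  have hv : wordValid wz = true := by
    have := hreal _ hjm
    simp only [realOK, Bool.and_eq_true, List.all_eq_true] at this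
    exact this.1 wz (by simp)
  refine false_of_word f q hN ψ (g := [x, y, z]) (g' := [bif b then x⁻¹ else x, y, z * c]) ?_ ?_ ?_
    (hreal _ hjm) himg
  · simp only [List.map_cons, List.map_nil, hψy, hψz, hb, map_mul]
    cases b <;> simp
  · simp [hx, hy, hz]
  · have hc' : El (C.getD i [] ++ wz) = f (z * c) := by
      rw [List.getD_eq_getElem _ _ hi, El_append (hCv _ (List.getElem_mem hi)) hv, map_mul, hz, hfc]
    simp only [List.map_cons, List.map_nil, candW, hy, hc']
    cases b
    · simp [sgnW, hx]
    · simp [sgnW, hx, El_inv hxi]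

end

theorem mem_one_list {A : Type*} [Group A] {f : A →* Co0} (hf : Function.Injective f) (a : A) :
    (MonoidHom.id A) a = 1 ↔ f a ∈ [([] : List Step)].map El := by
  rw [List.map_cons, List.map_nil, List.mem_singleton, El_nil, MonoidHom.id_apply]
  exact ⟨fun h => by rw [h, map_one], fun h => hf (h.trans (map_one f).symm)⟩

end Cfsg.Agent.LeechOutSep
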