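import Cfsg.Agent.Lib.LeechOutGroup

/-!
Sign maps inside a subgroup, spanned by conjugates of one of them.
-/

set_option autoImplicit false

open scoped Pointwise symmDiff

namespace Cfsg.Agent.LeechOutSign

open Cfsg Cfsg.Agent.GolayPerm Cfsg.Agent.GolayBasic Cfsg.Agent.LeechBasic Cfsg.Agent.LeechAut Cfsg.Agent.LeechOrbit
open Cfsg.Agent.LeechCert Cfsg.Agent.LeechOutTool Cfsg.Agent.LeechCent11
open Cfsg.Agent.GolayPerm (good valid permOf permOf_mem_M24 permOf_apply pfun)
open Cfsg.Agent.LeechStab (permHom permHom_injective monomial_congr monomial_mul signElt signElt_mul CodeSupp)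
open Cfsg.Agent.LeechMonomial (monomial_injective)
open Cfsg.Agent.LeechNormalizers (frame_none_apply)
open Cfsg.Agent.LeechFreeInvolution (frameCodes)

/-- The identity permutation code. -/
def idP : ℕ := 984818244535754528103549039458486304

theorem permOf_idP : permOf idP = 1 := by
  refine Equiv.ext fun p => ?_
  rw [permOf_apply (by decide +kernel : valid idP = true), Equiv.Perm.one_apply]
  revert p
  decide +kernel

/-- The masks spanned. -/
def spanList : List ℕ → List ℕ
  | [] => [0]
  | a :: l => spanList l ++ (spanList l).map fun b => a ^^^ b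

/-- The mask of a code word with its sign map in the subgroup. -/
def SignIn (K : Subgroup Co0) (m : ℕ) : Prop :=
  m < 2 ^ 24 ∧ ∃ h : mset m ∈ supports (golayCode : Set (GolayPt → ZMod 2)), signElt ⟨mset m, h⟩ ∈ K

theorem signIn_word {K : Subgroup Co0} {w : List Step} {m : ℕ} (h : monoOK' w idP m = true) (hw : El w ∈ K) :
    SignIn K m := by
  obtain ⟨hP, hm⟩ := monoOK'_mem h
  refine ⟨?_, hm, ?_⟩
  · simp only [monoOK', Bool.and_eq_true] at h
    exact inCode_lt h.1.2
  · rw [El_mono h hP hm] at hw
    rwa [signElt, monomial_congr (one_mem M24) hP hm hm permOf_idP.symm rfl]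

theorem signIn_span {K : Subgroup Co0} : ∀ {l : List ℕ}, (∀ m ∈ l, SignIn K m) → ∀ m ∈ spanList l, SignIn K m
  | [], _, m, hm => by
    rw [spanList, List.mem_singleton] at hm
    subst hm
    have h : mset 0 ∈ supports (golayCode : Set (GolayPt → ZMod 2)) := by rw [mset_zero]; exact empty_mem_supports
    refine ⟨by norm_num, h, ?_⟩
    rw [signElt, monomial_congr (one_mem M24) (one_mem M24) h empty_mem_supports rfl mset_zero,
      LeechStab.monomial_one]
    exact one_mem K
  | a :: l, hl, m, hm => by
    have ih := signIn_span (l := l) fun b hb => hl b (List.mem_cons_of_mem _ hb)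
    rw [spanList, List.mem_append] at hm
    rcases hm with hm | hm
    · exact ih m hm
    obtain ⟨b, hb, rfl⟩ := List.mem_map.1 hm
    obtain ⟨ha1, ha2, ha3⟩ := hl a List.mem_cons_self
    obtain ⟨hb1, hb2, hb3⟩ := ih b hb
    have hx : mset (a ^^^ b) ∈ supports (golayCode : Set (GolayPt → ZMod 2)) := by
      rw [mset_xor]; exact symmDiff_mem_supports ha2 hb2
    refine ⟨Nat.xor_lt_two_pow ha1 hb1, hx, ?_⟩
    have := mul_mem ha3 hb3
    rw [signElt_mul] at this
    rwa [show (⟨mset (a ^^^ b), hx⟩ : CodeSupp) = ⟨mset a ∆ mset b, symmDiff_mem_supports ha2 hb2⟩ from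
      Subtype.ext (mset_xor a b)]

/-- Conjugation steps producing the sign maps from the first one. -/
noncomputable def stepsOK (P S : List (List Step)) (steps : List (ℕ × ℕ)) : Bool :=
  decide (S.length = steps.length + 1) && (List.range steps.length).all fun k =>
    decide ((steps.getD k (0, 0)).1 < P.length) && decide ((steps.getD k (0, 0)).2 ≤ k) &&
      eqOK (P.getD (steps.getD k (0, 0)).1 [] ++ S.getD (k + 1) [])
        (S.getD (steps.getD k (0, 0)).2 [] ++ P.getD (steps.getD k (0, 0)).1 [])

theorem steps_mem {K : Subgroup Co0} {P S : List (List Step)} {steps : List (ℕ × ℕ)}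
    (hok : stepsOK P S steps = true) (h0 : El (S.getD 0 []) ∈ K) (hP : ∀ w ∈ P, El w ∈ K) :
    ∀ w ∈ S, El w ∈ K := by
  simp only [stepsOK, Bool.and_eq_true, decide_eq_true_eq, List.all_eq_true, List.mem_range] at hok
  obtain ⟨hlen, hok⟩ := hok
  have key : ∀ k, k < S.length → El (S.getD k []) ∈ K := by
    intro k
    induction k using Nat.strong_induction_on with
    | _ k ih =>
      intro hk
      rcases k with _ | k
      · exact h0
      obtain ⟨⟨hg, hi⟩, he⟩ := hok k (by omega)
      have hgK : El (P.getD (steps.getD k (0, 0)).1 []) ∈ K := by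
        rw [List.getD_eq_getElem _ _ hg]; exact hP _ (List.getElem_mem hg)
      have hiK := ih _ (show (steps.getD k (0, 0)).2 < k + 1 by omega) (by omega)
      have e := El_rel he
      rw [← eq_mul_inv_iff_mul_eq] at e
      rw [e]
      exact mul_mem (mul_mem hgK hiK) (inv_mem hgK)
  intro w hw
  obtain ⟨k, hk, rfl⟩ := List.getElem_of_mem hw
  rw [← List.getD_eq_getElem _ [] hk]
  exact key k hk

/-- The masks of a certificate are in the subgroup. -/
noncomputable def masksOK (S : List (List Step)) (ms : List ℕ) : Bool :=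
  decide (S.length = ms.length) && (List.range ms.length).all fun k => monoOK' (S.getD k []) idP (ms.getD k 0)

theorem masks_mem {K : Subgroup Co0} {S : List (List Step)} {ms : List ℕ} (hok : masksOK S ms = true)
    (hS : ∀ w ∈ S, El w ∈ K) : ∀ m ∈ ms, SignIn K m := by
  simp only [masksOK, Bool.and_eq_true, decide_eq_true_eq, List.all_eq_true, List.mem_range] at hok
  intro m hm
  obtain ⟨k, hk, rfl⟩ := List.getElem_of_mem hm
  have h := hok.2 k hk
  rw [List.getD_eq_getElem _ _ hk, List.getD_eq_getElem _ _ (by omega : k < S.length)] at h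
  exact signIn_word h (hS _ (List.getElem_mem _))

/-- A monomial product with known sign part gives its permutation. -/
theorem permHom_of_mono {K : Subgroup Co0} {w : List Step} {P m : ℕ} (h : monoOK' w P m = true) (hw : El w ∈ K)
    (hm : SignIn K m) {σ : M24} (hσ : (σ : Equiv.Perm GolayPt) = permOf P) : permHom σ ∈ K := by
  obtain ⟨hP, hc⟩ := monoOK'_mem h
  obtain ⟨-, hc', hs⟩ := hm
  rw [El_mono h hP hc, monomial_split] at hw
  have := mul_mem (inv_mem hs) hw
  rw [signElt, inv_mul_cancel_left] at this
  rwa [show permHom σ = monomial (permOf P) hP ∅ empty_mem_supports from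
    monomial_congr σ.2 hP empty_mem_supports empty_mem_supports hσ rfl]

theorem mono_frame {σ : Equiv.Perm GolayPt} (hσ : σ ∈ M24) (h : σ none = none) {c : Finset GolayPt}
    (hc : c ∈ supports (golayCode : Set (GolayPt → ZMod 2))) (hn : none ∉ c) :
    monomial σ hσ c hc • frame none = frame none := by
  refine Subtype.ext ?_
  rw [coe_monomial_smul]
  funext p
  by_cases hp : p = none
  · subst hp
    simp only [signedPerm, if_neg hn]
    change ((frame none : leechLattice) : GolayPt → ℤ) (σ.symm none) = _
    rw [show σ.symm none = none by rw [Equiv.symm_apply_eq, h]]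
  · have hne : σ.symm p ≠ none := fun e => hp (by rw [Equiv.symm_apply_eq, h] at e; exact e)
    simp only [signedPerm]
    change (if p ∈ c then -((frame none : leechLattice) : GolayPt → ℤ) (σ.symm p)
      else ((frame none : leechLattice) : GolayPt → ℤ) (σ.symm p)) = _
    rw [frame_none_apply, frame_none_apply, if_neg hne, if_neg hp, neg_zero, ite_self]

/-- Monomial maps fixing the frame vector inside a subgroup, with an orbit certificate. -/
theorem card_ge_mono {H : Type*} [Group H] (ι : H →* M24) (hι : Function.Injective ι)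
    (hfix : ∀ h, (ι h : Equiv.Perm GolayPt) none = none) {K : Subgroup Co0} (hK : ∀ h, permHom (ι h) ∈ K)
    {ms : List ℕ} {n : ℕ} (hn : ascCount 0 (msort (spanList ms)) n = true)
    (hs : ∀ m ∈ ms, SignIn K m) (hbit : (spanList ms).all (fun m => !m.testBit 23) = true)
    {W : List (List Step)} (hW : ∀ w ∈ W, El w ∈ K) {B count : ℕ} {scripts : List ℕ}
    (horb : orbitOK W (frameCodes.getD 23 0) B scripts count = true) : count * (Nat.card H * n) ≤ Nat.card K := by
  haveI := LeechOrder.finite_Co0
  obtain ⟨hlen, -, hnd, -⟩ := ascCount_spec _ _ _ hn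
  have hA := card_ge hW horb (r := frame none) (frame_code none)
    (A := K ⊓ MulAction.stabilizer Co0 (frame none)) inf_le_left inf_le_right
  refine le_trans (Nat.mul_le_mul_left _ ?_) hA
  set L := msort (spanList ms)
  have hL : ∀ k : Fin L.length, SignIn K L[k] := fun k => signIn_span hs _ (mem_msort (List.getElem_mem k.2))
  rw [← hlen, ← Nat.card_fin L.length, ← Nat.card_prod]
  refine Nat.card_le_card_of_injective (fun a => (⟨monomial ((ι a.1 : M24) : Equiv.Perm GolayPt) (ι a.1).2
      (mset L[a.2]) (hL a.2).2.1, ?_, ?_⟩ : ↥(K ⊓ MulAction.stabilizer Co0 (frame none)))) ?_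
  · rw [monomial_split]
    exact mul_mem (hL a.2).2.2 (hK a.1)
  · refine mono_frame _ (hfix _) _ ?_
    simp only [List.all_eq_true, Bool.not_eq_true'] at hbit
    have := hbit _ (mem_msort (List.getElem_mem a.2.2))
    rw [mem_mset, show idx (none : GolayPt) = 23 from rfl]
    simp [this]
  · intro a b e
    have e' := monomial_injective (ι a.1).2 (ι b.1).2 (hL a.2).2.1 (hL b.2).2.1 (congrArg Subtype.val e)
    refine Prod.ext (hι (Subtype.ext e'.1)) (Fin.ext ?_)
    exact (hnd.getElem_inj_iff).1 (mset_inj (hL a.2).1 (hL b.2).1 e'.2)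

/-- A full span gives every sign map. -/
theorem all_signs {K : Subgroup Co0} {ms : List ℕ} (hn : ascCount 0 (msort (spanList ms)) 4096 = true)
    (hs : ∀ m ∈ ms, SignIn K m) (c : CodeSupp) : signElt c ∈ K := by
  obtain ⟨hlen, -, hnd, -⟩ := ascCount_spec _ _ _ hn
  set L := msort (spanList ms)
  have hL : ∀ k : Fin L.length, SignIn K L[k] := fun k => signIn_span hs _ (mem_msort (List.getElem_mem k.2))
  let f : Fin L.length → CodeSupp := fun k => ⟨mset L[k], (hL k).2.1⟩
  have hf : Function.Injective f := fun a b e =>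
    Fin.ext ((hnd.getElem_inj_iff).1 (mset_inj (hL a).1 (hL b).1 (congrArg Subtype.val e)))
  haveI : Finite CodeSupp := Nat.finite_of_card_ne_zero (by rw [LeechStab.card_codeSupp]; norm_num)
  obtain ⟨k, rfl⟩ := ((Nat.bijective_iff_injective_and_card f).2
    ⟨hf, by rw [Nat.card_fin, hlen, LeechStab.card_codeSupp]⟩).2 c
  exact (hL k).2.2

end Cfsg.Agent.LeechOutSign
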