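import Cfsg.Agent.Lib.LeechCertBase
import Cfsg.Agent.Lib.LeechCertOrbB
import Cfsg.Agent.Lib.LeechCertOrbC

/-!
Transitivity of the automorphism group on some pairs of short lattice vectors.
-/

set_option autoImplicit false

open scoped Pointwise

namespace Cfsg.Agent.LeechPairs

open Cfsg Cfsg.Agent.GolayBasic Cfsg.Agent.LeechBasic Cfsg.Agent.LeechAut Cfsg.Agent.LeechOrbit
open Cfsg.Agent.LeechCert

theorem sqNorm_leechV : sqNorm ((Spor.leechV : leechLattice) : GolayPt → ℤ) = 48 := by decide +kernel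

/-- Vectors of norm 48 go to the standard one. -/
theorem move48 {u : leechLattice} (hu : sqNorm (u : GolayPt → ℤ) = 48) :
    ∃ h : Co0, h • u = Spor.leechV :=
  exists_smul_eq (Or.inr (Or.inl rfl)) hu sqNorm_leechV

theorem fixedCodes_V : LeechCert.Fix2.fixedCodes = (cV, c0, c0) := rfl

theorem negU_mem : -Spor.leechU ∈ census (cV, c0, c0) 32 (24, 0, 0) := by
  rw [mem_census₁, coe_negU]; decide +kernel

theorem leechU'_mem : Spor.leechU' ∈ census (cV, c0, c0) 32 (-16, 0, 0) := by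
  rw [mem_census₁, coe_leechU']; decide +kernel

/-- Transitivity of the stabiliser of the standard norm 48 vector on 552 vectors. -/
theorem stabV_trans_552 {x y : leechLattice} (hx : x ∈ census (cV, c0, c0) 32 (24, 0, 0))
    (hy : y ∈ census (cV, c0, c0) 32 (24, 0, 0)) : ∃ g : Co0, g • Spor.leechV = Spor.leechV ∧ g • x = y := by
  obtain ⟨g, hg, hgx⟩ := exists_fixes_smul LeechCert.OrbB.cert LeechCert.OrbB.ncard (by norm_num) (by norm_num)
    (a := Spor.leechV) (b := 0) (c := 0) coe_leechV coe_zero_vec coe_zero_vec (r := -Spor.leechU)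
    coe_negU negU_mem hx hy
  exact ⟨g, fixes₁ hg coe_leechV, hgx⟩

/-- Transitivity of the stabiliser of the standard norm 48 vector on 11178 vectors. -/
theorem stabV_trans_11178 {x y : leechLattice} (hx : x ∈ census (cV, c0, c0) 32 (-16, 0, 0))
    (hy : y ∈ census (cV, c0, c0) 32 (-16, 0, 0)) : ∃ g : Co0, g • Spor.leechV = Spor.leechV ∧ g • x = y := by
  obtain ⟨g, hg, hgx⟩ := exists_fixes_smul LeechCert.OrbC.cert LeechCert.OrbC.ncard (by norm_num) (by norm_num)
    (a := Spor.leechV) (b := 0) (c := 0) coe_leechV coe_zero_vec coe_zero_vec (r := Spor.leechU')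
    coe_leechU' leechU'_mem hx hy
  exact ⟨g, fixes₁ hg coe_leechV, hgx⟩

/-- Pairs with norms 48, 32 and product 24. -/
theorem pair552 {u x : leechLattice} (hu : sqNorm (u : GolayPt → ℤ) = 48)
    (hx : sqNorm (x : GolayPt → ℤ) = 32) (hd : dotInt (u : GolayPt → ℤ) x = 24) :
    ∃ h : Co0, h • u = Spor.leechV ∧ h • x = -Spor.leechU := by
  obtain ⟨h, hh⟩ := move48 hu
  obtain ⟨g, hg, hgx⟩ := stabV_trans_552 (x := h • x)
    (mem_census₁.mpr ⟨by rw [sqNorm_smul]; exact hx, by rw [dotInt_eq_of_smul hh coe_leechV]; exact hd⟩)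
    negU_mem
  exact ⟨g * h, by rw [mul_smul, hh, hg], by rw [mul_smul, hgx]⟩

/-- Pairs with norms 48, 32 and product −16. -/
theorem pair11178 {u x : leechLattice} (hu : sqNorm (u : GolayPt → ℤ) = 48)
    (hx : sqNorm (x : GolayPt → ℤ) = 32) (hd : dotInt (u : GolayPt → ℤ) x = -16) :
    ∃ h : Co0, h • u = Spor.leechV ∧ h • x = Spor.leechU' := by
  obtain ⟨h, hh⟩ := move48 hu
  obtain ⟨g, hg, hgx⟩ := stabV_trans_11178 (x := h • x)
    (mem_census₁.mpr ⟨by rw [sqNorm_smul]; exact hx, by rw [dotInt_eq_of_smul hh coe_leechV]; exact hd⟩)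
    leechU'_mem
  exact ⟨g * h, by rw [mul_smul, hh, hg], by rw [mul_smul, hgx]⟩

theorem sqNorm_sub_eq_iff {u v : leechLattice} (hu : sqNorm (u : GolayPt → ℤ) = 48)
    (hv : sqNorm (v : GolayPt → ℤ) = 32) :
    sqNorm ((u - v) : GolayPt → ℤ) = 32 ↔ dotInt (u : GolayPt → ℤ) v = 24 := by
  rw [sqNorm_sub, hu, hv]; omega

/-- Two vectors of norm 48 with product −32 go to the standard ones. -/
theorem pairHS {v w : leechLattice} (hv : sqNorm (v : GolayPt → ℤ) = 48) (hw : sqNorm (w : GolayPt → ℤ) = 48)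
    (hd : dotInt (v : GolayPt → ℤ) w = -32) :
    ∃ h : Co0, h • v = Spor.leechV ∧ h • w = -(Spor.leechV + Spor.leechU') := by
  have hn : sqNorm ((-(v + w) : leechLattice) : GolayPt → ℤ) = 32 := by
    rw [show ((-(v + w) : leechLattice) : GolayPt → ℤ) = -((v : GolayPt → ℤ) + (w : GolayPt → ℤ)) from rfl,
      show sqNorm (-((v : GolayPt → ℤ) + (w : GolayPt → ℤ))) = sqNorm ((v : GolayPt → ℤ) + (w : GolayPt → ℤ)) from
        Finset.sum_congr rfl fun i _ => by simp only [Pi.neg_apply, neg_sq],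
      sqNorm_add, hv, hw, hd]
    norm_num
  have hdot : dotInt (v : GolayPt → ℤ) (-(v + w) : leechLattice) = -16 := by
    rw [show ((-(v + w) : leechLattice) : GolayPt → ℤ) = -((v : GolayPt → ℤ) + (w : GolayPt → ℤ)) from rfl]
    have e : dotInt (v : GolayPt → ℤ) (-((v : GolayPt → ℤ) + (w : GolayPt → ℤ))) =
        -(sqNorm (v : GolayPt → ℤ)) - dotInt (v : GolayPt → ℤ) w := by
      rw [sqNorm, dotInt, dotInt, ← Finset.sum_neg_distrib, ← Finset.sum_sub_distrib]
      exact Finset.sum_congr rfl fun i _ => by simp only [Pi.neg_apply, Pi.add_apply]; ring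
    rw [e, hv, hd]; norm_num
  obtain ⟨h, h1, h2⟩ := pair11178 hv hn hdot
  refine ⟨h, h1, ?_⟩
  have : w = -(v + -(v + w)) := by abel
  rw [this, smul_neg_vec, smul_add_vec, h1, h2]

/-- Two minimal vectors with product −8 go to the standard ones. -/
theorem pairMcL {v w : leechLattice} (hv : sqNorm (v : GolayPt → ℤ) = 32) (hw : sqNorm (w : GolayPt → ℤ) = 32)
    (hd : dotInt (v : GolayPt → ℤ) w = -8) :
    ∃ h : Co0, h • v = -Spor.leechU ∧ h • w = Spor.leechV + Spor.leechU := by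
  have hn : sqNorm ((v + w : leechLattice) : GolayPt → ℤ) = 48 := by
    rw [AddSubgroup.coe_add, sqNorm_add, hv, hw, hd]; norm_num
  have hdot : dotInt ((v + w : leechLattice) : GolayPt → ℤ) v = 24 := by
    have e : dotInt ((v + w : leechLattice) : GolayPt → ℤ) v =
        sqNorm (v : GolayPt → ℤ) + dotInt (v : GolayPt → ℤ) w := by
      rw [AddSubgroup.coe_add, sqNorm, dotInt, dotInt, ← Finset.sum_add_distrib]
      exact Finset.sum_congr rfl fun i _ => by simp only [Pi.add_apply]; ring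
    rw [e, hv, hd]; norm_num
  obtain ⟨h, h1, h2⟩ := pair552 hn hv hdot
  refine ⟨h, h2, ?_⟩
  have : w = (v + w) - v := by abel
  rw [this, smul_sub_vec, h1, h2, sub_neg_eq_add]

end Cfsg.Agent.LeechPairs
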