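import Mathlib
import Cfsg.Agent.Lib.LeechBasic
import Cfsg.Agent.S0375

/-!
Conway's recognition of the rank-24 even lattice without roots: counting the classes modulo 2
gives an orthogonal frame of norm 8; in frame coordinates the lattice is built from a doubly even
self-dual code without words of weight 4.
-/

set_option autoImplicit false

open Matrix

namespace Cfsg.Agent.LeechRecognition23

/-- The bilinear form of the Gram matrix. -/
def bf (B : Matrix (Fin 24) (Fin 24) ℤ) (x y : Fin 24 → ℤ) : ℤ := x ⬝ᵥ (B *ᵥ y)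

section form

variable {B : Matrix (Fin 24) (Fin 24) ℤ} (hs : B.IsSymm)

include hs in
lemma bf_comm (x y : Fin 24 → ℤ) : bf B x y = bf B y x := by
  unfold bf
  rw [dotProduct_mulVec, ← mulVec_transpose, hs.eq, dotProduct_comm]

include hs in
lemma q_add (x y : Fin 24 → ℤ) : bf B (x + y) (x + y) = bf B x x + 2 * bf B x y + bf B y y := by
  have := bf_comm hs y x
  simp only [bf, mulVec_add, add_dotProduct, dotProduct_add] at *
  omega

lemma bf_neg_right (x y : Fin 24 → ℤ) : bf B x (-y) = - bf B x y := by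
  simp [bf, mulVec_neg]

lemma q_neg (x : Fin 24 → ℤ) : bf B (-x) (-x) = bf B x x := by
  simp [bf, mulVec_neg]

lemma q_two (x : Fin 24 → ℤ) : bf B (2 • x) (2 • x) = 4 * bf B x x := by
  rw [bf, mulVec_smul, smul_dotProduct, dotProduct_smul, smul_smul, nsmul_eq_mul, bf]
  norm_num

/-- Reduction modulo 2. -/
def red (x : Fin 24 → ℤ) : Fin 24 → ZMod 2 := fun i => (x i : ZMod 2)

lemma red_eq_iff {x y : Fin 24 → ℤ} : red x = red y ↔ ∃ z, x - y = 2 • z := by
  constructor
  · intro h
    refine ⟨fun i => (x i - y i) / 2, funext fun i => ?_⟩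
    have := congrFun h i
    simp only [red, ZMod.intCast_eq_intCast_iff_dvd_sub] at this
    simp only [Pi.sub_apply, Pi.smul_apply, nsmul_eq_mul]
    push_cast at this ⊢
    omega
  · rintro ⟨z, hz⟩
    funext i
    have := congrFun hz i
    simp only [Pi.sub_apply, Pi.smul_apply, nsmul_eq_mul] at this
    simp only [red, ZMod.intCast_eq_intCast_iff_dvd_sub]
    push_cast at this ⊢
    omega

variable (h4le : ∀ x : Fin 24 → ℤ, x ≠ 0 → 4 ≤ bf B x x)

include hs h4le in
lemma close_cases {x y : Fin 24 → ℤ} (h : red x = red y) (hx : bf B x x ≤ 8) (hy : bf B y y ≤ 8) :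
    x = y ∨ x = -y ∨ (bf B x x = 8 ∧ bf B y y = 8 ∧ bf B x y = 0) := by
  obtain ⟨z, hz⟩ := red_eq_iff.mp h
  by_cases hz0 : z = 0
  · left; rw [hz0, smul_zero, sub_eq_zero] at hz; exact hz
  by_cases hw0 : z + y = 0
  · right; left
    have hz' : z = -y := eq_neg_of_add_eq_zero_left hw0
    rw [hz'] at hz
    have := eq_add_of_sub_eq hz
    rw [this]; module
  right; right
  have h1 := h4le z hz0
  have h2 := h4le (z + y) hw0
  have e1 : bf B (x + -y) (x + -y) = 4 * bf B z z := by rw [← sub_eq_add_neg, hz, q_two]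
  have e2 : bf B (x + y) (x + y) = 4 * bf B (z + y) (z + y) := by
    rw [← q_two, smul_add, ← hz]; congr 1 <;> module
  rw [q_add hs, bf_neg_right, q_neg] at e1
  rw [q_add hs] at e2
  omega

end form

/-- Vectors of norm `n`. -/
def shell (B : Matrix (Fin 24) (Fin 24) ℤ) (n : ℤ) : Set (Fin 24 → ℤ) :=
  {x | bf B x x = n}

section pigeon

variable {B : Matrix (Fin 24) (Fin 24) ℤ} (hs : B.IsSymm)
  (h4le : ∀ x : Fin 24 → ℤ, x ≠ 0 → 4 ≤ bf B x x)

open scoped Classical

lemma orth_indep {ι : Type*} [Fintype ι] (v : ι → Fin 24 → ℤ) (hne : ∀ i, bf B (v i) (v i) ≠ 0)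
    (ho : ∀ i j, i ≠ j → bf B (v j) (v i) = 0) : LinearIndependent ℤ v := by
  rw [Fintype.linearIndependent_iff]
  intro g hg i
  have h0 : bf B (∑ j, g j • v j) (v i) = 0 := by rw [hg]; simp [bf]
  simp only [bf, sum_dotProduct, smul_dotProduct] at h0
  rw [Finset.sum_eq_single i (fun j _ hji => by
    have := ho i j (Ne.symm hji); unfold bf at this; rw [this]; simp)
    (fun h => absurd (Finset.mem_univ i) h)] at h0
  simp only [smul_eq_mul, mul_eq_zero] at h0
  exact h0.resolve_right (fun h => hne i h)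

include hs h4le in
/-- There is an orthogonal frame of norm 8 congruent modulo 2. -/
theorem exists_frame (h4 : (shell B 4).ncard = 196560) (h6 : (shell B 6).ncard = 16773120)
    (h8 : (shell B 8).ncard = 398034000) :
    ∃ e : Fin 24 → Fin 24 → ℤ, (∀ i, bf B (e i) (e i) = 8) ∧
      (∀ i j, i ≠ j → bf B (e i) (e j) = 0) ∧ ∀ i j, ∃ z, e i - e j = 2 • z := by
  have f4 : (shell B 4).Finite := Set.finite_of_ncard_ne_zero (by omega)
  have f6 : (shell B 6).Finite := Set.finite_of_ncard_ne_zero (by omega)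
  have f8 : (shell B 8).Finite := Set.finite_of_ncard_ne_zero (by omega)
  set T4 := f4.toFinset with hT4
  set T6 := f6.toFinset with hT6
  set T8 := f8.toFinset with hT8
  have c4 : T4.card = 196560 := (Set.ncard_eq_toFinset_card _ f4).symm.trans h4
  have c6 : T6.card = 16773120 := (Set.ncard_eq_toFinset_card _ f6).symm.trans h6
  have c8 : T8.card = 398034000 := (Set.ncard_eq_toFinset_card _ f8).symm.trans h8
  have m4 : ∀ {x}, x ∈ T4 → bf B x x = 4 := fun h => by simpa [hT4, shell] using h
  have m6 : ∀ {x}, x ∈ T6 → bf B x x = 6 := fun h => by simpa [hT6, shell] using h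
  have m8 : ∀ {x}, x ∈ T8 → bf B x x = 8 := fun h => by simpa [hT8, shell] using h
  set I46 := (T4 ∪ T6).image red
  have hI46 : 16969680 ≤ 2 * I46.card := by
    have hdis : Disjoint T4 T6 := Finset.disjoint_left.mpr fun x h h' => by
      have := m4 h; have := m6 h'; omega
    have hb : ∀ c ∈ I46, ((T4 ∪ T6).filter (fun x => red x = c)).card ≤ 2 := by
      intro c hc
      obtain ⟨x, hx, rfl⟩ := Finset.mem_image.mp hc
      refine le_trans (Finset.card_le_card ?_) (Finset.card_le_two (a := x) (b := -x))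
      intro y hy
      obtain ⟨hy, hyx⟩ := Finset.mem_filter.mp hy
      have hn : ∀ {w}, w ∈ T4 ∪ T6 → bf B w w ≤ 6 := fun {w} hw => by
        rcases Finset.mem_union.mp hw with h | h
        · have := m4 h; omega
        · have := m6 h; omega
      have := hn hy
      rcases close_cases hs h4le hyx (by omega) (by linarith [hn hx]) with h | h | ⟨h, _⟩
      · simp [h]
      · simp [h]
      · omega
    have := Finset.card_le_mul_card_image (f := red) (T4 ∪ T6) 2 hb
    rw [Finset.card_union_of_disjoint hdis] at this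
    change T4.card + T6.card ≤ 2 * I46.card at this
    omega
  set I8 := T8.image red
  have hd : Disjoint I8 I46 := Finset.disjoint_left.mpr fun c h h' => by
    obtain ⟨x, hx, rfl⟩ := Finset.mem_image.mp h
    obtain ⟨y, hy, hyx⟩ := Finset.mem_image.mp h'
    have hx8 := m8 hx
    have hy6 : bf B y y ≤ 6 := by
      rcases Finset.mem_union.mp hy with h | h
      · have := m4 h; omega
      · have := m6 h; omega
    rcases close_cases hs h4le hyx (by omega) (by omega) with h | h | ⟨h, _⟩
    · rw [h] at hy6; omega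
    · rw [h, q_neg] at hy6; omega
    · omega
  have hz : (0 : Fin 24 → ZMod 2) ∉ I8 ∪ I46 := fun h => by
    have key : ∀ x : Fin 24 → ℤ, bf B x x ≤ 8 → red x = 0 → x = 0 := fun x hx h0 => by
      have h0' : red x = red 0 := by rw [h0]; funext i; simp [red]
      rcases close_cases hs h4le h0' hx (by simp [bf]) with h | h | ⟨_, h, _⟩
      · exact h
      · simpa using h
      · simp [bf] at h
    rcases Finset.mem_union.mp h with h | h <;> obtain ⟨x, hx, hx0⟩ := Finset.mem_image.mp h
    · have h8' := m8 hx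
      rw [key x (by omega) hx0] at h8'; simp [bf] at h8'
    · rcases Finset.mem_union.mp hx with h | h
      · have h4' := m4 h
        rw [key x (by omega) hx0] at h4'; simp [bf] at h4'
      · have h6' := m6 h
        rw [key x (by omega) hx0] at h6'; simp [bf] at h6'
  have htot := Finset.card_le_univ (insert (0 : Fin 24 → ZMod 2) (I8 ∪ I46))
  rw [Finset.card_insert_of_notMem hz, Finset.card_union_of_disjoint hd, Fintype.card_fun,
    ZMod.card, Fintype.card_fin] at htot
  have hbig : ∃ c ∈ I8, 47 < (T8.filter (fun x => red x = c)).card := by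
    by_contra hcon
    push_neg at hcon
    have := Finset.card_le_mul_card_image (f := red) T8 47 hcon
    change T8.card ≤ 47 * I8.card at this
    omega
  obtain ⟨c, -, hc⟩ := hbig
  set F := T8.filter (fun x => red x = c) with hF
  -- representatives modulo sign
  let pos : (Fin 24 → ℤ) → Finset (Fin 24 → ℤ) := fun x => {x, -x}
  have hrep : 24 ≤ (F.image pos).card := by
    have := Finset.card_le_mul_card_image (f := pos) F 2 (fun p hp => by
      obtain ⟨x, hx, rfl⟩ := Finset.mem_image.mp hp
      refine le_trans (Finset.card_le_card ?_) (Finset.card_le_two (a := x) (b := -x))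
      intro y hy
      obtain ⟨-, hyp⟩ := Finset.mem_filter.mp hy
      have : y ∈ pos x := by rw [← hyp]; simp [pos]
      simpa [pos] using this)
    omega
  obtain ⟨P, hP, hPc⟩ := Finset.exists_subset_card_eq hrep
  let idx : Fin 24 ≃ P := (P.equivFinOfCardEq hPc).symm
  have hch : ∀ i : Fin 24, ∃ x ∈ F, pos x = idx i := fun i =>
    Finset.mem_image.mp (hP (idx i).2)
  choose e heF hepos using hch
  refine ⟨e, fun i => m8 (Finset.mem_filter.mp (heF i)).1, fun i j hij => ?_, fun i j => ?_⟩
  · have hi := Finset.mem_filter.mp (heF i)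
    have hj := Finset.mem_filter.mp (heF j)
    have hi8 := m8 hi.1
    have hj8 := m8 hj.1
    rcases close_cases hs h4le (hi.2.trans hj.2.symm) (by omega) (by omega) with h | h | ⟨_, _, h⟩
    · exact absurd (idx.injective (Subtype.ext ((hepos i).symm.trans ((congrArg pos h).trans (hepos j))))) hij
    · refine absurd (idx.injective (Subtype.ext ((hepos i).symm.trans (Eq.trans ?_ (hepos j))))) hij
      rw [h]; simp only [pos, neg_neg]; exact Finset.pair_comm _ _
    · exact h
  · exact red_eq_iff.mp ((Finset.mem_filter.mp (heF i)).2.trans (Finset.mem_filter.mp (heF j)).2.symm)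

end pigeon

/-- Frame coordinates. -/
def coord (B : Matrix (Fin 24) (Fin 24) ℤ) (e : Fin 24 → Fin 24 → ℤ) :
    (Fin 24 → ℤ) →+ (Fin 24 → ℤ) where
  toFun x i := bf B (e i) x
  map_zero' := by funext i; simp [bf]
  map_add' x y := by funext i; simp [bf, mulVec_add]

section coords

variable {B : Matrix (Fin 24) (Fin 24) ℤ} {e : Fin 24 → Fin 24 → ℤ}
  (he8 : ∀ i, bf B (e i) (e i) = 8) (heo : ∀ i j, i ≠ j → bf B (e i) (e j) = 0)

include he8 heo in
lemma coord_combine (x : Fin 24 → ℤ) : (of e)ᵀ *ᵥ coord B e x = (8 : ℤ) • x := by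
  have h1 : of e * B * (of e)ᵀ = (8 : ℤ) • (1 : Matrix (Fin 24) (Fin 24) ℤ) := by
    ext i j
    have : (of e * B * (of e)ᵀ) i j = bf B (e i) (e j) := by
      simp only [bf, dotProduct_mulVec]
      rfl
    rw [this, Matrix.smul_apply, Matrix.one_apply]
    by_cases hij : i = j
    · subst hij; simp [he8]
    · simp [hij, heo i j hij]
  have hdet : (of e)ᵀ.det ≠ 0 := by
    intro h
    have := congrArg det h1
    rw [det_mul, h, mul_zero, det_smul, det_one, Fintype.card_fin] at this
    norm_num at this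
  have h2 : (of e)ᵀ * (of e * B) = (8 : ℤ) • (1 : Matrix (Fin 24) (Fin 24) ℤ) := by
    have h3 : ((of e)ᵀ * (of e * B) - (8 : ℤ) • 1) * (of e)ᵀ = 0 := by
      rw [Matrix.sub_mul, Matrix.mul_assoc, h1, Matrix.mul_smul, Matrix.smul_mul, Matrix.mul_one,
        Matrix.one_mul, sub_self]
    have h4 := congrArg (· * (of e)ᵀ.adjugate) h3
    simp only [Matrix.zero_mul, Matrix.mul_assoc, mul_adjugate, Matrix.mul_smul, Matrix.mul_one] at h4
    exact sub_eq_zero.mp ((smul_eq_zero.mp h4).resolve_left hdet)
  have h5 : coord B e x = (of e * B) *ᵥ x := by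
    funext i; simp [coord, bf, ← mulVec_mulVec]; rfl
  rw [h5, mulVec_mulVec, h2, smul_mulVec, one_mulVec]

include he8 heo in
lemma coord_dot (x y : Fin 24 → ℤ) : coord B e x ⬝ᵥ coord B e y = 8 * bf B x y := by
  have h := congrArg (fun v => v ⬝ᵥ (B *ᵥ y)) (coord_combine he8 heo x)
  simp only [smul_dotProduct, smul_eq_mul] at h
  unfold bf
  rw [← h, mulVec_transpose, ← dotProduct_mulVec]
  rfl

end coords

/-! ### integer vectors -/

/-- An additive group of integer vectors of the shape obtained from a frame. -/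
structure Framed (L : AddSubgroup (Fin 24 → ℤ)) : Prop where
  norm16 : ∀ x ∈ L, (16 : ℤ) ∣ x ⬝ᵥ x
  dot8 : ∀ x ∈ L, ∀ y ∈ L, (8 : ℤ) ∣ x ⬝ᵥ y
  min32 : ∀ x ∈ L, x ≠ 0 → 32 ≤ x ⬝ᵥ x
  eight : ∀ i, Pi.single i 8 ∈ L
  four : ∀ i j, Pi.single i 4 - Pi.single j 4 ∈ L
  count : {x | x ∈ L ∧ x ⬝ᵥ x = 32}.ncard = 196560

/-- All coordinates even. -/
def IsEvenVec (x : Fin 24 → ℤ) : Prop := ∀ i, x i % 2 = 0

/-- The binary word of a vector: second binary digit of each coordinate. -/
def wd (x : Fin 24 → ℤ) : Fin 24 → ZMod 2 := fun i => ((x i / 2 : ℤ) : ZMod 2)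

lemma wd_eq_zero_iff (x : Fin 24 → ℤ) (i : Fin 24) : wd x i = 0 ↔ x i / 2 % 2 = 0 := by
  rw [wd, ZMod.intCast_zmod_eq_zero_iff_dvd]; omega

lemma wd_ne_zero_iff (x : Fin 24 → ℤ) (i : Fin 24) : wd x i ≠ 0 ↔ x i / 2 % 2 = 1 := by
  rw [Ne, wd_eq_zero_iff]; omega

lemma wd_add {x : Fin 24 → ℤ} (hx : IsEvenVec x) (y : Fin 24 → ℤ) :
    wd (x + y) = wd x + wd y := by
  funext i
  have := hx i
  simp only [Pi.add_apply, wd]
  rw [show (x i + y i) / 2 = x i / 2 + y i / 2 by omega]
  push_cast; rfl

/-- The binary code of a lattice. -/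
def code (L : AddSubgroup (Fin 24 → ℤ)) : Submodule (ZMod 2) (Fin 24 → ZMod 2) where
  carrier := {w | ∃ x ∈ L, IsEvenVec x ∧ wd x = w}
  zero_mem' := ⟨0, L.zero_mem, fun _ => rfl, funext fun i => by simp [wd]⟩
  add_mem' := by
    rintro _ _ ⟨x, hx, hxe, rfl⟩ ⟨y, hy, hye, rfl⟩
    exact ⟨x + y, L.add_mem hx hy, fun i => by
      have := hxe i; have := hye i; simp only [Pi.add_apply]; omega, wd_add hxe y⟩
  smul_mem' c w hw := by
    rcases (show ∀ c : ZMod 2, c = 0 ∨ c = 1 by decide) c with rfl | rfl
    · rw [zero_smul]; exact ⟨0, L.zero_mem, fun _ => rfl, funext fun i => by simp [wd]⟩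
    · rw [one_smul]; exact hw

lemma mem_code {L : AddSubgroup (Fin 24 → ℤ)} {w : Fin 24 → ZMod 2} :
    w ∈ code L ↔ ∃ x ∈ L, IsEvenVec x ∧ wd x = w := Iff.rfl

namespace Framed

variable {L : AddSubgroup (Fin 24 → ℤ)} (h : Framed L)
include h

lemma parity {x : Fin 24 → ℤ} (hx : x ∈ L) (i j : Fin 24) : x i % 2 = x j % 2 := by
  have := h.dot8 x hx _ (h.four i j)
  simp only [dotProduct_sub, dotProduct_single] at this
  omega

lemma even_or_odd {x : Fin 24 → ℤ} (hx : x ∈ L) : IsEvenVec x ∨ ∀ i, x i % 2 = 1 := by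
  rcases Int.emod_two_eq_zero_or_one (x 0) with h0 | h0
  · exact Or.inl fun i => (h.parity hx i 0).trans h0
  · exact Or.inr fun i => (h.parity hx i 0).trans h0

lemma single_four_notMem (i : Fin 24) {c : ℤ} (hc : c = 4 ∨ c = -4) : Pi.single i c ∉ L := by
  intro hm
  have h1 := h.min32 _ hm (by rcases hc with rfl | rfl <;> simp)
  rw [dotProduct_single, Pi.single_eq_same] at h1
  rcases hc with rfl | rfl <;> norm_num at h1

/-- Multiples of 4 with even sum. -/
lemma mem_of_four_dvd {z : Fin 24 → ℤ} (hz : ∀ i, (4 : ℤ) ∣ z i) (hs : (8 : ℤ) ∣ ∑ i, z i) :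
    z ∈ L := by
  choose m hm using hz
  obtain ⟨k, hk⟩ := hs
  have h2 : ∑ i, m i = 2 * k := by
    have : ∑ i, z i = 4 * ∑ i, m i := by rw [Finset.mul_sum]; exact Finset.sum_congr rfl fun i _ => hm i
    omega
  have e : z = ∑ i, m i • (Pi.single i 4 - Pi.single (0 : Fin 24) 4) + k • Pi.single (0 : Fin 24) 8 := by
    funext j
    simp only [Pi.add_apply, Finset.sum_apply, Pi.smul_apply, Pi.sub_apply, smul_eq_mul, mul_sub,
      Finset.sum_sub_distrib, ← Finset.sum_mul]
    rw [h2, Finset.sum_eq_single j (fun i _ hij => by simp [Ne.symm hij]) (by simp)]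
    by_cases hj : j = 0
    · subst hj; simp [hm]; ring
    · simp [hj, hm]; ring
  rw [e]
  exact L.add_mem (L.sum_mem fun i _ => L.zsmul_mem (h.four i 0) _) (L.zsmul_mem (h.eight 0) _)

lemma weight_dvd {x : Fin 24 → ℤ} (hx : x ∈ L) (hxe : IsEvenVec x) :
    4 ∣ hammingNorm (wd x) := by
  obtain ⟨k, hk⟩ := h.norm16 x hx
  have hterm : ∀ i, ∃ m : ℤ, x i * x i = (if wd x i ≠ 0 then 4 else 0) + 16 * m := fun i => by
    have := hxe i
    by_cases hw : wd x i ≠ 0
    · rw [if_pos hw]
      rw [wd_ne_zero_iff] at hw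
      obtain ⟨m, hm⟩ : ∃ m, x i = 4 * m + 2 := ⟨x i / 4, by omega⟩
      exact ⟨m * m + m, by rw [hm]; ring⟩
    · rw [if_neg hw]
      rw [not_not, wd_eq_zero_iff] at hw
      obtain ⟨m, hm⟩ : ∃ m, x i = 4 * m := ⟨x i / 4, by omega⟩
      exact ⟨m * m, by rw [hm]; ring⟩
  choose m hm using hterm
  have : x ⬝ᵥ x = 4 * (hammingNorm (wd x) : ℤ) + 16 * ∑ i, m i := by
    rw [dotProduct, Finset.sum_congr rfl fun i _ => hm i, Finset.sum_add_distrib, ← Finset.mul_sum,
      ← Finset.sum_filter, Finset.sum_const, nsmul_eq_mul]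
    rw [hammingNorm]; ring
  omega

lemma code_weight {w : Fin 24 → ZMod 2} (hw : w ∈ code L) : 4 ∣ hammingNorm w := by
  obtain ⟨x, hx, hxe, rfl⟩ := mem_code.mp hw
  exact h.weight_dvd hx hxe

lemma code_no_four {w : Fin 24 → ZMod 2} (hw : w ∈ code L) : hammingNorm w ≠ 4 := by
  obtain ⟨x, hx, hxe, rfl⟩ := mem_code.mp hw
  intro h4
  obtain ⟨i₀, hi₀⟩ : ∃ i, wd x i ≠ 0 := by
    by_contra hc; push_neg at hc
    rw [hammingNorm_eq_zero.mpr (funext hc)] at h4; omega
  -- reduce modulo multiples of 4 with even sum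
  let r : Fin 24 → ℤ := fun i => if wd x i ≠ 0 then 2 else 0
  have hr : ∀ i, (4 : ℤ) ∣ x i - r i := fun i => by
    have := hxe i
    simp only [r]
    split_ifs with hw
    · rw [wd_ne_zero_iff] at hw; omega
    · rw [not_not, wd_eq_zero_iff] at hw; omega
  have h4sum : (4 : ℤ) ∣ ∑ i, (x i - r i) := Finset.dvd_sum fun i _ => hr i
  obtain ⟨c, hc⟩ : ∃ c : ℤ, (c = 0 ∨ c = 4) ∧ (8 : ℤ) ∣ (∑ i, (x i - r i)) + c := by
    by_cases h8 : (8 : ℤ) ∣ ∑ i, (x i - r i)
    · exact ⟨0, Or.inl rfl, by simpa using h8⟩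
    · exact ⟨4, Or.inr rfl, by omega⟩
  let r' : Fin 24 → ℤ := r - Pi.single i₀ c
  have hr' : r' ∈ L := by
    have hm : x - r' ∈ L := h.mem_of_four_dvd (fun i => by
      have := hr i
      simp only [r', Pi.sub_apply]
      by_cases hi : i = i₀
      · subst hi; rw [Pi.single_eq_same]; omega
      · rw [Pi.single_eq_of_ne hi]; omega) (by
      simp only [r', Pi.sub_apply, sub_sub_eq_add_sub, Finset.sum_sub_distrib,
        Finset.sum_add_distrib, Finset.sum_pi_single', Finset.mem_univ, if_true]
      rw [Finset.sum_sub_distrib] at hc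
      omega)
    simpa using L.sub_mem hx hm
  have hval : ∀ i, r' i * r' i = if wd x i ≠ 0 then 4 else 0 := fun i => by
    simp only [r', r, Pi.sub_apply]
    by_cases hi : i = i₀
    · subst hi; rw [Pi.single_eq_same, if_pos hi₀, if_pos hi₀]
      rcases hc.1 with rfl | rfl <;> norm_num
    · rw [Pi.single_eq_of_ne hi]; split_ifs <;> norm_num
  have hn : r' ⬝ᵥ r' = 16 := by
    rw [dotProduct, Finset.sum_congr rfl fun i _ => hval i, ← Finset.sum_filter, Finset.sum_const]
    rw [hammingNorm] at h4; rw [h4]; norm_num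
  have := h.min32 r' hr' (fun e => by rw [e] at hn; simp at hn)
  omega

lemma code_orth {v w : Fin 24 → ZMod 2} (hv : v ∈ code L) (hw : w ∈ code L) :
    ∑ i, v i * w i = 0 := by
  have h1 := h.code_weight hv
  have h2 := h.code_weight hw
  have h3 := h.code_weight ((code L).add_mem hv hw)
  have e : ∀ a b : ZMod 2, ((if a + b ≠ 0 then 1 else 0 : ℕ) : ℤ) =
      ((if a ≠ 0 then 1 else 0 : ℕ) : ℤ) + ((if b ≠ 0 then 1 else 0 : ℕ) : ℤ)
        - 2 * ((a * b).val : ℤ) := by decide
  have hh : ∀ u : Fin 24 → ZMod 2, (hammingNorm u : ℤ) = ∑ i, ((if u i ≠ 0 then 1 else 0 : ℕ) : ℤ) :=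
    fun u => by rw [hammingNorm, Finset.card_filter]; push_cast; rfl
  have e2 : (hammingNorm (v + w) : ℤ) =
      hammingNorm v + hammingNorm w - 2 * ∑ i, ((v i * w i).val : ℤ) := by
    rw [hh, hh, hh, Finset.mul_sum, ← Finset.sum_add_distrib, ← Finset.sum_sub_distrib]
    exact Finset.sum_congr rfl fun i _ => e _ _
  have e3 : ((∑ i, ((v i * w i).val : ℤ) : ℤ) : ZMod 2) = ∑ i, v i * w i := by
    push_cast; simp
  rw [← e3, ZMod.intCast_zmod_eq_zero_iff_dvd]
  omega

end Framed

section count

open scoped Classical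

variable {L : AddSubgroup (Fin 24 → ℤ)} (h : Framed L)

/-- The support of a binary word. -/
noncomputable def supp (w : Fin 24 → ZMod 2) : Finset (Fin 24) :=
  Finset.univ.filter (fun i => w i ≠ 0)

lemma card_supp (w : Fin 24 → ZMod 2) : (supp w).card = hammingNorm w := by
  simp [supp, hammingNorm]

/-- Octads. -/
noncomputable def octads (L : AddSubgroup (Fin 24 → ℤ)) : Finset (Fin 24 → ZMod 2) :=
  Finset.univ.filter (fun w => w ∈ code L ∧ hammingNorm w = 8)

include h in
lemma card_octads : 56 * (octads L).card ≤ 42504 := by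
  have hd : Set.PairwiseDisjoint (octads L : Set (Fin 24 → ZMod 2))
      (fun w => (supp w).powersetCard 5) := by
    intro v hv w hw hvw
    simp only [octads, Finset.coe_filter, Finset.mem_univ, true_and, Set.mem_ofPred_eq] at hv hw
    refine Finset.disjoint_left.mpr fun f hf hf' => hvw ?_
    obtain ⟨hfv, hf5⟩ := Finset.mem_powersetCard.mp hf
    obtain ⟨hfw, -⟩ := Finset.mem_powersetCard.mp hf'
    have h5 : 5 ≤ (supp v ∩ supp w).card := hf5 ▸ Finset.card_le_card (Finset.subset_inter hfv hfw)
    have hsum : supp (v + w) ⊆ (supp v ∪ supp w) \ (supp v ∩ supp w) := by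
      intro i hi
      simp only [supp, Finset.mem_filter, Finset.mem_univ, true_and, Pi.add_apply] at hi
      simp only [supp, Finset.mem_sdiff, Finset.mem_union, Finset.mem_inter, Finset.mem_filter,
        Finset.mem_univ, true_and]
      exact (show ∀ a b : ZMod 2, a + b ≠ 0 → (a ≠ 0 ∨ b ≠ 0) ∧ ¬ (a ≠ 0 ∧ b ≠ 0) by decide) _ _ hi
    have hc := Finset.card_le_card hsum
    rw [Finset.card_sdiff_of_subset (fun i hi => Finset.mem_union_left _ (Finset.mem_of_mem_inter_left hi))] at hc
    have hu := Finset.card_union_add_card_inter (supp v) (supp w)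
    rw [card_supp, card_supp, hv.2, hw.2] at hu
    rw [card_supp] at hc
    have h4 := h.code_weight ((code L).add_mem hv.1 hw.1)
    have hne4 := h.code_no_four ((code L).add_mem hv.1 hw.1)
    have h0 : hammingNorm (v + w) = 0 := by omega
    have := hammingNorm_eq_zero.mp h0
    funext i
    have hi := congrFun this i
    exact (show ∀ a b : ZMod 2, a + b = 0 → a = b by decide) _ _ hi
  have h1 := Finset.card_biUnion hd
  have h2 : ((octads L).biUnion fun w => (supp w).powersetCard 5) ⊆
      (Finset.univ : Finset (Fin 24)).powersetCard 5 := by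
    intro f hf
    obtain ⟨w, -, hf⟩ := Finset.mem_biUnion.mp hf
    exact Finset.mem_powersetCard.mpr ⟨Finset.subset_univ _, (Finset.mem_powersetCard.mp hf).2⟩
  have h3 := Finset.card_le_card h2
  have h56 : ∀ w ∈ octads L, ((supp w).powersetCard 5).card = 56 := fun w hw => by
    rw [Finset.card_powersetCard, card_supp, (Finset.mem_filter.mp hw).2.2]; decide
  rw [h1, Finset.sum_congr rfl h56, Finset.sum_const, smul_eq_mul,
    Finset.card_powersetCard, Finset.card_univ, Fintype.card_fin] at h3
  have : Nat.choose 24 5 = 42504 := by decide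
  omega

lemma bound_of_norm {x : Fin 24 → ℤ} (hx : x ⬝ᵥ x = 32) (i : Fin 24) : -5 ≤ x i ∧ x i ≤ 5 := by
  have : x i * x i ≤ 32 := hx ▸ Finset.single_le_sum (f := fun j => x j * x j)
    (fun j _ => mul_self_nonneg _) (Finset.mem_univ i)
  constructor <;> nlinarith

include h in
/-- Norm 32 vectors with odd coordinates: one coordinate ±3, the others ±1. -/
lemma odd_shape {x : Fin 24 → ℤ} (hx : x ⬝ᵥ x = 32) (ho : ∀ i, x i % 2 = 1) :
    ∃ p, x p * x p = 9 ∧ ∀ i, i ≠ p → x i * x i = 1 := by
  have hval : ∀ i, x i * x i = 1 ∨ x i * x i = 9 ∨ x i * x i = 25 := fun i => by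
    obtain ⟨hlo, hhi⟩ := bound_of_norm hx i
    have := ho i
    obtain h' | h' | h' | h' | h' | h' :
        x i = -5 ∨ x i = -3 ∨ x i = -1 ∨ x i = 1 ∨ x i = 3 ∨ x i = 5 := by omega
    all_goals rw [h']; norm_num
  have hs : ∑ i, (x i * x i - 1) = 8 := by
    rw [Finset.sum_sub_distrib]; rw [dotProduct] at hx; rw [hx]; simp
  obtain ⟨p, -, hp⟩ := Finset.exists_ne_zero_of_sum_ne_zero (hs.trans_ne (by norm_num))
  rw [← Finset.add_sum_erase _ _ (Finset.mem_univ p)] at hs
  have hnn : ∀ i ∈ Finset.univ.erase p, 0 ≤ x i * x i - 1 := fun i _ => by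
    rcases hval i with h' | h' | h' <;> omega
  have hnn' := Finset.sum_nonneg hnn
  have hp9 : x p * x p = 9 := by rcases hval p with h' | h' | h' <;> omega
  refine ⟨p, hp9, fun i hi => ?_⟩
  have hz : ∑ i ∈ Finset.univ.erase p, (x i * x i - 1) = 0 := by omega
  have := (Finset.sum_eq_zero_iff_of_nonneg hnn).mp hz i (Finset.mem_erase.mpr ⟨hi, Finset.mem_univ i⟩)
  omega

/-- Halved absolute values of an even vector of norm 32. -/
lemma even_shape {x : Fin 24 → ℤ} (hx : x ⬝ᵥ x = 32) (he : IsEvenVec x) :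
    ∀ i, x i = 0 ∨ x i = 2 ∨ x i = -2 ∨ x i = 4 ∨ x i = -4 := fun i => by
  obtain ⟨hlo, hhi⟩ := bound_of_norm hx i
  have := he i
  omega

include h in
/-- Self-orthogonality bounds the dimension. -/
lemma finrank_code_le : Module.finrank (ZMod 2) (code L) ≤ 12 := by
  set f : (Fin 24 → ZMod 2) →ₗ[ZMod 2] Module.Dual (ZMod 2) (code L) :=
    (code L).dualRestrict.comp (dotProductEquiv (ZMod 2) (Fin 24)).toLinearMap
  have hsurj : Function.Surjective f :=
    Subspace.dualRestrict_surjective.comp (dotProductEquiv (ZMod 2) (Fin 24)).surjective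
  have hker : code L ≤ LinearMap.ker f := fun v hv => by
    rw [LinearMap.mem_ker]
    ext ⟨w, hw⟩
    exact h.code_orth hv hw
  have h1 := LinearMap.finrank_range_add_finrank_ker f
  rw [LinearMap.range_eq_top.mpr hsurj, finrank_top, Subspace.dual_finrank_eq,
    Module.finrank_fintype_fun_eq_card, Fintype.card_fin] at h1
  have := Submodule.finrank_mono hker
  omega

include h in
/-- The counts force dimension 12 and an odd vector. -/
theorem finrank_code_and_odd :
    Module.finrank (ZMod 2) (code L) = 12 ∧ ∃ u ∈ L, ∀ i, u i % 2 = 1 := by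
  have hfin : {x : Fin 24 → ℤ | x ∈ L ∧ x ⬝ᵥ x = 32}.Finite :=
    Set.finite_of_ncard_ne_zero (by rw [h.count]; norm_num)
  set T := hfin.toFinset with hT
  have hTc : T.card = 196560 := (Set.ncard_eq_toFinset_card _ hfin).symm.trans h.count
  have memT : ∀ {x}, x ∈ T → x ∈ L ∧ x ⬝ᵥ x = 32 := fun hx => by simpa [hT] using hx
  set O := T.filter (fun x => ¬ IsEvenVec x)
  set P := T.filter (fun x => IsEvenVec x ∧ wd x = 0)
  set Q := T.filter (fun x => IsEvenVec x ∧ wd x ≠ 0)
  have hsplit : T.card ≤ O.card + P.card + Q.card := by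
    refine le_trans (Finset.card_le_card (t := (O ∪ P) ∪ Q) fun x hx => ?_)
      (le_trans (Finset.card_union_le _ _) (Nat.add_le_add_right (Finset.card_union_le _ _) _))
    simp only [O, P, Q, Finset.mem_union, Finset.mem_filter]
    tauto
  -- wd = 0: two coordinates ±4
  have hP : P.card ≤ 2304 := by
    let gen : Fin 24 × Fin 24 × Bool × Bool → (Fin 24 → ℤ) := fun a =>
      Pi.single a.1 (if a.2.2.1 then 4 else -4) + Pi.single a.2.1 (if a.2.2.2 then 4 else -4)
    refine le_trans (Finset.card_le_card (t := Finset.univ.image gen) fun x hx => ?_)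
      (le_trans Finset.card_image_le (by simp))
    simp only [P, Finset.mem_filter] at hx
    obtain ⟨hxT, hxe, hw⟩ := hx
    have hn := (memT hxT).2
    have hv : ∀ i, x i = 0 ∨ x i = 4 ∨ x i = -4 := fun i => by
      have := even_shape hn hxe i
      have := (wd_eq_zero_iff x i).mp (congrFun hw i)
      omega
    set S := Finset.univ.filter (fun i => x i ≠ 0)
    have hS : S.card = 2 := by
      have : ∀ i, x i * x i = if x i ≠ 0 then 16 else 0 := fun i => by
        rcases hv i with h' | h' | h' <;> rw [h'] <;> norm_num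
      rw [dotProduct, Finset.sum_congr rfl fun i _ => this i, ← Finset.sum_filter,
        Finset.sum_const, nsmul_eq_mul] at hn
      change ((S.card : ℤ)) * 16 = 32 at hn
      omega
    obtain ⟨a, b, hab, hSab⟩ := Finset.card_eq_two.mp hS
    refine Finset.mem_image.mpr ⟨(a, b, decide (x a = 4), decide (x b = 4)), Finset.mem_univ _, ?_⟩
    have hout : ∀ i, i ≠ a → i ≠ b → x i = 0 := fun i hia hib => by
      by_contra hne
      have : i ∈ S := by simp [S, hne]
      rw [hSab] at this; simp [hia, hib] at this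
    have ha : x a ≠ 0 := by
      have : a ∈ S := by rw [hSab]; simp
      simpa [S] using this
    have hb : x b ≠ 0 := by
      have : b ∈ S := by rw [hSab]; simp
      simpa [S] using this
    funext i
    simp only [gen, Pi.add_apply, decide_eq_true_eq]
    by_cases hia : i = a
    · subst hia
      rw [Pi.single_eq_same, Pi.single_eq_of_ne hab, add_zero]
      rcases hv i with h' | h' | h' <;> simp_all
    · rw [Pi.single_eq_of_ne hia, zero_add]
      by_cases hib : i = b
      · subst hib
        rw [Pi.single_eq_same]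
        rcases hv i with h' | h' | h' <;> simp_all
      · rw [Pi.single_eq_of_ne hib, hout i hia hib]
  -- octad vectors
  have hQ : Q.card ≤ 128 * (octads L).card := by
    have key : ∀ x ∈ Q, wd x ∈ octads L ∧ ∀ i, x i = if wd x i ≠ 0 then
        (if x i = -2 then -2 else 2) else 0 := by
      intro x hx
      simp only [Q, Finset.mem_filter] at hx
      obtain ⟨hxT, hxe, hw⟩ := hx
      obtain ⟨hxL, hn⟩ := memT hxT
      have hge : ∀ i, (if wd x i ≠ 0 then (4 : ℤ) else 0) ≤ x i * x i := fun i => by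
        split_ifs with h'
        · rw [wd_ne_zero_iff] at h'
          rcases even_shape hn hxe i with h'' | h'' | h'' | h'' | h'' <;> rw [h''] at h' ⊢ <;> omega
        · exact mul_self_nonneg _
      have hsum := Finset.sum_le_sum (s := Finset.univ) fun i _ => hge i
      rw [← dotProduct, hn, ← Finset.sum_filter, Finset.sum_const, nsmul_eq_mul] at hsum
      change (hammingNorm (wd x) : ℤ) * 4 ≤ 32 at hsum
      have h4 := h.weight_dvd hxL hxe
      have hne4 := h.code_no_four (w := wd x) ⟨x, hxL, hxe, rfl⟩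
      have hne0 : hammingNorm (wd x) ≠ 0 := fun e => hw (hammingNorm_eq_zero.mp e)
      have h8 : hammingNorm (wd x) = 8 := by omega
      refine ⟨Finset.mem_filter.mpr ⟨Finset.mem_univ _, ⟨x, hxL, hxe, rfl⟩, h8⟩, fun i => ?_⟩
      have heq : ∑ i, (if wd x i ≠ 0 then (4 : ℤ) else 0) = ∑ i, x i * x i := by
        rw [← dotProduct, hn, ← Finset.sum_filter, Finset.sum_const, nsmul_eq_mul]
        change (hammingNorm (wd x) : ℤ) * 4 = 32
        omega
      have := (Finset.sum_eq_sum_iff_of_le fun i _ => hge i).mp heq i (Finset.mem_univ i)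
      rcases even_shape hn hxe i with h'' | h'' | h'' | h'' | h'' <;>
        simp_all [wd_ne_zero_iff, wd_eq_zero_iff]
    rw [mul_comm]
    refine le_trans (Finset.card_le_mul_card_image (f := wd) Q 128 ?_)
      (by rw [mul_comm]; exact Nat.mul_le_mul_right _ (Finset.card_le_card fun w hw => by
        obtain ⟨x, hx, rfl⟩ := Finset.mem_image.mp hw; exact (key x hx).1))
    intro w hw
    obtain ⟨x₀, hx₀, rfl⟩ := Finset.mem_image.mp hw
    have hoct := (Finset.mem_filter.mp (key x₀ hx₀).1).2.2
    obtain ⟨i₀, hi₀⟩ : ∃ i, i ∈ supp (wd x₀) := Finset.card_pos.mp (by rw [card_supp, hoct]; norm_num)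
    have hcard : ((supp (wd x₀)).erase i₀).powerset.card = 128 := by
      rw [Finset.card_powerset, Finset.card_erase_of_mem hi₀, card_supp, hoct]; norm_num
    rw [← hcard]
    refine Finset.card_le_card_of_injOn (fun x => ((supp (wd x₀)).erase i₀).filter fun i => x i = -2)
      (fun x _ => Finset.mem_powerset.mpr (Finset.filter_subset _ _)) ?_
    intro x hx y hy hxy
    simp only [Finset.coe_filter, Set.mem_ofPred_eq] at hx hy
    have hoff : ∀ i, i ≠ i₀ → x i = y i := fun i hi => by
      have ex := (key x hx.1).2 i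
      have ey := (key y hy.1).2 i
      rw [hx.2] at ex; rw [hy.2] at ey
      by_cases hm : i ∈ supp (wd x₀)
      · have hm' : wd x₀ i ≠ 0 := by simpa [supp] using hm
        rw [if_pos hm'] at ex ey
        have := Finset.ext_iff.mp hxy i
        simp only [Finset.mem_filter, Finset.mem_erase, ne_eq, hi, not_false_eq_true, hm,
          and_self, true_and] at this
        by_cases hx2 : x i = -2
        · rw [hx2, this.mp hx2]
        · rw [if_neg hx2] at ex; rw [if_neg (fun e => hx2 (this.mpr e))] at ey; rw [ex, ey]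
      · have hm' : ¬ wd x₀ i ≠ 0 := by simpa [supp] using hm
        rw [if_neg hm'] at ex ey; rw [ex, ey]
    by_contra hne
    have hi : x i₀ ≠ y i₀ := fun e => hne (funext fun i => by
      by_cases hi : i = i₀
      · rw [hi]; exact e
      · exact hoff i hi)
    have hd : x - y = Pi.single i₀ (x i₀ - y i₀) := funext fun i => by
      by_cases hi' : i = i₀
      · subst hi'; simp
      · simp [hi', hoff i hi']
    have hxQ := (Finset.mem_filter.mp hx.1).1
    have hyQ := (Finset.mem_filter.mp hy.1).1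
    have hm := L.sub_mem (memT hxQ).1 (memT hyQ).1
    rw [hd] at hm
    have hm' : wd x₀ i₀ ≠ 0 := by simpa [supp] using hi₀
    have ex := (key x hx.1).2 i₀
    have ey := (key y hy.1).2 i₀
    rw [hx.2, if_pos hm'] at ex; rw [hy.2, if_pos hm'] at ey
    refine h.single_four_notMem i₀ ?_ hm
    split_ifs at ex ey <;> omega
  -- odd vectors
  have hodd : ∀ x ∈ O, ∀ i, x i % 2 = 1 := fun x hx => by
    simp only [O, Finset.mem_filter] at hx
    exact (h.even_or_odd (memT hx.1).1).resolve_left hx.2
  have hO : O.card ≤ 24 * 2 ^ Module.finrank (ZMod 2) (code L) := by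
    rcases O.eq_empty_or_nonempty with hE | ⟨u, hu⟩
    · simp [hE]
    have hspec : ∀ x ∈ O, ∃ p, x p * x p = 9 ∧ ∀ i, i ≠ p → x i * x i = 1 := fun x hx =>
      odd_shape h (memT (Finset.mem_filter.mp hx).1).2 (hodd x hx)
    choose! pos hpos using hspec
    let g : (Fin 24 → ℤ) → Fin 24 × (Fin 24 → ZMod 2) := fun x => (pos x, wd (x - u))
    have hg := Finset.card_le_card_of_injOn (s := O)
      (t := (Finset.univ : Finset (Fin 24)) ×ˢ Finset.univ.filter (fun w => w ∈ code L)) g
      (fun x hx => by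
        refine Finset.mem_product.mpr ⟨Finset.mem_univ _, Finset.mem_filter.mpr
          ⟨Finset.mem_univ _, x - u, L.sub_mem (memT (Finset.mem_filter.mp hx).1).1
            (memT (Finset.mem_filter.mp hu).1).1, fun i => ?_, rfl⟩⟩
        have := hodd x hx i; have := hodd u hu i; simp only [Pi.sub_apply]; omega)
      (fun x hx y hy hxy => by
        obtain ⟨h1, h2⟩ := Prod.mk.inj hxy
        funext i
        have e := congrFun h2 i
        simp only [wd, Pi.sub_apply, ZMod.intCast_eq_intCast_iff_dvd_sub] at e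
        push_cast at e
        have := hodd x hx i; have := hodd y hy i; have := hodd u hu i
        have bx := bound_of_norm (memT (Finset.mem_filter.mp hx).1).2 i
        have by' := bound_of_norm (memT (Finset.mem_filter.mp hy).1).2 i
        have sq : x i * x i = y i * y i := by
          by_cases hp : i = pos x
          · rw [hp, (hpos x hx).1, h1, (hpos y hy).1]
          · rw [(hpos x hx).2 i hp, (hpos y hy).2 i (h1 ▸ hp)]
        rcases mul_self_eq_mul_self_iff.mp sq with h' | h'
        · exact h'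
        · omega)
    refine hg.trans ?_
    rw [Finset.card_product, Finset.card_univ, Fintype.card_fin, ← Fintype.card_subtype]
    exact le_of_eq (congrArg (24 * ·) ((Module.card_eq_pow_finrank (K := ZMod 2)
      (V := code L)).trans (by rw [ZMod.card])))
  have hoc := card_octads h
  have hle := finrank_code_le h
  have hge : 12 ≤ Module.finrank (ZMod 2) (code L) := by
    by_contra hc
    have : 2 ^ Module.finrank (ZMod 2) (code L) ≤ 2 ^ 11 := Nat.pow_le_pow_right (by norm_num) (by omega)
    omega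
  refine ⟨by omega, ?_⟩
  have hne : O.Nonempty := Finset.card_pos.mp (by omega)
  obtain ⟨u, hu⟩ := hne
  exact ⟨u, (memT (Finset.mem_filter.mp hu).1).1, hodd u hu⟩

end count

section embed

open Cfsg Cfsg.Agent.LeechBasic

variable {L : AddSubgroup (Fin 24 → ℤ)} (h : Framed L)

include h in
/-- A framed group is carried onto the lattice by a signed relabelling. -/
theorem exists_signed_relabel : ∃ φ : (Fin 24 → ℤ) →+ (GolayPt → ℤ),
    Function.Injective φ ∧ (∀ x, sqNorm (φ x) = x ⬝ᵥ x) ∧
      (∀ x ∈ L, φ x ∈ leechLattice) ∧ ∀ y ∈ leechLattice, ∃ x ∈ L, φ x = y := by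
  obtain ⟨hdim, u, huL, hu⟩ := finrank_code_and_odd h
  obtain ⟨τ, hτ⟩ := Cfsg.Agent.S0375.result (code L) hdim (fun v hv w hw => h.code_orth hv hw)
    (fun w hw => h.code_weight hw) (fun w hw => h.code_no_four hw)
  let ε : Fin 24 → ℤ := fun i => if u i % 4 = 1 then 1 else -1
  have hε : ∀ i, ε i * ε i = 1 := fun i => by simp only [ε]; split_ifs <;> norm_num
  have hε' : ∀ i, ε i = 1 ∨ ε i = -1 := fun i => by simp only [ε]; split_ifs <;> simp
  let φ : (Fin 24 → ℤ) →+ (GolayPt → ℤ) :=
    { toFun := fun x a => ε (τ.symm a) * x (τ.symm a)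
      map_zero' := by funext a; simp
      map_add' := fun x y => by funext a; simp [mul_add] }
  have φapp : ∀ x i, φ x (τ i) = ε i * x i := fun x i => by simp [φ]
  have φsum : ∀ x, ∑ a, φ x a = ∑ i, ε i * x i := fun x => by
    rw [← Equiv.sum_comp τ]; simp only [φapp]
  have hφwd : ∀ x, IsEvenVec x → (fun i => wbit (φ x) (τ i)) = wd x := fun x hx => by
    funext i
    have := hx i
    simp only [wbit, wd, φapp, ZMod.intCast_eq_intCast_iff_dvd_sub]
    push_cast
    rcases hε' i with h' | h' <;> rw [h'] <;> omega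
  have hu1 : ∀ i, (ε i * u i) % 4 = 1 := fun i => by
    have := hu i
    simp only [ε]
    split_ifs with h' <;> omega
  have hu8 : (∑ a, φ u a) % 8 = 4 := by
    obtain ⟨k, hk⟩ := h.norm16 u huL
    have hex : ∀ i, ∃ m, ε i * u i = 4 * m + 1 := fun i => ⟨ε i * u i / 4, by have := hu1 i; omega⟩
    choose m hm using hex
    have e : u ⬝ᵥ u = 24 + 8 * ∑ i, m i + 16 * ∑ i, m i * m i := by
      have : ∀ i, u i * u i = 1 + 8 * m i + 16 * (m i * m i) := fun i => by
        rw [show u i * u i = (ε i * u i) * (ε i * u i) by linear_combination -(u i * u i) * hε i,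
          hm i]
        ring
      rw [dotProduct, Finset.sum_congr rfl fun i _ => this i, Finset.sum_add_distrib,
        Finset.sum_add_distrib, ← Finset.mul_sum, ← Finset.mul_sum]
      simp
    rw [φsum, Finset.sum_congr rfl fun i _ => hm i, Finset.sum_add_distrib, ← Finset.mul_sum]
    simp only [Finset.sum_const, Finset.card_univ, Fintype.card_fin, nsmul_eq_mul]
    omega
  have hφu : φ u ∈ leechLattice := by
    rw [mem_leechLattice]
    have hodd : ∀ a, φ u a % 4 = 1 := fun a => by
      have := hu1 (τ.symm a); simpa [φ] using this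
    refine ⟨fun a => ?_, ?_, ?_⟩
    · have := hodd a; have := hodd none; omega
    · have := hodd none; omega
    · have : wbit (φ u) = 0 := by
        funext a
        have := hodd a
        simp only [wbit, Pi.zero_apply, ZMod.intCast_zmod_eq_zero_iff_dvd]
        omega
      rw [this]; exact zero_mem _
  have heven : ∀ x ∈ L, IsEvenVec x → φ x ∈ leechLattice := fun x hx hxe => by
    rw [mem_leechLattice]
    have hp : ∀ a, φ x a % 2 = 0 := fun a => by
      have := hxe (τ.symm a)
      rcases hε' (τ.symm a) with h' | h' <;> simp [φ, h'] <;> omega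
    refine ⟨fun a => by rw [hp a, hp none], ?_, ?_⟩
    · rw [hp none]
      obtain ⟨k, hk⟩ := h.dot8 x hx u huL
      have : ∀ i, (8 : ℤ) ∣ x i * u i - ε i * x i := fun i => by
        obtain ⟨m, hm⟩ : ∃ m, ε i * u i = 4 * m + 1 :=
          ⟨ε i * u i / 4, by have := hu1 i; omega⟩
        obtain ⟨n, hn⟩ : ∃ n, x i = 2 * n := ⟨x i / 2, by have := hxe i; omega⟩
        exact ⟨ε i * n * m, by linear_combination (ε i * x i) * hm + (4 * ε i * m) * hn - (x i * u i) * hε i⟩
      have h8 := Finset.dvd_sum (s := Finset.univ) fun i _ => this i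
      rw [Finset.sum_sub_distrib] at h8
      rw [φsum]
      rw [dotProduct] at hk
      omega
    · rw [hτ, hφwd x hxe]
      exact ⟨x, hx, hxe, rfl⟩
  refine ⟨φ, fun x y hxy => funext fun i => ?_, fun x => ?_, fun x hx => ?_, fun y hy => ?_⟩
  · have := congrFun hxy (τ i)
    rw [φapp, φapp] at this
    exact mul_left_cancel₀ (fun e => by simpa [e] using hε i) this
  · rw [sqNorm, ← Equiv.sum_comp τ, dotProduct]
    refine Finset.sum_congr rfl fun i _ => ?_
    rw [φapp]
    linear_combination (x i * x i) * hε i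
  · rcases h.even_or_odd hx with he | ho
    · exact heven x hx he
    · have hd : IsEvenVec (x - u) := fun i => by
        have := ho i; have := hu i; simp only [Pi.sub_apply]; omega
      have := add_mem (heven _ (L.sub_mem hx huL) hd) hφu
      rwa [← map_add, sub_add_cancel] at this
  · -- subtract the image of the odd vector if needed
    have main : ∀ y ∈ leechLattice, (y none % 2 = 0) → ∃ x ∈ L, φ x = y := by
      intro y hy hy0
      obtain ⟨hpar, hsum, hw⟩ := mem_leechLattice.mp hy
      have hye : ∀ a, y a % 2 = 0 := fun a => (hpar a).trans hy0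
      rw [hy0] at hsum
      rw [hτ] at hw
      obtain ⟨x, hx, hxe, hwx⟩ := hw
      refine ⟨(fun i => ε i * y (τ i) - x i) + x, L.add_mem (h.mem_of_four_dvd ?_ ?_) hx, ?_⟩
      · intro i
        have e := congrFun hwx i
        simp only [wd, wbit, ZMod.intCast_eq_intCast_iff_dvd_sub] at e
        push_cast at e
        have := hye (τ i); have := hxe i
        rcases hε' i with h' | h' <;> rw [h'] <;> omega
      · obtain ⟨k, hk⟩ := h.dot8 x hx u huL
        have hA : ∀ i, (8 : ℤ) ∣ (ε i * y (τ i) - x i) - (y (τ i) - x i * u i) := fun i => by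
          obtain ⟨m, hm⟩ : ∃ m, ε i * u i = 4 * m + 1 :=
            ⟨ε i * u i / 4, by have := hu1 i; omega⟩
          obtain ⟨n, hn⟩ : ∃ n, x i = 2 * n := ⟨x i / 2, by have := hxe i; omega⟩
          have e := congrFun hwx i
          simp only [wd, wbit, ZMod.intCast_eq_intCast_iff_dvd_sub] at e
          push_cast at e
          have := hye (τ i)
          obtain ⟨z, hz⟩ : ∃ z, y (τ i) = 2 * n + 4 * z := ⟨(y (τ i) - 2 * n) / 4, by omega⟩
          rcases hε' i with h' | h'
          · rw [h', one_mul] at hm ⊢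
            exact ⟨n * m, by rw [hm, hn]; ring⟩
          · rw [h'] at hm ⊢
            have hm' : u i = -(4 * m + 1) := by omega
            exact ⟨-n - z - n * m, by rw [hm', hn, hz]; ring⟩
        have h8 := Finset.dvd_sum (s := Finset.univ) fun i _ => hA i
        rw [Finset.sum_sub_distrib, Finset.sum_sub_distrib, Finset.sum_sub_distrib,
          Equiv.sum_comp τ] at h8
        rw [Finset.sum_sub_distrib]
        rw [dotProduct] at hk
        omega
      · funext a
        obtain ⟨i, rfl⟩ := τ.surjective a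
        rw [φapp]
        simp only [Pi.add_apply, sub_add_cancel]
        linear_combination y (τ i) * hε i
    rcases Int.emod_two_eq_zero_or_one (y none) with h0 | h1
    · exact main y hy h0
    · have hu0 : (φ u) none % 2 = 1 := by
        have := hu (τ.symm none)
        rcases hε' (τ.symm none) with h' | h' <;> simp [φ, h'] <;> omega
      obtain ⟨x, hx, hxy⟩ := main (y - φ u) (sub_mem hy hφu) (by simp only [Pi.sub_apply]; omega)
      exact ⟨x + u, L.add_mem hx huL, by rw [map_add, hxy, sub_add_cancel]⟩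

end embed

end Cfsg.Agent.LeechRecognition23
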