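import Cfsg.Agent.Lib.LeechOutTool
import Cfsg.Agent.Lib.SplitVoltageCert

/-!
The automorphisms of the lattice as matrices modulo five, with packed columns for checking
identities between long products.
-/

set_option autoImplicit false

namespace Cfsg.Agent.LeechRepMod50

open Cfsg Cfsg.Agent.GolayBasic Cfsg.Agent.LeechBasic Cfsg.Agent.LeechAut
open Cfsg.Agent.LeechOrbit Cfsg.Agent.LeechCert Cfsg.Agent.LeechOutTool
open Cfsg.Agent.SplitVoltageCert (B evalF dle dle_add dle_mul dle_mono evalF_add evalF_mul dle_zero)
open Cfsg.Agent.LeechFreeInvolution (frameCodes)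
open scoped Pointwise Matrix

/-- vectors modulo five -/
abbrev V5 : Type := GolayPt → ZMod 5

/-- the standard vectors in the order of the positions -/
def units : List V5 := (List.range 24).map fun i => Pi.single (pt i) 1

/-- the vector of a packed column -/
def vecP (x : ℕ) : V5 := evalF units x

/-- the matrix of a list of packed columns -/
def toM (A : List ℕ) : Matrix GolayPt GolayPt (ZMod 5) := fun a b => vecP (A.getD (idx b) 0) a

/-- linear combination of columns by the digits of a column -/
def comb : List ℕ → ℕ → ℕ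
  | [], _ => 0
  | a :: A, x => (x % B) * a + comb A (x / B)

/-- reduction of digits modulo five -/
def red : ℕ → ℕ → ℕ
  | 0, _ => 0
  | k + 1, x => x % B % 5 + B * red k (x / B)

/-- product of packed matrices -/
def mulM (A C : List ℕ) : List ℕ := C.map fun x => red 24 (comb A x)

/-- a well formed packed matrix -/
def okM (A : List ℕ) : Bool := (A.length == 24) && A.all (dle 24 4)

theorem evalF_map {W X : Type*} [AddCommGroup W] [AddCommGroup X] (f : W →+ X) :
    ∀ (l : List W) (x : ℕ), evalF (l.map f) x = f (evalF l x)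
  | [], x => (map_zero f).symm
  | q :: l, x => by
    show (x % B) • f q + evalF (l.map f) (x / B) = f ((x % B) • q + evalF l (x / B))
    rw [evalF_map f l, map_add, map_nsmul]

theorem evalF_red {W : Type*} [AddCommGroup W] (h5 : ∀ w : W, 5 • w = 0) :
    ∀ (l : List W) (x : ℕ), evalF l (red l.length x) = evalF l x
  | [], _ => rfl
  | q :: l, x => by
    show ((x % B % 5 + B * red l.length (x / B)) % B) • q +
      evalF l ((x % B % 5 + B * red l.length (x / B)) / B) = (x % B) • q + evalF l (x / B)
    have hlt : x % B % 5 < B := lt_of_lt_of_le (Nat.mod_lt _ (by norm_num)) (by norm_num [B])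
    rw [Nat.add_mul_mod_self_left, Nat.mod_eq_of_lt hlt, Nat.add_mul_div_left _ _ (by norm_num [B]),
      Nat.div_eq_of_lt hlt, zero_add, evalF_red h5 l]
    congr 1
    conv_rhs => rw [← Nat.mod_add_div (x % B) 5, add_nsmul, mul_nsmul, h5, nsmul_zero, add_zero]

theorem comb_spec : ∀ (A : List ℕ) (x l : ℕ), A.length * (4 * l) < B → l < B →
    (∀ a ∈ A, dle 24 4 a = true) → dle A.length l x = true →
    dle 24 (A.length * (4 * l)) (comb A x) = true ∧
      evalF units (comb A x) = evalF (A.map (evalF units)) x := by
  intro A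
  induction A with
  | nil =>
    intro x l _ _ _ _
    exact ⟨dle_zero _ _, by rw [comb, List.map_nil]; exact SplitVoltageCert.evalF_zero _⟩
  | cons a A ih =>
    intro x l hb hl hA hx
    simp only [List.length_cons, dle, Bool.and_eq_true, decide_eq_true_eq] at hx
    have ha := hA a List.mem_cons_self
    simp only [List.length_cons, Nat.add_mul, Nat.one_mul] at hb
    obtain ⟨h1, h2⟩ := ih (x / B) l (by omega) hl (fun b hb' => hA b (List.mem_cons_of_mem _ hb'))
      hx.2
    have hm : (x % B) * 4 ≤ 4 * l := by rw [Nat.mul_comm]; exact Nat.mul_le_mul_left 4 hx.1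
    have h3 : dle 24 (4 * l) ((x % B) * a) = true :=
      dle_mono _ hm (dle_mul 24 _ (by omega) ha)
    refine ⟨?_, ?_⟩
    · have := dle_add 24 (by omega) h3 h1
      show dle 24 _ ((x % B) * a + comb A (x / B)) = true
      exact dle_mono _ (by simp only [List.length_cons, Nat.add_mul, Nat.one_mul]; omega) this
    · have hlen : units.length = 24 := by simp [units]
      show evalF units ((x % B) * a + comb A (x / B)) = _
      rw [evalF_add units (by omega) (hlen ▸ h3) (hlen ▸ h1), h2,
        evalF_mul units _ (l := 4) (by omega) (hlen ▸ ha)]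
      rfl

theorem five_zero (w : V5) : 5 • w = 0 := by
  funext a
  simp only [Pi.smul_apply, nsmul_eq_mul, Pi.zero_apply]
  rw [show ((5 : ℕ) : ZMod 5) = 0 from ZMod.natCast_self 5, zero_mul]

set_option maxHeartbeats 1000000 in
theorem vecP_comb {A : List ℕ} (hA : okM A = true) {x : ℕ} (hx : dle 24 4 x = true) :
    vecP (red 24 (comb A x)) = toM A *ᵥ vecP x := by
  simp only [okM, Bool.and_eq_true, beq_iff_eq, List.all_eq_true] at hA
  have hlen : units.length = 24 := by simp [units]
  obtain ⟨-, h2⟩ := comb_spec A x 4 (by rw [hA.1]; norm_num [B]) (by norm_num [B]) hA.2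
    (by rw [hA.1]; exact hx)
  show _ = (toM A).mulVecLin.toAddMonoidHom (vecP x)
  rw [vecP, ← hlen, evalF_red five_zero, h2, vecP, ← evalF_map]
  congr 1
  refine List.ext_getElem (by simp [hA.1, hlen]) fun i hi hi' => ?_
  have hi2 : i < 24 := by simpa [hlen] using hi'
  simp only [List.getElem_map]
  funext c
  show _ = ((toM A).mulVecLin (units[i]'(by rw [hlen]; exact hi2))) c
  simp only [units, List.getElem_map, List.getElem_range, Matrix.mulVecLin_apply,
    Matrix.mulVec_single_one, Matrix.col_apply, toM, vecP, idx_pt hi2]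
  rw [List.getD_eq_getElem (hn := by omega)]

theorem toM_mul {A C : List ℕ} (hA : okM A = true) (hC : okM C = true) :
    toM (mulM A C) = toM A * toM C := by
  have hC' := hC
  simp only [okM, Bool.and_eq_true, beq_iff_eq, List.all_eq_true] at hC'
  ext a b
  have hb : idx b < C.length := by rw [hC'.1]; exact idx_lt b
  show vecP ((mulM A C).getD (idx b) 0) a = _
  rw [mulM, List.getD_eq_getElem (hn := by simpa using hb), List.getElem_map,
    vecP_comb hA (hC'.2 _ (List.getElem_mem _)), Matrix.mul_apply]
  simp only [Matrix.mulVec, dotProduct, toM]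
  refine Finset.sum_congr rfl fun c _ => ?_
  rw [List.getD_eq_getElem (hn := hb)]

/-- the digits of a packed column differ modulo five -/
def diffP : ℕ → ℕ → ℕ → Bool
  | 0, _, _ => false
  | k + 1, x, y => (x % B % 5 != y % B % 5) || diffP k (x / B) (y / B)

theorem diffP_ne {W : Type*} [AddCommGroup W] (f : List W) (h5 : ∀ w : W, 5 • w = 0) :
    ∀ (x y : ℕ), (∀ i (hi : i < f.length), ∃ g : W →+ ZMod 5, ∀ j (hj : j < f.length),
      g (f[j]) = if i = j then 1 else 0) → diffP f.length x y = true → evalF f x ≠ evalF f y := by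
  induction f with
  | nil => intro x y _ h; simp [diffP] at h
  | cons q f ih =>
    intro x y hg h e
    simp only [List.length_cons, diffP, Bool.or_eq_true, bne_iff_ne, ne_eq] at h
    obtain ⟨g, hgq⟩ := hg 0 (by simp)
    have hzero : ∀ z, g (evalF f z) = 0 := by
      intro z
      rw [← evalF_map]
      have : f.map g = List.replicate f.length 0 := List.ext_getElem (by simp) fun j hj hj' => by
        have := hgq (j + 1) (by simp; simpa using hj)
        simpa using this
      rw [this]
      have hz : ∀ (n z : ℕ), evalF (List.replicate n (0 : ZMod 5)) z = 0 := by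
        intro n
        induction n with
        | zero => intro z; rfl
        | succ n ihn => intro z; show (z % B) • (0 : ZMod 5) + _ = 0; rw [ihn]; simp
      exact hz _ _
    have e' : (x % B) • q + evalF f (x / B) = (y % B) • q + evalF f (y / B) := e
    have e1 := congrArg g e'
    have hq : g q = 1 := by
      have := hgq 0 (by simp)
      simpa only [List.getElem_cons_zero, if_true] using this
    simp only [map_add, map_nsmul, hzero, hq, add_zero, nsmul_eq_mul, mul_one] at e1
    rcases h with h | h
    · exact h ((ZMod.natCast_eq_natCast_iff' _ _ 5).1 e1)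
    · refine ih (x / B) (y / B) (fun i hi => ?_) h ?_
      · obtain ⟨g', hg'⟩ := hg (i + 1) (by simp; omega)
        exact ⟨g', fun j hj => by
          have := hg' (j + 1) (by simp; omega)
          simpa only [List.getElem_cons_succ, Nat.add_right_cancel_iff] using this⟩
      · have hcan : (x % B) • q = (y % B) • q → evalF f (x / B) = evalF f (y / B) := fun h => by
          rw [h] at e'; exact add_left_cancel e'
        exact hcan (sub_eq_zero.1 (by
          have e2 : ((x % B : ℕ) : ZMod 5) = ((y % B : ℕ) : ZMod 5) := e1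
          obtain hmod := (ZMod.natCast_eq_natCast_iff' _ _ 5).1 e2
          rw [← Nat.mod_add_div (x % B) 5, ← Nat.mod_add_div (y % B) 5, hmod]
          exact sub_eq_zero.2 (by
            rw [add_nsmul, add_nsmul, mul_nsmul, mul_nsmul]
            simp [h5])))

theorem vecP_ne {x y : ℕ} (h : diffP 24 x y = true) : vecP x ≠ vecP y := by
  have hlen : units.length = 24 := by simp [units]
  refine diffP_ne units five_zero x y (fun i hi => ?_) (hlen.symm ▸ h)
  refine ⟨Pi.evalAddMonoidHom _ (pt i), fun j hj => ?_⟩
  have hi' : i < 24 := hlen ▸ hi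
  have hj' : j < 24 := hlen ▸ hj
  simp only [units, List.getElem_map, List.getElem_range, Pi.evalAddMonoidHom_apply]
  by_cases hij : i = j
  · subst hij; simp
  · rw [if_neg hij, Pi.single_eq_of_ne]
    intro e
    exact hij (by have := congrArg idx e; rwa [idx_pt hi', idx_pt hj'] at this)

/-- The representation modulo five. -/
noncomputable def ρ : Co0 →* Matrix GolayPt GolayPt (ZMod 5) where
  toFun g := Matrix.of fun a b => 2 * ((((g • frame b : leechLattice) : GolayPt → ℤ) a : ℤ) : ZMod 5)
  map_one' := by
    ext a b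
    show 2 * ((((1 : Co0) • frame b : leechLattice) : GolayPt → ℤ) a : ZMod 5) = _
    rw [one_smul, Matrix.one_apply]
    show 2 * ((unitVec 8 b a : ℤ) : ZMod 5) = _
    by_cases h : a = b
    · subst h; simp [unitVec]; decide
    · simp [unitVec, h]
  map_mul' g h := by
    ext a b
    rw [Matrix.mul_apply]
    have e := congrArg (fun z : ℤ => (z : ZMod 5)) (eight_mul_coe_smul g (h • frame b) a)
    simp only [Int.cast_sum, Int.cast_mul] at e
    show 2 * ((((g * h) • frame b : leechLattice) : GolayPt → ℤ) a : ZMod 5) = _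
    rw [mul_smul]
    have h16 : ((8 : ℤ) : ZMod 5) * 2 = 1 := by decide
    calc (2 : ZMod 5) * (((g • h • frame b : leechLattice) : GolayPt → ℤ) a : ZMod 5)
        = 4 * (((8 : ℤ) : ZMod 5) * (((g • h • frame b : leechLattice) : GolayPt → ℤ) a : ZMod 5)) := by
          rw [← mul_assoc]; congr 1
      _ = _ := by
          rw [e, Finset.mul_sum]
          refine Finset.sum_congr rfl fun c _ => ?_
          simp only [Matrix.of_apply]
          ring

theorem ρ_injective : Function.Injective ρ := by
  intro g h e
  refine ext_frame fun b => Subtype.ext ?_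
  set v : GolayPt → ℤ := ((g • frame b : leechLattice) : GolayPt → ℤ) with hv
  set w : GolayPt → ℤ := ((h • frame b : leechLattice) : GolayPt → ℤ) with hw
  have h5 : ∀ a, (5 : ℤ) ∣ v a - w a := by
    intro a
    have h1 : (2 : ZMod 5) * (v a : ZMod 5) = 2 * (w a : ZMod 5) := congrFun (congrFun e a) b
    have h2 : ((v a - w a : ℤ) : ZMod 5) = 0 := by
      rw [Int.cast_sub, sub_eq_zero]
      have key : ∀ x y : ZMod 5, 2 * x = 2 * y → x = y := by decide
      exact key _ _ h1
    exact_mod_cast (ZMod.intCast_zmod_eq_zero_iff_dvd _ 5).1 h2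
  choose d hd using h5
  have hl : IsLeech (v - w) :=
    mem_leechLattice.1 ((g • frame b - h • frame b : leechLattice).2)
  have hdl : IsLeech d := by
    have h8 : ∀ i, unitVec 8 i ∈ leechLattice := fun i => mem_leechLattice.2 (isLeech_unitVec_eight i)
    have h8d : (8 : ℤ) • d ∈ leechLattice := by
      have : (8 : ℤ) • d = ∑ i, d i • unitVec 8 i := by
        funext a
        simp [unitVec, Finset.sum_apply, mul_comm]
      rw [this]
      exact sum_mem fun i _ => zsmul_mem (h8 i) _
    have h5d : (5 : ℤ) • d ∈ leechLattice := by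
      have : (5 : ℤ) • d = v - w := by
        funext a
        simp [hd a]
      rw [this]
      exact mem_leechLattice.2 hl
    refine mem_leechLattice.1 ?_
    have : d = (2 : ℤ) • ((8 : ℤ) • d) + (-3 : ℤ) • ((5 : ℤ) • d) := by
      funext a; simp; ring
    rw [this]
    exact add_mem (zsmul_mem h8d _) (zsmul_mem h5d _)
  by_contra hne
  have hd0 : d ≠ 0 := by
    intro h0
    refine hne (funext fun a => ?_)
    have := hd a
    rw [h0, Pi.zero_apply, mul_zero] at this
    exact sub_eq_zero.1 this
  have hbig := thirtytwo_le_sqNorm hdl hd0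
  have h25 : sqNorm (v - w) = 25 * sqNorm d := by
    simp only [sqNorm, Pi.sub_apply, hd, Finset.mul_sum, mul_pow]
    norm_num
  have hv64 : sqNorm v = 64 := by rw [hv, sqNorm_smul, sqNorm_frame]
  have hw64 : sqNorm w = 64 := by rw [hw, sqNorm_smul, sqNorm_frame]
  have : sqNorm (v - w) ≤ 256 := by
    have h0 : ∀ a, (v a - w a) ^ 2 ≤ 2 * v a ^ 2 + 2 * w a ^ 2 := fun a => by
      nlinarith [sq_nonneg (v a + w a)]
    calc sqNorm (v - w) ≤ ∑ a, (2 * v a ^ 2 + 2 * w a ^ 2) := Finset.sum_le_sum fun a _ => h0 a
      _ = 2 * sqNorm v + 2 * sqNorm w := by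
        rw [Finset.sum_add_distrib, ← Finset.mul_sum, ← Finset.mul_sum]; rfl
      _ = 256 := by rw [hv64, hw64]; norm_num
  omega

/-- packing of the image of a frame vector -/
def pack5 (n : ℕ) : ℕ → ℕ → ℕ
  | 0, _ => 0
  | k + 1, i => (2 * ((dig n i + 40) % 5).toNat) % 5 + B * pack5 n k (i + 1)

/-- the packed matrix of a word -/
noncomputable def matW (w : List Step) : List ℕ :=
  (List.range 24).map fun i => force (applyWord w (frameCodes.getD i 0)) fun n => pack5 n 24 0

theorem evalF_pack (n : ℕ) : ∀ (k i : ℕ), i + k = 24 → ∀ a : GolayPt,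
    evalF ((List.range' i k).map fun j => (Pi.single (pt j) 1 : V5)) (pack5 n k i) a =
      if i ≤ idx a then 2 * ((dig n (idx a) : ℤ) : ZMod 5) else 0 := by
  intro k
  induction k with
  | zero =>
    intro i hi a
    rw [if_neg (by have := idx_lt a; omega)]
    rfl
  | succ k ih =>
    intro i hi a
    set c := (2 * ((dig n i + 40) % 5).toNat) % 5 with hc
    have hcB : c < B := lt_of_lt_of_le (Nat.mod_lt _ (by norm_num)) (by norm_num [B])
    have hcast : (c : ZMod 5) = 2 * ((dig n i : ℤ) : ZMod 5) := by
      rw [hc, ZMod.natCast_mod, Nat.cast_mul]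
      congr 1
      have h0 : (((dig n i + 40) % 5).toNat : ℤ) = (dig n i + 40) % 5 :=
        Int.toNat_of_nonneg (Int.emod_nonneg _ (by norm_num))
      have h1 : (((((dig n i + 40) % 5).toNat : ℤ)) : ZMod 5) = ((dig n i : ℤ) : ZMod 5) := by
        rw [h0, ZMod.intCast_eq_intCast_iff']
        omega
      exact_mod_cast h1
    rw [List.range'_succ, List.map_cons]
    show (((c + B * pack5 n k (i + 1)) % B) • (Pi.single (pt i) 1 : V5) +
      evalF _ ((c + B * pack5 n k (i + 1)) / B)) a = _
    rw [Nat.add_mul_mod_self_left, Nat.mod_eq_of_lt hcB, Nat.add_mul_div_left _ _ (by norm_num [B]),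
      Nat.div_eq_of_lt hcB, zero_add, Pi.add_apply, ih (i + 1) (by omega) a, Pi.smul_apply,
      nsmul_eq_mul, hcast]
    by_cases ha : a = pt i
    · subst ha
      rw [Pi.single_eq_same, idx_pt (by omega), if_neg (by omega), if_pos le_rfl, mul_one, add_zero]
    · rw [Pi.single_eq_of_ne ha, mul_zero, zero_add]
      have : idx a ≠ i := fun e => ha (by rw [← e, pt_idx])
      by_cases h1 : i ≤ idx a
      · rw [if_pos (by omega), if_pos h1]
      · rw [if_neg (by omega), if_neg h1]

theorem ρ_El {w : List Step} (h : wordValid w = true) : ρ (El w) = toM (matW w) := by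
  ext a b
  show (2 : ZMod 5) * (((El w • frame b : leechLattice) : GolayPt → ℤ) a : ZMod 5) = _
  rw [El_frame h b]
  show _ = vecP ((matW w).getD (idx b) 0) a
  have hcol : (matW w).getD (idx b) 0 = pack5 (applyWord w (frameCodes.getD (idx b) 0)) 24 0 := by
    rw [matW, List.getD_eq_getElem?_getD, List.getElem?_map, List.getElem?_range (idx_lt b)]
    simp only [Option.map_some, Option.getD_some, force_eq]
  rw [hcol, vecP, units, List.range_eq_range', evalF_pack _ 24 0 rfl a, if_pos (Nat.zero_le _), vec]

theorem ρ_eq {g h : Co0} {A : List ℕ} (hg : ρ g = toM A) (hh : ρ h = toM A) : g = h :=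
  ρ_injective (hg.trans hh.symm)

end Cfsg.Agent.LeechRepMod50
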