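import Cfsg.Agent.Lib.LeechSuzCoverData46
import Cfsg.Agent.Lib.CosetCertSuzSimple

/-!
Numerical checks for the sixfold cover of Suz inside the automorphism group of the rank-24 lattice.
-/

set_option autoImplicit false
set_option maxRecDepth 100000

namespace Cfsg.Agent.LeechSuzCoverCheck46

open Cfsg.Agent.LeechCert Cfsg.Agent.LeechOutTool Cfsg.Agent.LeechSuzCoverData46

theorem valid : ∀ w ∈ W, wordValid w = true := by decide +kernel

theorem valid_z : wordValid wZ = true := by decide +kernel

theorem commutes : W.all (fun w => eqOK (w ++ wZ) (wZ ++ w)) = true := by decide +kernel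

theorem z_six : eqOK (rep 6 wZ) [] = true := by decide +kernel

theorem z_ne : (List.range 6).all (fun k => Nat.beq k 0 || neOK (rep k wZ) []) = true := by decide +kernel

theorem a_ne : (List.range 6).all (fun k => neOK wA (rep k wZ)) = true := by decide +kernel

theorem values_ok : values.all (fun p => eqOK (expand W p.1.reverse) (rep p.2 wZ)) = true := by decide +kernel

theorem values_cover : ∀ r ∈ CosetCertSuzGData.pres.relWords, r ∈ values.map Prod.fst := by decide +kernel

theorem values_lt : ∀ p ∈ values, ∀ i ∈ p.1, i < 7 := by decide +kernel

end Cfsg.Agent.LeechSuzCoverCheck46
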