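import Cfsg.Agent.Lib.LeechOutTool

/-!
Seven automorphisms of the rank-24 lattice satisfying the relators of the presented Suz up to the powers
of an element of order 6 commuting with them.
-/

set_option autoImplicit false

namespace Cfsg.Agent.LeechSuzCoverData46

open Cfsg.Agent.LeechCert

/-- A lift of the generator a. -/
def wA : List Step := [
    some (902751053204415189867675702217845985, 8994077,
      [(95, true), (0, false), (40, true), (30, true), (25, true), (15, false), (45, false), (5, false), (35, true), (50, false), (85, true), (10, true),
       (55, true), (90, true), (105, false), (65, false), (75, true), (100, false), (20, false), (70, true), (80, false), (115, false), (60, false), (110, true)]),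
    none,
    some (842635548923469456395349829574990432, 11613723,
      [(0, true), (20, true), (45, false), (70, true), (105, true), (35, false), (10, false), (95, false), (15, false), (110, true), (55, true), (50, false),
       (30, true), (80, true), (40, false), (75, false), (65, true), (60, false), (100, false), (5, false), (115, true), (25, true), (85, false), (90, true)])]

/-- A lift of the generator b. -/
def wB : List Step := [
    some (505722054314359265200466341385521832, 1369154,
      [(100, false), (40, true), (65, false), (50, false), (85, false), (110, false), (30, true), (35, false), (0, false), (20, false), (75, true), (95, false),
       (115, false), (80, true), (90, true), (70, true), (45, false), (15, false), (10, true), (105, false), (60, true), (5, false), (55, false), (25, false)]),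
    none,
    some (433583944539208967687318321309800748, 7629987,
      [(105, true), (35, true), (45, false), (75, false), (85, false), (80, true), (25, false), (70, true), (65, false), (5, false), (115, true), (15, true),
       (0, false), (95, true), (110, true), (40, false), (20, false), (90, false), (30, true), (55, false), (50, true), (100, true), (10, true), (60, false)]),
    none,
    some (719708993569334141508247826586896036, 7257550,
      [(25, false), (10, true), (85, true), (55, true), (0, false), (35, false), (100, true), (90, true), (30, true), (95, false), (110, true), (70, true),
       (65, true), (60, true), (105, false), (15, true), (80, false), (115, true), (50, true), (75, true), (45, false), (5, true), (20, true), (40, false)])]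

/-- A lift of the generator c. -/
def wC : List Step := [
    some (968855353034845317182126521217951330, 237906,
      [(40, false), (30, true), (0, false), (95, false), (100, true), (20, false), (50, true), (15, false), (25, true), (10, false), (110, false), (60, false),
       (105, false), (35, true), (80, false), (85, true), (55, true), (90, true), (70, false), (5, false), (75, false), (65, false), (45, false), (115, false)]),
    none,
    some (967690686766256768825700735921627744, 10161585,
      [(0, true), (80, false), (45, false), (60, false), (25, true), (75, true), (15, false), (90, true), (10, true), (110, false), (30, true), (95, true),
       (55, false), (100, false), (65, false), (105, false), (70, true), (40, true), (85, false), (5, true), (50, true), (35, false), (20, false), (115, true)])]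

/-- A lift of the generator d. -/
def wD : List Step := [
    some (850787592477665317227449341508824068, 5514536,
      [(5, false), (85, false), (95, false), (70, true), (0, false), (40, true), (75, false), (20, false), (90, true), (30, false), (80, true), (10, false),
       (35, false), (105, true), (65, false), (110, false), (50, false), (100, false), (55, true), (25, false), (115, true), (60, false), (45, true), (15, false)]),
    none,
    some (683134893698173624379008149111854091, 5078057,
      [(5, true), (50, false), (30, false), (25, true), (90, false), (65, true), (35, false), (40, false), (105, false), (70, false), (20, true), (0, true),
       (60, true), (95, true), (110, true), (85, false), (115, true), (80, false), (100, true), (75, true), (15, false), (10, false), (45, true), (55, false)]),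
    none,
    some (677657393446420373076315665513951989, 12220040,
      [(85, false), (105, false), (60, false), (75, true), (70, false), (45, false), (35, false), (25, true), (40, false), (50, true), (110, true), (15, false),
       (10, true), (95, true), (65, true), (20, false), (115, false), (100, true), (30, false), (90, true), (80, true), (0, true), (55, false), (5, true)])]

/-- A lift of the generator e. -/
def wE : List Step := [
    some (791845960078395205245391373027752630, 1797657,
      [(105, true), (80, false), (110, false), (20, true), (65, true), (55, false), (70, false), (35, false), (90, false), (75, true), (95, true), (40, true),
       (30, false), (60, true), (10, true), (15, false), (100, true), (45, true), (85, false), (115, true), (50, true), (5, false), (0, false), (25, false)]),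
    none,
    some (719431899684566766869315480489924645, 16545683,
      [(50, true), (5, true), (30, false), (15, false), (35, true), (0, false), (10, false), (105, true), (75, true), (25, true), (110, true), (100, false),
       (90, true), (85, true), (40, true), (80, false), (60, false), (115, false), (70, true), (45, true), (55, true), (20, true), (95, true), (65, true)]),
    none,
    some (8480238700214170737405665307284630, 12668874,
      [(115, false), (100, true), (20, false), (40, true), (5, false), (35, false), (110, true), (45, true), (85, true), (50, true), (90, true), (60, true),
       (65, false), (55, false), (70, true), (25, false), (15, true), (105, false), (80, false), (30, false), (75, false), (10, false), (0, true), (95, true)])]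

/-- A lift of the generator f. -/
def wF : List Step := [
    some (276532920802374431483925037120394994, 2322816,
      [(95, false), (105, false), (100, false), (40, false), (80, false), (10, false), (115, false), (65, true), (25, true), (20, false), (90, false), (70, false),
       (75, true), (15, true), (55, true), (85, false), (60, true), (45, true), (0, false), (50, false), (30, false), (110, true), (35, false), (5, false)]),
    none,
    some (833020950692184536757896394793664014, 1188915,
      [(50, true), (110, true), (75, false), (85, false), (70, true), (90, true), (25, false), (80, false), (65, false), (20, false), (35, true), (40, false),
       (30, false), (45, true), (0, false), (10, false), (5, false), (100, true), (60, false), (15, false), (115, true), (95, false), (55, false), (105, false)]),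
    none,
    some (136882510019477321162891250541605616, 12153634,
      [(85, false), (35, true), (15, false), (115, false), (30, false), (65, true), (25, false), (50, false), (95, true), (110, true), (45, false), (90, false),
       (10, true), (100, true), (105, true), (60, false), (0, true), (20, false), (55, false), (40, true), (70, true), (80, true), (75, false), (5, true)])]

/-- A lift of the generator g. -/
def wG : List Step := [
    some (144756909493875487404999988304660641, 1466012,
      [(20, false), (0, false), (95, true), (115, true), (90, true), (5, false), (50, false), (40, true), (85, false), (45, true), (80, true), (65, true),
       (30, true), (75, false), (55, true), (110, false), (105, false), (100, true), (10, true), (25, false), (60, true), (70, false), (35, false), (15, false)]),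
    none,
    some (959983781421341617960510929111429350, 13166587,
      [(85, true), (65, true), (75, false), (110, true), (50, true), (80, true), (0, true), (5, true), (45, true), (60, true), (15, true), (20, false),
       (10, false), (100, true), (55, true), (70, true), (40, false), (105, false), (25, false), (90, true), (30, false), (95, false), (35, true), (115, true)]),
    none,
    some (590041961918381931577253034391218601, 2063211,
      [(50, true), (95, true), (85, false), (80, true), (60, false), (90, true), (110, true), (15, false), (45, true), (0, true), (10, false), (40, true),
       (70, true), (5, true), (115, true), (25, false), (30, true), (105, true), (55, true), (20, true), (75, true), (100, false), (65, false), (35, false)])]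

/-- The element of order 6. -/
def wZ : List Step := [
    some (498755512105440980855455167910793826, 13396944,
      [(110, false), (80, false), (0, false), (50, false), (45, true), (85, false), (90, true), (105, true), (100, true), (25, true), (30, false), (35, true),
       (115, false), (60, true), (40, true), (70, false), (15, false), (65, false), (75, true), (5, true), (10, false), (55, false), (20, true), (95, true)]),
    none,
    some (430208548606019399169318569912753813, 4357044,
      [(85, false), (35, false), (60, true), (25, false), (20, true), (15, true), (55, false), (70, true), (40, true), (80, true), (115, false), (110, true),
       (50, true), (105, true), (100, true), (75, false), (45, false), (65, true), (90, false), (30, false), (5, false), (0, false), (95, true), (10, false)]),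
    none,
    some (629174857044587537670062895289388245, 1869893,
      [(85, true), (45, false), (65, true), (75, false), (110, false), (80, false), (5, true), (40, false), (20, false), (60, false), (90, false), (100, true),
       (70, false), (50, false), (95, false), (115, true), (25, false), (15, false), (30, true), (10, true), (55, true), (0, false), (105, false), (35, false)]),
    some (984818244535754528103549039458486304, 16777215,
      [(0, true), (5, true), (10, true), (15, true), (20, true), (25, true), (30, true), (35, true), (40, true), (45, true), (50, true), (55, true),
       (60, true), (65, true), (70, true), (75, true), (80, true), (85, true), (90, true), (95, true), (100, true), (105, true), (110, true), (115, true)])]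

/-- The lifts. -/
def W : List (List Step) := [wA, wB, wC, wD, wE, wF, wG]

/-- The relators with their values as powers of the element of order 6. -/
def values : List (List Nat × Nat) :=
  [([0, 0], 0),
   ([1, 1], 0),
   ([2, 2], 0),
   ([3, 3], 3),
   ([4, 4], 3),
   ([5, 5], 0),
   ([6, 6], 0),
   ([0, 1, 0, 1, 0, 1, 0, 1, 0, 1], 0),
   ([0, 2, 0, 2], 0),
   ([0, 3, 0, 3], 3),
   ([0, 4, 0, 4], 3),
   ([0, 5, 0, 5], 0),
   ([0, 6, 0, 6], 0),
   ([1, 2, 1, 2, 1, 2], 3),
   ([1, 3, 1, 3], 3),
   ([1, 4, 1, 4], 3),
   ([1, 5, 1, 5, 1, 5], 0),
   ([1, 6, 1, 6, 1, 6], 0),
   ([2, 3, 2, 3, 2, 3, 2, 3, 2, 3, 2, 3, 2, 3, 2, 3], 0),
   ([2, 4, 2, 4], 3),
   ([2, 5, 2, 5], 0),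
   ([2, 6, 2, 6], 0),
   ([3, 4, 3, 4, 3, 4], 0),
   ([3, 5, 3, 5], 3),
   ([3, 6, 3, 6], 3),
   ([4, 5, 4, 5], 3),
   ([4, 6, 4, 6], 3),
   ([5, 6, 5, 6, 5, 6, 5, 6], 0),
   ([0, 3, 2, 3, 2, 3, 2, 3, 2], 3),
   ([0, 6, 5, 6, 5], 3),
   ([0, 1, 2, 5, 0, 1, 2, 5, 0, 1, 2, 5, 0, 1, 2, 5, 0, 1, 2, 5], 0),
   ([1, 5, 6, 1, 5, 6, 1, 5, 6, 1, 5, 6, 1, 5, 6], 1),
   ([1, 2, 3, 2, 3, 1, 2, 3, 2, 3, 1, 2, 3, 2, 3, 1, 2, 3, 2, 3, 1, 2, 3, 2, 3, 4, 1, 2, 3, 2, 3, 1, 2, 3, 2, 3, 1, 2, 3, 2, 3, 1, 2, 3, 2, 3, 1, 2, 3, 2, 3, 4, 1, 2, 3, 2, 3, 1, 2, 3, 2, 3, 1, 2, 3, 2, 3, 1, 2, 3, 2, 3, 1, 2, 3, 2, 3, 4], 3)]

end Cfsg.Agent.LeechSuzCoverData46
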