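import Cfsg.Agent.Lib.LeechThompson17Data
import Cfsg.Agent.Lib.LeechFischer17Classes

/-!
The fixed lattice of a permutation `u` of cycle type `3^8` modulo twice itself has `2^8` classes,
each with a checked representative of norm at most 96; the centraliser of `u` in `Co0` acts on them.
-/

set_option autoImplicit false

open scoped Pointwise

namespace Cfsg.Agent.LeechThompson17

open Cfsg Cfsg.Agent.GolayBasic Cfsg.Agent.LeechBasic Cfsg.Agent.LeechAut Cfsg.Agent.LeechXi
open Cfsg.Agent.LeechCert Cfsg.Agent.LeechOutTool Cfsg.Agent.LeechIndex Cfsg.Agent.LeechOrbit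
open Cfsg.Agent.GolayPerm (pts mem_pts)
open Cfsg.Agent.LeechFischer17 (twiceOK twiceOK_spec congOK congOK_spec dfld tfld sum_pts nrm nrm_eq
  two_nsmul_mem twice_le smul_twice code24 vec_code24)

/-- The automorphism given by the permutation. -/
noncomputable def uC : Co0 := El [uStep]

theorem uStep_valid : wordValid [uStep] = true := by decide +kernel

/-- Its centraliser. -/
noncomputable def W : Subgroup Co0 := Subgroup.centralizer ({uC} : Set Co0)

theorem mem_W {g : Co0} : g ∈ W ↔ g * uC = uC * g := Subgroup.mem_centralizer_singleton_iff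

theorem uC_mem_W : uC ∈ W := mem_W.mpr rfl

theorem uC_pow : uC ^ 3 = 1 := by
  rw [uC, ← El_replicate uStep_valid, ← El_nil]
  exact El_eq (by decide +kernel)

theorem uC_ne_one : uC ≠ 1 := by
  intro h
  have h0 := El_frame uStep_valid (pt 0)
  rw [show El [uStep] = 1 from h, one_smul, frame_code] at h0
  have h1 := congrFun h0 (pt 0)
  revert h1
  decide +kernel

/-- The trace `x + ux + u²x`. -/
noncomputable def tr (x : leechLattice) : leechLattice := x + uC • x + uC • uC • x

theorem tr_fixed {x : leechLattice} (h : uC • x = x) :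
    (tr x : GolayPt → ℤ) - (x : GolayPt → ℤ) ∈ twiceLeech := by
  rw [tr, h, h]
  refine mem_twiceLeech.mpr ⟨x, x.2, ?_⟩
  rw [AddSubgroup.coe_add, AddSubgroup.coe_add, two_nsmul]
  abel

/-! ### Representatives -/

/-- The code of the representative of a class. -/
def rd (c : ℕ) : ℕ := reps.getD c 0

/-- The vector of a class. -/
def rv (c : ℕ) : GolayPt → ℤ := vec (rd c)

/-- The combination of the eight fixed vectors. -/
def comb (c : ℕ) : GolayPt → ℤ :=
  ∑ j ∈ Finset.range 8, if c.testBit j then vec (basisF.getD j 0) else 0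

theorem basisF_ok : basisF.all (fun n => smallVec n && isL (vec n) && applyStep n uStep == n) = true := by
  decide +kernel

theorem vec_basisF_mem {j : ℕ} (hj : j < 8) : vec (basisF.getD j 0) ∈ leechLattice := by
  have h := List.all_eq_true.mp basisF_ok (basisF.getD j 0) (by
    rw [List.getD_eq_getElem _ _ (show j < basisF.length from hj)]; exact List.getElem_mem _)
  simp only [Bool.and_eq_true] at h
  exact isL_iff.mp h.1.2

theorem comb_mem (c : ℕ) : comb c ∈ leechLattice :=
  sum_mem fun j hj => by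
    split_ifs
    · exact vec_basisF_mem (Finset.mem_range.mp hj)
    · exact zero_mem _

theorem rd_all : (List.range 8).all (fun j => PermImageCert.allBelow (fun c =>
    congOK (rd (2 ^ j + c)) (rd c) (basisF.getD j 0)) (2 ^ j)) = true := by
  decide +kernel

theorem comb_two_pow_add {j c : ℕ} (hj : j < 8) (hc : c < 2 ^ j) :
    comb (2 ^ j + c) = comb c + vec (basisF.getD j 0) := by
  have hlow : c.testBit j = false := Nat.testBit_lt_two_pow hc
  rw [comb, comb, ← Finset.add_sum_erase _ _ (Finset.mem_range.mpr hj),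
    ← Finset.add_sum_erase _ (fun i => if c.testBit i then vec (basisF.getD i 0) else 0)
      (Finset.mem_range.mpr hj), Nat.testBit_two_pow_add_eq, hlow]
  simp only [Bool.not_false, if_true, Bool.false_eq_true, if_false, zero_add]
  rw [add_comm]
  congr 1
  refine Finset.sum_congr rfl fun i hi => ?_
  have hne := (Finset.mem_erase.mp hi).1
  congr 1
  rcases Nat.lt_or_gt_of_ne hne with h | h
  · rw [Nat.testBit_two_pow_add_gt h]
  · rw [Nat.testBit_lt_two_pow (x := c) (lt_trans hc (Nat.pow_lt_pow_right (by norm_num) h)),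
      Nat.testBit_lt_two_pow (x := 2 ^ j + c) (by
        have h2 : 2 ^ (j + 1) ≤ 2 ^ i := Nat.pow_le_pow_right (by norm_num) h
        rw [pow_succ] at h2
        omega)]

theorem comb_xor (a b : ℕ) : comb (a ^^^ b) - comb a - comb b ∈ twiceLeech := by
  rw [comb, comb, comb, ← Finset.sum_sub_distrib, ← Finset.sum_sub_distrib]
  refine sum_mem fun j hj => ?_
  rw [Nat.testBit_xor]
  have h2 := two_nsmul_mem (neg_mem (vec_basisF_mem (Finset.mem_range.mp hj)))
  cases a.testBit j <;> cases b.testBit j <;>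
    simp only [bne_self_eq_false, Bool.false_bne, Bool.bne_false, if_true, Bool.false_eq_true, if_false]
  · simp
  · simp
  · simp
  · convert h2 using 1
    rw [two_nsmul]; abel

theorem comb_zero : comb 0 = 0 := by simp [comb]

theorem reps_ok : PermImageCert.allBelow (fun c =>
    decide (nrm (rd c) ≤ 96) && (decide (0 < nrm (rd c)) || c == 0)) 256 = true := by
  decide +kernel

theorem rv_zero : rv 0 = 0 := by funext p; revert p; decide +kernel

theorem rv_congr : ∀ c < 256, rv c - comb c ∈ twiceLeech := by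
  intro c
  induction c using Nat.strong_induction_on with
  | _ c ih =>
    intro hc
    rcases Nat.eq_zero_or_pos c with rfl | hpos
    · rw [rv_zero, comb_zero, sub_zero]; exact zero_mem _
    obtain ⟨j, hj⟩ : ∃ j, j = Nat.log 2 c := ⟨_, rfl⟩
    have h1 : 2 ^ j ≤ c := hj ▸ Nat.pow_log_le_self 2 hpos.ne'
    have h2 : c < 2 ^ (j + 1) := hj ▸ Nat.lt_pow_succ_log_self (by norm_num) c
    obtain ⟨d, rfl⟩ := Nat.exists_eq_add_of_le h1
    have hd : d < 2 ^ j := by rw [pow_succ] at h2; omega
    have hj12 : j < 8 := by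
      by_contra hh
      have : 2 ^ 8 ≤ 2 ^ j := Nat.pow_le_pow_right (by norm_num) (by omega)
      omega
    have h3 : congOK (rd (2 ^ j + d)) (rd d) (basisF.getD j 0) = true :=
      PermImageCert.allBelow_spec (List.all_eq_true.mp rd_all j (List.mem_range.mpr hj12)) d hd
    have h4 := ih d (by have := Nat.two_pow_pos j; omega) (by omega)
    rw [comb_two_pow_add hj12 hd]
    have := add_mem (congOK_spec h3) h4
    convert this using 1
    simp only [rv]
    abel

theorem sqNorm_rv_le {c : ℕ} (hc : c < 256) : sqNorm (rv c) ≤ 96 := by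
  have h := PermImageCert.allBelow_spec reps_ok c hc
  simp only [Bool.and_eq_true, decide_eq_true_eq] at h
  rw [rv, nrm_eq]
  exact_mod_cast h.1

theorem rv_mem {c : ℕ} (hc : c < 256) : rv c ∈ leechLattice := by
  have := add_mem (twice_le (rv_congr c hc)) (comb_mem c)
  rwa [sub_add_cancel] at this

theorem xor_lt {a b : ℕ} (ha : a < 256) (hb : b < 256) : a ^^^ b < 256 :=
  Nat.xor_lt_two_pow (n := 8) ha hb

theorem comb_inj {c d : ℕ} (hc : c < 256) (hd : d < 256) (h : comb c - comb d ∈ twiceLeech) : c = d := by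
  have hx := xor_lt hc hd
  have h1 : rv (c ^^^ d) ∈ twiceLeech := by
    have h2 := add_mem (add_mem (rv_congr _ hx) (comb_xor c d)) h
    convert add_mem h2 (two_nsmul_mem (comb_mem d)) using 1
    rw [two_nsmul]; abel
  have h5 : rv (c ^^^ d) = 0 := by
    rcases LeechMod2.eq_zero_or_128_le h1 with h | h
    · exact h
    · have := sqNorm_rv_le hx
      omega
  have h := PermImageCert.allBelow_spec reps_ok _ hx
  simp only [Bool.and_eq_true, Bool.or_eq_true, decide_eq_true_eq, beq_iff_eq] at h
  rcases h.2 with h' | h'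
  · have h6 := nrm_eq (rd (c ^^^ d))
    rw [show vec (rd (c ^^^ d)) = 0 from h5,
      show sqNorm (0 : GolayPt → ℤ) = 0 from Finset.sum_eq_zero fun _ _ => rfl] at h6
    omega
  · exact Nat.xor_eq_zero_iff.mp h'

/-- The combination as a lattice vector. -/
noncomputable def cb (c : Fin 256) : leechLattice := ⟨comb c, comb_mem c⟩

theorem coe_cb (c : Fin 256) : (cb c : GolayPt → ℤ) = comb c := rfl

theorem basis_small {j : ℕ} (hj : j < 8) : sqNorm (vec (basisF.getD j 0)) ≤ 80 := by
  have h : ∀ j : Fin 8, nrm (basisF.getD j 0) ≤ 80 := by decide +kernel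
  rw [nrm_eq]
  exact_mod_cast h ⟨j, hj⟩

theorem uC_smul_basis {j : ℕ} (hj : j < 8) :
    uC • (⟨vec (basisF.getD j 0), vec_basisF_mem hj⟩ : leechLattice) = ⟨_, vec_basisF_mem hj⟩ := by
  have h := List.all_eq_true.mp basisF_ok (basisF.getD j 0) (by
    rw [List.getD_eq_getElem _ _ (show j < basisF.length from hj)]; exact List.getElem_mem _)
  simp only [Bool.and_eq_true, beq_iff_eq] at h
  refine Subtype.ext ?_
  rw [uC, El_smul uStep_valid _ _ (basis_small hj) rfl]
  show vec (applyStep _ uStep) = _
  rw [h.2]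

/-- The lattice vectors fixed by `u`, as vectors. -/
noncomputable def fixed : AddSubgroup (GolayPt → ℤ) where
  carrier := {v | ∃ x : leechLattice, uC • x = x ∧ (x : GolayPt → ℤ) = v}
  zero_mem' := ⟨0, by
    have h := smul_add_vec uC (0 : leechLattice) 0
    rw [add_zero] at h
    exact left_eq_add.mp h, rfl⟩
  add_mem' := by
    rintro _ _ ⟨x, hx, rfl⟩ ⟨y, hy, rfl⟩
    exact ⟨x + y, by rw [smul_add_vec, hx, hy], rfl⟩
  neg_mem' := by
    rintro _ ⟨x, hx, rfl⟩
    exact ⟨-x, by rw [smul_neg_vec, hx], rfl⟩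

theorem uC_smul_cb (c : Fin 256) : uC • cb c = cb c := by
  obtain ⟨x, hx, e⟩ : comb c ∈ fixed := sum_mem fun j hj => by
    split_ifs
    · exact ⟨_, uC_smul_basis (Finset.mem_range.mp hj), rfl⟩
    · exact zero_mem _
  rwa [show cb c = x from Subtype.ext e.symm]

/-! ### Every fixed vector -/

/-- The trace of the encoded vector is in the class `c`. -/
noncomputable def traceOK (n c : ℕ) : Bool :=
  decide (c < 256) && smallVec n &&
    force (applyStep n uStep) fun m => force (applyStep m uStep) fun k => twiceOK (tfld n m k (rd c))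

/-- The classes of representatives. -/
noncomputable def span : AddSubgroup (GolayPt → ℤ) where
  carrier := {y | ∃ c < 256, y - comb c ∈ twiceLeech}
  zero_mem' := ⟨0, by norm_num, by rw [comb_zero, sub_zero]; exact zero_mem _⟩
  add_mem' := by
    rintro x y ⟨c, hc, hx⟩ ⟨d, hd, hy⟩
    refine ⟨c ^^^ d, xor_lt hc hd, ?_⟩
    convert sub_mem (add_mem hx hy) (comb_xor c d) using 1
    abel
  neg_mem' := by
    rintro x ⟨c, hc, hx⟩
    refine ⟨c, hc, ?_⟩
    convert sub_mem (neg_mem hx) (two_nsmul_mem (comb_mem c)) using 1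
    rw [two_nsmul]; abel

/-- The trace as an additive map. -/
noncomputable def trHom : leechLattice →+ (GolayPt → ℤ) :=
  AddMonoidHom.mk' (fun x => (tr x : GolayPt → ℤ)) fun x y => by
    simp only [tr, smul_add_vec, AddSubgroup.coe_add]
    abel

theorem trace_class {x : GolayPt → ℤ} {c : ℕ} (hx : x ∈ leechLattice) (h : traceOK (code24 x) c = true)
    (hn : sqNorm x ≤ 80) : trHom ⟨x, hx⟩ ∈ span := by
  simp only [traceOK, force_eq, Bool.and_eq_true, decide_eq_true_eq] at h
  obtain ⟨⟨hc, -⟩, h⟩ := h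
  have h1 := El_smul uStep_valid ⟨x, hx⟩ (code24 x) hn (vec_code24 hn).symm
  have h2 := El_smul uStep_valid (El [uStep] • (⟨x, hx⟩ : leechLattice)) _ (by rw [sqNorm_smul]; exact hn) h1
  have h3 : (tr ⟨x, hx⟩ : GolayPt → ℤ) - rv c ∈ twiceLeech := by
    refine twiceOK_spec h fun p => ?_
    have a1 := dg_lt (code24 x) (5 * idx p)
    have a2 := dg_lt (applyStep (code24 x) uStep) (5 * idx p)
    have a3 := dg_lt (applyStep (applyStep (code24 x) uStep) uStep) (5 * idx p)
    have a4 := dg_lt (rd c) (5 * idx p)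
    simp only [tr, uC, AddSubgroup.coe_add, Pi.add_apply, Pi.sub_apply, h1, h2]
    rw [← vec_code24 hn]
    simp only [applyWord, rv, vec, dig_eq_dg, tfld, Nat.add_eq, Nat.sub_eq]
    rw [vec_code24 hn]
    omega
  refine ⟨c, hc, ?_⟩
  have := add_mem h3 (rv_congr c hc)
  convert this using 1
  show (tr ⟨x, hx⟩ : GolayPt → ℤ) - comb c = _
  abel

theorem gens_ok : ((pts.all fun i => traceOK (code24 (fourDiff (pt i))) (fourCls.getD i 0)) &&
    ((basisRows.zip rowCls).all fun q => traceOK (code24 (twoMask q.1)) q.2) &&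
    traceOK (code24 oddVec) oddCls && traceOK (code24 (unitVec 8 none)) heightCls) = true := by
  decide +kernel

theorem rows_zip : (basisRows.zip rowCls).map Prod.fst = basisRows := by decide +kernel

theorem norms_ok : (∀ i : GolayPt, sqNorm (fourDiff i) ≤ 80) ∧ (∀ b ∈ basisRows, sqNorm (twoMask b) ≤ 80) ∧
    sqNorm oddVec ≤ 80 := by
  refine ⟨?_, ?_, ?_⟩ <;> decide +kernel

theorem trHom_mem (x : leechLattice) : trHom x ∈ span := by
  have h := gens_ok
  simp only [Bool.and_eq_true, List.all_eq_true] at h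
  obtain ⟨⟨⟨hfour, hrow⟩, hodd⟩, hh⟩ := h
  obtain ⟨nfour, nrow, nodd⟩ := norms_ok
  have hle : leechLattice ≤ (span.comap trHom).map leechLattice.subtype := by
    refine leechLattice_le _ ⟨⟨_, oddVec_mem⟩, trace_class _ hodd nodd, rfl⟩ (fun b hb => ?_) (fun i => ?_)
      ⟨frame none, trace_class (x := unitVec 8 none) (frame none).2 hh
        (show sqNorm (frame none : GolayPt → ℤ) ≤ 80 by rw [sqNorm_frame]; norm_num), rfl⟩
    · obtain ⟨q, hq, rfl⟩ : ∃ q ∈ basisRows.zip rowCls, q.1 = b := by
        have := rows_zip.symm ▸ hb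
        simpa using this
      exact ⟨⟨_, twoMask_mem hb⟩, trace_class _ (hrow q hq) (nrow _ hb), rfl⟩
    · refine ⟨⟨_, fourDiff_mem i⟩, trace_class (c := fourCls.getD (idx i) 0) _ ?_ (nfour i), rfl⟩
      have := hfour (idx i) (mem_pts.2 (idx_lt i))
      rwa [pt_idx] at this
  obtain ⟨y, hy, hyx⟩ := hle x.2
  rwa [← Subtype.ext hyx]

theorem exists_class {x : leechLattice} (hx : uC • x = x) :
    ∃ c : Fin 256, (x : GolayPt → ℤ) - (cb c : GolayPt → ℤ) ∈ twiceLeech := by
  obtain ⟨c, hc, h⟩ := trHom_mem x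
  refine ⟨⟨c, hc⟩, ?_⟩
  convert sub_mem h (tr_fixed hx) using 1
  show (x : GolayPt → ℤ) - comb c = (tr x : GolayPt → ℤ) - comb c - ((tr x : GolayPt → ℤ) - x)
  abel

/-! ### The action -/

theorem smul_fixed {g : Co0} (hg : g ∈ W) {x : leechLattice} (hx : uC • x = x) : uC • g • x = g • x := by
  rw [← mul_smul, ← mem_W.mp hg, mul_smul, hx]

theorem exists_image (g : W) (c : Fin 256) :
    ∃ d : Fin 256, (((g : Co0) • cb c : leechLattice) : GolayPt → ℤ) - (cb d : GolayPt → ℤ) ∈ twiceLeech :=
  exists_class (smul_fixed g.2 (uC_smul_cb c))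

/-- The image of a class. -/
noncomputable def img (g : W) (c : Fin 256) : Fin 256 := (exists_image g c).choose

theorem img_spec (g : W) (c : Fin 256) :
    (((g : Co0) • cb c : leechLattice) : GolayPt → ℤ) - (cb (img g c) : GolayPt → ℤ) ∈ twiceLeech :=
  (exists_image g c).choose_spec

theorem img_eq {g : W} {c d : Fin 256}
    (h : (((g : Co0) • cb c : leechLattice) : GolayPt → ℤ) - (cb d : GolayPt → ℤ) ∈ twiceLeech) :
    img g c = d := by
  refine Fin.ext (comb_inj (img g c).2 d.2 ?_)
  convert sub_mem h (img_spec g c) using 1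
  simp only [coe_cb]
  abel

theorem img_mul (g h : W) (c : Fin 256) : img (g * h) c = img g (img h c) := by
  refine img_eq ?_
  rw [Subgroup.coe_mul, mul_smul]
  convert add_mem (smul_twice (g : Co0) (img_spec h c)) (img_spec g (img h c)) using 1
  abel

theorem img_one (c : Fin 256) : img 1 c = c :=
  img_eq (by rw [Subgroup.coe_one, one_smul, sub_self]; exact zero_mem _)

/-- The action of the centraliser on the classes. -/
noncomputable def actHom : W →* Equiv.Perm (Fin 256) where
  toFun g :=
    { toFun := img g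
      invFun := img g⁻¹
      left_inv := fun c => by rw [← img_mul, inv_mul_cancel, img_one]
      right_inv := fun c => by rw [← img_mul, mul_inv_cancel, img_one] }
  map_one' := Equiv.ext img_one
  map_mul' g h := Equiv.ext (img_mul g h)

theorem actHom_apply (g : W) (c : Fin 256) : actHom g c = img g c := rfl

theorem smul_congr_of_ker {g : W} (hg : g ∈ actHom.ker) {x : leechLattice} (hx : uC • x = x) :
    (((g : Co0) • x : leechLattice) : GolayPt → ℤ) - (x : GolayPt → ℤ) ∈ twiceLeech := by
  obtain ⟨c, hc⟩ := exists_class hx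
  have h1 : img g c = c := by
    rw [← actHom_apply, MonoidHom.mem_ker.mp hg]; rfl
  have h2 := img_spec g c
  rw [h1] at h2
  convert sub_mem (add_mem (smul_twice (g : Co0) hc) h2) hc using 1
  abel

/-- Images are additive. -/
theorem img_xor (g : W) (c d : Fin 256) :
    (img g ⟨(c : ℕ) ^^^ d, xor_lt c.2 d.2⟩ : ℕ) = (img g c : ℕ) ^^^ (img g d : ℕ) := by
  set e : Fin 256 := ⟨(c : ℕ) ^^^ d, xor_lt c.2 d.2⟩ with he
  refine congrArg Fin.val (img_eq (d := ⟨(img g c : ℕ) ^^^ (img g d : ℕ), xor_lt (img g c).2 (img g d).2⟩) ?_)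
  have h0 : ((cb e : leechLattice) : GolayPt → ℤ) - (cb c + cb d : leechLattice) ∈ twiceLeech := by
    rw [AddSubgroup.coe_add]
    convert comb_xor c d using 1
    simp only [coe_cb, he]
    abel
  have h1 := smul_twice (g : Co0) h0
  rw [smul_add_vec, AddSubgroup.coe_add] at h1
  have h2 := add_mem (add_mem h1 (img_spec g c)) (img_spec g d)
  convert sub_mem h2 (comb_xor (img g c) (img g d)) using 1
  simp only [coe_cb]
  abel

theorem img_zero (g : W) : (img g 0 : ℕ) = 0 := by
  have h := img_xor g 0 0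
  rw [show (⟨((0 : Fin 256) : ℕ) ^^^ ((0 : Fin 256) : ℕ), xor_lt (0 : Fin 256).2 (0 : Fin 256).2⟩ : Fin 256) = 0
    from Fin.ext rfl, Nat.xor_self] at h
  exact h

end Cfsg.Agent.LeechThompson17
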