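import Cfsg.Agent.Lib.LeechThompson17Perm
import Cfsg.Agent.Lib.PermImageCert

/-!
The centraliser in `Co0` of the fixed-point-free `u` of order 3 is `3 × 2.A9`: it permutes nine blocks
of fifteen classes of norm 96, inducing the alternating group of degree 9, with kernel of order 6.
-/

set_option autoImplicit false
set_option linter.style.haveILetI false

open scoped Pointwise

namespace Cfsg.Agent.LeechThompson17

open Cfsg Cfsg.Agent.GolayBasic Cfsg.Agent.LeechBasic Cfsg.Agent.LeechAut
open Cfsg.Agent.LeechCert Cfsg.Agent.LeechOutTool Cfsg.Agent.LeechOrbit Cfsg.Agent.PermImageCert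
open Cfsg.Agent.LeechIndex
open Cfsg.Agent.LeechFischer17 (congOK congOK_spec nrm nrm_eq two_nsmul_mem smul_twice)

instance finite_W : Finite W :=
  haveI := LeechOrder.finite_Co0
  Subtype.finite

/-! ### The order of the centraliser -/

/-- The trace of a vector fixed modulo twice the lattice is congruent to it. -/
theorem exists_class_of_congr {x : leechLattice}
    (hx : ((uC • x : leechLattice) : GolayPt → ℤ) - (x : GolayPt → ℤ) ∈ twiceLeech) :
    ∃ c : Fin 256, (x : GolayPt → ℤ) - (cb c : GolayPt → ℤ) ∈ twiceLeech := by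
  obtain ⟨c, hc, h⟩ := trHom_mem x
  refine ⟨⟨c, hc⟩, ?_⟩
  have h2 := smul_twice uC hx
  have h3 := sub_mem h (add_mem (add_mem h2 (add_mem hx hx)) (two_nsmul_mem x.2))
  convert h3 using 1
  show (x : GolayPt → ℤ) - comb c = (tr x : GolayPt → ℤ) - comb c - _
  simp only [tr, AddSubgroup.coe_add, two_nsmul]
  abel

theorem frame_congr : ((uC • frame none : leechLattice) : GolayPt → ℤ) - (frame none : GolayPt → ℤ) ∈ twiceLeech := by
  rw [← LeechStab.mem_classStab, LeechStab.classStab_frame]
  exact uC_mem_mono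

/-- The classes of norm 96. -/
def big : Finset (Fin 256) := Finset.univ.filter fun c : Fin 256 => nrm (rd (c : ℕ)) = 96

theorem card_big : big.card = 135 := by decide +kernel

theorem norm_cases : allBelow (fun c => Nat.beq (nrm (rd c)) 96 || Nat.ble (nrm (rd c)) 48) 256 = true := by
  decide +kernel

theorem exists_big (g : W) : ∃ c ∈ big,
    (((g : Co0) • frame none : leechLattice) : GolayPt → ℤ) - (cb c : GolayPt → ℤ) ∈ twiceLeech := by
  have hu : ((uC • (g : Co0) • frame none : leechLattice) : GolayPt → ℤ) -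
      (((g : Co0) • frame none : leechLattice) : GolayPt → ℤ) ∈ twiceLeech := by
    have := smul_twice (g : Co0) frame_congr
    rwa [← mul_smul, mem_W.mp g.2, mul_smul] at this
  obtain ⟨c, hc⟩ := exists_class_of_congr hu
  refine ⟨c, Finset.mem_filter.mpr ⟨Finset.mem_univ _, ?_⟩, hc⟩
  have hn := allBelow_spec norm_cases c c.2
  simp only [Bool.or_eq_true, Nat.beq_eq, Nat.ble_eq] at hn
  refine hn.resolve_right fun hle => ?_
  have hx : sqNorm (((g : Co0) • frame none : leechLattice) : GolayPt → ℤ) = 64 := by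
    rw [sqNorm_smul, sqNorm_frame]
  have hy : sqNorm (rv c) ≤ 48 := by rw [rv, nrm_eq]; exact_mod_cast hle
  have hd : (((g : Co0) • frame none : leechLattice) : GolayPt → ℤ) - rv c ∈ twiceLeech := by
    have := sub_mem hc (rv_congr c c.2)
    convert this using 1
    simp only [coe_cb]
    abel
  rcases LeechMod2.congr_short (rv_mem c.2) hd hx.le (hy.trans (by norm_num)) with h | h | h
  · rw [← h] at hy; omega
  · have h' : rv (c : ℕ) = -(((g : Co0) • frame none : leechLattice) : GolayPt → ℤ) := by rw [h, neg_neg]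
    rw [h'] at hy
    have hneg : sqNorm (-(((g : Co0) • frame none : leechLattice) : GolayPt → ℤ)) = 64 := by
      rw [← hx]; exact Finset.sum_congr rfl fun p _ => by rw [Pi.neg_apply]; ring
    omega
  · have := h.2.1
    omega

theorem card_W_le : Nat.card W ≤ 1088640 := by
  classical
  choose f hf hfc using exists_big
  have hb : ∀ g : W, (Function.invFun f (f g) : W)⁻¹ * g ∈ (LeechStab.mono ⊓ W).subgroupOf W := by
    intro g
    set a := Function.invFun f (f g) with ha
    have e : f a = f g := Function.invFun_eq ⟨g, rfl⟩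
    refine Subgroup.mem_subgroupOf.mpr ⟨?_, (a⁻¹ * g).2⟩
    show ((a⁻¹ * g : W) : Co0) ∈ LeechStab.mono
    rw [← LeechStab.classStab_frame, LeechStab.mem_classStab, Subgroup.coe_mul, Subgroup.coe_inv]
    have hd : (((g : Co0) • frame none : leechLattice) : GolayPt → ℤ) -
        (((a : Co0) • frame none : leechLattice) : GolayPt → ℤ) ∈ twiceLeech := by
      have ha' := hfc a
      rw [e] at ha'
      convert sub_mem (hfc g) ha' using 1
      abel
    have h1 := smul_twice ((a : Co0)⁻¹) hd
    rwa [inv_smul_smul, ← mul_smul] at h1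
  let F : W → big × ↥((LeechStab.mono ⊓ W).subgroupOf W) := fun g =>
    (⟨f g, hf g⟩, ⟨_, hb g⟩)
  have hF : Function.Injective F := by
    intro a b h
    simp only [F, Prod.ext_iff, Subtype.ext_iff] at h
    have h1 : f a = f b := by exact h.1
    have h2 : (Function.invFun f (f a))⁻¹ * a = (Function.invFun f (f b))⁻¹ * b := Subtype.ext (Subtype.ext (by exact h.2))
    rw [h1] at h2
    exact mul_left_cancel h2
  refine (Nat.card_le_card_of_injective F hF).trans ?_
  rw [Nat.card_prod, Nat.card_eq_finsetCard, card_big,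
    Nat.card_congr (Subgroup.subgroupOfEquivOfLe (inf_le_right : LeechStab.mono ⊓ W ≤ W)).toEquiv]
  exact (Nat.mul_le_mul_left _ card_monoW_le).trans (by norm_num)

/-! ### The blocks -/

/-- The block of a class, 9 outside the blocks. -/
def blk (c : ℕ) : ℕ := blocks.getD c 9

/-- The classes in a block. -/
def Bl (k : Fin 9) : Set (Fin 256) := {c | blk (c : ℕ) = k}

theorem Bl_nonempty : ∀ k : Fin 9, ∃ c : Fin 256, blk (c : ℕ) = k := by decide +kernel

theorem Bl_injective : Function.Injective Bl := by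
  intro k l h
  obtain ⟨c, hc⟩ := Bl_nonempty k
  have h1 : c ∈ Bl l := h ▸ (show c ∈ Bl k from hc)
  exact Fin.ext (hc.symm.trans h1)

/-- The centraliser elements keeping the family of blocks. -/
noncomputable def T : Subgroup W :=
  (MulAction.stabilizer (Equiv.Perm (Fin 256)) (Set.range Bl)).comap actHom

theorem mem_T {g : W} {σ : Equiv.Perm (Fin 9)} (h : ∀ k, actHom g • Bl k = Bl (σ k)) : g ∈ T := by
  refine MulAction.mem_stabilizer_iff.mpr (Set.ext fun X => ⟨?_, ?_⟩)
  · rintro ⟨_, ⟨k, rfl⟩, rfl⟩; exact ⟨σ k, (h k).symm⟩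
  · rintro ⟨k, rfl⟩
    exact ⟨Bl (σ.symm k), ⟨_, rfl⟩, by show actHom g • Bl _ = _; rw [h, σ.apply_symm_apply]⟩

theorem exists_block (g : T) (k : Fin 9) : ∃ j, actHom (g : W) • Bl k = Bl j := by
  have h := MulAction.mem_stabilizer_iff.mp g.2
  have h1 : actHom (g : W) • Bl k ∈ Set.range Bl := h ▸ ⟨_, ⟨k, rfl⟩, rfl⟩
  obtain ⟨j, hj⟩ := h1
  exact ⟨j, hj.symm⟩

/-- The image of a block. -/
noncomputable def bimg (g : T) (k : Fin 9) : Fin 9 := (exists_block g k).choose

theorem bimg_spec (g : T) (k : Fin 9) : actHom (g : W) • Bl k = Bl (bimg g k) := (exists_block g k).choose_spec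

theorem bimg_mul (g h : T) (k : Fin 9) : bimg (g * h) k = bimg g (bimg h k) :=
  Bl_injective (by rw [← bimg_spec, ← bimg_spec, ← bimg_spec, Subgroup.coe_mul, map_mul, mul_smul])

theorem bimg_one (k : Fin 9) : bimg 1 k = k :=
  Bl_injective (by rw [← bimg_spec, Subgroup.coe_one, map_one, one_smul])

/-- The action on the blocks. -/
noncomputable def blockHom : T →* Equiv.Perm (Fin 9) where
  toFun g :=
    { toFun := bimg g
      invFun := bimg g⁻¹
      left_inv := fun k => by rw [← bimg_mul, inv_mul_cancel, bimg_one]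
      right_inv := fun k => by rw [← bimg_mul, mul_inv_cancel, bimg_one] }
  map_one' := Equiv.ext bimg_one
  map_mul' g h := Equiv.ext (bimg_mul g h)

theorem blockHom_eq {g : T} {σ : Equiv.Perm (Fin 9)} (h : ∀ k, actHom (g : W) • Bl k = Bl (σ k)) :
    blockHom g = σ :=
  Equiv.ext fun k => Bl_injective ((bimg_spec g k).symm.trans (h k))

/-! ### The four generators -/

/-- The word of a generator. -/
def gw (i : Fin 4) : List Step := gword.getD i []

/-- The table of its classes. -/
def tab (i : Fin 4) (c : ℕ) : ℕ := (tabs.getD i []).getD c 0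

/-- The code of its permutation. -/
def gp (i : Fin 4) : ℕ := (perms.getD i (0, 0)).1

theorem gw_valid : ∀ i, wordValid (gw i) = true := by decide +kernel

theorem gw_comm : ∀ i, eqOK (gw i ++ [uStep]) ([uStep] ++ gw i) = true := by decide +kernel

theorem gw_mem_W (i : Fin 4) : El (gw i) ∈ W := by
  rw [mem_W]
  have := El_eq (gw_comm i)
  rw [El_append (gw_valid i) uStep_valid, El_append uStep_valid (gw_valid i)] at this
  exact this.symm

/-- The generators. -/
noncomputable def gW (i : Fin 4) : W := ⟨El (gw i), gw_mem_W i⟩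

theorem tab_xor : ∀ i : Fin 4, allBelow (fun j => allBelow (fun d =>
    Nat.beq (2 ^ j + d) (2 ^ j ^^^ d) && Nat.beq (tab i (2 ^ j + d)) (tab i (2 ^ j) ^^^ tab i d)) (2 ^ j)) 8 = true := by
  decide +kernel

theorem tab_zero : ∀ i : Fin 4, tab i 0 = 0 := by decide +kernel

theorem tab_basis : ∀ i : Fin 4, allBelow (fun j => Nat.blt (tab i (2 ^ j)) 256 &&
    congOK (applyWord (gw i) (basisF.getD j 0)) (rd (tab i (2 ^ j))) (rd 0)) 8 = true := by
  decide +kernel

theorem img_gW_basis (i : Fin 4) {j : ℕ} (hj : j < 8) (h : 2 ^ j < 256) :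
    (img (gW i) ⟨2 ^ j, h⟩ : ℕ) = tab i (2 ^ j) := by
  have h1 := allBelow_spec (tab_basis i) j hj
  simp only [Bool.and_eq_true, Nat.blt_eq] at h1
  refine congrArg Fin.val (img_eq (d := ⟨tab i (2 ^ j), h1.1⟩) ?_)
  have hb : cb ⟨2 ^ j, h⟩ = ⟨_, vec_basisF_mem hj⟩ := Subtype.ext (by
    rw [coe_cb]
    show comb (2 ^ j) = _
    have := comb_two_pow_add (c := 0) hj (Nat.two_pow_pos j)
    rwa [comb_zero, zero_add, add_zero] at this)
  rw [hb, gW, El_smul (gw_valid i) _ _ (basis_small hj) rfl, coe_cb]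
  have h2 := congOK_spec h1.2
  rw [show vec (rd 0) = (0 : GolayPt → ℤ) from rv_zero, sub_zero] at h2
  convert add_mem h2 (rv_congr _ h1.1) using 1
  simp only [rv]
  abel

theorem img_gW (i : Fin 4) : ∀ c : Fin 256, (img (gW i) c : ℕ) = tab i c := by
  rintro ⟨c, hc⟩
  induction c using Nat.strong_induction_on with
  | _ c ih =>
    rcases Nat.eq_zero_or_pos c with rfl | hpos
    · rw [tab_zero]; exact img_zero _
    obtain ⟨j, hj⟩ : ∃ j, j = Nat.log 2 c := ⟨_, rfl⟩
    have h1 : 2 ^ j ≤ c := hj ▸ Nat.pow_log_le_self 2 hpos.ne'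
    have h2 : c < 2 ^ (j + 1) := hj ▸ Nat.lt_pow_succ_log_self (by norm_num) c
    obtain ⟨d, rfl⟩ := Nat.exists_eq_add_of_le h1
    have hd : d < 2 ^ j := by rw [pow_succ] at h2; omega
    have hj8 : j < 8 := by
      by_contra hh
      have : 2 ^ 8 ≤ 2 ^ j := Nat.pow_le_pow_right (by norm_num) (by omega)
      omega
    have h3 := allBelow_spec (allBelow_spec (tab_xor i) j hj8) d hd
    simp only [Bool.and_eq_true, Nat.beq_eq] at h3
    have hj256 : 2 ^ j < 256 := by omega
    have hd256 : d < 256 := by omega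
    have he : (⟨2 ^ j + d, hc⟩ : Fin 256) = ⟨((⟨2 ^ j, hj256⟩ : Fin 256) : ℕ) ^^^ ((⟨d, hd256⟩ : Fin 256) : ℕ),
        xor_lt hj256 hd256⟩ := Fin.ext h3.1
    rw [he, img_xor, img_gW_basis i hj8 hj256, ih d (by omega) hd256]
    exact h3.2.symm.trans (congrArg (tab i) h3.1)

theorem perms_ok : perms.all (invOK 9) = true := by decide +kernel

theorem slp_ok : slpOK 9 (allCodes perms) slp = true := by decide +kernel

theorem chain_ok : chainOK 9 (allCodes perms ++ slp.map (fun o => o.2.2)) [] chain = true := by decide +kernel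

theorem chain_size : chainSize chain = 181440 := by decide +kernel

theorem moves : ∀ i : Fin 4, allBelow (fun c => if blk c < 9 then Nat.beq (blk (tab i c)) (get (gp i) (blk c))
    else Nat.beq (blk (tab i c)) 9) 256 = true := by
  decide +kernel

theorem exists_gperm (i : Fin 4) : ∃ σ : Equiv.Perm (Fin 9), Rep σ (gp i) := by
  have hi : (i : ℕ) < perms.length := i.2
  obtain ⟨σ, hσ, -⟩ := exists_rep (List.all_eq_true.mp perms_ok (perms.getD i (0, 0))
    (by rw [List.getD_eq_getElem _ _ hi]; exact List.getElem_mem _))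
  exact ⟨σ, hσ⟩

/-- The permutation of a generator. -/
noncomputable def gσ (i : Fin 4) : Equiv.Perm (Fin 9) := (exists_gperm i).choose

theorem gσ_rep (i : Fin 4) : Rep (gσ i) (gp i) := (exists_gperm i).choose_spec

theorem gW_block (i : Fin 4) (k : Fin 9) : actHom (gW i) • Bl k = Bl (gσ i k) := by
  ext y
  obtain ⟨c, rfl⟩ := (actHom (gW i)).surjective y
  have hrw : (actHom (gW i) c ∈ actHom (gW i) • Bl k) ↔ c ∈ Bl k := Set.smul_mem_smul_set_iff
  rw [hrw]
  show blk (c : ℕ) = k ↔ blk ((img (gW i) c : Fin 256) : ℕ) = gσ i k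
  have h := allBelow_spec (moves i) c c.2
  rw [img_gW]
  split_ifs at h with hb
  · rw [Nat.beq_eq] at h
    rw [h, show get (gp i) (blk c) = gσ i ⟨blk c, hb⟩ from (gσ_rep i ⟨blk c, hb⟩).symm, ← Fin.ext_iff,
      (gσ i).injective.eq_iff, Fin.ext_iff]
  · rw [Nat.beq_eq] at h
    rw [h]
    constructor <;> intro e <;> have := k.2 <;> have := (gσ i k).2 <;> omega

/-- The generators in the group. -/
noncomputable def gT (i : Fin 4) : T := ⟨gW i, mem_T (gW_block i)⟩

theorem blockHom_gT (i : Fin 4) : blockHom (gT i) = gσ i := blockHom_eq (gW_block i)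

theorem genGroup_le_range : genGroup 9 (perms.map Prod.fst) ≤ blockHom.range := by
  rw [genGroup, Subgroup.closure_le]
  rintro σ ⟨P, hP, hσ⟩
  obtain ⟨i, hi⟩ : ∃ i : Fin 4, gp i = P := by
    clear hσ
    revert P
    decide +kernel
  exact ⟨gT i, by rw [blockHom_gT]; exact (gσ_rep i).unique (hi ▸ hσ)⟩

theorem card_range_ge : 181440 ≤ Nat.card blockHom.range :=
  (le_of_eq_of_le chain_size.symm (le_card_genGroup perms_ok slp_ok chain_ok)).trans
    (Subgroup.card_le_of_le genGroup_le_range)

/-! ### The kernel -/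

theorem negAut_mem_W : negAut ∈ W :=
  mem_W.mpr (Subgroup.mem_center_iff.mp negAut_mem_center uC).symm

/-- `-1` in the group. -/
noncomputable def negW : W := ⟨negAut, negAut_mem_W⟩

/-- `u` in the group. -/
noncomputable def uW : W := ⟨uC, uC_mem_W⟩

theorem negW_ker : negW ∈ actHom.ker := by
  refine MonoidHom.mem_ker.mpr (Equiv.ext fun c => img_eq ?_)
  show ((negAut • cb c : leechLattice) : GolayPt → ℤ) - (cb c : GolayPt → ℤ) ∈ twiceLeech
  rw [negAut_smul, AddSubgroup.coe_neg]
  convert neg_mem (two_nsmul_mem (cb c).2) using 1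
  rw [two_nsmul]; abel

theorem uW_ker : uW ∈ actHom.ker := by
  refine MonoidHom.mem_ker.mpr (Equiv.ext fun c => img_eq ?_)
  show ((uC • cb c : leechLattice) : GolayPt → ℤ) - (cb c : GolayPt → ℤ) ∈ twiceLeech
  rw [uC_smul_cb, sub_self]
  exact zero_mem _

theorem negAut_sq : negAut * negAut = 1 :=
  ext_frame fun i => by rw [mul_smul, negAut_smul, negAut_smul, neg_neg, one_smul]

theorem small_injective {s s' : Fin 2} {j j' : Fin 3}
    (h : negAut ^ (s : ℕ) * uC ^ (j : ℕ) = negAut ^ (s' : ℕ) * uC ^ (j' : ℕ)) : s = s' ∧ j = j' := by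
  have hc : Commute negAut uC := (Subgroup.mem_center_iff.mp negAut_mem_center uC).symm
  have h3 : ∀ (s j : ℕ), (negAut ^ s * uC ^ j) ^ 3 = negAut ^ s := fun s j => by
    have e : negAut ^ 3 = negAut := by rw [pow_succ, pow_two, negAut_sq, one_mul]
    rw [(hc.pow_pow s j).mul_pow, ← pow_mul, ← pow_mul, mul_comm s, mul_comm j, pow_mul, pow_mul, e, uC_pow,
      one_pow, mul_one]
  have hs : s = s' := by
    have h1 := h3 s j
    rw [h, h3] at h1
    obtain ⟨a, ha⟩ := s
    obtain ⟨b, hb⟩ := s'
    refine Fin.ext ?_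
    show a = b
    interval_cases a <;> interval_cases b <;> simp only [pow_zero, pow_one] at h1
    · rfl
    · exact absurd h1 negAut_ne_one
    · exact absurd h1.symm negAut_ne_one
    · rfl
  subst hs
  have h2 := mul_left_cancel h
  have ho : orderOf uC = 3 := orderOf_eq_prime uC_pow uC_ne_one
  exact ⟨rfl, Fin.ext (pow_injOn_Iio_orderOf (by rw [ho]; exact j.2) (by rw [ho]; exact j'.2) h2)⟩

theorem actHom_ker_le_T : actHom.ker ≤ T := fun g hg => mem_T (σ := 1) fun k => by
  rw [MonoidHom.mem_ker.mp hg, one_smul]; rfl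

/-- The six elements of the kernel. -/
noncomputable def kerElt (q : Fin 2 × Fin 3) : W := negW ^ (q.1 : ℕ) * uW ^ (q.2 : ℕ)

theorem kerElt_mem (q : Fin 2 × Fin 3) : kerElt q ∈ actHom.ker :=
  mul_mem (pow_mem negW_ker _) (pow_mem uW_ker _)

theorem kerElt_injective : Function.Injective kerElt := fun a b h => by
  have h' := congrArg (fun x : W => (x : Co0)) h
  simp only [kerElt, Subgroup.coe_mul, SubgroupClass.coe_pow] at h'
  obtain ⟨e1, e2⟩ := small_injective h'
  exact Prod.ext e1 e2

theorem six_le : 6 ≤ Nat.card actHom.ker := by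
  have := Nat.card_le_card_of_injective (fun q => (⟨kerElt q, kerElt_mem q⟩ : actHom.ker))
    fun a b h => kerElt_injective (congrArg Subtype.val h)
  simpa using this

theorem actHom_ker_sub : actHom.ker.subgroupOf T ≤ blockHom.ker := fun g hg =>
  MonoidHom.mem_ker.mpr (blockHom_eq (σ := 1) fun k => by
    rw [show actHom (g : W) = 1 from hg, one_smul]; rfl)

theorem card_facts : T = ⊤ ∧ Nat.card blockHom.ker = 6 ∧ Nat.card blockHom.range = 181440 ∧
    Nat.card actHom.ker = 6 := by
  haveI := LeechOrder.finite_Co0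
  have h1 : Nat.card T = Nat.card blockHom.range * Nat.card blockHom.ker := by
    rw [Subgroup.card_eq_card_quotient_mul_card_subgroup blockHom.ker,
      Nat.card_congr (QuotientGroup.quotientKerEquivRange blockHom).toEquiv]
  have hk' : Nat.card actHom.ker ≤ Nat.card blockHom.ker := by
    rw [← Nat.card_congr (Subgroup.subgroupOfEquivOfLe actHom_ker_le_T).toEquiv]
    exact Subgroup.card_le_of_le actHom_ker_sub
  have h2 := T.card_le_card_group
  have h3 := card_range_ge
  have h4 := six_le
  have h5 := card_W_le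
  have hk : Nat.card blockHom.ker = 6 := by nlinarith
  have hr : Nat.card blockHom.range = 181440 := by nlinarith
  refine ⟨Subgroup.eq_top_of_card_eq _ ?_, hk, hr, le_antisymm (hk ▸ hk') h4⟩
  refine le_antisymm h2 ?_
  rw [h1, hk, hr]
  exact h5

theorem card_actHom_ker : Nat.card actHom.ker = 6 := card_facts.2.2.2

theorem mem_T_all (g : W) : g ∈ T := card_facts.1 ▸ Subgroup.mem_top g

/-- The action of the centraliser on the nine blocks. -/
noncomputable def wHom : W →* Equiv.Perm (Fin 9) :=
  blockHom.comp ((MonoidHom.id W).codRestrict T mem_T_all)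

theorem wHom_range : wHom.range = alternatingGroup (Fin 9) := by
  have e : wHom.range = blockHom.range := by
    refine le_antisymm (fun σ hσ => ?_) (fun σ hσ => ?_)
    · obtain ⟨g, rfl⟩ := hσ; exact ⟨_, rfl⟩
    · obtain ⟨g, rfl⟩ := hσ; exact ⟨g, rfl⟩
  rw [e]
  refine Equiv.Perm.eq_alternatingGroup_of_index_eq_two ?_
  have h := blockHom.range.card_mul_index
  rw [card_facts.2.2.1, Nat.card_perm, Nat.card_fin] at h
  norm_num [Nat.factorial] at h
  omega

theorem actHom_ker_le : actHom.ker ≤ wHom.ker := fun g hg =>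
  MonoidHom.mem_ker.mpr (blockHom_eq (σ := 1) fun k => by
    show actHom g • Bl k = _
    rw [MonoidHom.mem_ker.mp hg, one_smul]; rfl)

theorem wHom_ker : wHom.ker = actHom.ker := by
  refine (Subgroup.eq_of_le_of_card_ge actHom_ker_le ?_).symm
  rw [card_actHom_ker, ← card_facts.2.1]
  exact Nat.card_le_card_of_injective
    (fun g : wHom.ker => (⟨⟨g, mem_T_all g⟩, g.2⟩ : blockHom.ker))
    fun a b h => Subtype.ext (congrArg Subtype.val (congrArg Subtype.val h) :)

theorem card_W : Nat.card W = 6 * 181440 := by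
  rw [Subgroup.card_eq_card_quotient_mul_card_subgroup wHom.ker,
    Nat.card_congr (QuotientGroup.quotientKerEquivRange wHom).toEquiv, wHom_range, wHom_ker, card_actHom_ker,
    mul_comm]
  congr 1
  rw [nat_card_alternatingGroup, Nat.card_fin]
  norm_num [Nat.factorial]

/-- The centraliser modulo the kernel is the alternating group. -/
noncomputable def quotEquiv : W ⧸ actHom.ker ≃* alternatingGroup (Fin 9) :=
  ((QuotientGroup.quotientMulEquivOfEq wHom_ker.symm).trans (QuotientGroup.quotientKerEquivRange wHom)).trans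
    (MulEquiv.subgroupCongr wHom_range)

theorem two_core_trivial (P : Subgroup (W ⧸ actHom.ker)) [P.Normal] (hP : IsPGroup 2 P) : P = ⊥ := by
  haveI : IsSimpleGroup (alternatingGroup (Fin 9)) := alternatingGroup.isSimpleGroup (by simp)
  haveI : (P.map quotEquiv.toMonoidHom).Normal :=
    (inferInstance : P.Normal).map _ quotEquiv.surjective
  rcases IsSimpleGroup.eq_bot_or_eq_top_of_normal (P.map quotEquiv.toMonoidHom) inferInstance with h | h
  · exact (Subgroup.map_eq_bot_iff_of_injective P quotEquiv.injective).mp h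
  · exfalso
    haveI : Fact (Nat.Prime 2) := ⟨Nat.prime_two⟩
    obtain ⟨n, hn⟩ := IsPGroup.iff_card.mp (hP.map quotEquiv.toMonoidHom)
    rw [h, Nat.card_congr Subgroup.topEquiv.toEquiv, nat_card_alternatingGroup, Nat.card_fin] at hn
    norm_num [Nat.factorial] at hn
    have h3 : 3 ∣ 2 ^ n := hn ▸ by norm_num
    exact absurd (Nat.prime_three.dvd_of_dvd_pow h3) (by norm_num)

end Cfsg.Agent.LeechThompson17
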