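import Cfsg.Agent.Lib.LeechThompson17Classes
import Cfsg.Agent.Lib.LeechStab

/-!
The monomial part of the centraliser of the fixed-point-free `u` has order at most `2^4 * 504`.
-/

set_option autoImplicit false
set_option linter.style.haveILetI false

open scoped Pointwise symmDiff

namespace Cfsg.Agent.LeechThompson17

open Cfsg Cfsg.Agent.GolayBasic Cfsg.Agent.LeechBasic Cfsg.Agent.LeechAut Cfsg.Agent.LeechMonomial
open Cfsg.Agent.LeechCert Cfsg.Agent.LeechOutTool Cfsg.Agent.LeechOrbit Cfsg.Agent.LeechStab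
open Cfsg.Agent.LeechFreeInvolution (frameCodes)
open Cfsg.Agent.GolayPerm (pts mem_pts pimg pmask good permOf permOf_mem_M24 permOf_apply valid_of_good pfun
  smul_mset eq_one_of_closeCheck smul_singleton_of_fix smul_mem_octads)

theorem uP_good : good uP = true := by decide +kernel

/-- The permutation. -/
noncomputable def pu : Equiv.Perm GolayPt := permOf uP

theorem pu_apply (p : GolayPt) : pu p = pfun uP p := permOf_apply (valid_of_good uP_good) p

theorem pu_mem : pu ∈ M24 := permOf_mem_M24 uP_good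

theorem uC_table : ∀ i p : GolayPt,
    vec (applyWord [uStep] (frameCodes.getD (idx i) 0)) p = unitVec 8 (pfun uP i) p := by
  decide +kernel

theorem uC_eq_monomial : uC = monomial pu pu_mem ∅ empty_mem_supports :=
  ext_frame fun i => Subtype.ext (by
    rw [uC, El_frame uStep_valid, coe_monomial_smul]
    funext p
    rw [uC_table i p, ← pu_apply]
    simp only [signedPerm, Finset.notMem_empty, if_false]
    show _ = unitVec 8 i (pu.symm p)
    simp only [unitVec, Equiv.symm_apply_eq])

theorem uC_mem_mono : uC ∈ mono := uC_eq_monomial ▸ monomial_mem _ _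

/-- The centraliser of the permutation in `M24`. -/
noncomputable def permCent : Subgroup (Equiv.Perm GolayPt) := M24 ⊓ Subgroup.centralizer {pu}

theorem mem_permCent {g : Equiv.Perm GolayPt} : g ∈ permCent ↔ g ∈ M24 ∧ g * pu = pu * g :=
  and_congr_right fun _ => Subgroup.mem_centralizer_singleton_iff

theorem pu_mem_permCent : pu ∈ permCent := mem_permCent.mpr ⟨pu_mem, rfl⟩

theorem pu_pow : pu ^ 3 = 1 := by
  ext p : 1
  rw [pow_three]
  simp only [Equiv.Perm.mul_apply, Equiv.Perm.one_apply, pu_apply]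
  revert p
  decide +kernel

/-- The octad through the cycle of `a` and two neighbours of `b`. -/
def oct (a b : GolayPt) : ℕ := octTab.getD (24 * idx a + idx b) 0

/-- Five points. -/
def five (a b : GolayPt) : Finset GolayPt :=
  {a, pfun uP a, pfun uP (pfun uP a), b, pfun uP b}

/-- `b` is outside the cycle of `a`. -/
def apart (a b : GolayPt) : Prop := b ≠ a ∧ b ≠ pfun uP a ∧ b ≠ pfun uP (pfun uP a)

theorem oct_ok : ∀ a b : GolayPt, b ≠ a → b ≠ pfun uP a → b ≠ pfun uP (pfun uP a) →
    5 ≤ (five a b).card ∧ five a b ⊆ mset (oct a b) ∧ oct a b < 2 ^ 24 ∧ inCode (oct a b) = true ∧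
      wt (oct a b) = 8 := by
  decide +kernel

theorem oct_mem {a b : GolayPt} (h : apart a b) : mset (oct a b) ∈ octads := by
  obtain ⟨-, -, h1, h2, h3⟩ := oct_ok a b h.1 h.2.1 h.2.2
  exact (mset_mem_octads h1).2 ⟨h2, h3⟩

theorem comm_apply {g : Equiv.Perm GolayPt} (hg : g ∈ permCent) (p : GolayPt) :
    g (pfun uP p) = pfun uP (g p) := by
  have := congrArg (fun s : Equiv.Perm GolayPt => s p) (mem_permCent.mp hg).2
  simp only [Equiv.Perm.mul_apply, pu_apply] at this
  exact this

theorem smul_five {g : Equiv.Perm GolayPt} (hg : g ∈ permCent) (a b : GolayPt) :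
    g • five a b = five (g a) (g b) := by
  simp only [five, Finset.smul_finset_insert, Finset.smul_finset_singleton, Equiv.Perm.smul_def, comm_apply hg]

theorem apart_map {g : Equiv.Perm GolayPt} (hg : g ∈ permCent) {a b : GolayPt} (h : apart a b) :
    apart (g a) (g b) := by
  refine ⟨g.injective.ne h.1, ?_, ?_⟩
  · rw [← comm_apply hg]; exact g.injective.ne h.2.1
  · rw [← comm_apply hg, ← comm_apply hg]; exact g.injective.ne h.2.2

theorem smul_oct {g : Equiv.Perm GolayPt} (hg : g ∈ permCent) {a b : GolayPt} (h : apart a b) :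
    g • mset (oct a b) = mset (oct (g a) (g b)) := by
  have h' := apart_map hg h
  refine GolaySteiner.octad_eq_of_five (smul_mem_octads (mem_permCent.mp hg).1 (oct_mem h)) (oct_mem h')
    (s := five (g a) (g b)) (oct_ok _ _ h'.1 h'.2.1 h'.2.2).1 ?_ (oct_ok _ _ h'.1 h'.2.1 h'.2.2).2.1
  rw [← smul_five hg]
  exact Finset.smul_finset_subset_smul_finset (oct_ok a b h.1 h.2.1 h.2.2).2.1

/-- Triples in the orbit of the three base points, on indices. -/
noncomputable def tripleOK (a b c : ℕ) : Bool :=
  !(Nat.beq b a) && !(Nat.beq b (pimg uP a)) && !(Nat.beq b (pimg uP (pimg uP a))) &&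
  !(Nat.beq a c) && !(Nat.beq a (pimg uP c)) && !(Nat.beq a (pimg uP (pimg uP c))) &&
  !(Nat.beq c (pimg uP a)) && !(Nat.beq c (pimg uP (pimg uP a))) && !(Nat.beq c b) && !(Nat.beq c (pimg uP b)) &&
  Nat.testBit (octTab.getD (24 * a + b) 0) c && Nat.testBit (octTab.getD (24 * c + a) 0) b

/-- Triples in the orbit of the three base points. -/
def Triple (a b c : GolayPt) : Prop :=
  apart a b ∧ apart c a ∧ c ≠ pfun uP a ∧ c ≠ pfun uP (pfun uP a) ∧ c ≠ b ∧ c ≠ pfun uP b ∧
    c ∈ mset (oct a b) ∧ b ∈ mset (oct c a)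

theorem idx_ne {p q : GolayPt} : idx p ≠ idx q ↔ p ≠ q :=
  ⟨fun h e => h (congrArg idx e), fun h e => h (by rw [← pt_idx p, ← pt_idx q, e])⟩

theorem idx_pfun (p : GolayPt) : idx (pfun uP p) = pimg uP (idx p) := by
  rw [pfun, idx_pt (GolayPerm.pimg_lt (valid_of_good uP_good) (idx_lt p))]

theorem triple_iff {a b c : GolayPt} : Triple a b c ↔ tripleOK (idx a) (idx b) (idx c) = true := by
  simp only [Triple, apart, tripleOK, Bool.and_eq_true, Bool.not_eq_true', ← Bool.not_eq_true, Nat.beq_eq,
    ← idx_pfun, mem_mset, oct]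
  simp only [← ne_eq, idx_ne]
  tauto

theorem triple_map {g : Equiv.Perm GolayPt} (hg : g ∈ permCent) {a b c : GolayPt} (h : Triple a b c) :
    Triple (g a) (g b) (g c) := by
  obtain ⟨h1, h2, h3, h4, h5, h6, h7, h8⟩ := h
  refine ⟨apart_map hg h1, apart_map hg h2, ?_, ?_, g.injective.ne h5, ?_, ?_, ?_⟩
  · rw [← comm_apply hg]; exact g.injective.ne h3
  · rw [← comm_apply hg, ← comm_apply hg]; exact g.injective.ne h4
  · rw [← comm_apply hg]; exact g.injective.ne h6
  · rw [← smul_oct hg h1]; exact Finset.smul_mem_smul_finset h7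
  · rw [← smul_oct hg h2]; exact Finset.smul_mem_smul_finset h8

theorem base_triple : Triple (pt keyPts.1) (pt keyPts.2.1) (pt keyPts.2.2) := by
  rw [triple_iff]
  decide +kernel

theorem triple_count :
    ((Finset.range 13824).filter fun t => tripleOK (t / 576) (t / 24 % 24) (t % 24) = true).card = 504 := by
  decide +kernel

theorem rigid_close : GolayPerm.closeCheck rigidInit rigidOps = true := by decide +kernel

theorem rigid_points : rigidInit = 16777215 :: [keyPts.1, pimg uP keyPts.1, pimg uP (pimg uP keyPts.1),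
    keyPts.2.1, pimg uP keyPts.2.1, pimg uP (pimg uP keyPts.2.1), keyPts.2.2].map (fun b => 1 <<< b) := by
  decide +kernel

theorem key_lt : keyPts.1 < 24 ∧ keyPts.2.1 < 24 ∧ keyPts.2.2 < 24 := by decide +kernel

theorem fix_univ (g : Equiv.Perm GolayPt) : g • mset 16777215 = mset 16777215 := by
  rw [mset_all, Finset.smul_finset_univ]

theorem eq_one_of_fix {g : Equiv.Perm GolayPt} (hg : g ∈ permCent) (ha : g (pt keyPts.1) = pt keyPts.1)
    (hb : g (pt keyPts.2.1) = pt keyPts.2.1) (hc : g (pt keyPts.2.2) = pt keyPts.2.2) : g = 1 := by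
  obtain ⟨la, lb, lc⟩ := key_lt
  have hv := valid_of_good uP_good
  have step : ∀ {k : ℕ}, k < 24 → g (pt k) = pt k → g (pt (pimg uP k)) = pt (pimg uP k) := by
    intro k hk h
    have h1 := comm_apply hg (pt k)
    rw [h, pfun, idx_pt hk] at h1
    exact h1
  refine eq_one_of_closeCheck rigid_close (mem_permCent.mp hg).1 fun m hm => ?_
  rw [rigid_points, List.mem_cons] at hm
  rcases hm with rfl | hm
  · exact fix_univ _
  obtain ⟨b, hb', rfl⟩ := List.mem_map.mp hm
  have la1 := GolayPerm.pimg_lt hv la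
  have lb1 := GolayPerm.pimg_lt hv lb
  simp only [List.mem_cons, List.not_mem_nil, or_false] at hb'
  rcases hb' with rfl | rfl | rfl | rfl | rfl | rfl | rfl
  · exact smul_singleton_of_fix la ha
  · exact smul_singleton_of_fix la1 (step la ha)
  · exact smul_singleton_of_fix (GolayPerm.pimg_lt hv la1) (step la1 (step la ha))
  · exact smul_singleton_of_fix lb hb
  · exact smul_singleton_of_fix lb1 (step lb hb)
  · exact smul_singleton_of_fix (GolayPerm.pimg_lt hv lb1) (step lb1 (step lb hb))
  · exact smul_singleton_of_fix lc hc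

theorem card_permCent_le : Nat.card permCent ≤ 504 := by
  classical
  rw [← triple_count, ← Nat.card_eq_finsetCard]
  refine Nat.card_le_card_of_injective (fun g : permCent => (⟨576 * idx ((g : Equiv.Perm GolayPt) (pt keyPts.1)) +
      24 * idx ((g : Equiv.Perm GolayPt) (pt keyPts.2.1)) + idx ((g : Equiv.Perm GolayPt) (pt keyPts.2.2)), ?_⟩ :
    ((Finset.range 13824).filter fun t => tripleOK (t / 576) (t / 24 % 24) (t % 24) = true))) ?_
  · have ha := idx_lt ((g : Equiv.Perm GolayPt) (pt keyPts.1))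
    have hb := idx_lt ((g : Equiv.Perm GolayPt) (pt keyPts.2.1))
    have hc := idx_lt ((g : Equiv.Perm GolayPt) (pt keyPts.2.2))
    have h := triple_iff.mp (triple_map g.2 base_triple)
    refine Finset.mem_filter.mpr ⟨Finset.mem_range.mpr (by omega), ?_⟩
    convert h using 2 <;> omega
  · intro g h e
    have e' := congrArg Subtype.val e
    simp only at e'
    have ha := idx_lt ((g : Equiv.Perm GolayPt) (pt keyPts.2.1))
    have hb := idx_lt ((g : Equiv.Perm GolayPt) (pt keyPts.2.2))
    have ha' := idx_lt ((h : Equiv.Perm GolayPt) (pt keyPts.2.1))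
    have hb' := idx_lt ((h : Equiv.Perm GolayPt) (pt keyPts.2.2))
    have key : ∀ p q : GolayPt, idx p = idx q → p = q := fun p q e => by rw [← pt_idx p, ← pt_idx q, e]
    have e1 := key ((g : Equiv.Perm GolayPt) (pt keyPts.1)) ((h : Equiv.Perm GolayPt) (pt keyPts.1)) (by omega)
    have e2 := key ((g : Equiv.Perm GolayPt) (pt keyPts.2.1)) ((h : Equiv.Perm GolayPt) (pt keyPts.2.1)) (by omega)
    have e3 := key ((g : Equiv.Perm GolayPt) (pt keyPts.2.2)) ((h : Equiv.Perm GolayPt) (pt keyPts.2.2)) (by omega)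
    refine Subtype.ext (inv_mul_eq_one.mp (eq_one_of_fix (permCent.mul_mem (permCent.inv_mem h.2) g.2) ?_ ?_ ?_)).symm <;>
      rw [Equiv.Perm.mul_apply, Equiv.Perm.inv_eq_iff_eq]
    exacts [e1, e2, e3]

/-- The code supports kept by the permutation. -/
abbrev InvCode : Type := {c : CodeSupp // pu • c.1 = c.1}

theorem invCode_count :
    ((Finset.range 4096).filter fun y => pmask uP (enc y) = enc y).card = 16 := by
  decide +kernel

theorem card_invCode_le : Nat.card InvCode ≤ 16 := by
  rw [← invCode_count, ← Nat.card_eq_finsetCard]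
  have hmask : ∀ c : InvCode, ∃ y : ((Finset.range 4096).filter fun y => pmask uP (enc y) = enc y),
      mset (enc y) = c.1.1 := by
    rintro ⟨⟨s, hs⟩, hc⟩
    have hcode : inCode (smask s) = true :=
      (mset_mem_supports (smask_lt s)).1 (by rw [mset_smask]; exact hs)
    obtain ⟨y, hy, e⟩ := exists_enc_of_inCode hcode
    refine ⟨⟨y, Finset.mem_filter.mpr ⟨Finset.mem_range.mpr hy, ?_⟩⟩, by rw [e, mset_smask]⟩
    refine mset_inj ?_ (enc_lt hy) ?_
    · exact Nat.lt_pow_two_of_testBit _ fun i hi => by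
        by_contra hb
        rw [Bool.not_eq_false, GolayPerm.testBit_pmask] at hb
        obtain ⟨k, hk, -, hkj⟩ := hb
        have := GolayPerm.pimg_lt (valid_of_good uP_good) hk
        omega
    · rw [← smul_mset (valid_of_good uP_good), e, mset_smask]; exact hc
  choose f hf using hmask
  exact Nat.card_le_card_of_injective f fun a b h => Subtype.ext (Subtype.ext (by rw [← hf a, ← hf b, h]))

theorem card_monoW_le : Nat.card ↥(mono ⊓ W) ≤ 8064 := by
  classical
  have h : ∀ g : ↥(mono ⊓ W), ∃ q : permCent × InvCode,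
      (g : Co0) = monomial q.1.1 q.1.2.1 q.2.1.1 q.2.1.2 := by
    rintro ⟨g, hgm, hgW⟩
    obtain ⟨σ, hσ, c, hc, rfl⟩ := mem_mono.mp hgm
    have e := mem_W.mp hgW
    rw [uC_eq_monomial, monomial_mul hσ pu_mem hc empty_mem_supports,
      monomial_mul pu_mem hσ empty_mem_supports hc] at e
    obtain ⟨e1, e2⟩ := monomial_injective _ _ _ _ e
    rw [Finset.smul_finset_empty, ← Finset.bot_eq_empty, symmDiff_bot, bot_symmDiff] at e2
    exact ⟨(⟨σ, mem_permCent.mpr ⟨hσ, e1⟩⟩, ⟨⟨c, hc⟩, e2.symm⟩), rfl⟩
  choose f hf using h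
  refine (Nat.card_le_card_of_injective f fun a b hab => Subtype.ext ?_).trans ?_
  · rw [hf a, hf b, hab]
  · rw [Nat.card_prod]
    exact (Nat.mul_le_mul card_permCent_le card_invCode_le).trans (by norm_num)

end Cfsg.Agent.LeechThompson17
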