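import Mathlib

/-!
Field tables, subspaces and matrices for the U35 configuration.
-/

set_option autoImplicit false

namespace Cfsg.Agent.LeechUnitary35

/-- addition table -/
def addTable : ℕ := 0x128c1f36b16a720e62a46208097b5698000000001183e7262d4e69cc54a04101076ad31700000000107ce515a9cd618a941c2020c55a62f6000000000f9ca30539ac595283980418834c5ed500000000139460f7358b525073148310418bdab4000000000d62d4e41cc548c41012f6ad3128c1f3000000000c5a9cd398a94082020ed5a62f183e72000000000b539ac315283840418ab4c5ed07ce51000000000a7358b2a5073008310698bdaaf9ca30000000000e6b16a4a0e62906208317b56939460f0000000008398a91882025ed5a625183e6d62d4e000000000731528104041dab4c5e307ce4c5a9cd00000000062a5070808315698bda0f9ca2b539ac00000000054a0e6010620d317b55f39460a7358b000000000941cc520c41062f6ad2728c1ee6b16a000000000310404bdab4c4a307cdac5a9c8398a9000000000208083b5698bc60f9c98b539a731528000000000101062ad317b41f39456a735862a507000000000020c41a62f6abe728c14e6b1654a0e6000000000418820c5ed5a4e5183dcd62d4941cc50000000017b56989460f9b58b5390731523104040000000016ad3178c1f39316a734e62a502080830000000015a62f683e728ad4e6b0c54a0e1010620000000014c5ed57ce51829cd62ca941cc020c410000000018bdab49ca307b9ac5a928398a418820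

/-- multiplication table -/
def mulTable : ℕ := 0xd9d0277d44875869540855c6e664b000000000013a8cac0a151c35f621a824ae47742e00000000014199d163ee1490ea95618115a85cec000000000012ba56b88ca9bf033ad90a11096c6a00000000007646c24ba7821970a850d95c6553e80000000000f0b2e9c160268dd4344f222aabb2260000000001543c4e2c48bbcc2da1c6ab260cc1a40000000000255cd3811944164175b0778d6daa62000000000088855812e89954b31b1e46d8ceb9e00000000000ec26646dd121b2c7889753402aa15e00000000016691e61ccb56268b149418a3103ddc0000000000379f0b70645b5184820d750a714d5a00000000009b2870a34333ac912dc4f455d236180000000000a248f5351c388a05c36ec0bd334596000000000103556189ecc1491768e69c388f2d1400000000004a418838f0f5a8c2bce4e286d58b52000000000051620d928e4a86ef625c61d2369ad00000000000b48a92259ed345480e0a3acd97838e000000000115949752476820557b8349b4f8930c0000000001793503ac1660e26e492d161c547a8a000000000063a1255b1ae542329beb6be28110c80000000000c72daab62b7a1d2641633849e220460000000001284e2f419272deb8b51ab73143090400000000018bdab49ca307b9ac5a928398a4188200000000000000000000000000000000000000000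

/-- conjugation table -/
def conjTable : ℕ := 0x941cc57358b54e5183f17b568418820

/-- subspaces -/
def subspaces : List (List ℕ) := [
  [0x40000820,
   0x40000c20,
   0x5ae1,
   0x31c1,
   0x1ee1,
   0x5ce1,
   0x4961,
   0x1421,
   0x4a01,
   0x3ee1,
   0x4da1,
   0x20e1,
   0x1d41,
   0x40001820,
   0x2e21,
   0x4181,
   0x5ee1,
   0x1ce1,
   0x1261,
   0x661,
   0x3281,
   0x3d01,
   0x5401,
   0x34a1,
   0x29e1,
   0xc1,
   0x44a1,
   0x5221,
   0x3601,
   0x3161,
   0x4a81,
   0x5d41],
  [0x1ec1,
   0x4d81,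
   0x5ac1,
   0x1281,
   0x1d01,
   0x40002420,
   0x4241,
   0x4a1,
   0x4221,
   0x3821,
   0x5c1,
   0x41,
   0x4c21,
   0x681,
   0x5d01,
   0x4661,
   0x1de1,
   0x30a1,
   0x4a61,
   0x2141,
   0x301,
   0x2ac1,
   0x5021,
   0x2401,
   0x22e1,
   0x45c1,
   0x3681,
   0x4681,
   0x41a1,
   0x3d41,
   0x1621,
   0x4e41],
  [0x601,
   0x2901,
   0x2da1,
   0x6001,
   0x2ae1,
   0x3de1,
   0x61,
   0x2c81,
   0x1201,
   0x39a1,
   0x35c1,
   0x21e1,
   0x1581,
   0x3ec1,
   0x3ce1,
   0x2d81,
   0x1481,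
   0x561,
   0x1161,
   0xc01,
   0x3261,
   0x5081,
   0x28e1,
   0x4561,
   0x3a41,
   0x5de1,
   0x3661,
   0x40005420,
   0x801,
   0x1641,
   0x48a1,
   0x5181],
  [0x121,
   0x51a1,
   0x3a21,
   0x5901,
   0x11c1,
   0x59e1,
   0x4021,
   0x3561,
   0x10a1,
   0x5ec1,
   0x3981,
   0x2e41,
   0x4601,
   0x40006020,
   0x49c1,
   0x3201,
   0x2941,
   0x4c81,
   0x2a1,
   0x15a1,
   0x3881,
   0x22c1,
   0x5241,
   0x5941,
   0x2c21,
   0x4081,
   0x2101,
   0x4e21,
   0x1801,
   0x58e1]]

/-- annihilators -/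
def annihilators : List ℕ := [1, 1120]

/-- matrices -/
def matrices : List ℕ := [0xc9de277248c,
  0x1322b0460cd4]

end Cfsg.Agent.LeechUnitary35
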