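import Cfsg.Agent.Lib.LeechImage
import Cfsg.Agent.Lib.UnitarySubspaceImage
import Cfsg.Agent.Lib.UnitaryImageFields
import Cfsg.Agent.Lib.LeechUnitary35Perms
import Cfsg.Agent.Lib.LeechUnitary35Vectors
import Cfsg.Agent.Lib.LeechUnitary35Spaces

/-!
The stabiliser of the U35 configuration is the projective special unitary group.
-/

set_option autoImplicit false

namespace Cfsg.Agent.LeechUnitary35

open Cfsg Cfsg.Agent.LeechCert Cfsg.Agent.LeechOrbit Cfsg.Agent.PermImageCert

/-- The field. -/
def field : UnitaryImage.Code := ⟨5, 0, 2, addTable, mulTable, conjTable⟩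

theorem perms_ok : perms.all (invOK 126) = true := by decide +kernel

theorem slp_ok : slpOK 126 (allCodes perms) slp = true := by decide +kernel

theorem chain_ok : chainOK 126 (allCodes perms ++ slp.map (fun o => o.2.2)) [] chain = true := by decide +kernel

theorem chain_size : chainSize chain = 126000 := by decide +kernel

theorem le_card : 126000 ≤ Nat.card (genGroup 126 (perms.map Prod.fst)) :=
  chain_size ▸ le_card_genGroup perms_ok slp_ok chain_ok

theorem smallF_ok : smallF fixedCodes = true := by decide +kernel

theorem vecs_ok : LeechImage.pairsOK 126 vecsA vecsB = true := by decide +kernel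

theorem words_ok : (words.zip (perms.map Prod.fst)).all
    (LeechImage.pairImageOK fixedCodes 126 vecsA vecsB) = true := by decide +kernel

theorem words_map : (words.zip (perms.map Prod.fst)).map Prod.snd = perms.map Prod.fst := by decide +kernel

theorem tables_ok : UnitaryImage.tablesOK field = true := by decide +kernel

theorem distinct_ok : UnitaryImage.distinctOK field 3 1 126 subspaces annihilators = true := by decide +kernel

theorem matrices_ok : (matrices.zip (perms.map Prod.fst)).all
    (UnitaryImage.imageOK field 3 1 126 subspaces) = true := by decide +kernel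

theorem matrices_map : (matrices.zip (perms.map Prod.fst)).map Prod.snd = perms.map Prod.fst := by decide +kernel

theorem tree_length : tree0.length + 1 = 126 := by decide +kernel

theorem nonempty_stab_iso {a b c : leechLattice} (ha : (a : GolayPt → ℤ) = vec fixedCodes.1)
    (hb : (b : GolayPt → ℤ) = vec fixedCodes.2.1) (hc : (c : GolayPt → ℤ) = vec fixedCodes.2.2)
    (hcard : Nat.card ↥(LeechImage.stab3 a b c) = 126000)
    (F : Type) [Field F] [Fintype F] (hF : Fintype.card F = 25) :
    Nonempty (↥(LeechImage.stab3 a b c) ≃* PSU 3 F 5) := by
  obtain ⟨s, hs, hsp⟩ := UnitaryImageFields.gen_twentyfive hF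
  have hgen : UnitaryImage.GenOK field s :=
    { tables := tables_ok
      char := UnitaryImageFields.cast_char (k := 2) Nat.prime_five (by rw [hF]; rfl)
      sq := by simp [field, hs]
      frob := by simpa [field] using hsp
      prime := Nat.prime_five }
  obtain ⟨e₁⟩ := LeechImage.exists_iso_pairs ha hb hc smallF_ok vecsA vecsB vecs_ok
    (words.zip (perms.map Prod.fst)) words_ok (M := 126000) (by norm_num) (by rw [words_map]; exact le_card) hcard
  obtain ⟨e₂⟩ := UnitaryImage.exists_iso hgen (n := 3) (r := 1) (N := 126) (by norm_num)
    (show Fintype.card F = 5 ^ 2 by rw [hF]; rfl)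
    subspaces annihilators distinct_ok (matrices.zip (perms.map Prod.fst)) matrices_ok
    (by rw [matrices_map]; exact transitive_of_tree perms_ok slp_ok chain_ok tree_length)
    (M := 126000) (by rw [matrices_map]; exact le_card) (UnitaryImageFields.card_PSU35 hF)
  exact ⟨e₁.trans ((MulEquiv.subgroupCongr (by rw [words_map, matrices_map])).trans e₂.symm)⟩

end Cfsg.Agent.LeechUnitary35
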