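import Cfsg.Agent.Lib.LeechImage
import Cfsg.Agent.Lib.LeechCertOrders

/-!
Joint stabilisers carried along by an automorphism, and their orders from a transitive census.
-/

set_option autoImplicit false

open scoped Pointwise

namespace Cfsg.Agent.LeechUnitaryStab

open Cfsg Cfsg.Agent.GolayBasic Cfsg.Agent.LeechBasic Cfsg.Agent.LeechAut Cfsg.Agent.LeechOrbit
open Cfsg.Agent.LeechCert Cfsg.Agent.LeechImage

/-- Conjugation carries joint stabilisers along. -/
theorem nonempty_conj (h : Co0) (S : Subgroup Co0) {a b c a' b' c' : leechLattice}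
    (ha : h • a = a') (hb : h • b = b') (hc : h • c = c')
    (hS : ∀ g, g ∈ S ↔ g • a = a ∧ g • b = b ∧ g • c = c) :
    Nonempty (↥S ≃* ↥(stab3 a' b' c')) := by
  have key : ∀ g : Co0, g ∈ S ↔ (MulAut.conj h g) ∈ stab3 a' b' c' := fun g => by
    rw [hS, Subgroup.mem_inf, Subgroup.mem_inf, MulAction.mem_stabilizer_iff, MulAction.mem_stabilizer_iff,
      MulAction.mem_stabilizer_iff, MulAut.conj_apply, mul_smul, mul_smul, mul_smul, mul_smul, mul_smul, mul_smul,
      ← ha, ← hb, ← hc, inv_smul_smul, inv_smul_smul, inv_smul_smul, smul_left_cancel_iff, smul_left_cancel_iff,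
      smul_left_cancel_iff, and_assoc]
  exact ⟨((MulAut.conj h).subgroupMap S).trans (MulEquiv.subgroupCongr (Subgroup.ext fun g => by
    rw [Subgroup.mem_map]
    constructor
    · rintro ⟨x, hx, rfl⟩; exact (key x).mp hx
    · intro hg
      exact ⟨(MulAut.conj h).symm g, (key _).mpr (by rwa [MulEquiv.apply_symm_apply]), MulEquiv.apply_symm_apply _ g⟩))⟩

/-- The order of a joint stabiliser from a transitive census. -/
theorem census_mul_card {F : ℕ × ℕ × ℕ} {a b c y : leechLattice} (ha : (a : GolayPt → ℤ) = vec F.1)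
    (hb : (b : GolayPt → ℤ) = vec F.2.1) (hc : (c : GolayPt → ℤ) = vec F.2.2) {N : ℕ} {d : ℤ × ℤ × ℤ}
    (htr : ∀ z ∈ census F N d, ∃ g : Co0, Fixes F g ∧ g • y = z) (hy : y ∈ census F N d) :
    (census F N d).ncard * Nat.card ↥(stab3 a b c ⊓ MulAction.stabilizer Co0 y) = Nat.card ↥(stab3 a b c) := by
  have hfix : ∀ g : Co0, g ∈ stab3 a b c ↔ Fixes F g := fun g => by
    simp only [Subgroup.mem_inf, MulAction.mem_stabilizer_iff]
    constructor
    · rintro ⟨⟨h1, h2⟩, h3⟩ v (hv | hv | hv)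
      · rw [show v = a from Subtype.ext (hv.trans ha.symm)]; exact h1
      · rw [show v = b from Subtype.ext (hv.trans hb.symm)]; exact h2
      · rw [show v = c from Subtype.ext (hv.trans hc.symm)]; exact h3
    · exact fun h => ⟨⟨h a (Or.inl ha), h b (Or.inr (Or.inl hb))⟩, h c (Or.inr (Or.inr hc))⟩
  refine LeechCertOrders.card_orbit_mul hy (fun g hg z hz => ?_) fun z hz => ?_
  · exact smul_mem_census ((hfix g).mp hg) ha hb hc hz
  · obtain ⟨g, hg, hgz⟩ := htr z hz
    exact ⟨g, (hfix g).mpr hg, hgz⟩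

end Cfsg.Agent.LeechUnitaryStab
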