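import Cfsg.Agent.Lib.LeechAut

/-!
A finite generating set of the lattice and a non-monomial automorphism `xi`.
-/

set_option autoImplicit false

namespace Cfsg.Agent.LeechXi

open Cfsg Cfsg.Agent.GolayBasic Cfsg.Agent.LeechBasic Cfsg.Agent.LeechAut

/-- The vector with the listed coordinates, by the numbering `idx`. -/
def toVec (l : List ℤ) : GolayPt → ℤ := fun p => l.getD (idx p) 0

/-- Decidable form of membership. -/
def isL (x : GolayPt → ℤ) : Bool :=
  decide (∀ i, x i % 2 = x none % 2) && decide ((∑ i, x i) % 8 = 4 * (x none % 2)) &&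
    inCode (wmask (wbit x))

theorem isL_iff {x : GolayPt → ℤ} : isL x = true ↔ x ∈ leechLattice := by
  rw [mem_leechLattice, IsLeech, mem_golayCode, isL]
  simp [and_assoc]

/-- `4e_i - 4e_∞`. -/
def fourDiff (i : GolayPt) : GolayPt → ℤ := fun p => (if p = i then 4 else 0) - (if p = none then 4 else 0)

/-- Twice the indicator of a mask. -/
def twoMask (b : ℕ) : GolayPt → ℤ := fun p => if b.testBit (idx p) then 2 else 0

/-- `(-3, 1^23)`. -/
def oddVec : GolayPt → ℤ := fun p => if p = none then -3 else 1

theorem oddVec_mem : oddVec ∈ leechLattice := isL_iff.mp (by decide +kernel)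

theorem fourDiff_mem (i : GolayPt) : fourDiff i ∈ leechLattice := by
  rw [← isL_iff]
  revert i
  decide +kernel

theorem twoMask_mem {b : ℕ} (hb : b ∈ basisRows) : twoMask b ∈ leechLattice := by
  rw [← isL_iff]
  have : basisRows.all (fun b => isL (twoMask b)) = true := by decide +kernel
  exact List.all_eq_true.1 this b hb

/-- An additive subgroup containing the listed vectors contains the lattice. -/
theorem leechLattice_le (M : AddSubgroup (GolayPt → ℤ)) (hodd : oddVec ∈ M)
    (htwo : ∀ b ∈ basisRows, twoMask b ∈ M) (hfour : ∀ i, fourDiff i ∈ M)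
    (height : unitVec 8 none ∈ M) : leechLattice ≤ M := by
  -- vectors divisible by four
  have h4 : ∀ x : GolayPt → ℤ, (∀ i, x i % 4 = 0) → (∑ i, x i) % 8 = 0 → x ∈ M := by
    intro x h1 h2
    have key : x = (∑ i, (x i / 4) • fourDiff i) + ((∑ i, x i / 4) / 2) • unitVec 8 none := by
      funext p
      have hs : ∑ i, x i = 4 * ∑ i, x i / 4 := by
        rw [Finset.mul_sum]
        exact Finset.sum_congr rfl fun i _ => by have := h1 i; omega
      simp only [Pi.add_apply, Finset.sum_apply, Pi.smul_apply, smul_eq_mul, fourDiff, mul_sub,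
        Finset.sum_sub_distrib, mul_ite, mul_zero, Finset.sum_ite_eq, Finset.mem_univ, if_true, unitVec]
      have := h1 p
      by_cases hp : p = none
      · simp only [if_pos hp, ← Finset.sum_mul]; omega
      · simp only [if_neg hp, Finset.sum_const_zero]; omega
    rw [key]
    exact add_mem (sum_mem fun i _ => zsmul_mem (hfour i) _) (zsmul_mem height _)
  -- a representative for every codeword
  have hcode : ∀ (l : List ℕ), (∀ b ∈ l, twoMask b ∈ M ∧ twoMask b ∈ leechLattice) → ∀ y,
      ∃ z ∈ M, z ∈ leechLattice ∧ z none % 2 = 0 ∧ wbit z = word (combo l y) := by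
    intro l
    induction l with
    | nil =>
      intro _ y
      exact ⟨0, zero_mem _, zero_mem _, rfl, by funext p; simp [combo, word_zero, wbit]⟩
    | cons b l ih =>
      intro hl y
      obtain ⟨z, hz, hzL, hz0, hzw⟩ := ih (fun c hc => hl c (List.mem_cons_of_mem _ hc)) (y >>> 1)
      rw [combo, word_xor]
      rcases Nat.mod_two_eq_zero_or_one y with hy | hy
      · refine ⟨z, hz, hzL, hz0, ?_⟩
        rw [Nat.and_one_is_mod, hy, zero_mul, word_zero, zero_add, hzw]
      · obtain ⟨hbM, hbL⟩ := hl b List.mem_cons_self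
        have hb0 : twoMask b none % 2 = 0 := by simp only [twoMask]; split_ifs <;> rfl
        refine ⟨twoMask b + z, add_mem hbM hz, add_mem hbL hzL, ?_, ?_⟩
        · simp only [Pi.add_apply]; omega
        · have hwb : wbit (twoMask b) = word b := by
            funext p
            rw [word_apply, wbit]
            simp only [twoMask]
            split_ifs <;> rfl
          rw [Nat.and_one_is_mod, hy, one_mul, wbit_add (mem_leechLattice.mp hbL) (mem_leechLattice.mp hzL),
            if_neg (fun h => by omega), add_zero, hwb, hzw]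
  have heven : ∀ x ∈ leechLattice, x none % 2 = 0 → x ∈ M := by
    intro x hxL hx0
    obtain ⟨y, -, hy⟩ := exists_enc (mem_leechLattice.mp hxL).2.2
    obtain ⟨z, hz, hzL, hz0, hzw⟩ := hcode basisRows (fun b hb => ⟨htwo b hb, twoMask_mem hb⟩) y
    obtain ⟨d1, d2, -⟩ := mem_leechLattice.mp (sub_mem hxL hzL)
    have hd : x - z ∈ M := by
      refine h4 _ (fun i => ?_) ?_
      · have hw : wbit x i = wbit z i := by rw [hzw]; exact (congrFun hy i).symm
        have e := (ZMod.intCast_eq_intCast_iff' _ _ _).mp hw
        have := (mem_leechLattice.mp hxL).1 i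
        have := (mem_leechLattice.mp hzL).1 i
        simp only [Pi.sub_apply]
        push_cast at e
        omega
      · simp only [Pi.sub_apply] at d2 ⊢
        omega
    have := add_mem hd hz
    rwa [sub_add_cancel] at this
  intro x hxL
  by_cases hx0 : x none % 2 = 0
  · exact heven x hxL hx0
  · have h1 : oddVec none = -3 := rfl
    have := heven (x - oddVec) (sub_mem hxL oddVec_mem) (by simp only [Pi.sub_apply, h1]; omega)
    have := add_mem this hodd
    rwa [sub_add_cancel] at this

/-- The lattice is generated by its minimal vectors. -/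
theorem closure_minimal :
    AddSubgroup.closure {x : GolayPt → ℤ | x ∈ leechLattice ∧ sqNorm x = 32} = leechLattice := by
  refine le_antisymm ((AddSubgroup.closure_le _).mpr fun x hx => hx.1) ?_
  set M := AddSubgroup.closure {x : GolayPt → ℤ | x ∈ leechLattice ∧ sqNorm x = 32}
  have hodd : oddVec ∈ M := AddSubgroup.subset_closure ⟨oddVec_mem, by decide +kernel⟩
  have htwo : ∀ b ∈ basisRows, twoMask b ∈ M := fun b hb => by
    refine AddSubgroup.subset_closure ⟨twoMask_mem hb, ?_⟩
    have : basisRows.all (fun b => sqNorm (twoMask b) == 32) = true := by decide +kernel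
    exact beq_iff_eq.1 (List.all_eq_true.1 this b hb)
  have hfour : ∀ i, fourDiff i ∈ M := fun i => by
    by_cases hi : i = none
    · have : fourDiff i = 0 := by funext p; simp [fourDiff, hi]
      rw [this]; exact zero_mem _
    · refine AddSubgroup.subset_closure ⟨fourDiff_mem i, ?_⟩
      revert hi; revert i; decide +kernel
  refine leechLattice_le M hodd htwo hfour ?_
  let s : GolayPt → ℤ := fun p => if p = none ∨ p = some 0 then 4 else 0
  have hs : s ∈ leechLattice := isL_iff.mp (by decide +kernel)
  have hs' : s ∈ M := AddSubgroup.subset_closure ⟨hs, by decide +kernel⟩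
  have : unitVec 8 none = s - fourDiff (some 0) := by funext p; revert p; decide +kernel
  rw [this]
  exact sub_mem hs' (hfour _)

/-- The tetrad of a point in a fixed sextet. -/
def tet (p : GolayPt) : ℕ :=
  [0, 0, 0, 0, 4, 2, 5, 4, 3, 5, 4, 5, 4, 1, 2, 3, 3, 2, 1, 3, 1, 1, 5, 2].getD (idx p) 0

/-- Coordinate sum over the tetrad of a point. -/
def tetSum (t : ℕ) (x : GolayPt → ℤ) : ℤ := ∑ q ∈ Finset.univ.filter (fun q => tet q = t), x q

/-- The non-monomial map: minus half the tetrad sum, with a sign change on one tetrad. -/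
def xiFun (x : GolayPt → ℤ) : GolayPt → ℤ := fun p =>
  (if tet p = 0 then -1 else 1) * (x p - tetSum (tet p) x / 2)

theorem card_tetrad (p : GolayPt) : (Finset.univ.filter fun q => tet q = tet p).card = 4 := by
  revert p; decide +kernel

theorem even_tetSum {x : GolayPt → ℤ} (hx : x ∈ leechLattice) (p : GolayPt) : tetSum (tet p) x % 2 = 0 := by
  have h : ∀ q ∈ Finset.univ.filter (fun q => tet q = tet p), x q ≡ x none [ZMOD 2] := fun q _ => by
    have := (mem_leechLattice.mp hx).1 q; unfold Int.ModEq; omega
  have := Int.ModEq.sum h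
  rw [Finset.sum_const, card_tetrad] at this
  unfold Int.ModEq at this
  simp only [tetSum]
  rw [this, nsmul_eq_mul]
  push_cast
  omega

theorem xiFun_add {x y : GolayPt → ℤ} (hx : x ∈ leechLattice) (hy : y ∈ leechLattice) :
    xiFun (x + y) = xiFun x + xiFun y := by
  funext p
  have h1 := even_tetSum hx p
  have h2 := even_tetSum hy p
  have h3 : tetSum (tet p) (x + y) = tetSum (tet p) x + tetSum (tet p) y := Finset.sum_add_distrib
  simp only [xiFun, Pi.add_apply, h3]
  rw [Int.add_ediv_of_dvd_left (Int.dvd_of_emod_eq_zero h1)]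
  ring

/-- `xiFun` as an additive map on the lattice. -/
def xiHom : leechLattice →+ (GolayPt → ℤ) :=
  AddMonoidHom.mk' (fun v => xiFun v) fun v w => xiFun_add v.2 w.2

theorem xiFun_mem {x : GolayPt → ℤ} (hx : x ∈ leechLattice) : xiFun x ∈ leechLattice := by
  let M : AddSubgroup (GolayPt → ℤ) := (leechLattice.comap xiHom).map leechLattice.subtype
  have hM : ∀ {y : GolayPt → ℤ}, y ∈ leechLattice → isL (xiFun y) = true → y ∈ M := fun {y} h1 h2 =>
    ⟨⟨y, h1⟩, isL_iff.mp h2, rfl⟩
  obtain ⟨v, hv, rfl⟩ := leechLattice_le M (hM oddVec_mem (by decide +kernel))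
    (fun b hb => hM (twoMask_mem hb) (by
      have : basisRows.all (fun b => isL (xiFun (twoMask b))) = true := by decide +kernel
      exact List.all_eq_true.1 this b hb))
    (fun i => hM (fourDiff_mem i) (by revert i; decide +kernel))
    (hM (mem_leechLattice.mpr (isLeech_unitVec_eight none)) (by decide +kernel)) hx
  exact hv

theorem tetSum_xiFun {x : GolayPt → ℤ} (hx : x ∈ leechLattice) (p : GolayPt) :
    tetSum (tet p) (xiFun x) = -((if tet p = 0 then -1 else 1) * tetSum (tet p) x) := by
  have hc : ∀ q ∈ Finset.univ.filter (fun q => tet q = tet p),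
      xiFun x q = (if tet p = 0 then -1 else 1) * (x q - tetSum (tet p) x / 2) := fun q hq => by
    rw [xiFun, (Finset.mem_filter.mp hq).2]
  rw [tetSum, Finset.sum_congr rfl hc, ← Finset.mul_sum, Finset.sum_sub_distrib, Finset.sum_const,
    card_tetrad]
  have h1 := even_tetSum hx p
  simp only [tetSum] at h1 ⊢
  rw [nsmul_eq_mul]
  push_cast
  split_ifs <;> omega

theorem xiFun_xiFun {x : GolayPt → ℤ} (hx : x ∈ leechLattice) : xiFun (xiFun x) = x := by
  funext p
  have h1 := even_tetSum hx p
  rw [xiFun, tetSum_xiFun hx p]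
  simp only [xiFun]
  split_ifs <;> omega

/-- `tet` with values in `Fin 6`. -/
def tet' (p : GolayPt) : Fin 6 := ⟨tet p, by revert p; decide +kernel⟩

theorem sqNorm_xiFun {x : GolayPt → ℤ} (hx : x ∈ leechLattice) : sqNorm (xiFun x) = sqNorm x := by
  rw [sqNorm, sqNorm, ← Finset.sum_fiberwise Finset.univ tet' (fun p => xiFun x p ^ 2),
    ← Finset.sum_fiberwise Finset.univ tet' (fun p => x p ^ 2)]
  refine Finset.sum_congr rfl fun t _ => ?_
  rcases (Finset.univ.filter fun q => tet' q = t).eq_empty_or_nonempty with h | ⟨p, hp⟩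
  · rw [h]; simp
  have hp' : tet' p = t := (Finset.mem_filter.mp hp).2
  have hset : (Finset.univ.filter fun q => tet' q = t) = Finset.univ.filter fun q => tet q = tet p := by
    ext q; simp only [Finset.mem_filter, Finset.mem_univ, true_and, ← hp', tet', Fin.ext_iff]
  rw [hset]
  obtain ⟨h, hh⟩ : ∃ h, tetSum (tet p) x = 2 * h := ⟨tetSum (tet p) x / 2, by have := even_tetSum hx p; omega⟩
  have hc : ∀ q ∈ Finset.univ.filter (fun q => tet q = tet p),
      xiFun x q ^ 2 = x q ^ 2 - 2 * h * x q + h ^ 2 := fun q hq => by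
    rw [xiFun, (Finset.mem_filter.mp hq).2, hh, Int.mul_ediv_cancel_left _ (by norm_num)]
    split_ifs <;> ring
  rw [Finset.sum_congr rfl hc, Finset.sum_add_distrib, Finset.sum_sub_distrib, ← Finset.mul_sum,
    Finset.sum_const, card_tetrad]
  simp only [tetSum] at hh
  rw [hh, nsmul_eq_mul]
  push_cast
  ring

/-- The non-monomial automorphism. -/
def xi : Co0 where
  val :=
    { toFun := fun v => ⟨xiFun v, xiFun_mem v.2⟩
      invFun := fun v => ⟨xiFun v, xiFun_mem v.2⟩
      left_inv := fun v => Subtype.ext (xiFun_xiFun v.2)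
      right_inv := fun v => Subtype.ext (xiFun_xiFun v.2) }
  property := ⟨fun v w => Subtype.ext (xiFun_add v.2 w.2), fun v => sqNorm_xiFun v.2⟩

theorem coe_xi_smul (v : leechLattice) :
    ((xi • v : leechLattice) : GolayPt → ℤ) = xiFun v := rfl

end Cfsg.Agent.LeechXi
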