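import Cfsg.Agent.Lib.DecompMaxBlock

/-!
Two blocks of size two: an overgroup of the block stabiliser moving the blocks contains an elementary transvection
between them (variant of DecompMaxBlock.exists_el for two blocks, at least four scalars).
-/

set_option autoImplicit false
set_option linter.unusedSectionVars false

namespace Cfsg.Agent.LinFourDecompBlock38

open Cfsg.Agent.TransvectionMax Cfsg.Agent.DecompMaxBasic Cfsg.Agent.DecompMaxBlock
open scoped MatrixGroups Matrix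

variable {F : Type*} [Field F] [Fintype F]
variable {M : Subgroup (GL (I 2 2) F)} (hM : Over M)
include hM

/-- From a centre meeting several blocks to an elementary transvection. -/
theorem el_of_multi (hq : 4 ≤ Fintype.card F) {a α : I 2 2 → F}
    (hαa : α ⬝ᵥ a = 0) (hα : α ≠ 0) {p p₂ : I 2 2} (hap : a p ≠ 0) (hap₂ : a p₂ ≠ 0) (hpp : p.1 ≠ p₂.1)
    (hT : tv a α ∈ M) : ∃ x y : I 2 2, x.1 ≠ y.1 ∧ ∃ c : F, c ≠ 0 ∧ el x y c ∈ M := by
  classical
  haveI : Nontrivial (Fin 2) := Fin.nontrivial_iff_two_le.2 le_rfl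
  obtain ⟨l0, hl0⟩ : ∃ l, α l ≠ 0 := Function.ne_iff.1 hα
  -- arrange that α is non-zero outside the block of p
  wlog hl : l0.1 ≠ p.1 generalizing p p₂
  · rw [not_not] at hl
    exact this (p := p₂) (p₂ := p) hap₂ hap (Ne.symm hpp) (hl ▸ hpp)
  set j := p.1 with hj
  -- a vector killed by α in the block, independent of the component of a
  have fromW : ∀ w ψ : I 2 2 → F, Sup w j → Sup ψ j → ψ ⬝ᵥ w = 0 → ψ ⬝ᵥ a = 1 → α ⬝ᵥ w = 0 → w ≠ 0 →
      ∃ x y : I 2 2, x.1 ≠ y.1 ∧ ∃ c : F, c ≠ 0 ∧ el x y c ∈ M := by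
    intro w ψ hw hψ hψw hψa hαw hw0
    have h1 := tv_comm (v := w) (φ := ψ) (w := a) (ψ := α) hψw hαa hαw
    rw [hψa, one_smul] at h1
    have hu := tv_block_mem hM hw hψ
    refine el_of_centre hM le_rfl hw hw0 hαw hl hl0 ?_
    rw [← h1]
    exact M.mul_mem (M.mul_mem (M.mul_mem hu hT) (M.inv_mem hu)) (M.inv_mem hT)
  set ψ0 : I 2 2 → F := Pi.single p (a p)⁻¹ with hψ0def
  have hψ0 : Sup ψ0 j := sup_single _ _
  have hψ0a : ψ0 ⬝ᵥ a = 1 := by simp [hψ0def, hap]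
  have dotψ0 : ∀ w : I 2 2 → F, w p = 0 → ψ0 ⬝ᵥ w = 0 := fun w h => by simp [hψ0def, h]
  obtain ⟨q', hq'⟩ := exists_ne p.2
  let q : I 2 2 := (p.1, q')
  have hqp : q ≠ p := fun h => hq' (congrArg Prod.snd h)
  by_cases hαq : α q = 0
  · exact fromW (Pi.single q 1) ψ0 (sup_single' (p := q) rfl _) hψ0 (dotψ0 _ (Pi.single_eq_of_ne (Ne.symm hqp) _))
      hψ0a (by rw [dotProduct_single, hαq, zero_mul]) (fun h => by simpa using congrFun h q)
  have hblock : ∀ x : I 2 2, x.1 = j → x = p ∨ x = q := fun x hx => by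
    rcases (by omega : x.2 = p.2 ∨ x.2 = q') with h | h
    · exact Or.inl (Prod.ext hx h)
    · exact Or.inr (Prod.ext hx h)
  by_cases hc : α p * a p + α q * a q = 0
  swap
  · set c := α p * a p + α q * a q
    refine fromW (α q • Pi.single p (1 : F) + (-(α p)) • Pi.single q (1 : F))
      (c⁻¹ • (α p • Pi.single p (1 : F) + α q • Pi.single q (1 : F)))
      (sup_add (sup_smul (sup_single p _) _) (sup_smul (sup_single' (p := q) rfl _) _))
      (sup_smul (sup_add (sup_smul (sup_single p _) _) (sup_smul (sup_single' (p := q) rfl _) _)) _) ?_ ?_ ?_ ?_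
    · simp only [smul_dotProduct, add_dotProduct, dotProduct_add, dotProduct_smul, single_dotProduct,
        Pi.single_eq_same, Pi.single_eq_of_ne hqp, Pi.single_eq_of_ne (Ne.symm hqp), smul_eq_mul]
      ring
    · simp only [smul_dotProduct, add_dotProduct, single_dotProduct, smul_eq_mul, one_mul]
      exact inv_mul_cancel₀ hc
    · simp only [dotProduct_add, dotProduct_smul, dotProduct_single, smul_eq_mul]; ring
    · exact fun h => hαq (by simpa [hqp, Ne.symm hqp] using congrFun h p)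
  -- the nilpotent exception
  obtain ⟨δ, hδ, hδ2⟩ : ∃ δ : Fˣ, (δ : F) ≠ 1 ∧ (δ : F) ≠ -1 := by
    obtain ⟨x, -, hx⟩ : ∃ x ∈ (Finset.univ : Finset F), x ∉ ({0, 1, -1} : Finset F) :=
      Finset.exists_mem_notMem_of_card_lt_card (by
        rw [Finset.card_univ]; exact lt_of_le_of_lt Finset.card_le_three hq)
    simp only [Finset.mem_insert, Finset.mem_singleton, not_or] at hx
    exact ⟨Units.mk0 x hx.1, hx.2.1, hx.2.2⟩
  set k := l0.1 with hk
  set f : I 2 2 → F := Pi.single q (α q)⁻¹ with hf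
  have hfj : Sup f j := sup_single' (p := q) rfl _
  have hαf : α ⬝ᵥ f = 1 := by simp [hf, hαq]
  have hψ0f : ψ0 ⬝ᵥ f = 0 := dotψ0 _ (Pi.single_eq_of_ne (Ne.symm hqp) _)
  have hu := tv_block_mem hM (sup_smul hfj (-1)) hψ0
  set u := tv ((-1 : F) • f) ψ0
  have hux : ∀ x, (u : Matrix (I 2 2) (I 2 2) F) *ᵥ x = x + (ψ0 ⬝ᵥ x) • ((-1 : F) • f) :=
    tv_act (by rw [dotProduct_smul, hψ0f, smul_zero])
  set aj : I 2 2 → F := a p • Pi.single p (1 : F) + a q • Pi.single q (1 : F)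
  set ρ : I 2 2 → F := ((1 + α p * a p) / a p) • Pi.single p (1 : F) + α q • Pi.single q (1 : F) with hρdef
  have hρ : Sup ρ j := sup_add (sup_smul (sup_single p _) _) (sup_smul (sup_single' (p := q) rfl _) _)
  have hρx : ∀ x, ρ ⬝ᵥ x = (1 + α p * a p) / a p * x p + α q * x q := fun x => by
    simp [hρdef, add_dotProduct, smul_dotProduct]
  have haj : Sup aj j := sup_add (sup_smul (sup_single p _) _) (sup_smul (sup_single' (p := q) rfl _) _)
  have hρaj : ρ ⬝ᵥ aj = 1 := by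
    rw [hρx]
    simp [aj, hqp, Ne.symm hqp]
    field_simp
    linear_combination hc
  obtain ⟨e, he1, he2, hex⟩ := exists_pr hM haj hρ hρaj δ
  obtain ⟨q2', hq2'⟩ := exists_ne l0.2
  let l1 : I 2 2 := (k, q2')
  have hl1 : l1 ≠ l0 := fun h => hq2' (congrArg Prod.snd h)
  have hj2 : ∀ x : Fin 2, x = j ∨ x = k := fun x => by omega
  have huniv : ∀ x : I 2 2, x = p ∨ x = q ∨ x = l0 ∨ x = l1 := fun x => by
    rcases hj2 x.1 with h | h
    · rcases hblock x h with h' | h'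
      exacts [Or.inl h', Or.inr (Or.inl h')]
    · rcases (by omega : x.2 = l0.2 ∨ x.2 = q2') with h' | h'
      exacts [Or.inr (Or.inr (Or.inl (Prod.ext h h'))), Or.inr (Or.inr (Or.inr (Prod.ext h h')))]
  set z : I 2 2 → F := Pi.single l0 (α l0)⁻¹ with hzdef
  set ρ' : I 2 2 → F := α l0 • Pi.single l0 (1 : F) + α l1 • Pi.single l1 (1 : F) with hρ'def
  have hz : Sup z k := sup_single _ _
  have hρ' : Sup ρ' k := sup_add (sup_smul (sup_single l0 _) _) (sup_smul (sup_single' (p := l1) rfl _) _)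
  have hρz : ρ' ⬝ᵥ z = 1 := by
    simp [hρ'def, hzdef, add_dotProduct, smul_dotProduct, hl1, Ne.symm hl1, hl0]
  have hpl0 : p ≠ l0 := fun h => hl (by rw [hj, h])
  have hpl1 : p ≠ l1 := fun h => hl (congrArg Prod.fst h).symm
  have hql0 : q ≠ l0 := fun h => hl (congrArg Prod.fst h).symm
  have hql1 : q ≠ l1 := fun h => hl (congrArg Prod.fst h).symm
  have hρa : ρ' ⬝ᵥ a = 0 := by
    have hsum : α ⬝ᵥ a = α p * a p + (α q * a q + (α l0 * a l0 + α l1 * a l1)) := by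
      have hset : (Finset.univ : Finset (I 2 2)) = {p, q, l0, l1} := by
        ext x
        simpa using huniv x
      rw [dotProduct, hset, Finset.sum_insert (by simp [Ne.symm hqp, hpl0, hpl1]),
        Finset.sum_insert (by simp [hql0, hql1]), Finset.sum_pair (Ne.symm hl1)]
    rw [hαa] at hsum
    simp only [hρ'def, add_dotProduct, smul_dotProduct, single_dotProduct, smul_eq_mul, one_mul]
    linear_combination -hsum - hc
  obtain ⟨e', he'1, he'2, he'x⟩ := exists_pr hM hz hρ' hρz δ⁻¹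
  have hee : e * e' ∈ M := by
    refine hM.diag _ ?_ fun x y hne => ?_
    · rw [Units.val_mul, Matrix.det_mul, he1, he'1]; simp
    · rw [Units.val_mul, Matrix.mul_apply] at hne
      obtain ⟨w, -, hw⟩ := Finset.exists_ne_zero_of_sum_ne_zero hne
      exact (he2 x w (left_ne_zero_of_mul hw)).trans (he'2 w y (right_ne_zero_of_mul hw))
  set h := e * e' * u
  have hhM : h ∈ M := M.mul_mem hee hu
  have hρ'f : ρ' ⬝ᵥ f = 0 := dot_of_sup hρ' fun x hx => hfj x (fun e => hl (hx.symm.trans e))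
  have hρf : ρ ⬝ᵥ f = 1 := by
    rw [hρx, hf, Pi.single_eq_same, Pi.single_eq_of_ne (Ne.symm hqp), mul_zero, zero_add, mul_inv_cancel₀ hαq]
  have hρa1 : ρ ⬝ᵥ a = 1 := by
    rw [hρx]; field_simp; linear_combination hc
  set a' := (h : Matrix (I 2 2) (I 2 2) F) *ᵥ a with ha'def
  have ha' : a' = a - f := by
    rw [ha'def, mul_act, mul_act, hux, hψ0a, he'x, dotProduct_add, dotProduct_smul, dotProduct_smul, hρa, hρ'f,
      hex]
    simp only [dotProduct_add, dotProduct_smul, hρa1, hρf, smul_zero, add_zero, mul_zero, zero_smul]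
    match_scalars <;> simp <;> ring
  set α' : I 2 2 → F := Matrix.vecMul α ((h⁻¹ : GL (I 2 2) F) : Matrix (I 2 2) (I 2 2) F) with hα'
  have hα'x : ∀ x, α' ⬝ᵥ x = α ⬝ᵥ (((h⁻¹ : GL (I 2 2) F) : Matrix (I 2 2) (I 2 2) F) *ᵥ x) := fun x =>
    (Matrix.dotProduct_mulVec _ _ _).symm
  have hconj : h * tv a α * h⁻¹ = tv a' α' := tv_conj hαa h hα'x
  have hT' : tv a' α' ∈ M := hconj ▸ M.mul_mem (M.mul_mem hhM hT) (M.inv_mem hhM)
  have hαa' : α ⬝ᵥ a' = -1 := by rw [ha', dotProduct_sub, hαa, hαf, zero_sub]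
  -- α' on a: compute h⁻¹ a
  set x0 : I 2 2 → F := a + ((δ⁻¹ : Fˣ) - 1 : F) • aj + ((δ⁻¹ : Fˣ) : F) • f with hx0
  have hρf' : ρ' ⬝ᵥ aj = 0 := dot_of_sup hρ' fun x hx => haj x (fun e => hl (hx.symm.trans e))
  have hψ0aj : ψ0 ⬝ᵥ aj = 1 := by simp [hψ0def, aj, hqp, Ne.symm hqp, hap]
  have hx0h : (h : Matrix (I 2 2) (I 2 2) F) *ᵥ x0 = a := by
    rw [mul_act, mul_act, hux, he'x, hex, hx0]
    simp only [dotProduct_add, dotProduct_smul, hρa, hρf', hρ'f, hρa1, hρaj, hρf, hψ0a, hψ0aj, hψ0f, smul_eq_mul]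
    have hnn : (δ : F) * ((δ⁻¹ : Fˣ) : F) = 1 := by simp
    simp only [Units.val_inv_eq_inv_val] at hnn ⊢
    match_scalars <;> first | ring1 | linear_combination hnn | linear_combination -hnn | linear_combination a p * hnn | linear_combination a q * hnn
  have hd : α' ⬝ᵥ a = ((δ⁻¹ : Fˣ) : F) := by
    rw [hα'x]
    conv_lhs => rw [← hx0h, inv_act_act, hx0]
    have hαaj : α ⬝ᵥ aj = 0 := by
      simp only [aj, dotProduct_add, dotProduct_smul, dotProduct_single, smul_eq_mul, mul_one]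
      linear_combination hc
    simp only [dotProduct_add, dotProduct_smul, hαa, hαaj, hαf, smul_eq_mul]
    ring
  set β : I 2 2 → F := α' - ((δ⁻¹ : Fˣ) : F) • α with hβ
  have hβT : tv (-f) β ∈ M := by
    have hα'a' : α' ⬝ᵥ a' = 0 := by rw [hα'x, ha'def, inv_act_act, hαa]
    have h1 : tv a α * tv a' α' * (tv a α)⁻¹ = tv ((tv a α : Matrix (I 2 2) (I 2 2) F) *ᵥ a') β :=
      tv_conj hα'a' _ fun x => by
        rw [tv_inv hαa, tv_act (by rw [neg_dotProduct, hαa, neg_zero]), dotProduct_add, dotProduct_smul, hd, hβ,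
          sub_dotProduct, smul_dotProduct, neg_dotProduct, smul_eq_mul, smul_eq_mul]
        ring
    rw [tv_act hαa, hαa', ha'] at h1
    rw [show -f = a - f + (-1 : F) • a by module, ← h1]
    exact M.mul_mem (M.mul_mem hT (ha' ▸ hT')) (M.inv_mem hT)
  obtain ⟨l, hlk, hβl⟩ : ∃ l : I 2 2, l.1 = k ∧ β l ≠ 0 := by
    by_contra! hall
    have h0 : β ⬝ᵥ z = 0 := dotProduct_comm β z ▸ dot_of_sup hz hall
    have hhz : (h : Matrix (I 2 2) (I 2 2) F) *ᵥ z = ((δ⁻¹ : Fˣ) : F) • z := by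
      rw [mul_act, mul_act, hux, dot_of_sup hψ0 (fun x hx => hz x (fun e => hl (e.symm.trans hx))), zero_smul,
        add_zero, he'x, hρz, hex, dotProduct_add, dotProduct_smul,
        dot_of_sup hρ (fun x hx => hz x (fun e => hl (e.symm.trans hx)))]
      simp only [smul_zero, add_zero, mul_zero, zero_smul, mul_one]
      module
    have hαz : α ⬝ᵥ z = 1 := by simp [hzdef, hl0]
    have hnn : (δ : F) * ((δ⁻¹ : Fˣ) : F) = 1 := by simp
    have h1 : α' ⬝ᵥ z * ((δ⁻¹ : Fˣ) : F) = 1 := by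
      have h2 := hα'x ((h : Matrix (I 2 2) (I 2 2) F) *ᵥ z)
      rw [inv_act_act, hhz, dotProduct_smul, hαz, smul_eq_mul] at h2
      linear_combination h2
    rw [hβ, sub_dotProduct, smul_dotProduct, hαz, smul_eq_mul, mul_one, sub_eq_zero] at h0
    rw [h0] at h1
    have h3 : ((δ : F) - 1) * ((δ : F) + 1) = 0 := by
      linear_combination -((δ : F) ^ 2) * h1 + ((δ : F) * ((δ⁻¹ : Fˣ) : F) + 1) * hnn
    rcases mul_eq_zero.1 h3 with h3 | h3
    · exact hδ (sub_eq_zero.1 h3)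
    · exact hδ2 (eq_neg_of_add_eq_zero_left h3)
  have hβf : β ⬝ᵥ (-f) = 0 := by
    have e1 : α' ⬝ᵥ a' = 0 := by rw [hα'x, ha'def, inv_act_act, hαa]
    rw [ha', dotProduct_sub, hd] at e1
    rw [hβ, sub_dotProduct, smul_dotProduct, dotProduct_neg, dotProduct_neg, hαf, smul_eq_mul]
    linear_combination e1
  refine el_of_centre hM le_rfl (fun x hx => by simp [hfj x hx]) (fun e => ?_) hβf (hlk ▸ hl) hβl hβT
  have := congrFun e q
  simp [hf, hαq] at this

/-- An element not permuting the blocks gives an elementary transvection between two blocks. -/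
theorem exists_el (hq : 4 ≤ Fintype.card F)
    {g : GL (I 2 2) F} (hg : g ∈ M)
    (hgB : ¬ ∃ σ : Equiv.Perm (Fin 2), ∀ p q, (g : Matrix (I 2 2) (I 2 2) F) p q ≠ 0 → p.1 = σ q.1) :
    ∃ x y : I 2 2, x.1 ≠ y.1 ∧ ∃ c : F, c ≠ 0 ∧ el x y c ∈ M := by
  classical
  haveI : Nontrivial (Fin 2) := Fin.nontrivial_iff_two_le.2 le_rfl
  have hne0 : ∀ p : I 2 2, (Pi.single p (1 : F) : I 2 2 → F) ≠ 0 := fun p h => by simpa using congrFun h p
  have finish : ∀ (v φ : I 2 2 → F) (i : Fin 2), Sup v i → Sup φ i → φ ⬝ᵥ v = 0 → φ ≠ 0 →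
      (∃ p p₂ : I 2 2, p.1 ≠ p₂.1 ∧ ((g : Matrix (I 2 2) (I 2 2) F) *ᵥ v) p ≠ 0 ∧
        ((g : Matrix (I 2 2) (I 2 2) F) *ᵥ v) p₂ ≠ 0) →
      ∃ x y : I 2 2, x.1 ≠ y.1 ∧ ∃ c : F, c ≠ 0 ∧ el x y c ∈ M := by
    intro v φ i hv hφ hφv hφ0 hex
    obtain ⟨p, p₂, hpp, hp, hp₂⟩ := hex
    set β := Matrix.vecMul φ ((g⁻¹ : GL (I 2 2) F) : Matrix (I 2 2) (I 2 2) F)
    have hβx : ∀ x, β ⬝ᵥ x = φ ⬝ᵥ (((g⁻¹ : GL (I 2 2) F) : Matrix (I 2 2) (I 2 2) F) *ᵥ x) := fun x =>
      (Matrix.dotProduct_mulVec _ _ _).symm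
    have hT : tv ((g : Matrix (I 2 2) (I 2 2) F) *ᵥ v) β ∈ M := tv_conj hφv g hβx ▸
      M.mul_mem (M.mul_mem hg (tv_block_mem hM hv hφ)) (M.inv_mem hg)
    refine el_of_multi hM hq (by rw [hβx, inv_act_act, hφv]) (fun e => hφ0 ?_) hp hp₂ hpp hT
    funext x
    have := hβx ((g : Matrix (I 2 2) (I 2 2) F) *ᵥ Pi.single x 1)
    rw [inv_act_act, e, zero_dotProduct, dotProduct_single, mul_one] at this
    rw [Pi.zero_apply, ← this]
  by_contra hno
  have hsingle : ∀ (v φ : I 2 2 → F) (i : Fin 2), Sup v i → Sup φ i → φ ⬝ᵥ v = 0 → φ ≠ 0 →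
      ∀ p p₂ : I 2 2, ((g : Matrix (I 2 2) (I 2 2) F) *ᵥ v) p ≠ 0 →
        ((g : Matrix (I 2 2) (I 2 2) F) *ᵥ v) p₂ ≠ 0 → p.1 = p₂.1 := fun v φ i h1 h2 h4 h5 p p₂ hp hp₂ =>
    by_contra fun hpp => hno (finish v φ i h1 h2 h4 h5 ⟨p, p₂, hpp, hp, hp₂⟩)
  have hcol : ∀ (x : I 2 2) p p₂, (g : Matrix (I 2 2) (I 2 2) F) p x ≠ 0 →
      (g : Matrix (I 2 2) (I 2 2) F) p₂ x ≠ 0 → p.1 = p₂.1 := by
    intro x p p₂ hp hp₂
    obtain ⟨y', hy'⟩ := exists_ne x.2
    let y : I 2 2 := (x.1, y')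
    refine hsingle (Pi.single x 1) (Pi.single y 1) x.1 (sup_single x 1) (sup_single' (p := y) rfl 1) ?_ (hne0 y)
      p p₂ (by rwa [mulVec_single]) (by rwa [mulVec_single])
    simp [y, show ((x.1, y') : I 2 2) ≠ x from fun h => hy' (congrArg Prod.snd h)]
  have hpair : ∀ (x y : I 2 2), x.1 = y.1 → ∀ p p₂, (g : Matrix (I 2 2) (I 2 2) F) p x ≠ 0 →
      (g : Matrix (I 2 2) (I 2 2) F) p₂ y ≠ 0 → p.1 = p₂.1 := by
    intro x y hxy p p₂ hp hp₂
    rcases eq_or_ne x y with rfl | hne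
    · exact hcol x p p₂ hp hp₂
    by_contra hpp
    have hp0 : (g : Matrix (I 2 2) (I 2 2) F) p y = 0 := by_contra fun h => hpp (hcol y p p₂ h hp₂)
    have hp₂0 : (g : Matrix (I 2 2) (I 2 2) F) p₂ x = 0 := by_contra fun h => hpp (hcol x p p₂ hp h)
    refine hpp (hsingle (Pi.single x 1 + Pi.single y 1) (Pi.single x 1 + (-1 : F) • Pi.single y 1) x.1
      (sup_add (sup_single x 1) (sup_single' hxy.symm 1))
      (sup_add (sup_single x 1) (sup_smul (sup_single' hxy.symm 1) _)) ?_ (fun h => ?_) p p₂ ?_ ?_)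
    · simp [add_dotProduct, hne, Ne.symm hne]
    · have := congrFun h x
      simp [hne] at this
    · simpa [Matrix.mulVec_add, mulVec_single, hp0] using hp
    · simpa [Matrix.mulVec_add, mulVec_single, hp₂0] using hp₂
  have hex : ∀ x : I 2 2, ∃ p, (g : Matrix (I 2 2) (I 2 2) F) p x ≠ 0 := fun x => by
    by_contra! h
    exact act_ne_zero g (hne0 x) (by rw [mulVec_single]; exact funext h)
  choose r hr using hex
  haveI : Nonempty (Fin 2) := ⟨⟨0, by omega⟩⟩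
  let i0 : Fin 2 := ⟨0, by omega⟩
  let s : Fin 2 → Fin 2 := fun i => (r (i, i0)).1
  have hs : ∀ p x : I 2 2, (g : Matrix (I 2 2) (I 2 2) F) p x ≠ 0 → p.1 = s x.1 := fun p x h =>
    hpair x (x.1, i0) rfl p _ h (hr _)
  have hsurj : Function.Surjective s := fun k => by
    by_contra! hk
    have h1 := congrFun (act_inv_act g (Pi.single ((k, i0) : I 2 2) (1 : F))) (k, i0)
    rw [Pi.single_eq_same] at h1
    refine one_ne_zero (h1.symm.trans ?_)
    show ∑ x, (g : Matrix (I 2 2) (I 2 2) F) (k, i0) x *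
      (((g⁻¹ : GL (I 2 2) F) : Matrix (I 2 2) (I 2 2) F) *ᵥ Pi.single ((k, i0) : I 2 2) (1 : F)) x = 0
    exact Finset.sum_eq_zero fun x _ => by
      by_cases h : (g : Matrix (I 2 2) (I 2 2) F) (k, i0) x = 0
      · show (g : Matrix (I 2 2) (I 2 2) F) (k, i0) x * _ = 0
        rw [h, zero_mul]
      · exact absurd (hs _ _ h).symm (hk x.1)
  exact hgB ⟨Equiv.ofBijective s ⟨Finite.injective_iff_surjective.2 hsurj, hsurj⟩, hs⟩

end Cfsg.Agent.LinFourDecompBlock38
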