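import Cfsg.Agent.Lib.DecompMaxMonomial

/-!
In dimension four over at least seven scalars, a non-monomial overgroup of the monomial matrices of determinant one
contains an elementary transvection.
-/

set_option autoImplicit false
set_option linter.unusedSectionVars false

namespace Cfsg.Agent.LinFourDecompMono38

open Cfsg.Agent.TransvectionMax Cfsg.Agent.DecompMaxBasic Cfsg.Agent.DecompMaxLift Cfsg.Agent.DecompMaxMonomial
open scoped MatrixGroups Matrix

variable {ι : Type} [Fintype ι] [DecidableEq ι] {F : Type*} [Field F] [Fintype F]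

/-- A monomial element killed by a cubic with reciprocal roots is diagonal. -/
theorem perm_eq_one_of_cubic (σ : Equiv.Perm ι) (d : ι → Fˣ) {s : F} (hs0 : s ≠ 0) (hs2 : s ^ 2 ≠ 1)
    (h : ∀ x : ι → F, (mn σ d : Matrix ι ι F) *ᵥ ((mn σ d : Matrix ι ι F) *ᵥ ((mn σ d : Matrix ι ι F) *ᵥ x)) -
      s • ((mn σ d : Matrix ι ι F) *ᵥ ((mn σ d : Matrix ι ι F) *ᵥ x)) + s • ((mn σ d : Matrix ι ι F) *ᵥ x) - x = 0) :
    σ = 1 := by
  refine Equiv.ext fun j => ?_
  by_contra hj
  have hj : σ j ≠ j := hj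
  have hij : σ (σ j) ≠ σ j := fun e => hj (σ.injective e)
  have e := h (Pi.single j 1)
  simp only [mn_single, Matrix.mulVec_smul, smul_smul] at e
  by_cases hm : σ (σ j) = j
  · rw [hm] at e
    have e1 := congrFun e (σ j)
    have e2 := congrFun e j
    simp [hj, Ne.symm hj] at e1 e2
    have h1 : (d j : F) * d (σ j) = -s := by
      refine mul_right_cancel₀ (d j).ne_zero ?_
      linear_combination e1
    apply hs2
    linear_combination e2 + s * h1
  · by_cases hn : σ (σ (σ j)) = j
    · rw [hn] at e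
      have e1 := congrFun e (σ (σ j))
      simp [hm, Ne.symm hm, hij, Ne.symm hij] at e1
      exact hs0 e1
    · have e1 := congrFun e j
      simp [Ne.symm hn, Ne.symm hm, Ne.symm hj] at e1

/-- A monomial element killed by a quadratic with non-zero middle coefficient is diagonal. -/
theorem perm_eq_one_of_quad (σ : Equiv.Perm ι) (d : ι → Fˣ) {s c : F} (hs : s ≠ 0)
    (h : ∀ x : ι → F, (mn σ d : Matrix ι ι F) *ᵥ ((mn σ d : Matrix ι ι F) *ᵥ x) -
      s • ((mn σ d : Matrix ι ι F) *ᵥ x) + c • x = 0) : σ = 1 := by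
  refine Equiv.ext fun j => ?_
  by_contra hj
  have hj : σ j ≠ j := hj
  have hij : σ (σ j) ≠ σ j := fun e => hj (σ.injective e)
  have e := h (Pi.single j 1)
  simp only [mn_single, Matrix.mulVec_smul, smul_smul] at e
  have e := congrFun e (σ j)
  simp [hj, hij, Ne.symm hij] at e
  exact hs e

/-- Eigenvalues along the columns of an element diagonalising a torus element. -/
theorem level_of_diag {g : GL ι F} {δ d : ι → Fˣ} (h : g⁻¹ * dg δ * g = mn 1 d) {r p : ι}
    (hrp : (g : Matrix ι ι F) r p ≠ 0) : δ r = d p := by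
  have h1 : dg δ * g = g * mn 1 d := by rw [← h]; group
  have h2 := congrArg (fun u : GL ι F => ((u : Matrix ι ι F) *ᵥ Pi.single p (1 : F)) r) h1
  rw [mul_act, mul_act, mn_single, Equiv.Perm.one_apply, Matrix.mulVec_smul, dg_act, mulVec_single,
    Pi.smul_apply, smul_eq_mul] at h2
  exact Units.ext (mul_right_cancel₀ hrp h2)

variable {M : Subgroup (GL ι F)}

theorem exists_gen (hq : 7 ≤ Fintype.card F) :
    ∃ l : Fˣ, (l : F) ≠ 1 ∧ (l : F) ^ 2 ≠ 1 ∧ (l : F) ^ 3 ≠ 1 ∧ (l : F) ^ 4 ≠ 1 := by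
  classical
  obtain ⟨l, hl⟩ := IsCyclic.exists_generator (α := Fˣ)
  have ho : orderOf l = Fintype.card F - 1 := by
    rw [orderOf_eq_card_of_forall_mem_zpowers hl, Nat.card_eq_fintype_card, Fintype.card_units]
  have hn : ∀ k, 0 < k → k ≤ 4 → (l : F) ^ k ≠ 1 := fun k hk hk4 h => by
    have h1 : orderOf l ∣ k := orderOf_dvd_of_pow_eq_one (Units.ext (by simpa using h))
    have := Nat.le_of_dvd hk h1
    omega
  exact ⟨l, by simpa using hn 1 (by omega) (by omega), hn 2 (by omega) (by omega), hn 3 (by omega) (by omega),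
    hn 4 (by omega) le_rfl⟩

variable (hB : Bad M) (hq : 7 ≤ Fintype.card F) (h4 : Fintype.card ι = 4)
include hB hq h4

/-- No column of a non-monomial element has two zeros. -/
theorem col_zero_le_one {g : GL ι F} (hg : g ∈ M) (hgm : ¬ Mono g) {q a b : ι}
    (hab : a ≠ b) (ha : (g : Matrix ι ι F) a q = 0) (hb : (g : Matrix ι ι F) b q = 0) : False := by
  classical
  obtain ⟨l, hl1, hl2, hl3, hl4⟩ := exists_gen hq
  set δ := dpair a b l with hδ
  have hd := dpair_mem hB.toOver hab l
  set y := g⁻¹ * dg δ * g with hy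
  have hfix : (y : Matrix ι ι F) *ᵥ Pi.single q (1 : F) = (1 : F) • Pi.single q (1 : F) := by
    rw [one_smul, hy, mul_act, mul_act]
    conv_rhs => rw [← inv_act_act g (Pi.single q (1 : F))]
    congr 1
    funext r
    rw [dg_act, mulVec_single]
    rcases eq_or_ne r a with rfl | hra
    · simp only [ha, mul_zero]
    rcases eq_or_ne r b with rfl | hrb
    · simp only [hb, mul_zero]
    simp [hδ, dpair_other hra hrb]
  obtain ⟨σ, d, hσ⟩ := hB.line y (M.mul_mem (M.mul_mem (M.inv_mem hg) hd) hg) q 1 hfix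
  have hnn : (l : F) * ((l⁻¹ : Fˣ) : F) = 1 := by simp
  set s : F := 1 + (l : F) + ((l⁻¹ : Fˣ) : F) with hs
  have hroot : ∀ r, (δ r : F) ^ 3 - s * (δ r : F) ^ 2 + s * (δ r : F) - 1 = 0 := fun r => by
    rcases eq_or_ne r a with rfl | hra
    · rw [hδ, dpair_left hab, hs]; linear_combination ((1 : F) - (l : F)) * hnn
    rcases eq_or_ne r b with rfl | hrb
    · rw [hδ, dpair_right, hs]; linear_combination ((1 : F) - ((l⁻¹ : Fˣ) : F)) * hnn
    simp [hδ, dpair_other hra hrb]
  have hs0 : s ≠ 0 := fun e => hl3 (by rw [hs] at e; linear_combination ((l : F) - 1) * ((l : F) * e - hnn))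
  have hs2 : s ^ 2 ≠ 1 := fun e => by
    rcases eq_or_eq_neg_of_sq_eq_sq s 1 (by rw [e, one_pow]) with e | e <;> rw [hs] at e
    · apply hl4
      have e' : (l : F) ^ 2 = -1 := by linear_combination (l : F) * e - hnn
      linear_combination ((l : F) ^ 2 - 1) * e'
    · apply hl2
      have e' : ((l : F) + 1) ^ 2 = 0 := by linear_combination (l : F) * e - hnn
      have e'' : (l : F) + 1 = 0 := pow_eq_zero_iff two_ne_zero |>.mp e'
      linear_combination ((l : F) - 1) * e''
  have h1 : σ = 1 := perm_eq_one_of_cubic σ d hs0 hs2 fun x => by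
    refine act_injective g ?_
    simp only [← hσ, hy, mul_act, act_inv_act, Matrix.mulVec_sub, Matrix.mulVec_add, Matrix.mulVec_smul,
      Matrix.mulVec_zero]
    funext r
    simp only [Pi.add_apply, Pi.sub_apply, Pi.smul_apply, smul_eq_mul, dg_act, Pi.zero_apply]
    linear_combination ((g : Matrix ι ι F) *ᵥ x) r * hroot r
  subst h1
  obtain ⟨p, hp⟩ : ∃ p, (g : Matrix ι ι F) a p ≠ 0 := by
    by_contra! h
    have := congrFun (act_inv_act g (Pi.single a (1 : F))) a
    simp [Matrix.mulVec, dotProduct, h] at this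
  obtain ⟨r, hra, hr⟩ := col_two hB hg hgm p a
  have e1 := level_of_diag hσ hp
  have e2 := level_of_diag hσ hr
  rw [← e1, hδ, dpair_left hab] at e2
  rcases eq_or_ne r b with rfl | hrb
  · rw [dpair_right] at e2
    have e3 : ((l⁻¹ : Fˣ) : F) = l := congrArg Units.val e2
    apply hl2
    linear_combination hnn - (l : F) * e3
  · rw [dpair_other hra hrb] at e2
    exact hl1 (by rw [← e2, Units.val_one])

/-- A non-monomial element has no zero entry. -/
theorem entry_ne_zero {g : GL ι F} (hg : g ∈ M) (hgm : ¬ Mono g) (z q : ι) :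
    (g : Matrix ι ι F) z q ≠ 0 := by
  classical
  intro hz
  obtain ⟨l, -, -, -, hl4⟩ := exists_gen hq
  set μ : Fˣ := (l ^ 3)⁻¹
  have hμ : (μ : F) - l ≠ 0 := fun e => hl4 (by
    have h1 : ((l ^ 3 : Fˣ) : F) * (μ : F) = 1 := by
      rw [← Units.val_mul, mul_inv_cancel, Units.val_one]
    rw [Units.val_pow_eq_pow_val] at h1
    linear_combination h1 - (l : F) ^ 3 * e)
  set δ : ι → Fˣ := Function.update (fun _ => l) z μ with hδ
  have hd : dg δ ∈ M := hB.mono _ _ (by
    rw [mn_det, Equiv.Perm.sign_one, Units.val_one, Int.cast_one, one_mul,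
      ← Units.coe_prod, hδ, ← Finset.mul_prod_erase Finset.univ _ (Finset.mem_univ z), Function.update_self,
      Finset.prod_congr rfl (fun r hr => Function.update_of_ne (Finset.ne_of_mem_erase hr) _ _),
      Finset.prod_const, Finset.card_erase_of_mem (Finset.mem_univ z), Finset.card_univ, h4,
      inv_mul_cancel, Units.val_one])
  set f := ((g⁻¹ : GL ι F) : Matrix ι ι F) *ᵥ Pi.single z (1 : F) with hf
  set y := g⁻¹ * dg δ * g with hy
  have hyx : ∀ x, (y : Matrix ι ι F) *ᵥ x =
      (l : F) • x + (((μ : F) - l) * ((g : Matrix ι ι F) *ᵥ x) z) • f := fun x => by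
    refine act_injective g ?_
    simp only [hy, hf, mul_act, act_inv_act, Matrix.mulVec_add, Matrix.mulVec_smul]
    funext r
    simp only [Pi.add_apply, Pi.smul_apply, smul_eq_mul, dg_act]
    rcases eq_or_ne r z with rfl | hr
    · simp [hδ]; ring
    · simp [hδ, hr]
  obtain ⟨σ, d, hσ⟩ := hB.line y (M.mul_mem (M.mul_mem (M.inv_mem hg) hd) hg) q l (by
    rw [hyx, mulVec_single (g : Matrix ι ι F)]
    dsimp only
    rw [hz, mul_zero, zero_smul, add_zero])
  obtain ⟨j, hj⟩ : ∃ j, (g : Matrix ι ι F) z j ≠ 0 := by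
    by_contra! h
    have := congrFun (act_inv_act g (Pi.single z (1 : F))) z
    simp [Matrix.mulVec, dotProduct, h] at this
  have hgi : ¬ Mono g⁻¹ := fun h => hgm (inv_inv g ▸ mono_inv h)
  obtain ⟨p0, hp0⟩ : ∃ p0, ∀ p, p ≠ p0 → f p ≠ 0 := by
    by_cases h : ∃ p0, f p0 = 0
    · obtain ⟨p0, hp0⟩ := h
      refine ⟨p0, fun p hp e => col_zero_le_one hB hq h4 (M.inv_mem hg) hgi hp (q := z) ?_ ?_⟩
      · rwa [hf, mulVec_single] at e
      · rwa [hf, mulVec_single] at hp0
    · push Not at h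
      exact ⟨j, fun p _ => h p⟩
  obtain ⟨p, -, hp⟩ : ∃ p ∈ (Finset.univ : Finset ι), p ∉ ({j, σ j, p0} : Finset ι) :=
    Finset.exists_mem_notMem_of_card_lt_card (by
      rw [Finset.card_univ]; exact lt_of_le_of_lt Finset.card_le_three (by omega))
  simp only [Finset.mem_insert, Finset.mem_singleton, not_or] at hp
  have h1 := congrFun (hyx (Pi.single j 1)) p
  rw [hσ, mn_single, mulVec_single (g : Matrix ι ι F)] at h1
  simp [hp.1, hp.2.1] at h1
  rcases h1 with (h1 | h1) | h1
  exacts [hμ h1, hj h1, hp0 p hp.2.2 h1]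

/-- The final contradiction. -/
theorem false_of_nonmono {g : GL ι F} (hg : g ∈ M) (hgm : ¬ Mono g) : False := by
  classical
  have hgi : ¬ Mono g⁻¹ := fun h => hgm (inv_inv g ▸ mono_inv h)
  have hG := fun r p => entry_ne_zero hB hq h4 hg hgm r p
  have hI := fun r p => entry_ne_zero hB hq h4 (M.inv_mem hg) hgi r p
  haveI : Nontrivial ι := Fintype.one_lt_card_iff_nontrivial.1 (by omega)
  obtain ⟨p, q, hpq⟩ := exists_pair_ne ι
  let A : ι → F := fun i => (g : Matrix ι ι F) p i * ((g⁻¹ : GL ι F) : Matrix ι ι F) i q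
  have hA : ∑ i, A i = 0 := by
    show ((g : Matrix ι ι F) * ((g⁻¹ : GL ι F) : Matrix ι ι F)) p q = 0
    rw [Units.mul_inv, Matrix.one_apply_ne hpq]
  have hA0 : ∀ i, A i ≠ 0 := fun i => mul_ne_zero (hG p i) (hI i q)
  have hentry : ∀ δ : ι → Fˣ, ((g * dg δ * g⁻¹ : GL ι F) : Matrix ι ι F) p q = ∑ i, (δ i : F) * A i := fun δ => by
    rw [← congrFun (mulVec_single ((g * dg δ * g⁻¹ : GL ι F) : Matrix ι ι F) q) p, mul_act, mul_act,
      mulVec_single ((g⁻¹ : GL ι F) : Matrix ι ι F)]
    show ∑ i, _ * _ = _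
    refine Finset.sum_congr rfl fun i _ => ?_
    rw [dg_act]
    simp only [A]
    ring
  have key : ∀ δ : ι → Fˣ, dg δ ∈ M → ∑ i, (δ i : F) * A i = 0 → Mono (g * dg δ * g⁻¹) := fun δ hd h => by
    by_contra hn
    exact entry_ne_zero hB hq h4 (M.mul_mem (M.mul_mem hg hd) (M.inv_mem hg)) hn p q (by rw [hentry, h])
  obtain ⟨l, -, hl2, -, hl4⟩ := exists_gen hq
  by_cases hpair : ∃ a b, a ≠ b ∧ A a + A b = 0
  · obtain ⟨a, b, hab, hsum⟩ := hpair
    obtain ⟨c, e, hce, hS⟩ := Finset.card_eq_two.1 (show (Finset.univ \ {a, b} : Finset ι).card = 2 by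
      rw [Finset.card_sdiff_of_subset (Finset.subset_univ _), Finset.card_univ, h4, Finset.card_pair hab])
    set δ : ι → Fˣ := fun i => if i = a ∨ i = b then l else l⁻¹ with hδ
    have hsplit : ∀ G : ι → F, ∑ i, G i = (G c + G e) + (G a + G b) := fun G => by
      rw [← Finset.sum_sdiff (Finset.subset_univ ({a, b} : Finset ι)), hS, Finset.sum_pair hce,
        Finset.sum_pair hab]
    have hmem : ∀ i ∈ ({c, e} : Finset ι), δ i = l⁻¹ := fun i hi => by
      rw [← hS, Finset.mem_sdiff] at hi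
      simp only [Finset.mem_insert, Finset.mem_singleton] at hi
      simp only [hδ, if_neg hi.2]
    have hδa : δ a = l := by simp [hδ]
    have hδb : δ b = l := by simp [hδ]
    have hd : dg δ ∈ M := hB.mono _ _ (by
      rw [mn_det, Equiv.Perm.sign_one, Units.val_one, Int.cast_one, one_mul,
        ← Finset.prod_sdiff (Finset.subset_univ ({a, b} : Finset ι)), hS, Finset.prod_pair hce,
        Finset.prod_pair hab, hδa, hδb, hmem c (by simp), hmem e (by simp), ← Units.val_mul, ← Units.val_mul,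
        ← Units.val_mul]
      rw [show l⁻¹ * l⁻¹ * (l * l) = 1 by rw [mul_assoc, inv_mul_cancel_left, inv_mul_cancel], Units.val_one])
    have hce0 : A c + A e = 0 := by
      have := hsplit A
      rw [hA, hsum] at this
      linear_combination -this
    obtain ⟨σ, d, hσ⟩ := key δ hd (by
      rw [hsplit, hδa, hδb, hmem c (by simp), hmem e (by simp)]
      linear_combination ((l⁻¹ : Fˣ) : F) * hce0 + (l : F) * hsum)
    have hnn : (l : F) * ((l⁻¹ : Fˣ) : F) = 1 := by simp
    set s : F := (l : F) + ((l⁻¹ : Fˣ) : F) with hs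
    have hs0 : s ≠ 0 := fun e => hl4 (by
      rw [hs] at e
      have e' : (l : F) ^ 2 = -1 := by linear_combination (l : F) * e - hnn
      linear_combination ((l : F) ^ 2 - 1) * e')
    have h1 : σ = 1 := perm_eq_one_of_quad σ d (c := (1 : F)) hs0 fun x => by
      simp only [← hσ, mul_act, inv_act_act]
      rw [one_smul, ← Matrix.mulVec_smul, ← Matrix.mulVec_sub]
      conv_lhs => arg 2; rw [← act_inv_act g x]
      rw [← Matrix.mulVec_add]
      convert Matrix.mulVec_zero (g : Matrix ι ι F) using 2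
      funext r
      simp only [Pi.add_apply, Pi.sub_apply, Pi.smul_apply, smul_eq_mul, dg_act, Pi.zero_apply, hδ]
      split_ifs
      · rw [hs]; linear_combination (-(((g⁻¹ : GL ι F) : Matrix ι ι F) *ᵥ x) r) * hnn
      · rw [hs]; linear_combination (-(((g⁻¹ : GL ι F) : Matrix ι ι F) *ᵥ x) r) * hnn
    subst h1
    have hσ' : (g⁻¹)⁻¹ * dg δ * g⁻¹ = mn 1 d := by rw [inv_inv]; exact hσ
    have e1 := level_of_diag hσ' (hI a a)
    have e2 := level_of_diag hσ' (hI c a)
    rw [← e1, hδa, hmem c (by simp)] at e2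
    have e3 : ((l⁻¹ : Fˣ) : F) = l := congrArg Units.val e2
    apply hl2
    linear_combination hnn - (l : F) * e3
  push Not at hpair
  obtain ⟨a, b, hab, hne⟩ : ∃ a b, a ≠ b ∧ A a ≠ A b := by
    by_contra! hall
    have h1 : ∀ i, A i = A p := fun i => by
      rcases eq_or_ne i p with rfl | hi
      · rfl
      · exact hall i p hi
    rw [Finset.sum_congr rfl (fun i _ => h1 i), Finset.sum_const, Finset.card_univ, h4, nsmul_eq_mul] at hA
    apply hpair p q hpq
    rw [h1 q]
    have h2 : (2 : F) = 0 := by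
      have h4' : ((4 : ℕ) : F) = 0 := (mul_eq_zero.1 hA).resolve_right (hA0 p)
      have : (2 : F) ^ 2 = 0 := by push_cast at h4'; linear_combination h4'
      exact pow_eq_zero_iff two_ne_zero |>.mp this
    linear_combination A p * h2
  set m : Fˣ := Units.mk0 (A b / A a) (div_ne_zero (hA0 b) (hA0 a))
  have hm1 : (m : F) ≠ 1 := fun e => hne ((div_eq_one_iff_eq (hA0 a)).1 e).symm
  have hm2 : (m : F) + 1 ≠ 0 := fun e => hpair a b hab (by
    have e' : A b / A a + 1 = 0 := e
    field_simp [hA0 a] at e'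
    linear_combination e')
  set δ := dpair a b m with hδ
  have hsum : ∀ G : ι → F, ∑ i, ((δ i : F) - 1) * G i =
      ((m : F) - 1) * G a + (((m⁻¹ : Fˣ) : F) - 1) * G b := fun G => by
    rw [Finset.sum_eq_add_of_mem a b (Finset.mem_univ _) (Finset.mem_univ _) hab
      (fun i _ hi => by simp [hδ, dpair_other hi.1 hi.2])]
    simp [hδ, dpair_left hab, dpair_right]
  have hmA : (m : F) * A a = A b := div_mul_cancel₀ _ (hA0 a)
  have hnn : (m : F) * ((m⁻¹ : Fˣ) : F) = 1 := by simp
  obtain ⟨σ, d, hσ⟩ := key δ (dpair_mem hB.toOver hab m) (by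
    have h1 := hsum A
    simp only [sub_mul, one_mul, Finset.sum_sub_distrib, hA, sub_zero] at h1
    rw [h1]
    linear_combination (1 - ((m⁻¹ : Fˣ) : F)) * hmA + A a * hnn)
  have hnofix : ∀ r, σ r ≠ r := fun r hr => by
    have hcol : ∀ c : ι, (d r : F) = δ c := fun c => by
      have h1 : g * dg δ = mn σ d * g := by rw [← hσ]; group
      have h2 := congrArg (fun u : GL ι F => ((u : Matrix ι ι F) *ᵥ Pi.single c (1 : F)) r) h1
      simp only [mul_act] at h2
      conv_rhs at h2 => rw [mn_act, Equiv.symm_apply_eq _ |>.mpr hr.symm, mulVec_single (g : Matrix ι ι F)]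
      rw [dg, mn_single, Equiv.Perm.one_apply, Matrix.mulVec_smul, mulVec_single (g : Matrix ι ι F),
        Pi.smul_apply, smul_eq_mul] at h2
      exact (mul_right_cancel₀ (hG r c) h2).symm
    have h1 := hcol a
    rw [hcol b, hδ, dpair_left hab, dpair_right] at h1
    rcases mul_eq_zero.1 (show ((m : F) - 1) * ((m : F) + 1) = 0 by linear_combination hnn - (m : F) * h1) with e | e
    exacts [hm1 (sub_eq_zero.1 e), hm2 e]
  have htr := congrArg (fun u : GL ι F => (u : Matrix ι ι F).trace) hσ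
  have hL : ((g * dg δ * g⁻¹ : GL ι F) : Matrix ι ι F).trace = ∑ i, (δ i : F) := by
    rw [Units.val_mul, Units.val_mul, Matrix.trace_mul_cycle, Units.inv_mul, one_mul]
    refine Finset.sum_congr rfl fun i _ => ?_
    rw [Matrix.diag_apply, ← congrFun (mulVec_single (dg δ : Matrix ι ι F) i) i, dg_act, Pi.single_eq_same, mul_one]
  have hR : (mn σ d : Matrix ι ι F).trace = 0 := Finset.sum_eq_zero fun i _ => by
    rw [Matrix.diag_apply, ← congrFun (mulVec_single (mn σ d : Matrix ι ι F) i) i, mn_single]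
    simp [Ne.symm (hnofix i)]
  simp only [hL, hR] at htr
  have h1 := hsum 1
  simp only [Pi.one_apply, mul_one, Finset.sum_sub_distrib, Finset.sum_const, Finset.card_univ, h4, htr,
    nsmul_eq_mul] at h1
  push_cast at h1
  apply hm2
  refine pow_eq_zero_iff two_ne_zero |>.mp (show ((m : F) + 1) ^ 2 = 0 from ?_)
  rw [Units.val_inv_eq_inv_val] at hnn
  linear_combination -(m : F) * h1 - hnn

omit hB in
/-- An elementary transvection in a non-monomial overgroup. -/
theorem exists_el (hM : Over M) {g : GL ι F} (hg : g ∈ M) (hgm : ¬ Mono g) :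
    ∃ i j, i ≠ j ∧ ∃ c : F, c ≠ 0 ∧ el i j c ∈ M := by
  classical
  by_contra hno
  refine false_of_nonmono ⟨hM, fun y hy q c hc => ?_⟩ hq h4 hg hgm
  by_contra hy'
  exact hno (found_of_line hM (by omega) (by omega) hy hy' hc)

end Cfsg.Agent.LinFourDecompMono38
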