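import Cfsg.Prelude.Def_GeometricClasses
import Cfsg.Agent.Lib.OmegaSimilitudeFour69
import Cfsg.Agent.Lib.OmegaMaxGlue
import Cfsg.Agent.Lib.TransvectionMax

/-! The proof of S5644, whose argument only needs n ≥ 4, restated at that bound. -/

set_option autoImplicit false
open Cfsg

namespace Cfsg.Agent.LinFourQuad69

open Cfsg.Agent.OrthUnitaryQuad Cfsg.Agent.OrthUnitaryPrelude Cfsg.Agent.OrthUnitaryOmega Cfsg.Agent.OmegaGeo
  Cfsg.Agent.OmegaMaxGlue Cfsg.Agent.TransvectionMax
open scoped Matrix MatrixGroups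

/-- For a finite field F of odd order and n ≥ 4, let Q be a non-degenerate quadratic form on F^n (its polar form is non-degenerate). Then the elements of SL_n(F) that are similarities of Q (Q(gv) = c Q(v) for a non-zero scalar c depending on g) form a maximal subgroup of SL_n(F). -/
theorem isMaximalIn_stab {F : Type*} [Field F] [Fintype F] (n : ℕ) (hn : 4 ≤ n) (hodd : Odd (Fintype.card F)) (Q : (Fin n → F) → F) (hQ : Cfsg.Geo.IsNondegenerateQuadraticForm Q) : Cfsg.Geo.IsMaximalIn (Cfsg.Geo.specialLinear (Fin n) F) (Cfsg.Geo.quadSimilarityGroup Q ⊓ Cfsg.Geo.specialLinear (Fin n) F) := by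
  classical
  have hd : Module.finrank F (Fin n → F) = n := by simp
  have h2 : (2 : F) ≠ 0 := OmegaStd.two_ne_zero rfl hodd
  obtain ⟨q, rfl, hnd⟩ := exists_quad hQ
  set toV : GL (Fin n) F ≃* ((Fin n → F) ≃ₗ[F] (Fin n → F)) :=
    Matrix.GeneralLinearGroup.toLin.trans (LinearMap.GeneralLinearGroup.generalLinearEquiv F _) with htoV
  have hact : ∀ (g : GL (Fin n) F) x, toV g x = (g : Matrix (Fin n) (Fin n) F) *ᵥ x := fun g x =>
    Matrix.GeneralLinearGroup.toLin_apply g x
  refine ⟨lt_of_le_of_ne inf_le_right fun he => ?_, fun M hHM hMSL => ?_⟩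
  · obtain ⟨v, -, hv⟩ := OmegaSimilitudeFour69.exists_value hnd (K := (⊤ : Submodule F (Fin n → F)))
      (by rw [finrank_top, hd]; omega) 1
    obtain ⟨y, hy, hy0⟩ := Submodule.exists_mem_ne_zero_of_ne_bot
      (p := LinearMap.ker (QuadraticMap.polarBilin q v)) (fun hb => by
        have h := QuadClassify.finrank_ker_inf (⊤ : Submodule F (Fin n → F)) (QuadraticMap.polarBilin q v)
        rw [top_inf_eq, hb, finrank_top, finrank_bot, hd] at h
        omega)
    have hvy : QuadraticMap.polar q v y = 0 := hy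
    have hyv : y ∉ Submodule.span F {v} := by
      intro h
      obtain ⟨c, rfl⟩ := Submodule.mem_span_singleton.1 h
      rw [QuadraticMap.polar_smul_right, polar_self_mul, hv, mul_one, smul_eq_mul] at hvy
      exact hy0 (by rw [(mul_eq_zero.1 hvy).resolve_right h2, zero_smul])
    obtain ⟨a, ha, hya⟩ := OmegaStabSingular.exists_pair hnd hyv
    set φ := polarVec (⇑q) a
    have hφ : ∀ x, φ ⬝ᵥ x = QuadraticMap.polar q a x := polarVec_dotProduct a
    have hav : φ ⬝ᵥ v = 0 := by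
      rw [hφ, QuadraticMap.polar_comm]; exact ha v (Submodule.mem_span_singleton_self v)
    obtain ⟨c, hc⟩ := (he.symm ▸ tv_mem_sl v φ :
      tv v φ ∈ Cfsg.Geo.quadSimilarityGroup ⇑q ⊓ Cfsg.Geo.specialLinear (Fin n) F).1
    have h1 := hc v
    rw [tv_act hav, hav, zero_smul, add_zero, hv, mul_one] at h1
    have h3 := hc y
    rw [tv_act hav, hφ, QuadraticMap.polar_comm q a y, hya, one_smul, QuadraticMap.map_add (⇑q), hv,
      QuadraticMap.polar_comm q y v, hvy, add_zero, ← h1, one_mul, add_eq_left] at h3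
    exact one_ne_zero h3
  by_cases hMH : M ≤ Cfsg.Geo.quadSimilarityGroup ⇑q
  · exact Or.inl (le_antisymm (le_inf hMH hMSL) hHM)
  refine Or.inr (le_antisymm hMSL (specialLinear_le fun v φ hφ => ?_))
  obtain ⟨g, hg, hgn⟩ := Set.not_subset.1 hMH
  have hdet : ∀ k ∈ commutator (orth q), toGL q k ∈ Cfsg.Geo.specialLinear (Fin n) F := by
    intro k hk
    have : toGL q k = glHom q k := rfl
    rw [this]
    exact (Matrix.GeneralLinearGroup.det.comp (glHom q)).mem_ker.2
      (Abelianization.commutator_subset_ker _ hk)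
  obtain ⟨-, m, hm, hmy⟩ := OmegaSimilitudeFour69.centre_all hnd h2 (by rw [hd]; omega)
    (M := M.map (toV : GL (Fin n) F →* _))
    (fun k hk => ⟨toGL q k, hHM ⟨⟨1, fun x => by rw [toGL_mulVec, Units.val_one, one_mul]; exact k.2 x⟩,
      hdet k hk⟩, LinearEquiv.ext fun x => (hact _ x).trans (toGL_mulVec k x)⟩)
    (g := toV g) ⟨g, hg, rfl⟩
    (fun ⟨c, hc⟩ => hgn ⟨c, fun x => by rw [← hact]; exact hc x⟩) v
    (LinearMap.mk ⟨fun x => φ ⬝ᵥ x, fun x y => dotProduct_add _ _ _⟩ fun c x => dotProduct_smul c φ x) hφ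
  obtain ⟨m₀, hm₀, rfl⟩ := hm
  have e : m₀ = tv v φ := gl_ext fun x => by
    rw [← hact, tv_act hφ]
    exact hmy x
  exact e ▸ hm₀

end Cfsg.Agent.LinFourQuad69

namespace Cfsg.Agent.LinFourQuad69

/-- Clause (7) of S5780. -/
theorem maximal_quad {F : Type*} [Field F] [Fintype F] :
    Odd (Fintype.card F) → ∀ Q : (Fin 4 → F) → F, Cfsg.Geo.IsNondegenerateQuadraticForm Q → Cfsg.Geo.IsMaximalIn (Cfsg.Geo.specialLinear (Fin 4) F) (Cfsg.Geo.quadSimilarityGroup Q ⊓ Cfsg.Geo.specialLinear (Fin 4) F) :=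
  fun hodd Q hQ => isMaximalIn_stab 4 le_rfl hodd Q hQ

end Cfsg.Agent.LinFourQuad69
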