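import Cfsg.Agent.Lib.LinSubfieldMax97

/-! LinSubfieldMax97.main for every n ≥ 4: only the step joining two incident pairs needed more room. -/

set_option autoImplicit false
open Cfsg

namespace Cfsg.Agent.LinSubfieldFour77

open Cfsg.Agent.TransvectionMax Cfsg.Agent.LinSubfieldMax97
open Cfsg.Agent.SubfieldRational (emb)
open scoped MatrixGroups Matrix

set_option maxHeartbeats 1000000 in
theorem main {F : Type*} [Field F] [Fintype F] {n : ℕ} (hn : 4 ≤ n) {F₀ : Subfield F} {r : ℕ}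
    (hr : r.Prime) (hcard : Fintype.card F = Nat.card F₀ ^ r) :
    Cfsg.Geo.IsMaximalIn (Cfsg.Geo.specialLinear (Fin n) F)
      (Cfsg.Geo.subfieldSubgroup F₀ 1 ⊓ Cfsg.Geo.specialLinear (Fin n) F) := by
  classical
  haveI : Nonempty (Fin n) := ⟨⟨0, by omega⟩⟩
  haveI : Nontrivial (Fin n) := Fin.nontrivial_iff_two_le.mpr (by omega)
  set X := Cfsg.Geo.subfieldSubgroup F₀ (1 : GL (Fin n) F)
  have hrat1 : ∀ u : Fin n → F₀, SubfieldRational.rat (1 : GL (Fin n) F) u = emb u := fun u => one_act _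
  have hsub : ∀ g : GL (Fin n) F, g ∈ X ↔
      ∀ u : Fin n → F₀, ∃ k : F, ∃ w : Fin n → F₀, (g : Matrix (Fin n) (Fin n) F) *ᵥ emb u = k • emb w := by
    intro g
    rw [SubfieldRational.mem_subfieldSubgroup_iff]
    simp only [hrat1]
  obtain ⟨θ, hθ⟩ : ∃ θ : F, θ ∉ F₀ := by
    by_contra! h
    have h1 : Nat.card F₀ = Fintype.card F := by
      rw [← Nat.card_eq_fintype_card]
      exact Nat.card_congr (Equiv.subtypeUnivEquiv h)
    have h2 := Nat.pow_right_injective (Finite.one_lt_card (α := F₀))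
      (show Nat.card F₀ ^ 1 = Nat.card F₀ ^ r by rw [pow_one, ← hcard, h1])
    exact hr.one_lt.ne h2
  set i0 : Fin n := ⟨0, by omega⟩
  set i1 : Fin n := ⟨1, by omega⟩
  have hi01 : i0 ≠ i1 := fun h => absurd (congrArg Fin.val h) (by simp [i0, i1])
  refine ⟨lt_of_le_of_ne inf_le_right fun he => ?_, fun M hHM hMSL => ?_⟩
  · have hmem : tv (θ • Pi.single i0 1) (Pi.single i1 1) ∈ X := by
      have h : tv (θ • Pi.single i0 1) (Pi.single i1 (1 : F)) ∈ X ⊓ Cfsg.Geo.specialLinear (Fin n) F :=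
        he.symm ▸ tv_mem_sl _ _
      exact h.1
    obtain ⟨k, w, hkw⟩ := (hsub _).mp hmem (Pi.single i1 1)
    rw [tv_act (by simp [hi01.symm, hi01]), SubfieldRational.emb_single] at hkw
    have hw1 := congrFun hkw i1
    have hw0 := congrFun hkw i0
    simp [hi01, hi01.symm, emb] at hw1 hw0
    apply hθ
    have hk : k ≠ 0 := fun h => by simp [h] at hw1
    have hw10 : (w i1 : F) ≠ 0 := fun h => by simp [h] at hw1
    have : θ = (w i0 : F) / (w i1 : F) := by
      field_simp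
      rw [hw0]
      calc k * (w i0 : F) * (w i1 : F) = (k * (w i1 : F)) * (w i0 : F) := by ring
        _ = _ := by rw [← hw1, one_mul]
    rw [this]
    exact F₀.div_mem (w i0).2 (w i1).2
  by_cases hMX : M ≤ X
  · exact Or.inl (le_antisymm (le_inf hMX hMSL) hHM)
  refine Or.inr (le_antisymm hMSL ?_)
  -- rational root elements
  have hlift : ∀ {a χ : Fin n → F₀}, χ ⬝ᵥ a = 0 → tv (emb a) (emb χ) ∈ M := by
    intro a χ h
    refine hHM ⟨(hsub _).mpr ?_, tv_mem_sl _ _⟩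
    intro u
    refine ⟨1, u + (χ ⬝ᵥ u) • a, ?_⟩
    rw [tv_act (by rw [emb_dot, h]; rfl), emb_dot, one_smul, SubfieldRational.emb_add,
      SubfieldRational.emb_smul]
  have hconj : ∀ {v φ w ψ : Fin n → F}, φ ⬝ᵥ v = 0 → ψ ⬝ᵥ w = 0 → tv v φ ∈ M → tv w ψ ∈ M →
      tv (w + (φ ⬝ᵥ w) • v) (ψ - (ψ ⬝ᵥ v) • φ) ∈ M := fun hv hw h1 h2 => by
    rw [← tv_conj_tv hv hw]
    exact M.mul_mem (M.mul_mem h1 h2) (M.inv_mem h1)
  let RP : F → (Fin n → F₀) → (Fin n → F₀) → Prop := fun κ a χ => tv (emb a) (κ • emb χ) ∈ M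
  have hedot : ∀ {a χ : Fin n → F₀}, χ ⬝ᵥ a = 0 → (emb χ : Fin n → F) ⬝ᵥ emb a = 0 := fun h => by
    rw [emb_dot, h]; rfl
  have hsdot : ∀ {a χ : Fin n → F₀} (κ : F), χ ⬝ᵥ a = 0 → (κ • emb χ : Fin n → F) ⬝ᵥ emb a = 0 :=
    fun κ h => by rw [smul_dotProduct, hedot h, smul_zero]
  -- moving a scalar between pairs
  have chCentre : ∀ {κ : F} {a a' ψ : Fin n → F₀}, a ∉ Submodule.span F₀ {a'} → ψ ⬝ᵥ a = 0 →
      ψ ⬝ᵥ a' = 0 → RP κ a ψ → RP κ a' ψ := by
    intro κ a a' ψ hnot h h' hP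
    obtain ⟨χ, hχ1, hχ0⟩ := exists_sep hnot
    have hχ' : χ ⬝ᵥ a' = 0 := hχ0 a' (Submodule.mem_span_singleton_self a')
    have h1 := hconj (hedot hχ') (hsdot κ h) (hlift hχ') hP
    rw [emb_dot, hχ1, OneMemClass.coe_one, one_smul, hsdot κ h', zero_smul, sub_zero,
      tv_add_left (hsdot κ h) (hsdot κ h')] at h1
    exact (M.mul_mem_cancel_left hP).mp h1
  have chAxis : ∀ {κ : F} {a ψ ψ' : Fin n → F₀}, ψ ∉ Submodule.span F₀ {ψ'} → ψ ⬝ᵥ a = 0 →
      ψ' ⬝ᵥ a = 0 → RP κ a ψ → RP κ a ψ' := by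
    intro κ a ψ ψ' hnot h h' hP
    obtain ⟨b, hb1, hb0⟩ := exists_sep hnot
    have hb' : ψ' ⬝ᵥ b = 0 := by rw [dotProduct_comm]; exact hb0 ψ' (Submodule.mem_span_singleton_self ψ')
    have hψb : (κ • emb ψ : Fin n → F) ⬝ᵥ emb b = κ := by
      rw [smul_dotProduct, emb_dot, dotProduct_comm, hb1, OneMemClass.coe_one, smul_eq_mul, mul_one]
    have h1 := hconj (hedot hb') (hsdot κ h) (hlift hb') hP
    rw [hedot h', hψb, zero_smul, add_zero, sub_eq_add_neg,
      ← tv_add (hsdot κ h) (by rw [neg_dotProduct, hsdot κ h', neg_zero]), M.mul_mem_cancel_left hP,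
      ← tv_inv (hsdot κ h')] at h1
    exact inv_mem_iff.mp h1
  let C : F → Prop := fun κ => ∀ a χ : Fin n → F₀, χ ⬝ᵥ a = 0 → a ≠ 0 → χ ≠ 0 → RP κ a χ
  have one_pair : ∀ {κ : F} {a ψ : Fin n → F₀}, ψ ⬝ᵥ a = 0 → a ≠ 0 → ψ ≠ 0 → RP κ a ψ → C κ := by
    intro κ a ψ h ha hψ hP a' ψ' h' ha' hψ'
    have hnz : ∀ {x y : Fin n → F₀}, x ≠ 0 → y ∉ Submodule.span F₀ {x} → x ∉ Submodule.span F₀ {y} :=
      fun hx hy => notMem_symm hx hy
    have axis : ∀ {c x y : Fin n → F₀}, x ⬝ᵥ c = 0 → y ⬝ᵥ c = 0 → x ≠ 0 → y ≠ 0 → RP κ c x → RP κ c y := by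
      intro c x y hxc hyc hx hy hr
      by_cases hm : x ∈ Submodule.span F₀ {y}
      · obtain ⟨z, hzA, hzn⟩ := exists_dot ![c] (Submodule.span F₀ {y})
          (by rw [finrank_span_singleton hy, Fintype.card_fin]; omega)
        have hzc : z ⬝ᵥ c = 0 := by rw [dotProduct_comm]; exact hzA 0
        have hxz : x ∉ Submodule.span F₀ {z} := hnz hx fun h0 =>
          hzn (Submodule.span_le.mpr (Set.singleton_subset_iff.mpr hm) h0)
        exact chAxis hzn hzc hyc (chAxis hxz hxc hzc hr)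
      · exact chAxis hm hxc hyc hr
    have centre : ∀ {x c d : Fin n → F₀}, x ⬝ᵥ c = 0 → x ⬝ᵥ d = 0 → c ≠ 0 → d ≠ 0 → RP κ c x → RP κ d x := by
      intro x c d hxc hxd hc hd hr
      by_cases hm : c ∈ Submodule.span F₀ {d}
      · obtain ⟨z, hzA, hzn⟩ := exists_dot ![x] (Submodule.span F₀ {d})
          (by rw [finrank_span_singleton hd, Fintype.card_fin]; omega)
        have hcz : c ∉ Submodule.span F₀ {z} := hnz hc fun h0 =>
          hzn (Submodule.span_le.mpr (Set.singleton_subset_iff.mpr hm) h0)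
        exact chCentre hzn (hzA 0) hxd (chCentre hcz hxc (hzA 0) hr)
      · exact chCentre hm hxc hxd hr
    obtain ⟨φ, hφA, hφn⟩ := exists_dot ![a, a'] (⊥ : Submodule F₀ (Fin n → F₀))
      (by rw [finrank_bot, Fintype.card_fin]; omega)
    have hφ : φ ≠ 0 := by simpa using hφn
    have d1 : φ ⬝ᵥ a = 0 := by rw [dotProduct_comm]; exact hφA 0
    have d2 : φ ⬝ᵥ a' = 0 := by rw [dotProduct_comm]; exact hφA 1
    exact axis d2 h' hφ hψ' (centre d1 d2 ha ha' (axis h d1 hψ hφ hP))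
  -- C is a subfield
  have hC0 : ∀ t : F₀, C (t : F) := fun t a χ h _ _ => by
    have := hlift (a := a) (χ := t • χ) (by rw [smul_dotProduct, h, smul_zero])
    rwa [SubfieldRational.emb_smul] at this
  have hCadd : ∀ {κ μ}, C κ → C μ → C (κ + μ) := fun {κ μ} hκ hμ a χ h ha hχ => by
    have := M.mul_mem (hκ a χ h ha hχ) (hμ a χ h ha hχ)
    rwa [tv_add (hsdot κ h) (hsdot μ h), ← add_smul] at this
  have hCmul : ∀ {κ μ}, C κ → C μ → C (κ * μ) := by
    intro κ μ hκ hμ a ψ h ha hψ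
    obtain ⟨b, hbA, hbn⟩ := exists_dot ![ψ] (Submodule.span F₀ {a})
      (by rw [finrank_span_singleton ha, Fintype.card_fin]; omega)
    have hb : ψ ⬝ᵥ b = 0 := hbA 0
    have hb0 : b ≠ 0 := fun h0 => hbn (h0 ▸ Submodule.zero_mem _)
    obtain ⟨χ, hχ1, hχ0⟩ := exists_sep hbn
    have hχa : χ ⬝ᵥ a = 0 := hχ0 a (Submodule.mem_span_singleton_self a)
    have hχne : χ ≠ 0 := fun h0 => by rw [h0, zero_dotProduct] at hχ1; exact zero_ne_one hχ1
    have h1 := hconj (hsdot κ hχa) (hsdot μ hb) (hκ a χ hχa ha hχne) (hμ b ψ hb hb0 hψ)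
    rw [smul_dotProduct κ, emb_dot, hχ1, OneMemClass.coe_one, smul_eq_mul, mul_one, hsdot μ h, zero_smul,
      sub_zero, tv_add_left (hsdot μ hb) (by rw [dotProduct_smul, hsdot μ h, smul_zero]),
      M.mul_mem_cancel_left (hμ b ψ hb hb0 hψ), tv_smul_left (hsdot μ h), smul_smul] at h1
    exact h1
  -- an irrational scalar
  have coord : ∀ {v : Fin n → F}, (¬ ∃ a : Fin n → F₀, v = emb a) → ∃ i, v i ∉ F₀ := by
    intro v h
    by_contra! hc
    exact h ⟨fun i => ⟨v i, hc i⟩, rfl⟩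
  suffices hgoal : ∃ κ, κ ∉ F₀ ∧ C κ by
    obtain ⟨κ, hκ, hκC⟩ := hgoal
    let Calg : Subalgebra F₀ F :=
      { carrier := {κ | C κ}
        mul_mem' := fun ha hb => hCmul ha hb
        add_mem' := fun ha hb => hCadd ha hb
        one_mem' := by simpa using hC0 1
        zero_mem' := by simpa using hC0 0
        algebraMap_mem' := fun t => hC0 t }
    have hall : ∀ κ, C κ := fun x =>
      show x ∈ Calg from SubfieldRational.subalgebra_eq_top hr hcard Calg hκC hκ ▸ Algebra.mem_top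
    have htop : M.comap (Matrix.SpecialLinearGroup.toGL : Matrix.SpecialLinearGroup (Fin n) F →* GL (Fin n) F)
        = ⊤ := PSLSimple.eq_top_of_transvection_mem _ fun i j hij c => by
      have h1 : RP c (Pi.single i 1) (Pi.single j 1) :=
        hall c _ _ (by simp [hij, hij.symm]) (by simp) (by simp)
      change Matrix.SpecialLinearGroup.toGL (Matrix.SpecialLinearGroup.transvection hij c) ∈ M
      convert h1 using 1
      rw [← tv_smul_left (by simp [SubfieldRational.emb_single, hij, hij.symm]),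
        SubfieldRational.emb_single, SubfieldRational.emb_single, ← Pi.single_smul, smul_eq_mul, mul_one]
      exact Units.ext (tv_single_val hij c).symm
    intro g hg
    have hdet : (g : Matrix (Fin n) (Fin n) F).det = 1 := by
      simpa [Cfsg.Geo.specialLinear, MonoidHom.mem_ker, Units.ext_iff] using hg
    let A : Matrix.SpecialLinearGroup (Fin n) F := ⟨(g : Matrix (Fin n) (Fin n) F), hdet⟩
    have h1 : A ∈ M.comap Matrix.SpecialLinearGroup.toGL := htop ▸ Subgroup.mem_top _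
    convert Subgroup.mem_comap.mp h1 using 1
    exact Units.ext rfl
  by_contra hno
  push Not at hno
  -- irrational transvections have no rational annihilators
  have A1 : ∀ {a : Fin n → F₀} {φ : Fin n → F}, a ≠ 0 → φ ⬝ᵥ emb a = 0 → tv (emb a) φ ∈ M →
      ∀ i, φ i ∈ F₀ := by
    intro a φ ha hφa hM i
    by_contra hi
    set b : Fin n → F₀ := Pi.single i 1
    obtain ⟨ψ, hψA, hψn⟩ := exists_dot ![a, b] (⊥ : Submodule F₀ (Fin n → F₀))
      (by rw [finrank_bot, Fintype.card_fin]; omega)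
    have hψa : ψ ⬝ᵥ a = 0 := by rw [dotProduct_comm]; exact hψA 0
    have hψb : ψ ⬝ᵥ b = 0 := by rw [dotProduct_comm]; exact hψA 1
    have hψ : ψ ≠ 0 := by simpa using hψn
    have h1 := hconj hφa (hedot hψb) hM (hlift hψb)
    have hb : φ ⬝ᵥ emb b = φ i := by simp [b, SubfieldRational.emb_single]
    rw [hb, hedot hψa, zero_smul, sub_zero,
      tv_add_left (hedot hψb) (by rw [dotProduct_smul, hedot hψa, smul_zero]),
      M.mul_mem_cancel_left (hlift hψb), tv_smul_left (hedot hψa)] at h1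
    exact hno _ hi (one_pair hψa ha hψ h1)
  have A2 : ∀ {ψ : Fin n → F₀} {v : Fin n → F}, ψ ≠ 0 → emb ψ ⬝ᵥ v = 0 → tv v (emb ψ) ∈ M →
      ∀ i, v i ∈ F₀ := by
    intro ψ v hψ hψv hM i
    by_contra hi
    set χ : Fin n → F₀ := Pi.single i 1
    obtain ⟨b, hbA, hbn⟩ := exists_dot ![ψ, χ] (⊥ : Submodule F₀ (Fin n → F₀))
      (by rw [finrank_bot, Fintype.card_fin]; omega)
    have hψb : ψ ⬝ᵥ b = 0 := hbA 0
    have hχb : χ ⬝ᵥ b = 0 := hbA 1
    have hb : b ≠ 0 := by simpa using hbn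
    have h1 := hconj (hedot hχb) hψv (hlift hχb) hM
    have hv : emb χ ⬝ᵥ v = v i := by simp [χ, SubfieldRational.emb_single]
    rw [hv, hedot hψb, zero_smul, sub_zero,
      tv_add_left hψv (by rw [dotProduct_smul, hedot hψb, smul_zero]),
      M.mul_mem_cancel_left hM, tv_smul_left (hedot hψb)] at h1
    exact hno _ hi (one_pair hψb hb hψ h1)
  have minors : ∀ {b : Fin n → F₀}, b ≠ 0 → ∀ {v : Fin n → F},
      (∀ χ : Fin n → F₀, χ ⬝ᵥ b = 0 → emb χ ⬝ᵥ v = 0) → ∃ c : F, v = c • emb b := by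
    intro b hb v h
    obtain ⟨i, hi⟩ := Function.ne_iff.mp hb
    have hi' : (b i : F) ≠ 0 := fun h0 => hi (Subtype.ext h0)
    refine ⟨v i / (b i : F), funext fun j => ?_⟩
    have h1 := h (b i • Pi.single j 1 - b j • Pi.single i 1) (by simp; ring)
    rw [sub_eq_add_neg, ← neg_smul, SubfieldRational.emb_add, SubfieldRational.emb_smul,
      SubfieldRational.emb_smul, SubfieldRational.emb_single, SubfieldRational.emb_single] at h1
    simp at h1
    simp only [Pi.smul_apply, smul_eq_mul, emb]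
    field_simp
    linear_combination h1
  have A3 : ∀ {v φ : Fin n → F} {b : Fin n → F₀}, φ ≠ 0 → φ ⬝ᵥ v = 0 → tv v φ ∈ M → b ≠ 0 →
      φ ⬝ᵥ emb b = 0 → ∃ c : F, ∃ a : Fin n → F₀, v = c • emb a := by
    intro v φ b hφ hφv hM hb hφb
    by_contra hirr
    obtain ⟨χ, hχb, hχv⟩ : ∃ χ : Fin n → F₀, χ ⬝ᵥ b = 0 ∧ emb χ ⬝ᵥ v ≠ 0 := by
      by_contra! h
      obtain ⟨c, hc⟩ := minors hb h
      exact hirr ⟨c, b, hc⟩
    set k := emb χ ⬝ᵥ v
    have h1 := hconj (hedot hχb) hφv (hlift hχb) hM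
    rw [hφb, zero_smul, sub_zero, tv_add_left hφv (by rw [dotProduct_smul, hφb, smul_zero]),
      M.mul_mem_cancel_left hM, tv_smul_left hφb] at h1
    have h2 := A1 hb (by rw [smul_dotProduct, hφb, smul_zero]) h1
    let ψ : Fin n → F₀ := fun i => ⟨(k • φ) i, h2 i⟩
    have hψφ : φ = k⁻¹ • emb ψ := by
      have : (emb ψ : Fin n → F) = k • φ := rfl
      rw [this, smul_smul, inv_mul_cancel₀ hχv, one_smul]
    have hψ : ψ ≠ 0 := fun h0 => hφ (by rw [hψφ, h0, SubfieldRational.emb_zero, smul_zero])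
    rw [hψφ, smul_dotProduct, smul_eq_mul, mul_eq_zero, inv_eq_zero] at hφv
    have hψv := hφv.resolve_left hχv
    rw [hψφ, ← tv_smul_left hψv] at hM
    have h3 := A2 hψ (by rw [dotProduct_smul, hψv, smul_zero]) hM
    refine hirr ⟨k, fun i => ⟨_, h3 i⟩, ?_⟩
    funext i
    simp [emb, mul_inv_cancel_left₀ hχv]
  have A4 : ∀ {v φ : Fin n → F} {χ : Fin n → F₀}, v ≠ 0 → φ ⬝ᵥ v = 0 → tv v φ ∈ M → χ ≠ 0 →
      emb χ ⬝ᵥ v = 0 → ∃ c : F, ∃ ψ : Fin n → F₀, φ = c • emb ψ := by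
    intro v φ χ hv hφv hM hχ hχv
    by_contra hirr
    obtain ⟨b, hχb, hφb⟩ : ∃ b : Fin n → F₀, χ ⬝ᵥ b = 0 ∧ φ ⬝ᵥ emb b ≠ 0 := by
      by_contra! h
      obtain ⟨c, hc⟩ := minors hχ (v := φ) fun b hb => by
        rw [dotProduct_comm]; exact h b (by rw [dotProduct_comm]; exact hb)
      exact hirr ⟨c, χ, hc⟩
    set k := φ ⬝ᵥ emb b
    have h1 := hconj hφv (hedot hχb) hM (hlift hχb)
    rw [hχv, zero_smul, sub_zero, tv_add_left (hedot hχb) (by rw [dotProduct_smul, hχv, smul_zero]),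
      M.mul_mem_cancel_left (hlift hχb)] at h1
    have h2 := A2 hχ (by rw [dotProduct_smul, hχv, smul_zero]) h1
    let a : Fin n → F₀ := fun i => ⟨(k • v) i, h2 i⟩
    have hav : v = k⁻¹ • emb a := by
      have : (emb a : Fin n → F) = k • v := rfl
      rw [this, smul_smul, inv_mul_cancel₀ hφb, one_smul]
    have ha : a ≠ 0 := fun h0 => hv (by rw [hav, h0, SubfieldRational.emb_zero, smul_zero])
    rw [hav, dotProduct_smul, smul_eq_mul, mul_eq_zero, inv_eq_zero] at hφv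
    have hφa := hφv.resolve_left hφb
    rw [hav, tv_smul_left hφa] at hM
    have h3 := A1 ha (by rw [smul_dotProduct, hφa, smul_zero]) hM
    refine hirr ⟨k, fun i => ⟨_, h3 i⟩, ?_⟩
    funext i
    simp [emb, mul_inv_cancel_left₀ hφb]
  -- the irrational transvections coming from g
  obtain ⟨g, hgM, hgX⟩ := Set.not_subset.mp hMX
  rw [SetLike.mem_coe, hsub] at hgX
  push Not at hgX
  obtain ⟨a, ha⟩ := hgX
  have ha0 : a ≠ 0 := fun h => ha 0 0 (by
    rw [h, SubfieldRational.emb_zero, Matrix.mulVec_zero, zero_smul])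
  set v := (g : Matrix (Fin n) (Fin n) F) *ᵥ emb a with hvdef
  have hv0 : v ≠ 0 := act_ne_zero g (emb_ne ha0)
  have hvirr : ¬ ∃ c : F, ∃ w : Fin n → F₀, v = c • emb w := fun ⟨c, w, h⟩ => ha c w h
  let φ : (Fin n → F₀) → (Fin n → F) := fun χ => emb χ ᵥ* ((g⁻¹ : GL (Fin n) F) : Matrix (Fin n) (Fin n) F)
  have hφv : ∀ {χ}, χ ⬝ᵥ a = 0 → φ χ ⬝ᵥ v = 0 := fun h => by
    rw [← Matrix.dotProduct_mulVec, hvdef, inv_act_act, hedot h]
  have hT : ∀ {χ}, χ ⬝ᵥ a = 0 → tv v (φ χ) ∈ M := fun h => by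
    rw [← tv_conj g (hedot h)]
    exact M.mul_mem (M.mul_mem hgM (hlift h)) (M.inv_mem hgM)
  have hφ0 : ∀ {χ}, χ ≠ 0 → φ χ ≠ 0 := fun {χ} h h0 => by
    apply emb_ne h
    have h1 := congrArg (fun w => w ᵥ* (g : Matrix (Fin n) (Fin n) F)) h0
    simpa [φ, Matrix.vecMul_vecMul, ← Units.val_mul] using h1
  have hnoker : ∀ {χ}, χ ≠ 0 → χ ⬝ᵥ a = 0 → ∀ {b : Fin n → F₀}, b ≠ 0 → φ χ ⬝ᵥ emb b ≠ 0 :=
    fun hχ h b hb hz => hvirr (A3 (hφ0 hχ) (hφv h) (hT h) hb hz)
  obtain ⟨χ, hχA, hχn⟩ := exists_dot ![a] (⊥ : Submodule F₀ (Fin n → F₀))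
    (by rw [finrank_bot, Fintype.card_fin]; omega)
  have hχa : χ ⬝ᵥ a = 0 := by rw [dotProduct_comm]; exact hχA 0
  have hχ : χ ≠ 0 := by simpa using hχn
  obtain ⟨χ', hχ'A, hχ'n⟩ := exists_dot ![a] (Submodule.span F₀ {χ})
    (by rw [finrank_span_singleton hχ, Fintype.card_fin]; omega)
  have hχ'a : χ' ⬝ᵥ a = 0 := by rw [dotProduct_comm]; exact hχ'A 0
  have hφirr : ¬ ∃ c : F, ∃ ψ : Fin n → F₀, φ χ = c • emb ψ := by
    rintro ⟨c, ψ, h⟩
    obtain ⟨b, hbA, hbn⟩ := exists_dot ![ψ] (⊥ : Submodule F₀ (Fin n → F₀))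
      (by rw [finrank_bot, Fintype.card_fin]; omega)
    exact hnoker hχ hχa (show b ≠ 0 by simpa using hbn)
      (by rw [h]; exact hsdot c (hbA 0))
  have hvann : ∀ {ψ : Fin n → F₀}, emb ψ ⬝ᵥ v = 0 → ψ = 0 := fun {ψ} h => by
    by_contra h0
    exact hφirr (A4 hv0 (hφv hχa) (hT hχa) h0 h)
  -- the plane
  set e0 : Fin n → F₀ := Pi.single i0 1 with he0def
  set e1 : Fin n → F₀ := Pi.single i1 1 with he1def
  set x0 : Fin n → F := emb e0 with hx0def
  set x1 : Fin n → F := emb e1 with hx1def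
  have he0ne : e0 ≠ 0 := by simp [he0def]
  have h10 : e1 ⬝ᵥ e0 = 0 := by simp [he0def, he1def, hi01, hi01.symm]
  have hx10 : x1 ⬝ᵥ x0 = 0 := hedot h10
  set φ1 := φ χ with hφ1def
  set φ2 := φ χ' with hφ2def
  set μ := φ1 ⬝ᵥ x0 with hμdef
  set b := x1 ⬝ᵥ v with hbdef
  have hμ : μ ≠ 0 := hnoker hχ hχa he0ne
  have hb : b ≠ 0 := fun h => by
    have := hvann (ψ := e1) h
    simp [he1def] at this
  have hφ1v : φ1 ⬝ᵥ v = 0 := hφv hχa
  set Wp := Submodule.span F {x0, v} with hWp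
  have hcoords : ∀ w ∈ Wp, w = ((φ1 ⬝ᵥ w) / μ) • x0 + ((x1 ⬝ᵥ w) / b) • v := by
    intro w hw
    obtain ⟨p, q, rfl⟩ := Submodule.mem_span_pair.mp hw
    simp only [dotProduct_add, dotProduct_smul, smul_eq_mul, hx10, hφ1v, ← hμdef, ← hbdef, mul_zero, add_zero,
      zero_add, mul_div_assoc, div_self hμ, div_self hb, mul_one]
  set L : Submodule F (Fin n → F) := LinearMap.ker (Matrix.mulVecLin (Matrix.of ![x1, φ1, φ2]))
  let G : Subgroup (GL (Fin n) F) :=
    { carrier := {g | g ∈ M ∧ (∀ x, (g : Matrix (Fin n) (Fin n) F) *ᵥ x - x ∈ Wp) ∧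
        ∀ x ∈ L, (g : Matrix (Fin n) (Fin n) F) *ᵥ x = x}
      one_mem' := ⟨M.one_mem, fun x => by rw [one_act, sub_self]; exact Wp.zero_mem, fun x _ => one_act x⟩
      mul_mem' := fun {p q} hp hq => ⟨M.mul_mem hp.1 hq.1, fun x => by
          rw [mul_act, ← sub_add_sub_cancel _ ((q : Matrix (Fin n) (Fin n) F) *ᵥ x) x]
          exact Wp.add_mem (hp.2.1 _) (hq.2.1 x), fun x hx => by rw [mul_act, hq.2.2 x hx, hp.2.2 x hx]⟩
      inv_mem' := fun {p} hp => ⟨M.inv_mem hp.1, fun x => by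
          have := Wp.neg_mem (hp.2.1 (((p⁻¹ : GL (Fin n) F) : Matrix (Fin n) (Fin n) F) *ᵥ x))
          rwa [act_inv_act, neg_sub] at this, fun x hx => by
          conv_lhs => rw [← hp.2.2 x hx]
          rw [inv_act_act]⟩ }
  have hx0W : x0 ∈ Wp := Submodule.subset_span (by simp)
  have hvW : v ∈ Wp := Submodule.subset_span (by simp)
  have hGW : ∀ {p}, p ∈ G → ∀ w ∈ Wp, (p : Matrix (Fin n) (Fin n) F) *ᵥ w ∈ Wp := fun {p} hp w hw => by
    simpa using Wp.add_mem (hp.2.1 w) hw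
  let ρ : GL (Fin n) F → Matrix (Fin 2) (Fin 2) F := fun p =>
    !![(φ1 ⬝ᵥ ((p : Matrix (Fin n) (Fin n) F) *ᵥ x0)) / μ, (φ1 ⬝ᵥ ((p : Matrix (Fin n) (Fin n) F) *ᵥ v)) / μ;
       (x1 ⬝ᵥ ((p : Matrix (Fin n) (Fin n) F) *ᵥ x0)) / b, (x1 ⬝ᵥ ((p : Matrix (Fin n) (Fin n) F) *ᵥ v)) / b]
  have hρmul : ∀ p q, p ∈ G → q ∈ G → ρ (p * q) = ρ p * ρ q := by
    intro p q _ hq
    have key : ∀ (ψ w : Fin n → F), w ∈ Wp →
        ψ ⬝ᵥ ((p : Matrix (Fin n) (Fin n) F) *ᵥ w) =
          (φ1 ⬝ᵥ w) / μ * (ψ ⬝ᵥ ((p : Matrix (Fin n) (Fin n) F) *ᵥ x0)) +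
          (x1 ⬝ᵥ w) / b * (ψ ⬝ᵥ ((p : Matrix (Fin n) (Fin n) F) *ᵥ v)) := fun ψ w hw => by
      conv_lhs => rw [hcoords w hw]
      rw [Matrix.mulVec_add, Matrix.mulVec_smul, Matrix.mulVec_smul, dotProduct_add, dotProduct_smul,
        dotProduct_smul, smul_eq_mul, smul_eq_mul]
    have k0 := fun ψ => key ψ _ (hGW hq x0 hx0W)
    have k1 := fun ψ => key ψ _ (hGW hq v hvW)
    ext i j
    fin_cases i <;> fin_cases j <;> simp [ρ, ← Matrix.mulVec_mulVec, k0, k1, Matrix.mul_apply, Fin.sum_univ_two] <;> ring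
  have hρ1 : ρ 1 = 1 := by
    ext i j
    fin_cases i <;> fin_cases j <;> simp [ρ, hφ1v, hx10, ← hμdef, ← hbdef, hμ, hb]
  let J : Subgroup SL(2, F) :=
    { carrier := {A | ∃ p ∈ G, ρ p = (A : Matrix (Fin 2) (Fin 2) F)}
      one_mem' := ⟨1, G.one_mem, hρ1⟩
      mul_mem' := fun {A B} hA hB => by
        obtain ⟨p, hp, hpA⟩ := hA
        obtain ⟨q, hq, hqB⟩ := hB
        exact ⟨p * q, G.mul_mem hp hq, by rw [hρmul p q hp hq, hpA, hqB]; rfl⟩
      inv_mem' := fun {A} hA => by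
        obtain ⟨p, hp, hpA⟩ := hA
        refine ⟨p⁻¹, G.inv_mem hp, ?_⟩
        have h := hρmul p⁻¹ p (G.inv_mem hp) hp
        rw [inv_mul_cancel, hρ1, hpA] at h
        calc ρ p⁻¹ = ρ p⁻¹ * ((A : Matrix (Fin 2) (Fin 2) F) * ((A⁻¹ : SL(2, F)) : Matrix (Fin 2) (Fin 2) F)) := by
              rw [← Matrix.SpecialLinearGroup.coe_mul, mul_inv_cancel, Matrix.SpecialLinearGroup.coe_one, mul_one]
          _ = _ := by rw [← mul_assoc, ← h, one_mul] }
  have hT0 : tv x0 x1 ∈ G := by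
    refine ⟨hlift h10, fun x => ?_, fun x hx => ?_⟩
    · rw [tv_act hx10, add_sub_cancel_left]; exact Wp.smul_mem _ hx0W
    · rw [tv_act hx10, show x1 ⬝ᵥ x = 0 from congrFun hx 0, zero_smul, add_zero]
  have hTl : ∀ c c' : F₀, tv v (φ (c • χ + c' • χ')) ∈ G ∧
      φ (c • χ + c' • χ') = (c : F) • φ1 + (c' : F) • φ2 := by
    intro c c'
    have he : φ (c • χ + c' • χ') = (c : F) • φ1 + (c' : F) • φ2 := by
      simp only [φ, hφ1def, hφ2def, SubfieldRational.emb_add, SubfieldRational.emb_smul, Matrix.add_vecMul,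
        Matrix.smul_vecMul]
    have ha' : (c • χ + c' • χ') ⬝ᵥ a = 0 := by
      rw [add_dotProduct, smul_dotProduct, smul_dotProduct, hχa, hχ'a, smul_zero, smul_zero, add_zero]
    refine ⟨⟨hT ha', fun x => ?_, fun x hx => ?_⟩, he⟩
    · rw [tv_act (hφv ha'), add_sub_cancel_left]; exact Wp.smul_mem _ hvW
    · rw [tv_act (hφv ha'), he, add_dotProduct, smul_dotProduct, smul_dotProduct,
        show φ1 ⬝ᵥ x = 0 from congrFun hx 1, show φ2 ⬝ᵥ x = 0 from congrFun hx 2]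
      simp
  -- upper elements lift to rational transvections
  set U : Submodule F (Fin n → F) := Submodule.span F (Set.range ![x1, φ1, φ2]) ⊓
    LinearMap.ker ((dotProductBilin F F).flip x0)
  let W0 : Submodule F₀ (Fin n → F₀) :=
    { carrier := {ψ | emb ψ ∈ U}
      zero_mem' := by
        show emb (0 : Fin n → F₀) ∈ U
        rw [SubfieldRational.emb_zero]; exact U.zero_mem
      add_mem' := fun {p q} hp hq => by
        show emb (p + q) ∈ U
        rw [SubfieldRational.emb_add]; exact U.add_mem hp hq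
      smul_mem' := fun c p hp => by
        show emb (c • p) ∈ U
        rw [SubfieldRational.emb_smul]; exact U.smul_mem _ hp }
  have hlift_up : ∀ t : F, QuadPairSL2.up t ∈ J → ∃ ψ ∈ W0, emb ψ ⬝ᵥ v = t := by
    rintro t ⟨p, hp, hpt⟩
    have h00 := congrFun (congrFun hpt 0) 0
    have h01 := congrFun (congrFun hpt 0) 1
    have h10' := congrFun (congrFun hpt 1) 0
    have h11 := congrFun (congrFun hpt 1) 1
    simp [ρ, QuadPairSL2.up] at h00 h01 h10' h11
    have hp0 : (p : Matrix (Fin n) (Fin n) F) *ᵥ x0 = x0 := by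
      rw [hcoords _ (hGW hp x0 hx0W), h00, (show x1 ⬝ᵥ _ / b = 0 by simpa using h10'), one_smul, zero_smul,
        add_zero]
    have hpv : (p : Matrix (Fin n) (Fin n) F) *ᵥ v = t • x0 + v := by
      rw [hcoords _ (hGW hp v hvW), h01, h11, one_smul]
    set δ := x1 ᵥ* (p : Matrix (Fin n) (Fin n) F) - x1 with hδdef
    have hδ : ∀ x, δ ⬝ᵥ x = x1 ⬝ᵥ ((p : Matrix (Fin n) (Fin n) F) *ᵥ x - x) := fun x => by
      rw [hδdef, sub_dotProduct, dotProduct_sub, Matrix.dotProduct_mulVec]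
    have hδ0 : δ ⬝ᵥ x0 = 0 := by rw [hδ, hp0, sub_self, dotProduct_zero]
    have hδv : δ ⬝ᵥ v = 0 := by
      rw [hδ, hpv, add_sub_cancel_right, dotProduct_smul, hx10, smul_zero]
    have hk : tv x0 x1 * p = tv x0 δ * (p * tv x0 x1) := gl_ext fun x => by
      simp only [mul_act, tv_act hx10, tv_act hδ0, Matrix.mulVec_add, Matrix.mulVec_smul, hp0, dotProduct_add,
        dotProduct_smul, hδ0, hδ, Matrix.mulVec_add, dotProduct_sub, hx10, smul_eq_mul]
      have hq : x1 ⬝ᵥ ((p : Matrix (Fin n) (Fin n) F) *ᵥ ((p : Matrix (Fin n) (Fin n) F) *ᵥ x - x)) =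
          x1 ⬝ᵥ ((p : Matrix (Fin n) (Fin n) F) *ᵥ x - x) := by
        rw [hcoords _ (hp.2.1 x), Matrix.mulVec_add, Matrix.mulVec_smul, Matrix.mulVec_smul, hp0, hpv]
        simp only [dotProduct_add, dotProduct_smul, hx10, smul_eq_mul]
        ring
      rw [Matrix.mulVec_sub, dotProduct_sub, dotProduct_sub] at hq
      linear_combination (norm := module) -(congrArg (· • x0) hq)
    have hδM : tv x0 δ ∈ M := by
      have h1 := M.mul_mem (M.mul_mem hT0.1 hp.1) (M.inv_mem (M.mul_mem hp.1 hT0.1))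
      rwa [hk, mul_inv_cancel_right] at h1
    have hδz : δ = 0 := by
      have h2 := A1 he0ne hδ0 hδM
      have h3 : δ = emb (fun i => (⟨δ i, h2 i⟩ : F₀)) := rfl
      rw [h3] at hδv ⊢
      rw [hvann hδv, SubfieldRational.emb_zero]
    set α := μ⁻¹ • (φ1 ᵥ* (p : Matrix (Fin n) (Fin n) F) - φ1) with hαdef
    have hpx : ∀ x, (p : Matrix (Fin n) (Fin n) F) *ᵥ x = x + (α ⬝ᵥ x) • x0 := fun x => by
      have h1 := hcoords _ (hp.2.1 x)
      have h2 : x1 ⬝ᵥ ((p : Matrix (Fin n) (Fin n) F) *ᵥ x - x) = 0 := by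
        rw [← hδ, hδz, zero_dotProduct]
      rw [h2, zero_div, zero_smul, add_zero, sub_eq_iff_eq_add] at h1
      rw [hαdef, smul_dotProduct, sub_dotProduct, ← Matrix.dotProduct_mulVec, smul_eq_mul, ← dotProduct_sub,
        ← div_eq_inv_mul, add_comm]
      exact h1
    have hα0 : α ⬝ᵥ x0 = 0 := by
      have h1 := hpx x0
      rw [hp0, eq_comm, add_eq_left, smul_eq_zero] at h1
      exact h1.resolve_right (emb_ne he0ne)
    have hαv : α ⬝ᵥ v = t := by
      have h1 := hpx v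
      rw [hpv, add_comm, add_right_inj] at h1
      by_contra hne
      exact emb_ne he0ne ((smul_eq_zero.mp (show (α ⬝ᵥ v - t) • x0 = 0 by
        rw [sub_smul, h1, sub_self])).resolve_left (sub_ne_zero.mpr hne))
    have hαM : tv x0 α ∈ M := by
      rw [← tv_eq_of_act hα0 hpx]; exact hp.1
    have h2 := A1 he0ne hα0 hαM
    refine ⟨fun i => ⟨α i, h2 i⟩, ⟨?_, hα0⟩, hαv⟩
    show α ∈ Submodule.span F (Set.range ![x1, φ1, φ2])
    by_contra hn'
    obtain ⟨x, hx1', hx2'⟩ := exists_sep hn'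
    have hxL : x ∈ L := funext fun i => by
      show (Matrix.of ![x1, φ1, φ2] *ᵥ x) i = 0
      rw [Matrix.mulVec, dotProduct_comm]
      exact hx2' _ (Submodule.subset_span ⟨i, rfl⟩)
    have h4 := hpx x
    rw [hp.2.2 x hxL, eq_comm, add_eq_left, smul_eq_zero] at h4
    rcases h4 with h4 | h4
    · rw [dotProduct_comm, h4] at hx1'; exact zero_ne_one hx1'
    · exact emb_ne he0ne h4
  -- counting
  haveI : Fintype F₀ := Fintype.ofFinite _
  have hW0 : Module.finrank F₀ W0 ≤ 2 := by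
    have h1 : Module.finrank F U ≤ 2 := by
      have h2 : U < Submodule.span F (Set.range ![x1, φ1, φ2]) := lt_of_le_of_ne inf_le_left fun he => by
        have h3 : φ1 ∈ U := he.symm ▸ Submodule.subset_span ⟨1, rfl⟩
        exact hμ h3.2
      have h4 := Submodule.finrank_lt_finrank_of_lt h2
      have h5 := fr_range ![x1, φ1, φ2]
      omega
    let B := Module.finBasis F₀ W0
    have hli := emb_linearIndependent (x := fun j => ((B j : W0) : Fin n → F₀))
      (B.linearIndependent.map' W0.subtype (Submodule.ker_subtype _))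
    have hspan := finrank_span_eq_card hli
    rw [Fintype.card_fin] at hspan
    have h6 := Submodule.finrank_mono (Submodule.span_le.mpr (show Set.range (fun j =>
      (emb ((B j : W0) : Fin n → F₀) : Fin n → F)) ⊆ U from by rintro _ ⟨j, rfl⟩; exact (B j).2))
    omega
  have hq : 1 < Nat.card F₀ := Finite.one_lt_card
  have hup : Nat.card {t : F // QuadPairSL2.up t ∈ J} ≤ Nat.card F₀ ^ 2 := by
    choose ψ hψW hψv using fun t : {t : F // QuadPairSL2.up t ∈ J} => hlift_up t.1 t.2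
    calc Nat.card {t : F // QuadPairSL2.up t ∈ J} ≤ Nat.card W0 :=
          Nat.card_le_card_of_injective (fun t => (⟨ψ t, hψW t⟩ : W0)) fun s t h => by
            have h' : ψ s = ψ t := congrArg Subtype.val h
            exact Subtype.ext (by rw [← hψv s, ← hψv t, h'])
      _ = Nat.card F₀ ^ Module.finrank F₀ W0 := Module.natCard_eq_pow_finrank
      _ ≤ _ := Nat.pow_le_pow_right (by omega) hW0
  have hfin : Module.finrank F₀ F = r := by
    refine Nat.pow_right_injective (Finite.one_lt_card (α := F₀)) ?_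
    simp only
    rw [← hcard, ← Nat.card_eq_fintype_card]
    exact (Module.natCard_eq_pow_finrank (K := F₀) (V := F)).symm
  have hrn : n - 1 ≤ r := by
    let Lmap : (Fin n → F₀) →ₗ[F₀] F :=
      { toFun := fun u => φ1 ⬝ᵥ emb u
        map_add' := fun u w => by rw [SubfieldRational.emb_add, dotProduct_add]
        map_smul' := fun c u => by
          rw [SubfieldRational.emb_smul, dotProduct_smul, RingHom.id_apply, Subfield.smul_def] }
    have hinj : Function.Injective Lmap := by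
      rw [← LinearMap.ker_eq_bot, LinearMap.ker_eq_bot']
      intro u hu
      by_contra h0
      exact hnoker hχ hχa h0 hu
    have := LinearMap.finrank_le_finrank_of_injective hinj
    rw [Module.finrank_fin_fun, hfin] at this
    omega
  have hodd : Odd r := hr.odd_of_ne_two (by omega)
  have hlo : Nat.card F₀ ^ 2 ≤ Nat.card {s : F // QuadPairSL2.lo s ∈ J} := by
    have hmem : ∀ c : F₀ × F₀, QuadPairSL2.lo ((c.1 : F) * μ + (c.2 : F) * (φ2 ⬝ᵥ x0)) ∈ J := by
      intro c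
      obtain ⟨hG, he⟩ := hTl c.1 c.2
      refine ⟨_, hG, ?_⟩
      have hd : φ (c.1 • χ + c.2 • χ') ⬝ᵥ v = 0 := by
        rw [he, add_dotProduct, smul_dotProduct, smul_dotProduct, hφ1v, show φ2 ⬝ᵥ v = 0 from hφv hχ'a]
        simp
      ext i j
      fin_cases i <;> fin_cases j <;> simp only [ρ, tv_act hd] <;>
        simp [QuadPairSL2.lo, hφ1v, hx10, ← hμdef, ← hbdef, hμ, hb,
          dotProduct_add, he, add_dotProduct, show φ2 ⬝ᵥ v = 0 from hφv hχ'a]
    rw [sq, ← Nat.card_prod]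
    refine Nat.card_le_card_of_injective (fun c => ⟨_, hmem c⟩) fun c d h => ?_
    have h' : (c.1 : F) * μ + (c.2 : F) * (φ2 ⬝ᵥ x0) = (d.1 : F) * μ + (d.2 : F) * (φ2 ⬝ᵥ x0) :=
      congrArg Subtype.val h
    have hz : (c.1 - d.1) • χ + (c.2 - d.2) • χ' = 0 := by
      by_contra h0
      refine hnoker h0 ?_ he0ne ?_
      · rw [add_dotProduct, smul_dotProduct, smul_dotProduct, hχa, hχ'a, smul_zero, smul_zero, add_zero]
      · rw [(hTl _ _).2, add_dotProduct, smul_dotProduct, smul_dotProduct, ← hx0def, ← hμdef, smul_eq_mul,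
          smul_eq_mul]
        push_cast
        linear_combination h'
    have h2 : c.2 - d.2 = 0 := by
      by_contra h0
      refine hχ'n (Submodule.mem_span_singleton.mpr ⟨-((c.2 - d.2)⁻¹ * (c.1 - d.1)), ?_⟩)
      have h3 := congrArg (fun z => (c.2 - d.2)⁻¹ • z) hz
      simp only [smul_add, smul_smul, inv_mul_cancel₀ h0, one_smul, smul_zero] at h3
      rw [neg_smul]
      exact (eq_neg_of_add_eq_zero_right h3).symm
    rw [h2, zero_smul, add_zero, smul_eq_zero] at hz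
    exact Prod.ext (sub_eq_zero.mp (hz.resolve_right hχ)) (sub_eq_zero.mp h2)
  have hupb : QuadPairSL2.up b ∈ J := by
    refine ⟨_, hT0, ?_⟩
    ext i j
    fin_cases i <;> fin_cases j <;>
      simp [ρ, tv_act hx10, QuadPairSL2.up, hφ1v, hx10, ← hμdef, ← hbdef, hμ, hb, dotProduct_add]
  exact SL2SylowSubfield.contra J hq hodd (by rw [Nat.card_eq_fintype_card, hcard]) hb hupb hup hlo

/-- For a finite field F, a subfield F₀ with |F| = |F₀| ^ r for a prime r, and n ≥ 4, the subfield group (the conjugate by any P of the product of GL_n(F₀) with the non-zero scalars of F, intersected with SL_n(F)) is a maximal subgroup of SL_n(F). -/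
theorem isMaximalIn_stab {F : Type*} [Field F] [Fintype F] (n : ℕ) (hn : 4 ≤ n) (F₀ : Subfield F) (r : ℕ) (hr : r.Prime) (hcard : Fintype.card F = Nat.card F₀ ^ r) (P : Matrix.GeneralLinearGroup (Fin n) F) : Cfsg.Geo.IsMaximalIn (Cfsg.Geo.specialLinear (Fin n) F) (Cfsg.Geo.subfieldSubgroup F₀ P ⊓ Cfsg.Geo.specialLinear (Fin n) F) := by
  have hSL : (Cfsg.Geo.specialLinear (Fin n) F).map (MulAut.conj P).toMonoidHom =
      Cfsg.Geo.specialLinear (Fin n) F := by
    ext g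
    constructor
    · rintro ⟨x, hx, rfl⟩
      exact (MonoidHom.normal_ker _).conj_mem x hx P
    · intro hg
      refine ⟨P⁻¹ * g * P, ?_, by simp [mul_assoc]⟩
      simpa [Cfsg.Geo.specialLinear] using (MonoidHom.normal_ker _).conj_mem g hg P⁻¹
  have hX : (Cfsg.Geo.subfieldSubgroup F₀ (1 : GL (Fin n) F)).map (MulAut.conj P).toMonoidHom =
      Cfsg.Geo.subfieldSubgroup F₀ P := by
    rw [Cfsg.Geo.subfieldSubgroup, Cfsg.Geo.subfieldSubgroup, Subgroup.map_map]
    congr 1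
    ext x
    simp
  have h := maximal_map (MulAut.conj P) (main hn hr hcard)
  rw [Subgroup.map_inf _ _ _ (MulAut.conj P).injective, hX, hSL] at h
  exact h

end Cfsg.Agent.LinSubfieldFour77
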