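import Cfsg.Agent.Lib.LinSympMax97

/-! LinSympMax97.isMaximalIn_stab at the bound n ≥ 4 that its argument supports. -/

set_option autoImplicit false
open Cfsg

namespace Cfsg.Agent.LinSympFour77

open Cfsg.Agent.TransvectionMax Cfsg.Agent.LinSympMax97
open scoped MatrixGroups Matrix

/-- For a finite field F and n ≥ 4, let f be a non-degenerate symplectic form on F^n (so n is even). Then the elements of SL_n(F) that are similarities of f (f(gu, gv) = c f(u, v) for a non-zero scalar c depending on g) form a maximal subgroup of SL_n(F). -/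
theorem isMaximalIn_stab {F : Type*} [Field F] [Fintype F] (n : ℕ) (hn : 4 ≤ n) (f : (Fin n → F) → (Fin n → F) → F) (hf : Cfsg.Geo.IsSymplecticForm f) : Cfsg.Geo.IsMaximalIn (Cfsg.Geo.specialLinear (Fin n) F) (Cfsg.Geo.similarityGroup f ⊓ Cfsg.Geo.specialLinear (Fin n) F) := by
  have hb := hf.bilinear
  have hsim : ∀ u c, st f u c ∈ Cfsg.Geo.similarityGroup f := fun u c =>
    ⟨1, fun x y => by rw [st_preserves hf, Units.val_one, one_mul]⟩
  set H := Cfsg.Geo.similarityGroup f ⊓ Cfsg.Geo.specialLinear (Fin n) F with hH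
  have hstH : ∀ u c, st f u c ∈ H := fun u c => ⟨hsim u c, ft_mem_sl f u _⟩
  refine ⟨lt_of_le_of_ne inf_le_right ?_, ?_⟩
  · intro he
    -- a transvection that is not a similarity
    obtain ⟨u, hu⟩ : ∃ u : Fin n → F, u ≠ 0 :=
      ⟨Pi.single ⟨0, by omega⟩ 1, by simp⟩
    obtain ⟨a, hua, ha⟩ : ∃ a, f u a = 0 ∧ ∀ c : F, a ≠ c • u := by
      by_contra! hcon
      have hle : LinearMap.ker (fRight hb u) ≤ Submodule.span F {u} := fun a ha => by
        obtain ⟨c, hc⟩ := hcon a ha
        exact Submodule.mem_span_singleton.mpr ⟨c, hc.symm⟩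
      have h1 := Submodule.finrank_mono hle
      rw [finrank_span_singleton hu] at h1
      have h2 := LinearMap.finrank_range_add_finrank_ker (fRight hb u)
      have h3 : Module.finrank F (LinearMap.range (fRight hb u)) ≤ Module.finrank F F :=
        Submodule.finrank_le _
      rw [Module.finrank_self] at h3
      rw [Module.finrank_fin_fun] at h2
      omega
    have hmem : ft f u a ∈ H := he.symm ▸ ft_mem_sl f u a
    obtain ⟨c, hc⟩ := hmem.1
    obtain ⟨x, hxa, hxu⟩ : ∃ x, f x a = 0 ∧ f x u ≠ 0 := by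
      by_contra! hcon
      have ha0 : a ≠ 0 := by simpa using ha 0
      obtain ⟨d, hd⟩ := eq_smul_of_perp_le hf ha0 hcon
      rcases eq_or_ne d 0 with rfl | hd0
      · exact hu (by simpa using hd)
      · exact ha d⁻¹ (by rw [hd, smul_smul, inv_mul_cancel₀ hd0, one_smul])
    have hc1 : (c : F) = 1 := by
      have h1 := hc x u
      rw [ft_act hb hua, ft_act hb hua, hxa, hua, zero_smul, add_zero, add_zero] at h1
      exact mul_right_cancel₀ hxu (by rw [one_mul]; exact h1.symm)
    obtain ⟨y, hy⟩ := (hf.nondegenerate a (by simpa using ha 0)).1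
    have h1 := hc x y
    rw [ft_act hb hua, ft_act hb hua, hxa, zero_smul, add_zero, hb.add_right, hb.smul_right, hc1,
      one_mul, add_eq_left, mul_eq_zero] at h1
    rcases h1 with h1 | h1
    · exact hy h1
    · exact hxu h1
  · intro M hHM hMSL
    by_cases hMH : M ≤ Cfsg.Geo.similarityGroup f
    · exact Or.inl (le_antisymm (le_inf hMH hMSL) hHM)
    refine Or.inr (le_antisymm hMSL ?_)
    obtain ⟨g, hgM, hgn⟩ := Set.not_subset.mp hMH
    have hst : ∀ u c, st f u c ∈ M := fun u c => hHM (hstH u c)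
    -- a conjugate of a symplectic transvection gives a new root element
    obtain ⟨u, a, hu, hua, ha, hm⟩ : ∃ u a, u ≠ 0 ∧ f u a = 0 ∧ (∀ c : F, a ≠ c • u) ∧ ft f u a ∈ M := by
      by_contra! hcon
      apply hgn
      have hlam : ∀ v, v ≠ 0 → ∃ l : F, ∀ x,
          f x v = l * f ((g : Matrix (Fin n) (Fin n) F) *ᵥ x) ((g : Matrix (Fin n) (Fin n) F) *ᵥ v) := by
        intro v hv
        obtain ⟨a, ha⟩ := exists_row hb hf.nondegenerate
          (Matrix.vecMul (row f v) ((g⁻¹ : GL (Fin n) F) : Matrix (Fin n) (Fin n) F))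
        simp only [← Matrix.dotProduct_mulVec, row_dot hb] at ha
        have hua : f ((g : Matrix (Fin n) (Fin n) F) *ᵥ v) a = 0 := by
          rw [← ha, inv_act_act, hf.alternating]
        have hconj : g * st f v 1 * g⁻¹ = ft f ((g : Matrix (Fin n) (Fin n) F) *ᵥ v) a := by
          refine gl_ext fun x => ?_
          rw [mul_act, mul_act, st_act hf, one_mul, ft_act hb hua, Matrix.mulVec_add,
            Matrix.mulVec_smul, act_inv_act, ha]
        by_contra hno
        refine hcon _ a (act_ne_zero g hv) hua ?_ (hconj ▸ M.mul_mem (M.mul_mem hgM (hst v 1)) (M.inv_mem hgM))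
        intro c hc
        apply hno
        refine ⟨c, fun x => ?_⟩
        have := ha ((g : Matrix (Fin n) (Fin n) F) *ᵥ x)
        rw [inv_act_act, hc, hb.smul_right] at this
        exact this
      -- the factor does not depend on the vector
      choose! l hl using hlam
      have heq : ∀ v w, v ≠ 0 → w ≠ 0 → f v w ≠ 0 → l v = l w := by
        intro v w hv hw hvw
        have h1 := hl w hw v
        have h2 := hl v hv w
        rw [hf.skew w v, hf.skew ((g : Matrix (Fin n) (Fin n) F) *ᵥ w), mul_neg, neg_inj] at h2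
        have hne : f ((g : Matrix (Fin n) (Fin n) F) *ᵥ v) ((g : Matrix (Fin n) (Fin n) F) *ᵥ w) ≠ 0 := by
          intro h0
          rw [h0, mul_zero] at h1
          exact hvw h1
        exact mul_right_cancel₀ hne (h2.symm.trans h1)
      have hall : ∀ v w, v ≠ 0 → w ≠ 0 → l v = l w := by
        intro v w hv hw
        obtain ⟨z, hzv, hzw⟩ := exists_common hf hv hw
        have hz : z ≠ 0 := fun h => hzv (by rw [h, zero_left hb])
        rw [← heq z v hz hv hzv, heq z w hz hw hzw]
      have he0 : (Pi.single ⟨0, by omega⟩ 1 : Fin n → F) ≠ 0 := by simp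
      set e0 : Fin n → F := Pi.single ⟨0, by omega⟩ 1
      have hl0 : l e0 ≠ 0 := by
        intro h0
        obtain ⟨x, hx⟩ := (hf.nondegenerate e0 he0).1
        exact hx (by rw [hl e0 he0 x, h0, zero_mul])
      refine ⟨(Units.mk0 (l e0) hl0)⁻¹, fun x v => ?_⟩
      rcases eq_or_ne v 0 with rfl | hv
      · simp [zero_right hb]
      · rw [hl v hv x, hall v e0 hv he0, Units.val_inv_eq_inv_val, Units.val_mk0,
          inv_mul_cancel_left₀ hl0]
    refine specialLinear_le fun v φ hφ => ?_
    obtain ⟨b, hbφ⟩ := exists_row hb hf.nondegenerate φ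
    rcases eq_or_ne v 0 with rfl | hv
    · have h1 : tv (0 : Fin n → F) φ = 1 := gl_ext fun x => by
        rw [tv_act hφ, one_act, smul_zero, add_zero]
      rw [h1]
      exact M.one_mem
    have hvb : f v b = 0 := by rw [← hbφ, hφ]
    have heq : tv v φ = ft f v b :=
      gl_ext fun x => by rw [tv_act hφ, ft_act hb hvb, hbφ]
    rw [heq]
    obtain ⟨h, hhM, hiso, hhv⟩ := exists_move hf hst hu hv
    have hb' : f u (((h⁻¹ : GL (Fin n) F) : Matrix (Fin n) (Fin n) F) *ᵥ b) = 0 := by
      rw [← hiso, act_inv_act, hhv, hvb]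
    have := ft_conj hb hiso hb'
    rw [hhv, act_inv_act] at this
    rw [← this]
    exact M.mul_mem (M.mul_mem hhM (full_at hf hst hu hua ha hm hb')) (M.inv_mem hhM)

end Cfsg.Agent.LinSympFour77
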