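import Cfsg.Agent.Lib.LinThreeDecompLine38
import Cfsg.Agent.Lib.LinFourDecompMono38

/-!
A non-monomial overgroup of the monomial group of SL_3 (q ≥ 5) contains a full transvection root group.
-/

set_option autoImplicit false
set_option linter.unusedSectionVars false

namespace Cfsg.Agent.LinThreeDecompMono38

open Cfsg.Agent.TransvectionMax Cfsg.Agent.DecompMaxBasic Cfsg.Agent.DecompMaxLift
open Cfsg.Agent.LinThreeDecompLine38
open scoped MatrixGroups Matrix

variable {F : Type*} [Field F] [Fintype F]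

theorem fix_perm {σ : Equiv.Perm (Fin 3)} {q j : Fin 3} (h : σ q = q) (hne : σ ≠ 1) (hj : j ≠ q) : σ j ≠ j := by
  revert σ q j; decide

theorem exists_col (p : Fin 3) (σ : Equiv.Perm (Fin 3)) : ∃ b, b ≠ p ∧ σ b ≠ p := by
  revert p σ; decide

theorem exists_other (q : Fin 3) : ∃ j k : Fin 3, q ≠ j ∧ q ≠ k ∧ j ≠ k := by
  revert q; decide

/-- A unit whose sixth power is not 1. -/
theorem exists_six (hq : 5 ≤ Fintype.card F) (h7 : Fintype.card F ≠ 7) : ∃ l : Fˣ, (l : F) ^ 6 ≠ 1 := by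
  classical
  obtain ⟨l, hl⟩ := IsCyclic.exists_generator (α := Fˣ)
  have ho : orderOf l = Fintype.card F - 1 := by
    rw [orderOf_eq_card_of_forall_mem_zpowers hl, Nat.card_eq_fintype_card, Fintype.card_units]
  refine ⟨l, fun h => ?_⟩
  have h1 : orderOf l ∣ 6 := orderOf_dvd_of_pow_eq_one (Units.ext (by simpa using h))
  have := Nat.le_of_dvd (by norm_num) h1
  rw [ho] at h1
  rcases (show Fintype.card F - 1 = 4 ∨ Fintype.card F - 1 = 5 by omega) with e | e <;> rw [e] at h1 <;> omega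

/-- In the field with seven elements there is a unit with cube −1. -/
theorem exists_cube_neg (h7 : Fintype.card F = 7) : ∃ l : Fˣ, (l : F) ^ 3 = -1 := by
  classical
  obtain ⟨l, hl⟩ := IsCyclic.exists_generator (α := Fˣ)
  have ho : orderOf l = Fintype.card F - 1 := by
    rw [orderOf_eq_card_of_forall_mem_zpowers hl, Nat.card_eq_fintype_card, Fintype.card_units]
  have h6 : ((l : F) ^ 3) * ((l : F) ^ 3) = 1 := by
    rw [← pow_add]
    have := congrArg Units.val (show l ^ 6 = 1 by rw [show 6 = orderOf l by omega]; exact pow_orderOf_eq_one l)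
    simpa using this
  refine ⟨l, (mul_self_eq_one_iff.mp h6).resolve_left fun h => ?_⟩
  have h1 : orderOf l ∣ 3 := orderOf_dvd_of_pow_eq_one (Units.ext (by simpa using h))
  rw [ho, h7] at h1
  norm_num at h1

/-- The element of the field with seven elements excluded by the rank-one test. -/
theorem seven_false : ∀ a b : ZMod 7, ¬ ((3 + a) ^ 3 = b ^ 3 ∧ (3 + a) ^ 3 = (1 - a - b) ^ 3 ∧
    (3 + b) ^ 3 = a ^ 3 ∧ (3 + b) ^ 3 = (1 - a - b) ^ 3 ∧
    (3 + (1 - a - b)) ^ 3 = a ^ 3 ∧ (3 + (1 - a - b)) ^ 3 = b ^ 3) := by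
  decide

variable {M : Subgroup (GL (Fin 3) F)}

/-- The standing hypotheses: monomial overgroup in which no non-monomial element has a column with one entry. -/
structure Bad3 (M : Subgroup (GL (Fin 3) F)) : Prop where
  toOver : Over M
  line : ∀ y ∈ M, ∀ (p q : Fin 3) (c : F),
    (y : Matrix (Fin 3) (Fin 3) F) *ᵥ Pi.single q (1 : F) = c • Pi.single p (1 : F) → Mono y

/-- Fixed points of a monomial conjugate of a diagonal element. -/
theorem mono_fixed {g : GL (Fin 3) F} {δ d : Fin 3 → Fˣ} {σ : Equiv.Perm (Fin 3)} (h : g * dg δ * g⁻¹ = mn σ d)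
    {i : Fin 3} (hi : σ i = i) {c : Fin 3} (hc : (g : Matrix (Fin 3) (Fin 3) F) i c ≠ 0) : δ c = d i := by
  have h1 : g * dg δ = mn σ d * g := by rw [← h]; group
  have h2 := congrFun (congrArg (fun u : GL (Fin 3) F => (u : Matrix (Fin 3) (Fin 3) F) *ᵥ Pi.single c (1 : F)) h1) i
  simp only [mul_act] at h2
  conv_rhs at h2 => rw [mn_act, (Equiv.symm_apply_eq σ).mpr hi.symm, mulVec_single (g : Matrix (Fin 3) (Fin 3) F)]
  rw [dg, mn_single, Equiv.Perm.one_apply, Matrix.mulVec_smul, mulVec_single (g : Matrix (Fin 3) (Fin 3) F),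
    Pi.smul_apply, smul_eq_mul] at h2
  exact Units.ext (mul_right_cancel₀ hc h2)

/-- Without fixed points the trace vanishes. -/
theorem mono_trace {g : GL (Fin 3) F} {δ d : Fin 3 → Fˣ} {σ : Equiv.Perm (Fin 3)} (h : g * dg δ * g⁻¹ = mn σ d)
    (hfix : ∀ i, σ i ≠ i) : ∑ i, (δ i : F) = 0 := by
  have htr := congrArg (fun u : GL (Fin 3) F => (u : Matrix (Fin 3) (Fin 3) F).trace) h
  have hL : ((g * dg δ * g⁻¹ : GL (Fin 3) F) : Matrix (Fin 3) (Fin 3) F).trace = ∑ i, (δ i : F) := by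
    rw [Units.val_mul, Units.val_mul, Matrix.trace_mul_cycle, Units.inv_mul, one_mul, dg_val,
      Matrix.trace_diagonal]
  have hR : (mn σ d : Matrix (Fin 3) (Fin 3) F).trace = 0 := Finset.sum_eq_zero fun i _ => by
    rw [Matrix.diag_apply, ← congrFun (mulVec_single (mn σ d : Matrix (Fin 3) (Fin 3) F) i) i, mn_single]
    simp [Ne.symm (hfix i)]
  simp only [hL, hR] at htr
  exact htr

theorem conj_entry (g : GL (Fin 3) F) (δ : Fin 3 → Fˣ) {o k l : Fin 3} (h1 : o ≠ k) (h2 : o ≠ l) (h3 : k ≠ l)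
    (p q : Fin 3) : ((g * dg δ * g⁻¹ : GL (Fin 3) F) : Matrix (Fin 3) (Fin 3) F) p q =
      δ o * ((g : Matrix (Fin 3) (Fin 3) F) p o * ((g⁻¹ : GL (Fin 3) F) : Matrix (Fin 3) (Fin 3) F) o q) +
      (δ k * ((g : Matrix (Fin 3) (Fin 3) F) p k * ((g⁻¹ : GL (Fin 3) F) : Matrix (Fin 3) (Fin 3) F) k q) +
      δ l * ((g : Matrix (Fin 3) (Fin 3) F) p l * ((g⁻¹ : GL (Fin 3) F) : Matrix (Fin 3) (Fin 3) F) l q)) := by
  rw [Units.val_mul, Matrix.mul_apply, sum3 h1 h2 h3]
  simp only [mul_dg_apply]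
  ring

theorem prod_inv_entry (g : GL (Fin 3) F) {o k l : Fin 3} (h1 : o ≠ k) (h2 : o ≠ l) (h3 : k ≠ l)
    {p q : Fin 3} (hpq : p ≠ q) :
    (g : Matrix (Fin 3) (Fin 3) F) p o * ((g⁻¹ : GL (Fin 3) F) : Matrix (Fin 3) (Fin 3) F) o q +
      ((g : Matrix (Fin 3) (Fin 3) F) p k * ((g⁻¹ : GL (Fin 3) F) : Matrix (Fin 3) (Fin 3) F) k q +
      (g : Matrix (Fin 3) (Fin 3) F) p l * ((g⁻¹ : GL (Fin 3) F) : Matrix (Fin 3) (Fin 3) F) l q) = 0 := by
  rw [← sum3 h1 h2 h3 (fun i => (g : Matrix (Fin 3) (Fin 3) F) p i *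
    ((g⁻¹ : GL (Fin 3) F) : Matrix (Fin 3) (Fin 3) F) i q), ← Matrix.mul_apply, Units.mul_inv,
    Matrix.one_apply_ne hpq]

variable (hB : Bad3 M)
include hB

/-- The torus element attached to a zero entry and its action. -/
theorem zero_elt {g : GL (Fin 3) F} (hg : g ∈ M) {z q : Fin 3}
    (hz : (g : Matrix (Fin 3) (Fin 3) F) z q = 0) (l : Fˣ) :
    ∃ (σ : Equiv.Perm (Fin 3)) (d : Fin 3 → Fˣ), σ q = q ∧ (d q : F) = l ∧
      (∀ x, (mn σ d : Matrix (Fin 3) (Fin 3) F) *ᵥ x =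
        (l : F) • x + ((((l : F) ^ 2)⁻¹ - l) * ((g : Matrix (Fin 3) (Fin 3) F) *ᵥ x) z) •
          (((g⁻¹ : GL (Fin 3) F) : Matrix (Fin 3) (Fin 3) F) *ᵥ Pi.single z (1 : F))) := by
  classical
  obtain ⟨r, hrz⟩ := exists_ne z
  obtain ⟨t, htz, htr⟩ := exists_third z r
  set δ := d3 z r (l * l)⁻¹ l l with hδ
  have hd := dg3_mem hB.toOver hrz.symm htz.symm htr.symm (a := (l * l)⁻¹) (b := l) (c := l)
    (by rw [mul_assoc, inv_mul_cancel])
  set y := g⁻¹ * dg δ * g with hy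
  have hyx : ∀ x, (y : Matrix (Fin 3) (Fin 3) F) *ᵥ x = (l : F) • x +
      ((((l : F) ^ 2)⁻¹ - l) * ((g : Matrix (Fin 3) (Fin 3) F) *ᵥ x) z) •
          (((g⁻¹ : GL (Fin 3) F) : Matrix (Fin 3) (Fin 3) F) *ᵥ Pi.single z (1 : F)) := fun x => by
    refine act_injective g ?_
    simp only [hy, mul_act, act_inv_act, Matrix.mulVec_add, Matrix.mulVec_smul]
    funext i
    simp only [Pi.add_apply, Pi.smul_apply, smul_eq_mul, dg_act]
    rcases eq_or_ne i z with rfl | hi
    · simp [hδ, d3]; ring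
    · have : δ i = l := by rcases cases3 hrz.symm htz.symm htr.symm i with h | h | h <;> simp_all [d3]
      simp [this, hi]
  have hfix : (y : Matrix (Fin 3) (Fin 3) F) *ᵥ Pi.single q (1 : F) = (l : F) • Pi.single q (1 : F) := by
    rw [hyx, mulVec_single (g : Matrix (Fin 3) (Fin 3) F)]
    dsimp only
    rw [hz, mul_zero, zero_smul, add_zero]
  obtain ⟨σ, d, hσ⟩ := hB.line y (M.mul_mem (M.mul_mem (M.inv_mem hg) hd) hg) q q l hfix
  rw [hσ, mn_single] at hfix
  have hσq : σ q = q := by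
    by_contra h
    have := congrFun hfix (σ q)
    simp [h] at this
  rw [hσq] at hfix
  exact ⟨σ, d, hσq, by simpa using congrFun hfix q, fun x => by rw [← hσ, hyx]⟩

/-- The zero entry forces the torus element to be a transposition. -/
theorem zero_perm {g : GL (Fin 3) F} (hg : g ∈ M) (hgm : ¬ Mono g) {z q : Fin 3}
    (hz : (g : Matrix (Fin 3) (Fin 3) F) z q = 0) {l : Fˣ} (hl : (l : F) ^ 3 ≠ 1) {σ : Equiv.Perm (Fin 3)}
    {d : Fin 3 → Fˣ}
    (hx : ∀ x, (mn σ d : Matrix (Fin 3) (Fin 3) F) *ᵥ x =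
        (l : F) • x + ((((l : F) ^ 2)⁻¹ - l) * ((g : Matrix (Fin 3) (Fin 3) F) *ᵥ x) z) •
          (((g⁻¹ : GL (Fin 3) F) : Matrix (Fin 3) (Fin 3) F) *ᵥ Pi.single z (1 : F))) : σ ≠ 1 := by
  rintro rfl
  obtain ⟨j, hj⟩ : ∃ j, (g : Matrix (Fin 3) (Fin 3) F) z j ≠ 0 := by
    by_contra! h
    have := congrFun (act_inv_act g (Pi.single z (1 : F))) z
    simp [Matrix.mulVec, dotProduct, h] at this
  have ha : ((l : F) ^ 2)⁻¹ - l ≠ 0 := fun e => hl (by
    have hl0 := l.ne_zero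
    field_simp at e
    linear_combination -e)
  refine hgm (inv_inv g ▸ mono_inv (hB.line g⁻¹ (M.inv_mem hg) j z
    ((((g⁻¹ : GL (Fin 3) F) : Matrix (Fin 3) (Fin 3) F) *ᵥ Pi.single z (1 : F)) j) (funext fun p => ?_)))
  rcases eq_or_ne p j with rfl | hp
  · simp
  have h1 := congrFun (hx (Pi.single j 1)) p
  rw [mn_single, Equiv.Perm.one_apply, mulVec_single (g : Matrix (Fin 3) (Fin 3) F)] at h1
  simp only [Pi.add_apply, Pi.smul_apply, smul_eq_mul, Pi.single_eq_of_ne hp, mul_zero, zero_add] at h1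
  rcases mul_eq_zero.mp h1.symm with h | h
  · exact absurd h (mul_ne_zero ha hj)
  · rw [h]; simp [hp]

/-- Zero entries in the seven element field. -/
theorem zero_seven (h7 : Fintype.card F = 7) {g : GL (Fin 3) F} (hg : g ∈ M) (hgm : ¬ Mono g) {z q : Fin 3}
    (hz : (g : Matrix (Fin 3) (Fin 3) F) z q = 0) :
    ((g⁻¹ : GL (Fin 3) F) : Matrix (Fin 3) (Fin 3) F) q z = 0 ∧ ∀ j, j ≠ q →
      2 * (g : Matrix (Fin 3) (Fin 3) F) z j * ((g⁻¹ : GL (Fin 3) F) : Matrix (Fin 3) (Fin 3) F) j z = 1 := by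
  obtain ⟨l, hl⟩ := exists_cube_neg h7
  haveI : Fact (Nat.Prime 7) := ⟨by norm_num⟩
  haveI : CharP F 7 := charP_of_card_eq_prime h7
  have h7' : (7 : F) = 0 := by exact_mod_cast CharP.cast_eq_zero F 7
  have h2 : (2 : F) ≠ 0 := fun h => one_ne_zero (α := F) (by linear_combination h7' - 3 * h)
  have hl1 : (l : F) ^ 3 ≠ 1 := fun h => h2 (by linear_combination hl - h)
  have hl0 := l.ne_zero
  have ha : ((l : F) ^ 2)⁻¹ - l = -2 * l := by
    field_simp
    linear_combination hl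
  obtain ⟨σ, d, hσq, -, hx⟩ := zero_elt hB hg hz l
  have hne := zero_perm hB hg hgm hz hl1 hx
  set f := (((g⁻¹ : GL (Fin 3) F) : Matrix (Fin 3) (Fin 3) F) *ᵥ Pi.single z (1 : F)) with hf
  have hfv : ∀ i, f i = ((g⁻¹ : GL (Fin 3) F) : Matrix (Fin 3) (Fin 3) F) i z := fun i => by
    rw [hf, mulVec_single]
  have hkey : ∀ j, j ≠ q → 2 * (g : Matrix (Fin 3) (Fin 3) F) z j * f j = 1 ∧
      (g : Matrix (Fin 3) (Fin 3) F) z j * f q = 0 := fun j hj => by
    have hσj := fix_perm hσq hne hj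
    have hσjq : σ j ≠ q := fun h => hj (σ.injective (h.trans hσq.symm))
    have h1 := congrFun (hx (Pi.single j 1)) j
    have h3 := congrFun (hx (Pi.single j 1)) q
    rw [mn_single, mulVec_single (g : Matrix (Fin 3) (Fin 3) F), ha] at h1 h3
    simp [hσj, hσjq, hσjq.symm, hσj.symm, hj.symm] at h1 h3
    constructor
    · refine mul_left_cancel₀ hl0 ?_
      linear_combination h1
    · refine (mul_eq_zero.mp (?_ : (2 * (l : F)) * _ = 0)).resolve_left (mul_ne_zero h2 hl0)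
      rcases h3 with (h | h) | h
      · exact absurd h h2
      · rw [h, zero_mul, mul_zero]
      · rw [h, mul_zero, mul_zero]
  obtain ⟨j, k, hqj, -, -⟩ := exists_other q
  refine ⟨?_, fun i hi => by rw [← hfv]; exact (hkey i hi).1⟩
  rw [← hfv]
  refine (mul_eq_zero.mp (hkey j hqj.symm).2).resolve_left fun h => ?_
  have := (hkey j hqj.symm).1
  rw [h, mul_zero, zero_mul] at this
  exact zero_ne_one this

/-- In the seven element field a non-monomial element has at most one zero. -/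
theorem zero_unique (h7 : Fintype.card F = 7) {g : GL (Fin 3) F} (hg : g ∈ M) (hgm : ¬ Mono g) {z q r c : Fin 3}
    (hz : (g : Matrix (Fin 3) (Fin 3) F) z q = 0) (hr : (g : Matrix (Fin 3) (Fin 3) F) r c = 0) :
    r = z ∧ c = q := by
  have hgi : ¬ Mono g⁻¹ := fun h => hgm (inv_inv g ▸ mono_inv h)
  obtain ⟨hqz, hrow⟩ := zero_seven hB h7 hg hgm hz
  obtain ⟨-, hcol⟩ := zero_seven hB h7 (M.inv_mem hg) hgi hqz
  rw [inv_inv] at hcol
  by_cases hrz : r = z
  · refine ⟨hrz, by_contra fun hc => ?_⟩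
    have := hrow c hc
    rw [← hrz, hr, mul_zero, zero_mul] at this
    exact zero_ne_one this
  exfalso
  by_cases hcq : c = q
  · have := hcol r hrz
    rw [← hcq, hr, mul_zero] at this
    exact zero_ne_one this
  obtain ⟨k, hkq, hkc⟩ := exists_third q c
  obtain ⟨hcr, hrow'⟩ := zero_seven hB h7 hg hgm hr
  have h0 := prod_inv_entry g (Ne.symm hcq) hkq.symm hkc.symm (Ne.symm hrz)
  rw [hz, hcr, zero_mul, mul_zero, zero_add, zero_add, mul_eq_zero] at h0
  rcases h0 with h0 | h0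
  · have := hrow k hkq
    rw [h0, mul_zero, zero_mul] at this
    exact zero_ne_one this
  · have := hrow' k hkc
    rw [h0, mul_zero] at this
    exact zero_ne_one this

/-- A non-monomial element has no zero entry. -/
theorem entry_ne_zero (hq : 5 ≤ Fintype.card F) {g : GL (Fin 3) F} (hg : g ∈ M) (hgm : ¬ Mono g) (z q : Fin 3) :
    (g : Matrix (Fin 3) (Fin 3) F) z q ≠ 0 := by
  intro hz
  by_cases h7 : Fintype.card F = 7
  · haveI : Fact (Nat.Prime 7) := ⟨by norm_num⟩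
    haveI : CharP F 7 := charP_of_card_eq_prime h7
    have h7' : (7 : F) = 0 := by exact_mod_cast CharP.cast_eq_zero F 7
    have h2 : (2 : F) ≠ 0 := fun h => one_ne_zero (α := F) (by linear_combination h7' - 3 * h)
    have h3 : (3 : F) ≠ 0 := fun h => one_ne_zero (α := F) (by linear_combination 5 * h - 2 * h7')
    have h5 : (5 : F) ≠ 0 := fun h => one_ne_zero (α := F) (by linear_combination 3 * h - 2 * h7')
    obtain ⟨j, k, hqj, hqk, hjk⟩ := exists_other q
    obtain ⟨r, t, hzr, hzt, hrt⟩ := exists_other z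
    set δ := d3 q j (Units.mk0 (3 : F) h3) 1 (Units.mk0 5 h5) with hδ
    have hδv : (δ q : F) = 3 ∧ (δ j : F) = 1 ∧ (δ k : F) = 5 := by
      refine ⟨?_, ?_, ?_⟩ <;> simp [hδ, d3, hqj.symm, hqk.symm, hjk.symm]
    have hd : dg δ ∈ M := dg3_mem hB.toOver hqj hqk hjk (Units.ext (by
      simp only [mul_one, Units.val_mul, Units.val_mk0, Units.val_one]
      linear_combination 2 * h7'))
    set h := g * dg δ * g⁻¹ with hh
    obtain ⟨hfq, hrow⟩ := zero_seven hB h7 hg hgm hz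
    have hzero : ∀ a b : Fin 3, z ≠ a → z ≠ b → a ≠ b → (h : Matrix (Fin 3) (Fin 3) F) a b = 0 := by
      intro a b hza hzb hab
      have e1 := prod_inv_entry g hqj hqk hjk (p := a) (q := z) (Ne.symm hza)
      have e2 := prod_inv_entry g hqj hqk hjk (p := z) (q := b) hzb
      have e3 := prod_inv_entry g hqj hqk hjk (p := a) (q := b) hab
      rw [hfq, mul_zero, zero_add] at e1
      rw [hz, zero_mul, zero_add] at e2
      have fj := hrow j hqj.symm
      have fk := hrow k hqk.symm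
      have hA : (g : Matrix (Fin 3) (Fin 3) F) a j * ((g⁻¹ : GL (Fin 3) F) : Matrix (Fin 3) (Fin 3) F) j b =
          (g : Matrix (Fin 3) (Fin 3) F) a k * ((g⁻¹ : GL (Fin 3) F) : Matrix (Fin 3) (Fin 3) F) k b := by
        linear_combination
          (2 * ((g : Matrix (Fin 3) (Fin 3) F) a j * ((g⁻¹ : GL (Fin 3) F) : Matrix (Fin 3) (Fin 3) F) j z)) * e2 -
          (2 * ((g : Matrix (Fin 3) (Fin 3) F) z k * ((g⁻¹ : GL (Fin 3) F) : Matrix (Fin 3) (Fin 3) F) k b)) * e1 -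
          ((g : Matrix (Fin 3) (Fin 3) F) a j * ((g⁻¹ : GL (Fin 3) F) : Matrix (Fin 3) (Fin 3) F) j b) * fj +
          ((g : Matrix (Fin 3) (Fin 3) F) a k * ((g⁻¹ : GL (Fin 3) F) : Matrix (Fin 3) (Fin 3) F) k b) * fk
      rw [hh, conj_entry g δ hqj hqk hjk, hδv.1, hδv.2.1, hδv.2.2]
      linear_combination 3 * e3 - 2 * hA
    have hnm : ¬ Mono h := by
      rintro ⟨σ, d, hσ⟩
      by_cases hfix : ∀ i, σ i ≠ i
      · have := mono_trace hσ hfix
        rw [sum3 hqj hqk hjk, hδv.1, hδv.2.1, hδv.2.2] at this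
        exact h2 (by linear_combination this - h7')
      push Not at hfix
      obtain ⟨i, hi⟩ := hfix
      have hcols : ∀ c c', (g : Matrix (Fin 3) (Fin 3) F) i c ≠ 0 → (g : Matrix (Fin 3) (Fin 3) F) i c' ≠ 0 →
          (δ c : F) = δ c' := fun c c' hc hc' => by rw [mono_fixed hσ hi hc, mono_fixed hσ hi hc']
      have hne : ∀ c, c ≠ q → (g : Matrix (Fin 3) (Fin 3) F) i c ≠ 0 := fun c hc h0 =>
        hc (zero_unique hB h7 hg hgm hz h0).2
      have := hcols j k (hne j hqj.symm) (hne k hqk.symm)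
      rw [hδv.2.1, hδv.2.2] at this
      exact h2 (pow_eq_zero_iff two_ne_zero |>.mp (show (2 : F) ^ 2 = 0 by linear_combination -this))
    exact hrt (zero_unique hB h7 (M.mul_mem (M.mul_mem hg hd) (M.inv_mem hg)) hnm
      (hzero r t hzr hzt hrt) (hzero t r hzt hzr hrt.symm)).1.symm
  obtain ⟨l, hl⟩ := exists_six hq h7
  have hl0 := l.ne_zero
  obtain ⟨σ, d, -, -, hx⟩ := zero_elt hB hg hz l
  have hl3 : (l : F) ^ 3 ≠ 1 := fun h => hl (by linear_combination ((l : F) ^ 3 + 1) * h)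
  refine zero_perm hB hg hgm hz hl3 hx ?_
  refine LinFourDecompMono38.perm_eq_one_of_quad σ d (s := (l : F) + ((l : F) ^ 2)⁻¹)
    (c := (l : F) * ((l : F) ^ 2)⁻¹) (fun e => hl ?_) fun x => ?_
  · field_simp at e
    linear_combination ((l : F) ^ 3 - 1) * e
  · have hgf : ((g : Matrix (Fin 3) (Fin 3) F) *ᵥ (((g⁻¹ : GL (Fin 3) F) : Matrix (Fin 3) (Fin 3) F) *ᵥ
        Pi.single z (1 : F))) z = 1 := by rw [act_inv_act]; simp
    simp only [hx, Matrix.mulVec_add, Matrix.mulVec_smul, Pi.add_apply, Pi.smul_apply, smul_eq_mul, hgf,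
      smul_add, smul_smul]
    module

/-- Entrywise products with a non-monomial element are proportional to a cube root of unity. -/
theorem ratio_cube (hq : 5 ≤ Fintype.card F) {g : GL (Fin 3) F} (hg : g ∈ M) (hgm : ¬ Mono g) {p q : Fin 3}
    (hpq : p ≠ q) (b c : Fin 3) :
    ((g : Matrix (Fin 3) (Fin 3) F) p b * ((g⁻¹ : GL (Fin 3) F) : Matrix (Fin 3) (Fin 3) F) b q) ^ 3 =
      ((g : Matrix (Fin 3) (Fin 3) F) p c * ((g⁻¹ : GL (Fin 3) F) : Matrix (Fin 3) (Fin 3) F) c q) ^ 3 := by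
  rcases eq_or_ne b c with rfl | hbc
  · rfl
  have hgi : ¬ Mono g⁻¹ := fun h => hgm (inv_inv g ▸ mono_inv h)
  set A := fun i => (g : Matrix (Fin 3) (Fin 3) F) p i * ((g⁻¹ : GL (Fin 3) F) : Matrix (Fin 3) (Fin 3) F) i q
  change A b ^ 3 = A c ^ 3
  have hA : ∀ i, A i ≠ 0 := fun i =>
    mul_ne_zero (entry_ne_zero hB hq hg hgm p i) (entry_ne_zero hB hq (M.inv_mem hg) hgi i q)
  obtain ⟨a, hab, hac⟩ := exists_third b c
  set m := Units.mk0 (A c / A b) (div_ne_zero (hA c) (hA b)) with hm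
  by_cases hm1 : A c = A b
  · rw [hm1]
  have hd := dg3_mem hB.toOver hab hac hbc (a := 1) (b := m) (c := m⁻¹) (by rw [one_mul, mul_inv_cancel])
  set δ := d3 a b 1 m m⁻¹ with hδ
  have hδv : (δ a : F) = 1 ∧ (δ b : F) = A c / A b ∧ (δ c : F) = A b / A c := by
    refine ⟨?_, ?_, ?_⟩ <;> simp [hδ, d3, hab.symm, hac.symm, hbc.symm, hm]
  set h := g * dg δ * g⁻¹ with hh
  have hz : (h : Matrix (Fin 3) (Fin 3) F) p q = 0 := by
    have e := prod_inv_entry g hab hac hbc hpq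
    change A a + (A b + A c) = 0 at e
    rw [hh, conj_entry g δ hab hac hbc, hδv.1, hδv.2.1, hδv.2.2]
    change 1 * A a + (A c / A b * A b + A b / A c * A c) = 0
    rw [div_mul_cancel₀ _ (hA b), div_mul_cancel₀ _ (hA c)]
    linear_combination e
  obtain ⟨σ, d, hσ⟩ : Mono h := by
    by_contra hn
    exact entry_ne_zero hB hq (M.mul_mem (M.mul_mem hg hd) (M.inv_mem hg)) hn p q hz
  by_cases hfix : ∀ i, σ i ≠ i
  · have := mono_trace hσ hfix
    rw [sum3 hab hac hbc, hδv.1, hδv.2.1, hδv.2.2] at this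
    have h1 := hA b
    have h2 := hA c
    field_simp at this
    linear_combination (A b - A c) * this
  push Not at hfix
  obtain ⟨i, hi⟩ := hfix
  exfalso
  have e : (δ b : F) = δ a := by
    rw [mono_fixed hσ hi (entry_ne_zero hB hq hg hgm i b), mono_fixed hσ hi (entry_ne_zero hB hq hg hgm i a)]
  rw [hδv.1, hδv.2.1, div_eq_one_iff_eq (hA b)] at e
  exact hm1 e

/-- The test with the rank one torus. -/
theorem rank_one (hq : 5 ≤ Fintype.card F) {g : GL (Fin 3) F} (hg : g ∈ M) (hgm : ¬ Mono g) (z : Fin 3) {l : Fˣ}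
    (hl : (l : F) ^ 3 ≠ 1) {p r : Fin 3} (hpr : p ≠ r) :
    ((l : F) ^ 3 / (1 - (l : F) ^ 3) +
        (g : Matrix (Fin 3) (Fin 3) F) p z * ((g⁻¹ : GL (Fin 3) F) : Matrix (Fin 3) (Fin 3) F) z p) ^ 3 =
      ((g : Matrix (Fin 3) (Fin 3) F) r z * ((g⁻¹ : GL (Fin 3) F) : Matrix (Fin 3) (Fin 3) F) z r) ^ 3 := by
  obtain ⟨q, hqp, hqr⟩ := exists_third p r
  obtain ⟨j, k, hzj, hzk, hjk⟩ := exists_other z
  have hl0 := l.ne_zero
  have hgi : ¬ Mono g⁻¹ := fun h => hgm (inv_inv g ▸ mono_inv h)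
  set u := fun i => (g : Matrix (Fin 3) (Fin 3) F) i z
  set v := fun i => ((g⁻¹ : GL (Fin 3) F) : Matrix (Fin 3) (Fin 3) F) z i
  change ((l : F) ^ 3 / (1 - (l : F) ^ 3) + u p * v p) ^ 3 = (u r * v r) ^ 3
  have hu : ∀ i, u i ≠ 0 := fun i => entry_ne_zero hB hq hg hgm i z
  have hv : ∀ i, v i ≠ 0 := fun i => entry_ne_zero hB hq (M.inv_mem hg) hgi z i
  set δ := d3 z j (l * l)⁻¹ l l with hδ
  have hd : dg δ ∈ M := dg3_mem hB.toOver hzj hzk hjk (by rw [mul_assoc, inv_mul_cancel])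
  set h := g * dg δ * g⁻¹ with hh
  have key : ∀ (g : GL (Fin 3) F) (l : Fˣ) (a b : Fin 3),
      ((g * dg (d3 z j (l * l)⁻¹ l l) * g⁻¹ : GL (Fin 3) F) : Matrix (Fin 3) (Fin 3) F) a b =
        (if a = b then (l : F) else 0) + (((l : F) * l)⁻¹ - l) *
          ((g : Matrix (Fin 3) (Fin 3) F) a z * ((g⁻¹ : GL (Fin 3) F) : Matrix (Fin 3) (Fin 3) F) z b) := by
    intro g l a b
    rw [conj_entry g _ hzj hzk hjk]
    have e : (g : Matrix (Fin 3) (Fin 3) F) a z * ((g⁻¹ : GL (Fin 3) F) : Matrix (Fin 3) (Fin 3) F) z b +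
        ((g : Matrix (Fin 3) (Fin 3) F) a j * ((g⁻¹ : GL (Fin 3) F) : Matrix (Fin 3) (Fin 3) F) j b +
        (g : Matrix (Fin 3) (Fin 3) F) a k * ((g⁻¹ : GL (Fin 3) F) : Matrix (Fin 3) (Fin 3) F) k b) =
        if a = b then 1 else 0 := by
      rw [← sum3 hzj hzk hjk (fun i => (g : Matrix (Fin 3) (Fin 3) F) a i *
        ((g⁻¹ : GL (Fin 3) F) : Matrix (Fin 3) (Fin 3) F) i b), ← Matrix.mul_apply, Units.mul_inv, Matrix.one_apply]
    simp only [d3, if_pos, if_neg hzj.symm, if_neg hzk.symm, if_neg hjk.symm, Units.val_inv_eq_inv_val,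
      Units.val_mul]
    split_ifs at e ⊢ <;> linear_combination (l : F) * e
  have hhv : ∀ a b, (h : Matrix (Fin 3) (Fin 3) F) a b =
      (if a = b then (l : F) else 0) + (((l : F) * l)⁻¹ - l) * (u a * v b) := fun a b => by
    rw [hh, hδ, key g l a b]
  have hhi : ∀ a b, ((h⁻¹ : GL (Fin 3) F) : Matrix (Fin 3) (Fin 3) F) a b =
      (if a = b then (l : F)⁻¹ else 0) + ((l : F) * l - (l : F)⁻¹) * (u a * v b) := fun a b => by
    have e : h⁻¹ = g * dg (d3 z j (l⁻¹ * l⁻¹)⁻¹ l⁻¹ l⁻¹) * g⁻¹ := by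
      rw [inv_eq_iff_mul_eq_one, hh, hδ]
      have e1 : dg (d3 z j (l * l)⁻¹ l l) * dg (d3 z j (l⁻¹ * l⁻¹)⁻¹ l⁻¹ l⁻¹) = (1 : GL (Fin 3) F) :=
        gl_ext fun x => funext fun i => by
          rw [mul_act, dg_act, dg_act, one_act, ← mul_assoc, ← Units.val_mul]
          rcases cases3 hzj hzk hjk i with hi | hi | hi <;>
            simp [hi, d3, hzj.symm, hzk.symm, hjk.symm]
      calc g * dg (d3 z j (l * l)⁻¹ l l) * g⁻¹ * (g * dg (d3 z j (l⁻¹ * l⁻¹)⁻¹ l⁻¹ l⁻¹) * g⁻¹)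
          = g * (dg (d3 z j (l * l)⁻¹ l l) * dg (d3 z j (l⁻¹ * l⁻¹)⁻¹ l⁻¹ l⁻¹)) * g⁻¹ := by group
        _ = 1 := by rw [e1]; group
    rw [e, key g l⁻¹ a b]
    simp only [Units.val_inv_eq_inv_val, u, v]
    field_simp
  have hα : ((l : F) * l)⁻¹ - l ≠ 0 := fun e => hl (by field_simp at e; linear_combination -e)
  have hβ : (l : F) * l - (l : F)⁻¹ ≠ 0 := fun e => hl (by field_simp at e; linear_combination e)
  have hnm : ¬ Mono h := by
    rintro ⟨σ, d, hσ⟩
    obtain ⟨b, hbp, hb⟩ := exists_col p σ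
    have h1 := congrFun (mn_single σ d b) p
    rw [mulVec_single] at h1
    dsimp only at h1
    rw [← hσ, hhv, if_neg (Ne.symm hbp), zero_add] at h1
    simp [Ne.symm hb] at h1
    rw [← mul_inv] at h1
    rcases h1 with h1 | h1 | h1
    exacts [hα h1, hu p h1, hv b h1]
  have hc := ratio_cube hB hq (M.mul_mem (M.mul_mem hg hd) (M.inv_mem hg)) hnm (Ne.symm hqp) p r
  change ((h : Matrix (Fin 3) (Fin 3) F) p p * ((h⁻¹ : GL (Fin 3) F) : Matrix (Fin 3) (Fin 3) F) p q) ^ 3 =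
    ((h : Matrix (Fin 3) (Fin 3) F) p r * ((h⁻¹ : GL (Fin 3) F) : Matrix (Fin 3) (Fin 3) F) r q) ^ 3 at hc
  simp only [hhv, hhi, if_pos, if_neg hpr, if_neg (Ne.symm hqp), if_neg (Ne.symm hqr), zero_add] at hc
  set α := ((l : F) * l)⁻¹ - l with hαdef
  set β := (l : F) * l - (l : F)⁻¹
  set P := u p * v p
  set R := u r * v r
  have hx : (l : F) ^ 3 / (1 - (l : F) ^ 3) = (l : F) / α := by
    have h1 : 1 - (l : F) ^ 3 ≠ 0 := sub_ne_zero.mpr (Ne.symm hl)
    have e : α * ((l : F) * l) = 1 - (l : F) ^ 3 := by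
      rw [hαdef, sub_mul, inv_mul_cancel₀ (mul_ne_zero hl0 hl0)]; ring
    rw [div_eq_div_iff h1 hα, ← e]; ring
  rw [hx]
  refine mul_left_cancel₀ (pow_ne_zero 3 (mul_ne_zero (mul_ne_zero hα hβ) (mul_ne_zero (hu p) (hv q)))) ?_
  have e : α * ((l : F) / α + P) = (l : F) + α * P := by rw [mul_add, mul_div_cancel₀ _ hα]
  calc (α * β * (u p * v q)) ^ 3 * ((l : F) / α + P) ^ 3
      = (α * ((l : F) / α + P) * (β * (u p * v q))) ^ 3 := by ring
    _ = (((l : F) + α * P) * (β * (u p * v q))) ^ 3 := by rw [e]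
    _ = (α * (u p * v r) * (β * (u r * v q))) ^ 3 := hc
    _ = _ := by ring

/-- The final contradiction. -/
theorem false_of_nonmono (hq : 5 ≤ Fintype.card F) {g : GL (Fin 3) F} (hg : g ∈ M) (hgm : ¬ Mono g) : False := by
  classical
  have hgi : ¬ Mono g⁻¹ := fun h => hgm (inv_inv g ▸ mono_inv h)
  have hG := fun a b => entry_ne_zero hB hq hg hgm a b
  have hI := fun a b => entry_ne_zero hB hq (M.inv_mem hg) hgi a b
  by_cases hω : ∀ m : F, m ^ 3 = 1 → m = 1
  · have hall : ∀ {q : Fin 3}, (0 : Fin 3) ≠ q → ∀ b,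
        (g : Matrix (Fin 3) (Fin 3) F) 0 b * ((g⁻¹ : GL (Fin 3) F) : Matrix (Fin 3) (Fin 3) F) b q =
        (g : Matrix (Fin 3) (Fin 3) F) 0 0 * ((g⁻¹ : GL (Fin 3) F) : Matrix (Fin 3) (Fin 3) F) 0 q := fun {q} hq0 b => by
      have h1 := ratio_cube hB hq hg hgm hq0 b 0
      have h2 := mul_ne_zero (hG 0 0) (hI 0 q)
      exact (div_eq_one_iff_eq h2).mp (hω _ (by rw [div_pow, h1, div_self (pow_ne_zero 3 h2)]))
    set K1 := (g : Matrix (Fin 3) (Fin 3) F) 0 0 * ((g⁻¹ : GL (Fin 3) F) : Matrix (Fin 3) (Fin 3) F) 0 1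
    set K2 := (g : Matrix (Fin 3) (Fin 3) F) 0 0 * ((g⁻¹ : GL (Fin 3) F) : Matrix (Fin 3) (Fin 3) F) 0 2
    set x : Fin 3 → F := K2 • Pi.single 1 (1 : F) - K1 • Pi.single 2 (1 : F)
    have hx : x ≠ 0 := fun h => mul_ne_zero (hG 0 0) (hI 0 2) (by simpa [x, K2] using congrFun h 1)
    refine act_ne_zero g⁻¹ hx (funext fun b => ?_)
    simp only [x, Matrix.mulVec_sub, Matrix.mulVec_smul, mulVec_single, Pi.sub_apply, Pi.smul_apply, smul_eq_mul,
      Pi.zero_apply]
    apply (mul_eq_zero.mp (?_ : (g : Matrix (Fin 3) (Fin 3) F) 0 b * _ = 0)).resolve_left (hG 0 b)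
    linear_combination K2 * hall (q := 1) (by decide) b - K1 * hall (q := 2) (by decide) b
  push Not at hω
  obtain ⟨w, hw3, hw1⟩ := hω
  set P := fun i => (g : Matrix (Fin 3) (Fin 3) F) i 0 * ((g⁻¹ : GL (Fin 3) F) : Matrix (Fin 3) (Fin 3) F) 0 i
  have hP0 : ∀ i, P i ≠ 0 := fun i => mul_ne_zero (hG i 0) (hI 0 i)
  have htest : ∀ (l : Fˣ), (l : F) ^ 3 ≠ 1 → ∀ p r : Fin 3, p ≠ r →
      ((l : F) ^ 3 / (1 - (l : F) ^ 3) + P p) ^ 3 = P r ^ 3 := fun l hl p r hpr =>
    rank_one hB hq hg hgm 0 hl hpr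
  -- count the cubes
  have h3dvd : 3 ∣ Fintype.card F - 1 := by
    have hw0 : w ≠ 0 := fun h => by rw [h, zero_pow three_ne_zero] at hw3; exact zero_ne_one hw3
    haveI : Fact (Nat.Prime 3) := ⟨Nat.prime_three⟩
    have ho : orderOf (Units.mk0 w hw0) = 3 := orderOf_eq_prime
      (Units.ext (by simpa using hw3)) (fun h => hw1 (by simpa using congrArg Units.val h))
    rw [← Fintype.card_units, ← ho]
    exact orderOf_dvd_card
  let S : Finset F := Finset.univ.image (fun l : Fˣ => (l : F) ^ 3)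
  have hS : Fintype.card F - 1 ≤ 3 * S.card := by
    rw [← Fintype.card_units, ← Finset.card_univ]
    refine Finset.card_le_mul_card_image _ 3 fun y _ => ?_
    rw [← Finset.card_map ⟨fun l : Fˣ => (l : F), Units.val_injective⟩]
    refine le_trans (Finset.card_le_card (t := (Polynomial.nthRoots 3 y).toFinset) fun x hx => ?_)
      ((Multiset.toFinset_card_le _).trans (Polynomial.card_nthRoots 3 y))
    obtain ⟨l, hl, rfl⟩ := Finset.mem_map.mp hx
    rw [Multiset.mem_toFinset, Polynomial.mem_nthRoots three_pos]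
    exact (Finset.mem_filter.mp hl).2
  rcases Nat.lt_or_ge 13 (Fintype.card F) with h13 | h13
  · -- too many roots of a cubic
    let T : Finset F := (S.erase 1).image fun k => k / (1 - k) + P 0
    have hT : T.card = (S.erase 1).card := Finset.card_image_of_injOn fun a ha b hb hab => by
      simp only [Finset.coe_erase, Set.mem_sdiff, Set.mem_singleton_iff] at ha hb
      have h1 : 1 - a ≠ 0 := sub_ne_zero.mpr (Ne.symm ha.2)
      have h2 : 1 - b ≠ 0 := sub_ne_zero.mpr (Ne.symm hb.2)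
      have := (div_eq_div_iff h1 h2).mp (add_right_cancel hab)
      linear_combination this
    have hsub : T ⊆ (Polynomial.nthRoots 3 (P 1 ^ 3)).toFinset := fun t ht => by
      obtain ⟨k, hk, rfl⟩ := Finset.mem_image.mp ht
      obtain ⟨hk1, hk2⟩ := Finset.mem_erase.mp hk
      obtain ⟨l, -, rfl⟩ := Finset.mem_image.mp hk2
      rw [Multiset.mem_toFinset, Polynomial.mem_nthRoots three_pos]
      exact htest l hk1 0 1 (by decide)
    have h1 := (Finset.card_le_card hsub).trans ((Multiset.toFinset_card_le _).trans (Polynomial.card_nthRoots 3 _))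
    have h2 := Finset.pred_card_le_card_erase (a := (1 : F)) (s := S)
    omega
  have hcases : Fintype.card F = 7 ∨ Fintype.card F = 13 := by
    have h10 : Fintype.card F ≠ 10 := fun h => by
      have := h ▸ FiniteField.isPrimePow_card F
      exact absurd this (by simp [isPrimePow_nat_iff_bounded]; decide)
    omega
  rcases hcases with hc | hc
  · haveI : Fact (Nat.Prime 7) := ⟨by norm_num⟩
    haveI : CharP F 7 := charP_of_card_eq_prime hc
    have h7' : (7 : F) = 0 := by exact_mod_cast CharP.cast_eq_zero F 7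
    obtain ⟨l, hl⟩ := exists_cube_neg hc
    have h2 : (2 : F) ≠ 0 := fun h => one_ne_zero (α := F) (by linear_combination h7' - 3 * h)
    have hl1 : (l : F) ^ 3 ≠ 1 := fun h => h2 (by linear_combination hl - h)
    have hx : (l : F) ^ 3 / (1 - (l : F) ^ 3) = 3 := by
      rw [hl, sub_neg_eq_add, one_add_one_eq_two, div_eq_iff h2]
      linear_combination -h7'
    have hsum : P 0 + (P 1 + P 2) = 1 := by
      have h1 : (((g⁻¹ : GL (Fin 3) F) : Matrix (Fin 3) (Fin 3) F) * (g : Matrix (Fin 3) (Fin 3) F)) 0 0 = 1 := by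
        rw [Units.inv_mul, Matrix.one_apply_eq]
      rw [Matrix.mul_apply, sum3 (o := (0 : Fin 3)) (k := 1) (l := 2) (by decide) (by decide) (by decide)] at h1
      simp only [P]
      linear_combination h1
    obtain ⟨a, ha⟩ := (ZMod.castHom_bijective F hc (n := 7)).2 (P 0)
    obtain ⟨b, hb⟩ := (ZMod.castHom_bijective F hc (n := 7)).2 (P 1)
    have hc2 : ZMod.castHom (dvd_refl 7) F (1 - a - b) = P 2 := by
      rw [map_sub, map_sub, map_one, ha, hb]; linear_combination -hsum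
    have ht : ∀ p r : Fin 3, p ≠ r → (3 + P p) ^ 3 = P r ^ 3 := fun p r h => hx ▸ htest l hl1 p r h
    have inj := (ZMod.castHom_bijective F hc (n := 7)).1
    refine seven_false a b ⟨inj ?_, inj ?_, inj ?_, inj ?_, inj ?_, inj ?_⟩ <;>
      simp only [map_pow, map_add, map_ofNat, ha, hb, hc2]
    exacts [ht 0 1 (by decide), ht 0 2 (by decide), ht 1 0 (by decide), ht 1 2 (by decide), ht 2 0 (by decide),
      ht 2 1 (by decide)]
  · haveI : Fact (Nat.Prime 13) := ⟨by norm_num⟩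
    haveI : CharP F 13 := charP_of_card_eq_prime hc
    have h13 : (13 : F) = 0 := by exact_mod_cast CharP.cast_eq_zero F 13
    have hunit : ∀ n : ℕ, ¬ 13 ∣ n → (n : F) ≠ 0 := fun n hn h => hn ((CharP.cast_eq_zero_iff F 13 n).mp h)
    have t : ∀ (n k x : ℕ), ¬ 13 ∣ n → (((n : F) ^ 3 = k) ∧ ¬ ((k : F) = 1) ∧ (x : F) * (1 - (k : F)) = k) →
        ((x : F) + P 0) ^ 3 = P 1 ^ 3 := fun n k x hn ⟨e1, e2, e3⟩ => by
      have h := htest (Units.mk0 (n : F) (hunit n hn)) (by simpa [e1] using e2) 0 1 (by decide)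
      rw [Units.val_mk0, e1, ← eq_div_iff (sub_ne_zero.mpr (Ne.symm e2)) |>.mpr e3] at h
      exact h
    have hne : ∀ k : ℕ, 1 < k → k < 13 → (k : F) ≠ 1 := fun k h1 h2 h =>
      hunit (k - 1) (fun hd => absurd (Nat.le_of_dvd (by omega) hd) (by omega))
        (by rw [Nat.cast_sub h1.le, h, Nat.cast_one, sub_self])
    have e10 := t 2 8 10 (by norm_num) ⟨by norm_num, hne 8 (by norm_num) (by norm_num),
      by push_cast; linear_combination -6 * h13⟩
    have e6 := t 4 12 6 (by norm_num) ⟨by push_cast; linear_combination 4 * h13, hne 12 (by norm_num) (by norm_num),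
      by push_cast; linear_combination -6 * h13⟩
    have e2 := t 7 5 2 (by norm_num) ⟨by push_cast; linear_combination 26 * h13, hne 5 (by norm_num) (by norm_num),
      by push_cast; linear_combination -h13⟩
    push_cast at e10 e6 e2
    have hc1 : (2 : F) * P 0 = 1 := by
      have f1 : 4 * (3 * P 0 ^ 2 + 24 * P 0 + 52) = 0 := by linear_combination e6 - e2
      have f2 : 4 * (3 * P 0 ^ 2 + 48 * P 0 + 196) = 0 := by linear_combination e10 - e6
      refine sub_eq_zero.mp ((mul_eq_zero.mp (?_ : (4 : F) * (2 * P 0 - 1) = 0)).resolve_left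
        (by exact_mod_cast hunit 4 (by norm_num)))
      linear_combination f1 - f2 + (8 * P 0 + 44) * h13
    have f1 : 4 * (3 * P 0 ^ 2 + 24 * P 0 + 52) = 0 := by linear_combination e6 - e2
    have h7 : P 0 = 7 := by linear_combination 7 * hc1 - P 0 * h13
    rw [h7] at f1
    have : ((12 : ℕ) : F) = 0 := by push_cast; linear_combination f1 - 112 * h13
    exact hunit 12 (by norm_num) (by linear_combination this)

omit hB in
/-- A non-monomial overgroup contains a full root group. -/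
theorem exists_root (hM : Over M) (hq : 5 ≤ Fintype.card F) {g : GL (Fin 3) F} (hg : g ∈ M) (hgm : ¬ Mono g) :
    Found M := by
  by_contra hno
  exact false_of_nonmono ⟨hM, fun y hy p q c hc => by_contra fun hy' => hno (found_of_line hM hq hy hy' hc)⟩
    hq hg hgm

end Cfsg.Agent.LinThreeDecompMono38
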