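import Cfsg.Prelude.Def_GeometricClasses
import Cfsg.Agent.Lib.LinThreeDecompMono38
import Cfsg.Agent.Lib.AschGenMaximal

/-! Clause 2 of S5774: the stabiliser of a decomposition of F^3 into three lines is maximal in SL_3 (q ≥ 5). -/

set_option autoImplicit false
open Cfsg

namespace Cfsg.Agent.LinThreeDecomp38

open Cfsg.Agent.TransvectionMax Cfsg.Agent.DecompMaxBasic Cfsg.Agent.DecompMaxLift
open Cfsg.Agent.LinThreeDecompLine38
open scoped MatrixGroups Matrix

variable {F : Type*} [Field F] [Fintype F]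

/-- An overgroup of the monomial group of SL_3 is irreducible. -/
theorem irred {M : Subgroup (GL (Fin 3) F)} (hM : Over M) (hq : 5 ≤ Fintype.card F) : LinThreeRoot38.Irred M := by
  intro W hW
  by_contra hcon
  rw [not_or] at hcon
  obtain ⟨x, hx, hx0⟩ := Submodule.exists_mem_ne_zero_of_ne_bot hcon.1
  obtain ⟨o, ho⟩ := Function.ne_iff.1 hx0
  have ho' : x o ≠ 0 := ho
  obtain ⟨k, hko⟩ := exists_ne o
  obtain ⟨l, hlo, hlk⟩ := exists_third o k
  obtain ⟨u, -, -, hu⟩ := exists_lam hq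
  have hu0 : (u : F) ≠ 0 := u.ne_zero
  have hd := dg3_mem hM hko.symm hlo.symm hlk.symm (a := (u * u)⁻¹) (b := u) (c := u)
    (by rw [mul_assoc, inv_mul_cancel])
  have h1 := W.sub_mem (hW _ hd x hx) (W.smul_mem (u : F) hx)
  have he : (dg (d3 o k (u * u)⁻¹ u u) : Matrix (Fin 3) (Fin 3) F) *ᵥ x - (u : F) • x =
      ((((u : F) * u)⁻¹ - u) * x o) • Pi.single o (1 : F) := funext fun i => by
    rw [Pi.sub_apply, dg_act]
    rcases cases3 hko.symm hlo.symm hlk.symm i with hi | hi | hi <;>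
      simp [hi, d3, hko, hlo, hlk]
    ring
  rw [he] at h1
  have hne : (((u : F) * u)⁻¹ - u) * x o ≠ 0 :=
    mul_ne_zero (fun e => hu (by field_simp at e; linear_combination -e)) ho'
  have heo := (W.smul_mem_iff hne).mp h1
  have hall : ∀ i, (Pi.single i (1 : F) : Fin 3 → F) ∈ W := fun i => by
    obtain ⟨c, hc⟩ := exists_mono hM (Equiv.swap o i) (fun _ => 1) i
    have h2 := hW _ hc _ heo
    rw [mn_single, Equiv.swap_apply_left] at h2
    exact (W.smul_mem_iff (Units.ne_zero _)).mp h2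
  apply hcon.2
  rw [eq_top_iff]
  intro z _
  rw [pi_eq_sum_univ' z]
  exact W.sum_mem fun i _ => W.smul_mem _ (hall i)

/-- The stabiliser of three independent lines is maximal in SL_3 for q ≥ 5. -/
theorem isMaximalIn_decomp (hq : 5 ≤ Fintype.card F) (D : Fin 3 → Submodule F (Fin 3 → F))
    (hD : Cfsg.Geo.IsMDecomposition 1 D) :
    Cfsg.Geo.IsMaximalIn (Cfsg.Geo.specialLinear (Fin 3) F)
      (Cfsg.Geo.decompositionStabilizer D ⊓ Cfsg.Geo.specialLinear (Fin 3) F) := by
  classical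
  refine ⟨lt_of_le_not_ge inf_le_right fun hle =>
    Cfsg.Agent.AschGenMaximal.sl_not_le_decompositionStabilizer hD (le_trans hle inf_le_left), fun M hHM hMK => ?_⟩
  by_cases hMH : M ≤ Cfsg.Geo.decompositionStabilizer D
  · exact Or.inl (le_antisymm (le_inf hMH hMK) hHM)
  refine Or.inr (le_antisymm hMK ?_)
  obtain ⟨-, b, hb⟩ := Cfsg.Agent.AschGenMaximal.decomposition_basis hD
  set B := b.reindex (Equiv.prodUnique (Fin 3) (Fin 1)) with hB
  have hBD : ∀ i, D i = Submodule.span F {B i} := fun i => by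
    have hmem : B i ∈ D i := by
      rw [hB, Module.Basis.reindex_apply]
      exact hb i default
    refine (Submodule.eq_of_le_of_finrank_eq ((Submodule.span_singleton_le_iff_mem _ _).mpr hmem) ?_).symm
    rw [finrank_span_singleton (B.ne_zero i), hD.finrank_eq]
  have hBu : IsUnit ((Pi.basisFun F (Fin 3)).toMatrix B).det := by
    haveI := (Pi.basisFun F (Fin 3)).invertibleToMatrix B
    exact (Matrix.isUnit_iff_isUnit_det _).1 (isUnit_of_invertible _)
  let P : GL (Fin 3) F := Matrix.GeneralLinearGroup.mkOfDetNeZero _ hBu.ne_zero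
  have hP : ∀ i, (P : Matrix (Fin 3) (Fin 3) F) *ᵥ Pi.single i (1 : F) = B i := fun i => by
    rw [mulVec_single]
    funext r
    show (Pi.basisFun F (Fin 3)).toMatrix B r i = B i r
    simp [Module.Basis.toMatrix_apply]
  set M' := M.comap (MulAut.conj P).toMonoidHom with hM'
  have hdet : ∀ g : GL (Fin 3) F, ((P * g * P⁻¹ : GL (Fin 3) F) : Matrix (Fin 3) (Fin 3) F).det =
      (g : Matrix (Fin 3) (Fin 3) F).det := fun g => by
    rw [Units.val_mul, Units.val_mul, Matrix.det_units_conj]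
  have hmn : ∀ (σ : Equiv.Perm (Fin 3)) (d : Fin 3 → Fˣ),
      P * mn σ d * P⁻¹ ∈ Cfsg.Geo.decompositionStabilizer D := by
    intro σ d
    refine ⟨σ, fun i => ?_⟩
    rw [hBD i, hBD (σ i), Submodule.map_span, Set.image_singleton, Matrix.toLin'_apply]
    have hi : ((P * mn σ d * P⁻¹ : GL (Fin 3) F) : Matrix (Fin 3) (Fin 3) F) *ᵥ B i = (d i : F) • B (σ i) := by
      rw [← hP i, mul_act, mul_act, inv_act_act, mn_single, Matrix.mulVec_smul, hP]
    rw [hi, Submodule.span_singleton_smul_eq (isUnit_iff_ne_zero.mpr (d i).ne_zero)]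
  have hov : Over M' := by
    refine ⟨fun g hg => ?_, fun σ d hd => ?_⟩
    · rw [← hdet]
      exact mem_sl.1 (hMK hg)
    · exact hHM ⟨hmn σ d, mem_sl.2 ((hdet _).trans hd)⟩
  obtain ⟨g₀, hg₀M, hg₀⟩ := SetLike.not_le_iff_exists.1 hMH
  have hgM : P⁻¹ * g₀ * P ∈ M' := by
    show P * (P⁻¹ * g₀ * P) * P⁻¹ ∈ M
    convert hg₀M using 1
    group
  have hgm : ¬ Mono (P⁻¹ * g₀ * P) := by
    rintro ⟨σ, d, hσ⟩
    refine hg₀ ?_
    have := hmn σ d
    rw [← hσ] at this
    convert this using 1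
    group
  obtain ⟨v, φ, hv, hφ, hvφ, hroot⟩ := LinThreeDecompMono38.exists_root hov hq hgM hgm
  have hall := LinThreeRoot38.specialLinear_le_of_root (irred hov hq) hv hφ hvφ hroot
  intro g hg
  have h1 := hall (x := P⁻¹ * g * P) (mem_sl.2 (by
    rw [← hdet, show P * (P⁻¹ * g * P) * P⁻¹ = g by group]; exact mem_sl.1 hg))
  have h2 : P * (P⁻¹ * g * P) * P⁻¹ ∈ M := h1
  rwa [show P * (P⁻¹ * g * P) * P⁻¹ = g by group] at h2

end Cfsg.Agent.LinThreeDecomp38
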