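import Cfsg.Agent.Lib.TransvectionMax
import Cfsg.Agent.Lib.LinSubfieldMax97

/-!
An irreducible subgroup of GL_3(F) containing a full transvection root group contains SL_3(F).
-/

set_option autoImplicit false

namespace Cfsg.Agent.LinThreeRoot38

open Cfsg.Agent.TransvectionMax
open Cfsg.Agent.LinSubfieldMax97 (tv_conj tv_conj_tv tv_add_left tv_smul_left)
open scoped MatrixGroups Matrix

variable {F : Type*} [Field F]

/-- `M` contains the whole root group with centre `v` and axis the kernel of `φ`. -/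
def Full (M : Subgroup (GL (Fin 3) F)) (v φ : Fin 3 → F) : Prop := ∀ c : F, tv v (c • φ) ∈ M

/-- `M` contains all transvections with centre `v`. -/
def CentreG (M : Subgroup (GL (Fin 3) F)) (v : Fin 3 → F) : Prop :=
  ∀ φ : Fin 3 → F, φ ⬝ᵥ v = 0 → tv v φ ∈ M

/-- `M` has no invariant proper non-zero subspace. -/
def Irred (M : Subgroup (GL (Fin 3) F)) : Prop :=
  ∀ W : Submodule F (Fin 3 → F),
    (∀ g ∈ M, ∀ x ∈ W, (g : Matrix (Fin 3) (Fin 3) F) *ᵥ x ∈ W) → W = ⊥ ∨ W = ⊤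

variable {M : Subgroup (GL (Fin 3) F)}

lemma smul_dot_zero {v φ : Fin 3 → F} (h : φ ⬝ᵥ v = 0) (c : F) : (c • φ) ⬝ᵥ v = 0 := by
  rw [smul_dotProduct, h, smul_zero]

/-- Full root groups are permuted by conjugation. -/
lemma Full.conj {v φ : Fin 3 → F} (hv : φ ⬝ᵥ v = 0) (h : Full M v φ) {g : GL (Fin 3) F} (hg : g ∈ M) :
    Full M ((g : Matrix (Fin 3) (Fin 3) F) *ᵥ v)
      (φ ᵥ* ((g⁻¹ : GL (Fin 3) F) : Matrix (Fin 3) (Fin 3) F)) := fun c => by
  rw [← Matrix.smul_vecMul, ← tv_conj g (smul_dot_zero hv c)]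
  exact M.mul_mem (M.mul_mem hg (h c)) (M.inv_mem hg)

/-- The span of the orbit of a non-zero vector is everything. -/
lemma exists_orbit (hirr : Irred M) {v φ : Fin 3 → F} (hv : v ≠ 0) (hφ : φ ≠ 0) :
    ∃ g ∈ M, φ ⬝ᵥ ((g : Matrix (Fin 3) (Fin 3) F) *ᵥ v) ≠ 0 := by
  by_contra! hc
  let W : Submodule F (Fin 3 → F) :=
    { carrier := {x | ∀ g ∈ M, φ ⬝ᵥ ((g : Matrix (Fin 3) (Fin 3) F) *ᵥ x) = 0}
      zero_mem' := fun g _ => by rw [Matrix.mulVec_zero, dotProduct_zero]
      add_mem' := fun {a b} ha hb g hg => by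
        rw [Matrix.mulVec_add, dotProduct_add, ha g hg, hb g hg, add_zero]
      smul_mem' := fun c a ha g hg => by rw [Matrix.mulVec_smul, dotProduct_smul, ha g hg, smul_zero] }
  rcases hirr W (fun g hg x hx h hh => by rw [← mul_act]; exact hx _ (M.mul_mem hh hg)) with h | h
  · exact hv (by simpa [h] using (show v ∈ W from hc))
  · apply hφ
    refine dotProduct_eq_zero φ fun x => ?_
    have hx := (show x ∈ W from h ▸ Submodule.mem_top) 1 M.one_mem
    rwa [one_act] at hx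

lemma finrank_ker_dot {a : Fin 3 → F} (ha : a ≠ 0) :
    Module.finrank F (LinearMap.ker ((dotProductBilin F F).flip a)) = 2 := by
  have hne : (dotProductBilin F F).flip a ≠ (0 : (Fin 3 → F) →ₗ[F] F) := fun h => ha (by
    refine dotProduct_eq_zero a fun x => ?_
    rw [dotProduct_comm]
    exact LinearMap.congr_fun h x)
  have := Module.Dual.finrank_ker_add_one_of_ne_zero hne
  rw [Module.finrank_fin_fun] at this
  omega

/-- Two independent axes at one centre give the whole centre group. -/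
lemma centre_of_two {a φ ψ : Fin 3 → F} (ha : a ≠ 0) (hφ : φ ⬝ᵥ a = 0) (hψ : ψ ⬝ᵥ a = 0)
    (hφ0 : φ ≠ 0) (hind : ψ ∉ Submodule.span F {φ}) (h1 : Full M a φ) (h2 : Full M a ψ) :
    CentreG M a := by
  intro χ hχ
  have hle : Submodule.span F {φ, ψ} ≤ LinearMap.ker ((dotProductBilin F F).flip a) := by
    rw [Submodule.span_le, Set.insert_subset_iff, Set.singleton_subset_iff]
    exact ⟨hφ, hψ⟩
  have hlt : Submodule.span F {φ} < Submodule.span F {φ, ψ} := by
    refine lt_of_le_of_ne (Submodule.span_mono (by simp)) fun h => hind ?_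
    rw [h]
    exact Submodule.subset_span (by simp)
  have h3 := Submodule.finrank_lt_finrank_of_lt hlt
  rw [finrank_span_singleton hφ0] at h3
  have h4 := Submodule.eq_of_le_of_finrank_le hle (by rw [finrank_ker_dot ha]; omega)
  have hmem : χ ∈ Submodule.span F {φ, ψ} := h4 ▸ hχ
  obtain ⟨s, t, hst⟩ := Submodule.mem_span_pair.mp hmem
  rw [← hst, ← tv_add (smul_dot_zero hφ s) (smul_dot_zero hψ t)]
  exact M.mul_mem (h1 s) (h2 t)

/-- Two root groups with centre of the first on the axis of the second, but not conversely. -/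
lemma centre_of_pair {a φ b ψ : Fin 3 → F} (ha : a ≠ 0) (haφ : φ ⬝ᵥ a = 0) (hbψ : ψ ⬝ᵥ b = 0)
    (hψ0 : ψ ≠ 0) (h1 : Full M a φ) (h2 : Full M b ψ) (hψa : ψ ⬝ᵥ a = 0) (hφb : φ ⬝ᵥ b ≠ 0) :
    CentreG M a := by
  have hφ0 : φ ≠ 0 := fun h => hφb (by rw [h, zero_dotProduct])
  refine centre_of_two ha haφ hψa hφ0 (fun h => ?_) h1 ?_
  · obtain ⟨s, hs⟩ := Submodule.mem_span_singleton.mp h
    rw [← hs, smul_dotProduct, smul_eq_mul, mul_eq_zero, or_iff_left hφb] at hbψ
    exact hψ0 (by rw [← hs, hbψ, zero_smul])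
  intro c
  set d := c / (φ ⬝ᵥ b) with hddef
  have hb' : (d • ψ) ⬝ᵥ b = 0 := smul_dot_zero hbψ d
  have ha' : (d • ψ) ⬝ᵥ a = 0 := smul_dot_zero hψa d
  have h3 := M.mul_mem (M.mul_mem (h1 1) (h2 d)) (M.inv_mem (h1 1))
  rw [one_smul, tv_conj_tv haφ hb', ha', zero_smul, sub_zero,
    tv_add_left hb' (by rw [dotProduct_smul, ha', smul_zero]), M.mul_mem_cancel_left (h2 d),
    tv_smul_left ha', smul_smul, hddef, mul_div_cancel₀ _ hφb] at h3
  exact h3

/-- A full root group in an irreducible group gives a full centre group. -/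
lemma exists_centre (hirr : Irred M) {v φ : Fin 3 → F} (hv : v ≠ 0) (hφ : φ ≠ 0) (hvφ : φ ⬝ᵥ v = 0)
    (h : Full M v φ) : ∃ a, a ≠ 0 ∧ CentreG M a := by
  obtain ⟨g, hg, hgv⟩ := exists_orbit hirr hv hφ
  set w := (g : Matrix (Fin 3) (Fin 3) F) *ᵥ v with hw
  set ψ := φ ᵥ* ((g⁻¹ : GL (Fin 3) F) : Matrix (Fin 3) (Fin 3) F) with hψdef
  have hψw : ψ ⬝ᵥ w = 0 := by rw [hψdef, hw, ← Matrix.dotProduct_mulVec, inv_act_act, hvφ]
  have hψ0 : ψ ≠ 0 := fun h0 => hφ (by
    refine dotProduct_eq_zero φ fun x => ?_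
    have : ψ ⬝ᵥ ((g : Matrix (Fin 3) (Fin 3) F) *ᵥ x) = φ ⬝ᵥ x := by
      rw [hψdef, ← Matrix.dotProduct_mulVec, inv_act_act]
    rw [← this, h0, zero_dotProduct])
  have h' : Full M w ψ := h.conj hvφ hg
  by_cases hψv : ψ ⬝ᵥ v = 0
  · exact ⟨v, hv, centre_of_pair hv hvφ hψw hψ0 h h' hψv hgv⟩
  -- opposite root groups
  obtain ⟨r, hr, hr0⟩ := LinSubfieldMax97.exists_dot ![φ, ψ] (⊥ : Submodule F (Fin 3 → F))
    (by rw [finrank_bot, Fintype.card_fin]; omega)
  have hr0' : r ≠ 0 := by simpa using hr0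
  have hφr : φ ⬝ᵥ r = 0 := hr 0
  have hψr : ψ ⬝ᵥ r = 0 := hr 1
  -- a root group whose axis misses r
  obtain ⟨u, χ, huχ, hu, hχr, hF⟩ : ∃ u χ, χ ⬝ᵥ u = 0 ∧ u ≠ 0 ∧ χ ⬝ᵥ r ≠ 0 ∧ Full M u χ := by
    by_contra! hc
    obtain ⟨k, hk, hkr⟩ := exists_orbit hirr hr0' hφ
    have := hc _ _ (show (φ ᵥ* (((k⁻¹)⁻¹ : GL (Fin 3) F) : Matrix (Fin 3) (Fin 3) F)) ⬝ᵥ
        (((k⁻¹ : GL (Fin 3) F) : Matrix (Fin 3) (Fin 3) F) *ᵥ v) = 0 by
      rw [← Matrix.dotProduct_mulVec, inv_act_act, hvφ]) (act_ne_zero _ hv) (by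
        rw [← Matrix.dotProduct_mulVec, inv_inv]; exact hkr)
    exact this (h.conj hvφ (M.inv_mem hk))
  -- finish at a point X of the line through v and w lying on the axis of χ
  suffices key : ∀ X φX, X ≠ 0 → φX ⬝ᵥ X = 0 → φX ≠ 0 → Full M X φX → φX ⬝ᵥ r = 0 → χ ⬝ᵥ X = 0 →
      ∃ a, a ≠ 0 ∧ CentreG M a by
    by_cases hα : χ ⬝ᵥ v = 0
    · exact key v φ hv hvφ hφ h hφr hα
    set c := -(χ ⬝ᵥ w) / (χ ⬝ᵥ v) / (φ ⬝ᵥ w) with hcdef
    have hcv : (c • φ) ⬝ᵥ v = 0 := smul_dot_zero hvφ c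
    refine key (w + ((c • φ) ⬝ᵥ w) • v) (ψ - (ψ ⬝ᵥ v) • (c • φ)) (fun h0 => hgv ?_) ?_ (fun h0 => hψv ?_)
      (fun t => ?_) ?_ ?_
    · have := congrArg (φ ⬝ᵥ ·) h0
      simpa [dotProduct_add, dotProduct_smul, hvφ] using this
    · simp only [sub_dotProduct, smul_dotProduct, dotProduct_add, dotProduct_smul, hψw, hvφ, smul_eq_mul]
      ring
    · have := congrArg (fun z => z ⬝ᵥ v) h0
      simpa [sub_dotProduct, smul_dotProduct, hvφ] using this
    · have h1 := M.mul_mem (M.mul_mem (h c) (h' t)) (M.inv_mem (h c))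
      rw [tv_conj_tv hcv (smul_dot_zero hψw t)] at h1
      convert h1 using 2
      rw [smul_sub, smul_dotProduct, smul_eq_mul, smul_smul]
    · rw [sub_dotProduct, smul_dotProduct, smul_dotProduct, hψr, hφr, smul_zero, smul_zero, sub_zero]
    · rw [dotProduct_add, dotProduct_smul, smul_dotProduct, hcdef, smul_eq_mul, smul_eq_mul,
        div_mul_cancel₀ _ hgv, div_mul_cancel₀ _ hα, add_neg_cancel]
  intro X φX hX hXX hφX hFX hXr hXχ
  have hχ0 : χ ≠ 0 := fun h0 => hχr (by rw [h0, zero_dotProduct])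
  by_cases hu' : φX ⬝ᵥ u = 0
  swap
  · exact ⟨X, hX, centre_of_pair hX hXX huχ hχ0 hFX hF hXχ hu'⟩
  have hind : χ ∉ Submodule.span F {φX} := fun h0 => by
    obtain ⟨s, hs⟩ := Submodule.mem_span_singleton.mp h0
    rw [← hs, smul_dotProduct, hXr, smul_zero] at hχr
    exact hχr rfl
  -- u is a multiple of X
  obtain ⟨a, ha⟩ : ∃ a : F, a • X = u := by
    have hle : Submodule.span F {X, r} ≤ LinearMap.ker (dotProductBilin F F φX) := by
      rw [Submodule.span_le, Set.insert_subset_iff, Set.singleton_subset_iff]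
      exact ⟨hXX, hXr⟩
    have hlt : Submodule.span F {X} < Submodule.span F {X, r} := by
      refine lt_of_le_of_ne (Submodule.span_mono (by simp)) fun h0 => ?_
      have : r ∈ Submodule.span F {X} := by rw [h0]; exact Submodule.subset_span (by simp)
      obtain ⟨s, hs⟩ := Submodule.mem_span_singleton.mp this
      rw [← hs, dotProduct_smul, hXχ, smul_zero] at hχr
      exact hχr rfl
    have h3 := Submodule.finrank_lt_finrank_of_lt hlt
    rw [finrank_span_singleton hX] at h3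
    have hne : dotProductBilin F F φX ≠ (0 : (Fin 3 → F) →ₗ[F] F) := fun h0 =>
      hφX (dotProduct_eq_zero φX fun x => LinearMap.congr_fun h0 x)
    have h5 := Module.Dual.finrank_ker_add_one_of_ne_zero hne
    rw [Module.finrank_fin_fun] at h5
    have h4 := Submodule.eq_of_le_of_finrank_le hle (by omega)
    have hmem : u ∈ Submodule.span F {X, r} := h4 ▸ hu'
    obtain ⟨s, t, hst⟩ := Submodule.mem_span_pair.mp hmem
    refine ⟨s, ?_⟩
    rw [← hst, dotProduct_add, dotProduct_smul, dotProduct_smul, hXχ, smul_zero, zero_add, smul_eq_mul,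
      mul_eq_zero, or_iff_left hχr] at huχ
    rw [← hst, huχ, zero_smul, add_zero]
  have ha0 : a ≠ 0 := fun h0 => hu (by rw [← ha, h0, zero_smul])
  refine ⟨X, hX, centre_of_two hX hXX hXχ hφX hind hFX fun t => ?_⟩
  have h1 := hF (t / a)
  rwa [← ha, tv_smul_left (smul_dot_zero hXχ _), smul_smul, mul_div_cancel₀ _ ha0] at h1

/-- Centre groups are permuted by conjugation. -/
lemma CentreG.conj {v : Fin 3 → F} (h : CentreG M v) {g : GL (Fin 3) F} (hg : g ∈ M) :
    CentreG M ((g : Matrix (Fin 3) (Fin 3) F) *ᵥ v) := by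
  intro φ hφ
  set χ := φ ᵥ* (g : Matrix (Fin 3) (Fin 3) F) with hχ
  have hχv : χ ⬝ᵥ v = 0 := by rw [hχ, ← Matrix.dotProduct_mulVec, hφ]
  have h1 := M.mul_mem (M.mul_mem hg (h χ hχv)) (M.inv_mem hg)
  rw [tv_conj g hχv, hχ, Matrix.vecMul_vecMul, ← Units.val_mul, mul_inv_cancel, Units.val_one,
    Matrix.vecMul_one] at h1
  exact h1

/-- An irreducible subgroup of GL_3 with a full centre group contains SL_3. -/
theorem specialLinear_le_of_centre (hirr : Irred M) {v : Fin 3 → F} (hv : v ≠ 0) (h : CentreG M v) :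
    Cfsg.Geo.specialLinear (Fin 3) F ≤ M := by
  have hsmul : ∀ (a : Fin 3 → F) (c : F), CentreG M a → CentreG M (c • a) := fun a c ha φ hφ => by
    rcases eq_or_ne c 0 with rfl | hc
    · rw [zero_smul]
      convert M.one_mem
      exact gl_ext fun x => by rw [tv_act (dotProduct_zero φ), one_act, smul_zero, add_zero]
    rw [dotProduct_smul, smul_eq_zero, or_iff_right hc] at hφ
    rw [tv_smul_left hφ]
    exact ha _ (smul_dot_zero hφ c)
  let W : Submodule F (Fin 3 → F) :=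
    { carrier := {a | CentreG M a}
      zero_mem' := by simpa using hsmul v 0 h
      smul_mem' := fun c a ha => hsmul a c ha
      add_mem' := fun {a b} ha hb => by
        by_cases hab : b ∈ Submodule.span F {a}
        · obtain ⟨s, hs⟩ := Submodule.mem_span_singleton.mp hab
          show CentreG M (a + b)
          rw [← hs]
          nth_rewrite 1 [← one_smul F a]
          rw [← add_smul]
          exact hsmul a _ ha
        obtain ⟨φ, hφb, hφa⟩ := LinSubfieldMax97.exists_sep hab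
        have hφa' := hφa a (Submodule.mem_span_singleton_self a)
        show CentreG M (a + b)
        have h1 := hb.conj (ha φ hφa')
        rwa [tv_act hφa', hφb, one_smul, add_comm] at h1 }
  rcases hirr W (fun g hg x hx => CentreG.conj hx hg) with hW | hW
  · exact absurd (show v ∈ W from h) (by simp [hW, hv])
  · exact specialLinear_le fun a φ hφ => (show a ∈ W from hW ▸ Submodule.mem_top) φ hφ

/-- An irreducible subgroup of GL_3 with a full transvection root group contains SL_3. -/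
theorem specialLinear_le_of_root (hirr : Irred M) {v φ : Fin 3 → F} (hv : v ≠ 0) (hφ : φ ≠ 0)
    (hvφ : φ ⬝ᵥ v = 0) (h : ∀ c : F, tv v (c • φ) ∈ M) :
    Cfsg.Geo.specialLinear (Fin 3) F ≤ M := by
  obtain ⟨a, ha, hC⟩ := exists_centre hirr hv hφ hvφ h
  exact specialLinear_le_of_centre hirr ha hC

end Cfsg.Agent.LinThreeRoot38
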