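import Cfsg.Agent.Lib.DecompMaxLift
import Cfsg.Agent.Lib.DecompMaxGen
import Cfsg.Agent.Lib.LinThreeRoot38

/-!
An overgroup of the monomial group of SL_3 (q ≥ 5) with a non-monomial element mapping one coordinate line to a
coordinate line contains a full transvection root group.
-/

set_option autoImplicit false
set_option linter.unusedSectionVars false

namespace Cfsg.Agent.LinThreeDecompLine38

open Cfsg.Agent.TransvectionMax Cfsg.Agent.DecompMaxBasic Cfsg.Agent.DecompMaxLift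
open scoped MatrixGroups Matrix

variable {F : Type*} [Field F] [Fintype F]

/-- M contains a full transvection root group. -/
def Found (M : Subgroup (GL (Fin 3) F)) : Prop :=
  ∃ v φ : Fin 3 → F, v ≠ 0 ∧ φ ≠ 0 ∧ φ ⬝ᵥ v = 0 ∧ ∀ c : F, tv v (c • φ) ∈ M

theorem cases3 {o k l : Fin 3} (h1 : o ≠ k) (h2 : o ≠ l) (h3 : k ≠ l) (i : Fin 3) : i = o ∨ i = k ∨ i = l := by
  revert o k l i; decide

theorem exists_third (o k : Fin 3) : ∃ l : Fin 3, l ≠ o ∧ l ≠ k := by
  revert o k; decide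

theorem sum3 {R : Type*} [AddCommMonoid R] {o k l : Fin 3} (h1 : o ≠ k) (h2 : o ≠ l) (h3 : k ≠ l)
    (G : Fin 3 → R) : ∑ i, G i = G o + (G k + G l) := by
  have hu : (Finset.univ : Finset (Fin 3)) = {o, k, l} := by revert o k l; decide
  rw [hu, Finset.sum_insert (by simp [h1, h2]), Finset.sum_pair h3]

/-- The diagonal entries a at o, b at k and c at the third place. -/
def d3 (o k : Fin 3) (a b c : Fˣ) : Fin 3 → Fˣ := fun i => if i = o then a else if i = k then b else c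

theorem dg_val {ι : Type} [Fintype ι] [DecidableEq ι] (d : ι → Fˣ) :
    (dg d : Matrix ι ι F) = Matrix.diagonal fun i => (d i : F) :=
  Matrix.ext_iff_mulVec.mpr fun x => funext fun i => by rw [dg_act, Matrix.mulVec_diagonal]

theorem mul_dg_apply {ι : Type} [Fintype ι] [DecidableEq ι] (g : GL ι F) (d : ι → Fˣ) (i j : ι) :
    ((g * dg d : GL ι F) : Matrix ι ι F) i j = (g : Matrix ι ι F) i j * d j := by
  rw [Units.val_mul, dg_val, Matrix.mul_diagonal]

theorem dg_mul_apply {ι : Type} [Fintype ι] [DecidableEq ι] (g : GL ι F) (d : ι → Fˣ) (i j : ι) :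
    ((dg d * g : GL ι F) : Matrix ι ι F) i j = d i * (g : Matrix ι ι F) i j := by
  rw [Units.val_mul, dg_val, Matrix.diagonal_mul]

/-- A product in SL_3(5) of block and monomial elements that is a transvection. -/
theorem five_word : (!![2, 0, 0; 0, 1, 1; 0, 1, -1] * !![0, 0, 1; 1, 0, 0; 0, 1, 0] * !![2, 0, 0; 0, 1, 1; 0, 1, -1] *
    !![0, 0, 1; 1, 0, 0; 0, 1, 0] * !![2, 0, 0; 0, 3, 0; 0, 0, 1] * !![2, 0, 0; 0, 1, 1; 0, 1, -1] *
    !![0, 0, 1; 1, 0, 0; 0, 1, 0] * !![2, 0, 0; 0, 1, 1; 0, 1, -1] * !![0, 0, 1; 1, 0, 0; 0, 1, 0] *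
    !![2, 0, 0; 0, 3, 0; 0, 0, 1] : Matrix (Fin 3) (Fin 3) (ZMod 5)) = !![4, 3, 3; 0, 1, 0; 2, 2, 3] := by
  decide

variable {M : Subgroup (GL (Fin 3) F)} (hM : Over M)
include hM

theorem dg3_mem {o k l : Fin 3} (h1 : o ≠ k) (h2 : o ≠ l) (h3 : k ≠ l) {a b c : Fˣ} (h : a * b * c = 1) :
    dg (d3 o k a b c) ∈ M := by
  refine hM.mono _ _ ?_
  have hu : (Finset.univ : Finset (Fin 3)) = {o, k, l} := by revert o k l; decide
  rw [mn_det, Equiv.Perm.sign_one, Units.val_one, Int.cast_one, one_mul, hu,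
    Finset.prod_insert (by simp [h1, h2]), Finset.prod_pair h3]
  simp only [d3, if_pos, if_neg h1.symm, if_neg h2.symm, if_neg h3.symm]
  rw [← Units.val_mul, ← Units.val_mul, ← mul_assoc, h, Units.val_one]

/-- An elementary transvection gives a full root group. -/
theorem found_of_el {i j : Fin 3} (hij : i ≠ j) {c : F} (hc : c ≠ 0) (h : el i j c ∈ M) : Found M := by
  obtain ⟨l, hli, hlj⟩ := exists_third i j
  have hd : (Pi.single j (1 : F) : Fin 3 → F) ⬝ᵥ (Pi.single i c : Fin 3 → F) = 0 := single_dot_single hij.symm c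
  refine ⟨Pi.single i c, Pi.single j 1, by simpa using hc, by simp, hd, fun s => ?_⟩
  rcases eq_or_ne s 0 with rfl | hs
  · rw [zero_smul, tv_zero_right]; exact M.one_mem
  have hmem := dg3_mem hM hij hli.symm hlj.symm (a := Units.mk0 s hs) (b := 1) (c := (Units.mk0 s hs)⁻¹)
    (by rw [mul_one, mul_inv_cancel])
  have h1 := M.mul_mem (M.mul_mem hmem h) (M.inv_mem hmem)
  rw [dg, DecompMaxGen.el_conj _ _ hij] at h1
  simp only [Equiv.Perm.one_apply, d3, if_pos, if_neg hij.symm, Units.val_mk0, inv_one, Units.val_one,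
    mul_one] at h1
  rw [← LinSubfieldMax97.tv_smul_left hd, ← Pi.single_smul, smul_eq_mul]
  exact h1

/-- A transvection with centre a coordinate vector gives a full root group. -/
theorem found_of_centre (hq : 5 ≤ Fintype.card F) {o : Fin 3} {r : Fin 3 → F} (hro : r o = 0) (hr : r ≠ 0)
    (h : tv (Pi.single o 1) r ∈ M) : Found M := by
  obtain ⟨k, hk⟩ := Function.ne_iff.1 hr
  have hk' : r k ≠ 0 := hk
  have hko : o ≠ k := fun e => hk' (e ▸ hro)
  obtain ⟨l, hlo, hlk⟩ := exists_third o k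
  obtain ⟨u, -, -, hu⟩ := exists_lam hq
  have hmem := dg3_mem hM hko hlo.symm hlk.symm (a := u) (b := (u * u)⁻¹) (c := u)
    (by rw [mul_inv_rev, mul_assoc u _ u, mul_assoc, inv_mul_cancel, mul_one, mul_inv_cancel])
  refine found_of_el hM hko (c := r k * ((u : F) ^ 3 - 1))
    (mul_ne_zero hk' (sub_ne_zero.mpr hu)) ?_
  have h1 := M.mul_mem (M.mul_mem (M.mul_mem hmem h) (M.inv_mem hmem)) (M.inv_mem h)
  convert h1 using 1
  rw [eq_mul_inv_iff_mul_eq, eq_mul_inv_iff_mul_eq]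
  have ho : r ⬝ᵥ Pi.single o (1 : F) = 0 := by simp [hro]
  refine gl_ext fun x => funext fun p => ?_
  rw [mul_act, mul_act, mul_act, el_act hko, tv_act ho, tv_act ho]
  simp only [Pi.add_apply, Pi.smul_apply, smul_eq_mul, dg_act, dotProduct, sum3 hko hlo.symm hlk.symm]
  have hu0 : (u : F) ≠ 0 := u.ne_zero
  rcases cases3 hko hlo.symm hlk.symm p with rfl | rfl | rfl <;>
    simp [d3, hko, hko.symm, hlo, hlo.symm, hlk, hlk.symm, hro]
  field_simp
  ring

/-- A transvection with axis a coordinate hyperplane gives a full root group. -/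
theorem found_of_axis (hq : 5 ≤ Fintype.card F) {k : Fin 3} {w : Fin 3 → F} (hwk : w k = 0) (hw : w ≠ 0)
    (h : tv w (Pi.single k 1) ∈ M) : Found M := by
  obtain ⟨i, hi⟩ := Function.ne_iff.1 hw
  have hi' : w i ≠ 0 := hi
  have hik : i ≠ k := fun e => hi' (e ▸ hwk)
  obtain ⟨j, hji, hjk⟩ := exists_third i k
  obtain ⟨u, -, -, hu⟩ := exists_lam hq
  have hmem := dg3_mem hM hik hji.symm hjk.symm (a := (u * u)⁻¹) (b := u) (c := u)
    (by rw [mul_assoc, inv_mul_cancel])
  have hu0 : (u : F) ≠ 0 := u.ne_zero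
  refine found_of_el hM hik (c := w i * (((u : F) ^ 3)⁻¹ - 1)) (mul_ne_zero hi' (sub_ne_zero.mpr fun e =>
    hu (by rw [inv_eq_one] at e; exact e))) ?_
  have h1 := M.mul_mem (M.mul_mem (M.mul_mem hmem h) (M.inv_mem hmem)) (M.inv_mem h)
  convert h1 using 1
  rw [eq_mul_inv_iff_mul_eq, eq_mul_inv_iff_mul_eq]
  have ho : (Pi.single k (1 : F) : Fin 3 → F) ⬝ᵥ w = 0 := by simp [hwk]
  refine gl_ext fun x => funext fun p => ?_
  rw [mul_act, mul_act, mul_act, el_act hik, tv_act ho, tv_act ho]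
  simp only [Pi.add_apply, Pi.smul_apply, smul_eq_mul, dg_act, single_dotProduct, one_mul]
  rcases cases3 hik hji.symm hjk.symm p with rfl | rfl | rfl <;>
    simp [d3, hik, hik.symm, hji, hji.symm, hjk, hjk.symm, hwk] <;> field_simp <;> ring

/-- A block element with one zero in the block. -/
theorem found_of_block_zero {y : GL (Fin 3) F} (hy : y ∈ M) {o p p' q q' : Fin 3} (hp : p ≠ o) (hp' : p' ≠ o)
    (hpp : p ≠ p') (hq' : q ≠ o) (hq'' : q' ≠ o) (hqq : q ≠ q')
    (hcol : ∀ i, i ≠ o → (y : Matrix (Fin 3) (Fin 3) F) i o = 0)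
    (hrow : ∀ j, j ≠ o → (y : Matrix (Fin 3) (Fin 3) F) o j = 0)
    (hz : (y : Matrix (Fin 3) (Fin 3) F) p q = 0) (h2 : (y : Matrix (Fin 3) (Fin 3) F) p' q' ≠ 0) : Found M := by
  set A := (y : Matrix (Fin 3) (Fin 3) F) with hA
  have hoo : A o o ≠ 0 := fun h0 => act_ne_zero y (x := Pi.single o (1 : F)) (by simp) (by
    rw [mulVec_single]; funext i; rcases eq_or_ne i o with rfl | hi
    · exact h0
    · exact hcol i hi)
  have hp'q : A p' q ≠ 0 := fun h0 => act_ne_zero y (x := Pi.single q (1 : F)) (by simp) (by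
    rw [mulVec_single]; funext i
    rcases cases3 hp.symm hp'.symm hpp i with rfl | rfl | rfl
    exacts [hrow q hq', hz, h0])
  have hpq' : A p q' ≠ 0 := fun h0 => by
    have := congrFun (act_inv_act y (Pi.single p (1 : F))) p
    simp [Matrix.mulVec, dotProduct, sum3 hq'.symm hq''.symm hqq, ← hA, hcol p hp, hz, h0] at this
  let e1 : Fin 3 → Fin 3 := fun i => if i = o then o else if i = p' then q else q'
  have he1 : Function.Bijective e1 := Finite.injective_iff_bijective.mp fun a b hab => by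
    rcases cases3 hp.symm hp'.symm hpp a with ha | ha | ha <;>
    rcases cases3 hp.symm hp'.symm hpp b with hb | hb | hb <;>
      simp [e1, ha, hb, hp, hp', hpp, hq', hq'', hqq, hq'.symm, hq''.symm, hqq.symm] at hab ⊢
  let d : Fin 3 → Fˣ := d3 o p' (Units.mk0 _ hoo)⁻¹ (Units.mk0 _ hp'q)⁻¹ (Units.mk0 _ hpq')⁻¹
  set σ := Equiv.ofBijective e1 he1 with hσ
  have hz' : y * mn σ d = el p' p (A p' q' / A p q') := by
    refine gl_ext fun x => funext fun i => ?_
    rw [mul_act, el_act hpp.symm, Matrix.mulVec, dotProduct,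
      ← Equiv.sum_comp σ, sum3 hp.symm hp'.symm hpp]
    simp only [mn_act']
    have s1 : σ o = o := by simp [hσ, Equiv.ofBijective, e1]
    have s2 : σ p' = q := by simp [hσ, Equiv.ofBijective, e1, hp']
    have s3 : σ p = q' := by simp [hσ, Equiv.ofBijective, e1, hp, hpp]
    simp only [s1, s2, s3, Pi.add_apply, Pi.smul_apply, smul_eq_mul, ← hA]
    rcases cases3 hp.symm hp'.symm hpp i with hi | hi | hi <;>
      simp [hi, d, d3, hp, hp', hp.symm, hp'.symm, hpp, hpp.symm, hcol p hp, hcol p' hp', hrow q hq', hrow q' hq'',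
        hz, hoo, hp'q, hpq'] <;> field_simp <;> ring
  refine found_of_el hM hpp.symm (div_ne_zero h2 hpq') (hz' ▸ M.mul_mem hy (hM.mono _ _ ?_))
  have := congrArg (fun u : GL (Fin 3) F => (u : Matrix (Fin 3) (Fin 3) F).det) hz'
  simp only [Units.val_mul, Matrix.det_mul, hM.sl y hy, one_mul, el_det] at this
  exact this

section Block

variable {y : GL (Fin 3) F} (hy : y ∈ M)
  (hcol : ∀ i, i ≠ 0 → (y : Matrix (Fin 3) (Fin 3) F) i 0 = 0)
  (hrow : ∀ j, j ≠ 0 → (y : Matrix (Fin 3) (Fin 3) F) 0 j = 0)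

include hy hcol hrow in
/-- Conjugating a torus element by a block element. -/
theorem block_conj (t : Fˣ) :
    ∃ z ∈ M, (∀ i, i ≠ 0 → (z : Matrix (Fin 3) (Fin 3) F) i 0 = 0) ∧
      (∀ j, j ≠ 0 → (z : Matrix (Fin 3) (Fin 3) F) 0 j = 0) ∧
      ((y : Matrix (Fin 3) (Fin 3) F) 1 1 * (y : Matrix (Fin 3) (Fin 3) F) 2 2 -
        (y : Matrix (Fin 3) (Fin 3) F) 1 2 * (y : Matrix (Fin 3) (Fin 3) F) 2 1) ≠ 0 ∧
      ∀ a b e f : F, a = (y : Matrix (Fin 3) (Fin 3) F) 1 1 → b = (y : Matrix (Fin 3) (Fin 3) F) 1 2 →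
        e = (y : Matrix (Fin 3) (Fin 3) F) 2 1 → f = (y : Matrix (Fin 3) (Fin 3) F) 2 2 →
        (z : Matrix (Fin 3) (Fin 3) F) 1 1 * (a * f - b * e) = t * a * f - b * e ∧
        (z : Matrix (Fin 3) (Fin 3) F) 1 2 * (a * f - b * e) = (1 - t) * a * b ∧
        (z : Matrix (Fin 3) (Fin 3) F) 2 1 * (a * f - b * e) = (t - 1) * e * f ∧
        (z : Matrix (Fin 3) (Fin 3) F) 2 2 * (a * f - b * e) = a * f - t * b * e := by
  have hmem := dg3_mem hM (o := 0) (k := 1) (l := 2) (by decide) (by decide) (by decide)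
    (a := t⁻¹) (b := t) (c := 1) (by simp)
  set z := y * dg (d3 0 1 t⁻¹ t 1) * y⁻¹
  have hdet := hM.sl y hy
  rw [Matrix.det_fin_three, hcol 1 (by decide), hcol 2 (by decide), hrow 1 (by decide),
    hrow 2 (by decide)] at hdet
  have hzy : ∀ i j, (y : Matrix (Fin 3) (Fin 3) F) i j * (d3 0 1 t⁻¹ t 1 j : F) =
      (z : Matrix (Fin 3) (Fin 3) F) i 0 * (y : Matrix (Fin 3) (Fin 3) F) 0 j +
      ((z : Matrix (Fin 3) (Fin 3) F) i 1 * (y : Matrix (Fin 3) (Fin 3) F) 1 j +
      (z : Matrix (Fin 3) (Fin 3) F) i 2 * (y : Matrix (Fin 3) (Fin 3) F) 2 j) := by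
    intro i j
    rw [← mul_dg_apply, show y * dg (d3 0 1 t⁻¹ t 1) = z * y by simp [z], Units.val_mul, Matrix.mul_apply,
      sum3 (o := 0) (k := 1) (l := 2) (by decide) (by decide) (by decide)]
  have hc0 : (y : Matrix (Fin 3) (Fin 3) F) 0 0 ≠ 0 := fun h => by rw [h] at hdet; simp at hdet
  have hD : ((y : Matrix (Fin 3) (Fin 3) F) 1 1 * (y : Matrix (Fin 3) (Fin 3) F) 2 2 -
        (y : Matrix (Fin 3) (Fin 3) F) 1 2 * (y : Matrix (Fin 3) (Fin 3) F) 2 1) ≠ 0 := fun h => by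
    apply zero_ne_one (α := F)
    linear_combination hdet - (y : Matrix (Fin 3) (Fin 3) F) 0 0 * h
  have hz0 : ∀ i, i ≠ 0 → (z : Matrix (Fin 3) (Fin 3) F) i 0 = 0 := fun i hi => by
    have h := hzy i 0
    rw [hcol 1 (by decide), hcol 2 (by decide), hcol i hi] at h
    simp at h
    exact h.resolve_right hc0
  have hzr : ∀ j, j ≠ 0 → (z : Matrix (Fin 3) (Fin 3) F) 0 j = 0 := by
    have h1 := hzy 0 1
    have h2 := hzy 0 2
    rw [hrow 1 (by decide)] at h1
    rw [hrow 2 (by decide)] at h2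
    intro j hj
    rcases cases3 (o := (0 : Fin 3)) (k := 1) (l := 2) (by decide) (by decide) (by decide) j with rfl | rfl | rfl
    · exact absurd rfl hj
    · refine (mul_eq_zero.mp (?_ : (z : Matrix (Fin 3) (Fin 3) F) 0 1 * _ = 0)).resolve_right hD
      linear_combination -(y : Matrix (Fin 3) (Fin 3) F) 2 2 * h1 + (y : Matrix (Fin 3) (Fin 3) F) 2 1 * h2
    · refine (mul_eq_zero.mp (?_ : (z : Matrix (Fin 3) (Fin 3) F) 0 2 * _ = 0)).resolve_right hD
      linear_combination (y : Matrix (Fin 3) (Fin 3) F) 1 2 * h1 - (y : Matrix (Fin 3) (Fin 3) F) 1 1 * h2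
  refine ⟨z, M.mul_mem (M.mul_mem hy hmem) (M.inv_mem hy), hz0, hzr, hD, ?_⟩
  rintro a b e f rfl rfl rfl rfl
  have h11 := hzy 1 1
  have h12 := hzy 1 2
  have h21 := hzy 2 1
  have h22 := hzy 2 2
  rw [hz0 1 (by decide), show d3 0 1 t⁻¹ t 1 1 = t by simp [d3]] at h11
  rw [hz0 1 (by decide), show d3 0 1 t⁻¹ t 1 2 = 1 by simp [d3]] at h12
  rw [hz0 2 (by decide), show d3 0 1 t⁻¹ t 1 1 = t by simp [d3]] at h21
  rw [hz0 2 (by decide), show d3 0 1 t⁻¹ t 1 2 = 1 by simp [d3]] at h22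
  simp only [Units.val_one, zero_mul, zero_add, mul_one] at h11 h12 h21 h22
  exact ⟨by linear_combination (y : Matrix (Fin 3) (Fin 3) F) 2 1 * h12 - (y : Matrix (Fin 3) (Fin 3) F) 2 2 * h11,
    by linear_combination (y : Matrix (Fin 3) (Fin 3) F) 1 2 * h11 - (y : Matrix (Fin 3) (Fin 3) F) 1 1 * h12,
    by linear_combination (y : Matrix (Fin 3) (Fin 3) F) 2 1 * h22 - (y : Matrix (Fin 3) (Fin 3) F) 2 2 * h21,
    by linear_combination (y : Matrix (Fin 3) (Fin 3) F) 1 2 * h21 - (y : Matrix (Fin 3) (Fin 3) F) 1 1 * h22⟩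

include hy hcol hrow in
/-- A full block whose two products are not opposite. -/
theorem found_of_block (h11 : (y : Matrix (Fin 3) (Fin 3) F) 1 1 ≠ 0) (h12 : (y : Matrix (Fin 3) (Fin 3) F) 1 2 ≠ 0)
    (h21 : (y : Matrix (Fin 3) (Fin 3) F) 2 1 ≠ 0) (h22 : (y : Matrix (Fin 3) (Fin 3) F) 2 2 ≠ 0)
    (hne : (y : Matrix (Fin 3) (Fin 3) F) 1 1 * (y : Matrix (Fin 3) (Fin 3) F) 2 2 +
      (y : Matrix (Fin 3) (Fin 3) F) 1 2 * (y : Matrix (Fin 3) (Fin 3) F) 2 1 ≠ 0) : Found M := by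
  set a := (y : Matrix (Fin 3) (Fin 3) F) 1 1
  set b := (y : Matrix (Fin 3) (Fin 3) F) 1 2
  set e := (y : Matrix (Fin 3) (Fin 3) F) 2 1
  set f := (y : Matrix (Fin 3) (Fin 3) F) 2 2
  have ht : b * e / (a * f) ≠ 0 := by simp [h11, h12, h21, h22]
  obtain ⟨z, hz, hzc, hzr, hD, hzf⟩ := block_conj hM hy hcol hrow (Units.mk0 _ ht)
  obtain ⟨e11, -, -, e22⟩ := hzf a b e f rfl rfl rfl rfl
  have hz11 : (z : Matrix (Fin 3) (Fin 3) F) 1 1 = 0 := by
    refine (mul_eq_zero.mp (?_ : _ * (a * f - b * e) = 0)).resolve_right hD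
    rw [e11, Units.val_mk0]; field_simp; ring
  have hz22 : (z : Matrix (Fin 3) (Fin 3) F) 2 2 ≠ 0 := fun h => by
    rw [h, zero_mul, Units.val_mk0] at e22
    field_simp at e22
    have : (a * f - b * e) * (a * f + b * e) = 0 := by linear_combination -e22
    exact hne ((mul_eq_zero.mp this).resolve_left hD)
  exact found_of_block_zero hM hz (o := 0) (p := 1) (p' := 2) (q := 1) (q' := 2) (by decide) (by decide)
    (by decide) (by decide) (by decide) (by decide) hzc hzr hz11 hz22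

/-- The five element field needs one explicit word. -/
theorem found_five (hq : Fintype.card F = 5) {w : GL (Fin 3) F} (hw : w ∈ M)
    (h : (w : Matrix (Fin 3) (Fin 3) F) = !![2, 0, 0; 0, 1, 1; 0, 1, -1]) : Found M := by
  haveI : Fact (Nat.Prime 5) := ⟨by norm_num⟩
  haveI : CharP F 5 := charP_of_card_eq_prime hq
  let φ : ZMod 5 →+* F := ZMod.castHom (dvd_refl 5) F
  let Y : Matrix (Fin 3) (Fin 3) (ZMod 5) := !![2, 0, 0; 0, 1, 1; 0, 1, -1]
  let P : Matrix (Fin 3) (Fin 3) (ZMod 5) := !![0, 0, 1; 1, 0, 0; 0, 1, 0]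
  let D : Matrix (Fin 3) (Fin 3) (ZMod 5) := !![2, 0, 0; 0, 3, 0; 0, 0, 1]
  have h5 : (5 : F) = 0 := by exact_mod_cast CharP.cast_eq_zero F 5
  have h2 : (2 : F) ≠ 0 := fun h0 => one_ne_zero (α := F) (by linear_combination h5 - 2 * h0)
  have h3 : (3 : F) ≠ 0 := fun h0 => one_ne_zero (α := F) (by linear_combination 2 * h0 - h5)
  let σ : Equiv.Perm (Fin 3) := Equiv.swap 0 1 * Equiv.swap 1 2
  have hP : mn σ (fun _ => (1 : Fˣ)) ∈ M := hM.mono _ _ (by
    rw [mn_det, Equiv.Perm.sign_mul, Equiv.Perm.sign_swap (by decide), Equiv.Perm.sign_swap (by decide)]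
    simp)
  have hD : dg (d3 (0 : Fin 3) 1 (Units.mk0 (2 : F) h2) (Units.mk0 3 h3) 1) ∈ M :=
    dg3_mem hM (o := 0) (k := 1) (l := 2) (by decide) (by decide) (by decide) (Units.ext (by
      simp only [mul_one, Units.val_mul, Units.val_mk0, Units.val_one]
      linear_combination h5))
  have hPv : ((mn σ (fun _ => (1 : Fˣ)) : GL (Fin 3) F) : Matrix (Fin 3) (Fin 3) F) = P.map φ := by
    ext i j
    rw [← congrFun (mulVec_single (mn σ (fun _ => (1 : Fˣ)) : Matrix (Fin 3) (Fin 3) F) j) i, mn_single]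
    fin_cases i <;> fin_cases j <;> simp [σ, P, Equiv.swap_apply_def, Equiv.Perm.mul_apply]
  have hDv : ((dg (d3 (0 : Fin 3) 1 (Units.mk0 (2 : F) h2) (Units.mk0 3 h3) 1) : GL (Fin 3) F) :
      Matrix (Fin 3) (Fin 3) F) = D.map φ := by
    rw [dg_val]
    ext i j
    fin_cases i <;> fin_cases j <;> simp [d3, D, φ, map_ofNat]
  have hWv : (w : Matrix (Fin 3) (Fin 3) F) = Y.map φ := by
    rw [h]
    ext i j
    fin_cases i <;> fin_cases j <;> simp [Y, map_ofNat]
  set u := w * mn σ (fun _ => (1 : Fˣ)) * w * mn σ (fun _ => (1 : Fˣ)) *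
    dg (d3 (0 : Fin 3) 1 (Units.mk0 (2 : F) h2) (Units.mk0 3 h3) 1) * w * mn σ (fun _ => (1 : Fˣ)) * w *
    mn σ (fun _ => (1 : Fˣ)) * dg (d3 (0 : Fin 3) 1 (Units.mk0 (2 : F) h2) (Units.mk0 3 h3) 1)
  have huM : u ∈ M := by
    refine M.mul_mem ?_ hD
    refine M.mul_mem (M.mul_mem (M.mul_mem (M.mul_mem (M.mul_mem ?_ hD) hw) hP) hw) hP
    exact M.mul_mem (M.mul_mem (M.mul_mem hw hP) hw) hP
  have huv : (u : Matrix (Fin 3) (Fin 3) F) = (!![4, 3, 3; 0, 1, 0; 2, 2, 3] : Matrix (Fin 3) (Fin 3) (ZMod 5)).map φ := by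
    rw [← five_word]
    simp only [u, Y, P, D, Units.val_mul, hWv, hPv, hDv, Matrix.map_mul]
  set v : Fin 3 → F := ![3, 0, 2]
  set χ : Fin 3 → F := ![1, 1, 1]
  have hd : χ ⬝ᵥ v = 0 := by
    simp [χ, v, dotProduct, Fin.sum_univ_three]
    linear_combination h5
  have hu : u = tv v χ := tv_eq_of_act hd fun x => by
    rw [huv]
    funext i
    fin_cases i <;>
      simp [χ, v, Matrix.mulVec, dotProduct, Fin.sum_univ_three, map_ofNat] <;> ring
  refine ⟨v, χ, fun h0 => h2 (by simpa [v] using congrFun h0 2), fun h0 => one_ne_zero (α := F)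
    (by simpa [χ] using congrFun h0 0), hd, fun c => ?_⟩
  obtain ⟨n, rfl⟩ : ∃ n : ℕ, (n : F) = c := by
    obtain ⟨a, rfl⟩ := (ZMod.castHom_bijective F hq (n := 5)).2 c
    exact ⟨a.val, by rw [← map_natCast φ, ZMod.natCast_zmod_val]⟩
  induction n with
  | zero => rw [Nat.cast_zero, zero_smul, tv_zero_right]; exact M.one_mem
  | succ k ih =>
    rw [Nat.cast_succ, add_smul, one_smul, ← tv_add (LinThreeRoot38.smul_dot_zero hd _) hd]
    exact M.mul_mem ih (hu ▸ huM)

end Block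

/-- A non-monomial element fixing the first coordinate line is enough. -/
theorem found_of_first (hq : 5 ≤ Fintype.card F) {y : GL (Fin 3) F} (hy : y ∈ M) (hmono : ¬ Mono y) {c : F}
    (hc : (y : Matrix (Fin 3) (Fin 3) F) *ᵥ Pi.single 0 (1 : F) = c • Pi.single 0 (1 : F)) : Found M := by
  classical
  set A := (y : Matrix (Fin 3) (Fin 3) F) with hA
  have hcol : ∀ i, i ≠ 0 → A i 0 = 0 := fun i hi => by
    have := congrFun hc i
    rw [mulVec_single] at this
    simpa [hi] using this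
  have hA00 : A 0 0 = c := by
    have := congrFun hc 0
    rw [mulVec_single] at this
    simpa using this
  have hc0 : c ≠ 0 := fun h => act_ne_zero y (x := Pi.single 0 (1 : F)) (by simp) (by rw [hc, h, zero_smul])
  by_cases hrow : ¬ ∀ j, j ≠ 0 → A 0 j = 0
  · push Not at hrow
    obtain ⟨j, hj, hAj⟩ := hrow
    obtain ⟨u, -, -, hu⟩ := exists_lam hq
    set r0 : Fin 3 → F := ![0, A 0 1, A 0 2] with hr0
    set r := (((u : F) ^ 3)⁻¹ - 1) • (r0 ᵥ* ((y⁻¹ : GL (Fin 3) F) : Matrix (Fin 3) (Fin 3) F)) with hr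
    have hs : ((u : F) ^ 3)⁻¹ - 1 ≠ 0 := sub_ne_zero.mpr fun e => hu (by rw [inv_eq_one] at e; exact e)
    have hyi : ((y⁻¹ : GL (Fin 3) F) : Matrix (Fin 3) (Fin 3) F) *ᵥ Pi.single 0 (1 : F) =
        c⁻¹ • Pi.single 0 (1 : F) := act_injective y (by
      dsimp only
      rw [act_inv_act, Matrix.mulVec_smul, hc, smul_smul, inv_mul_cancel₀ hc0, one_smul])
    have hro : r ⬝ᵥ Pi.single 0 (1 : F) = 0 := by
      rw [hr, smul_dotProduct, ← Matrix.dotProduct_mulVec, hyi, dotProduct_smul, dotProduct_single, hr0]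
      simp
    have hd := dg3_mem hM (o := 0) (k := 1) (l := 2) (by decide) (by decide) (by decide)
      (a := (u * u)⁻¹) (b := u) (c := u) (by rw [mul_assoc, inv_mul_cancel])
    refine found_of_centre hM hq (o := 0) (r := r) (by simpa using hro) (fun h0 => ?_) ?_
    · rw [hr, smul_eq_zero, or_iff_right hs] at h0
      have h1 := congrArg (fun z => z ᵥ* A) h0
      simp only [hA, Matrix.vecMul_vecMul, ← Units.val_mul, inv_mul_cancel, Units.val_one, Matrix.vecMul_one,
        Matrix.zero_vecMul] at h1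
      rcases cases3 (o := (0 : Fin 3)) (k := 1) (l := 2) (by decide) (by decide) (by decide) j with rfl | rfl | rfl
      · exact hj rfl
      · exact hAj (by simpa [hr0] using congrFun h1 1)
      · exact hAj (by simpa [hr0] using congrFun h1 2)
    · have h1 := M.mul_mem (M.mul_mem (M.mul_mem hd hy) (M.inv_mem hd)) (M.inv_mem hy)
      convert h1 using 1
      rw [eq_mul_inv_iff_mul_eq, eq_mul_inv_iff_mul_eq]
      refine gl_ext fun x => funext fun p => ?_
      rw [mul_act, mul_act, mul_act, tv_act hro, hr, smul_dotProduct, ← Matrix.dotProduct_mulVec, inv_act_act]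
      have hu0 : (u : F) ≠ 0 := u.ne_zero
      have hy3 : ∀ (w : Fin 3 → F) i, (A *ᵥ w) i = A i 0 * w 0 + (A i 1 * w 1 + A i 2 * w 2) := fun w i =>
        sum3 (o := (0 : Fin 3)) (k := 1) (l := 2) (by decide) (by decide) (by decide) (fun j => A i j * w j)
      simp only [Pi.add_apply, Pi.smul_apply, smul_eq_mul, hy3, dg_act, ← hA]
      simp only [dotProduct, dg_act,
        sum3 (o := (0 : Fin 3)) (k := 1) (l := 2) (by decide) (by decide) (by decide)]
      rcases cases3 (o := (0 : Fin 3)) (k := 1) (l := 2) (by decide) (by decide) (by decide) p with rfl | rfl | rfl <;>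
        simp [d3, hr0, hA00, hcol 1 (by decide), hcol 2 (by decide)] <;> field_simp <;> ring
  rw [not_not] at hrow
  have hfull : ∀ p q : Fin 3, p ≠ 0 → q ≠ 0 → A p q = 0 → Found M := fun p q hp hq0 hz => by
    obtain ⟨p', hp', hpp⟩ := exists_third 0 p
    obtain ⟨q', hq', hqq⟩ := exists_third 0 q
    refine found_of_block_zero hM hy hp hp' hpp.symm hq0 hq' hqq.symm hcol hrow hz fun h0 => hmono ?_
    refine mono_of_cols y fun j => ?_
    rcases cases3 hq0.symm hq'.symm hqq.symm j with rfl | rfl | rfl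
    · exact ⟨0, hcol⟩
    · exact ⟨p', fun i hi => by
        rcases cases3 hp.symm hp'.symm hpp.symm i with rfl | rfl | rfl
        exacts [hrow _ hq0, hz, absurd rfl hi]⟩
    · exact ⟨p, fun i hi => by
        rcases cases3 hp.symm hp'.symm hpp.symm i with rfl | rfl | rfl
        exacts [hrow _ hq', absurd rfl hi, h0]⟩
  by_cases h11 : A 1 1 = 0
  · exact hfull 1 1 (by decide) (by decide) h11
  by_cases h12 : A 1 2 = 0
  · exact hfull 1 2 (by decide) (by decide) h12
  by_cases h21 : A 2 1 = 0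
  · exact hfull 2 1 (by decide) (by decide) h21
  by_cases h22 : A 2 2 = 0
  · exact hfull 2 2 (by decide) (by decide) h22
  by_cases hopp : A 1 1 * A 2 2 + A 1 2 * A 2 1 ≠ 0
  · exact found_of_block hM hy hcol hrow h11 h12 h21 h22 hopp
  rw [not_not] at hopp
  have hdet := hM.sl y hy
  rw [← hA, Matrix.det_fin_three, hcol 1 (by decide), hcol 2 (by decide), hrow 1 (by decide),
    hrow 2 (by decide)] at hdet
  by_cases h7 : 7 ≤ Fintype.card F
  · obtain ⟨t, ht1, ht2, -, ht4⟩ : ∃ t : Fˣ, (t : F) ≠ 1 ∧ (t : F) ≠ -1 ∧ (t : F) ≠ 0 ∧ (t : F) ^ 2 ≠ -1 := by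
      obtain ⟨l, hl⟩ := IsCyclic.exists_generator (α := Fˣ)
      have ho : orderOf l = Fintype.card F - 1 := by
        rw [orderOf_eq_card_of_forall_mem_zpowers hl, Nat.card_eq_fintype_card, Fintype.card_units]
      have hn : (l : F) ^ 4 ≠ 1 := fun h => by
        have h1 : orderOf l ∣ 4 := orderOf_dvd_of_pow_eq_one (Units.ext (by simpa using h))
        have := Nat.le_of_dvd (by norm_num) h1
        omega
      exact ⟨l, fun e => hn (by rw [e, one_pow]), fun e => hn (by rw [e]; norm_num), l.ne_zero,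
        fun e => hn (by linear_combination ((l : F) ^ 2 - 1) * e)⟩
    obtain ⟨z, hz, hzc, hzr, hD, hzf⟩ := block_conj hM hy hcol hrow t
    rw [← hA] at hD
    obtain ⟨e11, e12, e21, e22⟩ := hzf _ _ _ _ rfl rfl rfl rfl
    rw [← hA] at e11 e12 e21 e22
    have hbe : A 1 2 * A 2 1 = -(A 1 1 * A 2 2) := by linear_combination hopp
    have h2 : (2 : F) ≠ 0 := fun h => hD (by linear_combination A 1 1 * A 2 2 * h - hopp)
    have h2D : A 1 1 * A 2 2 - A 1 2 * A 2 1 = 2 * (A 1 1 * A 2 2) := by linear_combination -hopp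
    have ht1' : (t : F) - 1 ≠ 0 := sub_ne_zero.mpr ht1
    have ht2' : (t : F) + 1 ≠ 0 := fun h => ht2 (by linear_combination h)
    have g11 : (z : Matrix (Fin 3) (Fin 3) F) 1 1 * 2 = t + 1 := mul_right_cancel₀ (mul_ne_zero h11 h22)
      (by linear_combination e11 + ((z : Matrix (Fin 3) (Fin 3) F) 1 1 - 1) * hopp)
    have g22 : (z : Matrix (Fin 3) (Fin 3) F) 2 2 * 2 = t + 1 := mul_right_cancel₀ (mul_ne_zero h11 h22)
      (by linear_combination e22 + ((z : Matrix (Fin 3) (Fin 3) F) 2 2 - (t : F)) * hopp)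
    have g12 : (z : Matrix (Fin 3) (Fin 3) F) 1 2 ≠ 0 := fun h => by
      rw [h, zero_mul, eq_comm] at e12
      simp [h11, h12, sub_eq_zero, Ne.symm ht1] at e12
    have g21 : (z : Matrix (Fin 3) (Fin 3) F) 2 1 ≠ 0 := fun h => by
      rw [h, zero_mul, eq_comm] at e21
      simp [h21, h22, sub_eq_zero, ht1] at e21
    refine found_of_block hM hz hzc hzr (fun h => ht2' (by rw [← g11, h, zero_mul])) g12 g21
      (fun h => ht2' (by rw [← g22, h, zero_mul])) fun hsum => ?_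
    have gp : ((z : Matrix (Fin 3) (Fin 3) F) 1 2 * (z : Matrix (Fin 3) (Fin 3) F) 2 1) * 4 = ((t : F) - 1) ^ 2 :=
      mul_right_cancel₀ (pow_ne_zero 2 (mul_ne_zero h11 h22)) (by
        have hm : ((z : Matrix (Fin 3) (Fin 3) F) 1 2 * (2 * (A 1 1 * A 2 2))) *
            ((z : Matrix (Fin 3) (Fin 3) F) 2 1 * (2 * (A 1 1 * A 2 2))) =
            ((1 - (t : F)) * A 1 1 * A 1 2) * (((t : F) - 1) * A 2 1 * A 2 2) := by rw [← h2D, e12, e21]
        linear_combination hm + -((t : F) - 1) ^ 2 * (A 1 1 * A 2 2) * hopp)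
    have : (2 : F) * ((t : F) ^ 2 + 1) = 0 := by
      linear_combination 4 * hsum - (t + 1 : F) * g22 - ((z : Matrix (Fin 3) (Fin 3) F) 2 2 * 2) * g11 - gp
    exact ht4 (eq_neg_of_add_eq_zero_left ((mul_eq_zero.mp this).resolve_left h2))
  have hcard : Fintype.card F = 5 := by
    have h56 : Fintype.card F = 5 ∨ Fintype.card F = 6 := by omega
    refine h56.resolve_right fun h6 => ?_
    have hh : IsPrimePow 6 := h6 ▸ FiniteField.isPrimePow_card F
    exact absurd hh (by simp [isPrimePow_nat_iff_bounded]; decide)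
  haveI : Fact (Nat.Prime 5) := ⟨by norm_num⟩
  haveI : CharP F 5 := charP_of_card_eq_prime hcard
  have h5 : (5 : F) = 0 := by exact_mod_cast CharP.cast_eq_zero F 5
  set a := A 1 1; set b := A 1 2; set e := A 2 1; set f := A 2 2
  have hL := dg3_mem hM (o := 0) (k := 1) (l := 2) (by decide) (by decide) (by decide)
    (a := Units.mk0 a h11 * Units.mk0 e h21) (b := (Units.mk0 a h11)⁻¹) (c := (Units.mk0 e h21)⁻¹)
    (Units.ext (by simp only [Units.val_mul, Units.val_inv_eq_inv_val, Units.val_mk0, Units.val_one]; field_simp))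
  have hR := dg3_mem hM (o := 0) (k := 1) (l := 2) (by decide) (by decide) (by decide)
    (a := Units.mk0 b h12 * (Units.mk0 a h11)⁻¹) (b := 1) (c := Units.mk0 a h11 * (Units.mk0 b h12)⁻¹)
    (Units.ext (by simp only [Units.val_mul, Units.val_inv_eq_inv_val, Units.val_mk0, Units.val_one]; field_simp))
  refine found_five hM hcard (M.mul_mem (M.mul_mem hL hy) hR) ?_
  ext i j
  rw [mul_dg_apply, dg_mul_apply, ← hA]
  fin_cases i <;> fin_cases j <;>
    simp [d3, hA00, hcol 1 (by decide), hcol 2 (by decide), hrow 1 (by decide), hrow 2 (by decide), h11, h12, h21,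
      show A 1 1 = a from rfl, show A 1 2 = b from rfl, show A 2 1 = e from rfl, show A 2 2 = f from rfl] <;>
    field_simp
  · rw [hA00] at hdet
    linear_combination 2 * hdet - 2 * c * hopp + c * b * e * h5
  · linear_combination hopp

/-- A non-monomial element mapping a coordinate line to a coordinate line is enough. -/
theorem found_of_line (hq : 5 ≤ Fintype.card F) {y : GL (Fin 3) F} (hy : y ∈ M) (hmono : ¬ Mono y) {p q : Fin 3}
    {c : F} (hc : (y : Matrix (Fin 3) (Fin 3) F) *ᵥ Pi.single q (1 : F) = c • Pi.single p (1 : F)) : Found M := by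
  obtain ⟨a, ha⟩ := exists_mono hM (Equiv.swap 0 p) (fun _ => 1) p
  obtain ⟨b, hb⟩ := exists_mono hM (Equiv.swap 0 q) (fun _ => 1) q
  set h := mn (Equiv.swap 0 p) (Function.update (fun _ => (1 : Fˣ)) p a)
  set h' := mn (Equiv.swap 0 q) (Function.update (fun _ => (1 : Fˣ)) q b)
  refine found_of_first hM hq (M.mul_mem (M.mul_mem ha hy) hb) (fun hm => hmono ?_)
    (c := ((Function.update (fun _ => (1 : Fˣ)) q b 0 : Fˣ) : F) * c *
      ((Function.update (fun _ => (1 : Fˣ)) p a p : Fˣ) : F)) ?_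
  · have := mono_mul (mono_mul (mono_inv ⟨_, _, rfl⟩ : Mono h⁻¹) hm) (mono_inv ⟨_, _, rfl⟩ : Mono h'⁻¹)
    simpa [mul_assoc] using this
  · rw [mul_act, mul_act, mn_single, Matrix.mulVec_smul, Equiv.swap_apply_left, hc, Matrix.mulVec_smul,
      Matrix.mulVec_smul, mn_single, Equiv.swap_apply_right, smul_smul, smul_smul]

end Cfsg.Agent.LinThreeDecompLine38
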