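import Cfsg.Agent.Lib.LinThreeRoot38

/-! The similarity group of a quadratic form is maximal in SL_3 over a field of odd order. -/

set_option autoImplicit false

namespace Cfsg.Agent.LinThreeOrth38

open Cfsg.Agent.TransvectionMax
open scoped MatrixGroups Matrix

variable {F : Type*} [Field F]


/-- The map x ↦ (φ ⬝ x) v − x (an involution when φ ⬝ v = 2, and 1 otherwise). -/
noncomputable def inv3 (v φ : (Fin 3 → F)) : GL (Fin 3) F :=
  open Classical in
  if h : φ ⬝ᵥ v = 2 then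
    ⟨Matrix.vecMulVec v φ - 1, Matrix.vecMulVec v φ - 1,
      by
        refine Matrix.ext_iff_mulVec.mpr fun x => ?_
        simp only [← Matrix.mulVec_mulVec, Matrix.sub_mulVec, Matrix.one_mulVec, Matrix.vecMulVec_mulVec,
          op_smul_eq_smul, dotProduct_sub, dotProduct_smul, h, smul_eq_mul]
        module,
      by
        refine Matrix.ext_iff_mulVec.mpr fun x => ?_
        simp only [← Matrix.mulVec_mulVec, Matrix.sub_mulVec, Matrix.one_mulVec, Matrix.vecMulVec_mulVec,
          op_smul_eq_smul, dotProduct_sub, dotProduct_smul, h, smul_eq_mul]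
        module⟩
  else 1

lemma inv3_act {v φ : (Fin 3 → F)} (h : φ ⬝ᵥ v = 2) (x : (Fin 3 → F)) :
    (inv3 v φ : Matrix (Fin 3) (Fin 3) F) *ᵥ x = (φ ⬝ᵥ x) • v - x := by
  simp only [inv3, dif_pos h]
  rw [Matrix.sub_mulVec, Matrix.one_mulVec, Matrix.vecMulVec_mulVec, op_smul_eq_smul]

lemma inv3_mem_sl {v φ : (Fin 3 → F)} (h : φ ⬝ᵥ v = 2) : inv3 v φ ∈ Cfsg.Geo.specialLinear (Fin 3) F := by
  rw [Cfsg.Geo.specialLinear, MonoidHom.mem_ker]
  apply Units.ext
  rw [Matrix.GeneralLinearGroup.val_det_apply, Units.val_one]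
  have e : ((inv3 v φ : GL (Fin 3) F) : Matrix (Fin 3) (Fin 3) F) =
      -(1 + Matrix.vecMulVec (-v) φ) := by
    simp only [inv3, dif_pos h]
    ext i j
    simp [Matrix.vecMulVec_apply]
    ring
  rw [e, Matrix.det_neg, Fintype.card_fin, Matrix.vecMulVec_eq Unit,
    Matrix.det_one_add_replicateCol_mul_replicateRow, dotProduct_neg, h]
  ring

lemma inv3_conj (g : GL (Fin 3) F) {v φ : (Fin 3 → F)} (h : φ ⬝ᵥ v = 2) :
    g * inv3 v φ * g⁻¹ = inv3 ((g : Matrix (Fin 3) (Fin 3) F) *ᵥ v)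
      (φ ᵥ* ((g⁻¹ : GL (Fin 3) F) : Matrix (Fin 3) (Fin 3) F)) :=
  gl_ext fun x => by
    rw [mul_act, mul_act, inv3_act h, inv3_act (by rw [← Matrix.dotProduct_mulVec, inv_act_act, h]),
      Matrix.mulVec_sub, Matrix.mulVec_smul, act_inv_act, ← Matrix.dotProduct_mulVec]

/-- Two involutions with the same centre multiply to a transvection. -/
lemma inv3_mul {v φ ψ : (Fin 3 → F)} (h : φ ⬝ᵥ v = 2) (h' : ψ ⬝ᵥ v = 2) :
    inv3 v φ * inv3 v ψ = tv v (ψ - φ) :=
  gl_ext fun x => by
    rw [mul_act, inv3_act h, inv3_act h', tv_act (by rw [sub_dotProduct, h, h', sub_self])]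
    simp only [dotProduct_sub, dotProduct_smul, sub_dotProduct, h, smul_eq_mul]
    module

lemma span_three {a b c : (Fin 3 → F)} (ha : a ≠ 0) (hb : b ∉ Submodule.span F {a})
    (hc : c ∉ Submodule.span F {a, b}) : Submodule.span F {a, b, c} = ⊤ := by
  have h1 : Submodule.span F {a} < Submodule.span F {a, b} :=
    lt_of_le_of_ne (Submodule.span_mono (by simp)) fun h => hb (h ▸ Submodule.subset_span (by simp))
  have h2 : Submodule.span F {a, b} < Submodule.span F {a, b, c} :=
    lt_of_le_of_ne (Submodule.span_mono (by simp [Set.insert_subset_iff])) fun h =>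
      hc (h ▸ Submodule.subset_span (by simp))
  have h3 := Submodule.finrank_lt_finrank_of_lt h1
  have h4 := Submodule.finrank_lt_finrank_of_lt h2
  have h5 := Submodule.finrank_le (Submodule.span F {a, b, c})
  rw [finrank_span_singleton ha] at h3
  rw [Module.finrank_fin_fun] at h5
  exact Submodule.eq_top_of_finrank_eq (by rw [Module.finrank_fin_fun]; omega)

section

variable {Q : (Fin 3 → F) → F}
variable (hQ : Cfsg.Geo.IsNondegenerateQuadraticForm Q) (h2 : (2 : F) ≠ 0)
include hQ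

lemma polar_self (x : (Fin 3 → F)) : (QuadraticMap.polar Q) x x = 2 * Q x := by
  rw [QuadraticMap.polar, ← two_smul F, hQ.smul]
  ring

lemma polar_symm (x y : (Fin 3 → F)) : (QuadraticMap.polar Q) x y = (QuadraticMap.polar Q) y x := QuadraticMap.polar_comm Q x y

lemma Q_add (x y : (Fin 3 → F)) : Q (x + y) = Q x + Q y + (QuadraticMap.polar Q) x y := by
  rw [QuadraticMap.polar]; ring

/-- A vector killed by (QuadraticMap.polar Q) against a spanning triple is zero. -/
lemma eq_zero_of_triple {a b c x : (Fin 3 → F)} (hsp : Submodule.span F {a, b, c} = ⊤)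
    (ha : (QuadraticMap.polar Q) x a = 0) (hb : (QuadraticMap.polar Q) x b = 0) (hc : (QuadraticMap.polar Q) x c = 0) : x = 0 := by
  by_contra hx
  obtain ⟨y, hy⟩ := (hQ.nondegenerate x hx).2
  apply hy
  have hmem : y ∈ Submodule.span F {a, b, c} := hsp ▸ Submodule.mem_top
  obtain ⟨p, q, hq, rfl⟩ := Submodule.mem_span_insert.mp hmem
  obtain ⟨r, s, rfl⟩ := Submodule.mem_span_pair.mp hq
  simp [hQ.polar_bilinear.add_right, hQ.polar_bilinear.smul_right, ha, hb, hc]

/-- An orthogonal isotropic pair is dependent. -/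
lemma dep_of_orth {v w : (Fin 3 → F)} (hv : v ≠ 0) (hvv : (QuadraticMap.polar Q) v v = 0) (hww : (QuadraticMap.polar Q) w w = 0) (hvw : (QuadraticMap.polar Q) v w = 0) :
    w ∈ Submodule.span F {v} := by
  by_contra hw
  obtain ⟨z, hz⟩ : ∃ z, z ∉ Submodule.span F {v, w} := by
    by_contra! h
    have h1 := Submodule.finrank_mono (fun x _ => h x : (⊤ : Submodule F (Fin 3 → F)) ≤ Submodule.span F {v, w})
    classical
    have h3 := finrank_span_le_card (R := F) (({v, w} : Set (Fin 3 → F)))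
    rw [finrank_top, Module.finrank_fin_fun] at h1
    have : ({v, w} : Set (Fin 3 → F)).toFinset.card ≤ 2 := by
      simp only [Set.toFinset_insert, Set.toFinset_singleton]
      exact Finset.card_le_two
    omega
  have hsp := span_three hv hw hz
  have hwv : (QuadraticMap.polar Q) w v = 0 := by rw [polar_symm hQ]; exact hvw
  have hc := eq_zero_of_triple hQ hsp (x := (QuadraticMap.polar Q) w z • v - (QuadraticMap.polar Q) v z • w)
    (by rw [sub_left hQ.polar_bilinear, hQ.polar_bilinear.smul_left, hQ.polar_bilinear.smul_left, hvv, hwv]; ring)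
    (by rw [sub_left hQ.polar_bilinear, hQ.polar_bilinear.smul_left, hQ.polar_bilinear.smul_left, hvw, hww]; ring)
    (by rw [sub_left hQ.polar_bilinear, hQ.polar_bilinear.smul_left, hQ.polar_bilinear.smul_left]; ring)
  by_cases hvz : (QuadraticMap.polar Q) v z = 0
  · rw [hvz, zero_smul, sub_zero, smul_eq_zero, or_iff_left hv] at hc
    exact hv (eq_zero_of_triple hQ hsp hvv hvw hvz)
  · refine hw (Submodule.mem_span_singleton.mpr ⟨((QuadraticMap.polar Q) v z)⁻¹ * (QuadraticMap.polar Q) w z, ?_⟩)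
    rw [sub_eq_zero] at hc
    rw [← smul_smul, hc, smul_smul, inv_mul_cancel₀ hvz, one_smul]

include h2

lemma aniso_iff (x : (Fin 3 → F)) : (QuadraticMap.polar Q) x x = 0 ↔ Q x = 0 := by
  rw [polar_self hQ, mul_eq_zero, or_iff_right h2]

omit h2 in
lemma polar_zero_of_iso {x : (Fin 3 → F)} (h : Q x = 0) : (QuadraticMap.polar Q) x x = 0 := by rw [polar_self hQ, h, mul_zero]

/-- An anisotropic vector orthogonal to v and independent of it. -/
lemma exists_perp_aniso {v : (Fin 3 → F)} (hv : v ≠ 0) : ∃ a, (QuadraticMap.polar Q) v a = 0 ∧ Q a ≠ 0 ∧ a ∉ Submodule.span F {v} := by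
  obtain ⟨d, hd, hdv⟩ := LinSubfieldMax97.exists_dot ![row (QuadraticMap.polar Q) v] (Submodule.span F {v})
    (by rw [finrank_span_singleton hv, Fintype.card_fin]; omega)
  have hvd : (QuadraticMap.polar Q) v d = 0 := by
    rw [polar_symm hQ, ← row_dot hQ.polar_bilinear]
    exact hd 0
  by_cases hdd : Q d = 0
  · by_cases hvv : Q v = 0
    · exact absurd (dep_of_orth hQ hv (polar_zero_of_iso hQ hvv) (polar_zero_of_iso hQ hdd) hvd) hdv
    -- complete v, d to a basis inside the perp of v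
    obtain ⟨z, hz⟩ : ∃ z, (QuadraticMap.polar Q) z d ≠ 0 := (hQ.nondegenerate d fun h => hdv (h ▸ Submodule.zero_mem _)).1
    set z' := z - ((QuadraticMap.polar Q) z v / (QuadraticMap.polar Q) v v) • v with hz'
    have hvv' : (QuadraticMap.polar Q) v v ≠ 0 := fun h => hvv ((aniso_iff hQ h2 v).mp h)
    have hvz : (QuadraticMap.polar Q) v z' = 0 := by
      rw [hz', sub_right hQ.polar_bilinear, hQ.polar_bilinear.smul_right, div_mul_cancel₀ _ hvv',
        polar_symm hQ v z, sub_self]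
    have hz'd : (QuadraticMap.polar Q) z' d ≠ 0 := by
      rw [hz', sub_left hQ.polar_bilinear, hQ.polar_bilinear.smul_left, hvd, mul_zero, sub_zero]
      exact hz
    have hnot : ∀ a, (QuadraticMap.polar Q) v a = 0 → Q a ≠ 0 → a ∉ Submodule.span F {v} := fun a ha haa h => by
      obtain ⟨s, rfl⟩ := Submodule.mem_span_singleton.mp h
      rw [hQ.polar_bilinear.smul_right, mul_eq_zero, or_iff_left hvv'] at ha
      rw [ha, hQ.smul] at haa
      simp at haa
    by_cases hzz : Q z' = 0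
    · have h1 : (QuadraticMap.polar Q) v (z' + d) = 0 := by rw [hQ.polar_bilinear.add_right, hvz, hvd, add_zero]
      have h3 : Q (z' + d) ≠ 0 := by rw [Q_add hQ, hzz, hdd, zero_add, zero_add]; exact hz'd
      exact ⟨_, h1, h3, hnot _ h1 h3⟩
    · exact ⟨_, hvz, hzz, hnot _ hvz hzz⟩
  · exact ⟨d, hvd, hdd, hdv⟩

omit h2 in
/-- Completing two orthogonal anisotropic vectors. -/
lemma exists_third {e e' : (Fin 3 → F)} (he : (QuadraticMap.polar Q) e e ≠ 0) (he' : (QuadraticMap.polar Q) e' e' ≠ 0) (h : (QuadraticMap.polar Q) e e' = 0) :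
    ∃ d, (QuadraticMap.polar Q) e d = 0 ∧ (QuadraticMap.polar Q) e' d = 0 ∧ (QuadraticMap.polar Q) d d ≠ 0 ∧ Submodule.span F {e, e', d} = ⊤ := by
  obtain ⟨d, hd, hd0⟩ := LinSubfieldMax97.exists_dot ![row (QuadraticMap.polar Q) e, row (QuadraticMap.polar Q) e'] (⊥ : Submodule F (Fin 3 → F))
    (by rw [finrank_bot, Fintype.card_fin]; omega)
  have hd0' : d ≠ 0 := by simpa using hd0
  have hed : (QuadraticMap.polar Q) e d = 0 := by rw [polar_symm hQ, ← row_dot hQ.polar_bilinear]; exact hd 0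
  have he'd : (QuadraticMap.polar Q) e' d = 0 := by rw [polar_symm hQ, ← row_dot hQ.polar_bilinear]; exact hd 1
  have he0 : e ≠ 0 := fun h0 => he (by rw [h0, zero_left hQ.polar_bilinear])
  have hn1 : e' ∉ Submodule.span F {e} := fun h0 => by
    obtain ⟨s, rfl⟩ := Submodule.mem_span_singleton.mp h0
    rw [hQ.polar_bilinear.smul_right, mul_eq_zero, or_iff_left he] at h
    exact he' (by rw [h, zero_smul, zero_left hQ.polar_bilinear])
  have hn2 : d ∉ Submodule.span F {e, e'} := fun h0 => by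
    obtain ⟨s, t, rfl⟩ := Submodule.mem_span_pair.mp h0
    rw [hQ.polar_bilinear.add_right, hQ.polar_bilinear.smul_right, hQ.polar_bilinear.smul_right, h,
      mul_zero, add_zero, mul_eq_zero, or_iff_left he] at hed
    rw [hQ.polar_bilinear.add_right, hQ.polar_bilinear.smul_right, hQ.polar_bilinear.smul_right,
      polar_symm hQ e' e, h, mul_zero, zero_add, mul_eq_zero, or_iff_left he'] at he'd
    exact hd0' (by rw [hed, he'd, zero_smul, zero_smul, add_zero])
  have hsp := span_three he0 hn1 hn2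
  exact ⟨d, hed, he'd, fun h0 => hd0' (eq_zero_of_triple hQ hsp (by rw [polar_symm hQ]; exact hed)
    (by rw [polar_symm hQ]; exact he'd) h0), hsp⟩

lemma exists_frame : ∃ e e' d : (Fin 3 → F), Q e ≠ 0 ∧ Q e' ≠ 0 ∧ Q d ≠ 0 ∧ (QuadraticMap.polar Q) e e' = 0 ∧ (QuadraticMap.polar Q) e d = 0 ∧ (QuadraticMap.polar Q) e' d = 0 ∧
    Submodule.span F {e, e', d} = ⊤ := by
  obtain ⟨e, -, he, -⟩ := exists_perp_aniso hQ h2
    (v := (Pi.single 0 1 : (Fin 3 → F))) (by simp)
  have he0 : e ≠ 0 := fun h => he (by rw [h]; simpa using hQ.smul 0 0)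
  obtain ⟨e', hee', he', -⟩ := exists_perp_aniso hQ h2 he0
  obtain ⟨d, hed, he'd, hdd, hsp⟩ := exists_third hQ (fun h => he ((aniso_iff hQ h2 e).mp h))
    (fun h => he' ((aniso_iff hQ h2 e').mp h)) hee'
  exact ⟨e, e', d, he, he', fun h => hdd (polar_zero_of_iso hQ h), hee', hed, he'd, hsp⟩

/-- An anisotropic vector orthogonal to neither of two anisotropic ones. -/
lemma exists_link {e e' : (Fin 3 → F)} (he : Q e ≠ 0) (he' : Q e' ≠ 0) (h : (QuadraticMap.polar Q) e e' = 0) :
    ∃ z, Q z ≠ 0 ∧ (QuadraticMap.polar Q) e z ≠ 0 ∧ (QuadraticMap.polar Q) e' z ≠ 0 := by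
  have hee : (QuadraticMap.polar Q) e e ≠ 0 := fun h0 => he ((aniso_iff hQ h2 e).mp h0)
  have hee' : (QuadraticMap.polar Q) e' e' ≠ 0 := fun h0 => he' ((aniso_iff hQ h2 e').mp h0)
  obtain ⟨d, hed, he'd, hdd, -⟩ := exists_third hQ hee hee' h
  by_cases hs : Q e + Q e' = 0
  · refine ⟨e + e' + d, ?_, ?_, ?_⟩
    · rw [Q_add hQ, Q_add hQ, h, add_zero, hs, zero_add, hQ.polar_bilinear.add_left, hed, he'd, add_zero,
        add_zero]
      exact fun h0 => hdd (polar_zero_of_iso hQ h0)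
    · rwa [hQ.polar_bilinear.add_right, hQ.polar_bilinear.add_right, h, hed, add_zero, add_zero]
    · rwa [hQ.polar_bilinear.add_right, hQ.polar_bilinear.add_right, polar_symm hQ e' e, h, he'd, zero_add,
        add_zero]
  · refine ⟨e + e', ?_, ?_, ?_⟩
    · rwa [Q_add hQ, h, add_zero]
    · rwa [hQ.polar_bilinear.add_right, h, add_zero]
    · rwa [hQ.polar_bilinear.add_right, polar_symm hQ e' e, h, zero_add]

omit h2 in
lemma axis_dot {e : (Fin 3 → F)} (he : Q e ≠ 0) : ((Q e)⁻¹ • row (QuadraticMap.polar Q) e) ⬝ᵥ e = 2 := by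
  rw [smul_dotProduct, row_dot hQ.polar_bilinear, polar_self hQ, smul_eq_mul, mul_comm 2,
    inv_mul_cancel_left₀ he]

/-- Minus the reflection in an anisotropic vector. -/
noncomputable def negRefl (Q : (Fin 3 → F) → F) (e : (Fin 3 → F)) : GL (Fin 3) F :=
  inv3 e ((Q e)⁻¹ • row (QuadraticMap.polar Q) e)

omit h2 in
lemma negRefl_act {e : (Fin 3 → F)} (he : Q e ≠ 0) (x : (Fin 3 → F)) :
    (negRefl Q e : Matrix (Fin 3) (Fin 3) F) *ᵥ x = ((QuadraticMap.polar Q) x e / Q e) • e - x := by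
  rw [negRefl, inv3_act (axis_dot hQ he), smul_dotProduct, row_dot hQ.polar_bilinear, smul_eq_mul,
    inv_mul_eq_div]

omit h2 in
lemma negRefl_iso {e : (Fin 3 → F)} (he : Q e ≠ 0) (x y : (Fin 3 → F)) :
    (QuadraticMap.polar Q) ((negRefl Q e : Matrix (Fin 3) (Fin 3) F) *ᵥ x) ((negRefl Q e : Matrix (Fin 3) (Fin 3) F) *ᵥ y) =
      (QuadraticMap.polar Q) x y := by
  rw [negRefl_act hQ he, negRefl_act hQ he]
  simp only [sub_left hQ.polar_bilinear, sub_right hQ.polar_bilinear, hQ.polar_bilinear.smul_left,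
    hQ.polar_bilinear.smul_right, polar_self hQ e, polar_symm hQ e y]
  field_simp
  ring

lemma negRefl_mem {e : (Fin 3 → F)} (he : Q e ≠ 0) :
    negRefl Q e ∈ Cfsg.Geo.quadSimilarityGroup Q ⊓ Cfsg.Geo.specialLinear (Fin 3) F := by
  refine ⟨⟨1, fun x => ?_⟩, inv3_mem_sl (axis_dot hQ he)⟩
  have h1 := negRefl_iso hQ he x x
  rw [polar_self hQ, polar_self hQ] at h1
  rw [Units.val_one, one_mul]
  exact mul_left_cancel₀ h2 h1

omit h2 in
lemma negRefl_self {e : (Fin 3 → F)} (he : Q e ≠ 0) :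
    (negRefl Q e : Matrix (Fin 3) (Fin 3) F) *ᵥ e = e := by
  rw [negRefl_act hQ he, polar_self hQ, mul_div_assoc, div_self he, mul_one, two_smul, add_sub_cancel_right]

variable {M : Subgroup (GL (Fin 3) F)}
variable (hH : Cfsg.Geo.quadSimilarityGroup Q ⊓ Cfsg.Geo.specialLinear (Fin 3) F ≤ M)
include hH

lemma irred : LinThreeRoot38.Irred M := by
  intro W hW
  by_contra hcon
  rw [not_or] at hcon
  obtain ⟨x, hx, hx0⟩ := Submodule.exists_mem_ne_zero_of_ne_bot hcon.1
  obtain ⟨e, e', d, he, he', hd, hee', hed, he'd, hsp⟩ := exists_frame hQ h2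
  have step : ∀ {z b : (Fin 3 → F)}, z ∈ W → Q b ≠ 0 → (QuadraticMap.polar Q) z b ≠ 0 → b ∈ W := fun {z b} hz hb hzb => by
    have h1 := W.add_mem (hW _ (hH (negRefl_mem hQ h2 hb)) z hz) hz
    rw [negRefl_act hQ hb, sub_add_cancel] at h1
    exact (W.smul_mem_iff (div_ne_zero hzb hb)).mp h1
  have link : ∀ {p r : (Fin 3 → F)}, Q p ≠ 0 → Q r ≠ 0 → (QuadraticMap.polar Q) p r = 0 → p ∈ W → r ∈ W := fun {p r} hp hr hpr hpW => by
    obtain ⟨z, hz, h1, h3⟩ := exists_link hQ h2 hp hr hpr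
    exact step (step hpW hz h1) hr (by rwa [polar_symm hQ])
  have hsome : e ∈ W ∨ e' ∈ W ∨ d ∈ W := by
    by_contra! hno
    exact hx0 (eq_zero_of_triple hQ hsp (by_contra fun h => hno.1 (step hx he h))
      (by_contra fun h => hno.2.1 (step hx he' h)) (by_contra fun h => hno.2.2 (step hx hd h)))
  have he0 : e ∈ W := by
    rcases hsome with h | h | h
    · exact h
    · exact link he' he (by rwa [polar_symm hQ]) h
    · exact link hd he (by rwa [polar_symm hQ]) h
  apply hcon.2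
  rw [eq_top_iff, ← hsp, Submodule.span_le]
  simp [Set.insert_subset_iff, he0, link he he' hee' he0, link he hd hed he0]

/-- A root element with centre on its own tangent axis. -/
lemma root_of_self [Fintype F] {w : (Fin 3 → F)} (hw : w ≠ 0) (hww : Q w = 0) {c : F} (hc : c ≠ 0)
    (hm : ft (QuadraticMap.polar Q) w (c • w) ∈ M) : ∀ s : F, tv w (s • row (QuadraticMap.polar Q) w) ∈ M := by
  obtain ⟨z0, hz0⟩ := (hQ.nondegenerate w hw).2
  set z1 := ((QuadraticMap.polar Q) w z0)⁻¹ • z0 with hz1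
  have hwz1 : (QuadraticMap.polar Q) w z1 = 1 := by rw [hz1, hQ.polar_bilinear.smul_right, inv_mul_cancel₀ hz0]
  set z := z1 - Q z1 • w with hzdef
  have hwz : (QuadraticMap.polar Q) w z = 1 := by
    rw [hzdef, sub_right hQ.polar_bilinear, hwz1, hQ.polar_bilinear.smul_right, polar_zero_of_iso hQ hww,
      mul_zero, sub_zero]
  have hzz : Q z = 0 := by
    clear_value z z1
    rw [hzdef, sub_eq_add_neg, ← neg_smul, Q_add hQ, hQ.smul, hww, hQ.polar_bilinear.smul_right,
      polar_symm hQ z1 w, hwz1]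
    ring
  have hw2 : (QuadraticMap.polar Q) w w = 0 := polar_zero_of_iso hQ hww
  have hww' : ∀ s : F, (QuadraticMap.polar Q) w (s • w) = 0 := fun s => by rw [hQ.polar_bilinear.smul_right, hw2, mul_zero]
  let S : AddSubgroup F :=
    { carrier := {s | ft (QuadraticMap.polar Q) w (s • w) ∈ M}
      zero_mem' := by
        show ft (QuadraticMap.polar Q) w ((0 : F) • w) ∈ M
        rw [zero_smul, ft_zero hQ.polar_bilinear]; exact M.one_mem
      add_mem' := fun {a b} ha hb => by
        show ft (QuadraticMap.polar Q) w ((a + b) • w) ∈ M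
        rw [add_smul, ← ft_add hQ.polar_bilinear (hww' a) (hww' b)]; exact M.mul_mem ha hb
      neg_mem' := fun {a} ha => by
        show ft (QuadraticMap.polar Q) w (-a • w) ∈ M
        rw [neg_smul, ← ft_inv hQ.polar_bilinear (hww' a)]; exact M.inv_mem ha }
  have hsq : ∀ t : F, c * t ^ 2 ∈ S := fun t => by
    rcases eq_or_ne t 0 with rfl | ht
    · simp
    have hb : Q (w + (-t) • z) = -t := by
      rw [Q_add hQ, hQ.smul, hww, hzz, hQ.polar_bilinear.smul_right, hwz]; ring
    have hb0 : Q (w + (-t) • z) ≠ 0 := by rw [hb]; exact neg_ne_zero.mpr ht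
    have ha : Q (w + (-(1 : F)) • z) = -1 := by
      rw [Q_add hQ, hQ.smul, hww, hzz, hQ.polar_bilinear.smul_right, hwz]; ring
    have ha0 : Q (w + (-(1 : F)) • z) ≠ 0 := by rw [ha]; exact neg_ne_zero.mpr one_ne_zero
    set h := negRefl Q (w + (-(1 : F)) • z) * negRefl Q (w + (-t) • z)
    have hhM : h ∈ M := hH (mul_mem (negRefl_mem hQ h2 ha0) (negRefl_mem hQ h2 hb0))
    have hiso : ∀ x y, (QuadraticMap.polar Q) ((h : Matrix (Fin 3) (Fin 3) F) *ᵥ x) ((h : Matrix (Fin 3) (Fin 3) F) *ᵥ y) =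
        (QuadraticMap.polar Q) x y := fun x y => by rw [mul_act, mul_act, negRefl_iso hQ ha0, negRefl_iso hQ hb0]
    have hhw : (h : Matrix (Fin 3) (Fin 3) F) *ᵥ w = t • w := by
      rw [mul_act, negRefl_act hQ hb0, negRefl_act hQ ha0]
      simp only [hb, ha, sub_left hQ.polar_bilinear, hQ.polar_bilinear.smul_left, hQ.polar_bilinear.add_right,
        hQ.polar_bilinear.add_left, hQ.polar_bilinear.smul_right, hw2, hwz, polar_symm hQ z w,
        polar_zero_of_iso hQ hzz]
      match_scalars <;> field_simp <;> ring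
    show ft (QuadraticMap.polar Q) w ((c * t ^ 2) • w) ∈ M
    have h1 := M.mul_mem (M.mul_mem hhM hm) (M.inv_mem hhM)
    rw [ft_conj hQ.polar_bilinear hiso (hww' c), hhw, Matrix.mulVec_smul, hhw, smul_smul, ft] at h1
    rw [LinSubfieldMax97.tv_smul_left (by rw [row_dot hQ.polar_bilinear]; exact hww' _)] at h1
    rw [ft]
    convert h1 using 2
    funext j
    simp [row, hQ.polar_bilinear.smul_right]
    ring
  intro s
  have h4 : (c * ((s / (c * 4) + 1) ^ 2)) - (c * ((s / (c * 4) - 1) ^ 2)) ∈ S := S.sub_mem (hsq _) (hsq _)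
  have e : (c * ((s / (c * 4) + 1) ^ 2)) - (c * ((s / (c * 4) - 1) ^ 2)) = s := by
    have : (4 : F) ≠ 0 := by rw [show (4 : F) = 2 * 2 by norm_num]; exact mul_ne_zero h2 h2
    field_simp
    ring
  rw [e] at h4
  have h5 : ft (QuadraticMap.polar Q) w (s • w) ∈ M := h4
  rw [ft] at h5
  convert h5 using 2
  funext j
  simp [row, hQ.polar_bilinear.smul_right]

/-- A transvection with tangent axis and another centre. -/
lemma root_of_axis {v w : (Fin 3 → F)} (hw : w ≠ 0) (hww : Q w = 0) (hvw : (QuadraticMap.polar Q) v w = 0)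
    (hv : v ∉ Submodule.span F {w}) (hm : ft (QuadraticMap.polar Q) v w ∈ M) : ∀ s : F, tv w (s • row (QuadraticMap.polar Q) w) ∈ M := by
  intro s
  have hw2 : (QuadraticMap.polar Q) w w = 0 := polar_zero_of_iso hQ hww
  have hvv : Q v ≠ 0 := fun h => hv (dep_of_orth hQ hw hw2 (polar_zero_of_iso hQ h) (by rwa [polar_symm hQ]))
  set a := v + (s / 2) • w with ha
  have hQa : Q a = Q v := by
    rw [ha, Q_add hQ, hQ.smul, hww, hQ.polar_bilinear.smul_right, hvw]; ring
  have ha0 : Q a ≠ 0 := by rwa [hQa]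
  set h := negRefl Q a * negRefl Q v
  have hhM : h ∈ M := hH (mul_mem (negRefl_mem hQ h2 ha0) (negRefl_mem hQ h2 hvv))
  have hiso : ∀ x y, (QuadraticMap.polar Q) ((h : Matrix (Fin 3) (Fin 3) F) *ᵥ x) ((h : Matrix (Fin 3) (Fin 3) F) *ᵥ y) =
      (QuadraticMap.polar Q) x y := fun x y => by rw [mul_act, mul_act, negRefl_iso hQ ha0, negRefl_iso hQ hvv]
  have hhw : (h : Matrix (Fin 3) (Fin 3) F) *ᵥ w = w := by
    rw [mul_act, negRefl_act hQ hvv, negRefl_act hQ ha0, polar_symm hQ w v, hvw, zero_div, zero_smul, zero_sub,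
      neg_left hQ.polar_bilinear, ha, hQ.polar_bilinear.add_right, polar_symm hQ w v, hvw,
      hQ.polar_bilinear.smul_right, hw2]
    simp
  have hhv : (h : Matrix (Fin 3) (Fin 3) F) *ᵥ v = v + s • w := by
    rw [mul_act, negRefl_self hQ hvv, negRefl_act hQ ha0, hQa, ha, hQ.polar_bilinear.add_right,
      hQ.polar_bilinear.smul_right, hvw, polar_self hQ, mul_zero, add_zero, mul_div_assoc, div_self hvv, mul_one,
      smul_add, smul_smul, mul_div_cancel₀ _ h2]
    module
  have h1 := M.mul_mem (M.mul_mem hhM hm) (M.inv_mem hhM)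
  rw [ft_conj hQ.polar_bilinear hiso hvw, hhw, hhv, ft] at h1
  have hv' : row (QuadraticMap.polar Q) w ⬝ᵥ v = 0 := by rw [row_dot hQ.polar_bilinear, hvw]
  have hw' : row (QuadraticMap.polar Q) w ⬝ᵥ w = 0 := by rw [row_dot hQ.polar_bilinear, hw2]
  rw [ft] at hm
  rw [LinSubfieldMax97.tv_add_left hv' (by rw [dotProduct_smul, hw', smul_zero]), M.mul_mem_cancel_left hm,
    LinSubfieldMax97.tv_smul_left hw'] at h1
  exact h1

/-- A transvection with nondegenerate axis. -/
lemma root_of_secant [Fintype F] {v w : (Fin 3 → F)} (hv : v ≠ 0) (hww : Q w ≠ 0) (hvw : (QuadraticMap.polar Q) v w = 0)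
    (hm : ft (QuadraticMap.polar Q) v w ∈ M) : ∃ e, e ≠ 0 ∧ (QuadraticMap.polar Q) e w = 0 ∧ ∀ s : F, tv e (s • row (QuadraticMap.polar Q) w) ∈ M := by
  have hw0 : w ≠ 0 := fun h => hww (by rw [h]; simpa using hQ.smul 0 0)
  have hw2 : (QuadraticMap.polar Q) w w ≠ 0 := fun h => hww ((aniso_iff hQ h2 w).mp h)
  obtain ⟨e1, hwe1, he1, -⟩ := exists_perp_aniso hQ h2 hw0
  have he12 : (QuadraticMap.polar Q) e1 e1 ≠ 0 := fun h => he1 ((aniso_iff hQ h2 e1).mp h)
  obtain ⟨e2, hwe2, he12', he22, hsp⟩ := exists_third hQ hw2 he12 hwe1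
  have he2 : Q e2 ≠ 0 := fun h => he22 (polar_zero_of_iso hQ h)
  obtain ⟨e, e', hwe, hwe', he, he', hee', hve⟩ : ∃ e e', (QuadraticMap.polar Q) w e = 0 ∧ (QuadraticMap.polar Q) w e' = 0 ∧ Q e ≠ 0 ∧ Q e' ≠ 0 ∧
      (QuadraticMap.polar Q) e e' = 0 ∧ (QuadraticMap.polar Q) v e ≠ 0 := by
    by_cases h1 : (QuadraticMap.polar Q) v e1 = 0
    · exact ⟨e2, e1, hwe2, hwe1, he2, he1, by rwa [polar_symm hQ],
        fun h => hv (eq_zero_of_triple hQ hsp hvw h1 h)⟩
    · exact ⟨e1, e2, hwe1, hwe2, he1, he2, he12', h1⟩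
  -- centres are closed under reflections
  have hP : ∀ {u x : (Fin 3 → F)}, (QuadraticMap.polar Q) u w = 0 → (QuadraticMap.polar Q) w x = 0 → Q x ≠ 0 → ft (QuadraticMap.polar Q) u w ∈ M →
      ft (QuadraticMap.polar Q) (((QuadraticMap.polar Q) u x / Q x) • x) w ∈ M := by
    intro u x hu hwx hx hum
    have hj := hH (negRefl_mem hQ h2 hx)
    have h1 := M.mul_mem (M.mul_mem hj hum) (M.inv_mem hj)
    rw [ft_conj hQ.polar_bilinear (negRefl_iso hQ hx) hu, negRefl_act hQ hx, negRefl_act hQ hx, hwx,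
      zero_div, zero_smul, zero_sub, ft] at h1
    have hxw : row (QuadraticMap.polar Q) w ⬝ᵥ x = 0 := by rw [row_dot hQ.polar_bilinear, polar_symm hQ, hwx]
    have hu' : row (QuadraticMap.polar Q) w ⬝ᵥ u = 0 := by rw [row_dot hQ.polar_bilinear, hu]
    have hd : row (QuadraticMap.polar Q) w ⬝ᵥ (((QuadraticMap.polar Q) u x / Q x) • x - u) = 0 := by
      rw [dotProduct_sub, dotProduct_smul, hxw, hu', smul_zero, sub_zero]
    have hd' : row (QuadraticMap.polar Q) (-w) = -row (QuadraticMap.polar Q) w := funext fun j => neg_right hQ.polar_bilinear _ _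
    rw [hd', ← tv_inv hd, inv_mem_iff] at h1
    rw [ft] at hum ⊢
    have h3 := M.mul_mem h1 hum
    rwa [← LinSubfieldMax97.tv_add_left hd hu', sub_add_cancel] at h3
  have hev : ∀ {c : F} {x : (Fin 3 → F)}, (QuadraticMap.polar Q) w x = 0 → (QuadraticMap.polar Q) (c • x) w = 0 := fun {c x} h => by
    rw [hQ.polar_bilinear.smul_left, polar_symm hQ, h, mul_zero]
  let L : AddSubgroup F :=
    { carrier := {c | ft (QuadraticMap.polar Q) (c • e) w ∈ M}
      zero_mem' := by
        show ft (QuadraticMap.polar Q) ((0 : F) • e) w ∈ M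
        have : ft (QuadraticMap.polar Q) ((0 : F) • e) w = 1 := gl_ext fun x => by
          rw [ft_act hQ.polar_bilinear (hev hwe), zero_smul, smul_zero, one_act, add_zero]
        rw [this]; exact M.one_mem
      add_mem' := fun {a b} ha hb => by
        show ft (QuadraticMap.polar Q) ((a + b) • e) w ∈ M
        have hr : ∀ c : F, row (QuadraticMap.polar Q) w ⬝ᵥ (c • e) = 0 := fun c => by rw [row_dot hQ.polar_bilinear]; exact hev hwe
        rw [add_smul, ft, LinSubfieldMax97.tv_add_left (hr a) (hr b)]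
        exact M.mul_mem ha hb
      neg_mem' := fun {a} ha => by
        show ft (QuadraticMap.polar Q) (-a • e) w ∈ M
        have : ft (QuadraticMap.polar Q) (-a • e) w = (ft (QuadraticMap.polar Q) (a • e) w)⁻¹ := by
          refine eq_inv_of_mul_eq_one_left (gl_ext fun x => ?_)
          rw [mul_act, ft_act hQ.polar_bilinear (hev hwe), ft_act hQ.polar_bilinear (hev hwe),
            hQ.polar_bilinear.add_left, hQ.polar_bilinear.smul_left, hQ.polar_bilinear.smul_left,
            polar_symm hQ e w, hwe, one_act]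
          module
        rw [this]; exact M.inv_mem ha }
  have hmul : ∀ {c : F} {d : (Fin 3 → F)}, c ∈ L → (QuadraticMap.polar Q) w d = 0 → Q d ≠ 0 → c * ((QuadraticMap.polar Q) e d ^ 2 / (Q e * Q d)) ∈ L := by
    intro c d hc hwd hd
    have h1 := hP (hev hwd) hwe he (hP (hev hwe) hwd hd hc)
    show ft (QuadraticMap.polar Q) ((c * ((QuadraticMap.polar Q) e d ^ 2 / (Q e * Q d))) • e) w ∈ M
    convert h1 using 3
    rw [hQ.polar_bilinear.smul_left, hQ.polar_bilinear.smul_left, polar_symm hQ d e]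
    field_simp
  -- the multiplier ring is a field and contains every square
  let R : Subring F :=
    { carrier := {k | ∀ c ∈ L, c * k ∈ L}
      zero_mem' := fun c _ => by rw [mul_zero]; exact L.zero_mem
      one_mem' := fun c hc => by rwa [mul_one]
      add_mem' := fun {a b} ha hb c hc => by rw [mul_add]; exact L.add_mem (ha c hc) (hb c hc)
      mul_mem' := fun {a b} ha hb c hc => by rw [← mul_assoc]; exact hb _ (ha c hc)
      neg_mem' := fun {a} ha c hc => by rw [mul_neg]; exact L.neg_mem (ha c hc) }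
  have hinv : ∀ {k : F}, k ∈ R → k⁻¹ ∈ R := by
    intro k hk
    rcases eq_or_ne k 0 with rfl | hk0
    · simp
    have h1 : k⁻¹ = k ^ (Fintype.card F - 2) := by
      apply inv_eq_of_mul_eq_one_left
      rw [← pow_succ]
      have : 2 ≤ Fintype.card F := Fintype.one_lt_card
      rw [show Fintype.card F - 2 + 1 = Fintype.card F - 1 by omega, FiniteField.pow_card_sub_one_eq_one k hk0]
    rw [h1]; exact pow_mem hk _
  set k0 := -Q e' / Q e with hk0
  have hk0ne : k0 ≠ 0 := div_ne_zero (neg_ne_zero.mpr he') he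
  have hsq : ∀ x : F, x ^ 2 / k0 ∈ R := by
    intro x
    rcases eq_or_ne (x ^ 2) k0 with hx | hx
    · rw [hx, div_self hk0ne]; exact R.one_mem
    set d := e' + x • e with hd
    have hQd : Q d = Q e * (x ^ 2 - k0) := by
      rw [hd, Q_add hQ, hQ.smul, hQ.polar_bilinear.smul_right, polar_symm hQ e' e, hee', hk0]
      field_simp
      ring
    have hd0 : Q d ≠ 0 := by rw [hQd]; exact mul_ne_zero he (sub_ne_zero.mpr hx)
    have hwd : (QuadraticMap.polar Q) w d = 0 := by
      rw [hd, hQ.polar_bilinear.add_right, hQ.polar_bilinear.smul_right, hwe, hwe']; ring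
    have hk : (QuadraticMap.polar Q) e d ^ 2 / (Q e * Q d) ∈ R := fun c hc => hmul hc hwd hd0
    have h4 : (4 : F) ∈ R := by exact_mod_cast natCast_mem R 4
    have h5 := hinv (R.sub_mem (R.mul_mem hk (hinv h4)) R.one_mem)
    have h6 := R.add_mem h5 R.one_mem
    convert h6 using 1
    have h4' : (4 : F) ≠ 0 := by rw [show (4 : F) = 2 * 2 by norm_num]; exact mul_ne_zero h2 h2
    have e1 : (QuadraticMap.polar Q) e d ^ 2 / (Q e * Q d) * (4 : F)⁻¹ - 1 = k0 / (x ^ 2 - k0) := by
      rw [hd, hQ.polar_bilinear.add_right, hQ.polar_bilinear.smul_right, hee', polar_self hQ, ← hd, hQd]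
      have := sub_ne_zero.mpr hx
      field_simp
      ring
    rw [e1, inv_div, sub_div, div_self hk0ne, sub_add_cancel]
  have hk0R : k0 ∈ R := by
    have := hinv (hsq 1)
    simpa using this
  have hall : ∀ k : F, k ∈ R := fun k => by
    have h1 : ∀ x : F, x ^ 2 ∈ R := fun x => by
      have := R.mul_mem (hsq x) hk0R
      rwa [div_mul_cancel₀ _ hk0ne] at this
    have h4 : (4 : F) ∈ R := by exact_mod_cast natCast_mem R 4
    have h5 := R.mul_mem (R.sub_mem (h1 (k + 1)) (h1 (k - 1))) (hinv h4)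
    convert h5 using 1
    have h4' : (4 : F) ≠ 0 := by rw [show (4 : F) = 2 * 2 by norm_num]; exact mul_ne_zero h2 h2
    field_simp
    ring
  have hc0 : (QuadraticMap.polar Q) v e / Q e ∈ L := hP hvw hwe he hm
  have he0 : e ≠ 0 := fun h => he (by rw [h]; simpa using hQ.smul 0 0)
  refine ⟨e, he0, by rwa [polar_symm hQ], fun s => ?_⟩
  have h1 := hall (s / ((QuadraticMap.polar Q) v e / Q e)) _ hc0
  rw [mul_div_cancel₀ _ (div_ne_zero hve he)] at h1
  have h3 : ft (QuadraticMap.polar Q) (s • e) w ∈ M := h1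
  rwa [ft, LinSubfieldMax97.tv_smul_left (by rw [row_dot hQ.polar_bilinear, polar_symm hQ, hwe])] at h3

end

/-- The similarities of a nondegenerate quadratic form in SL_3 form a maximal subgroup (q odd). -/
theorem isMaximalIn_orth {F : Type*} [Field F] [Fintype F] (hodd : Odd (Fintype.card F))
    (Q : (Fin 3 → F) → F) (hQ : Cfsg.Geo.IsNondegenerateQuadraticForm Q) :
    Cfsg.Geo.IsMaximalIn (Cfsg.Geo.specialLinear (Fin 3) F)
      (Cfsg.Geo.quadSimilarityGroup Q ⊓ Cfsg.Geo.specialLinear (Fin 3) F) := by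
  have h2 : (2 : F) ≠ 0 := by
    refine Ring.two_ne_zero fun h => ?_
    have := FiniteField.even_card_iff_char_two.mp h
    rw [Nat.odd_iff] at hodd
    omega
  obtain ⟨e, e', d, he, he', hd, hee', hed, he'd, hsp⟩ := exists_frame hQ h2
  refine ⟨lt_of_le_of_ne inf_le_right fun hE => ?_, fun M hHM hMSL => ?_⟩
  · obtain ⟨c, hc⟩ := (hE.symm ▸ ft_mem_sl (QuadraticMap.polar Q) e e' :
      ft (QuadraticMap.polar Q) e e' ∈
        Cfsg.Geo.quadSimilarityGroup Q ⊓ Cfsg.Geo.specialLinear (Fin 3) F).1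
    have h1 := hc d
    rw [ft_act hQ.polar_bilinear hee', polar_symm hQ d e', he'd, zero_smul, add_zero] at h1
    have hc1 : (c : F) = 1 := (mul_eq_right₀ hd).mp h1.symm
    have h3 := hc e'
    rw [ft_act hQ.polar_bilinear hee', polar_self hQ, Q_add hQ, hQ.smul, hQ.polar_bilinear.smul_right,
      polar_symm hQ e' e, hee', mul_zero, add_zero, hc1, one_mul, add_eq_left, mul_eq_zero, pow_eq_zero_iff two_ne_zero,
      mul_eq_zero] at h3
    rcases h3 with (h3 | h3) | h3
    · exact h2 h3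
    · exact he' h3
    · exact he h3
  by_cases hMH : M ≤ Cfsg.Geo.quadSimilarityGroup Q
  · exact Or.inl (le_antisymm (le_inf hMH hMSL) hHM)
  refine Or.inr (le_antisymm hMSL ?_)
  obtain ⟨g, hgM, hgn⟩ := Set.not_subset.mp hMH
  set gm := (g : Matrix (Fin 3) (Fin 3) F) with hgm
  -- a transvection
  obtain ⟨v, φ, hv, hφ, hvφ, hm⟩ : ∃ v φ, v ≠ 0 ∧ φ ≠ 0 ∧ φ ⬝ᵥ v = 0 ∧ tv v φ ∈ M := by
    by_contra! hcon
    apply hgn
    have hgood : ∀ x, Q x ≠ 0 → Q (gm *ᵥ x) ≠ 0 ∧
        ∀ y, (QuadraticMap.polar Q) y x / Q x = (QuadraticMap.polar Q) (gm *ᵥ y) (gm *ᵥ x) / Q (gm *ᵥ x) := by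
      intro x hx
      set ψ := ((Q x)⁻¹ • row (QuadraticMap.polar Q) x) ᵥ* ((g⁻¹ : GL (Fin 3) F) : Matrix (Fin 3) (Fin 3) F) with hψ
      set v := gm *ᵥ x with hvdef
      have hψv : ψ ⬝ᵥ v = 2 := by
        rw [hψ, hvdef, hgm, ← Matrix.dotProduct_mulVec, inv_act_act, axis_dot hQ hx]
      have hψM : inv3 v ψ ∈ M := by
        rw [hψ, hvdef, hgm, ← inv3_conj g (axis_dot hQ hx)]
        exact M.mul_mem (M.mul_mem hgM (hHM (negRefl_mem hQ h2 hx))) (M.inv_mem hgM)
      have hv0 : v ≠ 0 := act_ne_zero g (fun h => hx (by rw [h]; simpa using hQ.smul 0 0))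
      by_cases hvv : Q v = 0
      · exfalso
        obtain ⟨a0, hva0, ha0, -⟩ := exists_perp_aniso hQ h2 hv0
        obtain ⟨a, hva, ha, hψa⟩ : ∃ a, (QuadraticMap.polar Q) v a = 0 ∧ Q a ≠ 0 ∧ ψ ⬝ᵥ a ≠ 0 := by
          by_cases h0 : ψ ⬝ᵥ a0 = 0
          · refine ⟨a0 + v, ?_, ?_, ?_⟩
            · rw [hQ.polar_bilinear.add_right, hva0, polar_zero_of_iso hQ hvv, add_zero]
            · rwa [Q_add hQ, hvv, add_zero, polar_symm hQ, hva0, add_zero]
            · rw [dotProduct_add, h0, zero_add, hψv]; exact h2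
          · exact ⟨a0, hva0, ha0, h0⟩
        set j := negRefl Q a
        have hjv : (j : Matrix (Fin 3) (Fin 3) F) *ᵥ v = -v := by
          rw [negRefl_act hQ ha, hva, zero_div, zero_smul, zero_sub]
        set ψ' := -(ψ ᵥ* ((j⁻¹ : GL (Fin 3) F) : Matrix (Fin 3) (Fin 3) F)) with hψ'
        have hψ'v : ψ' ⬝ᵥ v = 2 := by
          rw [hψ', neg_dotProduct, ← dotProduct_neg, ← hjv, ← Matrix.dotProduct_mulVec, inv_act_act, hψv]
        have hmem : inv3 v ψ' ∈ M := by
          have h1 := M.mul_mem (M.mul_mem (hHM (negRefl_mem hQ h2 ha)) hψM)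
            (M.inv_mem (hHM (negRefl_mem hQ h2 ha)))
          rw [inv3_conj _ hψv] at h1
          convert h1 using 1
          refine gl_ext fun y => ?_
          rw [inv3_act hψ'v, inv3_act (by rw [← Matrix.dotProduct_mulVec, inv_act_act, hψv]), hjv, hψ',
            neg_dotProduct, smul_neg, neg_smul]
        have h1 := M.mul_mem hψM hmem
        rw [inv3_mul hψv hψ'v] at h1
        refine hcon v _ hv0 (fun h => hψa ?_) (by rw [sub_dotProduct, hψv, hψ'v, sub_self]) h1
        have h3 := congrArg (fun z => z ⬝ᵥ a) h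
        simp only [zero_dotProduct, sub_dotProduct, hψ', neg_dotProduct] at h3
        have hja : ((j⁻¹ : GL (Fin 3) F) : Matrix (Fin 3) (Fin 3) F) *ᵥ a = a := by
          conv_lhs => rw [← negRefl_self hQ ha]
          exact inv_act_act _ _
        rw [← Matrix.dotProduct_mulVec, hja] at h3
        exact (mul_eq_zero.mp (show (2 : F) * (ψ ⬝ᵥ a) = 0 by linear_combination -h3)).resolve_left h2
      refine ⟨hvv, fun y => ?_⟩
      have h1 := M.mul_mem hψM (hHM (negRefl_mem hQ h2 hvv))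
      rw [negRefl, inv3_mul hψv (axis_dot hQ hvv)] at h1
      by_contra hne
      refine hcon v _ hv0 (fun h => hne ?_) (by rw [sub_dotProduct, hψv, axis_dot hQ hvv, sub_self]) h1
      have h3 := congrArg (fun z => z ⬝ᵥ (gm *ᵥ y)) h
      simp only [zero_dotProduct, sub_dotProduct, hψ, hgm, ← Matrix.dotProduct_mulVec, inv_act_act,
        smul_dotProduct, row_dot hQ.polar_bilinear, smul_eq_mul, sub_eq_zero] at h3
      rw [div_eq_inv_mul, div_eq_inv_mul]
      exact h3.symm
    have hlam : ∀ x, Q x ≠ 0 → ∀ y, (QuadraticMap.polar Q) (gm *ᵥ y) (gm *ᵥ x) = Q (gm *ᵥ x) / Q x * (QuadraticMap.polar Q) y x := fun x hx y => by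
      obtain ⟨h1, h3⟩ := hgood x hx
      have h4 := h3 y
      field_simp at h4 ⊢
      linear_combination -h4
    have heq : ∀ {x y}, Q x ≠ 0 → Q y ≠ 0 → (QuadraticMap.polar Q) x y ≠ 0 → Q (gm *ᵥ x) / Q x = Q (gm *ᵥ y) / Q y := by
      intro x y hx hy hxy
      apply mul_right_cancel₀ hxy
      rw [← hlam y hy x, polar_symm hQ x y, ← hlam x hx y, polar_symm hQ]
    set L := Q (gm *ᵥ e) / Q e
    have hlink : ∀ x, Q x ≠ 0 → (QuadraticMap.polar Q) e x = 0 → Q (gm *ᵥ x) / Q x = L := fun x hx hex => by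
      obtain ⟨z, hz, h1, h3⟩ := exists_link hQ h2 he hx hex
      rw [heq hx hz h3]; exact (heq he hz h1).symm
    have hL : L ≠ 0 := div_ne_zero (hgood e he).1 he
    refine ⟨Units.mk0 L hL, fun x => ?_⟩
    have hall : ∀ y, (QuadraticMap.polar Q) (gm *ᵥ y) (gm *ᵥ x) = L * (QuadraticMap.polar Q) y x := by
      intro y
      have hmem : x ∈ Submodule.span F {e, e', d} := hsp ▸ Submodule.mem_top
      obtain ⟨p, q, hq, rfl⟩ := Submodule.mem_span_insert.mp hmem
      obtain ⟨r, s, rfl⟩ := Submodule.mem_span_pair.mp hq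
      simp only [Matrix.mulVec_add, Matrix.mulVec_smul, hQ.polar_bilinear.add_right,
        hQ.polar_bilinear.smul_right]
      rw [hlam e he y, hlam e' he' y, hlam d hd y, hlink e' he' hee', hlink d hd hed]
      ring
    have h5 := hall x
    rw [polar_self hQ, polar_self hQ] at h5
    exact mul_left_cancel₀ h2 (by rw [h5, Units.val_mk0]; ring)
  -- a transvection gives a full root group
  obtain ⟨w, hw⟩ := exists_row hQ.polar_bilinear hQ.nondegenerate φ
  have hrow : φ = row (QuadraticMap.polar Q) w := funext fun i => by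
    have h1 := hw (Pi.single i 1)
    rw [dotProduct_single, mul_one] at h1
    exact h1
  have hm' : ft (QuadraticMap.polar Q) v w ∈ M := by rw [ft, ← hrow]; exact hm
  have hvw : (QuadraticMap.polar Q) v w = 0 := by rw [← hw, hvφ]
  have hw0 : w ≠ 0 := fun h => hφ (by rw [hrow, h]; exact funext fun i => zero_right hQ.polar_bilinear _)
  have hrow0 : ∀ {u}, u ≠ 0 → row (QuadraticMap.polar Q) u ≠ 0 := fun {u} hu h0 => by
    obtain ⟨x, hx⟩ := (hQ.nondegenerate u hu).1
    exact hx (by rw [← row_dot hQ.polar_bilinear, h0, zero_dotProduct])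
  have hirr := irred hQ h2 hHM
  by_cases hww : Q w = 0
  · refine LinThreeRoot38.specialLinear_le_of_root hirr hw0 (hrow0 hw0)
      (by rw [row_dot hQ.polar_bilinear, polar_zero_of_iso hQ hww]) ?_
    by_cases hvs : v ∈ Submodule.span F {w}
    · obtain ⟨c, rfl⟩ := Submodule.mem_span_singleton.mp hvs
      refine root_of_self hQ h2 hHM hw0 hww (c := c) (fun h => hv (by rw [h, zero_smul])) ?_
      rw [ft] at hm' ⊢
      rw [LinSubfieldMax97.tv_smul_left (by rw [row_dot hQ.polar_bilinear, polar_zero_of_iso hQ hww])] at hm'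
      convert hm' using 2
      funext i
      simp [row, hQ.polar_bilinear.smul_right]
    · exact root_of_axis hQ h2 hHM hw0 hww hvw hvs hm'
  · obtain ⟨u, hu, huw, hroot⟩ := root_of_secant hQ h2 hHM hv hww hvw hm'
    exact LinThreeRoot38.specialLinear_le_of_root hirr hu (hrow0 hw0)
      (by rw [row_dot hQ.polar_bilinear, huw]) hroot

end Cfsg.Agent.LinThreeOrth38
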