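import Cfsg.Agent.Lib.LinThreeRoot38
import Cfsg.Agent.Lib.TransvectionUnitary

/-! The similarity group of a unitary form is maximal in SL_3. -/

set_option autoImplicit false

namespace Cfsg.Agent.LinThreeUnit38

open Cfsg.Agent.TransvectionMax
open Cfsg.Agent.TransvectionUnitary
open scoped MatrixGroups Matrix

/-- Three vectors with independent triangular conditions span. -/
lemma span_three {F : Type*} [Field F] {a b c : Fin 3 → F} (ha : a ≠ 0) (hb : b ∉ Submodule.span F {a})
    (hc : c ∉ Submodule.span F {a, b}) : Submodule.span F {a, b, c} = ⊤ := by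
  have h1 : Submodule.span F {a} < Submodule.span F {a, b} :=
    lt_of_le_of_ne (Submodule.span_mono (by simp)) fun h => hb (h ▸ Submodule.subset_span (by simp))
  have h2 : Submodule.span F {a, b} < Submodule.span F {a, b, c} :=
    lt_of_le_of_ne (Submodule.span_mono (by simp [Set.insert_subset_iff])) fun h =>
      hc (h ▸ Submodule.subset_span (by simp))
  have h3 := Submodule.finrank_lt_finrank_of_lt h1
  have h4 := Submodule.finrank_lt_finrank_of_lt h2
  have h5 := Submodule.finrank_le (Submodule.span F {a, b, c})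
  rw [finrank_span_singleton ha] at h3
  rw [Module.finrank_fin_fun] at h5
  exact Submodule.eq_top_of_finrank_eq (by rw [Module.finrank_fin_fun]; omega)

section
variable {F : Type*} [Field F] [Fintype F] {σ : F ≃+* F} {f : (Fin 3 → F) → (Fin 3 → F) → F}
variable (hf : Cfsg.Geo.IsUnitaryForm σ f)
include hf

/-- Two orthogonal isotropic vectors are dependent. -/
lemma dep_of_orth {v w : Fin 3 → F} (hv : v ≠ 0) (hvv : f v v = 0) (hww : f w w = 0) (hvw : f v w = 0) :
    w ∈ Submodule.span F {v} := by
  by_contra hw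
  obtain ⟨z, hz, hzw⟩ := exists_perp_val hf hw 1
  rw [mem_perp_singleton hf] at hz
  have hv' : v ∉ Submodule.span F {w} := fun h => by
    obtain ⟨s, hs⟩ := Submodule.mem_span_singleton.mp h
    rcases eq_or_ne s 0 with rfl | hs0
    · exact hv (by simpa using hs.symm)
    · exact hw (Submodule.mem_span_singleton.mpr ⟨s⁻¹, by rw [← hs, smul_smul, inv_mul_cancel₀ hs0, one_smul]⟩)
  obtain ⟨z', hz', hzv'⟩ := exists_perp_val hf hv' 1
  rw [mem_perp_singleton hf] at hz'
  let L : (Fin 3 → F) →ₗ[F] F × F := (uLeft hf v).prod (uLeft hf w)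
  have hL : Function.Surjective L := fun p => ⟨p.1 • z' + p.2 • z, by
    have e1 : L z' = (1, 0) := Prod.ext hzv' hz'
    have e2 : L z = (0, 1) := Prod.ext hz hzw
    simp [map_add, map_smul, e1, e2]⟩
  have h1 := LinearMap.finrank_range_add_finrank_ker L
  have h2 : Submodule.span F {v, w} ≤ LinearMap.ker L := by
    rw [Submodule.span_le, Set.insert_subset_iff, Set.singleton_subset_iff]
    exact ⟨Prod.ext hvv hvw, Prod.ext (skew_zero hf hvw) hww⟩
  have h3 := Submodule.finrank_mono h2
  have h4 : Submodule.span F {v} < Submodule.span F {v, w} :=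
    lt_of_le_of_ne (Submodule.span_mono (by simp)) fun h => hw (h ▸ Submodule.subset_span (by simp))
  have h5 := Submodule.finrank_lt_finrank_of_lt h4
  rw [finrank_span_singleton hv] at h5
  rw [LinearMap.range_eq_top.mpr hL, finrank_top, Module.finrank_prod, Module.finrank_self,
    Module.finrank_fin_fun] at h1
  omega

/-- A frame: a hyperbolic pair, an anisotropic vector orthogonal to it and a third isotropic vector. -/
lemma exists_frame : ∃ e e' d y : Fin 3 → F, f e e = 0 ∧ f e' e' = 0 ∧ f e e' = 1 ∧ f d e = 0 ∧ f d e' = 0 ∧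
    f d d ≠ 0 ∧ f y y = 0 ∧ Submodule.span F {e, e', y} = ⊤ := by
  obtain ⟨e, -, e', -, he, he', hee⟩ := exists_hyp hf (W := (⊥ : Submodule F (Fin 3 → F)))
    (by simp)
  have he0 : e ≠ 0 := fun h => by rw [h, TransvectionUnitary.zero_left hf] at hee; exact zero_ne_one hee
  have he'n : e' ∉ Submodule.span F {e} := fun h => by
    obtain ⟨s, hs⟩ := Submodule.mem_span_singleton.mp h
    rw [← hs, TransvectionUnitary.smul_right hf, he, mul_zero] at hee
    exact zero_ne_one hee
  have hfr : Module.finrank F (Submodule.span F {e, e'}) ≤ 2 := by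
    rw [Submodule.span_insert]
    refine (Submodule.finrank_add_le_finrank_add_finrank _ _).trans ?_
    rw [finrank_span_singleton he0]
    have := finrank_span_le_card (R := F) ({e'} : Set (Fin 3 → F))
    simp at this
    omega
  obtain ⟨d, hd, hd0⟩ := Submodule.exists_mem_ne_zero_of_ne_bot
    (p := perp hf (Submodule.span F {e, e'})) fun h => by
      have := finrank_perp hf (Submodule.span F {e, e'})
      rw [h, finrank_bot, Fintype.card_fin] at this
      omega
  rw [mem_perp_pair hf] at hd
  have hdn : d ∉ Submodule.span F {e, e'} := fun h => by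
    obtain ⟨s, t, hst⟩ := Submodule.mem_span_pair.mp h
    apply hd0
    have h1 := hd.1
    have h2 := hd.2
    have hee' : f e' e = 1 := by rw [hf.herm, hee, map_one]
    rw [← hst, hf.add_left, hf.smul_left, hf.smul_left, he, hee', mul_zero, zero_add, mul_one] at h1
    rw [← hst, hf.add_left, hf.smul_left, hf.smul_left, hee, he', mul_zero, add_zero, mul_one] at h2
    rw [← hst, h1, h2, zero_smul, zero_smul, add_zero]
  have hdd : f d d ≠ 0 := fun h => by
    have h1 := dep_of_orth hf he0 he h (skew_zero hf hd.1)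
    exact hdn (Submodule.span_mono (by simp) h1)
  obtain ⟨μ, hμ⟩ := exists_trace_eq hf (a := -(f d d)) (by rw [map_neg, sigma_f hf])
  refine ⟨e, e', d, d + e + μ • e', he, he', hee, hd.1, hd.2, hdd, ?_, span_three he0 he'n fun h => hdn ?_⟩
  · simp only [hf.add_left, TransvectionUnitary.add_right hf, hf.smul_left,
      TransvectionUnitary.smul_right hf, he, he', hee, hd.1, hd.2, skew_zero hf hd.1, skew_zero hf hd.2,
      show f e' e = 1 by rw [hf.herm, hee, map_one]]
    linear_combination hμ
  · have h1 : e ∈ Submodule.span F {e, e'} := Submodule.subset_span (by simp)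
    have h2 : e' ∈ Submodule.span F {e, e'} := Submodule.subset_span (by simp)
    have h3 := Submodule.sub_mem _ (Submodule.sub_mem _ h h1) (Submodule.smul_mem _ μ h2)
    convert h3 using 1
    abel

/-- The root element of the unitary group with parameters t and p. -/
lemma exists_unipotent {u a : Fin 3 → F} (hu : f u u = 0) (hua : f u a = 0) (ha : f a a ≠ 0) (s : F) :
    ∃ h : GL (Fin 3) F, h ∈ Cfsg.Geo.similarityGroup f ⊓ Cfsg.Geo.specialLinear (Fin 3) F ∧
      (∀ x y, f ((h : Matrix (Fin 3) (Fin 3) F) *ᵥ x) ((h : Matrix (Fin 3) (Fin 3) F) *ᵥ y) = f x y) ∧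
      (h : Matrix (Fin 3) (Fin 3) F) *ᵥ u = u ∧ (h : Matrix (Fin 3) (Fin 3) F) *ᵥ a = a + s • u := by
  set t := -(σ s / f a a) with ht
  obtain ⟨p, hp⟩ := exists_trace_eq hf (a := t * σ t * f a a)
    (by rw [map_mul, map_mul, sigma_sigma hf, sigma_f hf]; ring)
  have hst : σ t * f a a = -s := by
    rw [ht, map_neg, map_div₀, sigma_sigma hf, sigma_f hf, neg_mul, div_mul_cancel₀ _ ha]
  have hc : f a (σ t • u) = 0 := by rw [TransvectionUnitary.smul_right hf, skew_zero hf hua, mul_zero]
  have hb : f u (p • u + (-t) • a) = 0 := by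
    rw [TransvectionUnitary.add_right hf, TransvectionUnitary.smul_right hf,
      TransvectionUnitary.smul_right hf, hu, hua, mul_zero, mul_zero, add_zero]
  set h := ft f u (p • u + (-t) • a) * ft f a (σ t • u) with hdef
  have hact : ∀ x, (h : Matrix (Fin 3) (Fin 3) F) *ᵥ x =
      x + (t * f x u) • a + (σ p * f x u - σ t * f x a - t * σ t * f a a * f x u) • u := by
    intro x
    rw [hdef, mul_act, TransvectionUnitary.ft_act hf hc, TransvectionUnitary.ft_act hf hb]
    simp only [TransvectionUnitary.add_right hf, TransvectionUnitary.smul_right hf, sigma_sigma hf,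
      hf.add_left, hf.smul_left, map_neg, skew_zero hf hua]
    module
  have hpres : ∀ x y, f ((h : Matrix (Fin 3) (Fin 3) F) *ᵥ x) ((h : Matrix (Fin 3) (Fin 3) F) *ᵥ y) =
      f x y := by
    intro x y
    rw [hact, hact]
    have e1 : f u y = σ (f y u) := hf.herm u y
    have e2 : f a y = σ (f y a) := hf.herm a y
    have e3 : σ (f a a) = f a a := sigma_f hf a a
    simp only [hf.add_left, TransvectionUnitary.add_right hf, hf.smul_left,
      TransvectionUnitary.smul_right hf, hu, hua, skew_zero hf hua, e1, e2, e3, map_mul, map_sub,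
      sigma_sigma hf]
    linear_combination (f x u * σ (f y u)) * hp
  refine ⟨h, ⟨⟨1, fun x y => by rw [hpres, Units.val_one, one_mul]⟩, ?_⟩, hpres, ?_, ?_⟩
  · exact (Cfsg.Geo.specialLinear (Fin 3) F).mul_mem (tv_mem_sl _ _) (tv_mem_sl _ _)
  · rw [hact, hu, hua]
    simp
  · rw [hact, skew_zero hf hua]
    simp [hst]

variable {M : Subgroup (GL (Fin 3) F)}

/-- A transvection with isotropic centre and axis not its perp yields a full root group. -/
lemma root_of_centre (hH : Cfsg.Geo.similarityGroup f ⊓ Cfsg.Geo.specialLinear (Fin 3) F ≤ M)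
    {u a : Fin 3 → F} (hu : u ≠ 0) (huu : f u u = 0) (hua : f u a = 0) (ha : a ∉ Submodule.span F {u})
    (hm : ft f u a ∈ M) : ∀ c : F, tv u (c • row f u) ∈ M := by
  intro c
  have haa : f a a ≠ 0 := fun h => ha (dep_of_orth hf hu huu h hua)
  obtain ⟨h, hh, hpres, hhu, hha⟩ := exists_unipotent hf huu hua haa (σ c)
  have h1 := M.mul_mem (M.mul_mem (hH hh) hm) (M.inv_mem (hH hh))
  have hcu : f u (σ c • u) = 0 := by rw [TransvectionUnitary.smul_right hf, huu, mul_zero]
  rw [TransvectionUnitary.ft_conj hf hpres hua, hhu, hha, ← TransvectionUnitary.ft_add hf hua hcu,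
    M.mul_mem_cancel_left hm, ft] at h1
  convert h1 using 2
  funext j
  simp [row, TransvectionUnitary.smul_right hf, sigma_sigma hf]

/-- The dual: axis the perp of an isotropic point, another centre. -/
lemma root_of_axis (hH : Cfsg.Geo.similarityGroup f ⊓ Cfsg.Geo.specialLinear (Fin 3) F ≤ M)
    {u a : Fin 3 → F} (ha : a ≠ 0) (haa : f a a = 0) (hua : f u a = 0) (huu : f u u ≠ 0)
    (hm : ft f u a ∈ M) : ∀ c : F, tv a (c • row f a) ∈ M := by
  intro c
  obtain ⟨h, hh, hpres, hha, hhu⟩ := exists_unipotent hf haa (skew_zero hf hua) huu c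
  have h1 := M.mul_mem (M.mul_mem (hH hh) hm) (M.inv_mem (hH hh))
  have hca : row f a ⬝ᵥ a = 0 := by rw [TransvectionUnitary.row_dot hf, haa]
  have hu' : row f a ⬝ᵥ u = 0 := by rw [TransvectionUnitary.row_dot hf, hua]
  rw [TransvectionUnitary.ft_conj hf hpres hua, hhu, hha, ft,
    LinSubfieldMax97.tv_add_left hu' (by rw [dotProduct_smul, hca, smul_zero])] at h1
  rw [ft] at hm
  rw [M.mul_mem_cancel_left hm, LinSubfieldMax97.tv_smul_left hca] at h1
  exact h1

/-- A transvection with anisotropic centre and axis gives one with isotropic centre. -/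
lemma centre_of_anisotropic (hH : Cfsg.Geo.similarityGroup f ⊓ Cfsg.Geo.specialLinear (Fin 3) F ≤ M)
    {u a : Fin 3 → F} (hua : f u a = 0) (huu : f u u ≠ 0) (haa : f a a ≠ 0)
    (hm : ft f u a ∈ M) :
    ∃ w b, w ≠ 0 ∧ f w w = 0 ∧ f w b = 0 ∧ b ∉ Submodule.span F {w} ∧ ft f w b ∈ M := by
  have ha : a ≠ 0 := fun h => haa (by rw [h, TransvectionUnitary.zero_right hf])
  obtain ⟨w, hw, hw0, hww⟩ := exists_isotropic hf (X := perp hf (Submodule.span F {a})) (by
    have := finrank_perp hf (Submodule.span F {a})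
    rw [finrank_span_singleton ha, Fintype.card_fin] at this
    omega)
  rw [mem_perp_singleton hf] at hw
  have huw : f u w ≠ 0 := fun h0 => by
    have hu0 : u ≠ 0 := fun h => huu (by rw [h, TransvectionUnitary.zero_right hf])
    have hau : a ∉ Submodule.span F {u} := fun h => by
      obtain ⟨s, hs⟩ := Submodule.mem_span_singleton.mp h
      rw [← hs, TransvectionUnitary.smul_right hf, mul_eq_zero, or_iff_left huu] at hua
      exact ha (by rw [← hs, show s = 0 by simpa using hua, zero_smul])
    have hwu : w ∉ Submodule.span F {u, a} := fun h => by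
      obtain ⟨p, r, hpr⟩ := Submodule.mem_span_pair.mp h
      rw [← hpr, hf.add_left, hf.smul_left, hf.smul_left, hua, mul_zero, zero_add,
        mul_eq_zero, or_iff_left haa] at hw
      rw [hw, zero_smul, add_zero] at hpr
      rw [← hpr, hf.smul_left, TransvectionUnitary.smul_right hf, ← mul_assoc, mul_eq_zero,
        or_iff_left huu] at hww
      rcases mul_eq_zero.mp hww with hp | hp
      · exact hw0 (by rw [← hpr, hp, zero_smul])
      · exact hw0 (by rw [← hpr, show p = 0 by simpa using hp, zero_smul])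
    obtain ⟨x, hx⟩ := (hf.nondegenerate w hw0).1
    apply hx
    have hmem : x ∈ Submodule.span F {u, a, w} := span_three hu0 hau hwu ▸ Submodule.mem_top
    obtain ⟨p, q, hq, rfl⟩ := Submodule.mem_span_insert.mp hmem
    obtain ⟨r, s, rfl⟩ := Submodule.mem_span_pair.mp hq
    simp [hf.add_left, hf.smul_left, h0, skew_zero hf hw, hww]
  obtain ⟨c, hc0, hc⟩ := exists_tz hf
  have hH' : ft f w (σ c • w) ∈ M :=
    hH ⟨⟨1, fun x y => by rw [ut_preserves hf hww hc, Units.val_one, one_mul]⟩, ft_mem_sl f _ _⟩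
  have h1 := M.mul_mem (M.mul_mem hH' hm) (M.inv_mem hH')
  rw [TransvectionUnitary.ft_conj hf (ut_preserves hf hww hc) hua, ut_act hf hww, ut_act hf hww,
    show f a w = 0 from skew_zero hf hw, mul_zero, zero_smul, add_zero, ft] at h1
  have hu' : row f a ⬝ᵥ u = 0 := by rw [TransvectionUnitary.row_dot hf, hua]
  have hw' : row f a ⬝ᵥ w = 0 := by rw [TransvectionUnitary.row_dot hf, hw]
  rw [ft] at hm
  rw [LinSubfieldMax97.tv_add_left hu' (by rw [dotProduct_smul, hw', smul_zero]),
    M.mul_mem_cancel_left hm, LinSubfieldMax97.tv_smul_left hw'] at h1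
  have hd : σ (c * f u w) ≠ 0 := by simp [hc0, huw]
  refine ⟨w, σ (c * f u w) • a, hw0, hww, by rw [TransvectionUnitary.smul_right hf, hw, mul_zero],
    fun h => ?_, ?_⟩
  · obtain ⟨s, hs⟩ := Submodule.mem_span_singleton.mp h
    apply haa
    have h2 : a = ((σ (c * f u w))⁻¹ * s) • w := by
      rw [← smul_smul, hs, smul_smul, inv_mul_cancel₀ hd, one_smul]
    rw [h2, hf.smul_left, TransvectionUnitary.smul_right hf, hww, mul_zero, mul_zero]
  · rw [ft]
    convert h1 using 2
    funext j
    simp [row, TransvectionUnitary.smul_right hf, sigma_sigma hf]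

/-- An overgroup of the special unitary similarities is irreducible. -/
lemma irred (hH : Cfsg.Geo.similarityGroup f ⊓ Cfsg.Geo.specialLinear (Fin 3) F ≤ M) :
    LinThreeRoot38.Irred M := by
  intro W hW
  by_contra hcon
  rw [not_or] at hcon
  obtain ⟨x, hx, hx0⟩ := Submodule.exists_mem_ne_zero_of_ne_bot hcon.1
  obtain ⟨e, e', d, y, he, he', hee, -, -, -, hy, hspan⟩ := exists_frame hf
  obtain ⟨c, hc0, hc⟩ := exists_tz hf
  have step : ∀ {z b : Fin 3 → F}, z ∈ W → f b b = 0 → f z b ≠ 0 → b ∈ W := fun {z b} hz hb hzb => by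
    have h1 := W.sub_mem (hW _ (hH ⟨⟨1, fun p r => by rw [ut_preserves hf hb hc, Units.val_one, one_mul]⟩,
      ft_mem_sl f b (σ c • b)⟩) z hz) hz
    rw [ut_act hf hb, add_sub_cancel_left] at h1
    exact (W.smul_mem_iff (mul_ne_zero hc0 hzb)).mp h1
  obtain ⟨b, hbW, hb, hb0⟩ : ∃ b ∈ W, f b b = 0 ∧ b ≠ 0 := by
    by_contra! hno
    have hnb : ∀ b, f b b = 0 → f x b = 0 := fun b hb => by
      by_contra h
      have hbW := step hx hb h
      exact h (by rw [hno b hbW hb, TransvectionUnitary.zero_right hf])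
    obtain ⟨z, hz⟩ := (hf.nondegenerate x hx0).2
    apply hz
    have hmem : z ∈ Submodule.span F {e, e', y} := hspan ▸ Submodule.mem_top
    obtain ⟨p, q, hq, rfl⟩ := Submodule.mem_span_insert.mp hmem
    obtain ⟨r, s, rfl⟩ := Submodule.mem_span_pair.mp hq
    simp [TransvectionUnitary.add_right hf, TransvectionUnitary.smul_right hf, hnb e he, hnb e' he',
      hnb y hy]
  have hiso : ∀ p, f p p = 0 → p ∈ W := fun p hp => by
    by_cases h : f b p = 0
    · obtain ⟨s, rfl⟩ := Submodule.mem_span_singleton.mp (dep_of_orth hf hb0 hb hp h)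
      exact W.smul_mem _ hbW
    · exact step hbW hp h
  apply hcon.2
  rw [eq_top_iff, ← hspan, Submodule.span_le]
  simp [Set.insert_subset_iff, hiso e he, hiso e' he', hiso y hy]

end

/-- The similarities of a unitary form in SL_3 form a maximal subgroup. -/
theorem isMaximalIn_unitary {F : Type*} [Field F] [Fintype F] (σ : F ≃+* F)
    (f : (Fin 3 → F) → (Fin 3 → F) → F) (hf : Cfsg.Geo.IsUnitaryForm σ f) :
    Cfsg.Geo.IsMaximalIn (Cfsg.Geo.specialLinear (Fin 3) F)
      (Cfsg.Geo.similarityGroup f ⊓ Cfsg.Geo.specialLinear (Fin 3) F) := by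
  obtain ⟨e, e', d, y, he, he', hee, hde, hde', hdd, hy, hspan⟩ := exists_frame hf
  refine ⟨lt_of_le_of_ne inf_le_right fun hE => ?_, fun M hHM hMSL => ?_⟩
  · have hed : f e d = 0 := skew_zero hf hde
    obtain ⟨c, hc⟩ := (hE.symm ▸ ft_mem_sl f e d :
      ft f e d ∈ Cfsg.Geo.similarityGroup f ⊓ Cfsg.Geo.specialLinear (Fin 3) F).1
    have h1 := hc d e'
    rw [TransvectionUnitary.ft_act hf hed, TransvectionUnitary.ft_act hf hed, skew_zero hf hde', zero_smul,
      add_zero, hf.add_left, hf.smul_left, hde', hee, mul_one, zero_add, mul_zero] at h1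
    exact hdd h1
  by_cases hMH : M ≤ Cfsg.Geo.similarityGroup f
  · exact Or.inl (le_antisymm (le_inf hMH hMSL) hHM)
  refine Or.inr (le_antisymm hMSL ?_)
  obtain ⟨g, hgM, hgn⟩ := Set.not_subset.mp hMH
  obtain ⟨c0, hc0, hc0'⟩ := exists_tz hf
  have hut : ∀ b, f b b = 0 → ft f b (σ c0 • b) ∈ M := fun b hb =>
    hHM ⟨⟨1, fun p r => by rw [ut_preserves hf hb hc0', Units.val_one, one_mul]⟩, ft_mem_sl f _ _⟩
  obtain ⟨u, a, hu, hua, ha, ha0, hm⟩ :
      ∃ u a, u ≠ 0 ∧ f u a = 0 ∧ a ∉ Submodule.span F {u} ∧ a ≠ 0 ∧ ft f u a ∈ M := by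
    by_contra hcon
    push Not at hcon
    apply hgn
    set gm := (g : Matrix (Fin 3) (Fin 3) F)
    have hlam : ∀ v, v ≠ 0 → f v v = 0 → ∃ l : F, ∀ x, f x v = l * f (gm *ᵥ x) (gm *ᵥ v) := by
      intro v hv hvv
      obtain ⟨a, ha⟩ := exists_row hf
        (Matrix.vecMul (c0 • row f v) ((g⁻¹ : GL (Fin 3) F) : Matrix (Fin 3) (Fin 3) F))
      simp only [← Matrix.dotProduct_mulVec, smul_dotProduct, smul_eq_mul,
        TransvectionUnitary.row_dot hf] at ha
      have hua : f (gm *ᵥ v) a = 0 := by rw [← ha, inv_act_act, hvv, mul_zero]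
      have hconj : g * ft f v (σ c0 • v) * g⁻¹ = ft f (gm *ᵥ v) a := by
        refine gl_ext fun x => ?_
        rw [mul_act, mul_act, ut_act hf hvv, TransvectionUnitary.ft_act hf hua, Matrix.mulVec_add,
          Matrix.mulVec_smul, act_inv_act, ha]
      by_contra hno
      have hanot : a ∉ Submodule.span F {gm *ᵥ v} := by
        intro hs
        obtain ⟨s, hs⟩ := Submodule.mem_span_singleton.mp hs
        refine hno ⟨σ s / c0, fun x => ?_⟩
        have h := ha (gm *ᵥ x)
        rw [inv_act_act, ← hs, TransvectionUnitary.smul_right hf] at h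
        rw [div_mul_eq_mul_div, eq_div_iff hc0, ← h, mul_comm]
      exact hcon (gm *ᵥ v) a (act_ne_zero g hv) hua hanot (fun h => hanot (h ▸ Submodule.zero_mem _))
        (hconj ▸ M.mul_mem (M.mul_mem hgM (hut v hvv)) (M.inv_mem hgM))
    choose! l hl using hlam
    have heq : ∀ v w, v ≠ 0 → w ≠ 0 → f v v = 0 → f w w = 0 → f v w ≠ 0 → l w = σ (l v) := by
      intro v w hv hw hvv hww hvw
      have h1 := hl w hw hww v
      have h2 := congrArg σ (hl v hv hvv w)
      rw [map_mul, sigma_f hf, sigma_f hf] at h2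
      have hne : f (gm *ᵥ v) (gm *ᵥ w) ≠ 0 := fun h0 => hvw (by rw [h1, h0, mul_zero])
      exact mul_right_cancel₀ hne (h1.symm.trans h2)
    have hne0 : ∀ {v w}, f v w ≠ 0 → v ≠ 0 ∧ w ≠ 0 := fun {v w} h =>
      ⟨fun h' => h (by rw [h', TransvectionUnitary.zero_left hf]),
        fun h' => h (by rw [h', TransvectionUnitary.zero_right hf])⟩
    have hee0 : f e e' ≠ 0 := by rw [hee]; exact one_ne_zero
    obtain ⟨he0, he0'⟩ := hne0 hee0
    have hy0 : y ∉ Submodule.span F {e, e'} := fun h => by
      have h1 : Submodule.span F {e, e', y} ≤ Submodule.span F {e, e'} := by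
        rw [Submodule.span_le]
        simp only [Set.insert_subset_iff, Set.singleton_subset_iff, SetLike.mem_coe]
        exact ⟨Submodule.subset_span (by simp), Submodule.subset_span (by simp), h⟩
      rw [hspan] at h1
      have h2 : d ∈ Submodule.span F {e, e'} := h1 Submodule.mem_top
      obtain ⟨s, t, hst⟩ := Submodule.mem_span_pair.mp h2
      apply hdd
      nth_rewrite 1 [← hst]
      rw [hf.add_left, hf.smul_left, hf.smul_left, skew_zero hf hde, skew_zero hf hde', mul_zero, mul_zero,
        add_zero]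
    have hy' : y ≠ 0 := fun h => hy0 (h ▸ Submodule.zero_mem _)
    have hey : f e y ≠ 0 := fun h => hy0 (Submodule.span_mono (by simp) (dep_of_orth hf he0 he hy h))
    have he'y : f e' y ≠ 0 := fun h => hy0 (Submodule.span_mono (by simp) (dep_of_orth hf he0' he' hy h))
    have h1 : l e' = σ (l e) := heq e e' he0 he0' he he' hee0
    have h2 : l y = σ (l e) := heq e y he0 hy' he hy hey
    have h3 : l y = σ (l e') := heq e' y he0' hy' he' hy he'y
    have hL : σ (l e) = l e := by
      rw [h1, sigma_sigma hf] at h3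
      exact h2.symm.trans h3
    have hall : ∀ w, w ≠ 0 → f w w = 0 → l w = l e := by
      intro w hw hww
      by_cases hew : f e w = 0
      · have he'w : f e' w ≠ 0 := fun h => by
          have h4 := dep_of_orth hf he0 he hww hew
          obtain ⟨s, hs⟩ := Submodule.mem_span_singleton.mp h4
          rw [← hs, TransvectionUnitary.smul_right hf, hf.herm, hee, map_one, mul_one] at h
          exact hw (by rw [← hs, show s = 0 by simpa using h, zero_smul])
        rw [heq e' w he0' hw he' hww he'w, h1, sigma_sigma hf]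
      · rw [heq e w he0 hw he hww hew, hL]
    have hl0 : l e ≠ 0 := by
      intro h0
      have := hl e he0 he e'
      rw [h0, zero_mul, hf.herm, hee, map_one] at this
      exact one_ne_zero this
    have hisoeq : ∀ v, v ≠ 0 → f v v = 0 → ∀ x, f x v = l e * f (gm *ᵥ x) (gm *ᵥ v) := fun v hv hvv x => by
      rw [hl v hv hvv x, hall v hv hvv]
    refine ⟨(Units.mk0 (l e) hl0)⁻¹, fun x v => ?_⟩
    rw [Units.val_inv_eq_inv_val, Units.val_mk0, eq_inv_mul_iff_mul_eq₀ hl0]
    have hmem : v ∈ Submodule.span F {e, e', y} := hspan ▸ Submodule.mem_top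
    obtain ⟨p, q, hq, rfl⟩ := Submodule.mem_span_insert.mp hmem
    obtain ⟨r, s, rfl⟩ := Submodule.mem_span_pair.mp hq
    simp only [Matrix.mulVec_add, Matrix.mulVec_smul, TransvectionUnitary.add_right hf,
      TransvectionUnitary.smul_right hf, hisoeq e he0 he x, hisoeq e' he0' he' x, hisoeq y hy' hy x]
    ring
  -- a transvection outside the similarity group gives a full root group
  have hrow : ∀ {v}, v ≠ 0 → row f v ≠ 0 := fun {v} hv h0 => by
    obtain ⟨x, hx⟩ := (hf.nondegenerate v hv).1
    exact hx (by rw [← TransvectionUnitary.row_dot hf, h0, zero_dotProduct])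
  have fin : ∀ {v}, v ≠ 0 → f v v = 0 → (∀ c : F, tv v (c • row f v) ∈ M) →
      Cfsg.Geo.specialLinear (Fin 3) F ≤ M := fun {v} hv hvv h =>
    LinThreeRoot38.specialLinear_le_of_root (irred hf hHM) hv (hrow hv)
      (by rw [TransvectionUnitary.row_dot hf, hvv]) h
  by_cases huu : f u u = 0
  · exact fin hu huu (root_of_centre hf hHM hu huu hua ha hm)
  by_cases haa : f a a = 0
  · exact fin ha0 haa (root_of_axis hf hHM ha0 haa hua huu hm)
  obtain ⟨w, b, hw0, hww, hwb, hb, hm'⟩ := centre_of_anisotropic hf hHM hua huu haa hm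
  exact fin hw0 hww (root_of_centre hf hHM hw0 hww hwb hb hm')

end Cfsg.Agent.LinThreeUnit38
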