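import Cfsg.Prelude.Def_GeometricClasses
import Cfsg.Agent.Lib.TransvectionUnitary

/-! The proof of S5643, whose argument only needs n ≥ 10, restated at that bound. -/

set_option autoImplicit false
open Cfsg

namespace Cfsg.Agent.LinUnitMax97

open Cfsg.Agent.TransvectionMax
open scoped MatrixGroups Matrix

namespace U

open Cfsg.Agent.TransvectionUnitary

variable {F : Type*} [Field F] [Fintype F] {n : ℕ} {σ : F ≃+* F}
  {f : (Fin n → F) → (Fin n → F) → F}

lemma fr1 (a : Fin n → F) : Module.finrank F (Submodule.span F {a}) ≤ 1 :=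
  (finrank_span_le_card ({a} : Set (Fin n → F))).trans (by simp)

lemma fr2 (a b : Fin n → F) : Module.finrank F (Submodule.span F {a, b}) ≤ 2 := by
  rw [Submodule.span_insert]
  exact (Submodule.finrank_add_le_finrank_add_finrank _ _).trans (Nat.add_le_add (fr1 a) (fr1 b))

lemma fr3 (a b c : Fin n → F) : Module.finrank F (Submodule.span F {a, b, c}) ≤ 3 := by
  rw [Submodule.span_insert]
  exact (Submodule.finrank_add_le_finrank_add_finrank _ _).trans (Nat.add_le_add (fr1 a) (fr2 b c))

lemma notMem_span_of_val (hf : Cfsg.Geo.IsUnitaryForm σ f) {W : Submodule F (Fin n → F)}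
    {z r : Fin n → F} (hr : r ∈ perp hf W) (h : f z r ≠ 0) : z ∉ W :=
  fun hz => h (skew_zero hf (hr z hz))

/-- The root group at u is full. -/
lemma full_at (hn : 10 ≤ n) (hf : Cfsg.Geo.IsUnitaryForm σ f) {M : Subgroup (GL (Fin n) F)}
    (hut : ∀ b c, f b b = 0 → σ c = -c → ft f b (σ c • b) ∈ M) {u a : Fin n → F}
    (hua : f u a = 0) (ha : a ∉ Submodule.span F {u}) (hm : ft f u a ∈ M) {y : Fin n → F}
    (huy : f u y = 0) : ft f u y ∈ M := by
  let A : (Fin n → F) → Prop := fun x => f u x = 0 ∧ ft f u x ∈ M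
  have hAa : A a := ⟨hua, hm⟩
  have hAadd : ∀ {x y}, A x → A y → A (x + y) := fun {x y} hx hy =>
    ⟨by rw [add_right hf, hx.1, hy.1, add_zero], by rw [← ft_add hf hx.1 hy.1]; exact M.mul_mem hx.2 hy.2⟩
  have hAneg : ∀ {x}, A x → A (-x) := fun {x} hx =>
    ⟨by rw [neg_right hf, hx.1, neg_zero], by rw [← ft_inv hf hx.1]; exact M.inv_mem hx.2⟩
  have hAsub : ∀ {x y}, A x → A y → A (x - y) := fun hx hy => by
    rw [sub_eq_add_neg]; exact hAadd hx (hAneg hy)
  have step : ∀ {x b c}, A x → f b b = 0 → f u b = 0 → σ c = -c → A ((c * f x b) • b) := by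
    intro x b c hx hb hub hc
    set h := ft f b (σ c • b)
    have hconj : h * ft f u x * h⁻¹ = ft f u (x + (c * f x b) • b) := by
      rw [ft_conj hf (ut_preserves hf hb hc) hx.1, ut_act hf hb, ut_act hf hb, hub, mul_zero, zero_smul,
        add_zero]
    have h2 : A (x + (c * f x b) • b) :=
      ⟨by rw [add_right hf, smul_right hf, hx.1, hub, mul_zero, add_zero],
        by rw [← hconj]; exact M.mul_mem (M.mul_mem (hut b c hb hc) hx.2) (M.inv_mem (hut b c hb hc))⟩
    simpa using hAsub h2 hx
  obtain ⟨c0, hc0, hc0'⟩ := exists_tz hf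
  have good : ∀ {b}, f b b = 0 → f u b = 0 → f a b ≠ 0 → b ∉ Submodule.span F {u, a} → ∀ s : F,
      A (s • b) := by
    intro b hb hub hab hbs s
    obtain ⟨τ, hτ⟩ := exists_not_fixed hf.ne_refl
    have haub : a ∉ Submodule.span F {u, b} := by
      intro h
      obtain ⟨p, r, rfl⟩ := Submodule.mem_span_pair.mp h
      apply hab
      rw [hf.add_left, hf.smul_left, hf.smul_left, hub, hb, mul_zero, mul_zero, add_zero]
    obtain ⟨y1, hy1, hy1a⟩ := exists_perp_val hf haub 1
    obtain ⟨y2, hy2, hy2b⟩ := exists_perp_val hf hbs (τ * f a b / c0)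
    rw [mem_perp_pair hf] at hy1 hy2
    obtain ⟨p, hp, r, hr, μ, -, -, -, -, -, hiso⟩ := iso_adjust hf (W := Submodule.span F {u, a, b})
      (by rw [Fintype.card_fin]; have := fr3 u a b; omega) (y1 + y2)
    set b2 := y1 + y2 + p + μ • r
    have hval : ∀ w ∈ ({u, a, b} : Set (Fin n → F)), f b2 w = f y1 w + f y2 w := fun w hw => by
      simp only [b2, hf.add_left, hf.smul_left, hp w (Submodule.subset_span hw),
        hr w (Submodule.subset_span hw), mul_zero, add_zero]
    have h2u : f b2 u = 0 := by rw [hval u (by simp), hy1.1, hy2.1, add_zero]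
    have h2a : f b2 a = 1 := by rw [hval a (by simp), hy1a, hy2.2, add_zero]
    have h2b : f b2 b = τ * f a b / c0 := by rw [hval b (by simp), hy1.2, hy2b, zero_add]
    have hub2 : f u b2 = 0 := skew_zero hf h2u
    have hab2 : f a b2 = 1 := by rw [hf.herm, h2a, map_one]
    have hx2 : A (c0 • b2) := by
      have := step hAa hiso hub2 hc0'
      rwa [hab2, mul_one] at this
    have hk : ∀ c, σ c = -c → A ((c * f a b) • b) := fun c hc => step hAa hb hub hc
    have hk' : ∀ c, σ c = -c → A ((c * (τ * f a b)) • b) := fun c hc => by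
      have h := step hx2 hb hub hc
      rwa [hf.smul_left, h2b, mul_div_cancel₀ _ hc0] at h
    set ρ := s / f a b
    set d := (ρ + σ ρ) / (τ - σ τ)
    have hd : σ d = -d := by
      simp only [d, map_div₀, map_add, map_sub, sigma_sigma hf]
      rw [← neg_sub τ (σ τ), div_neg, add_comm (σ ρ)]
    have hdd : d * (τ - σ τ) = ρ + σ ρ := div_mul_cancel₀ _ (sub_ne_zero.mpr (Ne.symm hτ))
    have hcc : σ (ρ - d * τ) = -(ρ - d * τ) := by
      rw [map_sub, map_mul, hd]
      linear_combination (-1 : F) * hdd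
    have := hAadd (hk _ hcc) (hk' _ hd)
    rw [← add_smul] at this
    have e : (ρ - d * τ) * f a b + d * (τ * f a b) = s := by
      rw [← mul_assoc, ← add_mul, sub_add_cancel, div_mul_cancel₀ _ hab]
    rwa [e] at this
  have perpIso : ∀ {p}, f p p = 0 → f u p = 0 → f a p = 0 → p ∉ Submodule.span F {u, a} → ∀ s : F,
      A (s • p) := by
    intro p hp hup hap hps s
    have haup : a ∉ Submodule.span F {u, p} := by
      intro h
      obtain ⟨i, j, hij⟩ := Submodule.mem_span_pair.mp h
      rcases eq_or_ne j 0 with rfl | hj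
      · exact ha (Submodule.mem_span_singleton.mpr ⟨i, by simpa using hij⟩)
      · refine hps (Submodule.mem_span_pair.mpr ⟨-(j⁻¹ * i), j⁻¹, ?_⟩)
        rw [← hij, smul_add, smul_smul, smul_smul, inv_mul_cancel₀ hj, one_smul, ← add_assoc, ← add_smul,
          neg_add_cancel, zero_smul, zero_add]
    obtain ⟨y, hy, hya⟩ := exists_perp_val hf haup 1
    rw [mem_perp_pair hf] at hy
    obtain ⟨p', hp', r, hr, μ, -, hrr, hpr, -, hyr, hiso⟩ := iso_adjust hf (W := Submodule.span F {u, a, p})
      (by rw [Fintype.card_fin]; have := fr3 u a p; omega) y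
    set b := y + p' + μ • r
    have hval : ∀ w ∈ ({u, a, p} : Set (Fin n → F)), f b w = f y w := fun w hw => by
      simp only [b, hf.add_left, hf.smul_left, hp' w (Submodule.subset_span hw),
        hr w (Submodule.subset_span hw), mul_zero, add_zero]
    have hbu : f b u = 0 := by rw [hval u (by simp), hy.1]
    have hba : f b a = 1 := by rw [hval a (by simp), hya]
    have hbp : f b p = 0 := by rw [hval p (by simp), hy.2]
    have hrua : r ∈ perp hf (Submodule.span F {u, a}) :=
      (mem_perp_pair hf).mpr ⟨hr u (Submodule.subset_span (by simp)), hr a (Submodule.subset_span (by simp))⟩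
    have hbr : f b r = 1 := by
      simp only [b, hf.add_left, hf.smul_left, hyr, hrr, hpr, mul_zero, add_zero, zero_add]
    have hpr0 : f p r = 0 := skew_zero hf (hr p (Submodule.subset_span (by simp)))
    have h1 := good hiso (skew_zero hf hbu) (skew_ne hf (by rw [hba]; exact one_ne_zero))
      (notMem_span_of_val hf hrua (by rw [hbr]; exact one_ne_zero)) s
    have h2 := good (b := b + p)
      (by rw [hf.add_left, add_right hf b, add_right hf p, hiso, hbp, skew_zero hf hbp, hp]; simp)
      (by rw [add_right hf, skew_zero hf hbu, hup, add_zero])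
      (skew_ne hf (by rw [hf.add_left, hba, skew_zero hf hap, add_zero]; exact one_ne_zero))
      (notMem_span_of_val hf hrua (by rw [hf.add_left, hbr, hpr0, add_zero]; exact one_ne_zero)) s
    simpa [smul_add] using hAsub h2 h1
  have main : ∀ y, f u y = 0 → f a y ≠ 0 → A y := by
    intro y huy hay
    obtain ⟨p, hp, r, hr, μ, hpp, hrr, hpr, hyp, hyr, hiso⟩ := iso_adjust hf (W := Submodule.span F {u, a})
      (by rw [Fintype.card_fin]; have := fr2 u a; omega) y
    have hp' := (mem_perp_pair hf).mp hp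
    have hr' := (mem_perp_pair hf).mp hr
    have hrp : f r p ≠ 0 := skew_ne hf (by rw [hpr]; exact one_ne_zero)
    have h1 := perpIso hpp (skew_zero hf hp'.1) (skew_zero hf hp'.2)
      (notMem_span_of_val hf hr (by rw [hpr]; exact one_ne_zero)) 1
    have h2 := perpIso hrr (skew_zero hf hr'.1) (skew_zero hf hr'.2) (notMem_span_of_val hf hp hrp) μ
    have h3 := good (b := y + p + μ • r) hiso
      (by rw [add_right hf, add_right hf, smul_right hf, huy, skew_zero hf hp'.1, skew_zero hf hr'.1]; simp)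
      (by
        rw [add_right hf, add_right hf, smul_right hf, skew_zero hf hp'.2, skew_zero hf hr'.2]
        simpa using hay)
      (notMem_span_of_val hf hr (by
        rw [hf.add_left, hf.add_left, hf.smul_left, hyr, hpr, hrr]; simp)) 1
    rw [one_smul] at h1 h3
    have h4 := hAsub (hAsub h3 h2) h1
    convert h4 using 1
    abel
  by_cases hay : f a y = 0
  · obtain ⟨b0, hb0, hb0a⟩ := exists_perp_val hf ha 1
    rw [mem_perp_singleton hf] at hb0
    have hab0 : f a b0 = 1 := by rw [hf.herm, hb0a, map_one]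
    have h1 := main b0 (skew_zero hf hb0) (by rw [hab0]; exact one_ne_zero)
    have h2 := main (y + b0) (by rw [add_right hf, huy, skew_zero hf hb0, add_zero])
      (by rw [add_right hf, hay, hab0, zero_add]; exact one_ne_zero)
    have h3 := hAsub h2 h1
    rw [add_sub_cancel_right] at h3
    exact h3.2
  · exact (main y huy hay).2

end U

open Cfsg.Agent.TransvectionUnitary


/-- For a finite field F and n ≥ 10, let σ be a field automorphism of F of order two and f a non-degenerate unitary form on F^n with respect to σ. Then the elements of SL_n(F) that are similarities of f form a maximal subgroup of SL_n(F). -/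
theorem isMaximalIn_stab {F : Type*} [Field F] [Fintype F] (n : ℕ) (hn : 10 ≤ n) (σ : F ≃+* F) (f : (Fin n → F) → (Fin n → F) → F) (hf : Cfsg.Geo.IsUnitaryForm σ f) : Cfsg.Geo.IsMaximalIn (Cfsg.Geo.specialLinear (Fin n) F) (Cfsg.Geo.similarityGroup f ⊓ Cfsg.Geo.specialLinear (Fin n) F) := by
  set H := Cfsg.Geo.similarityGroup f ⊓ Cfsg.Geo.specialLinear (Fin n) F
  have hutH : ∀ b c, f b b = 0 → σ c = -c → ft f b (σ c • b) ∈ H := fun b c hb hc =>
    ⟨⟨1, fun x y => by rw [ut_preserves hf hb hc, Units.val_one, one_mul]⟩, ft_mem_sl f b _⟩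
  have hdim : ∀ W : Submodule F (Fin n → F), Module.finrank F W ≤ 3 →
      2 * (Module.finrank F W + 1) + 2 ≤ Fintype.card (Fin n) := fun W h => by
    rw [Fintype.card_fin]; omega
  obtain ⟨e0, -, he0, he0'⟩ := exists_isotropic hf (X := (⊤ : Submodule F (Fin n → F)))
    (by rw [finrank_top, Module.finrank_fin_fun]; omega)
  -- an isotropic vector not orthogonal to two given non-zero vectors
  have common : ∀ {v w : Fin n → F}, v ≠ 0 → w ≠ 0 → ∃ z, f z z = 0 ∧ f z v ≠ 0 ∧ f z w ≠ 0 := by
    intro v w hv hw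
    obtain ⟨a, ha⟩ := (hf.nondegenerate v hv).1
    obtain ⟨b, hb⟩ := (hf.nondegenerate w hw).1
    obtain ⟨y, hyv, hyw⟩ : ∃ y, f y v ≠ 0 ∧ f y w ≠ 0 := by
      by_cases h1 : f a w = 0
      · by_cases h2 : f b v = 0
        · exact ⟨a + b, by rwa [hf.add_left, h2, add_zero], by rwa [hf.add_left, h1, zero_add]⟩
        · exact ⟨b, h2, hb⟩
      · exact ⟨a, ha, h1⟩
    obtain ⟨p, hp, r, hr, μ, -, -, -, -, -, hiso⟩ :=
      iso_adjust hf (hdim _ ((U.fr2 v w).trans (by norm_num))) y
    obtain ⟨hpv, hpw⟩ := (mem_perp_pair hf).mp hp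
    obtain ⟨hrv, hrw⟩ := (mem_perp_pair hf).mp hr
    exact ⟨_, hiso, by simpa [hf.add_left, hf.smul_left, hpv, hrv] using hyv,
      by simpa [hf.add_left, hf.smul_left, hpw, hrw] using hyw⟩
  refine ⟨lt_of_le_of_ne inf_le_right ?_, fun M hHM hMSL => ?_⟩
  · intro he
    obtain ⟨a, ha, hau⟩ : ∃ a ∈ perp hf (Submodule.span F {e0}), a ∉ Submodule.span F {e0} := by
      by_contra! h
      have h1 := finrank_perp hf (Submodule.span F {e0})
      have h2 := Submodule.finrank_mono (show perp hf (Submodule.span F {e0}) ≤ _ from h)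
      have h3 := U.fr1 e0
      rw [Fintype.card_fin] at h1
      omega
    rw [mem_perp_singleton hf] at ha
    have hua := skew_zero hf ha
    have ha0 : a ≠ 0 := fun h => hau (h ▸ Submodule.zero_mem _)
    obtain ⟨x, hx, hxu⟩ := exists_perp_val hf (a := e0) (W := Submodule.span F {a}) (fun h => by
      obtain ⟨c, hc⟩ := Submodule.mem_span_singleton.mp h
      rcases eq_or_ne c 0 with rfl | hc0
      · exact he0 (by simpa using hc.symm)
      · exact hau (Submodule.mem_span_singleton.mpr ⟨c⁻¹, by rw [← hc, smul_smul, inv_mul_cancel₀ hc0, one_smul]⟩)) 1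
    rw [mem_perp_singleton hf] at hx
    obtain ⟨c, hc⟩ := (he.symm ▸ ft_mem_sl f e0 a : ft f e0 a ∈ H).1
    have hc1 : (c : F) = 1 := by
      have h1 := hc x e0
      rw [ft_act hf hua, ft_act hf hua, hx, hua, zero_smul, add_zero, add_zero, hxu, mul_one] at h1
      exact h1.symm
    obtain ⟨y, hy⟩ := (hf.nondegenerate a ha0).1
    have h1 := hc x y
    rw [ft_act hf hua, ft_act hf hua, hx, zero_smul, add_zero, add_right hf, smul_right hf, hxu,
      mul_one, hc1, one_mul, add_eq_left] at h1
    exact hy (by simpa using h1)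
  by_cases hMH : M ≤ Cfsg.Geo.similarityGroup f
  · exact Or.inl (le_antisymm (le_inf hMH hMSL) hHM)
  refine Or.inr (le_antisymm hMSL ?_)
  obtain ⟨g, hgM, hgn⟩ := Set.not_subset.mp hMH
  have hut : ∀ b c, f b b = 0 → σ c = -c → ft f b (σ c • b) ∈ M := fun b c hb hc => hHM (hutH b c hb hc)
  obtain ⟨c0, hc0, hc0'⟩ := exists_tz hf
  -- a root element outside the similarity group
  obtain ⟨u, a, hu, hua, ha, hm⟩ :
      ∃ u a, u ≠ 0 ∧ f u a = 0 ∧ a ∉ Submodule.span F {u} ∧ ft f u a ∈ M := by
    by_contra hcon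
    push Not at hcon
    apply hgn
    set gm := (g : Matrix (Fin n) (Fin n) F)
    have hlam : ∀ v, v ≠ 0 → f v v = 0 → ∃ l : F, ∀ x, f x v = l * f (gm *ᵥ x) (gm *ᵥ v) := by
      intro v hv hvv
      obtain ⟨a, ha⟩ := exists_row hf
        (Matrix.vecMul (c0 • row f v) ((g⁻¹ : GL (Fin n) F) : Matrix (Fin n) (Fin n) F))
      simp only [← Matrix.dotProduct_mulVec, smul_dotProduct, smul_eq_mul,
        TransvectionUnitary.row_dot hf] at ha
      have hua : f (gm *ᵥ v) a = 0 := by rw [← ha, inv_act_act, hvv, mul_zero]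
      have hconj : g * ft f v (σ c0 • v) * g⁻¹ = ft f (gm *ᵥ v) a := by
        refine gl_ext fun x => ?_
        rw [mul_act, mul_act, ut_act hf hvv, ft_act hf hua, Matrix.mulVec_add, Matrix.mulVec_smul,
          act_inv_act, ha]
      by_contra hno
      refine hcon (gm *ᵥ v) a (act_ne_zero g hv) hua ?_
        (hconj ▸ M.mul_mem (M.mul_mem hgM (hut v c0 hvv hc0')) (M.inv_mem hgM))
      intro hs
      obtain ⟨s, hs⟩ := Submodule.mem_span_singleton.mp hs
      refine hno ⟨σ s / c0, fun x => ?_⟩
      have h := ha (gm *ᵥ x)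
      rw [inv_act_act, ← hs, smul_right hf] at h
      rw [div_mul_eq_mul_div, eq_div_iff hc0, ← h, mul_comm]
    choose! l hl using hlam
    have heq : ∀ v w, v ≠ 0 → w ≠ 0 → f v v = 0 → f w w = 0 → f v w ≠ 0 → l w = σ (l v) := by
      intro v w hv hw hvv hww hvw
      have h1 := hl w hw hww v
      have h2 := congrArg σ (hl v hv hvv w)
      rw [map_mul, sigma_f hf, sigma_f hf] at h2
      have hne : f (gm *ᵥ v) (gm *ᵥ w) ≠ 0 := fun h0 => hvw (by rw [h1, h0, mul_zero])
      exact mul_right_cancel₀ hne (h1.symm.trans h2)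
    have hall : ∀ w, w ≠ 0 → f w w = 0 → l w = l e0 := by
      intro w hw hww
      obtain ⟨z, hzz, hz1, hz2⟩ := common he0 hw
      have hz : z ≠ 0 := fun h => hz1 (by rw [h, TransvectionUnitary.zero_left hf])
      rw [heq z w hz hw hzz hww hz2, heq e0 z he0 hz he0' hzz (TransvectionUnitary.skew_ne hf hz1),
        sigma_sigma hf]
    have hl0 : l e0 ≠ 0 := by
      intro h0
      obtain ⟨x, hx⟩ := (hf.nondegenerate e0 he0).1
      exact hx (by rw [hl e0 he0 he0' x, h0, zero_mul])
    have hiso : ∀ v, f v v = 0 → ∀ x, f x v = l e0 * f (gm *ᵥ x) (gm *ᵥ v) := by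
      intro v hvv x
      rcases eq_or_ne v 0 with rfl | hv
      · simp [TransvectionUnitary.zero_right hf]
      · rw [hl v hv hvv x, hall v hv hvv]
    refine ⟨(Units.mk0 (l e0) hl0)⁻¹, fun x v => ?_⟩
    obtain ⟨p, hp, r, hr, μ, hpp, hrr, hpr, hvp, hvr, hz⟩ :=
      iso_adjust hf (W := (⊥ : Submodule F (Fin n → F))) (hdim _ (by simp)) v
    have hz' := hiso _ hz x
    simp only [Matrix.mulVec_add, Matrix.mulVec_smul, add_right hf, smul_right hf, hiso p hpp x,
      hiso r hrr x] at hz'
    rw [Units.val_inv_eq_inv_val, Units.val_mk0, eq_inv_mul_iff_mul_eq₀ hl0]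
    linear_combination (-1 : F) * hz'
  have hfull : ∀ a', f u a' = 0 → ft f u a' ∈ M := fun a' h => U.full_at hn hf hut hua ha hm h
  -- the vectors with full root group form an invariant subspace
  let C : (Fin n → F) → Prop := fun x => ∀ a', f x a' = 0 → ft f x a' ∈ M
  have hCsmul : ∀ {x} (s : F), C x → C (s • x) := by
    intro x s hx a' ha'
    by_cases hs : s = 0
    · have : ft f (s • x) a' = 1 := gl_ext fun y => by
        rw [ft_act hf ha', hs, zero_smul, smul_zero, one_act, add_zero]
      rw [this]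
      exact M.one_mem
    rw [hf.smul_left] at ha'
    have ha2 : f x (σ s • a') = 0 := by rw [smul_right hf, sigma_sigma hf, ha']
    have : ft f (s • x) a' = ft f x (σ s • a') := gl_ext fun y => by
      rw [ft_act hf (by rw [hf.smul_left, ha']), ft_act hf ha2, smul_right hf, sigma_sigma hf, smul_smul,
        mul_comm]
    rw [this]
    exact hx _ ha2
  have hCconj : ∀ {h : GL (Fin n) F}, h ∈ M → ∀ {x}, C x →
      C ((h : Matrix (Fin n) (Fin n) F) *ᵥ x) := by
    intro h hh x hx a' ha'
    obtain ⟨a'', ha''⟩ := exists_row hf (Matrix.vecMul (row f a') (h : Matrix (Fin n) (Fin n) F))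
    simp only [← Matrix.dotProduct_mulVec, TransvectionUnitary.row_dot hf] at ha''
    have hxa : f x a'' = 0 := by rw [← ha'', ha']
    have : h * ft f x a'' * h⁻¹ = ft f ((h : Matrix (Fin n) (Fin n) F) *ᵥ x) a' := gl_ext fun y => by
      rw [mul_act, mul_act, ft_act hf hxa, ft_act hf ha', Matrix.mulVec_add, Matrix.mulVec_smul,
        act_inv_act, ← ha'', act_inv_act]
    rw [← this]
    exact M.mul_mem (M.mul_mem hh (hx _ hxa)) (M.inv_mem hh)
  have hCadd : ∀ {x y}, C x → C y → C (x + y) := by
    intro x y hx hy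
    by_cases hyx : y ∈ Submodule.span F {x}
    · obtain ⟨s, rfl⟩ := Submodule.mem_span_singleton.mp hyx
      have := hCsmul (1 + s) hx
      rwa [add_smul, one_smul] at this
    · obtain ⟨a', ha', hay⟩ := exists_perp_val hf hyx 1
      rw [mem_perp_singleton hf] at ha'
      have hxa := TransvectionUnitary.skew_zero hf ha'
      have := hCconj (hx a' hxa) hy
      rwa [ft_act hf hxa, hf.herm y a', hay, map_one, one_smul, add_comm] at this
  have hCiso : ∀ {x b}, C x → f b b = 0 → f x b ≠ 0 → C b := by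
    intro x b hx hb hxb
    have h := hCadd (hCconj (hut b c0 hb hc0') hx) (hCsmul (-1) hx)
    rw [ut_act hf hb, neg_one_smul, add_neg_cancel_comm] at h
    have := hCsmul (c0 * f x b)⁻¹ h
    rwa [smul_smul, inv_mul_cancel₀ (mul_ne_zero hc0 hxb), one_smul] at this
  have hCu : C u := hfull
  have hCisoAll : ∀ b, f b b = 0 → C b := by
    intro b hb
    rcases eq_or_ne b 0 with rfl | hb0
    · simpa using hCsmul 0 hCu
    · obtain ⟨z, hzz, hzu, hzb⟩ := common hu hb0
      exact hCiso (hCiso hCu hzz (TransvectionUnitary.skew_ne hf hzu)) hb hzb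
  refine specialLinear_le fun v φ hφ => ?_
  obtain ⟨b, hbφ⟩ := exists_row hf φ
  have hvb : f v b = 0 := by rw [← hbφ, hφ]
  have heq : tv v φ = ft f v b := gl_ext fun x => by rw [tv_act hφ, ft_act hf hvb, hbφ]
  rw [heq]
  obtain ⟨p, hp, r, hr, μ, hpp, hrr, hpr, hvp, hvr, hz⟩ :=
    iso_adjust hf (W := (⊥ : Submodule F (Fin n → F))) (hdim _ (by simp)) v
  have hv : C v := by
    have h := hCadd (hCadd (hCisoAll _ hz) (hCsmul (-1) (hCisoAll p hpp))) (hCsmul (-μ) (hCisoAll r hrr))
    convert h using 1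
    module
  exact hv b hvb

end Cfsg.Agent.LinUnitMax97
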