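import Mathlib
import Cfsg.Agent.Lib.CharInducedMonomial
import Cfsg.Agent.Lib.CharExtension
import Cfsg.Agent.Lib.GaloisChar80
import Cfsg.Agent.Lib.DegreeDvd

/-!
Blichfeldt: a finite linear group of degree `n` has an abelian Hall subgroup for the primes
exceeding `n + 1`; also, a `p`-group of degree `n` has an abelian normal subgroup of index
dividing `n!`.
-/

set_option autoImplicit false

open scoped ComplexConjugate

namespace Cfsg.Agent.LinearHallAbelian

open Cfsg Cfsg.Agent.CharBasic Cfsg.Agent.CharBasicOrth Cfsg.Agent.CharBasicDecomp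

universe u

/-! ### `p`-groups -/

/-- An element at which all constituents take their degree is trivial. -/
theorem eq_one_of_constituents {P : Type u} [Group P] [Fintype P] {n : ℕ}
    (ρ : Representation ℂ P (Fin n → ℂ)) (hinj : Function.Injective ρ) (c : P)
    (h : ∀ ψ : IrrCharacter P, classInner ρ.character (ψ : P → ℂ) ≠ 0 →
      (ψ : P → ℂ) c = (ψ : P → ℂ) 1) : c = 1 := by
  obtain ⟨m, hm, hsum⟩ := exists_mult (isCharacter_of_rep ρ)
  have h1 : ρ.character c = ρ.character 1 := by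
    rw [hsum]
    simp only [Finset.sum_apply, Pi.smul_apply, smul_eq_mul]
    refine Finset.sum_congr rfl fun ψ _ => ?_
    by_cases hψ : m ψ = 0
    · simp [hψ]
    · rw [h ψ (by rw [hm]; exact Nat.cast_ne_zero.2 hψ)]
  refine hinj ?_
  rw [map_one]
  exact eq_one_of_character_eq_finrank ρ c (h1.trans (Representation.char_one ρ))

/-- A linear `p`-group of degree `n` has an abelian normal subgroup of index dividing `n!`. -/
theorem exists_abelian_index_dvd {P : Type u} [Group P] [Finite P] {p : ℕ} [Fact p.Prime]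
    (hP : IsPGroup p P) {n : ℕ} (ρ : Representation ℂ P (Fin n → ℂ))
    (hinj : Function.Injective ρ) :
    ∃ B : Subgroup P, B.Normal ∧ (∀ a ∈ B, ∀ b ∈ B, a * b = b * a) ∧ B.index ∣ n.factorial := by
  classical
  have : Fintype P := Fintype.ofFinite P
  have : Group.IsNilpotent P := hP.isNilpotent
  obtain ⟨m, hm, hsum⟩ := exists_mult (isCharacter_of_rep ρ)
  set S := (Finset.univ : Finset (IrrCharacter P)).filter (fun ψ : IrrCharacter P => m ψ ≠ 0)
  choose H lam hlam using fun ψ : IrrCharacter P => CharInduced.exists_monomial ψ.2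
  let Ω := Σ ψ : S, P ⧸ H ψ.1
  letI : MulAction P Ω :=
    { smul := fun g x => ⟨x.1, g • x.2⟩
      one_smul := fun x => by
        show (⟨x.1, (1 : P) • x.2⟩ : Ω) = x
        rw [one_smul]
      mul_smul := fun g g' x => by
        show (⟨x.1, (g * g') • x.2⟩ : Ω) = ⟨x.1, g • g' • x.2⟩
        rw [mul_smul] }
  set B := (MulAction.toPermHom P Ω).ker with hB
  have hmem : ∀ a ∈ B, ∀ (ψ : S) (x : P), x⁻¹ * a * x ∈ H ψ.1 := by
    intro a ha ψ x
    have h1 := DFunLike.congr_fun (MonoidHom.mem_ker.1 ha) (⟨ψ, (x : P ⧸ H ψ.1)⟩ : Ω)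
    change (⟨ψ, a • (x : P ⧸ H ψ.1)⟩ : Ω) = ⟨ψ, (x : P ⧸ H ψ.1)⟩ at h1
    have h2 : ((a * x : P) : P ⧸ H ψ.1) = (x : P ⧸ H ψ.1) := by
      have h3 := eq_of_heq (Sigma.mk.inj_iff.1 h1).2
      rwa [MulAction.Quotient.smul_mk, smul_eq_mul] at h3
    have h4 := (H ψ.1).inv_mem (QuotientGroup.eq.1 h2)
    simpa [mul_assoc] using h4
  refine ⟨B, inferInstance, fun a ha b hb => ?_, ?_⟩
  · rw [← mul_inv_eq_one]
    refine eq_one_of_constituents ρ hinj _ fun ψ hψ => ?_
    have hψS : ψ ∈ S := by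
      simp only [S, Finset.mem_filter, Finset.mem_univ, true_and]
      exact fun h => hψ (by rw [hm, h, Nat.cast_zero])
    rw [hlam ψ, CharInduced.indFun_apply, CharInduced.indFun_apply]
    congr 1
    refine Finset.sum_congr rfl fun x _ => ?_
    set a' : H ψ := ⟨x⁻¹ * a * x, hmem a ha ⟨ψ, hψS⟩ x⟩
    set b' : H ψ := ⟨x⁻¹ * b * x, hmem b hb ⟨ψ, hψS⟩ x⟩
    have h1 : x⁻¹ * (a * b * (b * a)⁻¹) * x = ((a' * b' * (b' * a')⁻¹ : H ψ) : P) := by
      simp only [a', b', Subgroup.coe_mul, Subgroup.coe_inv]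
      group
    have h2 : x⁻¹ * (1 : P) * x = ((1 : H ψ) : P) := by simp
    rw [h1, h2, CharInduced.ext_zero_coe, CharInduced.ext_zero_coe, map_mul, map_mul, map_inv,
      map_mul, mul_comm (lam ψ b'), mul_inv_cancel, map_one]
  · have hcard : Nat.card Ω ≤ n := by
      have h1 : (n : ℂ) = ∑ ψ : IrrCharacter P, (m ψ : ℂ) * ((H ψ).index : ℂ) := by
        have h := congrFun hsum 1
        rw [Representation.char_one] at h
        simp only [Finset.sum_apply, Pi.smul_apply, smul_eq_mul] at h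
        rw [Module.finrank_fin_fun] at h
        rw [h]
        refine Finset.sum_congr rfl fun ψ _ => ?_
        rw [hlam ψ, CharInduced.ind_one_apply, map_one, Units.val_one, mul_one]
      have h2 : n = ∑ ψ : IrrCharacter P, m ψ * (H ψ).index := by exact_mod_cast h1
      show Nat.card (Σ ψ : S, P ⧸ H ψ.1) ≤ n
      rw [Nat.card_sigma, h2]
      calc ∑ ψ : S, Nat.card (P ⧸ H ψ.1) = ∑ ψ ∈ S, (H ψ).index :=
            (Finset.sum_coe_sort S (fun ψ => Nat.card (P ⧸ H ψ)))
        _ ≤ ∑ ψ ∈ S, m ψ * (H ψ).index := Finset.sum_le_sum fun ψ hψ =>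
            Nat.le_mul_of_pos_left _ (Nat.pos_of_ne_zero (Finset.mem_filter.1 hψ).2)
        _ ≤ ∑ ψ, m ψ * (H ψ).index := Finset.sum_le_univ_sum_of_nonneg fun _ => Nat.zero_le _
    rw [hB, Subgroup.index_ker]
    refine (Subgroup.card_subgroup_dvd_card _).trans ?_
    rw [Nat.card_perm]
    exact Nat.factorial_dvd_factorial hcard

/-- A linear `p`-group of degree less than `p` is abelian. -/
theorem comm_of_pgroup {P : Type u} [Group P] [Finite P] {p : ℕ} [hp : Fact p.Prime]
    (hP : IsPGroup p P) {n : ℕ} (hn : n < p) (ρ : Representation ℂ P (Fin n → ℂ))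
    (hinj : Function.Injective ρ) (a b : P) : a * b = b * a := by
  obtain ⟨B, -, hab, hdvd⟩ := exists_abelian_index_dvd hP ρ hinj
  obtain ⟨k, hk⟩ := hP.index B
  rcases k with _ | k
  · have : B = ⊤ := Subgroup.index_eq_one.1 (by rw [hk, pow_zero])
    exact hab a (this ▸ Subgroup.mem_top a) b (this ▸ Subgroup.mem_top b)
  · exact absurd ((Nat.Prime.dvd_factorial hp.out).1
      ((hk ▸ dvd_pow_self p k.succ_ne_zero : p ∣ B.index).trans hdvd)) (by omega)

/-! ### The Galois argument -/

/-- A rational relation between `p`-th roots of unity has constant coefficients. -/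
theorem const_of_sum_zeta {p : ℕ} [hp : Fact p.Prime] {ζ : ℂ} (hζ : IsPrimitiveRoot ζ p)
    (f : ZMod p → ℤ) (h : ∑ a : ZMod p, (f a : ℂ) * ζ ^ a.val = 0) (a b : ZMod p) : f a = f b := by
  classical
  set P : Polynomial ℤ := ∑ a : ZMod p, Polynomial.C (f a) * Polynomial.X ^ a.val with hP
  have hev : Polynomial.aeval ζ P = 0 := by
    rw [hP, map_sum, ← h]
    simp
  have hdvd := minpoly.isIntegrallyClosed_dvd (hζ.isIntegral hp.out.pos) hev
  rw [← Polynomial.cyclotomic_eq_minpoly hζ hp.out.pos] at hdvd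
  have hcoeff : ∀ c : ZMod p, P.coeff c.val = f c := by
    intro c
    rw [hP, Polynomial.finsetSum_coeff, Finset.sum_eq_single c]
    · simp
    · intro d _ hd
      rw [Polynomial.coeff_C_mul_X_pow, if_neg]
      exact fun e => hd (ZMod.val_injective p e).symm
    · simp
  have hdeg : P.natDegree < p := by
    refine lt_of_le_of_lt (Polynomial.natDegree_sum_le_of_forall_le _ _ (n := p - 1) ?_)
      (Nat.sub_lt hp.out.pos one_pos)
    intro c _
    refine (Polynomial.natDegree_C_mul_X_pow_le _ _).trans ?_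
    have := ZMod.val_lt c
    omega
  obtain ⟨Q, hQ⟩ := hdvd
  have hΦ : (Polynomial.cyclotomic p ℤ).natDegree = p - 1 := by
    rw [Polynomial.natDegree_cyclotomic, Nat.totient_prime hp.out]
  rcases eq_or_ne Q 0 with hQ0 | hQ0
  · rw [← hcoeff a, ← hcoeff b, hQ, hQ0, mul_zero, Polynomial.coeff_zero, Polynomial.coeff_zero]
  · have hQd : Q.natDegree = 0 := by
      have hne : Polynomial.cyclotomic p ℤ ≠ 0 := Polynomial.cyclotomic_ne_zero p ℤ
      have := Polynomial.natDegree_mul hne hQ0
      rw [← hQ, hΦ] at this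
      omega
    have hcc : ∀ c : ZMod p, P.coeff c.val = Q.coeff 0 := by
      intro c
      have hQc := Polynomial.eq_C_of_natDegree_eq_zero hQd
      rw [hQ, hQc, Polynomial.coeff_mul_C, Polynomial.coeff_C_zero,
        Polynomial.cyclotomic_prime, Polynomial.finsetSum_coeff, Finset.sum_eq_single c.val]
      · simp
      · intro d _ hd
        rw [Polynomial.coeff_X_pow, if_neg (Ne.symm hd)]
      · intro h'
        exact absurd (Finset.mem_range.2 (ZMod.val_lt c)) h'
    rw [← hcoeff a, ← hcoeff b, hcc a, hcc b]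

/-- A family of at most `p - 2` residues stable, with multiplicity, under a map `a ↦ j a + t`,
`j` a primitive root, is constant. -/
theorem eq_of_affine_stable {p : ℕ} [hp : Fact p.Prime] {ι : Type*} [Fintype ι]
    (hι : Fintype.card ι < p - 1) (j : (ZMod p)ˣ) (hj : orderOf j = p - 1) (t : ZMod p)
    (e : ι → ZMod p)
    (h : ∀ a : ZMod p, (Finset.univ.filter (fun i => (j : ZMod p) * e i + t = a)).card =
      (Finset.univ.filter (fun i => e i = a)).card) (i i' : ι) : e i = e i' := by
  classical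
  have hι0 : 0 < Fintype.card ι := Fintype.card_pos_iff.2 ⟨i⟩
  have hj1 : (1 : ZMod p) - (j : ZMod p) ≠ 0 := by
    intro h0
    have h1 : j = 1 := Units.ext (sub_eq_zero.1 h0).symm
    rw [h1, orderOf_one] at hj
    omega
  set a₀ : ZMod p := t / (1 - (j : ZMod p)) with ha₀
  have hfix : (j : ZMod p) * a₀ + t = a₀ := by
    have : a₀ * (1 - (j : ZMod p)) = t := by rw [ha₀, div_mul_cancel₀ _ hj1]
    linear_combination -this
  have hstep : ∀ a, a ∈ Finset.univ.image e → (j : ZMod p) * a + t ∈ Finset.univ.image e := by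
    intro a ha
    obtain ⟨k, -, rfl⟩ := Finset.mem_image.1 ha
    have h1 : (Finset.univ.filter
        (fun i => (j : ZMod p) * e i + t = (j : ZMod p) * e k + t)).Nonempty :=
      ⟨k, Finset.mem_filter.2 ⟨Finset.mem_univ _, rfl⟩⟩
    rw [← Finset.card_pos, h, Finset.card_pos] at h1
    obtain ⟨l, hl⟩ := h1
    exact Finset.mem_image.2 ⟨l, Finset.mem_univ _, (Finset.mem_filter.1 hl).2⟩
  have hall : ∀ k, e k = a₀ := by
    intro k
    by_contra hk
    have hmem : ∀ r : ℕ, a₀ + ((j ^ r : (ZMod p)ˣ) : ZMod p) * (e k - a₀) ∈ Finset.univ.image e := by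
      intro r
      induction r with
      | zero => simp
      | succ r ih =>
        convert hstep _ ih using 1
        rw [pow_succ', Units.val_mul]
        linear_combination -hfix
    have hinj : Set.InjOn (fun r : ℕ => a₀ + ((j ^ r : (ZMod p)ˣ) : ZMod p) * (e k - a₀))
        (Finset.range (p - 1) : Set ℕ) := by
      intro r hr s hs he
      simp only [add_right_inj] at he
      have h2 : j ^ r = j ^ s := Units.ext (mul_right_cancel₀ (sub_ne_zero.2 hk) he)
      rw [Finset.coe_range, Set.mem_Iio] at hr hs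
      exact pow_injOn_Iio_orderOf (by rwa [Set.mem_Iio, hj]) (by rwa [Set.mem_Iio, hj]) h2
    have := Finset.card_le_card_of_injOn _ (fun r _ => hmem r) hinj
    rw [Finset.card_range] at this
    have h3 : (Finset.univ.image e).card ≤ Fintype.card ι :=
      Finset.card_image_le.trans (le_of_eq Finset.card_univ)
    omega
  rw [hall i, hall i']

variable {G : Type u} [Group G] [Fintype G] {n : ℕ} (ρ : Representation ℂ G (Fin n → ℂ))

/-- Central elements act by scalars, and conversely for faithful representations. -/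
theorem mem_center_of_scalar (hinj : Function.Injective ρ) {g : G} {w : ℂ}
    (h : ρ g = w • LinearMap.id) : g ∈ Subgroup.center G := by
  refine Subgroup.mem_center_iff.2 fun x => hinj ?_
  rw [map_mul, map_mul, h]
  refine LinearMap.ext fun v => ?_
  simp

/-- The twisted conjugate character: it agrees with `χ` where the `p`-part is central. -/
theorem exists_twist [ρ.IsIrreducible] (hinj : Function.Injective ρ) {p : ℕ} [hp : Fact p.Prime]
    (hnp : n + 1 < p) (hx : ∃ x : G, x ∉ Subgroup.center G ∧ ∃ i, x ^ p ^ i = 1) :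
    ∃ ψ : G → ℂ, IsIrrCharacter G ψ ∧ ψ ≠ ρ.character ∧
      ∃ u : ℕ, ∀ g : G, (∃ i, (g ^ u) ^ p ^ i = 1) ∧
        (g ^ u ∈ Subgroup.center G → ψ g = ρ.character g) := by
  classical
  have hG0 : Nat.card G ≠ 0 := Nat.card_pos.ne'
  set e := (Nat.card G).factorization p with he
  set m := Nat.card G / p ^ e with hm
  have hpm : p ^ e * m = Nat.card G := Nat.ordProj_mul_ordCompl_eq_self _ p
  have hpm' : ¬ p ∣ m := Nat.not_dvd_ordCompl hp.out hG0
  have hcop : Nat.Coprime (p ^ e) m := Nat.Coprime.pow_left _ (hp.out.coprime_iff_not_dvd.2 hpm')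
  have hn0 : 0 < n := by
    simpa using finrank_pos_of_irreducible ρ
  obtain ⟨j0, hj0⟩ := IsCyclic.exists_generator (α := (ZMod p)ˣ)
  have hj0o : orderOf j0 = p - 1 := by
    rw [orderOf_eq_card_of_forall_mem_zpowers hj0, Nat.card_eq_fintype_card, ZMod.card_units]
  set j := (j0 : ZMod p).val with hj
  have hjcast : ((j : ℕ) : ZMod p) = (j0 : ZMod p) := ZMod.natCast_zmod_val _
  have hjp : ¬ p ∣ j := fun h => j0.ne_zero (by
    rw [← hjcast]; exact (ZMod.natCast_eq_zero_iff _ _).2 h)
  obtain ⟨k, hk1, hk2⟩ := Nat.chineseRemainder hcop j 1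
  obtain ⟨u, hu1, hu2⟩ := Nat.chineseRemainder hcop 1 0
  obtain ⟨v, hv1, hv2⟩ := Nat.chineseRemainder hcop 0 1
  have hkcop : k.Coprime (Nat.card G) := by
    rw [← hpm]
    refine Nat.Coprime.mul_right (Nat.Coprime.pow_right _ ?_) ?_
    · rw [Nat.coprime_comm, hp.out.coprime_iff_not_dvd]
      intro h
      rcases Nat.eq_zero_or_pos e with he0 | he0
      · exact hx.elim fun x hx' => hx'.1 (by
          obtain ⟨i, hi⟩ := hx'.2
          have h1 := (orderOf_dvd_of_pow_eq_one hi)
          have h2 : orderOf x ∣ m := by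
            have := orderOf_dvd_natCard x
            rwa [← hpm, he0, pow_zero, one_mul] at this
          have h3 : orderOf x = 1 := Nat.eq_one_of_dvd_coprimes
            (Nat.Coprime.pow_left _ (hp.out.coprime_iff_not_dvd.2 hpm')) h1 h2
          rw [orderOf_eq_one_iff] at h3
          rw [h3]; exact one_mem _)
      · exact hjp ((Nat.ModEq.dvd_iff hk1 (dvd_pow_self p he0.ne')).1 h)
    · exact Nat.coprime_iff_gcd_eq_one.2 ((Nat.ModEq.gcd_eq hk2).trans (Nat.gcd_one_left m))
  -- the exponent of the determinant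
  have hnm : Nat.Coprime (n * m) (p ^ e) := by
    refine Nat.Coprime.pow_right _ (Nat.coprime_comm.1 (hp.out.coprime_iff_not_dvd.2 ?_))
    intro h
    rcases hp.out.dvd_mul.1 h with h | h
    · have := Nat.le_of_dvd hn0 h; omega
    · exact hpm' h
  set t := (((1 : ZMod (p ^ e)) - (j : ZMod (p ^ e))) *
    ((ZMod.unitOfCoprime (n * m) hnm)⁻¹ : (ZMod (p ^ e))ˣ)).val with ht
  have : NeZero (p ^ e) := ⟨pow_ne_zero _ hp.out.ne_zero⟩
  have hs : (j + n * (m * t)) ≡ 1 [MOD p ^ e] := by
    rw [← ZMod.natCast_eq_natCast_iff]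
    push_cast
    rw [← mul_assoc, ht, ZMod.natCast_zmod_val, mul_left_comm]
    have hu' : ((n : ZMod (p ^ e)) * (m : ZMod (p ^ e))) =
        (ZMod.unitOfCoprime (n * m) hnm : (ZMod (p ^ e))ˣ) := by
      rw [ZMod.coe_unitOfCoprime]; push_cast; rfl
    rw [hu']
    linear_combination ((1 : ZMod (p ^ e)) - (j : ZMod (p ^ e))) * Units.mul_inv (ZMod.unitOfCoprime (n * m) hnm)
  let η : G →* CharExtension.GU' n := MonoidHom.toHomUnits ρ
  let l : G →* ℂˣ := ((CharExtension.detU n).comp η)
  let L : G →* ℂˣ := l ^ (m * t)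
  let χ' : IrrCharacter G := ⟨ρ.character, ⟨n, ρ, inferInstance, rfl⟩⟩
  set ψ : G → ℂ := fun g => ρ.character (g ^ k) * (L g : ℂ) with hψ
  have hψirr : IsIrrCharacter G ψ :=
    isIrrCharacter_mul_linear (GaloisChar80.twist hkcop χ').2 L
  have hsplit : ∀ g : G, g ^ u * g ^ v = g := fun g => by
    rw [← pow_add]
    refine (pow_eq_pow_iff_modEq.2 ?_).trans (pow_one g)
    refine Nat.ModEq.of_dvd (orderOf_dvd_natCard g) ?_
    rw [← hpm, ← Nat.modEq_and_modEq_iff_modEq_mul hcop]
    exact ⟨by simpa using hu1.add hv1, by simpa using hu2.add hv2⟩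
  have hup : ∀ g : G, (g ^ u) ^ p ^ e = 1 := fun g => by
    rw [← pow_mul]
    refine orderOf_dvd_iff_pow_eq_one.1 ((orderOf_dvd_natCard g).trans ?_)
    rw [← hpm, mul_comm u]
    exact mul_dvd_mul dvd_rfl (Nat.modEq_zero_iff_dvd.1 hu2)
  have hvm : ∀ g : G, (g ^ v) ^ m = 1 := fun g => by
    rw [← pow_mul]
    refine orderOf_dvd_iff_pow_eq_one.1 ((orderOf_dvd_natCard g).trans ?_)
    rw [← hpm]
    exact mul_dvd_mul (Nat.modEq_zero_iff_dvd.1 hv1) dvd_rfl
  refine ⟨ψ, hψirr, ?_, u, fun g => ⟨⟨e, hup g⟩, fun hc => ?_⟩⟩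
  · -- `ψ ≠ χ`
    intro heq
    obtain ⟨x₀, hx₀, i₀, hi₀⟩ := hx
    have hex : ∃ i, x₀ ^ p ^ i ∈ Subgroup.center G := ⟨i₀, by rw [hi₀]; exact one_mem _⟩
    set i := Nat.find hex with hidef
    have hi : i ≠ 0 := fun h0 => hx₀ (by
      have := Nat.find_spec hex
      rwa [← hidef, h0, pow_zero, pow_one] at this)
    obtain ⟨i', hi'⟩ := Nat.exists_eq_succ_of_ne_zero hi
    set x := x₀ ^ p ^ i' with hxdef
    have hxc : x ∉ Subgroup.center G := Nat.find_min hex (by rw [← hidef, hi']; omega)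
    have hxp : x ^ p ∈ Subgroup.center G := by
      rw [hxdef, ← pow_mul, ← pow_succ, ← Nat.succ_eq_add_one, ← hi', hidef]
      exact Nat.find_spec hex
    have hxe : x ^ p ^ e = 1 := by
      refine orderOf_dvd_iff_pow_eq_one.1 ?_
      have h1 : orderOf x ∣ p ^ i₀ := (orderOf_pow_dvd _).trans (orderOf_dvd_of_pow_eq_one hi₀)
      obtain ⟨r, -, hr⟩ := (Nat.dvd_prime_pow hp.out).1 h1
      rw [hr]
      exact pow_dvd_pow p ((hp.out.pow_dvd_iff_le_factorization hG0).1 (hr ▸ orderOf_dvd_natCard x))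
    obtain ⟨b, μ, hμ, hμo, -, hpow⟩ := exists_rep_eigenbasis ρ x
    have hμe : ∀ i, μ i ^ p ^ e = 1 := fun i => by
      obtain ⟨c, hc⟩ := orderOf_dvd_of_pow_eq_one hxe
      rw [hc, pow_mul, hμo, one_pow]
    obtain ⟨w, hw⟩ := exists_scalar_of_mem_center ρ hxp
    have hiter : ∀ (r : ℕ) i, ρ (x ^ r) (b i) = μ i ^ r • b i := by
      intro r i
      induction r with
      | zero => simp
      | succ r ih =>
        rw [pow_succ', map_mul, Module.End.mul_apply, ih, map_smul, hμ, smul_smul, ← pow_succ]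
    have hμp : ∀ i, μ i ^ p = w := fun i => by
      have h1 := hiter p i
      rw [hw] at h1
      exact (smul_left_injective ℂ (b.ne_zero i) (show w • b i = μ i ^ p • b i by simpa using h1)).symm
    have hdim : Module.finrank ℂ (Fin n → ℂ) = n := Module.finrank_fin_fun ℂ
    set i₁ : Fin (Module.finrank ℂ (Fin n → ℂ)) := ⟨0, by rw [hdim]; exact hn0⟩
    have hμ0 : ∀ i, μ i ≠ 0 := fun i h0 => by
      have h1 := hμe i
      rw [h0, zero_pow (pow_ne_zero _ hp.out.ne_zero)] at h1
      exact zero_ne_one h1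
    obtain ⟨ζ, hζ⟩ : ∃ ζ : ℂ, IsPrimitiveRoot ζ p :=
      ⟨_, Complex.isPrimitiveRoot_exp p hp.out.ne_zero⟩
    have hratio : ∀ i, ∃ a : ZMod p, μ i = μ i₁ * ζ ^ a.val := by
      intro i
      obtain ⟨r, hr, hre⟩ := hζ.eq_pow_of_pow_eq_one
        (show (μ i / μ i₁) ^ p = 1 by
          rw [div_pow, hμp, hμp, div_self]
          rw [← hμp i₁]; exact pow_ne_zero _ (hμ0 i₁))
      refine ⟨(r : ZMod p), ?_⟩
      rw [ZMod.val_cast_of_lt hr, hre, mul_div_cancel₀ _ (hμ0 i₁)]
    choose a ha using hratio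
    have hζ1 : ζ ^ p = 1 := hζ.pow_eq_one
    have hzeta : ∀ r : ℕ, ζ ^ r = ζ ^ ((r : ZMod p)).val := fun r => by
      rw [ZMod.val_natCast, ← pow_mod_orderOf, ← hζ.eq_orderOf]
    have hdet : (l x : ℂ) = ∏ i, μ i := by
      show LinearMap.det (ρ x) = _
      rw [← LinearMap.det_toMatrix b]
      have : LinearMap.toMatrix b b (ρ x) = Matrix.diagonal μ := by
        ext r c
        rw [LinearMap.toMatrix_apply, hμ, map_smul, Module.Basis.repr_self, Finsupp.smul_apply,
          smul_eq_mul, Finsupp.single_apply, Matrix.diagonal_apply]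
        by_cases hrc : r = c
        · subst hrc; simp
        · rw [if_neg hrc, if_neg (Ne.symm hrc), mul_zero]
      rw [this, Matrix.det_diagonal]
    have hcardn : Fintype.card (Fin (Module.finrank ℂ (Fin n → ℂ))) = n := by simp
    set T : ℕ := m * t * ∑ i, (a i).val with hT
    have hval : ∑ i, ζ ^ (j * (a i).val + T) = ∑ i, ζ ^ (a i).val := by
      have h1 := congrFun heq x
      simp only [hψ] at h1
      rw [hpow k, show ρ.character x = ∑ i, μ i by simpa using hpow 1] at h1
      have hL : (L x : ℂ) = μ i₁ ^ (n * (m * t)) * ζ ^ T := by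
        show (((l x) ^ (m * t) : ℂˣ) : ℂ) = _
        rw [Units.val_pow_eq_pow_val, hdet, Finset.prod_congr rfl fun i _ => ha i,
          Finset.prod_mul_distrib, Finset.prod_const, Finset.card_univ, hcardn,
          Finset.prod_pow_eq_pow_sum, mul_pow, ← pow_mul, ← pow_mul, hT, mul_comm (∑ i, (a i).val)]
      have hk : ∀ i, μ i ^ k = μ i₁ ^ j * ζ ^ (j * (a i).val) := fun i => by
        rw [pow_eq_pow_mod k (hμe i), hk1, ← pow_eq_pow_mod j (hμe i), ha i, mul_pow, ← pow_mul,
          mul_comm j]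
      have h0 : μ i₁ ^ (j + n * (m * t)) = μ i₁ := by
        rw [pow_eq_pow_mod _ (hμe i₁), hs, ← pow_eq_pow_mod 1 (hμe i₁), pow_one]
      rw [hL, Finset.sum_congr rfl fun i _ => hk i, Finset.sum_mul,
        Finset.sum_congr rfl (fun i _ => ha i), ← Finset.mul_sum] at h1
      refine mul_left_cancel₀ (hμ0 i₁) (Eq.trans ?_ h1)
      rw [Finset.mul_sum]
      refine Finset.sum_congr rfl fun i _ => ?_
      nth_rw 1 [← h0]
      rw [pow_add (μ i₁), pow_add ζ]
      ring
    have hconst := const_of_sum_zeta hζ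
      (fun c => ((Finset.univ.filter (fun i => (j0 : ZMod p) * a i + (T : ZMod p) = c)).card : ℤ) -
        ((Finset.univ.filter (fun i => a i = c)).card : ℤ)) (by
      have e1 : ∀ f : Fin (Module.finrank ℂ (Fin n → ℂ)) → ZMod p,
          ∑ c : ZMod p, ((Finset.univ.filter (fun i => f i = c)).card : ℂ) * ζ ^ c.val =
            ∑ i, ζ ^ (f i).val := by
        intro f
        rw [← Finset.sum_fiberwise_of_maps_to (t := Finset.univ) (g := f)
          (fun i _ => Finset.mem_univ _)]
        refine Finset.sum_congr rfl fun c _ => ?_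
        rw [Finset.sum_congr rfl (fun i hi => by rw [(Finset.mem_filter.1 hi).2]), Finset.sum_const,
          nsmul_eq_mul]
      simp only [Int.cast_sub, Int.cast_natCast, sub_mul, Finset.sum_sub_distrib, e1, sub_eq_zero]
      rw [← hval]
      refine Finset.sum_congr rfl fun i _ => ?_
      conv_rhs => rw [hzeta, Nat.cast_add, Nat.cast_mul, hjcast, ZMod.natCast_zmod_val])
    have hstable := eq_of_affine_stable (by rw [Fintype.card_fin, hdim]; omega) j0 hj0o (T : ZMod p)
      a (by
        intro c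
        have hsum : ∑ d : ZMod p,
            (((Finset.univ.filter (fun i => (j0 : ZMod p) * a i + (T : ZMod p) = d)).card : ℤ) -
              ((Finset.univ.filter (fun i => a i = d)).card : ℤ)) = 0 := by
          rw [Finset.sum_sub_distrib, ← Nat.cast_sum, ← Nat.cast_sum,
            ← Finset.card_eq_sum_card_fiberwise (fun i _ => Finset.mem_univ _),
            ← Finset.card_eq_sum_card_fiberwise (fun i _ => Finset.mem_univ _), sub_self]
        rw [Finset.sum_congr rfl (fun d _ => hconst d c), Finset.sum_const, Finset.card_univ,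
          ZMod.card, nsmul_eq_mul, mul_eq_zero] at hsum
        rcases hsum with h' | h'
        · exact absurd (Nat.cast_eq_zero.1 h') hp.out.ne_zero
        · exact_mod_cast sub_eq_zero.1 h')
    refine hxc (mem_center_of_scalar ρ hinj (w := μ i₁ * ζ ^ (a i₁).val) (b.ext fun i => ?_))
    rw [hμ, LinearMap.smul_apply, LinearMap.id_apply, ha i, hstable i i₁]
  · -- agreement
    obtain ⟨w, hw⟩ := exists_scalar_of_mem_center ρ hc
    obtain ⟨i₁, -⟩ : ∃ i₁ : Fin n, True := ⟨⟨0, hn0⟩, trivial⟩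
    have hwpow : ∀ r : ℕ, ρ ((g ^ u) ^ r) = (w ^ r) • LinearMap.id := by
      intro r
      induction r with
      | zero => simp; rfl
      | succ r ih =>
        rw [pow_succ, map_mul, ih, hw]
        refine LinearMap.ext fun v => ?_
        simp [pow_succ, smul_smul, mul_comm]
    have hwe : w ^ p ^ e = 1 := by
      have h1 := hwpow (p ^ e)
      rw [hup, map_one] at h1
      have := congrFun (DFunLike.congr_fun h1 (fun _ => (1 : ℂ))) i₁
      simpa using this.symm
    have htr : ∀ (r : ℕ) (h : G), ρ.character ((g ^ u) ^ r * h) = w ^ r * ρ.character h := by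
      intro r h
      show LinearMap.trace ℂ _ (ρ _) = _
      rw [map_mul, hwpow]
      show LinearMap.trace ℂ _ ((w ^ r • LinearMap.id).comp (ρ h)) = _
      rw [LinearMap.smul_comp, LinearMap.id_comp, map_smul, smul_eq_mul]
      rfl
    have hgk : g ^ k = (g ^ u) ^ j * g ^ v := by
      conv_lhs => rw [← hsplit g]
      rw [(Commute.pow_pow_self g u v).mul_pow, pow_eq_pow_mod k (hup g), hk1,
        ← pow_eq_pow_mod j (hup g)]
      congr 1
      rw [pow_eq_pow_mod k (hvm g), hk2, ← pow_eq_pow_mod 1 (hvm g), pow_one]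
    have hgv : g = (g ^ u) ^ 1 * g ^ v := by rw [pow_one, hsplit]
    have hL : (L g : ℂ) = w ^ (n * (m * t)) := by
      show (((l g) ^ (m * t) : ℂˣ) : ℂ) = _
      conv_lhs => rw [← hsplit g]
      rw [map_mul, mul_pow, ← map_pow l (g ^ v), pow_mul (g ^ v), hvm, one_pow, map_one, mul_one,
        Units.val_pow_eq_pow_val, pow_mul w]
      congr 1
      show LinearMap.det (ρ (g ^ u)) = _
      rw [hw, LinearMap.det_smul, LinearMap.det_id, mul_one, hdimn]
    show ρ.character (g ^ k) * (L g : ℂ) = ρ.character g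
    rw [hgk, htr, hL]
    conv_rhs => rw [hgv, htr]
    rw [mul_right_comm, ← pow_add, pow_eq_pow_mod _ hwe, hs, ← pow_eq_pow_mod 1 hwe]
where
  hdimn {n : ℕ} : Module.finrank ℂ (Fin n → ℂ) = n := Module.finrank_fin_fun ℂ

/-- Two primes with non-central elements give commuting non-central elements. -/
theorem exists_pair [ρ.IsIrreducible] (hinj : Function.Injective ρ) {p q : ℕ} [Fact p.Prime]
    [Fact q.Prime] (hnp : n + 1 < p) (hnq : n + 1 < q)
    (hx : ∃ x : G, x ∉ Subgroup.center G ∧ ∃ i, x ^ p ^ i = 1)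
    (hy : ∃ y : G, y ∉ Subgroup.center G ∧ ∃ i, y ^ q ^ i = 1) :
    ∃ a b : G, Commute a b ∧ a ∉ Subgroup.center G ∧ b ∉ Subgroup.center G ∧
      (∃ i, a ^ p ^ i = 1) ∧ ∃ i, b ^ q ^ i = 1 := by
  classical
  obtain ⟨ψ, hψ, hψne, u, hu⟩ := exists_twist ρ hinj hnp hx
  obtain ⟨φ, hφ, hφne, v, hv⟩ := exists_twist ρ hinj hnq hy
  by_contra hno
  push Not at hno
  set χ := ρ.character with hχdef
  have hχ : IsIrrCharacter G χ := ⟨n, ρ, inferInstance, rfl⟩
  have hz : ∀ g, (χ g - ψ g) * conj (χ g - φ g) = 0 := by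
    intro g
    by_cases h1 : g ^ u ∈ Subgroup.center G
    · rw [(hu g).2 h1, sub_self, zero_mul]
    · by_cases h2 : g ^ v ∈ Subgroup.center G
      · rw [(hv g).2 h2, sub_self, map_zero, mul_zero]
      · obtain ⟨i, hi⟩ := (hu g).1
        obtain ⟨i', hi'⟩ := (hv g).1
        exact absurd hi' (hno _ _ (Commute.pow_pow_self g u v) h1 h2 ⟨i, hi⟩ i')
  have h0 : classInner (χ - ψ) (χ - φ) = 0 := by
    simp only [classInner, Pi.sub_apply, hz, Finset.sum_const_zero, mul_zero]
  obtain ⟨c, hc⟩ := CharBasicOrth.classInner_isCharacter (isCharacter_of_isIrrCharacter hψ)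
    (isCharacter_of_isIrrCharacter hφ)
  simp only [CharInduced.inner_sub_left, CharInduced.inner_sub_right, classInner_irr_self hχ,
    classInner_irr_ne hχ hφ hφne.symm, classInner_irr_ne hψ hχ hψne, hc] at h0
  have : ((1 + c : ℕ) : ℂ) = 0 := by push_cast; linear_combination h0
  have := Nat.cast_eq_zero.1 this
  omega

end Cfsg.Agent.LinearHallAbelian
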