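import Mathlib

set_option autoImplicit false
set_option linter.all false

namespace Cfsg.Agent.LinearPGroupDL73

open Module
open scoped commutatorElement

variable {K : Type*} [Field K] {P : Type*} [Group P] {V : Type*} [AddCommGroup V] [Module K V]

def subRep (ρ : P →* End K V) (U : Submodule K V) (hU : ∀ g, ∀ x ∈ U, ρ g x ∈ U) :
    P →* End K U where
  toFun g := (ρ g).restrict (hU g)
  map_one' := LinearMap.ext fun x => Subtype.ext (by simp)
  map_mul' a b := LinearMap.ext fun x => Subtype.ext (by simp)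

def quotRep (ρ : P →* End K V) (U : Submodule K V) (hU : ∀ g, ∀ x ∈ U, ρ g x ∈ U) :
    P →* End K (V ⧸ U) where
  toFun g := U.mapQ U (ρ g) (fun x hx => hU g x hx)
  map_one' := Submodule.linearMap_qext _ (LinearMap.ext fun x => by simp)
  map_mul' a b := Submodule.linearMap_qext _ (LinearMap.ext fun x => by simp)

theorem rep_inv_apply (ρ : P →* End K V) (g : P) (v : V) : ρ g⁻¹ (ρ g v) = v := by
  rw [← Module.End.mul_apply, ← map_mul, inv_mul_cancel, map_one, Module.End.one_apply]

theorem rep_injective (ρ : P →* End K V) (g : P) : Function.Injective (ρ g) :=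
  Function.LeftInverse.injective (rep_inv_apply ρ g)

theorem rep_eq_one_of_layers [Finite P] {p : ℕ} [Fact p.Prime] (hP : IsPGroup p P)
    (hchar : (p : K) ≠ 0) (ρ : P →* End K V) (U : Submodule K V) (g : P)
    (h1 : ∀ x ∈ U, ρ g x = x) (h2 : ∀ x, ρ g x - x ∈ U) : ρ g = 1 := by
  obtain ⟨k, hk⟩ := IsPGroup.iff_orderOf.mp hP g
  have hpow : ∀ (N : ℕ) (x : V), ρ (g ^ N) x = x + (N : K) • (ρ g x - x) := by
    intro N
    induction N with
    | zero => intro x; simp
    | succ N ih =>
      intro x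
      rw [pow_succ', map_mul, Module.End.mul_apply, ih, map_add, map_smul, h1 _ (h2 x), Nat.cast_succ,
        add_smul, one_smul]
      abel
  refine LinearMap.ext fun x => ?_
  have h := hpow (orderOf g) x
  rw [pow_orderOf_eq_one, map_one, Module.End.one_apply, hk, left_eq_add, smul_eq_zero] at h
  rcases h with h | h
  · exact absurd h (by push_cast; exact pow_ne_zero _ hchar)
  · exact sub_eq_zero.mp h

theorem exists_weight [Finite P] {p : ℕ} [Fact p.Prime] (hP : IsPGroup p P) [IsAlgClosed K]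
    [FiniteDimensional K V] [Nontrivial V] (ρ : P →* End K V)
    (hirr : ∀ U : Submodule K V, (∀ g, ∀ x ∈ U, ρ g x ∈ U) → U = ⊥ ∨ U = ⊤)
    (hab : ¬ ∀ g h, ρ g * ρ h = ρ h * ρ g) :
    ∃ (a : P) (l : P →* K), (∀ g v, ρ g (ρ a v) = l g • ρ a (ρ g v)) ∧ ∃ g, l g ≠ 1 := by
  classical
  let C : Subgroup P :=
  { carrier := {c | ∀ h, ρ c * ρ h = ρ h * ρ c}
    one_mem' := by simp
    mul_mem' := fun {a b} ha hb h => by
      rw [map_mul, mul_assoc, hb h, ← mul_assoc, ha h, mul_assoc]
    inv_mem' := fun {a} ha h => by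
      have h1 : ρ a⁻¹ * ρ a = 1 := by rw [← map_mul, inv_mul_cancel, map_one]
      have h2 : ρ a * ρ a⁻¹ = 1 := by rw [← map_mul, mul_inv_cancel, map_one]
      calc ρ a⁻¹ * ρ h = ρ a⁻¹ * (ρ h * ρ a) * ρ a⁻¹ := by rw [mul_assoc, mul_assoc, h2, mul_one]
        _ = ρ a⁻¹ * (ρ a * ρ h) * ρ a⁻¹ := by rw [ha h]
        _ = ρ h * ρ a⁻¹ := by rw [← mul_assoc, h1, one_mul] }
  haveI hCn : C.Normal := ⟨fun c hc g h => by
    have : ρ (g * c * g⁻¹) = ρ c := by
      rw [map_mul, map_mul, ← hc g, mul_assoc, ← map_mul, mul_inv_cancel, map_one, mul_one]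
    rw [this]; exact hc h⟩
  have hC : C ≠ ⊤ := fun hC => hab fun g h => (hC ▸ Subgroup.mem_top g : g ∈ C) h
  haveI : Nontrivial (P ⧸ C) := by
    rw [← not_subsingleton_iff_nontrivial]
    exact fun hs => hC ((QuotientGroup.subsingleton_iff).mp hs)
  haveI := (hP.to_quotient C).center_nontrivial
  obtain ⟨⟨z, hz⟩, hz1⟩ := exists_ne (1 : Subgroup.center (P ⧸ C))
  obtain ⟨a, rfl⟩ := QuotientGroup.mk_surjective z
  have haC : a ∉ C := fun h => hz1 (Subtype.ext ((QuotientGroup.eq_one_iff a).mpr h))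
  have hcomm : ∀ g, g * a * g⁻¹ * a⁻¹ ∈ C := by
    intro g
    refine (QuotientGroup.eq_one_iff _).mp ?_
    rw [QuotientGroup.mk_mul, QuotientGroup.mk_mul, QuotientGroup.mk_mul, QuotientGroup.mk_inv,
      QuotientGroup.mk_inv, Subgroup.mem_center_iff.mp hz (g : P ⧸ C)]
    group
  have hscal : ∀ c ∈ C, ∃ t : K, ∀ v, ρ c v = t • v := by
    intro c hc
    obtain ⟨t, ht⟩ := Module.End.exists_eigenvalue (ρ c)
    refine ⟨t, fun v => ?_⟩
    rcases hirr (Module.End.eigenspace (ρ c) t) (fun g x hx => by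
      rw [Module.End.mem_eigenspace_iff] at hx ⊢
      rw [← Module.End.mul_apply, hc g, Module.End.mul_apply, hx, map_smul]) with h | h
    · exact absurd h ht
    · exact Module.End.mem_eigenspace_iff.mp (h ▸ Submodule.mem_top)
  choose t ht using fun g => hscal _ (hcomm g)
  have hrel : ∀ g v, ρ g (ρ a v) = t g • ρ a (ρ g v) := by
    intro g v
    rw [← ht g, ← Module.End.mul_apply, ← Module.End.mul_apply, ← Module.End.mul_apply, ← map_mul,
      ← map_mul, ← map_mul]
    congr 2
    group
  obtain ⟨w, hw⟩ := exists_ne (0 : V)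
  have hne : ∀ g, ρ a (ρ g w) ≠ 0 := fun g h =>
    hw ((rep_injective ρ g) ((rep_injective ρ a) (h.trans (map_zero _).symm) |>.trans (map_zero _).symm))
  have huniq : ∀ g (c : K), ρ g (ρ a w) = c • ρ a (ρ g w) → t g = c := by
    intro g c h
    rw [hrel g w] at h
    exact smul_left_injective K (hne g) h
  let l : P →* K :=
  { toFun := t
    map_one' := huniq 1 1 (by simp)
    map_mul' := fun g h => huniq (g * h) (t g * t h) (by
      rw [map_mul, Module.End.mul_apply, hrel h w, map_smul, hrel g, smul_smul, Module.End.mul_apply,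
        mul_comm]) }
  refine ⟨a, l, hrel, ?_⟩
  by_contra! hall
  apply haC
  intro g
  refine LinearMap.ext fun v => ?_
  have := hrel g v
  rw [show t g = l g from rfl, hall g, one_smul] at this
  exact this.symm

theorem derived_map_succ (M : Subgroup P) (hM : derivedSeries P 1 ≤ M) :
    ∀ k, derivedSeries P (k + 1) ≤ (derivedSeries ↥M k).map M.subtype := by
  intro k
  induction k with
  | zero => intro x hx; exact ⟨⟨x, hM hx⟩, Subgroup.mem_top _, rfl⟩
  | succ k ih =>
    rw [derivedSeries_succ (G := P) (k + 1), derivedSeries_succ (G := ↥M) k, Subgroup.map_commutator]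
    exact Subgroup.commutator_mono ih ih

universe u v

theorem derived_acts_trivial {p : ℕ} [Fact p.Prime] {K : Type*} [Field K] [IsAlgClosed K]
    (hchar : (p : K) ≠ 0) (n : ℕ) :
    ∀ (P : Type u) [Group P] [Finite P], IsPGroup p P →
      ∀ (V : Type v) [AddCommGroup V] [Module K V] [FiniteDimensional K V] (ρ : P →* End K V),
        finrank K V ≤ n → ∀ g ∈ derivedSeries P (Nat.log 2 n + 1), ρ g = 1 := by
  induction n using Nat.strong_induction_on with
  | _ n IH =>
  intro P _ _ hP V _ _ _ ρ hdim g hg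
  rcases subsingleton_or_nontrivial V with hV | hV
  · exact LinearMap.ext fun x => Subsingleton.elim _ _
  have hn : 0 < n := lt_of_lt_of_le finrank_pos hdim
  by_cases hirr : ∀ U : Submodule K V, (∀ g, ∀ x ∈ U, ρ g x ∈ U) → U = ⊥ ∨ U = ⊤
  swap
  · push Not at hirr
    obtain ⟨U, hU, hU0, hU1⟩ := hirr
    have hUlt : finrank K U < n := lt_of_lt_of_le (Submodule.finrank_lt hU1) hdim
    have hsum := Submodule.finrank_quotient_add_finrank U
    have hUpos : 0 < finrank K U := by
      rw [Nat.pos_iff_ne_zero, Ne, Submodule.finrank_eq_zero]; exact hU0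
    have hQlt : finrank K (V ⧸ U) < n := by omega
    refine rep_eq_one_of_layers hP hchar ρ U g (fun x hx => ?_) (fun x => ?_)
    · have h := IH _ hUlt P hP U (subRep ρ U hU) le_rfl g
        (derivedSeries_antitone _ (by gcongr) hg)
      exact congrArg Subtype.val (LinearMap.congr_fun h ⟨x, hx⟩)
    · have h := IH _ hQlt P hP (V ⧸ U) (quotRep ρ U hU) le_rfl g
        (derivedSeries_antitone _ (by gcongr) hg)
      have := LinearMap.congr_fun h (Submodule.Quotient.mk x)
      exact (Submodule.Quotient.eq U).mp this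
  by_cases hab : ∀ g h, ρ g * ρ h = ρ h * ρ g
  · have hle : derivedSeries P 1 ≤ ρ.ker := by
      rw [derivedSeries_one, commutator_def, Subgroup.commutator_le]
      intro a _ b _
      rw [MonoidHom.mem_ker, commutatorElement_def, map_mul, map_mul, hab (a * b),
        ← map_mul, ← map_mul]
      have : a⁻¹ * (a * b) = b := by group
      rw [this, mul_inv_cancel, map_one]
    exact hle (derivedSeries_antitone _ (by omega) hg)
  obtain ⟨a, l, hl, g0, hg0⟩ := exists_weight hP ρ hirr hab
  have hl0 : ∀ h, l h ≠ 0 := fun h h0 => by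
    have := map_mul l h h⁻¹
    rw [mul_inv_cancel, map_one, h0, zero_mul] at this
    exact one_ne_zero this
  have hmap : ∀ h μ, ∀ v ∈ End.eigenspace (ρ a) μ, ρ h v ∈ End.eigenspace (ρ a) ((l h)⁻¹ * μ) := by
    intro h μ v hv
    rw [End.mem_eigenspace_iff] at hv ⊢
    have := hl h v
    rw [hv, map_smul] at this
    rw [← smul_smul, this, inv_smul_smul₀ (hl0 h)]
  have hhalf : ∀ μ, finrank K (End.eigenspace (ρ a) μ) ≤ n / 2 := by
    intro μ
    by_cases hμ : μ = 0
    · have : End.eigenspace (ρ a) μ = ⊥ := by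
        rw [Submodule.eq_bot_iff]
        intro v hv
        rw [End.mem_eigenspace_iff, hμ, zero_smul] at hv
        exact rep_injective ρ a (hv.trans (map_zero _).symm)
      rw [this, finrank_bot]; omega
    · set E := End.eigenspace (ρ a) μ
      set E' := End.eigenspace (ρ a) ((l g0)⁻¹ * μ)
      have hle : E.map (ρ g0) ≤ E' := Submodule.map_le_iff_le_comap.mpr (hmap g0 μ)
      have h1 : finrank K E ≤ finrank K E' := by
        calc finrank K E = finrank K (E.map (ρ g0)) :=
              (Submodule.equivMapOfInjective _ (rep_injective ρ g0) E).finrank_eq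
          _ ≤ _ := Submodule.finrank_mono hle
      have hne : μ ≠ (l g0)⁻¹ * μ := by
        intro h
        exact hg0 (inv_eq_one.mp ((mul_eq_right₀ hμ).mp h.symm))
      have hd : E ⊓ E' = ⊥ := by
        rw [Submodule.eq_bot_iff]
        rintro v ⟨hv, hv'⟩
        have := (End.mem_eigenspace_iff.mp hv).symm.trans (End.mem_eigenspace_iff.mp hv')
        rw [← sub_eq_zero, ← sub_smul, smul_eq_zero] at this
        exact this.resolve_left (sub_ne_zero.mpr hne)
      have h2 := Submodule.finrank_sup_add_finrank_inf_eq E E'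
      rw [hd, finrank_bot] at h2
      have h3 : finrank K (E ⊔ E' : Submodule K V) ≤ n := (Submodule.finrank_le _).trans hdim
      omega
  have hn2 : 2 ≤ n := by
    by_contra hlt
    obtain ⟨μ, hμ⟩ := End.exists_eigenvalue (ρ a)
    have := hhalf μ
    exact hμ (Submodule.finrank_eq_zero.mp (Nat.le_zero.mp (this.trans (by omega))))
  let M : Subgroup P := l.ker
  have hM : derivedSeries P 1 ≤ M := by
    rw [derivedSeries_one, commutator_def, Subgroup.commutator_le]
    intro x _ y _
    show l ⁅x, y⁆ = 1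
    rw [commutatorElement_def, map_mul, map_mul, map_mul, mul_comm (l x), mul_assoc (l y),
      ← map_mul l x, mul_inv_cancel, map_one, mul_one, ← map_mul, mul_inv_cancel, map_one]
  obtain ⟨m, hm, rfl⟩ := derived_map_succ M hM _ hg
  have hlog : Nat.log 2 n = Nat.log 2 (n / 2) + 1 := Nat.log_of_one_lt_of_le (by norm_num) hn2
  rw [hlog] at hm
  have heig : ∀ μ, ∀ v ∈ End.eigenspace (ρ a) μ, ρ (m : P) v = v := by
    intro μ v hv
    have hinv : ∀ h : M, ∀ x ∈ End.eigenspace (ρ a) μ, (ρ.comp M.subtype) h x ∈ End.eigenspace (ρ a) μ := by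
      intro h x hx
      have := hmap h.1 μ x hx
      rwa [show l h.1 = 1 from h.2, inv_one, one_mul] at this
    have h := IH (n / 2) (by omega) M (hP.to_subgroup M) _ (subRep (ρ.comp M.subtype) _ hinv)
      (hhalf μ) m hm
    exact congrArg Subtype.val (LinearMap.congr_fun h ⟨v, hv⟩)
  have htop : (⨆ μ, End.eigenspace (ρ a) μ) = ⊤ := by
    refine (hirr _ ?_).resolve_left ?_
    · intro h x hx
      induction hx using Submodule.iSup_induction' with
      | mem μ x hx => exact Submodule.mem_iSup_of_mem _ (hmap h μ x hx)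
      | zero => simp
      | add x y _ _ ihx ihy => rw [map_add]; exact Submodule.add_mem _ ihx ihy
    · intro hb
      obtain ⟨μ, hμ⟩ := End.exists_eigenvalue (ρ a)
      exact hμ (le_bot_iff.mp (hb ▸ le_iSup (fun μ => End.eigenspace (ρ a) μ) μ))
  refine LinearMap.ext fun x => ?_
  have hx : x ∈ ⨆ μ, End.eigenspace (ρ a) μ := htop ▸ Submodule.mem_top
  induction hx using Submodule.iSup_induction' with
  | mem μ x hx => exact heig μ x hx
  | zero => simp
  | add x y _ _ ihx ihy => rw [map_add, ihx, ihy]; simp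

theorem exists_fixed_vector [Finite P] {p : ℕ} [Fact p.Prime] (hP : IsPGroup p P) [CharP K p]
    [Nontrivial V] (ρ : P →* End K V) : ∃ v : V, v ≠ 0 ∧ ∀ g, ρ g v = v := by
  classical
  haveI := Fintype.ofFinite P
  obtain ⟨v, hv⟩ := exists_ne (0 : V)
  let c := ZMod.castHom (dvd_refl p) K
  let φ : (P → ZMod p) →+ V :=
    AddMonoidHom.mk' (fun f => ∑ g, c (f g) • ρ g v)
      (fun f f' => by simp [add_smul, Finset.sum_add_distrib])
  have hinv : ∀ (h : P), ∀ x ∈ φ.range, ρ h x ∈ φ.range := by
    rintro h x ⟨f, rfl⟩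
    refine ⟨fun g => f (h⁻¹ * g), ?_⟩
    show ∑ g, c (f (h⁻¹ * g)) • ρ g v = ρ h (∑ g, c (f g) • ρ g v)
    rw [map_sum]
    refine Fintype.sum_equiv (Equiv.mulLeft h⁻¹) _ _ fun g => ?_
    rw [map_smul, ← Module.End.mul_apply, ← map_mul, Equiv.coe_mulLeft, mul_inv_cancel_left]
  letI : MulAction P φ.range :=
  { smul := fun h x => ⟨ρ h x.1, hinv h x.1 x.2⟩
    one_smul := fun x => Subtype.ext (by show ρ 1 x.1 = x.1; simp)
    mul_smul := fun g h x => Subtype.ext (by show ρ (g * h) x.1 = ρ g (ρ h x.1); simp) }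
  have hmem : v ∈ φ.range := by
    refine ⟨Pi.single 1 1, ?_⟩
    show ∑ g, c ((Pi.single 1 1 : P → ZMod p) g) • ρ g v = v
    rw [Finset.sum_eq_single 1]
    · simp [c]
    · intro g _ hg; simp [Pi.single_eq_of_ne hg]
    · simp
  haveI : Finite φ.range := Set.Finite.to_subtype (Set.finite_range φ)
  haveI : Nontrivial φ.range := ⟨⟨⟨v, hmem⟩, 0, fun h => hv (congrArg Subtype.val h)⟩⟩
  have hdvd : p ∣ Nat.card φ.range := by
    have h1 : Nat.card φ.range ∣ p ^ Fintype.card P := by
      have := AddSubgroup.card_range_dvd φ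
      simpa [Nat.card_eq_fintype_card] using this
    obtain ⟨k, _, hk⟩ := (Nat.dvd_prime_pow Fact.out).mp h1
    have hk0 : k ≠ 0 := by
      rintro rfl
      have := (Finite.one_lt_card : 1 < Nat.card φ.range)
      rw [pow_zero] at hk
      omega
    exact hk ▸ dvd_pow_self p hk0
  obtain ⟨b, hb, hb0⟩ := hP.exists_fixed_point_of_prime_dvd_card_of_fixed_point φ.range hdvd
    (a := 0) (fun g => Subtype.ext (map_zero _))
  exact ⟨b.1, fun h => hb0 (Subtype.ext h.symm), fun g => congrArg Subtype.val (hb g)⟩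

noncomputable def fixChain (ρ : P →* End K V) : ℕ → Submodule K V
  | 0 => ⊥
  | i + 1 => ⨅ g : P, Submodule.comap (ρ g - 1) (fixChain ρ i)

theorem mem_fixChain_succ (ρ : P →* End K V) (i : ℕ) (x : V) :
    x ∈ fixChain ρ (i + 1) ↔ ∀ g, ρ g x - x ∈ fixChain ρ i := by
  simp [fixChain]

theorem fixChain_le (ρ : P →* End K V) : ∀ i, fixChain ρ i ≤ fixChain ρ (i + 1) := by
  intro i
  induction i with
  | zero => exact bot_le
  | succ i ih =>
    intro x hx
    rw [mem_fixChain_succ] at hx ⊢
    exact fun g => ih (hx g)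

theorem unipotent_bound [Finite P] {p : ℕ} [Fact p.Prime] (hP : IsPGroup p P) [CharP K p]
    [FiniteDimensional K V] (ρ : P →* End K V) :
    fixChain ρ (finrank K V) = ⊤ := by
  have key : ∀ i, fixChain ρ i = ⊤ ∨ i ≤ finrank K (fixChain ρ i) := by
    intro i
    induction i with
    | zero => right; simp
    | succ i ih =>
      rcases ih with h | h
      · left; exact le_antisymm le_top (h ▸ fixChain_le ρ i)
      by_cases htop : fixChain ρ (i + 1) = ⊤
      · left; exact htop
      right
      have hU : fixChain ρ i ≠ ⊤ := fun hh => htop (le_antisymm le_top (hh ▸ fixChain_le ρ i))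
      have hinv : ∀ g, ∀ x ∈ fixChain ρ i, ρ g x ∈ fixChain ρ i := by
        intro g x hx
        have := (mem_fixChain_succ ρ i x).mp (fixChain_le ρ i hx) g
        simpa using Submodule.add_mem _ this hx
      haveI : Nontrivial (V ⧸ fixChain ρ i) := Submodule.Quotient.nontrivial_iff.mpr hU
      obtain ⟨w, hw0, hw⟩ := exists_fixed_vector hP (quotRep ρ _ hinv)
      obtain ⟨x, rfl⟩ := Submodule.Quotient.mk_surjective _ w
      have hx : x ∈ fixChain ρ (i + 1) := (mem_fixChain_succ ρ i x).mpr fun g =>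
        (Submodule.Quotient.eq _).mp (hw g)
      have hlt : fixChain ρ i < fixChain ρ (i + 1) :=
        lt_of_le_of_ne (fixChain_le ρ i) fun he => hw0 ((Submodule.Quotient.mk_eq_zero _).mpr (he ▸ hx))
      have := Submodule.finrank_lt_finrank_of_lt hlt
      omega
  rcases key (finrank K V) with h | h
  · exact h
  · exact Submodule.eq_top_of_finrank_eq (le_antisymm (Submodule.finrank_le _) h)

theorem derived_trivial_of_charP [Finite P] {p : ℕ} [Fact p.Prime] (hP : IsPGroup p P) [CharP K p]
    [FiniteDimensional K V] (ρ : P →* End K V) (m : ℕ) (hm : finrank K V ≤ 2 ^ m)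
    (g : P) (hg : g ∈ derivedSeries P m) : ρ g = 1 := by
  let J : Submodule K (End K V) := Submodule.span K (Set.range fun g => ρ g - 1)
  have hJJ : J * J ≤ J := by
    rw [Submodule.span_mul_span, Submodule.span_le]
    rintro _ ⟨_, ⟨a, rfl⟩, _, ⟨b, rfl⟩, rfl⟩
    have : (ρ a - 1) * (ρ b - 1) = (ρ (a * b) - 1) - (ρ a - 1) - (ρ b - 1) := by
      rw [map_mul]; noncomm_ring
    show (ρ a - 1) * (ρ b - 1) ∈ J
    rw [this]
    exact sub_mem (sub_mem (Submodule.subset_span ⟨_, rfl⟩) (Submodule.subset_span ⟨_, rfl⟩))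
      (Submodule.subset_span ⟨_, rfl⟩)
  have hpowle : ∀ a, 1 ≤ a → J ^ a * J ≤ J ^ a := by
    intro a ha
    obtain ⟨b, rfl⟩ : ∃ b, a = b + 1 := ⟨a - 1, by omega⟩
    rw [pow_succ, mul_assoc]
    exact mul_le_mul' le_rfl hJJ
  have hright : ∀ a, 1 ≤ a → ∀ f ∈ J ^ a, ∀ h, f * ρ h ∈ J ^ a := by
    intro a ha f hf h
    have : f * ρ h = f * (ρ h - 1) + f := by noncomm_ring
    rw [this]
    exact add_mem (hpowle a ha (Submodule.mul_mem_mul hf (Submodule.subset_span ⟨h, rfl⟩))) hf
  have hkill : ∀ a i, ∀ f ∈ J ^ a, ∀ x ∈ fixChain ρ (i + a), f x ∈ fixChain ρ i := by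
    intro a
    induction a with
    | zero =>
      intro i f hf x hx
      rw [pow_zero, Submodule.mem_one] at hf
      obtain ⟨c, rfl⟩ := hf
      simpa [Algebra.algebraMap_eq_smul_one] using Submodule.smul_mem _ c hx
    | succ a ih =>
      intro i f hf x hx
      rw [pow_succ] at hf
      refine Submodule.mul_induction_on hf (fun u hu w hw => ?_) (fun u w ihu ihw => ?_)
      · refine ih i u hu _ ?_
        induction hw using Submodule.span_induction with
        | mem z hz =>
          obtain ⟨h, rfl⟩ := hz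
          exact (mem_fixChain_succ ρ (i + a) x).mp hx h
        | zero => simp
        | add y z _ _ ihy ihz => simpa using Submodule.add_mem _ ihy ihz
        | smul c y _ ihy => simpa using Submodule.smul_mem _ c ihy
      · simpa using Submodule.add_mem _ ihu ihw
  have hder : ∀ k, ∀ h ∈ derivedSeries P k, ρ h - 1 ∈ J ^ (2 ^ k) := by
    intro k
    induction k with
    | zero => intro h _; rw [pow_zero, pow_one]; exact Submodule.subset_span ⟨h, rfl⟩
    | succ k ih =>
      have ha : 1 ≤ 2 ^ (k + 1) := Nat.one_le_two_pow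
      let S : Subgroup P :=
      { carrier := {h | ρ h - 1 ∈ J ^ (2 ^ (k + 1))}
        one_mem' := by simp
        mul_mem' := fun {x y} hx hy => by
          have : ρ (x * y) - 1 = (ρ x - 1) * ρ y + (ρ y - 1) := by rw [map_mul]; noncomm_ring
          show ρ (x * y) - 1 ∈ J ^ (2 ^ (k + 1))
          rw [this]; exact add_mem (hright _ ha _ hx y) hy
        inv_mem' := fun {x} hx => by
          have : ρ x⁻¹ - 1 = -((ρ x - 1) * ρ x⁻¹) := by
            rw [sub_mul, ← map_mul, mul_inv_cancel, map_one, one_mul]; abel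
          show ρ x⁻¹ - 1 ∈ J ^ (2 ^ (k + 1))
          rw [this]; exact neg_mem (hright _ ha _ hx _) }
      intro h hh
      refine (?_ : derivedSeries P (k + 1) ≤ S) hh
      rw [derivedSeries_succ, Subgroup.commutator_le]
      intro x hx y hy
      have e : ρ ⁅x, y⁆ - 1 =
          ((ρ x - 1) * (ρ y - 1) - (ρ y - 1) * (ρ x - 1)) * ρ (x⁻¹ * y⁻¹) := by
        have e1 : (ρ x - 1) * (ρ y - 1) - (ρ y - 1) * (ρ x - 1) = ρ (x * y) - ρ (y * x) := by
          rw [map_mul, map_mul]; noncomm_ring
        rw [e1, sub_mul, ← map_mul, ← map_mul, commutatorElement_def,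
          show y * x * (x⁻¹ * y⁻¹) = 1 by group, map_one, ← mul_assoc]
      show ρ ⁅x, y⁆ - 1 ∈ J ^ (2 ^ (k + 1))
      rw [e]
      refine hright _ ha _ (sub_mem ?_ ?_) _
      · rw [pow_succ', two_mul, pow_add]; exact Submodule.mul_mem_mul (ih x hx) (ih y hy)
      · rw [pow_succ', two_mul, pow_add]; exact Submodule.mul_mem_mul (ih y hy) (ih x hx)
  refine LinearMap.ext fun x => ?_
  have hmono : ∀ j, fixChain ρ (finrank K V) ≤ fixChain ρ (finrank K V + j) := by
    intro j
    induction j with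
    | zero => exact le_rfl
    | succ j ih => exact ih.trans (fixChain_le ρ _)
  have hx : x ∈ fixChain ρ (0 + 2 ^ m) := by
    obtain ⟨j, hj⟩ := Nat.exists_eq_add_of_le hm
    rw [zero_add, hj]
    exact hmono j ((unipotent_bound hP ρ).symm ▸ Submodule.mem_top)
  have := hkill (2 ^ m) 0 _ (hder m g hg) x hx
  simpa [fixChain, sub_eq_zero] using this

noncomputable def matrixRep {F : Type*} [Field F] [Algebra F K] {n : ℕ}
    (ρ : P →* GL (Fin n) F) : P →* End K (Fin n → K) :=
  (Matrix.toLinAlgEquiv' (R := K) (n := Fin n)).toMonoidHom.comp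
    ((algebraMap F K).mapMatrix.toMonoidHom.comp ((Units.coeHom _).comp ρ))

theorem matrixRep_apply {F : Type*} [Field F] [Algebra F K] {n : ℕ}
    (ρ : P →* GL (Fin n) F) (g : P) (v : Fin n → K) :
    matrixRep ρ g v = ((ρ g : Matrix (Fin n) (Fin n) F).map (algebraMap F K)).mulVec v := by
  simp [matrixRep, Matrix.toLinAlgEquiv'_apply]

theorem eq_one_of_matrixRep {F : Type*} [Field F] [Algebra F K] {n : ℕ}
    (ρ : P →* GL (Fin n) F) (g : P) (h : matrixRep (K := K) ρ g = 1) : ρ g = 1 := by
  apply Units.ext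
  apply Matrix.map_injective (algebraMap F K).injective
  ext i j
  have := congrFun (LinearMap.congr_fun h (Pi.single j 1)) i
  rw [matrixRep_apply, Matrix.mulVec_single_one] at this
  simpa [Matrix.one_apply, Pi.single_apply, apply_ite] using this

end Cfsg.Agent.LinearPGroupDL73
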