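import Mathlib
import Cfsg.Agent.Lib.LinearPGroupDL73

set_option autoImplicit false
set_option linter.all false

namespace Cfsg.Agent.LinearPGroupLogP73

open Module
open scoped commutatorElement
open Cfsg.Agent.LinearPGroupDL73

universe u v

theorem derived_acts_trivial_logp {p : ℕ} [Fact p.Prime] {K : Type*} [Field K] [IsAlgClosed K]
    (hchar : (p : K) ≠ 0) (n : ℕ) :
    ∀ (P : Type u) [Group P] [Finite P], IsPGroup p P →
      ∀ (V : Type v) [AddCommGroup V] [Module K V] [FiniteDimensional K V] (ρ : P →* End K V),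
        finrank K V ≤ n → ∀ g ∈ derivedSeries P (Nat.log p n + 1), ρ g = 1 := by
  induction n using Nat.strong_induction_on with
  | _ n IH =>
  intro P _ _ hP V _ _ _ ρ hdim g hg
  rcases subsingleton_or_nontrivial V with hV | hV
  · exact LinearMap.ext fun x => Subsingleton.elim _ _
  have hn : 0 < n := lt_of_lt_of_le finrank_pos hdim
  by_cases hirr : ∀ U : Submodule K V, (∀ g, ∀ x ∈ U, ρ g x ∈ U) → U = ⊥ ∨ U = ⊤
  swap
  · push Not at hirr
    obtain ⟨U, hU, hU0, hU1⟩ := hirr
    have hUlt : finrank K U < n := lt_of_lt_of_le (Submodule.finrank_lt hU1) hdim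
    have hsum := Submodule.finrank_quotient_add_finrank U
    have hUpos : 0 < finrank K U := by
      rw [Nat.pos_iff_ne_zero, Ne, Submodule.finrank_eq_zero]; exact hU0
    have hQlt : finrank K (V ⧸ U) < n := by omega
    refine rep_eq_one_of_layers hP hchar ρ U g (fun x hx => ?_) (fun x => ?_)
    · have h := IH _ hUlt P hP U (subRep ρ U hU) le_rfl g
        (derivedSeries_antitone _ (by gcongr) hg)
      exact congrArg Subtype.val (LinearMap.congr_fun h ⟨x, hx⟩)
    · have h := IH _ hQlt P hP (V ⧸ U) (quotRep ρ U hU) le_rfl g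
        (derivedSeries_antitone _ (by gcongr) hg)
      have := LinearMap.congr_fun h (Submodule.Quotient.mk x)
      exact (Submodule.Quotient.eq U).mp this
  by_cases hab : ∀ g h, ρ g * ρ h = ρ h * ρ g
  · have hle : derivedSeries P 1 ≤ ρ.ker := by
      rw [derivedSeries_one, commutator_def, Subgroup.commutator_le]
      intro a _ b _
      rw [MonoidHom.mem_ker, commutatorElement_def, map_mul, map_mul, hab (a * b),
        ← map_mul, ← map_mul]
      have : a⁻¹ * (a * b) = b := by group
      rw [this, mul_inv_cancel, map_one]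
    exact hle (derivedSeries_antitone _ (by omega) hg)
  obtain ⟨a, l, hl, g0, hg0⟩ := exists_weight hP ρ hirr hab
  have hl0 : ∀ h, l h ≠ 0 := fun h h0 => by
    have := map_mul l h h⁻¹
    rw [mul_inv_cancel, map_one, h0, zero_mul] at this
    exact one_ne_zero this
  have hmap : ∀ h μ, ∀ v ∈ End.eigenspace (ρ a) μ, ρ h v ∈ End.eigenspace (ρ a) ((l h)⁻¹ * μ) := by
    intro h μ v hv
    rw [End.mem_eigenspace_iff] at hv ⊢
    have := hl h v
    rw [hv, map_smul] at this
    rw [← smul_smul, this, inv_smul_smul₀ (hl0 h)]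
  have hp : p.Prime := Fact.out
  have hdist : ∀ i j : ℕ, i < j → j < p → l g0 ^ i ≠ l g0 ^ j := by
    intro i j hij hjp h
    obtain ⟨k, hk⟩ := IsPGroup.iff_orderOf.mp hP g0
    have hdvd : orderOf (l g0) ∣ p ^ k := hk ▸ orderOf_map_dvd l g0
    have h1 : l g0 ^ (j - i) = 1 := by
      have h2 : l g0 ^ i * l g0 ^ (j - i) = l g0 ^ i * 1 := by
        rw [← pow_add, mul_one, h]; congr 1; omega
      exact mul_left_cancel₀ (pow_ne_zero _ (hl0 g0)) h2
    have h3 : orderOf (l g0) ∣ Nat.gcd (p ^ k) (j - i) :=
      Nat.dvd_gcd hdvd (orderOf_dvd_of_pow_eq_one h1)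
    have hcop : Nat.Coprime (p ^ k) (j - i) := by
      refine Nat.Coprime.pow_left k ((hp.coprime_iff_not_dvd).mpr fun hd => ?_)
      have := Nat.le_of_dvd (by omega) hd
      omega
    rw [hcop.gcd_eq_one, Nat.dvd_one, orderOf_eq_one_iff] at h3
    exact hg0 h3
  have hhalf : ∀ μ, finrank K (End.eigenspace (ρ a) μ) ≤ n / p := by
    intro μ
    by_cases hμ : μ = 0
    · have : End.eigenspace (ρ a) μ = ⊥ := by
        rw [Submodule.eq_bot_iff]
        intro v hv
        rw [End.mem_eigenspace_iff, hμ, zero_smul] at hv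
        exact rep_injective ρ a (hv.trans (map_zero _).symm)
      rw [this, finrank_bot]; exact Nat.zero_le _
    · have hle : ∀ i : ℕ, finrank K (End.eigenspace (ρ a) μ) ≤
          finrank K (End.eigenspace (ρ a) ((l g0 ^ i)⁻¹ * μ)) := by
        intro i
        have h1 : (End.eigenspace (ρ a) μ).map (ρ (g0 ^ i)) ≤
            End.eigenspace (ρ a) ((l g0 ^ i)⁻¹ * μ) :=
          Submodule.map_le_iff_le_comap.mpr fun v hv => by
            simpa [map_pow] using hmap (g0 ^ i) μ v hv
        exact (Submodule.equivMapOfInjective _ (rep_injective ρ (g0 ^ i)) _).finrank_eq.trans_le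
          (Submodule.finrank_mono h1)
      have key : ∀ i ≤ p, i * finrank K (End.eigenspace (ρ a) μ) ≤ finrank K
          (⨆ j ∈ Finset.range i, End.eigenspace (ρ a) ((l g0 ^ j)⁻¹ * μ) : Submodule K V) := by
        intro i hi
        induction i with
        | zero => simp
        | succ i ih =>
          rw [Finset.range_add_one, Finset.iSup_insert]
          have hdisj : Disjoint (End.eigenspace (ρ a) ((l g0 ^ i)⁻¹ * μ))
              (⨆ j ∈ Finset.range i, End.eigenspace (ρ a) ((l g0 ^ j)⁻¹ * μ)) := by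
            refine ((ρ a).eigenspaces_iSupIndep _).mono_right (iSup₂_le fun j hj => ?_)
            refine le_iSup₂_of_le ((l g0 ^ j)⁻¹ * μ) ?_ le_rfl
            intro h
            exact hdist j i (Finset.mem_range.mp hj) (by omega)
              (inv_injective (mul_right_cancel₀ hμ h))
          have h := Submodule.finrank_sup_add_finrank_inf_eq (End.eigenspace (ρ a) ((l g0 ^ i)⁻¹ * μ))
              (⨆ j ∈ Finset.range i, End.eigenspace (ρ a) ((l g0 ^ j)⁻¹ * μ))
          rw [disjoint_iff.mp hdisj, finrank_bot] at h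
          have h1 := ih (Nat.le_of_succ_le hi)
          have h2 := hle i
          rw [add_mul, one_mul]
          omega
      rw [Nat.le_div_iff_mul_le hp.pos, mul_comm]
      exact (key p le_rfl).trans ((Submodule.finrank_le _).trans hdim)
  have hn2 : p ≤ n := by
    by_contra hlt
    obtain ⟨μ, hμ⟩ := End.exists_eigenvalue (ρ a)
    have := hhalf μ
    rw [Nat.div_eq_of_lt (by omega)] at this
    exact hμ (Submodule.finrank_eq_zero.mp (Nat.le_zero.mp this))
  let M : Subgroup P := l.ker
  have hM : derivedSeries P 1 ≤ M := by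
    rw [derivedSeries_one, commutator_def, Subgroup.commutator_le]
    intro x _ y _
    show l ⁅x, y⁆ = 1
    rw [commutatorElement_def, map_mul, map_mul, map_mul, mul_comm (l x), mul_assoc (l y),
      ← map_mul l x, mul_inv_cancel, map_one, mul_one, ← map_mul, mul_inv_cancel, map_one]
  obtain ⟨m, hm, rfl⟩ := derived_map_succ M hM _ hg
  have hlog : Nat.log p n = Nat.log p (n / p) + 1 := Nat.log_of_one_lt_of_le hp.one_lt hn2
  rw [hlog] at hm
  have heig : ∀ μ, ∀ v ∈ End.eigenspace (ρ a) μ, ρ (m : P) v = v := by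
    intro μ v hv
    have hinv : ∀ h : M, ∀ x ∈ End.eigenspace (ρ a) μ, (ρ.comp M.subtype) h x ∈ End.eigenspace (ρ a) μ := by
      intro h x hx
      have := hmap h.1 μ x hx
      rwa [show l h.1 = 1 from h.2, inv_one, one_mul] at this
    have h := IH (n / p) (Nat.div_lt_self hn hp.one_lt) M (hP.to_subgroup M) _ (subRep (ρ.comp M.subtype) _ hinv)
      (hhalf μ) m hm
    exact congrArg Subtype.val (LinearMap.congr_fun h ⟨v, hv⟩)
  have htop : (⨆ μ, End.eigenspace (ρ a) μ) = ⊤ := by
    refine (hirr _ ?_).resolve_left ?_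
    · intro h x hx
      induction hx using Submodule.iSup_induction' with
      | mem μ x hx => exact Submodule.mem_iSup_of_mem _ (hmap h μ x hx)
      | zero => simp
      | add x y _ _ ihx ihy => rw [map_add]; exact Submodule.add_mem _ ihx ihy
    · intro hb
      obtain ⟨μ, hμ⟩ := End.exists_eigenvalue (ρ a)
      exact hμ (le_bot_iff.mp (hb ▸ le_iSup (fun μ => End.eigenspace (ρ a) μ) μ))
  refine LinearMap.ext fun x => ?_
  have hx : x ∈ ⨆ μ, End.eigenspace (ρ a) μ := htop ▸ Submodule.mem_top
  induction hx using Submodule.iSup_induction' with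
  | mem μ x hx => exact heig μ x hx
  | zero => simp
  | add x y _ _ ihx ihy => rw [map_add, ihx, ihy]; simp


end Cfsg.Agent.LinearPGroupLogP73
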