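import Mathlib
import Cfsg.Agent.Lib.PGroupsBasic
import Cfsg.Agent.Lib.PGroupsCyclic

/-!
Generator bound for the subgroups of an irreducible linear `2`-group in odd characteristic:
every subgroup needs at most `r` generators with `2 ^ (r + 1) ≤ |V|` unless `|V|` is a prime, when
`r ≤ 1`.
-/

set_option autoImplicit false

namespace Cfsg.Agent.LinearTwoGroupGen44

open Subgroup

universe u v w

/-! ### Number of generators of all subgroups -/

/-- Every subgroup is generated by at most `r` elements. -/
def Gen (r : ℕ) (G : Type*) [Group G] : Prop :=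
  ∀ H : Subgroup G, ∃ S : Finset G, S.card ≤ r ∧ Subgroup.closure (S : Set G) = H

variable {G : Type*} [Group G]

theorem Gen.mono {a b : ℕ} (h : Gen a G) (hab : a ≤ b) : Gen b G := fun H => by
  obtain ⟨S, h1, h2⟩ := h H
  exact ⟨S, h1.trans hab, h2⟩

theorem gen_of_isCyclic [IsCyclic G] : Gen 1 G := fun H => by
  classical
  obtain ⟨g, hg⟩ := IsCyclic.exists_generator (α := H)
  refine ⟨{(g : G)}, by simp, le_antisymm (by simp [closure_le]) fun x hx => ?_⟩
  obtain ⟨k, hk⟩ := mem_zpowers_iff.1 (hg ⟨x, hx⟩)
  have : (g : G) ^ k = x := congrArg Subtype.val hk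
  rw [← this]
  exact Subgroup.zpow_mem _ (Subgroup.subset_closure (by simp)) k

theorem gen_of_card_le_two [Finite G] (h : Nat.card G ≤ 2) : Gen 1 G := by
  haveI : IsCyclic G := by
    have h0 := Nat.card_pos (α := G)
    interval_cases hc : Nat.card G
    · haveI := (Nat.card_eq_one_iff_unique.1 hc).1
      infer_instance
    · haveI : Fact (Nat.Prime 2) := ⟨Nat.prime_two⟩
      exact isCyclic_of_prime_card hc
  exact gen_of_isCyclic

theorem gen_of_injective {G' : Type*} [Group G'] (f : G →* G') (hf : Function.Injective f) {r : ℕ}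
    (h : Gen r G') : Gen r G := fun H => by
  classical
  obtain ⟨S, hS, hcl⟩ := h (H.map f)
  refine ⟨S.preimage f hf.injOn, le_trans ?_ hS, map_injective hf ?_⟩
  · rw [Finset.card_preimage]
    exact Finset.card_filter_le _ _
  · rw [MonoidHom.map_closure, ← hcl, Finset.coe_preimage, Set.image_preimage_eq_of_subset]
    intro y hy
    obtain ⟨x, -, rfl⟩ := hcl.le (Subgroup.subset_closure hy)
    exact ⟨x, rfl⟩

theorem gen_ext {G' : Type*} [Group G'] (f : G →* G') {a b : ℕ} (ha : Gen a f.ker)
    (hb : Gen b G') : Gen (a + b) G := fun H => by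
  classical
  obtain ⟨S, hS, hSc⟩ := ha (H.subgroupOf f.ker)
  obtain ⟨T, hT, hTc⟩ := hb (H.map f)
  have hlift : ∀ t ∈ T, ∃ x ∈ H, f x = t := fun t ht => hTc.le (Subgroup.subset_closure ht)
  choose! l hlH hlf using hlift
  refine ⟨S.image Subtype.val ∪ T.image l, (Finset.card_union_le _ _).trans
    (Nat.add_le_add (Finset.card_image_le.trans hS) (Finset.card_image_le.trans hT)), ?_⟩
  apply le_antisymm
  · rw [closure_le]
    intro x hx
    simp only [Finset.coe_union, Finset.coe_image, Set.mem_union, Set.mem_image] at hx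
    rcases hx with ⟨s, hs, rfl⟩ | ⟨t, ht, rfl⟩
    · exact hSc.le (Subgroup.subset_closure hs)
    · exact hlH t ht
  · intro x hx
    set C := Subgroup.closure ((S.image Subtype.val ∪ T.image l : Finset G) : Set G)
    have h1 : H.map f ≤ C.map f := by
      rw [← hTc, closure_le]
      intro t ht
      exact ⟨l t, Subgroup.subset_closure (by
        simp only [Finset.coe_union, Finset.coe_image]
        exact Or.inr ⟨t, ht, rfl⟩), hlf t ht⟩
    obtain ⟨y, hy, hxy⟩ := h1 ⟨x, hx, rfl⟩
    have hyH : y ∈ H := by
      refine (closure_le (K := H)).2 ?_ hy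
      intro z hz
      simp only [Finset.coe_union, Finset.coe_image, Set.mem_union, Set.mem_image] at hz
      rcases hz with ⟨s, hs, rfl⟩ | ⟨t, ht, rfl⟩
      · exact hSc.le (Subgroup.subset_closure hs)
      · exact hlH t ht
    have hk : y⁻¹ * x ∈ f.ker := by simp [MonoidHom.mem_ker, hxy]
    have hkm : (⟨y⁻¹ * x, hk⟩ : f.ker) ∈ Subgroup.closure (S : Set f.ker) :=
      hSc.ge (H.mul_mem (H.inv_mem hyH) hx)
    have := mem_map_of_mem f.ker.subtype hkm
    rw [MonoidHom.map_closure] at this
    have h2 : y⁻¹ * x ∈ C := Subgroup.closure_mono (by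
      simp only [Finset.coe_union, Finset.coe_image]
      exact Set.subset_union_left) this
    simpa using C.mul_mem hy h2

/-- A `2`-group generated by `r` elements has Frattini index at most `2 ^ r`. -/
theorem index_frattini_le [Finite G] (hG : IsPGroup 2 G) {r : ℕ} (h : Gen r G) :
    (frattini G).index ≤ 2 ^ r := by
  classical
  haveI : Fact (Nat.Prime 2) := ⟨Nat.prime_two⟩
  obtain ⟨S, hS, hSc⟩ := h ⊤
  haveI : (frattini G).Normal := inferInstance
  have hsq : ∀ x : G ⧸ frattini G, x * x = 1 := by
    intro x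
    obtain ⟨g, rfl⟩ := QuotientGroup.mk_surjective x
    rw [← QuotientGroup.mk_mul, QuotientGroup.eq_one_iff]
    simp only [frattini, Order.radical, Subgroup.mem_iInf]
    intro M hM
    haveI := PGroupsBasic.normal_of_isCoatom hG hM
    have hidx : M.index = 2 := PGroupsBasic.index_of_isCoatom hG hM
    have := M.pow_index_mem g
    rwa [hidx, pow_two] at this
  have hcomm : ∀ x y : G ⧸ frattini G, x * y = y * x := fun x y => by
    have hi : ∀ z : G ⧸ frattini G, z⁻¹ = z := fun z => inv_eq_of_mul_eq_one_right (hsq z)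
    calc x * y = (x * y)⁻¹ := (hi _).symm
      _ = y * x := by rw [mul_inv_rev, hi, hi]
  have key : ∀ T : Finset (G ⧸ frattini G),
      Nat.card (Subgroup.closure (T : Set (G ⧸ frattini G))) ≤ 2 ^ T.card := by
    intro T
    induction T using Finset.induction_on with
    | empty => simp
    | insert a T ha ih =>
      rw [Finset.card_insert_of_notMem ha, Finset.coe_insert, pow_succ]
      set K := Subgroup.closure (T : Set (G ⧸ frattini G))
      have hle : ∀ x ∈ Subgroup.closure (insert a (T : Set (G ⧸ frattini G))), x ∈ K ∨ x * a ∈ K := by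
        intro x hx
        induction hx using closure_induction with
        | mem x hx =>
          rcases hx with rfl | hx
          · exact Or.inr (by rw [hsq]; exact K.one_mem)
          · exact Or.inl (Subgroup.subset_closure hx)
        | one => exact Or.inl K.one_mem
        | mul x y _ _ hx hy =>
          rcases hx with hx | hx <;> rcases hy with hy | hy
          · exact Or.inl (K.mul_mem hx hy)
          · exact Or.inr (by rw [mul_assoc]; exact K.mul_mem hx hy)
          · exact Or.inr (by rw [mul_assoc, hcomm y a, ← mul_assoc]; exact K.mul_mem hx hy)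
          · left
            have := K.mul_mem hx hy
            rwa [mul_assoc x a, ← mul_assoc a y a, hcomm a y, mul_assoc y a a, hsq, mul_one] at this
        | inv x _ hx =>
          rw [inv_eq_of_mul_eq_one_right (hsq x)]; exact hx
      have hsub : Set.encard ((Subgroup.closure (insert a (T : Set (G ⧸ frattini G))) : Set _)) ≤
          Set.encard ((K : Set _) ∪ (· * a) ⁻¹' (K : Set _)) := Set.encard_le_encard (fun x hx => hle x hx)
      have h1 : Nat.card (Subgroup.closure (insert a (T : Set (G ⧸ frattini G)))) ≤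
          Nat.card K + Nat.card K := by
        rw [SetLike.coe_sort_coe _ |>.symm, Nat.card_coe_set_eq]
        refine (Set.ncard_le_ncard (t := (K : Set _) ∪ (· * a) ⁻¹' (K : Set _)) (fun x hx => hle x hx)).trans
          ((Set.ncard_union_le _ _).trans ?_)
        rw [Set.ncard_preimage_of_injective_subset_range (mul_left_injective a)
          (fun x _ => ⟨x * a⁻¹, inv_mul_cancel_right x a⟩)]
        rfl
      omega
  have hspan : Subgroup.closure (↑(S.image (QuotientGroup.mk : G → G ⧸ frattini G)) : Set (G ⧸ frattini G)) = ⊤ := by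
    rw [Finset.coe_image]
    have := congrArg (Subgroup.map (QuotientGroup.mk' (frattini G))) hSc
    rw [MonoidHom.map_closure, map_top_of_surjective _ (QuotientGroup.mk'_surjective _)] at this
    exact this
  have := key (S.image QuotientGroup.mk)
  rw [hspan, card_top] at this
  exact this.trans (Nat.pow_le_pow_right (by norm_num) (Finset.card_image_le.trans hS))

/-- The units of `ℤ/2^k` are two-generated throughout. -/
theorem gen_units (k : ℕ) : Gen 2 (ZMod (2 ^ k))ˣ := by
  have hcard : Nat.card (ZMod (2 ^ k))ˣ = Nat.totient (2 ^ k) := by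
    haveI : NeZero (2 ^ k) := ⟨by positivity⟩
    rw [Nat.card_eq_fintype_card, ZMod.card_units_eq_totient]
  haveI : NeZero (2 ^ k) := ⟨by positivity⟩
  by_cases hk : k ≤ 2
  · refine (gen_of_card_le_two ?_).mono (by norm_num)
    rw [hcard]
    interval_cases k <;> decide
  · obtain ⟨m, rfl⟩ : ∃ m, k = m + 3 := ⟨k - 3, by omega⟩
    have h5o : orderOf (5 : ZMod (2 ^ (m + 3))) = 2 ^ (m + 1) := by
      simpa using ZMod.orderOf_five (m + 1)
    have hu : IsUnit (5 : ZMod (2 ^ (m + 3))) :=
      (IsOfFinOrder.isUnit (orderOf_pos_iff.1 (by rw [h5o]; positivity)))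
    set u := hu.unit
    have huo : orderOf u = 2 ^ (m + 1) := by
      rw [← orderOf_units]; exact h5o
    have hq : Nat.card ((ZMod (2 ^ (m + 3)))ˣ ⧸ zpowers u) = 2 := by
      have := (zpowers u).card_eq_card_quotient_mul_card_subgroup
      rw [hcard, Nat.totient_prime_pow Nat.prime_two (by omega), Nat.card_zpowers, huo] at this
      rw [show m + 3 - 1 = (m + 1) + 1 by omega, pow_succ] at this
      have hpos : 0 < 2 ^ (m + 1) := by positivity
      nlinarith
    refine gen_ext (QuotientGroup.mk' (zpowers u)) (a := 1) (b := 1) ?_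
      (gen_of_card_le_two hq.le)
    rw [QuotientGroup.ker_mk']
    exact gen_of_isCyclic

theorem exists_ne_one {H : Subgroup G} (h : H ≠ ⊥) : ∃ x ∈ H, x ≠ 1 := by
  by_contra hc
  push Not at hc
  exact h ((eq_bot_iff_forall H).2 hc)

/-! ### Irreducible actions -/

variable {P : Type v} [Group P] {V : Type u} [CommGroup V]

/-- No proper non-trivial invariant subgroup. -/
def Irred (φ : P →* MulAut V) : Prop :=
  ∀ W : Subgroup V, (∀ g : P, ∀ x ∈ W, φ g x ∈ W) → W = ⊥ ∨ W = ⊤

/-- The fixed points of one element. -/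
def fix (a : MulAut V) : Subgroup V where
  carrier := {x | a x = x}
  mul_mem' {x y} hx hy := by
    simp only [Set.mem_ofPred_eq] at *
    rw [map_mul, hx, hy]
  one_mem' := map_one a
  inv_mem' {x} hx := by
    simp only [Set.mem_ofPred_eq] at *
    rw [map_inv, hx]

theorem mem_fix {a : MulAut V} {x : V} : x ∈ fix a ↔ a x = x := Iff.rfl

variable [Finite V]

theorem eq_one_of_sq (hodd : Odd (Nat.card V)) {x : V} (h : x * x = 1) : x = 1 :=
  (powCoprime (Nat.coprime_two_right.2 hodd)).injective
    (by simpa [powCoprime, pow_two] using h)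

/-- An involutory automorphism without fixed points inverts everything. -/
theorem eq_inv_of_fix_bot {a : MulAut V} (ha : a * a = 1) (hfix : fix a = ⊥) (x : V) :
    a x = x⁻¹ := by
  have h1 : x * a x ∈ fix a := by
    rw [mem_fix, map_mul, ← MulAut.mul_apply, ha, MulAut.one_apply, mul_comm]
  rw [hfix, mem_bot] at h1
  exact (eq_inv_of_mul_eq_one_right h1)

/-- Order at most sixteen for a `2`-group on a plane of order nine. -/
theorem card_le_sixteen [Finite P] (hP : IsPGroup 2 P) (φ : P →* MulAut V)
    (hφ : Function.Injective φ) (hirr : Irred φ) (h9 : Nat.card V = 9) : Nat.card P ≤ 16 := by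
  classical
  have hexp : ∀ x : V, x ^ 3 = 1 := by
    haveI : Fact (Nat.Prime 3) := ⟨Nat.prime_three⟩
    obtain ⟨c, hc⟩ := exists_prime_orderOf_dvd_card' (G := V) 3 (h9 ▸ by norm_num)
    rcases hirr (powMonoidHom 3 : V →* V).ker (fun g x hx => by
      simp only [MonoidHom.mem_ker, powMonoidHom_apply] at hx ⊢
      rw [← map_pow, hx, map_one]) with h | h
    · exfalso
      have : c ∈ (powMonoidHom 3 : V →* V).ker := by
        simp only [MonoidHom.mem_ker, powMonoidHom_apply, ← hc, pow_orderOf_eq_one]
      rw [h, mem_bot] at this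
      rw [this, orderOf_one] at hc
      omega
    · intro x
      have : x ∈ (powMonoidHom 3 : V →* V).ker := h ▸ mem_top x
      simpa [MonoidHom.mem_ker, powMonoidHom_apply] using this
  haveI : Nontrivial V := Finite.one_lt_card_iff_nontrivial.1 (by omega)
  obtain ⟨x, hx⟩ := exists_ne (1 : V)
  let act : MulAction P V := MulAction.compHom V φ
  have hact : ∀ g y, g • y = φ g y := fun g y => rfl
  have horb : Nat.card (MulAction.orbit P x) ≤ 8 := by
    rw [Nat.card_coe_set_eq]
    have hsub : MulAction.orbit P x ⊆ {(1 : V)}ᶜ := by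
      rintro _ ⟨g, rfl⟩ h
      simp only [Set.mem_singleton_iff, hact] at h
      exact hx ((φ g).injective (h.trans (map_one _).symm))
    have := Set.ncard_le_ncard hsub
    rw [Set.ncard_compl, Set.ncard_singleton, h9] at this
    exact this
  -- the stabiliser has order at most two
  have hx3 : orderOf x = 3 := orderOf_eq_prime (hp := ⟨Nat.prime_three⟩) (hexp x) hx
  set Z := zpowers x with hZ
  have hq : Nat.card (V ⧸ Z) = 3 := by
    have := Z.card_eq_card_quotient_mul_card_subgroup
    rw [h9, hZ, Nat.card_zpowers, hx3] at this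
    rw [hZ]; omega
  obtain ⟨y, hy⟩ : ∃ y : V, y ∉ Z := by
    by_contra h; push Not at h
    have := card_top (G := V)
    rw [← eq_top_iff' Z |>.2 h, hZ, Nat.card_zpowers, hx3, h9] at this
    omega
  have hgen : ∀ a : MulAut V, a x = x → a y = y → a = 1 := by
    intro a hax hay
    have hle : Z ≤ fix a := zpowers_le.2 hax
    have hlt : Z < fix a := lt_of_le_of_ne hle fun h => hy (h ▸ hay)
    have htop : fix a = ⊤ := by
      apply Subgroup.eq_top_of_card_eq
      have h1 : Nat.card (fix a) ∣ 9 := h9 ▸ card_subgroup_dvd_card _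
      have h2 : Nat.card Z < Nat.card (fix a) := by
        refine lt_of_le_of_ne (card_le_of_le hle) fun h => hlt.ne ?_
        exact eq_of_le_of_card_ge hle h.ge
      rw [hZ, Nat.card_zpowers, hx3] at h2
      have h3 : Nat.card (fix a) ≤ 9 := Nat.le_of_dvd (by norm_num) h1
      rw [h9]
      generalize Nat.card (fix a) = n at h1 h2 h3
      interval_cases n <;> omega
    refine MulEquiv.ext fun z => ?_
    exact mem_fix.1 (htop ▸ mem_top z)
  let q : V →* V ⧸ Z := QuotientGroup.mk' Z
  have hind : ∀ g : P, g • x = x → ∀ a b : V, q a = q b → q (φ g a) = q (φ g b) := by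
    intro g hg a b hab
    simp only [q, QuotientGroup.mk'_apply, QuotientGroup.eq] at hab ⊢
    rw [← map_inv, ← map_mul]
    obtain ⟨k, hk⟩ := mem_zpowers_iff.1 hab
    rw [← hk, map_zpow, ← hact, hg]
    exact zpow_mem (mem_zpowers x) k
  -- the elements fixing `y` modulo `Z` are trivial
  have hker : ∀ g : P, g • x = x → q (φ g y) = q y → g = 1 := by
    intro g hg hgy
    simp only [q, QuotientGroup.mk'_apply] at hgy
    have hcZ : y⁻¹ * φ g y ∈ Z := QuotientGroup.eq.1 hgy.symm
    obtain ⟨k, hk⟩ := mem_zpowers_iff.1 hcZ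
    have hit : ∀ n : ℕ, φ (g ^ n) y = y * (x ^ k) ^ n := by
      intro n
      induction n with
      | zero => simp
      | succ n ih =>
        rw [pow_succ', map_mul, MulAut.mul_apply, ih, map_mul, map_pow, map_zpow, ← hact g x, hg,
          pow_succ', ← mul_assoc, hk, ← mul_assoc, mul_inv_cancel, one_mul]
    obtain ⟨e, he⟩ := hP g
    have h1 := hit (2 ^ e)
    rw [he, map_one, MulAut.one_apply, left_eq_mul] at h1
    have h3 : (x ^ k) ^ 3 = 1 := hexp _
    have hk1 : x ^ k = 1 := by
      have := (pow_gcd_eq_one (a := x ^ k) (m := 2 ^ e) (n := 3)).2 ⟨h1, h3⟩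
      rwa [show Nat.gcd (2 ^ e) 3 = 1 from Nat.Coprime.pow_left _ (by decide), pow_one] at this
    refine hφ ((hgen _ ?_ ?_).trans (map_one φ).symm)
    · rw [← hact]; exact hg
    · have := hit 1; rwa [pow_one, pow_one, hk1, mul_one] at this
  -- the non-trivial ones square the image of `y`
  have hnk : ∀ g : P, g • x = x → q (φ g y) ≠ q y → q (φ g y) = q y ^ 2 := by
    intro g hg hne
    haveI : Fact (Nat.Prime 3) := ⟨Nat.prime_three⟩
    have hy1 : q y ≠ 1 := fun h => hy ((QuotientGroup.eq_one_iff y).1 h)
    obtain ⟨n, hn⟩ : q (φ g y) ∈ Submonoid.powers (q y) :=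
      mem_powers_of_prime_card hq hy1
    have hn0 : q y ^ 3 = 1 := by rw [← map_pow, hexp, map_one]
    simp only at hn
    rw [← Nat.mod_add_div n 3, pow_add, pow_mul, hn0, one_pow, mul_one] at hn
    have h3 := Nat.mod_lt n (show 3 > 0 by norm_num)
    interval_cases n % 3
    · exfalso
      rw [pow_zero] at hn
      have hmem : φ g y ∈ Z := (QuotientGroup.eq_one_iff _).1 hn.symm
      obtain ⟨k, hk⟩ := mem_zpowers_iff.1 hmem
      apply hy
      have : φ g (x ^ k) = φ g y := by rw [map_zpow, ← hact g x, hg, hk]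
      exact mem_zpowers_iff.2 ⟨k, (φ g).injective this⟩
    · exact absurd (by rw [← hn, pow_one]) hne
    · exact hn.symm
  have hstab : Nat.card (MulAction.stabilizer P x) ≤ 2 := by
    by_contra h
    push Not at h
    obtain ⟨a, b, c, hab, hac, hbc⟩ : ∃ a b c : MulAction.stabilizer P x, a ≠ b ∧ a ≠ c ∧ b ≠ c := by
      haveI := Fintype.ofFinite (MulAction.stabilizer P x)
      rw [Nat.card_eq_fintype_card] at h
      exact Fintype.two_lt_card_iff.1 h
    -- two different non-trivial elements
    obtain ⟨s, t, hs, ht, hst⟩ : ∃ s t : MulAction.stabilizer P x, s ≠ 1 ∧ t ≠ 1 ∧ s ≠ t := by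
      by_cases ha : a = 1
      · exact ⟨b, c, ha ▸ hab.symm, ha ▸ hac.symm, hbc⟩
      · by_cases hb : b = 1
        · exact ⟨a, c, ha, hb ▸ hbc.symm, hac⟩
        · exact ⟨a, b, ha, hb, hab⟩
    have hmv : ∀ s : MulAction.stabilizer P x, s ≠ 1 → q (φ s y) = q y ^ 2 := fun s hs =>
      hnk s s.2 fun h => hs (Subtype.ext (hker s s.2 h))
    apply hst
    have hfix : q (φ ((s⁻¹ * t : MulAction.stabilizer P x) : P) y) = q y := by
      have hs' : s⁻¹ ≠ 1 := by simpa using hs
      rw [Subgroup.coe_mul, map_mul, MulAut.mul_apply,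
        hind _ (s⁻¹).2 _ (y ^ 2) (by rw [hmv t ht, map_pow]), map_pow, map_pow, hmv _ hs',
        ← pow_mul, ← map_pow, show (2 * 2 : ℕ) = 3 + 1 by norm_num, pow_succ, hexp, one_mul]
    have := hker _ (s⁻¹ * t : MulAction.stabilizer P x).2 hfix
    exact (inv_mul_eq_one.1 (Subtype.ext this))
  calc Nat.card P = Nat.card (MulAction.orbit P x) * Nat.card (MulAction.stabilizer P x) := by
        rw [← Nat.card_prod]
        exact Nat.card_congr
          (MulAction.orbitProdStabilizerEquivGroup P x).symm
    _ ≤ 8 * 2 := Nat.mul_le_mul horb hstab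

/-- The bound. -/
def Bound (r n : ℕ) : Prop := 2 ^ (r + 1) ≤ n ∨ (n.Prime ∧ r ≤ 1)

theorem exists_bound (n : ℕ) : ∀ (P : Type u) [Group P] [Finite P] (V : Type u)
    [CommGroup V] [Finite V], Nat.card V = n → Odd n → 1 < n → IsPGroup 2 P →
    ∀ φ : P →* MulAut V, Function.Injective φ → Irred φ →
      ∃ r, Gen r P ∧ Bound r n := by
  induction n using Nat.strong_induction_on with
  | _ n IH => ?_
  intro P _ _ V _ _ hn hodd h1 hP φ hφ hirr
  classical
  haveI : Fact (Nat.Prime 2) := ⟨Nat.prime_two⟩
  by_cases hp : n.Prime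
  · haveI : Fact n.Prime := ⟨hp⟩
    haveI : IsCyclic V := isCyclic_of_prime_card hn
    let e : MulAut V ≃* (ZMod n)ˣ := hn ▸ IsCyclic.mulAutMulEquiv V
    haveI : IsCyclic (MulAut V) := isCyclic_of_surjective e.symm e.symm.surjective
    exact ⟨1, gen_of_injective φ hφ gen_of_isCyclic, Or.inr ⟨hp, le_rfl⟩⟩
  have h9 : 9 ≤ n := by
    by_contra h
    push Not at h
    interval_cases n <;> first | omega | exact hp (by decide) | exact absurd hodd (by decide)
  have hodd' : Odd (Nat.card V) := hn ▸ hodd
  obtain ⟨A, hAn, -, hAc, hAA⟩ := PGroupsCyclic.exists_selfCentralizing hP (⊤ : Subgroup P)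
  rw [top_inf_eq] at hAA
  haveI := hAn
  by_cases hcyc : IsCyclic A
  · -- a self-centralising cyclic normal subgroup
    obtain ⟨x, hx⟩ := hcyc.exists_generator
    have hAx : A = zpowers (x : P) := by
      refine le_antisymm (fun a ha => ?_) (zpowers_le.2 x.2)
      obtain ⟨k, hk⟩ := mem_zpowers_iff.1 (hx ⟨a, ha⟩)
      exact mem_zpowers_iff.2 ⟨k, by simpa using congrArg Subtype.val hk⟩
    -- semiregularity
    have hfree : ∀ a ∈ A, a ≠ 1 → fix (φ a) = ⊥ := by
      intro a ha hne
      rcases hirr (fix (φ a)) (fun g y hy => by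
        rw [mem_fix] at hy ⊢
        obtain ⟨r, hr⟩ := PGroupsCyclic.exists_conj_eq_zpow (hAx ▸ hAn) g⁻¹
        obtain ⟨k, hk⟩ := mem_zpowers_iff.1 (hAx ▸ ha)
        have hconj : g⁻¹ * a * g = a ^ r := by
          have := PGroupsCyclic.conj_zpow_eq hr k
          rw [inv_inv, hk] at this
          rw [this, ← hk, ← zpow_mul, mul_comm r k]
        have : a * g = g * a ^ r := by rw [← hconj]; group
        rw [← MulAut.mul_apply, ← map_mul, this, map_mul, MulAut.mul_apply, map_zpow]
        congr 1
        have hz : φ a ∈ MulAction.stabilizer (MulAut V) y := hy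
        exact Subgroup.zpow_mem _ hz r) with h | h
      · exact h
      · exfalso
        refine hne (hφ ((MulEquiv.ext fun y => ?_ : φ a = 1).trans (map_one φ).symm))
        exact mem_fix.1 (h ▸ mem_top y)
    have hdvd : Nat.card A ∣ n - 1 := by
      let act : MulAction A {y : V // y ≠ 1} :=
        { smul := fun a y => ⟨φ a y, fun h => y.2 ((φ a).injective (h.trans (map_one _).symm))⟩
          one_smul := fun y => Subtype.ext (by show φ ((1 : A) : P) y.1 = y.1; simp)
          mul_smul := fun a b y => Subtype.ext (by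
            show φ ((a * b : A) : P) y.1 = φ a (φ b y.1); simp) }
      have hstab : ∀ y : {y : V // y ≠ 1}, MulAction.stabilizer A y = ⊥ := by
        intro y
        rw [eq_bot_iff]
        intro a ha
        rw [mem_bot]
        by_contra hne
        have := hfree a a.2 (fun h => hne (Subtype.ext h))
        exact y.2 (mem_bot.1 (this ▸ mem_fix.2 (congrArg Subtype.val ha)))
      have hcount : Nat.card {y : V // y ≠ 1} = n - 1 := by
        haveI := Fintype.ofFinite V
        rw [Nat.card_eq_fintype_card, Fintype.card_subtype_compl, Fintype.card_subtype_eq, ← hn,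
          Nat.card_eq_fintype_card]
      refine ⟨Nat.card (MulAction.orbitRel.Quotient A {y : V // y ≠ 1}), ?_⟩
      rw [← hcount, Nat.card_congr (MulAction.selfEquivOrbitsQuotientProd hstab), Nat.card_prod,
        mul_comm]
    set f : P →* MulAut A := MulAut.conjNormal
    have hker : f.ker = A := by
      refine le_antisymm (fun g hg => ?_) fun g hg => ?_
      · rw [← hAA, mem_centralizer_iff]
        intro a ha
        have := congrArg (fun u : MulAut A => (u ⟨a, ha⟩ : P)) hg
        simp only [f, MulAut.conjNormal_apply, MulAut.one_apply] at this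
        rw [mul_inv_eq_iff_eq_mul] at this
        exact this.symm
      · rw [MonoidHom.mem_ker]
        refine MulEquiv.ext fun a => Subtype.ext ?_
        simp only [f, MulAut.conjNormal_apply, MulAut.one_apply]
        rw [(PGroupsBasic.comm_of_isMulCommutative hAc hg a.2), mul_inv_cancel_right]
    haveI hkc : IsCyclic f.ker := by rw [hker]; exact hcyc
    obtain ⟨k, hk⟩ := IsPGroup.iff_card.1 (hP.to_subgroup A)
    have e : MulAut A ≃* (ZMod (2 ^ k))ˣ := hk ▸ IsCyclic.mulAutMulEquiv A
    by_cases hsmall : Nat.card f.range ≤ 2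
    · refine ⟨2, ?_, Or.inl (le_trans (by norm_num) h9)⟩
      exact gen_ext f.rangeRestrict (a := 1) (b := 1)
        (by rw [MonoidHom.ker_rangeRestrict]; exact gen_of_isCyclic) (gen_of_card_le_two hsmall)
    · refine ⟨3, gen_ext f (a := 1) gen_of_isCyclic
        (gen_of_injective e.toMonoidHom e.injective (gen_units k)), Or.inl ?_⟩
      by_contra hlt
      norm_num at hlt
      have hk3 : 3 ≤ k := by
        by_contra hk3
        apply hsmall
        refine (card_le_card_group _).trans ?_
        rw [Nat.card_congr e.toEquiv]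
        haveI : NeZero (2 ^ k) := ⟨by positivity⟩
        rw [Nat.card_eq_fintype_card, ZMod.card_units_eq_totient]
        interval_cases k <;> decide
      have h8 : 8 ∣ n - 1 := Nat.dvd_trans (by rw [hk]; exact pow_dvd_pow 2 hk3) hdvd
      have hn9 : n = 9 := by omega
      have h16 := card_le_sixteen hP φ hφ hirr (hn.trans hn9)
      apply hsmall
      have h1 := card_eq_card_quotient_mul_card_subgroup f.ker
      rw [Nat.card_congr (QuotientGroup.quotientKerEquivRange f).toEquiv, hker, hk] at h1
      have h8' : 8 ≤ 2 ^ k := Nat.pow_le_pow_right (by norm_num) hk3 |>.trans_eq' (by norm_num)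
      nlinarith
  · -- a normal four-group
    set E0 : Subgroup P := ⟨⟨⟨{a | a ∈ A ∧ a * a = 1}, fun {a b} ha hb => ⟨A.mul_mem ha.1 hb.1, by
      rw [mul_assoc, ← mul_assoc b a b, PGroupsBasic.comm_of_isMulCommutative hAc hb.1 ha.1,
        mul_assoc a b b, hb.2, mul_one, ha.2]⟩⟩, ⟨A.one_mem, one_mul 1⟩⟩,
      fun {a} ha => ⟨A.inv_mem ha.1, by rw [← mul_inv_rev, ha.2, inv_one]⟩⟩
    haveI hE0n : E0.Normal := ⟨fun a ha g => ⟨hAn.conj_mem a ha.1 g, by
      rw [show g * a * g⁻¹ * (g * a * g⁻¹) = g * (a * a) * g⁻¹ by group, ha.2, mul_one,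
        mul_inv_cancel]⟩⟩
    have hE0ne : E0 ≠ ⊥ := by
      intro h
      refine hcyc (PGroupsCyclic.isCyclic_subgroup hP hAc A.one_mem (fun a ha h2 => ?_) (by simp))
      have : a ∈ E0 := ⟨ha, by rw [← pow_two]; exact h2⟩
      rw [h, mem_bot] at this
      rw [this]; exact one_mem _
    obtain ⟨z, hz, hz1⟩ := exists_ne_one
      (PGroupsBasic.inf_center_ne_bot hP hE0ne)
    have hzz : z * z = 1 := hz.1.2
    have hzA : z ∈ A := hz.1.1
    have hzc : ∀ g : P, g * z = z * g := fun g => mem_center_iff.1 hz.2 g
    have hzo : orderOf z = 2 := orderOf_eq_prime (by rw [pow_two]; exact hzz) hz1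
    set Z := zpowers z
    haveI hZn : Z.Normal := ⟨fun y hy g => by
      obtain ⟨i, rfl⟩ := mem_zpowers_iff.1 hy
      have : Commute g (z ^ i) := Commute.zpow_right (hzc g) i
      rw [this.eq, mul_inv_cancel_right]
      exact zpow_mem (mem_zpowers z) i⟩
    set π := QuotientGroup.mk' Z
    haveI : (E0.map π).Normal := hE0n.map π (QuotientGroup.mk'_surjective Z)
    have hEne : E0.map π ≠ ⊥ := by
      intro h
      refine hcyc (PGroupsCyclic.isCyclic_subgroup hP hAc hzA (fun a ha h2 => ?_) hzo.le)
      have : π a ∈ E0.map π := ⟨a, ⟨ha, by rw [← pow_two]; exact h2⟩, rfl⟩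
      rw [h, mem_bot] at this
      exact (QuotientGroup.eq_one_iff a).1 this
    obtain ⟨c, hc, hc1⟩ := exists_ne_one
      (PGroupsBasic.inf_center_ne_bot (hP.to_quotient Z) hEne)
    obtain ⟨a, ha, rfl⟩ := hc.1
    have haz : a ∉ Z := fun h => hc1 ((QuotientGroup.eq_one_iff a).2 h)
    have hconj : ∀ g : P, g * a * g⁻¹ = a ∨ g * a * g⁻¹ = a * z := by
      intro g
      obtain ⟨g', hg'⟩ : ∃ g', g' = π g := ⟨_, rfl⟩
      have h := mem_center_iff.1 hc.2 (π g)
      have hmem : a⁻¹ * (g * a * g⁻¹) ∈ Z := by
        apply QuotientGroup.eq.1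
        show π a = π (g * a * g⁻¹)
        rw [map_mul, map_mul, map_inv, h, mul_inv_cancel_right]
      obtain ⟨i, hi⟩ := mem_zpowers_iff.1 hmem
      rcases Int.even_or_odd i with ⟨j, rfl⟩ | ⟨j, rfl⟩
      · left
        rw [← two_mul, zpow_mul, show z ^ (2 : ℤ) = 1 by rw [zpow_two]; exact hzz, one_zpow] at hi
        exact (inv_mul_eq_one.1 hi.symm).symm
      · right
        rw [zpow_add, zpow_mul, show z ^ (2 : ℤ) = 1 by rw [zpow_two]; exact hzz, one_zpow,
          one_mul, zpow_one] at hi
        exact eq_mul_of_inv_mul_eq hi.symm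
    have hsq : ∀ {e : P}, e * e = 1 → φ e * φ e = 1 := fun {e} h => by rw [← map_mul, h, map_one]
    have hcent : ∀ e : P, e * e = 1 → e ≠ 1 → (∀ g : P, g * e = e * g) →
        ∀ y : V, φ e y = y⁻¹ := by
      intro e he hne hcm
      rcases hirr (fix (φ e)) (fun g y hy => by
        rw [mem_fix] at hy ⊢
        rw [← MulAut.mul_apply, ← map_mul, ← hcm g, map_mul, MulAut.mul_apply, hy]) with h | h
      · exact fun y => eq_inv_of_fix_bot (hsq he) h y
      · exfalso
        refine hne (hφ ((MulEquiv.ext fun y => ?_ : φ e = 1).trans (map_one φ).symm))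
        exact mem_fix.1 (h ▸ mem_top y)
    have hzinv := hcent z hzz hz1 hzc
    have ha1 : a ≠ 1 := fun h => haz (h ▸ one_mem _)
    obtain ⟨g₀, hg₀⟩ : ∃ g₀ : P, g₀ * a * g₀⁻¹ = a * z := by
      by_contra h
      push Not at h
      have hcm : ∀ g : P, g * a = a * g := fun g =>
        mul_inv_eq_iff_eq_mul.1 ((hconj g).resolve_right (h g))
      refine haz ?_
      have : φ a = φ z := MulEquiv.ext fun y => by rw [hcent a ha.2 ha1 hcm, hzinv]
      rw [hφ this]
      exact mem_zpowers z
    set N := centralizer ({a} : Set P) with hN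
    have hNmem : ∀ g, g ∈ N ↔ g * a * g⁻¹ = a := fun g => by
      rw [hN, mem_centralizer_singleton_iff, mul_inv_eq_iff_eq_mul]
    have hzne : a * z ≠ a := fun h => hz1 (mul_eq_left.1 h)
    have hswap : ∀ g h : P, g * a * g⁻¹ = a * z → h * a * h⁻¹ = a * z → g * h ∈ N := by
      intro g h hg hh
      rw [hNmem]
      calc g * h * a * (g * h)⁻¹ = g * (h * a * h⁻¹) * g⁻¹ := by group
        _ = (g * a * g⁻¹) * (g * z * g⁻¹) := by rw [hh]; group
        _ = a := by rw [hg, hzc g, mul_inv_cancel_right, mul_assoc, hzz, mul_one]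
    have hsplit : ∀ g : P, g ∈ N ∨ g₀ * g ∈ N := fun g =>
      (hconj g).elim (fun h => Or.inl ((hNmem g).2 h)) fun h => Or.inr (hswap _ _ hg₀ h)
    have hg₀N : g₀ ∉ N := fun h => hzne (hg₀.symm.trans ((hNmem _).1 h))
    have hg₀sq : g₀ * g₀ ∈ N := hswap _ _ hg₀ hg₀
    have hNidx : N.index = 2 := by
      rw [index_eq_two_iff]
      refine ⟨g₀, fun g => ?_⟩
      rw [xor_iff_not_iff]
      intro hiff
      rcases hconj g with h | h
      · have hgN := (hNmem g).2 h
        have := N.mul_mem (N.inv_mem hgN) (hiff.2 hgN)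
        rw [← mul_assoc, inv_mul_cancel, one_mul] at this
        exact hg₀N this
      · exact hzne (h.symm.trans ((hNmem g).1 (hiff.1 (hswap _ _ h hg₀))))
    haveI : N.Normal := normal_of_index_eq_two hNidx
    set W₁ := fix (φ a) with hW₁
    set W₂ := fix (φ (a * z)) with hW₂
    have hW₂' : ∀ y, y ∈ W₂ ↔ φ a y = y⁻¹ := by
      intro y
      rw [hW₂, mem_fix, map_mul, MulAut.mul_apply, hzinv, map_inv]
      exact inv_eq_iff_eq_inv
    have hdisj : ∀ y, y ∈ W₁ → y ∈ W₂ → y = 1 := by
      intro y h1 h2
      rw [hW₂'] at h2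
      rw [mem_fix.1 h1] at h2
      exact eq_one_of_sq hodd' (mul_eq_one_iff_eq_inv.2 h2)
    have hmulbij : Function.Bijective fun p : W₁ × W₂ => (p.1 : V) * p.2 := by
      constructor
      · rintro ⟨⟨u, hu⟩, ⟨v, hv⟩⟩ ⟨⟨u', hu'⟩, ⟨v', hv'⟩⟩ h
        simp only at h
        have h' : u'⁻¹ * u = v' * v⁻¹ := by
          rw [eq_mul_inv_iff_mul_eq, mul_assoc, h, inv_mul_cancel_left]
        have h1 := hdisj _ (W₁.mul_mem (W₁.inv_mem hu') hu) (h' ▸ W₂.mul_mem hv' (W₂.inv_mem hv))
        have hu_eq : u' = u := inv_mul_eq_one.1 h1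
        subst hu_eq
        have := mul_left_cancel h
        subst this
        rfl
      · intro y
        set s := (powCoprime (Nat.coprime_two_right.2 hodd')).symm
        have hs : ∀ w : V, s w * s w = w := fun w => by
          have := (powCoprime (Nat.coprime_two_right.2 hodd')).apply_symm_apply w
          rwa [powCoprime, Equiv.coe_fn_mk, pow_two] at this
        have hinj : ∀ u v : V, u * u = v * v → u = v := fun u v h =>
          mul_inv_eq_one.1 (eq_one_of_sq hodd' (by
            rw [mul_mul_mul_comm, h, ← mul_inv, mul_inv_cancel]))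
        have haa : ∀ w, φ a (φ a w) = w := fun w => by
          rw [← MulAut.mul_apply, hsq ha.2, MulAut.one_apply]
        refine ⟨(⟨s (y * φ a y), ?_⟩, ⟨s (y * (φ a y)⁻¹), ?_⟩), ?_⟩
        · rw [mem_fix]
          refine hinj _ _ ?_
          rw [← map_mul, hs, map_mul, haa, mul_comm]
        · rw [hW₂']
          refine hinj _ _ ?_
          rw [← map_mul, hs, map_mul, map_inv, haa, ← mul_inv, hs, mul_inv, inv_inv, mul_comm]
        · refine hinj _ _ ?_
          simp only
          rw [mul_mul_mul_comm, hs, hs, mul_mul_mul_comm, mul_inv_cancel, mul_one]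
    have hcardV : Nat.card W₁ * Nat.card W₂ = n := by
      rw [← Nat.card_prod, Nat.card_congr (Equiv.ofBijective _ hmulbij), hn]
    -- an element outside `N` exchanges the two
    have hmove : ∀ g : P, g * a * g⁻¹ = a * z →
        (∀ y ∈ W₁, φ g y ∈ W₂) ∧ (∀ y ∈ W₂, φ g y ∈ W₁) := by
      intro g hg
      constructor
      · intro y hy
        rw [hW₂, mem_fix, ← hg, ← MulAut.mul_apply, ← map_mul, inv_mul_cancel_right, map_mul,
          MulAut.mul_apply, mem_fix.1 hy]
      · intro y hy
        have hg' : g * (a * z) * g⁻¹ = a := by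
          rw [show g * (a * z) * g⁻¹ = (g * a * g⁻¹) * (g * z * g⁻¹) by group, hg, hzc g,
            mul_inv_cancel_right, mul_assoc, hzz, mul_one]
        rw [mem_fix, ← MulAut.mul_apply, ← map_mul]
        have : a * g = g * (a * z) := by
          nth_rewrite 1 [← hg']
          group
        rw [this, map_mul, MulAut.mul_apply]
        rw [show φ (a * z) y = y from hy]
    have hg₀i : g₀⁻¹ * a * g₀⁻¹⁻¹ = a * z :=
      (hconj g₀⁻¹).resolve_left fun h => hg₀N (inv_inv g₀ ▸ N.inv_mem ((hNmem _).2 h))
    have hNW : ∀ g ∈ N, (∀ y ∈ W₁, φ g y ∈ W₁) ∧ (∀ y ∈ W₂, φ g y ∈ W₂) := by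
      intro g hg
      have hcm : g * a = a * g := mul_inv_eq_iff_eq_mul.1 ((hNmem g).1 hg)
      constructor <;> intro y hy
      · rw [mem_fix] at hy ⊢
        rw [← MulAut.mul_apply, ← map_mul, ← hcm, map_mul, MulAut.mul_apply, hy]
      · rw [hW₂'] at hy ⊢
        rw [← MulAut.mul_apply, ← map_mul, ← hcm, map_mul, MulAut.mul_apply, hy, map_inv]
    have hcard12 : Nat.card W₁ = Nat.card W₂ := by
      apply le_antisymm
      · exact Nat.card_le_card_of_injective (fun y : W₁ => (⟨φ g₀ y, (hmove g₀ hg₀).1 y y.2⟩ : W₂))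
          fun y y' h => Subtype.ext ((φ g₀).injective (congrArg Subtype.val h))
      · exact Nat.card_le_card_of_injective (fun y : W₂ => (⟨φ g₀ y, (hmove g₀ hg₀).2 y y.2⟩ : W₁))
          fun y y' h => Subtype.ext ((φ g₀).injective (congrArg Subtype.val h))
    -- irreducibility on the two halves
    have hirr₁ : ∀ U : Subgroup V, U ≤ W₁ → (∀ g ∈ N, ∀ y ∈ U, φ g y ∈ U) → U = ⊥ ∨ U = W₁ := by
      intro U hU hUinv
      let T : Subgroup V := U ⊔ U.map (φ g₀).toMonoidHom
      have hT : ∀ g : P, ∀ y ∈ T, φ g y ∈ T := by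
        have hcase : ∀ g : P, ∀ y ∈ U, φ g y ∈ T := by
          intro g y hy
          rcases hsplit g with h | h
          · exact mem_sup_left (hUinv g h y hy)
          · -- `g = g₀⁻¹ (g₀ g)` and `g₀⁻¹ = g₀ (g₀ g₀)⁻¹`
            refine mem_sup_right ⟨φ ((g₀ * g₀)⁻¹) (φ (g₀ * g) y),
              hUinv _ (N.inv_mem hg₀sq) _ (hUinv _ h y hy), ?_⟩
            show φ g₀ _ = φ g y
            simp only [← MulAut.mul_apply, ← map_mul]
            congr 2
            group
        intro g y hy
        obtain ⟨u, hu, v, hv, rfl⟩ := mem_sup.1 hy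
        obtain ⟨u', hu', rfl⟩ := hv
        rw [map_mul]
        refine T.mul_mem (hcase g u hu) ?_
        show φ g (φ g₀ u') ∈ T
        rw [← MulAut.mul_apply, ← map_mul]
        exact hcase _ u' hu'
      rcases hirr T hT with h | h
      · exact Or.inl (eq_bot_iff.2 (le_sup_left.trans h.le))
      · right
        refine le_antisymm hU fun y hy => ?_
        obtain ⟨u, hu, v, ⟨u', hu', rfl⟩, rfl⟩ := mem_sup.1 (h ▸ mem_top y : y ∈ T)
        have h2 : φ g₀ u' ∈ W₁ := by
          have := W₁.mul_mem (W₁.inv_mem (hU hu)) hy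
          rwa [inv_mul_cancel_left] at this
        have h3 := hdisj _ h2 ((hmove g₀ hg₀).1 u' (hU hu'))
        show u * φ g₀ u' ∈ U
        rw [h3, mul_one]
        exact hu
    have hirr₂ : ∀ U : Subgroup V, U ≤ W₂ → (∀ g ∈ N, ∀ y ∈ U, φ g y ∈ U) → U = ⊥ ∨ U = W₂ := by
      intro U hU hUinv
      rcases hirr₁ (U.map (φ g₀).toMonoidHom) (by
          rintro _ ⟨y, hy, rfl⟩; exact (hmove g₀ hg₀).2 y (hU hy)) (by
          rintro g hg _ ⟨y, hy, rfl⟩
          refine ⟨φ (g₀⁻¹ * g * g₀) y, hUinv _ ?_ y hy, ?_⟩
          · have := Subgroup.Normal.conj_mem inferInstance g hg g₀⁻¹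
            rwa [inv_inv] at this
          · show φ g₀ _ = φ g (φ g₀ y)
            simp only [← MulAut.mul_apply, ← map_mul]
            congr 2
            group) with h | h
      · exact Or.inl ((map_eq_bot_iff_of_injective _ (φ g₀).injective).1 h)
      · right
        refine le_antisymm hU fun y hy => ?_
        obtain ⟨u, hu, hu2⟩ := h.ge ((hmove g₀ hg₀).2 y hy)
        rwa [← (φ g₀).injective hu2]
    -- the actions of `N` on the halves
    have mk : ∀ W : Subgroup V, (∀ g ∈ N, ∀ y ∈ W, φ g y ∈ W) →
        ∃ ψ : N →* MulAut W, ∀ g : N, ∀ y : W, (ψ g y : V) = φ g y := by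
      intro W hW
      refine ⟨{ toFun := fun g =>
                  { toFun := fun y => ⟨φ g y, hW g g.2 y y.2⟩
                    invFun := fun y => ⟨φ (g : P)⁻¹ y, hW _ (N.inv_mem g.2) y y.2⟩
                    left_inv := fun y => Subtype.ext (by
                      show φ (g : P)⁻¹ (φ g y.1) = y.1
                      rw [← MulAut.mul_apply, ← map_mul, inv_mul_cancel, map_one, MulAut.one_apply])
                    right_inv := fun y => Subtype.ext (by
                      show φ g (φ (g : P)⁻¹ y.1) = y.1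
                      rw [← MulAut.mul_apply, ← map_mul, mul_inv_cancel, map_one, MulAut.one_apply])
                    map_mul' := fun y y' => Subtype.ext (map_mul (φ g) y.1 y'.1) }
                map_one' := MulEquiv.ext fun y => Subtype.ext (by
                  show φ ((1 : N) : P) y.1 = y.1
                  simp)
                map_mul' := fun g h => MulEquiv.ext fun y => Subtype.ext (by
                  show φ ((g * h : N) : P) y.1 = φ g (φ h y.1)
                  simp) }, fun g y => rfl⟩
    obtain ⟨ψ₁, hψ₁⟩ := mk W₁ (fun g hg => (hNW g hg).1)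
    obtain ⟨ψ₂, hψ₂⟩ := mk W₂ (fun g hg => (hNW g hg).2)
    have hbot₁ : W₁ ≠ ⊥ := fun h => by
      have : φ a = φ z := MulEquiv.ext fun y => by
        rw [eq_inv_of_fix_bot (hsq ha.2) h y, hzinv]
      exact haz (hφ this ▸ mem_zpowers z)
    have hgt : 1 < Nat.card W₁ := (one_lt_card_iff_ne_bot _).2 hbot₁
    have hlt : Nat.card W₁ < n := by
      rw [← hcardV, ← hcard12]; exact lt_mul_of_one_lt_right (by omega) hgt
    have hoddW : Odd (Nat.card W₁) :=
      Odd.of_dvd_nat hodd (hcardV ▸ Dvd.intro _ rfl)
    have hirr' : ∀ W : Subgroup V, (∀ U : Subgroup V, U ≤ W →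
        (∀ g ∈ N, ∀ y ∈ U, φ g y ∈ U) → U = ⊥ ∨ U = W) → ∀ ψ : N →* MulAut W,
        (∀ g : N, ∀ y : W, (ψ g y : V) = φ g y) → Irred ψ.range.subtype := by
      intro W hW ψ hψ U hU
      rcases hW (U.map W.subtype) (map_subtype_le U) (by
          rintro g hg _ ⟨y, hy, rfl⟩
          exact ⟨ψ ⟨g, hg⟩ y, hU ⟨_, ⟨⟨g, hg⟩, rfl⟩⟩ y hy, hψ ⟨g, hg⟩ y⟩) with h | h
      · exact Or.inl ((map_eq_bot_iff_of_injective _ W.subtype_injective).1 h)
      · right
        refine eq_top_iff.2 fun y _ => ?_
        obtain ⟨u, hu, hu2⟩ := h.ge y.2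
        rwa [← W.subtype_injective hu2]
    have hPN := hP.to_subgroup N
    obtain ⟨r₁, hr₁, hb₁⟩ := IH _ hlt ψ₁.range W₁ rfl hoddW hgt
      (hPN.of_surjective ψ₁.rangeRestrict ψ₁.rangeRestrict_surjective) ψ₁.range.subtype
      (Subgroup.subtype_injective _) (hirr' W₁ hirr₁ ψ₁ hψ₁)
    obtain ⟨r₂, hr₂, hb₂⟩ := IH _ hlt ψ₂.range W₂ hcard12.symm hoddW hgt
      (hPN.of_surjective ψ₂.rangeRestrict ψ₂.rangeRestrict_surjective) ψ₂.range.subtype
      (Subgroup.subtype_injective _) (hirr' W₂ hirr₂ ψ₂ hψ₂)
    have hinjker : Function.Injective (ψ₂.rangeRestrict.comp ψ₁.ker.subtype) := by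
      rw [injective_iff_map_eq_one]
      intro g hg
      have hg2 : ψ₂ g.1 = 1 := congrArg Subtype.val hg
      have hg1 : ψ₁ g.1 = 1 := g.2
      refine Subtype.ext (Subtype.ext (hφ ((MulEquiv.ext fun y => ?_ : φ g.1.1 = 1).trans
        (map_one φ).symm)))
      obtain ⟨⟨u, v⟩, rfl⟩ := hmulbij.2 y
      simp only [map_mul, MulAut.one_apply]
      rw [← hψ₁, ← hψ₂, hg1, hg2, MulAut.one_apply, MulAut.one_apply]
    have hkerN : Gen (r₂ + r₁) N :=
      gen_ext ψ₁.rangeRestrict (by
        rw [MonoidHom.ker_rangeRestrict]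
        exact gen_of_injective _ hinjker hr₂) hr₁
    have hPgen : Gen (r₂ + r₁ + 1) P :=
      gen_ext (QuotientGroup.mk' N) (by rw [QuotientGroup.ker_mk']; exact hkerN)
        (gen_of_card_le_two (le_of_eq hNidx))
    have hprime : ∀ (W : Subgroup V), (Nat.card W).Prime → ∀ ψ : N →* MulAut W,
        Gen 1 ψ.range := by
      intro W hW ψ
      haveI : Fact (Nat.card W).Prime := ⟨hW⟩
      haveI : IsCyclic W := isCyclic_of_prime_card rfl
      haveI : IsCyclic (MulAut W) :=
        isCyclic_of_surjective (IsCyclic.mulAutMulEquiv W).symm (MulEquiv.surjective _)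
      exact gen_of_isCyclic
    rcases hb₁ with hb₁ | ⟨hp₁, hle₁⟩
    · rcases hb₂ with hb₂ | ⟨hp₂, hle₂⟩
      · refine ⟨_, hPgen, Or.inl ?_⟩
        rw [← hcardV, ← hcard12]
        calc 2 ^ (r₂ + r₁ + 1 + 1) = 2 ^ (r₁ + 1) * 2 ^ (r₂ + 1) := by
              rw [← pow_add]; ring_nf
          _ ≤ _ := Nat.mul_le_mul hb₁ hb₂
      · refine ⟨_, hPgen, Or.inl ?_⟩
        rw [← hcardV, ← hcard12]
        have h3 : 3 ≤ Nat.card W₁ := by
          have := hp₂.two_le; rcases hoddW with ⟨m, hm⟩; omega
        have h4 : 2 ^ (r₂ + r₁ + 1 + 1) ≤ 2 ^ (r₁ + 1) * 2 ^ 2 := by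
          rw [← pow_add]; exact Nat.pow_le_pow_right (by norm_num) (by omega)
        refine h4.trans ?_
        by_cases h5 : 4 ≤ Nat.card W₁
        · exact Nat.mul_le_mul hb₁ (by simpa using h5)
        · have h3' : Nat.card W₁ = 3 := by omega
          rw [h3'] at hb₁ ⊢
          have hr0 : r₁ = 0 := by
            by_contra h0
            have : 2 ^ 2 ≤ 2 ^ (r₁ + 1) := Nat.pow_le_pow_right (by norm_num) (by omega)
            omega
          rw [hr0]; norm_num
    · -- both halves of prime order
      by_cases h5 : 5 ≤ Nat.card W₁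
      · refine ⟨3, ?_, Or.inl ?_⟩
        · refine gen_ext (QuotientGroup.mk' N) (a := 2) ?_ (gen_of_card_le_two (le_of_eq hNidx))
          rw [QuotientGroup.ker_mk']
          refine gen_ext ψ₁.rangeRestrict (a := 1) ?_ (hprime W₁ hp₁ ψ₁)
          rw [MonoidHom.ker_rangeRestrict]
          exact gen_of_injective _ hinjker (hprime W₂ (hcard12 ▸ hp₁) ψ₂)
        · rw [← hcardV, ← hcard12]
          calc 2 ^ (3 + 1) ≤ 5 * 5 := by norm_num
            _ ≤ _ := Nat.mul_le_mul h5 h5
      · -- order nine
        have hW3 : Nat.card W₁ = 3 := by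
          have := hp₁.two_le; rcases hoddW with ⟨m, hm⟩; omega
        have hN4 : Nat.card N ≤ 4 := by
          have hle : ∀ W : Subgroup V, Nat.card W = 3 → Nat.card (MulAut W) = 2 := by
            intro W hW
            haveI : Fact (Nat.Prime 3) := ⟨Nat.prime_three⟩
            haveI : IsCyclic W := isCyclic_of_prime_card hW
            rw [Nat.card_congr (IsCyclic.mulAutMulEquiv W).toEquiv, hW, Nat.card_eq_fintype_card,
              ZMod.card_units_eq_totient]
            decide
          have hinj : Function.Injective fun g : N => (ψ₁ g, ψ₂ g) := by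
            intro g h hgh
            have h1 : g⁻¹ * h ∈ ψ₁.ker := by
              rw [MonoidHom.mem_ker, map_mul, map_inv, show ψ₁ g = ψ₁ h from congrArg Prod.fst hgh, inv_mul_cancel]
            have h2 := @hinjker ⟨_, h1⟩ 1 (Subtype.ext (by
              show ψ₂ (g⁻¹ * h) = ψ₂ 1
              rw [map_mul, map_inv, map_one, show ψ₂ g = ψ₂ h from congrArg Prod.snd hgh, inv_mul_cancel]))
            exact inv_mul_eq_one.1 (congrArg Subtype.val h2)
          refine (Nat.card_le_card_of_injective _ hinj).trans ?_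
          rw [Nat.card_prod, hle W₁ hW3, hle W₂ (hcard12 ▸ hW3)]
        have hP8 : Nat.card P ≤ 8 := by
          rw [← N.card_mul_index, hNidx]; omega
        refine ⟨2, ?_, Or.inl (le_trans (by norm_num) h9)⟩
        intro H
        by_cases hH : ∀ x ∈ H, ∀ y ∈ H, x * y = y * x
        · -- an abelian subgroup is proper
          have hne : H ≠ ⊤ := fun h => hzne (by
            rw [← hg₀, hH g₀ (h ▸ mem_top _) a (h ▸ mem_top _), mul_inv_cancel_right])
          obtain ⟨e, he⟩ := IsPGroup.iff_card.1 (hP.to_subgroup H)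
          have hlt8 : Nat.card H < 8 := lt_of_lt_of_le (lt_of_le_of_ne (card_le_card_group H)
            fun h => hne (eq_top_of_card_eq H h)) hP8
          have he2 : e ≤ 2 := by
            by_contra h
            have : 2 ^ 3 ≤ 2 ^ e := Nat.pow_le_pow_right (by norm_num) (by omega)
            omega
          by_cases he1 : e ≤ 1
          · obtain ⟨S, hS, hSc⟩ := gen_of_card_le_two (G := H) (by
              rw [he]; exact (Nat.pow_le_pow_right (by norm_num) he1).trans_eq (pow_one 2)) ⊤
            refine ⟨S.image Subtype.val, Finset.card_image_le.trans (hS.trans (by norm_num)), ?_⟩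
            have := congrArg (Subgroup.map H.subtype) hSc
            rw [MonoidHom.map_closure, ← MonoidHom.range_eq_map, range_subtype] at this
            rw [Finset.coe_image]; exact this
          · have h4 : Nat.card H = 4 := by rw [he, show e = 2 by omega]; norm_num
            obtain ⟨s, hs, hs1⟩ := exists_ne_one (H := H) (fun h => by
              rw [h, card_bot] at h4; omega)
            by_cases hsH : zpowers s = H
            · exact ⟨{s}, by simp, by rw [Finset.coe_singleton, ← zpowers_eq_closure, hsH]⟩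
            · obtain ⟨t, ht, hts⟩ : ∃ t ∈ H, t ∉ zpowers s := by
                by_contra h; push Not at h
                exact hsH (le_antisymm (zpowers_le.2 hs) h)
              refine ⟨{s, t}, (Finset.card_le_two), le_antisymm ?_ ?_⟩
              · rw [closure_le]
                intro u hu
                simp only [Finset.coe_insert, Finset.coe_singleton, Set.mem_insert_iff,
                  Set.mem_singleton_iff] at hu
                rcases hu with rfl | rfl <;> assumption
              · set C := Subgroup.closure ((({s, t} : Finset P)) : Set P)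
                have hsC : zpowers s ≤ C := zpowers_le.2 (Subgroup.subset_closure (by simp))
                have htC : t ∈ C := Subgroup.subset_closure (by simp)
                have hCH : C ≤ H := (closure_le _).2 (by
                  intro u hu
                  simp only [Finset.coe_insert, Finset.coe_singleton, Set.mem_insert_iff,
                    Set.mem_singleton_iff] at hu
                  rcases hu with rfl | rfl <;> assumption)
                have hd := card_dvd_of_le hCH
                rw [h4] at hd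
                have h1 : 2 ≤ Nat.card (zpowers s) :=
                  (one_lt_card_iff_ne_bot _).2 fun h => hs1 (zpowers_eq_bot.1 h)
                have h2 : Nat.card (zpowers s) < Nat.card C :=
                  lt_of_le_of_ne (card_le_of_le hsC) fun h =>
                    hts ((eq_of_le_of_card_ge hsC h.ge) ▸ htC)
                refine (eq_of_le_of_card_ge hCH ?_).ge
                rw [h4]
                generalize Nat.card C = m at hd h2
                have := Nat.le_of_dvd (by norm_num) hd
                interval_cases m <;> omega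
        · push Not at hH
          obtain ⟨s, hs, t, ht, hst⟩ := hH
          refine ⟨{s, t}, Finset.card_le_two, ?_⟩
          have hCH : Subgroup.closure ((({s, t} : Finset P)) : Set P) ≤ H := (closure_le _).2 (by
            intro u hu
            simp only [Finset.coe_insert, Finset.coe_singleton, Set.mem_insert_iff,
              Set.mem_singleton_iff] at hu
            rcases hu with rfl | rfl <;> assumption)
          set C := Subgroup.closure ((({s, t} : Finset P)) : Set P)
          have hCeq : C = ⊤ := by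
            obtain ⟨e, he⟩ := IsPGroup.iff_card.1 (hP.to_subgroup C)
            have he3 : 3 ≤ e := by
              by_contra h
              have hcomm : ∀ x ∈ C, ∀ y ∈ C, x * y = y * x := by
                intro x hx y hy
                have : IsMulCommutative C := by
                  have h' : e ≤ 2 := by omega
                  interval_cases e
                  · exact ⟨⟨fun x y => by
                      haveI := (Nat.card_eq_one_iff_unique.1 he).1
                      exact Subsingleton.elim _ _⟩⟩
                  · haveI : IsCyclic C := isCyclic_of_prime_card (p := 2) (by rw [he]; norm_num)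
                    exact IsCyclic.commutative
                  · exact ⟨⟨(IsPGroup.isMulCommutative_of_card_eq_prime_sq he).is_comm.comm⟩⟩
                exact congrArg Subtype.val (this.is_comm.comm ⟨x, hx⟩ ⟨y, hy⟩)
              exact hst (hcomm s (Subgroup.subset_closure (by simp)) t (Subgroup.subset_closure (by simp)))
            refine eq_top_of_card_eq _ (le_antisymm (card_le_card_group C) (hP8.trans ?_))
            rw [he]
            exact (Nat.pow_le_pow_right (by norm_num) he3).trans_eq' (by norm_num)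
          exact le_antisymm hCH (hCeq ▸ le_top)

end Cfsg.Agent.LinearTwoGroupGen44
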