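import Mathlib
import Cfsg.Prelude.Def_LocalStructure
import Cfsg.Agent.Lib.LocAmalgamCharP56
import Cfsg.Agent.Lib.TransferPResidual

/-! The iterated closures on the coset graph of an amalgam pair. -/

set_option autoImplicit false
set_option linter.all false

namespace Cfsg.Agent.LocAmalgam57

open Subgroup Cfsg.Agent.LocGroup56 Cfsg.Agent.LocAmalgam56 Cfsg.Agent.LocAmalgamCharP56
open scoped commutatorElement

variable {X : Type*} [Group X] {M₁ M₂ : Subgroup X} {p : ℕ}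

local notation "Γ" => Cfsg.cosetGraph M₁ M₂

theorem dist_smul_le (hc : M₁ ⊔ M₂ = ⊤) (g : X) (u v : Cfsg.CosetVertex M₁ M₂) :
    (Γ).dist (g • u) (g • v) ≤ (Γ).dist u v := by
  let f : (Γ) →g (Γ) := ⟨fun w => g • w, fun h => adj_smul g h⟩
  obtain ⟨w, hw⟩ := (connected hc).exists_walk_length_eq_dist u v
  have := SimpleGraph.dist_le (w.map f)
  rwa [SimpleGraph.Walk.length_map, hw] at this

/-- A Sylow subgroup transported by an automorphism of the ambient group. -/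
theorem sylow_map_equiv [Fact p.Prime] (f : X ≃* X) (H : Subgroup X) [Finite H] (S : Sylow p H) :
    ∃ T : Sylow p ↥(H.map f.toMonoidHom),
      (T : Subgroup ↥(H.map f.toMonoidHom)).map (H.map f.toMonoidHom).subtype =
        ((S : Subgroup H).map H.subtype).map f.toMonoidHom := by
  let e := H.equivMapOfInjective f.toMonoidHom f.injective
  haveI : Finite ↥(H.map f.toMonoidHom) := Finite.of_equiv _ e.toEquiv
  have hc : Nat.card ((S : Subgroup H).map e.toMonoidHom) =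
      p ^ (Nat.card ↥(H.map f.toMonoidHom)).factorization p := by
    rw [← Nat.card_congr e.toEquiv, ← S.card_eq_multiplicity]
    exact (Nat.card_congr ((S : Subgroup H).equivMapOfInjective e.toMonoidHom e.injective).toEquiv).symm
  refine ⟨Sylow.ofCard _ hc, ?_⟩
  rw [Sylow.coe_ofCard, Subgroup.map_map, Subgroup.map_map]
  rfl

theorem vertexZ_map_le [Fact p.Prime] (h : Cfsg.IsCharPAmalgamPair p M₁ M₂) (g : X)
    (μ : Cfsg.CosetVertex M₁ M₂) :
    (Cfsg.vertexZ p μ).map (MulAut.conj g).toMonoidHom ≤ Cfsg.vertexZ p (g • μ) := by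
  haveI := vertex_finite h μ
  unfold Cfsg.vertexZ Cfsg.sylowCenterClosure
  rw [Subgroup.map_iSup]
  refine iSup_le fun S => ?_
  rw [omega_center_map, stab_smul]
  obtain ⟨T, hT⟩ := sylow_map_equiv (MulAut.conj g) _ S
  rw [← hT]
  exact le_iSup_of_le T le_rfl

theorem vertexVIter_map_le [Fact p.Prime] (h : Cfsg.IsCharPAmalgamPair p M₁ M₂) (g : X) (n : ℕ)
    (δ : Cfsg.CosetVertex M₁ M₂) :
    (Cfsg.vertexVIter p M₁ M₂ n δ).map (MulAut.conj g).toMonoidHom ≤
      Cfsg.vertexVIter p M₁ M₂ n (g • δ) := by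
  unfold Cfsg.vertexVIter
  rw [Subgroup.map_iSup]
  refine iSup_le fun μ => (vertexZ_map_le h g μ).trans ?_
  exact le_iSup_of_le ⟨g • (μ : Cfsg.CosetVertex M₁ M₂), (dist_smul_le h.1.1 g _ _).trans μ.2⟩ le_rfl

theorem vertexVIter_smul [Fact p.Prime] (h : Cfsg.IsCharPAmalgamPair p M₁ M₂) (g : X) (n : ℕ)
    (δ : Cfsg.CosetVertex M₁ M₂) :
    (Cfsg.vertexVIter p M₁ M₂ n δ).map (MulAut.conj g).toMonoidHom =
      Cfsg.vertexVIter p M₁ M₂ n (g • δ) := by
  refine le_antisymm (vertexVIter_map_le h g n δ) fun x hx => ?_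
  have := vertexVIter_map_le h g⁻¹ n (g • δ) ⟨x, hx, rfl⟩
  rw [inv_smul_smul] at this
  exact ⟨_, this, by simp [mul_assoc]⟩

theorem stab_le_normalizer_vertexVIter [Fact p.Prime] (h : Cfsg.IsCharPAmalgamPair p M₁ M₂) (n : ℕ)
    (δ : Cfsg.CosetVertex M₁ M₂) :
    MulAction.stabilizer X δ ≤
      Subgroup.normalizer ((Cfsg.vertexVIter p M₁ M₂ n δ : Subgroup X) : Set X) :=
  le_normalizer_trans_map fun g hg => by
    rw [vertexVIter_smul h, MulAction.mem_stabilizer_iff.mp hg]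

theorem vertexVIter_le_of_dist (hc : M₁ ⊔ M₂ = ⊤) {δ μ : Cfsg.CosetVertex M₁ M₂} {k n : ℕ}
    (hle : (Γ).dist δ μ + k ≤ n) :
    Cfsg.vertexVIter p M₁ M₂ k μ ≤ Cfsg.vertexVIter p M₁ M₂ n δ := by
  refine iSup_le fun ν => le_iSup_of_le ⟨(ν : Cfsg.CosetVertex M₁ M₂), ?_⟩ le_rfl
  have := (connected hc).dist_triangle (u := δ) (v := μ) (w := (ν : Cfsg.CosetVertex M₁ M₂))
  have := ν.2
  omega

theorem vertexZ_le_vertexVIter {δ μ : Cfsg.CosetVertex M₁ M₂} {n : ℕ}
    (hle : (Γ).dist δ μ ≤ n) :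
    Cfsg.vertexZ p μ ≤ Cfsg.vertexVIter p M₁ M₂ n δ :=
  le_iSup_of_le ⟨μ, hle⟩ le_rfl

/-- `O^p(L_δ)`, with `L_δ` generated by the `p`-elements of the stabilizer. -/
abbrev resid (p : ℕ) (δ : Cfsg.CosetVertex M₁ M₂) : Subgroup X :=
  (Cfsg.pResidual p ↥(Cfsg.pElementClosure p (MulAction.stabilizer X δ))).map
    (Cfsg.pElementClosure p (MulAction.stabilizer X δ)).subtype

theorem resid_le (δ : Cfsg.CosetVertex M₁ M₂) : resid p δ ≤ MulAction.stabilizer X δ :=
  (Subgroup.map_subtype_le _).trans (pElementClosure_le p _)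

theorem stab_le_normalizer_pElementClosure (H : Subgroup X) :
    H ≤ Subgroup.normalizer ((Cfsg.pElementClosure p H : Subgroup X) : Set X) := by
  refine le_normalizer_of_conj fun g hg x hx => ?_
  have h1 : Cfsg.pElementClosure p H ≤ (Cfsg.pElementClosure p H).comap (MulAut.conj g).toMonoidHom := by
    refine (Subgroup.closure_le _).mpr fun y hy => Subgroup.subset_closure ⟨?_, ?_⟩
    · exact mul_mem (mul_mem hg hy.1) (inv_mem hg)
    · obtain ⟨k, hk⟩ := hy.2
      exact ⟨k, (orderOf_injective (MulAut.conj g).toMonoidHom (MulAut.conj g).injective y).trans hk⟩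
  exact h1 hx

theorem stab_le_normalizer_resid (δ : Cfsg.CosetVertex M₁ M₂) :
    MulAction.stabilizer X δ ≤ Subgroup.normalizer ((resid p δ : Subgroup X) : Set X) := by
  set L := Cfsg.pElementClosure p (MulAction.stabilizer X δ)
  refine le_normalizer_of_conj fun g hg x hx => ?_
  have hn : ∀ y ∈ L, g * y * g⁻¹ ∈ L := fun y hy =>
    conj_mem_of_mem_normalizer (stab_le_normalizer_pElementClosure _ hg) hy
  let c : ↥L →* ↥L :=
    { toFun := fun y => ⟨g * y * g⁻¹, hn y y.2⟩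
      map_one' := Subtype.ext (by simp)
      map_mul' := fun a b => Subtype.ext (by simp [mul_assoc]) }
  obtain ⟨y, hy, rfl⟩ := hx
  exact ⟨c y, TransferPResidual.map_pResidual_le c ⟨y, hy, rfl⟩, rfl⟩

/-- In the standing hypothesis, a Sylow normalizer of one end of an edge lies in the other end. -/
theorem exists_edge_sylow [Fact p.Prime] (h : Cfsg.IsSpeAmalgamPair p M₁ M₂)
    {a b : Cfsg.CosetVertex M₁ M₂} (hab : (Γ).Adj a b) :
    ∃ S : Sylow p ↥(Cfsg.edgeStabilizer a b),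
      MulAction.stabilizer X a ⊓ Subgroup.normalizer
        (((S : Subgroup ↥(Cfsg.edgeStabilizer a b)).map (Cfsg.edgeStabilizer a b).subtype : Subgroup X)
          : Set X) ≤ MulAction.stabilizer X b := by
  obtain ⟨hc, hN, -, -⟩ := h
  haveI := hc.2.1
  haveI : Finite ↥(M₁ ⊓ M₂) := Finite.of_injective _ (Subgroup.inclusion_injective inf_le_left)
  obtain ⟨S₀⟩ := (Sylow.nonempty : Nonempty (Sylow p ↥(M₁ ⊓ M₂)))
  obtain ⟨e1, e2⟩ := hN S₀
  obtain ⟨x, hx⟩ := exists_base hab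
  obtain ⟨T, hT⟩ := sylow_map_equiv (MulAut.conj x) _ S₀
  have key : ∀ E : Subgroup X, E = (M₁ ⊓ M₂).map (MulAut.conj x).toMonoidHom →
      ∀ A B : Subgroup X, A ⊓ Subgroup.normalizer ((((S₀ : Subgroup ↥(M₁ ⊓ M₂)).map
        (M₁ ⊓ M₂).subtype : Subgroup X)) : Set X) ≤ B →
      ∃ S : Sylow p ↥E, A.map (MulAut.conj x).toMonoidHom ⊓ Subgroup.normalizer
        (((S : Subgroup ↥E).map E.subtype : Subgroup X) : Set X) ≤
          B.map (MulAut.conj x).toMonoidHom := by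
    rintro E rfl A B hAB
    refine ⟨T, ?_⟩
    rw [hT, ← Subgroup.map_equiv_normalizer_eq, ← Subgroup.map_inf _ _ _ (MulAut.conj x).injective]
    exact Subgroup.map_mono hAB
  rcases hx with ⟨rfl, rfl⟩ | ⟨rfl, rfl⟩
  · obtain ⟨S, hS⟩ := key (Cfsg.edgeStabilizer (x • Sum.inl ((1 : X) : X ⧸ M₁))
      (x • Sum.inr ((1 : X) : X ⧸ M₂))) (by
        rw [Cfsg.edgeStabilizer, stab_smul, stab_smul, stab_base_left, stab_base_right,
          Subgroup.map_inf _ _ _ (MulAut.conj x).injective]) M₁ M₂ (e2.trans inf_le_right)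
    exact ⟨S, by rwa [stab_smul, stab_smul, stab_base_left, stab_base_right]⟩
  · obtain ⟨S, hS⟩ := key (Cfsg.edgeStabilizer (x • Sum.inr ((1 : X) : X ⧸ M₂))
      (x • Sum.inl ((1 : X) : X ⧸ M₁))) (by
        rw [Cfsg.edgeStabilizer, stab_smul, stab_smul, stab_base_left, stab_base_right,
          ← Subgroup.map_inf _ _ _ (MulAut.conj x).injective, inf_comm]) M₂ M₁
          (e1.ge.trans inf_le_left)
    exact ⟨S, by rwa [stab_smul, stab_smul, stab_base_left, stab_base_right]⟩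

/-- `G_a = O^p(L_a) G_{ab}`, so `O^p(L_a)` is transitive on the neighbours of `a`. -/
theorem exists_resid_smul [Fact p.Prime] (h : Cfsg.IsSpeAmalgamPair p M₁ M₂)
    {a b c : Cfsg.CosetVertex M₁ M₂} (hab : (Γ).Adj a b) (hac : (Γ).Adj a c) :
    ∃ r ∈ resid p a, r • b = c := by
  obtain ⟨g, hg, rfl⟩ := neighbours_transitive hab hac
  set A := MulAction.stabilizer X a
  haveI := vertex_finite h.1 a
  obtain ⟨S, hS⟩ := exists_edge_sylow h hab
  obtain ⟨P, hP⟩ := exists_sylow_of_edge h.1 hab S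
  set P' := (S : Subgroup ↥(Cfsg.edgeStabilizer a b)).map (Cfsg.edgeStabilizer a b).subtype
  set L := Cfsg.pElementClosure p A
  haveI : (L.subgroupOf A).Normal :=
    ⟨fun y hy x => (conj_mem_of_mem_normalizer (stab_le_normalizer_pElementClosure (p := p) A x.2) hy : (x : X) * y * (x : X)⁻¹ ∈ L)⟩
  have hPL : (P : Subgroup ↥A) ≤ L.subgroupOf A := by
    intro y hy
    obtain ⟨k, hk⟩ := IsPGroup.iff_orderOf.mp P.isPGroup' ⟨y, hy⟩
    exact Subgroup.subset_closure ⟨y.2, k, by rw [← hk, Subgroup.orderOf_mk]; exact orderOf_injective A.subtype A.subtype_injective y⟩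
  let P₀ := P.subtype hPL
  have hfr := Sylow.normalizer_sup_eq_top P₀
  have hP₀ : ((P₀ : Subgroup ↥(L.subgroupOf A)).map (L.subgroupOf A).subtype) = (P : Subgroup ↥A) :=
    Subgroup.map_subgroupOf_eq_of_le hPL
  rw [hP₀] at hfr
  set E := Cfsg.edgeStabilizer a b
  have hN : ∀ y : ↥A, y ∈ Subgroup.normalizer ((P : Subgroup ↥A) : Set ↥A) → (y : X) ∈ E := by
    intro y hy
    refine ⟨y.2, hS ⟨y.2, ?_⟩⟩
    show (y : X) ∈ Subgroup.normalizer ((P' : Subgroup X) : Set X)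
    rw [← hP]
    exact Subgroup.le_normalizer_map A.subtype ⟨y, hy, rfl⟩
  have hall : (⊤ : Subgroup ↥A) ≤ (resid p a ⊔ E).subgroupOf A := by
    rw [← hfr]
    refine sup_le (fun y hy => Subgroup.mem_sup_right (S := resid p a) (hN y hy)) ?_
    intro y hy
    haveI : Finite ↥L := Finite.of_injective _ (Subgroup.inclusion_injective (pElementClosure_le p A))
    obtain ⟨Q, hQ⟩ : ∃ Q : Sylow p ↥L, (Q : Subgroup ↥L).map L.subtype ≤ E := by
      refine ⟨Sylow.ofCard (P'.subgroupOf L) ?_, ?_⟩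
      · have hP'L : P' ≤ L := by
          rw [← hP]; rintro _ ⟨z, hz, rfl⟩; exact hPL hz
        rw [Nat.card_congr (Subgroup.subgroupOfEquivOfLe hP'L).toEquiv, ← hP,
          Subgroup.card_map_of_injective A.subtype_injective, ← hP₀,
          Subgroup.card_map_of_injective (L.subgroupOf A).subtype_injective, P₀.card_eq_multiplicity,
          Nat.card_congr (Subgroup.subgroupOfEquivOfLe (pElementClosure_le p A)).toEquiv]
      · rw [Sylow.coe_ofCard]
        rintro _ ⟨z, hz, rfl⟩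
        exact Subgroup.map_subtype_le _ hz
    have h1 : (⟨(y : X), hy⟩ : ↥L) ∈ (Q : Subgroup ↥L) ⊔ Cfsg.pResidual p ↥L := by
      rw [TransferPResidual.sylow_sup_pResidual]; trivial
    have h2 := Subgroup.mem_map_of_mem L.subtype h1
    rw [Subgroup.map_sup] at h2
    exact sup_le (hQ.trans le_sup_right) le_sup_left h2
  have hgm : g ∈ resid p a ⊔ E := hall (Subgroup.mem_top (⟨g, hg⟩ : ↥A))
  have hn : E ≤ Subgroup.normalizer ((resid p a : Subgroup X) : Set X) :=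
    inf_le_left.trans (stab_le_normalizer_resid a)
  have hgm' : g ∈ ((resid p a ⊔ E : Subgroup X) : Set X) := hgm
  rw [Subgroup.coe_mul_of_right_le_normalizer_left _ _ hn] at hgm'
  obtain ⟨r, hr, e, he, rfl⟩ := hgm'
  exact ⟨r, hr, by show r • b = (r * e) • b; rw [mul_smul, MulAction.mem_stabilizer_iff.mp he.2]⟩

theorem exists_adj_dist_lt (hc : M₁ ⊔ M₂ = ⊤) {a ν : Cfsg.CosetVertex M₁ M₂} (hne : a ≠ ν) :
    ∃ c, (Γ).Adj a c ∧ (Γ).dist c ν < (Γ).dist a ν :=
  exists_step hc hne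

theorem vertexZ_le_of_edge [Fact p.Prime] (h : Cfsg.IsCharPAmalgamPair p M₁ M₂)
    {a b : Cfsg.CosetVertex M₁ M₂} (hab : (Γ).Adj a b) :
    Cfsg.vertexZ p a ≤ ⨆ c : {c : Cfsg.CosetVertex M₁ M₂ // (Γ).Adj a c},
      Cfsg.vertexZ p (c : Cfsg.CosetVertex M₁ M₂) := by
  haveI := vertex_finite h a
  haveI : Finite ↥(Cfsg.edgeStabilizer a b) :=
    Finite.of_injective _ (Subgroup.inclusion_injective inf_le_left)
  obtain ⟨S⟩ := (Sylow.nonempty : Nonempty (Sylow p ↥(Cfsg.edgeStabilizer a b)))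
  obtain ⟨P, hP⟩ := exists_sylow_of_edge h hab S
  obtain ⟨P', hP'⟩ := exists_sylow_of_edge_right h hab S
  refine iSup_le fun P₂ => ?_
  obtain ⟨g, hg⟩ := MulAction.exists_smul_eq ↥(MulAction.stabilizer X a) P P₂
  rw [← hg, sylow_map_smul, ← omega_center_map, hP, ← hP']
  refine le_trans ?_ (le_iSup_of_le ⟨(g : X) • b,
    by
      have h9 := adj_smul (g : X) hab
      rwa [MulAction.mem_stabilizer_iff.mp g.2] at h9⟩ le_rfl)
  refine le_trans (Subgroup.map_mono ?_) (vertexZ_map_le h (g : X) b)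
  exact le_iSup_of_le P' le_rfl

/-- `V_a^{(n)}` is `U W` as soon as `[V_a^{(n)}, O^p(L_a)] ≤ W`, with `U = V_b^{(n-1)}`. -/
theorem vertexVIter_le_sup [Fact p.Prime] (h : Cfsg.IsSpeAmalgamPair p M₁ M₂)
    {a b : Cfsg.CosetVertex M₁ M₂} (hab : (Γ).Adj a b) (n : ℕ) {W : Subgroup X}
    (hW : ⁅Cfsg.vertexVIter p M₁ M₂ (n + 1) a, resid p a⁆ ≤ W) :
    Cfsg.vertexVIter p M₁ M₂ (n + 1) a ≤ Cfsg.vertexVIter p M₁ M₂ n b ⊔ W := by
  have hcon := h.1.1.1
  have hd : (Γ).dist a b = 1 := SimpleGraph.dist_eq_one_iff_adj.mpr hab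
  have key : ∀ c, (Γ).Adj a c →
      Cfsg.vertexVIter p M₁ M₂ n c ≤ Cfsg.vertexVIter p M₁ M₂ n b ⊔ W := by
    intro c hac
    obtain ⟨r, hr, rfl⟩ := exists_resid_smul h hab hac
    rw [← vertexVIter_smul h.1 r n b]
    rintro _ ⟨u, hu, rfl⟩
    have h1 : ⁅u⁻¹, r⁆ ∈ W := hW (Subgroup.commutator_mem_commutator
      (inv_mem (vertexVIter_le_of_dist hcon (by omega) hu)) hr)
    have e : r * u * r⁻¹ = u * ⁅u⁻¹, r⁆ := by rw [commutatorElement_def]; group
    show r * u * r⁻¹ ∈ _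
    rw [e]
    exact mul_mem (Subgroup.mem_sup_left hu) (Subgroup.mem_sup_right h1)
  refine iSup_le fun ν => ?_
  rcases eq_or_ne a (ν : Cfsg.CosetVertex M₁ M₂) with heq | hne
  · rw [← heq]
    refine (vertexZ_le_of_edge h.1 hab).trans (iSup_le fun c => le_trans ?_ (key c.1 c.2))
    exact vertexZ_le_vertexVIter (by rw [SimpleGraph.dist_self]; omega)
  · obtain ⟨c, hac, hlt⟩ := exists_step hcon hne
    refine le_trans (vertexZ_le_vertexVIter (δ := c) ?_) (key c hac)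
    have := ν.2
    omega

/-- A subgroup `V` of a finite `p`-group `Q` with `V = U [V,Q]`, `U` normalized by `Q`, equals `U`. -/
theorem eq_of_sup_commutator [Fact p.Prime] {U V Q : Subgroup X} [Finite Q] (hQ : IsPGroup p ↥Q)
    (hVQ : V ≤ Q) (hUV : U ≤ V) (hQU : Q ≤ Subgroup.normalizer (U : Set X))
    (h : V ≤ U ⊔ ⁅V, Q⁆) : V = U := by
  haveI : (U.subgroupOf Q).Normal :=
    ⟨fun y hy x => (conj_mem_of_mem_normalizer (hQU x.2) hy : (x : X) * y * (x : X)⁻¹ ∈ U)⟩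
  let f := QuotientGroup.mk' (U.subgroupOf Q)
  haveI := (hQ.to_quotient (U.subgroupOf Q)).isNilpotent
  set Vb := (V.subgroupOf Q).map f
  have h1 : Vb ≤ ⁅Vb, ⊤⁆ := by
    rintro _ ⟨v, hv, rfl⟩
    have hv' : (v : X) ∈ (U.subgroupOf Q ⊔ ⁅V.subgroupOf Q, (⊤ : Subgroup ↥Q)⁆).map Q.subtype := by
      rw [Subgroup.map_sup, Subgroup.map_commutator, Subgroup.map_subgroupOf_eq_of_le hVQ,
        Subgroup.map_subgroupOf_eq_of_le (hUV.trans hVQ), ← MonoidHom.range_eq_map, Subgroup.range_subtype]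
      exact h hv
    obtain ⟨w, hw, hwv⟩ := hv'
    rw [← show w = v from Subtype.ext hwv]
    have := Subgroup.mem_map_of_mem f hw
    rw [Subgroup.map_sup, Subgroup.map_commutator,
      Subgroup.map_top_of_surjective f (QuotientGroup.mk'_surjective _),
      (Subgroup.map_eq_bot_iff _).mpr (QuotientGroup.ker_mk' _).ge, bot_sup_eq] at this
    exact this
  have h2 : ∀ n, Vb ≤ Subgroup.lowerCentralSeries (⊤ : Subgroup (↥Q ⧸ U.subgroupOf Q)) n := by
    intro n
    induction n with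
    | zero => exact le_top
    | succ n ih => exact h1.trans (Subgroup.commutator_mono ih le_rfl)
  obtain ⟨n, hn⟩ := Subgroup.nilpotent_iff_lowerCentralSeries.mp (inferInstance : Group.IsNilpotent (↥Q ⧸ U.subgroupOf Q))
  refine le_antisymm (fun v hv => ?_) hUV
  have h3 : f ⟨v, hVQ hv⟩ = 1 := Subgroup.mem_bot.mp (hn ▸ h2 n ⟨⟨v, hVQ hv⟩, hv, rfl⟩)
  exact (QuotientGroup.eq_one_iff (⟨v, hVQ hv⟩ : ↥Q)).mp h3

theorem vertexZ_ne_bot [Fact p.Prime] (h : Cfsg.IsCharPAmalgamPair p M₁ M₂)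
    (a : Cfsg.CosetVertex M₁ M₂) : Cfsg.vertexZ p a ≠ ⊥ := by
  haveI := vertex_finite h a
  have hdvd : p ∣ Nat.card ↥(MulAction.stabilizer X a) := by
    obtain ⟨b, hab⟩ := exists_adj a
    obtain ⟨x, hx⟩ := exists_base hab
    obtain ⟨-, -, -, d1, d2, -, -, -⟩ := h
    rcases hx with ⟨rfl, -⟩ | ⟨-, rfl⟩ <;>
      rw [stab_smul, Subgroup.card_map_of_injective (MulAut.conj x).injective]
    · rwa [stab_base_left]
    · rwa [stab_base_right]
  obtain ⟨P⟩ := (Sylow.nonempty : Nonempty (Sylow p ↥(MulAction.stabilizer X a)))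
  intro h0
  set P' := (P : Subgroup _).map (MulAction.stabilizer X a).subtype
  have hP'p : IsPGroup p ↥P' := P.isPGroup'.map _
  haveI : Finite ↥P' := Finite.of_injective _ (Subgroup.inclusion_injective (Subgroup.map_subtype_le _))
  haveI : Nontrivial ↥P' := (Subgroup.nontrivial_iff_ne_bot _).mpr fun e =>
    P.ne_bot_of_dvd_card hdvd ((Subgroup.map_eq_bot_iff_of_injective _
      (MulAction.stabilizer X a).subtype_injective).mp e)
  haveI := hP'p.center_nontrivial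
  obtain ⟨z, hz⟩ := exists_ne (1 : Subgroup.center ↥P')
  set C := P' ⊓ Subgroup.centralizer ((P' : Subgroup X) : Set X)
  have hC : C ≠ ⊥ := by
    intro e
    apply hz
    have : ((z : ↥P') : X) ∈ C := ⟨(z : ↥P').2, fun y hy =>
      congrArg Subtype.val (Subgroup.mem_center_iff.mp z.2 ⟨y, hy⟩)⟩
    rw [e, Subgroup.mem_bot] at this
    exact Subtype.ext (Subtype.ext this)
  haveI : Finite ↥C := Finite.of_injective _ (Subgroup.inclusion_injective (inf_le_left : C ≤ P'))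
  have hle : Cfsg.omegaOne p C ≤ Cfsg.vertexZ p a := le_iSup_of_le P le_rfl
  rw [h0, le_bot_iff] at hle
  exact omegaOne_ne_bot (hP'p.to_le inf_le_left) hC hle

/-- `V_a^{(n+1)}` differs from `V_b^{(n)}`. -/
theorem vertexVIter_ne [Fact p.Prime] (h : Cfsg.IsSpeAmalgamPair p M₁ M₂)
    {a b : Cfsg.CosetVertex M₁ M₂} (hab : (Γ).Adj a b) (n : ℕ)
    (hQ : Cfsg.vertexVIter p M₁ M₂ (n + 1) a ≤ Cfsg.vertexQ p a) :
    Cfsg.vertexVIter p M₁ M₂ (n + 1) a ≠ Cfsg.vertexVIter p M₁ M₂ n b := by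
  intro heq
  set U := Cfsg.vertexVIter p M₁ M₂ n b with hU
  have hT : U ≤ Cfsg.edgeStabilizer a b :=
    heq ▸ hQ.trans (le_inf (Subgroup.map_subtype_le _)
      ((vertexQ_le_neighbourKernel h.1 a).trans (neighbourKernel_le hab)))
  have hbot := normalized_edge_eq_bot h.1.1 hab U hT (Subgroup.normalizer (U : Set X)) le_rfl
    (fun ν ν' hν hν' => by
      obtain ⟨g, hg, hgν⟩ := neighbours_transitive hν hν'
      exact ⟨g, heq ▸ stab_le_normalizer_vertexVIter h.1 (n + 1) a hg,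
        MulAction.mem_stabilizer_iff.mp hg, hgν⟩)
    (fun ν ν' hν hν' => by
      obtain ⟨g, hg, hgν⟩ := neighbours_transitive hν hν'
      exact ⟨g, stab_le_normalizer_vertexVIter h.1 n b hg, MulAction.mem_stabilizer_iff.mp hg, hgν⟩)
  apply vertexZ_ne_bot h.1 b
  rw [← le_bot_iff, ← hbot]
  exact vertexZ_le_vertexVIter (by rw [SimpleGraph.dist_self]; omega)

end Cfsg.Agent.LocAmalgam57
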