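import Mathlib
import Cfsg.Prelude.Def_Transfer

/-!
The averaging (trace) map from the fixed points of a subgroup of index prime to `p` on an abelian
normalized subgroup to the fixed points of the whole group.
-/

set_option autoImplicit false
set_option linter.all false

namespace Cfsg.Agent.LocAverage56

open Subgroup
open scoped commutatorElement

variable {G : Type*} [Group G] [Finite G] (V X S : Subgroup G) [IsMulCommutative ↥V]
  (hX : X ≤ Subgroup.normalizer (V : Set G))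

/-- The conjugate of `v` by `x`, as an element of `V`. -/
def cnj (x : ↥X) (v : ↥V) : ↥V :=
  ⟨(x : G) * v * (x : G)⁻¹, ((Subgroup.mem_normalizer_iff.mp (hX x.2)) v).mp v.2⟩

/-- The trace from `C_V(S)` to `V`. -/
noncomputable def tr : ↥(V ⊓ Subgroup.centralizer (S : Set G)) →* ↥V :=
  letI : CommGroup ↥V := { (inferInstance : Group ↥V) with
    mul_comm := (inferInstance : IsMulCommutative ↥V).is_comm.comm }
  letI : Fintype (↥X ⧸ S.subgroupOf X) := Fintype.ofFinite _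
  { toFun := fun v => ∏ q : ↥X ⧸ S.subgroupOf X,
      cnj V X hX q.out ⟨v, (Subgroup.mem_inf.mp v.2).1⟩
    map_one' := Finset.prod_eq_one fun q _ => Subtype.ext (by simp [cnj])
    map_mul' := fun a b => by
      rw [← Finset.prod_mul_distrib]
      exact Finset.prod_congr rfl fun q _ => Subtype.ext (by simp [cnj, mul_assoc]) }

theorem cnj_eq_of_mk_eq (v : ↥(V ⊓ Subgroup.centralizer (S : Set G))) {x y : ↥X}
    (h : (x : ↥X ⧸ S.subgroupOf X) = y) :
    cnj V X hX x ⟨v, (Subgroup.mem_inf.mp v.2).1⟩ = cnj V X hX y ⟨v, (Subgroup.mem_inf.mp v.2).1⟩ := by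
  have hs : (x : G)⁻¹ * y ∈ S := by
    have h' := QuotientGroup.eq.mp h
    rw [Subgroup.mem_subgroupOf] at h'
    simpa using h'
  have hc := Subgroup.mem_centralizer_iff.mp (Subgroup.mem_inf.mp v.2).2 _ hs
  refine Subtype.ext ?_
  show (x : G) * v * (x : G)⁻¹ = (y : G) * v * (y : G)⁻¹
  calc (x : G) * v * (x : G)⁻¹ = x * (v * ((x : G)⁻¹ * y)) * (y : G)⁻¹ := by group
    _ = x * (((x : G)⁻¹ * y) * v) * (y : G)⁻¹ := by rw [hc]
    _ = (y : G) * v * (y : G)⁻¹ := by group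

theorem tr_mem_centralizer (v : ↥(V ⊓ Subgroup.centralizer (S : Set G))) :
    (tr V X S hX v : G) ∈ Subgroup.centralizer (X : Set G) := by
  letI : CommGroup ↥V := { (inferInstance : Group ↥V) with
    mul_comm := (inferInstance : IsMulCommutative ↥V).is_comm.comm }
  letI : Fintype (↥X ⧸ S.subgroupOf X) := Fintype.ofFinite _
  refine Subgroup.mem_centralizer_iff.mpr fun x hx => ?_
  let φ : ↥V →* ↥V :=
    { toFun := cnj V X hX ⟨x, hx⟩
      map_one' := Subtype.ext (by simp [cnj])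
      map_mul' := fun a b => Subtype.ext (by simp [cnj, mul_assoc]) }
  have h : φ (tr V X S hX v) = tr V X S hX v := by
    show φ (∏ q : ↥X ⧸ S.subgroupOf X, cnj V X hX q.out ⟨v, _⟩) = _
    rw [map_prod]
    refine Fintype.prod_equiv (MulAction.toPerm (⟨x, hx⟩ : ↥X)) _ _ fun q => ?_
    refine Eq.trans ?_ (cnj_eq_of_mk_eq V X S hX v (x := (⟨x, hx⟩ : ↥X) * q.out) ?_)
    · exact Subtype.ext (by simp [φ, cnj, mul_assoc])
    · rw [QuotientGroup.out_eq']
      conv_rhs => rw [MulAction.toPerm_apply, ← QuotientGroup.out_eq' q]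
      rfl
  have h2 : x * (tr V X S hX v : G) * x⁻¹ = (tr V X S hX v : G) := congrArg Subtype.val h
  exact mul_inv_eq_iff_eq_mul.mp h2

theorem tr_pow_index (v : ↥(V ⊓ Subgroup.centralizer (S : Set G))) :
    ∃ w : ↥V, (w : G) ∈ ⁅V, X⁆ ∧
      (tr V X S hX v : G) = (w : G) * (v : G) ^ S.relIndex X := by
  letI : CommGroup ↥V := { (inferInstance : Group ↥V) with
    mul_comm := (inferInstance : IsMulCommutative ↥V).is_comm.comm }
  letI : Fintype (↥X ⧸ S.subgroupOf X) := Fintype.ofFinite _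
  let v' : ↥V := ⟨v, (Subgroup.mem_inf.mp v.2).1⟩
  let w : ↥V := ∏ q : ↥X ⧸ S.subgroupOf X, cnj V X hX q.out v' * v'⁻¹
  have hw : w ∈ (⁅V, X⁆).subgroupOf V := prod_mem fun q _ => by
    have h1 := Subgroup.inv_mem _ (Subgroup.commutator_mem_commutator (H₂ := X) v'.2 q.out.2)
    rw [Subgroup.mem_subgroupOf]
    simpa [cnj, commutatorElement_def, mul_assoc] using h1
  refine ⟨w, hw, ?_⟩
  have h : tr V X S hX v = w * v' ^ Fintype.card (↥X ⧸ S.subgroupOf X) := by
    show (∏ q : ↥X ⧸ S.subgroupOf X, cnj V X hX q.out v') = _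
    simp only [w]
    rw [Finset.prod_mul_distrib, Finset.prod_const, Finset.card_univ, inv_pow, inv_mul_cancel_right]
  rw [h, Subgroup.coe_mul, SubmonoidClass.coe_pow, ← Nat.card_eq_fintype_card]
  rfl

theorem tr_of_fixed (v : ↥(V ⊓ Subgroup.centralizer (S : Set G)))
    (hv : (v : G) ∈ Subgroup.centralizer (X : Set G)) :
    (tr V X S hX v : G) = (v : G) ^ S.relIndex X := by
  letI : CommGroup ↥V := { (inferInstance : Group ↥V) with
    mul_comm := (inferInstance : IsMulCommutative ↥V).is_comm.comm }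
  letI : Fintype (↥X ⧸ S.subgroupOf X) := Fintype.ofFinite _
  let v' : ↥V := ⟨v, (Subgroup.mem_inf.mp v.2).1⟩
  have h : tr V X S hX v = v' ^ Fintype.card (↥X ⧸ S.subgroupOf X) := by
    show (∏ q : ↥X ⧸ S.subgroupOf X, cnj V X hX q.out v') = _
    rw [← Finset.card_univ, ← Finset.prod_const]
    refine Finset.prod_congr rfl fun q _ => Subtype.ext ?_
    show (q.out : G) * (v : G) * (q.out : G)⁻¹ = (v : G)
    rw [Subgroup.mem_centralizer_iff.mp hv _ q.out.2, mul_inv_cancel_right]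
  rw [h, SubmonoidClass.coe_pow, ← Nat.card_eq_fintype_card]
  rfl

theorem tr_conj {t : G} (htV : t ∈ Subgroup.normalizer (V : Set G))
    (htX : t ∈ Subgroup.normalizer (X : Set G)) (htS : t ∈ Subgroup.normalizer (S : Set G))
    (v v₁ : ↥(V ⊓ Subgroup.centralizer (S : Set G))) (hv₁ : (v₁ : G) = t * v * t⁻¹) :
    (tr V X S hX v₁ : G) = t * (tr V X S hX v : G) * t⁻¹ := by
  letI : CommGroup ↥V := { (inferInstance : Group ↥V) with
    mul_comm := (inferInstance : IsMulCommutative ↥V).is_comm.comm }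
  letI : Fintype (↥X ⧸ S.subgroupOf X) := Fintype.ofFinite _
  have hfwd : ∀ x ∈ X, t * x * t⁻¹ ∈ X := fun x hx =>
    ((Subgroup.mem_normalizer_iff.mp htX) x).mp hx
  have hbwd : ∀ x ∈ X, t⁻¹ * x * t ∈ X := fun x hx => by
    refine ((Subgroup.mem_normalizer_iff.mp htX) _).mpr ?_
    simpa [mul_assoc] using hx
  let e : ↥X ≃ ↥X :=
    { toFun := fun x => ⟨t * x * t⁻¹, hfwd x x.2⟩
      invFun := fun x => ⟨t⁻¹ * x * t, hbwd x x.2⟩
      left_inv := fun x => Subtype.ext (by simp [mul_assoc])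
      right_inv := fun x => Subtype.ext (by simp [mul_assoc]) }
  have hrel : ∀ x y : ↥X, x⁻¹ * y ∈ S.subgroupOf X ↔ (e x)⁻¹ * e y ∈ S.subgroupOf X := by
    intro x y
    simp only [Subgroup.mem_subgroupOf, Subgroup.coe_mul, InvMemClass.coe_inv]
    rw [(Subgroup.mem_normalizer_iff.mp htS) ((x : G)⁻¹ * y)]
    show _ ↔ (t * x * t⁻¹)⁻¹ * (t * y * t⁻¹) ∈ S
    rw [show (t * x * t⁻¹)⁻¹ * (t * (y : G) * t⁻¹) = t * ((x : G)⁻¹ * y) * t⁻¹ by group]
  let ē : (↥X ⧸ S.subgroupOf X) ≃ (↥X ⧸ S.subgroupOf X) := Quotient.congr e fun x y => by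
    show (QuotientGroup.leftRel _) x y ↔ (QuotientGroup.leftRel _) (e x) (e y)
    rw [QuotientGroup.leftRel_apply, QuotientGroup.leftRel_apply]
    exact hrel x y
  let φ : ↥V →* ↥V :=
    { toFun := fun w => ⟨t * w * t⁻¹, ((Subgroup.mem_normalizer_iff.mp htV) w).mp w.2⟩
      map_one' := Subtype.ext (by simp)
      map_mul' := fun a b => Subtype.ext (by simp [mul_assoc]) }
  have h : φ (tr V X S hX v) = tr V X S hX v₁ := by
    show φ (∏ q : ↥X ⧸ S.subgroupOf X, cnj V X hX q.out _) = _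
    rw [map_prod]
    refine Fintype.prod_equiv ē _ _ fun q => ?_
    refine Eq.trans ?_ (cnj_eq_of_mk_eq V X S hX v₁ (x := e q.out) ?_)
    · refine Subtype.ext ?_
      show t * ((q.out : G) * (v : G) * (q.out : G)⁻¹) * t⁻¹ =
        (t * (q.out : G) * t⁻¹) * (v₁ : G) * (t * (q.out : G) * t⁻¹)⁻¹
      rw [hv₁]; group
    · rw [QuotientGroup.out_eq']
      conv_rhs => rw [← QuotientGroup.out_eq' q]
      rfl
  exact (congrArg Subtype.val h).symm

/-- Fixed points of a subgroup of index prime to `p` lie in `[V, X] C_V(X)`. -/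
theorem mem_commutator_sup_fixed {p : ℕ} (hVp : IsPGroup p ↥V) (hidx : (S.relIndex X).Coprime p)
    {v : G} (hv : v ∈ V ⊓ Subgroup.centralizer (S : Set G))
    (hX : X ≤ Subgroup.normalizer (V : Set G)) :
    v ∈ ⁅V, X⁆ ⊔ (V ⊓ Subgroup.centralizer (X : Set G)) := by
  obtain ⟨w, hw, he⟩ := tr_pow_index V X S hX ⟨v, hv⟩
  have hvm : v ^ S.relIndex X ∈ ⁅V, X⁆ ⊔ (V ⊓ Subgroup.centralizer (X : Set G)) := by
    have e : v ^ S.relIndex X = (w : G)⁻¹ * (tr V X S hX ⟨v, hv⟩ : G) := by rw [he]; group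
    rw [e]
    exact mul_mem (inv_mem (Subgroup.mem_sup_left hw))
      (Subgroup.mem_sup_right ⟨(tr V X S hX ⟨v, hv⟩).2, tr_mem_centralizer V X S hX _⟩)
  obtain ⟨k, hk⟩ := hVp ⟨v, (Subgroup.mem_inf.mp hv).1⟩
  have hord : orderOf v ∣ p ^ k :=
    orderOf_dvd_of_pow_eq_one (by simpa [Subtype.ext_iff] using hk)
  obtain ⟨m, hm⟩ := exists_pow_eq_self_of_coprime (x := v)
    (Nat.Coprime.coprime_dvd_right hord (hidx.pow_right k))
  exact hm ▸ pow_mem hvm m

end Cfsg.Agent.LocAverage56
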