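import Mathlib
import Cfsg.Agent.Lib.LocPReduced56
import Cfsg.Agent.Lib.StrongPEmb
import Cfsg.Agent.Lib.LocAverage56
import Cfsg.Agent.Lib.PGroupsBasic

/-!
Kieler's Lemma for groups of characteristic `p`.
-/

set_option autoImplicit false
set_option linter.all false

namespace Cfsg.Agent.LocKieler56

open Subgroup Cfsg.Agent.LocGroup56 Cfsg.Agent.LocCoprime56 Cfsg.Agent.LocPReduced56
open scoped commutatorElement

variable {G : Type*} [Group G] [Finite G] {p : ℕ} [hp : Fact p.Prime]

theorem normal_map_conj (N : Subgroup G) [N.Normal] (g : G) :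
    N.map (MulAut.conj g).toMonoidHom = N :=
  Subgroup.mem_normalizer_iff_map_conj_eq.mp
    (Subgroup.le_normalizer_of_normal (K := (⊤ : Subgroup G)) (Subgroup.mem_top g))

theorem charP_of_normal (hchar : Subgroup.centralizer (Cfsg.pCore p G : Set G) ≤ Cfsg.pCore p G)
    (K : Subgroup G) [K.Normal] :
    Subgroup.centralizer (Cfsg.pCore p K : Set K) ≤ Cfsg.pCore p K := by
  refine le_pCore (centralizer_normal (pCore_normal p K)) (isPGroup_of_coprime_eq_one fun a ha hac => ?_)
  let B : ℕ → Subgroup G := fun i =>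
    if i = 0 then ⊥ else if i = 1 then Cfsg.pCore p G ⊓ K else Cfsg.pCore p G
  have h := commute_of_chain (pCore_isPGroup p G) (a := (a : G)) (by rwa [orderOf_coe]) 2 B
    (fun i _ => by
      simp only [B]; split_ifs
      · exact bot_le
      · exact inf_le_left
      · exact le_rfl) rfl
    (fun i hi x hx => by
      rcases Nat.lt_succ_iff.mp hi |>.eq_or_lt with rfl | hi0
      · have hx' : x ∈ Cfsg.pCore p G := hx
        show ⁅x, (a : G)⁆ ∈ Cfsg.pCore p G ⊓ K
        refine Subgroup.mem_inf.mpr ⟨?_, ?_⟩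
        · have h1 := mul_mem hx' ((pCore_normal p G).conj_mem _ (inv_mem hx') (a : G))
          rw [commutatorElement_def]
          simpa only [mul_assoc] using h1
        · have h1 := mul_mem ((inferInstance : K.Normal).conj_mem _ a.2 x) (inv_mem a.2)
          rw [commutatorElement_def]
          exact h1
      · obtain rfl : i = 0 := by omega
        obtain ⟨hx1, hx2⟩ := Subgroup.mem_inf.mp hx
        have hmem : (⟨x, hx2⟩ : K) ∈ Cfsg.pCore p K :=
          le_pCore ((pCore_normal p G).subgroupOf K)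
            ((pCore_isPGroup p G).comap_of_injective _ K.subtype_injective) hx1
        have := congrArg Subtype.val (Subgroup.mem_centralizer_iff.mp ha _ hmem)
        rw [show ⁅x, (a : G)⁆ = 1 from commutatorElement_eq_one_iff_commute.mpr this]
        exact Subgroup.one_mem _) 2 le_rfl
  have haQ : (a : G) ∈ Cfsg.pCore p G :=
    hchar (Subgroup.mem_centralizer_iff.mpr fun x hx => (h x hx).symm.eq)
  exact Subtype.ext (eq_one_of_pGroup (pCore_isPGroup p G) haQ (by rwa [orderOf_coe]))

/-- The centralizer in `L` of `Ω₁(Z(T))`, and that of `Ω₁(Z(T ⊓ L))`, for normal `L`. -/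
theorem kieler_normal (hchar : Subgroup.centralizer (Cfsg.pCore p G : Set G) ≤ Cfsg.pCore p G)
    (T : Sylow p G) (L : Subgroup G) [hLn : L.Normal] (x : G) (hx : x ∈ L) :
    (∀ z ∈ Cfsg.omegaOne p ((T : Subgroup G) ⊓ Subgroup.centralizer ((T : Subgroup G) : Set G)),
      Commute x z) ↔
    ∀ z ∈ Cfsg.omegaOne p (((T : Subgroup G) ⊓ L) ⊓
      Subgroup.centralizer ((((T : Subgroup G) ⊓ L) : Subgroup G) : Set G)), Commute x z := by
  set Q := Cfsg.pCore p G with hQ
  set S : Subgroup G := (T : Subgroup G) ⊓ L with hS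
  set Z := Cfsg.omegaOne p ((T : Subgroup G) ⊓ Subgroup.centralizer ((T : Subgroup G) : Set G)) with hZ
  set ZL := Cfsg.omegaOne p (S ⊓ Subgroup.centralizer (S : Set G)) with hZL
  have hQn : Q.Normal := pCore_normal p G
  have hQT : Q ≤ (T : Subgroup G) := pCore_le_sylow T
  have hZT : ∀ z ∈ Z, z ∈ (T : Subgroup G) ∧ ∀ t ∈ (T : Subgroup G), Commute t z := fun z hz => by
    obtain ⟨h1, h2⟩ := Subgroup.mem_inf.mp (omegaOne_le p _ hz)
    exact ⟨h1, fun t ht => Subgroup.mem_centralizer_iff.mp h2 t ht⟩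
  have hZel := omegaOne_elementary (p := p) (inf_centralizer_comm (T : Subgroup G))
  set V := Cfsg.omegaOne p (Q ⊓ Subgroup.centralizer (Q : Set G)) with hV
  have hVel : Cfsg.IsElementaryAbelian p V := omegaOne_elementary (inf_centralizer_comm Q)
  haveI : IsMulCommutative ↥V := hVel.1
  haveI hVn : V.Normal := ⟨fun v hv g => by
    have hmap : V.map (MulAut.conj g).toMonoidHom = V := by
      rw [hV, omegaOne_map p _ (MulAut.conj g).injective, map_inf_centralizer _
        (MulAut.conj g).injective, normal_map_conj Q g]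
    rw [← hmap]
    exact ⟨v, hv, rfl⟩⟩
  have hidx : (S.relIndex L).Coprime p := by
    rw [hS, Subgroup.inf_relIndex_right]
    exact ((Fact.out : p.Prime).coprime_iff_not_dvd.mpr
      (Cfsg.Agent.StrongPEmb.not_dvd_relIndex_sylow T L)).symm
  constructor
  · -- from `Z` to `Z_L`: fixed points of `S` are fixed points of `X = C_L(Z)`
    intro hxZ
    set X : Subgroup G := L ⊓ Subgroup.centralizer (Z : Set G) with hX
    have hSX : S ≤ X := le_inf inf_le_right fun s hs =>
      Subgroup.mem_centralizer_iff.mpr fun z hz => ((hZT z hz).2 s (Subgroup.mem_inf.mp hs).1).symm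
    set U := Cfsg.omegaOne p ((Q ⊓ L) ⊓ Subgroup.centralizer ((Q ⊓ L : Subgroup G) : Set G)) with hU
    have hUel : Cfsg.IsElementaryAbelian p U := omegaOne_elementary (inf_centralizer_comm _)
    haveI : IsMulCommutative ↥U := hUel.1
    haveI hQLn : (Q ⊓ L).Normal := inferInstance
    haveI hUn : U.Normal := ⟨fun v hv g => by
      have hmap : U.map (MulAut.conj g).toMonoidHom = U := by
        rw [hU, omegaOne_map p _ (MulAut.conj g).injective, map_inf_centralizer _
          (MulAut.conj g).injective, normal_map_conj (Q ⊓ L) g]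
      rw [← hmap]
      exact ⟨v, hv, rfl⟩⟩
    have hUT : U ≤ (T : Subgroup G) := (omegaOne_le p _).trans
      (inf_le_left.trans (inf_le_left.trans hQT))
    have hXU : X ≤ Subgroup.normalizer (U : Set G) := Subgroup.le_normalizer_of_normal
    have hidxX : (S.relIndex X).Coprime p := by
      refine Nat.Coprime.coprime_dvd_left ?_ hidx
      exact Dvd.intro _ (Subgroup.relIndex_mul_relIndex S X L hSX inf_le_left)
    have hinj : ∀ v : ↥(U ⊓ Subgroup.centralizer (S : Set G)),
        Cfsg.Agent.LocAverage56.tr U X S hXU v = 1 → v = 1 := by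
      let M : Subgroup G := (Cfsg.Agent.LocAverage56.tr U X S hXU).ker.map
        (U ⊓ Subgroup.centralizer (S : Set G)).subtype
      have hMT : M ≤ (T : Subgroup G) := (Subgroup.map_subtype_le _).trans (inf_le_left.trans hUT)
      have hMn : ∀ t ∈ (T : Subgroup G), ∀ m ∈ M, t * m * t⁻¹ ∈ M := by
        rintro t ht _ ⟨v, hv, rfl⟩
        have htS : t ∈ Subgroup.normalizer (S : Set G) := by
          refine le_normalizer_of_conj (K := (T : Subgroup G)) (fun g hg y hy => ?_) ht
          exact Subgroup.mem_inf.mpr ⟨mul_mem (mul_mem hg (Subgroup.mem_inf.mp hy).1) (inv_mem hg),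
            hLn.conj_mem y (Subgroup.mem_inf.mp hy).2 g⟩
        have htX : t ∈ Subgroup.normalizer (X : Set G) := by
          refine le_normalizer_of_conj (K := (T : Subgroup G)) (fun g hg y hy => ?_) ht
          refine Subgroup.mem_inf.mpr ⟨hLn.conj_mem y (Subgroup.mem_inf.mp hy).1 g, ?_⟩
          refine Subgroup.mem_centralizer_iff.mpr fun z hz => ?_
          have h1 : Commute g z := (hZT z hz).2 g hg
          have h2 : Commute z y := Subgroup.mem_centralizer_iff.mp (Subgroup.mem_inf.mp hy).2 z hz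
          exact ((h1.symm.mul_right h2).mul_right h1.symm.inv_right).eq
        obtain ⟨hv1, hv2⟩ := Subgroup.mem_inf.mp v.2
        have hv' : t * (v : G) * t⁻¹ ∈ U ⊓ Subgroup.centralizer (S : Set G) := by
          refine Subgroup.mem_inf.mpr ⟨hUn.conj_mem _ hv1 t, Subgroup.mem_centralizer_iff.mpr fun s hs => ?_⟩
          have hs' := conj_mem_of_mem_normalizer (inv_mem htS) hs
          rw [inv_inv] at hs'
          have h4 : Commute (t⁻¹ * s * t) (v : G) := Subgroup.mem_centralizer_iff.mp hv2 _ hs'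
          have h5 := h4.map (MulAut.conj t).toMonoidHom
          simpa [mul_assoc, Commute, SemiconjBy] using h5
        refine ⟨⟨_, hv'⟩, ?_, rfl⟩
        rw [SetLike.mem_coe, MonoidHom.mem_ker] at *
        refine Subtype.ext ?_
        rw [Cfsg.Agent.LocAverage56.tr_conj U X S hXU (Subgroup.le_normalizer_of_normal
          (K := (⊤ : Subgroup G)) (Subgroup.mem_top t)) htX htS v ⟨_, hv'⟩ rfl, hv]
        simp
      intro v hv
      by_contra hne
      have hMne : M.subgroupOf (T : Subgroup G) ≠ ⊥ := by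
        intro e
        rw [Subgroup.subgroupOf_eq_bot, disjoint_iff, inf_of_le_left hMT] at e
        refine hne (Subtype.ext ?_)
        have : (v : G) ∈ M := ⟨v, hv, rfl⟩
        rwa [e, Subgroup.mem_bot] at this
      haveI : (M.subgroupOf (T : Subgroup G)).Normal := ⟨fun m hm t => hMn t t.2 m hm⟩
      have hne2 := Cfsg.Agent.PGroupsBasic.inf_center_ne_bot T.isPGroup' hMne
      obtain ⟨m, hm, hm1⟩ := (Subgroup.ne_bot_iff_exists_ne_one).mp hne2 |>.elim
        (fun m hm => (⟨(m : ↥(T : Subgroup G)), m.2, fun e => hm (Subtype.ext e)⟩ :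
          ∃ m : ↥(T : Subgroup G), m ∈ M.subgroupOf (T : Subgroup G) ⊓ Subgroup.center _ ∧ m ≠ 1))
      obtain ⟨hmM, hmc⟩ := Subgroup.mem_inf.mp hm
      obtain ⟨w, hw, hwm⟩ := hmM
      simp only [Subgroup.coe_subtype] at hwm
      have hmU : (m : G) ∈ U := hwm ▸ (Subgroup.mem_inf.mp w.2).1
      have hmp : (m : G) ^ p = 1 := hUel.2 _ hmU
      have hmZ : (m : G) ∈ Z := mem_omegaOne (Subgroup.mem_inf.mpr ⟨m.2,
        Subgroup.mem_centralizer_iff.mpr fun t ht =>
          congrArg Subtype.val (Subgroup.mem_center_iff.mp hmc ⟨t, ht⟩)⟩) hmp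
      have hfix : (w : G) ∈ Subgroup.centralizer (X : Set G) := by
        rw [hwm]
        refine Subgroup.mem_centralizer_iff.mpr fun y hy => ?_
        exact (Subgroup.mem_centralizer_iff.mp (Subgroup.mem_inf.mp hy).2 _ hmZ).symm
      have h1 := Cfsg.Agent.LocAverage56.tr_of_fixed U X S hXU w hfix
      rw [show Cfsg.Agent.LocAverage56.tr U X S hXU w = 1 from hw, hwm, Subgroup.coe_one] at h1
      refine hm1 (Subtype.ext ?_)
      have h2 : orderOf (m : G) ∣ p := orderOf_dvd_of_pow_eq_one hmp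
      have h3 : orderOf (m : G) ∣ S.relIndex X := orderOf_dvd_of_pow_eq_one h1.symm
      exact orderOf_eq_one_iff.mp (Nat.eq_one_of_dvd_coprimes hidxX h3 h2)
    have hchL := charP_of_normal hchar L
    have hle : Cfsg.pCore p ↥L ≤ (Q ⊓ L).subgroupOf L := by
      have hn : ((Cfsg.pCore p ↥L).map L.subtype).Normal :=
        ⟨fun a ha g => by
          obtain ⟨b, hb, rfl⟩ := ha
          exact ⟨MulAut.conjNormal g b, (pCore_map_equiv p (MulAut.conjNormal g : MulAut L)) ▸
            ⟨b, hb, rfl⟩, by simp⟩⟩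
      intro a ha
      exact Subgroup.mem_inf.mpr ⟨le_pCore hn ((pCore_isPGroup p L).map _) ⟨a, ha, rfl⟩, a.2⟩
    intro z hz
    obtain ⟨hzS, hzC⟩ := Subgroup.mem_inf.mp (omegaOne_le p _ hz)
    have hzU : z ∈ U := by
      refine mem_omegaOne (Subgroup.mem_inf.mpr ⟨?_, ?_⟩) ((omegaOne_elementary
        (inf_centralizer_comm S)).2 z hz)
      · refine (hle (hchL (Subgroup.mem_centralizer_iff.mpr fun a ha => Subtype.ext ?_)
          : (⟨z, (Subgroup.mem_inf.mp hzS).2⟩ : L) ∈ _))
        obtain ⟨ha1, ha2⟩ := Subgroup.mem_inf.mp (hle ha)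
        exact Subgroup.mem_centralizer_iff.mp hzC _ (Subgroup.mem_inf.mpr ⟨hQT ha1, ha2⟩)
      · exact Subgroup.mem_centralizer_iff.mpr fun a ha => Subgroup.mem_centralizer_iff.mp hzC a
          (Subgroup.mem_inf.mpr ⟨hQT (Subgroup.mem_inf.mp ha).1, (Subgroup.mem_inf.mp ha).2⟩)
    let v : ↥(U ⊓ Subgroup.centralizer (S : Set G)) := ⟨z, Subgroup.mem_inf.mpr ⟨hzU, hzC⟩⟩
    let k := S.relIndex X
    have htv : (Cfsg.Agent.LocAverage56.tr U X S hXU v : G) ∈
        U ⊓ Subgroup.centralizer (S : Set G) :=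
      Subgroup.mem_inf.mpr ⟨(Cfsg.Agent.LocAverage56.tr U X S hXU v).2,
        Subgroup.centralizer_le (SetLike.coe_subset_coe.mpr hSX)
          (Cfsg.Agent.LocAverage56.tr_mem_centralizer U X S hXU v)⟩
    have hzero := hinj (v ^ k * (⟨_, htv⟩ : ↥(U ⊓ Subgroup.centralizer (S : Set G)))⁻¹) (by
      rw [map_mul, map_pow, map_inv]
      have h1 : (Cfsg.Agent.LocAverage56.tr U X S hXU ⟨_, htv⟩ : G) =
          (Cfsg.Agent.LocAverage56.tr U X S hXU v : G) ^ k :=
        Cfsg.Agent.LocAverage56.tr_of_fixed U X S hXU ⟨_, htv⟩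
          (Cfsg.Agent.LocAverage56.tr_mem_centralizer U X S hXU v)
      refine Subtype.ext ?_
      simp [h1])
    have hzk : z ^ k = (Cfsg.Agent.LocAverage56.tr U X S hXU v : G) := by
      have := congrArg Subtype.val hzero
      simpa [v, mul_inv_eq_one] using this
    have hcz : z ^ k ∈ Subgroup.centralizer (X : Set G) :=
      hzk ▸ Cfsg.Agent.LocAverage56.tr_mem_centralizer U X S hXU v
    have hord : orderOf z ∣ p := orderOf_dvd_of_pow_eq_one (hUel.2 z hzU)
    obtain ⟨m, hm⟩ := exists_pow_eq_self_of_coprime (x := z)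
      (Nat.Coprime.coprime_dvd_right hord hidxX)
    have hzX : z ∈ Subgroup.centralizer (X : Set G) := hm ▸ pow_mem hcz m
    exact Subgroup.mem_centralizer_iff.mp hzX x (Subgroup.mem_inf.mpr ⟨hx,
      Subgroup.mem_centralizer_iff.mpr fun w hw => (hxZ w hw).symm.eq⟩)
  · intro hxL z hz
    obtain ⟨hzT, hzC⟩ := hZT z hz
    have hzV : z ∈ V := by
      have hzQ : z ∈ Q := hchar (Subgroup.mem_centralizer_iff.mpr fun q hq => hzC q (hQT hq))
      exact mem_omegaOne (Subgroup.mem_inf.mpr ⟨hzQ,
        Subgroup.mem_centralizer_iff.mpr fun q hq => hzC q (hQT hq)⟩) (hZel.2 z hz)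
    have hzS : z ∈ V ⊓ Subgroup.centralizer (S : Set G) := Subgroup.mem_inf.mpr ⟨hzV,
      Subgroup.mem_centralizer_iff.mpr fun s hs => hzC s (Subgroup.mem_inf.mp hs).1⟩
    obtain ⟨w, hw, c, hc, rfl⟩ := Subgroup.mem_sup_of_normal_left.mp
      (Cfsg.Agent.LocAverage56.mem_commutator_sup_fixed V L S (isPGroup_of_elementary hVel) hidx hzS
        Subgroup.le_normalizer_of_normal)
    obtain ⟨hwV, hwL⟩ := Subgroup.mem_inf.mp (Subgroup.commutator_le_inf V L hw)
    obtain ⟨hcV, hcL⟩ := Subgroup.mem_inf.mp hc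
    have hwZ : w ∈ ZL := by
      refine mem_omegaOne (Subgroup.mem_inf.mpr ⟨Subgroup.mem_inf.mpr ⟨hQT ?_, hwL⟩,
        Subgroup.mem_centralizer_iff.mpr fun s hs => ?_⟩) (hVel.2 w hwV)
      · exact (Subgroup.mem_inf.mp (omegaOne_le p _ hwV)).1
      · have h1 : Commute s (w * c) := hzC s (Subgroup.mem_inf.mp hs).1
        have h2 : Commute s c := Subgroup.mem_centralizer_iff.mp hcL s (Subgroup.mem_inf.mp hs).2
        have h3 := h1.mul_right h2.inv_right
        rwa [mul_inv_cancel_right] at h3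
    exact (hxL w hwZ).mul_right (Subgroup.mem_centralizer_iff.mp hcL x hx)

end Cfsg.Agent.LocKieler56
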