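import Cfsg.Agent.Lib.LocOddModule

/-!
Inside the configuration: the normal closure `L₀` of `B(S)` meets `S` in `B(S)`.
-/

set_option autoImplicit false

namespace Cfsg.Agent.LocOdd

open Subgroup Cfsg ConjFunctorBasic
open scoped commutatorElement

variable {H : Type*} [Group H]

/-- The elements moving every element of `V` inside its coset of `Z`. -/
def stabMod (V Z : Subgroup H) [hV : V.Normal] [hZ : Z.Normal] : Subgroup H where
  carrier := {g | ∀ v ∈ V, g * v * g⁻¹ * v⁻¹ ∈ Z}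
  one_mem' := fun v _ => by simp
  mul_mem' := fun {a b} ha hb v hv => by
    have h2 := mul_mem (ha _ (hV.conj_mem v hv b)) (hb v hv)
    simpa [mul_assoc] using h2
  inv_mem' := fun {a} ha v hv => by
    have h2 := inv_mem (ha _ (hV.conj_mem v hv a⁻¹))
    simpa [mul_assoc] using h2

instance stabMod_normal (V Z : Subgroup H) [hV : V.Normal] [hZ : Z.Normal] : (stabMod V Z).Normal :=
  ⟨fun n hn g v hv => by
    have h2 := hZ.conj_mem _ (hn _ (hV.conj_mem v hv g⁻¹)) g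
    simpa [mul_assoc] using h2⟩

variable {p : ℕ} [Finite H] [hp : Fact p.Prime]

theorem eq_one_of_pow {x : H} {n : ℕ} (hn : n.Coprime p) (hx : x ^ p = 1) (hxn : x ^ n = 1) : x = 1 :=
  orderOf_eq_one_iff.mp (Nat.eq_one_of_dvd_coprimes hn (orderOf_dvd_of_pow_eq_one hxn)
    (orderOf_dvd_of_pow_eq_one hx))

omit [Finite H] hp in
theorem conj_pow_of_fix {x v ξ : H} (h1 : x * v * x⁻¹ = ξ * v) (h2 : x * ξ * x⁻¹ = ξ) :
    ∀ n : ℕ, x ^ n * v * (x ^ n)⁻¹ = ξ ^ n * v := by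
  intro n
  induction n with
  | zero => simp
  | succ n ih =>
    have h3 : x * ξ ^ n * x⁻¹ = ξ ^ n := by rw [← conj_pow, h2]
    calc x ^ (n + 1) * v * (x ^ (n + 1))⁻¹ = x * (x ^ n * v * (x ^ n)⁻¹) * x⁻¹ := by
          rw [pow_succ']; group
      _ = (x * ξ ^ n * x⁻¹) * (x * v * x⁻¹) := by rw [ih]; group
      _ = ξ ^ (n + 1) * v := by rw [h3, h1, pow_succ, mul_assoc]

theorem cmap_Y {g : H} {T : Subgroup H} (hg : cmap g T = T) : cmap g (Y p T) = Y p T := by
  show (omegaOne p (centerThompsonOf p T)).map _ = _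
  rw [Offenders.omegaOne_map (MulAut.conj g).injective, BaumannBlockBasics.centerThompson_map_conj,
    show T.map (MulAut.conj g).toMonoidHom = T from hg]

theorem cmap_self_of_normal (g : H) (N : Subgroup H) [N.Normal] : cmap g N = N :=
  mem_normalizer_iff_cmap.mp (by rw [normalizer_eq_top]; exact mem_top g)

instance Y_pCore_normal : (Y p (Cfsg.pCore p H)).Normal := by
  haveI : (Cfsg.pCore p H).Normal := HallCore.pCore_normal p H
  exact ⟨fun n hn g => (cmap_Y (cmap_self_of_normal g (Cfsg.pCore p H))).le (conj_mem_cmap hn)⟩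

variable {S : Sylow p H} {M : Subgroup H}

/-- The normal closure of `B(S)`. -/
abbrev L0 (p : ℕ) (S : Subgroup H) : Subgroup H :=
  normalClosure ((baumannSubgroupOf p S : Subgroup H) : Set H)

namespace Setup

variable (h : Setup S M)
include h

theorem sup_Q_eq_top {N : Subgroup H} [N.Normal]
    (hN : thompsonSubgroupOf p (S : Subgroup H) ≤ N) : N ⊔ Cfsg.pCore p H = ⊤ := by
  haveI : (Cfsg.pCore p H).Normal := HallCore.pCore_normal p H
  exact h.top_of_normal _ (h.module_structure.2.2.1.trans (sup_le_sup_right hN _))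

theorem L0_sup_Q : L0 p (S : Subgroup H) ⊔ Cfsg.pCore p H = ⊤ :=
  h.sup_Q_eq_top ((BaumannBlockBasics.thompson_le_baumann p _).trans le_normalClosure)

theorem inf_L0 : (S : Subgroup H) ⊓ L0 p (S : Subgroup H) = baumannSubgroupOf p (S : Subgroup H) := by
  classical
  obtain ⟨-, ⟨t₀, ht₀2, ht₀c, ht₀f⟩, hSJ, hYVQ, hZVQ, hJ⟩ := h.module_structure
  set S' : Subgroup H := (S : Subgroup H) with hS'
  set B := baumannSubgroupOf p S'
  set Q := Cfsg.pCore p H with hQdef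
  set Z' := Z p S'
  set C' := C p S'
  set L := L0 p S' with hL
  haveI : Q.Normal := HallCore.pCore_normal p H
  haveI : C'.Normal := normal_centralizer
  haveI hLn : L.Normal := normalClosure_normal
  have hBL : B ≤ L := le_normalClosure
  have hSY : ∀ s ∈ S', ∀ y ∈ Y p S', s * y * s⁻¹ ∈ Y p S' := fun s hs y hy =>
    (cmap_Y (mem_normalizer_iff_cmap.mp (le_normalizer hs))).le (conj_mem_cmap hy)
  -- `V` is normal
  set V := Y p S' ⊔ Z' with hVdef
  have hVQ : V ≤ Y p Q := sup_le hYVQ hZVQ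
  have hVea := (Offenders.ea_iff _).mp (Offenders.ea_mono (Y_ea Q) hVQ)
  have hQz : ∀ q ∈ Q, ∀ z ∈ Z', q * z * q⁻¹ = z := fun q hq z hz => by
    rw [← (h.Q_le_C hq) z hz, mul_inv_cancel_right]
  have hVn : V.Normal := by
    rw [← normalizer_eq_top_iff, eq_top_iff,
      ← h.sup_Q_eq_top (N := stabMod (Y p Q) Z') (fun j hj v hv => hJ j hj v hv)]
    refine sup_le (fun g hg => mem_normalizer_of_cmap_le (cmap_le_iff.mpr fun v hv => ?_))
      (fun q hq => mem_normalizer_of_cmap_le (cmap_le_iff.mpr fun v hv => ?_))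
    · have := mul_mem (mem_sup_right (S := Y p S') (hg v (hVQ hv))) hv
      rwa [inv_mul_cancel_right] at this
    · obtain ⟨y, hy, z, hz, rfl⟩ := mem_sup_of_normal_right.mp hv
      have e : q * (y * z) * q⁻¹ = (q * y * q⁻¹) * (q * z * q⁻¹) := by group
      rw [e, hQz q hq z hz]
      exact mul_mem (mem_sup_left (hSY q (Q_le_S S hq) y hy)) (mem_sup_right hz)
  haveI := hVn
  have hBY : ∀ b ∈ B, ∀ y ∈ Y p S', b * y * b⁻¹ = y := fun b hb y hy => by
    rw [← hb.2 y hy, mul_inv_cancel_right]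
  have hLV : L ≤ stabMod V Z' := normalClosure_le_normal fun b hb v hv => by
    obtain ⟨y, hy, z, hz, rfl⟩ := mem_sup_of_normal_right.mp hv
    have e : b * (y * z) * b⁻¹ * (y * z)⁻¹ = (b * y * b⁻¹) * (b * z * b⁻¹ * z⁻¹) * y⁻¹ := by group
    rw [e, hBY b hb y hy]
    exact (Z_normal p S').conj_mem _ (mul_mem ((Z_normal p S').conj_mem z hz b) (inv_mem hz)) y
  -- `D₀ = [Q, V]` is centralised by `L`
  set D₀ := ⁅Q, V⁆
  have hD₀Y : D₀ ≤ Y p S' := commutator_le.mpr fun q hq v hv => by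
    obtain ⟨y, hy, z, hz, rfl⟩ := mem_sup_of_normal_right.mp hv
    rw [commutatorElement_def]
    have e : q * (y * z) * q⁻¹ * (y * z)⁻¹ = (q * y * q⁻¹) * (q * z * q⁻¹ * z⁻¹) * y⁻¹ := by group
    rw [e, hQz q hq z hz, mul_inv_cancel, mul_one]
    exact mul_mem (hSY q (Q_le_S S hq) y hy) (inv_mem hy)
  haveI : D₀.Normal := commutator_normal Q V
  have hLD : L ≤ centralizer (D₀ : Set H) := by
    haveI : (centralizer (D₀ : Set H)).Normal := normal_centralizer
    exact normalClosure_le_normal fun b hb d hd => hb.2 d (hD₀Y hd)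
  -- the element `t`
  obtain ⟨l, hl, q, hq, hlq⟩ := mem_sup_of_normal_right.mp (h.L0_sup_Q ▸ mem_top t₀)
  set π := QuotientGroup.mk' C'
  have hπ : ∀ x : H, π x = 1 ↔ x ∈ C' := fun x => QuotientGroup.eq_one_iff x
  have hπl : π l = π t₀ := by
    rw [← hlq, map_mul, (hπ q).mpr (h.Q_le_C hq), mul_one]
  have hπ2 : π t₀ * π t₀ = 1 := by rw [← map_mul]; exact (hπ _).mpr ht₀2
  set k := (orderOf l).factorization p
  set m := orderOf l / p ^ k
  set t := l ^ p ^ k with ht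
  have htm : t ^ m = 1 := by
    rw [ht, ← pow_mul, Nat.mul_div_cancel' (Nat.ordProj_dvd _ _), pow_orderOf_eq_one]
  have hmp : m.Coprime p := (Nat.coprime_ordCompl hp.out (orderOf_pos l).ne').symm
  have htL : t ∈ L := pow_mem hl _
  have hπt : π t = π t₀ := by
    rw [ht, map_pow, hπl]
    obtain ⟨j, hj⟩ := (hp.out.odd_of_ne_two h.podd).pow (n := k)
    rw [hj, pow_succ, pow_mul, pow_two, hπ2, one_pow, one_mul]
  have htZ : ∀ z ∈ Z', t * z * t⁻¹ = t₀ * z * t₀⁻¹ := fun z hz => by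
    have h1 : t₀⁻¹ * t ∈ C' := (hπ _).mp (by rw [map_mul, map_inv, hπt, inv_mul_cancel])
    have h2 := h1 z hz
    calc t * z * t⁻¹ = t₀ * ((t₀⁻¹ * t) * z) * t⁻¹ := by group
      _ = t₀ * z * t₀⁻¹ := by rw [← h2]; group
  have ht2 : ∀ v ∈ V, t * t * v * (t * t)⁻¹ = v := fun v hv => by
    have h1 : t * t ∈ C' := (hπ _).mp (by rw [map_mul, hπt, hπ2])
    set ξ := t * t * v * (t * t)⁻¹ * v⁻¹ with hξ
    have hξZ : ξ ∈ Z' := hLV (mul_mem htL htL) v hv
    have hξ2 : t * t * ξ * (t * t)⁻¹ = ξ := by rw [← h1 ξ hξZ, mul_inv_cancel_right]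
    have h3 := conj_pow_of_fix (x := t * t) (v := v) (ξ := ξ) (by rw [hξ]; group) hξ2 m
    rw [← pow_two, ← pow_mul, mul_comm 2 m, pow_mul, htm, one_pow, one_mul, inv_one, mul_one,
      eq_comm, mul_eq_right] at h3
    have h4 : ξ = 1 := eq_one_of_pow hmp (((Offenders.ea_iff _).mp h.Z_ea).2 _ hξZ) h3
    rwa [hξ, mul_inv_eq_one] at h4
  -- `L` commutes with `t` on `V`
  have hVc : ∀ a ∈ V, ∀ b ∈ V, a * b = b * a := hVea.1
  have hVp : ∀ a ∈ V, a ^ p = 1 := hVea.2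
  have hidx : ¬ p ∣ (Q.subgroupOf C').index := by
    have := (isSylowIn_inf S C').2.2
    rwa [show (S : Subgroup H) ⊓ C' = Q from h.SC_eq_Q] at this
  have hcomm : ∀ g ∈ L, ∀ v ∈ V, g * (t * v * t⁻¹) * g⁻¹ = t * (g * v * g⁻¹) * t⁻¹ := by
    intro g hg
    set e := g * t * g⁻¹ * t⁻¹ with he
    have heC : e ∈ C' := by
      rw [← hπ, he]
      simp only [map_mul, map_inv, hπt]
      rw [← map_inv, ← map_inv, ← map_mul, ← map_mul, ← map_mul, hπ]
      exact ht₀c g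
    have heL : e ∈ L := mul_mem (mul_mem (mul_mem hg htL) (inv_mem hg)) (inv_mem htL)
    suffices hefix : ∀ v ∈ V, e * v * e⁻¹ = v by
      intro v hv
      calc g * (t * v * t⁻¹) * g⁻¹ = e * (t * (g * v * g⁻¹) * t⁻¹) * e⁻¹ := by rw [he]; group
        _ = t * (g * v * g⁻¹) * t⁻¹ := hefix _ (hVn.conj_mem _ (hVn.conj_mem v hv g) t)
    intro v hv
    set ξ := e * v * e⁻¹ * v⁻¹ with hξ
    have hξZ : ξ ∈ Z' := hLV heL v hv
    have hξV : ξ ∈ V := mem_sup_right hξZ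
    have heξ : e * ξ * e⁻¹ = ξ := by rw [← heC ξ hξZ, mul_inv_cancel_right]
    have hev : e * v * e⁻¹ = ξ * v := by rw [hξ]; group
    haveI : (Q.subgroupOf C').Normal := inferInstance
    have hek : e ^ (Q.subgroupOf C').index ∈ Q := by
      have := Subgroup.pow_index_mem (Q.subgroupOf C') ⟨e, heC⟩
      exact mem_subgroupOf.mp this
    have hξk : ξ ^ (Q.subgroupOf C').index ∈ D₀ := by
      have h5 := conj_pow_of_fix hev heξ (Q.subgroupOf C').index
      have h6 : ⁅e ^ (Q.subgroupOf C').index, v⁆ ∈ D₀ := commutator_mem_commutator hek hv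
      rwa [commutatorElement_def, h5, mul_inv_cancel_right] at h6
    have hξD : ξ ∈ D₀ := by
      have hco : (orderOf ξ).Coprime (Q.subgroupOf C').index :=
        Nat.Coprime.coprime_dvd_left (orderOf_dvd_of_pow_eq_one (hVp ξ hξV))
          ((hp.out.coprime_iff_not_dvd).mpr hidx)
      obtain ⟨j, hj⟩ := exists_pow_eq_self_of_coprime hco.symm
      rw [← hj]
      exact pow_mem hξk j
    have htξ : t * ξ * t⁻¹ = ξ := by rw [← hLD htL ξ hξD, mul_inv_cancel_right]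
    set ζ := t * v * t⁻¹ * v⁻¹ with hζ
    have hζZ : ζ ∈ Z' := hLV htL v hv
    have htv : t * v * t⁻¹ = ζ * v := by rw [hζ]; group
    have heζ : e * ζ * e⁻¹ = ζ := by rw [← heC ζ hζZ, mul_inv_cancel_right]
    have hζt : (t * ζ * t⁻¹) * ζ = 1 := by
      have h7 := ht2 v hv
      rw [show t * t * v * (t * t)⁻¹ = t * (t * v * t⁻¹) * t⁻¹ by group, htv,
        show t * (ζ * v) * t⁻¹ = (t * ζ * t⁻¹) * (t * v * t⁻¹) by group, htv, ← mul_assoc,
        mul_eq_right] at h7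
      exact h7
    have h8 : g * (t * t) * g⁻¹ * v * (g * (t * t) * g⁻¹)⁻¹ = v := by
      have := ht2 _ (hVn.conj_mem v hv g⁻¹)
      calc g * (t * t) * g⁻¹ * v * (g * (t * t) * g⁻¹)⁻¹
          = g * (t * t * (g⁻¹ * v * g⁻¹⁻¹) * (t * t)⁻¹) * g⁻¹ := by group
        _ = v := by rw [this]; group
    have h9 : g * (t * t) * g⁻¹ = e * t * (e * t) := by rw [he]; group
    have h10 : e * t * (e * t) * v * (e * t * (e * t))⁻¹ = ξ * ξ * v := by
      calc e * t * (e * t) * v * (e * t * (e * t))⁻¹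
          = e * (t * (e * (t * v * t⁻¹) * e⁻¹) * t⁻¹) * e⁻¹ := by group
        _ = e * (t * ((e * ζ * e⁻¹) * (e * v * e⁻¹)) * t⁻¹) * e⁻¹ := by rw [htv]; group
        _ = e * ((t * ζ * t⁻¹) * (t * ξ * t⁻¹) * (t * v * t⁻¹)) * e⁻¹ := by rw [heζ, hev]; group
        _ = e * (((t * ζ * t⁻¹) * ζ) * (ξ * v)) * e⁻¹ := by
            rw [htξ, htv]
            congr 2
            have hc := hVc ξ hξV ζ (mem_sup_right hζZ)
            rw [mul_assoc (t * ζ * t⁻¹) ξ, ← mul_assoc ξ, hc]; group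
        _ = (e * ξ * e⁻¹) * (e * v * e⁻¹) := by rw [hζt]; group
        _ = ξ * ξ * v := by rw [heξ, hev]; exact (mul_assoc ξ ξ v).symm
    rw [h9, h10, mul_eq_right] at h8
    have hξ1 : ξ = 1 := eq_one_of_pow (n := 2)
      ((hp.out.coprime_iff_not_dvd.mpr fun hd => h.podd ((Nat.prime_dvd_prime_iff_eq hp.out
        Nat.prime_two).mp hd)).symm) (hVp ξ hξV) (by rw [pow_two]; exact h8)
    rw [hev, hξ1, one_mul]
  -- `L` fixes the fixed points of `t`
  have hhalf : ∀ v ∈ V, ∀ g : H, g * (v * v) * g⁻¹ = v * v → g * v * g⁻¹ = v := by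
    intro v hv g hg
    have e : v = (v * v) ^ ((p + 1) / 2) := by
      obtain ⟨j, hj⟩ := hp.out.odd_of_ne_two h.podd
      rw [← pow_two, ← pow_mul, show 2 * ((p + 1) / 2) = p + 1 by omega, pow_succ, hVp v hv, one_mul]
    rw [e, ← conj_pow, hg]
  have hzfix : ∀ z ∈ Z', t * (z * (t * z * t⁻¹)) * t⁻¹ = z * (t * z * t⁻¹) := by
    intro z hz
    have h1 := ht2 z (mem_sup_right hz)
    have hz' := (Z_normal p S').conj_mem z hz t
    calc t * (z * (t * z * t⁻¹)) * t⁻¹ = (t * z * t⁻¹) * (t * t * z * (t * t)⁻¹) := by group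
      _ = z * (t * z * t⁻¹) := by rw [h1]; exact hVc _ (mem_sup_right hz') _ (mem_sup_right hz)
  have hBfix : ∀ b ∈ B, ∀ v ∈ V, t * v * t⁻¹ = v → b * v * b⁻¹ = v := by
    intro b hb v hv htv
    refine hhalf v hv b ?_
    obtain ⟨y, hy, z, hz, hyz⟩ := mem_sup_of_normal_right.mp hv
    have hy' : t * y * t⁻¹ ∈ V := hVn.conj_mem y (mem_sup_left hy) t
    have hz' : t * z * t⁻¹ ∈ V := hVn.conj_mem z (mem_sup_right hz) t
    have hvv : v * v = (y * (t * y * t⁻¹)) * (z * (t * z * t⁻¹)) := by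
      nth_rewrite 2 [← htv]
      rw [← hyz]
      have := hVc z (mem_sup_right hz) _ hy'
      calc y * z * (t * (y * z) * t⁻¹) = y * (z * (t * y * t⁻¹)) * (t * z * t⁻¹) := by group
        _ = (y * (t * y * t⁻¹)) * (z * (t * z * t⁻¹)) := by rw [this]; group
    have h1 : b * (t * y * t⁻¹) * b⁻¹ = t * y * t⁻¹ := by
      rw [hcomm b (hBL hb) y (mem_sup_left hy), hBY b hb y hy]
    have h2 : b * (z * (t * z * t⁻¹)) * b⁻¹ = z * (t * z * t⁻¹) := by
      have hzz : z * (t * z * t⁻¹) ∈ Z' := mul_mem hz ((Z_normal p S').conj_mem z hz t)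
      refine ht₀f _ hzz ?_ b
      rw [← htZ _ hzz]; exact hzfix z hz
    calc b * (v * v) * b⁻¹
        = (b * y * b⁻¹) * (b * (t * y * t⁻¹) * b⁻¹) * (b * (z * (t * z * t⁻¹)) * b⁻¹) := by
          rw [hvv]; group
      _ = v * v := by rw [hBY b hb y hy, h1, h2, hvv]
  let K₀ : Subgroup H :=
    { carrier := {g | ∀ v ∈ V, t * v * t⁻¹ = v → g * v * g⁻¹ = v}
      one_mem' := fun v _ _ => by simp
      mul_mem' := fun {a c} ha hc v hv htv => by
        calc a * c * v * (a * c)⁻¹ = a * (c * v * c⁻¹) * a⁻¹ := by group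
          _ = v := by rw [hc v hv htv, ha v hv htv]
      inv_mem' := fun {a} ha v hv htv => by
        have h1 := ha v hv htv
        calc a⁻¹ * v * a⁻¹⁻¹ = a⁻¹ * (a * v * a⁻¹) * a⁻¹⁻¹ := by rw [h1]
          _ = v := by group }
  have hLK : L ≤ K₀ := by
    rw [hL, L0, normalClosure, closure_le]
    intro x hx
    obtain ⟨b, hb, hxb⟩ := Group.mem_conjugatesOfSet_iff.mp hx
    obtain ⟨g, rfl⟩ := isConj_iff.mp hxb
    obtain ⟨c, hc, r, hr, rfl⟩ := mem_sup_of_normal_right.mp (h.L0_sup_Q ▸ mem_top g)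
    intro v hv htv
    have hb' : r * b * r⁻¹ ∈ B := LocalBasics.conj_mem_of_le_normalizer
      (BaumannBlockBasics.le_normalizer_baumann p _) (Q_le_S S hr) hb
    have hw : c⁻¹ * v * c⁻¹⁻¹ ∈ V := hVn.conj_mem v hv c⁻¹
    have htw : t * (c⁻¹ * v * c⁻¹⁻¹) * t⁻¹ = c⁻¹ * v * c⁻¹⁻¹ := by
      rw [← hcomm c⁻¹ (inv_mem hc) v hv, htv]
    calc c * r * b * (c * r)⁻¹ * v * (c * r * b * (c * r)⁻¹)⁻¹
        = c * ((r * b * r⁻¹) * (c⁻¹ * v * c⁻¹⁻¹) * (r * b * r⁻¹)⁻¹) * c⁻¹ := by group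
      _ = v := by rw [hBfix _ hb' _ hw htw]; group
  -- conclusion
  have hQL : ∀ r ∈ Q, r ∈ L → r ∈ B := by
    intro r hrQ hrL
    refine ⟨Q_le_S S hrQ, fun y hy => ?_⟩
    have hyV : y ∈ V := mem_sup_left hy
    have hyt : t * y * t⁻¹ ∈ V := hVn.conj_mem y hyV t
    suffices hfix : r * y * r⁻¹ = y by
      calc y * r = (r * y * r⁻¹) * r := by rw [hfix]
        _ = r * y := by group
    refine hhalf y hyV r ?_
    have ha : r * (y * (t * y * t⁻¹)) * r⁻¹ = y * (t * y * t⁻¹) := by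
      refine hLK hrL _ (mul_mem hyV hyt) ?_
      calc t * (y * (t * y * t⁻¹)) * t⁻¹ = (t * y * t⁻¹) * (t * t * y * (t * t)⁻¹) := by group
        _ = y * (t * y * t⁻¹) := by rw [ht2 y hyV]; exact hVc _ hyt _ hyV
    have hw : r * (y * (t * y * t⁻¹)⁻¹) * r⁻¹ = y * (t * y * t⁻¹)⁻¹ := by
      refine hQz r hrQ _ ?_
      have := inv_mem (hLV htL y hyV)
      rwa [mul_inv_rev, inv_inv] at this
    have e : y * y = (y * (t * y * t⁻¹)⁻¹) * (y * (t * y * t⁻¹)) := by
      rw [hVc y hyV _ hyt]; group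
    calc r * (y * y) * r⁻¹
        = (r * (y * (t * y * t⁻¹)⁻¹) * r⁻¹) * (r * (y * (t * y * t⁻¹)) * r⁻¹) := by rw [e]; group
      _ = y * y := by rw [ha, hw, ← e]
  refine le_antisymm ?_ (le_inf (BaumannBlockBasics.baumann_le p _) hBL)
  rintro s ⟨hs, hsL⟩
  have h1 : s ∈ B ⊔ Q :=
    sup_le_sup_right (BaumannBlockBasics.thompson_le_baumann p _) _ (hSJ hs)
  obtain ⟨b, hb, r, hr, rfl⟩ := mem_sup_of_normal_right.mp h1
  have hrL : r ∈ L := by
    have := mul_mem (inv_mem (hBL hb)) hsL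
    rwa [inv_mul_cancel_left] at this
  exact mul_mem hb (hQL r hr hrL)

end Setup

end Cfsg.Agent.LocOdd
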