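import Mathlib

/-!
A counting argument: an element of an abelian subgroup of largest order does not act with a Jordan
block of size five on a class two section, provided the rest of the subgroup fixes that block.
-/

set_option autoImplicit false

namespace Cfsg.Agent.ThompsonJ52Count

open Subgroup
open scoped commutatorElement

variable {G : Type*} [Group G]

/-- The iterated commutators `m₀, [a,m₀], [a,[a,m₀]], …`. -/
def it (a m₀ : G) : ℕ → G
  | 0 => m₀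
  | k + 1 => ⁅a, it a m₀ k⁆

theorem conj_it (a m₀ : G) (k : ℕ) : a * it a m₀ k * a⁻¹ = it a m₀ (k + 1) * it a m₀ k := by
  simp [it, commutatorElement_def]

theorem rne [Finite G] (H K : Subgroup G) : H.relIndex K ≠ 0 := index_ne_zero_of_finite

theorem card_eq_inf_mul (N L : Subgroup G) :
    Nat.card L = Nat.card ↥(N ⊓ L) * N.relIndex L := by
  rw [← (N.subgroupOf L).card_mul_index]
  congr 1
  rw [← inf_subgroupOf_right]
  exact Nat.card_congr (subgroupOfEquivOfLe inf_le_right).toEquiv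

theorem relIndex_le_of_abelian_sup [Finite G] {A D M Y : Subgroup G} (hDA : D ≤ A) (hDY : D ≤ Y)
    (hMY : M ≤ Y) (hY : Nat.card Y ≤ Nat.card A) : D.relIndex M ≤ D.relIndex A := by
  have h1 : D.relIndex M ≤ D.relIndex Y :=
    relIndex_le_of_le_right hMY (rne _ _)
  have h2 := card_eq_inf_mul D Y
  have h3 := card_eq_inf_mul D A
  rw [inf_eq_left.mpr hDY] at h2
  rw [inf_eq_left.mpr hDA] at h3
  refine h1.trans (Nat.le_of_mul_le_mul_left ?_ (Nat.card_pos (α := D)))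
  rw [← h2, ← h3]
  exact hY

theorem isMulCommutative_sup {A B : Subgroup G} (hA : ∀ a ∈ A, ∀ a' ∈ A, a * a' = a' * a)
    (hB : ∀ b ∈ B, ∀ b' ∈ B, b * b' = b' * b) (hAB : ∀ a ∈ A, ∀ b ∈ B, a * b = b * a) :
    IsMulCommutative ↥(A ⊔ B) := by
  rw [sup_eq_closure]
  refine isMulCommutative_closure fun x hx y hy => ?_
  rcases hx with hx | hx <;> rcases hy with hy | hy
  exacts [hA x hx y hy, hAB x hx y hy, (hAB y hy x hx).symm, hB x hx y hy]

theorem relIndex_card_quot {L M : Subgroup G} :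
    L.relIndex M = Nat.card (↥M ⧸ L.subgroupOf M) := (index_eq_card _)

variable [Finite G] {p : ℕ} [hp : Fact p.Prime] {T U B K A A1 : Subgroup G}

/-- The hypotheses of the counting argument. -/
structure Setup (p : ℕ) (T U B K A A1 : Subgroup G) (a m₀ : G) : Prop where
  pT : IsPGroup p T
  norU : U.Normal
  norB : B.Normal
  norK : K.Normal
  UT : U ≤ T
  BU : B ≤ U
  KB : K ≤ B
  kcentral : ∀ k ∈ K, ∀ b ∈ B, k * b = b * k
  ucomm : ∀ u ∈ U, ∀ b ∈ B, ⁅u, b⁆ ∈ K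
  bpow : ∀ b ∈ B, b ^ p ∈ K
  AT : A ≤ T
  comm : ∀ b ∈ A, ∀ c ∈ A, b * c = c * b
  maxA : ∀ Y : Subgroup G, Y ≤ T → IsMulCommutative Y → Nat.card Y ≤ Nat.card A
  A1A : A1 ≤ A
  idx : A1.relIndex A = p
  aA : a ∈ A
  reps : ∀ b ∈ A, ∃ i < p, ∃ c ∈ A1, b = a ^ i * c
  m₀B : m₀ ∈ B
  fix₀ : ∀ c ∈ A1, ⁅c, m₀⁆ ∈ K
  five : it a m₀ 5 ∈ K
  four : it a m₀ 4 ∉ K

variable {a m₀ : G}

namespace Setup

variable (s : Setup p T U B K A A1 a m₀)

local notation "m" => it a m₀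

include s

theorem m_mem : ∀ k, m k ∈ B
  | 0 => s.m₀B
  | k + 1 => by
    haveI := s.norB
    show ⁅a, m k⁆ ∈ B
    rw [commutatorElement_def]
    exact mul_mem (s.norB.conj_mem _ (m_mem k) a) (inv_mem (m_mem k))

theorem fix_mul {c g h : G} (hg : g ∈ B) (hh : h ∈ B) (h1 : ⁅c, g⁆ ∈ K) (h2 : ⁅c, h⁆ ∈ K) :
    ⁅c, g * h⁆ ∈ K := by
  rw [show ⁅c, g * h⁆ = ⁅c, g⁆ * (g * ⁅c, h⁆ * g⁻¹) by simp [commutatorElement_def, mul_assoc]]
  exact mul_mem h1 (s.norK.conj_mem _ h2 g)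

theorem fix_m {c : G} (hc : c ∈ A1) : ∀ k, ⁅c, m k⁆ ∈ K
  | 0 => s.fix₀ c hc
  | k + 1 => by
    have hca : c * a = a * c := s.comm c (s.A1A hc) a s.aA
    obtain ⟨d, hd, he⟩ : ∃ d ∈ K, c * m k * c⁻¹ = d * m k :=
      ⟨⁅c, m k⁆, fix_m hc k, by simp [commutatorElement_def]⟩
    have hd' : a * d * a⁻¹ ∈ K := s.norK.conj_mem _ hd a
    have key : c * m (k + 1) * c⁻¹ = a * d * a⁻¹ * (m (k + 1)) * d⁻¹ := by
      calc c * m (k + 1) * c⁻¹
          = (c * a) * m k * (c * a)⁻¹ * (c * m k * c⁻¹)⁻¹ := by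
            simp [it, commutatorElement_def, mul_assoc]
        _ = (a * c) * m k * (a * c)⁻¹ * (c * m k * c⁻¹)⁻¹ := by rw [hca]
        _ = a * (c * m k * c⁻¹) * a⁻¹ * (c * m k * c⁻¹)⁻¹ := by simp [mul_assoc]
        _ = a * (d * m k) * a⁻¹ * (d * m k)⁻¹ := by rw [he]
        _ = _ := by simp [it, commutatorElement_def, mul_assoc]
    have hcom := s.kcentral _ (inv_mem hd) _ (s.m_mem (k + 1))
    rw [commutatorElement_def, key, mul_assoc (a * d * a⁻¹), ← hcom, ← mul_assoc,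
      mul_inv_cancel_right]
    exact mul_mem hd' (inv_mem hd)

/-- Commutators of elements of `B` are central in `U`. -/
theorem comm_central {g h u : G} (hg : g ∈ B) (hh : h ∈ B) (hu : u ∈ U) :
    u * ⁅g, h⁆ = ⁅g, h⁆ * u := by
  obtain ⟨d, hd, hde⟩ : ∃ d ∈ K, u * g * u⁻¹ = d * g :=
    ⟨⁅u, g⁆, s.ucomm u hu g hg, by simp [commutatorElement_def]⟩
  obtain ⟨e, he, hee⟩ : ∃ e ∈ K, u * h * u⁻¹ = e * h :=
    ⟨⁅u, h⁆, s.ucomm u hu h hh, by simp [commutatorElement_def]⟩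
  have h1 : u * ⁅g, h⁆ * u⁻¹ = ⁅u * g * u⁻¹, u * h * u⁻¹⁆ := by
    simp [commutatorElement_def, mul_assoc]
  rw [hde, hee] at h1
  simp only [commutatorElement_def] at h1 ⊢
  have c1 := s.kcentral d hd _ (mul_mem (s.KB he) hh)
  have c3 := s.kcentral e he _ hg
  have h2 : d * g * (e * h) * (d * g)⁻¹ * (e * h)⁻¹ = g * h * g⁻¹ * h⁻¹ := by
    calc d * g * (e * h) * (d * g)⁻¹ * (e * h)⁻¹
        = d * (g * (e * h) * g⁻¹ * d⁻¹) * (e * h)⁻¹ := by group
      _ = g * (e * h) * g⁻¹ * (e * h)⁻¹ := by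
          have hx : g * (e * h) * g⁻¹ ∈ B := mul_mem (mul_mem hg (mul_mem (s.KB he) hh)) (inv_mem hg)
          have c2 := s.kcentral d hd _ hx
          rw [← mul_assoc d, c2]; group
      _ = (g * e) * h * g⁻¹ * (h⁻¹ * e⁻¹) := by group
      _ = e * (g * h * g⁻¹ * h⁻¹) * e⁻¹ := by rw [← c3]; group
      _ = g * h * g⁻¹ * h⁻¹ := by
          have c4 := s.kcentral e he _ (show g * h * g⁻¹ * h⁻¹ ∈ B from
            mul_mem (mul_mem (mul_mem hg hh) (inv_mem hg)) (inv_mem hh))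
          rw [c4]; group
  rw [h2] at h1
  exact mul_inv_eq_iff_eq_mul.mp h1

omit s in
/-- The part of the centre of `U` fixed by `A₁`. -/
def Z1 (U A1 : Subgroup G) : Subgroup G :=
  U ⊓ centralizer (U : Set G) ⊓ centralizer (A1 : Set G)

theorem w_mem (i j : ℕ) : ⁅m i, m j⁆ ∈ Z1 U A1 := by
  have hBc := fun g hg h hh u hu => s.comm_central (g := g) (h := h) (u := u) hg hh hu
  refine ⟨⟨s.BU ?_, mem_centralizer_iff.mpr fun u hu => hBc _ (s.m_mem i) _ (s.m_mem j) u hu⟩, ?_⟩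
  · rw [commutatorElement_def]
    exact mul_mem (mul_mem (mul_mem (s.m_mem i) (s.m_mem j)) (inv_mem (s.m_mem i)))
      (inv_mem (s.m_mem j))
  refine mem_centralizer_iff.mpr fun c hc => ?_
  obtain ⟨d, hd, hde⟩ : ∃ d ∈ K, c * m i * c⁻¹ = d * m i :=
    ⟨⁅c, m i⁆, s.fix_m hc i, by simp [commutatorElement_def]⟩
  obtain ⟨e, he, hee⟩ : ∃ e ∈ K, c * m j * c⁻¹ = e * m j :=
    ⟨⁅c, m j⁆, s.fix_m hc j, by simp [commutatorElement_def]⟩
  have h1 : c * ⁅m i, m j⁆ * c⁻¹ = ⁅c * m i * c⁻¹, c * m j * c⁻¹⁆ := by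
    simp [commutatorElement_def, mul_assoc]
  rw [hde, hee] at h1
  simp only [commutatorElement_def] at h1 ⊢
  have hi := s.m_mem i
  have hj := s.m_mem j
  have c1 : d * (m i * (e * m j) * (m i)⁻¹) = m i * (e * m j) * (m i)⁻¹ * d :=
    s.kcentral d hd _ (mul_mem (mul_mem hi (mul_mem (s.KB he) hj)) (inv_mem hi))
  have c3 : e * m i = m i * e := s.kcentral e he _ hi
  have c4 : e * ⁅m i, m j⁆ = ⁅m i, m j⁆ * e := by
    refine s.kcentral e he _ ?_
    rw [commutatorElement_def]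
    exact mul_mem (mul_mem (mul_mem hi hj) (inv_mem hi)) (inv_mem hj)
  have h2 : d * m i * (e * m j) * (d * m i)⁻¹ * (e * m j)⁻¹ = m i * m j * (m i)⁻¹ * (m j)⁻¹ := by
    calc d * m i * (e * m j) * (d * m i)⁻¹ * (e * m j)⁻¹
        = d * (m i * (e * m j) * (m i)⁻¹) * d⁻¹ * (e * m j)⁻¹ := by group
      _ = m i * (e * m j) * (m i)⁻¹ * (e * m j)⁻¹ := by rw [c1]; group
      _ = (m i * e) * m j * (m i)⁻¹ * ((m j)⁻¹ * e⁻¹) := by group
      _ = e * (m i * m j * (m i)⁻¹ * (m j)⁻¹) * e⁻¹ := by rw [← c3]; group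
      _ = _ := by rw [← commutatorElement_def, c4]; group
  rw [h2] at h1
  exact mul_inv_eq_iff_eq_mul.mp h1

theorem z1_comm {y z : G} (hy : y ∈ Z1 U A1) (hz : z ∈ Z1 U A1) : y * z = z * y :=
  (mem_centralizer_iff.mp hy.1.2 z hz.1.1).symm

theorem z1_conj {b y : G} (hb : b ∈ A) (hy : y ∈ Z1 U A1) : b * y * b⁻¹ ∈ Z1 U A1 := by
  haveI := s.norU
  refine ⟨⟨s.norU.conj_mem _ hy.1.1 b, mem_centralizer_iff.mpr fun u hu => ?_⟩,
    mem_centralizer_iff.mpr fun c hc => ?_⟩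
  · have e := mem_centralizer_iff.mp hy.1.2 (b⁻¹ * u * b)
      (by simpa using s.norU.conj_mem _ hu b⁻¹)
    calc u * (b * y * b⁻¹) = b * (b⁻¹ * u * b * y) * b⁻¹ := by group
      _ = b * (y * (b⁻¹ * u * b)) * b⁻¹ := by rw [e]
      _ = _ := by group
  · have e := mem_centralizer_iff.mp hy.2 c hc
    have hcb := s.comm c (s.A1A hc) b hb
    have hcb' : c * b⁻¹ = b⁻¹ * c := s.comm c (s.A1A hc) _ (inv_mem hb)
    calc c * (b * y * b⁻¹) = (c * b) * y * b⁻¹ := by group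
      _ = b * (c * y) * b⁻¹ := by rw [hcb]; group
      _ = b * y * (c * b⁻¹) := by rw [e]; group
      _ = _ := by rw [hcb']; group

theorem z1_index : A.relIndex (Z1 U A1) ≤ p := by
  have hY : IsMulCommutative ↥(Z1 U A1 ⊔ A1) :=
    isMulCommutative_sup (fun y hy z hz => s.z1_comm hy hz)
      (fun b hb c hc => s.comm b (s.A1A hb) c (s.A1A hc))
      (fun y hy c hc => (mem_centralizer_iff.mp hy.2 c hc).symm)
  have h1 := relIndex_le_of_abelian_sup (M := Z1 U A1) s.A1A le_sup_right le_sup_left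
    (s.maxA _ (sup_le (inf_le_left.trans (inf_le_left.trans s.UT)) (s.A1A.trans s.AT)) hY)
  rw [s.idx] at h1
  exact (relIndex_le_of_le_left s.A1A (rne _ _)).trans h1

/-- `a` acts quadratically on `Z₁`. -/
theorem quad {y : G} (hy : y ∈ Z1 U A1) : a * ⁅a, y⁆ * a⁻¹ = ⁅a, y⁆ := by
  suffices h : ⁅a, y⁆ ∈ A by
    rw [s.comm a s.aA _ h]; group
  have hmem : ∀ z ∈ Z1 U A1, ⁅a, z⁆ ∈ Z1 U A1 := fun z hz => by
    rw [commutatorElement_def]
    exact mul_mem (s.z1_conj s.aA hz) (inv_mem hz)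
  by_contra hyA
  have hyA' : y ∉ A := fun h => hyA (by
    rw [commutatorElement_def, s.comm a s.aA y h, mul_inv_cancel_right, mul_inv_cancel]
    exact one_mem A)
  let N := A.subgroupOf (Z1 U A1)
  letI : CommGroup ↥(Z1 U A1) :=
    { (inferInstance : Group ↥(Z1 U A1)) with
      mul_comm := fun u v => Subtype.ext (s.z1_comm u.2 v.2) }
  have hNi : N.index = p := by
    have h1 : N.index ≤ p := s.z1_index
    have h2 : 1 < N.index := one_lt_index_of_ne_top fun h => hyA' (h ▸ mem_top (⟨y, hy⟩ : ↥(Z1 U A1)) :)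
    have h3 : IsPGroup p ↥(Z1 U A1) := s.pT.to_le (inf_le_left.trans (inf_le_left.trans s.UT))
    obtain ⟨k, hk⟩ := h3.index N
    rcases k with _ | _ | k
    · rw [hk, pow_zero] at h2; omega
    · rw [hk, zero_add, pow_one]
    · exfalso
      rw [hk] at h1
      have : p ^ 1 < p ^ (k + 1 + 1) := Nat.pow_lt_pow_right hp.out.one_lt (by omega)
      rw [pow_one] at this; omega
  let f : ↥(Z1 U A1) →* ↥(Z1 U A1) ⧸ N :=
    { toFun := fun z => (⟨⁅a, z.1⁆, hmem _ z.2⟩ : ↥(Z1 U A1))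
      map_one' := by
        rw [QuotientGroup.eq_one_iff, mem_subgroupOf]
        simp [commutatorElement_def]
      map_mul' := fun u v => by
        rw [← QuotientGroup.mk_mul]
        congr 1
        refine Subtype.ext ?_
        show ⁅a, u.1 * v.1⁆ = ⁅a, u.1⁆ * ⁅a, v.1⁆
        have e := s.z1_comm (hmem _ v.2) u.2
        calc ⁅a, u.1 * v.1⁆ = ⁅a, u.1⁆ * (u.1 * ⁅a, v.1⁆ * u.1⁻¹) := by
              simp [commutatorElement_def, mul_assoc]
          _ = _ := by rw [← e]; group }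
  have hNf : N ≤ f.ker := fun z hz => by
    rw [MonoidHom.mem_ker]
    refine (QuotientGroup.eq_one_iff _).2 ?_
    rw [mem_subgroupOf]
    show ⁅a, z.1⁆ ∈ A
    rw [commutatorElement_def, s.comm a s.aA z.1 hz, mul_inv_cancel_right, mul_inv_cancel]
    exact one_mem A
  have hker : f.ker = N := by
    rcases hp.out.eq_one_or_self_of_dvd _ (hNi ▸ index_dvd_of_le hNf) with h | h
    · exfalso
      rw [index_eq_one] at h
      have h' : (⟨y, hy⟩ : ↥(Z1 U A1)) ∈ f.ker := h ▸ mem_top _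
      exact hyA (mem_subgroupOf.1 ((QuotientGroup.eq_one_iff _).1 (MonoidHom.mem_ker.1 h')) :)
    · refine le_antisymm (relIndex_eq_one.1 ?_) hNf
      have e := relIndex_mul_index hNf
      rw [h, hNi] at e
      exact mul_eq_right₀ hp.out.ne_zero |>.1 e
  have hit : ∀ k, it a y k ∈ Z1 U A1 ∧ it a y k ∉ A := by
    intro k
    induction k with
    | zero => exact ⟨hy, hyA'⟩
    | succ k ih =>
      refine ⟨hmem _ ih.1, fun h => ih.2 ?_⟩
      have h' : (⟨it a y k, ih.1⟩ : ↥(Z1 U A1)) ∈ f.ker :=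
        MonoidHom.mem_ker.2 ((QuotientGroup.eq_one_iff _).2 (mem_subgroupOf.2 h))
      rw [hker] at h'
      exact mem_subgroupOf.1 h'
  haveI : Group.IsNilpotent ↥T := s.pT.isNilpotent
  obtain ⟨n, hn⟩ := (Subgroup.isNilpotent_iff_lowerCentralSeries T).mp inferInstance
  have hlc : ∀ k, it a y k ∈ T.lowerCentralSeries k := by
    intro k
    induction k with
    | zero => rw [Subgroup.lowerCentralSeries_zero]; exact s.UT hy.1.1
    | succ k ih =>
      rw [Subgroup.lowerCentralSeries_succ, it, ← inv_mem_iff, commutatorElement_inv]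
      exact commutator_mem_commutator ih (s.AT s.aA)
  have := hlc n
  rw [hn, mem_bot] at this
  exact (hit n).2 (this ▸ one_mem A)

theorem w_mul_left {g h k : G} (hg : g ∈ B) (hh : h ∈ B) (hk : k ∈ B) :
    ⁅g * h, k⁆ = ⁅h, k⁆ * ⁅g, k⁆ := by
  have e : g * ⁅h, k⁆ = ⁅h, k⁆ * g := s.comm_central hh hk (s.BU hg)
  calc ⁅g * h, k⁆ = g * ⁅h, k⁆ * g⁻¹ * ⁅g, k⁆ := by simp [commutatorElement_def, mul_assoc]
    _ = _ := by rw [e]; group

theorem w_mul_right {g h k : G} (hg : g ∈ B) (hh : h ∈ B) (hk : k ∈ B) :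
    ⁅g, h * k⁆ = ⁅g, h⁆ * ⁅g, k⁆ := by
  have e : h * ⁅g, k⁆ = ⁅g, k⁆ * h := s.comm_central hg hk (s.BU hh)
  calc ⁅g, h * k⁆ = ⁅g, h⁆ * (h * ⁅g, k⁆ * h⁻¹) := by simp [commutatorElement_def, mul_assoc]
    _ = _ := by rw [e]; group

theorem commute_of_five : Commute (m 2) (m 3) ∧ Commute (m 2) (m 4) ∧ Commute (m 3) (m 4) := by
  letI : CommGroup ↥(Z1 U A1) :=
    { (inferInstance : Group ↥(Z1 U A1)) with
      mul_comm := fun u v => Subtype.ext (s.z1_comm u.2 v.2) }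
  let w : ℕ → ℕ → Additive ↥(Z1 U A1) := fun i j => Additive.ofMul ⟨⁅m i, m j⁆, s.w_mem i j⟩
  let f : Additive ↥(Z1 U A1) →+ Additive ↥(Z1 U A1) :=
    { toFun := fun z => Additive.ofMul ⟨a * (Additive.toMul z).1 * a⁻¹,
        s.z1_conj s.aA (Additive.toMul z).2⟩
      map_zero' := congrArg Additive.ofMul (Subtype.ext (by simp))
      map_add' := fun u v => congrArg Additive.ofMul (Subtype.ext (by simp [mul_assoc])) }
  have hf : ∀ i j, f (w i j) = w i j + w i (j + 1) + w (i + 1) j + w (i + 1) (j + 1) := by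
    intro i j
    refine congrArg Additive.ofMul (Subtype.ext ?_)
    show a * ⁅m i, m j⁆ * a⁻¹ = ⁅m i, m j⁆ * ⁅m i, m (j + 1)⁆ * ⁅m (i + 1), m j⁆ *
      ⁅m (i + 1), m (j + 1)⁆
    have h1 : a * ⁅m i, m j⁆ * a⁻¹ = ⁅a * m i * a⁻¹, a * m j * a⁻¹⁆ := by
      simp [commutatorElement_def, mul_assoc]
    have hi := s.m_mem i
    have hi' := s.m_mem (i + 1)
    have hj := s.m_mem j
    have hj' := s.m_mem (j + 1)
    rw [h1, conj_it, conj_it, s.w_mul_left hi' hi (mul_mem hj' hj), s.w_mul_right hi hj' hj,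
      s.w_mul_right hi' hj' hj]
    have c1 := s.z1_comm (s.w_mem i (j + 1)) (s.w_mem i j)
    have c2 := s.z1_comm (s.w_mem (i + 1) (j + 1)) (s.w_mem (i + 1) j)
    rw [c1, c2, ← mul_assoc]
  have hq : ∀ z, f (f z - z) = f z - z := by
    intro z
    rw [show f z - z = Additive.ofMul ⟨⁅a, (Additive.toMul z).1⁆, by
      rw [commutatorElement_def]
      exact mul_mem (s.z1_conj s.aA (Additive.toMul z).2) (inv_mem (Additive.toMul z).2)⟩ from
        congrArg Additive.ofMul (Subtype.ext (by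
          show (a * (Additive.toMul z).1 * a⁻¹) / (Additive.toMul z).1 = ⁅a, (Additive.toMul z).1⁆
          rw [div_eq_mul_inv, commutatorElement_def]))]
    exact congrArg Additive.ofMul (Subtype.ext (s.quad (Additive.toMul z).2))
  have h5 : ∀ i, w i 5 = 0 := fun i => congrArg Additive.ofMul (Subtype.ext
    (commutatorElement_eq_one_iff_mul_comm.2 (s.kcentral _ s.five _ (s.m_mem i)).symm))
  have h5' : ∀ i, w 5 i = 0 := fun i => congrArg Additive.ofMul (Subtype.ext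
    (commutatorElement_eq_one_iff_mul_comm.2 (s.kcentral _ s.five _ (s.m_mem i))))
  have hself : ∀ i, w i i = 0 := fun i => congrArg Additive.ofMul (Subtype.ext
    (commutatorElement_eq_one_iff_mul_comm.2 rfl))
  have hDD : ∀ i j, f (w i (j + 1)) + f (w (i + 1) j) + f (w (i + 1) (j + 1)) =
      w i (j + 1) + w (i + 1) j + w (i + 1) (j + 1) := by
    intro i j
    have := hq (w i j)
    rw [hf] at this
    simpa [add_assoc] using this
  have e04 := hDD 0 4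
  have e14 := hDD 1 4
  have e03 := hDD 0 3
  have e12 := hDD 1 2
  have f14 := hf 1 4
  have f24 := hf 2 4
  have f04 := hf 0 4
  have f13 := hf 1 3
  have f23 := hf 2 3
  simp only [Nat.reduceAdd, h5, h5', hself, map_zero, add_zero, zero_add] at *
  have h34 : w 3 4 = 0 := by
    rw [f24] at e14
    exact add_eq_left.mp e14
  rw [h34, add_zero] at f24
  have h24 : w 2 4 = 0 := by
    rw [f14] at e04
    exact add_eq_left.mp e04
  rw [h24, add_zero] at f14
  rw [h34] at f23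
  rw [h24] at f23 f13
  simp only [add_zero] at f23 f13
  have hA : w 2 3 + w 1 4 = 0 := by
    rw [f23, f13] at e12
    have : w 1 3 + (w 1 4 + w 2 3) = w 1 3 := by
      refine add_right_cancel (b := w 2 3) ?_
      rw [← e12]; abel
    rw [add_comm]
    exact add_eq_left.mp this
  have hB : w 1 4 + (w 2 3 + w 1 4) = 0 := by
    rw [f04, f13, f14] at e03
    refine add_left_cancel (a := w 0 4 + w 1 3 + w 1 4) ?_
    rw [add_zero]
    conv_rhs => rw [← e03]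
    abel
  have h14 : w 1 4 = 0 := by rwa [hA, add_zero] at hB
  have h23 : w 2 3 = 0 := by rwa [h14, add_zero] at hA
  refine ⟨?_, ?_, ?_⟩
  · exact commutatorElement_eq_one_iff_mul_comm.1 (congrArg (fun z => (Additive.toMul z).1) h23)
  · exact commutatorElement_eq_one_iff_mul_comm.1 (congrArg (fun z => (Additive.toMul z).1) h24)
  · exact commutatorElement_eq_one_iff_mul_comm.1 (congrArg (fun z => (Additive.toMul z).1) h34)

/-- The contradiction. -/
theorem false : False := by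
  haveI := s.norK
  set V0 : Subgroup G := closure ({m 2, m 3, m 4} ∪ (K : Set G)) with hV0
  obtain ⟨c23, c24, c34⟩ := s.commute_of_five
  have kc : ∀ k ∈ K, ∀ i, k * m i = m i * k := fun k hk i => s.kcentral k hk _ (s.m_mem i)
  haveI hV0c : IsMulCommutative V0 := by
    refine isMulCommutative_closure fun x hx y hy => ?_
    rcases hx with (rfl | rfl | rfl) | hx <;> rcases hy with (rfl | rfl | rfl) | hy
    all_goals first
      | rfl | exact c23.eq | exact c24.eq | exact c34.eq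
      | exact c23.eq.symm | exact c24.eq.symm | exact c34.eq.symm
      | exact kc _ hx _ | exact (kc _ hy _).symm | exact s.kcentral _ hx _ (s.KB hy)
  have vc : ∀ u ∈ V0, ∀ v ∈ V0, u * v = v * u := fun u hu v hv =>
    congrArg Subtype.val (hV0c.is_comm.comm ⟨u, hu⟩ ⟨v, hv⟩)
  have hmV : ∀ i, 2 ≤ i → i ≤ 5 → m i ∈ V0 := by
    intro i h1 h2
    interval_cases i
    · exact subset_closure (Or.inl (Or.inl rfl))
    · exact subset_closure (Or.inl (Or.inr (Or.inl rfl)))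
    · exact subset_closure (Or.inl (Or.inr (Or.inr rfl)))
    · exact subset_closure (Or.inr s.five)
  have hKV : K ≤ V0 := fun k hk => subset_closure (Or.inr hk)
  have haV : ∀ v ∈ V0, a * v * a⁻¹ ∈ V0 := by
    intro v hv
    induction hv using closure_induction with
    | mem x hx =>
      rcases hx with (rfl | rfl | rfl) | hx
      · rw [conj_it]; exact mul_mem (hmV 3 (by omega) (by omega)) (hmV 2 (by omega) (by omega))
      · rw [conj_it]; exact mul_mem (hmV 4 (by omega) (by omega)) (hmV 3 (by omega) (by omega))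
      · rw [conj_it]; exact mul_mem (hmV 5 (by omega) (by omega)) (hmV 4 (by omega) (by omega))
      · exact hKV (s.norK.conj_mem _ hx a)
    | one => simp
    | mul x y _ _ ihx ihy =>
      rw [show a * (x * y) * a⁻¹ = (a * x * a⁻¹) * (a * y * a⁻¹) by group]
      exact mul_mem ihx ihy
    | inv x _ ih =>
      rw [show a * x⁻¹ * a⁻¹ = (a * x * a⁻¹)⁻¹ by group]
      exact inv_mem ih
  set x := m 1 with hx
  -- the function `b ↦ [b, x]`
  have hpow : ∀ i : ℕ, ⁅a ^ i, x⁆ ∈ V0 := by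
    intro i
    induction i with
    | zero => simp
    | succ i ih =>
      rw [show ⁅a ^ (i + 1), x⁆ = a * ⁅a ^ i, x⁆ * a⁻¹ * ⁅a, x⁆ by
        simp [commutatorElement_def, pow_succ', mul_assoc]]
      exact mul_mem (haV _ ih) (hmV 2 le_rfl (by omega))
  have hsb : ∀ i : ℕ, ∀ c ∈ A1, ∃ k ∈ K, ⁅a ^ i * c, x⁆ = k * ⁅a ^ i, x⁆ := fun i c hc =>
    ⟨a ^ i * ⁅c, x⁆ * (a ^ i)⁻¹, s.norK.conj_mem _ (s.fix_m hc 1) _,
      by simp [commutatorElement_def, mul_assoc]⟩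
  set M : Subgroup G := closure {g | ∃ b ∈ A, g = ⁅b, x⁆} with hM
  have hMV : M ≤ V0 := by
    rw [hM, closure_le]
    rintro _ ⟨b, hb, rfl⟩
    obtain ⟨i, -, c, hc, rfl⟩ := s.reps b hb
    obtain ⟨k, hk, e⟩ := hsb i c hc
    rw [e]
    exact mul_mem (hKV hk) (hpow i)
  have hsM : ∀ b ∈ A, ⁅b, x⁆ ∈ M := fun b hb => subset_closure ⟨b, hb, rfl⟩
  have hconj : ∀ b ∈ A, ∀ d, b * ⁅d, x⁆ * b⁻¹ * ⁅b, x⁆ = ⁅b * d, x⁆ := fun b _ d => by
    simp [commutatorElement_def, mul_assoc]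
  have hm2 : m 2 ∈ M := hsM a s.aA
  have hm3 : m 3 ∈ M := by
    show ⁅a, m 2⁆ ∈ M
    rw [commutatorElement_def]
    refine mul_mem ?_ (inv_mem hm2)
    have := hconj a s.aA a
    rw [show a * m 2 * a⁻¹ = ⁅a * a, x⁆ * (⁅a, x⁆)⁻¹ from eq_mul_inv_of_mul_eq this]
    exact mul_mem (hsM _ (mul_mem s.aA s.aA)) (inv_mem (hsM a s.aA))
  set D : Subgroup G := A ⊓ centralizer (M : Set G) with hD
  set C : Subgroup G := M ⊓ A with hC
  set L : Subgroup G := (M ⊓ K) ⊔ C with hL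
  have hMB : M ≤ B := by
    rw [hM, closure_le]
    rintro _ ⟨b, hb, rfl⟩
    rw [commutatorElement_def]
    exact mul_mem (s.norB.conj_mem _ (s.m_mem 1) b) (inv_mem (s.m_mem 1))
  have hY : IsMulCommutative ↥(M ⊔ D) :=
    isMulCommutative_sup (fun u hu v hv => vc u (hMV hu) v (hMV hv))
      (fun b hb c hc => s.comm b hb.1 c hc.1)
      (fun u hu b hb => mem_centralizer_iff.mp hb.2 u hu)
  have h1 : D.relIndex M ≤ D.relIndex A :=
    relIndex_le_of_abelian_sup inf_le_left le_sup_right le_sup_left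
      (s.maxA _ (sup_le (hMB.trans (s.BU.trans s.UT)) (inf_le_left.trans s.AT)) hY)
  have hDC : C.relIndex M ≤ D.relIndex M := by
    rw [← inf_relIndex_right D M]
    refine relIndex_le_of_le_left (le_inf inf_le_right (inf_le_left.trans inf_le_left))
      (rne _ _)
  -- key injectivity
  have key : ∀ d ∈ A, ∀ e ∈ A, (⁅d, x⁆)⁻¹ * ⁅e, x⁆ ∈ C → d⁻¹ * e ∈ D := by
    intro d hd e he hc
    refine ⟨A.mul_mem (A.inv_mem hd) he, mem_centralizer_iff.mpr fun g hg => ?_⟩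
    suffices M ≤ Subgroup.centralizer ({d⁻¹ * e} : Set G) from (mem_centralizer_singleton_iff.mp (this hg)).symm.symm
    rw [hM, closure_le]
    rintro _ ⟨b, hb, rfl⟩
    rw [SetLike.mem_coe, mem_centralizer_singleton_iff]
    obtain ⟨c, hcc, hce⟩ : ∃ c ∈ C, ⁅e, x⁆ = ⁅d, x⁆ * c := ⟨_, hc, by group⟩
    have hbc : b * c = c * b := s.comm b hb c hcc.2
    have i1 : ∀ f ∈ A, b * ⁅f, x⁆ * b⁻¹ * (⁅f, x⁆)⁻¹ = f * ⁅b, x⁆ * f⁻¹ * (⁅b, x⁆)⁻¹ := by
      intro f hf
      have e1 := hconj b hb f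
      have e2 := hconj f hf b
      rw [s.comm f hf b hb, ← e1] at e2
      have hfM : b * ⁅f, x⁆ * b⁻¹ ∈ M := by
        rw [eq_mul_inv_of_mul_eq (hconj b hb f)]
        exact mul_mem (hsM _ (mul_mem hb hf)) (inv_mem (hsM b hb))
      have cm := vc _ (hMV hfM) _ (hMV (hsM b hb))
      calc b * ⁅f, x⁆ * b⁻¹ * (⁅f, x⁆)⁻¹
          = (b * ⁅f, x⁆ * b⁻¹ * ⁅b, x⁆) * (⁅b, x⁆)⁻¹ * (⁅f, x⁆)⁻¹ := by group
        _ = f * ⁅b, x⁆ * f⁻¹ * (⁅f, x⁆ * (⁅b, x⁆)⁻¹ * (⁅f, x⁆)⁻¹) := by rw [← e2]; group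
        _ = _ := by
          rw [vc _ (hMV (hsM f hf)) _ (hMV (inv_mem (hsM b hb))), mul_inv_cancel_right]
    have i2 := i1 e he
    rw [hce, show b * (⁅d, x⁆ * c) * b⁻¹ * (⁅d, x⁆ * c)⁻¹ =
      b * ⁅d, x⁆ * (c * b⁻¹ * c⁻¹) * (⁅d, x⁆)⁻¹ by group, show c * b⁻¹ * c⁻¹ = b⁻¹ by
        rw [show c * b⁻¹ = b⁻¹ * c from s.comm c hcc.2 _ (inv_mem hb)]; group, i1 d hd] at i2
    have i3 : d * ⁅b, x⁆ * d⁻¹ = e * ⁅b, x⁆ * e⁻¹ := mul_right_cancel i2
    calc ⁅b, x⁆ * (d⁻¹ * e) = d⁻¹ * (d * ⁅b, x⁆ * d⁻¹) * e := by group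
      _ = d⁻¹ * e * ⁅b, x⁆ := by rw [i3]; group
  have h2 : D.relIndex A ≤ p * C.relIndex L := by
    rw [relIndex_card_quot, relIndex_card_quot]
    have hr : ∀ q : ↥A ⧸ D.subgroupOf A, ∃ r : Fin p × ↥L, ∀ b : ↥A,
        b = q.out → ⁅(b : G), x⁆ = r.2.1 * ⁅a ^ (r.1 : ℕ), x⁆ := by
      intro q
      obtain ⟨i, hi, c, hc, e⟩ := s.reps q.out.1 q.out.2
      obtain ⟨k, hk, ek⟩ := hsb i c hc
      have hkM : k ∈ M := by
        rw [eq_mul_inv_of_mul_eq ek.symm]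
        exact mul_mem (hsM _ (e ▸ q.out.2)) (inv_mem (hsM _ (pow_mem s.aA i)))
      refine ⟨⟨⟨i, hi⟩, ⟨k, mem_sup_left ⟨hkM, hk⟩⟩⟩, fun b hb => ?_⟩
      rw [hb, e, ek]
    choose r hr using hr
    let φ : ↥A ⧸ D.subgroupOf A → Fin p × (↥L ⧸ C.subgroupOf L) := fun q => ((r q).1, (r q).2)
    have hφ : Function.Injective φ := by
      intro q q' h
      simp only [φ, Prod.mk.injEq] at h
      rw [← Quotient.out_eq' q, ← Quotient.out_eq' q']
      refine QuotientGroup.eq.2 ?_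
      rw [mem_subgroupOf]
      refine key _ q.out.2 _ q'.out.2 ?_
      rw [hr q q.out rfl, hr q' q'.out rfl, h.1]
      have hl := mem_subgroupOf.1 (QuotientGroup.eq.1 h.2)
      push_cast at hl
      have hlv := vc _ (hMV ((inf_le_left : C ≤ M) hl)) _ (hMV (hsM _ (pow_mem s.aA (r q').1.1)))
      rw [show ((r q).2.1 * ⁅a ^ ((r q').1 : ℕ), x⁆)⁻¹ * ((r q').2.1 * ⁅a ^ ((r q').1 : ℕ), x⁆) =
        (⁅a ^ ((r q').1 : ℕ), x⁆)⁻¹ * ((r q).2.1⁻¹ * (r q').2.1 * ⁅a ^ ((r q').1 : ℕ), x⁆) by group,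
        hlv, inv_mul_cancel_left]
      exact hl
    refine (Nat.card_le_card_of_injective φ hφ).trans ?_
    rw [Nat.card_prod, Nat.card_eq_fintype_card (α := Fin p), Fintype.card_fin]
  have hCL : C ≤ L := le_sup_right
  have hLM : L ≤ M := sup_le inf_le_left inf_le_left
  have h3 : L.relIndex M ≤ p := by
    have := (hDC.trans h1).trans h2
    rw [← relIndex_mul_relIndex C L M hCL hLM, mul_comm p] at this
    exact Nat.le_of_mul_le_mul_left this (Nat.pos_of_ne_zero (rne _ _))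
  -- elements of `L` are fixed by `a` modulo `K`
  have hLfix : ∀ l ∈ L, ⁅a, l⁆ ∈ K := by
    intro l hl
    have hLB : L ≤ B := hLM.trans hMB
    suffices L ≤ ({ carrier := {g | g ∈ B ∧ ⁅a, g⁆ ∈ K}
                    one_mem' := ⟨one_mem _, by simp⟩
                    mul_mem' := fun hg hh => ⟨mul_mem hg.1 hh.1, s.fix_mul hg.1 hh.1 hg.2 hh.2⟩
                    inv_mem' := fun {g} hg => ⟨inv_mem hg.1, by
                      rw [show ⁅a, g⁻¹⁆ = g⁻¹ * (⁅a, g⁆)⁻¹ * g⁻¹⁻¹ by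
                        simp [commutatorElement_def, mul_assoc]]
                      exact s.norK.conj_mem _ (inv_mem hg.2) _⟩ } : Subgroup G) from (this hl).2
    refine sup_le (fun g hg => ⟨hMB hg.1, ?_⟩) (fun g hg => ⟨hMB hg.1, ?_⟩)
    · rw [commutatorElement_def]
      exact mul_mem (s.norK.conj_mem _ hg.2 a) (inv_mem hg.2)
    · rw [commutatorElement_eq_one_iff_mul_comm.2 (s.comm a s.aA g hg.2)]
      exact one_mem K
  let ψ : Fin p × Fin p → ↥M ⧸ L.subgroupOf M := fun r =>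
    ((⟨m 2, hm2⟩ : ↥M) ^ (r.1 : ℕ) * (⟨m 3, hm3⟩ : ↥M) ^ (r.2 : ℕ) : ↥M)
  have hψ : Function.Injective ψ := by
    intro r r' h
    have hl := hLfix _ (mem_subgroupOf.1 (QuotientGroup.eq.1 h))
    push_cast at hl
    set i : ℤ := (r'.1 : ℕ) - (r.1 : ℕ)
    set j : ℤ := (r'.2 : ℕ) - (r.2 : ℕ)
    have e : (m 2 ^ (r.1 : ℕ) * m 3 ^ (r.2 : ℕ))⁻¹ * (m 2 ^ (r'.1 : ℕ) * m 3 ^ (r'.2 : ℕ)) =
        m 2 ^ i * m 3 ^ j := by
      simp only [mul_inv_rev, i, j, ← zpow_natCast, ← zpow_neg, mul_assoc]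
      rw [← mul_assoc (m 2 ^ (-((r.1 : ℕ) : ℤ))), ← zpow_add, ← mul_assoc,
        (c23.zpow_zpow _ _).symm.eq, mul_assoc, ← zpow_add]
      congr 2 <;> ring
    rw [e] at hl
    have hK2 : m 3 ^ i * m 4 ^ j ∈ K := by
      have e' : ⁅a, m 2 ^ i * m 3 ^ j⁆ = m 3 ^ i * m 4 ^ j := by
        have q2 : (a * m 2 * a⁻¹) ^ i = m 3 ^ i * m 2 ^ i := by
          rw [conj_it, c23.symm.mul_zpow]
        have q3 : (a * m 3 * a⁻¹) ^ j = m 4 ^ j * m 3 ^ j := by
          rw [conj_it, c34.symm.mul_zpow]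
        rw [commutatorElement_def, show a * (m 2 ^ i * m 3 ^ j) * a⁻¹ =
          (a * m 2 ^ i * a⁻¹) * (a * m 3 ^ j * a⁻¹) by group, ← conj_zpow, ← conj_zpow, q2, q3]
        have q4 := (c24.zpow_zpow i j).eq
        calc m 3 ^ i * m 2 ^ i * (m 4 ^ j * m 3 ^ j) * (m 2 ^ i * m 3 ^ j)⁻¹
            = m 3 ^ i * (m 2 ^ i * m 4 ^ j) * (m 2 ^ i)⁻¹ := by group
          _ = _ := by rw [q4]; group
      rwa [e'] at hl
    have hK4 : m 4 ^ i ∈ K := by
      have q3 : (a * m 3 * a⁻¹) ^ i = m 4 ^ i * m 3 ^ i := by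
        rw [conj_it, c34.symm.mul_zpow]
      have q4 : (a * m 4 * a⁻¹) ^ j = m 5 ^ j * m 4 ^ j := by
        have h54 : Commute (m 5) (m 4) := s.kcentral _ s.five _ (s.m_mem 4)
        rw [conj_it, h54.mul_zpow]
      have e' : ⁅a, m 3 ^ i * m 4 ^ j⁆ = m 4 ^ i * m 5 ^ j := by
        rw [commutatorElement_def, show a * (m 3 ^ i * m 4 ^ j) * a⁻¹ =
          (a * m 3 ^ i * a⁻¹) * (a * m 4 ^ j * a⁻¹) by group, ← conj_zpow, ← conj_zpow, q3, q4]
        have q5 := s.kcentral _ (zpow_mem s.five j) _ (zpow_mem (s.m_mem 3) i)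
        calc m 4 ^ i * m 3 ^ i * (m 5 ^ j * m 4 ^ j) * (m 3 ^ i * m 4 ^ j)⁻¹
            = m 4 ^ i * (m 3 ^ i * m 5 ^ j) * (m 3 ^ i)⁻¹ := by group
          _ = _ := by rw [← q5]; group
      have h' : ⁅a, m 3 ^ i * m 4 ^ j⁆ ∈ K := by
        rw [commutatorElement_def]
        exact mul_mem (s.norK.conj_mem _ hK2 a) (inv_mem hK2)
      rw [e'] at h'
      exact (Subgroup.mul_mem_cancel_right K (zpow_mem s.five j)).1 h'
    have hdvd : ∀ (k : ℤ) (g : G), g ∈ B → g ∉ K → g ^ k ∈ K → (p : ℤ) ∣ k := by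
      intro k g hgB hg hk
      by_contra hn
      obtain ⟨u, v, huv⟩ : IsCoprime k (p : ℤ) :=
        ((Nat.prime_iff_prime_int.mp hp.out).coprime_iff_not_dvd.mpr hn).symm
      refine hg ?_
      have : g = (g ^ k) ^ u * (g ^ (p : ℤ)) ^ v := by
        rw [← zpow_mul, ← zpow_mul, ← zpow_add, show k * u + (p : ℤ) * v = 1 by linear_combination huv,
          zpow_one]
      rw [this]
      exact mul_mem (zpow_mem hk u) (zpow_mem (by rw [zpow_natCast]; exact s.bpow g hgB) v)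
    have hi0 : i = 0 := by
      have hd := hdvd i _ (s.m_mem 4) s.four hK4
      have b1 : (r'.1 : ℕ) < p := r'.1.2
      have b2 : (r.1 : ℕ) < p := r.1.2
      refine Int.eq_zero_of_abs_lt_dvd hd ?_
      rw [abs_lt]; omega
    have hj0 : j = 0 := by
      rw [hi0, zpow_zero, one_mul] at hK2
      have hd := hdvd j _ (s.m_mem 4) s.four hK2
      have b1 : (r'.2 : ℕ) < p := r'.2.2
      have b2 : (r.2 : ℕ) < p := r.2.2
      refine Int.eq_zero_of_abs_lt_dvd hd ?_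
      rw [abs_lt]; omega
    refine Prod.ext (Fin.ext ?_) (Fin.ext ?_)
    · simp only [i] at hi0; omega
    · simp only [j] at hj0; omega
  have h4 := Nat.card_le_card_of_injective ψ hψ
  rw [← relIndex_card_quot, Nat.card_prod, Nat.card_eq_fintype_card (α := Fin p), Fintype.card_fin] at h4
  have := hp.out.two_le
  nlinarith

end Setup

end Cfsg.Agent.ThompsonJ52Count
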