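import Mathlib
import Cfsg.Prelude.Def_Solvable
import Cfsg.Prelude.Def_Transfer
import Cfsg.Agent.Lib.HallCore
import Cfsg.Agent.Lib.TransferPResidual
import Cfsg.Agent.Lib.ThompsonJ52Count

/-!
In a `p`-constrained group (`p ≥ 5`) with abelian `p`-residual modulo `O_p`, every abelian subgroup
of largest order of a Sylow `p`-subgroup lies in `O_p`.
-/

set_option autoImplicit false
set_option linter.unusedSectionVars false

namespace Cfsg.Agent.ThompsonJ52Core

open Subgroup
open scoped commutatorElement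
open Cfsg.Agent.TransferPResidual

theorem sub_one_pow_pred {R : Type*} [Ring R] {p : ℕ} [Fact p.Prime] [CharP R p] (x : R) :
    (x - 1) ^ (p - 1) = ∑ i : Fin p, x ^ (i : ℕ) := by
  have hp := (Fact.out : p.Prime)
  have h : ((Polynomial.X : Polynomial (ZMod p)) - 1) ^ (p - 1) =
      ∑ i : Fin p, (Polynomial.X : Polynomial (ZMod p)) ^ (i : ℕ) := by
    have hne : (Polynomial.X : Polynomial (ZMod p)) - 1 ≠ 0 := by
      rw [← Polynomial.C_1]; exact Polynomial.X_sub_C_ne_zero 1
    refine mul_left_cancel₀ hne ?_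
    rw [← pow_succ', Nat.sub_add_cancel hp.one_le, sub_pow_char, one_pow,
      Fin.sum_univ_eq_sum_range (fun i => (Polynomial.X : Polynomial (ZMod p)) ^ i), mul_geom_sum]
  set φ := Polynomial.eval₂RingHom' (ZMod.castHom dvd_rfl R) x
    (fun a => by rw [ZMod.castHom_apply, ← ZMod.natCast_val]; exact Nat.cast_commute _ _) with hφ
  have hX : φ Polynomial.X = x := Polynomial.eval₂_X _ _
  have := congrArg φ h
  rw [map_pow, map_sub, hX, map_one, map_sum] at this
  simpa only [map_pow, hX] using this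

section Block

variable {p : ℕ} [hp : Fact p.Prime] {Q : Type*} [Group Q] [Finite Q]
variable {V : Type*} [AddCommGroup V] [Finite V] (ρ : Q →* AddMonoid.End V)

theorem sum_apply {ι : Type*} (s : Finset ι) (f : ι → AddMonoid.End V) (v : V) :
    (∑ i ∈ s, f i) v = ∑ i ∈ s, f i v :=
  map_sum (AddMonoidHom.mk' (fun g : AddMonoid.End V => g v) fun _ _ => rfl) f s

theorem rho_mul (g h : Q) (v : V) : ρ (g * h) v = ρ g (ρ h v) := by rw [map_mul]; rfl

theorem exists_block (hpV : ∀ v : V, p • v = 0) (E R : Subgroup Q) (hE : IsPGroup p E)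
    (hEc : ∀ e ∈ E, ∀ f ∈ E, e * f = f * e) (hR : (Nat.card R).Coprime p)
    (hRc : ∀ r ∈ R, ∀ t ∈ R, r * t = t * r) (hRn : ∀ e ∈ E, ∀ r ∈ R, e * r * e⁻¹ ∈ R)
    (hsr : ∀ e ∈ E, (∃ r ∈ R, e * r ≠ r * e) → ∀ r ∈ R, e * r = r * e → r = 1)
    (hne : ∃ e ∈ E, ∃ r ∈ R, e * r ≠ r * e) (hnt : ∃ r ∈ R, ρ r ≠ 1) :
    ∃ (E0 : Subgroup Q) (a : Q) (z : V), E0 ≤ E ∧ E0.relIndex E = p ∧ a ∈ E ∧ a ∉ E0 ∧ a ^ p ∈ E0 ∧
      (∀ c ∈ E0, ρ c z = z) ∧ ((ρ a - 1) ^ (p - 1)) z ≠ 0 := by
  classical
  haveI : Fintype ↥R := Fintype.ofFinite _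
  letI : CommGroup ↥E :=
    { (inferInstance : Group ↥E) with mul_comm := fun x y => Subtype.ext (hEc x x.2 y y.2) }
  set E1 : Subgroup Q := E ⊓ centralizer (R : Set Q) with hE1
  have hE1c : ∀ e ∈ E1, ∀ r ∈ R, r * e = e * r := fun e he r hr => mem_centralizer_iff.mp he.2 r hr
  set σ : V →+ V := (∑ r : ↥R, ρ r.1 : AddMonoid.End V) with hσ
  have hσa : ∀ v, σ v = ∑ r : ↥R, ρ r.1 v := fun v => sum_apply _ _ v
  have hσR : ∀ t : ↥R, ∀ v, σ (ρ t.1 v) = σ v := fun t v => by
    rw [hσa, hσa]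
    refine Fintype.sum_equiv (Equiv.mulRight t) _ _ fun r => ?_
    rw [Equiv.coe_mulRight, coe_mul, rho_mul]
  -- a nonzero fixed vector in the kernel of the trace
  obtain ⟨w, hw0, hwσ, hw⟩ : ∃ w : V, w ≠ 0 ∧ σ w = 0 ∧ ∀ e ∈ E1, ρ e w = w := by
    have hcE1 : ∀ e ∈ E1, ∀ v, σ v = 0 → σ (ρ e v) = 0 := by
      intro e he v hv
      rw [hσa]
      calc ∑ r : ↥R, ρ r.1 (ρ e v) = ∑ r : ↥R, ρ e (ρ r.1 v) := by
            refine Finset.sum_congr rfl fun r _ => ?_
            rw [← rho_mul, ← rho_mul, hE1c e he r.1 r.2]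
        _ = ρ e (σ v) := by rw [hσa, map_sum]
        _ = 0 := by rw [hv, map_zero]
    letI : MulAction ↥E1 {v : V // σ v = 0} :=
      { smul := fun e v => ⟨ρ e.1 v.1, hcE1 e.1 e.2 v.1 v.2⟩
        one_smul := fun v => Subtype.ext (show ρ ((1 : ↥E1) : Q) v.1 = v.1 by simp)
        mul_smul := fun e f v => Subtype.ext (rho_mul ρ e.1 f.1 v.1) }
    obtain ⟨r, hr, hrne⟩ := hnt
    have hker : (σ.ker : AddSubgroup V) ≠ ⊥ := by
      intro hb
      refine hrne (AddMonoidHom.ext fun v => ?_)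
      have : ρ r v - v ∈ σ.ker := by
        rw [AddMonoidHom.mem_ker, map_sub, hσR ⟨r, hr⟩, sub_self]
      rw [hb, AddSubgroup.mem_bot, sub_eq_zero] at this
      exact this
    have hdvd : p ∣ Nat.card {v : V // σ v = 0} := by
      obtain ⟨⟨v, hv⟩, hv'⟩ := (AddSubgroup.ne_bot_iff_exists_ne_zero (H := σ.ker)).mp hker
      have hv0 : v ≠ 0 := fun e => hv' (Subtype.ext e)
      have h := addOrderOf_dvd_natCard (⟨v, hv⟩ : σ.ker)
      rw [← AddSubgroup.addOrderOf_coe, addOrderOf_eq_prime (hpV v) hv0] at h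
      exact h
    have h0 : (⟨0, map_zero σ⟩ : {v : V // σ v = 0}) ∈ MulAction.fixedPoints ↥E1 {v : V // σ v = 0} :=
      fun e => Subtype.ext (map_zero (ρ e.1))
    obtain ⟨b, hb, hb0⟩ :=
      (hE.to_le (inf_le_left : E1 ≤ E)).exists_fixed_point_of_prime_dvd_card_of_fixed_point _ hdvd h0
    exact ⟨b.1, fun e => hb0 (Subtype.ext e.symm), b.2, fun e he => congrArg Subtype.val (hb ⟨e, he⟩)⟩
  let P := ↥E ⧸ E1.subgroupOf E
  haveI : Fintype P := Fintype.ofFinite _
  have hout : ∀ (v : V), (∀ e ∈ E1, ρ e v = v) → ∀ e : ↥E,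
      ρ ((e : P).out : ↥E).1 v = ρ e.1 v := by
    intro v hv e
    obtain ⟨c, hc⟩ := QuotientGroup.mk_out_eq_mul (E1.subgroupOf E) e
    rw [hc, coe_mul, rho_mul, hv _ (mem_subgroupOf.mp c.2)]
  let N : V →+ V := (∑ q : P, ρ (q.out : ↥E).1 : AddMonoid.End V)
  have hNa : ∀ v, N v = ∑ q : P, ρ (q.out : ↥E).1 v := fun v => sum_apply _ _ v
  obtain ⟨r₀, hr₀⟩ : ∃ r : ↥R, N (ρ r.1 w) ≠ 0 := by
    by_contra hall
    push Not at hall
    have key : ∑ r : ↥R, ρ (r⁻¹ : ↥R).1 (N (ρ r.1 w)) = Fintype.card ↥R • w := by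
      simp only [hNa, map_sum]
      rw [Finset.sum_comm, Finset.sum_eq_single (1 : P)]
      · rw [← Finset.card_univ, ← Finset.sum_const]
        refine Finset.sum_congr rfl fun r _ => ?_
        have h1 : ((1 : P).out : ↥E).1 ∈ E1 := mem_subgroupOf.mp
          ((QuotientGroup.eq_one_iff _).mp (Quotient.out_eq' (1 : P)))
        rw [← rho_mul, ← rho_mul, mul_assoc, ← hE1c _ h1 r.1 r.2, ← mul_assoc, coe_inv,
          inv_mul_cancel, one_mul]
        exact hw _ h1
      · intro q _ hq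
        set e := (q.out : ↥E) with he
        have heE1 : (e : Q) ∉ E1 := fun h => hq (by
          rw [← Quotient.out_eq' q]; exact (QuotientGroup.eq_one_iff _).mpr (mem_subgroupOf.mpr h))
        have hmove : ∃ r ∈ R, (e : Q) * r ≠ r * e := by
          by_contra hc
          push Not at hc
          exact heE1 ⟨e.2, mem_centralizer_iff.mpr fun r hr => (hc r hr).symm⟩
        let φ : ↥R → ↥R := fun r => ⟨r.1⁻¹ * ((e : Q) * r.1 * (e : Q)⁻¹),
          mul_mem (inv_mem r.2) (hRn _ e.2 _ r.2)⟩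
        have hφ : Function.Injective φ := by
          intro r t hrt
          have h' : r.1⁻¹ * ((e : Q) * r.1 * (e : Q)⁻¹) = t.1⁻¹ * ((e : Q) * t.1 * (e : Q)⁻¹) :=
            congrArg Subtype.val hrt
          have hfix : (e : Q) * (t.1⁻¹ * r.1) = (t.1⁻¹ * r.1) * e := by
            have hc := hRc _ (inv_mem t.2) _ (hRn _ e.2 _ r.2)
            have hc2 := hRc _ r.2 _ (inv_mem t.2)
            have h2 : (e : Q) * r.1 * (e : Q)⁻¹ = r.1 * t.1⁻¹ * ((e : Q) * t.1 * (e : Q)⁻¹) := by
              rw [mul_assoc r.1, ← h', mul_inv_cancel_left]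
            have h3 : (e : Q) * t.1⁻¹ * (e : Q)⁻¹ * ((e : Q) * r.1 * (e : Q)⁻¹) = t.1⁻¹ * r.1 := by
              rw [h2, ← hc2, hRc _ (hRn _ e.2 _ (inv_mem t.2)) _
                (mul_mem (mul_mem r.2 (inv_mem t.2)) (hRn _ e.2 _ t.2))]
              group
            calc (e : Q) * (t.1⁻¹ * r.1)
                = ((e : Q) * t.1⁻¹ * (e : Q)⁻¹ * ((e : Q) * r.1 * (e : Q)⁻¹)) * e := by group
              _ = _ := by rw [h3]
          have := hsr _ e.2 hmove _ (mul_mem (inv_mem t.2) r.2) hfix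
          exact Subtype.ext (inv_mul_eq_one.mp this).symm
        have hbij : Function.Bijective φ := Finite.injective_iff_bijective.mp hφ
        calc ∑ r : ↥R, ρ (r⁻¹ : ↥R).1 (ρ (e : Q) (ρ r.1 w))
            = ∑ r : ↥R, ρ (φ r).1 (ρ (e : Q) w) := by
              refine Finset.sum_congr rfl fun r _ => ?_
              rw [← rho_mul, ← rho_mul, ← rho_mul]
              congr 2
              simp [φ, mul_assoc]
          _ = ∑ t : ↥R, ρ t.1 (ρ (e : Q) w) :=
              Fintype.sum_bijective φ hbij _ _ fun _ => rfl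
          _ = ρ (e : Q) (σ w) := by
              rw [hσa, map_sum]
              let ψ : ↥R → ↥R := fun r => ⟨(e : Q) * r.1 * (e : Q)⁻¹, hRn _ e.2 _ r.2⟩
              have hψ : Function.Bijective ψ := Finite.injective_iff_bijective.mp fun r t h =>
                Subtype.ext (mul_left_cancel (mul_right_cancel (congrArg Subtype.val h)))
              refine (Fintype.sum_bijective ψ hψ _ _ fun r => ?_).symm
              rw [← rho_mul, ← rho_mul]
              congr 2
              simp [ψ]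
          _ = 0 := by rw [hwσ, map_zero]
      · intro h; exact absurd (Finset.mem_univ _) h
    refine hw0 ?_
    simp only [hall, map_zero, Finset.sum_const_zero] at key
    obtain ⟨u, v, huv⟩ := Nat.Coprime.isCoprime hR
    have h1 : (Nat.card R : ℤ) • w = 0 := by
      rw [natCast_zsmul, Nat.card_eq_fintype_card]; exact key.symm
    have h2 : (p : ℤ) • w = 0 := by rw [natCast_zsmul]; exact hpV w
    calc w = (u * (Nat.card R : ℤ) + v * (p : ℤ)) • w := by rw [huv, one_zsmul]
      _ = 0 := by rw [add_zsmul, mul_zsmul, mul_zsmul, h1, h2]; simp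
  set w' := ρ r₀.1 w with hw'
  have hw'E1 : ∀ e ∈ E1, ρ e w' = w' := fun e he => by
    rw [hw', ← rho_mul, ← hE1c e he _ r₀.2, rho_mul, hw e he]
  -- a maximal subgroup
  have hP : IsPGroup p P := hE.to_quotient _
  have hP1 : 1 < Nat.card P := by
    obtain ⟨e, he, r, hr, hne'⟩ := hne
    refine Finite.one_lt_card_iff_nontrivial.mpr ⟨⟨((⟨e, he⟩ : ↥E) : P), 1, fun h => hne' ?_⟩⟩
    exact (hE1c e (mem_subgroupOf.mp ((QuotientGroup.eq_one_iff _).mp h)) r hr).symm
  obtain ⟨k, hk⟩ := IsPGroup.iff_card.mp hP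
  obtain ⟨j, rfl⟩ : ∃ j, k = j + 1 := ⟨k - 1, by
    rcases k with _ | k
    · rw [hk, pow_zero] at hP1; omega
    · omega⟩
  obtain ⟨H, hH⟩ := Sylow.exists_subgroup_card_pow_prime p (G := P) (n := j)
    (by rw [hk]; exact pow_dvd_pow p (by omega))
  have hHi : H.index = p := by
    have := H.card_mul_index
    rw [hH, hk, pow_succ] at this
    exact Nat.eq_of_mul_eq_mul_left (pow_pos hp.out.pos j) this
  set E0 : Subgroup Q := (H.comap (QuotientGroup.mk' (E1.subgroupOf E))).map E.subtype with hE0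
  have hmem0 : ∀ e : ↥E, (e : Q) ∈ E0 ↔ (e : P) ∈ H := fun e => by
    rw [hE0, ← coe_subtype, mem_map_iff_mem E.subtype_injective]; rfl
  have hidx : E0.relIndex E = p := by
    rw [relIndex, hE0, subgroupOf, comap_map_eq_self_of_injective E.subtype_injective,
      index_comap_of_surjective _ (QuotientGroup.mk'_surjective _), hHi]
  obtain ⟨q, hq⟩ : ∃ q : P, q ∉ H := by
    by_contra hall
    push Not at hall
    rw [(eq_top_iff' H).mpr hall, index_top] at hHi
    exact hp.out.one_lt.ne hHi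
  obtain ⟨a, rfl⟩ := QuotientGroup.mk_surjective q
  have hap : ((a : P)) ^ p ∈ H := by rw [← hHi]; exact H.pow_index_mem _
  haveI : Fintype ↥H := Fintype.ofFinite _
  set z : V := ∑ h : ↥H, ρ ((h : P).out : ↥E).1 w' with hz
  refine ⟨E0, a.1, z, map_subtype_le _, hidx, a.2, fun h => hq ((hmem0 a).mp h),
    by rw [← coe_pow]; exact (hmem0 _).mpr (by simpa using hap), ?_, ?_⟩
  · intro c hc
    obtain ⟨c', hc', rfl⟩ := mem_map.mp hc
    rw [hz, map_sum]
    refine Fintype.sum_equiv (Equiv.mulLeft (⟨(c' : P), hc'⟩ : ↥H)) _ _ fun h => ?_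
    rw [Equiv.coe_mulLeft, coe_mul, ← rho_mul]
    calc ρ ((E.subtype c') * ((h : P).out : ↥E).1) w' = ρ (c' * (h : P).out : ↥E).1 w' := rfl
      _ = _ := by
        rw [← hout w' hw'E1 (c' * (h : P).out)]
        congr 3
        rw [QuotientGroup.mk_mul, QuotientGroup.out_eq']
  · haveI : Nontrivial V := ⟨⟨w, 0, hw0⟩⟩
    haveI : CharP (AddMonoid.End V) p := by
      haveI : Nontrivial (AddMonoid.End V) := ⟨⟨1, 0, fun e => hw0 (DFunLike.congr_fun e w)⟩⟩
      refine (CharP.charP_iff_prime_eq_zero hp.out).mpr (AddMonoidHom.ext fun v => ?_)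
      rw [← nsmul_one]
      exact hpV v
    rw [sub_one_pow_pred]
    have he : (∑ i : Fin p, ρ a.1 ^ (i : ℕ)) z = N w' := by
      rw [sum_apply, hNa, hz]
      simp only [← map_pow, map_sum]
      rw [← Fintype.sum_prod_type']
      let φ : Fin p × ↥H → P := fun x => (a : P) ^ (x.1 : ℕ) * (x.2 : P)
      have hφi : Function.Injective φ := by
        rintro ⟨i, h⟩ ⟨i', h'⟩ e
        simp only [φ] at e
        rcases lt_trichotomy (i : ℕ) i' with hlt | heq | hlt
        · exfalso
          have hd : ((a : P) ^ ((i' : ℕ) - i)) ∈ H := by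
            have e2 : (a : P) ^ ((i' : ℕ) - i) = (h : P) * (h' : P)⁻¹ := by
              rw [show (i' : ℕ) = ((i' : ℕ) - i) + i by omega, pow_add] at e
              rw [eq_mul_inv_iff_mul_eq]
              refine mul_left_cancel (a := (a : P) ^ (i : ℕ)) ?_
              rw [e, ← mul_assoc, (Commute.pow_pow_self (a : P) _ _).eq]
            rw [e2]; exact mul_mem h.2 (inv_mem h'.2)
          refine hq ?_
          have hc : Nat.Coprime ((i' : ℕ) - i) p :=
            ((hp.out.coprime_iff_not_dvd).mpr fun hd' => by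
              have := Nat.le_of_dvd (by omega) hd'; omega).symm
          obtain ⟨u, v, huv⟩ := Nat.Coprime.isCoprime hc
          rw [← zpow_one (a : P), ← huv, zpow_add, mul_comm u, mul_comm v, zpow_mul, zpow_mul,
            zpow_natCast, zpow_natCast]
          exact mul_mem (zpow_mem hd u) (zpow_mem hap v)
        · have hii : i = i' := Fin.ext heq
          subst hii
          exact Prod.ext rfl (Subtype.ext (mul_left_cancel e))
        · exfalso
          have hd : ((a : P) ^ ((i : ℕ) - i')) ∈ H := by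
            have e2 : (a : P) ^ ((i : ℕ) - i') = (h' : P) * (h : P)⁻¹ := by
              rw [show (i : ℕ) = ((i : ℕ) - i') + i' by omega, pow_add] at e
              rw [eq_mul_inv_iff_mul_eq]
              refine mul_left_cancel (a := (a : P) ^ (i' : ℕ)) ?_
              rw [← e, ← mul_assoc, (Commute.pow_pow_self (a : P) _ _).eq]
            rw [e2]; exact mul_mem h'.2 (inv_mem h.2)
          refine hq ?_
          have hc : Nat.Coprime ((i : ℕ) - i') p :=
            ((hp.out.coprime_iff_not_dvd).mpr fun hd' => by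
              have := Nat.le_of_dvd (by omega) hd'; omega).symm
          obtain ⟨u, v, huv⟩ := Nat.Coprime.isCoprime hc
          rw [← zpow_one (a : P), ← huv, zpow_add, mul_comm u, mul_comm v, zpow_mul, zpow_mul,
            zpow_natCast, zpow_natCast]
          exact mul_mem (zpow_mem hd u) (zpow_mem hap v)
      have hφ : Function.Bijective φ := by
        refine (Nat.bijective_iff_injective_and_card φ).mpr ⟨hφi, ?_⟩
        rw [Nat.card_prod, Nat.card_eq_fintype_card (α := Fin p), Fintype.card_fin, hH, hk, pow_succ']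
      refine Fintype.sum_bijective φ hφ _ _ fun x => ?_
      rw [← rho_mul]
      calc ρ (a.1 ^ (x.1 : ℕ) * ((x.2 : P).out : ↥E).1) w'
          = ρ (a ^ (x.1 : ℕ) * (x.2 : P).out : ↥E).1 w' := rfl
        _ = _ := by
          rw [← hout w' hw'E1 (a ^ (x.1 : ℕ) * (x.2 : P).out)]
          congr 3
          rw [QuotientGroup.mk_mul, QuotientGroup.mk_pow, QuotientGroup.out_eq']
    rw [he]
    exact hr₀

end Block

end Cfsg.Agent.ThompsonJ52Core
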