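import Mathlib
import Cfsg.Prelude.Def_PLocal
import Cfsg.Prelude.Def_ConjugacyFunctors
import Cfsg.Agent.Lib.ThompsonJ52Core
import Cfsg.Agent.Lib.ThompsonAQuad
import Cfsg.Agent.Lib.NormalPComplementFunctor62

/-!
`J(T)` is normal in a `p`-constrained group (`p ≥ 5`) whose `p`-residual is abelian modulo `O_p`.
-/

set_option autoImplicit false
set_option linter.unusedSectionVars false

universe u

namespace Cfsg.Agent.ThompsonJ52Main

open Subgroup
open scoped commutatorElement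
open Cfsg.Agent.TransferPResidual
open Cfsg.Agent.ThompsonJ52Count (it)

variable {p : ℕ} [hp : Fact p.Prime] {X : Type*} [Group X] [Finite X]

theorem eq_one_of_fixed {U : Subgroup X} (hU : IsPGroup p U) {g b k : X}
    (hg : (orderOf g).Coprime p) (hk : k ∈ U) (he : g * b * g⁻¹ = k * b) (hgk : Commute g k) :
    k = 1 := by
  have hit : ∀ n : ℕ, g ^ n * b * (g ^ n)⁻¹ = k ^ n * b := by
    intro n
    induction n with
    | zero => simp
    | succ n ih =>
      calc g ^ (n + 1) * b * (g ^ (n + 1))⁻¹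
          = g * (g ^ n * b * (g ^ n)⁻¹) * g⁻¹ := by rw [pow_succ']; group
        _ = (g * k ^ n) * b * g⁻¹ := by rw [ih]; group
        _ = k ^ n * (g * b * g⁻¹) := by rw [(hgk.pow_right n).eq]; group
        _ = _ := by rw [he, pow_succ]; group
  have h1 := hit (orderOf g)
  rw [pow_orderOf_eq_one, one_mul, inv_one, mul_one] at h1
  obtain ⟨j, hj⟩ := hU ⟨k, hk⟩
  have h2 : k ^ p ^ j = 1 := congrArg Subtype.val hj
  have := pow_gcd_eq_one.2 ⟨(mul_eq_right.mp h1.symm : k ^ orderOf g = 1), h2⟩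
  rwa [(Nat.Coprime.pow_right j hg).gcd_eq_one, pow_one] at this

theorem exists_lift {H : Type*} [Group H] (π : X →* H) (hπ : Function.Surjective π) {r : H}
    (hr : (orderOf r).Coprime p) : ∃ g : X, π g = r ∧ (orderOf g).Coprime p := by
  obtain ⟨g, rfl⟩ := hπ r
  obtain ⟨k, n, hn, hkn⟩ := Nat.exists_eq_pow_mul_and_not_dvd (orderOf_pos g).ne' p hp.out.ne_one
  obtain ⟨j, hj⟩ := exists_pow_eq_self_of_coprime (n := p ^ k) (x := π g) (hr.symm.pow_left k)
  refine ⟨(g ^ p ^ k) ^ j, by rw [map_pow, map_pow, hj], ?_⟩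
  refine Nat.Coprime.coprime_dvd_left (?_ : _ ∣ n) ((hp.out.coprime_iff_not_dvd).mpr hn).symm
  refine orderOf_dvd_of_pow_eq_one ?_
  rw [← pow_mul, ← pow_mul, mul_comm j n, ← mul_assoc, pow_mul, ← hkn, pow_orderOf_eq_one, one_pow]

theorem it_add (a z : X) (j : ℕ) : ∀ k, it a (it a z j) k = it a z (j + k)
  | 0 => rfl
  | k + 1 => by show ⁅a, it a (it a z j) k⁆ = _; rw [it_add a z j k]; rfl

theorem card_le_quot {A Y : Subgroup X} {A1 : Subgroup X} {a : X} (hA1 : A1.relIndex A = p)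
    (hab : ∀ b ∈ A, ∀ c ∈ A, b * c = c * b) (ha : a ∈ A) (hna : a ∉ A1) (hA1A : A1 ≤ A)
    {b : X} (hb : b ∈ A) : ∃ i < p, ∃ c ∈ A1, b = a ^ i * c := by
  letI : CommGroup ↥A :=
    { (inferInstance : Group ↥A) with mul_comm := fun x y => Subtype.ext (hab x x.2 y y.2) }
  have hcard : Nat.card (↥A ⧸ A1.subgroupOf A) = p := by rw [← index_eq_card]; exact hA1
  have hne : ((⟨a, ha⟩ : ↥A) : ↥A ⧸ A1.subgroupOf A) ≠ 1 := fun h =>
    hna (mem_subgroupOf.mp ((QuotientGroup.eq_one_iff _).mp h))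
  have := mem_powers_of_prime_card hcard (g := ((⟨a, ha⟩ : ↥A) : ↥A ⧸ A1.subgroupOf A))
    (g' := ((⟨b, hb⟩ : ↥A) : ↥A ⧸ A1.subgroupOf A)) hne
  obtain ⟨i, hi⟩ := this
  refine ⟨i % p, Nat.mod_lt _ hp.out.pos, (a ^ (i % p))⁻¹ * b, ?_, by group⟩
  have h2 : ((⟨a, ha⟩ : ↥A) : ↥A ⧸ A1.subgroupOf A) ^ (i % p) = ((⟨b, hb⟩ : ↥A) : _) := by
    rw [← hi, pow_eq_pow_iff_modEq, orderOf_eq_prime (hcard ▸ pow_card_eq_one') hne]
    exact Nat.mod_modEq i p
  rw [← QuotientGroup.mk_pow, QuotientGroup.eq, mem_subgroupOf] at h2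
  simpa using h2

/-- Every abelian subgroup of largest order of a Sylow `p`-subgroup lies in `O_p`. -/
theorem core (hp5 : 5 ≤ p) (hc : centralizer (Cfsg.pCore p X : Set X) ≤ Cfsg.pCore p X)
    (hab : ⁅Cfsg.pResidual p X, Cfsg.pResidual p X⁆ ≤ Cfsg.pCore p X) (T : Sylow p X)
    {A : Subgroup X} (hAT : A ≤ T) (hA : IsMulCommutative A)
    (hmax : ∀ Y : Subgroup X, Y ≤ T → IsMulCommutative Y → Nat.card Y ≤ Nat.card A) :
    A ≤ Cfsg.pCore p X := by
  classical
  by_contra hAU
  have hAc : ∀ b ∈ A, ∀ c ∈ A, b * c = c * b := fun b hb c hc' =>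
    congrArg Subtype.val (hA.is_comm.comm ⟨b, hb⟩ ⟨c, hc'⟩)
  set U := Cfsg.pCore p X with hUdef
  haveI hUn : U.Normal := HallCore.pCore_normal p X
  have hUp : IsPGroup p U := HallCore.isPGroup_pCore p X
  have hUT : U ≤ (T : Subgroup X) := hUp.le_sylow_of_normal T
  set π := QuotientGroup.mk' U with hπ
  have hπs : Function.Surjective π := QuotientGroup.mk'_surjective U
  set KK := Cfsg.pResidual p (X ⧸ U) with hKK
  have hKKc : ∀ r ∈ KK, ∀ t ∈ KK, r * t = t * r := by
    rw [hKK, ← map_pResidual_eq_of_surjective π hπs]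
    rintro _ ⟨r, hr, rfl⟩ _ ⟨t, ht, rfl⟩
    refine commutatorElement_eq_one_iff_mul_comm.mp ?_
    rw [← map_commutatorElement]
    exact (QuotientGroup.eq_one_iff _).mpr (hab (commutator_mem_commutator hr ht))
  have hKKp : ∀ r ∈ KK, (orderOf r).Coprime p := by
    intro r hr
    rw [hKK, Cfsg.pResidual] at hr
    induction hr using closure_induction with
    | mem y hy => exact hy
    | one => simp
    | mul y z hy hz ihy ihz =>
      refine Nat.Coprime.coprime_dvd_left ?_ (ihy.mul_left ihz)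
      exact (Commute.orderOf_mul_dvd_lcm (hKKc y hy z hz)).trans (Nat.lcm_dvd_mul _ _)
    | inv y _ ih => rwa [orderOf_inv]
  set E := A.map π with hE
  have hEp : IsPGroup p E := (T.isPGroup'.to_le hAT).map π
  have hEc : ∀ e ∈ E, ∀ f ∈ E, e * f = f * e := by
    rintro _ ⟨e, he, rfl⟩ _ ⟨f, hf, rfl⟩
    rw [← map_mul, ← map_mul, hAc e he f hf]
  haveI hKKn : KK.Normal := inferInstance
  have hmove : ∃ e ∈ E, ∃ r ∈ KK, e * r ≠ r * e := by
    by_contra hno
    push Not at hno
    set Tb := T.mapSurjective hπs with hTb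
    set C := centralizer (KK : Set (X ⧸ U)) ⊓ (Tb : Subgroup (X ⧸ U)) with hC
    have hzn : (centralizer (KK : Set (X ⧸ U))).Normal := inferInstance
    have hCn : C.Normal := by
      refine normalizer_eq_top_iff.mp (top_le_iff.mp ?_)
      rw [← sylow_sup_pResidual Tb]
      refine sup_le (fun t ht => mem_normalizer_iff.mpr fun y => ?_) fun t ht => mem_normalizer_iff.mpr fun y => ?_
      · constructor
        · intro hy
          exact ⟨hzn.conj_mem y hy.1 t,
            (Tb : Subgroup (X ⧸ U)).mul_mem ((Tb : Subgroup (X ⧸ U)).mul_mem ht hy.2) ((Tb : Subgroup (X ⧸ U)).inv_mem ht)⟩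
        · intro hy
          have h1 := hzn.conj_mem _ hy.1 t⁻¹
          have h2 := (Tb : Subgroup (X ⧸ U)).mul_mem ((Tb : Subgroup (X ⧸ U)).mul_mem ((Tb : Subgroup (X ⧸ U)).inv_mem ht) hy.2) ht
          simp only [inv_inv] at h1
          constructor
          · show y ∈ centralizer (KK : Set (X ⧸ U)); convert h1 using 1; group
          · show y ∈ (Tb : Subgroup (X ⧸ U)); convert h2 using 1; group
      · constructor
        · intro hy
          rw [show t * y * t⁻¹ = y by rw [mem_centralizer_iff.mp hy.1 t ht]; group]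
          exact hy
        · intro hy
          rwa [show y = t * y * t⁻¹ from by
            have e := mem_centralizer_iff.mp hy.1 t ht
            have e2 : t * y = t * y * t⁻¹ * t := by group
            rw [← e] at e2
            exact mul_left_cancel e2]
    have hle : E ≤ C := by
      intro e he
      refine ⟨mem_centralizer_iff.mpr fun r hr => (hno e he r hr).symm, ?_⟩
      rw [hTb, Sylow.coe_mapSurjective]
      exact map_mono hAT he
    haveI := hCn
    have hCp : C ≤ Cfsg.pCore p (X ⧸ U) :=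
      HallCore.le_pCore (Tb.isPGroup'.to_le inf_le_right)
    replace hCp := hCp.trans (HallCore.pCore_quotient_self p X).le
    refine hAU fun b hb => (QuotientGroup.eq_one_iff b).mp ?_
    exact mem_bot.mp (hCp (hle (mem_map_of_mem π hb)))
  -- a minimal moved subgroup of the residual
  obtain ⟨R, ⟨hRK, hRn, hRm⟩, hRmin⟩ := Set.exists_min_image
    {R : Subgroup (X ⧸ U) | R ≤ KK ∧ (∀ e ∈ E, ∀ r ∈ R, e * r * e⁻¹ ∈ R) ∧
      ∃ e ∈ E, ∃ r ∈ R, e * r ≠ r * e} (fun R => Nat.card R) (Set.toFinite _)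
    ⟨KK, le_rfl, fun e _ r hr => hKKn.conj_mem r hr e, hmove⟩
  have hRc : ∀ r ∈ R, ∀ t ∈ R, r * t = t * r := fun r hr t ht => hKKc r (hRK hr) t (hRK ht)
  have hRcop : (Nat.card R).Coprime p := by
    refine (hp.out.coprime_iff_not_dvd.mpr fun hd => ?_).symm
    obtain ⟨r, hr⟩ := exists_prime_orderOf_dvd_card' p hd
    have := hKKp r.1 (hRK r.2)
    rw [orderOf_coe, hr, Nat.coprime_self] at this
    exact hp.out.ne_one this
  have hsr : ∀ e ∈ E, (∃ r ∈ R, e * r ≠ r * e) → ∀ r ∈ R, e * r = r * e → r = 1 := by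
    intro e he hem
    let f : ↥R →* ↥R :=
      { toFun := fun r => ⟨e * r.1 * e⁻¹ * r.1⁻¹, mul_mem (hRn e he r r.2) (inv_mem r.2)⟩
        map_one' := Subtype.ext (by simp)
        map_mul' := fun r t => Subtype.ext (by
          show e * (r.1 * t.1) * e⁻¹ * (r.1 * t.1)⁻¹ =
            e * r.1 * e⁻¹ * r.1⁻¹ * (e * t.1 * e⁻¹ * t.1⁻¹)
          have c := hRc _ (inv_mem r.2) _ (mul_mem (hRn e he t t.2) (inv_mem t.2))
          rw [mul_assoc (e * r.1 * e⁻¹) r.1⁻¹, c]
          group) }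
    have htop : f.range.map R.subtype = R := by
      refine eq_of_le_of_card_ge (map_subtype_le _) (hRmin _ ⟨(map_subtype_le _).trans hRK, ?_, ?_⟩)
      · rintro d hd _ ⟨_, ⟨r, rfl⟩, rfl⟩
        refine ⟨f ⟨d * r.1 * d⁻¹, hRn d hd r r.2⟩, ⟨_, rfl⟩, ?_⟩
        show e * (d * r.1 * d⁻¹) * e⁻¹ * (d * r.1 * d⁻¹)⁻¹ = d * (e * r.1 * e⁻¹ * r.1⁻¹) * d⁻¹
        have c : e * d = d * e := hEc e he d hd
        have c' : d⁻¹ * e⁻¹ = e⁻¹ * d⁻¹ := by rw [← mul_inv_rev, ← mul_inv_rev, c]
        calc e * (d * r.1 * d⁻¹) * e⁻¹ * (d * r.1 * d⁻¹)⁻¹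
            = (e * d) * r.1 * (d⁻¹ * e⁻¹) * d * r.1⁻¹ * d⁻¹ := by group
          _ = _ := by rw [c, c']; group
      · by_contra hno
        push Not at hno
        obtain ⟨r, hr, hne⟩ := hem
        have hk := hno e he _ ⟨_, ⟨⟨r, hr⟩, rfl⟩, rfl⟩
        change e * (e * r * e⁻¹ * r⁻¹) = (e * r * e⁻¹ * r⁻¹) * e at hk
        set c := e * r * e⁻¹ * r⁻¹ with hcdef
        have her : e * r * e⁻¹ = c * r := by rw [hcdef]; group
        have hit : ∀ n : ℕ, e ^ n * r * (e ^ n)⁻¹ = c ^ n * r := by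
          intro n
          induction n with
          | zero => simp
          | succ n ih =>
            calc e ^ (n + 1) * r * (e ^ (n + 1))⁻¹
                = e * (e ^ n * r * (e ^ n)⁻¹) * e⁻¹ := by rw [pow_succ']; group
              _ = (e * c ^ n) * r * e⁻¹ := by rw [ih]; group
              _ = c ^ n * (e * r * e⁻¹) := by rw [(Commute.pow_right hk n).eq]; group
              _ = _ := by rw [her, pow_succ]; group
        obtain ⟨j, hj⟩ := hEp ⟨e, he⟩
        have hj' : e ^ p ^ j = 1 := congrArg Subtype.val hj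
        have h1 := hit (p ^ j)
        rw [hj', one_mul, inv_one, mul_one] at h1
        have hcK : c ∈ KK := mul_mem (hKKn.conj_mem r (hRK hr) e) (inv_mem (hRK hr))
        have h2 := pow_gcd_eq_one.2 ⟨pow_orderOf_eq_one c, (mul_eq_right.mp h1.symm : c ^ p ^ j = 1)⟩
        rw [((hKKp c hcK).pow_right j).gcd_eq_one, pow_one] at h2
        rw [h2, one_mul] at her
        exact hne (mul_inv_eq_iff_eq_mul.mp her)
    have hs : Function.Surjective f := by
      intro y
      obtain ⟨z, hz, hzy⟩ := htop.ge y.2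
      obtain ⟨w, rfl⟩ := hz
      exact ⟨w, Subtype.ext hzy⟩
    intro r hr hcomm
    have h1 : f ⟨r, hr⟩ = f 1 := by
      rw [map_one]
      refine Subtype.ext ?_
      show e * r * e⁻¹ * r⁻¹ = 1
      rw [hcomm]; group
    exact congrArg Subtype.val (Finite.injective_iff_surjective.mpr hs h1)
  -- lifts
  set Rl : Set X := {g | π g ∈ R ∧ (orderOf g).Coprime p} with hRl
  have hlift : ∀ r ∈ R, ∃ g ∈ Rl, π g = r := fun r hr => by
    obtain ⟨g, hg, hgo⟩ := exists_lift (p := p) π hπs (hKKp r (hRK hr))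
    exact ⟨g, ⟨hg ▸ hr, hgo⟩, hg⟩
  obtain ⟨B, ⟨hBn, hBU, hBm⟩, hBmin⟩ := Set.exists_min_image
    {B : Subgroup X | B.Normal ∧ B ≤ U ∧ ∃ g ∈ Rl, ∃ b ∈ B, g * b ≠ b * g}
    (fun B => Nat.card B) (Set.toFinite _) ⟨U, hUn, le_rfl, by
      obtain ⟨e, he, r, hr, hne⟩ := hRm
      by_contra hno
      push Not at hno
      obtain ⟨g, hg, rfl⟩ := hlift r hr
      have hgU : g ∈ U := hc (mem_centralizer_iff.mpr fun b hb => (hno g hg b hb).symm)
      exact hne (by rw [show π g = 1 from (QuotientGroup.eq_one_iff g).mpr hgU, mul_one, one_mul])⟩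
  haveI := hBn
  have hcen : ∀ D : Subgroup X, D.Normal → D ≤ B → D ≠ B → ∀ g ∈ Rl, ∀ d ∈ D, g * d = d * g := by
    intro D hDn hDB hDne g hg d hd
    by_contra hne
    exact hDne (eq_of_le_of_card_ge hDB (hBmin D ⟨hDn, hDB.trans hBU, g, hg, d, hd, hne⟩))
  set L := normalClosure Rl with hL
  have hstep : ∀ D : Subgroup X, D.Normal → D ≤ B → D ≠ B → ∀ g ∈ Rl, ∀ b ∈ B,
      ⁅g, b⁆ ∈ D → g * b = b * g := by
    intro D hDn hDB hDne g hg b hb hk
    have := eq_one_of_fixed hUp hg.2 (hBU (hDB hk)) (b := b) (by simp [commutatorElement_def])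
      (hcen D hDn hDB hDne g hg _ hk)
    exact commutatorElement_eq_one_iff_mul_comm.mp this
  have hBL : ⁅B, L⁆ = B := by
    by_contra hne
    obtain ⟨g, hg, b, hb, hgb⟩ := hBm
    refine hgb (hstep _ (commutator_normal B L) (commutator_le_left B L) hne g hg b hb ?_)
    rw [← inv_mem_iff, commutatorElement_inv]
    exact commutator_mem_commutator hb (subset_normalClosure hg)
  set Γ := ⁅U, B⁆ with hΓ
  haveI hΓn : Γ.Normal := commutator_normal U B
  have hΓB : Γ ≤ B := commutator_le_right U B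
  have hBbot : B ≠ ⊥ := fun h => by
    obtain ⟨g, -, b, hb, hne⟩ := hBm
    rw [h, mem_bot] at hb
    exact hne (by rw [hb, mul_one, one_mul])
  have hΓne : Γ ≠ B := by
    intro h
    haveI : Group.IsNilpotent ↥(T : Subgroup X) := T.isPGroup'.isNilpotent
    obtain ⟨n, hn⟩ := (Subgroup.isNilpotent_iff_lowerCentralSeries (T : Subgroup X)).mp inferInstance
    have hl : ∀ k, B ≤ (T : Subgroup X).lowerCentralSeries k := by
      intro k
      induction k with
      | zero => rw [Subgroup.lowerCentralSeries_zero]; exact hBU.trans hUT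
      | succ k ih =>
        rw [Subgroup.lowerCentralSeries_succ, ← h, hΓ, commutator_comm]
        exact commutator_mono ih hUT
    exact hBbot (le_bot_iff.mp ((hl n).trans hn.le))
  -- the kernel `K`
  set q := QuotientGroup.mk' Γ with hq
  have hBq : ∀ b ∈ B, ∀ c ∈ B, q b * q c = q c * q b := by
    intro b hb c hc'
    refine commutatorElement_eq_one_iff_mul_comm.mp ?_
    rw [← map_commutatorElement]
    exact (QuotientGroup.eq_one_iff _).mpr (commutator_mem_commutator (hBU hb) hc')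
  let Bp : Subgroup (X ⧸ Γ) :=
    { carrier := {y | ∃ b ∈ B, q b ^ p = y}
      one_mem' := ⟨1, one_mem _, by simp⟩
      mul_mem' := by
        rintro _ _ ⟨b, hb, rfl⟩ ⟨c, hc', rfl⟩
        exact ⟨b * c, mul_mem hb hc', by rw [map_mul, Commute.mul_pow (hBq b hb c hc')]⟩
      inv_mem' := by
        rintro _ ⟨b, hb, rfl⟩
        exact ⟨b⁻¹, inv_mem hb, by rw [map_inv, inv_pow]⟩ }
  set K := Bp.comap q with hK
  have hΓK : Γ ≤ K := fun g hg => ⟨1, one_mem _, by
    rw [map_one, one_pow]; exact ((QuotientGroup.eq_one_iff g).mpr hg).symm⟩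
  have hKB : K ≤ B := by
    rintro g ⟨b, hb, hgb⟩
    rw [← map_pow] at hgb
    have := hΓB (QuotientGroup.eq.mp hgb)
    have h2 := mul_mem (pow_mem hb p) this
    rwa [mul_inv_cancel_left] at h2
  haveI hKn : K.Normal := by
    refine ⟨fun g hg x => ?_⟩
    obtain ⟨b, hb, hgb⟩ := hg
    exact ⟨x * b * x⁻¹, hBn.conj_mem b hb x, by
      rw [map_mul, map_mul, map_inv, map_mul, map_mul, map_inv, conj_pow, hgb]⟩
  have hKpow : ∀ b ∈ B, b ^ p ∈ K := fun b hb => ⟨b, hb, (map_pow q b p).symm⟩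
  have hKne : K ≠ B := by
    intro h
    let f : ↥(B.map q) → ↥(B.map q) := fun y => ⟨y.1 ^ p, pow_mem y.2 p⟩
    have hfs : Function.Surjective f := by
      rintro ⟨_, b, hb, rfl⟩
      rw [SetLike.mem_coe, ← h] at hb
      obtain ⟨c, hc', hcb⟩ := hb
      exact ⟨⟨q c, mem_map_of_mem q hc'⟩, Subtype.ext hcb⟩
    have hne : B.map q ≠ ⊥ := fun h0 => hΓne (le_antisymm hΓB fun b hb =>
      (QuotientGroup.eq_one_iff b).mp (mem_bot.mp (h0 ▸ mem_map_of_mem q hb)))
    have hBqp : IsPGroup p ↥(B.map q) := (hUp.to_le hBU).map q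
    obtain ⟨y, hy⟩ := exists_prime_orderOf_dvd_card' p
      ((hBqp.card_eq_or_dvd).resolve_left fun h1 => hne (card_eq_one.mp h1))
    have : f y = f 1 := Subtype.ext (by
      show y.1 ^ p = (1 : X ⧸ Γ) ^ p
      rw [one_pow, ← coe_pow, ← hy, pow_orderOf_eq_one]; rfl)
    have hy1 := Finite.injective_iff_surjective.mpr hfs this
    rw [hy1, orderOf_one] at hy
    exact hp.out.ne_one hy.symm
  have hKcent : ∀ k ∈ K, ∀ b ∈ B, k * b = b * k := by
    have hLK : ⁅L, K⁆ = ⊥ := by
      rw [commutator_eq_bot_iff_le_centralizer, hL]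
      refine normalClosure_le_normal fun g hg => ?_
      exact mem_centralizer_iff.mpr fun k hk => (hcen K hKn hKB hKne g hg k hk).symm
    have h1 : ⁅⁅L, K⁆, B⁆ = ⊥ := by rw [hLK, commutator_bot_left]
    have h2 : ⁅⁅K, B⁆, L⁆ = ⊥ := le_bot_iff.mp
      ((commutator_mono (commutator_le_left K B) le_rfl).trans (commutator_comm K L ▸ hLK.le))
    have h3 := commutator_commutator_eq_bot_of_rotate h1 h2
    rw [hBL] at h3
    intro k hk b hb
    exact (mem_centralizer_iff.mp (commutator_eq_bot_iff_le_centralizer.mp h3 hb) k hk)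
  -- the module
  letI : CommGroup (↥B ⧸ K.subgroupOf B) :=
    { (inferInstance : Group (↥B ⧸ K.subgroupOf B)) with
      mul_comm := by
        rintro ⟨b⟩ ⟨c⟩
        refine (QuotientGroup.eq.mpr ?_)
        rw [mem_subgroupOf]
        refine hΓK ?_
        have : ((b * c)⁻¹ * (c * b) : ↥B) = (⁅(c.1)⁻¹, (b.1)⁻¹⁆ : X) := by
          simp [commutatorElement_def, mul_assoc]
        rw [this]
        exact commutator_mem_commutator (hBU (inv_mem c.2)) (inv_mem b.2) }
  let V := Additive (↥B ⧸ K.subgroupOf B)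
  let cl : ↥B → V := fun b => Additive.ofMul (b : ↥B ⧸ K.subgroupOf B)
  let act : X → ((↥B ⧸ K.subgroupOf B) →* (↥B ⧸ K.subgroupOf B)) := fun g =>
    QuotientGroup.map _ _ (MulAut.conjNormal g : MulAut ↥B).toMonoidHom (fun k hk => by
      rw [mem_comap, mem_subgroupOf]
      exact hKn.conj_mem _ (mem_subgroupOf.mp hk) g)
  let ρ0 : X →* AddMonoid.End V :=
    { toFun := fun g => MonoidHom.toAdditive (act g)
      map_one' := AddMonoidHom.ext fun v => by
        obtain ⟨b, rfl⟩ := QuotientGroup.mk_surjective (Additive.toMul v)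
        exact congrArg (fun x : ↥B => Additive.ofMul (x : ↥B ⧸ K.subgroupOf B))
          (Subtype.ext (show (1 : X) * b.1 * (1 : X)⁻¹ = b.1 by simp))
      map_mul' := fun g h => AddMonoidHom.ext fun v => by
        obtain ⟨b, rfl⟩ := QuotientGroup.mk_surjective (Additive.toMul v)
        exact congrArg (fun x : ↥B => Additive.ofMul (x : ↥B ⧸ K.subgroupOf B))
          (Subtype.ext (show (g * h) * b.1 * (g * h)⁻¹ = g * (h * b.1 * h⁻¹) * g⁻¹ by group)) }
  have hρ0 : ∀ g (b : ↥B), ρ0 g (cl b) = cl ⟨g * b.1 * g⁻¹, hBn.conj_mem _ b.2 g⟩ := fun g b => rfl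
  have hcl : ∀ b c : ↥B, cl b = cl c ↔ b.1⁻¹ * c.1 ∈ K := fun b c => by
    show Additive.ofMul _ = Additive.ofMul _ ↔ _
    rw [Additive.ofMul.injective.eq_iff, QuotientGroup.eq, mem_subgroupOf]; rfl
  have hfix : ∀ g (b : ↥B), ρ0 g (cl b) = cl b ↔ ⁅g, b.1⁆ ∈ K := fun g b => by
    rw [hρ0, eq_comm, hcl, show b.1⁻¹ * (g * b.1 * g⁻¹) = b.1⁻¹ * ⁅g, b.1⁆ * b.1⁻¹⁻¹ by
      simp [commutatorElement_def, mul_assoc]]
    exact ⟨fun h => by have := hKn.conj_mem _ h b.1; simpa [mul_assoc] using this,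
      fun h => hKn.conj_mem _ h _⟩
  have hU0 : ∀ g ∈ U, ρ0 g = 1 := fun g hg => AddMonoidHom.ext fun v => by
    obtain ⟨b, hb⟩ := QuotientGroup.mk_surjective (Additive.toMul v)
    have hv : v = cl b := congrArg Additive.ofMul hb.symm
    rw [hv]
    exact (hfix g b).mpr (hΓK (commutator_mem_commutator hg b.2))
  let ρ : X ⧸ U →* AddMonoid.End V := QuotientGroup.lift U ρ0 (fun g hg => hU0 g hg)
  have hρ : ∀ g, ρ (π g) = ρ0 g := fun g => QuotientGroup.lift_mk' U (fun g hg => hU0 g hg) g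
  have hpV : ∀ v : V, p • v = 0 := fun v => by
    obtain ⟨b, hb⟩ := QuotientGroup.mk_surjective (Additive.toMul v)
    refine Additive.toMul.injective ?_
    rw [toMul_nsmul, ← hb, ← QuotientGroup.mk_pow, toMul_zero, QuotientGroup.eq_one_iff, mem_subgroupOf]
    exact hKpow b.1 b.2
  have hnt : ∃ r ∈ R, ρ r ≠ 1 := by
    obtain ⟨g, hg, b, hb, hgb⟩ := hBm
    refine ⟨π g, hg.1, fun h1 => hgb (hstep K hKn hKB hKne g hg b hb ?_)⟩
    refine (hfix g ⟨b, hb⟩).mp ?_
    rw [← hρ, h1]; rfl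
  haveI : Finite V := inferInstanceAs (Finite (↥B ⧸ K.subgroupOf B))
  obtain ⟨E0, a₀, z, hE0, hidx, ha₀, ha₀n, hap, hzfix, hz⟩ :=
    ThompsonJ52Core.exists_block ρ hpV E R hEp hEc hRcop hRc hRn hsr hRm hnt
  obtain ⟨a, haA, rfl⟩ := mem_map.mp ha₀
  set A1 := A ⊓ E0.comap π with hA1
  have hA1i : A1.relIndex A = p := by
    rw [hA1, inf_relIndex_left, relIndex_comap, ← hE, hidx]
  obtain ⟨z₀, hz₀⟩ := QuotientGroup.mk_surjective (Additive.toMul z)
  have hzc : z = cl z₀ := congrArg Additive.ofMul hz₀.symm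
  have hmem : ∀ k, it a z₀.1 k ∈ B := by
    intro k
    induction k with
    | zero => exact z₀.2
    | succ k ih =>
      show ⁅a, it a z₀.1 k⁆ ∈ B
      rw [commutatorElement_def]
      exact mul_mem (hBn.conj_mem _ ih a) (inv_mem ih)
  set Δ : AddMonoid.End V := ρ (π a) - 1 with hΔ
  have hit : ∀ k, cl ⟨it a z₀.1 k, hmem k⟩ = (Δ ^ k) z := by
    intro k
    induction k with
    | zero => rw [pow_zero, hzc]; rfl
    | succ k ih =>
      rw [pow_succ', AddMonoid.End.coe_mul, Function.comp_apply, ← ih, hΔ]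
      show _ = ρ (π a) (cl ⟨it a z₀.1 k, hmem k⟩) - cl ⟨it a z₀.1 k, hmem k⟩
      rw [hρ, hρ0]
      refine eq_sub_of_add_eq ?_
      show Additive.ofMul _ + Additive.ofMul _ = Additive.ofMul _
      rw [← ofMul_mul, ← QuotientGroup.mk_mul]
      refine congrArg (fun x : ↥B => Additive.ofMul (x : ↥B ⧸ K.subgroupOf B)) (Subtype.ext ?_)
      show it a z₀.1 (k + 1) * it a z₀.1 k = a * it a z₀.1 k * a⁻¹
      exact (ThompsonJ52Count.conj_it a z₀.1 k).symm
  have hzero : ∀ k, cl ⟨it a z₀.1 k, hmem k⟩ = 0 ↔ it a z₀.1 k ∈ K := fun k => by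
    show Additive.ofMul _ = Additive.ofMul (1 : ↥B ⧸ K.subgroupOf B) ↔ _
    rw [Additive.ofMul.injective.eq_iff, QuotientGroup.eq_one_iff, mem_subgroupOf]
  haveI : Nontrivial V := ⟨⟨_, 0, hz⟩⟩
  haveI : CharP (AddMonoid.End V) p := by
    haveI : Nontrivial (AddMonoid.End V) := ⟨⟨1, 0, fun e => hz (DFunLike.congr_fun e _)⟩⟩
    refine (CharP.charP_iff_prime_eq_zero hp.out).mpr (AddMonoidHom.ext fun v => ?_)
    rw [← nsmul_one]
    exact hpV v
  have s : ThompsonJ52Count.Setup p (T : Subgroup X) U B K A A1 a (it a z₀.1 (p - 5)) := {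
    pT := T.isPGroup'
    norU := hUn
    norB := hBn
    norK := hKn
    UT := hUT
    BU := hBU
    KB := hKB
    kcentral := hKcent
    ucomm := fun g hg b hb => hΓK (commutator_mem_commutator hg hb)
    bpow := hKpow
    AT := hAT
    comm := hAc
    maxA := hmax
    A1A := inf_le_left
    idx := hA1i
    aA := haA
    reps := fun b hb => card_le_quot (Y := ⊥) hA1i hAc haA (fun h => ha₀n h.2) inf_le_left hb
    m₀B := hmem _
    fix₀ := fun c hc' => by
      refine (hfix c ⟨_, hmem _⟩).mp ?_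
      rw [hit, ← hρ]
      have hcomm : Commute (ρ (π c)) Δ := by
        refine Commute.sub_right ?_ (Commute.one_right _)
        show ρ (π c) * ρ (π a) = ρ (π a) * ρ (π c)
        rw [← map_mul ρ, ← map_mul ρ, ← map_mul π, ← map_mul π, hAc c hc'.1 a haA]
      show (ρ (π c) * Δ ^ (p - 5)) z = _
      rw [(hcomm.pow_right _).eq, AddMonoid.End.coe_mul, Function.comp_apply, hzfix _ hc'.2]
    five := by
      rw [it_add, ← hzero, hit, show p - 5 + 5 = p by omega, hΔ,
        sub_pow_char_of_commute p (Commute.one_right _), one_pow, ← map_pow]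
      show ρ (π a ^ p) z - z = 0
      rw [hzfix _ hap, sub_self]
    four := by
      rw [it_add, ← hzero, hit, show p - 5 + 4 = p - 1 by omega]
      exact hz }
  exact s.false

end Cfsg.Agent.ThompsonJ52Main

namespace Cfsg.Agent.ThompsonJ52Functor

open Subgroup


variable {p : ℕ} [hp : Fact p.Prime]

theorem isCharPFunctor : Cfsg.IsCharPFunctor.{u} p (fun Q [Group Q] => Cfsg.thompsonSubgroupA Q) := by
  refine ⟨fun Q _ _ hQ hnt h => ?_, fun Q R _ _ _ _ φ => ?_⟩
  · haveI := hQ.center_nontrivial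
    refine (nontrivial_iff_ne_bot (center Q)).mp inferInstance ?_
    exact le_bot_iff.mp ((Cfsg.Agent.ThompsonAQuad.center_le Q).trans (le_of_eq h))
  · exact Cfsg.Agent.ThompsonAQuad.map_thompsonA φ

/-- In the minimal configuration `J(T)` is normal. -/
theorem normal_thompson (hp5 : 5 ≤ p) (X : Type u) [Group X] [Finite X]
    (hc : centralizer (Cfsg.pCore p X : Set X) ≤ Cfsg.pCore p X)
    (hab : ⁅Cfsg.pResidual p X, Cfsg.pResidual p X⁆ ≤ Cfsg.pCore p X) (T : Sylow p X) :
    (Cfsg.inducedFunctor (G := X) (fun Q [Group Q] => Cfsg.thompsonSubgroupA Q) (T : Subgroup X)).Normal := by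
  set U := Cfsg.pCore p X
  haveI hUn : U.Normal := HallCore.pCore_normal p X
  have hUT : U ≤ (T : Subgroup X) := (HallCore.isPGroup_pCore p X).le_sylow_of_normal T
  have hle : (Cfsg.thompsonSubgroupA ↥(T : Subgroup X)).map (T : Subgroup X).subtype ≤ U := by
    rw [map_le_iff_le_comap]
    refine sSup_le fun A hA => ?_
    rw [← map_le_iff_le_comap]
    refine ThompsonJ52Main.core hp5 hc hab T (map_subtype_le A) ?_ fun Y hY hYc => ?_
    · haveI := hA.1
      exact ⟨⟨by
        rintro ⟨_, a, ha, rfl⟩ ⟨_, b, hb, rfl⟩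
        exact Subtype.ext (by
          show ((a : ↥(T : Subgroup X)) : X) * b = b * a
          exact congrArg Subtype.val (congrArg Subtype.val (hA.1.is_comm.comm ⟨a, ha⟩ ⟨b, hb⟩)))⟩⟩
    · rw [card_map_of_injective (subtype_injective _)]
      refine le_of_eq_of_le ?_ (hA.2 (Y.subgroupOf (T : Subgroup X)) ?_)
      · exact (Nat.card_congr (subgroupOfEquivOfLe hY).toEquiv).symm
      · haveI := hYc
        refine ⟨⟨fun a b => ?_⟩⟩
        apply Subtype.ext
        apply Subtype.ext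
        show a.1.1 * b.1.1 = b.1.1 * a.1.1
        exact congrArg Subtype.val (hYc.is_comm.comm ⟨a.1.1, a.2⟩ ⟨b.1.1, b.2⟩)
  show ((Cfsg.thompsonSubgroupA ↥(T : Subgroup X)).map (T : Subgroup X).subtype).Normal
  have he := ThompsonAQuad.thompsonA_map_eq_of_le (T : Subgroup X) U hUT hle
  rw [he]
  haveI : (Cfsg.thompsonSubgroupA ↥U).Characteristic :=
    characteristic_iff_map_eq.mpr fun e => ThompsonAQuad.map_thompsonA e
  infer_instance

/-- A normalizer of `J(S)` acting as a `p`-group on `J(S)` has a normal `p`-complement. -/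
theorem complement_of_hyp {G : Type u} [Group G] [Finite G] (S : Sylow p G)
    (h : ∀ g ∈ normalizer (Cfsg.thompsonSubgroupAOf (S : Subgroup G) : Set G), (orderOf g).Coprime p →
      g ∈ centralizer (Cfsg.thompsonSubgroupAOf (S : Subgroup G) : Set G)) :
    Cfsg.HasNormalPComplement p
      ↥(normalizer (Cfsg.thompsonSubgroupAOf (S : Subgroup G) : Set G)) := by
  set J := Cfsg.thompsonSubgroupAOf (S : Subgroup G) with hJ
  set N := normalizer (J : Set G)
  have hSN : (S : Subgroup G) ≤ N := by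
    refine le_normalizer.trans ?_
    exact NormalPComplementFunctor62.normalizer_le_WW (W := fun Q [Group Q] => Cfsg.thompsonSubgroupA Q)
      isCharPFunctor S.isPGroup'
  set C := (centralizer (J : Set G)).subgroupOf N with hC
  haveI hCn : C.Normal := by
    refine ⟨fun c hc n => ?_⟩
    rw [hC, mem_subgroupOf] at hc ⊢
    refine mem_centralizer_iff.mpr fun x hx => ?_
    have hx' : (n : G)⁻¹ * x * n ∈ J := (mem_normalizer_iff''.mp n.2 x).mp hx
    have e := mem_centralizer_iff.mp hc _ hx'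
    show x * ((n : G) * (c : G) * (n : G)⁻¹) = (n : G) * (c : G) * (n : G)⁻¹ * x
    calc x * ((n : G) * (c : G) * (n : G)⁻¹) = n * ((n : G)⁻¹ * x * n * c) * (n : G)⁻¹ := by group
      _ = n * ((c : G) * ((n : G)⁻¹ * x * n)) * (n : G)⁻¹ := by rw [e]
      _ = _ := by group
  -- the Sylow subgroup of the centraliser is central
  let SN : Sylow p ↥N := S.subtype hSN
  let SC : Sylow p ↥C := Classical.choice inferInstance
  have hcen : normalizer ((SC : Subgroup ↥C) : Set ↥C) ≤ centralizer ((SC : Subgroup ↥C) : Set ↥C) := by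
    intro x _
    refine mem_centralizer_iff.mpr fun y hy => Subtype.ext (Subtype.ext ?_)
    obtain ⟨Q, hQ⟩ := (SC.isPGroup'.map C.subtype).exists_le_sylow
    obtain ⟨n, hn⟩ := MulAction.exists_smul_eq ↥N Q SN
    have hyn : n * (y : ↥N) * n⁻¹ ∈ (SN : Subgroup ↥N) := by
      rw [← hn]
      exact ⟨(y : ↥N), hQ (mem_map_of_mem _ hy), rfl⟩
    have hyC : n * (y : ↥N) * n⁻¹ ∈ C := hCn.conj_mem _ y.2 n
    have hnJ : ((n * (y : ↥N) * n⁻¹ : ↥N) : G) ∈ J := by
      have hc : (⟨((n * (y : ↥N) * n⁻¹ : ↥N) : G), hyn⟩ : ↥(S : Subgroup G)) ∈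
          centralizer ((Cfsg.thompsonSubgroupA ↥(S : Subgroup G) : Subgroup _) : Set _) :=
        mem_centralizer_iff.mpr fun z hz => Subtype.ext
          (mem_centralizer_iff.mp (mem_subgroupOf.mp hyC) _ (mem_map_of_mem _ hz))
      exact ⟨_, ThompsonAQuad.centralizer_le _ hc, rfl⟩
    have hyJ : ((y : ↥N) : G) ∈ J := (mem_normalizer_iff.mp n.2 _).mpr (by simpa using hnJ)
    exact mem_centralizer_iff.mp (mem_subgroupOf.mp x.2) _ hyJ
  have hCc : Cfsg.HasNormalPComplement p ↥C :=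
    ⟨SC, _, MonoidHom.normal_ker _, MonoidHom.ker_transferSylow_isComplement' SC hcen⟩
  have hle : Cfsg.pResidual p ↥N ≤ C := TransferPResidual.pResidual_le_iff_coprime.mpr fun g hg =>
    mem_subgroupOf.mpr (h g.1 g.2 (by rwa [orderOf_coe]))
  rw [TransferPResidual.hasNormalPComplement_iff_not_dvd, ← TransferPResidual.map_pResidual_eq_of_le hle,
    card_map_of_injective C.subtype_injective]
  exact TransferPResidual.hasNormalPComplement_iff_not_dvd.mp hCc

/-- The converse direction. -/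
theorem centralises_of_complement {G : Type u} [Group G] [Finite G] (S : Sylow p G)
    (h : Cfsg.HasNormalPComplement p G) {g : G}
    (hg : g ∈ normalizer (Cfsg.thompsonSubgroupAOf (S : Subgroup G) : Set G))
    (hgo : (orderOf g).Coprime p) :
    g ∈ centralizer (Cfsg.thompsonSubgroupAOf (S : Subgroup G) : Set G) := by
  refine mem_centralizer_iff.mpr fun x hx => ?_
  have hgK := (TransferPResidual.mem_pResidual_iff_coprime h g).mpr hgo
  have hK := TransferPResidual.hasNormalPComplement_iff_inf_eq_bot S |>.mp h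
  haveI : (Cfsg.pResidual p G).Normal := inferInstance
  have h1 : g * x * g⁻¹ * x⁻¹ ∈ (S : Subgroup G) ⊓ Cfsg.pResidual p G := by
    refine ⟨map_subtype_le _ (mul_mem ((mem_normalizer_iff.mp hg x).mp hx) (inv_mem hx)), ?_⟩
    rw [mul_assoc, mul_assoc, ← mul_assoc x]
    exact mul_mem hgK (‹(Cfsg.pResidual p G).Normal›.conj_mem _ (inv_mem hgK) x)
  rw [hK, mem_bot] at h1
  exact (mul_inv_eq_iff_eq_mul.mp (mul_inv_eq_one.mp h1)).symm

end Cfsg.Agent.ThompsonJ52Functor
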