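import Cfsg.Agent.Lib.ThompsonOffender39Beta

/-!
A minimal normal cover of a chief factor below `Q` has an element of an abelian subgroup of largest
order outside `Q` with Engel length at most six on it.
-/

set_option autoImplicit false
set_option linter.unusedSectionVars false

namespace Cfsg.Agent.ThompsonOffender39

open Subgroup
open scoped commutatorElement Pointwise

variable {G : Type*} [Group G] [Finite G] {p : ℕ} [hp : Fact p.Prime] {Q T A : Subgroup G}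

/-- The terms of the series below `L` that bound the pairing. -/
def W (A L L' : Subgroup G) (k : ℕ) : Subgroup G := F A L (k - 3) ⊔ L'

theorem comm_mem_normal {N : Subgroup G} [hN : N.Normal] (g : G) {n : G} (hn : n ∈ N) : ⁅g, n⁆ ∈ N := by
  rw [commutatorElement_def]; exact mul_mem (hN.conj_mem n hn g) (inv_mem hn)

theorem comm_W_succ {L L' : Subgroup G} [L'.Normal] [L.Normal] {c : G} (hc : c ∈ A) (k : ℕ) {z : G}
    (hz : z ∈ W A L L' k) : ⁅c, z⁆ ∈ W A L L' (k + 1) := by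
  obtain ⟨a, ha, b, hb, rfl⟩ := mem_sup_of_normal_right.mp hz
  have h1 : ⁅c, a⁆ ∈ W A L L' (k + 1) := by
    rcases Nat.lt_or_ge k 3 with hk | hk
    · refine mem_sup_left ?_
      rw [show k + 1 - 3 = 0 by omega]
      rw [show k - 3 = 0 by omega] at ha
      exact comm_mem_normal (N := L) c ha
    · refine mem_sup_left ?_
      rw [show k + 1 - 3 = k - 3 + 1 by omega]
      exact mem_F_succ hc ha
  have h2 : a * ⁅c, b⁆ * a⁻¹ ∈ W A L L' (k + 1) :=
    mem_sup_right ((inferInstance : L'.Normal).conj_mem _ (comm_mem_normal c hb) a)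
  rw [show ⁅c, a * b⁆ = ⁅c, a⁆ * (a * ⁅c, b⁆ * a⁻¹) by simp [commutatorElement_def, mul_assoc]]
  exact mul_mem h1 h2

/-- The pairing `U × B → L` modulo `L'` turns the two Engel lengths into one for `U`. -/
theorem pair {U B K : Subgroup G} [U.Normal] [B.Normal] [Q.Normal] (hpT : IsPGroup p T) (hQT : Q ≤ T)
    (hUQ : U ≤ Q) (hBQ : B ≤ Q) (hUK : ∀ u ∈ U, ∀ k ∈ K, u * k = k * u)
    (hB : F A B 4 ≤ K) (hL : F A ⁅U, B⁆ 3 ≤ ⁅Q, ⁅U, B⁆⁆) (hne : ⁅U, B⁆ ≠ ⊥) :
    ∃ N : Subgroup G, N.Normal ∧ N < U ∧ F A U 6 ≤ N := by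
  set L := ⁅U, B⁆ with hLdef
  set L' := ⁅Q, L⁆ with hL'def
  have hLQ : L ≤ Q := (commutator_le_left U B).trans hUQ
  have hWL : ∀ k, W A L L' k ≤ L := fun k => sup_le (F_le_normal le_rfl _) (commutator_le_right Q L)
  have hWQ : ∀ k, ∀ q ∈ Q, ∀ w ∈ W A L L' k, q * w * q⁻¹ ∈ W A L L' k := fun k q hq w hw => by
    rw [show q * w * q⁻¹ = ⁅q, w⁆ * w by simp [commutatorElement_def, mul_assoc]]
    exact mul_mem (mem_sup_right (commutator_mem_commutator hq (hWL k hw))) hw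
  have hW0 : ∀ k, k ≤ 3 → L ≤ W A L L' k := fun k hk => by
    rw [W, show k - 3 = 0 by omega]; exact le_sup_left
  let P : ℕ → Subgroup G := fun m =>
    { carrier := {u | u ∈ U ∧ ∀ a, ∀ v ∈ F A B a, ⁅u, v⁆ ∈ W A L L' (a + m)}
      one_mem' := ⟨one_mem _, fun a v _ => by rw [commutatorElement_one_left]; exact one_mem _⟩
      mul_mem' := fun {x y} hx hy => ⟨mul_mem hx.1 hy.1, fun a v hv => by
        rw [show ⁅x * y, v⁆ = x * ⁅y, v⁆ * x⁻¹ * ⁅x, v⁆ by simp [commutatorElement_def, mul_assoc]]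
        exact mul_mem (hWQ _ x (hUQ hx.1) _ (hy.2 a v hv)) (hx.2 a v hv)⟩
      inv_mem' := fun {x} hx => ⟨inv_mem hx.1, fun a v hv => by
        rw [show ⁅x⁻¹, v⁆ = x⁻¹ * (⁅x, v⁆)⁻¹ * x⁻¹⁻¹ by simp [commutatorElement_def, mul_assoc]]
        exact hWQ _ _ (inv_mem (hUQ hx.1)) _ (inv_mem (hx.2 a v hv))⟩ }
  have hP0 : U ≤ P 0 := fun u hu => ⟨hu, fun a v hv => by
    rcases Nat.lt_or_ge a 4 with ha | ha
    · exact hW0 _ (by omega) (commutator_mem_commutator hu (F_le_normal le_rfl a hv))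
    · have hvK : v ∈ K := hB (F_anti (fun c _ x hx => (inferInstance : B.Normal).conj_mem x hx c) ha hv)
      rw [commE_eq_one (hUK u hu v hvK)]
      exact one_mem _⟩
  have hstep : ∀ m, ∀ c ∈ A, ∀ u ∈ P m, ⁅c, u⁆ ∈ P (m + 1) := by
    intro m c hc u hu
    refine ⟨comm_mem_normal c hu.1, fun a w hw => ?_⟩
    set v := c⁻¹ * w * c with hvdef
    have hv : v ∈ F A B a := by
      have := F_conj (A := A) (fun c _ x hx => (inferInstance : B.Normal).conj_mem x hx c) a c⁻¹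
        (inv_mem hc) w hw
      rwa [inv_inv] at this
    set z := ⁅u, v⁆ with hzdef
    set g := ⁅c, u⁆ with hgdef
    set h := ⁅c, v⁆ with hhdef
    have hz : z ∈ W A L L' (a + m) := hu.2 a v hv
    have hzL : z ∈ L := hWL _ hz
    have hy : ⁅c, z⁆ ∈ W A L L' (a + (m + 1)) := comm_W_succ hc _ hz
    have hx : ⁅u, h⁆ ∈ W A L L' (a + (m + 1)) := by
      rw [show a + (m + 1) = a + 1 + m by ring]
      exact hu.2 (a + 1) h (mem_F_succ hc hv)
    have hghQ : g * h ∈ Q :=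
      mul_mem (comm_mem_normal c (hUQ hu.1)) (comm_mem_normal c (hBQ (F_le_normal le_rfl a hv)))
    have e : ⁅g, w⁆ = ⁅g * h, z⁻¹⁆ * (z⁻¹ * (g * (⁅u, h⁆)⁻¹ * g⁻¹ * ⁅c, z⁆) * z) := by
      simp only [hgdef, hhdef, hzdef, hvdef, commutatorElement_def]
      group
    rw [e]
    refine mul_mem (mem_sup_right (commutator_mem_commutator hghQ (inv_mem hzL))) ?_
    have h1 := hWQ _ z⁻¹ (inv_mem (hLQ hzL)) _ (mul_mem (hWQ _ g (comm_mem_normal c (hUQ hu.1)) _
      (inv_mem hx)) hy)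
    rwa [inv_inv] at h1
  have hF : ∀ m, F A U m ≤ P m := by
    intro m
    induction m with
    | zero => exact hP0
    | succ m ih => exact F_succ_le fun c hc x hx => hstep m c hc x (ih hx)
  set π := QuotientGroup.mk' L' with hπ
  haveI : (B.map π).Normal := Normal.map inferInstance π (QuotientGroup.mk'_surjective L')
  refine ⟨U ⊓ (centralizer ((B.map π : Subgroup (G ⧸ L')) : Set (G ⧸ L'))).comap π, inferInstance,
    lt_of_le_of_ne inf_le_left fun h => hne ?_, fun u hu => ?_⟩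
  · refine eq_bot_of_le_comm (A := Q) hpT hQT (hLQ.trans hQT) (commutator_le.mpr fun u hu v hv => ?_)
    have h1 : π u ∈ centralizer ((B.map π : Subgroup (G ⧸ L')) : Set (G ⧸ L')) :=
      (h.ge hu).2
    refine (QuotientGroup.eq_one_iff _).mp ?_
    show π ⁅u, v⁆ = 1
    rw [map_commutatorElement]
    exact commE_eq_one (mem_centralizer_iff.mp h1 _ (mem_map_of_mem π hv)).symm
  · obtain ⟨huU, h6⟩ := hF 6 hu
    refine ⟨huU, mem_centralizer_iff.mpr ?_⟩
    rintro _ ⟨v, hv, rfl⟩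
    refine (commutatorElement_eq_one_iff_mul_comm.mp ?_).symm
    rw [← map_commutatorElement]
    refine (QuotientGroup.eq_one_iff _).mpr ?_
    have h0 : ⁅u, v⁆ ∈ W A L L' (0 + 6) := h6 0 v hv
    exact (sup_le hL le_rfl : W A L L' 6 ≤ L') h0

theorem iter_le_F {U : Subgroup G} {a : G} (ha : a ∈ A) :
    ∀ i, Cfsg.iterCommutator U (zpowers a) i ≤ F A U i
  | 0 => le_rfl
  | i + 1 => by
    show ⁅Cfsg.iterCommutator U (zpowers a) i, zpowers a⁆ ≤ ⁅A, F A U i⁆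
    rw [commutator_comm A]
    exact commutator_mono (iter_le_F ha i) (zpowers_le.mpr ha)

/-- An Engel element for a minimal normal cover of a chief factor below `Q`. -/
theorem exists_engel (hp2 : p ≠ 2) [hQn : Q.Normal] (hpT : IsPGroup p T) (hQT : Q ≤ T)
    (hA : ∃ A : Subgroup G, MaxAb T A ∧ ¬ A ≤ Q) {U V : Subgroup G} [U.Normal] (hUQ : U ≤ Q)
    (hU1 : U ≠ ⊥) (hmin : ∀ N : Subgroup G, N.Normal → N < U → N ≤ V) :
    ∃ a ∈ T, a ∉ Q ∧ Cfsg.iterCommutator U (zpowers a) 6 ≤ V := by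
  classical
  suffices key : ∃ (R A : Subgroup G) (_ : Off p Q T R A), F A U 6 ≤ V by
    obtain ⟨R, A, o, h⟩ := key
    obtain ⟨a, ha, haQ⟩ := SetLike.not_le_iff_exists.mp o.notle
    exact ⟨a, o.le_T ha, haQ, (iter_le_F ha 6).trans h⟩
  have hlt : ∀ X : Subgroup G, X.Normal → X ≤ Q → X ≠ ⊥ → ⁅Q, X⁆ < X := fun X hX hXQ hX1 => by
    haveI := hX
    exact lt_of_le_of_ne (commutator_le_right Q X) fun h =>
      hX1 (eq_bot_of_le_comm (A := Q) hpT hQT (hXQ.trans hQT) h.ge)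
  have hconj : ∀ (A : Subgroup G), ∀ a ∈ A, ∀ x ∈ U, a * x * a⁻¹ ∈ U := fun A a _ x hx =>
    (inferInstance : U.Normal).conj_mem x hx a
  by_cases hab : ∀ a ∈ U, ∀ b ∈ U, a * b = b * a
  · obtain ⟨A, o⟩ := exists_off U hpT hQT hQn hA
    refine ⟨U, A, o, (F_anti (hconj A) (by omega : 3 ≤ 6)).trans ?_⟩
    exact (o.cubic hUQ le_rfl hab fun f hf d hd => hab d hd f hf.2).trans
      (hmin _ inferInstance (hlt U inferInstance hUQ hU1))
  by_cases hI : ∃ D : Subgroup G, D.Normal ∧ D ≤ Q ∧ (∀ a ∈ D, ∀ b ∈ D, a * b = b * a) ∧ ⁅U, D⁆ ≠ ⊥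
  · obtain ⟨D, ⟨hDn, hDQ, hDc, hUD⟩, hDmin⟩ := Set.Finite.exists_minimal
      (s := {D : Subgroup G | D.Normal ∧ D ≤ Q ∧ (∀ a ∈ D, ∀ b ∈ D, a * b = b * a) ∧ ⁅U, D⁆ ≠ ⊥})
      (Set.toFinite _) hI
    haveI := hDn
    obtain ⟨A, o⟩ := exists_off D hpT hQT hQn hA
    have hD1 : D ≠ ⊥ := fun h => hUD (by rw [h, commutator_bot_right])
    have hK := hlt D hDn hDQ hD1
    have hUK : ⁅U, ⁅Q, D⁆⁆ = ⊥ := by
      by_contra hne
      exact hK.not_ge (hDmin ⟨inferInstance, hK.le.trans hDQ,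
        fun a ha b hb => hDc a (hK.le ha) b (hK.le hb), hne⟩ hK.le)
    have hLD : ⁅U, D⁆ ≤ D := commutator_le_right U D
    obtain ⟨N, hNn, hNlt, hN⟩ := pair (A := A) (K := ⁅Q, D⁆) hpT hQT hUQ hDQ
      (fun u hu k hk => (mem_centralizer_iff.mp (commutator_eq_bot_iff_le_centralizer.mp hUK hu) k hk).symm)
      ((F_anti (fun a _ x hx => hDn.conj_mem x hx a) (by omega : 3 ≤ 4)).trans
        (o.cubic hDQ le_rfl hDc fun f hf d hd => hDc d hd f hf.2))
      (o.cubic (hLD.trans hDQ) hLD (fun a ha b hb => hDc a (hLD ha) b (hLD hb))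
        fun f hf d hd => hDc d (hLD hd) f hf.2) hUD
    exact ⟨D, A, o, hN.trans (hmin N hNn hNlt)⟩
  push Not at hI
  have hUU : ⁅U, U⁆ ≠ ⊥ := fun h => hab fun a ha b hb =>
    (mem_centralizer_iff.mp (commutator_eq_bot_iff_le_centralizer.mp h ha) b hb).symm
  obtain ⟨B, ⟨hBn, hBU, hUB⟩, hBmin⟩ := Set.Finite.exists_minimal
    (s := {B : Subgroup G | B.Normal ∧ B ≤ U ∧ ⁅U, B⁆ ≠ ⊥}) (Set.toFinite _)
    ⟨U, inferInstance, le_rfl, hUU⟩
  haveI := hBn
  have hBQ : B ≤ Q := hBU.trans hUQ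
  set K := B ⊓ centralizer (U : Set G) with hKdef
  set Z := U ⊓ centralizer (U : Set G) with hZdef
  have hQB : ⁅Q, B⁆ ≤ K := by
    have h := hlt B hBn hBQ fun h => hUB (by rw [h, commutator_bot_right])
    refine le_inf h.le (commutator_eq_bot_iff_le_centralizer.mp ?_)
    by_contra hne
    rw [commutator_comm] at hne
    exact h.not_ge (hBmin ⟨inferInstance, h.le.trans hBU, hne⟩ h.le)
  have hKc : ∀ k ∈ K, ∀ u ∈ U, u * k = k * u := fun k hk u hu => mem_centralizer_iff.mp hk.2 u hu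
  have s : Sect Q B K :=
    { nQ := hQn
      nB := hBn
      nK := inferInstance
      BQ := hBQ
      KB := inf_le_left
      qb := fun q hq b hb => hQB (commutator_mem_commutator hq hb)
      kb := fun k hk b hb => (hKc k hk b (hBU hb)).symm }
  obtain ⟨A, o⟩ := exists_off (B ⊔ Z) hpT hQT hQn hA
  have hfix : ∀ f ∈ A ⊓ (B ⊔ Z), ∀ b ∈ B, ⁅f, b⁆ ∈ Q ⊓ centralizer (Q : Set G) := by
    intro f hf b hb
    obtain ⟨c, hc, z, hz, rfl⟩ := mem_sup_of_normal_right.mp hf.2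
    rw [show ⁅c * z, b⁆ = c * ⁅z, b⁆ * c⁻¹ * ⁅c, b⁆ by simp [commutatorElement_def, mul_assoc],
      commE_eq_one (mem_centralizer_iff.mp hz.2 b (hBU hb)).symm, mul_one, mul_inv_cancel, one_mul]
    exact s.mem_Zq hc hb
  have hfour := o.four s hp2 le_sup_left hfix
  have hLK : ⁅U, B⁆ ≤ K := (commutator_mono hUQ le_rfl).trans hQB
  have hLZ : ⁅U, B⁆ ≤ Z := le_inf (commutator_le_left U B) (hLK.trans inf_le_right)
  haveI : Z.Normal := inferInstance
  have hL3 := o.cubic (D := ⁅U, B⁆) ((commutator_le_left U B).trans hUQ) (hLZ.trans le_sup_right)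
    (fun a ha b hb => hKc b (hLK hb) a (hLZ ha).1) fun f hf d hd =>
      (hKc d (hLK hd) f ((sup_le hBU inf_le_left : B ⊔ Z ≤ U) hf.2)).symm
  obtain ⟨N, hNn, hNlt, hN⟩ := pair (A := A) (K := K) hpT hQT hUQ hBQ
    (fun u hu k hk => hKc k hk u hu) hfour hL3 hUB
  exact ⟨B ⊔ Z, A, o, hN.trans (hmin N hNn hNlt)⟩

end Cfsg.Agent.ThompsonOffender39
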