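import Cfsg.Agent.Lib.ConjFunctorEngel
import Cfsg.Agent.Lib.ConjFunctorCore
import Cfsg.Agent.Lib.ThompsonOffender39Engel
import Cfsg.Agent.Lib.ThompsonJ52Main
import Cfsg.Agent.Lib.ConjFunctorKWitness

/-!
Transfer to the normalizer of the Thompson subgroup for primes at least seven: Engel elements for a
single chief factor.
-/

set_option autoImplicit false
set_option linter.unusedSectionVars false

universe u

namespace Cfsg.Agent.ThompsonOffender39

open Subgroup ConjFunctorBasic ConjFunctorEngel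
open scoped commutatorElement Pointwise

variable {G : Type u} [Group G] [Finite G] {p : ℕ} [hp : Fact p.Prime]

/-- The abelian quotient of `M` by the part inside `V`. -/
abbrev Tgt (M V : Subgroup G) : Type u :=
  Abelianization M ⧸ (V.subgroupOf M).map Abelianization.of

/-- The map onto the abelian quotient. -/
noncomputable def toTgt (M V : Subgroup G) : M →* Tgt M V :=
  (QuotientGroup.mk' _).comp Abelianization.of

theorem ker_toTgt (M V : Subgroup G) : (toTgt M V).ker = commutator M ⊔ V.subgroupOf M := by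
  rw [toTgt, ← MonoidHom.comap_ker, QuotientGroup.ker_mk', comap_map_eq, Abelianization.ker_of,
    sup_comm]

/-- Engel elements on one chief factor put it in the derived subgroup of `M` modulo `V`. -/
theorem le_commutator_sup_of_engel (S : Sylow p G) {U V M : Subgroup G} [hUn : U.Normal] [hVn : V.Normal]
    (hab : ∀ a ∈ U, ∀ b ∈ U, ⁅a, b⁆ ∈ V) (hexp : ∀ a ∈ U, a ^ p ∈ V)
    (hUS : U ≤ (S : Subgroup G)) (hUG : U ≤ ⁅(⊤ : Subgroup G), ⊤⁆)
    (hSM : (S : Subgroup G) ≤ M) (E : Set G) (hE : ∀ s ∈ (S : Subgroup G), ∀ e ∈ E, s * e * s⁻¹ ∈ E)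
    (hES : E ⊆ (S : Subgroup G)) (hfix : ∀ t : G, (∀ e ∈ E, t⁻¹ * e * t ∈ M) → t ∈ M)
    (heng : ∀ e ∈ E, Cfsg.iterCommutator U (zpowers e) (p - 1) ≤ V) :
    U ≤ ⁅M, M⁆ ⊔ V := by
  have hUM : U ≤ M := hUS.trans hSM
  classical
  letI := M.fintypeQuotientOfFiniteIndex
  let XQ := ↥U ⧸ V.subgroupOf U
  letI : CommGroup XQ := { (inferInstance : Group XQ) with mul_comm := conjQ_comm U V hab }
  let Λ0 : XQ →* Tgt M V :=
    QuotientGroup.lift (V.subgroupOf U) ((toTgt M V).comp (Subgroup.inclusion hUM)) fun x hx => by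
      rw [MonoidHom.mem_ker, MonoidHom.comp_apply, ← MonoidHom.mem_ker, ker_toTgt]
      exact mem_sup_right (show Subgroup.inclusion hUM x ∈ V.subgroupOf M from mem_subgroupOf.mp hx)
  let ψ : G → (Additive XQ →+ Additive XQ) := fun g => MonoidHom.toAdditive (conjQ U V g)
  have hψ : ∀ g h x, ψ (g * h) x = ψ g (ψ h x) := fun g h x => conjQ_mul U V g h (Additive.toMul x)
  have hψ1 : ∀ x, ψ 1 x = x := fun x => conjQ_one U V (Additive.toMul x)
  let Yt := Additive XQ →+ Additive (Tgt M V)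
  let ρ : G →* AddMonoid.End Yt :=
    { toFun := fun g =>
        { toFun := fun Λ => Λ.comp (ψ g⁻¹)
          map_zero' := rfl
          map_add' := fun _ _ => rfl }
      map_one' := by
        refine AddMonoidHom.ext fun Λ => AddMonoidHom.ext fun x => ?_
        show Λ (ψ 1⁻¹ x) = Λ x
        rw [inv_one, hψ1]
      map_mul' := fun g h => by
        refine AddMonoidHom.ext fun Λ => AddMonoidHom.ext fun x => ?_
        show Λ (ψ (g * h)⁻¹ x) = Λ (ψ h⁻¹ (ψ g⁻¹ x))
        rw [mul_inv_rev, hψ] }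
  have hXp : ∀ x : XQ, x ^ p = 1 := by
    intro x
    induction x using QuotientGroup.induction_on with
    | H u =>
      rw [← QuotientGroup.mk_pow, QuotientGroup.eq_one_iff, mem_subgroupOf]
      exact hexp u u.2
  have hYp : ∀ Λ : Yt, p • Λ = 0 := fun Λ => by
    refine AddMonoidHom.ext fun x => ?_
    rw [AddMonoidHom.nsmul_apply, ← map_nsmul, AddMonoidHom.zero_apply,
      show p • x = 0 from hXp (Additive.toMul x), map_zero]
  let Λ : Yt := MonoidHom.toAdditive Λ0
  have hΛM : ∀ m ∈ M, ρ m Λ = Λ := by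
    intro m hm
    refine AddMonoidHom.ext fun x => ?_
    obtain ⟨u, rfl⟩ : ∃ u : U, Additive.ofMul (u : XQ) = x := QuotientGroup.mk_surjective (Additive.toMul x)
    show Additive.ofMul (Λ0 (conjQ U V m⁻¹ (u : XQ))) = Additive.ofMul (Λ0 (u : XQ))
    congr 1
    rw [conjQ_mk]
    show toTgt M V (Subgroup.inclusion hUM (MulAut.conjNormal m⁻¹ u))
      = toTgt M V (Subgroup.inclusion hUM u)
    have e : Subgroup.inclusion hUM (MulAut.conjNormal m⁻¹ u)
        = (⟨m, hm⟩ : M)⁻¹ * Subgroup.inclusion hUM u * ⟨m, hm⟩ := Subtype.ext (by simp [mul_assoc])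
    rw [e, map_mul, map_mul, map_inv, mul_comm (toTgt M V (⟨m, hm⟩ : M))⁻¹, inv_mul_cancel_right]
  have hsum : ∀ e ∈ E, ∀ m : ℕ, 1 ≤ m → ∀ y : Yt, ∑ j ∈ Finset.range (p ^ m), (ρ e ^ j) y = 0 := by
    intro e he m hm y
    refine ConjFunctorEngel.sum_pow_apply_eq_zero hYp (ρ e) (n := p - 1) (fun Λ' => ?_) ?_ y
    swap
    · calc p - 1 < p := Nat.sub_lt (Fact.out : p.Prime).pos one_pos
        _ = p ^ 1 := (pow_one p).symm
        _ ≤ p ^ m := Nat.pow_le_pow_right (Fact.out : p.Prime).pos hm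
    refine AddMonoidHom.ext fun x => ?_
    have hmove : ∀ (i : ℕ) (u : U), ∃ w : U, (w : G) ∈ Cfsg.iterCommutator U (zpowers e) i ∧
        ∀ Λ' : Yt, ((ρ e - 1) ^ i) Λ' (Additive.ofMul (u : XQ)) = Λ' (Additive.ofMul (w : XQ)) := by
      intro i
      induction i with
      | zero => exact fun u => ⟨u, u.2, fun Λ' => rfl⟩
      | succ i ih' =>
        intro u
        obtain ⟨w, hw, hval⟩ := ih' u
        refine ⟨MulAut.conjNormal e⁻¹ w * w⁻¹, ?_, fun Λ' => ?_⟩
        · have h1 : ⁅(w : G), e⁻¹⁆⁻¹ ∈ Cfsg.iterCommutator U (zpowers e) (i + 1) :=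
            inv_mem (commutator_mem_commutator hw (inv_mem (mem_zpowers e)))
          simpa [commutatorElement_def, mul_assoc] using h1
        · have hstep : ∀ Λ'' : Yt, (ρ e - 1) Λ'' (Additive.ofMul (w : XQ)) =
              Λ'' (Additive.ofMul ((MulAut.conjNormal e⁻¹ w * w⁻¹ : U) : XQ)) := by
            intro Λ''
            rw [show ((MulAut.conjNormal e⁻¹ w * w⁻¹ : U) : XQ) = conjQ U V e⁻¹ (w : XQ) * (w : XQ)⁻¹
              from rfl, ofMul_mul, ofMul_inv, map_add, map_neg, ← sub_eq_add_neg]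
            rfl
          rw [pow_succ]
          show ((ρ e - 1) ^ i) ((ρ e - 1) Λ') _ = _
          rw [hval]
          exact hstep Λ'
    obtain ⟨u, rfl⟩ : ∃ u : U, Additive.ofMul (u : XQ) = x := QuotientGroup.mk_surjective (Additive.toMul x)
    obtain ⟨w, hw, hval⟩ := hmove (p - 1) u
    rw [hval, AddMonoidHom.zero_apply, show (w : XQ) = 1 from (QuotientGroup.eq_one_iff w).mpr
      (mem_subgroupOf.mpr (heng e he hw)), ofMul_one, map_zero]
  have hkey := ConjFunctorEngel.coset_sum_eq S M ρ E hE hES hSM hfix hsum Λ hΛM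
  intro u hu
  have hfix' : ∀ q : G ⧸ M, u⁻¹ • q = q := by
    intro q
    induction q using QuotientGroup.induction_on with
    | H t =>
      refine QuotientGroup.eq.mpr ?_
      have : t⁻¹ * u * t⁻¹⁻¹ ∈ M := hUM (hUn.conj_mem u hu t⁻¹)
      simpa [mul_assoc] using this
  obtain ⟨T⟩ : Nonempty M.LeftTransversal := inferInstance
  let φ : M →* Tgt M V := toTgt M V
  have htr : Additive.ofMul (φ.transfer u) = Λ (Additive.ofMul ((⟨u, hu⟩ : U) : XQ)) := by
    rw [← hkey, AddMonoidHom.finsetSum_apply, MonoidHom.transfer_def φ T u,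
      Subgroup.leftTransversals.diff, ofMul_prod]
    refine Finset.sum_congr rfl fun q _ => ?_
    set t := ((T.2.leftQuotientEquiv q : T.1) : G) with ht
    have hq : (QuotientGroup.mk t : G ⧸ M) = q := T.2.quotientGroupMk_leftQuotientEquiv q
    conv_rhs => rw [← hq]
    show _ = Additive.ofMul (Λ0 (conjQ U V t⁻¹ ((⟨u, hu⟩ : U) : XQ)))
    rw [conjQ_mk]
    congr 1
    show _ = toTgt M V (Subgroup.inclusion hUM (MulAut.conjNormal t⁻¹ ⟨u, hu⟩))
    refine congrArg φ (Subtype.ext ?_)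
    show _ = ((MulAut.conjNormal t⁻¹ (⟨u, hu⟩ : U) : U) : G)
    rw [MulAut.conjNormal_apply]
    simp only [smul_apply_eq_smul_apply_inv_smul, hfix', smul_eq_mul, ← ht, inv_inv, mul_assoc]
  have h1 : φ.transfer u = 1 :=
    Abelianization.commutator_subset_ker φ.transfer (by rw [_root_.commutator_def]; exact hUG hu)
  rw [h1, ofMul_one] at htr
  have h2 : φ ⟨u, hUM hu⟩ = 1 := Additive.ofMul.injective htr.symm
  rw [← MonoidHom.mem_ker, ker_toTgt, ← mem_map_iff_mem M.subtype_injective, Subgroup.map_sup,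
    map_subtype_commutator] at h2
  exact (sup_le_sup_left (subgroupOf_map_subtype V M |>.le.trans inf_le_left) _) h2

/-- Engel elements on `U / V` move `U` into the derived subgroup of a proper normalizer modulo `V`. -/
theorem exists_proper_sup (S : Sylow p G) {U V : Subgroup G} [hUn : U.Normal] [hVn : V.Normal]
    (hab : ∀ a ∈ U, ∀ b ∈ U, ⁅a, b⁆ ∈ V) (hexp : ∀ a ∈ U, a ^ p ∈ V)
    (hUS : U ≤ (S : Subgroup G)) (hUG : U ≤ ⁅(⊤ : Subgroup G), ⊤⁆) {g : G}
    (hgS : g ∈ (S : Subgroup G)) (hgQ : g ∉ Cfsg.pCore p G)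
    (hg : Cfsg.iterCommutator U (zpowers g) (p - 1) ≤ V) :
    ∃ M : Subgroup G, M ≠ ⊤ ∧ (S : Subgroup G) ≤ M ∧ U ≤ ⁅M, M⁆ ⊔ V := by
  have hconj : ∀ e c : G, Cfsg.iterCommutator U (zpowers e) (p - 1) ≤ V →
      Cfsg.iterCommutator U (zpowers (c * e * c⁻¹)) (p - 1) ≤ V := by
    intro e c h
    have hfixN : ∀ N : Subgroup G, N.Normal → cmap c N = N := fun N hN =>
      mem_normalizer_iff_cmap.mp (by rw [@normalizer_eq_top _ _ _ hN]; exact mem_top c)
    have h1 := cmap_mono c h
    have h2 : cmap c (Cfsg.iterCommutator U (zpowers e) (p - 1))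
        = Cfsg.iterCommutator U (zpowers (c * e * c⁻¹)) (p - 1) := by
      show (Cfsg.iterCommutator U (zpowers e) (p - 1)).map _ = _
      rw [ConjFunctorCore.iterCommutator_map, MonoidHom.map_zpowers]
      congr 1
      exact hfixN U inferInstance
    rwa [h2, hfixN V inferInstance] at h1
  set Z := Cfsg.pCore p G with hZdef
  haveI : Z.Normal := HallCore.pCore_normal p G
  have hZS : Z ≤ (S : Subgroup G) := (HallCore.isPGroup_pCore p G).le_sylow_of_normal S
  set E : Set G := {e | e ∈ (S : Subgroup G) ∧ Cfsg.iterCommutator U (zpowers e) (p - 1) ≤ V} with hE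
  set D := Subgroup.closure E with hD
  have hDS : D ≤ (S : Subgroup G) := (closure_le _).mpr fun e he => he.1
  set M := normalizer ((D ⊔ Z : Subgroup G) : Set G) with hMdef
  have hEconj : ∀ s ∈ (S : Subgroup G), ∀ e ∈ E, s * e * s⁻¹ ∈ E := fun s hs e he =>
    ⟨mul_mem (mul_mem hs he.1) (inv_mem hs), hconj e s he.2⟩
  have hnorm : ∀ x : G, cmap x D ≤ D → x ∈ M := by
    intro x hx
    refine mem_normalizer_of_cmap_le ?_
    rw [cmap, Subgroup.map_sup]
    exact sup_le_sup hx (mem_normalizer_iff_cmap.mp (by rw [normalizer_eq_top]; exact mem_top x)).le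
  have hSM : (S : Subgroup G) ≤ M := fun s hs => hnorm s (by
    rw [hD, cmap, MonoidHom.map_closure, closure_le]
    rintro _ ⟨e, he, rfl⟩
    exact subset_closure (hEconj s hs e he))
  have hMne : M ≠ ⊤ := fun h => by
    haveI := normalizer_eq_top_iff.mp h
    exact hgQ ((HallCore.le_pCore (isPGroup_mono S.isPGroup' (sup_le hDS hZS)) : D ⊔ Z ≤ Z)
      (mem_sup_left (subset_closure ⟨hgS, hg⟩)))
  have hfix : ∀ t : G, (∀ e ∈ E, t⁻¹ * e * t ∈ M) → t ∈ M := by
    intro t ht
    have hle : cmap t⁻¹ D ≤ M := by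
      rw [hD, cmap, MonoidHom.map_closure, closure_le]
      rintro _ ⟨e, he, rfl⟩
      simpa [mul_assoc] using ht e he
    obtain ⟨m, hm, hmle⟩ := ((isSylowIn_top S).mono hSM le_top).exists_conj_le
      (isPGroup_cmap (isPGroup_mono S.isPGroup' hDS)) hle
    rw [← cmap_mul] at hmle
    have h1 : cmap (m * t⁻¹) D ≤ D := by
      rw [hD, cmap, MonoidHom.map_closure, closure_le]
      rintro _ ⟨e, he, rfl⟩
      exact subset_closure ⟨hmle (conj_mem_cmap (subset_closure he)), hconj e _ he.2⟩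
    have h2 := mul_mem (inv_mem hm) (hnorm _ h1)
    rw [inv_mul_cancel_left] at h2
    simpa using inv_mem h2
  exact ⟨M, hMne, hSM, le_commutator_sup_of_engel S hab hexp hUS hUG hSM E hEconj (fun e he => he.1)
    hfix fun e he => he.2⟩

/-- If every abelian subgroup of largest order lies in a normal `Q`, then `J(T)` is normal. -/
theorem normal_J {T Q : Subgroup G} [Q.Normal] (hQT : Q ≤ T)
    (h : ∀ A : Subgroup G, MaxAb T A → A ≤ Q) : (Cfsg.thompsonSubgroupAOf T).Normal := by
  have hle : (Cfsg.thompsonSubgroupA ↥T).map T.subtype ≤ Q := by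
    rw [map_le_iff_le_comap]
    refine sSup_le fun A hA => ?_
    rw [← map_le_iff_le_comap]
    refine h _ ⟨map_subtype_le A, ?_, fun Y hY hYc => ?_⟩
    · rintro _ ⟨a, ha, rfl⟩ _ ⟨b, hb, rfl⟩
      exact congrArg Subtype.val (congrArg Subtype.val (hA.1.is_comm.comm ⟨a, ha⟩ ⟨b, hb⟩))
    · rw [card_map_of_injective (subtype_injective _)]
      refine le_of_eq_of_le ?_ (hA.2 (Y.subgroupOf T) ?_)
      · exact (Nat.card_congr (subgroupOfEquivOfLe hY).toEquiv).symm
      · exact ⟨⟨fun a b => Subtype.ext (Subtype.ext (hYc _ a.2 _ b.2))⟩⟩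
  show ((Cfsg.thompsonSubgroupA ↥T).map T.subtype).Normal
  rw [ThompsonAQuad.thompsonA_map_eq_of_le T Q hQT hle]
  haveI : (Cfsg.thompsonSubgroupA ↥Q).Characteristic :=
    characteristic_iff_map_eq.mpr fun e => ThompsonAQuad.map_thompsonA e
  infer_instance

open ConjFunctorTransfer ConjFunctorSection ConjFunctorMaster in
/-- The normalizer of the Thompson subgroup controls transfer for primes at least seven. -/
theorem controlsTransfer_thompson (hp7 : 7 ≤ p) :
    Cfsg.ControlsTransferIn p (Cfsg.inducedFunctor (G := G)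
      (fun Q [Group Q] => Cfsg.thompsonSubgroupA Q)) ⊤ := by
  have hW := ThompsonJ52Functor.isCharPFunctor.{u} (p := p)
  rw [controlsTransfer_iff_singleton]
  have h := ConjFunctorCore.transfer_core_master (G := G) (p := p)
    (𝓦 := {fun Q [Group Q] => Cfsg.thompsonSubgroupA Q}) (by simpa using hW)
    (Set.singleton_nonempty _) fun H _ _ _ _ hM S => ?_
  · simpa only [img, Set.image_singleton] using h
  set X := tgt (img {fun Q [Group Q] => Cfsg.thompsonSubgroupA Q} H) (S : Subgroup H) ⊤ with hX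
  set Q := Cfsg.pCore p H with hQdef
  haveI : Q.Normal := HallCore.pCore_normal p H
  have hQp : IsPGroup p Q := HallCore.isPGroup_pCore p H
  have hQS : Q ≤ (S : Subgroup H) := hQp.le_sylow_of_normal S
  by_cases hn : (Cfsg.inducedFunctor (G := H) (fun Q [Group Q] => Cfsg.thompsonSubgroupA Q)
      (S : Subgroup H)).Normal
  · refine le_trans ?_ (le_tgt (W := Cfsg.inducedFunctor (G := H)
      (fun Q [Group Q] => Cfsg.thompsonSubgroupA Q)) ⟨_, rfl, rfl⟩)
    simp only [@normalizer_eq_top _ _ _ hn, inf_top_eq]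
    exact inf_le_inf_right _ hQS
  have hA : ∃ A : Subgroup H, MaxAb (S : Subgroup H) A ∧ ¬ A ≤ Q := by
    by_contra hno
    push Not at hno
    exact hn (normal_J hQS hno)
  suffices key : ∀ n : ℕ, ∀ U : Subgroup H, U.Normal → Nat.card U ≤ n →
      U ≤ Q ⊓ ⁅(⊤ : Subgroup H), ⊤⁆ → U ≤ X from key _ _ inferInstance le_rfl le_rfl
  intro n
  induction n with
  | zero => intro U _ hc; exact absurd hc Nat.card_pos.not_ge
  | succ n ih =>
  intro U hUn hc hU
  by_cases hU1 : U = ⊥
  · rw [hU1]; exact bot_le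
  haveI := hUn
  have hUQ : U ≤ Q := hU.trans inf_le_left
  obtain ⟨V, hVn, hchief, hab, hexp⟩ := exists_chief_below (isPGroup_mono hQp hUQ) hU1
  haveI := hVn
  have hsmall : ∀ N : Subgroup H, N < U → Nat.card N ≤ n := fun N hN => by
    have := lt_of_le_of_ne (Subgroup.card_le_of_le hN.le)
      fun h => hN.ne (eq_of_le_of_card_ge hN.le h.ge)
    omega
  have hVX : V ≤ X := ih V hVn (hsmall V hchief.1) (hchief.1.le.trans hU)
  by_cases hmin : ∀ N : Subgroup H, N.Normal → N < U → N ≤ V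
  · obtain ⟨a, haS, haQ, ha⟩ := exists_engel (p := p) (Q := Q) (T := (S : Subgroup H)) (by omega)
      S.isPGroup' hQS hA hUQ hU1 hmin
    have ha' : Cfsg.iterCommutator U (zpowers a) (p - 1) ≤ V := by
      refine le_trans ?_ ha
      rw [show p - 1 = 6 + (p - 7) by omega]
      exact ConjFunctorKWitness.iter_anti (by rw [normalizer_eq_top]; exact le_top) 6 (p - 7)
    obtain ⟨M, hMne, hSM, hle⟩ := exists_proper_sup S hab hexp (hUQ.trans hQS) (hU.trans inf_le_right)
      haS haQ ha'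
    have hMX : (S : Subgroup H) ⊓ ⁅M, M⁆ ≤ X :=
      (inf_commutator_le_tgt (isConjugacyFunctor_img (by simpa using hW)) (hM M hMne)
        ((isSylowIn_top S).mono hSM le_top)).trans
        (iSup₂_mono fun W _ => inf_le_inf_left _
          (commutator_mono (inf_le_inf_right _ le_top) (inf_le_inf_right _ le_top)))
    intro u hu
    obtain ⟨m, hm, v, hv, rfl⟩ := mem_sup_of_normal_right.mp (hle hu)
    refine mul_mem (hMX ⟨?_, hm⟩) (hVX hv)
    have := mul_mem (hUQ.trans hQS hu) (inv_mem (hchief.1.le.trans (hUQ.trans hQS) hv))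
    rwa [mul_inv_cancel_right] at this
  · push Not at hmin
    obtain ⟨N, hNn, hNU, hNV⟩ := hmin
    haveI := hNn
    rcases hchief.2.2.2 (N ⊔ V) inferInstance le_sup_right (sup_le hNU.le hchief.1.le) with h | h
    · exact absurd (le_sup_left.trans h.le) hNV
    · exact h.ge.trans (sup_le (ih N hNn (hsmall N hNU) (hNU.le.trans hU)) hVX)

/-- The focal subgroup is that of the normalizer of `J(S)`. -/
theorem inf_commutator_le_normalizer (hp7 : 7 ≤ p) (S : Sylow p G) :
    (S : Subgroup G) ⊓ ⁅(⊤ : Subgroup G), ⊤⁆ ≤ (S : Subgroup G) ⊓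
      ⁅normalizer (Cfsg.thompsonSubgroupAOf (S : Subgroup G) : Set G),
        normalizer (Cfsg.thompsonSubgroupAOf (S : Subgroup G) : Set G)⁆ := by
  have h := controlsTransfer_thompson (G := G) (p := p) hp7
  rw [ConjFunctorTransfer.controlsTransfer_iff_singleton] at h
  have hle := ConjFunctorTransfer.inf_commutator_le_tgt
    (fun W' hW' => by
      rw [Set.mem_singleton_iff.mp hW']
      exact ConjFunctorSection.isConjugacyFunctor_induced (ThompsonJ52Functor.isCharPFunctor.{u} (p := p)))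
    h (isSylowIn_top S)
  refine hle.trans (le_of_eq ?_)
  simp only [ConjFunctorTransfer.tgt, Set.mem_singleton_iff, iSup_iSup_eq_left, inf_top_eq,
    Cfsg.thompsonSubgroupAOf, Cfsg.inducedFunctor, top_inf_eq]

end Cfsg.Agent.ThompsonOffender39
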