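import Cfsg.Agent.Lib.LocOddEngel
import Cfsg.Agent.Lib.ConjFunctorMain
import Cfsg.Agent.Lib.ThompsonOffender39Transfer

/-!
The normalizers of the subgroups `S`, `Ω₁(Z(S))` and of the characteristic subgroups of `B(S)`
control transfer for odd primes.
-/

set_option autoImplicit false

namespace Cfsg.Agent.LocOdd

open Subgroup Cfsg ConjFunctorBasic ConjFunctorTransfer ConjFunctorSection LocOddFunctors
open scoped commutatorElement

universe u

/-- The family of functors: the whole group, `Ω₁(Z(·))`, and every functor on the Baumann subgroup. -/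
def fam (p : ℕ) : Set (∀ (Q : Type u) [Group Q], Subgroup Q) :=
  insert ConjFunctorMain.topFunctor
    (insert (omegaZ p) {W | ∃ W', IsCharPFunctor.{u} p W' ∧ W = compB p W'})

variable {p : ℕ} [hp : Fact p.Prime]

theorem isCharPFunctor_fam : ∀ W ∈ fam.{u} p, IsCharPFunctor.{u} p W := by
  rintro W (rfl | rfl | ⟨W', hW', rfl⟩)
  · exact ConjFunctorMain.isCharPFunctor_top
  · exact isCharPFunctor_omegaZ
  · exact isCharPFunctor_compB hW'

theorem compB_mem {W' : ∀ (Q : Type u) [Group Q], Subgroup Q} (hW' : IsCharPFunctor.{u} p W') :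
    compB p W' ∈ fam.{u} p := Or.inr (Or.inr ⟨W', hW', rfl⟩)

/-- The focal condition in a constrained group. -/
theorem pCore_le_tgt (hp2 : p ≠ 2) {H : Type u} [Group H] [Finite H]
    (hc : centralizer ((Cfsg.pCore p H : Subgroup H) : Set H) ≤ Cfsg.pCore p H)
    (hM : ∀ M : Subgroup H, M ≠ ⊤ → Cfsg.FamilyControlsTransferIn p (img (fam.{u} p) H) M)
    (S : Sylow p H) :
    Cfsg.pCore p H ⊓ ⁅(⊤ : Subgroup H), ⊤⁆ ≤ tgt (img (fam.{u} p) H) (S : Subgroup H) ⊤ := by
  classical
  set S' : Subgroup H := (S : Subgroup H) with hS'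
  set X := tgt (img (fam.{u} p) H) S' ⊤ with hX
  set Q := Cfsg.pCore p H with hQdef
  haveI : Q.Normal := HallCore.pCore_normal p H
  have hQS : Q ≤ S' := Q_le_S S
  have hconj := isConjugacyFunctor_img (G := H) (isCharPFunctor_fam.{u} (p := p))
  by_cases hnn : ∃ W ∈ fam.{u} p, (Cfsg.inducedFunctor (G := H) W S').Normal
  · obtain ⟨W, hW, hn⟩ := hnn
    refine le_trans ?_ (le_tgt (W := Cfsg.inducedFunctor (G := H) W) ⟨W, hW, rfl⟩)
    simp only [@normalizer_eq_top _ _ _ hn, inf_top_eq]
    exact inf_le_inf_right _ hQS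
  push Not at hnn
  set B := baumannSubgroupOf p S' with hB
  have hBS : B ≤ S' := BaumannBlockBasics.baumann_le p _
  have hBW : ∀ W', IsCharPFunctor.{u} p W' → ¬ (Cfsg.inducedFunctor (G := H) W' B).Normal :=
    fun W' hW' hn => hnn _ (compB_mem hW') (by
      rw [inducedFunctor_compB hW' S.isPGroup']; exact hn)
  have hBnn : ¬ B.Normal := fun hn => hBW _ ConjFunctorMain.isCharPFunctor_top (by
    rw [ConjFunctorMain.inducedFunctor_top]; exact hn)
  have hΩ : ¬ (Omega p S').Normal := fun hn => hnn _ (Or.inr (Or.inl rfl)) (by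
    rw [inducedFunctor_omegaZ]; exact hn)
  have hNS : normalizer (S' : Set H) ≠ ⊤ := fun htop =>
    hnn _ (Or.inl rfl) (by rw [ConjFunctorMain.inducedFunctor_top]; exact normalizer_eq_top_iff.mp htop)
  have hsub : ∀ R : Subgroup H, R ≠ ⊤ → S' ≤ R → S' ⊓ ⁅R, R⁆ ≤ X := fun R hR hSR =>
    (inf_commutator_le_tgt hconj (hM R hR) ((isSylowIn_top S).mono hSR le_top)).trans
      (iSup₂_mono fun W _ => inf_le_inf_left _
        (commutator_mono (inf_le_inf_right _ le_top) (inf_le_inf_right _ le_top)))
  suffices key : ∀ n : ℕ, ∀ U : Subgroup H, U.Normal → Nat.card U ≤ n →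
      U ≤ Q ⊓ ⁅(⊤ : Subgroup H), ⊤⁆ → U ≤ X from key _ _ inferInstance le_rfl le_rfl
  intro n
  induction n with
  | zero => intro U _ hc'; exact absurd hc' Nat.card_pos.not_ge
  | succ n ih =>
  intro U hUn hcard hU
  by_cases hU1 : U = ⊥
  · rw [hU1]; exact bot_le
  haveI := hUn
  have hUQ : U ≤ Q := hU.trans inf_le_left
  have hUS : U ≤ S' := hUQ.trans hQS
  obtain ⟨V, hVn, hchief, hab, hexp⟩ :=
    ConjFunctorEngel.exists_chief_below (isPGroup_mono (HallCore.isPGroup_pCore p H) hUQ) hU1
  haveI := hVn
  have hVX : V ≤ X := ih V hVn (by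
    have := lt_of_le_of_ne (Subgroup.card_le_of_le hchief.1.le)
      fun h => hchief.1.ne (eq_of_le_of_card_ge hchief.1.le h.ge)
    omega) (hchief.1.le.trans hU)
  by_cases hcen : ⁅U, (⊤ : Subgroup H)⁆ ≤ V
  · have hle := ThompsonOffender39.le_commutator_sup_of_engel S (M := normalizer (S' : Set H)) hab hexp
      hUS (hU.trans inf_le_right) le_normalizer (S' : Set H)
      (fun s hs e he => S'.mul_mem (S'.mul_mem hs he) (S'.inv_mem hs)) (le_refl _)
      (fun t ht => by
        have hle : cmap t⁻¹ S' ≤ normalizer (S' : Set H) := cmap_le_iff.mpr fun e he => by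
          simpa using ht e he
        obtain ⟨x, hx, hxle⟩ := ((isSylowIn_top S).mono le_normalizer le_top).exists_conj_le
          (isPGroup_cmap S.isPGroup') hle
        have h1 : cmap t⁻¹ S' ≤ S' := fun y hy =>
          (mem_normalizer_iff.mp hx y).mpr (hxle (conj_mem_cmap hy))
        simpa using inv_mem (mem_normalizer_of_cmap_le h1))
      (fun e _ => by
        rw [show p - 1 = 1 + (p - 2) by have := hp.out.two_le; omega]
        refine (ConjFunctorKWitness.iter_anti
          (ConjFunctorKWitness.le_normalizer_of_normal _ _) 1 _).trans ?_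
        exact (commutator_mono le_rfl le_top).trans hcen)
    intro u hu
    obtain ⟨m, hm, v, hv, rfl⟩ := mem_sup_of_normal_right.mp (hle hu)
    refine mul_mem (hsub _ hNS le_normalizer ⟨?_, hm⟩) (hVX hv)
    have := S'.mul_mem (hUS hu) (S'.inv_mem ((hchief.1.le.trans hUS) hv))
    rwa [mul_inv_cancel_right] at this
  let G₀ : Subgroup H :=
    { carrier := {g | ∀ u ∈ U, g * u * g⁻¹ * u⁻¹ ∈ X}
      one_mem' := fun u _ => by simp
      mul_mem' := fun {a b} ha hb u hu => by
        have h2 := mul_mem (ha _ (hUn.conj_mem u hu b)) (hb u hu)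
        simpa [mul_assoc] using h2
      inv_mem' := fun {a} ha u hu => by
        have h2 := inv_mem (ha _ (hUn.conj_mem u hu a⁻¹))
        simpa [mul_assoc] using h2 }
  by_cases htop : G₀ = ⊤
  · have h1 : ⁅U, (⊤ : Subgroup H)⁆ ≤ X := commutator_le.mpr fun u hu g _ => by
      have h2 := inv_mem ((htop.ge (mem_top g)) u hu)
      rw [commutatorElement_def]
      simpa [mul_assoc] using h2
    rcases hchief.2.2.2 (⁅U, (⊤ : Subgroup H)⁆ ⊔ V) inferInstance le_sup_right
      (sup_le (commutator_le_left U ⊤) hchief.1.le) with h | h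
    · exact absurd (le_sup_left.trans h.le) hcen
    · exact h.ge.trans (sup_le h1 hVX)
  -- `G₀` is the maximal subgroup of the configuration
  have hcomm : ∀ R : Subgroup H, U ≤ R → ∀ g ∈ R, ∀ u ∈ U, g * u * g⁻¹ * u⁻¹ ∈ ⁅R, R⁆ :=
    fun R hUR g hg u hu => by
      have := commutator_mem_commutator hg (hUR hu)
      rwa [commutatorElement_def] at this
  have hinU : ∀ (g : H), ∀ u ∈ U, g * u * g⁻¹ * u⁻¹ ∈ U := fun g u hu =>
    mul_mem (hUn.conj_mem u hu g) (inv_mem hu)
  have huS : ∀ R : Subgroup H, S' ≤ R → R ≠ ⊤ → R ≤ G₀ := fun R hSR hR g hg u hu =>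
    hsub R hR hSR ⟨hUS (hinU g u hu), hcomm R (hUS.trans hSR) g hg u hu⟩
  have hSG : S' ≤ G₀ := le_normalizer.trans (huS _ le_normalizer hNS)
  have hG₀ : S' ⊓ ⁅G₀, G₀⁆ ≤ X := hsub G₀ htop hSG
  have hNB : normalizer (B : Set H) ≤ G₀ := huS _ (BaumannBlockBasics.le_normalizer_baumann p _)
    fun h => hBnn (normalizer_eq_top_iff.mp h)
  have hCQ : S' ⊓ C p S' ≤ Q := by
    haveI : (C p S').Normal := normal_centralizer
    have hsupne : C p S' ⊔ S' ≠ ⊤ := by
      intro h
      apply hΩ
      rw [← normalizer_eq_top_iff, eq_top_iff, ← h]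
      refine sup_le (fun c hc => ?_) (LocalBasics.le_normalizer_of_conj fun s hs x hx => ?_)
      · refine mem_normalizer_of_cmap_le (cmap_le_iff.mpr fun x hx => ?_)
        have : x * c = c * x := hc x (subset_normalClosure hx)
        rwa [← this, mul_inv_cancel_right]
      · have h1 := (Offenders.omegaOne_le _ hx).2 s hs
        rwa [h1, mul_inv_cancel_right]
    have hCM := le_sup_left.trans (huS _ le_sup_right hsupne)
    by_cases hN : normalizer ((S' ⊓ C p S' : Subgroup H) : Set H) = ⊤
    · haveI := normalizer_eq_top_iff.mp hN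
      exact HallCore.le_pCore (isPGroup_mono S.isPGroup' inf_le_left)
    · exfalso
      apply htop
      rw [eq_top_iff]
      intro g _
      exact sup_le (huS _ (le_normalizer_inf_normal S _) hN) hCM (frattini_mem S _ g)
  have huB : ∀ (d : ℕ) (R P : Subgroup H), R ≠ ⊤ → IsSylowIn p P R → B ⊔ Q ≤ P →
      Nat.card S' ≤ Nat.card P + d → R ≤ G₀ := by
    intro d
    induction d using Nat.strong_induction_on with
    | _ d ihd =>
    intro R P hR hP hBQ hd
    obtain ⟨T, hT⟩ := hP.2.1.exists_le_sylow
    obtain ⟨x, hx⟩ := MulAction.exists_smul_eq H S T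
    have hTx : (T : Subgroup H) = cmap x S' := by rw [← hx]; rfl
    have hBT : baumannSubgroupOf p (T : Subgroup H) = B :=
      BaumannBlockBasics.baumann_eq_of_le S T ((le_sup_left.trans hBQ).trans hT)
    have hxB : x ∈ G₀ := hNB <| mem_normalizer_iff_cmap.mpr <| by
      have := BaumannBlockBasics.baumann_map_conj p x S'
      rw [show S'.map (MulAut.conj x).toMonoidHom = (T : Subgroup H) from hTx.symm, hBT] at this
      exact this
    by_cases hPT : P = (T : Subgroup H)
    · have h1 : cmap x⁻¹ R ≤ G₀ := by
        refine huS _ ?_ ?_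
        · rw [← cmap_inv_cmap x S', ← hTx, ← hPT]
          exact cmap_mono _ hP.1
        · intro h
          apply hR
          rw [← cmap_cmap_inv x R, h, cmap, map_top_of_surjective _ (MulAut.conj x).surjective]
      intro r hr
      have h2 := mul_mem (mul_mem hxB (h1 (conj_mem_cmap hr))) (inv_mem hxB)
      simpa [mul_assoc] using h2
    have hBP : baumannSubgroupOf p P = B :=
      (baumann_eq_of_between hT (hBT.le.trans (le_sup_left.trans hBQ))).trans hBT
    have hle : tgt (img (fam.{u} p) H) P R ≤ ⁅G₀, G₀⁆ := by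
      refine iSup₂_le ?_
      rintro _ ⟨W, hW, rfl⟩
      suffices hN : R ⊓ normalizer ((Cfsg.inducedFunctor (G := H) W P : Subgroup H) : Set H) ≤ G₀ from
        inf_le_right.trans (commutator_mono hN hN)
      rcases hW with rfl | rfl | ⟨W', hW', rfl⟩
      · rw [ConjFunctorMain.inducedFunctor_top]
        refine inf_le_right.trans ((BaumannBlockBasics.normalizer_le_baumann p P).trans ?_)
        rw [hBP]; exact hNB
      · rw [inducedFunctor_omegaZ]
        refine inf_le_right.trans ?_
        set ΩP := omegaOne p (P ⊓ centralizer (P : Set H)) with hΩP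
        by_cases hNt : normalizer (ΩP : Set H) = ⊤
        · exfalso
          haveI := normalizer_eq_top_iff.mp hNt
          have hZ : Z p S' ≤ ΩP := normalClosure_le_normal fun w hw => by
            have hw' : w ∈ Omega p S' := hw
            have h1 : x * w * x⁻¹ ∈ cmap x (Omega p S') := conj_mem_cmap hw'
            have h2 : cmap x (Omega p S') = Omega p (T : Subgroup H) := by
              show (omegaOne p _).map _ = _
              rw [Offenders.omegaOne_map (MulAut.conj x).injective,
                ← Offenders.map_centralizer_range (MulAut.conj x).injective]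
              rw [show S'.map (MulAut.conj x).toMonoidHom = (T : Subgroup H) from hTx.symm]
            rw [h2] at h1
            have h3 : Omega p (T : Subgroup H) ≤ ΩP := by
              refine Offenders.omegaOne_mono (le_inf (fun y hy => ?_) (fun y hy => centralizer_le hT hy.2))
              exact (le_sup_right.trans hBQ) (hc (centralizer_le ((le_sup_right.trans hBQ).trans hT) hy.2))
            have h4 := (inferInstance : ΩP.Normal).conj_mem _ (h3 h1) x⁻¹
            simpa [mul_assoc] using h4
          have hPC : P ≤ C p S' := fun y hy z hz =>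
            ((Offenders.omegaOne_le _ (hZ hz)).2 y hy).symm
          have hPQ : P ≤ Q := by
            intro y hy
            have h1 : x⁻¹ * y * x ∈ S' ⊓ C p S' := by
              refine ⟨mem_cmap.mp (hTx ▸ hT hy), ?_⟩
              haveI : (C p S').Normal := normal_centralizer
              simpa using (inferInstance : (C p S').Normal).conj_mem y (hPC hy) x⁻¹
            have := (inferInstance : Q.Normal).conj_mem _ (hCQ h1) x
            simpa [mul_assoc] using this
          have hPeq : P = Q := le_antisymm hPQ (le_sup_right.trans hBQ)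
          apply hBnn
          rw [← hBP, hPeq]
          exact ⟨fun b hb g => by
            have h5 := BaumannBlockBasics.baumann_map_conj p g Q
            rw [show Q.map (MulAut.conj g).toMonoidHom = Q from cmap_self_of_normal g Q] at h5
            exact h5.le ⟨b, hb, rfl⟩⟩
        · have hPN : P ≤ normalizer (ΩP : Set H) :=
            le_normalizer.trans (by
              have := normalizer_le_cfun (isConjugacyFunctor_induced (G := H) (isCharPFunctor_omegaZ (p := p))) hP.2.1
              rwa [inducedFunctor_omegaZ] at this)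
          have hlt := lt_inf_normalizer (S := T) hT hPT
          have hp1 : (T : Subgroup H) ⊓ normalizer (P : Set H) ≤ normalizer (ΩP : Set H) :=
            inf_le_right.trans (by
              have := normalizer_le_cfun (isConjugacyFunctor_induced (G := H) (isCharPFunctor_omegaZ (p := p))) hP.2.1
              rwa [inducedFunctor_omegaZ] at this)
          obtain ⟨P', hP', hP'le⟩ := exists_isSylowIn p (isPGroup_mono T.isPGroup' inf_le_left) hp1
          have hc1 : Nat.card P < Nat.card P' := lt_of_lt_of_le
            (lt_of_le_of_ne (Subgroup.card_le_of_le hlt.le)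
              fun h => hlt.ne (eq_of_le_of_card_ge hlt.le h.ge)) (Subgroup.card_le_of_le hP'le)
          have hc2 : Nat.card P < Nat.card S' := by
            have h1 : Nat.card P < Nat.card (T : Subgroup H) := lt_of_le_of_ne (Subgroup.card_le_of_le hT)
              fun h => hPT (eq_of_le_of_card_ge hT h.ge)
            rwa [hTx, card_cmap] at h1
          exact ihd (d - 1) (by omega) _ P' hNt hP' (hBQ.trans (hlt.le.trans hP'le)) (by omega)
      · rw [inducedFunctor_compB hW' hP.2.1, hBP]
        refine inf_le_right.trans (huS _ ?_ fun h => hBW W' hW' (normalizer_eq_top_iff.mp h))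
        exact (BaumannBlockBasics.le_normalizer_baumann p _).trans
          (normalizer_le_cfun (isConjugacyFunctor_induced (G := H) hW') (isPGroup_mono S.isPGroup' hBS))
    intro g hg u hu
    have hUP : U ≤ P := hUQ.trans (le_sup_right.trans hBQ)
    have h1 : g * u * g⁻¹ * u⁻¹ ∈ P ⊓ ⁅R, R⁆ :=
      ⟨hUP (hinU g u hu), hcomm R (hUP.trans hP.1) g hg u hu⟩
    exact hG₀ ⟨hUS (hinU g u hu), hle (inf_commutator_le_tgt hconj (hM R hR) hP h1)⟩
  have hsetup : Setup S G₀ :=
    { podd := hp2
      constr := hc
      notTop := htop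
      SM := hSG
      uniqS := huS
      uniqB := fun K hK hKne => by
        obtain ⟨P, hP, hPle⟩ := exists_isSylowIn p (isPGroup_mono S.isPGroup' (BQ_le_S S)) hK
        exact huB (Nat.card S') K P hKne hP hPle (Nat.le_add_left _ _)
      charB := fun T hT hTc hn => hBW (realize T) (isCharPFunctor_realize T hTc hT) (by
        rw [inducedFunctor_realize T hTc]; exact hn)
      omegaS := hΩ }
  obtain ⟨g, hgS, hgQ, hg⟩ := hsetup.engel_exists
  exact hU.trans (ConjFunctorCore.pCore_inf_commutator_le isCharPFunctor_fam S hM hgS hgQ hg)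

/-- The family controls transfer. -/
theorem controls_fam (hp2 : p ≠ 2) {G : Type u} [Group G] [Finite G] :
    Cfsg.FamilyControlsTransferIn p (img (fam.{u} p) G) ⊤ :=
  ConjFunctorCore.transfer_core_master isCharPFunctor_fam ⟨_, Or.inl rfl⟩
    fun _ _ _ _ hc hM S => pCore_le_tgt hp2 hc hM S

end Cfsg.Agent.LocOdd
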