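import Cfsg.Agent.S2764
import Cfsg.Agent.Lib.LocOddBaumann
import Cfsg.Agent.Lib.ConjFunctorCore
import Cfsg.Agent.Lib.ConjFunctorKWitness

/-!
In the configuration some element of `B(S)` outside `O_p` is an Engel element of bound `p - 1` on
every chief factor below `O_p`.
-/

set_option autoImplicit false

namespace Cfsg.Agent.LocOdd

open Subgroup Cfsg ConjFunctorBasic
open scoped commutatorElement

/-! ### Unipotent two by two matrices -/

section Matrices

variable {F : Type*} [Field F]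

theorem mul_self_of_pow_eq_zero (N : Matrix (Fin 2) (Fin 2) F) {n : ℕ} (hn : N ^ n = 0) : N * N = 0 := by
  have hdet : N.det = 0 := by
    rcases n with _ | n
    · simp at hn
    · have := congrArg Matrix.det hn
      rw [Matrix.det_pow] at this
      exact pow_eq_zero_iff n.succ_ne_zero |>.mp (by simpa using this)
  rw [Matrix.det_fin_two] at hdet
  have hsq : N * N = (N 0 0 + N 1 1) • N := by
    ext i j
    fin_cases i <;> fin_cases j <;>
      simp [Matrix.mul_apply, Fin.sum_univ_two] <;> first | ring1 | linear_combination hdet | linear_combination -hdet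
  have hind : ∀ k : ℕ, N ^ (k + 1) = (N 0 0 + N 1 1) ^ k • N := by
    intro k
    induction k with
    | zero => simp
    | succ k ih => rw [pow_succ, ih, smul_mul_assoc, hsq, smul_smul, pow_succ]
  rcases n with _ | n
  · simp at hn
  · rw [hind n, smul_eq_zero] at hn
    rcases hn with hn | hn
    · rw [hsq, pow_eq_zero_iff'.mp hn |>.1, zero_smul]
    · rw [hn, zero_mul]

theorem unipotent_mul {p : ℕ} [Fact p.Prime] [CharP F p] (A : Matrix (Fin 2) (Fin 2) F) {k : ℕ}
    (hA : A ^ p ^ k = 1) (i j : ℕ) : (A ^ i - 1) * (A ^ j - 1) = 0 := by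
  have h1 : (A - 1) ^ p ^ k = 0 := by
    rw [sub_pow_char_pow_of_commute p k (Commute.one_right A), hA, one_pow, sub_self]
  have h2 := mul_self_of_pow_eq_zero _ h1
  have h3 : ∀ i : ℕ, A ^ i = 1 + i • (A - 1) := by
    intro i
    induction i with
    | zero => simp
    | succ i ih =>
      calc A ^ (i + 1) = (1 + i • (A - 1)) * (1 + (A - 1)) := by rw [pow_succ, ih, add_sub_cancel]
        _ = 1 + (i + 1) • (A - 1) := by
          rw [add_mul, one_mul, mul_add, mul_one, smul_mul_assoc, h2, smul_zero, add_zero, succ_nsmul]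
          abel
  rw [h3 i, h3 j, add_sub_cancel_left, add_sub_cancel_left, smul_mul_smul_comm, h2, smul_zero]

end Matrices

/-- An element of a natural module is moved twice by a `p`-element into the identity. -/
theorem natural_double {G : Type*} [Group G] {F : Type*} [Field F] {p : ℕ} [Fact p.Prime] [CharP F p]
    {V : Subgroup G} (hV : Cfsg.IsNaturalSL2Module F V ⊤) {x : G} {k : ℕ} (hx : x ^ p ^ k = 1)
    (i j : ℕ) {v : G} (hv : v ∈ V) : ⁅⁅v, x ^ i⁆, x ^ j⁆ = 1 := by
  obtain ⟨hN, ρ, ψ, -, -, hρ⟩ := hV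
  set A : Matrix (Fin 2) (Fin 2) F :=
    ((ρ ⟨x, mem_top x⟩ : Matrix.SpecialLinearGroup (Fin 2) F) : Matrix (Fin 2) (Fin 2) F) with hA
  have hpow : ∀ n : ℕ, ((ρ ⟨x ^ n, mem_top _⟩ : Matrix.SpecialLinearGroup (Fin 2) F) :
      Matrix (Fin 2) (Fin 2) F) = A ^ n := fun n => by
    rw [hA, ← Matrix.SpecialLinearGroup.coe_pow, ← map_pow]; rfl
  have hA1 : A ^ p ^ k = 1 := by
    rw [← hpow]
    have : (⟨x ^ p ^ k, mem_top _⟩ : (⊤ : Subgroup G)) = 1 := Subtype.ext hx
    rw [this, map_one]; rfl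
  have key : ∀ (n : ℕ) (u : V), ∃ w : V, (w : G) = ⁅(u : G), x ^ n⁆ ∧
      ψ (Additive.ofMul w) = ψ (Additive.ofMul u) - (A ^ n).mulVec (ψ (Additive.ofMul u)) := by
    intro n u
    obtain ⟨w, hw, hw'⟩ := hρ ⟨x ^ n, mem_top _⟩ u
    refine ⟨u * w⁻¹, ?_, ?_⟩
    · rw [Subgroup.coe_mul, Subgroup.coe_inv, hw, commutatorElement_def]; group
    · rw [ofMul_mul, ofMul_inv, map_add, map_neg, hw', hpow, ← sub_eq_add_neg]
  obtain ⟨w, hw, hw'⟩ := key i ⟨v, hv⟩
  obtain ⟨w2, hw2, hw2'⟩ := key j w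
  have h0 : ψ (Additive.ofMul w2) = 0 := by
    rw [hw2', hw']
    have h := congrArg (fun X => Matrix.mulVec X (ψ (Additive.ofMul (⟨v, hv⟩ : V))))
      (unipotent_mul A hA1 j i)
    simp only [Matrix.sub_mulVec, Matrix.one_mulVec, Matrix.zero_mulVec, sub_mul, mul_sub, one_mul,
      mul_one, ← Matrix.mulVec_mulVec, Matrix.mulVec_sub] at h ⊢
    rw [← h]
    abel
  have hw21 : w2 = 1 := Additive.ofMul.injective ((map_eq_zero_iff ψ ψ.injective).mp h0)
  rw [← hw, ← hw2, hw21]
  rfl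

universe u

variable {H : Type u} [Group H] [Finite H] {p : ℕ} [hp : Fact p.Prime] {S : Sylow p H} {M : Subgroup H}

/-- Some element of `B(S)` outside `O_p` has Engel bound `p - 1` below `O_p`. -/
theorem Setup.engel_exists (h : Setup S M) :
    ∃ g : H, g ∈ (S : Subgroup H) ∧ g ∉ Cfsg.pCore p H ∧
      ConjFunctorCore.EngelOnCore p (p - 1) g := by
  classical
  obtain ⟨⟨F, iF, iFF, n, hn, hF, ⟨eSL⟩⟩, -⟩ := h.module_structure
  set S' : Subgroup H := (S : Subgroup H) with hS'
  set B := baumannSubgroupOf p S' with hB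
  set Q := Cfsg.pCore p H with hQdef
  set L := L0 p S' with hL
  haveI : Q.Normal := HallCore.pCore_normal p H
  haveI hLn : L.Normal := normalClosure_normal
  have hBL : B ≤ L := le_normalClosure
  have hLQ : L ⊔ Q = ⊤ := h.L0_sup_Q
  have hSL : S' ⊓ L = B := h.inf_L0
  have hQLB : Q ⊓ L ≤ B := hSL ▸ inf_le_inf_right L (Q_le_S S)
  obtain ⟨SL, hSLe⟩ := LocalBasics.exists_sylow_inf S L
  have hSLmap : (SL : Subgroup ↥L).map L.subtype = B := by
    rw [hSLe, Subgroup.subgroupOf_map_subtype]; exact hSL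
  have hcoreL : Cfsg.pCore p ↥L = Q.subgroupOf L := by
    refine le_antisymm ?_ ?_
    · haveI : (Cfsg.pCore p ↥L).Characteristic :=
        characteristic_iff_map_eq.mpr fun e => HallCore.map_equiv_pCore e
      rw [← comap_map_eq_self_of_injective L.subtype_injective (Cfsg.pCore p ↥L)]
      exact Subgroup.comap_mono (HallCore.le_pCore ((HallCore.isPGroup_pCore p ↥L).map L.subtype))
    · exact HallCore.le_pCore (HallCore.isPGroup_pCore p H).comap_subtype
  -- the hypotheses of pushing up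
  have hE₁ : centralizer ((Cfsg.pCore p ↥L : Subgroup ↥L) : Set ↥L) ≤ Cfsg.pCore p ↥L := by
    set D := L ⊓ centralizer ((Q ⊓ L : Subgroup H) : Set H) with hD
    haveI : (Q ⊓ L).Normal := Subgroup.normal_inf_normal _ _
    haveI : (centralizer ((Q ⊓ L : Subgroup H) : Set H)).Normal := normal_centralizer
    haveI : D.Normal := Subgroup.normal_inf_normal _ _
    have hDp : IsPGroup p ↥D := by
      rintro ⟨x, hx⟩
      set k := (orderOf x).factorization p
      set m := orderOf x / p ^ k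
      refine ⟨k, Subtype.ext ?_⟩
      show x ^ p ^ k = 1
      set y := x ^ p ^ k with hy
      have hym : y ^ m = 1 := by
        rw [hy, ← pow_mul, Nat.mul_div_cancel' (Nat.ordProj_dvd _ _), pow_orderOf_eq_one]
      have hmp : m.Coprime p := (Nat.coprime_ordCompl hp.out (orderOf_pos x).ne').symm
      have hyD : y ∈ D := pow_mem hx _
      have hcomm : ∀ q ∈ Q, y * q * y⁻¹ = q := by
        intro q hq
        set ξ := y * q * y⁻¹ * q⁻¹ with hξ
        have hξQL : ξ ∈ Q ⊓ L := ⟨Q.mul_mem ((inferInstance : Q.Normal).conj_mem q hq y) (Q.inv_mem hq), by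
          show ξ ∈ L
          rw [hξ, mul_assoc, mul_assoc, ← mul_assoc q]
          exact mul_mem hyD.1 (hLn.conj_mem _ (inv_mem hyD.1) q)⟩
        have h3 := conj_pow_of_fix (x := y) (v := q) (ξ := ξ) (by rw [hξ]; group)
          (by rw [← hyD.2 ξ hξQL, mul_inv_cancel_right]) m
        rw [hym, one_mul, inv_one, mul_one, eq_comm, mul_eq_right] at h3
        obtain ⟨j, hj⟩ := HallCore.isPGroup_pCore p H ⟨ξ, hξQL.1⟩
        have hj' : ξ ^ p ^ j = 1 := congrArg Subtype.val hj
        have h4 : ξ = 1 := orderOf_eq_one_iff.mp (Nat.eq_one_of_dvd_coprimes (hmp.pow_right j)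
          (orderOf_dvd_of_pow_eq_one h3) (orderOf_dvd_of_pow_eq_one hj'))
        rwa [hξ, mul_inv_eq_one] at h4
      have hyQ : y ∈ Q := h.constr fun q hq => by
        calc q * y = (y * q * y⁻¹) * y := by rw [hcomm q hq]
          _ = y * q := by group
      obtain ⟨j, hj⟩ := HallCore.isPGroup_pCore p H ⟨y, hyQ⟩
      have hj' : y ^ p ^ j = 1 := congrArg Subtype.val hj
      exact orderOf_eq_one_iff.mp (Nat.eq_one_of_dvd_coprimes (hmp.pow_right j)
        (orderOf_dvd_of_pow_eq_one hym) (orderOf_dvd_of_pow_eq_one hj'))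
    have hDQ : D ≤ Q := HallCore.le_pCore hDp
    intro x hx
    rw [hcoreL] at hx ⊢
    exact hDQ ⟨x.2, fun q hq => congrArg Subtype.val (hx ⟨q, hq.2⟩ hq.1)⟩
  have hMne : M.subgroupOf L ≠ ⊤ := fun htop => h.notTop <| by
    rw [eq_top_iff, ← hLQ]
    exact sup_le (subgroupOf_eq_top.mp htop) ((Q_le_S S).trans h.SM)
  have hBM : (SL : Subgroup ↥L) ≤ M.subgroupOf L := by
    rw [hSLe]; exact Subgroup.comap_mono h.SM
  have hover : ∀ K : Subgroup ↥L, (SL : Subgroup ↥L) ≤ K → K ≠ ⊤ → K ≤ M.subgroupOf L := by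
    intro K hK hKne
    set R := K.map L.subtype
    have hBR : B ≤ R := hSLmap ▸ Subgroup.map_mono hK
    have hne : R ⊔ Q ≠ ⊤ := by
      intro htop
      apply hKne
      rw [eq_top_iff]
      intro l _
      obtain ⟨r, hr, q, hq, hrq⟩ := mem_sup_of_normal_right.mp (htop ▸ mem_top (l : H))
      have hqL : q ∈ L := by
        have := mul_mem (inv_mem (map_subtype_le K hr)) l.2
        rwa [← hrq, inv_mul_cancel_left] at this
      have hlR : (l : H) ∈ R := hrq ▸ mul_mem hr (hBR (hQLB ⟨hq, hqL⟩))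
      exact (mem_map_iff_mem L.subtype_injective).mp hlR
    have hRM := h.uniqB (R ⊔ Q) (sup_le_sup_right hBR _) hne
    intro l hl
    exact hRM (mem_sup_left ⟨l, hl, rfl⟩)
  have hE₂ : ∃! M' : Subgroup ↥L, IsCoatom M' ∧ (SL : Subgroup ↥L) ≤ M' := by
    refine ⟨M.subgroupOf L, ⟨⟨hMne, fun K hK => ?_⟩, hBM⟩, fun K hK => ?_⟩
    · by_contra hKne
      exact hK.not_ge (hover K (hBM.trans hK.le) hKne)
    · exact ((hK.1.le_iff).mp (hover K hK.2 hK.1.1)).resolve_left hMne |>.symm
  let ψ := (act p S').rangeRestrict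
  let f : ↥L →* Matrix.ProjectiveSpecialLinearGroup (Fin 2) F :=
    (QuotientGroup.mk' _).comp (eSL.toMonoidHom.comp (ψ.comp L.subtype))
  have hf : Function.Surjective f := by
    intro y
    obtain ⟨y, rfl⟩ := QuotientGroup.mk_surjective y
    obtain ⟨a, ha⟩ := (act p S').rangeRestrict_surjective (eSL.symm y)
    obtain ⟨l, hl, q, hq, rfl⟩ := mem_sup_of_normal_right.mp (hLQ ▸ mem_top a)
    refine ⟨⟨l, hl⟩, ?_⟩
    show QuotientGroup.mk (eSL (ψ l)) = QuotientGroup.mk y
    have hqk : ψ q = 1 := MonoidHom.mem_ker.mp (h.ker_act ▸ h.Q_le_C hq)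
    rw [map_mul, show (act p S').rangeRestrict q = 1 from hqk, mul_one] at ha
    rw [show ψ l = eSL.symm y from ha, MulEquiv.apply_symm_apply]
  have hd : ∀ T : Subgroup ↥(SL : Subgroup ↥L), T ≠ ⊥ → T.Characteristic →
      ¬ (T.map (SL : Subgroup ↥L).subtype).Normal := by
    intro T hTne hTc hTn
    let e : ↥(SL : Subgroup ↥L) ≃* ↥B :=
      ((SL : Subgroup ↥L).equivMapOfInjective L.subtype L.subtype_injective).trans
        (MulEquiv.subgroupCongr hSLmap)
    set T' := T.map e.toMonoidHom with hT'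
    have hT'c : T'.Characteristic := by
      refine characteristic_iff_map_eq.mpr fun φ => ?_
      have h1 := characteristic_iff_map_eq.mp hTc ((e.trans φ).trans e.symm)
      conv_rhs => rw [hT', ← h1]
      rw [hT', Subgroup.map_map, Subgroup.map_map]
      congr 1
      ext x
      simp
    refine h.charB T' (fun h0 => hTne ((Subgroup.map_eq_bot_iff_of_injective _ e.injective).mp h0)) hT'c ?_
    have heq : T'.map B.subtype = (T.map (SL : Subgroup ↥L).subtype).map L.subtype := by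
      rw [hT', Subgroup.map_map, Subgroup.map_map]
      congr 1
    rw [← normalizer_eq_top_iff, eq_top_iff, ← hLQ]
    refine sup_le ?_ ?_
    · rw [heq]
      haveI := hTn
      exact LocalBasics.le_normalizer_map_normal L _
    · have h1 : normalizer (B : Set H) ≤ normalizer ((T'.map B.subtype : Subgroup H) : Set H) :=
        fun g hg => mem_normalizer_of_cmap_le (by
          let φ : MulAut ↥B :=
            { toFun := fun b => ⟨g * b * g⁻¹, (mem_normalizer_iff.mp hg b).mp b.2⟩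
              invFun := fun b => ⟨g⁻¹ * b * g, by
                simpa using (mem_normalizer_iff.mp (inv_mem hg) b).mp b.2⟩
              left_inv := fun b => Subtype.ext (by simp [mul_assoc])
              right_inv := fun b => Subtype.ext (by simp [mul_assoc])
              map_mul' := fun a b => Subtype.ext (by simp [mul_assoc]) }
          rintro _ ⟨_, ⟨a, ha, rfl⟩, rfl⟩
          refine ⟨φ a, ?_, rfl⟩
          rw [← characteristic_iff_map_eq.mp hT'c φ]
          exact ⟨a, ha, rfl⟩)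
      exact ((Q_le_S S).trans (BaumannBlockBasics.le_normalizer_baumann p _)).trans h1
  haveI : f.ker.Normal := f.normal_ker
  obtain ⟨-, hchief⟩ := S2764.result SL hE₁ hE₂ f.ker F n hn hF
    ⟨QuotientGroup.quotientKerEquivOfSurjective f hf⟩ hd
  haveI : CharP F p := charP_of_card_eq_prime_pow (f := n) hF
  obtain ⟨g, hgB, hgQ⟩ := SetLike.not_le_iff_exists.mp h.B_not_le_Q
  refine ⟨g, BaumannBlockBasics.baumann_le p _ hgB, hgQ, fun U V hUV hUQ => ?_⟩
  have hgL : g ∈ L := hBL hgB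
  haveI hUn := hUV.2.1
  haveI hVn := hUV.2.2.1
  suffices h2 : Cfsg.iterCommutator U (zpowers g) 2 ≤ V by
    refine le_trans ?_ h2
    have hp3 : 3 ≤ p := by
      have := hp.out.two_le
      have := h.podd
      omega
    rw [show p - 1 = 2 + (p - 3) by omega]
    exact ConjFunctorKWitness.iter_anti (ConjFunctorKWitness.le_normalizer_of_normal _ _) 2 _
  show ⁅⁅U, zpowers g⁆, zpowers g⁆ ≤ V
  have hgz : zpowers g ≤ L := zpowers_le.mpr hgL
  have hUL : ⁅U, zpowers g⁆ ≤ U ⊓ L := le_inf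
    ((commutator_mono le_rfl le_top).trans (commutator_le_left U ⊤))
    ((commutator_mono le_top hgz).trans (commutator_le_right ⊤ L))
  have hmodV : ∀ c ∈ V, ∀ d : H, ⁅c, d⁆ ∈ V := fun c hc d => by
    rw [commutatorElement_def, mul_assoc, mul_assoc, ← mul_assoc d]
    exact mul_mem hc (hVn.conj_mem _ (inv_mem hc) d)
  rcases hUV.2.2.2 ((U ⊓ L) ⊔ V) inferInstance le_sup_right (sup_le inf_le_left hUV.1.le) with hsup | hsup
  · exact ((commutator_mono (hUL.trans (le_sup_left.trans hsup.le)) le_top).trans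
      (commutator_le_left V ⊤))
  set U₀ := U.subgroupOf L with hU₀
  set V₀ := V.subgroupOf L with hV₀
  haveI : U₀.Normal := inferInstance
  haveI : V₀.Normal := inferInstance
  have hsplit : ∀ u ∈ U, ∃ u₀ ∈ U ⊓ L, ∃ c ∈ V, u₀ * c = u := fun u hu =>
    mem_sup_of_normal_right.mp (hsup.ge hu)
  have hch : Cfsg.IsChiefFactor U₀ V₀ := by
    refine ⟨lt_of_le_of_ne (Subgroup.comap_mono hUV.1.le) fun he => ?_, inferInstance, inferInstance,
      fun N hN hVN hNU => ?_⟩
    · refine hUV.1.not_ge fun u hu => ?_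
      obtain ⟨u₀, hu₀, c, hc, rfl⟩ := hsplit u hu
      exact mul_mem (show (⟨u₀, hu₀.2⟩ : L) ∈ V₀ from he ▸ (show (⟨u₀, hu₀.2⟩ : L) ∈ U₀ from hu₀.1)) hc
    · haveI := hN
      set N' := N.map L.subtype
      have hN'U : N' ≤ U := by rintro _ ⟨a, ha, rfl⟩; exact hNU ha
      have hN'n : N'.Normal := by
        rw [← normalizer_eq_top_iff, eq_top_iff, ← hLQ]
        refine sup_le (LocalBasics.le_normalizer_map_normal L N)
          (fun q hq => mem_normalizer_of_cmap_le (cmap_le_iff.mpr fun a ha => ?_))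
        have haL : a ∈ L := map_subtype_le N ha
        have h1 : ⁅a, q⁆ ∈ V := ConjFunctorKWitness.commutator_chief_le
          (HallCore.isPGroup_pCore p H) hUV hUQ (commutator_mem_commutator (hN'U ha) hq)
        have h2 : ⁅a, q⁆ ∈ L := by
          rw [commutatorElement_def, mul_assoc, mul_assoc, ← mul_assoc q]
          exact mul_mem haL (hLn.conj_mem _ (inv_mem haL) q)
        have h3 : ⁅a, q⁆ ∈ N' := ⟨⟨_, h2⟩, hVN h1, rfl⟩
        have h4 := mul_mem (inv_mem h3) ha
        convert h4 using 1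
        rw [commutatorElement_def]; group
      haveI := hN'n
      rcases hUV.2.2.2 (N' ⊔ V) inferInstance le_sup_right (sup_le hN'U hUV.1.le) with h5 | h5
      · refine Or.inl (le_antisymm (fun a ha => ?_) hVN)
        exact h5.le (mem_sup_left ⟨a, ha, rfl⟩)
      · refine Or.inr (le_antisymm hNU fun a ha => ?_)
        obtain ⟨_, ⟨b, hb, rfl⟩, c, hc, hbc⟩ := mem_sup_of_normal_right.mp (h5.ge ha)
        have hcL : c ∈ L := by
          have := mul_mem (inv_mem b.2) a.2
          rwa [show (a : H) = (b : H) * c from hbc.symm, inv_mul_cancel_left] at this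
        have : a = b * ⟨c, hcL⟩ := Subtype.ext hbc.symm
        rw [this]
        exact mul_mem hb (hVN (show (⟨c, hcL⟩ : L) ∈ V₀ from hc))
  have hU₀Q : U₀ ≤ Cfsg.pCore p ↥L := hcoreL ▸ Subgroup.comap_mono hUQ
  have key : ∀ u ∈ U ⊓ L, ∀ a ∈ zpowers g, ∀ b ∈ zpowers g, ⁅⁅u, a⁆, b⁆ ∈ V := by
    intro u hu a ha b hb
    set π := QuotientGroup.mk' V₀
    by_cases hcen : ⁅U₀, (⊤ : Subgroup ↥L)⁆ ≤ V₀
    · exact hmodV _ (hcen (commutator_mem_commutator (show (⟨u, hu.2⟩ : L) ∈ U₀ from hu.1)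
        (mem_top ⟨a, hgz ha⟩))) b
    have hnat := hchief U₀ V₀ hU₀Q hch hcen
    obtain ⟨k, hk⟩ := S.isPGroup' ⟨g, BaumannBlockBasics.baumann_le p _ hgB⟩
    have hgk : g ^ p ^ k = 1 := congrArg Subtype.val hk
    have hord : IsOfFinOrder g := isOfFinOrder_of_finite g
    obtain ⟨i, rfl⟩ := hord.mem_zpowers_iff_mem_range_orderOf.mp ha |> fun h' =>
      (Finset.mem_image.mp h').imp fun _ h'' => h''.2
    obtain ⟨j, rfl⟩ := hord.mem_zpowers_iff_mem_range_orderOf.mp hb |> fun h' =>
      (Finset.mem_image.mp h').imp fun _ h'' => h''.2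
    have hxk : π ⟨g, hgL⟩ ^ p ^ k = 1 := by
      rw [← map_pow, show (⟨g, hgL⟩ : L) ^ p ^ k = 1 from Subtype.ext hgk, map_one]
    have h1 := natural_double hnat hxk i j (mem_map_of_mem π (show (⟨u, hu.2⟩ : L) ∈ U₀ from hu.1))
    rw [← map_pow, ← map_pow, ← map_commutatorElement, ← map_commutatorElement,
      QuotientGroup.mk'_apply, QuotientGroup.eq_one_iff] at h1
    exact h1
  have hb1 : ⁅U, zpowers g⁆ ≤
      closure {x | ∃ u ∈ U ⊓ L, ∃ a ∈ zpowers g, x = ⁅u, a⁆} ⊔ V := by
    refine commutator_le.mpr fun u hu a ha => ?_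
    obtain ⟨u₀, hu₀, c, hc, rfl⟩ := hsplit u hu
    have e : ⁅u₀ * c, a⁆ = (u₀ * ⁅c, a⁆ * u₀⁻¹) * ⁅u₀, a⁆ := by
      simp only [commutatorElement_def]; group
    rw [e]
    exact mul_mem (mem_sup_right (hVn.conj_mem _ (hmodV c hc a) u₀))
      (mem_sup_left (subset_closure ⟨u₀, hu₀, a, ha, rfl⟩))
  refine commutator_le.mpr fun x hx b hb => ?_
  obtain ⟨w, hw, c, hc, rfl⟩ := mem_sup_of_normal_right.mp (hb1 hx)
  have hwb : ⁅w, b⁆ ∈ V := by
    clear hx
    induction hw using Subgroup.closure_induction with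
    | mem x hx =>
      obtain ⟨u, hu, a, ha, rfl⟩ := hx
      exact key u hu a ha b hb
    | one => simp
    | mul x y _ _ hx hy =>
      have e : ⁅x * y, b⁆ = (x * ⁅y, b⁆ * x⁻¹) * ⁅x, b⁆ := by simp only [commutatorElement_def]; group
      rw [e]; exact mul_mem (hVn.conj_mem _ hy x) hx
    | inv x _ hx =>
      have e : ⁅x⁻¹, b⁆ = x⁻¹ * ⁅x, b⁆⁻¹ * x⁻¹⁻¹ := by simp only [commutatorElement_def]; group
      rw [e]; exact hVn.conj_mem _ (inv_mem hx) _
  have e : ⁅w * c, b⁆ = (w * ⁅c, b⁆ * w⁻¹) * ⁅w, b⁆ := by simp only [commutatorElement_def]; group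
  rw [e]
  exact mul_mem (hVn.conj_mem _ (hmodV c hc b) w) hwb

end Cfsg.Agent.LocOdd
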