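import Mathlib
import Cfsg.Prelude.Def_EvenType
import Cfsg.Agent.Lib.PEmbCore
import Cfsg.Agent.Lib.StrongPEmb
import Cfsg.Agent.Lib.LocGroup56

/-!
Equivalent forms of strongly `p`-embedded subgroups.
-/

set_option autoImplicit false
set_option linter.all false

namespace Cfsg.Agent.LocPEmb56

open Subgroup Cfsg.Agent.LocGroup56

variable {G : Type*} [Group G] [Finite G] {p : ℕ} [hp : Fact p.Prime] {M : Subgroup G}

theorem normalizer_map_conj (g : G) (A : Subgroup G) :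
    (Subgroup.normalizer (A : Set G)).map (MulAut.conj g).toMonoidHom =
      Subgroup.normalizer ((A.map (MulAut.conj g).toMonoidHom : Subgroup G) : Set G) :=
  Subgroup.map_equiv_normalizer_eq A (MulAut.conj g)

theorem normalizers_le (h : Cfsg.IsStronglyPEmbedded p M) :
    (∃ P : Sylow p G, (P : Subgroup G) ≠ ⊥ ∧ (P : Subgroup G) ≤ M) ∧
      ∀ A : Subgroup G, A ≤ M → IsPGroup p ↥A → A ≠ ⊥ → Subgroup.normalizer (A : Set G) ≤ M := by
  obtain ⟨hpG, -, P, hP⟩ := Cfsg.Agent.PEmbCore.isStronglyPEmbedded_iff.mp h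
  have hne : (P : Subgroup G) ≠ ⊥ := P.ne_bot_of_dvd_card hpG
  have hPM : (P : Subgroup G) ≤ M := Subgroup.le_normalizer.trans (hP _ le_rfl hne)
  refine ⟨⟨P, hne, hPM⟩, fun A hA hAp hA1 => ?_⟩
  obtain ⟨R, hR⟩ := (hAp.comap_subtype (K := M)).exists_le_sylow
  obtain ⟨m, hm⟩ := MulAction.exists_smul_eq ↥M R (P.subtype hPM)
  have hle : A.map (MulAut.conj (m : G)).toMonoidHom ≤ (P : Subgroup G) := by
    rintro _ ⟨a, ha, rfl⟩
    have h1 : MulAut.conj m • (⟨a, hA ha⟩ : ↥M) ∈ ((m • R : Sylow p ↥M) : Subgroup ↥M) := by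
      rw [Sylow.coe_subgroup_smul]
      exact Subgroup.smul_mem_pointwise_smul _ _ _ (hR ha)
    rw [hm] at h1
    exact h1
  have h2 := hP _ hle ((Subgroup.map_eq_bot_iff_of_injective _ (MulAut.conj (m : G)).injective).not.mpr hA1)
  rw [← normalizer_map_conj] at h2
  intro g hg
  have h3 : (m : G) * g * (m : G)⁻¹ ∈ M := h2 ⟨g, hg, rfl⟩
  have h4 := mul_mem (mul_mem (inv_mem m.2) h3) m.2
  simpa [mul_assoc] using h4

theorem exists_sylow_le (hpM : p ∣ Nat.card M)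
    (h : ∀ A : Subgroup G, A ≤ M → IsPGroup p ↥A → A ≠ ⊥ → Subgroup.normalizer (A : Set G) ≤ M) :
    ∃ P : Sylow p G, (P : Subgroup G) ≤ M := by
  obtain ⟨R⟩ := (Sylow.nonempty : Nonempty (Sylow p ↥M))
  set R' := (R : Subgroup ↥M).map M.subtype
  have hR'p : IsPGroup p ↥R' := R.isPGroup'.map _
  have hR'1 : R' ≠ ⊥ := (Subgroup.map_eq_bot_iff_of_injective _ M.subtype_injective).not.mpr
    (R.ne_bot_of_dvd_card hpM)
  obtain ⟨P, hP⟩ := hR'p.exists_le_sylow
  refine ⟨P, ?_⟩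
  have hN := h R' (Subgroup.map_subtype_le _) hR'p hR'1
  have hmax : (P : Subgroup G) ⊓ M ≤ R' := by
    have h1 : ((P : Subgroup G) ⊓ M).subgroupOf M = (R : Subgroup ↥M) :=
      R.is_maximal' (P.isPGroup'.to_inf_left.comap_of_injective _ M.subtype_injective)
        fun x hx => Subgroup.mem_inf.mpr ⟨hP ⟨x, hx, rfl⟩, x.2⟩
    exact fun x hx => ⟨⟨x, hx.2⟩, h1 ▸ hx, rfl⟩
  by_contra hnot
  have : Group.IsNilpotent (P : Subgroup G) := P.isPGroup'.isNilpotent
  have hlt : R'.subgroupOf (P : Subgroup G) < ⊤ := lt_top_iff_ne_top.mpr fun e =>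
    hnot ((Subgroup.subgroupOf_eq_top.mp e).trans (Subgroup.map_subtype_le _))
  obtain ⟨u, hu, huR⟩ := SetLike.exists_of_lt
    ((Group.normalizerCondition_of_isNilpotent (G := ↥(P : Subgroup G))) _ hlt)
  have huN : (u : G) ∈ Subgroup.normalizer (R' : Set G) := by
    refine mem_normalizer_of_map_le (fun x hx => ?_) (fun x hx => ?_)
    · exact ((Subgroup.mem_normalizer_iff.mp hu) ⟨x, hP hx⟩).mp hx
    · have := ((Subgroup.mem_normalizer_iff.mp (inv_mem hu)) ⟨x, hP hx⟩).mp hx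
      simpa [Subgroup.mem_subgroupOf] using this
  exact huR (hmax ⟨u.2, hN huN⟩)

theorem of_normalizers (hM : M ≠ ⊤) (hpM : p ∣ Nat.card M)
    (h : ∀ A : Subgroup G, A ≤ M → IsPGroup p ↥A → A ≠ ⊥ → Subgroup.normalizer (A : Set G) ≤ M) :
    Cfsg.IsStronglyPEmbedded p M := by
  obtain ⟨P, hP⟩ := exists_sylow_le hpM h
  exact Cfsg.Agent.PEmbCore.isStronglyPEmbedded_iff.mpr
    ⟨hpM.trans (Subgroup.card_subgroup_dvd_card M), hM, P, fun Q hQ h1 =>
      h Q (hQ.trans hP) (P.isPGroup'.to_le hQ) h1⟩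

theorem meets_of_normalizers (hpM : p ∣ Nat.card M)
    (h : ∀ A : Subgroup G, A ≤ M → IsPGroup p ↥A → A ≠ ⊥ → Subgroup.normalizer (A : Set G) ≤ M) :
    Cfsg.Agent.StrongPEmb.Meets p M := by
  intro g hg hdvd
  obtain ⟨x, hx⟩ := exists_prime_orderOf_dvd_card' p hdvd
  obtain ⟨hxM, y, hy, hyx⟩ := Subgroup.mem_inf.mp x.2 |> fun h => (⟨h.1, Subgroup.mem_map.mp h.2⟩ :
    (x : G) ∈ M ∧ ∃ y ∈ M, (MulAut.conj g).toMonoidHom y = (x : G))
  simp only [MulEquiv.coe_toMonoidHom, MulAut.conj_apply] at hyx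
  have hxo : orderOf (x : G) = p := by rw [Subgroup.orderOf_coe, hx]
  have hzp : ∀ w : G, orderOf w = p → IsPGroup p ↥(Subgroup.zpowers w) := fun w hw =>
    IsPGroup.of_card (n := 1) (by rw [Nat.card_zpowers, hw, pow_one])
  have hne : ∀ w : G, orderOf w = p → Subgroup.zpowers w ≠ ⊥ := fun w hw e => by
    rw [Subgroup.zpowers_eq_bot] at e
    rw [e, orderOf_one] at hw
    exact hp.out.one_lt.ne hw
  have hcen : ∀ w ∈ M, orderOf w = p → ∀ v : G, Commute v w → v ∈ M := fun w hw hwo v hv => by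
    refine h (Subgroup.zpowers w) ((Subgroup.zpowers_le).mpr hw) (hzp w hwo) (hne w hwo) ?_
    refine le_normalizer_of_conj (K := Subgroup.zpowers v) (fun k hk a ha => ?_)
      (Subgroup.mem_zpowers v)
    obtain ⟨i, rfl⟩ := Subgroup.mem_zpowers_iff.mp hk
    obtain ⟨j, rfl⟩ := Subgroup.mem_zpowers_iff.mp ha
    rw [((hv.zpow_zpow i j)).eq, mul_inv_cancel_right]
    exact Subgroup.zpow_mem_zpowers w j
  have hyo : orderOf y = p := by
    rw [← hxo, ← hyx]
    exact (orderOf_injective (MulAut.conj g).toMonoidHom (MulAut.conj g).injective y).symm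
  obtain ⟨P, hP⟩ := exists_sylow_le hpM h
  let PM : Sylow p ↥M := P.subtype hP
  have move : ∀ w ∈ M, orderOf w = p → ∃ m ∈ M, m * w * m⁻¹ ∈ (P : Subgroup G) := by
    intro w hw hwo
    obtain ⟨R, hR⟩ := ((hzp w hwo).comap_subtype (K := M)).exists_le_sylow
    obtain ⟨m, hm⟩ := MulAction.exists_smul_eq ↥M R PM
    refine ⟨m, m.2, ?_⟩
    have h1 : MulAut.conj m • (⟨w, hw⟩ : ↥M) ∈ ((m • R : Sylow p ↥M) : Subgroup ↥M) := by
      rw [Sylow.coe_subgroup_smul]
      exact Subgroup.smul_mem_pointwise_smul _ _ _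
        (hR (show (⟨w, hw⟩ : ↥M) ∈ (Subgroup.zpowers w).subgroupOf M from Subgroup.mem_zpowers w))
    rw [hm] at h1
    exact h1
  obtain ⟨m1, hm1, hx'⟩ := move x hxM hxo
  obtain ⟨m2, hm2, hy'⟩ := move y hy hyo
  set k := m1 * g * m2⁻¹ with hk
  have hkx : k * (m2 * y * m2⁻¹) * k⁻¹ = m1 * (x : G) * m1⁻¹ := by rw [hk, ← hyx]; group
  have hx'M : m1 * (x : G) * m1⁻¹ ∈ M := mul_mem (mul_mem hm1 hxM) (inv_mem hm1)
  have hx'o : orderOf (m1 * (x : G) * m1⁻¹) = p := by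
    rw [← hxo]; exact orderOf_injective (MulAut.conj m1).toMonoidHom (MulAut.conj m1).injective _
  have hPne : (P : Subgroup G) ≠ ⊥ :=
    P.ne_bot_of_dvd_card (hpM.trans (Subgroup.card_subgroup_dvd_card M))
  haveI : Nontrivial ↥(P : Subgroup G) := (Subgroup.nontrivial_iff_ne_bot _).mpr hPne
  haveI := P.isPGroup'.center_nontrivial
  obtain ⟨n, hn, hc⟩ := (P.isPGroup'.to_subgroup (Subgroup.center _)).nontrivial_iff_card.mp this
  obtain ⟨z, hz⟩ := exists_prime_orderOf_dvd_card' p (hc ▸ dvd_pow_self p hn.ne')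
  have hzo : orderOf ((z : ↥(P : Subgroup G)) : G) = p := by
    rw [Subgroup.orderOf_coe, Subgroup.orderOf_coe, hz]
  have hzc : ∀ t ∈ (P : Subgroup G), Commute t ((z : ↥(P : Subgroup G)) : G) := fun t ht =>
    congrArg Subtype.val (Subgroup.mem_center_iff.mp z.2 ⟨t, ht⟩)
  have hz' : k * ((z : ↥(P : Subgroup G)) : G) * k⁻¹ ∈ M := by
    refine hcen _ hx'M hx'o _ ?_
    rw [← hkx]
    exact ((hzc _ hy').symm).map (MulAut.conj k).toMonoidHom
  have hPk : (P : Subgroup G).map (MulAut.conj k).toMonoidHom ≤ M := by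
    rintro _ ⟨t, ht, rfl⟩
    refine hcen _ hz' ?_ _ ((hzc t ht).map (MulAut.conj k).toMonoidHom)
    exact (orderOf_injective (MulAut.conj k).toMonoidHom (MulAut.conj k).injective _).trans hzo
  obtain ⟨R, hR⟩ := ((P.isPGroup'.map (MulAut.conj k).toMonoidHom).comap_subtype (K := M)).exists_le_sylow
  obtain ⟨m, hm⟩ := MulAction.exists_smul_eq ↥M R PM
  have hle : (P : Subgroup G).map (MulAut.conj ((m : G) * k)).toMonoidHom ≤ (P : Subgroup G) := by
    rintro _ ⟨t, ht, rfl⟩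
    have h1 : MulAut.conj m • (⟨_, hPk ⟨t, ht, rfl⟩⟩ : ↥M) ∈
        ((m • R : Sylow p ↥M) : Subgroup ↥M) := by
      rw [Sylow.coe_subgroup_smul]
      exact Subgroup.smul_mem_pointwise_smul _ _ _ (hR (show (⟨_, hPk ⟨t, ht, rfl⟩⟩ : ↥M) ∈
        (Subgroup.map (MulAut.conj k).toMonoidHom (P : Subgroup G)).subgroupOf M from ⟨t, ht, rfl⟩))
    rw [hm] at h1
    have h2 : (m : G) * (k * t * k⁻¹) * (m : G)⁻¹ ∈ (P : Subgroup G) := h1
    simpa [mul_assoc] using h2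
  have hmk : (m : G) * k ∈ Subgroup.normalizer ((P : Subgroup G) : Set G) := by
    refine Subgroup.mem_normalizer_iff_map_conj_eq.mpr (Subgroup.eq_of_le_of_card_ge hle ?_)
    rw [Subgroup.card_map_of_injective (MulAut.conj ((m : G) * k)).injective]
  have hkM : k ∈ M := by
    have := mul_mem (inv_mem m.2) (h _ hP P.isPGroup' hPne hmk)
    simpa using this
  refine hg ?_
  have : g = m1⁻¹ * k * m2 := by rw [hk]; group
  rw [this]
  exact mul_mem (mul_mem (inv_mem hm1) hkM) hm2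

end Cfsg.Agent.LocPEmb56
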