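import Mathlib
import Cfsg.Prelude.Def_LocalStructure
import Cfsg.Agent.Lib.LocalPReduced57
import Cfsg.Agent.Lib.LocalLarge57
import Cfsg.Agent.S2830

/-! Existence of members of `𝔐_H`. -/

set_option autoImplicit false

namespace Cfsg.Agent.LocalFrakM57

open Subgroup
open Cfsg.Agent.LocalBasics Cfsg.Agent.LocalPReduced57

variable {G : Type*} [Group G] {p : ℕ}

/-- A member of `𝓛_G` has characteristic `p`. -/
theorem charp_of_mem {X : Subgroup G} (h : X ∈ Cfsg.charPSubgroups p G) :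
    centralizer (Cfsg.pCore p ↥X : Set ↥X) ≤ Cfsg.pCore p ↥X := by
  intro x hx
  have h1 : (x : G) ∈ centralizer (((Cfsg.pCore p ↥X).map X.subtype : Subgroup G) : Set G) := by
    rintro _ ⟨o, ho, rfl⟩
    exact congrArg Subtype.val (hx o ho)
  obtain ⟨o, ho, he⟩ := h.2 h1
  rwa [Subtype.ext he] at ho

theorem pCoreOf_ne_bot {X : Subgroup G} (h : X ∈ Cfsg.charPSubgroups p G) :
    Cfsg.pCoreOf p X ≠ ⊥ := fun h0 =>
  h.1 ((Subgroup.map_eq_bot_iff_of_injective _ X.subtype_injective).mp h0)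

theorem sylow_ne_bot [Finite G] {X : Subgroup G} (T : Sylow p G) (hTX : (T : Subgroup G) ≤ X)
    (h : X ∈ Cfsg.charPSubgroups p G) : (T : Subgroup G) ≠ ⊥ := fun h0 =>
  pCoreOf_ne_bot h (le_bot_iff.mp (h0 ▸ pCoreOf_le_sylow T hTX))

theorem largest_ne_bot [Finite G] [Fact p.Prime] (T : Sylow p G) {X : Subgroup G}
    (hTX : (T : Subgroup G) ≤ X) (h : X ∈ Cfsg.charPSubgroups p G) :
    Cfsg.largestPReducedOf p X ≠ ⊥ := by
  intro h0
  have h1 := (le_conjClosure _ _).trans (le_largest (omegaCenter_red T hTX (charp_of_mem h)))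
  rw [h0, le_bot_iff] at h1
  exact LocGroup56.omegaOne_ne_bot (T.isPGroup'.to_le inf_le_left)
    (LocalLarge57.inf_centralizer_ne_bot T.isPGroup' T.isPGroup' le_normalizer
      (sylow_ne_bot T hTX h)) h1

/-- In parabolic characteristic `p`, a parabolic subgroup normalizing a nontrivial `p`-group is in `𝓛`. -/
theorem mem_of_parabolic [Finite G] [Fact p.Prime] (hG : Cfsg.IsOfParabolicCharacteristic p G)
    (T : Sylow p G) {X R : Subgroup G} (hTX : (T : Subgroup G) ≤ X) (hR : IsPGroup p ↥R)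
    (hR1 : R ≠ ⊥) (hn : X ≤ normalizer (R : Set G)) : X ∈ Cfsg.charPSubgroups p G := by
  have hRO : R ≤ Cfsg.pCoreOf p X :=
    LocalBasics.le_pCoreOf ((le_sylow_of_le_normalizer T hR (hTX.trans hn)).trans hTX) hn hR
  have hO : Cfsg.pCoreOf p X ≠ ⊥ := fun h0 => hR1 (le_bot_iff.mp (h0 ▸ hRO))
  refine ⟨fun h0 => hO (by rw [Cfsg.pCoreOf, h0, Subgroup.map_bot]), ?_⟩
  set O := Cfsg.pCoreOf p X with hOdef
  set N := normalizer (O : Set G) with hN
  have hXN : X ≤ N := le_normalizer_pCoreOf p X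
  have h1 := charp_inf (hG O (isPGroup_pCoreOf p X) hO ⟨T, hTX.trans hXN⟩)
  have h2 : Cfsg.pCoreOf p N ≤ O :=
    LocalBasics.le_pCoreOf ((pCoreOf_le_sylow T (hTX.trans hXN)).trans hTX)
      (hXN.trans (le_normalizer_pCoreOf p N)) (isPGroup_pCoreOf p N)
  intro c hc
  exact h2 (h1 ⟨LocalBasics.centralizer_le_normalizer O hc, fun q hq => hc q (h2 hq)⟩)

/-- The preorder used to choose members of `𝔐`. -/
def Below (p : ℕ) (L X : Subgroup G) : Prop :=
  Cfsg.largestPReducedOf p L ≤ Cfsg.largestPReducedOf p X ∧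
    ∀ l ∈ L, ∃ m ∈ X, ∃ c ∈ centralizer ((Cfsg.largestPReducedOf p L : Subgroup G) : Set G), l = m * c

theorem Below.refl (L : Subgroup G) : Below p L L :=
  ⟨le_rfl, fun l hl => ⟨l, hl, 1, one_mem _, (mul_one l).symm⟩⟩

theorem Below.trans {A B C : Subgroup G} (h1 : Below p A B) (h2 : Below p B C) : Below p A C := by
  refine ⟨h1.1.trans h2.1, fun a ha => ?_⟩
  obtain ⟨b, hb, c, hc, rfl⟩ := h1.2 a ha
  obtain ⟨d, hd, e, he, rfl⟩ := h2.2 b hb
  exact ⟨d, hd, e * c, mul_mem (centralizer_le (SetLike.coe_subset_coe.mpr h1.1) he) hc,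
    mul_assoc d e c⟩

theorem below_of_le [Finite G] [Fact p.Prime] (T : Sylow p G) {M X : Subgroup G}
    (hTM : (T : Subgroup G) ≤ M) (hMX : M ≤ X) (hX : X ∈ Cfsg.charPSubgroups p G) : Below p M X :=
  ⟨largest_mono T hTM hMX (charp_of_mem hX),
    fun m hm => ⟨m, hMX hm, 1, one_mem _, (mul_one m).symm⟩⟩

theorem relIndex_sup_normal {H : Type*} [Group H] [Finite H] (K N : Subgroup H) [N.Normal] :
    K.relIndex (K ⊔ N) = K.relIndex N := by
  have h1 := Subgroup.relIndex_mul_relIndex (K ⊓ N) K (K ⊔ N) inf_le_left le_sup_left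
  have h2 := Subgroup.relIndex_mul_relIndex (K ⊓ N) N (K ⊔ N) inf_le_right le_sup_right
  rw [Subgroup.inf_relIndex_left, ← h2, Subgroup.inf_relIndex_right, Subgroup.relIndex_sup_right,
    mul_comm] at h1
  exact Nat.eq_of_mul_eq_mul_right (Nat.pos_of_ne_zero Subgroup.FiniteIndex.index_ne_zero) h1

theorem exists_frakM [Finite G] [Fact p.Prime] (hG : Cfsg.IsOfParabolicCharacteristic p G)
    (T : Sylow p G) {L : Subgroup G} (hTL : (T : Subgroup G) ≤ L)
    (hL : L ∈ Cfsg.charPSubgroups p G) :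
    ∃ M Ls : Subgroup G, (T : Subgroup G) ≤ M ∧ Cfsg.IsInFrakM p M ∧ (T : Subgroup G) ≤ Ls ∧
      Ls ≤ M ∧ Ls ∈ Cfsg.charPSubgroups p G ∧
      Cfsg.largestPReducedOf p L = Cfsg.largestPReducedOf p Ls ∧
      Cfsg.largestPReducedOf p L ≤ Cfsg.largestPReducedOf p M ∧
      L ⊔ centralizer ((Cfsg.largestPReducedOf p L : Subgroup G) : Set G) =
        Ls ⊔ centralizer ((Cfsg.largestPReducedOf p L : Subgroup G) : Set G) := by
  classical
  set S : Set (Subgroup G) :=
    {X | (T : Subgroup G) ≤ X ∧ X ∈ Cfsg.charPSubgroups p G ∧ Below p L X} with hS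
  set f : Subgroup G → ℕ ×ₗ ℕ := fun X =>
    toLex (Nat.card ↥(Cfsg.largestPReducedOf p X),
      Nat.card ↥(X ⊔ centralizer ((Cfsg.largestPReducedOf p X : Subgroup G) : Set G))) with hf
  obtain ⟨M₀, ⟨hTM₀, hM₀L, hLM₀⟩, hmax⟩ :=
    (Set.toFinite S).exists_maximalFor f S ⟨L, hTL, hL, Below.refl L⟩
  set Y := Cfsg.largestPReducedOf p M₀ with hYdef
  have hY := red_largest p M₀
  set C := centralizer (Y : Set G) with hC
  have hY1 : Y ≠ ⊥ := largest_ne_bot T hTM₀ hM₀L
  set Md := M₀ ⊔ C with hMd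
  have hMdn : Md ≤ normalizer (Y : Set G) :=
    sup_le hY.2.1 (LocalBasics.centralizer_le_normalizer Y)
  have hMdL : Md ∈ Cfsg.charPSubgroups p G :=
    mem_of_parabolic hG T (hTM₀.trans le_sup_left) hY.isPGroup hY1 hMdn
  -- everything above `M₀` is absorbed by `Md`
  have absorb : ∀ X, (T : Subgroup G) ≤ X → X ∈ Cfsg.charPSubgroups p G → Below p L X →
      Y ≤ Cfsg.largestPReducedOf p X → Md ≤ X ⊔ C → Cfsg.largestPReducedOf p X = Y ∧ X ≤ Md := by
    intro X hTX hX hLX hYX hMX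
    have hnot : ¬ f M₀ < f X := fun hlt => hlt.not_ge (hmax ⟨hTX, hX, hLX⟩ hlt.le)
    have hcard : ¬ (Nat.card Y < Nat.card ↥(Cfsg.largestPReducedOf p X)) := fun h =>
      hnot (Prod.Lex.toLex_lt_toLex.mpr (Or.inl h))
    have heq : Cfsg.largestPReducedOf p X = Y :=
      (Subgroup.eq_of_le_of_card_ge hYX (Nat.not_lt.mp hcard)).symm
    refine ⟨heq, ?_⟩
    have h2 : ¬ (Nat.card Md < Nat.card ↥(X ⊔ C)) := fun h =>
      hnot (Prod.Lex.toLex_lt_toLex.mpr (Or.inr ⟨by rw [heq], by
        show Nat.card Md < _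
        rw [heq]; exact h⟩))
    exact le_sup_left.trans (Subgroup.eq_of_le_of_card_ge hMX (Nat.not_lt.mp h2)).ge
  -- a minimal subgroup with the same product
  obtain ⟨M, ⟨hTM, hMMd, hMC⟩, hmin⟩ :=
    (Set.toFinite {M : Subgroup G | (T : Subgroup G) ≤ M ∧ M ≤ Md ∧ M ⊔ C = Md}).exists_minimal
      ⟨Md, hTM₀.trans le_sup_left, le_rfl, sup_eq_left.mpr le_sup_right⟩
  have hYT : Y ≤ (T : Subgroup G) := hY.le_pCoreOf.trans (pCoreOf_le_sylow T hTM₀)
  have hYM : IsRed p Y M :=
    hY.transfer (hYT.trans hTM) (hMMd) (le_sup_left.trans hMC.ge)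
  have hML : M ∈ Cfsg.charPSubgroups p G :=
    mem_of_parabolic hG T hTM hY.isPGroup hY1 (hMMd.trans hMdn)
  have hYle : Y ≤ Cfsg.largestPReducedOf p M := le_largest hYM
  have hLM : Below p L M := by
    refine ⟨hLM₀.1.trans hYle, fun l hl => ?_⟩
    obtain ⟨m₀, hm₀, c, hc, rfl⟩ := hLM₀.2 l hl
    obtain ⟨m, hm, c', hc', rfl⟩ := exists_mul_of_mem_sup
      (le_normalizer_centralizer (hMMd.trans hMdn)) (hMC.ge (mem_sup_left (T := C) hm₀))
    exact ⟨m, hm, c' * c, mul_mem (centralizer_le (SetLike.coe_subset_coe.mpr hLM₀.1) hc') hc,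
      mul_assoc m c' c⟩
  obtain ⟨hYMeq, -⟩ := absorb M hTM hML hLM hYle hMC.ge
  have hYeq : Y = Cfsg.largestPReducedOf p M := hYMeq.symm
  have hMdY : Cfsg.largestPReducedOf p Md = Y := by
    refine (absorb Md (hTM₀.trans le_sup_left) hMdL
      (hLM₀.trans (below_of_le T hTM₀ le_sup_left hMdL))
      (largest_mono T hTM₀ le_sup_left (charp_of_mem hMdL)) le_sup_left).1
  have huniq : ∀ X ∈ Cfsg.charPSubgroups p G, M ≤ X → X ≤ Md := by
    intro X hX hMX
    refine (absorb X (hTM.trans hMX) hX (hLM.trans (below_of_le T hTM hMX hX)) ?_ ?_).2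
    · exact hYle.trans (largest_mono T hTM hMX (charp_of_mem hX))
    · exact hMC.ge.trans (sup_le_sup_right hMX C)
  -- the normalizer of `T ∩ C` is everything
  set T₀ := (T : Subgroup G) ⊓ C with hT₀
  have hTC : (T : Subgroup G) ≤ normalizer (C : Set G) :=
    le_normalizer_centralizer (hTM₀.trans hY.2.1)
  have hMN : M ≤ normalizer (T₀ : Set G) := by
    have hmem : (T : Subgroup G) ≤ M ⊓ normalizer (T₀ : Set G) :=
      le_inf hTM (le_normalizer_inf le_normalizer hTC)
    have hprod : (M ⊓ normalizer (T₀ : Set G)) ⊔ C = Md := by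
      refine le_antisymm ((sup_le_sup_right inf_le_left C).trans hMC.le) ?_
      rw [← hMC]
      refine sup_le (fun m hm => ?_) le_sup_right
      obtain ⟨c, hc, hcm⟩ := frattini_arg (C := M ⊓ C) (T₀ := T₀)
        (le_inf (inf_le_left.trans hTM) inf_le_right) (T.isPGroup'.to_le inf_le_left)
        (fun P hPC hP hle => inf_maximal T hTC (hPC.trans inf_le_right) hP hle)
        (le_normalizer_inf le_normalizer (le_normalizer_centralizer (hMMd.trans hMdn)) hm)
      have := mul_mem (mem_sup_right (S := M ⊓ normalizer (T₀ : Set G)) hc.2)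
        (mem_sup_left (T := C) (⟨M.mul_mem (M.inv_mem hc.1) hm, hcm⟩ :
          c⁻¹ * m ∈ M ⊓ normalizer (T₀ : Set G)))
      rwa [mul_inv_cancel_left] at this
    exact (hmin ⟨hmem, inf_le_left.trans hMMd, hprod⟩ inf_le_left).trans inf_le_right
  have hT₀O : T₀ ≤ Cfsg.pCoreOf p M :=
    LocalBasics.le_pCoreOf (inf_le_left.trans hTM) hMN (T.isPGroup'.to_le inf_le_left)
  have hMfrak : Cfsg.IsInFrakM p M := by
    refine ⟨hML, ?_, ?_, ?_, ?_, ?_⟩
    · rw [← hYeq, ← hC, hMC]
      exact ⟨hMdL, fun X hX hle => le_antisymm (huniq X hX (hMMd.trans hle)) hle⟩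
    · intro X hX hMX
      rw [← hYeq, ← hC, hMC]
      exact (hX.2 Md hMdL (huniq X hX.1 hMX)).symm
    · rw [← hYeq, ← hC, hMC, hMdY]
    · rw [← hYeq, ← hC]
      refine isPClosed_iff.mpr ?_
      have hTn : (T : Subgroup G) ≤ normalizer ((M ⊓ C : Subgroup G) : Set G) :=
        le_normalizer_inf (hTM.trans le_normalizer) hTC
      obtain ⟨P, hP⟩ := exists_sylow_inf_eq T hTn
      refine ⟨P, ?_⟩
      rw [hP]
      have : (T : Subgroup G).subgroupOf (M ⊓ C) = T₀.subgroupOf (M ⊓ C) := by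
        ext x
        exact ⟨fun hx => ⟨hx, x.2.2⟩, fun hx => hx.1⟩
      rw [this]
      exact normal_subgroupOf_of_le (inf_le_left.trans hMN)
    · rw [← hYeq, ← hC]
      set O := Cfsg.pCore p ↥M
      set q := QuotientGroup.mk' O with hq
      refine le_iInf₂ fun K hK => ?_
      set K' := (K.comap q).map M.subtype with hK'
      have hK'M : K' ≤ M := map_subtype_le _
      by_contra hnot
      have hK'n : ¬ M ⊓ C ≤ K' := by
        intro hle
        apply hnot
        rintro _ ⟨x, hx, rfl⟩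
        obtain ⟨y, hy, hyx⟩ := hle hx
        exact (Subtype.ext hyx) ▸ hy
      have hMnCM : M ≤ normalizer ((M ⊓ C : Subgroup G) : Set G) :=
        le_normalizer_inf le_normalizer (le_normalizer_centralizer (hMMd.trans hMdn))
      have hsup : K' ⊔ (M ⊓ C) = M := by
        refine le_antisymm (sup_le hK'M inf_le_left) ?_
        have hlt : K < K ⊔ ((M ⊓ C).subgroupOf M).map q :=
          lt_of_le_of_ne le_sup_left fun he => hnot (he ▸ le_sup_right)
        have htop := hK.2 _ hlt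
        intro m hm
        have h1 : q ⟨m, hm⟩ ∈ K ⊔ ((M ⊓ C).subgroupOf M).map q := by rw [htop]; trivial
        rw [← map_comap_eq_self_of_surjective (QuotientGroup.mk'_surjective O) K, ← Subgroup.map_sup] at h1
        obtain ⟨z, hz, hze⟩ := h1
        have hk : (⟨m, hm⟩ : ↥M) ∈ K.comap q ⊔ (M ⊓ C).subgroupOf M := by
          have hker : z⁻¹ * ⟨m, hm⟩ ∈ q.ker := by
            rw [MonoidHom.mem_ker, map_mul, map_inv, hze, inv_mul_cancel]
          have : z⁻¹ * ⟨m, hm⟩ ∈ K.comap q := Subgroup.ker_le_comap q K hker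
          have := mul_mem hz (mem_sup_left (T := (M ⊓ C).subgroupOf M) this)
          rwa [mul_inv_cancel_left] at this
        have := mem_map_of_mem M.subtype hk
        rw [Subgroup.map_sup, map_subgroupOf_eq_of_le inf_le_left] at this
        exact this
      -- `K'` contains a Sylow subgroup
      have hK'sub : K'.subgroupOf M = K.comap q := comap_map_eq_self_of_injective M.subtype_injective _
      set N' := (M ⊓ C).subgroupOf M with hN'
      have hN'n : N'.Normal := normal_subgroupOf_of_le hMnCM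
      have htop : K'.subgroupOf M ⊔ N' = ⊤ := by
        apply map_injective M.subtype_injective
        rw [Subgroup.map_sup, hN', map_subgroupOf_eq_of_le inf_le_left, map_subgroupOf_eq_of_le hK'M,
          hsup, ← MonoidHom.range_eq_map, range_subtype]
      have hidx : ¬ p ∣ (K'.subgroupOf M).index := by
        intro hdvd
        rw [← Subgroup.relIndex_top_right, ← htop, relIndex_sup_normal] at hdvd
        refine CentralSylow.not_dvd_relIndex_normal (T.subtype hTM) N'
          (hdvd.trans (Subgroup.relIndex_dvd_of_le_left N' ?_))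
        rintro x ⟨hx1, hx2⟩
        rw [hK'sub]
        refine Subgroup.ker_le_comap q K ?_
        rw [hq, QuotientGroup.ker_mk']
        obtain ⟨o, ho, hox⟩ := hT₀O (show (x : G) ∈ T₀ from ⟨hx1, (show (x : G) ∈ M ⊓ C from hx2).2⟩)
        exact (Subtype.ext hox) ▸ ho
      obtain ⟨U, hU⟩ : ∃ U : Sylow p ↥M, (U : Subgroup ↥M) ≤ K'.subgroupOf M := by
        obtain ⟨U₀⟩ : Nonempty (Sylow p ↥(K'.subgroupOf M)) := inferInstance
        have h7 : IsPGroup p ↥((U₀ : Subgroup _).map (K'.subgroupOf M).subtype) := U₀.isPGroup'.map _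
        have h8 : ¬ p ∣ ((U₀ : Subgroup _).map (K'.subgroupOf M).subtype).index := by
          rw [Subgroup.index_map_subtype]
          intro hd
          rcases (Nat.Prime.dvd_mul Fact.out).mp hd with hd | hd
          · exact U₀.not_dvd_index hd
          · exact hidx hd
        exact ⟨h7.toSylow h8, by rw [IsPGroup.toSylow_coe]; exact map_subtype_le _⟩
      obtain ⟨m, hm⟩ := MulAction.exists_smul_eq ↥M U (T.subtype hTM)
      -- conjugate of `K'`
      set K2 := LocalLarge57.conjBy (m : G) K' with hK2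
      have hK2M : K2 ≤ M :=
        (LocalLarge57.conjBy_mono _ hK'M).trans
          (LocalLarge57.mem_normalizer_iff_conjBy.mp (le_normalizer m.2)).le
      have hTK2 : (T : Subgroup G) ≤ K2 := by
        intro t ht
        have : (⟨t, hTM ht⟩ : ↥M) ∈ (m • U : Sylow p ↥M).toSubgroup := by rw [hm]; exact ht
        obtain ⟨u, hu, hut⟩ := this
        exact ⟨u, hU hu, congrArg Subtype.val hut⟩
      have hK2sup : K2 ⊔ C = Md := by
        refine le_antisymm ((sup_le_sup_right hK2M C).trans hMC.le) ?_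
        rw [← hMC]
        refine sup_le ?_ le_sup_right
        calc M = LocalLarge57.conjBy (m : G) M :=
              (LocalLarge57.mem_normalizer_iff_conjBy.mp (le_normalizer m.2)).symm
          _ = K2 ⊔ LocalLarge57.conjBy (m : G) (M ⊓ C) := by
              rw [hK2, LocalLarge57.conjBy, ← Subgroup.map_sup, hsup]
          _ ≤ K2 ⊔ C := by
              rw [LocalLarge57.mem_normalizer_iff_conjBy.mp (hMnCM m.2)]
              exact sup_le_sup_left inf_le_right _
      have hK2eq : M ≤ K2 := hmin ⟨hTK2, hK2M.trans hMMd, hK2sup⟩ hK2M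
      have hcard : Nat.card M ≤ Nat.card K' := by
        rw [← LocalLarge57.card_conjBy (m : G) K']
        exact Subgroup.card_le_of_le hK2eq
      exact hK'n (inf_le_left.trans (Subgroup.eq_of_le_of_card_ge hK'M hcard).ge)
  -- the subgroup `L*`
  set YL := Cfsg.largestPReducedOf p L
  set CL := centralizer (YL : Set G)
  have hYL := red_largest p L
  set L₁ := M ⊓ (L ⊔ CL) with hL₁
  have hfac : L₁ ⊔ CL = L ⊔ CL := by
    refine le_antisymm (sup_le inf_le_right le_sup_right) (sup_le (fun l hl => ?_) le_sup_right)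
    obtain ⟨m, hm, c, hc, rfl⟩ := hLM.2 l hl
    have hmL : m ∈ L ⊔ CL := by
      have := mul_mem (mem_sup_left (T := CL) hl) (mem_sup_right (S := L) (CL.inv_mem hc))
      rwa [mul_inv_cancel_right] at this
    exact mul_mem (mem_sup_left ⟨hm, hmL⟩) (mem_sup_right hc)
  obtain ⟨hYs, hprod⟩ := largest_eq_normalizer T hTL (le_inf hTM (hTL.trans le_sup_left))
    (charp_of_mem hL) rfl hfac rfl
  set Ls := L₁ ⊓ normalizer (((T : Subgroup G) ⊓ CL : Subgroup G) : Set G) with hLs
  have hTLs : (T : Subgroup G) ≤ Ls :=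
    le_inf (le_inf hTM (hTL.trans le_sup_left))
      (le_normalizer_inf le_normalizer (le_normalizer_centralizer (hTL.trans hYL.2.1)))
  have hLsN : Ls ≤ normalizer (YL : Set G) :=
    le_sup_left.trans (hprod.ge.trans (sup_le hYL.2.1 (LocalBasics.centralizer_le_normalizer YL)))
  exact ⟨M, Ls, hTM, hMfrak, hTLs, inf_le_left.trans inf_le_left,
    mem_of_parabolic hG T hTLs hYL.isPGroup (largest_ne_bot T hTL hL) hLsN,
    hYs.symm, hLM.1, hprod⟩

end Cfsg.Agent.LocalFrakM57
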