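import Mathlib
import Cfsg.Prelude.Def_LocalStructure
import Cfsg.Agent.Lib.LocalPReduced57
import Cfsg.Agent.Lib.LocalLarge57
import Cfsg.Agent.Lib.LocalFrakM57
import Cfsg.Agent.S2830

/-!
`M ∈ 𝔐` with `Y_M` asymmetric: `O_p(M)` is weakly closed and `N(R) ≤ N(O_p(M))` for all
`p`-groups `R` containing `O_p(M)`.
-/

set_option autoImplicit false

namespace Cfsg.Agent.LocalAsym43

open Subgroup
open Cfsg.Agent.LocalBasics Cfsg.Agent.LocalPReduced57 Cfsg.Agent.LocalLarge57

variable {G : Type*} [Group G] {p : ℕ}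

/-- `M†`. -/
abbrev dagger (p : ℕ) (M : Subgroup G) : Subgroup G :=
  M ⊔ centralizer ((Cfsg.largestPReducedOf p M : Subgroup G) : Set G)

/-- The standing hypotheses on `M`. -/
structure Ctx (p : ℕ) (M : Subgroup G) (S : Sylow p G) : Prop where
  par : Cfsg.IsOfParabolicCharacteristic p G
  le : (S : Subgroup G) ≤ M
  frakM : Cfsg.IsInFrakM p M

variable [Finite G] [Fact p.Prime] {M : Subgroup G} {S : Sylow p G}

theorem Ctx.le_dagger (h : Ctx p M S) : (S : Subgroup G) ≤ dagger p M := h.le.trans le_sup_left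

theorem Ctx.dagger_le_normalizer (h : Ctx p M S) :
    dagger p M ≤ normalizer ((Cfsg.largestPReducedOf p M : Subgroup G) : Set G) :=
  sup_le (red_largest p M).2.1 (LocalBasics.centralizer_le_normalizer _)

theorem Ctx.largest_ne_bot (h : Ctx p M S) : Cfsg.largestPReducedOf p M ≠ ⊥ :=
  LocalFrakM57.largest_ne_bot S h.le h.frakM.1

theorem Ctx.largest_le_pCoreOf (h : Ctx p M S) :
    Cfsg.largestPReducedOf p M ≤ Cfsg.pCoreOf p M :=
  (red_largest p M).le_pCoreOf

theorem Ctx.pCoreOf_le_centralizer (h : Ctx p M S) :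
    Cfsg.pCoreOf p M ≤ centralizer ((Cfsg.largestPReducedOf p M : Subgroup G) : Set G) :=
  (red_largest p M).pCoreOf_le

/-- A subgroup of `𝓛` above `M` lies in `M†`. -/
theorem Ctx.le_of_mem (h : Ctx p M S) {X : Subgroup G} (hMX : M ≤ X)
    (hX : X ∈ Cfsg.charPSubgroups p G) : X ≤ dagger p M := by
  obtain ⟨Z, hXZ, hZ⟩ := (Set.toFinite (Cfsg.charPSubgroups p G)).exists_le_maximal hX
  have hZm : Z ∈ Cfsg.maxCharPSubgroups p G :=
    ⟨hZ.prop, fun L hL hle => le_antisymm (hZ.le_of_ge hL hle) hle⟩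
  exact hXZ.trans (h.frakM.2.2.1 Z hZm (hMX.trans hXZ)).le

/-- A subgroup containing `M` and normalizing a nontrivial `p`-subgroup lies in `M†`. -/
theorem Ctx.le_of_normalizing (h : Ctx p M S) {X R : Subgroup G} (hMX : M ≤ X)
    (hR : IsPGroup p ↥R) (hR1 : R ≠ ⊥) (hn : X ≤ normalizer (R : Set G)) : X ≤ dagger p M :=
  h.le_of_mem hMX (LocalFrakM57.mem_of_parabolic h.par S (h.le.trans hMX) hR hR1 hn)

theorem Ctx.pCoreOf_ne_bot (h : Ctx p M S) : Cfsg.pCoreOf p M ≠ ⊥ :=
  LocalFrakM57.pCoreOf_ne_bot h.frakM.1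

theorem Ctx.normalizer_pCoreOf_le (h : Ctx p M S) :
    normalizer ((Cfsg.pCoreOf p M : Subgroup G) : Set G) ≤ dagger p M :=
  h.le_of_normalizing (le_normalizer_pCoreOf p M) (isPGroup_pCoreOf p M) h.pCoreOf_ne_bot le_rfl

theorem Ctx.normalizer_largest_eq (h : Ctx p M S) :
    normalizer ((Cfsg.largestPReducedOf p M : Subgroup G) : Set G) = dagger p M :=
  le_antisymm (h.le_of_normalizing (red_largest p M).2.1 (red_largest p M).isPGroup h.largest_ne_bot
    le_rfl) h.dagger_le_normalizer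

/-- `S ∩ C(Y) ≤ O_p(M)`. -/
theorem Ctx.sylow_inf_le (h : Ctx p M S) :
    (S : Subgroup G) ⊓ centralizer ((Cfsg.largestPReducedOf p M : Subgroup G) : Set G) ≤
      Cfsg.pCoreOf p M := by
  have hpc := h.frakM.2.2.2.2.1
  set C := centralizer ((Cfsg.largestPReducedOf p M : Subgroup G) : Set G)
  have hY := red_largest p M
  have : ((M ⊓ C).subgroupOf M).Normal :=
    LocalBasics.normal_subgroupOf_of_le (LocalBasics.le_normalizer_inf Subgroup.le_normalizer
      (LocalBasics.le_normalizer_centralizer hY.2.1))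
  have hc := Cfsg.Agent.S2830.isPClosed_equiv
    (Subgroup.subgroupOfEquivOfLe (inf_le_left : M ⊓ C ≤ M)).symm hpc
  intro x hx
  have h3 : IsPGroup p ↥(((S : Subgroup G) ⊓ C).subgroupOf M) :=
    (S.isPGroup'.to_le inf_le_left).comap_subtype
  have h4 := LocalBasics.sylow_le_pCore hc h3 (fun y hy => ⟨y.2, hy.2⟩)
    (show (⟨x, h.le hx.1⟩ : ↥M) ∈ ((S : Subgroup G) ⊓ C).subgroupOf M from hx)
  exact ⟨_, h4, rfl⟩

/-- `O_p(M)` is the only `p`-subgroup of `C(Y)` of its kind: a `p`-group containing it meets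
`C(Y)` in it. -/
theorem Ctx.inf_centralizer_le (h : Ctx p M S) {R : Subgroup G} (hR : IsPGroup p ↥R)
    (hOR : Cfsg.pCoreOf p M ≤ R) :
    R ⊓ centralizer ((Cfsg.largestPReducedOf p M : Subgroup G) : Set G) ≤ Cfsg.pCoreOf p M := by
  set C := centralizer ((Cfsg.largestPReducedOf p M : Subgroup G) : Set G)
  set O := Cfsg.pCoreOf p M
  set N := dagger p M
  have hCN : C ≤ N := le_sup_right
  have hNC : N ≤ normalizer (C : Set G) :=
    sup_le (LocalBasics.le_normalizer_centralizer (red_largest p M).2.1) Subgroup.le_normalizer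
  have hp' : IsPGroup p ↥(R ⊓ C) := hR.to_le inf_le_left
  obtain ⟨P, hP⟩ := (hp'.comap_subtype (K := N)).exists_le_sylow
  obtain ⟨c, hc⟩ := MulAction.exists_smul_eq ↥N P (S.subtype h.le_dagger)
  have hle : ((R ⊓ C) : Subgroup G).map (MulAut.conj (c : G)).toMonoidHom ≤ O := by
    rintro _ ⟨r, hr, rfl⟩
    refine h.sylow_inf_le ⟨?_, LocalBasics.conj_mem_of_le_normalizer hNC c.2 hr.2⟩
    have h1 : c * ⟨r, hCN hr.2⟩ * c⁻¹ ∈ ((c • P : Sylow p ↥N) : Subgroup ↥N) :=
      ⟨⟨r, hCN hr.2⟩, hP hr, rfl⟩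
    rw [hc] at h1
    exact h1
  have hO : O ≤ R ⊓ C := le_inf hOR h.pCoreOf_le_centralizer
  refine (Subgroup.eq_of_le_of_card_ge hO ?_).ge
  rw [← Subgroup.card_map_of_injective (f := (MulAut.conj (c : G)).toMonoidHom)
    (K := R ⊓ C) (MulAut.conj (c : G)).injective]
  exact Subgroup.card_le_of_le hle

theorem conjBy_le_centralizer_iff {Y : Subgroup G} {a b : G} :
    conjBy a Y ≤ centralizer ((conjBy b Y : Subgroup G) : Set G) ↔
      conjBy (b⁻¹ * a) Y ≤ centralizer (Y : Set G) := by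
  rw [centralizer_conjBy, ← conjBy_conjBy b⁻¹ a, conjBy_le_iff (g := b⁻¹), inv_inv]

/-- Conjugates of an asymmetric subgroup normalizing each other commute. -/
theorem commute_of_normalizing {Y : Subgroup G} (hasym : ¬ Cfsg.IsSymmetricIn Y) {g : G}
    (h1 : Y ≤ normalizer ((conjBy g Y : Subgroup G) : Set G))
    (h2 : conjBy g Y ≤ normalizer (Y : Set G)) : conjBy g Y ≤ centralizer (Y : Set G) := by
  by_contra hne
  refine hasym ⟨g, fun h0 => hne ?_, LocalLarge57.commutator_le_inf h1 h2⟩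
  exact LocalPReduced57.le_centralizer_symm (commutator_eq_bot_iff_le_centralizer.mp h0)

/-- Conjugates of `M` under `N(R)` lie in `M†`, for a `p`-group `O_p(M) ≤ R ≤ M†`. -/
theorem Ctx.conj_le_dagger (h : Ctx p M S)
    (hasym : ¬ Cfsg.IsSymmetricIn (Cfsg.largestPReducedOf p M)) {R : Subgroup G}
    (hR : IsPGroup p ↥R) (hOR : Cfsg.pCoreOf p M ≤ R) (hRM : R ≤ dagger p M)
    {n : G} (hn : n ∈ normalizer (R : Set G)) : conjBy n M ≤ dagger p M := by
  set Y := Cfsg.largestPReducedOf p M with hYdef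
  set O := Cfsg.pCoreOf p M with hOdef
  set Z := conjBy n Y with hZ
  set On := conjBy n O with hOn
  set Mn := conjBy n M with hMn
  have hRn : conjBy n R = R := mem_normalizer_iff_conjBy.mp hn
  have hYO : Y ≤ O := h.largest_le_pCoreOf
  have hOnR : On ≤ R := (conjBy_mono n hOR).trans hRn.le
  have hZOn : Z ≤ On := conjBy_mono n hYO
  have hRY : R ≤ normalizer (Y : Set G) := hRM.trans h.dagger_le_normalizer
  have hRZ : R ≤ normalizer (Z : Set G) := by
    rw [hZ, normalizer_conjBy, ← hRn]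
    exact conjBy_mono n hRY
  have hMO : M ≤ normalizer (O : Set G) := le_normalizer_pCoreOf p M
  have hMnOn : Mn ≤ normalizer (On : Set G) := by
    rw [hOn, normalizer_conjBy]
    exact conjBy_mono n hMO
  -- membership in `D = O ∩ O^n`
  have inOn : ∀ g : G, conjBy g Y ≤ R → conjBy g Y ≤ centralizer (Z : Set G) → conjBy g Y ≤ On := by
    intro g hg hgc
    have : conjBy n⁻¹ (conjBy g Y) ≤ O := by
      refine le_trans (le_inf ?_ ?_) (h.inf_centralizer_le hR hOR)
      · rw [conjBy_le_iff, inv_inv, hRn]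
        exact hg
      · rw [conjBy_le_iff, inv_inv, ← centralizer_conjBy]
        exact hgc
    rw [hOn, ← conjBy_self_inv n (conjBy g Y)]
    exact conjBy_mono n this
  have inO : ∀ g : G, conjBy g Y ≤ R → conjBy g Y ≤ centralizer (Y : Set G) → conjBy g Y ≤ O :=
    fun g hg hgc => (le_inf hg hgc).trans (h.inf_centralizer_le hR hOR)
  have hYR : Y ≤ R := hYO.trans hOR
  have hZR : Z ≤ R := hZOn.trans hOnR
  have hcomm : Z ≤ centralizer (Y : Set G) :=
    commute_of_normalizing hasym (hYR.trans hRZ) (hZR.trans hRY)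
  let D : Subgroup G := O ⊓ On
  let letters : Set G := (M : Set G) ∪ (Mn : Set G)
  have hinv : ∀ a ∈ letters, a⁻¹ ∈ letters := fun a ha =>
    ha.imp (fun h => M.inv_mem h) (fun h => Mn.inv_mem h)
  -- all conjugates of `Y` and `Z` by words in `M ∪ M^n` lie in `D`
  have key : ∀ k : ℕ, ∀ l : List G, l.length = k → (∀ a ∈ l, a ∈ letters) →
      conjBy l.prod Y ≤ D ∧ conjBy l.prod Z ≤ D := by
    intro k
    induction k with
    | zero =>
      intro l hl _
      rw [List.length_eq_zero_iff.mp hl, List.prod_nil, conjBy_one, conjBy_one]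
      refine ⟨le_inf hYO ?_, le_inf ?_ hZOn⟩
      · have h1 := inOn 1 (by rwa [conjBy_one]) (by
          rw [conjBy_one]; exact LocalPReduced57.le_centralizer_symm hcomm)
        rwa [conjBy_one] at h1
      · exact inO n hZR hcomm
    | succ k ih =>
      -- one letter applied to a word of length `k` lands in `O` or `On`
      have step : ∀ l : List G, l.length = k + 1 → (∀ a ∈ l, a ∈ letters) →
          (conjBy l.prod Y ≤ O ∧ conjBy l.prod Z ≤ O) ∨
            (conjBy l.prod Y ≤ On ∧ conjBy l.prod Z ≤ On) := by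
        intro l hl hmem
        obtain ⟨a, r, rfl⟩ := List.exists_cons_of_length_eq_add_one hl
        obtain ⟨h1, h2⟩ := ih r (by simpa using hl) fun b hb => hmem b (List.mem_cons_of_mem a hb)
        rw [List.prod_cons, ← conjBy_conjBy, ← conjBy_conjBy]
        rcases hmem a List.mem_cons_self with ha | ha
        · have e := mem_normalizer_iff_conjBy.mp (hMO ha)
          exact Or.inl ⟨(conjBy_mono a (h1.trans inf_le_left)).trans e.le,
            (conjBy_mono a (h2.trans inf_le_left)).trans e.le⟩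
        · have e := mem_normalizer_iff_conjBy.mp (hMnOn ha)
          exact Or.inr ⟨(conjBy_mono a (h1.trans inf_le_right)).trans e.le,
            (conjBy_mono a (h2.trans inf_le_right)).trans e.le⟩
      have inR : ∀ l : List G, l.length = k + 1 → (∀ a ∈ l, a ∈ letters) →
          conjBy l.prod Y ≤ R ∧ conjBy l.prod Z ≤ R := by
        intro l hl hmem
        rcases step l hl hmem with ⟨e1, e2⟩ | ⟨e1, e2⟩
        · exact ⟨e1.trans hOR, e2.trans hOR⟩
        · exact ⟨e1.trans hOnR, e2.trans hOnR⟩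
      intro l hl hmem
      obtain ⟨hY1, hZ1⟩ := inR l hl hmem
      set g := l.prod with hg
      -- the reversed word
      obtain ⟨hY2, hZ2⟩ : conjBy g⁻¹ Y ≤ R ∧ conjBy g⁻¹ Z ≤ R := by
        rw [hg, List.prod_inv_reverse]
        refine inR _ (by simpa using hl) fun a ha => ?_
        obtain ⟨b, hb, rfl⟩ := List.mem_map.mp (List.mem_reverse.mp ha)
        exact hinv b (hmem b hb)
      -- so both `Y` and `Z` normalize the conjugates
      have hn1 : ∀ X : Subgroup G, conjBy g⁻¹ X ≤ R →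
          X ≤ normalizer ((conjBy g Y : Subgroup G) : Set G) ∧
            X ≤ normalizer ((conjBy g Z : Subgroup G) : Set G) := fun X hX => by
        have e : X ≤ conjBy g R := by
          rw [← conjBy_self_inv g X]; exact conjBy_mono g hX
        rw [normalizer_conjBy, normalizer_conjBy]
        exact ⟨e.trans (conjBy_mono g hRY), e.trans (conjBy_mono g hRZ)⟩
      have cY : ∀ a : G, conjBy a Y ≤ R → Y ≤ normalizer ((conjBy a Y : Subgroup G) : Set G) →
          conjBy a Y ≤ centralizer (Y : Set G) :=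
        fun a ha ha' => commute_of_normalizing hasym ha' (ha.trans hRY)
      have cZ : ∀ a : G, conjBy a Y ≤ R → Z ≤ normalizer ((conjBy a Y : Subgroup G) : Set G) →
          conjBy a Y ≤ centralizer (Z : Set G) := by
        intro a ha ha'
        rw [hZ, conjBy_le_centralizer_iff]
        refine commute_of_normalizing hasym ?_ ?_
        · rw [← conjBy_conjBy, normalizer_conjBy]
          have := conjBy_mono n⁻¹ ha'
          rwa [hZ, conjBy_inv_self] at this
        · rw [← conjBy_conjBy, conjBy_le_iff, inv_inv, ← normalizer_conjBy]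
          exact ha.trans hRZ
      have hgn : conjBy g Z = conjBy (g * n) Y := conjBy_conjBy g n Y
      refine ⟨le_inf (inO g hY1 (cY g hY1 (hn1 Y hY2).1)) (inOn g hY1 (cZ g hY1 (hn1 Z hZ2).1)), ?_⟩
      rw [hgn] at hZ1 ⊢
      refine le_inf (inO _ hZ1 (cY _ hZ1 ?_)) (inOn _ hZ1 (cZ _ hZ1 ?_))
      · rw [← hgn]; exact (hn1 Y hY2).2
      · rw [← hgn]; exact (hn1 Z hZ2).2
  -- the normal closure of `Y` under `⟨M, M^n⟩`
  set K := M ⊔ Mn with hK
  set V := conjClosure Y K with hV
  have hVD : V ≤ D := by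
    refine iSup_le fun x => ?_
    have hx : (x : G) ∈ Subgroup.closure letters := by
      refine (sup_le (fun m hm => subset_closure (Or.inl hm))
        (fun m hm => subset_closure (Or.inr hm)) : K ≤ _) x.2
    obtain ⟨l, hl, hlx⟩ : ∃ l : List G, (∀ a ∈ l, a ∈ letters) ∧ l.prod = x := by
      obtain ⟨l, hl, e⟩ := Submonoid.exists_list_of_mem_closure
        (show (x : G) ∈ Submonoid.closure (letters ∪ letters⁻¹) by
          rw [← Subgroup.closure_toSubmonoid]; exact hx)
      refine ⟨l, fun a ha => ?_, e⟩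
      rcases hl a ha with h' | h'
      · exact h'
      · simpa using hinv a⁻¹ h'
    have := (key l.length l rfl hl).1
    rw [hlx] at this
    exact this
  have hV1 : V ≠ ⊥ := fun e => h.largest_ne_bot (le_bot_iff.mp (e ▸ le_conjClosure Y K))
  have hKle : K ≤ dagger p M := h.le_of_normalizing le_sup_left
    ((isPGroup_pCoreOf p M).to_le (hVD.trans inf_le_left)) hV1 (le_normalizer_conjClosure Y K)
  exact le_sup_right.trans hKle

/-- The conjugate of a `p`-reduced subgroup. -/
theorem isRed_conjBy {U L : Subgroup G} (n : G) (hU : IsRed p U L) :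
    IsRed p (conjBy n U) (conjBy n L) := by
  obtain ⟨h1, h2, h3, h4⟩ := hU
  refine ⟨conjBy_mono n h1, by rw [normalizer_conjBy]; exact conjBy_mono n h2,
    PGroupsBasic.isElementaryAbelian_map_hom h3 _, fun D hDL hDn hpow => ?_⟩
  have hD' : conjBy n⁻¹ D ≤ centralizer (U : Set G) := by
    refine h4 _ (by rw [conjBy_le_iff, inv_inv]; exact hDL) ?_ ?_
    · have := conjBy_mono n⁻¹ hDn
      rwa [conjBy_inv_self, ← normalizer_conjBy] at this
    · intro g hg
      rw [mem_conjBy, inv_inv] at hg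
      obtain ⟨k, hk⟩ := hpow _ hg
      rw [centralizer_conjBy, mem_conjBy, conj_pow] at hk
      refine ⟨k, ?_⟩
      simpa [mul_assoc] using hk
  rw [centralizer_conjBy, ← conjBy_self_inv n D]
  exact conjBy_mono n hD'

/-- The main step: `N(R) ≤ N(O_p(M))` for `p`-groups `O_p(M) ≤ R ≤ M†`. -/
theorem Ctx.normalizer_le_of_le_dagger (h : Ctx p M S)
    (hasym : ¬ Cfsg.IsSymmetricIn (Cfsg.largestPReducedOf p M)) {R : Subgroup G}
    (hR : IsPGroup p ↥R) (hOR : Cfsg.pCoreOf p M ≤ R) (hRM : R ≤ dagger p M) :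
    normalizer (R : Set G) ≤ normalizer ((Cfsg.pCoreOf p M : Subgroup G) : Set G) := by
  intro n hn
  set Y := Cfsg.largestPReducedOf p M with hYdef
  set O := Cfsg.pCoreOf p M with hOdef
  set Z := conjBy n Y with hZ
  have hOnR : conjBy n O ≤ R :=
    (conjBy_mono n hOR).trans (mem_normalizer_iff_conjBy.mp hn).le
  have hMdn : conjBy n (dagger p M) ≤ normalizer (Z : Set G) := by
    rw [hZ, normalizer_conjBy]
    exact conjBy_mono n h.dagger_le_normalizer
  have hMdn' : M ≤ conjBy n (dagger p M) := by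
    have := conjBy_mono n (h.conj_le_dagger hasym hR hOR hRM (inv_mem hn))
    rwa [conjBy_self_inv] at this
  have hNZ : normalizer (Z : Set G) ≤ dagger p M :=
    h.le_of_normalizing (hMdn'.trans hMdn) ((red_largest p M).isPGroup.map _)
      (fun e => h.largest_ne_bot ((Subgroup.map_eq_bot_iff_of_injective _
        (MulAut.conj n).injective).mp e)) le_rfl
  have heq : conjBy n (dagger p M) = dagger p M :=
    Subgroup.eq_of_le_of_card_ge (hMdn.trans hNZ) (card_conjBy n _).ge
  have hYd : IsRed p Y (dagger p M) := by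
    have := red_largest p (dagger p M)
    rwa [← h.frakM.2.2.2.1] at this
  have hZY : Z = Y := by
    refine Subgroup.eq_of_le_of_card_ge ?_ (card_conjBy n Y).ge
    have := le_largest (isRed_conjBy n hYd)
    rw [heq, ← h.frakM.2.2.2.1] at this
    exact this
  rw [mem_normalizer_iff_conjBy]
  refine Subgroup.eq_of_le_of_card_ge ?_ (card_conjBy n O).ge
  refine le_trans (le_inf hOnR ?_) (h.inf_centralizer_le hR hOR)
  rw [← hYdef, ← hZY, hZ, centralizer_conjBy]
  exact conjBy_mono n h.pCoreOf_le_centralizer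

/-- `N(R) ≤ N(O_p(M))` for all `p`-groups `R ≥ O_p(M)`. -/
theorem Ctx.normalizer_le (h : Ctx p M S)
    (hasym : ¬ Cfsg.IsSymmetricIn (Cfsg.largestPReducedOf p M)) {R : Subgroup G}
    (hR : IsPGroup p ↥R) (hOR : Cfsg.pCoreOf p M ≤ R) :
    normalizer (R : Set G) ≤ normalizer ((Cfsg.pCoreOf p M : Subgroup G) : Set G) := by
  refine h.normalizer_le_of_le_dagger hasym hR hOR (le_trans ?_ h.normalizer_pCoreOf_le)
  set NO := normalizer ((Cfsg.pCoreOf p M : Subgroup G) : Set G)
  have : Group.IsNilpotent ↥R := hR.isNilpotent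
  by_contra hne
  have hlt : NO.subgroupOf R < ⊤ :=
    lt_top_iff_ne_top.mpr fun e => hne (subgroupOf_eq_top.mp e)
  refine (Group.normalizerCondition_of_isNilpotent _ hlt).ne (le_antisymm le_normalizer fun x hx => ?_)
  have hR0 : IsPGroup p ↥(NO ⊓ R) := hR.to_le inf_le_right
  refine h.normalizer_le_of_le_dagger hasym hR0 (le_inf le_normalizer hOR)
    (inf_le_left.trans h.normalizer_pCoreOf_le) ?_
  rw [mem_normalizer_iff]
  intro g
  have hxm := Subgroup.mem_normalizer_iff.mp hx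
  constructor
  · intro hg
    exact Subgroup.mem_inf.mpr
      ⟨(hxm ⟨g, hg.2⟩).mp hg.1, R.mul_mem (R.mul_mem x.2 hg.2) (R.inv_mem x.2)⟩
  · intro hg
    have hgR : g ∈ R := by
      simpa [mul_assoc] using mul_mem (mul_mem (inv_mem x.2) hg.2) x.2
    exact ⟨(hxm ⟨g, hgR⟩).mpr hg.1, hgR⟩

/-- `O_p(M)` is weakly closed. -/
theorem Ctx.weaklyClosed (h : Ctx p M S)
    (hasym : ¬ Cfsg.IsSymmetricIn (Cfsg.largestPReducedOf p M)) :
    Cfsg.IsWeaklyClosedSubgroup p (Cfsg.pCoreOf p M) :=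
  wc_of_normalizer_cond (isPGroup_pCoreOf p M) fun _ hR hOR => h.normalizer_le hasym hR hOR

/-- A subgroup above `O_p(M)` has a Sylow subgroup inside `N(O_p(M))`. -/
theorem Ctx.exists_sylow_le (h : Ctx p M S)
    (hasym : ¬ Cfsg.IsSymmetricIn (Cfsg.largestPReducedOf p M)) {L : Subgroup G}
    (hOL : Cfsg.pCoreOf p M ≤ L) :
    ∃ T : Sylow p ↥L, Cfsg.pCoreOf p M ≤ (T : Subgroup ↥L).map L.subtype ∧
      (T : Subgroup ↥L).map L.subtype ≤ normalizer ((Cfsg.pCoreOf p M : Subgroup G) : Set G) := by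
  obtain ⟨T, hT⟩ := ((isPGroup_pCoreOf p M).comap_subtype (K := L)).exists_le_sylow
  have hOT : Cfsg.pCoreOf p M ≤ (T : Subgroup ↥L).map L.subtype :=
    fun x hx => ⟨⟨x, hOL hx⟩, hT hx, rfl⟩
  exact ⟨T, hOT, le_normalizer.trans (h.normalizer_le hasym (T.isPGroup'.map _) hOT)⟩

/-- Fusion in `Y_M` is controlled by `M`. -/
theorem Ctx.exists_conj (h : Ctx p M S)
    (hasym : ¬ Cfsg.IsSymmetricIn (Cfsg.largestPReducedOf p M)) {x g : G}
    (hx : x ∈ Cfsg.largestPReducedOf p M) (hy : g * x * g⁻¹ ∈ Cfsg.largestPReducedOf p M) :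
    ∃ m ∈ M, m * x * m⁻¹ = g * x * g⁻¹ := by
  set O := Cfsg.pCoreOf p M
  set Y := Cfsg.largestPReducedOf p M
  set C := centralizer ({g * x * g⁻¹} : Set G)
  have h1 : O ≤ C := fun o ho =>
    mem_centralizer_singleton_iff.mpr ((h.pCoreOf_le_centralizer ho) _ hy).symm
  have h2 : conjBy g O ≤ C := by
    rintro _ ⟨o, ho, rfl⟩
    rw [mem_centralizer_singleton_iff]
    show g * o * g⁻¹ * (g * x * g⁻¹) = g * x * g⁻¹ * (g * o * g⁻¹)
    calc g * o * g⁻¹ * (g * x * g⁻¹) = g * (o * x) * g⁻¹ := by group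
      _ = g * (x * o) * g⁻¹ := by rw [(h.pCoreOf_le_centralizer ho) x hx]
      _ = _ := by group
  obtain ⟨c, hc, he⟩ := exists_conj_of_wc (h.weaklyClosed hasym) (isPGroup_pCoreOf p M) h1 h2
  have hgc : c⁻¹ * g ∈ dagger p M := by
    refine h.normalizer_pCoreOf_le ?_
    rw [mem_normalizer_iff_conjBy, ← conjBy_conjBy, he, conjBy_inv_self]
  obtain ⟨m, hm, z, hz, he'⟩ :=
    exists_mul_of_mem_sup (LocalBasics.le_normalizer_centralizer (red_largest p M).2.1) hgc
  refine ⟨m, hm, ?_⟩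
  have hzx : z * x = x * z := (hz x hx).symm
  have hcy : c⁻¹ * (g * x * g⁻¹) = g * x * g⁻¹ * c⁻¹ :=
    mem_centralizer_singleton_iff.mp (inv_mem hc)
  calc m * x * m⁻¹ = m * (z * x) * z⁻¹ * m⁻¹ := by rw [hzx]; group
    _ = (m * z) * x * (m * z)⁻¹ := by group
    _ = (c⁻¹ * g) * x * (c⁻¹ * g)⁻¹ := by rw [← he']
    _ = c⁻¹ * (g * x * g⁻¹) * c := by group
    _ = g * x * g⁻¹ := by rw [hcy, inv_mul_cancel_right]

end Cfsg.Agent.LocalAsym43
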