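import Mathlib
import Cfsg.Prelude.Def_LocalStructure
import Cfsg.Agent.Lib.LocalPReduced57
import Cfsg.Agent.Lib.LocalLarge57
import Cfsg.Agent.Lib.LocalFrakM57
import Cfsg.Agent.S2830

/-! Members of `𝔐` and asymmetric `Y_M`: `O_p(M)` is weakly closed. -/

set_option autoImplicit false

namespace Cfsg.Agent.LocalAsym57

open Subgroup LocalLarge57
open Cfsg.Agent.LocalBasics Cfsg.Agent.LocalPReduced57

variable {G : Type*} [Group G] {p : ℕ}

local notation "Y_[" M "]" => Cfsg.largestPReducedOf p M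
local notation "R_[" M "]" => Cfsg.pCoreOf p M

/-- `M† = M C(Y_M)`. -/
abbrev dag (p : ℕ) (M : Subgroup G) : Subgroup G :=
  M ⊔ centralizer ((Cfsg.largestPReducedOf p M : Subgroup G) : Set G)

theorem le_dag_of_mem [Finite G] {M X : Subgroup G} (hM : Cfsg.IsInFrakM p M)
    (hX : X ∈ Cfsg.charPSubgroups p G) (hMX : M ≤ X) : X ≤ dag p M := by
  obtain ⟨Z, ⟨hZ, hle⟩, hmax⟩ := (Set.toFinite {Z : Subgroup G |
    Z ∈ Cfsg.charPSubgroups p G ∧ X ≤ Z}).exists_maximal ⟨X, hX, le_rfl⟩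
  exact hle.trans (hM.2.2.1 Z ⟨hZ, fun W hW hZW => le_antisymm (hmax ⟨hW, hle.trans hZW⟩ hZW) hZW⟩
    (hMX.trans hle)).le

theorem dag_le_normalizer [Finite G] (M : Subgroup G) : dag p M ≤ normalizer ((Y_[M] : Subgroup G) : Set G) :=
  sup_le (red_largest p M).2.1 (LocalBasics.centralizer_le_normalizer _)

theorem normalizer_le_dag [Finite G] [Fact p.Prime] (hG : Cfsg.IsOfParabolicCharacteristic p G)
    (S : Sylow p G) {M : Subgroup G} (hSM : (S : Subgroup G) ≤ M) (hM : Cfsg.IsInFrakM p M)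
    {A : Subgroup G} (hA : IsPGroup p ↥A) (hA1 : A ≠ ⊥) (hMA : M ≤ normalizer (A : Set G)) :
    normalizer (A : Set G) ≤ dag p M :=
  le_dag_of_mem hM (LocalFrakM57.mem_of_parabolic hG S (hSM.trans hMA) hA hA1 le_rfl) hMA

theorem normalizer_core_le [Finite G] [Fact p.Prime] (hG : Cfsg.IsOfParabolicCharacteristic p G)
    (S : Sylow p G) {M : Subgroup G} (hSM : (S : Subgroup G) ≤ M) (hM : Cfsg.IsInFrakM p M) :
    normalizer ((R_[M] : Subgroup G) : Set G) ≤ dag p M :=
  normalizer_le_dag hG S hSM hM (isPGroup_pCoreOf p M) (LocalFrakM57.pCoreOf_ne_bot hM.1)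
    (le_normalizer_pCoreOf p M)

theorem normalizer_largest_eq [Finite G] [Fact p.Prime] (hG : Cfsg.IsOfParabolicCharacteristic p G)
    (S : Sylow p G) {M : Subgroup G} (hSM : (S : Subgroup G) ≤ M) (hM : Cfsg.IsInFrakM p M) :
    normalizer ((Y_[M] : Subgroup G) : Set G) = dag p M :=
  le_antisymm (normalizer_le_dag hG S hSM hM (red_largest p M).isPGroup
    (LocalFrakM57.largest_ne_bot S hSM hM.1) (red_largest p M).2.1) (dag_le_normalizer M)

theorem core_eq [Finite G] [Fact p.Prime] (S : Sylow p G) {M : Subgroup G}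
    (hSM : (S : Subgroup G) ≤ M) (hM : Cfsg.IsInFrakM p M) :
    R_[M] = (S : Subgroup G) ⊓ centralizer ((Y_[M] : Subgroup G) : Set G) := by
  set C := centralizer ((Y_[M] : Subgroup G) : Set G)
  have hMC : M ≤ normalizer ((M ⊓ C : Subgroup G) : Set G) :=
    le_normalizer_inf le_normalizer (LocalBasics.le_normalizer_centralizer (red_largest p M).2.1)
  refine le_antisymm (le_inf (pCoreOf_le_sylow S hSM) (red_largest p M).pCoreOf_le) ?_
  intro x hx
  haveI : ((M ⊓ C).subgroupOf M).Normal := normal_subgroupOf_of_le hMC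
  have h1 : Cfsg.IsPClosed p ↥((M ⊓ C).subgroupOf M) :=
    S2830.isPClosed_equiv (subgroupOfEquivOfLe inf_le_left).symm hM.2.2.2.2.1
  have h2 := LocalBasics.sylow_le_pCore h1 (P := ((S : Subgroup G) ⊓ C).subgroupOf M)
    ((S.isPGroup'.to_le inf_le_left).comap_subtype) (fun z hz => ⟨z.2, hz.2⟩)
  exact ⟨⟨x, hSM hx.1⟩, h2 hx, rfl⟩

/-- `O_p(M)` is a maximal `p`-subgroup of `C(Y_M)`. -/
theorem le_core [Finite G] [Fact p.Prime] (S : Sylow p G) {M : Subgroup G}
    (hSM : (S : Subgroup G) ≤ M) (hM : Cfsg.IsInFrakM p M) {A : Subgroup G} (hA : IsPGroup p ↥A)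
    (hAC : A ≤ centralizer ((Y_[M] : Subgroup G) : Set G))
    (hn : A ≤ normalizer ((R_[M] : Subgroup G) : Set G)) : A ≤ R_[M] := by
  have h := inf_maximal S (hSM.trans (LocalBasics.le_normalizer_centralizer (red_largest p M).2.1))
    (P := R_[M] ⊔ A) (sup_le (red_largest p M).pCoreOf_le hAC)
    (isPGroup_sup (isPGroup_pCoreOf p M) hA hn) ((core_eq S hSM hM).ge.trans le_sup_left)
  exact (le_sup_right.trans h.le).trans (core_eq S hSM hM).ge

theorem conjBy_commutator (g : G) (A B : Subgroup G) :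
    conjBy g ⁅A, B⁆ = ⁅conjBy g A, conjBy g B⁆ := Subgroup.map_commutator _ _ _

theorem conjBy_inf (g : G) (A B : Subgroup G) : conjBy g (A ⊓ B) = conjBy g A ⊓ conjBy g B :=
  Subgroup.map_inf _ _ _ (MulEquiv.injective _)

theorem conjBy_bot (g : G) : conjBy g (⊥ : Subgroup G) = ⊥ := Subgroup.map_bot _

theorem comm_of_asym {Y : Subgroup G} (h : ¬ Cfsg.IsSymmetricIn Y) {a b : G}
    (h1 : conjBy a Y ≤ normalizer ((conjBy b Y : Subgroup G) : Set G))
    (h2 : conjBy b Y ≤ normalizer ((conjBy a Y : Subgroup G) : Set G)) :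
    conjBy b Y ≤ centralizer ((conjBy a Y : Subgroup G) : Set G) := by
  have h3 : (⁅conjBy a Y, conjBy b Y⁆ : Subgroup G) ≤ conjBy a Y ⊓ conjBy b Y :=
    commutator_le_inf (A := conjBy a Y) (B := conjBy b Y) h1 h2
  have h4 : ⁅Y, conjBy (a⁻¹ * b) Y⁆ = ⊥ := by
    by_contra hne
    refine h ⟨a⁻¹ * b, hne, ?_⟩
    have := conjBy_mono a⁻¹ h3
    rw [conjBy_commutator, conjBy_inf, conjBy_inv_self, conjBy_conjBy] at this
    exact this
  have h5 := congrArg (conjBy a) h4
  rw [conjBy_commutator, conjBy_bot, conjBy_conjBy, mul_inv_cancel_left, commutator_comm] at h5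
  exact commutator_eq_bot_iff_le_centralizer.mp h5

/-- Adjacency: the conjugates of `R` by `a` and by `b` normalize each other. -/
def Adj (R : Subgroup G) (a b : G) : Prop :=
  conjBy a R ≤ normalizer ((conjBy b R : Subgroup G) : Set G) ∧
    conjBy b R ≤ normalizer ((conjBy a R : Subgroup G) : Set G)

/-- Paths of length `n` in the adjacency relation. -/
def Path (R : Subgroup G) : ℕ → G → G → Prop
  | 0, a, b => conjBy a R = conjBy b R
  | n + 1, a, b => ∃ c, Path R n a c ∧ Adj R c b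

theorem Adj.smul {R : Subgroup G} {a b : G} (h : Adj R a b) (k : G) : Adj R (k * a) (k * b) := by
  constructor
  · rw [← conjBy_conjBy, ← conjBy_conjBy, normalizer_conjBy k]; exact conjBy_mono k h.1
  · rw [← conjBy_conjBy, ← conjBy_conjBy, normalizer_conjBy k]; exact conjBy_mono k h.2

theorem Path.smul {R : Subgroup G} (k : G) : ∀ {n : ℕ} {a b : G}, Path R n a b →
    Path R n (k * a) (k * b)
  | 0, a, b, h => by
    show conjBy _ R = conjBy _ R
    rw [← conjBy_conjBy, ← conjBy_conjBy, show conjBy a R = conjBy b R from h]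
  | _ + 1, _, _, ⟨c, hc, hcb⟩ => ⟨k * c, Path.smul k hc, hcb.smul k⟩

theorem Path.congr_left {R : Subgroup G} : ∀ {n : ℕ} {a a' b : G}, conjBy a R = conjBy a' R →
    Path R n a b → Path R n a' b
  | 0, _, _, _, h, h' => h.symm.trans h'
  | _ + 1, _, _, _, h, ⟨c, hc, hcb⟩ => ⟨c, Path.congr_left h hc, hcb⟩

theorem Path.trans {R : Subgroup G} : ∀ {m n : ℕ} {a b c : G}, Path R m a b → Path R n b c →
    Path R (m + n) a c
  | m, 0, a, b, c, h, h' => by
    cases m with
    | zero => exact (show conjBy a R = conjBy b R from h).trans h'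
    | succ m =>
      obtain ⟨d, hd, hdb⟩ := h
      refine ⟨d, hd, ?_⟩
      have h' : conjBy b R = conjBy c R := h'
      unfold Adj
      rw [← h']
      exact hdb
  | _, _ + 1, _, _, _, h, ⟨d, hd, hdc⟩ => ⟨d, Path.trans h hd, hdc⟩

theorem Path.head {R : Subgroup G} : ∀ {n : ℕ} {a b : G}, Path R (n + 1) a b →
    ∃ c, Adj R a c ∧ Path R n c b
  | 0, a, b, ⟨c, hc, hcb⟩ => ⟨b, by
      unfold Adj; rw [show conjBy a R = conjBy c R from hc]; exact hcb, rfl⟩
  | _ + 1, _, _, ⟨c, hc, hcb⟩ => by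
    obtain ⟨d, had, hdc⟩ := Path.head hc
    exact ⟨d, had, ⟨c, hdc, hcb⟩⟩

theorem path_le [Finite G] [Fact p.Prime] (hG : Cfsg.IsOfParabolicCharacteristic p G)
    (S : Sylow p G) {M : Subgroup G} (hSM : (S : Subgroup G) ≤ M) (hM : Cfsg.IsInFrakM p M)
    (hasym : ¬ Cfsg.IsSymmetricIn Y_[M]) : ∀ {n : ℕ} {a c : G}, Path R_[M] n a c →
      conjBy a Y_[M] ≤ conjBy c R_[M] ∧ conjBy c Y_[M] ≤ conjBy a R_[M] := by
  have hNR : ∀ x : G, normalizer ((conjBy x R_[M] : Subgroup G) : Set G) ≤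
      normalizer ((conjBy x Y_[M] : Subgroup G) : Set G) := fun x => by
    rw [normalizer_conjBy, normalizer_conjBy]
    exact conjBy_mono x ((normalizer_core_le hG S hSM hM).trans (dag_le_normalizer M))
  have hYR : Y_[M] ≤ R_[M] := (red_largest p M).le_pCoreOf
  have hcore : ∀ x : G, ∀ A : Subgroup G, IsPGroup p ↥A →
      A ≤ centralizer ((conjBy x Y_[M] : Subgroup G) : Set G) →
      A ≤ normalizer ((conjBy x R_[M] : Subgroup G) : Set G) → A ≤ conjBy x R_[M] := by
    intro x A hA hC hN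
    have h := le_core S hSM hM (hA.map (MulAut.conj x⁻¹).toMonoidHom) (A := conjBy x⁻¹ A)
      (by rw [conjBy_le_iff, inv_inv, ← centralizer_conjBy]; exact hC)
      (by rw [conjBy_le_iff, inv_inv, ← normalizer_conjBy]; exact hN)
    rwa [conjBy_le_iff, inv_inv] at h
  intro n
  induction n with
  | zero =>
    intro a c h
    have h : conjBy a R_[M] = conjBy c R_[M] := h
    exact ⟨h ▸ conjBy_mono a hYR, h ▸ conjBy_mono c hYR⟩
  | succ n ih =>
    intro a c h
    obtain ⟨a', haa', ha'c⟩ := Path.head h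
    obtain ⟨b, hab, hbc⟩ := h
    have h1 : conjBy a Y_[M] ≤ normalizer ((conjBy c R_[M] : Subgroup G) : Set G) :=
      (ih hab).1.trans hbc.1
    have h2 : conjBy c Y_[M] ≤ normalizer ((conjBy a R_[M] : Subgroup G) : Set G) :=
      (ih ha'c).2.trans haa'.2
    have h3 := comm_of_asym hasym (h1.trans (hNR c)) (h2.trans (hNR a))
    exact ⟨hcore c _ ((red_largest p M).isPGroup.map _) (le_centralizer_symm h3) h1,
      hcore a _ ((red_largest p M).isPGroup.map _) h3 h2⟩

/-- If `Y_M` is asymmetric, `O_p(M)` is weakly closed. -/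
theorem core_wc [Finite G] [Fact p.Prime] (hG : Cfsg.IsOfParabolicCharacteristic p G)
    (S : Sylow p G) {M : Subgroup G} (hSM : (S : Subgroup G) ≤ M) (hM : Cfsg.IsInFrakM p M)
    (hasym : ¬ Cfsg.IsSymmetricIn Y_[M]) : Cfsg.IsWeaklyClosedSubgroup p R_[M] := by
  have hR := isPGroup_pCoreOf p M
  refine wc_of_eq_cond hR fun g hg => ?_
  set R := R_[M]
  set Y := Y_[M]
  have hn2 : conjBy g R ≤ normalizer (R : Set G) := le_normalizer_of_commutator hg
  have hadj : Adj R 1 g := ⟨by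
    rw [conjBy_one]
    exact le_normalizer_iff_commutator_le_right.mpr (hg.trans inf_le_right),
    by rw [conjBy_one]; exact hn2⟩
  let W : Subgroup G := ⨆ c : {c : G // ∃ n, Path R n 1 c}, conjBy (c : G) Y
  have hYW : Y ≤ W := (conjBy_one Y).ge.trans
    (le_iSup (fun c : {c : G // ∃ n, Path R n 1 c} => conjBy (c : G) Y) ⟨1, 0, rfl⟩)
  have hWR : W ≤ R := iSup_le fun c => by
    obtain ⟨n, hn⟩ := c.2
    have := (path_le hG S hSM hM hasym hn).2
    rwa [conjBy_one] at this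
  have hstab : ∀ k : G, (∃ n, Path R n 1 k) → k ∈ normalizer (W : Set G) := by
    rintro k ⟨n, hk⟩
    rw [mem_normalizer_iff_conjBy]
    refine Subgroup.eq_of_le_of_card_ge ?_ (by rw [card_conjBy])
    show (⨆ c : {c : G // ∃ n, Path R n 1 c}, conjBy (c : G) Y).map (MulAut.conj k).toMonoidHom ≤ W
    rw [Subgroup.map_iSup]
    refine iSup_le fun c => ?_
    show conjBy k (conjBy (c : G) Y) ≤ W
    rw [conjBy_conjBy]
    obtain ⟨m, hm⟩ := c.2
    have h9 := Path.smul k hm
    rw [mul_one] at h9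
    exact le_iSup (fun c : {c : G // ∃ n, Path R n 1 c} => conjBy (c : G) Y)
      ⟨k * c, _, hk.trans h9⟩
  have hMW : M ≤ normalizer (W : Set G) := fun m hm => hstab m ⟨0, by
    show conjBy 1 R = conjBy m R
    rw [conjBy_one, mem_normalizer_iff_conjBy.mp (le_normalizer_pCoreOf p M hm)]⟩
  have hgW : g ∈ normalizer (W : Set G) := hstab g ⟨1, 1, rfl, hadj⟩
  have hW1 : W ≠ ⊥ := fun h => LocalFrakM57.largest_ne_bot S hSM hM.1 (le_bot_iff.mp (h ▸ hYW))
  have hgd : g ∈ dag p M := normalizer_le_dag hG S hSM hM (hR.to_le hWR) hW1 hMW hgW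
  have hgY : g ∈ normalizer (Y : Set G) := dag_le_normalizer M hgd
  refine Subgroup.eq_of_le_of_card_ge (le_core S hSM hM (hR.map _) ?_ hn2) (by rw [card_conjBy])
  have := conjBy_mono g (red_largest p M).pCoreOf_le
  rw [← centralizer_conjBy, mem_normalizer_iff_conjBy.mp hgY] at this
  exact this

end Cfsg.Agent.LocalAsym57
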