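import Mathlib
import Cfsg.Agent.Lib.LocalAsym43
import Cfsg.Agent.Lib.ComponentsFitting

/-! `Y_M ≤ Y_H` for subgroups `H` of characteristic `p` above the preimage of `F*(M†/C(Y_M))`. -/

set_option autoImplicit false

namespace Cfsg.Agent.LocalAsymCore43

open Subgroup
open Cfsg.Agent.LocalBasics Cfsg.Agent.LocalPReduced57 Cfsg.Agent.LocalAsym43

variable {G : Type*} [Group G] [Finite G] {p : ℕ} [Fact p.Prime]

/-- A subgroup all of whose elements are `p`-elements and which is normalized by `F*(K)` is trivial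
when `O_p(K) = 1`. -/
theorem eq_bot_of_normalized {K : Type*} [Group K] [Finite K] (hK : Cfsg.pCore p K = ⊥)
    {X : Subgroup K} (hX : IsPGroup p ↥X)
    (hn : Cfsg.generalizedFittingSubgroup K ≤ normalizer (X : Set K)) : X = ⊥ := by
  set E := Cfsg.generalizedFittingSubgroup K
  have hE : X ⊓ E = ⊥ := by
    rw [eq_bot_iff, ← hK]
    refine le_trans ?_ (ComponentsCores.pCore_map_subtype_le (K := E)
      (Subgroup.Normal.isSubnormal ComponentsFitting.gen_normal))
    have h1 : (X ⊓ E).subgroupOf E ≤ Cfsg.pCore p ↥E :=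
      LocGroup56.le_pCore (normal_subgroupOf_of_le (le_normalizer_inf hn le_normalizer))
        ((hX.to_le inf_le_left).comap_subtype)
    intro x hx
    exact ⟨⟨x, hx.2⟩, h1 hx, rfl⟩
  have hc : X ≤ centralizer (E : Set K) := by
    rw [← commutator_eq_bot_iff_le_centralizer, eq_bot_iff, ← hE]
    exact LocalLarge57.commutator_le_inf (le_normalizer_of_normal X) hn
  exact eq_bot_iff.mpr (hE ▸ le_inf le_rfl (hc.trans ComponentsFitting.centralizer_gen_le))

/-- A subgroup of `M†` that is `p`-power modulo `C(Y)` and normalized by the preimage of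
`F*(M†/C(Y))` centralizes `Y`. -/
theorem le_centralizer_of_powMod {Y Md : Subgroup G} (hY : IsRed p Y Md)
    [hn : ((centralizer (Y : Set G)).subgroupOf Md).Normal] {F X : Subgroup G}
    (hF : F = ((Cfsg.generalizedFittingSubgroup (↥Md ⧸ (centralizer (Y : Set G)).subgroupOf Md)).comap
      (QuotientGroup.mk' _)).map Md.subtype)
    (hXM : X ≤ Md) (hXn : F ≤ normalizer (X : Set G)) (hpow : PowMod p X Y) :
    X ≤ centralizer (Y : Set G) := by
  set C := (centralizer (Y : Set G)).subgroupOf Md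
  set q := QuotientGroup.mk' C with hq
  have hcore : Cfsg.pCore p (↥Md ⧸ C) = ⊥ := by
    rw [eq_bot_iff]
    have hs : Function.Surjective q := QuotientGroup.mk'_surjective C
    set D := (Cfsg.pCore p (↥Md ⧸ C)).comap q with hD
    have h1 : D.map Md.subtype ≤ centralizer (Y : Set G) := by
      refine hY.2.2.2 _ (map_subtype_le D) (le_normalizer_map_normal Md D) ?_
      rintro _ ⟨d, hd, rfl⟩
      obtain ⟨k, hk⟩ := HallCore.isPGroup_pCore p (↥Md ⧸ C) ⟨q d, hd⟩
      refine ⟨k, ?_⟩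
      have h2 : d ^ p ^ k ∈ C := by
        rw [← QuotientGroup.eq_one_iff]
        exact congrArg Subtype.val hk
      exact h2
    intro z hz
    obtain ⟨d, rfl⟩ := hs z
    exact (QuotientGroup.eq_one_iff d).mpr (h1 ⟨d, hz, rfl⟩)
  have hXp : IsPGroup p ↥((X.subgroupOf Md).map q) := by
    rintro ⟨_, x, hx, rfl⟩
    obtain ⟨k, hk⟩ := hpow (x : G) hx
    exact ⟨k, Subtype.ext ((QuotientGroup.eq_one_iff (x ^ p ^ k)).mpr hk)⟩
  have hnorm : Cfsg.generalizedFittingSubgroup (↥Md ⧸ C) ≤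
      normalizer ((X.subgroupOf Md).map q : Set (↥Md ⧸ C)) := by
    intro z hz
    obtain ⟨f, rfl⟩ := QuotientGroup.mk'_surjective C z
    refine Subgroup.le_normalizer_map q ⟨f, ?_, rfl⟩
    rw [SetLike.mem_coe, Subgroup.mem_normalizer_iff]
    intro g
    exact Subgroup.mem_normalizer_iff.mp (hXn (hF.ge ⟨f, hz, rfl⟩)) g
  have h := eq_bot_of_normalized hcore hXp hnorm
  intro x hx
  exact (QuotientGroup.eq_one_iff (⟨x, hXM hx⟩ : ↥Md)).mp
    (Subgroup.mem_bot.mp (h.le (Subgroup.mem_map_of_mem q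
      (show (⟨x, hXM hx⟩ : ↥Md) ∈ X.subgroupOf Md from hx))))

/-- `Y_M ≤ Y_H`. -/
theorem largest_le {M H : Subgroup G} {S : Sylow p G} (h : Ctx p M S)
    (hasym : ¬ Cfsg.IsSymmetricIn (Cfsg.largestPReducedOf p M))
    [hn : ((centralizer ((Cfsg.largestPReducedOf p M : Subgroup G) : Set G)).subgroupOf
      (dagger p M)).Normal] {F : Subgroup G}
    (hF : F = ((Cfsg.generalizedFittingSubgroup (↥(dagger p M) ⧸
      (centralizer ((Cfsg.largestPReducedOf p M : Subgroup G) : Set G)).subgroupOf (dagger p M))).comap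
        (QuotientGroup.mk' _)).map (dagger p M).subtype)
    (hFH : F ≤ H) (hH : centralizer (Cfsg.pCore p ↥H : Set ↥H) ≤ Cfsg.pCore p ↥H) :
    Cfsg.largestPReducedOf p M ≤ Cfsg.largestPReducedOf p H := by
  set Y := Cfsg.largestPReducedOf p M with hYdef
  set C := centralizer (Y : Set G)
  set Md := dagger p M
  have hYd : IsRed p Y Md := by
    have := red_largest p Md
    rwa [← h.frakM.2.2.2.1] at this
  have hCF : C ≤ F := fun c hc => by
    have hcM : c ∈ Md := (le_sup_right : C ≤ Md) hc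
    rw [hF]
    refine ⟨⟨c, hcM⟩, ?_, rfl⟩
    show QuotientGroup.mk' _ (⟨c, hcM⟩ : ↥Md) ∈ Cfsg.generalizedFittingSubgroup _
    rw [QuotientGroup.mk'_apply, (QuotientGroup.eq_one_iff (⟨c, hcM⟩ : ↥Md)).mpr hc]
    exact one_mem _
  have hFM : F ≤ Md := by rw [hF]; exact map_subtype_le _
  have hOH : Cfsg.pCoreOf p M ≤ H := (h.pCoreOf_le_centralizer.trans hCF).trans hFH
  have hYH : Y ≤ H := h.largest_le_pCoreOf.trans hOH
  obtain ⟨T, -, hTN⟩ := h.exists_sylow_le hasym hOH
  have hTM : (T : Subgroup ↥H).map H.subtype ≤ Md := hTN.trans h.normalizer_pCoreOf_le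
  have hCO : Y ≤ centralizer ((Cfsg.pCoreOf p H : Subgroup G) : Set G) := by
    refine le_centralizer_symm (le_centralizer_of_powMod hYd hF ?_
      (hFH.trans (le_normalizer_pCoreOf p H)) (powMod_of_isPGroup Y (isPGroup_pCoreOf p H)))
    exact (Subgroup.map_mono (HallCore.pCore_le_sylow T)).trans hTM
  set W := conjClosure Y H with hW
  have hVW : W ≤ omegaCore p H :=
    conjClosure_le (le_omegaCore hH hYH hYd.2.2.1.2 hCO) (le_normalizer_omegaCore p H)
  refine (le_conjClosure Y H).trans (le_largest ⟨conjClosure_le hYH le_normalizer,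
    le_normalizer_conjClosure Y H, PGroupsBasic.isElementaryAbelian_mono (omegaCore_el p H) hVW,
    fun D hDH hDn hpow => ?_⟩)
  have hDY : D ≤ C := by
    have : (D.subgroupOf H).Normal := normal_subgroupOf_of_le hDn
    obtain ⟨P, hP⟩ := exists_sylow_inf T (D.subgroupOf H)
    intro d hd
    have hd' : (⟨⟨d, hDH hd⟩, hd⟩ : ↥(D.subgroupOf H)) ∈
        (P : Subgroup ↥(D.subgroupOf H)) ⊔ Cfsg.pResidual p ↥(D.subgroupOf H) := by
      rw [TransferPResidual.sylow_sup_pResidual]; trivial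
    refine (sup_le ?_ ?_ : (P : Subgroup ↥(D.subgroupOf H)) ⊔ Cfsg.pResidual p ↥(D.subgroupOf H) ≤
      (C.subgroupOf H).subgroupOf (D.subgroupOf H)) hd'
    · rw [hP]
      intro y hy
      exact le_centralizer_of_powMod hYd hF (X := D ⊓ Md) inf_le_right
        (le_normalizer_inf (hFH.trans hDn) (hFM.trans le_normalizer))
        (fun g hg => (hpow.mono (le_conjClosure Y H)) g hg.1)
        (show ((y : ↥H) : G) ∈ D ⊓ Md from ⟨y.2, hTM ⟨y, hy, rfl⟩⟩)
    · rw [TransferPResidual.pResidual_le_iff_coprime]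
      intro g hg
      obtain ⟨k, hk⟩ := hpow ((g : ↥H) : G) g.2
      exact LocCoprime56.mem_of_pow_mem (g := ((g : ↥H) : G))
        (by rwa [Subgroup.orderOf_coe, Subgroup.orderOf_coe])
        (centralizer_le (SetLike.coe_subset_coe.mpr (le_conjClosure Y H)) hk)
  refine le_centralizer_symm (iSup_le fun x => ?_)
  rintro _ ⟨u, hu, rfl⟩ d hd
  have h1 : (x : G)⁻¹ * d * (x : G) ∈ D := by
    simpa using conj_mem_of_le_normalizer hDn (inv_mem x.2) hd
  have h2 : u * ((x : G)⁻¹ * d * (x : G)) = (x : G)⁻¹ * d * (x : G) * u := hDY h1 u hu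
  show d * ((x : G) * u * (x : G)⁻¹) = (x : G) * u * (x : G)⁻¹ * d
  calc d * ((x : G) * u * (x : G)⁻¹)
      = (x : G) * ((x : G)⁻¹ * d * (x : G) * u) * (x : G)⁻¹ := by group
    _ = (x : G) * (u * ((x : G)⁻¹ * d * (x : G))) * (x : G)⁻¹ := by rw [h2]
    _ = _ := by group

end Cfsg.Agent.LocalAsymCore43
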