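import Mathlib
import Cfsg.Agent.Lib.LocalAsym43
import Cfsg.Agent.Lib.LocKieler56

/-! Existence of members of `ℌ_G(O_p(M))`. -/

set_option autoImplicit false

namespace Cfsg.Agent.LocalFrakH43

open Subgroup
open Cfsg.Agent.LocalBasics Cfsg.Agent.LocalPReduced57 Cfsg.Agent.LocalLarge57
open Cfsg.Agent.LocalAsym43

variable {G : Type*} [Group G] {p : ℕ}

/-- Overgroups of `O_p(H)` inside a group of characteristic `p` have characteristic `p`. -/
theorem charP_of_core_le [Finite G] {H X : Subgroup G}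
    (hH : centralizer (Cfsg.pCore p ↥H : Set ↥H) ≤ Cfsg.pCore p ↥H) (hRX : Cfsg.pCoreOf p H ≤ X)
    (hXH : X ≤ H) : centralizer (Cfsg.pCore p ↥X : Set ↥X) ≤ Cfsg.pCore p ↥X := by
  intro x hx
  have hR : Cfsg.pCoreOf p H ≤ Cfsg.pCoreOf p X :=
    le_pCoreOf hRX (hXH.trans (le_normalizer_pCoreOf p H)) (isPGroup_pCoreOf p H)
  have h1 : (x : G) ∈ Cfsg.pCoreOf p H := by
    refine charp_inf hH ⟨hXH x.2, fun r hr => ?_⟩
    obtain ⟨o, ho, rfl⟩ := hR hr
    exact congrArg Subtype.val (hx o ho)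
  obtain ⟨o, ho, he⟩ := hR h1
  rwa [Subtype.ext he] at ho

/-- A normal subgroup, in ambient terms, inherits characteristic `p`. -/
theorem charP_of_normalized [Finite G] [Fact p.Prime] {H N : Subgroup G}
    (hH : centralizer (Cfsg.pCore p ↥H : Set ↥H) ≤ Cfsg.pCore p ↥H) (hNH : N ≤ H)
    (hn : H ≤ normalizer (N : Set G)) : centralizer (Cfsg.pCore p ↥N : Set ↥N) ≤ Cfsg.pCore p ↥N := by
  have := normal_subgroupOf_of_le hn
  exact LocGroup56.charP_equiv (Subgroup.subgroupOfEquivOfLe hNH)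
    (LocKieler56.charP_of_normal hH (N.subgroupOf H))

theorem pCoreOf_conjBy [Finite G] (g : G) (X : Subgroup G) :
    conjBy g (Cfsg.pCoreOf p X) = Cfsg.pCoreOf p (conjBy g X) := by
  have h : ∀ (a : G) (Z : Subgroup G), conjBy a (Cfsg.pCoreOf p Z) ≤ Cfsg.pCoreOf p (conjBy a Z) :=
    fun a Z => le_pCoreOf (conjBy_mono a (pCoreOf_le p Z))
      (by rw [normalizer_conjBy]; exact conjBy_mono a (le_normalizer_pCoreOf p Z))
      ((isPGroup_pCoreOf p Z).map _)
  refine le_antisymm (h g X) ?_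
  have h2 := conjBy_mono g (h g⁻¹ (conjBy g X))
  rwa [conjBy_self_inv, conjBy_inv_self] at h2

variable [Finite G] [Fact p.Prime] {M : Subgroup G} {S : Sylow p G}

/-- The candidates: subgroups of characteristic `p` above `O_p(M)` not having `Y_M` in their
`O_p`. -/
def Cand (p : ℕ) (M H : Subgroup G) : Prop :=
  Cfsg.pCoreOf p M ≤ H ∧ centralizer (Cfsg.pCore p ↥H : Set ↥H) ≤ Cfsg.pCore p ↥H ∧
    ¬ Cfsg.largestPReducedOf p M ≤ Cfsg.pCoreOf p H

/-- `O_p(H)` normalizes `O_p(M)` and `Y_M` for `H ≥ O_p(M)`. -/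
theorem core_le_normalizer (h : Ctx p M S)
    (hasym : ¬ Cfsg.IsSymmetricIn (Cfsg.largestPReducedOf p M)) {H : Subgroup G}
    (hOH : Cfsg.pCoreOf p M ≤ H) :
    Cfsg.pCoreOf p H ≤ normalizer ((Cfsg.pCoreOf p M : Subgroup G) : Set G) ∧
      Cfsg.pCoreOf p H ≤ normalizer ((Cfsg.largestPReducedOf p M : Subgroup G) : Set G) := by
  obtain ⟨T, -, hT⟩ := h.exists_sylow_le hasym hOH
  have h1 := (Subgroup.map_mono (HallCore.pCore_le_sylow T)).trans hT
  exact ⟨h1, h1.trans (h.normalizer_pCoreOf_le.trans h.dagger_le_normalizer)⟩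

/-- A minimal candidate lies in `ℌ_G(O_p(M))`. -/
theorem isInFrakH_of_minimal (h : Ctx p M S)
    (hasym : ¬ Cfsg.IsSymmetricIn (Cfsg.largestPReducedOf p M)) {H : Subgroup G}
    (hH : Cand p M H) (hmin : ∀ P : Subgroup G, Cand p M P → P ≤ H → P = H) :
    Cfsg.IsInFrakH p M H := by
  obtain ⟨hOH, hchar, hY⟩ := hH
  refine ⟨hchar, hOH, hY, fun P hOP hPH => ?_⟩
  by_contra hYP
  set Y := Cfsg.largestPReducedOf p M
  set O := Cfsg.pCoreOf p M
  set R := Cfsg.pCoreOf p H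
  obtain ⟨hRO, hRY⟩ := core_le_normalizer h hasym hOH
  have hHR : H ≤ normalizer (R : Set G) := le_normalizer_pCoreOf p H
  have hRH : R ≤ H := pCoreOf_le p H
  have hYP' : Y ≤ P := h.largest_le_pCoreOf.trans hOP
  -- a proper `P₁ ⊇ R` has `Y` in its `O_p`
  have small : ∀ P₁ : Subgroup G, O ≤ P₁ → R ≤ P₁ → P₁ ≤ H → P₁ ≠ H → Y ≤ Cfsg.pCoreOf p P₁ := by
    intro P₁ h1 h2 h3 h4
    by_contra h5
    exact h4 (hmin P₁ ⟨h1, charP_of_core_le hchar h2 h3, h5⟩ h3)
  have hPR : P ⊔ R = H := by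
    by_contra hne
    refine hYP ((le_inf (small (P ⊔ R) (hOP.trans le_sup_left) le_sup_right (sup_le hPH.le hRH) hne)
      hYP').trans (pCoreOf_inf_le p le_sup_left))
  set W := conjClosure Y P
  have hWP : W ≤ P := conjClosure_le hYP' le_normalizer
  have hWn : H ≤ normalizer (W : Set G) := by
    rw [← hPR]
    refine sup_le (le_normalizer_conjClosure Y P) (le_normalizer_of_conj fun r hr w hw => ?_)
    have h1 : W ≤ W.comap (MulAut.conj r).toMonoidHom := by
      refine iSup_le fun x => ?_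
      rintro _ ⟨y, hy, rfl⟩
      have hr' : (x : G)⁻¹ * r * (x : G) ∈ R := by
        simpa using conj_mem_of_le_normalizer hHR (inv_mem (hPH.le x.2)) hr
      refine (le_iSup (fun z : ↥P => Y.map (MulAut.conj (z : G)).toMonoidHom) x)
        ⟨_, conj_mem_of_le_normalizer hRY hr' hy, ?_⟩
      simp [mul_assoc]
    exact h1 hw
  set P₀ := W ⊔ O
  have hP₀P : P₀ ≤ P := sup_le hWP hOP
  have hRP₀ : R ≤ normalizer (P₀ : Set G) :=
    le_normalizer_sup ((le_sup_right.trans hPR.le).trans hWn) hRO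
  have hP₀R : P₀ ⊔ R = H := by
    by_contra hne
    have h1 := small (P₀ ⊔ R) (le_sup_right.trans le_sup_left) le_sup_right
      (sup_le (hP₀P.trans hPH.le) hRH) hne
    refine hY ((le_inf h1 (le_conjClosure Y P)).trans ((pCoreOf_inf_le p
      (le_sup_left.trans le_sup_left)).trans (pCoreOf_le_pCoreOf (hWP.trans hPH.le) hWn)))
  have hP₀n : H ≤ normalizer (P₀ : Set G) := by
    rw [← hP₀R]; exact sup_le Subgroup.le_normalizer hRP₀
  have hlt : P₀ ≠ H := fun e => hPH.ne (le_antisymm hPH.le (e ▸ hP₀P))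
  refine hlt (hmin P₀ ⟨le_sup_right, charP_of_normalized hchar (hP₀P.trans hPH.le) hP₀n, fun h5 => ?_⟩
    (hP₀P.trans hPH.le))
  exact hY (h5.trans (pCoreOf_le_pCoreOf (hP₀P.trans hPH.le) hP₀n))

/-- If `Y_M` is char-`p`-tall and asymmetric then `ℌ_G(O_p(M))` is nonempty. -/
theorem exists_frakH (h : Ctx p M S)
    (htall : Cfsg.IsCharPTall p (Cfsg.largestPReducedOf p M))
    (hasym : ¬ Cfsg.IsSymmetricIn (Cfsg.largestPReducedOf p M)) :
    ∃ H : Subgroup G, Cfsg.IsInFrakH p M H := by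
  set Y := Cfsg.largestPReducedOf p M
  set C := centralizer (Y : Set G)
  obtain ⟨T, L, hTL, hL, hYL⟩ := htall
  obtain ⟨T₁, hT₁⟩ :=
    ((isPGroup_pCoreOf p M).comap_subtype (K := C)).exists_le_sylow
  obtain ⟨c, hc⟩ := MulAction.exists_smul_eq ↥C T T₁
  have hcand : Cand p M (conjBy (c : G) L) := by
    refine ⟨fun o ho => ?_, ?_, fun hYc => hYL ?_⟩
    · have h1 : (⟨o, h.pCoreOf_le_centralizer ho⟩ : ↥C) ∈ (T₁ : Subgroup ↥C) := hT₁ ho
      rw [← hc] at h1
      obtain ⟨t, ht, hte⟩ := h1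
      exact ⟨t, hTL ⟨t, ht, rfl⟩, congrArg Subtype.val hte⟩
    · exact LocGroup56.charP_equiv
        (Subgroup.equivMapOfInjective L (MulAut.conj (c : G)).toMonoidHom
          (MulAut.conj (c : G)).injective) hL
    · have hcY : conjBy (c : G)⁻¹ Y = Y := mem_normalizer_iff_conjBy.mp
        (LocalBasics.centralizer_le_normalizer Y (inv_mem c.2))
      have h1 := conjBy_mono (c : G)⁻¹ hYc
      rw [hcY, pCoreOf_conjBy, conjBy_inv_self] at h1
      exact h1
  obtain ⟨H, hH, hmin⟩ := (Set.toFinite {H : Subgroup G | Cand p M H}).exists_minimal ⟨_, hcand⟩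
  exact ⟨H, isInFrakH_of_minimal h hasym hH fun P hP hle => le_antisymm hle (hmin hP hle)⟩

end Cfsg.Agent.LocalFrakH43
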