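import Mathlib
import Cfsg.Agent.Lib.LocalFrakH43
import Cfsg.Agent.Lib.TransferPResidual

/-! Properties of members of `ℌ_G(O_p(M))`. -/

set_option autoImplicit false

namespace Cfsg.Agent.LocalFrakHProps43

open Subgroup
open Cfsg.Agent.LocalBasics Cfsg.Agent.LocalPReduced57 Cfsg.Agent.LocalLarge57
open Cfsg.Agent.LocalAsym43 Cfsg.Agent.LocalFrakH43

variable {G : Type*} [Group G] {p : ℕ}

/-- `O^p(X)` in ambient terms. -/
abbrev residOf (p : ℕ) (X : Subgroup G) : Subgroup G := (Cfsg.pResidual p ↥X).map X.subtype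

theorem le_normalizer_residOf (p : ℕ) (X : Subgroup G) :
    X ≤ normalizer ((residOf p X : Subgroup G) : Set G) :=
  le_normalizer_map_normal X (Cfsg.pResidual p ↥X)

theorem normalClosure_map_eq {Y H : Subgroup G} (hYH : Y ≤ H) :
    (normalClosure ((Y.subgroupOf H : Subgroup ↥H) : Set ↥H)).map H.subtype = conjClosure Y H := by
  refine le_antisymm ?_ (conjClosure_le (fun y hy => ⟨⟨y, hYH hy⟩, subset_normalClosure hy, rfl⟩)
    (le_normalizer_map_normal H _))
  rw [map_le_iff_le_comap]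
  exact @normalClosure_le_normal _ _ _ ((conjClosure Y H).subgroupOf H)
    (normal_subgroupOf_of_le (le_normalizer_conjClosure Y H)) fun y hy => le_conjClosure Y H hy

/-- A normal subgroup of `H` whose product with `Y` and a further group... : `O^p(H)` lies in every
normalized subgroup with `p`-power quotient. -/
theorem residOf_le {X N : Subgroup G} (hNX : N ≤ X) (hn : X ≤ normalizer (N : Set G))
    (hpow : ∀ x ∈ X, ∃ k : ℕ, x ^ p ^ k ∈ N) [Fact p.Prime] : residOf p X ≤ N := by
  have := normal_subgroupOf_of_le hn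
  rw [map_le_iff_le_comap]
  refine TransferPResidual.pResidual_le_of_isPGroup_quotient (N := N.subgroupOf X) fun z => ?_
  induction z using QuotientGroup.induction_on with
  | _ x =>
    obtain ⟨k, hk⟩ := hpow x x.2
    exact ⟨k, by rw [← QuotientGroup.mk_pow]; exact (QuotientGroup.eq_one_iff _).mpr hk⟩

variable [Finite G] [Fact p.Prime] {M : Subgroup G} {S : Sylow p G} {H : Subgroup G}

theorem conjClosure_eq (hH : Cfsg.IsInFrakH p M H) (hYO : Cfsg.largestPReducedOf p M ≤ Cfsg.pCoreOf p M) :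
    conjClosure (Cfsg.pCoreOf p M) H = H := by
  by_contra hne
  obtain ⟨-, hOH, hY, hP⟩ := hH
  have hle : conjClosure (Cfsg.pCoreOf p M) H ≤ H := conjClosure_le hOH le_normalizer
  exact hY ((hP _ (le_conjClosure _ _) (lt_of_le_of_ne hle hne)).trans
    (pCoreOf_le_pCoreOf hle (le_normalizer_conjClosure _ _)))

/-- Every Sylow subgroup of `H ∩ M†` is one of `H`. -/
theorem sylow_of_inf (h : Ctx p M S)
    (hasym : ¬ Cfsg.IsSymmetricIn (Cfsg.largestPReducedOf p M)) (hH : Cfsg.IsInFrakH p M H)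
    (T : Sylow p ↥(H ⊓ dagger p M)) :
    ∃ P : Sylow p ↥H, (P : Subgroup ↥H).map H.subtype =
      (T : Subgroup ↥(H ⊓ dagger p M)).map (H ⊓ dagger p M).subtype := by
  obtain ⟨T₀, -, hT₀⟩ := h.exists_sylow_le hasym hH.2.1
  have hle : (T₀ : Subgroup ↥H).map H.subtype ≤ H ⊓ dagger p M :=
    le_inf (map_subtype_le _) (hT₀.trans h.normalizer_pCoreOf_le)
  set TG := (T : Subgroup ↥(H ⊓ dagger p M)).map (H ⊓ dagger p M).subtype
  have hTH : TG ≤ H := (map_subtype_le _).trans inf_le_left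
  obtain ⟨P, hP⟩ := ((T.isPGroup'.map (H ⊓ dagger p M).subtype).comap_subtype (K := H)).exists_le_sylow
  refine ⟨P, ?_⟩
  symm
  refine eq_of_le_of_card_ge (fun x hx => ⟨⟨x, hTH hx⟩, hP hx, rfl⟩) ?_
  obtain ⟨T', hT'⟩ := ((T₀.isPGroup'.map H.subtype).comap_subtype (K := (H ⊓ dagger p M))).exists_le_sylow
  rw [card_map_of_injective H.subtype_injective, card_map_of_injective (H ⊓ dagger p M).subtype_injective,
    T.card_eq_multiplicity, ← T'.card_eq_multiplicity, P.card_eq_multiplicity,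
    ← T₀.card_eq_multiplicity, ← card_map_of_injective H.subtype_injective (K := (T₀ : Subgroup ↥H)),
    ← card_map_of_injective (H ⊓ dagger p M).subtype_injective (K := (T' : Subgroup ↥(H ⊓ dagger p M)))]
  exact card_le_of_le fun x hx => ⟨⟨x, hle hx⟩, hT' hx, rfl⟩

/-- `H = O^p(H) O_p(M)`. -/
theorem residOf_sup_eq (h : Ctx p M S) (hH : Cfsg.IsInFrakH p M H) :
    residOf p H ⊔ Cfsg.pCoreOf p M = H := by
  set R := residOf p H
  set O := Cfsg.pCoreOf p M
  have hRH : R ≤ H := map_subtype_le _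
  have hOH : O ≤ H := hH.2.1
  by_contra hne
  set N : Subgroup ↥H := (R ⊔ O).subgroupOf H
  have hRN : Cfsg.pResidual p ↥H ≤ N := fun x hx => mem_sup_left (show (x : G) ∈ R from ⟨x, hx, rfl⟩)
  have hNt : N.map (QuotientGroup.mk' (Cfsg.pResidual p ↥H)) ≠ ⊤ := by
    intro e
    have e' := congrArg (comap (QuotientGroup.mk' (Cfsg.pResidual p ↥H))) e
    rw [comap_map_eq, QuotientGroup.ker_mk', sup_eq_left.mpr hRN, comap_top] at e'
    exact hne (le_antisymm (sup_le hRH hOH) (subgroupOf_eq_top.mp e'))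
  obtain ⟨K, hKc, hNK⟩ := PGroupsBasic.exists_isCoatom_ge hNt
  have hKn := PGroupsBasic.normal_of_isCoatom
    (TransferPResidual.isPGroup_quotient_pResidual (G := ↥H) (p := p)) hKc
  set P := (K.comap (QuotientGroup.mk' (Cfsg.pResidual p ↥H))).map H.subtype
  have hOP : O ≤ P := fun o ho => ⟨⟨o, hOH ho⟩, hNK ⟨⟨o, hOH ho⟩, mem_sup_right ho, rfl⟩, rfl⟩
  have hPn : H ≤ normalizer (P : Set G) := by
    have := hKn.comap (QuotientGroup.mk' (Cfsg.pResidual p ↥H))
    exact le_normalizer_map_normal H _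
  have hPH : P = H := le_antisymm (map_subtype_le _)
    ((conjClosure_eq hH h.largest_le_pCoreOf).ge.trans (conjClosure_le hOP hPn))
  have e : K.comap (QuotientGroup.mk' (Cfsg.pResidual p ↥H)) = ⊤ :=
    map_injective H.subtype_injective (by
      rw [← MonoidHom.range_eq_map, H.range_subtype]; exact hPH)
  refine hKc.1 ?_
  rw [← map_comap_eq_self_of_surjective (QuotientGroup.mk'_surjective _) K, e,
    map_top_of_surjective _ (QuotientGroup.mk'_surjective _)]

theorem largest_le_frakH (h : Ctx p M S) (hH : Cfsg.IsInFrakH p M H) :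
    Cfsg.largestPReducedOf p M ≤ H :=
  h.largest_le_pCoreOf.trans hH.2.1

/-- `O^p(H) Y` is the normal closure of `Y` in `H`. -/
theorem residOf_sup_largest (h : Ctx p M S) (hH : Cfsg.IsInFrakH p M H) :
    residOf p H ⊔ Cfsg.largestPReducedOf p M =
      conjClosure (Cfsg.largestPReducedOf p M) H := by
  set R := residOf p H
  set Y := Cfsg.largestPReducedOf p M
  set O := Cfsg.pCoreOf p M
  set W := conjClosure Y H
  have hYH := largest_le_frakH h hH
  have hWH : W ≤ H := conjClosure_le hYH le_normalizer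
  have hWn := le_normalizer_conjClosure Y H
  have hWO : W ⊔ O = H := by
    by_contra hne
    have h1 := hH.2.2.2 (W ⊔ O) le_sup_right (lt_of_le_of_ne (sup_le hWH hH.2.1) hne)
    exact hH.2.2.1 ((le_inf h1 (le_conjClosure Y H)).trans
      ((pCoreOf_inf_le p le_sup_left).trans (pCoreOf_le_pCoreOf hWH hWn)))
  have hRW : R ≤ W := by
    refine residOf_le hWH hWn fun x hx => ?_
    have hx' : x ∈ O ⊔ W := by rw [sup_comm, hWO]; exact hx
    obtain ⟨o, ho, w, hw, rfl⟩ :=
      exists_mul_of_mem_sup (hH.2.1.trans hWn) hx'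
    obtain ⟨k, hk⟩ := isPGroup_pCoreOf p M ⟨o, ho⟩
    refine ⟨k, ?_⟩
    have hn := normal_subgroupOf_of_le hWn
    have e1 : ((⟨o * w, hx⟩ : ↥H) ^ p ^ k) ∈ W.subgroupOf H := by
      rw [← QuotientGroup.eq_one_iff, QuotientGroup.mk_pow,
        show ((⟨o * w, hx⟩ : ↥H) : ↥H ⧸ W.subgroupOf H) = ((⟨o, hH.2.1 ho⟩ : ↥H) : ↥H ⧸ W.subgroupOf H) from
          QuotientGroup.eq.mpr (by
            show (o * w)⁻¹ * o ∈ W
            rw [show (o * w)⁻¹ * o = w⁻¹ by group]
            exact inv_mem hw),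
        ← QuotientGroup.mk_pow, show (⟨o, hH.2.1 ho⟩ : ↥H) ^ p ^ k = 1 from
          Subtype.ext (congrArg Subtype.val hk :)]
      rfl
    exact e1
  refine le_antisymm (sup_le hRW (le_conjClosure Y H)) (conjClosure_le le_sup_right ?_)
  conv_lhs => rw [← residOf_sup_eq h hH]
  exact sup_le (le_sup_left.trans le_normalizer)
    (le_normalizer_sup (hH.2.1.trans (le_normalizer_residOf p H))
      (h.pCoreOf_le_centralizer.trans (LocalBasics.centralizer_le_normalizer Y)))

/-- `O^p(H) = [O^p(H), Y]`. -/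
theorem commutator_residOf (h : Ctx p M S) (hH : Cfsg.IsInFrakH p M H) :
    ⁅residOf p H, Cfsg.largestPReducedOf p M⁆ = residOf p H := by
  set R := residOf p H
  set Y := Cfsg.largestPReducedOf p M
  set O := Cfsg.pCoreOf p M
  have hYH := largest_le_frakH h hH
  have hRH : R ≤ H := map_subtype_le _
  set R₁ := ⁅R, Y⁆
  have hR₁R : R₁ ≤ R :=
    le_normalizer_iff_commutator_le_left.mp (hYH.trans (le_normalizer_residOf p H))
  have hOY : O ≤ normalizer (Y : Set G) :=
    h.pCoreOf_le_centralizer.trans (LocalBasics.centralizer_le_normalizer Y)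
  have hOR : O ≤ normalizer (R : Set G) := hH.2.1.trans (le_normalizer_residOf p H)
  have hR₁n : H ≤ normalizer (R₁ : Set G) := by
    rw [← residOf_sup_eq h hH]
    refine sup_le (normalizer_commutator_ge_left R Y) (le_normalizer_of_conj fun o ho z hz => ?_)
    have e : R₁.map (MulAut.conj o).toMonoidHom = R₁ := by
      rw [map_commutator]
      exact congrArg₂ (fun a b : Subgroup G => ⁅a, b⁆) (mem_normalizer_iff_map_conj_eq.mp (hOR ho))
        (mem_normalizer_iff_map_conj_eq.mp (hOY ho))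
    exact e.le ⟨z, hz, rfl⟩
  have hYR₁ : Y ≤ normalizer (R₁ : Set G) := hYH.trans hR₁n
  -- `W = R₁ Y` is normal in `H`, hence contains `O^p(H)`
  have hW : conjClosure Y H ≤ R₁ ⊔ Y := by
    refine conjClosure_le le_sup_right ?_
    conv_lhs => rw [← residOf_sup_eq h hH]
    refine sup_le (le_normalizer_of_conj fun r hr z hz => ?_)
      (le_normalizer_sup (hH.2.1.trans hR₁n) hOY)
    have h1 : R₁ ⊔ Y ≤ (R₁ ⊔ Y).comap (MulAut.conj r).toMonoidHom := by
      refine sup_le (fun a ha => mem_sup_left (conj_mem_of_le_normalizer hR₁n (hRH hr) ha)) ?_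
      intro y hy
      show r * y * r⁻¹ ∈ R₁ ⊔ Y
      rw [show r * y * r⁻¹ = (r * y * r⁻¹ * y⁻¹) * y by group]
      exact mul_mem (mem_sup_left (commutator_mem_commutator hr hy)) (mem_sup_right hy)
    exact h1 hz
  refine le_antisymm hR₁R ?_
  rw [map_le_iff_le_comap, TransferPResidual.pResidual_le_iff_coprime]
  intro g hg
  have hgR : (g : G) ∈ R := ⟨g, TransferPResidual.mem_pResidual_of_coprime hg, rfl⟩
  have hgW : (g : G) ∈ Y ⊔ R₁ := by
    rw [sup_comm]
    exact hW ((residOf_sup_largest h hH).le (mem_sup_left hgR))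
  obtain ⟨y, hy, z, hz, e⟩ := exists_mul_of_mem_sup hYR₁ hgW
  have hn := normal_subgroupOf_of_le hR₁n
  have e1 : (g ^ p ^ 1) ∈ R₁.subgroupOf H := by
    rw [← QuotientGroup.eq_one_iff, QuotientGroup.mk_pow,
      show (g : ↥H ⧸ R₁.subgroupOf H) = ((⟨y, hYH hy⟩ : ↥H) : ↥H ⧸ R₁.subgroupOf H) from
        QuotientGroup.eq.mpr (by
          show (g : G)⁻¹ * y ∈ R₁
          rw [e, show (y * z)⁻¹ * y = z⁻¹ by group]
          exact inv_mem hz),
      ← QuotientGroup.mk_pow, show (⟨y, hYH hy⟩ : ↥H) ^ p ^ 1 = 1 from Subtype.ext (by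
        simpa using (red_largest p M).2.2.1.2 y hy)]
    rfl
  exact LocCoprime56.mem_of_pow_mem (H := R₁.subgroupOf H) hg e1

end Cfsg.Agent.LocalFrakHProps43
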