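import Mathlib
import Cfsg.Agent.Lib.LocalFrakHProps43
import Cfsg.Agent.Lib.ComponentsCores

/-! `H ∈ ℌ_G(O_p(M))` times a `p`-group normalizing nothing but itself is `p`-irreducible. -/

set_option autoImplicit false

namespace Cfsg.Agent.LocalFrakHIrr43

open Subgroup
open Cfsg.Agent.LocalBasics Cfsg.Agent.LocalPReduced57 Cfsg.Agent.LocalLarge57
open Cfsg.Agent.LocalAsym43 Cfsg.Agent.LocalFrakH43 Cfsg.Agent.LocalFrakHProps43

variable {G : Type*} [Group G] [Finite G] {p : ℕ} [Fact p.Prime] {M H P : Subgroup G}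
  {S : Sylow p G}

/-- `H` is normal in `H P` when the `p`-group `P` is normalized by `H`. -/
theorem normal_in_sup (h : Ctx p M S)
    (hasym : ¬ Cfsg.IsSymmetricIn (Cfsg.largestPReducedOf p M)) (hH : Cfsg.IsInFrakH p M H)
    (hP : IsPGroup p ↥P) (hn : H ≤ normalizer (P : Set G)) :
    P ≤ Cfsg.pCoreOf p (H ⊔ P) ∧ H ⊔ P ≤ normalizer (H : Set G) := by
  set O := Cfsg.pCoreOf p M
  have hPK : P ≤ Cfsg.pCoreOf p (H ⊔ P) :=
    le_pCoreOf le_sup_right (sup_le hn le_normalizer) hP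
  refine ⟨hPK, sup_le le_normalizer (le_normalizer_of_conj fun u hu z hz => ?_)⟩
  have hPO : P ≤ normalizer (O : Set G) :=
    hPK.trans (core_le_normalizer h hasym (hH.2.1.trans le_sup_left)).1
  have e := conjClosure_eq hH h.largest_le_pCoreOf
  have h1 : conjClosure O H ≤ H.comap (MulAut.conj u).toMonoidHom := by
    refine iSup_le fun x => ?_
    rintro _ ⟨o, ho, rfl⟩
    have hu' : (x : G)⁻¹ * u * (x : G) ∈ P := by
      simpa using conj_mem_of_le_normalizer hn (inv_mem x.2) hu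
    have ho' := hH.2.1 (conj_mem_of_le_normalizer hPO hu' ho)
    show u * ((x : G) * o * (x : G)⁻¹) * u⁻¹ ∈ H
    rw [show u * ((x : G) * o * (x : G)⁻¹) * u⁻¹ =
      (x : G) * ((x : G)⁻¹ * u * (x : G) * o * ((x : G)⁻¹ * u * (x : G))⁻¹) * (x : G)⁻¹ by group]
    exact mul_mem (mul_mem x.2 ho') (inv_mem x.2)
  exact h1 (e.ge hz)

/-- Elements of order prime to `p` in `H P` lie in `H`. -/
theorem mem_of_coprime (hP : IsPGroup p ↥P) (hn : H ⊔ P ≤ normalizer (H : Set G)) {g : G}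
    (hg : g ∈ H ⊔ P) (hc : (orderOf g).Coprime p) : g ∈ H := by
  have hHn := normal_subgroupOf_of_le hn
  obtain ⟨a, ha, b, hb, e⟩ :=
    exists_mul_of_mem_sup ((le_sup_right : P ≤ H ⊔ P).trans hn) (sup_comm H P ▸ hg : g ∈ P ⊔ H)
  obtain ⟨k, hk⟩ := hP ⟨a, ha⟩
  have e1 : ((⟨g, hg⟩ : ↥(H ⊔ P)) ^ p ^ k) ∈ H.subgroupOf (H ⊔ P) := by
    rw [← QuotientGroup.eq_one_iff, QuotientGroup.mk_pow,
      show ((⟨g, hg⟩ : ↥(H ⊔ P)) : ↥(H ⊔ P) ⧸ H.subgroupOf (H ⊔ P)) =
          ((⟨a, mem_sup_right ha⟩ : ↥(H ⊔ P)) : ↥(H ⊔ P) ⧸ H.subgroupOf (H ⊔ P)) from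
        QuotientGroup.eq.mpr (by
          show g⁻¹ * a ∈ H
          rw [e, show (a * b)⁻¹ * a = b⁻¹ by group]
          exact inv_mem hb),
      ← QuotientGroup.mk_pow,
      show (⟨a, mem_sup_right ha⟩ : ↥(H ⊔ P)) ^ p ^ k = 1 from
        Subtype.ext (congrArg Subtype.val hk :)]
    rfl
  exact LocCoprime56.mem_of_pow_mem (g := g) hc e1

theorem residOf_sup (hP : IsPGroup p ↥P) (hn : H ⊔ P ≤ normalizer (H : Set G)) :
    residOf p H = residOf p (H ⊔ P) := by
  refine le_antisymm (TransferPResidual.map_pResidual_mono le_sup_left) ?_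
  rw [map_le_iff_le_comap, TransferPResidual.pResidual_le_iff_coprime]
  intro g hg
  have hgc : (orderOf (g : G)).Coprime p := by rwa [Subgroup.orderOf_coe]
  exact ⟨⟨g, mem_of_coprime hP hn g.2 hgc⟩,
    TransferPResidual.mem_pResidual_of_coprime (by rwa [Subgroup.orderOf_mk]), rfl⟩

/-- The product is `p`-irreducible. -/
theorem isPIrreducible (h : Ctx p M S)
    (hasym : ¬ Cfsg.IsSymmetricIn (Cfsg.largestPReducedOf p M)) (hH : Cfsg.IsInFrakH p M H)
    (hP : IsPGroup p ↥P) (hn : H ≤ normalizer (P : Set G)) :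
    Cfsg.IsPIrreducible p ↥(H ⊔ P) := by
  set Y := Cfsg.largestPReducedOf p M
  set O := Cfsg.pCoreOf p M
  obtain ⟨-, hKH⟩ := normal_in_sup h hasym hH hP hn
  obtain ⟨K, hKdef⟩ : ∃ K : Subgroup G, K = H ⊔ P := ⟨_, rfl⟩
  rw [← hKdef] at hKH ⊢
  have hHK : H ≤ K := hKdef ▸ le_sup_left
  have hOH : O ≤ H := hH.2.1
  have hYH : Y ≤ H := largest_le_frakH h hH
  obtain ⟨T, hOT, hTN⟩ := h.exists_sylow_le hasym (hOH.trans hHK)
  have hcoremap : Cfsg.pCoreOf p K ⊓ H ≤ Cfsg.pCoreOf p H := pCoreOf_inf_le p hHK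
  refine ⟨fun hcl => hH.2.2.1 ?_, fun N hN hNcl => ?_⟩
  · have hT : (T : Subgroup ↥K) ≤ Cfsg.pCore p ↥K := (isPClosed_iff_pCore.mp hcl) T
    exact fun y hy => hcoremap
      ⟨(Subgroup.map_mono hT) (hOT (h.largest_le_pCoreOf hy)), hYH hy⟩
  set NG := N.map K.subtype
  set D := NG ⊓ H
  have hNGn : K ≤ normalizer (NG : Set G) := le_normalizer_map_normal K N
  have hDn : K ≤ normalizer (D : Set G) := le_normalizer_inf hNGn hKH
  rw [TransferPResidual.pResidual_le_iff_coprime]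
  intro g hg
  have hgc : (orderOf (g : G)).Coprime p := by rwa [Subgroup.orderOf_coe]
  have hgH : (g : G) ∈ H := mem_of_coprime hP (hKdef ▸ hKH) (hKdef ▸ g.2) hgc
  by_cases hX : D ⊔ O = H
  · -- `H / D` is a `p`-group
    obtain ⟨a, ha, b, hb, e⟩ := exists_mul_of_mem_sup (hOH.trans (hHK.trans hDn))
      (sup_comm D O ▸ hX.ge hgH : (g : G) ∈ O ⊔ D)
    obtain ⟨k, hk⟩ := isPGroup_pCoreOf p M ⟨a, ha⟩
    have hDn' := normal_subgroupOf_of_le hDn
    have e1 : g ^ p ^ k ∈ D.subgroupOf K := by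
      rw [← QuotientGroup.eq_one_iff, QuotientGroup.mk_pow,
        show (g : ↥K ⧸ D.subgroupOf K) = ((⟨a, hHK (hOH ha)⟩ : ↥K) : ↥K ⧸ D.subgroupOf K) from
          QuotientGroup.eq.mpr (by
            show (g : G)⁻¹ * a ∈ D
            rw [e, show (a * b)⁻¹ * a = b⁻¹ by group]
            exact inv_mem hb),
        ← QuotientGroup.mk_pow,
        show (⟨a, hHK (hOH ha)⟩ : ↥K) ^ p ^ k = 1 from Subtype.ext (congrArg Subtype.val hk :)]
      rfl
    obtain ⟨n, hn', he⟩ := (LocCoprime56.mem_of_pow_mem (H := D.subgroupOf K) hg e1).1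
    rwa [Subtype.ext he] at hn'
  -- otherwise `N` is `p`-closed
  exfalso
  apply hNcl
  set X := D ⊔ O
  have hDH : D ≤ H := inf_le_right
  have hXH : X < H := lt_of_le_of_ne (sup_le hDH hOH) hX
  have hYX : Y ≤ Cfsg.pCoreOf p X := hH.2.2.2 X le_sup_right hXH
  set q := QuotientGroup.mk' (Cfsg.pCore p ↥K) with hq
  have hqs : Function.Surjective q := QuotientGroup.mk'_surjective _
  have hK0 : Cfsg.pCore p (↥K ⧸ Cfsg.pCore p ↥K) = ⊥ := HallCore.pCore_quotient_self p ↥K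
  have hqcore : ∀ x : ↥K, (x : G) ∈ Cfsg.pCoreOf p K → q x = 1 := fun x hx => by
    obtain ⟨o, ho, he⟩ := hx
    rw [Subtype.ext he] at ho
    exact (QuotientGroup.eq_one_iff x).mpr ho
  set Db := (D.subgroupOf K).map q
  set Yb := (Y.subgroupOf K).map q
  set Rb := ((residOf p H).subgroupOf K).map q
  have hDbn : Db.Normal := (normal_subgroupOf_of_le hDn).map q hqs
  have hDY : Yb ≤ centralizer (Db : Set (↥K ⧸ Cfsg.pCore p ↥K)) := by
    rintro _ ⟨y, hy, rfl⟩ _ ⟨d, hd, rfl⟩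
    have h1 : (d : G) * y * (d : G)⁻¹ * (y : G)⁻¹ ∈ Cfsg.pCoreOf p K := by
      refine pCoreOf_le_pCoreOf (inf_le_right.trans hHK : D ≤ K) hDn ?_
      refine pCoreOf_inf_le p (le_sup_left : D ≤ X) (Subgroup.mem_inf.mpr ⟨?_, ?_⟩)
      · exact mul_mem (conj_mem_of_le_normalizer (le_normalizer_pCoreOf p X) (mem_sup_left hd) (hYX hy))
          (inv_mem (hYX hy))
      · rw [show (d : G) * y * (d : G)⁻¹ * (y : G)⁻¹ = d * (y * (d : G)⁻¹ * (y : G)⁻¹) by group]
        exact D.mul_mem hd (conj_mem_of_le_normalizer hDn y.2 (D.inv_mem hd))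
    have h2 := hqcore (d * y * d⁻¹ * y⁻¹) h1
    rw [map_mul, map_mul, map_mul, map_inv, map_inv] at h2
    exact commutatorElement_eq_one_iff_mul_comm.mp h2
  have hRW : residOf p H ≤ conjClosure Y H :=
    le_sup_left.trans (residOf_sup_largest h hH).le
  have hDR : Rb ≤ centralizer (Db : Set (↥K ⧸ Cfsg.pCore p ↥K)) := by
    have hcn : (centralizer (Db : Set (↥K ⧸ Cfsg.pCore p ↥K))).Normal :=
      LocPReduced56.centralizer_normal hDbn
    have h1 : conjClosure Y H ≤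
        ((centralizer (Db : Set (↥K ⧸ Cfsg.pCore p ↥K))).comap q).map K.subtype := by
      refine conjClosure_le (fun y hy => ⟨⟨y, hHK (hYH hy)⟩,
        hDY ⟨⟨y, hHK (hYH hy)⟩, hy, rfl⟩, rfl⟩) ?_
      have := hcn.comap q
      exact hHK.trans (le_normalizer_map_normal K _)
    rintro _ ⟨r, hr, rfl⟩
    obtain ⟨r', hr', he⟩ := h1 (hRW hr)
    rw [Subtype.ext he] at hr'
    exact hr'
  -- `D̄` is a `p'`-group inside `R̄`
  have hres : ∀ z ∈ Db, ∃ k : ℕ, z ^ p ^ k ∈ Rb := by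
    rintro _ ⟨d, hd, rfl⟩
    obtain ⟨k, hk⟩ := LocCoprime56.exists_coprime_pow (p := p) d
    refine ⟨k, d ^ p ^ k, ?_, map_pow q _ _⟩
    show ((d ^ p ^ k : ↥K) : G) ∈ residOf p H
    refine ⟨⟨(d ^ p ^ k : ↥K), ?_⟩, ?_, rfl⟩
    · rw [Subgroup.coe_pow]
      exact pow_mem (Subgroup.mem_inf.mp (show (d : G) ∈ D from hd)).2 _
    · refine TransferPResidual.mem_pResidual_of_coprime ?_
      rwa [Subgroup.orderOf_mk, Subgroup.orderOf_coe]
  have hDp : ∀ z ∈ Db, (∃ k : ℕ, z ^ p ^ k = 1) → z = 1 := by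
    have hnil : Group.IsNilpotent ↥Db := by
      have hcen : IsPGroup p (↥Db ⧸ center ↥Db) := by
        intro x
        induction x using QuotientGroup.induction_on with
        | _ z =>
          obtain ⟨k, hk⟩ := hres z z.2
          refine ⟨k, ?_⟩
          rw [← QuotientGroup.mk_pow, QuotientGroup.eq_one_iff, mem_center_iff]
          intro w
          refine Subtype.ext ?_
          simp only [Subgroup.coe_mul, Subgroup.coe_pow]
          exact hDR hk w w.2
      have := hcen.isNilpotent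
      exact Group.of_quotient_center_nilpotent inferInstance
    intro z hz ⟨k, hk⟩
    obtain ⟨j, -, hj⟩ := (Nat.dvd_prime_pow Fact.out).mp
      (orderOf_dvd_of_pow_eq_one (show (⟨z, hz⟩ : ↥Db) ^ p ^ k = 1 from Subtype.ext hk))
    have hzp : IsPGroup p ↥(zpowers (⟨z, hz⟩ : ↥Db)) :=
      IsPGroup.of_card (n := j) (by rw [Nat.card_zpowers, hj])
    obtain ⟨V, hV⟩ := hzp.exists_le_sylow
    have hVn : (V : Subgroup ↥Db).Normal := Sylow.normal_of_normalizerCondition
      Group.normalizerCondition_of_isNilpotent V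
    have hle : (V : Subgroup ↥Db) ≤ Cfsg.pCore p ↥Db := HallCore.le_pCore (hN := hVn) V.isPGroup'
    have h0 := (ComponentsCores.pCore_map_subtype_le (p := p) (Subgroup.Normal.isSubnormal hDbn))
      (Subgroup.mem_map_of_mem Db.subtype (hle (hV (mem_zpowers _))))
    rw [hK0] at h0
    exact Subgroup.mem_bot.mp h0
  -- a Sylow subgroup of `N`
  set U := (T : Subgroup ↥K) ⊓ N
  have hDleR : ∀ z ∈ Db, z ∈ Rb := by
    intro z hz
    obtain ⟨k, hk⟩ := hres z hz
    refine LocCoprime56.mem_of_pow_mem (p := p) (k := k) ?_ hk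
    by_contra hco
    have hpd : p ∣ orderOf z := by
      by_contra hnd
      exact hco ((Nat.Prime.coprime_iff_not_dvd Fact.out).mpr hnd).symm
    have h2 := hDp (z ^ (orderOf z / p)) (pow_mem hz _) ⟨1, by
      rw [pow_one, ← pow_mul, Nat.div_mul_cancel hpd, pow_orderOf_eq_one]⟩
    have h3 := orderOf_dvd_of_pow_eq_one h2
    have h4 := Nat.le_of_dvd (Nat.div_pos (Nat.le_of_dvd (orderOf_pos z) hpd)
      (Fact.out : p.Prime).pos) h3
    have h5 := Nat.div_lt_self (orderOf_pos z) (Fact.out : p.Prime).one_lt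
    omega
  have hUD : ∀ u ∈ U, ∀ d ∈ Db, q u * d = d * q u := by
    intro u hu d hd
    have hUY : (u : G) ∈ normalizer (Y : Set G) :=
      (h.normalizer_pCoreOf_le.trans h.dagger_le_normalizer) (hTN ⟨u, hu.1, rfl⟩)
    -- `u` commutes with `Ȳ`
    have hcY : ∀ y ∈ Yb, q u * y = y * q u := by
      rintro _ ⟨y, hy, rfl⟩
      have h1 : (u : G) * y * (u : G)⁻¹ * (y : G)⁻¹ ∈ D ⊓ Y := by
        refine ⟨⟨?_, ?_⟩, Y.mul_mem ((Subgroup.mem_normalizer_iff.mp hUY _).mp hy) (Y.inv_mem hy)⟩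
        · refine ⟨u * y * u⁻¹ * y⁻¹, ?_, rfl⟩
          rw [show u * y * u⁻¹ * y⁻¹ = u * (y * u⁻¹ * y⁻¹) by group]
          exact mul_mem hu.2 (hN.conj_mem _ (inv_mem hu.2) y)
        · exact H.mul_mem (conj_mem_of_le_normalizer hKH u.2 (hYH hy)) (H.inv_mem (hYH hy))
      have h2 : q (u * y * u⁻¹ * y⁻¹) = 1 := by
        refine hDp _ ⟨u * y * u⁻¹ * y⁻¹, h1.1, rfl⟩ ⟨1, ?_⟩
        rw [← map_pow, show (u * y * u⁻¹ * y⁻¹) ^ p ^ 1 = 1 from Subtype.ext (by
          simpa using (red_largest p M).2.2.1.2 _ h1.2), map_one]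
      rw [map_mul, map_mul, map_mul, map_inv, map_inv] at h2
      exact commutatorElement_eq_one_iff_mul_comm.mp h2
    -- hence with `R̄ = [R̄, Ȳ]`
    have hcR : Rb ≤ centralizer ({q u} : Set (↥K ⧸ Cfsg.pCore p ↥K)) := by
      have hRK : residOf p H ≤ K := (map_subtype_le _).trans hHK
      have e : Rb = ⁅Rb, Yb⁆ := by
        have e1 : ((residOf p H).subgroupOf K) = ⁅(residOf p H).subgroupOf K, Y.subgroupOf K⁆ := by
          apply map_injective K.subtype_injective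
          rw [map_commutator, map_subgroupOf_eq_of_le hRK,
            map_subgroupOf_eq_of_le (hYH.trans hHK), commutator_residOf h hH]
        show map q _ = _
        rw [e1, map_commutator]
      rw [e, commutator_le]
      intro a ha b hb
      -- `q u a q u⁻¹ = c a` with `c ∈ D̄` centralizing `a` and `b`
      obtain ⟨r, hr, rfl⟩ := ha
      have hcD : q u * q r * (q u)⁻¹ * (q r)⁻¹ ∈ Db := by
        refine ⟨u * r * u⁻¹ * r⁻¹, ⟨⟨u * r * u⁻¹ * r⁻¹, ?_, rfl⟩, ?_⟩, by simp⟩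
        · rw [show u * r * u⁻¹ * r⁻¹ = u * (r * u⁻¹ * r⁻¹) by group]
          exact mul_mem hu.2 (hN.conj_mem _ (inv_mem hu.2) r)
        · have hrH : (r : G) ∈ H := (map_subtype_le _ : residOf p H ≤ H) hr
          exact H.mul_mem (conj_mem_of_le_normalizer hKH u.2 hrH) (H.inv_mem hrH)
      set c := q u * q r * (q u)⁻¹ * (q r)⁻¹ with hc
      have hcr : c * q r = q r * c := hDR ⟨r, hr, rfl⟩ c hcD
      have hcb : c * b = b * c := hDY hb c hcD
      rw [mem_centralizer_singleton_iff, commutatorElement_def]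
      have hub : q u * b * (q u)⁻¹ = b := by rw [hcY b hb, mul_inv_cancel_right]
      have hur : q u * q r * (q u)⁻¹ = c * q r := by rw [hc]; group
      have key : q u * (q r * b * (q r)⁻¹ * b⁻¹) * (q u)⁻¹ = q r * b * (q r)⁻¹ * b⁻¹ := by
        calc q u * (q r * b * (q r)⁻¹ * b⁻¹) * (q u)⁻¹
            = (q u * q r * (q u)⁻¹) * (q u * b * (q u)⁻¹) * (q u * q r * (q u)⁻¹)⁻¹ *
              (q u * b * (q u)⁻¹)⁻¹ := by group
          _ = c * (q r * b * (q r)⁻¹) * c⁻¹ * b⁻¹ := by rw [hur, hub]; group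
          _ = _ := by
            have hcomm : Commute c (q r * b * (q r)⁻¹) :=
              ((Commute.mul_right hcr hcb).mul_right (Commute.inv_right hcr))
            rw [hcomm.eq, mul_inv_cancel_right]
      exact (mul_inv_eq_iff_eq_mul.mp key).symm
    exact (mem_centralizer_singleton_iff.mp (hcR (hDleR d hd))).symm
  -- so the image of `U` is normal in that of `N`
  obtain ⟨W, hW⟩ := exists_sylow_inf T N
  refine isPClosed_iff.mpr ⟨W, ?_⟩
  have hUcore : U ≤ Cfsg.pCore p ↥K := by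
    set Nb := N.map q
    set Ub := U.map q
    have hNbn : Nb.Normal := hN.map q hqs
    have hUN : Ub ≤ Nb := map_mono inf_le_right
    have hdecomp : Nb ≤ Ub ⊔ Db := by
      rintro _ ⟨n, hn', rfl⟩
      have hnK : (⟨n, hn'⟩ : ↥N) ∈ (W : Subgroup ↥N) ⊔ Cfsg.pResidual p ↥N := by
        rw [TransferPResidual.sylow_sup_pResidual]; trivial
      refine (sup_le ?_ ?_ : (W : Subgroup ↥N) ⊔ Cfsg.pResidual p ↥N ≤
        ((Ub ⊔ Db).comap q).comap N.subtype) hnK
      · rw [hW]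
        exact fun w hw => mem_sup_left (mem_map_of_mem q ⟨hw, w.2⟩)
      · rw [TransferPResidual.pResidual_le_iff_coprime]
        intro w hw
        refine mem_sup_right (mem_map_of_mem q ⟨⟨w, w.2, rfl⟩, ?_⟩)
        exact mem_of_coprime hP (hKdef ▸ hKH) (hKdef ▸ (w : ↥K).2)
          (by simpa only [Subgroup.coe_subtype, Subgroup.orderOf_coe] using hw)
    have hUn : Nb ≤ normalizer (Ub : Set (↥K ⧸ Cfsg.pCore p ↥K)) :=
      hdecomp.trans (sup_le le_normalizer (le_normalizer_of_conj fun d hd z hz => by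
        obtain ⟨u, hu, rfl⟩ := hz
        rw [← hUD u hu d hd, mul_inv_cancel_right]
        exact mem_map_of_mem q hu))
    have hUp : IsPGroup p ↥Ub := (T.isPGroup'.to_le inf_le_left).map q
    have h1 := LocalBasics.le_pCoreOf hUN hUn hUp
    intro u hu
    obtain ⟨o, ho, he⟩ := h1 (mem_map_of_mem q hu)
    have h2 := ComponentsCores.pCore_map_subtype_le (p := p) (Subgroup.Normal.isSubnormal hNbn)
      ⟨o, ho, rfl⟩
    rw [hK0, Subgroup.mem_bot] at h2
    exact (QuotientGroup.eq_one_iff u).mp (he.symm.trans h2)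
  have eW : (W : Subgroup ↥N) = (Cfsg.pCore p ↥K).subgroupOf N := by
    refine le_antisymm (fun w hw => ?_) ?_
    · have hwT : (w : ↥K) ∈ (T : Subgroup ↥K) := by
        rw [hW] at hw; exact hw
      exact hUcore ⟨hwT, w.2⟩
    · rw [hW]
      exact fun w hw => HallCore.pCore_le_sylow T hw
  rw [eW]
  exact (HallCore.pCore_normal p ↥K).subgroupOf N

end Cfsg.Agent.LocalFrakHIrr43
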