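import Mathlib
import Cfsg.Agent.Lib.LocalFrakHIrr43
import Cfsg.Agent.Lib.BaerSuzuki

/-!
Minimal subgroups `L` of `H ∈ ℌ_G(O_p(M))` with `Y = Y_M ≰ O_p(L)`: `Y` is weakly closed in `L`.

The key step: with `R = O_p(H)`, `Y₀ = Y ∩ R` one has `C_R(Y) = Y₀ C_R(L)`; if a conjugate `A = Y^h`
(`h ∈ L`) commutes with `Y` then `O = O_p(M)` and `O^h` generate a `p`-group, since both stabilise
`R ≥ C_R(Y) ≥ Y₀` and induce the same maps on `C_R(Y)/Y₀`, and weak closure of `O` gives `A = Y`.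
-/

set_option autoImplicit false

namespace Cfsg.Agent.LocalFrakHMin46

open Subgroup
open scoped commutatorElement
open Cfsg.Agent.LocalBasics Cfsg.Agent.LocalPReduced57 Cfsg.Agent.LocalLarge57
open Cfsg.Agent.LocalAsym43 Cfsg.Agent.LocalFrakH43 Cfsg.Agent.LocalFrakHProps43

variable {G : Type*} [Group G] [Finite G] {p : ℕ} [Fact p.Prime]

theorem conjBy_of_mem {h : G} {X : Subgroup G} (hh : h ∈ X) : conjBy h X = X :=
  mem_normalizer_iff_conjBy.mp (le_normalizer hh)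

theorem conj_mem_conjBy {h y : G} {X : Subgroup G} (hy : y ∈ X) : h * y * h⁻¹ ∈ conjBy h X :=
  mem_map_of_mem (MulAut.conj h).toMonoidHom hy

/-- The standing data. -/
structure Data (p : ℕ) [Fact p.Prime] (M H L : Subgroup G) (S : Sylow p G) : Prop where
  ctx : Ctx p M S
  asym : ¬ Cfsg.IsSymmetricIn (Cfsg.largestPReducedOf p M)
  frakH : Cfsg.IsInFrakH p M H
  le : L ≤ H
  Yle : Cfsg.largestPReducedOf p M ≤ L
  Ynot : ¬ Cfsg.largestPReducedOf p M ≤ Cfsg.pCoreOf p L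
  min : ∀ X : Subgroup G, X ≤ L → Cfsg.largestPReducedOf p M ≤ X →
    ¬ Cfsg.largestPReducedOf p M ≤ Cfsg.pCoreOf p X → X = L

variable {M H L : Subgroup G} {S : Sylow p G}

namespace Data

variable (d : Data p M H L S)
include d

local notation "Y" => Cfsg.largestPReducedOf p M
local notation "O" => Cfsg.pCoreOf p M
local notation "R" => Cfsg.pCoreOf p H

theorem small {X : Subgroup G} (hX : X ≤ L) (hY : Y ≤ X) (hne : X ≠ L) :
    Y ≤ Cfsg.pCoreOf p X := by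
  by_contra hc
  exact hne (d.min X hX hY hc)

theorem closure_eq : conjClosure Y L = L := by
  by_contra hne
  have hle : conjClosure Y L ≤ L := conjClosure_le d.Yle le_normalizer
  exact d.Ynot ((d.small hle (le_conjClosure _ _) hne).trans
    (pCoreOf_le_pCoreOf hle (le_normalizer_conjClosure _ _)))

/-- A subgroup of `L` containing all conjugates of `Y` is `L`. -/
theorem eq_of_conj {X : Subgroup G} (h : ∀ g ∈ L, conjBy g Y ≤ X) : L ≤ X := by
  conv_lhs => rw [← d.closure_eq]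
  exact iSup_le fun g => h g g.2

theorem Ycomm {a b : G} (ha : a ∈ Y) (hb : b ∈ Y) : a * b = b * a := by
  have h := (red_largest p M).2.2.1.1
  exact congrArg Subtype.val (h.is_comm.comm (⟨a, ha⟩ : Y) ⟨b, hb⟩)

theorem hY_pow {a : G} (ha : a ∈ Y) : a ^ p = 1 := (red_largest p M).2.2.1.2 a ha

theorem Rn : H ≤ normalizer (R : Set G) := le_normalizer_pCoreOf p H

theorem R_norm {g : G} (hg : g ∈ H) :
    R ≤ normalizer ((conjBy g Y : Subgroup G) : Set G) := by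
  rw [normalizer_conjBy, ← mem_normalizer_iff_conjBy.mp (d.Rn hg)]
  exact conjBy_mono g (core_le_normalizer d.ctx d.asym d.frakH.2.1).2

theorem R_normY : R ≤ normalizer ((Y : Subgroup G) : Set G) :=
  (core_le_normalizer d.ctx d.asym d.frakH.2.1).2

theorem R_normL : R ≤ normalizer (L : Set G) := by
  refine le_normalizer_of_conj fun r hr z hz => ?_
  have h1 : L ≤ L.comap (MulAut.conj r).toMonoidHom := d.eq_of_conj fun g hg => by
    rintro _ ⟨y, hy, rfl⟩
    have hc : conjBy g Y ≤ L := (conjBy_mono g d.Yle).trans (conjBy_of_mem hg).le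
    exact hc (conj_mem_of_le_normalizer (d.R_norm (d.le hg)) hr (conj_mem_conjBy hy))
  exact h1 hz

theorem OC : O ≤ centralizer ((Y : Subgroup G) : Set G) := d.ctx.pCoreOf_le_centralizer

theorem YH : Y ≤ H := d.Yle.trans d.le

/-- `C_R(Y) ≤ O`. -/
theorem RC_le : R ⊓ centralizer ((Y : Subgroup G) : Set G) ≤ O := by
  intro r hr
  have hn : R ≤ normalizer ((O : Subgroup G) : Set G) := (core_le_normalizer d.ctx d.asym d.frakH.2.1).1
  have hp : IsPGroup p ↥((O : Subgroup G) ⊔ R) :=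
    (isPGroup_pCoreOf p M).to_sup_of_normal_left' (isPGroup_pCoreOf p H) hn
  exact d.ctx.inf_centralizer_le hp le_sup_left ⟨mem_sup_right hr.1, hr.2⟩

/-- A conjugate pair generating `L` together with `Y`. -/
theorem exists_pair : ∃ x b : G, x ∈ L ∧ b ∈ conjBy x Y ∧
    ∀ X : Subgroup G, Y ≤ X → b ∈ X → L ≤ X := by
  by_contra hno
  push Not at hno
  refine d.Ynot fun y hy => ?_
  set yL : ↥L := ⟨y, d.Yle hy⟩
  have hyp : IsPGroup p ↥(zpowers yL) := by
    rintro ⟨z, hz⟩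
    obtain ⟨k, rfl⟩ := mem_zpowers_iff.mp hz
    refine ⟨1, Subtype.ext ?_⟩
    have h1 : yL ^ p = 1 := Subtype.ext (d.hY_pow hy)
    show (yL ^ k) ^ p ^ 1 = 1
    rw [pow_one, ← zpow_natCast, ← zpow_mul, mul_comm, zpow_mul, zpow_natCast, h1, one_zpow]
  have hpair : ∀ x : ↥L, IsPGroup p ↥(zpowers yL ⊔ (zpowers yL).map (MulAut.conj x).toMonoidHom) := by
    intro x
    have hb : (x : G) * y * (x : G)⁻¹ ∈ conjBy (x : G) Y := conj_mem_conjBy hy
    obtain ⟨X₀, hYX, hbX, hLX⟩ := hno x _ x.2 hb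
    set X := X₀ ⊓ L
    have hne : X ≠ L := fun e => hLX (e ▸ inf_le_left)
    have hbL : (x : G) * y * (x : G)⁻¹ ∈ L := L.mul_mem (L.mul_mem x.2 (d.Yle hy)) (L.inv_mem x.2)
    -- the pair lies in the proper subgroup `X`, so in the `p`-group generated by `O_p(X)` and `b`
    set P := Cfsg.pCoreOf p X ⊔ zpowers ((x : G) * y * (x : G)⁻¹)
    have hbX' : (x : G) * y * (x : G)⁻¹ ∈ X := ⟨hbX, hbL⟩
    have hPp : IsPGroup p ↥P := by
      refine (isPGroup_pCoreOf p X).to_sup_of_normal_left' ?_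
        ((zpowers_le.mpr hbX').trans (le_normalizer_pCoreOf p X))
      exact (hyp.map (MulAut.conj x).toMonoidHom).map L.subtype |>.to_le (by
        rw [MonoidHom.map_zpowers, MonoidHom.map_zpowers]
        exact le_rfl)
    refine (hPp.comap_of_injective L.subtype L.subtype_injective).to_le (sup_le ?_ ?_)
    · rw [zpowers_le]
      exact mem_sup_left (d.small inf_le_right (le_inf hYX d.Yle) hne hy)
    · rw [MonoidHom.map_zpowers, zpowers_le]
      exact mem_sup_right (mem_zpowers _)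
  obtain ⟨N, hN, hNp, hle⟩ := BaerSuzuki.exists_normal_pGroup_of_pairs (zpowers yL) hyp hpair
  exact ⟨yL, le_sSup (s := {K : Subgroup ↥L | K.Normal ∧ IsPGroup p K}) ⟨hN, hNp⟩ (hle (mem_zpowers yL)), rfl⟩

theorem card_inf_conjBy {x : G} (hx : x ∈ H) :
    conjBy x (Y ⊓ R) = conjBy x Y ⊓ R := by
  have e := mem_normalizer_iff_conjBy.mp (d.Rn hx)
  show (Y ⊓ R).map _ = _
  rw [map_inf _ _ _ (MulAut.conj x).injective]
  exact congrArg (conjBy x Y ⊓ ·) e

/-- An element of `Y ∩ R` centralising `L` lies in every conjugate of `Y` under `L`. -/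
theorem mem_conjBy_of_central {x v : G} (hx : x ∈ L) (hv : v ∈ Y) (hc : v ∈ centralizer (L : Set G)) :
    v ∈ conjBy x Y := by
  rw [mem_conjBy]
  have : x * v = v * x := hc x hx
  rwa [show x⁻¹ * v * x = v by rw [mul_assoc, ← this, inv_mul_cancel_left]]

/-- An element of `R` centralising `Y` with `[r, b]` central in `L` centralises `L`. -/
theorem central_of_comm {b r z : G} (hb : b ∈ L) (hgen : ∀ X : Subgroup G, Y ≤ X → b ∈ X → L ≤ X)
    (hz : z ∈ centralizer (L : Set G)) (hrY : r ∈ centralizer ((Y : Subgroup G) : Set G))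
    (hrb : r * b * r⁻¹ = b * z) : r ∈ centralizer (L : Set G) := by
  let Lr : Subgroup G :=
    { carrier := {l | l ∈ L ∧ ∃ c ∈ centralizer (L : Set G), r * l * r⁻¹ = l * c}
      one_mem' := ⟨one_mem _, 1, one_mem _, by simp⟩
      mul_mem' := by
        rintro l₁ l₂ ⟨h1, c₁, hc₁, e₁⟩ ⟨h2, c₂, hc₂, e₂⟩
        refine ⟨mul_mem h1 h2, c₁ * c₂, mul_mem hc₁ hc₂, ?_⟩
        rw [show r * (l₁ * l₂) * r⁻¹ = (r * l₁ * r⁻¹) * (r * l₂ * r⁻¹) by group, e₁, e₂]
        have := hc₁ l₂ h2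
        calc l₁ * c₁ * (l₂ * c₂) = l₁ * (c₁ * l₂) * c₂ := by group
          _ = l₁ * (l₂ * c₁) * c₂ := by rw [this]
          _ = _ := by group
      inv_mem' := by
        rintro l ⟨h1, c, hc, e⟩
        refine ⟨inv_mem h1, c⁻¹, inv_mem hc, ?_⟩
        rw [show r * l⁻¹ * r⁻¹ = (r * l * r⁻¹)⁻¹ by group, e, mul_inv_rev]
        exact (((inv_mem hc) : c⁻¹ ∈ centralizer (L : Set G)) l⁻¹ (inv_mem h1)).symm }
  have hcY : ∀ y ∈ Y, r * y * r⁻¹ = y := fun y hy => by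
    rw [show r * y = y * r from (hrY y hy).symm, mul_inv_cancel_right]
  have hYLr : Y ≤ Lr := fun y hy => ⟨d.Yle hy, 1, one_mem _, by rw [hcY y hy, mul_one]⟩
  have hbL : L ≤ Lr := hgen Lr hYLr ⟨hb, z, hz, hrb⟩
  have hfix : L ≤ centralizer ({r} : Set G) := d.eq_of_conj fun g hg => by
    rintro _ ⟨y, hy, rfl⟩
    obtain ⟨-, c, hc, e⟩ := hbL hg
    have h1 : r * (g * y * g⁻¹) * r⁻¹ = g * y * g⁻¹ := by
      rw [show r * (g * y * g⁻¹) * r⁻¹ = (r * g * r⁻¹) * (r * y * r⁻¹) * (r * g * r⁻¹)⁻¹ by group,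
        e, hcY y hy]
      have h2 := hc y (d.Yle hy)
      calc g * c * y * (g * c)⁻¹ = g * (c * y) * c⁻¹ * g⁻¹ := by group
        _ = g * (y * c) * c⁻¹ * g⁻¹ := by rw [h2]
        _ = _ := by group
    show g * y * g⁻¹ ∈ centralizer ({r} : Set G)
    rw [mem_centralizer_singleton_iff]
    exact (mul_inv_eq_iff_eq_mul.mp h1).symm
  exact fun l hl => mem_centralizer_singleton_iff.mp (hfix hl)

/-- The facts about a generating pair: `C_R(Y) = Y₀ C_R(L)`, and `V₀ = Y₀ B₀` is normalised by `L`. -/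
theorem core_facts :
    (∀ r ∈ R, r ∈ centralizer ((Y : Subgroup G) : Set G) →
      ∃ v ∈ Y ⊓ R, v⁻¹ * r ∈ centralizer (L : Set G)) ∧
    ∃ B₀ Z : Subgroup G, (∃ x ∈ L, B₀ = conjBy x Y ⊓ R) ∧ B₀ ≤ R ∧ Z ≤ Y ⊓ R ∧ Z ≤ centralizer (L : Set G) ∧
      L ≤ normalizer (((Y ⊓ R) ⊔ B₀ : Subgroup G) : Set G) ∧
      (∀ r ∈ R, r ∈ normalizer (B₀ : Set G)) ∧
      (∀ w ∈ B₀, w ∈ centralizer ((Y : Subgroup G) : Set G) → w ∈ Z) ∧
      (∀ u ∈ Y, u ∈ normalizer (B₀ : Set G) → ∀ w ∈ B₀, u * w * u⁻¹ * w⁻¹ ∈ Z) := by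
  obtain ⟨x, b, hx, hb, hgen⟩ := d.exists_pair
  set Y₀ := Y ⊓ R with hY₀
  set B := conjBy x Y
  set B₀ := B ⊓ R with hB₀
  set Z := Y₀ ⊓ B₀
  have hBc : ∀ a ∈ B, ∀ c ∈ B, a * c = c * a := by
    intro a ha c hc
    rw [mem_conjBy] at ha hc
    have := d.Ycomm ha hc
    have := congrArg (fun t => x * t * x⁻¹) this
    simpa [mul_assoc] using this
  have hRB : R ≤ normalizer (B : Set G) := d.R_norm (d.le hx)
  have hbL' : b ∈ L := (conjBy_mono x d.Yle).trans (conjBy_of_mem hx).le hb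
  have hZc : Z ≤ centralizer (L : Set G) := fun z hz => by
    have h1 : L ≤ centralizer ({z} : Set G) := hgen _ (fun y hy =>
      mem_centralizer_singleton_iff.mpr (d.Ycomm hy hz.1.1))
      (mem_centralizer_singleton_iff.mpr (hBc b hb z hz.2.1))
    exact fun l hl => mem_centralizer_singleton_iff.mp (h1 hl)
  have hcard : Nat.card ↥B₀ = Nat.card ↥Y₀ := by
    rw [hB₀, ← d.card_inf_conjBy (d.le hx)]
    exact card_conjBy x _
  have hwC : ∀ w ∈ B₀, w ∈ centralizer ((Y : Subgroup G) : Set G) → w ∈ Z := by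
    intro w hw hwY
    have h1 : w ∈ centralizer (L : Set G) := d.central_of_comm hbL' hgen (one_mem _) hwY (by
      rw [show w * b = b * w from hBc w hw.1 b hb, mul_inv_cancel_right, mul_one])
    have h2 : w ∈ Y := by
      have h3 : w ∈ B := hw.1
      rw [mem_conjBy] at h3
      have h4 : x * w = w * x := h1 x hx
      rwa [show x⁻¹ * w * x = w by rw [mul_assoc, ← h4, inv_mul_cancel_left]] at h3
    exact ⟨⟨h2, hw.2⟩, hw⟩
  refine ⟨fun r hr hrY => ?_, B₀, Z, ⟨x, hx, rfl⟩, inf_le_right, inf_le_left, hZc, ?_, fun r hr => ?_, hwC, ?_⟩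
  · -- `v ↦ [v, b]` maps `Y₀ / Z` onto `B₀ / Z`
    have hcomm : ∀ v ∈ Y₀ ⊔ (R ⊓ centralizer ((Y : Subgroup G) : Set G)),
        v * b * v⁻¹ * b⁻¹ ∈ B₀ := fun v hv => by
      have hvR : v ∈ R := (sup_le inf_le_right inf_le_left : _ ≤ R) hv
      refine ⟨mul_mem (conj_mem_of_le_normalizer hRB hvR hb) ((B : Subgroup G).inv_mem hb), ?_⟩
      rw [show v * b * v⁻¹ * b⁻¹ = v * (b * v⁻¹ * b⁻¹) by group]
      exact mul_mem hvR (conj_mem_of_le_normalizer d.Rn
        ((conjBy_mono x d.YH).trans (conjBy_of_mem (d.le hx)).le hb) ((R : Subgroup G).inv_mem hvR))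
    let φ : ↥Y₀ → ↥B₀ ⧸ Z.subgroupOf B₀ :=
      fun v => QuotientGroup.mk ⟨(v : G) * b * (v : G)⁻¹ * b⁻¹, hcomm v (mem_sup_left v.2)⟩
    let ψ : ↥Y₀ ⧸ Z.subgroupOf Y₀ → ↥B₀ ⧸ Z.subgroupOf B₀ := fun q => φ q.out
    have hψ : Function.Injective ψ := by
      intro q₁ q₂ h12
      rw [← QuotientGroup.out_eq' q₁, ← QuotientGroup.out_eq' q₂, QuotientGroup.eq]
      set v₁ := q₁.out
      set v₂ := q₂.out
      have hz := QuotientGroup.eq.mp h12
      rw [mem_subgroupOf] at hz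
      simp only [Subgroup.coe_mul, Subgroup.coe_inv] at hz
      set z := ((v₁ : G) * b * (v₁ : G)⁻¹ * b⁻¹)⁻¹ * ((v₂ : G) * b * (v₂ : G)⁻¹ * b⁻¹) with hzdef
      have hzL := hZc hz
      have hzb : z * b = b * z := hBc z hz.2.1 b hb
      have hzv : (v₁ : G) * z = z * (v₁ : G) := d.Ycomm v₁.2.1 hz.1.1
      have e2 : (v₂ : G) * b * (v₂ : G)⁻¹ = (v₁ : G) * (b * z) * (v₁ : G)⁻¹ := by
        calc (v₂ : G) * b * (v₂ : G)⁻¹ = (v₁ : G) * b * (v₁ : G)⁻¹ * b⁻¹ * (z * b) := by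
              rw [hzdef]; group
          _ = (v₁ : G) * b * (v₁ : G)⁻¹ * b⁻¹ * (b * z) := by rw [hzb]
          _ = (v₁ : G) * b * (v₁ : G)⁻¹ * (((v₁ : G) * z) * (v₁ : G)⁻¹) := by rw [hzv]; group
          _ = _ := by group
      have hv : ((v₁ : G))⁻¹ * v₂ ∈ centralizer (L : Set G) := by
        refine d.central_of_comm hbL' hgen hzL (fun y hy => ?_) ?_
        · exact d.Ycomm hy (mul_mem (inv_mem v₁.2.1) v₂.2.1)
        · calc ((v₁ : G))⁻¹ * v₂ * b * (((v₁ : G))⁻¹ * v₂)⁻¹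
              = ((v₁ : G))⁻¹ * ((v₂ : G) * b * (v₂ : G)⁻¹) * v₁ := by group
            _ = _ := by rw [e2]; group
      rw [mem_subgroupOf]
      have hmem : ((v₁ : G))⁻¹ * v₂ ∈ Y₀ := mul_mem (inv_mem v₁.2) v₂.2
      exact ⟨hmem, d.mem_conjBy_of_central hx hmem.1 hv, hmem.2⟩
    have hcq : Nat.card (↥B₀ ⧸ Z.subgroupOf B₀) ≤ Nat.card (↥Y₀ ⧸ Z.subgroupOf Y₀) := by
      have e1 := card_eq_card_quotient_mul_card_subgroup (Z.subgroupOf B₀)
      have e2 := card_eq_card_quotient_mul_card_subgroup (Z.subgroupOf Y₀)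
      rw [hcard] at e1
      rw [Nat.card_congr (subgroupOfEquivOfLe (inf_le_right : Z ≤ B₀)).toEquiv] at e1
      rw [Nat.card_congr (subgroupOfEquivOfLe (inf_le_left : Z ≤ Y₀)).toEquiv, e1] at e2
      exact le_of_eq (Nat.eq_of_mul_eq_mul_right Nat.card_pos e2)
    obtain ⟨q, hq⟩ := (hψ.bijective_of_nat_card_le hcq).2
      (QuotientGroup.mk ⟨r * b * r⁻¹ * b⁻¹, hcomm r (mem_sup_right ⟨hr, hrY⟩)⟩)
    set v := q.out
    refine ⟨v, v.2, ?_⟩
    have hz := QuotientGroup.eq.mp hq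
    rw [mem_subgroupOf] at hz
    simp only [Subgroup.coe_mul, Subgroup.coe_inv] at hz
    set z := ((v : G) * b * (v : G)⁻¹ * b⁻¹)⁻¹ * (r * b * r⁻¹ * b⁻¹) with hzdef
    have hzb : z * b = b * z := hBc z hz.2.1 b hb
    have hzv : (v : G) * z = z * (v : G) := d.Ycomm v.2.1 hz.1.1
    have hvC : (v : G) ∈ centralizer ((Y : Subgroup G) : Set G) := fun y hy => d.Ycomm hy v.2.1
    refine d.central_of_comm hbL' hgen (hZc hz) (mul_mem (inv_mem hvC) hrY) ?_
    have e2 : r * b * r⁻¹ = (v : G) * (b * z) * (v : G)⁻¹ := by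
      calc r * b * r⁻¹ = (v : G) * b * (v : G)⁻¹ * b⁻¹ * (z * b) := by rw [hzdef]; group
        _ = (v : G) * b * (v : G)⁻¹ * b⁻¹ * (b * z) := by rw [hzb]
        _ = (v : G) * b * (v : G)⁻¹ * (((v : G) * z) * (v : G)⁻¹) := by rw [hzv]; group
        _ = _ := by group
    calc ((v : G))⁻¹ * r * b * (((v : G))⁻¹ * r)⁻¹
        = ((v : G))⁻¹ * (r * b * r⁻¹) * v := by group
      _ = _ := by rw [e2]; group
  · -- `V₀` is normalised by `L`
    have hY0n : ∀ a ∈ R, a ∈ normalizer (Y₀ : Set G) := fun a ha =>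
      le_normalizer_inf d.R_normY Subgroup.le_normalizer ha
    refine hgen _ (fun y hy => ?_) ?_
    · refine le_normalizer_of_conj (X := zpowers y) (fun g hg w hw => ?_) (mem_zpowers y)
      have hgY : g ∈ Y := (zpowers_le.mpr hy) hg
      have h1 : Y₀ ⊔ B₀ ≤ (Y₀ ⊔ B₀).comap (MulAut.conj g).toMonoidHom := by
        refine sup_le (fun a ha => ?_) fun a ha => ?_
        · show g * a * g⁻¹ ∈ Y₀ ⊔ B₀
          rw [d.Ycomm hgY ha.1, mul_inv_cancel_right]
          exact mem_sup_left ha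
        · show g * a * g⁻¹ ∈ Y₀ ⊔ B₀
          rw [show g * a * g⁻¹ = (g * (a * g⁻¹ * a⁻¹)) * a by group]
          refine mul_mem (mem_sup_left (Subgroup.mem_inf.mpr ⟨mul_mem hgY
            (conj_mem_of_le_normalizer d.R_normY ha.2 (inv_mem hgY)), ?_⟩)) (mem_sup_right ha)
          rw [show g * (a * g⁻¹ * a⁻¹) = (g * a * g⁻¹) * a⁻¹ by group]
          exact mul_mem (conj_mem_of_le_normalizer d.Rn (d.YH hgY) ha.2) ((R : Subgroup G).inv_mem ha.2)
      exact h1 hw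
    · refine le_normalizer_of_conj (X := zpowers b) (fun g hg w hw => ?_) (mem_zpowers b)
      have hgB : g ∈ B := (zpowers_le.mpr hb) hg
      have hgH : g ∈ H := (conjBy_mono x d.YH).trans (conjBy_of_mem (d.le hx)).le hgB
      have h1 : Y₀ ⊔ B₀ ≤ (Y₀ ⊔ B₀).comap (MulAut.conj g).toMonoidHom := by
        refine sup_le (fun a ha => ?_) fun a ha => ?_
        · show g * a * g⁻¹ ∈ Y₀ ⊔ B₀
          rw [show g * a * g⁻¹ = (g * (a * g⁻¹ * a⁻¹)) * a by group]
          refine mul_mem (mem_sup_right (Subgroup.mem_inf.mpr ⟨mul_mem hgB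
            (conj_mem_of_le_normalizer hRB ha.2 (inv_mem hgB)), ?_⟩)) (mem_sup_left ha)
          rw [show g * (a * g⁻¹ * a⁻¹) = (g * a * g⁻¹) * a⁻¹ by group]
          exact mul_mem (conj_mem_of_le_normalizer d.Rn hgH ha.2) ((R : Subgroup G).inv_mem ha.2)
        · show g * a * g⁻¹ ∈ Y₀ ⊔ B₀
          rw [hBc g hgB a ha.1, mul_inv_cancel_right]
          exact mem_sup_right ha
      exact h1 hw
  · exact le_normalizer_inf hRB Subgroup.le_normalizer hr
  · intro u hu hun w hw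
    refine ⟨⟨?_, ?_⟩, ?_⟩
    · rw [show u * w * u⁻¹ * w⁻¹ = u * (w * u⁻¹ * w⁻¹) by group]
      exact mul_mem hu (conj_mem_of_le_normalizer d.R_normY hw.2 (inv_mem hu))
    · exact mul_mem (conj_mem_of_le_normalizer d.Rn (d.YH hu) hw.2) ((R : Subgroup G).inv_mem hw.2)
    · exact mul_mem ((mem_normalizer_iff.mp hun w).mp hw) (B₀.inv_mem hw)

/-- Weak closure, commuting case. -/
theorem eq_of_commute {h : G} (hh : h ∈ L)
    (hc : conjBy h Y ≤ centralizer ((Y : Subgroup G) : Set G)) : conjBy h Y = Y := by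
  obtain ⟨hdec, B₀, Z, -, hBR, hZ, hZc, hVn, hRB, hwC, -⟩ := d.core_facts
  set Y₀ := Y ⊓ R with hY₀
  have hhH := d.le hh
  -- `A ∩ R = Y₀`
  have hA0 : conjBy h Y₀ = Y₀ := by
    refine Subgroup.eq_of_le_of_card_ge ?_ (card_conjBy h Y₀).ge
    intro a ha
    have haY : a ∈ centralizer ((Y : Subgroup G) : Set G) := hc (conjBy_mono h inf_le_left ha)
    have haV : a ∈ Y₀ ⊔ B₀ := by
      have := conjBy_mono h (le_sup_left : Y₀ ≤ Y₀ ⊔ B₀) ha
      rwa [mem_normalizer_iff_conjBy.mp (hVn hh)] at this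
    obtain ⟨v, hv, w, hw, rfl⟩ := exists_mul_of_mem_sup (fun v hv => hRB v (Subgroup.mem_inf.mp hv).2) haV
    have hwY : w ∈ centralizer ((Y : Subgroup G) : Set G) := by
      have hvC : v ∈ centralizer ((Y : Subgroup G) : Set G) :=
        fun y hy => d.Ycomm hy (Subgroup.mem_inf.mp hv).1
      have := mul_mem (inv_mem hvC) haY
      simpa using this
    exact mul_mem hv (hZ (hwC w hw hwY))
  have hY0h : h ∈ normalizer (Y₀ : Set G) := mem_normalizer_iff_conjBy.mpr hA0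
  set D := R ⊓ centralizer ((Y : Subgroup G) : Set G) with hD
  have hY0D : Y₀ ≤ D := fun v hv => ⟨hv.2, fun y hy => d.Ycomm hy hv.1⟩
  have hDh : conjBy h D = D := by
    refine Subgroup.eq_of_le_of_card_ge ?_ (card_conjBy h D).ge
    rintro _ ⟨e, he, rfl⟩
    obtain ⟨v, hv, hve⟩ := hdec e he.1 he.2
    have h1 : v⁻¹ * e ∈ D := mul_mem (inv_mem (hY0D hv)) he
    have h2 : h * (v⁻¹ * e) * h⁻¹ = v⁻¹ * e := by
      rw [show h * (v⁻¹ * e) = v⁻¹ * e * h from hve h hh, mul_inv_cancel_right]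
    show h * e * h⁻¹ ∈ D
    rw [show h * e * h⁻¹ = (h * v * h⁻¹) * (h * (v⁻¹ * e) * h⁻¹) by group, h2]
    exact mul_mem (hY0D ((mem_normalizer_iff.mp hY0h v).mp hv)) h1
  have hOH : O ≤ H := d.frakH.2.1
  have hY0O : ∀ o ∈ O, ∀ v ∈ Y₀, o * v * o⁻¹ = v := fun o ho v hv => by
    rw [show o * v = v * o from (d.OC ho v hv.1).symm, mul_inv_cancel_right]
  have hROD : ∀ o ∈ O, ∀ r ∈ R, o * r * o⁻¹ * r⁻¹ ∈ D := by
    intro o ho r hr
    refine ⟨mul_mem (conj_mem_of_le_normalizer d.Rn (hOH ho) hr) ((R : Subgroup G).inv_mem hr), ?_⟩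
    rw [show o * r * o⁻¹ * r⁻¹ = o * (r * o⁻¹ * r⁻¹) by group]
    exact d.OC (mul_mem ho (conj_mem_of_le_normalizer
      (core_le_normalizer d.ctx d.asym d.frakH.2.1).1 hr (inv_mem ho)))
  have hOD : ∀ o ∈ O, ∀ e ∈ D, o * e * o⁻¹ ∈ D := fun o ho e he => by
    refine ⟨conj_mem_of_le_normalizer d.Rn (hOH ho) he.1, mul_mem (mul_mem (d.OC ho) he.2) (Subgroup.inv_mem _ (d.OC ho))⟩
  -- the elements acting like elements of `O`
  let K : Submonoid G :=
    { carrier := {g | g ∈ H ∧ (∀ v ∈ Y₀, g * v * g⁻¹ = v) ∧ (∀ r ∈ R, g * r * g⁻¹ * r⁻¹ ∈ D) ∧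
        ∃ o ∈ O, ∀ e ∈ D, ∃ v ∈ Y₀, g * e * g⁻¹ = v * (o * e * o⁻¹)}
      one_mem' := ⟨one_mem _, fun v _ => by simp, fun r _ => by simp,
        1, one_mem _, fun e _ => ⟨1, one_mem _, by simp⟩⟩
      mul_mem' := by
        rintro g₁ g₂ ⟨h1, f1, r1, o₁, ho₁, e1⟩ ⟨h2, f2, r2, o₂, ho₂, e2⟩
        refine ⟨mul_mem h1 h2, fun v hv => ?_, fun r hr => ?_, o₁ * o₂, mul_mem ho₁ ho₂, fun e he => ?_⟩
        · rw [show g₁ * g₂ * v * (g₁ * g₂)⁻¹ = g₁ * (g₂ * v * g₂⁻¹) * g₁⁻¹ by group, f2 v hv, f1 v hv]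
        · rw [show g₁ * g₂ * r * (g₁ * g₂)⁻¹ * r⁻¹ =
            (g₁ * (g₂ * r * g₂⁻¹) * g₁⁻¹ * (g₂ * r * g₂⁻¹)⁻¹) * (g₂ * r * g₂⁻¹ * r⁻¹) by group]
          exact mul_mem (r1 _ (conj_mem_of_le_normalizer d.Rn h2 hr)) (r2 r hr)
        · obtain ⟨v₂, hv₂, q2⟩ := e2 e he
          obtain ⟨v₁, hv₁, q1⟩ := e1 _ (hOD o₂ ho₂ e he)
          refine ⟨v₂ * v₁, mul_mem hv₂ hv₁, ?_⟩
          rw [show g₁ * g₂ * e * (g₁ * g₂)⁻¹ = g₁ * (g₂ * e * g₂⁻¹) * g₁⁻¹ by group, q2,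
            show g₁ * (v₂ * (o₂ * e * o₂⁻¹)) * g₁⁻¹ =
              (g₁ * v₂ * g₁⁻¹) * (g₁ * (o₂ * e * o₂⁻¹) * g₁⁻¹) by group, f1 v₂ hv₂, q1]
          group }
  have hOK : ∀ o ∈ O, o ∈ K := fun o ho =>
    ⟨hOH ho, hY0O o ho, hROD o ho, o, ho, fun e _ => ⟨1, one_mem _, by simp⟩⟩
  have hOhK : ∀ o ∈ O, h * o * h⁻¹ ∈ K := by
    intro o ho
    have hinvY : ∀ v ∈ Y₀, h⁻¹ * v * h ∈ Y₀ := fun v hv => by
      have := (mem_normalizer_iff.mp hY0h (h⁻¹ * v * h)).mpr (by simpa [mul_assoc] using hv)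
      exact this
    refine ⟨mul_mem (mul_mem hhH (hOH ho)) (inv_mem hhH), fun v hv => ?_, fun r hr => ?_,
      o, ho, fun e he => ?_⟩
    · rw [show h * o * h⁻¹ * v * (h * o * h⁻¹)⁻¹ = h * (o * (h⁻¹ * v * h) * o⁻¹) * h⁻¹ by group,
        hY0O o ho _ (hinvY v hv)]
      group
    · have hr' : h⁻¹ * r * h ∈ R := by
        simpa using conj_mem_of_le_normalizer d.Rn (inv_mem hhH) hr
      rw [show h * o * h⁻¹ * r * (h * o * h⁻¹)⁻¹ * r⁻¹ =
        h * (o * (h⁻¹ * r * h) * o⁻¹ * (h⁻¹ * r * h)⁻¹) * h⁻¹ by group]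
      exact hDh.le (conj_mem_conjBy (hROD o ho _ hr'))
    · obtain ⟨v, hv, hve⟩ := hdec e he.1 he.2
      set e₁ := v⁻¹ * e
      have he₁ : e₁ ∈ D := mul_mem (inv_mem (hY0D hv)) he
      have hfix : h⁻¹ * e₁ * h = e₁ := by
        rw [mul_assoc, show e₁ * h = h * e₁ from (hve h hh).symm, inv_mul_cancel_left]
      obtain ⟨w, hw, hwe⟩ := hdec _ (hOD o ho e₁ he₁).1 (hOD o ho e₁ he₁).2
      set f := w⁻¹ * (o * e₁ * o⁻¹)
      have hfix' : h * f * h⁻¹ = f := by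
        rw [show h * f = f * h from hwe h hh, mul_inv_cancel_right]
      have hk0 : h * o * h⁻¹ * v * (h * o * h⁻¹)⁻¹ = v := by
        rw [show h * o * h⁻¹ * v * (h * o * h⁻¹)⁻¹ = h * (o * (h⁻¹ * v * h) * o⁻¹) * h⁻¹ by group,
          hY0O o ho _ (hinvY v hv)]
        group
      refine ⟨v * (h * w * h⁻¹) * w⁻¹ * v⁻¹,
        mul_mem (mul_mem (mul_mem hv ((mem_normalizer_iff.mp hY0h w).mp hw)) (inv_mem hw)) (inv_mem hv), ?_⟩
      have ee : o * e * o⁻¹ = v * (w * f) := by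
        rw [show o * e * o⁻¹ = (o * v * o⁻¹) * (o * e₁ * o⁻¹) by simp only [e₁]; group, hY0O o ho v hv]
        simp only [f]
        group
      calc h * o * h⁻¹ * e * (h * o * h⁻¹)⁻¹
          = (h * o * h⁻¹ * v * (h * o * h⁻¹)⁻¹) * (h * (o * (h⁻¹ * e₁ * h) * o⁻¹) * h⁻¹) := by
            simp only [e₁]; group
        _ = v * (h * (w * f) * h⁻¹) := by rw [hk0, hfix]; simp only [f]; group
        _ = v * ((h * w * h⁻¹) * (h * f * h⁻¹)) := by group
        _ = v * ((h * w * h⁻¹) * f) := by rw [hfix']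
        _ = _ := by rw [ee]; group
  -- the subgroup generated by `O` and `O^h` is a `p`-group
  let KG : Subgroup G :=
    { K with
      inv_mem' := fun {g} hg => by
        rw [show g⁻¹ = g ^ (orderOf g - 1) from (inv_eq_of_mul_eq_one_left (by
          rw [← pow_succ, Nat.sub_add_cancel (orderOf_pos g), pow_orderOf_eq_one]))]
        exact K.pow_mem hg _ }
  have hP : (O : Subgroup G) ⊔ conjBy h O ≤ KG := sup_le hOK (by rintro _ ⟨o, ho, rfl⟩; exact hOhK o ho)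
  have hPp : IsPGroup p ↥((O : Subgroup G) ⊔ conjBy h O) := by
    rintro ⟨g, hg⟩
    obtain ⟨N, hN⟩ : ∃ N : ℕ, ∀ o ∈ O, o ^ p ^ N = 1 := by
      obtain ⟨n, hn⟩ := (isPGroup_pCoreOf p M).exists_card_eq
      exact ⟨n, fun o ho => orderOf_dvd_iff_pow_eq_one.mp (hn ▸ Subgroup.orderOf_dvd_natCard _ ho)⟩
    obtain ⟨hgH, f1, r1, o, ho, e1⟩ := hP hg
    have hpow : ∀ m : ℕ, ∀ e ∈ D, ∃ v ∈ Y₀, g ^ m * e * (g ^ m)⁻¹ = v * (o ^ m * e * (o ^ m)⁻¹) := by
      intro m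
      induction m with
      | zero => exact fun e _ => ⟨1, one_mem _, by simp⟩
      | succ m ih =>
        intro e he
        obtain ⟨v₂, hv₂, q2⟩ := e1 e he
        obtain ⟨v₁, hv₁, q1⟩ := ih _ (hOD o ho e he)
        have hfm : g ^ m * v₂ * (g ^ m)⁻¹ = v₂ := (pow_mem (show g ∈ KG from hP hg) m).2.1 v₂ hv₂
        refine ⟨v₂ * v₁, mul_mem hv₂ hv₁, ?_⟩
        rw [pow_succ, show g ^ m * g * e * (g ^ m * g)⁻¹ = g ^ m * (g * e * g⁻¹) * (g ^ m)⁻¹ by group,
          q2, show g ^ m * (v₂ * (o * e * o⁻¹)) * (g ^ m)⁻¹ =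
            (g ^ m * v₂ * (g ^ m)⁻¹) * (g ^ m * (o * e * o⁻¹) * (g ^ m)⁻¹) by group, hfm, q1,
          pow_succ]
        group
    -- `g ^ (p ^ (N + 1))` centralises `D`
    set a := g ^ p ^ N with ha
    have haK : a ∈ KG := pow_mem (hP hg) _
    have haD : ∀ e ∈ D, (a ^ p) * e * (a ^ p)⁻¹ = e := by
      intro e he
      obtain ⟨v, hv, q⟩ := hpow (p ^ N) e he
      rw [hN o ho, ← ha] at q
      simp only [one_mul, inv_one, mul_one] at q
      have hm : ∀ m : ℕ, a ^ m * e * (a ^ m)⁻¹ = v ^ m * e := by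
        intro m
        induction m with
        | zero => simp
        | succ m ih =>
          rw [pow_succ', show a * a ^ m * e * (a * a ^ m)⁻¹ = a * (a ^ m * e * (a ^ m)⁻¹) * a⁻¹ by group,
            ih, show a * (v ^ m * e) * a⁻¹ = (a * v ^ m * a⁻¹) * (a * e * a⁻¹) by group,
            haK.2.1 _ (pow_mem hv m), q, pow_succ]
          group
      rw [hm p, d.hY_pow hv.1, one_mul]
    set c := a ^ p with hc'
    have hcK : c ∈ KG := pow_mem haK _
    set n := Nat.card ↥D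
    have hcR : ∀ r ∈ R, c ^ n * r * (c ^ n)⁻¹ = r := by
      intro r hr
      set u := c * r * c⁻¹ * r⁻¹
      have hu : u ∈ D := hcK.2.2.1 r hr
      have hm : ∀ m : ℕ, c ^ m * r * (c ^ m)⁻¹ = u ^ m * r := by
        intro m
        induction m with
        | zero => simp
        | succ m ih =>
          rw [pow_succ', show c * c ^ m * r * (c * c ^ m)⁻¹ = c * (c ^ m * r * (c ^ m)⁻¹) * c⁻¹ by group,
            ih, show c * (u ^ m * r) * c⁻¹ = (c * u ^ m * c⁻¹) * (c * r * c⁻¹) by group,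
            haD _ (pow_mem hu m), pow_succ]
          simp only [u]
          group
      rw [hm n, orderOf_dvd_iff_pow_eq_one.mp (Subgroup.orderOf_dvd_natCard _ hu), one_mul]
    have hcn : c ^ n ∈ R := charp_inf d.frakH.1 ⟨pow_mem hcK.1 _, fun r hr => by
      have := hcR r hr
      rw [mul_inv_eq_iff_eq_mul] at this
      exact this.symm⟩
    obtain ⟨j, hj⟩ := isPGroup_pCoreOf p H ⟨_, hcn⟩
    obtain ⟨k, hk⟩ := ((isPGroup_pCoreOf p H).to_le (inf_le_left : D ≤ R)).exists_card_eq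
    refine ⟨N + 1 + k + j, Subtype.ext ?_⟩
    have hj' := congrArg Subtype.val hj
    simp only [SubmonoidClass.coe_pow, OneMemClass.coe_one] at hj' ⊢
    rw [hc', ha, show n = p ^ k from hk, ← pow_mul, ← pow_mul, ← pow_mul] at hj'
    rw [pow_add, pow_add, pow_add, pow_one, mul_assoc, mul_assoc]
    exact hj'
  have hhN : h ∈ normalizer ((O : Subgroup G) : Set G) := by
    have h1 := le_normalizer_of_wc (d.ctx.weaklyClosed d.asym) hPp le_sup_left
    have hwc := d.ctx.weaklyClosed d.asym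
    obtain ⟨c, hc1, hc2⟩ := exists_conj_of_wc hwc (isPGroup_pCoreOf p M) le_sup_left
      (le_sup_right : conjBy h O ≤ O ⊔ conjBy h O)
    rw [mem_normalizer_iff_conjBy, hc2]
    exact mem_normalizer_iff_conjBy.mp (h1 hc1)
  exact mem_normalizer_iff_conjBy.mp
    (d.ctx.dagger_le_normalizer (d.ctx.normalizer_pCoreOf_le hhN))

/-- Every `p`-subgroup of `L` containing `Y` normalises it. -/
theorem le_normalizer_of_pGroup {Q : Subgroup G} (hQL : Q ≤ L) (hQ : IsPGroup p ↥Q) (hYQ : Y ≤ Q) :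
    Q ≤ normalizer ((Y : Subgroup G) : Set G) := by
  set N := normalizer ((Y : Subgroup G) : Set G)
  haveI : Group.IsNilpotent ↥Q := hQ.isNilpotent
  by_contra hne
  have hlt : N.subgroupOf Q < ⊤ := lt_top_iff_ne_top.mpr fun e => hne (subgroupOf_eq_top.mp e)
  refine (Group.normalizerCondition_of_isNilpotent _ hlt).ne (le_antisymm le_normalizer fun q hq => ?_)
  show (q : G) ∈ N
  have hYN : ((Y : Subgroup G).subgroupOf Q) ≤ N.subgroupOf Q := fun y hy => le_normalizer hy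
  have hqn : ∀ z : ↥Q, z ∈ N.subgroupOf Q → q * z * q⁻¹ ∈ N.subgroupOf Q :=
    fun z hz => (Subgroup.mem_normalizer_iff.mp hq z).mp hz
  have hqn' : ∀ z : ↥Q, z ∈ N.subgroupOf Q → q⁻¹ * z * q ∈ N.subgroupOf Q :=
    fun z hz => (Subgroup.mem_normalizer_iff.mp hq (q⁻¹ * z * q)).mpr (by
      simpa [mul_assoc] using hz)
  -- `Y^q` and `Y` normalise each other
  have h2 : conjBy (q : G) Y ≤ N := by
    rintro _ ⟨y, hy, rfl⟩
    exact hqn ⟨y, hYQ hy⟩ (hYN hy)
  have h1 : Y ≤ normalizer ((conjBy (q : G) Y : Subgroup G) : Set G) := by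
    intro y hy
    rw [normalizer_conjBy, mem_conjBy]
    exact hqn' ⟨y, hYQ hy⟩ (hYN hy)
  exact mem_normalizer_iff_conjBy.mpr
    (d.eq_of_commute (hQL q.2) (commute_of_normalizing d.asym h1 h2))

/-- `Y` is weakly closed in `L`. -/
theorem eq_of_pGroup {P : Subgroup G} {h : G} (hh : h ∈ L) (hPL : P ≤ L) (hP : IsPGroup p ↥P)
    (hY : Y ≤ P) (hA : conjBy h Y ≤ P) : conjBy h Y = Y := by
  refine d.eq_of_commute hh (commute_of_normalizing d.asym ?_
    (hA.trans (d.le_normalizer_of_pGroup hPL hP hY)))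
  have hPh : conjBy h⁻¹ P ≤ L := (conjBy_mono _ hPL).trans (conjBy_of_mem (inv_mem hh)).le
  have h1 := conjBy_mono h (d.le_normalizer_of_pGroup hPh (hP.map _)
    (conjBy_le_iff.mp hA))
  rw [conjBy_self_inv, ← normalizer_conjBy] at h1
  exact hY.trans h1

/-- A proper subgroup of `L` containing `Y` normalises it. -/
theorem le_normalizer_of_proper {X : Subgroup G} (hX : X ≤ L) (hY : Y ≤ X) (hne : X ≠ L) :
    X ≤ normalizer ((Y : Subgroup G) : Set G) := by
  intro x hx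
  rw [mem_normalizer_iff_conjBy]
  refine d.eq_of_pGroup (hX hx) ((pCoreOf_le p X).trans hX) (isPGroup_pCoreOf p X) (d.small hX hY hne) ?_
  rintro _ ⟨y, hy, rfl⟩
  exact conj_mem_of_le_normalizer (le_normalizer_pCoreOf p X) hx (d.small hX hY hne hy)

theorem sup_eq : L ⊔ O = H := by
  by_contra hne
  have h1 := d.frakH.2.2.2 (L ⊔ O) le_sup_right (lt_of_le_of_ne (sup_le d.le d.frakH.2.1) hne)
  exact d.Ynot ((le_inf h1 d.Yle).trans (pCoreOf_inf_le p le_sup_left))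

theorem conj_sup_eq {h : G} (hh : h ∈ L) (hn : h ∉ normalizer ((Y : Subgroup G) : Set G)) :
    conjBy h Y ⊔ O = H := by
  have hhL : conjBy h Y ≤ L := (conjBy_mono h d.Yle).trans (conjBy_of_mem hh).le
  by_contra hne
  have hle : conjBy h Y ⊔ O ≤ H := sup_le (hhL.trans d.le) d.frakH.2.1
  set X := (conjBy h Y ⊔ O) ⊓ L
  have hYX : Y ≤ X := le_inf (d.ctx.largest_le_pCoreOf.trans le_sup_right) d.Yle
  have hXne : X ≠ L := fun e => hne (le_antisymm hle (d.sup_eq.ge.trans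
    (sup_le (e.ge.trans inf_le_left) le_sup_right)))
  have hXn := d.le_normalizer_of_proper inf_le_right hYX hXne
  refine hn (mem_normalizer_iff_conjBy.mpr (d.eq_of_pGroup hh (sup_le d.Yle hhL) ?_ le_sup_left le_sup_right))
  exact (red_largest p M).isPGroup.to_sup_of_normal_left' ((red_largest p M).isPGroup.map _)
    ((le_inf le_sup_left hhL).trans hXn)

theorem inf_lt : L ⊓ normalizer ((Y : Subgroup G) : Set G) < L := by
  refine lt_of_le_of_ne inf_le_left fun e => d.Ynot ?_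
  exact le_pCoreOf d.Yle (e.ge.trans inf_le_right) (red_largest p M).isPGroup

theorem charP : centralizer (Cfsg.pCore p ↥L : Set ↥L) ≤ Cfsg.pCore p ↥L := by
  set X := L ⊔ R
  have hX : X ≤ H := sup_le d.le (pCoreOf_le p H)
  have h1 := charP_of_core_le d.frakH.1 (le_sup_right : R ≤ X) hX
  exact charP_of_normalized h1 le_sup_left (sup_le le_normalizer d.R_normL)

/-- The conjugates of `Y ∩ O_p(L)` lie in `O_p(H)`. -/
theorem inf_core_le : Cfsg.pCoreOf p L ⊓ Y ≤ R := by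
  obtain ⟨hdec, B₀, Z, ⟨x, hxL, hB₀⟩, hBR, hZ, hZc, hVn, hRB, hwC, hZcomm⟩ := d.core_facts
  set D := R ⊓ centralizer ((Y : Subgroup G) : Set G) with hD
  have hY0D : Y ⊓ R ≤ D := fun v hv => ⟨hv.2, fun y hy => d.Ycomm hy hv.1⟩
  set F := D ⊔ B₀
  have hFR : F ≤ R := sup_le inf_le_left hBR
  have hDB : D ≤ normalizer (B₀ : Set G) := fun e he => hRB e he.1
  have hOn := (core_le_normalizer d.ctx d.asym d.frakH.2.1).1
  -- `H` normalises `F`
  have hFn : H ≤ normalizer (F : Set G) := by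
    conv_lhs => rw [← d.sup_eq]
    refine sup_le (le_normalizer_of_conj fun l hl f hf => ?_) (le_normalizer_of_conj fun o ho f hf => ?_)
    · have h1 : F ≤ F.comap (MulAut.conj l).toMonoidHom := by
        have hV : Y ⊓ R ⊔ B₀ ≤ F := sup_le (hY0D.trans le_sup_left) le_sup_right
        refine sup_le (fun e he => ?_) fun w hw => hV (conj_mem_of_le_normalizer hVn hl (mem_sup_right hw))
        obtain ⟨v, hv, hve⟩ := hdec e he.1 he.2
        show l * e * l⁻¹ ∈ F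
        rw [show l * e * l⁻¹ = (l * v * l⁻¹) * (l * (v⁻¹ * e) * l⁻¹) by group,
          show l * (v⁻¹ * e) = v⁻¹ * e * l from hve l hl, mul_inv_cancel_right]
        exact mul_mem (hV (conj_mem_of_le_normalizer hVn hl (mem_sup_left hv)))
          (mem_sup_left (mul_mem (inv_mem (hY0D hv)) he))
      exact h1 hf
    · have hfR := hFR hf
      rw [show o * f * o⁻¹ = (o * f * o⁻¹ * f⁻¹) * f by group]
      refine mul_mem (mem_sup_left ⟨mul_mem (conj_mem_of_le_normalizer d.Rn (d.frakH.2.1 ho) hfR)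
        ((R : Subgroup G).inv_mem hfR), ?_⟩) hf
      rw [show o * f * o⁻¹ * f⁻¹ = o * (f * o⁻¹ * f⁻¹) by group]
      exact d.OC (mul_mem ho (conj_mem_of_le_normalizer hOn hfR (inv_mem ho)))
  -- `Z` is central in `H`
  have hZH : ∀ g ∈ H, ∀ z ∈ Z, g * z = z * g := by
    have h1 : H ≤ centralizer (Z : Set G) := by
      conv_lhs => rw [← d.sup_eq]
      exact sup_le (fun l hl z hz => (hZc hz l hl).symm) fun o ho z hz => d.OC ho z (hZ hz).1
    exact fun g hg z hz => ((h1 hg) z hz).symm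
  let N : Subgroup G :=
    { carrier := {g | g ∈ H ∧ (∀ r ∈ R, g * r * g⁻¹ * r⁻¹ ∈ F) ∧ ∀ f ∈ F, g * f * g⁻¹ * f⁻¹ ∈ Z}
      one_mem' := ⟨one_mem _, fun r _ => by simp, fun r _ => by simp⟩
      mul_mem' := by
        rintro a b ⟨ha, a1, a2⟩ ⟨hb, b1, b2⟩
        refine ⟨mul_mem ha hb, fun r hr => ?_, fun f hf => ?_⟩
        · rw [show a * b * r * (a * b)⁻¹ * r⁻¹ =
            (a * (b * r * b⁻¹) * a⁻¹ * (b * r * b⁻¹)⁻¹) * (b * r * b⁻¹ * r⁻¹) by group]
          exact mul_mem (a1 _ (conj_mem_of_le_normalizer d.Rn hb hr)) (b1 r hr)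
        · rw [show a * b * f * (a * b)⁻¹ * f⁻¹ =
            (a * (b * f * b⁻¹) * a⁻¹ * (b * f * b⁻¹)⁻¹) * (b * f * b⁻¹ * f⁻¹) by group]
          exact mul_mem (a2 _ (conj_mem_of_le_normalizer hFn hb hf)) (b2 f hf)
      inv_mem' := by
        rintro a ⟨ha, a1, a2⟩
        refine ⟨inv_mem ha, fun r hr => ?_, fun f hf => ?_⟩
        · have := a1 _ (conj_mem_of_le_normalizer d.Rn (inv_mem ha) hr)
          have := inv_mem this
          simpa [mul_assoc] using this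
        · have := a2 _ (conj_mem_of_le_normalizer hFn (inv_mem ha) hf)
          have := inv_mem this
          simpa [mul_assoc] using this }
  have hNn : H ≤ normalizer (N : Set G) := by
    refine le_normalizer_of_conj fun g hg a ha => ?_
    obtain ⟨haH, a1, a2⟩ := ha
    refine ⟨mul_mem (mul_mem hg haH) (inv_mem hg), fun r hr => ?_, fun f hf => ?_⟩
    · have hr' : g⁻¹ * r * g ∈ R := by simpa using conj_mem_of_le_normalizer d.Rn (inv_mem hg) hr
      rw [show g * a * g⁻¹ * r * (g * a * g⁻¹)⁻¹ * r⁻¹ =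
        g * (a * (g⁻¹ * r * g) * a⁻¹ * (g⁻¹ * r * g)⁻¹) * g⁻¹ by group]
      exact conj_mem_of_le_normalizer hFn hg (a1 _ hr')
    · have hf' : g⁻¹ * f * g ∈ F := by simpa using conj_mem_of_le_normalizer hFn (inv_mem hg) hf
      rw [show g * a * g⁻¹ * f * (g * a * g⁻¹)⁻¹ * f⁻¹ =
        g * (a * (g⁻¹ * f * g) * a⁻¹ * (g⁻¹ * f * g)⁻¹) * g⁻¹ by group,
        hZH g hg _ (a2 _ hf'), mul_inv_cancel_right]
      exact a2 _ hf'
  have hNp : IsPGroup p ↥N := by
    rintro ⟨a, haH, a1, a2⟩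
    obtain ⟨k, hk⟩ := ((isPGroup_pCoreOf p H).to_le hFR).exists_card_eq
    have hpZ : ∀ z ∈ Z, z ^ p = 1 := fun z hz => d.hY_pow (hZ hz).1
    have haF : ∀ f ∈ F, a ^ p * f * (a ^ p)⁻¹ = f := by
      intro f hf
      set z := a * f * a⁻¹ * f⁻¹
      have hz : z ∈ Z := a2 f hf
      have hm : ∀ m : ℕ, a ^ m * f * (a ^ m)⁻¹ = z ^ m * f := by
        intro m
        induction m with
        | zero => simp
        | succ m ih =>
          rw [pow_succ', show a * a ^ m * f * (a * a ^ m)⁻¹ = a * (a ^ m * f * (a ^ m)⁻¹) * a⁻¹ by group,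
            ih, show a * (z ^ m * f) * a⁻¹ = (a * z ^ m) * f * a⁻¹ by group,
            hZH a haH _ (pow_mem hz m), pow_succ]
          simp only [z]
          group
      rw [hm p, hpZ z hz, one_mul]
    set c := a ^ p with hc
    have hcR : ∀ r ∈ R, c ^ p ^ k * r * (c ^ p ^ k)⁻¹ = r := by
      intro r hr
      set u := c * r * c⁻¹ * r⁻¹
      have hu : u ∈ F := ((pow_mem (show a ∈ N from ⟨haH, a1, a2⟩) p) : a ^ p ∈ N).2.1 r hr
      have hm : ∀ m : ℕ, c ^ m * r * (c ^ m)⁻¹ = u ^ m * r := by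
        intro m
        induction m with
        | zero => simp
        | succ m ih =>
          rw [pow_succ', show c * c ^ m * r * (c * c ^ m)⁻¹ = c * (c ^ m * r * (c ^ m)⁻¹) * c⁻¹ by group,
            ih, show c * (u ^ m * r) * c⁻¹ = (c * u ^ m * c⁻¹) * (c * r * c⁻¹) by group,
            haF _ (pow_mem hu m), pow_succ]
          simp only [u]
          group
      rw [hm, orderOf_dvd_iff_pow_eq_one.mp (hk ▸ Subgroup.orderOf_dvd_natCard _ hu), one_mul]
    have hcn : c ^ p ^ k ∈ R := charp_inf d.frakH.1 ⟨pow_mem (pow_mem haH _) _, fun r hr => by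
      have := hcR r hr
      rw [mul_inv_eq_iff_eq_mul] at this
      exact this.symm⟩
    obtain ⟨j, hj⟩ := isPGroup_pCoreOf p H ⟨_, hcn⟩
    refine ⟨1 + k + j, Subtype.ext ?_⟩
    have hj' := congrArg Subtype.val hj
    simp only [SubmonoidClass.coe_pow, OneMemClass.coe_one] at hj' ⊢
    rw [hc, ← pow_mul, ← pow_mul] at hj'
    rw [pow_add, pow_add, pow_one, mul_assoc]
    exact hj'
  have hNR : N ≤ R := le_pCoreOf (fun a ha => ha.1) hNn hNp
  rintro u ⟨huL, huY⟩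
  refine hNR ⟨d.YH huY, fun r hr => ?_, fun f hf => ?_⟩
  · refine mem_sup_left (hY0D ⟨?_, mul_mem (conj_mem_of_le_normalizer d.Rn (d.YH huY) hr) ((R : Subgroup G).inv_mem hr)⟩)
    rw [show u * r * u⁻¹ * r⁻¹ = u * (r * u⁻¹ * r⁻¹) by group]
    exact mul_mem huY (conj_mem_of_le_normalizer d.R_normY hr (inv_mem huY))
  · obtain ⟨e, he, w, hw, rfl⟩ := exists_mul_of_mem_sup hDB hf
    have hue : u * e * u⁻¹ = e := by
      rw [show u * e = e * u from he.2 u huY, mul_inv_cancel_right]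
    have hun : u ∈ normalizer (B₀ : Set G) := by
      have hxx : conjBy x Y ≤ L := (conjBy_mono x d.Yle).trans (conjBy_of_mem hxL).le
      set P := Cfsg.pCoreOf p L ⊔ conjBy x Y
      have hPp : IsPGroup p ↥P := (isPGroup_pCoreOf p L).to_sup_of_normal_left'
        ((red_largest p M).isPGroup.map _) (hxx.trans (le_normalizer_pCoreOf p L))
      have hB : P ≤ normalizer ((conjBy x Y : Subgroup G) : Set G) := by
        have e1 : conjBy x⁻¹ P ≤ normalizer ((Y : Subgroup G) : Set G) :=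
          d.le_normalizer_of_pGroup ((conjBy_mono _ (sup_le (pCoreOf_le p L) hxx)).trans
            (conjBy_of_mem (inv_mem hxL)).le) (hPp.map _)
            (by rw [← conjBy_inv_self x Y]; exact conjBy_mono _ le_sup_right)
        rw [normalizer_conjBy]
        exact (conjBy_le_iff.mp e1).trans (by rw [inv_inv])
      rw [hB₀]
      exact le_normalizer_inf (X := zpowers u) (zpowers_le.mpr (hB (mem_sup_left huL)))
        (zpowers_le.mpr (d.Rn (d.YH huY))) (mem_zpowers u)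
    have hz := hZcomm u huY hun w hw
    rw [show u * (e * w) * u⁻¹ * (e * w)⁻¹ = (u * e * u⁻¹) * (u * w * u⁻¹ * w⁻¹) * e⁻¹ by group,
      hue, hZH e (pCoreOf_le p H he.1) _ hz, mul_inv_cancel_right]
    exact hz

end Data

end Cfsg.Agent.LocalFrakHMin46
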