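import Mathlib
import Cfsg.Prelude.Def_Amalgam
import Cfsg.Agent.Lib.ComponentsFitting
import Cfsg.Agent.Lib.ComponentsCores
import Cfsg.Agent.Lib.TransferPResidual
import Cfsg.Agent.Lib.CharPBasic
import Cfsg.Agent.Lib.CoprimeAction
import Cfsg.Agent.Lib.PGroupsBasic

/-!
`O^p(F*(H))` for subgroups, and a coprime lemma of Frobenius type: if `a` of prime order normalises the
`p'`-group `T`, `C_T(a)` centralises the `p`-group `O` and `T` centralises `C_O(a)`, then `T`
centralises `O`.
-/

set_option autoImplicit false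
set_option linter.unusedSectionVars false

open scoped commutatorElement Pointwise
open Subgroup

namespace Cfsg.Agent.LocalResidual20

open Cfsg.Agent.ComponentsFitting Cfsg.Agent.ComponentsBasic

variable {X : Type*} [Group X] [Finite X] {p : ℕ} [Fact p.Prime]

/-- The generalised Fitting subgroup of a subgroup. -/
abbrev Fst (H : Subgroup X) : Subgroup X := (Cfsg.generalizedFittingSubgroup ↥H).map H.subtype

/-- `O^p(F*(H))`. -/
abbrev Res (p : ℕ) (H : Subgroup X) : Subgroup X :=
  ((Cfsg.pResidual p ↥(Cfsg.generalizedFittingSubgroup ↥H)).map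
    (Cfsg.generalizedFittingSubgroup ↥H).subtype).map H.subtype

theorem centralizer_zpowers {Γ : Type*} [Group Γ] (x : Γ) :
    centralizer (zpowers x : Set Γ) = centralizer ({x} : Set Γ) :=
  le_antisymm (centralizer_le fun y hy => by rw [Set.mem_singleton_iff.1 hy]; exact mem_zpowers x)
    fun g hg => mem_centralizer_iff.2 fun y hy => by
      obtain ⟨n, rfl⟩ := hy
      exact ((show Commute g x from mem_centralizer_singleton_iff.1 hg).zpow_right n).eq.symm

theorem fst_le (H : Subgroup X) : Fst H ≤ H := map_subtype_le _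

theorem res_le_fst (H : Subgroup X) : Res p H ≤ Fst H := map_mono (map_subtype_le _)

theorem res_le (H : Subgroup X) : Res p H ≤ H := map_subtype_le _

theorem mem_res {H : Subgroup X} {x : X} (hx : x ∈ Fst H) (hc : (orderOf x).Coprime p) :
    x ∈ Res p H := by
  obtain ⟨y, hy, rfl⟩ := hx
  refine mem_map_of_mem _ ⟨⟨y, hy⟩, TransferPResidual.mem_pResidual_of_coprime ?_, rfl⟩
  rwa [← orderOf_injective (Cfsg.generalizedFittingSubgroup ↥H).subtype (Subgroup.subtype_injective _),
    ← orderOf_injective H.subtype H.subtype_injective]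

theorem res_le_iff {H K : Subgroup X} :
    Res p H ≤ K ↔ ∀ x ∈ Fst H, (orderOf x).Coprime p → x ∈ K := by
  refine ⟨fun h x hx hc => h (mem_res hx hc), fun h => ?_⟩
  rw [map_le_iff_le_comap, map_le_iff_le_comap, TransferPResidual.pResidual_le_iff_coprime]
  intro g hg
  refine h _ (mem_map_of_mem _ g.2) ?_
  have : orderOf ((g : ↥H) : X) = orderOf g :=
    orderOf_injective (H.subtype.comp (Cfsg.generalizedFittingSubgroup ↥H).subtype)
      (H.subtype_injective.comp (Subgroup.subtype_injective _)) g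
  exact this.symm ▸ hg

theorem normalizer_le_fst (H : Subgroup X) :
    normalizer (H : Set X) ≤ normalizer (Fst H : Set X) :=
  ComponentsCores.normalizer_le_normalizer_map_subtype H _

theorem normalizer_le_res (H : Subgroup X) :
    normalizer (H : Set X) ≤ normalizer (Res p H : Set X) := by
  intro g hg
  have key : ∀ g ∈ normalizer (H : Set X), Res p H ≤ (Res p H).comap (MulAut.conj g).toMonoidHom :=
    fun g hg => res_le_iff.2 fun x hx hc => mem_res
      (CoprimeAction.conj_mem (normalizer_le_fst H hg) hx) (by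
        rwa [MulEquiv.coe_toMonoidHom, MulEquiv.orderOf_eq])
  refine mem_normalizer_iff.2 fun x => ⟨fun hx => key g hg hx, fun hx => ?_⟩
  simpa [mul_assoc] using key g⁻¹ (inv_mem hg) hx

theorem normalizer_le_op (H : Subgroup X) :
    normalizer (H : Set X) ≤ normalizer (Cfsg.pCoreOf p H : Set X) :=
  haveI := HallCore.pCore_characteristic p ↥H
  ComponentsCores.normalizer_le_normalizer_map_subtype H _

theorem op_le (H : Subgroup X) : Cfsg.pCoreOf p H ≤ H := map_subtype_le _

theorem isPGroup_op (H : Subgroup X) : IsPGroup p (Cfsg.pCoreOf p H) :=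
  (HallCore.isPGroup_pCore p ↥H).map _

theorem le_op {H Q : Subgroup X} (hQH : Q ≤ H) (hn : H ≤ normalizer (Q : Set X))
    (hQ : IsPGroup p Q) : Q ≤ Cfsg.pCoreOf p H := by
  haveI := normal_subgroupOf_of_le_normalizer hn
  rw [← map_subgroupOf_eq_of_le hQH]
  exact map_mono (HallCore.le_pCore (hQ.of_equiv (subgroupOfEquivOfLe hQH).symm))

theorem perfect_le_pResidual {Γ : Type*} [Group Γ] [Finite Γ] {L : Subgroup Γ} (hL : ⁅L, L⁆ = L) :
    L ≤ Cfsg.pResidual p Γ := by
  haveI : (Cfsg.pResidual p Γ).Normal := inferInstance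
  haveI := (TransferPResidual.isPGroup_quotient_pResidual (G := Γ) (p := p)).isNilpotent
  exact perfect_le_of_quotient_solvable hL _

theorem perfect_le_res {E H : Subgroup X} (hE : ⁅E, E⁆ = E) (hEF : E ≤ Fst H) : E ≤ Res p H := by
  set f := H.subtype.comp (Cfsg.generalizedFittingSubgroup ↥H).subtype with hf
  have hfi : Function.Injective f := H.subtype_injective.comp (Subgroup.subtype_injective _)
  have hr : f.range = Fst H := by
    rw [hf, MonoidHom.range_comp, range_subtype]
  have hmap : (E.comap f).map f = E := map_comap_eq_self (hr ▸ hEF)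
  have hp : ⁅E.comap f, E.comap f⁆ = E.comap f :=
    map_injective hfi (by rw [map_commutator, hmap, hE])
  calc E = (E.comap f).map f := hmap.symm
    _ ≤ (Cfsg.pResidual p _).map f := map_mono (perfect_le_pResidual hp)
    _ = Res p H := (Subgroup.map_map _ _ _).symm

theorem fst_le_sup (H : Subgroup X) : Fst H ≤ Cfsg.pCoreOf p H ⊔ Res p H := by
  rw [Fst, Cfsg.generalizedFittingSubgroup, fittingSubgroup_eq_iSup, Subgroup.map_sup, Subgroup.map_iSup]
  refine sup_le (le_sup_of_le_right (perfect_le_res ?_ (map_mono layer_le_gen))) (iSup_le fun q => ?_)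
  · rw [← map_commutator, layer_perfect]
  rcases eq_or_ne (q : ℕ) p with h | h
  · rw [h]; exact le_sup_left
  haveI := Fact.mk (Nat.prime_of_mem_primeFactors q.2)
  refine le_sup_of_le_right fun x hx => mem_res (map_mono
    ((pCore_le_fitting (Fact.out : (q : ℕ).Prime)).trans fitting_le_gen) hx) ?_
  obtain ⟨k, hk⟩ := IsPGroup.iff_orderOf.mp ((HallCore.isPGroup_pCore (q : ℕ) ↥H).map H.subtype) ⟨x, hx⟩
  rw [Subgroup.orderOf_mk] at hk
  rw [hk]
  exact Nat.Coprime.pow_left _ ((Nat.coprime_primes Fact.out Fact.out).2 h)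

theorem op_le_centralizer_res (H : Subgroup X) :
    Cfsg.pCoreOf p H ≤ centralizer (Res p H : Set X) := by
  rw [le_centralizer_iff, res_le_iff]
  intro x hx hc
  obtain ⟨y, hy, rfl⟩ := hx
  haveI := HallCore.pCore_normal p ↥H
  set K := centralizer ((Cfsg.pCore p ↥H : Subgroup ↥H) : Set ↥H)
  suffices hyK : y ∈ K by
    refine mem_centralizer_iff.2 ?_
    rintro _ ⟨t, ht, rfl⟩
    rw [← map_mul, ← map_mul, mem_centralizer_iff.1 hyK t ht]
  have hle : Cfsg.generalizedFittingSubgroup ↥H ≤ Cfsg.pCore p ↥H ⊔ K := by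
    rw [Cfsg.generalizedFittingSubgroup, fittingSubgroup_eq_iSup]
    refine sup_le (le_sup_of_le_right (layer_le_centralizer_fitting.trans
      (centralizer_le (pCore_le_fitting Fact.out)))) (iSup_le fun q => ?_)
    rcases eq_or_ne (q : ℕ) p with h | h
    · rw [h]; exact le_sup_left
    · exact le_sup_of_le_right fun z hz => mem_centralizer_iff.2 fun t ht =>
        (commute_pCore Fact.out (Nat.prime_of_mem_primeFactors q.2) (Ne.symm h) t z ht hz).eq
  obtain ⟨t, ht, k, hk, rfl⟩ := Subgroup.mem_sup_of_normal_right.mp (hle hy)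
  refine K.mul_mem ?_ hk
  rw [← QuotientGroup.eq_one_iff]
  refine CharPBasic.eq_one_of_coprime_of_mem ((HallCore.isPGroup_pCore p ↥H).map (QuotientGroup.mk' K))
    (mem_map_of_mem _ ht) ?_
  show (orderOf ((QuotientGroup.mk' K) t)).Coprime p
  have h1 : (QuotientGroup.mk' K) t = (QuotientGroup.mk' K) (t * k) := by
    rw [map_mul, show (QuotientGroup.mk' K) k = 1 from (QuotientGroup.eq_one_iff k).2 hk, mul_one]
  rw [h1]
  refine Nat.Coprime.coprime_dvd_left ?_ hc
  rw [orderOf_injective H.subtype H.subtype_injective]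
  exact orderOf_map_dvd _ _

theorem mem_fst_of_commute {H : Subgroup X} {x : X} (hx : x ∈ H)
    (hop : x ∈ centralizer (Cfsg.pCoreOf p H : Set X)) (hres : x ∈ centralizer (Res p H : Set X)) :
    x ∈ Fst H ∧ x ∈ centralizer (Fst H : Set X) := by
  have h : x ∈ centralizer (Fst H : Set X) := by
    have h1 : Cfsg.pCoreOf p H ⊔ Res p H ≤ centralizer ({x} : Set X) :=
      sup_le (fun t ht => mem_centralizer_singleton_iff.2 (mem_centralizer_iff.1 hop t ht))
        (fun t ht => mem_centralizer_singleton_iff.2 (mem_centralizer_iff.1 hres t ht))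
    exact mem_centralizer_iff.2 fun y hy =>
      mem_centralizer_singleton_iff.1 (h1 (fst_le_sup H hy))
  refine ⟨?_, h⟩
  have h2 : (⟨x, hx⟩ : ↥H) ∈ centralizer (Cfsg.generalizedFittingSubgroup ↥H : Set ↥H) :=
    mem_centralizer_iff.2 fun y hy => Subtype.ext (mem_centralizer_iff.1 h y (mem_map_of_mem _ hy))
  exact ⟨_, centralizer_gen_le h2, rfl⟩

theorem mem_res_of_commute {H : Subgroup X} {x : X} (hx : x ∈ H) (hc : (orderOf x).Coprime p)
    (hop : x ∈ centralizer (Cfsg.pCoreOf p H : Set X)) (hres : x ∈ centralizer (Res p H : Set X)) :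
    x ∈ Res p H :=
  mem_res (mem_fst_of_commute hx hop hres).1 hc

theorem fst_map_subgroupOf {K H : Subgroup X} (h : K ≤ H) :
    (Fst (K.subgroupOf H)).map H.subtype = Fst K := by
  rw [Fst, Subgroup.map_map, Fst, ← gen_map_mulEquiv (subgroupOfEquivOfLe h), Subgroup.map_map]
  rfl

theorem fst_mono {K H : Subgroup X} (h : K ≤ H) (hn : H ≤ normalizer (K : Set X)) :
    Fst K ≤ Fst H := by
  haveI := normal_subgroupOf_of_le_normalizer hn
  rw [← fst_map_subgroupOf h]
  exact map_mono (gen_map_subtype_le (Normal.isSubnormal inferInstance))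

/-- The layer of a subgroup. -/
abbrev Lay (H : Subgroup X) : Subgroup X := (Cfsg.layer ↥H).map H.subtype

theorem lay_perfect (H : Subgroup X) : ⁅Lay H, Lay H⁆ = Lay H := by
  rw [← map_commutator, layer_perfect]

theorem lay_le_fst {G K : Subgroup X} (hK : K ≤ G) (hEK : Lay G ≤ K) : Lay G ≤ Fst K := by
  rw [← fst_map_subgroupOf hK]
  refine map_mono (sSup_le fun L hL => ?_)
  have hLK : L ≤ K.subgroupOf G := fun x hx => mem_subgroupOf.2
    (hEK (mem_map_of_mem _ (component_le_layer hL hx)))
  rw [← map_subgroupOf_eq_of_le hLK]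
  exact map_mono (component_le_gen (isComponent_subgroupOf hL hLK))

/-! ### The Frobenius type lemma -/

theorem eq_bot_of_fpf {V : Type*} [CommGroup V] [Finite V] (hV : IsPGroup p V)
    (T : Subgroup (MulAut V)) (α : MulAut V) {r : ℕ} [Fact r.Prime] (hα : α ^ r = 1)
    (hαT : ∀ t ∈ T, α * t * α⁻¹ ∈ T) (hfpf : ∀ t ∈ T, t * α = α * t → t = 1)
    (hT : (Nat.card T).Coprime p) (hfix : ∀ v, α v = v → ∀ t ∈ T, t v = v) : T = ⊥ := by
  classical
  haveI : Finite (MulAut V) := Finite.of_injective _ DFunLike.coe_injective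
  haveI := Fintype.ofFinite T
  have hpow : ∀ i : ℕ, ∀ t ∈ T, α ^ i * t * (α ^ i)⁻¹ ∈ T := by
    intro i
    induction i with
    | zero => simp
    | succ i ih =>
      intro t ht
      have := hαT _ (ih t ht)
      rw [pow_succ']
      simpa [mul_assoc] using this
  have hpow' : ∀ i : ℕ, ∀ t ∈ T, (α ^ i)⁻¹ * t * α ^ i ∈ T := by
    intro i t ht
    have h1 : (α ^ i)⁻¹ = α ^ (r * i - i) := by
      rw [inv_eq_iff_mul_eq_one, ← pow_add,
        Nat.add_sub_cancel' (Nat.le_mul_of_pos_left i (Fact.out : r.Prime).pos), pow_mul, hα, one_pow]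
    have h2 := hpow (r * i - i) t ht
    rwa [← h1, inv_inv] at h2
  let u : V → V := fun v => ∏ t : T, (t : MulAut V) v
  let N : V → V := fun w => ∏ i ∈ Finset.range r, (α ^ i) w
  have hN : ∀ w, α (N w) = N w := by
    intro w
    have h1 := Finset.prod_range_succ' (fun i => (α ^ i) w) r
    have h2 := Finset.prod_range_succ (fun i => (α ^ i) w) r
    rw [hα] at h2
    simp only [pow_zero, MulAut.one_apply] at h1 h2
    simp only [N, map_prod]
    calc ∏ i ∈ Finset.range r, α ((α ^ i) w) = ∏ i ∈ Finset.range r, (α ^ (i + 1)) w :=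
          Finset.prod_congr rfl fun i _ => by rw [pow_succ', MulAut.mul_apply]
      _ = _ := mul_right_cancel (h1.symm.trans h2)
  have hu : ∀ v, u v = v ^ Fintype.card T := by
    intro v
    have hinv : ∏ t : T, (t : MulAut V)⁻¹ v = u v :=
      Fintype.prod_equiv (Equiv.inv T) _ _ fun t => rfl
    have hA : ∏ t : T, (t : MulAut V) (N ((t : MulAut V)⁻¹ v)) = N (u v) := by
      rw [Finset.prod_congr rfl fun (t : T) _ => hfix _ (hN _) t t.2]
      simp only [N]
      rw [Finset.prod_comm]
      refine Finset.prod_congr rfl fun i _ => ?_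
      rw [← hinv, map_prod]
    have hB : ∀ i ∈ Finset.range r, i ≠ 0 →
        ∏ t : T, ((t : MulAut V) * α ^ i * (t : MulAut V)⁻¹) v = (α ^ i) (u v) := by
      intro i hi hi0
      have hcomm : ∀ s ∈ T, s * α ^ i = α ^ i * s → s = 1 := by
        intro s hs hsi
        refine hfpf s hs ?_
        have hd : orderOf α ∣ r := orderOf_dvd_of_pow_eq_one hα
        obtain ⟨m, hm⟩ := exists_pow_eq_self_of_coprime (n := i) (x := α)
          ((Nat.Coprime.coprime_dvd_right hd (((Fact.out : r.Prime).coprime_iff_not_dvd).2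
            (Nat.not_dvd_of_pos_of_lt (Nat.pos_of_ne_zero hi0) (Finset.mem_range.1 hi))).symm))
        have := (show Commute s (α ^ i) from hsi).pow_right m
        rwa [hm] at this
      let f : T → T := fun t => ⟨(t : MulAut V) * α ^ i * (t : MulAut V)⁻¹ * (α ^ i)⁻¹, by
        have := mul_mem t.2 (hpow i _ (inv_mem t.2))
        simpa [mul_assoc] using this⟩
      have hf : Function.Injective f := fun s t h => by
        have h1 : (s : MulAut V) * α ^ i * (s : MulAut V)⁻¹ = t * α ^ i * (t : MulAut V)⁻¹ :=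
          mul_right_cancel (congrArg Subtype.val h)
        have h2 : ((t : MulAut V)⁻¹ * s) * α ^ i = α ^ i * ((t : MulAut V)⁻¹ * s) := by
          calc ((t : MulAut V)⁻¹ * s) * α ^ i
              = (t : MulAut V)⁻¹ * ((s : MulAut V) * α ^ i * (s : MulAut V)⁻¹) * s := by group
            _ = _ := by rw [h1]; group
        exact (Subtype.ext (inv_mul_eq_one.1 (hcomm _ (mul_mem (inv_mem t.2) s.2) h2))).symm
      let e : T ≃ T :=
        { toFun := fun t => ⟨(α ^ i)⁻¹ * (t : MulAut V) * α ^ i, hpow' i t t.2⟩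
          invFun := fun t => ⟨α ^ i * (t : MulAut V) * (α ^ i)⁻¹, hpow i t t.2⟩
          left_inv := fun t => Subtype.ext (by simp [mul_assoc])
          right_inv := fun t => Subtype.ext (by simp [mul_assoc]) }
      calc ∏ t : T, ((t : MulAut V) * α ^ i * (t : MulAut V)⁻¹) v
          = ∏ t : T, ((f t : T) : MulAut V) ((α ^ i) v) := Finset.prod_congr rfl fun t _ => by
            show _ = ((t : MulAut V) * α ^ i * (t : MulAut V)⁻¹ * (α ^ i)⁻¹) ((α ^ i) v)
            simp only [MulAut.mul_apply, MulAut.inv_apply_self]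
        _ = ∏ t : T, (t : MulAut V) ((α ^ i) v) := Fintype.prod_equiv
            (Equiv.ofBijective f (Finite.injective_iff_bijective.1 hf)) _ _ fun t => rfl
        _ = ∏ t : T, (α ^ i) ((t : MulAut V) v) := Fintype.prod_equiv e _ _ fun t => by
            show (t : MulAut V) ((α ^ i) v) = (α ^ i) (((α ^ i)⁻¹ * t * α ^ i) v)
            simp only [MulAut.mul_apply, MulAut.apply_inv_self]
        _ = (α ^ i) (u v) := by rw [map_prod]
    have h0 : (0 : ℕ) ∈ Finset.range r := Finset.mem_range.2 (Fact.out : r.Prime).pos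
    have hsum : ∏ t : T, (t : MulAut V) (N ((t : MulAut V)⁻¹ v)) =
        v ^ Fintype.card T * ∏ i ∈ (Finset.range r).erase 0, (α ^ i) (u v) := by
      simp only [N, map_prod]
      rw [Finset.prod_comm, ← Finset.mul_prod_erase _ _ h0]
      congr 1
      · simp only [pow_zero, MulAut.one_apply, MulAut.apply_inv_self]
        rw [Finset.prod_const, Finset.card_univ]
      · refine Finset.prod_congr rfl fun i hi => ?_
        rw [← hB i (Finset.mem_of_mem_erase hi) (Finset.ne_of_mem_erase hi)]
        rfl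
    rw [hA] at hsum
    simp only [N] at hsum
    rw [← Finset.mul_prod_erase _ _ h0, pow_zero, MulAut.one_apply] at hsum
    exact mul_right_cancel hsum
  obtain ⟨n, hn⟩ := IsPGroup.iff_card.1 hV
  have hcop : (Nat.card V).Coprime (Fintype.card T) := by
    rw [hn, ← Nat.card_eq_fintype_card]; exact (hT.pow_right n).symm
  rw [eq_bot_iff_forall]
  intro s hs
  refine MulEquiv.ext fun v => (powCoprime hcop).injective ?_
  simp only [powCoprime_apply, MulAut.one_apply]
  rw [← map_pow, ← hu]
  simp only [u, map_prod]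
  exact Fintype.prod_equiv (Equiv.mulLeft (⟨s, hs⟩ : T)) _ _ fun t => rfl

/-- **Frobenius type lemma.** -/
theorem centralizes_of_fixed {O T : Subgroup X} {a : X} {r : ℕ} [Fact r.Prime]
    (hO : IsPGroup p O) (hTO : T ≤ normalizer (O : Set X)) (haO : a ∈ normalizer (O : Set X))
    (haT : a ∈ normalizer (T : Set X)) (har : a ^ r = 1) (hT : (Nat.card T).Coprime p)
    (hrT : (orderOf a).Coprime (Nat.card T)) (hra : (orderOf a).Coprime p)
    (h1 : T ⊓ centralizer ({a} : Set X) ≤ centralizer (O : Set X))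
    (h2 : O ⊓ centralizer ({a} : Set X) ≤ centralizer (T : Set X)) :
    T ≤ centralizer (O : Set X) := by
  set Nm := normalizer (O : Set X)
  set O' := O.subgroupOf Nm
  set T' := T.subgroupOf Nm
  set a' : Nm := ⟨a, haO⟩
  have hON : O ≤ Nm := le_normalizer
  haveI : O'.Normal := normal_subgroupOf_of_le_normalizer (le_refl Nm)
  have hO' : IsPGroup p O' := hO.of_equiv (subgroupOfEquivOfLe hON).symm
  set D := (frattini O').map O'.subtype
  haveI : D.Normal := inferInstance
  set π := QuotientGroup.mk' D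
  set V := O'.map π
  haveI : V.Normal := Normal.map inferInstance π (QuotientGroup.mk'_surjective D)
  have hVc : ∀ x ∈ V, ∀ y ∈ V, x * y = y * x := by
    rintro _ ⟨x, hx, rfl⟩ _ ⟨y, hy, rfl⟩
    rw [← commutatorElement_eq_one_iff_mul_comm, ← map_commutatorElement]
    refine (QuotientGroup.eq_one_iff _).2 ⟨⁅(⟨x, hx⟩ : O'), ⟨y, hy⟩⁆, ?_, rfl⟩
    exact PGroupsBasic.commutator_le_frattini hO'
      (_root_.commutator_def O' ▸ commutator_mem_commutator (mem_top _) (mem_top _))
  letI : CommGroup V := { (inferInstance : Group V) with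
    mul_comm := fun x y => Subtype.ext (hVc x x.2 y y.2) }
  let θ : Nm →* MulAut V := (MulAut.conjNormal (H := V)).comp π
  have hθ : ∀ (g : Nm) (v : V), ((θ g v : V) : Nm ⧸ D) = π g * v * (π g)⁻¹ :=
    fun g v => MulAut.conjNormal_apply _ _
  have hA : zpowers a' ≤ normalizer (T' : Set Nm) := by
    rw [zpowers_le]
    exact mem_normalizer_iff.2 fun x => mem_normalizer_iff.1 haT x
  have hoa : orderOf a' = orderOf a := Subgroup.orderOf_mk a haO
  have hcA : (Nat.card (zpowers a')).Coprime (Nat.card T') := by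
    rw [Nat.card_zpowers, hoa]
    exact hrT.coprime_dvd_right (HallCore.card_subgroupOf_dvd T Nm)
  have hcO : (Nat.card (zpowers a')).Coprime (Nat.card O') := by
    obtain ⟨k, hk⟩ := IsPGroup.iff_card.1 hO'
    rw [Nat.card_zpowers, hoa, hk]
    exact hra.pow_right k
  have hbot : T'.map θ = ⊥ := by
    refine eq_bot_of_fpf (r := r) (hO'.map π) _ (θ a') ?_ ?_ ?_ ?_ ?_
    · rw [← map_pow, show a' ^ r = 1 from Subtype.ext har, map_one]
    · rintro _ ⟨t, ht, rfl⟩
      exact ⟨a' * t * a'⁻¹, CoprimeAction.conj_mem (hA (mem_zpowers a')) ht, by simp⟩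
    · rintro s hs hsa
      have hmem : s ∈ T'.map θ ⊓ centralizer ((zpowers a').map θ : Set (MulAut V)) := by
        refine ⟨hs, ?_⟩
        rw [MonoidHom.map_zpowers, centralizer_zpowers]
        exact mem_centralizer_singleton_iff.2 hsa
      rw [← CoprimeAction.map_inf_centralizer_eq θ hA hcA
        (Or.inl (CoprimeAction.isSolvable_zpowers a'))] at hmem
      obtain ⟨t, ⟨ht, htc⟩, rfl⟩ := hmem
      refine MulEquiv.ext fun v => Subtype.ext ?_
      obtain ⟨o, ho, hov⟩ := v.2
      rw [hθ, MulAut.one_apply, ← hov, ← map_mul, ← map_inv, ← map_mul]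
      refine congrArg π (mul_inv_eq_iff_eq_mul.2 (Subtype.ext ?_))
      refine (mem_centralizer_iff.1 (h1 ⟨ht, mem_centralizer_singleton_iff.2 ?_⟩) (o : X) ho).symm
      exact (congrArg Subtype.val (mem_centralizer_iff.1 htc a' (mem_zpowers a'))).symm
    · exact hT.coprime_dvd_left ((card_map_dvd _ θ).trans (HallCore.card_subgroupOf_dvd T Nm))
    · rintro v hv _ ⟨t, ht, rfl⟩
      have hmem : (v : Nm ⧸ D) ∈ O'.map π ⊓ centralizer ((zpowers a').map π : Set (Nm ⧸ D)) := by
        refine ⟨v.2, ?_⟩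
        rw [MonoidHom.map_zpowers, centralizer_zpowers]
        refine mem_centralizer_singleton_iff.2 (mul_inv_eq_iff_eq_mul.1 ?_).symm
        rw [← hθ, hv]
      rw [← CoprimeAction.map_inf_centralizer_eq π (by rw [normalizer_eq_top]; exact le_top) hcO
        (Or.inl (CoprimeAction.isSolvable_zpowers a'))] at hmem
      obtain ⟨o, ⟨ho, hoc⟩, hov⟩ := hmem
      refine Subtype.ext ?_
      rw [hθ, ← hov, ← map_mul, ← map_inv, ← map_mul]
      refine congrArg π (mul_inv_eq_iff_eq_mul.2 (Subtype.ext ?_))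
      exact mem_centralizer_iff.1 (h2 ⟨ho, mem_centralizer_singleton_iff.2
        (congrArg Subtype.val (mem_centralizer_iff.1 hoc a' (mem_zpowers a'))).symm⟩) (t : X) ht
  have hmain : T' ≤ centralizer (O' : Set Nm) := by
    refine CoprimeAction.le_centralizer_of_frattini (by rw [normalizer_eq_top]; exact le_top) ?_ ?_
    · obtain ⟨k, hk⟩ := IsPGroup.iff_card.1 (hO'.to_subgroup (frattini O'))
      rw [hk]
      exact (hT.coprime_dvd_left (HallCore.card_subgroupOf_dvd T Nm)).pow_right k
    · intro t ht o ho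
      have h3 : θ t = 1 := by rw [← mem_bot, ← hbot]; exact mem_map_of_mem θ ht
      have h4 := congrArg Subtype.val (DFunLike.congr_fun h3 ⟨π o, mem_map_of_mem π ho⟩)
      rw [hθ, MulAut.one_apply, ← map_mul, ← map_inv, ← map_mul] at h4
      refine (QuotientGroup.eq_one_iff _).1 ?_
      show π _ = 1
      rw [map_mul, h4, map_inv, mul_inv_cancel]
  intro t ht
  exact mem_centralizer_iff.2 fun o ho => congrArg Subtype.val
    (mem_centralizer_iff.1 (hmain (show (⟨t, hTO ht⟩ : Nm) ∈ T' from ht)) ⟨o, hON ho⟩ ho)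

end Cfsg.Agent.LocalResidual20
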