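import Mathlib
import Cfsg.Agent.Lib.QuadPairRed
import Cfsg.Agent.Lib.QuadPairDickson
import Cfsg.Agent.Lib.PSLSimple

/-!
A subgroup of `SL(2, R)`, `R = k[α]` finite commutative, containing both root groups over the prime
field and the translate by `α` of the lower one, contains the translation by `α`.
-/

set_option autoImplicit false
set_option linter.unusedSectionVars false

open scoped MatrixGroups commutatorElement
open Matrix

namespace Cfsg.Agent.QuadTranslate20

open Cfsg.Agent.QuadPairSL2 Cfsg.Agent.QuadPairRed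

universe u

variable {p : ℕ} [Fact p.Prime]

section Basic

variable {R : Type u} [CommRing R] [Algebra (ZMod p) R]

theorem natCast_p_eq_zero : (p : R) = 0 := by
  rw [← map_natCast (algebraMap (ZMod p) R), CharP.cast_eq_zero, map_zero]

/-- The translations in `H`. -/
def trans (H : Subgroup SL(2, R)) : AddSubgroup R where
  carrier := {r | up r ∈ H}
  zero_mem' := by simp [up_zero, H.one_mem]
  add_mem' := fun {r s} hr hs => by show up (r + s) ∈ H; rw [← up_mul]; exact mul_mem hr hs
  neg_mem' := fun {r} hr => by show up (-r) ∈ H; rw [← up_inv]; exact inv_mem hr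

theorem mem_trans {H : Subgroup SL(2, R)} {r : R} : r ∈ trans H ↔ up r ∈ H := Iff.rfl

theorem half (hp : p ≠ 2) {A : AddSubgroup R} {r : R} (h : 2 * r ∈ A) : r ∈ A := by
  obtain ⟨m, hm⟩ := (Fact.out : p.Prime).odd_of_ne_two hp
  have h2 := A.nsmul_mem h (m + 1)
  rw [nsmul_eq_mul] at h2
  have h0 : ((2 * m + 1 : ℕ) : R) = 0 := hm ▸ natCast_p_eq_zero
  push_cast at h2 h0
  convert h2 using 1
  linear_combination -r * h0

/-- The element exchanging the two root groups. -/
theorem lo_mem {H : Subgroup SL(2, R)} (hu : up (1 : R) ∈ H) (hl : lo (1 : R) ∈ H) {r : R}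
    (hr : up r ∈ H) : lo r ∈ H := by
  have hw : (anti : SL(2, R)) ∈ H := by
    rw [anti_eq]; exact mul_mem (mul_mem hu (lo_inv (1 : R) ▸ inv_mem hl)) hu
  have e : anti * up (-r) * (anti : SL(2, R))⁻¹ = lo r := by
    rw [mul_inv_eq_iff_eq_mul]
    apply sl_ext <;> simp [QuadPairSL2.mul_apply]
  rw [← e]
  exact mul_mem (mul_mem hw (up_inv r ▸ inv_mem hr)) (inv_mem hw)

/-- The conjugate of `lo c` by a translation. -/
theorem conj_lo (x c : R) :
    (up x * lo c * up (-x)).1 0 0 = 1 + x * c ∧ (up x * lo c * up (-x)).1 0 1 = -(x * x * c) ∧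
    (up x * lo c * up (-x)).1 1 0 = c ∧ (up x * lo c * up (-x)).1 1 1 = 1 - x * c := by
  refine ⟨?_, ?_, ?_, ?_⟩ <;> simp [QuadPairSL2.mul_apply] <;> ring

end Basic

section Field

variable {F : Type u} [Field F] [Finite F] [Algebra (ZMod p) F]

theorem two_ne (hp : 5 ≤ p) : (2 : ZMod p) ≠ 0 := fun h => by
  have h' : ((2 : ℕ) : ZMod p) = 0 := by simpa using h
  rw [ZMod.natCast_eq_zero_iff] at h'
  have := Nat.le_of_dvd two_pos h'
  omega

theorem card_ne (hp : 5 ≤ p) : Nat.card (ZMod p) ≠ 3 := by rw [Nat.card_zmod]; omega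

theorem up_mem_field (hp : 5 ≤ p) (α : F) (H : Subgroup SL(2, F))
    (hu : ∀ c : ZMod p, up (algebraMap (ZMod p) F c) ∈ H)
    (hl : ∀ c : ZMod p, lo (algebraMap (ZMod p) F c) ∈ H)
    (hc : ∀ c : ZMod p, up α * lo (algebraMap (ZMod p) F c) * up (-α) ∈ H) : up α ∈ H := by
  have h1u : up (1 : F) ∈ H := by simpa using hu 1
  have h1l : lo (1 : F) ∈ H := by simpa using hl 1
  have hanti : (anti : SL(2, F)) ∈ H := by
    rw [anti_eq]; exact mul_mem (mul_mem h1u (lo_inv (1 : F) ▸ inv_mem h1l)) h1u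
  -- the squares of the translates
  have hsq : ∀ s : ZMod p, up ((α + algebraMap (ZMod p) F s) ^ 2) ∈ H := by
    intro s
    set x := α + algebraMap (ZMod p) F s with hx
    rcases eq_or_ne x 0 with h0 | h0
    · rw [h0, zero_pow two_ne_zero, up_zero]; exact one_mem H
    have hcx : ∀ c : ZMod p, up x * lo (algebraMap (ZMod p) F c) * up (-x) ∈ H := by
      intro c
      have := mul_mem (mul_mem (hu s) (hc c)) (inv_mem (hu s))
      convert this using 1
      rw [up_inv, hx, show up (α + algebraMap (ZMod p) F s) = up (algebraMap (ZMod p) F s) * up α by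
        rw [up_mul, add_comm], neg_add, ← up_mul (-α)]
      simp only [mul_assoc]
    set E := Algebra.adjoin (ZMod p) ({x ^ 2} : Set F)
    haveI : Finite E := Subtype.finite
    letI : Field E := (Finite.isField_of_domain E).toField
    set lam : E := ⟨x ^ 2, Algebra.subset_adjoin rfl⟩
    have hlam : lam ≠ 0 := fun h => pow_ne_zero 2 h0 (congrArg Subtype.val h)
    have htop : Algebra.adjoin (ZMod p) ({lam} : Set E) = ⊤ :=
      Subalgebra.map_injective (f := E.val) Subtype.val_injective (by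
        rw [AlgHom.map_adjoin_singleton, Algebra.map_top, Subalgebra.range_val]; rfl)
    have hdick := QuadPairDickson.dick_eq_top (two_ne hp) (card_ne hp) hlam htop
    have hle : dick (ZMod p) (x ^ 2) ≤
        H.comap (MulAut.conj (up (-x⁻¹))).toMonoidHom := by
      refine (Subgroup.closure_le _).2 ?_
      rintro _ (⟨c, rfl⟩ | ⟨c, rfl⟩)
      · show up (-x⁻¹) * up _ * (up (-x⁻¹))⁻¹ ∈ H
        rw [up_inv, up_mul, up_mul, neg_neg, neg_add_cancel_comm]
        exact hu c
      · show up (-x⁻¹) * lo _ * (up (-x⁻¹))⁻¹ ∈ H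
        have := mul_mem (mul_mem hanti (hcx c)) (inv_mem hanti)
        convert this using 1
        rw [eq_mul_inv_iff_mul_eq, up_inv]
        apply sl_ext <;> simp [QuadPairSL2.mul_apply] <;> field_simp <;> ring
    have hm : up (x ^ 2) ∈ dick (ZMod p) (x ^ 2) := by
      have := Subgroup.mem_map_of_mem
        (Matrix.SpecialLinearGroup.map (n := Fin 2) E.val.toRingHom) (hdick ▸ Subgroup.mem_top (up lam))
      rw [map_dick, map_up] at this
      exact this
    have := hle hm
    change up (-x⁻¹) * up (x ^ 2) * (up (-x⁻¹))⁻¹ ∈ H at this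
    rwa [up_inv, up_mul, up_mul, neg_neg, neg_add_cancel_comm] at this
  refine mem_trans.1 (half (p := p) (by omega) (A := trans H) ?_)
  have h := (trans H).sub_mem ((trans H).sub_mem (mem_trans.2 (hsq 1)) (mem_trans.2 (hsq 0)))
    (mem_trans.2 (show up (1 : F) ∈ H from h1u))
  convert h using 1
  simp
  ring

theorem eq_top_field (hp : 5 ≤ p) (α : F) (hgen : Algebra.adjoin (ZMod p) ({α} : Set F) = ⊤)
    (H : Subgroup SL(2, F)) (hu : ∀ c : ZMod p, up (algebraMap (ZMod p) F c) ∈ H)
    (hl : ∀ c : ZMod p, lo (algebraMap (ZMod p) F c) ∈ H)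
    (hc : ∀ c : ZMod p, up α * lo (algebraMap (ZMod p) F c) * up (-α) ∈ H) : H = ⊤ := by
  have hα := up_mem_field hp α H hu hl hc
  have hlα : ∀ c : ZMod p, lo (algebraMap (ZMod p) F c * α) ∈ H := by
    intro c
    refine lo_mem (by simpa using hu 1) (by simpa using hl 1) ?_
    have := (trans H).nsmul_mem (mem_trans.2 hα) c.val
    rw [nsmul_eq_mul] at this
    rwa [← map_natCast (algebraMap (ZMod p) F), ZMod.natCast_zmod_val] at this
  rcases eq_or_ne α 0 with rfl | h0
  · have h1 : Algebra.adjoin (ZMod p) ({1} : Set F) = ⊤ := by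
      rw [← hgen, Algebra.adjoin_singleton_one]
      exact (le_bot_iff.1 (Algebra.adjoin_le (Set.singleton_subset_iff.2 (zero_mem _)))).symm
    rw [← top_le_iff, ← QuadPairDickson.dick_eq_top (two_ne hp) (card_ne hp) one_ne_zero h1]
    refine (Subgroup.closure_le _).2 ?_
    rintro _ (⟨c, rfl⟩ | ⟨c, rfl⟩)
    · exact hu c
    · simpa using hl c
  · rw [← top_le_iff, ← QuadPairDickson.dick_eq_top (two_ne hp) (card_ne hp) h0 hgen]
    refine (Subgroup.closure_le _).2 ?_
    rintro _ (⟨c, rfl⟩ | ⟨c, rfl⟩)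
    · exact hu c
    · exact hlα c

theorem normal_top_or_central (hp : 5 ≤ p) (N : Subgroup SL(2, F)) [N.Normal] :
    N = ⊤ ∨ N ≤ Subgroup.center SL(2, F) := by
  have hF : 4 ≤ Nat.card F := by
    have : Nat.card (ZMod p) ≤ Nat.card F :=
      Nat.card_le_card_of_injective _ (algebraMap (ZMod p) F).injective
    rw [Nat.card_zmod] at this
    omega
  haveI := PSLSimple.isSimpleGroup_PSL_fin' (F := F) (le_refl 2) fun _ => hF
  haveI hn : (N.map (QuotientGroup.mk' (Subgroup.center SL(2, F)))).Normal :=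
    Subgroup.Normal.map inferInstance _ (QuotientGroup.mk'_surjective _)
  rcases hn.eq_bot_or_eq_top with h | h
  · right
    rwa [Subgroup.map_eq_bot_iff, QuotientGroup.ker_mk'] at h
  · left
    have hperf := PSLSimple.commutator_SL_fin_eq_top (F := F) (le_refl 2)
      fun _ => PSLSimple.exists_sq_ne_one hF
    have hsup : N ⊔ Subgroup.center SL(2, F) = ⊤ := by
      rw [← QuotientGroup.ker_mk' (Subgroup.center SL(2, F)), ← Subgroup.comap_map_eq, h,
        Subgroup.comap_top]
    rw [← top_le_iff, ← hperf, commutator_def, ← hsup, Subgroup.commutator_le]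
    intro a ha b hb
    obtain ⟨a₁, ha₁, z, hz, rfl⟩ := Subgroup.mem_sup_of_normal_left.1 ha
    obtain ⟨b₁, hb₁, w, hw, rfl⟩ := Subgroup.mem_sup_of_normal_left.1 hb
    have e : ⁅a₁ * z, b₁ * w⁆ = ⁅a₁, b₁⁆ := by
      rw [Subgroup.mem_center_iff] at hz hw
      simp only [commutatorElement_def, _root_.mul_inv_rev]
      have hz' : ∀ g, g * z⁻¹ = z⁻¹ * g := fun g => Commute.inv_right (hz g)
      have hw' : ∀ g, g * w⁻¹ = w⁻¹ * g := fun g => Commute.inv_right (hw g)
      calc a₁ * z * (b₁ * w) * (z⁻¹ * a₁⁻¹) * (w⁻¹ * b₁⁻¹)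
          = a₁ * (z * (b₁ * w * z⁻¹)) * a₁⁻¹ * (w⁻¹ * b₁⁻¹) := by group
        _ = a₁ * (b₁ * w) * a₁⁻¹ * (w⁻¹ * b₁⁻¹) := by rw [hz', mul_inv_cancel_left]
        _ = a₁ * b₁ * (w * (a₁⁻¹ * w⁻¹)) * b₁⁻¹ := by group
        _ = a₁ * b₁ * a₁⁻¹ * b₁⁻¹ := by rw [hw', mul_inv_cancel_left]
    rw [e]
    exact mul_mem (mul_mem (mul_mem ha₁ hb₁) (inv_mem ha₁)) (inv_mem hb₁)

end Field

section Nil

variable {R : Type u} [CommRing R] [Algebra (ZMod p) R] {I : Ideal R}
  (hI : ∀ x ∈ I, ∀ y ∈ I, x * y = 0)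

/-- An element congruent to the identity modulo `I`. -/
def el (E H F : I) : SL(2, R) := ⟨!![1 + (H : R), (E : R); (F : R), 1 - (H : R)], by
  rw [Matrix.det_fin_two_of]
  linear_combination -hI _ H.2 _ H.2 - hI _ E.2 _ F.2⟩

variable (E H F : I)

theorem el_00 : (el hI E H F).1 0 0 = 1 + (H : R) := rfl
theorem el_01 : (el hI E H F).1 0 1 = (E : R) := rfl
theorem el_10 : (el hI E H F).1 1 0 = (F : R) := rfl
theorem el_11 : (el hI E H F).1 1 1 = 1 - (H : R) := rfl

theorem el_mul (E H F E' H' F' : I) : el hI E H F * el hI E' H' F' = el hI (E + E') (H + H') (F + F') := by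
  apply sl_ext <;> simp only [QuadPairSL2.mul_apply, el_00, el_01, el_10, el_11, Submodule.coe_add]
  · linear_combination hI _ H.2 _ H'.2 + hI _ E.2 _ F'.2
  · linear_combination hI _ H.2 _ E'.2 - hI _ E.2 _ H'.2
  · linear_combination hI _ F.2 _ H'.2 - hI _ H.2 _ F'.2
  · linear_combination hI _ H.2 _ H'.2 + hI _ F.2 _ E'.2

theorem el_zero : el hI 0 0 0 = 1 := by
  apply sl_ext <;> simp [el]

theorem el_inv (E H F : I) : (el hI E H F)⁻¹ = el hI (-E) (-H) (-F) :=
  inv_eq_of_mul_eq_one_right (by rw [el_mul, add_neg_cancel, add_neg_cancel, add_neg_cancel, el_zero])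

theorem el_up (E : I) : el hI E 0 0 = up (E : R) := by
  apply sl_ext <;> simp [el]

theorem el_lo (F : I) : el hI 0 0 F = lo (F : R) := by
  apply sl_ext <;> simp [el]

theorem conj_el (E H F : I) :
    up 1 * el hI E H F * (up 1)⁻¹ = el hI (E - H - H - F) (H + F) F := by
  rw [mul_inv_eq_iff_eq_mul]
  apply sl_ext <;> simp [QuadPairSL2.mul_apply, el_00, el_01, el_10, el_11] <;> ring

theorem el_h_mem {G : Subgroup SL(2, R)} (hu : up (1 : R) ∈ G) (hl : lo (1 : R) ∈ G) {j : I}
    (hj : up (j : R) ∈ G) : el hI 0 j 0 ∈ G := by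
  have h1 := mul_mem (mul_mem (el_up hI j ▸ hj)
    (mul_mem (mul_mem hu (el_lo hI j ▸ lo_mem hu hl hj)) (inv_mem hu)))
    (inv_mem (el_lo hI j ▸ lo_mem hu hl hj))
  rw [conj_el, el_inv, el_mul, el_mul] at h1
  simpa using h1

theorem split_el (hp : p ≠ 2) {G : Subgroup SL(2, R)} (hu : up (1 : R) ∈ G) (hl : lo (1 : R) ∈ G)
    {E H F : I} {a : R} (h : el hI E H F * up a ∈ G) :
    up (H : R) ∈ G ∧ up (F : R) ∈ G ∧ up ((E : R) + a) ∈ G := by
  have hy : el hI (-H - H - F) F 0 ∈ G := by
    have := mul_mem (mul_mem (mul_mem hu h) (inv_mem hu)) (inv_mem h)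
    convert this using 1
    rw [show up 1 * (el hI E H F * up a) * (up 1)⁻¹ * (el hI E H F * up a)⁻¹ =
      (up 1 * el hI E H F * (up 1)⁻¹) * (el hI E H F)⁻¹ by
        rw [_root_.mul_inv_rev]
        have hcomm : up a * (up 1)⁻¹ * (up a)⁻¹ = (up 1 : SL(2, R))⁻¹ := by
          rw [up_inv, up_inv, up_mul, up_mul]; congr 1; ring
        calc _ = up 1 * el hI E H F * (up a * (up 1)⁻¹ * (up a)⁻¹) * (el hI E H F)⁻¹ := by group
          _ = _ := by rw [hcomm],
      conj_el, el_inv, el_mul]
    congr 1 <;> abel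
  have hz : el hI (-F - F) 0 0 ∈ G := by
    have := mul_mem (mul_mem (mul_mem hu hy) (inv_mem hu)) (inv_mem hy)
    rw [conj_el, el_inv, el_mul] at this
    convert this using 1
    congr 1 <;> abel
  have hF : up (F : R) ∈ G := by
    refine mem_trans.1 (half (p := p) hp (A := trans G) ?_)
    rw [el_up] at hz
    have := (trans G).neg_mem (mem_trans.2 hz)
    convert this using 1
    push_cast
    ring
  have hH : up (H : R) ∈ G := by
    refine mem_trans.1 (half (p := p) hp (A := trans G) ?_)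
    have h1 := mul_mem hy (inv_mem (el_h_mem hI hu hl hF))
    rw [el_inv, el_mul, add_neg_cancel, neg_zero, add_zero, add_zero, el_up] at h1
    have h2 := (trans G).sub_mem ((trans G).neg_mem (mem_trans.2 h1)) (mem_trans.2 hF)
    convert h2 using 1
    push_cast
    ring
  refine ⟨hH, hF, ?_⟩
  have h1 := mul_mem (mul_mem (inv_mem (el_h_mem hI hu hl hH)) (inv_mem (el_lo hI F ▸ lo_mem hu hl hF))) h
  rw [el_inv, el_inv, ← mul_assoc, el_mul, el_mul] at h1
  simp only [neg_zero, zero_add, add_zero, neg_add_cancel] at h1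
  rwa [el_up, up_mul] at h1

end Nil

theorem up_mem_aux (hp : 5 ≤ p) : ∀ (n : ℕ) (R : Type u) [CommRing R] [Finite R] [Algebra (ZMod p) R],
    Nat.card R ≤ n → ∀ α : R, Algebra.adjoin (ZMod p) ({α} : Set R) = ⊤ → ∀ H : Subgroup SL(2, R),
    (∀ c : ZMod p, up (algebraMap (ZMod p) R c) ∈ H) → (∀ c : ZMod p, lo (algebraMap (ZMod p) R c) ∈ H) →
    (∀ c : ZMod p, up α * lo (algebraMap (ZMod p) R c) * up (-α) ∈ H) → up α ∈ H := by
  intro n
  induction n with
  | zero => intro R _ _ _ h; exact absurd h Nat.card_pos.not_ge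
  | succ n ih =>
    intro R _ _ _ hn α hgen H hu hl hc
    rcases subsingleton_or_nontrivial R with hs | hs
    · have : up α = (1 : SL(2, R)) := sl_ext (Subsingleton.elim _ _) (Subsingleton.elim _ _)
        (Subsingleton.elim _ _) (Subsingleton.elim _ _)
      rw [this]; exact one_mem H
    have h1u : up (1 : R) ∈ H := by simpa using hu 1
    have h1l : lo (1 : R) ∈ H := by simpa using hl 1
    have hc1 : up α * lo (1 : R) * up (-α) ∈ H := by simpa using hc 1
    -- passing to a proper quotient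
    have hquot : ∀ I : Ideal R, I ≠ ⊥ → ∃ x ∈ H,
        Matrix.SpecialLinearGroup.map (n := Fin 2) (Ideal.Quotient.mk I) x =
          up (Ideal.Quotient.mk I α) := by
      intro I hI
      haveI : Finite (R ⧸ I) := Finite.of_surjective _ Ideal.Quotient.mk_surjective
      set f := Matrix.SpecialLinearGroup.map (n := Fin 2) (Ideal.Quotient.mk I) with hf
      have hlt : Nat.card (R ⧸ I) < Nat.card R := by
        refine (Nat.card_le_card_of_surjective _ Ideal.Quotient.mk_surjective).lt_of_ne fun he => hI ?_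
        have hinj : Function.Injective (Ideal.Quotient.mk I) :=
          ((Nat.bijective_iff_surjective_and_card _).2 ⟨Ideal.Quotient.mk_surjective, he.symm⟩).1
        rw [← Ideal.mk_ker (I := I), (RingHom.injective_iff_ker_eq_bot _).1 hinj]
      refine Subgroup.mem_map.1 (ih (R ⧸ I) (by omega) (Ideal.Quotient.mk I α) ?_ (H.map f) ?_ ?_ ?_)
      · rw [show ({Ideal.Quotient.mk I α} : Set (R ⧸ I)) = (Ideal.Quotient.mkₐ (ZMod p) I) '' {α} by simp,
          ← AlgHom.map_adjoin, hgen, Algebra.map_top, AlgHom.range_eq_top]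
        exact Ideal.Quotient.mkₐ_surjective _ _
      · intro c; exact ⟨_, hu c, map_up _ _⟩
      · intro c; exact ⟨_, hl c, map_lo _ _⟩
      · intro c
        refine ⟨_, hc c, ?_⟩
        rw [map_mul, map_mul, map_up, map_lo, map_up, map_neg]
        rfl
    by_cases hnil : ∃ I : Ideal R, I ≠ ⊥ ∧ ∀ x ∈ I, ∀ y ∈ I, x * y = 0
    · obtain ⟨I, hI0, hI⟩ := hnil
      obtain ⟨x, hx, hxe⟩ := hquot I hI0
      have hmem : ∀ i j, (x * up (-α)).1 i j - (1 : Matrix (Fin 2) (Fin 2) R) i j ∈ I := by
        intro i j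
        have e : Matrix.SpecialLinearGroup.map (n := Fin 2) (Ideal.Quotient.mk I) (x * up (-α)) = 1 := by
          rw [map_mul, hxe, map_up, map_neg, up_mul, add_neg_cancel, up_zero]
        have := congrArg (fun g : SL(2, R ⧸ I) => g.1 i j) e
        rw [← Ideal.Quotient.eq_zero_iff_mem, map_sub, sub_eq_zero]
        refine this.trans ?_
        simp [Matrix.one_apply, apply_ite (Ideal.Quotient.mk I)]
      set g := x * up (-α) with hg
      have e01 : g.1 0 1 ∈ I := by simpa using hmem 0 1
      have e10 : g.1 1 0 ∈ I := by simpa using hmem 1 0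
      have e00 : g.1 0 0 - 1 ∈ I := by simpa using hmem 0 0
      have e11 : g.1 1 1 - 1 ∈ I := by simpa using hmem 1 1
      have hgel : g = el hI ⟨_, e01⟩ ⟨_, e00⟩ ⟨_, e10⟩ := by
        apply sl_ext <;> simp [el_00, el_01, el_10, el_11]
        linear_combination det_eq g + hI _ e01 _ e10 - hI _ e00 _ e11
      have hxg : el hI ⟨_, e01⟩ ⟨_, e00⟩ ⟨_, e10⟩ * up α ∈ H := by
        rw [← hgel, hg, mul_assoc, up_mul, neg_add_cancel, up_zero, mul_one]; exact hx
      obtain ⟨-, -, hr⟩ := split_el (p := p) hI (by omega) h1u h1l hxg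
      set ι : R := g.1 0 1 with hι
      have hιI : -ι ∈ I := neg_mem e01
      have hz : el hI 0 ⟨-ι, hιI⟩ ⟨-ι, hιI⟩ * up (0 : R) ∈ H := by
        have := mul_mem (mul_mem (mul_mem (inv_mem hr) hc1) hr) (inv_mem h1l)
        convert this using 1
        rw [up_inv, up_zero, mul_one, lo_inv,
          show up (-(ι + α)) * (up α * lo 1 * up (-α)) * up (ι + α) * lo (-1 : R) =
            up (-ι) * lo 1 * up (- -ι) * lo (-1 : R) by
          simp only [← mul_assoc, up_mul]
          rw [mul_assoc (up _ * lo 1) (up (-α)) (up (ι + α)), up_mul]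
          congr 2 <;> ring_nf]
        obtain ⟨c00, c01, c10, c11⟩ := conj_lo (-ι) (1 : R)
        apply sl_ext <;>
          rw [QuadPairSL2.mul_apply (up (-ι) * lo 1 * up (- -ι))] <;>
          simp only [c00, c01, c10, c11, el_00, el_01, el_10, el_11, lo_00, lo_01, lo_10, lo_11] <;> simp
        · linear_combination (norm := ring_nf) hI _ e01 _ e01
        · linear_combination (norm := ring_nf) hI _ e01 _ e01
      obtain ⟨hι', -, -⟩ := split_el (p := p) hI (by omega) h1u h1l hz
      have := mul_mem hι' hr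
      rw [up_mul] at this
      simpa [hι] using this
    · -- the reduced case
      have hred : ∀ x : R, x * x = 0 → x = 0 := by
        intro x hx
        by_contra h0
        refine hnil ⟨Ideal.span {x}, by simpa using h0, fun y hy z hz => ?_⟩
        obtain ⟨y', rfl⟩ := Ideal.mem_span_singleton.1 hy
        obtain ⟨z', rfl⟩ := Ideal.mem_span_singleton.1 hz
        linear_combination y' * z' * hx
      haveI : Finite (Ideal R) := Finite.of_injective _ SetLike.coe_injective
      obtain ⟨I, hImin⟩ := Set.Finite.exists_minimal (Set.toFinite {I : Ideal R | I ≠ ⊥})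
        ⟨⊤, top_ne_bot⟩
      have hI0 : I ≠ ⊥ := hImin.prop
      obtain ⟨x₀, hx₀, hx₀0⟩ := Submodule.exists_mem_ne_zero_of_ne_bot hI0
      have hspan : ∀ y ∈ I, y ≠ 0 → Ideal.span {y} = I := fun y hy hy0 => by
        have hle : Ideal.span {y} ≤ I := by simpa [Ideal.span_le] using hy
        exact le_antisymm hle (hImin.2 (by simpa using hy0) hle)
      have hsq0 : x₀ * x₀ ≠ 0 := fun h => hx₀0 (hred _ h)
      obtain ⟨r, hr⟩ : ∃ r, r * (x₀ * x₀) = x₀ := Ideal.mem_span_singleton'.1
        (by rw [hspan _ (I.mul_mem_left _ hx₀) hsq0]; exact hx₀)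
      set e := r * x₀ with he
      have heI : e ∈ I := I.mul_mem_left _ hx₀
      have hee : e * e = e := by rw [he]; linear_combination r * hr
      have he0 : e ≠ 0 := fun h => hx₀0 (by rw [← hr, ← mul_assoc, ← he, h, zero_mul])
      set m := Ideal.span ({1 - e} : Set R) with hm
      have hme : ∀ y ∈ m, y * e = 0 := by
        intro y hy
        obtain ⟨y', rfl⟩ := Ideal.mem_span_singleton.1 hy
        linear_combination -y' * hee
      have hIe : ∀ y ∈ I, y * e = y := by
        intro y hy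
        rw [← hspan e heI he0] at hy
        obtain ⟨y', rfl⟩ := Ideal.mem_span_singleton.1 hy
        linear_combination y' * hee
      haveI hmax : m.IsMaximal := by
        refine Ideal.isMaximal_iff.2 ⟨fun h => he0 (by simpa using hme 1 h), fun J j hmJ hjm hjJ => ?_⟩
        have hje : j * e ≠ 0 := by
          intro h
          exact hjm (Ideal.mem_span_singleton.2 ⟨j, by linear_combination h⟩)
        have heJ : e ∈ J := by
          have h1 : e ∈ Ideal.span ({j * e} : Set R) := by
            rw [hspan _ (I.mul_mem_left _ heI) hje]; exact heI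
          exact (Ideal.span_le.2 (by simpa using J.mul_mem_right e hjJ)) h1
        simpa using J.add_mem heJ (hmJ (Ideal.subset_span (Set.mem_singleton (1 - e))))
      letI := Ideal.Quotient.field m
      haveI : Finite (R ⧸ m) := Finite.of_surjective _ Ideal.Quotient.mk_surjective
      have hjoint : ∀ {y z : R}, Ideal.Quotient.mk I y = Ideal.Quotient.mk I z →
          Ideal.Quotient.mk m y = Ideal.Quotient.mk m z → y = z := by
        intro y z h1 h2
        rw [Ideal.Quotient.eq] at h1 h2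
        rw [← sub_eq_zero, ← hIe _ h1, hme _ h2]
      set π := Matrix.SpecialLinearGroup.map (n := Fin 2) (Ideal.Quotient.mk m) with hπ
      set ρ := Matrix.SpecialLinearGroup.map (n := Fin 2) (Ideal.Quotient.mk I) with hρ
      have hext : ∀ {x y : SL(2, R)}, ρ x = ρ y → π x = π y → x = y := by
        intro x y h1 h2
        apply Subtype.ext
        ext i j
        exact hjoint (congrArg (fun g : SL(2, R ⧸ I) => g.1 i j) h1)
          (congrArg (fun g : SL(2, R ⧸ m) => g.1 i j) h2)
      have htop : H.map π = ⊤ := by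
        refine eq_top_field hp (Ideal.Quotient.mk m α) ?_ _ ?_ ?_ ?_
        · rw [show ({Ideal.Quotient.mk m α} : Set (R ⧸ m)) = (Ideal.Quotient.mkₐ (ZMod p) m) '' {α} by simp,
            ← AlgHom.map_adjoin, hgen, Algebra.map_top, AlgHom.range_eq_top]
          exact Ideal.Quotient.mkₐ_surjective _ _
        · intro c; exact ⟨_, hu c, map_up _ _⟩
        · intro c; exact ⟨_, hl c, map_lo _ _⟩
        · intro c
          refine ⟨_, hc c, ?_⟩
          rw [map_mul, map_mul, map_up, map_lo, map_up, map_neg]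
          rfl
      set N := (H ⊓ ρ.ker).map π with hN
      haveI : N.Normal := by
        refine ⟨fun y hy g => ?_⟩
        obtain ⟨k, hk, rfl⟩ := hy
        obtain ⟨w, hw, rfl⟩ := (htop.symm ▸ Subgroup.mem_top g : g ∈ H.map π)
        exact ⟨w * k * w⁻¹, ⟨H.mul_mem (H.mul_mem hw hk.1) (H.inv_mem hw),
          (MonoidHom.normal_ker ρ).conj_mem k hk.2 w⟩, by simp⟩
      obtain ⟨x, hx, hxe⟩ := hquot I hI0
      change ρ x = up _ at hxe
      rcases normal_top_or_central hp N with hNt | hNc
      · obtain ⟨k, ⟨hk, hkρ⟩, hkπ⟩ := (hNt.symm ▸ Subgroup.mem_top (π (up α) * (π x)⁻¹) :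
          π (up α) * (π x)⁻¹ ∈ N)
        suffices k * x = up α from this ▸ mul_mem hk hx
        refine hext ?_ ?_
        · rw [map_mul, MonoidHom.mem_ker.1 hkρ, one_mul, hxe, hρ, map_up]
        · rw [map_mul, hkπ, inv_mul_cancel_right]
      -- central case
      set g := π x with hg
      have hcomm : ∀ h, h * (up 1 * g * (up 1)⁻¹ * g⁻¹) = up 1 * g * (up 1)⁻¹ * g⁻¹ * h := by
        refine Subgroup.mem_center_iff.1 (hNc ⟨up 1 * x * (up 1)⁻¹ * x⁻¹,
          ⟨H.mul_mem (H.mul_mem (H.mul_mem h1u hx) (H.inv_mem h1u)) (H.inv_mem hx), ?_⟩, ?_⟩)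
        · show ρ _ = 1
          simp only [map_mul, map_inv, hxe]
          rw [show ρ (up 1) = up 1 by rw [hρ, map_up, map_one], up_inv, up_mul, up_mul, up_inv, up_mul,
            ← up_zero]
          congr 1; ring
        · simp only [map_mul, map_inv]
          rw [show π (up 1) = up 1 by rw [hπ, map_up, map_one]]
      have hgu : (g * up 1 * g⁻¹) * up 1 = up 1 * (g * up 1 * g⁻¹) := by
        have h := hcomm (up 1)
        set d := up 1 * g * (up 1)⁻¹ * g⁻¹ with hd
        have e1 : g * up 1 * g⁻¹ = d⁻¹ * up 1 := by rw [hd]; group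
        rw [e1, mul_assoc, ← mul_assoc (up 1), (Commute.inv_right (show Commute (up 1) d from h)).eq,
          mul_assoc]
      obtain ⟨f1, -⟩ := of_commute_up hgu
      obtain ⟨c00, c01, c10, c11⟩ := conj_up_entries g 1
      rw [one_mul, c10] at f1
      have g10 : g.1 1 0 = 0 := by simpa using f1
      have hgd := det_eq g
      rw [g10, mul_zero, sub_zero] at hgd
      have gsq : g.1 0 0 * g.1 0 0 = 1 := by
        have hconj : g * up 1 * g⁻¹ = up (g.1 0 0 * g.1 0 0) := by
          apply sl_ext <;> simp [c00, c01, c10, c11, g10]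
        have e1 : up 1 * g * (up 1)⁻¹ * g⁻¹ = up (1 - g.1 0 0 * g.1 0 0) := by
          calc up 1 * g * (up 1)⁻¹ * g⁻¹ = up 1 * (g * up 1 * g⁻¹)⁻¹ := by group
            _ = _ := by rw [hconj, up_inv, up_mul, sub_eq_add_neg]
        have h := hcomm (lo 1)
        rw [e1] at h
        obtain ⟨f2, -⟩ := of_commute_lo h.symm
        rw [up_01, one_mul, sub_eq_zero] at f2
        exact f2.symm
      have g11 : g.1 1 1 = g.1 0 0 := by linear_combination g.1 0 0 * hgd - g.1 1 1 * gsq
      obtain ⟨t', ht'⟩ := Ideal.Quotient.mk_surjective (g.1 0 0 * g.1 0 1)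
      set r' := α + (t' - α) * e with hr'
      have hr'I : Ideal.Quotient.mk I r' = Ideal.Quotient.mk I α := by
        rw [Ideal.Quotient.eq, hr', add_sub_cancel_left]; exact I.mul_mem_left _ heI
      have hr'm : Ideal.Quotient.mk m r' = g.1 0 0 * g.1 0 1 := by
        rw [← ht', Ideal.Quotient.eq]
        exact Ideal.mem_span_singleton.2 ⟨α - t', by rw [hr']; ring⟩
      have hxx : x * x = up (2 * r') := by
        refine hext ?_ ?_
        · rw [map_mul, hxe, up_mul, hρ, map_up, map_mul, hr'I, map_ofNat, two_mul]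
        · rw [map_mul, ← hg, hπ, map_up, map_mul, hr'm, map_ofNat]
          apply sl_ext <;> simp [QuadPairSL2.mul_apply, g10, g11, gsq] <;> ring
      have hrH : up r' ∈ H := mem_trans.1 (half (p := p) (by omega) (A := trans H)
        (mem_trans.2 (hxx ▸ mul_mem hx hx)))
      have hι : Ideal.Quotient.mk m (α - r') = 0 := by
        set s := Ideal.Quotient.mk m (α - r') with hs'
        have hz : up s * lo 1 * up (-s) * lo (-1) ∈ N := by
          refine ⟨(up r')⁻¹ * (up α * lo 1 * up (-α)) * up r' * (lo 1)⁻¹,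
            ⟨H.mul_mem (H.mul_mem (H.mul_mem (H.inv_mem hrH) hc1) hrH) (H.inv_mem h1l), ?_⟩, ?_⟩
          · show ρ _ = 1
            simp only [map_mul, map_inv, hρ, map_up, map_lo, map_neg, hr'I, map_one]
            simp only [mul_assoc, inv_mul_cancel_left, up_inv, ← mul_assoc, up_mul, neg_add_cancel, up_zero, one_mul]
            rw [mul_assoc (lo 1), up_mul, neg_add_cancel, up_zero, mul_one, mul_inv_cancel]
          · simp only [map_mul, map_inv, hπ, map_up, map_lo, map_neg, map_one]
            rw [up_inv, lo_inv, hs', map_sub]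
            simp only [← mul_assoc, up_mul]
            rw [mul_assoc (up _ * lo 1) (up _) (up _), up_mul]
            congr 2 <;> ring_nf
        obtain ⟨f2, -⟩ := of_commute_up (R := R ⧸ m) (r := 1) ((Subgroup.mem_center_iff.1 (hNc hz) (up 1)).symm)
        rw [one_mul] at f2
        obtain ⟨d00, d01, d10, d11⟩ := conj_lo s (1 : R ⧸ m)
        rw [QuadPairSL2.mul_apply, d10, d11, lo_00, lo_10] at f2
        linear_combination f2
      have : α = r' := hjoint hr'I.symm (sub_eq_zero.1 ((map_sub _ _ _).symm.trans hι))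
      rwa [← this] at hrH

/-- **The translation lemma.** -/
theorem up_mem (hp : 5 ≤ p) {R : Type u} [CommRing R] [Finite R] [Algebra (ZMod p) R] (α : R)
    (hgen : Algebra.adjoin (ZMod p) ({α} : Set R) = ⊤) (H : Subgroup SL(2, R))
    (hu : ∀ c : ZMod p, up (algebraMap (ZMod p) R c) ∈ H)
    (hl : ∀ c : ZMod p, lo (algebraMap (ZMod p) R c) ∈ H)
    (hc : ∀ c : ZMod p, up α * lo (algebraMap (ZMod p) R c) * up (-α) ∈ H) : up α ∈ H :=
  up_mem_aux hp _ R le_rfl α hgen H hu hl hc

end Cfsg.Agent.QuadTranslate20
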