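import Mathlib
import Cfsg.Agent.Lib.QuadTranslate20
import Cfsg.Agent.Lib.QuadPairSplit
import Cfsg.Agent.Lib.QuadPairCoprimeFixed20
import Cfsg.Agent.Lib.QuadPairNoUni

/-!
Square-zero parts of a linear group over the prime field, `p ≥ 5`: any two duals are conjugate by the
unipotent flag group, a coprime group fixing a part fixes a dual of it, and in a reduced group every
part has a dual.
-/

set_option autoImplicit false
set_option linter.unusedSectionVars false

namespace Cfsg.Agent.QuadDual20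

open Cfsg Cfsg.Agent.QuadPairTheory Cfsg.Agent.QuadPairDualOrbit20 Cfsg.Agent.QuadPairSplit
open Cfsg.Agent.QuadPairCore Cfsg.Agent.QuadPairSL2 Cfsg.Agent.QuadPairCoprimeFixed20
open scoped MatrixGroups

section split

open Polynomial Cfsg.Agent.QuadPairEuclid

variable {k : Type*} [Field k] {M : Type*} [AddCommGroup M] [Module k M] [FiniteDimensional k M]
  {G : Subgroup (LinearMap.GeneralLinearGroup k M)}

/-- Splitting off a minimal part, orthogonally to the member used. -/
theorem split' (hk2 : (2 : k) ≠ 0) (hk3 : Nat.card k ≠ 3) {q a : Module.End k M} (hq : q ∈ Lie G)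
    (ha : IsMin G a) (hnil : ¬ QuadPairCentral.Nil a q) :
    ∃ q₁ q₀, IsMin G q₁ ∧ q₀ ∈ Lie G ∧ q₁ * q₀ = 0 ∧ q₀ * q₁ = 0 ∧ q = q₁ + q₀ ∧ rk q₀ < rk q ∧
      a * q₀ = 0 ∧ q₀ * a = 0 := by
  have hza : zz a q * a = a * q * a := by rw [zz, add_mul, mul_assoc q a a, ha.1.1, mul_zero, add_zero]
  have hzq : zz a q * q = q * a * q := by rw [zz, add_mul, mul_assoc a q q, hq.1, mul_zero, zero_add]
  have hpow : ∀ n : ℕ, aeval (zz a q) (X ^ n : k[X]) * a = (a * q) ^ n * a := by
    intro n
    induction n with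
    | zero => simp
    | succ n ih =>
      rw [pow_succ', map_mul, aeval_X, mul_assoc, ih, pow_succ', mul_assoc (a * q)]
      rcases n with - | i
      · simp [hza]
      · rw [pow_succ', mul_assoc (a * q) ((a * q) ^ i), mul_assoc a q, ← mul_assoc (zz a q), hza]
        simp only [mul_assoc]
  obtain ⟨f₀, hfne, hf⟩ := exists_annihilator (zz a q) a
  obtain ⟨f, hfe, hfX⟩ := exists_eq_pow_rootMultiplicity_mul_and_not_dvd f₀ hfne 0
  rw [C_0, sub_zero] at hfe hfX
  set e := f₀.rootMultiplicity 0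
  have hfne' : f ≠ 0 := fun h => hfne (by rw [hfe, h, mul_zero])
  have hu : ¬ IsUnit f := fun hu => hnil ⟨e, by
    rw [← hpow]
    exact (hf _).2 (hfe ▸ (Units.mul_right_dvd (u := hu.unit)).2 dvd_rfl)⟩
  have hpa0 : aeval (zz a q) f₀ * a = 0 := (hf f₀).2 dvd_rfl
  -- rigidity on the side of `a`
  have hkill : ∀ {ρ σ : k[X]}, InH a q (aeval (zz a q) ρ * a) → aeval (zz a q) (σ * ρ) * a = 0 →
      aeval (zz a q) ρ * a = 0 ∨ aeval (zz a q) σ * a = 0 := by
    intro ρ σ hi h0
    refine or_iff_not_imp_left.2 fun hne => ?_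
    have hle : LinearMap.range (aeval (zz a q) ρ * a) ≤ LinearMap.range a :=
      range_mul_le (aeval_commute (zz_comm_left (b := q) ha.1.1) ρ)
    have heq : LinearMap.range (aeval (zz a q) ρ * a) = LinearMap.range a :=
      Submodule.eq_of_le_of_finrank_le hle
        (ha.2.2 _ (lie_of_inH ha.1 hq (sq_poly ha.1.1 ρ) hi) hne)
    refine LinearMap.ext fun x => ?_
    obtain ⟨y, hy⟩ : a x ∈ LinearMap.range (aeval (zz a q) ρ * a) := heq ▸ LinearMap.mem_range_self a x
    show aeval (zz a q) σ (a x) = 0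
    rw [← hy, ← Module.End.mul_apply, ← mul_assoc, ← map_mul, h0]
    rfl
  rcases Nat.eq_zero_or_pos e with he | he
  swap
  · exfalso
    obtain ⟨ρ, hnear, hρe, hρn⟩ := mixed_near hk2 hk3 e hfne' hu hfX
    have hi := inH_of_near hk2 ha.1.1 hq.1 (p := X * (X ^ e * f))
      (by rw [← hfe]; exact (hf _).2 (dvd_mul_left f₀ X))
      (by rw [← hfe]; exact flip_kill hq.1 _ hpa0) hnear
    rcases hkill hi (σ := f) (by
      refine (hf _).2 ?_
      rw [hfe, mul_comm]
      exact mul_dvd_mul_left _ hρe) with h | h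
    · exact hρn ((dvd_mul_left f (X ^ e)).trans (hfe ▸ (hf ρ).1 h))
    · have h' : f₀ ∣ f := (hf f).1 h
      rw [hfe] at h'
      exact hfX ((dvd_pow_self X (by omega)).trans ((dvd_mul_right _ f).trans h'))
  rw [he, pow_zero, one_mul] at hfe
  subst hfe
  have hXa : aeval (zz a q) (X * f₀) * a = 0 := (hf _).2 (dvd_mul_left _ _)
  have hXq : aeval (zz a q) (X * f₀) * q = 0 := flip_kill hq.1 _ hpa0
  have hlift := QuadPairLift.exists_near_all hk2 hk3 hfne hu hfX fun ρ σ hnear hdvd => by
    rcases hkill (inH_of_near hk2 ha.1.1 hq.1 hXa hXq hnear) ((hf _).2 hdvd) with h | h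
    · exact Or.inl ((hf ρ).1 h)
    · exact Or.inr ((hf σ).1 h)
  obtain ⟨α, β, hab⟩ := QuadPairLift.cop hfX
  obtain ⟨c, ρ, hc, hρX, hρf, hnear⟩ := hlift 1
  rw [mul_one] at hρf
  set z := zz a q with hz
  have hd : X * f₀ ∣ ρ - C c * (α * X ^ 2) := by
    refine ((Polynomial.prime_X.irreducible.coprime_iff_not_dvd).2 hfX).mul_dvd ?_ ?_
    · exact dvd_sub ((dvd_pow_self X two_ne_zero).trans hρX)
        (dvd_mul_of_dvd_right (dvd_mul_of_dvd_right (dvd_pow_self X two_ne_zero) _) _)
    · have e : ρ - C c * (α * X ^ 2) = (ρ - C c) + f₀ * (C c * β) := by linear_combination -C c * hab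
      rw [e]; exact dvd_add hρf (dvd_mul_right _ _)
  have hi : InH a q (aeval z ρ * q) := by
    refine inH_symm ?_
    rw [hz, zz_symm a q]
    exact inH_of_near hk2 hq.1 ha.1.1 (by rw [zz_symm q a]; exact hXq) (by rw [zz_symm q a]; exact hXa) hnear
  have hzq2 : zz q a = z := zz_symm q a
  have hsqρ : aeval z ρ * q * (aeval z ρ * q) = 0 := hzq2 ▸ sq_poly hq.1 ρ
  have hl := Lie.smul (lie_of_inH ha.1 hq hsqρ hi) c⁻¹
  obtain ⟨q₁, hq₁⟩ : ∃ q₁, q₁ = aeval z (α * X ^ 2) * q := ⟨_, rfl⟩
  have hρq : aeval z ρ * q = c • q₁ := by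
    obtain ⟨w, hw⟩ := hd
    rw [show ρ = C c * (α * X ^ 2) + w * (X * f₀) by linear_combination hw, map_add, add_mul, map_mul _ w,
      mul_assoc, hXq, mul_zero, add_zero, map_mul, aeval_C, mul_assoc, ← Algebra.smul_def, hq₁]
  rw [hρq, smul_smul, inv_mul_cancel₀ hc, one_smul] at hl
  have hcz : ∀ p : k[X], Commute (aeval z p) q := fun p => aeval_commute (zz_comm_right (a := a) hq.1) p
  have hqq₁ : q * q₁ = 0 := by
    rw [hq₁, ← mul_assoc, ← (hcz _).eq, mul_assoc, hq.1, mul_zero]
  have hq₁q : q₁ * q = 0 := by rw [hq₁, mul_assoc, hq.1, mul_zero]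
  have hq0 := Lie.add hq (Lie.neg hl) (by rw [mul_neg, hqq₁, neg_zero]) (by rw [neg_mul, hq₁q, neg_zero])
  have hne : q₁ ≠ 0 := by
    intro h0
    have h1 : aeval z (α * X ^ 2 * X) * a = 0 := by
      rw [map_mul, aeval_X, mul_assoc, hza, ← mul_assoc, ← mul_assoc,
        (aeval_commute (zz_comm_left (b := q) ha.1.1) _).eq, mul_assoc a, ← hq₁, h0, mul_zero, zero_mul]
    have h2 := (hf _).1 h1
    apply hu
    refine isUnit_of_dvd_one ?_
    have h3 : f₀ ∣ X := by
      rw [show (X : k[X]) = α * X ^ 2 * X + f₀ * (β * X) by linear_combination -(X : k[X]) * hab]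
      exact dvd_add h2 (dvd_mul_right _ _)
    exact (Polynomial.prime_X.irreducible.coprime_iff_not_dvd.2 hfX).isUnit_of_dvd' h3 dvd_rfl |>.dvd
  have hq₁a : q₁ = q * a * (aeval z (α * X) * q) := by
    calc q₁ = aeval z (α * X) * (z * q) := by
          rw [hq₁, ← mul_assoc]
          congr 1
          rw [show α * X ^ 2 = α * X * X by ring, map_mul _ (α * X), aeval_X]
      _ = aeval z (α * X) * q * a * q := by rw [hzq]; simp only [mul_assoc]
      _ = q * aeval z (α * X) * a * q := by rw [(hcz _).eq]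
      _ = q * a * (aeval z (α * X) * q) := by
          rw [mul_assoc q, (aeval_commute (zz_comm_left (b := q) ha.1.1) _).eq]; simp only [mul_assoc]; rfl
  have hmin : IsMin G q₁ := by
    refine ha.of_rk_le hl hne ?_
    rw [hq₁a, rk]
    refine (Submodule.finrank_mono (LinearMap.range_comp_le_range (aeval z (α * X) * q) (q * a))).trans ?_
    show Module.finrank k (LinearMap.range (q ∘ₗ a)) ≤ _
    rw [LinearMap.range_comp]
    exact Submodule.finrank_map_le q _
  have hq₁₁ : q₁ * q₁ = 0 := hl.1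
  refine ⟨q₁, q + -q₁, hmin, hq0, by rw [mul_add, mul_neg, hq₁q, hq₁₁, neg_zero, add_zero],
    by rw [add_mul, neg_mul, hqq₁, hq₁₁, neg_zero, add_zero], by abel, ?_, ?_⟩
  swap
  · -- the remainder is orthogonal to `a`
    have hfz : aeval z f₀ * a = 0 := hpa0
    obtain ⟨w, hw⟩ : ∃ w, w = aeval z β * aeval z f₀ := ⟨_, rfl⟩
    have hrem : q + -q₁ = w * q := by
      have h := congrArg (fun r : k[X] => aeval z r * q) hab
      simp only [map_add, map_mul, map_one, one_mul, add_mul, map_pow, aeval_X] at h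
      rw [hw, hq₁, map_mul, map_pow, aeval_X]
      nth_rewrite 1 [← h]
      abel
    have hwa : Commute w a := by
      rw [hw, ← map_mul]; exact aeval_commute (zz_comm_left (b := q) ha.1.1) _
    have hwq : Commute w q := by rw [hw, ← map_mul]; exact hcz _
    have hw0 : w * a = 0 := by rw [hw, mul_assoc, hfz, mul_zero]
    refine ⟨?_, ?_⟩
    · rw [hrem, ← mul_assoc, ← hwa.eq, hw0, zero_mul]
    · rw [hrem, hwq.eq, mul_assoc, hw0, mul_zero]
  have hzero : z * (q + -q₁) = 0 := by
    rw [hq₁, mul_add, mul_neg, ← sub_eq_add_neg, ← mul_assoc]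
    have e : z * aeval z (α * X ^ 2) = aeval z (X * (α * X ^ 2)) := by rw [map_mul _ X, aeval_X]
    rw [e, show X * (α * X ^ 2) = X - (X * f₀) * β by linear_combination (X : k[X]) * hab, map_sub, aeval_X,
      sub_mul, mul_comm (X * f₀), map_mul _ β, mul_assoc, hXq, mul_zero, sub_zero, sub_self]
  have hle : LinearMap.range (q + -q₁) ≤ LinearMap.range q := by
    rintro _ ⟨x, rfl⟩
    rw [LinearMap.add_apply, LinearMap.neg_apply]
    refine add_mem ⟨x, rfl⟩ (neg_mem ?_)
    rw [hq₁a]
    exact ⟨_, rfl⟩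
  refine Submodule.finrank_lt_finrank_of_lt (lt_of_le_of_ne hle fun heq => hne ?_)
  have hzq0 : z * q = 0 := LinearMap.ext fun x => by
    obtain ⟨y, hy⟩ := heq.ge ⟨x, rfl⟩
    show z (q x) = 0
    rw [← hy]
    exact LinearMap.congr_fun hzero y
  rw [hq₁, show α * X ^ 2 = α * X * X by ring, map_mul _ (α * X), aeval_X, mul_assoc, hzq0, mul_zero]

end split

section prime

variable {p : ℕ} [Fact p.Prime] {V : Type*} [AddCommGroup V] [Module (ZMod p) V] [Finite V]
  {G : Subgroup (LinearMap.GeneralLinearGroup (ZMod p) V)}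

local notation "Aut" => LinearMap.GeneralLinearGroup (ZMod p) V
local notation "End'" => Module.End (ZMod p) V

instance finite_end : Finite End' := Finite.of_injective _ DFunLike.coe_injective

instance finite_aut : Finite Aut := inferInstanceAs (Finite (End')ˣ)

theorem two_ne (hp : 5 ≤ p) : (2 : ZMod p) ≠ 0 := QuadTranslate20.two_ne hp

theorem card_ne (hp : 5 ≤ p) : Nat.card (ZMod p) ≠ 3 := QuadTranslate20.card_ne hp

theorem pow_unitOf (q : End') (h : q * q = 0) (i : ℕ) :
    ((unitOf q h ^ i : Aut) : End') = 1 + (i : ZMod p) • q := by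
  induction i with
  | zero => simp
  | succ i ih =>
    rw [pow_succ, Units.val_mul, ih, unitOf_coe, Nat.cast_succ, add_smul, one_smul, mul_add, mul_one,
      add_mul, one_mul, smul_mul_assoc, h, smul_zero, add_zero, add_assoc]

/-- Over the prime field a square-zero part of an element is a member of `Lie`. -/
theorem lie_of_mem {q : End'} (h : q * q = 0) (hmem : unitOf q h ∈ G) : q ∈ Lie G :=
  ⟨h, fun c => ⟨_, pow_mem hmem c.val, by rw [pow_unitOf, ZMod.natCast_zmod_val]⟩⟩

theorem lie_nl {g : Aut} (hg : g ∈ G) (h : nl g * nl g = 0) : nl g ∈ Lie G := by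
  refine lie_of_mem h ?_
  rw [show unitOf (nl g) h = g from Units.ext (by simp [nl])]
  exact hg

section translate

variable {a b : Module.End (ZMod p) V}

/-- A representation of `SL(2)` over the algebra generated by an element commuting with a pair. -/
theorem up_alpha_mem (hp : 5 ≤ p) (h : Dual a b) (α : End') (hαa : α * a = a * α) (hαb : α * b = b * α)
    (ha : a ∈ Lie G) (hb : b ∈ Lie G) (hαa2 : (α * a) * (α * a) = 0)
    (hc : cj (unitOf (α * a) hαa2) b ∈ Lie G) : α * a ∈ Lie G := by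
  set R := Algebra.adjoin (ZMod p) ({α} : Set End') with hR
  letI : CommRing R :=
    { (inferInstance : Ring R) with
      mul_comm := fun x y => Subtype.ext (Algebra.commute_of_mem_adjoin_singleton_of_commute y.2
        (Algebra.commute_of_mem_adjoin_singleton_of_commute x.2 (Commute.refl α)).symm).eq }
  haveI : Finite R := Subtype.finite
  have hra : ∀ r : R, Commute a (r : End') := fun r =>
    Algebra.commute_of_mem_adjoin_singleton_of_commute r.2 (Commute.symm hαa)
  have hrb : ∀ r : R, Commute b (r : End') := fun r =>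
    Algebra.commute_of_mem_adjoin_singleton_of_commute r.2 (Commute.symm hαb)
  obtain ⟨h1, h2, h3, h4⟩ := supp_mul h
  have hP := supp_sq h
  have hrP : ∀ r : R, Commute (supp a b) (r : End') := fun r =>
    ((hra r).mul_left (hrb r)).add_left ((hrb r).mul_left (hra r))
  let m : Matrix (Fin 2) (Fin 2) R → End' := fun g => 1 - supp a b + (g 0 0 : End') * (a * b) +
    (g 0 1 : End') * a + (g 1 0 : End') * b + (g 1 1 : End') * (b * a)
  have hone : m 1 = 1 := by
    simp only [m, Matrix.one_apply_eq, Matrix.one_apply_ne (show (0 : Fin 2) ≠ 1 by decide),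
      Matrix.one_apply_ne (show (1 : Fin 2) ≠ 0 by decide), OneMemClass.coe_one, ZeroMemClass.coe_zero,
      one_mul, zero_mul, supp]
    abel
  have hmul : ∀ g g', m (g * g') = m g * m g' := by
    intro g g'
    have a1 : a * a = 0 := h.sqa
    have b1 : b * b = 0 := h.sqb
    have aba : a * (b * a) = a := by rw [← mul_assoc]; exact h.aba
    have bab : b * (a * b) = b := by rw [← mul_assoc]; exact h.bab
    have aab : a * (a * b) = 0 := by rw [← mul_assoc, a1, zero_mul]
    have bba : b * (b * a) = 0 := by rw [← mul_assoc, b1, zero_mul]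
    have p1 : supp a b * (a * b) = a * b := by rw [← mul_assoc, h1]
    have p2 : supp a b * (b * a) = b * a := by rw [← mul_assoc, h3]
    have ca : ∀ (r : R) (y : End'), a * ((r : End') * y) = (r : End') * (a * y) := fun r y => by
      rw [← mul_assoc, (hra r).eq, mul_assoc]
    have cb : ∀ (r : R) (y : End'), b * ((r : End') * y) = (r : End') * (b * y) := fun r y => by
      rw [← mul_assoc, (hrb r).eq, mul_assoc]
    have cP : ∀ (r : R) (y : End'), supp a b * ((r : End') * y) = (r : End') * (supp a b * y) :=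
      fun r y => by rw [← mul_assoc, (hrP r).eq, mul_assoc]
    simp only [m, Matrix.mul_apply, Fin.sum_univ_two, Subalgebra.coe_add, Subalgebra.coe_mul, sub_mul,
      mul_sub, add_mul, mul_add, one_mul, mul_one, mul_assoc, ca, cb, cP, h1, h2, h3, h4, hP, p1, p2, a1,
      b1, aab, bba, aba, bab, mul_zero]
    abel
  let φ : SL(2, R) →* Aut := MonoidHom.toHomUnits
    { toFun := fun g => m g.1
      map_one' := by rw [Matrix.SpecialLinearGroup.coe_one]; exact hone
      map_mul' := fun g g' => by rw [Matrix.SpecialLinearGroup.coe_mul]; exact hmul g.1 g'.1 }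
  have hcoe : ∀ g : SL(2, R), (φ g : End') = m g.1 := fun g => rfl
  have hc1 : ((1 : R) : End') = 1 := rfl
  have hc0 : ((0 : R) : End') = 0 := rfl
  have hup : ∀ r : R, (φ (up r) : End') = 1 + (r : End') * a := by
    intro r
    rw [hcoe]
    simp only [m, up_00, up_01, up_10, up_11, hc1, hc0, one_mul,
      zero_mul, supp]
    abel
  have hlo : ∀ r : R, (φ (lo r) : End') = 1 + (r : End') * b := by
    intro r
    rw [hcoe]
    simp only [m, lo_00, lo_01, lo_10, lo_11, hc1, hc0, one_mul,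
      zero_mul, supp]
    abel
  set α' : R := ⟨α, Algebra.subset_adjoin rfl⟩ with hα'
  have htop : Algebra.adjoin (ZMod p) ({α'} : Set R) = ⊤ :=
    Subalgebra.map_injective (f := R.val) Subtype.val_injective (by
      rw [AlgHom.map_adjoin_singleton, Algebra.map_top, Subalgebra.range_val]; rfl)
  have hsc : ∀ (c : ZMod p) (x : End'), ((algebraMap (ZMod p) R c : R) : End') * x = c • x := fun c x => by
    rw [Subalgebra.coe_algebraMap, ← Algebra.smul_def]
  have hm : ∀ {n : End'}, n ∈ Lie G → ∀ (c : ZMod p) (g : Aut), (g : End') = 1 + c • n → g ∈ G := by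
    intro n hn c g hg
    obtain ⟨x, hx, he⟩ := hn.2 c
    rwa [show g = x from Units.ext (hg.trans he.symm)]
  have huα : φ (up α') = unitOf (α * a) hαa2 := Units.ext (by rw [hup, unitOf_coe])
  have := QuadTranslate20.up_mem hp α' htop (G.comap φ)
    (fun c => hm ha c _ (by rw [hup, hsc])) (fun c => hm hb c _ (by rw [hlo, hsc]))
    (fun c => by
      refine hm hc c _ ?_
      rw [← up_inv, map_mul, map_mul, map_inv, huα, Units.val_mul, Units.val_mul, hlo, hsc, unitOf_inv,
        cj, unitOf_inv, mul_add, mul_one, add_mul, mul_smul_comm, smul_mul_assoc, unitOf_coe]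
      rw [show (1 + α * a) * (1 - α * a) = (1 : End') by
        rw [add_mul, one_mul, mul_sub, mul_one, hαa2]; abel])
  exact lie_of_mem hαa2 (huα ▸ this)

/-- The difference of two duals with equal support. -/
theorem translate (hp : 5 ≤ p) {b' : End'} (h : Dual a b) (h' : Dual a b') (ha : a ∈ Lie G)
    (hb : b ∈ Lie G) (hb' : b' ∈ Lie G) (hP : supp a b = supp a b') :
    ∃ g ∈ flagFix G a, cj g b = b' := by
  obtain ⟨-, -, h3, h4⟩ := supp_mul h
  obtain ⟨-, -, c3, c4⟩ := supp_mul h'
  obtain ⟨δ, hδ⟩ : ∃ δ, δ = a * b - a * b' := ⟨_, rfl⟩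
  have δa : δ * a = 0 := by rw [hδ, sub_mul, h.aba, h'.aba, sub_self]
  have aδ : a * δ = 0 := by rw [hδ, mul_sub, ← mul_assoc, ← mul_assoc, h.sqa, zero_mul, zero_mul, sub_self]
  have abδ : a * b * δ = δ := by
    rw [hδ, mul_sub, ← mul_assoc (a * b) a b, ← mul_assoc (a * b) a b', h.aba]
  have δba : δ * b * a = δ := by
    have hu' : δ = -(a * b' * b * a) := by
      have e : a * b' * supp a b = a * b' := by rw [hP, mul_assoc, c4]
      rw [supp, mul_add, ← mul_assoc, h'.aba, ← mul_assoc] at e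
      rw [hδ]; linear_combination (norm := abel) e
    rw [hu', neg_mul, neg_mul, show a * b' * b * a * b * a = a * b' * (b * a * b) * a by noncomm_ring,
      h.bab]
  have δδ : δ * δ = 0 := by
    conv_lhs => arg 2; rw [← abδ]
    rw [← mul_assoc, ← mul_assoc, δa, zero_mul, zero_mul]
  have hconj : cj (unitOf δ δδ) b = b' := by
    subst hδ
    rw [cj, unitOf_coe, unitOf_inv]
    have e2 : b' * (a * b + b * a) = b' := by
      show b' * supp a b = b'
      rw [hP, c4]
    have e3 : (a * b + b * a) * b' = b' := by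
      show supp a b * b' = b'
      rw [hP, c3]
    have e5 : (a * b' + b' * a) * b = b := by
      show supp a b' * b = b
      rw [← hP, h3]
    have hbb : b * b = 0 := h.sqb
    calc (1 + (a * b - a * b')) * b * (1 - (a * b - a * b'))
        = (b + a * (b * b) - a * b' * b) * (1 - a * b + a * b') := by noncomm_ring
      _ = (b - a * b' * b) * (1 - a * b + a * b') := by rw [hbb, mul_zero, add_zero]
      _ = (b' * a * b) * (1 - a * b + a * b') := by
          rw [show b - a * b' * b = b' * a * b by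
            conv_lhs => arg 1; rw [← e5]
            noncomm_ring]
      _ = b' * a * b - b' * a * (b * a * b) + b' * a * b * a * b' := by noncomm_ring
      _ = b' * (a * b * a) * b' := by rw [h.bab, sub_self, zero_add]; noncomm_ring
      _ = b' := by rw [h.aba, h'.bab]
  have hbb : b * b = 0 := h.sqb
  have e : (δ * b + b * δ) * a = δ := by
    rw [add_mul, δba, mul_assoc, δa, mul_zero, add_zero]
  have hL : δ ∈ Lie G := by
    have h2 : (δ * b + b * δ) * a * ((δ * b + b * δ) * a) = 0 := by rw [e, δδ]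
    have := up_alpha_mem hp h (δ * b + b * δ) ?_ ?_ ha hb h2 ?_
    · rwa [e] at this
    · rw [e, mul_add, ← mul_assoc, aδ, zero_mul, zero_add, ← mul_assoc, abδ]
    · rw [add_mul, mul_add, mul_assoc δ b b, hbb, mul_zero, zero_add, ← mul_assoc b b δ, hbb, zero_mul,
        add_zero, mul_assoc]
    · have : unitOf _ h2 = unitOf δ δδ := Units.ext (by rw [unitOf_coe, unitOf_coe, e])
      rw [this, hconj]
      exact hb'
  refine ⟨unitOf δ δδ, ⟨Lie.mem hL, ?_, ?_, fun x _ => ?_⟩, hconj⟩
  · rw [nl_unitOf]; exact aδ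
  · rw [nl_unitOf]; exact δa
  · rw [nl_unitOf]
    exact ⟨b (δ x), LinearMap.congr_fun abδ x⟩

/-- **Any two duals are conjugate under the flag group.** -/
theorem dual_conj5 (hp : 5 ≤ p) {b' : End'} (h : Dual a b) (h' : Dual a b') (ha : a ∈ Lie G)
    (hb : b ∈ Lie G) (hb' : b' ∈ Lie G) : ∃ g ∈ flagFix G a, cj g b = b' := by
  classical
  have hk2 := two_ne hp
  set P := supp a b with hPd
  set P' := supp a b' with hP'd
  have hz : ∀ {c : Module.End (ZMod p) V} (hd : Dual a c), c ∈ Lie G → ∃ z : Aut, z ∈ G ∧ z * z = 1 ∧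
      (z : Module.End (ZMod p) V) = 1 - (supp a c + supp a c) := by
    intro c hd hc
    refine ⟨rep hd (-1), rep_mem hd ha hc _, ?_, ?_⟩
    · rw [← map_mul, neg_mul_neg, one_mul, map_one]
    · show mat a c ((-1 : SL(2, ZMod p)) : Matrix (Fin 2) (Fin 2) (ZMod p)) = _
      simp [mat, supp]
      abel
  obtain ⟨z, hzG, hz2, hze⟩ := hz h hb
  obtain ⟨z', hz'G, hz'2, hz'e⟩ := hz h' hb'
  obtain ⟨h1, h2, -, -⟩ := supp_mul h
  obtain ⟨c1, c2, -, -⟩ := supp_mul h'
  have hgF : z * z' ∈ flagFix G a := by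
    have e : nl (z * z') = 4 • (P * P') - (P + P + (P' + P')) := by
      rw [nl, Units.val_mul, hze, hz'e, ← hPd, ← hP'd]; noncomm_ring
    refine ⟨mul_mem hzG hz'G, ?_, ?_, fun x hx => ?_⟩
    · rw [e, mul_sub, mul_smul_comm, ← mul_assoc, h2, c2, mul_add, mul_add, mul_add, h2, c2]
      abel
    · rw [e, sub_mul, smul_mul_assoc, mul_assoc, c1, h1, add_mul, add_mul, add_mul, h1, c1]
      abel
    · have p1 : ∀ {c : Module.End (ZMod p) V}, Dual a c → ∀ y ∈ LinearMap.ker a,
          supp a c y ∈ LinearMap.range a := by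
        intro c hc y hy
        rw [supp, LinearMap.add_apply, Module.End.mul_apply c a, LinearMap.mem_ker.1 hy, map_zero,
          add_zero]
        exact ⟨c y, rfl⟩
      have p2 : LinearMap.range a ≤ LinearMap.ker a := by
        rintro _ ⟨y, rfl⟩; exact LinearMap.congr_fun ha.1 y
      rw [e, LinearMap.sub_apply, LinearMap.smul_apply]
      exact sub_mem (nsmul_mem (p1 h _ (p2 (p1 h' x hx))) _)
        (add_mem (add_mem (p1 h x hx) (p1 h x hx)) (add_mem (p1 h' x hx) (p1 h' x hx)))
  obtain ⟨j, hj⟩ : ∃ j : ℕ, (z * z') ^ (2 * j + 1) = 1 := by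
    refine exists_odd_half (p := p) (by omega) ?_
    obtain ⟨i, hi⟩ := isPGroup_flagFix (G := G) (p := p) (by omega : 3 ≤ p) a ha.1 ⟨_, hgF⟩
    exact ⟨i, congrArg Subtype.val hi⟩
  set g := z * z' with hg
  have hzinv : z⁻¹ = z := inv_eq_of_mul_eq_one_right hz2
  have hconj : ∀ n : ℕ, z * g ^ n * z = (g ^ n)⁻¹ := by
    intro n
    have h0 : z * g * z⁻¹ = g⁻¹ := by
      rw [hg, mul_inv_rev, ← mul_assoc z z z', hz2, one_mul, hzinv, inv_eq_of_mul_eq_one_right hz'2]
    have := congrArg (· ^ n) h0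
    simp only [conj_pow, inv_pow] at this
    rwa [hzinv] at this
  have hy : g ^ j * z * (g ^ j)⁻¹ = z' := by
    have h2' : z * (g ^ j)⁻¹ = g ^ j * z := by
      rw [← hconj j, ← mul_assoc, ← mul_assoc, hz2, one_mul]
    rw [mul_assoc, h2', ← mul_assoc, ← pow_add, ← two_mul]
    have h3 : g ^ (2 * j) = g⁻¹ := eq_inv_of_mul_eq_one_left (by rw [← pow_succ]; exact hj)
    rw [h3, hg, mul_inv_rev, inv_eq_of_mul_eq_one_right hz'2, hzinv, mul_assoc, hz2, mul_one]
  have hyF : g ^ j ∈ flagFix G a := pow_mem hgF j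
  set y := g ^ j with hydef
  have hya : cj y a = a := flagFix_fix hyF
  have hsupp : supp a (cj y b) = supp a b' := by
    have e1 : cj y (z : Module.End (ZMod p) V) = (z' : Module.End (ZMod p) V) := by rw [cj_coe, hy]
    rw [hze, hz'e, cj_sub, cj_one, cj_add] at e1
    have e2 : (2 : ZMod p) • cj y (supp a b) = (2 : ZMod p) • supp a b' := by
      rw [two_smul, two_smul]; exact sub_right_injective e1
    have e3 := congrArg (fun t => (2 : ZMod p)⁻¹ • t) e2
    simp only [smul_smul, inv_mul_cancel₀ hk2, one_smul] at e3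
    rw [← e3, supp, supp, cj_add, cj_mul, cj_mul, hya]
  obtain ⟨g', hg', he⟩ := translate hp (hya ▸ dual_cj h y) h' ha (Lie.conj hb (flagFix_le hyF)) hb' hsupp
  exact ⟨g' * y, mul_mem hg' hyF, by rw [← cj_comp, he]⟩

end translate

/-- The action on endomorphisms of linear maps with a scalar. -/
@[reducible] def scAction : MulAction (Aut × (ZMod p)ˣ) End' where
  smul x n := (x.2 : ZMod p) • cj x.1 n
  one_smul n := by show ((1 : (ZMod p)ˣ) : ZMod p) • cj 1 n = n; simp [cj]
  mul_smul x y n := by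
    show ((x.2 * y.2 : (ZMod p)ˣ) : ZMod p) • cj (x.1 * y.1) n =
      (x.2 : ZMod p) • cj x.1 ((y.2 : ZMod p) • cj y.1 n)
    rw [cj_smul, smul_smul, cj_comp, Units.val_mul]

/-- **A coprime group fixing a part, up to scalars, fixes a dual of it up to the same scalars.** -/
theorem fixed_dual (hp : 5 ≤ p) {a b₁ : End'} (hd : Dual a b₁) (ha : a ∈ Lie G) (hb : b₁ ∈ Lie G)
    (A : Subgroup (Aut × (ZMod p)ˣ)) (hG : ∀ x ∈ A, x.1 ∈ Subgroup.normalizer (G : Set Aut))
    (hfix : ∀ x ∈ A, cj x.1 a = (x.2 : ZMod p) • a) (hcop : (Nat.card A).Coprime p) :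
    ∃ b, b ∈ Lie G ∧ Dual a b ∧ ∀ x ∈ A, (x.2 : ZMod p) • cj x.1 b = b := by
  set K := (flagFix G a).prod (⊥ : Subgroup (ZMod p)ˣ) with hK
  have hAK : A ≤ Subgroup.normalizer (K : Set (Aut × (ZMod p)ˣ)) := by
    refine CoprimeAction.le_normalizer_of_conj_mem fun x hx y hy => ?_
    obtain ⟨⟨g0, g1, g2, g3⟩, hy2⟩ := Subgroup.mem_prod.1 hy
    have hs : (x.2 : ZMod p) ≠ 0 := x.2.ne_zero
    have hker : LinearMap.ker (cj x.1 a) = LinearMap.ker a := by
      rw [hfix x hx, LinearMap.ker_smul _ _ hs]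
    have hran : LinearMap.range (cj x.1 a) = LinearMap.range a := by
      rw [hfix x hx, LinearMap.range_smul _ _ hs]
    have e : nl (x.1 * y.1 * x.1⁻¹) = cj x.1 (nl y.1) := by rw [nl, ← cj_coe, nl, cj_sub, cj_one]
    refine Subgroup.mem_prod.2 ⟨⟨(Subgroup.mem_normalizer_iff.1 (hG x hx) y.1).1 g0, ?_, ?_, fun v hv => ?_⟩, ?_⟩
    · show a * nl (x.1 * y.1 * x.1⁻¹) = 0
      have := congrArg (cj x.1) g1
      rw [cj_mul, cj_zero, hfix x hx, smul_mul_assoc] at this
      rw [e]; exact (smul_eq_zero.1 this).resolve_left hs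
    · show nl (x.1 * y.1 * x.1⁻¹) * a = 0
      have := congrArg (cj x.1) g2
      rw [cj_mul, cj_zero, hfix x hx, mul_smul_comm] at this
      rw [e]; exact (smul_eq_zero.1 this).resolve_left hs
    · show nl (x.1 * y.1 * x.1⁻¹) v ∈ LinearMap.range a
      rw [← hker, ker_cj] at hv
      rw [e, ← hran, range_cj]
      exact ⟨_, g3 _ hv, rfl⟩
    · rw [Subgroup.mem_bot] at hy2 ⊢
      show x.2 * y.2 * x.2⁻¹ = 1
      rw [hy2]; simp
  have hKp : IsPGroup p K := by
    refine (isPGroup_flagFix (G := G) (p := p) (by omega : 3 ≤ p) a ha.1).of_injective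
      ((MonoidHom.fst _ _).comp K.subtype |>.codRestrict (flagFix G a)
        fun y => (Subgroup.mem_prod.1 y.2).1) ?_
    intro u v huv
    have h1 : (u : Aut × (ZMod p)ˣ).1 = (v : Aut × (ZMod p)ˣ).1 := congrArg Subtype.val huv
    exact Subtype.ext (Prod.ext h1
      ((Subgroup.mem_bot.1 (Subgroup.mem_prod.1 u.2).2).trans (Subgroup.mem_bot.1 (Subgroup.mem_prod.1 v.2).2).symm))
  letI := scAction (p := p) (V := V)
  have horb : ∀ x ∈ A, ∃ f ∈ K, f • b₁ = x • b₁ := by
    intro x hx
    have hd' : Dual a ((x.2 : ZMod p) • cj x.1 b₁) := by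
      obtain ⟨d1, d2, d3, d4⟩ := dual_cj hd x.1
      rw [hfix x hx] at d3 d4
      refine ⟨hd.sqa, by rw [smul_mul_smul_comm, d2, smul_zero], ?_, ?_⟩
      · rw [mul_smul_comm, smul_mul_assoc]
        simp only [smul_mul_assoc, mul_smul_comm, smul_smul] at d3
        have := congrArg (fun t => ((x.2⁻¹ : (ZMod p)ˣ) : ZMod p) • t) d3
        simp only [smul_smul] at this
        rwa [← mul_assoc, Units.inv_mul, one_mul, one_smul] at this
      · conv_rhs => rw [← d4]
        simp only [smul_mul_assoc, mul_smul_comm, smul_smul]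
    obtain ⟨f, hf, he⟩ := dual_conj5 hp hd hd' ha hb (Lie.smul (lie_cj (hG x hx) hb) _)
    refine ⟨(f, 1), Subgroup.mem_prod.2 ⟨hf, one_mem _⟩, ?_⟩
    show ((1 : (ZMod p)ˣ) : ZMod p) • cj f b₁ = (x.2 : ZMod p) • cj x.1 b₁
    rw [Units.val_one, one_smul, he]
  obtain ⟨g, hg, hgf⟩ := CoprimeAction.exists_fixed_point (Ω := End') hAK
    (by obtain ⟨n, hn⟩ := IsPGroup.iff_card.1 hKp; rw [hn]; exact hcop.pow_right n)
    (Or.inr (CoprimeAction.isSolvable_of_isPGroup hKp)) b₁ horb
  obtain ⟨hg1, hg2⟩ := Subgroup.mem_prod.1 hg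
  rw [Subgroup.mem_bot] at hg2
  refine ⟨cj g.1 b₁, Lie.conj hb (flagFix_le hg1), flagFix_fix hg1 ▸ dual_cj hd g.1, fun x hx => ?_⟩
  have e : g • b₁ = cj g.1 b₁ := by
    show (g.2 : ZMod p) • cj g.1 b₁ = _
    rw [hg2, Units.val_one, one_smul]
  have := hgf x hx
  rw [e] at this
  exact this

/-- A coprime group fixing a part fixes a dual of it. -/
theorem fixed_dual' (hp : 5 ≤ p) {a b₁ : End'} (hd : Dual a b₁) (ha : a ∈ Lie G) (hb : b₁ ∈ Lie G)
    (A : Subgroup Aut) (hG : A ≤ Subgroup.normalizer (G : Set Aut)) (hfix : ∀ x ∈ A, cj x a = a)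
    (hcop : (Nat.card A).Coprime p) : ∃ b, b ∈ Lie G ∧ Dual a b ∧ ∀ x ∈ A, cj x b = b := by
  obtain ⟨b, h1, h2, h3⟩ := fixed_dual hp hd ha hb (A.map (MonoidHom.inl Aut (ZMod p)ˣ))
    (by rintro _ ⟨x, hx, rfl⟩; exact hG hx)
    (by rintro _ ⟨x, hx, rfl⟩; simp [hfix x hx])
    (by rwa [Subgroup.card_map_of_injective (fun u v h => congrArg Prod.fst h)])
  exact ⟨b, h1, h2, fun x hx => by simpa using h3 _ ⟨x, hx, rfl⟩⟩

/-! ### Existence -/

theorem sup_root_conj {g : Aut} (hg : g ∈ G) :
    conjBy (QuadPairComponents.root0 G) g = QuadPairComponents.root0 G :=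
  QuadPairComponents.conj_iSup_eq (fun _ hB _ hx => QuadPairComponents.conj_root hB hx) hg

theorem cent_root_conj {g : Aut} (hg : g ∈ G) :
    conjBy (G ⊓ Subgroup.centralizer (QuadPairComponents.root0 G : Set Aut)) g =
      G ⊓ Subgroup.centralizer (QuadPairComponents.root0 G : Set Aut) := by
  refine RankOne.conjBy_eq_self_iff.2 (CoprimeAction.le_normalizer_inf Subgroup.le_normalizer
    (fun x hx => ?_) hg)
  refine Subgroup.mem_normalizer_iff.2 fun y => ?_
  have hn : ∀ z ∈ G, ∀ y ∈ Subgroup.centralizer (QuadPairComponents.root0 G : Set Aut),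
      z * y * z⁻¹ ∈ Subgroup.centralizer (QuadPairComponents.root0 G : Set Aut) := by
    intro z hz y hy
    refine Subgroup.mem_centralizer_iff.2 fun w hw => ?_
    have hw' : z⁻¹ * w * z ∈ QuadPairComponents.root0 G := by
      rw [← sup_root_conj (inv_mem hz)]
      exact ⟨w, hw, by simp⟩
    have := Subgroup.mem_centralizer_iff.1 hy _ hw'
    calc w * (z * y * z⁻¹) = z * ((z⁻¹ * w * z) * y) * z⁻¹ := by group
      _ = z * (y * (z⁻¹ * w * z)) * z⁻¹ := by rw [this]
      _ = _ := by group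
  exact ⟨hn x hx y, fun h => by simpa [mul_assoc] using hn x⁻¹ (inv_mem hx) _ h⟩

theorem min_dual (hp : 5 ≤ p) (hG : QuadPairUnipotent.Reduced G) {m : End'} (hm : IsMin G m) :
    ∃ c, IsMin G c ∧ Dual m c := by
  obtain ⟨b₀, hb₀, ho⟩ := QuadPairUnipotent.exists_opp (two_ne hp) (card_ne hp) hG hm
  obtain ⟨c, hc, hc0, hd⟩ := exists_dual (two_ne hp) (card_ne hp) hm hb₀ ho
  exact ⟨c, (cls_spaces hb₀ hc hc0).1, hd⟩

theorem cent_root_lt (hp : 5 ≤ p) (hG : QuadPairUnipotent.Reduced G) {a : End'} (ha : IsMin G a) :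
    G ⊓ Subgroup.centralizer (QuadPairComponents.root0 G : Set Aut) < G := by
  refine lt_of_le_of_ne inf_le_left fun e => ha.2.1 ?_
  obtain ⟨c, hc, hd⟩ := min_dual hp hG ha
  have h1 : unitOf a ha.1.1 ∈ G ⊓ Subgroup.centralizer (QuadPairComponents.root0 G : Set Aut) := by
    rw [e]; exact Lie.mem ha.1
  have h2 := Subgroup.mem_centralizer_iff.1 h1.2 (unitOf c hc.1.1)
    (QuadPairComponents.le_root0 (mem_roots.2 ⟨c, hc, rfl⟩) (unitOf_mem_E (self_mem_cls hc.1)))
  have h3 := QuadPairCommute.nl_comm h2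
  rw [nl_unitOf, nl_unitOf] at h3
  rw [← hd.aba, mul_assoc, h3, ← mul_assoc, hd.sqa, zero_mul]

/-- **Every part of a reduced group has a dual.** -/
theorem exists_dual_lie (hp : 5 ≤ p) (hG : QuadPairUnipotent.Reduced G) {q : End'} (hq : q ∈ Lie G) :
    ∃ b, b ∈ Lie G ∧ Dual q b := by
  suffices ∀ (n : ℕ) (G : Subgroup Aut), QuadPairUnipotent.Reduced G → Nat.card G ≤ n →
      ∀ (r : ℕ) (q : End'), q ∈ Lie G → rk q = r → ∃ b, b ∈ Lie G ∧ Dual q b from
    this _ G hG le_rfl _ q hq rfl
  clear! G q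
  intro n
  induction n with
  | zero => intro G _ h; exact absurd h Nat.card_pos.not_ge
  | succ n ih =>
    intro G hG hn r
    induction r using Nat.strong_induction_on with
    | _ r ihr =>
      intro q hq hr
      rcases eq_or_ne q 0 with rfl | hq0
      · exact ⟨0, lie_zero, ⟨by simp, by simp, by simp, by simp⟩⟩
      by_cases hall : ∀ a, IsMin G a → QuadPairCentral.Nil a q
      · obtain ⟨a, ha⟩ := QuadPairProduct.exists_min hq hq0
        set G₁ := G ⊓ Subgroup.centralizer (QuadPairComponents.root0 G : Set Aut)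
        have hlt := cent_root_lt hp hG ha
        have hmem : unitOf q hq.1 ∈ G₁ := by
          refine ⟨Lie.mem hq, Subgroup.mem_centralizer_iff.2 fun g hg => ?_⟩
          have hle : QuadPairComponents.root0 G ≤ Subgroup.centralizer ({unitOf q hq.1} : Set Aut) := by
            refine iSup₂_le fun A hA g hg => ?_
            obtain ⟨a, ha, rfl⟩ := mem_roots.1 hA
            rw [Subgroup.mem_centralizer_iff]
            intro y hy
            rw [Set.mem_singleton_iff.1 hy]
            refine QuadPairCommute.comm_of_nl ?_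
            rw [nl_unitOf]
            rcases eq_or_ne (nl g) 0 with h0 | h0
            · rw [h0, mul_zero, zero_mul]
            · exact QuadPairCentral.commutes (two_ne hp) (card_ne hp) hG hq hall
                (cls_spaces ha (mem_E.1 hg) h0).1
          exact (Subgroup.mem_centralizer_iff.1 (hle hg) _ rfl).symm
        have hcard : Nat.card G₁ < Nat.card G :=
          (Subgroup.card_le_of_le hlt.le).lt_of_ne fun e =>
            hlt.ne (Subgroup.eq_of_le_of_card_ge hlt.le e.ge)
        obtain ⟨b, hb, hd⟩ := ih G₁ (QuadPairNoUni.descend hG inf_le_left fun x hx => cent_root_conj hx)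
          (by omega) _ q (lie_of_mem hq.1 hmem) rfl
        exact ⟨b, QuadPairProduct.lie_mono inf_le_left hb, hd⟩
      · push Not at hall
        obtain ⟨a, ha, hna⟩ := hall
        obtain ⟨q₁, q₀, hq₁, hq₀, h10, h01, rfl, hlt, ha0, h0a⟩ :=
          split' (two_ne hp) (card_ne hp) hq ha hna
        have hopp : Opp q₁ a := by
          refine (uni_or_opp (two_ne hp) (card_ne hp) hq₁ ha).resolve_left fun hu => hna ⟨1, ?_⟩
          rw [pow_one, mul_add, ha0, add_zero]
          exact hu.2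
        obtain ⟨b₁, hb₁, hb₁0, hd₁⟩ := exists_dual (two_ne hp) (card_ne hp) hq₁ ha hopp
        have q0b1 : q₀ * b₁ = 0 := LinearMap.ext fun x => by
          obtain ⟨y, hy⟩ := hb₁.2.1 ⟨x, rfl⟩
          rw [Module.End.mul_apply, ← hy]
          exact LinearMap.congr_fun h0a y
        have b1q0 : b₁ * q₀ = 0 := LinearMap.ext fun x =>
          LinearMap.mem_ker.1 (hb₁.2.2 (LinearMap.mem_ker.2 (LinearMap.congr_fun ha0 x)))
        obtain ⟨b, hb, hd⟩ := ihr _ (hr ▸ hlt) q₀ hq₀ rfl
        -- the involution of the first pair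
        set P := supp q₁ b₁ with hP
        set z := rep hd₁ (-1) with hz
        have hze : (z : End') = 1 - (P + P) := by
          show mat q₁ b₁ ((-1 : SL(2, ZMod p)) : Matrix (Fin 2) (Fin 2) (ZMod p)) = _
          simp [mat, hP, supp]
          abel
        have hz2 : z ^ 2 = 1 := by
          rw [hz, ← map_pow, sq, neg_mul_neg, one_mul, map_one]
        have hzinv : z⁻¹ = z := inv_eq_of_mul_eq_one_right (by rw [← sq]; exact hz2)
        have Pq0 : P * q₀ = 0 := by
          rw [hP, supp, add_mul, mul_assoc, b1q0, mul_zero, mul_assoc, h10, mul_zero, add_zero]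
        have q0P : q₀ * P = 0 := by
          rw [hP, supp, mul_add, ← mul_assoc, h01, zero_mul, ← mul_assoc, q0b1, zero_mul, add_zero]
        have hzq : cj z q₀ = q₀ := by
          rw [cj, hzinv, hze]
          simp only [sub_mul, add_mul, mul_sub, mul_add, one_mul, mul_one, Pq0, q0P, zero_mul, mul_zero,
            sub_zero, add_zero, zero_add]
        obtain ⟨b₀, hb₀, hd₀, hfix⟩ := fixed_dual' hp hd hq₀ hb (Subgroup.zpowers z)
          (Subgroup.zpowers_le.2 (Subgroup.le_normalizer (rep_mem hd₁ hq₁.1 hb₁.1 _)))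
          (fun x hx => by
            obtain ⟨i, rfl⟩ := Subgroup.mem_zpowers_iff.1 hx
            rcases Int.even_or_odd i with ⟨j, rfl⟩ | ⟨j, rfl⟩
            · rw [← two_mul, zpow_mul, show z ^ (2 : ℤ) = 1 from hz2, one_zpow, cj, inv_one]; simp
            · rw [zpow_add_one, zpow_mul, show z ^ (2 : ℤ) = 1 from hz2, one_zpow, one_mul]; exact hzq)
          (by
            rw [Nat.card_zpowers]
            refine Nat.Coprime.coprime_dvd_left (orderOf_dvd_of_pow_eq_one hz2) ?_
            exact (Nat.coprime_primes Nat.prime_two Fact.out).2 (by omega))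
        have hzb : (z : End') * b₀ = b₀ * (z : End') := by
          have := hfix z (Subgroup.mem_zpowers z)
          rw [cj] at this
          conv_rhs => rw [← this]
          rw [mul_assoc _ _ (z : End'), Units.inv_mul, mul_one]
        have Pb : P * b₀ = b₀ * P := by
          rw [hze, sub_mul, mul_sub, one_mul, mul_one, add_mul, mul_add] at hzb
          have h2 : (2 : ZMod p) • (P * b₀) = (2 : ZMod p) • (b₀ * P) := by
            rw [two_smul, two_smul]; exact sub_right_injective hzb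
          have := congrArg (fun t => (2 : ZMod p)⁻¹ • t) h2
          simpa [smul_smul, two_ne hp] using this
        have Pb0 : P * b₀ = 0 := by
          conv_lhs => arg 2; rw [← hd₀.bab]
          rw [← mul_assoc, ← mul_assoc, Pb, mul_assoc b₀ P q₀, Pq0, mul_zero, zero_mul]
        have bP0 : b₀ * P = 0 := Pb ▸ Pb0
        obtain ⟨s1, s2, s3, s4⟩ := supp_mul hd₁
        have bb1 : b₀ * b₁ = 0 := by rw [← s3, ← mul_assoc, ← hP, bP0, zero_mul]
        have b1b : b₁ * b₀ = 0 := by rw [← s4, mul_assoc, ← hP, Pb0, mul_zero]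
        have bq1 : b₀ * q₁ = 0 := by rw [← s1, ← mul_assoc, ← hP, bP0, zero_mul]
        have q1b : q₁ * b₀ = 0 := by rw [← s2, mul_assoc, ← hP, Pb0, mul_zero]
        refine ⟨b₁ + b₀, Lie.add hb₁.1 hb₀ b1b bb1, ?_⟩
        have l1 : (q₁ + q₀) * (b₁ + b₀) = q₁ * b₁ + q₀ * b₀ := by
          simp [mul_add, add_mul, q1b, q0b1]
        have l2 : (b₁ + b₀) * (q₁ + q₀) = b₁ * q₁ + b₀ * q₀ := by
          simp [mul_add, add_mul, b1q0, bq1]
        refine ⟨hq.1, (Lie.add hb₁.1 hb₀ b1b bb1).1, ?_, ?_⟩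
        · rw [l1, add_mul, mul_add, mul_add, hd₁.aba, hd₀.aba, mul_assoc q₁ b₁ q₀, b1q0,
            mul_assoc q₀ b₀ q₁, bq1, mul_zero, mul_zero, add_zero, zero_add]
        · rw [l2, add_mul, mul_add, mul_add, hd₁.bab, hd₀.bab, mul_assoc b₁ q₁ b₀, q1b,
            mul_assoc b₀ q₀ b₁, q0b1, mul_zero, mul_zero, add_zero, zero_add]

end prime

end Cfsg.Agent.QuadDual20
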