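import Mathlib
import Cfsg.Agent.Lib.QuadDual20
import Cfsg.Agent.Lib.QuadPairCommute
import Cfsg.Agent.Lib.QuadPairRootSet
import Cfsg.Agent.Lib.LocalBasics

/-!
Weight decomposition with respect to a dual pair, and the uniqueness of the root group fixed by the
flag group: a root group normalized by the flag group of `a` and connected with the root group of `a`
is that root group.
-/

set_option autoImplicit false
set_option linter.unusedSectionVars false

namespace Cfsg.Agent.QuadWeights20

open Cfsg Cfsg.Agent.QuadPairTheory Cfsg.Agent.QuadPairDualOrbit20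
open Cfsg.Agent.QuadPairSL2 Cfsg.Agent.QuadPairCoprimeFixed20
open scoped MatrixGroups

section ring

variable {R : Type*} [Ring R] {a b : R}

/-- Idempotent relations of a dual pair. -/
structure Proj (a b e m g : R) : Prop where
  ee : e * e = e
  gg : g * g = g
  mm : m * m = m
  eg : e * g = 0
  ge : g * e = 0
  em : e * m = 0
  me : m * e = 0
  gm : g * m = 0
  mg : m * g = 0
  sum : e + m + g = 1
  ea : e * a = a
  ag : a * g = a
  ae : a * e = 0
  ga : g * a = 0
  am : a * m = 0
  ma : m * a = 0
  gb : g * b = b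
  be : b * e = b
  bg : b * g = 0
  eb : e * b = 0
  bm : b * m = 0
  mb : m * b = 0
  ab : a * b = e
  ba : b * a = g

theorem proj (aa : a * a = 0) (bb : b * b = 0) (aba : a * b * a = a) (bab : b * a * b = b) :
    Proj a b (a * b) (1 - a * b - b * a) (b * a) := by
  have ee : a * b * (a * b) = a * b := by rw [← mul_assoc, aba]
  have gg : b * a * (b * a) = b * a := by rw [← mul_assoc, bab]
  have eg : a * b * (b * a) = 0 := by rw [mul_assoc, ← mul_assoc b b, bb, zero_mul, mul_zero]
  have ge : b * a * (a * b) = 0 := by rw [mul_assoc, ← mul_assoc a a, aa, zero_mul, mul_zero]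
  have aab : a * (a * b) = 0 := by rw [← mul_assoc, aa, zero_mul]
  have aba' : a * (b * a) = a := by rw [← mul_assoc, aba]
  have bba : b * (b * a) = 0 := by rw [← mul_assoc, bb, zero_mul]
  have bab' : b * (a * b) = b := by rw [← mul_assoc, bab]
  have gaa : b * a * a = 0 := by rw [mul_assoc, aa, mul_zero]
  have ebb : a * b * b = 0 := by rw [mul_assoc, bb, mul_zero]
  refine ⟨ee, gg, ?_, eg, ge, ?_, ?_, ?_, ?_, by abel, aba, aba', aab, gaa, ?_, ?_, bab, bab', bba, ebb,
    ?_, ?_, rfl, rfl⟩
  · simp only [mul_sub, sub_mul, mul_one, one_mul, ee, gg, eg, ge]; abel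
  all_goals simp only [mul_sub, sub_mul, mul_one, one_mul, ee, gg, eg, ge, aba, aba', aab, gaa, bab, bab',
    bba, ebb]; abel

variable {e m g : R} (P : Proj a b e m g) {x y f : R}
include P

/-- Nine blocks. -/
theorem blocks (x : R) : x = e * x * e + e * x * m + e * x * g + (m * x * e + m * x * m + m * x * g) +
    (g * x * e + g * x * m + g * x * g) := by
  calc x = (e + m + g) * x * (e + m + g) := by rw [P.sum, one_mul, mul_one]
    _ = _ := by noncomm_ring

theorem upper_of_commute (h : a * x = x * a) :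
    m * x * e = 0 ∧ g * x * e = 0 ∧ g * x * m = 0 := by
  refine ⟨?_, ?_, ?_⟩
  · rw [← P.ab, ← mul_assoc (m * x) a b, mul_assoc m x a, ← h, ← mul_assoc m a x, P.ma, zero_mul, zero_mul]
  · rw [← P.ab, ← mul_assoc (g * x) a b, mul_assoc g x a, ← h, ← mul_assoc g a x, P.ga, zero_mul, zero_mul]
  · rw [← P.ba, mul_assoc b a x, h, ← mul_assoc b x a, mul_assoc (b * x) a m, P.am, mul_zero]

/-- The blocks of positive weight one. -/
theorem wp_blocks (hx : e * x * m + m * x * g = x) :
    e * x = e * x * m ∧ x * g = m * x * g ∧ x * m = e * x * m ∧ m * x = m * x * g ∧ g * x = 0 ∧ x * e = 0 ∧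
      a * x * m = 0 ∧ a * x = 0 ∧ x * a = 0 := by
  have h1 : a * x = 0 := by
    rw [← hx, mul_add, ← mul_assoc, ← mul_assoc, ← mul_assoc, ← mul_assoc, P.ae, P.am]
    simp
  refine ⟨?_, ?_, ?_, ?_, ?_, ?_, by rw [h1, zero_mul], h1, ?_⟩ <;> conv_lhs => rw [← hx]
  · simp only [mul_add, ← mul_assoc, P.ee, P.em, zero_mul, add_zero]
  · simp only [add_mul, mul_assoc, P.mg, P.gg, mul_zero, zero_add]
  · simp only [add_mul, mul_assoc, P.mm, P.gm, mul_zero, add_zero]
  · simp only [mul_add, ← mul_assoc, P.me, P.mm, zero_mul, zero_add]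
  · simp only [mul_add, ← mul_assoc, P.ge, P.gm, zero_mul, add_zero]
  · simp only [add_mul, mul_assoc, P.me, P.ge, mul_zero, add_zero]
  · simp only [add_mul, mul_assoc, P.ma, P.ga, mul_zero, add_zero]

/-- The blocks of negative weight one. -/
theorem wn_blocks (hx : g * x * m + m * x * e = x) :
    g * x = g * x * m ∧ x * e = m * x * e ∧ x * m = g * x * m ∧ m * x = m * x * e := by
  refine ⟨?_, ?_, ?_, ?_⟩ <;> conv_lhs => rw [← hx]
  · simp only [mul_add, ← mul_assoc, P.gg, P.gm, zero_mul, add_zero]
  · simp only [add_mul, mul_assoc, P.me, P.ee, mul_zero, zero_add]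
  · simp only [add_mul, mul_assoc, P.mm, P.em, mul_zero, add_zero]
  · simp only [mul_add, ← mul_assoc, P.mg, P.mm, zero_mul, zero_add]

theorem weyl_wn (hx : g * x * m + m * x * e = x) :
    (m + a - b) * x * (m - a + b) = a * x * m - m * x * a := by
  have hwg : (m + a - b) * g = a := by rw [sub_mul, add_mul, P.mg, P.ag, P.bg, zero_add, sub_zero]
  have hwm : (m + a - b) * m = m := by rw [sub_mul, add_mul, P.mm, P.am, P.bm, add_zero, sub_zero]
  have hem : m * (m - a + b) = m := by rw [mul_add, mul_sub, P.mm, P.ma, P.mb, add_zero, sub_zero]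
  have hee : e * (m - a + b) = -a := by rw [mul_add, mul_sub, P.em, P.ea, P.eb, add_zero, zero_sub]
  conv_lhs => arg 1; arg 2; rw [← hx]
  rw [show (m + a - b) * (g * x * m + m * x * e) * (m - a + b) =
    ((m + a - b) * g) * x * (m * (m - a + b)) + ((m + a - b) * m) * x * (e * (m - a + b)) by noncomm_ring,
    hwg, hwm, hem, hee, mul_neg, sub_eq_add_neg]

theorem wp_weyl_ring (x : R) :
    e * (a * x * m - m * x * a) * m + m * (a * x * m - m * x * a) * g = a * x * m - m * x * a := by
  simp only [mul_sub, sub_mul, ← mul_assoc, P.ea, P.em, P.ma, P.mm, zero_mul, sub_zero, zero_sub, neg_mul]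
  simp only [mul_assoc, P.mm, P.ag]
  abel

end ring

variable {p : ℕ} [Fact p.Prime] {V : Type*} [AddCommGroup V] [Module (ZMod p) V] [Finite V]
  {G : Subgroup (LinearMap.GeneralLinearGroup (ZMod p) V)}

local notation "Aut" => LinearMap.GeneralLinearGroup (ZMod p) V
local notation "End'" => Module.End (ZMod p) V

section pair

variable {a b : Module.End (ZMod p) V}

/-- The complementary idempotent. -/
def mid (a b : Module.End (ZMod p) V) : Module.End (ZMod p) V := 1 - a * b - b * a

/-- Positive weight one. -/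
def Wp (a b x : Module.End (ZMod p) V) : Prop := a * b * x * mid a b + mid a b * x * (b * a) = x

/-- Negative weight one. -/
def Wn (a b x : Module.End (ZMod p) V) : Prop := b * a * x * mid a b + mid a b * x * (a * b) = x

theorem proj' (h : Dual a b) : Proj a b (a * b) (mid a b) (b * a) := proj h.sqa h.sqb h.aba h.bab

theorem weyl_coe (h : Dual a b) : (weyl h : End') = mid a b + a - b := by
  show mat a b !![0, 1; -1, 0] = _
  simp [mat, supp, mid, sub_eq_add_neg]
  abel

theorem weyl_inv (h : Dual a b) : (((weyl h)⁻¹ : Aut) : End') = mid a b - a + b := by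
  rw [weyl_inv_coe]
  simp [mat, supp, mid, sub_eq_add_neg]
  abel

theorem cj_weyl_wn (h : Dual a b) {x : End'} (hx : Wn a b x) :
    cj (weyl h) x = a * x * mid a b - mid a b * x * a := by
  rw [cj, weyl_coe h, weyl_inv h]
  exact weyl_wn (proj' h) hx

theorem wp_weyl (h : Dual a b) {x : End'} (hx : Wn a b x) : Wp a b (cj (weyl h) x) := by
  rw [cj_weyl_wn h hx, Wp]
  exact wp_weyl_ring (proj' h) x

theorem wp_mul (h : Dual a b) {x : End'} (hx : Wp a b x) : a * x = 0 ∧ x * a = 0 := by
  obtain ⟨-, -, -, -, -, -, -, h1, h2⟩ := wp_blocks (proj' h) hx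
  exact ⟨h1, h2⟩

theorem flag_of_wp (h : Dual a b) {x : End'} (hx : Wp a b x) (hL : x ∈ Lie G) :
    unitOf x hL.1 ∈ flagFix G a := by
  obtain ⟨h1, h2⟩ := wp_mul h hx
  refine ⟨Lie.mem hL, by rw [nl_unitOf]; exact h1, by rw [nl_unitOf]; exact h2, fun v hv => ?_⟩
  rw [nl_unitOf, ← hx, LinearMap.add_apply]
  have e : (mid a b * x * (b * a)) v = 0 := by
    show (mid a b * x) (b (a v)) = 0
    rw [LinearMap.mem_ker.1 hv, map_zero, map_zero]
  rw [e, add_zero]
  exact ⟨b ((x * mid a b) v), by simp [mul_assoc]⟩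

/-- The torus. -/
def torus (h : Dual a b) : (ZMod p)ˣ →* Aut :=
  (rep h).comp
    { toFun := fun t => QuadPairRed.dg t
      map_one' := by apply sl_ext <;> first | rfl | simp only [QuadPairRed.dg_11, inv_one, Units.val_one]; rfl
      map_mul' := fun s t => by
        apply sl_ext <;>
          simp only [QuadPairSL2.mul_apply, QuadPairRed.dg_00, QuadPairRed.dg_01, QuadPairRed.dg_10,
            QuadPairRed.dg_11, Units.val_mul, mul_inv, mul_zero, zero_mul, add_zero, zero_add] }

theorem torus_coe (h : Dual a b) (t : (ZMod p)ˣ) :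
    (torus h t : End') = mid a b + (t : ZMod p) • (a * b) + ((t⁻¹ : (ZMod p)ˣ) : ZMod p) • (b * a) := by
  show mat a b (QuadPairRed.dg t).1 = _
  simp only [mat, supp, mid, QuadPairRed.dg_00, QuadPairRed.dg_01, QuadPairRed.dg_10, QuadPairRed.dg_11,
    zero_smul, add_zero, sub_sub]

theorem torus_blocks (h : Dual a b) (t : (ZMod p)ˣ) :
    (torus h t : End') * (a * b) = (t : ZMod p) • (a * b) ∧
    a * b * (torus h t : End') = (t : ZMod p) • (a * b) ∧
    (torus h t : End') * (b * a) = ((t⁻¹ : (ZMod p)ˣ) : ZMod p) • (b * a) ∧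
    b * a * (torus h t : End') = ((t⁻¹ : (ZMod p)ˣ) : ZMod p) • (b * a) ∧
    (torus h t : End') * mid a b = mid a b ∧ mid a b * (torus h t : End') = mid a b := by
  have P := proj' h
  rw [torus_coe]
  simp only [add_mul, mul_add, smul_mul_assoc, mul_smul_comm, P.ee, P.gg, P.mm, P.eg, P.ge, P.em, P.me,
    P.gm, P.mg, smul_zero, zero_add, add_zero, and_self]

theorem exists_unit (hp : 5 ≤ p) :
    ∃ t : (ZMod p)ˣ, (t : ZMod p) ≠ 1 ∧ (t : ZMod p) ^ 2 ≠ 1 ∧ (t : ZMod p) ^ 3 ≠ 1 := by
  obtain ⟨t, ht⟩ := IsCyclic.exists_generator (α := (ZMod p)ˣ)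
  have ho : orderOf t = p - 1 := by
    rw [orderOf_eq_card_of_forall_mem_zpowers ht, Nat.card_units, Nat.card_zmod]
  have key : ∀ i, 0 < i → i < 4 → (t : ZMod p) ^ i ≠ 1 := by
    intro i h0 h4 h
    have : t ^ i = 1 := Units.ext (by rw [Units.val_pow_eq_pow_val]; exact h)
    have := Nat.le_of_dvd h0 (orderOf_dvd_of_pow_eq_one this)
    omega
  exact ⟨t, by simpa using key 1 one_pos (by omega), key 2 two_pos (by omega), key 3 (by omega) (by omega)⟩

/-- A part of weight one has a dual of weight minus one. -/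
theorem exists_wn_dual (hp : 5 ≤ p) (hG : QuadPairUnipotent.Reduced G) (h : Dual a b) (ha : a ∈ Lie G)
    (hb : b ∈ Lie G) {x : End'} (hx : x ∈ Lie G) (hw : Wp a b x) :
    ∃ y, y ∈ Lie G ∧ Dual x y ∧ Wn a b y := by
  obtain ⟨y₀, hy₀, hd₀⟩ := QuadDual20.exists_dual_lie hp hG hx
  have P := proj' h
  set τ : (ZMod p)ˣ →* Aut × (ZMod p)ˣ := (torus h).prod (MonoidHom.id _)
  have hcjp : ∀ (t : (ZMod p)ˣ), cj (torus h t) x = (t : ZMod p) • x := by
    intro t
    obtain ⟨t1, t2, t3, t4, t5, t6⟩ := torus_blocks h t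
    obtain ⟨s1, s2, s3, s4, s5, s6⟩ := torus_blocks h t⁻¹
    rw [inv_inv] at s4
    rw [cj, ← map_inv]
    conv_lhs => arg 1; arg 2; rw [← hw]
    conv_rhs => rw [← hw]
    rw [mul_add, add_mul]
    simp only [mul_assoc, s4, s6]
    simp only [← mul_assoc, t1, t5, smul_mul_assoc, mul_smul_comm, smul_add]
  obtain ⟨y, hy, hd, hfix⟩ := QuadDual20.fixed_dual hp hd₀ hx hy₀ τ.range
    (by rintro _ ⟨t, rfl⟩; exact Subgroup.le_normalizer (rep_mem h ha hb _))
    (by rintro _ ⟨t, rfl⟩; exact hcjp t)
    (by
      refine Nat.Coprime.coprime_dvd_left (Subgroup.card_range_dvd τ) ?_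
      rw [Nat.card_units, Nat.card_zmod, Nat.coprime_comm]
      exact (Fact.out : p.Prime).coprime_iff_not_dvd.2 fun hd => by
        have := Nat.le_of_dvd (by omega) hd
        omega)
  refine ⟨y, hy, hd, ?_⟩
  obtain ⟨t, ht1, ht2, ht3⟩ := exists_unit hp
  have hf : (t : ZMod p) • cj (torus h t) y = y := hfix _ ⟨t, rfl⟩
  obtain ⟨t1, t2, t3, t4, t5, t6⟩ := torus_blocks h t
  obtain ⟨s1, s2, s3, s4, s5, s6⟩ := torus_blocks h t⁻¹
  rw [inv_inv] at s3
  have ti : (t : ZMod p) * ((t⁻¹ : (ZMod p)ˣ) : ZMod p) = 1 := t.mul_inv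
  have kill : ∀ {u v : End'} {c d : ZMod p}, u * (torus h t : End') = c • u →
      ((torus h t⁻¹ : Aut) : End') * v = d • v → (t : ZMod p) * c * d ≠ 1 → u * y * v = 0 := by
    intro u v c d hu hv hne
    have he : u * y * v = ((t : ZMod p) * c * d) • (u * y * v) := by
      conv_lhs => rw [← hf]
      rw [cj, ← map_inv, mul_smul_comm, smul_mul_assoc, ← mul_assoc, ← mul_assoc, hu, mul_assoc (c • u * y),
        hv]
      simp only [smul_mul_assoc, mul_smul_comm, smul_smul]
      congr 1
      ring
    have h0 : ((t : ZMod p) * c * d - 1) • (u * y * v) = 0 := by rw [sub_smul, one_smul, ← he, sub_self]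
    exact (smul_eq_zero.1 h0).resolve_left (sub_ne_zero.2 hne)
  have hee := kill t2 s1 (by rw [mul_assoc, ti, mul_one]; exact ht1)
  have hem := kill (d := 1) t2 (by rw [one_smul]; exact s5) (by rw [mul_one, ← sq]; exact ht2)
  have heg := kill t2 s3 (by rw [← sq, ← pow_succ]; exact ht3)
  have hmm := kill (c := 1) (d := 1) (by rw [one_smul]; exact t6) (by rw [one_smul]; exact s5)
    (by rw [mul_one, mul_one]; exact ht1)
  have hmg := kill (c := 1) (by rw [one_smul]; exact t6) s3 (by rw [mul_one, ← sq]; exact ht2)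
  have hge := kill t4 s1 (by
    rw [ti, one_mul]
    exact fun h1 => ht1 (by rw [h1, mul_one] at ti; exact ti))
  have hgg := kill t4 s3 (by rw [ti, one_mul]; exact ht1)
  have := blocks P y
  rw [hee, hem, heg, hmm, hmg, hge, hgg] at this
  simp only [zero_add, add_zero] at this
  rw [Wn, add_comm]
  exact this.symm

theorem rk_dual_le {x y : End'} (h : Dual x y) : rk y ≤ rk x := by
  conv_lhs => rw [← h.bab]
  refine (Submodule.finrank_mono (LinearMap.range_comp_le_range y (y * x))).trans ?_
  show Module.finrank (ZMod p) (LinearMap.range (y ∘ₗ x)) ≤ _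
  rw [LinearMap.range_comp]
  exact Submodule.finrank_map_le y _

/-- Nondegeneracy of the weight one pairing. -/
theorem eq_zero_of_pairing (hk2 : (2 : ZMod p) ≠ 0) (h : Dual a b) {x y : End'} (hx : Wp a b x)
    (hy : Wn a b y) (hd : Dual x y)
    (hc : (a * y * mid a b - mid a b * y * a) * x = x * (a * y * mid a b - mid a b * y * a)) : x = 0 := by
  have P := proj' h
  obtain ⟨ax, xa⟩ := wp_mul h hx
  set e := a * b
  set g := b * a
  set m := mid a b
  obtain ⟨ex', xg, xm, mx, -, -, -, -, -⟩ := wp_blocks P (x := x) hx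
  obtain ⟨gy, ye, ym, myy⟩ := wn_blocks P (x := y) hy
  have ya : y * a = m * y * a := by rw [← P.ea, ← mul_assoc, ye]; simp only [mul_assoc]
  have ay : a * y = a * y * m := by rw [← P.ag, mul_assoc a g y, gy]; simp only [mul_assoc, P.mm]
  have hyxg : y * x * g = g * (y * x * g) := by
    rw [mul_assoc y x g, xg, ← mul_assoc y, ← mul_assoc y m, ym]; simp only [← mul_assoc, P.gg]
  have e1 : (a * y * m - m * y * a) * x = a * (y * x * g) := by
    rw [sub_mul, mul_assoc (m * y) a x, ax, mul_zero, sub_zero, mul_assoc (a * y) m x, mx,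
      ← mul_assoc (a * y), ← mul_assoc (a * y), ← ay]
    simp only [mul_assoc]
  have e2 : x * (a * y * m - m * y * a) = -(x * y * a) := by
    rw [mul_sub, ← mul_assoc x (a * y) m, ← mul_assoc x a y, xa, zero_mul, zero_mul, zero_sub, ← ya, mul_assoc]
  rw [e1, e2] at hc
  set T := y * x * g with hT
  have hxy : x * y * (x * y) = x * y := by rw [← mul_assoc, hd.aba]
  have hTT : T * T = T := by
    conv_lhs => arg 1; rw [hT]
    rw [mul_assoc (y * x) g T, ← hyxg, hT, ← mul_assoc, ← mul_assoc (y * x) y, hd.bab]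
  have hz : a * T = 0 := by
    have h1 : a * T = -(a * T) := by
      calc a * T = a * T * T := by rw [mul_assoc, hTT]
        _ = -(x * y * a) * T := by rw [hc]
        _ = -(x * y * (a * T)) := by rw [neg_mul, mul_assoc]
        _ = x * y * (x * y * a) := by rw [hc, mul_neg, neg_neg]
        _ = x * y * a := by rw [← mul_assoc, hxy]
        _ = -(a * T) := by rw [hc, neg_neg]
    have h2 : (2 : ZMod p) • (a * T) = 0 := by rw [two_smul]; nth_rewrite 1 [h1]; exact neg_add_cancel _
    exact (smul_eq_zero.1 h2).resolve_left hk2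
  have hT0 : T = 0 := by rw [hyxg, ← P.ba, mul_assoc b a, hz, mul_zero]
  have hxg0 : x * g = 0 := by
    conv_lhs => arg 1; rw [← hd.aba]
    rw [mul_assoc x y x, mul_assoc x (y * x) g, ← hT, hT0, mul_zero]
  have hS : x * y * a = 0 := by rw [hz] at hc; exact neg_eq_zero.1 hc.symm
  have hSe : x * y * e = 0 := by rw [← P.ab, ← mul_assoc, hS, zero_mul]
  have heS : e * (x * y) = x * y * e := by
    have l : e * (x * y) = e * x * m * (m * y * e) := by
      have : e * x = e * x * m := ex'
      rw [← mul_assoc, this, mul_assoc (e * x) m y, myy]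
      simp only [← mul_assoc, mul_assoc (e * x) m m, P.mm]
      simp only [mul_assoc, P.ee]
    have r : x * y * e = e * x * m * (m * y * e) := by
      rw [mul_assoc x y e, ye, mul_assoc m y e, ← mul_assoc x m, xm]
      simp only [← mul_assoc, mul_assoc (e * x) m m, P.mm]
    rw [l, r]
  have hex : e * x = 0 := by
    conv_lhs => arg 2; rw [← hd.aba]
    rw [← mul_assoc, heS, hSe, zero_mul]
  rw [← hx, show e * x * m = 0 by rw [hex, zero_mul], show m * x * g = 0 by rw [mul_assoc, hxg0, mul_zero],
    add_zero]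

/-- The monomial subgroup. -/
def mono : Subgroup SL(2, ZMod p) where
  carrier := {g | (g.1 0 1 = 0 ∧ g.1 1 0 = 0) ∨ (g.1 0 0 = 0 ∧ g.1 1 1 = 0)}
  one_mem' := Or.inl ⟨by simp, by simp⟩
  mul_mem' := fun {g h} hg hh => by
    rcases hg with ⟨g1, g2⟩ | ⟨g1, g2⟩ <;> rcases hh with ⟨h1, h2⟩ | ⟨h1, h2⟩
    · exact Or.inl ⟨by simp [QuadPairSL2.mul_apply, g1, h1], by simp [QuadPairSL2.mul_apply, g2, h2]⟩
    · exact Or.inr ⟨by simp [QuadPairSL2.mul_apply, g1, h1], by simp [QuadPairSL2.mul_apply, g2, h2]⟩
    · exact Or.inr ⟨by simp [QuadPairSL2.mul_apply, g1, h2], by simp [QuadPairSL2.mul_apply, g2, h1]⟩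
    · exact Or.inl ⟨by simp [QuadPairSL2.mul_apply, g1, h2], by simp [QuadPairSL2.mul_apply, g2, h1]⟩
  inv_mem' := fun {g} hg => by
    rcases hg with ⟨g1, g2⟩ | ⟨g1, g2⟩
    · exact Or.inl ⟨by rw [inv_01, g1, neg_zero], by rw [inv_10, g2, neg_zero]⟩
    · exact Or.inr ⟨by rw [inv_00, g2], by rw [inv_11, g1]⟩

theorem card_mono_coprime (hp : 5 ≤ p) : (Nat.card (mono (p := p))).Coprime p := by
  rw [Nat.coprime_comm, (Fact.out : p.Prime).coprime_iff_not_dvd]
  intro hdvd
  obtain ⟨⟨g, hg⟩, ho⟩ := exists_prime_orderOf_dvd_card' p hdvd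
  rw [← Subgroup.orderOf_coe, Subgroup.coe_mk] at ho
  obtain ⟨j, hj⟩ := (Fact.out : p.Prime).odd_of_ne_two (by omega)
  have hsq : (g * g).1 0 1 = 0 ∧ (g * g).1 1 0 = 0 := by
    rcases hg with ⟨g1, g2⟩ | ⟨g1, g2⟩ <;>
      exact ⟨by simp [QuadPairSL2.mul_apply, g1, g2], by simp [QuadPairSL2.mul_apply, g1, g2]⟩
  have hd : ∀ i : ℕ, ((g * g) ^ i).1 0 1 = 0 ∧ ((g * g) ^ i).1 1 0 = 0 ∧
      ((g * g) ^ i).1 0 0 = (g * g).1 0 0 ^ i ∧ ((g * g) ^ i).1 1 1 = (g * g).1 1 1 ^ i := by
    intro i
    induction i with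
    | zero => simp
    | succ i ih =>
      obtain ⟨i1, i2, i3, i4⟩ := ih
      rw [pow_succ]
      simp only [QuadPairSL2.mul_apply ((g * g) ^ i)]
      simp [i1, i2, i3, i4, hsq.1, hsq.2, pow_succ]
  have hgp : g ^ p = 1 := by have := pow_orderOf_eq_one g; rwa [congrArg (fun i => g ^ i) ho] at this
  have hgg : (g * g) ^ p = 1 := by rw [← sq, ← pow_mul, mul_comm, pow_mul, hgp, one_pow]
  obtain ⟨-, -, d3, d4⟩ := hd p
  rw [hgg, ZMod.pow_card] at d3 d4
  have h1 : g * g = 1 := by
    apply sl_ext
    · exact d3.symm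
    · simpa using hsq.1
    · simpa using hsq.2
    · exact d4.symm
  have : g = 1 := by
    calc g = g ^ (2 * j + 1) := by rw [pow_succ, pow_mul, sq, h1, one_pow, one_mul]
      _ = g ^ p := congrArg (fun i => g ^ i) hj.symm
      _ = 1 := hgp
  rw [this, orderOf_one] at ho
  exact (Fact.out : p.Prime).one_lt.ne ho

/-- An element commuting with the monomial group of a pair commutes with the pair. -/
theorem commute_of_mono (hp : 5 ≤ p) (h : Dual a b) {x : End'}
    (hx : ∀ g ∈ mono (p := p), (rep h g : End') * x = x * (rep h g : End')) :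
    a * x = x * a ∧ b * x = x * b := by
  have P := proj' h
  obtain ⟨t, ht1, ht2, -⟩ := exists_unit hp
  obtain ⟨t1, t2, t3, t4, t5, t6⟩ := torus_blocks h t
  have hD : (torus h t : End') * x = x * (torus h t : End') :=
    hx (QuadPairRed.dg t) (Or.inl ⟨rfl, rfl⟩)
  have hW : (weyl h : End') * x = x * (weyl h : End') :=
    hx ⟨!![0, 1; -1, 0], by simp [Matrix.det_fin_two]⟩ (Or.inr ⟨rfl, rfl⟩)
  have kill : ∀ {u v : End'} {c d : ZMod p}, u * (torus h t : End') = c • u →
      (torus h t : End') * v = d • v → c ≠ d → u * x * v = 0 := by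
    intro u v c d hu hv hne
    have : c • (u * x * v) = d • (u * x * v) := by
      rw [← smul_mul_assoc, ← smul_mul_assoc, ← hu, mul_assoc u _ x, hD, ← mul_assoc,
        mul_assoc (u * x) _ v, hv, mul_smul_comm]
    exact (smul_eq_zero.1 (by rw [sub_smul, this, sub_self] : (c - d) • (u * x * v) = 0)).resolve_left
      (sub_ne_zero.2 hne)
  have ti : (t : ZMod p) * ((t⁻¹ : (ZMod p)ˣ) : ZMod p) = 1 := t.mul_inv
  have htinv : ((t⁻¹ : (ZMod p)ˣ) : ZMod p) ≠ 1 := fun h1 => ht1 (by rw [h1, mul_one] at ti; exact ti)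
  have htt : (t : ZMod p) ≠ ((t⁻¹ : (ZMod p)ˣ) : ZMod p) := fun h1 => ht2 (by rw [← h1, ← sq] at ti; exact ti)
  set e := a * b
  set g := b * a
  set m := mid a b
  have o1 := kill (d := 1) t2 (by rw [one_smul]; exact t5) ht1
  have o2 := kill t2 t3 htt
  have o3 := kill (c := 1) (by rw [one_smul]; exact t6) t1 ht1.symm
  have o4 := kill (c := 1) (by rw [one_smul]; exact t6) t3 htinv.symm
  have o5 := kill t4 t1 htt.symm
  have o6 := kill (d := 1) t4 (by rw [one_smul]; exact t5) htinv
  have xe : x * e = e * x * e := by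
    conv_lhs => rw [← one_mul x, ← P.sum]
    simp only [add_mul, o3, o5, add_zero]
  have ex : e * x = e * x * e := by
    conv_lhs => rw [← mul_one (e * x), ← P.sum]
    simp only [mul_add, o1, o2, add_zero]
  have xg : x * g = g * x * g := by
    conv_lhs => rw [← one_mul x, ← P.sum]
    simp only [add_mul, o2, o4, zero_add]
  have gx : g * x = g * x * g := by
    conv_lhs => rw [← mul_one (g * x), ← P.sum]
    simp only [mul_add, o5, o6, zero_add]
  rw [weyl_coe h] at hW
  constructor
  · have l : e * ((m + a - b) * x) * g = a * x := by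
      rw [← mul_assoc e, mul_sub, mul_add, P.em, P.ea, P.eb, zero_add, sub_zero, ← P.ag, mul_assoc a g x,
        mul_assoc a, ← gx]
    have r : e * (x * (m + a - b)) * g = x * a := by
      rw [mul_assoc e, mul_assoc x, sub_mul, add_mul, P.mg, P.ag, P.bg, zero_add, sub_zero, ← P.ea,
        ← mul_assoc x, xe]
      simp only [← mul_assoc, P.ee]
    rw [← l, hW, r]
  · have l : g * ((m + a - b) * x) * e = -(b * x) := by
      rw [← mul_assoc g, mul_sub, mul_add, P.gm, P.ga, P.gb, zero_add, zero_sub, neg_mul, neg_mul, ← P.be,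
        mul_assoc b e x, mul_assoc b, ← ex]
    have r : g * (x * (m + a - b)) * e = -(x * b) := by
      rw [mul_assoc g, mul_assoc x, sub_mul, add_mul, P.me, P.ae, P.be, zero_add, zero_sub, mul_neg,
        mul_neg, ← P.gb, ← mul_assoc x, xg]
      simp only [← mul_assoc, P.gg]
    exact neg_injective (by rw [← l, hW, r])

/-- A part commuting with a pair and having a dual has one commuting with the pair. -/
theorem dual_commute (hp : 5 ≤ p) (h : Dual a b) {N : Subgroup Aut} (ha : a ∈ Lie N) (hb : b ∈ Lie N)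
    (hN : N ≤ Subgroup.normalizer (G : Set Aut)) {q c₀ : End'} (hq : q ∈ Lie G) (hc₀ : c₀ ∈ Lie G)
    (hd₀ : Dual q c₀) (hqa : a * q = q * a) (hqb : b * q = q * b) :
    ∃ c, c ∈ Lie G ∧ Dual q c ∧ a * c = c * a ∧ b * c = c * b := by
  have hmatq : ∀ g, (rep h g : End') * q = q * (rep h g : End') := by
    intro g
    rw [rep_coe]
    simp only [mat, supp, add_mul, sub_mul, mul_add, mul_sub, one_mul, mul_one, smul_mul_assoc,
      mul_smul_comm, mul_assoc, hqa, hqb]
    simp only [← mul_assoc, hqa, hqb]
  obtain ⟨c, hc, hd, hfix⟩ := QuadDual20.fixed_dual' hp hd₀ hq hc₀ ((mono (p := p)).map (rep h))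
    (by rintro _ ⟨g, -, rfl⟩; exact hN (rep_mem h ha hb g))
    (by rintro _ ⟨g, -, rfl⟩; rw [cj, hmatq, mul_assoc, Units.mul_inv, mul_one])
    (Nat.Coprime.coprime_dvd_left (Subgroup.card_map_dvd _ _) (card_mono_coprime hp))
  refine ⟨c, hc, hd, commute_of_mono hp h fun g hg => ?_⟩
  have := hfix _ ⟨g, hg, rfl⟩
  rw [cj] at this
  conv_rhs => rw [← this]
  rw [mul_assoc _ _ (rep h g : End'), Units.inv_mul, mul_one]

end pair

/-! ### Uniqueness -/

theorem range_sub {y q : End'} (h : LinearMap.range q ≤ LinearMap.range y) {b : End'} (hd : Dual y b) :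
    y * b * q = q := hd.left_mul h

theorem fixed_commute_or_eq (hp : 5 ≤ p) (hG : QuadPairUnipotent.Reduced G) {a b y : End'}
    (h : Dual a b) (ha : IsMin G a) (hb : IsMin G b) (hy : IsMin G y)
    (hN : flagFix G a ≤ Subgroup.normalizer (E G hy.1.1 : Set Aut)) :
    y * b = b * y ∨ E G hy.1.1 = E G ha.1.1 := by
  have hk2 := QuadDual20.two_ne hp
  have hk3 := QuadDual20.card_ne hp
  have haF : unitOf a ha.1.1 ∈ flagFix G a := E_le_flagFix ha (unitOf_mem_E (self_mem_cls ha.1))
  have hay : a * y = y * a := QuadPairCommute.comm_of_normalizes hk2 hk3 ha hy (hN haF)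
  have P := proj' h
  rcases uni_or_opp hk2 hk3 hy hb with hu | ho
  · -- the pair is unipotent
    by_cases hyb : y * b = b * y
    · exact Or.inl hyb
    exfalso
    have D : QuadPairUnipotent.Data G y b (y * b - b * y) :=
      ⟨hk2, hk3, hy, hb, hu, rfl, sub_ne_zero.2 hyb⟩
    obtain ⟨-, byb⟩ := hu
    have hce : y * b - b * y = mid a b * y * b - b * y * mid a b := by
      have l : y * b = a * b * y * b + mid a b * y * b + b * a * y * b := by
        rw [← add_mul, ← add_mul, ← add_mul, ← add_mul, P.sum, one_mul]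
      have r : b * y = b * y * (a * b) + b * y * mid a b + b * y * (b * a) := by
        rw [← mul_add, ← mul_add, P.sum, mul_one]
      have l1 : a * b * y * b = 0 := by
        rw [mul_assoc a b y, mul_assoc a (b * y) b, byb, mul_zero]
      have r1 : b * y * (b * a) = 0 := by rw [← mul_assoc, byb, zero_mul]
      have lr : b * a * y * b = b * y * (a * b) := by
        rw [mul_assoc b a y, hay]; simp only [mul_assoc]
      conv_lhs => rw [l, r, l1, r1, lr]
      abel
    have hcn : Wn a b (y * b - b * y) := by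
      rw [hce, Wn]
      simp only [mul_sub, sub_mul, ← mul_assoc, P.gm, P.mm, P.mb, P.gb, zero_mul, zero_sub, sub_zero, neg_mul]
      simp only [mul_assoc, P.mm, P.be]
      abel
    set y₁ := cj (weyl h) (y * b - b * y) with hy₁
    have hwG : weyl h ∈ G := weyl_mem h ha.1 hb.1
    have hy₁m : IsMin G y₁ := D.min.conj hwG
    have hy₁w : Wp a b y₁ := wp_weyl h hcn
    have hy₁e : y₁ = -(a * b * y * mid a b + mid a b * y * (b * a)) := by
      rw [hy₁, cj_weyl_wn h hcn, hce]
      simp only [mul_sub, sub_mul, ← mul_assoc, P.am, P.mm, P.mb, zero_mul, zero_sub, sub_zero, neg_mul]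
      simp only [mul_assoc, P.mm]
      abel
    obtain ⟨b₀, hb₀, hd₀, hwn⟩ := exists_wn_dual hp hG h ha.1 hb.1 hy₁m.1 hy₁w
    have hb₀0 : b₀ ≠ 0 := fun e => hy₁m.2.1 (by rw [← hd₀.aba, e, mul_zero, zero_mul])
    have hb₀m : IsMin G b₀ := hy₁m.of_rk_le hb₀ hb₀0 (rk_dual_le hd₀)
    have hfm : IsMin G (cj (weyl h) b₀) := hb₀m.conj hwG
    have hfw : Wp a b (cj (weyl h) b₀) := wp_weyl h hwn
    have hfy := QuadPairCommute.comm_of_normalizes hk2 hk3 hfm hy (hN (flag_of_wp h hfw hfm.1))
    refine hy₁m.2.1 (eq_zero_of_pairing hk2 h hy₁w hwn hd₀ ?_)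
    rw [← cj_weyl_wn h hwn, hy₁e, mul_neg, neg_mul, neg_inj]
    set f := cj (weyl h) b₀
    set e := a * b
    set g := b * a
    set m := mid a b
    obtain ⟨ef, fg, hfm', mf, -, -, -, -, -⟩ := wp_blocks P (x := f) hfw
    obtain ⟨fa1, fa2⟩ := wp_mul h hfw
    have fe : f * e = 0 := by rw [← P.ab, ← mul_assoc, fa2, zero_mul]
    have gf : g * f = 0 := by rw [← P.ba, mul_assoc, fa1, mul_zero]
    have l : f * (e * y * m + m * y * g) = e * (f * y) * g := by
      rw [mul_add, ← mul_assoc f, ← mul_assoc f, fe, zero_mul, zero_mul, zero_add, ← mul_assoc f, ← mul_assoc f,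
        hfm', ← ef]
      simp only [mul_assoc]
    have r : (e * y * m + m * y * g) * f = e * (y * f) * g := by
      rw [add_mul, mul_assoc _ g f, gf, mul_zero, add_zero, mul_assoc _ m f, mf, ← fg]
      simp only [mul_assoc]
    rw [l, r, hfy]
  · -- the pair is opposite
    right
    obtain ⟨y', hy', hy'0, hd'⟩ := exists_dual hk2 hk3 hb hy ⟨ho.2, ho.1⟩
    have hy'm : IsMin G y' := (cls_spaces hy hy' hy'0).1
    rw [← E_eq_of_mem hy hy' hy'0] at hN ⊢
    clear hay ho
    have hay : a * y' = y' * a := QuadPairCommute.comm_of_normalizes hk2 hk3 ha hy'm (hN haF)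
    obtain ⟨γ, hγ, hγe⟩ := QuadDual20.dual_conj5 hp h.symm hd' hb.1 ha.1 hy'm.1
    obtain ⟨e, he⟩ : ∃ e, e = a * b := ⟨_, rfl⟩
    obtain ⟨g, hg⟩ : ∃ g, g = b * a := ⟨_, rfl⟩
    obtain ⟨m, hm⟩ : ∃ m, m = mid a b := ⟨_, rfl⟩
    rw [← he, ← hg, ← hm] at P
    obtain ⟨N, hNdef⟩ : ∃ N, N = nl γ := ⟨_, rfl⟩
    obtain ⟨N', hN'def⟩ : ∃ N', N' = nl γ⁻¹ := ⟨_, rfl⟩
    have facts : ∀ {δ : Aut}, δ ∈ flagFix G b → e * nl δ = 0 ∧ nl δ * g = 0 ∧ g * nl δ * m = nl δ * m := by
      rintro δ ⟨-, d1, d2, d3⟩
      refine ⟨by rw [← P.ab, mul_assoc, d1, mul_zero], by rw [← P.ba, ← mul_assoc, d2, zero_mul],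
        LinearMap.ext fun v => ?_⟩
      obtain ⟨z, hz⟩ := d3 (m v) (LinearMap.mem_ker.2 (LinearMap.congr_fun P.bm v))
      show g (nl δ (m v)) = nl δ (m v)
      rw [← hz]
      exact LinearMap.congr_fun P.gb z
    obtain ⟨eN, Ng, gNm⟩ : e * N = 0 ∧ N * g = 0 ∧ g * N * m = N * m := hNdef ▸ facts hγ
    obtain ⟨eN', N'g, gN'm⟩ : e * N' = 0 ∧ N' * g = 0 ∧ g * N' * m = N' * m :=
      hN'def ▸ facts (inv_mem hγ)
    have hsum : N + N' + N * N' = 0 := by
      rw [hNdef, hN'def, nl, nl]
      have : (γ : End') * ((γ⁻¹ : Aut) : End') = 1 := Units.mul_inv γ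
      linear_combination (norm := noncomm_ring) this
    have hye : y' = (1 + N) * a * (1 + N') := by
      rw [← hγe, cj, hNdef, hN'def, nl, nl, add_sub_cancel, add_sub_cancel]
    have ey : e * y' = a + a * N' := by
      rw [hye, ← mul_assoc, ← mul_assoc, mul_add e, mul_one, eN, add_zero, P.ea, mul_add, mul_one]
    have yg : y' * g = a + N * a := by
      rw [hye, mul_assoc _ (1 + N') g, add_mul 1 N', one_mul, N'g, add_zero, mul_assoc, P.ag, add_mul,
        one_mul]
    have ayN : a * y' = a * N * a * (1 + N') := by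
      rw [hye]
      simp only [add_mul, mul_add, one_mul, mul_one, ← mul_assoc, h.sqa, zero_mul, zero_add]
    have hNd : N = g * N * m + m * N * e + g * N * e := by
      have hmm' : m * N * m = 0 := by
        rw [mul_assoc, ← gNm, mul_assoc g N m, ← mul_assoc m g, P.mg, zero_mul]
      have := blocks P N
      simp only [mul_assoc _ N g, Ng, mul_zero, eN, zero_mul, hmm', zero_add, add_zero] at this
      refine this.trans ?_
      abel
    by_cases hχ : g * N * e = 0
    · -- the conjugating element is quadratic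
      rw [hχ, add_zero] at hNd
      have aNa : a * N * a = 0 := by
        have : a * N * a = a * (g * N * e) * a := by
          rw [← mul_assoc a, ← mul_assoc a, P.ag, mul_assoc _ e a, P.ea]
        rw [this, hχ, mul_zero, zero_mul]
      have ay0 : a * y' = 0 := by rw [ayN, aNa, zero_mul]
      have gN'e : g * N' * e = 0 := by
        have h1 : y' * a = 0 := hay ▸ ay0
        have h2 : a * N' * a = 0 := by
          have := congrArg (e * ·) h1
          simp only [← mul_assoc, ey, mul_zero, add_mul, h.sqa, zero_add] at this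
          exact this
        rw [← P.ba, ← P.ab, show b * a * N' * (a * b) = b * (a * N' * a) * b by noncomm_ring, h2, mul_zero,
          zero_mul]
      have mN : m * N = m * N * e := by
        conv_lhs => rw [hNd]
        simp only [mul_add, ← mul_assoc, P.mg, P.mm, zero_mul, zero_add]
      have mN'e : m * N' * e = -(m * N * e) := by
        have := congrArg (fun t => m * t * e) hsum
        simp only [mul_add, add_mul, mul_zero, zero_mul] at this
        rw [show m * (N * N') * e = m * N * N' * e by noncomm_ring, mN, mul_assoc (m * N) e N', eN', mul_zero,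
          zero_mul, add_zero, mul_assoc (m * N) e e, P.ee] at this
        exact eq_neg_of_add_eq_zero_right this
      have gN : g * N = g * N * m := by
        conv_lhs => rw [hNd]
        simp only [mul_add, ← mul_assoc, P.gg, P.gm, zero_mul, add_zero]
      have NN : N * N = 0 := by
        have h1 := congrArg (fun t => g * t * e) hsum
        simp only [mul_add, add_mul, mul_zero, zero_mul, gN'e, hχ, zero_add] at h1
        rw [show g * (N * N') * e = g * N * N' * e by noncomm_ring, gN,
          show g * N * m * N' * e = g * N * (m * N' * e) by noncomm_ring, mN'e, mul_neg, neg_eq_zero] at h1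
        have expand : N * N = g * N * (m * N * e) := by
          calc N * N = (g * N * m + m * N * e) * (g * N * m + m * N * e) := by rw [← hNd]
            _ = g * N * (m * g) * N * m + g * N * (m * m) * N * e + m * N * (e * g) * N * m +
                m * N * (e * m) * N * e := by noncomm_ring
            _ = g * N * (m * N * e) := by
              rw [P.mg, P.mm, P.eg, P.em]; noncomm_ring
        rw [expand, h1]
      have hNL : N ∈ Lie G := hNdef ▸ QuadDual20.lie_nl hγ.1 (hNdef ▸ NN)
      have hNn : Wn a b N := by rw [Wn, ← he, ← hg, ← hm]; exact hNd.symm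
      have hN'neg : N' = -N := by
        rw [hN'def, show γ = unitOf N hNL.1 from Units.ext (by rw [unitOf_coe, hNdef, nl, add_sub_cancel]),
          nl, unitOf_inv]
        abel
      have hwG : weyl h ∈ G := weyl_mem h ha.1 hb.1
      have hf0L : cj (weyl h) N ∈ Lie G := Lie.conj hNL hwG
      have hf0w : Wp a b (cj (weyl h) N) := wp_weyl h hNn
      obtain ⟨b₀, hb₀, hd₀, hwn⟩ := exists_wn_dual hp hG h ha.1 hb.1 hf0L hf0w
      have hfw : Wp a b (cj (weyl h) b₀) := wp_weyl h hwn
      have hfL : cj (weyl h) b₀ ∈ Lie G := Lie.conj hb₀ hwG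
      have hfN := hN (flag_of_wp h hfw hfL)
      obtain ⟨f, hf⟩ : ∃ f, f = cj (weyl h) b₀ := ⟨_, rfl⟩
      have hfu : cj (unitOf _ hfL.1) y' ∈ cls G hy'm.1.1 := by
        have h1 := (Subgroup.mem_normalizer_iff.1 hfN (unitOf y' hy'm.1.1)).1
          (unitOf_mem_E (self_mem_cls hy'm.1))
        have := mem_E.1 h1
        rwa [nl, ← cj_coe, unitOf_coe, cj_add, cj_one, add_sub_cancel_left] at this
      have hff : f * f = 0 := by rw [hf]; exact hfL.1
      rw [cj, unitOf_coe, unitOf_inv, ← hf] at hfu
      have hleft : y' * b * (f * y') = f * y' := by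
        refine hd'.symm.left_mul ?_
        have hr : LinearMap.range ((1 + f) * y') ≤ LinearMap.range y' := by
          refine le_trans (le_of_eq ?_) ((LinearMap.range_comp_le_range (1 + f) ((1 + f) * y' * (1 - f))).trans hfu.2.1)
          show LinearMap.range ((1 + f) * y') = LinearMap.range ((1 + f) * y' * (1 - f) * (1 + f))
          rw [mul_assoc _ (1 - f), show (1 - f) * (1 + f) = 1 by
            rw [mul_add, mul_one, sub_mul, one_mul, hff, sub_zero, sub_add_cancel], mul_one]
        rintro _ ⟨v, rfl⟩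
        have h1 : ((1 + f) * y') v ∈ LinearMap.range y' := hr ⟨v, rfl⟩
        rw [show f * y' = (1 + f) * y' - y' by noncomm_ring, LinearMap.sub_apply]
        exact sub_mem h1 ⟨v, rfl⟩
      have hright : y' * f * (b * y') = y' * f := by
        refine hd'.symm.right_mul fun v hv => ?_
        rw [LinearMap.mem_ker] at hv ⊢
        have h1 : ((1 + f) * y' * (1 - f)) v = 0 := LinearMap.mem_ker.1 (hfu.2.2 (LinearMap.mem_ker.2 hv))
        have h2 := LinearMap.congr_arg (f := 1 - f) h1
        rw [map_zero, ← Module.End.mul_apply, ← mul_assoc, ← mul_assoc,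
          show (1 - f) * (1 + f) = 1 by
            rw [mul_add, mul_one, sub_mul, one_mul, hff, sub_zero, sub_add_cancel], one_mul, mul_sub, mul_one,
          LinearMap.sub_apply, hv, zero_sub, neg_eq_zero] at h2
        exact h2
      have hfe : f = a * b₀ * m - m * b₀ * a := by rw [hf, cj_weyl_wn h hwn, ← hm]
      have hf0e : cj (weyl h) N = a * N * m - m * N * a := by rw [cj_weyl_wn h hNn, ← hm]
      obtain ⟨af, fa⟩ : a * f = 0 ∧ f * a = 0 := hf ▸ wp_mul h hfw
      set φ := m * N * a with hφdef
      set ψ := a * N * m with hψdef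
      have hT : f * y' * g = a * b₀ * φ := by
        rw [mul_assoc, yg, mul_add, fa, zero_add, hfe, sub_mul,
          show m * b₀ * a * (N * a) = m * b₀ * (a * N * a) by noncomm_ring, aNa, mul_zero, sub_zero, hφdef]
        noncomm_ring
      have hNT : N * (a * b₀ * φ) = 0 := by
        have h1 : y' * b * (f * y' * g) = f * y' * g := by rw [← mul_assoc, hleft]
        rw [hT] at h1
        have h2 : y' * b * (a * b₀ * φ) = (y' * g) * b * (a * b₀ * φ) := by rw [mul_assoc y' g b, P.gb]
        rw [h2, yg, add_mul, add_mul, P.ab, mul_assoc N a b, P.ab,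
          show e * (a * b₀ * φ) = e * a * b₀ * φ by noncomm_ring, P.ea,
          show N * e * (a * b₀ * φ) = N * (e * a) * b₀ * φ by noncomm_ring, P.ea, add_eq_left] at h1
        rw [← h1]; noncomm_ring
      have hφ : φ = 0 := by
        have h1 : φ * b₀ * φ = 0 := by
          have := congrArg (m * ·) hNT
          simp only [mul_zero] at this
          rw [← this, hφdef]; noncomm_ring
        have e1 : m * cj (weyl h) N = -φ := by
          rw [hf0e, mul_sub, ← mul_assoc, ← mul_assoc, P.ma, zero_mul, zero_mul, zero_sub, ← mul_assoc,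
            ← mul_assoc, P.mm]
        have e2 : cj (weyl h) N * g = -φ := by
          rw [hf0e, sub_mul, mul_assoc _ m g, P.mg, mul_zero, zero_sub, mul_assoc _ a g, P.ag]
        have := congrArg (fun t => m * t * g) hd₀.aba
        rw [show m * (cj (weyl h) N * b₀ * cj (weyl h) N) * g =
          (m * cj (weyl h) N) * b₀ * (cj (weyl h) N * g) by noncomm_ring, e1, e2, neg_mul, neg_mul_neg, h1,
          neg_mul, hφdef, mul_assoc _ a g, P.ag, ← hφdef] at this
        exact neg_eq_zero.1 this.symm
      have hψ : ψ = 0 := by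
        have hU : e * y' * f = ψ * b₀ * a := by
          rw [ey, hN'neg, mul_neg, add_mul, af, zero_add, hfe, neg_mul, mul_sub,
            show a * N * (a * b₀ * m) = a * N * a * b₀ * m by noncomm_ring, aNa, zero_mul, zero_mul, zero_sub,
            neg_neg, hψdef]
          noncomm_ring
        have h1 : e * y' * f * (b * y') = e * y' * f := by
          rw [mul_assoc e y' f, mul_assoc, hright]
        rw [hU] at h1
        have h2 := congrArg (· * m) h1
        rw [mul_assoc _ a m, P.am, mul_zero] at h2
        have h3 : b * y' * m = -(g * N * m) := by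
          have : b * y' = b * (e * y') := by rw [← mul_assoc, P.be]
          rw [this, ey, hN'neg, mul_add, add_mul, mul_neg, mul_neg, neg_mul, ← P.ba, mul_assoc b a m, P.am,
            mul_zero, zero_add]
          noncomm_ring
        rw [mul_assoc _ (b * y') m, h3, mul_neg, neg_eq_zero,
          show ψ * b₀ * a * (g * N * m) = ψ * b₀ * (a * g * N * m) by noncomm_ring, P.ag, ← hψdef] at h2
        have e1 : e * cj (weyl h) N = ψ := by
          rw [hf0e, mul_sub, ← mul_assoc, ← mul_assoc, P.ea, ← mul_assoc, ← mul_assoc, P.em, zero_mul,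
            zero_mul, sub_zero]
        have e2 : cj (weyl h) N * m = ψ := by
          rw [hf0e, sub_mul, mul_assoc _ m m, P.mm, mul_assoc _ a m, P.am, mul_zero, sub_zero]
        have := congrArg (fun t => e * t * m) hd₀.aba
        rw [show e * (cj (weyl h) N * b₀ * cj (weyl h) N) * m =
          (e * cj (weyl h) N) * b₀ * (cj (weyl h) N * m) by noncomm_ring, e1, e2, h2, mul_assoc _ m m, P.mm]
          at this
        exact this.symm
      have hN0 : N = 0 := by
        have h1 : m * N * e = 0 := by rw [← P.ab, ← mul_assoc, ← hφdef, hφ, zero_mul]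
        have h2 : g * N * m = 0 := by
          rw [← P.ba, show b * a * N * m = b * (a * N * m) by noncomm_ring, ← hψdef, hψ, mul_zero]
        rw [hNd, h1, h2, add_zero]
      have hya : y' = a := by rw [hye, hN'neg, hN0]; simp
      exact E_congr _ _ (by rw [hya]) (by rw [hya])
    · -- the degenerate case
      exfalso
      obtain ⟨myE, gyE, gyM⟩ := upper_of_commute P hay
      have hgf : ∀ {f : Aut}, f ∈ flagFix G a → g * nl f = 0 ∧ nl f * e = 0 := fun {f} hf =>
        ⟨by rw [← P.ba, mul_assoc, hf.2.1, mul_zero], by rw [← P.ab, ← mul_assoc, hf.2.2.1, zero_mul]⟩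
      -- the flag group centralizes the part
      have hcent : ∀ f ∈ flagFix G a, nl f * y' = y' * nl f := by
        intro f hf
        have hm1 : cj f y' ∈ cls G hy'm.1.1 := by
          have h1 := (Subgroup.mem_normalizer_iff.1 (hN hf) (unitOf y' hy'm.1.1)).1
            (unitOf_mem_E (self_mem_cls hy'm.1))
          have := mem_E.1 h1
          rwa [nl, ← cj_coe, unitOf_coe, cj_add, cj_one, add_sub_cancel_left] at this
        have hdiff : cj f y' - y' ∈ cls G hy'm.1.1 := sub_mem hm1 (self_mem_cls hy'm.1)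
        have hback : cj γ⁻¹ y' = a := by rw [← hγe, cj_inv_cancel]
        have ha' : cj γ⁻¹ (cj f y' - y') ∈ cls G ha.1.1 := by
          have h2 := cls_cj (G := G) (Subgroup.le_normalizer (inv_mem hγ.1))
            (hn' := by rw [hback]; exact ha.1.1) hdiff
          obtain ⟨k1, k2, k3⟩ := h2
          exact ⟨k1, by rwa [hback] at k2, by rwa [hback] at k3⟩
        set a' := cj γ⁻¹ (cj f y' - y') with ha'def
        have hmback : cj f y' - y' = (1 + N) * a' * (1 + N') := by
          have : cj γ a' = cj f y' - y' := by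
            rw [ha'def, cj_comp, mul_inv_cancel]; simp [cj]
          rw [← this, cj, hNdef, hN'def, nl, nl, add_sub_cancel, add_sub_cancel]
        have g0 : g * (cj f y' - y') * g = 0 := by
          obtain ⟨gM, -⟩ := hgf hf
          obtain ⟨gM', -⟩ := hgf (inv_mem hf)
          have gy : g * y' = g * y' * g := by
            conv_lhs => rw [← mul_one (g * y'), ← P.sum]
            rw [mul_add, mul_add, gyE, gyM, zero_add, zero_add]
          have e1 : g * (f : End') = g := by
            rw [nl, mul_sub, mul_one, sub_eq_zero] at gM; exact gM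
          have e2 : g * ((f⁻¹ : Aut) : End') = g := by
            rw [nl, mul_sub, mul_one, sub_eq_zero] at gM'; exact gM'
          rw [mul_sub, sub_mul, cj, ← mul_assoc, ← mul_assoc, e1, gy, mul_assoc (g * y') g, e2,
            mul_assoc (g * y') g g, P.gg, sub_self]
        have hr : ∀ v, ∃ w, a w = a' v := fun v => ha'.2.1 ⟨v, rfl⟩
        have ga' : g * a' = 0 := LinearMap.ext fun v => by
          obtain ⟨w, hw⟩ := hr v
          show g (a' v) = 0
          rw [← hw]; exact LinearMap.congr_fun P.ga w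
        have a'g : a' * g = a' := by rw [← P.ba]; exact h.right_mul ha'.2.2
        have ea' : e * a' = a' := by rw [← P.ab]; exact h.left_mul ha'.2.1
        have hgNa : g * N * e * a' = 0 := by
          rw [hmback] at g0
          rw [← g0, mul_assoc (g * N) e a', ea']
          have : (1 + N') * g = g := by rw [add_mul, one_mul, N'g, add_zero]
          rw [mul_assoc g ((1 + N) * a' * (1 + N')) g, mul_assoc ((1 + N) * a') (1 + N') g, this,
            mul_assoc (1 + N) a' g, a'g, ← mul_assoc g (1 + N) a', mul_add g, mul_one, add_mul g (g * N), ga',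
            zero_add]
        have ha'0 : a' = 0 := by
          by_contra h0
          have hr' := (cls_spaces ha ha' h0).2.1
          apply hχ
          have h1 : g * N * e * a = 0 := LinearMap.ext fun v => by
            obtain ⟨w, hw⟩ := hr'.ge ⟨v, rfl⟩
            show (g * N * e) (a v) = 0
            rw [← hw]; exact LinearMap.congr_fun hgNa w
          rw [← P.ee, ← mul_assoc, show g * N * e * e = g * N * e * (a * b) by rw [P.ab], ← mul_assoc, h1,
            zero_mul]
        have h3 : cj f y' = y' := by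
          rw [← sub_eq_zero, hmback, ha'0, mul_zero, zero_mul]
        rw [cj] at h3
        have h4 : (f : End') * y' = y' * (f : End') := by
          conv_rhs => rw [← h3]
          rw [mul_assoc _ _ (f : End'), Units.inv_mul, mul_one]
        rw [nl, sub_mul, one_mul, mul_sub, mul_one, h4]
      -- split off the part of weight zero
      set u := unitOf y' hy'm.1.1 with hu
      have hua : cj u a = a := by
        rw [cj, show (u : End') * a = a * (u : End') by
          rw [hu, unitOf_coe, add_mul, mul_add, one_mul, mul_one, hay], mul_assoc, Units.mul_inv, mul_one]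
      obtain ⟨f, hf, hfe⟩ := QuadDual20.dual_conj5 hp h (hua ▸ dual_cj h u) ha.1 hb.1
        (Lie.conj hb.1 (Lie.mem hy'm.1))
      set u₀ := f⁻¹ * u with hu₀
      have hu₀a : cj u₀ a = a := by rw [hu₀, ← cj_comp, hua, flagFix_fix (inv_mem hf)]
      have hu₀b : cj u₀ b = b := by rw [hu₀, ← cj_comp, ← hfe, cj_inv_cancel]
      have comm_of : ∀ {z : Aut} {x : End'}, cj z x = x → nl z * x = x * nl z := by
        intro z x hz
        rw [cj] at hz
        have : (z : End') * x = x * (z : End') := by
          conv_rhs => rw [← hz]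
          rw [mul_assoc _ _ (z : End'), Units.inv_mul, mul_one]
        rw [nl, sub_mul, one_mul, mul_sub, mul_one, this]
      obtain ⟨y₀, hy₀⟩ : ∃ y₀, y₀ = nl u₀ := ⟨_, rfl⟩
      have y0a : y₀ * a = a * y₀ := hy₀ ▸ comm_of hu₀a
      have y0b : y₀ * b = b * y₀ := hy₀ ▸ comm_of hu₀b
      have y0e : y₀ * e = e * y₀ := by
        rw [← P.ab, ← mul_assoc, y0a, mul_assoc, y0b, ← mul_assoc]
      have y0g : y₀ * g = g * y₀ := by
        rw [← P.ba, ← mul_assoc, y0b, mul_assoc, y0a, ← mul_assoc]
      have y0m : y₀ * m = m * y₀ := by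
        rw [hm]; simp only [mid, ← P.ab, ← P.ba, mul_sub, sub_mul, mul_one, one_mul] at y0e y0g ⊢
        rw [y0e, y0g]
      obtain ⟨M, hM⟩ : ∃ M, M = nl f := ⟨_, rfl⟩
      obtain ⟨gM, Me⟩ : g * M = 0 ∧ M * e = 0 := hM ▸ hgf hf
      have aM : a * M = 0 := hM ▸ hf.2.1
      have eMm : e * M * m = M * m := LinearMap.ext fun v => by
        obtain ⟨z, hz⟩ := hf.2.2.2 (m v) (LinearMap.mem_ker.2 (LinearMap.congr_fun P.am v))
        show e (M (m v)) = M (m v)
        rw [hM, ← hz]
        exact LinearMap.congr_fun P.ea z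
      have mMm : m * M * m = 0 := by
        rw [mul_assoc, ← eMm, mul_assoc e M m, ← mul_assoc m e, P.me, zero_mul]
      have My : M * y' = y' * M := hM ▸ hcent f hf
      have hy' : y' = M + y₀ + M * y₀ := by
        have h1 : u = f * u₀ := by rw [hu₀, mul_inv_cancel_left]
        have h2 := congrArg (fun z : Aut => (z : End')) h1
        simp only [Units.val_mul] at h2
        rw [hu, unitOf_coe] at h2
        rw [hM, hy₀, nl, nl]
        linear_combination (norm := noncomm_ring) h2
      have My0 : M * y₀ = y₀ * M := by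
        have h1 : nl f * nl u = nl u * nl f := by rw [hu, nl_unitOf, ← hM]; exact My
        have h2 := QuadPairCommute.comm_of_nl h1
        rw [hM, hy₀]
        exact QuadPairCommute.nl_comm (by rw [hu₀]; calc f * (f⁻¹ * u) = u := by group
          _ = f⁻¹ * (f * u) := by group
          _ = f⁻¹ * (u * f) := by rw [h2]
          _ = f⁻¹ * u * f := by group)
      have gy0 : g * y' * g = g * y₀ := by
        rw [hy']
        simp only [mul_add, add_mul, ← mul_assoc, gM, zero_mul, zero_add, add_zero]
        rw [mul_assoc, y0g, ← mul_assoc, P.gg]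
      have y00 : y₀ * y₀ = 0 := by
        have hsq : y' * y' = 0 := hy'm.1.1
        have ey0 : e * y' * e = e * y₀ := by
          rw [hy']
          simp only [mul_add, add_mul, mul_assoc, y0e, Me, ← mul_assoc M e, mul_zero, zero_mul, zero_add,
            add_zero]
          rw [← mul_assoc, P.ee]
        have my0 : m * y' * m = m * y₀ := by
          rw [hy']
          simp only [mul_add, add_mul, mMm, zero_add, show m * (M * y₀) * m = m * M * m * y₀ by
            rw [mul_assoc, mul_assoc M, y0m]; noncomm_ring, zero_mul, add_zero]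
          rw [mul_assoc, y0m, ← mul_assoc, P.mm]
        have key : ∀ i, i = e ∨ i = m ∨ i = g → i * y' * i = i * y₀ → i * (y' * y') * i = i * (y₀ * y₀) := by
          intro i hi heq
          have hcomm : y₀ * i = i * y₀ := by rcases hi with rfl | rfl | rfl <;> assumption
          have hii : i * i = i := by
            rcases hi with rfl | rfl | rfl
            exacts [P.ee, P.mm, P.gg]
          have : i * (y' * y') * i = (i * y' * i) * (i * y' * i) := by
            have ins : i * (y' * y') * i = i * y' * e * y' * i + i * y' * m * y' * i + i * y' * g * y' * i := by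
              rw [← add_mul, ← add_mul, ← add_mul, ← add_mul, ← mul_add, ← mul_add, P.sum, mul_one]
              noncomm_ring
            rw [ins, show i * y' * i * (i * y' * i) = i * y' * (i * i) * y' * i by noncomm_ring, hii]
            rcases hi with hi | hi | hi <;> rw [hi]
            · rw [show e * y' * m * y' * e = e * y' * (m * y' * e) by noncomm_ring, myE,
                show e * y' * g * y' * e = e * y' * (g * y' * e) by noncomm_ring, gyE]
              simp
            · rw [myE, show m * y' * g * y' * m = m * y' * (g * y' * m) by noncomm_ring, gyM]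
              simp
            · rw [gyE, gyM]
              simp
          rw [this, heq, mul_assoc, ← mul_assoc y₀ i y₀, hcomm, ← mul_assoc, ← mul_assoc, hii, mul_assoc]
        have h1 := key e (Or.inl rfl) ey0
        have h2 := key m (Or.inr (Or.inl rfl)) my0
        have h3 := key g (Or.inr (Or.inr rfl)) gy0
        rw [hsq, mul_zero, zero_mul] at h1 h2 h3
        rw [← one_mul (y₀ * y₀), ← P.sum, add_mul, add_mul, ← h1, ← h2, ← h3, add_zero, add_zero]
      have hy₀L : y₀ ∈ Lie G := hy₀ ▸ QuadDual20.lie_nl (mul_mem (inv_mem (flagFix_le hf)) (Lie.mem hy'm.1))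
        (hy₀ ▸ y00)
      -- the square
      have hMM : M * M + (2 : ZMod p) • (M * y₀) = 0 := by
        have hsq : y' * y' = 0 := hy'm.1.1
        rw [hy'] at hsq
        have hc : Commute M y₀ := My0
        have e1 : (M + y₀ + M * y₀) * (M + y₀ + M * y₀) =
            M * M + (M * y₀ + y₀ * M) + y₀ * y₀ + (M * M * y₀ + M * y₀ * M) +
            (M * (y₀ * y₀) + y₀ * M * y₀) + M * y₀ * M * y₀ := by noncomm_ring
        rw [e1, ← hc.eq, mul_assoc M y₀ y₀, y00, mul_assoc M y₀ M, ← hc.eq, mul_zero, add_zero, add_zero,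
          ← mul_assoc, mul_assoc (M * M) y₀ y₀, y00, mul_zero, add_zero, add_zero] at hsq
        have h2 := congrArg (· * y₀) hsq
        simp only [add_mul, mul_assoc, y00, mul_zero, add_zero, zero_mul] at h2
        rw [mul_assoc M M y₀, h2, add_zero, add_zero] at hsq
        rwa [two_smul]
      have half : ∀ {X : End'}, (2 : ZMod p) • X = 0 → X = 0 := fun h => (smul_eq_zero.1 h).resolve_left hk2
      have M1a : e * M * m * y₀ = 0 := by
        have := congrArg (fun t => e * t * m) hMM
        simp only [mul_add, add_mul, mul_zero, zero_mul, mul_smul_comm, smul_mul_assoc] at this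
        rw [show e * (M * M) * m = e * M * (M * m) by noncomm_ring, ← eMm,
          show e * M * (e * M * m) = e * (M * e) * M * m by noncomm_ring, Me, mul_zero, zero_mul, zero_mul,
          zero_add] at this
        have h1 := half this
        rwa [show e * (M * y₀) * m = e * M * (y₀ * m) by noncomm_ring, y0m, ← mul_assoc] at h1
      have M1b : m * M * g * y₀ = 0 := by
        have := congrArg (fun t => m * t * g) hMM
        simp only [mul_add, add_mul, mul_zero, zero_mul, mul_smul_comm, smul_mul_assoc] at this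
        have z0 : m * (M * M) * g = 0 := by
          have : m * (M * M) * g = m * M * e * (M * g) + m * M * m * (M * g) + m * M * (g * M) * g := by
            conv_lhs => rw [show m * (M * M) * g = m * M * (1 : End') * (M * g) by noncomm_ring, ← P.sum]
            noncomm_ring
          rw [this, mul_assoc m M e, Me, mMm, gM]
          simp
        rw [z0, zero_add] at this
        have h1 := half this
        rwa [show m * (M * y₀) * g = m * M * (y₀ * g) by noncomm_ring, y0g, ← mul_assoc] at h1
      -- a dual commuting with the pair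
      obtain ⟨c₁, hc₁, hd₁⟩ := QuadDual20.exists_dual_lie hp hG hy₀L
      obtain ⟨c₀, hc₀, hd₀, hca, hcb⟩ := dual_commute hp h (N := G) ha.1 hb.1 Subgroup.le_normalizer hy₀L
        hc₁ hd₁ y0a.symm y0b.symm
      set w := weyl hd₀.symm with hw
      have hwG : w ∈ G := weyl_mem hd₀.symm hc₀ hy₀L
      have hwc : ∀ {x : End'}, y₀ * x = x * y₀ → c₀ * x = x * c₀ → cj w x = x := by
        intro x k1 k2
        have hww : (w : End') * x = x * (w : End') := by
          rw [hw, weyl_coe]
          have P' : ∀ {r s : End'}, r * x = x * r → s * x = x * s → r * s * x = x * (r * s) := by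
            intro r s hr hs; rw [mul_assoc, hs, ← mul_assoc, hr, mul_assoc]
          simp only [mid, sub_mul, add_mul, mul_sub, mul_add, one_mul, mul_one, P' k2 k1, P' k1 k2, k1, k2]
        rw [cj, hww, mul_assoc, Units.mul_inv, mul_one]
      have hwy : cj w y₀ = -c₀ := by
        rw [hw, cj_weyl hd₀.symm (G := G) (n := y₀) ⟨hy₀L, le_rfl, le_rfl⟩,
          show c₀ * y₀ * c₀ = c₀ from hd₀.bab]
      have hwa : cj w a = a := hwc y0a hca.symm
      have hwe : cj w e = e := by rw [← P.ab, cj_mul, hwa, hwc y0b hcb.symm]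
      have hwg : cj w g = g := by rw [← P.ba, cj_mul, hwa, hwc y0b hcb.symm]
      have hwm : cj w m = m := by
        rw [hm]; simp only [mid, cj_sub, cj_one, ← P.ab, ← P.ba] at hwe hwg ⊢
        rw [hwe, hwg]
      -- conjugates of weight one parts commute with the part of weight zero
      have hf' : w⁻¹ * f * w ∈ flagFix G a := by
        have hwia : cj w⁻¹ a = a := by conv_lhs => rw [← hwa, cj_inv_cancel]
        obtain ⟨f0, f1, f2, f3⟩ := hf
        have e1 : nl (w⁻¹ * f * w) = cj w⁻¹ (nl f) := by
          rw [nl, nl, cj_sub, cj_one, cj_coe, inv_inv]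
        refine ⟨mul_mem (mul_mem (inv_mem hwG) f0) hwG, ?_, ?_, fun v hv => ?_⟩
        · rw [e1, ← hwia, ← cj_mul, f1, cj_zero]
        · rw [e1, ← hwia, ← cj_mul, f2, cj_zero]
        · rw [← hwia] at hv ⊢
          rw [ker_cj] at hv
          rw [e1, range_cj]
          exact ⟨_, f3 _ hv, rfl⟩
      obtain ⟨M', hM'⟩ : ∃ M', M' = nl (w⁻¹ * f * w) := ⟨_, rfl⟩
      have M'y : M' * y' = y' * M' := hM' ▸ hcent _ hf'
      obtain ⟨gM', M'e⟩ : g * M' = 0 ∧ M' * e = 0 := hM' ▸ hgf hf'
      have mM'm : m * M' * m = 0 := by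
        have : e * M' * m = M' * m := LinearMap.ext fun v => by
          obtain ⟨z, hz⟩ := hf'.2.2.2 (m v) (LinearMap.mem_ker.2 (LinearMap.congr_fun P.am v))
          show e (M' (m v)) = M' (m v)
          rw [hM', ← hz]
          exact LinearMap.congr_fun P.ea z
        rw [mul_assoc, ← this, mul_assoc e M' m, ← mul_assoc m e, P.me, zero_mul]
      have ey0' : e * y' * e = e * y₀ := by
        rw [hy']
        simp only [mul_add, add_mul, mul_assoc, y0e, Me, ← mul_assoc M e, mul_zero, zero_mul, zero_add,
          add_zero]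
        rw [← mul_assoc, P.ee]
      have my0' : m * y' * m = m * y₀ := by
        rw [hy']
        simp only [mul_add, add_mul, mMm, zero_add, show m * (M * y₀) * m = m * M * m * y₀ by
          rw [mul_assoc, mul_assoc M, y0m]; noncomm_ring, zero_mul, add_zero]
        rw [mul_assoc, y0m, ← mul_assoc, P.mm]
      have c1 : e * M' * m * y₀ = y₀ * (e * M' * m) := by
        have := congrArg (fun t => e * t * m) M'y
        have l : e * (M' * y') * m = e * M' * m * y₀ := by
          rw [show e * (M' * y') * m = e * M' * (1 : End') * y' * m by noncomm_ring, ← P.sum]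
          simp only [mul_add, add_mul]
          rw [mul_assoc e M' e, M'e, show e * M' * g * y' * m = e * M' * (g * y' * m) by noncomm_ring, gyM,
            show e * M' * m * y' * m = e * M' * (m * y' * m) by noncomm_ring, my0']
          simp only [mul_zero, zero_mul, zero_add, add_zero, mul_assoc]
        have r : e * (y' * M') * m = y₀ * (e * M' * m) := by
          rw [show e * (y' * M') * m = e * y' * (1 : End') * M' * m by noncomm_ring, ← P.sum]
          simp only [mul_add, add_mul]
          rw [ey0', show e * y' * m * M' * m = e * y' * (m * M' * m) by noncomm_ring, mM'm,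
            mul_assoc (e * y') g M', gM']
          simp only [mul_zero, zero_mul, add_zero]
          rw [← y0e]; simp only [mul_assoc]
        rw [← l, this, r]
      -- the support kills the parts of weight one
      have c2 : e * M * m * c₀ = c₀ * (e * M * m) := by
        have h1 := congrArg (cj w) c1
        rw [cj_mul, cj_mul w y₀, hwy] at h1
        have h2 : cj w (e * M' * m) = e * M * m := by
          rw [cj_mul, cj_mul, hwe, hwm, hM', show nl (w⁻¹ * f * w) = cj w⁻¹ (nl f) by
            rw [nl, nl, cj_sub, cj_one, cj_coe, inv_inv], cj_comp, mul_inv_cancel, hM]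
          simp [cj]
        rwa [h2, mul_neg, neg_mul, neg_inj] at h1
      have hy0M : y₀ * (e * M * m) = 0 := by
        have : y₀ * (e * M * m) = e * M * m * y₀ := by
          rw [show y₀ * (e * M * m) = y₀ * e * M * m by noncomm_ring, y0e, mul_assoc e y₀ M, ← My0,
            show e * (M * y₀) * m = e * M * (y₀ * m) by noncomm_ring, y0m]
          noncomm_ring
        rw [this, M1a]
      have hP0 : (y₀ * c₀ + c₀ * y₀) * (e * M * m) = 0 := by
        rw [add_mul, mul_assoc, ← c2, ← mul_assoc, hy0M, zero_mul, zero_add, mul_assoc, hy0M, mul_zero]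
      -- conclusion
      have hay0 : a * y' = a * y₀ := by
        rw [hy', mul_add, mul_add, aM, ← mul_assoc, aM, zero_mul, zero_add, add_zero]
      have hzero : a * y₀ = 0 := by
        have h1 := congrArg (fun t => e * t * g) hMM
        simp only [mul_add, add_mul, mul_zero, zero_mul, mul_smul_comm, smul_mul_assoc] at h1
        have z1 : e * (M * M) * g = e * M * m * (M * g) := by
          rw [show e * (M * M) * g = e * M * (1 : End') * (M * g) by noncomm_ring, ← P.sum]
          simp only [mul_add, add_mul]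
          rw [mul_assoc e M e, Me, show e * M * g * (M * g) = e * M * (g * M) * g by noncomm_ring, gM]
          simp only [mul_zero, zero_mul, zero_add, add_zero]
        have z2 : e * (M * y₀) * g = a * y₀ := by
          have h2 := congrArg (fun t => e * t * g) hy'
          simp only [mul_add, add_mul] at h2
          have ey0g : e * y₀ * g = 0 := by rw [mul_assoc, y0g, ← mul_assoc, P.eg, zero_mul]
          have eyg : e * y' * g = a := by rw [ey, add_mul, P.ag, mul_assoc, N'g, mul_zero, add_zero]
          rw [eyg, ey0g, add_zero] at h2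
          have h3 := congrArg (· * y₀) h2
          simp only [add_mul] at h3
          rw [show e * (M * y₀) * g * y₀ = e * M * y₀ * (g * y₀) by noncomm_ring, ← y0g,
            show e * M * y₀ * (y₀ * g) = e * M * (y₀ * y₀) * g by noncomm_ring, y00, mul_zero, zero_mul,
            add_zero] at h3
          rw [h3, show e * M * g * y₀ = e * M * (g * y₀) by noncomm_ring, ← y0g]
          noncomm_ring
        rw [z1, z2] at h1
        have h4 := congrArg ((y₀ * c₀ + c₀ * y₀) * ·) h1
        simp only [mul_add, mul_zero, mul_smul_comm] at h4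
        rw [← mul_assoc _ (e * M * m) (M * g), hP0, zero_mul, zero_add] at h4
        have h5 := half h4
        obtain ⟨s1, -, -, -⟩ := supp_mul hd₀
        have cP : (y₀ * c₀ + c₀ * y₀) * a = a * (y₀ * c₀ + c₀ * y₀) := by
          rw [add_mul, mul_add, mul_assoc y₀, ← hca, ← mul_assoc y₀, y0a, mul_assoc c₀ y₀ a, y0a,
            ← mul_assoc c₀, ← hca]
          simp only [mul_assoc]
        rw [← mul_assoc, cP, mul_assoc] at h5
        rwa [show (y₀ * c₀ + c₀ * y₀) * y₀ = y₀ from s1] at h5
      apply hχ
      have h1 : a * N * a = 0 := by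
        have h2 : a * N * a * (1 + N') = 0 := by rw [← ayN, hay0, hzero]
        have h3 : (1 + N') * (γ : End') = 1 := by
          rw [hN'def, nl, add_sub_cancel]; exact Units.inv_mul γ
        have := congrArg (· * (γ : End')) h2
        simp only [zero_mul] at this
        rwa [mul_assoc, h3, mul_one] at this
      rw [← P.ba, ← P.ab, show b * a * N * (a * b) = b * (a * N * a) * b by noncomm_ring, h1, mul_zero,
        zero_mul]

/-- **A root group connected with that of `a` and normalized by its flag group is that root group.** -/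
theorem fixed_eq (hp : 5 ≤ p) (hG : QuadPairUnipotent.Reduced G) {a y : End'} (ha : IsMin G a)
    (hy : IsMin G y) (hN : flagFix G a ≤ Subgroup.normalizer (E G hy.1.1 : Set Aut))
    (hpath : Relation.ReflTransGen (FAdj (quadraticRootSubgroups G)) (E G ha.1.1) (E G hy.1.1)) :
    E G hy.1.1 = E G ha.1.1 := by
  by_contra hne
  have hk2 := QuadDual20.two_ne hp
  have hk3 := QuadDual20.card_ne hp
  set Y := E G hy.1.1
  have hay : a * y = y * a := QuadPairCommute.comm_of_normalizes hk2 hk3 ha hy
    (hN (E_le_flagFix ha (unitOf_mem_E (self_mem_cls ha.1))))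
  have hcA := QuadPairCommute.commutator_eq_bot_of_nl hk2 hk3 ha hy hay
  suffices key : ∀ X, Relation.ReflTransGen (FAdj (quadraticRootSubgroups G)) (E G ha.1.1) X →
      ∃ x ∈ G, x ∈ Subgroup.normalizer (Y : Set Aut) ∧ X = conjBy (E G ha.1.1) x by
    obtain ⟨x, -, hxN, hxe⟩ := key _ hpath
    refine hne (RankOne.conjBy_injective x ?_)
    show conjBy Y x = conjBy _ x
    rw [RankOne.conjBy_eq_self_iff.2 hxN]
    exact hxe
  intro X hX
  induction hX with
  | refl => exact ⟨1, one_mem G, one_mem _, (RankOne.conjBy_one _).symm⟩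
  | tail _ hadj ih =>
    obtain ⟨x, hx, hxN, rfl⟩ := ih
    obtain ⟨z, hz, rfl⟩ := mem_roots.1 hadj.2.1
    have hop := hadj.2.2
    rw [conjBy_E _ hx (ha.conj hx).1.1] at hop
    obtain ⟨z', hz', hz'0, hd⟩ := exists_dual hk2 hk3 (ha.conj hx) hz
      (QuadPairRootSet.opp_of_rankOne hk2 hk3 (ha.conj hx) hz hop)
    have hz'm : IsMin G z' := (cls_spaces hz hz' hz'0).1
    set c := cj x⁻¹ z'
    have hc : IsMin G c := hz'm.conj (inv_mem hx)
    have hdc : Dual a c := by
      have := dual_cj hd x⁻¹
      rwa [cj_inv_cancel] at this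
    rcases fixed_commute_or_eq hp hG hdc ha hc hy hN with hcom | heq
    · have hcC := QuadPairCommute.commutator_eq_bot_of_nl hk2 hk3 hc hy hcom.symm
      set H := E G ha.1.1 ⊔ E G hc.1.1
      have hH : H ≤ Subgroup.centralizer (Y : Set Aut) := sup_le
        (Subgroup.commutator_eq_bot_iff_le_centralizer.1 hcA)
        (Subgroup.commutator_eq_bot_iff_le_centralizer.1 hcC)
      have hmemLie : ∀ {n : End'} (hn : IsMin G n), E G hn.1.1 ≤ H → n ∈ Lie H :=
        fun {n} hn hle => ⟨hn.1.1, fun c => ⟨_, hle (unitOf_mem_E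
          (Submodule.smul_mem _ c (self_mem_cls hn.1))), rfl⟩⟩
      have hwH : weyl hdc.symm ∈ H :=
        rep_mem hdc.symm (hmemLie hc le_sup_right) (hmemLie ha le_sup_left) _
      have hwG : weyl hdc.symm ∈ G := weyl_mem hdc.symm hc.1 ha.1
      refine ⟨x * weyl hdc.symm, mul_mem hx hwG,
        mul_mem hxN (LocalBasics.centralizer_le_normalizer _ (hH hwH)), ?_⟩
      have e : cj (weyl hdc.symm) a = -c := by
        rw [cj_weyl hdc.symm (G := G) (n := a) ⟨ha.1, le_rfl, le_rfl⟩, hdc.bab]
      have e' : cj (x * weyl hdc.symm) a = -z' := by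
        rw [← cj_comp, e, cj_neg', cj_comp, mul_inv_cancel]
        simp [cj]
      rw [conjBy_E _ (mul_mem hx hwG) (ha.conj (mul_mem hx hwG)).1.1]
      refine E_congr _ _ ?_ ?_
      · rw [e', LinearMap.range_neg, (cls_spaces hz hz' hz'0).2.1]
      · rw [e', LinearMap.ker_neg, (cls_spaces hz hz' hz'0).2.2]
    · exact absurd heq hne
where
  cj_neg' {n : End'} {x : Aut} : cj x (-n) = -cj x n := by simp [cj]

end Cfsg.Agent.QuadWeights20
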