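import Mathlib
import Cfsg.Agent.Lib.QuadWeights20
import Cfsg.Agent.Lib.QuadPairCoprimeFixed20
import Cfsg.Agent.Lib.LocalBasics
import Cfsg.Agent.Lib.HallCore

/-!
An element of the meet of the invariant Sylow `p`-subgroups of a linear group under a coprime group of
odd order is not a quadratic element with a dual, `p ≥ 5`.
-/

set_option autoImplicit false
set_option linter.unusedSectionVars false

namespace Cfsg.Agent.QuadMeet20

open Cfsg Cfsg.Agent.QuadPairTheory Cfsg.Agent.QuadPairDualOrbit20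
open Cfsg.Agent.QuadPairSL2 Cfsg.Agent.QuadPairCoprimeFixed20

universe v

section meet

open scoped Pointwise

variable {X Y : Type*} [Group X] [Finite X] [Group Y] [Finite Y] {p : ℕ} [Fact p.Prime]

/-- A subgroup of Sylow order. -/
def IsSyl (p : ℕ) (G S : Subgroup X) : Prop := S ≤ G ∧ Nat.card S = p ^ (Nat.card G).factorization p

/-- A coprime solvable operator group. -/
structure Coact (G R : Subgroup X) : Prop where
  norm : R ≤ Subgroup.normalizer (G : Set X)
  cop : (Nat.card R).Coprime (Nat.card G)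
  solv : Group.IsSolvable R

/-- Membership in every invariant Sylow subgroup. -/
def InMeet (p : ℕ) (G R : Subgroup X) (u : X) : Prop :=
  u ∈ G ∧ ∀ S, IsSyl p G S → R ≤ Subgroup.normalizer (S : Set X) → u ∈ S

theorem IsSyl.isPGroup {G S : Subgroup X} (h : IsSyl p G S) : IsPGroup p S := IsPGroup.of_card h.2

theorem isSyl_coe {G : Subgroup X} (P : Sylow p G) : IsSyl p G ((P : Subgroup G).map G.subtype) :=
  ⟨Subgroup.map_subtype_le _, CoprimeAction.card_map_sylow P⟩

theorem IsSyl.exists_sylow {G S : Subgroup X} (h : IsSyl p G S) :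
    ∃ P : Sylow p G, (P : Subgroup G).map G.subtype = S :=
  CoprimeAction.exists_sylow_map_eq h.1 h.2

theorem le_card_syl {G U : Subgroup X} (hU : U ≤ G) (hUp : IsPGroup p U) :
    Nat.card U ≤ p ^ (Nat.card G).factorization p := by
  obtain ⟨n, hn⟩ := IsPGroup.iff_card.1 hUp
  rw [hn]
  refine Nat.pow_le_pow_right (Fact.out : p.Prime).pos ?_
  exact ((Fact.out : p.Prime).pow_dvd_iff_le_factorization Nat.card_pos.ne').1
    (hn ▸ Subgroup.card_dvd_of_le hU)

theorem IsSyl.eq_of_le {G S U : Subgroup X} (h : IsSyl p G S) (hU : U ≤ G) (hUp : IsPGroup p U)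
    (hSU : S ≤ U) : S = U :=
  Subgroup.eq_of_le_of_card_ge hSU ((le_card_syl hU hUp).trans h.2.ge)

theorem exists_ge {G U : Subgroup X} (hU : U ≤ G) (hUp : IsPGroup p U) :
    ∃ S, IsSyl p G S ∧ U ≤ S := by
  obtain ⟨P, hP⟩ := (hUp.of_equiv (Subgroup.subgroupOfEquivOfLe hU).symm).exists_le_sylow
  exact ⟨_, isSyl_coe P, fun x hx => ⟨⟨x, hU hx⟩, hP hx, rfl⟩⟩

theorem Coact.bot (G : Subgroup X) : Coact G ⊥ :=
  ⟨bot_le, by simp, Group.isSolvable_of_comm fun a b => Subsingleton.elim _ _⟩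

theorem Coact.exists_inv {G R : Subgroup X} (h : Coact G R) :
    ∃ S, IsSyl p G S ∧ R ≤ Subgroup.normalizer (S : Set X) := by
  obtain ⟨P, hP⟩ := CoprimeAction.exists_invariant_sylow h.norm h.cop (Or.inl h.solv) p
  exact ⟨_, isSyl_coe P, hP⟩

theorem Coact.exists_inv_ge {G R U : Subgroup X} (h : Coact G R) (hU : U ≤ G) (hUp : IsPGroup p U)
    (hUR : R ≤ Subgroup.normalizer (U : Set X)) :
    ∃ S, IsSyl p G S ∧ U ≤ S ∧ R ≤ Subgroup.normalizer (S : Set X) := by
  obtain ⟨P, h1, h2⟩ := CoprimeAction.exists_invariant_sylow_ge h.norm h.cop (Or.inl h.solv) hU hUp hUR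
  exact ⟨_, isSyl_coe P, h1, h2⟩

theorem Coact.syl_conj {G R S T : Subgroup X} (h : Coact G R) (hS : IsSyl p G S)
    (hSR : R ≤ Subgroup.normalizer (S : Set X)) (hT : IsSyl p G T)
    (hTR : R ≤ Subgroup.normalizer (T : Set X)) :
    ∃ c ∈ G, c ∈ Subgroup.centralizer (R : Set X) ∧ conjBy S c = T := by
  obtain ⟨P, rfl⟩ := hS.exists_sylow
  obtain ⟨Q, rfl⟩ := hT.exists_sylow
  obtain ⟨c, hc, rfl⟩ := CoprimeAction.invariant_sylow_conj h.norm h.cop (Or.inl h.solv) P Q hSR hTR
  refine ⟨c, c.2, hc, ?_⟩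
  show _ = ((P : Subgroup G).map (MulAut.conj c).toMonoidHom).map G.subtype
  rw [conjBy, Subgroup.map_map, Subgroup.map_map]
  rfl

theorem IsSyl.map {G S : Subgroup X} (h : IsSyl p G S) (f : X →* Y) : IsSyl p (G.map f) (S.map f) := by
  obtain ⟨P, rfl⟩ := h.exists_sylow
  have := isSyl_coe (P.mapSurjective (f.subgroupMap_surjective G))
  rw [Sylow.coe_mapSurjective, Subgroup.map_map] at this
  rw [Subgroup.map_map]
  exact this

theorem Coact.map {G R : Subgroup X} (h : Coact G R) (f : X →* Y) : Coact (G.map f) (R.map f) := by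
  haveI := h.solv
  refine ⟨(Subgroup.map_mono h.norm).trans (Subgroup.le_normalizer_map f), ?_,
    Group.isSolvable_of_surjective (f.subgroupMap_surjective R)⟩
  exact (h.cop.coprime_dvd_left (Subgroup.card_map_dvd _ _)).coprime_dvd_right (Subgroup.card_map_dvd _ _)

theorem InMeet.map {G R : Subgroup X} {u : X} (h : Coact G R) (hu : InMeet p G R u) (f : X →* Y) :
    InMeet p (G.map f) (R.map f) (f u) := by
  refine ⟨Subgroup.mem_map_of_mem f hu.1, fun T hT hTR => ?_⟩
  obtain ⟨S, hS, hSR⟩ := h.exists_inv (p := p)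
  obtain ⟨c', hc'G, hc'R, rfl⟩ := (h.map f).syl_conj (hS.map f)
    ((Subgroup.map_mono hSR).trans (Subgroup.le_normalizer_map f)) hT hTR
  have hmem : c' ∈ (G ⊓ Subgroup.centralizer (R : Set X)).map f := by
    rw [CoprimeAction.map_inf_centralizer_eq f h.norm h.cop (Or.inl h.solv)]
    exact ⟨hc'G, hc'R⟩
  obtain ⟨c, hc, rfl⟩ := hmem
  have hSc : IsSyl p G (conjBy S c) := by
    refine ⟨?_, ?_⟩
    · rintro _ ⟨x, hx, rfl⟩
      exact mul_mem (mul_mem hc.1 (hS.1 hx)) (inv_mem hc.1)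
    · rw [← hS.2]; exact Subgroup.card_map_of_injective (MulAut.conj c).injective
  have hR : R ≤ Subgroup.normalizer (conjBy S c : Set X) := by
    refine CoprimeAction.le_normalizer_of_conj_mem fun a ha b hb => ?_
    obtain ⟨x, hx, rfl⟩ := hb
    have hac : a * c = c * a := Subgroup.mem_centralizer_iff.1 hc.2 a ha
    refine ⟨a * x * a⁻¹, (Subgroup.mem_normalizer_iff.1 (hSR ha) x).1 hx, ?_⟩
    show c * (a * x * a⁻¹) * c⁻¹ = a * (c * x * c⁻¹) * a⁻¹
    calc c * (a * x * a⁻¹) * c⁻¹ = c * a * x * (c * a)⁻¹ := by group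
      _ = a * c * x * (a * c)⁻¹ := by rw [hac]
      _ = _ := by group
  obtain ⟨x, hx, hxu⟩ := hu.2 _ hSc hR
  exact ⟨f x, ⟨x, hx, rfl⟩, by rw [← hxu]; simp⟩

theorem Coact.mono {G R D : Subgroup X} (h : Coact G R) (hD : D ≤ G)
    (hDR : R ≤ Subgroup.normalizer (D : Set X)) : Coact D R :=
  ⟨hDR, CoprimeAction.coprime_of_le_right hD h.cop, h.solv⟩

theorem InMeet.mono {G R D : Subgroup X} {u : X} (h : Coact G R) (hu : InMeet p G R u) (hD : D ≤ G)
    (huD : u ∈ D) : InMeet p D R u := by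
  refine ⟨huD, fun T hT hTR => ?_⟩
  obtain ⟨S, hS, hTS, hSR⟩ := h.exists_inv_ge (hT.1.trans hD) hT.isPGroup hTR
  have := hT.eq_of_le (U := S ⊓ D) inf_le_right (hS.isPGroup.to_le inf_le_left) (le_inf hTS hT.1)
  rw [this]
  exact ⟨hu.2 S hS hSR, huD⟩

theorem Coact.subgroupOf {G R H : Subgroup X} (h : Coact G R) (hG : G ≤ H) (hR : R ≤ H) :
    Coact (G.subgroupOf H) (R.subgroupOf H) := by
  haveI := h.solv
  refine ⟨CoprimeAction.le_normalizer_of_conj_mem fun a ha b hb =>
    (Subgroup.mem_normalizer_iff.1 (h.norm ha) _).1 hb, ?_, ?_⟩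
  · rw [Nat.card_congr (Subgroup.subgroupOfEquivOfLe hG).toEquiv,
      Nat.card_congr (Subgroup.subgroupOfEquivOfLe hR).toEquiv]
    exact h.cop
  · exact Group.isSolvable_of_isSolvable_injective (f := (Subgroup.subgroupOfEquivOfLe hR).toMonoidHom)
      (Subgroup.subgroupOfEquivOfLe hR).injective

theorem InMeet.subgroupOf {G R H : Subgroup X} {u : X} (hu : InMeet p G R u) (hG : G ≤ H) (hR : R ≤ H) :
    InMeet p (G.subgroupOf H) (R.subgroupOf H) ⟨u, hG hu.1⟩ := by
  refine ⟨hu.1, fun T hT hTR => ?_⟩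
  have hS : IsSyl p G (T.map H.subtype) := by
    refine ⟨?_, ?_⟩
    · rintro _ ⟨x, hx, rfl⟩; exact hT.1 hx
    · rw [Subgroup.card_map_of_injective H.subtype_injective, hT.2,
        Nat.card_congr (Subgroup.subgroupOfEquivOfLe hG).toEquiv]
  have hR' : R ≤ Subgroup.normalizer (T.map H.subtype : Set X) := by
    refine CoprimeAction.le_normalizer_of_conj_mem fun a ha b hb => ?_
    obtain ⟨x, hx, rfl⟩ := hb
    exact ⟨⟨a, hR ha⟩ * x * ⟨a, hR ha⟩⁻¹,
      (Subgroup.mem_normalizer_iff.1 (hTR (show (⟨a, hR ha⟩ : H) ∈ R.subgroupOf H from ha)) x).1 hx, rfl⟩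
  obtain ⟨x, hx, hxu⟩ := hu.2 _ hS hR'
  rwa [show (⟨u, hG hu.1⟩ : H) = x from Subtype.ext hxu.symm]

end meet

variable {p : ℕ} [Fact p.Prime] {V : Type v} [AddCommGroup V] [Module (ZMod p) V] [Finite V]
  {G : Subgroup (LinearMap.GeneralLinearGroup (ZMod p) V)}

local notation "Aut" => LinearMap.GeneralLinearGroup (ZMod p) V
local notation "End'" => Module.End (ZMod p) V

theorem hyp (hp : 5 ≤ p) (hG : QuadPairUnipotent.Reduced G) : QuadPairComponents.Hyp G :=
  ⟨QuadDual20.two_ne hp, QuadDual20.card_ne hp, hG⟩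

section stab

/-- The stabilizer of a subspace. -/
def stab (W : Submodule (ZMod p) V) : Subgroup Aut where
  carrier := {g | ∀ v, (g : End') v ∈ W ↔ v ∈ W}
  one_mem' := fun v => Iff.rfl
  mul_mem' := fun {g g'} h h' v => (h ((g' : End') v)).trans (h' v)
  inv_mem' := fun {g} h v => by
    rw [← h ((((g⁻¹ : Aut) : End')) v), ← Module.End.mul_apply, Units.mul_inv, Module.End.one_apply]

/-- The action on an invariant subspace. -/
def res (W : Submodule (ZMod p) V) : stab W →* LinearMap.GeneralLinearGroup (ZMod p) W :=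
  MonoidHom.toHomUnits
    { toFun := fun g => ((g.1 : End')).restrict fun v hv => (g.2 v).2 hv
      map_one' := LinearMap.ext fun w => Subtype.ext rfl
      map_mul' := fun g g' => LinearMap.ext fun w => Subtype.ext rfl }

/-- The action on the quotient. -/
def quo (W : Submodule (ZMod p) V) : stab W →* LinearMap.GeneralLinearGroup (ZMod p) (V ⧸ W) :=
  MonoidHom.toHomUnits
    { toFun := fun g => W.mapQ W (g.1 : End') fun v hv => (g.2 v).2 hv
      map_one' := Submodule.linearMap_qext _ (LinearMap.ext fun w => rfl)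
      map_mul' := fun g g' => Submodule.linearMap_qext _ (LinearMap.ext fun w => rfl) }

theorem res_nl (W : Submodule (ZMod p) V) (g : stab W) (w : W) :
    ((nl (res W g)) w : V) = nl g.1 (w : V) := rfl

theorem quo_nl (W : Submodule (ZMod p) V) (g : stab W) (v : V) :
    nl (quo W g) (Submodule.Quotient.mk v) = Submodule.Quotient.mk (nl g.1 v) := rfl

end stab

theorem pow_eq_one {u : Aut} (h : nl u * nl u = 0) : u ^ p = 1 := by
  rw [show u = unitOf (nl u) h from Units.ext (by simp [nl])]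
  exact Units.ext (by rw [QuadDual20.pow_unitOf, ZMod.natCast_self, zero_smul, add_zero, Units.val_one])

theorem isPGroup_of_unipotent {U : Subgroup Aut} (hU : IsUnipotentOn U) : IsPGroup p U := by
  rintro ⟨g, hg⟩
  obtain ⟨n, hn⟩ := S5061.unipotent_iff.1 hU
  refine ⟨n, Subtype.ext (Units.ext ?_)⟩
  rcases subsingleton_or_nontrivial V with hV | hV
  · exact LinearMap.ext fun x => Subsingleton.elim _ _
  haveI : CharP End' p :=
    charP_of_injective_algebraMap (algebraMap (ZMod p) End').injective p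
  have h1 : nl g ^ n = 0 := by
    have := hn (List.replicate n g) (fun x hx => (List.eq_of_mem_replicate hx) ▸ hg) (by simp)
    simpa [List.map_replicate] using this
  have h2 : nl g ^ p ^ n = 0 := pow_eq_zero_of_le (Nat.lt_pow_self (Fact.out : p.Prime).one_lt).le h1
  have e : (g : End') = nl g + 1 := by rw [nl, sub_add_cancel]
  rw [SubgroupClass.coe_pow, Units.val_pow_eq_pow_val, OneMemClass.coe_one, Units.val_one]
  show (g : End') ^ p ^ n = 1
  rw [e, add_pow_char_pow_of_commute (p := p) _ (Commute.one_right (nl g)), h2, one_pow, zero_add]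

/-- A group which is not reduced lies, with its operators, in the stabilizer of a proper subspace. -/
theorem exists_subspace {R : Subgroup Aut} (hR : R ≤ Subgroup.normalizer (G : Set Aut))
    (hG : ¬ QuadPairUnipotent.Reduced G) :
    ∃ W : Submodule (ZMod p) V, W ≠ ⊥ ∧ W ≠ ⊤ ∧ G ≤ stab W ∧ R ≤ stab W := by
  obtain ⟨U, hUG, hUn, hUu, hU⟩ : ∃ U : Subgroup Aut, U ≤ G ∧ (∀ h ∈ G, conjBy U h = U) ∧
      IsUnipotentOn U ∧ U ≠ ⊥ := by
    simpa [QuadPairUnipotent.Reduced, and_assoc] using hG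
  set Q := (Cfsg.pCore p G).map G.subtype with hQ
  have hUQ : U ≤ Q := by
    haveI : (U.subgroupOf G).Normal := LocalBasics.normal_subgroupOf_of_le fun x hx =>
      RankOne.conjBy_eq_self_iff.1 (hUn x hx)
    have := HallCore.le_pCore (p := p) (N := U.subgroupOf G)
      ((isPGroup_of_unipotent hUu).of_equiv (Subgroup.subgroupOfEquivOfLe hUG).symm)
    exact fun x hx => ⟨⟨x, hUG hx⟩, this hx, rfl⟩
  have hQp : IsPGroup p Q := (HallCore.isPGroup_pCore p G).map _
  have hnorm : Subgroup.normalizer (G : Set Aut) ≤ Subgroup.normalizer (Q : Set Aut) := by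
    refine CoprimeAction.le_normalizer_of_conj_mem fun x hx y hy => ?_
    obtain ⟨z, hz, rfl⟩ := hy
    let φ : G →* G := (((MulAut.conj x).toMonoidHom.comp G.subtype).codRestrict G fun w =>
      (Subgroup.mem_normalizer_iff.1 hx w).1 w.2)
    have hsurj : Function.Surjective φ := fun w =>
      ⟨⟨x⁻¹ * w * x, CoprimeAction.conj_mem' hx w.2⟩, Subtype.ext (by simp [φ, mul_assoc])⟩
    exact ⟨φ z, HallCore.map_pCore_le hsurj ⟨z, hz, rfl⟩, rfl⟩
  let W : Submodule (ZMod p) V :=
    { carrier := {v | ∀ g ∈ Q, (g : End') v = v}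
      zero_mem' := fun g _ => map_zero _
      add_mem' := fun {x y} hx hy g hg => by rw [map_add, hx g hg, hy g hg]
      smul_mem' := fun c x hx g hg => by rw [map_smul, hx g hg] }
  have hstab : Subgroup.normalizer (Q : Set Aut) ≤ stab W := by
    have key : ∀ x ∈ Subgroup.normalizer (Q : Set Aut), ∀ v ∈ W, (x : End') v ∈ W := by
      intro x hx v hv g hg
      have h1 := hv _ (CoprimeAction.conj_mem' hx hg)
      rw [Units.val_mul, Units.val_mul, Module.End.mul_apply, Module.End.mul_apply] at h1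
      have h2 := congrArg (fun w => (x : End') w) h1
      rwa [← Module.End.mul_apply (x : End') ((x⁻¹ : Aut) : End'), Units.mul_inv, Module.End.one_apply] at h2
    intro x hx v
    refine ⟨fun h => ?_, key x hx v⟩
    have := key _ (inv_mem hx) _ h
    rwa [← Module.End.mul_apply, Units.inv_mul, Module.End.one_apply] at this
  refine ⟨W, ?_, ?_, Subgroup.le_normalizer.trans (hnorm.trans hstab), hR.trans (hnorm.trans hstab)⟩
  · intro hW
    have hdvd : p ∣ Nat.card V := by
      rw [Module.natCard_eq_pow_finrank (K := ZMod p), Nat.card_zmod]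
      refine dvd_pow_self p fun h0 => hU ?_
      haveI : Subsingleton V := Module.finrank_zero_iff.1 h0
      exact Subgroup.eq_bot_iff_forall _ |>.2 fun g _ => Units.ext (LinearMap.ext fun x => Subsingleton.elim _ _)
    obtain ⟨v, hv, hv0⟩ := hQp.exists_fixed_point_of_prime_dvd_card_of_fixed_point V hdvd (a := (0 : V))
      fun g => map_zero _
    exact hv0.symm ((Submodule.mem_bot _).1 (hW ▸ (show v ∈ W from fun g hg => hv ⟨g, hg⟩)))
  · intro hW
    refine hU ((Subgroup.eq_bot_iff_forall _).2 fun g hg => Units.ext (LinearMap.ext fun x => ?_))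
    exact (show x ∈ W from hW ▸ Submodule.mem_top) g (hUQ hg)

section roots

theorem flagFix_congr {a a' : End'} (hr : LinearMap.range a' = LinearMap.range a)
    (hk : LinearMap.ker a' = LinearMap.ker a) : flagFix G a' = flagFix G a := by
  have key : ∀ (c c' : End'), LinearMap.range c' = LinearMap.range c → LinearMap.ker c' = LinearMap.ker c →
      flagFix G c ≤ flagFix G c' := by
    intro c c' hr hk g ⟨g0, g1, g2, g3⟩
    refine ⟨g0, ?_, ?_, fun v hv => hr.symm ▸ g3 v (hk ▸ hv)⟩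
    · refine LinearMap.ext fun v => LinearMap.mem_ker.1 (?_ : nl g v ∈ LinearMap.ker c')
      rw [hk]
      exact LinearMap.mem_ker.2 (LinearMap.congr_fun g1 v)
    · refine LinearMap.ext fun v => ?_
      obtain ⟨w, hw⟩ := hr.le ⟨v, rfl⟩
      rw [Module.End.mul_apply, ← hw]
      exact LinearMap.congr_fun g2 w
  exact le_antisymm (key a' a hr.symm hk.symm) (key a a' hr hk)

theorem cls_of_normalizes {a : End'} (ha : IsMin G a) {g : Aut}
    (hg : g ∈ Subgroup.normalizer (E G ha.1.1 : Set Aut)) {m : End'} (hm : m ∈ cls G ha.1.1) :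
    cj g m ∈ cls G ha.1.1 := by
  have h2 := (Subgroup.mem_normalizer_iff.1 hg _).1 (unitOf_mem_E hm)
  have := mem_E.1 h2
  rwa [nl, ← cj_coe, unitOf_coe, cj_add, cj_one, add_sub_cancel_left] at this

theorem flagFix_normal {a : End'} (ha : IsMin G a) :
    G ⊓ Subgroup.normalizer (E G ha.1.1 : Set Aut) ≤ Subgroup.normalizer (flagFix G a : Set Aut) := by
  refine CoprimeAction.le_normalizer_of_conj_mem fun x hx h hh => ?_
  obtain ⟨h0, h1, h2, h3⟩ := hh
  have hm := cls_of_normalizes ha hx.2 (self_mem_cls ha.1)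
  obtain ⟨-, hr, hk⟩ := cls_spaces ha hm (ha.conj hx.1).2.1
  rw [← flagFix_congr hr hk]
  have e : nl (x * h * x⁻¹) = cj x (nl h) := by rw [nl, ← cj_coe, nl, cj_sub, cj_one]
  refine ⟨mul_mem (mul_mem hx.1 h0) (inv_mem hx.1), ?_, ?_, fun v hv => ?_⟩
  · rw [e, ← cj_mul, h1, cj_zero]
  · rw [e, ← cj_mul, h2, cj_zero]
  · rw [ker_cj] at hv
    rw [e, range_cj]
    exact ⟨_, h3 _ hv, rfl⟩

theorem flagFix_le_syl (hp : 5 ≤ p) {a : End'} (ha : IsMin G a) {S : Subgroup Aut} {N : Subgroup Aut}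
    (hNG : N ≤ G ⊓ Subgroup.normalizer (E G ha.1.1 : Set Aut)) (hS : IsSyl p N S) (hFN : flagFix G a ≤ N) :
    flagFix G a ≤ S := by
  have hsup : IsPGroup p (S ⊔ flagFix G a : Subgroup Aut) :=
    hS.isPGroup.to_sup_of_normal_right' (isPGroup_flagFix (by omega) a ha.1.1)
      ((hS.1.trans hNG).trans (flagFix_normal ha))
  exact le_sup_right.trans (hS.eq_of_le (sup_le hS.1 hFN) hsup le_sup_left).ge

theorem flagFix_le_norm {a : End'} (ha : IsMin G a) :
    flagFix G a ≤ Subgroup.normalizer (E G ha.1.1 : Set Aut) := fun g hg => by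
  rw [← RankOne.conjBy_eq_self_iff, conjBy_E _ (flagFix_le hg) (ha.conj (flagFix_le hg)).1.1]
  exact E_congr _ _ (by rw [flagFix_fix hg]) (by rw [flagFix_fix hg])

/-- Two root groups in one component fixed by a Sylow subgroup coincide. -/
theorem same_of_path (hp : 5 ≤ p) (hG : QuadPairUnipotent.Reduced G) {a y : End'} (ha : IsMin G a)
    (hy : IsMin G y) {S : Subgroup Aut} (hS : IsSyl p G S)
    (hSa : S ≤ Subgroup.normalizer (E G ha.1.1 : Set Aut))
    (hSy : S ≤ Subgroup.normalizer (E G hy.1.1 : Set Aut))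
    (hpath : Relation.ReflTransGen (FAdj (quadraticRootSubgroups G)) (E G ha.1.1) (E G hy.1.1)) :
    E G hy.1.1 = E G ha.1.1 := by
  refine QuadWeights20.fixed_eq hp hG ha hy ?_ hpath
  set N := G ⊓ Subgroup.normalizer (E G ha.1.1 : Set Aut)
  have hSN : IsSyl p N S := ⟨le_inf hS.1 hSa, le_antisymm (le_card_syl (le_inf hS.1 hSa) hS.isPGroup) (by
    rw [hS.2]
    refine Nat.pow_le_pow_right (Fact.out : p.Prime).pos ?_
    exact (Nat.factorization_le_iff_dvd Nat.card_pos.ne' Nat.card_pos.ne').2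
      (Subgroup.card_dvd_of_le inf_le_left) p)⟩
  exact (flagFix_le_syl hp ha le_rfl hSN (le_inf flagFix_le (flagFix_le_norm ha))).trans hSy

/-- When conjugation preserves components, every Sylow subgroup fixes a root group. -/
theorem exists_fixed_root (hp : 5 ≤ p) (hG : QuadPairUnipotent.Reduced G) {a : End'} (ha : IsMin G a)
    (hconj : ∀ g ∈ G, ∀ A ∈ quadraticRootSubgroups G,
      Relation.ReflTransGen (FAdj (quadraticRootSubgroups G)) A (conjBy A g))
    {S : Subgroup Aut} (hS : IsSyl p G S) :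
    ∃ (c : End') (hc : IsMin G c), S ≤ Subgroup.normalizer (E G hc.1.1 : Set Aut) := by
  set N := G ⊓ Subgroup.normalizer (E G ha.1.1 : Set Aut) with hN
  obtain ⟨Q, hQ, hFQ⟩ := exists_ge (p := p) (G := N) (U := flagFix G a)
    (le_inf flagFix_le (flagFix_le_norm ha)) (isPGroup_flagFix (by omega) a ha.1.1)
  obtain ⟨P, hP, hQP⟩ := exists_ge (hQ.1.trans inf_le_left) hQ.isPGroup
  have hQeq : Q = P := by
    by_contra hne
    haveI := hP.isPGroup.isNilpotent
    have hlt : Q.subgroupOf P < ⊤ := lt_top_iff_ne_top.2 fun e =>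
      hne (le_antisymm hQP (Subgroup.subgroupOf_eq_top.1 e))
    obtain ⟨⟨x, hxP⟩, hx1, hx2⟩ := SetLike.exists_of_lt (Group.normalizerCondition_of_isNilpotent _ hlt)
    apply hx2
    show x ∈ Q
    have hxG : x ∈ G := hP.1 hxP
    have hxQ : ∀ q ∈ Q, x⁻¹ * q * x ∈ Q := by
      intro q hq
      have := CoprimeAction.conj_mem' hx1 (show (⟨q, hQP hq⟩ : P) ∈ Q.subgroupOf P from hq)
      exact this
    have hEx : conjBy (E G ha.1.1) x = E G (ha.conj hxG).1.1 := conjBy_E _ hxG _
    have hfix : E G (ha.conj hxG).1.1 = E G ha.1.1 := by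
      refine QuadWeights20.fixed_eq hp hG ha (ha.conj hxG) (fun f hf => ?_)
        (hEx ▸ hconj x hxG _ (mem_roots.2 ⟨a, ha, rfl⟩))
      rw [← RankOne.conjBy_eq_self_iff, ← hEx, RankOne.conjBy_mul]
      have h1 : conjBy (E G ha.1.1) (x⁻¹ * f * x) = E G ha.1.1 :=
        RankOne.conjBy_eq_self_iff.2 (hQ.1 (hxQ f (hFQ hf))).2
      conv_rhs => rw [← h1, RankOne.conjBy_mul]
      congr 1
      group
    have hxN : x ∈ N := ⟨hxG, RankOne.conjBy_eq_self_iff.1 (hEx.trans hfix)⟩
    have hsup : (Q ⊔ Subgroup.zpowers x : Subgroup Aut) ≤ P := sup_le hQP (Subgroup.zpowers_le.2 hxP)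
    rw [hQ.eq_of_le (sup_le hQ.1 (Subgroup.zpowers_le.2 hxN)) (hP.isPGroup.to_le hsup) le_sup_left]
    exact Subgroup.mem_sup_right (Subgroup.mem_zpowers x)
  subst hQeq
  obtain ⟨g, hg, -, rfl⟩ := (Coact.bot G).syl_conj hP (bot_le) hS bot_le
  refine ⟨cj g a, ha.conj hg, ?_⟩
  rw [← conjBy_E ha.1.1 hg]
  rintro _ ⟨z, hz, rfl⟩
  rw [← RankOne.conjBy_eq_self_iff, RankOne.conjBy_mul]
  show conjBy (E G ha.1.1) (g * z * g⁻¹ * g) = _
  rw [inv_mul_cancel_right, ← RankOne.conjBy_mul, RankOne.conjBy_eq_self_iff.2 (hQ.1 hz).2]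

/-- The fixer of an endomorphism. -/
def fixer (m : End') : Subgroup Aut where
  carrier := {g | cj g m = m}
  one_mem' := by simp [cj]
  mul_mem' := fun {g g'} h h' => by
    show cj (g * g') m = m
    rw [← cj_comp, h', h]
  inv_mem' := fun {g} h => by
    show cj g⁻¹ m = m
    conv_lhs => rw [← (h : cj g m = m), cj_inv_cancel]

theorem mem_fixer {g : Aut} {m : End'} : g ∈ fixer m ↔ nl g * m = m * nl g := by
  show cj g m = m ↔ _
  rw [nl, sub_mul, one_mul, mul_sub, mul_one, sub_left_inj, cj, Units.mul_inv_eq_iff_eq_mul]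

theorem diff_conj {R : Type*} [Ring R] (v x : R) :
    (1 + v) * x * (1 - v) - (1 - v) * x * (1 + v) = (v * x - x * v) + (v * x - x * v) := by noncomm_ring

theorem der_step {R : Type*} [Ring R] (v z w : R) :
    v * (w * z) - w * z * v = (v * w - w * v) * z + w * (v * z - z * v) := by noncomm_ring

/-- A quadratic element normalizing a root group centralizes it. -/
theorem fix_cls (hp : 5 ≤ p) (hG : QuadPairUnipotent.Reduced G) {a : End'} (ha : IsMin G a) {u : Aut}
    (hu : u ∈ G) (hq : nl u * nl u = 0) (hN : u ∈ Subgroup.normalizer (E G ha.1.1 : Set Aut)) :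
    ∀ m ∈ cls G ha.1.1, cj u m = m := by
  have hk2 := QuadDual20.two_ne hp
  have hk3 := QuadDual20.card_ne hp
  rcases subsingleton_or_nontrivial V with hV | hV
  · exact fun m _ => LinearMap.ext fun x => Subsingleton.elim _ _
  -- a fixed element of the class
  obtain ⟨a', ha'c, ha'0, hua'⟩ : ∃ a' ∈ cls G ha.1.1, a' ≠ 0 ∧ cj u a' = a' := by
    let Φ : Module.End (ZMod p) End' :=
      { toFun := cj u
        map_add' := cj_add u
        map_smul' := cj_smul u }
    haveI : Nontrivial (Module.End (ZMod p) End') := inferInstance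
    haveI : CharP (Module.End (ZMod p) End') p :=
      charP_of_injective_algebraMap (algebraMap (ZMod p) (Module.End (ZMod p) End')).injective p
    have hΦ : ∀ (i : ℕ) (m : End'), (Φ ^ i) m = cj (u ^ i) m := by
      intro i
      induction i with
      | zero => intro m; simp [cj]
      | succ i ih =>
        intro m
        rw [pow_succ, Module.End.mul_apply, ih, pow_succ, ← cj_comp]
        rfl
    have hΦp : Φ ^ p = 1 := LinearMap.ext fun m => by
      rw [hΦ, pow_eq_one hq]; simp [cj]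
    have hLp : (Φ - 1) ^ p = 0 := by
      rw [sub_pow_char_of_commute (p := p) (Commute.one_right Φ), hΦp, one_pow, sub_self]
    have hmem : ∀ i : ℕ, ((Φ - 1 : Module.End (ZMod p) End') ^ i) a ∈ cls G ha.1.1 := by
      intro i
      induction i with
      | zero => exact self_mem_cls ha.1
      | succ i ih =>
        rw [pow_succ', Module.End.mul_apply]
        exact sub_mem (cls_of_normalizes ha hN ih) ih
    classical
    have hex : ∃ i : ℕ, ((Φ - 1 : Module.End (ZMod p) End') ^ i) a = 0 := ⟨p, by rw [hLp]; rfl⟩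
    obtain ⟨i, hi⟩ : ∃ i, Nat.find hex = i + 1 := by
      refine Nat.exists_eq_succ_of_ne_zero fun e => ha.2.1 ?_
      have := Nat.find_spec hex
      rwa [e, pow_zero] at this
    refine ⟨_, hmem i, Nat.find_min hex (by omega), ?_⟩
    have := Nat.find_spec hex
    rw [hi, pow_succ', Module.End.mul_apply] at this
    exact sub_eq_zero.1 this
  have ha'm : IsMin G a' := (cls_spaces ha ha'c ha'0).1
  obtain ⟨b', hb'm, hd⟩ := QuadDual20.min_dual hp hG ha'm
  -- split off a unipotent part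
  obtain ⟨f, hf, hfe⟩ := QuadDual20.dual_conj5 hp hd (hua' ▸ dual_cj hd u) ha'm.1 hb'm.1
    (Lie.conj hb'm.1 hu)
  set u₀ := f⁻¹ * u with hu₀
  have h0a : u₀ ∈ fixer a' := by
    show cj u₀ a' = a'
    rw [hu₀, ← cj_comp, hua', flagFix_fix (inv_mem hf)]
  have h0b : u₀ ∈ fixer b' := by
    show cj u₀ b' = b'
    rw [hu₀, ← cj_comp, ← hfe, cj_inv_cancel]
  obtain ⟨y, hy⟩ : ∃ y, y = nl u₀ := ⟨_, rfl⟩
  have ya : y * a' = a' * y := hy ▸ mem_fixer.1 h0a
  have yb : y * b' = b' * y := hy ▸ mem_fixer.1 h0b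
  have hffix : ∀ m ∈ cls G ha'm.1.1, cj f m = m := by
    intro m hm
    show f ∈ fixer m
    rw [mem_fixer]
    have h1 : nl f * m = 0 := LinearMap.ext fun v => by
      obtain ⟨w, hw⟩ := hm.2.1 ⟨v, rfl⟩
      rw [Module.End.mul_apply, ← hw]
      exact LinearMap.congr_fun hf.2.2.1 w
    have h2 : m * nl f = 0 := LinearMap.ext fun v =>
      LinearMap.mem_ker.1 (hm.2.2 (LinearMap.mem_ker.2 (LinearMap.congr_fun hf.2.1 v)))
    rw [h1, h2]
  have hEa' : E G ha'm.1.1 = E G ha.1.1 := E_eq_of_mem ha ha'c ha'0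
  have hN₀ : ∀ m ∈ cls G ha'm.1.1, cj u₀ m ∈ cls G ha'm.1.1 ∧ cj u₀⁻¹ m ∈ cls G ha'm.1.1 := by
    intro m hm
    have hu' : u ∈ Subgroup.normalizer (E G ha'm.1.1 : Set Aut) := hEa' ▸ hN
    have hf' := flagFix_le_norm ha'm hf
    exact ⟨cls_of_normalizes ha'm (mul_mem (inv_mem hf') hu') hm,
      cls_of_normalizes ha'm (inv_mem (mul_mem (inv_mem hf') hu')) hm⟩
  -- the field of the class
  set T := toRange b' with hT
  set J : AddSubgroup (Module.End (ZMod p) (LinearMap.range b')) :=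
    (cls G ha'm.1.1).toAddSubgroup.map T with hJdef
  have hJ : JordanDivisionFinite.JDiv J := by
    refine ⟨⟨a', self_mem_cls ha'm.1, LinearMap.ext fun z => Subtype.ext ?_⟩, ?_, ?_⟩
    · obtain ⟨w, hw⟩ := z.2
      show b' (a' (z : V)) = (z : V)
      rw [← hw]
      exact LinearMap.congr_fun hd.bab w
    · rintro _ ⟨x, hx, rfl⟩ _ ⟨w, hw, rfl⟩
      refine ⟨x * b' * w * b' * x, ?_, ?_⟩
      · have hw' : b' * w * b' ∈ cls G hb'm.1.1 :=
          sandwich_cls hk2 hk3 hd.symm hb'm ha'm (self_mem_cls hb'm.1) hw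
        have := sandwich_cls hk2 hk3 hd ha'm hb'm hx hw'
        rwa [show x * (b' * w * b') * x = x * b' * w * b' * x by noncomm_ring] at this
      · rw [toRange_mul, toRange_mul]
    · rintro _ ⟨x, hx, rfl⟩ hne
      have hinj := toRange_inj hd ha'm hb'm hx fun e => hne (by rw [e, map_zero])
      exact (Module.End.isUnit_iff _).2 ⟨hinj, LinearMap.surjective_of_injective hinj⟩
  haveI : Finite (Module.End (ZMod p) (LinearMap.range b')) := Finite.of_injective _ DFunLike.coe_injective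
  obtain ⟨-, -, hc⟩ := JordanDivisionFinite.JDiv.field hJ
  set ν := T (a' * y) with hν
  have hleft : ∀ x ∈ cls G ha'm.1.1, ν * T x = T (y * x) := by
    intro x hx
    rw [hν, toRange_mul]
    congr 1
    rw [← ya, mul_assoc, mul_assoc, ← mul_assoc a' b' x, hd.left_mul hx.2.1]
  have hright : ∀ x ∈ cls G ha'm.1.1, T x * ν = T (x * y) := by
    intro x hx
    rw [hν, toRange_mul]
    congr 1
    rw [← mul_assoc, mul_assoc x b' a', hd.right_mul hx.2.2]
  have hyy : b' * a' * y * y = 0 := by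
    have gq : b' * a' * nl u = b' * a' * y := by
      have hgf : b' * a' * nl f = 0 := by rw [mul_assoc, hf.2.1, mul_zero]
      have e : (u : End') = (f : End') * (u₀ : End') := by
        rw [← Units.val_mul, hu₀, mul_inv_cancel_left]
      have : nl u = nl f + y + nl f * y := by
        rw [hy, nl, nl, nl, e]; noncomm_ring
      rw [this, mul_add, mul_add, ← mul_assoc _ (nl f) y, hgf, zero_mul, zero_add, add_zero]
    calc b' * a' * y * y = y * (b' * a' * y) := by
          rw [← mul_assoc y (b' * a') y, ← mul_assoc y b' a', yb, mul_assoc b' y a', ya, ← mul_assoc b' a' y]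
      _ = y * (b' * a' * nl u) := by rw [gq]
      _ = b' * a' * y * nl u := by
          rw [← mul_assoc y (b' * a') _, ← mul_assoc y b' a', yb, mul_assoc b' y a', ya, ← mul_assoc b' a' y]
      _ = b' * a' * (nl u * nl u) := by rw [← gq, mul_assoc]
      _ = 0 := by rw [hq, mul_zero]
  have hνν : ν * ν = 0 := by
    rw [hν, toRange_mul]
    have h1 : a' * y * b' * (a' * y) = a' * (y * y) := by
      calc a' * y * b' * (a' * y) = a' * (y * b') * a' * y := by noncomm_ring
        _ = a' * b' * (y * a') * y := by rw [yb]; noncomm_ring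
        _ = a' * b' * a' * (y * y) := by rw [ya]; noncomm_ring
        _ = a' * (y * y) := by rw [hd.aba]
    rw [h1]
    refine LinearMap.ext fun z => Subtype.ext ?_
    show (b' * (a' * (y * y))) (z : V) = 0
    rw [show b' * (a' * (y * y)) = b' * a' * y * y by noncomm_ring, hyy]
    rfl
  intro m hm
  have hm' : m ∈ cls G ha'm.1.1 := (cls_congr ha ha'c ha'0).2 hm
  obtain ⟨h1, h2⟩ := hN₀ m hm'
  set x := T m with hx
  have conjid : ∀ (z : Aut) (k : End'), (z : End') * k = cj z k * (z : End') := fun z k => by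
    rw [cj, mul_assoc _ _ (z : End'), Units.inv_mul, mul_one]
  have e1 : (1 + ν) * x = T (cj u₀ m) * (1 + ν) := by
    rw [add_mul, one_mul, mul_add, mul_one, hleft m hm', hright _ h1, ← map_add, ← map_add]
    congr 1
    have := conjid u₀ m
    rw [show (u₀ : End') = 1 + y by rw [hy, nl, add_sub_cancel], add_mul, one_mul, mul_add, mul_one] at this
    exact this
  have e2 : (1 + ν) * T (cj u₀⁻¹ m) = x * (1 + ν) := by
    rw [add_mul, one_mul, mul_add, mul_one, hleft _ h2, hright _ hm', ← map_add, ← map_add]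
    congr 1
    have := conjid u₀ (cj u₀⁻¹ m)
    rw [cj_comp, mul_inv_cancel, show cj 1 m = m by simp [cj],
      show (u₀ : End') = 1 + y by rw [hy, nl, add_sub_cancel], add_mul, one_mul, mul_add, mul_one] at this
    exact this
  have inv1 : (1 + ν) * (1 - ν) = 1 := by
    rw [add_mul, one_mul, mul_sub, mul_one, hνν, sub_zero, sub_add_cancel]
  have inv2 : (1 - ν) * (1 + ν) = 1 := by
    rw [sub_mul, one_mul, mul_add, mul_one, hνν, add_zero, add_sub_cancel_right]
  have e1' : T (cj u₀ m) = (1 + ν) * x * (1 - ν) := by rw [e1, mul_assoc, inv1, mul_one]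
  have e2' : T (cj u₀⁻¹ m) = (1 - ν) * x * (1 + ν) := by
    rw [mul_assoc, ← e2, ← mul_assoc, inv2, one_mul]
  have hxJ : x ∈ J := ⟨m, hm', rfl⟩
  -- the derivation kills `p`-th powers
  have hder : ∀ z ∈ J, (ν * z - z * ν) ∈ J → ν * z ^ p = z ^ p * ν := by
    intro z hz hzC
    have hcomm := hc z hz _ hzC
    have key : ∀ n : ℕ, ν * z ^ (n + 1) - z ^ (n + 1) * ν = (n + 1) • (z ^ n * (ν * z - z * ν)) := by
      intro n
      induction n with
      | zero => simp
      | succ n ih =>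
        calc ν * z ^ (n + 1 + 1) - z ^ (n + 1 + 1) * ν
            = (ν * z ^ (n + 1) - z ^ (n + 1) * ν) * z + z ^ (n + 1) * (ν * z - z * ν) := by
              rw [pow_succ z (n + 1)]; exact der_step ν z (z ^ (n + 1))
          _ = _ := by
              rw [ih, smul_mul_assoc, mul_assoc, ← hcomm, ← mul_assoc, ← pow_succ, ← succ_nsmul]
    obtain ⟨n, hn⟩ : ∃ n, p = n + 1 := ⟨p - 1, by omega⟩
    have := key n
    rw [← hn, ← Nat.cast_smul_eq_nsmul (ZMod p), ZMod.natCast_self, zero_smul] at this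
    exact sub_eq_zero.1 this
  have hroot : ∃ z ∈ J, z ^ p = x := by
    let F : J → J := fun z => ⟨(z : Module.End (ZMod p) (LinearMap.range b')) ^ p, hJ.pow_mem z.2 p⟩
    have hinj : Function.Injective F := by
      intro z w hzw
      by_contra hne
      have hu := hJ.unit _ (sub_mem z.2 w.2) (sub_ne_zero.2 fun e => hne (Subtype.ext e))
      haveI : Nontrivial (Module.End (ZMod p) (LinearMap.range b')) :=
        ⟨⟨(z : Module.End (ZMod p) (LinearMap.range b')), w, fun e => hne (Subtype.ext e)⟩⟩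
      haveI : CharP (Module.End (ZMod p) (LinearMap.range b')) p :=
        charP_of_injective_algebraMap
          (algebraMap (ZMod p) (Module.End (ZMod p) (LinearMap.range b'))).injective p
      have : ((z : Module.End (ZMod p) (LinearMap.range b')) - w) ^ p = 0 := by
        rw [sub_pow_char_of_commute (p := p) (hc _ z.2 _ w.2)]
        exact sub_eq_zero.2 (congrArg Subtype.val hzw)
      exact (hu.pow p).ne_zero this
    obtain ⟨z, hz⟩ := (Finite.injective_iff_surjective.1 hinj) ⟨x, hxJ⟩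
    exact ⟨z, z.2, congrArg Subtype.val hz⟩
  have hνJ : ∀ z ∈ J, ν * z - z * ν ∈ J := by
    rintro _ ⟨k, hk, rfl⟩
    obtain ⟨g1, g2⟩ := hN₀ k hk
    have e1 : (1 + ν) * T k = T (cj u₀ k) * (1 + ν) := by
      rw [add_mul, one_mul, mul_add, mul_one, hleft k hk, hright _ g1, ← map_add, ← map_add]
      congr 1
      have := conjid u₀ k
      rw [show (u₀ : End') = 1 + y by rw [hy, nl, add_sub_cancel], add_mul, one_mul, mul_add, mul_one] at this
      exact this
    have e2 : (1 + ν) * T (cj u₀⁻¹ k) = T k * (1 + ν) := by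
      rw [add_mul, one_mul, mul_add, mul_one, hleft _ g2, hright _ hk, ← map_add, ← map_add]
      congr 1
      have := conjid u₀ (cj u₀⁻¹ k)
      rw [cj_comp, mul_inv_cancel, show cj 1 k = k by simp [cj],
        show (u₀ : End') = 1 + y by rw [hy, nl, add_sub_cancel], add_mul, one_mul, mul_add, mul_one] at this
      exact this
    have e1' : T (cj u₀ k) = (1 + ν) * T k * (1 - ν) := by rw [e1, mul_assoc, inv1, mul_one]
    have e2' : T (cj u₀⁻¹ k) = (1 - ν) * T k * (1 + ν) := by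
      rw [mul_assoc, ← e2, ← mul_assoc, inv2, one_mul]
    have h3 : T (cj u₀ k) - T (cj u₀⁻¹ k) ∈ J := sub_mem ⟨_, g1, rfl⟩ ⟨_, g2, rfl⟩
    have h4 : ((2 : ZMod p)⁻¹.val) • (T (cj u₀ k) - T (cj u₀⁻¹ k)) ∈ J := J.nsmul_mem h3 _
    rw [← Nat.cast_smul_eq_nsmul (ZMod p), ZMod.natCast_zmod_val, e1', e2',
      diff_conj ν (T k),
      ← two_smul (ZMod p), smul_smul, inv_mul_cancel₀ hk2, one_smul] at h4
    exact h4
  obtain ⟨z, hz, hzx⟩ := hroot
  have hxν : ν * x = x * ν := hzx ▸ hder z hz (hνJ z hz)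
  have hT0 : T (cj u₀ m) = x := by
    have : (1 + ν) * x = x * (1 + ν) := by rw [add_mul, one_mul, mul_add, mul_one, hxν]
    rw [e1', this, mul_assoc, inv1, mul_one]
  have hfix0 : cj u₀ m = m := by
    by_contra hne
    have hd0 : cj u₀ m - m ≠ 0 := sub_ne_zero.2 hne
    have hinj := toRange_inj hd ha'm hb'm (sub_mem h1 hm') hd0
    have hzero : T (cj u₀ m - m) = 0 := by rw [map_sub, hT0, hx, sub_self]
    apply hb'm.2.1
    refine LinearMap.ext fun v => ?_
    have h5 := @hinj ⟨b' v, v, rfl⟩ 0 (by rw [← hT, hzero]; rfl)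
    exact congrArg Subtype.val h5
  have e : u = f * u₀ := by rw [hu₀, mul_inv_cancel_left]
  rw [e, ← cj_comp, hfix0, hffix m hm']

end roots

/-- A dual commuting with a set of commuting pairs. -/
theorem exists_dual_fixed (hp : 5 ≤ p) {a b : Aut → End'} {R : Set Aut}
    (hd : ∀ x ∈ R, Dual (a x) (b x)) (ha : ∀ x ∈ R, a x ∈ Lie G) (hb : ∀ x ∈ R, b x ∈ Lie G)
    (hor : ∀ x ∈ R, ∀ y ∈ R, (a x = a y ∧ b x = b y) ∨
      (a x * a y = a y * a x ∧ a x * b y = b y * a x ∧ b x * a y = a y * b x ∧ b x * b y = b y * b x))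
    {q : End'} (hq : q ∈ Lie G) (hqd : ∃ c ∈ Lie G, Dual q c)
    (hqc : ∀ x ∈ R, a x * q = q * a x ∧ b x * q = q * b x) :
    ∃ c ∈ Lie G, Dual q c ∧ ∀ x ∈ R, a x * c = c * a x ∧ b x * c = c * b x := by
  classical
  suffices ∀ T : Finset Aut, (↑T ⊆ R) →
      ∃ c ∈ Lie G, Dual q c ∧ ∀ x ∈ T, a x * c = c * a x ∧ b x * c = c * b x by
    obtain ⟨c, h1, h2, h3⟩ := this (Set.toFinite R).toFinset (by simp)
    exact ⟨c, h1, h2, fun x hx => h3 x ((Set.toFinite R).mem_toFinset.2 hx)⟩
  intro T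
  induction T using Finset.induction_on with
  | empty => intro _; obtain ⟨c, h1, h2⟩ := hqd; exact ⟨c, h1, h2, by simp⟩
  | @insert z T hz ih =>
    intro hsub
    rw [Finset.coe_insert, Set.insert_subset_iff] at hsub
    obtain ⟨hzR, hTR⟩ := hsub
    obtain ⟨c, hcL, hcd, hc⟩ := ih hTR
    by_cases hsame : ∃ y ∈ T, a z = a y ∧ b z = b y
    · obtain ⟨y, hy, e1, e2⟩ := hsame
      refine ⟨c, hcL, hcd, fun x hx => ?_⟩
      rcases Finset.mem_insert.1 hx with rfl | hx
      · rw [e1, e2]; exact hc y hy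
      · exact hc x hx
    push Not at hsame
    set H := G ⊓ ⨅ y ∈ T, fixer (a y) ⊓ fixer (b y) with hH
    have hmem : ∀ {n : End'}, n ∈ Lie G → (∀ y ∈ T, a y * n = n * a y ∧ b y * n = n * b y) → n ∈ Lie H := by
      intro n hn hcomm
      refine QuadDual20.lie_of_mem hn.1 (Subgroup.mem_inf.2 ⟨Lie.mem hn, ?_⟩)
      simp only [Subgroup.mem_iInf, Subgroup.mem_inf]
      exact fun y hy => ⟨mem_fixer.2 (by rw [nl_unitOf]; exact (hcomm y hy).1.symm),
        mem_fixer.2 (by rw [nl_unitOf]; exact (hcomm y hy).2.symm)⟩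
    have hcomm : ∀ y ∈ T, a z * a y = a y * a z ∧ a z * b y = b y * a z ∧ b z * a y = a y * b z ∧
        b z * b y = b y * b z := fun y hy =>
      (hor z hzR y (hTR hy)).resolve_left fun h => hsame y hy h.1 h.2
    obtain ⟨c', hc', hd', h1, h2⟩ := QuadWeights20.dual_commute (G := H) hp (hd z hzR) (N := H)
      (hmem (ha z hzR) fun y hy => ⟨((hcomm y hy).1).symm, ((hcomm y hy).2.1).symm⟩)
      (hmem (hb z hzR) fun y hy => ⟨((hcomm y hy).2.2.1).symm, ((hcomm y hy).2.2.2).symm⟩)
      Subgroup.le_normalizer (hmem hq fun y hy => hqc y (hTR hy)) (hmem hcL hc) hcd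
      (hqc z hzR).1 (hqc z hzR).2
    refine ⟨c', QuadPairProduct.lie_mono inf_le_left hc', hd', fun x hx => ?_⟩
    rcases Finset.mem_insert.1 hx with rfl | hx
    · exact ⟨h1, h2⟩
    · have h3 := (Subgroup.mem_inf.1 (Lie.mem hc')).2
      simp only [Subgroup.mem_iInf, Subgroup.mem_inf] at h3
      obtain ⟨k1, k2⟩ := h3 x hx
      rw [mem_fixer, nl_unitOf] at k1 k2
      exact ⟨k1.symm, k2.symm⟩

/-- **An element of the meet of the invariant Sylow subgroups with a dual is trivial.** -/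
theorem eq_one (hp : 5 ≤ p) {R : Subgroup Aut} (h : Coact G R) (hodd : ∀ x ∈ R, Odd (orderOf x)) {u : Aut}
    (hu : InMeet p G R u) (hq : nl u * nl u = 0) (hqd : ∃ b ∈ Lie G, Dual (nl u) b) : u = 1 := by
  suffices ∀ (n : ℕ) (W : Type v) [AddCommGroup W] [Module (ZMod p) W] [Finite W],
      Module.finrank (ZMod p) W ≤ n → ∀ (m : ℕ) (G R : Subgroup (LinearMap.GeneralLinearGroup (ZMod p) W)),
      Nat.card G ≤ m → Coact G R → (∀ x ∈ R, Odd (orderOf x)) →
      ∀ u, InMeet p G R u → nl u * nl u = 0 → (∃ b ∈ Lie G, Dual (nl u) b) → u = 1 from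
    this _ V le_rfl _ G R le_rfl h hodd u hu hq hqd
  intro n
  induction n using Nat.strong_induction_on with
  | _ n ihn =>
  intro V _ _ _ hn m
  induction m using Nat.strong_induction_on with
  | _ m ihm =>
  intro G R hm h hodd u hu hq ⟨b, hbL, hd⟩
  by_contra hu1
  have hk2 := QuadDual20.two_ne hp
  have hk3 := QuadDual20.card_ne hp
  have hq0 : nl u ≠ 0 := fun e => hu1 (nl_eq_zero.1 e)
  -- descend to subgroups
  have sub : ∀ D : Subgroup (LinearMap.GeneralLinearGroup (ZMod p) V), D < G →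
      R ≤ Subgroup.normalizer (D : Set (LinearMap.GeneralLinearGroup (ZMod p) V)) → u ∈ D →
      ∀ c ∈ Lie D, Dual (nl u) c → False := by
    intro D hD hDR huD c hc hdc
    have hlt : Nat.card D < Nat.card G := (Subgroup.card_le_of_le hD.le).lt_of_ne fun e =>
      hD.ne (Subgroup.eq_of_le_of_card_ge hD.le e.ge)
    exact hu1 (ihm _ (lt_of_lt_of_le hlt hm) D R le_rfl (h.mono hD.le hDR) hodd u
      (hu.mono h hD.le huD) hq ⟨c, hc, hdc⟩)
  by_cases hred : QuadPairUnipotent.Reduced G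
  swap
  · obtain ⟨W, hW0, hW1, hGW, hRW⟩ := exists_subspace h.norm hred
    set H := stab W
    have hoddH : ∀ {Y : Type v} [Group Y] (φ : H →* Y), ∀ x ∈ (R.subgroupOf H).map φ, Odd (orderOf x) := by
      intro Y _ φ x hx
      obtain ⟨r, hr, rfl⟩ := hx
      refine Odd.of_dvd_nat (hodd _ hr) ((orderOf_map_dvd φ r).trans ?_)
      rw [← Subgroup.orderOf_coe]
      exact dvd_rfl
    set uH : H := ⟨u, hGW hu.1⟩
    set bH : H := ⟨unitOf b hbL.1, hGW (Lie.mem hbL)⟩
    have hbe : nl bH.1 = b := nl_unitOf b hbL.1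
    by_cases hres : ∀ w ∈ W, nl u w = 0
    · -- the quotient
      haveI : Finite (V ⧸ W) := Finite.of_surjective _ (Submodule.mkQ_surjective W)
      have hrk : Module.finrank (ZMod p) (V ⧸ W) < n := by
        have h1 := Submodule.finrank_quotient_add_finrank W
        have h2 : 0 < Module.finrank (ZMod p) W := by
          rw [Module.finrank_pos_iff_exists_ne_zero]
          obtain ⟨w, hw, hw0⟩ := W.exists_mem_ne_zero_of_ne_bot hW0
          exact ⟨⟨w, hw⟩, fun e => hw0 (congrArg Subtype.val e)⟩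
        omega
      have hlie : nl (quo W bH) ∈ Lie ((G.subgroupOf H).map (quo W)) :=
        QuadDual20.lie_nl ⟨bH, Lie.mem hbL, rfl⟩ (Submodule.linearMap_qext _ (LinearMap.ext fun v => by
          show nl (quo W bH) (nl (quo W bH) (Submodule.Quotient.mk v)) = 0
          rw [quo_nl, quo_nl, hbe, ← Module.End.mul_apply, hbL.1]; rfl))
      have hu' := ihn _ hrk (V ⧸ W) le_rfl _ ((G.subgroupOf H).map (quo W)) ((R.subgroupOf H).map (quo W))
        le_rfl ((h.subgroupOf hGW hRW).map _) (hoddH _) _ ((hu.subgroupOf hGW hRW).map (h.subgroupOf hGW hRW) _)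
        (Submodule.linearMap_qext _ (LinearMap.ext fun v => by
          show nl (quo W uH) (nl (quo W uH) (Submodule.Quotient.mk v)) = 0
          rw [quo_nl, quo_nl, ← Module.End.mul_apply, hq]; rfl))
        ⟨_, hlie, ⟨Submodule.linearMap_qext _ (LinearMap.ext fun v => by
          show nl (quo W uH) (nl (quo W uH) (Submodule.Quotient.mk v)) = 0
          rw [quo_nl, quo_nl, ← Module.End.mul_apply, hq]; rfl),
          hlie.1, Submodule.linearMap_qext _ (LinearMap.ext fun v => by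
          show nl (quo W uH) (nl (quo W bH) (nl (quo W uH) (Submodule.Quotient.mk v))) =
            nl (quo W uH) (Submodule.Quotient.mk v)
          rw [quo_nl, quo_nl, quo_nl, hbe]
          exact congrArg _ (LinearMap.congr_fun hd.aba v)),
          Submodule.linearMap_qext _ (LinearMap.ext fun v => by
          show nl (quo W bH) (nl (quo W uH) (nl (quo W bH) (Submodule.Quotient.mk v))) =
            nl (quo W bH) (Submodule.Quotient.mk v)
          rw [quo_nl, quo_nl, quo_nl, hbe]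
          exact congrArg _ (LinearMap.congr_fun hd.bab v))⟩⟩
      have hin : ∀ v, nl u v ∈ W := by
        intro v
        have h1 : nl (quo W uH) (Submodule.Quotient.mk v) = 0 := by
          rw [show quo W uH = 1 from hu']; simp [nl]
        rw [quo_nl] at h1
        exact (Submodule.Quotient.mk_eq_zero W).1 h1
      have hbW : ∀ w ∈ W, b w ∈ W := by
        intro w hw
        have h1 := (bH.2 w).2 hw
        rw [show ((bH.1 : LinearMap.GeneralLinearGroup (ZMod p) V) : Module.End (ZMod p) V) = 1 + b from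
          unitOf_coe b hbL.1, LinearMap.add_apply, Module.End.one_apply] at h1
        simpa using sub_mem h1 hw
      refine hq0 (LinearMap.ext fun v => ?_)
      rw [← hd.aba]
      exact hres _ (hbW _ (hin v))
    · -- the subspace
      have hrk : Module.finrank (ZMod p) W < n := (Submodule.finrank_lt hW1).trans_le hn
      have hlie : nl (res W bH) ∈ Lie ((G.subgroupOf H).map (res W)) :=
        QuadDual20.lie_nl ⟨bH, Lie.mem hbL, rfl⟩ (LinearMap.ext fun w => Subtype.ext (by
          show ((nl (res W bH)) ((nl (res W bH)) w) : V) = 0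
          rw [res_nl, res_nl, hbe, ← Module.End.mul_apply, hbL.1]; rfl))
      have hsq : nl (res W uH) * nl (res W uH) = 0 := LinearMap.ext fun w => Subtype.ext (by
        show ((nl (res W uH)) ((nl (res W uH)) w) : V) = 0
        rw [res_nl, res_nl, ← Module.End.mul_apply, hq]; rfl)
      have hu' := ihn _ hrk W le_rfl _ ((G.subgroupOf H).map (res W)) ((R.subgroupOf H).map (res W))
        le_rfl ((h.subgroupOf hGW hRW).map _) (hoddH _) _ ((hu.subgroupOf hGW hRW).map (h.subgroupOf hGW hRW) _)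
        hsq ⟨_, hlie, ⟨hsq, hlie.1, LinearMap.ext fun w => Subtype.ext (by
          show ((nl (res W uH)) ((nl (res W bH)) ((nl (res W uH)) w)) : V) = ((nl (res W uH)) w : V)
          rw [res_nl, res_nl, res_nl, hbe]
          exact LinearMap.congr_fun hd.aba _), LinearMap.ext fun w => Subtype.ext (by
          show ((nl (res W bH)) ((nl (res W uH)) ((nl (res W bH)) w)) : V) = ((nl (res W bH)) w : V)
          rw [res_nl, res_nl, res_nl, hbe]
          exact LinearMap.congr_fun hd.bab _)⟩⟩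
      refine hres fun w hw => ?_
      have h1 := res_nl W uH ⟨w, hw⟩
      rw [show res W uH = 1 from hu'] at h1
      rw [← h1]
      simp [nl]
  -- the reduced case
  have hH := hyp hp hred
  have hqL : nl u ∈ Lie G := QuadDual20.lie_nl hu.1 hq
  obtain ⟨a₀, ha₀⟩ := QuadPairProduct.exists_min hqL hq0
  set K := QuadPairComponents.root0 G with hK
  set G₀ := K ⊔ (G ⊓ Subgroup.centralizer (K : Set (LinearMap.GeneralLinearGroup (ZMod p) V))) with hG₀
  have hKR : R ≤ Subgroup.normalizer (K : Set (LinearMap.GeneralLinearGroup (ZMod p) V)) := fun x hx => by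
    refine RankOne.conjBy_eq_self_iff.1 (QuadPairComponents.conj_iSup_eq (K := R) (fun A hA y hy => ?_) hx)
    obtain ⟨c, hc, rfl⟩ := mem_roots.1 hA
    exact mem_roots.2 ⟨_, isMin_cj (h.norm hy) hc, conjBy_E' (h.norm hy) _ (isMin_cj (h.norm hy) hc).1.1⟩
  have hG₀G : G₀ = G := by
    by_contra hne
    have hlt : G₀ < G := lt_of_le_of_ne (sup_le QuadPairComponents.root0_le inf_le_left) hne
    have hmem : ∀ {c : Module.End (ZMod p) V}, c ∈ Lie G → c ∈ Lie G₀ := fun {c} hc =>
      QuadDual20.lie_of_mem hc.1 (QuadPairSplit.mem_product hk2 hk3 hred _ c hc rfl)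
    refine sub G₀ hlt (LocalBasics.le_normalizer_sup hKR
      (CoprimeAction.le_normalizer_inf h.norm (LocalBasics.le_normalizer_centralizer hKR))) ?_ b (hmem hbL) hd
    have := Lie.mem (hmem hqL)
    rwa [show unitOf (nl u) hq = u from Units.ext (by simp [nl])] at this
  have hconj : ∀ g ∈ G, ∀ A ∈ quadraticRootSubgroups G,
      Relation.ReflTransGen (FAdj (quadraticRootSubgroups G)) A (conjBy A g) := by
    intro g hg
    rw [← hG₀G, hG₀, Subgroup.sup_eq_closure] at hg
    suffices g ∈ G ∧ ∀ A ∈ quadraticRootSubgroups G,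
        Relation.ReflTransGen (FAdj (quadraticRootSubgroups G)) A (conjBy A g) from this.2
    induction hg using Subgroup.closure_induction with
    | mem x hx =>
      rcases hx with hx | hx
      · exact ⟨QuadPairComponents.root0_le hx, fun A hA => QuadPairComponents.conj_path hH hA hx⟩
      · refine ⟨hx.1, fun A hA => ?_⟩
        rw [RankOne.conjBy_eq_self_iff.2 (LocalBasics.centralizer_le_normalizer A
          (Subgroup.centralizer_le (QuadPairComponents.le_root0 hA) hx.2))]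
    | one => exact ⟨one_mem G, fun A hA => by rw [RankOne.conjBy_one]⟩
    | mul x y _ _ h1 h2 =>
      refine ⟨mul_mem h1.1 h2.1, fun A hA => ?_⟩
      rw [← RankOne.conjBy_mul]
      exact (h2.2 A hA).trans (h1.2 _ (QuadPairComponents.conj_root hA h2.1))
    | inv x _ h1 =>
      refine ⟨inv_mem h1.1, fun A hA => ?_⟩
      have := h1.2 _ (QuadPairComponents.conj_root hA (inv_mem h1.1))
      rw [RankOne.conjBy_conjBy_inv] at this
      exact RootSubConn.rfl_trans_symm _ this
  obtain ⟨S, hS, hSR⟩ := h.exists_inv (p := p)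
  have huS : u ∈ S := hu.2 S hS hSR
  obtain ⟨c₀, hc₀, hSc⟩ := exists_fixed_root hp hred ha₀ hconj hS
  -- the stabilizer in the operator group
  set B := R ⊓ Subgroup.normalizer (E G hc₀.1.1 : Set (LinearMap.GeneralLinearGroup (ZMod p) V))
  have hBG : B ≤ Subgroup.normalizer (G : Set (LinearMap.GeneralLinearGroup (ZMod p) V)) :=
    inf_le_left.trans h.norm
  haveI := h.solv
  have hBcop : (Nat.card B).Coprime (Nat.card G) := CoprimeAction.coprime_of_le_left inf_le_left h.cop
  obtain ⟨a, hac, ha0, hafix⟩ := exists_fixed_elem hk2 hk3 hc₀ (fun m hm => QuadDual20.min_dual hp hred hm)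
    hBG hBcop (fun x hx => hodd x hx.1) (CoprimeAction.isSolvable_of_le inf_le_left)
    (fun x hx => RankOne.conjBy_eq_self_iff.2 hx.2)
  have ha : IsMin G a := (cls_spaces hc₀ hac ha0).1
  obtain ⟨c₁, hc₁, hd₁⟩ := QuadDual20.min_dual hp hred ha
  obtain ⟨a', ha'L, hd₂, hbfix⟩ := QuadDual20.fixed_dual' hp hd₁ ha.1 hc₁.1 B hBG hafix
    (hBcop.coprime_dvd_right (by
      have hne : unitOf a ha.1.1 ≠ 1 := fun e => ha0 (by rw [← nl_unitOf a ha.1.1, nl_eq_zero.2 e])
      exact (dvd_of_eq (orderOf_eq_prime (pow_eq_one (u := unitOf a ha.1.1) (by rw [nl_unitOf]; exact ha.1.1)) hne).symm).trans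
        (Subgroup.orderOf_dvd_natCard G (Lie.mem ha.1))))
  have ha' : IsMin G a' := ha.of_rk_le ha'L
    (fun e => ha0 (by rw [← hd₂.aba, e, mul_zero, zero_mul])) (QuadWeights20.rk_dual_le hd₂)
  have hEa : E G ha.1.1 = E G hc₀.1.1 := E_eq_of_mem hc₀ hac ha0
  rw [← hEa] at hSc
  -- the translates
  have hxa : ∀ x ∈ R, IsMin G (cj x a) := fun x hx => isMin_cj (h.norm hx) ha
  have hxb : ∀ x ∈ R, IsMin G (cj x a') := fun x hx => isMin_cj (h.norm hx) ha'
  set Ea := fun x : LinearMap.GeneralLinearGroup (ZMod p) V => conjBy (E G ha.1.1) x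
  set Eb := fun x : LinearMap.GeneralLinearGroup (ZMod p) V => conjBy (E G ha'.1.1) x
  have hEax : ∀ x (hx : x ∈ R), Ea x = E G (hxa x hx).1.1 := fun x hx => conjBy_E' (h.norm hx) _ _
  have hEbx : ∀ x (hx : x ∈ R), Eb x = E G (hxb x hx).1.1 := fun x hx => conjBy_E' (h.norm hx) _ _
  have hrootA : ∀ x ∈ R, Ea x ∈ quadraticRootSubgroups G := fun x hx =>
    mem_roots.2 ⟨_, hxa x hx, hEax x hx⟩
  have hrootB : ∀ x ∈ R, Eb x ∈ quadraticRootSubgroups G := fun x hx =>
    mem_roots.2 ⟨_, hxb x hx, hEbx x hx⟩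
  have hSEa : ∀ x ∈ R, S ≤ Subgroup.normalizer (Ea x : Set (LinearMap.GeneralLinearGroup (ZMod p) V)) := by
    intro x hx s hs
    rw [← RankOne.conjBy_eq_self_iff]
    show conjBy (conjBy _ x) s = conjBy _ x
    have h1 := RankOne.conjBy_eq_self_iff.2 (hSc (CoprimeAction.conj_mem' (hSR hx) hs))
    conv_rhs => rw [← h1, RankOne.conjBy_mul]
    rw [RankOne.conjBy_mul]
    congr 1
    group
  have hadj : ∀ x ∈ R, Relation.ReflTransGen (FAdj (quadraticRootSubgroups G)) (Ea x) (Eb x) := by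
    intro x hx
    refine .single ⟨hrootA x hx, hrootB x hx, ?_⟩
    rw [hEax x hx, hEbx x hx]
    exact isRankOnePair (hxa x hx) (hxb x hx) hk2 hk3 (dual_cj hd₂ x).opp
  have hsame : ∀ x ∈ R, ∀ y ∈ R, Ea x = Ea y → cj x a = cj y a ∧ cj x a' = cj y a' := by
    intro x hx y hy he
    have hB : x⁻¹ * y ∈ B := by
      refine Subgroup.mem_inf.2 ⟨mul_mem (inv_mem hx) hy, ?_⟩
      rw [← hEa, ← RankOne.conjBy_eq_self_iff, ← RankOne.conjBy_mul]
      show conjBy (Ea y) x⁻¹ = _
      rw [← he]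
      show conjBy (conjBy _ x) x⁻¹ = _
      rw [RankOne.conjBy_mul, inv_mul_cancel, RankOne.conjBy_one]
    constructor
    · conv_lhs => rw [← hafix _ hB, cj_comp, mul_inv_cancel_left]
    · conv_lhs => rw [← hbfix _ hB, cj_comp, mul_inv_cancel_left]
  have hnp : ∀ x ∈ R, ∀ y ∈ R, Ea x ≠ Ea y →
      ¬ Relation.ReflTransGen (FAdj (quadraticRootSubgroups G)) (Ea x) (Ea y) := by
    intro x hx y hy hne hp'
    refine hne ?_
    rw [hEax x hx, hEax y hy] at hp' ⊢
    exact (same_of_path hp hred (hxa x hx) (hxa y hy) hS (hEax x hx ▸ hSEa x hx)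
      (hEax y hy ▸ hSEa y hy) hp').symm
  have hcomm4 : ∀ x ∈ R, ∀ y ∈ R, Ea x ≠ Ea y →
      ⁅Ea x, Ea y⁆ = ⊥ ∧ ⁅Ea x, Eb y⁆ = ⊥ ∧ ⁅Eb x, Ea y⁆ = ⊥ ∧ ⁅Eb x, Eb y⁆ = ⊥ := by
    intro x hx y hy hne
    have hs := fun {P Q} (h' : Relation.ReflTransGen (FAdj (quadraticRootSubgroups G)) P Q) =>
      RootSubConn.rfl_trans_symm _ h'
    refine ⟨QuadPairComponents.commute_of_no_path' hH (hrootA x hx) (hrootA y hy) (hnp x hx y hy hne),
      QuadPairComponents.commute_of_no_path' hH (hrootA x hx) (hrootB y hy) fun hp' =>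
        hnp x hx y hy hne (hp'.trans (hs (hadj y hy))),
      QuadPairComponents.commute_of_no_path' hH (hrootB x hx) (hrootA y hy) fun hp' =>
        hnp x hx y hy hne ((hadj x hx).trans hp'),
      QuadPairComponents.commute_of_no_path' hH (hrootB x hx) (hrootB y hy) fun hp' =>
        hnp x hx y hy hne (((hadj x hx).trans hp').trans (hs (hadj y hy)))⟩
  have tocomm : ∀ {c d : Module.End (ZMod p) V} (hc : IsMin G c) (hd' : IsMin G d),
      ⁅E G hc.1.1, E G hd'.1.1⁆ = ⊥ → c * d = d * c := by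
    intro c d hc hd' h0
    have := QuadPairCommute.nl_comm (RankOne.comm_of_commutator_eq_bot h0
      (unitOf_mem_E (self_mem_cls hc.1)) (unitOf_mem_E (self_mem_cls hd'.1)))
    rwa [nl_unitOf, nl_unitOf] at this
  have hor : ∀ x ∈ R, ∀ y ∈ R, (cj x a = cj y a ∧ cj x a' = cj y a') ∨
      (cj x a * cj y a = cj y a * cj x a ∧ cj x a * cj y a' = cj y a' * cj x a ∧
        cj x a' * cj y a = cj y a * cj x a' ∧ cj x a' * cj y a' = cj y a' * cj x a') := by
    intro x hx y hy
    by_cases he : Ea x = Ea y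
    · exact Or.inl (hsame x hx y hy he)
    obtain ⟨c1, c2, c3, c4⟩ := hcomm4 x hx y hy he
    rw [hEax x hx, hEax y hy] at c1
    rw [hEax x hx, hEbx y hy] at c2
    rw [hEbx x hx, hEax y hy] at c3
    rw [hEbx x hx, hEbx y hy] at c4
    exact Or.inr ⟨tocomm (hxa x hx) (hxa y hy) c1, tocomm (hxa x hx) (hxb y hy) c2,
      tocomm (hxb x hx) (hxa y hy) c3, tocomm (hxb x hx) (hxb y hy) c4⟩
  -- the element swapping the two families
  have hswap : ∃ c ∈ G, ∀ x ∈ R, conjBy (Ea x) c = Eb x := by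
    classical
    suffices ∀ T : Finset (LinearMap.GeneralLinearGroup (ZMod p) V), (∀ x ∈ T, x ∈ R) → ∃ c ∈ G, ∀ x ∈ R,
        ((∃ y ∈ T, Ea x = Ea y) → conjBy (Ea x) c = Eb x) ∧
        ((¬ ∃ y ∈ T, Ea x = Ea y) → conjBy (Ea x) c = Ea x) by
      obtain ⟨c, hc, hc'⟩ := this (Set.toFinite (R : Set _)).toFinset (fun x hx => (Set.toFinite _).mem_toFinset.1 hx)
      exact ⟨c, hc, fun x hx => (hc' x hx).1 ⟨x, (Set.toFinite _).mem_toFinset.2 hx, rfl⟩⟩
    intro T
    induction T using Finset.induction_on with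
    | empty => intro _; exact ⟨1, one_mem G, fun x _ => ⟨by simp, fun _ => RankOne.conjBy_one _⟩⟩
    | @insert z T hz ih =>
      intro hsub'
      have hsub : z ∈ R ∧ ∀ x ∈ T, x ∈ R :=
        ⟨hsub' z (Finset.mem_insert_self _ _), fun x hx => hsub' x (Finset.mem_insert_of_mem hx)⟩
      obtain ⟨c, hc, hcf⟩ := ih hsub.2
      by_cases hold : ∃ y ∈ T, Ea z = Ea y
      · refine ⟨c, hc, fun x hx => ?_⟩
        have hiff : (∃ y ∈ insert z T, Ea x = Ea y) ↔ ∃ y ∈ T, Ea x = Ea y := by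
          refine ⟨fun ⟨y, hy, e⟩ => ?_, fun ⟨y, hy, e⟩ => ⟨y, Finset.mem_insert_of_mem hy, e⟩⟩
          rcases Finset.mem_insert.1 hy with rfl | hy
          · obtain ⟨y', hy', e'⟩ := hold; exact ⟨y', hy', e.trans e'⟩
          · exact ⟨y, hy, e⟩
        rw [hiff]
        exact hcf x hx
      have hzR : z ∈ R := hsub.1
      have hdz := dual_cj hd₂ z
      set w := weyl hdz.symm with hw
      have hwG : w ∈ G := weyl_mem hdz.symm (hxb z hzR).1 (hxa z hzR).1
      have hwz : conjBy (Ea z) w = Eb z := by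
        rw [hEax z hzR, conjBy_E _ hwG ((hxa z hzR).conj hwG).1.1, hEbx z hzR]
        have e : cj w (cj z a) = -cj z a' := by
          rw [hw, cj_weyl hdz.symm (G := G) (n := cj z a) ⟨(hxa z hzR).1, le_rfl, le_rfl⟩, hdz.bab]
        exact E_congr _ _ (by rw [e, LinearMap.range_neg]) (by rw [e, LinearMap.ker_neg])
      have hwfix : ∀ {P : Subgroup (LinearMap.GeneralLinearGroup (ZMod p) V)}, ⁅Ea z, P⁆ = ⊥ → ⁅Eb z, P⁆ = ⊥ →
          conjBy P w = P := by
        intro P h1 h2
        refine RankOne.conjBy_eq_self_iff.2 (LocalBasics.centralizer_le_normalizer P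
          ((sup_le (Subgroup.commutator_eq_bot_iff_le_centralizer.1 h1)
            (Subgroup.commutator_eq_bot_iff_le_centralizer.1 h2) : Ea z ⊔ Eb z ≤ _) ?_))
        refine rep_mem hdz.symm ?_ ?_ _
        · refine QuadDual20.lie_of_mem (hxb z hzR).1.1 (Subgroup.mem_sup_right ?_)
          rw [hEbx z hzR]; exact unitOf_mem_E (self_mem_cls (hxb z hzR).1)
        · refine QuadDual20.lie_of_mem (hxa z hzR).1.1 (Subgroup.mem_sup_left ?_)
          rw [hEax z hzR]; exact unitOf_mem_E (self_mem_cls (hxa z hzR).1)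
      refine ⟨w * c, mul_mem hwG hc, fun x hx => ?_⟩
      rw [← RankOne.conjBy_mul]
      by_cases hxz : Ea x = Ea z
      · have hnT : ¬ ∃ y ∈ T, Ea x = Ea y := fun ⟨y, hy, e⟩ => hold ⟨y, hy, hxz.symm.trans e⟩
        refine ⟨fun _ => ?_, fun hno => absurd ⟨z, Finset.mem_insert_self _ _, hxz⟩ hno⟩
        rw [(hcf x hx).2 hnT, hxz, hwz]
        show conjBy _ z = conjBy _ x
        rw [conjBy_E' (h.norm hzR) _ (hxb z hzR).1.1, conjBy_E' (h.norm hx) _ (hxb x hx).1.1]
        exact E_congr _ _ (by rw [(hsame x hx z hzR hxz).2]) (by rw [(hsame x hx z hzR hxz).2])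
      · obtain ⟨c1, c2, c3, c4⟩ := hcomm4 z hzR x hx fun e => hxz e.symm
        have hiff : (∃ y ∈ insert z T, Ea x = Ea y) ↔ ∃ y ∈ T, Ea x = Ea y :=
          ⟨fun ⟨y, hy, e⟩ => by
            rcases Finset.mem_insert.1 hy with rfl | hy
            · exact absurd e hxz
            · exact ⟨y, hy, e⟩,
          fun ⟨y, hy, e⟩ => ⟨y, Finset.mem_insert_of_mem hy, e⟩⟩
        rw [hiff]
        exact ⟨fun hy => by rw [(hcf x hx).1 hy, hwfix c2 c4], fun hy => by rw [(hcf x hx).2 hy, hwfix c1 c3]⟩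
  -- the element normalizes both families
  obtain ⟨c, hcG, hc⟩ := hswap
  set N := G ⊓ ⨅ x ∈ R, Subgroup.normalizer (Eb x : Set (LinearMap.GeneralLinearGroup (ZMod p) V)) with hN
  have hScN : conjBy S c ≤ N := by
    rintro _ ⟨s, hs, rfl⟩
    refine Subgroup.mem_inf.2 ⟨mul_mem (mul_mem hcG (hS.1 hs)) (inv_mem hcG), ?_⟩
    simp only [Subgroup.mem_iInf]
    intro x hx
    rw [← RankOne.conjBy_eq_self_iff, ← hc x hx, RankOne.conjBy_mul]
    show conjBy (Ea x) (c * s * c⁻¹ * c) = _
    rw [inv_mul_cancel_right, ← RankOne.conjBy_mul, RankOne.conjBy_eq_self_iff.2 (hSEa x hx hs)]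
  have hNR : R ≤ Subgroup.normalizer (N : Set (LinearMap.GeneralLinearGroup (ZMod p) V)) := by
    refine CoprimeAction.le_normalizer_of_conj_mem fun r hr g hg => ?_
    obtain ⟨hgG, hg'⟩ := Subgroup.mem_inf.1 hg
    simp only [Subgroup.mem_iInf] at hg'
    refine Subgroup.mem_inf.2 ⟨(Subgroup.mem_normalizer_iff.1 (h.norm hr) g).1 hgG, ?_⟩
    simp only [Subgroup.mem_iInf]
    intro x hx
    have h1 := RankOne.conjBy_eq_self_iff.2 (hg' (r⁻¹ * x) (mul_mem (inv_mem hr) hx))
    rw [← RankOne.conjBy_eq_self_iff]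
    show conjBy (conjBy _ x) (r * g * r⁻¹) = conjBy _ x
    have h2 := congrArg (fun P => conjBy P r) h1
    simp only [Eb, RankOne.conjBy_mul] at h2
    rw [RankOne.conjBy_mul]
    simpa [mul_assoc] using h2
  obtain ⟨T, hT, hTR⟩ := (h.mono inf_le_left hNR).exists_inv (p := p) (G := N)
  have hTsyl : IsSyl p G T := by
    refine ⟨hT.1.trans inf_le_left, le_antisymm (le_card_syl (hT.1.trans inf_le_left) hT.isPGroup) ?_⟩
    rw [hT.2]
    refine le_trans (le_of_eq ?_) (le_card_syl hScN (hS.isPGroup.map _))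
    rw [Subgroup.card_map_of_injective (MulAut.conj c).injective, hS.2]
  have huN : ∀ x ∈ R, u ∈ Subgroup.normalizer (Eb x : Set (LinearMap.GeneralLinearGroup (ZMod p) V)) := by
    have := (Subgroup.mem_inf.1 (hT.1 (hu.2 T hTsyl hTR))).2
    simpa [Subgroup.mem_iInf] using this
  have hufix : ∀ x ∈ R, cj x a * nl u = nl u * cj x a ∧ cj x a' * nl u = nl u * cj x a' := by
    intro x hx
    constructor
    · exact (mem_fixer.1 (fix_cls hp hred (hxa x hx) hu.1 hq (hEax x hx ▸ hSEa x hx huS) _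
        (self_mem_cls (hxa x hx).1))).symm
    · exact (mem_fixer.1 (fix_cls hp hred (hxb x hx) hu.1 hq (hEbx x hx ▸ huN x hx) _
        (self_mem_cls (hxb x hx).1))).symm
  obtain ⟨c', hc'L, hc'd, hc'c⟩ := exists_dual_fixed hp (R := (R : Set _)) (a := fun x => cj x a)
    (b := fun x => cj x a') (fun x _ => dual_cj hd₂ x) (fun x hx => (hxa x hx).1)
    (fun x hx => (hxb x hx).1) hor hqL ⟨b, hbL, hd⟩ hufix
  -- the centralizer of the pairs
  set D := G ⊓ ⨅ x ∈ R, fixer (cj x a) ⊓ fixer (cj x a') with hD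
  have hDmem : ∀ g ∈ G, (∀ x ∈ R, cj x a * nl g = nl g * cj x a ∧ cj x a' * nl g = nl g * cj x a') →
      g ∈ D := by
    intro g hg hcom
    refine Subgroup.mem_inf.2 ⟨hg, ?_⟩
    simp only [Subgroup.mem_iInf, Subgroup.mem_inf]
    exact fun x hx => ⟨mem_fixer.2 (hcom x hx).1.symm, mem_fixer.2 (hcom x hx).2.symm⟩
  refine sub D (lt_of_le_of_ne inf_le_left fun e => ?_) ?_ (hDmem u hu.1 hufix) c'
    (QuadDual20.lie_of_mem hc'L.1 (hDmem _ (Lie.mem hc'L) fun x hx => by rw [nl_unitOf]; exact hc'c x hx)) hc'd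
  · have h1 : unitOf a ha.1.1 ∈ D := by rw [e]; exact Lie.mem ha.1
    have h2 := (Subgroup.mem_inf.1 h1).2
    simp only [Subgroup.mem_iInf, Subgroup.mem_inf] at h2
    have h3 := mem_fixer.1 (h2 1 (one_mem R)).2
    rw [nl_unitOf, show cj 1 a' = a' by simp [cj]] at h3
    exact ha0 (by rw [← hd₂.aba, h3, mul_assoc, hd₂.sqa, mul_zero])
  · refine CoprimeAction.le_normalizer_of_conj_mem fun r hr g hg => ?_
    obtain ⟨hgG, hg'⟩ := Subgroup.mem_inf.1 hg
    simp only [Subgroup.mem_iInf, Subgroup.mem_inf] at hg'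
    refine Subgroup.mem_inf.2 ⟨(Subgroup.mem_normalizer_iff.1 (h.norm hr) g).1 hgG, ?_⟩
    simp only [Subgroup.mem_iInf, Subgroup.mem_inf]
    intro x hx
    have key : ∀ k : Module.End (ZMod p) V, cj g (cj (r⁻¹ * x) k) = cj (r⁻¹ * x) k →
        cj (r * g * r⁻¹) (cj x k) = cj x k := by
      intro k hk
      rw [← cj_comp r⁻¹ x k] at hk
      rw [← cj_comp (r * g) r⁻¹, ← cj_comp r g, hk, cj_comp, mul_inv_cancel]
      simp [cj]
    exact ⟨key a (hg' _ (mul_mem (inv_mem hr) hx)).1, key a' (hg' _ (mul_mem (inv_mem hr) hx)).2⟩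

end Cfsg.Agent.QuadMeet20
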