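import Mathlib
import Cfsg.Agent.Lib.QuadMeet20
import Cfsg.Agent.Lib.QuadraticMain
import Cfsg.Agent.Lib.HallSolvable
import Cfsg.Agent.Lib.ConjFunctorKMain
import Cfsg.Agent.Lib.CharPLocal
import Cfsg.Agent.Lib.GlaubermanStable

/-!
For `p ≥ 5` the meet of the invariant Sylow `p`-subgroups acts on no chief factor quadratically and
nontrivially, so its lower K-infinity subgroup is normal in a constrained group.
-/

set_option autoImplicit false
set_option linter.unusedSectionVars false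

open scoped commutatorElement Pointwise
open Subgroup Cfsg.Agent.ConjFunctorKInf Cfsg.Agent.ConjFunctorKWitness

namespace Cfsg.Agent.QuadMeetGroup20

open QuadPairTheory QuadPairDualOrbit20

universe u

theorem false_of_odd {p : ℕ} [Fact p.Prime] (hp : 5 ≤ p) {V : Type u} [AddCommGroup V] [Module (ZMod p) V]
    [Finite V] {G : Subgroup (LinearMap.GeneralLinearGroup (ZMod p) V)} (hodd : Odd (Nat.card G))
    {q b : Module.End (ZMod p) V} (hq : q ∈ Lie G) (hb : b ∈ Lie G) (hd : Dual q b) : q = 0 := by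
  set z := rep hd (-1) with hz
  have hzG : z ∈ G := rep_mem hd hq hb _
  have hz2 : z ^ 2 = 1 := by rw [hz, ← map_pow, sq, neg_mul_neg, one_mul, map_one]
  have h1 : orderOf z = 1 := by
    have h2 : orderOf z ∣ 2 := orderOf_dvd_of_pow_eq_one hz2
    have h3 : Odd (orderOf z) := hodd.of_dvd_nat (Subgroup.orderOf_dvd_natCard G hzG)
    rcases (Nat.dvd_prime Nat.prime_two).1 h2 with h | h
    · exact h
    · rw [h] at h3; exact absurd h3 (by decide)
  have hze : (z : Module.End (ZMod p) V) = 1 - (supp q b + supp q b) := by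
    show mat q b ((-1 : Matrix.SpecialLinearGroup (Fin 2) (ZMod p)) : Matrix (Fin 2) (Fin 2) (ZMod p)) = _
    simp [mat, supp]
    abel
  rw [orderOf_eq_one_iff.1 h1, Units.val_one] at hze
  have h4 : supp q b + supp q b = 0 := sub_eq_self.1 hze.symm
  have h5 := congrArg (· * q) h4
  simp only [add_mul, (supp_mul hd).1, zero_mul] at h5
  rw [← two_smul (ZMod p)] at h5
  exact (smul_eq_zero.1 h5).resolve_left (QuadDual20.two_ne hp)

theorem isMinNormal_map {Y : Type u} [Group Y] {U V : Subgroup Y} [V.Normal]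
    (h : Cfsg.IsChiefFactor U V) : HallSolvable.IsMinNormal (U.map (QuotientGroup.mk' V)) := by
  obtain ⟨hlt, hUn, -, hmax⟩ := h
  set π := QuotientGroup.mk' V
  refine ⟨hUn.map π (QuotientGroup.mk'_surjective V), ?_, fun K hK hKP => ?_⟩
  · rw [Ne, map_mk'_le_bot_iff]; exact hlt.not_ge
  have hU : K.comap π ≤ U := by
    have := Subgroup.comap_mono (f := π) hKP
    rwa [comap_map_eq, QuotientGroup.ker_mk', sup_eq_left.mpr hlt.le] at this
  rcases hmax _ (Normal.comap hK π) (QuotientGroup.le_comap_mk' V K) hU with h | h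
  · left
    rw [← map_comap_eq_self_of_surjective (QuotientGroup.mk'_surjective V) K, h]
    exact QuotientGroup.map_mk'_self V
  · right
    rw [← map_comap_eq_self_of_surjective (QuotientGroup.mk'_surjective V) K, h]

/-- A member of the meet does not act quadratically and nontrivially on a chief `p`-factor. -/
theorem trivial_on_chief {p r : ℕ} [Fact p.Prime] [Fact r.Prime] (hp : 5 ≤ p) {Y : Type u} [Group Y]
    [Finite Y] {N R : Subgroup Y} [N.Normal] (hNR : N ⊔ R = ⊤) (hR : IsPGroup r R)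
    (hcop : (Nat.card N).Coprime r) {g : Y} (hg : QuadMeet20.InMeet p N R g) {U V : Subgroup Y}
    (hUV : Cfsg.IsChiefFactor U V) (hUp : IsPGroup p U)
    (hq : ⁅⁅U, zpowers g⁆, zpowers g⁆ ≤ V) : ⁅U, zpowers g⁆ ≤ V := by
  haveI := hUV.2.1; haveI := hUV.2.2.1
  set π := QuotientGroup.mk' V
  set U' := U.map π
  have hmin : HallSolvable.IsMinNormal U' := isMinNormal_map hUV
  haveI : U'.Normal := Normal.map hUV.2.1 π (QuotientGroup.mk'_surjective V)
  have hU'p : IsPGroup p U' := hUp.map π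
  haveI := CoprimeAction.isSolvable_of_isPGroup hU'p
  obtain ⟨q, hqp, hel, -⟩ := hmin.exists_prime
  obtain ⟨x, hx, hx1⟩ := (Subgroup.bot_or_exists_ne_one U').resolve_left hmin.ne_bot
  have hqp' : q = p := by
    have hxq : orderOf x = q :=
      haveI := Fact.mk hqp
      orderOf_eq_prime (hel.2 x hx) hx1
    obtain ⟨i, hi⟩ := hU'p ⟨x, hx⟩
    have h2 : q ∣ p ^ i := hxq ▸ orderOf_dvd_of_pow_eq_one (congrArg Subtype.val hi)
    exact (Nat.prime_dvd_prime_iff_eq hqp Fact.out).1 (hqp.dvd_of_dvd_pow h2)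
  subst hqp'
  obtain ⟨i1, i2, ρ, hρ, hadd, hρc, hquad⟩ := QuadraticMain.exists_rep_conj U' hel
  letI := i1
  letI := i2
  letI : Zero (Additive U') := i1.toZero
  letI : Add (Additive U') := i1.toAdd
  letI : Neg (Additive U') := i1.toNeg
  haveI : Finite (Additive U') := inferInstanceAs (Finite U')
  let θ : Y ⧸ V →* LinearMap.GeneralLinearGroup (ZMod q) (Additive U') :=
    (ρ.comp (QuotientGroup.mk' (centralizer (U' : Set (Y ⧸ V))))).toHomUnits
  set Θ := θ.comp π
  have hθ : ∀ (y : Y ⧸ V) (v : Additive U'),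
      ((θ y : Module.End (ZMod q) (Additive U')) v).toMul.1 = y * (v.toMul : Y ⧸ V) * y⁻¹ :=
    fun y v => hρc y v
  obtain ⟨n, hn⟩ := IsPGroup.iff_card.1 hR
  have hco : QuadMeet20.Coact N R := by
    refine ⟨?_, ?_, CoprimeAction.isSolvable_of_isPGroup hR⟩
    · rw [normalizer_eq_top]; exact le_top
    · rw [hn]; exact hcop.symm.pow_left n
  have hco' := hco.map Θ
  have hg' := hg.map hco Θ
  have hsq : nl (Θ g) * nl (Θ g) = 0 := hquad (π g) (by
    rw [← MonoidHom.map_zpowers, ← map_commutator, ← map_commutator, map_mk'_le_bot_iff]; exact hq)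
  suffices hone : Θ g = 1 by
    rw [← map_mk'_le_bot_iff, map_commutator, commutator_eq_bot_iff_le_centralizer, MonoidHom.map_zpowers]
    intro v hv
    refine mem_centralizer_iff.mpr fun y hy => ?_
    have hc : π g ∈ centralizer (U' : Set (Y ⧸ V)) := by
      rw [← QuotientGroup.eq_one_iff]
      exact hρ ((congrArg Units.val hone).trans (map_one ρ).symm)
    exact (mem_centralizer_iff.1 (zpowers_le.2 hc hy) v hv).symm
  have hred : QuadPairUnipotent.Reduced (N.map Θ) := by
    by_contra hnot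
    obtain ⟨W, hW0, hW1, hGW, hRW⟩ := QuadMeet20.exists_subspace hco'.norm hnot
    have hstab : ∀ y : Y, Θ y ∈ QuadMeet20.stab W := by
      intro y
      have : Θ y ∈ (N ⊔ R).map Θ := ⟨y, hNR ▸ mem_top y, rfl⟩
      rw [Subgroup.map_sup] at this
      exact sup_le hGW hRW this
    have h0 : ((0 : Additive U').toMul : Y ⧸ V) = 1 := by
      have := congrArg (fun z : U' => (z : Y ⧸ V)) (hadd 0 0)
      rw [@add_zero (Additive U') i1.toAddMonoid.toAddZeroClass, Subgroup.coe_mul] at this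
      exact left_eq_mul.1 this
    let K : Subgroup (Y ⧸ V) :=
      { carrier := {y | ∃ w ∈ W, (w.toMul : Y ⧸ V) = y}
        one_mem' := ⟨0, W.zero_mem, h0⟩
        mul_mem' := fun {a b} ⟨w, hw, ha⟩ ⟨w', hw', hb⟩ => ⟨w + w', W.add_mem hw hw', by
          rw [hadd, Subgroup.coe_mul, ha, hb]⟩
        inv_mem' := fun {a} ⟨w, hw, ha⟩ => ⟨-w, W.neg_mem hw, by
          have := congrArg (fun z : U' => (z : Y ⧸ V)) (hadd (-w) w)
          rw [@neg_add_cancel (Additive U') i1.toAddGroup, Subgroup.coe_mul, h0, ha] at this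
          exact eq_inv_of_mul_eq_one_left this.symm⟩ }
    have hKn : K.Normal := ⟨fun a ha y => by
      obtain ⟨w, hw, rfl⟩ := ha
      obtain ⟨y', rfl⟩ := QuotientGroup.mk'_surjective V y
      exact ⟨_, (hstab y' w).2 hw, hθ (π y') w⟩⟩
    rcases hmin.2.2 K hKn (fun y ⟨w, _, e⟩ => e ▸ w.toMul.2) with h | h
    · refine hW0 ((Submodule.eq_bot_iff _).2 fun w hw => ?_)
      have h1 : (w.toMul : Y ⧸ V) ∈ K := ⟨w, hw, rfl⟩
      rw [h, mem_bot, ← h0] at h1
      exact Additive.toMul.injective (Subtype.ext h1)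
    · refine hW1 (eq_top_iff.2 fun w _ => ?_)
      obtain ⟨w', hw', e⟩ : (w.toMul : Y ⧸ V) ∈ K := by rw [h]; exact w.toMul.2
      rwa [show w = w' from Additive.toMul.injective (Subtype.ext e.symm)]
  by_contra hne
  have hqL : nl (Θ g) ∈ Lie (N.map Θ) := QuadDual20.lie_nl hg'.1 hsq
  obtain ⟨b, hb, hd⟩ := QuadDual20.exists_dual_lie hp hred hqL
  rcases (Fact.out : r.Prime).eq_two_or_odd' with rfl | hr
  · refine hne (nl_eq_zero.1 (false_of_odd hp ?_ hqL hb hd))
    refine Odd.of_dvd_nat ?_ (Subgroup.card_map_dvd N Θ)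
    rwa [← Nat.coprime_two_right]
  · refine hne (QuadMeet20.eq_one hp hco' ?_ hg' hsq ⟨b, hb, hd⟩)
    rintro _ ⟨y, hy, rfl⟩
    refine Odd.of_dvd_nat ?_ (orderOf_map_dvd Θ y)
    refine Odd.of_dvd_nat (hr.pow (n := n)) ?_
    rw [← hn]
    exact Subgroup.orderOf_dvd_natCard R hy

variable {Y : Type u} [Group Y] [Finite Y] {p : ℕ} [Fact p.Prime]

/-- A quadratic chief factor for an element moving some chief factor below a class two subgroup. -/
theorem exists_quadratic' {A B : Subgroup Y} [A.Normal] (hA : IsPGroup p A)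
    (hA2 : A ∈ Cfsg.classTwoSubgroups Y) (hB : Quad A B ∨ Lower A B) {g : Y} (hg : g ∈ B)
    (hgA : g ∉ triv A) :
    ∃ U V : Subgroup Y, Cfsg.IsChiefFactor U V ∧ U ≤ A ∧
      ⁅⁅U, zpowers g⁆, zpowers g⁆ ≤ V ∧ ¬ ⁅U, zpowers g⁆ ≤ V := by
  have hgB : zpowers g ≤ B := zpowers_le.mpr hg
  have hq : ⁅⁅cen A, zpowers g⁆, zpowers g⁆ = ⊥ := le_bot_iff.mp
    ((commutator_mono (commutator_mono le_rfl hgB) hgB).trans (cubic_of_witness hB).2.le)
  have hnt : ∀ W : Subgroup Y, g ∉ triv W → ∃ U V : Subgroup Y, Cfsg.IsChiefFactor U V ∧ U ≤ W ∧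
      ¬ ⁅U, zpowers g⁆ ≤ V := by
    intro W hW
    rw [mem_triv] at hW
    push Not at hW
    obtain ⟨U, V, hUV, hUW, x, hx, hnot⟩ := hW
    refine ⟨U, V, hUV, hUW, fun hle => hnot ?_⟩
    rw [← commutatorElement_inv]
    exact inv_mem (hle (commutator_mem_commutator hx (mem_zpowers g)))
  by_cases hgZ : g ∈ triv (cen A)
  swap
  · obtain ⟨U, V, hUV, hU, hne⟩ := hnt _ hgZ
    exact ⟨U, V, hUV, hU.trans (cen_le A),
      quadratic_of_cen hUV hq (le_sup_of_le_left (le_inf le_rfl hU)), hne⟩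
  obtain ⟨U, V, hUV, hU, hne⟩ := hnt A hgA
  refine ⟨U, V, hUV, hU, ?_, hne⟩
  rcases hB with ⟨h1, -⟩ | hL
  · rcases inf_sup_or (Y := cen A) hUV with h | h
    · exact quadratic_of_cen hUV hq h
    · haveI := hUV.2.1
      refine le_trans (le_inf ?_ ?_) h
      · exact (commutator_mono (commutator_le_left U _) le_rfl).trans (commutator_le_left U _)
      · exact (commutator_mono (commutator_mono hU hgB) hgB).trans h1
  · exact quadratic_of_triv hA hA2 hL hg hgZ hUV hU

/-- In a normal subgroup whose elements of order prime to `p` are central the `p`-elements form a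
normal `p`-subgroup. -/
theorem mem_pCore_of_central (W : Subgroup Y) [W.Normal]
    (hW : ∀ x ∈ W, (orderOf x).Coprime p → ∀ y ∈ W, x * y = y * x) {g : Y} (hg : g ∈ W)
    (hgp : ∃ k, g ^ p ^ k = 1) : g ∈ Cfsg.pCore p Y := by
  have hq : IsPGroup p (W ⧸ Subgroup.center W) := by
    intro x
    induction x using QuotientGroup.induction_on with
    | _ x =>
      obtain ⟨l, hl⟩ := GlaubermanStable.exists_pow_coprime (p := p) (x : Y)
      refine ⟨l, ?_⟩
      rw [← QuotientGroup.mk_pow, QuotientGroup.eq_one_iff, mem_center_iff]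
      intro y
      exact Subtype.ext (by
        rw [Subgroup.coe_mul, Subgroup.coe_mul, SubmonoidClass.coe_pow]
        exact (hW _ (W.pow_mem x.2 _) hl y y.2).symm)
  haveI : Group.IsNilpotent (W ⧸ Subgroup.center W) := hq.isNilpotent
  haveI : Group.IsNilpotent W := Group.of_quotient_center_nilpotent inferInstance
  obtain ⟨k, hk⟩ := hgp
  have hz : IsPGroup p (Subgroup.zpowers (⟨g, hg⟩ : W)) := by
    rintro ⟨_, i, rfl⟩
    refine ⟨k, Subtype.ext ?_⟩
    show ((⟨g, hg⟩ : W) ^ i) ^ (p ^ k) = 1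
    rw [← zpow_natCast, zpow_comm, zpow_natCast,
      show (⟨g, hg⟩ : W) ^ p ^ k = 1 from Subtype.ext hk, one_zpow]
  obtain ⟨S, hS⟩ := hz.exists_le_sylow
  haveI : (S : Subgroup W).Normal := inferInstance
  haveI : (S : Subgroup W).Characteristic := S.characteristic_of_normal inferInstance
  exact HallCore.le_pCore (N := (S : Subgroup W).map W.subtype) (S.2.map _)
    ⟨⟨g, hg⟩, hS (Subgroup.mem_zpowers _), rfl⟩

/-- The lower K-infinity subgroup of the meet is normal, in a group whose elements of order prime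
to `p` centralising `O_p` are central. -/
theorem kInfLower_normal' {r : ℕ} [Fact r.Prime] (hp : 5 ≤ p) (hrp : r ≠ p) {N R : Subgroup Y}
    [N.Normal] (hNR : N ⊔ R = ⊤) (hR : IsPGroup r R) (hcop : (Nat.card N).Coprime r)
    (hc : ∀ x ∈ N, x ∈ centralizer (Cfsg.pCore p Y : Set Y) → (orderOf x).Coprime p →
      ∀ y ∈ N, x * y = y * x) (P : Subgroup Y)
    (hPp : IsPGroup p P) (hTP : Cfsg.pCore p Y ≤ P) (hPmeet : ∀ g ∈ P, QuadMeet20.InMeet p N R g) :
    ((Cfsg.kInfLower ↥P).map P.subtype).Normal := by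
  set T := Cfsg.pCore p Y with hT
  haveI : T.Normal := HallCore.pCore_normal p Y
  obtain ⟨A, hAn, hAT, hA2, hTA, -, hA5⟩ := ConjFunctorKMain.exists_critical (p := p) (G := Y)
  haveI := hAn
  have hinj : Function.Injective P.subtype := P.subtype_injective
  have hA' : (A.subgroupOf P).map P.subtype = A := map_subgroupOf_eq_of_le (hAT.trans hTP)
  have hT' : (T.subgroupOf P).map P.subtype = T := map_subgroupOf_eq_of_le hTP
  have h2' : A.subgroupOf P ∈ Cfsg.classTwoSubgroups ↥P := classTwo_subtype.mpr (by rwa [hA'])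
  have hTA' : ⁅T.subgroupOf P, A.subgroupOf P⁆ ≤ cen (A.subgroupOf P) := by
    rw [← map_le_map_iff_of_injective hinj, map_commutator, map_cen_subtype, hA', hT']
    exact hTA
  rcases exists_witness (T := T.subgroupOf P) (A := A.subgroupOf P)
    (by rw [← map_le_map_iff_of_injective hinj, hA', hT']; exact hAT) h2' hTA' with h | ⟨B, hBT, hB⟩
  · have h1 := (map_kInf_of_le h).1
    have h : (Cfsg.kInfLower ↥P).map P.subtype = (Cfsg.kInfLower ↥T).map T.subtype := by
      rw [← h1, ← map_kInfLower (subgroupOfEquivOfLe hTP), Subgroup.map_map, Subgroup.map_map]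
      rfl
    rw [h]
    haveI := kInfLower_characteristic ↥T
    infer_instance
  exfalso
  have hB' : Quad A (B.map P.subtype) ∨ Lower A (B.map P.subtype) := by
    rcases hB with ⟨hq1, hq2⟩ | ⟨hN, hB2, hY⟩
    · refine Or.inl ⟨?_, ?_⟩
      · rw [← hA', ← map_commutator, ← map_commutator, ← map_cen_subtype]
        exact Subgroup.map_mono hq1
      · rw [← hA', ← map_cen_subtype, ← map_commutator, ← map_commutator, hq2, Subgroup.map_bot]
    · refine Or.inr ⟨?_, classTwo_subtype.mp hB2, fun Z hZA hBZ h1 => ?_⟩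
      · rw [← hA', ← le_normalizer_subtype]; exact hN
      obtain ⟨Z, rfl⟩ : ∃ Z' : Subgroup ↥P, Z'.map P.subtype = Z :=
        ⟨Z.subgroupOf P, map_subgroupOf_eq_of_le (hZA.trans (hAT.trans hTP))⟩
      rw [← map_commutator, ← map_cen_subtype, map_le_map_iff_of_injective hinj]
      refine hY Z ((map_le_map_iff_of_injective hinj).mp (hA'.symm ▸ hZA)) (le_normalizer_subtype.mpr hBZ) ?_
      exact map_injective hinj (by rw [map_commutator, map_commutator, h1, Subgroup.map_bot])
  obtain ⟨g, hg, hgT⟩ := SetLike.not_le_iff_exists.mp hBT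
  have hTp : IsPGroup p T := HallCore.isPGroup_pCore p Y
  have hgA : (g : Y) ∉ triv A := by
    intro h
    refine hgT (mem_subgroupOf.2 (mem_pCore_of_central (triv A ⊓ N) (fun x hx hxc y hy => ?_)
      ⟨h, (hPmeet g g.2).1⟩ ?_))
    swap
    · obtain ⟨k, hk⟩ := hPp g
      exact ⟨k, congrArg Subtype.val hk⟩
    have hxA := mem_centralizer_of_triv (hTp.to_le hAT) hx.1 hxc
    have h5 := hA5 (MulAut.conjNormal x) (hxc.coprime_dvd_left (orderOf_map_dvd _ x)) fun a ha =>
      Subtype.ext (by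
        rw [MulAut.conjNormal_apply, ← mem_centralizer_iff.mp hxA a ha, mul_inv_cancel_right])
    have hxT : x ∈ centralizer ((T : Subgroup Y) : Set Y) := by
      refine mem_centralizer_iff.mpr fun t ht => ?_
      have h1 := congrArg Subtype.val (DFunLike.congr_fun h5 (⟨t, ht⟩ : ↥T))
      rw [MulAut.conjNormal_apply] at h1
      simp only [MulAut.one_apply] at h1
      calc t * x = x * t * x⁻¹ * x := by rw [h1]
        _ = x * t := by group
    exact hc x hx.2 hxT hxc y hy.2
  obtain ⟨U, V, hUV, hUA, hq, hne⟩ :=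
    exists_quadratic' (hTp.to_le hAT) hA2 hB' (mem_map_of_mem P.subtype hg) hgA
  exact hne (trivial_on_chief hp hNR hR hcop (hPmeet g g.2) hUV (hTp.to_le (hUA.trans hAT)) hq)

/-- **The lower K-infinity subgroup of the meet is normal.** -/
theorem kInfLower_normal {r : ℕ} [Fact r.Prime] (hp : 5 ≤ p) (hrp : r ≠ p) {N R : Subgroup Y}
    [N.Normal] (hNR : N ⊔ R = ⊤) (hR : IsPGroup r R) (hcop : (Nat.card N).Coprime r)
    (hc : ∀ x ∈ N, x ∈ centralizer (Cfsg.pCore p Y : Set Y) → x ∈ Cfsg.pCore p Y) (P : Subgroup Y)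
    (hPp : IsPGroup p P) (hTP : Cfsg.pCore p Y ≤ P) (hPmeet : ∀ g ∈ P, QuadMeet20.InMeet p N R g) :
    ((Cfsg.kInfLower ↥P).map P.subtype).Normal := by
  refine kInfLower_normal' hp hrp hNR hR hcop (fun x hx hxT hxc y _ => ?_) P hPp hTP hPmeet
  rw [CharPBasic.eq_one_of_coprime_of_mem (HallCore.isPGroup_pCore p Y) (hc x hx hxT) hxc, one_mul,
    mul_one]

end Cfsg.Agent.QuadMeetGroup20
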