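import Mathlib
import Cfsg.Agent.Lib.LocalResidual20Core
import Cfsg.Agent.Lib.QuadMeetGroup20
import Cfsg.Agent.Lib.CoprimeGen
import Cfsg.Agent.Lib.KegelWielandt
import Cfsg.Agent.Lib.RankOne

/-!
Local residual layers: for `p ≥ 5`, a perfect group `G` with central `O_p`, acted on by a coprime
elementary group `R` of order `r ^ 2` centralising `O^p(F*(C_G(a)))` for each `a ≠ 1`, is centralised
by `R`.

`P` is the meet of the `R`-invariant Sylow `p`-subgroups. For fixed `a` a `p`-subgroup `U ≤ P` with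
`C_G(a) ≤ N(U)` is chosen so that `(|N_P(U)|, |U|)` is maximal; then `R` centralises
`O^p(F*(N_G(U)))`, so the lower K-infinity subgroup of `N_P(U)` is again such a subgroup, whence
`N_P(U) = P`.
-/

set_option autoImplicit false
set_option linter.unusedSectionVars false

open scoped commutatorElement Pointwise
open Subgroup

namespace Cfsg.Agent.LocalResidual20

open Cfsg.Agent.QuadMeet20 (Coact InMeet IsSyl)

universe u

variable {X : Type u} [Group X] [Finite X] {p r : ℕ} [Fact p.Prime] [Fact r.Prime]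

theorem normalizer_le_normalizer_centralizer (U : Subgroup X) :
    normalizer (U : Set X) ≤ normalizer (centralizer (U : Set X) : Set X) := by
  refine CoprimeAction.le_normalizer_of_conj_mem fun g hg x hx => mem_centralizer_iff.2 fun y hy => ?_
  have h := mem_centralizer_iff.1 hx _ (CoprimeAction.conj_mem' hg hy)
  calc y * (g * x * g⁻¹) = g * ((g⁻¹ * y * g) * x) * g⁻¹ := by group
    _ = g * (x * (g⁻¹ * y * g)) * g⁻¹ := by rw [h]
    _ = _ := by group

theorem normalizer_le_normalizer_sup (U V : Subgroup X) :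
    normalizer (U : Set X) ⊓ normalizer (V : Set X) ≤ normalizer ((U ⊔ V : Subgroup X) : Set X) := by
  refine CoprimeAction.le_normalizer_of_conj_mem fun g hg x hx => ?_
  have h : U ⊔ V ≤ (U ⊔ V).comap (MulAut.conj g).toMonoidHom :=
    sup_le (fun u hu => le_sup_left (b := V) (CoprimeAction.conj_mem hg.1 hu))
      (fun v hv => le_sup_right (a := U) (CoprimeAction.conj_mem hg.2 hv))
  exact h hx

theorem commutator_centralizes {A B W : Subgroup X} (hBW : B ≤ centralizer (W : Set X))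
    (hAW : A ≤ normalizer (W : Set X)) : ⁅A, B⁆ ≤ centralizer (W : Set X) := by
  rw [← commutator_eq_bot_iff_le_centralizer]
  have h1 : ⁅B, W⁆ = ⊥ := commutator_eq_bot_iff_le_centralizer.2 hBW
  refine commutator_commutator_eq_bot_of_rotate (by rw [h1, commutator_bot_left]) ?_
  refine le_bot_iff.1 ((commutator_mono ?_ le_rfl).trans (le_of_eq ((commutator_comm W B).trans h1)))
  exact le_normalizer_iff_commutator_le_left.1 hAW

/-- A `p`-element times a `p'`-element, both powers of the element. -/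
theorem exists_decomp (d : X) : ∃ u ∈ zpowers d, ∃ v ∈ zpowers d,
    d = u * v ∧ (∃ k, u ^ p ^ k = 1) ∧ (orderOf v).Coprime p := by
  obtain ⟨l, hl⟩ := GlaubermanStable.exists_pow_coprime (p := p) d
  obtain ⟨s, hs⟩ := exists_pow_eq_self_of_coprime (n := p ^ l) (x := d ^ p ^ l) (hl.pow_right l).symm
  set v := (d ^ p ^ l) ^ s with hv
  have hvd : v ∈ zpowers d := pow_mem (pow_mem (mem_zpowers d) _) _
  refine ⟨d * v⁻¹, mul_mem (mem_zpowers d) (inv_mem hvd), v, hvd, by group, ⟨l, ?_⟩,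
    hl.coprime_dvd_left (orderOf_pow_dvd _)⟩
  have hc : Commute d v⁻¹ := ((Commute.refl d).pow_right _ |>.pow_right _).inv_right
  rw [hc.mul_pow, inv_pow, hv, ← pow_mul (d ^ p ^ l), mul_comm s, pow_mul (d ^ p ^ l), hs, mul_inv_cancel]

theorem inMeet_of_normalised {W A V : Subgroup X} (hco : Coact W A) (hVW : V ≤ W)
    (hVp : IsPGroup p V) (hA : A ≤ normalizer (V : Set X))
    (hC : W ⊓ centralizer (A : Set X) ≤ normalizer (V : Set X)) : ∀ x ∈ V, InMeet p W A x := by
  refine fun x hx => ⟨hVW hx, fun S hS hSR => ?_⟩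
  obtain ⟨S', hS', hVS', hS'R⟩ := hco.exists_inv_ge hVW hVp hA
  obtain ⟨c, hcW, hcA, rfl⟩ := hco.syl_conj hS' hS'R hS hSR
  rw [RankOne.mem_conjBy]
  exact hVS' (CoprimeAction.conj_mem' (hC ⟨hcW, hcA⟩) hx)

/-- The meet of the invariant Sylow subgroups. -/
def meet (p : ℕ) (G R : Subgroup X) : Subgroup X where
  carrier := {u | InMeet p G R u}
  one_mem' := ⟨one_mem G, fun S _ _ => one_mem S⟩
  mul_mem' := fun h h' => ⟨mul_mem h.1 h'.1, fun S hS hR => mul_mem (h.2 S hS hR) (h'.2 S hS hR)⟩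
  inv_mem' := fun h => ⟨inv_mem h.1, fun S hS hR => inv_mem (h.2 S hS hR)⟩

theorem isPGroup_meet {G R : Subgroup X} (co : Coact G R) : IsPGroup p (meet p G R) := by
  obtain ⟨S, hS, hSR⟩ := co.exists_inv (p := p)
  exact hS.isPGroup.to_le fun u hu => hu.2 S hS hSR

theorem le_normalizer_meet {G R : Subgroup X} (co : Coact G R) {A : Subgroup X}
    (hA : A ≤ normalizer (G : Set X))
    (hAR : ∀ g ∈ A, ∀ ρ ∈ R, g⁻¹ * ρ * g ∈ R) : A ≤ normalizer (meet p G R : Set X) := by
  refine CoprimeAction.le_normalizer_of_conj_mem fun g hg x hx => ?_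
  refine ⟨CoprimeAction.conj_mem (hA hg) hx.1, fun S hS hSR => ?_⟩
  have hS' : IsSyl p G (conjBy S g⁻¹) := by
    refine ⟨?_, ?_⟩
    · rintro _ ⟨y, hy, rfl⟩
      exact CoprimeAction.conj_mem (hA (inv_mem hg)) (hS.1 hy)
    · rw [← hS.2]; exact card_map_of_injective (MulAut.conj g⁻¹).injective
  have hR' : R ≤ normalizer (conjBy S g⁻¹ : Set X) := by
    refine CoprimeAction.le_normalizer_of_conj_mem fun ρ hρ y hy => ?_
    rw [RankOne.mem_conjBy, inv_inv] at hy ⊢
    have h1 : g * ρ * g⁻¹ ∈ R := by simpa using hAR g⁻¹ (inv_mem hg) ρ hρ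
    have h2 := CoprimeAction.conj_mem (hSR h1) hy
    simpa [mul_assoc] using h2
  have := hx.2 _ hS' hR'
  rwa [RankOne.mem_conjBy, inv_inv] at this

theorem conj_mem_self {R : Subgroup X} {g ρ : X} (hρ : ρ ∈ R) (hg : g ∈ R) : g⁻¹ * ρ * g ∈ R :=
  mul_mem (mul_mem (inv_mem hg) hρ) hg

/-- The hypotheses. -/
structure Setup (p r : ℕ) (G R : Subgroup X) : Prop where
  hp : 5 ≤ p
  hrp : r ≠ p
  hR : IsPGroup r R
  co : Coact G R
  hab : ∀ x ∈ R, ∀ y ∈ R, x * y = y * x
  hexp : ∀ x ∈ R, x ^ r = 1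
  hcard : Nat.card R = r ^ 2
  hloc : ∀ a ∈ R, a ≠ 1 → R ≤ centralizer (Res p (G ⊓ centralizer ({a} : Set X)) : Set X)

namespace Setup

variable {G R : Subgroup X} (S : Setup p r G R)

local notation "FF" => G ⊓ centralizer (R : Set X)
local notation "PP" => meet p G R

include S

theorem orderOf_eq {a : X} (ha : a ∈ R) (ha1 : a ≠ 1) : orderOf a = r :=
  orderOf_eq_prime (S.hexp a ha) ha1

theorem not_cyclic : ¬ IsCyclic R := by
  intro h
  obtain ⟨g, hg⟩ := h.exists_generator
  have h1 : orderOf g = r ^ 2 := by rw [orderOf_eq_card_of_forall_mem_zpowers hg, S.hcard]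
  have h2 : orderOf g ∣ r := orderOf_dvd_of_pow_eq_one (Subtype.ext (S.hexp g g.2))
  rw [h1] at h2
  have := Nat.le_of_dvd (Fact.out : r.Prime).pos h2
  nlinarith [(Fact.out : r.Prime).two_le]

theorem cop {K : Subgroup X} (hK : K ≤ G) : (Nat.card R).Coprime (Nat.card K) :=
  CoprimeAction.coprime_of_le_right hK S.co.cop

theorem gen_le {K H : Subgroup X} (hK : K ≤ G) (hKR : R ≤ normalizer (K : Set X))
    (h : ∀ a ∈ R, a ≠ 1 → K ⊓ centralizer ({a} : Set X) ≤ H) : K ≤ H := by
  haveI : IsMulCommutative R := ⟨⟨fun x y => Subtype.ext (S.hab x x.2 y y.2)⟩⟩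
  exact CoprimeGen.le_of_centralizers S.not_cyclic hKR (S.cop hK) h

theorem comm_eq {K : Subgroup X} (hK : K ≤ G) (hKR : R ≤ normalizer (K : Set X)) :
    ⁅⁅K, R⁆, R⁆ = ⁅K, R⁆ :=
  CoprimeAction.commutator_commutator_eq hKR (S.cop hK) (Or.inl S.co.solv)

theorem le_fixed {K : Subgroup X} (hK : K ≤ G) (hKR : R ≤ normalizer (K : Set X))
    (h : ⁅K, R⁆ ≤ centralizer (R : Set X)) : K ≤ centralizer (R : Set X) :=
  le_centralizer_iff.1 (CoprimeAction.le_centralizer_of_commutator_commutator_eq_bot hKR (S.cop hK)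
    (Or.inl S.co.solv) (commutator_eq_bot_iff_le_centralizer.2 h))

theorem R_le_normalizer_centralizer {a : X} (ha : a ∈ R) :
    R ≤ normalizer (centralizer ({a} : Set X) : Set X) := fun x hx =>
  le_normalizer (mem_centralizer_singleton_iff.2 (S.hab x hx a ha))

theorem R_le_normalizer_ca {a : X} (ha : a ∈ R) :
    R ≤ normalizer ((G ⊓ centralizer ({a} : Set X) : Subgroup X) : Set X) :=
  CoprimeAction.le_normalizer_inf S.co.norm (S.R_le_normalizer_centralizer ha)

theorem fixed_le_ca {a : X} (ha : a ∈ R) : FF ≤ (G ⊓ centralizer ({a} : Set X)) := fun _ hx =>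
  ⟨hx.1, mem_centralizer_singleton_iff.2 (mem_centralizer_iff.1 hx.2 a ha).symm⟩

theorem R_le_meet : R ≤ normalizer (PP : Set X) :=
  le_normalizer_meet S.co S.co.norm fun _ hg _ hρ => conj_mem_self hρ hg

theorem fixed_le_meet : FF ≤ normalizer (PP : Set X) :=
  le_normalizer_meet S.co (inf_le_left.trans le_normalizer) fun g hg ρ hρ => by
    rwa [mul_assoc, mem_centralizer_iff.1 hg.2 ρ hρ, inv_mul_cancel_left]

theorem le_meet {V : Subgroup X} (hVG : V ≤ G) (hVp : IsPGroup p V)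
    (hR : R ≤ normalizer (V : Set X)) (hF : FF ≤ normalizer (V : Set X)) : V ≤ PP :=
  inMeet_of_normalised S.co hVG hVp hR hF

/-- `U` is a candidate for `a`. -/
structure Good (p : ℕ) (G R : Subgroup X) (a : X) (U : Subgroup X) : Prop where
  le : U ≤ meet p G R
  normR : R ≤ normalizer (U : Set X)
  normC : G ⊓ centralizer ({a} : Set X) ≤ normalizer (U : Set X)
  star : ⁅G ⊓ centralizer ({a} : Set X) ⊓ centralizer (U : Set X), R⁆ ≤ U

theorem op_good {a : X} (ha : a ∈ R) (ha1 : a ≠ 1) :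
    Good p G R a (Cfsg.pCoreOf p ((G ⊓ centralizer ({a} : Set X)))) := by
  set C := G ⊓ centralizer ({a} : Set X)
  set X₀ := Cfsg.pCoreOf p C
  have hRC : R ≤ normalizer (C : Set X) := S.R_le_normalizer_ca ha
  have hRX : R ≤ normalizer (X₀ : Set X) := hRC.trans (normalizer_le_op C)
  have hCX : C ≤ normalizer (X₀ : Set X) := le_normalizer.trans (normalizer_le_op C)
  refine ⟨S.le_meet ((op_le C).trans inf_le_left) (isPGroup_op C) hRX
    ((S.fixed_le_ca ha).trans hCX), hRX, hCX, ?_⟩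
  set B := C ⊓ centralizer (X₀ : Set X)
  have hRB : R ≤ normalizer (B : Set X) :=
    CoprimeAction.le_normalizer_inf hRC (hRX.trans (normalizer_le_normalizer_centralizer _))
  set W := Res p C
  set Z := Fst C ⊓ centralizer (Fst C : Set X)
  have hCZ : normalizer (C : Set X) ≤ normalizer (Z : Set X) := fun g hg =>
    CoprimeAction.le_normalizer_inf (A := normalizer (C : Set X)) (normalizer_le_fst C)
      ((normalizer_le_fst C).trans (normalizer_le_normalizer_centralizer _)) hg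
  have hBR : ⁅B, R⁆ ≤ Z := by
    intro x hx
    have hxB : x ∈ B := CoprimeAction.commutator_le_self_of_le_normalizer hRB hx
    exact mem_fst_of_commute hxB.1
      (mem_centralizer_iff.2 fun y hy => mem_centralizer_iff.1 hxB.2 y hy)
      (commutator_centralizes (le_centralizer_iff.1 (le_centralizer_iff.1 (S.hloc a ha ha1)))
        ((inf_le_left : B ≤ C).trans (le_normalizer.trans (normalizer_le_res C))) hx)
  rw [← S.comm_eq (inf_le_left.trans inf_le_left) hRB]
  refine (commutator_mono hBR le_rfl).trans (commutator_le.2 fun z hz ρ hρ => ?_)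
  obtain ⟨u, hu, v, hv, rfl, ⟨k, hk⟩, hvc⟩ := exists_decomp (p := p) z
  have huZ : u ∈ Z := zpowers_le.2 hz hu
  have hvZ : v ∈ Z := zpowers_le.2 hz hv
  have huX : u ∈ X₀ := by
    have hZC : Z ≤ C := inf_le_left.trans (fst_le C)
    haveI : (Z.subgroupOf C).Normal :=
      normal_subgroupOf_of_le_normalizer (le_normalizer.trans hCZ)
    exact ⟨⟨u, hZC huZ⟩, QuadMeetGroup20.mem_pCore_of_central (Z.subgroupOf C)
      (fun x hx _ y hy => Subtype.ext (mem_centralizer_iff.1 hy.2 _ hx.1))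
      (show (⟨u, hZC huZ⟩ : C) ∈ Z.subgroupOf C from huZ) ⟨k, Subtype.ext hk⟩, rfl⟩
  have hvρ : v * ρ * v⁻¹ = ρ := by
    rw [mem_centralizer_iff.1 (S.hloc a ha ha1 hρ) v (mem_res hvZ.1 hvc), mul_inv_cancel_right]
  have : ⁅u * v, ρ⁆ = u * (ρ * u⁻¹ * ρ⁻¹) := by
    calc ⁅u * v, ρ⁆ = u * (v * ρ * v⁻¹) * u⁻¹ * ρ⁻¹ := by rw [commutatorElement_def]; group
      _ = _ := by rw [hvρ]; group
  rw [this]
  exact mul_mem huX (CoprimeAction.conj_mem (hRX hρ) (inv_mem huX))

/-- The quantity maximised. -/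
noncomputable def rank (p : ℕ) (G R U : Subgroup X) : ℕ :=
  Nat.card ↥(meet p G R ⊓ normalizer (U : Set X)) * (Nat.card X + 1) + Nat.card U

section maximal

variable {a : X} (ha : a ∈ R) {U : Subgroup X} (hU : Good p G R a U)
  (hmax : ∀ V, Good p G R a V → rank p G R V ≤ rank p G R U)

local notation "HH" => G ⊓ normalizer (U : Set X)
local notation "P1" => meet p G R ⊓ normalizer (U : Set X)

include ha hU hmax

theorem eq_of_le {V : Subgroup X} (hV : Good p G R a V) (hUV : U ≤ V)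
    (hP : P1 ≤ normalizer (V : Set X)) : U = V := by
  refine Subgroup.eq_of_le_of_card_ge hUV ?_
  have h := hmax V hV
  unfold rank at h
  have h1 : Nat.card ↥(P1) ≤ Nat.card ↥(PP ⊓ normalizer (V : Set X)) :=
    Nat.card_mono (Set.toFinite _) (le_inf inf_le_left hP : P1 ≤ _)
  have h2 := Nat.mul_le_mul_right (Nat.card X + 1) h1
  omega

theorem ca_le : (G ⊓ centralizer ({a} : Set X)) ≤ HH := le_inf inf_le_left hU.normC

theorem fixed_le_H : FF ≤ HH := (S.fixed_le_ca ha).trans (S.ca_le ha hU hmax)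

theorem R_le_H : R ≤ normalizer ((HH : Subgroup X) : Set X) :=
  CoprimeAction.le_normalizer_inf S.co.norm (hU.normR.trans le_normalizer)

theorem P1_le_H : P1 ≤ HH := le_inf (inf_le_left.trans fun _ h => h.1) inf_le_right

theorem R_le_P1 : R ≤ normalizer ((P1 : Subgroup X) : Set X) :=
  CoprimeAction.le_normalizer_inf S.R_le_meet (hU.normR.trans le_normalizer)

theorem fixed_le_P1 : FF ≤ normalizer ((P1 : Subgroup X) : Set X) :=
  CoprimeAction.le_normalizer_inf S.fixed_le_meet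
    (((S.fixed_le_ca ha).trans hU.normC).trans le_normalizer)

theorem U_le_P1 : U ≤ P1 := le_inf hU.le le_normalizer

theorem U_le_H : U ≤ HH := (S.U_le_P1 ha hU hmax).trans (S.P1_le_H ha hU hmax)

theorem isPGroup_U : IsPGroup p U := (isPGroup_meet S.co).to_le hU.le

theorem op_eq : U = Cfsg.pCoreOf p HH := by
  have hle : U ≤ Cfsg.pCoreOf p HH :=
    le_op (S.U_le_H ha hU hmax) inf_le_right (S.isPGroup_U ha hU hmax)
  have hn : HH ≤ normalizer (Cfsg.pCoreOf p HH : Set X) := le_normalizer.trans (normalizer_le_op _)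
  have hR' : R ≤ normalizer (Cfsg.pCoreOf p HH : Set X) :=
    (S.R_le_H ha hU hmax).trans (normalizer_le_op _)
  refine S.eq_of_le ha hU hmax ⟨S.le_meet ((op_le _).trans inf_le_left) (isPGroup_op _) hR'
    ((S.fixed_le_H ha hU hmax).trans hn), hR', (S.ca_le ha hU hmax).trans hn, ?_⟩ hle
    ((S.P1_le_H ha hU hmax).trans hn)
  exact ((commutator_mono (inf_le_inf_left _ (centralizer_le hle)) le_rfl).trans hU.star).trans hle

theorem U_le_centralizer : U ≤ centralizer (Res p HH : Set X) := by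
  rw [S.op_eq ha hU hmax]
  convert op_le_centralizer_res (p := p) HH using 3
  rw [← S.op_eq ha hU hmax]

theorem commute_U {w x : X} (hw : w ∈ Res p HH) (hx : x ∈ U) : Commute w x :=
  mem_centralizer_iff.1 (S.U_le_centralizer ha hU hmax hx) w hw

theorem H_le_res : HH ≤ normalizer (Res p HH : Set X) := le_normalizer.trans (normalizer_le_res _)

theorem R_le_res : R ≤ normalizer (Res p HH : Set X) :=
  (S.R_le_H ha hU hmax).trans (normalizer_le_res _)

theorem meet_res_le : PP ⊓ Res p HH ≤ U := by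
  set H := G ⊓ normalizer (U : Set X) with hH
  set W := Res p H with hW
  set V := meet p G R ⊓ W with hV
  have hWH : W ≤ H := res_le H
  have hWG : W ≤ G := hWH.trans inf_le_left
  have hHW : H ≤ normalizer (W : Set X) := S.H_le_res ha hU hmax
  have hRW : R ≤ normalizer (W : Set X) := S.R_le_res ha hU hmax
  have hRV : R ≤ normalizer (V : Set X) := CoprimeAction.le_normalizer_inf S.R_le_meet hRW
  have hFV : FF ≤ normalizer (V : Set X) := CoprimeAction.le_normalizer_inf S.fixed_le_meet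
    ((S.fixed_le_H ha hU hmax).trans hHW)
  have hVp : IsPGroup p V := (isPGroup_meet S.co).to_le inf_le_left
  have hCV : W ⊓ centralizer (zpowers a : Set X) ≤ normalizer (V : Set X) := by
    intro y hy
    rw [centralizer_zpowers] at hy
    set K := W ⊓ centralizer ({a} : Set X)
    have hKR : R ≤ normalizer (K : Set X) :=
      CoprimeAction.le_normalizer_inf hRW (S.R_le_normalizer_centralizer ha)
    obtain ⟨x, hx, c, hc, rfl⟩ := CoprimeAction.exists_mul_fixed hKR
      (S.cop (inf_le_left.trans hWG)) (Or.inl S.co.solv) hy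
    have hxU : x ∈ U := hU.star (commutator_mono (le_inf (inf_le_inf_right _ hWG)
      (inf_le_left.trans (le_centralizer_iff.1 (S.U_le_centralizer ha hU hmax)))) le_rfl hx)
    refine mul_mem (mem_normalizer_iff.2 fun v => ?_) (hFV ⟨hWG hc.1.1, hc.2⟩)
    constructor
    · intro hv
      rw [← (S.commute_U ha hU hmax hv.2 hxU).eq, mul_inv_cancel_right]; exact hv
    · intro hv
      have := (S.commute_U ha hU hmax hv.2 hxU).eq
      have e : x * v * x⁻¹ = v := by
        calc x * v * x⁻¹ = x⁻¹ * ((x * v * x⁻¹) * x) * x * x⁻¹ * x * x⁻¹ := by rw [this]; group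
          _ = _ := by group
      rwa [e] at hv
  have hcoW : Coact W R := S.co.mono hWG hRW
  have hzR : zpowers a ≤ R := zpowers_le.2 ha
  have hcoA : Coact W (zpowers a) :=
    ⟨hzR.trans hRW, CoprimeAction.coprime_of_le_left hzR hcoW.cop,
      CoprimeAction.isSolvable_zpowers a⟩
  obtain ⟨S₀, hS₀, hS₀R⟩ := hcoW.exists_inv (p := p)
  set U' := Subgroup.closure {z | ∃ y ∈ G ⊓ centralizer ({a} : Set X), ∃ v ∈ V, z = y * v * y⁻¹}
  have hU'S : U' ≤ S₀ := by
    refine (closure_le _).2 ?_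
    rintro _ ⟨y, hy, v, hv, rfl⟩
    have hyW : y ∈ normalizer (W : Set X) := hHW (S.ca_le ha hU hmax hy)
    have hS' : IsSyl p W (conjBy S₀ y⁻¹) := by
      refine ⟨?_, ?_⟩
      · rintro _ ⟨x, hx, rfl⟩
        exact CoprimeAction.conj_mem (inv_mem hyW) (hS₀.1 hx)
      · rw [← hS₀.2]; exact card_map_of_injective (MulAut.conj y⁻¹).injective
    have hA' : zpowers a ≤ normalizer (conjBy S₀ y⁻¹ : Set X) := by
      refine CoprimeAction.le_normalizer_of_conj_mem fun g hg x hx => ?_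
      rw [RankOne.mem_conjBy, inv_inv] at hx ⊢
      have hc : Commute y g := by
        obtain ⟨n, rfl⟩ := hg
        exact (show Commute y a from mem_centralizer_singleton_iff.1 hy.2).zpow_right n
      have := CoprimeAction.conj_mem (hS₀R (hzR hg)) hx
      convert this using 1
      calc y * (g * x * g⁻¹) * y⁻¹ = (y * g) * x * (y * g)⁻¹ := by group
        _ = (g * y) * x * (g * y)⁻¹ := by rw [hc.eq]
        _ = _ := by group
    have := (inMeet_of_normalised hcoA inf_le_right hVp (hzR.trans hRV) hCV v hv).2 _ hS' hA'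
    rwa [RankOne.mem_conjBy, inv_inv] at this
  have hU'W : U' ≤ W := hU'S.trans hS₀.1
  have hnorm : ∀ A : Subgroup X, (∀ g ∈ A, ∀ y ∈ G ⊓ centralizer ({a} : Set X), ∀ v ∈ V,
      g * (y * v * y⁻¹) * g⁻¹ ∈ U') → A ≤ normalizer (U' : Set X) := by
    intro A hA
    refine CoprimeAction.le_normalizer_of_conj_mem fun g hg x hx => ?_
    have : U' ≤ U'.comap (MulAut.conj g).toMonoidHom := (closure_le _).2 (by
      rintro _ ⟨y, hy, v, hv, rfl⟩; exact hA g hg y hy v hv)
    exact this hx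
  have hU'P : U' ≤ PP := by
    refine S.le_meet (hU'W.trans hWG) (hS₀.isPGroup.to_le hU'S)
      (hnorm R fun g hg y hy v hv => ?_) (hnorm _ fun g hg y hy v hv => ?_)
    · exact subset_closure ⟨g * y * g⁻¹, CoprimeAction.conj_mem (S.R_le_normalizer_ca ha hg) hy,
        g * v * g⁻¹, CoprimeAction.conj_mem (hRV hg) hv, by group⟩
    · exact subset_closure ⟨g * y, mul_mem (S.fixed_le_ca ha hg) hy, v, hv, by group⟩
  have hCaV : G ⊓ centralizer ({a} : Set X) ≤ normalizer (V : Set X) := by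
    refine CoprimeAction.le_normalizer_of_conj_mem fun y hy v hv => ?_
    have := subset_closure (k := {z | ∃ y ∈ G ⊓ centralizer ({a} : Set X), ∃ v ∈ V, z = y * v * y⁻¹})
      ⟨y, hy, v, hv, rfl⟩
    exact ⟨hU'P this, hU'W this⟩
  have hP1 : meet p G R ⊓ normalizer (U : Set X) ≤ normalizer ((U ⊔ V : Subgroup X) : Set X) :=
    (le_inf inf_le_right (CoprimeAction.le_normalizer_inf (inf_le_left.trans le_normalizer)
      ((S.P1_le_H ha hU hmax).trans hHW))).trans (normalizer_le_normalizer_sup U V)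
  have g1 : U ⊔ V ≤ meet p G R := sup_le hU.le inf_le_left
  have g2 : R ≤ normalizer ((U ⊔ V : Subgroup X) : Set X) :=
    (le_inf hU.normR hRV).trans (normalizer_le_normalizer_sup U V)
  have g3 : G ⊓ centralizer ({a} : Set X) ≤ normalizer ((U ⊔ V : Subgroup X) : Set X) :=
    (le_inf hU.normC hCaV).trans (normalizer_le_normalizer_sup U V)
  have g4 : ⁅G ⊓ centralizer ({a} : Set X) ⊓ centralizer ((U ⊔ V : Subgroup X) : Set X), R⁆ ≤ U ⊔ V := by
    refine le_trans ?_ ((hU.star).trans le_sup_left)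
    refine commutator_mono (inf_le_inf_left _ ?_) le_rfl
    exact centralizer_le (SetLike.coe_subset_coe.2 le_sup_left)
  have g5 : U ≤ U ⊔ V := le_sup_left
  have heq : U = U ⊔ V := S.eq_of_le ha hU hmax ⟨g1, g2, g3, g4⟩ g5 hP1
  exact (le_sup_right : V ≤ U ⊔ V).trans heq.ge

theorem comm_meet_U {w u : X} (hwn : w ∈ normalizer (PP : Set X)) (hw : w ∈ Res p HH)
    (hwc : (orderOf w).Coprime p) (hu : u ∈ P1) : Commute w u := by
  have hH := S.P1_le_H ha hU hmax hu
  have hmem : w * u * w⁻¹ * u⁻¹ ∈ U := S.meet_res_le ha hU hmax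
    (Subgroup.mem_inf.2 ⟨mul_mem (CoprimeAction.conj_mem hwn (Subgroup.mem_inf.1 hu).1) (inv_mem (Subgroup.mem_inf.1 hu).1), by
      have := mul_mem hw (CoprimeAction.conj_mem (S.H_le_res ha hU hmax hH) (inv_mem hw))
      simpa [mul_assoc] using this⟩)
  exact CharPBasic.commute_of_comm_commute (S.isPGroup_U ha hU hmax) hwc hmem
    (S.commute_U ha hU hmax hw hmem)

theorem fixed_commute_meet {z : X} (hzF : z ∈ FF) (hz : z ∈ Res p HH)
    (hzc : (orderOf z).Coprime p) : ∀ u ∈ PP, Commute z u :=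
  CharPBasic.commute_of_centralizes_fixed (isPGroup_meet S.co)
    ((isPGroup_meet S.co).to_le inf_le_left) (inf_le_left.trans le_normalizer) hzc
    (S.fixed_le_meet hzF) (fun u hu => S.comm_meet_U ha hU hmax (S.fixed_le_meet hzF) hz hzc hu)
    fun y hy hyQ => S.comm_meet_U ha hU hmax (S.fixed_le_meet hzF) hz hzc
      ⟨hy, centralizer_le_normalizer _
        (mem_centralizer_iff.2 fun x hx => (hyQ x (S.U_le_P1 ha hU hmax hx)).eq)⟩

theorem res_pprime_fixed {q : ℕ} [Fact q.Prime] (hq : q ≠ p) {T : Subgroup X}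
    (hTW : T ≤ Res p HH) (hT : IsPGroup q T) (hTR : R ≤ normalizer (T : Set X)) :
    T ≤ centralizer (R : Set X) := by
  have hWG : Res p HH ≤ G := (res_le _).trans inf_le_left
  have hTc : ∀ t ∈ T, (orderOf t).Coprime p := fun t ht => by
    obtain ⟨k, hk⟩ := IsPGroup.iff_orderOf.mp hT ⟨t, ht⟩
    rw [Subgroup.orderOf_mk] at hk
    rw [hk]; exact Nat.Coprime.pow_left _ ((Nat.coprime_primes Fact.out Fact.out).2 hq)
  refine S.gen_le (hTW.trans hWG) hTR fun c hc hc1 => ?_
  set Tc := T ⊓ centralizer ({c} : Set X)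
  set C := G ⊓ centralizer ({c} : Set X)
  set O := Cfsg.pCoreOf p C
  have hTC : Tc ≤ C := inf_le_inf_right _ (hTW.trans hWG)
  have hCO : C ≤ normalizer (O : Set X) := le_normalizer.trans (normalizer_le_op C)
  have hRC : R ≤ normalizer (C : Set X) := S.R_le_normalizer_ca hc
  have hTcR : R ≤ normalizer (Tc : Set X) :=
    CoprimeAction.le_normalizer_inf hTR (S.R_le_normalizer_centralizer hc)
  -- a second generator
  obtain ⟨d, hd, hd'⟩ : ∃ d ∈ R, d ∉ zpowers c := by
    by_contra hcon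
    push Not at hcon
    have h1 := Subgroup.card_dvd_of_le (show R ≤ zpowers c from hcon)
    rw [S.hcard, Nat.card_zpowers, S.orderOf_eq hc hc1] at h1
    have := Nat.le_of_dvd (Fact.out : r.Prime).pos h1
    nlinarith [(Fact.out : r.Prime).two_le]
  have hgen : zpowers c ⊔ zpowers d = R := by
    have hle : zpowers c ⊔ zpowers d ≤ R := sup_le (zpowers_le.2 hc) (zpowers_le.2 hd)
    refine Subgroup.eq_of_le_of_card_ge hle ?_
    have h1 := Subgroup.card_dvd_of_le hle
    rw [S.hcard] at h1 ⊢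
    obtain ⟨i, hi, hi'⟩ := (Nat.dvd_prime_pow Fact.out).1 h1
    rw [hi']
    refine Nat.pow_le_pow_right (Fact.out : r.Prime).pos ?_
    by_contra hlt
    have h2 : zpowers c = zpowers c ⊔ zpowers d := Subgroup.eq_of_le_of_card_ge le_sup_left (by
      rw [hi', Nat.card_zpowers, S.orderOf_eq hc hc1]
      calc r ^ i ≤ r ^ 1 := Nat.pow_le_pow_right (Fact.out : r.Prime).pos (by omega)
        _ = r := pow_one r)
    exact hd' (h2 ▸ mem_sup_right (mem_zpowers d))
  have hfix : ∀ x, x ∈ centralizer ({c} : Set X) → x ∈ centralizer ({d} : Set X) →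
      x ∈ centralizer (R : Set X) := by
    intro x hx hx'
    have : R ≤ centralizer ({x} : Set X) := hgen ▸ sup_le
      (zpowers_le.2 (mem_centralizer_singleton_iff.2 (mem_centralizer_singleton_iff.1 hx).symm))
      (zpowers_le.2 (mem_centralizer_singleton_iff.2 (mem_centralizer_singleton_iff.1 hx').symm))
    exact mem_centralizer_iff.2 fun y hy => mem_centralizer_singleton_iff.1 (this hy)
  have hd1 : d ≠ 1 := fun h => hd' (h ▸ one_mem _)
  have hO : Tc ≤ centralizer (O : Set X) := by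
    refine centralizes_of_fixed (r := r) (isPGroup_op C) (hTC.trans hCO)
      (hRC.trans (normalizer_le_op C) hd) (hTcR hd) (S.hexp d hd) ?_ ?_ ?_ ?_ ?_
    · obtain ⟨k, hk⟩ := IsPGroup.iff_card.1 (hT.to_le (inf_le_left : Tc ≤ T))
      rw [hk]; exact Nat.Coprime.pow_left _ ((Nat.coprime_primes Fact.out Fact.out).2 hq)
    · rw [← Nat.card_zpowers]
      exact CoprimeAction.coprime_of_le_left (zpowers_le.2 hd)
        (CoprimeAction.coprime_of_le_right (hTC.trans inf_le_left) S.co.cop)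
    · rw [S.orderOf_eq hd hd1]; exact (Nat.coprime_primes Fact.out Fact.out).2 S.hrp
    · intro t ht
      refine mem_centralizer_iff.2 fun o ho => ?_
      have htF : t ∈ FF := ⟨hWG (hTW ht.1.1), hfix t ht.1.2 ht.2⟩
      exact (S.fixed_commute_meet ha hU hmax htF (hTW ht.1.1) (hTc t ht.1.1) o
        ((S.op_good hc hc1).le ho)).eq.symm
    · intro o ho
      refine mem_centralizer_iff.2 fun t ht => ?_
      have hoF : o ∈ FF := ⟨(op_le C ho.1).1, hfix o (op_le C ho.1).2 ho.2⟩
      have hmem : t * o * t⁻¹ * o⁻¹ ∈ U := S.meet_res_le ha hU hmax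
        (Subgroup.mem_inf.2 ⟨(S.op_good hc hc1).le (mul_mem (CoprimeAction.conj_mem (hCO (hTC ht)) ho.1) (inv_mem ho.1)), by
          have := mul_mem (hTW ht.1) (CoprimeAction.conj_mem
            (S.H_le_res ha hU hmax (S.fixed_le_H ha hU hmax hoF)) (inv_mem (hTW ht.1)))
          simpa [mul_assoc] using this⟩)
      exact (CharPBasic.commute_of_comm_commute (S.isPGroup_U ha hU hmax) (hTc t ht.1) hmem
        (S.commute_U ha hU hmax (hTW ht.1) hmem)).eq
  refine S.le_fixed (inf_le_left.trans (hTW.trans hWG)) hTcR fun x hx => ?_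
  have hxT : x ∈ Tc := CoprimeAction.commutator_le_self_of_le_normalizer hTcR hx
  refine mem_centralizer_iff.2 fun ρ hρ => ?_
  refine (mem_centralizer_iff.1 (S.hloc c hc hc1 hρ) x ?_).symm
  exact mem_res_of_commute (hTC hxT) (hTc x hxT.1) (hO hxT) (commutator_centralizes
    (S.hloc c hc hc1) ((hTC.trans le_normalizer).trans (normalizer_le_res C)) hx)

theorem exists_mul_sylow {K : Subgroup X} (hKW : K ≤ Res p HH) (hKR : R ≤ normalizer (K : Set X)) :
    ∃ S₀, IsSyl p K S₀ ∧ R ≤ normalizer (S₀ : Set X) ∧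
      ∀ k ∈ K, ∃ c ∈ K ⊓ centralizer (R : Set X), ∃ s ∈ S₀, k = c * s := by
  have hKG : K ≤ G := hKW.trans ((res_le _).trans inf_le_left)
  have hco : Coact K R := S.co.mono hKG hKR
  obtain ⟨S₀, hS₀, hS₀R⟩ := hco.exists_inv (p := p)
  refine ⟨S₀, hS₀, hS₀R, ?_⟩
  set C := K ⊓ centralizer (R : Set X)
  have hdvd : Nat.card K * Nat.card ↥(C ⊓ S₀) ∣ Nat.card C * Nat.card S₀ := by
    rw [← Nat.factorization_le_iff_dvd (Nat.mul_ne_zero Nat.card_pos.ne' Nat.card_pos.ne')
      (Nat.mul_ne_zero Nat.card_pos.ne' Nat.card_pos.ne'),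
      Nat.factorization_mul Nat.card_pos.ne' Nat.card_pos.ne',
      Nat.factorization_mul Nat.card_pos.ne' Nat.card_pos.ne']
    intro q
    simp only [Finsupp.coe_add, Pi.add_apply]
    have h1 : (Nat.card ↥(C ⊓ S₀)).factorization q ≤ (Nat.card C).factorization q :=
      (Nat.factorization_le_iff_dvd Nat.card_pos.ne' Nat.card_pos.ne').2
        (Subgroup.card_dvd_of_le inf_le_left) q
    rcases eq_or_ne q p with rfl | hqp
    · rw [hS₀.2, Nat.Prime.factorization_pow Fact.out, Finsupp.single_eq_same]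
      omega
    by_cases hq : q.Prime
    swap
    · simp [Nat.factorization_eq_zero_of_not_prime _ hq]
    haveI := Fact.mk hq
    have h0 : (Nat.card ↥(C ⊓ S₀)).factorization q = 0 := by
      refine Nat.factorization_eq_zero_of_not_dvd fun hd => hqp ?_
      obtain ⟨i, hi⟩ := IsPGroup.iff_card.1 (hS₀.isPGroup.to_le (inf_le_right : C ⊓ S₀ ≤ S₀))
      rw [hi] at hd
      exact (Nat.prime_dvd_prime_iff_eq hq Fact.out).1 (hq.dvd_of_dvd_pow hd)
    obtain ⟨T, hT, hTR⟩ := hco.exists_inv (p := q)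
    have hTC : T ≤ C := le_inf hT.1
      (S.res_pprime_fixed ha hU hmax hqp (hT.1.trans hKW) hT.isPGroup hTR)
    have h2 := (Nat.factorization_le_iff_dvd Nat.card_pos.ne' Nat.card_pos.ne').2
      (Subgroup.card_dvd_of_le hTC) q
    rw [hT.2, Nat.Prime.factorization_pow hq, Finsupp.single_eq_same] at h2
    omega
  have hsub : (C : Set X) * (S₀ : Set X) ⊆ (K : Set X) := by
    rintro _ ⟨c, hc, s, hs, rfl⟩
    exact mul_mem hc.1 (hS₀.1 hs)
  have hle : Nat.card K ≤ Nat.card ((C : Set X) * (S₀ : Set X) : Set X) := by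
    have := Nat.le_of_dvd (Nat.mul_pos Nat.card_pos Nat.card_pos) hdvd
    rw [← KegelWielandt.card_set_mul C S₀] at this
    exact Nat.le_of_mul_le_mul_right this Nat.card_pos
  have heq := Set.eq_of_subset_of_ncard_le hsub (by
    rw [← Nat.card_coe_set_eq, ← Nat.card_coe_set_eq]; exact hle)
  intro k hk
  rw [← SetLike.mem_coe, ← heq] at hk
  obtain ⟨c, hc, s, hs, rfl⟩ := hk
  exact ⟨c, hc, s, hs, rfl⟩

theorem res_fixed : Res p HH ≤ centralizer (R : Set X) := by
  set H := G ⊓ normalizer (U : Set X) with hH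
  set W := Res p H with hW
  have hRW : R ≤ normalizer (W : Set X) := S.R_le_res ha hU hmax
  have hHW : H ≤ normalizer (W : Set X) := S.H_le_res ha hU hmax
  have hWH : W ≤ H := res_le H
  have hWG : W ≤ G := hWH.trans inf_le_left
  obtain ⟨S₀, hS₀, hS₀R, hdec⟩ := S.exists_mul_sylow ha hU hmax (le_refl W) hRW
  set Kc := ⁅W, R⁆
  have hKW : Kc ≤ W := CoprimeAction.commutator_le_self_of_le_normalizer hRW
  have hKR : R ≤ normalizer (Kc : Set X) := normalizer_commutator_ge_right W R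
  have hKN : Kc ≤ normalizer (S₀ : Set X) := by
    refine commutator_le.2 fun w hw ρ hρ => ?_
    obtain ⟨c, hc, s, hs, hcs⟩ := hdec w⁻¹ (inv_mem hw)
    have hws : w = s⁻¹ * c⁻¹ := by rw [← mul_inv_rev, ← hcs, inv_inv]
    have hρc : c⁻¹ * ρ * c = ρ := by
      rw [mul_assoc, mem_centralizer_iff.1 hc.2 ρ hρ, inv_mul_cancel_left]
    have hrew : ⁅w, ρ⁆ = s⁻¹ * (ρ * s * ρ⁻¹) := by
      rw [hws, commutatorElement_def]
      calc s⁻¹ * c⁻¹ * ρ * (s⁻¹ * c⁻¹)⁻¹ * ρ⁻¹ = s⁻¹ * (c⁻¹ * ρ * c) * s * ρ⁻¹ := by group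
        _ = _ := by rw [hρc]; group
    rw [hrew]
    exact le_normalizer (mul_mem (inv_mem hs) (CoprimeAction.conj_mem (hS₀R hρ) hs))
  have hpel : ∀ x ∈ Kc, (∃ k, x ^ p ^ k = 1) → x ∈ S₀ := by
    rintro x hx ⟨k, hk⟩
    have hz : IsPGroup p (zpowers x) := by
      rintro ⟨_, i, rfl⟩
      refine ⟨k, Subtype.ext ?_⟩
      show (x ^ i) ^ (p ^ k) = 1
      rw [← zpow_natCast, zpow_comm, zpow_natCast, hk, one_zpow]
    have := hS₀.eq_of_le (sup_le hS₀.1 (zpowers_le.2 (hKW hx)))
      (hS₀.isPGroup.to_sup_of_normal_left' hz (zpowers_le.2 (hKN hx))) le_sup_left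
    rw [this]
    exact mem_sup_right (mem_zpowers x)
  have hVU : Kc ⊓ S₀ ≤ U := by
    have h1 : Kc ⊓ S₀ ≤ Cfsg.pCoreOf p W := by
      refine le_op (inf_le_left.trans hKW) ?_ (hS₀.isPGroup.to_le inf_le_right)
      refine CoprimeAction.le_normalizer_of_conj_mem fun w hw x hx => ?_
      have hw' := CoprimeAction.conj_mem (normalizer_commutator_ge_left W R hw) hx.1
      obtain ⟨k, hk⟩ := hS₀.isPGroup ⟨x, hx.2⟩
      exact ⟨hw', hpel _ hw' ⟨k, by rw [conj_pow, show x ^ p ^ k = 1 from congrArg Subtype.val hk]; simp⟩⟩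
    rw [S.op_eq ha hU hmax]
    exact h1.trans (le_op ((op_le W).trans hWH) (hHW.trans (normalizer_le_op W)) (isPGroup_op W))
  obtain ⟨S₁, hS₁, -, hdec₁⟩ := S.exists_mul_sylow ha hU hmax hKW hKR
  have hS₁U : S₁ ≤ U := fun x hx => hVU ⟨hS₁.1 hx, by
    obtain ⟨k, hk⟩ := hS₁.isPGroup ⟨x, hx⟩
    exact hpel x (hS₁.1 hx) ⟨k, congrArg Subtype.val hk⟩⟩
  have hKU : Kc ≤ U := by
    have h : ⁅Kc, R⁆ ≤ U := by
      refine commutator_le.2 fun k hk ρ hρ => ?_
      obtain ⟨c, hc, s, hs, rfl⟩ := hdec₁ k hk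
      have hρc : c * ρ * c⁻¹ = ρ := by rw [← mem_centralizer_iff.1 hc.2 ρ hρ, mul_inv_cancel_right]
      have hρc' : c⁻¹ * ρ⁻¹ = ρ⁻¹ * c⁻¹ := by
        rw [← mul_inv_rev, ← mul_inv_rev, mem_centralizer_iff.1 hc.2 ρ hρ]
      have : ⁅c * s, ρ⁆ = c * (s * (ρ * s⁻¹ * ρ⁻¹)) * c⁻¹ := by
        simp [commutatorElement_def, mul_assoc, hρc']
      rw [this]
      exact CoprimeAction.conj_mem ((hKW.trans hWH) hc.1).2
        (mul_mem (hS₁U hs) (CoprimeAction.conj_mem (hU.normR hρ) (inv_mem (hS₁U hs))))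
    rwa [S.comm_eq hWG hRW] at h
  rw [res_le_iff]
  intro w hw hwc
  have hwW : w ∈ W := mem_res hw hwc
  refine mem_centralizer_iff.2 fun ρ hρ => ?_
  have hmem : w * ρ * w⁻¹ * ρ⁻¹ ∈ U := hKU (commutator_mem_commutator hwW hρ)
  exact (CharPBasic.commute_of_comm_commute (S.isPGroup_U ha hU hmax) hwc hmem
    (S.commute_U ha hU hmax hwW hmem)).eq.symm

theorem meet_le_normalizer : PP ≤ normalizer (U : Set X) ∧
    (G ⊓ centralizer ({a} : Set X)) ≤ normalizer ((Cfsg.kInfLower ↥(P1)).map (Subgroup.subtype P1) : Set X) := by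
  set H := G ⊓ normalizer (U : Set X) with hH
  set W := Res p H with hW
  set Q := meet p G R ⊓ normalizer (U : Set X) with hQ
  set N := H ⊓ centralizer (W : Set X) with hN
  have hWH : W ≤ H := res_le H
  have hWfix : W ≤ centralizer (R : Set X) := S.res_fixed ha hU hmax
  have hHR : R ≤ normalizer (H : Set X) := S.R_le_H ha hU hmax
  have hHN : H ≤ normalizer (N : Set X) := CoprimeAction.le_normalizer_inf le_normalizer
    ((S.H_le_res ha hU hmax).trans (normalizer_le_normalizer_centralizer _))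
  have hRN : R ≤ normalizer (N : Set X) := CoprimeAction.le_normalizer_inf hHR
    ((S.R_le_res ha hU hmax).trans (normalizer_le_normalizer_centralizer _))
  have hUN : U ≤ N := le_inf (S.U_le_H ha hU hmax) (S.U_le_centralizer ha hU hmax)
  have hQN : Q ≤ N := by
    refine le_inf (S.P1_le_H ha hU hmax) (le_centralizer_iff.1 (res_le_iff.2 fun w hw hwc => ?_))
    have hwW : w ∈ W := mem_res hw hwc
    refine mem_centralizer_iff.2 fun u hu => (S.comm_meet_U ha hU hmax
      (S.fixed_le_meet ⟨(hWH hwW).1, hWfix hwW⟩) hwW hwc hu).eq.symm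
  have hQp : IsPGroup p Q := (isPGroup_meet S.co).to_le inf_le_left
  have hHRN : ⁅H, R⁆ ≤ N := le_inf (CoprimeAction.commutator_le_self_of_le_normalizer hHR)
    (commutator_centralizes (le_centralizer_iff.1 hWfix) (S.H_le_res ha hU hmax))
  -- the group `N R`
  set Y := N ⊔ R
  have hNY : N ≤ Y := le_sup_left
  have hRY : R ≤ Y := le_sup_right
  set N' := N.subgroupOf Y
  set R' := R.subgroupOf Y
  set Q' := Q.subgroupOf Y
  haveI : N'.Normal :=
    (normal_subgroupOf_iff_le_normalizer hNY).2 (sup_le le_normalizer hRN)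
  have hNR : N' ⊔ R' = ⊤ := by rw [← subgroupOf_sup hNY hRY, subgroupOf_self]
  have hNG : N ≤ G := inf_le_left.trans inf_le_left
  have hR' : IsPGroup r R' := S.hR.of_equiv (subgroupOfEquivOfLe hRY).symm
  have hcopN : (Nat.card N').Coprime r := by
    rw [Nat.card_congr (subgroupOfEquivOfLe hNY).toEquiv]
    exact (S.cop hNG).symm.coprime_dvd_right (by rw [S.hcard]; exact dvd_pow_self r two_ne_zero)
  set T := Cfsg.pCore p Y
  have hTN : T ≤ N' := by
    rw [← QuotientGroup.ker_mk' N', ← Subgroup.map_eq_bot_iff]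
    have h1 : T.map (QuotientGroup.mk' N') ≤ R'.map (QuotientGroup.mk' N') := by
      calc T.map (QuotientGroup.mk' N') ≤ (N' ⊔ R').map (QuotientGroup.mk' N') :=
            map_mono (hNR ▸ le_top)
        _ = R'.map (QuotientGroup.mk' N') := by
            rw [Subgroup.map_sup, QuotientGroup.map_mk'_self, bot_sup_eq]
    exact disjoint_self.1 (IsPGroup.disjoint_of_ne p r S.hrp.symm _ _
      ((HallCore.isPGroup_pCore p Y).map _) ((hR'.map _).to_le h1))
  have hUY : U ≤ Y := hUN.trans hNY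
  have hUT : U.subgroupOf Y ≤ T := by
    haveI : (U.subgroupOf Y).Normal := (normal_subgroupOf_iff_le_normalizer hUY).2
      (sup_le (inf_le_left.trans inf_le_right) hU.normR)
    exact HallCore.le_pCore ((S.isPGroup_U ha hU hmax).of_equiv (subgroupOfEquivOfLe hUY).symm)
  have hTU : ∀ t ∈ T, (t : X) ∈ U := by
    intro t ht
    have h1 : T.map Y.subtype ≤ Cfsg.pCoreOf p N := by
      refine le_op ?_ ?_ ((HallCore.isPGroup_pCore p Y).map _)
      · rintro _ ⟨x, hx, rfl⟩; exact hTN hx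
      · haveI := HallCore.pCore_normal p Y
        refine hNY.trans ?_
        have h := le_normalizer_map (H := T) Y.subtype
        rwa [normalizer_eq_top_iff.2 inferInstance, ← MonoidHom.range_eq_map, range_subtype] at h
    rw [S.op_eq ha hU hmax]
    exact le_op ((op_le N).trans inf_le_left) (hHN.trans (normalizer_le_op N)) (isPGroup_op N)
      (h1 (mem_map_of_mem _ ht))
  have hc : ∀ x ∈ N', x ∈ centralizer (T : Set Y) → (orderOf x).Coprime p →
      ∀ y ∈ N', x * y = y * x := by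
    intro x hx hxT hxc y hy
    have hxW : (x : X) ∈ W := by
      refine mem_res_of_commute (p := p) hx.1 (by rwa [orderOf_coe]) ?_ hx.2
      rw [← S.op_eq ha hU hmax]
      exact mem_centralizer_iff.2 fun u hu =>
        congrArg Subtype.val (mem_centralizer_iff.1 hxT ⟨u, hUY hu⟩ (hUT hu))
    exact Subtype.ext (mem_centralizer_iff.1 hy.2 _ hxW)
  have hQY : Q ≤ Y := hQN.trans hNY
  have hcoN : Coact N R := S.co.mono hNG hRN
  have hPmeet : ∀ g ∈ Q', InMeet p N' R' g := fun g hg =>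
    (inMeet_of_normalised hcoN hQN hQp (S.R_le_P1 ha hU hmax)
      ((inf_le_inf_right _ hNG).trans (S.fixed_le_P1 ha hU hmax)) g hg).subgroupOf hNY hRY
  have hnormal := QuadMeetGroup20.kInfLower_normal' (p := p) (r := r) S.hp S.hrp hNR hR' hcopN hc Q'
    (hQp.of_equiv (subgroupOfEquivOfLe hQY).symm)
    (fun t ht => mem_subgroupOf.2 (S.U_le_P1 ha hU hmax (hTU t ht))) hPmeet
  set K := (Cfsg.kInfLower ↥Q).map Q.subtype with hKdef
  have hKe : K = ((Cfsg.kInfLower ↥Q').map Q'.subtype).map Y.subtype := by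
    rw [hKdef, ← ConjFunctorKInf.map_kInfLower (subgroupOfEquivOfLe hQY), Subgroup.map_map,
      Subgroup.map_map]
    rfl
  have hYK : Y ≤ normalizer (K : Set X) := by
    haveI := hnormal
    rw [hKe]
    refine le_trans ?_ (le_normalizer_map _)
    rw [normalizer_eq_top]
    exact le_of_eq (by rw [← MonoidHom.range_eq_map, range_subtype])
  have hNQ : normalizer (Q : Set X) ≤ normalizer (K : Set X) :=
    haveI := ConjFunctorKInf.kInfLower_characteristic ↥Q
    ComponentsCores.normalizer_le_normalizer_map_subtype Q _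
  have hHK : H ≤ normalizer (K : Set X) := by
    intro h hh
    obtain ⟨x, hx, c, hc, rfl⟩ := CoprimeAction.exists_mul_fixed hHR (S.cop inf_le_left)
      (Or.inl S.co.solv) hh
    exact mul_mem (hYK (hNY (hHRN hx))) (hNQ (S.fixed_le_P1 ha hU hmax ⟨hc.1.1, hc.2⟩))
  have hKQ : K ≤ Q := map_subtype_le _
  have hstar : ⁅G ⊓ centralizer ({a} : Set X) ⊓ centralizer (K : Set X), R⁆ ≤ K := by
    set B := G ⊓ centralizer ({a} : Set X) ⊓ centralizer (K : Set X)
    have hRK : R ≤ normalizer (K : Set X) := hRY.trans hYK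
    have hRB : R ≤ normalizer (B : Set X) := CoprimeAction.le_normalizer_inf
      (S.R_le_normalizer_ca ha) (hRK.trans (normalizer_le_normalizer_centralizer _))
    have hBH : B ≤ H := inf_le_left.trans (S.ca_le ha hU hmax)
    set D := N ⊓ centralizer (K : Set X)
    have hBD : ⁅B, R⁆ ≤ D := le_inf ((commutator_mono hBH le_rfl).trans hHRN)
      ((CoprimeAction.commutator_le_self_of_le_normalizer hRB).trans inf_le_right)
    have hcomm : ∀ x ∈ D, (orderOf x).Coprime p → x ∈ W := by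
      intro x hx hxc
      refine mem_res_of_commute hx.1.1 hxc ?_ hx.1.2
      rw [← S.op_eq ha hU hmax]
      refine mem_centralizer_iff.2 fun u hu => (CharPBasic.commute_of_centralizes_fixed
        (S.isPGroup_U ha hU hmax) (hQp.to_le hKQ) (hKQ.trans inf_le_right) hxc
        (show x ∈ normalizer (U : Set X) from hx.1.1.2)
        (fun q hq => (mem_centralizer_iff.1 hx.2 q hq).symm) (fun y hy hyK => ?_) u hu).eq.symm
      have hyQ : y ∈ Q := S.U_le_P1 ha hU hmax hy
      have hyK' : (⟨y, hyQ⟩ : ↥Q) ∈ centralizer (Cfsg.kInfLower ↥Q : Set ↥Q) :=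
        mem_centralizer_iff.2 fun z hz => Subtype.ext (hyK _ (mem_map_of_mem _ hz)).eq
      have : y ∈ K := ⟨_, (ConjFunctorKInf.centralizer_kInf ↥Q hQp).1 hyK', rfl⟩
      exact (mem_centralizer_iff.1 hx.2 y this).symm
    rw [← S.comm_eq (hBH.trans inf_le_left) hRB]
    refine (commutator_mono hBD le_rfl).trans (commutator_le.2 fun d hd ρ hρ => ?_)
    obtain ⟨u, hu, v, hv, rfl, hup, hvc⟩ := exists_decomp (p := p) d
    have huD : u ∈ D := zpowers_le.2 hd hu
    have hvD : v ∈ D := zpowers_le.2 hd hv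
    have hvρ : v * ρ * v⁻¹ = ρ := by
      rw [← mem_centralizer_iff.1 (hWfix (hcomm v hvD hvc)) ρ hρ, mul_inv_cancel_right]
    have huK : u ∈ K := by
      haveI : (D.subgroupOf H).Normal := normal_subgroupOf_of_le_normalizer
        (CoprimeAction.le_normalizer_inf hHN (hHK.trans (normalizer_le_normalizer_centralizer _)))
      have huU : u ∈ U := by
        rw [S.op_eq ha hU hmax]
        obtain ⟨k, hk⟩ := hup
        exact ⟨⟨u, huD.1.1⟩, QuadMeetGroup20.mem_pCore_of_central (D.subgroupOf H)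
          (fun x hx hxc y hy => Subtype.ext
            (mem_centralizer_iff.1 hy.1.2 _ (hcomm x hx (by rwa [orderOf_coe]))))
          (show (⟨u, huD.1.1⟩ : H) ∈ D.subgroupOf H from huD) ⟨k, Subtype.ext hk⟩, rfl⟩
      have hu' : (⟨u, S.U_le_P1 ha hU hmax huU⟩ : ↥Q) ∈
          centralizer (Cfsg.kInfLower ↥Q : Set ↥Q) :=
        mem_centralizer_iff.2 fun z hz => Subtype.ext (mem_centralizer_iff.1 huD.2 _ (mem_map_of_mem _ hz))
      exact ⟨_, (ConjFunctorKInf.centralizer_kInf ↥Q hQp).1 hu', rfl⟩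
    have : ⁅u * v, ρ⁆ = u * (ρ * u⁻¹ * ρ⁻¹) := by
      calc ⁅u * v, ρ⁆ = u * (v * ρ * v⁻¹) * u⁻¹ * ρ⁻¹ := by rw [commutatorElement_def]; group
        _ = _ := by rw [hvρ]; group
    rw [this]
    exact mul_mem huK (CoprimeAction.conj_mem (hRK hρ) (inv_mem huK))
  have hgood : Good p G R a K :=
    ⟨hKQ.trans inf_le_left, hRY.trans hYK, (S.ca_le ha hU hmax).trans hHK, hstar⟩
  refine ⟨?_, (S.ca_le ha hU hmax).trans hHK⟩
  by_contra hnle
  have hlt : Q < meet p G R := lt_of_le_of_ne inf_le_left fun h => hnle (h ▸ inf_le_right)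
  haveI : Group.IsNilpotent (meet p G R : Subgroup X) := (isPGroup_meet S.co).isNilpotent
  obtain ⟨n, hnN, hnQ⟩ := SetLike.exists_of_lt (Group.normalizerCondition_of_isNilpotent
    (Q.subgroupOf (meet p G R)) (lt_top_iff_ne_top.2 fun h => hlt.not_ge (subgroupOf_eq_top.1 h)))
  have hnQ' : (n : X) ∈ normalizer (Q : Set X) := by
    have key : ∀ m : ↥(meet p G R), m ∈ normalizer ((Q.subgroupOf (meet p G R) : Subgroup _) : Set _) →
        ∀ y ∈ Q, (m : X) * y * (m : X)⁻¹ ∈ Q := fun m hm y hy =>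
      (mem_normalizer_iff.1 hm ⟨y, hlt.le hy⟩).1 hy
    refine mem_normalizer_iff.2 fun y => ⟨key n hnN y, fun hy => ?_⟩
    simpa [mul_assoc] using key n⁻¹ (inv_mem hnN) _ hy
  have hbig : Q < meet p G R ⊓ normalizer (K : Set X) :=
    lt_of_le_of_ne (le_inf inf_le_left (le_normalizer.trans hNQ)) fun h => hnQ (mem_subgroupOf.2
      (h ▸ (⟨n.2, hNQ hnQ'⟩ : (n : X) ∈ meet p G R ⊓ normalizer (K : Set X))))
  have h1 : Nat.card Q + 1 ≤ Nat.card ↥(meet p G R ⊓ normalizer (K : Set X)) := by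
    by_contra h
    exact hbig.ne (Subgroup.eq_of_le_of_card_ge hbig.le (by omega))
  have h2 := hmax K hgood
  unfold rank at h2
  have h3 := Nat.mul_le_mul_right (Nat.card X + 1) h1
  have h4 := Nat.card_le_card_of_injective _ U.subtype_injective
  rw [← hQ] at h2
  rw [add_one_mul] at h3
  omega

end maximal

/-- **The centralisers normalise the lower K-infinity subgroup of the meet.** -/
theorem ca_normalizes {a : X} (ha : a ∈ R) (ha1 : a ≠ 1) :
    (G ⊓ centralizer ({a} : Set X)) ≤ normalizer ((Cfsg.kInfLower ↥(PP)).map (Subgroup.subtype PP) : Set X) := by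
  haveI : Nonempty {U : Subgroup X // Good p G R a U} := ⟨⟨_, S.op_good ha ha1⟩⟩
  obtain ⟨⟨U, hU⟩, hmax⟩ :=
    Finite.exists_max fun U : {U : Subgroup X // Good p G R a U} => rank p G R U.1
  obtain ⟨h1, h2⟩ := S.meet_le_normalizer ha hU fun V hV => hmax ⟨V, hV⟩
  have e : meet p G R ⊓ normalizer (U : Set X) = meet p G R := inf_eq_left.2 h1
  rw [e] at h2
  exact h2

theorem R_fixes (hperf : ⁅G, G⁆ = G) (hOp : Cfsg.pCoreOf p G ≤ centralizer (G : Set X)) :
    R ≤ centralizer (G : Set X) := by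
  set P := meet p G R
  set K := (Cfsg.kInfLower ↥P).map P.subtype
  have hGK : G ≤ normalizer (K : Set X) :=
    S.gen_le le_rfl S.co.norm fun a ha ha1 => S.ca_normalizes ha ha1
  have hKG : K ≤ G := (map_subtype_le _).trans fun _ h => h.1
  have hKc : K ≤ centralizer (G : Set X) :=
    (le_op hKG hGK ((isPGroup_meet S.co).to_le (map_subtype_le _))).trans hOp
  have hPc : P ≤ centralizer (G : Set X) := by
    intro x hx
    refine hKc ⟨⟨x, hx⟩, (ConjFunctorKInf.centralizer_kInf ↥P (isPGroup_meet S.co)).1 ?_, rfl⟩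
    exact mem_centralizer_iff.2 fun z hz => Subtype.ext
      (mem_centralizer_iff.1 (hKc (mem_map_of_mem P.subtype hz)) x hx.1).symm
  let L : Subgroup X :=
    { carrier := {g | g ∈ G ∧ ∀ ρ ∈ R, ⁅g, ρ⁆ ∈ centralizer (G : Set X)}
      one_mem' := ⟨one_mem G, fun ρ _ => by simp [one_mem]⟩
      mul_mem' := fun {g h} hg hh => ⟨mul_mem hg.1 hh.1, fun ρ hρ => by
        have e : ⁅g * h, ρ⁆ = g * ⁅h, ρ⁆ * g⁻¹ * ⁅g, ρ⁆ := by simp [commutatorElement_def, mul_assoc]
        rw [e, mem_centralizer_iff.1 (hh.2 ρ hρ) g hg.1, mul_inv_cancel_right]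
        exact mul_mem (hh.2 ρ hρ) (hg.2 ρ hρ)⟩
      inv_mem' := fun {g} hg => ⟨inv_mem hg.1, fun ρ hρ => by
        have e : ⁅g⁻¹, ρ⁆ = g⁻¹ * ⁅g, ρ⁆⁻¹ * g := by simp [commutatorElement_def, mul_assoc]
        rw [e, mem_centralizer_iff.1 (inv_mem (hg.2 ρ hρ)) g⁻¹ (inv_mem hg.1), inv_mul_cancel_right]
        exact inv_mem (hg.2 ρ hρ)⟩ }
  have hL : G ≤ L := S.gen_le le_rfl S.co.norm fun a ha ha1 x hx => ⟨hx.1, fun ρ hρ => by
    have hgood := S.op_good ha ha1
    refine hPc (hgood.le (hgood.star (commutator_mem_commutator ⟨hx, ?_⟩ hρ)))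
    exact mem_centralizer_iff.2 fun y hy =>
      (mem_centralizer_iff.1 (hPc (hgood.le hy)) x hx.1).symm⟩
  have h1 : ⁅⁅G, R⁆, G⁆ = ⊥ := commutator_eq_bot_iff_le_centralizer.2
    (commutator_le.2 fun g hg ρ hρ => (hL hg).2 ρ hρ)
  have h2 : ⁅⁅R, G⁆, G⁆ = ⊥ := by rw [commutator_comm R G]; exact h1
  have h3 := commutator_commutator_eq_bot_of_rotate h1 h2
  rw [hperf] at h3
  exact le_centralizer_iff.1 (commutator_eq_bot_iff_le_centralizer.1 h3)

end Setup

end Cfsg.Agent.LocalResidual20
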