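import Mathlib
import Cfsg.Agent.Lib.LocalSymAlg42

/-!
# Layers of dimension one in the radical of a local symmetric algebra

`Thin R n`: the `n`-th layer `R ^ n / R ^ (n + 1)` has dimension at most one. If the layer `n ≥ 2` is
thin then `R ^ (n - 1)` is central (Külshammer's lemma); a central subspace of the radical has small
dimension.
-/

set_option autoImplicit false
set_option linter.unusedSectionVars false

namespace Cfsg.Agent.LocalSymLayer27

open BrandtAlgebra42 LocalSymAlg42

variable {k : Type*} [Field k] {A : Type*} [Ring A] [Algebra k A]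

/-- The `n`-th layer has dimension at most one. -/
def Thin (R : Submodule k A) (n : ℕ) : Prop :=
  ∃ g : A, R ^ n ≤ Submodule.span k {g} ⊔ R ^ (n + 1)

theorem mul_mem_pow {R : Submodule k A} {a b : A} {i j : ℕ} (ha : a ∈ R ^ i) (hb : b ∈ R ^ j) :
    a * b ∈ R ^ (i + j) := by
  rw [pow_add]; exact Submodule.mul_mem_mul ha hb

theorem mul_mem_pow_right {R : Submodule k A} {a b : A} {i : ℕ} (ha : a ∈ R ^ i) (hb : b ∈ R) :
    a * b ∈ R ^ (i + 1) := by
  rw [pow_succ]; exact Submodule.mul_mem_mul ha hb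

theorem mul_mem_pow_left {R : Submodule k A} {a b : A} {i : ℕ} (ha : a ∈ R) (hb : b ∈ R ^ i) :
    a * b ∈ R ^ (i + 1) := by
  rw [pow_succ']; exact Submodule.mul_mem_mul ha hb

theorem pow_mul_mem {R : Submodule k A} {z w : A} {j : ℕ} (hz : z ∈ R) (hw : w ∈ R ^ j) :
    ∀ i : ℕ, z ^ i * w ∈ R ^ (j + i)
  | 0 => by simpa using hw
  | i + 1 => by
    rw [pow_succ', mul_assoc, ← add_assoc]
    exact mul_mem_pow_left hz (pow_mul_mem hz hw i)

variable {R : Submodule k A} (hmul : R * R ≤ R)

include hmul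

theorem pow_anti {i j : ℕ} (hi : 0 < i) (hij : i ≤ j) : R ^ j ≤ R ^ i := by
  induction j, hij using Nat.le_induction with
  | base => exact le_rfl
  | succ j hij ih =>
    refine le_trans ?_ ih
    obtain ⟨l, rfl⟩ : ∃ l, j = l + 1 := ⟨j - 1, by omega⟩
    rw [pow_succ, pow_succ, mul_assoc]
    exact mul_le_mul' le_rfl hmul

variable {N : ℕ} (hnil : R ^ (N + 1) = ⊥)

include hnil

/-- A subspace which fills every layer from the `n`-th on contains `R ^ n`. -/
theorem le_of_layers {U : Submodule k A} {n : ℕ} (hn : 0 < n)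
    (h : ∀ i, R ^ (n + i) ≤ U ⊔ R ^ (n + i + 1)) : R ^ n ≤ U := by
  have key : ∀ i, R ^ n ≤ U ⊔ R ^ (n + i) := by
    intro i
    induction i with
    | zero => exact le_sup_right
    | succ i ih => exact ih.trans (sup_le le_sup_left (h i))
  refine (key (N + 1)).trans (sup_le le_rfl ?_)
  refine (pow_anti hmul N.succ_pos (by omega)).trans ?_
  rw [hnil]; exact bot_le

theorem eq_bot_of_le_succ {n : ℕ} (hn : 0 < n) (h : R ^ n ≤ R ^ (n + 1)) : R ^ n = ⊥ := by
  refine eq_bot_iff.2 (le_of_layers hmul hnil hn fun i => ?_)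
  refine le_trans ?_ le_sup_right
  rw [add_right_comm, pow_add, pow_add (R) (n + 1)]
  exact mul_le_mul' h le_rfl

omit hnil in
/-- An element outside the deeper power generates a thin layer. -/
theorem gen_of_not_mem {n : ℕ} (h : Thin R n) (hn : 0 < n) {w : A} (hw : w ∈ R ^ n)
    (hw' : w ∉ R ^ (n + 1)) : R ^ n ≤ Submodule.span k {w} ⊔ R ^ (n + 1) := by
  obtain ⟨g, hg⟩ := h
  obtain ⟨u, hu, r, hr, hsum⟩ := Submodule.mem_sup.1 (hg hw)
  obtain ⟨t, rfl⟩ := Submodule.mem_span_singleton.1 hu
  have ht : t ≠ 0 := fun h0 => hw' (by rw [← hsum, h0, zero_smul, zero_add]; exact hr)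
  refine hg.trans (sup_le (Submodule.span_le.2 (Set.singleton_subset_iff.2 ?_)) le_sup_right)
  refine Submodule.mem_sup.2 ⟨t⁻¹ • w, Submodule.mem_span_singleton.2 ⟨_, rfl⟩, -(t⁻¹ • r),
    neg_mem (Submodule.smul_mem _ _ hr), ?_⟩
  rw [← hsum, smul_add, inv_smul_smul₀ ht]; abel

omit hnil in
/-- Multiplying a generator of a thin layer by the radical. -/
theorem succ_le_mul_span {n : ℕ} {g : A} (hg : R ^ n ≤ Submodule.span k {g} ⊔ R ^ (n + 1)) :
    R ^ (n + 1) ≤ R * Submodule.span k {g} ⊔ R ^ (n + 2) := by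
  rw [pow_succ' R n]
  refine (mul_le_mul' le_rfl hg).trans ?_
  rw [Submodule.mul_sup]
  exact sup_le_sup_left (by rw [pow_succ' R (n + 1)]) _

omit hnil in
/-- Thin layers stay thin. -/
theorem thin_succ {n : ℕ} (hn : 2 ≤ n) (h : Thin R n) : Thin R (n + 1) := by
  obtain ⟨m, rfl⟩ : ∃ m, n = m + 2 := ⟨n - 2, by omega⟩
  by_cases hall : ∀ u ∈ R ^ (m + 1), ∀ v ∈ R, u * v ∈ R ^ (m + 3)
  · refine ⟨0, le_trans ?_ le_sup_right⟩
    rw [pow_succ' R (m + 2), pow_succ' R (m + 3)]
    refine mul_le_mul' le_rfl ?_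
    rw [pow_succ]
    exact Submodule.mul_le.2 hall
  push Not at hall
  obtain ⟨u, hu, v, hv, huv⟩ := hall
  have hgen := gen_of_not_mem hmul h (by omega) (mul_mem_pow_right hu hv) huv
  refine ⟨u * v * v, (succ_le_mul_span hmul hgen).trans (sup_le ?_ le_sup_right)⟩
  refine Submodule.mul_le.2 fun z hz w hw => ?_
  obtain ⟨t, rfl⟩ := Submodule.mem_span_singleton.1 hw
  rw [mul_smul_comm, ← mul_assoc]
  refine Submodule.smul_mem _ t ?_
  obtain ⟨s', hs, r, hr, hsum⟩ := Submodule.mem_sup.1 (hgen (mul_mem_pow_left hz hu))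
  obtain ⟨s, rfl⟩ := Submodule.mem_span_singleton.1 hs
  rw [← hsum, add_mul, smul_mul_assoc]
  exact Submodule.add_mem_sup (Submodule.smul_mem _ _ (Submodule.mem_span_singleton_self _))
    (mul_mem_pow_right hr hv)

variable (τ : A →ₗ[k] k) (hτ : IsTr τ) (hnd : ∀ x ∈ R, τ x = 0 → (∀ y ∈ R, τ (x * y) = 0) → x = 0)

include hτ hnd

/-- Külshammer's lemma: below a thin layer the radical is central. -/
theorem central_of_thin {n : ℕ} (hn : 2 ≤ n) (h : Thin R n) :
    ∀ a ∈ R ^ (n - 1), ∀ b ∈ R, a * b = b * a := by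
  obtain ⟨m, rfl⟩ : ∃ m, n = m + 2 := ⟨n - 2, by omega⟩
  rw [show m + 2 - 1 = m + 1 from rfl]
  suffices key : ∀ a ∈ R ^ (m + 1), ∀ b ∈ R, ∀ c ∈ R, a * b * c = a * c * b by
    intro a ha b hb
    have haR : a ∈ R := by
      have := pow_anti hmul one_pos (by omega : 1 ≤ m + 1) ha
      rwa [pow_one] at this
    refine sub_eq_zero.1 (hnd _ (sub_mem (hmul (Submodule.mul_mem_mul haR hb))
      (hmul (Submodule.mul_mem_mul hb haR))) (by rw [map_sub, hτ, sub_self]) fun c hc => ?_)
    rw [sub_mul, map_sub, mul_assoc b a c, hτ b (a * c), key a ha b hb c hc, sub_self]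
  by_cases h3 : R ^ (m + 3) = ⊥
  · intro a ha b hb c hc
    have h1 := mul_mem_pow_right (mul_mem_pow_right ha hb) hc
    have h2 := mul_mem_pow_right (mul_mem_pow_right ha hc) hb
    rw [show m + 1 + 1 + 1 = m + 3 from rfl, h3, Submodule.mem_bot] at h1 h2
    rw [h1, h2]
  obtain ⟨g, hg⟩ := h
  have hthin' : Thin R (m + 3) := thin_succ hmul hn ⟨g, hg⟩
  -- an element moving the layer to the next one
  obtain ⟨z, hz, hzg⟩ : ∃ z ∈ R, ¬ ∀ w ∈ R ^ (m + 2), z * w ∈ R ^ (m + 4) := by
    by_contra hno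
    push Not at hno
    refine h3 (eq_bot_of_le_succ hmul hnil (by omega) ?_)
    rw [pow_succ' R (m + 2)]
    exact Submodule.mul_le.2 fun z hz w hw => hno z hz w hw
  -- the claim for an element not killed by `z`
  have hgood : ∀ a ∈ R ^ (m + 1), z * a ∉ R ^ (m + 3) → ∀ b ∈ R, ∀ c ∈ R,
      a * b * c = a * c * b := by
    intro a ha hza
    set g₀ := z * a with hg₀
    have hg₀m : g₀ ∈ R ^ (m + 2) := mul_mem_pow_left hz ha
    have hgen := gen_of_not_mem hmul ⟨g, hg⟩ (by omega) hg₀m hza
    have hzg₀ : z * g₀ ∉ R ^ (m + 4) := by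
      intro hmem
      refine hzg fun w hw => ?_
      obtain ⟨u, hu, r, hr, rfl⟩ := Submodule.mem_sup.1 (hgen hw)
      obtain ⟨t, rfl⟩ := Submodule.mem_span_singleton.1 hu
      rw [mul_add, mul_smul_comm]
      exact add_mem (Submodule.smul_mem _ _ hmem) (mul_mem_pow_left hz hr)
    have hgen' := gen_of_not_mem hmul hthin' (by omega) (mul_mem_pow_left hz hg₀m) hzg₀
    let S : Submodule k A := Submodule.span k (Set.range fun i : ℕ => z ^ i * g₀)
    have hlayer : ∀ i, R ^ (m + 2 + i) ≤ Submodule.span k {z ^ i * g₀} ⊔ R ^ (m + 2 + i + 1) := by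
      intro i
      induction i with
      | zero => simpa using hgen
      | succ i ih =>
        rw [show m + 2 + (i + 1) = m + 2 + i + 1 from rfl, pow_succ R (m + 2 + i)]
        refine (mul_le_mul' ih le_rfl).trans ?_
        rw [Submodule.sup_mul]
        refine sup_le (Submodule.mul_le.2 fun u hu r hr => ?_) ?_
        · obtain ⟨t, rfl⟩ := Submodule.mem_span_singleton.1 hu
          rw [smul_mul_assoc, mul_assoc]
          refine Submodule.smul_mem _ t ?_
          obtain ⟨u', hu', r', hr', hsum⟩ := Submodule.mem_sup.1 (hgen' (mul_mem_pow_right hg₀m hr))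
          obtain ⟨t', rfl⟩ := Submodule.mem_span_singleton.1 hu'
          rw [← hsum, mul_add, mul_smul_comm, ← mul_assoc (z ^ i) z g₀, ← pow_succ]
          refine Submodule.add_mem_sup
            (Submodule.smul_mem _ _ (Submodule.mem_span_singleton_self _)) ?_
          have := pow_mul_mem hz hr' i
          convert this using 2
          omega
        · exact le_trans (by rw [← pow_succ]) le_sup_right
    have hMS : R ^ (m + 2) ≤ S := le_of_layers hmul hnil (by omega) fun i =>
      (hlayer i).trans (sup_le_sup_right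
        (Submodule.span_le.2 (Set.singleton_subset_iff.2
          (Submodule.subset_span (Set.mem_range_self i) : z ^ i * g₀ ∈ S))) _)
    have hrep : ∀ w ∈ S, ∃ f ∈ Algebra.adjoin k ({z} : Set A), w = f * g₀ := by
      intro w hw
      induction hw using Submodule.span_induction with
      | mem w hw =>
        obtain ⟨i, rfl⟩ := hw
        exact ⟨z ^ i, pow_mem (Algebra.self_mem_adjoin_singleton k z) i, rfl⟩
      | zero => exact ⟨0, zero_mem _, by simp⟩
      | add u v _ _ hu hv =>
        obtain ⟨f, hf, rfl⟩ := hu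
        obtain ⟨f', hf', rfl⟩ := hv
        exact ⟨f + f', add_mem hf hf', (add_mul f f' g₀).symm⟩
      | smul t u _ hu =>
        obtain ⟨f, hf, rfl⟩ := hu
        exact ⟨t • f, Subalgebra.smul_mem _ hf t, (smul_mul_assoc t f g₀).symm⟩
    have hright : ∀ b ∈ R, ∀ c ∈ R, g₀ * b * c = g₀ * c * b := by
      intro b hb c hc
      obtain ⟨f, hf, hfb⟩ := hrep _ (hMS (pow_anti hmul (by omega)
        (Nat.le_succ (m + 2)) (mul_mem_pow_right hg₀m hb)))
      obtain ⟨f', hf', hfc⟩ := hrep _ (hMS (pow_anti hmul (by omega)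
        (Nat.le_succ (m + 2)) (mul_mem_pow_right hg₀m hc)))
      have hcomm : f * f' = f' * f := by
        obtain ⟨P, rfl⟩ := Algebra.adjoin_singleton_eq_range_aeval k z ▸ hf
        obtain ⟨P', rfl⟩ := Algebra.adjoin_singleton_eq_range_aeval k z ▸ hf'
        rw [← map_mul, ← map_mul, mul_comm]
      rw [hfb, mul_assoc f, hfc, ← mul_assoc, hcomm, mul_assoc, ← hfb, ← mul_assoc, ← hfc]
    let U : Submodule k A := R.map (LinearMap.mulLeft k g₀)
    have hU : R ^ (m + 3) ≤ U := by
      refine le_of_layers hmul hnil (by omega) fun i => ?_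
      rw [show m + 3 + i = (m + 2) + (i + 1) by omega, pow_add]
      refine (mul_le_mul' hgen le_rfl).trans ?_
      rw [Submodule.sup_mul]
      refine sup_le (Submodule.mul_le.2 fun u hu r hr => Submodule.mem_sup_left ?_) ?_
      · obtain ⟨t, rfl⟩ := Submodule.mem_span_singleton.1 hu
        refine ⟨t • r, Submodule.smul_mem _ _ (pow_le_self hmul (by omega) hr), ?_⟩
        simp
      · refine le_trans ?_ le_sup_right
        rw [← pow_add]
        exact le_of_eq (congrArg _ (by omega))
    have hdec : ∀ w ∈ R ^ (m + 2), ∃ t : k, ∃ r ∈ R, w = t • g₀ + g₀ * r := by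
      intro w hw
      obtain ⟨u, hu, r, hr, rfl⟩ := Submodule.mem_sup.1 (hgen hw)
      obtain ⟨t, rfl⟩ := Submodule.mem_span_singleton.1 hu
      obtain ⟨r', hr', hrr⟩ := hU hr
      exact ⟨t, r', hr', by rw [← hrr]; rfl⟩
    intro b hb c hc
    obtain ⟨μ, q, hq, hab⟩ := hdec _ (mul_mem_pow_right ha hb)
    obtain ⟨ν, r, hr, hac⟩ := hdec _ (mul_mem_pow_right ha hc)
    have hzb : g₀ * b = μ • (z * g₀) + z * (g₀ * q) := by
      rw [hg₀, mul_assoc z a b, hab, mul_add, mul_smul_comm]
    have hzc : g₀ * c = ν • (z * g₀) + z * (g₀ * r) := by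
      rw [hg₀, mul_assoc z a c, hac, mul_add, mul_smul_comm]
    rw [hab, hac, add_mul, add_mul, smul_mul_assoc, smul_mul_assoc, hright q hq c hc,
      hright r hr b hb, hzb, hzc]
    simp only [add_mul, smul_mul_assoc, mul_assoc z]
    rw [hright r hr q hq]
    module
  obtain ⟨a₀, ha₀, hza₀⟩ : ∃ a ∈ R ^ (m + 1), z * a ∉ R ^ (m + 3) := by
    by_contra hno
    push Not at hno
    refine hzg fun w hw => ?_
    rw [pow_succ] at hw
    induction hw using Submodule.mul_induction_on' with
    | mem_mul_mem a ha b hb => rw [← mul_assoc]; exact mul_mem_pow_right (hno a ha) hb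
    | add u _ v _ hu hv => rw [mul_add]; exact add_mem hu hv
  intro a ha b hb c hc
  by_cases hza : z * a ∈ R ^ (m + 3)
  · have h1 := hgood _ (add_mem ha₀ ha) (fun hmem => hza₀ (by
      rw [mul_add] at hmem
      exact (Submodule.add_mem_iff_left _ hza).1 hmem)) b hb c hc
    rw [add_mul, add_mul, add_mul, add_mul, hgood a₀ ha₀ hza₀ b hb c hc] at h1
    exact add_left_cancel h1
  · exact hgood a ha hza b hb c hc

/-- A power killed by the radical has dimension at most one. -/
theorem thin_of_bot [FiniteDimensional k A] {n : ℕ} (hn : 0 < n) (h : R ^ (n + 1) = ⊥) :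
    Thin R n := by
  have hnR : R ^ n ≤ R := pow_le_self hmul hn
  have hinj : ∀ x ∈ R ^ n, τ x = 0 → x = 0 := fun x hx h0 =>
    hnd x (hnR hx) h0 fun y hy => by
      have := mul_mem_pow_right hx hy
      rw [h, Submodule.mem_bot] at this
      rw [this, map_zero]
  by_cases hb : ∃ g ∈ R ^ n, τ g ≠ 0
  · obtain ⟨g, hg, hg0⟩ := hb
    refine ⟨g, fun x hx => Submodule.mem_sup_left (Submodule.mem_span_singleton.2 ⟨τ x / τ g, ?_⟩)⟩
    refine (sub_eq_zero.1 (hinj _ (sub_mem hx (Submodule.smul_mem _ (τ x / τ g) hg)) ?_)).symm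
    rw [map_sub, map_smul, smul_eq_mul, div_mul_cancel₀ _ hg0, sub_self]
  · push Not at hb
    exact ⟨0, fun x hx => by rw [hinj x hx (hb x hx)]; exact zero_mem _⟩

/-- A central subspace of the radical is small. -/
theorem finrank_central_le [FiniteDimensional k A] {W : Submodule k A} (hW : W ≤ R)
    (hc : ∀ w ∈ W, ∀ a ∈ R, w * a = a * w) :
    Module.finrank k W + Module.finrank k (commSpan R) ≤ Module.finrank k R + 1 := by
  let φ : W →ₗ[k] Module.Dual k R :=
    { toFun := fun w => (τ.comp (LinearMap.mulLeft k (w : A))).comp R.subtype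
      map_add' := fun u v => LinearMap.ext fun a => by simp [add_mul]
      map_smul' := fun t u => LinearMap.ext fun a => by simp }
  have hmem : ∀ w : W, φ w ∈ ((commSpan R).comap R.subtype).dualAnnihilator := by
    intro w
    rw [Submodule.mem_dualAnnihilator]
    intro z hz
    suffices ∀ x ∈ commSpan R, τ ((w : A) * x) = 0 from this _ hz
    intro x hx
    induction hx using Submodule.span_induction with
    | mem x hx =>
      obtain ⟨a, ha, b, hb, rfl⟩ := hx
      rw [mul_sub, map_sub, ← mul_assoc, ← mul_assoc, hc _ w.2 a ha, mul_assoc a, hτ a,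
        sub_self]
    | zero => simp
    | add u v _ _ hu hv => rw [mul_add, map_add, hu, hv, add_zero]
    | smul t u _ hu => rw [mul_smul_comm, map_smul, hu, smul_zero]
  let Φ := (φ.codRestrict _ hmem).prod (τ.comp W.subtype)
  have hinj : Function.Injective Φ := (injective_iff_map_eq_zero Φ).2 fun w hw => by
    have h1 := congrArg Prod.fst hw
    have h2 := congrArg Prod.snd hw
    refine Subtype.ext (hnd _ (hW w.2) h2 fun y hy => ?_)
    exact LinearMap.congr_fun (congrArg Subtype.val h1) ⟨y, hy⟩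
  have h1 := LinearMap.finrank_le_finrank_of_injective hinj
  haveI := Module.Free.of_divisionRing k ↥((commSpan R).comap R.subtype).dualAnnihilator
  rw [Module.finrank_prod, Module.finrank_self] at h1
  have h2 := Subspace.finrank_add_finrank_dualAnnihilator_eq ((commSpan R).comap R.subtype)
  rw [(Submodule.comapSubtypeEquivOfLe ((commSpan_le_sq R).trans hmul)).finrank_eq] at h2
  omega

end Cfsg.Agent.LocalSymLayer27
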