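import Mathlib
import Cfsg.Agent.Lib.LocalSymLayer27

/-!
# Computing in the layers of a nilpotent radical

Congruences modulo powers, spanning sets of layers, the commutator span through generators, and the
vanishing of a two-generator cubic layer whose square is spanned by the commutator.
-/

set_option autoImplicit false
set_option linter.unusedSectionVars false

namespace Cfsg.Agent.LocalSymTools27

open BrandtAlgebra42 LocalSymAlg42 LocalSymLayer27

variable {k : Type*} [Field k] {A : Type*} [Ring A] [Algebra k A]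

theorem mk_eq {T : Submodule k A} {a b : A} (h : a - b ∈ T) : T.mkQ a = T.mkQ b :=
  (Submodule.Quotient.eq T).2 h

theorem mk_zero {T : Submodule k A} {a : A} (h : a ∈ T) : T.mkQ a = 0 :=
  (Submodule.Quotient.mk_eq_zero T).2 h

theorem mem_of_mk {T : Submodule k A} {a : A} (h : T.mkQ a = 0) : a ∈ T :=
  (Submodule.Quotient.mk_eq_zero T).1 h

/-- If the class of `w` is a multiple of the class of `g` then `w ∈ k g + T`. -/
theorem mem_span_sup {T : Submodule k A} {w g : A} {t : k} (h : T.mkQ w = t • T.mkQ g) :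
    w ∈ Submodule.span k {g} ⊔ T := by
  rw [← map_smul] at h
  exact Submodule.mem_sup.2 ⟨t • g, Submodule.mem_span_singleton.2 ⟨t, rfl⟩, w - t • g,
    (Submodule.Quotient.eq T).1 h, add_sub_cancel _ _⟩

theorem mem_sup₁ {T : Submodule k A} {w g : A} (h : w ∈ Submodule.span k {g} ⊔ T) :
    ∃ t : k, ∃ r ∈ T, w = t • g + r := by
  obtain ⟨u, hu, r, hr, rfl⟩ := Submodule.mem_sup.1 h
  obtain ⟨t, rfl⟩ := Submodule.mem_span_singleton.1 hu
  exact ⟨t, r, hr, rfl⟩

theorem mem_sup₂ {T : Submodule k A} {w g g' : A}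
    (h : w ∈ Submodule.span k {g} ⊔ Submodule.span k {g'} ⊔ T) :
    ∃ s t : k, ∃ r ∈ T, w = s • g + t • g' + r := by
  obtain ⟨u, hu, r, hr, rfl⟩ := Submodule.mem_sup.1 h
  obtain ⟨u₁, hu₁, u₂, hu₂, rfl⟩ := Submodule.mem_sup.1 hu
  obtain ⟨s, rfl⟩ := Submodule.mem_span_singleton.1 hu₁
  obtain ⟨t, rfl⟩ := Submodule.mem_span_singleton.1 hu₂
  exact ⟨s, t, r, hr, rfl⟩

theorem mem_sup₃ {T : Submodule k A} {w g g' g'' : A}
    (h : w ∈ Submodule.span k {g} ⊔ Submodule.span k {g'} ⊔ Submodule.span k {g''} ⊔ T) :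
    ∃ a b c : k, ∃ r ∈ T, w = a • g + b • g' + c • g'' + r := by
  obtain ⟨u, hu, r, hr, rfl⟩ := Submodule.mem_sup.1 h
  obtain ⟨u', hu', u₃, hu₃, rfl⟩ := Submodule.mem_sup.1 hu
  obtain ⟨u₁, hu₁, u₂, hu₂, rfl⟩ := Submodule.mem_sup.1 hu'
  obtain ⟨a, rfl⟩ := Submodule.mem_span_singleton.1 hu₁
  obtain ⟨b, rfl⟩ := Submodule.mem_span_singleton.1 hu₂
  obtain ⟨c, rfl⟩ := Submodule.mem_span_singleton.1 hu₃
  exact ⟨a, b, c, r, hr, rfl⟩

theorem singleton_le {T : Submodule k A} {g : A} (h : g ∈ T) : Submodule.span k {g} ≤ T :=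
  Submodule.span_le.2 (Set.singleton_subset_iff.2 h)

variable {R : Submodule k A}

theorem pow_two_eq (R : Submodule k A) : R ^ 2 = R * R := by rw [pow_succ, pow_one]

/-- The square from generators modulo the cube. -/
theorem sq_le_gen (hmul : R * R ≤ R) {U : Submodule k A} (hUR : U ≤ R) (h : R ≤ U ⊔ R * R) :
    R * R ≤ U * U ⊔ R ^ 3 := by
  have h3 : R ^ 3 = R * R * R := by rw [pow_succ, pow_succ, pow_one]
  refine (mul_le_mul' h h).trans ?_
  rw [Submodule.sup_mul, Submodule.mul_sup, Submodule.mul_sup]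
  refine sup_le (sup_le le_sup_left ?_) (sup_le ?_ ?_) <;> refine le_trans ?_ le_sup_right <;> rw [h3]
  · rw [mul_assoc]; exact mul_le_mul' hUR le_rfl
  · exact mul_le_mul' le_rfl hUR
  · exact mul_le_mul' le_rfl hmul

/-- The next layer from generators on the right. -/
theorem succ_le_gen_right {U S : Submodule k A} {n : ℕ} (hS : S ≤ R ^ n) (h : R ≤ U ⊔ R * R)
    (hn : R ^ n ≤ S ⊔ R ^ (n + 1)) : R ^ (n + 1) ≤ S * U ⊔ R ^ (n + 2) := by
  rw [pow_succ R n]
  refine (mul_le_mul' hn le_rfl).trans ?_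
  rw [Submodule.sup_mul]
  refine sup_le ((mul_le_mul' le_rfl h).trans ?_) (le_trans (by rw [← pow_succ]) le_sup_right)
  rw [Submodule.mul_sup]
  refine sup_le le_sup_left (le_trans ?_ le_sup_right)
  rw [← mul_assoc, pow_succ R (n + 1), pow_succ R n]
  exact mul_le_mul' (mul_le_mul' hS le_rfl) le_rfl

/-- The next layer from generators on the left. -/
theorem succ_le_gen_left {U S : Submodule k A} {n : ℕ} (hS : S ≤ R ^ n) (h : R ≤ U ⊔ R * R)
    (hn : R ^ n ≤ S ⊔ R ^ (n + 1)) : R ^ (n + 1) ≤ U * S ⊔ R ^ (n + 2) := by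
  rw [pow_succ' R n]
  refine (mul_le_mul' le_rfl hn).trans ?_
  rw [Submodule.mul_sup]
  refine sup_le ((mul_le_mul' h le_rfl).trans ?_) (le_trans (by rw [← pow_succ']) le_sup_right)
  rw [Submodule.sup_mul]
  refine sup_le le_sup_left (le_trans ?_ le_sup_right)
  rw [mul_assoc, pow_succ' R (n + 1), pow_succ' R n]
  exact mul_le_mul' le_rfl (mul_le_mul' le_rfl hS)

/-- A target subspace contains the commutators if it contains those of generators, those of a
generator with an element of the square, and those of two elements of the square. -/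
theorem commSpan_le_gen {U P : Submodule k A} (h : R ≤ U ⊔ R * R)
    (h1 : ∀ u ∈ U, ∀ v ∈ U, u * v - v * u ∈ P)
    (h2 : ∀ u ∈ U, ∀ r ∈ R * R, u * r - r * u ∈ P)
    (h3 : ∀ r ∈ R * R, ∀ s ∈ R * R, r * s - s * r ∈ P) : commSpan R ≤ P := by
  refine Submodule.span_le.2 ?_
  rintro _ ⟨a, ha, b, hb, rfl⟩
  obtain ⟨u, hu, r, hr, rfl⟩ := Submodule.mem_sup.1 (h ha)
  obtain ⟨v, hv, s, hs, rfl⟩ := Submodule.mem_sup.1 (h hb)
  have e : (u + r) * (v + s) - (v + s) * (u + r) =
      (u * v - v * u) + (u * s - s * u) - (v * r - r * v) + (r * s - s * r) := by noncomm_ring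
  rw [e]
  exact add_mem (sub_mem (add_mem (h1 u hu v hv) (h2 u hu s hs)) (h2 v hv r hr)) (h3 r hr s hs)

/-- Bilinear check of commutators of a span. -/
theorem comm_mem_two {P : Submodule k A} {x y : A} (hxy : x * y - y * x ∈ P) :
    ∀ u ∈ Submodule.span k {x} ⊔ Submodule.span k {y},
      ∀ v ∈ Submodule.span k {x} ⊔ Submodule.span k {y}, u * v - v * u ∈ P := by
  intro u hu v hv
  obtain ⟨u₁, hu₁, u₂, hu₂, rfl⟩ := Submodule.mem_sup.1 hu
  obtain ⟨v₁, hv₁, v₂, hv₂, rfl⟩ := Submodule.mem_sup.1 hv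
  obtain ⟨a, rfl⟩ := Submodule.mem_span_singleton.1 hu₁
  obtain ⟨b, rfl⟩ := Submodule.mem_span_singleton.1 hu₂
  obtain ⟨a', rfl⟩ := Submodule.mem_span_singleton.1 hv₁
  obtain ⟨b', rfl⟩ := Submodule.mem_span_singleton.1 hv₂
  have e : (a • x + b • y) * (a' • x + b' • y) - (a' • x + b' • y) * (a • x + b • y) =
      (a * b' - b * a') • (x * y - y * x) := by
    simp only [add_mul, mul_add, smul_mul_assoc, mul_smul_comm]; module
  rw [e]
  exact P.smul_mem _ hxy

/-- A quadratic equation over an algebraically closed field. -/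
theorem exists_root_quad [IsAlgClosed k] {a : k} (ha : a ≠ 0) (b c : k) :
    ∃ t : k, a * t ^ 2 + b * t + c = 0 := by
  obtain ⟨t, ht⟩ := IsAlgClosed.exists_root
    (Polynomial.C a * Polynomial.X ^ 2 + Polynomial.C b * Polynomial.X + Polynomial.C c)
    (by rw [Polynomial.degree_quadratic ha]; norm_num)
  exact ⟨t, by simpa using ht⟩

/-- Two generators whose products are multiples of their commutator modulo `I` and `R ^ 3`: the
commutator times a generator lies in any target absorbing `I`. -/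
theorem two_gen_cube {y z : A} (hy : y ∈ R) (hz : z ∈ R) {I T : Submodule k A}
    (hT : R ^ 4 ≤ T) (hIr : ∀ i ∈ I, i * y ∈ T ∧ i * z ∈ T) (hIl : ∀ i ∈ I, y * i ∈ T ∧ z * i ∈ T)
    (hmem : ∀ a ∈ ({y, z} : Set A), ∀ b ∈ ({y, z} : Set A),
      a * b ∈ Submodule.span k {y * z - z * y} ⊔ (I ⊔ R ^ 3)) :
    (y * z - z * y) * y ∈ T ∧ (y * z - z * y) * z ∈ T := by
  set c := y * z - z * y with hc
  have hdec : ∀ a ∈ ({y, z} : Set A), ∀ b ∈ ({y, z} : Set A),
      ∃ t : k, a * b - t • c ∈ I ⊔ R ^ 3 := by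
    intro a ha b hb
    obtain ⟨t, r, hr, e⟩ := mem_sup₁ (hmem a ha b hb)
    exact ⟨t, by rw [e]; simpa using hr⟩
  have hR : ∀ a ∈ ({y, z} : Set A), a ∈ R := by rintro a (rfl | rfl) <;> assumption
  have hr' : ∀ {w g}, w ∈ I ⊔ R ^ 3 → g ∈ ({y, z} : Set A) → w * g ∈ T ∧ g * w ∈ T := by
    intro w g hw hg
    obtain ⟨i, hi, r, hr, rfl⟩ := Submodule.mem_sup.1 hw
    rw [add_mul, mul_add]
    rcases hg with rfl | rfl
    · exact ⟨add_mem (hIr i hi).1 (hT (mul_mem_pow_right hr hy)),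
        add_mem (hIl i hi).1 (hT (mul_mem_pow_left hy hr))⟩
    · exact ⟨add_mem (hIr i hi).2 (hT (mul_mem_pow_right hr hz)),
        add_mem (hIl i hi).2 (hT (mul_mem_pow_left hz hr))⟩
  let m := T.mkQ
  have hassoc : ∀ {a b g : A} {s t : k}, a ∈ ({y, z} : Set A) → g ∈ ({y, z} : Set A) →
      a * b - s • c ∈ I ⊔ R ^ 3 → b * g - t • c ∈ I ⊔ R ^ 3 → s • m (c * g) = t • m (a * c) := by
    intro a b g s t ha hg h1 h2
    have e1 : m (a * b * g) = s • m (c * g) := by
      rw [← map_smul]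
      refine mk_eq ?_
      rw [← smul_mul_assoc, ← sub_mul]
      exact (hr' h1 hg).1
    have e2 : m (a * b * g) = t • m (a * c) := by
      rw [← map_smul]
      refine mk_eq ?_
      rw [← mul_smul_comm, mul_assoc, ← mul_sub]
      exact (hr' h2 ha).2
    rw [← e1, e2]
  have my : y ∈ ({y, z} : Set A) := Set.mem_insert _ _
  have mz : z ∈ ({y, z} : Set A) := Set.mem_insert_of_mem _ rfl
  obtain ⟨α, hα⟩ := hdec y my y my
  obtain ⟨β, hβ⟩ := hdec z mz z mz
  obtain ⟨γ, hγ⟩ := hdec y my z mz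
  have hδ : z * y - (γ - 1) • c ∈ I ⊔ R ^ 3 := by
    rwa [show z * y - (γ - 1) • c = y * z - γ • c by rw [hc]; module]
  have q1 := hassoc my my hγ hδ
  have q2 := hassoc mz mz hδ hγ
  have q3 := hassoc my my hα hα
  have q4 := hassoc my mz hα hγ
  have q5 := hassoc mz my hδ hα
  have q8 := hassoc my mz hγ hβ
  have key : m (c * y) = 0 ∧ m (c * z) = 0 := by
    by_cases hα0 : α = 0
    · subst hα0
      simp only [zero_smul] at q4 q5
      by_cases hg : γ = 0
      · subst hg
        simp only [zero_sub, neg_smul, one_smul, zero_smul, neg_eq_zero] at q1 q2 q5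
        exact ⟨q5, q2⟩
      · have hcy' : m (y * c) = 0 := (smul_eq_zero.1 q4.symm).resolve_left hg
        have h1 : m (c * y) = 0 := by
          rw [hcy', smul_zero] at q1
          exact (smul_eq_zero.1 q1).resolve_left hg
        refine ⟨h1, ?_⟩
        by_cases hb : β = 0
        · rw [hb, zero_smul] at q8
          exact (smul_eq_zero.1 q8).resolve_left hg
        · rw [hcy', smul_zero] at q8
          exact (smul_eq_zero.1 q8).resolve_left hg
    · have hux : m (c * y) = m (y * c) := smul_right_injective _ hα0 q3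
      rw [← hux] at q1 q4
      have h1 : m (c * y) = 0 := by
        have := sub_eq_zero.2 q1
        rw [← sub_smul, sub_sub_cancel, one_smul] at this
        exact this
      rw [h1, smul_zero] at q4
      exact ⟨h1, (smul_eq_zero.1 q4).resolve_left hα0⟩
  exact ⟨mem_of_mk key.1, mem_of_mk key.2⟩

end Cfsg.Agent.LocalSymTools27
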