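import Mathlib
import Cfsg.Agent.Lib.LocalSymTools27

/-!
# Generators of small left or right rank

An alternative for two bilinear tables obeying associativity, used on the third layer of a local
algebra with three generators.
-/

set_option autoImplicit false
set_option linter.unusedSectionVars false

namespace Cfsg.Agent.LocalSymRank27

open BrandtAlgebra42 LocalSymAlg42 LocalSymLayer27 LocalSymTools27

variable {k : Type*} [Field k]

/-- Either all members are multiples of a given nonzero one, or two are independent. -/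
theorem line_or_pair {V : Type*} [AddCommGroup V] [Module k V] {ι : Type*} (w : ι → V)
    (hw : w ≠ 0) : (∃ i₀ : ι, w i₀ ≠ 0 ∧ ∃ b : ι → k, b i₀ = 1 ∧ ∀ i, w i = b i • w i₀) ∨
      ∃ i j : ι, LinearIndependent k ![w i, w j] := by
  classical
  obtain ⟨i₀, hi₀⟩ := Function.ne_iff.1 hw
  by_cases h : ∀ i, ∃ t : k, t • w i₀ = w i
  · choose t ht using h
    refine Or.inl ⟨i₀, hi₀, Function.update t i₀ 1, by simp, fun i => ?_⟩
    by_cases hi : i = i₀
    · subst hi; simp
    · rw [Function.update_of_ne hi, ht]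
  · push Not at h
    obtain ⟨i, hi⟩ := h
    exact Or.inr ⟨i₀, i, (LinearIndependent.pair_iff' hi₀).2 hi⟩

/-- Two independent functionals vanish on the image of left multiplication by `u`. -/
def LeftSmall {r : ℕ} (S : Fin 3 → Fin 3 → Fin r → k) : Prop :=
  ∃ u : Fin 3 → k, u ≠ 0 ∧ ∃ α β : Fin r → k, LinearIndependent k ![α, β] ∧
    ∀ j, ∑ l, α l * ∑ i, u i * S i j l = 0 ∧ ∑ l, β l * ∑ i, u i * S i j l = 0

/-- Associativity of a singular table forces a generator of small rank. -/
theorem small_of_singular {r : ℕ} (S : Fin 3 → Fin 3 → Fin r → k) (M N : Fin 3 → Fin r → k)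
    (hassoc : ∀ i j m, ∑ l, S i j l * N m l = ∑ l, M i l * S j m l)
    (hspan : ∀ α : Fin r → k, (∀ i j, ∑ l, α l * S i j l = ∑ l, α l * S j i l) → α = 0)
    (hM : M ≠ 0) (hN : N ≠ 0)
    (hsing : ∃ u : Fin 3 → k, u ≠ 0 ∧ ∀ l, ∑ i, u i * M i l = 0) :
    LeftSmall S ∨ LeftSmall (fun i j => S j i) := by
  obtain ⟨u, hu, huM⟩ := hsing
  have h1 : ∀ m j, ∑ l, N m l * ∑ i, u i * S i j l = 0 := by
    intro m j
    calc ∑ l, N m l * ∑ i, u i * S i j l = ∑ i, u i * ∑ l, S i j l * N m l := by
          simp only [Finset.mul_sum]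
          rw [Finset.sum_comm]
          exact Finset.sum_congr rfl fun i _ => Finset.sum_congr rfl fun l _ => by ring
      _ = ∑ l, (∑ i, u i * M i l) * S j m l := by
          simp only [hassoc, Finset.mul_sum, Finset.sum_mul]
          rw [Finset.sum_comm]
          exact Finset.sum_congr rfl fun l _ => Finset.sum_congr rfl fun i _ => by ring
      _ = 0 := by simp [huM]
  rcases line_or_pair (k := k) N hN with ⟨m₀, hm₀, b, hb₀, hb⟩ | ⟨m, m', hli⟩
  swap
  · exact Or.inl ⟨u, hu, N m, N m', hli, fun j => ⟨h1 m j, h1 m' j⟩⟩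
  rcases line_or_pair (k := k) M hM with ⟨i₀, hi₀, a, ha₀, ha⟩ | ⟨i, i', hli⟩
  swap
  · -- the right kernel
    obtain ⟨v, hv, hvb⟩ : ∃ v : Fin 3 → k, v ≠ 0 ∧ ∑ m, v m * b m = 0 := by
      have hker : LinearMap.ker (Fintype.linearCombination k b) ≠ ⊥ :=
        LinearMap.ker_ne_bot_of_finrank_lt (by simp)
      obtain ⟨v, hv, hv0⟩ := Submodule.exists_mem_ne_zero_of_ne_bot hker
      exact ⟨v, hv0, by simpa [Fintype.linearCombination_apply] using hv⟩
    refine Or.inr ⟨v, hv, M i, M i', hli, fun j => ?_⟩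
    have h2 : ∀ i, ∑ l, M i l * ∑ m, v m * S j m l = 0 := by
      intro i
      calc ∑ l, M i l * ∑ m, v m * S j m l = ∑ m, v m * ∑ l, S i j l * N m l := by
            simp only [hassoc, Finset.mul_sum]
            rw [Finset.sum_comm]
            exact Finset.sum_congr rfl fun m _ => Finset.sum_congr rfl fun l _ => by ring
        _ = (∑ m, v m * b m) * ∑ l, S i j l * N m₀ l := by
            simp only [Finset.mul_sum, Finset.sum_mul]
            conv_rhs => rw [Finset.sum_comm]
            refine Finset.sum_congr rfl fun m _ => Finset.sum_congr rfl fun l _ => ?_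
            rw [hb m, Pi.smul_apply, smul_eq_mul]; ring
        _ = 0 := by rw [hvb, zero_mul]
    exact ⟨h2 i, h2 i'⟩
  -- both tables have rank one
  set α := M i₀ with hα
  set β := N m₀ with hβ
  let V : Fin 3 → k := fun j => ∑ l, β l * S i₀ j l
  have e0 : ∀ i j m, b m * ∑ l, β l * S i j l = a i * ∑ l, α l * S j m l := by
    intro i j m
    have h := hassoc i j m
    simp only [ha i, hb m, Pi.smul_apply, smul_eq_mul] at h
    rw [Finset.mul_sum, Finset.mul_sum]
    calc ∑ l, b m * (β l * S i j l) = ∑ l, S i j l * (b m * β l) :=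
          Finset.sum_congr rfl fun l _ => by ring
      _ = _ := h
      _ = _ := Finset.sum_congr rfl fun l _ => by ring
  have eA : ∀ j m, ∑ l, α l * S j m l = b m * V j := fun j m => by
    have := e0 i₀ j m
    rw [ha₀, one_mul] at this
    exact this.symm
  have eB : ∀ i j, ∑ l, β l * S i j l = a i * V j := fun i j => by
    have := e0 i j m₀
    rwa [hb₀, one_mul, eA, hb₀, one_mul] at this
  have hli : LinearIndependent k ![α, β] := by
    refine (LinearIndependent.pair_iff' hi₀).2 fun t ht => ?_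
    have ht' : ∀ i j, a i * V j = t * (b j * V i) := fun i j => by
      rw [← eB, ← eA, Finset.mul_sum]
      refine Finset.sum_congr rfl fun l _ => ?_
      rw [← ht, Pi.smul_apply, smul_eq_mul]; ring
    by_cases hV : V = 0
    · exact hi₀ (hspan α fun i j => by rw [eA, eA, hV]; simp)
    · obtain ⟨j₀, hj₀⟩ := Function.ne_iff.1 hV
      have hj₀' : V j₀ ≠ 0 := hj₀
      refine hm₀ (hspan β fun i j => ?_)
      have hai : ∀ i, a i = t * b j₀ / V j₀ * V i := fun i => by
        rw [div_mul_eq_mul_div, eq_div_iff hj₀', ht' i j₀]; ring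
      rw [eB, eB, hai i, hai j]; ring
  obtain ⟨w, hw, hwa, hwV⟩ : ∃ w : Fin 3 → k, w ≠ 0 ∧ ∑ i, w i * a i = 0 ∧ ∑ i, w i * V i = 0 := by
    have hker : LinearMap.ker ((Fintype.linearCombination k a).prod
        (Fintype.linearCombination k V)) ≠ ⊥ :=
      LinearMap.ker_ne_bot_of_finrank_lt (by simp)
    obtain ⟨w, hw, hw0⟩ := Submodule.exists_mem_ne_zero_of_ne_bot hker
    rw [LinearMap.mem_ker] at hw
    exact ⟨w, hw0, by simpa [Fintype.linearCombination_apply] using congrArg Prod.fst hw,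
      by simpa [Fintype.linearCombination_apply] using congrArg Prod.snd hw⟩
  refine Or.inl ⟨w, hw, α, β, hli, fun j => ⟨?_, ?_⟩⟩
  · calc ∑ l, α l * ∑ i, w i * S i j l = ∑ i, w i * ∑ l, α l * S i j l := by
          simp only [Finset.mul_sum]
          rw [Finset.sum_comm]
          exact Finset.sum_congr rfl fun i _ => Finset.sum_congr rfl fun l _ => by ring
      _ = b j * ∑ i, w i * V i := by
          rw [Finset.mul_sum]
          exact Finset.sum_congr rfl fun i _ => by rw [eA]; ring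
      _ = 0 := by rw [hwV, mul_zero]
  · calc ∑ l, β l * ∑ i, w i * S i j l = ∑ i, w i * ∑ l, β l * S i j l := by
          simp only [Finset.mul_sum]
          rw [Finset.sum_comm]
          exact Finset.sum_congr rfl fun i _ => Finset.sum_congr rfl fun l _ => by ring
      _ = V j * ∑ i, w i * a i := by
          rw [Finset.mul_sum]
          exact Finset.sum_congr rfl fun i _ => by rw [eB]; ring
      _ = 0 := by rw [hwa, mul_zero]

variable {A : Type*} [Ring A] [Algebra k A] [FiniteDimensional k A] [IsAlgClosed k] {R : Submodule k A}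

/-- A generator of small rank in three-generated algebras with a two- or three-dimensional second
layer and a thick third layer. -/
theorem exists_small {r : ℕ} (hr : r = 2 ∨ r = 3) (e : Fin 3 → A) (c : Fin r → A)
    (he : ∀ i, e i ∈ R) (hc : ∀ l, c l ∈ R ^ 2)
    (hgen : R ≤ Submodule.span k (Set.range e) ⊔ R * R) (δ : Fin r → A →ₗ[k] k)
    (hδ3 : ∀ l, ∀ z ∈ R ^ 3, δ l z = 0) (hδc : ∀ l m, δ l (c m) = if l = m then 1 else 0)
    (hexp : ∀ w ∈ R * R, w - ∑ l, δ l w • c l ∈ R ^ 3)
    (hsp : ∀ ψ : A →ₗ[k] k, (∀ z ∈ R ^ 3, ψ z = 0) →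
      (∀ i j, ψ (e i * e j - e j * e i) = 0) → ∀ w ∈ R * R, ψ w = 0)
    (hthin : ¬ Thin R 3) :
    LeftSmall (fun i j l => δ l (e i * e j)) ∨ LeftSmall (fun i j l => δ l (e j * e i)) := by
  classical
  let E : (Fin 3 → k) →ₗ[k] A := Fintype.linearCombination k e
  let L : (A →ₗ[k] k) → ((Fin 3 → k) →ₗ[k] (Fin r → k)) := fun φ =>
    LinearMap.pi fun l => φ.comp ((LinearMap.mulRight k (c l)).comp E)
  have hL : ∀ φ u l, L φ u l = ∑ i, u i * φ (e i * c l) := by
    intro φ u l
    simp [L, E, Fintype.linearCombination_apply, Finset.sum_mul]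
  -- a functional on the third layer with singular left table
  have hU : Submodule.span k (Set.range e) ≤ R := Submodule.span_le.2 (by
    rintro _ ⟨i, rfl⟩; exact he i)
  have h22 : R * R = R ^ 2 := (pow_two_eq R).symm
  have hG2 : R ^ 2 ≤ Submodule.span k (Set.range c) ⊔ R ^ 3 := fun w hw => by
    rw [← sub_add_cancel w (∑ l, δ l w • c l), add_comm]
    exact Submodule.add_mem_sup (Submodule.sum_mem _ fun l _ =>
      Submodule.smul_mem _ _ (Submodule.subset_span ⟨l, rfl⟩)) (hexp w (h22 ▸ hw))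
  have hcR : Submodule.span k (Set.range c) ≤ R ^ 2 := Submodule.span_le.2 (by
    rintro _ ⟨l, rfl⟩; exact hc l)
  obtain ⟨φ, hφ4, hφ3, hsing⟩ : ∃ φ : A →ₗ[k] k, (∀ z ∈ R ^ 4, φ z = 0) ∧
      (∃ z ∈ R ^ 3, φ z ≠ 0) ∧ ∃ u : Fin 3 → k, u ≠ 0 ∧ L φ u = 0 := by
    have dual : ∀ {U : Submodule k A} {z : A}, z ∉ U →
        ∃ φ : A →ₗ[k] k, (∀ w ∈ U, φ w = 0) ∧ φ z ≠ 0 := fun {U z} hz => by
      obtain ⟨f, hfz, hfU⟩ := Submodule.exists_dual_map_eq_bot_of_notMem hz inferInstance
      refine ⟨f, fun w hw => ?_, hfz⟩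
      have h : f w ∈ U.map f := Submodule.mem_map_of_mem hw
      rwa [hfU, Submodule.mem_bot] at h
    obtain ⟨g₁, hg₁, hg₁'⟩ : ∃ g ∈ R ^ 3, g ∉ R ^ 4 := by
      by_contra hno
      push Not at hno
      exact hthin ⟨0, le_trans hno le_sup_right⟩
    obtain ⟨g₂, hg₂, hg₂'⟩ : ∃ g ∈ R ^ 3, g ∉ Submodule.span k {g₁} ⊔ R ^ 4 := by
      by_contra hno
      push Not at hno
      exact hthin ⟨g₁, hno⟩
    obtain ⟨φ, hφ, hφ1⟩ := dual hg₁'
    obtain ⟨φ', hφ', hφ2⟩ := dual hg₂'
    have hφ'4 : ∀ z ∈ R ^ 4, φ' z = 0 := fun z hz => hφ' z (Submodule.mem_sup_right hz)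
    by_cases hinj : Function.Injective (L φ')
    swap
    · rw [← LinearMap.ker_eq_bot] at hinj
      obtain ⟨u, hu, hu0⟩ := Submodule.exists_mem_ne_zero_of_ne_bot hinj
      exact ⟨φ', hφ'4, ⟨g₂, hg₂, hφ2⟩, u, hu0, hu⟩
    rcases hr with rfl | rfl
    · exfalso
      have := LinearMap.finrank_le_finrank_of_injective hinj
      simp at this
    let L' := LinearEquiv.ofInjectiveEndo (L φ') hinj
    obtain ⟨t, ht⟩ := Module.End.exists_eigenvalue (L'.symm.toLinearMap.comp (L φ))
    obtain ⟨u, hu, hu0⟩ := ht.exists_hasEigenvector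
    have hu' : L'.symm (L φ u) = t • u := Module.End.mem_eigenspace_iff.1 hu
    refine ⟨φ - t • φ', fun z hz => by simp [hφ z hz, hφ'4 z hz], ⟨g₁, hg₁, ?_⟩, u, hu0, ?_⟩
    · rw [LinearMap.sub_apply, LinearMap.smul_apply,
        hφ' g₁ (Submodule.mem_sup_left (Submodule.mem_span_singleton_self _)), smul_zero, sub_zero]
      exact hφ1
    · funext l
      have h := congrArg (fun w => L' w l) hu'
      simp only [LinearEquiv.apply_symm_apply, map_smul, Pi.smul_apply, smul_eq_mul] at h
      rw [show (L' u) = L φ' u from rfl, hL, hL, Finset.mul_sum] at h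
      rw [hL, Pi.zero_apply]
      simp only [LinearMap.sub_apply, LinearMap.smul_apply, smul_eq_mul, mul_sub,
        Finset.sum_sub_distrib, h, sub_eq_zero]
      exact Finset.sum_congr rfl fun i _ => by ring
  obtain ⟨z₀, hz₀, hφz⟩ := hφ3
  obtain ⟨u, hu, huL⟩ := hsing
  refine small_of_singular _ (fun i l => φ (e i * c l)) (fun m l => φ (c l * e m)) ?_ ?_ ?_ ?_
    ⟨u, hu, fun l => by rw [← hL, huL]; rfl⟩
  · intro i j m
    have e1 : φ (e i * e j * e m) = ∑ l, δ l (e i * e j) * φ (c l * e m) := by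
      have h : φ ((e i * e j - ∑ l, δ l (e i * e j) • c l) * e m) = 0 :=
        hφ4 _ (mul_mem_pow_right (hexp _ (Submodule.mul_mem_mul (he i) (he j))) (he m))
      rw [sub_mul, map_sub, sub_eq_zero] at h
      simp [h, Finset.sum_mul]
    have e2 : φ (e i * (e j * e m)) = ∑ l, φ (e i * c l) * δ l (e j * e m) := by
      have h : φ (e i * (e j * e m - ∑ l, δ l (e j * e m) • c l)) = 0 :=
        hφ4 _ (mul_mem_pow_left (he i) (hexp _ (Submodule.mul_mem_mul (he j) (he m))))
      rw [mul_sub, map_sub, sub_eq_zero] at h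
      simp [h, Finset.mul_sum, mul_comm]
    rw [← e1, ← e2, mul_assoc]
  · intro α hα
    funext m
    have h := hsp (∑ l, α l • δ l) (fun z hz => by simp [hδ3 _ z hz])
      (fun i j => by
        simp only [LinearMap.sum_apply, LinearMap.smul_apply, smul_eq_mul, map_sub]
        simp only [mul_sub, Finset.sum_sub_distrib, hα i j, sub_self])
      (c m) (h22 ▸ hc m)
    simpa [hδc] using h
  · intro h0
    refine hφz ?_
    have hle : R ^ 3 ≤ LinearMap.ker φ := by
      refine (succ_le_gen_left (n := 2) hcR hgen hG2).trans (sup_le ?_ fun z hz => hφ4 z hz)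
      rw [Submodule.span_mul_span]
      refine Submodule.span_le.2 ?_
      rintro _ ⟨_, ⟨i, rfl⟩, _, ⟨l, rfl⟩, rfl⟩
      exact congrFun (congrFun h0 i) l
    exact hle hz₀
  · intro h0
    refine hφz ?_
    have hle : R ^ 3 ≤ LinearMap.ker φ := by
      refine (succ_le_gen_right (n := 2) hcR hgen hG2).trans (sup_le ?_ fun z hz => hφ4 z hz)
      rw [Submodule.span_mul_span]
      refine Submodule.span_le.2 ?_
      rintro _ ⟨_, ⟨l, rfl⟩, _, ⟨i, rfl⟩, rfl⟩
      exact congrFun (congrFun h0 i) l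
    exact hle hz₀

end Cfsg.Agent.LocalSymRank27
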