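import Mathlib
import Cfsg.Agent.Lib.LocalSymTools27

/-!
# Local algebras with three generators, one of which has small left multiplication

If the second layer is spanned by the commutators of three generators, one generator maps the
generators to a line of the second layer, and the third layer consists of commutators, then the
fourth layer is thin.
-/

set_option autoImplicit false
set_option linter.unusedSectionVars false

namespace Cfsg.Agent.LocalSymThreeGen27

open BrandtAlgebra42 LocalSymAlg42 LocalSymLayer27 LocalSymTools27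

variable {k : Type*} [Field k] {A : Type*} [Ring A] [Algebra k A] {R : Submodule k A}

/-- The span of three elements. -/
abbrev span₃ (a b c : A) : Submodule k A :=
  Submodule.span k {a} ⊔ Submodule.span k {b} ⊔ Submodule.span k {c}

theorem mem₁ {a b c : A} : a ∈ (span₃ a b c : Submodule k A) :=
  Submodule.mem_sup_left (Submodule.mem_sup_left (Submodule.mem_span_singleton_self _))

theorem mem₂ {a b c : A} : b ∈ (span₃ a b c : Submodule k A) :=
  Submodule.mem_sup_left (Submodule.mem_sup_right (Submodule.mem_span_singleton_self _))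

theorem mem₃ {a b c : A} : c ∈ (span₃ a b c : Submodule k A) :=
  Submodule.mem_sup_right (Submodule.mem_span_singleton_self _)

theorem span₃_le {a b c : A} {T : Submodule k A} (ha : a ∈ T) (hb : b ∈ T) (hc : c ∈ T) :
    span₃ a b c ≤ T :=
  sup_le (sup_le (singleton_le ha) (singleton_le hb)) (singleton_le hc)

theorem comm_mem_three {P : Submodule k A} {x y z : A} (h1 : x * y - y * x ∈ P)
    (h2 : x * z - z * x ∈ P) (h3 : y * z - z * y ∈ P) :
    ∀ u ∈ (span₃ x y z : Submodule k A), ∀ v ∈ (span₃ x y z : Submodule k A),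
      u * v - v * u ∈ P := by
  intro u hu v hv
  obtain ⟨a, b, c, r, hr, rfl⟩ :=
    mem_sup₃ (T := (⊥ : Submodule k A)) (show u ∈ _ ⊔ ⊥ by rwa [sup_bot_eq])
  obtain ⟨a', b', c', r', hr', rfl⟩ :=
    mem_sup₃ (T := (⊥ : Submodule k A)) (show v ∈ _ ⊔ ⊥ by rwa [sup_bot_eq])
  rw [Submodule.mem_bot] at hr hr'
  subst hr; subst hr'
  have := add_mem (add_mem (P.smul_mem (a * b' - b * a') h1) (P.smul_mem (a * c' - c * a') h2))
    (P.smul_mem (b * c' - c * b') h3)
  convert this using 1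
  simp only [add_zero, add_mul, mul_add, smul_mul_assoc, mul_smul_comm]
  module

/-- The second layer is spanned by the commutators of generators. -/
theorem sq_le_three (hmul : R * R ≤ R) {x y z : A} (hx : x ∈ R) (hy : y ∈ R) (hz : z ∈ R)
    (hgen : R ≤ span₃ x y z ⊔ R * R) (hC2 : R * R ≤ commSpan R ⊔ R ^ 3) :
    R * R ≤ span₃ (x * y - y * x) (x * z - z * x) (y * z - z * y) ⊔ R ^ 3 := by
  have h22 : R * R = R ^ 2 := (pow_two_eq R).symm
  have hUR : span₃ x y z ≤ R := span₃_le hx hy hz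
  refine hC2.trans (sup_le (commSpan_le_gen hgen (comm_mem_three
    (Submodule.mem_sup_left mem₁) (Submodule.mem_sup_left mem₂) (Submodule.mem_sup_left mem₃))
    (fun u hu r hr => Submodule.mem_sup_right (sub_mem (mul_mem_pow_left (hUR hu) (h22 ▸ hr))
      (mul_mem_pow_right (h22 ▸ hr) (hUR hu))))
    (fun r hr s hs => Submodule.mem_sup_right ?_)) le_sup_right)
  exact sub_mem (mul_mem_pow_right (h22 ▸ hr) (hmul hs)) (mul_mem_pow_right (h22 ▸ hs) (hmul hr))

variable (hmul : R * R ≤ R)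

include hmul

/-- The periodic configuration. -/
theorem periodic [FiniteDimensional k A] {x y z : A} (hx : x ∈ R) (hy : y ∈ R) (hz : z ∈ R)
    (hgen : R ≤ span₃ x y z ⊔ R * R)
    (hxx : x * x ∈ R ^ 3) (hxy : x * y ∈ R ^ 3) (hzx : z * x ∈ R ^ 3)
    (hG2 : R * R ≤ span₃ (y * x) (x * z) (y * z - z * y) ⊔ R ^ 3)
    (hfull : (∀ a b c : k, a • (x * y - y * x) + b • (x * z - z * x) + c • (y * z - z * y) ∈ R ^ 3 →
      a = 0 ∧ b = 0 ∧ c = 0) ∨ x * z ∈ R ^ 3)
    (hcyc : R ^ 4 ≠ ⊥ → R ^ 3 ≤ commSpan R ⊔ R ^ 4) : Thin R 4 := by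
  by_cases h4 : R ^ 4 = ⊥
  · exact ⟨0, by rw [h4]; exact bot_le⟩
  have h22 : R * R = R ^ 2 := (pow_two_eq R).symm
  have h43 : R ^ 4 ≤ R ^ 3 := pow_anti hmul (by norm_num) (by norm_num)
  set g := x * z with hg
  set h := y * z - z * y with hh
  set π := (R ^ 4).mkQ with hπ
  set ρ := (R ^ 5).mkQ with hρ
  have g2 : g ∈ R ^ 2 := h22 ▸ Submodule.mul_mem_mul hx hz
  have p2 : y * x ∈ R ^ 2 := h22 ▸ Submodule.mul_mem_mul hy hx
  have h2 : h ∈ R ^ 2 := h22 ▸ sub_mem (Submodule.mul_mem_mul hy hz) (Submodule.mul_mem_mul hz hy)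
  set wA := y * g with hwA
  set wB := z * y * x with hwB
  set wC := g * y with hwC
  have hA3 : wA ∈ R ^ 3 := mul_mem_pow_left hy g2
  have hB3 : wB ∈ R ^ 3 := mul_mem_pow_right (h22 ▸ Submodule.mul_mem_mul hz hy) hx
  have hC3 : wC ∈ R ^ 3 := mul_mem_pow_right g2 hy
  -- products in the third layer
  have z_px : π (y * x * x) = 0 := by rw [mul_assoc]; exact mk_zero (mul_mem_pow_left hy hxx)
  have z_py : π (y * x * y) = 0 := by rw [mul_assoc]; exact mk_zero (mul_mem_pow_left hy hxy)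
  have z_pz : π (y * x * z) = π wA := by rw [hwA, hg, mul_assoc]
  have z_gx : π (g * x) = 0 := by rw [hg, mul_assoc]; exact mk_zero (mul_mem_pow_left hx hzx)
  have z_xg : π (x * g) = 0 := by rw [hg, ← mul_assoc]; exact mk_zero (mul_mem_pow_right hxx hz)
  have z_xp : π (x * (y * x)) = 0 := by rw [← mul_assoc]; exact mk_zero (mul_mem_pow_right hxy hx)
  have z_zg : π (z * g) = 0 := by rw [hg, ← mul_assoc]; exact mk_zero (mul_mem_pow_right hzx hz)
  have z_yzx : π (y * z * x) = 0 := by rw [mul_assoc]; exact mk_zero (mul_mem_pow_left hy hzx)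
  have z_hx : π (h * x) = -π wB := by rw [hh, sub_mul, map_sub, z_yzx, zero_sub, hwB]
  have z_xh : π (x * h) = -π wC := by
    have : π (x * y * z) = 0 := mk_zero (mul_mem_pow_right hxy hz)
    rw [hh, mul_sub, map_sub, ← mul_assoc, ← mul_assoc, this, zero_sub, hwC, hg]
  have hrx : ∀ {w}, w ∈ R * R → ∃ a b c : k, π (w * x) = -(c • π wB) ∧ π (x * w) = -(c • π wC) ∧
      w - (a • (y * x) + b • g + c • h) ∈ R ^ 3 := by
    intro w hw
    obtain ⟨a, b, c, r, hr, rfl⟩ := mem_sup₃ (hG2 hw)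
    refine ⟨a, b, c, ?_, ?_, by simpa using hr⟩
    · have hr0 : π (r * x) = 0 := mk_zero (mul_mem_pow_right hr hx)
      simp only [add_mul, smul_mul_assoc, map_add, map_smul, z_px, z_gx, z_hx, hr0]
      module
    · have hr0 : π (x * r) = 0 := mk_zero (mul_mem_pow_left hx hr)
      simp only [mul_add, mul_smul_comm, map_add, map_smul, z_xp, z_xg, z_xh, hr0]
      module
  obtain ⟨azz, bzz, czz, hzzx, hxzz, hzz⟩ := hrx (Submodule.mul_mem_mul hz hz)
  have z_gz : π (g * z) = -(czz • π wC) := by rw [← hxzz, hg, mul_assoc]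
  -- the third layer
  set T := span₃ wA wB wC ⊔ R ^ 4 with hT
  have h4T : R ^ 4 ≤ T := le_sup_right
  have hTA : wA ∈ T := Submodule.mem_sup_left mem₁
  have hTB : wB ∈ T := Submodule.mem_sup_left mem₂
  have hTC : wC ∈ T := Submodule.mem_sup_left mem₃
  have inT : ∀ {w v : A} (t : k), π w = t • π v → v ∈ T → w ∈ T := fun {w v} t e hv =>
    (sup_le (singleton_le hv) h4T : Submodule.span k {v} ⊔ R ^ 4 ≤ T) (mem_span_sup e)
  have hgx : g * x ∈ T := h4T (mem_of_mk z_gx)
  have hG2x : ∀ w ∈ R * R, w * x ∈ T := fun w hw => by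
    obtain ⟨a, b, c, e, -, -⟩ := hrx hw
    exact inT (-c) (by rw [e, neg_smul]) hTB
  have hcube := two_gen_cube hy hz (I := Submodule.span k {y * x} ⊔ Submodule.span k {g}) (T := T)
    h4T ?_ ?_ ?_
  rotate_left
  · intro i hi
    obtain ⟨u, hu, v, hv, rfl⟩ := Submodule.mem_sup.1 hi
    obtain ⟨s, rfl⟩ := Submodule.mem_span_singleton.1 hu
    obtain ⟨t, rfl⟩ := Submodule.mem_span_singleton.1 hv
    simp only [add_mul, smul_mul_assoc]
    exact ⟨add_mem (T.smul_mem s (h4T (mem_of_mk z_py))) (T.smul_mem t hTC),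
      add_mem (T.smul_mem s (inT 1 (by rw [one_smul]; exact z_pz) hTA))
        (T.smul_mem t (inT (-czz) (by rw [z_gz, neg_smul]) hTC))⟩
  · intro i hi
    obtain ⟨u, hu, v, hv, rfl⟩ := Submodule.mem_sup.1 hi
    obtain ⟨s, rfl⟩ := Submodule.mem_span_singleton.1 hu
    obtain ⟨t, rfl⟩ := Submodule.mem_span_singleton.1 hv
    simp only [mul_add, mul_smul_comm]
    refine ⟨add_mem (T.smul_mem s ?_) (T.smul_mem t hTA), add_mem (T.smul_mem s ?_) (T.smul_mem t
      (h4T (mem_of_mk z_zg)))⟩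
    · rw [← mul_assoc]; exact hG2x _ (Submodule.mul_mem_mul hy hy)
    · rw [← mul_assoc]; exact hTB
  · rintro a ha b hb
    have hab : a * b ∈ R * R := Submodule.mul_mem_mul
      (by rcases ha with rfl | rfl <;> assumption) (by rcases hb with rfl | rfl <;> assumption)
    refine (sup_le (span₃_le ?_ ?_ ?_) (le_sup_right.trans le_sup_right) :
      span₃ (y * x) g h ⊔ R ^ 3 ≤ _) (hG2 hab)
    · exact Submodule.mem_sup_right
        (Submodule.mem_sup_left (Submodule.mem_sup_left (Submodule.mem_span_singleton_self _)))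
    · exact Submodule.mem_sup_right
        (Submodule.mem_sup_left (Submodule.mem_sup_right (Submodule.mem_span_singleton_self _)))
    · exact Submodule.mem_sup_left (Submodule.mem_span_singleton_self _)
  have hG3 : R ^ 3 ≤ T := by
    refine (succ_le_gen_right (n := 2) (S := span₃ (y * x) g h) (span₃_le p2 g2 h2) hgen
      (by rw [← h22]; exact hG2)).trans (sup_le ?_ h4T)
    simp only [Submodule.sup_mul, Submodule.mul_sup, Submodule.span_mul_span,
      Set.singleton_mul_singleton]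
    refine sup_le (sup_le (sup_le (sup_le ?_ ?_) ?_) (sup_le (sup_le ?_ ?_) ?_))
      (sup_le (sup_le ?_ ?_) ?_) <;> refine singleton_le ?_
    all_goals first
      | exact h4T (mem_of_mk z_px)
      | exact h4T (mem_of_mk z_py)
      | exact inT 1 (by rw [one_smul]; exact z_pz) hTA
      | exact hgx
      | exact hTC
      | exact inT (-czz) (by rw [z_gz, neg_smul]) hTC
      | exact inT (-1) (by rw [z_hx, neg_smul, one_smul]) hTB
      | exact hcube.1
      | exact hcube.2
  -- a linear relation between the three elements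
  obtain ⟨a, b, c, habc, hrel⟩ : ∃ a b c : k, (a ≠ 0 ∨ b ≠ 0 ∨ c ≠ 0) ∧
      a • wA + b • wB + c • wC ∈ R ^ 4 := by
    by_contra hno
    have hind : ∀ a b c : k, a • π wA + b • π wB + c • π wC = 0 → a = 0 ∧ b = 0 ∧ c = 0 := by
      intro a b c e
      rw [← map_smul, ← map_smul, ← map_smul, ← map_add, ← map_add] at e
      by_contra hne
      exact hno ⟨a, b, c, by tauto, mem_of_mk e⟩
    have hc' : ∀ {c : k}, c • π wC = 0 → c = 0 := fun {c} e =>
      (hind 0 0 c (by rw [zero_smul, zero_smul, zero_add, zero_add, e])).2.2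
    have hb' : ∀ {c : k}, c • π wB = 0 → c = 0 := fun {c} e =>
      (hind 0 c 0 (by rw [zero_smul, zero_smul, zero_add, add_zero, e])).2.1
    rcases hfull with hfull | hg3
    swap
    · exact absurd (hind 1 0 0 (by
        rw [one_smul, zero_smul, zero_smul, add_zero, add_zero, hwA]
        exact mk_zero (mul_mem_pow_left hy hg3))).1 one_ne_zero
    obtain ⟨a₁, b₁, c₁, e1x, ex1, r1⟩ := hrx (Submodule.mul_mem_mul hy hy)
    obtain ⟨a₂, b₂, c₂, e2x, ex2, r2⟩ := hrx (Submodule.mul_mem_mul hy hz)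
    have hc1 : c₁ = 0 := by
      refine hc' (neg_eq_zero.1 ?_)
      rw [← ex1, ← mul_assoc]
      exact mk_zero (mul_mem_pow_right hxy hy)
    have hc2 : c₂ = 0 := by
      refine hc' (neg_eq_zero.1 ?_)
      rw [← ex2, ← mul_assoc]
      exact mk_zero (mul_mem_pow_right hxy hz)
    have hc0 : czz = 0 := by
      refine hb' (neg_eq_zero.1 ?_)
      rw [← hzzx, mul_assoc]
      exact mk_zero (mul_mem_pow_left hz hzx)
    subst hc1; subst hc2; subst hc0
    rw [zero_smul, neg_zero] at e1x z_gz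
    -- products with `y y`, `y z`, `z z`
    have ev : ∀ {w : A} {s t : k}, w - (s • (y * x) + t • g + (0 : k) • h) ∈ R ^ 3 → ∀ v ∈ R,
        π (w * v) = s • π (y * x * v) + t • π (g * v) ∧
        π (v * w) = s • π (v * (y * x)) + t • π (v * g) := by
      intro w s t hw v hv
      rw [← map_smul, ← map_smul, ← map_add, ← map_smul, ← map_smul, ← map_add]
      constructor
      · refine mk_eq ?_
        have := mul_mem_pow_right hw hv
        convert this using 1
        simp [sub_mul, add_mul]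
      · refine mk_eq ?_
        have := mul_mem_pow_left hv hw
        convert this using 1
        simp [mul_sub, mul_add]
    have yyz : π (y * y * z) = a₁ • π wA := by
      rw [(ev r1 z hz).1, z_pz, z_gz, smul_zero, add_zero]
    have yzy : π (y * z * y) = b₂ • π wC := by
      rw [(ev r2 y hy).1, z_py, smul_zero, zero_add, hwC]
    have zyy : π (z * (y * y)) = a₁ • π wB := by
      rw [(ev r1 z hz).2, z_zg, smul_zero, add_zero, hwB, ← mul_assoc]
    have yyz' : π (y * (y * z)) = b₂ • π wA := by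
      have : π (y * (y * x)) = 0 := by rw [← mul_assoc]; exact e1x
      rw [(ev r2 y hy).2, this, smul_zero, zero_add, hwA]
    have hb2 : b₂ = a₁ := by
      have := (hind (b₂ - a₁) 0 0 (by
        rw [zero_smul, zero_smul, add_zero, add_zero, sub_smul, ← yyz', ← yyz, mul_assoc,
          sub_self])).1
      exact sub_eq_zero.1 this
    have zyz : π (z * (y * z)) = a₂ • π wB := by
      rw [(ev r2 z hz).2, z_zg, smul_zero, add_zero, hwB, ← mul_assoc]
    have zzy : π (z * z * y) = bzz • π wC := by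
      rw [(ev hzz y hy).1, z_py, smul_zero, zero_add, hwC]
    have yzz : π (y * (z * z)) = bzz • π wA := by
      have : π (y * (y * x)) = 0 := by rw [← mul_assoc]; exact e1x
      rw [(ev hzz y hy).2, this, smul_zero, zero_add, hwA]
    have yzz' : π (y * z * z) = a₂ • π wA := by
      rw [(ev r2 z hz).1, z_pz, z_gz, smul_zero, add_zero]
    have ha2 : a₂ = bzz := by
      have := (hind (a₂ - bzz) 0 0 (by
        rw [zero_smul, zero_smul, add_zero, add_zero, sub_smul, ← yzz', ← yzz, mul_assoc,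
          sub_self])).1
      exact sub_eq_zero.1 this
    set S₀ := Submodule.span k {wA - wB} ⊔ Submodule.span k {wB - wC} ⊔ R ^ 4 with hS₀
    have h4S : R ^ 4 ≤ S₀ := le_sup_right
    have inS : ∀ {w : A} (s t : k), π w = s • (π wA - π wB) + t • (π wB - π wC) → w ∈ S₀ := by
      intro w s t e
      rw [← map_sub, ← map_sub, ← map_smul, ← map_smul, ← map_add] at e
      rw [← sub_add_cancel w (s • (wA - wB) + t • (wB - wC))]
      exact add_mem (h4S ((Submodule.Quotient.eq _).1 e)) (Submodule.mem_sup_left (add_mem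
        (Submodule.mem_sup_left (Submodule.mem_span_singleton.2 ⟨s, rfl⟩))
        (Submodule.mem_sup_right (Submodule.mem_span_singleton.2 ⟨t, rfl⟩))))
    have txp : x * (y * x) - y * x * x ∈ S₀ := inS 0 0 (by rw [map_sub, z_xp, z_px]; module)
    have txg : x * g - g * x ∈ S₀ := inS 0 0 (by rw [map_sub, z_xg, z_gx]; module)
    have txh : x * h - h * x ∈ S₀ := inS 0 1 (by rw [map_sub, z_xh, z_hx]; module)
    have typ : y * (y * x) - y * x * y ∈ S₀ :=
      inS 0 0 (by rw [map_sub, z_py, ← mul_assoc, e1x]; module)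
    have tyg : y * g - g * y ∈ S₀ := inS 1 1 (by rw [map_sub]; module)
    have tzp : z * (y * x) - y * x * z ∈ S₀ :=
      inS (-1) 0 (by rw [map_sub, z_pz, ← mul_assoc]; module)
    have tzg : z * g - g * z ∈ S₀ := inS 0 0 (by rw [map_sub, z_zg, z_gz]; module)
    have tyh : y * h - h * y ∈ S₀ := inS a₁ (2 * a₁) (by
      rw [hh, mul_sub, sub_mul, map_sub, map_sub, map_sub, yyz', yzy,
        show π (y * (z * y)) = b₂ • π wC by rw [← mul_assoc]; exact yzy,
        show π (z * y * y) = a₁ • π wB by rw [mul_assoc]; exact zyy, hb2]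
      module)
    have tzh : z * h - h * z ∈ S₀ := inS (-a₂) a₂ (by
      rw [hh, mul_sub, sub_mul, map_sub, map_sub, map_sub, zyz,
        show π (z * (z * y)) = bzz • π wC by rw [← mul_assoc]; exact zzy, yzz',
        show π (z * y * z) = a₂ • π wB by rw [mul_assoc]; exact zyz, ha2]
      module)
    have hUR : span₃ x y z ≤ R := span₃_le hx hy hz
    have hC : commSpan R ≤ span₃ (x * y - y * x) (x * z - z * x) (y * z - z * y) ⊔ S₀ := by
      refine commSpan_le_gen hgen (comm_mem_three (Submodule.mem_sup_left mem₁)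
        (Submodule.mem_sup_left mem₂) (Submodule.mem_sup_left mem₃))
        (fun u hu r hr => Submodule.mem_sup_right ?_) (fun r hr s hs => Submodule.mem_sup_right
          (h4S (sub_mem (mul_mem_pow (h22 ▸ hr : r ∈ R ^ 2) (h22 ▸ hs : s ∈ R ^ 2))
            (mul_mem_pow (h22 ▸ hs : s ∈ R ^ 2) (h22 ▸ hr : r ∈ R ^ 2)))))
      obtain ⟨s₁, s₂, s₃, r', hr', rfl⟩ := mem_sup₃ (hG2 hr)
      obtain ⟨u₁, u₂, u₃, u', hu', rfl⟩ :=
        mem_sup₃ (T := (⊥ : Submodule k A)) (show u ∈ _ ⊔ ⊥ by rwa [sup_bot_eq])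
      rw [Submodule.mem_bot] at hu'
      subst hu'
      have hu3 : (u₁ • x + u₂ • y + u₃ • z + 0) * r' - r' * (u₁ • x + u₂ • y + u₃ • z + 0) ∈ S₀ :=
        h4S (sub_mem (mul_mem_pow_left (hUR hu) hr') (mul_mem_pow_right hr' (hUR hu)))
      have := add_mem (add_mem (add_mem
        (add_mem (add_mem (S₀.smul_mem (u₁ * s₁) txp) (S₀.smul_mem (u₁ * s₂) txg))
          (S₀.smul_mem (u₁ * s₃) txh))
        (add_mem (add_mem (S₀.smul_mem (u₂ * s₁) typ) (S₀.smul_mem (u₂ * s₂) tyg))
          (S₀.smul_mem (u₂ * s₃) tyh)))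
        (add_mem (add_mem (S₀.smul_mem (u₃ * s₁) tzp) (S₀.smul_mem (u₃ * s₂) tzg))
          (S₀.smul_mem (u₃ * s₃) tzh))) hu3
      convert this using 1
      simp only [add_zero, add_mul, mul_add, smul_mul_assoc, mul_smul_comm]
      module
    have hS3 : S₀ ≤ R ^ 3 :=
      sup_le (sup_le (singleton_le (sub_mem hA3 hB3)) (singleton_le (sub_mem hB3 hC3))) h43
    obtain ⟨w, hw, r, hr, e⟩ := Submodule.mem_sup.1 (hcyc h4 hA3)
    obtain ⟨κ₁, κ₂, κ₃, f, hf, rfl⟩ := mem_sup₃ (hC hw)
    obtain ⟨h1, h2', h3'⟩ := hfull κ₁ κ₂ κ₃ (by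
      have := sub_mem (sub_mem hA3 (h43 hr)) (hS3 hf)
      convert this using 1
      rw [← e, hh]; abel)
    obtain ⟨s, t, f', hf', rfl⟩ := mem_sup₂ hf
    have h0 : (1 - s) • π wA + (s - t) • π wB + t • π wC = 0 := by
      have e' : wA = s • (wA - wB) + t • (wB - wC) + (f' + r) := by
        conv_lhs => rw [← e, h1, h2', h3']
        module
      have e'' : π (s • (wA - wB) + t • (wB - wC) + (f' + r)) =
          s • (π wA - π wB) + t • (π wB - π wC) := by
        rw [map_add π _ (f' + r), mk_zero (add_mem hf' hr), add_zero, map_add, map_smul, map_smul,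
          map_sub, map_sub]
      rw [← e'] at e''
      linear_combination (norm := module) e''
    obtain ⟨i1, i2, i3⟩ := hind _ _ _ h0
    exact one_ne_zero (by linear_combination i1 + i2 + i3 : (1 : k) = 0)
  -- the fourth layer
  set d₁ := ρ (y * g * y) with hd₁
  set d₂ := ρ (z * y * x * z) with hd₂
  set d₃ := ρ (g * y * x) with hd₃
  have m5r : ∀ {u v}, u ∈ R ^ 4 → v ∈ R → ρ (u * v) = 0 := fun hu hv =>
    mk_zero (mul_mem_pow_right hu hv)
  have m5l : ∀ {u v}, u ∈ R → v ∈ R ^ 4 → ρ (u * v) = 0 := fun hu hv =>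
    mk_zero (mul_mem_pow_left hu hv)
  have Ax : ρ (wA * x) = 0 := by
    rw [hwA, mul_assoc]; exact m5l hy (mem_of_mk z_gx)
  have Bx : ρ (wB * x) = 0 := by
    rw [hwB, mul_assoc (z * y)]
    exact mk_zero (mul_mem_pow (h22 ▸ Submodule.mul_mem_mul hz hy) hxx)
  have By : ρ (wB * y) = 0 := by
    rw [hwB, mul_assoc (z * y)]
    exact mk_zero (mul_mem_pow (h22 ▸ Submodule.mul_mem_mul hz hy) hxy)
  have xA : ρ (x * wA) = 0 := by
    rw [hwA, ← mul_assoc]; exact mk_zero (mul_mem_pow hxy g2)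
  have xB : ρ (x * wB) = d₃ := by rw [hd₃, hwB, hg]; simp only [mul_assoc]
  have xC : ρ (x * wC) = 0 := by
    rw [hwC, hg, show x * (x * z * y) = x * x * (z * y) by simp only [mul_assoc]]
    exact mk_zero (mul_mem_pow hxx (h22 ▸ Submodule.mul_mem_mul hz hy))
  have zC : ρ (z * wC) = 0 := by
    rw [hwC, hg, show z * (x * z * y) = z * x * (z * y) by simp only [mul_assoc]]
    exact mk_zero (mul_mem_pow hzx (h22 ▸ Submodule.mul_mem_mul hz hy))
  have hdec : ∀ {w}, w ∈ R ^ 3 → ∃ a b c : k, ∃ r ∈ R ^ 4, w = a • wA + b • wB + c • wC + r :=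
    fun hw => mem_sup₃ (hG3 hw)
  have right3 : ∀ {w}, w ∈ R ^ 3 → ∃ t : k, ρ (w * x) = t • d₃ := by
    intro w hw
    obtain ⟨a, b, c, r, hr, rfl⟩ := hdec hw
    refine ⟨c, ?_⟩
    simp only [add_mul, smul_mul_assoc, map_add, map_smul, Ax, Bx, m5r hr hx, smul_zero, zero_add,
      add_zero, hd₃, hwC]
  have left3 : ∀ {w}, w ∈ R ^ 3 → ∃ t : k, ρ (x * w) = t • d₃ := by
    intro w hw
    obtain ⟨a, b, c, r, hr, rfl⟩ := hdec hw
    refine ⟨b, ?_⟩
    simp only [mul_add, mul_smul_comm, map_add, map_smul, xA, xB, xC, m5l hx hr, smul_zero,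
      zero_add, add_zero]
  obtain ⟨tAz, hAz⟩ : ∃ t : k, ρ (wA * z) = t • d₁ := by
    refine ⟨-czz, ?_⟩
    rw [hd₁, hwA, mul_assoc y g z, mul_assoc y g y, ← map_smul]
    refine mk_eq ?_
    rw [← mul_smul_comm, ← mul_sub]
    refine mul_mem_pow_left hy (mem_of_mk ?_)
    rw [map_sub, map_smul, z_gz, hwC]; module
  obtain ⟨tCy, hCy⟩ : ∃ t : k, ρ (wC * y) = t • d₃ := by
    rw [hwC, hg, mul_assoc, mul_assoc]
    exact left3 (mul_mem_pow_left hz (h22 ▸ Submodule.mul_mem_mul hy hy))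
  obtain ⟨tCz, hCz⟩ : ∃ t : k, ρ (wC * z) = t • d₃ := by
    rw [hwC, hg, mul_assoc, mul_assoc]
    exact left3 (mul_mem_pow_left hz (h22 ▸ Submodule.mul_mem_mul hy hz))
  obtain ⟨tzB, hzB⟩ : ∃ t : k, ρ (z * wB) = t • d₃ := by
    rw [hwB, ← mul_assoc]
    exact right3 (mul_mem_pow_left hz (h22 ▸ Submodule.mul_mem_mul hz hy))
  obtain ⟨tyB, hyB⟩ : ∃ t : k, ρ (y * wB) = t • d₃ := by
    rw [hwB, ← mul_assoc]
    exact right3 (mul_mem_pow_left hy (h22 ▸ Submodule.mul_mem_mul hz hy))
  obtain ⟨tyA, hyA⟩ : ∃ t : k, ρ (y * wA) = t • d₂ := by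
    obtain ⟨a₁, b₁, c₁, e1x, -, -⟩ := hrx (Submodule.mul_mem_mul hy hy)
    refine ⟨-c₁, ?_⟩
    rw [hd₂, hwA, hg, show y * (y * (x * z)) = y * y * x * z by simp only [mul_assoc], ← map_smul]
    refine mk_eq ?_
    rw [← smul_mul_assoc, ← sub_mul]
    refine mul_mem_pow_right (mem_of_mk ?_) hz
    rw [map_sub, map_smul, e1x, hwB]; module
  have zA : ρ (z * wA) = d₂ := by rw [hd₂, hwA, hg]; simp only [mul_assoc]
  have yC : ρ (y * wC) = d₁ := by rw [hd₁, hwC]; simp only [mul_assoc]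
  -- consequences of the relation
  have mulr : ∀ v ∈ R, a • ρ (wA * v) + b • ρ (wB * v) + c • ρ (wC * v) = 0 := fun v hv => by
    rw [← m5r hrel hv]
    simp only [add_mul, smul_mul_assoc, map_add, map_smul]
  have mull : ∀ v ∈ R, a • ρ (v * wA) + b • ρ (v * wB) + c • ρ (v * wC) = 0 := fun v hv => by
    rw [← m5l hv hrel]
    simp only [mul_add, mul_smul_comm, map_add, map_smul]
  have r1 : b • d₃ = 0 := by
    have := mull x hx
    rwa [xA, xB, xC, smul_zero, smul_zero, zero_add, add_zero] at this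
  have r2 : c • d₃ = 0 := by
    have := mulr x hx
    rwa [Ax, Bx, smul_zero, smul_zero, zero_add, zero_add, hwC, ← hd₃] at this
  have r3 := mull z hz
  rw [zA, hzB, zC] at r3
  have r4 := mulr y hy
  rw [By, hCy, hwA, ← hd₁] at r4
  have r5 := mull y hy
  rw [hyA, hyB, yC] at r5
  have r6 := mulr z hz
  rw [hAz, hCz, hwB, ← hd₂] at r6
  have hG4 : ∀ g₀ : A, (∃ t : k, d₁ = t • ρ g₀) → (∃ t : k, d₂ = t • ρ g₀) →
      (∃ t : k, d₃ = t • ρ g₀) → Thin R 4 := by
    rintro g₀ ⟨t₁, e₁⟩ ⟨t₂, e₂⟩ ⟨t₃, e₃⟩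
    refine ⟨g₀, (succ_le_gen_right (n := 3) (S := span₃ wA wB wC)
      (span₃_le hA3 hB3 hC3) hgen hG3).trans (sup_le ?_ le_sup_right)⟩
    simp only [Submodule.sup_mul, Submodule.mul_sup, Submodule.span_mul_span,
      Set.singleton_mul_singleton]
    refine sup_le (sup_le (sup_le (sup_le ?_ ?_) ?_) (sup_le (sup_le ?_ ?_) ?_))
      (sup_le (sup_le ?_ ?_) ?_) <;> refine singleton_le ?_
    all_goals first
      | exact mem_span_sup (t := 0) (by rw [zero_smul]; exact Ax)
      | exact mem_span_sup (t := 0) (by rw [zero_smul]; exact Bx)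
      | exact mem_span_sup (t := 0) (by rw [zero_smul]; exact By)
      | exact mem_span_sup (t := t₁) (by rw [hwA, ← hρ, ← hd₁]; exact e₁)
      | exact mem_span_sup (t := tAz * t₁) (by rw [← hρ, hAz, e₁, smul_smul])
      | exact mem_span_sup (t := t₂) (by rw [hwB, ← hρ, ← hd₂]; exact e₂)
      | exact mem_span_sup (t := t₃) (by rw [hwC, ← hρ, ← hd₃]; exact e₃)
      | exact mem_span_sup (t := tCy * t₃) (by rw [← hρ, hCy, e₃, smul_smul])
      | exact mem_span_sup (t := tCz * t₃) (by rw [← hρ, hCz, e₃, smul_smul])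
  by_cases h3z : d₃ = 0
  · have z3 : ∃ t : k, d₃ = t • ρ (0 : A) := ⟨0, by rw [h3z, zero_smul]⟩
    simp only [h3z, smul_zero, add_zero, zero_add] at r3 r4 r5 r6
    by_cases ha : a = 0
    · simp only [ha, zero_smul, zero_add] at r5 r6
      rcases habc with ha' | hb | hc
      · exact absurd ha ha'
      · have : d₂ = 0 := (smul_eq_zero.1 r6).resolve_left hb
        exact hG4 (y * g * y) ⟨1, by rw [one_smul]⟩ ⟨0, by rw [this, zero_smul]⟩
          ⟨0, by rw [h3z, zero_smul]⟩
      · have : d₁ = 0 := (smul_eq_zero.1 r5).resolve_left hc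
        exact hG4 (z * y * x * z) ⟨0, by rw [this, zero_smul]⟩ ⟨1, by rw [one_smul]⟩
          ⟨0, by rw [h3z, zero_smul]⟩
    · have e₁ : d₁ = 0 := (smul_eq_zero.1 r4).resolve_left ha
      have e₂ : d₂ = 0 := (smul_eq_zero.1 r3).resolve_left ha
      exact hG4 0 ⟨0, by rw [e₁, zero_smul]⟩ ⟨0, by rw [e₂, zero_smul]⟩ z3
  · have hb : b = 0 := (smul_eq_zero.1 r1).resolve_right h3z
    have hc : c = 0 := (smul_eq_zero.1 r2).resolve_right h3z
    have ha : a ≠ 0 := by tauto
    simp only [hb, hc, zero_smul, smul_zero, add_zero] at r3 r4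
    have e₁ : d₁ = 0 := (smul_eq_zero.1 r4).resolve_left ha
    have e₂ : d₂ = 0 := (smul_eq_zero.1 r3).resolve_left ha
    exact hG4 (g * y * x) ⟨0, by rw [e₁, zero_smul]⟩ ⟨0, by rw [e₂, zero_smul]⟩
      ⟨1, by rw [one_smul]⟩

/-- A generator which kills two generators on the right and itself. -/
theorem kills_two [FiniteDimensional k A] {x y z : A} (hx : x ∈ R) (hy : y ∈ R) (hz : z ∈ R)
    (hgen : R ≤ span₃ x y z ⊔ R * R) (hxy : x * y ∈ R ^ 3) (hxz : x * z ∈ R ^ 3)
    (hC2 : R * R ≤ commSpan R ⊔ R ^ 3) : Thin R 4 := by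
  have h22 : R * R = R ^ 2 := (pow_two_eq R).symm
  set h := y * z - z * y with hh
  have hp : y * x ∈ R * R := Submodule.mul_mem_mul hy hx
  have hq : z * x ∈ R * R := Submodule.mul_mem_mul hz hx
  have hh2 : h ∈ R * R := sub_mem (Submodule.mul_mem_mul hy hz) (Submodule.mul_mem_mul hz hy)
  have hG2 : R * R ≤ span₃ (y * x) (z * x) h ⊔ R ^ 3 := by
    refine (sq_le_three hmul hx hy hz hgen hC2).trans (sup_le (span₃_le ?_ ?_ ?_) le_sup_right)
    · exact sub_mem (Submodule.mem_sup_right hxy) (Submodule.mem_sup_left mem₁)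
    · exact sub_mem (Submodule.mem_sup_right hxz) (Submodule.mem_sup_left mem₂)
    · exact Submodule.mem_sup_left mem₃
  set T := span₃ (y * x * x) (z * x * x) (h * x) ⊔ R ^ 4 with hT
  have h4T : R ^ 4 ≤ T := le_sup_right
  have hG2x : ∀ w ∈ R * R, w * x ∈ T := by
    intro w hw
    obtain ⟨a, b, c, r, hr, rfl⟩ := mem_sup₃ (hG2 hw)
    simp only [add_mul, smul_mul_assoc]
    exact add_mem (add_mem (add_mem (T.smul_mem _ (Submodule.mem_sup_left mem₁))
      (T.smul_mem _ (Submodule.mem_sup_left mem₂))) (T.smul_mem _ (Submodule.mem_sup_left mem₃)))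
      (h4T (mul_mem_pow_right hr hx))
  have hpy : ∀ {a}, a ∈ R → a * x * y ∈ T ∧ a * x * z ∈ T := fun ha => by
    rw [mul_assoc, mul_assoc]
    exact ⟨h4T (mul_mem_pow_left ha hxy), h4T (mul_mem_pow_left ha hxz)⟩
  have hcube := two_gen_cube hy hz
    (I := Submodule.span k {y * x} ⊔ Submodule.span k {z * x}) (T := T) h4T ?_ ?_ ?_
  rotate_left
  · intro i hi
    obtain ⟨u, hu, v, hv, rfl⟩ := Submodule.mem_sup.1 hi
    obtain ⟨s, rfl⟩ := Submodule.mem_span_singleton.1 hu
    obtain ⟨t, rfl⟩ := Submodule.mem_span_singleton.1 hv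
    simp only [add_mul, smul_mul_assoc]
    exact ⟨add_mem (T.smul_mem s (hpy hy).1) (T.smul_mem t (hpy hz).1),
      add_mem (T.smul_mem s (hpy hy).2) (T.smul_mem t (hpy hz).2)⟩
  · intro i hi
    obtain ⟨u, hu, v, hv, rfl⟩ := Submodule.mem_sup.1 hi
    obtain ⟨s, rfl⟩ := Submodule.mem_span_singleton.1 hu
    obtain ⟨t, rfl⟩ := Submodule.mem_span_singleton.1 hv
    simp only [mul_add, mul_smul_comm, ← mul_assoc]
    exact ⟨add_mem (T.smul_mem s (hG2x _ (Submodule.mul_mem_mul hy hy)))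
        (T.smul_mem t (hG2x _ (Submodule.mul_mem_mul hy hz))),
      add_mem (T.smul_mem s (hG2x _ (Submodule.mul_mem_mul hz hy)))
        (T.smul_mem t (hG2x _ (Submodule.mul_mem_mul hz hz)))⟩
  · rintro a ha b hb
    have hab : a * b ∈ R * R := Submodule.mul_mem_mul
      (by rcases ha with rfl | rfl <;> assumption) (by rcases hb with rfl | rfl <;> assumption)
    refine (sup_le (span₃_le ?_ ?_ ?_) (le_sup_right.trans le_sup_right) :
      span₃ (y * x) (z * x) h ⊔ R ^ 3 ≤ _) (hG2 hab)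
    · exact Submodule.mem_sup_right
        (Submodule.mem_sup_left (Submodule.mem_sup_left (Submodule.mem_span_singleton_self _)))
    · exact Submodule.mem_sup_right
        (Submodule.mem_sup_left (Submodule.mem_sup_right (Submodule.mem_span_singleton_self _)))
    · exact Submodule.mem_sup_left (Submodule.mem_span_singleton_self _)
  have hG3 : R ^ 3 ≤ T := by
    refine (succ_le_gen_right (n := 2) (S := span₃ (y * x) (z * x) h)
      (span₃_le (h22 ▸ hp) (h22 ▸ hq) (h22 ▸ hh2)) hgen (by rw [← h22]; exact hG2)).trans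
      (sup_le ?_ h4T)
    simp only [Submodule.sup_mul, Submodule.mul_sup, Submodule.span_mul_span,
      Set.singleton_mul_singleton]
    refine sup_le (sup_le (sup_le (sup_le ?_ ?_) ?_) (sup_le (sup_le ?_ ?_) ?_))
      (sup_le (sup_le ?_ ?_) ?_) <;> refine singleton_le ?_
    all_goals first
      | exact hG2x _ hp
      | exact hG2x _ hq
      | exact hG2x _ hh2
      | exact (hpy hy).1
      | exact (hpy hy).2
      | exact (hpy hz).1
      | exact (hpy hz).2
      | exact hcube.1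
      | exact hcube.2
  have hx3 : x * (x * x) ∈ R ^ 4 := by
    obtain ⟨a, b, c, r, hr, e⟩ := mem_sup₃ (hG2 (Submodule.mul_mem_mul hx hx))
    rw [e, hh]
    simp only [mul_add, mul_sub, mul_smul_comm, ← mul_assoc]
    exact add_mem (add_mem (add_mem ((R ^ 4).smul_mem _ (mul_mem_pow_right hxy hx))
      ((R ^ 4).smul_mem _ (mul_mem_pow_right hxz hx))) ((R ^ 4).smul_mem _
      (sub_mem (mul_mem_pow_right hxy hz) (mul_mem_pow_right hxz hy)))) (mul_mem_pow_left hx hr)
  refine ⟨h * x * x, (succ_le_gen_right (n := 3) (S := span₃ (y * x * x) (z * x * x) (h * x))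
    (span₃_le (mul_mem_pow_right (h22 ▸ hp) hx) (mul_mem_pow_right (h22 ▸ hq) hx)
      (mul_mem_pow_right (h22 ▸ hh2) hx)) hgen hG3).trans (sup_le ?_ le_sup_right)⟩
  have hxv : ∀ {w v : A}, w ∈ R ^ 2 → x * v ∈ R ^ 3 → w * x * v ∈ R ^ 5 := fun hw hv => by
    rw [mul_assoc]; exact mul_mem_pow hw hv
  have hax : ∀ {w}, w ∈ R → w * x * x * x ∈ R ^ 5 := fun {w} hw => by
    rw [show w * x * x * x = w * (x * (x * x)) by simp only [mul_assoc]]
    exact mul_mem_pow_left hw hx3
  have hR2 : ∀ {w}, w ∈ R → w * x ∈ R ^ 2 := fun hw => h22 ▸ Submodule.mul_mem_mul hw hx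
  simp only [Submodule.sup_mul, Submodule.mul_sup, Submodule.span_mul_span,
    Set.singleton_mul_singleton]
  refine sup_le (sup_le (sup_le (sup_le ?_ ?_) ?_) (sup_le (sup_le ?_ ?_) ?_))
    (sup_le (sup_le ?_ ?_) ?_) <;> refine singleton_le ?_
  all_goals first
    | exact Submodule.mem_sup_left (Submodule.mem_span_singleton_self _)
    | exact Submodule.mem_sup_right (hax hy)
    | exact Submodule.mem_sup_right (hax hz)
    | exact Submodule.mem_sup_right (hxv (hR2 hy) hxy)
    | exact Submodule.mem_sup_right (hxv (hR2 hy) hxz)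
    | exact Submodule.mem_sup_right (hxv (hR2 hz) hxy)
    | exact Submodule.mem_sup_right (hxv (hR2 hz) hxz)
    | exact Submodule.mem_sup_right (hxv (h22 ▸ hh2) hxy)
    | exact Submodule.mem_sup_right (hxv (h22 ▸ hh2) hxz)

end Cfsg.Agent.LocalSymThreeGen27
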