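import Mathlib
import Cfsg.Agent.Lib.LocalSymThreeGen27

/-!
# Three generators: a generator of left rank one

The fourth layer of a local algebra with three generators is thin if one generator maps the
generators into a line of the second layer.
-/

set_option autoImplicit false
set_option linter.unusedSectionVars false

namespace Cfsg.Agent.LocalSymThreeGen27

open BrandtAlgebra42 LocalSymAlg42 LocalSymLayer27 LocalSymTools27

variable {k : Type*} [Field k] {A : Type*} [Ring A] [Algebra k A] {R : Submodule k A}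

/-- Independence of the three commutators, as a hypothesis transported along generators. -/
theorem indep_three [FiniteDimensional k A] {c₁ c₂ c₃ : A} (h1 : c₁ ∈ R * R) (h2 : c₂ ∈ R * R)
    (h3 : c₃ ∈ R * R) (hR3 : R ^ 3 ≤ R * R) (hspan : R * R ≤ span₃ c₁ c₂ c₃ ⊔ R ^ 3)
    (hdim : Module.finrank k (R ^ 3 : Submodule k A) + 3 ≤ Module.finrank k (R * R : Submodule k A)) :
    ∀ a b c : k, a • c₁ + b • c₂ + c • c₃ ∈ R ^ 3 → a = 0 ∧ b = 0 ∧ c = 0 := by
  intro a b c h
  let v : Fin 3 → A := ![c₁, c₂, c₃]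
  have hle : R * R ≤ (Submodule.span k (Set.range fun i => (R ^ 3).mkQ (v i))).comap (R ^ 3).mkQ := by
    refine hspan.trans (sup_le (span₃_le ?_ ?_ ?_) ?_)
    · exact Submodule.subset_span ⟨0, rfl⟩
    · exact Submodule.subset_span ⟨1, rfl⟩
    · exact Submodule.subset_span ⟨2, rfl⟩
    · intro x hx
      show (R ^ 3).mkQ x ∈ Submodule.span k (Set.range fun i => (R ^ 3).mkQ (v i))
      rw [mk_zero hx]; exact zero_mem _
  have hmap : (R * R).map (R ^ 3).mkQ ≤
      Submodule.span k (Set.range fun i => (R ^ 3).mkQ (v i)) := Submodule.map_le_iff_le_comap.2 hle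
  have hfr : Module.finrank k ((R * R).map (R ^ 3).mkQ) + Module.finrank k (R ^ 3 : Submodule k A) =
      Module.finrank k (R * R : Submodule k A) := by
    have h := LinearMap.finrank_range_add_finrank_ker ((R ^ 3).mkQ.comp (R * R).subtype)
    rw [LinearMap.range_comp, Submodule.range_subtype] at h
    rw [LinearMap.ker_comp, Submodule.ker_mkQ,
      (Submodule.comapSubtypeEquivOfLe hR3).finrank_eq] at h
    exact h
  have hli : LinearIndependent k (fun i => (R ^ 3).mkQ (v i)) := by
    rw [linearIndependent_iff_card_le_finrank_span]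
    have := Submodule.finrank_mono hmap
    simp only [Fintype.card_fin, Set.finrank]
    omega
  have hz := Fintype.linearIndependent_iff.1 hli ![a, b, c] (by
    simp only [Fin.sum_univ_three, v, Matrix.cons_val_zero, Matrix.cons_val_one, Matrix.cons_val]
    rw [← map_smul, ← map_smul, ← map_smul, ← map_add, ← map_add]
    exact mk_zero h)
  exact ⟨hz 0, hz 1, hz 2⟩

variable (hmul : R * R ≤ R)

include hmul

/-- A generator which kills itself and a further generator on the right. -/
theorem kills_self [FiniteDimensional k A] {x y z : A} (hx : x ∈ R) (hy : y ∈ R) (hz : z ∈ R)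
    (hgen : R ≤ span₃ x y z ⊔ R * R) (hxx : x * x ∈ R ^ 3) (hxy : x * y ∈ R ^ 3)
    (hC2 : R * R ≤ commSpan R ⊔ R ^ 3)
    (hfull : Module.finrank k (R ^ 3 : Submodule k A) + 3 ≤ Module.finrank k (R * R : Submodule k A) ∨
      x * z ∈ R ^ 3)
    (hcyc : R ^ 4 ≠ ⊥ → R ^ 3 ≤ commSpan R ⊔ R ^ 4) : Thin R 4 := by
  by_cases h40 : R ^ 4 = ⊥
  · exact ⟨0, by rw [h40]; exact bot_le⟩
  have h22 : R * R = R ^ 2 := (pow_two_eq R).symm
  set g := x * z with hg
  set q := z * x with hq
  set h := y * z - z * y with hh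
  have g2 : g ∈ R ^ 2 := h22 ▸ Submodule.mul_mem_mul hx hz
  have p2 : y * x ∈ R ^ 2 := h22 ▸ Submodule.mul_mem_mul hy hx
  have d2 : g - q ∈ R ^ 2 := sub_mem g2 (h22 ▸ Submodule.mul_mem_mul hz hx)
  have h2 : h ∈ R ^ 2 := h22 ▸ sub_mem (Submodule.mul_mem_mul hy hz) (Submodule.mul_mem_mul hz hy)
  have hG2 : R * R ≤ span₃ (y * x) (g - q) h ⊔ R ^ 3 := by
    refine (sq_le_three hmul hx hy hz hgen hC2).trans (sup_le (span₃_le ?_ ?_ ?_) le_sup_right)
    · exact sub_mem (Submodule.mem_sup_right hxy) (Submodule.mem_sup_left mem₁)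
    · exact Submodule.mem_sup_left mem₂
    · exact Submodule.mem_sup_left mem₃
  obtain ⟨α, β, γ, r₀, hr₀, eg⟩ := mem_sup₃ (hG2 (h22.symm ▸ g2 : g ∈ R * R))
  set π := (R ^ 4).mkQ with hπ
  set ρ := (R ^ 5).mkQ with hρ
  have z_px : π (y * x * x) = 0 := by rw [mul_assoc]; exact mk_zero (mul_mem_pow_left hy hxx)
  have z_py : π (y * x * y) = 0 := by rw [mul_assoc]; exact mk_zero (mul_mem_pow_left hy hxy)
  have z_pz : π (y * x * z) = π (y * g) := by rw [hg, mul_assoc]
  have z_qx : π (q * x) = 0 := by rw [hq, mul_assoc]; exact mk_zero (mul_mem_pow_left hz hxx)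
  have z_qy : π (q * y) = 0 := by rw [hq, mul_assoc]; exact mk_zero (mul_mem_pow_left hz hxy)
  have z_qz : π (q * z) = π (z * g) := by rw [hq, hg, mul_assoc]
  have z_xp : π (x * (y * x)) = 0 := by rw [← mul_assoc]; exact mk_zero (mul_mem_pow_right hxy hx)
  have z_xg : π (x * g) = 0 := by rw [hg, ← mul_assoc]; exact mk_zero (mul_mem_pow_right hxx hz)
  have z_xd : π (x * (g - q)) = -π (g * x) := by
    rw [mul_sub, map_sub, z_xg, zero_sub, hq, ← mul_assoc, hg]
  have z_xh : π (x * h) = -π (g * y) := by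
    have : π (x * y * z) = 0 := mk_zero (mul_mem_pow_right hxy hz)
    rw [hh, mul_sub, map_sub, ← mul_assoc, ← mul_assoc, this, zero_sub, hg]
  have z_dx : π ((g - q) * x) = π (g * x) := by rw [sub_mul, map_sub, z_qx, sub_zero]
  have z_dy : π ((g - q) * y) = π (g * y) := by rw [sub_mul, map_sub, z_qy, sub_zero]
  have z_dz : π ((g - q) * z) = π (g * z) - π (z * g) := by rw [sub_mul, map_sub, z_qz]
  have hrx : ∀ {w}, w ∈ R * R → ∃ a b c : k, π (w * x) = b • π (g * x) + c • π (h * x) ∧
      π (x * w) = -(b • π (g * x)) - c • π (g * y) ∧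
      w - (a • (y * x) + b • (g - q) + c • h) ∈ R ^ 3 := by
    intro w hw
    obtain ⟨a, b, c, r, hr, rfl⟩ := mem_sup₃ (hG2 hw)
    refine ⟨a, b, c, ?_, ?_, by simpa using hr⟩
    · have hr0 : π (r * x) = 0 := mk_zero (mul_mem_pow_right hr hx)
      simp only [add_mul, smul_mul_assoc, map_add, map_smul, z_px, z_dx, hr0]
      module
    · have hr0 : π (x * r) = 0 := mk_zero (mul_mem_pow_left hx hr)
      simp only [mul_add, mul_smul_comm, map_add, map_smul, z_xp, z_xd, z_xh, hr0]
      module
  -- the expansion of `g`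
  have eR : ∀ v ∈ R, π (g * v) =
      α • π (y * x * v) + β • π ((g - q) * v) + γ • π (h * v) := by
    intro v hv
    have hr0 : π (r₀ * v) = 0 := mk_zero (mul_mem_pow_right hr₀ hv)
    conv_lhs => rw [eg]
    simp only [add_mul, smul_mul_assoc, map_add, map_smul, hr0, add_zero]
  have eGx : (1 - β) • π (g * x) = γ • π (h * x) := by
    have := eR x hx
    rw [z_px, z_dx] at this
    linear_combination (norm := module) this
  have eGy : (1 - β) • π (g * y) = γ • π (h * y) := by
    have := eR y hy
    rw [z_py, z_dy] at this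
    linear_combination (norm := module) this
  obtain ⟨-, bzz, czz, ezzx, exzz, -⟩ := hrx (Submodule.mul_mem_mul hz hz)
  have z_gz : π (g * z) = -(bzz • π (g * x)) - czz • π (g * y) := by rw [← exzz, hg, mul_assoc]
  by_cases hγ : γ = 0
  · subst hγ
    simp only [zero_smul] at eGx eGy
    by_cases hβ : β = 1
    · -- periodic
      have hα : q - α • (y * x) ∈ R ^ 3 := by
        have := hr₀
        rw [show q - α • (y * x) = r₀ by
          rw [hβ] at eg
          linear_combination (norm := module) eg]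
        exact this
      refine periodic hmul hx hy (z := z - α • y) (sub_mem hz (R.smul_mem α hy)) ?_ hxx hxy ?_ ?_ ?_
        hcyc
      · refine hgen.trans (sup_le (span₃_le (Submodule.mem_sup_left mem₁)
          (Submodule.mem_sup_left mem₂) (Submodule.mem_sup_left ?_)) le_sup_right)
        rw [show (span₃ x y (z - α • y) : Submodule k A) = span₃ x y (z - α • y) from rfl]
        have := add_mem (mem₃ (a := x) (b := y) (c := z - α • y) (k := k))
          (Submodule.smul_mem _ α (mem₂ (a := x) (b := y) (c := z - α • y) (k := k)))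
        rwa [sub_add_cancel] at this
      · rw [sub_mul, smul_mul_assoc]; exact hα
      · set U := span₃ (y * x) (x * (z - α • y)) (y * (z - α • y) - (z - α • y) * y) ⊔ R ^ 3
          with hU
        have hgU : g ∈ U := by
          rw [show g = x * (z - α • y) + α • (x * y) by rw [mul_sub, mul_smul_comm, hg]; abel]
          exact add_mem (Submodule.mem_sup_left mem₂)
            (Submodule.mem_sup_right ((R ^ 3).smul_mem α hxy))
        refine hG2.trans (sup_le (span₃_le (Submodule.mem_sup_left mem₁) (sub_mem hgU ?_) ?_)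
          le_sup_right)
        · rw [← sub_add_cancel q (α • (y * x))]
          exact add_mem (Submodule.mem_sup_right hα) (U.smul_mem α (Submodule.mem_sup_left mem₁))
        · rw [show h = y * (z - α • y) - (z - α • y) * y by
            rw [hh, mul_sub, sub_mul, mul_smul_comm, smul_mul_assoc]; abel]
          exact Submodule.mem_sup_left mem₃
      · rcases hfull with hdim | hg3
        · left
          refine indep_three (sub_mem (Submodule.mul_mem_mul hx hy) (Submodule.mul_mem_mul hy hx))
            (sub_mem (Submodule.mul_mem_mul hx (sub_mem hz (R.smul_mem α hy)))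
              (Submodule.mul_mem_mul (sub_mem hz (R.smul_mem α hy)) hx))
            (sub_mem (Submodule.mul_mem_mul hy (sub_mem hz (R.smul_mem α hy)))
              (Submodule.mul_mem_mul (sub_mem hz (R.smul_mem α hy)) hy))
            (by rw [h22]; exact pow_anti hmul two_pos (by norm_num)) ?_ hdim
          refine sq_le_three hmul hx hy (sub_mem hz (R.smul_mem α hy)) ?_ hC2
          refine hgen.trans (sup_le (span₃_le (Submodule.mem_sup_left mem₁)
            (Submodule.mem_sup_left mem₂) (Submodule.mem_sup_left ?_)) le_sup_right)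
          have := add_mem (mem₃ (a := x) (b := y) (c := z - α • y) (k := k))
            (Submodule.smul_mem _ α (mem₂ (a := x) (b := y) (c := z - α • y) (k := k)))
          rwa [sub_add_cancel] at this
        · right
          rw [mul_sub, mul_smul_comm]
          exact sub_mem hg3 ((R ^ 3).smul_mem α hxy)
    · -- the left multiples of `x` vanish in the third layer
      have hgx : π (g * x) = 0 :=
        (smul_eq_zero.1 eGx).resolve_left (sub_ne_zero.2 (Ne.symm hβ))
      have hgy : π (g * y) = 0 :=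
        (smul_eq_zero.1 eGy).resolve_left (sub_ne_zero.2 (Ne.symm hβ))
      rw [hgx, hgy, smul_zero, smul_zero, neg_zero, sub_zero] at z_gz
      set T := span₃ (h * x) (y * g) (z * g) ⊔ R ^ 4 with hT
      have h4T : R ^ 4 ≤ T := le_sup_right
      have hTh : h * x ∈ T := Submodule.mem_sup_left mem₁
      have hTy : y * g ∈ T := Submodule.mem_sup_left mem₂
      have hTz : z * g ∈ T := Submodule.mem_sup_left mem₃
      have inT : ∀ {w v : A}, π w = π v → v ∈ T → w ∈ T := fun {w v} e hv => by
        rw [← sub_add_cancel w v]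
        exact add_mem (h4T ((Submodule.Quotient.eq _).1 e)) hv
      have in0 : ∀ {w : A}, π w = 0 → w ∈ T := fun e => h4T (mem_of_mk e)
      have hdx : π ((g - q) * x) = 0 := by rw [z_dx, hgx]
      have hdy : π ((g - q) * y) = 0 := by rw [z_dy, hgy]
      have hdz : (g - q) * z ∈ T := by
        refine inT (v := -(z * g)) ?_ (neg_mem hTz)
        rw [z_dz, z_gz, zero_sub, map_neg]
      have hG2x : ∀ w ∈ R * R, w * x ∈ T := by
        intro w hw
        obtain ⟨a, b, c, r, hr, rfl⟩ := mem_sup₃ (hG2 hw)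
        simp only [add_mul, smul_mul_assoc]
        exact add_mem (add_mem (add_mem (T.smul_mem _ (in0 z_px)) (T.smul_mem _ (in0 hdx)))
          (T.smul_mem _ hTh)) (h4T (mul_mem_pow_right hr hx))
      have hcube := two_gen_cube hy hz
        (I := span₃ (y * x) g q) (T := T) h4T ?_ ?_ ?_
      rotate_left
      · intro i hi
        obtain ⟨s, t, u, r, hr, rfl⟩ :=
          mem_sup₃ (T := (⊥ : Submodule k A)) (show i ∈ _ ⊔ ⊥ by rwa [sup_bot_eq])
        rw [Submodule.mem_bot] at hr
        subst hr
        simp only [add_zero, add_mul, smul_mul_assoc]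
        exact ⟨add_mem (add_mem (T.smul_mem s (in0 z_py)) (T.smul_mem t (in0 hgy)))
            (T.smul_mem u (in0 z_qy)),
          add_mem (add_mem (T.smul_mem s (inT z_pz hTy)) (T.smul_mem t (in0 z_gz)))
            (T.smul_mem u (inT z_qz hTz))⟩
      · intro i hi
        obtain ⟨s, t, u, r, hr, rfl⟩ :=
          mem_sup₃ (T := (⊥ : Submodule k A)) (show i ∈ _ ⊔ ⊥ by rwa [sup_bot_eq])
        rw [Submodule.mem_bot] at hr
        subst hr
        simp only [add_zero, mul_add, mul_smul_comm]
        refine ⟨add_mem (add_mem (T.smul_mem s ?_) (T.smul_mem t hTy)) (T.smul_mem u ?_),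
          add_mem (add_mem (T.smul_mem s ?_) (T.smul_mem t hTz)) (T.smul_mem u ?_)⟩
        · rw [← mul_assoc]; exact hG2x _ (Submodule.mul_mem_mul hy hy)
        · rw [hq, ← mul_assoc]; exact hG2x _ (Submodule.mul_mem_mul hy hz)
        · rw [← mul_assoc]; exact hG2x _ (Submodule.mul_mem_mul hz hy)
        · rw [hq, ← mul_assoc]; exact hG2x _ (Submodule.mul_mem_mul hz hz)
      · rintro a ha b hb
        have hab : a * b ∈ R * R := Submodule.mul_mem_mul
          (by rcases ha with rfl | rfl <;> assumption) (by rcases hb with rfl | rfl <;> assumption)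
        refine (sup_le (span₃_le ?_ ?_ ?_) (le_sup_right.trans le_sup_right) :
          span₃ (y * x) (g - q) h ⊔ R ^ 3 ≤ _) (hG2 hab)
        · exact Submodule.mem_sup_right (Submodule.mem_sup_left mem₁)
        · exact Submodule.mem_sup_right (Submodule.mem_sup_left (sub_mem mem₂ mem₃))
        · exact Submodule.mem_sup_left (Submodule.mem_span_singleton_self _)
      have hG3 : R ^ 3 ≤ T := by
        refine (succ_le_gen_right (n := 2) (S := span₃ (y * x) (g - q) h) (span₃_le p2 d2 h2) hgen
          (by rw [← h22]; exact hG2)).trans (sup_le ?_ h4T)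
        simp only [Submodule.sup_mul, Submodule.mul_sup, Submodule.span_mul_span,
          Set.singleton_mul_singleton]
        refine sup_le (sup_le (sup_le (sup_le ?_ ?_) ?_) (sup_le (sup_le ?_ ?_) ?_))
          (sup_le (sup_le ?_ ?_) ?_) <;> refine singleton_le ?_
        all_goals first
          | exact in0 z_px
          | exact in0 z_py
          | exact inT z_pz hTy
          | exact in0 hdx
          | exact in0 hdy
          | exact hdz
          | exact hTh
          | exact hcube.1
          | exact hcube.2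
      have hg0 : ∀ {u v : A}, u ∈ R → π (g * v) = 0 → u * g * v ∈ R ^ 5 := fun hu hv => by
        rw [mul_assoc]; exact mul_mem_pow_left hu (mem_of_mk hv)
      refine ⟨h * g, (succ_le_gen_right (n := 3) (S := span₃ (h * x) (y * g) (z * g))
        (span₃_le (mul_mem_pow_right h2 hx) (mul_mem_pow_left hy g2) (mul_mem_pow_left hz g2))
        hgen hG3).trans (sup_le ?_ le_sup_right)⟩
      simp only [Submodule.sup_mul, Submodule.mul_sup, Submodule.span_mul_span,
        Set.singleton_mul_singleton]
      refine sup_le (sup_le (sup_le (sup_le ?_ ?_) ?_) (sup_le (sup_le ?_ ?_) ?_))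
        (sup_le (sup_le ?_ ?_) ?_) <;> refine singleton_le ?_
      all_goals first
        | exact Submodule.mem_sup_right (hg0 hy hgx)
        | exact Submodule.mem_sup_right (hg0 hy hgy)
        | exact Submodule.mem_sup_right (hg0 hy z_gz)
        | exact Submodule.mem_sup_right (hg0 hz hgx)
        | exact Submodule.mem_sup_right (hg0 hz hgy)
        | exact Submodule.mem_sup_right (hg0 hz z_gz)
        | exact Submodule.mem_sup_left (by
            rw [hg, ← mul_assoc]; exact Submodule.mem_span_singleton_self _)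
        | exact Submodule.mem_sup_right (by rw [mul_assoc]; exact mul_mem_pow (i := 2) (j := 3) h2 hxx)
        | exact Submodule.mem_sup_right (by rw [mul_assoc]; exact mul_mem_pow (i := 2) (j := 3) h2 hxy)
  · -- the coefficient of the third commutator is nonzero
    have hxe : β • π (g * x) + γ • π (g * y) = 0 := by
      have h1 : π (x * g) = α • π (x * (y * x)) + β • π (x * (g - q)) + γ • π (x * h) := by
        have hr0 : π (x * r₀) = 0 := mk_zero (mul_mem_pow_left hx hr₀)
        conv_lhs => rw [eg]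
        simp only [mul_add, mul_smul_comm, map_add, map_smul, hr0, add_zero]
      rw [z_xg, z_xp, z_xd, z_xh] at h1
      linear_combination (norm := module) h1
    have egy : π (g * y) = (-(γ⁻¹ * β)) • π (g * x) := by
      linear_combination (norm := (match_scalars <;> field_simp <;> ring)) γ⁻¹ • hxe
    have ehx : π (h * x) = (γ⁻¹ * (1 - β)) • π (g * x) := by
      linear_combination (norm := (match_scalars <;> field_simp <;> ring)) -(γ⁻¹ • eGx)
    have ehy : π (h * y) = (γ⁻¹ * (1 - β) * -(γ⁻¹ * β)) • π (g * x) := by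
      rw [mul_smul _ (-(γ⁻¹ * β)), ← egy]
      linear_combination (norm := (match_scalars <;> field_simp <;> ring)) -(γ⁻¹ • eGy)
    obtain ⟨ν, egz⟩ : ∃ ν : k, π (g * z) = ν • π (g * x) :=
      ⟨-bzz - czz * -(γ⁻¹ * β), by rw [z_gz, egy]; module⟩
    set T := span₃ (g * x) (y * g) (z * g) ⊔ R ^ 4 with hT
    have h4T : R ^ 4 ≤ T := le_sup_right
    have hTg : g * x ∈ T := Submodule.mem_sup_left mem₁
    have hTy : y * g ∈ T := Submodule.mem_sup_left mem₂
    have hTz : z * g ∈ T := Submodule.mem_sup_left mem₃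
    have inT : ∀ {w : A} (a b c : k),
        π w = a • π (g * x) + b • π (y * g) + c • π (z * g) → w ∈ T := by
      intro w a b c e
      rw [← map_smul, ← map_smul, ← map_smul, ← map_add, ← map_add] at e
      rw [← sub_add_cancel w (a • (g * x) + b • (y * g) + c • (z * g))]
      exact add_mem (h4T ((Submodule.Quotient.eq _).1 e))
        (add_mem (add_mem (T.smul_mem a hTg) (T.smul_mem b hTy)) (T.smul_mem c hTz))
    have ehz : π (h * z) = (γ⁻¹ * (1 - β) * ν) • π (g * x) + (-(γ⁻¹ * α)) • π (y * g)
        + (γ⁻¹ * β) • π (z * g) := by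
      have := eR z hz
      rw [z_pz, z_dz, egz] at this
      linear_combination (norm := (match_scalars <;> field_simp <;> ring)) -(γ⁻¹ • this)
    have hG3 : R ^ 3 ≤ T := by
      refine (succ_le_gen_right (n := 2) (S := span₃ (y * x) (g - q) h) (span₃_le p2 d2 h2) hgen
        (by rw [← h22]; exact hG2)).trans (sup_le ?_ h4T)
      simp only [Submodule.sup_mul, Submodule.mul_sup, Submodule.span_mul_span,
        Set.singleton_mul_singleton]
      refine sup_le (sup_le (sup_le (sup_le ?_ ?_) ?_) (sup_le (sup_le ?_ ?_) ?_))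
        (sup_le (sup_le ?_ ?_) ?_) <;> refine singleton_le ?_
      all_goals first
        | exact inT 0 0 0 (by rw [z_px]; module)
        | exact inT 0 0 0 (by rw [z_py]; module)
        | exact inT 0 1 0 (by rw [z_pz]; module)
        | exact inT 1 0 0 (by rw [z_dx]; module)
        | exact inT (-(γ⁻¹ * β)) 0 0 (by rw [z_dy, egy]; module)
        | exact inT ν 0 (-1) (by rw [z_dz, egz]; module)
        | exact inT (γ⁻¹ * (1 - β)) 0 0 (by rw [ehx]; module)
        | exact inT (γ⁻¹ * (1 - β) * -(γ⁻¹ * β)) 0 0 (by rw [ehy]; module)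
        | exact inT (γ⁻¹ * (1 - β) * ν) (-(γ⁻¹ * α)) (γ⁻¹ * β) (by rw [ehz])
    -- the fourth layer
    set P := ρ (y * g * x) with hP
    set Q := ρ (z * g * x) with hQ
    have lift_r : ∀ {u v : A} {t : k}, π u = t • π v → ∀ w ∈ R,
        ρ (u * w) = t • ρ (v * w) := by
      intro u v t e w hw
      rw [← map_smul] at e
      rw [← map_smul, ← smul_mul_assoc]
      refine mk_eq ?_
      rw [← sub_mul]
      exact mul_mem_pow_right ((Submodule.Quotient.eq _).1 e) hw
    have lift_l : ∀ {u v : A} {t : k}, π u = t • π v → ∀ w ∈ R,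
        ρ (w * u) = t • ρ (w * v) := by
      intro u v t e w hw
      rw [← map_smul] at e
      rw [← map_smul, ← mul_smul_comm]
      refine mk_eq ?_
      rw [← mul_sub]
      exact mul_mem_pow_left hw ((Submodule.Quotient.eq _).1 e)
    have gxx : ρ (g * x * x) = 0 := by
      rw [mul_assoc]; exact mk_zero (mul_mem_pow g2 hxx)
    have gxy : ρ (g * x * y) = 0 := by
      rw [mul_assoc]; exact mk_zero (mul_mem_pow g2 hxy)
    have gxz : ρ (g * x * z) = ρ (g * g) := by rw [hg]; simp only [mul_assoc]
    have gyx : ρ (g * y * x) = 0 := by rw [lift_r egy x hx, gxx, smul_zero]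
    have gq : ρ (g * q) = 0 := by
      rw [hq, ← mul_assoc, lift_r egz x hx, gxx, smul_zero]
    have gh : ρ (g * h) = (-(γ⁻¹ * β)) • ρ (g * g) := by
      have e1 : ρ (g * y * z) = (-(γ⁻¹ * β)) • ρ (g * g) := by rw [lift_r egy z hz, gxz]
      have e2 : ρ (g * z * y) = 0 := by rw [lift_r egz y hy, gxy, smul_zero]
      rw [hh, mul_sub, map_sub, ← mul_assoc, ← mul_assoc, e1, e2, sub_zero]
    have gg : ρ (g * g) = 0 := by
      have h1 : ρ (g * g) = α • ρ (g * (y * x)) + β • (ρ (g * g) - ρ (g * q)) + γ • ρ (g * h) := by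
        have hr0 : ρ (g * r₀) = 0 := mk_zero (mul_mem_pow g2 hr₀)
        conv_lhs => arg 2; arg 2; rw [eg]
        simp only [mul_add, mul_sub, mul_smul_comm, map_add, map_sub, map_smul, hr0, add_zero]
      have gp : ρ (g * (y * x)) = 0 := by rw [← mul_assoc]; exact gyx
      rw [gp, gq, gh] at h1
      linear_combination (norm := (match_scalars <;> field_simp <;> ring)) h1
    have hpp : ρ (y * x * (y * x)) = 0 := by
      rw [show y * x * (y * x) = y * (x * y) * x by simp only [mul_assoc]]
      exact mk_zero (mul_mem_pow_right (mul_mem_pow_left hy hxy) hx)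
    have hdp : ρ ((g - q) * (y * x)) = 0 := by
      have gp : ρ (g * (y * x)) = 0 := by rw [← mul_assoc]; exact gyx
      have qp : ρ (q * (y * x)) = 0 := by
        rw [hq, show z * x * (y * x) = z * (x * y) * x by simp only [mul_assoc]]
        exact mk_zero (mul_mem_pow_right (mul_mem_pow_left hz hxy) hx)
      rw [sub_mul, map_sub, gp, qp, sub_zero]
    have hhp : ρ (h * (y * x)) = 0 := by
      rw [← mul_assoc, lift_r ehy x hx, gxx, smul_zero]
    have hG2p : ∀ w ∈ R * R, ρ (w * (y * x)) = 0 := by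
      intro w hw
      obtain ⟨a, b, c, r, hr, rfl⟩ := mem_sup₃ (hG2 hw)
      have hr0 : ρ (r * (y * x)) = 0 := mk_zero (mul_mem_pow hr p2)
      simp only [add_mul, smul_mul_assoc, map_add, map_smul, hpp, hdp, hhp, hr0, smul_zero,
        add_zero]
    have hmul_gx : ∀ {w}, w ∈ R * R → ∃ c : k, π (w * x) = c • π (g * x) := fun hw => by
      obtain ⟨a, b, c, e, -, -⟩ := hrx hw
      exact ⟨b + c * (γ⁻¹ * (1 - β)), by rw [e, ehx]; module⟩
    obtain ⟨c₂, ec2⟩ := hmul_gx (Submodule.mul_mem_mul hy hz)
    obtain ⟨c₃, ec3⟩ := hmul_gx (Submodule.mul_mem_mul hz hy)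
    obtain ⟨c₄, ec4⟩ := hmul_gx (Submodule.mul_mem_mul hz hz)
    have hyP : ρ (y * (g * x)) = P := by simp only [hP, mul_assoc]
    have hzQ : ρ (z * (g * x)) = Q := by simp only [hQ, mul_assoc]
    have h3P : c₃ • P = 0 := by
      rw [← hyP, ← lift_l ec3 y hy,
        show y * (z * y * x) = y * z * (y * x) by simp only [mul_assoc]]
      exact hG2p _ (Submodule.mul_mem_mul hy hz)
    have h3Q : c₃ • Q = 0 := by
      rw [← hzQ, ← lift_l ec3 z hz,
        show z * (z * y * x) = z * z * (y * x) by simp only [mul_assoc]]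
      exact hG2p _ (Submodule.mul_mem_mul hz hz)
    obtain ⟨g₀, t₁, t₂, hPg, hQg⟩ : ∃ (g₀ : A) (t₁ t₂ : k), P = t₁ • ρ g₀ ∧ Q = t₂ • ρ g₀ := by
      by_cases hc3 : c₃ = 0
      swap
      · exact ⟨0, 0, 0, by rw [zero_smul]; exact (smul_eq_zero.1 h3P).resolve_left hc3,
          by rw [zero_smul]; exact (smul_eq_zero.1 h3Q).resolve_left hc3⟩
      by_cases hgx0 : π (g * x) = 0
      · refine ⟨0, 0, 0, ?_, ?_⟩ <;> rw [zero_smul]
        · rw [← hyP]; exact mk_zero (mul_mem_pow_left hy (mem_of_mk hgx0))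
        · rw [← hzQ]; exact mk_zero (mul_mem_pow_left hz (mem_of_mk hgx0))
      have hc2 : γ * c₂ = 1 - β := by
        have e1 : π (h * x) = c₂ • π (g * x) := by
          rw [hh, sub_mul, map_sub, ec2, ec3, hc3, zero_smul, sub_zero]
        have : (c₂ - γ⁻¹ * (1 - β)) • π (g * x) = 0 := by rw [sub_smul, ← e1, ← ehx, sub_self]
        rw [sub_eq_zero.1 ((smul_eq_zero.1 this).resolve_right hgx0), ← mul_assoc,
          mul_inv_cancel₀ hγ, one_mul]
      have hpq : ρ (y * x * q) = P := by rw [hP, hq, hg]; simp only [mul_assoc]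
      have hqq : ρ (q * q) = Q := by rw [hQ, hq, hg]; simp only [mul_assoc]
      have hhq : ρ (h * q) = c₄ • P - c₂ • Q := by
        rw [← hyP, ← hzQ, ← lift_l ec4 y hy, ← lift_l ec2 z hz, ← map_sub, hh, hq]
        simp only [sub_mul, mul_assoc]
      have h1 : ρ (g * q) = α • ρ (y * x * q) + β • (ρ (g * q) - ρ (q * q)) + γ • ρ (h * q) := by
        have hr0 : ρ (r₀ * q) = 0 := mk_zero (mul_mem_pow hr₀ (h22 ▸ Submodule.mul_mem_mul hz hx))
        conv_lhs => rw [eg]
        simp only [add_mul, sub_mul, smul_mul_assoc, map_add, map_sub, map_smul, hr0, add_zero]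
      rw [gq, hpq, hqq, hhq] at h1
      have hQP : Q = (α + γ * c₄) • P := by
        have h2' : (β + γ * c₂) • Q = (α + γ * c₄) • P := by
          linear_combination (norm := module) h1
        rwa [hc2, add_sub_cancel, one_smul] at h2'
      exact ⟨y * g * x, 1, α + γ * c₄, by rw [one_smul], hQP⟩
    refine ⟨g₀, (succ_le_gen_right (n := 3) (S := span₃ (g * x) (y * g) (z * g))
      (span₃_le (mul_mem_pow_right g2 hx) (mul_mem_pow_left hy g2) (mul_mem_pow_left hz g2))
      hgen hG3).trans (sup_le ?_ le_sup_right)⟩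
    simp only [Submodule.sup_mul, Submodule.mul_sup, Submodule.span_mul_span,
      Set.singleton_mul_singleton]
    refine sup_le (sup_le (sup_le (sup_le ?_ ?_) ?_) (sup_le (sup_le ?_ ?_) ?_))
      (sup_le (sup_le ?_ ?_) ?_) <;> refine singleton_le ?_
    all_goals first
      | exact mem_span_sup (t := 0) (by rw [zero_smul]; exact gxx)
      | exact mem_span_sup (t := 0) (by rw [zero_smul]; exact gxy)
      | exact mem_span_sup (t := 0) (by rw [zero_smul, ← hρ, gxz, gg])
      | exact mem_span_sup (t := t₁) (by rw [← hρ, ← hP]; exact hPg)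
      | exact mem_span_sup (t := -(γ⁻¹ * β) * t₁) (by
          rw [mul_assoc, ← hρ, lift_l egy y hy, hyP, hPg, smul_smul])
      | exact mem_span_sup (t := ν * t₁) (by
          rw [mul_assoc, ← hρ, lift_l egz y hy, hyP, hPg, smul_smul])
      | exact mem_span_sup (t := t₂) (by rw [← hρ, ← hQ]; exact hQg)
      | exact mem_span_sup (t := -(γ⁻¹ * β) * t₂) (by
          rw [mul_assoc, ← hρ, lift_l egy z hz, hzQ, hQg, smul_smul])
      | exact mem_span_sup (t := ν * t₂) (by
          rw [mul_assoc, ← hρ, lift_l egz z hz, hzQ, hQg, smul_smul])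

/-- A generator of left rank at most one. -/
theorem three_gen [FiniteDimensional k A] {x g a b : A} (hx : x ∈ R) (ha : a ∈ R) (hb : b ∈ R)
    (hgen : R ≤ span₃ x a b ⊔ R * R) (hxV : ∀ v ∈ R, x * v ∈ Submodule.span k {g} ⊔ R ^ 3)
    (hC2 : R * R ≤ commSpan R ⊔ R ^ 3)
    (hfull : Module.finrank k (R ^ 3 : Submodule k A) + 3 ≤ Module.finrank k (R * R : Submodule k A) ∨
      ∀ v ∈ R, x * v ∈ R ^ 3)
    (hcyc : R ^ 4 ≠ ⊥ → R ^ 3 ≤ commSpan R ⊔ R ^ 4) : Thin R 4 := by
  obtain ⟨tx, rx, hrx, ex⟩ := mem_sup₁ (hxV x hx)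
  obtain ⟨ta, ra, hra, ea⟩ := mem_sup₁ (hxV a ha)
  obtain ⟨tb, rb, hrb, eb⟩ := mem_sup₁ (hxV b hb)
  have hfull' : ∀ z ∈ R, Module.finrank k (R ^ 3 : Submodule k A) + 3 ≤
      Module.finrank k (R * R : Submodule k A) ∨ x * z ∈ R ^ 3 :=
    fun z hz => hfull.imp_right fun h => h z hz
  by_cases hxx : x * x ∈ R ^ 3
  · by_cases hxa : x * a ∈ R ^ 3
    · exact kills_self hmul hx ha hb hgen hxx hxa hC2 (hfull' b hb) hcyc
    · have hta : ta ≠ 0 := fun h => hxa (by rw [ea, h, zero_smul, zero_add]; exact hra)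
      refine kills_self hmul hx (y := b - (tb * ta⁻¹) • a) (z := a)
        (sub_mem hb (R.smul_mem _ ha)) ha ?_ hxx ?_ hC2 (hfull' a ha) hcyc
      · refine hgen.trans (sup_le (span₃_le (Submodule.mem_sup_left mem₁)
          (Submodule.mem_sup_left mem₃) (Submodule.mem_sup_left ?_)) le_sup_right)
        have := add_mem (mem₂ (a := x) (b := b - (tb * ta⁻¹) • a) (c := a) (k := k))
          (Submodule.smul_mem _ (tb * ta⁻¹)
            (mem₃ (a := x) (b := b - (tb * ta⁻¹) • a) (c := a) (k := k)))
        rwa [sub_add_cancel] at this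
      · rw [mul_sub, mul_smul_comm, ea, eb, smul_add, smul_smul, mul_assoc,
          inv_mul_cancel₀ hta, mul_one, add_sub_add_left_eq_sub]
        exact sub_mem hrb ((R ^ 3).smul_mem _ hra)
  · have htx : tx ≠ 0 := fun h => hxx (by rw [ex, h, zero_smul, zero_add]; exact hrx)
    have key : ∀ {t : k} {v r : A}, x * v = t • g + r → r ∈ R ^ 3 →
        x * (v - (t * tx⁻¹) • x) ∈ R ^ 3 := by
      intro t v r e hr
      rw [mul_sub, mul_smul_comm, e, ex, smul_add, smul_smul, mul_assoc, inv_mul_cancel₀ htx,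
        mul_one, add_sub_add_left_eq_sub]
      exact sub_mem hr ((R ^ 3).smul_mem _ hrx)
    refine kills_two hmul hx (y := a - (ta * tx⁻¹) • x) (z := b - (tb * tx⁻¹) • x)
      (sub_mem ha (R.smul_mem _ hx)) (sub_mem hb (R.smul_mem _ hx)) ?_ (key ea hra) (key eb hrb) hC2
    refine hgen.trans (sup_le (span₃_le (Submodule.mem_sup_left mem₁)
      (Submodule.mem_sup_left ?_) (Submodule.mem_sup_left ?_)) le_sup_right)
    · have := add_mem
        (mem₂ (a := x) (b := a - (ta * tx⁻¹) • x) (c := b - (tb * tx⁻¹) • x) (k := k))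
        (Submodule.smul_mem _ (ta * tx⁻¹)
          (mem₁ (a := x) (b := a - (ta * tx⁻¹) • x) (c := b - (tb * tx⁻¹) • x) (k := k)))
      rwa [sub_add_cancel] at this
    · have := add_mem
        (mem₃ (a := x) (b := a - (ta * tx⁻¹) • x) (c := b - (tb * tx⁻¹) • x) (k := k))
        (Submodule.smul_mem _ (tb * tx⁻¹)
          (mem₁ (a := x) (b := a - (ta * tx⁻¹) • x) (c := b - (tb * tx⁻¹) • x) (k := k)))
      rwa [sub_add_cancel] at this

end Cfsg.Agent.LocalSymThreeGen27
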