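import Mathlib
import Cfsg.Agent.Lib.LocalSymThreeCase27
import Cfsg.Agent.Lib.LocalSymRank27

/-!
# Local algebras with three generators

The third or the fourth layer is thin.
-/

set_option autoImplicit false
set_option linter.unusedSectionVars false

namespace Cfsg.Agent.LocalSymThreeMain27

open BrandtAlgebra42 LocalSymAlg42 LocalSymLayer27 LocalSymTools27 LocalSymThreeGen27 LocalSymRank27

variable {k : Type*} [Field k]

/-- Two independent functionals on coordinates have a kernel of codimension two. -/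
theorem finrank_kernel {r : ℕ} {α β : Fin r → k} (h : LinearIndependent k ![α, β]) :
    Module.finrank k (LinearMap.ker ((Fintype.linearCombination k α).prod
      (Fintype.linearCombination k β))) + 2 = r := by
  set Φ := (Fintype.linearCombination k α).prod (Fintype.linearCombination k β) with hΦ
  have hsurj : LinearMap.range Φ = ⊤ := by
    by_contra hne
    obtain ⟨f, hf, hle⟩ := Submodule.exists_le_ker_of_lt_top _ (lt_top_iff_ne_top.2 hne)
    have key : ∀ s t : k, f (s, t) = s * f (1, 0) + t * f (0, 1) := fun s t => by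
      rw [show ((s, t) : k × k) = s • (1, 0) + t • (0, 1) by simp, map_add, map_smul, map_smul,
        smul_eq_mul, smul_eq_mul]
    have hz : f (1, 0) • α + f (0, 1) • β = 0 := by
      funext l
      have h' : Φ (Pi.single l 1) ∈ LinearMap.ker f := hle ⟨_, rfl⟩
      rw [LinearMap.mem_ker, show Φ (Pi.single l 1) = (α l, β l) by
        simp [hΦ, Fintype.linearCombination_apply_single], key] at h'
      simp only [Pi.add_apply, Pi.smul_apply, smul_eq_mul, Pi.zero_apply]
      linear_combination h'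
    obtain ⟨h1, h2⟩ := LinearIndependent.pair_iff.1 h _ _ hz
    refine hf (LinearMap.ext fun p => ?_)
    rw [show p = (p.1, p.2) from rfl, key, h1, h2]
    simp
  have := LinearMap.finrank_range_add_finrank_ker Φ
  rw [hsurj, finrank_top, Module.finrank_prod, Module.finrank_self, Module.finrank_fin_fun] at this
  omega

variable {A : Type*} [Ring A] [Algebra k A] [FiniteDimensional k A] {R : Submodule k A}

/-- A table with a generator of small left rank gives a thin fourth layer. -/
theorem thin_of_left (hmul : R * R ≤ R) {r : ℕ} (hr : r = 2 ∨ r = 3) (e : Fin 3 → A) (c : Fin r → A)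
    (he : ∀ i, e i ∈ R) (hgen : R ≤ Submodule.span k (Set.range e) ⊔ R * R) (δ : Fin r → A →ₗ[k] k)
    (hδ3 : ∀ l, ∀ z ∈ R ^ 3, δ l z = 0) (hexp : ∀ w ∈ R * R, w - ∑ l, δ l w • c l ∈ R ^ 3)
    (hfull : r = 3 →
      Module.finrank k (R ^ 3 : Submodule k A) + 3 ≤ Module.finrank k (R * R : Submodule k A))
    (hC2 : R * R ≤ commSpan R ⊔ R ^ 3) (hcyc : R ^ 4 ≠ ⊥ → R ^ 3 ≤ commSpan R ⊔ R ^ 4)
    (hs : LeftSmall (fun i j l => δ l (e i * e j))) : Thin R 4 := by
  classical
  obtain ⟨u, hu, α, β, hli, hker⟩ := hs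
  have h22 : R * R = R ^ 2 := (pow_two_eq R).symm
  set x := ∑ i, u i • e i with hx
  have hxR : x ∈ R := Submodule.sum_mem _ fun i _ => R.smul_mem _ (he i)
  set K := LinearMap.ker ((Fintype.linearCombination k α).prod (Fintype.linearCombination k β))
  have hK : Module.finrank k K + 2 = r := finrank_kernel hli
  -- coordinates of the products with `x`
  let D : A →ₗ[k] (Fin r → k) := LinearMap.pi fun l => (δ l).comp (LinearMap.mulLeft k x)
  have hD : ∀ v ∈ R, D v ∈ K := by
    have hle : R ≤ K.comap D := by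
      refine hgen.trans (sup_le (Submodule.span_le.2 ?_) fun v hv => ?_)
      · rintro _ ⟨j, rfl⟩
        show D (e j) ∈ K
        have hDj : ∀ l, D (e j) l = ∑ i, u i * δ l (e i * e j) := fun l => by
          simp [D, hx, Finset.sum_mul]
        refine LinearMap.mem_ker.2 (Prod.ext ?_ ?_)
        · simpa [Fintype.linearCombination_apply, hDj, mul_comm] using (hker j).1
        · simpa [Fintype.linearCombination_apply, hDj, mul_comm] using (hker j).2
      · show D v ∈ K
        rw [show D v = 0 from funext fun l => hδ3 l _ (mul_mem_pow_left hxR (h22 ▸ hv))]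
        exact zero_mem _
    exact fun v hv => hle hv
  obtain ⟨g₀, hg₀⟩ : ∃ g₀ : Fin r → k, K ≤ Submodule.span k {g₀} := by
    obtain ⟨g, hg⟩ := finrank_le_one_iff.1 (show Module.finrank k K ≤ 1 by omega)
    refine ⟨g, fun w hw => ?_⟩
    obtain ⟨t, ht⟩ := hg ⟨w, hw⟩
    exact Submodule.mem_span_singleton.2 ⟨t, congrArg Subtype.val ht⟩
  set g := ∑ l, g₀ l • c l
  have hxV : ∀ v ∈ R, x * v ∈ Submodule.span k {g} ⊔ R ^ 3 := by
    intro v hv
    obtain ⟨t, ht⟩ := Submodule.mem_span_singleton.1 (hg₀ (hD v hv))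
    refine Submodule.mem_sup.2 ⟨t • g, Submodule.mem_span_singleton.2 ⟨t, rfl⟩,
      x * v - t • g, ?_, add_sub_cancel _ _⟩
    have h := hexp (x * v) (Submodule.mul_mem_mul hxR hv)
    rwa [show ∑ l, δ l (x * v) • c l = t • g by
      rw [Finset.smul_sum]
      refine Finset.sum_congr rfl fun l _ => ?_
      rw [smul_smul]
      exact congrArg (· • c l) (congrFun ht l).symm] at h
  -- two further generators
  obtain ⟨i₀, hi₀⟩ := Function.ne_iff.1 hu
  have hgen' : R ≤ span₃ x (e (i₀.succAbove 0)) (e (i₀.succAbove 1)) ⊔ R * R := by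
    refine hgen.trans (sup_le (Submodule.span_le.2 ?_) le_sup_right)
    have hsucc : ∀ j, e (i₀.succAbove j) ∈
        span₃ x (e (i₀.succAbove 0)) (e (i₀.succAbove 1)) (k := k) := by
      intro j; fin_cases j
      · exact mem₂
      · exact mem₃
    rintro _ ⟨i, rfl⟩
    refine Submodule.mem_sup_left ?_
    by_cases hi : i = i₀
    · subst hi
      have hsum : x = u i • e i + ∑ j, u (i.succAbove j) • e (i.succAbove j) :=
        Fin.sum_univ_succAbove _ i
      have h := sub_mem (mem₁ (a := x) (b := e (i.succAbove 0)) (c := e (i.succAbove 1)) (k := k))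
        (Submodule.sum_mem _ fun j (_ : j ∈ Finset.univ) =>
          Submodule.smul_mem _ (u (i.succAbove j)) (hsucc j))
      rw [← eq_sub_of_add_eq hsum.symm] at h
      have := Submodule.smul_mem _ (u i)⁻¹ h
      rwa [inv_smul_smul₀ hi₀] at this
    · obtain ⟨j, rfl⟩ := Fin.exists_succAbove_eq hi
      exact hsucc j
  refine three_gen hmul hxR (he _) (he _) hgen' hxV hC2 ?_ hcyc
  rcases hr with rfl | rfl
  · right
    intro v hv
    have hK0 : K = ⊥ := Submodule.finrank_eq_zero.1 (by omega)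
    have h0 : D v = 0 := by have := hD v hv; rwa [hK0, Submodule.mem_bot] at this
    have h := hexp (x * v) (Submodule.mul_mem_mul hxR hv)
    rwa [show ∑ l, δ l (x * v) • c l = 0 from
      Finset.sum_eq_zero fun l _ => by rw [show δ l (x * v) = 0 from congrFun h0 l, zero_smul],
      sub_zero] at h
  · exact Or.inl (hfull rfl)

/-- Three generators: the third or the fourth layer is thin, unless the second is. -/
theorem three_main [IsAlgClosed k] (hmul : R * R ≤ R) {N : ℕ} (hnil : R ^ (N + 1) = ⊥)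
    (e : Fin 3 → A) (he : ∀ i, e i ∈ R) (hgen : R ≤ Submodule.span k (Set.range e) ⊔ R * R)
    (hC2 : R * R ≤ commSpan R ⊔ R ^ 3) (hcyc : R ^ 4 ≠ ⊥ → R ^ 3 ≤ commSpan R ⊔ R ^ 4) :
    Thin R 2 ∨ Thin R 3 ∨ Thin R 4 := by
  classical
  have h22 : R * R = R ^ 2 := (pow_two_eq R).symm
  have hR32 : R ^ 3 ≤ R ^ 2 := pow_anti hmul two_pos (by norm_num)
  set W := (R ^ 2).map (R ^ 3).mkQ with hW
  have hdimW : Module.finrank k W + Module.finrank k (R ^ 3 : Submodule k A) =
      Module.finrank k (R ^ 2 : Submodule k A) := by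
    have h := LinearMap.finrank_range_add_finrank_ker ((R ^ 3).mkQ.comp (R ^ 2).subtype)
    rw [LinearMap.range_comp, Submodule.range_subtype] at h
    rw [LinearMap.ker_comp, Submodule.ker_mkQ,
      (Submodule.comapSubtypeEquivOfLe hR32).finrank_eq] at h
    exact h
  by_cases hW1 : Module.finrank k W ≤ 1
  · left
    obtain ⟨v, hv⟩ := finrank_le_one_iff.1 hW1
    obtain ⟨g, hg, hgv⟩ := v.2
    refine ⟨g, fun w hw => ?_⟩
    obtain ⟨t, ht⟩ := hv ⟨_, Submodule.mem_map_of_mem hw⟩
    refine mem_span_sup (t := t) ?_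
    rw [hgv]
    exact (congrArg Subtype.val ht).symm
  by_cases h3 : Thin R 3
  · exact Or.inr (Or.inl h3)
  refine Or.inr (Or.inr ?_)
  have hspan : R ^ 2 ≤ span₃ (e 0 * e 1 - e 1 * e 0) (e 0 * e 2 - e 2 * e 0)
      (e 1 * e 2 - e 2 * e 1) ⊔ R ^ 3 := by
    rw [← h22]
    refine sq_le_three hmul (he 0) (he 1) (he 2) ?_ hC2
    refine hgen.trans (sup_le_sup_right (Submodule.span_le.2 ?_) _)
    rintro _ ⟨i, rfl⟩
    fin_cases i
    · exact mem₁
    · exact mem₂
    · exact mem₃
  have hW3 : Module.finrank k W ≤ 3 := by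
    have hle : W ≤ Submodule.span k (Set.range fun i : Fin 3 => (R ^ 3).mkQ
        (![e 0 * e 1 - e 1 * e 0, e 0 * e 2 - e 2 * e 0, e 1 * e 2 - e 2 * e 1] i)) := by
      rw [hW, Submodule.map_le_iff_le_comap]
      refine hspan.trans (sup_le (span₃_le ?_ ?_ ?_) fun z hz => ?_)
      · exact Submodule.subset_span ⟨0, rfl⟩
      · exact Submodule.subset_span ⟨1, rfl⟩
      · exact Submodule.subset_span ⟨2, rfl⟩
      · rw [Submodule.mem_comap, mk_zero hz]; exact zero_mem _
    refine (Submodule.finrank_mono hle).trans ((finrank_range_le_card _).trans ?_)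
    simp
  obtain ⟨r, hr⟩ : ∃ r, Module.finrank k W = r := ⟨_, rfl⟩
  have hr23 : r = 2 ∨ r = 3 := by omega
  let b := Module.finBasisOfFinrankEq k W hr
  choose c hc hcb using fun l => (b l).2
  obtain ⟨f, hf⟩ := exists_dual (b.linearIndependent.map' W.subtype W.ker_subtype)
  let δ : Fin r → A →ₗ[k] k := fun l => (f l).comp (R ^ 3).mkQ
  have hδ3 : ∀ l, ∀ z ∈ R ^ 3, δ l z = 0 := fun l z hz => by
    show f l ((R ^ 3).mkQ z) = 0
    rw [mk_zero hz, map_zero]
  have hδc : ∀ l m, δ l (c m) = if l = m then 1 else 0 := fun l m => by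
    show f l ((R ^ 3).mkQ (c m)) = _
    rw [hcb]; convert hf l m using 1 <;> first | rfl | (split_ifs <;> rfl)
  have hexp : ∀ w ∈ R * R, w - ∑ l, δ l w • c l ∈ R ^ 3 := by
    intro w hw
    refine mem_of_mk ?_
    have hw' : (R ^ 3).mkQ w ∈ W := Submodule.mem_map_of_mem (h22 ▸ hw)
    have hsum := congrArg Subtype.val (b.sum_repr ⟨_, hw'⟩)
    simp only [Submodule.coe_sum, Submodule.coe_smul] at hsum
    have hcoef : ∀ m, δ m w = b.repr ⟨_, hw'⟩ m := fun m => by
      show f m ((R ^ 3).mkQ w) = _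
      conv_lhs => rw [← hsum]
      rw [map_sum, Finset.sum_eq_single m]
      · have := hf m m
        simp only [Function.comp_apply, Submodule.subtype_apply, if_pos rfl] at this
        rw [map_smul, this]; simp
      · intro l _ hl
        have := hf m l
        simp only [Function.comp_apply, Submodule.subtype_apply, if_neg (Ne.symm hl)] at this
        rw [map_smul, this, smul_zero]
      · simp
    rw [map_sub, map_sum, sub_eq_zero]
    conv_lhs => rw [← hsum]
    exact Finset.sum_congr rfl fun l _ => by rw [map_smul, hcoef, hcb]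
  have hfull : r = 3 → Module.finrank k (R ^ 3 : Submodule k A) + 3 ≤
      Module.finrank k (R * R : Submodule k A) := fun h => by rw [h22]; omega
  have hsp : ∀ ψ : A →ₗ[k] k, (∀ z ∈ R ^ 3, ψ z = 0) →
      (∀ i j, ψ (e i * e j - e j * e i) = 0) → ∀ w ∈ R * R, ψ w = 0 := by
    intro ψ h3' hij w hw
    have hle : R ^ 2 ≤ LinearMap.ker ψ := hspan.trans (sup_le (span₃_le
      (LinearMap.mem_ker.2 (hij 0 1)) (LinearMap.mem_ker.2 (hij 0 2))
      (LinearMap.mem_ker.2 (hij 1 2))) fun z hz => LinearMap.mem_ker.2 (h3' z hz))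
    exact hle (h22 ▸ hw)
  rcases exists_small hr23 e c he hc hgen δ hδ3 hδc hexp hsp h3 with hs | hs
  · exact thin_of_left hmul hr23 e c he hgen δ hδ3 hexp hfull hC2 hcyc hs
  -- the mirror image
  let O : A ≃ₗ[k] Aᵐᵒᵖ := MulOpposite.opLinearEquiv k
  set R' := R.map (O : A →ₗ[k] Aᵐᵒᵖ) with hR'
  have hpow : ∀ n, (R ^ n).map (O : A →ₗ[k] Aᵐᵒᵖ) = R' ^ n := fun n => Submodule.map_op_pow R n
  have hsq : (R * R).map (O : A →ₗ[k] Aᵐᵒᵖ) = R' * R' := Submodule.map_op_mul R R
  have hCle : (commSpan R).map (O : A →ₗ[k] Aᵐᵒᵖ) ≤ commSpan R' := by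
    rw [commSpan, Submodule.map_span, Submodule.span_le]
    rintro _ ⟨_, ⟨a, ha, b, hb, rfl⟩, rfl⟩
    refine Submodule.subset_span ⟨O b, Submodule.mem_map_of_mem hb, O a,
      Submodule.mem_map_of_mem ha, ?_⟩
    simp [O]
  have hthin : Thin R' 4 := by
    refine thin_of_left (R := R') (by rw [← hsq]; exact Submodule.map_mono hmul) hr23
      (fun i => O (e i)) (fun l => O (c l)) (fun i => Submodule.mem_map_of_mem (he i)) ?_
      (fun l => (δ l).comp (O.symm : Aᵐᵒᵖ →ₗ[k] A)) ?_ ?_ ?_ ?_ ?_ hs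
    · rw [← hsq, show Set.range (fun i => O (e i)) = (O : A →ₗ[k] Aᵐᵒᵖ) '' Set.range e by
        rw [← Set.range_comp]; rfl, ← Submodule.map_span, ← Submodule.map_sup]
      exact Submodule.map_mono hgen
    · intro l z hz
      rw [← hpow] at hz
      obtain ⟨a, ha, rfl⟩ := hz
      simpa using hδ3 l a ha
    · intro w hw
      rw [← hsq] at hw
      obtain ⟨a, ha, rfl⟩ := hw
      rw [← hpow]
      refine ⟨_, hexp a ha, ?_⟩
      simp [map_sub, map_sum, map_smul]
    · intro h
      rw [← hpow, ← hsq, O.finrank_map_eq, O.finrank_map_eq]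
      exact hfull h
    · rw [← hsq, ← hpow]
      exact (Submodule.map_mono hC2).trans (by
        rw [Submodule.map_sup]; exact sup_le_sup_right hCle _)
    · intro h4
      rw [← hpow] at h4
      have h := hcyc fun h0 => h4 (by rw [h0, Submodule.map_bot])
      rw [← hpow, ← hpow]
      exact (Submodule.map_mono h).trans (by
        rw [Submodule.map_sup]; exact sup_le_sup_right hCle _)
  obtain ⟨g, hg⟩ := hthin
  refine ⟨O.symm g, fun w hw => ?_⟩
  have hw' : O w ∈ R' ^ 4 := by rw [← hpow]; exact Submodule.mem_map_of_mem hw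
  obtain ⟨t, r', hr', ee⟩ := mem_sup₁ (hg hw')
  rw [← hpow] at hr'
  obtain ⟨a, ha, rfl⟩ := hr'
  refine Submodule.mem_sup.2 ⟨t • O.symm g, Submodule.mem_span_singleton.2 ⟨t, rfl⟩, a, ha, ?_⟩
  apply O.injective
  rw [map_add, map_smul, LinearEquiv.apply_symm_apply]
  exact ee.symm

end Cfsg.Agent.LocalSymThreeMain27
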