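import Mathlib
import Cfsg.Agent.Lib.LocalSymTools27

/-!
# Local algebras with two generators and a two-dimensional second layer

If the second layer is spanned by the commutator of the generators and one further element, and the
deep layers are commutators, then the third or the fourth layer is thin.
-/

set_option autoImplicit false
set_option linter.unusedSectionVars false

namespace Cfsg.Agent.LocalSymTwoGen27

open BrandtAlgebra42 LocalSymAlg42 LocalSymLayer27 LocalSymTools27

variable {k : Type*} [Field k] {A : Type*} [Ring A] [Algebra k A] {R : Submodule k A}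

/-- The case of a generator with square zero in the second layer. -/
theorem two_gen_square_zero (hmul : R * R ≤ R) {x y : A} (hx : x ∈ R) (hy : y ∈ R)
    (hgen : R ≤ Submodule.span k {x} ⊔ Submodule.span k {y} ⊔ R * R)
    (hc : x * y - y * x ∉ R ^ 3)
    (hG2 : R * R ≤ Submodule.span k {x * y} ⊔ Submodule.span k {y * x} ⊔ R ^ 3)
    {m : k} (hxx : x * x ∈ R ^ 3) (hyy : y * y - m • (x * y + y * x) ∈ R ^ 3)
    (hcyc : R ^ 5 ≠ ⊥ → R ^ 3 ≤ commSpan R ⊔ R ^ 5) (hsoc : R ^ 5 = ⊥ → Thin R 4) :
    Thin R 3 ∨ Thin R 4 := by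
  by_cases h5 : R ^ 5 = ⊥
  · exact Or.inr (hsoc h5)
  have hxy : x * y ∈ R * R := Submodule.mul_mem_mul hx hy
  have hyx : y * x ∈ R * R := Submodule.mul_mem_mul hy hx
  have h22 : R * R = R ^ 2 := (pow_two_eq R).symm
  set π := (R ^ 4).mkQ with hπ
  have hP : π (x * x * y) = 0 := mk_zero (mul_mem_pow_right hxx hy)
  have hQ : π (y * (x * x)) = 0 := mk_zero (mul_mem_pow_left hy hxx)
  have hS : π (x * y * y) = m • π (x * y * x) := by
    rw [mul_assoc x y y, ← map_smul]
    refine mk_eq ?_
    have h := mul_mem_pow_left hx hyy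
    rw [mul_sub, mul_smul_comm, mul_add, ← mul_assoc x x y, ← mul_assoc x y x, smul_add] at h
    have := add_mem h ((R ^ 4).smul_mem m (mul_mem_pow_right hxx hy))
    convert this using 1
    abel
  -- the third layer
  have hG3 : R ^ 3 ≤ Submodule.span k {x * y * x} ⊔ Submodule.span k {y * x * y} ⊔ R ^ 4 := by
    have h := succ_le_gen_right (n := 2) (S := Submodule.span k {x * y} ⊔ Submodule.span k {y * x})
      (sup_le (singleton_le (h22 ▸ hxy)) (singleton_le (h22 ▸ hyx))) hgen (by rw [← h22]; exact hG2)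
    refine h.trans (sup_le ?_ le_sup_right)
    simp only [Submodule.sup_mul, Submodule.mul_sup, Submodule.span_mul_span,
      Set.singleton_mul_singleton]
    refine sup_le (sup_le ?_ ?_) (sup_le ?_ ?_) <;> refine singleton_le ?_
    · exact Submodule.mem_sup_left (Submodule.mem_sup_left (Submodule.mem_span_singleton_self _))
    · refine Submodule.mem_sup_right ?_
      rw [mul_assoc]; exact mem_of_mk hQ
    · exact (sup_le_sup_right le_sup_left (R ^ 4) : Submodule.span k {x * y * x} ⊔ R ^ 4 ≤
        Submodule.span k {x * y * x} ⊔ Submodule.span k {y * x * y} ⊔ R ^ 4) (mem_span_sup hS)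
    · exact Submodule.mem_sup_left (Submodule.mem_sup_right (Submodule.mem_span_singleton_self _))
  by_cases hdep : ∃ s t : k, (s ≠ 0 ∨ t ≠ 0) ∧ s • (x * y * x) + t • (y * x * y) ∈ R ^ 4
  · obtain ⟨s, t, hst, hmem⟩ := hdep
    left
    have h0 : s • π (x * y * x) + t • π (y * x * y) = 0 := by
      rw [← map_smul, ← map_smul, ← map_add]; exact mk_zero hmem
    rcases hst with hs | ht
    · refine ⟨y * x * y, hG3.trans (sup_le (sup_le (singleton_le ?_) le_sup_left) le_sup_right)⟩
      refine mem_span_sup (t := -(s⁻¹ * t)) ?_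
      linear_combination (norm := (match_scalars <;> field_simp <;> ring)) s⁻¹ • h0
    · refine ⟨x * y * x, hG3.trans (sup_le (sup_le le_sup_left (singleton_le ?_)) le_sup_right)⟩
      refine mem_span_sup (t := -(t⁻¹ * s)) ?_
      linear_combination (norm := (match_scalars <;> field_simp <;> ring)) t⁻¹ • h0
  push Not at hdep
  right
  set d := x * y * x * y - y * x * y * x with hd
  set D := Submodule.span k {d} ⊔ R ^ 5 with hD
  have hdD : d ∈ D := Submodule.mem_sup_left (Submodule.mem_span_singleton_self _)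
  have h5D : R ^ 5 ≤ D := le_sup_right
  have hm1 : ∀ {a b}, a ∈ R ^ 4 → b ∈ R → a * b ∈ R ^ 5 ∧ b * a ∈ R ^ 5 := fun {a b} ha hb =>
    ⟨mul_mem_pow_right ha hb, mul_mem_pow_left hb ha⟩
  have hm3 : ∀ {a b}, a ∈ R ^ 3 → b ∈ R ^ 2 → a * b ∈ R ^ 5 ∧ b * a ∈ R ^ 5 := fun {a b} ha hb =>
    ⟨mul_mem_pow ha hb, mul_mem_pow hb ha⟩
  -- commutators of the third layer with the generators
  have hAB : ∀ v ∈ Submodule.span k {x} ⊔ Submodule.span k {y},
      x * y * x * v - v * (x * y * x) ∈ D ∧ y * x * y * v - v * (y * x * y) ∈ D := by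
    intro v hv
    obtain ⟨v₁, hv₁, v₂, hv₂, rfl⟩ := Submodule.mem_sup.1 hv
    obtain ⟨a, rfl⟩ := Submodule.mem_span_singleton.1 hv₁
    obtain ⟨b, rfl⟩ := Submodule.mem_span_singleton.1 hv₂
    have hxAx : x * y * x * x - x * (x * y * x) ∈ R ^ 5 := sub_mem
      (by rw [mul_assoc (x * y) x x]; exact (hm3 hxx (h22 ▸ hxy)).2)
      (by rw [show x * (x * y * x) = x * x * (y * x) by simp only [mul_assoc]]
          exact (hm3 hxx (h22 ▸ hyx)).1)
    have hxA : x * y * x * x - x * (x * y * x) ∈ D := h5D hxAx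
    have hyA : x * y * x * y - y * (x * y * x) ∈ D := by
      rw [show y * (x * y * x) = y * x * y * x by simp only [mul_assoc]]; exact hdD
    have hxB : y * x * y * x - x * (y * x * y) ∈ D := by
      rw [show x * (y * x * y) = x * y * x * y by simp only [mul_assoc]]
      have := D.neg_mem hdD
      rwa [hd, neg_sub] at this
    have hyB : y * x * y * y - y * (y * x * y) ∈ D := by
      have e1 : y * x * y * y - m • (y * x * y * x) ∈ R ^ 5 := by
        have h1 : y * x * (y * y - m • (x * y + y * x)) ∈ R ^ 5 :=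
          (hm3 hyy (h22 ▸ hyx)).2
        have h2 : y * (x * x) * y ∈ R ^ 5 := (hm1 (mul_mem_pow_left hy hxx) hy).1
        have := add_mem h1 ((R ^ 5).smul_mem m h2)
        convert this using 1
        simp only [mul_sub, mul_add, mul_smul_comm, smul_add, mul_assoc]; abel
      have e2 : y * (y * x * y) - m • (x * y * x * y) ∈ R ^ 5 := by
        have h1 : (y * y - m • (x * y + y * x)) * (x * y) ∈ R ^ 5 := (hm3 hyy (h22 ▸ hxy)).1
        have h2 : y * (x * x) * y ∈ R ^ 5 := (hm1 (mul_mem_pow_left hy hxx) hy).1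
        have := add_mem h1 ((R ^ 5).smul_mem m h2)
        convert this using 1
        simp only [sub_mul, add_mul, smul_mul_assoc, smul_add, mul_assoc]; abel
      have := add_mem (D.smul_mem (-m) hdD) (h5D (sub_mem e1 e2))
      convert this using 1
      rw [hd]; module
    simp only [mul_add, add_mul, mul_smul_comm, smul_mul_assoc]
    refine ⟨?_, ?_⟩
    · have := add_mem (D.smul_mem a hxA) (D.smul_mem b hyA)
      convert this using 1
      module
    · have := add_mem (D.smul_mem a hxB) (D.smul_mem b hyB)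
      convert this using 1
      module
  have hR3D : ∀ w ∈ R ^ 3, ∀ v ∈ Submodule.span k {x} ⊔ Submodule.span k {y},
      w * v - v * w ∈ D := by
    intro w hw v hv
    have hvR : v ∈ R := (sup_le (singleton_le hx) (singleton_le hy) :
      Submodule.span k {x} ⊔ Submodule.span k {y} ≤ R) hv
    obtain ⟨a, b, r, hr, rfl⟩ := mem_sup₂ (hG3 hw)
    have := add_mem (add_mem (D.smul_mem a (hAB v hv).1) (D.smul_mem b (hAB v hv).2))
      (h5D (sub_mem (hm1 hr hvR).1 (hm1 hr hvR).2))
    convert this using 1
    simp only [add_mul, mul_add, smul_mul_assoc, mul_smul_comm]; module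
  -- commutators of two elements of the square
  have hR2D : ∀ r ∈ R * R, ∀ s ∈ R * R, r * s - s * r ∈ D := by
    intro r hr s hs
    obtain ⟨a, b, r', hr', rfl⟩ := mem_sup₂ (hG2 hr)
    obtain ⟨a', b', s', hs', rfl⟩ := mem_sup₂ (hG2 hs)
    have h1 : x * y * (y * x) ∈ R ^ 5 := by
      have e : x * y * (y * x) = x * (y * y - m • (x * y + y * x)) * x +
          m • (x * x * (y * x) + x * y * (x * x)) := by
        simp only [mul_sub, sub_mul, mul_add, add_mul, mul_smul_comm, smul_mul_assoc, smul_add,
          mul_assoc]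
        abel
      rw [e]
      exact add_mem (hm1 (mul_mem_pow_left hx hyy) hx).1
        ((R ^ 5).smul_mem m (add_mem (hm3 hxx (h22 ▸ hyx)).1 (hm3 hxx (h22 ▸ hxy)).2))
    have h2 : y * x * (x * y) ∈ R ^ 5 := by
      rw [show y * x * (x * y) = y * (x * x) * y by simp only [mul_assoc]]
      exact (hm1 (mul_mem_pow_left hy hxx) hy).1
    have hs2 : a' • (x * y) + b' • (y * x) ∈ R ^ 2 :=
      h22 ▸ add_mem (Submodule.smul_mem _ a' hxy) (Submodule.smul_mem _ b' hyx)
    have hr2 : a • (x * y) + b • (y * x) + r' ∈ R ^ 2 :=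
      h22 ▸ add_mem (add_mem (Submodule.smul_mem _ a hxy) (Submodule.smul_mem _ b hyx))
        (h22.symm ▸ pow_anti hmul two_pos (by norm_num) hr')
    have := add_mem (h5D (add_mem ((R ^ 5).smul_mem (a * b' - b * a') (sub_mem h1 h2))
      (sub_mem (hm3 hr' hs2).1 (hm3 hr' hs2).2)))
      (h5D (sub_mem (hm3 hs' hr2).2 (hm3 hs' hr2).1))
    convert this using 1
    simp only [add_mul, mul_add, smul_mul_assoc, mul_smul_comm]; module
  -- the span of the commutators
  have hu1 : x * (x * y + y * x) - (x * y + y * x) * x ∈ D := by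
    rw [show x * (x * y + y * x) - (x * y + y * x) * x = x * x * y - y * (x * x) by noncomm_ring]
    exact hR3D _ hxx y (Submodule.mem_sup_right (Submodule.mem_span_singleton_self _))
  have hu2 : y * (x * y + y * x) - (x * y + y * x) * y ∈ D := by
    have h := hR3D _ hyy x (Submodule.mem_sup_left (Submodule.mem_span_singleton_self _))
    have := add_mem h (D.smul_mem (-m) hu1)
    convert this using 1
    simp only [sub_mul, mul_sub, mul_add, add_mul, smul_mul_assoc, mul_smul_comm, mul_assoc]
    module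
  set e₁ := x * (x * y) - x * y * x with he₁
  set e₂ := y * (x * y) - x * y * y with he₂
  have hspan : commSpan R ≤ Submodule.span k {x * y - y * x} ⊔ Submodule.span k {e₁} ⊔
      Submodule.span k {e₂} ⊔ D := by
    refine commSpan_le_gen hgen (fun u hu v hv => comm_mem_two
      (Submodule.mem_sup_left (Submodule.mem_sup_left (Submodule.mem_sup_left
        (Submodule.mem_span_singleton_self _)))) u hu v hv) (fun u hu r hr => ?_)
      (fun r hr s hs => Submodule.mem_sup_right (hR2D r hr s hs))
    obtain ⟨u₁, hu₁, u₂, hu₂, rfl⟩ := Submodule.mem_sup.1 hu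
    obtain ⟨a, rfl⟩ := Submodule.mem_span_singleton.1 hu₁
    obtain ⟨b, rfl⟩ := Submodule.mem_span_singleton.1 hu₂
    obtain ⟨s, t, w, hw, rfl⟩ := mem_sup₂ (hG2 hr)
    have hd' := add_mem (add_mem (D.smul_mem (a * t) hu1) (D.smul_mem (b * t) hu2))
      (D.neg_mem (hR3D w hw (a • x + b • y) (add_mem
        (Submodule.mem_sup_left (Submodule.mem_span_singleton.2 ⟨a, rfl⟩))
        (Submodule.mem_sup_right (Submodule.mem_span_singleton.2 ⟨b, rfl⟩)))))
    refine Submodule.mem_sup.2 ⟨(a * (s - t)) • e₁ + (b * (s - t)) • e₂,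
      add_mem (Submodule.mem_sup_left (Submodule.mem_sup_right
        (Submodule.mem_span_singleton.2 ⟨_, rfl⟩)))
        (Submodule.mem_sup_right (Submodule.mem_span_singleton.2 ⟨_, rfl⟩)), _, hd', ?_⟩
    rw [he₁, he₂]
    simp only [add_mul, mul_add, smul_mul_assoc, mul_smul_comm]
    module
  refine ⟨d, fun z hz => ?_⟩
  obtain ⟨w, hw, r, hr, rfl⟩ :=
    Submodule.mem_sup.1 (hcyc h5 (pow_anti hmul (by norm_num : 0 < 3) (by norm_num) hz))
  obtain ⟨κ, η, θ, f, hf, rfl⟩ := mem_sup₃ (hspan hw)
  have hf4 : f ∈ R ^ 4 := by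
    have hd4 : d ∈ R ^ 4 := sub_mem
      (mul_mem_pow_right (mul_mem_pow_right (h22 ▸ hxy : x * y ∈ R ^ 2) hx) hy)
      (mul_mem_pow_right (mul_mem_pow_right (h22 ▸ hyx : y * x ∈ R ^ 2) hy) hx)
    exact (sup_le (singleton_le hd4) (pow_anti hmul (by norm_num) (by norm_num)) : D ≤ R ^ 4) hf
  have he : η • e₁ + θ • e₂ ∈ R ^ 3 := add_mem
    (Submodule.smul_mem _ η (sub_mem (mul_mem_pow_left hx (h22 ▸ hxy))
      (mul_mem_pow_right (h22 ▸ hxy : x * y ∈ R ^ 2) hx)))
    (Submodule.smul_mem _ θ (sub_mem (mul_mem_pow_left hy (h22 ▸ hxy))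
      (mul_mem_pow_right (h22 ▸ hxy : x * y ∈ R ^ 2) hy)))
  have h43 : R ^ 4 ≤ R ^ 3 := pow_anti hmul (by norm_num) (by norm_num)
  have h54 : R ^ 5 ≤ R ^ 4 := pow_anti hmul (by norm_num) (by norm_num)
  have hκ : κ = 0 := by
    by_contra hκ
    refine hc ?_
    have h1 : κ • (x * y - y * x) ∈ R ^ 3 := by
      have := sub_mem (sub_mem (sub_mem (h43 hz) (h43 (h54 hr))) (h43 hf4)) he
      convert this using 1
      abel
    have := Submodule.smul_mem _ κ⁻¹ h1
    rwa [inv_smul_smul₀ hκ] at this
  have h4 : η • π e₁ + θ • π e₂ = 0 := by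
    rw [← map_smul, ← map_smul, ← map_add]
    refine mk_zero ?_
    have := sub_mem (sub_mem hz (h54 hr)) hf4
    convert this using 1
    rw [hκ]; module
  have hne := hdep (-η - θ * m) θ
  have hrel : (-η - θ * m) • (x * y * x) + θ • (y * x * y) ∈ R ^ 4 := by
    refine mem_of_mk ?_
    rw [map_add, map_smul, map_smul]
    have hxy' : π (x * (x * y)) = 0 := by rw [← mul_assoc]; exact hP
    have hB : π (y * (x * y)) = π (y * x * y) := by rw [mul_assoc]
    rw [he₁, he₂, map_sub, map_sub, hxy', hB, hS] at h4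
    rw [hπ] at h4
    linear_combination (norm := module) h4
  have hθ : θ = 0 := by
    by_contra h
    exact hne (Or.inr h) hrel
  have hη : η = 0 := by
    by_contra h
    exact hne (Or.inl (by rw [hθ]; simpa using h)) hrel
  rw [hκ, hθ, hη]
  simp only [zero_smul, zero_add]
  exact add_mem hf (h5D hr)

variable [IsAlgClosed k]

/-- The case where the square of a generator is a multiple of the commutator. -/
theorem two_gen_iso (hmul : R * R ≤ R) {x y : A} (hx : x ∈ R) (hy : y ∈ R)
    (hgen : R ≤ Submodule.span k {x} ⊔ Submodule.span k {y} ⊔ R * R)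
    (hc : x * y - y * x ∉ R ^ 3) {w : A}
    (hb : R * R ≤ Submodule.span k {x * y - y * x} ⊔ Submodule.span k {w} ⊔ R ^ 3)
    (hxx : x * x ∈ Submodule.span k {x * y - y * x} ⊔ R ^ 3)
    (hcyc : R ^ 4 ≠ ⊥ → R ^ 3 ≤ commSpan R ⊔ R ^ 4)
    (hcyc5 : R ^ 5 ≠ ⊥ → R ^ 3 ≤ commSpan R ⊔ R ^ 5)
    (hsoc4 : R ^ 4 = ⊥ → Thin R 3) (hsoc : R ^ 5 = ⊥ → Thin R 4) :
    Thin R 3 ∨ Thin R 4 := by
  have hxy : x * y ∈ R * R := Submodule.mul_mem_mul hx hy
  have hyx : y * x ∈ R * R := Submodule.mul_mem_mul hy hx
  have h22 : R * R = R ^ 2 := (pow_two_eq R).symm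
  have hUR : Submodule.span k {x} ⊔ Submodule.span k {y} ≤ R :=
    sup_le (singleton_le hx) (singleton_le hy)
  set c := x * y - y * x with hc'
  set π := (R ^ 4).mkQ with hπ
  by_cases hG2 : R * R ≤ Submodule.span k {x * y} ⊔ Submodule.span k {y * x} ⊔ R ^ 3
  · obtain ⟨l, r₁, hr₁, hl⟩ := mem_sup₁ hxx
    obtain ⟨mm, n, r₂, hr₂, hy2⟩ := mem_sup₂ (hG2 (Submodule.mul_mem_mul hy hy))
    have hr₁' := mk_zero (T := R ^ 4) (mul_mem_pow_right hr₁ hy)
    have hr₁'' := mk_zero (T := R ^ 4) (mul_mem_pow_left hy hr₁)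
    have hr₁a := mk_zero (T := R ^ 4) (mul_mem_pow_right hr₁ hx)
    have hr₁b := mk_zero (T := R ^ 4) (mul_mem_pow_left hx hr₁)
    have hr₂' := mk_zero (T := R ^ 4) (mul_mem_pow_right hr₂ hy)
    have hr₂'' := mk_zero (T := R ^ 4) (mul_mem_pow_left hy hr₂)
    have hr₂a := mk_zero (T := R ^ 4) (mul_mem_pow_right hr₂ hx)
    have hr₂b := mk_zero (T := R ^ 4) (mul_mem_pow_left hx hr₂)
    set a := π (x * y * x) with ha
    set b := π (y * x * y) with hb'
    set P := π (x * x * y) with hP'
    set Q := π (y * x * x) with hQ'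
    set S := π (x * y * y) with hS'
    set T := π (y * y * x) with hT'
    have eP : P = l • (S - b) := by
      rw [hP', hl, hc', add_mul, map_add, hr₁', add_zero, smul_mul_assoc, map_smul, sub_mul,
        map_sub]
    have eQ : Q = l • (b - T) := by
      rw [hQ', mul_assoc, hl, hc', mul_add, map_add, hr₁'', add_zero, mul_smul_comm, map_smul,
        mul_sub, map_sub, ← mul_assoc, ← mul_assoc]
    have eS : S = mm • P + n • a := by
      rw [hS', mul_assoc, hy2, mul_add, map_add, hr₂b, add_zero, mul_add, map_add, mul_smul_comm,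
        mul_smul_comm, map_smul, map_smul, ← mul_assoc, ← mul_assoc]
    have eT : T = mm • a + n • Q := by
      rw [hT', hy2, add_mul, map_add, hr₂a, add_zero, add_mul, map_add, smul_mul_assoc,
        smul_mul_assoc, map_smul, map_smul]
    have eX : l • (a - Q) = l • (P - a) := by
      have h1 : π (x * x * x) = l • (a - Q) := by
        rw [hl, hc', add_mul, map_add, hr₁a, add_zero, smul_mul_assoc, map_smul, sub_mul, map_sub]
      have h2 : π (x * (x * x)) = l • (P - a) := by
        rw [hl, hc', mul_add, map_add, hr₁b, add_zero, mul_smul_comm, map_smul, mul_sub, map_sub,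
          ← mul_assoc, ← mul_assoc]
      rw [← h1, ← h2, mul_assoc]
    have eY : mm • S + n • b = mm • b + n • T := by
      have h1 : π (y * y * y) = mm • S + n • b := by
        rw [hy2, add_mul, map_add, hr₂', add_zero, add_mul, map_add, smul_mul_assoc,
          smul_mul_assoc, map_smul, map_smul]
      have h2 : π (y * (y * y)) = mm • b + n • T := by
        rw [hy2, mul_add, map_add, hr₂'', add_zero, mul_add, map_add, mul_smul_comm, mul_smul_comm,
          map_smul, map_smul, ← mul_assoc, ← mul_assoc]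
      rw [← h1, ← h2, mul_assoc]
    -- the third layer is spanned by `a, S, Q, b`
    have hspan : ∀ g : A, (∃ t : k, a = t • π g) → (∃ t : k, S = t • π g) → (∃ t : k, Q = t • π g) →
        (∃ t : k, b = t • π g) → Thin R 3 := by
      rintro g ⟨ta, ha'⟩ ⟨ts, hs'⟩ ⟨tq, hq'⟩ ⟨tb, hb''⟩
      refine ⟨g, (succ_le_gen_right (n := 2)
        (S := Submodule.span k {x * y} ⊔ Submodule.span k {y * x})
        (sup_le (singleton_le (h22 ▸ hxy)) (singleton_le (h22 ▸ hyx))) hgen
        (by rw [← h22]; exact hG2)).trans (sup_le ?_ le_sup_right)⟩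
      simp only [Submodule.sup_mul, Submodule.mul_sup, Submodule.span_mul_span,
        Set.singleton_mul_singleton]
      refine sup_le (sup_le ?_ ?_) (sup_le ?_ ?_) <;> refine singleton_le ?_
      · exact mem_span_sup ha'
      · exact mem_span_sup hq'
      · exact mem_span_sup hs'
      · exact mem_span_sup hb''
    by_cases hl0 : l = 0
    · subst hl0
      simp only [zero_smul] at eP eQ
      have hxx3 : x * x ∈ R ^ 3 := by rw [hl]; simpa using hr₁
      by_cases hnm : n = mm
      · refine two_gen_square_zero hmul hx hy hgen hc hG2 (m := mm) hxx3 ?_ hcyc5 hsoc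
        rw [hy2, hnm]
        simpa [smul_add] using hr₂
      · left
        have hb0 : (n - mm) • b = 0 := by
          linear_combination (norm := module) eY - mm • eS + n • eT - mm ^ 2 • eP + n ^ 2 • eQ
        have hb1 : b = 0 := (smul_eq_zero.1 hb0).resolve_left (sub_ne_zero.2 hnm)
        exact hspan (x * y * x) ⟨1, by rw [one_smul]⟩
          ⟨n, by rw [eS, eP, smul_zero, zero_add]⟩ ⟨0, by rw [eQ, zero_smul]⟩
          ⟨0, by rw [hb1, zero_smul]⟩
    have ePQ : P + Q = (2 : k) • a := by
      have := smul_right_injective _ hl0 eX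
      linear_combination (norm := module) -this
    have fP : (1 - l * mm) • P = l • (n • a - b) := by
      linear_combination (norm := module) eP + l • eS
    have fQ : (1 + l * n) • Q = l • (b - mm • a) := by
      linear_combination (norm := module) eQ - l • eT
    have fS : ∀ {g : A} {ta tp : k}, a = ta • π g → P = tp • π g → ∃ t : k, S = t • π g :=
      fun {g ta tp} h1 h2 => ⟨mm * tp + n * ta, by rw [eS, h1, h2]; module⟩
    by_cases hnm : n + mm = 0
    · have hn : n = -mm := by linear_combination hnm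
      subst hn
      have key : (2 : k) • a = 0 := by
        linear_combination (norm := module) fP + fQ - (1 - l * mm) • ePQ
      by_cases h2 : (2 : k) = 0
      · exact twisted hmul hx hy hgen hc hG2 hl0 hr₁ hl hr₂ hy2 h2 hcyc5 hsoc
      left
      have ha0 : a = 0 := (smul_eq_zero.1 key).resolve_left h2
      by_cases hlm : 1 - l * mm = 0
      · have hm0 : mm ≠ 0 := fun h => by simp [h] at hlm
        have hb0 : b = 0 := by
          have : l • (-mm • a - b) = 0 := by rw [← fP, hlm, zero_smul]
          linear_combination (norm := module)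
            -((smul_eq_zero.1 this).resolve_left hl0) - mm • ha0
        have hP0 : P = 0 := by
          have h' : (mm ^ 2 * 2) • P = 0 := by
            linear_combination (norm := module) eY - mm • eS + (-mm) • eT + (mm ^ 2) • ePQ
              + (2 * mm) • hb0 + (2 * mm ^ 2) • ha0
          exact (smul_eq_zero.1 h').resolve_left (mul_ne_zero (pow_ne_zero 2 hm0) h2)
        exact hspan (x * y * x) ⟨1, by rw [one_smul]⟩
          (fS (ta := 1) (tp := 0) (by rw [one_smul]) (by rw [hP0, zero_smul]))
          ⟨2, by linear_combination (norm := module) ePQ - hP0⟩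
          ⟨0, by rw [hb0, zero_smul]⟩
      · have hP0 : P = (-((1 - l * mm)⁻¹ * l)) • b := by
          refine smul_right_injective _ hlm ?_
          show _ • _ = _ • _
          rw [fP, ha0, smul_zero, zero_sub, smul_smul, mul_neg, ← mul_assoc,
            mul_inv_cancel₀ hlm, one_mul, smul_neg, neg_smul]
        exact hspan (y * x * y) ⟨0, by rw [ha0, zero_smul]⟩
          (fS (ta := 0) (by rw [ha0, zero_smul]) hP0)
          ⟨(1 - l * mm)⁻¹ * l, by
            linear_combination (norm := module) ePQ - hP0 + (2 : k) • ha0⟩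
          ⟨1, by rw [one_smul]⟩
    · left
      obtain ⟨κ, hκ⟩ : ∃ κ : k, b = κ • a := by
        have h : (l ^ 2 * (n + mm)) • b = ((1 + l * n) * l * n - (1 - l * mm) * l * mm
            - (1 - l * mm) * (1 + l * n) * 2) • a := by
          linear_combination (norm := module)
            (1 + l * n) • fP + (1 - l * mm) • fQ - ((1 - l * mm) * (1 + l * n)) • ePQ
        exact ⟨(l ^ 2 * (n + mm))⁻¹ * _, by
          rw [mul_smul, ← h, inv_smul_smul₀ (mul_ne_zero (pow_ne_zero 2 hl0) hnm)]⟩
      obtain ⟨tp, htp⟩ : ∃ t : k, P = t • a := by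
        by_cases hlm : 1 - l * mm = 0
        · have hln : 1 + l * n ≠ 0 := fun h => hnm ((mul_eq_zero.1
            (show l * (n + mm) = 0 by linear_combination h - hlm)).resolve_left hl0)
          refine ⟨2 - (1 + l * n)⁻¹ * (l * (κ - mm)), ?_⟩
          have hQ0 : Q = ((1 + l * n)⁻¹ * (l * (κ - mm))) • a := by
            rw [mul_smul, ← inv_smul_smul₀ hln Q, fQ, hκ]; module
          linear_combination (norm := module) ePQ - hQ0
        · refine ⟨(1 - l * mm)⁻¹ * (l * (n - κ)), ?_⟩
          rw [mul_smul, ← inv_smul_smul₀ hlm P, fP, hκ]; module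
      exact hspan (x * y * x) ⟨1, by rw [one_smul]⟩ (fS (ta := 1) (by rw [one_smul]) htp)
        ⟨2 - tp, by linear_combination (norm := module) ePQ - htp⟩ ⟨κ, hκ⟩
  · -- all products with `x` are multiples of `c`
    left
    by_cases h4 : R ^ 4 = ⊥
    · exact hsoc4 h4
    have hxyc : x * y ∈ Submodule.span k {c} ⊔ R ^ 3 := by
      by_contra hno
      refine hG2 (hb.trans (sup_le (sup_le (singleton_le ?_) (singleton_le ?_)) le_sup_right))
      · exact Submodule.mem_sup_left (sub_mem
          (Submodule.mem_sup_left (Submodule.mem_span_singleton_self _))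
          (Submodule.mem_sup_right (Submodule.mem_span_singleton_self _)))
      · obtain ⟨s, t, r, hr, e⟩ := mem_sup₂ (hb hxy)
        have ht : t ≠ 0 := fun h => hno (by
          rw [e, h, zero_smul, add_zero]
          exact Submodule.add_mem_sup (Submodule.smul_mem _ s
            (Submodule.mem_span_singleton_self _)) hr)
        have ew : w = t⁻¹ • (x * y) - (t⁻¹ * s) • (x * y - y * x) - t⁻¹ • r := by
          linear_combination (norm := (match_scalars <;> field_simp <;> ring)) (-t⁻¹) • e
        rw [ew]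
        refine sub_mem (sub_mem ?_ (Submodule.smul_mem _ _ (sub_mem ?_ ?_)))
          (Submodule.mem_sup_right (Submodule.smul_mem _ _ hr))
        · exact Submodule.mem_sup_left (Submodule.mem_sup_left
            (Submodule.mem_span_singleton.2 ⟨_, rfl⟩))
        · exact Submodule.mem_sup_left (Submodule.mem_sup_left
            (Submodule.mem_span_singleton_self _))
        · exact Submodule.mem_sup_left (Submodule.mem_sup_right
            (Submodule.mem_span_singleton_self _))
    obtain ⟨γ, r₁, hr₁, hl⟩ := mem_sup₁ hxx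
    obtain ⟨α, r₃, hr₃, h3⟩ := mem_sup₁ hxyc
    have hyxc : y * x = (α - 1) • c + r₃ := by
      rw [show y * x = x * y - c by rw [hc']; abel]
      rw [h3]; module
    set cy := π (c * y)
    set cx := π (c * x)
    set xc := π (x * c)
    set yc := π (y * c)
    have hz : ∀ {v r}, v ∈ R → r ∈ R ^ 3 → π (r * v) = 0 ∧ π (v * r) = 0 := fun hv hr =>
      ⟨mk_zero (mul_mem_pow_right hr hv), mk_zero (mul_mem_pow_left hv hr)⟩
    have q1 : γ • cy = α • xc := by
      have h1 : π (x * x * y) = γ • cy := by
        rw [hl, add_mul, map_add, (hz hy hr₁).1, add_zero, smul_mul_assoc, map_smul]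
      have h2 : π (x * (x * y)) = α • xc := by
        rw [h3, mul_add, map_add, (hz hx hr₃).2, add_zero, mul_smul_comm, map_smul]
      rw [← h1, ← h2, mul_assoc]
    have q2 : α • cx = (α - 1) • xc := by
      have h1 : π (x * y * x) = α • cx := by
        rw [h3, add_mul, map_add, (hz hx hr₃).1, add_zero, smul_mul_assoc, map_smul]
      have h2 : π (x * (y * x)) = (α - 1) • xc := by
        rw [hyxc, mul_add, map_add, (hz hx hr₃).2, add_zero, mul_smul_comm, map_smul]
      rw [← h1, ← h2, mul_assoc]
    have q3 : (α - 1) • cy = α • yc := by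
      have h1 : π (y * x * y) = (α - 1) • cy := by
        rw [hyxc, add_mul, map_add, (hz hy hr₃).1, add_zero, smul_mul_assoc, map_smul]
      have h2 : π (y * (x * y)) = α • yc := by
        rw [h3, mul_add, map_add, (hz hy hr₃).2, add_zero, mul_smul_comm, map_smul]
      rw [← h1, ← h2, mul_assoc]
    have q4 : (α - 1) • cx = γ • yc := by
      have h1 : π (y * x * x) = (α - 1) • cx := by
        rw [hyxc, add_mul, map_add, (hz hx hr₃).1, add_zero, smul_mul_assoc, map_smul]
      have h2 : π (y * (x * x)) = γ • yc := by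
        rw [hl, mul_add, map_add, (hz hy hr₁).2, add_zero, mul_smul_comm, map_smul]
      rw [← h1, ← h2, mul_assoc]
    obtain ⟨g, hg, hg1, hg2, hg3, hg4⟩ : ∃ g ∈ R ^ 3, c * y ∈ Submodule.span k {g} ⊔ R ^ 4 ∧
        c * x ∈ Submodule.span k {g} ⊔ R ^ 4 ∧ x * c ∈ Submodule.span k {g} ⊔ R ^ 4 ∧
        y * c ∈ Submodule.span k {g} ⊔ R ^ 4 := by
      have hc2 : c ∈ R ^ 2 := h22 ▸ sub_mem hxy hyx
      by_cases hα : α = 0
      · subst hα
        simp only [zero_smul, zero_sub, neg_smul, one_smul] at q1 q2 q3 q4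
        refine ⟨y * c, mul_mem_pow_left hy hc2, mem_span_sup (t := 0) ?_,
          mem_span_sup (t := -γ) ?_, mem_span_sup (t := 0) ?_,
          mem_span_sup (t := 1) (by rw [one_smul])⟩
        · show cy = (0 : k) • yc
          linear_combination (norm := module) -q3
        · show cx = (-γ) • yc
          linear_combination (norm := module) -q4
        · show xc = (0 : k) • yc
          linear_combination (norm := module) q2
      · refine ⟨c * y, mul_mem_pow_right hc2 hy, mem_span_sup (t := 1) (by rw [one_smul]),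
          mem_span_sup (t := α⁻¹ * (α - 1) * (α⁻¹ * γ)) ?_, mem_span_sup (t := α⁻¹ * γ) ?_,
          mem_span_sup (t := α⁻¹ * (α - 1)) ?_⟩
        · show cx = _ • cy
          rw [← inv_smul_smul₀ hα cx, q2, ← inv_smul_smul₀ hα xc, ← q1]; module
        · show xc = _ • cy
          rw [← inv_smul_smul₀ hα xc, ← q1]; module
        · show yc = _ • cy
          rw [← inv_smul_smul₀ hα yc, ← q3]; module
    set T := Submodule.span k {g} ⊔ R ^ 4 with hT
    have hT3 : T ≤ R ^ 3 := sup_le (singleton_le hg) (pow_anti hmul (by norm_num) (by norm_num))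
    have h4T : R ^ 4 ≤ T := le_sup_right
    have hxyy : x * y * y ∈ T := by
      rw [h3, add_mul, smul_mul_assoc]
      exact add_mem (T.smul_mem _ hg1) (h4T (mul_mem_pow_right hr₃ hy))
    have hyyx : y * y * x ∈ T := by
      rw [mul_assoc, hyxc, mul_add, mul_smul_comm]
      exact add_mem (T.smul_mem _ hg4) (h4T (mul_mem_pow_left hy hr₃))
    -- the square
    have hG2' : R * R ≤ Submodule.span k {c} ⊔ Submodule.span k {y * y} ⊔ R ^ 3 := by
      refine (sq_le_gen hmul hUR hgen).trans (sup_le ?_ le_sup_right)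
      have hle : Submodule.span k {c} ⊔ R ^ 3 ≤
          Submodule.span k {c} ⊔ Submodule.span k {y * y} ⊔ R ^ 3 := sup_le_sup_right le_sup_left _
      simp only [Submodule.sup_mul, Submodule.mul_sup, Submodule.span_mul_span,
        Set.singleton_mul_singleton]
      refine sup_le (sup_le ?_ ?_) (sup_le ?_ ?_) <;> refine singleton_le ?_
      · exact hle hxx
      · refine hle ?_
        rw [hyxc]
        exact Submodule.add_mem_sup (Submodule.smul_mem _ _ (Submodule.mem_span_singleton_self _))
          hr₃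
      · exact hle hxyc
      · exact Submodule.mem_sup_left (Submodule.mem_sup_right (Submodule.mem_span_singleton_self _))
    have hC : commSpan R ≤ Submodule.span k {c} ⊔ T := by
      refine commSpan_le_gen hgen (fun u hu v hv => comm_mem_two
        (Submodule.mem_sup_left (Submodule.mem_span_singleton_self _)) u hu v hv)
        (fun u hu r hr => Submodule.mem_sup_right ?_) (fun r hr s hs => Submodule.mem_sup_right
          (h4T (sub_mem (mul_mem_pow (h22 ▸ hr : r ∈ R ^ 2) (h22 ▸ hs : s ∈ R ^ 2))
            (mul_mem_pow (h22 ▸ hs : s ∈ R ^ 2) (h22 ▸ hr : r ∈ R ^ 2)))))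
      obtain ⟨u₁, hu₁, u₂, hu₂, rfl⟩ := Submodule.mem_sup.1 hu
      obtain ⟨a, rfl⟩ := Submodule.mem_span_singleton.1 hu₁
      obtain ⟨b, rfl⟩ := Submodule.mem_span_singleton.1 hu₂
      obtain ⟨s, t, r', hr', rfl⟩ := mem_sup₂ (hG2' hr)
      have hu3 : (a • x + b • y) * r' - r' * (a • x + b • y) ∈ T :=
        h4T (sub_mem (mul_mem_pow_left (hUR hu) hr') (mul_mem_pow_right hr' (hUR hu)))
      have := add_mem (add_mem (T.smul_mem (a * s) (sub_mem hg3 hg2))
        (T.smul_mem (b * s) (sub_mem hg4 hg1))) (add_mem (T.smul_mem (a * t) (sub_mem hxyy hyyx))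
        hu3)
      convert this using 1
      simp only [add_mul, mul_add, smul_mul_assoc, mul_smul_comm, mul_assoc]
      module
    have hy3 : y * (y * y) ∈ T := by
      have h3' : y * (y * y) ∈ R ^ 3 :=
        mul_mem_pow_left hy (h22 ▸ Submodule.mul_mem_mul hy hy)
      obtain ⟨u, hu, r, hr, e⟩ := Submodule.mem_sup.1 (hcyc h4 h3')
      obtain ⟨κ, t, ht, rfl⟩ := mem_sup₁ (hC hu)
      have hκ : κ = 0 := by
        by_contra hκ
        have h : κ • c ∈ R ^ 3 := by
          have := sub_mem (sub_mem h3' (hT3 ht)) (hT3 (h4T hr))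
          convert this using 1
          rw [← e]; abel
        have := Submodule.smul_mem _ κ⁻¹ h
        rw [inv_smul_smul₀ hκ] at this
        exact hc this
      rw [← e, hκ, zero_smul, zero_add]
      exact add_mem ht (h4T hr)
    refine ⟨g, (succ_le_gen_left (n := 2)
      (S := Submodule.span k {c} ⊔ Submodule.span k {y * y})
      (sup_le (singleton_le (h22 ▸ sub_mem hxy hyx))
        (singleton_le (h22 ▸ Submodule.mul_mem_mul hy hy))) hgen
      (by rw [← h22]; exact hG2')).trans (sup_le ?_ le_sup_right)⟩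
    simp only [Submodule.sup_mul, Submodule.mul_sup, Submodule.span_mul_span,
      Set.singleton_mul_singleton]
    refine sup_le (sup_le ?_ ?_) (sup_le ?_ ?_) <;> refine singleton_le ?_
    · exact hg3
    · exact hg4
    · rw [← mul_assoc]; exact hxyy
    · exact hy3
where
  /-- In characteristic two a change of generator gives square zero. -/
  twisted {x y r₁ r₂ : A} {l mm : k} (hmul : R * R ≤ R) (hx : x ∈ R) (hy : y ∈ R)
      (hgen : R ≤ Submodule.span k {x} ⊔ Submodule.span k {y} ⊔ R * R)
      (hc : x * y - y * x ∉ R ^ 3)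
      (hG2 : R * R ≤ Submodule.span k {x * y} ⊔ Submodule.span k {y * x} ⊔ R ^ 3)
      (hl0 : l ≠ 0) (hr₁ : r₁ ∈ R ^ 3) (hl : x * x = l • (x * y - y * x) + r₁)
      (hr₂ : r₂ ∈ R ^ 3) (hy2 : y * y = mm • (x * y) + -mm • (y * x) + r₂) (h2 : (2 : k) = 0)
      (hcyc5 : R ^ 5 ≠ ⊥ → R ^ 3 ≤ commSpan R ⊔ R ^ 5) (hsoc : R ^ 5 = ⊥ → Thin R 4) :
      Thin R 3 ∨ Thin R 4 := by
    obtain ⟨t, ht⟩ := exists_root_quad hl0 1 mm
    have hxx' : x * x - l • (x * y + y * x) ∈ R ^ 3 := by
      rw [hl]
      convert hr₁ using 1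
      match_scalars <;> first | linear_combination (-l) * h2 | ring
    have hnew : (t • x + y) * (t • x + y) ∈ R ^ 3 := by
      have := add_mem (Submodule.smul_mem _ (t ^ 2) hr₁) hr₂
      convert this using 1
      simp only [add_mul, mul_add, smul_mul_assoc, mul_smul_comm, hl, hy2]
      match_scalars <;>
        first | linear_combination ht | linear_combination ht - (l * t ^ 2 + mm) * h2 | ring
    refine two_gen_square_zero hmul (x := t • x + y) (y := x)
      (add_mem (R.smul_mem t hx) hy) hx ?_ ?_ ?_ (m := l) hnew ?_ hcyc5 hsoc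
    · refine hgen.trans (sup_le (sup_le (le_sup_right.trans le_sup_left) (singleton_le ?_))
        le_sup_right)
      refine Submodule.mem_sup_left (Submodule.mem_sup.2 ⟨t • x + y,
        Submodule.mem_span_singleton_self _, -(t • x),
        neg_mem (Submodule.mem_span_singleton.2 ⟨t, rfl⟩), ?_⟩)
      abel
    · intro h
      refine hc ?_
      rw [show x * y - y * x = -((t • x + y) * x - x * (t • x + y)) by
        simp only [add_mul, mul_add, smul_mul_assoc, mul_smul_comm]; abel]
      exact neg_mem h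
    · set U := Submodule.span k {(t • x + y) * x} ⊔ Submodule.span k {x * (t • x + y)} ⊔ R ^ 3
        with hU
      have m1 : (t • x + y) * x ∈ U :=
        Submodule.mem_sup_left (Submodule.mem_sup_left (Submodule.mem_span_singleton_self _))
      have m2 : x * (t • x + y) ∈ U :=
        Submodule.mem_sup_left (Submodule.mem_sup_right (Submodule.mem_span_singleton_self _))
      have hu : x * y + y * x ∈ U := by
        have := sub_mem (add_mem m1 m2) (Submodule.zero_mem U)
        convert this using 1
        simp only [add_mul, mul_add, smul_mul_assoc, mul_smul_comm]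
        match_scalars <;> first | linear_combination (-t) * h2 | ring
      have hxxU : x * x ∈ U := by
        rw [← sub_add_cancel (x * x) (l • (x * y + y * x))]
        exact add_mem (Submodule.mem_sup_right hxx') (U.smul_mem l hu)
      refine hG2.trans (sup_le (sup_le (singleton_le ?_) (singleton_le ?_)) le_sup_right)
      · rw [show x * y = x * (t • x + y) - t • (x * x) by
          simp only [mul_add, mul_smul_comm]; abel]
        exact sub_mem m2 (U.smul_mem t hxxU)
      · rw [show y * x = (t • x + y) * x - t • (x * x) by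
          simp only [add_mul, smul_mul_assoc]; abel]
        exact sub_mem m1 (U.smul_mem t hxxU)
    · convert hxx' using 1
      simp only [add_mul, mul_add, smul_mul_assoc, mul_smul_comm]
      match_scalars <;> first | linear_combination (-(l * t)) * h2 | ring

/-- Two generators, second layer spanned by the commutator and one further element. -/
theorem two_gen (hmul : R * R ≤ R) {x y : A} (hx : x ∈ R) (hy : y ∈ R)
    (hgen : R ≤ Submodule.span k {x} ⊔ Submodule.span k {y} ⊔ R * R)
    (hc : x * y - y * x ∉ R ^ 3) {w : A}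
    (hb : R * R ≤ Submodule.span k {x * y - y * x} ⊔ Submodule.span k {w} ⊔ R ^ 3)
    (hcyc : R ^ 4 ≠ ⊥ → R ^ 3 ≤ commSpan R ⊔ R ^ 4)
    (hcyc5 : R ^ 5 ≠ ⊥ → R ^ 3 ≤ commSpan R ⊔ R ^ 5)
    (hsoc4 : R ^ 4 = ⊥ → Thin R 3) (hsoc : R ^ 5 = ⊥ → Thin R 4) :
    Thin R 3 ∨ Thin R 4 := by
  set U := Submodule.span k {x * y - y * x} ⊔ R ^ 3 with hU
  by_cases hw : w ∈ U
  · refine two_gen_iso hmul hx hy hgen hc hb ?_ hcyc hcyc5 hsoc4 hsoc
    exact (sup_le (sup_le le_sup_left (singleton_le hw)) le_sup_right :
      Submodule.span k {x * y - y * x} ⊔ Submodule.span k {w} ⊔ R ^ 3 ≤ U)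
      (hb (Submodule.mul_mem_mul hx hx))
  obtain ⟨δ₀, hδw, hδU⟩ := Submodule.exists_dual_map_eq_bot_of_notMem hw inferInstance
  set δ : A →ₗ[k] k := (δ₀ w)⁻¹ • δ₀ with hδ
  have hδ1 : δ w = 1 := by rw [hδ, LinearMap.smul_apply, smul_eq_mul, inv_mul_cancel₀ hδw]
  have hδ0 : ∀ u ∈ U, δ u = 0 := fun u hu => by
    have h : δ₀ u ∈ U.map δ₀ := Submodule.mem_map_of_mem hu
    rw [hδU, Submodule.mem_bot] at h
    rw [hδ, LinearMap.smul_apply, h, smul_zero]
  have hkey : ∀ u ∈ R * R, δ u = 0 → u ∈ U := by
    intro u hu h0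
    obtain ⟨a, b, r, hr, rfl⟩ := mem_sup₂ (hb hu)
    have ha : a • (x * y - y * x) + r ∈ U := Submodule.add_mem_sup
      (Submodule.smul_mem _ a (Submodule.mem_span_singleton_self _)) hr
    have h1 : δ (a • (x * y - y * x) + r) + b = 0 := by
      rw [← h0, map_add, map_add, map_add, map_smul δ b w, hδ1, smul_eq_mul, mul_one]; ring
    rw [hδ0 _ ha, zero_add] at h1
    rw [h1, zero_smul, add_zero]; exact ha
  have hsym : δ (x * y) = δ (y * x) := sub_eq_zero.1 (by
    rw [← map_sub]; exact hδ0 _ (Submodule.mem_sup_left (Submodule.mem_span_singleton_self _)))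
  by_cases hxx : δ (x * x) = 0
  · exact two_gen_iso hmul hx hy hgen hc hb (hkey _ (Submodule.mul_mem_mul hx hx) hxx)
      hcyc hcyc5 hsoc4 hsoc
  obtain ⟨t, ht⟩ := exists_root_quad hxx (δ (x * y) + δ (y * x)) (δ (y * y))
  have hx' : t • x + y ∈ R := add_mem (R.smul_mem t hx) hy
  have hcc : (t • x + y) * x - x * (t • x + y) = -(x * y - y * x) := by
    simp only [add_mul, mul_add, smul_mul_assoc, mul_smul_comm]; abel
  have hspan : Submodule.span k {-(x * y - y * x)} = Submodule.span k {x * y - y * x} := by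
    refine le_antisymm (singleton_le (neg_mem (Submodule.mem_span_singleton_self _)))
      (singleton_le ?_)
    rw [← neg_neg (x * y - y * x)]
    exact neg_mem (by rw [neg_neg]; exact Submodule.mem_span_singleton_self _)
  refine two_gen_iso hmul (x := t • x + y) (y := x) hx' hx ?_ ?_ (w := w) ?_ ?_
    hcyc hcyc5 hsoc4 hsoc
  · refine hgen.trans (sup_le (sup_le (le_sup_right.trans le_sup_left) (singleton_le ?_))
      le_sup_right)
    refine Submodule.mem_sup_left (Submodule.mem_sup.2 ⟨t • x + y,
      Submodule.mem_span_singleton_self _, -(t • x),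
      neg_mem (Submodule.mem_span_singleton.2 ⟨t, rfl⟩), ?_⟩)
    abel
  · rw [hcc]; exact fun h => hc (by simpa using neg_mem h)
  · rw [hcc, hspan]; exact hb
  · rw [hcc, hspan]
    refine hkey _ (Submodule.mul_mem_mul hx' hx') ?_
    simp only [add_mul, mul_add, smul_mul_assoc, mul_smul_comm, map_add, map_smul, smul_eq_mul]
    linear_combination ht

end Cfsg.Agent.LocalSymTwoGen27
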