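import Mathlib
import Cfsg.Agent.Lib.LocalSymTwoGen27
import Cfsg.Agent.Lib.LocalSymThreeMain27

/-!
# Symmetric algebras with one simple module and at most five independent trace functionals

The corner of such an algebra has dimension at most twelve (a weak form of the theorem of Chlebowitz
and Külshammer on local symmetric algebras with five-dimensional centre).
-/

set_option autoImplicit false
set_option linter.style.haveILetI false
set_option linter.unusedSectionVars false

namespace Cfsg.Agent.LocalSymAlgFive27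

open BrandtAlgebra42 LocalSymAlg42 LocalSymLayer27 LocalSymTools27

attribute [local instance] Classical.propDecidable

variable {k : Type*} [Field k] {A : Type*} [Ring A] [Algebra k A]

/-- A radical with cocentre of codimension at most four is commutative or small. -/
theorem radical_small [FiniteDimensional k A] [IsAlgClosed k] (τ : A →ₗ[k] k) (hτ : IsTr τ)
    {R : Submodule k A} (hmul : R * R ≤ R) {N : ℕ} (hnil : R ^ (N + 1) = ⊥)
    (hnd : ∀ x ∈ R, τ x = 0 → (∀ y ∈ R, τ (x * y) = 0) → x = 0)
    (hdim : Module.finrank k R ≤ Module.finrank k (commSpan R) + 4) :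
    (∀ a ∈ R, ∀ b ∈ R, a * b = b * a) ∨ Module.finrank k R ≤ 11 := by
  set C := commSpan R with hC
  have h22 : R * R = R ^ 2 := (pow_two_eq R).symm
  have h3 : R ^ 3 = R * R * R := by rw [pow_succ, pow_succ, pow_one]
  have hτC : ∀ z ∈ C, τ z = 0 := by
    intro z hz
    induction hz using Submodule.span_induction with
    | mem z hz => obtain ⟨a, -, b, -, rfl⟩ := hz; rw [map_sub, hτ, sub_self]
    | zero => simp
    | add u v _ _ hu hv => rw [map_add, hu, hv, add_zero]
    | smul t u _ hu => rw [map_smul, hu, smul_zero]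
  have hCR : C ≤ R := (commSpan_le_sq R).trans hmul
  by_cases h30 : R ^ 3 = ⊥
  · refine Or.inl fun a ha b hb => ?_
    have hm := mem_commSpan ha hb
    refine sub_eq_zero.1 (hnd _ (hCR hm) (hτC _ hm) fun y hy => ?_)
    have h := Submodule.mul_mem_mul (commSpan_le_sq R hm) hy
    rw [← h3, h30, Submodule.mem_bot] at h
    rw [h, map_zero]
  have hne : ∀ {n}, 0 < n → R ^ n ≠ ⊥ → ∃ z ∈ R ^ n, τ z ≠ 0 := by
    intro n hn hb
    by_contra hno
    push Not at hno
    exact hb (eq_bot_iff.2 fun z hz => (Submodule.mem_bot k).2 (hnd z (pow_le_self hmul hn hz)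
      (hno z hz) fun y hy => hno _ (pow_anti hmul hn (Nat.le_succ n) (mul_mem_pow_right hz hy))))
  obtain ⟨ζ₃, hζ₃, hζ₃'⟩ := hne (by norm_num) h30
  have hlt1 : C < C ⊔ R ^ 3 := left_lt_sup.2 fun hle => hζ₃' (hτC _ (hle hζ₃))
  have h2 : C ⊔ R ^ 3 ≤ R * R := sup_le (commSpan_le_sq R) (by
    rw [h3]; exact mul_le_mul' hmul le_rfl)
  have hcent : ∀ {n}, 2 ≤ n → Thin R n → Module.finrank k (R ^ (n - 1) : Submodule k A) ≤ 5 := by
    intro n hn ht
    have h := finrank_central_le hmul hnil τ hτ hnd (pow_le_self hmul (by omega))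
      (central_of_thin hmul hnil τ hτ hnd hn ht)
    rw [← hC] at h
    omega
  have hcomm2 : Thin R 2 → ∀ a ∈ R, ∀ b ∈ R, a * b = b * a := fun ht a ha b hb =>
    central_of_thin hmul hnil τ hτ hnd le_rfl ht a (by rwa [show 2 - 1 = 1 from rfl, pow_one]) b hb
  by_cases h1 : ∃ x ∈ R, R ≤ Submodule.span k {x} ⊔ R * R
  · obtain ⟨x, hx, hgen⟩ := h1
    exact Or.inl (comm_of_generated hmul hnil hx hgen)
  push Not at h1
  obtain ⟨x, hx, hx'⟩ : ∃ x ∈ R, x ∉ R * R := by
    obtain ⟨x, hx, hx'⟩ := SetLike.not_le_iff_exists.1 (h1 0 (zero_mem _))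
    exact ⟨x, hx, fun h => hx' (Submodule.mem_sup_right h)⟩
  obtain ⟨y, hy, hy'⟩ := SetLike.not_le_iff_exists.1 (h1 x hx)
  set U := Submodule.span k {x} ⊔ Submodule.span k {y} with hU
  have hs1 : R * R < Submodule.span k {x} ⊔ R * R :=
    right_lt_sup.2 fun h => hx' (h (Submodule.mem_span_singleton_self x))
  have hs2 : Submodule.span k {x} ⊔ R * R < U ⊔ R * R :=
    lt_of_le_of_ne (sup_le_sup_right le_sup_left _) fun h => hy' (h.symm ▸
      Submodule.mem_sup_left (Submodule.mem_sup_right (Submodule.mem_span_singleton_self y)))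
  have hUR : U ≤ R := sup_le (singleton_le hx) (singleton_le hy)
  have f1 := Submodule.finrank_lt_finrank_of_lt hlt1
  have f2 := Submodule.finrank_mono h2
  have f3 := Submodule.finrank_lt_finrank_of_lt hs1
  have f4 := Submodule.finrank_lt_finrank_of_lt hs2
  have f5 := Submodule.finrank_mono (sup_le hUR hmul : U ⊔ R * R ≤ R)
  have hsum1 : ∀ (g : A) (T : Submodule k A),
      Module.finrank k (Submodule.span k {g} ⊔ T : Submodule k A) ≤ 1 + Module.finrank k T := by
    intro g T
    refine (Submodule.finrank_add_le_finrank_add_finrank _ _).trans (Nat.add_le_add_right ?_ _)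
    by_cases hg : g = 0
    · rw [hg, Submodule.span_zero_singleton, finrank_bot]; exact Nat.zero_le _
    · rw [finrank_span_singleton hg]
  have hcyc : Module.finrank k (C ⊔ R ^ 3 : Submodule k A) ≤ Module.finrank k C + 1 →
      ∀ m, 3 ≤ m → R ^ m ≠ ⊥ → R ^ 3 ≤ C ⊔ R ^ m := by
    intro hc1 m hm hb
    obtain ⟨z, hz, hz'⟩ := hne (by omega) hb
    have hle : C ⊔ Submodule.span k {z} ≤ C ⊔ R ^ 3 :=
      sup_le_sup_left (singleton_le (pow_anti hmul (by norm_num) hm hz)) _
    have hlt : C < C ⊔ Submodule.span k {z} :=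
      left_lt_sup.2 fun h => hz' (hτC _ (h (Submodule.mem_span_singleton_self z)))
    have := Submodule.finrank_lt_finrank_of_lt hlt
    exact le_trans (le_sup_right : R ^ 3 ≤ C ⊔ R ^ 3)
      ((Submodule.eq_of_le_of_finrank_le hle (by omega)).ge.trans
        (sup_le_sup_left (singleton_le hz) _))
  have hsoc : ∀ n, 0 < n → R ^ (n + 1) = ⊥ → Thin R n := fun n hn h =>
    thin_of_bot hmul hnil τ hτ hnd hn h
  by_cases hgen : R ≤ U ⊔ R * R
  · -- two generators
    have hCle : C ≤ Submodule.span k {x * y - y * x} ⊔ R ^ 3 := commSpan_le_gen hgen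
      (comm_mem_two (Submodule.mem_sup_left (Submodule.mem_span_singleton_self _)))
      (fun u hu r hr => Submodule.mem_sup_right (sub_mem (mul_mem_pow_left (hUR hu) (h22 ▸ hr))
        (mul_mem_pow_right (h22 ▸ hr) (hUR hu))))
      (fun r hr s hs => Submodule.mem_sup_right (sub_mem (mul_mem_pow_right (h22 ▸ hr) (hmul hs))
        (mul_mem_pow_right (h22 ▸ hs) (hmul hr))))
    by_cases hA : C ⊔ R ^ 3 = R * R
    · exfalso
      exact h30 (cube_eq_bot hmul hnil hx hy hgen (hA.ge.trans (sup_le hCle le_sup_right)))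
    have f6 := Submodule.finrank_lt_finrank_of_lt (lt_of_le_of_ne h2 hA)
    by_cases hc : x * y - y * x ∈ R ^ 3
    · left
      have hC3 : C ⊔ R ^ 3 = R ^ 3 := sup_eq_right.2
        (hCle.trans (sup_le (singleton_le hc) le_rfl))
      rw [hC3] at f1 f2 f6 hA
      obtain ⟨g, hg, hg'⟩ := SetLike.exists_of_lt (lt_of_le_of_ne (hC3 ▸ h2) hA)
      refine hcomm2 ⟨g, ?_⟩
      rw [← h22, show 2 + 1 = 3 from rfl]
      have hlt : R ^ 3 < Submodule.span k {g} ⊔ R ^ 3 :=
        right_lt_sup.2 fun h => hg' (h (Submodule.mem_span_singleton_self g))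
      have := Submodule.finrank_lt_finrank_of_lt hlt
      exact (Submodule.eq_of_le_of_finrank_le (sup_le (singleton_le hg) (hC3 ▸ h2))
        (by omega)).ge
    · right
      set S := Submodule.span k {x * y - y * x} ⊔ R ^ 3 with hS
      have hSle : C ⊔ R ^ 3 ≤ S := sup_le hCle le_sup_right
      have hSR : S ≤ R * R := sup_le (singleton_le (sub_mem (Submodule.mul_mem_mul hx hy)
        (Submodule.mul_mem_mul hy hx))) (le_sup_right.trans h2)
      have f7 := Submodule.finrank_mono hSle
      obtain ⟨w, hw⟩ : ∃ w, R * R ≤ Submodule.span k {x * y - y * x} ⊔ Submodule.span k {w} ⊔ R ^ 3 := by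
        by_cases hfull : R * R ≤ S
        · exact ⟨0, hfull.trans (sup_le_sup_right le_sup_left _)⟩
        · obtain ⟨w, hw, hw'⟩ := SetLike.not_le_iff_exists.1 hfull
          refine ⟨w, ?_⟩
          have hlt : S < Submodule.span k {w} ⊔ S :=
            right_lt_sup.2 fun h => hw' (h (Submodule.mem_span_singleton_self w))
          have := Submodule.finrank_lt_finrank_of_lt hlt
          rw [← Submodule.eq_of_le_of_finrank_le (sup_le (singleton_le hw) hSR) (by omega)]
          exact sup_le ((le_sup_right : Submodule.span k {w} ≤ _).trans le_sup_left)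
            (sup_le_sup_right le_sup_left _)
      have hc1 : Module.finrank k (C ⊔ R ^ 3 : Submodule k A) ≤ Module.finrank k C + 1 := by omega
      have f8 := Submodule.finrank_mono hw
      have f9 := hsum1 w (R ^ 3)
      have f10 := hsum1 (x * y - y * x) (Submodule.span k {w} ⊔ R ^ 3)
      rw [← sup_assoc] at f10
      rcases LocalSymTwoGen27.two_gen hmul hx hy hgen hc hw (hcyc hc1 4 (by norm_num))
          (fun h5 => hcyc hc1 5 (by norm_num) h5) (hsoc 3 (by norm_num)) (hsoc 4 (by norm_num))
        with ht | ht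
      · have h5 := hcent (by norm_num) ht
        rw [show 3 - 1 = 2 from rfl, ← h22] at h5
        omega
      · have h5 := hcent (by norm_num) ht
        rw [show 4 - 1 = 3 from rfl] at h5
        omega
  · -- three generators
    obtain ⟨z, hz, hz'⟩ := SetLike.not_le_iff_exists.1 hgen
    have hs3 : U ⊔ R * R < Submodule.span k {z} ⊔ (U ⊔ R * R) :=
      right_lt_sup.2 fun h => hz' (h (Submodule.mem_span_singleton_self z))
    have f6 := Submodule.finrank_lt_finrank_of_lt hs3
    have hle : Submodule.span k {z} ⊔ (U ⊔ R * R) ≤ R :=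
      sup_le (singleton_le hz) (sup_le hUR hmul)
    have f7 := Submodule.finrank_mono hle
    have hgen3 : R ≤ Submodule.span k (Set.range ![x, y, z]) ⊔ R * R := by
      refine (Submodule.eq_of_le_of_finrank_le hle (by omega)).ge.trans
        (sup_le ?_ (sup_le_sup_right ?_ _))
      · exact le_sup_of_le_left (singleton_le (Submodule.subset_span ⟨2, rfl⟩))
      · exact sup_le (singleton_le (Submodule.subset_span ⟨0, rfl⟩))
          (singleton_le (Submodule.subset_span ⟨1, rfl⟩))
    have hC2 : R * R ≤ C ⊔ R ^ 3 := (Submodule.eq_of_le_of_finrank_le h2 (by omega)).ge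
    have hc1 : Module.finrank k (C ⊔ R ^ 3 : Submodule k A) ≤ Module.finrank k C + 1 := by omega
    have hspan := LocalSymThreeGen27.sq_le_three hmul hx hy hz
      (hgen3.trans (sup_le_sup_right (Submodule.span_le.2 (by
        rintro _ ⟨i, rfl⟩
        fin_cases i
        · exact LocalSymThreeGen27.mem₁
        · exact LocalSymThreeGen27.mem₂
        · exact LocalSymThreeGen27.mem₃)) _)) hC2
    have f8 := Submodule.finrank_mono hspan
    simp only [LocalSymThreeGen27.span₃] at f8
    have f9 := hsum1 (y * z - z * y) (R ^ 3)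
    have f10 := hsum1 (x * z - z * x) (Submodule.span k {y * z - z * y} ⊔ R ^ 3)
    have f11 := hsum1 (x * y - y * x)
      (Submodule.span k {x * z - z * x} ⊔ (Submodule.span k {y * z - z * y} ⊔ R ^ 3))
    rw [← sup_assoc, ← sup_assoc] at f11
    rcases LocalSymThreeMain27.three_main hmul hnil ![x, y, z]
        (fun i => by fin_cases i <;> assumption) hgen3 hC2 (hcyc hc1 4 (by norm_num))
      with ht | ht | ht
    · exact Or.inl (hcomm2 ht)
    · have h5 := hcent (by norm_num) ht
      rw [show 3 - 1 = 2 from rfl, ← h22] at h5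
      right; omega
    · have h5 := hcent (by norm_num) ht
      rw [show 4 - 1 = 3 from rfl] at h5
      right; omega

variable [FiniteDimensional k A]

/-- A symmetric algebra with one simple module and at most `K ≤ 5` independent trace functionals. -/
theorem basic_dims [IsAlgClosed k] [Nontrivial A] (τ : A →ₗ[k] k) (hτ : IsTr τ)
    (hnd : ∀ a, (∀ b, τ (a * b) = 0) → a = 0)
    (htwo : ∀ φ : Fin 2 → (A →ₗ[k] k), (∀ i, IsTr (φ i)) →
      (∀ i, ∀ z, IsNilpotent z → φ i z = 0) → ¬ LinearIndependent k φ)
    {K : ℕ} (hK : K ≤ 5)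
    (htr : ∀ φ : Fin (K + 1) → (A →ₗ[k] k), (∀ i, IsTr (φ i)) → ¬ LinearIndependent k φ) :
    ∃ (n c : ℕ) (e : A), IsIdempotentElem e ∧ 0 < n ∧ 0 < c ∧ c ≤ 12 ∧
      Module.finrank k A = n ^ 2 * c ∧
      Module.finrank k (LinearMap.range (LinearMap.mulRight k e)) = n * c := by
  haveI : IsArtinianRing A := IsArtinianRing.of_finite k A
  set J : Ideal A := Ring.jacobson A with hJ
  obtain ⟨N, hN⟩ : IsNilpotent J := by
    rw [hJ, ← Ideal.jacobson_bot]; exact IsArtinianRing.isNilpotent_jacobson_bot
  have hJnil : ∀ x ∈ J, IsNilpotent x := fun x hx => ⟨N, by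
    have := Ideal.pow_mem_pow hx N
    rw [hN] at this
    exact Ideal.mem_bot.1 this⟩
  haveI : IsSemisimpleRing (A ⧸ J) := IsSemiprimaryRing.isSemisimpleRing
  haveI : FiniteDimensional k (A ⧸ J) :=
    Module.Finite.of_surjective (Ideal.Quotient.mkₐ k J).toLinearMap Ideal.Quotient.mk_surjective
  obtain ⟨m, d, hd, ⟨w⟩⟩ := IsSemisimpleRing.exists_algEquiv_pi_matrix_of_isAlgClosed k (A ⧸ J)
  let P : A →ₐ[k] Π i, Matrix (Fin (d i)) (Fin (d i)) k := w.toAlgHom.comp (Ideal.Quotient.mkₐ k J)
  have hPs : Function.Surjective P := w.surjective.comp Ideal.Quotient.mk_surjective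
  have hPk : ∀ x, P x = 0 ↔ x ∈ J := fun x => by
    show w (Ideal.Quotient.mk J x) = 0 ↔ _
    rw [map_eq_zero_iff w w.injective, Ideal.Quotient.eq_zero_iff_mem]
  -- one simple module
  have hsub : ∀ i j : Fin m, i = j := by
    intro i j
    by_contra hij
    let t : Fin m → (A →ₗ[k] k) := fun l =>
      ((Matrix.traceLinearMap (Fin (d l)) k k).comp (LinearMap.proj l)).comp P.toLinearMap
    have ht : ∀ l, IsTr (t l) := fun l a b => by
      simp only [t, LinearMap.comp_apply, AlgHom.toLinearMap_apply, map_mul, LinearMap.proj_apply,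
        Pi.mul_apply, Matrix.traceLinearMap_apply]
      rw [Matrix.trace_mul_comm]
    have htn : ∀ l z, IsNilpotent z → t l z = 0 := by
      intro l z hz
      have hzl : IsNilpotent (P z l) :=
        (hz.map P).map (Pi.evalRingHom (fun i => Matrix (Fin (d i)) (Fin (d i)) k) l)
      simp only [t, LinearMap.comp_apply, AlgHom.toLinearMap_apply, LinearMap.proj_apply,
        Matrix.traceLinearMap_apply]
      exact (Matrix.isNilpotent_trace_of_isNilpotent hzl).eq_zero
    refine htwo ![t i, t j] (fun l => by fin_cases l <;> simp [ht])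
      (fun l => by fin_cases l <;> exact htn _) (Fintype.linearIndependent_iff.2 fun g hg l => ?_)
    simp only [Fin.sum_univ_two, Matrix.cons_val_zero, Matrix.cons_val_one] at hg
    have key : ∀ a : Fin m, ∃ y, P y = Pi.single a
        (Matrix.single (⟨0, Nat.pos_of_ne_zero (hd a).out⟩ : Fin (d a))
          ⟨0, Nat.pos_of_ne_zero (hd a).out⟩ 1) :=
      fun a => hPs _
    obtain ⟨yi, hyi⟩ := key i
    obtain ⟨yj, hyj⟩ := key j
    have gi : g 0 = 0 := by
      have h := LinearMap.congr_fun hg yi
      simpa [t, hyi, hij, Ne.symm hij] using h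
    have gj : g 1 = 0 := by
      have h := LinearMap.congr_fun hg yj
      simpa [t, hyj, hij, Ne.symm hij] using h
    fin_cases l <;> assumption
  have hm : 0 < m := by
    by_contra h0
    have : m = 0 := by omega
    subst this
    exact not_isNilpotent_one (hJnil 1 ((hPk 1).1 (Subsingleton.elim _ _)))
  set i₁ : Fin m := ⟨0, hm⟩
  haveI := hd i₁
  let Q : A →ₐ[k] Matrix (Fin (d i₁)) (Fin (d i₁)) k :=
    (Pi.evalAlgHom k (fun i => Matrix (Fin (d i)) (Fin (d i)) k) i₁).comp P
  have hQP : ∀ x, Q x = 0 ↔ P x = 0 := fun x =>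
    ⟨fun h => funext fun i => by obtain rfl := hsub i i₁; exact h, fun h => congrFun h i₁⟩
  have hQs : Function.Surjective Q := fun y => by
    obtain ⟨x, hx⟩ := hPs (Pi.single i₁ y)
    exact ⟨x, by show P x i₁ = y; rw [hx, Pi.single_eq_same]⟩
  have hQnil : ∀ x, Q x = 0 → IsNilpotent x := fun x hx => hJnil x ((hPk x).1 ((hQP x).1 hx))
  clear_value i₁
  -- matrix units
  let z : Fin (d i₁) := 0
  obtain ⟨e, he, hQe⟩ := exists_isIdempotentElem_eq_of_ker_isNilpotent Q.toRingHom
    (fun x hx => hQnil x hx) (Matrix.single z z 1) (RingHom.mem_range.2 (hQs _))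
    (by simp [IsIdempotentElem])
  replace hQe : Q e = Matrix.single z z 1 := hQe
  choose u₀ hu₀ using fun i : Fin (d i₁) => hQs (Matrix.single i z 1)
  choose w₀ hw₀ using fun i : Fin (d i₁) => hQs (Matrix.single z i 1)
  have hS : Q (∑ i, u₀ i * e * (e * w₀ i)) = 1 := by
    simp only [map_sum, map_mul, hu₀, hw₀, hQe, Matrix.single_mul_single_same, mul_one]
    exact Matrix.sum_single_one
  set S := ∑ i, u₀ i * e * (e * w₀ i) with hSdef
  obtain ⟨T, hT⟩ : IsUnit S := by
    have h := (hQnil (1 - S) (by rw [map_sub, map_one, hS, sub_self])).isUnit_one_sub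
    rwa [sub_sub_cancel] at h
  have hQT : Q (↑T⁻¹ : A) = 1 := by
    have h := congrArg Q T.mul_inv
    rw [map_mul, hT, hS, one_mul, map_one] at h
    exact h
  let r : Fin (d i₁) → A := fun i => u₀ i * e
  let s : Fin (d i₁) → A := fun i => e * w₀ i * ↑T⁻¹
  have hre : ∀ i, r i * e = r i := fun i => by simp only [r, mul_assoc, he.eq]
  have hes : ∀ i, e * s i = s i := fun i => by simp only [s, ← mul_assoc, he.eq]
  have hrs : ∑ i, r i * s i = 1 := by
    simp only [r, s, ← mul_assoc]
    rw [← Finset.sum_mul]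
    have : ∑ i, u₀ i * e * e * w₀ i = S := by simp only [hSdef, mul_assoc]
    rw [this, ← hT]
    exact T.mul_inv
  have hrQ : ∀ i, Q (r i) = Matrix.single i z 1 := fun i => by simp [r, hu₀, hQe]
  have hsQ : ∀ i, Q (s i) = Matrix.single z i 1 := fun i => by simp [s, hw₀, hQe, hQT]
  -- the corner
  let E : Submodule k A :=
    { carrier := {a | e * a * e = a}
      add_mem' := fun {a b} ha hb => by
        show e * (a + b) * e = a + b
        rw [mul_add, add_mul, show e * a * e = a from ha, show e * b * e = b from hb]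
      zero_mem' := by show e * 0 * e = 0; simp
      smul_mem' := fun c a ha => by
        show e * (c • a) * e = c • a
        rw [mul_smul_comm, smul_mul_assoc, show e * a * e = a from ha] }
  have hcl : ∀ {a}, a ∈ E → e * a = a := fun {a} ha => by
    conv_lhs => rw [← (show e * a * e = a from ha)]
    simp only [← mul_assoc, he.eq]
    exact ha
  have hcr : ∀ {a}, a ∈ E → a * e = a := fun {a} ha => by
    conv_lhs => rw [← (show e * a * e = a from ha)]
    rw [mul_assoc, he.eq]
    exact ha
  have hee : e ∈ E := by show e * e * e = e; rw [he.eq, he.eq]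
  have hsar : ∀ i a j, s i * a * r j ∈ E := fun i a j => by
    show e * (s i * a * r j) * e = _
    simp only [← mul_assoc, hes]
    simp only [mul_assoc, hre]
  have hmem : ∀ x, e * x * e ∈ E := fun x => by
    show e * (e * x * e) * e = _
    simp only [← mul_assoc, he.eq]
    rw [mul_assoc, he.eq]
  let Φ : A →ₗ[k] A := ∑ i, (LinearMap.mulLeft k (s i)).comp (LinearMap.mulRight k (r i))
  have hΦa : ∀ a, Φ a = ∑ i, s i * a * r i := fun a => by simp [Φ, mul_assoc]
  have hext : ∀ ψ : A →ₗ[k] k, (∀ a ∈ E, ∀ b ∈ E, ψ (a * b) = ψ (b * a)) →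
      IsTr (ψ.comp Φ) ∧ ∀ a ∈ E, (ψ.comp Φ) a = ψ a := by
    intro ψ hψ
    have expand : ∀ a b, ∑ i, ψ (s i * (a * b) * r i) =
        ∑ i, ∑ j, ψ ((s i * a * r j) * (s j * b * r i)) := by
      intro a b
      refine Finset.sum_congr rfl fun i _ => ?_
      conv_lhs => rw [← one_mul b, ← hrs]
      simp only [Finset.sum_mul, Finset.mul_sum, map_sum, mul_assoc]
    refine ⟨fun a b => ?_, fun a ha => ?_⟩
    · simp only [LinearMap.comp_apply, hΦa, map_sum]
      rw [expand, expand, Finset.sum_comm]
      exact Finset.sum_congr rfl fun i _ => Finset.sum_congr rfl fun j _ =>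
        hψ _ (hsar _ _ _) _ (hsar _ _ _)
    · simp only [LinearMap.comp_apply, hΦa, map_sum]
      calc ∑ i, ψ (s i * a * r i) = ∑ i, ψ ((e * s i * e) * (a * (e * r i * e))) := by
            refine Finset.sum_congr rfl fun i _ => congrArg ψ ?_
            rw [hes, mul_assoc (e) (r i) e, hre]
            simp only [← mul_assoc]
            rw [mul_assoc (s i * e) a e, hcr ha, mul_assoc (s i) e a, hcl ha]
        _ = ∑ i, ψ ((a * (e * r i * e)) * (e * s i * e)) := by
            refine Finset.sum_congr rfl fun i _ => hψ _ (hmem _) _ ?_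
            show e * (a * (e * r i * e)) * e = _
            simp only [← mul_assoc]
            rw [hcl ha, mul_assoc (a * e * r i) e e, he.eq]
        _ = ψ (∑ i, a * (r i * s i) * e) := by
            rw [map_sum]
            refine Finset.sum_congr rfl fun i _ => congrArg ψ ?_
            rw [hes, mul_assoc e (r i) e, hre, ← mul_assoc a e, hcr ha]
            simp only [mul_assoc]
        _ = ψ a := by rw [← Finset.sum_mul, ← Finset.mul_sum, hrs, mul_one, hcr ha]
  -- the radical of the corner
  let R : Submodule k A := E ⊓ LinearMap.ker Q.toLinearMap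
  have hRQ : ∀ {a}, a ∈ R → Q a = 0 := fun {a} ha => ha.2
  have hRmul : ∀ {a b}, a ∈ R → b ∈ R → a * b ∈ R := fun {a b} ha hb => ⟨by
    show e * (a * b) * e = _
    rw [← mul_assoc, hcl ha.1, mul_assoc, hcr hb.1], by
    show Q (a * b) = 0
    rw [map_mul, hRQ ha, zero_mul]⟩
  have hR2 : R * R ≤ R := Submodule.mul_le.2 fun a ha b hb => hRmul ha hb
  have hdec : ∀ a ∈ E, ∃ c : k, a - c • e ∈ R := by
    intro a ha
    refine ⟨Q a z z, sub_mem ha (E.smul_mem _ hee), ?_⟩
    show Q (a - Q a z z • e) = 0
    rw [map_sub, map_smul, hQe]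
    have h := congrArg Q (show e * a * e = a from ha)
    rw [map_mul, map_mul, hQe] at h
    rw [sub_eq_zero]
    conv_lhs => rw [← h]
    ext i j
    by_cases hi : i = z <;> by_cases hj : j = z <;>
      simp [Matrix.mul_apply, Matrix.single_apply, hi, hj, Ne.symm, eq_comm]
  have hRN : R ^ (N + 1) = ⊥ := by
    have key : ∀ j, 0 < j → ∀ x ∈ R ^ j, x ∈ J ^ j := by
      intro j hj
      induction j, hj using Nat.le_induction with
      | base =>
        intro x hx
        simp only [Nat.succ_eq_add_one, zero_add, Submodule.pow_one] at hx ⊢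
        exact (hPk x).1 ((hQP x).1 (hRQ hx))
      | succ j hj ih =>
        intro x hx
        rw [Submodule.pow_succ] at hx ⊢
        induction hx using Submodule.mul_induction_on' with
        | mem_mul_mem a ha b hb => exact Ideal.mul_mem_mul (ih a ha) ((hPk b).1 ((hQP b).1 (hRQ hb)))
        | add a _ b _ h h' => exact add_mem h h'
    rw [eq_bot_iff]
    intro x hx
    have h := Ideal.pow_le_pow_right N.le_succ (key _ N.succ_pos x hx)
    rw [hN] at h
    exact (Submodule.mem_bot k).2 (Ideal.mem_bot.1 h)
  have hdimE : Module.finrank k E = Module.finrank k R + 1 := by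
    have he0 : e ≠ 0 := fun h => by
      have h' : (Matrix.single z z (1 : k)) = 0 := by rw [← hQe, h, map_zero]
      simpa using congrFun (congrFun h' z) z
    have hinf : R ⊓ Submodule.span k {e} = ⊥ := by
      refine eq_bot_iff.2 fun a ha => ?_
      obtain ⟨t, rfl⟩ := Submodule.mem_span_singleton.1 ha.2
      have h := hRQ ha.1
      rw [map_smul, hQe] at h
      have ht : t = 0 := by simpa using congrFun (congrFun h z) z
      simp [ht]
    have hsup : R ⊔ Submodule.span k {e} = E := by
      refine le_antisymm (sup_le inf_le_left (Submodule.span_le.2 (Set.singleton_subset_iff.2 hee)))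
        fun a ha => ?_
      obtain ⟨t, ht⟩ := hdec a ha
      exact Submodule.mem_sup.2 ⟨_, ht, _, Submodule.mem_span_singleton.2 ⟨t, rfl⟩, sub_add_cancel _ _⟩
    have h := Submodule.finrank_sup_add_finrank_inf_eq R (Submodule.span k {e})
    rw [hinf, hsup, finrank_span_singleton he0, finrank_bot, add_zero] at h
    exact h
  -- functionals killing the commutators of the radical
  have hbound : ∀ W : Submodule k A, W ≤ R → (∀ a ∈ R, ∀ b ∈ R, a * b - b * a ∈ W) →
      Module.finrank k R + 1 ≤ Module.finrank k W + K := by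
    intro W hWR hW
    let f : E →ₗ[k] A ⧸ W := W.mkQ.comp E.subtype
    have hker : Module.finrank k (LinearMap.ker f) = Module.finrank k W := by
      have e : LinearMap.ker f = W.comap E.subtype := by
        rw [LinearMap.ker_comp, Submodule.ker_mkQ]
      rw [e]
      exact (Submodule.comapSubtypeEquivOfLe (hWR.trans inf_le_left)).finrank_eq
    have hr := LinearMap.finrank_range_add_finrank_ker f
    by_contra hlt
    have hrange : K + 1 ≤ Module.finrank k (LinearMap.range f) := by omega
    obtain ⟨v, hv⟩ := exists_linearIndependent_of_le_finrank hrange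
    choose a ha using fun i => (v i).2
    obtain ⟨g, hg⟩ := exists_dual (hv.map' (LinearMap.range f).subtype (Submodule.ker_subtype _))
    have hψ : ∀ i, ∀ a ∈ E, ∀ b ∈ E, ((g i).comp W.mkQ) (a * b) = ((g i).comp W.mkQ) (b * a) := by
      intro i a ha b hb
      obtain ⟨c, hc⟩ := hdec a ha
      obtain ⟨c', hc'⟩ := hdec b hb
      have h1 : a * b - b * a = (a - c • e) * (b - c' • e) - (b - c' • e) * (a - c • e) := by
        simp only [mul_sub, sub_mul, mul_smul_comm, smul_mul_assoc, hcl ha, hcr ha, hcl hb, hcr hb,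
          he.eq]
        module
      have h2 : W.mkQ (a * b) = W.mkQ (b * a) := by
        rw [Submodule.mkQ_apply, Submodule.mkQ_apply, Submodule.Quotient.eq, h1]
        exact hW _ hc _ hc'
      simp only [LinearMap.comp_apply, h2]
    refine htr (fun i => ((g i).comp W.mkQ).comp Φ) (fun i => (hext _ (hψ i)).1)
      (Fintype.linearIndependent_iff.2 fun c hc j => ?_)
    have h := LinearMap.congr_fun hc (a j : A)
    simp only [LinearMap.sum_apply, LinearMap.smul_apply, LinearMap.zero_apply] at h
    rw [Finset.sum_eq_single j] at h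
    · rw [(hext _ (hψ j)).2 _ (a j).2, LinearMap.comp_apply,
        show W.mkQ (a j : A) = ((LinearMap.range f).subtype ∘ v) j from ha j, hg, if_pos rfl,
        smul_eq_mul, mul_one] at h
      exact h
    · intro i _ hij
      rw [(hext _ (hψ i)).2 _ (a j).2, LinearMap.comp_apply,
        show W.mkQ (a j : A) = ((LinearMap.range f).subtype ∘ v) j from ha j, hg, if_neg hij,
        smul_zero]
    · simp
  -- the corner is small
  have hcK : Module.finrank k E ≤ 12 := by
    have hndR : ∀ x ∈ R, τ x = 0 → (∀ y ∈ R, τ (x * y) = 0) → x = 0 := by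
      intro x hx h1 h2
      refine hnd x fun a => ?_
      obtain ⟨c, hc⟩ := hdec (e * a * e) (hmem a)
      calc τ (x * a) = τ (x * (e * a * e)) := by
            rw [← mul_assoc, ← mul_assoc, hcr hx.1, hτ (x * a) e, ← mul_assoc, hcl hx.1]
        _ = 0 := by
            rw [← sub_add_cancel (e * a * e) (c • e), mul_add, map_add, h2 _ hc, mul_smul_comm,
              hcr hx.1, map_smul, h1, smul_zero, add_zero]
    have hC := hbound (commSpan R) ((commSpan_le_sq R).trans hR2) fun a ha b hb => mem_commSpan ha hb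
    rcases radical_small τ hτ hR2 hRN hndR (by omega) with hcomm | hsmall
    · have := hbound ⊥ bot_le fun a ha b hb => by simp [hcomm a ha b hb]
      rw [finrank_bot] at this
      omega
    · omega
  -- exact matrix units
  have hsr : ∀ i j, s i * r j = if i = j then e else 0 := by
    let δ : Fin (d i₁) → Fin (d i₁) → A := fun i j => (if i = j then e else 0) - s i * r j
    have hsrE : ∀ i j, s i * r j ∈ E := fun i j => by simpa using hsar i 1 j
    have hδR : ∀ i j, δ i j ∈ R := fun i j => ⟨sub_mem (by split_ifs; exacts [hee, E.zero_mem])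
      (hsrE i j), by
      show Q (δ i j) = 0
      simp only [δ, map_sub, map_mul, hsQ, hrQ]
      by_cases h : i = j
      · subst h; simp [hQe]
      · simp [h]⟩
    have hδsq : ∀ i j, ∑ l, δ i l * δ l j = δ i j := by
      intro i j
      have h1 : ∑ l, s i * r l * (s l * r j) = s i * r j := by
        conv_rhs => rw [← mul_one (s i), ← hrs, Finset.mul_sum, Finset.sum_mul]
        simp only [mul_assoc]
      simp only [δ, sub_mul, mul_sub, Finset.sum_sub_distrib, h1, ite_mul, zero_mul, mul_ite, mul_zero,
        Finset.sum_ite_eq, Finset.sum_ite_eq', Finset.mem_univ, if_true, hcl (hsrE i j),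
        hcr (hsrE i j)]
      by_cases h : i = j
      · subst h; simp [he.eq]
      · simp [h]
    have hpow : ∀ t i j, δ i j ∈ R ^ (t + 1) := by
      intro t
      induction t with
      | zero => intro i j; rw [zero_add, Submodule.pow_one]; exact hδR i j
      | succ t ih =>
        intro i j
        rw [← hδsq i j, pow_succ]
        exact sum_mem fun l _ => Submodule.mul_mem_mul (ih i l) (hδR l j)
    intro i j
    have h := hpow N i j
    rw [hRN, Submodule.mem_bot, sub_eq_zero] at h
    exact h.symm
  -- the two dimensions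
  let L : A →ₗ[k] (Fin (d i₁) → Fin (d i₁) → E) :=
    LinearMap.pi fun i => LinearMap.pi fun j =>
      ((LinearMap.mulLeft k (s i)).comp (LinearMap.mulRight k (r j))).codRestrict E fun a => by
        show s i * (a * r j) ∈ E
        rw [← mul_assoc]; exact hsar i a j
  have hL : ∀ a i j, (L a i j : A) = s i * a * r j := fun a i j => (mul_assoc _ _ _).symm
  have hLb : Function.Bijective L := by
    refine ⟨(injective_iff_map_eq_zero L).2 fun a ha => ?_, fun b => ⟨∑ i, ∑ j, r i * (b i j : A) * s j, ?_⟩⟩
    · have h : a = ∑ i, ∑ j, r i * (s i * a * r j) * s j := by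
        conv_lhs => rw [← mul_one a, ← one_mul a, ← hrs]
        simp only [Finset.sum_mul, Finset.mul_sum, mul_assoc]
        rw [Finset.sum_comm]
      rw [h]
      simp only [← hL, ha, Pi.zero_apply, ZeroMemClass.coe_zero, mul_zero, zero_mul, Finset.sum_const_zero]
    · funext i j
      apply Subtype.ext
      rw [hL, Finset.mul_sum, Finset.sum_mul, Finset.sum_eq_single i, Finset.mul_sum, Finset.sum_mul,
        Finset.sum_eq_single j]
      · simp only [← mul_assoc, hsr, if_true, hcl (b i j).2]
        rw [mul_assoc _ (s j), hsr, if_pos rfl, hcr (b i j).2]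
      · intro l _ hl
        simp only [mul_assoc, hsr, if_neg hl, mul_zero]
      · simp
      · intro l _ hl
        simp only [Finset.mul_sum, Finset.sum_mul, ← mul_assoc, hsr, if_neg (Ne.symm hl), zero_mul,
          Finset.sum_const_zero]
      · simp
  let L' : LinearMap.range (LinearMap.mulRight k e) →ₗ[k] (Fin (d i₁) → E) :=
    LinearMap.pi fun i => ((LinearMap.mulLeft k (s i)).comp
      (LinearMap.range (LinearMap.mulRight k e)).subtype).codRestrict E fun a => by
        obtain ⟨b, hb⟩ := a.2
        show s i * (a : A) ∈ E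
        rw [← hb, LinearMap.mulRight_apply]
        show e * (s i * (b * e)) * e = _
        simp only [← mul_assoc, hes]
        rw [mul_assoc, he.eq]
  have hL'b : Function.Bijective L' := by
    refine ⟨(injective_iff_map_eq_zero L').2 fun a ha => Subtype.ext ?_,
      fun b => ⟨⟨∑ i, r i * (b i : A), ⟨∑ i, r i * (b i : A), ?_⟩⟩, ?_⟩⟩
    · rw [show (a : A) = ∑ i, r i * (s i * (a : A)) by
        simp only [← mul_assoc]; rw [← Finset.sum_mul, hrs, one_mul]]
      refine Finset.sum_eq_zero fun i _ => ?_
      have : s i * (a : A) = 0 := congrArg Subtype.val (congrFun ha i)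
      rw [this, mul_zero]
    · rw [LinearMap.mulRight_apply, Finset.sum_mul]
      simp only [mul_assoc]
      exact Finset.sum_congr rfl fun i _ => by rw [hcr (b i).2]
    · funext i
      apply Subtype.ext
      show s i * ∑ l, r l * (b l : A) = _
      rw [Finset.mul_sum, Finset.sum_eq_single i]
      · rw [← mul_assoc, hsr, if_pos rfl, hcl (b i).2]
      · intro l _ hl
        rw [← mul_assoc, hsr, if_neg (Ne.symm hl), zero_mul]
      · simp
  refine ⟨d i₁, Module.finrank k E, e, he, Nat.pos_of_ne_zero (hd i₁).out, ?_, hcK, ?_, ?_⟩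
  · omega
  · rw [(LinearEquiv.ofBijective L hLb).finrank_eq, Module.finrank_pi_fintype]
    simp only [Module.finrank_pi_fintype, Finset.sum_const, Finset.card_univ, Fintype.card_fin,
      smul_eq_mul]
    ring
  · rw [(LinearEquiv.ofBijective L' hL'b).finrank_eq, Module.finrank_pi_fintype]
    simp only [Finset.sum_const, Finset.card_univ, Fintype.card_fin, smul_eq_mul]

end Cfsg.Agent.LocalSymAlgFive27
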