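import Mathlib
import Cfsg.Prelude.Def_LocalStructure
import Cfsg.Agent.Lib.LocalBasics
import Cfsg.Agent.Lib.LocPReduced56

/-! Averaging over the cosets of a subgroup of index prime to `p`. -/

set_option autoImplicit false

namespace Cfsg.Agent.LocalTrace57

open Subgroup
open scoped commutatorElement

variable {G : Type*} [Group G] [Finite G] {p : ℕ}

/-- If `S ≤ L` has index prime to `p` and centralizes `z ∈ Z`, and all `L`-conjugates of `z` are congruent to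
`z` modulo `B`, then `z` lies in `(Z ∩ C(L)) B`. -/
theorem mem_of_average [hp : Fact p.Prime] {L S Z B : Subgroup G} (hSL : S ≤ L)
    (hidx : ¬ p ∣ S.relIndex L) (hZ : Cfsg.IsElementaryAbelian p Z) (hBZ : B ≤ Z)
    (hLZ : L ≤ normalizer (Z : Set G)) {z : G} (hz : z ∈ Z)
    (hfix : ∀ s ∈ S, s * z = z * s) (hmod : ∀ l ∈ L, z⁻¹ * (l * z * l⁻¹) ∈ B) :
    z ∈ (Z ⊓ centralizer (L : Set G)) ⊔ B := by
  classical
  letI : CommGroup ↥Z :=
    { (inferInstance : Group ↥Z) with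
      mul_comm := fun a b => hZ.1.is_comm.comm a b }
  set S' := S.subgroupOf L with hS'
  have : Fintype (↥L ⧸ S') := Fintype.ofFinite _
  let φ : ↥L → (↥Z →* ↥Z) := fun l =>
    { toFun := fun u => ⟨(l : G) * u * (l : G)⁻¹,
        LocalBasics.conj_mem_of_le_normalizer hLZ l.2 u.2⟩
      map_one' := Subtype.ext (by simp)
      map_mul' := fun a b => Subtype.ext (by simp [mul_assoc]) }
  let f : (↥L ⧸ S') → ↥Z := Quotient.lift (fun l : ↥L => φ l ⟨z, hz⟩) (by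
    intro a b hab
    have h1 : a⁻¹ * b ∈ S' := QuotientGroup.leftRel_apply.mp hab
    have h2 : ((a⁻¹ * b : ↥L) : G) * z = z * ((a⁻¹ * b : ↥L) : G) := hfix _ h1
    refine Subtype.ext ?_
    show (a : G) * z * (a : G)⁻¹ = (b : G) * z * (b : G)⁻¹
    have h3 : (b : G) = (a : G) * ((a⁻¹ * b : ↥L) : G) := by simp
    calc (a : G) * z * (a : G)⁻¹
        = (a : G) * (z * ((a⁻¹ * b : ↥L) : G)) * ((a⁻¹ * b : ↥L) : G)⁻¹ * (a : G)⁻¹ := by group
      _ = (a : G) * (((a⁻¹ * b : ↥L) : G) * z) * ((a⁻¹ * b : ↥L) : G)⁻¹ * (a : G)⁻¹ := by rw [h2]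
      _ = _ := by rw [h3]; simp [mul_assoc])
  let w : ↥Z := ∏ c : ↥L ⧸ S', f c
  have hequiv : ∀ (l : ↥L) (c : ↥L ⧸ S'), φ l (f c) = f (l • c) := by
    intro l c
    induction c using QuotientGroup.induction_on with
    | _ a =>
      refine Subtype.ext ?_
      show (l : G) * ((a : G) * z * (a : G)⁻¹) * (l : G)⁻¹ = (l * a : G) * z * (l * a : G)⁻¹
      group
  have hw : (w : G) ∈ centralizer (L : Set G) := by
    intro l hl
    have h1 : φ ⟨l, hl⟩ w = w := by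
      show φ ⟨l, hl⟩ (∏ c : ↥L ⧸ S', f c) = _
      rw [map_prod]
      simp only [hequiv]
      exact Fintype.prod_equiv (MulAction.toPerm (⟨l, hl⟩ : ↥L)) _ _ (fun _ => rfl)
    have h2 : l * (w : G) * l⁻¹ = w := congrArg Subtype.val h1
    exact mul_inv_eq_iff_eq_mul.mp h2
  have hdiff : (⟨z, hz⟩ : ↥Z)⁻¹ ^ Fintype.card (↥L ⧸ S') * w ∈ B.subgroupOf Z := by
    have e : (⟨z, hz⟩ : ↥Z)⁻¹ ^ Fintype.card (↥L ⧸ S') * w =
        ∏ c : ↥L ⧸ S', ((⟨z, hz⟩ : ↥Z)⁻¹ * f c) := by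
      rw [Finset.prod_mul_distrib, Finset.prod_const, Finset.card_univ]
    rw [e]
    refine Subgroup.prod_mem _ fun c _ => ?_
    induction c using QuotientGroup.induction_on with
    | _ a => exact hmod a a.2
  have hn : (Fintype.card (↥L ⧸ S')).Coprime (orderOf (⟨z, hz⟩ : ↥Z)) := by
    have h1 : orderOf (⟨z, hz⟩ : ↥Z) ∣ p := orderOf_dvd_of_pow_eq_one (Subtype.ext (hZ.2 z hz))
    refine Nat.Coprime.coprime_dvd_right h1 (((Nat.Prime.coprime_iff_not_dvd hp.out).mpr ?_).symm)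
    rw [← Nat.card_eq_fintype_card]
    exact hidx
  obtain ⟨m, hm⟩ := exists_pow_eq_self_of_coprime hn
  have h4 : (⟨z, hz⟩ : ↥Z) ^ Fintype.card (↥L ⧸ S') ∈
      ((Z ⊓ centralizer (L : Set G)) ⊔ B).subgroupOf Z := by
    have e : (⟨z, hz⟩ : ↥Z) ^ Fintype.card (↥L ⧸ S') =
        w * ((⟨z, hz⟩ : ↥Z)⁻¹ ^ Fintype.card (↥L ⧸ S') * w)⁻¹ := by
      rw [mul_inv_rev, mul_inv_cancel_left, inv_pow, inv_inv]
    rw [e]
    exact mul_mem (mem_sup_left ⟨w.2, hw⟩) (inv_mem (mem_sup_right (show _ ∈ B from hdiff)))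
  have h5 := pow_mem h4 m
  rw [hm] at h5
  exact h5

end Cfsg.Agent.LocalTrace57
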