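import Cfsg.Agent.Lib.LyCentCarmichael46
import Cfsg.Agent.S2119
import Cfsg.Prelude.Def_SporadicB

/-!
A finite group with a central involution, containing lifts of the nine three-cycles of Carmichael, that is small
and in which a certain subgroup contains its own centraliser, is a non-split double cover of the alternating
group of degree eleven.
-/

set_option autoImplicit false
set_option maxRecDepth 100000

namespace Cfsg.Agent.LyCentAbstract46

open Cfsg.Agent.LyCentCarmichael46

/-- The alternating group of degree eleven. -/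
abbrev A11 : Type := alternatingGroup (Fin 11)

theorem card_A11 : Nat.card A11 = 19958400 := by
  rw [nat_card_alternatingGroup, Nat.card_fin]
  decide +kernel

variable {C : Type} [Group C]

/-- A central involution and lifts of the three-cycles. -/
structure Data (t : C) (y : Fin 9 → C) : Prop where
  ord : orderOf t = 2
  central : ∀ c, c * t = t * c
  cube : ∀ i, y i * y i * y i = 1
  pair : ∀ i j, i ≠ j → y i * y j * (y i * y j) = t

variable {t : C} {y : Fin 9 → C}

theorem Data.ne_one (D : Data t y) : t ≠ 1 := fun e => by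
  have h := D.ord
  rw [e, orderOf_one] at h
  norm_num at h

theorem Data.sq (D : Data t y) : t * t = 1 := by
  rw [← pow_two]
  conv_lhs => rw [← D.ord]
  exact pow_orderOf_eq_one t

theorem Data.mem_zpowers (D : Data t y) {k : C} :
    k ∈ Subgroup.zpowers t ↔ k = 1 ∨ k = t := by
  constructor
  · intro h
    obtain ⟨n, rfl⟩ := Subgroup.mem_zpowers_iff.mp h
    have h2 : t ^ (2 : ℤ) = 1 := by rw [zpow_two, D.sq]
    rcases Int.even_or_odd' n with ⟨m, rfl | rfl⟩
    · left; rw [zpow_mul, h2, one_zpow]
    · right; rw [zpow_add, zpow_mul, h2, one_zpow, one_mul, zpow_one]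
  · rintro (rfl | rfl)
    · exact one_mem _
    · exact Subgroup.mem_zpowers _

/-- The subgroup of the lifts. -/
def K0 (y : Fin 9 → C) : Subgroup C := Subgroup.closure (Set.range y)

theorem y_mem (i : Fin 9) : y i ∈ K0 y := Subgroup.subset_closure ⟨i, rfl⟩

theorem Data.t_mem (D : Data t y) : t ∈ K0 y := by
  rw [← D.pair 0 1 (by decide)]
  exact mul_mem (mul_mem (y_mem 0) (y_mem 1)) (mul_mem (y_mem 0) (y_mem 1))

theorem center_A11 {a : A11} (h : ∀ b, a * b = b * a) : a = 1 := by
  haveI : IsSimpleGroup A11 := alternatingGroup.isSimpleGroup (by simp)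
  rcases Subgroup.Normal.eq_bot_or_eq_top (inferInstance : (Subgroup.center A11).Normal) with e | e
  · have ha : a ∈ Subgroup.center A11 := Subgroup.mem_center_iff.mpr fun b => (h b).symm
    rwa [e, Subgroup.mem_bot] at ha
  · exfalso
    have hm : ∀ i : Fin 9, ShortPresCarmichael.cyc (0 : Fin 11) 1 (emb i) ∈ alternatingGroup (Fin 11) :=
      fun i => by
        rw [← range_toPerm]
        exact ⟨PresentedGroup.of i, by rw [toPerm, PresentedGroup.toGroup.of]⟩
    have h1 : (⟨_, hm 0⟩ : A11) ∈ Subgroup.center A11 := e ▸ Subgroup.mem_top _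
    have h2 := congrArg Subtype.val (Subgroup.mem_center_iff.mp h1 ⟨_, hm 1⟩)
    revert h2
    simp only [Subgroup.coe_mul]
    decide +kernel

theorem Data.exists_pi (D : Data t y) :
    ∃ π : K0 y →* A11, Function.Surjective π ∧ ∀ k : K0 y, π k = 1 ↔ (k : C) = 1 ∨ (k : C) = t := by
  set T := Subgroup.zpowers t with hT
  haveI : T.Normal := ⟨fun n hn g => by
    have hc : Commute g n := by
      rcases D.mem_zpowers.mp hn with rfl | rfl
      · exact Commute.one_right g
      · exact D.central g
    rw [hc.eq, mul_inv_cancel_right]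
    exact hn⟩
  set q := QuotientGroup.mk' T with hq
  have hqt : q t = 1 := (QuotientGroup.eq_one_iff t).mpr (Subgroup.mem_zpowers t)
  have hrel : ∀ r ∈ crels, FreeGroup.lift (fun i => q (y i)) r = 1 := by
    rintro r (⟨i, rfl⟩ | ⟨i, j, hij, rfl⟩)
    · simp only [map_mul, FreeGroup.lift_apply_of]
      rw [← map_mul, ← map_mul, D.cube, map_one]
    · simp only [map_mul, FreeGroup.lift_apply_of]
      rw [← map_mul, ← map_mul, D.pair i j hij, hqt]
  let lift : PresentedGroup crels →* C ⧸ T := PresentedGroup.toGroup hrel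
  let f : A11 →* C ⧸ T := lift.comp altEquiv.symm.toMonoidHom
  haveI : IsSimpleGroup A11 := alternatingGroup.isSimpleGroup (by simp)
  have hinj : Function.Injective f := by
    rcases Subgroup.Normal.eq_bot_or_eq_top (MonoidHom.normal_ker f) with e | e
    · exact (MonoidHom.ker_eq_bot_iff _).1 e
    · exfalso
      have hy : ∀ i, y i = 1 := fun i => by
        have h1 : f (altEquiv (PresentedGroup.of i)) = 1 := by
          rw [← MonoidHom.mem_ker, e]; exact Subgroup.mem_top _
        have h2 : q (y i) = 1 := by simpa [f, lift] using h1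
        rcases D.mem_zpowers.mp ((QuotientGroup.eq_one_iff _).mp h2) with h | h
        · exact h
        · have h3 := D.cube i
          rw [h, D.sq, one_mul] at h3
          exact absurd h3 D.ne_one
      have h := D.pair 0 1 (by decide)
      rw [hy, hy, one_mul, one_mul] at h
      exact D.ne_one h.symm
  have hrange : f.range = (K0 y).map q := by
    have h1 : f.range = lift.range := by
      show (lift.comp altEquiv.symm.toMonoidHom).range = _
      rw [MonoidHom.range_comp, MonoidHom.range_eq_top.mpr altEquiv.symm.surjective, ← MonoidHom.range_eq_map]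
    rw [h1, MonoidHom.range_eq_map, ← PresentedGroup.closure_range_of crels, MonoidHom.map_closure, K0,
      MonoidHom.map_closure, ← Set.range_comp, ← Set.range_comp]
    refine congrArg Subgroup.closure (congrArg Set.range (funext fun i => ?_))
    simp [lift]
  let fE : A11 ≃* (K0 y).map q := (MonoidHom.ofInjective hinj).trans (MulEquiv.subgroupCongr hrange)
  let qK : K0 y →* (K0 y).map q := q.subgroupMap (K0 y)
  refine ⟨fE.symm.toMonoidHom.comp qK, fE.symm.surjective.comp (q.subgroupMap_surjective (K0 y)), fun k => ?_⟩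
  rw [MonoidHom.comp_apply, MulEquiv.coe_toMonoidHom, ← map_one fE.symm, fE.symm.injective.eq_iff,
    ← D.mem_zpowers, ← QuotientGroup.eq_one_iff (N := T)]
  exact Subtype.ext_iff

theorem Data.card_K0 (D : Data t y) {π : K0 y →* A11} (hs : Function.Surjective π)
    (hk : ∀ k : K0 y, π k = 1 ↔ (k : C) = 1 ∨ (k : C) = t) :
    Nat.card (K0 y) = 39916800 := by
  have hker : π.ker = (Subgroup.zpowers t).subgroupOf (K0 y) := by
    ext k
    rw [MonoidHom.mem_ker, Subgroup.mem_subgroupOf, hk, D.mem_zpowers]
  have hc : Nat.card π.ker = 2 := by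
    rw [hker, Nat.card_congr (Subgroup.subgroupOfEquivOfLe
      (Subgroup.zpowers_le.mpr D.t_mem)).toEquiv, Nat.card_zpowers, D.ord]
  rw [← Subgroup.card_mul_index π.ker, hc, Subgroup.index_ker, MonoidHom.range_eq_top.mpr hs,
    Subgroup.card_top, card_A11]

theorem index_cases {m : ℕ} (hle : 39916800 * m ≤ 552974400) (hdvd : 39916800 * m ∣ 51765179004000000) :
    m = 1 ∨ m = 3 ∨ m = 5 ∨ m = 9 := by
  have h : m ≤ 13 := by omega
  interval_cases m <;> revert hdvd <;> norm_num

theorem Data.normal [Finite C] (D : Data t y) {π : K0 y →* A11} (hs : Function.Surjective π)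
    (hk : ∀ k : K0 y, π k = 1 ↔ (k : C) = 1 ∨ (k : C) = t) (hm : (K0 y).index ≤ 9) : (K0 y).Normal := by
  let σ : K0 y →* Equiv.Perm (C ⧸ K0 y) := (MulAction.toPermHom C (C ⧸ K0 y)).comp (K0 y).subtype
  haveI : IsSimpleGroup A11 := alternatingGroup.isSimpleGroup (by simp)
  have hn : (σ.ker.map π).Normal := (MonoidHom.normal_ker σ).map π hs
  have ht : (⟨t, D.t_mem⟩ : K0 y) ∈ σ.ker := by
    rw [MonoidHom.mem_ker]
    refine Equiv.ext fun x => ?_
    induction x using QuotientGroup.induction_on with
    | H g =>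
      show t • (g : C ⧸ K0 y) = g
      rw [MulAction.Quotient.smul_coe, smul_eq_mul, QuotientGroup.eq, ← D.central g, mul_inv_rev, mul_assoc,
        inv_mul_cancel, mul_one]
      exact inv_mem D.t_mem
  rcases Subgroup.Normal.eq_bot_or_eq_top hn with e | e
  · exfalso
    have hle : σ.ker ≤ π.ker := Subgroup.map_eq_bot_iff _ |>.mp e
    have hd2 : Nat.card σ.ker ∣ 2 := by
      have h : π.ker = (Subgroup.zpowers t).subgroupOf (K0 y) := by
        ext k
        rw [MonoidHom.mem_ker, Subgroup.mem_subgroupOf, hk, D.mem_zpowers]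
      have h2 : Nat.card π.ker = 2 := by
        rw [h, Nat.card_congr (Subgroup.subgroupOfEquivOfLe
          (Subgroup.zpowers_le.mpr D.t_mem)).toEquiv, Nat.card_zpowers, D.ord]
      exact h2 ▸ Subgroup.card_dvd_of_le hle
    have hd9 : σ.ker.index ∣ Nat.factorial 9 := by
      rw [Subgroup.index_ker]
      refine (Subgroup.card_subgroup_dvd_card _).trans ?_
      rw [Nat.card_perm, ← Subgroup.index_eq_card]
      exact Nat.factorial_dvd_factorial hm
    have h := Nat.mul_dvd_mul hd2 hd9
    rw [Subgroup.card_mul_index, D.card_K0 hs hk] at h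
    norm_num [Nat.factorial] at h
  · refine ⟨fun n hn g => ?_⟩
    have hall : (⟨n, hn⟩ : K0 y) ∈ σ.ker := by
      obtain ⟨k, hk1, hk2⟩ := Subgroup.mem_map.mp (e ▸ Subgroup.mem_top (π ⟨n, hn⟩))
      have h1 : π (k⁻¹ * ⟨n, hn⟩) = 1 := by rw [map_mul, map_inv, hk2, inv_mul_cancel]
      rw [show (⟨n, hn⟩ : K0 y) = k * (k⁻¹ * ⟨n, hn⟩) by group]
      refine mul_mem hk1 ?_
      rcases (hk _).mp h1 with h | h
      · rw [show k⁻¹ * ⟨n, hn⟩ = (1 : K0 y) from Subtype.ext h]; exact one_mem _
      · rw [show k⁻¹ * ⟨n, hn⟩ = (⟨t, D.t_mem⟩ : K0 y) from Subtype.ext h]; exact ht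
    have h2 := DFunLike.congr_fun (MonoidHom.mem_ker.mp hall) ((g⁻¹ : C) : C ⧸ K0 y)
    have h3 : n • ((g⁻¹ : C) : C ⧸ K0 y) = ((g⁻¹ : C) : C ⧸ K0 y) := h2
    rw [MulAction.Quotient.smul_coe, smul_eq_mul, QuotientGroup.eq, mul_inv_rev, inv_inv] at h3
    simpa [mul_assoc] using inv_mem h3

/-- Every element is a product of an element of the subgroup and one that commutes with it. -/
theorem Data.split [Finite C] (D : Data t y) {π : K0 y →* A11} (hs : Function.Surjective π)
    (hk : ∀ k : K0 y, π k = 1 ↔ (k : C) = 1 ∨ (k : C) = t) [(K0 y).Normal] (hodd : Odd (K0 y).index)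
    (c : C) : ∃ k ∈ K0 y, ∀ x ∈ K0 y, k⁻¹ * c * x = x * (k⁻¹ * c) := by
  let ψ : MulAut (K0 y) := MulAut.conjNormal c
  have hker : ∀ a, π a = 1 → π (ψ a) = 1 := fun a ha => by
    rw [hk, MulAut.conjNormal_apply]
    rcases (hk a).mp ha with h | h
    · left; rw [h]; group
    · right; rw [h, D.central c, mul_inv_cancel_right]
  have hwd : ∀ a b, π a = π b → π (ψ a) = π (ψ b) := fun a b h => by
    have := hker (a⁻¹ * b) (by rw [map_mul, map_inv, h, inv_mul_cancel])
    rwa [map_mul, map_mul, map_inv, map_inv, inv_mul_eq_one] at this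
  let s : A11 → K0 y := Function.surjInv hs
  have hπs : ∀ x, π (s x) = x := Function.surjInv_eq hs
  let α : A11 →* A11 := MonoidHom.mk' (fun x => π (ψ (s x))) fun a b => by
    rw [← map_mul, ← map_mul]
    exact hwd _ _ (by rw [map_mul, hπs, hπs, hπs])
  have hα : ∀ k, α (π k) = π (ψ k) := fun k => hwd _ _ (hπs _)
  have hαs : Function.Surjective α := fun x => by
    obtain ⟨k, rfl⟩ := hs x
    exact ⟨π (ψ.symm k), by rw [hα, MulEquiv.apply_symm_apply]⟩
  let αE : MulAut A11 := MulEquiv.ofBijective α ⟨Finite.injective_iff_surjective.mpr hαs, hαs⟩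
  obtain ⟨σ, hσ⟩ := (S2119.result 11 (by norm_num) (by norm_num)).2 αE
  have hconj : ∀ k : K0 y, σ * (π k : Equiv.Perm (Fin 11)) * σ⁻¹ = (π (ψ k) : Equiv.Perm (Fin 11)) := fun k => by
    rw [← hα k, ← MulAut.conjNormal_apply σ (π k), hσ]
    rfl
  have hpow : ∀ (n : ℕ) (k : K0 y), σ ^ n * (π k : Equiv.Perm (Fin 11)) * (σ ^ n)⁻¹ =
      (π (MulAut.conjNormal (c ^ n) k) : Equiv.Perm (Fin 11)) := by
    intro n
    induction n with
    | zero => intro k; simp
    | succ n ih =>
      intro k
      rw [pow_succ σ, pow_succ c, map_mul, MulAut.mul_apply, ← ih (MulAut.conjNormal c k), ← hconj k]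
      group
  have heven : Equiv.Perm.sign σ = 1 := by
    have hmem := Subgroup.pow_index_mem (K0 y) c
    have he : σ ^ (K0 y).index = (π ⟨_, hmem⟩ : Equiv.Perm (Fin 11)) := by
      refine (S2119.result 11 (by norm_num) (by norm_num)).1 (MulEquiv.ext fun x => Subtype.ext ?_)
      obtain ⟨k, rfl⟩ := hs x
      rw [MulAut.conjNormal_apply, MulAut.conjNormal_apply, hpow, ← Subgroup.coe_inv, ← map_inv,
        ← Subgroup.coe_mul, ← map_mul, ← Subgroup.coe_mul, ← map_mul]
      exact congrArg (fun z => ((π z : A11) : Equiv.Perm (Fin 11))) (Subtype.ext (by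
        rw [MulAut.conjNormal_apply, Subgroup.coe_mul, Subgroup.coe_mul, Subgroup.coe_inv]))
    have h1 : Equiv.Perm.sign σ ^ (K0 y).index = 1 := by
      rw [← map_pow, he]
      exact Equiv.Perm.mem_alternatingGroup.mp (π ⟨_, hmem⟩).2
    rcases Int.units_eq_one_or (Equiv.Perm.sign σ) with h | h
    · exact h
    · rw [h, hodd.neg_one_pow] at h1
      exact absurd h1 (by decide)
  obtain ⟨k1, hk1⟩ := hs ⟨σ, Equiv.Perm.mem_alternatingGroup.mpr heven⟩
  refine ⟨k1, k1.2, ?_⟩
  set d := (k1 : C)⁻¹ * c with hd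
  have hy : ∀ i, d * y i = y i * d := by
    intro i
    set k : K0 y := ⟨y i, y_mem i⟩
    let w : K0 y := k⁻¹ * (k1⁻¹ * ψ k * k1)
    have h : π w = 1 := by
      apply Subtype.ext
      simp only [w, map_mul, map_inv, Subgroup.coe_mul, Subgroup.coe_inv, hk1, ← hconj k, OneMemClass.coe_one]
      group
    have hw : (w : C) = (y i)⁻¹ * (d * y i * d⁻¹) := by
      simp only [w, k, ψ, hd, Subgroup.coe_mul, Subgroup.coe_inv, MulAut.conjNormal_apply]
      group
    rcases (hk w).mp h with e | e <;> rw [hw, inv_mul_eq_iff_eq_mul] at e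
    · rw [mul_one, mul_inv_eq_iff_eq_mul] at e
      exact e
    · exfalso
      have h3 : (d * y i * d⁻¹) * (d * y i * d⁻¹) * (d * y i * d⁻¹) = 1 := by
        calc _ = d * (y i * y i * y i) * d⁻¹ := by group
          _ = 1 := by rw [D.cube, mul_one, mul_inv_cancel]
      rw [e] at h3
      apply D.ne_one
      calc t = y i * y i * y i * (t * t * t) := by rw [D.cube, D.sq, one_mul, one_mul]
        _ = _ := by
          simp only [mul_assoc]
          rw [← mul_assoc t (y i), ← D.central (y i)]
          simp only [mul_assoc]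
          rw [← mul_assoc t (y i), ← D.central (y i)]
          simp only [mul_assoc]
          rw [← mul_assoc t (y i), ← D.central (y i)]
          simp only [mul_assoc]
        _ = 1 := h3
  intro x hx
  rw [K0] at hx
  induction hx using Subgroup.closure_induction with
  | mem x hx => obtain ⟨i, rfl⟩ := hx; exact hy i
  | one => simp
  | mul a b _ _ ha hb => rw [← mul_assoc, ha, mul_assoc, hb, ← mul_assoc]
  | inv a _ ha => exact (Commute.inv_right (show Commute d a from ha)).eq

theorem Data.cover [Finite C] (D : Data t y) {π : K0 y →* A11} (hs : Function.Surjective π)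
    (hk : ∀ k : K0 y, π k = 1 ↔ (k : C) = 1 ∨ (k : C) = t) (htop : K0 y = ⊤) :
    Cfsg.IsNonsplitDoubleCover C A11 := by
  let ι : C →* K0 y := (MonoidHom.id C).codRestrict (K0 y) fun c => htop ▸ Subgroup.mem_top c
  let g : C →* A11 := π.comp ι
  have hg : Function.Surjective g := fun a => by
    obtain ⟨k, rfl⟩ := hs a
    exact ⟨k, congrArg π (Subtype.ext rfl)⟩
  have hgk : ∀ c, g c = 1 ↔ c = 1 ∨ c = t := fun c => hk (ι c)
  have hcenter : Subgroup.center C = g.ker := by
    ext z
    rw [Subgroup.mem_center_iff, MonoidHom.mem_ker]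
    constructor
    · intro hz
      refine center_A11 fun b => ?_
      obtain ⟨c, rfl⟩ := hg b
      rw [← map_mul, ← map_mul, hz c]
    · intro hz
      rcases (hgk z).mp hz with rfl | rfl
      · intro c; simp
      · exact D.central
  have hker : g.ker = Subgroup.zpowers t := by
    ext z
    rw [MonoidHom.mem_ker, hgk, D.mem_zpowers]
  refine ⟨?_, ⟨(QuotientGroup.quotientMulEquivOfEq hcenter).trans
    (QuotientGroup.quotientKerEquivOfSurjective g hg)⟩, fun L hL => ?_⟩
  · rw [hcenter, hker, Nat.card_zpowers, D.ord]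
  · have hidx : L.index = 2 := by
      rw [hL.index_eq_card, hcenter, hker, Nat.card_zpowers, D.ord]
    have htL : t ∈ L := by
      rw [← D.pair 0 1 (by decide)]
      exact Subgroup.mul_self_mem_of_index_two hidx _
    have htz : t ∈ Subgroup.center C := by
      rw [hcenter, hker]; exact Subgroup.mem_zpowers t
    exact D.ne_one (Subgroup.mem_bot.mp (hL.disjoint.le_bot ⟨htz, htL⟩))

/-- The group is the double cover when it is small and a subgroup without small odd quotients contains its
centraliser. -/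
theorem Data.result [Finite C] (D : Data t y) (hle : Nat.card C ≤ 552974400)
    (hdvd : Nat.card C ∣ 51765179004000000) (P : Subgroup C)
    (hP : ∀ (A : Type) [Group A] [Finite A], (Nat.card A = 3 ∨ Nat.card A = 5 ∨ Nat.card A = 9) →
      ∀ f : P →* A, ∀ x, f x = 1)
    (hd : ∀ d : C, (∀ x ∈ P, d * x = x * d) → d ∈ P) : Cfsg.IsNonsplitDoubleCover C A11 := by
  obtain ⟨π, hs, hk⟩ := D.exists_pi
  have hc := D.card_K0 hs hk
  rw [← Subgroup.card_mul_index (K0 y), hc] at hle hdvd
  have hm := index_cases hle hdvd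
  have hle9 : (K0 y).index ≤ 9 := by rcases hm with h | h | h | h <;> omega
  refine D.cover hs hk ?_
  haveI := D.normal hs hk hle9
  by_cases h1 : (K0 y).index = 1
  · exact Subgroup.index_eq_one.mp h1
  have hodd : Odd (K0 y).index := by
    rcases hm with h | h | h | h <;> rw [h] <;> decide
  have hPK : P ≤ K0 y := by
    intro x hx
    have e := hP (C ⧸ K0 y) (by rw [← Subgroup.index_eq_card]; omega)
      ((QuotientGroup.mk' (K0 y)).comp P.subtype) ⟨x, hx⟩
    exact (QuotientGroup.eq_one_iff x).mp e
  rw [Subgroup.eq_top_iff']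
  intro c
  obtain ⟨k, hk', hcomm⟩ := D.split hs hk hodd c
  have := hPK (hd _ fun x hx => hcomm x (hPK hx))
  simpa using mul_mem hk' this

end Cfsg.Agent.LyCentAbstract46
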