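import Cfsg.Prelude.Def_Sporadic
import Cfsg.Prelude.Def_SporadicB
import Cfsg.Prelude.Def_Exceptional

/-!
The action of a group on the cosets of a subgroup as a group of permutations of `Fin n`, with what transfers along
the isomorphism.
-/

set_option autoImplicit false
set_option maxRecDepth 100000

namespace Cfsg.Agent.LyCentAction46

open Subgroup Equiv

/-- An isomorphism carries a non-split double cover to one. -/
theorem cover_congr {G H K : Type*} [Group G] [Group H] [Group K] (e : G ≃* H)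
    (h : Cfsg.IsNonsplitDoubleCover G K) : Cfsg.IsNonsplitDoubleCover H K := by
  obtain ⟨hc, ⟨q⟩, hnc⟩ := h
  have hmap : (Subgroup.center G).map e.toMonoidHom = Subgroup.center H := by
    ext x
    rw [Subgroup.mem_map_equiv, Subgroup.mem_center_iff, Subgroup.mem_center_iff]
    constructor
    · intro h g
      have := congrArg e (h (e.symm g))
      simpa using this
    · intro h g
      apply e.injective
      simpa using h (e g)
  refine ⟨?_, ⟨(QuotientGroup.congr _ _ e hmap).symm.trans q⟩, fun M hM => ?_⟩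
  · rw [← hmap, ← hc]
    exact (Nat.card_congr (e.subgroupMap _).toEquiv).symm
  · refine hnc (M.comap e.toMonoidHom) ?_
    constructor
    · intro a b h
      have h' := congrArg e h
      simp only [map_mul] at h'
      have key := hM.1 (a₁ := (⟨e a.1, hmap ▸ Subgroup.mem_map_of_mem e.toMonoidHom a.1.2⟩, ⟨e a.2, a.2.2⟩))
        (a₂ := (⟨e b.1, hmap ▸ Subgroup.mem_map_of_mem e.toMonoidHom b.1.2⟩, ⟨e b.2, b.2.2⟩)) h'
      have k1 := congrArg (fun p => (p.1 : H)) key
      have k2 := congrArg (fun p => (p.2 : H)) key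
      exact Prod.ext (Subtype.ext (e.injective k1)) (Subtype.ext (e.injective k2))
    · intro g
      obtain ⟨⟨⟨z, hz⟩, ⟨m, hm⟩⟩, hg⟩ := hM.2 (e g)
      have hz' : e.symm z ∈ Subgroup.center G := by
        rw [← hmap, SetLike.mem_coe, Subgroup.mem_map_equiv] at hz; exact hz
      refine ⟨(⟨e.symm z, hz'⟩, ⟨e.symm m, by simpa using hm⟩), ?_⟩
      apply e.injective
      simpa using hg

theorem exists_action {G0 : Type} [Group G0] (K : Subgroup G0) (h : Cfsg.IsLy G0)
    (hidx : Nat.card (G0 ⧸ K) = 8835156) (hK : Cfsg.IsG2 K) (t0 : G0) (ht0 : orderOf t0 = 2)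
    (hcov : Cfsg.IsNonsplitDoubleCover (Subgroup.centralizer ({t0} : Set G0)) (alternatingGroup (Fin 11))) :
    ∃ H : Subgroup (Equiv.Perm (Fin 8835156)), Cfsg.IsLy H ∧ MulAction.IsPretransitive H (Fin 8835156) ∧
      Cfsg.IsG2 (MulAction.stabilizer H (0 : Fin 8835156)) ∧
      ∃ t : H, orderOf t = 2 ∧
        Cfsg.IsNonsplitDoubleCover (Subgroup.centralizer ({t} : Set H)) (alternatingGroup (Fin 11)) := by
  haveI : IsSimpleGroup G0 := h.1
  haveI : Finite G0 := Nat.finite_of_card_ne_zero (by rw [h.2]; norm_num)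
  haveI : Nontrivial G0 := IsSimpleGroup.toNontrivial
  haveI : Finite (G0 ⧸ K) := Nat.finite_of_card_ne_zero (by rw [hidx]; norm_num)
  let e0 : G0 ⧸ K ≃ Fin 8835156 := (Finite.equivFin _).trans (finCongr hidx)
  let e : G0 ⧸ K ≃ Fin 8835156 := e0.trans (Equiv.swap (e0 ((1 : G0) : G0 ⧸ K)) 0)
  have he : e ((1 : G0) : G0 ⧸ K) = 0 := by simp [e]
  let φ : G0 →* Equiv.Perm (Fin 8835156) :=
    e.permCongrHom.toMonoidHom.comp (MulAction.toPermHom G0 (G0 ⧸ K))
  have happ : ∀ (g : G0) (x : G0 ⧸ K), φ g (e x) = e (g • x) := fun g x => by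
    simp [φ, Equiv.permCongr_apply, MulAction.toPerm_apply]
  have hinj : Function.Injective φ := by
    rcases Subgroup.Normal.eq_bot_or_eq_top (MonoidHom.normal_ker φ) with e1 | e1
    · exact (MonoidHom.ker_eq_bot_iff _).1 e1
    · exfalso
      have hall : ∀ g : G0, g ∈ K := fun g => by
        have h1 : φ g = 1 := by rw [← MonoidHom.mem_ker, e1]; exact Subgroup.mem_top _
        have h2 := happ g ((1 : G0) : G0 ⧸ K)
        rw [h1, Equiv.Perm.one_apply, e.apply_eq_iff_eq, MulAction.Quotient.smul_coe, smul_eq_mul, mul_one,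
          QuotientGroup.eq, inv_one, one_mul] at h2
        exact h2
      have hone : K.index = 1 := Subgroup.index_eq_one.mpr ((Subgroup.eq_top_iff' K).2 hall)
      rw [Subgroup.index_eq_card, hidx] at hone
      omega
  let ψ : G0 ≃* φ.range := MonoidHom.ofInjective hinj
  refine ⟨φ.range, ⟨?_, ?_⟩, ⟨fun a b => ?_⟩, ?_, ψ t0, ?_, ?_⟩
  · haveI : Nontrivial φ.range := ψ.symm.toEquiv.nontrivial
    exact IsSimpleGroup.isSimpleGroup_of_surjective ψ.toMonoidHom ψ.surjective
  · rw [← Nat.card_congr ψ.toEquiv, h.2]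
  · obtain ⟨g, hg⟩ := MulAction.exists_smul_eq G0 (e.symm a) (e.symm b)
    refine ⟨ψ g, ?_⟩
    show φ g a = b
    rw [← e.apply_symm_apply a, happ, hg, e.apply_symm_apply]
  · have hst : (MulAction.stabilizer φ.range (0 : Fin 8835156)).comap ψ.toMonoidHom = K := by
      ext g
      rw [Subgroup.mem_comap, MulAction.mem_stabilizer_iff]
      show φ g 0 = 0 ↔ g ∈ K
      rw [← he, happ, e.apply_eq_iff_eq, MulAction.Quotient.smul_coe, smul_eq_mul, mul_one,
        QuotientGroup.eq, mul_one, inv_mem_iff]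
    have hmap : K.map ψ.toMonoidHom = MulAction.stabilizer φ.range (0 : Fin 8835156) := by
      rw [← hst]
      exact Subgroup.map_comap_eq_self_of_surjective (f := ψ.toMonoidHom) ψ.surjective _
    let χ : K ≃* MulAction.stabilizer φ.range (0 : Fin 8835156) :=
      (ψ.subgroupMap K).trans (MulEquiv.subgroupCongr hmap)
    obtain ⟨hs, q, hq, hq3, hcard⟩ := hK
    haveI := hs
    haveI : Nontrivial (MulAction.stabilizer φ.range (0 : Fin 8835156)) := χ.symm.toEquiv.nontrivial
    exact ⟨IsSimpleGroup.isSimpleGroup_of_surjective χ.toMonoidHom χ.surjective, q, hq, hq3,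
      (Nat.card_congr χ.toEquiv).symm.trans hcard⟩
  · rw [ψ.orderOf_eq, ht0]
  · have hmap : (Subgroup.centralizer ({t0} : Set G0)).map ψ.toMonoidHom = Subgroup.centralizer {ψ t0} := by
      ext x
      rw [Subgroup.mem_map_equiv, Subgroup.mem_centralizer_singleton_iff, Subgroup.mem_centralizer_singleton_iff,
        ← ψ.injective.eq_iff, map_mul, map_mul, MulEquiv.apply_symm_apply]
    exact cover_congr ((ψ.subgroupMap _).trans (MulEquiv.subgroupCongr hmap)) hcov

end Cfsg.Agent.LyCentAction46
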