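import Cfsg.Agent.Lib.LyOrbitIndex41
import Cfsg.Agent.S4279

/-!
The centraliser of an involution of G2(5) in the presented Lyons group: the fixed points on the cosets are few,
its part in G2(5) has no small odd quotient and contains its own centraliser.
-/

set_option autoImplicit false
set_option maxRecDepth 100000
set_option maxHeartbeats 1000000

namespace Cfsg.Agent.LyCentBound46

open Cfsg.Agent.LyG2Five64 Cfsg.Agent.LyOrbitCore41 Cfsg.Agent.LyOrbitCover41 Cfsg.Agent.LyOrbitClosed41
open Cfsg.Agent.LyOrbitFacts41 Cfsg.Agent.LyOrbitCount41 Cfsg.Agent.LyOrbitGen41 Cfsg.Agent.LyOrbitIndex41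

/-- In a group of order divisible by three at most two thirds of the elements are involutions. -/
theorem involutions_le {S : Type*} [Group S] [Finite S] (h3 : 3 ∣ Nat.card S) :
    3 * {x : S | orderOf x = 2}.ncard ≤ 2 * Nat.card S := by
  haveI : Fact (Nat.Prime 3) := ⟨by norm_num⟩
  obtain ⟨y, hy⟩ := exists_prime_orderOf_dvd_card' (G := S) 3 h3
  have y3 : y * y * y = 1 := by rw [← pow_three', ← hy, pow_orderOf_eq_one]
  have yi : y⁻¹ = y * y := inv_eq_of_mul_eq_one_left y3
  have yne : y⁻¹ ≠ y := fun e => by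
    have : y = 1 := by
      rw [yi] at e
      exact mul_left_cancel (e.trans (mul_one y).symm)
    rw [this, orderOf_one] at hy
    norm_num at hy
  set I := {x : S | orderOf x = 2}
  have hI : ∀ x ∈ I, x * x = 1 := fun x hx => by
    rw [← pow_two, ← (show orderOf x = 2 from hx), pow_orderOf_eq_one]
  set V := {x : S | x * y * x⁻¹ = y⁻¹}
  have hV : ∀ x, x ∈ V ↔ x * y ∈ V := fun x => by
    show x * y * x⁻¹ = y⁻¹ ↔ x * y * y * (x * y)⁻¹ = y⁻¹
    rw [mul_inv_rev, ← mul_assoc, mul_inv_cancel_right]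
  have hone : ∀ a ∈ I, ∀ b ∈ I, a * y = b → a ∈ V := by
    intro a ha b hb e
    have h1 := hI b hb
    rw [← e] at h1
    show a * y * a⁻¹ = y⁻¹
    rw [inv_eq_of_mul_eq_one_left (hI a ha)]
    exact eq_inv_of_mul_eq_one_left (by rw [mul_assoc]; exact h1)
  have key : 3 * (I \ V).ncard ≤ (Set.univ \ V).ncard := by
    let f : S → S := fun x => x * y
    have hf : Function.Injective f := mul_left_injective y
    have hsub : (I \ V) ∪ f '' (I \ V) ∪ f '' (f '' (I \ V)) ⊆ Set.univ \ V := by
      rintro x ((hx | ⟨a, ha, rfl⟩) | ⟨_, ⟨a, ha, rfl⟩, rfl⟩)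
      · exact ⟨trivial, hx.2⟩
      · exact ⟨trivial, fun h => ha.2 ((hV a).mpr h)⟩
      · exact ⟨trivial, fun h => ha.2 ((hV a).mpr ((hV _).mpr h))⟩
    have d1 : Disjoint (I \ V) (f '' (I \ V)) := by
      rw [Set.disjoint_left]
      rintro _ hx ⟨a, ha, rfl⟩
      exact ha.2 (hone a ha.1 _ hx.1 rfl)
    have d2 : Disjoint (f '' (I \ V)) (f '' (f '' (I \ V))) := Set.disjoint_image_of_injective hf d1
    have d3 : Disjoint (I \ V) (f '' (f '' (I \ V))) := by
      rw [Set.disjoint_left]
      rintro _ hx ⟨_, ⟨a, ha, rfl⟩, rfl⟩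
      refine hx.2 (hone _ hx.1 a ha.1 ?_)
      show a * y * y * y = a
      rw [mul_assoc a, mul_assoc a, y3, mul_one]
    have hcard := Set.ncard_le_ncard hsub
    rw [Set.ncard_union_eq (Set.disjoint_union_left.mpr ⟨d3, d2⟩), Set.ncard_union_eq d1] at hcard
    simp only [Set.ncard_image_of_injective _ hf] at hcard
    omega
  have hV2 : 2 * V.ncard ≤ Nat.card S := by
    by_cases h : V = ∅
    · rw [h, Set.ncard_empty]; omega
    obtain ⟨v, hv⟩ := Set.nonempty_iff_ne_empty.mpr h
    have hne : Subgroup.centralizer ({y} : Set S) ≠ ⊤ := fun e => by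
      have h1 : v ∈ Subgroup.centralizer ({y} : Set S) := e ▸ Subgroup.mem_top v
      rw [Subgroup.mem_centralizer_singleton_iff] at h1
      have h2 : v * y * v⁻¹ = y⁻¹ := hv
      rw [h1, mul_inv_cancel_right] at h2
      exact yne h2.symm
    have hidx : 2 ≤ (Subgroup.centralizer ({y} : Set S)).index :=
      Nat.lt_of_le_of_ne (Nat.one_le_iff_ne_zero.mpr Subgroup.index_ne_zero_of_finite)
        (fun e => hne (Subgroup.index_eq_one.mp e.symm))
    have hle : V.ncard ≤ (Subgroup.centralizer ({y} : Set S) : Set S).ncard := by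
      refine Set.ncard_le_ncard_of_injOn (fun x => v⁻¹ * x) (fun x hx => ?_)
        ((mul_right_injective _).injOn)
      have h2 : v * y * v⁻¹ = y⁻¹ := hv
      have h3 : x * y * x⁻¹ = y⁻¹ := hx
      show v⁻¹ * x ∈ Subgroup.centralizer ({y} : Set S)
      rw [Subgroup.mem_centralizer_singleton_iff]
      calc v⁻¹ * x * y = v⁻¹ * (x * y * x⁻¹) * x := by group
        _ = v⁻¹ * (v * y * v⁻¹) * x := by rw [h3, h2]
        _ = y * (v⁻¹ * x) := by group
    calc 2 * V.ncard ≤ 2 * Nat.card (Subgroup.centralizer ({y} : Set S)) := by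
          rw [← Nat.card_coe_set_eq (Subgroup.centralizer ({y} : Set S) : Set S)] at hle
          exact Nat.mul_le_mul_left 2 hle
      _ ≤ (Subgroup.centralizer ({y} : Set S)).index * Nat.card (Subgroup.centralizer ({y} : Set S)) :=
          Nat.mul_le_mul_right _ hidx
      _ = Nat.card S := Subgroup.index_mul_card _
  have h1 : I.ncard ≤ (I \ V).ncard + V.ncard := Set.ncard_le_ncard_sdiff_add_ncard I V
  have h2 : (Set.univ \ V).ncard + V.ncard = Nat.card S := by
    rw [Set.ncard_sdiff_add_ncard_of_subset (Set.subset_univ V), Set.ncard_univ]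
  omega

theorem orb_card {j n : ℕ} (he : e j = n) (hn : n ≠ 0) : (orb j).ncard = n := by
  unfold e at he
  split at he
  · exact absurd he.symm hn
  · exact he

theorem card_X {j n m : ℕ} (he : e j = n) (hn : n ≠ 0) (hm : n * m = 5859000000) :
    Nat.card (X (reps j)) = m := by
  have h := orb_mul j
  rw [orb_card he hn, card_H, ← hm] at h
  exact Nat.eq_of_mul_eq_mul_left (Nat.pos_of_ne_zero hn) h

theorem card_X_all : ∀ j, 0 < j → j < 5 → Nat.card (X (reps j)) = [0, 300000, 1008, 2880, 6048].getD j 0 := by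
  intro j h1 h2
  interval_cases j
  · exact card_X e_one (by norm_num) (by norm_num)
  · exact card_X sizes.1 (by norm_num) (by norm_num)
  · exact card_X sizes.2.1 (by norm_num) (by norm_num)
  · exact card_X sizes.2.2 (by norm_num) (by norm_num)

variable (tH : HLy) (ht : orderOf tH = 2)

include ht in
/-- The centraliser in G2(5) of an involution, and the absence of small odd quotients. -/
theorem cent_facts : Nat.card (Subgroup.centralizer ({tH} : Set HLy)) = 14400 ∧
    ∀ (A : Type) [Group A] [Finite A], (Nat.card A = 3 ∨ Nat.card A = 5 ∨ Nat.card A = 9) →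
      ∀ f : Subgroup.centralizer ({tH} : Set HLy) →* A, ∀ x, f x = 1 := by
  obtain ⟨φ⟩ := iso
  have hmap : (Subgroup.centralizer ({tH} : Set HLy)).map φ.toMonoidHom = Subgroup.centralizer {φ tH} := by
    ext x
    rw [Subgroup.mem_map_equiv, Subgroup.mem_centralizer_singleton_iff, Subgroup.mem_centralizer_singleton_iff,
      ← φ.injective.eq_iff, map_mul, map_mul, MulEquiv.apply_symm_apply]
  let eC : Subgroup.centralizer ({tH} : Set HLy) ≃* Subgroup.centralizer ({φ tH} : Set (Cfsg.Lie.chevG2.group K5)) :=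
    (φ.subgroupMap _).trans (MulEquiv.subgroupCongr hmap)
  obtain ⟨hc, L1, L2, ⟨i1⟩, ⟨i2⟩, -, -, hle, hidx⟩ :=
    S4279.result (F := K5) (by rw [ZMod.card]; decide) (φ tH) (by rw [φ.orderOf_eq, ht])
  refine ⟨by rw [Nat.card_congr eC.toEquiv, hc, ZMod.card]; norm_num, fun A _ _ hA f x => ?_⟩
  set g := f.comp eC.symm.toMonoidHom with hg
  have hodd : ¬ 2 ∣ Nat.card A := by omega
  have hsl : ∀ h : Matrix.SpecialLinearGroup (Fin 2) K5 →* A, ∀ z, h z = 1 := by
    intro h z
    have hd1 : Nat.card h.range ∣ Nat.card (Matrix.SpecialLinearGroup (Fin 2) K5) := Subgroup.card_range_dvd h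
    have hd2 : Nat.card h.range ∣ Nat.card A := Subgroup.card_subgroup_dvd_card _
    have h120 : Nat.card (Matrix.SpecialLinearGroup (Fin 2) K5) = 120 := by
      rw [Nat.card_eq_fintype_card]; decide +kernel
    rw [h120] at hd1
    haveI : IsMulCommutative h.range := by
      have hp : Nat.card h.range = 1 ∨ (Nat.card h.range).Prime := by
        have hg' := Nat.dvd_gcd hd1 hd2
        revert hg'
        generalize Nat.card h.range = r
        intro hg'
        rcases hA with e | e | e <;> rw [e] at hg' <;> norm_num at hg'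
        all_goals
          rcases (Nat.dvd_prime (by norm_num)).mp hg' with e1 | e1
          · exact Or.inl e1
          · exact Or.inr (by rw [e1]; norm_num)
      rcases hp with e1 | e1
      · haveI : Subsingleton h.range := (Nat.card_eq_one_iff_unique.mp e1).1
        exact ⟨⟨fun a b => Subsingleton.elim _ _⟩⟩
      · haveI : Fact (Nat.card h.range).Prime := ⟨e1⟩
        haveI : IsCyclic h.range := isCyclic_of_prime_card (p := Nat.card h.range) rfl
        infer_instance
    have hker : commutator (Matrix.SpecialLinearGroup (Fin 2) K5) ≤ h.ker := by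
      rw [commutator_def, Subgroup.commutator_le]
      intro a _ b _
      have hab : h a * h b = h b * h a :=
        congrArg Subtype.val (mul_comm' (⟨h a, a, rfl⟩ : h.range) ⟨h b, b, rfl⟩)
      rw [MonoidHom.mem_ker, map_commutatorElement, commutatorElement_eq_one_iff_mul_comm, hab]
    rw [Matrix.SL2.commutator_eq_top (a := (2 : K5)) (by decide) (by decide), top_le_iff] at hker
    exact MonoidHom.mem_ker.mp (hker ▸ Subgroup.mem_top z)
  set J := (L1 ⊔ L2).subgroupOf (Subgroup.centralizer {φ tH})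
  have hJ : J ≤ g.ker := by
    have h1 : L1 ⊔ L2 ≤ g.ker.map (Subgroup.centralizer {φ tH}).subtype := by
      refine sup_le ?_ ?_ <;> intro z hz
      · refine Subgroup.mem_map.mpr ⟨⟨z, hle (Subgroup.mem_sup_left hz)⟩, ?_, rfl⟩
        have := hsl (g.comp ((Subgroup.inclusion (le_sup_left.trans hle)).comp i1.symm.toMonoidHom)) (i1 ⟨z, hz⟩)
        rw [MonoidHom.mem_ker, ← this]
        simp
        rfl
      · refine Subgroup.mem_map.mpr ⟨⟨z, hle (Subgroup.mem_sup_right hz)⟩, ?_, rfl⟩
        have := hsl (g.comp ((Subgroup.inclusion (le_sup_right.trans hle)).comp i2.symm.toMonoidHom)) (i2 ⟨z, hz⟩)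
        rw [MonoidHom.mem_ker, ← this]
        simp
        rfl
    intro z hz
    obtain ⟨w, hw, e⟩ := Subgroup.mem_map.mp (h1 (Subgroup.mem_subgroupOf.mp hz))
    rwa [← Subtype.ext (a1 := w) (a2 := z) e]
  have hx2 : g (eC x) * g (eC x) = 1 := by
    rw [← map_mul, ← MonoidHom.mem_ker]
    exact hJ (Subgroup.mul_self_mem_of_index_two hidx _)
  have hfx : f x * f x = 1 := by simpa [hg] using hx2
  have hdvd : orderOf (f x) ∣ 2 := orderOf_dvd_of_pow_eq_one (by rw [pow_two, hfx])
  rcases (Nat.dvd_prime Nat.prime_two).mp hdvd with e | e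
  · exact orderOf_eq_one_iff.mp e
  · exact absurd (e ▸ orderOf_dvd_natCard (f x)) hodd

include ht in
/-- The fixed points in one orbit. -/
theorem fixed_orbit (j : ℕ) (h3 : 3 ∣ Nat.card (X (reps j))) :
    {q ∈ orb j | (tH : L) • q = q}.ncard ≤ 9600 := by
  classical
  haveI := finite_H
  haveI := finite_quot
  set S := MulAction.stabilizer HLy (pt j) with hS
  have hSc : Nat.card S = Nat.card (X (reps j)) := by rw [hS, stab_eq, card_stab]
  set F := {q ∈ orb j | (tH : L) • q = q}
  set I := {x : S | orderOf x = 2}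
  let conj : HLy → HLy := fun h => h⁻¹ * tH * h
  let Cg := Subgroup.centralizer ({tH} : Set HLy)
  have hrep : ∀ q : F, ∃ h : HLy, h • pt j = q.1 := fun q => q.2.1
  choose r hr using hrep
  have hmem : ∀ (q : F) (s : S), conj (r q * s) ∈ S := fun q s => by
    show conj (r q * (s : HLy)) ∈ MulAction.stabilizer HLy (pt j)
    rw [MulAction.mem_stabilizer_iff]
    have hs : (s : HLy) • pt j = pt j := s.2
    show ((r q * (s : HLy))⁻¹ * tH * (r q * s)) • pt j = pt j
    rw [mul_smul, mul_smul, inv_smul_eq_iff, mul_smul, hs, hr]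
    exact q.2.2
  have hord : ∀ h : HLy, orderOf (conj h) = 2 := fun h => by
    have e : conj h = MulAut.conj h⁻¹ tH := by simp [conj]
    rw [e, MulEquiv.orderOf_eq, ht]
  let g : F × S → I × Cg := fun p =>
    (⟨⟨conj (r p.1 * p.2), hmem p.1 p.2⟩, (orderOf_injective S.subtype Subtype.val_injective
        ⟨conj (r p.1 * p.2), hmem p.1 p.2⟩).symm.trans (hord _)⟩,
      ⟨(r p.1 * p.2) * (Function.invFun conj (conj (r p.1 * p.2)))⁻¹, by
        rw [Subgroup.mem_centralizer_singleton_iff]
        have h := Function.invFun_eq (f := conj) ⟨r p.1 * p.2, rfl⟩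
        set a := r p.1 * (p.2 : HLy)
        set b := Function.invFun conj (conj a)
        have h' : b⁻¹ * tH * b = a⁻¹ * tH * a := h
        calc a * b⁻¹ * tH = a * (b⁻¹ * tH * b) * b⁻¹ := by group
          _ = a * (a⁻¹ * tH * a) * b⁻¹ := by rw [h']
          _ = tH * (a * b⁻¹) := by group⟩)
  have hg : Function.Injective g := by
    intro p p' e
    have e1 : conj (r p.1 * p.2) = conj (r p'.1 * p'.2) :=
      congrArg (fun z : I × Cg => ((z.1.1 : S) : HLy)) e
    have e2 := congrArg (fun z : I × Cg => ((z.2 : Cg) : HLy)) e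
    simp only [g, e1, mul_left_inj] at e2
    have e3 : p.1 = p'.1 := by
      apply Subtype.ext
      rw [← hr p.1, ← hr p'.1]
      have h := congrArg (fun z : HLy => z • pt j) e2
      simp only [mul_smul] at h
      rwa [show (p.2 : HLy) • pt j = pt j from p.2.2, show (p'.2 : HLy) • pt j = pt j from p'.2.2] at h
    rw [e3] at e2
    exact Prod.ext e3 (Subtype.ext (mul_left_cancel e2))
  have hle := Nat.card_le_card_of_injective g hg
  rw [Nat.card_prod, Nat.card_prod, Nat.card_coe_set_eq, Nat.card_coe_set_eq,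
    (cent_facts tH ht).1] at hle
  have hI : 3 * I.ncard ≤ 2 * Nat.card S := involutions_le (hSc ▸ h3)
  have hpos : 0 < Nat.card S := Nat.card_pos
  have h4 : 3 * (F.ncard * Nat.card S) ≤ 3 * (9600 * Nat.card S) := by
    calc 3 * (F.ncard * Nat.card S) ≤ 3 * (I.ncard * 14400) := Nat.mul_le_mul_left 3 hle
      _ ≤ 3 * (9600 * Nat.card S) := by omega
  exact Nat.le_of_mul_le_mul_right (by omega) hpos

include ht in
/-- The fixed points on all cosets. -/
theorem fixed_le : {q : L ⧸ HLy | (tH : L) • q = q}.ncard ≤ 38401 := by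
  haveI := finite_quot
  set F := fun j => {q ∈ orb j | (tH : L) • q = q}
  have hsub : {q : L ⧸ HLy | (tH : L) • q = q} ⊆ F 0 ∪ F 1 ∪ F 2 ∪ F 3 ∪ F 4 := fun q hq => by
    obtain ⟨j, hj, hqj⟩ := cover q
    have : q ∈ F j := ⟨hqj, hq⟩
    interval_cases j <;> simp [this]
  have h0 : (F 0).ncard ≤ 1 := by
    refine (Set.ncard_le_ncard (t := orb 0) fun q hq => hq.1).trans ?_
    rw [orb_zero, Set.ncard_singleton]
  have h : ∀ j, 0 < j → j < 5 → (F j).ncard ≤ 9600 := fun j h1 h2 =>
    fixed_orbit tH ht j (by rw [card_X_all j h1 h2]; interval_cases j <;> norm_num)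
  have := h 1 (by norm_num) (by norm_num)
  have := h 2 (by norm_num) (by norm_num)
  have := h 3 (by norm_num) (by norm_num)
  have := h 4 (by norm_num) (by norm_num)
  have := Set.ncard_le_ncard hsub
  have := Set.ncard_union_le (F 0 ∪ F 1 ∪ F 2 ∪ F 3) (F 4)
  have := Set.ncard_union_le (F 0 ∪ F 1 ∪ F 2) (F 3)
  have := Set.ncard_union_le (F 0 ∪ F 1) (F 2)
  have := Set.ncard_union_le (F 0) (F 1)
  omega

/-- The centraliser in the Lyons group. -/
noncomputable abbrev Cent : Subgroup L := Subgroup.centralizer {(tH : L)}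

/-- Its part in G2(5). -/
noncomputable abbrev PH : Subgroup (Cent tH) := HLy.subgroupOf (Cent tH)

theorem mem_cent_H {c : HLy} : c ∈ Subgroup.centralizer ({tH} : Set HLy) ↔ (c : L) ∈ Cent tH := by
  rw [Subgroup.mem_centralizer_singleton_iff, Subgroup.mem_centralizer_singleton_iff, Subtype.ext_iff,
    Subgroup.coe_mul, Subgroup.coe_mul]

/-- The part in G2(5) is the centraliser in G2(5). -/
noncomputable def phEquiv : PH tH ≃* Subgroup.centralizer ({tH} : Set HLy) where
  toFun x := ⟨⟨x.1.1, x.2⟩, (mem_cent_H tH).mpr x.1.2⟩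
  invFun c := ⟨⟨c.1.1, (mem_cent_H tH).mp c.2⟩, c.1.2⟩
  left_inv _ := rfl
  right_inv _ := rfl
  map_mul' _ _ := rfl

include ht in
theorem cent_le : Nat.card (Cent tH) ≤ 552974400 := by
  haveI := finite_L
  haveI := finite_quot
  set q0 : L ⧸ HLy := ((1 : L) : L ⧸ HLy)
  have hst : MulAction.stabilizer (Cent tH) q0 = PH tH := by
    ext c
    rw [MulAction.mem_stabilizer_iff, Subgroup.mem_subgroupOf]
    show (c : L) • q0 = q0 ↔ _
    rw [MulAction.Quotient.smul_coe, smul_eq_mul, mul_one, QuotientGroup.eq, mul_one, inv_mem_iff]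
  rw [← Nat.card_congr (MulAction.orbitProdStabilizerEquivGroup (Cent tH) q0), Nat.card_prod, hst,
    Nat.card_congr (phEquiv tH).toEquiv, (cent_facts tH ht).1, Nat.card_coe_set_eq]
  have hsub : MulAction.orbit (Cent tH) q0 ⊆ {q : L ⧸ HLy | (tH : L) • q = q} := by
    rintro _ ⟨c, rfl⟩
    show (tH : L) • (c : L) • q0 = (c : L) • q0
    rw [← mul_smul, ← Subgroup.mem_centralizer_singleton_iff.mp c.2, mul_smul]
    congr 1
    rw [MulAction.Quotient.smul_coe, smul_eq_mul, mul_one, QuotientGroup.eq, mul_one]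
    exact inv_mem tH.2
  have h := (Set.ncard_le_ncard hsub).trans (fixed_le tH ht)
  calc _ ≤ 38401 * 14400 := Nat.mul_le_mul_right _ h
    _ = 552974400 := by norm_num

include ht in
theorem self_centralizing (d : Cent tH) (hd : ∀ x ∈ PH tH, d * x = x * d) : d ∈ PH tH := by
  haveI := finite_H
  haveI := finite_quot
  set q : L ⧸ HLy := ((d : L) : L ⧸ HLy) with hq
  have hfix : Subgroup.centralizer ({tH} : Set HLy) ≤ MulAction.stabilizer HLy q := by
    intro c hc
    rw [MulAction.mem_stabilizer_iff]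
    show (c : L) • q = q
    have h := congrArg Subtype.val (hd ⟨c, (mem_cent_H tH).mp hc⟩ c.2)
    simp only [Subgroup.coe_mul] at h
    rw [hq, MulAction.Quotient.smul_coe, smul_eq_mul, ← h, QuotientGroup.mk_mul_of_mem _ c.2]
  obtain ⟨j, hj, hqj⟩ := cover q
  rcases Nat.eq_zero_or_pos j with rfl | h0
  · rw [orb_zero, Set.mem_singleton_iff, pt_zero, hq, QuotientGroup.eq, mul_one, inv_mem_iff] at hqj
    exact Subgroup.mem_subgroupOf.mpr hqj
  · exfalso
    have hdvd := (Subgroup.card_dvd_of_le hfix)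
    have horb : MulAction.orbit HLy q = orb j := MulAction.orbit_eq_iff.mpr hqj
    have hc := Nat.card_congr (MulAction.orbitProdStabilizerEquivGroup HLy q)
    rw [Nat.card_prod, horb, Nat.card_coe_set_eq] at hc
    have hm := orb_mul j
    rw [← hc] at hm
    have hpos : 0 < (orb j).ncard :=
      (Set.ncard_pos (Set.toFinite _)).mpr ⟨pt j, MulAction.mem_orbit_self _⟩
    rw [← Nat.eq_of_mul_eq_mul_left hpos hm, card_X_all j h0 hj, (cent_facts tH ht).1] at hdvd
    interval_cases j <;> norm_num at hdvd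

include ht in
theorem no_quotient (A : Type) [Group A] [Finite A] (hA : Nat.card A = 3 ∨ Nat.card A = 5 ∨ Nat.card A = 9)
    (f : PH tH →* A) (x : PH tH) : f x = 1 := by
  have h := (cent_facts tH ht).2 A hA (f.comp (phEquiv tH).symm.toMonoidHom) (phEquiv tH x)
  simpa using h

end Cfsg.Agent.LyCentBound46
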