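import Cfsg.Agent.Lib.ShortPresCarmichael

/-!
The presentation of Carmichael of the alternating group of degree eleven by nine three-cycles.
-/

set_option autoImplicit false
set_option maxRecDepth 100000

namespace Cfsg.Agent.LyCentCarmichael46

open Equiv

/-- the embedding of indices -/
def emb (i : Fin 9) : Fin 11 := ⟨i.val + 2, by omega⟩

/-- the relations of the three-cycles -/
def crels : Set (FreeGroup (Fin 9)) :=
  (Set.range fun i => FreeGroup.of i * FreeGroup.of i * FreeGroup.of i) ∪
    {r | ∃ i j, i ≠ j ∧ r = FreeGroup.of i * FreeGroup.of j * (FreeGroup.of i * FreeGroup.of j)}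

theorem cyc_rels : ∀ r ∈ crels,
    FreeGroup.lift (fun i : Fin 9 => ShortPresCarmichael.cyc (0 : Fin 11) 1 (emb i)) r = 1 := by
  have h3 : ∀ i : Fin 9, ShortPresCarmichael.cyc (0 : Fin 11) 1 (emb i) *
      ShortPresCarmichael.cyc (0 : Fin 11) 1 (emb i) * ShortPresCarmichael.cyc (0 : Fin 11) 1 (emb i) = 1 := by
    decide +kernel
  have h2 : ∀ i j : Fin 9, i ≠ j → ShortPresCarmichael.cyc (0 : Fin 11) 1 (emb i) *
      ShortPresCarmichael.cyc (0 : Fin 11) 1 (emb j) * (ShortPresCarmichael.cyc (0 : Fin 11) 1 (emb i) *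
      ShortPresCarmichael.cyc (0 : Fin 11) 1 (emb j)) = 1 := by
    decide +kernel
  rintro r (⟨i, rfl⟩ | ⟨i, j, hij, rfl⟩)
  · simpa only [map_mul, FreeGroup.lift_apply_of] using h3 i
  · simpa only [map_mul, FreeGroup.lift_apply_of] using h2 i j hij

/-- to permutations -/
noncomputable def toPerm : PresentedGroup crels →* Perm (Fin 11) := PresentedGroup.toGroup cyc_rels

theorem toPerm_injective : Function.Injective toPerm := by
  rw [injective_iff_map_eq_one]
  intro g hg
  let y : Fin 11 → PresentedGroup crels := fun k =>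
    if h : 2 ≤ k.val then PresentedGroup.of ⟨k.val - 2, by omega⟩ else 1
  have hy : ∀ i : Fin 9, y (emb i) = PresentedGroup.of i := by
    intro i
    simp only [y, emb]
    rw [dif_pos (by omega)]
    exact congrArg _ (Fin.ext (by simp))
  set s : Finset (Fin 11) := Finset.univ.image emb with hs
  have hmem : ∀ k ∈ s, ∃ i : Fin 9, k = emb i := fun k hk => by
    obtain ⟨i, -, rfl⟩ := Finset.mem_image.1 hk; exact ⟨i, rfl⟩
  refine ShortPresCarmichael.eq_one_of_map (a := (0 : Fin 11)) (b := 1) (by decide) y toPerm s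
    (by decide) (by decide) ?_ ?_ ?_ g ?_ hg
  · intro k hk; obtain ⟨i, rfl⟩ := hmem k hk; rw [hy, toPerm, PresentedGroup.toGroup.of]
  · intro k hk; obtain ⟨i, rfl⟩ := hmem k hk; rw [hy]
    exact PresentedGroup.one_of_mem (show FreeGroup.of i * FreeGroup.of i * FreeGroup.of i ∈ crels from
      Or.inl ⟨i, rfl⟩)
  · intro k hk l hl hkl
    obtain ⟨i, rfl⟩ := hmem k hk; obtain ⟨j, rfl⟩ := hmem l hl
    rw [hy, hy]
    exact PresentedGroup.one_of_mem (show FreeGroup.of i * FreeGroup.of j *
      (FreeGroup.of i * FreeGroup.of j) ∈ crels from Or.inr ⟨i, j, fun e => hkl (e ▸ rfl), rfl⟩)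
  · have : (⊤ : Subgroup (PresentedGroup crels)) ≤ Subgroup.closure (y '' (s : Set (Fin 11))) := by
      rw [← PresentedGroup.closure_range_of crels]
      refine Subgroup.closure_mono ?_
      rintro _ ⟨i, rfl⟩
      exact ⟨emb i, Finset.mem_image.2 ⟨i, Finset.mem_univ _, rfl⟩, hy i⟩
    exact this (Subgroup.mem_top g)

theorem range_toPerm : toPerm.range = alternatingGroup (Fin 11) := by
  set s : Finset (Fin 11) := Finset.univ.image emb with hs
  apply le_antisymm
  · rintro _ ⟨g, rfl⟩
    induction g using PresentedGroup.induction_on with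
    | _ z =>
      induction z using FreeGroup.induction_on with
      | C1 => exact one_mem _
      | of i =>
        show toPerm (PresentedGroup.of i) ∈ _
        rw [toPerm, PresentedGroup.toGroup.of, Equiv.Perm.mem_alternatingGroup]
        exact ShortPresCarmichael.sign_cyc (by decide) (by unfold emb; intro e; simp [Fin.ext_iff] at e)
      | inv_of i h => rw [map_inv, map_inv]; exact inv_mem h
      | mul a b ha hb => rw [map_mul, map_mul]; exact mul_mem ha hb
  · intro p hp
    have := ShortPresCarmichael.mem_closure_cyc (a := (0 : Fin 11)) (b := 1) (by decide) s (by decide)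
      (by decide) p (Equiv.Perm.mem_alternatingGroup.1 hp) (fun x hx => absurd (by revert x; decide) hx)
    refine (Subgroup.closure_le _).2 ?_ this
    rintro _ ⟨k, hk, rfl⟩
    obtain ⟨i, -, rfl⟩ := Finset.mem_image.1 hk
    exact ⟨PresentedGroup.of i, by rw [toPerm, PresentedGroup.toGroup.of]⟩

/-- The presented group is the alternating group. -/
noncomputable def altEquiv : PresentedGroup crels ≃* alternatingGroup (Fin 11) :=
  (MonoidHom.ofInjective toPerm_injective).trans (MulEquiv.subgroupCongr range_toPerm)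

end Cfsg.Agent.LyCentCarmichael46
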