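import Cfsg.Agent.Lib.LyCentData46

/-! Kernel checks for the centraliser of an involution in the Lyons group. -/

set_option autoImplicit false
set_option maxRecDepth 100000
set_option maxHeartbeats 2000000


namespace Cfsg.Agent.LyCentComm46

open Cfsg.Agent.LyRepCore64 Cfsg.Agent.LyCentData46

theorem comm0 : sameWord G [17, 13] [13, 17] = true := by decide +kernel

theorem comm1 : sameWord G [19, 13] [13, 19] = true := by decide +kernel

theorem comm2 : sameWord G [20, 13] [13, 20] = true := by decide +kernel

theorem comm3 : sameWord G [22, 13] [13, 22] = true := by decide +kernel

theorem comm4 : sameWord G [25, 13] [13, 25] = true := by decide +kernel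

theorem comm5 : sameWord G [26, 13] [13, 26] = true := by decide +kernel

theorem comm6 : sameWord G [27, 13] [13, 27] = true := by decide +kernel

theorem comm7 : sameWord G [28, 13] [13, 28] = true := by decide +kernel

theorem comm8 : sameWord G [29, 13] [13, 29] = true := by decide +kernel

theorem cube0 : sameWord G [17, 17, 17] [] = true := by decide +kernel

theorem cube1 : sameWord G [19, 19, 19] [] = true := by decide +kernel

theorem cube2 : sameWord G [20, 20, 20] [] = true := by decide +kernel

theorem cube3 : sameWord G [22, 22, 22] [] = true := by decide +kernel

theorem cube4 : sameWord G [25, 25, 25] [] = true := by decide +kernel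

theorem cube5 : sameWord G [26, 26, 26] [] = true := by decide +kernel

theorem cube6 : sameWord G [27, 27, 27] [] = true := by decide +kernel

theorem cube7 : sameWord G [28, 28, 28] [] = true := by decide +kernel

theorem cube8 : sameWord G [29, 29, 29] [] = true := by decide +kernel

end Cfsg.Agent.LyCentComm46
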