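import Cfsg.Agent.Lib.LyCentData46

/-! Kernel checks for the centraliser of an involution in the Lyons group. -/

set_option autoImplicit false
set_option maxRecDepth 100000
set_option maxHeartbeats 2000000


namespace Cfsg.Agent.LyCentNodes46

open Cfsg.Agent.LyRepCore64 Cfsg.Agent.LyCentData46

theorem node13 : sameWord G [13] [0, 0, 0, 0] = true := by decide +kernel

theorem node14 : sameWord G [14] [2, 1, 9, 11, 6] = true := by decide +kernel

theorem node15 : sameWord G [15] [14, 14] = true := by decide +kernel

theorem node16 : sameWord G [16] [15, 15] = true := by decide +kernel

theorem node17 : sameWord G [17] [16, 15, 14] = true := by decide +kernel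

theorem node18 : sameWord G [18] [17, 17] = true := by decide +kernel

theorem node19 : sameWord G [19] [1, 17, 0] = true := by decide +kernel

theorem node20 : sameWord G [20] [12, 17, 11] = true := by decide +kernel

theorem node21 : sameWord G [21] [12, 19, 11] = true := by decide +kernel

theorem node22 : sameWord G [22] [7, 21, 6] = true := by decide +kernel

theorem node23 : sameWord G [23] [12, 18, 11] = true := by decide +kernel

theorem node24 : sameWord G [24] [7, 23, 6] = true := by decide +kernel

theorem node25 : sameWord G [25] [9, 24, 8] = true := by decide +kernel

theorem node26 : sameWord G [26] [3, 25, 2] = true := by decide +kernel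

theorem node27 : sameWord G [27] [2, 25, 3] = true := by decide +kernel

theorem node28 : sameWord G [28] [3, 26, 2] = true := by decide +kernel

theorem node29 : sameWord G [29] [2, 27, 3] = true := by decide +kernel

theorem t_sq : sameWord G [13, 13] [] = true := by decide +kernel

theorem t_ne : (List.range 111).any (fun i => notOne G [13] i i) = true := by decide +kernel

end Cfsg.Agent.LyCentNodes46
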