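import Cfsg.Agent.Lib.LyCentData46

/-! Kernel checks for the centraliser of an involution in the Lyons group. -/

set_option autoImplicit false
set_option maxRecDepth 100000
set_option maxHeartbeats 2000000


namespace Cfsg.Agent.LyCentPairA46

open Cfsg.Agent.LyRepCore64 Cfsg.Agent.LyCentData46

theorem pair0_1 : sameWord G [17, 19, 17, 19] [13] = true := by decide +kernel

theorem pair0_2 : sameWord G [17, 20, 17, 20] [13] = true := by decide +kernel

theorem pair0_3 : sameWord G [17, 22, 17, 22] [13] = true := by decide +kernel

theorem pair0_4 : sameWord G [17, 25, 17, 25] [13] = true := by decide +kernel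

theorem pair0_5 : sameWord G [17, 26, 17, 26] [13] = true := by decide +kernel

theorem pair0_6 : sameWord G [17, 27, 17, 27] [13] = true := by decide +kernel

theorem pair0_7 : sameWord G [17, 28, 17, 28] [13] = true := by decide +kernel

theorem pair0_8 : sameWord G [17, 29, 17, 29] [13] = true := by decide +kernel

theorem pair1_2 : sameWord G [19, 20, 19, 20] [13] = true := by decide +kernel

theorem pair1_3 : sameWord G [19, 22, 19, 22] [13] = true := by decide +kernel

theorem pair1_4 : sameWord G [19, 25, 19, 25] [13] = true := by decide +kernel

theorem pair1_5 : sameWord G [19, 26, 19, 26] [13] = true := by decide +kernel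

end Cfsg.Agent.LyCentPairA46
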