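import Cfsg.Agent.Lib.LyCentData46

/-! Kernel checks for the centraliser of an involution in the Lyons group. -/

set_option autoImplicit false
set_option maxRecDepth 100000
set_option maxHeartbeats 2000000


namespace Cfsg.Agent.LyCentPairB46

open Cfsg.Agent.LyRepCore64 Cfsg.Agent.LyCentData46

theorem pair1_6 : sameWord G [19, 27, 19, 27] [13] = true := by decide +kernel

theorem pair1_7 : sameWord G [19, 28, 19, 28] [13] = true := by decide +kernel

theorem pair1_8 : sameWord G [19, 29, 19, 29] [13] = true := by decide +kernel

theorem pair2_3 : sameWord G [20, 22, 20, 22] [13] = true := by decide +kernel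

theorem pair2_4 : sameWord G [20, 25, 20, 25] [13] = true := by decide +kernel

theorem pair2_5 : sameWord G [20, 26, 20, 26] [13] = true := by decide +kernel

theorem pair2_6 : sameWord G [20, 27, 20, 27] [13] = true := by decide +kernel

theorem pair2_7 : sameWord G [20, 28, 20, 28] [13] = true := by decide +kernel

theorem pair2_8 : sameWord G [20, 29, 20, 29] [13] = true := by decide +kernel

theorem pair3_4 : sameWord G [22, 25, 22, 25] [13] = true := by decide +kernel

theorem pair3_5 : sameWord G [22, 26, 22, 26] [13] = true := by decide +kernel

theorem pair3_6 : sameWord G [22, 27, 22, 27] [13] = true := by decide +kernel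

end Cfsg.Agent.LyCentPairB46
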