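import Cfsg.Agent.Lib.LyCentData46

/-! Kernel checks for the centraliser of an involution in the Lyons group. -/

set_option autoImplicit false
set_option maxRecDepth 100000
set_option maxHeartbeats 2000000


namespace Cfsg.Agent.LyCentPairC46

open Cfsg.Agent.LyRepCore64 Cfsg.Agent.LyCentData46

theorem pair3_7 : sameWord G [22, 28, 22, 28] [13] = true := by decide +kernel

theorem pair3_8 : sameWord G [22, 29, 22, 29] [13] = true := by decide +kernel

theorem pair4_5 : sameWord G [25, 26, 25, 26] [13] = true := by decide +kernel

theorem pair4_6 : sameWord G [25, 27, 25, 27] [13] = true := by decide +kernel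

theorem pair4_7 : sameWord G [25, 28, 25, 28] [13] = true := by decide +kernel

theorem pair4_8 : sameWord G [25, 29, 25, 29] [13] = true := by decide +kernel

theorem pair5_6 : sameWord G [26, 27, 26, 27] [13] = true := by decide +kernel

theorem pair5_7 : sameWord G [26, 28, 26, 28] [13] = true := by decide +kernel

theorem pair5_8 : sameWord G [26, 29, 26, 29] [13] = true := by decide +kernel

theorem pair6_7 : sameWord G [27, 28, 27, 28] [13] = true := by decide +kernel

theorem pair6_8 : sameWord G [27, 29, 27, 29] [13] = true := by decide +kernel

theorem pair7_8 : sameWord G [28, 29, 28, 29] [13] = true := by decide +kernel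

end Cfsg.Agent.LyCentPairC46
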