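import Cfsg.Agent.Lib.LyOrbitCount41

/-!
Factors of the orders of the stabilisers of three double coset representatives: an orbit on the cosets of the
parabolic subgroup, and an element of prime order fixing a point of it.
-/

set_option autoImplicit false
set_option maxRecDepth 100000
set_option maxHeartbeats 1000000

namespace Cfsg.Agent.LyOrbitDiv41

open Cfsg.Agent.LyG2Five64 Cfsg.Agent.LyOrbitCore41 Cfsg.Agent.LyOrbitCover41 Cfsg.Agent.LyOrbitClosed41
open Cfsg.Agent.LyOrbitFacts41 Cfsg.Agent.LyOrbitCount41
open Cfsg.Agent.CosetCertCore (Tbl entry force force_eq)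
open scoped Pointwise

/-- The set of points of a mask is one orbit, by a forest. -/
noncomputable def orbOk (G : List (List ℕ)) (T : Tbl) (M v0 : ℕ) : Bool :=
  G.all okW && Nat.blt v0 3906 && Nat.testBit M v0 &&
  CosetCertTable.allFrom (fun v => cond (Nat.testBit M v)
    ((G.all fun w => Nat.testBit M (walkG w v)) &&
      force (entry T 40 v) fun x => force (Nat.shiftRight x 28) fun d =>
        force (Nat.land (Nat.shiftRight x 20) 255) fun g => force (Nat.land x 1048575) fun u =>
        cond (Nat.beq d 0) (Nat.beq v v0)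
          (Nat.blt u 3906 && Nat.testBit M u && Nat.blt g G.length &&
            Nat.blt (Nat.shiftRight (entry T 40 u) 28) d && Nat.beq (walkG (invW (G.getD g [])) u) v)) true) 3906 0

theorem orbit_card {G : List (List ℕ)} {T : Tbl} {M v0 N : ℕ} (h : orbOk G T M v0 = true)
    (hN : ((List.range 3906).filter (Nat.testBit M)).length = N) :
    Nat.card (MulAction.orbit (Subgroup.closure (ev '' {w | w ∈ G})) (pt' v0)) = N := by
  simp only [orbOk, Bool.and_eq_true, List.all_eq_true, Nat.blt_eq] at h
  obtain ⟨⟨⟨hG, hv0⟩, hb0⟩, hall⟩ := h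
  have hall' := (CosetCertTable.allFrom_iff _ _ _).mp hall
  set S := Subgroup.closure (ev '' {w | w ∈ G}) with hS
  set F := ((List.range 3906).filter (Nat.testBit M)).toFinset with hF
  set B : Set (L ⧸ P) := pt' '' (F : Set ℕ) with hB
  have hmemF : ∀ {v}, v ∈ F ↔ v < 3906 ∧ Nat.testBit M v = true := fun {v} => by simp [hF]
  have hc : B.ncard = N := by
    rw [hB, Set.ncard_image_of_injOn (fun a ha b hb e => pt'_inj (hmemF.mp ha).1 (hmemF.mp hb).1 e),
      Set.ncard_coe_finset, hF, List.toFinset_card_of_nodup (List.nodup_range.filter _), hN]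
  have hfin : B.Finite := F.finite_toSet.image _
  have hclosed : ∀ v ∈ F, ∀ w ∈ G, walkG w v ∈ F := by
    intro v hv w hw
    obtain ⟨hv1, hv2⟩ := hmemF.mp hv
    have hc := hall' v (Nat.zero_le v) (by omega)
    rw [hv2] at hc
    simp only [cond_true, Bool.and_eq_true, List.all_eq_true] at hc
    exact hmemF.mpr ⟨(walk_pt (hG w hw) hv1).1, hc.1 w hw⟩
  have hsub : MulAction.orbit S (pt' v0) ⊆ B := by
    have hst : S ≤ MulAction.stabilizer L B := by
      rw [hS, Subgroup.closure_le]
      rintro _ ⟨w, hw, rfl⟩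
      have hinv : (ev w)⁻¹ ∈ MulAction.stabilizer L B := by
        rw [MulAction.mem_stabilizer_iff]
        refine Set.eq_of_subset_of_ncard_le ?_ (by rw [Set.ncard_smul_set]) hfin
        rintro _ ⟨_, ⟨v, hv, rfl⟩, rfl⟩
        refine ⟨walkG w v, hclosed v hv w hw, ?_⟩
        exact ((walk_pt (hG w hw) (hmemF.mp hv).1).2).symm
      exact inv_mem_iff.mp hinv
    rintro _ ⟨⟨s, hs⟩, rfl⟩
    show s • pt' v0 ∈ B
    rw [← MulAction.mem_stabilizer_iff.mp (hst hs)]
    exact Set.smul_mem_smul_set ⟨v0, hmemF.mpr ⟨hv0, hb0⟩, rfl⟩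
  have hsup : ∀ n v, v < 3906 → Nat.testBit M v = true → Nat.shiftRight (entry T 40 v) 28 = n →
      pt' v ∈ MulAction.orbit S (pt' v0) := by
    intro n
    induction n using Nat.strong_induction_on with
    | _ n ih =>
      intro v hv hbv hn
      have hc := hall' v (Nat.zero_le v) (by omega)
      rw [hbv] at hc
      simp only [cond_true, Bool.and_eq_true, force_eq] at hc
      rw [hn] at hc
      have hc := hc.2
      cases hd : Nat.beq n 0 with
      | true =>
        rw [hd] at hc
        simp only [cond_true, Nat.beq_eq] at hc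
        rw [hc]
        exact MulAction.mem_orbit_self _
      | false =>
        rw [hd] at hc
        simp only [cond_false, Bool.and_eq_true, Nat.blt_eq, Nat.beq_eq] at hc
        obtain ⟨⟨⟨⟨hu, hbu⟩, hg⟩, hlt⟩, hw⟩ := hc
        have hmem : G.getD (Nat.land (Nat.shiftRight (entry T 40 v) 20) 255) [] ∈ G := by
          rw [List.getD_eq_getElem _ _ hg]; exact List.getElem_mem hg
        have hok := hG _ hmem
        obtain ⟨-, e⟩ := walk_pt (okW_invW hok) hu
        rw [hw, ev_invW hok, inv_inv] at e
        rw [← e]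
        obtain ⟨s, es⟩ := ih _ hlt _ hu hbu rfl
        refine ⟨(⟨_, Subgroup.subset_closure ⟨_, hmem, rfl⟩⟩ : S) * s, ?_⟩
        show ((⟨_, _⟩ : S) * s) • pt' v0 = _
        rw [mul_smul]
        exact congrArg _ es
  have heq : MulAction.orbit S (pt' v0) = B := by
    refine Set.Subset.antisymm hsub ?_
    rintro _ ⟨v, hv, rfl⟩
    exact hsup _ v (hmemF.mp hv).1 (hmemF.mp hv).2 rfl
  rw [heq, Nat.card_coe_set_eq, hc]

/-- An orbit and an element fixing one of its points give a factor of the order. -/
theorem dvd_card_X {g : L} {G : List (List ℕ)} (hg : ∀ i < G.length, ev (G.getD i []) ∈ X g) {T : Tbl}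
    {M v0 N : ℕ} (h : orbOk G T M v0 = true) (hN : ((List.range 3906).filter (Nat.testBit M)).length = N) :
    N ∣ Nat.card (X g) ∧
    ∀ {p : ℕ} {s : List ℕ} {u : ℕ}, p.Prime → s.all (fun i => Nat.blt i G.length) = true → u < 3906 →
      same ((List.replicate p ((s.map fun i => G.getD i []).flatten)).flatten) [] = true →
      walkG ((s.map fun i => G.getD i []).flatten) v0 = v0 →
      Nat.beq (walkG ((s.map fun i => G.getD i []).flatten) u) u = false → N * p ∣ Nat.card (X g) := by
  set S := Subgroup.closure (ev '' {w | w ∈ G}) with hS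
  have hle : S ≤ X g := by
    rw [hS, Subgroup.closure_le]
    rintro _ ⟨w, hw, rfl⟩
    obtain ⟨i, hi, rfl⟩ := List.getElem_of_mem hw
    rw [← List.getD_eq_getElem _ ([] : List ℕ) hi]
    exact hg i hi
  haveI := finite_H
  have hXH : X g ≤ HLy := inf_le_left
  haveI : Finite S := finite_le (hle.trans hXH)
  have hdvd : Nat.card S ∣ Nat.card (X g) := Subgroup.card_dvd_of_le hle
  have hoc := orbit_card h hN
  have hmul : Nat.card (MulAction.orbit S (pt' v0)) * Nat.card (MulAction.stabilizer S (pt' v0)) = Nat.card S := by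
    rw [← Nat.card_prod, Nat.card_congr (MulAction.orbitProdStabilizerEquivGroup S (pt' v0))]
  rw [hoc] at hmul
  refine ⟨Dvd.dvd.trans ⟨_, hmul.symm⟩ hdvd, ?_⟩
  intro p s u hp hs hu hsame hfix hmove
  refine Dvd.dvd.trans ?_ hdvd
  rw [← hmul]
  refine Nat.mul_dvd_mul_left N ?_
  simp only [orbOk, Bool.and_eq_true, List.all_eq_true, Nat.blt_eq] at h
  simp only [List.all_eq_true, Nat.blt_eq] at hs
  set w := (s.map fun i => G.getD i []).flatten with hwdef
  have hwS' : ∀ s : List ℕ, (∀ i ∈ s, i < G.length) → ev ((s.map fun i => G.getD i []).flatten) ∈ S := by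
    intro s
    induction s with
    | nil => intro _; simpa [ev_nil] using one_mem S
    | cons i s ih =>
      intro hs
      rw [List.map_cons, List.flatten_cons, ev_append]
      refine mul_mem (Subgroup.subset_closure ⟨_, ?_, rfl⟩) (ih fun j hj => hs j (List.mem_cons_of_mem _ hj))
      rw [List.getD_eq_getElem _ _ (hs i List.mem_cons_self)]
      exact List.getElem_mem _
  have hwS : ev w ∈ S := hwS' s hs
  have hok : okW w = true := by
    rw [okW_iff]
    intro x hx
    rw [hwdef, List.mem_flatten] at hx
    obtain ⟨l, hl, hxl⟩ := hx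
    obtain ⟨i, hi, rfl⟩ := List.mem_map.mp hl
    have hm : G.getD i [] ∈ G := by
      rw [List.getD_eq_getElem _ _ (hs i hi)]; exact List.getElem_mem _
    exact okW_iff.mp (h.1.1.1 _ hm) x hxl
  have hpow : ev w ^ p = 1 := by
    have e := eq_ev hsame
    have hev : ∀ n : ℕ, ev ((List.replicate n w).flatten) = ev w ^ n := by
      intro n
      induction n with
      | zero => simp [ev_nil]
      | succ n ih => rw [List.replicate_succ, List.flatten_cons, ev_append, ih, pow_succ']
    rwa [hev, ev_nil] at e
  have hne : ev w ≠ 1 := by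
    intro e
    have h1 := (walk_pt hok hu).2
    rw [e, inv_one, one_smul] at h1
    have h2 := pt'_inj hu (walk_pt hok hu).1 h1
    rw [← h2] at hmove
    simp at hmove
  have hst : (⟨ev w, hwS⟩ : S)⁻¹ ∈ MulAction.stabilizer S (pt' v0) := by
    rw [MulAction.mem_stabilizer_iff]
    show (ev w)⁻¹ • pt' v0 = pt' v0
    rw [(walk_pt hok h.1.1.2).2, hfix]
  let x : MulAction.stabilizer S (pt' v0) := ⟨(⟨ev w, hwS⟩ : S)⁻¹, hst⟩
  haveI := Fact.mk hp
  have hx : orderOf x = p := by
    refine orderOf_eq_prime ?_ ?_
    · apply Subtype.ext; apply Subtype.ext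
      show ((ev w)⁻¹) ^ p = 1
      rw [inv_pow, hpow, inv_one]
    · intro e
      have e' : (ev w)⁻¹ = 1 := congrArg (fun y : MulAction.stabilizer S (pt' v0) => ((y : S) : L)) e
      exact hne (inv_eq_one.mp e')
  rw [← hx]
  exact orderOf_dvd_natCard x

/-- The points of an orbit. -/
def mask2 : ℕ := 0x37123015011080404d1238e010024c54060504808a1c6004900f20bcd101140108e4a8445510668e0060042a390010090c00914434501400008800000104a18135202050804511e65010701fe400048004502160031028221a3311c49028604c0a67200bf459410020560000800b2d6c114827a0500280880281c0618025fc01a16403182a0080382024445cb050475c70cabe441910121b10320a0b6062806b27082206d0d000004915221d400484e81308810006610000812001852886020c85200020a40a300200086a0006030030128407008060230d034f32b042060c1e00f6580823910cb7478300218010942420847a3803000092004bc100100100486208480010500080440019005c16220908ca7c4085001020ac00001202402401838c005014110101a014280c0b62000008242733252010406020600009000812021070908f16cea4090012232309184cc0000780019b480c3fa62093521060e218120a70720231855208d3810884202c2c88f8d08c106009c420120040091000004441a202501142800014160000000410441404254c01142c066026d0800826f4232802462020c4c091404a815f88046480c0021000219000460a000058a26086d603a53068081810e200c0020600341b142244e0007e61920110490005001408a04a0a046018000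

theorem orb_ok2 : orbOk gens2 forest2 mask2 15 = true := by decide +kernel

theorem len2 : ((List.range 3906).filter (Nat.testBit mask2)).length = 1008 := by decide +kernel

theorem dvd2 : 1008 ∣ Nat.card (X g2) := (dvd_card_X gens_mem2 orb_ok2 len2).1

/-- The points of an orbit. -/
def mask3 : ℕ := 0x122344c2241044521a06802d08106418166004701229d6a187644b0838e3961802240f0180d104002386621402000b400004d67c0429d34df068850a0796ab8210029213940d504365dc611c04e0110172dd9200c2b8e92a4bc9363f4b85d0110143b12187c2814084094f8b081aa8d841400fbc14009c9ad046400ea021bf860ecbf8a878f80413038312bfe066d4807c4db8120c2422080e76a1060141301058404282346782a294252436001104e07024150811861000fdd60e0d50a3a80212a24b0c010000a3b7c80cc04cc16b213780c7ae02b61123404c75a614dcda0880659823f7f39b24d7a1c2a90d0e4a32484f23e191c42c9db30032e37c093694eb217200240326203464f8c02078c0e1ff8d700c0d5b83601b0a4ce2c41210356448f952520d02e0a9c118023402e397f9209142662bad700018001ca481ca0fa2809380ce86905982d88c00003000003a0d20001000300b000ed7ba20a0182015874f5c150db7e6556b25871bc834841a009ab1d1aa56254e4c621a057ff25f54758c8a7130090d46c04087275f23b42326326227524230628a6315b0a4c8f4b9049f8a101c81b269f900588d1e48c0a2233e4c00246598083690330b8e22e8962215837e7e30f78b7a81c065c410193cc41a6204000000c39f3421c26109cc1650a9bac4e903800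

theorem orb_ok3 : orbOk gens3 forest3 mask3 11 = true := by decide +kernel

theorem len3 : ((List.range 3906).filter (Nat.testBit mask3)).length = 1440 := by decide +kernel

theorem dvd3 : 2880 ∣ Nat.card (X g3) :=
  (dvd_card_X gens_mem3 orb_ok3 len3).2 (p := 2) (s := [2, 5, 3, 2, 5, 5]) (u := 0) (by norm_num) (by decide) (by norm_num)
    (by decide +kernel) (by decide +kernel) (by decide +kernel)

/-- The points of an orbit. -/
def mask4 : ℕ := 0x3acd14fee37b2fbf8bf7e7b8fd3a11ffb923771d483c8703ff569f39f42ccc5cf1ef5ff9af701130438203d4c4f7bc46c8783623f8d65f76312e0b670ca908c2fb89659e6f678cbf55aed5a3a6e79f520f20170f05592827ce18547350aa7b029d97eb6d07e73f59b96449d0563ad88d9f3429913bef0516535d01b4b43736fa32b53bc3850bf07bb4fa861f4e4d56878d75f366a00aca7d4838b98d71fa8ad7fcd3447ccd8c0e1775c12f45a16a660fedc2fedd7cc4a5cbb374868bd4a11d89f22977ffd4c48379ac3799eb7cbedb893647db8f9a1ff9fce0853b3b2c88f2e1b9481fe4a73ec8ac7d261c423d46e1693b73e505af22bb77930c6fbff1cfbe71893475ff883c2a98a5fb45ebd94fcfa7fffd840f3bf9ccaa02c7b9d5fb3ccddf7437de49d75a4def6454f6210479f59626dcd94c6ebbee381858055d6cc4b09ff58c01ef6df3ffbcb4d28001cf0e78c6350e8008100000cf6cc1c9b5ba88b013d8050dadee71fe785c9de9da4293254ccc003f13de647af56270263585388a5b20659e8fcb83350d8186141f0ed8a04427a717971e3061d0761989f52990c2d3fcb5b08ea726985c9f7128550e7fc2fdbcc5a447a1c7fff7b868f5b89a0759b6c3e59dc3b62e3ffc131ef70933f9df4ed8ea30c63800000194129c456123028639e4cf3d64d700000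

theorem orb_ok4 : orbOk gens4 forest4 mask4 20 = true := by decide +kernel

theorem len4 : ((List.range 3906).filter (Nat.testBit mask4)).length = 2016 := by decide +kernel

theorem dvd4 : 6048 ∣ Nat.card (X g4) :=
  (dvd_card_X gens_mem4 orb_ok4 len4).2 (p := 3) (s := [2, 2, 3, 1, 2, 3, 3]) (u := 0) (by norm_num) (by decide) (by norm_num)
    (by decide +kernel) (by decide +kernel) (by decide +kernel)

end Cfsg.Agent.LyOrbitDiv41
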