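import Cfsg.Agent.Lib.LyG2Five64

/-! The primes 11, 37 and 67 divide the order of the presented Lyons group, if it is finite. -/

set_option autoImplicit false
set_option maxRecDepth 100000
set_option maxHeartbeats 2000000
set_option Elab.async false

namespace Cfsg.Agent.LyOrbitPrimes41

open Cfsg.Agent.LyRep64
open Cfsg.Agent.LyRepCore64 (PMat sMat sparse rowsOk evalWord digit pMat val evalWord_sound sameWord sameWord_sound)

/-- The presented Lyons group. -/
abbrev L : Type := Cfsg.Spor.Ly

/-- A column and the generators. -/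
def gs : List PMat := Cfsg.Agent.LyRepData64.gens ++ [[4, 2, 2, 4, 0, 3, 1, 0, 1, 0, 2, 3, 1, 3, 4, 0, 4, 1, 0, 1, 3, 2, 1, 3, 1, 0, 1, 4, 4, 3, 1, 1, 0, 0, 1, 1, 1, 1, 2, 2, 1, 4, 1, 1, 1, 3, 2, 0, 2, 3, 1, 1, 2, 0, 2, 2, 4, 4, 0, 4, 2, 0, 2, 2, 2, 3, 2, 1, 3, 3, 1, 0, 2, 0, 2, 3, 0, 4, 3, 2, 3, 4, 0, 3, 0, 1, 4, 1, 0, 1, 3, 2, 4, 2, 4, 2, 3, 0, 4, 2, 2, 0, 3, 0, 1, 2, 4, 4, 2, 1, 2]]

theorem gs_ok : (List.range 14).all (fun k => rowsOk (gs.getD k [])) = true := by decide +kernel

theorem gs_ok' {w : List ℕ} (hw : ∀ g ∈ w, g < 14) : ∀ g ∈ w, rowsOk (gs.getD g []) = true :=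
  fun g hg => List.all_eq_true.mp gs_ok g (List.mem_range.2 (hw g hg))

/-- The matrix of a letter. -/
noncomputable def Mx (k : ℕ) : Matrix (Fin 111) (Fin 111) (ZMod 5) := sMat (sparse (gs.getD k []))

theorem Mx_eq {k : ℕ} (hk : k < 13) : Mx k = LyRepChain64.M k := by
  have h : k < Cfsg.Agent.LyRepData64.gens.length := lt_of_lt_of_le hk (by decide)
  simp only [Mx, gs, LyRepChain64.M, LyRepChain64.Mg, List.getD_eq_getElem?_getD, List.getElem?_append_left h]

/-- The letters. -/
noncomputable def letX : ℕ → L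
  | 0 => LyG2Five64.mk Cfsg.Spor.Ly.a
  | 2 => LyG2Five64.mk Cfsg.Spor.Ly.b
  | 4 => LyG2Five64.mk Cfsg.Spor.Ly.c
  | 6 => LyG2Five64.mk Cfsg.Spor.Ly.d
  | 8 => LyG2Five64.mk Cfsg.Spor.Ly.z
  | _ => 1

theorem rho_letX {k : ℕ} (hk : k ∈ [0, 2, 4, 6, 8]) : rho (letX k) = U k := by
  simp only [List.mem_cons, List.not_mem_nil, or_false] at hk
  rcases hk with rfl | rfl | rfl | rfl | rfl <;> simp [letX, rho_mk, gen]

theorem val_prod {w : List ℕ} (hw : ∀ g ∈ w, g ∈ [0, 2, 4, 6, 8]) :
    (rho (w.map letX).prod).val = (w.map Mx).prod := by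
  rw [map_list_prod, List.map_map, ← Units.coeHom_apply, map_list_prod, List.map_map]
  refine congrArg List.prod (List.map_congr_left fun g hg => ?_)
  have h13 : g < 13 := by
    have := hw g hg
    simp only [List.mem_cons, List.not_mem_nil, or_false] at this
    omega
  simp only [Function.comp_apply, Units.coeHom_apply]
  rw [rho_letX (hw g hg), coe_U h13, Mx_eq h13]

/-- The test. -/
noncomputable def test (w : List ℕ) (p i : ℕ) : Bool :=
  Nat.blt i 111 && w.all (fun g => [0, 2, 4, 6, 8].contains g) &&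
  sameWord gs ((List.replicate p w).flatten ++ [13]) [13] &&
    match evalWord gs (w ++ [13]), evalWord gs [13] with
    | some X, some Y => !(digit (X.getD i 0) 0 % 5 == digit (Y.getD i 0) 0 % 5)
    | _, _ => false

theorem dvd_card [Finite L] {w : List ℕ} {p i : ℕ} (hp : p.Prime) (h : test w p i = true) : p ∣ Nat.card L := by
  simp only [test, Bool.and_eq_true, Nat.blt_eq, List.all_eq_true, List.contains_iff_mem] at h
  obtain ⟨⟨⟨hi, hw⟩, hsame⟩, hne⟩ := h
  set x := (w.map letX).prod with hx
  have hw14 : ∀ g ∈ w, g < 14 := fun g hg => by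
    have := hw g hg
    simp only [List.mem_cons, List.not_mem_nil, or_false] at this
    omega
  have hfix : (rho x).val ^ p * Mx 13 = Mx 13 := by
    have e := sameWord_sound (gs_ok' (w := (List.replicate p w).flatten ++ [13]) ?_) (gs_ok' (w := [13]) (by simp)) hsame
    · rw [val_prod hw]
      simp only [List.map_append, List.prod_append, List.map_singleton, List.prod_singleton, List.map_flatten,
        List.map_replicate, List.prod_flatten, List.prod_replicate] at e
      exact e
    · intro g hg
      simp only [List.mem_append, List.mem_flatten, List.mem_replicate, List.mem_singleton] at hg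
      rcases hg with ⟨l, ⟨-, rfl⟩, hgl⟩ | rfl
      · exact hw14 g hgl
      · norm_num
  have hmove : (rho x).val * Mx 13 ≠ Mx 13 := by
    intro e
    cases h1 : evalWord gs (w ++ [13]) with
    | none => rw [h1] at hne; exact absurd hne (by simp)
    | some X =>
      cases h2 : evalWord gs [13] with
      | none => rw [h1, h2] at hne; exact absurd hne (by simp)
      | some Y =>
        rw [h1, h2] at hne
        obtain ⟨-, eX⟩ := evalWord_sound gs _ X (gs_ok' (w := w ++ [13]) (fun g hg => by
          simp only [List.mem_append, List.mem_singleton] at hg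
          rcases hg with hg | rfl
          · exact hw14 g hg
          · norm_num)) h1
        obtain ⟨-, eY⟩ := evalWord_sound gs _ Y (gs_ok' (w := [13]) (by simp)) h2
        have e2 : pMat X = pMat Y := by
          rw [eX, eY]
          simp only [List.map_append, List.prod_append, List.map_singleton, List.prod_singleton]
          rw [val_prod hw] at e
          exact e
        have e3 := congrArg ZMod.val (congrFun (congrFun e2 ⟨i, hi⟩) ⟨0, by norm_num⟩)
        simp only [pMat, val, ZMod.val_natCast] at e3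
        simp only [Bool.not_eq_true', beq_eq_false_iff_ne, ne_eq] at hne
        exact hne e3
  let S : Submonoid GL111 :=
    { carrier := {u | u.val * Mx 13 = Mx 13}
      one_mem' := by simp
      mul_mem' := fun {u v} hu hv => by
        simp only [Set.mem_ofPred_eq] at hu hv ⊢
        rw [Units.val_mul, mul_assoc, hv, hu] }
  have hd : p ∣ orderOf (rho x) := by
    by_contra hnd
    obtain ⟨k, hk⟩ := exists_pow_eq_self_of_coprime ((Nat.Prime.coprime_iff_not_dvd hp).mpr hnd)
    apply hmove
    have hS : rho x ^ p ∈ S := by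
      show (rho x ^ p).val * Mx 13 = Mx 13
      rw [Units.val_pow_eq_pow_val]
      exact hfix
    have := pow_mem hS k
    rwa [hk] at this
  exact hd.trans ((orderOf_map_dvd rho x).trans (orderOf_dvd_natCard x))

theorem dvd11 [Finite L] : 11 ∣ Nat.card L :=
  dvd_card (w := [0, 2, 2, 0, 4, 8, 6]) (i := 0) (by norm_num) (by decide +kernel)

theorem dvd37 [Finite L] : 37 ∣ Nat.card L :=
  dvd_card (w := [2, 6, 2, 2, 4, 8, 0]) (i := 1) (by norm_num) (by decide +kernel)

theorem dvd67 [Finite L] : 67 ∣ Nat.card L :=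
  dvd_card (w := [6, 4, 8, 4, 2]) (i := 0) (by norm_num) (by decide +kernel)

end Cfsg.Agent.LyOrbitPrimes41
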