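import Cfsg.Agent.Lib.LyOrbitGen41
import Cfsg.Agent.Lib.LyOrbitDiv41
import Cfsg.Agent.Lib.LyOrbitPrimes41

/-!
The five double cosets of G2(5) in the presented Lyons group are different and have the expected sizes, so the
index is 8835156, and the group is simple.
-/

set_option autoImplicit false
set_option maxRecDepth 100000
set_option maxHeartbeats 1000000

namespace Cfsg.Agent.LyOrbitIndex41

open Cfsg.Agent.LyG2Five64 Cfsg.Agent.LyOrbitCore41 Cfsg.Agent.LyOrbitCover41 Cfsg.Agent.LyOrbitClosed41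
open Cfsg.Agent.LyOrbitFacts41 Cfsg.Agent.LyOrbitCount41 Cfsg.Agent.LyOrbitGen41

/-- The point of a representative among the cosets. -/
noncomputable def pt (j : ℕ) : L ⧸ HLy := QuotientGroup.mk (reps j)⁻¹

/-- The orbit of a representative. -/
noncomputable def orb (j : ℕ) : Set (L ⧸ HLy) := MulAction.orbit HLy (pt j)

theorem cover (q : L ⧸ HLy) : ∃ j < 5, q ∈ orb j := by
  induction q using QuotientGroup.induction_on with
  | H x =>
    obtain ⟨j, hj, t, ht, h⟩ := reach_all x⁻¹
    refine ⟨j, hj, ⟨⟨t, ht⟩⁻¹, ?_⟩⟩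
    show t⁻¹ • pt j = _
    rw [pt, MulAction.Quotient.smul_mk, QuotientGroup.eq, smul_eq_mul]
    have e : (t⁻¹ * (reps j)⁻¹)⁻¹ * x = (x⁻¹ * (reps j * t)⁻¹)⁻¹ := by group
    rw [e]
    exact inv_mem h

theorem stab_eq (j : ℕ) : MulAction.stabilizer HLy (pt j) = (X (reps j)).subgroupOf HLy := by
  ext ⟨t, ht⟩
  rw [MulAction.mem_stabilizer_iff, Subgroup.mem_subgroupOf, mem_X]
  show t • pt j = pt j ↔ _
  rw [pt, MulAction.Quotient.smul_mk, QuotientGroup.eq, smul_eq_mul]
  have e : (t * (reps j)⁻¹)⁻¹ * (reps j)⁻¹ = (reps j * t * (reps j)⁻¹)⁻¹ := by group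
  rw [e, inv_mem_iff]
  exact ⟨fun h => ⟨ht, h⟩, fun h => h.2⟩

theorem card_stab (j : ℕ) : Nat.card ((X (reps j)).subgroupOf HLy) = Nat.card (X (reps j)) :=
  Nat.card_congr (Subgroup.subgroupOfEquivOfLe (inf_le_left : X (reps j) ≤ HLy)).toEquiv

theorem orb_mul (j : ℕ) : (orb j).ncard * Nat.card (X (reps j)) = Nat.card HLy := by
  rw [← card_stab, ← stab_eq,
    ← Nat.card_coe_set_eq, ← Nat.card_prod, orb]
  exact Nat.card_congr (MulAction.orbitProdStabilizerEquivGroup HLy (pt j))

theorem orb_finite (j : ℕ) : (orb j).Finite := by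
  haveI := finite_H
  exact Set.finite_range _

theorem finite_quot : Finite (L ⧸ HLy) := by
  have h : (Set.univ : Set (L ⧸ HLy)) ⊆ ⋃ j ∈ Finset.range 5, orb j := fun q _ => by
    obtain ⟨j, hj, hq⟩ := cover q
    exact Set.mem_biUnion (Finset.mem_range.2 hj) hq
  exact Set.finite_univ_iff.mp ((Set.Finite.biUnion (Finset.finite_toSet _) fun j _ => orb_finite j).subset h)

theorem finite_L : Finite L := by
  haveI := finite_quot
  haveI := finite_H
  exact Finite.of_equiv _ (Subgroup.groupEquivQuotientProdSubgroup (s := HLy)).symm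

/-- The union of the first orbits. -/
noncomputable def U (k : ℕ) : Set (L ⧸ HLy) := {q | ∃ j < k, q ∈ orb j}

/-- The part of the orbit that is new. -/
noncomputable def e (k : ℕ) : ℕ :=
  haveI := Classical.propDecidable (pt k ∈ U k)
  if pt k ∈ U k then 0 else (orb k).ncard

theorem U_succ (k : ℕ) : (U (k + 1)).ncard = (U k).ncard + e k := by
  haveI := finite_quot
  haveI := Classical.propDecidable (pt k ∈ U k)
  have hu : U (k + 1) = U k ∪ orb k := by
    ext q
    constructor
    · rintro ⟨j, hj, hq⟩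
      rcases Nat.lt_succ_iff_lt_or_eq.mp hj with hj | rfl
      · exact Or.inl ⟨j, hj, hq⟩
      · exact Or.inr hq
    · rintro (⟨j, hj, hq⟩ | hq)
      · exact ⟨j, hj.trans (Nat.lt_succ_self k), hq⟩
      · exact ⟨k, Nat.lt_succ_self k, hq⟩
  unfold e
  split
  next h =>
    obtain ⟨j, hj, hq⟩ := h
    have : orb k = orb j := MulAction.orbit_eq_iff.mpr hq
    have hs : orb k ⊆ U k := fun q hq' => ⟨j, hj, by rwa [← this]⟩
    rw [hu, Set.union_eq_self_of_subset_right hs, add_zero]
  next h =>
    rw [hu, Set.ncard_union_eq ?_ (Set.toFinite _) (Set.toFinite _)]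
    rw [Set.disjoint_left]
    rintro q ⟨j, hj, hq⟩ hq'
    refine h ⟨j, hj, ?_⟩
    unfold orb at *
    rw [← MulAction.orbit_eq_iff.mpr hq, MulAction.orbit_eq_iff.mpr hq']
    exact MulAction.mem_orbit_self _

theorem index_eq : HLy.index = e 0 + e 1 + e 2 + e 3 + e 4 := by
  have h5 : U 5 = Set.univ := Set.eq_univ_of_forall fun q => cover q
  have h0 : U 0 = ∅ := Set.eq_empty_of_forall_notMem fun q ⟨j, hj, _⟩ => absurd hj (Nat.not_lt_zero j)
  have h : (U 5).ncard = e 0 + e 1 + e 2 + e 3 + e 4 := by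
    rw [U_succ, U_succ, U_succ, U_succ, U_succ, h0, Set.ncard_empty, zero_add]
  rw [← h, h5, Set.ncard_univ]
  rfl

theorem card_L : Nat.card L = Nat.card HLy * HLy.index := (Subgroup.card_mul_index HLy).symm

theorem big_dvd : 27269 ∣ HLy.index := by
  haveI := finite_L
  have hp : ∀ p, p.Prime → p ∣ Nat.card L → ¬ p ∣ 5859000000 → p ∣ HLy.index := by
    intro p hp h hn
    rw [card_L, card_H] at h
    exact (hp.dvd_mul.mp h).resolve_left hn
  have h11 := hp 11 (by norm_num) LyOrbitPrimes41.dvd11 (by norm_num)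
  have h37 := hp 37 (by norm_num) LyOrbitPrimes41.dvd37 (by norm_num)
  have h67 := hp 67 (by norm_num) LyOrbitPrimes41.dvd67 (by norm_num)
  have h1 : 11 * 37 ∣ HLy.index := (by norm_num : Nat.Coprime 11 37).mul_dvd_of_dvd_of_dvd h11 h37
  exact (by norm_num : Nat.Coprime (11 * 37) 67).mul_dvd_of_dvd_of_dvd h1 h67

theorem pt_zero : pt 0 = ((1 : L) : L ⧸ HLy) := by simp [pt, reps]

theorem orb_zero : orb 0 = {pt 0} := by
  ext q
  constructor
  · rintro ⟨⟨t, ht⟩, rfl⟩
    show t • pt 0 ∈ ({pt 0} : Set _)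
    rw [Set.mem_singleton_iff, pt_zero, MulAction.Quotient.smul_mk, QuotientGroup.eq, smul_eq_mul, mul_one, mul_one]
    exact inv_mem ht
  · rintro rfl
    exact MulAction.mem_orbit_self _

theorem e_zero : e 0 = 1 := by
  rw [e, if_neg, orb_zero, Set.ncard_singleton]
  rintro ⟨j, hj, -⟩
  exact absurd hj (Nat.not_lt_zero j)

theorem Z_not_mem : Z ∉ HLy := by
  intro hZ
  have h : HLy.index = 1 := Subgroup.index_eq_one.mpr (gen_top le_rfl hZ)
  have := big_dvd
  rw [h] at this
  norm_num at this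

theorem e_one : e 1 = 19530 := by
  have hm := orb_mul 1
  rw [show reps 1 = Z from rfl, card_XZ, card_H] at hm
  rw [e, if_neg]
  · exact Nat.eq_of_mul_eq_mul_right (by norm_num : 0 < 300000) (hm.trans (by norm_num))
  · rintro ⟨j, hj, hq⟩
    obtain rfl : j = 0 := by omega
    rw [orb_zero, Set.mem_singleton_iff, pt_zero, pt, QuotientGroup.eq] at hq
    exact Z_not_mem (by simpa [reps] using hq)

/-! ### the possible sizes of an orbit -/

/-- The divisors of a product of prime powers. -/
def divs : List (ℕ × ℕ) → List ℕ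
  | [] => [1]
  | (p, k) :: fs => (List.range (k + 1)).flatMap fun i => (divs fs).map fun x => p ^ i * x

theorem mem_divs : ∀ {fs : List (ℕ × ℕ)} {d : ℕ}, (∀ p ∈ fs, p.1.Prime) →
    d ∣ (fs.map fun p => p.1 ^ p.2).prod → d ∈ divs fs := by
  intro fs
  induction fs with
  | nil => intro d _ h; simpa [divs] using Nat.dvd_one.mp h
  | cons q fs ih =>
    obtain ⟨p, k⟩ := q
    intro d hp h
    rw [List.map_cons, List.prod_cons] at h
    obtain ⟨y, z, hy, hz, rfl⟩ := exists_dvd_and_dvd_of_dvd_mul h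
    obtain ⟨i, hi, rfl⟩ := (Nat.dvd_prime_pow (hp (p, k) List.mem_cons_self)).mp hy
    simp only [divs, List.mem_flatMap, List.mem_range, List.mem_map]
    exact ⟨i, by omega, z, ih (fun r hr => hp r (List.mem_cons_of_mem _ hr)) hz, rfl⟩

/-- Zero, or one, or a divisor that is at least 31. -/
def cands (fs : List (ℕ × ℕ)) : List ℕ := 0 :: 1 :: (divs fs).filter (Nat.ble 31)

theorem orb_small (j : ℕ) : (orb j).ncard = 1 ∨ 31 ≤ (orb j).ncard := by
  haveI := finite_H
  haveI := simple_H
  set S := (X (reps j)).subgroupOf HLy with hS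
  have hidx : (orb j).ncard = S.index := by
    have h := Subgroup.card_mul_index S
    have hm := orb_mul j
    rw [← card_stab, ← hS] at hm
    have hpos : 0 < Nat.card S := Nat.card_pos
    have : (orb j).ncard * Nat.card S = S.index * Nat.card S := by rw [hm, mul_comm, h]
    exact Nat.eq_of_mul_eq_mul_right hpos this
  rcases Subgroup.Normal.eq_bot_or_eq_top (Subgroup.normalCore_normal S) with h | h
  · right
    rw [Subgroup.normalCore_eq_ker] at h
    have hinj : Function.Injective (MulAction.toPermHom HLy (HLy ⧸ S)) := (MonoidHom.ker_eq_bot_iff _).mp h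
    haveI : Fintype (HLy ⧸ S) := Fintype.ofFinite _
    classical
    have hd := Subgroup.card_dvd_of_injective _ hinj
    rw [Nat.card_perm, card_H, ← Subgroup.index_eq_card, ← hidx] at hd
    exact (Nat.Prime.dvd_factorial (by norm_num : Nat.Prime 31)).mp ((by norm_num : (31 : ℕ) ∣ 5859000000).trans hd)
  · left
    rw [hidx, Subgroup.index_eq_one, eq_top_iff, ← h]
    exact Subgroup.normalCore_le S

theorem e_mem {j M q : ℕ} {fs : List (ℕ × ℕ)} (hp : ∀ p ∈ fs, p.1.Prime)
    (hprod : (fs.map fun p => p.1 ^ p.2).prod = q) (hq : q * M = 5859000000) (hM : M ∣ Nat.card (X (reps j))) :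
    e j ∈ cands fs := by
  haveI := Classical.propDecidable (pt j ∈ U j)
  unfold e
  split
  · exact List.mem_cons_self
  · rcases orb_small j with h | h
    · rw [h]; exact List.mem_cons_of_mem _ List.mem_cons_self
    · refine List.mem_cons_of_mem _ (List.mem_cons_of_mem _ (List.mem_filter.mpr ⟨mem_divs hp ?_, Nat.ble_eq.mpr h⟩))
      obtain ⟨r, hr⟩ := hM
      have hm := orb_mul j
      rw [hr, card_H, ← hq] at hm
      have hM0 : 0 < M := by
        rcases Nat.eq_zero_or_pos M with h0 | h0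
        · rw [h0, Nat.mul_zero] at hq; norm_num at hq
        · exact h0
      have hm' : (orb j).ncard * r = q := Nat.eq_of_mul_eq_mul_right hM0 (by rw [← hm]; ring)
      rw [hprod]
      exact ⟨r, hm'.symm⟩

theorem arith : ((cands [(2, 2), (3, 1), (5, 6), (31, 1)]).all fun x =>
    (cands [(3, 1), (5, 5), (7, 1), (31, 1)]).all fun y =>
      (cands [(2, 1), (5, 6), (31, 1)]).all fun z => !(Nat.beq ((19531 + x + y + z) % 27269) 0) ||
        (Nat.beq x 5812500 && Nat.beq y 2034375 && Nat.beq z 968750)) = true := by decide +kernel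

theorem sizes : e 2 = 5812500 ∧ e 3 = 2034375 ∧ e 4 = 968750 := by
  have h2 : e 2 ∈ cands [(2, 2), (3, 1), (5, 6), (31, 1)] :=
    e_mem (q := 5812500) (M := 1008) (by simp; norm_num) (by norm_num) (by norm_num) LyOrbitDiv41.dvd2
  have h3 : e 3 ∈ cands [(3, 1), (5, 5), (7, 1), (31, 1)] :=
    e_mem (q := 2034375) (M := 2880) (by simp; norm_num) (by norm_num) (by norm_num) LyOrbitDiv41.dvd3
  have h4 : e 4 ∈ cands [(2, 1), (5, 6), (31, 1)] :=
    e_mem (q := 968750) (M := 6048) (by simp; norm_num) (by norm_num) (by norm_num) LyOrbitDiv41.dvd4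
  have h := List.all_eq_true.mp (List.all_eq_true.mp (List.all_eq_true.mp arith _ h2) _ h3) _ h4
  have hd := big_dvd
  rw [index_eq, e_zero, e_one] at hd
  have hz : (19531 + e 2 + e 3 + e 4) % 27269 = 0 := by omega
  simp only [hz, Nat.beq_refl, Bool.not_true, Bool.false_or, Bool.and_eq_true, Nat.beq_eq] at h
  exact ⟨h.1.1, h.1.2, h.2⟩

/-- The index of the subgroup. -/
theorem index_value : HLy.index = 8835156 := by
  rw [index_eq, e_zero, e_one, sizes.1, sizes.2.1, sizes.2.2]

theorem order : Nat.card L = 51765179004000000 := by rw [card_L, card_H, index_value]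

/-! ### simplicity -/

theorem subsets : ∀ b1 b2 b3 b4 : Bool,
    ((1 + cond b1 19530 0 + cond b2 5812500 0 + cond b3 2034375 0 + cond b4 968750 0) ∣ 8835156) →
    (b1 = false ∧ b2 = false ∧ b3 = false ∧ b4 = false) ∨ (b1 = true ∧ b2 = true ∧ b3 = true ∧ b4 = true) := by
  decide

theorem simple : IsSimpleGroup L := by
  haveI := finite_L
  haveI := finite_quot
  haveI := finite_H
  haveI := simple_H
  haveI : Nontrivial L := Finite.one_lt_card_iff_nontrivial.mp (by rw [order]; norm_num)
  refine ⟨fun N hN => ?_⟩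
  haveI := hN
  rcases Subgroup.Normal.eq_bot_or_eq_top (inferInstance : (N.subgroupOf HLy).Normal) with hbot | htop
  · left
    have hcap : ∀ x, x ∈ N → x ∈ HLy → x = 1 := fun x hx hx' => by
      have h : (⟨x, hx'⟩ : HLy) ∈ (⊥ : Subgroup HLy) := hbot ▸ hx
      exact congrArg Subtype.val (Subgroup.mem_bot.mp h)
    let f : N → L ⧸ HLy := fun m => ((m : L) : L ⧸ HLy)
    have hf : Function.Injective f := fun x y e => by
      have e' := hcap _ (mul_mem (inv_mem x.2) y.2) (QuotientGroup.eq.mp e)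
      exact Subtype.ext (inv_mul_eq_one.mp e')
    set B := Set.range f with hB
    have hBc : B.ncard = Nat.card N := Set.ncard_range_of_injective hf
    have hdiv : Nat.card N ∣ 8835156 := by
      have h1 : Nat.card HLy ∣ N.index := by
        rw [Subgroup.index_eq_card]
        refine Subgroup.card_dvd_of_injective ((QuotientGroup.mk' N).comp HLy.subtype) fun x y e => ?_
        have e' : ((x : L) : L ⧸ N) = ((y : L) : L ⧸ N) := e
        exact Subtype.ext (inv_mul_eq_one.mp (hcap _ (QuotientGroup.eq.mp e') (mul_mem (inv_mem x.2) y.2)))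
      obtain ⟨m, hm⟩ := h1
      have h := Subgroup.card_mul_index N
      rw [hm, card_L, index_value] at h
      have h' : Nat.card HLy * (Nat.card N * m) = Nat.card HLy * 8835156 := by rw [← h]; ring
      exact ⟨m, (Nat.eq_of_mul_eq_mul_left Nat.card_pos h').symm⟩
    -- `B` is a union of orbits
    have hinv : ∀ (t : HLy) (q : L ⧸ HLy), q ∈ B → t • q ∈ B := by
      rintro ⟨t, ht⟩ _ ⟨⟨m, hm⟩, rfl⟩
      refine ⟨⟨t * m * t⁻¹, hN.conj_mem m hm t⟩, ?_⟩
      show ((t * m * t⁻¹ : L) : L ⧸ HLy) = t • (m : L ⧸ HLy)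
      rw [MulAction.Quotient.smul_mk, QuotientGroup.eq, smul_eq_mul]
      have e1 : (t * m * t⁻¹)⁻¹ * (t * m) = t := by group
      rw [e1]; exact ht
    have hor : ∀ j, pt j ∈ B → orb j ⊆ B := by
      rintro j hj _ ⟨t, rfl⟩; exact hinv t _ hj
    have hor' : ∀ j, pt j ∉ B → Disjoint (orb j) B := fun j hj => by
      rw [Set.disjoint_left]
      rintro _ ⟨t, rfl⟩ hq
      exact hj (by simpa using hinv t⁻¹ _ hq)
    have hnew : ∀ k, e k ≠ 0 → pt k ∉ U k := fun k hk h => hk (by rw [e, if_pos h])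
    have hUB : ∀ k, e k ≠ 0 → (U (k + 1) ∩ B).ncard = (U k ∩ B).ncard +
        (haveI := Classical.propDecidable (pt k ∈ B); if pt k ∈ B then e k else 0) := by
      intro k hk
      have hU : U (k + 1) = U k ∪ orb k := by
        ext q
        constructor
        · rintro ⟨j, hj, hq⟩
          rcases Nat.lt_succ_iff_lt_or_eq.mp hj with hj | rfl
          · exact Or.inl ⟨j, hj, hq⟩
          · exact Or.inr hq
        · rintro (⟨j, hj, hq⟩ | hq)
          · exact ⟨j, hj.trans (Nat.lt_succ_self k), hq⟩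
          · exact ⟨k, Nat.lt_succ_self k, hq⟩
      have hd : Disjoint (U k) (orb k) := by
        rw [Set.disjoint_left]
        rintro q ⟨j, hj, hq⟩ hq'
        refine hnew k hk ⟨j, hj, ?_⟩
        unfold orb at *
        rw [← MulAction.orbit_eq_iff.mpr hq, MulAction.orbit_eq_iff.mpr hq']
        exact MulAction.mem_orbit_self _
      rw [hU, Set.union_inter_distrib_right,
        Set.ncard_union_eq (hd.mono Set.inter_subset_left Set.inter_subset_left)]
      congr 1
      haveI := Classical.propDecidable (pt k ∈ B)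
      split
      next h => rw [Set.inter_eq_left.mpr (hor k h), e, if_neg (hnew k hk)]
      next h => rw [(hor' k h).inter_eq, Set.ncard_empty]
    have hsum : Nat.card N = 1 + cond (@decide (pt 1 ∈ B) (Classical.propDecidable _)) 19530 0 +
        cond (@decide (pt 2 ∈ B) (Classical.propDecidable _)) 5812500 0 +
        cond (@decide (pt 3 ∈ B) (Classical.propDecidable _)) 2034375 0 +
        cond (@decide (pt 4 ∈ B) (Classical.propDecidable _)) 968750 0 := by
      have h5 : U 5 ∩ B = B := by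
        rw [show U 5 = Set.univ from Set.eq_univ_of_forall fun q => cover q, Set.univ_inter]
      have h0 : pt 0 ∈ B := ⟨1, by rw [pt_zero]; rfl⟩
      have hU0 : U 0 ∩ B = ∅ := by
        rw [show U 0 = ∅ from Set.eq_empty_of_forall_notMem fun q ⟨j, hj, _⟩ => absurd hj (Nat.not_lt_zero j),
          Set.empty_inter]
      have hs : Nat.card N = (U 5 ∩ B).ncard := by rw [h5, hBc]
      rw [hs, hUB 4 (by rw [sizes.2.2]; norm_num), hUB 3 (by rw [sizes.2.1]; norm_num),
        hUB 2 (by rw [sizes.1]; norm_num), hUB 1 (by rw [e_one]; norm_num), hUB 0 (by rw [e_zero]; norm_num),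
        hU0, Set.ncard_empty, zero_add, if_pos h0, e_zero, e_one, sizes.1, sizes.2.1, sizes.2.2]
      congr 1
      congr 1
      congr 1
      congr 1
      all_goals (split <;> simp_all)
    rcases subsets _ _ _ _ (hsum ▸ hdiv) with ⟨a1, a2, a3, a4⟩ | ⟨a1, a2, a3, a4⟩
    · rw [a1, a2, a3, a4] at hsum
      exact Subgroup.eq_bot_of_card_eq N hsum
    · rw [a1, a2, a3, a4] at hsum
      have hcard : Nat.card N = 8835156 := hsum
      exfalso
      have hel : ∀ p, p.Prime → p ∣ 8835156 → ∃ m : N, orderOf (m : L) = p := fun p hp hd => by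
        haveI := Fact.mk hp
        obtain ⟨m, hm⟩ := exists_prime_orderOf_dvd_card' (G := N) p (hcard.symm ▸ hd)
        exact ⟨m, by rw [Subgroup.orderOf_coe, hm]⟩
      let ps : Fin 5 → ℕ := ![2, 3, 11, 37, 67]
      have hps : ∀ i, (ps i).Prime ∧ ps i ∣ 8835156 := by
        intro i; fin_cases i <;> norm_num [ps]
      choose m hm using fun i => hel (ps i) (hps i).1 (hps i).2
      have hcls : ∀ i, ∃ j : Fin 4, f (m i) ∈ orb ((j : ℕ) + 1) := fun i => by
        obtain ⟨j, hj, hq⟩ := cover (f (m i))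
        rcases Nat.eq_zero_or_pos j with rfl | hj0
        · rw [orb_zero, Set.mem_singleton_iff] at hq
          have h1 : f (m i) = f 1 := by rw [hq, pt_zero]; rfl
          have h2 := congrArg (fun x : N => orderOf (x : L)) (hf h1)
          simp only [hm, OneMemClass.coe_one, orderOf_one] at h2
          exact absurd h2 (hps i).1.ne_one
        · refine ⟨⟨j - 1, by omega⟩, ?_⟩
          rwa [show j - 1 + 1 = j by omega]
      choose c hc using hcls
      obtain ⟨i, k, hik, hck⟩ := Fintype.exists_ne_map_eq_of_card_lt c (by simp)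
      obtain ⟨t1, ht1⟩ := hc i
      obtain ⟨t2, ht2⟩ := hc k
      have h : f (m k) = (t2 * t1⁻¹) • f (m i) := by
        show f (m k) = _
        rw [← ht2, ← ht1, ← hck, mul_smul, inv_smul_smul]
      obtain ⟨⟨t, ht⟩, h⟩ : ∃ t : HLy, f (m k) = t • f (m i) := ⟨_, h⟩
      have hconj : (⟨t * (m i : L) * t⁻¹, hN.conj_mem _ (m i).2 t⟩ : N) = m k := hf (by
        rw [h]
        show ((t * (m i : L) * t⁻¹ : L) : L ⧸ HLy) = t • ((m i : L) : L ⧸ HLy)
        rw [MulAction.Quotient.smul_mk, QuotientGroup.eq, smul_eq_mul]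
        have e1 : (t * (m i : L) * t⁻¹)⁻¹ * (t * (m i : L)) = t := by group
        rw [e1]; exact ht)
      have ho := congrArg (fun x : N => orderOf (x : L)) hconj
      simp only [hm] at ho
      rw [show t * (m i : L) * t⁻¹ = MulAut.conj t (m i : L) from rfl, MulEquiv.orderOf_eq, hm] at ho
      exact hik ((show Function.Injective ps by decide) ho)
  · right
    have hH : HLy ≤ N := Subgroup.subgroupOf_eq_top.mp htop
    refine gen_top hH ?_
    have h2 : (Z : L ⧸ N) * (Z : L ⧸ N) = 1 := by
      rw [← QuotientGroup.mk_mul, QuotientGroup.eq_one_iff, z_sq]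
      exact hH (ev_H rfl)
    have h3 : (Z : L ⧸ N) * ((Z : L ⧸ N) * (Z : L ⧸ N)) = 1 := by
      have hl := congrArg (QuotientGroup.mk' N) LyOrbitLoops41.loop0
      rw [map_one, LyOrbitLoops41.fl_cons (by decide), LyOrbitLoops41.fl_cons (by decide),
        LyOrbitLoops41.fl_cons (by decide), LyOrbitLoops41.fl_nil] at hl
      have hq : ∀ w, okW w = true → QuotientGroup.mk' N (ev w) = 1 := fun w hw =>
        (QuotientGroup.eq_one_iff _).mpr (hH (ev_H hw))
      simp only [map_mul, map_one, hq _ (by decide : okW [10, 10, 0, 1, 1] = true),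
        hq _ (by decide : okW [0, 0, 10, 10, 0, 1, 1] = true), mul_one] at hl
      exact hl
    rw [← QuotientGroup.eq_one_iff]
    rwa [h2, mul_one] at h3

end Cfsg.Agent.LyOrbitIndex41
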