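import Cfsg.Agent.Lib.LyRep64
import Cfsg.Agent.Lib.LyOrbitIndex41
import Cfsg.Agent.Lib.LyCentNodes46
import Cfsg.Agent.Lib.LyCentComm46
import Cfsg.Agent.Lib.LyCentPairA46
import Cfsg.Agent.Lib.LyCentPairB46
import Cfsg.Agent.Lib.LyCentPairC46

/-!
An involution of G2(5) in the presented Lyons group and nine elements centralising it that satisfy the relations
of the three-cycles of Carmichael modulo the involution, checked in the 111-dimensional representation.
-/

set_option autoImplicit false
set_option maxRecDepth 100000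

namespace Cfsg.Agent.LyCentRep46

open Cfsg.Agent.LyG2Five64 Cfsg.Agent.LyOrbitCore41
open Cfsg.Agent.LyRepChain64 hiding ok_of
open Cfsg.Agent.LyRep64 Cfsg.Agent.LyRepCore64

/-- The letters of the representation in the group. -/
noncomputable def lt : ℕ → L
  | 0 => mk Cfsg.Spor.Ly.a
  | 1 => (mk Cfsg.Spor.Ly.a)⁻¹
  | 2 => mk Cfsg.Spor.Ly.b
  | 3 => (mk Cfsg.Spor.Ly.b)⁻¹
  | 6 => mk Cfsg.Spor.Ly.d
  | 7 => (mk Cfsg.Spor.Ly.d)⁻¹
  | 8 => Z
  | 9 => Z⁻¹
  | 11 => mk Cfsg.Spor.Ly.c5
  | 12 => (mk Cfsg.Spor.Ly.c5)⁻¹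
  | _ => 1

/-- The matrix of an element is a stored one. -/
def Good (x : L) (k : ℕ) : Prop :=
  k < 30 ∧ (rho x : Matrix (Fin 111) (Fin 111) (ZMod 5)) = Mg LyCentData46.G k

theorem len_gens : LyRepData64.gens.length = 13 := by decide +kernel

theorem len_G : LyCentData46.G.length = 30 := by decide +kernel

theorem good_letter {x : L} {k : ℕ} (hk : k < 13) (h : rho x = LyRep64.U k) : Good x k := by
  refine ⟨by omega, ?_⟩
  rw [h, coe_U hk]
  simp only [LyRepChain64.M, Mg, LyCentData46.G, List.getD_eq_getElem?_getD]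
  rw [List.getElem?_append_left (len_gens ▸ hk)]

theorem good0 : Good (lt 0) 0 := good_letter (by norm_num) (by
  show rho (mk Cfsg.Spor.Ly.a) = _
  rw [rho_mk]; exact FreeGroup.lift_apply_of)

theorem good1 : Good (lt 1) 1 := good_letter (by norm_num) (by
  show rho (mk Cfsg.Spor.Ly.a)⁻¹ = _
  rw [map_inv, rho_mk, holds.inv0]; exact congrArg _ FreeGroup.lift_apply_of)

theorem good2 : Good (lt 2) 2 := good_letter (by norm_num) (by
  show rho (mk Cfsg.Spor.Ly.b) = _
  rw [rho_mk]; exact FreeGroup.lift_apply_of)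

theorem good3 : Good (lt 3) 3 := good_letter (by norm_num) (by
  show rho (mk Cfsg.Spor.Ly.b)⁻¹ = _
  rw [map_inv, rho_mk, holds.inv2]; exact congrArg _ FreeGroup.lift_apply_of)

theorem good6 : Good (lt 6) 6 := good_letter (by norm_num) (by
  show rho (mk Cfsg.Spor.Ly.d) = _
  rw [rho_mk]; exact FreeGroup.lift_apply_of)

theorem good7 : Good (lt 7) 7 := good_letter (by norm_num) (by
  show rho (mk Cfsg.Spor.Ly.d)⁻¹ = _
  rw [map_inv, rho_mk, holds.inv6]; exact congrArg _ FreeGroup.lift_apply_of)

theorem good8 : Good (lt 8) 8 := good_letter (by norm_num) (by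
  show rho (mk Cfsg.Spor.Ly.z) = _
  rw [rho_mk]; exact FreeGroup.lift_apply_of)

theorem good9 : Good (lt 9) 9 := good_letter (by norm_num) (by
  show rho (mk Cfsg.Spor.Ly.z)⁻¹ = _
  rw [map_inv, rho_mk, holds.inv8]; exact congrArg _ FreeGroup.lift_apply_of)

theorem good11 : Good (lt 11) 11 := good_letter (by norm_num) (by
  show rho (mk Cfsg.Spor.Ly.c5) = _
  rw [rho_mk]; exact FreeGroup.lift_apply_of)

theorem good12 : Good (lt 12) 12 := good_letter (by norm_num) (by
  show rho (mk Cfsg.Spor.Ly.c5)⁻¹ = _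
  rw [map_inv, rho_mk, holds.inv11]; exact congrArg _ FreeGroup.lift_apply_of)

theorem prod_good {xs : List L} {ks : List ℕ} (h : List.Forall₂ Good xs ks) :
    (∀ k ∈ ks, k < 30) ∧
      (rho xs.prod : Matrix (Fin 111) (Fin 111) (ZMod 5)) = (ks.map (Mg LyCentData46.G)).prod := by
  induction h with
  | nil => simp
  | cons hg _ ih =>
    refine ⟨List.forall_mem_cons.mpr ⟨hg.1, ih.1⟩, ?_⟩
    rw [List.prod_cons, map_mul, Units.val_mul, hg.2, ih.2, List.map_cons, List.prod_cons]

theorem same_good {xs : List L} {ks ls : List ℕ} (h : List.Forall₂ Good xs ks) (hl : ∀ k ∈ ls, k < 30)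
    (hs : sameWord LyCentData46.G ls ks = true) :
    (ls.map (Mg LyCentData46.G)).prod = (rho xs.prod : Matrix (Fin 111) (Fin 111) (ZMod 5)) := by
  rw [(prod_good h).2]
  exact sameWord_sound (fun g hg => LyRepChain64.ok_of LyCentData46.G_ok (len_G ▸ hl g hg))
    (fun g hg => LyRepChain64.ok_of LyCentData46.G_ok (len_G ▸ (prod_good h).1 g hg)) hs

theorem good_node {xs : List L} {ks : List ℕ} {k : ℕ} (h : List.Forall₂ Good xs ks) (hk : k < 30)
    (hs : sameWord LyCentData46.G [k] ks = true) : Good xs.prod k := by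
  refine ⟨hk, ?_⟩
  rw [← same_good h (by simpa using hk) hs]
  simp

theorem rho_injective : Function.Injective rho := by
  haveI := LyOrbitIndex41.simple
  rcases Subgroup.Normal.eq_bot_or_eq_top (MonoidHom.normal_ker rho) with e | e
  · exact (MonoidHom.ker_eq_bot_iff _).1 e
  · exfalso
    have h : rho (mk Cfsg.Spor.Ly.a) = 1 := by rw [← MonoidHom.mem_ker, e]; exact Subgroup.mem_top _
    rw [rho_mk] at h
    exact U0_ne (FreeGroup.lift_apply_of.symm.trans h)

theorem eq_good {xs ys : List L} {ks ls : List ℕ} (h : List.Forall₂ Good xs ks) (h' : List.Forall₂ Good ys ls)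
    (hs : sameWord LyCentData46.G ks ls = true) : xs.prod = ys.prod := by
  refine rho_injective (Units.ext ?_)
  rw [← same_good h' (prod_good h).1 hs, (prod_good h).2]

/-- element 13 -/
noncomputable def n13 : L := [(lt 0), (lt 0), (lt 0), (lt 0)].prod

theorem good13 : Good n13 13 :=
  good_node (.cons good0 (.cons good0 (.cons good0 (.cons good0 List.Forall₂.nil)))) (by norm_num) LyCentNodes46.node13

/-- element 14 -/
noncomputable def n14 : L := [(lt 2), (lt 1), (lt 9), (lt 11), (lt 6)].prod

theorem good14 : Good n14 14 :=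
  good_node (.cons good2 (.cons good1 (.cons good9 (.cons good11 (.cons good6 List.Forall₂.nil))))) (by norm_num) LyCentNodes46.node14

/-- element 15 -/
noncomputable def n15 : L := [n14, n14].prod

theorem good15 : Good n15 15 :=
  good_node (.cons good14 (.cons good14 List.Forall₂.nil)) (by norm_num) LyCentNodes46.node15

/-- element 16 -/
noncomputable def n16 : L := [n15, n15].prod

theorem good16 : Good n16 16 :=
  good_node (.cons good15 (.cons good15 List.Forall₂.nil)) (by norm_num) LyCentNodes46.node16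

/-- element 17 -/
noncomputable def n17 : L := [n16, n15, n14].prod

theorem good17 : Good n17 17 :=
  good_node (.cons good16 (.cons good15 (.cons good14 List.Forall₂.nil))) (by norm_num) LyCentNodes46.node17

/-- element 18 -/
noncomputable def n18 : L := [n17, n17].prod

theorem good18 : Good n18 18 :=
  good_node (.cons good17 (.cons good17 List.Forall₂.nil)) (by norm_num) LyCentNodes46.node18

/-- element 19 -/
noncomputable def n19 : L := [(lt 1), n17, (lt 0)].prod

theorem good19 : Good n19 19 :=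
  good_node (.cons good1 (.cons good17 (.cons good0 List.Forall₂.nil))) (by norm_num) LyCentNodes46.node19

/-- element 20 -/
noncomputable def n20 : L := [(lt 12), n17, (lt 11)].prod

theorem good20 : Good n20 20 :=
  good_node (.cons good12 (.cons good17 (.cons good11 List.Forall₂.nil))) (by norm_num) LyCentNodes46.node20

/-- element 21 -/
noncomputable def n21 : L := [(lt 12), n19, (lt 11)].prod

theorem good21 : Good n21 21 :=
  good_node (.cons good12 (.cons good19 (.cons good11 List.Forall₂.nil))) (by norm_num) LyCentNodes46.node21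

/-- element 22 -/
noncomputable def n22 : L := [(lt 7), n21, (lt 6)].prod

theorem good22 : Good n22 22 :=
  good_node (.cons good7 (.cons good21 (.cons good6 List.Forall₂.nil))) (by norm_num) LyCentNodes46.node22

/-- element 23 -/
noncomputable def n23 : L := [(lt 12), n18, (lt 11)].prod

theorem good23 : Good n23 23 :=
  good_node (.cons good12 (.cons good18 (.cons good11 List.Forall₂.nil))) (by norm_num) LyCentNodes46.node23

/-- element 24 -/
noncomputable def n24 : L := [(lt 7), n23, (lt 6)].prod

theorem good24 : Good n24 24 :=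
  good_node (.cons good7 (.cons good23 (.cons good6 List.Forall₂.nil))) (by norm_num) LyCentNodes46.node24

/-- element 25 -/
noncomputable def n25 : L := [(lt 9), n24, (lt 8)].prod

theorem good25 : Good n25 25 :=
  good_node (.cons good9 (.cons good24 (.cons good8 List.Forall₂.nil))) (by norm_num) LyCentNodes46.node25

/-- element 26 -/
noncomputable def n26 : L := [(lt 3), n25, (lt 2)].prod

theorem good26 : Good n26 26 :=
  good_node (.cons good3 (.cons good25 (.cons good2 List.Forall₂.nil))) (by norm_num) LyCentNodes46.node26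

/-- element 27 -/
noncomputable def n27 : L := [(lt 2), n25, (lt 3)].prod

theorem good27 : Good n27 27 :=
  good_node (.cons good2 (.cons good25 (.cons good3 List.Forall₂.nil))) (by norm_num) LyCentNodes46.node27

/-- element 28 -/
noncomputable def n28 : L := [(lt 3), n26, (lt 2)].prod

theorem good28 : Good n28 28 :=
  good_node (.cons good3 (.cons good26 (.cons good2 List.Forall₂.nil))) (by norm_num) LyCentNodes46.node28

/-- element 29 -/
noncomputable def n29 : L := [(lt 2), n27, (lt 3)].prod

theorem good29 : Good n29 29 :=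
  good_node (.cons good2 (.cons good27 (.cons good3 List.Forall₂.nil))) (by norm_num) LyCentNodes46.node29

/-- The involution. -/
noncomputable def tt : L := n13

theorem tt_mem : tt ∈ HLy :=
  Subgroup.list_prod_mem _ fun x hx => by
    simp only [List.mem_cons, List.not_mem_nil, or_false, or_self] at hx
    subst hx
    exact letLy_H (i := 0) (by norm_num)

theorem tt_sq : tt * tt = 1 := by
  have h := eq_good (.cons good13 (.cons good13 .nil)) (.nil : List.Forall₂ Good ([] : List L) []) LyCentNodes46.t_sq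
  simpa [tt] using h

theorem tt_ne : tt ≠ 1 := by
  intro e
  obtain ⟨i, hi, h⟩ := List.any_eq_true.mp LyCentNodes46.t_ne
  refine notOne_sound (List.mem_range.1 hi) (List.mem_range.1 hi)
    (fun g hg => LyRepChain64.ok_of LyCentData46.G_ok (by rw [List.mem_singleton.mp hg, len_G]; norm_num)) h ?_
  rw [List.map_singleton, List.prod_singleton]
  have h2 := good13.2
  rw [show n13 = 1 from e, map_one, Units.val_one] at h2
  exact h2.symm

/-- The nine elements. -/
noncomputable def yy : Fin 9 → L := ![n17, n19, n20, n22, n25, n26, n27, n28, n29]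

/-- Their indices. -/
def yi : Fin 9 → ℕ := ![17, 19, 20, 22, 25, 26, 27, 28, 29]

theorem good_yy : ∀ i, Good (yy i) (yi i) := by
  intro i
  fin_cases i
  exacts [good17, good19, good20, good22, good25, good26, good27, good28, good29]

theorem yy_comm (i : Fin 9) : yy i * tt = tt * yy i := by
  have hs : sameWord LyCentData46.G [yi i, 13] [13, yi i] = true := by
    fin_cases i
    exacts [LyCentComm46.comm0, LyCentComm46.comm1, LyCentComm46.comm2, LyCentComm46.comm3, LyCentComm46.comm4, LyCentComm46.comm5, LyCentComm46.comm6, LyCentComm46.comm7, LyCentComm46.comm8]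
  have h := eq_good (.cons (good_yy i) (.cons good13 .nil)) (.cons good13 (.cons (good_yy i) .nil)) hs
  simpa [tt] using h

theorem yy_cube (i : Fin 9) : yy i * yy i * yy i = 1 := by
  have hs : sameWord LyCentData46.G [yi i, yi i, yi i] [] = true := by
    fin_cases i
    exacts [LyCentComm46.cube0, LyCentComm46.cube1, LyCentComm46.cube2, LyCentComm46.cube3, LyCentComm46.cube4, LyCentComm46.cube5, LyCentComm46.cube6, LyCentComm46.cube7, LyCentComm46.cube8]
  have h := eq_good (.cons (good_yy i) (.cons (good_yy i) (.cons (good_yy i) .nil)))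
    (.nil : List.Forall₂ Good ([] : List L) []) hs
  simpa [mul_assoc] using h

theorem pair_all : ∀ i j : ℕ, (hi : i < j) → (hj : j < 9) → sameWord LyCentData46.G
    [yi ⟨i, hi.trans hj⟩, yi ⟨j, hj⟩, yi ⟨i, hi.trans hj⟩, yi ⟨j, hj⟩] [13] = true
  | 0, 1, _, _ => LyCentPairA46.pair0_1
  | 0, 2, _, _ => LyCentPairA46.pair0_2
  | 0, 3, _, _ => LyCentPairA46.pair0_3
  | 0, 4, _, _ => LyCentPairA46.pair0_4
  | 0, 5, _, _ => LyCentPairA46.pair0_5
  | 0, 6, _, _ => LyCentPairA46.pair0_6
  | 0, 7, _, _ => LyCentPairA46.pair0_7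
  | 0, 8, _, _ => LyCentPairA46.pair0_8
  | 1, 2, _, _ => LyCentPairA46.pair1_2
  | 1, 3, _, _ => LyCentPairA46.pair1_3
  | 1, 4, _, _ => LyCentPairA46.pair1_4
  | 1, 5, _, _ => LyCentPairA46.pair1_5
  | 1, 6, _, _ => LyCentPairB46.pair1_6
  | 1, 7, _, _ => LyCentPairB46.pair1_7
  | 1, 8, _, _ => LyCentPairB46.pair1_8
  | 2, 3, _, _ => LyCentPairB46.pair2_3
  | 2, 4, _, _ => LyCentPairB46.pair2_4
  | 2, 5, _, _ => LyCentPairB46.pair2_5
  | 2, 6, _, _ => LyCentPairB46.pair2_6
  | 2, 7, _, _ => LyCentPairB46.pair2_7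
  | 2, 8, _, _ => LyCentPairB46.pair2_8
  | 3, 4, _, _ => LyCentPairB46.pair3_4
  | 3, 5, _, _ => LyCentPairB46.pair3_5
  | 3, 6, _, _ => LyCentPairB46.pair3_6
  | 3, 7, _, _ => LyCentPairC46.pair3_7
  | 3, 8, _, _ => LyCentPairC46.pair3_8
  | 4, 5, _, _ => LyCentPairC46.pair4_5
  | 4, 6, _, _ => LyCentPairC46.pair4_6
  | 4, 7, _, _ => LyCentPairC46.pair4_7
  | 4, 8, _, _ => LyCentPairC46.pair4_8
  | 5, 6, _, _ => LyCentPairC46.pair5_6
  | 5, 7, _, _ => LyCentPairC46.pair5_7
  | 5, 8, _, _ => LyCentPairC46.pair5_8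
  | 6, 7, _, _ => LyCentPairC46.pair6_7
  | 6, 8, _, _ => LyCentPairC46.pair6_8
  | 7, 8, _, _ => LyCentPairC46.pair7_8
  | i, j + 9, _, h => absurd h (by omega)
  | i + 0, 0, h, _ => absurd h (by omega)
  | i + 1, 1, h, _ => absurd h (by omega)
  | i + 2, 2, h, _ => absurd h (by omega)
  | i + 3, 3, h, _ => absurd h (by omega)
  | i + 4, 4, h, _ => absurd h (by omega)
  | i + 5, 5, h, _ => absurd h (by omega)
  | i + 6, 6, h, _ => absurd h (by omega)
  | i + 7, 7, h, _ => absurd h (by omega)
  | i + 8, 8, h, _ => absurd h (by omega)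

theorem yy_pair (i j : Fin 9) (hij : i ≠ j) : yy i * yy j * (yy i * yy j) = tt := by
  have p : ∀ i j : Fin 9, i < j → yy i * yy j * (yy i * yy j) = tt := fun i j h => by
    have e := eq_good (.cons (good_yy i) (.cons (good_yy j) (.cons (good_yy i) (.cons (good_yy j) .nil))))
      (.cons good13 .nil) (pair_all i.1 j.1 h j.2)
    simpa [tt, mul_assoc] using e
  rcases lt_or_gt_of_ne hij with h | h
  · exact p i j h
  · calc yy i * yy j * (yy i * yy j) = (yy j)⁻¹ * (yy j * yy i * (yy j * yy i)) * yy j := by group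
      _ = (yy j)⁻¹ * (yy j * tt) := by rw [p j i h, mul_assoc, ← yy_comm j]
      _ = tt := inv_mul_cancel_left _ _

end Cfsg.Agent.LyCentRep46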