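import Cfsg.Agent.Lib.LyCentAbstract46
import Cfsg.Agent.Lib.LyCentBound46
import Cfsg.Agent.Lib.LyCentRep46

/-!
The presented Lyons group has an involution, in G2(5), whose centraliser is a non-split double cover of the
alternating group of degree eleven.
-/

set_option autoImplicit false
set_option maxRecDepth 100000

namespace Cfsg.Agent.LyCentCover46

open Cfsg

/-- The centraliser of the involution is the double cover. -/
theorem cover : LyCentRep46.tt ∈ LyG2Five64.HLy ∧ orderOf LyCentRep46.tt = 2 ∧
    IsNonsplitDoubleCover (Subgroup.centralizer ({LyCentRep46.tt} : Set LyOrbitCore41.L)) (alternatingGroup (Fin 11)) := by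
  obtain ⟨tH, ht, htt⟩ : ∃ tH : LyG2Five64.HLy, orderOf tH = 2 ∧ (tH : LyOrbitCore41.L) = LyCentRep46.tt :=
    ⟨⟨LyCentRep46.tt, LyCentRep46.tt_mem⟩, orderOf_eq_prime
      (Subtype.ext (by rw [pow_two]; exact LyCentRep46.tt_sq))
      (fun e => LyCentRep46.tt_ne (congrArg Subtype.val e)), rfl⟩
  haveI := LyOrbitIndex41.finite_L
  haveI : IsSimpleGroup LyOrbitCore41.L := LyOrbitIndex41.simple
  haveI : Nontrivial LyOrbitCore41.L := IsSimpleGroup.toNontrivial
  set C : Subgroup LyOrbitCore41.L := LyCentBound46.Cent tH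
  let tC : C := ⟨(tH : LyOrbitCore41.L), Subgroup.mem_centralizer_singleton_iff.mpr rfl⟩
  let yC : Fin 9 → C := fun i => ⟨LyCentRep46.yy i, Subgroup.mem_centralizer_singleton_iff.mpr
    (by rw [htt, LyCentRep46.yy_comm])⟩
  have hD : LyCentAbstract46.Data tC yC :=
    { ord := by
        rw [← Subgroup.orderOf_coe]
        exact (Subgroup.orderOf_coe tH).trans ht
      central := fun c => Subtype.ext (Subgroup.mem_centralizer_singleton_iff.mp c.2)
      cube := fun i => Subtype.ext (LyCentRep46.yy_cube i)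
      pair := fun i j hij => Subtype.ext ((LyCentRep46.yy_pair i j hij).trans htt.symm) }
  have hdvd : Nat.card C ∣ 51765179004000000 := LyOrbitIndex41.order ▸ Subgroup.card_subgroup_dvd_card C
  have hcover : IsNonsplitDoubleCover C (alternatingGroup (Fin 11)) :=
    hD.result (LyCentBound46.cent_le tH ht) hdvd (LyCentBound46.PH tH)
      (fun A _ _ hA f x => LyCentBound46.no_quotient tH ht A hA f x)
      (fun d hd => LyCentBound46.self_centralizing tH ht d hd)
  have ho : orderOf (tH : LyOrbitCore41.L) = 2 := (Subgroup.orderOf_coe tH).trans ht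
  have key : (tH : LyOrbitCore41.L) ∈ LyG2Five64.HLy ∧ orderOf (tH : LyOrbitCore41.L) = 2 ∧
      IsNonsplitDoubleCover (Subgroup.centralizer ({(tH : LyOrbitCore41.L)} : Set LyOrbitCore41.L))
        (alternatingGroup (Fin 11)) := ⟨tH.2, ho, hcover⟩
  rwa [htt] at key

/-- The Lyons group has such an involution. -/
theorem exists_cover : ∃ t : Spor.Ly, orderOf t = 2 ∧
    IsNonsplitDoubleCover (Subgroup.centralizer ({t} : Set Spor.Ly)) (alternatingGroup (Fin 11)) :=
  ⟨LyCentRep46.tt, cover.2.1, cover.2.2⟩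

end Cfsg.Agent.LyCentCover46
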