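import Cfsg.Agent.Lib.LyCentReg41

/-!
An upper bound for the order of the centraliser of the involution `a⁴` in the presented Lyons group: fixed
points on the cosets of G2(5), orbit by orbit, and the centraliser inside G2(5) along the parabolic chain.
-/

set_option autoImplicit false
set_option maxRecDepth 100000
set_option maxHeartbeats 1000000

namespace Cfsg.Agent.LyCentFix41

open Cfsg.Agent.LyG2Five64 Cfsg.Agent.LyOrbitCore41 Cfsg.Agent.LyOrbitCover41 Cfsg.Agent.LyOrbitClosed41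
open Cfsg.Agent.LyOrbitFacts41 Cfsg.Agent.LyOrbitCount41 Cfsg.Agent.LyOrbitIndex41
open Cfsg.Agent.LyG2Cert64 (certG certP certL)

/-- The involution. -/
noncomputable def T : L := ev [0, 0, 0, 0]

theorem T_H : T ∈ HLy := ev_H rfl

theorem T_P : T ∈ P := ev_P (by decide)

theorem T_sq : T * T = 1 := by
  rw [T, ← ev_append, ← ev_nil]
  exact eq_ev (by decide +kernel)

theorem T_ne : T ≠ 1 := by
  intro e
  have hv : (2 : ℕ) < 3906 := by norm_num
  obtain ⟨u, hu, hne⟩ : ∃ u < 3906, walkG [0, 0, 0, 0] u ≠ u := ⟨3, by norm_num, by decide +kernel⟩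
  obtain ⟨h1, e1⟩ := walk_pt (w := [0, 0, 0, 0]) rfl hu
  refine hne (pt'_inj h1 hu ?_)
  rw [← e1]
  show (T)⁻¹ • pt' u = pt' u
  rw [e, inv_one, one_smul]

/-- The centraliser of the involution in the subgroup. -/
noncomputable def CH : Subgroup L := Subgroup.centralizer {T} ⊓ HLy

theorem CH_comm {h : L} (hh : h ∈ CH) : T * h = h * T :=
  (Subgroup.mem_centralizer_singleton_iff.mp (Subgroup.mem_inf.mp hh).1).symm

theorem card_orbit_stab {Γ Ω : Type*} [Group Γ] [MulAction Γ Ω] (x : Ω) {S : Set Ω} {m n : ℕ}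
    (hS : S.Finite) (h : MulAction.orbit Γ x ⊆ S) (hm : S.ncard ≤ m)
    (hn : Nat.card (MulAction.stabilizer Γ x) ≤ n) : Nat.card Γ ≤ m * n := by
  rw [← Nat.card_congr (MulAction.orbitProdStabilizerEquivGroup Γ x), Nat.card_prod, Nat.card_coe_set_eq]
  exact Nat.mul_le_mul ((Set.ncard_le_ncard h hS).trans hm) hn

/-! ### the five cosets inside the parabolic subgroup -/

/-- The image of a coset under a letter. -/
noncomputable def img5 (l q : ℕ) : ℕ :=
  ((fiveW.find? fun x => Nat.beq x.1 l && Nat.beq x.2.1 q).map fun x => x.2.2.1).getD 5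

/-- The image of a coset under a word. -/
noncomputable def act5 : List ℕ → ℕ → ℕ := fun w q => w.foldr img5 q

theorem img5_spec {l q : ℕ} (hl : l ∈ certG.sub) (hq : q < 5) :
    img5 l q < 5 ∧ ∃ k ∈ K0, letLy l * ev (p5.getD q []) = ev (p5.getD (img5 l q) []) * k := by
  have hW := five_ok
  simp only [uOk, Bool.and_eq_true, List.all_eq_true, List.any_eq_true, List.mem_range, Nat.blt_eq, Nat.beq_eq] at hW
  cases hf : fiveW.find? fun x => Nat.beq x.1 l && Nat.beq x.2.1 q with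
  | none =>
    exfalso
    obtain ⟨x, hx, h1, h2⟩ := hW.2 l hl q hq
    have := List.find?_eq_none.mp hf x hx
    simp [h1, h2] at this
  | some x =>
    have hx := List.mem_of_find?_eq_some hf
    have hp := List.find?_some hf
    simp only [Bool.and_eq_true, Nat.beq_eq] at hp
    obtain ⟨⟨hk, hlt⟩, he⟩ := hW.1 x hx
    have himg : img5 l q = x.2.2.1 := by simp [img5, hf]
    rw [himg]
    refine ⟨hlt, ev (kw x.2.2.2), kw_K0 hk, ?_⟩
    have := eq_ev he
    rwa [ev_cons, ev_append, hp.1, hp.2] at this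

theorem act5_spec : ∀ {w : List ℕ}, (∀ i ∈ w, i ∈ certG.sub) → ∀ {q : ℕ}, q < 5 →
    act5 w q < 5 ∧ ∃ k ∈ K0, ev w * ev (p5.getD q []) = ev (p5.getD (act5 w q) []) * k := by
  intro w
  induction w with
  | nil => intro _ q hq; exact ⟨hq, 1, one_mem _, by simp [act5, ev_nil]⟩
  | cons i w ih =>
    intro hw q hq
    obtain ⟨h1, k, hk, e⟩ := ih (fun j hj => hw j (List.mem_cons_of_mem _ hj)) hq
    obtain ⟨h2, k', hk', e'⟩ := img5_spec (hw i List.mem_cons_self) h1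
    refine ⟨h2, k' * k, mul_mem hk' hk, ?_⟩
    show ev (i :: w) * _ = ev (p5.getD (img5 i (act5 w q)) []) * (k' * k)
    rw [ev_cons, mul_assoc, e, ← mul_assoc, e', mul_assoc]

/-- Fixing all five cosets. -/
def Triv (x : L) : Prop := ∀ q < 5, (ev (p5.getD q []))⁻¹ * x * ev (p5.getD q []) ∈ K

theorem act5_fix {w : List ℕ} (hw : ∀ i ∈ w, i ∈ certG.sub) {q : ℕ} (hq : q < 5)
    (h : (ev (p5.getD q []))⁻¹ * ev w * ev (p5.getD q []) ∈ K) : act5 w q = q := by
  obtain ⟨h1, k, hk, e⟩ := act5_spec hw hq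
  refine p5_inj h1 hq (Subgroup.mem_inf.mp hk).1 h ?_
  rw [← e]; group

theorem T_triv : Triv T := by
  intro q hq
  have h : (List.range 5).all (fun q => Nat.beq (act5 [0, 0, 0, 0] q) q) = true := by decide +kernel
  obtain ⟨-, k, hk, e⟩ := act5_spec (w := [0, 0, 0, 0]) (by decide) hq
  rw [Nat.beq_eq.mp (List.all_eq_true.mp h q (List.mem_range.2 hq))] at e
  rw [T, mul_assoc, e, inv_mul_cancel_left]
  exact (Subgroup.mem_inf.mp hk).1

theorem triv_conj {x y : L} (hx : Triv x) (hy : y ∈ P) : Triv (y * x * y⁻¹) := by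
  intro q hq
  obtain ⟨q', hq', k, hk, e⟩ := P_five five_ok (mul_mem (inv_mem hy) (p5_P (p := q)))
  have hk' := (Subgroup.mem_inf.mp hk).1
  have e2 : (ev (p5.getD q []))⁻¹ * (y * x * y⁻¹) * ev (p5.getD q []) =
      k⁻¹ * ((ev (p5.getD q' []))⁻¹ * x * ev (p5.getD q' [])) * k := by
    have e3 : ev (p5.getD q []) = y * (ev (p5.getD q' []) * k) := by rw [← e, mul_inv_cancel_left]
    rw [e3]; group
  rw [e2]
  exact mul_mem (mul_mem (inv_mem hk') (hx q' hq')) hk'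

/-! ### the fixed points on the cosets of the parabolic subgroup -/

/-- The fixed points, with a word to each and the element it gives. -/
def fdata : List (ℕ × List ℕ × List ℕ) := [
  (0, [], [0, 0, 0, 0]),
  (1, [7], [0, 0, 0, 0]),
  (2, [8], [0, 1, 1, 0, 1, 1, 0, 1, 4, 9, 1]),
  (11, [7, 6], [0, 0, 0, 0]),
  (12, [7, 15], [0, 0, 0, 0]),
  (14, [8, 0], [0, 1, 1, 0, 1, 1, 0, 1, 4, 9, 1]),
  (17, [8, 7], [0, 1, 1, 0, 1, 1, 0, 1, 4, 9, 1]),
  (118, [7, 6, 0], [0, 0, 0, 0]),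
  (119, [7, 6, 9], [0, 0, 0, 0]),
  (135, [8, 0, 1], [0, 1, 1, 0, 1, 1, 0, 1, 4, 9, 1]),
  (136, [8, 0, 10], [0, 1, 1, 0, 1, 1, 0, 1, 4, 9, 1]),
  (139, [8, 0, 7], [0, 1, 1, 0, 1, 1, 0, 1, 4, 9, 1]),
  (155, [8, 7, 6], [0, 1, 1, 0, 1, 1, 0, 1, 4, 9, 1]),
  (156, [8, 7, 15], [0, 1, 1, 0, 1, 1, 0, 1, 4, 9, 1]),
  (643, [7, 4, 0, 8], [1, 9, 10, 9, 10, 10]),
  (747, [7, 4, 7, 12], [1, 0, 1, 1, 0, 1, 4, 12, 1, 13]),
  (859, [7, 13, 8, 13], [0, 1, 9, 10, 9, 10, 10, 9, 10]),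
  (1103, [7, 8, 2, 3], [0, 1, 9, 10, 9, 10, 10, 9, 10, 2, 13, 2, 14]),
  (1109, [7, 8, 11, 13], [0, 1, 0, 1, 1, 0, 1, 1, 9, 1]),
  (1171, [8, 0, 1, 0], [0, 1, 1, 0, 1, 1, 0, 1, 4, 9, 1]),
  (1174, [8, 0, 10, 0], [0, 1, 1, 0, 1, 1, 0, 1, 4, 9, 1]),
  (1177, [8, 0, 10, 7], [0, 1, 1, 0, 1, 1, 0, 1, 4, 9, 1]),
  (1185, [8, 0, 7, 6], [0, 1, 1, 0, 1, 1, 0, 1, 4, 9, 1]),
  (1186, [8, 0, 7, 15], [0, 1, 1, 0, 1, 1, 0, 1, 4, 9, 1]),
  (1255, [8, 7, 4, 14], [1, 1, 0, 10, 0, 1, 1, 11, 12, 11, 12]),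
  (1258, [8, 7, 5, 13], [9, 10, 9, 10, 6, 14, 13]),
  (1262, [8, 7, 6, 0], [0, 1, 1, 0, 1, 1, 0, 1, 4, 9, 1]),
  (1819, [7, 2, 13, 14, 8], [0, 1, 9, 10, 9, 10, 10, 9]),
  (1850, [7, 2, 5, 9, 8], [1, 9, 10, 9, 10, 10]),
  (2040, [7, 2, 7, 3, 14], [10, 0, 10, 3, 2, 4, 0]),
  (2431, [7, 11, 5, 2, 8], [0, 1, 9, 10, 9, 10, 10, 9]),
  (2473, [7, 11, 14, 8, 11], [0, 1, 9, 10, 9, 10, 10, 9, 10]),
  (3155, [7, 4, 0, 10, 8], [1, 0, 1, 1, 0, 1, 1]),
  (3164, [7, 4, 0, 8, 0], [1, 9, 10, 9, 10, 10]),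
  (3165, [7, 4, 0, 8, 9], [1, 9, 10, 9, 10, 10]),
  (3166, [7, 4, 0, 8, 6], [1, 9, 10, 9, 10, 10]),
  (3322, [7, 4, 8, 13, 11], [0, 1, 0, 1, 1, 0, 1, 1, 9, 1]),
  (3352, [7, 13, 2, 2, 8], [0, 1, 9, 10, 9, 10, 10, 9]),
  (3382, [7, 13, 14, 8, 2], [0, 10, 9, 1, 9, 1, 1, 9]),
  (3384, [7, 13, 6, 8, 5], [0, 10, 9, 1, 9, 1, 1, 9]),
  (3386, [7, 13, 8, 13, 9], [0, 1, 9, 10, 9, 10, 10, 9, 10]),
  (3517, [7, 14, 10, 14, 8], [0, 1, 0, 1, 1, 0, 1, 1, 9])]

/-- The check of the fixed points. -/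
noncomputable def fOk : Bool :=
  (fdata.all fun x => okW x.2.1 && Nat.blt x.1 3906 && Nat.beq (walkG x.2.1 0) x.1 &&
    x.2.2.all (fun i => certG.sub.contains i) &&
    same (x.2.1 ++ [0, 0, 0, 0] ++ invW x.2.1) x.2.2) &&
  CosetCertTable.allFrom (fun v => !(Nat.beq (walkG [0, 0, 0, 0] v) v) ||
    fdata.any (fun x => Nat.beq x.1 v)) 3906 0

theorem f_ok : fOk = true := by decide +kernel

theorem rp_repr {v : ℕ} {wd : List ℕ} (hw : okW wd = true) (h : walkG wd 0 = v) :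
    pt' v = QuotientGroup.mk (ev wd)⁻¹ := by
  obtain ⟨-, e⟩ := walk_pt hw (v := 0) (by norm_num)
  rw [h] at e
  rw [← e, pt', rp_zero, inv_one, MulAction.Quotient.smul_mk, smul_eq_mul, mul_one]

/-- An element of the subgroup carries the base point to a fixed point in the table, with its element. -/
theorem h_point {h : L} (hh : h ∈ HLy) (hP : h⁻¹ * T * h ∈ P) : ∃ x ∈ fdata, ∃ p ∈ P,
    h = (ev x.2.1)⁻¹ * p ∧ (∀ i ∈ x.2.2, i ∈ certG.sub) ∧ h⁻¹ * T * h = p⁻¹ * ev x.2.2 * p := by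
  obtain ⟨v, hv, κ, hκ, e⟩ := H_cover (inv_mem hh)
  have hpt : ((h : L) : L ⧸ P) = pt' v := by
    rw [pt', QuotientGroup.eq]
    rw [show h⁻¹ * (rp v)⁻¹ = κ by rw [e, mul_inv_cancel_right]]
    exact hκ
  have hfix : walkG [0, 0, 0, 0] v = v := by
    obtain ⟨h1, e1⟩ := walk_pt (w := [0, 0, 0, 0]) rfl hv
    refine pt'_inj h1 hv ?_
    rw [← e1, ← hpt]
    show T⁻¹ • ((h : L) : L ⧸ P) = _
    rw [MulAction.Quotient.smul_mk, QuotientGroup.eq, smul_eq_mul, mul_inv_rev, inv_inv]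
    exact hP
  have hf := f_ok
  simp only [fOk, Bool.and_eq_true, List.all_eq_true] at hf
  have hc := (CosetCertTable.allFrom_iff _ _ _).mp hf.2 v (Nat.zero_le _) (by omega)
  rw [hfix, Nat.beq_refl] at hc
  simp only [Bool.not_true, Bool.false_or, List.any_eq_true, Nat.beq_eq] at hc
  obtain ⟨x, hx, hxv⟩ := hc
  obtain ⟨⟨⟨⟨hok, -⟩, hw⟩, hsub⟩, hsame⟩ := hf.1 x hx
  rw [Nat.beq_eq, hxv] at hw
  rw [rp_repr hok hw, QuotientGroup.eq] at hpt
  refine ⟨x, hx, ev x.2.1 * h, ?_, by group, fun i hi => List.contains_iff_mem.mp (hsub i hi), ?_⟩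
  · have : ev x.2.1 * h = (h⁻¹ * (ev x.2.1)⁻¹)⁻¹ := by group
    rw [this]; exact inv_mem hpt
  · rw [← eq_ev hsame, ev_append, ev_append, ev_invW hok, T]; group

/-- The six points whose element fixes all five cosets. -/
noncomputable def good : List ℕ :=
  (fdata.filter fun x => (List.range 5).all fun q => Nat.beq (act5 x.2.2 q) q).map fun x => x.1

theorem good_len : good.length = 6 := by decide +kernel

theorem orbit_pt0 {h : L} (hh : h ∈ CH) :
    (h • pt' 0 : L ⧸ P) ∈ pt' '' {v | v ∈ good} := by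
  have hc := CH_comm hh
  have e0 : h⁻¹ * T * h = T := by rw [mul_assoc, hc, inv_mul_cancel_left]
  obtain ⟨x, hx, p, hp, eh, hsub, ec⟩ := h_point (Subgroup.mem_inf.mp hh).2 (by rw [e0]; exact T_P)
  have hf := f_ok
  simp only [fOk, Bool.and_eq_true, List.all_eq_true] at hf
  obtain ⟨⟨⟨⟨hok, -⟩, hw⟩, -⟩, -⟩ := hf.1 x hx
  have htriv : Triv (ev x.2.2) := by
    have : ev x.2.2 = p * T * p⁻¹ := by rw [← e0, ec]; group
    rw [this]
    exact triv_conj T_triv hp
  refine ⟨x.1, List.mem_map.mpr ⟨x, List.mem_filter.mpr ⟨hx, ?_⟩, rfl⟩, ?_⟩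
  · simp only [List.all_eq_true, List.mem_range, Nat.beq_eq]
    exact fun q hq => act5_fix hsub hq (htriv q hq)
  · rw [rp_repr hok (Nat.beq_eq.mp hw), pt', rp_zero, inv_one, MulAction.Quotient.smul_mk, QuotientGroup.eq,
      smul_eq_mul, mul_one, eh, inv_inv, mul_inv_cancel_left]
    exact hp

/-! ### inside the parabolic subgroup -/

/-- The letters of the second level. -/
noncomputable def yP (i : ℕ) : L := letLy (renP i)

/-- The bottom subgroup. -/
noncomputable def ML : Subgroup L := Subgroup.closure (letLy '' {i | i ∈ [0, 9, 1, 10]})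

theorem card_ML_le : Finite ML ∧ Nat.card ML ≤ 480 := by
  obtain ⟨fL, fP, fG, rL, rP, hsP, hL, hL', hG', hG, sP, sG⟩ := ren_facts
  have hbot : Subgroup.closure ((let2 ∘ renL) '' {i | i ∈ certL.sub}) = ⊥ := by
    simp [certL]
  haveI : Finite (Subgroup.closure ((let2 ∘ renL) '' {i | i ∈ certL.sub})) := by
    rw [hbot]; infer_instance
  obtain ⟨f1, c1⟩ := level (C := certL) LyG2All64.basicL LyG2All64.justL (let2 ∘ renL)
    (by simp [certL]) (fun i hi => (fL i hi).2.1)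
    (fun i hi => by
      show let2 (renL i) * let2 (renL (certL.iv i)) = 1
      rw [(fL i hi).2.2]; exact let2_iv (fL i hi).1)
    (fun w hw => by rw [← List.map_map]; exact let2_rels (rL w hw))
  rw [hbot, Subgroup.card_bot, mul_one] at c1
  set Q := Subgroup.closure ((let2 ∘ renL) '' {i | i < certL.L}) with hQ
  haveI := f1
  have hle : ML ≤ Q.map (MonoidHom.fst _ _) := by
    rw [ML, Subgroup.closure_le]
    rintro _ ⟨i, hi, rfl⟩
    obtain ⟨k, hk, rfl⟩ := hL' i hi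
    exact ⟨let2 (renL k), Subgroup.subset_closure ⟨k, hk, rfl⟩, rfl⟩
  haveI : Finite (Q.map (MonoidHom.fst Spor.Ly _)) :=
    Finite.of_surjective _ ((MonoidHom.fst Spor.Ly _).subgroupMap_surjective Q)
  have h1 : Nat.card ML ≤ Nat.card (Q.map (MonoidHom.fst Spor.Ly _)) :=
    Nat.card_le_card_of_injective _ (Subgroup.inclusion_injective hle)
  have h2 : Nat.card (Q.map (MonoidHom.fst Spor.Ly _)) ≤ Nat.card Q :=
    Nat.card_le_card_of_surjective _ ((MonoidHom.fst Spor.Ly _).subgroupMap_surjective Q)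
  refine ⟨Finite.of_injective _ (Subgroup.inclusion_injective hle), (h1.trans h2).trans ?_⟩
  refine c1.trans ?_
  simp [certL]

/-- The tree representatives of the second level. -/
noncomputable def rpP (u : ℕ) : L := UnitaryPres49Cert.rep certP yP u

theorem edgeP {u i : ℕ} (hu : u < 3125) (hi : i < 14) :
    certP.img u i < 3125 ∧ ∃ κ ∈ ML, rpP u * yP i = κ * rpP (certP.img u i) := by
  obtain ⟨fL, fP, fG, rL, rP, hsP, hL, hL', hG', hG, sP, sG⟩ := ren_facts
  constructor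
  · have h := LyG2All64.justP u hu i hi
    simp only [LyG2Check64.justE, CosetCertCore.force_eq, Bool.and_eq_true, Nat.blt_eq] at h
    exact h.1
  · exact LyG2Check64.edge_sound (K := ML) LyG2All64.basicP LyG2All64.justP
      (fun i hi => by
        show letLy (renP i) * letLy (renP (certP.iv i)) = 1
        rw [(fP i hi).2.2]; exact letLy_iv _ (fP i hi).1)
      (fun w hw => by
        show (w.map (letLy ∘ renP)).prod = 1
        rw [← List.map_map]; exact ly_rels _ (rP w hw))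
      (fun i hi => Subgroup.subset_closure ⟨renP i, hsP ▸ List.mem_map_of_mem hi, rfl⟩) _ u i hu hi rfl

theorem P_cover {x : L} (hx : x ∈ P) : ∃ u < 3125, ∃ κ ∈ ML, x = κ * rpP u := by
  suffices H : ∀ u < 3125, ∃ u' < 3125, ∃ κ ∈ ML, rpP u * x = κ * rpP u' by
    obtain ⟨u', hu', κ, hκ, e⟩ := H 0 (by norm_num)
    exact ⟨u', hu', κ, hκ, by rwa [rpP, UnitaryPres49Cert.rep_zero, one_mul] at e⟩
  obtain ⟨fL, fP, fG, rL, rP, hsP, hL, hL', hG', hG, sP, sG⟩ := ren_facts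
  have hl : ∀ i ∈ certG.sub, ∀ u < 3125, ∃ u' < 3125, ∃ κ ∈ ML, rpP u * letLy i = κ * rpP u' := by
    intro i hi u hu
    obtain ⟨k, hk, rfl⟩ := hG' i hi
    exact ⟨_, (edgeP hu hk).1, (edgeP hu hk).2⟩
  induction hx using Subgroup.closure_induction'' with
  | one => intro u hu; exact ⟨u, hu, 1, one_mem _, by simp⟩
  | mem x hx => obtain ⟨i, hi, rfl⟩ := hx; exact hl i hi
  | inv_mem x hx =>
    obtain ⟨i, hi, rfl⟩ := hx
    have hiv : ∀ i ∈ certG.sub, certG.iv i ∈ certG.sub := by decide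
    rw [inv_eq_of_mul_eq_one_right (letLy_iv i (sub_lt i hi))]
    exact hl _ (hiv i hi)
  | mul x y _ _ ihx ihy =>
    intro u hu
    obtain ⟨u1, hu1, κ, hκ, e⟩ := ihx u hu
    obtain ⟨u2, hu2, κ', hκ', e'⟩ := ihy u1 hu1
    exact ⟨u2, hu2, κ * κ', mul_mem hκ hκ', by rw [← mul_assoc, e, mul_assoc, e', mul_assoc]⟩

/-- The point of a coset of the bottom subgroup. -/
noncomputable def ptP (u : ℕ) : L ⧸ ML := QuotientGroup.mk (rpP u)⁻¹

theorem ML_le : ML ≤ P := by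
  rw [ML, Subgroup.closure_le]
  rintro _ ⟨i, hi, rfl⟩
  exact Subgroup.subset_closure ⟨i, (by decide : ∀ i ∈ [0, 9, 1, 10], i ∈ certG.sub) i hi, rfl⟩

theorem rpP_P {u : ℕ} : rpP u ∈ P := by
  induction u using Nat.strong_induction_on with
  | _ u ih =>
    rw [rpP, UnitaryPres49Cert.rep_eq]
    split_ifs with h
    · refine mul_mem (ih _ h) (Subgroup.subset_closure ⟨_, ?_, rfl⟩)
      obtain ⟨fL, fP, fG, rL, rP, hsP, hL, hL', hG', hG, sP, sG⟩ := ren_facts
      exact hG _ (Nat.mod_lt _ (by simp [certP]))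
    · exact one_mem _

theorem ptP_inj {u w : ℕ} (hu : u < 3125) (hw : w < 3125) (e : ptP u = ptP w) : u = w := by
  haveI := finite_P
  haveI := card_ML_le.1
  let g : Fin 3125 × ML → P := fun p => ⟨(p.2 : L) * rpP p.1, mul_mem (ML_le p.2.2) rpP_P⟩
  have hsurj : Function.Surjective g := fun h => by
    obtain ⟨v, hv, κ, hκ, e⟩ := P_cover h.2
    exact ⟨(⟨v, hv⟩, ⟨κ, hκ⟩), Subtype.ext e.symm⟩
  have hc : Nat.card (Fin 3125 × ML) ≤ Nat.card P := by
    rw [card_P, Nat.card_prod, Nat.card_eq_fintype_card, Fintype.card_fin]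
    exact (Nat.mul_le_mul_left _ card_ML_le.2).trans (by norm_num)
  have hb : Function.Bijective g := hsurj.bijective_of_nat_card_le hc
  rw [ptP, ptP, QuotientGroup.eq, inv_inv] at e
  have h' : g (⟨w, hw⟩, 1) = g (⟨u, hu⟩, ⟨(rpP u * (rpP w)⁻¹)⁻¹, inv_mem e⟩) := Subtype.ext (by simp [g])
  exact (congrArg (fun p => (p.1 : ℕ)) (hb.1 h')).symm

theorem fix_base {G : Subgroup L} {g : L} (h : g • ((1 : L) : L ⧸ G) = ((1 : L) : L ⧸ G)) : g ∈ G := by
  rw [MulAction.Quotient.smul_mk, QuotientGroup.eq, smul_eq_mul, mul_one, mul_one] at h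
  exact inv_mem_iff.mp h

theorem pt'_zero : pt' 0 = ((1 : L) : L ⧸ P) := by simp [pt', rp_zero]

/-- The points fixed by the involution. -/
noncomputable def fixP : List ℕ :=
  (List.range 3125).filter fun u =>
    Nat.beq (certP.img (certP.img (certP.img (certP.img u 0) 0) 0) 0) u

theorem fixP_len : fixP.length = 5 := by decide +kernel

theorem T_walkP {u : ℕ} (hu : u < 3125) :
    certP.img (certP.img (certP.img (certP.img u 0) 0) 0) 0 < 3125 ∧
      T⁻¹ • ptP u = ptP (certP.img (certP.img (certP.img (certP.img u 0) 0) 0) 0) := by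
  have step : ∀ u < 3125, certP.img u 0 < 3125 ∧ (letLy 0)⁻¹ • ptP u = ptP (certP.img u 0) := by
    intro u hu
    obtain ⟨h, κ, hκ, e⟩ := edgeP hu (i := 0) (by norm_num)
    refine ⟨h, ?_⟩
    rw [ptP, ptP, MulAction.Quotient.smul_mk, QuotientGroup.eq]
    have e' : ((letLy 0)⁻¹ • (rpP u)⁻¹)⁻¹ * (rpP (certP.img u 0))⁻¹ = κ := by
      rw [smul_eq_mul, mul_inv_rev, inv_inv, inv_inv, show letLy 0 = yP 0 from rfl, e, mul_inv_cancel_right]
    rw [e']
    exact hκ
  obtain ⟨h1, e1⟩ := step u hu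
  obtain ⟨h2, e2⟩ := step _ h1
  obtain ⟨h3, e3⟩ := step _ h2
  obtain ⟨h4, e4⟩ := step _ h3
  refine ⟨h4, ?_⟩
  rw [← e4, ← e3, ← e2, ← e1, ← mul_smul, ← mul_smul, ← mul_smul]
  congr 1

theorem card_CP : Nat.card ↥(CH ⊓ P) ≤ 2400 := by
  haveI := card_ML_le.1
  refine (card_orbit_stab (Γ := ↥(CH ⊓ P)) ((1 : L) : L ⧸ ML) (S := ptP '' {u | u ∈ fixP})
    ((List.finite_toSet fixP).image _) ?_ (m := 5) ?_ (n := 480) ?_).trans (by norm_num)
  · rintro _ ⟨⟨h, hh⟩, rfl⟩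
    obtain ⟨hC, hP⟩ := Subgroup.mem_inf.mp hh
    obtain ⟨u, hu, κ, hκ, e⟩ := P_cover (inv_mem hP)
    show h • ((1 : L) : L ⧸ ML) ∈ _
    have hpt : ((h : L) : L ⧸ ML) = ptP u := by
      rw [ptP, QuotientGroup.eq]
      rw [show h⁻¹ * (rpP u)⁻¹ = κ by rw [e, mul_inv_cancel_right]]
      exact hκ
    rw [MulAction.Quotient.smul_mk, smul_eq_mul, mul_one, hpt]
    refine ⟨u, List.mem_filter.mpr ⟨List.mem_range.2 hu, ?_⟩, rfl⟩
    rw [Nat.beq_eq]
    obtain ⟨h1, e1⟩ := T_walkP hu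
    refine ptP_inj h1 hu ?_
    rw [← e1, ← hpt, MulAction.Quotient.smul_mk, QuotientGroup.eq, smul_eq_mul, mul_inv_rev, inv_inv, mul_assoc,
      CH_comm hC, inv_mul_cancel_left]
    have h0 : letLy 0 ∈ ML := Subgroup.subset_closure ⟨0, by simp, rfl⟩
    have eT : T = letLy 0 * (letLy 0 * (letLy 0 * letLy 0)) := by simp [T, ev]
    rw [eT]
    exact mul_mem h0 (mul_mem h0 (mul_mem h0 h0))
  · refine (Set.ncard_image_le (List.finite_toSet fixP)).trans ?_
    rw [← fixP_len, show {u | u ∈ fixP} = (fixP.toFinset : Set ℕ) by simp, Set.ncard_coe_finset]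
    exact List.toFinset_card_le _
  · refine le_trans (Nat.card_le_card_of_injective (β := ML)
      (fun x => ⟨((x : ↥(CH ⊓ P)) : L), ?_⟩) fun x y e => ?_) card_ML_le.2
    · exact fix_base (g := ((x : ↥(CH ⊓ P)) : L)) x.2
    · exact Subtype.ext (Subtype.ext (congrArg (fun z : ML => (z : L)) e))

theorem card_CH : Nat.card CH ≤ 14400 := by
  haveI := finite_P
  refine (card_orbit_stab (Γ := CH) (pt' 0) (S := pt' '' {v | v ∈ good})
    ((List.finite_toSet good).image _) ?_ (m := 6) ?_ (n := 2400) ?_).trans (by norm_num)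
  · rintro _ ⟨⟨h, hh⟩, rfl⟩
    exact orbit_pt0 hh
  · refine (Set.ncard_image_le (List.finite_toSet good)).trans ?_
    rw [← good_len, show {v | v ∈ good} = (good.toFinset : Set ℕ) by simp, Set.ncard_coe_finset]
    exact List.toFinset_card_le _
  · haveI : Finite ↥(CH ⊓ P) := finite_le (inf_le_right.trans P_le)
    refine le_trans (Nat.card_le_card_of_injective (β := ↥(CH ⊓ P))
      (fun x => ⟨((x : CH) : L), ⟨(x : CH).2, ?_⟩⟩) fun x y e => ?_) card_CP
    · exact fix_base (g := ((x : CH) : L)) (pt'_zero ▸ (x.2 : ((x : CH) : L) • pt' 0 = pt' 0))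
    · exact Subtype.ext (Subtype.ext (congrArg (fun z : ↥(CH ⊓ P) => (z : L)) e))

/-! ### fixed points on the cosets of the subgroup -/

/-- The cosets fixed by the involution. -/
def Fix : Set (L ⧸ HLy) := {q | T • q = q}

/-- The fixed pairs of the second orbit. -/
noncomputable def pairs : List (ℕ × List ℕ × ℕ) :=
  fdata.flatMap fun x => ((List.range 5).filter fun q => Nat.beq (act5 x.2.2 q) q).map fun q => (x.1, x.2.1, q)

theorem pairs_len : pairs.length = 66 := by decide +kernel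

theorem fix_smul {j : ℕ} {h : L} (hh : h ∈ HLy) (hf : h • pt j ∈ Fix) : h⁻¹ * T * h ∈ X (reps j) := by
  have hx : (⟨h⁻¹ * T * h, mul_mem (mul_mem (inv_mem hh) T_H) hh⟩ : HLy) ∈
      MulAction.stabilizer HLy (pt j) := by
    rw [MulAction.mem_stabilizer_iff]
    show (h⁻¹ * T * h) • pt j = pt j
    rw [mul_smul, mul_smul, show T • h • pt j = h • pt j from hf, inv_smul_smul]
  rwa [stab_eq, Subgroup.mem_subgroupOf] at hx

theorem fix_one : (Fix ∩ orb 1).ncard ≤ 66 := by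
  haveI := finite_quot
  refine (Set.ncard_le_ncard (t := (fun x : ℕ × List ℕ × ℕ =>
      ((ev x.2.1)⁻¹ * ev (p5.getD x.2.2 [])) • pt 1) '' {x | x ∈ pairs}) ?_ (Set.toFinite _)).trans ?_
  · rintro _ ⟨hfix, ⟨⟨h, hh⟩, rfl⟩⟩
    have hK : h⁻¹ * T * h ∈ K := by
      have := fix_smul (j := 1) hh hfix
      rwa [show reps 1 = Z from rfl, X_Z_eq] at this
    have hP : h⁻¹ * T * h ∈ P := by rw [K_eq] at hK; exact (Subgroup.mem_inf.mp hK).2
    obtain ⟨x, hx, p, hp, eh, hsub, ec⟩ := h_point hh hP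
    obtain ⟨q, hq, k, hk, ep⟩ := P_five five_ok hp
    have hk' := (Subgroup.mem_inf.mp hk).1
    refine ⟨(x.1, x.2.1, q), List.mem_flatMap.mpr ⟨x, hx, List.mem_map.mpr ⟨q, ?_, rfl⟩⟩, ?_⟩
    · refine List.mem_filter.mpr ⟨List.mem_range.2 hq, Nat.beq_eq.mpr (act5_fix hsub hq ?_)⟩
      have : (ev (p5.getD q []))⁻¹ * ev x.2.2 * ev (p5.getD q []) = k * (h⁻¹ * T * h) * k⁻¹ := by
        rw [ec, ep]; group
      rw [this]
      exact mul_mem (mul_mem hk' hK) (inv_mem hk')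
    · show ((ev x.2.1)⁻¹ * ev (p5.getD q [])) • pt 1 = h • pt 1
      have hk1 : k • pt 1 = pt 1 := by
        have : (⟨k, (mem_K.mp hk').1⟩ : HLy) ∈ MulAction.stabilizer HLy (pt 1) := by
          rw [stab_eq, Subgroup.mem_subgroupOf, show reps 1 = Z from rfl, X_Z_eq]; exact hk'
        exact this
      conv_rhs => rw [eh, ep, ← mul_assoc, mul_smul, hk1]
  · refine (Set.ncard_image_le (List.finite_toSet pairs)).trans ?_
    rw [← pairs_len, show {x | x ∈ pairs} = (pairs.toFinset : Set _) by simp, Set.ncard_coe_finset]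
    exact List.toFinset_card_le _

theorem fix_orbit {j m : ℕ} (hm : {x : L | x ∈ X (reps j) ∧ x * x = 1 ∧ x ≠ 1}.ncard ≤ m) :
    (Fix ∩ orb j).ncard * Nat.card (X (reps j)) ≤ m * 14400 := by
  classical
  haveI := finite_quot
  haveI := finite_H
  haveI := finite_L
  haveI : Finite CH := finite_le inf_le_right
  let A : Set L := {h | h ∈ HLy ∧ h • pt j ∈ Fix}
  let Inv : Set L := {x : L | x ∈ X (reps j) ∧ x * x = 1 ∧ x ≠ 1}
  -- lower bound
  have h1 : (Fix ∩ orb j).ncard * Nat.card (X (reps j)) ≤ A.ncard := by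
    have hsel : ∀ q : ↥(Fix ∩ orb j), ∃ h : HLy, (h : L) • pt j = (q : L ⧸ HLy) := fun q => q.2.2
    choose s hs using hsel
    rw [← Nat.card_coe_set_eq, ← Nat.card_coe_set_eq, ← Nat.card_prod]
    have hfixX : ∀ x : X (reps j), (x : L) • pt j = pt j := fun x => by
      have hxH : (x : L) ∈ HLy := (mem_X.mp x.2).1
      have : (⟨x, hxH⟩ : HLy) ∈ MulAction.stabilizer HLy (pt j) := by
        rw [stab_eq, Subgroup.mem_subgroupOf]; exact x.2
      exact this
    refine Nat.card_le_card_of_injective (fun p => ⟨(s p.1 : L) * (p.2 : L),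
      ⟨mul_mem (s p.1).2 (mem_X.mp p.2.2).1, by rw [mul_smul, hfixX, hs]; exact p.1.2.1⟩⟩) ?_
    intro a b e
    have e' : (s a.1 : L) * (a.2 : L) = (s b.1 : L) * (b.2 : L) := congrArg Subtype.val e
    have e1 : a.1 = b.1 := by
      refine Subtype.ext ?_
      have h := congrArg (fun g : L => g • pt j) e'
      simp only [mul_smul, hfixX, hs] at h
      exact h
    refine Prod.ext e1 (Subtype.ext ?_)
    rw [e1] at e'
    exact mul_left_cancel e'
  -- upper bound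
  have h2 : A.ncard ≤ m * 14400 := by
    have hcj : ∀ h ∈ A, h⁻¹ * T * h ∈ Inv := fun h ⟨hh, hf⟩ => ⟨fix_smul hh hf, by
      have : h⁻¹ * T * h * (h⁻¹ * T * h) = h⁻¹ * (T * T) * h := by group
      rw [this, T_sq]; group, fun e => T_ne (by
        have : T = h * (h⁻¹ * T * h) * h⁻¹ := by group
        rw [this, e]; group)⟩
    have hsel : ∀ x : L, ∃ h : L, (∃ g ∈ A, g⁻¹ * T * g = x) → h ∈ A ∧ h⁻¹ * T * h = x := fun x => by
      by_cases hx : ∃ g ∈ A, g⁻¹ * T * g = x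
      · obtain ⟨g, hg, e⟩ := hx; exact ⟨g, fun _ => ⟨hg, e⟩⟩
      · exact ⟨1, fun h => absurd h hx⟩
    choose r hr using hsel
    have hCH : ∀ h ∈ A, h * (r (h⁻¹ * T * h))⁻¹ ∈ CH := fun h hA => by
      obtain ⟨hrA, hre⟩ := hr _ ⟨h, hA, rfl⟩
      refine Subgroup.mem_inf.mpr ⟨Subgroup.mem_centralizer_singleton_iff.mpr ?_, mul_mem hA.1 (inv_mem hrA.1)⟩
      set g := r (h⁻¹ * T * h)
      have : h * g⁻¹ * T = h * (g⁻¹ * T * g) * g⁻¹ := by group
      rw [this, hre]; group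
    have hle : Nat.card A ≤ Nat.card (Inv × CH) := by
      refine Nat.card_le_card_of_injective (fun h => (⟨(h : L)⁻¹ * T * h, hcj h h.2⟩, ⟨_, hCH h h.2⟩)) ?_
      intro a b e
      have e1 := congrArg (fun p : Inv × CH => ((p.1 : L))) e
      have e2 := congrArg (fun p : Inv × CH => ((p.2 : L))) e
      simp only at e1 e2
      rw [e1] at e2
      exact Subtype.ext (mul_right_cancel e2)
    rw [Nat.card_prod, Nat.card_coe_set_eq, Nat.card_coe_set_eq] at hle
    exact hle.trans (Nat.mul_le_mul hm card_CH)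
  exact h1.trans h2

theorem fix_card : Fix.ncard ≤ 2772 := by
  haveI := finite_quot
  have hsub : Fix ⊆ (Fix ∩ orb 0) ∪ (Fix ∩ orb 1) ∪ (Fix ∩ orb 2) ∪ (Fix ∩ orb 3) ∪ (Fix ∩ orb 4) := by
    intro q hq
    obtain ⟨j, hj, hqj⟩ := cover q
    interval_cases j <;> simp [hq, hqj]
  have h0 : (Fix ∩ orb 0).ncard ≤ 1 :=
    (Set.ncard_le_ncard Set.inter_subset_right (Set.toFinite _)).trans (by rw [orb_zero, Set.ncard_singleton])
  have h2 := fix_orbit (j := 2) LyCentReg41.inv2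
  have h3 := fix_orbit (j := 3) LyCentReg41.inv3
  have h4 := fix_orbit (j := 4) LyCentReg41.inv4
  rw [show reps 2 = g2 from rfl, LyCentReg41.card_X2] at h2
  rw [show reps 3 = g3 from rfl, LyCentReg41.card_X3] at h3
  rw [show reps 4 = g4 from rfl, LyCentReg41.card_X4] at h4
  have h1 := fix_one
  refine (Set.ncard_le_ncard hsub (Set.toFinite _)).trans ?_
  refine (Set.ncard_union_le _ _).trans ?_
  refine (Nat.add_le_add_right (Set.ncard_union_le _ _) _).trans ?_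
  refine (Nat.add_le_add_right (Nat.add_le_add_right (Set.ncard_union_le _ _) _) _).trans ?_
  refine (Nat.add_le_add_right (Nat.add_le_add_right (Nat.add_le_add_right (Set.ncard_union_le _ _) _) _) _).trans ?_
  omega

/-- The centraliser of the involution has at most the order of a double cover of the alternating group of
degree eleven. -/
theorem card_centralizer_le : Nat.card (Subgroup.centralizer ({T} : Set L)) ≤ 39916800 := by
  haveI := finite_quot
  haveI := finite_L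
  refine (card_orbit_stab (Γ := Subgroup.centralizer ({T} : Set L)) (pt 0) (S := Fix) (Set.toFinite _) ?_
    (m := 2772) fix_card (n := 14400) ?_).trans (by norm_num)
  · rintro _ ⟨⟨g, hg⟩, rfl⟩
    show T • g • pt 0 = g • pt 0
    rw [← mul_smul, ← (Subgroup.mem_centralizer_singleton_iff.mp hg), mul_smul]
    congr 1
    rw [pt_zero, MulAction.Quotient.smul_mk, QuotientGroup.eq, smul_eq_mul, mul_one, mul_one]
    exact inv_mem T_H
  · refine le_trans (Nat.card_le_card_of_injective (β := CH)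
      (fun x => ⟨((x : Subgroup.centralizer ({T} : Set L)) : L), ⟨(x : Subgroup.centralizer ({T} : Set L)).2, ?_⟩⟩)
      fun x y e => Subtype.ext (Subtype.ext (congrArg (fun z : CH => (z : L)) e))) card_CH
    exact fix_base (g := ((x : Subgroup.centralizer ({T} : Set L)) : L))
      (pt_zero ▸ (x.2 : ((x : Subgroup.centralizer ({T} : Set L)) : L) • pt 0 = pt 0))

end Cfsg.Agent.LyCentFix41
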