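import Mathlib

/-!
A Sylow 2-subgroup of the alternating group of degree 11, generated by seven products of four
transpositions; it is its own normalizer and has centre of order two (helper98).
-/

set_option autoImplicit false
set_option maxRecDepth 100000

namespace Cfsg.Agent.LyFusionPerm98

open Equiv

/-- The product of four transpositions. -/
def quad (a b c d e f g h : Fin 11) : Perm (Fin 11) :=
  swap a b * swap c d * swap e f * swap g h

/-- The involution `(01)(23)(45)(67)`. -/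
def delta : Perm (Fin 11) := quad 0 1 2 3 4 5 6 7

/-- Seven involutions generating the Sylow subgroup. -/
def gen : Fin 7 → Perm (Fin 11) := ![delta, quad 0 6 1 7 2 5 3 4, quad 2 3 4 6 5 7 8 9,
  quad 0 2 1 3 4 5 8 9, quad 0 1 2 3 4 7 5 6, quad 2 3 4 7 5 6 8 9, quad 0 2 1 3 4 6 5 7]

/-- The words in the generators. -/
def word (e : Fin 128) : Perm (Fin 11) :=
  ((List.finRange 7).map fun i => if e.val.testBit i.val then gen i else 1).prod

/-- The four classes `{0,1,2,3}`, `{4,5,6,7}`, `{8,9}`, `{10}`. -/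
def cls : Fin 11 → Fin 4 := ![0, 0, 0, 0, 1, 1, 1, 1, 2, 2, 3]

/-- The permutations of the classes used below. -/
def blockPerm : Fin 7 → Perm (Fin 4) := ![1, swap 0 1, 1, 1, 1, 1, 1]

/-- The Sylow subgroup: even permutations commuting with `delta`, fixing 10 and preserving the
classes. -/
def K : Subgroup (Perm (Fin 11)) where
  carrier := {σ | Perm.sign σ = 1 ∧ σ * delta = delta * σ ∧ σ 10 = 10 ∧
    ∃ π : Perm (Fin 4), ∀ x, cls (σ x) = π (cls x)}
  one_mem' := ⟨map_one _, by rw [one_mul, mul_one], rfl, 1, fun _ => rfl⟩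
  mul_mem' := by
    rintro σ τ ⟨s1, c1, t1, π1, p1⟩ ⟨s2, c2, t2, π2, p2⟩
    refine ⟨by rw [map_mul, s1, s2, mul_one], ?_, by rw [Perm.mul_apply, t2, t1], π1 * π2,
      fun x => by rw [Perm.mul_apply, p1, p2, Perm.mul_apply]⟩
    rw [mul_assoc, c2, ← mul_assoc, c1, mul_assoc]
  inv_mem' := by
    rintro σ ⟨s1, c1, t1, π1, p1⟩
    refine ⟨by rw [map_inv, s1, inv_one], ?_, Perm.inv_eq_iff_eq.2 t1.symm, π1⁻¹, fun x => ?_⟩
    · rw [inv_mul_eq_iff_eq_mul, ← mul_assoc, c1, mul_inv_cancel_right]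
    · refine (Perm.inv_eq_iff_eq.2 ?_).symm
      rw [← p1, show σ (σ⁻¹ x) = x from σ.apply_symm_apply x]

theorem gen_facts : ∀ i : Fin 7, Perm.sign (gen i) = 1 ∧
    (∀ x, gen i (delta x) = delta (gen i x)) ∧ gen i 10 = 10 ∧
    (∀ x, cls (gen i x) = blockPerm i (cls x)) ∧ (gen i).support.card = 8 ∧
    (∀ x, gen i (gen i x) = x) := by decide +kernel

theorem gen_mem (i : Fin 7) : gen i ∈ K :=
  ⟨(gen_facts i).1, Equiv.ext fun x => (gen_facts i).2.1 x, (gen_facts i).2.2.1, blockPerm i,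
    (gen_facts i).2.2.2.1⟩

theorem gen_sq (i : Fin 7) : gen i * gen i = 1 := Equiv.ext fun x => (gen_facts i).2.2.2.2.2 x

theorem gen_card (i : Fin 7) : (gen i).support.card = 8 := (gen_facts i).2.2.2.2.1

theorem gen_ne (i : Fin 7) : gen i ≠ 1 := fun h => by
  have := gen_card i
  rw [h, Perm.support_one, Finset.card_empty] at this
  omega

theorem word_mem (e : Fin 128) : word e ∈ K := by
  refine list_prod_mem fun x hx => ?_
  obtain ⟨i, -, rfl⟩ := List.mem_map.1 hx
  split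
  · exact gen_mem i
  · exact one_mem _

/-- Every admissible tuple of images of 0, 2, 4, 6 is that of a word. -/
theorem key_ok : ∀ a c e g : Fin 8, (a : ℕ) / 4 = c / 4 → (a : ℕ) / 2 ≠ c / 2 → (a : ℕ) / 2 ≠ e / 2 →
    (a : ℕ) / 2 ≠ g / 2 → (c : ℕ) / 2 ≠ e / 2 → (c : ℕ) / 2 ≠ g / 2 → (e : ℕ) / 2 ≠ g / 2 →
    ∃ w : Fin 128, (word w 0).val = a.val ∧ (word w 2).val = c.val ∧ (word w 4).val = e.val ∧
      (word w 6).val = g.val := by decide +kernel

theorem delta_facts : (∀ x : Fin 11, delta (delta x) = x) ∧ (∀ x : Fin 11, delta x ≠ x ↔ x.val < 8) ∧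
    delta 0 = 1 ∧ delta 2 = 3 ∧ delta 4 = 5 ∧ delta 6 = 7 ∧
    (∀ x y : Fin 11, x.val < 8 → y.val < 8 → x.val / 2 = y.val / 2 → y = x ∨ y = delta x) ∧
    (∀ x y : Fin 11, x.val < 8 → y.val < 8 → (x.val / 4 = y.val / 4 ↔ cls x = cls y)) := by
  decide +kernel

theorem fix_cases : ∀ x : Fin 11, (x.val < 8 ∨ x = 8 ∨ x = 9 ∨ x = 10) := by decide +kernel

/-- A permutation with the properties defining `K`, the last one at two points only, is a word. -/
theorem exists_word {σ : Perm (Fin 11)} (hs : Perm.sign σ = 1) (hd : σ * delta = delta * σ)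
    (h10 : σ 10 = 10) (hf : cls (σ 0) = cls (σ 2)) : ∃ e, σ = word e := by
  obtain ⟨dd, dm, d0, d2, d4, d6, dpair, dcls⟩ := delta_facts
  have hc : ∀ x, σ (delta x) = delta (σ x) := fun x => Equiv.congr_fun hd x
  have hlt : ∀ x : Fin 11, x.val < 8 → (σ x).val < 8 := fun x hx => (dm _).1 fun h => by
    rw [← hc] at h
    exact (dm x).2 hx (σ.injective h)
  have dhalf : ∀ x : Fin 11, x.val < 8 → x.val / 2 = (delta x).val / 2 := by
    clear * -
    decide +kernel
  have hsep : ∀ x y : Fin 11, x.val < 8 → y.val < 8 → x.val / 2 ≠ y.val / 2 →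
      (σ x).val / 2 ≠ (σ y).val / 2 := by
    intro x y hx hy hne h
    rcases dpair _ _ (hlt x hx) (hlt y hy) h with e | e
    · exact hne (by rw [σ.injective e])
    · rw [← hc] at e
      have e' := σ.injective e
      subst e'
      exact hne (dhalf x hx)
  obtain ⟨w, w0, w2, w4, w6⟩ := key_ok ⟨_, hlt 0 (by decide)⟩ ⟨_, hlt 2 (by decide)⟩
    ⟨_, hlt 4 (by decide)⟩ ⟨_, hlt 6 (by decide)⟩
    ((dcls _ _ (hlt 0 (by decide)) (hlt 2 (by decide))).2 hf)
    (hsep 0 2 (by decide) (by decide) (by decide)) (hsep 0 4 (by decide) (by decide) (by decide))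
    (hsep 0 6 (by decide) (by decide) (by decide)) (hsep 2 4 (by decide) (by decide) (by decide))
    (hsep 2 6 (by decide) (by decide) (by decide)) (hsep 4 6 (by decide) (by decide) (by decide))
  obtain ⟨ws, wd, w10, -⟩ := word_mem w
  have e0 : σ 0 = word w 0 := Fin.ext w0.symm
  have e2 : σ 2 = word w 2 := Fin.ext w2.symm
  have e4 : σ 4 = word w 4 := Fin.ext w4.symm
  have e6 : σ 6 = word w 6 := Fin.ext w6.symm
  refine ⟨w, ?_⟩
  set τ := (word w)⁻¹ * σ with hτ
  suffices hτ1 : τ = 1 by rw [hτ, inv_mul_eq_one] at hτ1; exact hτ1.symm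
  have fe : ∀ x, σ x = word w x → τ x = x := fun x h => by
    rw [hτ, Perm.mul_apply, Perm.inv_eq_iff_eq]
    exact h
  have fd : ∀ x, σ x = word w x → τ (delta x) = delta x := fun x h => fe _ (by
    rw [hc, h]
    exact (Equiv.congr_fun wd x).symm)
  have h8 : ∀ x : Fin 11, x.val < 8 → τ x = x := by
    intro x hx
    fin_cases x
    · exact fe _ e0
    · have h := fd _ e0
      rw [d0] at h
      exact h
    · exact fe _ e2
    · have h := fd _ e2
      rw [d2] at h
      exact h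
    · exact fe _ e4
    · have h := fd _ e4
      rw [d4] at h
      exact h
    · exact fe _ e6
    · have h := fd _ e6
      rw [d6] at h
      exact h
    all_goals (exfalso; revert hx; decide)
  have ht10 : τ 10 = 10 := fe _ (h10.trans w10.symm)
  have hsub : τ.support ⊆ {8, 9} := by
    intro x hx
    rw [Perm.mem_support] at hx
    rcases fix_cases x with h | h | h | h
    · exact absurd (h8 x h) hx
    · simp [h]
    · simp [h]
    · subst h; exact absurd ht10 hx
  have hcard := Finset.card_le_card hsub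
  rw [Finset.card_pair (by decide)] at hcard
  rcases Nat.lt_or_ge τ.support.card 2 with h | h
  · exact Perm.card_support_le_one.1 (by omega)
  · obtain ⟨x, y, hxy, e⟩ := Perm.card_support_eq_two.1 (le_antisymm hcard h)
    exfalso
    have hsg : Perm.sign τ = 1 := by rw [hτ, map_mul, map_inv, hs, ws]; rfl
    rw [e, Perm.sign_swap hxy] at hsg
    exact absurd hsg (by decide)

theorem mem_K_iff {σ : Perm (Fin 11)} : σ ∈ K ↔ ∃ e, σ = word e := by
  constructor
  · rintro ⟨hs, hd, h10, π, hπ⟩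
    exact exists_word hs hd h10 (by rw [hπ, hπ]; rfl)
  · rintro ⟨e, rfl⟩
    exact word_mem e

theorem word_inj : ∀ e e' : Fin 128,
    (word e 0).val * 1331 + (word e 2).val * 121 + (word e 4).val * 11 + (word e 6).val =
      (word e' 0).val * 1331 + (word e' 2).val * 121 + (word e' 4).val * 11 + (word e' 6).val →
      e = e' := by decide +kernel

theorem card_K : Nat.card K = 128 := by
  have hb : Function.Bijective (fun e : Fin 128 => (⟨word e, word_mem e⟩ : K)) := by
    refine ⟨fun e e' h => word_inj e e' ?_, fun ⟨σ, hσ⟩ => ?_⟩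
    · rw [Subtype.mk.injEq] at h
      rw [h]
    · obtain ⟨e, he⟩ := mem_K_iff.1 hσ
      exact ⟨e, Subtype.ext he.symm⟩
  rw [← Nat.card_eq_of_bijective _ hb, Nat.card_fin]

theorem center_words : ∀ e : Fin 128, (∀ i x, word e (gen i x) = gen i (word e x)) →
    (∀ x, word e x = x) ∨ (∀ x, word e x = delta x) := by decide +kernel

/-- The centre has order two. -/
theorem central {σ : Perm (Fin 11)} (hσ : σ ∈ K) (hc : ∀ τ ∈ K, σ * τ = τ * σ) :
    σ = 1 ∨ σ = delta := by
  obtain ⟨e, rfl⟩ := mem_K_iff.1 hσ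
  rcases center_words e fun i x => Equiv.congr_fun (hc _ (gen_mem i)) x with h | h
  exacts [Or.inl (Equiv.ext h), Or.inr (Equiv.ext h)]

theorem fixed_points : ∀ x : Fin 11, (∀ i, gen i x = x) → x = 10 := by decide +kernel

/-- The double transposition `(02)(13)`. -/
def uu : Perm (Fin 11) := swap 0 2 * swap 1 3

theorem uu_facts : Perm.sign uu = 1 ∧ (∀ x, uu (delta x) = delta (uu x)) ∧ uu 10 = 10 ∧
    (∀ x, cls (uu x) = cls x) := by decide +kernel

theorem uu_mem : uu ∈ K :=
  ⟨uu_facts.1, Equiv.ext uu_facts.2.1, uu_facts.2.2.1, 1, uu_facts.2.2.2⟩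

theorem delta_mem : delta ∈ K := gen_mem 0

theorem delta_ne : delta ≠ 1 := gen_ne 0

theorem block_point : ∀ i j : Fin 11, i.val < 8 → j.val < 8 → cls i ≠ cls j →
    ∃ k : Fin 11, cls k = cls i ∧ k ≠ i ∧ k ≠ delta i ∧ k ≠ j ∧ k ≠ delta j := by decide +kernel

/-- `K` is its own normalizer in the alternating group. -/
theorem normalizer_le {σ : Perm (Fin 11)} (hs : Perm.sign σ = 1)
    (hn : ∀ τ ∈ K, σ * τ * σ⁻¹ ∈ K) (hn' : ∀ τ ∈ K, σ⁻¹ * τ * σ ∈ K) : σ ∈ K := by
  have hd : σ * delta = delta * σ := by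
    have hz : σ * delta * σ⁻¹ = 1 ∨ σ * delta * σ⁻¹ = delta := central (hn _ delta_mem) fun τ hτ => by
      obtain ⟨-, hc, -⟩ := hn' τ hτ
      calc σ * delta * σ⁻¹ * τ = σ * (delta * (σ⁻¹ * τ * σ)) * σ⁻¹ := by group
        _ = σ * (σ⁻¹ * τ * σ * delta) * σ⁻¹ := by rw [hc]
        _ = τ * (σ * delta * σ⁻¹) := by group
    rcases hz with h | h
    · exact absurd (conj_eq_one_iff.1 h) delta_ne
    · exact mul_inv_eq_iff_eq_mul.1 h
  have h10 : σ 10 = 10 := fixed_points _ fun i => by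
    obtain ⟨-, -, h, -⟩ := hn' _ (gen_mem i)
    rw [Perm.mul_apply, Perm.mul_apply, Perm.inv_eq_iff_eq] at h
    exact h.symm ▸ h
  have hc : ∀ x, σ (delta x) = delta (σ x) := fun x => Equiv.congr_fun hd x
  obtain ⟨dd, dm, d0, d2, -⟩ := delta_facts
  have hlt : ∀ x : Fin 11, x.val < 8 → (σ x).val < 8 := fun x hx => (dm _).1 fun h => by
    rw [← hc] at h
    exact (dm x).2 hx (σ.injective h)
  have hf : cls (σ 0) = cls (σ 2) := by
    by_contra hne
    obtain ⟨k, hk, k0, k1, k2, k3⟩ := block_point _ _ (hlt 0 (by decide)) (hlt 2 (by decide)) hne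
    rw [← hc, d0] at k1
    rw [← hc, d2] at k3
    obtain ⟨-, -, -, π, hπ⟩ := hn _ uu_mem
    have hfix : (σ * uu * σ⁻¹) k = k := by
      rw [Perm.mul_apply, Perm.mul_apply]
      have : ∀ x : Fin 11, x ≠ 0 → x ≠ 1 → x ≠ 2 → x ≠ 3 → uu x = x := by decide +kernel
      have hne' : ∀ p : Fin 11, k ≠ σ p → σ⁻¹ k ≠ p := fun p hp h => hp (Perm.inv_eq_iff_eq.1 h)
      rw [this _ (hne' _ k0) (hne' _ k1) (hne' _ k2) (hne' _ k3)]
      exact σ.apply_symm_apply k
    have hmv : (σ * uu * σ⁻¹) (σ 0) = σ 2 := by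
      rw [Perm.mul_apply, Perm.mul_apply, show σ⁻¹ (σ 0) = 0 from σ.symm_apply_apply 0]
      rfl
    have h1 := hπ k
    have h2 := hπ (σ 0)
    rw [hfix] at h1
    rw [hmv] at h2
    rw [hk, ← h2] at h1
    exact hne h1
  exact mem_K_iff.2 (exists_word hs hd h10 hf)

end Cfsg.Agent.LyFusionPerm98
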