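import Cfsg.Agent.Lib.DoubleCover90Main
import Cfsg.Agent.Lib.FusionSimpleCrit
import Cfsg.Agent.Lib.LyFusionPerm98

/-!
A finite simple group with an involution centralizer which is a nonsplit double cover of the
alternating group of degree 11, and with Sylow 2-subgroups of order at most 256, has a simple
2-fusion system (helper98).
-/

set_option autoImplicit false
set_option linter.unusedSectionVars false
set_option linter.style.haveILetI false

namespace Cfsg.Agent.LyFusionAlt98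

open Equiv Cfsg Cfsg.Agent.DoubleCover90 Cfsg.Agent.LyFusionPerm98 Cfsg.Agent.FusionSimpleCrit

universe u

variable {G : Type u} [Group G] {z : G}

/-- The preimage of the Sylow subgroup of `A₁₁`. -/
def preK (D : DC z 11) : Subgroup G where
  carrier := {x | Commute x z ∧ D.p x ∈ K}
  one_mem' := ⟨Commute.one_left z, by rw [D.p_one]; exact K.one_mem⟩
  mul_mem' := fun {x y} hx hy => ⟨hx.1.mul_left hy.1, by rw [D.p_mul hx.1 hy.1]; exact K.mul_mem hx.2 hy.2⟩
  inv_mem' := fun {x} hx => ⟨hx.1.inv_left, by rw [D.p_inv hx.1]; exact K.inv_mem hx.2⟩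

theorem mem_preK {D : DC z 11} {x : G} : x ∈ preK D ↔ Commute x z ∧ D.p x ∈ K := Iff.rfl

theorem sign_K {σ : Perm (Fin 11)} (h : σ ∈ K) : Perm.sign σ = 1 := h.1

theorem card_preK [Finite G] (D : DC z 11) : Nat.card (preK D) = 256 := by
  classical
  let ψ : preK D →* K :=
    { toFun := fun x => ⟨D.p x, x.2.2⟩
      map_one' := Subtype.ext D.p_one
      map_mul' := fun x y => Subtype.ext (D.p_mul x.2.1 y.2.1) }
  have hsurj : Function.Surjective ψ := fun ⟨σ, hσ⟩ => by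
    obtain ⟨x, hx, rfl⟩ := D.exists_lift (sign_K hσ)
    exact ⟨⟨x, hx, hσ⟩, rfl⟩
  have hker : Nat.card ψ.ker = 2 := by
    rw [Nat.card_eq_two_iff]
    have hz : z ∈ preK D := ⟨Commute.refl z, by rw [D.p_z]; exact K.one_mem⟩
    refine ⟨⟨1, ψ.ker.one_mem⟩, ⟨⟨z, hz⟩, Subtype.ext D.p_z⟩, fun h => D.ne ?_, ?_⟩
    · exact (congrArg (fun t : ψ.ker => ((t : preK D) : G)) h).symm
    · refine Set.eq_univ_of_forall fun ⟨⟨x, hx⟩, hk⟩ => ?_
      rcases (D.p_eq_one_iff hx.1).1 (congrArg Subtype.val (MonoidHom.mem_ker.1 hk)) with rfl | rfl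
      · exact Or.inl rfl
      · exact Or.inr rfl
  have h := Subgroup.card_mul_index ψ.ker
  rw [Subgroup.index_ker, MonoidHom.range_eq_top.2 hsurj, Subgroup.card_top, card_K, hker] at h
  omega

/-- Transport to a conjugate. -/
theorem p_conj_data (D : DC z 11) (g : G) {x : G} (hx : Commute x z) :
    Commute (g * x * g⁻¹) (g * z * g⁻¹) ∧ (D.conj g).p (g * x * g⁻¹) = D.p x := by
  have hc : Commute (g * x * g⁻¹) (g * z * g⁻¹) := by
    show g * x * g⁻¹ * (g * z * g⁻¹) = g * z * g⁻¹ * (g * x * g⁻¹)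
    calc g * x * g⁻¹ * (g * z * g⁻¹) = g * (x * z) * g⁻¹ := by group
      _ = g * (z * x) * g⁻¹ := by rw [hx.eq]
      _ = g * z * g⁻¹ * (g * x * g⁻¹) := by group
  refine ⟨hc, ?_⟩
  rw [(D.conj g).p_coe ⟨_, DC.mem _ hc⟩, D.p_coe ⟨x, DC.mem x hx⟩]
  show ((D.π _ : alternatingGroup (Fin 11)) : Perm (Fin 11)) = _
  congr 2
  exact Subtype.ext (by simp [mul_assoc])

theorem map_preK (D : DC z 11) (g : G) :
    (preK D).map (MulAut.conj g).toMonoidHom = preK (D.conj g) := by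
  ext y
  simp only [Subgroup.mem_map, MulEquiv.coe_toMonoidHom, MulAut.conj_apply]
  constructor
  · rintro ⟨x, ⟨hx, hK⟩, rfl⟩
    obtain ⟨h1, h2⟩ := p_conj_data D g hx
    exact ⟨h1, by rw [h2]; exact hK⟩
  · rintro ⟨hy, hK⟩
    have hx : Commute (g⁻¹ * y * g) z := by
      show g⁻¹ * y * g * z = z * (g⁻¹ * y * g)
      calc g⁻¹ * y * g * z = g⁻¹ * (y * (g * z * g⁻¹)) * g := by group
        _ = g⁻¹ * (g * z * g⁻¹ * y) * g := by rw [hy.eq]
        _ = z * (g⁻¹ * y * g) := by group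
    have e : g * (g⁻¹ * y * g) * g⁻¹ = y := by group
    refine ⟨g⁻¹ * y * g, ⟨hx, ?_⟩, e⟩
    rw [← (p_conj_data D g hx).2, e]
    exact hK

theorem lift_quad (D : DC z 11) (i : Fin 7) :
    ∃ l ∈ preK D, D.p l = gen i ∧ l * l = 1 ∧ l ≠ 1 := by
  obtain ⟨l, hl, hp⟩ := D.exists_lift (sign_K (gen_mem i))
  refine ⟨l, ⟨hl, hp ▸ gen_mem i⟩, hp, ?_, fun h => gen_ne i (by rw [← hp, h, D.p_one])⟩
  obtain ⟨-, h⟩ := D.sq_eq_pow 8 hl (by rw [hp]; exact gen_card i) (by rw [hp]; exact gen_sq i)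
  rw [h, show 8 / 4 = 2 from rfl, pow_two, D.sq]

/-- The centre of the preimage is generated by `z`. -/
theorem central_preK (D : DC z 11) {c : G} (hc : c ∈ preK D) (hcc : ∀ x ∈ preK D, x * c = c * x) :
    c = 1 ∨ c = z := by
  have hcen : D.p c = 1 ∨ D.p c = delta := central hc.2 fun τ hτ => by
    obtain ⟨x, hx, rfl⟩ := D.exists_lift (sign_K hτ)
    rw [← D.p_mul hc.1 hx, ← D.p_mul hx hc.1, hcc x ⟨hx, hτ⟩]
  rcases hcen with h | h
  · exact (D.p_eq_one_iff hc.1).1 h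
  exfalso
  obtain ⟨y, hy, hyp⟩ := D.exists_lift (sign_K uu_mem)
  obtain ⟨d, hd, hdp⟩ := D.exists_lift (σ := swap (0 : Fin 11) 1 * swap 2 3) (by decide +kernel)
  set w := d⁻¹ * c with hw
  have hwc : Commute w z := hd.inv_left.mul_left hc.1
  have hwp : D.p w = (swap (0 : Fin 11) 1 * swap 2 3)⁻¹ * delta := by
    rw [hw, D.p_mul hd.inv_left hc.1, D.p_inv hd, hdp, h]
  have hyw : Commute y w := D.comm_disjoint hy hwc (by
    rw [hyp, hwp]
    intro x
    revert x
    decide +kernel)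
  have hanti : y * d = z * (d * y) := D.anti3 hy hd
    (by rw [hyp]; exact isDTP_swaps (by decide) (by decide) (by decide) (by decide) (by decide) (by decide))
    (by rw [hdp]; exact isDTP_swaps (by decide) (by decide) (by decide) (by decide) (by decide) (by decide))
    ⟨0, 3, 1, 2, by decide, by decide, by decide, by decide, by decide, by decide, by
      rw [hyp, hdp]; exact Equiv.ext (by decide +kernel)⟩
  have e : c = d * w := by rw [hw, mul_inv_cancel_left]
  have h1 : y * c = z * (c * y) := by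
    rw [e, ← mul_assoc, hanti, mul_assoc, mul_assoc, hyw.eq, ← mul_assoc d]
  rw [hcc y ⟨hy, by rw [hyp]; exact uu_mem⟩] at h1
  exact D.ne (mul_eq_right.1 h1.symm)

/-- The fusion system on the preimage is simple. -/
theorem isSimple_preK [Finite G] [IsSimpleGroup G] (D : DC z 11) {S : Sylow 2 G}
    (hS : (S : Subgroup G) = preK D) : (groupFusionSystem (S : Subgroup G)).IsSimple 2 := by
  haveI : Fact (Nat.Prime 2) := ⟨Nat.prime_two⟩
  have hmem : ∀ {x : G}, x ∈ (S : Subgroup G) ↔ Commute x z ∧ D.p x ∈ K := fun {x} => by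
    rw [hS]; rfl
  have hzS : z ∈ (S : Subgroup G) := hmem.2 ⟨Commute.refl z, by rw [D.p_z]; exact K.one_mem⟩
  obtain ⟨g₀, hg₀, hg₀ne⟩ := exists_conjugate (by norm_num) D
  set u := g₀ * z * g₀⁻¹
  have hu2 : u * u = 1 := by
    show g₀ * z * g₀⁻¹ * (g₀ * z * g₀⁻¹) = 1
    rw [show g₀ * z * g₀⁻¹ * (g₀ * z * g₀⁻¹) = g₀ * (z * z) * g₀⁻¹ by group, D.sq]
    group
  have hu1 : u ≠ 1 := fun h => D.ne (conj_eq_one_iff.1 h)
  -- one class of involutions inside the centralizer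
  have hclass : ∀ {x : G}, Commute x z → x * x = 1 → x ≠ 1 → IsConj z x := by
    intro x hx hx2 hx1
    by_cases hxz : x = z
    · rw [hxz]
    refine (isConj_iff.2 ⟨g₀, rfl⟩ : IsConj z u).trans ?_
    obtain ⟨a1, a2, a3⟩ := D.card_support_invol hx hx2 hx1 hxz
    obtain ⟨b1, b2, b3⟩ := D.card_support_invol hg₀ hu2 hu1 hg₀ne
    obtain ⟨k, -, hk⟩ := D.conj_invol hg₀ hx (D.p_sq_of_invol hg₀ hu2) (D.p_sq_of_invol hx hx2)
      (fun h => by rw [h, Perm.support_one, Finset.card_empty] at b2; omega) (by omega)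
    exact isConj_iff.2 ⟨k, hk⟩
  have hpre : ∀ T : Subgroup G, (groupFusionSystem (S : Subgroup G)).StronglyClosed T →
      T ≠ ⊥ → T = (S : Subgroup G) := by
    intro T hT hne
    obtain ⟨c, hcT, hc1, hcS, -⟩ := exists_central_mem hT hne
    have hTS : T ≤ (S : Subgroup G) := hT.1
    haveI : Nontrivial T := (Subgroup.nontrivial_iff_ne_bot T).2 hne
    obtain ⟨n, hn0, hn⟩ := (IsPGroup.nontrivial_iff_card (S.2.to_le hTS)).1 inferInstance
    obtain ⟨t, ht⟩ := exists_prime_orderOf_dvd_card' (G := T) 2 (hn ▸ dvd_pow_self 2 hn0.ne')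
    have ht2 : (t : G) * t = 1 := by
      have h := pow_orderOf_eq_one t
      rw [ht, pow_two] at h
      exact congrArg Subtype.val h
    have ht1 : (t : G) ≠ 1 := fun h => by
      rw [show t = 1 from Subtype.ext h, orderOf_one] at ht
      omega
    have hinv : ∀ {x : G}, x ∈ (S : Subgroup G) → x * x = 1 → x ≠ 1 → x ∈ T := by
      intro x hx hx2 hx1
      obtain ⟨g, hg⟩ := isConj_iff.1
        ((hclass (hmem.1 (hTS t.2)).1 ht2 ht1).symm.trans (hclass (hmem.1 hx).1 hx2 hx1))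
      rw [← hg] at hx ⊢
      exact mem_of_conj hT t.2 hx
    refine le_antisymm hTS fun x hx => ?_
    obtain ⟨hxz, hxK⟩ := hmem.1 hx
    obtain ⟨e, he⟩ := mem_K_iff.1 hxK
    have hlift : ∀ i : Fin 7, ∃ l ∈ T, Commute l z ∧ D.p l = gen i := fun i => by
      obtain ⟨l, hl, hp, hl2, hl1⟩ := lift_quad D i
      exact ⟨l, hinv (hS ▸ hl) hl2 hl1, hl.1, hp⟩
    choose l hlT hlz hlp using hlift
    have key : ∀ L : List (Fin 7), ∀ w : Perm (Fin 11),
        w = (L.map fun i => if e.val.testBit i.val then gen i else 1).prod →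
        ∃ y ∈ T, Commute y z ∧ D.p y = w := by
      intro L
      induction L with
      | nil => intro w hw; exact ⟨1, T.one_mem, Commute.one_left z, by rw [hw]; exact D.p_one⟩
      | cons i L ih =>
        intro w hw
        obtain ⟨y, hyT, hyz, hyp⟩ := ih _ rfl
        rw [hw, List.map_cons, List.prod_cons, ← hyp]
        by_cases hb : e.val.testBit i.val = true
        · exact ⟨l i * y, T.mul_mem (hlT i) hyT, (hlz i).mul_left hyz,
            by rw [if_pos hb, D.p_mul (hlz i) hyz, hlp]⟩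
        · exact ⟨y, hyT, hyz, by rw [if_neg hb, one_mul]⟩
    obtain ⟨y, hyT, hyz, hyp⟩ := key (List.finRange 7) (D.p x) he
    rcases D.eq_or_mul hxz hyz hyp.symm with h | h
    · rw [h]; exact hyT
    · rw [h]; exact T.mul_mem hyT (hinv hzS D.sq D.ne)
  refine isSimple_of_closed_gen (fun h => D.ne (Subgroup.mem_bot.1 (h ▸ hzS))) hpre
    fun k hk => Subgroup.subset_closure (Or.inl ?_)
  have hnorm := Subgroup.mem_normalizer_iff.1 hk
  have hkz : Commute k z := by
    have hcS : k * z * k⁻¹ ∈ preK D := hS ▸ (hnorm z).1 hzS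
    rcases central_preK D hcS (fun x hx => by
      have hx' : k⁻¹ * x * k ∈ (S : Subgroup G) := (hnorm _).2 (by
        rw [show k * (k⁻¹ * x * k) * k⁻¹ = x by group, hS]; exact hx)
      calc x * (k * z * k⁻¹) = k * ((k⁻¹ * x * k) * z) * k⁻¹ := by group
        _ = k * (z * (k⁻¹ * x * k)) * k⁻¹ := by rw [(hmem.1 hx').1.eq]
        _ = k * z * k⁻¹ * x := by group) with h | h
    · exact absurd (conj_eq_one_iff.1 h) D.ne
    · exact mul_inv_eq_iff_eq_mul.1 h
  refine hmem.2 ⟨hkz, normalizer_le (D.p_sign k) (fun τ hτ => ?_) fun τ hτ => ?_⟩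
  · obtain ⟨x, hx, rfl⟩ := D.exists_lift (sign_K hτ)
    have h := (hmem.1 ((hnorm x).1 (hmem.2 ⟨hx, hτ⟩))).2
    rwa [D.p_conj hx hkz] at h
  · obtain ⟨x, hx, rfl⟩ := D.exists_lift (sign_K hτ)
    have h' : k⁻¹ * x * k ∈ (S : Subgroup G) := (hnorm _).2 (by
      rw [show k * (k⁻¹ * x * k) * k⁻¹ = x by group]; exact hmem.2 ⟨hx, hτ⟩)
    have h := (hmem.1 h').2
    rwa [D.p_mul (hkz.inv_left.mul_left hx) hkz, D.p_mul hkz.inv_left hx, D.p_inv hkz] at h

/-- The criterion. -/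
theorem isSimple [Finite G] [IsSimpleGroup G] (z : G) (hz : orderOf z = 2)
    (hcov : Cfsg.IsNonsplitDoubleCover (Subgroup.centralizer ({z} : Set G)) (alternatingGroup (Fin 11)))
    (h512 : ¬ 2 ^ 9 ∣ Nat.card G) (S : Sylow 2 G) :
    (groupFusionSystem (S : Subgroup G)).IsSimple 2 := by
  haveI : Fact (Nat.Prime 2) := ⟨Nat.prime_two⟩
  obtain ⟨D⟩ := exists_dc (by norm_num) hz hcov
  have hQ : IsPGroup 2 (preK D) := IsPGroup.of_card (n := 8) (card_preK D)
  obtain ⟨S₀, hS₀⟩ := hQ.exists_le_sylow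
  obtain ⟨m, hm⟩ := IsPGroup.iff_card.1 S₀.2
  have hm8 : m ≤ 8 := by
    by_contra h
    exact h512 ((pow_dvd_pow 2 (by omega : 9 ≤ m)).trans (hm ▸ Subgroup.card_subgroup_dvd_card _))
  have hEq : preK D = (S₀ : Subgroup G) := Subgroup.eq_of_le_of_card_ge hS₀ (by
    rw [card_preK, hm]
    exact Nat.pow_le_pow_right (by norm_num) hm8)
  obtain ⟨g, hg⟩ := MulAction.exists_smul_eq G S₀ S
  refine isSimple_preK (D.conj g) ?_
  rw [← map_preK, hEq, ← hg]
  rfl

end Cfsg.Agent.LyFusionAlt98
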