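import Cfsg.Agent.Lib.LyFusionAlt98

/-!
Transport of the simplicity criterion along an isomorphism (helper98).
-/

set_option autoImplicit false
set_option linter.style.haveILetI false

namespace Cfsg.Agent.LyFusionEquiv98

open Equiv Cfsg Cfsg.Agent.DoubleCover90

universe u v

/-- The data of a double cover carried along an isomorphism. -/
noncomputable def mapDC {L : Type u} [Group L] {G : Type v} [Group G] (e : L ≃* G) {z : L} {n : ℕ}
    (D : DC z n) : DC (e z) n where
  π := D.π.comp (MonoidHom.codRestrict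
    (e.symm.toMonoidHom.comp (Subgroup.centralizer ({e z} : Set G)).subtype) _ fun x =>
      Subgroup.mem_centralizer_singleton_iff.2 (by
        have h := congrArg e.symm (Subgroup.mem_centralizer_singleton_iff.1 x.2)
        simpa using h))
  surj σ := by
    obtain ⟨x, hx⟩ := D.surj σ
    refine ⟨⟨e x, Subgroup.mem_centralizer_singleton_iff.2 (by
      rw [← map_mul, Subgroup.mem_centralizer_singleton_iff.1 x.2, map_mul])⟩, ?_⟩
    show D.π _ = σ
    rw [← hx]
    congr 1
    exact Subtype.ext (e.symm_apply_apply _)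
  ker x := by
    refine (D.ker _).trans ?_
    show e.symm (x : G) = 1 ∨ e.symm (x : G) = z ↔ _
    rw [MulEquiv.symm_apply_eq, MulEquiv.symm_apply_eq, map_one]
  sq := by rw [← map_mul, D.sq, map_one]
  ne h := D.ne (e.injective (h.trans (map_one e).symm))
  dt x hx := by
    have h : e.symm (x : G) * e.symm (x : G) = z := D.dt _ hx
    have h' := congrArg e h
    rwa [map_mul, MulEquiv.apply_symm_apply] at h'

/-- The criterion for a group isomorphic to one with the centralizer condition. -/
theorem isSimple_of_equiv {L : Type u} [Group L] [Finite L] [IsSimpleGroup L] {G : Type v} [Group G]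
    [Finite G] (e : L ≃* G) (z : L) (hz : orderOf z = 2)
    (hcov : Cfsg.IsNonsplitDoubleCover (Subgroup.centralizer ({z} : Set L)) (alternatingGroup (Fin 11)))
    (h512 : ¬ 2 ^ 9 ∣ Nat.card L) (S : Sylow 2 G) :
    (groupFusionSystem (S : Subgroup G)).IsSimple 2 := by
  haveI : Fact (Nat.Prime 2) := ⟨Nat.prime_two⟩
  haveI : Nontrivial G := e.symm.toEquiv.nontrivial
  haveI : IsSimpleGroup G :=
    IsSimpleGroup.isSimpleGroup_of_surjective (e.toMonoidHom) e.surjective
  obtain ⟨D⟩ := exists_dc (by norm_num) hz hcov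
  have D' := mapDC e D
  have hQ : IsPGroup 2 (LyFusionAlt98.preK D') := IsPGroup.of_card (n := 8) (LyFusionAlt98.card_preK D')
  obtain ⟨S₀, hS₀⟩ := hQ.exists_le_sylow
  obtain ⟨m, hm⟩ := IsPGroup.iff_card.1 S₀.2
  have hm8 : m ≤ 8 := by
    by_contra h
    refine h512 (((pow_dvd_pow 2 (by omega : 9 ≤ m)).trans (hm ▸ Subgroup.card_subgroup_dvd_card _)).trans ?_)
    rw [Nat.card_congr e.toEquiv]
  have hEq : LyFusionAlt98.preK D' = (S₀ : Subgroup G) := Subgroup.eq_of_le_of_card_ge hS₀ (by
    rw [LyFusionAlt98.card_preK, hm]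
    exact Nat.pow_le_pow_right (by norm_num) hm8)
  obtain ⟨g, hg⟩ := MulAction.exists_smul_eq G S₀ S
  refine LyFusionAlt98.isSimple_preK (D'.conj g) ?_
  rw [← LyFusionAlt98.map_preK, hEq, ← hg]
  rfl

end Cfsg.Agent.LyFusionEquiv98
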