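import Cfsg.Agent.Lib.LyG2Cert64

/-! Checks of coset tables for G2(5). -/

set_option autoImplicit false
set_option maxRecDepth 100000
set_option maxHeartbeats 4000000

namespace Cfsg.Agent.LyG2CertB64

open Cfsg.Agent.LyG2Cert64 Cfsg.Agent.LyG2Check64

theorem partG1300 : checkFrom certG reasonsG 160 1300 = true := by
  decide +kernel

theorem partG1460 : checkFrom certG reasonsG 160 1460 = true := by
  decide +kernel

theorem partG1620 : checkFrom certG reasonsG 160 1620 = true := by
  decide +kernel

theorem partG1780 : checkFrom certG reasonsG 160 1780 = true := by
  decide +kernel

theorem partG1940 : checkFrom certG reasonsG 160 1940 = true := by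
  decide +kernel

theorem partG2100 : checkFrom certG reasonsG 160 2100 = true := by
  decide +kernel

theorem partG2260 : checkFrom certG reasonsG 160 2260 = true := by
  decide +kernel

theorem partG2420 : checkFrom certG reasonsG 160 2420 = true := by
  decide +kernel

theorem partG2580 : checkFrom certG reasonsG 20 2580 = true := by
  decide +kernel

end Cfsg.Agent.LyG2CertB64
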