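import Cfsg.Agent.Lib.LyG2Cert64

/-! Checks of coset tables for G2(5). -/

set_option autoImplicit false
set_option maxRecDepth 100000
set_option maxHeartbeats 4000000

namespace Cfsg.Agent.LyG2CertC64

open Cfsg.Agent.LyG2Cert64 Cfsg.Agent.LyG2Check64

theorem partG2600 : checkFrom certG reasonsG 160 2600 = true := by
  decide +kernel

theorem partG2760 : checkFrom certG reasonsG 160 2760 = true := by
  decide +kernel

theorem partG2920 : checkFrom certG reasonsG 160 2920 = true := by
  decide +kernel

theorem partG3080 : checkFrom certG reasonsG 160 3080 = true := by
  decide +kernel

theorem partG3240 : checkFrom certG reasonsG 160 3240 = true := by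
  decide +kernel

theorem partG3400 : checkFrom certG reasonsG 160 3400 = true := by
  decide +kernel

theorem partG3560 : checkFrom certG reasonsG 160 3560 = true := by
  decide +kernel

theorem partG3720 : checkFrom certG reasonsG 160 3720 = true := by
  decide +kernel

theorem partG3880 : checkFrom certG reasonsG 26 3880 = true := by
  decide +kernel

end Cfsg.Agent.LyG2CertC64
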