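import Cfsg.Agent.Lib.LyG2Cert64

/-! Checks of coset tables for G2(5). -/

set_option autoImplicit false
set_option maxRecDepth 100000
set_option maxHeartbeats 4000000

namespace Cfsg.Agent.LyG2CertD64

open Cfsg.Agent.LyG2Cert64 Cfsg.Agent.LyG2Check64

theorem partP0 : checkFrom certP reasonsP 160 0 = true := by
  decide +kernel

theorem partP160 : checkFrom certP reasonsP 160 160 = true := by
  decide +kernel

theorem partP320 : checkFrom certP reasonsP 160 320 = true := by
  decide +kernel

theorem partP480 : checkFrom certP reasonsP 160 480 = true := by
  decide +kernel

theorem partP640 : checkFrom certP reasonsP 160 640 = true := by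
  decide +kernel

theorem partP800 : checkFrom certP reasonsP 160 800 = true := by
  decide +kernel

theorem partP960 : checkFrom certP reasonsP 160 960 = true := by
  decide +kernel

theorem partP1120 : checkFrom certP reasonsP 160 1120 = true := by
  decide +kernel

theorem partP1280 : checkFrom certP reasonsP 160 1280 = true := by
  decide +kernel

theorem partP1440 : checkFrom certP reasonsP 160 1440 = true := by
  decide +kernel

theorem partP1600 : checkFrom certP reasonsP 160 1600 = true := by
  decide +kernel

theorem partP1760 : checkFrom certP reasonsP 160 1760 = true := by
  decide +kernel

theorem partP1920 : checkFrom certP reasonsP 160 1920 = true := by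
  decide +kernel

theorem partP2080 : checkFrom certP reasonsP 160 2080 = true := by
  decide +kernel

theorem partP2240 : checkFrom certP reasonsP 160 2240 = true := by
  decide +kernel

theorem partP2400 : checkFrom certP reasonsP 160 2400 = true := by
  decide +kernel

theorem partP2560 : checkFrom certP reasonsP 160 2560 = true := by
  decide +kernel

theorem partP2720 : checkFrom certP reasonsP 160 2720 = true := by
  decide +kernel

theorem partP2880 : checkFrom certP reasonsP 160 2880 = true := by
  decide +kernel

theorem partP3040 : checkFrom certP reasonsP 85 3040 = true := by
  decide +kernel

theorem partL0 : checkFrom certL reasonsL 160 0 = true := by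
  decide +kernel

theorem partL160 : checkFrom certL reasonsL 160 160 = true := by
  decide +kernel

theorem partL320 : checkFrom certL reasonsL 160 320 = true := by
  decide +kernel

end Cfsg.Agent.LyG2CertD64
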