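import Cfsg.Agent.Lib.LyG2CertA64
import Cfsg.Agent.Lib.LyG2CertB64
import Cfsg.Agent.Lib.LyG2CertC64
import Cfsg.Agent.Lib.LyG2CertD64

/-! All edges of the three coset tables are justified. -/

set_option autoImplicit false

namespace Cfsg.Agent.LyG2All64

open Cfsg.Agent.LyG2Cert64 Cfsg.Agent.LyG2Check64

theorem justG : ∀ v < certG.N, ∀ i < certG.L, justE certG reasonsG v i = true := by
  intro v hv
  replace hv : v < 3906 := hv
  by_cases h0 : v < 160
  · exact checkFrom_sound _ _ _ _ LyG2CertA64.partG0 v (by omega) (by omega)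
  by_cases h160 : v < 320
  · exact checkFrom_sound _ _ _ _ LyG2CertA64.partG160 v (by omega) (by omega)
  by_cases h320 : v < 480
  · exact checkFrom_sound _ _ _ _ LyG2CertA64.partG320 v (by omega) (by omega)
  by_cases h480 : v < 640
  · exact checkFrom_sound _ _ _ _ LyG2CertA64.partG480 v (by omega) (by omega)
  by_cases h640 : v < 800
  · exact checkFrom_sound _ _ _ _ LyG2CertA64.partG640 v (by omega) (by omega)
  by_cases h800 : v < 960
  · exact checkFrom_sound _ _ _ _ LyG2CertA64.partG800 v (by omega) (by omega)
  by_cases h960 : v < 1120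
  · exact checkFrom_sound _ _ _ _ LyG2CertA64.partG960 v (by omega) (by omega)
  by_cases h1120 : v < 1280
  · exact checkFrom_sound _ _ _ _ LyG2CertA64.partG1120 v (by omega) (by omega)
  by_cases h1280 : v < 1300
  · exact checkFrom_sound _ _ _ _ LyG2CertA64.partG1280 v (by omega) (by omega)
  by_cases h1300 : v < 1460
  · exact checkFrom_sound _ _ _ _ LyG2CertB64.partG1300 v (by omega) (by omega)
  by_cases h1460 : v < 1620
  · exact checkFrom_sound _ _ _ _ LyG2CertB64.partG1460 v (by omega) (by omega)
  by_cases h1620 : v < 1780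
  · exact checkFrom_sound _ _ _ _ LyG2CertB64.partG1620 v (by omega) (by omega)
  by_cases h1780 : v < 1940
  · exact checkFrom_sound _ _ _ _ LyG2CertB64.partG1780 v (by omega) (by omega)
  by_cases h1940 : v < 2100
  · exact checkFrom_sound _ _ _ _ LyG2CertB64.partG1940 v (by omega) (by omega)
  by_cases h2100 : v < 2260
  · exact checkFrom_sound _ _ _ _ LyG2CertB64.partG2100 v (by omega) (by omega)
  by_cases h2260 : v < 2420
  · exact checkFrom_sound _ _ _ _ LyG2CertB64.partG2260 v (by omega) (by omega)
  by_cases h2420 : v < 2580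
  · exact checkFrom_sound _ _ _ _ LyG2CertB64.partG2420 v (by omega) (by omega)
  by_cases h2580 : v < 2600
  · exact checkFrom_sound _ _ _ _ LyG2CertB64.partG2580 v (by omega) (by omega)
  by_cases h2600 : v < 2760
  · exact checkFrom_sound _ _ _ _ LyG2CertC64.partG2600 v (by omega) (by omega)
  by_cases h2760 : v < 2920
  · exact checkFrom_sound _ _ _ _ LyG2CertC64.partG2760 v (by omega) (by omega)
  by_cases h2920 : v < 3080
  · exact checkFrom_sound _ _ _ _ LyG2CertC64.partG2920 v (by omega) (by omega)
  by_cases h3080 : v < 3240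
  · exact checkFrom_sound _ _ _ _ LyG2CertC64.partG3080 v (by omega) (by omega)
  by_cases h3240 : v < 3400
  · exact checkFrom_sound _ _ _ _ LyG2CertC64.partG3240 v (by omega) (by omega)
  by_cases h3400 : v < 3560
  · exact checkFrom_sound _ _ _ _ LyG2CertC64.partG3400 v (by omega) (by omega)
  by_cases h3560 : v < 3720
  · exact checkFrom_sound _ _ _ _ LyG2CertC64.partG3560 v (by omega) (by omega)
  by_cases h3720 : v < 3880
  · exact checkFrom_sound _ _ _ _ LyG2CertC64.partG3720 v (by omega) (by omega)
  exact checkFrom_sound _ _ _ _ LyG2CertC64.partG3880 v (by omega) (by omega)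

theorem basicG : basicOk certG = true := by
  decide +kernel

theorem justP : ∀ v < certP.N, ∀ i < certP.L, justE certP reasonsP v i = true := by
  intro v hv
  replace hv : v < 3125 := hv
  by_cases h0 : v < 160
  · exact checkFrom_sound _ _ _ _ LyG2CertD64.partP0 v (by omega) (by omega)
  by_cases h160 : v < 320
  · exact checkFrom_sound _ _ _ _ LyG2CertD64.partP160 v (by omega) (by omega)
  by_cases h320 : v < 480
  · exact checkFrom_sound _ _ _ _ LyG2CertD64.partP320 v (by omega) (by omega)
  by_cases h480 : v < 640
  · exact checkFrom_sound _ _ _ _ LyG2CertD64.partP480 v (by omega) (by omega)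
  by_cases h640 : v < 800
  · exact checkFrom_sound _ _ _ _ LyG2CertD64.partP640 v (by omega) (by omega)
  by_cases h800 : v < 960
  · exact checkFrom_sound _ _ _ _ LyG2CertD64.partP800 v (by omega) (by omega)
  by_cases h960 : v < 1120
  · exact checkFrom_sound _ _ _ _ LyG2CertD64.partP960 v (by omega) (by omega)
  by_cases h1120 : v < 1280
  · exact checkFrom_sound _ _ _ _ LyG2CertD64.partP1120 v (by omega) (by omega)
  by_cases h1280 : v < 1440
  · exact checkFrom_sound _ _ _ _ LyG2CertD64.partP1280 v (by omega) (by omega)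
  by_cases h1440 : v < 1600
  · exact checkFrom_sound _ _ _ _ LyG2CertD64.partP1440 v (by omega) (by omega)
  by_cases h1600 : v < 1760
  · exact checkFrom_sound _ _ _ _ LyG2CertD64.partP1600 v (by omega) (by omega)
  by_cases h1760 : v < 1920
  · exact checkFrom_sound _ _ _ _ LyG2CertD64.partP1760 v (by omega) (by omega)
  by_cases h1920 : v < 2080
  · exact checkFrom_sound _ _ _ _ LyG2CertD64.partP1920 v (by omega) (by omega)
  by_cases h2080 : v < 2240
  · exact checkFrom_sound _ _ _ _ LyG2CertD64.partP2080 v (by omega) (by omega)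
  by_cases h2240 : v < 2400
  · exact checkFrom_sound _ _ _ _ LyG2CertD64.partP2240 v (by omega) (by omega)
  by_cases h2400 : v < 2560
  · exact checkFrom_sound _ _ _ _ LyG2CertD64.partP2400 v (by omega) (by omega)
  by_cases h2560 : v < 2720
  · exact checkFrom_sound _ _ _ _ LyG2CertD64.partP2560 v (by omega) (by omega)
  by_cases h2720 : v < 2880
  · exact checkFrom_sound _ _ _ _ LyG2CertD64.partP2720 v (by omega) (by omega)
  by_cases h2880 : v < 3040
  · exact checkFrom_sound _ _ _ _ LyG2CertD64.partP2880 v (by omega) (by omega)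
  exact checkFrom_sound _ _ _ _ LyG2CertD64.partP3040 v (by omega) (by omega)

theorem basicP : basicOk certP = true := by
  decide +kernel

theorem justL : ∀ v < certL.N, ∀ i < certL.L, justE certL reasonsL v i = true := by
  intro v hv
  replace hv : v < 480 := hv
  by_cases h0 : v < 160
  · exact checkFrom_sound _ _ _ _ LyG2CertD64.partL0 v (by omega) (by omega)
  by_cases h160 : v < 320
  · exact checkFrom_sound _ _ _ _ LyG2CertD64.partL160 v (by omega) (by omega)
  exact checkFrom_sound _ _ _ _ LyG2CertD64.partL320 v (by omega) (by omega)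

theorem basicL : basicOk certL = true := by
  decide +kernel

end Cfsg.Agent.LyG2All64
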