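import Cfsg.Agent.Lib.LyG2Cert64

/-! Checks of coset tables for G2(5). -/

set_option autoImplicit false
set_option maxRecDepth 100000
set_option maxHeartbeats 4000000

namespace Cfsg.Agent.LyG2CertA64

open Cfsg.Agent.LyG2Cert64 Cfsg.Agent.LyG2Check64

theorem partG0 : checkFrom certG reasonsG 160 0 = true := by
  decide +kernel

theorem partG160 : checkFrom certG reasonsG 160 160 = true := by
  decide +kernel

theorem partG320 : checkFrom certG reasonsG 160 320 = true := by
  decide +kernel

theorem partG480 : checkFrom certG reasonsG 160 480 = true := by
  decide +kernel

theorem partG640 : checkFrom certG reasonsG 160 640 = true := by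
  decide +kernel

theorem partG800 : checkFrom certG reasonsG 160 800 = true := by
  decide +kernel

theorem partG960 : checkFrom certG reasonsG 160 960 = true := by
  decide +kernel

theorem partG1120 : checkFrom certG reasonsG 160 1120 = true := by
  decide +kernel

theorem partG1280 : checkFrom certG reasonsG 20 1280 = true := by
  decide +kernel

end Cfsg.Agent.LyG2CertA64
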