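import Cfsg.Agent.Lib.UnitaryPres49Cert

/-!
A checker for closed coset tables in which every edge carries its reason: a tree edge, a subgroup letter,
the reverse of an edge of smaller rank, or a relator read through edges of smaller rank. The edges can be
checked one at a time.
-/

set_option autoImplicit false

namespace Cfsg.Agent.LyG2Check64

open Cfsg.Agent.CosetCertCore (Tbl entry force force_eq)
open Cfsg.Agent.UnitaryPres49Cert

/-- The rank of a packed reason. -/
def rnk (x : Nat) : Nat := Nat.land x 4294967295

/-- The kind of a packed reason. -/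
def knd (x : Nat) : Nat := Nat.land (Nat.shiftRight x 32) 3

/-- The relator of a packed reason. -/
def rlt (x : Nat) : Nat := Nat.land (Nat.shiftRight x 34) 255

/-- The position of a packed reason. -/
def pos (x : Nat) : Nat := Nat.land (Nat.shiftRight x 42) 255

/-- The start of a packed reason. -/
def st0 (x : Nat) : Nat := Nat.shiftRight x 50

/-- Follow a word through edges of rank below `r`. -/
noncomputable def walkR (C : Cert) (J : Tbl) (r : Nat) : List Nat → Nat → Option Nat :=
  List.rec (motive := fun _ => Nat → Option Nat) (fun v => some v)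
    (fun i _ ih v => force v fun v =>
      cond (Nat.blt v C.N && Nat.blt (rnk (entry J 64 (Nat.add (Nat.mul v C.L) i))) r)
        (force (C.img v i) ih) none)

theorem walkR_cons (C : Cert) (J : Tbl) (r i : Nat) (w : List Nat) (v : Nat) :
    walkR C J r (i :: w) v = cond (Nat.blt v C.N && Nat.blt (rnk (entry J 64 (v * C.L + i))) r)
      (walkR C J r w (C.img v i)) none := by
  simp only [walkR, force_eq]
  rfl

/-- The reason of a deduced edge. -/
noncomputable def dedOk (C : Cert) (J : Tbl) (v i x : Nat) : Bool :=
  match C.rels[rlt x]? with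
  | none => false
  | some w =>
    match w[pos x]?, walkR C J (rnk x) (w.take (pos x)) (st0 x), walkR C J (rnk x) (w.drop (pos x + 1)) (C.img v i) with
    | some i', some a, some e => Nat.beq i' i && Nat.beq a v && Nat.beq e (st0 x)
    | _, _, _ => false

/-- One edge is justified. -/
noncomputable def justE (C : Cert) (J : Tbl) (v i : Nat) : Bool :=
  force (C.img v i) fun c => force (entry J 64 (Nat.add (Nat.mul v C.L) i)) fun x =>
    Nat.blt c C.N &&
      cond (Nat.beq (knd x) 0) (Nat.blt v c && Nat.beq (entry C.par 32 c) (Nat.add (Nat.mul v C.L) i))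
        (cond (Nat.beq (knd x) 1) (Nat.beq v 0 && Nat.beq c 0 && C.sub.contains i)
          (cond (Nat.beq (knd x) 2) (Nat.beq (C.img c (C.iv i)) v && Nat.blt (C.iv i) C.L &&
              Nat.beq (C.iv (C.iv i)) i && Nat.blt (rnk (entry J 64 (Nat.add (Nat.mul c C.L) (C.iv i)))) (rnk x))
            (dedOk C J v i x)))

/-- All edges at the points from `lo` on. -/
noncomputable def checkFrom (C : Cert) (J : Tbl) : Nat → Nat → Bool := fun cnt =>
  Nat.rec (motive := fun _ => Nat → Bool) (fun _ => true)
    (fun _ ih lo => force lo fun lo => (List.range C.L).all (fun i => justE C J lo i) && ih (Nat.add lo 1)) cnt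

theorem checkFrom_sound (C : Cert) (J : Tbl) : ∀ cnt lo, checkFrom C J cnt lo = true →
    ∀ v, lo ≤ v → v < lo + cnt → ∀ i < C.L, justE C J v i = true := by
  intro cnt
  induction cnt with
  | zero => intro lo _ v h1 h2; omega
  | succ n ih =>
    intro lo h v h1 h2 i hi
    have h' : ((List.range C.L).all (fun i => justE C J lo i) && checkFrom C J n (lo + 1)) = true := by
      have : checkFrom C J (n + 1) lo =
          ((List.range C.L).all (fun i => justE C J lo i) && checkFrom C J n (lo + 1)) := by
        simp only [checkFrom, force_eq]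
        try rfl
      rwa [this] at h
    rw [Bool.and_eq_true] at h'
    rcases h1.lt_or_eq with h1 | rfl
    · exact ih (lo + 1) h'.2 v h1 (by omega) i hi
    · exact List.all_eq_true.mp h'.1 i (List.mem_range.2 hi)

/-- The simple conditions. -/
def basicOk (C : Cert) : Bool :=
  Nat.blt 0 C.N && Nat.blt 0 C.L && C.rels.all fun w => w.all fun i => Nat.blt i C.L

variable {H : Type*} [Group H] {C : Cert} {J : Tbl}

theorem walkR_spec {K : Subgroup H} {y : Nat → H} {r : Nat}
    (hE : ∀ v i, v < C.N → i < C.L → rnk (entry J 64 (v * C.L + i)) < r → Edge C K y v i) :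
    ∀ (w : List Nat), (∀ i ∈ w, i < C.L) → ∀ v e, walkR C J r w v = some e →
      ∃ κ ∈ K, rep C y v * (w.map y).prod = κ * rep C y e := by
  intro w
  induction w with
  | nil =>
    intro _ v e h
    simp only [walkR, Option.some.injEq] at h
    subst h
    exact ⟨1, one_mem K, by simp⟩
  | cons i w ih =>
    intro hw v e h
    rw [walkR_cons] at h
    cases hc : (Nat.blt v C.N && Nat.blt (rnk (entry J 64 (v * C.L + i))) r) with
    | false => rw [hc] at h; simp at h
    | true =>
      rw [hc, cond_true] at h
      simp only [Bool.and_eq_true, Nat.blt_eq] at hc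
      obtain ⟨κ, hκ, e1⟩ := hE v i hc.1 (hw i (List.mem_cons_self ..)) hc.2
      obtain ⟨κ', hκ', e2⟩ := ih (fun j hj => hw j (List.mem_cons_of_mem _ hj)) _ e h
      refine ⟨κ * κ', mul_mem hκ hκ', ?_⟩
      rw [List.map_cons, List.prod_cons, ← mul_assoc, e1, mul_assoc, e2, mul_assoc]

theorem edge_sound {K : Subgroup H} {y : Nat → H} (hb : basicOk C = true)
    (hall : ∀ v < C.N, ∀ i < C.L, justE C J v i = true) (hy : ∀ i, i < C.L → y i * y (C.iv i) = 1)
    (hr : ∀ w ∈ C.rels, (w.map y).prod = 1) (hK : ∀ i ∈ C.sub, y i ∈ K) :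
    ∀ n v i, v < C.N → i < C.L → rnk (entry J 64 (v * C.L + i)) = n → Edge C K y v i := by
  simp only [basicOk, Bool.and_eq_true, List.all_eq_true, Nat.blt_eq] at hb
  obtain ⟨⟨-, hL⟩, hrL⟩ := hb
  intro n
  induction n using Nat.strong_induction_on with
  | _ n ih =>
    intro v i hv hi hn
    have h := hall v hv i hi
    simp only [justE, force_eq, Bool.and_eq_true, Nat.blt_eq] at h
    obtain ⟨hc, h⟩ := h
    have hvi : Nat.add (Nat.mul v C.L) i = v * C.L + i := rfl
    rw [hvi] at h
    generalize hx : entry J 64 (v * C.L + i) = x at h hn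
    cases h0 : Nat.beq (knd x) 0 with
    | true =>
      rw [h0] at h
      simp only [cond_true, Bool.and_eq_true, Nat.blt_eq, Nat.beq_eq] at h
      obtain ⟨hvc, hp⟩ := h
      refine ⟨1, one_mem K, ?_⟩
      have hd : (v * C.L + i) / C.L = v := by
        rw [Nat.add_comm, Nat.add_mul_div_right _ _ hL, Nat.div_eq_of_lt hi, Nat.zero_add]
      have hm : (v * C.L + i) % C.L = i := by
        rw [Nat.add_comm, Nat.add_mul_mod_self_right, Nat.mod_eq_of_lt hi]
      rw [one_mul]
      conv_rhs => rw [rep_eq, hp, hd, hm, if_pos hvc]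
    | false =>
      rw [h0] at h
      simp only [cond_false] at h
      cases h1 : Nat.beq (knd x) 1 with
      | true =>
        rw [h1] at h
        simp only [cond_true, Bool.and_eq_true, Nat.beq_eq, List.contains_iff_mem] at h
        obtain ⟨⟨hv0, hc0⟩, hs⟩ := h
        refine ⟨y i, hK i hs, ?_⟩
        rw [hc0, hv0, rep_zero C y, one_mul, mul_one]
      | false =>
        rw [h1] at h
        simp only [cond_false] at h
        cases h2 : Nat.beq (knd x) 2 with
        | true =>
          rw [h2] at h
          simp only [cond_true, Bool.and_eq_true, Nat.blt_eq, Nat.beq_eq] at h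
          obtain ⟨⟨⟨hback, hj⟩, hii⟩, hlt⟩ := h
          obtain ⟨κ, hκ, e⟩ := ih _ (hn ▸ hlt) (C.img v i) (C.iv i) hc hj rfl
          rw [hback] at e
          refine ⟨κ⁻¹, inv_mem hκ, ?_⟩
          have hyy : y (C.iv i) * y i = 1 := by simpa [hii] using hy (C.iv i) hj
          rw [eq_inv_mul_iff_mul_eq, ← mul_assoc, ← e, mul_assoc, hyy, mul_one]
        | false =>
          rw [h2] at h
          simp only [cond_false] at h
          unfold dedOk at h
          rcases hw : C.rels[rlt x]? with _ | w
          · rw [hw] at h; simp at h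
          rw [hw] at h
          have hwmem : w ∈ C.rels := List.mem_of_getElem? hw
          rcases hi' : w[pos x]? with _ | i'
          · simp [hi'] at h
          rcases ha : walkR C J (rnk x) (w.take (pos x)) (st0 x) with _ | a
          · simp [hi', ha] at h
          rcases he : walkR C J (rnk x) (w.drop (pos x + 1)) (C.img v i) with _ | e
          · simp [hi', ha, he] at h
          simp only [hi', ha, he, Bool.and_eq_true, Nat.beq_eq] at h
          obtain ⟨⟨rfl, rfl⟩, rfl⟩ := h
          have hE : ∀ v i, v < C.N → i < C.L → rnk (entry J 64 (v * C.L + i)) < rnk x → Edge C K y v i :=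
            fun v' i'' h1' h2' h3' => ih _ (hn ▸ h3') v' i'' h1' h2' rfl
          obtain ⟨κ, hκ, e1⟩ := walkR_spec hE _ (fun l hl => hrL w hwmem l (List.mem_of_mem_take hl)) _ _ ha
          obtain ⟨κ', hκ', e2⟩ := walkR_spec hE _ (fun l hl => hrL w hwmem l (List.mem_of_mem_drop hl)) _ _ he
          have hsplit : (w.map y).prod =
              ((w.take (pos x)).map y).prod * y i' * ((w.drop (pos x + 1)).map y).prod := by
            obtain ⟨hjl, hj⟩ := List.getElem?_eq_some_iff.1 hi'
            conv_lhs => rw [← List.take_append_drop (pos x) w]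
            rw [List.map_append, List.prod_append, List.drop_eq_getElem_cons hjl, hj, List.map_cons, List.prod_cons,
              mul_assoc]
          have h1r := hr w hwmem
          rw [hsplit] at h1r
          refine ⟨κ⁻¹ * κ'⁻¹, mul_mem (inv_mem hκ) (inv_mem hκ'), ?_⟩
          calc rep C y a * y i'
              = κ⁻¹ * (rep C y (st0 x) * (((w.take (pos x)).map y).prod * y i' *
                  ((w.drop (pos x + 1)).map y).prod)) * ((w.drop (pos x + 1)).map y).prod⁻¹ := by
                have e1' : rep C y a = κ⁻¹ * (rep C y (st0 x) * ((w.take (pos x)).map y).prod) := by rw [e1]; group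
                rw [e1']; group
            _ = κ⁻¹ * rep C y (st0 x) * ((w.drop (pos x + 1)).map y).prod⁻¹ := by rw [h1r, mul_one]
            _ = κ⁻¹ * κ'⁻¹ * rep C y (C.img a i') := by
                have e2' : rep C y (st0 x) =
                    κ'⁻¹ * (rep C y (C.img a i') * ((w.drop (pos x + 1)).map y).prod) := by rw [e2]; group
                rw [e2']; group

/-- A justified table bounds the order. -/
theorem bound_just (hb : basicOk C = true) (hall : ∀ v < C.N, ∀ i < C.L, justE C J v i = true)
    (K : Subgroup H) [Finite K] (y : Nat → H) (hy : ∀ i, i < C.L → y i * y (C.iv i) = 1)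
    (hr : ∀ w ∈ C.rels, (w.map y).prod = 1) (hK : ∀ i ∈ C.sub, y i ∈ K)
    (hgen : Submonoid.closure (y '' {i | i < C.L}) = ⊤) : Finite H ∧ Nat.card H ≤ C.N * Nat.card K := by
  have hs := edge_sound hb hall hy hr hK
  simp only [basicOk, Bool.and_eq_true, Nat.blt_eq] at hb
  have hbit : ∀ v < C.N, ∀ i < C.L, v * C.L + i < C.N * C.L := fun v hv i hi => by
    have : (v + 1) * C.L ≤ C.N * C.L := Nat.mul_le_mul_right _ hv
    rw [Nat.add_mul, Nat.one_mul] at this
    omega
  have hgood : Good C K y (2 ^ (C.N * C.L) - 1) := by
    intro v i hi h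
    simp only [Nat.testBit_two_pow_sub_one, decide_eq_true_eq] at h
    have hv : v < C.N := by
      by_contra hc
      have := Nat.mul_le_mul_right C.L (Nat.le_of_not_lt hc)
      omega
    exact hs _ v i hv hi rfl
  refine card_le hy hgen hgood hb.1.1 fun v hv i hi => ⟨by simp [hbit v hv i hi], ?_⟩
  have h := hall v hv i hi
  simp only [justE, force_eq, Bool.and_eq_true, Nat.blt_eq] at h
  exact h.1

end Cfsg.Agent.LyG2Check64
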