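import Cfsg.Agent.Lib.LyRepCheck0_64
import Cfsg.Agent.Lib.LyRepCheck1_64
import Cfsg.Agent.Lib.LyRepCheck2_64
import Cfsg.Agent.Lib.LyRepCheck3_64
import Cfsg.Agent.Lib.LyRepCheck4_64
import Cfsg.Agent.Lib.LyRepCheck5_64
import Cfsg.Agent.Lib.LyRepCheck6_64
import Cfsg.Agent.Lib.LyRepCheck7_64
import Cfsg.Prelude.Def_Spor_Ly

/-!
The 111-dimensional representation of the presented Lyons group over the field with five elements.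
-/

set_option autoImplicit false
set_option maxHeartbeats 4000000
set_option maxRecDepth 100000

namespace Cfsg.Agent.LyRep64

open Cfsg.Agent.LyRepCore64 Cfsg.Agent.LyRepData64
open Cfsg.Agent.LyRepChain64 hiding ok_of
open Cfsg.Agent.LyRepCheck0_64 Cfsg.Agent.LyRepCheck1_64 Cfsg.Agent.LyRepCheck2_64 Cfsg.Agent.LyRepCheck3_64 Cfsg.Agent.LyRepCheck4_64 Cfsg.Agent.LyRepCheck5_64 Cfsg.Agent.LyRepCheck6_64 Cfsg.Agent.LyRepCheck7_64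

/-- The unit group of the matrices. -/
abbrev GL111 : Type := (Matrix (Fin 111) (Fin 111) (ZMod 5))ˣ

theorem all_ok : (List.range 13).all (fun k => rowsOk (gens.getD k [])) = true := by
  decide +kernel

theorem ok {k : ℕ} (hk : k < 13) : rowsOk (gens.getD k []) = true :=
  List.all_eq_true.mp all_ok k (List.mem_range.2 hk)

theorem comm_one {n R : Type*} [Fintype n] [DecidableEq n] [CommRing R] (A B : Matrix n n R) (h : A * B = 1) :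
    B * A = 1 := mul_eq_one_comm.mp h

theorem both {i j : ℕ} (_hi : i < 13) (_hj : j < 13) (h : (List.map M [i, j]).prod = 1) :
    M i * M j = 1 ∧ M j * M i = 1 := by
  have h1 : M i * M j = 1 := by
    simpa using h
  exact ⟨h1, comm_one _ _ h1⟩

/-- The letters as units. -/
noncomputable def U : ℕ → GL111
  | 0 => ⟨M 0, M 1, (both (i := 0) (j := 1) (by norm_num) (by norm_num) pair0).1, (both (i := 0) (j := 1) (by norm_num) (by norm_num) pair0).2⟩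
  | 1 => ⟨M 1, M 0, (both (i := 0) (j := 1) (by norm_num) (by norm_num) pair0).2, (both (i := 0) (j := 1) (by norm_num) (by norm_num) pair0).1⟩
  | 2 => ⟨M 2, M 3, (both (i := 2) (j := 3) (by norm_num) (by norm_num) pair2).1, (both (i := 2) (j := 3) (by norm_num) (by norm_num) pair2).2⟩
  | 3 => ⟨M 3, M 2, (both (i := 2) (j := 3) (by norm_num) (by norm_num) pair2).2, (both (i := 2) (j := 3) (by norm_num) (by norm_num) pair2).1⟩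
  | 4 => ⟨M 4, M 5, (both (i := 4) (j := 5) (by norm_num) (by norm_num) pair4).1, (both (i := 4) (j := 5) (by norm_num) (by norm_num) pair4).2⟩
  | 5 => ⟨M 5, M 4, (both (i := 4) (j := 5) (by norm_num) (by norm_num) pair4).2, (both (i := 4) (j := 5) (by norm_num) (by norm_num) pair4).1⟩
  | 6 => ⟨M 6, M 7, (both (i := 6) (j := 7) (by norm_num) (by norm_num) pair6).1, (both (i := 6) (j := 7) (by norm_num) (by norm_num) pair6).2⟩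
  | 7 => ⟨M 7, M 6, (both (i := 6) (j := 7) (by norm_num) (by norm_num) pair6).2, (both (i := 6) (j := 7) (by norm_num) (by norm_num) pair6).1⟩
  | 8 => ⟨M 8, M 9, (both (i := 8) (j := 9) (by norm_num) (by norm_num) pair8).1, (both (i := 8) (j := 9) (by norm_num) (by norm_num) pair8).2⟩
  | 9 => ⟨M 9, M 8, (both (i := 8) (j := 9) (by norm_num) (by norm_num) pair8).2, (both (i := 8) (j := 9) (by norm_num) (by norm_num) pair8).1⟩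
  | 10 => ⟨M 10, M 10, (both (i := 10) (j := 10) (by norm_num) (by norm_num) rel30).1, (both (i := 10) (j := 10) (by norm_num) (by norm_num) rel30).2⟩
  | 11 => ⟨M 11, M 12, (both (i := 11) (j := 12) (by norm_num) (by norm_num) pair11).1, (both (i := 11) (j := 12) (by norm_num) (by norm_num) pair11).2⟩
  | 12 => ⟨M 12, M 11, (both (i := 11) (j := 12) (by norm_num) (by norm_num) pair11).2, (both (i := 11) (j := 12) (by norm_num) (by norm_num) pair11).1⟩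
  | _ => 1

theorem coe_U : ∀ {k : ℕ}, k < 13 → (U k : Matrix (Fin 111) (Fin 111) (ZMod 5)) = M k := by
  intro k hk
  interval_cases k <;> rfl

theorem prod_U {w : List ℕ} (hw : ∀ g ∈ w, g < 13) (h : (List.map M w).prod = 1) : (w.map U).prod = 1 := by
  refine Units.ext ?_
  rw [← Units.coeHom_apply, map_list_prod, List.map_map, Units.val_one, ← h]
  exact congrArg List.prod (List.map_congr_left fun g hg => coe_U (hw g hg))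

theorem U_inv (i j : ℕ) (hi : i < 13) (hj : j < 13) (h : M i * M j = 1) : U j = (U i)⁻¹ := by
  refine (inv_eq_of_mul_eq_one_right (Units.ext ?_)).symm
  rw [Units.val_mul, Units.val_one, coe_U hi, coe_U hj, h]

/-- What the checks say, for any group. -/
structure Holds {G : Type*} [Group G] (u : ℕ → G) : Prop where
  inv0 : u 1 = (u 0)⁻¹
  inv2 : u 3 = (u 2)⁻¹
  inv4 : u 5 = (u 4)⁻¹
  inv6 : u 7 = (u 6)⁻¹
  inv8 : u 9 = (u 8)⁻¹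
  inv11 : u 12 = (u 11)⁻¹
  inv10 : (u 10)⁻¹ = u 10
  rel1 : (List.map u [0, 0, 0, 0, 0, 0, 0, 0]).prod = 1
  rel2 : (List.map u [2, 2, 2, 2, 2]).prod = 1
  rel3 : (List.map u [0, 2, 0, 2, 0, 2, 0, 2]).prod = 1
  rel4 : (List.map u [1, 1, 3, 0, 0, 2]).prod = 1
  rel5 : (List.map u [1, 3, 0, 2, 1, 3, 0, 2, 1, 3, 0, 2]).prod = 1
  rel10 : (List.map u [11, 1, 5, 0, 5, 1, 4, 0, 4]).prod = 1
  rel11 : (List.map u [4, 4, 4, 4, 4]).prod = 1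
  rel12 : (List.map u [11, 11, 11, 11, 11]).prod = 1
  rel13 : (List.map u [5, 12, 4, 11]).prod = 1
  rel14 : (List.map u [1, 5, 0, 12, 1, 4, 0, 11]).prod = 1
  rel15 : (List.map u [3, 5, 2, 12, 3, 4, 2, 11]).prod = 1
  rel16 : (List.map u [2, 5, 3, 12, 2, 4, 3, 11]).prod = 1
  rel17 : (List.map u [5, 3, 5, 2, 4, 3, 4, 2, 11, 11]).prod = 1
  rel18 : (List.map u [5, 2, 5, 3, 4, 2, 4, 3, 12, 12]).prod = 1
  rel19 : (List.map u [1, 5, 0, 3, 5, 2, 1, 4, 0, 3, 4, 2, 11]).prod = 1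
  rel20 : (List.map u [1, 5, 0, 2, 5, 3, 1, 4, 0, 2, 4, 3]).prod = 1
  rel21 : (List.map u [3, 5, 2, 2, 5, 3, 3, 4, 2, 2, 4, 3, 11]).prod = 1
  rel22 : (List.map u [1, 1, 4, 0, 0, 4, 4]).prod = 1
  rel23 : (List.map u [1, 3, 4, 2, 0, 2, 5, 3, 5, 3, 4, 4, 2]).prod = 1
  rel24 : (List.map u [1, 2, 4, 3, 0, 2, 5, 3, 5, 2, 5, 3, 3, 4, 2, 1, 4, 0, 5]).prod = 1
  rel25 : (List.map u [1, 11, 0, 12, 12]).prod = 1
  rel26 : (List.map u [3, 1, 4, 0, 2, 2, 4, 3, 4, 2, 4, 3, 3, 5, 2, 1, 5, 0]).prod = 1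
  rel27 : (List.map u [3, 3, 4, 2, 4, 4, 2, 2, 5, 3, 5, 5]).prod = 1
  rel28 : (List.map u [3, 11, 2, 12]).prod = 1
  rel29 : (List.map u [10, 7, 5, 7, 2, 1, 3, 5, 7, 1, 5, 0, 5, 1, 4, 0, 2, 2]).prod = 1
  rel30 : (List.map u [10, 10]).prod = 1
  rel31 : (List.map u [10, 4, 10, 4, 3, 3, 5]).prod = 1
  rel32 : (List.map u [10, 3, 4, 2, 10, 0, 2, 4, 3, 4, 1, 5, 3, 3]).prod = 1
  rel33 : (List.map u [10, 2, 4, 3, 10, 2, 5, 3, 3, 4, 3]).prod = 1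
  rel34 : (List.map u [10, 11, 10, 2, 4, 3, 5, 3, 4, 2, 5]).prod = 1
  rel35 : (List.map u [10, 0, 0, 10, 2, 4, 3, 12, 5, 1, 2, 1, 3, 3, 1]).prod = 1
  rel36 : (List.map u [10, 2, 10, 2, 4, 4, 3, 3, 4, 2, 5]).prod = 1
  rel37 : (List.map u [10, 0, 2, 2, 0, 3, 0, 10, 2, 4, 3, 12, 5, 1, 1]).prod = 1
  rel38 : (List.map u [10, 1, 4, 0, 10, 1, 5, 0, 10, 1, 4, 0, 2, 5, 3, 0, 3, 4, 2, 0, 0, 0]).prod = 1
  rel39 : (List.map u [6, 10, 3, 1, 4, 10, 1, 10, 1, 11, 2, 4, 3, 4, 2, 0, 3, 3, 1]).prod = 1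
  rel40 : (List.map u [6, 6, 1, 1, 1, 1]).prod = 1
  rel41 : (List.map u [3, 7, 2, 6]).prod = 1
  rel42 : (List.map u [7, 0, 6, 1, 1, 1]).prod = 1
  rel43 : (List.map u [6, 11, 6, 11, 6, 11, 6, 11, 6, 11]).prod = 1
  rel44 : (List.map u [6, 11, 6, 12, 6, 11, 1, 1]).prod = 1
  rel73 : (List.map u [9, 4, 8, 1, 3, 4, 1, 2, 4, 3, 0, 2, 0]).prod = 1
  rel74 : (List.map u [9, 1, 4, 0, 8, 3, 5, 3, 0, 5, 1, 2, 2]).prod = 1
  rel75 : (List.map u [9, 3, 4, 2, 8, 1, 3, 1, 5, 0, 2, 0]).prod = 1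
  rel76 : (List.map u [9, 2, 4, 3, 8, 3, 1, 2, 5, 3, 0, 2]).prod = 1
  rel77 : (List.map u [9, 11, 8, 4, 2, 2, 5, 1, 3, 5, 2, 0, 3, 3]).prod = 1
  rel78 : (List.map u [9, 0, 8, 0, 0, 0]).prod = 1
  rel79 : (List.map u [9, 2, 0, 3, 8, 0, 0, 2, 0, 3]).prod = 1
  rel80 : (List.map u [9, 2, 2, 0, 3, 3, 8, 0, 2, 2, 1, 3, 3, 1]).prod = 1
  rel81 : (List.map u [8, 8, 1, 1]).prod = 1
  rel82 : (List.map u [3, 3, 0, 2, 2, 8, 3, 3, 0, 2, 2, 8, 3, 3, 0, 2, 2, 8, 0, 0]).prod = 1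
  rel83 : (List.map u [5, 7, 1, 5, 1, 2, 5, 7, 8, 1, 6, 3, 5, 1, 2, 5, 7, 2, 5, 3, 1, 5, 0, 3, 0, 2, 0, 3, 8, 1, 5, 7, 0, 5, 3, 0, 5, 7, 1, 5, 0, 4, 3, 3, 5, 3, 1, 3, 3, 8]).prod = 1
  rel84 : (List.map u [9, 7, 9, 1, 5, 7, 2, 1, 3, 5, 7, 2, 1, 3, 5, 3, 0, 3, 3, 0, 3, 8, 6, 8, 0, 2, 1, 2, 2, 1, 2, 2, 5, 0, 4, 2, 4, 3, 6, 4, 3, 3, 6, 4, 2, 4]).prod = 1
  rel85 : (List.map u [8, 2, 0, 3, 1, 3, 3, 1, 3, 4, 2, 2, 4, 2, 6, 4, 3, 3, 6, 4, 2, 4, 8, 0, 3, 3, 1, 4, 2, 5, 2, 1, 5, 5, 6, 4, 0, 4, 1, 4, 3, 7, 9, 5, 3, 5, 7, 2, 2, 5, 7, 3, 5, 3, 3, 5, 2, 0, 2, 2, 0, 2, 1, 3, 9, 7, 0, 4, 2, 4, 1, 5, 7, 0, 3, 1, 4, 1, 3, 3, 1, 2, 1]).prod = 1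
  rel86 : (List.map u [8, 2, 6, 8, 2, 2, 1, 3, 1, 2, 2, 5, 0, 4, 1, 5, 6, 5, 2, 2, 1, 4, 2, 9, 7, 3, 9, 5, 1, 4, 2, 5, 7, 4, 1, 4, 0, 4, 3, 1, 3, 1, 2]).prod = 1

theorem holds : Holds U where
  inv0 := U_inv 0 1 (by norm_num) (by norm_num) (both (by norm_num) (by norm_num) pair0).1
  inv2 := U_inv 2 3 (by norm_num) (by norm_num) (both (by norm_num) (by norm_num) pair2).1
  inv4 := U_inv 4 5 (by norm_num) (by norm_num) (both (by norm_num) (by norm_num) pair4).1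
  inv6 := U_inv 6 7 (by norm_num) (by norm_num) (both (by norm_num) (by norm_num) pair6).1
  inv8 := U_inv 8 9 (by norm_num) (by norm_num) (both (by norm_num) (by norm_num) pair8).1
  inv11 := U_inv 11 12 (by norm_num) (by norm_num) (both (by norm_num) (by norm_num) pair11).1
  inv10 := (U_inv 10 10 (by norm_num) (by norm_num) (both (by norm_num) (by norm_num) rel30).1).symm
  rel1 := prod_U (by decide) rel1
  rel2 := prod_U (by decide) rel2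
  rel3 := prod_U (by decide) rel3
  rel4 := prod_U (by decide) rel4
  rel5 := prod_U (by decide) rel5
  rel10 := prod_U (by decide) rel10
  rel11 := prod_U (by decide) rel11
  rel12 := prod_U (by decide) rel12
  rel13 := prod_U (by decide) rel13
  rel14 := prod_U (by decide) rel14
  rel15 := prod_U (by decide) rel15
  rel16 := prod_U (by decide) rel16
  rel17 := prod_U (by decide) rel17
  rel18 := prod_U (by decide) rel18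
  rel19 := prod_U (by decide) rel19
  rel20 := prod_U (by decide) rel20
  rel21 := prod_U (by decide) rel21
  rel22 := prod_U (by decide) rel22
  rel23 := prod_U (by decide) rel23
  rel24 := prod_U (by decide) rel24
  rel25 := prod_U (by decide) rel25
  rel26 := prod_U (by decide) rel26
  rel27 := prod_U (by decide) rel27
  rel28 := prod_U (by decide) rel28
  rel29 := prod_U (by decide) rel29
  rel30 := prod_U (by decide) rel30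
  rel31 := prod_U (by decide) rel31
  rel32 := prod_U (by decide) rel32
  rel33 := prod_U (by decide) rel33
  rel34 := prod_U (by decide) rel34
  rel35 := prod_U (by decide) rel35
  rel36 := prod_U (by decide) rel36
  rel37 := prod_U (by decide) rel37
  rel38 := prod_U (by decide) rel38
  rel39 := prod_U (by decide) rel39
  rel40 := prod_U (by decide) rel40
  rel41 := prod_U (by decide) rel41
  rel42 := prod_U (by decide) rel42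
  rel43 := prod_U (by decide) rel43
  rel44 := prod_U (by decide) rel44
  rel73 := prod_U (by decide) rel73
  rel74 := prod_U (by decide) rel74
  rel75 := prod_U (by decide) rel75
  rel76 := prod_U (by decide) rel76
  rel77 := prod_U (by decide) rel77
  rel78 := prod_U (by decide) rel78
  rel79 := prod_U (by decide) rel79
  rel80 := prod_U (by decide) rel80
  rel81 := prod_U (by decide) rel81
  rel82 := prod_U (by decide) rel82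
  rel83 := prod_U (by decide) rel83
  rel84 := prod_U (by decide) rel84
  rel85 := prod_U (by decide) rel85
  rel86 := prod_U (by decide) rel86

section

variable {G : Type*} [Group G] (u : ℕ → G)

/-- The images of the generators that are given by matrices. -/
def base : Spor.Ly.Gen → G
  | .a => u 0
  | .b => u 2
  | .c => u 4
  | .d => u 6
  | .z => u 8
  | .e => u 10
  | .c5 => u 11
  | _ => 1

/-- The images of all generators. -/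
def gen : Spor.Ly.Gen → G
  | .a => u 0
  | .b => u 2
  | .c => u 4
  | .d => u 6
  | .z => u 8
  | .e => u 10
  | .a1 => FreeGroup.lift (base u) (Spor.Ly.a)
  | .a2 => FreeGroup.lift (base u) (((Spor.Ly.b⁻¹)⁻¹ * Spor.Ly.a * (Spor.Ly.b⁻¹)))
  | .a3 => FreeGroup.lift (base u) ((((Spor.Ly.b ^ 2)⁻¹)⁻¹ * Spor.Ly.a * ((Spor.Ly.b ^ 2)⁻¹)))
  | .a4 => FreeGroup.lift (base u) (((Spor.Ly.b ^ 2)⁻¹ * Spor.Ly.a * (Spor.Ly.b ^ 2)))
  | .c1 => u 4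
  | .c2 => FreeGroup.lift (base u) ((Spor.Ly.a⁻¹ * Spor.Ly.c * Spor.Ly.a))
  | .c3 => FreeGroup.lift (base u) ((Spor.Ly.b⁻¹ * Spor.Ly.c * Spor.Ly.b))
  | .c4 => FreeGroup.lift (base u) (((Spor.Ly.b⁻¹)⁻¹ * Spor.Ly.c * (Spor.Ly.b⁻¹)))
  | .c5 => u 11
  | .u => FreeGroup.lift (base u) ((Spor.Ly.a ^ 2))
  | .x23 => FreeGroup.lift (base u) (Spor.Ly.d)
  | .x24 => FreeGroup.lift (base u) ((Spor.Ly.d⁻¹))
  | .x25 => FreeGroup.lift (base u) (((Spor.Ly.b ^ 2) * (Spor.Ly.a⁻¹) * (Spor.Ly.b⁻¹) * (Spor.Ly.a⁻¹) * (Spor.Ly.b ^ 2) * (Spor.Ly.c⁻¹) * Spor.Ly.a * Spor.Ly.c * (Spor.Ly.a⁻¹) * (Spor.Ly.c⁻¹) * Spor.Ly.d * (Spor.Ly.c⁻¹) * (Spor.Ly.b ^ 2) * (Spor.Ly.a⁻¹) * Spor.Ly.c * Spor.Ly.b))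
  | .x29 => FreeGroup.lift (base u) ((Spor.Ly.a * Spor.Ly.b * (Spor.Ly.a⁻¹) * (Spor.Ly.b ^ 2) * (Spor.Ly.a⁻¹) * (Spor.Ly.b ^ 2) * (Spor.Ly.c⁻¹) * Spor.Ly.a * Spor.Ly.c * Spor.Ly.b * Spor.Ly.c * (Spor.Ly.b⁻¹) * Spor.Ly.d * Spor.Ly.c * ((Spor.Ly.b ^ 2)⁻¹) * Spor.Ly.d * Spor.Ly.c * Spor.Ly.b * Spor.Ly.c))
  | .x47 => FreeGroup.lift (base u) (((Spor.Ly.c⁻¹) * (Spor.Ly.d⁻¹) * (Spor.Ly.a⁻¹) * (Spor.Ly.c⁻¹) * (Spor.Ly.a⁻¹) * Spor.Ly.b * (Spor.Ly.c⁻¹) * (Spor.Ly.d⁻¹)))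
  | .x96 => FreeGroup.lift (base u) ((Spor.Ly.b * Spor.Ly.d))
  | .x129 => FreeGroup.lift (base u) (((Spor.Ly.d⁻¹) * (Spor.Ly.b⁻¹)))
  | .x162 => FreeGroup.lift (base u) (((Spor.Ly.a⁻¹) * (Spor.Ly.b⁻¹) * (Spor.Ly.a⁻¹) * Spor.Ly.b * (Spor.Ly.c⁻¹) * (Spor.Ly.b⁻¹) * Spor.Ly.a * (Spor.Ly.c⁻¹) * Spor.Ly.b * Spor.Ly.a))
  | .x163 => FreeGroup.lift (base u) ((((Spor.Ly.b ^ 2)⁻¹) * Spor.Ly.a * Spor.Ly.c * (Spor.Ly.a⁻¹) * Spor.Ly.b * Spor.Ly.c * Spor.Ly.b))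
  | .x164 => FreeGroup.lift (base u) (((Spor.Ly.a⁻¹) * (Spor.Ly.b⁻¹) * (Spor.Ly.a⁻¹) * Spor.Ly.c * Spor.Ly.a * Spor.Ly.b * Spor.Ly.a))
  | .x165 => FreeGroup.lift (base u) (((Spor.Ly.b⁻¹) * (Spor.Ly.a⁻¹) * Spor.Ly.b * Spor.Ly.c * (Spor.Ly.b⁻¹) * Spor.Ly.a * Spor.Ly.b))
  | .x166 => FreeGroup.lift (base u) (((Spor.Ly.b ^ 2) * (Spor.Ly.a⁻¹) * (Spor.Ly.b⁻¹) * Spor.Ly.c * Spor.Ly.b * Spor.Ly.a * Spor.Ly.c * ((Spor.Ly.b ^ 2)⁻¹) * (Spor.Ly.c⁻¹)))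
  | .x167 => FreeGroup.lift (base u) (((Spor.Ly.a ^ 3)⁻¹))
  | .x168 => FreeGroup.lift (base u) ((Spor.Ly.b * (Spor.Ly.a⁻¹) * (Spor.Ly.b⁻¹) * ((Spor.Ly.a ^ 2)⁻¹)))
  | .x169 => FreeGroup.lift (base u) ((Spor.Ly.a * (Spor.Ly.b ^ 2) * Spor.Ly.a * ((Spor.Ly.b ^ 2)⁻¹) * (Spor.Ly.a⁻¹)))
  | .x364 => FreeGroup.lift (base u) (((Spor.Ly.a⁻¹) * Spor.Ly.d * (Spor.Ly.b⁻¹) * (Spor.Ly.c⁻¹) * (Spor.Ly.a⁻¹) * Spor.Ly.b * (Spor.Ly.c⁻¹) * (Spor.Ly.d⁻¹) * Spor.Ly.b * (Spor.Ly.c⁻¹) * (Spor.Ly.b⁻¹) * (Spor.Ly.a⁻¹) * (Spor.Ly.c⁻¹) * Spor.Ly.a * (Spor.Ly.b⁻¹) * Spor.Ly.a * Spor.Ly.b * Spor.Ly.a * (Spor.Ly.b⁻¹)))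
  | .x365 => FreeGroup.lift (base u) ((Spor.Ly.a * ((Spor.Ly.b ^ 2)⁻¹) * (Spor.Ly.a⁻¹) * Spor.Ly.c * Spor.Ly.b * (Spor.Ly.c⁻¹) * Spor.Ly.b * (Spor.Ly.a⁻¹) * ((Spor.Ly.c ^ 2)⁻¹) * Spor.Ly.d * Spor.Ly.c * Spor.Ly.a * Spor.Ly.c * (Spor.Ly.a⁻¹) * Spor.Ly.c * (Spor.Ly.b⁻¹) * (Spor.Ly.d⁻¹)))
  | .x366 => FreeGroup.lift (base u) ((Spor.Ly.b * Spor.Ly.a * (Spor.Ly.b⁻¹) * (Spor.Ly.a⁻¹) * ((Spor.Ly.b ^ 2)⁻¹) * (Spor.Ly.a⁻¹) * (Spor.Ly.b⁻¹) * Spor.Ly.c * (Spor.Ly.b ^ 2) * Spor.Ly.c * Spor.Ly.b * Spor.Ly.d * Spor.Ly.c * ((Spor.Ly.b ^ 2)⁻¹) * Spor.Ly.d * Spor.Ly.c * Spor.Ly.b * Spor.Ly.c))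
  | .x367 => FreeGroup.lift (base u) (((Spor.Ly.c⁻¹) * (Spor.Ly.b⁻¹) * (Spor.Ly.c⁻¹) * (Spor.Ly.d⁻¹) * (Spor.Ly.b ^ 2) * (Spor.Ly.c⁻¹) * (Spor.Ly.d⁻¹) * (Spor.Ly.b⁻¹) * (Spor.Ly.c⁻¹) * ((Spor.Ly.b ^ 2)⁻¹) * (Spor.Ly.c⁻¹) * Spor.Ly.b * Spor.Ly.a * (Spor.Ly.b ^ 2) * Spor.Ly.a * Spor.Ly.b * (Spor.Ly.a⁻¹) * (Spor.Ly.b⁻¹)))
  | .x368 => FreeGroup.lift (base u) (((Spor.Ly.a⁻¹) * (Spor.Ly.c⁻¹) * (Spor.Ly.d⁻¹) * Spor.Ly.a * (Spor.Ly.c⁻¹) * (Spor.Ly.b⁻¹) * Spor.Ly.a * (Spor.Ly.c⁻¹) * (Spor.Ly.d⁻¹) * (Spor.Ly.a⁻¹) * (Spor.Ly.c⁻¹) * Spor.Ly.a * Spor.Ly.c * ((Spor.Ly.b ^ 2)⁻¹) * (Spor.Ly.c⁻¹) * (Spor.Ly.b⁻¹) * (Spor.Ly.a⁻¹) * ((Spor.Ly.b ^ 2)⁻¹)))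
  | .x369 => FreeGroup.lift (base u) (((Spor.Ly.a⁻¹) * (Spor.Ly.c⁻¹) * (Spor.Ly.d⁻¹) * Spor.Ly.b * (Spor.Ly.a⁻¹) * (Spor.Ly.b⁻¹) * (Spor.Ly.c⁻¹) * (Spor.Ly.d⁻¹) * Spor.Ly.b * (Spor.Ly.a⁻¹) * (Spor.Ly.b⁻¹) * (Spor.Ly.c⁻¹) * (Spor.Ly.b⁻¹) * Spor.Ly.a * ((Spor.Ly.b ^ 2)⁻¹) * Spor.Ly.a * (Spor.Ly.b⁻¹)))
  | .x370 => FreeGroup.lift (base u) (((Spor.Ly.d⁻¹) * Spor.Ly.a * Spor.Ly.c * Spor.Ly.b * Spor.Ly.c * (Spor.Ly.a⁻¹) * (Spor.Ly.c⁻¹) * (Spor.Ly.d⁻¹) * Spor.Ly.a * (Spor.Ly.b⁻¹) * (Spor.Ly.a⁻¹) * Spor.Ly.c * (Spor.Ly.a⁻¹) * ((Spor.Ly.b ^ 2)⁻¹) * (Spor.Ly.a⁻¹) * Spor.Ly.b * (Spor.Ly.a⁻¹)))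
  | .x371 => FreeGroup.lift (base u) (((Spor.Ly.c⁻¹) * (Spor.Ly.a⁻¹) * Spor.Ly.c * Spor.Ly.b * (Spor.Ly.c⁻¹) * (Spor.Ly.d⁻¹) * Spor.Ly.c * (Spor.Ly.a⁻¹) * Spor.Ly.c * Spor.Ly.a * Spor.Ly.c * (Spor.Ly.b⁻¹) * (Spor.Ly.a⁻¹) * (Spor.Ly.b⁻¹) * (Spor.Ly.a⁻¹) * Spor.Ly.b))

theorem r1 (hu : Holds u) : FreeGroup.lift (gen u) (Spor.Ly.a ^ 8) = 1 := by
  have h := hu.rel1
  simp only [List.map_cons, List.map_nil, List.prod_cons, List.prod_nil, mul_one, hu.inv0, hu.inv2, hu.inv4, hu.inv6, hu.inv8, hu.inv11] at h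
  simpa [map_mul, map_inv, map_pow, FreeGroup.lift_apply_of, gen, base, mul_inv_rev, pow_succ, mul_assoc, hu.inv10] using h

theorem r2 (hu : Holds u) : FreeGroup.lift (gen u) (Spor.Ly.b ^ 5) = 1 := by
  have h := hu.rel2
  simp only [List.map_cons, List.map_nil, List.prod_cons, List.prod_nil, mul_one, hu.inv0, hu.inv2, hu.inv4, hu.inv6, hu.inv8, hu.inv11] at h
  simpa [map_mul, map_inv, map_pow, FreeGroup.lift_apply_of, gen, base, mul_inv_rev, pow_succ, mul_assoc, hu.inv10] using h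

theorem r3 (hu : Holds u) : FreeGroup.lift (gen u) ((Spor.Ly.a * Spor.Ly.b) ^ 4) = 1 := by
  have h := hu.rel3
  simp only [List.map_cons, List.map_nil, List.prod_cons, List.prod_nil, mul_one, hu.inv0, hu.inv2, hu.inv4, hu.inv6, hu.inv8, hu.inv11] at h
  simpa [map_mul, map_inv, map_pow, FreeGroup.lift_apply_of, gen, base, mul_inv_rev, pow_succ, mul_assoc, hu.inv10] using h

theorem r4 (hu : Holds u) : FreeGroup.lift (gen u) ((Spor.Ly.a ^ 2)⁻¹ * Spor.Ly.b⁻¹ * (Spor.Ly.a ^ 2) * Spor.Ly.b) = 1 := by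
  have h := hu.rel4
  simp only [List.map_cons, List.map_nil, List.prod_cons, List.prod_nil, mul_one, hu.inv0, hu.inv2, hu.inv4, hu.inv6, hu.inv8, hu.inv11] at h
  simpa [map_mul, map_inv, map_pow, FreeGroup.lift_apply_of, gen, base, mul_inv_rev, pow_succ, mul_assoc, hu.inv10] using h

theorem r5 (hu : Holds u) : FreeGroup.lift (gen u) ((Spor.Ly.a⁻¹ * Spor.Ly.b⁻¹ * Spor.Ly.a * Spor.Ly.b) ^ 3) = 1 := by
  have h := hu.rel5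
  simp only [List.map_cons, List.map_nil, List.prod_cons, List.prod_nil, mul_one, hu.inv0, hu.inv2, hu.inv4, hu.inv6, hu.inv8, hu.inv11] at h
  simpa [map_mul, map_inv, map_pow, FreeGroup.lift_apply_of, gen, base, mul_inv_rev, pow_succ, mul_assoc, hu.inv10] using h

theorem r6 (hu : Holds u) : FreeGroup.lift (gen u) (Spor.Ly.c1 * (Spor.Ly.c⁻¹)) = 1 := by
  simp [gen, base, mul_assoc]

theorem r7 (hu : Holds u) : FreeGroup.lift (gen u) (Spor.Ly.c2 * ((Spor.Ly.a⁻¹ * Spor.Ly.c * Spor.Ly.a)⁻¹)) = 1 := by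
  simp [gen, base, mul_assoc]

theorem r8 (hu : Holds u) : FreeGroup.lift (gen u) (Spor.Ly.c3 * ((Spor.Ly.b⁻¹ * Spor.Ly.c * Spor.Ly.b)⁻¹)) = 1 := by
  simp [gen, base, mul_assoc]

theorem r9 (hu : Holds u) : FreeGroup.lift (gen u) (Spor.Ly.c4 * (((Spor.Ly.b⁻¹)⁻¹ * Spor.Ly.c * (Spor.Ly.b⁻¹))⁻¹)) = 1 := by
  simp [gen, base, mul_assoc]

theorem r10 (hu : Holds u) : FreeGroup.lift (gen u) (Spor.Ly.c5 * ((Spor.Ly.c1⁻¹ * Spor.Ly.c2⁻¹ * Spor.Ly.c1 * Spor.Ly.c2)⁻¹)) = 1 := by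
  have h := hu.rel10
  simp only [List.map_cons, List.map_nil, List.prod_cons, List.prod_nil, mul_one, hu.inv0, hu.inv2, hu.inv4, hu.inv6, hu.inv8, hu.inv11] at h
  simpa [map_mul, map_inv, map_pow, FreeGroup.lift_apply_of, gen, base, mul_inv_rev, pow_succ, mul_assoc, hu.inv10] using h

theorem r11 (hu : Holds u) : FreeGroup.lift (gen u) (Spor.Ly.c1 ^ 5) = 1 := by
  have h := hu.rel11
  simp only [List.map_cons, List.map_nil, List.prod_cons, List.prod_nil, mul_one, hu.inv0, hu.inv2, hu.inv4, hu.inv6, hu.inv8, hu.inv11] at h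
  simpa [map_mul, map_inv, map_pow, FreeGroup.lift_apply_of, gen, base, mul_inv_rev, pow_succ, mul_assoc, hu.inv10] using h

theorem r12 (hu : Holds u) : FreeGroup.lift (gen u) (Spor.Ly.c5 ^ 5) = 1 := by
  have h := hu.rel12
  simp only [List.map_cons, List.map_nil, List.prod_cons, List.prod_nil, mul_one, hu.inv0, hu.inv2, hu.inv4, hu.inv6, hu.inv8, hu.inv11] at h
  simpa [map_mul, map_inv, map_pow, FreeGroup.lift_apply_of, gen, base, mul_inv_rev, pow_succ, mul_assoc, hu.inv10] using h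

theorem r13 (hu : Holds u) : FreeGroup.lift (gen u) (Spor.Ly.c1⁻¹ * Spor.Ly.c5⁻¹ * Spor.Ly.c1 * Spor.Ly.c5) = 1 := by
  have h := hu.rel13
  simp only [List.map_cons, List.map_nil, List.prod_cons, List.prod_nil, mul_one, hu.inv0, hu.inv2, hu.inv4, hu.inv6, hu.inv8, hu.inv11] at h
  simpa [map_mul, map_inv, map_pow, FreeGroup.lift_apply_of, gen, base, mul_inv_rev, pow_succ, mul_assoc, hu.inv10] using h

theorem r14 (hu : Holds u) : FreeGroup.lift (gen u) (Spor.Ly.c2⁻¹ * Spor.Ly.c5⁻¹ * Spor.Ly.c2 * Spor.Ly.c5) = 1 := by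
  have h := hu.rel14
  simp only [List.map_cons, List.map_nil, List.prod_cons, List.prod_nil, mul_one, hu.inv0, hu.inv2, hu.inv4, hu.inv6, hu.inv8, hu.inv11] at h
  simpa [map_mul, map_inv, map_pow, FreeGroup.lift_apply_of, gen, base, mul_inv_rev, pow_succ, mul_assoc, hu.inv10] using h

theorem r15 (hu : Holds u) : FreeGroup.lift (gen u) (Spor.Ly.c3⁻¹ * Spor.Ly.c5⁻¹ * Spor.Ly.c3 * Spor.Ly.c5) = 1 := by
  have h := hu.rel15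
  simp only [List.map_cons, List.map_nil, List.prod_cons, List.prod_nil, mul_one, hu.inv0, hu.inv2, hu.inv4, hu.inv6, hu.inv8, hu.inv11] at h
  simpa [map_mul, map_inv, map_pow, FreeGroup.lift_apply_of, gen, base, mul_inv_rev, pow_succ, mul_assoc, hu.inv10] using h

theorem r16 (hu : Holds u) : FreeGroup.lift (gen u) (Spor.Ly.c4⁻¹ * Spor.Ly.c5⁻¹ * Spor.Ly.c4 * Spor.Ly.c5) = 1 := by
  have h := hu.rel16
  simp only [List.map_cons, List.map_nil, List.prod_cons, List.prod_nil, mul_one, hu.inv0, hu.inv2, hu.inv4, hu.inv6, hu.inv8, hu.inv11] at h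
  simpa [map_mul, map_inv, map_pow, FreeGroup.lift_apply_of, gen, base, mul_inv_rev, pow_succ, mul_assoc, hu.inv10] using h

theorem r17 (hu : Holds u) : FreeGroup.lift (gen u) ((Spor.Ly.c1⁻¹ * Spor.Ly.c3⁻¹ * Spor.Ly.c1 * Spor.Ly.c3) * (((Spor.Ly.c5 ^ 2)⁻¹)⁻¹)) = 1 := by
  have h := hu.rel17
  simp only [List.map_cons, List.map_nil, List.prod_cons, List.prod_nil, mul_one, hu.inv0, hu.inv2, hu.inv4, hu.inv6, hu.inv8, hu.inv11] at h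
  simpa [map_mul, map_inv, map_pow, FreeGroup.lift_apply_of, gen, base, mul_inv_rev, pow_succ, mul_assoc, hu.inv10] using h

theorem r18 (hu : Holds u) : FreeGroup.lift (gen u) ((Spor.Ly.c1⁻¹ * Spor.Ly.c4⁻¹ * Spor.Ly.c1 * Spor.Ly.c4) * ((Spor.Ly.c5 ^ 2)⁻¹)) = 1 := by
  have h := hu.rel18
  simp only [List.map_cons, List.map_nil, List.prod_cons, List.prod_nil, mul_one, hu.inv0, hu.inv2, hu.inv4, hu.inv6, hu.inv8, hu.inv11] at h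
  simpa [map_mul, map_inv, map_pow, FreeGroup.lift_apply_of, gen, base, mul_inv_rev, pow_succ, mul_assoc, hu.inv10] using h

theorem r19 (hu : Holds u) : FreeGroup.lift (gen u) ((Spor.Ly.c2⁻¹ * Spor.Ly.c3⁻¹ * Spor.Ly.c2 * Spor.Ly.c3) * ((Spor.Ly.c5⁻¹)⁻¹)) = 1 := by
  have h := hu.rel19
  simp only [List.map_cons, List.map_nil, List.prod_cons, List.prod_nil, mul_one, hu.inv0, hu.inv2, hu.inv4, hu.inv6, hu.inv8, hu.inv11] at h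
  simpa [map_mul, map_inv, map_pow, FreeGroup.lift_apply_of, gen, base, mul_inv_rev, pow_succ, mul_assoc, hu.inv10] using h

theorem r20 (hu : Holds u) : FreeGroup.lift (gen u) (Spor.Ly.c2⁻¹ * Spor.Ly.c4⁻¹ * Spor.Ly.c2 * Spor.Ly.c4) = 1 := by
  have h := hu.rel20
  simp only [List.map_cons, List.map_nil, List.prod_cons, List.prod_nil, mul_one, hu.inv0, hu.inv2, hu.inv4, hu.inv6, hu.inv8, hu.inv11] at h
  simpa [map_mul, map_inv, map_pow, FreeGroup.lift_apply_of, gen, base, mul_inv_rev, pow_succ, mul_assoc, hu.inv10] using h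

theorem r21 (hu : Holds u) : FreeGroup.lift (gen u) ((Spor.Ly.c3⁻¹ * Spor.Ly.c4⁻¹ * Spor.Ly.c3 * Spor.Ly.c4) * ((Spor.Ly.c5⁻¹)⁻¹)) = 1 := by
  have h := hu.rel21
  simp only [List.map_cons, List.map_nil, List.prod_cons, List.prod_nil, mul_one, hu.inv0, hu.inv2, hu.inv4, hu.inv6, hu.inv8, hu.inv11] at h
  simpa [map_mul, map_inv, map_pow, FreeGroup.lift_apply_of, gen, base, mul_inv_rev, pow_succ, mul_assoc, hu.inv10] using h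

theorem r22 (hu : Holds u) : FreeGroup.lift (gen u) ((Spor.Ly.a⁻¹ * Spor.Ly.c2 * Spor.Ly.a) * (((Spor.Ly.c1 ^ 2)⁻¹)⁻¹)) = 1 := by
  have h := hu.rel22
  simp only [List.map_cons, List.map_nil, List.prod_cons, List.prod_nil, mul_one, hu.inv0, hu.inv2, hu.inv4, hu.inv6, hu.inv8, hu.inv11] at h
  simpa [map_mul, map_inv, map_pow, FreeGroup.lift_apply_of, gen, base, mul_inv_rev, pow_succ, mul_assoc, hu.inv10] using h

theorem r23 (hu : Holds u) : FreeGroup.lift (gen u) ((Spor.Ly.a⁻¹ * Spor.Ly.c3 * Spor.Ly.a) * ((((Spor.Ly.c3 ^ 2)⁻¹) * Spor.Ly.c1 * Spor.Ly.c4)⁻¹)) = 1 := by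
  have h := hu.rel23
  simp only [List.map_cons, List.map_nil, List.prod_cons, List.prod_nil, mul_one, hu.inv0, hu.inv2, hu.inv4, hu.inv6, hu.inv8, hu.inv11] at h
  simpa [map_mul, map_inv, map_pow, FreeGroup.lift_apply_of, gen, base, mul_inv_rev, pow_succ, mul_assoc, hu.inv10] using h

theorem r24 (hu : Holds u) : FreeGroup.lift (gen u) ((Spor.Ly.a⁻¹ * Spor.Ly.c4 * Spor.Ly.a) * ((Spor.Ly.c1 * (Spor.Ly.c2⁻¹) * (Spor.Ly.c3⁻¹) * Spor.Ly.c4 * Spor.Ly.c1 * Spor.Ly.c4)⁻¹)) = 1 := by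
  have h := hu.rel24
  simp only [List.map_cons, List.map_nil, List.prod_cons, List.prod_nil, mul_one, hu.inv0, hu.inv2, hu.inv4, hu.inv6, hu.inv8, hu.inv11] at h
  simpa [map_mul, map_inv, map_pow, FreeGroup.lift_apply_of, gen, base, mul_inv_rev, pow_succ, mul_assoc, hu.inv10] using h

theorem r25 (hu : Holds u) : FreeGroup.lift (gen u) ((Spor.Ly.a⁻¹ * Spor.Ly.c5 * Spor.Ly.a) * ((Spor.Ly.c5 ^ 2)⁻¹)) = 1 := by
  have h := hu.rel25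
  simp only [List.map_cons, List.map_nil, List.prod_cons, List.prod_nil, mul_one, hu.inv0, hu.inv2, hu.inv4, hu.inv6, hu.inv8, hu.inv11] at h
  simpa [map_mul, map_inv, map_pow, FreeGroup.lift_apply_of, gen, base, mul_inv_rev, pow_succ, mul_assoc, hu.inv10] using h

theorem r26 (hu : Holds u) : FreeGroup.lift (gen u) ((Spor.Ly.b⁻¹ * Spor.Ly.c2 * Spor.Ly.b) * ((Spor.Ly.c2 * Spor.Ly.c3 * (Spor.Ly.c4⁻¹) * (Spor.Ly.c1⁻¹) * (Spor.Ly.c4⁻¹))⁻¹)) = 1 := by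
  have h := hu.rel26
  simp only [List.map_cons, List.map_nil, List.prod_cons, List.prod_nil, mul_one, hu.inv0, hu.inv2, hu.inv4, hu.inv6, hu.inv8, hu.inv11] at h
  simpa [map_mul, map_inv, map_pow, FreeGroup.lift_apply_of, gen, base, mul_inv_rev, pow_succ, mul_assoc, hu.inv10] using h

theorem r27 (hu : Holds u) : FreeGroup.lift (gen u) ((Spor.Ly.b⁻¹ * Spor.Ly.c3 * Spor.Ly.b) * (((Spor.Ly.c1 ^ 2) * Spor.Ly.c4 * ((Spor.Ly.c3 ^ 2)⁻¹))⁻¹)) = 1 := by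
  have h := hu.rel27
  simp only [List.map_cons, List.map_nil, List.prod_cons, List.prod_nil, mul_one, hu.inv0, hu.inv2, hu.inv4, hu.inv6, hu.inv8, hu.inv11] at h
  simpa [map_mul, map_inv, map_pow, FreeGroup.lift_apply_of, gen, base, mul_inv_rev, pow_succ, mul_assoc, hu.inv10] using h

theorem r28 (hu : Holds u) : FreeGroup.lift (gen u) ((Spor.Ly.b⁻¹ * Spor.Ly.c5 * Spor.Ly.b) * (Spor.Ly.c5⁻¹)) = 1 := by
  have h := hu.rel28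
  simp only [List.map_cons, List.map_nil, List.prod_cons, List.prod_nil, mul_one, hu.inv0, hu.inv2, hu.inv4, hu.inv6, hu.inv8, hu.inv11] at h
  simpa [map_mul, map_inv, map_pow, FreeGroup.lift_apply_of, gen, base, mul_inv_rev, pow_succ, mul_assoc, hu.inv10] using h

theorem r29 (hu : Holds u) : FreeGroup.lift (gen u) (Spor.Ly.e * ((((Spor.Ly.b ^ 2)⁻¹) * (Spor.Ly.a⁻¹ * Spor.Ly.c1⁻¹ * Spor.Ly.a * Spor.Ly.c1) * (Spor.Ly.a⁻¹) * Spor.Ly.c1 * Spor.Ly.a * Spor.Ly.d * Spor.Ly.c1 * Spor.Ly.b * Spor.Ly.a * (Spor.Ly.b⁻¹) * Spor.Ly.d * Spor.Ly.c1 * Spor.Ly.d)⁻¹)) = 1 := by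
  have h := hu.rel29
  simp only [List.map_cons, List.map_nil, List.prod_cons, List.prod_nil, mul_one, hu.inv0, hu.inv2, hu.inv4, hu.inv6, hu.inv8, hu.inv11] at h
  simpa [map_mul, map_inv, map_pow, FreeGroup.lift_apply_of, gen, base, mul_inv_rev, pow_succ, mul_assoc, hu.inv10] using h

theorem r30 (hu : Holds u) : FreeGroup.lift (gen u) (Spor.Ly.e ^ 2) = 1 := by
  have h := hu.rel30
  simp only [List.map_cons, List.map_nil, List.prod_cons, List.prod_nil, mul_one, hu.inv0, hu.inv2, hu.inv4, hu.inv6, hu.inv8, hu.inv11] at h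
  simpa [map_mul, map_inv, map_pow, FreeGroup.lift_apply_of, gen, base, mul_inv_rev, pow_succ, mul_assoc, hu.inv10] using h

theorem r31 (hu : Holds u) : FreeGroup.lift (gen u) ((Spor.Ly.e⁻¹ * Spor.Ly.c1 * Spor.Ly.e) * ((Spor.Ly.b * Spor.Ly.c3 * Spor.Ly.b * (Spor.Ly.c1⁻¹))⁻¹)) = 1 := by
  have h := hu.rel31
  simp only [List.map_cons, List.map_nil, List.prod_cons, List.prod_nil, mul_one, hu.inv0, hu.inv2, hu.inv4, hu.inv6, hu.inv8, hu.inv11] at h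
  simpa [map_mul, map_inv, map_pow, FreeGroup.lift_apply_of, gen, base, mul_inv_rev, pow_succ, mul_assoc, hu.inv10] using h

theorem r32 (hu : Holds u) : FreeGroup.lift (gen u) ((Spor.Ly.e⁻¹ * Spor.Ly.c3 * Spor.Ly.e) * (((Spor.Ly.b ^ 2) * Spor.Ly.a * Spor.Ly.c2 * (Spor.Ly.c1⁻¹) * (Spor.Ly.c4⁻¹) * (Spor.Ly.a⁻¹))⁻¹)) = 1 := by
  have h := hu.rel32
  simp only [List.map_cons, List.map_nil, List.prod_cons, List.prod_nil, mul_one, hu.inv0, hu.inv2, hu.inv4, hu.inv6, hu.inv8, hu.inv11] at h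
  simpa [map_mul, map_inv, map_pow, FreeGroup.lift_apply_of, gen, base, mul_inv_rev, pow_succ, mul_assoc, hu.inv10] using h

theorem r33 (hu : Holds u) : FreeGroup.lift (gen u) ((Spor.Ly.e⁻¹ * Spor.Ly.c4 * Spor.Ly.e) * (((Spor.Ly.b ^ 2) * (Spor.Ly.c3⁻¹) * Spor.Ly.c4)⁻¹)) = 1 := by
  have h := hu.rel33
  simp only [List.map_cons, List.map_nil, List.prod_cons, List.prod_nil, mul_one, hu.inv0, hu.inv2, hu.inv4, hu.inv6, hu.inv8, hu.inv11] at h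
  simpa [map_mul, map_inv, map_pow, FreeGroup.lift_apply_of, gen, base, mul_inv_rev, pow_succ, mul_assoc, hu.inv10] using h

theorem r34 (hu : Holds u) : FreeGroup.lift (gen u) ((Spor.Ly.e⁻¹ * Spor.Ly.c5 * Spor.Ly.e) * ((Spor.Ly.c1 * (Spor.Ly.c3⁻¹) * Spor.Ly.c1 * (Spor.Ly.c4⁻¹))⁻¹)) = 1 := by
  have h := hu.rel34
  simp only [List.map_cons, List.map_nil, List.prod_cons, List.prod_nil, mul_one, hu.inv0, hu.inv2, hu.inv4, hu.inv6, hu.inv8, hu.inv11] at h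
  simpa [map_mul, map_inv, map_pow, FreeGroup.lift_apply_of, gen, base, mul_inv_rev, pow_succ, mul_assoc, hu.inv10] using h

theorem r35 (hu : Holds u) : FreeGroup.lift (gen u) ((Spor.Ly.e * (Spor.Ly.a ^ 2) * Spor.Ly.e) * ((Spor.Ly.a * (Spor.Ly.b ^ 2) * Spor.Ly.a * (Spor.Ly.b⁻¹) * Spor.Ly.a * Spor.Ly.c1 * Spor.Ly.c5 * (Spor.Ly.c4⁻¹))⁻¹)) = 1 := by
  have h := hu.rel35
  simp only [List.map_cons, List.map_nil, List.prod_cons, List.prod_nil, mul_one, hu.inv0, hu.inv2, hu.inv4, hu.inv6, hu.inv8, hu.inv11] at h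
  simpa [map_mul, map_inv, map_pow, FreeGroup.lift_apply_of, gen, base, mul_inv_rev, pow_succ, mul_assoc, hu.inv10] using h

theorem r36 (hu : Holds u) : FreeGroup.lift (gen u) ((Spor.Ly.e⁻¹ * Spor.Ly.b * Spor.Ly.e) * ((Spor.Ly.c1 * (Spor.Ly.c3⁻¹) * ((Spor.Ly.c4 ^ 2)⁻¹))⁻¹)) = 1 := by
  have h := hu.rel36
  simp only [List.map_cons, List.map_nil, List.prod_cons, List.prod_nil, mul_one, hu.inv0, hu.inv2, hu.inv4, hu.inv6, hu.inv8, hu.inv11] at h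
  simpa [map_mul, map_inv, map_pow, FreeGroup.lift_apply_of, gen, base, mul_inv_rev, pow_succ, mul_assoc, hu.inv10] using h

theorem r37 (hu : Holds u) : FreeGroup.lift (gen u) ((Spor.Ly.e * Spor.Ly.a * (Spor.Ly.b ^ 2) * Spor.Ly.a * (Spor.Ly.b⁻¹) * Spor.Ly.a * Spor.Ly.e) * (((Spor.Ly.a ^ 2) * Spor.Ly.c1 * Spor.Ly.c5 * (Spor.Ly.c4⁻¹))⁻¹)) = 1 := by
  have h := hu.rel37
  simp only [List.map_cons, List.map_nil, List.prod_cons, List.prod_nil, mul_one, hu.inv0, hu.inv2, hu.inv4, hu.inv6, hu.inv8, hu.inv11] at h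
  simpa [map_mul, map_inv, map_pow, FreeGroup.lift_apply_of, gen, base, mul_inv_rev, pow_succ, mul_assoc, hu.inv10] using h

theorem r38 (hu : Holds u) : FreeGroup.lift (gen u) (Spor.Ly.e * Spor.Ly.c2 * Spor.Ly.e * (Spor.Ly.c2⁻¹) * Spor.Ly.e * Spor.Ly.c2 * (Spor.Ly.c4⁻¹) * Spor.Ly.a * Spor.Ly.c3 * (Spor.Ly.a ^ 3)) = 1 := by
  have h := hu.rel38
  simp only [List.map_cons, List.map_nil, List.prod_cons, List.prod_nil, mul_one, hu.inv0, hu.inv2, hu.inv4, hu.inv6, hu.inv8, hu.inv11] at h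
  simpa [map_mul, map_inv, map_pow, FreeGroup.lift_apply_of, gen, base, mul_inv_rev, pow_succ, mul_assoc, hu.inv10] using h

theorem r39 (hu : Holds u) : FreeGroup.lift (gen u) (Spor.Ly.d * ((Spor.Ly.a * (Spor.Ly.b ^ 2) * (Spor.Ly.a⁻¹) * (Spor.Ly.b⁻¹) * (Spor.Ly.c1⁻¹) * (Spor.Ly.c4⁻¹) * (Spor.Ly.c5⁻¹) * Spor.Ly.a * Spor.Ly.e * Spor.Ly.a * Spor.Ly.e * Spor.Ly.a * (Spor.Ly.c2⁻¹) * Spor.Ly.b * Spor.Ly.e)⁻¹)) = 1 := by
  have h := hu.rel39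
  simp only [List.map_cons, List.map_nil, List.prod_cons, List.prod_nil, mul_one, hu.inv0, hu.inv2, hu.inv4, hu.inv6, hu.inv8, hu.inv11] at h
  simpa [map_mul, map_inv, map_pow, FreeGroup.lift_apply_of, gen, base, mul_inv_rev, pow_succ, mul_assoc, hu.inv10] using h

theorem r40 (hu : Holds u) : FreeGroup.lift (gen u) ((Spor.Ly.d ^ 2) * ((Spor.Ly.a ^ 4)⁻¹)) = 1 := by
  have h := hu.rel40
  simp only [List.map_cons, List.map_nil, List.prod_cons, List.prod_nil, mul_one, hu.inv0, hu.inv2, hu.inv4, hu.inv6, hu.inv8, hu.inv11] at h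
  simpa [map_mul, map_inv, map_pow, FreeGroup.lift_apply_of, gen, base, mul_inv_rev, pow_succ, mul_assoc, hu.inv10] using h

theorem r41 (hu : Holds u) : FreeGroup.lift (gen u) (Spor.Ly.b⁻¹ * Spor.Ly.d⁻¹ * Spor.Ly.b * Spor.Ly.d) = 1 := by
  have h := hu.rel41
  simp only [List.map_cons, List.map_nil, List.prod_cons, List.prod_nil, mul_one, hu.inv0, hu.inv2, hu.inv4, hu.inv6, hu.inv8, hu.inv11] at h
  simpa [map_mul, map_inv, map_pow, FreeGroup.lift_apply_of, gen, base, mul_inv_rev, pow_succ, mul_assoc, hu.inv10] using h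

theorem r42 (hu : Holds u) : FreeGroup.lift (gen u) ((Spor.Ly.d⁻¹ * Spor.Ly.a * Spor.Ly.d) * ((Spor.Ly.a ^ 3)⁻¹)) = 1 := by
  have h := hu.rel42
  simp only [List.map_cons, List.map_nil, List.prod_cons, List.prod_nil, mul_one, hu.inv0, hu.inv2, hu.inv4, hu.inv6, hu.inv8, hu.inv11] at h
  simpa [map_mul, map_inv, map_pow, FreeGroup.lift_apply_of, gen, base, mul_inv_rev, pow_succ, mul_assoc, hu.inv10] using h

theorem r43 (hu : Holds u) : FreeGroup.lift (gen u) ((Spor.Ly.d * Spor.Ly.c5) ^ 5) = 1 := by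
  have h := hu.rel43
  simp only [List.map_cons, List.map_nil, List.prod_cons, List.prod_nil, mul_one, hu.inv0, hu.inv2, hu.inv4, hu.inv6, hu.inv8, hu.inv11] at h
  simpa [map_mul, map_inv, map_pow, FreeGroup.lift_apply_of, gen, base, mul_inv_rev, pow_succ, mul_assoc, hu.inv10] using h

theorem r44 (hu : Holds u) : FreeGroup.lift (gen u) (Spor.Ly.d * Spor.Ly.c5 * Spor.Ly.d * (Spor.Ly.c5⁻¹) * Spor.Ly.d * Spor.Ly.c5 * ((Spor.Ly.a ^ 2)⁻¹)) = 1 := by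
  have h := hu.rel44
  simp only [List.map_cons, List.map_nil, List.prod_cons, List.prod_nil, mul_one, hu.inv0, hu.inv2, hu.inv4, hu.inv6, hu.inv8, hu.inv11] at h
  simpa [map_mul, map_inv, map_pow, FreeGroup.lift_apply_of, gen, base, mul_inv_rev, pow_succ, mul_assoc, hu.inv10] using h

theorem r45 (hu : Holds u) : FreeGroup.lift (gen u) (Spor.Ly.a1 * (Spor.Ly.a⁻¹)) = 1 := by
  simp [gen, base, mul_assoc]

theorem r46 (hu : Holds u) : FreeGroup.lift (gen u) (Spor.Ly.a2 * (((Spor.Ly.b⁻¹)⁻¹ * Spor.Ly.a * (Spor.Ly.b⁻¹))⁻¹)) = 1 := by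
  simp [gen, base, mul_assoc]

theorem r47 (hu : Holds u) : FreeGroup.lift (gen u) (Spor.Ly.a3 * ((((Spor.Ly.b ^ 2)⁻¹)⁻¹ * Spor.Ly.a * ((Spor.Ly.b ^ 2)⁻¹))⁻¹)) = 1 := by
  simp [gen, base, mul_assoc]

theorem r48 (hu : Holds u) : FreeGroup.lift (gen u) (Spor.Ly.a4 * (((Spor.Ly.b ^ 2)⁻¹ * Spor.Ly.a * (Spor.Ly.b ^ 2))⁻¹)) = 1 := by
  simp [gen, base, mul_assoc]

theorem r49 (hu : Holds u) : FreeGroup.lift (gen u) (Spor.Ly.u * ((Spor.Ly.a ^ 2)⁻¹)) = 1 := by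
  simp [gen, base, mul_assoc]

theorem r50 (hu : Holds u) : FreeGroup.lift (gen u) (Spor.Ly.x23 * (Spor.Ly.d⁻¹)) = 1 := by
  simp [gen, base, mul_assoc]

theorem r51 (hu : Holds u) : FreeGroup.lift (gen u) (Spor.Ly.x24 * ((Spor.Ly.d⁻¹)⁻¹)) = 1 := by
  simp [gen, base, mul_assoc]

theorem r52 (hu : Holds u) : FreeGroup.lift (gen u) (Spor.Ly.x25 * (((Spor.Ly.b ^ 2) * (Spor.Ly.a⁻¹) * (Spor.Ly.b⁻¹) * (Spor.Ly.a⁻¹) * (Spor.Ly.b ^ 2) * (Spor.Ly.c⁻¹) * Spor.Ly.a * Spor.Ly.c * (Spor.Ly.a⁻¹) * (Spor.Ly.c⁻¹) * Spor.Ly.d * (Spor.Ly.c⁻¹) * (Spor.Ly.b ^ 2) * (Spor.Ly.a⁻¹) * Spor.Ly.c * Spor.Ly.b)⁻¹)) = 1 := by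
  simp [gen, base, mul_assoc]

theorem r53 (hu : Holds u) : FreeGroup.lift (gen u) (Spor.Ly.x29 * ((Spor.Ly.a * Spor.Ly.b * (Spor.Ly.a⁻¹) * (Spor.Ly.b ^ 2) * (Spor.Ly.a⁻¹) * (Spor.Ly.b ^ 2) * (Spor.Ly.c⁻¹) * Spor.Ly.a * Spor.Ly.c * Spor.Ly.b * Spor.Ly.c * (Spor.Ly.b⁻¹) * Spor.Ly.d * Spor.Ly.c * ((Spor.Ly.b ^ 2)⁻¹) * Spor.Ly.d * Spor.Ly.c * Spor.Ly.b * Spor.Ly.c)⁻¹)) = 1 := by
  simp [gen, base, mul_assoc]

theorem r54 (hu : Holds u) : FreeGroup.lift (gen u) (Spor.Ly.x47 * (((Spor.Ly.c⁻¹) * (Spor.Ly.d⁻¹) * (Spor.Ly.a⁻¹) * (Spor.Ly.c⁻¹) * (Spor.Ly.a⁻¹) * Spor.Ly.b * (Spor.Ly.c⁻¹) * (Spor.Ly.d⁻¹))⁻¹)) = 1 := by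
  simp [gen, base, mul_assoc]

theorem r55 (hu : Holds u) : FreeGroup.lift (gen u) (Spor.Ly.x96 * ((Spor.Ly.b * Spor.Ly.d)⁻¹)) = 1 := by
  simp [gen, base, mul_assoc]

theorem r56 (hu : Holds u) : FreeGroup.lift (gen u) (Spor.Ly.x129 * (((Spor.Ly.d⁻¹) * (Spor.Ly.b⁻¹))⁻¹)) = 1 := by
  simp [gen, base, mul_assoc]

theorem r57 (hu : Holds u) : FreeGroup.lift (gen u) (Spor.Ly.x162 * (((Spor.Ly.a⁻¹) * (Spor.Ly.b⁻¹) * (Spor.Ly.a⁻¹) * Spor.Ly.b * (Spor.Ly.c⁻¹) * (Spor.Ly.b⁻¹) * Spor.Ly.a * (Spor.Ly.c⁻¹) * Spor.Ly.b * Spor.Ly.a)⁻¹)) = 1 := by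
  simp [gen, base, mul_assoc]

theorem r58 (hu : Holds u) : FreeGroup.lift (gen u) (Spor.Ly.x163 * ((((Spor.Ly.b ^ 2)⁻¹) * Spor.Ly.a * Spor.Ly.c * (Spor.Ly.a⁻¹) * Spor.Ly.b * Spor.Ly.c * Spor.Ly.b)⁻¹)) = 1 := by
  simp [gen, base, mul_assoc]

theorem r59 (hu : Holds u) : FreeGroup.lift (gen u) (Spor.Ly.x164 * (((Spor.Ly.a⁻¹) * (Spor.Ly.b⁻¹) * (Spor.Ly.a⁻¹) * Spor.Ly.c * Spor.Ly.a * Spor.Ly.b * Spor.Ly.a)⁻¹)) = 1 := by
  simp [gen, base, mul_assoc]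

theorem r60 (hu : Holds u) : FreeGroup.lift (gen u) (Spor.Ly.x165 * (((Spor.Ly.b⁻¹) * (Spor.Ly.a⁻¹) * Spor.Ly.b * Spor.Ly.c * (Spor.Ly.b⁻¹) * Spor.Ly.a * Spor.Ly.b)⁻¹)) = 1 := by
  simp [gen, base, mul_assoc]

theorem r61 (hu : Holds u) : FreeGroup.lift (gen u) (Spor.Ly.x166 * (((Spor.Ly.b ^ 2) * (Spor.Ly.a⁻¹) * (Spor.Ly.b⁻¹) * Spor.Ly.c * Spor.Ly.b * Spor.Ly.a * Spor.Ly.c * ((Spor.Ly.b ^ 2)⁻¹) * (Spor.Ly.c⁻¹))⁻¹)) = 1 := by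
  simp [gen, base, mul_assoc]

theorem r62 (hu : Holds u) : FreeGroup.lift (gen u) (Spor.Ly.x167 * (((Spor.Ly.a ^ 3)⁻¹)⁻¹)) = 1 := by
  simp [gen, base, mul_assoc]

theorem r63 (hu : Holds u) : FreeGroup.lift (gen u) (Spor.Ly.x168 * ((Spor.Ly.b * (Spor.Ly.a⁻¹) * (Spor.Ly.b⁻¹) * ((Spor.Ly.a ^ 2)⁻¹))⁻¹)) = 1 := by
  simp [gen, base, mul_assoc]

theorem r64 (hu : Holds u) : FreeGroup.lift (gen u) (Spor.Ly.x169 * ((Spor.Ly.a * (Spor.Ly.b ^ 2) * Spor.Ly.a * ((Spor.Ly.b ^ 2)⁻¹) * (Spor.Ly.a⁻¹))⁻¹)) = 1 := by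
  simp [gen, base, mul_assoc]

theorem r65 (hu : Holds u) : FreeGroup.lift (gen u) (Spor.Ly.x364 * (((Spor.Ly.a⁻¹) * Spor.Ly.d * (Spor.Ly.b⁻¹) * (Spor.Ly.c⁻¹) * (Spor.Ly.a⁻¹) * Spor.Ly.b * (Spor.Ly.c⁻¹) * (Spor.Ly.d⁻¹) * Spor.Ly.b * (Spor.Ly.c⁻¹) * (Spor.Ly.b⁻¹) * (Spor.Ly.a⁻¹) * (Spor.Ly.c⁻¹) * Spor.Ly.a * (Spor.Ly.b⁻¹) * Spor.Ly.a * Spor.Ly.b * Spor.Ly.a * (Spor.Ly.b⁻¹))⁻¹)) = 1 := by
  simp [gen, base, mul_assoc]

theorem r66 (hu : Holds u) : FreeGroup.lift (gen u) (Spor.Ly.x365 * ((Spor.Ly.a * ((Spor.Ly.b ^ 2)⁻¹) * (Spor.Ly.a⁻¹) * Spor.Ly.c * Spor.Ly.b * (Spor.Ly.c⁻¹) * Spor.Ly.b * (Spor.Ly.a⁻¹) * ((Spor.Ly.c ^ 2)⁻¹) * Spor.Ly.d * Spor.Ly.c * Spor.Ly.a * Spor.Ly.c * (Spor.Ly.a⁻¹) * Spor.Ly.c * (Spor.Ly.b⁻¹) * (Spor.Ly.d⁻¹))⁻¹)) = 1 := by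
  simp [gen, base, mul_assoc]

theorem r67 (hu : Holds u) : FreeGroup.lift (gen u) (Spor.Ly.x366 * ((Spor.Ly.b * Spor.Ly.a * (Spor.Ly.b⁻¹) * (Spor.Ly.a⁻¹) * ((Spor.Ly.b ^ 2)⁻¹) * (Spor.Ly.a⁻¹) * (Spor.Ly.b⁻¹) * Spor.Ly.c * (Spor.Ly.b ^ 2) * Spor.Ly.c * Spor.Ly.b * Spor.Ly.d * Spor.Ly.c * ((Spor.Ly.b ^ 2)⁻¹) * Spor.Ly.d * Spor.Ly.c * Spor.Ly.b * Spor.Ly.c)⁻¹)) = 1 := by
  simp [gen, base, mul_assoc]

theorem r68 (hu : Holds u) : FreeGroup.lift (gen u) (Spor.Ly.x367 * (((Spor.Ly.c⁻¹) * (Spor.Ly.b⁻¹) * (Spor.Ly.c⁻¹) * (Spor.Ly.d⁻¹) * (Spor.Ly.b ^ 2) * (Spor.Ly.c⁻¹) * (Spor.Ly.d⁻¹) * (Spor.Ly.b⁻¹) * (Spor.Ly.c⁻¹) * ((Spor.Ly.b ^ 2)⁻¹) * (Spor.Ly.c⁻¹) * Spor.Ly.b * Spor.Ly.a * (Spor.Ly.b ^ 2) * Spor.Ly.a * Spor.Ly.b * (Spor.Ly.a⁻¹) * (Spor.Ly.b⁻¹))⁻¹)) = 1 := by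
  simp [gen, base, mul_assoc]

theorem r69 (hu : Holds u) : FreeGroup.lift (gen u) (Spor.Ly.x368 * (((Spor.Ly.a⁻¹) * (Spor.Ly.c⁻¹) * (Spor.Ly.d⁻¹) * Spor.Ly.a * (Spor.Ly.c⁻¹) * (Spor.Ly.b⁻¹) * Spor.Ly.a * (Spor.Ly.c⁻¹) * (Spor.Ly.d⁻¹) * (Spor.Ly.a⁻¹) * (Spor.Ly.c⁻¹) * Spor.Ly.a * Spor.Ly.c * ((Spor.Ly.b ^ 2)⁻¹) * (Spor.Ly.c⁻¹) * (Spor.Ly.b⁻¹) * (Spor.Ly.a⁻¹) * ((Spor.Ly.b ^ 2)⁻¹))⁻¹)) = 1 := by
  simp [gen, base, mul_assoc]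

theorem r70 (hu : Holds u) : FreeGroup.lift (gen u) (Spor.Ly.x369 * (((Spor.Ly.a⁻¹) * (Spor.Ly.c⁻¹) * (Spor.Ly.d⁻¹) * Spor.Ly.b * (Spor.Ly.a⁻¹) * (Spor.Ly.b⁻¹) * (Spor.Ly.c⁻¹) * (Spor.Ly.d⁻¹) * Spor.Ly.b * (Spor.Ly.a⁻¹) * (Spor.Ly.b⁻¹) * (Spor.Ly.c⁻¹) * (Spor.Ly.b⁻¹) * Spor.Ly.a * ((Spor.Ly.b ^ 2)⁻¹) * Spor.Ly.a * (Spor.Ly.b⁻¹))⁻¹)) = 1 := by
  simp [gen, base, mul_assoc]

theorem r71 (hu : Holds u) : FreeGroup.lift (gen u) (Spor.Ly.x370 * (((Spor.Ly.d⁻¹) * Spor.Ly.a * Spor.Ly.c * Spor.Ly.b * Spor.Ly.c * (Spor.Ly.a⁻¹) * (Spor.Ly.c⁻¹) * (Spor.Ly.d⁻¹) * Spor.Ly.a * (Spor.Ly.b⁻¹) * (Spor.Ly.a⁻¹) * Spor.Ly.c * (Spor.Ly.a⁻¹) * ((Spor.Ly.b ^ 2)⁻¹) * (Spor.Ly.a⁻¹) * Spor.Ly.b * (Spor.Ly.a⁻¹))⁻¹)) = 1 := by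
  simp [gen, base, mul_assoc]

theorem r72 (hu : Holds u) : FreeGroup.lift (gen u) (Spor.Ly.x371 * (((Spor.Ly.c⁻¹) * (Spor.Ly.a⁻¹) * Spor.Ly.c * Spor.Ly.b * (Spor.Ly.c⁻¹) * (Spor.Ly.d⁻¹) * Spor.Ly.c * (Spor.Ly.a⁻¹) * Spor.Ly.c * Spor.Ly.a * Spor.Ly.c * (Spor.Ly.b⁻¹) * (Spor.Ly.a⁻¹) * (Spor.Ly.b⁻¹) * (Spor.Ly.a⁻¹) * Spor.Ly.b)⁻¹)) = 1 := by
  simp [gen, base, mul_assoc]

theorem r73 (hu : Holds u) : FreeGroup.lift (gen u) ((Spor.Ly.z⁻¹ * Spor.Ly.c1 * Spor.Ly.z) * (Spor.Ly.x162⁻¹)) = 1 := by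
  have h := hu.rel73
  simp only [List.map_cons, List.map_nil, List.prod_cons, List.prod_nil, mul_one, hu.inv0, hu.inv2, hu.inv4, hu.inv6, hu.inv8, hu.inv11] at h
  simpa [map_mul, map_inv, map_pow, FreeGroup.lift_apply_of, gen, base, mul_inv_rev, pow_succ, mul_assoc, hu.inv10] using h

theorem r74 (hu : Holds u) : FreeGroup.lift (gen u) ((Spor.Ly.z⁻¹ * Spor.Ly.c2 * Spor.Ly.z) * (Spor.Ly.x163⁻¹)) = 1 := by
  have h := hu.rel74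
  simp only [List.map_cons, List.map_nil, List.prod_cons, List.prod_nil, mul_one, hu.inv0, hu.inv2, hu.inv4, hu.inv6, hu.inv8, hu.inv11] at h
  simpa [map_mul, map_inv, map_pow, FreeGroup.lift_apply_of, gen, base, mul_inv_rev, pow_succ, mul_assoc, hu.inv10] using h

theorem r75 (hu : Holds u) : FreeGroup.lift (gen u) ((Spor.Ly.z⁻¹ * Spor.Ly.c3 * Spor.Ly.z) * (Spor.Ly.x164⁻¹)) = 1 := by
  have h := hu.rel75
  simp only [List.map_cons, List.map_nil, List.prod_cons, List.prod_nil, mul_one, hu.inv0, hu.inv2, hu.inv4, hu.inv6, hu.inv8, hu.inv11] at h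
  simpa [map_mul, map_inv, map_pow, FreeGroup.lift_apply_of, gen, base, mul_inv_rev, pow_succ, mul_assoc, hu.inv10] using h

theorem r76 (hu : Holds u) : FreeGroup.lift (gen u) ((Spor.Ly.z⁻¹ * Spor.Ly.c4 * Spor.Ly.z) * (Spor.Ly.x165⁻¹)) = 1 := by
  have h := hu.rel76
  simp only [List.map_cons, List.map_nil, List.prod_cons, List.prod_nil, mul_one, hu.inv0, hu.inv2, hu.inv4, hu.inv6, hu.inv8, hu.inv11] at h
  simpa [map_mul, map_inv, map_pow, FreeGroup.lift_apply_of, gen, base, mul_inv_rev, pow_succ, mul_assoc, hu.inv10] using h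

theorem r77 (hu : Holds u) : FreeGroup.lift (gen u) ((Spor.Ly.z⁻¹ * Spor.Ly.c5 * Spor.Ly.z) * (Spor.Ly.x166⁻¹)) = 1 := by
  have h := hu.rel77
  simp only [List.map_cons, List.map_nil, List.prod_cons, List.prod_nil, mul_one, hu.inv0, hu.inv2, hu.inv4, hu.inv6, hu.inv8, hu.inv11] at h
  simpa [map_mul, map_inv, map_pow, FreeGroup.lift_apply_of, gen, base, mul_inv_rev, pow_succ, mul_assoc, hu.inv10] using h

theorem r78 (hu : Holds u) : FreeGroup.lift (gen u) ((Spor.Ly.z⁻¹ * Spor.Ly.a1 * Spor.Ly.z) * (Spor.Ly.x167⁻¹)) = 1 := by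
  have h := hu.rel78
  simp only [List.map_cons, List.map_nil, List.prod_cons, List.prod_nil, mul_one, hu.inv0, hu.inv2, hu.inv4, hu.inv6, hu.inv8, hu.inv11] at h
  simpa [map_mul, map_inv, map_pow, FreeGroup.lift_apply_of, gen, base, mul_inv_rev, pow_succ, mul_assoc, hu.inv10] using h

theorem r79 (hu : Holds u) : FreeGroup.lift (gen u) ((Spor.Ly.z⁻¹ * Spor.Ly.a2 * Spor.Ly.z) * (Spor.Ly.x168⁻¹)) = 1 := by
  have h := hu.rel79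
  simp only [List.map_cons, List.map_nil, List.prod_cons, List.prod_nil, mul_one, hu.inv0, hu.inv2, hu.inv4, hu.inv6, hu.inv8, hu.inv11] at h
  simpa [map_mul, map_inv, map_pow, FreeGroup.lift_apply_of, gen, base, mul_inv_rev, pow_succ, mul_assoc, hu.inv10] using h

theorem r80 (hu : Holds u) : FreeGroup.lift (gen u) ((Spor.Ly.z⁻¹ * Spor.Ly.a3 * Spor.Ly.z) * (Spor.Ly.x169⁻¹)) = 1 := by
  have h := hu.rel80
  simp only [List.map_cons, List.map_nil, List.prod_cons, List.prod_nil, mul_one, hu.inv0, hu.inv2, hu.inv4, hu.inv6, hu.inv8, hu.inv11] at h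
  simpa [map_mul, map_inv, map_pow, FreeGroup.lift_apply_of, gen, base, mul_inv_rev, pow_succ, mul_assoc, hu.inv10] using h

theorem r81 (hu : Holds u) : FreeGroup.lift (gen u) ((Spor.Ly.z ^ 2) * (Spor.Ly.u⁻¹)) = 1 := by
  have h := hu.rel81
  simp only [List.map_cons, List.map_nil, List.prod_cons, List.prod_nil, mul_one, hu.inv0, hu.inv2, hu.inv4, hu.inv6, hu.inv8, hu.inv11] at h
  simpa [map_mul, map_inv, map_pow, FreeGroup.lift_apply_of, gen, base, mul_inv_rev, pow_succ, mul_assoc, hu.inv10] using h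

theorem r82 (hu : Holds u) : FreeGroup.lift (gen u) (((Spor.Ly.a4 * Spor.Ly.z) ^ 3) * Spor.Ly.u) = 1 := by
  have h := hu.rel82
  simp only [List.map_cons, List.map_nil, List.prod_cons, List.prod_nil, mul_one, hu.inv0, hu.inv2, hu.inv4, hu.inv6, hu.inv8, hu.inv11] at h
  simpa [map_mul, map_inv, map_pow, FreeGroup.lift_apply_of, gen, base, mul_inv_rev, pow_succ, mul_assoc, hu.inv10] using h

theorem r83 (hu : Holds u) : FreeGroup.lift (gen u) (Spor.Ly.x47 * Spor.Ly.z * Spor.Ly.x364 * Spor.Ly.z * Spor.Ly.x368 * Spor.Ly.z) = 1 := by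
  have h := hu.rel83
  simp only [List.map_cons, List.map_nil, List.prod_cons, List.prod_nil, mul_one, hu.inv0, hu.inv2, hu.inv4, hu.inv6, hu.inv8, hu.inv11] at h
  simpa [map_mul, map_inv, map_pow, FreeGroup.lift_apply_of, gen, base, mul_inv_rev, pow_succ, mul_assoc, hu.inv10] using h

theorem r84 (hu : Holds u) : FreeGroup.lift (gen u) ((Spor.Ly.z⁻¹) * Spor.Ly.x24 * (Spor.Ly.z⁻¹) * Spor.Ly.x369 * Spor.Ly.z * Spor.Ly.x23 * Spor.Ly.z * Spor.Ly.x29) = 1 := by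
  have h := hu.rel84
  simp only [List.map_cons, List.map_nil, List.prod_cons, List.prod_nil, mul_one, hu.inv0, hu.inv2, hu.inv4, hu.inv6, hu.inv8, hu.inv11] at h
  simpa [map_mul, map_inv, map_pow, FreeGroup.lift_apply_of, gen, base, mul_inv_rev, pow_succ, mul_assoc, hu.inv10] using h

theorem r85 (hu : Holds u) : FreeGroup.lift (gen u) (Spor.Ly.z * Spor.Ly.x366 * Spor.Ly.z * Spor.Ly.x365 * (Spor.Ly.z⁻¹) * Spor.Ly.x367 * (Spor.Ly.z⁻¹) * Spor.Ly.x370) = 1 := by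
  have h := hu.rel85
  simp only [List.map_cons, List.map_nil, List.prod_cons, List.prod_nil, mul_one, hu.inv0, hu.inv2, hu.inv4, hu.inv6, hu.inv8, hu.inv11] at h
  simpa [map_mul, map_inv, map_pow, FreeGroup.lift_apply_of, gen, base, mul_inv_rev, pow_succ, mul_assoc, hu.inv10] using h

theorem r86 (hu : Holds u) : FreeGroup.lift (gen u) (Spor.Ly.z * Spor.Ly.x96 * Spor.Ly.z * Spor.Ly.x25 * (Spor.Ly.z⁻¹) * Spor.Ly.x129 * (Spor.Ly.z⁻¹) * Spor.Ly.x371) = 1 := by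
  have h := hu.rel86
  simp only [List.map_cons, List.map_nil, List.prod_cons, List.prod_nil, mul_one, hu.inv0, hu.inv2, hu.inv4, hu.inv6, hu.inv8, hu.inv11] at h
  simpa [map_mul, map_inv, map_pow, FreeGroup.lift_apply_of, gen, base, mul_inv_rev, pow_succ, mul_assoc, hu.inv10] using h

theorem relators (hu : Holds u) :
    ∀ r ∈ Spor.coxRelators Spor.Ly.edges ∪ {r | r ∈ Spor.Ly.extra}, FreeGroup.lift (gen u) r = 1 := by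
  rintro r (⟨a', ha, -⟩ | hr)
  · simp [Spor.coxNodes, Spor.Ly.edges] at ha
  simp only [Set.mem_ofPred_eq, Spor.Ly.extra, List.mem_cons, List.not_mem_nil, or_false] at hr
  rcases hr with rfl | rfl | rfl | rfl | rfl | rfl | rfl | rfl | rfl | rfl | rfl | rfl | rfl | rfl | rfl | rfl | rfl | rfl | rfl | rfl | rfl | rfl | rfl | rfl | rfl | rfl | rfl | rfl | rfl | rfl | rfl | rfl | rfl | rfl | rfl | rfl | rfl | rfl | rfl | rfl | rfl | rfl | rfl | rfl | rfl | rfl | rfl | rfl | rfl | rfl | rfl | rfl | rfl | rfl | rfl | rfl | rfl | rfl | rfl | rfl | rfl | rfl | rfl | rfl | rfl | rfl | rfl | rfl | rfl | rfl | rfl | rfl | rfl | rfl | rfl | rfl | rfl | rfl | rfl | rfl | rfl | rfl | rfl | rfl | rfl | rfl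
  exacts [r1 u hu, r2 u hu, r3 u hu, r4 u hu, r5 u hu, r6 u hu, r7 u hu, r8 u hu, r9 u hu, r10 u hu, r11 u hu, r12 u hu, r13 u hu, r14 u hu, r15 u hu, r16 u hu, r17 u hu, r18 u hu, r19 u hu, r20 u hu, r21 u hu, r22 u hu, r23 u hu, r24 u hu, r25 u hu, r26 u hu, r27 u hu, r28 u hu, r29 u hu, r30 u hu, r31 u hu, r32 u hu, r33 u hu, r34 u hu, r35 u hu, r36 u hu, r37 u hu, r38 u hu, r39 u hu, r40 u hu, r41 u hu, r42 u hu, r43 u hu, r44 u hu, r45 u hu, r46 u hu, r47 u hu, r48 u hu, r49 u hu, r50 u hu, r51 u hu, r52 u hu, r53 u hu, r54 u hu, r55 u hu, r56 u hu, r57 u hu, r58 u hu, r59 u hu, r60 u hu, r61 u hu, r62 u hu, r63 u hu, r64 u hu, r65 u hu, r66 u hu, r67 u hu, r68 u hu, r69 u hu, r70 u hu, r71 u hu, r72 u hu, r73 u hu, r74 u hu, r75 u hu, r76 u hu, r77 u hu, r78 u hu, r79 u hu, r80 u hu, r81 u hu, r82 u hu, r83 u hu, r84 u hu, r85 u hu,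 r86 u hu]

end

/-- The representation. -/
noncomputable def rho : Spor.Ly →* GL111 := PresentedGroup.toGroup (relators U holds)

theorem rho_mk (w : FreeGroup Spor.Ly.Gen) :
    rho (PresentedGroup.mk (Spor.coxRelators Spor.Ly.edges ∪ {r | r ∈ Spor.Ly.extra}) w) =
      FreeGroup.lift (gen U) w := rfl

theorem U0_ne : U 0 ≠ 1 := fun e => by
  obtain ⟨i, hi, h⟩ := List.any_eq_true.mp a_ne
  refine notOne_sound (List.mem_range.1 hi) (List.mem_range.1 hi) (fun g hg => ok (by simp at hg; omega)) h ?_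
  rw [List.map_singleton, List.prod_singleton, ← Units.val_one, ← e, coe_U (by norm_num)]
  rfl

/-- The generator `a` is not trivial in the presented Lyons group. -/
theorem mk_a_ne : PresentedGroup.mk (Spor.coxRelators Spor.Ly.edges ∪ {r | r ∈ Spor.Ly.extra}) Spor.Ly.a ≠ 1 := fun e => U0_ne (by
  have e' := congrArg rho e
  rw [rho_mk, map_one, FreeGroup.lift_apply_of] at e'
  exact e')

end Cfsg.Agent.LyRep64
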