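import Cfsg.Agent.Lib.LyG2MatData64
import Cfsg.Agent.Lib.LyG2All64
import Cfsg.Agent.Lib.LyRep64
import Cfsg.Agent.Lib.ChevalleyAll
import Cfsg.Agent.S1055
import Cfsg.Agent.S1059

/-!
The subgroup of the presented Lyons group generated by `a`, `b`, `c`, `d` is the adjoint group of type G2 over
the field with five elements: the pairs (element, matrix) generated by the letters form a group of at most the
order of G2(5) by coset enumeration, mapping onto G2(5) and nontrivially onto the subgroup.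
-/

set_option autoImplicit false
set_option maxRecDepth 100000
set_option maxHeartbeats 1000000

namespace Cfsg.Agent.LyG2Five64

open Cfsg.Agent.LyG2MatCore64 Cfsg.Agent.LyG2MatData64 Cfsg.Agent.UnitaryPres49Cert
open Cfsg.Lie

instance fact5 : Fact (Nat.Prime 5) := ⟨by norm_num⟩

/-- The projection to the presented Lyons group. -/
abbrev mk : FreeGroup Spor.Ly.Gen →* Spor.Ly :=
  PresentedGroup.mk (Spor.coxRelators Spor.Ly.edges ∪ {r | r ∈ Spor.Ly.extra})

theorem mk_rel (k : ℕ) (hk : k < Spor.Ly.extra.length) : mk (Spor.Ly.extra.getD k 1) = 1 := by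
  refine PresentedGroup.one_of_mem (Or.inr ?_)
  show Spor.Ly.extra.getD k 1 ∈ Spor.Ly.extra
  rw [List.getD_eq_getElem _ _ hk]
  exact List.getElem_mem hk

/-- The images of the letters in the presented Lyons group. -/
noncomputable def letLy : ℕ → Spor.Ly
  | 0 => mk Spor.Ly.a
  | 1 => mk Spor.Ly.b
  | 2 => mk Spor.Ly.c
  | 3 => mk Spor.Ly.c2
  | 4 => mk Spor.Ly.c3
  | 5 => mk Spor.Ly.c4
  | 6 => mk Spor.Ly.c5
  | 7 => mk Spor.Ly.d
  | 8 => mk Spor.Ly.e
  | 9 => (mk Spor.Ly.a)⁻¹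
  | 10 => (mk Spor.Ly.b)⁻¹
  | 11 => (mk Spor.Ly.c)⁻¹
  | 12 => (mk Spor.Ly.c2)⁻¹
  | 13 => (mk Spor.Ly.c3)⁻¹
  | 14 => (mk Spor.Ly.c4)⁻¹
  | 15 => (mk Spor.Ly.c5)⁻¹
  | 16 => (mk Spor.Ly.d)⁻¹
  | 17 => (mk Spor.Ly.e)⁻¹
  | _ => 1

theorem mk_c1 : mk Spor.Ly.c1 = mk Spor.Ly.c := by
  have h : mk (Spor.Ly.c1 * (Spor.Ly.c⁻¹)) = 1 := mk_rel 5 (by decide)
  rwa [map_mul, map_inv, mul_inv_eq_one] at h

theorem ly_rel1 : (List.map letLy [0, 0, 0, 0, 0, 0, 0, 0]).prod = 1 := by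
  have h : mk (Spor.Ly.a ^ 8) = 1 := mk_rel 0 (by decide)
  simpa [letLy, mk_c1, map_mul, map_inv, map_pow, mul_inv_rev, pow_succ, mul_assoc] using h

theorem ly_rel2 : (List.map letLy [1, 1, 1, 1, 1]).prod = 1 := by
  have h : mk (Spor.Ly.b ^ 5) = 1 := mk_rel 1 (by decide)
  simpa [letLy, mk_c1, map_mul, map_inv, map_pow, mul_inv_rev, pow_succ, mul_assoc] using h

theorem ly_rel3 : (List.map letLy [0, 1, 0, 1, 0, 1, 0, 1]).prod = 1 := by
  have h : mk ((Spor.Ly.a * Spor.Ly.b) ^ 4) = 1 := mk_rel 2 (by decide)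
  simpa [letLy, mk_c1, map_mul, map_inv, map_pow, mul_inv_rev, pow_succ, mul_assoc] using h

theorem ly_rel4 : (List.map letLy [9, 9, 10, 0, 0, 1]).prod = 1 := by
  have h : mk ((Spor.Ly.a ^ 2)⁻¹ * Spor.Ly.b⁻¹ * (Spor.Ly.a ^ 2) * Spor.Ly.b) = 1 := mk_rel 3 (by decide)
  simpa [letLy, mk_c1, map_mul, map_inv, map_pow, mul_inv_rev, pow_succ, mul_assoc] using h

theorem ly_rel5 : (List.map letLy [9, 10, 0, 1, 9, 10, 0, 1, 9, 10, 0, 1]).prod = 1 := by
  have h : mk ((Spor.Ly.a⁻¹ * Spor.Ly.b⁻¹ * Spor.Ly.a * Spor.Ly.b) ^ 3) = 1 := mk_rel 4 (by decide)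
  simpa [letLy, mk_c1, map_mul, map_inv, map_pow, mul_inv_rev, pow_succ, mul_assoc] using h

theorem ly_rel7 : (List.map letLy [3, 9, 11, 0]).prod = 1 := by
  have h : mk (Spor.Ly.c2 * ((Spor.Ly.a⁻¹ * Spor.Ly.c * Spor.Ly.a)⁻¹)) = 1 := mk_rel 6 (by decide)
  simpa [letLy, mk_c1, map_mul, map_inv, map_pow, mul_inv_rev, pow_succ, mul_assoc] using h

theorem ly_rel8 : (List.map letLy [4, 10, 11, 1]).prod = 1 := by
  have h : mk (Spor.Ly.c3 * ((Spor.Ly.b⁻¹ * Spor.Ly.c * Spor.Ly.b)⁻¹)) = 1 := mk_rel 7 (by decide)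
  simpa [letLy, mk_c1, map_mul, map_inv, map_pow, mul_inv_rev, pow_succ, mul_assoc] using h

theorem ly_rel9 : (List.map letLy [5, 1, 11, 10]).prod = 1 := by
  have h : mk (Spor.Ly.c4 * (((Spor.Ly.b⁻¹)⁻¹ * Spor.Ly.c * (Spor.Ly.b⁻¹))⁻¹)) = 1 := mk_rel 8 (by decide)
  simpa [letLy, mk_c1, map_mul, map_inv, map_pow, mul_inv_rev, pow_succ, mul_assoc] using h

theorem ly_rel10 : (List.map letLy [6, 12, 11, 3, 2]).prod = 1 := by
  have h : mk (Spor.Ly.c5 * ((Spor.Ly.c1⁻¹ * Spor.Ly.c2⁻¹ * Spor.Ly.c1 * Spor.Ly.c2)⁻¹)) = 1 := mk_rel 9 (by decide)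
  simpa [letLy, mk_c1, map_mul, map_inv, map_pow, mul_inv_rev, pow_succ, mul_assoc] using h

theorem ly_rel11 : (List.map letLy [2, 2, 2, 2, 2]).prod = 1 := by
  have h : mk (Spor.Ly.c1 ^ 5) = 1 := mk_rel 10 (by decide)
  simpa [letLy, mk_c1, map_mul, map_inv, map_pow, mul_inv_rev, pow_succ, mul_assoc] using h

theorem ly_rel12 : (List.map letLy [6, 6, 6, 6, 6]).prod = 1 := by
  have h : mk (Spor.Ly.c5 ^ 5) = 1 := mk_rel 11 (by decide)
  simpa [letLy, mk_c1, map_mul, map_inv, map_pow, mul_inv_rev, pow_succ, mul_assoc] using h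

theorem ly_rel13 : (List.map letLy [11, 15, 2, 6]).prod = 1 := by
  have h : mk (Spor.Ly.c1⁻¹ * Spor.Ly.c5⁻¹ * Spor.Ly.c1 * Spor.Ly.c5) = 1 := mk_rel 12 (by decide)
  simpa [letLy, mk_c1, map_mul, map_inv, map_pow, mul_inv_rev, pow_succ, mul_assoc] using h

theorem ly_rel14 : (List.map letLy [12, 15, 3, 6]).prod = 1 := by
  have h : mk (Spor.Ly.c2⁻¹ * Spor.Ly.c5⁻¹ * Spor.Ly.c2 * Spor.Ly.c5) = 1 := mk_rel 13 (by decide)
  simpa [letLy, mk_c1, map_mul, map_inv, map_pow, mul_inv_rev, pow_succ, mul_assoc] using h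

theorem ly_rel15 : (List.map letLy [13, 15, 4, 6]).prod = 1 := by
  have h : mk (Spor.Ly.c3⁻¹ * Spor.Ly.c5⁻¹ * Spor.Ly.c3 * Spor.Ly.c5) = 1 := mk_rel 14 (by decide)
  simpa [letLy, mk_c1, map_mul, map_inv, map_pow, mul_inv_rev, pow_succ, mul_assoc] using h

theorem ly_rel16 : (List.map letLy [14, 15, 5, 6]).prod = 1 := by
  have h : mk (Spor.Ly.c4⁻¹ * Spor.Ly.c5⁻¹ * Spor.Ly.c4 * Spor.Ly.c5) = 1 := mk_rel 15 (by decide)
  simpa [letLy, mk_c1, map_mul, map_inv, map_pow, mul_inv_rev, pow_succ, mul_assoc] using h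

theorem ly_rel17 : (List.map letLy [11, 13, 2, 4, 6, 6]).prod = 1 := by
  have h : mk ((Spor.Ly.c1⁻¹ * Spor.Ly.c3⁻¹ * Spor.Ly.c1 * Spor.Ly.c3) * (((Spor.Ly.c5 ^ 2)⁻¹)⁻¹)) = 1 := mk_rel 16 (by decide)
  simpa [letLy, mk_c1, map_mul, map_inv, map_pow, mul_inv_rev, pow_succ, mul_assoc] using h

theorem ly_rel18 : (List.map letLy [11, 14, 2, 5, 15, 15]).prod = 1 := by
  have h : mk ((Spor.Ly.c1⁻¹ * Spor.Ly.c4⁻¹ * Spor.Ly.c1 * Spor.Ly.c4) * ((Spor.Ly.c5 ^ 2)⁻¹)) = 1 := mk_rel 17 (by decide)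
  simpa [letLy, mk_c1, map_mul, map_inv, map_pow, mul_inv_rev, pow_succ, mul_assoc] using h

theorem ly_rel19 : (List.map letLy [12, 13, 3, 4, 6]).prod = 1 := by
  have h : mk ((Spor.Ly.c2⁻¹ * Spor.Ly.c3⁻¹ * Spor.Ly.c2 * Spor.Ly.c3) * ((Spor.Ly.c5⁻¹)⁻¹)) = 1 := mk_rel 18 (by decide)
  simpa [letLy, mk_c1, map_mul, map_inv, map_pow, mul_inv_rev, pow_succ, mul_assoc] using h

theorem ly_rel20 : (List.map letLy [12, 14, 3, 5]).prod = 1 := by
  have h : mk (Spor.Ly.c2⁻¹ * Spor.Ly.c4⁻¹ * Spor.Ly.c2 * Spor.Ly.c4) = 1 := mk_rel 19 (by decide)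
  simpa [letLy, mk_c1, map_mul, map_inv, map_pow, mul_inv_rev, pow_succ, mul_assoc] using h

theorem ly_rel21 : (List.map letLy [13, 14, 4, 5, 6]).prod = 1 := by
  have h : mk ((Spor.Ly.c3⁻¹ * Spor.Ly.c4⁻¹ * Spor.Ly.c3 * Spor.Ly.c4) * ((Spor.Ly.c5⁻¹)⁻¹)) = 1 := mk_rel 20 (by decide)
  simpa [letLy, mk_c1, map_mul, map_inv, map_pow, mul_inv_rev, pow_succ, mul_assoc] using h

theorem ly_rel22 : (List.map letLy [9, 3, 0, 2, 2]).prod = 1 := by
  have h : mk ((Spor.Ly.a⁻¹ * Spor.Ly.c2 * Spor.Ly.a) * (((Spor.Ly.c1 ^ 2)⁻¹)⁻¹)) = 1 := mk_rel 21 (by decide)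
  simpa [letLy, mk_c1, map_mul, map_inv, map_pow, mul_inv_rev, pow_succ, mul_assoc] using h

theorem ly_rel23 : (List.map letLy [9, 4, 0, 14, 11, 4, 4]).prod = 1 := by
  have h : mk ((Spor.Ly.a⁻¹ * Spor.Ly.c3 * Spor.Ly.a) * ((((Spor.Ly.c3 ^ 2)⁻¹) * Spor.Ly.c1 * Spor.Ly.c4)⁻¹)) = 1 := mk_rel 22 (by decide)
  simpa [letLy, mk_c1, map_mul, map_inv, map_pow, mul_inv_rev, pow_succ, mul_assoc] using h

theorem ly_rel24 : (List.map letLy [9, 5, 0, 14, 11, 14, 4, 3, 11]).prod = 1 := by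
  have h : mk ((Spor.Ly.a⁻¹ * Spor.Ly.c4 * Spor.Ly.a) * ((Spor.Ly.c1 * (Spor.Ly.c2⁻¹) * (Spor.Ly.c3⁻¹) * Spor.Ly.c4 * Spor.Ly.c1 * Spor.Ly.c4)⁻¹)) = 1 := mk_rel 23 (by decide)
  simpa [letLy, mk_c1, map_mul, map_inv, map_pow, mul_inv_rev, pow_succ, mul_assoc] using h

theorem ly_rel25 : (List.map letLy [9, 6, 0, 15, 15]).prod = 1 := by
  have h : mk ((Spor.Ly.a⁻¹ * Spor.Ly.c5 * Spor.Ly.a) * ((Spor.Ly.c5 ^ 2)⁻¹)) = 1 := mk_rel 24 (by decide)
  simpa [letLy, mk_c1, map_mul, map_inv, map_pow, mul_inv_rev, pow_succ, mul_assoc] using h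

theorem ly_rel26 : (List.map letLy [10, 3, 1, 5, 2, 5, 13, 12]).prod = 1 := by
  have h : mk ((Spor.Ly.b⁻¹ * Spor.Ly.c2 * Spor.Ly.b) * ((Spor.Ly.c2 * Spor.Ly.c3 * (Spor.Ly.c4⁻¹) * (Spor.Ly.c1⁻¹) * (Spor.Ly.c4⁻¹))⁻¹)) = 1 := mk_rel 25 (by decide)
  simpa [letLy, mk_c1, map_mul, map_inv, map_pow, mul_inv_rev, pow_succ, mul_assoc] using h

theorem ly_rel27 : (List.map letLy [10, 4, 1, 4, 4, 14, 11, 11]).prod = 1 := by
  have h : mk ((Spor.Ly.b⁻¹ * Spor.Ly.c3 * Spor.Ly.b) * (((Spor.Ly.c1 ^ 2) * Spor.Ly.c4 * ((Spor.Ly.c3 ^ 2)⁻¹))⁻¹)) = 1 := mk_rel 26 (by decide)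
  simpa [letLy, mk_c1, map_mul, map_inv, map_pow, mul_inv_rev, pow_succ, mul_assoc] using h

theorem ly_rel28 : (List.map letLy [10, 6, 1, 15]).prod = 1 := by
  have h : mk ((Spor.Ly.b⁻¹ * Spor.Ly.c5 * Spor.Ly.b) * (Spor.Ly.c5⁻¹)) = 1 := mk_rel 27 (by decide)
  simpa [letLy, mk_c1, map_mul, map_inv, map_pow, mul_inv_rev, pow_succ, mul_assoc] using h

theorem ly_rel29 : (List.map letLy [8, 16, 11, 16, 1, 9, 10, 11, 16, 9, 11, 0, 11, 9, 2, 0, 1, 1]).prod = 1 := by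
  have h : mk (Spor.Ly.e * ((((Spor.Ly.b ^ 2)⁻¹) * (Spor.Ly.a⁻¹ * Spor.Ly.c1⁻¹ * Spor.Ly.a * Spor.Ly.c1) * (Spor.Ly.a⁻¹) * Spor.Ly.c1 * Spor.Ly.a * Spor.Ly.d * Spor.Ly.c1 * Spor.Ly.b * Spor.Ly.a * (Spor.Ly.b⁻¹) * Spor.Ly.d * Spor.Ly.c1 * Spor.Ly.d)⁻¹)) = 1 := mk_rel 28 (by decide)
  simpa [letLy, mk_c1, map_mul, map_inv, map_pow, mul_inv_rev, pow_succ, mul_assoc] using h

theorem ly_rel30 : (List.map letLy [8, 8]).prod = 1 := by
  have h : mk (Spor.Ly.e ^ 2) = 1 := mk_rel 29 (by decide)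
  simpa [letLy, mk_c1, map_mul, map_inv, map_pow, mul_inv_rev, pow_succ, mul_assoc] using h

theorem ly_rel31 : (List.map letLy [17, 2, 8, 2, 10, 13, 10]).prod = 1 := by
  have h : mk ((Spor.Ly.e⁻¹ * Spor.Ly.c1 * Spor.Ly.e) * ((Spor.Ly.b * Spor.Ly.c3 * Spor.Ly.b * (Spor.Ly.c1⁻¹))⁻¹)) = 1 := mk_rel 30 (by decide)
  simpa [letLy, mk_c1, map_mul, map_inv, map_pow, mul_inv_rev, pow_succ, mul_assoc] using h

theorem ly_rel32 : (List.map letLy [17, 4, 8, 0, 5, 2, 12, 9, 10, 10]).prod = 1 := by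
  have h : mk ((Spor.Ly.e⁻¹ * Spor.Ly.c3 * Spor.Ly.e) * (((Spor.Ly.b ^ 2) * Spor.Ly.a * Spor.Ly.c2 * (Spor.Ly.c1⁻¹) * (Spor.Ly.c4⁻¹) * (Spor.Ly.a⁻¹))⁻¹)) = 1 := mk_rel 31 (by decide)
  simpa [letLy, mk_c1, map_mul, map_inv, map_pow, mul_inv_rev, pow_succ, mul_assoc] using h

theorem ly_rel33 : (List.map letLy [17, 5, 8, 14, 4, 10, 10]).prod = 1 := by
  have h : mk ((Spor.Ly.e⁻¹ * Spor.Ly.c4 * Spor.Ly.e) * (((Spor.Ly.b ^ 2) * (Spor.Ly.c3⁻¹) * Spor.Ly.c4)⁻¹)) = 1 := mk_rel 32 (by decide)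
  simpa [letLy, mk_c1, map_mul, map_inv, map_pow, mul_inv_rev, pow_succ, mul_assoc] using h

theorem ly_rel34 : (List.map letLy [17, 6, 8, 5, 11, 4, 11]).prod = 1 := by
  have h : mk ((Spor.Ly.e⁻¹ * Spor.Ly.c5 * Spor.Ly.e) * ((Spor.Ly.c1 * (Spor.Ly.c3⁻¹) * Spor.Ly.c1 * (Spor.Ly.c4⁻¹))⁻¹)) = 1 := mk_rel 33 (by decide)
  simpa [letLy, mk_c1, map_mul, map_inv, map_pow, mul_inv_rev, pow_succ, mul_assoc] using h

theorem ly_rel35 : (List.map letLy [8, 0, 0, 8, 5, 15, 11, 9, 1, 9, 10, 10, 9]).prod = 1 := by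
  have h : mk ((Spor.Ly.e * (Spor.Ly.a ^ 2) * Spor.Ly.e) * ((Spor.Ly.a * (Spor.Ly.b ^ 2) * Spor.Ly.a * (Spor.Ly.b⁻¹) * Spor.Ly.a * Spor.Ly.c1 * Spor.Ly.c5 * (Spor.Ly.c4⁻¹))⁻¹)) = 1 := mk_rel 34 (by decide)
  simpa [letLy, mk_c1, map_mul, map_inv, map_pow, mul_inv_rev, pow_succ, mul_assoc] using h

theorem ly_rel36 : (List.map letLy [17, 1, 8, 5, 5, 4, 11]).prod = 1 := by
  have h : mk ((Spor.Ly.e⁻¹ * Spor.Ly.b * Spor.Ly.e) * ((Spor.Ly.c1 * (Spor.Ly.c3⁻¹) * ((Spor.Ly.c4 ^ 2)⁻¹))⁻¹)) = 1 := mk_rel 35 (by decide)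
  simpa [letLy, mk_c1, map_mul, map_inv, map_pow, mul_inv_rev, pow_succ, mul_assoc] using h

theorem ly_rel37 : (List.map letLy [8, 0, 1, 1, 0, 10, 0, 8, 5, 15, 11, 9, 9]).prod = 1 := by
  have h : mk ((Spor.Ly.e * Spor.Ly.a * (Spor.Ly.b ^ 2) * Spor.Ly.a * (Spor.Ly.b⁻¹) * Spor.Ly.a * Spor.Ly.e) * (((Spor.Ly.a ^ 2) * Spor.Ly.c1 * Spor.Ly.c5 * (Spor.Ly.c4⁻¹))⁻¹)) = 1 := mk_rel 36 (by decide)
  simpa [letLy, mk_c1, map_mul, map_inv, map_pow, mul_inv_rev, pow_succ, mul_assoc] using h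

theorem ly_rel38 : (List.map letLy [8, 3, 8, 12, 8, 3, 14, 0, 4, 0, 0, 0]).prod = 1 := by
  have h : mk (Spor.Ly.e * Spor.Ly.c2 * Spor.Ly.e * (Spor.Ly.c2⁻¹) * Spor.Ly.e * Spor.Ly.c2 * (Spor.Ly.c4⁻¹) * Spor.Ly.a * Spor.Ly.c3 * (Spor.Ly.a ^ 3)) = 1 := mk_rel 37 (by decide)
  simpa [letLy, mk_c1, map_mul, map_inv, map_pow, mul_inv_rev, pow_succ, mul_assoc] using h

theorem ly_rel39 : (List.map letLy [7, 17, 10, 3, 9, 17, 9, 17, 9, 6, 5, 2, 1, 0, 10, 10, 9]).prod = 1 := by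
  have h : mk (Spor.Ly.d * ((Spor.Ly.a * (Spor.Ly.b ^ 2) * (Spor.Ly.a⁻¹) * (Spor.Ly.b⁻¹) * (Spor.Ly.c1⁻¹) * (Spor.Ly.c4⁻¹) * (Spor.Ly.c5⁻¹) * Spor.Ly.a * Spor.Ly.e * Spor.Ly.a * Spor.Ly.e * Spor.Ly.a * (Spor.Ly.c2⁻¹) * Spor.Ly.b * Spor.Ly.e)⁻¹)) = 1 := mk_rel 38 (by decide)
  simpa [letLy, mk_c1, map_mul, map_inv, map_pow, mul_inv_rev, pow_succ, mul_assoc] using h

theorem ly_rel40 : (List.map letLy [7, 7, 9, 9, 9, 9]).prod = 1 := by
  have h : mk ((Spor.Ly.d ^ 2) * ((Spor.Ly.a ^ 4)⁻¹)) = 1 := mk_rel 39 (by decide)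
  simpa [letLy, mk_c1, map_mul, map_inv, map_pow, mul_inv_rev, pow_succ, mul_assoc] using h

theorem ly_rel41 : (List.map letLy [10, 16, 1, 7]).prod = 1 := by
  have h : mk (Spor.Ly.b⁻¹ * Spor.Ly.d⁻¹ * Spor.Ly.b * Spor.Ly.d) = 1 := mk_rel 40 (by decide)
  simpa [letLy, mk_c1, map_mul, map_inv, map_pow, mul_inv_rev, pow_succ, mul_assoc] using h

theorem ly_rel42 : (List.map letLy [16, 0, 7, 9, 9, 9]).prod = 1 := by
  have h : mk ((Spor.Ly.d⁻¹ * Spor.Ly.a * Spor.Ly.d) * ((Spor.Ly.a ^ 3)⁻¹)) = 1 := mk_rel 41 (by decide)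
  simpa [letLy, mk_c1, map_mul, map_inv, map_pow, mul_inv_rev, pow_succ, mul_assoc] using h

theorem ly_rel43 : (List.map letLy [7, 6, 7, 6, 7, 6, 7, 6, 7, 6]).prod = 1 := by
  have h : mk ((Spor.Ly.d * Spor.Ly.c5) ^ 5) = 1 := mk_rel 42 (by decide)
  simpa [letLy, mk_c1, map_mul, map_inv, map_pow, mul_inv_rev, pow_succ, mul_assoc] using h

theorem ly_rel44 : (List.map letLy [7, 6, 7, 15, 7, 6, 9, 9]).prod = 1 := by
  have h : mk (Spor.Ly.d * Spor.Ly.c5 * Spor.Ly.d * (Spor.Ly.c5⁻¹) * Spor.Ly.d * Spor.Ly.c5 * ((Spor.Ly.a ^ 2)⁻¹)) = 1 := mk_rel 43 (by decide)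
  simpa [letLy, mk_c1, map_mul, map_inv, map_pow, mul_inv_rev, pow_succ, mul_assoc] using h

theorem ly_rels : ∀ w ∈ LyG2Cert64.certG.rels, (w.map letLy).prod = 1 := by
  intro w hw
  simp only [LyG2Cert64.certG, List.mem_cons, List.not_mem_nil, or_false] at hw
  rcases hw with rfl | rfl | rfl | rfl | rfl | rfl | rfl | rfl | rfl | rfl | rfl | rfl | rfl | rfl | rfl | rfl | rfl | rfl | rfl | rfl | rfl | rfl | rfl | rfl | rfl | rfl | rfl | rfl | rfl | rfl | rfl | rfl | rfl | rfl | rfl | rfl | rfl | rfl | rfl | rfl | rfl | rfl | rfl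
  exacts [ly_rel1, ly_rel2, ly_rel3, ly_rel4, ly_rel5, ly_rel7, ly_rel8, ly_rel9, ly_rel10, ly_rel11, ly_rel12, ly_rel13, ly_rel14, ly_rel15, ly_rel16, ly_rel17, ly_rel18, ly_rel19, ly_rel20, ly_rel21, ly_rel22, ly_rel23, ly_rel24, ly_rel25, ly_rel26, ly_rel27, ly_rel28, ly_rel29, ly_rel30, ly_rel31, ly_rel32, ly_rel33, ly_rel34, ly_rel35, ly_rel36, ly_rel37, ly_rel38, ly_rel39, ly_rel40, ly_rel41, ly_rel42, ly_rel43, ly_rel44]

/-! ### the matrices -/

/-- The field with five elements. -/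
abbrev K5 : Type := ZMod 5

/-- Numbering of the coordinates of the adjoint module. -/
def ix : chevG2.Idx ≃ Fin 14 := finSumFinEquiv

/-- The matrix of a letter. -/
def mat (i : ℕ) : Matrix chevG2.Idx chevG2.Idx K5 := (sMat (sparse (gens.getD i []))).submatrix ix ix

theorem prod_mat (w : List ℕ) :
    (w.map mat).prod = ((w.map fun g => sMat (sparse (gens.getD g []))).prod).submatrix ix ix := by
  induction w with
  | nil => simp [Matrix.submatrix_one_equiv]
  | cons i w ih => rw [List.map_cons, List.prod_cons, List.map_cons, List.prod_cons, ih, mat,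
      Matrix.submatrix_mul_equiv]

theorem rows_ok {i : ℕ} (hi : i < 30) : rowsOk (gens.getD i []) = true :=
  List.all_eq_true.mp gens_ok i (List.mem_range.2 hi)

theorem word_one {w : List ℕ} (hw : ∀ g ∈ w, g < 30) (h : wordIsOne gens w = true) : (w.map mat).prod = 1 := by
  rw [prod_mat, wordIsOne_sound (fun g hg => rows_ok (hw g hg)) h, Matrix.submatrix_one_equiv]

theorem word_eq {v w : List ℕ} (hv : ∀ g ∈ v, g < 30) (hw : ∀ g ∈ w, g < 30)
    (h : sameWord gens v w = true) : (v.map mat).prod = (w.map mat).prod := by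
  rw [prod_mat, prod_mat, sameWord_sound (fun g hg => rows_ok (hv g hg)) (fun g hg => rows_ok (hw g hg)) h]

theorem mat_pair {i : ℕ} (hi : i < 9) : mat i * mat (i + 9) = 1 ∧ mat (i + 9) * mat i = 1 := by
  have h := word_one (w := [i, i + 9]) (by intro g hg; simp at hg; omega)
    (List.all_eq_true.mp inv_ok i (List.mem_range.2 hi))
  simp only [List.map_cons, List.map_nil, List.prod_cons, List.prod_nil, mul_one] at h
  exact ⟨h, mul_eq_one_comm.mp h⟩

theorem root_entries : ∀ r : Fin 12, ∀ i j : Fin 14,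
    rowVal ((sparse (gens.getD (18 + r.1) [])).getD i.1 []) j.1 = chevG2.x K5 r.1 1 (ix.symm i) (ix.symm j) := by
  decide +kernel

/-- The letters as units. -/
noncomputable def letG (i : ℕ) : GL chevG2.Idx K5 :=
  if h : i < 9 then ⟨mat i, mat (i + 9), (mat_pair h).1, (mat_pair h).2⟩
  else if h' : i < 18 then
    ⟨mat (i - 9 + 9), mat (i - 9), (mat_pair (i := i - 9) (by omega)).2, (mat_pair (i := i - 9) (by omega)).1⟩
  else ChevalleyCore.xg ChevalleyDataG2.cert (i - 18) (1 : K5)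

theorem coe_letG {i : ℕ} (hi : i < 30) : (letG i : Matrix chevG2.Idx chevG2.Idx K5) = mat i := by
  unfold letG
  split
  · rfl
  split
  · show mat (i - 9 + 9) = mat i
    rw [Nat.sub_add_cancel (by omega)]
  · rw [ChevalleyCore.coe_xg]
    ext a b
    have := root_entries ⟨i - 18, by omega⟩ (ix a) (ix b)
    simp only [Equiv.symm_apply_apply] at this
    rw [show 18 + (i - 18) = i by omega] at this
    exact this.symm

theorem coe_prod {w : List ℕ} (hw : ∀ g ∈ w, g < 30) :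
    ((w.map letG).prod : Matrix chevG2.Idx chevG2.Idx K5) = (w.map mat).prod := by
  rw [← Units.coeHom_apply, map_list_prod, List.map_map]
  exact congrArg List.prod (List.map_congr_left fun g hg => coe_letG (hw g hg))

theorem letG_iv : ∀ i < 18, letG i * letG (LyG2Cert64.certG.iv i) = 1 := by
  intro i hi
  apply Units.ext
  rw [Units.val_mul, Units.val_one, coe_letG (by omega),
    coe_letG (by show (if i < 9 then i + 9 else i - 9) < 30; split <;> omega)]
  show mat i * mat (if i < 9 then i + 9 else i - 9) = 1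
  split
  · exact (mat_pair (by assumption)).1
  · have := (mat_pair (i := i - 9) (by omega)).2
    rwa [Nat.sub_add_cancel (by omega)] at this

theorem letLy_iv : ∀ i < 18, letLy i * letLy (LyG2Cert64.certG.iv i) = 1 := by
  intro i hi
  show letLy i * letLy (if i < 9 then i + 9 else i - 9) = 1
  interval_cases i <;> simp [letLy]

theorem g_rels : ∀ w ∈ LyG2Cert64.certG.rels, (w.map letG).prod = 1 := by
  intro w hw
  have hl : ∀ g ∈ w, g < 30 := by
    have h : ∀ w ∈ LyG2Cert64.certG.rels, ∀ g ∈ w, g < 30 := by decide +kernel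
    exact h w hw
  apply Units.ext
  rw [coe_prod hl, word_one hl (List.all_eq_true.mp rels_ok w hw), Units.val_one]

/-! ### the pairs -/

/-- The ambient group of pairs. -/
abbrev Amb : Type := Spor.Ly × GL chevG2.Idx K5

/-- The letters as pairs. -/
noncomputable def let2 (i : ℕ) : Amb := (letLy i, letG i)

theorem prod_let2 (w : List ℕ) : (w.map let2).prod = ((w.map letLy).prod, (w.map letG).prod) := by
  induction w with
  | nil => rfl
  | cons i w ih => simp [ih, let2]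

/-- One level of the chain of enumerations. -/
theorem level {C : Cert} {J : CosetCertCore.Tbl} (hb : LyG2Check64.basicOk C = true)
    (hall : ∀ v < C.N, ∀ i < C.L, LyG2Check64.justE C J v i = true)
    (y : ℕ → Amb) (hsub : ∀ i ∈ C.sub, i < C.L) (hiv : ∀ i < C.L, C.iv i < C.L)
    (hy : ∀ i < C.L, y i * y (C.iv i) = 1) (hr : ∀ w ∈ C.rels, (w.map y).prod = 1)
    [Finite (Subgroup.closure (y '' {i | i ∈ C.sub}))] :
    Finite (Subgroup.closure (y '' {i | i < C.L})) ∧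
      Nat.card (Subgroup.closure (y '' {i | i < C.L})) ≤
        C.N * Nat.card (Subgroup.closure (y '' {i | i ∈ C.sub})) := by
  set H := Subgroup.closure (y '' {i | i < C.L}) with hH
  set K := Subgroup.closure (y '' {i | i ∈ C.sub}) with hK
  have hKH : K ≤ H := Subgroup.closure_mono (Set.image_mono fun i hi => hsub i hi)
  let y' : ℕ → H := fun i => if h : i < C.L then ⟨y i, Subgroup.subset_closure ⟨i, h, rfl⟩⟩ else 1
  have hcoe : ∀ i < C.L, (y' i : Amb) = y i := fun i hi => by simp [y', hi]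
  haveI : Finite (K.subgroupOf H) := Finite.of_equiv _ (Subgroup.subgroupOfEquivOfLe hKH).symm.toEquiv
  have hrel : ∀ w ∈ C.rels, (w.map y').prod = 1 := by
    intro w hw
    apply Subtype.ext
    change H.subtype (w.map y').prod = 1
    rw [map_list_prod, List.map_map, ← hr w hw]
    refine congrArg List.prod (List.map_congr_left fun i hi => hcoe i ?_)
    have hb' := hb
    simp only [LyG2Check64.basicOk, Bool.and_eq_true, List.all_eq_true, Nat.blt_eq] at hb'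
    exact hb'.2 w hw i hi
  have hgen : Submonoid.closure (y' '' {i | i < C.L}) = ⊤ := by
    rw [eq_top_iff]
    rintro ⟨x, hx⟩ -
    induction hx using Subgroup.closure_induction'' with
    | one => exact one_mem _
    | mem x hx =>
      obtain ⟨i, hi, rfl⟩ := hx
      exact Submonoid.subset_closure ⟨i, hi, Subtype.ext (hcoe i hi)⟩
    | inv_mem x hx =>
      obtain ⟨i, hi, rfl⟩ := hx
      refine Submonoid.subset_closure ⟨C.iv i, hiv i hi, Subtype.ext ?_⟩
      rw [hcoe _ (hiv i hi)]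
      exact (inv_eq_of_mul_eq_one_right (hy i hi)).symm
    | mul x z hx hz ihx ihz => exact mul_mem (ihx) (ihz)
  obtain ⟨h1, h2⟩ := LyG2Check64.bound_just hb hall (K.subgroupOf H) y'
    (fun i hi => Subtype.ext (by rw [Subgroup.coe_mul, hcoe i hi, hcoe _ (hiv i hi)]; exact hy i hi))
    hrel (fun i hi => by
      rw [Subgroup.mem_subgroupOf, hcoe i (hsub i hi)]
      exact Subgroup.subset_closure ⟨i, hi, rfl⟩) hgen
  exact ⟨h1, h2.trans_eq (by rw [Nat.card_congr (Subgroup.subgroupOfEquivOfLe hKH).toEquiv])⟩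

/-- Letters of the second level among those of the first. -/
def renP (i : ℕ) : ℕ := if i < 7 then i else i + 2

/-- Letters of the third level among those of the first. -/
def renL (i : ℕ) : ℕ := if i < 2 then i else i + 7

/-- The group of pairs. -/
noncomputable def R : Subgroup Amb := Subgroup.closure (let2 '' {i | i < 18})

theorem let2_iv {i : ℕ} (hi : i < 18) : let2 i * let2 (LyG2Cert64.certG.iv i) = 1 :=
  Prod.ext (letLy_iv i hi) (letG_iv i hi)

theorem let2_rels {w : List ℕ} (hw : w ∈ LyG2Cert64.certG.rels) : (w.map let2).prod = 1 := by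
  rw [prod_let2, ly_rels w hw, g_rels w hw]; rfl

theorem ren_facts :
    (∀ i < 4, renL i < 18 ∧ LyG2Cert64.certL.iv i < 4 ∧ renL (LyG2Cert64.certL.iv i) = LyG2Cert64.certG.iv (renL i)) ∧
    (∀ i < 14, renP i < 18 ∧ LyG2Cert64.certP.iv i < 14 ∧ renP (LyG2Cert64.certP.iv i) = LyG2Cert64.certG.iv (renP i)) ∧
    (∀ i < 18, LyG2Cert64.certG.iv i < 18) ∧
    (∀ w ∈ LyG2Cert64.certL.rels, w.map renL ∈ LyG2Cert64.certG.rels) ∧
    (∀ w ∈ LyG2Cert64.certP.rels, w.map renP ∈ LyG2Cert64.certG.rels) ∧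
    LyG2Cert64.certP.sub.map renP = [0, 9, 1, 10] ∧ (∀ i < 4, renL i ∈ [0, 9, 1, 10]) ∧
    (∀ i ∈ [0, 9, 1, 10], ∃ k < 4, renL k = i) ∧
    (∀ i ∈ LyG2Cert64.certG.sub, ∃ k < 14, renP k = i) ∧
    (∀ k < 14, renP k ∈ LyG2Cert64.certG.sub) ∧
    (∀ i ∈ LyG2Cert64.certP.sub, i < 14) ∧ (∀ i ∈ LyG2Cert64.certG.sub, i < 18) := by
  refine ⟨?_, ?_, ?_, ?_, ?_, ?_, ?_, ?_, ?_, ?_, ?_, ?_⟩ <;> decide +kernel

theorem R_bound : Finite R ∧ Nat.card R ≤ 5859000000 := by
  obtain ⟨fL, fP, fG, rL, rP, hsP, hL, hL', hG', hG, sP, sG⟩ := ren_facts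
  -- the third level
  have hbot : Subgroup.closure ((let2 ∘ renL) '' {i | i ∈ LyG2Cert64.certL.sub}) = ⊥ := by
    simp [LyG2Cert64.certL]
  haveI : Finite (Subgroup.closure ((let2 ∘ renL) '' {i | i ∈ LyG2Cert64.certL.sub})) := by
    rw [hbot]; infer_instance
  obtain ⟨f1, c1⟩ := level (C := LyG2Cert64.certL) LyG2All64.basicL LyG2All64.justL (let2 ∘ renL)
    (by simp [LyG2Cert64.certL]) (fun i hi => (fL i hi).2.1)
    (fun i hi => by
      show let2 (renL i) * let2 (renL (LyG2Cert64.certL.iv i)) = 1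
      rw [(fL i hi).2.2]; exact let2_iv (fL i hi).1)
    (fun w hw => by rw [← List.map_map]; exact let2_rels (rL w hw))
  rw [hbot, Subgroup.card_bot, mul_one] at c1
  -- the second level
  have e1 : (let2 ∘ renP) '' {i | i ∈ LyG2Cert64.certP.sub} = (let2 ∘ renL) '' {i | i < LyG2Cert64.certL.L} := by
    rw [Set.image_comp, Set.image_comp]
    congr 1
    ext i
    constructor
    · rintro ⟨k, hk, rfl⟩
      obtain ⟨l, hl, he⟩ := hL' (renP k) (hsP ▸ List.mem_map_of_mem hk)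
      exact ⟨l, hl, he⟩
    · rintro ⟨k, hk, rfl⟩
      have := hL k hk
      rw [← hsP, List.mem_map] at this
      exact this
  haveI : Finite (Subgroup.closure ((let2 ∘ renP) '' {i | i ∈ LyG2Cert64.certP.sub})) := by
    rw [e1]; exact f1
  obtain ⟨f2, c2⟩ := level (C := LyG2Cert64.certP) LyG2All64.basicP LyG2All64.justP (let2 ∘ renP)
    sP (fun i hi => (fP i hi).2.1)
    (fun i hi => by
      show let2 (renP i) * let2 (renP (LyG2Cert64.certP.iv i)) = 1
      rw [(fP i hi).2.2]; exact let2_iv (fP i hi).1)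
    (fun w hw => by rw [← List.map_map]; exact let2_rels (rP w hw))
  rw [e1] at c2
  -- the first level
  have e2 : let2 '' {i | i ∈ LyG2Cert64.certG.sub} = (let2 ∘ renP) '' {i | i < LyG2Cert64.certP.L} := by
    rw [Set.image_comp]
    congr 1
    ext i
    exact ⟨fun hi => hG' i hi, by rintro ⟨k, hk, rfl⟩; exact hG k hk⟩
  haveI : Finite (Subgroup.closure (let2 '' {i | i ∈ LyG2Cert64.certG.sub})) := by
    rw [e2]; exact f2
  obtain ⟨f3, c3⟩ := level (C := LyG2Cert64.certG) LyG2All64.basicG LyG2All64.justG let2 sG fG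
    (fun i hi => let2_iv hi) (fun w hw => let2_rels hw)
  rw [e2] at c3
  refine ⟨f3, c3.trans ?_⟩
  calc LyG2Cert64.certG.N * _ ≤ LyG2Cert64.certG.N * (LyG2Cert64.certP.N * LyG2Cert64.certL.N) :=
        Nat.mul_le_mul_left _ (c2.trans (Nat.mul_le_mul_left _ c1))
    _ = 5859000000 := by simp [LyG2Cert64.certG, LyG2Cert64.certP, LyG2Cert64.certL]

/-! ### the projections -/

theorem let2_mem {i : ℕ} (hi : i < 18) : let2 i ∈ R := Subgroup.subset_closure ⟨i, hi, rfl⟩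

theorem step_facts : (∀ p ∈ steps, p.1 < 18 ∧ ∀ z ∈ p.2, z < 30) ∧
    (∀ i < 18, ∃ p ∈ steps, p.1 = i) ∧ (∀ r < 12, ∀ z ∈ rootWords.getD r [], z < 18) ∧
    (steps.take 4).map Prod.fst = [0, 1, 2, 7] ∧ (∀ p ∈ steps.drop 4, ∀ z ∈ p.2, z < 18) := by
  refine ⟨?_, ?_, ?_, ?_, ?_⟩ <;> decide +kernel

/-- Induction along the steps. -/
theorem step_induction (P : ℕ → Prop) (hroot : ∀ z, 18 ≤ z → z < 30 → P z)
    (hstep : ∀ k < steps.length, (∀ z ∈ (steps.getD k (0, [])).2, P z) → P (steps.getD k (0, [])).1) :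
    ∀ i < 18, P i := by
  have hord : ∀ k < steps.length, ∀ z ∈ (steps.getD k (0, [])).2,
      (18 ≤ z ∧ z < 30) ∨ z ∈ (steps.take k).map Prod.fst := by
    intro k hk z hz
    have h := List.all_eq_true.mp (List.all_eq_true.mp steps_order k (List.mem_range.2 hk)) z hz
    simpa only [Bool.or_eq_true, decide_eq_true_eq, List.contains_iff_mem] using h
  have key : ∀ k ≤ steps.length, ∀ p ∈ steps.take k, P p.1 := by
    intro k
    induction k with
    | zero => simp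
    | succ k ih =>
      intro hk p hp
      rw [List.take_succ_eq_append_getElem (by omega), List.mem_append, List.mem_singleton] at hp
      rcases hp with hp | rfl
      · exact ih (by omega) p hp
      · have := hstep k (by omega) (fun z hz => by
          rcases hord k (by omega) z hz with ⟨h1, h2⟩ | h
          · exact hroot z h1 h2
          · obtain ⟨q, hq, rfl⟩ := List.mem_map.mp h
            exact ih (by omega) q hq)
        rwa [List.getD_eq_getElem _ _ (by omega)] at this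
  intro i hi
  obtain ⟨p, hp, rfl⟩ := step_facts.2.1 i hi
  exact key steps.length le_rfl p (by rwa [List.take_length])

theorem step_eq {k : ℕ} (hk : k < steps.length) :
    letG (steps.getD k (0, [])).1 = ((steps.getD k (0, [])).2.map letG).prod := by
  have hm : steps.getD k (0, []) ∈ steps := by
    rw [List.getD_eq_getElem _ _ hk]; exact List.getElem_mem hk
  obtain ⟨h1, h2⟩ := step_facts.1 _ hm
  apply Units.ext
  rw [coe_prod h2, coe_letG (by omega), ← word_eq (by simpa using (by omega : (steps.getD k (0, [])).1 < 30)) h2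
    (List.all_eq_true.mp steps_ok _ hm)]
  simp

theorem root_eq {r : ℕ} (hr : r < 12) :
    ChevalleyCore.xg ChevalleyDataG2.cert r (1 : K5) = ((rootWords.getD r []).map letG).prod := by
  have hw : ∀ z ∈ rootWords.getD r [], z < 30 := fun z hz => by
    have := step_facts.2.2.1 r hr z hz; omega
  have hv : ∀ g ∈ [18 + r], g < 30 := by simpa using (by omega : 18 + r < 30)
  have e := word_eq hv hw (List.all_eq_true.mp roots_ok r (List.mem_range.2 hr))
  apply Units.ext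
  rw [coe_prod hw, ← e, List.map_singleton, List.prod_singleton, ← coe_letG (by omega : 18 + r < 30),
    letG, dif_neg (by omega), dif_neg (by omega), Nat.add_sub_cancel_left]

/-- The projection of the pairs to the matrices. -/
noncomputable def toG : R →* GL chevG2.Idx K5 := (MonoidHom.snd _ _).comp R.subtype

/-- The projection of the pairs to the presented group. -/
noncomputable def toLy : R →* Spor.Ly := (MonoidHom.fst _ _).comp R.subtype

theorem range_toG : toG.range = chevG2.group K5 := by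
  apply le_antisymm
  · have hl : ∀ i < 18, letG i ∈ chevG2.group K5 :=
      step_induction (fun i => letG i ∈ chevG2.group K5)
        (fun z h1 h2 => by
          rw [letG, dif_neg (by omega), dif_neg (by omega)]
          exact ChevalleyCore.xg_mem_group _ _ _)
        (fun k hk h => by
          rw [step_eq hk]
          exact Subgroup.list_prod_mem _ fun u hu => by
            obtain ⟨z, hz, rfl⟩ := List.mem_map.mp hu; exact h z hz)
    have : R ≤ (chevG2.group K5).comap (MonoidHom.snd _ _) := by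
      rw [R, Subgroup.closure_le]
      rintro _ ⟨i, hi, rfl⟩
      exact hl i hi
    rintro _ ⟨p, rfl⟩
    exact this p.2
  · rw [ChevalleyDatum.group, Subgroup.closure_le]
    rintro g ⟨⟨r, hr⟩, t, hg⟩
    have hr' : r < 12 := hr
    have e : g = ChevalleyCore.xg ChevalleyDataG2.cert r t := by
      apply Units.ext
      rw [hg, ChevalleyCore.coe_xg, ChevalleyDatum.x, dif_pos hr]
    subst e
    have hpow : ∀ n : ℕ, ChevalleyCore.xg ChevalleyDataG2.cert r (1 : K5) ^ n =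
        ChevalleyCore.xg ChevalleyDataG2.cert r (n : K5) := by
      intro n
      induction n with
      | zero => simp
      | succ n ih => rw [pow_succ, ih, ChevalleyCore.xg_mul, Nat.cast_succ]
    have ht : ChevalleyCore.xg ChevalleyDataG2.cert r t =
        ChevalleyCore.xg ChevalleyDataG2.cert r (1 : K5) ^ t.val := by
      rw [hpow, ZMod.natCast_zmod_val]
    rw [SetLike.mem_coe, ht]
    refine pow_mem ?_ _
    rw [root_eq hr']
    refine Subgroup.list_prod_mem _ fun u hu => ?_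
    obtain ⟨z, hz, rfl⟩ := List.mem_map.mp hu
    exact ⟨⟨let2 z, let2_mem (step_facts.2.2.1 r hr' z hz)⟩, rfl⟩

theorem toG_injective : Function.Injective toG := by
  obtain ⟨hf, hle⟩ := R_bound
  have hc : Nat.card toG.range = 5859000000 := by
    rw [range_toG, S1059.result (q := 5) (ZMod.card 5)]
    norm_num
  rw [← MonoidHom.ker_eq_bot_iff, ← Subgroup.card_eq_one]
  have h := Subgroup.card_mul_index toG.ker
  rw [Subgroup.index_ker, hc] at h
  have : 1 ≤ Nat.card toG.ker := Nat.card_pos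
  by_contra hne
  have h2 : 2 * 5859000000 ≤ Nat.card toG.ker * 5859000000 := Nat.mul_le_mul_right _ (by omega)
  omega

/-- The pairs form a copy of G2(5). -/
noncomputable def equivG : R ≃* chevG2.group K5 :=
  (MonoidHom.ofInjective toG_injective).trans (MulEquiv.subgroupCongr range_toG)

theorem letLy_mem {H : Subgroup Spor.Ly} (hH : ∀ i ∈ [0, 1, 2, 7], letLy i ∈ H) : ∀ i < 18, letLy i ∈ H := by
  have key : ∀ i < 18, i < 18 → letLy i ∈ H := by
    refine step_induction (fun i => i < 18 → letLy i ∈ H) (fun z h1 _ h3 => by omega) (fun k hk h hi => ?_)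
    by_cases h4 : k < 4
    · refine hH _ ?_
      rw [← step_facts.2.2.2.1, List.getD_eq_getElem _ _ hk]
      exact List.mem_map_of_mem (List.mem_take_iff_getElem.2 ⟨k, by omega, rfl⟩)
    · have hm : steps.getD k (0, []) ∈ steps.drop 4 := by
        rw [List.getD_eq_getElem _ _ hk, List.mem_drop_iff_getElem]
        exact ⟨k - 4, by omega, by congr 1; omega⟩
      have hw := step_facts.2.2.2.2 _ hm
      set p := steps.getD k (0, []) with hp
      have hR : (p.2.map let2).prod ∈ R := Subgroup.list_prod_mem _ fun u hu => by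
        obtain ⟨z, hz, rfl⟩ := List.mem_map.mp hu; exact let2_mem (hw z hz)
      have e : (⟨let2 p.1, let2_mem hi⟩ : R) = ⟨_, hR⟩ := toG_injective (by
        show (let2 p.1).2 = (p.2.map let2).prod.2
        rw [prod_let2]; exact step_eq hk)
      have e' := congrArg (fun x : R => x.1.1) e
      simp only [prod_let2] at e'
      show letLy p.1 ∈ H
      rw [show letLy p.1 = (p.2.map letLy).prod from e']
      exact Subgroup.list_prod_mem _ fun u hu => by
        obtain ⟨z, hz, rfl⟩ := List.mem_map.mp hu; exact h z hz (hw z hz)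
  exact fun i hi => key i hi hi

/-- The subgroup generated by `a`, `b`, `c`, `d`. -/
noncomputable abbrev HLy : Subgroup Spor.Ly :=
  (Subgroup.closure ({Spor.Ly.a, Spor.Ly.b, Spor.Ly.c, Spor.Ly.d} : Set (FreeGroup Spor.Ly.Gen))).map mk

theorem range_toLy : toLy.range = HLy := by
  apply le_antisymm
  · have hl : ∀ i < 18, letLy i ∈ HLy := letLy_mem fun i hi => by
      fin_cases hi <;> exact Subgroup.mem_map_of_mem _ (Subgroup.subset_closure (by simp))
    have : R ≤ HLy.comap (MonoidHom.fst _ _) := by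
      rw [R, Subgroup.closure_le]
      rintro _ ⟨i, hi, rfl⟩
      exact hl i hi
    rintro _ ⟨p, rfl⟩
    exact this p.2
  · rw [HLy, MonoidHom.map_closure, Subgroup.closure_le]
    rintro _ ⟨w, hw, rfl⟩
    simp only [Set.mem_insert_iff, Set.mem_singleton_iff] at hw
    rcases hw with rfl | rfl | rfl | rfl
    exacts [⟨⟨_, let2_mem (i := 0) (by norm_num)⟩, rfl⟩, ⟨⟨_, let2_mem (i := 1) (by norm_num)⟩, rfl⟩,
      ⟨⟨_, let2_mem (i := 2) (by norm_num)⟩, rfl⟩, ⟨⟨_, let2_mem (i := 7) (by norm_num)⟩, rfl⟩]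

theorem toLy_injective : Function.Injective toLy := by
  haveI : IsSimpleGroup (chevG2.group K5) := (S1055.result ⟨2, by decide, by decide⟩).1
  haveI : Nontrivial R := equivG.toEquiv.nontrivial
  haveI : IsSimpleGroup R := IsSimpleGroup.isSimpleGroup_of_surjective equivG.symm.toMonoidHom equivG.symm.surjective
  rw [← MonoidHom.ker_eq_bot_iff]
  refine (Subgroup.Normal.eq_bot_or_eq_top inferInstance).resolve_right fun htop => LyRep64.mk_a_ne ?_
  have : (⟨let2 0, let2_mem (by norm_num)⟩ : R) ∈ toLy.ker := htop ▸ Subgroup.mem_top _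
  exact this

/-- The subgroup is isomorphic to G2(5). -/
theorem iso : Nonempty (HLy ≃* chevG2.group K5) :=
  ⟨((MulEquiv.subgroupCongr range_toLy.symm).trans (MonoidHom.ofInjective toLy_injective).symm).trans equivG⟩

end Cfsg.Agent.LyG2Five64
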