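import Cfsg.Agent.Lib.LyOrbitIndex41

/-!
Tools for counting the conjugates of an element of order three inside subgroups of G2(5) in the presented Lyons
group: lists of matrices closed under conjugation, Sylow 3-subgroups given by tables, and fixed cosets.
-/

set_option autoImplicit false
set_option maxRecDepth 100000
set_option maxHeartbeats 1000000

namespace Cfsg.Agent.LyMcL73Base

open Cfsg.Agent.LyG2Five64 Cfsg.Agent.LyOrbitCore41
open Cfsg.Agent.LyG2MatCore64 (PMat sMat sparse rowsOk sameWord sameWord_sound evalWord evalWord_sound digit pMat val)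
open Cfsg.Agent.LyG2MatData64 (gens)

/-- The square matrices of the adjoint module. -/
abbrev Mat14 : Type := Matrix Cfsg.Lie.chevG2.Idx Cfsg.Lie.chevG2.Idx K5

/-- The matrix representation of the subgroup G2(5). -/
noncomputable def MG : HLy →* GL Cfsg.Lie.chevG2.Idx K5 :=
  toG.comp ((MonoidHom.ofInjective toLy_injective).symm.toMonoidHom.comp
    (MulEquiv.subgroupCongr range_toLy.symm).toMonoidHom)

theorem MG_inj : Function.Injective MG :=
  toG_injective.comp ((MonoidHom.ofInjective toLy_injective).symm.injective.comp (MulEquiv.injective _))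

/-- The matrix of an element, zero outside the subgroup. -/
noncomputable def mm (y : L) : Mat14 :=
  haveI := Classical.propDecidable (y ∈ HLy)
  if h : y ∈ HLy then ((MG ⟨y, h⟩ : GL Cfsg.Lie.chevG2.Idx K5) : Mat14) else 0

theorem mm_def {y : L} (hy : y ∈ HLy) : mm y = ((MG ⟨y, hy⟩ : GL Cfsg.Lie.chevG2.Idx K5) : Mat14) := by
  rw [mm, dif_pos hy]

theorem mm_mul {y z : L} (hy : y ∈ HLy) (hz : z ∈ HLy) : mm (y * z) = mm y * mm z := by
  rw [mm_def hy, mm_def hz, mm_def (mul_mem hy hz), ← Units.val_mul, ← map_mul]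
  rfl

theorem mm_one : mm 1 = 1 := by
  rw [mm_def (one_mem _)]
  exact congrArg Units.val (map_one MG)

theorem mm_inj {y z : L} (hy : y ∈ HLy) (hz : z ∈ HLy) (e : mm y = mm z) : y = z := by
  rw [mm_def hy, mm_def hz] at e
  exact congrArg Subtype.val (MG_inj (Units.ext e))

theorem mm_ev {w : List ℕ} (h : okW w = true) : mm (ev w) = (w.map mat).prod := by
  rw [okW_iff] at h
  have hR : (w.map let2).prod ∈ R := Subgroup.list_prod_mem _ fun u hu => by
    obtain ⟨i, hi, rfl⟩ := List.mem_map.mp hu; exact let2_mem (h i hi)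
  have hmem : ev w ∈ HLy := ev_H (okW_iff.mpr h)
  rw [mm_def hmem]
  have e : (MonoidHom.ofInjective toLy_injective).symm
      ((MulEquiv.subgroupCongr range_toLy.symm) ⟨ev w, hmem⟩) = ⟨_, hR⟩ := by
    rw [MulEquiv.symm_apply_eq]
    apply Subtype.ext
    show ev w = ((w.map let2).prod).1
    rw [prod_let2]
    rfl
  show (toG ((MonoidHom.ofInjective toLy_injective).symm
      ((MulEquiv.subgroupCongr range_toLy.symm) ⟨ev w, hmem⟩)) : Mat14) = _
  rw [e]
  show (((w.map let2).prod).2 : Mat14) = _
  rw [prod_let2]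
  exact coe_prod fun g hg => (h g hg).trans (by norm_num)

theorem mm_cancel {g : L} {X Y : Mat14} (hg : g ∈ HLy) (e : X * mm g = Y * mm g) : X = Y := by
  have h : mm g * mm g⁻¹ = 1 := by rw [← mm_mul hg (inv_mem hg), mul_inv_cancel, mm_one]
  calc X = X * (mm g * mm g⁻¹) := by rw [h, mul_one]
    _ = Y * (mm g * mm g⁻¹) := by rw [← mul_assoc, e, mul_assoc]
    _ = Y := by rw [h, mul_one]

theorem trace_conj {h y : L} (hh : h ∈ HLy) (hy : y ∈ HLy) :
    Matrix.trace (mm (h * y * h⁻¹)) = Matrix.trace (mm y) := by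
  rw [mm_mul (mul_mem hh hy) (inv_mem hh), Matrix.trace_mul_comm, ← mm_mul (inv_mem hh) (mul_mem hh hy),
    inv_mul_cancel_left]

/-! ### letters that stand for stored matrices -/

/-- A tree of stored lists. -/
inductive PT where
  | leaf : PMat → PT
  | node : PT → PT → PT

/-- Look up by the binary digits. -/
noncomputable def PT.get (t : PT) : ℕ → PMat :=
  PT.rec (fun v _ => v) (fun _ _ gl gr k => cond (Nat.beq (Nat.land k 1) 0) (gl (k / 2)) (gr (k / 2))) t

/-- The stored matrix of an extended letter. -/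
noncomputable def gk (D : PT) (k : ℕ) : PMat := cond (Nat.blt k 30) (gens.getD k []) (D.get (k - 30))

/-- The matrix of an extended letter. -/
noncomputable def Mx (D : PT) (k : ℕ) : Mat14 := (sMat (sparse (gk D k))).submatrix ix ix

theorem Mx_low (D : PT) {k : ℕ} (hk : k < 30) : Mx D k = mat k := by
  unfold Mx mat gk
  rw [Nat.blt_eq.mpr hk, cond_true]

theorem Mx_word (D : PT) {w : List ℕ} (h : okW w = true) : (w.map (Mx D)).prod = mm (ev w) := by
  rw [mm_ev h]
  exact congrArg List.prod (List.map_congr_left fun g hg => Mx_low D ((okW_iff.mp h g hg).trans (by norm_num)))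

/-- The value of an extended word. -/
noncomputable def evalX (D : PT) : List ℕ → Option (List ℕ)
  | [] => some LyG2MatCore64.idP
  | k :: ks => match evalX D ks with
    | none => none
    | some X => cond (rowsOk (gk D k)) (LyG2MatCore64.step (gk D k) X) none

theorem evalX_sound (D : PT) : ∀ (w : List ℕ) (Y : List ℕ), evalX D w = some Y →
    LyG2MatCore64.AllSmall Y ∧ (pMat Y).submatrix ix ix = (w.map (Mx D)).prod := by
  intro w
  induction w with
  | nil =>
    intro Y h
    simp only [evalX, Option.some.injEq] at h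
    subst h
    refine ⟨fun c hc j hj => ?_, by simp [LyG2MatCore64.pMat_id, Matrix.submatrix_one_equiv]⟩
    rw [LyG2MatCore64.idP_facts c hc j hj]; split <;> norm_num
  | cons k ks ih =>
    intro Y h
    simp only [evalX] at h
    cases h1 : evalX D ks with
    | none => simp [h1] at h
    | some X =>
      simp only [h1] at h
      cases hr : rowsOk (gk D k) with
      | false => simp [hr] at h
      | true =>
        rw [hr, cond_true] at h
        obtain ⟨hX, hp⟩ := ih X h1
        obtain ⟨hY, hq⟩ := LyG2MatCore64.step_sound hr hX h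
        refine ⟨hY, ?_⟩
        rw [hq, List.map_cons, List.prod_cons, ← hp, Mx, Matrix.submatrix_mul_equiv]

/-- Two extended words have the same matrix. -/
noncomputable def chk (D : PT) (v w : List ℕ) : Bool :=
  match evalX D v, evalX D w with
  | some X, some Y => X == Y
  | _, _ => false

theorem chk_sound {D : PT} {v w : List ℕ} (h : chk D v w = true) :
    (v.map (Mx D)).prod = (w.map (Mx D)).prod := by
  unfold chk at h
  split at h
  · rename_i X Y h1 h2
    rw [beq_iff_eq] at h
    rw [← (evalX_sound D v X h1).2, ← (evalX_sound D w Y h2).2, h]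
  · exact absurd h (by simp)

/-- An entry of a packed matrix. -/
def ent (M : PMat) (i k : ℕ) : ℕ := Nat.land (Nat.shiftRight (M.getD i 0) (3 * k)) 7

theorem unpack_val : ∀ (n : ℕ) (col r k : ℕ),
    LyG2MatCore64.rowVal (LyG2MatCore64.unpack n col r) k =
      if col ≤ k ∧ k < col + n then ((Nat.land (Nat.shiftRight r (3 * (k - col))) 7 : ℕ) : ZMod 5) else 0 := by
  intro n
  induction n with
  | zero => intro col r k; rw [if_neg (by omega)]; simp [LyG2MatCore64.unpack, LyG2MatCore64.rowVal]
  | succ n ih =>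
    intro col r k
    have e : LyG2MatCore64.rowVal (LyG2MatCore64.unpack (n + 1) col r) k = (if col = k then ((Nat.land r 7 : ℕ) : ZMod 5) else 0) +
        LyG2MatCore64.rowVal (LyG2MatCore64.unpack n (col + 1) (Nat.shiftRight r 3)) k := by
      simp [LyG2MatCore64.unpack, LyG2MatCore64.rowVal]
    rw [e, ih]
    rcases Nat.lt_trichotomy col k with h | rfl | h
    · rw [if_neg (by omega), zero_add]
      by_cases hk : k < col + (n + 1)
      · rw [if_pos (by omega), if_pos (by omega)]
        congr 2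
        show (r >>> 3) >>> (3 * (k - (col + 1))) = r >>> (3 * (k - col))
        rw [← Nat.shiftRight_add]
        congr 1
        omega
      · rw [if_neg (by omega), if_neg (by omega)]
    · rw [if_pos rfl, if_neg (by omega), if_pos (by omega), add_zero, Nat.sub_self]
      rfl
    · rw [if_neg (by omega), if_neg (by omega), if_neg (by omega), zero_add]

theorem sMat_ent (M : PMat) (i k : Fin 14) : sMat (sparse M) i k = (ent M i.1 k.1 : ZMod 5) := by
  show LyG2MatCore64.rowVal ((sparse M).getD i.1 []) k.1 = _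
  unfold sparse ent
  rcases Nat.lt_or_ge i.1 M.length with h | h
  · rw [List.getD_eq_getElem _ _ (by simpa using h), List.getElem_map, unpack_val, if_pos (by omega),
      List.getD_eq_getElem _ _ h, Nat.sub_zero]
  · rw [List.getD_eq_default _ _ (by simpa using h), List.getD_eq_default _ _ h]
    simp [LyG2MatCore64.rowVal, show Nat.shiftRight 0 (3 * k.1) = 0 from Nat.zero_shiftRight _,
      show Nat.land 0 7 = 0 from rfl]

/-- The code of a few entries of a matrix. -/
def code (pos : List (ℕ × ℕ)) (M : Matrix (Fin 14) (Fin 14) (ZMod 5)) : ℕ :=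
  pos.foldl (fun a p => 5 * a + if h : p.1 < 14 ∧ p.2 < 14 then (M ⟨p.1, h.1⟩ ⟨p.2, h.2⟩).val else 0) 0

/-- The code read from the stored matrix. -/
def codeM (pos : List (ℕ × ℕ)) (M : PMat) : ℕ :=
  pos.foldl (fun a p => 5 * a + ent M p.1 p.2 % 5) 0

/-- The code of a stored matrix. -/
noncomputable def keyOk (D : PT) (pos : List (ℕ × ℕ)) (k v : ℕ) : Bool :=
  (pos.all fun p => Nat.blt p.1 14 && Nat.blt p.2 14) && Nat.beq (codeM pos (gk D k)) v

theorem keyOk_sound {D : PT} {pos : List (ℕ × ℕ)} {k v : ℕ} (h : keyOk D pos k v = true) :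
    code pos ((Mx D k).submatrix ix.symm ix.symm) = v := by
  simp only [keyOk, Bool.and_eq_true, List.all_eq_true, Nat.blt_eq, Nat.beq_eq] at h
  obtain ⟨hpos, h⟩ := h
  rw [← h]
  have e : (Mx D k).submatrix ix.symm ix.symm = sMat (sparse (gk D k)) := by
    ext i j; simp [Mx]
  rw [e]
  unfold code codeM
  suffices H : ∀ l : List (ℕ × ℕ), (∀ p ∈ l, p.1 < 14 ∧ p.2 < 14) → ∀ a, l.foldl (fun a p => 5 * a +
      if h : p.1 < 14 ∧ p.2 < 14 then (sMat (sparse (gk D k)) ⟨p.1, h.1⟩ ⟨p.2, h.2⟩).val else 0) a =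
      l.foldl (fun a p => 5 * a + ent (gk D k) p.1 p.2 % 5) a from H pos hpos 0
  intro l
  induction l with
  | nil => simp
  | cons p l ih =>
    intro hl a
    rw [List.foldl_cons, List.foldl_cons, ih fun q hq => hl q (List.mem_cons_of_mem _ hq),
      dif_pos (hl p List.mem_cons_self), sMat_ent, ZMod.val_natCast]

/-- The trace of a stored matrix. -/
def trM (M : PMat) : ℕ := ((List.range 14).map fun i => ent M i i).sum % 5

theorem trM_sound (D : PT) (k : ℕ) : Matrix.trace (Mx D k) = (trM (gk D k) : ZMod 5) := by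
  rw [trM, ZMod.natCast_mod, Nat.cast_list_sum, List.map_map]
  have e : Matrix.trace (Mx D k) = ∑ i : Fin 14, sMat (sparse (gk D k)) i i :=
    Equiv.sum_comp ix fun i => sMat (sparse (gk D k)) i i
  rw [e]
  simp only [sMat_ent, Fin.sum_univ_def]
  simp [List.range_succ, List.finRange]

/-! ### products by one multiplication for each column -/

/-- Base of the lanes. -/
abbrev B16 : ℕ := 2 ^ 16

/-- The number with given lanes. -/
def lanes : ℕ → (ℕ → ℕ) → ℕ
  | 0, _ => 0
  | n + 1, f => f 0 + B16 * lanes n fun i => f (i + 1)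

theorem lanes_sum : ∀ (n : ℕ) (f : ℕ → ℕ), lanes n f = ∑ i ∈ Finset.range n, f i * B16 ^ i := by
  intro n
  induction n with
  | zero => intro f; simp [lanes]
  | succ n ih =>
    intro f
    rw [lanes, ih, Finset.sum_range_succ', Finset.mul_sum, add_comm, pow_zero, mul_one]
    congr 1
    exact Finset.sum_congr rfl fun i _ => by rw [pow_succ]; ring

theorem lanes_inj : ∀ (n : ℕ) {f g : ℕ → ℕ}, (∀ i < n, f i < B16) → (∀ i < n, g i < B16) →
    lanes n f = lanes n g → ∀ i < n, f i = g i := by
  intro n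
  induction n with
  | zero => intros; omega
  | succ n ih =>
    intro f g hf hg e i hi
    simp only [lanes] at e
    have h0 : f 0 = g 0 := by
      have := congrArg (· % B16) e
      simpa [Nat.add_mul_mod_self_left, Nat.mod_eq_of_lt (hf 0 (by omega)), Nat.mod_eq_of_lt (hg 0 (by omega))]
        using this
    rw [h0, Nat.add_left_cancel_iff] at e
    have e' := Nat.eq_of_mul_eq_mul_left (Nat.two_pow_pos 16) e
    cases i with
    | zero => exact h0
    | succ i => exact ih (fun j hj => hf (j + 1) (by omega)) (fun j hj => hg (j + 1) (by omega)) e' i (by omega)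

theorem lanes_digits : ∀ (n x : ℕ), x < B16 ^ n → x = lanes n fun i => x / B16 ^ i % B16 := by
  intro n
  induction n with
  | zero => intro x hx; simp [lanes] at *; omega
  | succ n ih =>
    intro x hx
    have h := ih (x / B16) (by rw [Nat.div_lt_iff_lt_mul (Nat.two_pow_pos 16), ← pow_succ]; exact hx)
    simp only [lanes, pow_zero, Nat.div_one]
    have e : (fun i => x / B16 ^ (i + 1) % B16) = fun i => x / B16 / B16 ^ i % B16 := by
      funext i; rw [Nat.div_div_eq_div_mul, pow_succ']
    rw [e, ← h]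
    exact (Nat.mod_add_div x B16).symm

attribute [irreducible] lanes

/-- The rows of a matrix, as numbers with 14 lanes. -/
def rowN (M : PMat) (k : ℕ) : ℕ := lanes 14 fun j => ent M k j

/-- The columns of a matrix, as numbers with one lane in each block of 14. -/
def colN (M : PMat) (k : ℕ) : ℕ := ((List.range 14).map fun i => ent M i k * 2 ^ (224 * i)).sum

/-- The mask of the six low bits of the lanes. -/
def M8 : ℕ := lanes 196 fun _ => 63

/-- Quotients by five, of no importance for soundness. -/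
def quo (S : ℕ) : ℕ := Nat.land (Nat.shiftRight (S * 205) 10) M8

/-- The sum of the lanes of a product. -/
noncomputable def dot : List ℕ → List ℕ → ℕ :=
  List.rec (motive := fun _ => List ℕ → ℕ) (fun _ => 0) fun c _ ih R =>
    match R with
    | [] => 0
    | r :: R' => c * r + ih R'

/-- A stored matrix by its rows and its columns. -/
noncomputable def repOk (D R C : PT) (k : ℕ) : Bool :=
  (R.get k == (List.range 14).map (rowN (gk D (30 + k)))) && (C.get k == (List.range 14).map (colN (gk D (30 + k))))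

/-- The products `a b` and `c d` of stored matrices agree modulo five. -/
noncomputable def prodEq (R C : PT) (a b c d : ℕ) : Bool :=
  LyG2MatCore64.force (dot (C.get a) (R.get b)) fun S =>
    LyG2MatCore64.force (dot (C.get c) (R.get d)) fun S' =>
      Nat.beq (S + 5 * quo S') (S' + 5 * quo S)

theorem dot_map (f g : ℕ → ℕ) : ∀ l : List ℕ, dot (l.map f) (l.map g) = (l.map fun k => f k * g k).sum := by
  intro l
  induction l with
  | nil => rfl
  | cons a l ih => simp only [List.map_cons, List.sum_cons, ← ih]; rfl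

/-- A lane of the product of two stored matrices. -/
def pl (X Y : PMat) (t : ℕ) : ℕ := ∑ k ∈ Finset.range 14, ent X (t / 14) k * ent Y k (t % 14)

theorem ent_le (M : PMat) (i k : ℕ) : ent M i k ≤ 7 := Nat.and_le_right

theorem pl_le (X Y : PMat) (t : ℕ) : pl X Y t ≤ 686 := by
  refine (Finset.sum_le_card_nsmul _ _ 49 fun k _ => ?_).trans (by simp)
  exact (Nat.mul_le_mul (ent_le _ _ _) (ent_le _ _ _)).trans (by norm_num)

theorem quo_lanes (S : ℕ) : ∃ g : ℕ → ℕ, quo S = lanes 196 g ∧ ∀ i, g i ≤ 255 := by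
  refine ⟨fun i => quo S / B16 ^ i % B16, lanes_digits _ _ ?_, fun i => ?_⟩
  · exact lt_of_le_of_lt Nat.and_le_right (by decide +kernel)
  · show (Nat.land _ M8) / B16 ^ i % B16 ≤ 255
    rw [show ∀ a b, Nat.land a b = a &&& b from fun _ _ => rfl, show B16 ^ i = 2 ^ (16 * i) by rw [pow_mul],
      ← Nat.shiftRight_eq_div_pow, Nat.shiftRight_and_distrib, Nat.and_mod_two_pow]
    refine Nat.and_le_right.trans ?_
    rw [Nat.shiftRight_eq_div_pow]
    rcases Nat.lt_or_ge i 196 with hi | hi
    · have h : (List.range 196).all (fun i => Nat.ble (M8 / 2 ^ (16 * i) % 2 ^ 16) 255) = true := by decide +kernel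
      exact Nat.ble_eq.mp (List.all_eq_true.mp h i (List.mem_range.mpr hi))
    · rw [Nat.div_eq_of_lt (lt_of_lt_of_le (show M8 < 2 ^ (16 * 196) by decide +kernel)
        (Nat.pow_le_pow_right (by norm_num) (by omega)))]
      norm_num

theorem dot_lanes {D R C : PT} {a b : ℕ} (ha : repOk D R C a = true) (hb : repOk D R C b = true) :
    dot (C.get a) (R.get b) = lanes 196 (pl (gk D (30 + a)) (gk D (30 + b))) := by
  simp only [repOk, Bool.and_eq_true, beq_iff_eq] at ha hb
  rw [ha.2, hb.1, dot_map, lanes_sum]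
  set X := gk D (30 + a)
  set Y := gk D (30 + b)
  have hsum : ∀ (n : ℕ) (f : ℕ → ℕ), ((List.range n).map f).sum = ∑ k ∈ Finset.range n, f k := by
    intro n f
    induction n with
    | zero => simp
    | succ n ih => rw [List.range_succ, List.map_append, List.sum_append, ih, Finset.sum_range_succ]; simp
  simp only [colN, rowN, lanes_sum, hsum]
  rw [show (196 : ℕ) = 14 * 14 from rfl]
  have hblk : ∀ (F : ℕ → ℕ) (m : ℕ), ∑ t ∈ Finset.range (14 * m), F t =
      ∑ i ∈ Finset.range m, ∑ j ∈ Finset.range 14, F (14 * i + j) := by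
    intro F m
    induction m with
    | zero => simp
    | succ m ih => rw [Nat.mul_succ, Finset.sum_range_add, ih, Finset.sum_range_succ (n := m) (fun i => ∑ j ∈ Finset.range 14, F (14 * i + j))]
  rw [hblk]
  simp only [Finset.sum_mul_sum]
  rw [Finset.sum_comm]
  refine Finset.sum_congr rfl fun i _ => ?_
  rw [Finset.sum_comm]
  refine Finset.sum_congr rfl fun j hj => ?_
  have hj' : j < 14 := Finset.mem_range.mp hj
  rw [pl, Finset.sum_mul, show (14 * i + j) / 14 = i by omega, show (14 * i + j) % 14 = j by omega]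
  refine Finset.sum_congr rfl fun k _ => ?_
  rw [pow_add, show (2 : ℕ) ^ (224 * i) = B16 ^ (14 * i) by rw [← pow_mul]; ring_nf]
  ring

theorem prodEq_sound {D R C : PT} {a b c d : ℕ} (h : prodEq R C a b c d = true)
    (ha : repOk D R C a = true) (hb : repOk D R C b = true) (hc : repOk D R C c = true)
    (hd : repOk D R C d = true) : Mx D (30 + a) * Mx D (30 + b) = Mx D (30 + c) * Mx D (30 + d) := by
  simp only [prodEq, LyG2MatCore64.force_eq, Nat.beq_eq, dot_lanes ha hb, dot_lanes hc hd] at h
  set f := pl (gk D (30 + a)) (gk D (30 + b))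
  set g := pl (gk D (30 + c)) (gk D (30 + d))
  obtain ⟨q, hq, hq'⟩ := quo_lanes (lanes 196 f)
  obtain ⟨r, hr, hr'⟩ := quo_lanes (lanes 196 g)
  rw [hq, hr] at h
  have e : ∀ u v : ℕ → ℕ, lanes 196 u + 5 * lanes 196 v = lanes 196 fun i => u i + 5 * v i := fun u v => by
    simp only [lanes_sum, Finset.mul_sum, ← Finset.sum_add_distrib]
    exact Finset.sum_congr rfl fun i _ => by ring
  rw [e, e] at h
  have hf : ∀ i, f i ≤ 686 := pl_le _ _
  have hg : ∀ i, g i ≤ 686 := pl_le _ _
  have key := lanes_inj 196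
    (fun i _ => by have := hf i; have := hr' i; simp only [B16]; omega)
    (fun i _ => by have := hg i; have := hq' i; simp only [B16]; omega) h
  simp only [Mx, Matrix.submatrix_mul_equiv]
  refine congrArg (fun Z : Matrix (Fin 14) (Fin 14) (ZMod 5) => Z.submatrix ix ix) ?_
  ext i j
  have h2 := congrArg (fun t : ℕ => (t : ZMod 5)) (key (14 * i.1 + j.1) (by have := i.2; have := j.2; omega))
  have h5 : ((5 : ℕ) : ZMod 5) = 0 := by decide
  simp only [Nat.cast_add, Nat.cast_mul, h5, zero_mul, add_zero] at h2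
  have hpl : ∀ X Y : PMat, (sMat (sparse X) * sMat (sparse Y)) i j = (pl X Y (14 * i.1 + j.1) : ZMod 5) := by
    intro X Y
    rw [Matrix.mul_apply, pl, show (14 * i.1 + j.1) / 14 = i.1 by omega,
      show (14 * i.1 + j.1) % 14 = j.1 by omega, Nat.cast_sum,
      ← Fin.sum_univ_eq_sum_range (fun k => ((ent X i.1 k * ent Y k j.1 : ℕ) : ZMod 5))]
    exact Finset.sum_congr rfl fun k _ => by rw [sMat_ent, sMat_ent, Nat.cast_mul]
  rw [hpl, hpl]
  exact h2

/-- All entries are different. -/
noncomputable def distinct : List ℕ → Bool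
  | [] => true
  | a :: l => (l.all fun b => !Nat.beq a b) && distinct l

theorem distinct_sound : ∀ {l : List ℕ}, distinct l = true → l.Nodup
  | [], _ => List.nodup_nil
  | a :: l, h => by
    simp only [distinct, Bool.and_eq_true, List.all_eq_true, Bool.not_eq_true'] at h
    refine List.nodup_cons.mpr ⟨fun ha => ?_, distinct_sound h.2⟩
    have := h.1 a ha
    simp at this

theorem keys_inj {D : PT} {pos : List (ℕ × ℕ)} {o : ℕ} {K : List ℕ}
    (hk : ∀ i < K.length, keyOk D pos (o + i) (K.getD i 0) = true) (hd : distinct K = true)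
    {i j : ℕ} (hi : i < K.length) (hj : j < K.length) (e : Mx D (o + i) = Mx D (o + j)) : i = j := by
  have h1 := keyOk_sound (hk i hi)
  have h2 := keyOk_sound (hk j hj)
  rw [e, h2, List.getD_eq_getElem _ _ hi, List.getD_eq_getElem _ _ hj] at h1
  exact ((distinct_sound hd).getElem_inj_iff.mp h1).symm

/-! ### the certificate -/

/-- A word in the generators of a certificate. -/
def gw (G : List (List ℕ)) (s : List ℕ) : List ℕ := (s.map fun i => G.getD i []).flatten

/-- A closed list of conjugates of an element and a Sylow subgroup, with their matrices. -/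
structure Cls where
  /-- generators of the subgroup -/
  G : List (List ℕ)
  /-- the element, as indices of generators -/
  ti : List ℕ
  /-- number of conjugates -/
  n : ℕ
  /-- stored matrices: generators, conjugates, Sylow subgroup -/
  D : PT
  /-- rows of the stored matrices -/
  R : PT
  /-- columns of the stored matrices -/
  Co : PT
  /-- images of the conjugates under the generators -/
  E : PT
  /-- parents in a spanning tree -/
  par : List (ℕ × ℕ)
  /-- entries that tell the conjugates apart -/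
  pos : List (ℕ × ℕ)
  /-- their codes -/
  K : List ℕ
  /-- elements of the Sylow subgroup as indices of generators -/
  S : List (List ℕ)
  /-- multiplication table -/
  mt : List (List ℕ)
  /-- entries that tell its elements apart -/
  pos2 : List (ℕ × ℕ)
  /-- their codes -/
  K2 : List ℕ
  /-- what each element is: `0` the identity, `i + 1` the conjugate `i`, `n + 1` of another trace -/
  kind : List ℕ

/-- The word of the element. -/
def Cls.T (C : Cls) : List ℕ := gw C.G C.ti
/-- The first stored conjugate. -/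
def Cls.oc (C : Cls) : ℕ := 30 + C.G.length
/-- The first stored Sylow element. -/
def Cls.os (C : Cls) : ℕ := 30 + C.G.length + C.n

/-- The stored matrices have the stored rows and columns. -/
noncomputable def Cls.repsOk (C : Cls) : Bool :=
  (List.range (C.G.length + C.n + C.S.length)).all fun k => repOk C.D C.R C.Co k

/-- The test of the list of conjugates. -/
noncomputable def Cls.clsOk (C : Cls) : Bool :=
  C.G.all okW && (C.ti.all fun i => Nat.blt i C.G.length) && Nat.blt 0 C.n &&
    ((List.range C.G.length).all fun a => chk C.D (C.G.getD a []) [30 + a]) && chk C.D (C.ti.map (30 + ·)) [C.oc] &&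
    ((List.range C.n).all fun i => (List.range C.G.length).all fun a =>
      Nat.blt ((C.E.get i).getD a 0) C.n &&
        prodEq C.R C.Co a (C.G.length + i) (C.G.length + (C.E.get i).getD a 0) a) &&
    ((List.range C.n).all fun j => Nat.beq j 0 || (Nat.blt (C.par.getD j (0, 0)).1 j &&
      Nat.blt (C.par.getD j (0, 0)).2 C.G.length &&
        Nat.beq ((C.E.get (C.par.getD j (0, 0)).1).getD (C.par.getD j (0, 0)).2 0) j)) &&
    Nat.beq C.K.length C.n && ((List.range C.n).all fun i => keyOk C.D C.pos (C.oc + i) (C.K.getD i 0)) &&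
    distinct C.K && C.repsOk

/-- The test of the Sylow subgroup. -/
noncomputable def Cls.sylOk (C : Cls) : Bool :=
  (C.S.all fun s => s.all fun i => Nat.blt i C.G.length) && Nat.beq C.kind.length C.S.length &&
    Nat.beq C.K2.length C.S.length && ((List.range C.S.length).any fun a => (C.S.getD a [0]).isEmpty) &&
    ((List.range C.S.length).all fun a => keyOk C.D C.pos2 (C.os + a) (C.K2.getD a 0) &&
      chk C.D ((C.S.getD a []).map (30 + ·)) [C.os + a] &&
      ((List.range C.S.length).all fun b => Nat.blt ((C.mt.getD a []).getD b 0) C.S.length &&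
        chk C.D [C.os + a, C.os + b] [C.os + (C.mt.getD a []).getD b 0]) &&
      (cond (Nat.beq (C.kind.getD a 0) 0) ((C.S.getD a [0]).isEmpty)
        (cond (Nat.ble (C.kind.getD a 0) C.n) (chk C.D [C.os + a] [C.oc + (C.kind.getD a 0 - 1)])
          (!Nat.beq (trM (gk C.D C.oc)) (trM (gk C.D (C.os + a))))))) &&
    distinct C.K2

/-- The group generated by the generators of a certificate. -/
noncomputable def Cls.grp (C : Cls) : Subgroup L := Subgroup.closure (ev '' {w | w ∈ C.G})

theorem gw_ok {G : List (List ℕ)} (hG : G.all okW = true) {s : List ℕ} (hs : ∀ i ∈ s, i < G.length) :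
    okW (gw G s) = true := by
  rw [okW_iff]
  intro j hj
  simp only [gw, List.mem_flatten, List.mem_map] at hj
  obtain ⟨l, ⟨i, hi, rfl⟩, hjl⟩ := hj
  have hm : G.getD i [] ∈ G := by rw [List.getD_eq_getElem _ _ (hs i hi)]; exact List.getElem_mem _
  exact okW_iff.mp (List.all_eq_true.mp hG _ hm) j hjl

theorem gw_mem {G : List (List ℕ)} {s : List ℕ} (hs : ∀ i ∈ s, i < G.length) :
    ev (gw G s) ∈ Subgroup.closure (ev '' {w | w ∈ G}) := by
  induction s with
  | nil => simp [gw, ev_nil]
  | cons i s ih =>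
    rw [show gw G (i :: s) = G.getD i [] ++ gw G s from rfl, ev_append]
    refine mul_mem (Subgroup.subset_closure ⟨_, ?_, rfl⟩) (ih fun j hj => hs j (List.mem_cons_of_mem _ hj))
    rw [List.getD_eq_getElem _ _ (hs i List.mem_cons_self)]
    exact List.getElem_mem _

theorem grp_le {C : Cls} (hG : C.G.all okW = true) : C.grp ≤ HLy := by
  rw [Cls.grp, Subgroup.closure_le]
  rintro _ ⟨w, hw, rfl⟩
  exact ev_H (List.all_eq_true.mp hG w hw)

/-- The conjugates under the subgroup are the stored matrices. -/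
theorem class_spec {C : Cls} (h : C.clsOk = true) :
    ∃ f : Fin C.n → L, Function.Injective f ∧ (∀ i, f i ∈ C.grp ∧ mm (f i) = Mx C.D (C.oc + i.1)) ∧
      (∀ i, ∃ s ∈ C.grp, f i = s * ev C.T * s⁻¹) ∧
      (∀ s : List ℕ, (∀ a ∈ s, a < C.G.length) → mm (ev (gw C.G s)) = ((s.map (30 + ·)).map (Mx C.D)).prod) ∧
      mm (ev C.T) = Mx C.D C.oc ∧ ∀ s ∈ C.grp, ∃ i, f i = s * ev C.T * s⁻¹ := by
  simp only [Cls.clsOk, Bool.and_eq_true, List.all_eq_true, List.mem_range, Nat.blt_eq, Nat.beq_eq,
    Bool.or_eq_true] at h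
  obtain ⟨⟨⟨⟨⟨⟨⟨⟨⟨⟨hG, hti⟩, hn⟩, hgv⟩, hT⟩, hE⟩, hpar⟩, hKl⟩, hK⟩, hd⟩, hrep⟩ := h
  simp only [Cls.repsOk, List.all_eq_true, List.mem_range] at hrep
  have hG' : C.G.all okW = true := List.all_eq_true.mpr hG
  have hle := grp_le hG'
  have hTok : okW C.T = true := gw_ok hG' hti
  have hgmem : ∀ a < C.G.length, ev (C.G.getD a []) ∈ C.grp := fun a ha =>
    Subgroup.subset_closure ⟨_, by rw [List.getD_eq_getElem _ _ ha]; exact List.getElem_mem _, rfl⟩
  have hgok : ∀ a < C.G.length, okW (C.G.getD a []) = true := fun a ha =>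
    hG _ (by rw [List.getD_eq_getElem _ _ ha]; exact List.getElem_mem _)
  have hgm : ∀ a < C.G.length, mm (ev (C.G.getD a [])) = Mx C.D (30 + a) := fun a ha => by
    rw [← Mx_word C.D (hgok a ha), chk_sound (hgv a ha)]
    simp
  have hval : ∀ s : List ℕ, (∀ a ∈ s, a < C.G.length) →
      mm (ev (gw C.G s)) = ((s.map (30 + ·)).map (Mx C.D)).prod := by
    intro s
    induction s with
    | nil => intro _; simp [gw, ev_nil, mm_one]
    | cons a s ih =>
      intro hs
      have ha := hs a List.mem_cons_self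
      have hs' := fun b hb => hs b (List.mem_cons_of_mem _ hb)
      rw [show gw C.G (a :: s) = C.G.getD a [] ++ gw C.G s from rfl, ev_append,
        mm_mul (ev_H (hgok a ha)) (ev_H (gw_ok hG' hs')), hgm a ha, ih hs']
      simp
  have hmT : mm (ev C.T) = Mx C.D C.oc := by
    rw [show C.T = gw C.G C.ti from rfl, hval _ hti, chk_sound hT]
    simp
  have hstep : ∀ i < C.n, ∀ a < C.G.length, ∀ y ∈ C.grp, mm y = Mx C.D (C.oc + i) →
      mm (ev (C.G.getD a []) * y * (ev (C.G.getD a []))⁻¹) = Mx C.D (C.oc + (C.E.get i).getD a 0) := by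
    intro i hi a ha y hy hmy
    have hj := (hE i hi a ha).1
    have e := prodEq_sound (D := C.D) (hE i hi a ha).2 (hrep a (by omega)) (hrep _ (by omega)) (hrep _ (by omega))
      (hrep a (by omega))
    rw [show 30 + (C.G.length + i) = C.oc + i by simp only [Cls.oc]; omega,
      show 30 + (C.G.length + (C.E.get i).getD a 0) = C.oc + (C.E.get i).getD a 0 by simp only [Cls.oc]; omega] at e
    have hg := hle (hgmem a ha)
    refine mm_cancel hg ?_
    rw [← mm_mul (mul_mem (mul_mem hg (hle hy)) (inv_mem hg)) hg, inv_mul_cancel_right, mm_mul hg (hle hy),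
      hgm a ha, hmy, e]
  have hex : ∀ j, j < C.n → ∃ s ∈ C.grp, mm (s * ev C.T * s⁻¹) = Mx C.D (C.oc + j) := by
    intro j
    induction j using Nat.strong_induction_on with
    | _ j ih =>
      intro hj
      rcases hpar j hj with rfl | ⟨⟨h1, h2⟩, h3⟩
      · refine ⟨1, one_mem _, ?_⟩
        rw [one_mul, inv_one, mul_one, hmT]
        simp
      · obtain ⟨s, hs, hms⟩ := ih _ h1 (h1.trans hj)
        refine ⟨ev (C.G.getD (C.par.getD j (0, 0)).2 []) * s, mul_mem (hgmem _ h2) hs, ?_⟩
        have := hstep _ (h1.trans hj) _ h2 _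
          (mul_mem (mul_mem hs (gw_mem hti)) (inv_mem hs)) hms
        rw [h3] at this
        rw [← this]
        congr 1
        simp only [Cls.T]
        group
  choose s hs hms using fun i : Fin C.n => hex i.1 i.2
  let f : Fin C.n → L := fun i => s i * ev C.T * (s i)⁻¹
  have hf : ∀ i, f i ∈ C.grp ∧ mm (f i) = Mx C.D (C.oc + i.1) := fun i =>
    ⟨mul_mem (mul_mem (hs i) (gw_mem hti)) (inv_mem (hs i)), hms i⟩
  have hinj : Function.Injective f := fun i j e => by
    refine Fin.ext (keys_inj (D := C.D) (pos := C.pos) (fun k hk => hK k (hKl ▸ hk)) hd ?_ ?_ ?_)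
    · rw [hKl]; exact i.2
    · rw [hKl]; exact j.2
    · rw [← (hf i).2, ← (hf j).2, e]
  refine ⟨f, hinj, hf, fun i => ⟨s i, hs i, rfl⟩, hval, hmT, ?_⟩
  have h0 : ∃ i, f i = ev C.T := ⟨⟨0, hn⟩, mm_inj (hle (hf _).1) (ev_H hTok)
    (by rw [(hf _).2, hmT]; simp)⟩
  have main : ∀ g ∈ C.grp, Set.MapsTo (fun y => g * y * g⁻¹) (Set.range f) (Set.range f) := by
    intro g hg
    induction hg using Subgroup.closure_induction with
    | mem x hx =>
      obtain ⟨w, hw, rfl⟩ := hx
      obtain ⟨a, ha, rfl⟩ := List.getElem_of_mem hw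
      rintro _ ⟨i, rfl⟩
      have e := hstep i.1 i.2 a ha (f i) (hf i).1 (hf i).2
      rw [List.getD_eq_getElem _ _ ha] at e
      refine ⟨⟨_, (hE i.1 i.2 a ha).1⟩, mm_inj (hle (hf _).1) ?_ ((hf _).2.trans e.symm)⟩
      have := hle (hgmem a ha)
      rw [List.getD_eq_getElem _ _ ha] at this
      exact mul_mem (mul_mem this (hle (hf i).1)) (inv_mem this)
    | one => intro y hy; simpa using hy
    | mul x y _ _ hx hy =>
      intro z hz
      have : x * y * z * (x * y)⁻¹ = x * (y * z * y⁻¹) * x⁻¹ := by group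
      simp only [this]
      exact hx (hy hz)
    | inv x _ hx =>
      intro z hz
      have hsurj := ((Set.finite_range f).injOn_iff_bijOn_of_mapsTo hx).mp
        (fun a _ b _ e => mul_left_cancel (mul_right_cancel e))
      obtain ⟨z', hz', rfl⟩ := hsurj.surjOn hz
      have : x⁻¹ * (x * z' * x⁻¹) * x⁻¹⁻¹ = z' := by group
      simp only [this]
      exact hz'
  intro g hg
  obtain ⟨i, hi⟩ := main g hg h0
  exact ⟨i, hi⟩

/-- The number of conjugates under G2(5) inside the subgroup. -/
theorem count {C : Cls} (h : C.clsOk = true) (h2 : C.sylOk = true) {m : ℕ}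
    (hcard : Nat.card C.grp = C.S.length * m) (hm : ¬ 3 ∣ m) {k : ℕ} (hk : C.S.length = 3 ^ k)
    {x : L} (hx : x ∈ HLy) (hx3 : x ^ 3 = 1) (hx1 : x ≠ 1)
    {w : List ℕ} (hw : okW w = true) (hwx : ev w * x = ev C.T * ev w) :
    {y : L | y ∈ C.grp ∧ ∃ g ∈ HLy, y = g * x * g⁻¹}.ncard = C.n ∧
      ∀ y ∈ C.grp, (∃ g ∈ HLy, y = g * x * g⁻¹) → ∃ s ∈ C.grp, y = s * ev C.T * s⁻¹ := by
  obtain ⟨f, hinj, hf, hfs, hval, hmT, hfall⟩ := class_spec h
  have h' := h
  simp only [Cls.clsOk, Bool.and_eq_true, List.all_eq_true, Nat.blt_eq] at h'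
  have hG' : C.G.all okW = true := List.all_eq_true.mpr h'.1.1.1.1.1.1.1.1.1.1
  have hti : ∀ i ∈ C.ti, i < C.G.length := h'.1.1.1.1.1.1.1.1.1.2
  have hle := grp_le hG'
  have hT : ev C.T = ev w * x * (ev w)⁻¹ := by rw [hwx, mul_inv_cancel_right]
  have key : ∀ y ∈ C.grp, (∃ g ∈ HLy, y = g * x * g⁻¹) → ∃ i, f i = y := by
    rintro y hy ⟨g, hg, rfl⟩
    simp only [Cls.sylOk, Bool.and_eq_true, List.all_eq_true, List.any_eq_true, List.mem_range,
      Nat.blt_eq, Nat.beq_eq] at h2
    obtain ⟨⟨⟨⟨⟨hS, -⟩, hK2⟩, ⟨a0, ha0, he0⟩⟩, hall⟩, hd⟩ := h2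
    have hSi : ∀ a < C.S.length, ∀ i ∈ C.S.getD a [], i < C.G.length := fun a ha =>
      hS _ (by rw [List.getD_eq_getElem _ _ ha]; exact List.getElem_mem _)
    let e : Fin C.S.length → L := fun a => ev (gw C.G (C.S.getD a.1 []))
    have hem : ∀ a, e a ∈ C.grp := fun a => gw_mem (hSi a.1 a.2)
    have hev : ∀ a, mm (e a) = Mx C.D (C.os + a.1) := fun a => by
      rw [hval _ (hSi a.1 a.2), chk_sound (hall a.1 a.2).1.1.2]
      simp
    have hmul : ∀ a b, ∃ c, e a * e b = e c := fun a b => by
      obtain ⟨hc, e'⟩ := (hall a.1 a.2).1.2 b.1 b.2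
      refine ⟨⟨_, hc⟩, mm_inj (mul_mem (hle (hem a)) (hle (hem b))) (hle (hem _)) ?_⟩
      rw [mm_mul (hle (hem a)) (hle (hem b)), hev, hev, hev]
      simpa using chk_sound e'
    have hone : ∃ a, e a = 1 := by
      refine ⟨⟨a0, ha0⟩, ?_⟩
      have : C.S.getD a0 [] = [] := by
        rw [List.getD_eq_getElem _ _ ha0] at he0 ⊢
        exact List.isEmpty_iff.mp he0
      show ev (gw C.G (C.S.getD a0 [])) = 1
      rw [this]
      exact ev_nil
    haveI : Finite C.grp := LyOrbitCount41.finite_le hle
    let M : Submonoid C.grp :=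
      { carrier := {z | ∃ a, (z : L) = e a}
        one_mem' := by obtain ⟨a, ha⟩ := hone; exact ⟨a, ha.symm⟩
        mul_mem' := by
          rintro u v ⟨a, ha⟩ ⟨b, hb⟩
          obtain ⟨c, hc⟩ := hmul a b
          exact ⟨c, by rw [Subgroup.coe_mul, ha, hb, hc]⟩ }
    let P : Subgroup C.grp :=
      { M with
        inv_mem' := fun {z} hz => by
          rw [(inv_eq_of_mul_eq_one_left (by rw [← pow_succ, Nat.sub_add_cancel (orderOf_pos z),
            pow_orderOf_eq_one]) : z⁻¹ = z ^ (orderOf z - 1))]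
          exact M.pow_mem hz _ }
    have heinj : Function.Injective e := fun a b he => by
      refine Fin.ext (keys_inj (D := C.D) (pos := C.pos2) (o := C.os) (K := C.K2)
        (fun i hi => (hall i (hK2 ▸ hi)).1.1.1) hd (by rw [hK2]; exact a.2) (by rw [hK2]; exact b.2) ?_)
      rw [← hev, ← hev, he]
    have hPcard : Nat.card P = C.S.length := by
      let r : Fin C.S.length → P := fun a => ⟨⟨e a, hem a⟩, a, rfl⟩
      have hr : Function.Bijective r :=
        ⟨fun a b h => heinj (congrArg (fun z : P => ((z : C.grp) : L)) h),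
          fun z => by
            obtain ⟨a, ha⟩ := z.2
            exact ⟨a, Subtype.ext (Subtype.ext ha.symm)⟩⟩
      rw [← Nat.card_congr (Equiv.ofBijective r hr), Nat.card_fin]
    haveI : Fact (Nat.Prime 3) := ⟨by norm_num⟩
    have hfac : (Nat.card C.grp).factorization 3 = k := by
      rw [hcard, hk, Nat.factorization_mul (pow_ne_zero _ (by norm_num)) (fun h => hm (by rw [h]; exact dvd_zero 3)),
        Finsupp.add_apply, Nat.factorization_pow, Nat.factorization_eq_zero_of_not_dvd hm]
      simp [Nat.Prime.factorization_self (by norm_num : Nat.Prime 3)]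
    let Q : Sylow 3 C.grp := Sylow.ofCard P (by rw [hPcard, hfac, hk])
    let z : C.grp := ⟨g * x * g⁻¹, hy⟩
    have hz3 : z ^ 3 = 1 := Subtype.ext (by
      show (g * x * g⁻¹) ^ 3 = 1
      rw [← MulAut.conj_apply, ← map_pow, hx3, map_one])
    have hzP : IsPGroup 3 (Subgroup.zpowers z) := by
      intro u
      obtain ⟨i, hi⟩ := Subgroup.mem_zpowers_iff.mp u.2
      refine ⟨1, Subtype.ext ?_⟩
      rw [pow_one, Subgroup.coe_pow, ← hi, ← zpow_natCast, ← zpow_mul, mul_comm, zpow_mul, zpow_natCast, hz3,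
        one_zpow, Subgroup.coe_one]
    obtain ⟨R, hR⟩ := hzP.exists_le_sylow
    obtain ⟨c, hc⟩ := MulAction.exists_smul_eq C.grp R Q
    have hzQ : c * z * c⁻¹ ∈ P := by
      show c * z * c⁻¹ ∈ (Q : Subgroup C.grp)
      rw [← hc, Sylow.coe_subgroup_smul, Subgroup.mem_pointwise_smul_iff_inv_smul_mem]
      simpa [MulAut.smul_def, mul_assoc] using hR (Subgroup.mem_zpowers z)
    obtain ⟨a, ha⟩ := hzQ
    have ha' : (c : L) * (g * x * g⁻¹) * (c : L)⁻¹ = e a := ha
    have hkind := (hall a.1 a.2).2
    rcases Nat.eq_zero_or_pos (C.kind.getD a.1 0) with h0 | h0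
    · exfalso
      rw [h0] at hkind
      simp only [Nat.beq_refl, cond_true] at hkind
      have : C.S.getD a.1 [] = [] := by
        rw [List.getD_eq_getElem _ _ a.2] at hkind ⊢
        exact List.isEmpty_iff.mp hkind
      have he : e a = 1 := by
        show ev (gw C.G (C.S.getD a.1 [])) = 1
        rw [this]
        exact ev_nil
      rw [he] at ha'
      apply hx1
      have := congrArg (fun u => g⁻¹ * ((c : L)⁻¹ * u * c) * g) ha'
      simpa [mul_assoc] using this
    · have hb : Nat.beq (C.kind.getD a.1 0) 0 = false := by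
        cases h : Nat.beq (C.kind.getD a.1 0) 0 with
        | false => rfl
        | true => rw [Nat.beq_eq] at h; omega
      rw [hb, cond_false] at hkind
      cases hle' : Nat.ble (C.kind.getD a.1 0) C.n with
      | true =>
        rw [hle', cond_true] at hkind
        rw [Nat.ble_eq] at hle'
        have hi : C.kind.getD a.1 0 - 1 < C.n := by omega
        have hfe : f ⟨_, hi⟩ = e a := mm_inj (hle (hf _).1) (hle (hem a)) (by
          rw [(hf _).2, hev]
          simpa using (chk_sound hkind).symm)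
        obtain ⟨s, hs, hse⟩ := hfs ⟨_, hi⟩
        obtain ⟨i, hi'⟩ := hfall ((c : L)⁻¹ * s) (mul_mem (inv_mem c.2) hs)
        refine ⟨i, ?_⟩
        rw [hi', show (c : L)⁻¹ * s * ev C.T * ((c : L)⁻¹ * s)⁻¹ = (c : L)⁻¹ * (s * ev C.T * s⁻¹) * c by group,
          ← hse, hfe, ← ha']
        group
      | false =>
        exfalso
        rw [hle', cond_false] at hkind
        simp only [Bool.not_eq_true'] at hkind
        have e3 : Matrix.trace (mm (e a)) = Matrix.trace (mm (ev C.T)) := by
          rw [← ha', hT, trace_conj (hle c.2) (mul_mem (mul_mem hg hx) (inv_mem hg)), trace_conj hg hx,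
            trace_conj (ev_H hw) hx]
        rw [hev, hmT, trM_sound, trM_sound] at e3
        have hlt : ∀ M, trM M < 5 := fun M => Nat.mod_lt _ (by norm_num)
        have e4 := congrArg ZMod.val e3
        rw [ZMod.val_natCast, ZMod.val_natCast, Nat.mod_eq_of_lt (hlt _), Nat.mod_eq_of_lt (hlt _)] at e4
        rw [e4] at hkind
        simp at hkind
  refine ⟨?_, fun y hy hg => ?_⟩
  · have hset : {y : L | y ∈ C.grp ∧ ∃ g ∈ HLy, y = g * x * g⁻¹} = Set.range f := by
      ext y
      constructor
      · rintro ⟨hy, hg⟩; exact key y hy hg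
      · rintro ⟨i, rfl⟩
        obtain ⟨s, hs, e⟩ := hfs i
        exact ⟨(hf i).1, s * ev w, mul_mem (hle hs) (ev_H hw), by rw [e, hT]; group⟩
    rw [hset, Set.ncard_range_of_injective hinj, Nat.card_fin]
  · obtain ⟨i, rfl⟩ := key y hy hg
    exact hfs i

/-! ### counting fixed cosets -/

/-- Fixed cosets are counted by the conjugates inside the subgroup and the centraliser. -/
theorem fix_count {A : Type*} [Group A] [Finite A] (B : Subgroup A) (x : A) :
    {q : A ⧸ B | x • q = q}.ncard * Nat.card B =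
      {y : A | y ∈ B ∧ ∃ a, y = a * x * a⁻¹}.ncard * Nat.card (Subgroup.centralizer ({x} : Set A)) := by
  set C := Subgroup.centralizer ({x} : Set A)
  have h1 : Nat.card {a : A | a⁻¹ * x * a ∈ B} = Nat.card B * {q : A ⧸ B | x • q = q}.ncard := by
    rw [← Nat.card_coe_set_eq, ← Nat.card_prod]
    have e : {a : A | a⁻¹ * x * a ∈ B} = QuotientGroup.mk ⁻¹' {q : A ⧸ B | x • q = q} := by
      ext a
      simp only [Set.mem_setOf_eq, Set.mem_preimage, MulAction.Quotient.smul_mk, QuotientGroup.eq, smul_eq_mul]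
      rw [show (x * a)⁻¹ * a = (a⁻¹ * x * a)⁻¹ by group, inv_mem_iff]
    rw [e]
    exact Nat.card_congr (QuotientGroup.preimageMkEquivSubgroupProdSet B _)
  have h2 : Nat.card {b : A | b * x * b⁻¹ ∈ B} =
      Nat.card C * {y : A | y ∈ B ∧ ∃ a, y = a * x * a⁻¹}.ncard := by
    have hwd : ∀ b c : A, (b : A ⧸ C) = c → b * x * b⁻¹ = c * x * c⁻¹ := fun b c e => by
      rw [QuotientGroup.eq, Subgroup.mem_centralizer_singleton_iff] at e
      calc b * x * b⁻¹ = b * (x * (b⁻¹ * c)) * c⁻¹ := by group
        _ = b * ((b⁻¹ * c) * x) * c⁻¹ := by rw [e]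
        _ = c * x * c⁻¹ := by group
    let φ : A ⧸ C → A := fun q => q.out * x * q.out⁻¹
    have hφ : ∀ b : A, φ b = b * x * b⁻¹ := fun b => hwd _ _ (QuotientGroup.out_eq' _)
    have hinj : Function.Injective φ := by
      intro p q e
      induction p using QuotientGroup.induction_on with
      | H b =>
        induction q using QuotientGroup.induction_on with
        | H c =>
          rw [hφ, hφ] at e
          rw [QuotientGroup.eq, Subgroup.mem_centralizer_singleton_iff]
          calc b⁻¹ * c * x = b⁻¹ * (c * x * c⁻¹) * c := by group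
            _ = b⁻¹ * (b * x * b⁻¹) * c := by rw [e]
            _ = x * (b⁻¹ * c) := by group
    have e : {b : A | b * x * b⁻¹ ∈ B} = QuotientGroup.mk ⁻¹' {q : A ⧸ C | φ q ∈ B} := by
      ext b; simp [hφ]
    have e2 : {q : A ⧸ C | φ q ∈ B}.ncard = {y : A | y ∈ B ∧ ∃ a, y = a * x * a⁻¹}.ncard := by
      rw [← Set.ncard_image_of_injective _ hinj]
      congr 1
      ext y
      constructor
      · rintro ⟨q, hq, rfl⟩; exact ⟨hq, q.out, rfl⟩
      · rintro ⟨hy, a, rfl⟩; exact ⟨a, by rwa [Set.mem_setOf_eq, hφ], hφ a⟩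
    rw [e, ← e2, ← Nat.card_coe_set_eq, ← Nat.card_prod]
    exact Nat.card_congr (QuotientGroup.preimageMkEquivSubgroupProdSet C _)
  have h3 : Nat.card {a : A | a⁻¹ * x * a ∈ B} = Nat.card {b : A | b * x * b⁻¹ ∈ B} :=
    Nat.card_congr ((Equiv.inv A).subtypeEquiv fun a => by simp)
  rw [h1, h2] at h3
  rw [mul_comm, h3, mul_comm]

end Cfsg.Agent.LyMcL73Base
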