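import Cfsg.Agent.Lib.LyMcL73Local

/-!
The centraliser of the element of order three in the presented Lyons group: one orbit on its 7128 fixed points
among the cosets of G2(5), centre of order three, simple quotient of order 898128000.
-/

set_option autoImplicit false
set_option maxRecDepth 100000
set_option maxHeartbeats 1000000

namespace Cfsg.Agent.LyMcL73Cent

open scoped Pointwise

open Cfsg.Agent.LyG2Five64 Cfsg.Agent.LyOrbitCore41 Cfsg.Agent.LyOrbitCover41 Cfsg.Agent.LyOrbitCount41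
open Cfsg.Agent.LyOrbitClosed41 Cfsg.Agent.LyOrbitIndex41
open Cfsg.Agent.LyMcL73Base Cfsg.Agent.LyMcL73Data Cfsg.Agent.LyMcL73Groups Cfsg.Agent.LyMcL73Local

/-- The centraliser. -/
noncomputable def C : Subgroup L := Subgroup.centralizer ({x} : Set L)

theorem mem_C {c : L} : c ∈ C ↔ c * x = x * c := Subgroup.mem_centralizer_singleton_iff

theorem x_C : x ∈ C := mem_C.mpr rfl

theorem CH_le_C : CH ≤ C := inf_le_left

theorem pt_fix {t : L} (ht : t ∈ HLy) : t • pt 0 = pt 0 := by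
  rw [pt_zero, MulAction.Quotient.smul_mk, QuotientGroup.eq, smul_eq_mul, mul_one, mul_one, inv_mem_iff]
  exact ht

theorem fix_mem {t : L} (h : t • pt 0 = pt 0) : t ∈ HLy := by
  rwa [pt_zero, MulAction.Quotient.smul_mk, QuotientGroup.eq, smul_eq_mul, mul_one, mul_one, inv_mem_iff] at h

/-- The fixed points in one of the five orbits. -/
def FixO (j : ℕ) : Set (L ⧸ HLy) := fixIn (pt j)

theorem stab_X {j : ℕ} : ∀ t ∈ HLy, t • pt j = pt j ↔ t ∈ X (reps j) := by
  intro t ht
  have h := SetLike.ext_iff.mp (stab_eq j) ⟨t, ht⟩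
  rwa [MulAction.mem_stabilizer_iff, Subgroup.mem_subgroupOf] at h

theorem mem_orb {j : ℕ} {q : L ⧸ HLy} : q ∈ orb j ↔ ∃ t ∈ HLy, t • pt j = q :=
  ⟨fun ⟨⟨t, ht⟩, e⟩ => ⟨t, ht, e⟩, fun ⟨t, ht, e⟩ => ⟨⟨t, ht⟩, e⟩⟩

theorem class_of {w T : List ℕ} (h : same (w ++ xw) (T ++ w) = true) : ev w ∈ HLy ∧ ev w * x = ev T * ev w := by
  have hok : okW w = true := by
    have := (same_ok h).1
    rw [okW_iff] at this ⊢
    exact fun i hi => this i (List.mem_append_left _ hi)
  have e := eq_ev h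
  rw [ev_append, ev_append] at e
  exact ⟨ev_H hok, e⟩

theorem trans_zero : ∀ q ∈ FixO 0, ∀ q' ∈ FixO 0, ∃ c ∈ CH, c • q = q' := by
  rintro q ⟨⟨t, ht, rfl⟩, -⟩ q' ⟨⟨t', ht', rfl⟩, -⟩
  exact ⟨1, one_mem _, by rw [pt_fix ht, pt_fix ht', one_smul]⟩

theorem trans_five : ∀ j < 5, ∀ q ∈ FixO j, ∀ q' ∈ FixO j, ∃ c ∈ CH, c • q = q' := by
  intro j hj
  interval_cases j
  · exact trans_zero
  · exact fixed_orbit (pt 1) _ stab_X count1.2 inf_le_left (class_of (w := w1) (T := cert1.T) (by decide +kernel)).1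
      (class_of (w := w1) (T := cert1.T) (by decide +kernel)).2
  · exact fixed_orbit (pt 2) _ stab_X count2.2 inf_le_left (class_of (w := w2) (T := cert2.T) (by decide +kernel)).1
      (class_of (w := w2) (T := cert2.T) (by decide +kernel)).2
  · exact fixed_orbit (pt 3) _ stab_X count3.2 inf_le_left (class_of (w := w3) (T := cert3.T) (by decide +kernel)).1
      (class_of (w := w3) (T := cert3.T) (by decide +kernel)).2
  · exact fixed_orbit (pt 4) _ stab_X count4.2 inf_le_left (class_of (w := w4) (T := cert4.T) (by decide +kernel)).1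
      (class_of (w := w4) (T := cert4.T) (by decide +kernel)).2

theorem fix_zero : FixO 0 = {pt 0} := by
  ext q
  constructor
  · rintro ⟨⟨t, ht, rfl⟩, -⟩
    exact pt_fix ht
  · rintro rfl
    exact ⟨⟨1, one_mem _, one_smul _ _⟩, pt_fix x_H⟩

theorem fix_sizes : (FixO 1).ncard = 252 ∧ (FixO 2).ncard = 750 ∧ (FixO 3).ncard = 2625 ∧
    (FixO 4).ncard = 3500 := by
  have h1 := fix_card (pt 1) (X (reps 1)) inf_le_left stab_X
  have h2 := fix_card (pt 2) (X (reps 2)) inf_le_left stab_X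
  have h3 := fix_card (pt 3) (X (reps 3)) inf_le_left stab_X
  have h4 := fix_card (pt 4) (X (reps 4)) inf_le_left stab_X
  have e1 : Nat.card (X (reps 1)) = 300000 := card_XZ
  rw [count1.1, e1, card_CH] at h1
  rw [count2.1, card_X (j := 2) sizes.1 (M := 1008) (by norm_num), card_CH] at h2
  rw [count3.1, card_X (j := 3) sizes.2.1 (M := 2880) (by norm_num), card_CH] at h3
  rw [count4.1, card_X (j := 4) sizes.2.2 (M := 6048) (by norm_num), card_CH] at h4
  exact ⟨Nat.eq_of_mul_eq_mul_right (by norm_num : 0 < 300000) (h1.trans (by norm_num)),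
    Nat.eq_of_mul_eq_mul_right (by norm_num : 0 < 1008) (h2.trans (by norm_num)),
    Nat.eq_of_mul_eq_mul_right (by norm_num : 0 < 2880) (h3.trans (by norm_num)),
    Nat.eq_of_mul_eq_mul_right (by norm_num : 0 < 6048) (h4.trans (by norm_num))⟩

theorem orb_ne {i j : ℕ} (hij : i < j) (hj : j < 5) {q : L ⧸ HLy} (hi : q ∈ orb i) : q ∉ orb j := by
  intro hq
  have he : orb j = orb i := by
    unfold orb at *
    rw [← MulAction.orbit_eq_iff.mpr hi, MulAction.orbit_eq_iff.mpr hq]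
  have hU : pt j ∈ U j := ⟨i, hij, he ▸ MulAction.mem_orbit_self _⟩
  have h0 : e j = 0 := by rw [e, if_pos hU]
  interval_cases j
  · omega
  · rw [e_one] at h0; omega
  · rw [sizes.1] at h0; omega
  · rw [sizes.2.1] at h0; omega
  · rw [sizes.2.2] at h0; omega

theorem good : ∀ b1 b2 b3 b4 : Bool,
    Nat.mod 51765179004000000 ((1 + cond b1 252 0 + cond b2 750 0 + cond b3 2625 0 + cond b4 3500 0) * 378000) = 0 →
    1 + cond b1 252 0 + cond b2 750 0 + cond b3 2625 0 + cond b4 3500 0 = 1 ∨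
      1 + cond b1 252 0 + cond b2 750 0 + cond b3 2625 0 + cond b4 3500 0 = 7128 := by decide +kernel

/-- An orbit among the fixed points of a subgroup containing the local centraliser. -/
theorem orbit_size (S : Subgroup L) (hC : S ≤ C) (hS : CH ≤ S) :
    Nat.card S = (MulAction.orbit S (pt 0)).ncard * 378000 ∧
      ((MulAction.orbit S (pt 0)).ncard = 1 ∨ (MulAction.orbit S (pt 0)).ncard = 7128) ∧
      (∀ q ∈ MulAction.orbit S (pt 0), x • q = q) := by
  haveI := finite_L
  haveI := finite_quot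
  set B := MulAction.orbit S (pt 0) with hB
  have hcard : Nat.card S = B.ncard * 378000 := by
    rw [← card_CH]
    refine card_orbit S CH (pt 0) fun s => ?_
    exact ⟨fun h => ⟨hS h, pt_fix (CH_le h)⟩, fun ⟨h, e⟩ => mem_CH.mpr ⟨mem_C.mp (hC h), fix_mem e⟩⟩
  have hfix : ∀ q ∈ B, x • q = q := by
    rintro _ ⟨⟨s, hs⟩, rfl⟩
    show x • s • pt 0 = s • pt 0
    rw [← mul_smul, ← mem_C.mp (hC hs), mul_smul, pt_fix x_H]
  refine ⟨hcard, ?_, hfix⟩
  have hinv : ∀ c ∈ CH, ∀ q ∈ B, c • q ∈ B := by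
    rintro c hc _ ⟨⟨s, hs⟩, rfl⟩
    exact ⟨⟨c * s, mul_mem (hS hc) hs⟩, mul_smul c s (pt 0)⟩
  have part : ∀ k ≤ 5, (B ∩ U k).ncard = ∑ j ∈ Finset.range k, (B ∩ FixO j).ncard := by
    intro k hk
    induction k with
    | zero =>
      have : B ∩ U 0 = ∅ := Set.eq_empty_of_forall_notMem fun q hq => by
        obtain ⟨j, hj, -⟩ := hq.2
        omega
      rw [this, Set.ncard_empty, Finset.sum_range_zero]
    | succ k ih =>
      have hu : B ∩ U (k + 1) = (B ∩ U k) ∪ (B ∩ FixO k) := by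
        ext q
        constructor
        · rintro ⟨hq, j, hj, hqj⟩
          rcases Nat.lt_succ_iff_lt_or_eq.mp hj with hj | rfl
          · exact Or.inl ⟨hq, j, hj, hqj⟩
          · exact Or.inr ⟨hq, mem_orb.mp hqj, hfix q hq⟩
        · rintro (⟨hq, j, hj, hqj⟩ | ⟨hq, hqk, -⟩)
          · exact ⟨hq, j, by omega, hqj⟩
          · exact ⟨hq, k, by omega, mem_orb.mpr hqk⟩
      rw [hu, Set.ncard_union_eq ?_ (Set.toFinite _) (Set.toFinite _), ih (by omega), Finset.sum_range_succ]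
      rw [Set.disjoint_left]
      rintro q ⟨-, j, hj, hqj⟩ ⟨-, hqk, -⟩
      exact orb_ne hj (by omega) hqj (mem_orb.mpr hqk)
  have hall : B ∩ U 5 = B := Set.inter_eq_left.mpr fun q _ => cover q
  have dich : ∀ j < 5, ∃ b : Bool, (B ∩ FixO j).ncard = cond b (FixO j).ncard 0 := by
    intro j hj
    rcases Set.eq_empty_or_nonempty (B ∩ FixO j) with h | ⟨q, hq, hqj⟩
    · exact ⟨false, by rw [h, Set.ncard_empty]; rfl⟩
    · refine ⟨true, ?_⟩
      rw [Set.inter_eq_right.mpr fun q' hq' => ?_]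
      · rfl
      · obtain ⟨c, hc, rfl⟩ := trans_five j hj q hqj q' hq'
        exact hinv c hc q hq
  obtain ⟨b1, e1⟩ := dich 1 (by norm_num)
  obtain ⟨b2, e2⟩ := dich 2 (by norm_num)
  obtain ⟨b3, e3⟩ := dich 3 (by norm_num)
  obtain ⟨b4, e4⟩ := dich 4 (by norm_num)
  have e0 : (B ∩ FixO 0).ncard = 1 := by
    rw [fix_zero, Set.inter_eq_right.mpr, Set.ncard_singleton]
    rintro _ rfl
    exact MulAction.mem_orbit_self _
  have hn : B.ncard = 1 + cond b1 252 0 + cond b2 750 0 + cond b3 2625 0 + cond b4 3500 0 := by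
    rw [← hall, part 5 le_rfl]
    simp only [Finset.sum_range_succ, Finset.sum_range_zero, e0, e1, e2, e3, e4, fix_sizes.1, fix_sizes.2.1,
      fix_sizes.2.2.1, fix_sizes.2.2.2, zero_add]
  have hd := Subgroup.card_subgroup_dvd_card S
  rw [hcard, order, hn] at hd
  rw [hn]
  exact good b1 b2 b3 b4 (Nat.mod_eq_zero_of_dvd hd)

theorem Z_C : Z ∈ C := by
  have h1 : same xw (kw [5, 6, 5, 7]) = true := by decide +kernel
  have h2 : same (kx [5, 6, 5, 7]) xw = true := by decide +kernel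
  have e := conj_kw (k := [5, 6, 5, 7]) (by decide)
  rw [← eq_ev h1, eq_ev h2, show ev xw = x from rfl] at e
  rw [mem_C]
  calc Z * x = Z * (Z⁻¹ * x * Z) := by rw [e]
    _ = x * Z := by group

theorem orbit_C : (MulAction.orbit C (pt 0)).ncard = 7128 := by
  rcases (orbit_size C le_rfl CH_le_C).2.1 with h | h
  · exfalso
    obtain ⟨a, ha⟩ := Set.ncard_eq_one.mp h
    have h0 : pt 0 = a := Set.mem_singleton_iff.mp (ha ▸ MulAction.mem_orbit_self _)
    have hZ : Z • pt 0 = a := Set.mem_singleton_iff.mp (ha ▸ ⟨⟨Z, Z_C⟩, rfl⟩)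
    exact Z_not_mem (fix_mem (hZ.trans h0.symm))
  · exact h

theorem card_C : Nat.card C = 2694384000 := by
  rw [(orbit_size C le_rfl CH_le_C).1, orbit_C]

theorem card_x : Nat.card (Subgroup.zpowers x) = 3 := by rw [Nat.card_zpowers, order_x]

theorem CH_moves : ∃ q, x • q = q ∧ q ∈ MulAction.orbit C (pt 0) ∧ ∃ c ∈ CH, c • q ≠ q := by
  haveI := finite_quot
  have hb : (MulAction.orbit C (pt 0)).ncard = 7128 := orbit_C
  obtain ⟨q, hq, hq0⟩ : ∃ q ∈ MulAction.orbit C (pt 0), q ≠ pt 0 := by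
    obtain ⟨q, hq, hne⟩ := Set.exists_ne_of_one_lt_ncard (by rw [hb]; norm_num : 1 < (MulAction.orbit C (pt 0)).ncard)
      (pt 0)
    exact ⟨q, hq, hne⟩
  have hxq := (orbit_size C le_rfl CH_le_C).2.2 q hq
  refine ⟨q, hxq, hq, ?_⟩
  by_contra hall
  simp only [not_exists, not_and, not_not] at hall
  obtain ⟨j, hj, hqj⟩ := cover q
  have hq' : q ∈ FixO j := ⟨mem_orb.mp hqj, hxq⟩
  have hsub : FixO j ⊆ {q} := fun q' h' => by
    obtain ⟨c, hc, rfl⟩ := trans_five j hj q hq' q' h'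
    exact hall c hc
  have hle := Set.ncard_le_ncard hsub
  rw [Set.ncard_singleton] at hle
  interval_cases j
  · exact hq0 (fix_zero ▸ hq' : q ∈ ({pt 0} : Set _))
  · rw [fix_sizes.1] at hle; omega
  · rw [fix_sizes.2.1] at hle; omega
  · rw [fix_sizes.2.2.1] at hle; omega
  · rw [fix_sizes.2.2.2] at hle; omega

/-- A finite group of order `21384` with a central element of order three has few elements of order eleven. -/
theorem eleven {A : Type*} [Group A] [Finite A] (hA : Nat.card A = 21384) (z : A) (hz : orderOf z = 3)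
    (hc : ∀ a, a * z = z * a) :
    {a : A | a ^ 11 = 1}.ncard ≤ 132 ∧ ∃ a : A, orderOf a = 11 := by
  haveI : Fact (Nat.Prime 11) := ⟨by norm_num⟩
  refine ⟨?_, exists_prime_orderOf_dvd_card' 11 (by rw [hA]; norm_num)⟩
  let Q : Sylow 11 A := default
  have hfac : (Nat.card A).factorization 11 = 1 := by
    rw [hA, show 21384 = 11 ^ 1 * 1944 from rfl, Nat.factorization_mul (by norm_num) (by norm_num),
      Finsupp.add_apply, Nat.factorization_pow, Nat.factorization_eq_zero_of_not_dvd (by norm_num : ¬ 11 ∣ 1944)]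
    simp [Nat.Prime.factorization_self (by norm_num : Nat.Prime 11)]
  have hQ : ∀ R : Sylow 11 A, Nat.card R = 11 := fun R => by
    rw [R.card_eq_multiplicity, hfac, pow_one]
  have hn1 := card_sylow_modEq_one 11 A
  have hnz : z ∈ Subgroup.normalizer ((Q : Subgroup A) : Set A) := by
    rw [Subgroup.mem_normalizer_iff]
    intro a
    rw [show z * a * z⁻¹ = a by rw [← hc, mul_inv_cancel_right]]
  have hd : Nat.card (Sylow 11 A) ∣ 648 := by
    set N := Subgroup.normalizer ((Q : Subgroup A) : Set A)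
    have h3 : 3 ∣ Nat.card N := by
      have := Subgroup.card_dvd_of_le (Subgroup.zpowers_le.mpr hnz)
      rwa [Nat.card_zpowers, hz] at this
    have h11 : 11 ∣ Nat.card N := by
      have := Subgroup.card_dvd_of_le (Subgroup.le_normalizer (H := (Q : Subgroup A)))
      rwa [hQ Q] at this
    obtain ⟨k, hk⟩ := (by norm_num : Nat.Coprime 3 11).mul_dvd_of_dvd_of_dvd h3 h11
    have h := Subgroup.card_mul_index N
    rw [hk, show N.index = Nat.card (Sylow 11 A) from (Sylow.card_eq_index_normalizer Q).symm, hA] at h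
    refine ⟨k, ?_⟩
    have h' : 33 * 648 = 33 * (Nat.card (Sylow 11 A) * k) := by rw [← show 3 * 11 = 33 from rfl] ; linarith
    exact Nat.eq_of_mul_eq_mul_left (by norm_num) h'
  have hle : Nat.card (Sylow 11 A) ≤ 12 := by
    have : ∀ d ∈ Nat.divisors 648, d % 11 = 1 → d ≤ 12 := by decide +kernel
    exact this _ (Nat.mem_divisors.mpr ⟨hd, by norm_num⟩) hn1
  haveI := Fintype.ofFinite (Sylow 11 A)
  have hcov : {a : A | a ^ 11 = 1} ⊆ ⋃ R ∈ (Finset.univ : Finset (Sylow 11 A)), ((R : Subgroup A) : Set A) := by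
    intro a ha
    have hp : IsPGroup 11 (Subgroup.zpowers a) := by
      intro u
      obtain ⟨i, hi⟩ := Subgroup.mem_zpowers_iff.mp u.2
      refine ⟨1, Subtype.ext ?_⟩
      rw [pow_one, Subgroup.coe_pow, ← hi, ← zpow_natCast, ← zpow_mul, mul_comm, zpow_mul, zpow_natCast,
        show a ^ 11 = 1 from ha, one_zpow, Subgroup.coe_one]
    obtain ⟨R, hR⟩ := hp.exists_le_sylow
    exact Set.mem_biUnion (Finset.mem_univ R) (hR (Subgroup.mem_zpowers a))
  refine (Set.ncard_le_ncard hcov).trans ((Finset.set_ncard_biUnion_le _ _).trans ?_)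
  refine (Finset.sum_le_card_nsmul _ _ 11 fun R _ => le_of_eq ?_).trans ?_
  · rw [← Nat.card_coe_set_eq]
    exact hQ R
  · rw [Finset.card_univ, ← Nat.card_eq_fintype_card, smul_eq_mul]
    omega

/-- The normal subgroups of the centraliser through the element. -/
theorem normal_C {M : Subgroup L} (hM : M ≤ C) (hN : ∀ c ∈ C, ∀ m ∈ M, c * m * c⁻¹ ∈ M) (hx : x ∈ M) :
    M = Subgroup.zpowers x ∨ M = C := by
  haveI := finite_L
  haveI := finite_quot
  set S := M ⊔ CH
  have hSC : S ≤ C := sup_le hM CH_le_C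
  obtain ⟨hScard, hSn, hSfix⟩ := orbit_size S hSC le_sup_right
  set B := MulAction.orbit M (pt 0) with hB
  have hBS : MulAction.orbit S (pt 0) = B := by
    refine Set.Subset.antisymm ?_ ?_
    · rintro _ ⟨⟨s, hs⟩, rfl⟩
      show s • pt 0 ∈ B
      have hcmap : ∀ c ∈ CH, ∀ q ∈ B, c • q ∈ B := by
        rintro c hc _ ⟨⟨m, hm⟩, rfl⟩
        refine ⟨⟨c * m * c⁻¹, hN c (CH_le_C hc) m hm⟩, ?_⟩
        show (c * m * c⁻¹) • pt 0 = c • m • pt 0
        rw [mul_smul, mul_smul, pt_fix (inv_mem (CH_le hc))]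
      have hst : S ≤ MulAction.stabilizer L B := by
        refine sup_le (fun m hm => ?_) (fun c hc => ?_)
        · rw [MulAction.mem_stabilizer_iff]
          refine Set.eq_of_subset_of_ncard_le ?_ (by rw [Set.ncard_smul_set])
          rintro _ ⟨_, ⟨⟨m', hm'⟩, rfl⟩, rfl⟩
          exact ⟨⟨m * m', mul_mem hm hm'⟩, mul_smul m m' (pt 0)⟩
        · rw [MulAction.mem_stabilizer_iff]
          refine Set.eq_of_subset_of_ncard_le ?_ (by rw [Set.ncard_smul_set])
          rintro _ ⟨q, hq, rfl⟩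
          exact hcmap c hc q hq
      rw [← MulAction.mem_stabilizer_iff.mp (hst hs)]
      exact Set.smul_mem_smul_set (MulAction.mem_orbit_self _)
    · rintro _ ⟨⟨m, hm⟩, rfl⟩
      exact ⟨⟨m, le_sup_left (a := M) hm⟩, rfl⟩
  have hMcard : Nat.card M = B.ncard * Nat.card ↥(M ⊓ HLy) :=
    card_orbit M (M ⊓ HLy) (pt 0) fun t =>
      ⟨fun h => ⟨(Subgroup.mem_inf.mp h).1, pt_fix (Subgroup.mem_inf.mp h).2⟩,
        fun ⟨h, e⟩ => Subgroup.mem_inf.mpr ⟨h, fix_mem e⟩⟩
  have hMH : M ⊓ HLy = Subgroup.zpowers x ∨ M ⊓ HLy = CH :=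
    normal_CH (fun t ht => mem_CH.mpr ⟨mem_C.mp (hM ht.1), ht.2⟩)
      (fun c hc m hm => Subgroup.mem_inf.mpr ⟨hN c (CH_le_C hc) m (Subgroup.mem_inf.mp hm).1,
        mul_mem (mul_mem (CH_le hc) (Subgroup.mem_inf.mp hm).2) (inv_mem (CH_le hc))⟩)
      ⟨hx, x_H⟩
  rw [hBS] at hSn
  rcases hSn with h1 | h7
  · left
    obtain ⟨a, ha⟩ := Set.ncard_eq_one.mp h1
    have hMle : M ≤ HLy := fun m hm => fix_mem (by
      have h0 : pt 0 = a := Set.mem_singleton_iff.mp (ha ▸ MulAction.mem_orbit_self _)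
      have hm' : m • pt 0 = a := Set.mem_singleton_iff.mp (ha ▸ ⟨⟨m, hm⟩, rfl⟩)
      rw [hm', h0])
    rw [inf_eq_left.mpr hMle] at hMH
    rcases hMH with h | h
    · exact h
    · exfalso
      subst h
      obtain ⟨q, -, ⟨⟨g, hg⟩, rfl⟩, c, hc, hne⟩ := CH_moves
      apply hne
      show c • g • pt 0 = g • pt 0
      have := hN g⁻¹ (inv_mem hg) c hc
      rw [inv_inv] at this
      rw [← inv_smul_eq_iff, ← mul_smul, ← mul_smul]
      exact pt_fix (CH_le this)
  · rcases hMH with h | h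
    · exfalso
      have hM' : Nat.card M = 21384 := by rw [hMcard, h7, h, card_x]
      obtain ⟨hfew, a, ha⟩ := eleven hM' ⟨x, hx⟩ (by rw [← order_x]; exact (Subgroup.orderOf_coe _).symm)
        (fun m => Subtype.ext (mem_C.mp (hM m.2)))
      set q := (a : L) • pt 0
      have hqB : q ∈ B := ⟨a, rfl⟩
      have hxq : x • q = q := hSfix q (hBS ▸ hqB)
      have hne : q ≠ pt 0 := fun e => by
        have hmem : (a : L) ∈ Subgroup.zpowers x := h ▸ Subgroup.mem_inf.mpr ⟨a.2, fix_mem e⟩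
        have := orderOf_dvd_of_mem_zpowers hmem
        rw [order_x, Subgroup.orderOf_coe, ha] at this
        norm_num at this
      obtain ⟨j, hj, hqj⟩ := cover q
      have hbig : 252 ≤ (FixO j).ncard := by
        interval_cases j
        · rw [orb_zero] at hqj; exact absurd hqj hne
        · rw [fix_sizes.1]
        · rw [fix_sizes.2.1]; norm_num
        · rw [fix_sizes.2.2.1]; norm_num
        · rw [fix_sizes.2.2.2]; norm_num
      have hsub : FixO j ⊆ (fun b : M => (b : L) • pt 0) '' {b : M | b ^ 11 = 1} := by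
        intro q' hq'
        obtain ⟨c, hc, rfl⟩ := trans_five j hj q ⟨mem_orb.mp hqj, hxq⟩ q' hq'
        refine ⟨⟨c * a * c⁻¹, hN c (CH_le_C hc) a a.2⟩, Subtype.ext ?_, ?_⟩
        · show (c * (a : L) * c⁻¹) ^ 11 = 1
          rw [← MulAut.conj_apply, ← map_pow, ← Subgroup.coe_pow, ← ha, pow_orderOf_eq_one, Subgroup.coe_one,
            map_one]
        · show (c * (a : L) * c⁻¹) • pt 0 = c • (a : L) • pt 0
          rw [mul_smul, mul_smul, pt_fix (inv_mem (CH_le hc))]
      have := (Set.ncard_le_ncard hsub).trans (le_trans (Set.ncard_image_le (Set.toFinite _)) hfew)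
      omega
    · right
      refine Subgroup.eq_of_le_of_card_ge hM ?_
      rw [card_C, hMcard, h7, h, card_CH]

end Cfsg.Agent.LyMcL73Cent
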