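import Cfsg.Agent.Lib.LyMcL73Data

/-! Checks of the generated certificates. -/

set_option autoImplicit false
set_option maxRecDepth 100000
set_option maxHeartbeats 2000000
set_option Elab.async false

namespace Cfsg.Agent.LyMcL73CheckP

open Cfsg.Agent.LyMcL73Base Cfsg.Agent.LyMcL73Data

theorem clsP : certP.clsOk = true := by decide +kernel

theorem sylP : certP.sylOk = true := by decide +kernel

end Cfsg.Agent.LyMcL73CheckP
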