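import Cfsg.Agent.Lib.LyMcL73CheckA
import Cfsg.Agent.Lib.LyMcL73CheckB
import Cfsg.Agent.Lib.LyMcL73CheckD
import Cfsg.Agent.Lib.LyMcL73CheckP

/-!
The six certificates describe the whole parabolic subgroup and the whole stabilisers of the double cosets; the
conjugates of the element of order three inside them are counted.
-/

set_option autoImplicit false
set_option maxRecDepth 100000
set_option maxHeartbeats 1000000

namespace Cfsg.Agent.LyMcL73Groups

open Cfsg.Agent.LyG2Five64 Cfsg.Agent.LyOrbitCore41 Cfsg.Agent.LyOrbitCover41 Cfsg.Agent.LyOrbitClosed41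
open Cfsg.Agent.LyOrbitCount41 Cfsg.Agent.LyOrbitIndex41 Cfsg.Agent.LyOrbitFacts41
open Cfsg.Agent.LyMcL73Base Cfsg.Agent.LyMcL73Data

/-- The element of order three. -/
noncomputable def x : L := ev xw

theorem xw_ok : okW xw = true := by decide

theorem x_H : x ∈ HLy := ev_H xw_ok

theorem x_P : x ∈ P := ev_P (by decide)

theorem x_pow : x ^ 3 = 1 := by
  have h := eq_ev (v := xw ++ xw ++ xw) (w := []) (by decide +kernel)
  rw [ev_append, ev_append, ev_nil] at h
  rw [pow_succ, pow_two]
  exact h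

theorem x_ne : x ≠ 1 := by
  intro e
  have h1 := (walk_pt xw_ok (v := 2) (by norm_num)).2
  rw [show ev xw = x from rfl, e, inv_one, one_smul] at h1
  have h2 := pt'_inj (by norm_num) (walk_pt xw_ok (v := 2) (by norm_num)).1 h1
  have h3 : Nat.beq (walkG xw 2) 2 = false := by decide +kernel
  rw [← h2] at h3
  simp at h3

theorem order_x : orderOf x = 3 := by
  haveI := Fact.mk (by norm_num : Nat.Prime 3)
  exact orderOf_eq_prime x_pow x_ne

/-! ### the parabolic subgroup -/

theorem grpP : certP.grp = P := by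
  have hG : ∀ w ∈ certP.G, ∀ i ∈ w, i ∈ LyG2Cert64.certG.sub := by decide
  refine le_antisymm ?_ ?_
  · rw [Cls.grp, Subgroup.closure_le]
    rintro _ ⟨w, hw, rfl⟩
    exact ev_P (hG w hw)
  · rw [P, Subgroup.closure_le]
    rintro _ ⟨i, hi, rfl⟩
    have hlow : ∀ j < 7, letLy j ∈ certP.grp := fun j hj => by
      have hm : [j] ∈ certP.G := by interval_cases j <;> decide
      have := Subgroup.subset_closure (k := ev '' {w | w ∈ certP.G}) ⟨[j], hm, rfl⟩
      rw [Cls.grp]
      simpa [ev] using this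
    rcases Nat.lt_or_ge i 7 with h | h
    · exact hlow i h
    · have hb : ∀ i ∈ LyG2Cert64.certG.sub, 7 ≤ i → i - 9 < 7 ∧ 9 ≤ i ∧ i < 18 := by decide
      obtain ⟨h1, h2, h3⟩ := hb i hi h
      have e := letLy_iv (i - 9) (by omega)
      have hiv : LyG2Cert64.certG.iv (i - 9) = i := by
        show (if i - 9 < 9 then i - 9 + 9 else i - 9 - 9) = i
        rw [if_pos (by omega)]; omega
      rw [hiv] at e
      rw [show letLy i = (letLy (i - 9))⁻¹ from (inv_eq_of_mul_eq_one_right e).symm]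
      exact inv_mem (hlow _ h1)

/-! ### the stabiliser of the second double coset -/

/-- The subgroup generated by the words normalised by the extra generator. -/
noncomputable def S0 : Subgroup L := Subgroup.closure (ev '' {w | w ∈ kW})

theorem kw_S0 {k : List ℕ} (hk : okK k = true) : ev (kw k) ∈ S0 :=
  gw_mem (G := kW) fun i hi => Nat.blt_eq.mp (List.all_eq_true.mp hk i hi)

theorem S0_le : S0 ≤ K0 := by
  rw [S0, Subgroup.closure_le]
  rintro _ ⟨w, hw, rfl⟩
  obtain ⟨i, hi, rfl⟩ := List.getElem_of_mem hw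
  have hk : okK [i] = true := by simp [okK]; exact hi
  have h := kw_K0 hk
  rw [kw, List.map_cons, List.map_nil, List.flatten_cons, List.flatten_nil, List.append_nil,
    List.getD_eq_getElem _ _ hi] at h
  exact h

theorem P_five0 {y : L} (hy : y ∈ P) : ∃ p < 5, ∃ k ∈ S0, y = ev (p5.getD p []) * k := by
  suffices H : ∀ p < 5, ∃ p' < 5, ∃ k ∈ S0, y * ev (p5.getD p []) = ev (p5.getD p' []) * k by
    obtain ⟨p', hp', k, hk, e⟩ := H 0 (by norm_num)
    exact ⟨p', hp', k, hk, by simpa [p5, ev_nil] using e⟩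
  have hl : ∀ i ∈ LyG2Cert64.certG.sub, ∀ p < 5, ∃ p' < 5, ∃ k ∈ S0,
      letLy i * ev (p5.getD p []) = ev (p5.getD p' []) * k := by
    intro i hi p hp
    have hW := five_ok
    simp only [uOk, Bool.and_eq_true, List.all_eq_true, List.any_eq_true, List.mem_range, Nat.blt_eq, Nat.beq_eq] at hW
    obtain ⟨⟨a, b, p', k⟩, hxW, ha, hb⟩ := hW.2 i hi p hp
    obtain ⟨⟨hk, hp'⟩, he⟩ := hW.1 _ hxW
    simp only at ha hb
    subst ha hb
    refine ⟨p', hp', ev (kw k), kw_S0 hk, ?_⟩
    have := eq_ev he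
    rwa [ev_cons, ev_append] at this
  induction hy using Subgroup.closure_induction'' with
  | one => intro p hp; exact ⟨p, hp, 1, one_mem _, by simp⟩
  | mem x hx => obtain ⟨i, hi, rfl⟩ := hx; exact hl i hi
  | inv_mem x hx =>
    obtain ⟨i, hi, rfl⟩ := hx
    have hiv : ∀ i ∈ LyG2Cert64.certG.sub, LyG2Cert64.certG.iv i ∈ LyG2Cert64.certG.sub := by decide
    rw [inv_eq_of_mul_eq_one_right (letLy_iv i (sub_lt i hi))]
    exact hl _ (hiv i hi)
  | mul x y _ _ ihx ihy =>
    intro p hp
    obtain ⟨p1, hp1, k, hk, e⟩ := ihy p hp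
    obtain ⟨p2, hp2, k', hk', e'⟩ := ihx p1 hp1
    exact ⟨p2, hp2, k' * k, mul_mem hk' hk, by rw [mul_assoc, e, ← mul_assoc, e', mul_assoc]⟩

theorem card_S0 : Nat.card S0 = 300000 := by
  haveI : Finite K0 := finite_le (inf_le_right.trans P_le)
  haveI : Finite S0 := Finite.of_injective _ (Subgroup.inclusion_injective S0_le)
  have hle : Nat.card S0 ≤ 300000 := card_K0 ▸ Nat.le_of_dvd Nat.card_pos (Subgroup.card_dvd_of_le S0_le)
  let g : Fin 5 × S0 → P := fun p =>
    ⟨ev (p5.getD p.1 []) * (p.2 : L), mul_mem p5_P (Subgroup.mem_inf.mp (S0_le p.2.2)).2⟩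
  have hsurj : Function.Surjective g := fun y => by
    obtain ⟨p, hp, k, hk, e⟩ := P_five0 y.2
    exact ⟨(⟨p, hp⟩, ⟨k, hk⟩), Subtype.ext e.symm⟩
  have h := Nat.card_le_card_of_surjective g hsurj
  rw [card_P, Nat.card_prod, Nat.card_fin] at h
  omega

theorem grp1 : cert1.grp ≤ X Z ∧ Nat.card cert1.grp = 300000 := by
  constructor
  · rw [Cls.grp, Subgroup.closure_le]
    rintro _ ⟨w, hw, rfl⟩
    have hG : cert1.G = gens1 := by decide +kernel
    rw [hG] at hw
    obtain ⟨i, hi, rfl⟩ := List.getElem_of_mem hw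
    have := gens_mem1 i hi
    rwa [List.getD_eq_getElem _ _ hi] at this
  · have e : cert1.grp = S0.map (MulAut.conj Z⁻¹).toMonoidHom := by
      rw [Cls.grp, S0, MonoidHom.map_closure]
      congr 1
      have hk : ∀ i < 8, Z⁻¹ * ev (kW.getD i []) * Z = ev (kX.getD i []) := by
        intro i hi
        have := conj_kw (k := [i]) (by simp [okK]; exact hi)
        simpa [kw, kx] using this
      have hG : cert1.G = kX := by decide +kernel
      ext y
      constructor
      · rintro ⟨w, hw, rfl⟩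
        rw [Set.mem_setOf_eq, hG] at hw
        obtain ⟨i, hi, rfl⟩ := List.getElem_of_mem hw
        have hi' : i < 8 := hi
        refine ⟨_, ⟨kW.getD i [], ?_, rfl⟩, ?_⟩
        · rw [Set.mem_setOf_eq, List.getD_eq_getElem _ _ (show i < kW.length from hi')]
          exact List.getElem_mem _
        · rw [← List.getD_eq_getElem _ [] hi, ← hk i hi']
          simp [mul_assoc]
      · rintro ⟨_, ⟨w, hw, rfl⟩, rfl⟩
        obtain ⟨i, hi, rfl⟩ := List.getElem_of_mem hw
        refine ⟨kX.getD i [], ?_, ?_⟩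
        · rw [Set.mem_setOf_eq, hG, List.getD_eq_getElem _ _ (show i < kX.length from hi)]
          exact List.getElem_mem _
        · rw [← hk i hi, List.getD_eq_getElem _ _ hi]
          simp [mul_assoc]
    rw [e, ← Nat.card_congr (S0.equivMapOfInjective _ (MulAut.conj Z⁻¹).injective).toEquiv, card_S0]

/-! ### the other three stabilisers -/

theorem orb_ncard {j : ℕ} (h : e j ≠ 0) : (orb j).ncard = e j := by
  haveI := Classical.propDecidable (pt j ∈ U j)
  have hn : pt j ∉ U j := fun hm => h (by rw [e, if_pos hm])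
  rw [e, if_neg hn]

theorem card_X {j v M : ℕ} (hj : e j = v) (hv : v * M = 5859000000) : Nat.card (X (reps j)) = M := by
  have hv0 : 0 < v := Nat.pos_of_ne_zero fun h => by rw [h] at hv; simp at hv
  have h := orb_mul j
  rw [orb_ncard (by omega), hj, card_H, ← hv] at h
  exact Nat.eq_of_mul_eq_mul_left hv0 h

theorem card_closure {G : List (List ℕ)} {T : CosetCertCore.Tbl} {M v0 N : ℕ}
    (h : LyOrbitDiv41.orbOk G T M v0 = true) (hN : ((List.range 3906).filter (Nat.testBit M)).length = N) :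
    ∃ m, Nat.card (Subgroup.closure (ev '' {w | w ∈ G})) = N * m ∧
      ((∃ s : List ℕ, ∃ u, okW (gw G s) = true ∧ (∀ i ∈ s, i < G.length) ∧ u < 3906 ∧ walkG (gw G s) v0 = v0 ∧
        Nat.beq (walkG (gw G s) u) u = false) → 2 ≤ m) := by
  have hc := LyOrbitDiv41.orbit_card h hN
  set S := Subgroup.closure (ev '' {w | w ∈ G}) with hS
  simp only [LyOrbitDiv41.orbOk, Bool.and_eq_true, List.all_eq_true, Nat.blt_eq] at h
  have hle : S ≤ HLy := by
    rw [hS, Subgroup.closure_le]
    rintro _ ⟨w, hw, rfl⟩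
    exact ev_H (h.1.1.1 w hw)
  haveI : Finite S := finite_le hle
  refine ⟨Nat.card (MulAction.stabilizer S (pt' v0)), ?_, ?_⟩
  · rw [← hc, ← Nat.card_prod, Nat.card_congr (MulAction.orbitProdStabilizerEquivGroup S (pt' v0))]
  · rintro ⟨s, u, hok, hs, hu, hfix, hmove⟩
    have hst : (⟨ev (gw G s), gw_mem hs⟩ : S)⁻¹ ∈ MulAction.stabilizer S (pt' v0) := by
      rw [MulAction.mem_stabilizer_iff]
      show (ev (gw G s))⁻¹ • pt' v0 = pt' v0
      rw [(walk_pt hok h.1.1.2).2, hfix]
    have hne : (⟨_, hst⟩ : MulAction.stabilizer S (pt' v0)) ≠ 1 := fun e => by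
      have e' : (ev (gw G s))⁻¹ = 1 := congrArg (fun z : MulAction.stabilizer S (pt' v0) => ((z : S) : L)) e
      have h1 := (walk_pt hok hu).2
      rw [e', one_smul] at h1
      have h2 := pt'_inj hu (walk_pt hok hu).1 h1
      rw [← h2] at hmove
      simp at hmove
    haveI := nontrivial_of_ne _ _ hne
    exact Finite.one_lt_card

theorem closure_le_X {g : L} {G : List (List ℕ)} (h : ∀ i < G.length, ev (G.getD i []) ∈ X g) :
    Subgroup.closure (ev '' {w | w ∈ G}) ≤ X g := by
  rw [Subgroup.closure_le]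
  rintro _ ⟨w, hw, rfl⟩
  obtain ⟨i, hi, rfl⟩ := List.getElem_of_mem hw
  have := h i hi
  rwa [List.getD_eq_getElem _ _ hi] at this

theorem grp2 : cert2.grp = X (reps 2) := by
  have hG : cert2.G = gens2 := by decide +kernel
  rw [Cls.grp, hG]
  have hle := closure_le_X gens_mem2
  haveI : Finite (X g2) := finite_le inf_le_left
  haveI : Finite (X (reps 2)) := finite_le inf_le_left
  obtain ⟨m, hm, -⟩ := card_closure LyOrbitDiv41.orb_ok2 LyOrbitDiv41.len2
  have hX : Nat.card (X g2) = 1008 := card_X (j := 2) sizes.1 (by norm_num)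
  haveI : Finite (Subgroup.closure (ev '' {w | w ∈ gens2})) :=
    Finite.of_injective _ (Subgroup.inclusion_injective hle)
  have hd := Subgroup.card_dvd_of_le hle
  rw [hX] at hd
  have hpos : 0 < Nat.card (Subgroup.closure (ev '' {w | w ∈ gens2})) := Nat.card_pos
  refine Subgroup.eq_of_le_of_card_ge hle (le_of_eq_of_le hX ?_)
  rcases Nat.eq_zero_or_pos m with rfl | h0
  · omega
  · rw [hm]; exact Nat.le_mul_of_pos_right _ h0

theorem grp3 : cert3.grp = X (reps 3) := by
  have hG : cert3.G = gens3 := by decide +kernel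
  rw [Cls.grp, hG]
  have hle := closure_le_X gens_mem3
  haveI : Finite (X g3) := finite_le inf_le_left
  haveI : Finite (X (reps 3)) := finite_le inf_le_left
  obtain ⟨m, hm, h2⟩ := card_closure LyOrbitDiv41.orb_ok3 LyOrbitDiv41.len3
  have h2' := h2 ⟨[2, 5, 3, 2, 5, 5], 0, by decide +kernel, by decide, by norm_num, by decide +kernel,
    by decide +kernel⟩
  refine Subgroup.eq_of_le_of_card_ge hle (le_of_eq_of_le (card_X (j := 3) sizes.2.1 (M := 2880) (by norm_num)) ?_)
  rw [hm]; omega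

theorem grp4 : cert4.grp = X (reps 4) := by
  have hG : cert4.G = gens4 := by decide +kernel
  rw [Cls.grp, hG]
  have hle := closure_le_X gens_mem4
  haveI : Finite (X g4) := finite_le inf_le_left
  haveI : Finite (X (reps 4)) := finite_le inf_le_left
  obtain ⟨m, hm, h2⟩ := card_closure LyOrbitDiv41.orb_ok4 LyOrbitDiv41.len4
  have h2' := h2 ⟨[2, 2, 3, 1, 2, 3, 3], 0, by decide +kernel, by decide, by norm_num, by decide +kernel,
    by decide +kernel⟩
  have hX : Nat.card (X g4) = 6048 := card_X (j := 4) sizes.2.2 (by norm_num)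
  have hd := Subgroup.card_dvd_of_le hle
  rw [hX, hm] at hd
  refine Subgroup.eq_of_le_of_card_ge hle (le_of_eq_of_le hX ?_)
  rw [hm]
  rcases Nat.lt_or_ge m 3 with h3 | h3
  · obtain rfl : m = 2 := by omega
    norm_num at hd
  · omega

/-! ### the conjugates of the element -/

/-- The conjugates of the element inside a subgroup. -/
def cls (S : Subgroup L) : Set L := {y | y ∈ S ∧ ∃ g ∈ HLy, y = g * x * g⁻¹}

theorem count_of {C : Cls} {S : Subgroup L} (hS : C.grp = S) (h : C.clsOk = true) (h2 : C.sylOk = true)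
    {w : List ℕ} (hsame : same (w ++ xw) (C.T ++ w) = true) {k m : ℕ} (hcard : Nat.card S = 3 ^ k * m)
    (hm : ¬ 3 ∣ m) (hk : C.S.length = 3 ^ k) :
    (cls S).ncard = C.n ∧ ∀ y ∈ cls S, ∃ s ∈ S, y = s * ev C.T * s⁻¹ := by
  subst hS
  have hwok : okW w = true := by
    have := (same_ok hsame).1
    rw [okW_iff] at this ⊢
    exact fun i hi => this i (List.mem_append_left _ hi)
  have hw : ev w * x = ev C.T * ev w := by
    have := eq_ev hsame
    rwa [ev_append, ev_append] at this
  obtain ⟨h1, h3⟩ := count h h2 (m := m) (by rw [hk]; exact hcard) hm hk x_H x_pow x_ne hwok hw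
  exact ⟨h1, fun y hy => h3 y hy.1 hy.2⟩

theorem countP : (cls P).ncard = 500 ∧ ∀ y ∈ cls P, ∃ s ∈ P, y = s * ev certP.T * s⁻¹ :=
  count_of grpP LyMcL73CheckP.clsP LyMcL73CheckP.sylP (w := wP) (by decide +kernel) (k := 1) (m := 500000)
    (by rw [card_P]; norm_num) (by norm_num) (by decide +kernel)

theorem grp1_eq : cert1.grp = X (reps 1) := by
  haveI : Finite (X (reps 1)) := finite_le inf_le_left
  exact Subgroup.eq_of_le_of_card_ge grp1.1 (le_of_eq_of_le (card_XZ : Nat.card (X (reps 1)) = 300000)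
    (le_of_eq grp1.2.symm))

theorem count1 : (cls (X (reps 1))).ncard = 200 ∧
    ∀ y ∈ cls (X (reps 1)), ∃ s ∈ X (reps 1), y = s * ev cert1.T * s⁻¹ :=
  count_of grp1_eq LyMcL73CheckB.cls1 LyMcL73CheckB.syl1 (w := w1) (by decide +kernel) (k := 1) (m := 100000)
    (by rw [show reps 1 = Z from rfl, card_XZ]; norm_num) (by norm_num) (by decide +kernel)

theorem count2 : (cls (X (reps 2))).ncard = 2 ∧
    ∀ y ∈ cls (X (reps 2)), ∃ s ∈ X (reps 2), y = s * ev cert2.T * s⁻¹ :=
  count_of grp2 LyMcL73CheckA.cls2 LyMcL73CheckA.syl2 (w := w2) (by decide +kernel) (k := 2) (m := 112)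
    (by rw [card_X (j := 2) sizes.1 (M := 1008) (by norm_num)]; norm_num) (by norm_num) (by decide +kernel)

theorem count3 : (cls (X (reps 3))).ncard = 20 ∧
    ∀ y ∈ cls (X (reps 3)), ∃ s ∈ X (reps 3), y = s * ev cert3.T * s⁻¹ :=
  count_of grp3 LyMcL73CheckA.cls3 LyMcL73CheckA.syl3 (w := w3) (by decide +kernel) (k := 2) (m := 320)
    (by rw [card_X (j := 3) sizes.2.1 (M := 2880) (by norm_num)]; norm_num) (by norm_num) (by decide +kernel)

theorem count4 : (cls (X (reps 4))).ncard = 56 ∧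
    ∀ y ∈ cls (X (reps 4)), ∃ s ∈ X (reps 4), y = s * ev cert4.T * s⁻¹ :=
  count_of grp4 LyMcL73CheckD.cls4 LyMcL73CheckD.syl4 (w := w4) (by decide +kernel) (k := 3) (m := 224)
    (by rw [card_X (j := 4) sizes.2.2 (M := 6048) (by norm_num)]; norm_num) (by norm_num) (by decide +kernel)

end Cfsg.Agent.LyMcL73Groups
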