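import Cfsg.Agent.Lib.LyMcL73Groups
import Cfsg.Agent.S0144

/-!
The centraliser of the element of order three inside G2(5): it has order 378000, it is perfect, and its only normal
subgroups through the element are the group of order three and itself.
-/

set_option autoImplicit false
set_option maxRecDepth 100000
set_option maxHeartbeats 1000000

namespace Cfsg.Agent.LyMcL73Local

open Cfsg.Agent.LyG2Five64 Cfsg.Agent.LyOrbitCore41 Cfsg.Agent.LyOrbitCover41 Cfsg.Agent.LyOrbitCount41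
open Cfsg.Agent.LyMcL73Base Cfsg.Agent.LyMcL73Data Cfsg.Agent.LyMcL73Groups

/-- The centraliser inside G2(5). -/
noncomputable def CH : Subgroup L := Subgroup.centralizer ({x} : Set L) ⊓ HLy

theorem mem_CH {h : L} : h ∈ CH ↔ h * x = x * h ∧ h ∈ HLy := by
  rw [CH, Subgroup.mem_inf, Subgroup.mem_centralizer_singleton_iff]

theorem x_CH : x ∈ CH := mem_CH.mpr ⟨rfl, x_H⟩

theorem CH_le : CH ≤ HLy := inf_le_right

/-- The order of a subgroup by an orbit and a stabiliser. -/
theorem card_orbit {A α : Type*} [Group A] [MulAction A α] (S T : Subgroup A) (p : α)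
    (hT : ∀ s, s ∈ T ↔ s ∈ S ∧ s • p = p) :
    Nat.card S = (MulAction.orbit S p).ncard * Nat.card T := by
  have e : MulAction.stabilizer S p = T.subgroupOf S := by
    ext ⟨s, hs⟩
    rw [MulAction.mem_stabilizer_iff, Subgroup.mem_subgroupOf, hT]
    exact ⟨fun h => ⟨hs, h⟩, fun h => h.2⟩
  rw [← Nat.card_congr (MulAction.orbitProdStabilizerEquivGroup S p), Nat.card_prod, Nat.card_coe_set_eq, e,
    Nat.card_congr (Subgroup.subgroupOfEquivOfLe fun s hs => ((hT s).mp hs).1).toEquiv]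

theorem card_cent :
    Nat.card (Subgroup.centralizer ({⟨x, x_H⟩} : Set HLy)) = Nat.card CH := by
  have e : Subgroup.centralizer ({⟨x, x_H⟩} : Set HLy) = CH.subgroupOf HLy := by
    ext ⟨h, hh⟩
    rw [Subgroup.mem_centralizer_singleton_iff, Subgroup.mem_subgroupOf, mem_CH, Subtype.ext_iff]
    exact ⟨fun e => ⟨e, hh⟩, fun e => e.1⟩
  rw [e, Nat.card_congr (Subgroup.subgroupOfEquivOfLe CH_le).toEquiv]

/-- Fixed points in an orbit of G2(5). -/
def fixIn {α : Type*} [MulAction L α] (p : α) : Set α := {q | (∃ t ∈ HLy, t • p = q) ∧ x • q = q}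

theorem fix_card {α : Type*} [MulAction L α] (p : α) (S : Subgroup L) (hle : S ≤ HLy)
    (hS : ∀ t ∈ HLy, t • p = p ↔ t ∈ S) :
    (fixIn p).ncard * Nat.card S = (cls S).ncard * Nat.card CH := by
  haveI := finite_H
  set B := MulAction.stabilizer HLy p
  have hB : B = S.subgroupOf HLy := by
    ext ⟨t, ht⟩
    rw [MulAction.mem_stabilizer_iff, Subgroup.mem_subgroupOf]
    exact hS t ht
  have h := fix_count B (⟨x, x_H⟩ : HLy)
  rw [card_cent] at h
  have e1 : fixIn p = MulAction.ofQuotientStabilizer HLy p ''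
      {q : HLy ⧸ B | (⟨x, x_H⟩ : HLy) • q = q} := by
    ext q
    constructor
    · rintro ⟨⟨t, ht, rfl⟩, hq⟩
      refine ⟨QuotientGroup.mk ⟨t, ht⟩, ?_, rfl⟩
      apply MulAction.injective_ofQuotientStabilizer HLy p
      rw [MulAction.ofQuotientStabilizer_smul]
      exact hq
    · rintro ⟨q, hq, rfl⟩
      induction q using QuotientGroup.induction_on with
      | H t =>
        refine ⟨⟨t, t.2, rfl⟩, ?_⟩
        have := congrArg (MulAction.ofQuotientStabilizer HLy p) (Set.mem_setOf_eq ▸ hq)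
        rwa [MulAction.ofQuotientStabilizer_smul] at this
  have e2 : {y : HLy | y ∈ B ∧ ∃ a, y = a * ⟨x, x_H⟩ * a⁻¹}.ncard = (cls S).ncard := by
    rw [← Set.ncard_image_of_injective _ Subtype.val_injective]
    congr 1
    ext y
    constructor
    · rintro ⟨⟨y, hy⟩, ⟨hyB, a, ha⟩, rfl⟩
      rw [hB, Subgroup.mem_subgroupOf] at hyB
      exact ⟨hyB, a, a.2, congrArg Subtype.val ha⟩
    · rintro ⟨hy, g, hg, rfl⟩
      refine ⟨⟨_, hle hy⟩, ⟨?_, ⟨g, hg⟩, rfl⟩, rfl⟩
      rw [hB, Subgroup.mem_subgroupOf]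
      exact hy
  rw [e1, Set.ncard_image_of_injective _ (MulAction.injective_ofQuotientStabilizer HLy p), ← e2,
    ← Nat.card_congr (Subgroup.subgroupOfEquivOfLe hle).toEquiv, ← hB]
  exact h

/-- The fixed points in an orbit form one orbit of the centraliser. -/
theorem fixed_orbit {α : Type*} [MulAction L α] (p : α) (S : Subgroup L)
    (hS : ∀ t ∈ HLy, t • p = p ↔ t ∈ S) {T w : L} (hcls : ∀ y ∈ cls S, ∃ s ∈ S, y = s * T * s⁻¹)
    (hle : S ≤ HLy) (hw : w ∈ HLy) (hwx : w * x = T * w) :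
    ∀ q ∈ fixIn p, ∀ q' ∈ fixIn p, ∃ c ∈ CH, c • q = q' := by
  suffices H : ∀ q ∈ fixIn p, ∃ c ∈ CH, q = c • (w⁻¹ • p) by
    intro q hq q' hq'
    obtain ⟨c, hc, rfl⟩ := H q hq
    obtain ⟨c', hc', rfl⟩ := H q' hq'
    exact ⟨c' * c⁻¹, mul_mem hc' (inv_mem hc), by rw [mul_smul, inv_smul_smul]⟩
  rintro q ⟨⟨a, ha, rfl⟩, hq⟩
  have hmem : a⁻¹ * x * a ∈ S := by
    rw [← hS _ (mul_mem (mul_mem (inv_mem ha) x_H) ha), mul_smul, mul_smul, hq, inv_smul_smul]
  obtain ⟨s, hs, e⟩ := hcls _ ⟨hmem, a⁻¹, inv_mem ha, by rw [inv_inv]⟩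
  refine ⟨a * s * w, mem_CH.mpr ⟨?_, mul_mem (mul_mem ha (hle hs)) hw⟩, ?_⟩
  · calc a * s * w * x = a * s * (w * x) := by group
      _ = a * s * (T * w) := by rw [hwx]
      _ = a * (s * T * s⁻¹) * (s * w) := by group
      _ = a * (a⁻¹ * x * a) * (s * w) := by rw [← e]
      _ = x * (a * s * w) := by group
  · rw [mul_smul, smul_inv_smul, mul_smul, (hS s (hle hs)).mpr hs]

theorem fixIn_smul {α : Type*} [MulAction L α] {p q : α} {c : L} (hc : c ∈ CH) (hq : q ∈ fixIn p) :
    c • q ∈ fixIn p := by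
  obtain ⟨⟨t, ht, rfl⟩, hx⟩ := hq
  refine ⟨⟨c * t, mul_mem (CH_le hc) ht, by rw [mul_smul]⟩, ?_⟩
  rw [← mul_smul, ← (mem_CH.mp hc).1, mul_smul, hx]

/-! ### the 126 fixed points -/

theorem pt'_zero : pt' 0 = ((1 : L) : L ⧸ P) := by rw [pt', rp_zero, inv_one]

theorem stab_P (t : L) : t • pt' 0 = pt' 0 ↔ t ∈ P := by
  rw [pt'_zero, MulAction.Quotient.smul_mk, QuotientGroup.eq, smul_eq_mul, mul_one, mul_one, inv_mem_iff]

/-- A fixed point of the element. -/
noncomputable def isFix (v : ℕ) : Bool := Nat.beq (walkG xw v) v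

theorem smul_x {v : ℕ} (hv : v < 3906) : x • pt' v = pt' v ↔ isFix v = true := by
  obtain ⟨h1, h2⟩ := walk_pt xw_ok hv
  rw [isFix, Nat.beq_eq, show ev xw = x from rfl] at *
  constructor
  · intro e
    refine pt'_inj h1 hv ?_
    rw [← h2, inv_smul_eq_iff, e]
  · intro e
    rw [e, inv_smul_eq_iff] at h2
    exact h2.symm

/-- The fixed points of the element among the cosets of the parabolic subgroup. -/
def Om : Set (L ⧸ P) := fixIn (pt' 0)

theorem Om_eq : Om = pt' '' {v | v < 3906 ∧ isFix v = true} := by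
  ext q
  constructor
  · rintro ⟨⟨t, ht, rfl⟩, hx⟩
    obtain ⟨v, hv, κ, hκ, e⟩ := H_cover (inv_mem ht)
    have e' : t • pt' 0 = pt' v := by
      rw [pt'_zero, MulAction.Quotient.smul_mk, smul_eq_mul, mul_one, pt', QuotientGroup.eq, e,
        mul_inv_cancel_right]
      exact hκ
    rw [e'] at hx ⊢
    exact ⟨v, ⟨hv, (smul_x hv).mp hx⟩, rfl⟩
  · rintro ⟨v, ⟨hv, hf⟩, rfl⟩
    refine ⟨⟨(rp v)⁻¹, inv_mem rp_H, ?_⟩, (smul_x hv).mpr hf⟩
    rw [pt'_zero, MulAction.Quotient.smul_mk, smul_eq_mul, mul_one]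
    rfl

theorem fix_len : ((List.range 3906).filter isFix).length = 126 := by decide +kernel

theorem Om_ncard : Om.ncard = 126 := by
  have e : {v | v < 3906 ∧ isFix v = true} = (((List.range 3906).filter isFix).toFinset : Set ℕ) := by
    ext v; simp
  rw [Om_eq, Set.ncard_image_of_injOn (fun a ha b hb h => pt'_inj ha.1 hb.1 h), e, Set.ncard_coe_finset,
    List.toFinset_card_of_nodup (List.nodup_range.filter _), fix_len]

theorem mem_Om {v : ℕ} (hv : v < 3906) (hf : isFix v = true) : pt' v ∈ Om := by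
  rw [Om_eq]
  exact ⟨v, ⟨hv, hf⟩, rfl⟩

theorem pt0_Om : pt' 0 ∈ Om := ⟨⟨1, one_mem _, one_smul _ _⟩, (stab_P x).mpr x_P⟩

theorem card_CH : Nat.card CH = 378000 := by
  have h := fix_card (pt' 0) P P_le fun t _ => stab_P t
  rw [show fixIn (pt' 0) = Om from rfl, Om_ncard, card_P, countP.1] at h
  omega

theorem finite_CH : Finite CH := finite_le CH_le

theorem wP_eq : ev wP * x = ev certP.T * ev wP := by
  have := eq_ev (v := wP ++ xw) (w := certP.T ++ wP) (by decide +kernel)
  rwa [ev_append, ev_append] at this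

theorem Om_trans : ∀ q ∈ Om, ∀ q' ∈ Om, ∃ c ∈ CH, c • q = q' :=
  fixed_orbit (pt' 0) P (fun t _ => stab_P t) countP.2 P_le (ev_H (w := wP) (by decide)) wP_eq

/-! ### three commutators -/

/-- One of the three commutators. -/
def cw (i : ℕ) : List ℕ := (comms.getD i ([], [], [])).1

/-- It is a commutator of elements of the centraliser. -/
noncomputable def comOk (i : ℕ) : Bool :=
  let t := comms.getD i ([], [], [])
  same (t.2.1 ++ xw) (xw ++ t.2.1) && same (t.2.2 ++ xw) (xw ++ t.2.2) &&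
    same t.1 (t.2.1 ++ t.2.2 ++ invW t.2.1 ++ invW t.2.2)

theorem com_ok : ((List.range 3).all comOk) = true := by decide +kernel

theorem comm_CH {w : List ℕ} (h : same (w ++ xw) (xw ++ w) = true) : okW w = true ∧ ev w ∈ CH := by
  have hok : okW w = true := by
    have := (same_ok h).1
    rw [okW_iff] at this ⊢
    exact fun i hi => this i (List.mem_append_left _ hi)
  have e := eq_ev h
  rw [ev_append, ev_append] at e
  exact ⟨hok, mem_CH.mpr ⟨e, ev_H hok⟩⟩

theorem cw_comm {i : ℕ} (hi : i < 3) : okW (cw i) = true ∧ ev (cw i) ∈ ⁅CH, CH⁆ := by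
  have h := List.all_eq_true.mp com_ok i (List.mem_range.mpr hi)
  simp only [comOk, Bool.and_eq_true] at h
  obtain ⟨⟨ha, hb⟩, hc⟩ := h
  refine ⟨(same_ok hc).1, ?_⟩
  obtain ⟨oa, ma⟩ := comm_CH ha
  obtain ⟨ob, mb⟩ := comm_CH hb
  have e := eq_ev hc
  rw [ev_append, ev_append, ev_append, ev_invW oa, ev_invW ob] at e
  rw [cw, e, ← commutatorElement_def]
  exact Subgroup.commutator_mem_commutator ma mb

theorem cw_CH {i : ℕ} (hi : i < 3) : ev (cw i) ∈ CH := Subgroup.commutator_le_self CH (cw_comm hi).2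

theorem walk_facts : walkG (cw 0) 0 = 0 ∧ walkG (cw 1) 0 = 0 ∧ walkG (cw 0) v125 = v125 ∧
    Nat.beq (walkG (cw 2) 0) 0 = false := by decide +kernel

/-- The element of order 24. -/
noncomputable def s : L := ev (cw 0)

theorem ev_rep (w : List ℕ) : ∀ n : ℕ, ev (List.replicate n w).flatten = ev w ^ n := by
  intro n
  induction n with
  | zero => simp [ev_nil]
  | succ n ih => rw [List.replicate_succ, List.flatten_cons, ev_append, ih, pow_succ']

theorem s_eight : s ^ 8 = x := by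
  rw [s, ← ev_rep]
  exact eq_ev (by decide +kernel)

theorem s_twelve : ∃ q ∈ Om, s ^ 12 • q ≠ q := by
  obtain ⟨hlt, hf, hne⟩ : 199 < 3906 ∧ isFix 199 = true ∧
      Nat.beq (walkG (List.replicate 12 (cw 0)).flatten 199) 199 = false :=
    ⟨by norm_num, by decide +kernel, by decide +kernel⟩
  refine ⟨pt' 199, mem_Om hlt hf, fun e => ?_⟩
  have hok : okW (List.replicate 12 (cw 0)).flatten = true := by decide +kernel
  obtain ⟨h1, h2⟩ := walk_pt hok hlt
  rw [ev_rep, ← s] at h2
  rw [inv_smul_eq_iff.mpr e.symm] at h2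
  have h3 := pt'_inj hlt h1 h2
  rw [← h3] at hne
  simp at hne

theorem order_s : orderOf s = 24 := by
  have h24 : s ^ 24 = 1 := by rw [show 24 = 8 * 3 from rfl, pow_mul, s_eight, x_pow]
  refine orderOf_eq_of_pow_and_pow_div_prime (by norm_num) h24 fun p hp hd => ?_
  have : p = 2 ∨ p = 3 := by
    have hle := Nat.le_of_dvd (by norm_num) hd
    interval_cases p <;> first | omega | exact absurd hp (by norm_num)
  rcases this with rfl | rfl
  · obtain ⟨q, -, hq⟩ := s_twelve
    intro e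
    rw [show 24 / 2 = 12 from rfl] at e
    exact hq (by rw [e, one_smul])
  · rw [show 24 / 3 = 8 from rfl, s_eight]
    exact x_ne

theorem s_fix {v : ℕ} (hv : v < 3906) (h : walkG (cw 0) v = v) : s • pt' v = pt' v := by
  have := (walk_pt (cw_comm (by norm_num : 0 < 3)).1 hv).2
  rw [h, inv_smul_eq_iff] at this
  exact this.symm

theorem cw_fix {i : ℕ} (hi : i < 2) : ev (cw i) • pt' 0 = pt' 0 := by
  have := (walk_pt (cw_comm (hi.trans (by norm_num) : i < 3)).1 (v := 0) (by norm_num)).2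
  have h : walkG (cw i) 0 = 0 := by
    interval_cases i
    · exact walk_facts.1
    · exact walk_facts.2.1
  rw [h, inv_smul_eq_iff] at this
  exact this.symm

/-! ### the stabiliser of a point -/

/-- The stabiliser of the first point. -/
noncomputable def K1 : Subgroup L := CH ⊓ P

/-- The subgroup generated by two commutators. -/
noncomputable def K2 : Subgroup L := Subgroup.closure (ev '' {w | w ∈ [cw 0, cw 1]})

theorem cw_K2 {i : ℕ} (hi : i < 2) : ev (cw i) ∈ K2 :=
  Subgroup.subset_closure ⟨cw i, by interval_cases i <;> simp, rfl⟩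

theorem K2_le : K2 ≤ K1 := by
  rw [K2, Subgroup.closure_le]
  have H : ∀ i < 2, ev (cw i) ∈ K1 := fun i hi =>
    Subgroup.mem_inf.mpr ⟨cw_CH (hi.trans (by norm_num)), (stab_P _).mp (cw_fix hi)⟩
  rintro _ ⟨w, hw, rfl⟩
  simp only [Set.mem_setOf_eq, List.mem_cons, List.not_mem_nil, or_false] at hw
  rcases hw with rfl | rfl
  · exact H 0 (by norm_num)
  · exact H 1 (by norm_num)

theorem orbit_CH : MulAction.orbit CH (pt' 0) = Om := by
  ext q
  constructor
  · rintro ⟨⟨c, hc⟩, rfl⟩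
    exact fixIn_smul hc pt0_Om
  · intro hq
    obtain ⟨c, hc, rfl⟩ := Om_trans _ pt0_Om q hq
    exact ⟨⟨c, hc⟩, rfl⟩

theorem mem_K1 (t : L) : t ∈ K1 ↔ t ∈ CH ∧ t • pt' 0 = pt' 0 := by rw [K1, Subgroup.mem_inf, stab_P]

theorem card_K1 : Nat.card K1 = 3000 := by
  have h := card_orbit CH K1 (pt' 0) mem_K1
  rw [card_CH] at h
  erw [orbit_CH, Om_ncard] at h
  omega

theorem orb125 : MulAction.orbit K2 (pt' v125) = Om \ {pt' 0} := by
  haveI : Finite CH := finite_CH
  have h0 : LyOrbitDiv41.orbOk [cw 0, cw 1] forest125 mask125 v125 = true := by decide +kernel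
  have hc : Nat.card (MulAction.orbit K2 (pt' v125)) = 125 :=
    LyOrbitDiv41.orbit_card (G := [cw 0, cw 1]) h0 (by decide +kernel)
  rw [Nat.card_coe_set_eq] at hc
  have hv : v125 < 3906 := by decide
  refine Set.eq_of_subset_of_ncard_le ?_ (by
    rw [Set.ncard_sdiff_singleton_of_mem pt0_Om, Om_ncard, hc]) ((Set.finite_of_ncard_ne_zero (by
      rw [Om_ncard]; norm_num)).sdiff)
  rintro _ ⟨⟨k, hk⟩, rfl⟩
  have hk1 := (mem_K1 k).mp (K2_le hk)
  refine ⟨fixIn_smul hk1.1 (mem_Om hv (by decide +kernel)), ?_⟩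
  intro (e : k • pt' v125 = pt' 0)
  have e2 := e.trans hk1.2.symm
  have := pt'_inj hv (by norm_num) (MulAction.injective k e2)
  revert this
  decide

theorem K2_eq : K2 = K1 := by
  haveI : Finite K1 := finite_le (inf_le_right.trans P_le)
  refine Subgroup.eq_of_le_of_card_ge K2_le ?_
  have h := card_orbit K2 (K2 ⊓ MulAction.stabilizer L (pt' v125)) (pt' v125)
    (fun t => by rw [Subgroup.mem_inf, MulAction.mem_stabilizer_iff])
  erw [orb125, Set.ncard_sdiff_singleton_of_mem pt0_Om, Om_ncard] at h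
  have hle : Subgroup.zpowers s ≤ K2 ⊓ MulAction.stabilizer L (pt' v125) :=
    Subgroup.zpowers_le.mpr (Subgroup.mem_inf.mpr ⟨cw_K2 (by norm_num),
      MulAction.mem_stabilizer_iff.mpr (s_fix (by decide) walk_facts.2.2.1)⟩)
  haveI : Finite K2 := Finite.of_injective _ (Subgroup.inclusion_injective K2_le)
  haveI : Finite ↥(K2 ⊓ MulAction.stabilizer L (pt' v125)) :=
    Finite.of_injective _ (Subgroup.inclusion_injective inf_le_left)
  have h24 := Nat.le_of_dvd Nat.card_pos (Subgroup.card_dvd_of_le hle)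
  rw [Nat.card_zpowers, order_s] at h24
  rw [card_K1, h]
  omega

theorem two_trans : ∀ q ∈ Om, q ≠ pt' 0 → ∀ q' ∈ Om, q' ≠ pt' 0 → ∃ k ∈ K1, k • q = q' := by
  intro q hq hne q' hq' hne'
  have h1 : q ∈ MulAction.orbit K2 (pt' v125) := by rw [orb125]; exact ⟨hq, hne⟩
  have h2 : q' ∈ MulAction.orbit K2 (pt' v125) := by rw [orb125]; exact ⟨hq', hne'⟩
  obtain ⟨⟨a, ha⟩, rfl⟩ := h1
  obtain ⟨⟨b, hb⟩, rfl⟩ := h2
  refine ⟨b * a⁻¹, K2_eq ▸ mul_mem hb (inv_mem ha), ?_⟩
  show (b * a⁻¹) • a • pt' v125 = b • pt' v125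
  rw [mul_smul, inv_smul_smul]

/-- What fixes all the fixed points is a power of the element. -/
theorem faithful {t : L} (ht : t ∈ CH) (h : ∀ q ∈ Om, t • q = q) : t ∈ Subgroup.zpowers x := by
  haveI : Finite K1 := finite_le (inf_le_right.trans P_le)
  have hst : K2 ⊓ MulAction.stabilizer L (pt' v125) = Subgroup.zpowers s := by
    haveI : Finite ↥(K2 ⊓ MulAction.stabilizer L (pt' v125)) :=
      Finite.of_injective _ (Subgroup.inclusion_injective (inf_le_left.trans K2_le))
    symm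
    refine Subgroup.eq_of_le_of_card_ge (Subgroup.zpowers_le.mpr (Subgroup.mem_inf.mpr ⟨cw_K2 (by norm_num),
      MulAction.mem_stabilizer_iff.mpr (s_fix (by decide) walk_facts.2.2.1)⟩)) ?_
    have h := card_orbit K2 (K2 ⊓ MulAction.stabilizer L (pt' v125)) (pt' v125)
      (fun t => by rw [Subgroup.mem_inf, MulAction.mem_stabilizer_iff])
    erw [orb125, Set.ncard_sdiff_singleton_of_mem pt0_Om, Om_ncard] at h
    rw [K2_eq, card_K1] at h
    rw [Nat.card_zpowers, order_s, K2_eq]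
    omega
  have hmem : t ∈ Subgroup.zpowers s := by
    rw [← hst, Subgroup.mem_inf, K2_eq, mem_K1, MulAction.mem_stabilizer_iff]
    exact ⟨⟨ht, h _ pt0_Om⟩, h _ (mem_Om (by decide) (by decide +kernel))⟩
  haveI : Finite (Subgroup.zpowers s) := Nat.finite_of_card_ne_zero (by rw [Nat.card_zpowers, order_s]; norm_num)
  obtain ⟨i, hi, rfl⟩ : ∃ i < 24, s ^ i = t := by
    obtain ⟨i, hi⟩ := Subgroup.mem_zpowers_iff.mp hmem
    refine ⟨(i % 24).toNat, by omega, ?_⟩
    rw [← hi, ← zpow_natCast, Int.toNat_of_nonneg (by omega), show (24 : ℤ) = (orderOf s : ℤ) by rw [order_s]; rfl,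
      zpow_mod_orderOf]
  obtain ⟨q, hq, hne⟩ := s_twelve
  -- if eight does not divide the exponent, a power of the element is the involution
  have key : ∀ k, ∀ m, i * k = 24 * m + 12 → False := by
    intro k m e
    refine hne ?_
    have e2 : (s ^ i) ^ k = s ^ 12 := by
      rw [← pow_mul, e, pow_add, pow_mul, ← order_s, pow_orderOf_eq_one, one_pow, one_mul]
    rw [← e2]
    have hfix : s ^ i ∈ MulAction.stabilizer L q := h q hq
    exact pow_mem hfix k
  have hdiv : 8 ∣ i := by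
    by_contra hn
    have : ∀ i < 24, ¬ 8 ∣ i → ∃ k < 24, (i * k) % 24 = 12 := by decide
    obtain ⟨k, -, hk⟩ := this i hi hn
    exact key k (i * k / 24) (by omega)
  obtain ⟨j, rfl⟩ := hdiv
  rw [pow_mul, s_eight]
  exact pow_mem (Subgroup.mem_zpowers x) j

/-! ### normal subgroups -/

/-- A normalised subgroup moving the first point is transitive on the fixed points. -/
theorem trans_of {M : Subgroup L} (hM : M ≤ CH) (hN : ∀ c ∈ CH, ∀ m ∈ M, c * m * c⁻¹ ∈ M)
    (hmove : ∃ m ∈ M, m • pt' 0 ≠ pt' 0) : MulAction.orbit M (pt' 0) = Om := by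
  obtain ⟨m, hm, hne⟩ := hmove
  ext q
  constructor
  · rintro ⟨⟨t, ht⟩, rfl⟩
    exact fixIn_smul (hM ht) pt0_Om
  · intro hq
    rcases eq_or_ne q (pt' 0) with rfl | hq0
    · exact MulAction.mem_orbit_self _
    obtain ⟨k, hk, rfl⟩ := two_trans _ (fixIn_smul (hM hm) pt0_Om) hne q hq hq0
    refine ⟨⟨k * m * k⁻¹, hN k (Subgroup.mem_inf.mp hk).1 m hm⟩, ?_⟩
    show (k * m * k⁻¹) • pt' 0 = k • m • pt' 0
    rw [mul_smul, mul_smul, inv_smul_eq_iff.mpr ((mem_K1 k).mp hk).2.symm]

theorem perfect : CH ≤ ⁅CH, CH⁆ := by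
  set D := ⁅CH, CH⁆
  have hD : D ≤ CH := Subgroup.commutator_le_self CH
  have hN : ∀ c ∈ CH, ∀ m ∈ D, c * m * c⁻¹ ∈ D := by
    intro c hc m hm
    have hle : D.map (MulAut.conj c).toMonoidHom ≤ D := by
      rw [Subgroup.map_commutator]
      refine Subgroup.commutator_mono ?_ ?_ <;>
      · rintro _ ⟨y, hy, rfl⟩
        exact mul_mem (mul_mem hc hy) (inv_mem hc)
    exact hle ⟨m, hm, rfl⟩
  have hmove : ev (cw 2) • pt' 0 ≠ pt' 0 := by
    intro e
    have h := (walk_pt (cw_comm (by norm_num : 2 < 3)).1 (v := 0) (by norm_num)).2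
    rw [inv_smul_eq_iff.mpr e.symm] at h
    have h2 := pt'_inj (by norm_num) (walk_pt (cw_comm (by norm_num : 2 < 3)).1 (v := 0) (by norm_num)).1 h
    have h3 := walk_facts.2.2.2
    rw [← h2] at h3
    simp at h3
  have ht := trans_of hD hN ⟨_, (cw_comm (by norm_num)).2, hmove⟩
  have hK : K1 ≤ D := by
    rw [← K2_eq, K2, Subgroup.closure_le]
    rintro _ ⟨w, hw, rfl⟩
    simp only [Set.mem_setOf_eq, List.mem_cons, List.not_mem_nil, or_false] at hw
    rcases hw with rfl | rfl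
    · exact (cw_comm (by norm_num)).2
    · exact (cw_comm (by norm_num)).2
  intro c hc
  have : c • pt' 0 ∈ MulAction.orbit D (pt' 0) := ht ▸ fixIn_smul hc pt0_Om
  obtain ⟨⟨m, hm⟩, e⟩ := this
  have hmk : m⁻¹ * c ∈ K1 := by
    rw [mem_K1]
    refine ⟨mul_mem (inv_mem (hD hm)) hc, ?_⟩
    rw [mul_smul, ← show m • pt' 0 = c • pt' 0 from e, inv_smul_smul]
  have := mul_mem hm (hK hmk)
  rwa [mul_inv_cancel_left] at this

theorem normal_CH {M : Subgroup L} (hM : M ≤ CH) (hN : ∀ c ∈ CH, ∀ m ∈ M, c * m * c⁻¹ ∈ M)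
    (hx : x ∈ M) : M = Subgroup.zpowers x ∨ M = CH := by
  by_cases hmove : ∃ m ∈ M, m • pt' 0 ≠ pt' 0
  · right
    haveI : Finite CH := finite_CH
    haveI : Finite M := Finite.of_injective _ (Subgroup.inclusion_injective hM)
    have ht := trans_of hM hN hmove
    have h := card_orbit M (M ⊓ P) (pt' 0) (fun t => by rw [Subgroup.mem_inf, stab_P])
    erw [ht, Om_ncard] at h
    have h3 : 3 ∣ Nat.card ↥(M ⊓ P) := by
      have := Subgroup.card_dvd_of_le (Subgroup.zpowers_le.mpr (Subgroup.mem_inf.mpr ⟨hx, x_P⟩))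
      rwa [Nat.card_zpowers, order_x] at this
    set N := M.subgroupOf CH
    haveI : N.Normal := ⟨fun m hm c => hN c c.2 m hm⟩
    have hcN : Nat.card N = Nat.card M := Nat.card_congr (Subgroup.subgroupOfEquivOfLe hM).toEquiv
    have hi := Subgroup.card_mul_index N
    rw [hcN, card_CH, h] at hi
    obtain ⟨k, hk⟩ := h3
    rw [hk] at hi
    have hd : N.index ∣ 2 ^ 3 * 5 ^ 3 := by
      refine ⟨k, ?_⟩
      have : 378 * (N.index * k) = 378 * (2 ^ 3 * 5 ^ 3) := by
        rw [← Nat.mul_right_inj (show (1 : ℕ) ≠ 0 by norm_num), one_mul]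
        ring_nf at hi ⊢
        omega
      exact (Nat.eq_of_mul_eq_mul_left (by norm_num) this).symm
    obtain ⟨d1, d2, h1, h2, e⟩ := (Nat.dvd_mul.mp hd)
    obtain ⟨a, -, rfl⟩ := (Nat.dvd_prime_pow (by norm_num : Nat.Prime 2)).mp h1
    obtain ⟨b, -, rfl⟩ := (Nat.dvd_prime_pow (by norm_num : Nat.Prime 5)).mp h2
    haveI : Group.IsSolvable (CH ⧸ N) := S0144.result 2 5 a b (by norm_num) (by norm_num)
      (by rw [← Subgroup.index_eq_card, e])
    have hperf : commutator (CH ⧸ N) = ⊤ := by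
      have hc : commutator CH = ⊤ := by
        apply Subgroup.map_injective CH.subtype_injective
        rw [commutator_def, Subgroup.map_commutator, ← MonoidHom.range_eq_map, Subgroup.range_subtype]
        exact le_antisymm (Subgroup.commutator_le_self CH) perfect
      have hs := QuotientGroup.mk'_surjective N
      rw [commutator_def, ← Subgroup.map_top_of_surjective _ hs, ← Subgroup.map_commutator, ← commutator_def, hc,
        Subgroup.map_top_of_surjective _ hs]
    have hsub : Subsingleton (CH ⧸ N) := by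
      by_contra hn
      haveI := not_subsingleton_iff_nontrivial.mp hn
      exact absurd hperf (Group.IsSolvable.commutator_lt_top_of_nontrivial (G := CH ⧸ N)).ne
    refine le_antisymm hM fun c hc => ?_
    have := (QuotientGroup.eq_one_iff (⟨c, hc⟩ : CH)).mp
      (Subsingleton.elim ((⟨c, hc⟩ : CH) : CH ⧸ N) 1)
    exact this
  · left
    simp only [not_exists, not_and, not_not] at hmove
    refine le_antisymm (fun m hm => faithful (hM hm) fun q hq => ?_) (Subgroup.zpowers_le.mpr hx)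
    obtain ⟨c, hc, rfl⟩ := Om_trans _ pt0_Om q hq
    have := hmove _ (hN c⁻¹ (inv_mem hc) m hm)
    rw [inv_inv, mul_smul, mul_smul, inv_smul_eq_iff] at this
    exact this

end Cfsg.Agent.LyMcL73Local
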