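import Cfsg.Agent.Lib.LyMultCore66
import Cfsg.Agent.Lib.LyG2Five64
import Cfsg.Agent.Lib.HNMult52
import Cfsg.Agent.S2100

/-!
The multiplier of the presented Lyons group is trivial, given that the group is finite: the copy of G2(5)
lifts, and `z` can be lifted so that all relations hold.
-/

set_option autoImplicit false
set_option maxRecDepth 100000
set_option maxHeartbeats 2000000

namespace Cfsg.Agent.LyMult66

open Cfsg Cfsg.Lie Cfsg.Agent.LyG2Five64 Cfsg.Agent.LyMultWords66

/-- The generators other than `z` as words in the letters. -/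
def wd : Spor.Ly.Gen → List ℕ
  | .a => [0]
  | .b => [1]
  | .c => [2]
  | .d => [7]
  | .z => []
  | .e => [8]
  | .a1 => [0]
  | .a2 => [1, 0, 10]
  | .a3 => [1, 1, 0, 10, 10]
  | .a4 => wT
  | .c1 => [2]
  | .c2 => [3]
  | .c3 => [4]
  | .c4 => [5]
  | .c5 => [6]
  | .u => wU
  | .x23 => [7]
  | .x24 => [16]
  | .x25 => w25
  | .x29 => w29
  | .x47 => w47
  | .x96 => w96
  | .x129 => w129
  | .x162 => hW.getD 0 []
  | .x163 => hW.getD 1 []
  | .x164 => hW.getD 2 []
  | .x165 => hW.getD 3 []
  | .x166 => hW.getD 4 []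
  | .x167 => hW.getD 5 []
  | .x168 => hW.getD 6 []
  | .x169 => hW.getD 7 []
  | .x364 => w364
  | .x365 => w365
  | .x366 => w366
  | .x367 => w367
  | .x368 => w368
  | .x369 => w369
  | .x370 => w370
  | .x371 => w371

theorem wd_lt : ∀ g, ∀ i ∈ wd g, i < 18 := by
  intro g; cases g <;> decide

theorem mk_wd (g : Spor.Ly.Gen) (hg : g ≠ .z) : ((wd g).map letLy).prod = mk (FreeGroup.of g) := by
  symm
  cases g
  case a => simp [wd, letLy]
  case b => simp [wd, letLy]
  case c => simp [wd, letLy]
  case d => simp [wd, letLy]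
  case z => exact absurd rfl hg
  case e =>
    have h := mk_rel 28 (by decide)
    simp [Spor.Ly.extra] at h
    rw [← mul_inv_eq_one]
    simpa [wd, wT, wU, hW, w25, w29, w47, w96, w129, w364, w365, w366, w367, w368, w369, w370, w371, letLy, mk_c1, mul_inv_rev, pow_succ, mul_assoc] using h
  case a1 =>
    have h := mk_rel 44 (by decide)
    simp [Spor.Ly.extra] at h
    rw [← mul_inv_eq_one]
    simpa [wd, wT, wU, hW, w25, w29, w47, w96, w129, w364, w365, w366, w367, w368, w369, w370, w371, letLy, mk_c1, mul_inv_rev, pow_succ, mul_assoc] using h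
  case a2 =>
    have h := mk_rel 45 (by decide)
    simp [Spor.Ly.extra] at h
    rw [← mul_inv_eq_one]
    simpa [wd, wT, wU, hW, w25, w29, w47, w96, w129, w364, w365, w366, w367, w368, w369, w370, w371, letLy, mk_c1, mul_inv_rev, pow_succ, mul_assoc] using h
  case a3 =>
    have h := mk_rel 46 (by decide)
    simp [Spor.Ly.extra] at h
    rw [← mul_inv_eq_one]
    simpa [wd, wT, wU, hW, w25, w29, w47, w96, w129, w364, w365, w366, w367, w368, w369, w370, w371, letLy, mk_c1, mul_inv_rev, pow_succ, mul_assoc] using h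
  case a4 =>
    have h := mk_rel 47 (by decide)
    simp [Spor.Ly.extra] at h
    rw [← mul_inv_eq_one]
    simpa [wd, wT, wU, hW, w25, w29, w47, w96, w129, w364, w365, w366, w367, w368, w369, w370, w371, letLy, mk_c1, mul_inv_rev, pow_succ, mul_assoc] using h
  case c1 =>
    have h := mk_rel 5 (by decide)
    simp [Spor.Ly.extra] at h
    rw [← mul_inv_eq_one]
    simpa [wd, wT, wU, hW, w25, w29, w47, w96, w129, w364, w365, w366, w367, w368, w369, w370, w371, letLy, mk_c1, mul_inv_rev, pow_succ, mul_assoc] using h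
  case c2 => simp [wd, letLy]
  case c3 => simp [wd, letLy]
  case c4 => simp [wd, letLy]
  case c5 => simp [wd, letLy]
  case u =>
    have h := mk_rel 48 (by decide)
    simp [Spor.Ly.extra] at h
    rw [← mul_inv_eq_one]
    simpa [wd, wT, wU, hW, w25, w29, w47, w96, w129, w364, w365, w366, w367, w368, w369, w370, w371, letLy, mk_c1, mul_inv_rev, pow_succ, mul_assoc] using h
  case x23 =>
    have h := mk_rel 49 (by decide)
    simp [Spor.Ly.extra] at h
    rw [← mul_inv_eq_one]
    simpa [wd, wT, wU, hW, w25, w29, w47, w96, w129, w364, w365, w366, w367, w368, w369, w370, w371, letLy, mk_c1, mul_inv_rev, pow_succ, mul_assoc] using h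
  case x24 =>
    have h := mk_rel 50 (by decide)
    simp [Spor.Ly.extra] at h
    rw [← mul_inv_eq_one]
    simpa [wd, wT, wU, hW, w25, w29, w47, w96, w129, w364, w365, w366, w367, w368, w369, w370, w371, letLy, mk_c1, mul_inv_rev, pow_succ, mul_assoc] using h
  case x25 =>
    have h := mk_rel 51 (by decide)
    simp [Spor.Ly.extra] at h
    rw [← mul_inv_eq_one]
    simpa [wd, wT, wU, hW, w25, w29, w47, w96, w129, w364, w365, w366, w367, w368, w369, w370, w371, letLy, mk_c1, mul_inv_rev, pow_succ, mul_assoc] using h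
  case x29 =>
    have h := mk_rel 52 (by decide)
    simp [Spor.Ly.extra] at h
    rw [← mul_inv_eq_one]
    simpa [wd, wT, wU, hW, w25, w29, w47, w96, w129, w364, w365, w366, w367, w368, w369, w370, w371, letLy, mk_c1, mul_inv_rev, pow_succ, mul_assoc] using h
  case x47 =>
    have h := mk_rel 53 (by decide)
    simp [Spor.Ly.extra] at h
    rw [← mul_inv_eq_one]
    simpa [wd, wT, wU, hW, w25, w29, w47, w96, w129, w364, w365, w366, w367, w368, w369, w370, w371, letLy, mk_c1, mul_inv_rev, pow_succ, mul_assoc] using h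
  case x96 =>
    have h := mk_rel 54 (by decide)
    simp [Spor.Ly.extra] at h
    rw [← mul_inv_eq_one]
    simpa [wd, wT, wU, hW, w25, w29, w47, w96, w129, w364, w365, w366, w367, w368, w369, w370, w371, letLy, mk_c1, mul_inv_rev, pow_succ, mul_assoc] using h
  case x129 =>
    have h := mk_rel 55 (by decide)
    simp [Spor.Ly.extra] at h
    rw [← mul_inv_eq_one]
    simpa [wd, wT, wU, hW, w25, w29, w47, w96, w129, w364, w365, w366, w367, w368, w369, w370, w371, letLy, mk_c1, mul_inv_rev, pow_succ, mul_assoc] using h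
  case x162 =>
    have h := mk_rel 56 (by decide)
    simp [Spor.Ly.extra] at h
    rw [← mul_inv_eq_one]
    simpa [wd, wT, wU, hW, w25, w29, w47, w96, w129, w364, w365, w366, w367, w368, w369, w370, w371, letLy, mk_c1, mul_inv_rev, pow_succ, mul_assoc] using h
  case x163 =>
    have h := mk_rel 57 (by decide)
    simp [Spor.Ly.extra] at h
    rw [← mul_inv_eq_one]
    simpa [wd, wT, wU, hW, w25, w29, w47, w96, w129, w364, w365, w366, w367, w368, w369, w370, w371, letLy, mk_c1, mul_inv_rev, pow_succ, mul_assoc] using h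
  case x164 =>
    have h := mk_rel 58 (by decide)
    simp [Spor.Ly.extra] at h
    rw [← mul_inv_eq_one]
    simpa [wd, wT, wU, hW, w25, w29, w47, w96, w129, w364, w365, w366, w367, w368, w369, w370, w371, letLy, mk_c1, mul_inv_rev, pow_succ, mul_assoc] using h
  case x165 =>
    have h := mk_rel 59 (by decide)
    simp [Spor.Ly.extra] at h
    rw [← mul_inv_eq_one]
    simpa [wd, wT, wU, hW, w25, w29, w47, w96, w129, w364, w365, w366, w367, w368, w369, w370, w371, letLy, mk_c1, mul_inv_rev, pow_succ, mul_assoc] using h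
  case x166 =>
    have h := mk_rel 60 (by decide)
    simp [Spor.Ly.extra] at h
    rw [← mul_inv_eq_one]
    simpa [wd, wT, wU, hW, w25, w29, w47, w96, w129, w364, w365, w366, w367, w368, w369, w370, w371, letLy, mk_c1, mul_inv_rev, pow_succ, mul_assoc] using h
  case x167 =>
    have h := mk_rel 61 (by decide)
    simp [Spor.Ly.extra] at h
    rw [← mul_inv_eq_one]
    simpa [wd, wT, wU, hW, w25, w29, w47, w96, w129, w364, w365, w366, w367, w368, w369, w370, w371, letLy, mk_c1, mul_inv_rev, pow_succ, mul_assoc] using h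
  case x168 =>
    have h := mk_rel 62 (by decide)
    simp [Spor.Ly.extra] at h
    rw [← mul_inv_eq_one]
    simpa [wd, wT, wU, hW, w25, w29, w47, w96, w129, w364, w365, w366, w367, w368, w369, w370, w371, letLy, mk_c1, mul_inv_rev, pow_succ, mul_assoc] using h
  case x169 =>
    have h := mk_rel 63 (by decide)
    simp [Spor.Ly.extra] at h
    rw [← mul_inv_eq_one]
    simpa [wd, wT, wU, hW, w25, w29, w47, w96, w129, w364, w365, w366, w367, w368, w369, w370, w371, letLy, mk_c1, mul_inv_rev, pow_succ, mul_assoc] using h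
  case x364 =>
    have h := mk_rel 64 (by decide)
    simp [Spor.Ly.extra] at h
    rw [← mul_inv_eq_one]
    simpa [wd, wT, wU, hW, w25, w29, w47, w96, w129, w364, w365, w366, w367, w368, w369, w370, w371, letLy, mk_c1, mul_inv_rev, pow_succ, mul_assoc] using h
  case x365 =>
    have h := mk_rel 65 (by decide)
    simp [Spor.Ly.extra] at h
    rw [← mul_inv_eq_one]
    simpa [wd, wT, wU, hW, w25, w29, w47, w96, w129, w364, w365, w366, w367, w368, w369, w370, w371, letLy, mk_c1, mul_inv_rev, pow_succ, mul_assoc] using h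
  case x366 =>
    have h := mk_rel 66 (by decide)
    simp [Spor.Ly.extra] at h
    rw [← mul_inv_eq_one]
    simpa [wd, wT, wU, hW, w25, w29, w47, w96, w129, w364, w365, w366, w367, w368, w369, w370, w371, letLy, mk_c1, mul_inv_rev, pow_succ, mul_assoc] using h
  case x367 =>
    have h := mk_rel 67 (by decide)
    simp [Spor.Ly.extra] at h
    rw [← mul_inv_eq_one]
    simpa [wd, wT, wU, hW, w25, w29, w47, w96, w129, w364, w365, w366, w367, w368, w369, w370, w371, letLy, mk_c1, mul_inv_rev, pow_succ, mul_assoc] using h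
  case x368 =>
    have h := mk_rel 68 (by decide)
    simp [Spor.Ly.extra] at h
    rw [← mul_inv_eq_one]
    simpa [wd, wT, wU, hW, w25, w29, w47, w96, w129, w364, w365, w366, w367, w368, w369, w370, w371, letLy, mk_c1, mul_inv_rev, pow_succ, mul_assoc] using h
  case x369 =>
    have h := mk_rel 69 (by decide)
    simp [Spor.Ly.extra] at h
    rw [← mul_inv_eq_one]
    simpa [wd, wT, wU, hW, w25, w29, w47, w96, w129, w364, w365, w366, w367, w368, w369, w370, w371, letLy, mk_c1, mul_inv_rev, pow_succ, mul_assoc] using h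
  case x370 =>
    have h := mk_rel 70 (by decide)
    simp [Spor.Ly.extra] at h
    rw [← mul_inv_eq_one]
    simpa [wd, wT, wU, hW, w25, w29, w47, w96, w129, w364, w365, w366, w367, w368, w369, w370, w371, letLy, mk_c1, mul_inv_rev, pow_succ, mul_assoc] using h
  case x371 =>
    have h := mk_rel 71 (by decide)
    simp [Spor.Ly.extra] at h
    rw [← mul_inv_eq_one]
    simpa [wd, wT, wU, hW, w25, w29, w47, w96, w129, w364, w365, w366, w367, w368, w369, w370, w371, letLy, mk_c1, mul_inv_rev, pow_succ, mul_assoc] using h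

/-- The letters in the copy of G2(5). -/
noncomputable def rl (i : ℕ) : R := if h : i < 18 then ⟨let2 i, let2_mem h⟩ else 1

/-- The value of a word in the copy of G2(5). -/
noncomputable def nf (w : List ℕ) : R := (w.map rl).prod

theorem nf_append (v w : List ℕ) : nf (v ++ w) = nf v * nf w := by simp [nf]

theorem coe_nf {w : List ℕ} (hw : ∀ i ∈ w, i < 18) :
    (nf w : Amb) = ((w.map letLy).prod, (w.map letG).prod) := by
  rw [nf, ← prod_let2, ← Subgroup.coe_subtype, map_list_prod, List.map_map]
  refine congrArg List.prod (List.map_congr_left fun i hi => ?_)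
  simp [rl, hw i hi]

theorem nf_same {v w : List ℕ} (h : same v w = true) : nf v = nf w := by
  simp only [same, Bool.and_eq_true, List.all_eq_true, Nat.blt_eq] at h
  obtain ⟨⟨hv, hw⟩, he⟩ := h
  apply toG_injective
  show (nf v : Amb).2 = (nf w : Amb).2
  rw [coe_nf hv, coe_nf hw]
  apply Units.ext
  rw [coe_prod fun g hg => (hv g hg).trans (by norm_num), coe_prod fun g hg => (hw g hg).trans (by norm_num)]
  exact word_eq (fun g hg => (hv g hg).trans (by norm_num)) (fun g hg => (hw g hg).trans (by norm_num)) he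

/-- The generators other than `z` in the copy of G2(5). -/
noncomputable def imR (g : Spor.Ly.Gen) : R := nf (wd g)

theorem toLy_imR (g : Spor.Ly.Gen) (hg : g ≠ .z) : toLy (imR g) = mk (FreeGroup.of g) := by
  show (nf (wd g) : Amb).1 = _
  rw [coe_nf (wd_lt g)]
  exact mk_wd g hg

theorem perfect : commutator R = ⊤ := by
  haveI : IsSimpleGroup (chevG2.group K5) := (S1055.result ⟨2, by decide, by decide⟩).1
  haveI : Nontrivial R := equivG.toEquiv.nontrivial
  haveI : IsSimpleGroup R := IsSimpleGroup.isSimpleGroup_of_surjective equivG.symm.toMonoidHom equivG.symm.surjective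
  refine (Subgroup.Normal.eq_bot_or_eq_top inferInstance).resolve_left fun h => ?_
  obtain ⟨u, v, huv⟩ : ∃ u v : chevG2.group K5, u * v ≠ v * u := by
    by_contra! hc
    exact (S1055.result (F := K5) ⟨2, by decide, by decide⟩).2 ⟨⟨hc⟩⟩
  refine huv (equivG.symm.injective ?_)
  have := Subgroup.commutator_eq_bot_iff_le_centralizer.mp ((commutator_def R).symm.trans h)
    (Subgroup.mem_top (equivG.symm u))
  rw [map_mul, map_mul]
  exact (Subgroup.mem_centralizer_iff.mp this _ (Subgroup.mem_top (equivG.symm v))).symm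

open scoped commutatorElement in
theorem commutator_congr {E : Type} [Group E] {u u' v v' : E} (hu : u⁻¹ * u' ∈ Subgroup.center E)
    (hv : v⁻¹ * v' ∈ Subgroup.center E) : ⁅u', v'⁆ = ⁅u, v⁆ := by
  obtain ⟨p, hp⟩ : ∃ p, p = u⁻¹ * u' := ⟨_, rfl⟩
  obtain ⟨w, hw⟩ : ∃ w, w = v⁻¹ * v' := ⟨_, rfl⟩
  rw [← hp] at hu; rw [← hw] at hv
  have cp := Subgroup.mem_center_iff.mp hu
  have cw := Subgroup.mem_center_iff.mp hv
  rw [show u' = u * p by rw [hp]; group, show v' = v * w by rw [hw]; group]
  simp only [commutatorElement_def, mul_inv_rev]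
  calc u * p * (v * w) * (p⁻¹ * u⁻¹) * (w⁻¹ * v⁻¹)
      = u * (p * (v * w)) * (p⁻¹ * u⁻¹) * (w⁻¹ * v⁻¹) := by group
    _ = u * v * (w * u⁻¹) * (w⁻¹ * v⁻¹) := by rw [← cp]; group
    _ = u * v * u⁻¹ * v⁻¹ := by rw [← cw]; group

open scoped commutatorElement

section Stem

variable {E : Type} [Group E] [Finite E] (σ : E →* Spor.Ly) (hσ : IsStemExtension σ)
include hσ

/-- Every finite stem extension is trivial. -/
theorem ker_eq_bot : σ.ker = ⊥ := by
  obtain ⟨hs, hc, hder⟩ := hσ
  have hA : ∀ a ∈ σ.ker, ∀ g : E, a * g = g * a := fun a ha g =>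
    (Subgroup.mem_center_iff.mp (hc ha) g).symm
  let τ : (⊤ : Subgroup R) →* chevG2.group K5 := equivG.toMonoidHom.comp Subgroup.topEquiv.toMonoidHom
  have hτi : Function.Injective τ := equivG.injective.comp Subgroup.topEquiv.injective
  have hτ : τ.ker = ⊥ := (MonoidHom.ker_eq_bot_iff τ).mpr hτi
  obtain ⟨D, hD, hD1, -⟩ := HNMult52.perfect_lift σ hs hc toLy toLy_injective ⊤ τ
    (equivG.surjective.comp Subgroup.topEquiv.surjective) (hτ ▸ bot_le)
    ((commutator_def R).symm.trans perfect) fun Γ _ _ φ hφ => by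
      obtain ⟨-, h⟩ := S2100.result (F := K5) (by simp)
      obtain ⟨π, hπ⟩ := h Γ φ hφ
      rw [hτ, Subgroup.card_bot]
      have := Nat.card_le_card_of_surjective π hπ
      simpa [Nat.card_congr Multiplicative.toAdd] using this
  have hDeq : ∀ u ∈ D, ∀ v ∈ D, σ u = σ v → u = v := fun u hu v hv h =>
    inv_mul_eq_one.mp (hD1 _ (mul_mem (inv_mem hu) hv) (by rw [map_mul, map_inv, h, inv_mul_cancel]))
  have hlift : ∀ r : R, ∃ w ∈ D, σ w = toLy r := fun r =>
    Subgroup.mem_map.mp (hD ▸ Subgroup.mem_map_of_mem toLy (Subgroup.mem_top r))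
  choose l hlD hl using hlift
  let ℓ : R →* E := MonoidHom.mk' l fun p q =>
    hDeq _ (hlD _) _ (mul_mem (hlD p) (hlD q)) (by rw [hl, map_mul, map_mul, hl, hl])
  let C : LyMultCore66.Ctx E :=
    { L := fun w => ℓ (nf w)
      app := fun v w => by rw [nf_append, map_mul]
      hsame := fun v w h => by rw [nf_same h]
      A := σ.ker
      cen := hA }
  have hσℓ : ∀ g, g ≠ .z → σ (ℓ (imR g)) = mk (FreeGroup.of g) := fun g hg =>
    (hl (imR g)).trans (toLy_imR g hg)
  obtain ⟨z0, hz0⟩ := hs (mk Spor.Ly.z)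
  have hK : ∀ (r : FreeGroup Spor.Ly.Gen) (j : ℕ), j < Spor.Ly.extra.length →
      Spor.Ly.extra.getD j 1 = r → mk r = 1 := fun r j hj h => h ▸ mk_rel j hj
  let im0 : E → Spor.Ly.Gen → E := fun y g => if g = .z then y else ℓ (imR g)
  have hσim : ∀ g, σ (im0 z0 g) = mk (FreeGroup.of g) := fun g => by
    by_cases h : g = .z
    · subst h; exact hz0
    · simp only [im0, if_neg h]; exact hσℓ g h
  have hmem : ∀ r ∈ Spor.Ly.extra, FreeGroup.lift (im0 z0) r ∈ σ.ker := fun r hr => by
    have : σ.comp (FreeGroup.lift (im0 z0)) = mk := FreeGroup.ext_hom _ _ fun g => by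
      simpa using hσim g
    rw [MonoidHom.mem_ker, ← MonoidHom.comp_apply, this]
    exact PresentedGroup.one_of_mem (Or.inr hr)
  have hlow : ∀ r ∈ Spor.Ly.extra.take 72, ∀ y, FreeGroup.lift (im0 y) r = ℓ (FreeGroup.lift imR r) ∧
      toLy (FreeGroup.lift imR r) = mk r := by
    simp (discharger := decide) only [Spor.Ly.extra, List.take_succ_cons, List.take_zero, List.forall_mem_cons,
      map_mul, map_pow, map_inv, FreeGroup.lift_apply_of, toLy_imR, im0, if_neg, List.not_mem_nil,
      false_implies, implies_true, and_true, reduceCtorEq, if_false, and_self]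
  have hd := fun r hr => hmem r (List.mem_of_mem_drop (i := 72) hr)
  simp only [Spor.Ly.extra, List.drop_succ_cons, List.drop_zero, List.forall_mem_cons, map_mul, map_pow,
    map_inv, FreeGroup.lift_apply_of, im0, if_true, reduceCtorEq, if_false, List.not_mem_nil,
    false_implies, implies_true, and_true, pow_succ, pow_zero, one_mul] at hd
  obtain ⟨h73, h74, h75, h76, h77, h78, h79, h80, h81, h82, h83, h84, h85, h86⟩ := hd
  obtain ⟨g, hg, hy⟩ := C.main z0 (fun i hi => by
      interval_cases i
      exacts [h73, h74, h75, h76, h77, h78, h79, h80]) h81 h82 h83 h84 h85 h86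
  obtain ⟨e73, e81, e82, e83, e84, e85, e86⟩ := hy _ rfl
  let im := im0 (z0 * g)
  have hrel : ∀ r ∈ Spor.coxRelators Spor.Ly.edges ∪ {r | r ∈ Spor.Ly.extra},
      FreeGroup.lift im r = 1 := by
    rintro r (⟨a, ha, -⟩ | hr)
    · simp [Spor.coxNodes, Spor.Ly.edges] at ha
    replace hr : r ∈ Spor.Ly.extra.take 72 ++ Spor.Ly.extra.drop 72 := by
      rw [List.take_append_drop]; exact hr
    rcases List.mem_append.mp hr with h | h
    · obtain ⟨h1, h2⟩ := hlow r h (z0 * g)
      rw [h1, toLy_injective (a₂ := 1) (h2.trans ((PresentedGroup.one_of_mem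
        (Or.inr (List.mem_of_mem_take h))).trans (map_one _).symm)), map_one]
    clear hr
    revert r
    simp only [Spor.Ly.extra, List.drop_succ_cons, List.drop_zero, List.forall_mem_cons, map_mul, map_pow,
      map_inv, FreeGroup.lift_apply_of, im, im0, if_true, reduceCtorEq, if_false, List.not_mem_nil,
      false_implies, implies_true, and_true, pow_succ, pow_zero, one_mul]
    refine ⟨?_, ?_, ?_, ?_, ?_, ?_, ?_, ?_, ?_, e82, e83, e84, e85, e86⟩
    exacts [mul_inv_eq_one.mpr (e73 0 (by norm_num)), mul_inv_eq_one.mpr (e73 1 (by norm_num)),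
      mul_inv_eq_one.mpr (e73 2 (by norm_num)), mul_inv_eq_one.mpr (e73 3 (by norm_num)),
      mul_inv_eq_one.mpr (e73 4 (by norm_num)), mul_inv_eq_one.mpr (e73 5 (by norm_num)),
      mul_inv_eq_one.mpr (e73 6 (by norm_num)), mul_inv_eq_one.mpr (e73 7 (by norm_num)),
      mul_inv_eq_one.mpr e81]
  let S : Spor.Ly →* E := PresentedGroup.toGroup hrel
  have hid : ∀ u, σ (S u) = u := by
    have : σ.comp S = MonoidHom.id Spor.Ly := by
      refine PresentedGroup.ext fun u => ?_
      show σ (S (PresentedGroup.of u)) = PresentedGroup.of u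
      rw [show S (PresentedGroup.of u) = im u from PresentedGroup.toGroup.of hrel]
      by_cases h : u = .z
      · subst h
        show σ (z0 * g) = _
        rw [map_mul, hz0, MonoidHom.mem_ker.mp hg, mul_one]
        rfl
      · simp only [im, im0, if_neg h]; exact hσℓ u h
    exact fun u => DFunLike.congr_fun this u
  rw [Subgroup.eq_bot_iff_forall]
  intro a ha
  have hle : commutator E ≤ S.range := by
    rw [commutator_def, Subgroup.commutator_le]
    intro u _ v _
    refine ⟨⁅σ u, σ v⁆, ?_⟩
    rw [map_commutatorElement]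
    obtain ⟨u', hu'⟩ : ∃ u', u' = S (σ u) := ⟨_, rfl⟩
    obtain ⟨v', hv'⟩ : ∃ v', v' = S (σ v) := ⟨_, rfl⟩
    rw [← hu', ← hv']
    have hu : u⁻¹ * u' ∈ Subgroup.center E := hc (by rw [MonoidHom.mem_ker, map_mul, map_inv, hu', hid, inv_mul_cancel])
    have hv : v⁻¹ * v' ∈ Subgroup.center E := hc (by rw [MonoidHom.mem_ker, map_mul, map_inv, hv', hid, inv_mul_cancel])
    exact commutator_congr hu hv
  obtain ⟨x, rfl⟩ := hle (hder ha)
  rw [← hid x, MonoidHom.mem_ker.mp ha, map_one]

end Stem

/-- The multiplier is trivial once the group is finite. -/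
theorem multiplier [Finite Spor.Ly] : HasCyclicSchurMultiplier Spor.Ly 1 := by
  refine ⟨⟨Spor.Ly, inferInstance, inferInstance, MonoidHom.id _, ⟨Function.surjective_id, ?_, ?_⟩, ?_⟩,
    fun Γ _ _ σ hσ => ⟨1, ?_⟩⟩
  · rw [MonoidHom.ker_id]; exact bot_le
  · rw [MonoidHom.ker_id]; exact bot_le
  · rw [MonoidHom.ker_id]
    exact ⟨MulEquiv.ofUnique⟩
  · haveI : Subsingleton σ.ker := by rw [ker_eq_bot σ hσ]; infer_instance
    exact fun z => ⟨1, Subsingleton.elim _ _⟩

end Cfsg.Agent.LyMult66
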