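import Cfsg.Agent.Lib.LyMultWords66

/-!
If the relations of the Lyons group involving `z` hold modulo a central subgroup, for a lift of the copy of
G2(5) and some element `z`, then they hold exactly after changing `z` by a central element.
-/

set_option autoImplicit false
set_option maxRecDepth 100000

namespace Cfsg.Agent.LyMultCore66

open Cfsg.Agent.LyMultWords66

/-- A lift of the copy of G2(5) and a central subgroup. -/
structure Ctx (E : Type*) [Group E] where
  L : List ℕ → E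
  app : ∀ v w, L (v ++ w) = L v * L w
  hsame : ∀ v w, same v w = true → L v = L w
  A : Subgroup E
  cen : ∀ a ∈ A, ∀ g : E, a * g = g * a

namespace Ctx

variable {E : Type*} [Group E] (C : Ctx E)

theorem L_nil : C.L [] = 1 := by
  have h := C.app [] []
  rwa [List.nil_append, left_eq_mul] at h

theorem one_of {v : List ℕ} (h : same v [] = true) : C.L v = 1 := (C.hsame _ _ h).trans C.L_nil

theorem L_wi {w : List ℕ} (h : same (wi w ++ w) [] = true) : C.L (wi w) = (C.L w)⁻¹ := by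
  have := C.one_of h
  rw [C.app] at this
  exact eq_inv_of_mul_eq_one_left this

theorem tw (t : E) (G H : List (List ℕ)) (α : ℕ → E) (hα : ∀ i, α i ∈ C.A)
    (h : ∀ i, t⁻¹ * C.L (G.getD i []) * t = C.L (H.getD i []) * α i) (l : List ℕ) :
    t⁻¹ * C.L (subw G l) * t = C.L (subw H l) * (l.map α).prod := by
  induction l with
  | nil => simp [subw, C.L_nil]
  | cons i l ih =>
    simp only [subw, List.flatMap_cons, List.map_cons, List.prod_cons, C.app] at ih ⊢
    calc t⁻¹ * (C.L (G.getD i []) * C.L (l.flatMap fun j => G.getD j [])) * t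
        = (t⁻¹ * C.L (G.getD i []) * t) * (t⁻¹ * C.L (l.flatMap fun j => G.getD j []) * t) := by group
      _ = C.L (H.getD i []) * (α i * C.L (l.flatMap fun j => H.getD j [])) * (l.map α).prod := by
        rw [h, ih]; simp only [mul_assoc]
      _ = _ := by rw [C.cen _ (hα i)]; simp only [mul_assoc]

theorem tw_eq (t : E) (G H : List (List ℕ)) (α : ℕ → E) (hα : ∀ i, α i ∈ C.A)
    (h : ∀ i, t⁻¹ * C.L (G.getD i []) * t = C.L (H.getD i []) * α i) {l l' : List ℕ}
    (hG : same (subw G l) (subw G l') = true) (hH : same (subw H l) (subw H l') = true) :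
    (l.map α).prod = (l'.map α).prod := by
  have e := C.tw t G H α hα h l
  rw [C.hsame _ _ hG, C.tw t G H α hα h l', C.hsame _ _ hH] at e
  exact (mul_left_cancel e).symm

/-- Conjugation by `z` on the domain is exact. -/
def Conj (z : E) : Prop := ∀ l : List ℕ, z⁻¹ * C.L (subw gW l) * z = C.L (subw hW l)

theorem conj_exact {z : E}
    (h : ∀ i < 8, z⁻¹ * C.L (gW.getD i []) * z * (C.L (hW.getD i []))⁻¹ ∈ C.A) (d : E)
    (hd : d ∈ C.A) (hz : z * z = C.L wU * d) (e : E) (he : e ∈ C.A)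
    (ht : (C.L wT * z) * (C.L wT * z) * (C.L wT * z) * C.L wU = e) : C.Conj z := by
  obtain ⟨α, hα⟩ : ∃ α : ℕ → E, α = fun i => z⁻¹ * C.L (gW.getD i []) * z * (C.L (hW.getD i []))⁻¹ :=
    ⟨_, rfl⟩
  have hm : ∀ i, α i ∈ C.A := by
    intro i
    subst hα
    by_cases hi : i < 8
    · exact h i hi
    · show z⁻¹ * C.L (gW.getD i []) * z * (C.L (hW.getD i []))⁻¹ ∈ C.A
      rw [List.getD_eq_default _ _ (by simp [gW]; omega), List.getD_eq_default _ _ (by simp [hW]; omega),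
        C.L_nil]
      simp
  have heq : ∀ i, z⁻¹ * C.L (gW.getD i []) * z = C.L (hW.getD i []) * α i := fun i => by
    rw [← C.cen _ (hm i), hα]; group
  have rel : ∀ l l', same (subw gW l) (subw gW l') = true → same (subw hW l) (subw hW l') = true →
      (l.map α).prod = (l'.map α).prod := fun l l' => C.tw_eq z gW hW α hm heq
  have cm : ∀ i j, α i * α j = α j * α i := fun i j => C.cen _ (hm i) _
  have r5 := rel [1, 0, 4] [0, 1] (by decide +kernel) (by decide +kernel)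
  simp only [List.map_cons, List.map_nil, List.prod_cons, List.prod_nil, mul_one] at r5
  have h4 : α 4 = 1 := by rwa [cm 0 1, mul_right_inj, mul_eq_left] at r5
  have o0 := rel [0, 0, 0, 0, 0] [] (by decide +kernel) (by decide +kernel)
  have o2 := rel [2, 2, 2, 2, 2] [] (by decide +kernel) (by decide +kernel)
  simp only [List.map_cons, List.map_nil, List.prod_cons, List.prod_nil, mul_one] at o0 o2
  have p1 := rel [0, 5] [5, 1] (by decide +kernel) (by decide +kernel)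
  simp only [List.map_cons, List.map_nil, List.prod_cons, List.prod_nil, mul_one] at p1
  rw [cm 0 5, mul_right_inj] at p1
  have p2 := rel [1, 5] [5, 0, 0, 0] (by decide +kernel) (by decide +kernel)
  simp only [List.map_cons, List.map_nil, List.prod_cons, List.prod_nil, mul_one] at p2
  rw [cm 1 5, mul_right_inj, ← p1, left_eq_mul] at p2
  have h0 : α 0 = 1 := by
    simpa [← mul_assoc, p2] using o0
  have h1 : α 1 = 1 := p1 ▸ h0
  have p3 := rel [2, 5] [5, 2, 2, 2, 0, 3] (by decide +kernel) (by decide +kernel)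
  simp only [List.map_cons, List.map_nil, List.prod_cons, List.prod_nil, mul_one, h0, one_mul] at p3
  rw [cm 2 5, mul_right_inj, left_eq_mul] at p3
  have p4 := rel [3, 5] [5, 0, 1, 1, 1, 1, 2, 2, 2, 2, 3, 0, 3] (by decide +kernel) (by decide +kernel)
  simp only [List.map_cons, List.map_nil, List.prod_cons, List.prod_nil, mul_one, h0, h1, one_mul] at p4
  rw [cm 3 5, mul_right_inj, ← mul_assoc (α 2) (α 3), ← mul_assoc (α 2) (α 2 * α 3),
    ← mul_assoc (α 2) (α 2 * (α 2 * α 3)), ← mul_assoc (α 2) (α 2 * (α 2 * (α 2 * α 3))),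
    right_eq_mul] at p4
  -- `p3 : α2² α3 = 1`, `p4 : α2⁴ α3 = 1`
  have q2 : α 2 * α 2 = 1 := by
    have : α 2 * α 2 * (α 2 * (α 2 * α 3)) = 1 := by simpa only [mul_assoc] using p4
    rwa [p3, mul_one] at this
  have h2 : α 2 = 1 := by
    simpa [← mul_assoc, q2] using o2
  have h3 : α 3 = 1 := by rwa [← mul_assoc, q2, one_mul] at p3
  have b1 := rel [6, 5, 6] [5, 6, 5] (by decide +kernel) (by decide +kernel)
  simp only [List.map_cons, List.map_nil, List.prod_cons, List.prod_nil, mul_one] at b1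
  rw [show α 6 * (α 5 * α 6) = α 5 * (α 6 * α 6) by rw [← mul_assoc, cm 6 5, mul_assoc], mul_right_inj,
    mul_right_inj] at b1
  have b2 := rel [7, 6, 7] [6, 7, 6] (by decide +kernel) (by decide +kernel)
  simp only [List.map_cons, List.map_nil, List.prod_cons, List.prod_nil, mul_one] at b2
  rw [show α 7 * (α 6 * α 7) = α 6 * (α 7 * α 7) by rw [← mul_assoc, cm 7 6, mul_assoc], mul_right_inj,
    mul_right_inj, b1] at b2
  have b4 := rel [5, 7, 5, 7] [] (by decide +kernel) (by decide +kernel)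
  simp only [List.map_cons, List.map_nil, List.prod_cons, List.prod_nil, mul_one, b2] at b4
  have hTw : ∀ l, z⁻¹ * C.L (subw gW l) * z = C.L (subw hW l) * (l.map α).prod :=
    C.tw z gW hW α hm heq
  have hUU : ∀ a, z⁻¹ * (z⁻¹ * a * z) * z = (C.L wU)⁻¹ * a * C.L wU := fun a => by
    calc z⁻¹ * (z⁻¹ * a * z) * z = (z * z)⁻¹ * a * (z * z) := by group
      _ = d⁻¹ * ((C.L wU)⁻¹ * a * C.L wU * d) := by rw [hz]; group
      _ = (C.L wU)⁻¹ * a * C.L wU := by rw [C.cen _ (inv_mem hd)]; group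
  have b6 : α 5 * α 5 * α 5 * α 5 * α 5 * α 5 = 1 := by
    have e1 : z⁻¹ * C.L (subw gW [5]) * z = C.L (subw gW [5, 5, 5, 5, 5]) * α 5 := by
      rw [hTw [5], C.hsame (subw hW [5]) (subw gW [5, 5, 5, 5, 5]) (by decide +kernel)]; simp
    have e2 := hUU (C.L (subw gW [5]))
    rw [e1, show z⁻¹ * (C.L (subw gW [5, 5, 5, 5, 5]) * α 5) * z =
      (z⁻¹ * C.L (subw gW [5, 5, 5, 5, 5]) * z) * (z⁻¹ * (α 5 * z)) by group, hTw,
      C.cen _ (hm 5), inv_mul_cancel_left, ← C.L_wi (w := wU) (by decide +kernel), ← C.app, ← C.app,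
      C.hsame (wi wU ++ subw gW [5] ++ wU) (subw hW [5, 5, 5, 5, 5]) (by decide +kernel)] at e2
    simpa only [List.map_cons, List.map_nil, List.prod_cons, List.prod_nil, mul_one, mul_assoc,
      mul_eq_left] using e2
  have b22 : α 5 * α 5 = 1 := by
    have h4' : α 5 * α 5 * α 5 * α 5 = 1 := by simpa only [mul_assoc] using b4
    rwa [h4', one_mul] at b6
  have b5 : α 5 = 1 := by
    have hv : (C.L wT * z)⁻¹ * C.L (subw gW [5]) * (C.L wT * z) = C.L (subw gW [5]) * α 5 := by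
      calc (C.L wT * z)⁻¹ * C.L (subw gW [5]) * (C.L wT * z)
          = z⁻¹ * ((C.L wT)⁻¹ * C.L (subw gW [5]) * C.L wT) * z := by group
        _ = z⁻¹ * C.L (subw gW [5, 5, 5, 5, 5]) * z := by
          rw [← C.L_wi (w := wT) (by decide +kernel), ← C.app, ← C.app,
            C.hsame (wi wT ++ subw gW [5] ++ wT) (subw gW [5, 5, 5, 5, 5]) (by decide +kernel)]
        _ = C.L (subw gW [5]) * (α 5 * α 5 * α 5 * α 5 * α 5) := by
          rw [hTw, C.hsame (subw hW [5, 5, 5, 5, 5]) (subw gW [5]) (by decide +kernel)]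
          simp [mul_assoc]
        _ = _ := by rw [mul_assoc (α 5 * α 5) (α 5), mul_assoc (α 5 * α 5) (α 5 * α 5)]; simp [b22]
    obtain ⟨g, hg⟩ : ∃ g, g = C.L (subw gW [5]) := ⟨_, rfl⟩
    obtain ⟨v, hv'⟩ : ∃ v, v = C.L wT * z := ⟨_, rfl⟩
    rw [← hg, ← hv'] at hv
    have st : ∀ b ∈ C.A, v⁻¹ * (g * b) * v = g * α 5 * b := fun b hb => by
      calc v⁻¹ * (g * b) * v = v⁻¹ * g * (b * v) := by group
        _ = v⁻¹ * g * v * b := by rw [C.cen b hb]; group
        _ = _ := by rw [hv]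
    have h3' : (v * v * v)⁻¹ * g * (v * v * v) = g * α 5 := by
      calc (v * v * v)⁻¹ * g * (v * v * v) = v⁻¹ * (v⁻¹ * (v⁻¹ * g * v) * v) * v := by group
        _ = _ := by
          rw [hv, st _ (hm 5), mul_assoc g, b22, mul_one, hv]
    have hcu : C.L wU * g * (C.L wU)⁻¹ = g := by
      rw [hg, ← C.L_wi (w := wU) (by decide +kernel), ← C.app, ← C.app]
      exact C.hsame _ _ (by decide +kernel)
    have hv3 : v * v * v = e * (C.L wU)⁻¹ := by rw [← ht, hv', mul_inv_cancel_right]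
    rw [hv3, show (e * (C.L wU)⁻¹)⁻¹ * g * (e * (C.L wU)⁻¹) = C.L wU * (e⁻¹ * (g * (e * (C.L wU)⁻¹))) by
      group, ← mul_assoc g, ← C.cen e he g, mul_assoc e, inv_mul_cancel_left, ← mul_assoc, hcu,
      left_eq_mul] at h3'
    exact h3'
  have all : ∀ i, α i = 1 := by
    intro i
    by_cases hi : i < 8
    · interval_cases i <;> simp only [h0, h1, h2, h3, h4, b5, b1, b2]
    · rw [hα]
      show z⁻¹ * C.L (gW.getD i []) * z * (C.L (hW.getD i []))⁻¹ = 1
      rw [List.getD_eq_default _ _ (by simp [gW]; omega), List.getD_eq_default _ _ (by simp [hW]; omega),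
        C.L_nil]
      simp
  intro l
  rw [hTw l, List.prod_eq_one, mul_one]
  intro x hx
  obtain ⟨i, -, rfl⟩ := List.mem_map.mp hx
  exact all i

/-- The element `z` to the left of a word in the domain. -/
theorem z_left {z : E} (hc : C.Conj z) {r : E} (hr : r ∈ C.A) (hz : z * z = C.L wU * r) (l : List ℕ) :
    z * C.L (subw gW l) = C.L (wU ++ subw hW l ++ wi wU) * z := by
  rw [C.app, C.app, ← hc l, C.L_wi (w := wU) (by decide +kernel)]
  obtain ⟨g, hg⟩ : ∃ g, g = C.L (subw gW l) := ⟨_, rfl⟩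
  rw [← hg]
  calc z * g = (z * z) * (z⁻¹ * g * z) * (z * z)⁻¹ * z := by group
    _ = r * (C.L wU * (z⁻¹ * g * z) * (C.L wU)⁻¹) * r⁻¹ * z := by
      rw [hz]
      conv_lhs => rw [← C.cen r hr (C.L wU)]
      group
    _ = _ := by rw [C.cen r hr]; group

/-- Rewriting `z h z` through a rule for `z t z`. -/
theorem dec {z : E} (hc : C.Conj z) {r : E} (hr : r ∈ C.A) (hz : z * z = C.L wU * r) {t a b : List ℕ}
    {k : E} (hk : k ∈ C.A) (hrule : z * C.L t * z = C.L a * z * C.L b * k) (h : List ℕ) (p q : List ℕ)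
    (he : same h (subw gW p ++ t ++ subw gW q) = true) :
    z * C.L h * z = C.L (wU ++ subw hW p ++ wi wU ++ a) * z * C.L (b ++ subw hW q) * k := by
  rw [C.hsame _ _ he]
  simp only [C.app]
  rw [← hc q]
  calc z * (C.L (subw gW p) * C.L t * C.L (subw gW q)) * z
      = (z * C.L (subw gW p)) * z⁻¹ * (z * C.L t * z) * (z⁻¹ * C.L (subw gW q) * z) := by group
    _ = C.L wU * C.L (subw hW p) * C.L (wi wU) * (C.L a * z * C.L b) *
          (k * (z⁻¹ * C.L (subw gW q) * z)) := by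
      rw [C.z_left hc hr hz, hrule, mul_inv_cancel_right]; simp only [C.app, mul_assoc]
    _ = _ := by rw [C.cen k hk]; group

/-- Two normal forms of one element determine the central factor. -/
theorem cmp {z : E} (hc : C.Conj z) {k : E} {h1 h2 k1 k2 : List ℕ} (s : List ℕ)
    (e : C.L h1 * z * C.L h2 = C.L k1 * z * C.L k2 * k) (ha : same h1 (k1 ++ subw gW s) = true)
    (hb : same (subw hW s ++ h2) k2 = true) : k = 1 := by
  rw [C.hsame _ _ ha, C.app, mul_assoc (C.L k1), show C.L (subw gW s) * z = z * C.L (subw hW s) by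
    rw [← hc s]; group, mul_assoc (C.L k1), mul_assoc z, ← C.app, C.hsame _ _ hb, ← mul_assoc] at e
  exact left_eq_mul.mp e

/-- Conjugation by `z F z` on a word whose `z`-image is moved by `F` back into the domain. -/
theorem two {z : E} (hc : C.Conj z) (F l l' : List ℕ)
    (he : same (wi F ++ subw hW l ++ F) (subw gW l') = true) (hF : same (wi F ++ F) [] = true) :
    (z * C.L F * z)⁻¹ * C.L (subw gW l) * (z * C.L F * z) = C.L (subw hW l') := by
  rw [← hc l', ← C.hsame _ _ he, C.app, C.app, C.L_wi hF, ← hc l]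
  group

/-- The twist of a conjugation on two generators. -/
theorem twist (w : E) (K K' g g' : List ℕ) {κ : E} (hκ : κ ∈ C.A)
    (hK : w⁻¹ * C.L K * w = C.L K' * κ) (hg : w⁻¹ * C.L g * w = C.L g') (l l' : List ℕ)
    (hG : same (subw [K, g] l) (subw [K, g] l') = true)
    (hH : same (subw [K', g'] l) (subw [K', g'] l') = true) :
    κ ^ l.count 0 = κ ^ l'.count 0 := by
  have hp : ∀ l : List ℕ, (l.map fun i => if i = 0 then κ else 1).prod = κ ^ l.count 0 := by
    intro l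
    induction l with
    | nil => simp
    | cons i l ih => by_cases hi : i = 0 <;> simp [hi, ih, pow_succ']
  rw [← hp, ← hp]
  refine C.tw_eq w [K, g] [K', g'] _ (fun i => ?_) (fun i => ?_) hG hH
  · by_cases hi : i = 0 <;> simp [hi, hκ]
  · match i with
    | 0 => simpa using hK
    | 1 => simpa using hg
    | n + 2 => simp [C.L_nil]

set_option maxHeartbeats 1000000 in
/-- All relations with `z` are exact after a central change of `z`. -/
theorem main (z : E) (h73 : ∀ i < 8, z⁻¹ * C.L (gW.getD i []) * z * (C.L (hW.getD i []))⁻¹ ∈ C.A)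
    (h81 : z * z * (C.L wU)⁻¹ ∈ C.A)
    (h82 : C.L wT * z * (C.L wT * z) * (C.L wT * z) * C.L wU ∈ C.A)
    (h83 : C.L w47 * z * C.L w364 * z * C.L w368 * z ∈ C.A)
    (h84 : z⁻¹ * C.L [16] * z⁻¹ * C.L w369 * z * C.L [7] * z * C.L w29 ∈ C.A)
    (h85 : z * C.L w366 * z * C.L w365 * z⁻¹ * C.L w367 * z⁻¹ * C.L w370 ∈ C.A)
    (h86 : z * C.L w96 * z * C.L w25 * z⁻¹ * C.L w129 * z⁻¹ * C.L w371 ∈ C.A) :
    ∃ g ∈ C.A, ∀ y, y = z * g →
      (∀ i < 8, y⁻¹ * C.L (gW.getD i []) * y = C.L (hW.getD i [])) ∧ y * y = C.L wU ∧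
      C.L wT * y * (C.L wT * y) * (C.L wT * y) * C.L wU = 1 ∧
      C.L w47 * y * C.L w364 * y * C.L w368 * y = 1 ∧
      y⁻¹ * C.L [16] * y⁻¹ * C.L w369 * y * C.L [7] * y * C.L w29 = 1 ∧
      y * C.L w366 * y * C.L w365 * y⁻¹ * C.L w367 * y⁻¹ * C.L w370 = 1 ∧
      y * C.L w96 * y * C.L w25 * y⁻¹ * C.L w129 * y⁻¹ * C.L w371 = 1 := by
  obtain ⟨d, hd⟩ : ∃ d, d = (C.L wU)⁻¹ * (z * z) := ⟨_, rfl⟩
  obtain ⟨e, he⟩ : ∃ e, e = C.L wT * z * (C.L wT * z) * (C.L wT * z) * C.L wU := ⟨_, rfl⟩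
  rw [← he] at h82
  have hdA : d ∈ C.A := by
    have : d = z * z * (C.L wU)⁻¹ := by
      rw [hd, ← mul_right_inj (C.L wU), mul_inv_cancel_left, ← C.cen _ h81, inv_mul_cancel_right]
    rw [this]; exact h81
  obtain ⟨g, hg⟩ : ∃ g, g = d * e⁻¹ := ⟨_, rfl⟩
  have hgA : g ∈ C.A := hg ▸ mul_mem hdA (inv_mem h82)
  refine ⟨g, hgA, fun y hy => ?_⟩
  have cg : ∀ x, g * x = x * g := C.cen g hgA
  obtain ⟨r, hr⟩ : ∃ r, r = d * g * g := ⟨_, rfl⟩
  have hrA : r ∈ C.A := hr ▸ mul_mem (mul_mem hdA hgA) hgA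
  have hyy : y * y = C.L wU * r := by
    rw [hy, show z * g * (z * g) = z * (g * z) * g by group, cg, hr, hd]; group
  have hTy : C.L wT * y * (C.L wT * y) * (C.L wT * y) * C.L wU = r := by
    have : C.L wT * y * (C.L wT * y) * (C.L wT * y) * C.L wU = e * g * g * g := by
      rw [he, hy]
      have h3 : ∀ v : E, (v * g) ^ 3 * C.L wU = v ^ 3 * C.L wU * g ^ 3 := fun v => by
        rw [Commute.mul_pow (cg v).symm, mul_assoc, (Commute.pow_left (cg (C.L wU)) 3).eq, ← mul_assoc]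
      simpa only [pow_succ, pow_zero, one_mul, ← mul_assoc] using h3 (C.L wT * z)
    rw [this, hr, hg, C.cen e h82 (d * e⁻¹)]
    group
  have hyg : ∀ a x, y⁻¹ * a * y * x = z⁻¹ * a * z * x := fun a x => by
    rw [hy, show (z * g)⁻¹ * a * (z * g) = g⁻¹ * (z⁻¹ * a * z * g) by group, ← cg,
      inv_mul_cancel_left]
  have hc : C.Conj y := C.conj_exact (fun i hi => by rw [hyg]; exact h73 i hi) r hrA hyy r hrA hTy
  clear hd he hg hr hyg
  obtain ⟨T, hT⟩ : ∃ T, T = C.L wT := ⟨_, rfl⟩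
  obtain ⟨U, hU⟩ : ∃ U, U = C.L wU := ⟨_, rfl⟩
  have iT : C.L (wi wT) = T⁻¹ := hT ▸ C.L_wi (by decide +kernel)
  have iU : C.L (wi wU) = U⁻¹ := hU ▸ C.L_wi (by decide +kernel)
  have cr : ∀ x, r * x = x * r := C.cen r hrA
  have cri : ∀ x, r⁻¹ * x = x * r⁻¹ := C.cen r⁻¹ (inv_mem hrA)
  have hyi : y⁻¹ = U⁻¹ * y * r⁻¹ := by
    rw [inv_eq_iff_mul_eq_one, show y * (U⁻¹ * y * r⁻¹) = y * U⁻¹ * y * r⁻¹ by group]
    have : y * U⁻¹ = U⁻¹ * y := by
      have h5 := hc [5, 5]
      rw [C.hsame (subw gW [5, 5]) wU (by decide +kernel), C.hsame (subw hW [5, 5]) wU (by decide +kernel),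
        ← hU, mul_assoc, inv_mul_eq_iff_eq_mul] at h5
      rw [eq_inv_mul_iff_mul_eq, ← mul_assoc, h5, mul_inv_cancel_right]
    rw [this, mul_assoc U⁻¹, hyy, ← hU]
    group
  -- the rule for `z T z`
  have hA1 : y * C.L wT * y = C.L (wi wT ++ wi wU ++ wi wU) * y * C.L (wi wT) := by
    rw [C.app, C.app, iT, iU, ← hT]
    rw [← hT, ← hU] at hTy
    calc y * T * y = T⁻¹ * (T * y * (T * y) * (T * y) * U) * U⁻¹ * y⁻¹ * T⁻¹ := by group
      _ = T⁻¹ * (r * U⁻¹) * (U⁻¹ * y * r⁻¹) * T⁻¹ := by rw [hTy, hyi]; group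
      _ = _ := by
        rw [cr, show T⁻¹ * (U⁻¹ * r) * (U⁻¹ * y * r⁻¹) * T⁻¹ =
          T⁻¹ * U⁻¹ * (r * (U⁻¹ * y)) * r⁻¹ * T⁻¹ by group, cr]
        group
  have one_mem' : (1 : E) ∈ C.A := one_mem _
  have hr1 : r = 1 := by
    have hA2 := C.dec hc hrA hyy (k := 1) one_mem' (by rw [mul_one]; exact hA1) (wi wT) []
      [5, 5, 5, 5, 5, 5] (by decide +kernel)
    rw [mul_one] at hA2
    have hA3 : y * C.L (wi wT) * y = C.L (wU ++ wU ++ wT) * y * C.L (wT ++ wU) * r := by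
      rw [C.app, C.app, C.app, iT, ← hT, ← hU]
      rw [← hT, ← hU] at hTy
      rw [← hU] at hyy
      have h3 : y * T * y = (T * y * T)⁻¹ * (r * U⁻¹) := by rw [← hTy]; group
      calc y * T⁻¹ * y = y * y * (y * T * y)⁻¹ * (y * y) := by group
        _ = U * (r * (U * r⁻¹)) * (T * y * T) * (U * r) := by rw [hyy, h3]; group
        _ = _ := by rw [← mul_assoc r U, cr, mul_assoc U r, mul_inv_cancel, mul_one]; group
    exact C.cmp hc [5, 5, 5, 5, 5, 5] (hA2.symm.trans hA3) (by decide +kernel) (by decide +kernel)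
  subst hr1
  rw [mul_one] at hyy
  rw [inv_one, mul_one] at hyi
  refine ⟨fun i hi => ?_, hyy, hTy, ?_⟩
  · have h := hc [i]
    simpa [subw] using h
  obtain ⟨k, hk⟩ : ∃ k, k = C.L w47 * y * C.L w364 * y * C.L w368 * y := ⟨_, rfl⟩
  have : C.A.Normal := ⟨fun a ha x => by rw [← C.cen a ha, mul_inv_cancel_right]; exact ha⟩
  have hπy : QuotientGroup.mk' C.A y = QuotientGroup.mk' C.A z := by
    rw [hy, map_mul, show QuotientGroup.mk' C.A g = 1 from (QuotientGroup.eq_one_iff g).mpr hgA, mul_one]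
  have hmem : ∀ x, x ∈ C.A ↔ QuotientGroup.mk' C.A x = 1 := fun x => (QuotientGroup.eq_one_iff x).symm
  have hkA : k ∈ C.A := by
    rw [hmem] at h83 ⊢
    rw [hk]
    simp only [map_mul, hπy] at h83 ⊢
    exact h83
  have iy : y⁻¹ = U⁻¹ * y := hyi
  have hX : y * C.L w364 * y = C.L (wi w47 ++ wi wU) * y * C.L (wi w368) * k := by
    rw [C.app, iU, C.L_wi (w := w47) (by decide +kernel), C.L_wi (w := w368) (by decide +kernel)]
    rw [show (C.L w47)⁻¹ * U⁻¹ * y = (C.L w47)⁻¹ * y⁻¹ by rw [iy, mul_assoc],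
      mul_assoc _ (C.L w368)⁻¹ k, ← C.cen k hkA (C.L w368)⁻¹, ← mul_assoc, mul_assoc _ y⁻¹ k,
      ← C.cen k hkA y⁻¹, hk]
    group
  have hk1 : k = 1 := by
    have hy1 : y * y = C.L wU * 1 := by rw [mul_one, hyy]
    have w1 := C.dec hc one_mem' hy1 hkA hX (wi wT ++ w364) [0, 4, 4, 4, 5, 5, 5, 5, 5, 6, 5]
      [0, 2, 2, 2, 3, 2, 3, 3, 3, 5, 5, 6, 5, 7] (by decide +kernel)
    have w2 := C.dec hc one_mem' hy1 hkA hX (wT ++ (wi w47 ++ wi wU)) [1, 1, 2, 2, 1, 1, 7]
      [3, 0, 3, 3, 5, 6, 7, 6] (by decide +kernel)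
    have e1 : y * C.L wT * y * C.L w364 * y = C.L ((wi wT ++ wi wU ++ wi wU) ++
        (wU ++ subw hW [0, 4, 4, 4, 5, 5, 5, 5, 5, 6, 5] ++ wi wU ++ (wi w47 ++ wi wU))) * y *
        C.L (wi w368 ++ subw hW [0, 2, 2, 2, 3, 2, 3, 3, 3, 5, 5, 6, 5, 7]) * k := by
      rw [hA1, show C.L (wi wT ++ wi wU ++ wi wU) * y * C.L (wi wT) * C.L w364 * y =
        C.L (wi wT ++ wi wU ++ wi wU) * (y * (C.L (wi wT) * C.L w364) * y) by group, ← C.app, w1,
        C.app (wi wT ++ wi wU ++ wi wU)]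
      group
    have e2 : y * C.L wT * y * C.L w364 * y = C.L (wU ++ subw hW [1, 1, 2, 2, 1, 1, 7] ++ wi wU ++
        (wi w47 ++ wi wU)) * y * C.L (wi w368 ++ subw hW [3, 0, 3, 3, 5, 6, 7, 6] ++ wi w368) * (k * k) := by
      rw [show y * C.L wT * y * C.L w364 * y = y * C.L wT * (y * C.L w364 * y) by group, hX,
        show y * C.L wT * (C.L (wi w47 ++ wi wU) * y * C.L (wi w368) * k) =
          y * (C.L wT * C.L (wi w47 ++ wi wU)) * y * (C.L (wi w368) * k) by group, ← C.app, w2,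
        C.app (wi w368 ++ _) (wi w368), mul_assoc _ k (C.L (wi w368) * k), ← mul_assoc k, C.cen k hkA]
      group
    rw [e1, ← mul_assoc _ k k, mul_left_inj] at e2
    exact C.cmp hc [0, 0, 0, 1, 1, 1, 2, 2, 2, 5, 6, 5, 7, 5] e2 (by decide +kernel) (by decide +kernel)
  refine ⟨hk.symm.trans hk1, ?_, ?_, ?_⟩
  · obtain ⟨q, hq⟩ : ∃ q, q = y⁻¹ * C.L [16] * y⁻¹ * C.L w369 * y * C.L [7] * y * C.L w29 := ⟨_, rfl⟩
    rw [← hq]
    have hqA : q ∈ C.A := by
      rw [hmem] at h84 ⊢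
      rw [hq]
      simp only [map_mul, map_inv, hπy] at h84 ⊢
      exact h84
    have hw : (y * C.L [7] * y)⁻¹ * C.L w369 * (y * C.L [7] * y) = C.L (wi w29) * q := by
      rw [← C.cen q hqA, C.L_wi (w := w29) (by decide +kernel), hq,
        show C.L [16] = (C.L [7])⁻¹ from C.L_wi (w := [7]) (by decide +kernel)]
      group
    have hg := C.two hc [7] [5] [7, 5, 7] (by decide +kernel) (by decide +kernel)
    have e2 := C.twist _ w369 (wi w29) (subw gW [5]) (subw hW [7, 5, 7]) hqA hw hg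
      [1, 0, 0, 1, 0, 1, 0, 1, 1, 1] [0, 1, 0, 1, 0, 0, 1, 1, 0, 0] (by decide +kernel) (by decide +kernel)
    have e3 := C.twist _ w369 (wi w29) (subw gW [5]) (subw hW [7, 5, 7]) hqA hw hg
      [0, 0, 0] [] (by decide +kernel) (by decide +kernel)
    simp only [List.count_cons_self, List.count_cons, List.count_nil] at e2 e3
    norm_num at e2 e3
    have q2 : q ^ 2 = 1 := by
      have : q ^ 4 * q ^ 2 = q ^ 4 := by rw [← pow_add]; exact e2.symm
      exact mul_eq_left.mp this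
    rwa [pow_succ, q2, one_mul] at e3
  · obtain ⟨q, hq⟩ : ∃ q, q = y * C.L w366 * y * C.L w365 * y⁻¹ * C.L w367 * y⁻¹ * C.L w370 := ⟨_, rfl⟩
    rw [← hq]
    have hqA : q ∈ C.A := by
      rw [hmem] at h85 ⊢
      rw [hq]
      simp only [map_mul, map_inv, hπy] at h85 ⊢
      exact h85
    have hw : (y * C.L w366 * y)⁻¹ * C.L (wi w370) * (y * C.L w366 * y) = C.L w365 * q⁻¹ := by
      have h7 : C.L w367 = (C.L w366)⁻¹ :=
        (C.hsame w367 (wi w366) (by decide +kernel)).trans (C.L_wi (by decide +kernel))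
      have h8 : C.L (wi w370) = q⁻¹ * (y * C.L w366 * y * C.L w365 * (y * C.L w366 * y)⁻¹) := by
        rw [C.L_wi (w := w370) (by decide +kernel), hq, h7]; group
      rw [h8, C.cen _ (inv_mem hqA), show ∀ v x : E, v⁻¹ * (v * x * v⁻¹ * q⁻¹) * v = x * (v⁻¹ * (q⁻¹ * v))
        from fun v x => by group, C.cen _ (inv_mem hqA), inv_mul_cancel_left]
    have hg := C.two hc w366 [2, 3, 3, 2, 5, 5, 7, 5, 6] [1, 1, 1, 3, 3, 3, 3, 6, 7, 5, 6]
      (by decide +kernel) (by decide +kernel)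
    have e2 := C.twist _ (wi w370) w365 (subw gW [2, 3, 3, 2, 5, 5, 7, 5, 6])
      (subw hW [1, 1, 1, 3, 3, 3, 3, 6, 7, 5, 6]) (inv_mem hqA) hw hg
      [0, 1, 0, 1, 1, 0, 1, 0, 1, 1] [1, 0, 1, 0, 1, 1, 1, 0] (by decide +kernel) (by decide +kernel)
    simp only [List.count_cons_self, List.count_cons, List.count_nil] at e2
    norm_num at e2
    rwa [pow_succ, mul_eq_left] at e2
  · obtain ⟨q, hq⟩ : ∃ q, q = y * C.L w96 * y * C.L w25 * y⁻¹ * C.L w129 * y⁻¹ * C.L w371 := ⟨_, rfl⟩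
    rw [← hq]
    have hqA : q ∈ C.A := by
      rw [hmem] at h86 ⊢
      rw [hq]
      simp only [map_mul, map_inv, hπy] at h86 ⊢
      exact h86
    have hw : (y * C.L w96 * y)⁻¹ * C.L (wi w371) * (y * C.L w96 * y) = C.L w25 * q⁻¹ := by
      have h7 : C.L w129 = (C.L w96)⁻¹ :=
        (C.hsame w129 (wi w96) (by decide +kernel)).trans (C.L_wi (by decide +kernel))
      have h8 : C.L (wi w371) = q⁻¹ * (y * C.L w96 * y * C.L w25 * (y * C.L w96 * y)⁻¹) := by
        rw [C.L_wi (w := w371) (by decide +kernel), hq, h7]; group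
      rw [h8, C.cen _ (inv_mem hqA), show ∀ v x : E, v⁻¹ * (v * x * v⁻¹ * q⁻¹) * v = x * (v⁻¹ * (q⁻¹ * v))
        from fun v x => by group, C.cen _ (inv_mem hqA), inv_mul_cancel_left]
    have hg := C.two hc w96 [6] [7, 5, 7] (by decide +kernel) (by decide +kernel)
    have e2 := C.twist _ (wi w371) w25 (subw gW [6]) (subw hW [7, 5, 7]) (inv_mem hqA) hw hg
      [1, 1, 0, 1, 1] [0, 1, 1, 0] (by decide +kernel) (by decide +kernel)
    simp only [List.count_cons_self, List.count_cons, List.count_nil] at e2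
    norm_num at e2
    rwa [pow_succ, pow_one, left_eq_mul] at e2


end Ctx

end Cfsg.Agent.LyMultCore66
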