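import Cfsg.Agent.Lib.LyG2MatData64

/-!
Words in the letters of the copy of G2(5) inside the Lyons group, used to show that the presentation
lifts through a central extension.
-/

set_option autoImplicit false

namespace Cfsg.Agent.LyMultWords66

open Cfsg.Agent.LyG2MatCore64 Cfsg.Agent.LyG2MatData64

/-- A checked identity between two words in the eighteen letters. -/
noncomputable def same (v w : List ℕ) : Bool :=
  v.all (Nat.blt · 18) && w.all (Nat.blt · 18) && sameWord gens v w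

/-- The formal inverse of a word. -/
def wi (w : List ℕ) : List ℕ := (w.map fun i => if i < 9 then i + 9 else i - 9).reverse

/-- The eight generators of the domain of conjugation by `z`: c1 to c5, a1, a2, a3. -/
def gW : List (List ℕ) := [[2], [3], [4], [5], [6], [0], [1, 0, 10], [1, 1, 0, 10, 10]]

/-- Their images x162 to x169. -/
def hW : List (List ℕ) := [[9, 10, 9, 1, 11, 10, 0, 11, 1, 0], [10, 10, 0, 2, 9, 1, 2, 1],
  [9, 10, 9, 2, 0, 1, 0], [10, 9, 1, 2, 10, 0, 1], [1, 1, 9, 10, 2, 1, 0, 2, 10, 10, 11], [9, 9, 9],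
  [1, 9, 10, 9, 9], [0, 1, 1, 0, 10, 10, 9]]

/-- Substitution of listed words. -/
def subw (G : List (List ℕ)) (l : List ℕ) : List ℕ := l.flatMap fun i => G.getD i []

def wU : List ℕ := [0, 0]
def wT : List ℕ := [10, 10, 0, 1, 1]
def w25 : List ℕ := [1, 1, 9, 10, 9, 1, 1, 11, 0, 2, 9, 11, 7, 11, 1, 1, 9, 2, 1]
def w29 : List ℕ := [0, 1, 9, 1, 1, 9, 1, 1, 11, 0, 2, 1, 2, 10, 7, 2, 10, 10, 7, 2, 1, 2]
def w47 : List ℕ := [11, 16, 9, 11, 9, 1, 11, 16]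
def w96 : List ℕ := [1, 7]
def w129 : List ℕ := [16, 10]
def w364 : List ℕ := [9, 7, 10, 11, 9, 1, 11, 16, 1, 11, 10, 9, 11, 0, 10, 0, 1, 0, 10]
def w365 : List ℕ := [0, 10, 10, 9, 2, 1, 11, 1, 9, 11, 11, 7, 2, 0, 2, 9, 2, 10, 16]
def w366 : List ℕ := [1, 0, 10, 9, 10, 10, 9, 10, 2, 1, 1, 2, 1, 7, 2, 10, 10, 7, 2, 1, 2]
def w367 : List ℕ := [11, 10, 11, 16, 1, 1, 11, 16, 10, 11, 10, 10, 11, 1, 0, 1, 1, 0, 1, 9, 10]
def w368 : List ℕ := [9, 11, 16, 0, 11, 10, 0, 11, 16, 9, 11, 0, 2, 10, 10, 11, 10, 9, 10, 10]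
def w369 : List ℕ := [9, 11, 16, 1, 9, 10, 11, 16, 1, 9, 10, 11, 10, 0, 10, 10, 0, 10]
def w370 : List ℕ := [16, 0, 2, 1, 2, 9, 11, 16, 0, 10, 9, 2, 9, 10, 10, 9, 1, 9]
def w371 : List ℕ := [11, 9, 2, 1, 11, 16, 2, 9, 2, 0, 2, 10, 9, 10, 9, 1]

end Cfsg.Agent.LyMultWords66
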