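import Cfsg.Agent.Lib.LyG2Five64

/-!
Tools for enumerating the cosets of the subgroup `G2(5)` of the presented Lyons group by double cosets:
words in the letters of `G2(5)` and the extra generator, walks along relators, and coset steps that are
justified by equalities of matrices.
-/

set_option autoImplicit false
set_option maxRecDepth 100000

namespace Cfsg.Agent.LyOrbitCore41

open Cfsg.Agent.LyG2Five64 Cfsg.Agent.LyG2MatCore64 Cfsg.Agent.LyG2MatData64
open Cfsg.Agent.UnitaryPres49Cert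

/-- The presented Lyons group. -/
abbrev L : Type := Cfsg.Spor.Ly

/-- The element of a word in the letters of the subgroup. -/
noncomputable def ev (w : List ℕ) : L := (w.map letLy).prod

/-- The extra generator. -/
noncomputable def Z : L := mk Cfsg.Spor.Ly.z

/-- The inverse word. -/
def invW (w : List ℕ) : List ℕ := (w.map fun i => if i < 9 then i + 9 else i - 9).reverse

/-- All letters are letters of the subgroup. -/
def okW (w : List ℕ) : Bool := w.all fun i => Nat.blt i 18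

/-- Two words give the same matrix. -/
noncomputable def same (v w : List ℕ) : Bool := okW v && okW w && sameWord gens v w

theorem okW_iff {w : List ℕ} : okW w = true ↔ ∀ i ∈ w, i < 18 := by
  simp [okW, List.all_eq_true]

theorem ev_nil : ev [] = 1 := rfl

theorem ev_append (v w : List ℕ) : ev (v ++ w) = ev v * ev w := by simp [ev]

theorem ev_cons (i : ℕ) (w : List ℕ) : ev (i :: w) = letLy i * ev w := by simp [ev]

theorem ev_invW : ∀ {w : List ℕ}, okW w = true → ev (invW w) = (ev w)⁻¹ := by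
  intro w
  induction w with
  | nil => intro _; simp [invW, ev_nil]
  | cons i w ih =>
    intro h
    rw [okW_iff] at h
    have hi : i < 18 := h i List.mem_cons_self
    have hinv : letLy (if i < 9 then i + 9 else i - 9) = (letLy i)⁻¹ :=
      (inv_eq_of_mul_eq_one_right (letLy_iv i hi)).symm
    have e : invW (i :: w) = invW w ++ [if i < 9 then i + 9 else i - 9] := by simp [invW]
    rw [e, ev_append, ih (okW_iff.mpr fun j hj => h j (List.mem_cons_of_mem _ hj)), ev_cons, ev_nil, mul_one, hinv,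
      ev_cons, mul_inv_rev]

theorem letLy_H {i : ℕ} (hi : i < 18) : letLy i ∈ HLy := by
  rw [← range_toLy]
  exact ⟨⟨let2 i, let2_mem hi⟩, rfl⟩

theorem ev_H {w : List ℕ} (h : okW w = true) : ev w ∈ HLy :=
  Subgroup.list_prod_mem _ fun x hx => by
    obtain ⟨i, hi, rfl⟩ := List.mem_map.mp hx
    exact letLy_H (okW_iff.mp h i hi)

/-- Equal matrices give equal elements. -/
theorem eq_ev {v w : List ℕ} (h : same v w = true) : ev v = ev w := by
  simp only [same, Bool.and_eq_true] at h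
  obtain ⟨⟨hv, hw⟩, hs⟩ := h
  rw [okW_iff] at hv hw
  have hmem : ∀ u : List ℕ, (∀ i ∈ u, i < 18) → (u.map let2).prod ∈ R := fun u hu =>
    Subgroup.list_prod_mem _ fun x hx => by
      obtain ⟨i, hi, rfl⟩ := List.mem_map.mp hx; exact let2_mem (hu i hi)
  have hm : (v.map letG).prod = (w.map letG).prod := by
    apply Units.ext
    rw [coe_prod (fun g hg => (hv g hg).trans (by norm_num)), coe_prod (fun g hg => (hw g hg).trans (by norm_num))]
    exact word_eq (fun g hg => (hv g hg).trans (by norm_num)) (fun g hg => (hw g hg).trans (by norm_num)) hs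
  have e : (⟨_, hmem v hv⟩ : R) = ⟨_, hmem w hw⟩ := toG_injective (by
    show ((v.map let2).prod).2 = ((w.map let2).prod).2
    rw [prod_let2, prod_let2]; exact hm)
  have := congrArg (fun x : R => x.1.1) e
  simp only [prod_let2] at this
  exact this

theorem same_ok {v w : List ℕ} (h : same v w = true) : okW v = true ∧ okW w = true := by
  simp only [same, Bool.and_eq_true] at h; exact ⟨h.1.1, h.1.2⟩

/-- `x` lies in the coset of `a`. -/
def InC (x a : L) : Prop := x * a⁻¹ ∈ HLy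

theorem InC.trans {x y z : L} (h1 : InC x y) (h2 : InC y z) : InC x z := by
  have e : x * z⁻¹ = (x * y⁻¹) * (y * z⁻¹) := by group
  unfold InC
  rw [e]; exact mul_mem h1 h2

theorem InC.symm {x y : L} (h : InC x y) : InC y x := by
  have e : y * x⁻¹ = (x * y⁻¹)⁻¹ := by group
  unfold InC
  rw [e]; exact inv_mem h

theorem InC.mul {x y : L} (h : InC x y) (t : L) : InC (x * t) (y * t) := by
  have e : x * t * (y * t)⁻¹ = x * y⁻¹ := by group
  unfold InC
  rw [e]; exact h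

theorem InC.of_eq {x y : L} (h : x = y) : InC x y := by
  subst h
  unfold InC
  rw [mul_inv_cancel]; exact one_mem _

/-- Elements of the subgroup fixing the coset of `g`. -/
noncomputable def X (g : L) : Subgroup L := HLy ⊓ HLy.comap (MulAut.conj g).toMonoidHom

theorem mem_X {g s : L} : s ∈ X g ↔ s ∈ HLy ∧ InC (g * s) g := by
  simp [X, InC, MulAut.conj_apply, mul_assoc]

/-- Elements of the subgroup that the extra generator conjugates into it. -/
noncomputable def K : Subgroup L := HLy ⊓ HLy.comap (MulAut.conj Z⁻¹).toMonoidHom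

theorem mem_K {k : L} : k ∈ K ↔ k ∈ HLy ∧ Z⁻¹ * k * Z ∈ HLy := by
  simp [K]

/-- The generators of the subgroup normalised by the extra generator. -/
def kW : List (List ℕ) := [[2], [3], [4], [5], [6], [0], [1, 0, 10], [1, 1, 0, 10, 10]]

/-- Their conjugates by the extra generator. -/
def kX : List (List ℕ) := [[9, 10, 9, 1, 11, 10, 0, 11, 1, 0], [10, 10, 0, 2, 9, 1, 2, 1],
  [9, 10, 9, 2, 0, 1, 0], [10, 9, 1, 2, 10, 0, 1], [1, 1, 9, 10, 2, 1, 0, 2, 10, 10, 11],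
  [9, 9, 9], [1, 9, 10, 9, 9], [0, 1, 1, 0, 10, 10, 9]]

/-- A word in those generators. -/
def kw (k : List ℕ) : List ℕ := (k.map fun i => kW.getD i []).flatten

/-- Its conjugate. -/
def kx (k : List ℕ) : List ℕ := (k.map fun i => kX.getD i []).flatten

/-- Walks are words over the letters and `18` for the extra generator. -/
noncomputable def evz (w : List ℕ) : L := (w.map fun i => if i < 18 then letLy i else Z).prod

theorem evz_append (v w : List ℕ) : evz (v ++ w) = evz v * evz w := by simp [evz]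

theorem evz_ev {w : List ℕ} (h : okW w = true) : evz w = ev w := by
  rw [okW_iff] at h
  exact congrArg List.prod (List.map_congr_left fun i hi => if_pos (h i hi))

theorem evz_z : evz [18] = Z := by simp [evz]

/-- The word `z w₀ z w₁ ⋯` of a loop. -/
def fl (ws : List (List ℕ)) : List ℕ := (ws.map fun w => 18 :: w).flatten

/-- The backward word of a final piece of a loop. -/
def bk (ws : List (List ℕ)) : List ℕ := (ws.reverse.map fun w => invW w ++ [18, 9, 9]).flatten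

theorem fl_append (A B : List (List ℕ)) : fl (A ++ B) = fl A ++ fl B := by simp [fl]

/-! ### relations -/

theorem z_sq : Z * Z = ev [0, 0] := by
  have h : mk ((Cfsg.Spor.Ly.z ^ 2) * (Cfsg.Spor.Ly.u⁻¹)) = 1 := mk_rel 80 (by decide)
  have hu : mk (Cfsg.Spor.Ly.u * ((Cfsg.Spor.Ly.a ^ 2)⁻¹)) = 1 := mk_rel 48 (by decide)
  rw [map_mul, map_inv, mul_inv_eq_one] at h hu
  rw [hu] at h
  simpa [Z, ev, letLy, pow_two] using h

theorem conj0 : Z⁻¹ * ev (kW.getD 0 []) * Z = ev (kX.getD 0 []) := by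
  have h : mk ((Cfsg.Spor.Ly.z⁻¹ * Cfsg.Spor.Ly.c1 * Cfsg.Spor.Ly.z) * (Cfsg.Spor.Ly.x162⁻¹)) = 1 := mk_rel 72 (by decide)
  have hx : mk (Cfsg.Spor.Ly.x162 * (((Cfsg.Spor.Ly.a⁻¹) * (Cfsg.Spor.Ly.b⁻¹) * (Cfsg.Spor.Ly.a⁻¹) * Cfsg.Spor.Ly.b * (Cfsg.Spor.Ly.c⁻¹) * (Cfsg.Spor.Ly.b⁻¹) * Cfsg.Spor.Ly.a * (Cfsg.Spor.Ly.c⁻¹) * Cfsg.Spor.Ly.b * Cfsg.Spor.Ly.a)⁻¹)) = 1 := mk_rel 56 (by decide)
  rw [map_mul, map_inv, mul_inv_eq_one] at h hx
  rw [hx] at h
  simpa [Z, ev, kW, kX, letLy, mk_c1, map_mul, map_inv, map_pow, mul_inv_rev, pow_succ, mul_assoc] using h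

theorem conj1 : Z⁻¹ * ev (kW.getD 1 []) * Z = ev (kX.getD 1 []) := by
  have h : mk ((Cfsg.Spor.Ly.z⁻¹ * Cfsg.Spor.Ly.c2 * Cfsg.Spor.Ly.z) * (Cfsg.Spor.Ly.x163⁻¹)) = 1 := mk_rel 73 (by decide)
  have hx : mk (Cfsg.Spor.Ly.x163 * ((((Cfsg.Spor.Ly.b ^ 2)⁻¹) * Cfsg.Spor.Ly.a * Cfsg.Spor.Ly.c * (Cfsg.Spor.Ly.a⁻¹) * Cfsg.Spor.Ly.b * Cfsg.Spor.Ly.c * Cfsg.Spor.Ly.b)⁻¹)) = 1 := mk_rel 57 (by decide)
  rw [map_mul, map_inv, mul_inv_eq_one] at h hx
  rw [hx] at h
  simpa [Z, ev, kW, kX, letLy, mk_c1, map_mul, map_inv, map_pow, mul_inv_rev, pow_succ, mul_assoc] using h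

theorem conj2 : Z⁻¹ * ev (kW.getD 2 []) * Z = ev (kX.getD 2 []) := by
  have h : mk ((Cfsg.Spor.Ly.z⁻¹ * Cfsg.Spor.Ly.c3 * Cfsg.Spor.Ly.z) * (Cfsg.Spor.Ly.x164⁻¹)) = 1 := mk_rel 74 (by decide)
  have hx : mk (Cfsg.Spor.Ly.x164 * (((Cfsg.Spor.Ly.a⁻¹) * (Cfsg.Spor.Ly.b⁻¹) * (Cfsg.Spor.Ly.a⁻¹) * Cfsg.Spor.Ly.c * Cfsg.Spor.Ly.a * Cfsg.Spor.Ly.b * Cfsg.Spor.Ly.a)⁻¹)) = 1 := mk_rel 58 (by decide)
  rw [map_mul, map_inv, mul_inv_eq_one] at h hx
  rw [hx] at h
  simpa [Z, ev, kW, kX, letLy, mk_c1, map_mul, map_inv, map_pow, mul_inv_rev, pow_succ, mul_assoc] using h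

theorem conj3 : Z⁻¹ * ev (kW.getD 3 []) * Z = ev (kX.getD 3 []) := by
  have h : mk ((Cfsg.Spor.Ly.z⁻¹ * Cfsg.Spor.Ly.c4 * Cfsg.Spor.Ly.z) * (Cfsg.Spor.Ly.x165⁻¹)) = 1 := mk_rel 75 (by decide)
  have hx : mk (Cfsg.Spor.Ly.x165 * (((Cfsg.Spor.Ly.b⁻¹) * (Cfsg.Spor.Ly.a⁻¹) * Cfsg.Spor.Ly.b * Cfsg.Spor.Ly.c * (Cfsg.Spor.Ly.b⁻¹) * Cfsg.Spor.Ly.a * Cfsg.Spor.Ly.b)⁻¹)) = 1 := mk_rel 59 (by decide)
  rw [map_mul, map_inv, mul_inv_eq_one] at h hx
  rw [hx] at h
  simpa [Z, ev, kW, kX, letLy, mk_c1, map_mul, map_inv, map_pow, mul_inv_rev, pow_succ, mul_assoc] using h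

theorem conj4 : Z⁻¹ * ev (kW.getD 4 []) * Z = ev (kX.getD 4 []) := by
  have h : mk ((Cfsg.Spor.Ly.z⁻¹ * Cfsg.Spor.Ly.c5 * Cfsg.Spor.Ly.z) * (Cfsg.Spor.Ly.x166⁻¹)) = 1 := mk_rel 76 (by decide)
  have hx : mk (Cfsg.Spor.Ly.x166 * (((Cfsg.Spor.Ly.b ^ 2) * (Cfsg.Spor.Ly.a⁻¹) * (Cfsg.Spor.Ly.b⁻¹) * Cfsg.Spor.Ly.c * Cfsg.Spor.Ly.b * Cfsg.Spor.Ly.a * Cfsg.Spor.Ly.c * ((Cfsg.Spor.Ly.b ^ 2)⁻¹) * (Cfsg.Spor.Ly.c⁻¹))⁻¹)) = 1 := mk_rel 60 (by decide)
  rw [map_mul, map_inv, mul_inv_eq_one] at h hx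
  rw [hx] at h
  simpa [Z, ev, kW, kX, letLy, mk_c1, map_mul, map_inv, map_pow, mul_inv_rev, pow_succ, mul_assoc] using h

theorem conj5 : Z⁻¹ * ev (kW.getD 5 []) * Z = ev (kX.getD 5 []) := by
  have h : mk ((Cfsg.Spor.Ly.z⁻¹ * Cfsg.Spor.Ly.a1 * Cfsg.Spor.Ly.z) * (Cfsg.Spor.Ly.x167⁻¹)) = 1 := mk_rel 77 (by decide)
  have hx : mk (Cfsg.Spor.Ly.x167 * (((Cfsg.Spor.Ly.a ^ 3)⁻¹)⁻¹)) = 1 := mk_rel 61 (by decide)
  have hg : mk (Cfsg.Spor.Ly.a1 * (Cfsg.Spor.Ly.a⁻¹)) = 1 := mk_rel 44 (by decide)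
  rw [map_mul, map_inv, mul_inv_eq_one] at h hx hg
  rw [hx] at h
  rw [map_mul, map_mul, hg] at h
  simpa [Z, ev, kW, kX, letLy, mk_c1, map_mul, map_inv, map_pow, mul_inv_rev, pow_succ, mul_assoc] using h

theorem conj6 : Z⁻¹ * ev (kW.getD 6 []) * Z = ev (kX.getD 6 []) := by
  have h : mk ((Cfsg.Spor.Ly.z⁻¹ * Cfsg.Spor.Ly.a2 * Cfsg.Spor.Ly.z) * (Cfsg.Spor.Ly.x168⁻¹)) = 1 := mk_rel 78 (by decide)
  have hx : mk (Cfsg.Spor.Ly.x168 * ((Cfsg.Spor.Ly.b * (Cfsg.Spor.Ly.a⁻¹) * (Cfsg.Spor.Ly.b⁻¹) * ((Cfsg.Spor.Ly.a ^ 2)⁻¹))⁻¹)) = 1 := mk_rel 62 (by decide)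
  have hg : mk (Cfsg.Spor.Ly.a2 * (((Cfsg.Spor.Ly.b⁻¹)⁻¹ * Cfsg.Spor.Ly.a * (Cfsg.Spor.Ly.b⁻¹))⁻¹)) = 1 := mk_rel 45 (by decide)
  rw [map_mul, map_inv, mul_inv_eq_one] at h hx hg
  rw [hx] at h
  rw [map_mul, map_mul, hg] at h
  simpa [Z, ev, kW, kX, letLy, mk_c1, map_mul, map_inv, map_pow, mul_inv_rev, pow_succ, mul_assoc] using h

theorem conj7 : Z⁻¹ * ev (kW.getD 7 []) * Z = ev (kX.getD 7 []) := by
  have h : mk ((Cfsg.Spor.Ly.z⁻¹ * Cfsg.Spor.Ly.a3 * Cfsg.Spor.Ly.z) * (Cfsg.Spor.Ly.x169⁻¹)) = 1 := mk_rel 79 (by decide)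
  have hx : mk (Cfsg.Spor.Ly.x169 * ((Cfsg.Spor.Ly.a * (Cfsg.Spor.Ly.b ^ 2) * Cfsg.Spor.Ly.a * ((Cfsg.Spor.Ly.b ^ 2)⁻¹) * (Cfsg.Spor.Ly.a⁻¹))⁻¹)) = 1 := mk_rel 63 (by decide)
  have hg : mk (Cfsg.Spor.Ly.a3 * ((((Cfsg.Spor.Ly.b ^ 2)⁻¹)⁻¹ * Cfsg.Spor.Ly.a * ((Cfsg.Spor.Ly.b ^ 2)⁻¹))⁻¹)) = 1 := mk_rel 46 (by decide)
  rw [map_mul, map_inv, mul_inv_eq_one] at h hx hg
  rw [hx] at h
  rw [map_mul, map_mul, hg] at h
  simpa [Z, ev, kW, kX, letLy, mk_c1, map_mul, map_inv, map_pow, mul_inv_rev, pow_succ, mul_assoc] using h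

theorem conjk (k : List ℕ) (hk : ∀ i ∈ k, i < 8) : Z⁻¹ * ev (kw k) * Z = ev (kx k) := by
  induction k with
  | nil => simp [kw, kx, ev_nil]
  | cons i k ih =>
    have h1 : kw (i :: k) = kW.getD i [] ++ kw k := rfl
    have h2 : kx (i :: k) = kX.getD i [] ++ kx k := rfl
    have hh : ∀ i < 8, Z⁻¹ * ev (kW.getD i []) * Z = ev (kX.getD i []) := by
      intro i hi
      interval_cases i
      exacts [conj0, conj1, conj2, conj3, conj4, conj5, conj6, conj7]
    rw [h1, h2, ev_append, ev_append, ← hh i (hk i List.mem_cons_self),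
      ← ih fun j hj => hk j (List.mem_cons_of_mem _ hj)]
    group

/-- The test that indices point at generators. -/
def okK (k : List ℕ) : Bool := k.all fun i => Nat.blt i 8

theorem kw_ok {k : List ℕ} (hk : okK k = true) : okW (kw k) = true ∧ okW (kx k) = true := by
  have hall : ∀ i < 8, okW (kW.getD i []) = true ∧ okW (kX.getD i []) = true := by decide
  simp only [okK, List.all_eq_true, Nat.blt_eq] at hk
  constructor <;>
  · rw [okW_iff]
    intro j hj
    simp only [kw, kx, List.mem_flatten, List.mem_map] at hj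
    obtain ⟨l, ⟨i, hi, rfl⟩, hjl⟩ := hj
    first
      | exact okW_iff.mp (hall i (hk i hi)).1 j hjl
      | exact okW_iff.mp (hall i (hk i hi)).2 j hjl

theorem conj_kw {k : List ℕ} (hk : okK k = true) : Z⁻¹ * ev (kw k) * Z = ev (kx k) :=
  conjk k fun i hi => Nat.blt_eq.mp (List.all_eq_true.mp hk i hi)

theorem kw_mem {k : List ℕ} (hk : okK k = true) : ev (kw k) ∈ K :=
  mem_K.mpr ⟨ev_H (kw_ok hk).1, by rw [conj_kw hk]; exact ev_H (kw_ok hk).2⟩

theorem bk_eq : ∀ {ws : List (List ℕ)}, (∀ w ∈ ws, okW w = true) → evz (bk ws) = (evz (fl ws))⁻¹ := by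
  intro ws
  induction ws with
  | nil => intro _; simp [bk, fl, evz]
  | cons w ws ih =>
    intro h
    have hw := h w List.mem_cons_self
    have e1 : bk (w :: ws) = bk ws ++ (invW w ++ ([18] ++ [9, 9])) := by simp [bk]
    have hi : okW (invW w) = true := by
      rw [okW_iff] at hw ⊢
      intro j hj
      simp only [invW, List.mem_reverse, List.mem_map] at hj
      obtain ⟨i, hi, rfl⟩ := hj
      have := hw i hi
      split <;> omega
    have e2 : fl (w :: ws) = [18] ++ w ++ fl ws := by simp [fl]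
    rw [e1, evz_append, evz_append, evz_append, ih fun u hu => h u (List.mem_cons_of_mem _ hu), evz_ev hi,
      ev_invW hw, evz_ev (w := [9, 9]) rfl, evz_z, e2, evz_append, evz_append, evz_z, evz_ev hw]
    have hzi : Z * ev [9, 9] = Z⁻¹ := by
      have h9 : ev [9, 9] = (ev [0, 0])⁻¹ := (ev_invW (w := [0, 0]) rfl)
      rw [h9, ← z_sq]
      group
    rw [hzi]
    group

/-! ### steps -/

/-- The fact that `g_i h z` lies in the coset of `g_j h'`. -/
def CFact (gi : L) (h : List ℕ) (gj : L) (h' : List ℕ) : Prop := InC (gi * ev h * Z) (gj * ev h')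

/-- A position on a walk. -/
def At (x0 : L) (u : List ℕ) (g : L) (h : List ℕ) : Prop := InC (x0 * evz u) (g * ev h)

theorem start (gi : L) (h : List ℕ) : At (gi * ev h) [] gi h := InC.of_eq (by simp [evz])

theorem stepZ {x0 gi gj : L} {u h hF hF' s k : List ℕ} (hP : At x0 u gi h) (hF0 : CFact gi hF gj hF')
    (hs : ev s ∈ X gi) (hk : okK k = true) (he : same h (s ++ hF ++ kw k) = true) (h2 : List ℕ)
    (h2e : same (hF' ++ kx k) h2 = true) : At x0 (u ++ [18]) gj h2 := by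
  have h1 : InC (x0 * evz (u ++ [18])) (gi * ev h * Z) := by
    rw [evz_append, evz_z, ← mul_assoc]; exact InC.mul hP Z
  refine h1.trans ?_
  rw [eq_ev he, ev_append, ev_append, ← eq_ev h2e, ev_append, ← conj_kw hk]
  have e1 : gi * (ev s * ev hF * ev (kw k)) * Z = gi * ev s * (ev hF * Z * (Z⁻¹ * ev (kw k) * Z)) := by group
  rw [e1]
  refine (InC.mul (mem_X.mp hs).2 _).trans ?_
  have e2 : gi * (ev hF * Z * (Z⁻¹ * ev (kw k) * Z)) = gi * ev hF * Z * (Z⁻¹ * ev (kw k) * Z) := by group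
  rw [e2, ← mul_assoc gj]
  exact InC.mul hF0 _

/-- The step from the base coset. -/
theorem stepBase {x0 : L} {u h : List ℕ} (hP : At x0 u 1 h) (hh : okW h = true) : At x0 (u ++ [18]) Z [] := by
  have h1 : InC (x0 * evz (u ++ [18])) (1 * ev h * Z) := by
    rw [evz_append, evz_z, ← mul_assoc]; exact InC.mul hP Z
  refine h1.trans ?_
  unfold InC
  rw [ev_nil, mul_one, one_mul, mul_inv_cancel_right]
  exact ev_H hh

theorem stepW {x0 g : L} {u h : List ℕ} (hP : At x0 u g h) (w h2 : List ℕ) (he : same (h ++ w) h2 = true) :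
    At x0 (u ++ w) g h2 := by
  have hw : okW w = true := by
    have := (same_ok he).1
    rw [okW_iff] at this ⊢
    exact fun i hi => this i (List.mem_append_right _ hi)
  unfold At
  rw [evz_append, evz_ev hw, ← mul_assoc, ← eq_ev he, ev_append, ← mul_assoc]
  exact InC.mul hP _

/-- A loop with a piece missing gives a fact. -/
theorem deduce {x0 g g' : L} {u b h h' wp t : List ℕ} (A B : List (List ℕ))
    (hF : At x0 u g h) (hB : At x0 b g' h') (hloop : evz (fl (A ++ wp :: B)) = 1)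
    (hu : u = fl A) (hb : b = bk B) (hBok : B.all okW = true) (hwp : okW wp = true)
    (ht : same (h' ++ invW wp) t = true) : CFact g h g' t := by
  have hBk : evz b = (evz (fl B))⁻¹ := hb ▸ bk_eq fun w hw => List.all_eq_true.mp hBok w hw
  have hl : evz u * Z * ev wp * evz (fl B) = 1 := by
    rw [← hloop, hu, fl_append, evz_append, show fl (wp :: B) = [18] ++ wp ++ fl B by simp [fl], evz_append,
      evz_append, evz_z, evz_ev hwp]
    group
  have key : x0 * evz u * Z = x0 * evz b * (ev wp)⁻¹ := by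
    rw [hBk, eq_mul_inv_iff_mul_eq, mul_assoc, mul_assoc]
    congr 1
    rw [← mul_assoc]
    exact eq_inv_of_mul_eq_one_left hl
  unfold CFact
  refine (InC.mul hF.symm Z).trans ?_
  rw [key, ← eq_ev ht, ev_append, ev_invW hwp, ← mul_assoc]
  exact InC.mul hB _

/-- Two positions in one coset give a stabiliser element. -/
theorem gen_of {x0 g : L} {u b h h' s : List ℕ} (hF : At x0 u g h) (hB : At x0 b g h')
    (hub : evz u = evz b) (hh' : okW h' = true) (hs : same (h ++ invW h') s = true) : ev s ∈ X g := by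
  refine mem_X.mpr ⟨ev_H (same_ok hs).2, ?_⟩
  rw [← eq_ev hs, ev_append, ev_invW hh']
  have h1 : InC (g * ev h) (g * ev h') := hF.symm.trans (by rw [hub]; exact hB)
  have := InC.mul h1 (ev h')⁻¹
  rwa [mul_inv_cancel_right, mul_assoc] at this

/-- A closed loop. -/
theorem closed {u b : List ℕ} (A B : List (List ℕ)) (hloop : evz (fl (A ++ B)) = 1) (hu : u = fl A) (hb : b = bk B)
    (hBok : B.all okW = true) : evz u = evz b := by
  rw [hu, hb, bk_eq fun w hw => List.all_eq_true.mp hBok w hw, eq_inv_iff_mul_eq_one, ← evz_append, ← fl_append]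
  exact hloop

/-- The reverse of a fact. -/
theorem CFact.rev {gi gj : L} {h h' : List ℕ} (f : CFact gi h gj h') (h2 : List ℕ)
    (he : same (h ++ [0, 0]) h2 = true) : CFact gj h' gi h2 := by
  unfold CFact
  rw [← eq_ev he, ev_append, ← z_sq]
  refine (InC.mul f.symm Z).trans (InC.of_eq ?_)
  group

/-- The fact defining a new representative. -/
theorem CFact.ofDef {gi gj : L} {r : List ℕ} (hg : gj = gi * ev r * Z) : CFact gi r gj [] :=
  InC.of_eq (by rw [hg, ev_nil, mul_one])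

/-- The stabiliser elements that are there from the start. -/
theorem gen_def {gi gj : L} {r s k : List ℕ} (hg : gj = gi * ev r * Z) (hs : ev s ∈ X gi) (hk : okK k = true)
    (he : same (s ++ r) (r ++ kw k) = true) : ev (kx k) ∈ X gj := by
  refine mem_X.mpr ⟨ev_H (kw_ok hk).2, ?_⟩
  have e1 := eq_ev he
  rw [ev_append, ev_append] at e1
  rw [hg, ← conj_kw hk]
  have e : gi * ev r * Z * (Z⁻¹ * ev (kw k) * Z) = gi * (ev r * ev (kw k)) * Z := by group
  rw [e, ← e1, ← mul_assoc]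
  exact InC.mul (InC.mul (mem_X.mp hs).2 _) _

/-- The stabiliser elements of the first coset. -/
theorem gen_Z {k : List ℕ} (hk : okK k = true) : ev (kx k) ∈ X Z := by
  refine mem_X.mpr ⟨ev_H (kw_ok hk).2, ?_⟩
  rw [← conj_kw hk]
  have e : Z * (Z⁻¹ * ev (kw k) * Z) * Z⁻¹ = ev (kw k) := by group
  unfold InC
  rw [e]
  exact ev_H (kw_ok hk).1

/-- Products of the generators fix the coset. -/
theorem mem_gw {g : L} (G : List (List ℕ)) (hG : ∀ i < G.length, ev (G.getD i []) ∈ X g) (s : List ℕ) :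
    ev ((s.map fun i => G.getD i []).flatten) ∈ X g := by
  induction s with
  | nil => simpa [ev_nil] using one_mem (X g)
  | cons i s ih =>
    rw [List.map_cons, List.flatten_cons, ev_append]
    refine mul_mem ?_ ih
    by_cases hi : i < G.length
    · exact hG i hi
    · rw [List.getD_eq_default _ _ (Nat.le_of_not_lt hi), ev_nil]
      exact one_mem _

end Cfsg.Agent.LyOrbitCore41
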