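import Cfsg.Agent.Lib.LyOrbitCore41

/-!
The subgroup G2(5) fixes a space of dimension 7 in the representation of degree 111; the conjugates of some
elements by the extra generator do not.
-/

set_option autoImplicit false
set_option maxRecDepth 100000
set_option maxHeartbeats 2000000
set_option Elab.async false

namespace Cfsg.Agent.LyOrbitNotMem41

open Cfsg.Agent.LyG2Five64 Cfsg.Agent.LyOrbitCore41 Cfsg.Agent.LyRep64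
open Cfsg.Agent.LyRepCore64 (PMat sMat sparse rowsOk evalWord digit pMat val evalWord_sound sameWord sameWord_sound)

/-- A basis of the invariant space, the matrices of the generators on it, and a functional vanishing on it. -/
def extraMats : List PMat := [
  [0x200000, 0x1000000, 0x8000000, 0x40000000, 0x200000000, 0x1000000000, 0x8000000000, 0x0, 0x0, 0x0, 0x0, 0x0, 0x0, 0x0, 0x0, 0x0, 0x0, 0x0, 0x0, 0x0, 0x0, 0x0, 0x0, 0x0, 0x0, 0x0, 0x0, 0x0, 0x0, 0x0, 0x0, 0x0, 0x0, 0x0, 0x0, 0x0, 0x0, 0x0, 0x0, 0x0, 0x0, 0x0, 0x0, 0x0, 0x0, 0x0, 0x0, 0x0, 0x0, 0x0, 0x0, 0x0, 0x0, 0x0, 0x0, 0x0, 0x0, 0x0, 0x0, 0x0, 0x0, 0x0, 0x0, 0x0, 0x0, 0x0, 0x0, 0x0, 0x0, 0x0, 0x0, 0x0, 0x0, 0x0, 0x0, 0x0, 0x0, 0x0, 0x0, 0x0, 0x0, 0x0, 0x0, 0x0, 0x0, 0x0, 0x0, 0x0, 0x0, 0x0, 0x0, 0x0, 0x0, 0x0, 0x0, 0x0, 0x0, 0x0, 0x0, 0x0, 0x0, 0x0, 0x0, 0x0,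 0x0, 0x0, 0x0, 0x0, 0x0, 0x0, 0x0],
  [0x11, 0x21, 0x22c0, 0x3640, 0x34c0, 0x58000, 0x98000, 0x0, 0x0, 0x0, 0x0, 0x0, 0x0, 0x0, 0x0, 0x0, 0x0, 0x0, 0x0, 0x0, 0x0, 0x0, 0x0, 0x0, 0x0, 0x0, 0x0, 0x0, 0x0, 0x0, 0x0, 0x0, 0x0, 0x0, 0x0, 0x0, 0x0, 0x0, 0x0, 0x0, 0x0, 0x0, 0x0, 0x0, 0x0, 0x0, 0x0, 0x0, 0x0, 0x0, 0x0, 0x0, 0x0, 0x0, 0x0, 0x0, 0x0, 0x0, 0x0, 0x0, 0x0, 0x0, 0x0, 0x0, 0x0, 0x0, 0x0, 0x0, 0x0, 0x0, 0x0, 0x0, 0x0, 0x0, 0x0, 0x0, 0x0, 0x0, 0x0, 0x0, 0x0, 0x0, 0x0, 0x0, 0x0, 0x0, 0x0, 0x0, 0x0, 0x0, 0x0, 0x0, 0x0, 0x0, 0x0, 0x0, 0x0, 0x0, 0x0, 0x0, 0x0, 0x0, 0x0, 0x0, 0x0, 0x0, 0x0, 0x0, 0x0, 0x0, 0x0],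
  [0x22, 0x1a, 0x22c0, 0x3640, 0x34c0, 0xe0000, 0x60000, 0x0, 0x0, 0x0, 0x0, 0x0, 0x0, 0x0, 0x0, 0x0, 0x0, 0x0, 0x0, 0x0, 0x0, 0x0, 0x0, 0x0, 0x0, 0x0, 0x0, 0x0, 0x0, 0x0, 0x0, 0x0, 0x0, 0x0, 0x0, 0x0, 0x0, 0x0, 0x0, 0x0, 0x0, 0x0, 0x0, 0x0, 0x0, 0x0, 0x0, 0x0, 0x0, 0x0, 0x0, 0x0, 0x0, 0x0, 0x0, 0x0, 0x0, 0x0, 0x0, 0x0, 0x0, 0x0, 0x0, 0x0, 0x0, 0x0, 0x0, 0x0, 0x0, 0x0, 0x0, 0x0, 0x0, 0x0, 0x0, 0x0, 0x0, 0x0, 0x0, 0x0, 0x0, 0x0, 0x0, 0x0, 0x0, 0x0, 0x0, 0x0, 0x0, 0x0, 0x0, 0x0, 0x0, 0x0, 0x0, 0x0, 0x0, 0x0, 0x0, 0x0, 0x0, 0x0, 0x0, 0x0, 0x0, 0x0, 0x0, 0x0, 0x0, 0x0, 0x0],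
  [0x1, 0xc, 0x40, 0x2c0, 0x1840, 0x8000, 0x60000, 0x0, 0x0, 0x0, 0x0, 0x0, 0x0, 0x0, 0x0, 0x0, 0x0, 0x0, 0x0, 0x0, 0x0, 0x0, 0x0, 0x0, 0x0, 0x0, 0x0, 0x0, 0x0, 0x0, 0x0, 0x0, 0x0, 0x0, 0x0, 0x0, 0x0, 0x0, 0x0, 0x0, 0x0, 0x0, 0x0, 0x0, 0x0, 0x0, 0x0, 0x0, 0x0, 0x0, 0x0, 0x0, 0x0, 0x0, 0x0, 0x0, 0x0, 0x0, 0x0, 0x0, 0x0, 0x0, 0x0, 0x0, 0x0, 0x0, 0x0, 0x0, 0x0, 0x0, 0x0, 0x0, 0x0, 0x0, 0x0, 0x0, 0x0, 0x0, 0x0, 0x0, 0x0, 0x0, 0x0, 0x0, 0x0, 0x0, 0x0, 0x0, 0x0, 0x0, 0x0, 0x0, 0x0, 0x0, 0x0, 0x0, 0x0, 0x0, 0x0, 0x0, 0x0, 0x0, 0x0, 0x0, 0x0, 0x0, 0x0, 0x0, 0x0, 0x0, 0x0],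
  [0x1, 0x9, 0x40, 0x280, 0x1240, 0x8000, 0x48000, 0x0, 0x0, 0x0, 0x0, 0x0, 0x0, 0x0, 0x0, 0x0, 0x0, 0x0, 0x0, 0x0, 0x0, 0x0, 0x0, 0x0, 0x0, 0x0, 0x0, 0x0, 0x0, 0x0, 0x0, 0x0, 0x0, 0x0, 0x0, 0x0, 0x0, 0x0, 0x0, 0x0, 0x0, 0x0, 0x0, 0x0, 0x0, 0x0, 0x0, 0x0, 0x0, 0x0, 0x0, 0x0, 0x0, 0x0, 0x0, 0x0, 0x0, 0x0, 0x0, 0x0, 0x0, 0x0, 0x0, 0x0, 0x0, 0x0, 0x0, 0x0, 0x0, 0x0, 0x0, 0x0, 0x0, 0x0, 0x0, 0x0, 0x0, 0x0, 0x0, 0x0, 0x0, 0x0, 0x0, 0x0, 0x0, 0x0, 0x0, 0x0, 0x0, 0x0, 0x0, 0x0, 0x0, 0x0, 0x0, 0x0, 0x0, 0x0, 0x0, 0x0, 0x0, 0x0, 0x0, 0x0, 0x0, 0x0, 0x0, 0x0, 0x0, 0x0, 0x0],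
  [0x1, 0x8, 0x41, 0x21c, 0x101b, 0x82e1, 0x444a1, 0x0, 0x0, 0x0, 0x0, 0x0, 0x0, 0x0, 0x0, 0x0, 0x0, 0x0, 0x0, 0x0, 0x0, 0x0, 0x0, 0x0, 0x0, 0x0, 0x0, 0x0, 0x0, 0x0, 0x0, 0x0, 0x0, 0x0, 0x0, 0x0, 0x0, 0x0, 0x0, 0x0, 0x0, 0x0, 0x0, 0x0, 0x0, 0x0, 0x0, 0x0, 0x0, 0x0, 0x0, 0x0, 0x0, 0x0, 0x0, 0x0, 0x0, 0x0, 0x0, 0x0, 0x0, 0x0, 0x0, 0x0, 0x0, 0x0, 0x0, 0x0, 0x0, 0x0, 0x0, 0x0, 0x0, 0x0, 0x0, 0x0, 0x0, 0x0, 0x0, 0x0, 0x0, 0x0, 0x0, 0x0, 0x0, 0x0, 0x0, 0x0, 0x0, 0x0, 0x0, 0x0, 0x0, 0x0, 0x0, 0x0, 0x0, 0x0, 0x0, 0x0, 0x0, 0x0, 0x0, 0x0, 0x0, 0x0, 0x0, 0x0, 0x0, 0x0, 0x0],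
  [0x1, 0x8, 0x44, 0x211, 0x1012, 0x88a1, 0x416e1, 0x0, 0x0, 0x0, 0x0, 0x0, 0x0, 0x0, 0x0, 0x0, 0x0, 0x0, 0x0, 0x0, 0x0, 0x0, 0x0, 0x0, 0x0, 0x0, 0x0, 0x0, 0x0, 0x0, 0x0, 0x0, 0x0, 0x0, 0x0, 0x0, 0x0, 0x0, 0x0, 0x0, 0x0, 0x0, 0x0, 0x0, 0x0, 0x0, 0x0, 0x0, 0x0, 0x0, 0x0, 0x0, 0x0, 0x0, 0x0, 0x0, 0x0, 0x0, 0x0, 0x0, 0x0, 0x0, 0x0, 0x0, 0x0, 0x0, 0x0, 0x0, 0x0, 0x0, 0x0, 0x0, 0x0, 0x0, 0x0, 0x0, 0x0, 0x0, 0x0, 0x0, 0x0, 0x0, 0x0, 0x0, 0x0, 0x0, 0x0, 0x0, 0x0, 0x0, 0x0, 0x0, 0x0, 0x0, 0x0, 0x0, 0x0, 0x0, 0x0, 0x0, 0x0, 0x0, 0x0, 0x0, 0x0, 0x0, 0x0, 0x0, 0x0, 0x0, 0x0],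
  [0x8000, 0x40000, 0x40, 0x200, 0x1000, 0x4, 0x20, 0x0, 0x0, 0x0, 0x0, 0x0, 0x0, 0x0, 0x0, 0x0, 0x0, 0x0, 0x0, 0x0, 0x0, 0x0, 0x0, 0x0, 0x0, 0x0, 0x0, 0x0, 0x0, 0x0, 0x0, 0x0, 0x0, 0x0, 0x0, 0x0, 0x0, 0x0, 0x0, 0x0, 0x0, 0x0, 0x0, 0x0, 0x0, 0x0, 0x0, 0x0, 0x0, 0x0, 0x0, 0x0, 0x0, 0x0, 0x0, 0x0, 0x0, 0x0, 0x0, 0x0, 0x0, 0x0, 0x0, 0x0, 0x0, 0x0, 0x0, 0x0, 0x0, 0x0, 0x0, 0x0, 0x0, 0x0, 0x0, 0x0, 0x0, 0x0, 0x0, 0x0, 0x0, 0x0, 0x0, 0x0, 0x0, 0x0, 0x0, 0x0, 0x0, 0x0, 0x0, 0x0, 0x0, 0x0, 0x0, 0x0, 0x0, 0x0, 0x0, 0x0, 0x0, 0x0, 0x0, 0x0, 0x0, 0x0, 0x0, 0x0, 0x0, 0x0, 0x0],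
  [0x20000, 0x100000, 0x40, 0x200, 0x1000, 0x1, 0x8, 0x0, 0x0, 0x0, 0x0, 0x0, 0x0, 0x0, 0x0, 0x0, 0x0, 0x0, 0x0, 0x0, 0x0, 0x0, 0x0, 0x0, 0x0, 0x0, 0x0, 0x0, 0x0, 0x0, 0x0, 0x0, 0x0, 0x0, 0x0, 0x0, 0x0, 0x0, 0x0, 0x0, 0x0, 0x0, 0x0, 0x0, 0x0, 0x0, 0x0, 0x0, 0x0, 0x0, 0x0, 0x0, 0x0, 0x0, 0x0, 0x0, 0x0, 0x0, 0x0, 0x0, 0x0, 0x0, 0x0, 0x0, 0x0, 0x0, 0x0, 0x0, 0x0, 0x0, 0x0, 0x0, 0x0, 0x0, 0x0, 0x0, 0x0, 0x0, 0x0, 0x0, 0x0, 0x0, 0x0, 0x0, 0x0, 0x0, 0x0, 0x0, 0x0, 0x0, 0x0, 0x0, 0x0, 0x0, 0x0, 0x0, 0x0, 0x0, 0x0, 0x0, 0x0, 0x0, 0x0, 0x0, 0x0, 0x0, 0x0, 0x0, 0x0, 0x0, 0x0],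
  [0x1, 0x4, 0x4, 0x1, 0x2, 0x4, 0x3, 0x0, 0x0, 0x0, 0x0, 0x0, 0x0, 0x0, 0x1, 0x1, 0x3, 0x4, 0x4, 0x3, 0x3, 0x1, 0x1, 0x1, 0x4, 0x3, 0x0, 0x0, 0x1, 0x4, 0x0, 0x2, 0x0, 0x2, 0x3, 0x4, 0x3, 0x3, 0x3, 0x4, 0x3, 0x1, 0x2, 0x0, 0x0, 0x1, 0x3, 0x1, 0x2, 0x3, 0x2, 0x3, 0x4, 0x3, 0x4, 0x2, 0x4, 0x4, 0x3, 0x4, 0x1, 0x2, 0x0, 0x2, 0x4, 0x1, 0x2, 0x4, 0x4, 0x4, 0x0, 0x1, 0x4, 0x2, 0x2, 0x0, 0x0, 0x3, 0x3, 0x0, 0x2, 0x0, 0x3, 0x1, 0x0, 0x2, 0x3, 0x3, 0x0, 0x0, 0x4, 0x4, 0x0, 0x3, 0x4, 0x2, 0x4, 0x2, 0x4, 0x1, 0x0, 0x2, 0x0, 0x0, 0x0, 0x4, 0x4, 0x0, 0x1, 0x3, 0x2]]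

/-- All the matrices. -/
def gs : List PMat := Cfsg.Agent.LyRepData64.gens ++ extraMats

theorem gs_ok : (List.range 23).all (fun k => rowsOk (gs.getD k [])) = true := by decide +kernel

theorem gs_ok' {w : List ℕ} (hw : ∀ g ∈ w, g < 23) : ∀ g ∈ w, rowsOk (gs.getD g []) = true :=
  fun g hg => List.all_eq_true.mp gs_ok g (List.mem_range.2 (hw g hg))

/-- The matrix of a letter. -/
noncomputable def Mx (k : ℕ) : Matrix (Fin 111) (Fin 111) (ZMod 5) := sMat (sparse (gs.getD k []))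

theorem Mx_eq {k : ℕ} (hk : k < 13) : Mx k = LyRepChain64.M k := by
  have h : k < Cfsg.Agent.LyRepData64.gens.length := lt_of_lt_of_le hk (by decide)
  simp only [Mx, gs, LyRepChain64.M, LyRepChain64.Mg, List.getD_eq_getElem?_getD, List.getElem?_append_left h]

/-- Matrices that fix the space. -/
def Fixes (u : Matrix (Fin 111) (Fin 111) (ZMod 5)) : Prop := ∃ A, Mx 13 * u = A * Mx 13

theorem fixes_gen : ∀ k, k < 8 → Fixes (LyRepChain64.M k) := by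
  have h : (List.range 8).all (fun k => sameWord gs [13, k] [14 + k, 13]) = true := by decide +kernel
  intro k hk
  refine ⟨Mx (14 + k), ?_⟩
  have e := sameWord_sound (gs_ok' (w := [13, k]) (by simp; omega)) (gs_ok' (w := [14 + k, 13]) (by simp; omega))
    (List.all_eq_true.mp h k (List.mem_range.2 hk))
  rw [← Mx_eq (by omega)]
  simpa [Mx] using e

theorem fixes_mul {u v : Matrix (Fin 111) (Fin 111) (ZMod 5)} (hu : Fixes u) (hv : Fixes v) : Fixes (u * v) := by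
  obtain ⟨A, hA⟩ := hu
  obtain ⟨B, hB⟩ := hv
  exact ⟨A * B, by rw [← mul_assoc, hA, mul_assoc, hB, mul_assoc]⟩

theorem fixes_one : Fixes (1 : Matrix (Fin 111) (Fin 111) (ZMod 5)) := ⟨1, by rw [mul_one, one_mul]⟩

theorem W_F : Mx 13 * Mx 22 = 0 := by
  have h : (match evalWord gs [13, 22] with
      | some X => X.all (fun x => x == 0)
      | none => false) = true := by decide +kernel
  cases h1 : evalWord gs [13, 22] with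
  | none => simp [h1] at h
  | some X =>
    simp only [h1, List.all_eq_true, beq_iff_eq] at h
    obtain ⟨-, e⟩ := evalWord_sound gs [13, 22] X (gs_ok' (by simp)) h1
    have e2 : Mx 13 * Mx 22 = pMat X := by rw [e]; simp [Mx]
    rw [e2]
    ext i j
    simp only [pMat, val, Matrix.zero_apply]
    rcases Nat.lt_or_ge i.1 X.length with hi | hi
    · rw [List.getD_eq_getElem _ _ hi, h _ (List.getElem_mem hi)]; simp [digit]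
    · rw [List.getD_eq_default _ _ hi]; simp [digit]

/-- The letters of the subgroup as matrices of the representation. -/
def tr : List (List ℕ) := [[0], [2], [4], [1, 4, 0], [3, 4, 2], [2, 4, 3], [11], [6], [10], [1], [3], [5], [1, 5, 0], [3, 5, 2], [2, 5, 3], [12], [7], [10]]

theorem rho_letLy {i : ℕ} (hi : i < 18) : rho (letLy i) = ((tr.getD i []).map U).prod := by
  have h := holds
  interval_cases i <;>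
    simp [letLy, tr, rho_mk, gen, base, h.inv0, h.inv2, h.inv4, h.inv6, h.inv8, h.inv11, h.inv10, mul_inv_rev,
      mul_assoc]

theorem rho_ev {w : List ℕ} (hw : okW w = true) :
    rho (ev w) = (((w.map fun i => tr.getD i []).flatten).map U).prod := by
  rw [okW_iff] at hw
  induction w with
  | nil => simp [ev_nil]
  | cons i w ih =>
    rw [ev_cons, map_mul, rho_letLy (hw i List.mem_cons_self), ih fun j hj => hw j (List.mem_cons_of_mem _ hj),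
      List.map_cons, List.flatten_cons, List.map_append, List.prod_append]

theorem fixes_H {h : L} (hh : h ∈ HLy) : Fixes (rho h).val := by
  rw [HLy, MonoidHom.map_closure] at hh
  induction hh using Subgroup.closure_induction'' with
  | one => rw [map_one]; exact fixes_one
  | mem x hx =>
    obtain ⟨y, hy, rfl⟩ := hx
    simp only [Set.mem_insert_iff, Set.mem_singleton_iff] at hy
    rcases hy with rfl | rfl | rfl | rfl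
    · rw [show mk Cfsg.Spor.Ly.a = letLy 0 from rfl, rho_letLy (by norm_num)]
      simpa [tr, coe_U] using fixes_gen 0 (by norm_num)
    · rw [show mk Cfsg.Spor.Ly.b = letLy 1 from rfl, rho_letLy (by norm_num)]
      simpa [tr, coe_U] using fixes_gen 2 (by norm_num)
    · rw [show mk Cfsg.Spor.Ly.c = letLy 2 from rfl, rho_letLy (by norm_num)]
      simpa [tr, coe_U] using fixes_gen 4 (by norm_num)
    · rw [show mk Cfsg.Spor.Ly.d = letLy 7 from rfl, rho_letLy (by norm_num)]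
      simpa [tr, coe_U] using fixes_gen 6 (by norm_num)
  | inv_mem x hx =>
    obtain ⟨y, hy, rfl⟩ := hx
    simp only [Set.mem_insert_iff, Set.mem_singleton_iff] at hy
    rcases hy with rfl | rfl | rfl | rfl
    · rw [show (mk Cfsg.Spor.Ly.a)⁻¹ = letLy 9 from rfl, rho_letLy (by norm_num)]
      simpa [tr, coe_U] using fixes_gen 1 (by norm_num)
    · rw [show (mk Cfsg.Spor.Ly.b)⁻¹ = letLy 10 from rfl, rho_letLy (by norm_num)]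
      simpa [tr, coe_U] using fixes_gen 3 (by norm_num)
    · rw [show (mk Cfsg.Spor.Ly.c)⁻¹ = letLy 11 from rfl, rho_letLy (by norm_num)]
      simpa [tr, coe_U] using fixes_gen 5 (by norm_num)
    · rw [show (mk Cfsg.Spor.Ly.d)⁻¹ = letLy 16 from rfl, rho_letLy (by norm_num)]
      simpa [tr, coe_U] using fixes_gen 7 (by norm_num)
  | mul x y _ _ ihx ihy => rw [map_mul, Units.val_mul]; exact fixes_mul ihx ihy

/-- The test. -/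
noncomputable def moves (w : List ℕ) (i : ℕ) : Bool :=
  okW w && Nat.blt i 111 &&
    match evalWord gs (13 :: 9 :: ((w.map fun i => tr.getD i []).flatten) ++ [8, 22]) with
    | some X => !(digit (X.getD i 0) 0 % 5 == 0)
    | none => false

theorem rho_Z : rho Z = U 8 := by simp [Z, rho_mk, gen]

theorem not_K {w : List ℕ} {i : ℕ} (h : moves w i = true) : ev w ∉ K := by
  simp only [moves, Bool.and_eq_true, Nat.blt_eq] at h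
  obtain ⟨⟨hw, hi⟩, hm⟩ := h
  intro hK
  have htr : ∀ g ∈ (w.map fun i => tr.getD i []).flatten, g < 13 := by
    have hall : ∀ i < 18, ∀ g ∈ tr.getD i [], g < 13 := by decide
    intro g hg
    simp only [List.mem_flatten, List.mem_map] at hg
    obtain ⟨l, ⟨j, hj, rfl⟩, hgl⟩ := hg
    exact hall j (okW_iff.mp hw j hj) g hgl
  set t := (w.map fun i => tr.getD i []).flatten with ht
  have hlt : ∀ g ∈ 13 :: 9 :: t ++ [8, 22], g < 23 := by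
    intro g hg
    simp only [List.mem_cons, List.cons_append, List.mem_append, List.not_mem_nil, or_false] at hg
    rcases hg with rfl | rfl | hg | rfl | rfl
    any_goals norm_num
    exact (htr g hg).trans (by norm_num)
  obtain ⟨A, hA⟩ := fixes_H (mem_K.mp hK).2
  have hv : (rho (Z⁻¹ * ev w * Z)).val = ((9 :: t ++ [8]).map Mx).prod := by
    have hU : U 9 = (U 8)⁻¹ := holds.inv8
    have hlt2 : ∀ g ∈ 9 :: t ++ [8], g < 13 := by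
      intro g hg
      simp only [List.mem_cons, List.cons_append, List.mem_append, List.not_mem_nil, or_false] at hg
      rcases hg with rfl | hg | rfl
      · norm_num
      · exact htr g hg
      · norm_num
    have e : rho (Z⁻¹ * ev w * Z) = ((9 :: t ++ [8]).map U).prod := by
      rw [map_mul, map_mul, map_inv, rho_Z, rho_ev hw, ← ht, ← hU, List.map_append, List.prod_append, List.map_cons,
        List.prod_cons, List.map_singleton, List.prod_singleton]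
    rw [e, ← Units.coeHom_apply, map_list_prod, List.map_map]
    refine congrArg List.prod (List.map_congr_left fun g hg => ?_)
    simp only [Function.comp_apply, Units.coeHom_apply]
    rw [coe_U (hlt2 g hg), Mx_eq (hlt2 g hg)]
  rw [hv] at hA
  have hz : ((13 :: 9 :: t ++ [8, 22]).map Mx).prod = 0 := by
    have e : 13 :: 9 :: t ++ [8, 22] = 13 :: ((9 :: t ++ [8]) ++ [22]) := by simp
    rw [e, List.map_cons, List.prod_cons, List.map_append, List.prod_append, ← mul_assoc, hA, mul_assoc,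
      List.map_singleton, List.prod_singleton, W_F, mul_zero]
  cases h1 : evalWord gs (13 :: 9 :: t ++ [8, 22]) with
  | none => rw [h1] at hm; exact absurd hm (by simp)
  | some X =>
    rw [h1] at hm
    obtain ⟨-, e⟩ := evalWord_sound gs _ X (gs_ok' hlt) h1
    simp only [Bool.not_eq_true', beq_eq_false_iff_ne, ne_eq] at hm
    apply hm
    have e0 : pMat X ⟨i, hi⟩ ⟨0, by norm_num⟩ = 0 := by
      rw [e, show (List.map (fun g => sMat (sparse (gs.getD g []))) (13 :: 9 :: t ++ [8, 22])).prod =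
        ((13 :: 9 :: t ++ [8, 22]).map Mx).prod from rfl, hz]
      rfl
    simp only [pMat, val] at e0
    have := congrArg ZMod.val e0
    rwa [ZMod.val_natCast, ZMod.val_zero] at this

theorem out_0_1 : ev [1] ∉ K := not_K (i := 0) (by decide +kernel)

theorem out_0_2 : ev [0, 1] ∉ K := not_K (i := 0) (by decide +kernel)

theorem out_0_3 : ev [1, 0, 1] ∉ K := not_K (i := 1) (by decide +kernel)

theorem out_0_4 : ev [1, 1, 0, 1] ∉ K := not_K (i := 0) (by decide +kernel)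

theorem out_1_0 : ev [16] ∉ K := not_K (i := 0) (by decide +kernel)

theorem out_1_1 : ev [16, 1] ∉ K := not_K (i := 0) (by decide +kernel)

theorem out_1_2 : ev [16, 0, 1] ∉ K := not_K (i := 0) (by decide +kernel)

theorem out_1_3 : ev [16, 1, 0, 1] ∉ K := not_K (i := 1) (by decide +kernel)

theorem out_1_4 : ev [16, 1, 1, 0, 1] ∉ K := not_K (i := 0) (by decide +kernel)

theorem out_2_0 : ev [17] ∉ K := not_K (i := 0) (by decide +kernel)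

theorem out_2_1 : ev [17, 1] ∉ K := not_K (i := 0) (by decide +kernel)

theorem out_2_2 : ev [17, 0, 1] ∉ K := not_K (i := 0) (by decide +kernel)

theorem out_2_3 : ev [17, 1, 0, 1] ∉ K := not_K (i := 0) (by decide +kernel)

theorem out_2_4 : ev [17, 1, 1, 0, 1] ∉ K := not_K (i := 0) (by decide +kernel)

theorem out_3_0 : ev [17, 16] ∉ K := not_K (i := 1) (by decide +kernel)

theorem out_3_1 : ev [17, 16, 1] ∉ K := not_K (i := 1) (by decide +kernel)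

theorem out_3_2 : ev [17, 16, 0, 1] ∉ K := not_K (i := 0) (by decide +kernel)

theorem out_3_3 : ev [17, 16, 1, 0, 1] ∉ K := not_K (i := 0) (by decide +kernel)

theorem out_3_4 : ev [17, 16, 1, 1, 0, 1] ∉ K := not_K (i := 0) (by decide +kernel)

theorem dist_0_1 : ev [1] ∉ K := not_K (i := 0) (by decide +kernel)

theorem dist_0_2 : ev [0, 1] ∉ K := not_K (i := 0) (by decide +kernel)

theorem dist_0_3 : ev [1, 0, 1] ∉ K := not_K (i := 1) (by decide +kernel)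

theorem dist_0_4 : ev [1, 1, 0, 1] ∉ K := not_K (i := 0) (by decide +kernel)

theorem dist_1_2 : ev [10, 0, 1] ∉ K := not_K (i := 0) (by decide +kernel)

theorem dist_1_3 : ev [10, 1, 0, 1] ∉ K := not_K (i := 0) (by decide +kernel)

theorem dist_1_4 : ev [10, 1, 1, 0, 1] ∉ K := not_K (i := 1) (by decide +kernel)

theorem dist_2_3 : ev [10, 9, 1, 0, 1] ∉ K := not_K (i := 0) (by decide +kernel)

theorem dist_2_4 : ev [10, 9, 1, 1, 0, 1] ∉ K := not_K (i := 0) (by decide +kernel)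

theorem dist_3_4 : ev [10, 9, 10, 1, 1, 0, 1] ∉ K := not_K (i := 0) (by decide +kernel)

end Cfsg.Agent.LyOrbitNotMem41
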