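import Cfsg.Agent.Lib.LyOrbitClosed41
import Cfsg.Agent.Lib.LyOrbitNotMem41

/-!
The order of G2(5) in the presented Lyons group, of its parabolic subgroup and of the part normalised by the
extra generator; the 3906 cosets of the parabolic subgroup are different.
-/

set_option autoImplicit false
set_option maxRecDepth 100000
set_option maxHeartbeats 1000000

namespace Cfsg.Agent.LyOrbitCount41

open Cfsg.Agent.LyG2Five64 Cfsg.Agent.LyOrbitCore41 Cfsg.Agent.LyOrbitCover41 Cfsg.Agent.LyOrbitClosed41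
open Cfsg.Agent.LyG2Cert64 (certG certP certL)

theorem card_H : Nat.card HLy = 5859000000 := by
  obtain ⟨e⟩ := iso
  rw [Nat.card_congr e.toEquiv, S1059.result (q := 5) (ZMod.card 5)]
  norm_num

theorem simple_H : IsSimpleGroup HLy := by
  obtain ⟨e⟩ := iso
  haveI : IsSimpleGroup (Cfsg.Lie.chevG2.group K5) := (S1055.result ⟨2, by decide, by decide⟩).1
  haveI : Nontrivial HLy := e.toEquiv.nontrivial
  exact IsSimpleGroup.isSimpleGroup_of_surjective e.symm.toMonoidHom e.symm.surjective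

theorem finite_H : Finite HLy := Nat.finite_of_card_ne_zero (by rw [card_H]; norm_num)

theorem finite_le {S : Subgroup L} (h : S ≤ HLy) : Finite S :=
  haveI := finite_H
  Finite.of_injective _ (Subgroup.inclusion_injective h)

theorem finite_P : Finite P := finite_le P_le

theorem card_P_le : Nat.card P ≤ 1500000 := by
  obtain ⟨fL, fP, fG, rL, rP, hsP, hL, hL', hG', hG, sP, sG⟩ := ren_facts
  have hbot : Subgroup.closure ((let2 ∘ renL) '' {i | i ∈ certL.sub}) = ⊥ := by
    simp [certL]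
  haveI : Finite (Subgroup.closure ((let2 ∘ renL) '' {i | i ∈ certL.sub})) := by
    rw [hbot]; infer_instance
  obtain ⟨f1, c1⟩ := level (C := certL) LyG2All64.basicL LyG2All64.justL (let2 ∘ renL)
    (by simp [certL]) (fun i hi => (fL i hi).2.1)
    (fun i hi => by
      show let2 (renL i) * let2 (renL (certL.iv i)) = 1
      rw [(fL i hi).2.2]; exact let2_iv (fL i hi).1)
    (fun w hw => by rw [← List.map_map]; exact let2_rels (rL w hw))
  rw [hbot, Subgroup.card_bot, mul_one] at c1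
  have e1 : (let2 ∘ renP) '' {i | i ∈ certP.sub} = (let2 ∘ renL) '' {i | i < certL.L} := by
    rw [Set.image_comp, Set.image_comp]
    congr 1
    ext i
    constructor
    · rintro ⟨k, hk, rfl⟩
      obtain ⟨l, hl, he⟩ := hL' (renP k) (hsP ▸ List.mem_map_of_mem hk)
      exact ⟨l, hl, he⟩
    · rintro ⟨k, hk, rfl⟩
      have := hL k hk
      rw [← hsP, List.mem_map] at this
      exact this
  haveI : Finite (Subgroup.closure ((let2 ∘ renP) '' {i | i ∈ certP.sub})) := by
    rw [e1]; exact f1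
  obtain ⟨f2, c2⟩ := level (C := certP) LyG2All64.basicP LyG2All64.justP (let2 ∘ renP)
    sP (fun i hi => (fP i hi).2.1)
    (fun i hi => by
      show let2 (renP i) * let2 (renP (certP.iv i)) = 1
      rw [(fP i hi).2.2]; exact let2_iv (fP i hi).1)
    (fun w hw => by rw [← List.map_map]; exact let2_rels (rP w hw))
  rw [e1] at c2
  set Q := Subgroup.closure ((let2 ∘ renP) '' {i | i < certP.L}) with hQ
  haveI := f2
  have hle : P ≤ Q.map (MonoidHom.fst _ _) := by
    rw [P, Subgroup.closure_le]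
    rintro _ ⟨i, hi, rfl⟩
    obtain ⟨k, hk, rfl⟩ := hG' i hi
    exact ⟨let2 (renP k), Subgroup.subset_closure ⟨k, hk, rfl⟩, rfl⟩
  haveI : Finite (Q.map (MonoidHom.fst Spor.Ly _)) :=
    Finite.of_surjective _ ((MonoidHom.fst Spor.Ly _).subgroupMap_surjective Q)
  have h1 : Nat.card P ≤ Nat.card (Q.map (MonoidHom.fst Spor.Ly _)) :=
    Nat.card_le_card_of_injective _ (Subgroup.inclusion_injective hle)
  have h2 : Nat.card (Q.map (MonoidHom.fst Spor.Ly _)) ≤ Nat.card Q :=
    Nat.card_le_card_of_surjective _ ((MonoidHom.fst Spor.Ly _).subgroupMap_surjective Q)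
  refine (h1.trans h2).trans (c2.trans ?_)
  refine (Nat.mul_le_mul_left _ c1).trans ?_
  simp [certP, certL]

theorem card_P : Nat.card P = 1500000 := by
  refine le_antisymm card_P_le ?_
  haveI := finite_H
  haveI := finite_P
  have hf : ∀ h : HLy, ∃ p : Fin 3906 × P, (h : L) = (p.2 : L) * rp p.1 := fun h => by
    obtain ⟨v, hv, κ, hκ, e⟩ := H_cover h.2
    exact ⟨(⟨v, hv⟩, ⟨κ, hκ⟩), e⟩
  choose f hf using hf
  have hinj : Function.Injective f := fun x y e => Subtype.ext (by rw [hf x, hf y, e])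
  have h := Nat.card_le_card_of_injective f hinj
  rw [card_H, Nat.card_prod, Nat.card_eq_fintype_card, Fintype.card_fin] at h
  omega

theorem rp_H {v : ℕ} : rp v ∈ HLy := by
  induction v using Nat.strong_induction_on with
  | _ v ih =>
    rw [rp, UnitaryPres49Cert.rep_eq]
    split_ifs with h
    · exact mul_mem (ih _ h) (letLy_H (Nat.mod_lt _ (by simp [certG])))
    · exact one_mem _

/-- The point of a coset of the parabolic subgroup. -/
noncomputable def pt' (v : ℕ) : L ⧸ P := QuotientGroup.mk (rp v)⁻¹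

theorem pt'_inj {v w : ℕ} (hv : v < 3906) (hw : w < 3906) (e : pt' v = pt' w) : v = w := by
  haveI := finite_H
  haveI := finite_P
  let g : Fin 3906 × P → HLy := fun p => ⟨(p.2 : L) * rp p.1, mul_mem (P_le p.2.2) rp_H⟩
  have hsurj : Function.Surjective g := fun h => by
    obtain ⟨u, hu, κ, hκ, e⟩ := H_cover h.2
    exact ⟨(⟨u, hu⟩, ⟨κ, hκ⟩), Subtype.ext e.symm⟩
  have hc : Nat.card (Fin 3906 × P) = Nat.card HLy := by
    rw [card_H, Nat.card_prod, card_P, Nat.card_eq_fintype_card, Fintype.card_fin]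
  have hb : Function.Bijective g := hsurj.bijective_of_nat_card_le hc.le
  rw [pt', pt', QuotientGroup.eq, inv_inv] at e
  have h' : g (⟨w, hw⟩, 1) = g (⟨v, hv⟩, ⟨(rp v * (rp w)⁻¹)⁻¹, inv_mem e⟩) := Subtype.ext (by simp [g])
  exact (congrArg (fun p => (p.1 : ℕ)) (hb.1 h')).symm

theorem walk_pt {w : List ℕ} (hw : okW w = true) {v : ℕ} (hv : v < 3906) :
    walkG w v < 3906 ∧ (ev w)⁻¹ • pt' v = pt' (walkG w v) := by
  obtain ⟨h, κ, hκ, e⟩ := walk_spec hw hv
  refine ⟨h, ?_⟩
  rw [pt', pt', MulAction.Quotient.smul_mk, QuotientGroup.eq]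
  have e' : ((ev w)⁻¹ • (rp v)⁻¹)⁻¹ * (rp (walkG w v))⁻¹ = κ := by
    rw [smul_eq_mul, mul_inv_rev, inv_inv, inv_inv, e, mul_inv_cancel_right]
  rw [e']
  exact hκ

theorem p5_inj {i j : ℕ} (hi : i < 5) (hj : j < 5) {k k' : L} (hk : k ∈ K) (hk' : k' ∈ K)
    (e : ev (p5.getD i []) * k = ev (p5.getD j []) * k') : i = j := by
  have main : ∀ {i j : ℕ}, i < j → j < 5 → ∀ {k k' : L}, k ∈ K → k' ∈ K →
      ev (p5.getD i []) * k = ev (p5.getD j []) * k' → False := by
    intro i j hij hj k k' hk hk' e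
    have h : (ev (p5.getD i []))⁻¹ * ev (p5.getD j []) ∈ K := by
      have : (ev (p5.getD i []))⁻¹ * ev (p5.getD j []) = k * k'⁻¹ := by
        rw [inv_mul_eq_iff_eq_mul, ← mul_assoc, e, mul_inv_cancel_right]
      rw [this]; exact mul_mem hk (inv_mem hk')
    have hi : i < 5 := by omega
    rw [← ev_invW (by interval_cases i <;> rfl), ← ev_append] at h
    interval_cases j <;> interval_cases i <;> (revert h)
    exacts [LyOrbitNotMem41.dist_0_1, LyOrbitNotMem41.dist_0_2, LyOrbitNotMem41.dist_1_2,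
      LyOrbitNotMem41.dist_0_3, LyOrbitNotMem41.dist_1_3, LyOrbitNotMem41.dist_2_3,
      LyOrbitNotMem41.dist_0_4, LyOrbitNotMem41.dist_1_4, LyOrbitNotMem41.dist_2_4, LyOrbitNotMem41.dist_3_4]
  rcases lt_trichotomy i j with h | h | h
  · exact (main h hj hk hk' e).elim
  · exact h
  · exact (main h hi hk' hk e.symm).elim

theorem card_K0 : Nat.card K0 = 300000 := by
  haveI := finite_P
  haveI : Finite K0 := finite_le (inf_le_right.trans P_le)
  let g : Fin 5 × K0 → P := fun p =>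
    ⟨ev (p5.getD p.1 []) * (p.2 : L), mul_mem p5_P (Subgroup.mem_inf.mp p.2.2).2⟩
  have hb : Function.Bijective g := by
    constructor
    · rintro ⟨i, k⟩ ⟨j, k'⟩ e
      have e' := congrArg Subtype.val e
      have h := p5_inj i.2 j.2 (Subgroup.mem_inf.mp k.2).1 (Subgroup.mem_inf.mp k'.2).1 e'
      have h' : i = j := Fin.ext h
      subst h'
      exact Prod.ext rfl (Subtype.ext (mul_left_cancel e'))
    · intro x
      obtain ⟨p, hp, k, hk, e⟩ := P_five five_ok x.2
      exact ⟨(⟨p, hp⟩, ⟨k, hk⟩), Subtype.ext e.symm⟩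
  have h := Nat.card_congr (Equiv.ofBijective g hb)
  rw [Nat.card_prod, card_P, Nat.card_eq_fintype_card, Fintype.card_fin] at h
  omega

theorem K_eq : K = K0 := by
  refine le_antisymm (fun x hx => ?_) inf_le_left
  have hXK : ∀ s ∈ X Z, s ∈ K := by
    intro s hs
    obtain ⟨h1, h2⟩ := mem_X.mp hs
    refine mem_K.mpr ⟨h1, ?_⟩
    have e : Z⁻¹ * s * Z = (ev [0, 0])⁻¹ * (Z * s * Z⁻¹) * ev [0, 0] := by
      rw [← z_sq]; group
    rw [e]
    exact mul_mem (mul_mem (inv_mem (ev_H rfl)) h2) (ev_H rfl)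
  have hG : ∀ g < gens1.length, ev (gens1.getD g []) ∈ X Z ⊓ P := by
    intro g hg
    refine ⟨gens_mem1 g hg, ev_P ?_⟩
    have h : ∀ l ∈ gens1, ∀ i ∈ l, i ∈ certG.sub := by decide
    rw [List.getD_eq_getElem _ _ hg]
    exact h _ (List.getElem_mem hg)
  obtain ⟨s, hs, r, hr, p, hp, k, hk, e⟩ := decomp five_ok forest_ok1 (X Z ⊓ P) hG (mem_K.mp hx).1
  obtain ⟨hk1, hk2⟩ := Subgroup.mem_inf.mp hk
  obtain ⟨hs1, hs2⟩ := Subgroup.mem_inf.mp hs
  have hw : ev (invW (roots1.getD r []) ++ p5.getD p []) ∈ K := by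
    have : ev (invW (roots1.getD r []) ++ p5.getD p []) = s⁻¹ * x * k⁻¹ := by rw [e]; group
    rw [this]
    exact mul_mem (mul_mem (inv_mem (hXK s hs1)) hx) (inv_mem hk1)
  have h0 : r = 0 ∧ p = 0 := by
    by_contra hne
    have hr4 : r < 4 := hr
    interval_cases r <;> interval_cases p
    all_goals first
      | exact hne ⟨rfl, rfl⟩
      | exact LyOrbitNotMem41.out_0_1 hw
      | exact LyOrbitNotMem41.out_0_2 hw
      | exact LyOrbitNotMem41.out_0_3 hw
      | exact LyOrbitNotMem41.out_0_4 hw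
      | exact LyOrbitNotMem41.out_1_0 hw
      | exact LyOrbitNotMem41.out_1_1 hw
      | exact LyOrbitNotMem41.out_1_2 hw
      | exact LyOrbitNotMem41.out_1_3 hw
      | exact LyOrbitNotMem41.out_1_4 hw
      | exact LyOrbitNotMem41.out_2_0 hw
      | exact LyOrbitNotMem41.out_2_1 hw
      | exact LyOrbitNotMem41.out_2_2 hw
      | exact LyOrbitNotMem41.out_2_3 hw
      | exact LyOrbitNotMem41.out_2_4 hw
      | exact LyOrbitNotMem41.out_3_0 hw
      | exact LyOrbitNotMem41.out_3_1 hw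
      | exact LyOrbitNotMem41.out_3_2 hw
      | exact LyOrbitNotMem41.out_3_3 hw
      | exact LyOrbitNotMem41.out_3_4 hw
  obtain ⟨rfl, rfl⟩ := h0
  refine Subgroup.mem_inf.mpr ⟨hx, ?_⟩
  rw [e, show invW (roots1.getD 0 []) ++ p5.getD 0 [] = [] from rfl, ev_nil, mul_one]
  exact mul_mem hs2 hk2

theorem X_Z_eq : X Z = K := by
  ext s
  rw [mem_X, mem_K]
  unfold InC
  refine and_congr_right fun _ => ?_
  have e1 : Z⁻¹ * s * Z = (ev [0, 0])⁻¹ * (Z * s * Z⁻¹) * ev [0, 0] := by rw [← z_sq]; group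
  have e2 : Z * s * Z⁻¹ = ev [0, 0] * (Z⁻¹ * s * Z) * (ev [0, 0])⁻¹ := by rw [e1]; group
  constructor
  · intro h; rw [e1]; exact mul_mem (mul_mem (inv_mem (ev_H rfl)) h) (ev_H rfl)
  · intro h; rw [e2]; exact mul_mem (mul_mem (ev_H rfl) h) (inv_mem (ev_H rfl))

theorem card_XZ : Nat.card (X Z) = 300000 := by rw [X_Z_eq, K_eq, card_K0]

end Cfsg.Agent.LyOrbitCount41
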