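import Cfsg.Agent.Lib.LyOrbitCore41
import Cfsg.Agent.Lib.LyG2All64
import Cfsg.Agent.Lib.CosetCertTable

/-!
Every element of G2(5) is a product of a stabiliser element, a representative and an element of the subgroup
normalised by the extra generator: orbits on the 3906 cosets of a parabolic subgroup, then five cosets inside it.
-/

set_option autoImplicit false
set_option maxRecDepth 100000

namespace Cfsg.Agent.LyOrbitCover41

open Cfsg.Agent.LyG2Five64 Cfsg.Agent.LyOrbitCore41
open Cfsg.Agent.CosetCertCore (Tbl entry force force_eq)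
open Cfsg.Agent.UnitaryPres49Cert
open Cfsg.Agent.LyG2Cert64 (certG reasonsG)

/-- The parabolic subgroup. -/
noncomputable def P : Subgroup L := Subgroup.closure (letLy '' {i | i ∈ certG.sub})

/-- The tree representatives. -/
noncomputable def rp (v : ℕ) : L := rep certG letLy v

theorem rp_zero : rp 0 = 1 := rep_zero certG letLy

theorem sub_lt : ∀ i ∈ certG.sub, i < 18 := by decide

theorem P_le : P ≤ HLy := by
  rw [P, Subgroup.closure_le]
  rintro _ ⟨i, hi, rfl⟩
  exact letLy_H (sub_lt i hi)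

theorem ev_P {w : List ℕ} (hw : ∀ i ∈ w, i ∈ certG.sub) : ev w ∈ P :=
  Subgroup.list_prod_mem _ fun x hx => by
    obtain ⟨i, hi, rfl⟩ := List.mem_map.mp hx
    exact Subgroup.subset_closure ⟨i, hw i hi, rfl⟩

theorem edgeG {v i : ℕ} (hv : v < 3906) (hi : i < 18) :
    certG.img v i < 3906 ∧ ∃ κ ∈ P, rp v * letLy i = κ * rp (certG.img v i) := by
  constructor
  · have h := LyG2All64.justG v hv i hi
    simp only [LyG2Check64.justE, CosetCertCore.force_eq, Bool.and_eq_true, Nat.blt_eq] at h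
    exact h.1
  · exact LyG2Check64.edge_sound (K := P) LyG2All64.basicG LyG2All64.justG (fun i hi => letLy_iv i hi) ly_rels
      (fun i hi => Subgroup.subset_closure ⟨i, hi, rfl⟩) _ v i hv hi rfl

/-- Follow a word in the table. -/
noncomputable def walkG (w : List ℕ) : ℕ → ℕ :=
  List.rec (motive := fun _ => ℕ → ℕ) (fun v => v) (fun i _ ih v => force (certG.img v i) ih) w

theorem walk_spec : ∀ {w : List ℕ}, okW w = true → ∀ {v : ℕ}, v < 3906 →
    walkG w v < 3906 ∧ ∃ κ ∈ P, rp v * ev w = κ * rp (walkG w v) := by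
  intro w
  induction w with
  | nil => intro _ v hv; exact ⟨hv, 1, one_mem _, by simp [walkG, ev_nil]⟩
  | cons i w ih =>
    intro hw v hv
    rw [okW_iff] at hw
    obtain ⟨hv1, κ, hκ, e⟩ := edgeG hv (hw i List.mem_cons_self)
    obtain ⟨hv2, κ', hκ', e'⟩ := ih (okW_iff.mpr fun j hj => hw j (List.mem_cons_of_mem _ hj)) hv1
    have ew : walkG (i :: w) v = walkG w (certG.img v i) := by simp only [walkG, force_eq]
    rw [ew]
    refine ⟨hv2, κ * κ', mul_mem hκ hκ', ?_⟩
    rw [ev_cons, ← mul_assoc, e, mul_assoc, e', mul_assoc]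

theorem H_cover {h : L} (hh : h ∈ HLy) : ∃ v < 3906, ∃ κ ∈ P, h = κ * rp v := by
  suffices H : ∀ v < 3906, ∃ v' < 3906, ∃ κ ∈ P, rp v * h = κ * rp v' by
    obtain ⟨v', hv', κ, hκ, e⟩ := H 0 (by norm_num)
    exact ⟨v', hv', κ, hκ, by rwa [rp_zero, one_mul] at e⟩
  have hl : ∀ i < 18, ∀ v < 3906, ∃ v' < 3906, ∃ κ ∈ P, rp v * letLy i = κ * rp v' := fun i hi v hv =>
    ⟨_, (edgeG hv hi).1, (edgeG hv hi).2⟩
  rw [HLy, MonoidHom.map_closure] at hh
  induction hh using Subgroup.closure_induction'' with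
  | one => intro v hv; exact ⟨v, hv, 1, one_mem _, by simp⟩
  | mem x hx =>
    obtain ⟨y, hy, rfl⟩ := hx
    simp only [Set.mem_insert_iff, Set.mem_singleton_iff] at hy
    rcases hy with rfl | rfl | rfl | rfl
    exacts [hl 0 (by norm_num), hl 1 (by norm_num), hl 2 (by norm_num), hl 7 (by norm_num)]
  | inv_mem x hx =>
    obtain ⟨y, hy, rfl⟩ := hx
    simp only [Set.mem_insert_iff, Set.mem_singleton_iff] at hy
    rcases hy with rfl | rfl | rfl | rfl
    exacts [hl 9 (by norm_num), hl 10 (by norm_num), hl 11 (by norm_num), hl 16 (by norm_num)]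
  | mul x y _ _ ihx ihy =>
    intro v hv
    obtain ⟨v1, hv1, κ, hκ, e⟩ := ihx v hv
    obtain ⟨v2, hv2, κ', hκ', e'⟩ := ihy v1 hv1
    exact ⟨v2, hv2, κ * κ', mul_mem hκ hκ', by rw [← mul_assoc, e, mul_assoc, e', mul_assoc]⟩

/-- The five representatives inside the parabolic subgroup. -/
def p5 : List (List ℕ) := [[], [1], [0, 1], [1, 0, 1], [1, 1, 0, 1]]

theorem p5_P {p : ℕ} : ev (p5.getD p []) ∈ P := by
  refine ev_P fun i hi => ?_
  have h : ∀ l ∈ p5, ∀ i ∈ l, i ∈ certG.sub := by decide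
  rcases Nat.lt_or_ge p p5.length with hp | hp
  · rw [List.getD_eq_getElem _ _ hp] at hi; exact h _ (List.getElem_mem hp) i hi
  · rw [List.getD_eq_default _ _ hp] at hi; simp at hi

/-- The part of `K` inside the parabolic subgroup. -/
noncomputable def K0 : Subgroup L := K ⊓ P

theorem kw_K0 {k : List ℕ} (hk : okK k = true) : ev (kw k) ∈ K0 := by
  refine ⟨kw_mem hk, ev_P fun i hi => ?_⟩
  have h : ∀ l ∈ kW, ∀ i ∈ l, i ∈ certG.sub := by decide
  simp only [kw, List.mem_flatten, List.mem_map] at hi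
  obtain ⟨l, ⟨j, hj, rfl⟩, hil⟩ := hi
  rcases Nat.lt_or_ge j kW.length with hp | hp
  · rw [List.getD_eq_getElem _ _ hp] at hil; exact h _ (List.getElem_mem hp) i hil
  · rw [List.getD_eq_default _ _ hp] at hil; simp at hil

/-- Check of the five cosets: letter, coset, image, element. -/
noncomputable def uOk (W : List (ℕ × ℕ × ℕ × List ℕ)) : Bool :=
  (W.all fun x => okK x.2.2.2 && Nat.blt x.2.2.1 5 &&
    same (x.1 :: p5.getD x.2.1 []) (p5.getD x.2.2.1 [] ++ kw x.2.2.2)) &&
  certG.sub.all fun l => (List.range 5).all fun p => W.any fun x => Nat.beq x.1 l && Nat.beq x.2.1 p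

theorem P_five {W : List (ℕ × ℕ × ℕ × List ℕ)} (hW : uOk W = true) {x : L} (hx : x ∈ P) :
    ∃ p < 5, ∃ k ∈ K0, x = ev (p5.getD p []) * k := by
  suffices H : ∀ p < 5, ∃ p' < 5, ∃ k ∈ K0, x * ev (p5.getD p []) = ev (p5.getD p' []) * k by
    obtain ⟨p', hp', k, hk, e⟩ := H 0 (by norm_num)
    exact ⟨p', hp', k, hk, by simpa [p5, ev_nil] using e⟩
  have hl : ∀ i ∈ certG.sub, ∀ p < 5, ∃ p' < 5, ∃ k ∈ K0,
      letLy i * ev (p5.getD p []) = ev (p5.getD p' []) * k := by
    intro i hi p hp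
    simp only [uOk, Bool.and_eq_true, List.all_eq_true, List.any_eq_true, List.mem_range, Nat.blt_eq, Nat.beq_eq] at hW
    obtain ⟨⟨a, b, p', k⟩, hxW, ha, hb⟩ := hW.2 i hi p hp
    obtain ⟨⟨hk, hp'⟩, he⟩ := hW.1 _ hxW
    simp only at ha hb
    subst ha hb
    refine ⟨p', hp', ev (kw k), kw_K0 hk, ?_⟩
    have := eq_ev he
    rwa [ev_cons, ev_append] at this
  induction hx using Subgroup.closure_induction'' with
  | one => intro p hp; exact ⟨p, hp, 1, one_mem _, by simp⟩
  | mem x hx => obtain ⟨i, hi, rfl⟩ := hx; exact hl i hi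
  | inv_mem x hx =>
    obtain ⟨i, hi, rfl⟩ := hx
    have hiv : ∀ i ∈ certG.sub, certG.iv i ∈ certG.sub := by decide
    rw [inv_eq_of_mul_eq_one_right (letLy_iv i (sub_lt i hi))]
    exact hl _ (hiv i hi)
  | mul x y _ _ ihx ihy =>
    intro p hp
    obtain ⟨p1, hp1, k, hk, e⟩ := ihy p hp
    obtain ⟨p2, hp2, k', hk', e'⟩ := ihx p1 hp1
    exact ⟨p2, hp2, k' * k, mul_mem hk' hk, by rw [mul_assoc, e, ← mul_assoc, e', mul_assoc]⟩

/-- Check of a forest on the table: depth, generator and parent (or root) of every point. -/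
noncomputable def forestOk (G roots : List (List ℕ)) (T : Tbl) : Bool :=
  G.all okW && roots.all okW &&
  CosetCertTable.allFrom (fun v => force (entry T 40 v) fun x =>
    force (Nat.shiftRight x 28) fun d => force (Nat.land (Nat.shiftRight x 20) 255) fun g =>
    force (Nat.land x 1048575) fun u =>
      cond (Nat.beq d 0) (Nat.blt u roots.length && Nat.beq (walkG (roots.getD u []) 0) v)
        (Nat.blt u 3906 && Nat.blt g G.length && Nat.blt (Nat.shiftRight (entry T 40 u) 28) d &&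
          Nat.beq (walkG (invW (G.getD g [])) u) v)) 3906 0

theorem okW_invW {w : List ℕ} (hw : okW w = true) : okW (invW w) = true := by
  rw [okW_iff] at hw ⊢
  intro j hj
  simp only [invW, List.mem_reverse, List.mem_map] at hj
  obtain ⟨i, hi, rfl⟩ := hj
  have := hw i hi
  split <;> omega

theorem forest_spec {G roots : List (List ℕ)} {T : Tbl} (h : forestOk G roots T = true) (S : Subgroup L)
    (hS : ∀ g < G.length, ev (G.getD g []) ∈ S) :
    ∀ v < 3906, ∃ s ∈ S, ∃ r < roots.length, ∃ κ ∈ P, (rp v)⁻¹ = s * ev (invW (roots.getD r [])) * κ := by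
  simp only [forestOk, Bool.and_eq_true, List.all_eq_true] at h
  obtain ⟨⟨hG, hR⟩, hall⟩ := h
  have hall' := (CosetCertTable.allFrom_iff _ _ _).mp hall
  have main : ∀ n v, v < 3906 → Nat.shiftRight (entry T 40 v) 28 = n →
      ∃ s ∈ S, ∃ r < roots.length, ∃ κ ∈ P, (rp v)⁻¹ = s * ev (invW (roots.getD r [])) * κ := by
    intro n
    induction n using Nat.strong_induction_on with
    | _ n ih =>
      intro v hv hn
      have hc := hall' v (Nat.zero_le v) (by omega)
      simp only [force_eq] at hc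
      rw [hn] at hc
      cases hd : Nat.beq n 0 with
      | true =>
        rw [hd] at hc
        simp only [cond_true, Bool.and_eq_true, Nat.blt_eq, Nat.beq_eq] at hc
        obtain ⟨hr, hw⟩ := hc
        have hok : okW (roots.getD (Nat.land (entry T 40 v) 1048575) []) = true := by
          rw [List.getD_eq_getElem _ _ hr]; exact hR _ (List.getElem_mem hr)
        obtain ⟨-, κ, hκ, e⟩ := walk_spec hok (v := 0) (by norm_num)
        rw [rp_zero, one_mul, hw] at e
        refine ⟨1, one_mem _, _, hr, κ, hκ, ?_⟩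
        rw [ev_invW hok, e]; group
      | false =>
        rw [hd] at hc
        simp only [cond_false, Bool.and_eq_true, Nat.blt_eq, Nat.beq_eq] at hc
        obtain ⟨⟨⟨hu, hg⟩, hlt⟩, hw⟩ := hc
        obtain ⟨s, hs, r, hr, κ, hκ, e⟩ := ih _ hlt _ hu rfl
        have hok : okW (G.getD (Nat.land (Nat.shiftRight (entry T 40 v) 20) 255) []) = true := by
          rw [List.getD_eq_getElem _ _ hg]; exact hG _ (List.getElem_mem hg)
        obtain ⟨-, κ', hκ', e'⟩ := walk_spec (okW_invW hok) hu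
        rw [hw, ev_invW hok] at e'
        refine ⟨_, mul_mem (hS _ hg) hs, r, hr, κ * κ', mul_mem hκ hκ', ?_⟩
        rw [show rp v = κ'⁻¹ * (rp (Nat.land (entry T 40 v) 1048575) *
          (ev (G.getD (Nat.land (Nat.shiftRight (entry T 40 v) 20) 255) []))⁻¹) by rw [e', inv_mul_cancel_left]]
        rw [mul_inv_rev, mul_inv_rev, inv_inv, inv_inv, e]
        group
  exact fun v hv => main _ v hv rfl

/-- Every element of the subgroup is stabiliser element, representative, and element of `K0`. -/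
theorem decomp {W : List (ℕ × ℕ × ℕ × List ℕ)} (hW : uOk W = true) {G roots : List (List ℕ)} {T : Tbl}
    (h : forestOk G roots T = true) (S : Subgroup L) (hS : ∀ g < G.length, ev (G.getD g []) ∈ S) {x : L}
    (hx : x ∈ HLy) : ∃ s ∈ S, ∃ r < roots.length, ∃ p < 5, ∃ k ∈ K0,
      x = s * ev (invW (roots.getD r []) ++ p5.getD p []) * k := by
  obtain ⟨v, hv, κ, hκ, e⟩ := H_cover (inv_mem hx)
  obtain ⟨s, hs, r, hr, κ', hκ', e'⟩ := forest_spec h S hS v hv
  obtain ⟨p, hp, k, hk, e''⟩ := P_five hW (mul_mem hκ' (inv_mem hκ))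
  refine ⟨s, hs, r, hr, p, hp, k, hk, ?_⟩
  rw [ev_append, show x = (rp v)⁻¹ * κ⁻¹ by rw [← mul_inv_rev, ← e, inv_inv], e', mul_assoc (s * _), e'']
  group

/-- The five representatives of the double cosets, as a function. -/
def Reach (rs : ℕ → L) (x : L) : Prop := ∃ j < 5, ∃ t ∈ HLy, InC x (rs j * t)

theorem reach_edge {rs : ℕ → L} {j : ℕ} (hj : j < 5) {g : L} {hF h' u s k : List ℕ}
    (f : CFact g hF (rs j) h') (hh' : okW h' = true) (hs : ev s ∈ X g) (hk : okK k = true)
    (he : same u (s ++ hF ++ kw k) = true) {S K' : L} (hS : S ∈ X g) (hK : K' ∈ K) :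
    Reach rs (g * (S * ev u * K') * Z) := by
  refine ⟨j, hj, ev h' * (ev (kx k) * (Z⁻¹ * K' * Z)),
    mul_mem (ev_H hh') (mul_mem (ev_H (kw_ok hk).2) (mem_K.mp hK).2), ?_⟩
  rw [eq_ev he, ev_append, ev_append, ← conj_kw hk]
  have e1 : g * (S * (ev s * ev hF * ev (kw k)) * K') * Z =
      g * (S * ev s) * (ev hF * Z * (Z⁻¹ * ev (kw k) * Z * (Z⁻¹ * K' * Z))) := by group
  rw [e1]
  refine (InC.mul (mem_X.mp (mul_mem hS hs)).2 _).trans ?_
  rw [← mul_assoc g, ← mul_assoc g, ← mul_assoc (rs j)]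
  exact InC.mul f _

end Cfsg.Agent.LyOrbitCover41
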