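import Cfsg.Agent.Lib.LyOrbitLoops41

/-! Generated deductions on double cosets of G2(5) in the presented Lyons group. -/

set_option autoImplicit false
set_option maxRecDepth 100000
set_option maxHeartbeats 2000000
set_option Elab.async false

namespace Cfsg.Agent.LyOrbitFacts41

open Cfsg.Agent.LyG2Five64 Cfsg.Agent.LyOrbitCore41 Cfsg.Agent.LyOrbitLoops41

theorem f_one : CFact Z [] 1 [] := by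
  unfold CFact InC
  simp only [ev_nil, mul_one, inv_one]
  rw [z_sq]
  exact ev_H rfl

theorem one_w (g : L) : ev [] ∈ X g := by
  rw [ev_nil]; exact one_mem _

theorem mul_w {g : L} {v w : List ℕ} (hv : ev v ∈ X g) (hw : ev w ∈ X g) : ev (v ++ w) ∈ X g := by
  rw [ev_append]; exact mul_mem hv hw

theorem F1 : CFact Z [] 1 [] := f_one

theorem G1_0 : ev [9, 10, 9, 1, 11, 10, 0, 11, 1, 0] ∈ X Z := gen_Z (k := [0]) (by decide)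

theorem G1_1 : ev [10, 10, 0, 2, 9, 1, 2, 1] ∈ X Z := gen_Z (k := [1]) (by decide)

theorem G1_2 : ev [9, 10, 9, 2, 0, 1, 0] ∈ X Z := gen_Z (k := [2]) (by decide)

theorem G1_3 : ev [10, 9, 1, 2, 10, 0, 1] ∈ X Z := gen_Z (k := [3]) (by decide)

theorem G1_4 : ev [1, 1, 9, 10, 2, 1, 0, 2, 10, 10, 11] ∈ X Z := gen_Z (k := [4]) (by decide)

theorem G1_5 : ev [9, 9, 9] ∈ X Z := gen_Z (k := [5]) (by decide)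

theorem G1_6 : ev [1, 9, 10, 9, 9] ∈ X Z := gen_Z (k := [6]) (by decide)

theorem G1_7 : ev [0, 1, 1, 0, 10, 10, 9] ∈ X Z := gen_Z (k := [7]) (by decide)

theorem F2 : CFact Z [1, 1, 0, 1, 1, 0, 10, 0, 1, 1, 0, 10, 10, 1, 0, 10] Z [1, 1, 0, 1, 1, 0, 10, 1, 1, 0, 10, 10, 0, 1, 0, 10] :=
  deduce [[10, 10, 0, 1, 1], [10, 10, 0, 1, 1]] [] (wp := [0, 0, 10, 10, 0, 1, 1])
    (stepW (stepBase (stepW (stepZ (k := []) (start Z []) F1 (one_w _) (by decide) (by decide +kernel) [] (by decide +kernel)) [10, 10, 0, 1, 1] [1, 1, 0, 1, 1, 0, 10, 0, 1, 1, 0, 10, 10, 1, 0, 10] (by decide +kernel)) (by decide +kernel)) [10, 10, 0, 1, 1] [1, 1, 0, 1, 1, 0, 10, 0, 1, 1, 0, 10, 10, 1, 0, 10] (by decide +kernel))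
    (start Z [])
    loop0 rfl rfl (by decide) (by decide) (by decide +kernel)

theorem F3 : CFact Z [1, 1, 0, 1, 1, 0, 10, 1, 1, 0, 10, 10, 0, 1, 0, 10] Z [1, 1, 0, 1, 0, 0, 1, 0, 10, 0, 1, 1, 0, 10, 10, 1, 0, 10] := CFact.rev F2 _ (by decide +kernel)

theorem F4 : CFact Z [0, 2, 7, 0, 2, 2, 0, 1, 2, 7, 1, 0, 1, 0, 1, 0, 10, 0, 1, 1, 0, 10, 10, 3, 2, 5, 1, 0, 10] Z [7, 2, 1, 1, 1, 1, 0, 2, 7, 0, 0, 0, 2] :=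
  deduce [[9, 7, 10, 11, 9, 1, 11, 16, 1, 11, 10, 9, 11, 0, 10, 0, 1, 0, 10], [9, 11, 16, 0, 11, 10, 0, 11, 16, 9, 11, 0, 2, 10, 10, 11, 10, 9, 10, 10]] [] (wp := [11, 16, 9, 11, 9, 1, 11, 16])
    (stepW (stepBase (stepW (stepZ (k := []) (start Z []) F1 (one_w _) (by decide) (by decide +kernel) [] (by decide +kernel)) [9, 7, 10, 11, 9, 1, 11, 16, 1, 11, 10, 9, 11, 0, 10, 0, 1, 0, 10] [7, 0, 2, 1, 2, 0, 7, 2, 7, 0, 2, 7, 1, 1, 1, 0, 10, 10, 1, 0, 10, 3, 1, 1, 0, 10, 10, 5, 1, 0, 10, 0] (by decide +kernel)) (by decide +kernel)) [9, 11, 16, 0, 11, 10, 0, 11, 16, 9, 11, 0, 2, 10, 10, 11, 10, 9, 10, 10] [0, 2, 7, 0, 2, 2, 0, 1, 2, 7, 1, 0, 1, 0, 1, 0, 10, 0, 1, 1, 0, 10, 10, 3, 2, 5, 1, 0, 10] (by decide +kernel))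
    (start Z [])
    loop3 rfl rfl (by decide) (by decide) (by decide +kernel)

theorem F5 : CFact Z [7, 2, 1, 1, 1, 1, 0, 2, 7, 0, 0, 0, 2] Z [0, 2, 7, 0, 2, 2, 0, 1, 2, 7, 1, 0, 1, 0, 0, 1, 0, 10, 3, 0, 5, 1, 0, 10, 1, 1, 0, 10, 10, 1, 0, 10] := CFact.rev F4 _ (by decide +kernel)

/-- A representative. -/
noncomputable def g2 : L := Z * ev [7, 1] * Z

theorem F6 : CFact Z [7, 1] g2 [] := CFact.ofDef rfl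

theorem G2_0 : ev [9, 9, 9, 9, 9, 9, 9, 9, 9, 9, 9, 9, 1, 9, 10, 9, 9] ∈ X g2 :=
  gen_def (k := [5, 5, 5, 5, 6]) (gj := g2) rfl (mul_w G1_5 (mul_w G1_5 (mul_w G1_7 (one_w _)))) (by decide) (by decide +kernel)

theorem G2_1 : ev [9, 9, 9, 1, 9, 10, 9, 9] ∈ X g2 :=
  gen_def (k := [5, 6]) (gj := g2) rfl (mul_w G1_5 (mul_w G1_5 (mul_w G1_5 (mul_w G1_5 (mul_w G1_6 (mul_w G1_7 (one_w _))))))) (by decide) (by decide +kernel)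

theorem F7 : CFact g2 [] Z [7, 1, 0, 0] := CFact.rev F6 _ (by decide +kernel)

theorem G2_2 : ev [7, 2, 1, 1, 0, 2, 7, 1, 0, 1, 2, 0, 5, 4, 4] ∈ X g2 :=
  gen_of
    (stepW (stepZ (k := [5, 0, 5, 3, 5, 5, 2]) (stepW (stepBase (stepW (stepZ (k := []) (start Z []) F1 (one_w _) (by decide) (by decide +kernel) [] (by decide +kernel)) [1, 7] [7, 1] (by decide +kernel)) (by decide +kernel)) [1, 1, 9, 10, 9, 1, 1, 11, 0, 2, 9, 11, 7, 11, 1, 1, 9, 2, 1] [7, 0, 2, 1, 1, 0, 2, 7, 1, 0, 1, 2, 0, 5, 0, 0, 4, 0, 0, 1, 0, 10, 0] (by decide +kernel)) F6 (mul_w G1_1 (mul_w G1_7 (mul_w G1_6 (mul_w G1_2 (mul_w G1_1 (mul_w G1_5 (mul_w G1_3 (one_w _)))))))) (by decide) (by decide +kernel) [2, 5, 1, 0, 10, 5, 1, 0, 10, 1, 1, 0, 10, 10, 2, 1, 1, 0, 10, 10] (by decide +kernel))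 [9, 9, 16, 10] [7, 2, 1, 1, 0, 2, 7, 1, 0, 1, 2, 1, 1, 0, 10, 10, 3, 0, 1, 0, 10, 0, 1, 1, 0, 10, 10, 3] (by decide +kernel))
    (stepW (stepZ (k := [3, 5, 5, 7, 6, 2, 1, 7, 5]) (stepW (start Z []) [10, 0, 1, 0, 1, 11, 9, 11, 0, 11, 7, 2, 10, 11, 0, 2, 0, 0] [0, 1, 0, 2, 0, 1, 0, 2, 7, 3, 4, 1, 0, 10, 0, 4, 1, 0, 10, 1, 1, 0, 10, 10, 1, 0, 10] (by decide +kernel)) F6 (mul_w G1_1 (mul_w G1_7 (mul_w G1_0 (mul_w G1_1 (mul_w G1_2 (mul_w G1_3 (one_w _))))))) (by decide) (by decide +kernel) [0, 0, 4, 1, 0, 10, 1, 1, 0, 10, 10, 1, 0, 10, 4, 0] (by decide +kernel)) [9, 9] [1, 0, 10, 5, 1, 1, 0, 10, 10, 2, 1, 0, 10, 3, 0] (by decide +kernel))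
    (closed [[1, 7], [1, 1, 9, 10, 9, 1, 1, 11, 0, 2, 9, 11, 7, 11, 1, 1, 9, 2, 1], [9, 9, 16, 10]] [[9, 9, 11, 9, 2, 1, 11, 16, 2, 9, 2, 0, 2, 10, 9, 10, 9, 1]] loop14 rfl rfl (by decide)) (by decide +kernel) (by decide +kernel)

theorem F8 : CFact g2 [1, 0, 0, 2, 0, 1, 0, 2, 7, 2, 0, 5, 1, 1, 0, 10, 10, 1, 0, 10, 0, 5, 4] g2 [7, 2, 1, 1, 2, 0, 1, 2, 7, 0, 1, 2, 0, 0, 5, 1, 0, 10, 1, 1, 0, 10, 10, 2] :=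
  deduce [[1, 7], [1, 1, 9, 10, 9, 1, 1, 11, 0, 2, 9, 11, 7, 11, 1, 1, 9, 2, 1]] [[9, 9, 11, 9, 2, 1, 11, 16, 2, 9, 2, 0, 2, 10, 9, 10, 9, 1]] (wp := [9, 9, 16, 10])
    (stepW (stepZ (k := [5, 5, 5, 5, 7]) (stepW (stepZ (k := [5, 5]) (start Z [1]) F2 (mul_w G1_5 (mul_w G1_5 (mul_w G1_5 (mul_w G1_6 (mul_w G1_7 (one_w _)))))) (by decide) (by decide +kernel) [1, 1, 0, 1, 0, 0, 1, 0, 10, 1, 1, 0, 10, 10, 0, 1, 0, 10] (by decide +kernel)) [1, 7] [7, 1, 0, 0, 0, 0, 1, 1, 0, 10, 10] (by decide +kernel)) F6 (one_w _) (by decide) (by decide +kernel) [1, 1, 0, 10, 10] (by decide +kernel)) [1, 1, 9, 10, 9, 1, 1, 11, 0, 2, 9, 11, 7, 11, 1, 1, 9, 2, 1] [1, 0, 0, 2, 0, 1, 0, 2, 7, 2, 0, 5, 1, 1, 0, 10, 10, 1, 0, 10, 0, 5, 4] (by decide +kernel))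
    (stepW (stepZ (k := [1, 6, 1, 5, 5, 2, 5, 5, 5, 5]) (stepW (start Z [1]) [10, 0, 1, 0, 1, 11, 9, 11, 0, 11, 7, 2, 10, 11, 0, 2, 0, 0] [1, 0, 1, 0, 2, 0, 1, 0, 2, 7, 3, 4, 1, 0, 10, 0, 4, 1, 0, 10, 1, 1, 0, 10, 10, 1, 0, 10] (by decide +kernel)) F6 (mul_w G1_7 (mul_w G1_1 (mul_w G1_2 (mul_w G1_3 (mul_w G1_5 (mul_w G1_0 (one_w _))))))) (by decide) (by decide +kernel) [1, 0, 10, 2, 0, 5, 4, 0] (by decide +kernel)) [9, 9] [2, 3, 5, 4, 1, 0, 10, 2] (by decide +kernel))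
    loop14 rfl rfl (by decide) (by decide) (by decide +kernel)

theorem F9 : CFact g2 [7, 2, 1, 1, 2, 0, 1, 2, 7, 0, 1, 2, 0, 0, 5, 1, 0, 10, 1, 1, 0, 10, 10, 2] g2 [1, 0, 0, 2, 0, 1, 0, 2, 7, 5, 0, 0, 0, 1, 1, 0, 10, 10, 2, 1, 0, 10, 0, 2] := CFact.rev F8 _ (by decide +kernel)

theorem F10 : CFact g2 [1, 0, 1, 4, 1, 0, 10, 2, 1, 0, 10, 2, 1, 1, 0, 10, 10, 0, 1, 0, 10] g2 [1, 0, 0, 1, 0, 10, 0, 4, 1, 0, 10, 2, 1, 0, 10] :=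
  deduce [[10, 10, 0, 1, 1]] [[0, 0, 10, 10, 0, 1, 1]] (wp := [10, 10, 0, 1, 1])
    (stepW (stepZ (k := [2, 6, 1, 2, 7, 6, 5, 7]) (start Z [7, 1, 4, 1, 0, 10, 3, 4, 1, 1, 0, 10, 10, 1, 0, 10, 0, 1, 1, 0, 10, 10]) F6 (one_w _) (by decide) (by decide +kernel) [0, 0, 1, 1, 0, 10, 10, 4, 1, 0, 10, 0, 4, 5] (by decide +kernel)) [10, 10, 0, 1, 1] [1, 0, 1, 4, 1, 0, 10, 2, 1, 0, 10, 2, 1, 1, 0, 10, 10, 0, 1, 0, 10] (by decide +kernel))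
    (stepW (stepZ (k := [5, 7, 2, 0, 6, 3, 5, 7]) (stepW (start Z [7, 1, 4, 1, 0, 10, 3, 4, 1, 1, 0, 10, 10, 1, 0, 10, 0, 1, 1, 0, 10, 10]) [10, 10, 9, 1, 1, 9, 9] [7, 1, 1, 0, 1, 0, 2, 6, 0, 1, 1, 0, 10, 10, 0, 1, 0, 10, 4] (by decide +kernel)) F6 (mul_w G1_7 (mul_w G1_6 (mul_w G1_5 (one_w _)))) (by decide) (by decide +kernel) [0, 2, 1, 0, 10, 1, 1, 0, 10, 10, 4, 1, 0, 10, 0] (by decide +kernel)) [9, 9] [0, 2, 1, 0, 10, 1, 1, 0, 10, 10, 4, 1, 0, 10, 1, 1, 0, 10, 10, 0, 1, 1, 0, 10, 10] (by decide +kernel))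
    loop0 rfl rfl (by decide) (by decide) (by decide +kernel)

theorem F11 : CFact g2 [1, 0, 0, 1, 0, 10, 0, 4, 1, 0, 10, 2, 1, 0, 10] g2 [1, 0, 1, 4, 4, 0, 1, 1, 0, 10, 10, 1, 0, 10, 5] := CFact.rev F10 _ (by decide +kernel)

theorem F12 : CFact g2 [7, 0, 2, 0, 2, 0, 2, 1, 2, 7, 0, 1, 4, 1, 1, 0, 10, 10, 0, 2, 2, 6, 1, 1, 0, 10, 10] g2 [7, 1, 0, 2, 2, 0, 1, 2, 7, 1, 1, 0, 1, 2, 1, 1, 0, 10, 10, 2, 1, 0, 10, 2, 0, 0, 0, 1, 1, 0, 10, 10, 1, 0, 10] :=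
  deduce [[9, 7, 10, 11, 9, 1, 11, 16, 1, 11, 10, 9, 11, 0, 10, 0, 1, 0, 10]] [[11, 16, 9, 11, 9, 1, 11, 16]] (wp := [9, 11, 16, 0, 11, 10, 0, 11, 16, 9, 11, 0, 2, 10, 10, 11, 10, 9, 10, 10])
    (stepW (stepZ (k := [1, 1, 7, 6, 5, 7, 1, 5]) (start Z [7, 1, 3, 3, 1, 1, 0, 10, 10, 1, 0, 10, 0, 1, 1, 0, 10, 10, 3, 0]) F6 (one_w _) (by decide) (by decide +kernel) [1, 1, 0, 10, 10, 2, 5, 1, 0, 10, 2, 0, 0, 1, 1, 0, 10, 10] (by decide +kernel)) [9, 7, 10, 11, 9, 1, 11, 16, 1, 11, 10, 9, 11, 0, 10, 0, 1, 0, 10] [7, 0, 2, 0, 2, 0, 2, 1, 2, 7, 0, 1, 4, 1, 1, 0, 10, 10, 0, 2, 2, 6, 1, 1, 0, 10, 10] (by decide +kernel))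
    (stepW (stepZ (k := [0, 7, 2, 5, 7, 6]) (stepW (start Z [7, 1, 3, 3, 1, 1, 0, 10, 10, 1, 0, 10, 0, 1, 1, 0, 10, 10, 3, 0]) [7, 2, 10, 0, 2, 0, 7, 2] [0, 1, 1, 2, 0, 1, 0, 1, 2, 7, 1, 1, 0, 1, 0, 0, 1, 0, 10, 0, 1, 1, 0, 10, 10, 5, 5, 1, 0, 10] (by decide +kernel)) F6 (mul_w G1_6 (mul_w G1_1 (mul_w G1_7 (mul_w G1_6 (mul_w G1_5 (one_w _)))))) (by decide) (by decide +kernel) [1, 1, 0, 10, 10, 5, 5, 0, 2, 1, 1, 0, 10, 10, 1, 0, 10] (by decide +kernel)) [9, 9] [0, 0, 1, 1, 0, 10, 10, 3, 5, 1, 1, 0, 10, 10, 0, 1, 0, 10] (by decide +kernel))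
    loop3 rfl rfl (by decide) (by decide) (by decide +kernel)

theorem F13 : CFact g2 [7, 1, 0, 2, 2, 0, 1, 2, 7, 1, 1, 0, 1, 2, 1, 1, 0, 10, 10, 2, 1, 0, 10, 2, 0, 0, 0, 1, 1, 0, 10, 10, 1, 0, 10] g2 [7, 0, 2, 0, 2, 0, 2, 1, 2, 7, 0, 1, 2, 0, 4, 4] := CFact.rev F12 _ (by decide +kernel)

theorem F14 : CFact g2 [0, 2, 7, 0, 2, 2, 0, 1, 2, 7, 1, 1, 0, 1, 4, 1, 1, 0, 10, 10, 1, 0, 10, 5, 6, 0, 1, 1, 0, 10, 10, 5] g2 [1, 2, 7, 0, 2, 2, 0, 1, 2, 7, 1, 1, 0, 1, 2, 2, 4, 3, 4, 0, 4] :=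
  deduce [[9, 7, 10, 11, 9, 1, 11, 16, 1, 11, 10, 9, 11, 0, 10, 0, 1, 0, 10]] [[11, 16, 9, 11, 9, 1, 11, 16]] (wp := [9, 11, 16, 0, 11, 10, 0, 11, 16, 9, 11, 0, 2, 10, 10, 11, 10, 9, 10, 10])
    (stepW (stepZ (k := [5, 6, 3, 5, 7, 5, 6, 5, 0]) (start Z [7, 1, 0, 1, 0, 10, 5, 0, 1, 1, 0, 10, 10, 0, 1, 0, 10, 0, 2]) F6 (one_w _) (by decide) (by decide +kernel) [3, 6, 0, 0, 0, 1, 0, 10, 1, 1, 0, 10, 10, 1, 0, 10, 0] (by decide +kernel)) [9, 7, 10, 11, 9, 1, 11, 16, 1, 11, 10, 9, 11, 0, 10, 0, 1, 0, 10] [0, 2, 7, 0, 2, 2, 0, 1, 2, 7, 1, 1, 0, 1, 4, 1, 1, 0, 10, 10, 1, 0, 10, 5, 6, 0, 1, 1, 0, 10, 10, 5] (by decide +kernel))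
    (stepW (stepZ (k := [0, 2, 7, 0, 0, 6, 4]) (stepW (start Z [7, 1, 0, 1, 0, 10, 5, 0, 1, 1, 0, 10, 10, 0, 1, 0, 10, 0, 2]) [7, 2, 10, 0, 2, 0, 7, 2] [0, 1, 0, 2, 0, 2, 0, 2, 1, 2, 7, 1, 2, 1, 1, 0, 10, 10, 2, 1, 0, 10, 2, 0, 1, 0, 10, 2] (by decide +kernel)) F6 (mul_w G1_6 (mul_w G1_7 (mul_w G1_1 (one_w _)))) (by decide) (by decide +kernel) [5, 5, 1, 1, 0, 10, 10, 3, 1, 0, 10, 5] (by decide +kernel)) [9, 9] [3, 0, 1, 1, 0, 10, 10, 3, 2, 0, 1, 0, 10] (by decide +kernel))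
    loop3 rfl rfl (by decide) (by decide) (by decide +kernel)

theorem F15 : CFact g2 [1, 2, 7, 0, 2, 2, 0, 1, 2, 7, 1, 1, 0, 1, 2, 2, 4, 3, 4, 0, 4] g2 [0, 2, 7, 0, 2, 2, 0, 1, 2, 7, 1, 1, 0, 1, 4, 1, 0, 10, 5, 0, 1, 1, 0, 10, 10, 0, 1, 0, 10, 0, 2] := CFact.rev F14 _ (by decide +kernel)

theorem F16 : CFact g2 [0, 0, 0, 2, 1, 0, 2, 7, 1, 5, 4, 1, 1, 0, 10, 10, 1, 0, 10, 3, 0, 1, 1, 0, 10, 10] g2 [2, 0, 1, 2, 0, 2, 2, 7, 1, 1, 0, 1, 1, 0, 10, 0] :=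
  deduce [[9, 9, 16], [9, 9, 9, 11, 16, 1, 9, 10, 11, 16, 1, 9, 10, 11, 10, 0, 10, 10, 0, 10]] [[0, 1, 9, 1, 1, 9, 1, 1, 11, 0, 2, 1, 2, 10, 7, 2, 10, 10, 7, 2, 1, 2]] (wp := [7])
    (stepW (stepZ (k := [0, 6, 5, 2, 5, 5, 5, 6, 1]) (stepW (stepZ (k := [3, 6, 5, 7, 5, 2]) (start Z [7, 1, 5, 1, 0, 10, 0, 1, 1, 0, 10, 10, 0, 4]) F6 (one_w _) (by decide) (by decide +kernel) [1, 0, 10, 2, 0, 4, 1, 1, 0, 10, 10, 4, 0, 5] (by decide +kernel)) [9, 9, 16] [0, 1, 2, 2, 1, 1, 2, 7, 0, 1, 0, 0, 1, 0, 10, 1, 1, 0, 10, 10, 0, 1, 0, 10] (by decide +kernel)) F14 (mul_w G2_2 (mul_w G2_0 (mul_w G2_1 (mul_w G2_1 (mul_w G2_0 (mul_w G2_2 (mul_w G2_1 (one_w _)))))))) (by decide) (by decide +kernel) [1, 2, 7, 0, 2, 2, 0, 1, 2, 7, 1, 1, 0, 1, 2, 1, 1, 0, 10, 10, 5, 0, 2, 5, 1,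 1, 0, 10, 10] (by decide +kernel)) [9, 9, 9, 11, 16, 1, 9, 10, 11, 16, 1, 9, 10, 11, 10, 0, 10, 10, 0, 10] [0, 0, 0, 2, 1, 0, 2, 7, 1, 5, 4, 1, 1, 0, 10, 10, 1, 0, 10, 3, 0, 1, 1, 0, 10, 10] (by decide +kernel))
    (stepW (stepZ (k := [5, 6, 1, 0, 5, 7, 6]) (stepW (start Z [7, 1, 5, 1, 0, 10, 0, 1, 1, 0, 10, 10, 0, 4]) [11, 10, 11, 16, 1, 1, 11, 16, 1, 11, 10, 11, 9, 2, 10, 10, 0, 10, 10, 0, 10, 9] [1, 2, 0, 1, 2, 7, 1, 1, 0, 1, 2, 1, 1, 0, 10, 10, 2, 1, 1, 0, 10, 10, 0, 1, 1, 0, 10, 10, 4, 5] (by decide +kernel)) F6 (mul_w G1_2 (mul_w G1_7 (mul_w G1_0 (mul_w G1_0 (mul_w G1_0 (one_w _)))))) (by decide) (by decide +kernel) [0, 2, 6, 1, 0, 10, 1, 1, 0, 10, 10, 0, 4, 1, 0, 10] (by decide +kernel)) [9, 9] [2, 0, 5, 0, 0, 1, 0, 10, 5, 0, 1, 1, 0, 10, 10, 1,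 0, 10] (by decide +kernel))
    loop6 rfl rfl (by decide) (by decide) (by decide +kernel)

theorem F17 : CFact g2 [2, 0, 1, 2, 0, 2, 2, 7, 1, 1, 0, 1, 1, 0, 10, 0] g2 [0, 0, 0, 2, 1, 0, 2, 7, 1, 1, 0, 10, 3, 0, 1, 1, 0, 10, 10, 0, 1, 0, 10, 0] := CFact.rev F16 _ (by decide +kernel)

theorem F18 : CFact g2 [7, 7, 0, 1, 2, 2, 1, 0, 2, 7, 1, 0, 1, 2, 1, 0, 10, 1, 1, 0, 10, 10, 5] g2 [0, 1, 0, 2, 2, 7, 7, 0, 2, 7, 1, 1, 0, 1, 1, 0, 10, 1, 1, 0, 10, 10, 0] :=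
  deduce [[9, 9, 16], [9, 9, 9, 11, 16, 1, 9, 10, 11, 16, 1, 9, 10, 11, 10, 0, 10, 10, 0, 10]] [[0, 1, 9, 1, 1, 9, 1, 1, 11, 0, 2, 1, 2, 10, 7, 2, 10, 10, 7, 2, 1, 2]] (wp := [7])
    (stepW (stepZ (k := [2, 0, 5, 6, 5, 3, 3]) (stepW (stepZ (k := [3, 2, 6, 7, 1, 5]) (start Z [7, 1, 5, 4, 1, 0, 10, 1, 1, 0, 10, 10, 3, 0]) F6 (one_w _) (by decide) (by decide +kernel) [1, 0, 10, 2, 6, 0, 1, 1, 0, 10, 10, 4] (by decide +kernel)) [9, 9, 16] [1, 1, 2, 1, 2, 7, 0, 1, 0, 0, 0, 1, 1, 0, 10, 10, 1, 0, 10, 0] (by decide +kernel)) F13 (mul_w G2_2 (mul_w G2_2 (mul_w G2_0 (mul_w G2_1 (mul_w G2_1 (mul_w G2_1 (one_w _))))))) (by decide) (by decide +kernel) [7, 0, 2, 0, 2, 0, 2, 1, 2, 7, 0, 1, 2, 2, 1, 0, 10, 3, 3, 1, 1, 0, 10, 10, 0, 1, 1, 0, 10, 10] (by decide +kernel))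 [9, 9, 9, 11, 16, 1, 9, 10, 11, 16, 1, 9, 10, 11, 10, 0, 10, 10, 0, 10] [7, 7, 0, 1, 2, 2, 1, 0, 2, 7, 1, 0, 1, 2, 1, 0, 10, 1, 1, 0, 10, 10, 5] (by decide +kernel))
    (stepW (stepZ (k := [0, 6, 4, 5, 3, 7, 5, 6]) (stepW (start Z [7, 1, 5, 4, 1, 0, 10, 1, 1, 0, 10, 10, 3, 0]) [11, 10, 11, 16, 1, 1, 11, 16, 1, 11, 10, 11, 9, 2, 10, 10, 0, 10, 10, 0, 10, 9] [7, 2, 1, 0, 2, 0, 7, 2, 0, 2, 7, 2, 0, 1, 0, 10, 1, 1, 0, 10, 10, 0, 4, 1, 0, 10, 0] (by decide +kernel)) F6 (mul_w G1_2 (mul_w G1_5 (mul_w G1_2 (mul_w G1_7 (mul_w G1_6 (mul_w G1_5 (one_w _))))))) (by decide) (by decide +kernel) [2, 1, 1, 0, 10, 10, 0, 2, 3, 0, 1, 0, 10, 1, 1, 0, 10, 10] (by decide +kernel)) [9, 9] [1, 1, 0, 10, 10, 3, 1, 0, 10, 5, 1, 1, 0, 10, 10, 3] (by decide +kernel))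
    loop6 rfl rfl (by decide) (by decide) (by decide +kernel)

theorem F19 : CFact g2 [0, 1, 0, 2, 2, 7, 7, 0, 2, 7, 1, 1, 0, 1, 1, 0, 10, 1, 1, 0, 10, 10, 0] g2 [7, 7, 0, 1, 2, 2, 1, 0, 2, 7, 1, 0, 1, 2, 1, 0, 10, 1, 1, 0, 10, 10, 5, 0, 0] := CFact.rev F18 _ (by decide +kernel)

theorem F20 : CFact g2 [2, 7, 1, 2, 1, 2, 2, 7, 1, 0, 1, 1, 1, 0, 10, 10, 4, 1, 0, 10, 1, 1, 0, 10, 10, 0, 4] g2 [1, 2, 0, 1, 0, 2, 2, 0, 2, 7, 0, 0, 0, 0, 0, 2, 1, 0, 10, 2, 1, 1, 0, 10, 10] :=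
  deduce [[9, 9, 16]] [[7], [0, 1, 9, 1, 1, 9, 1, 1, 11, 0, 2, 1, 2, 10, 7, 2, 10, 10, 7, 2, 1, 2]] (wp := [9, 9, 9, 11, 16, 1, 9, 10, 11, 16, 1, 9, 10, 11, 10, 0, 10, 10, 0, 10])
    (stepW (stepZ (k := [1, 0, 2, 7, 5]) (start Z [7, 1, 3, 2, 4, 1, 1, 0, 10, 10, 0]) F6 (one_w _) (by decide) (by decide +kernel) [3, 4, 5, 1, 1, 0, 10, 10, 0, 4] (by decide +kernel)) [9, 9, 16] [2, 7, 1, 2, 1, 2, 2, 7, 1, 0, 1, 1, 1, 0, 10, 10, 4, 1, 0, 10, 1, 1, 0, 10, 10, 0, 4] (by decide +kernel))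
    (stepW (stepZ (k := [6, 5, 3, 3, 5, 0]) (stepW (stepW (stepZ (k := [1, 6, 2, 0, 5, 3, 7]) (stepW (start Z [7, 1, 3, 2, 4, 1, 1, 0, 10, 10, 0]) [11, 10, 11, 16, 1, 1, 11, 16, 1, 11, 10, 11, 9, 2, 10, 10, 0, 10, 10, 0, 10, 9] [7, 1, 2, 7, 1, 1, 1, 0, 2, 7, 1, 0, 1, 1, 0, 10, 6, 0, 1, 1, 0, 10, 10, 2, 1, 0, 10, 1, 1, 0, 10, 10] (by decide +kernel)) F6 (mul_w G1_1 (mul_w G1_0 (mul_w G1_1 (mul_w G1_6 (mul_w G1_5 (mul_w G1_0 (one_w _))))))) (by decide) (by decide +kernel) [3, 3, 1, 0, 10, 1, 1, 0, 10, 10, 0, 5, 4] (by decide +kernel)) [9, 9] [0, 0, 1, 0, 10, 0, 4, 5, 1, 1, 0, 10, 10] (by decide +kernel)) [16] [7, 7, 0, 2, 1, 2, 1, 2, 7, 1, 0, 1, 0, 0, 1, 0, 10, 0, 1, 1, 0, 10, 10, 1, 0, 10, 0] (by decide +kernel)) F16 (mul_w G2_1 (mul_w G2_1 (mul_w G2_1 (mul_w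 G2_2 (mul_w G2_2 (mul_w G2_2 (mul_w G2_1 (one_w _)))))))) (by decide) (by decide +kernel) [2, 0, 1, 2, 0, 2, 2, 7, 1, 1, 0, 1, 0, 1, 0, 10, 1, 1, 0, 10, 10, 0, 5, 5, 1, 1, 0, 10, 10] (by decide +kernel)) [9, 9] [2, 0, 1, 2, 0, 2, 2, 7, 1, 1, 0, 1, 0, 0, 0, 1, 0, 10, 1, 1, 0, 10, 10, 2, 1, 1, 0, 10, 10, 4, 0] (by decide +kernel))
    loop6 rfl rfl (by decide) (by decide) (by decide +kernel)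

theorem F21 : CFact g2 [1, 2, 0, 1, 0, 2, 2, 0, 2, 7, 0, 0, 0, 0, 0, 2, 1, 0, 10, 2, 1, 1, 0, 10, 10] g2 [2, 7, 1, 2, 1, 2, 2, 7, 1, 0, 1, 1, 1, 0, 10, 10, 4, 1, 0, 10, 1, 1, 0, 10, 10, 0, 4, 0, 0] := CFact.rev F20 _ (by decide +kernel)

theorem F22 : CFact g2 [7, 7, 1, 0, 2, 7, 1, 1, 0, 1, 0, 0, 0, 0, 1, 0, 10, 1, 1, 0, 10, 10] g2 [7, 0, 2, 1, 2, 0, 2, 2, 7, 1, 0, 1, 4, 2, 0, 0, 1, 0, 10, 5, 5] :=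
  deduce [[9, 9, 16]] [[7], [0, 1, 9, 1, 1, 9, 1, 1, 11, 0, 2, 1, 2, 10, 7, 2, 10, 10, 7, 2, 1, 2]] (wp := [9, 9, 9, 11, 16, 1, 9, 10, 11, 16, 1, 9, 10, 11, 10, 0, 10, 10, 0, 10])
    (stepW (stepZ (k := [5, 7, 5, 6, 3, 7, 5, 6, 7]) (start Z [7, 1, 0, 1, 1, 0, 10, 10, 0, 1, 0, 10, 5, 1, 1, 0, 10, 10, 0, 1, 0, 10, 1, 1, 0, 10, 10]) F6 (one_w _) (by decide) (by decide +kernel) [0, 0, 1, 0, 10, 5, 5, 0, 1, 1, 0, 10, 10, 1, 0, 10, 0, 1, 1, 0, 10, 10] (by decide +kernel)) [9, 9, 16] [7, 7, 1, 0, 2, 7, 1, 1, 0, 1, 0, 0, 0, 0, 1, 0, 10, 1, 1, 0, 10, 10] (by decide +kernel))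
    (stepW (stepZ (k := [6, 2, 5, 6, 1, 3]) (stepW (stepW (stepZ (k := [0, 7, 1, 5, 5, 5, 6, 5]) (stepW (start Z [7, 1, 0, 1, 1, 0, 10, 10, 0, 1, 0, 10, 5, 1, 1, 0, 10, 10, 0, 1, 0, 10, 1, 1, 0, 10, 10]) [11, 10, 11, 16, 1, 1, 11, 16, 1, 11, 10, 11, 9, 2, 10, 10, 0, 10, 10, 0, 10, 9] [7, 7, 0, 1, 2, 7, 1, 0, 10, 5, 6, 0, 1, 1, 0, 10, 10, 1, 0, 10, 4, 0] (by decide +kernel)) F6 (mul_w G1_7 (mul_w G1_1 (mul_w G1_3 (mul_w G1_5 (one_w _))))) (by decide) (by decide +kernel) [1, 1, 0, 10, 10, 1, 0, 10, 4, 1, 1, 0, 10, 10, 5, 1, 1, 0, 10, 10, 0, 1, 0, 10] (by decide +kernel)) [9, 9] [4, 1, 1, 0, 10, 10, 2, 2, 1, 0, 10, 5, 0, 1, 0, 10] (by decide +kernel)) [16] [2, 2, 7, 1, 2, 1, 1, 1, 0, 2, 7, 0, 2, 5, 0, 0, 1, 1, 0, 10, 10] (by decide +kernel)) F8 (mul_w G2_2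 (mul_w G2_1 (mul_w G2_2 (mul_w G2_2 (mul_w G2_1 (mul_w G2_0 (one_w _))))))) (by decide) (by decide +kernel) [7, 2, 1, 1, 2, 0, 1, 2, 7, 0, 1, 0, 1, 0, 10, 3, 1, 1, 0, 10, 10, 0, 1, 0, 10, 0, 5, 1, 1, 0, 10, 10] (by decide +kernel)) [9, 9] [7, 2, 1, 1, 2, 0, 1, 2, 7, 0, 1, 2, 3, 2, 1, 0, 10, 0, 1, 1, 0, 10, 10, 1, 0, 10, 0] (by decide +kernel))
    loop6 rfl rfl (by decide) (by decide) (by decide +kernel)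

theorem F23 : CFact g2 [7, 0, 2, 1, 2, 0, 2, 2, 7, 1, 0, 1, 4, 2, 0, 0, 1, 0, 10, 5, 5] g2 [7, 7, 1, 0, 2, 7, 1, 1, 0, 1, 1, 0, 10, 0, 1, 1, 0, 10, 10, 0] := CFact.rev F22 _ (by decide +kernel)

theorem F24 : CFact g2 [2, 1, 1, 2, 7, 0, 1, 1, 1, 0, 10, 10, 0, 1, 0, 10, 1, 1, 0, 10, 10, 4, 0, 1, 1, 0, 10, 10] g2 [1, 0, 1, 2, 2, 7, 1, 0, 1, 0, 1, 1, 0, 10, 10, 1, 0, 10] :=
  deduce [[9, 9, 16], [9, 9, 9, 11, 16, 1, 9, 10, 11, 16, 1, 9, 10, 11, 10, 0, 10, 10, 0, 10]] [[0, 1, 9, 1, 1, 9, 1, 1, 11, 0, 2, 1, 2, 10, 7, 2, 10, 10, 7, 2, 1, 2]] (wp := [7])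
    (stepW (stepZ (k := [0, 0, 1, 1, 2, 3]) (stepW (stepZ (k := [1, 5, 6, 0, 5, 7, 3]) (start Z [7, 1, 3, 0, 1, 0, 10, 2, 0, 1, 1, 0, 10, 10, 5]) F6 (one_w _) (by decide) (by decide +kernel) [2, 2, 2, 1, 0, 10, 0, 5, 1, 0, 10, 1, 1, 0, 10, 10] (by decide +kernel)) [9, 9, 16] [2, 7, 2, 7, 1, 1, 2, 2, 7, 1, 0, 1, 3, 2, 0, 0, 1, 0, 10] (by decide +kernel)) F12 (mul_w G2_1 (mul_w G2_0 (mul_w G2_2 (mul_w G2_2 (mul_w G2_1 (mul_w G2_2 (one_w _))))))) (by decide) (by decide +kernel) [7, 1, 0, 2, 2, 0, 1, 2, 7, 1, 1, 0, 1, 0, 1, 0, 10, 4, 1, 1, 0, 10, 10, 0, 4, 1, 0, 10, 0, 1, 1, 0, 10, 10] (by decide +kernel)) [9, 9, 9, 11, 16, 1, 9, 10, 11, 16, 1, 9, 10, 11, 10, 0, 10, 10, 0, 10] [2, 1, 1, 2, 7, 0, 1, 1, 1, 0, 10, 10, 0, 1, 0, 10, 1, 1, 0, 10, 10, 4, 0, 1, 1, 0,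 10, 10] (by decide +kernel))
    (stepW (stepZ (k := [1, 0, 7, 3, 5, 5]) (stepW (start Z [7, 1, 3, 0, 1, 0, 10, 2, 0, 1, 1, 0, 10, 10, 5]) [11, 10, 11, 16, 1, 1, 11, 16, 1, 11, 10, 11, 9, 2, 10, 10, 0, 10, 10, 0, 10, 9] [1, 0, 0, 0, 2, 0, 2, 7, 1, 0, 1, 0, 0, 0, 1, 0, 10, 4, 4, 0, 1, 0, 10] (by decide +kernel)) F6 (mul_w G1_6 (mul_w G1_1 (mul_w G1_7 (mul_w G1_0 (mul_w G1_6 (mul_w G1_5 (one_w _))))))) (by decide) (by decide +kernel) [0, 1, 1, 0, 10, 10, 4, 4, 0] (by decide +kernel)) [9, 9] [3, 0, 0, 0, 0, 5, 1, 1, 0, 10, 10] (by decide +kernel))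
    loop6 rfl rfl (by decide) (by decide) (by decide +kernel)

theorem F25 : CFact g2 [1, 0, 1, 2, 2, 7, 1, 0, 1, 0, 1, 1, 0, 10, 10, 1, 0, 10] g2 [2, 1, 1, 2, 7, 0, 1, 2, 1, 1, 0, 10, 10, 0, 1, 0, 10, 0, 5] := CFact.rev F24 _ (by decide +kernel)

theorem F26 : CFact g2 [0, 1, 0, 2, 0, 1, 1, 2, 7, 1, 0, 1, 4, 4, 0, 1, 0, 10, 1, 1, 0, 10, 10] g2 [1, 2, 0, 2, 1, 2, 0, 2, 2, 7, 1, 0, 1, 0, 0, 1, 0, 10, 0] :=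
  deduce [[9, 9, 16], [9, 9, 9, 11, 16, 1, 9, 10, 11, 16, 1, 9, 10, 11, 10, 0, 10, 10, 0, 10]] [[0, 1, 9, 1, 1, 9, 1, 1, 11, 0, 2, 1, 2, 10, 7, 2, 10, 10, 7, 2, 1, 2]] (wp := [7])
    (stepW (stepZ (k := [5, 5, 5, 7, 2, 6, 7, 5, 6]) (stepW (stepZ (k := [0, 0, 5, 0, 1, 6, 7, 6]) (start Z [7, 1, 2, 2, 0, 2, 3, 1, 0, 10, 1, 1, 0, 10, 10, 1, 0, 10]) F6 (one_w _) (by decide) (by decide +kernel) [0, 1, 0, 10, 1, 1, 0, 10, 10, 5, 4, 4, 1, 0, 10] (by decide +kernel)) [9, 9, 16] [1, 0, 7, 2, 2, 1, 0, 2, 7, 0, 1, 5, 5, 2, 1, 1, 0, 10, 10, 5, 1, 0, 10, 0, 1, 1, 0, 10, 10] (by decide +kernel)) F18 (mul_w G2_0 (mul_w G2_1 (one_w _))) (by decide) (by decide +kernel) [0, 1, 0, 2, 2, 7, 7, 0, 2, 7, 1, 1, 0, 1, 3, 1, 1, 0, 10, 10, 5, 0, 4, 1, 0, 10] (by decide +kernel))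 [9, 9, 9, 11, 16, 1, 9, 10, 11, 16, 1, 9, 10, 11, 10, 0, 10, 10, 0, 10] [0, 1, 0, 2, 0, 1, 1, 2, 7, 1, 0, 1, 4, 4, 0, 1, 0, 10, 1, 1, 0, 10, 10] (by decide +kernel))
    (stepW (stepZ (k := [5, 4, 5, 5, 5, 6, 5, 3, 6]) (stepW (start Z [7, 1, 2, 2, 0, 2, 3, 1, 0, 10, 1, 1, 0, 10, 10, 1, 0, 10]) [11, 10, 11, 16, 1, 1, 11, 16, 1, 11, 10, 11, 9, 2, 10, 10, 0, 10, 10, 0, 10, 9] [2, 2, 7, 1, 2, 1, 1, 1, 0, 2, 7, 0, 1, 3, 5, 1, 1, 0, 10, 10, 6, 0, 1, 1, 0, 10, 10] (by decide +kernel)) F6 (mul_w G1_0 (mul_w G1_7 (mul_w G1_1 (mul_w G1_6 (mul_w G1_5 (one_w _)))))) (by decide) (by decide +kernel) [3, 4, 0, 1, 0, 10, 4, 3, 0] (by decide +kernel)) [9, 9] [6, 1, 1, 0, 10, 10, 4, 0, 1, 1, 0, 10, 10, 1, 0, 10, 0] (by decide +kernel))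
    loop6 rfl rfl (by decide) (by decide) (by decide +kernel)

theorem F27 : CFact g2 [1, 2, 0, 2, 1, 2, 0, 2, 2, 7, 1, 0, 1, 0, 0, 1, 0, 10, 0] g2 [0, 1, 0, 2, 0, 1, 1, 2, 7, 1, 0, 1, 0, 0, 4, 0, 1, 0, 10, 1, 1, 0, 10, 10] := CFact.rev F26 _ (by decide +kernel)

theorem F28 : CFact g2 [2, 1, 1, 2, 1, 2, 7, 0, 1, 1, 1, 0, 10, 10, 0] g2 [2, 0, 2, 1, 1, 1, 1, 2, 7, 1, 0, 1, 3, 1, 1, 0, 10, 10, 1, 0, 10, 5, 1, 1, 0, 10, 10, 1, 0, 10, 0, 2] :=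
  deduce [[9, 9, 16]] [[7], [0, 1, 9, 1, 1, 9, 1, 1, 11, 0, 2, 1, 2, 10, 7, 2, 10, 10, 7, 2, 1, 2]] (wp := [9, 9, 9, 11, 16, 1, 9, 10, 11, 16, 1, 9, 10, 11, 10, 0, 10, 10, 0, 10])
    (stepW (stepZ (k := [2, 7, 3, 6, 7, 4]) (start Z [7, 1, 4, 1, 1, 0, 10, 10, 5, 1, 0, 10, 1, 1, 0, 10, 10, 6]) F6 (one_w _) (by decide) (by decide +kernel) [0, 1, 1, 0, 10, 10, 0, 1, 0, 10, 4, 0, 5, 1, 1, 0, 10, 10, 0] (by decide +kernel)) [9, 9, 16] [2, 1, 1, 2, 1, 2, 7, 0, 1, 1, 1, 0, 10, 10, 0] (by decide +kernel))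
    (stepW (stepZ (k := [7, 0, 5, 5, 6, 5, 7, 1, 6, 7]) (stepW (stepW (stepZ (k := [6, 5, 0, 7, 5, 6, 2, 5, 6, 7]) (stepW (start Z [7, 1, 4, 1, 1, 0, 10, 10, 5, 1, 0, 10, 1, 1, 0, 10, 10, 6]) [11, 10, 11, 16, 1, 1, 11, 16, 1, 11, 10, 11, 9, 2, 10, 10, 0, 10, 10, 0, 10, 9] [0, 7, 2, 0, 7, 2, 2, 7, 2, 1, 1, 0, 10, 10, 6, 0, 1, 0, 10, 1, 1, 0, 10, 10, 3, 4] (by decide +kernel)) F6 (mul_w G1_6 (mul_w G1_1 (mul_w G1_0 (mul_w G1_2 (one_w _))))) (by decide) (by decide +kernel) [6, 0, 1, 0, 10, 4, 0, 0, 1, 1, 0, 10, 10, 0, 1, 0, 10, 0] (by decide +kernel)) [9, 9] [6, 0, 1, 0, 10, 4, 1, 1, 0, 10, 10, 0, 1, 0, 10, 0] (by decide +kernel)) [16] [0, 2, 1, 2, 2, 2, 0, 2, 0, 2, 7, 1, 1, 0, 1, 0, 0, 1, 1, 0, 10, 10, 1, 0, 10] (by decide +kernel)) F26 (mul_w G2_0 (mul_w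 G2_1 (mul_w G2_1 (mul_w G2_0 (mul_w G2_2 (mul_w G2_2 (mul_w G2_2 (one_w _)))))))) (by decide) (by decide +kernel) [1, 2, 0, 2, 1, 2, 0, 2, 2, 7, 1, 0, 1, 3, 1, 1, 0, 10, 10, 2, 0, 2, 1, 0, 10, 0] (by decide +kernel)) [9, 9] [1, 2, 0, 2, 1, 2, 0, 2, 2, 7, 1, 0, 1, 3, 1, 1, 0, 10, 10, 2, 0, 2, 1, 0, 10, 1, 1, 0, 10, 10, 0, 1, 1, 0, 10, 10] (by decide +kernel))
    loop6 rfl rfl (by decide) (by decide) (by decide +kernel)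

theorem F29 : CFact g2 [2, 0, 2, 1, 1, 1, 1, 2, 7, 1, 0, 1, 3, 1, 1, 0, 10, 10, 1, 0, 10, 5, 1, 1, 0, 10, 10, 1, 0, 10, 0, 2] g2 [2, 1, 1, 2, 1, 2, 7, 0, 1, 0, 0, 1, 1, 0, 10, 10, 0] := CFact.rev F28 _ (by decide +kernel)

theorem F30 : CFact g2 [2, 0, 1, 0, 7, 1, 0, 2, 7, 1, 1, 0, 1, 1, 0, 10, 4, 4, 0, 5] g2 [1, 2, 7, 7, 0, 1, 0, 2, 7, 1, 0, 1, 0, 0, 1, 1, 0, 10, 10, 0, 1, 0, 10] :=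
  deduce [[9, 9, 16], [9, 9, 9, 11, 16, 1, 9, 10, 11, 16, 1, 9, 10, 11, 10, 0, 10, 10, 0, 10]] [[0, 1, 9, 1, 1, 9, 1, 1, 11, 0, 2, 1, 2, 10, 7, 2, 10, 10, 7, 2, 1, 2]] (wp := [7])
    (stepW (stepZ (k := [1, 1, 2, 2, 5, 7, 1]) (stepW (stepZ (k := [0, 2, 0, 7, 6, 5, 2, 6]) (start Z [7, 1, 2, 4, 2, 1, 1, 0, 10, 10, 1, 0, 10, 0, 4, 1, 0, 10]) F6 (one_w _) (by decide) (by decide +kernel) [1, 1, 0, 10, 10, 1, 0, 10, 0, 4, 3, 1, 0, 10] (by decide +kernel)) [9, 9, 16] [0, 2, 2, 1, 2, 7, 1, 1, 0, 1, 0, 0, 0, 0, 0, 0] (by decide +kernel)) F8 (mul_w G2_2 (mul_w G2_1 (mul_w G2_2 (mul_w G2_2 (mul_w G2_2 (mul_w G2_0 (mul_w G2_0 (one_w _)))))))) (by decide) (by decide +kernel) [7, 2, 1, 1, 2, 0, 1, 2, 7, 0, 1, 6, 1, 0, 10, 0, 2, 2] (by decide +kernel)) [9, 9, 9, 11, 16,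 1, 9, 10, 11, 16, 1, 9, 10, 11, 10, 0, 10, 10, 0, 10] [2, 0, 1, 0, 7, 1, 0, 2, 7, 1, 1, 0, 1, 1, 0, 10, 4, 4, 0, 5] (by decide +kernel))
    (stepW (stepZ (k := [7, 2, 5, 6, 1, 5, 6, 5]) (stepW (start Z [7, 1, 2, 4, 2, 1, 1, 0, 10, 10, 1, 0, 10, 0, 4, 1, 0, 10]) [11, 10, 11, 16, 1, 1, 11, 16, 1, 11, 10, 11, 9, 2, 10, 10, 0, 10, 10, 0, 10, 9] [1, 0, 7, 2, 7, 0, 2, 7, 0, 1, 5, 2, 1, 1, 0, 10, 10, 1, 0, 10, 0, 1, 1, 0, 10, 10, 3, 1, 0, 10] (by decide +kernel)) F6 (mul_w G1_7 (mul_w G1_3 (mul_w G1_0 (mul_w G1_5 (mul_w G1_3 (one_w _)))))) (by decide) (by decide +kernel) [5, 1, 1, 0, 10, 10, 1, 0, 10, 0, 4, 0, 0, 0] (by decide +kernel)) [9, 9] [5, 1, 1, 0, 10, 10, 1, 0, 10, 0, 4, 0] (by decide +kernel))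
    loop6 rfl rfl (by decide) (by decide) (by decide +kernel)

theorem F31 : CFact g2 [1, 2, 7, 7, 0, 1, 0, 2, 7, 1, 0, 1, 0, 0, 1, 1, 0, 10, 10, 0, 1, 0, 10] g2 [2, 0, 1, 0, 7, 1, 0, 2, 7, 1, 1, 0, 1, 0, 0, 5, 1, 0, 10, 5, 0, 5] := CFact.rev F30 _ (by decide +kernel)

theorem F32 : CFact g2 [2, 0, 2, 0, 1, 2, 7, 1, 0, 0, 4, 1, 0, 10, 5, 0, 0, 1, 1, 0, 10, 10] g2 [2, 7, 1, 0, 2, 0, 1, 0, 2, 7, 1, 1, 0, 10, 10, 0, 4, 1, 0, 10, 1, 1, 0, 10, 10, 1, 0, 10, 4, 0, 1, 0, 10] :=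
  deduce [[9, 9, 16], [9, 9, 9, 11, 16, 1, 9, 10, 11, 16, 1, 9, 10, 11, 10, 0, 10, 10, 0, 10]] [[0, 1, 9, 1, 1, 9, 1, 1, 11, 0, 2, 1, 2, 10, 7, 2, 10, 10, 7, 2, 1, 2]] (wp := [7])
    (stepW (stepZ (k := [3, 6, 7, 5, 3, 5, 0, 5, 6]) (stepW (stepZ (k := [2, 1, 1, 6, 7, 0]) (start Z [7, 1, 4, 3, 3, 1, 0, 10, 1, 1, 0, 10, 10, 2]) F6 (one_w _) (by decide) (by decide +kernel) [3, 1, 0, 10, 3, 1, 1, 0, 10, 10, 4, 4] (by decide +kernel)) [9, 9, 16] [2, 7, 7, 1, 2, 1, 1, 0, 2, 7, 1, 0, 0, 1, 1, 0, 10, 10, 0, 1, 0, 10] (by decide +kernel)) F8 (mul_w G2_1 (mul_w G2_1 (mul_w G2_2 (mul_w G2_2 (mul_w G2_1 (mul_w G2_2 (mul_w G2_2 (one_w _)))))))) (by decide) (by decide +kernel) [7, 2, 1, 1, 2, 0, 1, 2, 7, 0, 1, 0, 1, 1, 0, 10, 10, 2, 3, 0, 0, 1, 0, 10, 0] (by decide +kernel))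 [9, 9, 9, 11, 16, 1, 9, 10, 11, 16, 1, 9, 10, 11, 10, 0, 10, 10, 0, 10] [2, 0, 2, 0, 1, 2, 7, 1, 0, 0, 4, 1, 0, 10, 5, 0, 0, 1, 1, 0, 10, 10] (by decide +kernel))
    (stepW (stepZ (k := [6, 3, 5, 6, 5, 3, 6]) (stepW (start Z [7, 1, 4, 3, 3, 1, 0, 10, 1, 1, 0, 10, 10, 2]) [11, 10, 11, 16, 1, 1, 11, 16, 1, 11, 10, 11, 9, 2, 10, 10, 0, 10, 10, 0, 10, 9] [7, 7, 1, 2, 7, 1, 0, 1, 4, 2, 1, 0, 10, 1, 1, 0, 10, 10, 4, 0, 0] (by decide +kernel)) F6 (mul_w G1_6 (mul_w G1_7 (mul_w G1_6 (mul_w G1_3 (mul_w G1_5 (one_w _)))))) (by decide) (by decide +kernel) [2, 2, 0, 2, 4, 4, 4, 2] (by decide +kernel)) [9, 9] [1, 1, 0, 10, 10, 2, 0, 4, 1, 1, 0, 10, 10, 6] (by decide +kernel))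
    loop6 rfl rfl (by decide) (by decide) (by decide +kernel)

theorem F33 : CFact g2 [2, 7, 1, 0, 2, 0, 1, 0, 2, 7, 1, 1, 0, 10, 10, 0, 4, 1, 0, 10, 1, 1, 0, 10, 10, 1, 0, 10, 4, 0, 1, 0, 10] g2 [2, 0, 2, 0, 1, 2, 7, 1, 3, 2, 1, 0, 10, 2, 0, 1, 1, 0, 10, 10, 0, 2] := CFact.rev F32 _ (by decide +kernel)

theorem F34 : CFact g2 [1, 1, 2, 0, 1, 0, 2, 2, 7, 0, 1, 2, 2, 3, 5, 2, 1, 0, 10, 3, 0] g2 [2, 0, 1, 0, 7, 1, 0, 2, 7, 1, 3, 0, 0, 1, 0, 10, 0, 5, 2, 0, 1, 0, 10] :=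
  deduce [[9, 9, 9, 11, 16, 1, 9, 10, 11, 16, 1, 9, 10, 11, 10, 0, 10, 10, 0, 10], [7]] [[9, 9, 16]] (wp := [0, 1, 9, 1, 1, 9, 1, 1, 11, 0, 2, 1, 2, 10, 7, 2, 10, 10, 7, 2, 1, 2])
    (stepW (stepZ (k := [7, 6, 5, 2, 0, 1]) (stepW (stepZ (k := [5, 3, 7, 2, 2, 6]) (start Z [7, 1, 0, 5, 1, 1, 0, 10, 10, 4, 4, 1, 0, 10]) F6 (one_w _) (by decide) (by decide +kernel) [3, 5, 1, 1, 0, 10, 10, 0, 1, 0, 10, 3, 2] (by decide +kernel)) [9, 9, 9, 11, 16, 1, 9, 10, 11, 16, 1, 9, 10, 11, 10, 0, 10, 10, 0, 10] [1, 0, 1, 2, 7, 1, 0, 2, 7, 1, 0, 0, 6, 0, 5, 0, 1, 0, 10, 1, 1, 0, 10, 10, 1, 0, 10] (by decide +kernel)) F12 (mul_w G2_1 (mul_w G2_2 (mul_w G2_2 (mul_w G2_2 (mul_w G2_0 (mul_w G2_2 (mul_w G2_0 (one_w _)))))))) (by decide) (by decide +kernel) [7, 1, 0, 2, 2, 0,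 1, 2, 7, 1, 1, 0, 1, 0, 4, 1, 0, 10, 1, 1, 0, 10, 10, 1, 0, 10, 0, 4, 0] (by decide +kernel)) [7] [1, 1, 2, 0, 1, 0, 2, 2, 7, 0, 1, 2, 2, 3, 5, 2, 1, 0, 10, 3, 0] (by decide +kernel))
    (stepW (stepZ (k := [4, 5, 5, 0, 0, 7]) (stepW (start Z [7, 1, 0, 5, 1, 1, 0, 10, 10, 4, 4, 1, 0, 10]) [7, 0, 0] [2, 1, 2, 0, 2, 1, 0, 1, 2, 7, 1, 2, 2, 3, 4, 0, 1, 1, 0, 10, 10, 1, 0, 10] (by decide +kernel)) F6 (mul_w G1_5 (mul_w G1_4 (mul_w G1_7 (mul_w G1_2 (mul_w G1_2 (one_w _)))))) (by decide) (by decide +kernel) [0, 4, 4, 1, 1, 0, 10, 10, 0, 5, 6] (by decide +kernel)) [9, 9] [3, 0, 0, 2, 1, 1, 0, 10, 10, 2, 0, 0] (by decide +kernel))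
    loop7 rfl rfl (by decide) (by decide) (by decide +kernel)

theorem F35 : CFact g2 [2, 0, 1, 0, 7, 1, 0, 2, 7, 1, 3, 0, 0, 1, 0, 10, 0, 5, 2, 0, 1, 0, 10] g2 [1, 1, 2, 0, 1, 0, 2, 2, 7, 0, 1, 4, 0, 1, 0, 10, 2, 2, 0, 1, 0, 10] := CFact.rev F34 _ (by decide +kernel)

/-- A representative. -/
noncomputable def g3 : L := Z * ev [7, 2, 7] * Z

theorem F36 : CFact Z [7, 2, 7] g3 [] := CFact.ofDef rfl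

theorem G3_0 : ev [9, 10, 9, 1, 11, 10, 0, 11, 1, 0, 9, 10, 9, 1, 11, 10, 0, 11, 1, 0, 0, 1, 1, 0, 10, 10, 9, 10, 9, 1, 2, 10, 0, 1, 9, 10, 9, 1, 11, 10, 0, 11, 1, 0, 9, 9, 9, 9, 10, 9, 2, 0, 1, 0, 1, 9, 10, 9, 9] ∈ X g3 :=
  gen_def (k := [0, 0, 7, 3, 0, 5, 2, 6]) (gj := g3) rfl (mul_w G1_1 (mul_w G1_5 (mul_w G1_6 (mul_w G1_7 (mul_w G1_5 (mul_w G1_6 (mul_w G1_5 (mul_w G1_3 (mul_w G1_5 (mul_w G1_3 (mul_w G1_5 (one_w _)))))))))))) (by decide) (by decide +kernel)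

theorem G3_1 : ev [10, 10, 0, 2, 9, 1, 2, 1, 0, 1, 1, 0, 10, 10, 9, 9, 10, 9, 1, 11, 10, 0, 11, 1, 0, 9, 9, 9, 1, 9, 10, 9, 9, 9, 10, 9, 2, 0, 1, 0] ∈ X g3 :=
  gen_def (k := [1, 7, 0, 5, 6, 2]) (gj := g3) rfl (mul_w G1_0 (mul_w G1_6 (mul_w G1_5 (mul_w G1_7 (mul_w G1_5 (mul_w G1_2 (mul_w G1_6 (mul_w G1_1 (mul_w G1_5 (mul_w G1_6 (mul_w G1_7 (one_w _)))))))))))) (by decide) (by decide +kernel)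

theorem G3_2 : ev [9, 10, 9, 1, 11, 10, 0, 11, 1, 0, 1, 1, 9, 10, 2, 1, 0, 2, 10, 10, 11, 0, 1, 1, 0, 10, 10, 9, 9, 9, 9, 10, 9, 1, 2, 10, 0, 1, 9, 9, 9, 0, 1, 1, 0, 10, 10, 9] ∈ X g3 :=
  gen_def (k := [0, 4, 7, 5, 3, 5, 7]) (gj := g3) rfl (mul_w G1_1 (mul_w G1_1 (mul_w G1_6 (mul_w G1_5 (mul_w G1_7 (mul_w G1_3 (mul_w G1_6 (mul_w G1_7 (mul_w G1_5 (one_w _)))))))))) (by decide) (by decide +kernel)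

theorem G3_3 : ev [9, 10, 9, 2, 0, 1, 0, 0, 1, 1, 0, 10, 10, 9, 9, 10, 9, 2, 0, 1, 0, 10, 9, 1, 2, 10, 0, 1, 0, 1, 1, 0, 10, 10, 9, 9, 10, 9, 2, 0, 1, 0] ∈ X g3 :=
  gen_def (k := [2, 7, 2, 3, 7, 2]) (gj := g3) rfl (mul_w G1_5 (mul_w G1_4 (mul_w G1_6 (mul_w G1_5 (mul_w G1_3 (mul_w G1_6 (mul_w G1_3 (mul_w G1_7 (one_w _))))))))) (by decide) (by decide +kernel)

theorem F37 : CFact g3 [] Z [7, 2, 7, 0, 0] := CFact.rev F36 _ (by decide +kernel)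

theorem G3_4 : ev [2, 2, 0, 1, 2, 7, 1, 1, 0, 1, 0, 1, 0, 10, 0, 5, 0, 2, 1, 1, 0, 10, 10, 0, 1, 0, 10] ∈ X g3 :=
  gen_of
    (stepW (stepZ (k := [6, 0, 0, 5, 6, 7, 6]) (stepW (stepBase (stepW (stepZ (k := []) (start Z []) F1 (one_w _) (by decide) (by decide +kernel) [] (by decide +kernel)) [9, 9, 16] [7, 0, 0, 0, 0, 0, 0] (by decide +kernel)) (by decide +kernel)) [9, 9, 9, 11, 16, 1, 9, 10, 11, 16, 1, 9, 10, 11, 10, 0, 10, 10, 0, 10] [2, 1, 2, 7, 1, 1, 1, 2, 7, 1, 6, 1, 1, 0, 10, 10, 3, 0, 1, 0, 10, 0, 1, 1, 0, 10, 10, 4, 1, 0, 10] (by decide +kernel)) F36 (mul_w G1_2 (mul_w G1_5 (mul_w G1_6 (mul_w G1_0 (mul_w G1_0 (one_w _)))))) (by decide) (by decide +kernel) [0, 5, 1, 0, 10, 1, 1, 0, 10, 10, 0, 1, 0, 10, 3] (by decide +kernel)) [7] [2, 2, 0, 1, 2,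 7, 1, 1, 0, 1, 1, 1, 0, 10, 10, 1, 0, 10, 0] (by decide +kernel))
    (stepW (stepZ (k := [5, 5, 5, 7, 0, 6, 7]) (stepW (start Z []) [11, 10, 11, 16, 1, 1, 11, 16, 1, 11, 10, 11, 9, 2, 10, 10, 0, 10, 10, 0, 10, 9] [2, 1, 0, 2, 2, 0, 7, 2, 7, 0, 1, 0, 1, 0, 10, 4, 0, 1, 1, 0, 10, 10, 4, 0, 1, 0, 10] (by decide +kernel)) F36 (mul_w G1_3 (mul_w G1_5 (mul_w G1_0 (one_w _)))) (by decide) (by decide +kernel) [2, 0, 0, 0, 1, 0, 10, 1, 1, 0, 10, 10, 1, 0, 10, 4] (by decide +kernel)) [9, 9] [2, 2, 0, 5, 1, 0, 10, 1, 1, 0, 10, 10, 1, 0, 10] (by decide +kernel))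
    (closed [[9, 9, 16], [9, 9, 9, 11, 16, 1, 9, 10, 11, 16, 1, 9, 10, 11, 10, 0, 10, 10, 0, 10], [7]] [[0, 1, 9, 1, 1, 9, 1, 1, 11, 0, 2, 1, 2, 10, 7, 2, 10, 10, 7, 2, 1, 2]] loop6 rfl rfl (by decide)) (by decide +kernel) (by decide +kernel)

theorem G3_5 : ev [2, 2, 1, 2, 1, 2, 2, 1, 0, 2, 7, 1, 2, 1, 0, 10, 3, 1, 1, 0, 10, 10, 1, 0, 10, 4, 3, 1, 0, 10] ∈ X g3 :=
  gen_of
    (stepW (stepZ (k := [6, 7, 5, 6, 0, 5, 5]) (stepW (stepBase (stepW (stepZ (k := []) (start Z []) F1 (one_w _) (by decide) (by decide +kernel) [] (by decide +kernel)) [0, 10, 10, 9, 2, 1, 11, 1, 9, 11, 11, 7, 2, 0, 2, 9, 2, 10, 16] [7, 7, 2, 0, 1, 1, 1, 2, 7, 0, 1, 4, 2, 1, 0, 10, 3, 4, 0, 1, 1, 0, 10, 10] (by decide +kernel)) (by decide +kernel)) [9, 9, 11, 10, 11, 16, 1, 1, 11, 16,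 10, 11, 10, 10, 11, 1, 0, 1, 1, 0, 1, 9, 10] [2, 1, 0, 2, 2, 0, 7, 2, 7, 0, 1, 5, 0, 1, 0, 10, 0, 2, 1, 0, 10, 1, 1, 0, 10, 10, 1, 0, 10] (by decide +kernel)) F36 (mul_w G1_3 (mul_w G1_5 (mul_w G1_0 (one_w _)))) (by decide) (by decide +kernel) [1, 0, 10, 0, 4, 0, 1, 1, 0, 10, 10, 3, 0, 1, 0, 10] (by decide +kernel)) [9, 9, 16, 0, 2, 1, 2, 9, 11, 16, 0, 10, 9, 2, 9, 10, 10, 9, 1, 9] [2, 2, 1, 2, 1, 2, 2, 1, 0, 2, 7, 1, 1, 0, 10, 4, 0, 1, 0, 10, 1, 1, 0, 10, 10, 4, 3, 0] (by decide +kernel))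
    (stepW (stepZ (k := [5, 5, 7, 5, 0, 6, 7, 5]) (stepW (start Z []) [11, 10, 11, 16, 1, 1, 11, 16, 10, 11, 10, 10, 11, 1, 0, 1, 1, 0, 1, 9, 10] [2, 1, 0, 2, 2, 0, 7, 2, 7, 0, 1, 0, 0, 2, 0, 1, 0, 10, 1, 1, 0, 10, 10, 1, 0, 10, 0, 5] (by decide +kernel)) F36 (mul_w G1_3 (mul_w G1_5 (mul_w G1_0 (one_w _)))) (by decide) (by decide +kernel) [2, 0, 0, 1, 1, 0, 10, 10, 0, 1, 0, 10, 0, 5, 1, 1, 0, 10, 10] (by decide +kernel)) [9, 9] [0, 5, 1, 0, 10, 1, 1, 0, 10, 10, 1, 0, 10, 4, 0] (by decide +kernel))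
    (closed [[0, 10, 10, 9, 2, 1, 11, 1, 9, 11, 11, 7, 2, 0, 2, 9, 2, 10, 16], [9, 9, 11, 10, 11, 16, 1, 1, 11, 16, 10, 11, 10, 10, 11, 1, 0, 1, 1, 0, 1, 9, 10], [9, 9, 16, 0, 2, 1, 2, 9, 11, 16, 0, 10, 9, 2, 9, 10, 10, 9, 1, 9]] [[1, 0, 10, 9, 10, 10, 9, 10, 2, 1, 1, 2, 1, 7, 2, 10, 10, 7, 2, 1, 2]] loop11 rfl rfl (by decide)) (by decide +kernel) (by decide +kernel)

theorem F38 : CFact g2 [2, 1, 2, 7, 1, 1, 1, 2, 7, 1, 0, 0, 6, 0, 5, 0, 0, 1, 0, 10, 0] g3 [2, 2, 7, 2, 2, 1, 0, 2, 7, 1, 0, 1, 3, 1, 0, 10, 4, 6, 0, 1, 1, 0, 10, 10, 4] :=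
  deduce [[9, 9, 16], [9, 9, 9, 11, 16, 1, 9, 10, 11, 16, 1, 9, 10, 11, 10, 0, 10, 10, 0, 10]] [[0, 1, 9, 1, 1, 9, 1, 1, 11, 0, 2, 1, 2, 10, 7, 2, 10, 10, 7, 2, 1, 2]] (wp := [7])
    (stepW (stepZ (k := [5, 5]) (stepW (stepZ (k := [5, 5]) (start Z [1]) F2 (mul_w G1_5 (mul_w G1_5 (mul_w G1_5 (mul_w G1_6 (mul_w G1_7 (one_w _)))))) (by decide) (by decide +kernel) [1, 1, 0, 1, 0, 0, 1, 0, 10, 1, 1, 0, 10, 10, 0, 1, 0, 10] (by decide +kernel)) [9, 9, 16] [7, 1, 1, 0, 1, 0, 0, 1, 0, 10, 0, 1, 1, 0, 10, 10, 1, 0, 10] (by decide +kernel)) F6 (mul_w G1_7 (mul_w G1_6 (mul_w G1_5 (one_w _)))) (by decide) (by decide +kernel) [0, 0] (by decide +kernel)) [9, 9, 9, 11, 16, 1, 9, 10, 11, 16, 1, 9, 10, 11, 10, 0, 10, 10, 0, 10] [2, 1, 2, 7, 1, 1, 1, 2, 7, 1, 0, 0, 6, 0,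 5, 0, 0, 1, 0, 10, 0] (by decide +kernel))
    (stepW (stepZ (k := [0, 1, 5, 6, 0, 7, 6, 3]) (stepW (start Z [1]) [11, 10, 11, 16, 1, 1, 11, 16, 1, 11, 10, 11, 9, 2, 10, 10, 0, 10, 10, 0, 10, 9] [2, 0, 2, 0, 7, 1, 1, 2, 7, 1, 1, 0, 1, 1, 0, 10, 0, 1, 1, 0, 10, 10, 4, 1, 0, 10, 2, 0, 1, 1, 0, 10, 10] (by decide +kernel)) F36 (mul_w G1_6 (mul_w G1_3 (mul_w G1_5 (mul_w G1_0 (one_w _))))) (by decide) (by decide +kernel) [5, 4, 0, 5, 1, 0, 10, 1, 1, 0, 10, 10, 1, 0, 10] (by decide +kernel)) [9, 9] [1, 0, 10, 0, 5, 1, 0, 10, 5, 1, 1, 0, 10, 10, 0, 1, 0, 10] (by decide +kernel))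
    loop6 rfl rfl (by decide) (by decide) (by decide +kernel)

theorem F39 : CFact g3 [2, 2, 7, 2, 2, 1, 0, 2, 7, 1, 0, 1, 3, 1, 0, 10, 4, 6, 0, 1, 1, 0, 10, 10, 4] g2 [2, 1, 2, 7, 1, 1, 1, 2, 7, 1, 0, 5, 5, 1, 0, 10, 6, 1, 1, 0, 10, 10, 0, 1, 1, 0, 10, 10] := CFact.rev F38 _ (by decide +kernel)

theorem F40 : CFact g3 [2, 2, 2, 2, 7, 2, 0, 2, 2, 7, 0, 1, 2, 0, 1, 1, 0, 10, 10, 2, 1, 0, 10, 0, 1, 1, 0, 10, 10, 3, 1, 0, 10, 0] g2 [0, 7, 2, 7, 0, 2, 0, 0, 1, 1, 0, 10, 10, 1, 0, 10, 4, 0] :=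
  deduce [[1, 0, 10, 9, 10, 10, 9, 10, 2, 1, 1, 2, 1, 7, 2, 10, 10, 7, 2, 1, 2], [0, 10, 10, 9, 2, 1, 11, 1, 9, 11, 11, 7, 2, 0, 2, 9, 2, 10, 16]] [[9, 9, 16, 0, 2, 1, 2, 9, 11, 16, 0, 10, 9, 2, 9, 10, 10, 9, 1, 9]] (wp := [9, 9, 11, 10, 11, 16, 1, 1, 11, 16, 10, 11, 10, 10, 11, 1, 0, 1, 1, 0, 1, 9, 10])
    (stepW (stepZ (k := [5, 5, 5, 7, 0, 6, 0, 5]) (stepW (stepZ (k := [5, 5]) (start Z [1]) F2 (mul_w G1_5 (mul_w G1_5 (mul_w G1_5 (mul_w G1_6 (mul_w G1_7 (one_w _)))))) (by decide) (by decide +kernel) [1, 1, 0, 1, 0, 0, 1, 0, 10, 1, 1, 0, 10, 10, 0, 1, 0, 10] (by decide +kernel)) [1, 0, 10, 9, 10, 10, 9, 10, 2, 1, 1, 2, 1, 7, 2, 10, 10, 7, 2, 1, 2] [2, 2, 7, 0, 2, 0, 2, 7, 1, 1, 0, 1, 4, 1, 0, 10, 1, 1, 0, 10, 10, 0, 4, 1, 1, 0, 10, 10, 4] (by decide +kernel))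 F36 (mul_w G1_2 (mul_w G1_6 (mul_w G1_5 (mul_w G1_2 (mul_w G1_1 (one_w _)))))) (by decide) (by decide +kernel) [4, 0, 1, 1, 0, 10, 10, 4, 6, 0, 0, 1, 0, 10, 0] (by decide +kernel)) [0, 10, 10, 9, 2, 1, 11, 1, 9, 11, 11, 7, 2, 0, 2, 9, 2, 10, 16] [2, 2, 2, 2, 7, 2, 0, 2, 2, 7, 0, 1, 2, 0, 1, 1, 0, 10, 10, 2, 1, 0, 10, 0, 1, 1, 0, 10, 10, 3, 1, 0, 10, 0] (by decide +kernel))
    (stepW (stepZ (k := [1, 5, 5, 2, 6, 1, 5, 6, 7, 6]) (stepW (start Z [1]) [0, 10, 0, 1, 1, 0, 11, 0, 1, 9, 7, 2, 0, 11, 10, 11, 9, 7, 0, 0] [0, 2, 2, 7, 1, 2, 1, 2, 7, 1, 1, 0, 1, 4, 0, 0, 1, 0, 10, 0, 1, 1, 0, 10, 10, 1, 0, 10, 4, 1, 1, 0, 10, 10] (by decide +kernel)) F6 (mul_w G1_2 (mul_w G1_6 (mul_w G1_1 (mul_w G1_2 (mul_w G1_3 (one_w _)))))) (by decide) (by decide +kernel) [1, 1,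 0, 10, 10, 1, 0, 10, 4, 1, 1, 0, 10, 10, 1, 0, 10, 3, 0, 1, 0, 10, 1, 1, 0, 10, 10] (by decide +kernel)) [9, 9] [2, 3, 1, 0, 10, 1, 1, 0, 10, 10, 4, 0, 1, 0, 10, 1, 1, 0, 10, 10] (by decide +kernel))
    loop10 rfl rfl (by decide) (by decide) (by decide +kernel)

theorem F41 : CFact g2 [0, 7, 2, 7, 0, 2, 0, 0, 1, 1, 0, 10, 10, 1, 0, 10, 4, 0] g3 [2, 2, 2, 2, 7, 2, 0, 2, 2, 7, 0, 1, 1, 0, 10, 5, 5, 1, 1, 0, 10, 10, 4, 0, 1, 0, 10, 1, 1, 0, 10, 10] := CFact.rev F40 _ (by decide +kernel)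

theorem F42 : CFact g2 [7, 0, 2, 1, 2, 0, 7, 2, 7, 0, 2, 7, 1, 1, 0, 1, 0, 6, 1, 1, 0, 10, 10, 0, 1, 0, 10, 4, 1, 1, 0, 10, 10, 5] g3 [2, 7, 0, 2, 2, 0, 1, 2, 7, 0, 1, 3, 0, 1, 0, 10, 5, 1, 0, 10, 1, 1, 0, 10, 10, 3, 1, 0, 10] :=
  deduce [[9, 7, 10, 11, 9, 1, 11, 16, 1, 11, 10, 9, 11, 0, 10, 0, 1, 0, 10]] [[11, 16, 9, 11, 9, 1, 11, 16]] (wp := [9, 11, 16, 0, 11, 10, 0, 11, 16, 9, 11, 0, 2, 10, 10, 11, 10, 9, 10, 10])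
    (stepW (stepZ (k := [5, 5, 5, 6, 7, 5, 3, 6, 0, 5]) (start Z [7, 1, 0, 0, 0, 1, 0, 10, 1, 1, 0, 10, 10, 0, 5, 1, 0, 10, 2, 0]) F6 (one_w _) (by decide) (by decide +kernel) [0, 1, 0, 10, 1, 1, 0, 10, 10, 4, 0, 0, 1, 0, 10, 3, 0, 1, 0, 10] (by decide +kernel)) [9, 7, 10, 11, 9, 1, 11, 16, 1, 11, 10, 9, 11, 0, 10, 0, 1, 0, 10] [7, 0, 2, 1, 2, 0, 7, 2, 7, 0, 2, 7, 1, 1, 0, 1, 0, 6, 1, 1, 0, 10, 10, 0, 1, 0, 10, 4, 1, 1, 0, 10, 10, 5] (by decide +kernel))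
    (stepW (stepZ (k := [1, 2, 6, 1, 7, 6]) (stepW (start Z [7, 1, 0, 0, 0, 1, 0, 10, 1, 1, 0, 10, 10, 0, 5, 1, 0, 10, 2, 0]) [7, 2, 10, 0, 2, 0, 7, 2] [2, 1, 0, 2, 2, 0, 7, 2, 7, 1, 1, 0, 1, 1, 0, 10, 5, 0, 0, 4] (by decide +kernel)) F36 (mul_w G1_3 (mul_w G1_4 (mul_w G1_5 (mul_w G1_2 (one_w _))))) (by decide) (by decide +kernel) [1, 0, 10, 1, 1, 0, 10, 10, 0, 1, 1, 0, 10, 10, 3, 1, 1, 0, 10, 10, 0, 2, 1, 0, 10] (by decide +kernel)) [9, 9] [2, 1, 0, 10, 4, 1, 0, 10, 1, 1, 0, 10, 10, 1, 0, 10, 4, 1, 1, 0, 10, 10] (by decide +kernel))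
    loop3 rfl rfl (by decide) (by decide) (by decide +kernel)

theorem F43 : CFact g3 [2, 7, 0, 2, 2, 0, 1, 2, 7, 0, 1, 3, 0, 1, 0, 10, 5, 1, 0, 10, 1, 1, 0, 10, 10, 3, 1, 0, 10] g2 [7, 0, 2, 1, 2, 0, 7, 2, 7, 0, 2, 7, 1, 1, 0, 1, 2, 6, 1, 1, 0, 10, 10, 4, 1, 0, 10, 4, 1, 1, 0, 10, 10] := CFact.rev F42 _ (by decide +kernel)

theorem F44 : CFact g2 [2, 0, 1, 2, 7, 1, 1, 0, 1, 0, 0, 0, 1, 0, 10] g3 [7, 0, 1, 2, 7, 2, 0, 2, 7, 0, 1, 1, 0, 10, 10, 2, 0, 6, 1, 0, 10, 1, 1, 0, 10, 10, 0, 1, 0, 10] :=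
  deduce [[9, 9, 16]] [[7], [0, 1, 9, 1, 1, 9, 1, 1, 11, 0, 2, 1, 2, 10, 7, 2, 10, 10, 7, 2, 1, 2]] (wp := [9, 9, 9, 11, 16, 1, 9, 10, 11, 16, 1, 9, 10, 11, 10, 0, 10, 10, 0, 10])
    (stepW (stepZ (k := [0, 3, 3, 2, 3, 5, 7]) (start Z [7, 1, 2, 5, 5, 4, 5, 0, 1, 1, 0, 10, 10]) F6 (one_w _) (by decide) (by decide +kernel) [2, 0, 5, 1, 1, 0, 10, 10] (by decide +kernel)) [9, 9, 16] [2, 0, 1, 2, 7, 1, 1, 0, 1, 0, 0, 0, 1, 0, 10] (by decide +kernel))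
    (stepW (stepZ (k := [6, 5, 7, 3, 6, 3, 0]) (stepW (stepW (stepZ (k := [0, 0, 6, 3, 0, 7, 3]) (stepW (start Z [7, 1, 2, 5, 5, 4, 5, 0, 1, 1, 0, 10, 10]) [11, 10, 11, 16, 1, 1, 11, 16, 1, 11, 10, 11, 9, 2, 10, 10, 0, 10, 10, 0, 10, 9] [1, 1, 2, 1, 2, 2, 1, 2, 7, 0, 1, 3, 0, 1, 1, 0, 10, 10, 2, 1, 1, 0, 10, 10, 1, 0, 10, 5] (by decide +kernel)) F6 (mul_w G1_0 (mul_w G1_1 (mul_w G1_3 (mul_w G1_7 (mul_w G1_3 (one_w _)))))) (by decide) (by decide +kernel) [4, 6, 1, 0, 10, 5, 1, 1, 0, 10, 10, 2] (by decide +kernel)) [9, 9] [2, 1, 0, 10, 0, 2, 2, 1, 1, 0, 10, 10, 0, 4] (by decide +kernel)) [16] [1, 2, 7, 2, 2, 1, 0, 2, 7, 0, 1, 1, 1, 0, 10, 10, 0, 1, 1, 0, 10, 10, 4, 3, 1, 1, 0, 10, 10, 1, 0, 10] (by decide +kernel)) F42 (mul_w G2_2 (mul_w G2_1 (mul_w G2_1 (mul_w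 G2_1 (mul_w G2_1 (mul_w G2_1 (one_w _))))))) (by decide) (by decide +kernel) [2, 7, 0, 2, 2, 0, 1, 2, 7, 0, 1, 4, 1, 0, 10, 1, 1, 0, 10, 10, 0, 4, 0, 5, 1, 1, 0, 10, 10] (by decide +kernel)) [9, 9] [2, 7, 0, 2, 2, 0, 1, 2, 7, 0, 1, 3, 0, 0, 1, 0, 10, 4, 4, 3] (by decide +kernel))
    loop6 rfl rfl (by decide) (by decide) (by decide +kernel)

theorem F45 : CFact g3 [7, 0, 1, 2, 7, 2, 0, 2, 7, 0, 1, 1, 0, 10, 10, 2, 0, 6, 1, 0, 10, 1, 1, 0, 10, 10, 0, 1, 0, 10] g2 [2, 0, 1, 2, 7, 1, 1, 0, 1, 0, 0, 0, 0, 0, 1, 0, 10] := CFact.rev F44 _ (by decide +kernel)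

theorem F46 : CFact g2 [2, 0, 2, 0, 1, 1, 0, 1, 2, 7, 2, 1, 1, 0, 10, 10, 0, 4, 0, 2, 1, 0, 10, 0, 1, 1, 0, 10, 10] g3 [2, 0, 2, 0, 1, 1, 2, 7, 1, 0, 1, 0, 0, 1, 1, 0, 10, 10, 1, 0, 10, 0, 1, 1, 0, 10, 10] :=
  deduce [[9, 9, 16], [9, 9, 9, 11, 16, 1, 9, 10, 11, 16, 1, 9, 10, 11, 10, 0, 10, 10, 0, 10]] [[0, 1, 9, 1, 1, 9, 1, 1, 11, 0, 2, 1, 2, 10, 7, 2, 10, 10, 7, 2, 1, 2]] (wp := [7])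
    (stepW (stepZ (k := [2, 5, 6, 2, 6, 2, 5, 7]) (stepW (stepZ (k := [1, 7, 3, 3, 3, 6]) (start Z [7, 1, 3, 1, 1, 0, 10, 10, 5, 5, 5, 1, 0, 10]) F6 (one_w _) (by decide) (by decide +kernel) [2, 5, 1, 1, 0, 10, 10, 3, 1, 0, 10, 5] (by decide +kernel)) [9, 9, 16] [7, 1, 2, 0, 2, 1, 2, 2, 7, 0, 1, 1, 0, 10, 10, 5, 1, 0, 10, 0, 1, 1, 0, 10, 10, 0, 4, 0] (by decide +kernel)) F26 (mul_w G2_2 (mul_w G2_2 (mul_w G2_0 (mul_w G2_1 (mul_w G2_1 (mul_w G2_0 (one_w _))))))) (by decide) (by decide +kernel) [1, 2, 0, 2, 1, 2, 0, 2, 2, 7, 1, 0, 1, 2, 1, 0, 10, 0, 1, 1, 0, 10, 10, 5, 0, 0] (by decide +kernel)) [9, 9, 9, 11, 16, 1, 9, 10, 11, 16, 1, 9, 10, 11, 10, 0, 10, 10, 0, 10] [2, 0, 2, 0, 1, 1, 0, 1, 2, 7, 2, 1, 1, 0, 10, 10, 0, 4, 0, 2, 1, 0, 10, 0, 1, 1, 0, 10, 10]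 (by decide +kernel))
    (stepW (stepZ (k := [0, 6, 5, 4, 7, 2, 2, 6, 7]) (stepW (start Z [7, 1, 3, 1, 1, 0, 10, 10, 5, 5, 5, 1, 0, 10]) [11, 10, 11, 16, 1, 1, 11, 16, 1, 11, 10, 11, 9, 2, 10, 10, 0, 10, 10, 0, 10, 9] [1, 2, 0, 7, 2, 2, 0, 2, 7, 0, 1, 2, 3, 1, 0, 10, 1, 1, 0, 10, 10, 5, 0, 2, 1, 0, 10] (by decide +kernel)) F36 (mul_w G1_3 (mul_w G1_5 (one_w _))) (by decide) (by decide +kernel) [1, 0, 10, 2, 1, 1, 0, 10, 10, 0, 1, 0, 10, 5, 1, 1, 0, 10, 10] (by decide +kernel)) [9, 9] [1, 0, 10, 2, 1, 1, 0, 10, 10, 0, 1, 0, 10, 5, 0, 1, 1, 0, 10, 10, 0] (by decide +kernel))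
    loop6 rfl rfl (by decide) (by decide) (by decide +kernel)

theorem F47 : CFact g3 [2, 0, 2, 0, 1, 1, 2, 7, 1, 0, 1, 0, 0, 1, 1, 0, 10, 10, 1, 0, 10, 0, 1, 1, 0, 10, 10] g2 [2, 0, 2, 0, 1, 1, 0, 1, 2, 7, 1, 0, 10, 3, 5, 4, 1, 1, 0, 10, 10, 1, 0, 10, 0] := CFact.rev F46 _ (by decide +kernel)

theorem F48 : CFact g2 [2, 7, 0, 2, 0, 2, 1, 2, 7, 4, 1, 1, 0, 10, 10, 4, 0, 1, 0, 10, 0, 1, 1, 0, 10, 10, 0] g3 [1, 1, 1, 1, 0, 2, 1, 1, 2, 7, 0, 0, 0, 0] :=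
  deduce [[9, 9, 16], [9, 9, 9, 11, 16, 1, 9, 10, 11, 16, 1, 9, 10, 11, 10, 0, 10, 10, 0, 10]] [[0, 1, 9, 1, 1, 9, 1, 1, 11, 0, 2, 1, 2, 10, 7, 2, 10, 10, 7, 2, 1, 2]] (wp := [7])
    (stepW (stepZ (k := [3, 5, 7, 5, 2, 4, 5, 6]) (stepW (stepZ (k := [4, 5, 6, 3, 5, 5, 0, 7, 6]) (start Z [7, 1, 6, 0, 1, 0, 10, 5, 0, 0, 2, 1, 1, 0, 10, 10, 1, 0, 10]) F6 (one_w _) (by decide) (by decide +kernel) [5, 0, 1, 0, 10, 4, 1, 1, 0, 10, 10, 1, 0, 10, 5, 0, 0] (by decide +kernel)) [9, 9, 16] [0, 7, 2, 0, 2, 1, 2, 7, 1, 1, 0, 10, 0, 1, 1, 0, 10, 10, 4, 2, 1, 0, 10, 3, 0] (by decide +kernel)) F18 (mul_w G2_0 (mul_w G2_2 (mul_w G2_2 (mul_w G2_1 (mul_w G2_2 (one_w _)))))) (by decide) (by decide +kernel) [0, 1, 0, 2, 2, 7, 7, 0, 2, 7, 1, 1, 0, 1, 5, 4, 0, 0, 1, 0, 10, 4,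 1, 0, 10] (by decide +kernel)) [9, 9, 9, 11, 16, 1, 9, 10, 11, 16, 1, 9, 10, 11, 10, 0, 10, 10, 0, 10] [2, 7, 0, 2, 0, 2, 1, 2, 7, 4, 1, 1, 0, 10, 10, 4, 0, 1, 0, 10, 0, 1, 1, 0, 10, 10, 0] (by decide +kernel))
    (stepW (stepZ (k := [0, 0, 5, 6, 0, 4, 7, 0]) (stepW (start Z [7, 1, 6, 0, 1, 0, 10, 5, 0, 0, 2, 1, 1, 0, 10, 10, 1, 0, 10]) [11, 10, 11, 16, 1, 1, 11, 16, 1, 11, 10, 11, 9, 2, 10, 10, 0, 10, 10, 0, 10, 9] [2, 2, 2, 1, 2, 0, 7, 0, 2, 7, 1, 2, 2, 3, 1, 0, 10, 0, 5, 0] (by decide +kernel)) F36 (mul_w G1_3 (mul_w G1_5 (mul_w G1_2 (mul_w G1_1 (one_w _))))) (by decide) (by decide +kernel) [0, 0, 0, 0, 4, 2, 0, 1, 0, 10, 1, 1, 0, 10, 10] (by decide +kernel)) [9, 9] [0, 0, 0, 1, 0, 10, 4, 2, 1, 1, 0, 10, 10] (by decide +kernel))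
    loop6 rfl rfl (by decide) (by decide) (by decide +kernel)

theorem F49 : CFact g3 [1, 1, 1, 1, 0, 2, 1, 1, 2, 7, 0, 0, 0, 0] g2 [2, 7, 0, 2, 0, 2, 1, 2, 7, 4, 1, 1, 0, 10, 10, 4, 0, 1, 0, 10, 1, 1, 0, 10, 10] := CFact.rev F48 _ (by decide +kernel)

theorem F50 : CFact g2 [1, 0, 1, 1, 1, 2, 1, 2, 7, 1, 0, 10, 0, 1, 1, 0, 10, 10, 1, 0, 10] g3 [0, 2, 1, 0, 1, 2, 1, 2, 7, 0, 0, 0, 4, 0, 1, 0, 10, 1, 1, 0, 10, 10] :=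
  deduce [[9, 9, 16]] [[7], [0, 1, 9, 1, 1, 9, 1, 1, 11, 0, 2, 1, 2, 10, 7, 2, 10, 10, 7, 2, 1, 2]] (wp := [9, 9, 9, 11, 16, 1, 9, 10, 11, 16, 1, 9, 10, 11, 10, 0, 10, 10, 0, 10])
    (stepW (stepZ (k := [1, 7, 2, 3, 5, 3, 6]) (start Z [7, 1, 3, 1, 1, 0, 10, 10, 4, 5, 0, 5, 1, 0, 10]) F6 (one_w _) (by decide) (by decide +kernel) [0, 4, 2, 1, 1, 0, 10, 10, 1, 0, 10] (by decide +kernel)) [9, 9, 16] [1, 0, 1, 1, 1, 2, 1, 2, 7, 1, 0, 10, 0, 1, 1, 0, 10, 10, 1, 0, 10] (by decide +kernel))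
    (stepW (stepZ (k := [0, 1, 3, 6, 0, 7, 6]) (stepW (stepW (stepZ (k := [0, 0, 5, 6, 7, 2, 5, 2]) (stepW (start Z [7, 1, 3, 1, 1, 0, 10, 10, 4, 5, 0, 5, 1, 0, 10]) [11, 10, 11, 16, 1, 1, 11, 16, 1, 11, 10, 11, 9, 2, 10, 10, 0, 10, 10, 0, 10, 9] [2, 0, 0, 2, 1, 0, 2, 7, 1, 0, 1, 0, 10, 5, 1, 1, 0, 10, 10, 2, 1, 0, 10, 3] (by decide +kernel)) F6 (mul_w G1_6 (mul_w G1_1 (mul_w G1_5 (mul_w G1_6 (mul_w G1_1 (one_w _)))))) (by decide) (by decide +kernel) [0, 1, 0, 10, 5, 4, 1, 1, 0, 10, 10, 0, 5] (by decide +kernel)) [9, 9] [3, 6, 1, 0, 10, 0, 5, 0, 0, 1, 0, 10, 1, 1, 0, 10, 10] (by decide +kernel)) [16] [1, 0, 2, 0, 1, 0, 2, 7, 1, 0, 1, 1, 0, 10, 0, 1, 1, 0, 10, 10, 0] (by decide +kernel)) F42 (mul_w G2_0 (mul_w G2_1 (mul_w G2_1 (mul_w G2_0 (mul_w G2_2 (mul_w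 G2_2 (mul_w G2_0 (one_w _)))))))) (by decide) (by decide +kernel) [2, 7, 0, 2, 2, 0, 1, 2, 7, 0, 1, 2, 0, 5, 1, 0, 10, 1, 1, 0, 10, 10, 3, 1, 1, 0, 10, 10] (by decide +kernel)) [9, 9] [2, 7, 0, 2, 2, 0, 1, 2, 7, 0, 1, 3, 0, 5, 2, 3, 1, 0, 10] (by decide +kernel))
    loop6 rfl rfl (by decide) (by decide) (by decide +kernel)

theorem F51 : CFact g3 [0, 2, 1, 0, 1, 2, 1, 2, 7, 0, 0, 0, 4, 0, 1, 0, 10, 1, 1, 0, 10, 10] g2 [1, 0, 1, 1, 1, 2, 1, 2, 7, 0, 0, 1, 0, 10, 0, 1, 1, 0, 10, 10, 1, 0, 10] := CFact.rev F50 _ (by decide +kernel)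

theorem F52 : CFact g3 [7, 0, 0, 2, 1, 2, 2, 0, 2, 7, 1, 1, 0, 1, 1, 1, 0, 10, 10, 0, 2, 5, 1, 0, 10, 3, 1, 1, 0, 10, 10, 2] g2 [1, 2, 1, 2, 2, 2, 0, 2, 7, 1, 0, 1] :=
  deduce [[9, 9, 16], [9, 9, 9, 11, 16, 1, 9, 10, 11, 16, 1, 9, 10, 11, 10, 0, 10, 10, 0, 10]] [[0, 1, 9, 1, 1, 9, 1, 1, 11, 0, 2, 1, 2, 10, 7, 2, 10, 10, 7, 2, 1, 2]] (wp := [7])
    (stepW (stepZ (k := [0, 5, 7, 3, 7, 3, 6, 5]) (stepW (stepZ (k := [1, 5, 5, 6, 1, 5, 7, 1, 6]) (start Z [7, 1, 3, 0, 0, 1, 0, 10, 3, 0, 1, 1, 0, 10, 10, 3, 1, 0, 10]) F6 (one_w _) (by decide) (by decide +kernel) [2, 1, 0, 10, 0, 1, 1, 0, 10, 10, 0, 2, 3, 0, 1, 0, 10] (by decide +kernel)) [9, 9, 16] [2, 2, 2, 7, 2, 1, 0, 2, 7, 2, 4, 1, 1, 0, 10, 10, 4, 5, 0, 1, 1, 0, 10, 10] (by decide +kernel)) F46 (mul_w G2_2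 (mul_w G2_1 (mul_w G2_2 (mul_w G2_2 (mul_w G2_1 (one_w _)))))) (by decide) (by decide +kernel) [2, 0, 2, 0, 1, 1, 2, 7, 1, 0, 1, 3, 5, 1, 0, 10, 5, 1, 1, 0, 10, 10, 6, 0] (by decide +kernel)) [9, 9, 9, 11, 16, 1, 9, 10, 11, 16, 1, 9, 10, 11, 10, 0, 10, 10, 0, 10] [7, 0, 0, 2, 1, 2, 2, 0, 2, 7, 1, 1, 0, 1, 1, 1, 0, 10, 10, 0, 2, 5, 1, 0, 10, 3, 1, 1, 0, 10, 10, 2] (by decide +kernel))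
    (stepW (stepZ (k := [5, 5, 5, 5, 6, 2, 3, 5]) (stepW (start Z [7, 1, 3, 0, 0, 1, 0, 10, 3, 0, 1, 1, 0, 10, 10, 3, 1, 0, 10]) [11, 10, 11, 16, 1, 1, 11, 16, 1, 11, 10, 11, 9, 2, 10, 10, 0, 10, 10, 0, 10, 9] [1, 1, 2, 7, 0, 1, 1, 0, 10, 0, 1, 1, 0, 10, 10, 1, 0, 10, 4, 5, 0] (by decide +kernel)) F6 (mul_w G1_6 (mul_w G1_7 (mul_w G1_6 (mul_w G1_5 (mul_w G1_2 (one_w _)))))) (by decide) (by decide +kernel) [0, 0, 1, 0, 10, 4, 1, 1, 0, 10, 10, 5, 1, 1, 0, 10, 10, 0] (by decide +kernel)) [9, 9] [5, 0, 1, 0, 10, 0, 2, 1, 0, 10, 3] (by decide +kernel))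
    loop6 rfl rfl (by decide) (by decide) (by decide +kernel)

theorem F53 : CFact g2 [1, 2, 1, 2, 2, 2, 0, 2, 7, 1, 0, 1] g3 [7, 0, 0, 2, 1, 2, 2, 0, 2, 7, 1, 1, 0, 1, 3, 1, 1, 0, 10, 10, 0, 5, 1, 0, 10, 0, 4, 0, 1, 1, 0, 10, 10] := CFact.rev F52 _ (by decide +kernel)

theorem F54 : CFact g3 [1, 2, 7, 1, 2, 1, 1, 2, 7, 0, 4, 3, 1, 0, 10, 4, 1, 1, 0, 10, 10, 1, 0, 10, 0, 1, 1, 0, 10, 10] g3 [7, 7, 0, 2, 7, 1, 2, 7, 1, 0, 1, 4, 2, 1, 1, 0, 10, 10, 0, 1, 1, 0, 10, 10, 4] :=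
  deduce [[9, 9, 9, 11, 16, 1, 9, 10, 11, 16, 1, 9, 10, 11, 10, 0, 10, 10, 0, 10], [7]] [[9, 9, 16]] (wp := [0, 1, 9, 1, 1, 9, 1, 1, 11, 0, 2, 1, 2, 10, 7, 2, 10, 10, 7, 2, 1, 2])
    (stepW (stepZ (k := [7, 3, 6, 2, 7, 3, 5]) (stepW (stepZ (k := [0, 5, 5, 6, 1, 7, 6, 3]) (start Z [7, 1, 2, 0, 0, 1, 0, 10, 3, 1, 1, 0, 10, 10, 1, 0, 10, 5]) F6 (one_w _) (by decide) (by decide +kernel) [2, 2, 0, 2, 1, 1, 0, 10, 10, 0, 1, 0, 10, 1, 1, 0, 10, 10] (by decide +kernel)) [9, 9, 9, 11, 16, 1, 9, 10, 11, 16, 1, 9, 10, 11, 10, 0, 10, 10, 0, 10] [1, 2, 0, 2, 7, 1, 2, 7, 0, 6, 0, 1, 0, 10, 4, 1, 1, 0, 10, 10] (by decide +kernel)) F53 (mul_w G2_1 (mul_w G2_0 (mul_w G2_2 (mul_w G2_2 (mul_w G2_1 (mul_w G2_1 (mul_w G2_2 (one_w _)))))))) (by decide) (by decide +kernel) [7,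 0, 0, 2, 1, 2, 2, 0, 2, 7, 1, 1, 0, 1, 3, 4, 0, 0, 0, 0, 1, 0, 10, 4, 1, 0, 10] (by decide +kernel)) [7] [1, 2, 7, 1, 2, 1, 1, 2, 7, 0, 4, 3, 1, 0, 10, 4, 1, 1, 0, 10, 10, 1, 0, 10, 0, 1, 1, 0, 10, 10] (by decide +kernel))
    (stepW (stepZ (k := [0, 6, 0, 2, 5, 0, 7, 5]) (stepW (start Z [7, 1, 2, 0, 0, 1, 0, 10, 3, 1, 1, 0, 10, 10, 1, 0, 10, 5]) [7, 0, 0] [0, 1, 1, 1, 2, 7, 0, 2, 7, 1, 1, 0, 1, 2, 1, 0, 10, 4, 0, 1, 1, 0, 10, 10, 1, 0, 10, 4, 5] (by decide +kernel)) F36 (mul_w G1_1 (mul_w G1_5 (mul_w G1_7 (mul_w G1_2 (mul_w G1_1 (one_w _)))))) (by decide) (by decide +kernel) [3, 1, 0, 10, 0, 1, 1, 0, 10, 10, 3, 0, 4] (by decide +kernel)) [9, 9] [2, 1, 0, 10, 1, 1, 0, 10, 10, 1, 0, 10, 0, 5, 2, 0, 1, 0, 10] (by decide +kernel))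
    loop7 rfl rfl (by decide) (by decide) (by decide +kernel)

theorem F55 : CFact g3 [7, 7, 0, 2, 7, 1, 2, 7, 1, 0, 1, 4, 2, 1, 1, 0, 10, 10, 0, 1, 1, 0, 10, 10, 4] g3 [1, 2, 7, 1, 2, 1, 1, 2, 7, 0, 1, 1, 0, 10, 10, 5, 1, 0, 10, 3, 2, 0] := CFact.rev F54 _ (by decide +kernel)

theorem F56 : CFact g3 [0, 2, 2, 7, 7, 1, 2, 7, 1, 0, 1, 0, 0, 4, 1, 1, 0, 10, 10, 4, 1, 1, 0, 10, 10] g3 [0, 1, 2, 7, 0, 2, 7, 1, 1, 0, 1, 2, 3, 4, 1, 1, 0, 10, 10, 2, 0] :=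
  deduce [[9, 9, 9, 11, 16, 1, 9, 10, 11, 16, 1, 9, 10, 11, 10, 0, 10, 10, 0, 10], [7]] [[9, 9, 16]] (wp := [0, 1, 9, 1, 1, 9, 1, 1, 11, 0, 2, 1, 2, 10, 7, 2, 10, 10, 7, 2, 1, 2])
    (stepW (stepZ (k := [0, 5, 2, 5, 5, 7, 0]) (stepW (stepZ (k := [0, 0, 7, 2, 3, 7, 6]) (start Z [7, 1, 2, 2, 1, 1, 0, 10, 10, 4, 5, 1, 1, 0, 10, 10, 1, 0, 10]) F6 (one_w _) (by decide) (by decide +kernel) [0, 0, 1, 0, 10, 3, 0, 0, 0, 0, 2] (by decide +kernel)) [9, 9, 9, 11, 16, 1, 9, 10, 11, 16, 1, 9, 10, 11, 10, 0, 10, 10, 0, 10] [0, 2, 1, 0, 7, 2, 7, 1, 2, 1, 1, 0, 10, 10, 2, 0, 0, 1, 0, 10, 0, 1, 1, 0, 10, 10, 3, 1, 0, 10, 1, 1, 0, 10, 10] (by decide +kernel)) F44 (mul_w G2_0 (mul_w G2_0 (mul_w G2_0 (mul_w G2_0 (mul_w G2_2 (mul_w G2_2 (mul_w G2_2 (one_w _)))))))) (by decide)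 (by decide +kernel) [7, 0, 1, 2, 7, 2, 0, 2, 7, 1, 1, 0, 10, 10, 1, 0, 10, 6, 0, 4, 1, 0, 10, 1, 1, 0, 10, 10, 1, 0, 10, 0] (by decide +kernel)) [7] [0, 2, 2, 7, 7, 1, 2, 7, 1, 0, 1, 0, 0, 4, 1, 1, 0, 10, 10, 4, 1, 1, 0, 10, 10] (by decide +kernel))
    (stepW (stepZ (k := [0, 5, 5, 4, 7, 5, 6, 3, 5, 7]) (stepW (start Z [7, 1, 2, 2, 1, 1, 0, 10, 10, 4, 5, 1, 1, 0, 10, 10, 1, 0, 10]) [7, 0, 0] [1, 2, 0, 1, 0, 7, 2, 7, 0, 1, 2, 0, 1, 1, 0, 10, 10, 1, 0, 10, 0, 1, 1, 0, 10, 10, 3, 0, 0] (by decide +kernel)) F36 (mul_w G1_2 (mul_w G1_7 (mul_w G1_2 (mul_w G1_3 (one_w _))))) (by decide) (by decide +kernel) [1, 1, 0, 10, 10, 1, 0, 10, 0, 5, 1, 0, 10, 0, 2, 1, 1, 0, 10, 10, 0] (by decide +kernel)) [9, 9] [2, 1, 1, 0, 10, 10, 0, 1, 0, 10, 1, 1, 0, 10, 10, 5, 0, 5]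 (by decide +kernel))
    loop7 rfl rfl (by decide) (by decide) (by decide +kernel)

theorem F57 : CFact g3 [0, 1, 2, 7, 0, 2, 7, 1, 1, 0, 1, 2, 3, 4, 1, 1, 0, 10, 10, 2, 0] g3 [0, 2, 2, 7, 7, 1, 2, 7, 1, 0, 1, 0, 0, 4, 1, 1, 0, 10, 10, 4, 0, 0, 1, 1, 0, 10, 10] := CFact.rev F56 _ (by decide +kernel)

theorem F58 : CFact g3 [2, 0, 2, 7, 2, 1, 1, 0, 2, 7, 1, 0, 1, 2, 0, 0, 2, 1, 1, 0, 10, 10, 2, 5] g3 [7, 2, 1, 0, 0, 2, 0, 2, 7, 1, 0, 1, 1, 0, 10, 0, 4, 0, 0, 0, 0, 1, 0, 10] :=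
  deduce [[0, 1, 9, 1, 1, 9, 1, 1, 11, 0, 2, 1, 2, 10, 7, 2, 10, 10, 7, 2, 1, 2], [9, 9, 16]] [[7]] (wp := [9, 9, 9, 11, 16, 1, 9, 10, 11, 16, 1, 9, 10, 11, 10, 0, 10, 10, 0, 10])
    (stepW (stepZ (k := [1, 5, 6, 2, 7, 3, 5, 3]) (stepW (stepZ (k := [4, 5, 7, 1, 2, 5, 6]) (start Z [7, 1, 6, 0, 1, 1, 0, 10, 10, 3, 4, 0, 1, 0, 10]) F6 (one_w _) (by decide) (by decide +kernel) [2, 5, 0, 1, 1, 0, 10, 10, 2, 0, 1, 0, 10] (by decide +kernel)) [0, 1, 9, 1, 1, 9, 1, 1, 11, 0, 2, 1, 2, 10, 7, 2, 10, 10, 7, 2, 1, 2] [0, 1, 2, 1, 0, 7, 2, 7, 1, 0, 10, 1, 1, 0, 10, 10, 0, 1, 0, 10, 5, 2, 2, 1, 1, 0, 10, 10] (by decide +kernel)) F41 (mul_w G2_0 (mul_w G2_0 (mul_w G2_1 (mul_w G2_1 (mul_w G2_2 (mul_w G2_2 (mul_w G2_1 (mul_w G2_0 (one_w _))))))))) (by decide) (by decide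 +kernel) [2, 2, 2, 2, 7, 2, 0, 2, 2, 7, 0, 1, 6, 0, 1, 0, 10, 2, 1, 0, 10, 3, 1, 1, 0, 10, 10, 1, 0, 10] (by decide +kernel)) [9, 9, 16] [2, 0, 2, 7, 2, 1, 1, 0, 2, 7, 1, 0, 1, 2, 0, 0, 2, 1, 1, 0, 10, 10, 2, 5] (by decide +kernel))
    (stepW (stepZ (k := [0, 1, 5, 5, 0, 7, 5]) (stepW (start Z [7, 1, 6, 0, 1, 1, 0, 10, 10, 3, 4, 0, 1, 0, 10]) [16] [2, 1, 0, 7, 0, 2, 0, 2, 7, 0, 1, 2, 4, 4, 6, 1, 1, 0, 10, 10, 0, 1, 1, 0, 10, 10] (by decide +kernel)) F36 (mul_w G1_7 (mul_w G1_2 (mul_w G1_2 (mul_w G1_0 (mul_w G1_0 (one_w _)))))) (by decide) (by decide +kernel) [4, 0, 5, 0, 1, 1, 0, 10, 10, 0, 4] (by decide +kernel)) [9, 9] [1, 1, 0, 10, 10, 2, 2, 4, 0] (by decide +kernel))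
    loop9 rfl rfl (by decide) (by decide) (by decide +kernel)

theorem F59 : CFact g3 [7, 2, 1, 0, 0, 2, 0, 2, 7, 1, 0, 1, 1, 0, 10, 0, 4, 0, 0, 0, 0, 1, 0, 10] g3 [2, 0, 2, 7, 2, 1, 1, 0, 2, 7, 1, 0, 1, 6, 1, 0, 10, 2, 1, 0, 10, 1, 1, 0, 10, 10, 0, 4, 0] := CFact.rev F58 _ (by decide +kernel)

theorem F60 : CFact g3 [0, 0, 2, 0, 1, 1, 1, 2, 7, 0, 1, 5, 4, 4, 0, 5] g3 [7, 1, 2, 1, 2, 2, 7, 1, 0, 1, 4, 1, 0, 10, 2, 4, 4, 1, 1, 0, 10, 10] :=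
  deduce [[0, 10, 10, 9, 2, 1, 11, 1, 9, 11, 11, 7, 2, 0, 2, 9, 2, 10, 16], [9, 9, 11, 10, 11, 16, 1, 1, 11, 16, 10, 11, 10, 10, 11, 1, 0, 1, 1, 0, 1, 9, 10]] [[1, 0, 10, 9, 10, 10, 9, 10, 2, 1, 1, 2, 1, 7, 2, 10, 10, 7, 2, 1, 2]] (wp := [9, 9, 16, 0, 2, 1, 2, 9, 11, 16, 0, 10, 9, 2, 9, 10, 10, 9, 1, 9])
    (stepW (stepZ (k := [5, 6, 5, 7, 2, 5, 6, 1, 5, 6]) (stepW (stepZ (k := [2, 7, 6, 5, 3, 7, 2]) (start Z [7, 1, 4, 1, 1, 0, 10, 10, 1, 0, 10, 0, 5, 1, 1, 0, 10, 10, 4]) F6 (one_w _) (by decide) (by decide +kernel) [2, 2, 1, 1, 0, 10, 10, 1, 0, 10, 0, 1, 1, 0, 10, 10, 5] (by decide +kernel)) [0, 10, 10, 9, 2, 1, 11, 1, 9, 11, 11, 7, 2, 0, 2, 9, 2, 10, 16] [1, 0, 7, 2, 1, 0, 2, 0, 2, 7, 1, 0, 1, 0, 2, 1, 0, 10, 1, 1, 0, 10, 10, 2, 1, 0, 10, 1, 1, 0, 10,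 10] (by decide +kernel)) F48 (mul_w G2_1 (mul_w G2_0 (mul_w G2_1 (mul_w G2_1 (mul_w G2_2 (mul_w G2_2 (mul_w G2_2 (one_w _)))))))) (by decide) (by decide +kernel) [1, 1, 1, 1, 0, 2, 1, 1, 2, 7, 5, 0, 1, 0, 10, 0, 5, 0, 1, 1, 0, 10, 10, 0, 1, 0, 10, 0] (by decide +kernel)) [9, 9, 11, 10, 11, 16, 1, 1, 11, 16, 10, 11, 10, 10, 11, 1, 0, 1, 1, 0, 1, 9, 10] [0, 0, 2, 0, 1, 1, 1, 2, 7, 0, 1, 5, 4, 4, 0, 5] (by decide +kernel))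
    (stepW (stepZ (k := [5, 5, 4, 5, 6, 7, 0, 7]) (stepW (start Z [7, 1, 4, 1, 1, 0, 10, 10, 1, 0, 10, 0, 5, 1, 1, 0, 10, 10, 4]) [11, 10, 11, 16, 1, 1, 11, 16, 10, 11, 10, 10, 11, 1, 0, 1, 1, 0, 1, 9, 10] [7, 2, 2, 7, 1, 1, 0, 2, 7, 1, 4, 4, 4, 0, 1, 0, 10, 0, 1, 1, 0, 10, 10] (by decide +kernel)) F36 (mul_w G1_4 (mul_w G1_5 (mul_w G1_2 (mul_w G1_6 (mul_w G1_1 (one_w _)))))) (by decide) (by decide +kernel) [0, 0, 1, 0, 10, 5, 1, 0, 10, 0, 4, 1, 0, 10] (by decide +kernel)) [9, 9] [0, 4, 1, 0, 10, 5, 1, 0, 10, 3, 1, 0, 10] (by decide +kernel))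
    loop11 rfl rfl (by decide) (by decide) (by decide +kernel)

theorem F61 : CFact g3 [7, 1, 2, 1, 2, 2, 7, 1, 0, 1, 4, 1, 0, 10, 2, 4, 4, 1, 1, 0, 10, 10] g3 [0, 0, 2, 0, 1, 1, 1, 2, 7, 0, 1, 3, 5, 1, 0, 10, 2, 3, 1, 0, 10, 0] := CFact.rev F60 _ (by decide +kernel)

theorem F62 : CFact g3 [1, 1, 0, 1, 1, 0, 10, 0, 1, 1, 0, 10, 10, 1, 0, 10] g3 [1, 5, 0, 0, 0, 0, 2, 0, 1, 0, 10] :=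
  deduce [[10, 10, 0, 1, 1]] [[0, 0, 10, 10, 0, 1, 1]] (wp := [10, 10, 0, 1, 1])
    (stepW (stepZ (k := []) (start Z [7, 2, 7]) F36 (one_w _) (by decide) (by decide +kernel) [] (by decide +kernel)) [10, 10, 0, 1, 1] [1, 1, 0, 1, 1, 0, 10, 0, 1, 1, 0, 10, 10, 1, 0, 10] (by decide +kernel))
    (stepW (stepZ (k := [5, 3, 4, 6, 5, 7, 6, 1]) (stepW (start Z [7, 2, 7]) [10, 10, 9, 1, 1, 9, 9] [7, 2, 7, 1, 1, 0, 1, 1, 0, 10, 1, 1, 0, 10, 10, 0, 1, 0, 10] (by decide +kernel)) F36 (mul_w G1_0 (mul_w G1_0 (mul_w G1_2 (mul_w G1_0 (mul_w G1_2 (one_w _)))))) (by decide) (by decide +kernel) [6, 0, 4, 1, 0, 10, 1, 1, 0, 10, 10, 0, 1, 0, 10] (by decide +kernel)) [9, 9] [6, 0, 4, 0, 0, 1, 0, 10, 0, 1, 1, 0, 10, 10, 1, 0, 10] (by decide +kernel))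
    loop0 rfl rfl (by decide) (by decide) (by decide +kernel)

theorem F63 : CFact g3 [1, 5, 0, 0, 0, 0, 2, 0, 1, 0, 10] g3 [1, 1, 0, 1, 0, 0, 1, 0, 10, 0, 1, 1, 0, 10, 10, 1, 0, 10] := CFact.rev F62 _ (by decide +kernel)

/-- A representative. -/
noncomputable def g4 : L := Z * ev [7] * Z

theorem F64 : CFact Z [7] g4 [] := CFact.ofDef rfl

theorem G4_0 : ev [9, 9, 9, 9, 9, 9, 9, 9, 9, 1, 9, 10, 9, 9, 0, 1, 1, 0, 10, 10, 9, 9, 9, 9, 1, 9, 10, 9, 9, 9, 9, 9] ∈ X g4 :=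
  gen_def (k := [5, 5, 5, 6, 7, 5, 6, 5]) (gj := g4) rfl (mul_w G1_5 (mul_w G1_5 (mul_w G1_5 (mul_w G1_6 (mul_w G1_7 (mul_w G1_5 (mul_w G1_6 (mul_w G1_5 (one_w _))))))))) (by decide) (by decide +kernel)

theorem G4_1 : ev [9, 9, 9, 9, 9, 9, 9, 9, 9, 9, 9, 9, 0, 1, 1, 0, 10, 10, 9] ∈ X g4 :=
  gen_def (k := [5, 5, 5, 5, 7]) (gj := g4) rfl (mul_w G1_5 (mul_w G1_5 (mul_w G1_7 (one_w _)))) (by decide) (by decide +kernel)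

theorem G4_2 : ev [9, 9, 9, 1, 9, 10, 9, 9, 9, 9, 9, 0, 1, 1, 0, 10, 10, 9, 9, 9, 9] ∈ X g4 :=
  gen_def (k := [5, 6, 5, 7, 5]) (gj := g4) rfl (mul_w G1_5 (mul_w G1_5 (mul_w G1_5 (mul_w G1_5 (mul_w G1_5 (mul_w G1_6 (mul_w G1_7 (one_w _)))))))) (by decide) (by decide +kernel)

theorem F65 : CFact g4 [] Z [7, 0, 0] := CFact.rev F64 _ (by decide +kernel)

theorem G4_3 : ev [2, 1, 2, 7, 1, 1, 1, 2, 7, 1, 0, 4, 4, 0, 1, 0, 10, 1, 1, 0, 10, 10, 1, 0, 10, 3] ∈ X g4 :=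
  gen_of
    (stepW (stepZ (k := []) (stepW (stepBase (stepW (stepZ (k := []) (start Z []) F1 (one_w _) (by decide) (by decide +kernel) [] (by decide +kernel)) [9, 9, 9, 11, 16, 1, 9, 10, 11, 16, 1, 9, 10, 11, 10, 0, 10, 10, 0, 10] [2, 1, 2, 7, 1, 1, 1, 2, 7, 1, 6, 1, 1, 0, 10, 10, 3, 0, 1, 0, 10, 0, 1, 1, 0, 10, 10, 4, 1, 0, 10] (by decide +kernel)) (by decide +kernel)) [7] [7] (by decide +kernel)) F64 (one_w _) (by decide) (by decide +kernel) [] (by decide +kernel)) [0, 1, 9, 1, 1, 9, 1, 1, 11, 0, 2, 1, 2, 10, 7, 2, 10, 10, 7, 2, 1, 2] [2, 1, 2, 7, 1, 1, 1, 2, 7, 1, 0, 4, 4, 0, 1, 0, 10, 1, 1, 0, 10, 10, 1, 0, 10, 3] (by decide +kernel))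
    (stepW (stepZ (k := [5, 5]) (stepW (start Z []) [7, 0, 0] [7, 0, 0] (by decide +kernel)) F64 (one_w _) (by decide) (by decide +kernel) [0, 0] (by decide +kernel)) [9, 9] [] (by decide +kernel))
    (closed [[9, 9, 9, 11, 16, 1, 9, 10, 11, 16, 1, 9, 10, 11, 10, 0, 10, 10, 0, 10], [7], [0, 1, 9, 1, 1, 9, 1, 1, 11, 0, 2, 1, 2, 10, 7, 2, 10, 10, 7, 2, 1, 2]] [[9, 9, 16]] loop7 rfl rfl (by decide)) (by decide +kernel) (by decide +kernel)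

theorem F66 : CFact g4 [7, 1, 2, 1, 2, 2, 0, 2, 7, 1, 0, 1, 2, 0, 5, 4, 0, 1, 1, 0, 10, 10, 0, 1, 0, 10, 1, 1, 0, 10, 10] g4 [7, 2, 1, 1, 2, 0, 1, 2, 7, 0, 1, 5, 1, 0, 10, 2, 1, 1, 0, 10, 10, 0, 1, 0, 10, 5] :=
  deduce [[1, 7], [1, 1, 9, 10, 9, 1, 1, 11, 0, 2, 9, 11, 7, 11, 1, 1, 9, 2, 1]] [[9, 9, 11, 9, 2, 1, 11, 16, 2, 9, 2, 0, 2, 10, 9, 10, 9, 1]] (wp := [9, 9, 16, 10])
    (stepW (stepZ (k := [5, 7, 5, 6]) (stepW (stepZ (k := [4, 7, 6, 5, 3, 7]) (start Z [1, 0, 1, 1, 0, 10, 10, 6, 0, 1, 0, 10, 0, 5, 1, 1, 0, 10, 10]) F2 (mul_w G1_5 (mul_w G1_5 (mul_w G1_5 (mul_w G1_6 (mul_w G1_7 (one_w _)))))) (by decide) (by decide +kernel) [1, 1, 0, 1, 1, 1, 0, 10, 10, 0, 5, 5, 1, 1, 0, 10, 10, 6, 1, 0, 10] (by decide +kernel)) [1, 7] [2, 7, 2, 1, 2, 1, 1, 1, 2,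 7, 1, 1, 0, 10, 10, 2, 1, 0, 10, 3, 0, 0, 1, 1, 0, 10, 10] (by decide +kernel)) F64 (mul_w G1_1 (mul_w G1_4 (mul_w G1_7 (mul_w G1_1 (mul_w G1_3 (mul_w G1_2 (one_w _))))))) (by decide) (by decide +kernel) [0, 1, 1, 0, 10, 10, 0, 1, 0, 10] (by decide +kernel)) [1, 1, 9, 10, 9, 1, 1, 11, 0, 2, 9, 11, 7, 11, 1, 1, 9, 2, 1] [7, 1, 2, 1, 2, 2, 0, 2, 7, 1, 0, 1, 2, 0, 5, 4, 0, 1, 1, 0, 10, 10, 0, 1, 0, 10, 1, 1, 0, 10, 10] (by decide +kernel))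
    (stepW (stepZ (k := [3, 5, 7, 1, 3, 5, 0]) (stepW (start Z [1, 0, 1, 1, 0, 10, 10, 6, 0, 1, 0, 10, 0, 5, 1, 1, 0, 10, 10]) [10, 0, 1, 0, 1, 11, 9, 11, 0, 11, 7, 2, 10, 11, 0, 2, 0, 0] [2, 7, 0, 2, 0, 1, 1, 2, 7, 1, 0, 1, 0, 0, 0, 0, 4, 2, 0, 1, 0, 10] (by decide +kernel)) F64 (mul_w G1_0 (mul_w G1_0 (mul_w G1_0 (mul_w G1_3 (mul_w G1_0 (one_w _)))))) (by decide) (by decide +kernel) [1, 1, 0, 10, 10, 2, 0, 5, 4, 0] (by decide +kernel)) [9, 9] [2, 2, 2, 3, 6, 1, 1, 0, 10, 10, 5] (by decide +kernel))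
    loop14 rfl rfl (by decide) (by decide) (by decide +kernel)

theorem F67 : CFact g4 [7, 2, 1, 1, 2, 0, 1, 2, 7, 0, 1, 5, 1, 0, 10, 2, 1, 1, 0, 10, 10, 0, 1, 0, 10, 5] g4 [7, 1, 2, 1, 2, 2, 0, 2, 7, 1, 0, 1, 2, 0, 5, 4, 1, 0, 10, 1, 1, 0, 10, 10, 1, 0, 10] := CFact.rev F66 _ (by decide +kernel)

theorem F68 : CFact g4 [1, 1, 0, 1, 1, 0, 10, 0, 1, 1, 0, 10, 10, 1, 0, 10] g2 [1, 1, 0, 1, 1, 0, 10, 0, 1, 1, 0, 10, 10, 1, 0, 10] :=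
  deduce [[10, 10, 0, 1, 1]] [[0, 0, 10, 10, 0, 1, 1]] (wp := [10, 10, 0, 1, 1])
    (stepW (stepZ (k := []) (start Z [7]) F64 (one_w _) (by decide) (by decide +kernel) [] (by decide +kernel)) [10, 10, 0, 1, 1] [1, 1, 0, 1, 1, 0, 10, 0, 1, 1, 0, 10, 10, 1, 0, 10] (by decide +kernel))
    (stepW (stepZ (k := [5, 5, 5, 5]) (stepW (start Z [7]) [10, 10, 9, 1, 1, 9, 9] [7, 1, 1, 0, 1, 1, 0, 10, 1, 1, 0, 10, 10, 0, 1, 0, 10] (by decide +kernel)) F6 (mul_w G1_7 (mul_w G1_6 (mul_w G1_5 (one_w _)))) (by decide) (by decide +kernel) [0, 0, 0, 0] (by decide +kernel)) [9, 9] [0, 0] (by decide +kernel))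
    loop0 rfl rfl (by decide) (by decide) (by decide +kernel)

theorem F69 : CFact g2 [1, 1, 0, 1, 1, 0, 10, 0, 1, 1, 0, 10, 10, 1, 0, 10] g4 [1, 1, 0, 1, 0, 0, 1, 0, 10, 0, 1, 1, 0, 10, 10, 1, 0, 10] := CFact.rev F68 _ (by decide +kernel)

theorem F70 : CFact g4 [7, 0, 2, 1, 2, 0, 7, 2, 7, 0, 2, 7, 1, 1, 1, 0, 10, 10, 1, 0, 10, 3, 1, 1, 0, 10, 10, 5, 1, 0, 10, 0] g2 [7, 2, 1, 2, 0, 7, 2, 7, 0, 2, 7, 1, 3, 1, 0, 10, 1, 1, 0, 10, 10, 2, 6, 0, 1, 0, 10, 5] :=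
  deduce [[9, 7, 10, 11, 9, 1, 11, 16, 1, 11, 10, 9, 11, 0, 10, 0, 1, 0, 10]] [[11, 16, 9, 11, 9, 1, 11, 16]] (wp := [9, 11, 16, 0, 11, 10, 0, 11, 16, 9, 11, 0, 2, 10, 10, 11, 10, 9, 10, 10])
    (stepW (stepZ (k := []) (start Z [7]) F64 (one_w _) (by decide) (by decide +kernel) [] (by decide +kernel)) [9, 7, 10, 11, 9, 1, 11, 16, 1, 11, 10, 9, 11, 0, 10, 0, 1, 0, 10] [7, 0, 2, 1, 2, 0, 7, 2, 7, 0, 2, 7, 1, 1, 1, 0, 10, 10, 1, 0, 10, 3, 1, 1, 0, 10, 10, 5, 1, 0, 10, 0] (by decide +kernel))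
    (stepW (stepZ (k := [5, 5, 7, 6, 5, 0]) (stepW (start Z [7]) [7, 2, 10, 0, 2, 0, 7, 2] [2, 2, 0, 1, 2, 7, 1, 0, 1, 0, 0, 1, 1, 0, 10, 10, 0, 1, 0, 10, 1, 1, 0, 10, 10, 2] (by decide +kernel)) F6 (mul_w G1_7 (mul_w G1_1 (mul_w G1_6 (mul_w G1_5 (one_w _))))) (by decide) (by decide +kernel) [0, 4, 1, 1, 0, 10, 10, 6, 0, 4, 1, 0, 10, 0] (by decide +kernel)) [9, 9] [1, 0, 10, 3, 0, 1, 1, 0, 10, 10, 0, 1, 0, 10, 0, 5, 1, 1, 0, 10, 10] (by decide +kernel))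
    loop3 rfl rfl (by decide) (by decide) (by decide +kernel)

theorem F71 : CFact g2 [7, 2, 1, 2, 0, 7, 2, 7, 0, 2, 7, 1, 3, 1, 0, 10, 1, 1, 0, 10, 10, 2, 6, 0, 1, 0, 10, 5] g4 [7, 0, 2, 1, 2, 0, 7, 2, 7, 0, 2, 7, 1, 1, 0, 10, 0, 2, 5, 5, 1, 1, 0, 10, 10] := CFact.rev F70 _ (by decide +kernel)

theorem F72 : CFact g4 [0, 1, 0, 7, 1, 1, 2, 2, 0, 1, 2, 7, 3, 5, 1, 0, 10, 2, 3, 2] g3 [7, 2, 1, 2, 7, 1, 1, 1, 2, 7, 1, 0, 1, 1, 0, 10, 0, 5, 0, 0, 1, 0, 10, 0, 5] :=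
  deduce [[9, 7, 10, 11, 9, 1, 11, 16, 1, 11, 10, 9, 11, 0, 10, 0, 1, 0, 10]] [[11, 16, 9, 11, 9, 1, 11, 16]] (wp := [9, 11, 16, 0, 11, 10, 0, 11, 16, 9, 11, 0, 2, 10, 10, 11, 10, 9, 10, 10])
    (stepW (stepZ (k := [5, 6, 5, 7, 3, 6, 3, 7, 5, 7]) (start Z [7, 0, 1, 0, 10, 0, 1, 1, 0, 10, 10, 5, 1, 0, 10, 5, 1, 1, 0, 10, 10, 0, 1, 1, 0, 10, 10]) F64 (one_w _) (by decide) (by decide +kernel) [0, 0, 0, 1, 0, 10, 1, 1, 0, 10, 10, 0, 1, 0, 10, 0, 4, 5] (by decide +kernel)) [9, 7, 10, 11, 9, 1, 11, 16, 1, 11, 10, 9, 11, 0, 10, 0, 1, 0, 10] [0, 1, 0, 7, 1, 1, 2, 2, 0, 1, 2, 7, 3, 5, 1, 0, 10, 2, 3, 2] (by decide +kernel))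
    (stepW (stepZ (k := [6, 1, 1, 7, 0, 5, 6]) (stepW (start Z [7, 0, 1, 0, 10, 0, 1, 1, 0, 10, 10, 5, 1, 0, 10, 5, 1, 1, 0, 10, 10, 0, 1, 1, 0, 10, 10]) [7, 2, 10, 0, 2, 0, 7, 2] [1, 2, 1, 2, 7, 1, 1, 1, 2, 7, 1, 0, 1, 0, 0, 2, 1, 0, 10, 0, 1, 1, 0, 10, 10, 1, 0, 10, 3, 1, 1, 0, 10, 10, 0] (by decide +kernel)) F36 (mul_w G1_5 (mul_w G1_2 (mul_w G1_3 (mul_w G1_5 (mul_w G1_0 (one_w _)))))) (by decide) (by decide +kernel) [2, 4, 2, 5, 1, 0, 10, 1, 1, 0, 10, 10, 0, 1, 0, 10] (by decide +kernel)) [9, 9] [2, 3, 0, 1, 0, 10, 2, 0, 1, 0, 10, 1, 1, 0, 10, 10, 1, 0, 10] (by decide +kernel))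
    loop3 rfl rfl (by decide) (by decide) (by decide +kernel)

theorem F73 : CFact g3 [7, 2, 1, 2, 7, 1, 1, 1, 2, 7, 1, 0, 1, 1, 0, 10, 0, 5, 0, 0, 1, 0, 10, 0, 5] g4 [0, 1, 0, 7, 1, 1, 2, 2, 0, 1, 2, 7, 1, 1, 0, 10, 10, 2, 2, 1, 1, 0, 10, 10, 1, 0, 10, 3] := CFact.rev F72 _ (by decide +kernel)

theorem F74 : CFact g4 [0, 2, 7, 0, 2, 2, 0, 1, 2, 7, 0, 1, 1, 0, 10, 10, 1, 0, 10, 4, 3, 0, 5, 1, 1, 0, 10, 10] g4 [0, 2, 7, 0, 2, 2, 0, 1, 2, 7, 1, 1, 0, 1, 4, 4, 1, 0, 10, 1, 1, 0, 10, 10, 0, 2, 1, 0, 10, 0] :=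
  deduce [[9, 7, 10, 11, 9, 1, 11, 16, 1, 11, 10, 9, 11, 0, 10, 0, 1, 0, 10]] [[11, 16, 9, 11, 9, 1, 11, 16]] (wp := [9, 11, 16, 0, 11, 10, 0, 11, 16, 9, 11, 0, 2, 10, 10, 11, 10, 9, 10, 10])
    (stepW (stepZ (k := [3, 5, 5, 5, 2, 5, 6, 2]) (start Z [7, 5, 0, 0, 0, 4, 0, 1, 0, 10, 4]) F64 (one_w _) (by decide) (by decide +kernel) [3, 4, 4, 1, 0, 10, 2, 3] (by decide +kernel)) [9, 7, 10, 11, 9, 1, 11, 16, 1, 11, 10, 9, 11, 0, 10, 0, 1, 0, 10] [0, 2, 7, 0, 2, 2, 0, 1, 2, 7, 0, 1, 1, 0, 10, 10, 1, 0, 10, 4, 3, 0, 5, 1, 1, 0, 10, 10] (by decide +kernel))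
    (stepW (stepZ (k := [1, 7, 1, 5, 3, 6, 0, 7]) (stepW (start Z [7, 5, 0, 0, 0, 4, 0, 1, 0, 10, 4]) [7, 2, 10, 0, 2, 0, 7, 2] [2, 7, 0, 2, 0, 1, 1, 1, 2, 7, 0, 1, 0, 4, 2, 0, 0, 0, 0, 0, 1, 0, 10] (by decide +kernel)) F64 (mul_w G1_0 (one_w _)) (by decide) (by decide +kernel) [2, 2, 5, 1, 1, 0, 10, 10, 0, 1, 0, 10, 1, 1, 0, 10, 10, 4] (by decide +kernel)) [9, 9] [0, 1, 1, 0, 10, 10, 4, 1, 0, 10, 1, 1, 0, 10, 10, 1, 0, 10, 4, 1, 0, 10] (by decide +kernel))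
    loop3 rfl rfl (by decide) (by decide) (by decide +kernel)

theorem F75 : CFact g4 [0, 2, 7, 0, 2, 2, 0, 1, 2, 7, 1, 1, 0, 1, 4, 4, 1, 0, 10, 1, 1, 0, 10, 10, 0, 2, 1, 0, 10, 0] g4 [0, 2, 7, 0, 2, 2, 0, 1, 2, 7, 0, 0, 1, 1, 0, 10, 10, 0, 1, 0, 10, 3, 1, 1, 0, 10, 10, 2, 0] := CFact.rev F74 _ (by decide +kernel)

theorem F76 : CFact g4 [7, 2, 1, 1, 2, 0, 2, 7, 2, 7, 1, 1, 0, 10, 3, 1, 1, 0, 10, 10, 0, 5, 0, 0, 1, 0, 10, 1, 1, 0, 10, 10] g3 [0, 2, 7, 0, 2, 2, 0, 1, 2, 7, 1, 0, 1, 0, 1, 0, 10, 1, 1, 0, 10, 10, 4, 0, 1, 0, 10, 1, 1, 0, 10, 10, 2, 3] :=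
  deduce [[9, 7, 10, 11, 9, 1, 11, 16, 1, 11, 10, 9, 11, 0, 10, 0, 1, 0, 10]] [[11, 16, 9, 11, 9, 1, 11, 16]] (wp := [9, 11, 16, 0, 11, 10, 0, 11, 16, 9, 11, 0, 2, 10, 10, 11, 10, 9, 10, 10])
    (stepW (stepZ (k := [7, 6, 3, 2, 5, 7, 5]) (start Z [7, 1, 1, 0, 10, 10, 1, 0, 10, 5, 4, 0, 1, 1, 0, 10, 10, 0]) F64 (one_w _) (by decide) (by decide +kernel) [3, 1, 0, 10, 0, 4, 0, 5, 1, 1, 0, 10, 10, 1, 0, 10] (by decide +kernel)) [9, 7, 10, 11, 9, 1, 11, 16, 1, 11, 10, 9, 11, 0, 10, 0, 1, 0, 10] [7, 2, 1, 1, 2, 0, 2, 7, 2, 7, 1, 1, 0, 10, 3, 1, 1, 0, 10, 10, 0, 5, 0, 0, 1, 0, 10, 1, 1, 0, 10, 10] (by decide +kernel))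
    (stepW (stepZ (k := [6, 7, 5, 0, 6, 5, 3, 5, 5]) (stepW (start Z [7, 1, 1, 0, 10, 10, 1, 0, 10, 5, 4, 0, 1, 1, 0, 10, 10, 0]) [7, 2, 10, 0, 2, 0, 7, 2] [2, 0, 2, 0, 7, 1, 1, 2, 7, 1, 1, 0, 1, 2, 5, 0, 5, 1, 0, 10, 1, 1, 0, 10, 10, 0, 1, 1, 0, 10, 10] (by decide +kernel)) F36 (mul_w G1_6 (mul_w G1_3 (mul_w G1_5 (mul_w G1_0 (one_w _))))) (by decide) (by decide +kernel) [2, 1, 1, 0, 10, 10, 1, 0, 10, 5, 0, 1, 1, 0, 10, 10, 0, 4, 0, 1, 0, 10] (by decide +kernel)) [9, 9] [6, 1, 1, 0, 10, 10, 1, 0, 10, 0, 1, 1, 0, 10, 10, 4, 1, 0, 10, 4] (by decide +kernel))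
    loop3 rfl rfl (by decide) (by decide) (by decide +kernel)

theorem F77 : CFact g3 [0, 2, 7, 0, 2, 2, 0, 1, 2, 7, 1, 0, 1, 0, 1, 0, 10, 1, 1, 0, 10, 10, 4, 0, 1, 0, 10, 1, 1, 0, 10, 10, 2, 3] g4 [7, 2, 1, 1, 2, 0, 2, 7, 2, 7, 1, 4, 4, 0, 1, 0, 10, 0, 4, 1, 1, 0, 10, 10, 1, 0, 10] := CFact.rev F76 _ (by decide +kernel)

theorem F78 : CFact g4 [2, 0, 1, 2, 0, 1, 1, 2, 7, 0, 1, 0, 0, 1, 1, 0, 10, 10, 1, 0, 10, 0, 1, 1, 0, 10, 10] g2 [7, 1, 1, 2, 1, 2, 1, 2, 7, 1, 1, 0, 10, 10, 2, 0, 5, 4, 1, 0, 10, 4] :=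
  deduce [[9, 9, 16]] [[7], [0, 1, 9, 1, 1, 9, 1, 1, 11, 0, 2, 1, 2, 10, 7, 2, 10, 10, 7, 2, 1, 2]] (wp := [9, 9, 9, 11, 16, 1, 9, 10, 11, 16, 1, 9, 10, 11, 10, 0, 10, 10, 0, 10])
    (stepW (stepZ (k := [0, 7, 1, 6, 2, 5, 5, 7]) (start Z [7, 2, 1, 1, 0, 10, 10, 3, 1, 0, 10, 4, 0, 0, 1, 1, 0, 10, 10]) F64 (one_w _) (by decide) (by decide +kernel) [1, 0, 10, 2, 3, 0, 1, 1, 0, 10, 10, 0, 1, 0, 10, 2] (by decide +kernel)) [9, 9, 16] [2, 0, 1, 2, 0, 1, 1, 2, 7, 0, 1, 0, 0, 1, 1, 0, 10, 10, 1, 0, 10, 0, 1, 1, 0, 10, 10] (by decide +kernel))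
    (stepW (stepZ (k := [5, 6, 7, 0, 5, 5, 2, 5, 5]) (stepW (stepW (stepZ (k := [0, 7, 1, 6, 5, 7, 6, 1]) (stepW (start Z [7, 2, 1, 1, 0, 10, 10, 3, 1, 0, 10, 4, 0, 0, 1, 1, 0, 10, 10]) [11, 10, 11, 16, 1, 1, 11, 16, 1, 11, 10, 11, 9, 2, 10, 10, 0, 10, 10, 0, 10, 9] [1, 0, 1, 0, 2, 7, 0, 1, 2, 4, 0, 1, 1, 0, 10, 10, 1, 0, 10, 4, 1, 1, 0, 10, 10] (by decide +kernel)) F6 (mul_w G1_5 (mul_w G1_7 (mul_w G1_2 (one_w _)))) (by decide) (by decide +kernel) [2, 4, 1, 0, 10, 1, 1, 0, 10, 10, 0, 1, 0, 10, 3, 0] (by decide +kernel)) [9, 9] [1, 1, 0, 10, 10, 1, 0, 10, 0, 1, 1, 0, 10, 10, 4, 1, 1, 0, 10, 10, 5, 1, 1, 0, 10, 10, 1, 0, 10] (by decide +kernel)) [16] [2, 1, 1, 1, 1, 2, 1, 0, 2, 7, 0, 1, 0, 10, 0, 1, 1, 0, 10, 10, 1, 0, 10, 0] (by decide +kernel)) F13 (mul_w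 G2_1 (mul_w G2_2 (mul_w G2_1 (mul_w G2_2 (mul_w G2_1 (one_w _)))))) (by decide) (by decide +kernel) [7, 0, 2, 0, 2, 0, 2, 1, 2, 7, 0, 1, 0, 2, 6, 0, 5, 1, 0, 10, 1, 1, 0, 10, 10] (by decide +kernel)) [9, 9] [7, 0, 2, 0, 2, 0, 2, 1, 2, 7, 0, 1, 2, 5, 4, 4, 1, 0, 10, 3, 1, 1, 0, 10, 10] (by decide +kernel))
    loop6 rfl rfl (by decide) (by decide) (by decide +kernel)

theorem F79 : CFact g2 [7, 1, 1, 2, 1, 2, 1, 2, 7, 1, 1, 0, 10, 10, 2, 0, 5, 4, 1, 0, 10, 4] g4 [2, 0, 1, 2, 0, 1, 1, 2, 7, 0, 1, 1, 0, 10, 1, 1, 0, 10, 10, 1, 0, 10, 0] := CFact.rev F78 _ (by decide +kernel)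

theorem F80 : CFact g4 [2, 1, 2, 1, 0, 1, 0, 2, 7, 1, 0, 0, 1, 0, 10, 1, 1, 0, 10, 10, 0] g3 [2, 0, 1, 1, 2, 0, 2, 0, 2, 7, 0, 1, 3, 6, 1, 0, 10, 1, 1, 0, 10, 10, 1, 0, 10, 0, 5, 0] :=
  deduce [[9, 9, 16]] [[7], [0, 1, 9, 1, 1, 9, 1, 1, 11, 0, 2, 1, 2, 10, 7, 2, 10, 10, 7, 2, 1, 2]] (wp := [9, 9, 9, 11, 16, 1, 9, 10, 11, 16, 1, 9, 10, 11, 10, 0, 10, 10, 0, 10])
    (stepW (stepZ (k := [0, 2, 5, 6, 0, 7, 2]) (start Z [7, 2, 4, 0, 1, 0, 10, 2, 1, 1, 0, 10, 10, 4]) F64 (one_w _) (by decide) (by decide +kernel) [2, 5, 0, 1, 1, 0, 10, 10, 1, 0, 10, 0, 5, 0, 1, 1, 0, 10, 10, 1, 0, 10] (by decide +kernel)) [9, 9, 16] [2, 1, 2, 1, 0, 1, 0, 2, 7, 1, 0, 0, 1, 0, 10, 1, 1, 0, 10, 10, 0] (by decide +kernel))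
    (stepW (stepZ (k := [1, 2, 5, 5, 6, 7, 0, 5, 6]) (stepW (stepW (stepZ (k := [6, 1, 7, 3, 6, 2]) (stepW (start Z [7, 2, 4, 0, 1, 0, 10, 2, 1, 1, 0, 10, 10, 4]) [11, 10, 11, 16, 1, 1, 11, 16, 1, 11, 10, 11, 9, 2, 10, 10, 0, 10, 10, 0, 10, 9] [1, 0, 2, 0, 2, 2, 1, 0, 2, 7, 1, 1, 0, 1, 3, 0, 0, 4, 0, 1, 1, 0, 10, 10, 2, 1, 1, 0, 10, 10] (by decide +kernel)) F6 (mul_w G1_0 (mul_w G1_0 (mul_w G1_0 (mul_w G1_2 (mul_w G1_3 (mul_w G1_2 (one_w _))))))) (by decide) (by decide +kernel) [3, 0, 0, 1, 1, 0, 10, 10, 4, 1, 0, 10, 4, 0, 0, 1, 1, 0, 10, 10] (by decide +kernel)) [9, 9] [3, 0, 0, 1, 1, 0, 10, 10, 4, 1, 0, 10, 4, 1, 1, 0, 10, 10] (by decide +kernel)) [16] [0, 7, 1, 2, 7, 7, 0, 2, 7, 1, 1, 0, 1, 3, 0, 4, 0, 0, 1, 0, 10, 1, 1, 0, 10, 10, 4, 0, 1, 0, 10, 0]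 (by decide +kernel)) F48 (mul_w G2_0 (mul_w G2_1 (mul_w G2_1 (mul_w G2_2 (mul_w G2_2 (mul_w G2_2 (one_w _))))))) (by decide) (by decide +kernel) [1, 1, 1, 1, 0, 2, 1, 1, 2, 7, 1, 1, 0, 10, 10, 5, 1, 0, 10, 2, 0, 1, 1, 0, 10, 10, 1, 0, 10, 0] (by decide +kernel)) [9, 9] [1, 1, 1, 1, 0, 2, 1, 1, 2, 7, 1, 0, 10, 6, 0, 4, 1, 1, 0, 10, 10, 4, 1, 0, 10] (by decide +kernel))
    loop6 rfl rfl (by decide) (by decide) (by decide +kernel)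

theorem F81 : CFact g3 [2, 0, 1, 1, 2, 0, 2, 0, 2, 7, 0, 1, 3, 6, 1, 0, 10, 1, 1, 0, 10, 10, 1, 0, 10, 0, 5, 0] g4 [2, 1, 2, 1, 0, 1, 0, 2, 7, 1, 1, 0, 10, 0, 1, 1, 0, 10, 10] := CFact.rev F80 _ (by decide +kernel)

theorem F82 : CFact g3 [7, 7, 2, 1, 0, 2, 1, 0, 2, 7, 1, 0, 1, 1, 1, 0, 10, 10, 0, 1, 1, 0, 10, 10, 1, 0, 10, 3, 0, 5] g4 [7, 1, 2, 1, 1, 2, 0, 2, 7, 1, 1, 0, 1, 2, 1, 0, 10, 0, 2, 5, 2, 1, 1, 0, 10, 10] :=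
  deduce [[9, 9, 16], [9, 9, 9, 11, 16, 1, 9, 10, 11, 16, 1, 9, 10, 11, 10, 0, 10, 10, 0, 10]] [[0, 1, 9, 1, 1, 9, 1, 1, 11, 0, 2, 1, 2, 10, 7, 2, 10, 10, 7, 2, 1, 2]] (wp := [7])
    (stepW (stepZ (k := [7, 1, 0, 7, 6, 2, 7]) (stepW (stepZ (k := [5, 6, 5, 7, 1, 6, 2, 5, 5]) (start Z [7, 0, 1, 0, 10, 0, 1, 1, 0, 10, 10, 3, 1, 0, 10, 4, 0, 0]) F64 (one_w _) (by decide) (by decide +kernel) [2, 3, 1, 0, 10, 0, 1, 1, 0, 10, 10, 4, 1, 0, 10, 0, 1, 1, 0, 10, 10, 0] (by decide +kernel)) [9, 9, 16] [2, 0, 2, 7, 2, 1, 1, 2, 7, 1, 0, 10, 1, 1, 0, 10, 10, 1, 0, 10, 3, 1, 0, 10, 4, 1, 0, 10, 1, 1, 0, 10, 10, 0] (by decide +kernel)) F80 (mul_w G4_0 (mul_w G4_2 (mul_w G4_3 (one_w _)))) (by decide) (by decide +kernel) [2, 0, 1, 1, 2, 0, 2, 0, 2, 7, 0, 1, 5, 2, 4, 1, 0,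 10, 3, 3] (by decide +kernel)) [9, 9, 9, 11, 16, 1, 9, 10, 11, 16, 1, 9, 10, 11, 10, 0, 10, 10, 0, 10] [7, 7, 2, 1, 0, 2, 1, 0, 2, 7, 1, 0, 1, 1, 1, 0, 10, 10, 0, 1, 1, 0, 10, 10, 1, 0, 10, 3, 0, 5] (by decide +kernel))
    (stepW (stepZ (k := [0, 7, 6, 2, 7, 0, 5, 3]) (stepW (start Z [7, 0, 1, 0, 10, 0, 1, 1, 0, 10, 10, 3, 1, 0, 10, 4, 0, 0]) [11, 10, 11, 16, 1, 1, 11, 16, 1, 11, 10, 11, 9, 2, 10, 10, 0, 10, 10, 0, 10, 9] [7, 0, 2, 7, 0, 2, 7, 0, 1, 1, 0, 10, 10, 4, 0, 2, 5] (by decide +kernel)) F64 (mul_w G1_0 (mul_w G1_3 (mul_w G1_7 (mul_w G1_0 (one_w _))))) (by decide) (by decide +kernel) [1, 0, 10, 1, 1, 0, 10, 10, 3, 5, 1, 0, 10, 3, 0] (by decide +kernel)) [9, 9] [0, 1, 1, 0, 10, 10, 0, 4, 1, 0, 10, 1, 1, 0, 10, 10, 0, 2] (by decide +kernel))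
    loop6 rfl rfl (by decide) (by decide) (by decide +kernel)

theorem F83 : CFact g4 [7, 1, 2, 1, 1, 2, 0, 2, 7, 1, 1, 0, 1, 2, 1, 0, 10, 0, 2, 5, 2, 1, 1, 0, 10, 10] g3 [7, 7, 2, 1, 0, 2, 1, 0, 2, 7, 1, 0, 1, 1, 0, 10, 5, 0, 1, 0, 10, 2, 5] := CFact.rev F82 _ (by decide +kernel)

theorem F84 : CFact g4 [0, 2, 7, 7, 0, 2, 0, 2, 7, 0, 0, 0, 1, 0, 10, 0, 1, 1, 0, 10, 10, 1, 0, 10] g4 [7, 7, 1, 2, 7, 2, 0, 2, 7, 1, 0, 1, 0, 0, 1, 0, 10, 4, 2, 0, 1, 1, 0, 10, 10] :=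
  deduce [[9, 9, 16]] [[7], [0, 1, 9, 1, 1, 9, 1, 1, 11, 0, 2, 1, 2, 10, 7, 2, 10, 10, 7, 2, 1, 2]] (wp := [9, 9, 9, 11, 16, 1, 9, 10, 11, 16, 1, 9, 10, 11, 10, 0, 10, 10, 0, 10])
    (stepW (stepZ (k := [6, 7, 5, 6, 3, 5, 5, 0]) (start Z [7, 1, 0, 10, 1, 1, 0, 10, 10, 0, 1, 0, 10, 5, 0, 0, 2]) F64 (one_w _) (by decide) (by decide +kernel) [2, 0, 1, 0, 10, 1, 1, 0, 10, 10, 3, 0, 1, 0, 10, 3, 1, 1, 0, 10, 10] (by decide +kernel)) [9, 9, 16] [0, 2, 7, 7, 0, 2, 0, 2, 7, 0, 0, 0, 1, 0, 10, 0, 1, 1, 0, 10, 10, 1, 0, 10] (by decide +kernel))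
    (stepW (stepZ (k := [0, 6, 3, 6, 5, 0, 6, 7, 5]) (stepW (stepW (stepZ (k := [5, 0, 6, 4, 5, 0, 7, 5]) (stepW (start Z [7, 1, 0, 10, 1, 1, 0, 10, 10, 0, 1, 0, 10, 5, 0, 0, 2]) [11, 10, 11, 16, 1, 1, 11, 16, 1, 11, 10, 11, 9, 2, 10, 10, 0, 10, 10, 0, 10, 9] [1, 2, 2, 7, 1, 0, 2, 7, 1, 1, 0, 1, 2, 0, 2, 1, 1, 0, 10, 10, 1, 0, 10, 3, 2] (by decide +kernel)) F36 (mul_w G1_6 (mul_w G1_7 (mul_w G1_1 (mul_w G1_3 (mul_w G1_0 (one_w _)))))) (by decide) (by decide +kernel) [3, 0, 6, 1, 0, 10, 1, 1, 0, 10, 10, 1, 0, 10, 4, 1, 0, 10] (by decide +kernel)) [9, 9] [4, 4, 0, 1, 0, 10, 3, 1, 1, 0, 10, 10, 2] (by decide +kernel)) [16] [2, 2, 7, 7, 1, 1, 2, 7, 1, 0, 1, 1, 0, 10, 1, 1, 0, 10, 10, 0, 1, 0, 10] (by decide +kernel)) F81 (mul_w G3_5 (mul_w G3_3 (mul_w G3_0 (mul_w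 G3_5 (one_w _))))) (by decide) (by decide +kernel) [2, 1, 2, 1, 0, 1, 0, 2, 7, 1, 3, 6, 1, 1, 0, 10, 10, 0, 5, 0, 1, 0, 10, 0] (by decide +kernel)) [9, 9] [2, 1, 2, 1, 0, 1, 0, 2, 7, 1, 4, 3, 4, 1, 1, 0, 10, 10, 2, 1, 0, 10, 0] (by decide +kernel))
    loop6 rfl rfl (by decide) (by decide) (by decide +kernel)

theorem F85 : CFact g4 [7, 7, 1, 2, 7, 2, 0, 2, 7, 1, 0, 1, 0, 0, 1, 0, 10, 4, 2, 0, 1, 1, 0, 10, 10] g4 [0, 2, 7, 7, 0, 2, 0, 2, 7, 0, 1, 0, 10, 1, 1, 0, 10, 10, 0, 1, 0, 10] := CFact.rev F84 _ (by decide +kernel)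

end Cfsg.Agent.LyOrbitFacts41
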