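import Cfsg.Agent.Lib.LyOrbitClosed41

/-! The five double cosets cover the presented Lyons group. -/

set_option autoImplicit false
set_option maxRecDepth 100000

namespace Cfsg.Agent.LyOrbitGen41

open Cfsg.Agent.LyG2Five64 Cfsg.Agent.LyOrbitCore41 Cfsg.Agent.LyOrbitCover41 Cfsg.Agent.LyOrbitClosed41

theorem mk_a_H : mk Cfsg.Spor.Ly.a ∈ HLy := letLy_H (i := 0) (by norm_num)
theorem mk_b_H : mk Cfsg.Spor.Ly.b ∈ HLy := letLy_H (i := 1) (by norm_num)
theorem mk_c_H : mk Cfsg.Spor.Ly.c ∈ HLy := letLy_H (i := 2) (by norm_num)
theorem mk_d_H : mk Cfsg.Spor.Ly.d ∈ HLy := letLy_H (i := 7) (by norm_num)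

/-- A relator of the form `x w⁻¹`. -/
theorem aux {x w : FreeGroup Cfsg.Spor.Ly.Gen} (k : ℕ) (hk : k < Cfsg.Spor.Ly.extra.length)
    (e : Cfsg.Spor.Ly.extra.getD k 1 = x * w⁻¹)
    (hw : w ∈ Subgroup.closure ({Cfsg.Spor.Ly.a, Cfsg.Spor.Ly.b, Cfsg.Spor.Ly.c, Cfsg.Spor.Ly.d} :
      Set (FreeGroup Cfsg.Spor.Ly.Gen))) : mk x ∈ HLy := by
  have h := mk_rel k hk
  rw [e, map_mul, map_inv, mul_inv_eq_one] at h
  rw [h]
  exact Subgroup.mem_map_of_mem _ hw

theorem mem_a1 : mk Cfsg.Spor.Ly.a1 ∈ HLy := by
  refine aux 44 (by decide) rfl ?_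
  repeat' first | apply mul_mem | apply inv_mem | apply pow_mem
  all_goals exact Subgroup.subset_closure (by simp)

theorem mem_a2 : mk Cfsg.Spor.Ly.a2 ∈ HLy := by
  refine aux 45 (by decide) rfl ?_
  repeat' first | apply mul_mem | apply inv_mem | apply pow_mem
  all_goals exact Subgroup.subset_closure (by simp)

theorem mem_a3 : mk Cfsg.Spor.Ly.a3 ∈ HLy := by
  refine aux 46 (by decide) rfl ?_
  repeat' first | apply mul_mem | apply inv_mem | apply pow_mem
  all_goals exact Subgroup.subset_closure (by simp)

theorem mem_a4 : mk Cfsg.Spor.Ly.a4 ∈ HLy := by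
  refine aux 47 (by decide) rfl ?_
  repeat' first | apply mul_mem | apply inv_mem | apply pow_mem
  all_goals exact Subgroup.subset_closure (by simp)

theorem mem_u : mk Cfsg.Spor.Ly.u ∈ HLy := by
  refine aux 48 (by decide) rfl ?_
  repeat' first | apply mul_mem | apply inv_mem | apply pow_mem
  all_goals exact Subgroup.subset_closure (by simp)

theorem mem_x23 : mk Cfsg.Spor.Ly.x23 ∈ HLy := by
  refine aux 49 (by decide) rfl ?_
  repeat' first | apply mul_mem | apply inv_mem | apply pow_mem
  all_goals exact Subgroup.subset_closure (by simp)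

theorem mem_x24 : mk Cfsg.Spor.Ly.x24 ∈ HLy := by
  refine aux 50 (by decide) rfl ?_
  repeat' first | apply mul_mem | apply inv_mem | apply pow_mem
  all_goals exact Subgroup.subset_closure (by simp)

theorem mem_x25 : mk Cfsg.Spor.Ly.x25 ∈ HLy := by
  refine aux 51 (by decide) rfl ?_
  repeat' first | apply mul_mem | apply inv_mem | apply pow_mem
  all_goals exact Subgroup.subset_closure (by simp)

theorem mem_x29 : mk Cfsg.Spor.Ly.x29 ∈ HLy := by
  refine aux 52 (by decide) rfl ?_
  repeat' first | apply mul_mem | apply inv_mem | apply pow_mem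
  all_goals exact Subgroup.subset_closure (by simp)

theorem mem_x47 : mk Cfsg.Spor.Ly.x47 ∈ HLy := by
  refine aux 53 (by decide) rfl ?_
  repeat' first | apply mul_mem | apply inv_mem | apply pow_mem
  all_goals exact Subgroup.subset_closure (by simp)

theorem mem_x96 : mk Cfsg.Spor.Ly.x96 ∈ HLy := by
  refine aux 54 (by decide) rfl ?_
  repeat' first | apply mul_mem | apply inv_mem | apply pow_mem
  all_goals exact Subgroup.subset_closure (by simp)

theorem mem_x129 : mk Cfsg.Spor.Ly.x129 ∈ HLy := by
  refine aux 55 (by decide) rfl ?_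
  repeat' first | apply mul_mem | apply inv_mem | apply pow_mem
  all_goals exact Subgroup.subset_closure (by simp)

theorem mem_x162 : mk Cfsg.Spor.Ly.x162 ∈ HLy := by
  refine aux 56 (by decide) rfl ?_
  repeat' first | apply mul_mem | apply inv_mem | apply pow_mem
  all_goals exact Subgroup.subset_closure (by simp)

theorem mem_x163 : mk Cfsg.Spor.Ly.x163 ∈ HLy := by
  refine aux 57 (by decide) rfl ?_
  repeat' first | apply mul_mem | apply inv_mem | apply pow_mem
  all_goals exact Subgroup.subset_closure (by simp)

theorem mem_x164 : mk Cfsg.Spor.Ly.x164 ∈ HLy := by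
  refine aux 58 (by decide) rfl ?_
  repeat' first | apply mul_mem | apply inv_mem | apply pow_mem
  all_goals exact Subgroup.subset_closure (by simp)

theorem mem_x165 : mk Cfsg.Spor.Ly.x165 ∈ HLy := by
  refine aux 59 (by decide) rfl ?_
  repeat' first | apply mul_mem | apply inv_mem | apply pow_mem
  all_goals exact Subgroup.subset_closure (by simp)

theorem mem_x166 : mk Cfsg.Spor.Ly.x166 ∈ HLy := by
  refine aux 60 (by decide) rfl ?_
  repeat' first | apply mul_mem | apply inv_mem | apply pow_mem
  all_goals exact Subgroup.subset_closure (by simp)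

theorem mem_x167 : mk Cfsg.Spor.Ly.x167 ∈ HLy := by
  refine aux 61 (by decide) rfl ?_
  repeat' first | apply mul_mem | apply inv_mem | apply pow_mem
  all_goals exact Subgroup.subset_closure (by simp)

theorem mem_x168 : mk Cfsg.Spor.Ly.x168 ∈ HLy := by
  refine aux 62 (by decide) rfl ?_
  repeat' first | apply mul_mem | apply inv_mem | apply pow_mem
  all_goals exact Subgroup.subset_closure (by simp)

theorem mem_x169 : mk Cfsg.Spor.Ly.x169 ∈ HLy := by
  refine aux 63 (by decide) rfl ?_
  repeat' first | apply mul_mem | apply inv_mem | apply pow_mem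
  all_goals exact Subgroup.subset_closure (by simp)

theorem mem_x364 : mk Cfsg.Spor.Ly.x364 ∈ HLy := by
  refine aux 64 (by decide) rfl ?_
  repeat' first | apply mul_mem | apply inv_mem | apply pow_mem
  all_goals exact Subgroup.subset_closure (by simp)

theorem mem_x365 : mk Cfsg.Spor.Ly.x365 ∈ HLy := by
  refine aux 65 (by decide) rfl ?_
  repeat' first | apply mul_mem | apply inv_mem | apply pow_mem
  all_goals exact Subgroup.subset_closure (by simp)

theorem mem_x366 : mk Cfsg.Spor.Ly.x366 ∈ HLy := by
  refine aux 66 (by decide) rfl ?_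
  repeat' first | apply mul_mem | apply inv_mem | apply pow_mem
  all_goals exact Subgroup.subset_closure (by simp)

theorem mem_x367 : mk Cfsg.Spor.Ly.x367 ∈ HLy := by
  refine aux 67 (by decide) rfl ?_
  repeat' first | apply mul_mem | apply inv_mem | apply pow_mem
  all_goals exact Subgroup.subset_closure (by simp)

theorem mem_x368 : mk Cfsg.Spor.Ly.x368 ∈ HLy := by
  refine aux 68 (by decide) rfl ?_
  repeat' first | apply mul_mem | apply inv_mem | apply pow_mem
  all_goals exact Subgroup.subset_closure (by simp)

theorem mem_x369 : mk Cfsg.Spor.Ly.x369 ∈ HLy := by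
  refine aux 69 (by decide) rfl ?_
  repeat' first | apply mul_mem | apply inv_mem | apply pow_mem
  all_goals exact Subgroup.subset_closure (by simp)

theorem mem_x370 : mk Cfsg.Spor.Ly.x370 ∈ HLy := by
  refine aux 70 (by decide) rfl ?_
  repeat' first | apply mul_mem | apply inv_mem | apply pow_mem
  all_goals exact Subgroup.subset_closure (by simp)

theorem mem_x371 : mk Cfsg.Spor.Ly.x371 ∈ HLy := by
  refine aux 71 (by decide) rfl ?_
  repeat' first | apply mul_mem | apply inv_mem | apply pow_mem
  all_goals exact Subgroup.subset_closure (by simp)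

/-- The whole group is generated by the subgroup and the extra generator. -/
theorem gen_top {T : Subgroup L} (hH : HLy ≤ T) (hZ : Z ∈ T) : T = ⊤ := by
  rw [eq_top_iff]
  rintro x -
  induction x using PresentedGroup.induction_on with
  | _ w =>
    induction w using FreeGroup.induction_on with
    | C1 => simp
    | of g =>
      cases g
      case z => exact hZ
      case a => exact hH mk_a_H
      case b => exact hH mk_b_H
      case c => exact hH mk_c_H
      case d => exact hH mk_d_H
      case e => exact hH (letLy_H (i := 8) (by norm_num))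
      case c1 => exact hH (show mk Cfsg.Spor.Ly.c1 ∈ HLy by rw [mk_c1]; exact mk_c_H)
      case c2 => exact hH (letLy_H (i := 3) (by norm_num))
      case c3 => exact hH (letLy_H (i := 4) (by norm_num))
      case c4 => exact hH (letLy_H (i := 5) (by norm_num))
      case c5 => exact hH (letLy_H (i := 6) (by norm_num))
      case a1 => exact hH mem_a1
      case a2 => exact hH mem_a2
      case a3 => exact hH mem_a3
      case a4 => exact hH mem_a4
      case u => exact hH mem_u
      case x23 => exact hH mem_x23
      case x24 => exact hH mem_x24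
      case x25 => exact hH mem_x25
      case x29 => exact hH mem_x29
      case x47 => exact hH mem_x47
      case x96 => exact hH mem_x96
      case x129 => exact hH mem_x129
      case x162 => exact hH mem_x162
      case x163 => exact hH mem_x163
      case x164 => exact hH mem_x164
      case x165 => exact hH mem_x165
      case x166 => exact hH mem_x166
      case x167 => exact hH mem_x167
      case x168 => exact hH mem_x168
      case x169 => exact hH mem_x169
      case x364 => exact hH mem_x364
      case x365 => exact hH mem_x365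
      case x366 => exact hH mem_x366
      case x367 => exact hH mem_x367
      case x368 => exact hH mem_x368
      case x369 => exact hH mem_x369
      case x370 => exact hH mem_x370
      case x371 => exact hH mem_x371
    | inv_of g h => rw [map_inv]; exact inv_mem h
    | mul v w hv hw => rw [map_mul]; exact mul_mem hv hw

theorem reach_mul {x t : L} (hx : Reach reps x) (ht : t ∈ HLy) : Reach reps (x * t) := by
  obtain ⟨j, hj, u, hu, h⟩ := hx
  refine ⟨j, hj, u * t, mul_mem hu ht, ?_⟩
  rw [← mul_assoc]
  exact InC.mul h t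

theorem reach_Z {x : L} (hx : Reach reps x) : Reach reps (x * Z) := by
  obtain ⟨j, hj, u, hu, h⟩ := hx
  have hr : Reach reps (reps j * u * Z) := by
    interval_cases j
    exacts [closed0 hu, closed1 hu, closed2 hu, closed3 hu, closed4 hu]
  obtain ⟨i, hi, s, hs, h'⟩ := hr
  exact ⟨i, hi, s, hs, (InC.mul h Z).trans h'⟩

/-- Every element is in one of the five double cosets. -/
theorem reach_all (x : L) : Reach reps x := by
  have h1 : Reach reps (1 : L) := ⟨0, by norm_num, 1, one_mem _, InC.of_eq (by simp [reps])⟩
  let T : Subgroup L :=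
    { carrier := {g | ∀ y, Reach reps y → Reach reps (y * g) ∧ Reach reps (y * g⁻¹)}
      one_mem' := fun y hy => by simp [hy]
      mul_mem' := fun {g g'} hg hg' y hy => by
        refine ⟨?_, ?_⟩
        · rw [← mul_assoc]; exact (hg' _ (hg y hy).1).1
        · rw [mul_inv_rev, ← mul_assoc]; exact (hg _ (hg' y hy).2).2
      inv_mem' := fun {g} hg y hy => by
        rw [inv_inv]; exact (hg y hy).symm }
  have hH : HLy ≤ T := fun t ht y hy => ⟨reach_mul hy ht, reach_mul hy (inv_mem ht)⟩
  have hZ : Z ∈ T := fun y hy => ⟨reach_Z hy, by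
    rw [LyOrbitLoops41.z_inv, ← mul_assoc]
    exact reach_mul (reach_Z hy) (ev_H rfl)⟩
  have hx : x ∈ T := by rw [gen_top hH hZ]; trivial
  simpa using (hx 1 h1).1

end Cfsg.Agent.LyOrbitGen41
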