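import Cfsg.Agent.Lib.LyOrbitCore41

/-! The five long relators of the presented Lyons group as loops. -/

set_option autoImplicit false
set_option maxRecDepth 100000

namespace Cfsg.Agent.LyOrbitLoops41

open Cfsg.Agent.LyG2Five64 Cfsg.Agent.LyOrbitCore41

theorem fl_cons {w : List ℕ} (hw : okW w = true) (ws : List (List ℕ)) : evz (fl (w :: ws)) = Z * ev w * evz (fl ws) := by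
  rw [show fl (w :: ws) = [18] ++ w ++ fl ws by simp [fl], evz_append, evz_append, evz_z, evz_ev hw]

theorem fl_nil : evz (fl []) = 1 := rfl

theorem rot {A B : List (List ℕ)} (h : evz (fl (A ++ B)) = 1) : evz (fl (B ++ A)) = 1 := by
  rw [fl_append, evz_append] at h ⊢
  exact mul_eq_one_comm.mp h

theorem z_inv : Z⁻¹ = Z * ev [9, 9] := by
  rw [show ev [9, 9] = (ev [0, 0])⁻¹ from ev_invW (w := [0, 0]) rfl, ← z_sq]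
  group

theorem loop0 : evz (fl [[10, 10, 0, 1, 1], [10, 10, 0, 1, 1], [0, 0, 10, 10, 0, 1, 1]]) = 1 := by
  have ha4 : mk Cfsg.Spor.Ly.a4 = ev [10, 10, 0, 1, 1] := by
    have e : mk (Cfsg.Spor.Ly.a4 * (((Cfsg.Spor.Ly.b ^ 2)⁻¹ * Cfsg.Spor.Ly.a * (Cfsg.Spor.Ly.b ^ 2))⁻¹)) = 1 := mk_rel 47 (by decide)
    rw [map_mul, map_inv, mul_inv_eq_one] at e
    rw [e]
    simp [ev, letLy, pow_two, mul_assoc]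
  have hu : mk Cfsg.Spor.Ly.u = ev [0, 0] := by
    have e : mk (Cfsg.Spor.Ly.u * ((Cfsg.Spor.Ly.a ^ 2)⁻¹)) = 1 := mk_rel 48 (by decide)
    rw [map_mul, map_inv, mul_inv_eq_one] at e
    rw [e]
    simp [ev, letLy, pow_two, mul_assoc]
  have h : mk (((Cfsg.Spor.Ly.a4 * Cfsg.Spor.Ly.z) ^ 3) * Cfsg.Spor.Ly.u) = 1 := mk_rel 81 (by decide)
  simp only [map_mul, map_inv, map_pow, ha4, hu] at h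
  change _ = (1 : L) at h
  rw [show mk Cfsg.Spor.Ly.z = Z from rfl] at h
  repeat rw [fl_cons (by decide)]
  rw [fl_nil, show ev [0, 0, 10, 10, 0, 1, 1] = ev [0, 0] * ev [10, 10, 0, 1, 1] from ev_append [0, 0] [10, 10, 0, 1, 1]]
  rw [pow_succ, pow_succ, pow_one, mul_assoc, mul_assoc, mul_assoc, mul_assoc, mul_assoc] at h
  have h' := mul_eq_one_comm.mp h
  simpa [mul_assoc] using h'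

theorem loop1 : evz (fl [[10, 10, 0, 1, 1], [0, 0, 10, 10, 0, 1, 1], [10, 10, 0, 1, 1]]) = 1 :=
  rot (A := [[10, 10, 0, 1, 1]]) (B := [[10, 10, 0, 1, 1], [0, 0, 10, 10, 0, 1, 1]]) loop0

theorem loop2 : evz (fl [[0, 0, 10, 10, 0, 1, 1], [10, 10, 0, 1, 1], [10, 10, 0, 1, 1]]) = 1 :=
  rot (A := [[10, 10, 0, 1, 1], [10, 10, 0, 1, 1]]) (B := [[0, 0, 10, 10, 0, 1, 1]]) loop0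

theorem loop3 : evz (fl [[9, 7, 10, 11, 9, 1, 11, 16, 1, 11, 10, 9, 11, 0, 10, 0, 1, 0, 10], [9, 11, 16, 0, 11, 10, 0, 11, 16, 9, 11, 0, 2, 10, 10, 11, 10, 9, 10, 10], [11, 16, 9, 11, 9, 1, 11, 16]]) = 1 := by
  have hx47 : mk Cfsg.Spor.Ly.x47 = ev [11, 16, 9, 11, 9, 1, 11, 16] := by
    have e : mk (Cfsg.Spor.Ly.x47 * (((Cfsg.Spor.Ly.c⁻¹) * (Cfsg.Spor.Ly.d⁻¹) * (Cfsg.Spor.Ly.a⁻¹) * (Cfsg.Spor.Ly.c⁻¹) * (Cfsg.Spor.Ly.a⁻¹) * Cfsg.Spor.Ly.b * (Cfsg.Spor.Ly.c⁻¹) * (Cfsg.Spor.Ly.d⁻¹))⁻¹)) = 1 := mk_rel 53 (by decide)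
    rw [map_mul, map_inv, mul_inv_eq_one] at e
    rw [e]
    simp [ev, letLy, pow_two, mul_assoc]
  have hx364 : mk Cfsg.Spor.Ly.x364 = ev [9, 7, 10, 11, 9, 1, 11, 16, 1, 11, 10, 9, 11, 0, 10, 0, 1, 0, 10] := by
    have e : mk (Cfsg.Spor.Ly.x364 * (((Cfsg.Spor.Ly.a⁻¹) * Cfsg.Spor.Ly.d * (Cfsg.Spor.Ly.b⁻¹) * (Cfsg.Spor.Ly.c⁻¹) * (Cfsg.Spor.Ly.a⁻¹) * Cfsg.Spor.Ly.b * (Cfsg.Spor.Ly.c⁻¹) * (Cfsg.Spor.Ly.d⁻¹) * Cfsg.Spor.Ly.b * (Cfsg.Spor.Ly.c⁻¹) * (Cfsg.Spor.Ly.b⁻¹) * (Cfsg.Spor.Ly.a⁻¹) * (Cfsg.Spor.Ly.c⁻¹) * Cfsg.Spor.Ly.a * (Cfsg.Spor.Ly.b⁻¹) * Cfsg.Spor.Ly.a * Cfsg.Spor.Ly.b * Cfsg.Spor.Ly.a * (Cfsg.Spor.Ly.b⁻¹))⁻¹)) = 1 := mk_rel 64 (by decide)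
    rw [map_mul, map_inv, mul_inv_eq_one] at e
    rw [e]
    simp [ev, letLy, pow_two, mul_assoc]
  have hx368 : mk Cfsg.Spor.Ly.x368 = ev [9, 11, 16, 0, 11, 10, 0, 11, 16, 9, 11, 0, 2, 10, 10, 11, 10, 9, 10, 10] := by
    have e : mk (Cfsg.Spor.Ly.x368 * (((Cfsg.Spor.Ly.a⁻¹) * (Cfsg.Spor.Ly.c⁻¹) * (Cfsg.Spor.Ly.d⁻¹) * Cfsg.Spor.Ly.a * (Cfsg.Spor.Ly.c⁻¹) * (Cfsg.Spor.Ly.b⁻¹) * Cfsg.Spor.Ly.a * (Cfsg.Spor.Ly.c⁻¹) * (Cfsg.Spor.Ly.d⁻¹) * (Cfsg.Spor.Ly.a⁻¹) * (Cfsg.Spor.Ly.c⁻¹) * Cfsg.Spor.Ly.a * Cfsg.Spor.Ly.c * ((Cfsg.Spor.Ly.b ^ 2)⁻¹) * (Cfsg.Spor.Ly.c⁻¹) * (Cfsg.Spor.Ly.b⁻¹) * (Cfsg.Spor.Ly.a⁻¹) * ((Cfsg.Spor.Ly.b ^ 2)⁻¹))⁻¹)) = 1 := mk_rel 68 (by decide)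
    rw [map_mul, map_inv, mul_inv_eq_one] at e
    rw [e]
    simp [ev, letLy, pow_two, mul_assoc]
  have h : mk (Cfsg.Spor.Ly.x47 * Cfsg.Spor.Ly.z * Cfsg.Spor.Ly.x364 * Cfsg.Spor.Ly.z * Cfsg.Spor.Ly.x368 * Cfsg.Spor.Ly.z) = 1 := mk_rel 82 (by decide)
  simp only [map_mul, map_inv, map_pow, hx47, hx364, hx368] at h
  change _ = (1 : L) at h
  rw [show mk Cfsg.Spor.Ly.z = Z from rfl] at h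
  repeat rw [fl_cons (by decide)]
  rw [fl_nil]
  simp only [mul_assoc] at h
  have h' := mul_eq_one_comm.mp h
  simpa [mul_assoc] using h'

theorem loop4 : evz (fl [[9, 11, 16, 0, 11, 10, 0, 11, 16, 9, 11, 0, 2, 10, 10, 11, 10, 9, 10, 10], [11, 16, 9, 11, 9, 1, 11, 16], [9, 7, 10, 11, 9, 1, 11, 16, 1, 11, 10, 9, 11, 0, 10, 0, 1, 0, 10]]) = 1 :=
  rot (A := [[9, 7, 10, 11, 9, 1, 11, 16, 1, 11, 10, 9, 11, 0, 10, 0, 1, 0, 10]]) (B := [[9, 11, 16, 0, 11, 10, 0, 11, 16, 9, 11, 0, 2, 10, 10, 11, 10, 9, 10, 10], [11, 16, 9, 11, 9, 1, 11, 16]]) loop3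

theorem loop5 : evz (fl [[11, 16, 9, 11, 9, 1, 11, 16], [9, 7, 10, 11, 9, 1, 11, 16, 1, 11, 10, 9, 11, 0, 10, 0, 1, 0, 10], [9, 11, 16, 0, 11, 10, 0, 11, 16, 9, 11, 0, 2, 10, 10, 11, 10, 9, 10, 10]]) = 1 :=
  rot (A := [[9, 7, 10, 11, 9, 1, 11, 16, 1, 11, 10, 9, 11, 0, 10, 0, 1, 0, 10], [9, 11, 16, 0, 11, 10, 0, 11, 16, 9, 11, 0, 2, 10, 10, 11, 10, 9, 10, 10]]) (B := [[11, 16, 9, 11, 9, 1, 11, 16]]) loop3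

theorem loop6 : evz (fl [[9, 9, 16], [9, 9, 9, 11, 16, 1, 9, 10, 11, 16, 1, 9, 10, 11, 10, 0, 10, 10, 0, 10], [7], [0, 1, 9, 1, 1, 9, 1, 1, 11, 0, 2, 1, 2, 10, 7, 2, 10, 10, 7, 2, 1, 2]]) = 1 := by
  have hx24 : mk Cfsg.Spor.Ly.x24 = ev [16] := by
    have e : mk (Cfsg.Spor.Ly.x24 * ((Cfsg.Spor.Ly.d⁻¹)⁻¹)) = 1 := mk_rel 50 (by decide)
    rw [map_mul, map_inv, mul_inv_eq_one] at e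
    rw [e]
    simp [ev, letLy, pow_two, mul_assoc]
  have hx369 : mk Cfsg.Spor.Ly.x369 = ev [9, 11, 16, 1, 9, 10, 11, 16, 1, 9, 10, 11, 10, 0, 10, 10, 0, 10] := by
    have e : mk (Cfsg.Spor.Ly.x369 * (((Cfsg.Spor.Ly.a⁻¹) * (Cfsg.Spor.Ly.c⁻¹) * (Cfsg.Spor.Ly.d⁻¹) * Cfsg.Spor.Ly.b * (Cfsg.Spor.Ly.a⁻¹) * (Cfsg.Spor.Ly.b⁻¹) * (Cfsg.Spor.Ly.c⁻¹) * (Cfsg.Spor.Ly.d⁻¹) * Cfsg.Spor.Ly.b * (Cfsg.Spor.Ly.a⁻¹) * (Cfsg.Spor.Ly.b⁻¹) * (Cfsg.Spor.Ly.c⁻¹) * (Cfsg.Spor.Ly.b⁻¹) * Cfsg.Spor.Ly.a * ((Cfsg.Spor.Ly.b ^ 2)⁻¹) * Cfsg.Spor.Ly.a * (Cfsg.Spor.Ly.b⁻¹))⁻¹)) = 1 := mk_rel 69 (by decide)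
    rw [map_mul, map_inv, mul_inv_eq_one] at e
    rw [e]
    simp [ev, letLy, pow_two, mul_assoc]
  have hx23 : mk Cfsg.Spor.Ly.x23 = ev [7] := by
    have e : mk (Cfsg.Spor.Ly.x23 * (Cfsg.Spor.Ly.d⁻¹)) = 1 := mk_rel 49 (by decide)
    rw [map_mul, map_inv, mul_inv_eq_one] at e
    rw [e]
    simp [ev, letLy, pow_two, mul_assoc]
  have hx29 : mk Cfsg.Spor.Ly.x29 = ev [0, 1, 9, 1, 1, 9, 1, 1, 11, 0, 2, 1, 2, 10, 7, 2, 10, 10, 7, 2, 1, 2] := by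
    have e : mk (Cfsg.Spor.Ly.x29 * ((Cfsg.Spor.Ly.a * Cfsg.Spor.Ly.b * (Cfsg.Spor.Ly.a⁻¹) * (Cfsg.Spor.Ly.b ^ 2) * (Cfsg.Spor.Ly.a⁻¹) * (Cfsg.Spor.Ly.b ^ 2) * (Cfsg.Spor.Ly.c⁻¹) * Cfsg.Spor.Ly.a * Cfsg.Spor.Ly.c * Cfsg.Spor.Ly.b * Cfsg.Spor.Ly.c * (Cfsg.Spor.Ly.b⁻¹) * Cfsg.Spor.Ly.d * Cfsg.Spor.Ly.c * ((Cfsg.Spor.Ly.b ^ 2)⁻¹) * Cfsg.Spor.Ly.d * Cfsg.Spor.Ly.c * Cfsg.Spor.Ly.b * Cfsg.Spor.Ly.c)⁻¹)) = 1 := mk_rel 52 (by decide)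
    rw [map_mul, map_inv, mul_inv_eq_one] at e
    rw [e]
    simp [ev, letLy, pow_two, mul_assoc]
  have h : mk ((Cfsg.Spor.Ly.z⁻¹) * Cfsg.Spor.Ly.x24 * (Cfsg.Spor.Ly.z⁻¹) * Cfsg.Spor.Ly.x369 * Cfsg.Spor.Ly.z * Cfsg.Spor.Ly.x23 * Cfsg.Spor.Ly.z * Cfsg.Spor.Ly.x29) = 1 := mk_rel 83 (by decide)
  simp only [map_mul, map_inv, map_pow, hx24, hx369, hx23, hx29] at h
  change _ = (1 : L) at h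
  rw [show mk Cfsg.Spor.Ly.z = Z from rfl] at h
  rw [z_inv] at h
  repeat rw [fl_cons (by decide)]
  rw [fl_nil]
  rw [show ev [9, 9, 16] = ev [9, 9] * ev [16] from ev_append [9, 9] [16]]
  rw [show ev [9, 9, 9, 11, 16, 1, 9, 10, 11, 16, 1, 9, 10, 11, 10, 0, 10, 10, 0, 10] = ev [9, 9] * ev [9, 11, 16, 1, 9, 10, 11, 16, 1, 9, 10, 11, 10, 0, 10, 10, 0, 10] from ev_append [9, 9] [9, 11, 16, 1, 9, 10, 11, 16, 1, 9, 10, 11, 10, 0, 10, 10, 0, 10]]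
  simpa [mul_assoc] using h

theorem loop7 : evz (fl [[9, 9, 9, 11, 16, 1, 9, 10, 11, 16, 1, 9, 10, 11, 10, 0, 10, 10, 0, 10], [7], [0, 1, 9, 1, 1, 9, 1, 1, 11, 0, 2, 1, 2, 10, 7, 2, 10, 10, 7, 2, 1, 2], [9, 9, 16]]) = 1 :=
  rot (A := [[9, 9, 16]]) (B := [[9, 9, 9, 11, 16, 1, 9, 10, 11, 16, 1, 9, 10, 11, 10, 0, 10, 10, 0, 10], [7], [0, 1, 9, 1, 1, 9, 1, 1, 11, 0, 2, 1, 2, 10, 7, 2, 10, 10, 7, 2, 1, 2]]) loop6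

theorem loop8 : evz (fl [[7], [0, 1, 9, 1, 1, 9, 1, 1, 11, 0, 2, 1, 2, 10, 7, 2, 10, 10, 7, 2, 1, 2], [9, 9, 16], [9, 9, 9, 11, 16, 1, 9, 10, 11, 16, 1, 9, 10, 11, 10, 0, 10, 10, 0, 10]]) = 1 :=
  rot (A := [[9, 9, 16], [9, 9, 9, 11, 16, 1, 9, 10, 11, 16, 1, 9, 10, 11, 10, 0, 10, 10, 0, 10]]) (B := [[7], [0, 1, 9, 1, 1, 9, 1, 1, 11, 0, 2, 1, 2, 10, 7, 2, 10, 10, 7, 2, 1, 2]]) loop6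

theorem loop9 : evz (fl [[0, 1, 9, 1, 1, 9, 1, 1, 11, 0, 2, 1, 2, 10, 7, 2, 10, 10, 7, 2, 1, 2], [9, 9, 16], [9, 9, 9, 11, 16, 1, 9, 10, 11, 16, 1, 9, 10, 11, 10, 0, 10, 10, 0, 10], [7]]) = 1 :=
  rot (A := [[9, 9, 16], [9, 9, 9, 11, 16, 1, 9, 10, 11, 16, 1, 9, 10, 11, 10, 0, 10, 10, 0, 10], [7]]) (B := [[0, 1, 9, 1, 1, 9, 1, 1, 11, 0, 2, 1, 2, 10, 7, 2, 10, 10, 7, 2, 1, 2]]) loop6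

theorem loop10 : evz (fl [[1, 0, 10, 9, 10, 10, 9, 10, 2, 1, 1, 2, 1, 7, 2, 10, 10, 7, 2, 1, 2], [0, 10, 10, 9, 2, 1, 11, 1, 9, 11, 11, 7, 2, 0, 2, 9, 2, 10, 16], [9, 9, 11, 10, 11, 16, 1, 1, 11, 16, 10, 11, 10, 10, 11, 1, 0, 1, 1, 0, 1, 9, 10], [9, 9, 16, 0, 2, 1, 2, 9, 11, 16, 0, 10, 9, 2, 9, 10, 10, 9, 1, 9]]) = 1 := by
  have hx366 : mk Cfsg.Spor.Ly.x366 = ev [1, 0, 10, 9, 10, 10, 9, 10, 2, 1, 1, 2, 1, 7, 2, 10, 10, 7, 2, 1, 2] := by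
    have e : mk (Cfsg.Spor.Ly.x366 * ((Cfsg.Spor.Ly.b * Cfsg.Spor.Ly.a * (Cfsg.Spor.Ly.b⁻¹) * (Cfsg.Spor.Ly.a⁻¹) * ((Cfsg.Spor.Ly.b ^ 2)⁻¹) * (Cfsg.Spor.Ly.a⁻¹) * (Cfsg.Spor.Ly.b⁻¹) * Cfsg.Spor.Ly.c * (Cfsg.Spor.Ly.b ^ 2) * Cfsg.Spor.Ly.c * Cfsg.Spor.Ly.b * Cfsg.Spor.Ly.d * Cfsg.Spor.Ly.c * ((Cfsg.Spor.Ly.b ^ 2)⁻¹) * Cfsg.Spor.Ly.d * Cfsg.Spor.Ly.c * Cfsg.Spor.Ly.b * Cfsg.Spor.Ly.c)⁻¹)) = 1 := mk_rel 66 (by decide)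
    rw [map_mul, map_inv, mul_inv_eq_one] at e
    rw [e]
    simp [ev, letLy, pow_two, mul_assoc]
  have hx365 : mk Cfsg.Spor.Ly.x365 = ev [0, 10, 10, 9, 2, 1, 11, 1, 9, 11, 11, 7, 2, 0, 2, 9, 2, 10, 16] := by
    have e : mk (Cfsg.Spor.Ly.x365 * ((Cfsg.Spor.Ly.a * ((Cfsg.Spor.Ly.b ^ 2)⁻¹) * (Cfsg.Spor.Ly.a⁻¹) * Cfsg.Spor.Ly.c * Cfsg.Spor.Ly.b * (Cfsg.Spor.Ly.c⁻¹) * Cfsg.Spor.Ly.b * (Cfsg.Spor.Ly.a⁻¹) * ((Cfsg.Spor.Ly.c ^ 2)⁻¹) * Cfsg.Spor.Ly.d * Cfsg.Spor.Ly.c * Cfsg.Spor.Ly.a * Cfsg.Spor.Ly.c * (Cfsg.Spor.Ly.a⁻¹) * Cfsg.Spor.Ly.c * (Cfsg.Spor.Ly.b⁻¹) * (Cfsg.Spor.Ly.d⁻¹))⁻¹)) = 1 := mk_rel 65 (by decide)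
    rw [map_mul, map_inv, mul_inv_eq_one] at e
    rw [e]
    simp [ev, letLy, pow_two, mul_assoc]
  have hx367 : mk Cfsg.Spor.Ly.x367 = ev [11, 10, 11, 16, 1, 1, 11, 16, 10, 11, 10, 10, 11, 1, 0, 1, 1, 0, 1, 9, 10] := by
    have e : mk (Cfsg.Spor.Ly.x367 * (((Cfsg.Spor.Ly.c⁻¹) * (Cfsg.Spor.Ly.b⁻¹) * (Cfsg.Spor.Ly.c⁻¹) * (Cfsg.Spor.Ly.d⁻¹) * (Cfsg.Spor.Ly.b ^ 2) * (Cfsg.Spor.Ly.c⁻¹) * (Cfsg.Spor.Ly.d⁻¹) * (Cfsg.Spor.Ly.b⁻¹) * (Cfsg.Spor.Ly.c⁻¹) * ((Cfsg.Spor.Ly.b ^ 2)⁻¹) * (Cfsg.Spor.Ly.c⁻¹) * Cfsg.Spor.Ly.b * Cfsg.Spor.Ly.a * (Cfsg.Spor.Ly.b ^ 2) * Cfsg.Spor.Ly.a * Cfsg.Spor.Ly.b * (Cfsg.Spor.Ly.a⁻¹) * (Cfsg.Spor.Ly.b⁻¹))⁻¹)) = 1 := mk_rel 67 (by decide)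
    rw [map_mul, map_inv, mul_inv_eq_one] at e
    rw [e]
    simp [ev, letLy, pow_two, mul_assoc]
  have hx370 : mk Cfsg.Spor.Ly.x370 = ev [16, 0, 2, 1, 2, 9, 11, 16, 0, 10, 9, 2, 9, 10, 10, 9, 1, 9] := by
    have e : mk (Cfsg.Spor.Ly.x370 * (((Cfsg.Spor.Ly.d⁻¹) * Cfsg.Spor.Ly.a * Cfsg.Spor.Ly.c * Cfsg.Spor.Ly.b * Cfsg.Spor.Ly.c * (Cfsg.Spor.Ly.a⁻¹) * (Cfsg.Spor.Ly.c⁻¹) * (Cfsg.Spor.Ly.d⁻¹) * Cfsg.Spor.Ly.a * (Cfsg.Spor.Ly.b⁻¹) * (Cfsg.Spor.Ly.a⁻¹) * Cfsg.Spor.Ly.c * (Cfsg.Spor.Ly.a⁻¹) * ((Cfsg.Spor.Ly.b ^ 2)⁻¹) * (Cfsg.Spor.Ly.a⁻¹) * Cfsg.Spor.Ly.b * (Cfsg.Spor.Ly.a⁻¹))⁻¹)) = 1 := mk_rel 70 (by decide)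
    rw [map_mul, map_inv, mul_inv_eq_one] at e
    rw [e]
    simp [ev, letLy, pow_two, mul_assoc]
  have h : mk (Cfsg.Spor.Ly.z * Cfsg.Spor.Ly.x366 * Cfsg.Spor.Ly.z * Cfsg.Spor.Ly.x365 * (Cfsg.Spor.Ly.z⁻¹) * Cfsg.Spor.Ly.x367 * (Cfsg.Spor.Ly.z⁻¹) * Cfsg.Spor.Ly.x370) = 1 := mk_rel 84 (by decide)
  simp only [map_mul, map_inv, map_pow, hx366, hx365, hx367, hx370] at h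
  change _ = (1 : L) at h
  rw [show mk Cfsg.Spor.Ly.z = Z from rfl] at h
  rw [z_inv] at h
  repeat rw [fl_cons (by decide)]
  rw [fl_nil]
  rw [show ev [9, 9, 11, 10, 11, 16, 1, 1, 11, 16, 10, 11, 10, 10, 11, 1, 0, 1, 1, 0, 1, 9, 10] = ev [9, 9] * ev [11, 10, 11, 16, 1, 1, 11, 16, 10, 11, 10, 10, 11, 1, 0, 1, 1, 0, 1, 9, 10] from ev_append [9, 9] [11, 10, 11, 16, 1, 1, 11, 16, 10, 11, 10, 10, 11, 1, 0, 1, 1, 0, 1, 9, 10]]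
  rw [show ev [9, 9, 16, 0, 2, 1, 2, 9, 11, 16, 0, 10, 9, 2, 9, 10, 10, 9, 1, 9] = ev [9, 9] * ev [16, 0, 2, 1, 2, 9, 11, 16, 0, 10, 9, 2, 9, 10, 10, 9, 1, 9] from ev_append [9, 9] [16, 0, 2, 1, 2, 9, 11, 16, 0, 10, 9, 2, 9, 10, 10, 9, 1, 9]]
  simpa [mul_assoc] using h

theorem loop11 : evz (fl [[0, 10, 10, 9, 2, 1, 11, 1, 9, 11, 11, 7, 2, 0, 2, 9, 2, 10, 16], [9, 9, 11, 10, 11, 16, 1, 1, 11, 16, 10, 11, 10, 10, 11, 1, 0, 1, 1, 0, 1, 9, 10], [9, 9, 16, 0, 2, 1, 2, 9, 11, 16, 0, 10, 9, 2, 9, 10, 10, 9, 1, 9], [1, 0, 10, 9, 10, 10, 9, 10, 2, 1, 1, 2, 1, 7, 2, 10, 10, 7, 2, 1, 2]]) = 1 :=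
  rot (A := [[1, 0, 10, 9, 10, 10, 9, 10, 2, 1, 1, 2, 1, 7, 2, 10, 10, 7, 2, 1, 2]]) (B := [[0, 10, 10, 9, 2, 1, 11, 1, 9, 11, 11, 7, 2, 0, 2, 9, 2, 10, 16], [9, 9, 11, 10, 11, 16, 1, 1, 11, 16, 10, 11, 10, 10, 11, 1, 0, 1, 1, 0, 1, 9, 10], [9, 9, 16, 0, 2, 1, 2, 9, 11, 16, 0, 10, 9, 2, 9, 10, 10, 9, 1, 9]]) loop10

theorem loop12 : evz (fl [[9, 9, 11, 10, 11, 16, 1, 1, 11, 16, 10, 11, 10, 10, 11, 1, 0, 1, 1, 0, 1, 9, 10], [9, 9, 16, 0, 2, 1, 2, 9, 11, 16, 0, 10, 9, 2, 9, 10, 10, 9, 1, 9], [1, 0, 10, 9, 10, 10, 9, 10, 2, 1, 1, 2, 1, 7, 2, 10, 10, 7, 2, 1, 2], [0, 10, 10, 9, 2, 1, 11, 1, 9, 11, 11, 7, 2, 0, 2, 9, 2, 10, 16]]) = 1 :=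
  rot (A := [[1, 0, 10, 9, 10, 10, 9, 10, 2, 1, 1, 2, 1, 7, 2, 10, 10, 7, 2, 1, 2], [0, 10, 10, 9, 2, 1, 11, 1, 9, 11, 11, 7, 2, 0, 2, 9, 2, 10, 16]]) (B := [[9, 9, 11, 10, 11, 16, 1, 1, 11, 16, 10, 11, 10, 10, 11, 1, 0, 1, 1, 0, 1, 9, 10], [9, 9, 16, 0, 2, 1, 2, 9, 11, 16, 0, 10, 9, 2, 9, 10, 10, 9, 1, 9]]) loop10

theorem loop13 : evz (fl [[9, 9, 16, 0, 2, 1, 2, 9, 11, 16, 0, 10, 9, 2, 9, 10, 10, 9, 1, 9], [1, 0, 10, 9, 10, 10, 9, 10, 2, 1, 1, 2, 1, 7, 2, 10, 10, 7, 2, 1, 2], [0, 10, 10, 9, 2, 1, 11, 1, 9, 11, 11, 7, 2, 0, 2, 9, 2, 10, 16], [9, 9, 11, 10, 11, 16, 1, 1, 11, 16, 10, 11, 10, 10, 11, 1, 0, 1, 1, 0, 1, 9, 10]]) = 1 :=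
  rot (A := [[1, 0, 10, 9, 10, 10, 9, 10, 2, 1, 1, 2, 1, 7, 2, 10, 10, 7, 2, 1, 2], [0, 10, 10, 9, 2, 1, 11, 1, 9, 11, 11, 7, 2, 0, 2, 9, 2, 10, 16], [9, 9, 11, 10, 11, 16, 1, 1, 11, 16, 10, 11, 10, 10, 11, 1, 0, 1, 1, 0, 1, 9, 10]]) (B := [[9, 9, 16, 0, 2, 1, 2, 9, 11, 16, 0, 10, 9, 2, 9, 10, 10, 9, 1, 9]]) loop10

theorem loop14 : evz (fl [[1, 7], [1, 1, 9, 10, 9, 1, 1, 11, 0, 2, 9, 11, 7, 11, 1, 1, 9, 2, 1], [9, 9, 16, 10], [9, 9, 11, 9, 2, 1, 11, 16, 2, 9, 2, 0, 2, 10, 9, 10, 9, 1]]) = 1 := by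
  have hx96 : mk Cfsg.Spor.Ly.x96 = ev [1, 7] := by
    have e : mk (Cfsg.Spor.Ly.x96 * ((Cfsg.Spor.Ly.b * Cfsg.Spor.Ly.d)⁻¹)) = 1 := mk_rel 54 (by decide)
    rw [map_mul, map_inv, mul_inv_eq_one] at e
    rw [e]
    simp [ev, letLy, pow_two, mul_assoc]
  have hx25 : mk Cfsg.Spor.Ly.x25 = ev [1, 1, 9, 10, 9, 1, 1, 11, 0, 2, 9, 11, 7, 11, 1, 1, 9, 2, 1] := by
    have e : mk (Cfsg.Spor.Ly.x25 * (((Cfsg.Spor.Ly.b ^ 2) * (Cfsg.Spor.Ly.a⁻¹) * (Cfsg.Spor.Ly.b⁻¹) * (Cfsg.Spor.Ly.a⁻¹) * (Cfsg.Spor.Ly.b ^ 2) * (Cfsg.Spor.Ly.c⁻¹) * Cfsg.Spor.Ly.a * Cfsg.Spor.Ly.c * (Cfsg.Spor.Ly.a⁻¹) * (Cfsg.Spor.Ly.c⁻¹) * Cfsg.Spor.Ly.d * (Cfsg.Spor.Ly.c⁻¹) * (Cfsg.Spor.Ly.b ^ 2) * (Cfsg.Spor.Ly.a⁻¹) * Cfsg.Spor.Ly.c * Cfsg.Spor.Ly.b)⁻¹)) = 1 := mk_rel 51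 (by decide)
    rw [map_mul, map_inv, mul_inv_eq_one] at e
    rw [e]
    simp [ev, letLy, pow_two, mul_assoc]
  have hx129 : mk Cfsg.Spor.Ly.x129 = ev [16, 10] := by
    have e : mk (Cfsg.Spor.Ly.x129 * (((Cfsg.Spor.Ly.d⁻¹) * (Cfsg.Spor.Ly.b⁻¹))⁻¹)) = 1 := mk_rel 55 (by decide)
    rw [map_mul, map_inv, mul_inv_eq_one] at e
    rw [e]
    simp [ev, letLy, pow_two, mul_assoc]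
  have hx371 : mk Cfsg.Spor.Ly.x371 = ev [11, 9, 2, 1, 11, 16, 2, 9, 2, 0, 2, 10, 9, 10, 9, 1] := by
    have e : mk (Cfsg.Spor.Ly.x371 * (((Cfsg.Spor.Ly.c⁻¹) * (Cfsg.Spor.Ly.a⁻¹) * Cfsg.Spor.Ly.c * Cfsg.Spor.Ly.b * (Cfsg.Spor.Ly.c⁻¹) * (Cfsg.Spor.Ly.d⁻¹) * Cfsg.Spor.Ly.c * (Cfsg.Spor.Ly.a⁻¹) * Cfsg.Spor.Ly.c * Cfsg.Spor.Ly.a * Cfsg.Spor.Ly.c * (Cfsg.Spor.Ly.b⁻¹) * (Cfsg.Spor.Ly.a⁻¹) * (Cfsg.Spor.Ly.b⁻¹) * (Cfsg.Spor.Ly.a⁻¹) * Cfsg.Spor.Ly.b)⁻¹)) = 1 := mk_rel 71 (by decide)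
    rw [map_mul, map_inv, mul_inv_eq_one] at e
    rw [e]
    simp [ev, letLy, pow_two, mul_assoc]
  have h : mk (Cfsg.Spor.Ly.z * Cfsg.Spor.Ly.x96 * Cfsg.Spor.Ly.z * Cfsg.Spor.Ly.x25 * (Cfsg.Spor.Ly.z⁻¹) * Cfsg.Spor.Ly.x129 * (Cfsg.Spor.Ly.z⁻¹) * Cfsg.Spor.Ly.x371) = 1 := mk_rel 85 (by decide)
  simp only [map_mul, map_inv, map_pow, hx96, hx25, hx129, hx371] at h
  change _ = (1 : L) at h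
  rw [show mk Cfsg.Spor.Ly.z = Z from rfl] at h
  rw [z_inv] at h
  repeat rw [fl_cons (by decide)]
  rw [fl_nil]
  rw [show ev [9, 9, 16, 10] = ev [9, 9] * ev [16, 10] from ev_append [9, 9] [16, 10]]
  rw [show ev [9, 9, 11, 9, 2, 1, 11, 16, 2, 9, 2, 0, 2, 10, 9, 10, 9, 1] = ev [9, 9] * ev [11, 9, 2, 1, 11, 16, 2, 9, 2, 0, 2, 10, 9, 10, 9, 1] from ev_append [9, 9] [11, 9, 2, 1, 11, 16, 2, 9, 2, 0, 2, 10, 9, 10, 9, 1]]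
  simpa [mul_assoc] using h

theorem loop15 : evz (fl [[1, 1, 9, 10, 9, 1, 1, 11, 0, 2, 9, 11, 7, 11, 1, 1, 9, 2, 1], [9, 9, 16, 10], [9, 9, 11, 9, 2, 1, 11, 16, 2, 9, 2, 0, 2, 10, 9, 10, 9, 1], [1, 7]]) = 1 :=
  rot (A := [[1, 7]]) (B := [[1, 1, 9, 10, 9, 1, 1, 11, 0, 2, 9, 11, 7, 11, 1, 1, 9, 2, 1], [9, 9, 16, 10], [9, 9, 11, 9, 2, 1, 11, 16, 2, 9, 2, 0, 2, 10, 9, 10, 9, 1]]) loop14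

theorem loop16 : evz (fl [[9, 9, 16, 10], [9, 9, 11, 9, 2, 1, 11, 16, 2, 9, 2, 0, 2, 10, 9, 10, 9, 1], [1, 7], [1, 1, 9, 10, 9, 1, 1, 11, 0, 2, 9, 11, 7, 11, 1, 1, 9, 2, 1]]) = 1 :=
  rot (A := [[1, 7], [1, 1, 9, 10, 9, 1, 1, 11, 0, 2, 9, 11, 7, 11, 1, 1, 9, 2, 1]]) (B := [[9, 9, 16, 10], [9, 9, 11, 9, 2, 1, 11, 16, 2, 9, 2, 0, 2, 10, 9, 10, 9, 1]]) loop14

theorem loop17 : evz (fl [[9, 9, 11, 9, 2, 1, 11, 16, 2, 9, 2, 0, 2, 10, 9, 10, 9, 1], [1, 7], [1, 1, 9, 10, 9, 1, 1, 11, 0, 2, 9, 11, 7, 11, 1, 1, 9, 2, 1], [9, 9, 16, 10]]) = 1 :=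
  rot (A := [[1, 7], [1, 1, 9, 10, 9, 1, 1, 11, 0, 2, 9, 11, 7, 11, 1, 1, 9, 2, 1], [9, 9, 16, 10]]) (B := [[9, 9, 11, 9, 2, 1, 11, 16, 2, 9, 2, 0, 2, 10, 9, 10, 9, 1]]) loop14

end Cfsg.Agent.LyOrbitLoops41
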