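import Cfsg.Agent.Lib.LyOutTest66

/-!
Only the identity of the presented Lyons group commutes with the subgroup of G2(5) that `z` conjugates into it,
and the normaliser of `Q` is the parabolic subgroup extended by `z`.
-/

set_option autoImplicit false
set_option maxRecDepth 100000
set_option maxHeartbeats 1000000

namespace Cfsg.Agent.LyOutCent66

open Cfsg Cfsg.Agent.LyG2Five64 Cfsg.Agent.LyMultWords66 Cfsg.Agent.LyOutBase66 Cfsg.Agent.LyOutData66
open Cfsg.Agent.LyOutSub66 Cfsg.Agent.LyOutTest66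
open Cfsg.Agent.LyOrbitCore41 (L ev Z eq_ev ev_append ev_nil ev_H okW mem_K K)
open Cfsg.Agent.LyOrbitCover41 (P p5)
open scoped commutatorElement

theorem U_H : ev wU ∈ HLy := ev_H rfl

theorem Zi_eq : Z⁻¹ = (ev wU)⁻¹ * Z := by
  rw [show ev wU = Z * Z from LyOrbitCore41.z_sq.symm]; group

theorem Zi_eq' : Z⁻¹ = Z * (ev wU)⁻¹ := by
  rw [show ev wU = Z * Z from LyOrbitCore41.z_sq.symm]; group

theorem zK {x : L} (hx : x ∈ K) : Z⁻¹ * x * Z ∈ K ∧ Z * x * Z⁻¹ ∈ K := by
  obtain ⟨hH, hz⟩ := mem_K.mp hx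
  have hz' : Z * x * Z⁻¹ = ev wU * (Z⁻¹ * x * Z) * (ev wU)⁻¹ := by
    rw [show ev wU = Z * Z from LyOrbitCore41.z_sq.symm]; group
  have hH' : Z * x * Z⁻¹ ∈ HLy := hz'.symm ▸ mul_mem (mul_mem U_H hz) (inv_mem U_H)
  refine ⟨mem_K.mpr ⟨hz, ?_⟩, mem_K.mpr ⟨hH', ?_⟩⟩
  · rw [show Z⁻¹ * (Z⁻¹ * x * Z) * Z = (ev wU)⁻¹ * x * ev wU by
      rw [show ev wU = Z * Z from LyOrbitCore41.z_sq.symm]; group]
    exact mul_mem (mul_mem (inv_mem U_H) hH) U_H
  · rw [show Z⁻¹ * (Z * x * Z⁻¹) * Z = x by group]; exact hH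

theorem Z_norm : Z ∈ Subgroup.normalizer (Q : Set L) := by
  refine norm_of_cj (K_unique (fun y hy => ?_) (by rw [card_cj, cards.2.2]))
  obtain ⟨x, hx, rfl⟩ := hy
  exact (zK (Q_le_K hx)).2

/-- The inverses of the five representatives. -/
noncomputable def fiveOk : Bool :=
  (List.range 5).all fun p => Nat.blt (fiveI.getD p 0) 5 &&
    LyMultWords66.same (wi (p5.getD p []) ++ p5.getD p []) [] &&
    LyMultWords66.same (wi (p5.getD p [])) (subw gW (fiveK.getD p []) ++ List.replicate (fiveI.getD p 0) 1)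

theorem five_ok : fiveOk = true := by decide +kernel

theorem P_right {h : L} (hh : h ∈ P) : ∃ k ∈ K, ∃ i : ℕ, h = k * ev (List.replicate i 1) := by
  obtain ⟨p, hp, k, hk, e⟩ := P_five h⁻¹ (inv_mem hh)
  have h5 := five_ok
  simp only [fiveOk, List.all_eq_true, List.mem_range, Bool.and_eq_true] at h5
  obtain ⟨⟨-, hw⟩, he⟩ := h5 p hp
  refine ⟨k⁻¹ * ev (subw gW (fiveK.getD p [])), mul_mem (inv_mem (gW_K hk)) (gW_K (subw_mem _ _)),
    fiveI.getD p 0, ?_⟩
  rw [mul_assoc, ← ev_append, ← eq_ev he, ev_wi hw, ← mul_inv_rev, ← e, inv_inv]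

/-- An element of the normaliser of `Q` outside `G2(5)`. -/
theorem NQ_form {g : L} (hn : g ∈ Subgroup.normalizer (Q : Set L)) (hg : g ∉ HLy) :
    ∃ p ∈ P, ∃ h ∈ P, g = p * Z * h := by
  obtain ⟨h1, hh1, h, hh, e, hM⟩ := fix hg (Q_le_K.trans (inf_le_left : K ≤ HLy)) cards.2.2
    fun x hx => (inf_le_left : K ≤ HLy) (Q_le_K (conj_mem hn hx))
  have hP : h ∈ P := normQ_H hh (norm_of_cj hM)
  refine ⟨h1, normQ_H hh1 ?_, h, hP, e⟩
  rw [show h1 = g * h⁻¹ * Z⁻¹ by rw [e]; group]
  exact mul_mem (mul_mem hn (inv_mem (normP_Q hP))) (inv_mem Z_norm)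

theorem five_zero {p : ℕ} (hp : p < 5)
    (h : ∀ y ∈ K, (ev (p5.getD p []))⁻¹ * y * ev (p5.getD p []) ∈ K) : p = 0 := by
  by_contra hne
  have hm := moved_all (p - 1) (by omega)
  rw [show p - 1 + 1 = p by omega] at hm
  simp only [movedK, Bool.and_eq_true, List.any_eq_true] at hm
  obtain ⟨hw, k, hk, i, -, hmv⟩ := hm
  refine LyOrbitNotMem41.not_K hmv ?_
  rw [ev_append, ev_append, ev_wi hw]
  refine h _ (gW_K (mem_cl ?_))
  simp only [List.mem_cons, List.not_mem_nil, or_false] at hk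
  rcases hk with rfl | rfl | rfl <;> decide

theorem left_K {p h : L} (hp : p ∈ P) (hh : h ∈ P) (hc : ∀ y ∈ K, p * Z * h * y = y * (p * Z * h)) : p ∈ K := by
  obtain ⟨i, hi, k, hk, rfl⟩ := P_five p hp
  have hr : ev (p5.getD i []) ∈ P := LyOrbitCover41.p5_P
  have h0 : i = 0 := five_zero hi fun y hy => by
    set r := ev (p5.getD i []) with hrd
    have hx : r⁻¹ * y * r ∈ HLy :=
      mul_mem (mul_mem (inv_mem (LyOrbitCover41.P_le hr)) (mem_K.mp hy).1) (LyOrbitCover41.P_le hr)
    have hk' := gW_K hk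
    have he : Z⁻¹ * (k⁻¹ * (r⁻¹ * y * r) * k) * Z = h * y * h⁻¹ := by
      have := hc y hy
      calc Z⁻¹ * (k⁻¹ * (r⁻¹ * y * r) * k) * Z = (r * k * Z)⁻¹ * (y * (r * k * Z * h)) * h⁻¹ := by group
        _ = h * y * h⁻¹ := by rw [← this]; group
    have hK : k⁻¹ * (r⁻¹ * y * r) * k ∈ K := by
      refine mem_K.mpr ⟨mul_mem (mul_mem (inv_mem (mem_K.mp hk').1) hx) (mem_K.mp hk').1, ?_⟩
      rw [he]
      exact mul_mem (mul_mem (LyOrbitCover41.P_le hh) (mem_K.mp hy).1) (inv_mem (LyOrbitCover41.P_le hh))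
    have := mul_mem (mul_mem hk' hK) (inv_mem hk')
    simpa [mul_assoc] using this
  subst h0
  simpa [p5, ev_nil] using gW_K hk

/-- The centre of order five of `Q`. -/
theorem Zc_elts {x : L} (hx : x ∈ cl sZ) : ∃ m < 5, x = ev (List.replicate m 6) := by
  refine cl_finite_induction (motive := fun x => ∃ m < 5, x = ev (List.replicate m 6))
    ⟨0, by norm_num, by simp [ev_nil]⟩ ?_ x hx
  rintro _ ⟨m, hm, rfl⟩ w hw
  obtain rfl := List.mem_singleton.mp hw
  refine ⟨(m + 1) % 5, by omega, ?_⟩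
  rw [← ev_append]
  refine eq_ev ?_
  interval_cases m <;> decide +kernel

theorem commQ {q x : L} (hq : q ∈ Q) (hx : x ∈ Q) : ⁅x, q⁆ ∈ cl sZ := by
  have hn : Q ≤ Subgroup.normalizer (cl sZ : Set L) := le_normalizer fun w hw => by
    simp only [sQ, s4, s3, sJ, sZ, List.mem_cons, List.not_mem_nil, or_false] at hw
    refine conjOk_spec (D := [[0]]) ?_
    rcases hw with rfl | rfl | rfl | rfl | rfl <;> decide +kernel
  exact comm_le (D := q2) (by decide +kernel) hn hn (Subgroup.commutator_mem_commutator hx hq)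

theorem pow_form {S : List (List ℕ)} {w : List ℕ} (hn : ev w ∈ Subgroup.normalizer (cl S : Set L))
    (h5 : ev w ^ 5 = 1) {g : L} (hg : g ∈ cl (w :: S)) : ∃ k ∈ cl S, ∃ n < 5, g = k * ev w ^ n := by
  rw [cl_cons] at hg
  have hz : Subgroup.zpowers (ev w) ≤ Subgroup.normalizer (cl S : Set L) := Subgroup.zpowers_le.2 hn
  have hg' : g ∈ ((cl S ⊔ Subgroup.zpowers (ev w) : Subgroup L) : Set L) := hg
  rw [Subgroup.coe_mul_of_right_le_normalizer_left _ _ hz] at hg'
  obtain ⟨k, hk, y, ⟨n, rfl⟩, rfl⟩ := hg'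
  refine ⟨k, hk, (n % 5).toNat, by omega, ?_⟩
  show k * ev w ^ n = _
  congr 1
  rw [← zpow_natCast, Int.toNat_of_nonneg (Int.emod_nonneg _ (by norm_num))]
  conv_lhs => rw [← Int.mul_ediv_add_emod n 5, zpow_add, zpow_mul, zpow_ofNat, h5, one_zpow, one_mul]

theorem ev_pow (w : List ℕ) (n : ℕ) : ev w ^ n = ev (List.replicate n w).flatten := by
  induction n with
  | zero => simp [ev_nil]
  | succ n ih => rw [List.replicate_succ', List.flatten_append, ev_append, pow_succ, ih]; simp

theorem letters_Q {w : List ℕ} (h : w.all (fun i => [2, 3, 4, 5].contains i) = true) : ev w ∈ Q := by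
  induction w with
  | nil => rw [ev_nil]; exact one_mem _
  | cons i w ih =>
    simp only [List.all_cons, Bool.and_eq_true, List.contains_iff_mem, List.mem_cons, List.not_mem_nil,
      or_false] at h
    rw [show i :: w = [i] ++ w from rfl, ev_append]
    refine mul_mem ?_ (ih (by simpa using h.2))
    rcases h.1 with rfl | rfl | rfl | rfl
    · exact s4_le_Q (letters_s4 (by decide))
    · exact mem_cl (by decide)
    · exact s4_le_Q (letters_s4 (by decide))
    · exact s4_le_Q (letters_s4 (by decide))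

/-- The test of one level: the word `y` centralises the lower subgroup and moves the powers of the next generator. -/
noncomputable def levelOk (S : List (List ℕ)) (x y : List ℕ) : Bool :=
  y.all (fun i => [2, 3, 4, 5].contains i) && (S.all fun s => LyMultWords66.same (y ++ s) (s ++ y)) &&
    (List.range 4).all fun n => diff (y ++ (List.replicate (n + 1) x).flatten)
      ((List.replicate (n + 1) x).flatten ++ y)

theorem level {S : List (List ℕ)} {x : List ℕ} (y : List ℕ) (h : levelOk S x y = true)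
    (hn : ev x ∈ Subgroup.normalizer (cl S : Set L)) (h5 : ev x ^ 5 = 1) {q : L} (hq : q ∈ cl (x :: S))
    (hQ : ∀ v ∈ Q, q * v = v * q) : q ∈ cl S := by
  simp only [levelOk, Bool.and_eq_true, List.all_eq_true (l := List.range 4), List.mem_range] at h
  obtain ⟨⟨hy, hS⟩, hd⟩ := h
  obtain ⟨q1, hq1, n, hn5, rfl⟩ := pow_form hn h5 hq
  rcases n with _ | n
  · simpa using hq1
  exfalso
  have h1 : cl S ≤ Subgroup.centralizer {ev y} := cl_le.2 fun w hw => by
    rw [Subgroup.mem_centralizer_singleton_iff, ← ev_append, ← ev_append]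
    exact (eq_ev (List.all_eq_true.mp hS w hw)).symm
  have hc := Subgroup.mem_centralizer_singleton_iff.mp (h1 hq1)
  have h' := hQ _ (letters_Q hy)
  rw [← mul_assoc (ev y), ← hc, mul_assoc, mul_assoc, mul_right_inj] at h'
  refine ev_ne (hd n (by omega)) ?_
  rw [ev_append, ev_append, ← ev_pow]
  exact h'.symm

/-- An element of `Q` commuting with `Q` and with `a` is trivial. -/
theorem Q_cent {q : L} (hq : q ∈ Q) (hQ : ∀ x ∈ Q, q * x = x * q) (ha : q * ev [0] = ev [0] * q) : q = 1 := by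
  have h1 := level [2, 4, 4, 5, 5] (by decide +kernel) norm_c2 (pow_five (by decide +kernel)) hq hQ
  have h2 := level [4, 5, 5, 5, 5] (by decide +kernel) norm_c1 (pow_five (by decide +kernel)) h1 hQ
  have h3 := level [3, 5] (by decide +kernel) norm_y3 (pow_five (by decide +kernel)) h2 hQ
  have h4 := level [5] (by decide +kernel) norm_x3 (pow_five (by decide +kernel)) h3 hQ
  obtain ⟨m, hm, rfl⟩ := Zc_elts h4
  interval_cases m
  · simp [ev_nil]
  all_goals
    rw [← ev_append, ← ev_append] at ha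
    exact (ev_ne (by decide +kernel) ha).elim

theorem cent_trivial {c : L} (hc : ∀ y ∈ K, c * y = y * c) : c = 1 := by
  have hcQ : c ∈ Subgroup.normalizer (Q : Set L) := norm_of_cj (by
    ext x
    rw [mem_cj]
    constructor
    · intro h
      have := hc _ (Q_le_K h)
      have e : c⁻¹ * x * c = x := by
        have h2 : c * (c⁻¹ * x * c) = c⁻¹ * x * c * c := this
        calc c⁻¹ * x * c = c⁻¹ * x * c * c * c⁻¹ := by group
          _ = x := by rw [← h2]; group
      rwa [e] at h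
    · intro h
      rwa [mul_assoc, ← hc x (Q_le_K h), inv_mul_cancel_left])
  have hn := fun (n : ℕ) (h : n < 96) => by
    have := n_test_all (n / 8) (by omega)
    simp only [nTest, List.all_eq_true, List.mem_range] at this
    have h' := this (n % 8) (by omega)
    rw [show 8 * (n / 8) + n % 8 = n by omega] at h'
    exact h'
  simp only [Bool.and_eq_true, List.all_eq_true, List.mem_range, Nat.blt_eq] at hn
  have haK : ev [0] ∈ K := gW_K (mem_cl (by decide))
  by_cases hH : c ∈ HLy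
  · have hP := normQ_H hH hcQ
    obtain ⟨p, hp, k, hk, e⟩ := P_five c hP
    have h0 : p = 0 := five_zero hp fun y hy => by
      have hk' := gW_K hk
      have := mul_mem (mul_mem hk' hy) (inv_mem hk')
      convert this using 1
      have e' : ev (p5.getD p []) = c * k⁻¹ := by rw [e, mul_inv_cancel_right]
      rw [e', mul_inv_rev, inv_inv]
      calc k * c⁻¹ * y * (c * k⁻¹) = k * (c⁻¹ * (y * c)) * k⁻¹ := by group
        _ = k * y * k⁻¹ := by rw [← hc y hy, inv_mul_cancel_left]
    subst h0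
    have hcK : c ∈ K := by rw [e]; simpa [p5, ev_nil] using gW_K hk
    obtain ⟨q, hq, n, hn96, rfl⟩ := K_form hcK
    obtain ⟨⟨⟨⟨hnw, -⟩, -⟩, -⟩, ht⟩ := hn n hn96
    cases hb : Nat.blt (nT1.getD n 9) 5 with
    | true =>
      rw [hb, cond_true, Bool.and_eq_true, List.all_eq_true] at ht
      exfalso
      obtain ⟨hxw, hd⟩ := ht
      set k := nT1.getD n 9 with hkd
      have hk5 : k < 5 := Nat.blt_eq.mp hb
      have hxQ : ev (gW.getD k []) ∈ Q := by
        interval_cases k
        · exact s4_le_Q (letters_s4 (by decide))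
        · exact mem_cl (by decide)
        · exact s4_le_Q (letters_s4 (by decide))
        · exact s4_le_Q (letters_s4 (by decide))
        · exact mem_cl (by decide)
      have hy : nEl n * ev (gW.getD k []) * (nEl n)⁻¹ ∈ Q := conj_mem (normP_Q (subw_P _)) hxQ
      have hcomm := commQ hq hy
      have e2 : nEl n * ev (gW.getD k []) * (nEl n)⁻¹ * (ev (gW.getD k []))⁻¹ =
          ⁅nEl n * ev (gW.getD k []) * (nEl n)⁻¹, q⁆ := by
        have := hc _ (Q_le_K hxQ)
        have e3 : ev (gW.getD k []) = q * (nEl n * ev (gW.getD k []) * (nEl n)⁻¹) * q⁻¹ := by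
          calc ev (gW.getD k []) = ev (gW.getD k []) * (q * nEl n) * (q * nEl n)⁻¹ := by group
            _ = _ := by rw [← this]; group
        conv_lhs => arg 2; rw [e3]
        rw [commutatorElement_def]; group
      rw [← e2] at hcomm
      obtain ⟨m, hm, he⟩ := Zc_elts hcomm
      refine ev_ne (hd m (List.mem_range.2 hm)) ?_
      rw [ev_append, ev_append, ev_append, ev_wi hnw, ev_wi hxw]
      exact he
    | false =>
      rw [hb, cond_false] at ht
      have hn1 : nEl n = 1 := by rw [nEl, eq_ev ht, ev_nil]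
      rw [hn1, mul_one] at hc ⊢
      exact Q_cent hq (fun x hx => hc x (Q_le_K hx)) (hc _ haK)
  · exfalso
    obtain ⟨p, hp, h, hh, rfl⟩ := NQ_form hcQ hH
    have hpK := left_K hp hh hc
    have hhK : h ∈ K := by
      have e : (p * Z * h)⁻¹ = h⁻¹ * (ev wU)⁻¹ * Z * p⁻¹ := by
        rw [mul_inv_rev, mul_inv_rev, Zi_eq]; group
      have hUK : ev wU ∈ K := gW_K (by
        have := subw_mem gW [5, 5]
        rwa [eq_ev (v := subw gW [5, 5]) (w := wU) (by decide +kernel)] at this)
      have := left_K (p := h⁻¹ * (ev wU)⁻¹) (h := p⁻¹) (mul_mem (inv_mem hh) (inv_mem (K_le_P hUK)))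
        (inv_mem hp) fun y hy => by
          rw [← e]
          calc (p * Z * h)⁻¹ * y = (p * Z * h)⁻¹ * (y * (p * Z * h)) * (p * Z * h)⁻¹ := by group
            _ = y * (p * Z * h)⁻¹ := by rw [← hc y hy]; group
      have := mul_mem this hUK
      rw [inv_mul_cancel_right] at this
      exact inv_mem_iff.mp this
    obtain ⟨q, hq, n, hn96, e⟩ := K_form (mul_mem (zK hpK).1 hhK)
    have ec : p * Z * h = Z * (q * nEl n) := by rw [← e]; group
    obtain ⟨⟨⟨⟨hnw, hk5⟩, hxw⟩, hd⟩, -⟩ := hn n hn96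
    set k := nT2.getD n 9 with hkd
    have hxQ : ev (gW.getD k []) ∈ Q := by
      interval_cases k
      · exact s4_le_Q (letters_s4 (by decide))
      · exact mem_cl (by decide)
      · exact s4_le_Q (letters_s4 (by decide))
      · exact s4_le_Q (letters_s4 (by decide))
      · exact mem_cl (by decide)
    have hcomm := commQ hq (conj_mem (normP_Q (subw_P (nW.getD n []))) hxQ)
    have hz : Z⁻¹ * ev (gW.getD k []) * Z = ev (hW.getD k []) := by
      have := zc [k]
      simpa [subw] using this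
    have h1 := hc _ (Q_le_K hxQ)
    rw [ec] at h1
    have e3 : ev (hW.getD k []) = q * (nEl n * ev (gW.getD k []) * (nEl n)⁻¹) * q⁻¹ := by
      rw [← hz]
      calc Z⁻¹ * ev (gW.getD k []) * Z = Z⁻¹ * (ev (gW.getD k []) * (Z * (q * nEl n))) * (q * nEl n)⁻¹ := by group
        _ = _ := by rw [← h1]; group
    obtain ⟨m, hm, he⟩ := Zc_elts hcomm
    refine ev_ne (hd m hm) ?_
    rw [ev_append, ev_append, ev_append, ev_wi hnw, ev_wi hxw, ← he, e3, commutatorElement_def]
    show nEl n * _ * (nEl n)⁻¹ * _ = _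
    group
    rfl

end Cfsg.Agent.LyOutCent66
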