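import Cfsg.Agent.Lib.LyOutSix66
import Cfsg.Agent.Lib.LyOutCent66
import Cfsg.Agent.S2121
import Cfsg.Prelude.Def_KGroupFacts

/-!
Every automorphism of the presented Lyons group is inner.
-/

set_option autoImplicit false
set_option maxRecDepth 100000
set_option maxHeartbeats 1000000

namespace Cfsg.Agent.LyOut66

open Cfsg Cfsg.Agent.LyG2Five64 Cfsg.Agent.LyMultWords66 Cfsg.Agent.LyOutBase66 Cfsg.Agent.LyOutData66
open Cfsg.Agent.LyOutSub66 Cfsg.Agent.LyOutSix66 Cfsg.Agent.LyOutCent66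
open Cfsg.Agent.LyOrbitCore41 (L ev Z eq_ev ev_append ev_nil ev_H okW mem_K K)
open Cfsg.Agent.LyOrbitCover41 (P)

/-! ### G2(5) -/

theorem inn_top : Inn (Cfsg.Lie.chevG2.group K5) = ⊤ := by
  haveI : Fact (Nat.Prime 5) := ⟨by norm_num⟩
  have h := S2121.result (F := K5) 5 1 (by rw [ZMod.card, pow_one]) (by norm_num)
  rw [if_neg (by norm_num : ¬ (5 : ℕ) = 3)] at h
  exact Subgroup.index_eq_one.mp h

theorem H_inner (e : HLy ≃* HLy) : ∃ h : HLy, ∀ x, e x = h * x * h⁻¹ := by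
  obtain ⟨i⟩ := LyG2Five64.iso
  have hm : i.symm.trans (e.trans i) ∈ Inn (Cfsg.Lie.chevG2.group K5) := inn_top ▸ Subgroup.mem_top _
  obtain ⟨g, hg⟩ := hm
  refine ⟨i.symm g, fun x => ?_⟩
  have h1 := DFunLike.congr_fun hg (i x)
  simp only [MulAut.conj_apply, MulEquiv.trans_apply, MulEquiv.symm_apply_apply] at h1
  apply i.injective
  rw [← h1]
  simp

/-! ### Sylow subgroups -/

theorem fac_five {n : ℕ} (h1 : 5 ^ 6 ∣ n) (h2 : n ∣ 51765179004000000) : n.factorization 5 = 6 := by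
  have hn : n ≠ 0 := fun h => by rw [h] at h2; simp at h2
  have h5 : Nat.Prime 5 := by norm_num
  refine le_antisymm ?_ ((h5.pow_dvd_iff_le_factorization hn).mp h1)
  by_contra hlt
  have := ((h5.pow_dvd_iff_le_factorization hn).mpr (show 7 ≤ n.factorization 5 by omega)).trans h2
  norm_num at this

theorem syl_conj {G : Type} [Group G] [Finite G] {A B : Subgroup G}
    (hA : Nat.card A = 5 ^ (Nat.card G).factorization 5) (hB : Nat.card B = 5 ^ (Nat.card G).factorization 5) :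
    ∃ g : G, ∀ x, x ∈ B ↔ g⁻¹ * x * g ∈ A := by
  haveI : Fact (Nat.Prime 5) := ⟨by norm_num⟩
  obtain ⟨g, hg⟩ := MulAction.exists_smul_eq G (Sylow.ofCard A hA) (Sylow.ofCard B hB)
  refine ⟨g, fun x => ?_⟩
  have h : ((g • Sylow.ofCard A hA : Sylow 5 G) : Subgroup G) = B := by rw [hg, Sylow.coe_ofCard]
  rw [← h, Sylow.coe_subgroup_smul, Subgroup.mem_pointwise_smul_iff_inv_smul_mem, Sylow.coe_ofCard]
  simp

theorem conj_in {N : Subgroup L} {A : Subgroup L} (hP : Pp ≤ N) (hA : A ≤ N) (hc : Nat.card A = 15625) :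
    ∃ g ∈ N, A = cj g Pp := by
  have hN : 5 ^ 6 ∣ Nat.card N := by
    have := Subgroup.card_dvd_of_le hP
    rw [card_Pp] at this
    simpa using this
  have hf := fac_five hN (LyOrbitIndex41.order ▸ Subgroup.card_subgroup_dvd_card N)
  obtain ⟨⟨g, hg⟩, h⟩ := syl_conj (A := Pp.subgroupOf N) (B := A.subgroupOf N)
    (by rw [Nat.card_congr (Subgroup.subgroupOfEquivOfLe hP).toEquiv, card_Pp, hf]; norm_num)
    (by rw [Nat.card_congr (Subgroup.subgroupOfEquivOfLe hA).toEquiv, hc, hf]; norm_num)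
  refine ⟨g, hg, ?_⟩
  ext x
  rw [mem_cj]
  constructor
  · intro hx
    exact (h ⟨x, hA hx⟩).mp hx
  · intro hx
    have hxN : x ∈ N := by
      have := mul_mem (mul_mem hg (hP hx)) (inv_mem hg)
      simpa [mul_assoc] using this
    exact (h ⟨x, hxN⟩).mpr hx

theorem map_norm (φ : L ≃* L) {M : Subgroup L} {x : L} (h : x ∈ Subgroup.normalizer (M : Set L)) :
    φ x ∈ Subgroup.normalizer ((M.map φ.toMonoidHom : Subgroup L) : Set L) :=
  Subgroup.le_normalizer_map _ ⟨x, h, rfl⟩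

theorem map_card (φ : L ≃* L) (M : Subgroup L) : Nat.card (M.map φ.toMonoidHom) = Nat.card M :=
  (Nat.card_congr (M.equivMapOfInjective _ φ.injective).toEquiv).symm

theorem P_le_NQ : P ≤ Subgroup.normalizer (Q : Set L) := normP_Q

theorem a_P : ev [0] ∈ P := S_P 1 (by norm_num)

/-- The other Sylow subgroup of the parabolic subgroup. -/
theorem S_one : S 1 = cj (ev [0]) Pp := rfl

/-- The test that `a` moves the third term. -/
noncomputable def moveOk : Bool :=
  LyMultWords66.same (wi [0] ++ [0]) [] &&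
    (s3.all fun w => LyMultWords66.same (w ++ [4, 5, 5, 5, 5]) ([4, 5, 5, 5, 5] ++ w)) &&
    diff ([0] ++ [4, 5, 5, 5, 5] ++ wi [0] ++ [4, 5, 5, 5, 5]) ([4, 5, 5, 5, 5] ++ ([0] ++ [4, 5, 5, 5, 5] ++ wi [0]))

theorem move_ok : moveOk = true := by decide +kernel

theorem D3_move : D3 (S 1) ≠ D3 Pp := by
  have h := move_ok
  simp only [moveOk, Bool.and_eq_true, List.all_eq_true] at h
  obtain ⟨⟨hw, hc⟩, hd⟩ := h
  intro e
  rw [S_one, D3_cj, D3_Pp] at e
  have hy : ev [4, 5, 5, 5, 5] ∈ cl s3 := mem_cl (by simp [s3, sJ])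
  have hcen : cl s3 ≤ Subgroup.centralizer {ev [4, 5, 5, 5, 5]} := cl_le.2 fun w hw => by
    rw [Subgroup.mem_centralizer_singleton_iff, ← ev_append, ← ev_append]
    exact eq_ev (hc w hw)
  have hm : ev [0] * ev [4, 5, 5, 5, 5] * (ev [0])⁻¹ ∈ cl s3 := e ▸ ⟨_, hy, rfl⟩
  have := Subgroup.mem_centralizer_singleton_iff.mp (hcen hm)
  refine ev_ne hd ?_
  simp only [ev_append, ev_wi hw]
  exact this

/-- The part of G2(5) that is used as generators. -/
noncomputable def rnOk : Bool :=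
  conjOk sR [3] (rn.getD 0 []) && conjOk sR [8] (rn.getD 1 []) && conjOk sR [0, 1, 0, 1, 1, 1, 0] (rn.getD 2 []) &&
    LyMultWords66.same (wi [0] ++ [0]) [] &&
    LyMultWords66.same [0] ([1] ++ [1] ++ [0, 1, 0, 1, 1, 1, 0] ++ [0, 1, 9] ++ [0, 1, 0, 1, 1, 1, 0] ++
      [0, 1, 0, 1, 1, 1, 0]) &&
    LyMultWords66.same [7] [0, 1, 1, 9, 10, 11, 14, 15, 0, 8, 0, 8, 0, 12, 1, 8]

theorem rn_ok : rnOk = true := by decide +kernel

/-- The normalisers of two radicals generate G2(5). -/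
theorem H_gen : HLy ≤ Subgroup.normalizer (R5 : Set L) ⊔
    Subgroup.normalizer ((cj (ev [0]) R5 : Subgroup L) : Set L) := by
  have h := rn_ok
  simp only [rnOk, Bool.and_eq_true] at h
  obtain ⟨⟨⟨⟨⟨hc2, he⟩, ht⟩, hai⟩, ha⟩, hd⟩ := h
  set M := Subgroup.normalizer (R5 : Set L) ⊔ Subgroup.normalizer ((cj (ev [0]) R5 : Subgroup L) : Set L)
  have hR : R5 ≤ M := le_trans Subgroup.le_normalizer le_sup_left
  have l1 : ev [1] ∈ M := hR (mem_cl (by simp [sR]))
  have l2 : ev [2] ∈ M := hR (s4_le_R (letters_s4 (by decide)))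
  have l3 : ev [3] ∈ M := Subgroup.mem_sup_left (conjOk_spec hc2)
  have l5 : ev [5] ∈ M := hR (s4_le_R (letters_s4 (by decide)))
  have l6 : ev [6] ∈ M := hR (mem_cl (by simp [sR, s4, s3, sJ, sZ]))
  have l8 : ev [8] ∈ M := Subgroup.mem_sup_left (conjOk_spec he)
  have lab : ev [0, 1, 9] ∈ M := Subgroup.mem_sup_right (Subgroup.le_normalizer ⟨ev [1], mem_cl (by simp [sR]), by
    show ev [0] * ev [1] * (ev [0])⁻¹ = _
    rw [← ev_wi hai, ← ev_append, ← ev_append]
    rfl⟩)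
  have lt : ev [0, 1, 0, 1, 1, 1, 0] ∈ M := Subgroup.mem_sup_left (conjOk_spec ht)
  have l0 : ev [0] ∈ M := by
    rw [eq_ev ha]
    simp only [ev_append]
    exact mul_mem (mul_mem (mul_mem (mul_mem (mul_mem l1 l1) lt) lab) lt) lt
  have linv : ∀ i < 9, ev [i] ∈ M → ev [i + 9] ∈ M := fun i hi h => by rw [ev_inv_letter hi]; exact inv_mem h
  have lw : ∀ w : List ℕ, (∀ i ∈ w, ev [i] ∈ M) → ev w ∈ M := fun w => by
    induction w with
    | nil => intro _; rw [ev_nil]; exact one_mem _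
    | cons i w ih =>
      intro h
      rw [show i :: w = [i] ++ w from rfl, ev_append]
      exact mul_mem (h i List.mem_cons_self) (ih fun j hj => h j (List.mem_cons_of_mem _ hj))
  have l7 : ev [7] ∈ M := by
    rw [eq_ev hd]
    refine lw _ fun i hi => ?_
    simp only [List.mem_cons, List.not_mem_nil, or_false] at hi
    rcases hi with rfl | rfl | rfl | rfl | rfl | rfl | rfl | rfl | rfl | rfl | rfl | rfl | rfl | rfl | rfl | rfl
    exacts [l0, l1, l1, linv 0 (by norm_num) l0, linv 1 (by norm_num) l1, linv 2 (by norm_num) l2,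
      linv 5 (by norm_num) l5, linv 6 (by norm_num) l6, l0, l8, l0, l8, l0, linv 3 (by norm_num) l3, l1, l8]
  rw [HLy, MonoidHom.map_closure, Subgroup.closure_le]
  rintro _ ⟨w, hw, rfl⟩
  have e : ∀ i, ev [i] = letLy i := fun i => by simp [ev]
  simp only [Set.mem_insert_iff, Set.mem_singleton_iff] at hw
  rcases hw with rfl | rfl | rfl | rfl
  · have := l0; rw [e] at this; exact this
  · have := l1; rw [e] at this; exact this
  · have := l2; rw [e] at this; exact this
  · have := l7; rw [e] at this; exact this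

/-- An automorphism fixing the Sylow subgroup keeps G2(5). -/
theorem fix_H (φ : L ≃* L) (hφ : Pp.map φ.toMonoidHom = Pp) : (HLy : Subgroup L).map φ.toMonoidHom = HLy := by
  have hQ : Q.map φ.toMonoidHom = Q := only_Q
    ((Subgroup.map_mono Q_le_Pp).trans hφ.le) (by rw [map_card, cards.2.2]) ((class2_map φ Q).mpr class2_Q)
  have hn : ∀ x ∈ Subgroup.normalizer (Q : Set L), φ x ∈ Subgroup.normalizer (Q : Set L) := fun x hx => by
    have := map_norm φ hx
    rwa [hQ] at this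
  set A := (S 1).map φ.toMonoidHom with hAdef
  have hS1 : S 1 ≤ P := (le_sup_right : S 1 ≤ W6).trans W6_le_P
  have hA : A ≤ Subgroup.normalizer (Q : Set L) := by
    rintro _ ⟨x, hx, rfl⟩
    exact hn x (P_le_NQ (hS1 hx))
  obtain ⟨g, hg, hgA⟩ := conj_in (Pp_le_P.trans P_le_NQ) hA (by rw [map_card, S, card_cj, card_Pp])
  have hAH : A ≤ HLy := by
    by_cases hgH : g ∈ HLy
    · rw [hgA]
      exact (cj_le_P (normQ_H hgH hg) Pp_le_P).trans LyOrbitCover41.P_le
    exfalso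
    obtain ⟨p, hp, h, hh, rfl⟩ := NQ_form hg hgH
    obtain ⟨k, hk, i, rfl⟩ := P_right hh
    have hA' : A = cj (p * (Z * k * Z⁻¹)) (cj Z Pp) := by
      rw [hgA, show p * Z * (k * ev (List.replicate i 1)) = p * (Z * k * Z⁻¹) * Z * ev (List.replicate i 1) by group,
        ← cj_cj, cj_of_mem (b_mem i), ← cj_cj]
    rcases key (mul_mem hp (K_le_P (zK hk).2)) with he | hlt
    · rw [← hA', hAdef, D3_map] at he
      have e2 : (D3 (S 1)).map φ.toMonoidHom = (D3 Pp).map φ.toMonoidHom := by rw [he, ← D3_map, hφ]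
      exact D3_move (Subgroup.map_injective φ.injective e2)
    · rw [← hA', hAdef] at hlt
      conv_rhs at hlt => rw [← hφ]
      rw [← Subgroup.map_sup, map_card, ← S_zero] at hlt
      exact lt_irrefl _ hlt
  have hmap : ∀ M : Subgroup L, M.map φ.toMonoidHom ≤ HLy → Nat.card M = 3125 → ¬ Class2 M →
      (Subgroup.normalizer (M : Set L)).map φ.toMonoidHom ≤ HLy := by
    rintro M hM hc h2 _ ⟨x, hx, rfl⟩
    exact norm_le_H hM (by rw [map_card, hc]) (fun h => h2 ((class2_map φ M).mp h)) (map_norm φ hx)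
  have h1 := hmap R5 (((Subgroup.map_mono R_le_Pp).trans hφ.le).trans Pp_le_H) card_R class_R
  have h2 := hmap (cj (ev [0]) R5) ((Subgroup.map_mono (cj_mono R_le_Pp)).trans hAH)
    (by rw [card_cj, card_R]) (fun h => class_R ((class2_map (MulAut.conj (ev [0])) R5).mp h))
  refine Subgroup.eq_of_le_of_card_ge ((Subgroup.map_mono H_gen).trans ?_) (by rw [map_card])
  rw [Subgroup.map_sup]
  exact sup_le h1 h2

theorem inner (φ : L ≃* L) : φ ∈ Inn L := by
  haveI := LyOrbitCount41.finite_H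
  obtain ⟨g, -, hg⟩ := conj_in (N := ⊤) (A := Pp.map φ.toMonoidHom) le_top le_top (by rw [map_card, card_Pp])
  set φ1 := φ.trans (MulAut.conj g⁻¹) with hφ1
  have hP : Pp.map φ1.toMonoidHom = Pp := by
    rw [show φ1.toMonoidHom = (MulAut.conj g⁻¹).toMonoidHom.comp φ.toMonoidHom from rfl, ← Subgroup.map_map, hg]
    rw [show (cj g Pp).map (MulAut.conj g⁻¹).toMonoidHom = cj g⁻¹ (cj g Pp) from rfl, cj_cj, inv_mul_cancel, cj_one]
  have hH := fix_H φ1 hP
  obtain ⟨h, hh⟩ := H_inner ((φ1.subgroupMap HLy).trans (MulEquiv.subgroupCongr hH))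
  have hfix : ∀ x ∈ HLy, φ1 x = (h : L) * x * (h : L)⁻¹ := fun x hx => congrArg Subtype.val (hh ⟨x, hx⟩)
  set φ2 := φ1.trans (MulAut.conj (h : L)⁻¹) with hφ2
  have hid : ∀ x ∈ HLy, φ2 x = x := fun x hx => by
    simp [hφ2, hfix x hx, mul_assoc]
  have hZ : φ2 Z = Z := by
    have hc : φ2 Z * Z⁻¹ = 1 := cent_trivial fun y hy => by
      obtain ⟨hy1, hy2⟩ := mem_K.mp hy
      have e := hid _ hy2
      rw [map_mul, map_mul, map_inv, hid y hy1] at e
      calc φ2 Z * Z⁻¹ * y = φ2 Z * (Z⁻¹ * y * Z) * Z⁻¹ := by group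
        _ = y * (φ2 Z * Z⁻¹) := by rw [← e]; group
    exact mul_inv_eq_one.mp hc
  have h2 : φ2 = MulEquiv.refl L := by
    have : φ2.toMonoidHom = MonoidHom.id L := by
      refine PresentedGroup.ext fun x => ?_
      show φ2 (PresentedGroup.of x) = PresentedGroup.of x
      by_cases hx : x = .z
      · subst hx; exact hZ
      · refine hid _ ?_
        have e := LyMult66.mk_wd x hx
        rw [show (PresentedGroup.of x : L) = mk (FreeGroup.of x) from rfl, ← e]
        exact ev_H (List.all_eq_true.mpr fun i hi => Nat.blt_eq.mpr (LyMult66.wd_lt x i hi))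
    exact MulEquiv.ext fun x => DFunLike.congr_fun this x
  refine ⟨g * (h : L), MulEquiv.ext fun x => ?_⟩
  have e := DFunLike.congr_fun h2 x
  simp only [hφ2, hφ1, MulEquiv.trans_apply, MulAut.conj_apply, MulEquiv.refl_apply] at e
  rw [MulAut.conj_apply]
  conv_lhs => rw [← e]
  group

theorem card_out : Nat.card (Cfsg.Out L) = 1 := by
  have : Inn L = ⊤ := eq_top_iff.mpr fun φ _ => inner φ
  exact Subgroup.index_eq_one.mpr this

end Cfsg.Agent.LyOut66
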