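import Cfsg.Agent.Lib.LyMult66
import Cfsg.Agent.Lib.LyOrbitIndex41

/-!
Words in the presented Lyons group: the rule for `z`, separation of elements by matrices, and subgroups
given by generating words with certified normalisations and commutators.
-/

set_option autoImplicit false
set_option maxRecDepth 100000

namespace Cfsg.Agent.LyOutBase66

open Cfsg Cfsg.Agent.LyG2Five64 Cfsg.Agent.LyMultWords66 Cfsg.Agent.LyG2MatCore64 Cfsg.Agent.LyG2MatData64
open Cfsg.Agent.LyOrbitCore41 (L ev Z eq_ev ev_append ev_nil ev_H)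
open scoped commutatorElement

instance finL : Finite L := LyOrbitIndex41.finite_L

theorem ev_wi {w : List ℕ} (h : LyMultWords66.same (wi w ++ w) [] = true) : ev (wi w) = (ev w)⁻¹ := by
  have := eq_ev h
  rw [ev_append, ev_nil] at this
  exact eq_inv_of_mul_eq_one_left this

/-- The words as a lift with trivial central part. -/
noncomputable def C : LyMultCore66.Ctx L where
  L := ev
  app := ev_append
  hsame _ _ h := eq_ev h
  A := ⊥
  cen a ha g := by rw [Subgroup.mem_bot.mp ha]; simp

theorem subw_kw (k : List ℕ) : LyOrbitCore41.kw k = subw gW k ∧ LyOrbitCore41.kx k = subw hW k := by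
  constructor <;> simp [LyOrbitCore41.kw, LyOrbitCore41.kx, subw, List.flatMap_def, LyOrbitCore41.kW,
    LyOrbitCore41.kX, gW, hW]

theorem tz : ev wT * Z * (ev wT * Z) * (ev wT * Z) * ev wU = 1 := by
  have h : mk (((Spor.Ly.a4 * Spor.Ly.z) ^ 3) * Spor.Ly.u) = 1 := mk_rel 81 (by decide)
  simp only [map_mul, map_pow, pow_succ, pow_zero, one_mul] at h
  rw [show mk Spor.Ly.a4 = ev wT from (LyMult66.mk_wd .a4 (by decide)).symm,
    show mk Spor.Ly.u = ev wU from (LyMult66.mk_wd .u (by decide)).symm] at h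
  exact h

theorem conj : C.Conj Z := by
  refine C.conj_exact (fun i hi => ?_) 1 (one_mem _) ?_ 1 (one_mem _) tz
  · show Z⁻¹ * ev (gW.getD i []) * Z * (ev (hW.getD i []))⁻¹ ∈ (⊥ : Subgroup L)
    have h := LyOrbitCore41.conjk [i] (by simpa using hi)
    have e : ∀ G : List (List ℕ), subw G [i] = G.getD i [] := fun G => by simp [subw]
    rw [(subw_kw [i]).1, (subw_kw [i]).2, e, e] at h
    rw [h, mul_inv_cancel]; exact one_mem _
  · rw [mul_one]; exact LyOrbitCore41.z_sq

theorem zc (l : List ℕ) : Z⁻¹ * ev (subw gW l) * Z = ev (subw hW l) := conj l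

theorem zz : Z * Z = ev wU * 1 := by rw [mul_one]; exact LyOrbitCore41.z_sq

theorem zl (l : List ℕ) : Z * ev (subw gW l) * Z⁻¹ = ev (wU ++ subw hW l ++ wi wU) := by
  rw [show Z * ev (subw gW l) = ev (wU ++ subw hW l ++ wi wU) * Z from
    C.z_left conj (r := 1) (one_mem _) zz l, mul_inv_cancel_right]

/-- The rule for `z T z`. -/
theorem ruleT : Z * ev wT * Z = ev (wi wT ++ wi wU ++ wi wU) * Z * ev (wi wT) := by
  have hT : ev (wi wT) = (ev wT)⁻¹ := ev_wi (by decide +kernel)
  have hU : ev (wi wU) = (ev wU)⁻¹ := ev_wi (by decide +kernel)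
  rw [ev_append, ev_append, hT, hU]
  have hu : (ev wU)⁻¹ * Z = Z * (ev wU)⁻¹ := by
    rw [show ev wU = Z * Z from LyOrbitCore41.z_sq.symm]; group
  have hz : Z⁻¹ = (ev wU)⁻¹ * Z := by
    rw [show ev wU = Z * Z from LyOrbitCore41.z_sq.symm]; group
  calc Z * ev wT * Z = (ev wT)⁻¹ * (ev wT * Z * (ev wT * Z) * (ev wT * Z) * ev wU) * (ev wU)⁻¹ * Z⁻¹ *
        (ev wT)⁻¹ := by group
    _ = _ := by rw [tz, hz]; group

theorem dec (h p q : List ℕ) (he : LyMultWords66.same h (subw gW p ++ wT ++ subw gW q) = true) :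
    Z * ev h * Z = ev (wU ++ subw hW p ++ wi wU ++ (wi wT ++ wi wU ++ wi wU)) * Z *
      ev (wi wT ++ subw hW q) := by
  have h' : Z * ev h * Z = ev (wU ++ subw hW p ++ wi wU ++ (wi wT ++ wi wU ++ wi wU)) * Z *
      ev (wi wT ++ subw hW q) * 1 :=
    C.dec conj (r := 1) (one_mem _) zz (t := wT) (a := wi wT ++ wi wU ++ wi wU) (b := wi wT) (k := 1) (one_mem _)
      (show Z * ev wT * Z = ev (wi wT ++ wi wU ++ wi wU) * Z * ev (wi wT) * 1 by rw [mul_one]; exact ruleT)
      h p q he
  rwa [mul_one] at h'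

/-! ### separation -/

/-- Two packed values differ modulo 5 somewhere. -/
noncomputable def diffP (X Y : List ℕ) : Bool :=
  (List.range 14).any fun i => (List.range 14).any fun j =>
    !(Nat.beq (digit (X.getD i 0) j % 5) (digit (Y.getD i 0) j % 5))

/-- Two words with different matrices. -/
noncomputable def diff (v w : List ℕ) : Bool :=
  v.all (Nat.blt · 18) && w.all (Nat.blt · 18) &&
    match evalWord gens v, evalWord gens w with
    | some X, some Y => diffP X Y
    | _, _ => false

theorem diffP_sound {X Y : List ℕ} (h : diffP X Y = true) : pMat X ≠ pMat Y := by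
  intro he
  simp only [diffP, List.any_eq_true, List.mem_range, Bool.not_eq_true'] at h
  obtain ⟨i, hi, j, hj, hne⟩ := h
  have := congrFun (congrFun he ⟨i, hi⟩) ⟨j, hj⟩
  simp only [pMat, val] at this
  rw [ZMod.natCast_eq_natCast_iff'] at this
  rw [this, Nat.beq_refl] at hne
  simp at hne

theorem ev_ne {v w : List ℕ} (h : diff v w = true) : ev v ≠ ev w := by
  simp only [diff, Bool.and_eq_true, List.all_eq_true, Nat.blt_eq] at h
  obtain ⟨⟨hv, hw⟩, h⟩ := h
  intro he
  have e : ∀ {u : List ℕ}, (∀ i ∈ u, i < 18) → toLy (LyMult66.nf u) = ev u := fun {u} hu => by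
    show (LyMult66.nf u : Amb).1 = _
    rw [LyMult66.coe_nf hu]; rfl
  have hm : ((v.map letG).prod : GL Cfsg.Lie.chevG2.Idx K5) = (w.map letG).prod := by
    have := congrArg (fun r : R => (r : Amb).2) (toLy_injective ((e hv).trans (he.trans (e hw).symm)))
    simpa [LyMult66.coe_nf hv, LyMult66.coe_nf hw] using this
  have hm' := congrArg (Units.val) hm
  rw [coe_prod (fun g hg => (hv g hg).trans (by norm_num)), coe_prod (fun g hg => (hw g hg).trans (by norm_num)),
    prod_mat, prod_mat] at hm'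
  cases h1 : evalWord gens v with
  | none => simp [h1] at h
  | some X =>
    cases h2 : evalWord gens w with
    | none => simp [h1, h2] at h
    | some Y =>
      simp only [h1, h2] at h
      refine diffP_sound h ?_
      rw [(evalWord_sound gens v X (fun g hg => rows_ok (by have := hv g hg; omega)) h1).2,
        (evalWord_sound gens w Y (fun g hg => rows_ok (by have := hw g hg; omega)) h2).2]
      refine Matrix.ext fun i j => ?_
      have := congrFun (congrFun hm' (ix.symm i)) (ix.symm j)
      simpa using this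

/-! ### subgroups by words -/

/-- The subgroup generated by some words. -/
noncomputable def cl (S : List (List ℕ)) : Subgroup L := Subgroup.closure (ev '' {w | w ∈ S})

theorem mem_cl {S : List (List ℕ)} {w : List ℕ} (h : w ∈ S) : ev w ∈ cl S :=
  Subgroup.subset_closure ⟨w, h, rfl⟩

theorem cl_le {S : List (List ℕ)} {K : Subgroup L} : cl S ≤ K ↔ ∀ w ∈ S, ev w ∈ K := by
  rw [cl, Subgroup.closure_le]
  exact ⟨fun h w hw => h ⟨w, hw, rfl⟩, fun h => by rintro _ ⟨w, hw, rfl⟩; exact h w hw⟩

theorem subw_mem (S : List (List ℕ)) (l : List ℕ) : ev (subw S l) ∈ cl S := by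
  induction l with
  | nil => simp [subw, ev_nil]
  | cons i l ih =>
    rw [subw, List.flatMap_cons, ev_append]
    refine mul_mem ?_ ih
    by_cases hi : i < S.length
    · rw [List.getD_eq_getElem _ _ hi]; exact mem_cl (List.getElem_mem hi)
    · rw [List.getD_eq_default _ _ (by omega), ev_nil]; exact one_mem _

theorem cl_cons (x : List ℕ) (S : List (List ℕ)) : cl (x :: S) = cl S ⊔ Subgroup.zpowers (ev x) := by
  rw [cl, cl, show {w | w ∈ x :: S} = insert x {w | w ∈ S} by ext w; simp, Set.image_insert_eq,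
    Set.insert_eq, Subgroup.closure_union, Subgroup.zpowers_eq_closure, sup_comm]

/-- Conjugates of the generators by a word lie in the subgroup. -/
noncomputable def conjOk (S : List (List ℕ)) (x : List ℕ) (D : List (List ℕ)) : Bool :=
  LyMultWords66.same (wi x ++ x) [] && (List.range S.length).all fun k =>
    LyMultWords66.same (x ++ S.getD k [] ++ wi x) (subw S (D.getD k []))

theorem conjOk_spec {S : List (List ℕ)} {x : List ℕ} {D : List (List ℕ)} (h : conjOk S x D = true) :
    ev x ∈ Subgroup.normalizer (cl S : Set L) := by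
  simp only [conjOk, Bool.and_eq_true, List.all_eq_true, List.mem_range] at h
  obtain ⟨hx, hS⟩ := h
  refine Subgroup.mem_normalizer_fintype fun n hn => ?_
  have : cl S ≤ (cl S).comap (MulAut.conj (ev x)).toMonoidHom := cl_le.2 fun w hw => by
    obtain ⟨k, hk, rfl⟩ := List.getElem_of_mem hw
    have e := eq_ev (hS k hk)
    rw [List.getD_eq_getElem _ _ hk, ev_append, ev_append, ev_wi hx] at e
    show ev x * ev S[k] * (ev x)⁻¹ ∈ cl S
    rw [e]; exact subw_mem _ _
  exact this hn

theorem conj_mem {S : Subgroup L} {g n : L} (h : g ∈ Subgroup.normalizer (S : Set L)) (hn : n ∈ S) :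
    g * n * g⁻¹ ∈ S := (Subgroup.mem_normalizer_iff.mp h n).mp hn

theorem le_normalizer {S : List (List ℕ)} {K : Subgroup L}
    (h : ∀ w ∈ S, ev w ∈ Subgroup.normalizer (K : Set L)) : cl S ≤ Subgroup.normalizer (K : Set L) := cl_le.2 h

theorem card_step {K : Subgroup L} {x : L} (hx : x ∈ Subgroup.normalizer (K : Set L)) (h5 : x ^ 5 = 1) :
    Nat.card (K ⊔ Subgroup.zpowers x : Subgroup L) ≤ 5 * Nat.card K ∧
      (x ∉ K → Nat.card (K ⊔ Subgroup.zpowers x : Subgroup L) = 5 * Nat.card K) := by
  have hz : Subgroup.zpowers x ≤ Subgroup.normalizer (K : Set L) := by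
    rw [Subgroup.zpowers_le]; exact hx
  have hset := Subgroup.coe_mul_of_right_le_normalizer_left K (Subgroup.zpowers x) hz
  let f : K × Subgroup.zpowers x → (K ⊔ Subgroup.zpowers x : Subgroup L) := fun p =>
    ⟨(p.1 : L) * p.2, mul_mem (Subgroup.mem_sup_left p.1.2) (Subgroup.mem_sup_right p.2.2)⟩
  have hsur : Function.Surjective f := by
    rintro ⟨g, hg⟩
    have : g ∈ ((K ⊔ Subgroup.zpowers x : Subgroup L) : Set L) := hg
    rw [hset] at this
    obtain ⟨k, hk, y, hy, e⟩ := this
    exact ⟨(⟨k, hk⟩, ⟨y, hy⟩), Subtype.ext e⟩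
  have ho : orderOf x ∣ 5 := orderOf_dvd_of_pow_eq_one h5
  have hle : Nat.card (Subgroup.zpowers x) ≤ 5 := by
    rw [Nat.card_zpowers]; exact Nat.le_of_dvd (by norm_num) ho
  have h := Nat.card_le_card_of_surjective f hsur
  rw [Nat.card_prod] at h
  refine ⟨h.trans (by rw [mul_comm 5]; exact Nat.mul_le_mul_left _ hle), fun hxK => ?_⟩
  have hx1 : x ≠ 1 := fun e => hxK (e ▸ one_mem K)
  have hox : orderOf x = 5 := ((Nat.dvd_prime (by norm_num)).mp ho).resolve_left
    (fun e => hx1 (orderOf_eq_one_iff.mp e))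
  have hd : Disjoint K (Subgroup.zpowers x) := by
    rw [Subgroup.disjoint_def]
    intro y hy hy'
    by_contra hne
    haveI := Fact.mk (show Nat.Prime 5 by norm_num)
    have hc : Nat.card (Subgroup.zpowers x) = 5 := by rw [Nat.card_zpowers, hox]
    have : (⟨y, hy'⟩ : Subgroup.zpowers x) ≠ 1 := fun e => hne (congrArg Subtype.val e)
    have hgen := mem_zpowers_of_prime_card hc this (g' := ⟨x, Subgroup.mem_zpowers x⟩)
    obtain ⟨n, hn⟩ := hgen
    exact hxK (by
      have := congrArg Subtype.val hn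
      simp only [SubgroupClass.coe_zpow] at this
      rw [← this]; exact zpow_mem hy n)
  have hinj : Function.Injective f := fun p q e =>
    Subgroup.mul_injective_of_disjoint hd (congrArg Subtype.val e)
  rw [← Nat.card_eq_of_bijective f ⟨hinj, hsur⟩, Nat.card_prod, Nat.card_zpowers, hox, mul_comm]

/-- Commutators of the generators lie in a subgroup. -/
noncomputable def commOk (S T N : List (List ℕ)) (D : List (List (List ℕ))) : Bool :=
  (List.range S.length).all fun i => (List.range T.length).all fun j =>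
    LyMultWords66.same (wi (S.getD i []) ++ S.getD i []) [] &&
    LyMultWords66.same (wi (T.getD j []) ++ T.getD j []) [] &&
    LyMultWords66.same (S.getD i [] ++ T.getD j [] ++ wi (S.getD i []) ++ wi (T.getD j []))
      (subw N ((D.getD i []).getD j []))

theorem comm_le {S T N : List (List ℕ)} {D : List (List (List ℕ))} (h : commOk S T N D = true)
    (hS : cl S ≤ Subgroup.normalizer (cl N : Set L)) (hT : cl T ≤ Subgroup.normalizer (cl N : Set L)) :
    ⁅cl S, cl T⁆ ≤ cl N := by
  simp only [commOk, List.all_eq_true, List.mem_range, Bool.and_eq_true] at h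
  have base : ∀ s ∈ S, ∀ t ∈ T, ⁅ev s, ev t⁆ ∈ cl N := by
    intro s hs t ht
    obtain ⟨i, hi, rfl⟩ := List.getElem_of_mem hs
    obtain ⟨j, hj, rfl⟩ := List.getElem_of_mem ht
    obtain ⟨⟨h1, h2⟩, h3⟩ := h i hi j hj
    rw [List.getD_eq_getElem _ _ hi] at h1 h3
    rw [List.getD_eq_getElem _ _ hj] at h2 h3
    have e := eq_ev h3
    rw [ev_append, ev_append, ev_append, ev_wi h1, ev_wi h2] at e
    rw [commutatorElement_def, e]
    exact subw_mem _ _
  have e1 : ∀ g ∈ cl S, ∀ t ∈ T, ⁅g, ev t⁆ ∈ cl N := by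
    intro g hg t ht
    induction hg using Subgroup.closure_induction with
    | mem x hx => obtain ⟨s, hs, rfl⟩ := hx; exact base s hs t ht
    | one => simp
    | mul x y hx hy ihx ihy =>
      rw [show ⁅x * y, ev t⁆ = x * ⁅y, ev t⁆ * x⁻¹ * ⁅x, ev t⁆ by simp only [commutatorElement_def]; group]
      exact mul_mem (conj_mem (hS hx) ihy) ihx
    | inv x hx ihx =>
      rw [show ⁅x⁻¹, ev t⁆ = x⁻¹ * ⁅x, ev t⁆⁻¹ * x⁻¹⁻¹ by simp only [commutatorElement_def]; group]
      exact conj_mem (hS (inv_mem hx)) (inv_mem ihx)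
  rw [Subgroup.commutator_le]
  intro g hg u hu
  induction hu using Subgroup.closure_induction with
  | mem x hx => obtain ⟨t, ht, rfl⟩ := hx; exact e1 g hg t ht
  | one => simp
  | mul x y hx hy ihx ihy =>
    rw [show ⁅g, x * y⁆ = ⁅g, x⁆ * (x * ⁅g, y⁆ * x⁻¹) by simp only [commutatorElement_def]; group]
    exact mul_mem ihx (conj_mem (hT hx) ihy)
  | inv x hx ihx =>
    rw [show ⁅g, x⁻¹⁆ = x⁻¹ * ⁅g, x⁆⁻¹ * x⁻¹⁻¹ by simp only [commutatorElement_def]; group]
    exact conj_mem (hT (inv_mem hx)) (inv_mem ihx)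

/-- The conjugate of a subgroup. -/
noncomputable abbrev cj (g : L) (S : Subgroup L) : Subgroup L := S.map (MulAut.conj g).toMonoidHom

theorem mem_cj {g x : L} {S : Subgroup L} : x ∈ cj g S ↔ g⁻¹ * x * g ∈ S := by
  constructor
  · rintro ⟨y, hy, rfl⟩
    simpa [MulAut.conj_apply, mul_assoc] using hy
  · intro h
    exact ⟨_, h, by simp [MulAut.conj_apply, mul_assoc]⟩

theorem cj_cj (g h : L) (S : Subgroup L) : cj g (cj h S) = cj (g * h) S := by
  ext x; simp [mem_cj, mul_assoc]

theorem cj_one (S : Subgroup L) : cj 1 S = S := by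
  ext x; simp [mem_cj]

theorem cj_norm {g : L} {S : Subgroup L} (h : g ∈ Subgroup.normalizer (S : Set L)) : cj g S = S := by
  ext x
  rw [mem_cj, Subgroup.mem_normalizer_iff''.mp h x]

theorem norm_of_cj {g : L} {S : Subgroup L} (h : cj g S = S) : g ∈ Subgroup.normalizer (S : Set L) :=
  Subgroup.mem_normalizer_iff''.mpr fun x => by
    conv_lhs => rw [← h]
    rw [mem_cj]

theorem card_cj (g : L) (S : Subgroup L) : Nat.card (cj g S) = Nat.card S :=
  (Nat.card_congr (S.equivMapOfInjective _ (MulAut.conj g).injective).toEquiv).symm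

end Cfsg.Agent.LyOutBase66
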