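/-!
Certificates for the automorphisms of the presented Lyons group: words expressing conjugates and commutators
of the generators of some 5-subgroups.
-/

set_option autoImplicit false

namespace Cfsg.Agent.LyOutData66

/-- Normalisation along the chain of 5-subgroups. -/
def ch0 : List (List Nat) := [[0]]

/-- Normalisation along the chain of 5-subgroups. -/
def ch1 : List (List Nat) := [[0], [1]]

/-- Normalisation along the chain of 5-subgroups. -/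
def ch2 : List (List Nat) := [[0, 2, 2, 2], [1, 2], [2]]

/-- Normalisation along the chain of 5-subgroups. -/
def ch3 : List (List Nat) := [[0, 3, 3, 3, 3], [1, 3, 3, 3, 3], [2, 3, 3, 3, 3], [3]]

/-- Normalisation along the chain of 5-subgroups. -/
def ch4 : List (List Nat) := [[0, 1, 1, 2, 3, 3], [2, 2, 2, 2, 1], [2, 2, 2, 3, 3, 3, 3], [2, 2, 2, 2, 3, 3, 3, 3], [4]]

/-- Normalisation along the chain of 5-subgroups. -/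
def ch5 : List (List Nat) := [[1, 1, 1, 1, 0], [1, 1, 1, 2, 2, 2, 2], [1, 1, 1, 1, 2, 2, 2, 2], [3]]

/-- Conjugates of the generators of Q by a, b, c. -/
def qk : List (List (List Nat)) := [[[1], [0, 0], [0, 0, 0, 0, 1, 1, 1, 2, 2, 3, 1, 3], [0, 0, 1, 1, 1, 1, 2, 2, 2, 2, 3, 3, 3], [4, 4, 4]], [[0, 1, 1, 2, 3, 3], [2, 2, 2, 2, 1], [2, 2, 2, 3, 3, 3, 3], [2, 2, 2, 2, 3, 3, 3, 3], [4]], [[0, 4], [1], [2, 4, 4, 4], [3, 4], [4]]]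

/-- Conjugates of the generators of R. -/
def rn : List (List (List Nat)) := [[[0, 1, 1, 2, 1, 3], [1, 4, 4, 4, 4], [2, 4, 4, 4, 4], [3, 4, 4, 4, 4], [4]], [[0, 1, 0, 1, 1, 0, 2, 0, 0], [0, 3, 0], [2, 2, 3, 4, 4, 4, 4], [2, 2, 2, 2, 3, 3, 4, 4], [2, 2, 3, 3, 3, 3]], [[0, 0, 0], [0, 0, 0, 0, 1, 1, 1, 0], [2, 2, 2, 2, 4, 4], [0, 1, 1, 0, 0, 1, 1, 0, 1, 0], [4, 4]]]

/-- Conjugates in the fourth step. -/
def n4 : List (List (List Nat)) := [[[1, 1, 1, 1, 0], [1, 1, 1, 2, 2, 2, 2], [1, 1, 1, 1, 2, 2, 2, 2], [3]], [[0, 3, 3, 3, 3], [1, 3, 3, 3, 3], [2, 3, 3, 3, 3], [3]]]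

/-- Conjugates in the third step. -/
def n3 : List (List (List Nat)) := [[[0, 0, 0, 1, 1, 1, 1], [0, 0, 0, 0, 1, 1, 1, 1], [2]], [[0, 2, 2, 2, 2], [1, 2, 2, 2, 2], [2]], [[0, 2, 2, 2], [1, 2], [2]]]

/-- The six conjugates of the Sylow subgroup permuted by the parabolic generators. -/
def six : List (List (Nat × List (List Nat))) := [[(1, [[0], [1], [2], [3], [4], [5]]), (0, [[0], [1, 1], [2, 2], [3, 3, 5, 5, 5], [4, 4, 5], [5, 5, 5, 5]]), (3, [[0, 0], [0, 0, 0, 2, 0, 1, 0, 3], [2, 2], [3, 3, 3, 4, 4, 4, 5], [4, 4, 4, 4, 5, 5], [5, 5, 5]]), (2, [[0, 0, 0], [1, 1, 2, 3, 3, 3, 4, 4], [2], [3, 3, 3, 3, 4, 4], [4, 4, 4], [5, 5, 5]]), (5, [[0, 0, 0], [1, 0, 1, 0, 0, 0, 2, 0, 1], [0, 0, 0, 0, 2, 2, 2, 2, 0], [3, 3, 5, 5, 5, 5], [3, 3, 4, 5, 5, 5], [5, 5, 5]]), (4, [[0, 0], [1, 1, 1, 1, 2, 3, 3, 2, 3, 3], [0, 0,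 2, 2, 2, 0, 0, 0], [3, 5, 5, 5], [3, 3, 3, 4, 4, 5], [5, 5, 5]])],
  [(0, [[0], [0, 1, 0, 0, 0, 0], [3, 3, 3, 3, 2], [0, 3, 0, 0, 0, 0], [0, 4, 0, 0, 0, 0], [5]]), (2, [[0], [1], [2], [3], [4], [5]]), (3, [[0], [1], [2], [3], [4], [5]]), (4, [[0], [1], [2], [3], [4], [5]]), (5, [[0], [1], [2], [3], [4], [5]]), (1, [[0], [1], [2], [3], [4], [5]])],
  [(0, [[3, 0], [1, 5], [2], [3, 5, 5, 5], [4, 5], [5]]), (1, [[0, 2, 2, 3, 2, 4], [1], [2, 5, 5, 5, 5], [3, 5, 5, 5, 5], [4, 5, 5, 5, 5], [5]]), (2, [[0, 3, 4, 4], [1, 5, 5, 5, 5], [2, 5, 5, 5, 5], [3], [4], [5]]), (3, [[2, 2, 3, 2, 4, 0], [1, 5, 5, 5], [2], [3, 5, 5, 5], [4, 5, 5], [5]]), (4, [[2, 0, 2, 5, 5], [1, 5, 5], [2, 5, 5], [3, 5, 5, 5], [4], [5]]), (5, [[2, 3, 2, 0, 4], [1, 5], [2], [3], [4, 5, 5, 5, 5], [5]])],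
  [(0, [[0, 2, 2, 3, 2, 4], [1], [2, 5, 5, 5, 5], [3, 5, 5, 5, 5], [4, 5, 5, 5, 5], [5]]), (1, [[2, 2, 2, 0, 2, 2], [1, 5, 5, 5], [2], [3, 5, 5, 5, 5], [4, 5, 5, 5], [5]]), (2, [[2, 2, 2, 4, 0, 5], [1], [2], [3], [4, 5], [5]]), (3, [[4, 0, 3, 4], [1, 5, 5, 5, 5], [2, 5, 5, 5], [3], [4], [5]]), (4, [[2, 2, 2, 2, 0, 3], [1], [2, 5, 5], [3], [4, 5, 5, 5], [5]]), (5, [[4, 0, 2, 2, 2, 5], [1, 5, 5, 5], [2], [3, 5], [4, 5, 5, 5], [5]])],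
  [(0, [[4, 4, 0, 4], [1, 5], [2, 5, 5], [3, 5, 5, 5], [4, 5], [5]]), (1, [[0, 3, 4, 4], [1, 5, 5, 5, 5], [2, 5, 5, 5, 5], [3], [4], [5]]), (2, [[2, 2, 3, 2, 4, 0], [1, 5, 5, 5], [2], [3, 5, 5, 5], [4, 5, 5], [5]]), (3, [[2, 0, 2, 5, 5], [1, 5, 5], [2, 5, 5], [3, 5, 5, 5], [4], [5]]), (4, [[2, 3, 2, 0, 4], [1, 5], [2], [3], [4, 5, 5, 5, 5], [5]]), (5, [[0, 2, 2, 3, 2, 4], [1], [2, 5, 5, 5, 5], [3, 5, 5, 5, 5], [4, 5, 5, 5, 5], [5]])],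
  [(0, [[0, 3], [1], [2, 5, 5, 5], [3, 5, 5, 5], [4, 5], [5]]), (1, [[2, 3, 2, 0, 4], [1, 5], [2], [3], [4, 5, 5, 5, 5], [5]]), (2, [[0, 2, 2, 3, 2, 4], [1], [2, 5, 5, 5, 5], [3, 5, 5, 5, 5], [4, 5, 5, 5, 5], [5]]), (3, [[0, 3, 4, 4], [1, 5, 5, 5, 5], [2, 5, 5, 5, 5], [3], [4], [5]]), (4, [[2, 2, 3, 2, 4, 0], [1, 5, 5, 5], [2], [3, 5, 5, 5], [4, 5, 5], [5]]), (5, [[2, 0, 2, 5, 5], [1, 5, 5], [2, 5, 5], [3, 5, 5, 5], [4], [5]])],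
  [(0, [[0], [1], [2], [3], [4], [5]]), (1, [[0], [1], [2], [3], [4], [5]]), (2, [[0], [1], [2], [3], [4], [5]]), (3, [[0], [1], [2], [3], [4], [5]]), (4, [[0], [1], [2], [3], [4], [5]]), (5, [[0], [1], [2], [3], [4], [5]])]]

/-- Generators as commutators. -/
def com4 : List (List Nat × List Nat) := [([1, 3], [1, 2, 1]), ([2], [1]), ([1, 3], [3, 1, 4, 5, 5, 5, 5, 4, 5, 5, 5, 5]), ([3], [2, 2, 2, 2])]

/-- Generators as commutators. -/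
def com3 : List (List Nat × List Nat) := [([2], [1]), ([2, 4], [1, 3]), ([2], [3])]

/-- Commutators of generators. -/
def le4 : List (List (List Nat)) := [[[], [0, 0, 1, 2, 2], [1, 1, 1, 1], [1, 1, 2, 2, 2, 2], [1, 1, 1, 1, 2, 2, 2], []], [[0, 0, 0, 1, 1, 1, 1, 2, 2, 2], [], [3, 3, 3, 3], [3, 3, 3, 3], [3, 3, 3, 3], []], [[1], [3], [], [3, 3, 3], [3], []], [[1, 1, 1, 2], [3], [3, 3], [], [], []], [[1, 2, 2], [3], [3, 3, 3, 3], [], [], []], [[], [], [], [], [], []]]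

/-- Commutators of generators. -/
def le3 : List (List (List Nat)) := [[[0], [2], [], [2, 2, 2], [2], []], [[0, 0, 0, 1], [2], [2, 2], [], [], []], [[0, 1, 1], [2], [2, 2, 2, 2], [], [], []], [[], [], [], [], [], []]]

/-- Commutators of generators. -/
def q2 : List (List (List Nat)) := [[[], [0, 0, 0, 0], [0, 0, 0, 0], [0, 0, 0, 0], []], [[0], [], [0, 0, 0], [0], []], [[0], [0, 0], [], [], []], [[0], [0, 0, 0, 0], [], [], []], [[], [], [], [], []]]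

/-- Witnesses that the other maximal subgroups have class at least three. -/
def wt : List (List Nat) := [[0, 0, 0, 0, 0], [0, 0, 0, 0, 0], [0, 0, 0, 0, 0], [0, 0, 0, 0, 0]]

/-- Words moving the Sylow subgroup to its six conjugates. -/
def sixW : List (List Nat) := [[], [0], [1, 0], [1, 1, 0], [1, 1, 1, 0], [1, 1, 1, 1, 0]]

/-- Cases. -/
def witR : List Nat := [0, 1, 3, 4, 5]

/-- Exponents. -/
def witI : List Nat := [2, 2, 1, 3, 1]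

/-- Exponents. -/
def witJ : List Nat := [2, 1, 1, 2, 2]

/-- Exponents. -/
def witK : List Nat := [1, 1, 2, 4, 2]

/-- Targets. -/
def witL : List Nat := [1, 0, 1, 2, 2]

/-- Middle words. -/
def witM : List (List Nat) := [[7, 6], [5, 7], [5, 6, 7, 6], [5, 7, 5, 6], [5, 5, 5, 7]]

/-- Conjugators. -/
def witE : List (List Nat) := [[], [0], [0, 1, 0], [1, 0, 1, 0], [1, 1, 0, 1, 0, 1]]

/-- Normalisation certificates. -/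
def witB0 : List (List (List Nat)) := [[[0], [1], [2], [3], [4], [5]], [[0], [1], [2], [3], [4], [5]], [[0, 0], [0, 0, 0, 2, 0, 1, 0, 3], [2, 2], [3, 3, 3, 4, 4, 4, 5], [4, 4, 4, 4, 5, 5], [5, 5, 5]], [[0, 0], [0, 0, 0, 2, 0, 1, 0, 3], [2, 2], [3, 3, 3, 4, 4, 4, 5], [4, 4, 4, 4, 5, 5], [5, 5, 5]], [[0, 0], [1, 3, 2, 2, 2], [2, 3, 3, 4, 2, 4], [3, 3, 3, 3, 5], [3, 3, 4, 4, 4, 5, 5], [5, 5, 5]]]

/-- Normalisation certificates. -/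
def witB1 : List (List (List Nat)) := [[[0], [1], [2], [3], [4], [5]], [[0], [1, 1], [2, 2], [3, 3, 5, 5, 5], [4, 4, 5], [5, 5, 5, 5]], [[0], [0, 1, 1, 0, 0, 0, 0], [2, 3, 3, 2, 3], [3, 4, 4, 4, 5, 5, 5], [3, 3, 3, 4, 4, 4, 5], [5, 5, 5, 5]], [[0], [0, 1, 1, 0, 0, 0, 0], [2, 3, 3, 2, 3], [3, 4, 4, 4, 5, 5, 5], [3, 3, 3, 4, 4, 4, 5], [5, 5, 5, 5]], [[0], [0, 0, 0, 0, 1, 1, 1, 0], [0, 0, 0, 0, 2, 2, 2, 0], [3, 3, 4, 4, 4, 5, 5, 5, 5], [0, 3, 0, 0, 0, 0, 5, 5, 5], [5, 5, 5, 5]]]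

/-- Normalisation certificates. -/
def witBm : List (List (List Nat)) := [[[0, 0, 0], [0, 0, 0, 1, 0, 1, 0, 1, 1, 3], [0, 0, 0, 0, 2, 2, 0], [3, 5, 5, 5, 5], [3, 4, 4, 4, 5, 5, 5], [5, 5]], [[0, 0], [1, 1, 1, 1, 2, 3, 3, 2, 2], [0, 0, 0, 0, 2, 2, 2, 0], [4, 4, 4, 5, 5, 5], [3, 4, 4, 4, 5], [5, 5, 5]], [[0, 0, 0, 0], [1, 1, 3, 1, 3, 3, 4], [0, 0, 0, 0, 2, 2, 0], [3, 4, 5, 5], [0, 3, 0, 0, 0, 0, 5, 5, 5, 5], [5]], [[0, 0, 0, 0], [1, 3, 1, 3, 4, 4, 4, 4], [0, 0, 0, 0, 2, 2, 2, 0], [0, 4, 0, 0, 0, 0, 5], [3, 3, 4, 5, 5], [5]], [[0], [0, 1, 0, 0, 0, 0], [3, 3, 3, 3, 2], [0, 3, 0, 0, 0, 0], [0, 4, 0, 0, 0, 0], [5]]]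

/-- Decompositions of the powers of b. -/
def zbP : List (List Nat) := [[5, 5, 5, 6, 7], [5, 5, 5, 5, 6, 7], [5, 7, 5], []]

/-- Decompositions of the powers of b. -/
def zbQ : List (List Nat) := [[5, 5, 5, 5, 5, 5], [5, 6, 5, 7, 5], [6, 7, 5, 6], [7, 6, 5]]

/-- The conjugate of the third term by z. -/
def deq : List (List Nat × List Nat) := [([0, 3, 3, 3, 3], [0, 0, 1, 1]), ([2, 3, 3, 3, 3], [0, 0, 0, 1, 2, 2, 2]), ([4], [2])]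

/-- The 96 elements of the complement. -/
def nW : List (List Nat) := [[], [5], [6], [7], [5, 5], [5, 6], [5, 7], [6, 5], [6, 7], [7, 5], [7, 6], [5, 5, 5], [5, 5, 6], [5, 5, 7], [5, 6, 5], [5, 6, 7], [5, 7, 5], [5, 7, 6], [6, 5, 7], [6, 7, 5], [6, 7, 6], [7, 5, 6], [7, 5, 7], [7, 6, 5], [5, 5, 5, 5], [5, 5, 5, 6], [5, 5, 5, 7], [5, 5, 6, 5], [5, 5, 6, 7], [5, 5, 7, 5], [5, 5, 7, 6], [5, 6, 5, 7], [5, 6, 7, 5], [5, 6, 7, 6], [5, 7, 5, 6], [5, 7, 6, 5], [6, 5, 7, 5], [6, 5, 7, 6], [6, 7, 5, 6], [6, 7, 5, 7], [6, 7, 6, 5], [7, 5, 6, 5], [7, 5, 6, 7], [7, 5, 7, 6], [7, 6, 5, 7], [5, 5, 5, 5, 5], [5, 5, 5, 5, 6], [5, 5, 5, 5, 7], [5, 5, 5, 6, 5], [5, 5, 5, 6, 7], [5, 5, 5, 7, 6], [5, 5, 6, 5, 7], [5, 5, 6, 7, 5], [5, 5, 6, 7, 6], [5, 5, 7, 5, 6], [5, 5, 7, 6, 5], [5, 6, 5, 7, 5], [5, 6, 5, 7, 6], [5, 6, 7, 5,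 6], [5, 6, 7, 5, 7], [5, 6, 7, 6, 5], [5, 7, 5, 6, 5], [5, 7, 5, 6, 7], [5, 7, 6, 5, 7], [6, 5, 7, 6, 5], [6, 7, 5, 6, 5], [5, 5, 5, 5, 5, 5], [5, 5, 5, 5, 5, 6], [5, 5, 5, 5, 6, 5], [5, 5, 5, 5, 6, 7], [5, 5, 5, 5, 7, 6], [5, 5, 5, 6, 5, 7], [5, 5, 5, 6, 7, 5], [5, 5, 5, 6, 7, 6], [5, 5, 5, 7, 6, 5], [5, 5, 6, 5, 7, 6], [5, 5, 6, 7, 5, 6], [5, 5, 6, 7, 6, 5], [5, 5, 7, 5, 6, 5], [5, 5, 7, 5, 6, 7], [5, 5, 7, 6, 5, 7], [5, 6, 5, 7, 6, 5], [5, 6, 7, 5, 6, 5], [5, 5, 5, 5, 5, 5, 6], [5, 5, 5, 5, 5, 6, 5], [5, 5, 5, 5, 5, 6, 7], [5, 5, 5, 5, 6, 7, 6], [5, 5, 5, 5, 7, 6, 5], [5, 5, 5, 6, 5, 7, 6], [5, 5, 5, 6, 7, 5, 6], [5, 5, 5, 6, 7, 6, 5], [5, 5, 5, 7, 6, 5, 7], [5, 5, 6, 5, 7, 6, 5], [5, 5, 6, 7, 5, 6, 5], [5, 5, 5, 6, 5, 7, 6, 5], [5, 5, 5, 6, 7, 5, 6, 5]]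

/-- Their products with a1, a2, a3. -/
def nMul : List (List Nat) := [[1, 2, 3], [4, 5, 6], [7, 4, 8], [9, 10, 4], [11, 12, 13], [14, 11, 15], [16, 17, 11], [12, 14, 18], [19, 20, 12], [13, 21, 22], [23, 13, 20], [24, 25, 26], [27, 24, 28], [29, 30, 24], [25, 27, 31], [32, 33, 25], [26, 34, 0], [35, 26, 33], [36, 37, 27], [28, 38, 39], [40, 28, 30], [41, 29, 42], [0, 43, 29], [30, 41, 44], [45, 46, 47], [48, 45, 49], [3, 50, 45], [46, 48, 51], [52, 53, 46], [47, 54, 1], [55, 47, 53], [56, 57, 48], [49, 58, 59], [60, 49, 50], [61, 3, 62], [50, 61, 63], [51, 62, 2], [64, 51, 57], [65, 52, 58], [2, 59, 52], [53, 65, 61], [54, 55, 60], [63, 56, 54], [59, 1, 56], [62, 64, 55], [66, 67, 9], [68, 66, 69], [6, 70, 66], [67, 68, 71], [72, 73, 67], [74, 9, 73], [8, 75, 68], [69, 76, 7], [77, 69, 70], [78, 6, 79], [70,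 78, 80], [71, 79, 5], [81, 71, 75], [82, 72, 76], [5, 7, 72], [73, 82, 78], [10, 74, 77], [80, 8, 10], [79, 81, 74], [75, 80, 82], [76, 77, 81], [22, 83, 16], [84, 22, 85], [83, 84, 19], [18, 86, 83], [87, 16, 86], [15, 88, 84], [85, 89, 14], [90, 85, 21], [21, 23, 91], [92, 19, 88], [93, 18, 89], [86, 93, 23], [17, 87, 90], [91, 15, 17], [20, 92, 87], [88, 91, 93], [89, 90, 92], [39, 0, 36], [43, 39, 32], [31, 42, 43], [44, 36, 34], [34, 35, 40], [94, 32, 38], [95, 31, 37], [42, 95, 35], [33, 94, 41], [38, 40, 95], [37, 44, 94], [58, 60, 64], [57, 63, 65]]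

/-- Where an element acts nontrivially. -/
def nT1 : List Nat := [9, 0, 0, 0, 0, 0, 0, 0, 0, 0, 0, 0, 0, 0, 0, 0, 0, 1, 0, 0, 0, 0, 0, 0, 0, 0, 0, 0, 0, 0, 0, 0, 0, 0, 0, 0, 0, 0, 0, 0, 0, 0, 0, 0, 0, 0, 0, 0, 0, 0, 0, 0, 1, 0, 0, 0, 0, 0, 0, 0, 0, 0, 0, 0, 0, 0, 0, 0, 0, 0, 0, 0, 0, 0, 0, 0, 0, 0, 0, 0, 0, 1, 0, 0, 0, 0, 0, 0, 0, 0, 0, 0, 0, 0, 0, 0]

/-- Where an element differs from z. -/
def nT2 : List Nat := [0, 0, 0, 0, 0, 0, 0, 0, 0, 0, 0, 0, 0, 0, 0, 0, 0, 0, 0, 0, 0, 0, 0, 0, 0, 0, 0, 0, 0, 0, 0, 0, 0, 0, 0, 0, 0, 0, 0, 0, 0, 0, 0, 0, 0, 0, 0, 0, 0, 0, 0, 0, 0, 0, 0, 0, 0, 0, 0, 0, 0, 0, 0, 0, 0, 0, 0, 0, 0, 0, 0, 0, 0, 0, 0, 0, 0, 0, 0, 0, 0, 0, 0, 0, 0, 0, 0, 0, 0, 0, 0, 0, 0, 0, 0, 0]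

/-- Inverses of the five representatives. -/
def fiveK : List (List Nat) := [[], [], [5, 6, 7], [5, 6, 7], [5, 6, 7]]

/-- Inverses of the five representatives. -/
def fiveI : List Nat := [0, 4, 3, 2, 1]

/-- The commutator form on Q. -/
def cExp : List (List Nat) := [[0, 4, 2, 3], [1, 0, 1, 0], [3, 4, 0, 1], [2, 0, 4, 0]]

end Cfsg.Agent.LyOutData66
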