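import Cfsg.Agent.Lib.LyOutSixA66
import Cfsg.Agent.Lib.LyOutSixB66
import Cfsg.Agent.Lib.LyOutSixC66

/-!
The six conjugates of the Sylow subgroup inside the parabolic subgroup, and the dichotomy for the conjugates
moved out of G2(5) by `z`.
-/

set_option autoImplicit false
set_option maxRecDepth 100000
set_option maxHeartbeats 1000000

namespace Cfsg.Agent.LyOutSix66

open Cfsg Cfsg.Agent.LyG2Five64 Cfsg.Agent.LyMultWords66 Cfsg.Agent.LyOutBase66 Cfsg.Agent.LyOutData66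
open Cfsg.Agent.LyOutSub66 Cfsg.Agent.LyOutSixDef66 Cfsg.Agent.LyOutSixC66
open Cfsg.Agent.LyOrbitCore41 (L ev Z eq_ev ev_append ev_nil ev_H okW mem_K K)
open Cfsg.Agent.LyOrbitCover41 (P)

/-- The six conjugates. -/
noncomputable def S (k : ℕ) : Subgroup L := cj (ev (sixW.getD k [])) Pp

theorem S_zero : S 0 = Pp := by
  rw [S, show sixW.getD 0 [] = [] from rfl, ev_nil, cj_one]

theorem cj_mono {g : L} {A B : Subgroup L} (h : A ≤ B) : cj g A ≤ cj g B := Subgroup.map_mono h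

theorem cj_sup (g : L) (A B : Subgroup L) : cj g (A ⊔ B) = cj g A ⊔ cj g B := Subgroup.map_sup _ _ _

theorem cj_of_mem {g : L} {A : Subgroup L} (h : g ∈ A) : cj g A = A := cj_norm (Subgroup.le_normalizer h)

theorem cj_wi {v x w : List ℕ} {D : List (List ℕ)} (hv : LyMultWords66.same (wi v ++ v) [] = true)
    (h : conjOk sP (wi v ++ x ++ w) D = true) : cj (ev x * ev w) Pp = cj (ev v) Pp := by
  have hn := conjOk_spec h
  rw [ev_append, ev_append, ev_wi hv] at hn
  have e : cj ((ev v)⁻¹ * ev x * ev w) Pp = Pp := cj_norm hn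
  conv_rhs => rw [← e, cj_cj, show ev v * ((ev v)⁻¹ * ev x * ev w) = ev x * ev w by group]

theorem six_step {w : List ℕ} (hw : w ∈ sA) {k : ℕ} (hk : k < 6) : ∃ l < 6, cj (ev w) (S k) = S l := by
  obtain ⟨x, hx, rfl⟩ := List.getElem_of_mem hw
  have h := six_ok x hx
  simp only [sixOk, List.all_eq_true, List.mem_range, Bool.and_eq_true, Nat.blt_eq] at h
  obtain ⟨⟨hl, hv⟩, hc⟩ := h k hk
  rw [List.getD_eq_getElem _ _ hx] at hc
  exact ⟨_, hl, by rw [S, cj_cj]; exact cj_wi hv hc⟩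

theorem six_all : ∀ p ∈ P, ∀ k < 6, ∃ l < 6, cj p (S k) = S l := by
  rw [P_eq]
  refine cl_finite_induction (fun k hk => ⟨k, hk, cj_one _⟩) ?_
  intro x hx w hw k hk
  obtain ⟨l, hl, e⟩ := six_step hw hk
  obtain ⟨m, hm, e'⟩ := hx l hl
  exact ⟨m, hm, by rw [← cj_cj, e, e']⟩

/-- The join of the six conjugates. -/
noncomputable def W6 : Subgroup L := S 0 ⊔ S 1

theorem S_le (k : ℕ) (hk : k < 6) : S k ≤ W6 := by
  rcases k with _ | i
  · exact le_sup_left
  have hi : i < 5 := by omega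
  have hb : ev (List.replicate i 1) ∈ W6 := Subgroup.mem_sup_left (S_zero ▸ letters_Pp (by
    interval_cases i <;> decide))
  have he : sixW.getD (i + 1) [] = List.replicate i 1 ++ [0] := by interval_cases i <;> rfl
  rw [S, he, ev_append, ← cj_cj, ← cj_of_mem hb]
  exact cj_mono (le_sup_right : S 1 ≤ W6)

theorem S_P (k : ℕ) (hk : k < 6) : ev (sixW.getD k []) ∈ P := by
  refine LyOrbitCover41.ev_P ?_
  have h : ∀ k < 6, ∀ i ∈ sixW.getD k [], i ∈ LyG2Cert64.certG.sub := by decide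
  exact h k hk

theorem cj_le_P {p : L} (hp : p ∈ P) {A : Subgroup L} (hA : A ≤ P) : cj p A ≤ P := by
  intro x hx
  rw [mem_cj] at hx
  have := mul_mem (mul_mem hp (hA hx)) (inv_mem hp)
  simpa [mul_assoc] using this

theorem W6_le_P : W6 ≤ P :=
  sup_le (cj_le_P (S_P 0 (by norm_num)) Pp_le_P) (cj_le_P (S_P 1 (by norm_num)) Pp_le_P)

theorem cj_W6 {p : L} (hp : p ∈ P) : cj p W6 = W6 := by
  refine Subgroup.eq_of_le_of_card_ge ?_ (by rw [card_cj])
  rw [W6, cj_sup]
  obtain ⟨l, hl, e⟩ := six_all p hp 0 (by norm_num)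
  obtain ⟨m, hm, e'⟩ := six_all p hp 1 (by norm_num)
  rw [e, e']
  exact sup_le (S_le l hl) (S_le m hm)

/-! ### the conjugate by `z` -/

theorem zs3 : cj Z (cl s3) = cj (ev (sixW.getD 2 [])) (cl s3) := by
  refine Subgroup.eq_of_le_of_card_ge ?_ (by rw [card_cj, card_cj])
  rw [cj, Subgroup.map_le_iff_le_comap]
  refine cl_le.2 fun w hw => ?_
  obtain ⟨j, hj, rfl⟩ := List.getElem_of_mem hw
  have h := deq_ok
  simp only [deqOk, Bool.and_eq_true, List.all_eq_true, List.mem_range] at h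
  obtain ⟨hv, h⟩ := h
  obtain ⟨h1, h2⟩ := h j hj
  rw [List.getD_eq_getElem _ _ hj] at h1
  rw [Subgroup.mem_comap]
  show Z * ev s3[j] * Z⁻¹ ∈ _
  rw [eq_ev h1, zl, mem_cj]
  have e := eq_ev h2
  rw [ev_append, ev_append, ev_wi hv] at e
  rw [e]
  exact subw_mem _ _

theorem case_ok (n : ℕ) (hn : n < 5) : caseOk n = true := by
  interval_cases n
  exacts [LyOutSixA66.case0, LyOutSixA66.case1, LyOutSixB66.case2, LyOutSixB66.case3, LyOutSixC66.case4]

theorem b_mem (i : ℕ) : ev (List.replicate i 1) ∈ Pp := letters_Pp (by simp [List.all_replicate])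

theorem Zb_notMem : Z * ev [1] * Z⁻¹ ∉ HLy := by
  intro h
  refine b_notMem_K (mem_K.mpr ⟨ev_H rfl, ?_⟩)
  have hU : ev wU ∈ HLy := ev_H rfl
  rw [show Z⁻¹ * ev [1] * Z = (ev wU)⁻¹ * (Z * ev [1] * Z⁻¹) * ev wU by
    rw [show ev wU = Z * Z from LyOrbitCore41.z_sq.symm]; group]
  exact mul_mem (mul_mem (inv_mem hU) h) hU

theorem sup_large {n : ℕ} (hn : n < 5) :
    Nat.card W6 < Nat.card (S (witR.getD n 0) ⊔ cj Z Pp : Subgroup L) := by
  have h := case_ok n hn
  simp only [caseOk, Bool.and_eq_true, Nat.blt_eq] at h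
  obtain ⟨⟨⟨⟨⟨⟨⟨⟨⟨⟨⟨⟨⟨hr, hl⟩, -⟩, -⟩, hU⟩, hwr⟩, hwl⟩, hzi⟩, hzk⟩, hmid⟩, hm⟩, he0⟩, he1⟩, heH⟩ := h
  have hdi := dec _ _ _ hzi
  have hdk := dec _ _ _ hzk
  set r := witR.getD n 0
  set l := witL.getD n 0
  set i := witI.getD n 0
  set k := witK.getD n 0
  set M : Subgroup L := S r ⊔ cj Z Pp
  have hy : ∀ t : ℕ, Z * ev (List.replicate t 1) * Z⁻¹ ∈ M := fun t =>
    Subgroup.mem_sup_right (mem_cj.mpr (by simpa [mul_assoc] using b_mem t))
  have hx : ev (wX n) ∈ M := Subgroup.mem_sup_left (mem_cj.mpr (by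
    rw [wX, show witR.getD n 0 = r from rfl, ev_append, ev_append, ev_wi hwr]
    simpa [mul_assoc] using b_mem (witJ.getD n 0)))
  have hU' : ev (wi wU) = (ev wU)⁻¹ := ev_wi hU
  have hzi' : Z⁻¹ = Z * (ev wU)⁻¹ := by
    rw [show ev wU = Z * Z from LyOrbitCore41.z_sq.symm]; group
  have hM : ev (wM n) ∈ M := by
    have hzz : Z * ev (subw gW (witM.getD n [])) * Z = ev (wU ++ subw hW (witM.getD n [])) := by
      rw [ev_append, ← zc, show ev wU = Z * Z from LyOrbitCore41.z_sq.symm]; group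
    have he : ev (wM n) = Z * ev (List.replicate i 1) * Z⁻¹ * ev (wX n) * (Z * ev (List.replicate k 1) * Z⁻¹) := by
      rw [show ev (wM n) = ev (wA i) * ev (wU ++ subw hW (witM.getD n [])) * ev (wB k) * ev (wi wU) by
        simp only [wM, ev_append]; rfl, ← hzz, ← eq_ev hmid]
      simp only [hzi', ← mul_assoc]
      rw [hdi, show ev (wA i) = _ from rfl]
      simp only [ev_append, hU', mul_assoc]
      rw [show Z * (ev (List.replicate k 1) * (Z * (ev wU)⁻¹)) = Z * ev (List.replicate k 1) * Z * (ev wU)⁻¹ by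
        simp only [mul_assoc], hdk]
      simp only [wA, wB, ev_append, hU', mul_assoc]
    rw [he]
    exact mul_mem (mul_mem (hy i) hx) (hy k)
  have hSr : S r ≤ M := le_sup_left
  have hSl : S l ≤ M := by
    have e : cj (ev (wM n)) (S r) = S l := by rw [S, cj_cj]; exact cj_wi hwl hm
    rw [← e]
    exact (cj_mono hSr).trans (cj_of_mem hM).le
  have e0 : cj (ev (witE.getD n [])) (S 0) = S r := by
    have hn := conjOk_spec he0
    rw [ev_append, ev_wi hwr] at hn
    rw [S_zero, S]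
    have e : cj ((ev (sixW.getD r []))⁻¹ * ev (witE.getD n [])) Pp = Pp := cj_norm hn
    conv_rhs => rw [← e, cj_cj, mul_inv_cancel_left]
  have e1 : cj (ev (witE.getD n [])) (S 1) = S l := by
    rw [S, cj_cj, show sixW.getD 1 [] = [0] from rfl]
    exact cj_wi hwl he1
  have hle : cj (ev (witE.getD n [])) W6 ≤ M := by
    rw [W6, cj_sup, e0, e1]; exact sup_le hSr hSl
  have hH : cj (ev (witE.getD n [])) W6 ≤ HLy := by
    intro y hy
    rw [mem_cj] at hy
    have := mul_mem (mul_mem (ev_H heH) (LyOrbitCover41.P_le (W6_le_P hy))) (inv_mem (ev_H heH))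
    simpa [mul_assoc] using this
  have hne : cj (ev (witE.getD n [])) W6 ≠ M := fun e => Zb_notMem (hH (e ▸ by simpa using hy 1))
  rw [← card_cj (ev (witE.getD n [])) W6]
  by_contra hcon
  exact hne (Subgroup.eq_of_le_of_card_ge hle (not_lt.mp hcon))

/-- A Sylow subgroup of the normaliser of `Q` outside the parabolic subgroup either has the same third term
as the standard one, or generates more with it. -/
theorem key {p : L} (hp : p ∈ P) :
    D3 (cj p (cj Z Pp)) = D3 Pp ∨ Nat.card W6 < Nat.card (Pp ⊔ cj p (cj Z Pp) : Subgroup L) := by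
  obtain ⟨k, hk, e⟩ := six_all p⁻¹ (inv_mem hp) 0 (by norm_num)
  rw [S_zero] at e
  by_cases h2 : k = 2
  · left
    subst h2
    have hPp : Pp = cj p (S 2) := by rw [← e, cj_cj, mul_inv_cancel, cj_one]
    conv_rhs => rw [hPp]
    rw [D3_cj, D3_cj, D3_cj, S, D3_cj, D3_Pp, zs3]
  · right
    obtain ⟨n, hn, hk'⟩ : ∃ n < 5, witR.getD n 0 = k := by
      interval_cases k
      exacts [⟨0, by norm_num, rfl⟩, ⟨1, by norm_num, rfl⟩, absurd rfl h2, ⟨2, by norm_num, rfl⟩,
        ⟨3, by norm_num, rfl⟩, ⟨4, by norm_num, rfl⟩]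
    have hlt := sup_large hn
    rw [hk', ← card_cj p (S k ⊔ cj Z Pp), cj_sup, ← e, cj_cj p p⁻¹, mul_inv_cancel, cj_one] at hlt
    exact hlt

end Cfsg.Agent.LyOutSix66
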