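import Cfsg.Agent.Lib.LyOutSixDef66

/-!
Two cases.
-/

set_option autoImplicit false
set_option maxRecDepth 100000
set_option maxHeartbeats 1000000

namespace Cfsg.Agent.LyOutSixA66

open Cfsg Cfsg.Agent.LyG2Five64 Cfsg.Agent.LyMultWords66 Cfsg.Agent.LyOutBase66 Cfsg.Agent.LyOutData66
open Cfsg.Agent.LyOutSub66 Cfsg.Agent.LyOutSixDef66
open Cfsg.Agent.LyOrbitCore41 (L ev Z eq_ev ev_append ev_nil ev_H okW mem_K K)
open Cfsg.Agent.LyOrbitCover41 (P)

theorem case0 : caseOk 0 = true := by decide +kernel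

theorem case1 : caseOk 1 = true := by decide +kernel

end Cfsg.Agent.LyOutSixA66
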