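import Cfsg.Agent.Lib.LyOutSub66

/-!
The finite checks used for the six conjugates of the Sylow subgroup.
-/

set_option autoImplicit false
set_option maxRecDepth 100000
set_option maxHeartbeats 1000000

namespace Cfsg.Agent.LyOutSixDef66

open Cfsg Cfsg.Agent.LyG2Five64 Cfsg.Agent.LyMultWords66 Cfsg.Agent.LyOutBase66 Cfsg.Agent.LyOutData66
open Cfsg.Agent.LyOutSub66
open Cfsg.Agent.LyOrbitCore41 (L ev Z eq_ev ev_append ev_nil ev_H okW mem_K K)
open Cfsg.Agent.LyOrbitCover41 (P)

/-- The six conjugates are permuted by the generators of the parabolic subgroup. -/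
noncomputable def sixOk (x : ℕ) : Bool :=
  (List.range 6).all fun k => (fun e : ℕ × List (List ℕ) => Nat.blt e.1 6 &&
    LyMultWords66.same (wi (sixW.getD e.1 []) ++ sixW.getD e.1 []) [] &&
    conjOk sP (wi (sixW.getD e.1 []) ++ sA.getD x [] ++ sixW.getD k []) e.2)
      ((six.getD x []).getD k (9, []))

/-- The conjugate of the third term by `z` is the one in the third conjugate. -/
noncomputable def deqOk : Bool :=
  LyMultWords66.same (wi (sixW.getD 2 []) ++ sixW.getD 2 []) [] && (List.range 3).all fun j =>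
    LyMultWords66.same (s3.getD j []) (subw gW (deq.getD j ([], [])).1) &&
    LyMultWords66.same (wi (sixW.getD 2 []) ++ (wU ++ subw hW (deq.getD j ([], [])).1 ++ wi wU) ++ sixW.getD 2 [])
      (subw s3 (deq.getD j ([], [])).2)

/-- The word left of `z` in `z b^i z`. -/
def wA (i : ℕ) : List ℕ := wU ++ subw hW (zbP.getD (i - 1) []) ++ wi wU ++ (wi wT ++ wi wU ++ wi wU)
/-- The word right of `z` in `z b^i z`. -/
def wB (i : ℕ) : List ℕ := wi wT ++ subw hW (zbQ.getD (i - 1) [])
/-- The conjugate of a power of `b`. -/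
def wX (n : ℕ) : List ℕ := sixW.getD (witR.getD n 0) [] ++ List.replicate (witJ.getD n 0) 1 ++ wi (sixW.getD (witR.getD n 0) [])
/-- The product of three conjugates lying in G2(5). -/
def wM (n : ℕ) : List ℕ :=
  wA (witI.getD n 0) ++ (wU ++ subw hW (witM.getD n [])) ++ wB (witK.getD n 0) ++ wi wU

/-- The checks of one case. -/
noncomputable def caseOk (n : ℕ) : Bool :=
  (fun r l i k : ℕ => Nat.blt r 6 && Nat.blt l 6 && Nat.blt 0 i && Nat.blt 0 k &&
    LyMultWords66.same (wi wU ++ wU) [] &&
    LyMultWords66.same (wi (sixW.getD r []) ++ sixW.getD r []) [] &&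
    LyMultWords66.same (wi (sixW.getD l []) ++ sixW.getD l []) [] &&
    LyMultWords66.same (List.replicate i 1) (subw gW (zbP.getD (i - 1) []) ++ wT ++ subw gW (zbQ.getD (i - 1) [])) &&
    LyMultWords66.same (List.replicate k 1) (subw gW (zbP.getD (k - 1) []) ++ wT ++ subw gW (zbQ.getD (k - 1) [])) &&
    LyMultWords66.same (wB i ++ wi wU ++ wX n ++ wA k) (subw gW (witM.getD n [])) &&
    conjOk sP (wi (sixW.getD l []) ++ wM n ++ sixW.getD r []) (witBm.getD n []) &&
    conjOk sP (wi (sixW.getD r []) ++ witE.getD n []) (witB0.getD n []) &&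
    conjOk sP (wi (sixW.getD l []) ++ witE.getD n [] ++ [0]) (witB1.getD n []) &&
    okW (witE.getD n []))
      (witR.getD n 0) (witL.getD n 0) (witI.getD n 0) (witK.getD n 0)


end Cfsg.Agent.LyOutSixDef66
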