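import Cfsg.Agent.Lib.LyOutBase66
import Cfsg.Agent.Lib.LyOutData66

/-!
The 5-subgroups of the presented Lyons group: the Sylow subgroup, the radical `Q` and the one other radical
used, their derived terms, and the normalisers of 5-subgroups of order 3125.
-/

set_option autoImplicit false
set_option maxRecDepth 100000
set_option maxHeartbeats 1000000

namespace Cfsg.Agent.LyOutSub66

open Cfsg Cfsg.Agent.LyG2Five64 Cfsg.Agent.LyMultWords66 Cfsg.Agent.LyOutBase66 Cfsg.Agent.LyOutData66
open Cfsg.Agent.LyOrbitCore41 (L ev Z eq_ev ev_append ev_nil ev_H okW mem_X X mem_K K InC)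
open Cfsg.Agent.LyOrbitCover41 (P p5 walkG rp)
open scoped commutatorElement

def sZ : List (List ℕ) := [[6]]
def sJ : List (List ℕ) := [4, 5, 5, 5, 5] :: sZ
def s3 : List (List ℕ) := [2, 5, 5, 5, 5] :: sJ
def s4 : List (List ℕ) := [2] :: s3
def sQ : List (List ℕ) := [3] :: s4
def sP : List (List ℕ) := [1] :: sQ
def sR : List (List ℕ) := [1] :: s4
def sA : List (List ℕ) := [[0], [1], [2], [3], [4], [5], [6]]

/-- The radical of order 3125 with derived subgroup of order 5. -/
noncomputable abbrev Q : Subgroup L := cl sQ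
/-- A Sylow 5-subgroup. -/
noncomputable abbrev Pp : Subgroup L := cl sP
/-- The other radical. -/
noncomputable abbrev R5 : Subgroup L := cl sR

theorem cl_mono {S T : List (List ℕ)} (h : ∀ w ∈ S, w ∈ T) : cl S ≤ cl T :=
  cl_le.2 fun w hw => mem_cl (h w hw)

theorem Q_le_Pp : Q ≤ Pp := cl_mono fun _ h => List.mem_cons_of_mem _ h
theorem s4_le_Q : cl s4 ≤ Q := cl_mono fun _ h => List.mem_cons_of_mem _ h
theorem s3_le_s4 : cl s3 ≤ cl s4 := cl_mono fun _ h => List.mem_cons_of_mem _ h
theorem s4_le_R : cl s4 ≤ R5 := cl_mono fun _ h => List.mem_cons_of_mem _ h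
theorem R_le_Pp : R5 ≤ Pp := cl_mono (by
  intro w hw
  rcases List.mem_cons.mp hw with h | h
  · exact h ▸ List.mem_cons_self
  · exact List.mem_cons_of_mem _ (List.mem_cons_of_mem _ h))

theorem ev_inv_letter {i : ℕ} (hi : i < 9) : ev [i + 9] = (ev [i])⁻¹ := by
  have := ev_wi (w := [i]) (by interval_cases i <;> decide +kernel)
  rwa [show wi [i] = [i + 9] by simp [wi, hi]] at this

theorem P_eq : P = cl sA := by
  apply le_antisymm
  · rw [P, Subgroup.closure_le]
    rintro _ ⟨i, hi, rfl⟩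
    have hpos : ∀ i < 7, ev [i] ∈ cl sA := fun i hi => mem_cl (by interval_cases i <;> simp [sA])
    have hneg : ∀ i < 7, ev [i + 9] ∈ cl sA := fun i hi => by
      rw [ev_inv_letter (by omega)]; exact inv_mem (hpos i hi)
    have e : ev [i] = letLy i := by simp [ev]
    rw [← e]
    simp only [LyG2Cert64.certG, Set.mem_ofPred_eq, List.mem_cons, List.not_mem_nil, or_false] at hi
    rcases hi with rfl | rfl | rfl | rfl | rfl | rfl | rfl | rfl | rfl | rfl | rfl | rfl | rfl | rfl
    exacts [hpos 0 (by norm_num), hneg 0 (by norm_num), hpos 1 (by norm_num), hneg 1 (by norm_num),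
      hpos 2 (by norm_num), hneg 2 (by norm_num), hpos 3 (by norm_num), hneg 3 (by norm_num),
      hpos 4 (by norm_num), hneg 4 (by norm_num), hpos 5 (by norm_num), hneg 5 (by norm_num),
      hpos 6 (by norm_num), hneg 6 (by norm_num)]
  · refine cl_le.2 fun w hw => LyOrbitCover41.ev_P ?_
    have h : ∀ w ∈ sA, ∀ i ∈ w, i ∈ LyG2Cert64.certG.sub := by decide
    exact h w hw

theorem Pp_le_P : Pp ≤ P := cl_le.2 fun w hw => LyOrbitCover41.ev_P (by
  have h : ∀ w ∈ sP, ∀ i ∈ w, i ∈ LyG2Cert64.certG.sub := by decide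
  exact h w hw)

theorem Pp_le_H : Pp ≤ HLy := Pp_le_P.trans LyOrbitCover41.P_le

theorem letters_Pp {w : List ℕ} (h : w.all (fun i => [1, 2, 3, 4, 5, 6].contains i) = true) : ev w ∈ Pp := by
  have hl : ∀ i ∈ [1, 2, 3, 4, 5, 6], ev [i] ∈ Pp := by
    intro i hi
    simp only [List.mem_cons, List.not_mem_nil, or_false] at hi
    rcases hi with rfl | rfl | rfl | rfl | rfl | rfl
    · exact mem_cl (by simp [sP])
    · exact mem_cl (by simp [sP, sQ, s4])
    · exact mem_cl (by simp [sP, sQ])
    · rw [eq_ev (v := [4]) (w := subw sP [4, 2, 2, 2, 2, 3, 2, 2, 2, 2, 3, 2, 2, 2, 2, 3, 2, 2, 2, 2, 3])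
        (by decide +kernel)]
      exact subw_mem _ _
    · rw [eq_ev (v := [5]) (w := subw sP [2, 2, 2, 2, 3, 2, 2, 2, 2, 3, 2, 2, 2, 2, 3, 2, 2, 2, 2, 3])
        (by decide +kernel)]
      exact subw_mem _ _
    · exact mem_cl (by simp [sP, sQ, s4, s3, sJ, sZ])
  induction w with
  | nil => rw [ev_nil]; exact one_mem _
  | cons i w ih =>
    simp only [List.all_cons, Bool.and_eq_true, List.contains_iff_mem] at h
    rw [show i :: w = [i] ++ w from rfl, ev_append]
    exact mul_mem (hl i h.1) (ih h.2)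

theorem letters_s4 {w : List ℕ} (h : w.all (fun i => [2, 4, 5].contains i) = true) : ev w ∈ cl s4 := by
  have hl : ∀ i ∈ [2, 4, 5], ev [i] ∈ cl s4 := by
    intro i hi
    simp only [List.mem_cons, List.not_mem_nil, or_false] at hi
    rcases hi with rfl | rfl | rfl
    · exact mem_cl (by simp [s4])
    · rw [eq_ev (v := [4]) (w := subw s4 [2, 0, 0, 0, 0, 1, 0, 0, 0, 0, 1, 0, 0, 0, 0, 1, 0, 0, 0, 0, 1])
        (by decide +kernel)]
      exact subw_mem _ _
    · rw [eq_ev (v := [5]) (w := subw s4 [0, 0, 0, 0, 1, 0, 0, 0, 0, 1, 0, 0, 0, 0, 1, 0, 0, 0, 0, 1])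
        (by decide +kernel)]
      exact subw_mem _ _
  induction w with
  | nil => rw [ev_nil]; exact one_mem _
  | cons i w ih =>
    simp only [List.all_cons, Bool.and_eq_true, List.contains_iff_mem] at h
    rw [show i :: w = [i] ++ w from rfl, ev_append]
    exact mul_mem (hl i h.1) (ih h.2)

/-! ### normalisers -/

theorem normP_Q : P ≤ Subgroup.normalizer (Q : Set L) := by
  rw [P_eq]
  refine le_normalizer fun w hw => ?_
  simp only [sA, List.mem_cons, List.not_mem_nil, or_false] at hw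
  rcases hw with rfl | rfl | rfl | rfl | rfl | rfl | rfl
  · exact conjOk_spec (D := qk.getD 0 []) (by decide +kernel)
  · exact conjOk_spec (D := qk.getD 1 []) (by decide +kernel)
  · exact conjOk_spec (D := qk.getD 2 []) (by decide +kernel)
  all_goals refine Subgroup.le_normalizer ?_
  · exact mem_cl (by simp [sQ])
  · exact s4_le_Q (letters_s4 (by decide))
  · exact s4_le_Q (letters_s4 (by decide))
  · exact mem_cl (by simp [sQ, s4, s3, sJ, sZ])

theorem norm_x3 : ev [4, 5, 5, 5, 5] ∈ Subgroup.normalizer (cl sZ : Set L) := conjOk_spec (D := ch0) (by decide +kernel)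
theorem norm_y3 : ev [2, 5, 5, 5, 5] ∈ Subgroup.normalizer (cl sJ : Set L) := conjOk_spec (D := ch1) (by decide +kernel)
theorem norm_c1 : ev [2] ∈ Subgroup.normalizer (cl s3 : Set L) := conjOk_spec (D := ch2) (by decide +kernel)
theorem norm_c2 : ev [3] ∈ Subgroup.normalizer (cl s4 : Set L) := conjOk_spec (D := ch3) (by decide +kernel)
theorem norm_b : ev [1] ∈ Subgroup.normalizer (Q : Set L) := conjOk_spec (D := ch4) (by decide +kernel)
theorem norm_bR : ev [1] ∈ Subgroup.normalizer (cl s4 : Set L) := conjOk_spec (D := ch5) (by decide +kernel)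

theorem normPp_4 : Pp ≤ Subgroup.normalizer (cl s4 : Set L) := by
  refine le_normalizer fun w hw => ?_
  rcases List.mem_cons.mp hw with rfl | hw
  · exact norm_bR
  rcases List.mem_cons.mp hw with rfl | hw
  · exact norm_c2
  · exact Subgroup.le_normalizer (mem_cl hw)

theorem normPp_3 : Pp ≤ Subgroup.normalizer (cl s3 : Set L) := by
  refine le_normalizer fun w hw => ?_
  rcases List.mem_cons.mp hw with rfl | hw
  · exact conjOk_spec (D := n3.getD 0 []) (by decide +kernel)
  rcases List.mem_cons.mp hw with rfl | hw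
  · exact conjOk_spec (D := n3.getD 1 []) (by decide +kernel)
  rcases List.mem_cons.mp hw with rfl | hw
  · exact norm_c1
  · exact Subgroup.le_normalizer (mem_cl hw)

/-! ### the complement and the orders -/

theorem cl_finite_induction {S : List (List ℕ)} {motive : L → Prop} (one : motive 1)
    (mul : ∀ x, motive x → ∀ w ∈ S, motive (x * ev w)) : ∀ x ∈ cl S, motive x := by
  intro x hx
  rw [cl, ← Subgroup.mem_toSubmonoid, Subgroup.closure_toSubmonoid_of_finite] at hx
  induction hx using Submonoid.closure_induction_right with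
  | one => exact one
  | mul_right x _ y hy ih => obtain ⟨w, hw, rfl⟩ := hy; exact mul x ih w hw

/-- The products with the elements of the complement are closed. -/
noncomputable def nOk : Bool :=
  Nat.beq nW.length 96 && LyMultWords66.same (subw gW (nW.getD 0 [])) [] && (List.range 96).all fun n =>
    (nW.getD n []).all (fun i => Nat.blt i 8 && Nat.ble 5 i) &&
    (List.range 3).all fun i => Nat.blt ((nMul.getD n []).getD i 0) 96 &&
      LyMultWords66.same (subw gW (nW.getD n []) ++ gW.getD (5 + i) [])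
        (subw gW (nW.getD ((nMul.getD n []).getD i 0) []))

theorem n_ok : nOk = true := by decide +kernel

/-- An element of the complement. -/
noncomputable def nEl (n : ℕ) : L := ev (subw gW (nW.getD n []))

theorem gW_P : ∀ k, ev (gW.getD k []) ∈ P := by
  intro k
  by_cases hk : k < 8
  · refine LyOrbitCover41.ev_P ?_
    have h : ∀ k < 8, ∀ i ∈ gW.getD k [], i ∈ LyG2Cert64.certG.sub := by decide
    exact h k hk
  · rw [List.getD_eq_default _ _ (by simp [gW]; omega), ev_nil]; exact one_mem _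

theorem subw_P (l : List ℕ) : ev (subw gW l) ∈ P := by
  induction l with
  | nil => simp [subw, ev_nil]
  | cons i l ih => rw [subw, List.flatMap_cons, ev_append]; exact mul_mem (gW_P i) ih

theorem gW_cover : ∀ x ∈ cl gW, ∃ q ∈ Q, ∃ n < 96, x = q * nEl n := by
  have hn := n_ok
  simp only [nOk, Bool.and_eq_true, List.all_eq_true, List.mem_range, Nat.blt_eq] at hn
  obtain ⟨⟨-, h0⟩, hn⟩ := hn
  refine cl_finite_induction ⟨1, one_mem _, 0, by norm_num, ?_⟩ ?_
  · rw [one_mul, nEl, eq_ev h0, ev_nil]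
  rintro _ ⟨q, hq, n, hn96, rfl⟩ w hw
  obtain ⟨k, hk, rfl⟩ := List.getElem_of_mem hw
  rw [← List.getD_eq_getElem _ ([] : List ℕ) hk]
  have hk8 : k < 8 := hk
  by_cases h5 : k < 5
  · have hc : ev (gW.getD k []) ∈ Q := by
      interval_cases k
      · exact s4_le_Q (letters_s4 (by decide))
      · exact mem_cl (by decide)
      · exact s4_le_Q (letters_s4 (by decide))
      · exact s4_le_Q (letters_s4 (by decide))
      · exact mem_cl (by decide)
    exact ⟨q * (nEl n * ev (gW.getD k []) * (nEl n)⁻¹), mul_mem hq (conj_mem (normP_Q (subw_P _)) hc), n, hn96,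
      by group⟩
  · obtain ⟨hj, he⟩ := (hn n hn96).2 (k - 5) (by omega)
    refine ⟨q, hq, _, hj, ?_⟩
    rw [show 5 + (k - 5) = k by omega] at he
    rw [mul_assoc, nEl, ← ev_append, eq_ev he]
    rfl

theorem subw_cl_gW (l : List ℕ) : ev (subw gW l) ∈ cl gW := subw_mem _ _

theorem P_five : ∀ x ∈ P, ∃ p < 5, ∃ k ∈ cl gW, x = ev (p5.getD p []) * k := by
  intro x hx
  suffices H : ∀ p < 5, ∃ p' < 5, ∃ k ∈ cl gW, x * ev (p5.getD p []) = ev (p5.getD p' []) * k by
    obtain ⟨p', hp', k, hk, e⟩ := H 0 (by norm_num)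
    exact ⟨p', hp', k, hk, by simpa [p5, ev_nil] using e⟩
  have hl : ∀ i ∈ LyG2Cert64.certG.sub, ∀ p < 5, ∃ p' < 5, ∃ k ∈ cl gW,
      letLy i * ev (p5.getD p []) = ev (p5.getD p' []) * k := by
    intro i hi p hp
    have hW := LyOrbitClosed41.five_ok
    simp only [LyOrbitCover41.uOk, Bool.and_eq_true, List.all_eq_true, List.any_eq_true, List.mem_range,
      Nat.blt_eq, Nat.beq_eq] at hW
    obtain ⟨⟨a, b, p', k⟩, hxW, ha, hb⟩ := hW.2 i hi p hp
    obtain ⟨⟨hk, hp'⟩, he⟩ := hW.1 _ hxW
    simp only at ha hb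
    subst ha hb
    refine ⟨p', hp', ev (LyOrbitCore41.kw k), by rw [(subw_kw k).1]; exact subw_mem _ _, ?_⟩
    have := eq_ev he
    rwa [LyOrbitCore41.ev_cons, ev_append] at this
  rw [P] at hx
  induction hx using Subgroup.closure_induction'' with
  | one => intro p hp; exact ⟨p, hp, 1, one_mem _, by simp⟩
  | mem x hx => obtain ⟨i, hi, rfl⟩ := hx; exact hl i hi
  | inv_mem x hx =>
    obtain ⟨i, hi, rfl⟩ := hx
    have hiv : ∀ i ∈ LyG2Cert64.certG.sub, LyG2Cert64.certG.iv i ∈ LyG2Cert64.certG.sub := by decide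
    rw [inv_eq_of_mul_eq_one_right (letLy_iv i (LyOrbitCover41.sub_lt i hi))]
    exact hl _ (hiv i hi)
  | mul x y _ _ ihx ihy =>
    intro p hp
    obtain ⟨p1, hp1, k, hk, e⟩ := ihy p hp
    obtain ⟨p2, hp2, k', hk', e'⟩ := ihx p1 hp1
    exact ⟨p2, hp2, k' * k, mul_mem hk' hk, by rw [mul_assoc, e, ← mul_assoc, e', mul_assoc]⟩

theorem gW_K : cl gW ≤ K := cl_le.2 fun w hw => by
  obtain ⟨k, hk, rfl⟩ := List.getElem_of_mem hw
  have hk8 : k < 8 := hk
  have := LyOrbitCore41.kw_mem (k := [k]) (by simpa [LyOrbitCore41.okK] using hk8)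
  rw [(subw_kw [k]).1] at this
  simpa [subw, List.getD_eq_getElem _ _ hk, hk] using this

theorem K_le_P : K ≤ P := by rw [LyOrbitCount41.K_eq]; exact inf_le_right

theorem K_gW : K = cl gW := by
  refine le_antisymm (fun x hx => ?_) gW_K
  obtain ⟨p, hp, k, hk, e⟩ := P_five x (K_le_P hx)
  have h0 : p = 0 := LyOrbitCount41.p5_inj hp (by norm_num) (gW_K hk) hx (by simp [e, p5, ev_nil])
  subst h0
  rw [e]
  simpa [p5, ev_nil] using hk

theorem K_form {x : L} (hx : x ∈ K) : ∃ q ∈ Q, ∃ n < 96, x = q * nEl n := gW_cover x (K_gW ▸ hx)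

theorem Q_le_K : Q ≤ K := by
  rw [K_gW]
  refine cl_le.2 fun w hw => ?_
  have h : ∀ w ∈ sQ, (w.all fun i => [2, 3, 4, 5, 6].contains i) = true := by decide
  have hw' := h w hw
  clear hw h
  induction w with
  | nil => rw [ev_nil]; exact one_mem _
  | cons i w ih =>
    simp only [List.all_cons, Bool.and_eq_true, List.contains_iff_mem, List.mem_cons, List.not_mem_nil,
      or_false] at hw'
    rw [show i :: w = [i] ++ w from rfl, ev_append]
    refine mul_mem (mem_cl ?_) (ih (by simpa using hw'.2))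
    rcases hw'.1 with rfl | rfl | rfl | rfl | rfl <;> simp [gW]

theorem b_notMem_K : ev [1] ∉ K := LyOrbitNotMem41.out_0_1

theorem pow_five {w : List ℕ} (h : LyMultWords66.same (w ++ w ++ w ++ w ++ w) [] = true) : ev w ^ 5 = 1 := by
  have := eq_ev h
  simp only [ev_append, ev_nil] at this
  rw [← this, pow_succ, pow_succ, pow_succ, pow_succ, pow_one]

theorem cards : Nat.card (cl s3) = 125 ∧ Nat.card (cl s4) = 625 ∧ Nat.card Q = 3125 := by
  have hbot : cl [] = ⊥ := by
    rw [eq_bot_iff]; exact cl_le.2 (fun w hw => absurd hw List.not_mem_nil)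
  have z1 := (card_step (K := cl []) (x := ev [6])
    (by rw [hbot]; exact (Subgroup.normalizer_eq_top (⊥ : Subgroup L)).symm ▸ Subgroup.mem_top _)
    (pow_five (by decide +kernel))).1
  rw [← cl_cons, hbot, Subgroup.card_bot] at z1
  have z2 := (card_step norm_x3 (pow_five (by decide +kernel))).1
  have z3 := (card_step norm_y3 (pow_five (by decide +kernel))).1
  have z4 := (card_step norm_c1 (pow_five (by decide +kernel))).1
  have z5 := (card_step norm_c2 (pow_five (by decide +kernel))).1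
  rw [← cl_cons] at z2 z3 z4 z5
  change Nat.card (cl sZ) ≤ _ at z1
  change Nat.card (cl sJ) ≤ _ at z2
  change Nat.card (cl s3) ≤ _ at z3
  change Nat.card (cl s4) ≤ _ at z4
  change Nat.card (cl sQ) ≤ _ at z5
  have hK : Nat.card K ≤ Nat.card Q * 96 := by
    choose qf hqf nf hnf he using fun x : K => K_form x.2
    let f : K → Q × Fin 96 := fun x => (⟨qf x, hqf x⟩, ⟨nf x, hnf x⟩)
    have hf : Function.Injective f := fun x y e => Subtype.ext (by
      simp only [f, Prod.mk.injEq, Subtype.mk.injEq, Fin.mk.injEq] at e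
      rw [he x, he y, e.1, e.2])
    have := Nat.card_le_card_of_injective f hf
    rwa [Nat.card_prod, Nat.card_fin] at this
  rw [LyOrbitCount41.K_eq, LyOrbitCount41.card_K0] at hK
  change 300000 ≤ Nat.card (cl sQ) * 96 at hK
  refine ⟨?_, ?_, ?_⟩ <;> show Nat.card (cl _) = _ <;> omega

theorem card_Pp : Nat.card Pp = 15625 := by
  have h := (card_step norm_b (pow_five (by decide +kernel))).2 fun h => b_notMem_K (Q_le_K h)
  rw [← cl_cons] at h
  rw [show Pp = cl ([1] :: sQ) from rfl, h, cards.2.2]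

theorem card_R : Nat.card R5 = 3125 := by
  have h := (card_step norm_bR (pow_five (by decide +kernel))).2 fun h => b_notMem_K (Q_le_K (s4_le_Q h))
  rw [← cl_cons] at h
  rw [show R5 = cl ([1] :: s4) from rfl, h, cards.2.1]

/-! ### commutators -/

/-- Generators as commutators. -/
noncomputable def comW (S : List (List ℕ)) (W : List (List ℕ × List ℕ)) (A B : List ℕ) : Bool :=
  (List.range S.length).all fun k =>
    (W.getD k ([], [])).1.all (A.contains ·) && (W.getD k ([], [])).2.all (B.contains ·) &&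
    LyMultWords66.same (wi (W.getD k ([], [])).1 ++ (W.getD k ([], [])).1) [] &&
    LyMultWords66.same (wi (W.getD k ([], [])).2 ++ (W.getD k ([], [])).2) [] &&
    LyMultWords66.same (S.getD k []) ((W.getD k ([], [])).1 ++ (W.getD k ([], [])).2 ++
      wi (W.getD k ([], [])).1 ++ wi (W.getD k ([], [])).2)

theorem comW_spec {S : List (List ℕ)} {W : List (List ℕ × List ℕ)} {A B : List ℕ} {X Y : Subgroup L}
    (h : comW S W A B = true) (hX : ∀ w : List ℕ, w.all (A.contains ·) = true → ev w ∈ X)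
    (hY : ∀ w : List ℕ, w.all (B.contains ·) = true → ev w ∈ Y) : cl S ≤ ⁅X, Y⁆ := by
  simp only [comW, Bool.and_eq_true, List.all_eq_true (l := List.range _), List.mem_range] at h
  refine cl_le.2 fun w hw => ?_
  obtain ⟨k, hk, rfl⟩ := List.getElem_of_mem hw
  obtain ⟨⟨⟨⟨hA, hB⟩, h1⟩, h2⟩, h3⟩ := h k hk
  rw [List.getD_eq_getElem _ _ hk] at h3
  rw [eq_ev h3, ev_append, ev_append, ev_append, ev_wi h1, ev_wi h2, ← commutatorElement_def]
  exact Subgroup.commutator_mem_commutator (hX _ hA) (hY _ hB)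

theorem comm_Pp : ⁅Pp, Pp⁆ = cl s4 :=
  le_antisymm (comm_le (D := le4) (by decide +kernel) normPp_4 normPp_4)
    (comW_spec (W := com4) (A := [1, 2, 3, 4, 5, 6]) (B := [1, 2, 3, 4, 5, 6]) (by decide +kernel)
      (fun _ h => letters_Pp h) (fun _ h => letters_Pp h))

/-- The third term of the lower central series. -/
noncomputable def D3 (X : Subgroup L) : Subgroup L := ⁅⁅X, X⁆, X⁆

theorem D3_Pp : D3 Pp = cl s3 := by
  rw [D3, comm_Pp]
  exact le_antisymm (comm_le (D := le3) (by decide +kernel) ((s4_le_Q.trans Q_le_Pp).trans normPp_3) normPp_3)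
    (comW_spec (W := com3) (A := [2, 4, 5]) (B := [1, 2, 3, 4, 5, 6]) (by decide +kernel)
      (fun _ h => letters_s4 h) (fun _ h => letters_Pp h))

theorem D3_cj (g : L) (X : Subgroup L) : D3 (cj g X) = cj g (D3 X) := by
  simp only [D3, Subgroup.map_commutator]

theorem D3_map (φ : L ≃* L) (X : Subgroup L) : D3 (X.map φ.toMonoidHom) = (D3 X).map φ.toMonoidHom := by
  simp only [D3, Subgroup.map_commutator]

/-- Class at most two. -/
def Class2 (M : Subgroup L) : Prop := ∀ x ∈ M, ∀ y ∈ M, ∀ w ∈ M, Commute ⁅x, y⁆ w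

theorem class2_map (φ : L ≃* L) (M : Subgroup L) : Class2 (M.map φ.toMonoidHom) ↔ Class2 M := by
  constructor
  · intro h x hx y hy w hw
    have := h _ (Subgroup.mem_map_of_mem _ hx) _ (Subgroup.mem_map_of_mem _ hy) _ (Subgroup.mem_map_of_mem _ hw)
    rw [← map_commutatorElement] at this
    exact φ.injective (by rw [map_mul, map_mul]; exact this)
  · rintro h _ ⟨x, hx, rfl⟩ _ ⟨y, hy, rfl⟩ _ ⟨w, hw, rfl⟩
    rw [← map_commutatorElement]
    exact (h x hx y hy w hw).map _

theorem class2_Q : Class2 Q := by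
  have hle : ⁅Q, Q⁆ ≤ cl sZ := by
    have hn : Q ≤ Subgroup.normalizer (cl sZ : Set L) := le_normalizer fun w hw => by
      simp only [sQ, s4, s3, sJ, sZ, List.mem_cons, List.not_mem_nil, or_false] at hw
      refine conjOk_spec (D := [[0]]) ?_
      rcases hw with rfl | rfl | rfl | rfl | rfl <;> decide +kernel
    exact comm_le (D := q2) (by decide +kernel) hn hn
  have hc : ∀ q ∈ Q, ∀ c ∈ cl sZ, Commute c q := by
    have h : ∀ w ∈ sQ, LyMultWords66.same ([6] ++ w) (w ++ [6]) = true := by decide +kernel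
    have h1 : Q ≤ Subgroup.centralizer {ev [6]} := cl_le.2 fun w hw => by
      rw [Subgroup.mem_centralizer_singleton_iff, ← ev_append, ← ev_append, eq_ev (h w hw)]
    intro q hq c hc
    have h2 : cl sZ ≤ Subgroup.centralizer {q} := cl_le.2 fun w hw => by
      obtain rfl := List.mem_singleton.mp hw
      rw [Subgroup.mem_centralizer_singleton_iff]
      exact (Subgroup.mem_centralizer_singleton_iff.mp (h1 hq)).symm
    exact Subgroup.mem_centralizer_singleton_iff.mp (h2 hc)
  intro x hx y hy w hw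
  exact hc w hw _ (hle (Subgroup.commutator_mem_commutator hx hy))

/-- The commutator test of failing class two. -/
noncomputable def notC2 (x y w : List ℕ) : Bool :=
  LyMultWords66.same (wi x ++ x) [] && LyMultWords66.same (wi y ++ y) [] &&
    diff (x ++ y ++ wi x ++ wi y ++ w) (w ++ (x ++ y ++ wi x ++ wi y))

theorem notC2_spec {M : Subgroup L} {x y w : List ℕ} (h : notC2 x y w = true) (hx : ev x ∈ M) (hy : ev y ∈ M)
    (hw : ev w ∈ M) : ¬ Class2 M := by
  simp only [notC2, Bool.and_eq_true] at h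
  intro hc
  refine ev_ne h.2 ?_
  have := (hc _ hx _ hy _ hw).eq
  rw [commutatorElement_def, ← ev_wi h.1.1, ← ev_wi h.1.2] at this
  simp only [← ev_append] at this ⊢
  exact this

theorem class_R : ¬ Class2 R5 :=
  notC2_spec (x := sR.getD 0 []) (y := sR.getD 1 []) (w := sR.getD 0 []) (by decide +kernel)
    (mem_cl (by decide)) (mem_cl (by decide)) (mem_cl (by decide))

theorem Pp_form : ∀ x ∈ Pp, ∃ i < 5, ∃ j < 5, ∃ k ∈ cl s4,
    x = k * (ev (List.replicate j 3) * ev (List.replicate i 1)) := by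
  have hz : ∀ {K : Subgroup L} {w : List ℕ}, ev w ∈ Subgroup.normalizer (K : Set L) → ev w ^ 5 = 1 →
      ∀ g ∈ K ⊔ Subgroup.zpowers (ev w), ∃ k ∈ K, ∃ n < 5, g = k * ev w ^ n := by
    intro K w hn h5 g hg
    have hz : Subgroup.zpowers (ev w) ≤ Subgroup.normalizer (K : Set L) := Subgroup.zpowers_le.2 hn
    have hg' : g ∈ ((K ⊔ Subgroup.zpowers (ev w) : Subgroup L) : Set L) := hg
    rw [Subgroup.coe_mul_of_right_le_normalizer_left K _ hz] at hg'
    obtain ⟨k, hk, y, ⟨n, rfl⟩, rfl⟩ := hg'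
    refine ⟨k, hk, (n % 5).toNat, by omega, ?_⟩
    show k * ev w ^ n = _
    congr 1
    rw [← zpow_natCast, Int.toNat_of_nonneg (Int.emod_nonneg _ (by norm_num))]
    conv_lhs => rw [← Int.mul_ediv_add_emod n 5, zpow_add, zpow_mul, zpow_ofNat, h5, one_zpow, one_mul]
  have hp : ∀ (i n : ℕ), ev (List.replicate n i) = ev [i] ^ n := fun i n => by
    induction n with
    | zero => simp [ev_nil]
    | succ n ih => rw [List.replicate_succ', ev_append, ih, pow_succ]
  intro x hx
  rw [show Pp = cl ([1] :: sQ) from rfl, cl_cons] at hx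
  obtain ⟨q, hq, i, hi, rfl⟩ := hz norm_b (pow_five (by decide +kernel)) x hx
  change q ∈ cl ([3] :: s4) at hq
  rw [cl_cons] at hq
  obtain ⟨k, hk, j, hj, rfl⟩ := hz norm_c2 (pow_five (by decide +kernel)) q hq
  exact ⟨i, hi, j, hj, k, hk, by rw [hp, hp, mul_assoc]⟩

theorem only_Q {M : Subgroup L} (hM : M ≤ Pp) (hc : Nat.card M = 3125) (h2 : Class2 M) : M = Q := by
  have hidx : (M.subgroupOf Pp).index = 5 := by
    have h := Subgroup.card_mul_index (M.subgroupOf Pp)
    rw [Nat.card_congr (Subgroup.subgroupOfEquivOfLe hM).toEquiv, hc, card_Pp] at h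
    omega
  have hn : (M.subgroupOf Pp).Normal := Subgroup.normal_of_index_eq_minFac_card (by
    rw [hidx, card_Pp]; norm_num)
  have h4 : cl s4 ≤ M := by
    haveI := hn
    haveI : Fact (Nat.Prime 5) := ⟨by norm_num⟩
    have hq5 : Nat.card (Pp ⧸ M.subgroupOf Pp) = 5 := hidx
    haveI := isCyclic_of_prime_card hq5
    letI : CommGroup (Pp ⧸ M.subgroupOf Pp) := IsCyclic.commGroup
    have hle := Abelianization.commutator_subset_ker (QuotientGroup.mk' (M.subgroupOf Pp))
    rw [QuotientGroup.ker_mk'] at hle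
    rw [← comm_Pp]
    have h := Subgroup.map_mono (f := Pp.subtype) hle
    rw [Subgroup.map_subtype_commutator] at h
    exact h.trans (by rw [Subgroup.subgroupOf, Subgroup.map_comap_eq]; exact inf_le_right)
  have hle : M ≤ Q := by
    intro x hx
    obtain ⟨i, hi, j, hj, k, hk, rfl⟩ := Pp_form x (hM hx)
    by_cases hi0 : i = 0
    · subst hi0
      refine mul_mem (s4_le_Q hk) (mul_mem ?_ (by simpa [ev_nil] using one_mem Q))
      induction j with
      | zero => simpa [ev_nil] using one_mem Q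
      | succ j ih =>
        rw [List.replicate_succ, show 3 :: List.replicate j 3 = [3] ++ List.replicate j 3 from rfl, ev_append]
        refine mul_mem (mem_cl (by simp [sQ])) ?_
        clear ih hx hj
        induction j with
        | zero => simpa [ev_nil] using one_mem Q
        | succ j ih =>
          rw [List.replicate_succ, show 3 :: List.replicate j 3 = [3] ++ List.replicate j 3 from rfl, ev_append]
          exact mul_mem (mem_cl (by simp [sQ])) ih
    exfalso
    have hw : ev (List.replicate j 3 ++ List.replicate i 1) ∈ M := by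
      rw [ev_append]
      exact (Subgroup.mul_mem_cancel_left M (h4 hk)).mp hx
    have hall : ∀ i < 5, ∀ j < 5, i ≠ 0 → notC2 (List.replicate j 3 ++ List.replicate i 1)
        (s4.getD ((wt.getD (i - 1) []).getD j 0) []) (List.replicate j 3 ++ List.replicate i 1) = true ∧
        (wt.getD (i - 1) []).getD j 0 < s4.length := by decide +kernel
    obtain ⟨h, hlen⟩ := hall i hi j hj hi0
    exact notC2_spec h hw (h4 (mem_cl (by rw [List.getD_eq_getElem _ _ hlen]; exact List.getElem_mem hlen))) hw h2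
  exact Subgroup.eq_of_le_of_card_ge hle (by rw [cards.2.2, hc])

/-! ### normalisers of subgroups of order 3125 -/

/-- Every point of the table but the first is moved by `Q`. -/
noncomputable def movedOk : Bool :=
  (List.range 3905).all fun v => [2, 3, 4, 5, 6].any fun i => !(Nat.beq (walkG [i] (v + 1)) (v + 1))

theorem moved_ok : movedOk = true := by decide +kernel

theorem normQ_H {g : L} (hg : g ∈ HLy) (hn : g ∈ Subgroup.normalizer (Q : Set L)) : g ∈ P := by
  obtain ⟨v, hv, κ, hκ, rfl⟩ := LyOrbitCover41.H_cover hg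
  by_cases h0 : v = 0
  · subst h0; simpa [LyOrbitCover41.rp_zero] using hκ
  exfalso
  have hr : rp v ∈ Subgroup.normalizer (Q : Set L) := by
    have := mul_mem (inv_mem (normP_Q hκ)) hn
    rwa [inv_mul_cancel_left] at this
  have h := moved_ok
  simp only [movedOk, List.all_eq_true, List.mem_range, List.any_eq_true, Bool.not_eq_true'] at h
  obtain ⟨i, hi, hne⟩ := h (v - 1) (by omega)
  rw [show v - 1 + 1 = v by omega] at hne
  have hiQ : ev [i] ∈ Q := by
    simp only [List.mem_cons, List.not_mem_nil, or_false] at hi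
    rcases hi with rfl | rfl | rfl | rfl | rfl
    · exact s4_le_Q (letters_s4 (by decide))
    · exact mem_cl (by simp [sQ])
    · exact s4_le_Q (letters_s4 (by decide))
    · exact s4_le_Q (letters_s4 (by decide))
    · exact mem_cl (by simp [sQ, s4, s3, sJ, sZ])
  have hok : okW [i] = true := by
    simp only [List.mem_cons, List.not_mem_nil, or_false] at hi
    rcases hi with rfl | rfl | rfl | rfl | rfl <;> rfl
  obtain ⟨hlt, he⟩ := LyOrbitCount41.walk_pt hok hv
  have hP : rp v * ev [i] * (rp v)⁻¹ ∈ P := Pp_le_P (Q_le_Pp (conj_mem hr hiQ))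
  have hfix : (ev [i])⁻¹ • LyOrbitCount41.pt' v = LyOrbitCount41.pt' v := by
    rw [LyOrbitCount41.pt', MulAction.Quotient.smul_mk, QuotientGroup.eq, smul_eq_mul]
    rw [show ((ev [i])⁻¹ * (rp v)⁻¹)⁻¹ * (rp v)⁻¹ = rp v * ev [i] * (rp v)⁻¹ by group]
    exact hP
  rw [he] at hfix
  rw [LyOrbitCount41.pt'_inj hlt hv hfix, Nat.beq_refl] at hne
  simp at hne

theorem K_unique {M : Subgroup L} (hM : M ≤ K) (hc : Nat.card M = 3125) : M = Q := by
  haveI : Fact (Nat.Prime 5) := ⟨by norm_num⟩
  have hK : Nat.card K = 5 ^ 5 * 96 := by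
    rw [LyOrbitCount41.K_eq, LyOrbitCount41.card_K0]; norm_num
  have hfac : (Nat.card K).factorization 5 = 5 := by
    rw [hK, Nat.factorization_mul (by norm_num) (by norm_num), Finsupp.add_apply,
      Nat.Prime.factorization_pow (by norm_num), Finsupp.single_eq_same,
      Nat.factorization_eq_zero_of_not_dvd (by norm_num)]
  let S1 : Sylow 5 K := Sylow.ofCard (Q.subgroupOf K) (by
    rw [Nat.card_congr (Subgroup.subgroupOfEquivOfLe Q_le_K).toEquiv, cards.2.2, hfac]; norm_num)
  let S2 : Sylow 5 K := Sylow.ofCard (M.subgroupOf K) (by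
    rw [Nat.card_congr (Subgroup.subgroupOfEquivOfLe hM).toEquiv, hc, hfac]; norm_num)
  have hn : (Q.subgroupOf K).Normal := Subgroup.normal_subgroupOf_of_le_normalizer (K_le_P.trans normP_Q)
  haveI : Subsingleton (Sylow 5 K) := (Sylow.unique_of_normal S1 hn).instSubsingleton
  have e : M.subgroupOf K = Q.subgroupOf K := congrArg (fun S : Sylow 5 K => (S : Subgroup K))
    (Subsingleton.elim S2 S1)
  have := congrArg (Subgroup.map K.subtype) e
  rwa [Subgroup.map_subgroupOf_eq_of_le hM, Subgroup.map_subgroupOf_eq_of_le Q_le_K] at this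

theorem fix {g : L} (hg : g ∉ HLy) {M : Subgroup L} (hM : M ≤ HLy) (hc : Nat.card M = 3125)
    (hmv : ∀ x ∈ M, g * x * g⁻¹ ∈ HLy) : ∃ h1 ∈ HLy, ∃ h ∈ HLy, g = h1 * Z * h ∧ cj h M = Q := by
  haveI := LyOrbitIndex41.finite_quot
  haveI := LyOrbitCount41.finite_H
  obtain ⟨j, hj, ⟨t, ht⟩, he⟩ := LyOrbitIndex41.cover ((g⁻¹ : L) : L ⧸ HLy)
  simp only at he
  have hh : (t * (LyOrbitClosed41.reps j)⁻¹)⁻¹ * g⁻¹ ∈ HLy := QuotientGroup.eq.mp he
  have hMX : cj t⁻¹ M ≤ X (LyOrbitClosed41.reps j) := by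
    intro y hy
    rw [mem_cj, inv_inv] at hy
    refine mem_X.mpr ⟨?_, ?_⟩
    · have := mul_mem (mul_mem (inv_mem ht) (hM hy)) ht
      simpa [mul_assoc] using this
    · show LyOrbitClosed41.reps j * y * (LyOrbitClosed41.reps j)⁻¹ ∈ HLy
      have h1 := mul_mem (mul_mem hh (hmv _ hy)) (inv_mem hh)
      simpa [mul_assoc] using h1
  have hcard : Nat.card (cj t⁻¹ M) = 3125 := by rw [card_cj, hc]
  have hj1 : j = 1 := by
    have hd : 3125 ∣ Nat.card (X (LyOrbitClosed41.reps j)) := hcard ▸ Subgroup.card_dvd_of_le hMX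
    have hm := LyOrbitIndex41.orb_mul j
    rw [LyOrbitCount41.card_H] at hm
    obtain ⟨r, hr⟩ := hd
    rw [hr] at hm
    have hs : ∀ k, LyOrbitIndex41.e k ≠ 0 → LyOrbitIndex41.e k = (LyOrbitIndex41.orb k).ncard := fun k hk => by
      unfold LyOrbitIndex41.e at hk ⊢
      split at hk
      · exact absurd rfl hk
      · rename_i hp
        rw [if_neg hp]
    obtain ⟨s2, s3, s4⟩ := LyOrbitIndex41.sizes
    interval_cases j
    · exfalso
      apply hg
      rw [show LyOrbitClosed41.reps 0 = 1 by simp [LyOrbitClosed41.reps], inv_one, mul_one] at hh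
      exact inv_mem_iff.mp ((Subgroup.mul_mem_cancel_left _ (inv_mem ht)).mp hh)
    · rfl
    · rw [← hs 2 (by rw [s2]; norm_num), s2] at hm; omega
    · rw [← hs 3 (by rw [s3]; norm_num), s3] at hm; omega
    · rw [← hs 4 (by rw [s4]; norm_num), s4] at hm; omega
  subst hj1
  rw [show LyOrbitClosed41.reps 1 = Z from rfl] at hh hMX
  rw [LyOrbitCount41.X_Z_eq] at hMX
  refine ⟨((t * Z⁻¹)⁻¹ * g⁻¹)⁻¹, inv_mem hh, t⁻¹, inv_mem ht, by group, ?_⟩
  exact K_unique hMX hcard

theorem norm_le_H {M : Subgroup L} (hM : M ≤ HLy) (hc : Nat.card M = 3125) (h2 : ¬ Class2 M) :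
    Subgroup.normalizer (M : Set L) ≤ (HLy : Subgroup L) := by
  intro g hg
  by_contra hgH
  obtain ⟨-, -, h, -, -, e⟩ := fix hgH hM hc fun x hx => hM (conj_mem hg hx)
  exact h2 ((class2_map (MulAut.conj h) M).mp (show Class2 (cj h M) from e ▸ class2_Q))

end Cfsg.Agent.LyOutSub66
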