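import Cfsg.Agent.Lib.LyOutSub66

/-!
Finite tests in G2(5) for the centraliser of the part that `z` conjugates into it.
-/

set_option autoImplicit false
set_option maxRecDepth 100000
set_option maxHeartbeats 1000000

namespace Cfsg.Agent.LyOutTest66

open Cfsg Cfsg.Agent.LyG2Five64 Cfsg.Agent.LyMultWords66 Cfsg.Agent.LyOutBase66 Cfsg.Agent.LyOutData66
open Cfsg.Agent.LyOutSub66
open Cfsg.Agent.LyOrbitCore41 (L ev Z eq_ev ev_append ev_nil ev_H okW mem_K K)
open Cfsg.Agent.LyOrbitCover41 (P p5)
open scoped commutatorElement

/-- A witness that a representative moves `K`. -/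
noncomputable def movedK (p : ℕ) : Bool :=
  LyMultWords66.same (wi (p5.getD p []) ++ p5.getD p []) [] &&
    [5, 6, 7].any fun k => (List.range 4).any fun i =>
      LyOrbitNotMem41.moves (wi (p5.getD p []) ++ gW.getD k [] ++ p5.getD p []) i

theorem moved_all : ∀ p < 4, movedK (p + 1) = true := by decide +kernel

/-- The two tests on the 96 elements. -/
noncomputable def nTest (lo : ℕ) : Bool :=
  (List.range 8).all fun d => (fun n =>
    LyMultWords66.same (wi (subw gW (nW.getD n [])) ++ subw gW (nW.getD n [])) [] &&
    Nat.blt (nT2.getD n 9) 5 &&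
    LyMultWords66.same (wi (hW.getD (nT2.getD n 9) []) ++ hW.getD (nT2.getD n 9) []) [] &&
    ((List.range 5).all fun m => diff (subw gW (nW.getD n []) ++ gW.getD (nT2.getD n 9) [] ++
      wi (subw gW (nW.getD n [])) ++ wi (hW.getD (nT2.getD n 9) [])) (List.replicate m 6)) &&
    cond (Nat.blt (nT1.getD n 9) 5)
      (LyMultWords66.same (wi (gW.getD (nT1.getD n 9) []) ++ gW.getD (nT1.getD n 9) []) [] &&
        (List.range 5).all fun m => diff (subw gW (nW.getD n []) ++ gW.getD (nT1.getD n 9) [] ++
          wi (subw gW (nW.getD n [])) ++ wi (gW.getD (nT1.getD n 9) [])) (List.replicate m 6))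
      (LyMultWords66.same (subw gW (nW.getD n [])) [])) (lo + d)

theorem n_test0 : nTest 0 = true := by decide +kernel

theorem n_test1 : nTest 8 = true := by decide +kernel

theorem n_test2 : nTest 16 = true := by decide +kernel

theorem n_test3 : nTest 24 = true := by decide +kernel

theorem n_test4 : nTest 32 = true := by decide +kernel

theorem n_test5 : nTest 40 = true := by decide +kernel

theorem n_test6 : nTest 48 = true := by decide +kernel

theorem n_test7 : nTest 56 = true := by decide +kernel

theorem n_test8 : nTest 64 = true := by decide +kernel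

theorem n_test9 : nTest 72 = true := by decide +kernel

theorem n_test10 : nTest 80 = true := by decide +kernel

theorem n_test11 : nTest 88 = true := by decide +kernel

theorem n_test_all (lo : ℕ) (h : lo < 12) : nTest (8 * lo) = true := by
  interval_cases lo
  exacts [n_test0, n_test1, n_test2, n_test3, n_test4, n_test5, n_test6, n_test7, n_test8, n_test9, n_test10, n_test11]

end Cfsg.Agent.LyOutTest66
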