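import Cfsg.Agent.Lib.LyRepData64

/-!
Long relators are checked through stored intermediate matrices: the value of each tail of a word is a matrix of
an enlarged list, and a short check links it to the next one.
-/

set_option autoImplicit false

namespace Cfsg.Agent.LyRepChain64

open Cfsg.Agent.LyRepCore64 Cfsg.Agent.LyRepData64

/-- The matrix of a letter of a list. -/
noncomputable def Mg (g : List PMat) (k : ℕ) : Matrix (Fin 111) (Fin 111) (ZMod 5) := sMat (sparse (g.getD k []))

/-- The matrix of a letter of the generators. -/
noncomputable def M (k : ℕ) : Matrix (Fin 111) (Fin 111) (ZMod 5) := Mg gens k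

variable {g : List PMat}

/-- All letters of a list of matrices are square. -/
def allOk (g : List PMat) : Bool := g.all rowsOk

theorem ok_of (hg : allOk g = true) {k : ℕ} (hk : k < g.length) : rowsOk (g.getD k []) = true := by
  rw [List.getD_eq_getElem _ _ hk]
  exact List.all_eq_true.mp hg _ (List.getElem_mem hk)

theorem chain_last (hg : allOk g = true) {s : ℕ} {c : List ℕ}
    (hlt : (s :: c).all (fun x => Nat.blt x g.length) = true) (h : sameWord g [s] c = true) :
    Mg g s = (c.map (Mg g)).prod := by
  simp only [List.all_eq_true, Nat.blt_eq, List.mem_cons, forall_eq_or_imp] at hlt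
  have e := sameWord_sound (fun x hx => ok_of hg (by rw [List.mem_singleton.mp hx]; exact hlt.1))
    (fun x hx => ok_of hg (hlt.2 x hx)) h
  rw [List.map_singleton, List.prod_singleton] at e
  exact e

theorem chain_cons (hg : allOk g = true) {s s' : ℕ} {c rest : List ℕ}
    (hlt : (s :: (c ++ [s'])).all (fun x => Nat.blt x g.length) = true)
    (h : sameWord g [s] (c ++ [s']) = true) (h' : Mg g s' = (rest.map (Mg g)).prod) :
    Mg g s = ((c ++ rest).map (Mg g)).prod := by
  rw [chain_last hg hlt h, List.map_append, List.prod_append, List.map_append, List.prod_append,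
    List.map_singleton, List.prod_singleton, h']

theorem chain_one (hg : allOk g = true) {s' : ℕ} {c rest : List ℕ}
    (hlt : (c ++ [s']).all (fun x => Nat.blt x g.length) = true)
    (h : wordIsOne g (c ++ [s']) = true) (h' : Mg g s' = (rest.map (Mg g)).prod) :
    ((c ++ rest).map (Mg g)).prod = 1 := by
  simp only [List.all_eq_true, Nat.blt_eq] at hlt
  have e : ((c ++ [s']).map (Mg g)).prod = 1 := wordIsOne_sound (fun x hx => ok_of hg (hlt x hx)) h
  rw [← e, List.map_append, List.prod_append, List.map_append, List.prod_append, List.map_singleton,
    List.prod_singleton, h']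

theorem one_of_word {w : List ℕ} (hg : allOk gens = true) (hlt : w.all (fun x => Nat.blt x gens.length) = true)
    (h : wordIsOne gens w = true) : (w.map M).prod = 1 := by
  simp only [List.all_eq_true, Nat.blt_eq] at hlt
  exact wordIsOne_sound (fun x hx => ok_of hg (hlt x hx)) h

theorem restrict {aux : List PMat} {w : List ℕ} (hlt : w.all (fun x => Nat.blt x gens.length) = true)
    (h : (w.map (Mg (gens ++ aux))).prod = 1) : (w.map M).prod = 1 := by
  simp only [List.all_eq_true, Nat.blt_eq] at hlt
  rw [← h]
  refine congrArg List.prod (List.map_congr_left fun x hx => ?_)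
  simp only [M, Mg, List.getD_eq_getElem?_getD, List.getElem?_append_left (hlt x hx)]

theorem gens_allOk : allOk gens = true := by decide +kernel

end Cfsg.Agent.LyRepChain64
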