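import Mathlib

/-!
A checker for products of matrices over `ZMod 5` of size 111: a matrix of a generator is stored as a list of rows,
each row packed into one natural number with 3-bit digits; values are packed with 40-bit digits.
-/

set_option autoImplicit false

namespace Cfsg.Agent.LyRepCore64

abbrev Bd : ℕ := 2 ^ 40

/-- the `j`-th digit -/
def digit (x j : ℕ) : ℕ := x / 2 ^ (40 * j) % Bd

def rep (c : ℕ) : ℕ → ℕ
  | 0 => 0
  | k + 1 => c + Bd * rep c k

def H8 : ℕ := 0xffffffff00ffffffff00ffffffff00ffffffff00ffffffff00ffffffff00ffffffff00ffffffff00ffffffff00ffffffff00ffffffff00ffffffff00ffffffff00ffffffff00ffffffff00ffffffff00ffffffff00ffffffff00ffffffff00ffffffff00ffffffff00ffffffff00ffffffff00ffffffff00ffffffff00ffffffff00ffffffff00ffffffff00ffffffff00ffffffff00ffffffff00ffffffff00ffffffff00ffffffff00ffffffff00ffffffff00ffffffff00ffffffff00ffffffff00ffffffff00ffffffff00ffffffff00ffffffff00ffffffff00ffffffff00ffffffff00ffffffff00ffffffff00ffffffff00ffffffff00ffffffff00ffffffff00ffffffff00ffffffff00ffffffff00ffffffff00ffffffff00ffffff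ff00ffffffff00ffffffff00ffffffff00ffffffff00ffffffff00ffffffff00ffffffff00ffffffff00ffffffff00ffffffff00ffffffff00ffffffff00ffffffff00ffffffff00ffffffff00ffffffff00ffffffff00ffffffff00ffffffff00ffffffff00ffffffff00ffffffff00ffffffff00ffffffff00ffffffff00ffffffff00ffffffff00ffffffff00ffffffff00ffffffff00ffffffff00ffffffff00ffffffff00ffffffff00ffffffff00ffffffff00ffffffff00ffffffff00ffffffff00ffffffff00ffffffff00ffffffff00ffffffff00ffffffff00ffffffff00ffffffff00ffffffff00ffffffff00ffffffff00ffffffff00ffffffff00ffffffff00ffffffff00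
def M16 : ℕ := 0xffff000000ffff000000ffff000000ffff000000ffff000000ffff000000ffff000000ffff000000ffff000000ffff000000ffff000000ffff000000ffff000000ffff000000ffff000000ffff000000ffff000000ffff000000ffff000000ffff000000ffff000000ffff000000ffff000000ffff000000ffff000000ffff000000ffff000000ffff000000ffff000000ffff000000ffff000000ffff000000ffff000000ffff000000ffff000000ffff000000ffff000000ffff000000ffff000000ffff000000ffff000000ffff000000ffff000000ffff000000ffff000000ffff000000ffff000000ffff000000ffff000000ffff000000ffff000000ffff000000ffff000000ffff000000ffff000000ffff000000ffff000000ffff000000ffff000000ffff000000ffff000000ffff000000ffff000000ffff000000ffff000000ffff000000ffff000000ffff000000ffff000000ffff000000ffff000000ffff000000ffff000000ffff000000ffff000000ffff000000ffff000000ffff000000ffff000000ffff000000ffff000000ffff000000ffff000000ffff000000ffff000000ffff000000ffff000000ffff000000ffff000000ffff000000ffff000000ffff000000ffff000000ffff000000ffff000000ffff000000ffff000000ffff000000ffff000000ffff000000ffff000000ffff000000ffff000000ffff000000ffff000000ffff000000ffff000000ffff000000ffff000000ffff000000ffff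
def H16 : ℕ := 0xffffff0000ffffff0000ffffff0000ffffff0000ffffff0000ffffff0000ffffff0000ffffff0000ffffff0000ffffff0000ffffff0000ffffff0000ffffff0000ffffff0000ffffff0000ffffff0000ffffff0000ffffff0000ffffff0000ffffff0000ffffff0000ffffff0000ffffff0000ffffff0000ffffff0000ffffff0000ffffff0000ffffff0000ffffff0000ffffff0000ffffff0000ffffff0000ffffff0000ffffff0000ffffff0000ffffff0000ffffff0000ffffff0000ffffff0000ffffff0000ffffff0000ffffff0000ffffff0000ffffff0000ffffff0000ffffff0000ffffff0000ffffff0000ffffff0000ffffff0000ffffff0000ffffff0000ffffff0000ffffff0000ffffff0000ffffff0000ffffff0000ffffff0000ffffff0000ffffff0000ffffff0000ffffff0000ffffff0000ffffff0000ffffff0000ffffff0000ffffff0000ffffff0000ffffff0000ffffff0000ffffff0000ffffff0000ffffff0000ffffff0000ffffff0000ffffff0000ffffff0000ffffff0000ffffff0000ffffff0000ffffff0000ffffff0000ffffff0000ffffff0000ffffff0000ffffff0000ffffff0000ffffff0000ffffff0000ffffff0000ffffff0000ffffff0000ffffff0000ffffff0000ffffff0000ffffff0000ffffff0000ffffff0000ffffff0000ffffff0000ffffff0000ffffff0000ffffff0000ffffff0000ffffff0000ffffff0000ffffff0000ffffff0000ffffff0000ffffff0000ffffff0000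

noncomputable def force {α : Type} (n : ℕ) (f : ℕ → α) : α :=
  Nat.rec (motive := fun _ => α) (f 0) (fun k _ => f (Nat.add k 1)) n

theorem force_eq {α : Type} (n : ℕ) (f : ℕ → α) : force n f = f n := by
  cases n <;> rfl

/-- digitwise reduction, guarded -/
noncomputable def red (n : ℕ) : Option ℕ :=
  force n fun n =>
  force (Nat.land (Nat.shiftRight (Nat.mul n 3355444) 24) M16) fun q =>
    force (Nat.sub n (Nat.mul 5 q)) fun r =>
      cond (Nat.beq (Nat.land r H8) 0 && Nat.beq (Nat.land q H16) 0 && Nat.beq (Nat.add r (Nat.mul 5 q)) n)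
        (some r) none

abbrev SRow := List (ℕ × ℕ)
abbrev SMat := List SRow
/-- a matrix by packed rows -/
abbrev PMat := List ℕ

/-- the entries of a packed row -/
def unpack : ℕ → ℕ → ℕ → SRow
  | 0, _, _ => []
  | k + 1, col, n => (col, Nat.land n 7) :: unpack k (col + 1) (Nat.shiftRight n 3)

/-- the sparse form of a packed matrix -/
def sparse (G : PMat) : SMat := G.map (unpack 111 0)

/-- a binary tree of numbers, for fast lookup by the kernel -/
inductive Tree where
  | leaf : ℕ → Tree
  | node : Tree → Tree → Tree

/-- lookup; `k` is half the number of leaves -/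
noncomputable def Tree.get (t : Tree) : ℕ → ℕ → ℕ :=
  Tree.rec (fun v _ _ => v)
    (fun _ _ gl gr k c => Bool.rec (gr (k / 2) (c - k)) (gl (k / 2) c) (Nat.blt c k)) t

/-- tree of the first `2 ^ k` entries, and the rest -/
def takeTree : ℕ → List ℕ → Tree × List ℕ
  | 0, [] => (.leaf 0, [])
  | 0, x :: l => (.leaf x, l)
  | k + 1, l => match takeTree k l with
    | (a, l1) => match takeTree k l1 with
      | (b, l2) => (.node a b, l2)

noncomputable def rowAcc (r : SRow) (t : Tree) : ℕ → ℕ :=
  List.rec (fun a => a) (fun e _ k a => force (a + e.2 * t.get 64 e.1) k) r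

/-- the accumulation straight from a packed row, walking along the list of values -/
noncomputable def packAcc (X : List ℕ) : ℕ → ℕ → ℕ :=
  List.rec (motive := fun _ => ℕ → ℕ → ℕ) (fun _ a => a)
    (fun x _ ih n a => ih (Nat.shiftRight n 3) (Nat.add a (Nat.mul (Nat.land n 7) x))) X

theorem packAcc_eq (t : Tree) : ∀ (X : List ℕ) (col n a : ℕ),
    (∀ i < X.length, t.get 64 (col + i) = X.getD i 0) →
      packAcc X n a = rowAcc (unpack X.length col n) t a := by
  intro X
  induction X with
  | nil => intro col n a _; rfl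
  | cons x xs ih =>
    intro col n a h
    have h0 : packAcc (x :: xs) n a = packAcc xs (Nat.shiftRight n 3) (a + Nat.land n 7 * x) := by
      rfl
    have hx : t.get 64 col = x := by simpa using h 0 (by simp)
    rw [h0, ih (col + 1) _ _ (fun i hi => by
      have := h (i + 1) (by simp; omega)
      rw [List.getD_cons_succ] at this
      rw [← this]; congr 1; omega)]
    simp only [List.length_cons, unpack, rowAcc, force_eq, hx]

/-- a list with all entries evaluated, passed on -/
noncomputable def forceList {α : Type} : List ℕ → (List ℕ → α) → α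
  | [], k => k []
  | x :: l, k => force x fun v => forceList l fun l' => k (v :: l')

theorem forceList_eq {α : Type} : ∀ (l : List ℕ) (k : List ℕ → α), forceList l k = k l := by
  intro l
  induction l with
  | nil => intro k; rfl
  | cons x l ih => intro k; simp only [forceList, force_eq, ih]

def mapRows (f : ℕ → Option ℕ) : PMat → Option (List ℕ)
  | [] => some []
  | r :: rs =>
    match f r with
    | none => none
    | some v => match mapRows f rs with
      | none => none
      | some l => some (v :: l)

def withTree (p : Tree × List ℕ) (f : Tree → Option (List ℕ)) : Option (List ℕ) :=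
  match p with
  | (t, _) => f t

theorem withTree_eq (p : Tree × List ℕ) (f : Tree → Option (List ℕ)) : withTree p f = f p.1 := by
  cases p; rfl

noncomputable def step (G : PMat) (X : List ℕ) : Option (List ℕ) :=
  forceList X fun X' => cond (Nat.beq X'.length 111) (mapRows (fun r => red (packAcc X' r 0)) G) none

noncomputable def idAux : ℕ → ℕ → List ℕ
  | _, 0 => []
  | s, k + 1 => force (2 ^ (40 * s)) fun v => v :: idAux (s + 1) k

noncomputable def idP : List ℕ := idAux 0 111

noncomputable def evalWord (gens : List PMat) : List ℕ → Option (List ℕ)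
  | [] => some idP
  | g :: gs => match evalWord gens gs with
    | none => none
    | some X => step (gens.getD g []) X

noncomputable def wordIsOne (gens : List PMat) (w : List ℕ) : Bool :=
  match evalWord gens w with
  | none => false
  | some X => X == idP

def rowsOk (G : PMat) : Bool := G.length == 111

theorem unpack_facts : ∀ k col n, (∀ e ∈ unpack k col n, col ≤ e.1 ∧ e.1 < col + k) ∧
    ((unpack k col n).map (·.2)).sum ≤ 7 * k := by
  intro k
  induction k with
  | zero => intro col n; simp [unpack]
  | succ k ih =>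
    intro col n
    obtain ⟨h1, h2⟩ := ih (col + 1) (Nat.shiftRight n 3)
    have h3 : Nat.land n 7 ≤ 7 := Nat.and_le_right
    refine ⟨fun e he => ?_, ?_⟩
    · rcases List.mem_cons.mp he with rfl | he
      · simp
      · have := h1 e he; omega
    · simp only [unpack, List.map_cons, List.sum_cons]; omega

/-! ### soundness -/

theorem digit_zero (x : ℕ) : digit x 0 = x % Bd := by simp [digit]

theorem digit_succ (x j : ℕ) : digit x (j + 1) = digit (x / Bd) j := by
  unfold digit
  rw [Nat.div_div_eq_div_mul, ← pow_add, show 40 * (j + 1) = 40 + 40 * j by ring]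

theorem digit_add : ∀ (j : ℕ) (x y : ℕ), (∀ i ≤ j, digit x i + digit y i < Bd) →
    digit (x + y) j = digit x j + digit y j := by
  intro j
  induction j with
  | zero =>
    intro x y h
    have h0 := h 0 le_rfl
    simp only [digit_zero] at h0 ⊢
    rw [Nat.add_mod, Nat.mod_eq_of_lt h0]
  | succ j ih =>
    intro x y h
    have h0 := h 0 (Nat.zero_le _)
    simp only [digit_zero] at h0
    have hd : (x + y) / Bd = x / Bd + y / Bd := by
      have e := Nat.div_add_mod x Bd
      have e' := Nat.div_add_mod y Bd
      simp only [Bd] at *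
      omega
    rw [digit_succ, hd, ih, ← digit_succ, ← digit_succ]
    intro i hi
    have := h (i + 1) (by omega)
    rwa [digit_succ, digit_succ] at this

theorem digit_mul : ∀ (j : ℕ) (a x : ℕ), (∀ i ≤ j, a * digit x i < Bd) →
    digit (a * x) j = a * digit x j := by
  intro j
  induction j with
  | zero =>
    intro a x h
    have h0 := h 0 le_rfl
    simp only [digit_zero] at h0 ⊢
    rw [Nat.mul_mod, Nat.mod_eq_of_lt (lt_of_le_of_lt (Nat.mul_le_mul_right _ (Nat.mod_le _ _)) h0)]
    rcases lt_or_ge a Bd with ha | ha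
    · rw [Nat.mod_eq_of_lt ha]
    · have : x % Bd = 0 := by
        by_contra hne
        have : Bd * 1 ≤ a * (x % Bd) := Nat.mul_le_mul ha (by omega)
        omega
      simp [this]
  | succ j ih =>
    intro a x h
    have h0 := h 0 (Nat.zero_le _)
    simp only [digit_zero] at h0
    have hd : a * x / Bd = a * (x / Bd) := by
      conv_lhs => rw [← Nat.div_add_mod x Bd, mul_add, mul_left_comm]
      rw [Nat.mul_add_div (by norm_num [Bd]), Nat.div_eq_of_lt h0, add_zero]
    rw [digit_succ, hd, ih, ← digit_succ]
    intro i hi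
    have := h (i + 1) (by omega)
    rwa [digit_succ] at this

theorem digit_and (x y j : ℕ) : digit (x &&& y) j = digit x j &&& digit y j := by
  unfold digit Bd
  rw [← Nat.shiftRight_eq_div_pow, ← Nat.shiftRight_eq_div_pow, ← Nat.shiftRight_eq_div_pow,
    Nat.shiftRight_and_distrib, Nat.and_mod_two_pow]

theorem small_of_and {x : ℕ} (k : ℕ) (hk : k ≤ 40) (hx : x < 2 ^ 40)
    (h : x &&& (2 ^ 40 - 2 ^ k) = 0) : x < 2 ^ k := by
  have h1 : (x >>> k) &&& ((2 ^ 40 - 2 ^ k) >>> k) = 0 := by
    rw [← Nat.shiftRight_and_distrib, h, Nat.zero_shiftRight]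
  have h2 : (2 ^ 40 - 2 ^ k) >>> k = 2 ^ (40 - k) - 1 := by
    rw [Nat.shiftRight_eq_div_pow]
    have : 2 ^ 40 - 2 ^ k = (2 ^ (40 - k) - 1) * 2 ^ k := by
      rw [Nat.sub_mul, one_mul, ← pow_add, Nat.sub_add_cancel hk]
    rw [this, Nat.mul_div_cancel _ (by positivity)]
  rw [h2, Nat.and_two_pow_sub_one_eq_mod, Nat.shiftRight_eq_div_pow, Nat.mod_eq_of_lt] at h1
  · rcases Nat.div_eq_zero_iff.mp h1 with h3 | h3
    · exact absurd h3 (by positivity)
    · exact h3
  · rw [Nat.div_lt_iff_lt_mul (by positivity), ← pow_add, Nat.sub_add_cancel hk]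
    exact hx

theorem digit_rep (c : ℕ) (hc : c < Bd) : ∀ j k, j < k → digit (rep c k) j = c := by
  intro j
  induction j with
  | zero =>
    intro k hk
    obtain ⟨k, rfl⟩ : ∃ m, k = m + 1 := ⟨k - 1, by omega⟩
    rw [digit_zero, rep, Nat.add_mul_mod_self_left, Nat.mod_eq_of_lt hc]
  | succ j ih =>
    intro k hk
    obtain ⟨k, rfl⟩ : ∃ m, k = m + 1 := ⟨k - 1, by omega⟩
    rw [digit_succ, rep, Nat.add_mul_div_left _ _ (Nat.two_pow_pos _), Nat.div_eq_of_lt hc, zero_add]
    exact ih k (by omega)

theorem masks_eq : H8 = rep (2 ^ 40 - 2 ^ 8) 111 ∧ H16 = rep (2 ^ 40 - 2 ^ 16) 111 := by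
  decide +kernel

theorem masks : ∀ j < 111, digit H8 j = 2 ^ 40 - 2 ^ 8 ∧ digit H16 j = 2 ^ 40 - 2 ^ 16 := fun j hj =>
  ⟨masks_eq.1 ▸ digit_rep _ (by norm_num [Bd]) j 111 hj, masks_eq.2 ▸ digit_rep _ (by norm_num [Bd]) j 111 hj⟩

/-- a row with small digits -/
def Small (x : ℕ) : Prop := ∀ j < 111, digit x j < 2 ^ 8

theorem digit_lt (x j : ℕ) : digit x j < Bd := Nat.mod_lt _ (by norm_num [Bd])

def val (x j : ℕ) : ZMod 5 := (digit x j : ℕ)

theorem red_sound {n r : ℕ} (h : red n = some r) :
    Small r ∧ ∀ j < 111, val r j = val n j := by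
  unfold red at h
  simp only [force_eq] at h
  generalize Nat.land (Nat.shiftRight (Nat.mul n 3355444) 24) M16 = q at h
  generalize Nat.sub n (Nat.mul 5 q) = r' at h
  cases hc : (Nat.beq (Nat.land r' H8) 0 && Nat.beq (Nat.land q H16) 0 && Nat.beq (Nat.add r' (Nat.mul 5 q)) n) with
  | false => rw [hc] at h; simp at h
  | true =>
    rw [hc] at h
    simp only [cond_true] at h
    simp only [Bool.and_eq_true, Nat.beq_eq] at hc
    simp only [show ∀ a b, Nat.land a b = a &&& b from fun _ _ => rfl, show ∀ a b, Nat.add a b = a + b from fun _ _ => rfl,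
      show ∀ a b, Nat.mul a b = a * b from fun _ _ => rfl] at hc
    obtain ⟨⟨h1, h2⟩, h3⟩ := hc
    rw [Option.some.injEq] at h
    subst h
    have hr : ∀ j < 111, digit r' j < 2 ^ 8 := fun j hj => by
      refine small_of_and 8 (by norm_num) (digit_lt _ _) ?_
      rw [← (masks j hj).1, ← digit_and, h1]; simp [digit]
    have hq' : ∀ j < 111, digit q j < 2 ^ 16 := fun j hj => by
      refine small_of_and 16 (by norm_num) (digit_lt _ _) ?_
      rw [← (masks j hj).2, ← digit_and, h2]; simp [digit]
    refine ⟨hr, fun j hj => ?_⟩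
    have hm : ∀ i ≤ j, digit (5 * q) i = 5 * digit q i := fun i hi =>
      digit_mul i 5 q fun t ht => by
        have := hq' t (by omega); simp only [Bd]; omega
    have : digit n j = digit r' j + 5 * digit q j := by
      rw [← h3, digit_add, hm j le_rfl]
      intro i hi
      rw [hm i hi]
      have := hq' i (by omega); have := hr i (by omega); simp only [Bd]; omega
    unfold val
    rw [this, Nat.cast_add, Nat.cast_mul, show ((5 : ℕ) : ZMod 5) = 0 from by decide, zero_mul, add_zero]

theorem get_node (a b : Tree) (k c : ℕ) :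
    (Tree.node a b).get k c = if c < k then a.get (k / 2) c else b.get (k / 2) (c - k) := by
  show (Bool.rec (motive := fun _ => ℕ) (b.get (k / 2) (c - k)) (a.get (k / 2) c) (Nat.blt c k)) = _
  cases hb : Nat.blt c k with
  | false =>
    rw [if_neg]
    intro h
    rw [Nat.blt_eq.mpr h] at hb
    exact absurd hb (by decide)
  | true => rw [if_pos (Nat.blt_eq.mp hb)]

theorem takeTree_spec : ∀ (k : ℕ) (l : List ℕ), (takeTree k l).2 = l.drop (2 ^ k) ∧
    ∀ c < 2 ^ k, (takeTree k l).1.get (2 ^ k / 2) c = l.getD c 0 := by
  intro k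
  induction k with
  | zero =>
    intro l
    cases l with
    | nil => exact ⟨rfl, fun c _ => by simp [takeTree, Tree.get]⟩
    | cons x l =>
      refine ⟨rfl, fun c hc => ?_⟩
      obtain rfl : c = 0 := by simpa using hc
      simp [takeTree, Tree.get]
  | succ k ih =>
    intro l
    obtain ⟨h1, g1⟩ := ih l
    obtain ⟨h2, g2⟩ := ih (takeTree k l).2
    have hp : 2 ^ (k + 1) = 2 ^ k + 2 ^ k := by ring
    refine ⟨?_, fun c hc => ?_⟩
    · show (takeTree k (takeTree k l).2).2 = _
      rw [h2, h1, List.drop_drop, hp]
    · show (Tree.node (takeTree k l).1 (takeTree k (takeTree k l).2).1).get (2 ^ (k + 1) / 2) c = _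
      rw [get_node, show 2 ^ (k + 1) / 2 = 2 ^ k by omega]
      split
      · exact g1 c ‹_›
      · rw [g2 _ (by omega), h1, List.getD_eq_getElem?_getD, List.getD_eq_getElem?_getD, List.getElem?_drop,
          show 2 ^ k + (c - 2 ^ k) = c by omega]

theorem rowAcc_cons (e : ℕ × ℕ) (es : SRow) (t : Tree) (acc : ℕ) :
    rowAcc (e :: es) t acc = rowAcc es t (acc + e.2 * t.get 64 e.1) := by
  simp only [rowAcc, force_eq]

theorem rowAcc_sound (t : Tree) (X : List ℕ) (ht : ∀ c < 111, t.get 64 c = X.getD c 0)
    (hX : ∀ c < 111, Small (X.getD c 0)) :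
    ∀ (r : SRow) (acc A : ℕ), (∀ e ∈ r, e.1 < 111) → (r.map (·.2)).sum + A < 2 ^ 30 →
      (∀ j < 111, digit acc j ≤ A * 255) → ∀ j < 111,
      digit (rowAcc r t acc) j = digit acc j + (r.map fun e => e.2 * digit (X.getD e.1 0) j).sum := by
  intro r
  induction r with
  | nil => intro acc A _ _ _ j _; simp [rowAcc]
  | cons e es ih =>
    intro acc A hc hs ha j hj
    simp only [List.map_cons, List.sum_cons] at hs
    have he := hX e.1 (hc e List.mem_cons_self)
    have hb : ∀ i < 111, e.2 * digit (X.getD e.1 0) i ≤ e.2 * 255 := fun i hi =>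
      Nat.mul_le_mul_left _ (by have := he i hi; omega)
    have hm : ∀ i < 111, digit (e.2 * X.getD e.1 0) i = e.2 * digit (X.getD e.1 0) i := fun i hi =>
      digit_mul i _ _ fun t ht => by
        have := hb t (by omega); simp only [Bd]; omega
    have hadd : ∀ i < 111, digit (acc + e.2 * X.getD e.1 0) i = digit acc i + e.2 * digit (X.getD e.1 0) i := by
      intro i hi
      rw [digit_add, hm i hi]
      intro t ht
      rw [hm t (by omega)]
      have := hb t (by omega); have := ha t (by omega); simp only [Bd]; omega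
    rw [rowAcc_cons, ht e.1 (hc e List.mem_cons_self), ih _ (A + e.2) (fun x hx => hc x (List.mem_cons_of_mem _ hx)) (by omega)
      (fun i hi => by rw [hadd i hi]; have := hb i hi; have := ha i hi; omega) j hj, hadd j hj]
    simp only [List.map_cons, List.sum_cons]
    ring

/-- value of a packed matrix -/
def pMat (X : List ℕ) : Matrix (Fin 111) (Fin 111) (ZMod 5) :=
  fun i j => val (X.getD i.1 0) j.1

/-- value of a sparse row -/
def rowVal (r : SRow) (k : ℕ) : ZMod 5 :=
  (r.map fun e => if e.1 = k then (e.2 : ZMod 5) else 0).sum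

def sMat (G : SMat) : Matrix (Fin 111) (Fin 111) (ZMod 5) :=
  fun i k => rowVal (G.getD i.1 []) k.1

theorem mapRows_get (f : ℕ → Option ℕ) : ∀ (G : PMat) (Y : List ℕ), mapRows f G = some Y →
    Y.length = G.length ∧ ∀ i < G.length, f (G.getD i 0) = some (Y.getD i 0) := by
  intro G
  induction G with
  | nil => intro Y h; simp only [mapRows, Option.some.injEq] at h; subst h; simp
  | cons r rs ih =>
    intro Y h
    simp only [mapRows] at h
    cases h1 : f r with
    | none => simp [h1] at h
    | some v =>
      cases h2 : mapRows f rs with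
      | none => simp [h1, h2] at h
      | some l =>
        simp only [h1, h2, Option.some.injEq] at h
        subst h
        obtain ⟨hl, hi⟩ := ih l h2
        refine ⟨by simp [hl], fun i hi' => ?_⟩
        cases i with
        | zero => simpa using h1
        | succ i =>
          simp only [List.getD_cons_succ]
          exact hi i (by simpa using hi')

theorem rowVal_mul (r : SRow) (X : Matrix (Fin 111) (Fin 111) (ZMod 5)) (j : Fin 111) (hc : ∀ e ∈ r, e.1 < 111) :
    ∑ k : Fin 111, rowVal r k.1 * X k j =
      (r.map fun e => if h : e.1 < 111 then (e.2 : ZMod 5) * X ⟨e.1, h⟩ j else 0).sum := by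
  induction r with
  | nil => simp [rowVal]
  | cons e es ih =>
    have he := hc e List.mem_cons_self
    simp only [rowVal, List.map_cons, List.sum_cons, add_mul, Finset.sum_add_distrib]
    rw [show ∑ k : Fin 111, (es.map fun e => if e.1 = k.1 then (e.2 : ZMod 5) else 0).sum * X k j = _ from
      ih fun x hx => hc x (List.mem_cons_of_mem _ hx)]
    refine congrArg₂ (· + ·) ?_ rfl
    rw [dif_pos he, Finset.sum_eq_single (⟨e.1, he⟩ : Fin 111)]
    · simp
    · intro k _ hk
      rw [if_neg, zero_mul]
      intro h; exact hk (Fin.ext h.symm)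
    · simp

def AllSmall (X : List ℕ) : Prop := ∀ c < 111, Small (X.getD c 0)

theorem step_sound {G : PMat} {X Y : List ℕ} (hG : rowsOk G = true) (hX : AllSmall X)
    (h : step G X = some Y) : AllSmall Y ∧ pMat Y = sMat (sparse G) * pMat X := by
  simp only [rowsOk, beq_iff_eq] at hG
  rw [step, forceList_eq] at h
  obtain ⟨T, hT⟩ : ∃ T, takeTree 7 X = T := ⟨_, rfl⟩
  obtain ⟨hlen, h⟩ : X.length = 111 ∧ mapRows (fun r => red (packAcc X r 0)) G = some Y := by
    cases hb : Nat.beq X.length 111 with
    | false => rw [hb] at h; simp at h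
    | true => rw [hb] at h; exact ⟨Nat.eq_of_beq_eq_true hb, h⟩
  have ht : ∀ c < 111, T.1.get 64 c = X.getD c 0 := fun c hc => by
    have h7 := (takeTree_spec 7 X).2 c (lt_of_lt_of_le hc (by norm_num))
    rw [hT] at h7
    exact h7
  obtain ⟨-, hs⟩ := mapRows_get (fun r => red (packAcc X r 0)) G Y h
  refine ⟨fun c hc => (red_sound (hs c (by omega))).1, ?_⟩
  ext i j
  have hi : i.1 < G.length := by omega
  have hrow : (sparse G).getD i.1 [] = unpack 111 0 (G.getD i.1 0) := by
    rw [sparse, List.getD_eq_getElem _ _ (by simpa using hi), List.getElem_map, List.getD_eq_getElem _ _ hi]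
  obtain ⟨hc', hsum⟩ := unpack_facts 111 0 (G.getD i.1 0)
  have hc : ∀ e ∈ unpack 111 0 (G.getD i.1 0), e.1 < 111 := fun e he => by have := hc' e he; omega
  rw [Matrix.mul_apply]
  show val (Y.getD i.1 0) j.1 = ∑ k, rowVal ((sparse G).getD i.1 []) k.1 * pMat X k j
  rw [hrow, (red_sound (hs i.1 hi)).2 j.1 j.2, rowVal_mul _ _ _ hc, val,
    packAcc_eq T.1 X 0 _ _ (fun c hc => by simpa using ht c (by omega)), hlen,
    rowAcc_sound _ X ht hX _ 0 0 hc (by omega) (fun t _ => by simp [digit]) j.1 j.2]
  rw [show digit 0 j.1 = 0 from by simp [digit], zero_add, Nat.cast_list_sum, List.map_map]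
  refine congrArg List.sum (List.map_congr_left fun e he => ?_)
  rw [dif_pos (hc e he)]
  simp [pMat, val]

theorem idP_get : (List.range 111).all (fun c => idP.getD c 0 == 2 ^ (40 * c)) = true := by
  decide +kernel

theorem digit_pow : ∀ (j c : ℕ), digit (2 ^ (40 * c)) j = if c = j then 1 else 0 := by
  intro j
  induction j with
  | zero =>
    intro c
    rw [digit_zero]
    cases c with
    | zero => rw [if_pos rfl, mul_zero, pow_zero]; exact Nat.one_mod_eq_one.mpr (by norm_num)
    | succ c =>
      rw [if_neg (by omega), show 40 * (c + 1) = 40 + 40 * c by ring, pow_add]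
      exact Nat.mul_mod_right _ _
  | succ j ih =>
    intro c
    rw [digit_succ]
    cases c with
    | zero =>
      rw [if_neg (by omega), mul_zero, pow_zero, Nat.div_eq_of_lt (Nat.one_lt_two_pow (by norm_num))]
      unfold digit
      rw [Nat.zero_div, Nat.zero_mod]
    | succ c =>
      rw [show 40 * (c + 1) = 40 + 40 * c by ring, pow_add, Nat.mul_div_cancel_left _ (Nat.two_pow_pos _), ih]
      simp only [Nat.add_right_cancel_iff]

theorem idP_facts : ∀ c < 111, ∀ j < 111, digit (idP.getD c 0) j = if c = j then 1 else 0 := by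
  intro c hc j _
  have h := List.all_eq_true.mp idP_get c (List.mem_range.mpr hc)
  rw [beq_iff_eq] at h
  rw [h, digit_pow]

theorem pMat_id : pMat idP = 1 := by
  ext i j
  simp only [pMat, val, idP_facts i.1 i.2 j.1 j.2, Matrix.one_apply, Fin.ext_iff]
  split <;> simp

theorem evalWord_sound (gens : List PMat) : ∀ (w : List ℕ) (Y : List ℕ),
    (∀ g ∈ w, rowsOk (gens.getD g []) = true) → evalWord gens w = some Y →
      AllSmall Y ∧ pMat Y = (w.map fun g => sMat (sparse (gens.getD g []))).prod := by
  intro w
  induction w with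
  | nil =>
    intro Y _ h
    simp only [evalWord, Option.some.injEq] at h
    subst h
    refine ⟨fun c hc j hj => ?_, by simp [pMat_id]⟩
    rw [idP_facts c hc j hj]; split <;> norm_num
  | cons g gs ih =>
    intro Y hg h
    simp only [evalWord] at h
    cases h1 : evalWord gens gs with
    | none => simp [h1] at h
    | some X =>
      simp only [h1] at h
      obtain ⟨hX, hp⟩ := ih X (fun x hx => hg x (List.mem_cons_of_mem _ hx)) h1
      obtain ⟨hY, hq⟩ := step_sound (hg g List.mem_cons_self) hX h
      refine ⟨hY, ?_⟩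
      rw [hq, hp, List.map_cons, List.prod_cons]

theorem wordIsOne_sound {gens : List PMat} {w : List ℕ} (hg : ∀ g ∈ w, rowsOk (gens.getD g []) = true)
    (h : wordIsOne gens w = true) : (w.map fun g => sMat (sparse (gens.getD g []))).prod = 1 := by
  unfold wordIsOne at h
  cases h1 : evalWord gens w with
  | none => simp [h1] at h
  | some X =>
    simp only [h1, beq_iff_eq] at h
    rw [← (evalWord_sound gens w X hg h1).2, h, pMat_id]

/-- two words have the same value -/
noncomputable def sameWord (gens : List PMat) (v w : List ℕ) : Bool :=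
  match evalWord gens v, evalWord gens w with
  | some X, some Y => X == Y
  | _, _ => false

theorem sameWord_sound {gens : List PMat} {v w : List ℕ} (hv : ∀ g ∈ v, rowsOk (gens.getD g []) = true)
    (hw : ∀ g ∈ w, rowsOk (gens.getD g []) = true) (h : sameWord gens v w = true) :
    (v.map fun g => sMat (sparse (gens.getD g []))).prod = (w.map fun g => sMat (sparse (gens.getD g []))).prod := by
  unfold sameWord at h
  split at h
  · rename_i X Y h1 h2
    rw [beq_iff_eq] at h
    rw [← (evalWord_sound gens v X hv h1).2, ← (evalWord_sound gens w Y hw h2).2, h]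
  · exact absurd h (by simp)

/-- a word followed by `k` has the value of `k`, so the word has the value one -/
theorem prod_one_of_pad {gens : List PMat} {w : List ℕ} {k l : ℕ}
    (hw : ∀ g ∈ w, rowsOk (gens.getD g []) = true) (hk : rowsOk (gens.getD k []) = true)
    (hkl : sMat (sparse (gens.getD k [])) * sMat (sparse (gens.getD l [])) = 1)
    (h : sameWord gens (w ++ [k]) [k] = true) : (w.map fun g => sMat (sparse (gens.getD g []))).prod = 1 := by
  have h1 := sameWord_sound (fun g hg => (List.mem_append.mp hg).elim (hw g)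
    (fun e => by rw [List.mem_singleton.mp e]; exact hk))
    (fun g hg => by rw [List.mem_singleton.mp hg]; exact hk) h
  rw [List.map_append, List.prod_append, List.map_singleton, List.prod_singleton] at h1
  calc (w.map fun g => sMat (sparse (gens.getD g []))).prod
      = (w.map fun g => sMat (sparse (gens.getD g []))).prod * (sMat (sparse (gens.getD k [])) * sMat (sparse (gens.getD l []))) := by
        rw [hkl, mul_one]
    _ = 1 := by rw [← mul_assoc, h1, hkl]

/-- an entry of the value of a word differs from the identity -/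
noncomputable def notOne (gens : List PMat) (w : List ℕ) (i j : ℕ) : Bool :=
  match evalWord gens w with
  | none => false
  | some X => !(digit (X.getD i 0) j % 5 == if i = j then 1 else 0)

theorem notOne_sound {gens : List PMat} {w : List ℕ} {i j : ℕ} (hi : i < 111) (hj : j < 111)
    (hg : ∀ g ∈ w, rowsOk (gens.getD g []) = true) (h : notOne gens w i j = true) :
    (w.map fun g => sMat (sparse (gens.getD g []))).prod ≠ 1 := by
  unfold notOne at h
  cases h1 : evalWord gens w with
  | none => simp [h1] at h
  | some X =>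
    rw [← (evalWord_sound gens w X hg h1).2]
    intro e
    have e' := congrFun (congrFun e ⟨i, hi⟩) ⟨j, hj⟩
    simp only [pMat, val, Matrix.one_apply, Fin.ext_iff] at e'
    simp only [h1, Bool.not_eq_true', beq_eq_false_iff_ne, ne_eq] at h
    apply h
    have := congrArg ZMod.val e'
    rw [ZMod.val_natCast] at this
    rw [this]
    split <;> rfl

end Cfsg.Agent.LyRepCore64
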