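import Mathlib
import Cfsg.Agent.Lib.PrimeDegreeCoord
import Cfsg.Agent.Lib.PermBasic

/-!
A group of order 7920 acting transitively on eleven points with kernel of order at most two, with a
subgroup of order divisible by 360 generated by three-elements, is simple.
-/

set_option autoImplicit false

namespace Cfsg.Agent.M11Eleven40

open Equiv MulAction Subgroup

theorem normalizer_sylow {α : Type*} [Finite α] (hα : Nat.card α = 11) (G : Subgroup (Perm α))
    [IsPretransitive G α] [Fact (Nat.Prime 11)] (P : Sylow 11 G) {n : ℕ} (hn : Nat.card G = n) :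
    ∃ d, d ∣ 110 ∧ 11 ∣ d ∧ d * Nat.card (Sylow 11 G) = n ∧
      Nat.card (Sylow 11 G) % 11 = 1 ∧ Nat.card (normalizer ((P : Subgroup G) : Set G)) = d := by
  have hd := PrimeDegreeCoord.card_normalizer_dvd hα G P
  have h11 : 11 ∣ Nat.card (normalizer ((P : Subgroup G) : Set G)) :=
    (PrimeDegreeCoord.card_sylow hα G P).symm.dvd.trans (card_dvd_of_le le_normalizer)
  refine ⟨_, by simpa using hd, h11, ?_, ?_, rfl⟩
  · rw [P.card_eq_index_normalizer]
    exact (card_mul_index _).trans hn
  · have := card_sylow_modEq_one 11 G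
    exact this

theorem isSimple {H : Type*} [Group H] [Finite H] (hH : Nat.card H = 7920) {α : Type*} [Finite α]
    (hα : Nat.card α = 11) (f : H →* Perm α) (htr : ∀ a b : α, ∃ h, f h a = b)
    (hker : Nat.card f.ker ≤ 2) (S : Subgroup H) (hS : 360 ∣ Nat.card S)
    (hgen : S ≤ Subgroup.closure {h | h ^ 3 = 1}) : IsSimpleGroup H := by
  classical
  haveI : Fact (Nat.Prime 11) := ⟨by norm_num⟩
  haveI : IsPretransitive f.range α := ⟨fun a b => by
    obtain ⟨h, hh⟩ := htr a b
    exact ⟨⟨f h, h, rfl⟩, hh⟩⟩
  obtain ⟨P⟩ : Nonempty (Sylow 11 f.range) := inferInstance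
  have hk : Nat.card f.ker * Nat.card f.range = 7920 := by
    rw [← hH, ← index_ker, card_mul_index]
  have key : ∀ d ∈ Nat.divisors 110, 11 ∣ d → 3960 / d % 11 ≠ 1 := by decide
  have key1 : ∀ d ∈ Nat.divisors 110, 11 ∣ d → 7920 / d % 11 = 1 → d = 55 := by decide
  have hinj : Function.Injective f := by
    rw [← MonoidHom.ker_eq_bot_iff]
    refine eq_bot_of_card_eq _ (Nat.le_antisymm ?_ Nat.card_pos)
    by_contra hne
    have h2 : Nat.card f.ker = 2 := by omega
    obtain ⟨d, hd, h11, hmul, hmod, -⟩ := normalizer_sylow hα f.range P (n := 3960)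
      (by rw [h2] at hk; omega)
    refine key d (Nat.mem_divisors.2 ⟨hd, by norm_num⟩) h11 ?_
    rw [← hmul, Nat.mul_div_cancel_left _ (Nat.pos_of_dvd_of_pos hd (by norm_num))]
    exact hmod
  set e := MonoidHom.ofInjective hinj
  have hR : Nat.card f.range = 7920 := by rw [← Nat.card_congr e.toEquiv, hH]
  have hP : ∀ P : Sylow 11 f.range, Nat.card (normalizer ((P : Subgroup f.range) : Set f.range)) = 55 := by
    intro P
    obtain ⟨d, hd, h11, hmul, hmod, he⟩ := normalizer_sylow hα f.range P hR
    rw [he]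
    refine key1 d (Nat.mem_divisors.2 ⟨hd, by norm_num⟩) h11 ?_
    rw [← hmul, Nat.mul_div_cancel_left _ (Nat.pos_of_dvd_of_pos hd (by norm_num))]
    exact hmod
  haveI : Nontrivial H := Finite.one_lt_card_iff_nontrivial.1 (by omega)
  refine ⟨fun N hN => or_iff_not_imp_left.2 fun hne => ?_⟩
  set M : Subgroup f.range := N.map e.toMonoidHom with hM
  haveI : M.Normal := hN.map _ e.surjective
  have hMne : M ≠ ⊥ := fun h => hne ((map_eq_bot_iff_of_injective _ e.injective).1 h)
  haveI : Nonempty α := (Nat.card_pos_iff.1 (by omega)).1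
  haveI : IsPreprimitive f.range α := IsPreprimitive.of_prime_card (by rw [hα]; norm_num)
  haveI := PermBasic.isPretransitive_of_normal (G := f.range) (X := α) M hMne
  have h11 : 11 ∣ Nat.card M := hα ▸ PermBasic.card_dvd_of_transitive (G := M) (X := α)
  obtain ⟨PM⟩ : Nonempty (Sylow 11 M) := inferInstance
  have hfr := Sylow.normalizer_sup_eq_top PM
  have hPM : Nat.card ((PM : Subgroup M).map M.subtype) = 11 := by
    rw [card_map_of_injective M.subtype_injective]
    obtain ⟨k, hk'⟩ := IsPGroup.iff_card.1 PM.isPGroup'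
    have hd : Nat.card PM ∣ 7920 := by
      rw [← hR]
      exact (card_subgroup_dvd_card _).trans (card_subgroup_dvd_card _)
    have h0 : 11 ∣ Nat.card PM := PM.dvd_card_of_dvd_card h11
    rw [hk'] at hd h0 ⊢
    rcases k with _ | _ | k
    · norm_num at h0
    · norm_num
    · exfalso
      have : (11 : ℕ) ^ 2 ∣ 7920 := (pow_dvd_pow 11 (by omega)).trans hd
      norm_num at this
  set P' : Sylow 11 f.range := Sylow.ofCard ((PM : Subgroup M).map M.subtype) (by
    rw [hPM]
    exact (PrimeDegreeCoord.card_sylow hα f.range P).symm.trans P.card_eq_multiplicity) with hP'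
  set Nr := normalizer ((P' : Subgroup f.range) : Set f.range) with hNr
  have hidx : M.index ∣ 5 := by
    have hPM' : (P' : Subgroup f.range) ≤ M := map_subtype_le _
    have h1 : (P' : Subgroup f.range).relIndex Nr = 5 := by
      have h := card_mul_index ((P' : Subgroup f.range).subgroupOf Nr)
      rw [Nat.card_congr (subgroupOfEquivOfLe le_normalizer).toEquiv, hP P',
        PrimeDegreeCoord.card_sylow hα f.range P'] at h
      rw [relIndex]
      omega
    rw [← h1]
    refine dvd_trans ?_ (relIndex_dvd_of_le_left Nr hPM')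
    rw [← relIndex_sup_right (H := Nr) (K := M), show Nr ⊔ M = ⊤ from hfr, relIndex_top_right]
  have hidx' : N.index ∣ 5 := by
    rwa [hM, show (N.map e.toMonoidHom).index = N.index from index_map_equiv N e] at hidx
  have htop : N.index = 1 := by
    refine ((Nat.dvd_prime (by norm_num)).1 hidx').resolve_right fun h5 => ?_
    have hle : S ≤ N := hgen.trans ((closure_le _).2 fun h (hh : h ^ 3 = 1) => ?_)
    · have := card_mul_index N
      rw [h5, hH] at this
      have hd : 360 ∣ Nat.card N := hS.trans (card_dvd_of_le hle)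
      omega
    · have h3 : (QuotientGroup.mk' N h) ^ 3 = 1 := by rw [← map_pow, hh, map_one]
      have h5' : (QuotientGroup.mk' N h) ^ 5 = 1 := by
        rw [← h5]
        exact pow_card_eq_one'
      refine (QuotientGroup.eq_one_iff h).1 (orderOf_eq_one_iff.1 ?_)
      exact Nat.eq_one_of_dvd_coprimes (by norm_num : Nat.Coprime 3 5)
        (orderOf_dvd_of_pow_eq_one h3) (orderOf_dvd_of_pow_eq_one h5')
  exact index_eq_one.1 htop

end Cfsg.Agent.M11Eleven40
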