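import Mathlib
import Cfsg.Agent.Lib.M11Unique99Main
import Cfsg.Agent.Lib.M11Order91Local

/-!
A group of order 7920 with the element counts of M11 is simple.
-/

set_option autoImplicit false
set_option linter.unusedSectionVars false

open scoped Pointwise

namespace Cfsg.Agent.M11Nse99

open Cfsg MulAction

/-- The number of elements of order `n`. -/
noncomputable abbrev cnt (G : Type*) [Group G] (n : ℕ) : ℕ := Nat.card {g : G // orderOf g = n}

/-- The property of the element counts which is used. -/
def Allowed (c : ℕ) : Prop := c = 0 ∨ c = 1 ∨ 165 ∣ c ∨ 440 ∣ c ∨ 1584 ∣ c ∨ 720 ∣ c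

theorem Allowed.bound {c : ℕ} (h : Allowed c) : c = 0 ∨ c = 1 ∨ 165 ≤ c := by
  rcases h with h | h | h | h | h | h
  · exact Or.inl h
  · exact Or.inr (Or.inl h)
  all_goals
    rcases Nat.eq_zero_or_pos c with h0 | h0
    · exact Or.inl h0
    · have := Nat.le_of_dvd h0 h
      exact Or.inr (Or.inr (by omega))

theorem Allowed.ne_450 {c : ℕ} (h : Allowed c) : c ≠ 450 := by
  rintro rfl
  simp [Allowed] at h

/-- A union of conjugacy classes, all of whose sizes are multiples of `d`. -/
theorem dvd_card_of_classes {H : Type*} [Group H] [Finite H] (s : Set H)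
    (hs : ∀ g, ∀ x ∈ s, g * x * g⁻¹ ∈ s) (d m : ℕ) (hdm : d * m = Nat.card H) (hm : 0 < m)
    (hx : ∀ x ∈ s, Nat.card ↥(Subgroup.centralizer ({x} : Set H)) ∣ m) : d ∣ Nat.card s := by
  classical
  let _ : MulAction H s :=
    { smul := fun g a => ⟨g * a.1 * g⁻¹, hs g a.1 a.2⟩
      one_smul := fun a => Subtype.ext (show 1 * a.1 * 1⁻¹ = a.1 by simp)
      mul_smul := fun g h a => Subtype.ext
        (show g * h * a.1 * (g * h)⁻¹ = g * (h * a.1 * h⁻¹) * g⁻¹ by group) }
  have hstab : ∀ a : s, stabilizer H a = Subgroup.centralizer ({a.1} : Set H) := by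
    intro a
    ext g
    rw [Subgroup.mem_centralizer_singleton_iff, mem_stabilizer_iff, Subtype.ext_iff]
    show g * a.1 * g⁻¹ = a.1 ↔ _
    rw [mul_inv_eq_iff_eq_mul]
  rw [Nat.card_congr (selfEquivSigmaOrbitsQuotientStabilizer H s)]
  have hft : Fintype (orbitRel.Quotient H s) := Fintype.ofFinite _
  rw [Nat.card_sigma]
  refine Finset.dvd_sum fun q _ => ?_
  have h1 := Subgroup.index_mul_card (stabilizer H (Quotient.out q : s))
  have h2 := hx _ (Quotient.out q : s).2
  rw [← hstab] at h2
  obtain ⟨k, hk⟩ := h2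
  refine ⟨k, ?_⟩
  show (stabilizer H (Quotient.out q : s)).index = _
  refine Nat.eq_of_mul_eq_mul_right (Nat.card_pos (α := ↥(stabilizer H (Quotient.out q : s)))) ?_
  rw [h1, ← hdm, hk]
  ring

/-- The element counts of a simple group of order 7920. -/
theorem allowed_of_simple {H : Type*} [Group H] [Finite H] [IsSimpleGroup H]
    (hn : Nat.card H = 7920) (n : ℕ) : Allowed (cnt H n) := by
  classical
  have : Fintype H := Fintype.ofFinite H
  have : Fact (Nat.Prime 5) := ⟨by norm_num⟩
  by_cases h1 : n = 1
  · refine Or.inr (Or.inl ?_)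
    subst h1
    rw [Nat.card_eq_one_iff_unique]
    exact ⟨⟨fun a b => Subtype.ext ((orderOf_eq_one_iff.1 a.2).trans (orderOf_eq_one_iff.1 b.2).symm)⟩,
      ⟨⟨1, orderOf_one⟩⟩⟩
  by_cases h0 : cnt H n = 0
  · exact Or.inl h0
  obtain ⟨⟨g, hg⟩⟩ : Nonempty {g : H // orderOf g = n} :=
    (Nat.card_ne_zero.1 h0).1
  have hn0 : 0 < n := hg ▸ orderOf_pos g
  set p := n.minFac with hp
  have hpp : p.Prime := Nat.minFac_prime h1
  have hpn : p ∣ n := Nat.minFac_dvd n
  have hdvd : p ∣ 7920 := hn ▸ hpn.trans (hg ▸ orderOf_dvd_natCard g)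
  have hcases : p = 2 ∨ p = 3 ∨ p = 5 ∨ p = 11 := by
    have h := (Nat.mem_primeFactors.2 ⟨hpp, hdvd, by norm_num⟩ : p ∈ Nat.primeFactors 7920)
    have e : Nat.primeFactors 7920 ⊆ {2, 3, 5, 11} := by
      intro q hq
      rw [Nat.mem_primeFactors] at hq
      obtain ⟨hq, hd, -⟩ := hq
      have hd' : q ∣ 2 ^ 4 * 3 ^ 2 * 5 * 11 := hd
      rcases hq.dvd_mul.1 hd' with h | h
      · rcases hq.dvd_mul.1 h with h | h
        · rcases hq.dvd_mul.1 h with h | h
          · simp [(Nat.prime_dvd_prime_iff_eq hq Nat.prime_two).1 (hq.dvd_of_dvd_pow h)]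
          · simp [(Nat.prime_dvd_prime_iff_eq hq Nat.prime_three).1 (hq.dvd_of_dvd_pow h)]
        · simp [(Nat.prime_dvd_prime_iff_eq hq (by norm_num)).1 h]
      · simp [(Nat.prime_dvd_prime_iff_eq hq (by norm_num)).1 h]
    simpa using e h
  -- centralisers are inside those of a power of prime order
  have hle : ∀ x : H, orderOf x = n → orderOf (x ^ (n / p)) = p ∧
      Subgroup.centralizer ({x} : Set H) ≤ Subgroup.centralizer ({x ^ (n / p)} : Set H) := by
    intro x hx
    refine ⟨?_, fun a ha => ?_⟩
    · rw [← hx]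
      exact orderOf_pow_orderOf_div (by omega) (hx ▸ hpn)
    · rw [Subgroup.mem_centralizer_singleton_iff] at ha ⊢
      exact (Commute.pow_right (show Commute a x from ha) _).eq
  have main : ∀ d m : ℕ, d * m = 7920 →
      (∀ y : H, orderOf y = p → Nat.card ↥(Subgroup.centralizer ({y} : Set H)) ∣ m) → d ∣ cnt H n := by
    intro d m hdm hy
    refine dvd_card_of_classes {g : H | orderOf g = n}
      (fun g x hx => by
        show orderOf (g * x * g⁻¹) = n
        rw [← MulAut.conj_apply, MulEquiv.orderOf_eq]; exact hx) d m (hdm.trans hn.symm)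
      (Nat.pos_of_ne_zero fun e => by subst e; omega) fun x hx => ?_
    exact (Subgroup.card_dvd_of_le (hle x hx).2).trans (hy _ (hle x hx).1)
  rcases hcases with e | e | e | e
  · exact Or.inr (Or.inr (Or.inl (main 165 48 (by norm_num) fun y hy =>
      (M11Order91.card_centralizer_involution hn (hy.trans e)).dvd)))
  · exact Or.inr (Or.inr (Or.inr (Or.inl (main 440 18 (by norm_num) fun y hy =>
      M11Unique99.card_centralizer_three hn (by rw [← e, ← hy]; exact pow_orderOf_eq_one y)
        (fun h => by rw [h, orderOf_one] at hy; omega)))))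
  · refine Or.inr (Or.inr (Or.inr (Or.inr (Or.inl (main 1584 5 (by norm_num) fun y hy => ?_)))))
    rw [e] at hy
    obtain ⟨Q, hQ⟩ := (IsPGroup.of_card (G := ↥(Subgroup.zpowers y)) (p := 5) (n := 1)
      (by rw [Nat.card_zpowers, hy, pow_one])).exists_le_sylow
    have hQe : Subgroup.zpowers y = (Q : Subgroup H) :=
      Subgroup.eq_of_le_of_card_ge hQ (by rw [M11Order91.card_five hn Q, Nat.card_zpowers, hy])
    rw [← Subgroup.centralizer_closure, ← Subgroup.zpowers_eq_closure, hQe,
      (M11Order91.normalizer_five hn Q).2.1]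
  · exact Or.inr (Or.inr (Or.inr (Or.inr (Or.inr (main 720 11 (by norm_num) fun y hy =>
      (M11Order91.card_centralizer_eleven hn (hy.trans e)).dvd)))))

/-! ### Simplicity -/

section Simple

variable {G : Type*} [Group G] [Finite G] (hn : Nat.card G = 7920)
  (hc : ∀ n, Allowed (cnt G n))

include hn in
theorem card_sylow_prime {q : ℕ} [hq : Fact q.Prime] (h : q = 5 ∨ q = 11) (P : Sylow q G) :
    Nat.card ↥(P : Subgroup G) = q := by
  rw [P.card_eq_multiplicity, hn]
  rcases h with rfl | rfl
  · rw [show (7920 : ℕ) = 5 ^ 1 * 1584 by norm_num, Nat.factorization_mul (by norm_num) (by norm_num),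
      Finsupp.add_apply, Nat.Prime.factorization_pow (by norm_num), Finsupp.single_eq_same,
      Nat.factorization_eq_zero_of_not_dvd (by norm_num : ¬ 5 ∣ 1584)]
    norm_num
  · rw [show (7920 : ℕ) = 11 ^ 1 * 720 by norm_num, Nat.factorization_mul (by norm_num) (by norm_num),
      Finsupp.add_apply, Nat.Prime.factorization_pow (by norm_num), Finsupp.single_eq_same,
      Nat.factorization_eq_zero_of_not_dvd (by norm_num : ¬ 11 ∣ 720)]
    norm_num

include hn hc in
theorem card_sylow_eleven [Fact (Nat.Prime 11)] : Nat.card (Sylow 11 G) = 144 := by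
  obtain ⟨P⟩ : Nonempty (Sylow 11 G) := inferInstance
  have hcount : cnt G 11 = Nat.card (Sylow 11 G) * 10 :=
    SimpleSearch.card_orderOf (card_sylow_prime hn (Or.inr rfl))
  have hdvd : Nat.card (Sylow 11 G) ∣ 720 := by
    have h := P.card_dvd_index
    have e := Subgroup.index_mul_card (P : Subgroup G)
    rw [hn, card_sylow_prime hn (Or.inr rfl) P] at e
    rwa [show (P : Subgroup G).index = 720 by omega] at h
  have hmod : Nat.card (Sylow 11 G) % 11 = 1 := card_sylow_modEq_one 11 G
  have key : ∀ k ∈ List.range 721, 720 % k = 0 → k % 11 = 1 →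
      k = 1 ∨ k = 12 ∨ k = 45 ∨ k = 144 := by decide +kernel
  rcases key _ (List.mem_range.2 (by have := Nat.le_of_dvd (by norm_num) hdvd; omega))
    (Nat.mod_eq_zero_of_dvd hdvd) hmod with h | h | h | h
  · rcases (hc 11).bound with b | b | b <;> omega
  · rcases (hc 11).bound with b | b | b <;> omega
  · exact absurd (by omega) (hc 11).ne_450
  · exact h

include hn hc in
/-- An element of order eleven and its normaliser. -/
theorem normalizer_eleven [Fact (Nat.Prime 11)] {y : G} (hy : orderOf y = 11) :
    ∀ a : G, Commute a y → orderOf a ∣ 55 := by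
  intro a ha
  obtain ⟨P, hle⟩ := (IsPGroup.of_card (G := ↥(Subgroup.zpowers y)) (p := 11) (n := 1)
    (by rw [Nat.card_zpowers, hy, pow_one])).exists_le_sylow
  have he : Subgroup.zpowers y = (P : Subgroup G) :=
    Subgroup.eq_of_le_of_card_ge hle (by rw [card_sylow_prime hn (Or.inr rfl) P, Nat.card_zpowers, hy])
  have h := Subgroup.index_mul_card (Subgroup.normalizer (P : Set G))
  rw [← P.card_eq_index_normalizer, card_sylow_eleven hn hc, hn] at h
  have hmem : a ∈ Subgroup.normalizer (P : Set G) := by
    have h1 : a ∈ Subgroup.centralizer ((P : Subgroup G) : Set G) := by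
      rw [← he, Subgroup.zpowers_eq_closure, Subgroup.centralizer_closure,
        Subgroup.mem_centralizer_singleton_iff]
      exact ha.eq
    exact Subgroup.centralizer_le_normalizer _ h1
  have h2 := Subgroup.orderOf_dvd_natCard _ hmem
  rwa [show Nat.card ↥(Subgroup.normalizer (P : Set G)) = 55 by omega] at h2

include hn hc in
theorem isSimpleGroup : IsSimpleGroup G := by
  classical
  have : Fintype G := Fintype.ofFinite G
  have : Fact (Nat.Prime 11) := ⟨by norm_num⟩
  have : Fact (Nat.Prime 5) := ⟨by norm_num⟩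
  have : Nontrivial G := Finite.one_lt_card_iff_nontrivial.1 (by rw [hn]; norm_num)
  refine ⟨fun N hN => ?_⟩
  by_contra hne
  push Not at hne
  obtain ⟨hbot, htop⟩ := hne
  have hidx := Subgroup.index_mul_card N
  rw [hn] at hidx
  have frattini : ∀ {q : ℕ} [Fact q.Prime] (S : Subgroup G),
      Subgroup.normalizer (S : Set G) ⊔ N = ⊤ → N.index ∣ Nat.card ↥(Subgroup.normalizer (S : Set G)) := by
    intro q _ S h
    have := Subgroup.relIndex_dvd_card N (Subgroup.normalizer (S : Set G))
    rwa [← Subgroup.relIndex_sup_right, h, Subgroup.relIndex_top_right] at this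
  by_cases h11 : 11 ∣ Nat.card N
  · obtain ⟨⟨y, hyN⟩, hy⟩ := exists_prime_orderOf_dvd_card' 11 h11
    rw [Subgroup.orderOf_mk] at hy
    obtain ⟨P, hle⟩ := (IsPGroup.of_card (G := ↥(Subgroup.zpowers y)) (p := 11) (n := 1)
      (by rw [Nat.card_zpowers, hy, pow_one])).exists_le_sylow
    have he : Subgroup.zpowers y = (P : Subgroup G) :=
      Subgroup.eq_of_le_of_card_ge hle (by rw [card_sylow_prime hn (Or.inr rfl) P, Nat.card_zpowers, hy])
    have hPN : (P : Subgroup G) ≤ N := he ▸ Subgroup.zpowers_le.2 hyN
    have h55 : N.index ∣ 55 := by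
      have h := Subgroup.index_mul_card (Subgroup.normalizer (P : Set G))
      rw [← P.card_eq_index_normalizer, card_sylow_eleven hn hc, hn] at h
      have h' := frattini (q := 11) (P : Subgroup G) (Sylow.normalizer_sup_eq_top' P hPN)
      rwa [show Nat.card ↥(Subgroup.normalizer ((P : Subgroup G) : Set G)) = 55 from
        (show Nat.card ↥(Subgroup.normalizer (P : Set G)) = 55 by omega)] at h'
    have h5 : N.index = 5 := by
      obtain ⟨c, hc'⟩ := h11
      have h720 : N.index ∣ 720 := ⟨c, by rw [hc'] at hidx; linarith⟩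
      have h := Nat.dvd_gcd h55 h720
      rw [show Nat.gcd 55 720 = 5 by norm_num] at h
      rcases (Nat.dvd_prime (by norm_num)).1 h with h | h
      · exact absurd (Subgroup.index_eq_one.1 h) htop
      · exact h
    have hyall : ∀ x : G, orderOf x = 11 → x ∈ N := fun x hx => by
      have h := N.pow_index_mem x
      rw [h5] at h
      have h' := pow_mem h 9
      rwa [← pow_mul, show 5 * 9 = 11 * 4 + 1 by norm_num, pow_succ, pow_mul, ← hx, pow_orderOf_eq_one,
        one_pow, one_mul] at h'
    have htall : ∀ x : G, orderOf x = 2 → x ∈ N := fun x hx => by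
      have h := N.pow_index_mem x
      rw [h5] at h
      rwa [show 5 = 2 * 2 + 1 by norm_num, pow_succ, pow_mul, ← hx, pow_orderOf_eq_one,
        one_pow, one_mul] at h
    have h2 : 165 ≤ cnt G 2 := by
      obtain ⟨t, ht⟩ := exists_prime_orderOf_dvd_card' (G := G) 2 (by rw [hn]; norm_num)
      have hne0 : cnt G 2 ≠ 0 := by
        rw [Nat.card_ne_zero]
        exact ⟨⟨⟨t, ht⟩⟩, inferInstance⟩
      rcases (hc 2).bound with b | b | b
      · exact absurd b hne0
      · exfalso
        have hu := (Nat.card_eq_one_iff_unique.1 b).1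
        have hcomm : Commute t y := by
          have hconj : orderOf (y * t * y⁻¹) = 2 := by
            rw [← MulAut.conj_apply, MulEquiv.orderOf_eq, ht]
          have := congrArg Subtype.val (hu.elim ⟨y * t * y⁻¹, hconj⟩ ⟨t, ht⟩)
          exact (mul_inv_eq_iff_eq_mul.1 this).symm
        have := normalizer_eleven hn hc hy t hcomm
        rw [ht] at this
        norm_num at this
      · exact b
    have hc11 : cnt G 11 = 1440 := by
      rw [cnt, SimpleSearch.card_orderOf (card_sylow_prime hn (Or.inr rfl)), card_sylow_eleven hn hc]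
    let f : {g : G // orderOf g = 2} ⊕ {g : G // orderOf g = 11} → N :=
      Sum.elim (fun g => ⟨g.1, htall _ g.2⟩) (fun g => ⟨g.1, hyall _ g.2⟩)
    have hf : Function.Injective f := by
      rintro (⟨a, ha⟩ | ⟨a, ha⟩) (⟨b, hb⟩ | ⟨b, hb⟩) h <;>
        simp only [f, Sum.elim_inl, Sum.elim_inr, Subtype.mk.injEq] at h <;> subst h
      · rfl
      · omega
      · omega
      · rfl
    have := Nat.card_le_card_of_injective f hf
    rw [Nat.card_sum] at this
    rw [h5] at hidx
    simp only [cnt] at h2 hc11
    omega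
  · have hcardN : 1 < Nat.card N := Subgroup.one_lt_card_iff_ne_bot N |>.2 hbot
    obtain ⟨q, hq, hqN⟩ := Nat.exists_prime_and_dvd (by omega : Nat.card N ≠ 1)
    have : Fact q.Prime := ⟨hq⟩
    obtain ⟨S₀⟩ : Nonempty (Sylow q N) := inferInstance
    set S : Subgroup G := (S₀ : Subgroup N).map N.subtype with hS
    have hSN : S ≤ N := Subgroup.map_subtype_le _
    have hScard : Nat.card S = q ^ (Nat.card N).factorization q := by
      rw [hS, ← Nat.card_congr (Subgroup.equivMapOfInjective _ _ N.subtype_injective).toEquiv,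
        S₀.card_eq_multiplicity]
    have h11i : 11 ∣ N.index := by
      have h : 11 ∣ N.index * Nat.card N := by rw [hidx]; norm_num
      exact ((by norm_num : Nat.Prime 11).dvd_mul.1 h).resolve_right h11
    have h11S := h11i.trans (frattini (q := q) S (Sylow.normalizer_sup_eq_top S₀))
    obtain ⟨⟨y, hyS⟩, hy⟩ := exists_prime_orderOf_dvd_card' 11 h11S
    rw [Subgroup.orderOf_mk] at hy
    have hexp : 0 < (Nat.card N).factorization q :=
      hq.factorization_pos_of_dvd (by omega) hqN
    by_cases hq5 : q = 5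
    · subst hq5
      have hS5 : Nat.card S = 5 := by
        have h2 : Nat.card S ∣ 7920 := hn ▸ Subgroup.card_subgroup_dvd_card S
        rw [hScard] at h2 ⊢
        have h1 : (Nat.card N).factorization 5 ≤ 1 := by
          by_contra hlt
          have := (pow_dvd_pow 5 (by omega : 2 ≤ (Nat.card N).factorization 5)).trans h2
          norm_num at this
        rw [show (Nat.card N).factorization 5 = 1 by omega, pow_one]
      obtain ⟨Q, hQ⟩ := (IsPGroup.of_card (p := 5) (n := 1) (G := S) (by rw [hS5, pow_one])).exists_le_sylow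
      have hQe : S = (Q : Subgroup G) :=
        Subgroup.eq_of_le_of_card_ge hQ (by rw [card_sylow_prime hn (Or.inl rfl) Q, hS5])
      rw [hQe] at hyS
      have h11Q : 11 ∣ Nat.card ↥(Subgroup.normalizer (Q : Set G)) :=
        hy ▸ Subgroup.orderOf_dvd_natCard _ hyS
      have h5Q : 5 ∣ Nat.card ↥(Subgroup.normalizer (Q : Set G)) := by
        have := Subgroup.card_dvd_of_le (Subgroup.le_normalizer (H := (Q : Subgroup G)))
        rwa [card_sylow_prime hn (Or.inl rfl) Q] at this
      have h55 := Nat.Coprime.mul_dvd_of_dvd_of_dvd (by norm_num : Nat.Coprime 11 5) h11Q h5Q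
      have h := Subgroup.index_mul_card (Subgroup.normalizer (Q : Set G))
      rw [← Q.card_eq_index_normalizer, hn] at h
      obtain ⟨k, hk⟩ := h55
      rw [hk] at h
      have hd : Nat.card (Sylow 5 G) ∣ 144 := ⟨k, by linarith⟩
      have hpos : 0 < Nat.card (Sylow 5 G) := Nat.card_pos
      have hmod : Nat.card (Sylow 5 G) % 5 = 1 := card_sylow_modEq_one 5 G
      have key : ∀ k ∈ List.range 145, 144 % k = 0 → k % 5 = 1 → k ≤ 36 := by decide +kernel
      have := key _ (List.mem_range.2 (by have := Nat.le_of_dvd (by norm_num) hd; omega))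
        (Nat.mod_eq_zero_of_dvd hd) hmod
      have hc5 : cnt G 5 = Nat.card (Sylow 5 G) * 4 :=
        SimpleSearch.card_orderOf (card_sylow_prime hn (Or.inl rfl))
      rcases (hc 5).bound with b | b | b <;> omega
    · -- the element of order eleven acts freely on `S \ {1}`
      have hfree : 11 ∣ Nat.card S - 1 := by
        let K : Subgroup (ConjAct G) := Subgroup.zpowers (ConjAct.toConjAct y)
        have hK : Nat.card K = 11 := by
          rw [Nat.card_zpowers, ← hy]
          exact orderOf_injective ConjAct.toConjAct.toMonoidHom ConjAct.toConjAct.injective y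
        have hq11 : q ≠ 11 := fun e => h11 (e ▸ hqN)
        have h := M11Unique99.card_dvd_of_free (G := ↥K) ((S : Set G) \ {1})
          (fun g a ha => by
            have hm : ConjAct.ofConjAct (g : ConjAct G) ∈ Subgroup.normalizer (S : Set G) := by
              obtain ⟨i, hi⟩ := g.2
              rw [← hi]
              show ConjAct.ofConjAct (ConjAct.toConjAct y ^ i) ∈ _
              rw [map_zpow, ConjAct.ofConjAct_toConjAct]
              exact zpow_mem hyS i
            refine ⟨?_, fun e => ha.2 ?_⟩
            · show (g : ConjAct G) • a ∈ S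
              rw [ConjAct.smul_def]
              exact (Subgroup.mem_normalizer_iff.1 hm a).1 ha.1
            · have e' : (g : ConjAct G) • a = 1 := e
              rw [ConjAct.smul_def, conj_eq_one_iff] at e'
              exact e')
          (fun g a ha e => by
            by_contra hg
            apply ha.2
            have hgo : orderOf (ConjAct.ofConjAct (g : ConjAct G)) = 11 := by
              have h1 : orderOf g ∣ 11 := hK ▸ orderOf_dvd_natCard g
              have h2 : orderOf g ≠ 1 := fun h => hg (orderOf_eq_one_iff.1 h)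
              have h3 := ((Nat.dvd_prime (by norm_num)).1 h1).resolve_left h2
              rw [← h3, ← Subgroup.orderOf_coe g]
              exact orderOf_injective ConjAct.ofConjAct.toMonoidHom ConjAct.ofConjAct.injective _
            have e' : (g : ConjAct G) • a = a := e
            rw [ConjAct.smul_def, mul_inv_eq_iff_eq_mul] at e'
            have d1 := normalizer_eleven hn hc hgo a (show Commute a _ from e'.symm)
            have d2 := Subgroup.orderOf_dvd_natCard _ (show a ∈ S from ha.1)
            rw [hScard] at d2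
            have hcop : Nat.Coprime (q ^ (Nat.card N).factorization q) 55 := by
              refine Nat.Coprime.pow_left _ ((Nat.Prime.coprime_iff_not_dvd hq).2 fun h => ?_)
              rcases hq.dvd_mul.1 (show q ∣ 5 * 11 from h) with h | h
              · exact hq5 ((Nat.prime_dvd_prime_iff_eq hq (by norm_num)).1 h)
              · exact hq11 ((Nat.prime_dvd_prime_iff_eq hq (by norm_num)).1 h)
            exact orderOf_eq_one_iff.1 (Nat.eq_one_of_dvd_coprimes hcop d2 d1))
        rw [hK, Nat.card_coe_set_eq, Set.ncard_diff_singleton_of_mem (one_mem S)] at h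
        rwa [← Nat.card_coe_set_eq] at h
      have hq11 : q ≠ 11 := fun e => h11 (e ▸ hqN)
      have h2 : Nat.card S ∣ 144 := by
        have h : Nat.card S ∣ 7920 := hn ▸ Subgroup.card_subgroup_dvd_card S
        have hcop : Nat.Coprime (Nat.card S) 55 := by
          rw [hScard]
          refine Nat.Coprime.pow_left _ ((Nat.Prime.coprime_iff_not_dvd hq).2 fun h => ?_)
          rcases hq.dvd_mul.1 (show q ∣ 5 * 11 from h) with h | h
          · exact hq5 ((Nat.prime_dvd_prime_iff_eq hq (by norm_num)).1 h)
          · exact hq11 ((Nat.prime_dvd_prime_iff_eq hq (by norm_num)).1 h)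
        exact hcop.dvd_of_dvd_mul_right (by norm_num at h ⊢; exact h)
      have hpow : ∃ a b, 0 < a + b ∧ (Nat.card S = 2 ^ a ∧ b = 0 ∨ Nat.card S = 3 ^ b ∧ a = 0) := by
        have hqd : q ∣ 144 := (dvd_trans (dvd_pow_self q hexp.ne') (hScard ▸ h2))
        rcases hq.dvd_mul.1 (show q ∣ 2 ^ 4 * 3 ^ 2 from hqd) with h | h
        · rw [(Nat.prime_dvd_prime_iff_eq hq Nat.prime_two).1 (hq.dvd_of_dvd_pow h)] at hScard hexp
          exact ⟨_, 0, by simpa using hexp, Or.inl ⟨hScard, rfl⟩⟩
        · rw [(Nat.prime_dvd_prime_iff_eq hq Nat.prime_three).1 (hq.dvd_of_dvd_pow h)] at hScard hexp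
          exact ⟨0, _, by simpa using hexp, Or.inr ⟨hScard, rfl⟩⟩
      have key : ∀ s ∈ List.range 145, 144 % s = 0 → (s - 1) % 11 = 0 → s = 1 ∨ s = 12 ∨ 16 < s := by
        decide +kernel
      obtain ⟨a, b, hab, hor⟩ := hpow
      have hk := key _ (List.mem_range.2 (by have := Nat.le_of_dvd (by norm_num) h2; omega))
        (Nat.mod_eq_zero_of_dvd h2) (Nat.mod_eq_zero_of_dvd hfree)
      rcases hor with ⟨hs, hb⟩ | ⟨hs, ha⟩
      · have ha4 : a ≤ 4 := by
          by_contra hlt
          have := (pow_dvd_pow 2 (by omega : 5 ≤ a)).trans (hs ▸ h2)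
          norm_num at this
        interval_cases a <;> omega
      · have hb2 : b ≤ 2 := by
          by_contra hlt
          have := (pow_dvd_pow 3 (by omega : 3 ≤ b)).trans (hs ▸ h2)
          norm_num at this
        interval_cases b <;> omega

end Simple

end Cfsg.Agent.M11Nse99
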