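import Cfsg.Agent.Lib.M11Order91Degrees
import Cfsg.Agent.Lib.ClassAlgebraVal

/-!
The irreducible characters of a simple group of order 7920, listed by degree, with the relations
between their values coming from the principal 11-block and the principal 5-block.
-/

set_option autoImplicit false
set_option linter.style.haveILetI false
set_option linter.unusedSectionVars false

open scoped ComplexConjugate

namespace Cfsg.Agent.M11Order91

open Cfsg Cfsg.Agent.BlockPrime86 Cfsg.Agent.BlockPrincipal81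

attribute [local instance] Classical.propDecidable

variable {G : Type*} [Group G] [IsSimpleGroup G] [Fintype G]

/-- The characters of the table: `ta`, `tb`, `tc` have degree 10, `to11` degree 11, `th`, `th'`
degree 16, `t44`, `t45`, `t55` degrees 44, 45, 55. -/
structure Table (G : Type*) [Group G] [Fintype G] where
  ta : IrrCharacter G
  tb : IrrCharacter G
  tc : IrrCharacter G
  to11 : IrrCharacter G
  th : IrrCharacter G
  th' : IrrCharacter G
  t44 : IrrCharacter G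
  t45 : IrrCharacter G
  t55 : IrrCharacter G
  expand : ∀ F : IrrCharacter G → ℂ, ∑ χ, F χ = F (oneChar G) + (F ta + F tb + F tc) + F to11 +
    (F th + F th') + F t44 + F t45 + F t55
  dega : deg ta = 10 ∧ deg tb = 10 ∧ deg tc = 10
  deg11 : deg to11 = 11
  degth : deg th = 16 ∧ deg th' = 16
  deg44 : deg t44 = 44
  deg45 : deg t45 = 45
  deg55 : deg t55 = 55

variable (hn : Nat.card G = 7920)

include hn in
theorem exists_table : Nonempty (Table G) := by
  have hcnt : ∀ n : ℕ, (Finset.univ.filter fun χ : IrrCharacter G => deg χ = n).card =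
      (if n = 1 ∨ n = 11 ∨ n = 44 ∨ n = 45 ∨ n = 55 then 1 else if n = 10 then 3 else if n = 16 then 2 else 0) :=
    fun n => by
      have h := (degrees hn).2 n
      rw [Nat.card_eq_fintype_card, Fintype.card_subtype] at h
      exact h
  obtain ⟨a, b, c, hab, hac, hbc, h10⟩ := Finset.card_eq_three.1 ((hcnt 10).trans (by norm_num))
  obtain ⟨θ, θ', hθ, h16⟩ := Finset.card_eq_two.1 ((hcnt 16).trans (by norm_num))
  obtain ⟨e1, h1⟩ := Finset.card_eq_one.1 ((hcnt 1).trans (by norm_num))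
  obtain ⟨o, h11⟩ := Finset.card_eq_one.1 ((hcnt 11).trans (by norm_num))
  obtain ⟨f, h44⟩ := Finset.card_eq_one.1 ((hcnt 44).trans (by norm_num))
  obtain ⟨k, h45⟩ := Finset.card_eq_one.1 ((hcnt 45).trans (by norm_num))
  obtain ⟨q, h55⟩ := Finset.card_eq_one.1 ((hcnt 55).trans (by norm_num))
  have hone : e1 = oneChar G := by
    have : oneChar G ∈ ({e1} : Finset (IrrCharacter G)) := by
      rw [← h1]; simp [deg_one]
    exact (Finset.mem_singleton.1 this).symm
  have hval : ∀ χ ∈ (Finset.univ : Finset (IrrCharacter G)), deg χ ∈ ({1, 10, 11, 16, 44, 45, 55} : Finset ℕ) := by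
    intro χ _
    by_contra hc
    simp only [Finset.mem_insert, Finset.mem_singleton, not_or] at hc
    have h := hcnt (deg χ)
    rw [if_neg (by tauto), if_neg hc.2.1, if_neg hc.2.2.2.1, Finset.card_eq_zero] at h
    exact Finset.notMem_empty χ (h ▸ by simp)
  have d1 : ∀ {x : IrrCharacter G} {n : ℕ}, x ∈ Finset.univ.filter (fun χ : IrrCharacter G => deg χ = n) → deg x = n :=
    fun hx => (Finset.mem_filter.1 hx).2
  refine ⟨⟨a, b, c, o, θ, θ', f, k, q, fun F => ?_, ⟨d1 (by rw [h10]; simp), d1 (by rw [h10]; simp),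
    d1 (by rw [h10]; simp)⟩, d1 (by rw [h11]; simp), ⟨d1 (by rw [h16]; simp), d1 (by rw [h16]; simp)⟩,
    d1 (by rw [h44]; simp), d1 (by rw [h45]; simp), d1 (by rw [h55]; simp)⟩⟩
  rw [← Finset.sum_fiberwise_of_maps_to hval]
  simp only [Finset.sum_insert (by decide : (1 : ℕ) ∉ ({10, 11, 16, 44, 45, 55} : Finset ℕ)),
    Finset.sum_insert (by decide : (10 : ℕ) ∉ ({11, 16, 44, 45, 55} : Finset ℕ)),
    Finset.sum_insert (by decide : (11 : ℕ) ∉ ({16, 44, 45, 55} : Finset ℕ)),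
    Finset.sum_insert (by decide : (16 : ℕ) ∉ ({44, 45, 55} : Finset ℕ)),
    Finset.sum_insert (by decide : (44 : ℕ) ∉ ({45, 55} : Finset ℕ)),
    Finset.sum_insert (by decide : (45 : ℕ) ∉ ({55} : Finset ℕ)), Finset.sum_singleton,
    h1, h10, h11, h16, h44, h45, h55, hone]
  rw [Finset.sum_insert (by simp [hab, hac]), Finset.sum_pair hbc, Finset.sum_pair hθ]
  ring

/-- The sign of a degree modulo `p`. -/
def sgnMod (p d : ℕ) : ℤ := if d % p = 1 then 1 else if d % p = p - 1 then -1 else 0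

include hn in
theorem relation_eleven (T : Table G) (g : G) (hg : ¬ 11 ∣ orderOf g) :
    (T.th : G → ℂ) g = 1 - ((T.ta : G → ℂ) g + (T.tb : G → ℂ) g + (T.tc : G → ℂ) g) + (T.t45 : G → ℂ) g ∧
      (T.th' : G → ℂ) g = (T.th : G → ℂ) g := by
  obtain ⟨P⟩ : Nonempty (Sylow 11 G) := inferInstance
  obtain ⟨hN, hC, -⟩ := normalizer_eleven hn P
  obtain ⟨M, hM⟩ := ZStarCount.exists_isPModular 11 (Fact.out : Nat.Prime 11)
  haveI : Fintype ↥(P : Subgroup G) := Fintype.ofFinite _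
  haveI : Fintype (↥(P : Subgroup G) →* ℂˣ) := Fintype.ofFinite _
  have hP := card_eleven hn P
  obtain ⟨X, Y, a, ε, h⟩ := prime_main hP (by norm_num) hM 5
    (relIndex_centralizer (a := 11) (b := 5) hN hC (by norm_num))
  have hX : ∀ χ ∈ X, deg χ % 11 = 1 ∧ a χ = 1 ∨ deg χ % 11 = 10 ∧ a χ = -1 := by
    intro χ hx
    have h2 : (deg χ : ℤ) % 11 = a χ % 11 := (h.valX χ hx).2.1
    rcases (h.valX χ hx).1 with e | e <;> rw [e] at h2
    · exact Or.inl ⟨by omega, e⟩
    · exact Or.inr ⟨by omega, e⟩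
  have hYd : ∀ χ ∈ Y, deg χ % 11 = 5 ∨ deg χ % 11 = 6 := by
    intro χ hy
    have h2 : (deg χ : ℤ) % 11 = (ε * ((5 : ℕ) : ℤ)) % 11 := h.degY χ hy
    rcases h.sign with e | e <;> rw [e] at h2 <;> omega
  have hR : ∀ χ, χ ∉ X → χ ∉ Y → deg χ % 11 = 0 := fun χ hx hy => Nat.mod_eq_zero_of_dvd
    (dvd_outside hP h (by norm_num) (by norm_num) (centralizer_mem hP hC) (by norm_num) hx hy).1
  have hY : ∀ {χ : IrrCharacter G}, deg χ = 16 → χ ∈ Y := by
    intro χ hd
    by_contra hy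
    by_cases hx : χ ∈ X
    · have := hX χ hx; omega
    · have := hR χ hx hy; omega
  have hε : ε = 1 := by
    have h2 : (deg T.th : ℤ) % 11 = (ε * ((5 : ℕ) : ℤ)) % 11 := h.degY _ (hY T.degth.1)
    rw [T.degth.1] at h2
    rcases h.sign with e | e <;> rw [e] at h2 ⊢ <;> omega
  have hsum : ∑ χ ∈ X, (a χ : ℂ) * (χ : G → ℂ) g =
      ∑ χ : IrrCharacter G, (sgnMod 11 (deg χ) : ℂ) * (χ : G → ℂ) g := by
    rw [← Finset.sum_subset (Finset.subset_univ X) fun χ _ hx => ?_]
    · refine Finset.sum_congr rfl fun χ hx => ?_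
      rcases hX χ hx with ⟨e, e'⟩ | ⟨e, e'⟩ <;> simp [sgnMod, e, e']
    · by_cases hy : χ ∈ Y
      · rcases hYd χ hy with e | e <;> simp [sgnMod, e]
      · simp [sgnMod, hR χ hx hy]
  have hr := h.regular _ (hY T.degth.1) g hg
  rw [hsum, T.expand, hε] at hr
  simp only [deg_one, T.dega.1, T.dega.2.1, T.dega.2.2, T.deg11, T.degth.1, T.degth.2, T.deg44, T.deg45,
    T.deg55, sgnMod] at hr
  norm_num [oneChar] at hr
  refine ⟨?_, h.agree _ (hY T.degth.2) _ (hY T.degth.1) g hg⟩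
  linear_combination hr

include hn in
theorem relation_five (T : Table G) (g : G) (hg : ¬ 5 ∣ orderOf g) :
    1 + (T.to11 : G → ℂ) g + (T.th : G → ℂ) g + (T.th' : G → ℂ) g - (T.t44 : G → ℂ) g = 0 := by
  obtain ⟨P⟩ : Nonempty (Sylow 5 G) := inferInstance
  obtain ⟨hN, hC, -⟩ := normalizer_five hn P
  obtain ⟨M, hM⟩ := ZStarCount.exists_isPModular 5 (Fact.out : Nat.Prime 5)
  haveI : Fintype ↥(P : Subgroup G) := Fintype.ofFinite _
  haveI : Fintype (↥(P : Subgroup G) →* ℂˣ) := Fintype.ofFinite _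
  have hP := card_five hn P
  obtain ⟨X, Y, a, ε, h⟩ := prime_main hP (by norm_num) hM 4
    (relIndex_centralizer (a := 5) (b := 4) hN hC (by norm_num))
  have hX : ∀ χ ∈ X, deg χ % 5 = 1 ∧ a χ = 1 ∨ deg χ % 5 = 4 ∧ a χ = -1 := by
    intro χ hx
    have h2 : (deg χ : ℤ) % 5 = a χ % 5 := (h.valX χ hx).2.1
    rcases (h.valX χ hx).1 with e | e <;> rw [e] at h2
    · exact Or.inl ⟨by omega, e⟩
    · exact Or.inr ⟨by omega, e⟩
  have hR : ∀ χ, χ ∉ X → χ ∉ Y → deg χ % 5 = 0 := fun χ hx hy => Nat.mod_eq_zero_of_dvd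
    (dvd_outside hP h (by norm_num) (by norm_num) (centralizer_mem hP hC) (by norm_num) hx hy).1
  have hYd : ∀ χ ∈ Y, sgnMod 5 (deg χ) = -ε := by
    intro χ hy
    have h2 : (deg χ : ℤ) % 5 = (ε * ((4 : ℕ) : ℤ)) % 5 := h.degY χ hy
    rcases h.sign with e | e <;> rw [e] at h2 ⊢
    · have : deg χ % 5 = 4 := by omega
      simp [sgnMod, this]
    · have : deg χ % 5 = 1 := by omega
      simp [sgnMod, this]
  obtain ⟨θ, hθ⟩ : Y.Nonempty := Finset.card_pos.1 (by rw [h.cardY]; norm_num)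
  have hYone : Y = {θ} := by
    obtain ⟨η, hη⟩ := Finset.card_eq_one.1 (h.cardY.trans (by norm_num))
    rw [hη] at hθ ⊢
    rw [Finset.mem_singleton.1 hθ]
  have hzero : ∑ χ : IrrCharacter G, (sgnMod 5 (deg χ) : ℂ) * (χ : G → ℂ) g = 0 := by
    rw [← Finset.sum_subset (Finset.subset_univ (X ∪ Y)) fun χ _ hx => ?_]
    · rw [Finset.sum_union h.disj, hYone, Finset.sum_singleton, hYd θ hθ,
        Finset.sum_congr rfl (g := fun χ => (a χ : ℂ) * (χ : G → ℂ) g) fun χ hx => by
          rcases hX χ hx with ⟨e, e'⟩ | ⟨e, e'⟩ <;> simp [sgnMod, e, e'],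
        ← h.regular θ hθ g hg]
      push_cast
      ring
    · simp only [Finset.mem_union, not_or] at hx
      simp [sgnMod, hR χ hx.1 hx.2]
  rw [T.expand] at hzero
  simp only [deg_one, T.dega.1, T.dega.2.1, T.dega.2.2, T.deg11, T.degth.1, T.degth.2, T.deg44, T.deg45,
    T.deg55, sgnMod] at hzero
  norm_num [oneChar] at hzero
  linear_combination hzero

include hn in
/-- The column of an element of order 11. -/
theorem column_eleven (T : Table G) {y : G} (hy : orderOf y = 11) :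
    (T.ta : G → ℂ) y = -1 ∧ (T.tb : G → ℂ) y = -1 ∧ (T.tc : G → ℂ) y = -1 ∧ (T.to11 : G → ℂ) y = 0 ∧
      (T.t44 : G → ℂ) y = 0 ∧ (T.t45 : G → ℂ) y = 1 ∧ (T.t55 : G → ℂ) y = 0 ∧
      (T.th : G → ℂ) y + (T.th' : G → ℂ) y = -1 := by
  obtain ⟨P, hle⟩ := (IsPGroup.of_card (G := ↥(Subgroup.zpowers y)) (p := 11) (n := 1)
    (by rw [Nat.card_zpowers, hy, pow_one])).exists_le_sylow
  have hyP : y ∈ (P : Subgroup G) := hle (Subgroup.mem_zpowers y)
  have hy1 : y ≠ 1 := fun e => by rw [e, orderOf_one] at hy; omega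
  obtain ⟨hN, hC, -⟩ := normalizer_eleven hn P
  obtain ⟨M, hM⟩ := ZStarCount.exists_isPModular 11 (Fact.out : Nat.Prime 11)
  haveI : Fintype ↥(P : Subgroup G) := Fintype.ofFinite _
  haveI : Fintype (↥(P : Subgroup G) →* ℂˣ) := Fintype.ofFinite _
  have hP := card_eleven hn P
  obtain ⟨X, Y, a, ε, h⟩ := prime_main hP (by norm_num) hM 5
    (relIndex_centralizer (a := 11) (b := 5) hN hC (by norm_num))
  have hXd : ∀ χ ∈ X, deg χ % 11 = 1 ∨ deg χ % 11 = 10 := by
    intro χ hx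
    have h2 : (deg χ : ℤ) % 11 = a χ % 11 := (h.valX χ hx).2.1
    rcases (h.valX χ hx).1 with e | e <;> rw [e] at h2 <;> omega
  have hYd : ∀ χ ∈ Y, deg χ % 11 = 5 ∨ deg χ % 11 = 6 := by
    intro χ hx
    have h2 : (deg χ : ℤ) % 11 = (ε * ((5 : ℕ) : ℤ)) % 11 := h.degY χ hx
    rcases h.sign with e | e <;> rw [e] at h2 <;> omega
  have hvan : ∀ χ : IrrCharacter G, deg χ % 11 = 0 → (χ : G → ℂ) y = 0 := fun χ hd =>
    (dvd_outside hP h (by norm_num) (by norm_num) (centralizer_mem hP hC) (by norm_num)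
      (fun hx => by have := hXd χ hx; omega) (fun hx => by have := hYd χ hx; omega)).2 y hyP hy1
  have hX : ∀ χ : IrrCharacter G, ∀ s : ℤ, (s = 1 ∨ s = -1) → (deg χ : ℤ) % 11 = s % 11 →
      (χ : G → ℂ) y = (s : ℂ) := by
    intro χ s hs hd
    have hxX : χ ∈ X := by
      by_contra hx
      by_cases hy' : χ ∈ Y
      · have := hYd χ hy'; rcases hs with rfl | rfl <;> omega
      · have := (dvd_outside hP h (by norm_num) (by norm_num) (centralizer_mem hP hC) (by norm_num) hx hy').1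
        obtain ⟨m, hm⟩ : 11 ∣ deg χ := this
        rcases hs with rfl | rfl <;> omega
    rw [(h.valX χ hxX).2.2 y hyP hy1]
    have h2 : (deg χ : ℤ) % 11 = a χ % 11 := (h.valX χ hxX).2.1
    rcases (h.valX χ hxX).1 with e | e <;> rw [e] at h2 ⊢ <;> rcases hs with rfl | rfl <;>
      first | rfl | omega
  have ea := hX T.ta (-1) (Or.inr rfl) (by rw [T.dega.1]; norm_num)
  have eb := hX T.tb (-1) (Or.inr rfl) (by rw [T.dega.2.1]; norm_num)
  have ec := hX T.tc (-1) (Or.inr rfl) (by rw [T.dega.2.2]; norm_num)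
  have ek := hX T.t45 1 (Or.inl rfl) (by rw [T.deg45]; norm_num)
  have eo := hvan T.to11 (by rw [T.deg11])
  have ef := hvan T.t44 (by rw [T.deg44])
  have eq := hvan T.t55 (by rw [T.deg55])
  push_cast at ea eb ec ek
  refine ⟨ea, eb, ec, eo, ef, ek, eq, ?_⟩
  have ho := CharBasicOrth.sum_irr_mul_conj y (1 : G)
  rw [if_neg (fun hc => hy1 (isConj_one_left.1 hc)), T.expand] at ho
  simp only [deg_apply, deg_one, T.dega.1, T.dega.2.1, T.dega.2.2, T.deg11, T.degth.1, T.degth.2, T.deg44,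
    T.deg45, T.deg55, ea, eb, ec, eo, ef, ek, eq, Complex.conj_natCast] at ho
  norm_num [oneChar] at ho
  linear_combination ho / 16

include hn in
/-- Column orthogonality against the identity. -/
theorem relation_degree (T : Table G) {g : G} (hg : g ≠ 1) :
    1 + 10 * ((T.ta : G → ℂ) g + (T.tb : G → ℂ) g + (T.tc : G → ℂ) g) + 11 * (T.to11 : G → ℂ) g +
      16 * ((T.th : G → ℂ) g + (T.th' : G → ℂ) g) + 44 * (T.t44 : G → ℂ) g + 45 * (T.t45 : G → ℂ) g +
      55 * (T.t55 : G → ℂ) g = 0 := by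
  have ho := CharBasicOrth.sum_irr_mul_conj g (1 : G)
  rw [if_neg (fun hc => hg (isConj_one_left.1 hc)), T.expand] at ho
  simp only [deg_apply, deg_one, T.dega.1, T.dega.2.1, T.dega.2.2, T.deg11, T.degth.1, T.degth.2, T.deg44,
    T.deg45, T.deg55, Complex.conj_natCast] at ho
  norm_num [oneChar] at ho
  linear_combination ho

end Cfsg.Agent.M11Order91
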