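import Cfsg.Agent.Lib.M11Order91Local

/-!
The normaliser of a Sylow 3-subgroup of a simple group of order 7920.
-/

set_option autoImplicit false
set_option linter.style.haveILetI false
set_option linter.unusedSectionVars false

namespace Cfsg.Agent.M11Order91

open Cfsg Cfsg.Agent.SimpleOrder Cfsg.Agent.SimpleOrderCheck

attribute [local instance] Classical.propDecidable

/-- A group `R` of order 4 cannot meet each nonidentity element of a group of order 9, up to
inversion, from every nonidentity element. -/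
theorem no_four_action {P : Type*} [Group P] [Finite P] (hcomm : ∀ a b : P, a * b = b * a)
    (hP : Nat.card P = 9) (R : Subgroup (MulAut P))
    (hR : Nat.card ↥R = 4) (h : ∀ y y' : P, y ≠ 1 → y' ≠ 1 → ∃ r ∈ R, r y = y' ∨ r y = y'⁻¹) : False := by
  haveI : Fintype P := Fintype.ofFinite P
  haveI : Fintype ↥R := Fintype.ofFinite _
  haveI : Fact (Nat.Prime 2) := ⟨Nat.prime_two⟩
  have hcard : Fintype.card {y : P // y ≠ 1} = 8 := by
    rw [Fintype.card_subtype_compl, Fintype.card_subtype_eq, ← Nat.card_eq_fintype_card, hP]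
  have hinj : ∀ w : P, w ≠ 1 → Function.Injective
      (fun p : Bool × ↥R => bif p.1 then ((p.2 : MulAut P) w)⁻¹ else (p.2 : MulAut P) w) := by
    intro w hw
    let g : Bool × ↥R → {y : P // y ≠ 1} := fun p =>
      ⟨bif p.1 then ((p.2 : MulAut P) w)⁻¹ else (p.2 : MulAut P) w, by
        rcases p with ⟨_ | _, r⟩
        · exact fun e => hw ((map_eq_one_iff _ (r : MulAut P).injective).1 e)
        · exact fun e => hw ((map_eq_one_iff _ (r : MulAut P).injective).1 (inv_eq_one.1 e))⟩
    have hsur : Function.Surjective g := by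
      rintro ⟨y, hy⟩
      obtain ⟨r, hr, e | e⟩ := h w y hw hy
      · exact ⟨(false, ⟨r, hr⟩), Subtype.ext e⟩
      · exact ⟨(true, ⟨r, hr⟩), Subtype.ext (by show (r w)⁻¹ = y; rw [e, inv_inv])⟩
    have hbij : Function.Bijective g := (Fintype.bijective_iff_surjective_and_card g).2
      ⟨hsur, by rw [Fintype.card_prod, Fintype.card_bool, hcard, ← Nat.card_eq_fintype_card, hR]⟩
    exact fun p q e => hbij.1 (Subtype.ext e)
  obtain ⟨⟨r, hr⟩, hr2⟩ := exists_prime_orderOf_dvd_card' 2 (G := ↥R) (by rw [hR]; norm_num)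
  rw [Subgroup.orderOf_mk] at hr2
  have hr1 : r ≠ 1 := fun e => by rw [e, orderOf_one] at hr2; omega
  have hrr : ∀ x : P, r (r x) = x := fun x => by
    rw [← MulAut.mul_apply, ← pow_two, ← hr2, pow_orderOf_eq_one, MulAut.one_apply]
  obtain ⟨y, hy⟩ : ∃ y : P, y ≠ 1 := by
    haveI : Nontrivial P := Finite.one_lt_card_iff_nontrivial.1 (by rw [hP]; norm_num)
    exact exists_ne 1
  by_cases hw : y * r y = 1
  · have e : r y = y⁻¹ := (inv_eq_of_mul_eq_one_right hw).symm
    have := @hinj y hy (true, (1 : ↥R)) (false, ⟨r, hr⟩) (by simp [e])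
    exact Bool.noConfusion (congrArg Prod.fst this)
  · have := @hinj (y * r y) hw (false, (1 : ↥R)) (false, ⟨r, hr⟩) (by simp [hrr, hcomm y])
    exact hr1 (congrArg Subtype.val (congrArg Prod.snd this)).symm

variable {G : Type*} [Group G] [IsSimpleGroup G] [Fintype G] (hn : Nat.card G = 7920)

include hn in
theorem card_sylow_three (P : Sylow 3 G) : Nat.card ↥(P : Subgroup G) = 9 := by
  haveI : Fact (Nat.Prime 3) := ⟨Nat.prime_three⟩
  rw [sylow_card_of_eq (k := 2) (m := 880) (by rw [hn]; norm_num) (by norm_num) P]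
  norm_num

include hn in
theorem centralizer_sylow_three (P : Sylow 3 G) :
    Subgroup.centralizer ((P : Subgroup G) : Set G) = (P : Subgroup G) := by
  haveI : Fact (Nat.Prime 3) := ⟨Nat.prime_three⟩
  have hP := card_sylow_three hn P
  haveI hab : IsMulCommutative ↥(P : Subgroup G) :=
    IsPGroup.isMulCommutative_of_card_eq_prime_sq (p := 3) (by rw [hP]; norm_num)
  have hle : (P : Subgroup G) ≤ Subgroup.centralizer ((P : Subgroup G) : Set G) := fun a ha =>
    Subgroup.mem_centralizer_iff.2 fun b hb =>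
      congrArg Subtype.val (hab.is_comm.comm (⟨b, hb⟩ : ↥(P : Subgroup G)) ⟨a, ha⟩)
  refine (Subgroup.eq_of_le_of_card_ge hle ?_).symm
  set C := Subgroup.centralizer ((P : Subgroup G) : Set G) with hC
  -- `C` lies in the centraliser of an element of order 3 and contains no involution
  obtain ⟨⟨x, hx⟩, hx3⟩ := exists_prime_orderOf_dvd_card' 3 (G := ↥(P : Subgroup G)) (by rw [hP]; norm_num)
  rw [Subgroup.orderOf_mk] at hx3
  have hC144 : Nat.card ↥C ∣ 144 := (Subgroup.card_dvd_of_le (fun g hg =>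
    Subgroup.mem_centralizer_singleton_iff.2 (Subgroup.mem_centralizer_iff.1 hg x hx).symm)).trans
      (centralizer_dvd hn Nat.prime_three hx3 (by norm_num) (by norm_num))
  have h2 : ¬ 2 ∣ Nat.card ↥C := by
    intro h2
    haveI : Fact (Nat.Prime 2) := ⟨Nat.prime_two⟩
    obtain ⟨⟨t, ht⟩, ht2⟩ := exists_prime_orderOf_dvd_card' 2 h2
    rw [Subgroup.orderOf_mk] at ht2
    have hd := Subgroup.card_dvd_of_le (show (P : Subgroup G) ≤ Subgroup.centralizer ({t} : Set G) from
      fun a ha => Subgroup.mem_centralizer_singleton_iff.2 (Subgroup.mem_centralizer_iff.1 ht a ha))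
    rw [hP, card_centralizer_involution hn ht2] at hd
    norm_num at hd
  have h16 : Nat.Coprime (Nat.card ↥C) 16 := by
    rw [show (16 : ℕ) = 2 ^ 4 from rfl]
    exact Nat.Coprime.pow_right 4 ((Nat.Prime.coprime_iff_not_dvd Nat.prime_two).2 h2).symm
  rw [hP]
  exact Nat.le_of_dvd (by norm_num) (h16.dvd_of_dvd_mul_right (show Nat.card ↥C ∣ 9 * 16 from hC144))

include hn in
/-- An element of `N(P)` of order 5 or 11 would centralise `P`. -/
theorem prime_not_dvd_normalizer_three (P : Sylow 3 G) {r : ℕ} (hr : r = 5 ∨ r = 11) :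
    ¬ r ∣ Nat.card ↥(Subgroup.normalizer ((P : Subgroup G) : Set G)) := by
  haveI : Fact r.Prime := ⟨by rcases hr with rfl | rfl <;> norm_num⟩
  intro hd
  have hP := card_sylow_three hn P
  obtain ⟨z, hz⟩ := exists_prime_orderOf_dvd_card' r hd
  set φ := (P : Subgroup G).normalizerMonoidHom
  have hzC : z ∉ φ.ker := by
    rw [Subgroup.normalizerMonoidHom_ker, Subgroup.mem_subgroupOf]
    intro hmem
    rw [centralizer_sylow_three hn P] at hmem
    have h9 := Subgroup.orderOf_dvd_natCard _ hmem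
    rw [Subgroup.orderOf_coe, hz, hP] at h9
    rcases hr with rfl | rfl <;> norm_num at h9
  apply hzC
  have hpow : φ z ^ r ^ 1 = 1 := by
    rw [pow_one, ← map_pow, ← hz, pow_orderOf_eq_one, map_one]
  have hmv := moved_dvd (α := ↥(P : Subgroup G)) hpow
  rw [hP] at hmv
  let F : Subgroup ↥(P : Subgroup G) :=
    (φ z).toMonoidHom.eqLocus (MonoidHom.id ↥(P : Subgroup G))
  have hF : Nat.card (MulAction.fixedBy ↥(P : Subgroup G) (φ z)) = Nat.card ↥F := rfl
  rw [hF] at hmv
  have hFd := F.card_subgroup_dvd_card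
  rw [hP] at hFd
  have hFle := Nat.le_of_dvd (by norm_num) hFd
  have key : ∀ d ∈ List.range 10, 9 % d = 0 → ((9 - d) % 5 = 0 ∨ (9 - d) % 11 = 0) → d = 9 := by decide +kernel
  have hF9 := key _ (List.mem_range.2 (by omega)) (Nat.mod_eq_zero_of_dvd hFd)
    (by rcases hr with rfl | rfl; exacts [Or.inl (Nat.mod_eq_zero_of_dvd hmv), Or.inr (Nat.mod_eq_zero_of_dvd hmv)])
  have htop : F = ⊤ := Subgroup.eq_top_of_card_eq F (by rw [hF9, hP])
  exact MonoidHom.mem_ker.2 (MulEquiv.ext fun a => (htop ▸ Subgroup.mem_top a : a ∈ F))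

include hn in
theorem normalizer_three (P : Sylow 3 G) :
    Nat.card ↥(Subgroup.normalizer ((P : Subgroup G) : Set G)) = 144 := by
  haveI : Fact (Nat.Prime 3) := ⟨Nat.prime_three⟩
  have hP := card_sylow_three hn P
  have hC := centralizer_sylow_three hn P
  set N := Subgroup.normalizer ((P : Subgroup G) : Set G) with hNdef
  haveI hab : IsMulCommutative ↥(P : Subgroup G) :=
    IsPGroup.isMulCommutative_of_card_eq_prime_sq (p := 3) (by rw [hP]; norm_num)
  have hopt : Nat.card ↥N = 9 ∨ Nat.card ↥N = 36 ∨ Nat.card ↥N = 144 := by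
    have hmul := N.card_mul_index
    rw [hn, show N.index = Nat.card (Sylow 3 G) from P.card_eq_index_normalizer.symm] at hmul
    have hmod : Nat.card (Sylow 3 G) % 3 = 1 := (card_sylow_modEq_one 3 G).trans rfl
    have h9 : 9 ∣ Nat.card ↥N := hP.symm.dvd.trans (Subgroup.card_dvd_of_le Subgroup.le_normalizer)
    have h55 := prime_not_dvd_normalizer_three hn P (r := 5) (Or.inl rfl)
    have h11 := prime_not_dvd_normalizer_three hn P (r := 11) (Or.inr rfl)
    rw [← hNdef] at h55 h11
    obtain ⟨m, hm⟩ := h9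
    rw [hm] at h55 h11 ⊢
    rw [hm, mul_assoc] at hmul
    have hmul' : m * Nat.card (Sylow 3 G) = 880 := by omega
    have key : ∀ a ∈ List.range 881, 880 % a = 0 → a % 5 ≠ 0 → a % 11 ≠ 0 → 880 / a % 3 = 1 →
        a = 1 ∨ a = 4 ∨ a = 16 := by decide +kernel
    have hm0 : 0 < m := Nat.pos_of_ne_zero fun e => by rw [e, zero_mul] at hmul'; omega
    rcases key m (List.mem_range.2 (Nat.lt_succ_of_le (Nat.le_of_dvd (by norm_num) (Dvd.intro _ hmul'))))
      (Nat.mod_eq_zero_of_dvd (Dvd.intro _ hmul'))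
      (fun e => h55 (dvd_mul_of_dvd_right (Nat.dvd_of_mod_eq_zero e) 9))
      (fun e => h11 (dvd_mul_of_dvd_right (Nat.dvd_of_mod_eq_zero e) 9))
      (by rw [← hmul', Nat.mul_div_cancel_left _ hm0]; exact hmod) with h | h | h <;> omega
  rcases hopt with hN | hN | hN
  · -- Burnside transfer
    exfalso
    have hNC : N ≤ Subgroup.centralizer ((P : Subgroup G) : Set G) := by
      rw [hC]
      exact (Subgroup.eq_of_le_of_card_ge Subgroup.le_normalizer (by rw [hP, hN])).ge
    have hmul := (MonoidHom.ker_transferSylow_isComplement' P hNC).card_mul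
    rw [hP, hn] at hmul
    rcases eq_bot_or_top (MonoidHom.normal_ker (MonoidHom.transferSylow P hNC)) with h | h <;>
      rw [h] at hmul
    · rw [Subgroup.card_bot] at hmul; omega
    · rw [Subgroup.card_top, hn] at hmul; omega
  · exfalso
    set φ := (P : Subgroup G).normalizerMonoidHom
    have hker : φ.ker = (P : Subgroup G).subgroupOf N := by
      rw [Subgroup.normalizerMonoidHom_ker, hC]
    have hR : Nat.card ↥φ.range = 4 := by
      have h1 := φ.ker.card_mul_index
      rw [Subgroup.index_ker, hker,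
        Nat.card_congr (Subgroup.subgroupOfEquivOfLe Subgroup.le_normalizer).toEquiv, hP, hN] at h1
      omega
    -- `P` has exponent 3
    have hexp : ∀ a : ↥(P : Subgroup G), a ≠ 1 → orderOf (a : G) = 3 := by
      intro a ha
      rw [Subgroup.orderOf_coe]
      have hd := orderOf_dvd_natCard a
      rw [hP, show (9 : ℕ) = 3 ^ 2 from rfl, Nat.dvd_prime_pow Nat.prime_three] at hd
      obtain ⟨i, hi, e⟩ := hd
      interval_cases i
      · exact absurd (orderOf_eq_one_iff.1 (e.trans (pow_zero 3))) ha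
      · exact e
      · exfalso
        haveI : IsCyclic ↥(P : Subgroup G) := isCyclic_of_orderOf_eq_card a (e.trans hP.symm)
        have := Subgroup.card_subgroup_dvd_card φ.range
        rw [hR, IsCyclic.card_mulAut, hP, show Nat.totient 9 = 6 from by decide] at this
        norm_num at this
    -- a fixed involution
    obtain ⟨t, ht⟩ := exists_prime_orderOf_dvd_card' (G := G) 2 (by rw [hn]; norm_num)
    set H := Subgroup.centralizer ({t} : Set G)
    have hH : Nat.card ↥H = 48 := card_centralizer_involution hn ht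
    obtain ⟨Q⟩ : Nonempty (Sylow 3 ↥H) := inferInstance
    have hQ : Nat.card ↥(Q : Subgroup ↥H) = 3 :=
      sylow_card_of_once (by rw [hH]) (by rw [hH]; norm_num) Q
    set Q' := (Q : Subgroup ↥H).map H.subtype with hQ'
    have hQ'3 : Nat.card ↥Q' = 3 := by rw [hQ', Subgroup.card_map_of_injective H.subtype_injective, hQ]
    -- every element of order 3 is conjugate into `Q'`
    have hinto : ∀ y : G, orderOf y = 3 → ∃ q ∈ Q', IsConj y q := by
      intro y hy
      have hd := centralizer_dvd hn Nat.prime_three hy (by norm_num) (by norm_num)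
      have hne := card_centralizer_three hn hy
      have h9 : 9 ∣ Nat.card ↥(Subgroup.centralizer ({y} : Set G)) := by
        obtain ⟨R, hle⟩ := (IsPGroup.of_card (G := ↥(Subgroup.zpowers y)) (p := 3) (n := 1)
          (by rw [Nat.card_zpowers, hy, pow_one])).exists_le_sylow
        haveI : IsMulCommutative ↥(R : Subgroup G) := IsPGroup.isMulCommutative_of_card_eq_prime_sq (p := 3)
          (by rw [card_sylow_three hn R]; norm_num)
        exact (card_sylow_three hn R).symm.dvd.trans (Subgroup.card_dvd_of_le fun a ha =>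
          Subgroup.mem_centralizer_singleton_iff.2 (congrArg Subtype.val
            (IsMulCommutative.is_comm.comm (⟨a, ha⟩ : ↥(R : Subgroup G)) ⟨y, hle (Subgroup.mem_zpowers y)⟩)))
      have h2 : 2 ∣ Nat.card ↥(Subgroup.centralizer ({y} : Set G)) := by
        have key : ∀ d ∈ List.range 145, 144 % d = 0 → d % 9 = 0 → d ≠ 9 → d % 2 = 0 := by decide +kernel
        exact Nat.dvd_of_mod_eq_zero (key _ (List.mem_range.2 (Nat.lt_succ_of_le (Nat.le_of_dvd (by norm_num) hd)))
          (Nat.mod_eq_zero_of_dvd hd) (Nat.mod_eq_zero_of_dvd h9) hne)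
      obtain ⟨⟨u, hu⟩, hu2⟩ := exists_prime_orderOf_dvd_card' 2 h2
      rw [Subgroup.orderOf_mk] at hu2
      obtain ⟨c, hc⟩ := isConj_iff.1 (isConj_involution hn hu2 ht)
      have hcom : Commute y u := (Subgroup.mem_centralizer_singleton_iff.1 hu : u * y = y * u).symm
      have hy'H : c * y * c⁻¹ ∈ H := by
        rw [Subgroup.mem_centralizer_singleton_iff, ← hc]
        exact ((Commute.conj_iff c).2 hcom).eq
      have hy'3 : orderOf (⟨c * y * c⁻¹, hy'H⟩ : ↥H) = 3 := by
        rw [Subgroup.orderOf_mk, ← hy]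
        exact orderOf_injective (MulAut.conj c).toMonoidHom (MulAut.conj c).injective y
      obtain ⟨S, hS⟩ := (IsPGroup.of_card (G := ↥(Subgroup.zpowers (⟨c * y * c⁻¹, hy'H⟩ : ↥H))) (p := 3) (n := 1)
        (by rw [Nat.card_zpowers, hy'3, pow_one])).exists_le_sylow
      obtain ⟨h, hh⟩ := MulAction.exists_smul_eq ↥H S Q
      have hm : h * ⟨c * y * c⁻¹, hy'H⟩ * h⁻¹ ∈ (Q : Subgroup ↥H) := by
        rw [← hh, Sylow.coe_subgroup_smul]
        exact ⟨_, hS (Subgroup.mem_zpowers _), rfl⟩
      refine ⟨_, ⟨_, hm, rfl⟩, isConj_iff.2 ⟨(h : G) * c, ?_⟩⟩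
      simp [mul_assoc]
    -- so two nonidentity elements of `P` are conjugate in `N` up to inversion
    apply no_four_action (fun a b : ↥(P : Subgroup G) => hab.is_comm.comm a b) hP φ.range hR
    intro y y' hy hy'
    obtain ⟨q, hq, hyq⟩ := hinto (y : G) (hexp y hy)
    obtain ⟨q', hq', hyq'⟩ := hinto (y' : G) (hexp y' hy')
    have hq1 : ∀ {a : ↥(P : Subgroup G)} {b : G}, a ≠ 1 → IsConj (a : G) b → b ≠ 1 := fun ha hab e => by
      subst e
      exact ha (Subtype.ext (isConj_one_right.1 hab.symm))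
    obtain ⟨i, hi⟩ : ∃ i : ℕ, q ^ i = q' := by
      have : q' ∈ Subgroup.zpowers q := by
        have hz : Subgroup.zpowers q = Q' := Subgroup.eq_of_le_of_card_ge (Subgroup.zpowers_le.2 hq) (by
          rw [hQ'3, Nat.card_zpowers, orderOf_eq_prime (PGroupsBasic.pow_eq_one_of_card hQ'3 hq) (hq1 hy hyq)])
        rw [hz]; exact hq'
      exact (mem_powers_iff_mem_zpowers.2 this : q' ∈ Submonoid.powers q)
    have h3 : q ^ 3 = 1 := PGroupsBasic.pow_eq_one_of_card hQ'3 hq
    have hcases : q' = q ∨ q' = q⁻¹ := by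
      have hmod : q' = q ^ (i % 3) := by
        rw [← hi]
        conv_lhs => rw [← Nat.div_add_mod i 3, pow_add, pow_mul, h3, one_pow, one_mul]
      have : i % 3 < 3 := Nat.mod_lt _ (by norm_num)
      interval_cases hi3 : i % 3
      · exact absurd (hmod.trans (pow_zero q)) (hq1 hy' hyq')
      · exact Or.inl (hmod.trans (pow_one q))
      · exact Or.inr (hmod.trans (eq_inv_of_mul_eq_one_left (by rw [← pow_succ, h3])))
    have hex : ∀ w : ↥(P : Subgroup G), IsConj (y : G) (w : G) → ∃ r ∈ φ.range, r y = w := by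
      intro w hw
      obtain ⟨n, hn', e⟩ := BlockAbelianSylow86.exists_normalizer_conj hab y.2 w.2 hw
      exact ⟨φ ⟨n, hn'⟩, ⟨_, rfl⟩, Subtype.ext e⟩
    rcases hcases with e | e <;> subst e
    · obtain ⟨r, hr, e⟩ := hex y' (hyq.trans hyq'.symm)
      exact ⟨r, hr, Or.inl e⟩
    · obtain ⟨r, hr, e⟩ := hex y'⁻¹ (by
        rw [Subgroup.coe_inv]
        obtain ⟨c, hc⟩ := isConj_iff.1 hyq'
        refine hyq.trans (IsConj.symm (isConj_iff.2 ⟨c, ?_⟩))
        rw [← conj_inv, hc, inv_inv])
      exact ⟨r, hr, Or.inr e⟩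
  · exact hN

end Cfsg.Agent.M11Order91
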