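import Cfsg.Agent.Lib.M12DegEdge55Sums
import Cfsg.Agent.Lib.CharBasicDecomp
import Cfsg.Prelude.Def_DegreeGraph

/-!
Irreducible characters of degree 55 and 66 of the Mathieu group of degree twelve: both come from
linear characters of the stabiliser of an unordered pair of points.
-/

set_option autoImplicit false
set_option maxRecDepth 100000
set_option Elab.async false

namespace Cfsg.Agent.M12DegEdge55

open Cfsg Cfsg.Agent.GolayBasic Cfsg.Agent.GolayPerm Cfsg.Agent.GolayChain
open Cfsg.Agent.GolayOutDataM12 Cfsg.Agent.GolayOutM12 Cfsg.Agent.M12Nse51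
open Cfsg.Agent.CharInduced Cfsg.Agent.CharBasic
open scoped Pointwise ComplexConjugate

/-- the stabiliser of the pair -/
noncomputable def H : Subgroup Spor.M12 :=
  (MulAction.stabilizer (Equiv.Perm GolayPt) ({pt 1, pt 2} : Finset GolayPt)).subgroupOf Spor.M12

/-- the stabiliser of the point -/
noncomputable def K : Subgroup Spor.M12 :=
  (MulAction.stabilizer (Equiv.Perm GolayPt) (pt 1)).subgroupOf Spor.M12

theorem pair_iff {x y a b : GolayPt} (hab : a ≠ b) :
    ({x, y} : Finset GolayPt) = {a, b} ↔ (x = a ∧ y = b) ∨ (x = b ∧ y = a) := by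
  constructor
  · intro e
    have hx : x ∈ ({a, b} : Finset GolayPt) := e ▸ by simp
    have hy : y ∈ ({a, b} : Finset GolayPt) := e ▸ by simp
    have ha : a ∈ ({x, y} : Finset GolayPt) := e.symm ▸ by simp
    have hb : b ∈ ({x, y} : Finset GolayPt) := e.symm ▸ by simp
    simp only [Finset.mem_insert, Finset.mem_singleton] at hx hy ha hb
    rcases hx with rfl | rfl <;> rcases hy with rfl | rfl <;> simp_all
  · rintro (⟨rfl, rfl⟩ | ⟨rfl, rfl⟩)
    · rfl
    · exact Finset.pair_comm _ _

theorem pt12 : pt 1 ≠ pt 2 := fun e => by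
  have := congrArg idx e
  rw [idx_pt (by norm_num), idx_pt (by norm_num)] at this
  omega

theorem mem_H {g : Spor.M12} : g ∈ H ↔
    ((g : Equiv.Perm GolayPt) (pt 1) = pt 1 ∧ (g : Equiv.Perm GolayPt) (pt 2) = pt 2) ∨
    ((g : Equiv.Perm GolayPt) (pt 1) = pt 2 ∧ (g : Equiv.Perm GolayPt) (pt 2) = pt 1) := by
  rw [H, Subgroup.mem_subgroupOf, MulAction.mem_stabilizer_iff, Finset.smul_finset_insert,
    Finset.smul_finset_singleton, pair_iff pt12]
  simp only [Equiv.Perm.smul_def]

theorem idx_eq_iff {x : GolayPt} {i : ℕ} (hi : i < 24) : idx x = i ↔ x = pt i :=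
  ⟨fun h => idx_inj (by rw [idx_pt hi, h]), fun h => by rw [h, idx_pt hi]⟩

theorem mem_H' {g : Spor.M12} : g ∈ H ↔ inL LH g := by
  have h1 : (1 : ℕ) < 24 := by norm_num
  have h2 : (2 : ℕ) < 24 := by norm_num
  simp only [mem_H, inL, LH, List.mem_cons, List.not_mem_nil, or_false, exists_eq_or_imp,
    exists_eq_left, idx_eq_iff h1, idx_eq_iff h2]

theorem mem_K {g : Spor.M12} : g ∈ K ↔ (g : Equiv.Perm GolayPt) (pt 1) = pt 1 := by
  rw [K, Subgroup.mem_subgroupOf, MulAction.mem_stabilizer_iff, Equiv.Perm.smul_def]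

theorem mem_K' {g : Spor.M12} : g ∈ K ↔ inL LK g := by
  obtain ⟨nd1, lt1, -, -, -, -, -, -, d1, -, hd, -⟩ := pts_facts
  rw [mem_K]
  constructor
  · intro e
    have h2 := d1 _ (orbit_dod g.2 hd.2)
    rcases List.mem_cons.1 h2 with h | h
    · exact absurd (g.1.injective (((idx_eq_iff (by norm_num)).1 h).trans e.symm)) pt12.symm
    · exact ⟨_, List.mem_map.2 ⟨_, h, rfl⟩, by rw [e, idx_pt (by norm_num)], rfl⟩
  · rintro ⟨p, hp, h1, -⟩
    obtain ⟨c, -, rfl⟩ := List.mem_map.1 hp
    exact (idx_eq_iff (by norm_num)).1 h1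

/-! ### the two linear characters -/

theorem side_move {h : Spor.M12} (hh : h ∈ H) {i : ℕ} (hi : i ∈ codod) :
    idx ((h : Equiv.Perm GolayPt) (pt i)) ∈ codod ∧
      sideL.contains (idx ((h : Equiv.Perm GolayPt) (pt i))) =
        (sideL.contains i == sideL.contains (idx ((h : Equiv.Perm GolayPt) (pt 5)))) := by
  obtain ⟨p, hp, w, hw, he⟩ := (enum (fun g => mem_H') LH_ok).2.1 ⟨h, hh⟩
  have hc := sideOK_true
  simp only [sideOK, List.all_eq_true, Bool.and_eq_true, List.contains_iff_mem, beq_iff_eq] at hc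
  have h5 : i < 24 := (by decide : ∀ i ∈ codod, i < 24) i hi
  rw [he i h5, he 5 (by norm_num)]
  exact hc p hp w hw i hi

/-- whether the first point stays -/
noncomputable def tone (g : Spor.M12) : Bool := idx ((g : Equiv.Perm GolayPt) (pt 1)) == 1

/-- whether the side stays -/
noncomputable def ttwo (g : Spor.M12) : Bool := sideL.contains (idx ((g : Equiv.Perm GolayPt) (pt 5)))

theorem tone_mul {g h : Spor.M12} (hg : g ∈ H) (hh : h ∈ H) :
    tone (g * h) = (tone g == tone h) := by
  have h1 : (1 : ℕ) < 24 := by norm_num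
  have h2 : (2 : ℕ) < 24 := by norm_num
  simp only [tone, Subgroup.coe_mul, Equiv.Perm.mul_apply]
  rcases mem_H.1 hg with ⟨a, b⟩ | ⟨a, b⟩ <;> rcases mem_H.1 hh with ⟨c, d⟩ | ⟨c, d⟩ <;>
    simp [a, b, c, idx_pt h1, idx_pt h2]

theorem ttwo_mul {g h : Spor.M12} (hg : g ∈ H) (hh : h ∈ H) :
    ttwo (g * h) = (ttwo g == ttwo h) := by
  have hm := (side_move hh (i := 5) (by decide)).1
  have := (side_move hg hm).2
  rw [pt_idx] at this
  simp only [ttwo, Subgroup.coe_mul, Equiv.Perm.mul_apply]
  rw [this, Bool.beq_comm]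

/-- the truth value defining the character -/
noncomputable def tval (k : Bool) (g : Spor.M12) : Bool := if k then (tone g == ttwo g) else tone g

theorem tval_mul (k : Bool) {g h : Spor.M12} (hg : g ∈ H) (hh : h ∈ H) :
    tval k (g * h) = (tval k g == tval k h) := by
  cases k
  · exact tone_mul hg hh
  · simp only [tval, if_true, tone_mul hg hh, ttwo_mul hg hh]
    cases tone g <;> cases tone h <;> cases ttwo g <;> cases ttwo h <;> rfl

/-- the linear character -/
noncomputable def theta (k : Bool) (h : H) : ℂ := (bsgn (tval k h) : ℂ)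

theorem theta_mul (k : Bool) (g h : H) : theta k (g * h) = theta k g * theta k h := by
  simp only [theta, Subgroup.coe_mul, tval_mul k g.2 h.2, bsgn_beq, Int.cast_mul]

theorem theta_one (k : Bool) : theta k 1 = 1 := by
  have h := theta_mul k 1 1
  rw [one_mul] at h
  rcases (by simp only [theta, bsgn]; split_ifs <;> simp : theta k 1 = 1 ∨ theta k 1 = -1) with e | e
  · exact e
  · rw [e] at h; norm_num at h

/-- the homomorphism -/
noncomputable def thetaHom (k : Bool) : H →* ℂˣ :=
  MonoidHom.toHomUnits ⟨⟨theta k, theta_one k⟩, theta_mul k⟩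

theorem isChar_theta (k : Bool) : IsCharacter H (theta k) :=
  CharBasicDecomp.isCharacter_linear (thetaHom k)

theorem cls_theta (k : Bool) : IsClassFunction H (theta k) :=
  isClassFunction_of_isCharacter (isChar_theta k)

/-! ### values -/

theorem card_H : Nat.card H = 1440 := (enum (fun g => mem_H') LH_ok).1

theorem card_K : Nat.card K = 7920 := by
  rw [(enum (fun g => mem_K') LK_ok).1]
  decide +kernel

theorem index_H : H.index = 66 := by
  have h := H.card_mul_index
  rw [card_H, GolayM24.card_M12] at h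
  omega

theorem index_K : K.index = 12 := by
  have h := K.card_mul_index
  rw [card_K, GolayM24.card_M12] at h
  omega

theorem rep_apply {L : List (ℕ × ℕ)} (hL : pairsOK L = true) (i : Fin L.length) {j : ℕ}
    (hj : j < 24) : idx ((rep hL i : Equiv.Perm GolayPt) (pt j)) =
      wimg (pfx (L[i.1]).1 (L[i.1]).2) j :=
  mk_apply hj

theorem rep_base {L : List (ℕ × ℕ)} (hL : pairsOK L = true) (i : Fin L.length) :
    (rep hL i : Equiv.Perm GolayPt) (pt 1) = pt (L[i.1]).1 ∧
      (rep hL i : Equiv.Perm GolayPt) (pt 2) = pt (L[i.1]).2 ∧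
      (L[i.1]).1 < 24 ∧ (L[i.1]).2 < 24 := by
  have h := hL
  simp only [pairsOK, Bool.and_eq_true, List.all_eq_true] at h
  obtain ⟨ha, hc, -, w1, w2⟩ := pfx_spec (h.2 _ (List.getElem_mem i.2))
  exact ⟨(idx_eq_iff ha).1 (by rw [rep_apply hL i (by norm_num), w1]),
    (idx_eq_iff hc).1 (by rw [rep_apply hL i (by norm_num), w2]), ha, hc⟩

theorem quot_apply (r s : Spor.M12) (x y : GolayPt) :
    ((r⁻¹ * s : Spor.M12) : Equiv.Perm GolayPt) x = y ↔
      (s : Equiv.Perm GolayPt) x = (r : Equiv.Perm GolayPt) y := by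
  simp only [Subgroup.coe_mul, Subgroup.coe_inv, Equiv.Perm.mul_apply]
  exact Equiv.Perm.inv_eq_iff_eq

theorem repH_inj (i j : Fin RH.length) (h : (rep RH_ok.1 i)⁻¹ * rep RH_ok.1 j ∈ H) : i = j := by
  have hlt := RH_ok.2.2
  simp only [List.all_eq_true, decide_eq_true_eq] at hlt
  have hi := hlt _ (List.getElem_mem i.2)
  have hj := hlt _ (List.getElem_mem j.2)
  obtain ⟨i1, i2, ia, ic⟩ := rep_base RH_ok.1 i
  obtain ⟨j1, j2, ja, jc⟩ := rep_base RH_ok.1 j
  simp only [mem_H, quot_apply, i1, i2, j1, j2] at h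
  have key : ∀ {a b : ℕ}, a < 24 → b < 24 → pt a = pt b → a = b := fun ha hb e => by
    simpa [idx_pt ha, idx_pt hb] using congrArg idx e
  have hnd : RH.Nodup := by
    have := RH_ok.1
    simp only [pairsOK, Bool.and_eq_true, decide_eq_true_eq] at this
    exact this.1
  rcases h with ⟨a, b⟩ | ⟨a, b⟩
  · have e : RH[j.1] = RH[i.1] := Prod.ext (key ja ia a) (key jc ic b)
    exact Fin.ext (hnd.getElem_inj_iff.1 e.symm)
  · have := key ja ic a
    have := key jc ia b
    omega

theorem repK_inj (i j : Fin RK.length) (h : (rep RK_ok.1 i)⁻¹ * rep RK_ok.1 j ∈ K) : i = j := by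
  obtain ⟨i1, -, ia, -⟩ := rep_base RK_ok.1 i
  obtain ⟨j1, -, ja, -⟩ := rep_base RK_ok.1 j
  simp only [mem_K, quot_apply, i1, j1] at h
  have e : (RK[j.1]).1 = (RK[i.1]).1 := by simpa [idx_pt ja, idx_pt ia] using congrArg idx h
  have e' : (RK.map Prod.fst)[i.1]'(by simp) = (RK.map Prod.fst)[j.1]'(by simp) := by simp [e]
  exact Fin.ext (RK_ok.2.2.getElem_inj_iff.1 e')

section values

variable [Fintype Spor.M12] {g : Spor.M12} {v : List ℕ}
  (hv : ∀ i < 24, idx ((g : Equiv.Perm GolayPt) (pt i)) = wimg v i)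

include hv

theorem app_iff {a b : ℕ} (ha : a < 24) (hb : b < 24) :
    (g : Equiv.Perm GolayPt) (pt a) = pt b ↔ wimg v a = b := by
  rw [← idx_eq_iff hb, hv a ha]

theorem psi_val (k : Bool) : indFun H (theta k) g = (psiW k v : ℂ) := by
  rw [ind_eq_sum_reps H (cls_theta k) (index_H.trans RH_ok.2.1.symm) (rep RH_ok.1) repH_inj,
    psiW, ← Fin.sum_univ_fun_getElem RH fun p => term k p v, Int.cast_sum]
  refine Finset.sum_congr rfl fun i _ => ?_
  obtain ⟨r1, r2, ha, hc⟩ := rep_base RH_ok.1 i
  set r := rep RH_ok.1 i with hr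
  set a := (RH[i.1]).1
  set c := (RH[i.1]).2
  have hmem : r⁻¹ * g * r ∈ H ↔
      ((wimg v a = a ∧ wimg v c = c) ∨ (wimg v a = c ∧ wimg v c = a)) := by
    simp only [mem_H, conj_apply, r1, r2, app_iff hv ha ha, app_iff hv ha hc, app_iff hv hc ha,
      app_iff hv hc hc]
  have hcond : ((wimg v a == a && wimg v c == c) || (wimg v a == c && wimg v c == a)) = true ↔
      r⁻¹ * g * r ∈ H := by
    simp [hmem]
  simp only [term]
  by_cases hm : r⁻¹ * g * r ∈ H
  · rw [ext_zero_of_mem _ hm, if_pos (hcond.2 hm), theta]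
    congr 2
    have e1 : tone (r⁻¹ * g * r) = (wimg v a == a) := by
      rw [Bool.eq_iff_iff, tone, beq_iff_eq, beq_iff_eq, idx_eq_iff (by norm_num), conj_apply, r1,
        app_iff hv ha ha]
    have e2 : ttwo (r⁻¹ * g * r) =
        (sideL.map (wimg (pfx a c))).contains (wimg v (wimg (pfx a c) 5)) := by
      have hr5 : ∀ s < 24, idx ((r : Equiv.Perm GolayPt) (pt s)) = wimg (pfx a c) s :=
        fun s hs => rep_apply RH_ok.1 i hs
      have hx : wimg v (wimg (pfx a c) 5) =
          idx ((g : Equiv.Perm GolayPt) ((r : Equiv.Perm GolayPt) (pt 5))) := by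
        rw [← hr5 5 (by norm_num), ← hv _ (idx_lt _), pt_idx]
      rw [Bool.eq_iff_iff]
      simp only [ttwo, List.contains_iff_mem, List.mem_map, hx]
      have hs24 : ∀ s ∈ sideL, s < 24 := by decide
      constructor
      · intro h
        refine ⟨_, h, ?_⟩
        rw [← hr5 _ (hs24 _ h)]
        congr 1
        rw [eq_comm, ← conj_apply, pt_idx]
      · rintro ⟨s, hs, e⟩
        rw [← hr5 s (hs24 s hs)] at e
        rw [(idx_eq_iff (hs24 s hs)).2 ((conj_apply g r _ _).2 (idx_inj e).symm)]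
        exact hs
    cases k
    · exact e1
    · simp only [tval, if_true, e1, e2]
      rfl
  · rw [ext_zero_of_not_mem _ hm, if_neg (fun h => hm (hcond.1 h)), Int.cast_zero]

theorem fix_val : indFun K (fun _ => (1 : ℂ)) g = (fixW v : ℂ) := by
  rw [ind_eq_sum_reps K (fun _ _ => rfl) (index_K.trans RK_ok.2.1.symm) (rep RK_ok.1) repK_inj,
    fixW, ← Fin.sum_univ_fun_getElem RK fun p => if wimg v p.1 == p.1 then (1 : ℤ) else 0,
    Int.cast_sum]
  refine Finset.sum_congr rfl fun i _ => ?_
  obtain ⟨r1, -, ha, -⟩ := rep_base RK_ok.1 i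
  have hmem : (rep RK_ok.1 i)⁻¹ * g * rep RK_ok.1 i ∈ K ↔ wimg v (RK[i.1]).1 = (RK[i.1]).1 := by
    simp only [mem_K, conj_apply, r1, app_iff hv ha ha]
  by_cases hm : (rep RK_ok.1 i)⁻¹ * g * rep RK_ok.1 i ∈ K
  · rw [ext_zero_of_mem _ hm, if_pos (beq_iff_eq.2 (hmem.1 hm)), Int.cast_one]
  · rw [ext_zero_of_not_mem _ hm, if_neg fun h => hm (hmem.2 (beq_iff_eq.1 h)), Int.cast_zero]

end values

theorem theta_val (k : Bool) (h : H) {v : List ℕ}
    (hv : ∀ i < 24, idx ((h.1 : Equiv.Perm GolayPt) (pt i)) = wimg v i) :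
    theta k h = (thW k v : ℂ) := by
  simp only [theta, thW, tval, tone, ttwo, hv 1 (by norm_num), hv 5 (by norm_num)]


/-! ### the sums -/

variable [Fintype Spor.M12]

theorem inner_H (k : Bool) {χ : Spor.M12 → ℂ} (hχ : IsClassFunction Spor.M12 χ)
    (F : List ℕ → ℤ)
    (hF : ∀ g : Spor.M12, ∀ v, (∀ i < 24, idx ((g : Equiv.Perm GolayPt) (pt i)) = wimg v i) →
      χ g = (F v : ℂ)) :
    classInner (indFun H (theta k)) χ = (sumH (fun v => thW k v * F v) : ℂ) / 1440 := by
  classical
  haveI : Fintype H := Fintype.ofFinite _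
  rw [inner_ind_left H _ hχ, classInner, card_H,
    (enum (fun g => mem_H') LH_ok).2.2 _ (fun v => thW k v * F v) fun u v hv => by
      rw [theta_val k u hv, hF u v hv, map_intCast, ← Int.cast_mul]]
  rw [sumH, inv_mul_eq_div]
  norm_num

theorem inner_K {χ : Spor.M12 → ℂ} (hχ : IsClassFunction Spor.M12 χ)
    (F : List ℕ → ℤ)
    (hF : ∀ g : Spor.M12, ∀ v, (∀ i < 24, idx ((g : Equiv.Perm GolayPt) (pt i)) = wimg v i) →
      χ g = (F v : ℂ)) :
    classInner (indFun K (fun _ => (1 : ℂ))) χ = (sumK F : ℂ) / 7920 := by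
  classical
  haveI : Fintype K := Fintype.ofFinite _
  rw [inner_ind_left K _ hχ, classInner, card_K,
    (enum (fun g => mem_K') LK_ok).2.2 _ F fun u v hv => by
      rw [hF u v hv, map_intCast, one_mul]]
  rw [sumK, inv_mul_eq_div]
  norm_num

/-- A virtual character of squared norm one with positive degree is irreducible. -/
theorem irr_of_norm {θ : Spor.M12 → ℂ} (hθ : IsGeneralizedCharacter Spor.M12 θ)
    (h1 : classInner θ θ = 1) {d : ℕ} (hd : θ 1 = d) (hpos : 0 < d) :
    ∃ χ : IrrCharacter Spor.M12, charDegree (χ : Spor.M12 → ℂ) = d := by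
  obtain ⟨χ, hχ, e | e⟩ := CharBasicDecomp.eq_or_neg_irr_of_norm_one hθ h1
  · refine ⟨⟨χ, hχ⟩, ?_⟩
    show ⌊(χ 1).re⌋₊ = d
    rw [← e, hd]
    simp
  · exfalso
    obtain ⟨n, ρ, -, rfl⟩ := hχ
    rw [e, Pi.neg_apply, Representation.char_one] at hd
    have := congrArg Complex.re hd
    simp only [Complex.neg_re, Complex.natCast_re] at this
    have h0 : (0 : ℝ) < (d : ℝ) := by exact_mod_cast hpos
    have h2 := Nat.cast_nonneg (α := ℝ) (Module.finrank ℂ (Fin n → ℂ))
    linarith

/-- the induced linear character -/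
noncomputable abbrev psi (k : Bool) : Spor.M12 → ℂ := indFun H (theta k)

/-- the permutation character on the points -/
noncomputable abbrev fx : Spor.M12 → ℂ := indFun K fun _ => 1

theorem exists_deg_66 : ∃ χ : IrrCharacter Spor.M12, charDegree (χ : Spor.M12 → ℂ) = 66 := by
  refine irr_of_norm (θ := psi true)
    (CharBasicDecomp.isGeneralizedCharacter_of_isCharacter (isCharacter_ind H (isChar_theta true)))
    ?_ ?_ (by norm_num)
  · rw [inner_H true (isClassFunction_ind H _) (psiW true) fun g v hv => psi_val hv true,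
      norm_two_sum]
    norm_num
  · rw [psi, ind_one_apply, index_H, theta_one, mul_one]

theorem exists_deg_55 : ∃ χ : IrrCharacter Spor.M12, charDegree (χ : Spor.M12 → ℂ) = 55 := by
  classical
  haveI : Fintype K := Fintype.ofFinite _
  have c1 : IsClassFunction Spor.M12 (fun _ => (1 : ℂ)) := fun _ _ => rfl
  have cp := isClassFunction_ind H (theta false)
  have cf : IsClassFunction Spor.M12 fx := isClassFunction_ind K _
  have pp : classInner (psi false) (psi false) = 2 := by
    rw [inner_H false cp (psiW false) fun g v hv => psi_val hv false, norm_one_sum]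
    norm_num
  have pf : classInner (psi false) fx = 1 := by
    rw [inner_H false cf fixW fun g v hv => fix_val hv, cross_sum]
    norm_num
  have p1 : classInner (psi false) (fun _ => 1) = 0 := by
    rw [inner_H false c1 (fun _ => 1) fun g v _ => by simp]
    simp only [mul_one, triv_sum]
    norm_num
  have ff : classInner fx fx = 2 := by
    rw [inner_K cf fixW fun g v hv => fix_val hv, fix_sum]
    norm_num
  have f1 : classInner fx (fun _ => 1) = 1 := by
    rw [inner_ind_left K _ c1]
    simp [classInner]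
  have o1 : classInner (fun _ : Spor.M12 => (1 : ℂ)) (fun _ => 1) = 1 := by simp [classInner]
  have fp : classInner fx (psi false) = 1 := by rw [← CharInduced.inner_conj_symm, pf, map_one]
  have op : classInner (fun _ : Spor.M12 => (1 : ℂ)) (psi false) = 0 := by
    rw [← CharInduced.inner_conj_symm, p1, map_zero]
  have of : classInner (fun _ : Spor.M12 => (1 : ℂ)) fx = 1 := by
    rw [← CharInduced.inner_conj_symm, f1, map_one]
  refine irr_of_norm (θ := psi false - fx + fun _ => 1) ?_ ?_ ?_ (by norm_num)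
  · refine CharBasicDecomp.isGeneralizedCharacter_add
      (CharBasicDecomp.isGeneralizedCharacter_sub ?_ ?_) ?_
    · exact CharBasicDecomp.isGeneralizedCharacter_of_isCharacter
        (isCharacter_ind H (isChar_theta false))
    · exact CharBasicDecomp.isGeneralizedCharacter_of_isCharacter
        (isCharacter_ind K CharBasicDecomp.isCharacter_one)
    · exact CharBasicDecomp.isGeneralizedCharacter_of_isCharacter CharBasicDecomp.isCharacter_one
  · simp only [CharInduced.inner_add_left, CharInduced.inner_add_right, CharInduced.inner_sub_left,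
      CharInduced.inner_sub_right, pp, pf, p1, ff,
      f1, o1, fp, op, of]
    norm_num
  · simp only [Pi.add_apply, Pi.sub_apply, psi, fx, ind_one_apply, index_H, index_K, theta_one]
    norm_num

omit [Fintype Spor.M12] in
/-- The two degrees needed for the degree graph. -/
theorem degrees :
    (∃ chi : IrrCharacter Spor.M12, 55 ∣ charDegree (chi : Spor.M12 → ℂ)) ∧
      ∃ chi : IrrCharacter Spor.M12, 33 ∣ charDegree (chi : Spor.M12 → ℂ) := by
  haveI : Fintype Spor.M12 := Fintype.ofFinite _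
  obtain ⟨χ, h⟩ := exists_deg_55
  obtain ⟨χ', h'⟩ := exists_deg_66
  exact ⟨⟨χ, by rw [h]⟩, ⟨χ', by rw [h']; norm_num⟩⟩

end Cfsg.Agent.M12DegEdge55
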