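import Cfsg.Agent.Lib.M12Nse51Count
import Cfsg.Agent.Lib.CharInducedRep
import Cfsg.Agent.Lib.CharBasicDecomp

/-!
Sums over two subgroups of the Mathieu group of degree twelve, as lists of words.
-/

set_option autoImplicit false
set_option maxRecDepth 100000

namespace Cfsg.Agent.M12DegEdge55

open Cfsg Cfsg.Agent.GolayBasic Cfsg.Agent.GolayPerm Cfsg.Agent.GolayChain
open Cfsg.Agent.GolayOutDataM12 Cfsg.Agent.GolayOutM12 Cfsg.Agent.M12Nse51
open Cfsg.Agent.CharInduced
open scoped Pointwise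

universe u

/-- The induced function from explicit coset representatives. -/
theorem ind_eq_sum_reps {G : Type u} [Group G] [Fintype G] (H : Subgroup G) {θ : H → ℂ}
    (hθ : IsClassFunction H θ) {n : ℕ} (hn : H.index = n) (r : Fin n → G)
    (hr : ∀ i j, (r i)⁻¹ * r j ∈ H → i = j) (g : G) :
    indFun H θ g = ∑ i, extendByZero H θ ((r i)⁻¹ * g * r i) := by
  classical
  haveI : Fintype (G ⧸ H) := Fintype.ofFinite _
  have hb : Function.Bijective fun i => (r i : G ⧸ H) := by
    refine (Fintype.bijective_iff_injective_and_card _).2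
      ⟨fun i j e => hr i j (QuotientGroup.eq.1 e), ?_⟩
    rw [Fintype.card_fin, ← Nat.card_eq_fintype_card, ← Subgroup.index, hn]
  rw [ind_eq_sum_quotient H hθ, ← hb.sum_comp]
  refine Finset.sum_congr rfl fun i _ => ?_
  obtain ⟨h, hh⟩ := QuotientGroup.mk_out_eq_mul H (r i)
  rw [hh, ← ext_zero_conj_inv hθ (H.inv_mem h.2) ((r i)⁻¹ * g * r i)]
  congr 1
  simp only [mul_inv_rev, inv_inv]
  group

/-- the product of a word of the chain, inside the group -/
noncomputable def mk (v : List ℕ) (h : v.all (fun T => (elts lvT).contains T) = true) : Spor.M12 :=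
  ⟨ev v, Subgroup.list_prod_mem _ fun x hx => by
    obtain ⟨T, hT, rfl⟩ := List.mem_map.1 hx
    simp only [List.all_eq_true, List.contains_iff_mem] at h
    exact memT T (h T hT)⟩

theorem mk_apply {v : List ℕ} {h : v.all (fun T => (elts lvT).contains T) = true} {i : ℕ}
    (hi : i < 24) : idx ((mk v h : Equiv.Perm GolayPt) (pt i)) = wimg v i := by
  simp only [List.all_eq_true, List.contains_iff_mem] at h
  show idx (ev v (pt i)) = _
  rw [ev_apply (fun P hP => valid_of_chain lvT [] chainT P (h P hP)), idx_pt hi]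

/-- membership in a set of pairs of images of the first two base points -/
def inL (L : List (ℕ × ℕ)) (g : Spor.M12) : Prop :=
  ∃ p ∈ L, idx ((g : Equiv.Perm GolayPt) (pt 1)) = p.1 ∧
    idx ((g : Equiv.Perm GolayPt) (pt 2)) = p.2

/-- the listed pairs are usable -/
def pairsOK (L : List (ℕ × ℕ)) : Bool := decide L.Nodup && L.all fun p => pfxOK p.1 p.2

theorem pfx_spec {a c : ℕ} (h : pfxOK a c = true) :
    a < 24 ∧ c < 24 ∧ (pfx a c).all (fun T => (elts lvT).contains T) = true ∧
      wimg (pfx a c) 1 = a ∧ wimg (pfx a c) 2 = c := by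
  simp only [pfxOK, Bool.and_eq_true, decide_eq_true_eq, beq_iff_eq] at h
  exact ⟨h.1.1.1.1, h.1.1.1.2, h.1.1.2, h.1.2, h.2⟩

theorem word_all {w : List ℕ} (hw : w ∈ words tl) :
    w.all (fun T => (elts lvT).contains T) = true := by
  simp only [List.all_eq_true, List.contains_iff_mem]
  exact fun T hT => tl_elts T (elts_of_words tl hw T hT)

/-- Enumeration of a subgroup given by the images of the first two base points. -/
theorem enum {U : Subgroup Spor.M12} {L : List (ℕ × ℕ)} (hU : ∀ g, g ∈ U ↔ inL L g)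
    (hL : pairsOK L = true) :
    Nat.card U = L.length * 720 ∧
    (∀ u : U, ∃ p ∈ L, ∃ w ∈ words tl, ∀ i < 24,
      idx ((u.1 : Equiv.Perm GolayPt) (pt i)) = wimg (pfx p.1 p.2 ++ w) i) ∧
    ∀ [Fintype U] (F : U → ℂ) (F' : List ℕ → ℤ),
      (∀ (u : U) (v : List ℕ), (∀ i < 24, idx ((u.1 : Equiv.Perm GolayPt) (pt i)) = wimg v i) →
        F u = (F' v : ℂ)) →
      ∑ u, F u = (((L.map fun p =>
        ((words tl).map fun w => F' (pfx p.1 p.2 ++ w)).sum).sum : ℤ) : ℂ) := by
  classical
  simp only [pairsOK, Bool.and_eq_true, decide_eq_true_eq, List.all_eq_true] at hL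
  obtain ⟨hnd, hok⟩ := hL
  have hp : ∀ j : Fin L.length, pfxOK (L[j.1]).1 (L[j.1]).2 = true :=
    fun j => hok _ (List.getElem_mem j.2)
  have hall : ∀ (j : Fin L.length) (i : Fin (words tl).length),
      (pfx (L[j.1]).1 (L[j.1]).2 ++ (words tl)[i.1]).all (fun T => (elts lvT).contains T) = true :=
    fun j i => by
      rw [List.all_append, (pfx_spec (hp j)).2.2.1, word_all (List.getElem_mem i.2)]
      rfl
  let Φ : Fin L.length × Fin (words tl).length → Spor.M12 := fun x => mk _ (hall x.1 x.2)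
  have hpt : ∀ x : Fin L.length × Fin (words tl).length,
      idx ((Φ x : Equiv.Perm GolayPt) (pt 1)) = (L[x.1.1]).1 ∧
      idx ((Φ x : Equiv.Perm GolayPt) (pt 2)) = (L[x.1.1]).2 := by
    intro x
    obtain ⟨-, -, -, h1, h2⟩ := pfx_spec (hp x.1)
    have hw := List.getElem_mem (l := words tl) x.2.2
    obtain ⟨-, e1, e2⟩ := mem_H2.1 (word_mem hw)
    have hv : ∀ P ∈ pfx (L[x.1.1]).1 (L[x.1.1]).2, valid P = true := by
      intro P hP
      have := (pfx_spec (hp x.1)).2.2.1
      simp only [List.all_eq_true, List.contains_iff_mem] at this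
      exact valid_of_chain lvT [] chainT P (this P hP)
    constructor
    · show idx (ev (_ ++ _) (pt 1)) = _
      simp only [ev, List.map_append, List.prod_append, Equiv.Perm.mul_apply]
      simp only [ev] at e1
      rw [e1]
      exact ((ev_apply hv (pt 1)).trans (by rw [idx_pt (by norm_num)])).trans h1
    · show idx (ev (_ ++ _) (pt 2)) = _
      simp only [ev, List.map_append, List.prod_append, Equiv.Perm.mul_apply]
      simp only [ev] at e2
      rw [e2]
      exact ((ev_apply hv (pt 2)).trans (by rw [idx_pt (by norm_num)])).trans h2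
  have hmem : ∀ x, Φ x ∈ U := fun x => (hU _).2 ⟨_, List.getElem_mem x.1.2, hpt x⟩
  let Ψ : Fin L.length × Fin (words tl).length → U := fun x => ⟨Φ x, hmem x⟩
  have hbase : Function.Bijective (fun i : Fin (words tl).length =>
      (⟨ev (words tl)[i.1], word_mem (List.getElem_mem i.2)⟩ : H2)) := by
    haveI : Fintype H2 := Fintype.ofFinite _
    refine (Fintype.bijective_iff_surjective_and_card _).2 ⟨fun g => ?_, ?_⟩
    · obtain ⟨w, hw, hwg⟩ := exists_word g.2
      obtain ⟨i, hi, hiw⟩ := List.getElem_of_mem hw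
      exact ⟨⟨i, hi⟩, Subtype.ext (by simp only [hiw, hwg])⟩
    · rw [Fintype.card_fin, length_words, tl_size, ← Nat.card_eq_fintype_card, card_H2]
  have hinj : Function.Injective Ψ := by
    intro x y e
    have e' : Φ x = Φ y := congrArg Subtype.val e
    have hj : x.1 = y.1 := by
      have hxy : L[x.1.1] = L[y.1.1] := by
        refine Prod.ext ?_ ?_
        · rw [← (hpt x).1, ← (hpt y).1, e']
        · rw [← (hpt x).2, ← (hpt y).2, e']
      exact Fin.ext ((hnd.getElem_inj_iff).1 hxy)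
    obtain ⟨j, i⟩ := x
    obtain ⟨j', i'⟩ := y
    obtain rfl : j = j' := hj
    have e2 : ev (pfx (L[j.1]).1 (L[j.1]).2 ++ (words tl)[i.1]) =
        ev (pfx (L[j.1]).1 (L[j.1]).2 ++ (words tl)[i'.1]) := congrArg Subtype.val e'
    simp only [ev, List.map_append, List.prod_append, mul_right_inj] at e2
    rw [hbase.1 (Subtype.ext e2)]
  have hsurj : Function.Surjective Ψ := by
    intro u
    obtain ⟨p, hpL, h1, h2⟩ := (hU _).1 u.2
    obtain ⟨j, hj, rfl⟩ := List.getElem_of_mem hpL
    obtain ⟨ha, hc, hel, w1, w2⟩ := pfx_spec (hp ⟨j, hj⟩)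
    let t : Spor.M12 := mk _ hel
    have t1 : (t : Equiv.Perm GolayPt) (pt 1) = (u.1 : Equiv.Perm GolayPt) (pt 1) :=
      idx_inj (by rw [mk_apply (by norm_num), w1, h1])
    have t2 : (t : Equiv.Perm GolayPt) (pt 2) = (u.1 : Equiv.Perm GolayPt) (pt 2) :=
      idx_inj (by rw [mk_apply (by norm_num), w2, h2])
    have hin : (t : Equiv.Perm GolayPt)⁻¹ * (u.1 : Equiv.Perm GolayPt) ∈ H2 := by
      refine mem_H2.2 ⟨mul_mem (inv_mem t.2) u.1.2, ?_, ?_⟩
      · rw [Equiv.Perm.mul_apply, ← t1, ← Equiv.Perm.mul_apply, inv_mul_cancel,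
          Equiv.Perm.one_apply]
      · rw [Equiv.Perm.mul_apply, ← t2, ← Equiv.Perm.mul_apply, inv_mul_cancel,
          Equiv.Perm.one_apply]
    obtain ⟨i, hi⟩ := hbase.2 ⟨_, hin⟩
    refine ⟨(⟨j, hj⟩, i), Subtype.ext (Subtype.ext ?_)⟩
    have hi' : ev (words tl)[i.1] = (t : Equiv.Perm GolayPt)⁻¹ * (u.1 : Equiv.Perm GolayPt) :=
      congrArg Subtype.val hi
    show ev (_ ++ _) = _
    have ht : (t : Equiv.Perm GolayPt) = ev (pfx (L[j]).1 (L[j]).2) := rfl
    simp only [ev, List.map_append, List.prod_append]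
    simp only [ev] at hi' ht
    rw [hi', ← ht, mul_inv_cancel_left]
  refine ⟨?_, ?_, ?_⟩
  pick_goal 2
  · intro u
    obtain ⟨x, rfl⟩ := hsurj u
    exact ⟨_, List.getElem_mem x.1.2, _, List.getElem_mem x.2.2,
      fun i hi => mk_apply (h := hall x.1 x.2) hi⟩
  · rw [← Nat.card_congr (Equiv.ofBijective Ψ ⟨hinj, hsurj⟩), Nat.card_prod, Nat.card_fin,
      Nat.card_fin, length_words, tl_size]
  intro _ F F' hF
  have h1 : ∀ x, F (Ψ x) =
      ((F' (pfx (L[x.1.1]).1 (L[x.1.1]).2 ++ (words tl)[x.2.1]) : ℤ) : ℂ) :=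
    fun x => hF _ _ fun i hi => mk_apply (h := hall x.1 x.2) hi
  have hb : Function.Bijective Ψ := ⟨hinj, hsurj⟩
  rw [← hb.sum_comp F, Finset.sum_congr rfl fun x _ => h1 x, ← Int.cast_sum,
    Fintype.sum_prod_type]
  congr 1
  rw [← Fin.sum_univ_fun_getElem L fun p =>
    ((words tl).map fun w => F' (pfx p.1 p.2 ++ w)).sum]
  exact Finset.sum_congr rfl fun j _ =>
    Fin.sum_univ_fun_getElem (words tl) fun w => F' (pfx (L[j.1]).1 (L[j.1]).2 ++ w)

/-- words carrying the base points to the listed pairs, as group elements -/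
noncomputable def rep {L : List (ℕ × ℕ)} (hL : pairsOK L = true) (i : Fin L.length) : Spor.M12 :=
  mk (pfx (L[i.1]).1 (L[i.1]).2) (by
    simp only [pairsOK, Bool.and_eq_true, List.all_eq_true] at hL
    exact (pfx_spec (hL.2 _ (List.getElem_mem i.2))).2.2.1)

theorem conj_apply (g r : Spor.M12) (i j : GolayPt) :
    ((r⁻¹ * g * r : Spor.M12) : Equiv.Perm GolayPt) i = j ↔
      (g : Equiv.Perm GolayPt) ((r : Equiv.Perm GolayPt) i) = (r : Equiv.Perm GolayPt) j := by
  simp only [Subgroup.coe_mul, Subgroup.coe_inv, Equiv.Perm.mul_apply]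
  exact Equiv.Perm.inv_eq_iff_eq

end Cfsg.Agent.M12DegEdge55
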