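import Cfsg.Agent.Lib.M12DegEdge55Gen

/-!
Integer sums over the two subgroups.
-/

set_option autoImplicit false
set_option maxRecDepth 100000
set_option Elab.async false

namespace Cfsg.Agent.M12DegEdge55

open Cfsg Cfsg.Agent.GolayBasic Cfsg.Agent.GolayPerm Cfsg.Agent.GolayChain
open Cfsg.Agent.M12Nse51

/-- images of the base pair under the stabiliser of the pair -/
def LH : List (ℕ × ℕ) := [(1, 2), (2, 1)]

/-- images of the base pair under the stabiliser of the first point -/
def LK : List (ℕ × ℕ) := others.map fun c => (1, c)

/-- the unordered pairs -/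
def RH : List (ℕ × ℕ) := dod.flatMap fun a => (dod.filter fun c => decide (a < c)).map fun c => (a, c)

/-- one pair for each point -/
def RK : List (ℕ × ℕ) := dod.map fun a => (a, if a = 1 then 2 else 1)

theorem LH_ok : pairsOK LH = true := by decide +kernel

theorem LK_ok : pairsOK LK = true := by decide +kernel

theorem RH_ok : pairsOK RH = true ∧ RH.length = 66 ∧ (RH.all fun p => decide (p.1 < p.2)) = true := by
  decide +kernel

theorem RK_ok : pairsOK RK = true ∧ RK.length = 12 ∧ (RK.map Prod.fst).Nodup := by decide +kernel

/-- one half of the other twelve points -/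
def sideL : List ℕ := [5, 11, 15, 19, 22, 23]

/-- the other twelve points -/
def codod : List ℕ := [5, 7, 10, 11, 14, 15, 17, 19, 20, 21, 22, 23]

/-- the kernel facts about the side -/
def sideOK : Bool := LH.all fun p => (words tl).all fun w => codod.all fun i =>
  let v := pfx p.1 p.2 ++ w
  codod.contains (wimg v i) &&
    (sideL.contains (wimg v i) == (sideL.contains i == sideL.contains (wimg v 5)))

theorem sideOK_true : sideOK = true := by decide +kernel

/-- the sign of a truth value -/
def bsgn (b : Bool) : ℤ := if b then 1 else -1

theorem bsgn_beq (a b : Bool) : bsgn (a == b) = bsgn a * bsgn b := by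
  cases a <;> cases b <;> decide

/-- the contribution of one pair -/
def term (k : Bool) (p : ℕ × ℕ) (v : List ℕ) : ℤ :=
  if (wimg v p.1 == p.1 && wimg v p.2 == p.2) || (wimg v p.1 == p.2 && wimg v p.2 == p.1) then
    bsgn (if k then ((wimg v p.1 == p.1) ==
      ((sideL.map (wimg (pfx p.1 p.2))).contains (wimg v (wimg (pfx p.1 p.2) 5))))
    else wimg v p.1 == p.1)
  else 0

/-- the induced character on a word -/
def psiW (k : Bool) (v : List ℕ) : ℤ := (RH.map fun p => term k p v).sum

/-- the number of fixed points on a word -/
def fixW (v : List ℕ) : ℤ := (RK.map fun p => if wimg v p.1 == p.1 then 1 else 0).sum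

/-- the linear character on a word -/
def thW (k : Bool) (v : List ℕ) : ℤ :=
  bsgn (if k then ((wimg v 1 == 1) == sideL.contains (wimg v 5)) else wimg v 1 == 1)

/-- a sum over the stabiliser of the pair -/
def sumH (F : List ℕ → ℤ) : ℤ :=
  (LH.map fun p => ((words tl).map fun w => F (pfx p.1 p.2 ++ w)).sum).sum

/-- a sum over the stabiliser of the point -/
def sumK (F : List ℕ → ℤ) : ℤ :=
  (LK.map fun p => ((words tl).map fun w => F (pfx p.1 p.2 ++ w)).sum).sum

/-- a sum over one coset inside the stabiliser of the pair -/
def sumC (p : ℕ × ℕ) (F : List ℕ → ℤ) : ℤ := ((words tl).map fun w => F (pfx p.1 p.2 ++ w)).sum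

theorem sumH_split (F : List ℕ → ℤ) : sumH F = sumC (1, 2) F + sumC (2, 1) F := by
  simp [sumH, LH, sumC]

theorem norm_one_fst : sumC (1, 2) (fun v => thW false v * psiW false v) = 2160 := by decide +kernel

theorem norm_one_snd : sumC (2, 1) (fun v => thW false v * psiW false v) = 720 := by decide +kernel

theorem norm_one_sum : sumH (fun v => thW false v * psiW false v) = 2880 := by
  rw [sumH_split, norm_one_fst, norm_one_snd]
  norm_num

theorem norm_two_fst : sumC (1, 2) (fun v => thW true v * psiW true v) = 720 := by decide +kernel

theorem norm_two_snd : sumC (2, 1) (fun v => thW true v * psiW true v) = 720 := by decide +kernel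

theorem norm_two_sum : sumH (fun v => thW true v * psiW true v) = 1440 := by
  rw [sumH_split, norm_two_fst, norm_two_snd]
  norm_num

theorem cross_sum : sumH (fun v => thW false v * fixW v) = 1440 := by decide +kernel

theorem triv_sum : sumH (fun v => thW false v) = 0 := by decide +kernel

theorem fix_sum : sumK fixW = 15840 := by decide +kernel

end Cfsg.Agent.M12DegEdge55
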