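import Cfsg.Agent.Lib.GolayM24

/-!
The stabilizer of any dodecad in the code group is the Mathieu group of degree twelve.
-/

set_option autoImplicit false

open Cfsg
open scoped Pointwise

namespace Cfsg.Agent.M12DodecadBridge51

/-- The Mathieu group of degree twelve is every dodecad stabilizer. -/
theorem stab_equiv {d : Finset GolayPt} (hd : d ∈ dodecads) :
    Nonempty (↥Spor.M12 ≃* ↥(MulAction.stabilizer M24 d)) := by
  obtain ⟨g, hg, rfl⟩ := GolayM24.exists_smul_eq_dodecad hd
  refine ⟨{ toFun := fun x => ⟨⟨g * x.1 * g⁻¹, M24.mul_mem (M24.mul_mem hg x.2.1) (M24.inv_mem hg)⟩, ?_⟩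
            invFun := fun y => ⟨g⁻¹ * y.1.1 * g, M24.mul_mem (M24.mul_mem (M24.inv_mem hg) y.1.2) hg, ?_⟩
            left_inv := fun x => Subtype.ext ?_
            right_inv := fun y => Subtype.ext (Subtype.ext ?_)
            map_mul' := fun x y => Subtype.ext (Subtype.ext ?_) }⟩
  · have h : x.1 • Spor.squareDodecad = Spor.squareDodecad := x.2.2
    show (g * x.1 * g⁻¹) • g • Spor.squareDodecad = g • Spor.squareDodecad
    rw [smul_smul, inv_mul_cancel_right, mul_smul, h]
  · have h : y.1.1 • g • Spor.squareDodecad = g • Spor.squareDodecad := y.2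
    show (g⁻¹ * y.1.1 * g) • Spor.squareDodecad = Spor.squareDodecad
    rw [mul_smul, mul_smul, h, inv_smul_smul]
  · show g⁻¹ * (g * x.1 * g⁻¹) * g = x.1
    group
  · show g * (g⁻¹ * y.1.1 * g) * g⁻¹ = y.1.1
    group
  · show g * (x.1 * y.1) * g⁻¹ = g * x.1 * g⁻¹ * (g * y.1 * g⁻¹)
    group

end Cfsg.Agent.M12DodecadBridge51
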