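import Cfsg.Agent.S0887
import Cfsg.Agent.S1492
import Cfsg.Agent.S4429
import Cfsg.Agent.S0420
import Cfsg.Agent.S0387
import Cfsg.Agent.S0388
import Cfsg.Agent.S0228
import Cfsg.Agent.S2034
import Cfsg.Agent.Lib.GolayOutM11
import Cfsg.Agent.Lib.GolaySimple
import Cfsg.Agent.Lib.HallCore
import Cfsg.Agent.Lib.CharInducedClifford
import Cfsg.Agent.Lib.DegGraphSmallFacts81
import Cfsg.Agent.Lib.GolayM24
import Cfsg.Prelude.Def_Spor_Mathieu

/-!
Groups of order 95040 having character degrees divisible by 55 and by 33.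
-/

set_option autoImplicit false
set_option maxRecDepth 100000
set_option linter.unusedSectionVars false

namespace Cfsg.Agent.M12Graph23

open Cfsg CharBasic CharBasicOrth CharBasicDecomp CharBasicLinear CharInduced

universe u

/-! ### characters -/

theorem exists_deg {G : Type u} [Group G] [Finite G] (χ : IrrCharacter G) :
    0 < charDegree (χ : G → ℂ) ∧ (χ : G → ℂ) 1 = (charDegree (χ : G → ℂ) : ℂ) := by
  obtain ⟨n, hn, h, -⟩ := CharBasicInt.exists_apply_one_dvd_card χ.2
  have : charDegree (χ : G → ℂ) = n := by simp [charDegree, h]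
  exact ⟨this ▸ hn, this ▸ h⟩

/-- A divisor prime to the index passes to a constituent of the restriction. -/
theorem exists_below {G : Type u} [Group G] [Fintype G] (χ : IrrCharacter G) (N : Subgroup G)
    [N.Normal] [Fintype N] {k : ℕ} (hk : k ∣ charDegree (χ : G → ℂ)) (hco : Nat.Coprime k N.index) :
    ∃ θ : IrrCharacter N, classInner (fun n : N => (χ : G → ℂ) n) (θ : N → ℂ) ≠ 0 ∧
      k ∣ charDegree (θ : N → ℂ) ∧
      charDegree (χ : G → ℂ) / charDegree (θ : N → ℂ) ∣ N.index ∧
      charDegree (θ : N → ℂ) ∣ charDegree (χ : G → ℂ) := by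
  obtain ⟨hpos, h1⟩ := exists_deg χ
  have hne : (fun n : N => (χ : G → ℂ) n) ≠ 0 := fun h0 => by
    have := congrFun h0 1
    simp only [OneMemClass.coe_one, Pi.zero_apply, h1, Nat.cast_eq_zero] at this
    omega
  obtain ⟨θ, hθ, hne'⟩ := CharInduced.exists_constituent
    (isCharacter_res N (isCharacter_of_isIrrCharacter χ.2)) hne
  obtain ⟨hd, hq⟩ := S0887.result N _ χ.2 θ hθ hne' _ (charDegree θ) h1 (exists_deg ⟨θ, hθ⟩).2
  refine ⟨⟨θ, hθ⟩, hne', ?_, hq, hd⟩
  have hco' : Nat.Coprime k (charDegree (χ : G → ℂ) / charDegree θ) := hco.coprime_dvd_right hq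
  refine hco'.dvd_of_dvd_mul_right ?_
  rw [mul_comm, Nat.div_mul_cancel hd]
  exact hk

/-- The square of a degree is at most the index of the centre. -/
theorem sq_mul_center_le {G : Type u} [Group G] [Finite G] (χ : IrrCharacter G) :
    charDegree (χ : G → ℂ) ^ 2 * Nat.card (Subgroup.center G) ≤ Nat.card G := by
  have h := S1492.result (χ : G → ℂ) χ.2 ⊥ ⊤ (Subgroup.center G) bot_le le_top
    (fun c _ b hb => by rw [Subgroup.mem_bot.1 hb]; simp)
    (fun d hd c _ => by
      rw [Subgroup.mem_center_iff] at hd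
      simp [← hd c, mul_assoc])
    (fun b hb => by rw [Subgroup.mem_bot.1 hb])
  rw [(exists_deg χ).2, Complex.norm_natCast, Subgroup.card_top] at h
  have hG : (0 : ℝ) < Nat.card G := Nat.cast_pos.2 Nat.card_pos
  have h' : ((charDegree (χ : G → ℂ) ^ 2 * Nat.card (Subgroup.center G) : ℕ) : ℝ) ≤ Nat.card G := by
    push_cast
    nlinarith
  exact_mod_cast h'

/-- If the restriction to a normal subgroup is a multiple of one constituent, the square of the
multiplicity is at most the index. -/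
theorem sq_le_index {G : Type u} [Group G] [Fintype G] (N : Subgroup G) [Fintype N] {χ : G → ℂ}
    {θ : N → ℂ} (hχ : IsIrrCharacter G χ) (hθ : IsIrrCharacter N θ) (e : ℕ)
    (h : (fun n : N => χ n) = (e : ℂ) • θ) : e ^ 2 ≤ N.index := by
  have hN := congrArg Complex.re (classInner_irr_self hθ)
  have hG := congrArg Complex.re (classInner_irr_self hχ)
  simp only [Complex.one_re, classInner_self_re] at hN hG
  rw [inv_mul_eq_one₀ (Nat.cast_ne_zero.2 Nat.card_pos.ne')] at hN hG
  have hle : ∑ n : N, ‖χ n‖ ^ 2 ≤ ∑ g : G, ‖χ g‖ ^ 2 := by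
    classical
    refine le_of_eq_of_le (Finset.sum_map Finset.univ (Function.Embedding.subtype _) (fun g => ‖χ g‖ ^ 2)).symm ?_
    exact Finset.sum_le_sum_of_subset_of_nonneg (Finset.subset_univ _) fun g _ _ => sq_nonneg _
  have hval : ∀ n : N, ‖χ n‖ ^ 2 = (e : ℝ) ^ 2 * ‖θ n‖ ^ 2 := fun n => by
    rw [show χ n = (e : ℂ) * θ n from congrFun h n, norm_mul, Complex.norm_natCast, mul_pow]
  simp only [hval, ← Finset.mul_sum] at hle
  rw [← hN, ← hG, ← N.index_mul_card, Nat.cast_mul] at hle
  have hNpos : (0 : ℝ) < Nat.card N := Nat.cast_pos.2 Nat.card_pos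
  have : ((e : ℝ) ^ 2) ≤ (N.index : ℝ) := le_of_mul_le_mul_right hle hNpos
  exact_mod_cast this

/-! ### an element of order eleven centralises small normal subgroups -/

theorem two_three_five {q a f : ℕ} (h : q = 2 ∧ a ≤ 6 ∨ q = 3 ∧ a ≤ 3 ∨ q = 5 ∧ a ≤ 1) (hf : f ≤ a)
    (hc : q ^ a ≡ q ^ f [MOD 11]) : a = f := by
  rcases h with ⟨rfl, ha⟩ | ⟨rfl, ha⟩ | ⟨rfl, ha⟩ <;> interval_cases a <;> interval_cases f <;>
    first | rfl | (exfalso; revert hc; decide)

theorem centralizes {K : Type u} [Group K] [Finite K] (P : Subgroup K) (hP : Nat.card P = 11)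
    (M : Subgroup K) [M.Normal] (hM : Nat.card M ∣ 8640) :
    ∀ x ∈ P, ∀ y ∈ M, x * y = y * x := by
  haveI : Fact (Nat.Prime 11) := ⟨by norm_num⟩
  have hPg : IsPGroup 11 P := IsPGroup.of_card (n := 1) (by rw [hP, pow_one])
  let φ : P →* MulAut M := (MulAut.conjNormal).comp P.subtype
  let F : Subgroup M :=
    { carrier := {y | ∀ x : P, φ x y = y}
      one_mem' := fun x => map_one _
      mul_mem' := fun {a b} ha hb x => by rw [map_mul, ha x, hb x]
      inv_mem' := fun {a} ha x => by rw [map_inv, ha x] }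
  suffices hF : F = ⊤ by
    intro x hx y hy
    have h : (⟨y, hy⟩ : M) ∈ F := hF ▸ Subgroup.mem_top _
    have := congrArg Subtype.val (h ⟨x, hx⟩)
    simp only [φ, MonoidHom.comp_apply, Subgroup.coe_subtype, MulAut.conjNormal_apply] at this
    exact mul_inv_eq_iff_eq_mul.1 this
  rw [← Subgroup.index_eq_one]
  by_contra hne
  obtain ⟨q, hq, hqd⟩ := Nat.exists_prime_and_dvd hne
  haveI : Fact q.Prime := ⟨hq⟩
  have hqM : q ∣ Nat.card M := hqd.trans F.index_dvd_card
  have h11 : ¬ 11 ∣ Nat.card M := fun h => by have := h.trans hM; norm_num at this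
  letI : MulDistribMulAction P M := MulDistribMulAction.compHom M φ
  have hndvd : ¬ 11 ∣ Nat.card (Sylow q M) := fun h =>
    h11 (h.trans ((Sylow.card_dvd_index (default : Sylow q M)).trans (Subgroup.index_dvd_card _)))
  obtain ⟨S, hS⟩ := hPg.nonempty_fixed_point_of_prime_not_dvd_card (Sylow q M) hndvd
  have hSinv : ∀ (x : P), ∀ y ∈ (S : Subgroup M), φ x y ∈ (S : Subgroup M) := fun x y hy => by
    have h := congrArg (fun T : Sylow q M => (T : Subgroup M)) (hS x)
    simp only [Sylow.pointwise_smul_def] at h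
    rw [← h]
    exact Subgroup.smul_mem_pointwise_smul y x _ hy
  letI : MulAction P ↥(S : Subgroup M) :=
    { smul := fun x y => ⟨φ x y, hSinv x y y.2⟩
      one_smul := fun y => Subtype.ext (by show φ 1 (y : M) = y; rw [map_one]; rfl)
      mul_smul := fun a b y => Subtype.ext (by
        show φ (a * b) (y : M) = φ a (φ b y); rw [map_mul]; rfl) }
  have hmod := hPg.card_modEq_card_fixedPoints (↥(S : Subgroup M))
  have hfix : Nat.card (MulAction.fixedPoints P ↥(S : Subgroup M)) =
      Nat.card ↥((S : Subgroup M) ⊓ F) :=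
    Nat.card_congr
      { toFun := fun y => ⟨y.1.1, y.1.2, fun x => congrArg Subtype.val (y.2 x)⟩
        invFun := fun y => ⟨⟨y.1, y.2.1⟩, fun x => Subtype.ext (y.2.2 x)⟩
        left_inv := fun y => rfl
        right_inv := fun y => rfl }
  rw [hfix] at hmod
  obtain ⟨a, ha⟩ := IsPGroup.iff_card.1 S.2
  obtain ⟨f, hfa, hf⟩ := (Nat.dvd_prime_pow hq).1 (ha ▸ Subgroup.card_dvd_of_le
    (inf_le_left : (S : Subgroup M) ⊓ F ≤ S))
  rw [ha, hf] at hmod
  have hqa : q ^ a ∣ 8640 := ha ▸ (Subgroup.card_subgroup_dvd_card _).trans hM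
  have hcases : q = 2 ∧ a ≤ 6 ∨ q = 3 ∧ a ≤ 3 ∨ q = 5 ∧ a ≤ 1 := by
    have h : q ∣ 2 ^ 6 * (3 ^ 3 * 5) := hqM.trans hM
    rcases hq.dvd_mul.1 h with h | h
    · obtain rfl := (Nat.prime_dvd_prime_iff_eq hq Nat.prime_two).1 (hq.dvd_of_dvd_pow h)
      refine Or.inl ⟨rfl, ?_⟩
      by_contra hlt
      have := (pow_dvd_pow 2 (by omega : 7 ≤ a)).trans hqa
      norm_num at this
    rcases hq.dvd_mul.1 h with h | h
    · obtain rfl := (Nat.prime_dvd_prime_iff_eq hq Nat.prime_three).1 (hq.dvd_of_dvd_pow h)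
      refine Or.inr (Or.inl ⟨rfl, ?_⟩)
      by_contra hlt
      have := (pow_dvd_pow 3 (by omega : 4 ≤ a)).trans hqa
      norm_num at this
    · obtain rfl := (Nat.prime_dvd_prime_iff_eq hq (by norm_num)).1 h
      refine Or.inr (Or.inr ⟨rfl, ?_⟩)
      by_contra hlt
      have := (pow_dvd_pow 5 (by omega : 2 ≤ a)).trans hqa
      norm_num at this
  have haf := two_three_five hcases hfa hmod
  have hSF : (S : Subgroup M) ≤ F :=
    inf_eq_left.1 (Subgroup.eq_of_le_of_card_ge inf_le_left (by rw [hf, ha, haf]))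
  exact S.not_dvd_index (hqd.trans (Subgroup.index_dvd_of_le hSF))

/-! ### the structure -/

/-- The alternating group of degree four from a group of order twelve without normal Sylow 3-subgroup. -/
theorem alt_four {C : Type u} [Group C] [Finite C] (hC : Nat.card C = 12)
    (hn : ∀ Q : Sylow 3 C, ¬ (Q : Subgroup C).Normal) : Nonempty (C ≃* alternatingGroup (Fin 4)) := by
  haveI : Fact (Nat.Prime 3) := ⟨Nat.prime_three⟩
  refine S0228.result hC fun z hz hzc => ?_
  obtain ⟨Q⟩ : Nonempty (Sylow 3 C) := inferInstance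
  have hQ : Nat.card ↥(Q : Subgroup C) = 3 :=
    SimpleOrderCheck.sylow_card_of_once (by rw [hC]) (by rw [hC]; decide) Q
  have h4 : (Subgroup.normalizer ((Q : Subgroup C) : Set C)).index ≠ 1 := fun h =>
    hn Q (Subgroup.normalizer_eq_top_iff.1 (Subgroup.index_eq_one.1 h))
  have hcn : Nat.card (Sylow 3 C) = (Subgroup.normalizer ((Q : Subgroup C) : Set C)).index :=
    Sylow.card_eq_index_normalizer Q
  have hd : (Subgroup.normalizer ((Q : Subgroup C) : Set C)).index ∣ 4 := by
    rw [← hcn]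
    have h := Sylow.card_dvd_index Q
    have e := (Q : Subgroup C).card_mul_index
    rw [hQ, hC] at e
    rwa [show (Q : Subgroup C).index = 4 by omega] at h
  have hmod := card_sylow_modEq_one 3 C
  rw [hcn] at hmod
  have h4' : (Subgroup.normalizer ((Q : Subgroup C) : Set C)).index = 4 := by
    have := Nat.le_of_dvd (by norm_num) hd
    unfold Nat.ModEq at hmod
    omega
  have hN := (Subgroup.normalizer ((Q : Subgroup C) : Set C)).card_mul_index
  rw [h4', hC] at hN
  have hzN : z ∈ Subgroup.normalizer ((Q : Subgroup C) : Set C) :=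
    Subgroup.center_le_normalizer _ hzc
  have := Subgroup.orderOf_dvd_natCard _ hzN
  rw [hz, show Nat.card ↥(Subgroup.normalizer ((Q : Subgroup C) : Set C)) = 3 by omega] at this
  norm_num at this

variable {G : Type u} [Group G] [Finite G]

/-- The two consequences of the degree graph. -/
structure Degs (G : Type u) [Group G] : Prop where
  fiftyfive : ∃ χ : IrrCharacter G, 55 ∣ charDegree (χ : G → ℂ)
  thirtythree : ∃ χ : IrrCharacter G, 33 ∣ charDegree (χ : G → ℂ)

theorem coprime_of_dvd {i n : ℕ} (h : i ∣ n) (k : ℕ) (hk : Nat.Coprime k n) : Nat.Coprime k i :=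
  hk.coprime_dvd_right h

theorem eleven_not_dvd_index (hG : Nat.card G = 95040) {K : Subgroup G} (h : 11 ∣ Nat.card K) :
    K.index ∣ 8640 := by
  have e := K.card_mul_index
  obtain ⟨j, hj⟩ := h
  rw [hG, hj] at e
  exact ⟨j, by nlinarith [e]⟩

/-- A minimal normal subgroup of order divisible by eleven. -/
theorem exists_minimal_normal (hG : Nat.card G = 95040) : ∃ K : Subgroup G, K.Normal ∧ 11 ∣ Nat.card K ∧
    ∀ L : Subgroup G, L.Normal → L ≤ K → 11 ∣ Nat.card L → L = K := by
  classical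
  have h : ∃ n, ∃ K : Subgroup G, K.Normal ∧ 11 ∣ Nat.card K ∧ Nat.card K = n :=
    ⟨_, ⊤, inferInstance, by rw [Subgroup.card_top, hG]; norm_num, rfl⟩
  obtain ⟨K, hK, h11, hc⟩ := Nat.find_spec h
  exact ⟨K, hK, h11, fun L hL hle hd => Subgroup.eq_of_le_of_card_ge hle
    (hc ▸ Nat.find_min' h ⟨L, hL, hd, rfl⟩)⟩

/-- The case of a section of order 7920. -/
theorem case_eleven (hG : Nat.card G = 95040) {χ : IrrCharacter G} (h33 : 33 ∣ charDegree (χ : G → ℂ))
    {K : Subgroup G} [K.Normal] {O : Subgroup K} [O.Normal]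
    (dich : ∀ L : Subgroup K, L.Normal → L = ⊤ ∨ L ≤ O) (hperf : commutator K = ⊤)
    (hcent : O ≤ Subgroup.center K) [IsSimpleGroup (K ⧸ O)] (h : Nat.card (K ⧸ O) = 7920) :
    Nonempty (G ≃* alternatingGroup (Fin 4) × ↥Cfsg.Spor.M11) := by
  classical
  haveI : Fintype G := Fintype.ofFinite G
  haveI : Fact (Nat.Prime 3) := ⟨Nat.prime_three⟩
  haveI := GolaySimple.isSimpleGroup_M11
  have hd := GolayM24.squareDodecad_mem
  obtain ⟨p, hp⟩ : Cfsg.Spor.squareDodecad.Nonempty := ⟨(some 0 : GolayPt), by decide +kernel⟩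
  obtain ⟨e1⟩ := S0420.result (G := K ⧸ O) ⟨inferInstance, h⟩ _ hd p hp
  obtain ⟨e2⟩ := S0420.result (G := ↥Cfsg.Spor.M11) ⟨inferInstance, GolayM24.card_M11⟩ _ hd p hp
  let σ : K →* ↥Cfsg.Spor.M11 := (e1.trans e2.symm).toMonoidHom.comp (QuotientGroup.mk' O)
  have hσ : Function.Surjective σ := (e1.trans e2.symm).surjective.comp (QuotientGroup.mk'_surjective O)
  have hker : σ.ker = O := by
    ext x
    simp [σ, MonoidHom.mem_ker, QuotientGroup.eq_one_iff]
  let ε : Shrink.{0} K ≃* K := Shrink.mulEquiv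
  haveI : Finite (Shrink.{0} K) := Finite.of_equiv K ε.symm.toEquiv
  let σ' : Shrink.{0} K →* ↥Cfsg.Spor.M11 := σ.comp ε.toMonoidHom
  have hcent' : σ'.ker ≤ Subgroup.center (Shrink.{0} K) := by
    intro y hy
    have h1 : ε y ∈ Subgroup.center K := hcent (hker ▸ (hy : ε y ∈ σ.ker))
    rw [Subgroup.mem_center_iff] at h1 ⊢
    exact fun g => ε.injective (by rw [map_mul, map_mul]; exact h1 (ε g))
  have hperf' : commutator (Shrink.{0} K) = ⊤ := by
    rw [← top_le_iff, ← Subgroup.map_top_of_surjective ε.symm.toMonoidHom ε.symm.surjective,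
      ← hperf, commutator_def, commutator_def, Subgroup.map_commutator]
    exact Subgroup.commutator_mono le_top le_top
  obtain ⟨π, hπ⟩ := S2034.result.2 (Shrink.{0} K) σ' ⟨hσ.comp ε.surjective, hcent', hperf' ▸ le_top⟩
  have hbot : σ.ker = ⊥ := by
    haveI : Subsingleton (Multiplicative (ZMod 1)) := inferInstanceAs (Subsingleton (ZMod 1))
    haveI : Subsingleton σ'.ker := hπ.subsingleton
    rw [Subgroup.eq_bot_iff_forall]
    intro x hx
    have h1 : ε.symm x ∈ σ'.ker := by simpa [σ', MonoidHom.mem_ker] using hx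
    have h2 := congrArg Subtype.val (Subsingleton.elim (⟨_, h1⟩ : σ'.ker) 1)
    exact ε.symm.injective (h2.trans (map_one ε.symm).symm)
  let eM : K ≃* ↥Cfsg.Spor.M11 := MulEquiv.ofBijective σ ⟨(MonoidHom.ker_eq_bot_iff σ).1 hbot, hσ⟩
  have hK : Nat.card K = 7920 := (Nat.card_congr eM.toEquiv).trans GolayM24.card_M11
  haveI hKs : IsSimpleGroup K := eM.isSimpleGroup
  have hKnc : ¬ IsMulCommutative K := SimpleOrder.not_comm_of_not_prime (by rw [hK]; norm_num)
  have hZ : Subgroup.center K = ⊥ := by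
    rcases (inferInstance : (Subgroup.center K).Normal).eq_bot_or_eq_top with h0 | h0
    · exact h0
    · exact absurd ⟨⟨fun a b => (Subgroup.mem_center_iff.1 (h0 ▸ Subgroup.mem_top b : b ∈ Subgroup.center K) a)⟩⟩ hKnc
  -- every automorphism is inner
  have hinn : ∀ f : MulAut K, ∃ k : K, f = MulAut.conj k := by
    intro f
    have hsub : Subsingleton (Cfsg.Out ↥Cfsg.Spor.M11) :=
      (Nat.card_eq_one_iff_unique.1 GolayOutM11.card_out).1
    have hmem : (MulAut.congr eM f) ∈ Cfsg.Inn ↥Cfsg.Spor.M11 :=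
      (QuotientGroup.eq_one_iff _).1 (Subsingleton.elim _ _)
    obtain ⟨k, hk⟩ := hmem
    refine ⟨eM.symm k, MulEquiv.ext fun x => eM.injective ?_⟩
    have := DFunLike.congr_fun hk (eM x)
    simp only [MulAut.conj_apply, MulAut.congr, MulEquiv.coe_mk, Equiv.coe_fn_mk,
      MulEquiv.trans_apply, MulEquiv.symm_apply_apply] at this
    simp only [MulAut.conj_apply, map_mul, map_inv, MulEquiv.apply_symm_apply]
    exact this.symm
  set C := Subgroup.centralizer (K : Set G) with hCdef
  have hKC : ∀ (k : K) (c : C), (k : G) * c = c * k := fun k c =>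
    Subgroup.mem_centralizer_iff.1 c.2 k k.2
  let Φ : K × C →* G := MonoidHom.noncommCoprod K.subtype C.subtype fun k c =>
    (show Commute (K.subtype k) (C.subtype c) from hKC k c)
  have hΦ : Function.Bijective Φ := by
    constructor
    · rw [injective_iff_map_eq_one]
      rintro ⟨k, c⟩ hkc
      simp only [Φ, MonoidHom.noncommCoprod_apply, Subgroup.coe_subtype] at hkc
      have hkz : k ∈ Subgroup.center K := by
        rw [Subgroup.mem_center_iff]
        intro a
        refine Subtype.ext ?_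
        have hk : (k : G) = ((c : G))⁻¹ := eq_inv_of_mul_eq_one_left hkc
        simp only [Subgroup.coe_mul, hk]
        exact (Commute.inv_right (show Commute (a : G) c from hKC a c)).eq
      rw [hZ, Subgroup.mem_bot] at hkz
      rw [hkz, OneMemClass.coe_one, one_mul] at hkc
      exact Prod.ext hkz (Subtype.ext hkc)
    · intro g
      obtain ⟨k, hk⟩ := hinn (MulAut.conjNormal g)
      have hc : (k : G)⁻¹ * g ∈ C := by
        rw [hCdef, Subgroup.mem_centralizer_iff]
        intro x hx
        have h1 := congrArg Subtype.val (DFunLike.congr_fun hk ⟨x, hx⟩)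
        simp only [MulAut.conjNormal_apply, MulAut.conj_apply, Subgroup.coe_mul, Subgroup.coe_inv] at h1
        calc x * ((k : G)⁻¹ * g) = (k : G)⁻¹ * ((k : G) * x * (k : G)⁻¹) * g := by group
          _ = (k : G)⁻¹ * g * x := by rw [← h1]; group
      exact ⟨(k, ⟨_, hc⟩), by simp [Φ]⟩
  let e : G ≃* K × C := (MulEquiv.ofBijective Φ hΦ).symm
  have hC : Nat.card C = 12 := by
    have h1 := Nat.card_congr e.toEquiv
    rw [Nat.card_prod, hK, hG] at h1
    omega
  have hn : ∀ Q : Sylow 3 C, ¬ (Q : Subgroup C).Normal := by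
    intro Q hQn
    have hQ : Nat.card ↥(Q : Subgroup C) = 3 :=
      SimpleOrderCheck.sylow_card_of_once (by rw [hC]) (by rw [hC]; decide) Q
    let N : Subgroup G := ((⊤ : Subgroup K).prod (Q : Subgroup C)).comap e.toMonoidHom
    haveI : ((⊤ : Subgroup K).prod (Q : Subgroup C)).Normal := Subgroup.prod_normal _ _
    haveI : N.Normal := Subgroup.Normal.comap inferInstance _
    have hNi : N.index = 4 := by
      rw [Subgroup.index_comap_of_surjective _ e.surjective, Subgroup.index_prod, Subgroup.index_top,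
        one_mul]
      have := (Q : Subgroup C).card_mul_index
      rw [hQ, hC] at this
      omega
    haveI : Fintype N := Fintype.ofFinite N
    obtain ⟨θ', -, hθ', -, -⟩ := exists_below χ N h33 (by rw [hNi]; norm_num)
    let K' : Subgroup N := K.subgroupOf N
    have hKN : K ≤ N := fun k hk => by
      have : e k = (⟨k, hk⟩, 1) := by
        rw [← e.symm.injective.eq_iff, MulEquiv.symm_apply_apply]
        simp [e, Φ]
      simp [N, Subgroup.mem_comap, this, Subgroup.mem_prod, one_mem]
    let eK' : K' ≃* K := Subgroup.subgroupOfEquivOfLe hKN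
    have hK' : Nat.card K' = 7920 := (Nat.card_congr eK'.toEquiv).trans hK
    haveI : IsSimpleGroup K' := eK'.isSimpleGroup
    haveI : Fintype K' := Fintype.ofFinite K'
    have hK'i : K'.index = 3 := by
      have h1 := K'.card_mul_index
      have h2 := N.card_mul_index
      rw [hK'] at h1
      rw [hG, hNi] at h2
      omega
    obtain ⟨θ, hne, hθ, hq, hdd⟩ := exists_below θ' K' ((by norm_num : 11 ∣ 33).trans hθ')
      (by rw [hK'i]; norm_num)
    -- the constituent is invariant
    have hinv : orbitFin K' (θ : K' → ℂ) = {(θ : K' → ℂ)} := by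
      ext φ
      rw [mem_orbitFin, Finset.mem_singleton]
      refine ⟨?_, fun h => ⟨1, by rw [conjFun_one]; exact h.symm⟩⟩
      rintro ⟨n, rfl⟩
      obtain ⟨⟨k, c⟩, hkc⟩ := hΦ.2 (n : G)
      simp only [Φ, MonoidHom.noncommCoprod_apply, Subgroup.coe_subtype] at hkc
      funext y
      let k' : K' := ⟨⟨(k : G), hKN k.2⟩, k.2⟩
      have hy : (⟨(n : N) * y * (n : N)⁻¹, (inferInstance : K'.Normal).conj_mem y y.2 n⟩ : K') =
          k' * y * k'⁻¹ := by
        refine Subtype.ext (Subtype.ext ?_)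
        have hc : (c : G) * ((y : N) : G) * (c : G)⁻¹ = ((y : N) : G) := by
          rw [show (c : G) * ((y : N) : G) = ((y : N) : G) * (c : G) from (hKC ⟨_, y.2⟩ c).symm,
            mul_inv_cancel_right]
        simp only [Subgroup.coe_mul, Subgroup.coe_inv, k', ← hkc]
        calc (k : G) * c * ((y : N) : G) * ((k : G) * c)⁻¹
            = (k : G) * ((c : G) * ((y : N) : G) * (c : G)⁻¹) * (k : G)⁻¹ := by group
          _ = _ := by rw [hc]
      show (θ : K' → ℂ) _ = _
      rw [hy]
      exact isClassFunction_irr θ.2 y k'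
    have hres := CharInduced.clifford K' θ'.2 θ.2 hne
    rw [hinv, Finset.sum_singleton] at hres
    obtain ⟨m, hm⟩ := CharBasicOrth.classInner_isCharacter
      (isCharacter_res K' (isCharacter_of_isIrrCharacter θ'.2)) (isCharacter_of_isIrrCharacter θ.2)
    rw [hm] at hres
    have hsq := sq_le_index K' θ'.2 θ.2 m hres
    rw [hK'i] at hsq
    have hm1 : m ≤ 1 := by
      by_contra hlt
      have : 2 ^ 2 ≤ m ^ 2 := Nat.pow_le_pow_left (by omega) 2
      omega
    have h1 := congrFun hres 1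
    simp only [OneMemClass.coe_one, Pi.smul_apply, smul_eq_mul, (exists_deg θ).2, (exists_deg θ').2] at h1
    have h2 : charDegree (θ' : N → ℂ) = m * charDegree (θ : K' → ℂ) := by exact_mod_cast h1
    have hdeg := (S4429.result hK').2 (charDegree (θ : K' → ℂ))
    have hpos : 0 < Nat.card {χ : IrrCharacter K' // charDegree (χ : K' → ℂ) = charDegree (θ : K' → ℂ)} := by
      haveI := CharBasicOrth.finite_irrCharacter (G := K')
      haveI : Nonempty {χ : IrrCharacter K' // charDegree (χ : K' → ℂ) = charDegree (θ : K' → ℂ)} :=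
        ⟨⟨θ, rfl⟩⟩
      exact Nat.card_pos
    rw [hdeg] at hpos
    have hpos' := (exists_deg θ').1
    obtain rfl : m = 1 := by
      rcases Nat.eq_zero_or_pos m with h0 | h0
      · rw [h0, zero_mul] at h2; omega
      · omega
    rw [one_mul] at h2
    rw [h2] at hθ'
    obtain ⟨j, hj⟩ := hθ'
    split_ifs at hpos <;> omega
  obtain ⟨eC⟩ := alt_four hC hn
  exact ⟨e.trans ((eM.prodCongr eC).trans MulEquiv.prodComm)⟩

/-- The main theorem, with the recognition of simple groups of this order as a hypothesis. -/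
theorem iso_of_degs (hG : Nat.card G = 95040) (D : Degs G)
    (hord : ∀ (T : Type u) [Group T] [Finite T] [IsSimpleGroup T], 11 ∣ Nat.card T →
      Nat.card T ∣ 95040 → Nat.card T ≠ 11 → Nat.card T ∈ [660, 7920, 95040])
    (huniq : ∀ (H : Type u) [Group H] [Finite H] [IsSimpleGroup H], Nat.card H = 95040 →
      Nonempty (H ≃* ↥Cfsg.Spor.M12)) :
    Nonempty (G ≃* ↥Cfsg.Spor.M12) ∨ Nonempty (G ≃* alternatingGroup (Fin 4) × ↥Cfsg.Spor.M11) := by
  classical
  haveI : Fact (Nat.Prime 11) := ⟨by norm_num⟩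
  haveI : Fintype G := Fintype.ofFinite G
  obtain ⟨χ5, h55⟩ := D.fiftyfive
  obtain ⟨χ3, h33⟩ := D.thirtythree
  obtain ⟨K, hKn, h11, hmin⟩ := exists_minimal_normal hG
  haveI := hKn
  haveI : Fintype K := Fintype.ofFinite K
  have hidx : K.index ∣ 8640 := eleven_not_dvd_index hG h11
  have hK11 : ¬ 11 ∣ K.index := fun h => by have := h.trans hidx; norm_num at this
  have hKd : Nat.card K ∣ 95040 := hG ▸ Subgroup.card_subgroup_dvd_card K
  have h121 : ¬ 11 * 11 ∣ Nat.card K := fun h => by have := h.trans hKd; norm_num at this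
  set O := Cfsg.pPrimeCore 11 ↥K with hOdef
  haveI : O.Normal := HallCore.pPrimeCore_normal 11 _
  -- dichotomy for normal subgroups of K
  have dich : ∀ L : Subgroup K, L.Normal → L = ⊤ ∨ L ≤ O := by
    intro L hL
    by_cases hd : 11 ∣ Nat.card L
    swap
    · exact Or.inr (HallCore.le_pPrimeCore (((by norm_num : Nat.Prime 11).coprime_iff_not_dvd.2 hd).symm))
    left
    have hLi : ¬ 11 ∣ L.index := fun h => h121 (L.card_mul_index ▸ mul_dvd_mul hd h)
    have hall : ∀ x : K, orderOf x = 11 → x ∈ L := by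
      intro x hx
      have h1 : orderOf (x : K ⧸ L) ∣ 11 := hx ▸ orderOf_map_dvd (QuotientGroup.mk' L) x
      have h2 : orderOf (x : K ⧸ L) ∣ L.index := L.index_eq_card ▸ orderOf_dvd_natCard _
      rcases (Nat.dvd_prime (by norm_num)).1 h1 with h | h
      · exact (QuotientGroup.eq_one_iff x).1 (orderOf_eq_one_iff.1 h)
      · exact absurd (h ▸ h2) hLi
    obtain ⟨x, hx⟩ := exists_prime_orderOf_dvd_card' (G := L) 11 hd
    have hxK : orderOf (x : K) = 11 := by rw [Subgroup.orderOf_coe]; exact hx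
    set Lg := L.map K.subtype with hLg
    have hxc : ((x : K) : G) ∈ Lg.normalCore := by
      intro g
      have hgK : g * ((x : K) : G) * g⁻¹ ∈ K := hKn.conj_mem _ (x : K).2 g
      refine ⟨⟨_, hgK⟩, hall _ ?_, rfl⟩
      rw [Subgroup.orderOf_mk, ← MulAut.conj_apply, MulEquiv.orderOf_eq, Subgroup.orderOf_coe, hxK]
    have hcard : 11 ∣ Nat.card ↥Lg.normalCore := by
      have h := Subgroup.orderOf_dvd_natCard Lg.normalCore hxc
      rwa [Subgroup.orderOf_coe, hxK] at h
    have hcore := hmin Lg.normalCore inferInstance (Lg.normalCore_le.trans (Subgroup.map_subtype_le _)) hcard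
    rw [eq_top_iff]
    intro y _
    have : (y : G) ∈ Lg := Lg.normalCore_le (by rw [hcore]; exact y.2)
    obtain ⟨z, hz, e⟩ := this
    exact Subtype.ext e ▸ hz
  have hO11 : ¬ 11 ∣ Nat.card O := fun h => by
    have := Nat.Coprime.coprime_dvd_left h (HallCore.coprime_card_pPrimeCore 11 ↥K)
    norm_num at this
  have hO8640 : Nat.card O ∣ 8640 := by
    have h : Nat.card O ∣ 8640 * 11 := (Subgroup.card_subgroup_dvd_card O).trans hKd
    exact ((by norm_num : Nat.Prime 11).coprime_iff_not_dvd.2 hO11).symm.dvd_of_dvd_mul_right h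
  obtain ⟨x0, hx0⟩ := exists_prime_orderOf_dvd_card' (G := K) 11 h11
  have hx0O : x0 ∉ O := fun h => hO11 (hx0 ▸ Subgroup.orderOf_dvd_natCard O h)
  -- the core is central
  have hcent : O ≤ Subgroup.center K := by
    rcases dich (Subgroup.centralizer (O : Set K)) inferInstance with h | h
    · intro y hy
      rw [Subgroup.mem_center_iff]
      intro g
      exact (Subgroup.mem_centralizer_iff.1 (h ▸ Subgroup.mem_top g : g ∈ Subgroup.centralizer (O : Set K)) y hy).symm
    · refine absurd (h (Subgroup.mem_centralizer_iff.2 fun y hy => ?_)) hx0O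
      exact (centralizes (Subgroup.zpowers x0) (by rw [Nat.card_zpowers, hx0]) O hO8640 x0
        (Subgroup.mem_zpowers x0) y hy).symm
  -- the group is perfect
  have hperf : commutator K = ⊤ := by
    refine (dich _ inferInstance).resolve_right fun hle => ?_
    have hx0c : x0 ∈ Subgroup.center K := by
      rw [Subgroup.mem_center_iff]
      intro a
      have hz : a * x0 * a⁻¹ * x0⁻¹ ∈ O := hle (Subgroup.commutator_mem_commutator
        (Subgroup.mem_top a) (Subgroup.mem_top x0))
      set z := a * x0 * a⁻¹ * x0⁻¹ with hzdef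
      have hcz : Commute z x0 := (Subgroup.mem_center_iff.1 (hcent hz) x0).symm
      have hpow : z ^ 11 = 1 := by
        have h1 : (a * x0 * a⁻¹) ^ 11 = 1 := by
          rw [conj_pow, ← hx0, pow_orderOf_eq_one, mul_one, mul_inv_cancel]
        rw [show a * x0 * a⁻¹ = z * x0 by rw [hzdef, inv_mul_cancel_right], hcz.mul_pow,
          ← hx0, pow_orderOf_eq_one x0, mul_one, hx0] at h1
        exact h1
      have hz1 : z = 1 := by
        rcases (Nat.dvd_prime (by norm_num)).1 (orderOf_dvd_of_pow_eq_one hpow) with h | h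
        · exact orderOf_eq_one_iff.1 h
        · exact absurd (h ▸ Subgroup.orderOf_dvd_natCard O hz) hO11
      exact mul_inv_eq_iff_eq_mul.1 (mul_inv_eq_one.1 hz1)
    have htop : Subgroup.center K = ⊤ :=
      (dich _ inferInstance).resolve_right fun h => hx0O (h hx0c)
    have hno : 11 ∉ degreePrimes G := DegGraphSmall81.no_vertex K (fun a ha b hb => by
      have h := Subgroup.mem_center_iff.1 (htop ▸ Subgroup.mem_top (⟨b, hb⟩ : K) :
        (⟨b, hb⟩ : K) ∈ Subgroup.center K) ⟨a, ha⟩
      exact congrArg Subtype.val h) hK11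
    exact hno ⟨by norm_num, _, ⟨χ5, rfl⟩, (by norm_num : 11 ∣ 55).trans h55⟩
  -- the simple quotient
  have hT11 : 11 ∣ Nat.card (K ⧸ O) := by
    have e := O.card_mul_index
    rw [← Subgroup.index_eq_card]
    exact ((by norm_num : Nat.Prime 11).dvd_mul.1 (e ▸ h11)).resolve_left hO11
  haveI : Nontrivial (K ⧸ O) := Finite.one_lt_card_iff_nontrivial.1
    (lt_of_lt_of_le (by norm_num) (Nat.le_of_dvd Nat.card_pos hT11))
  haveI hsimp : IsSimpleGroup (K ⧸ O) := ⟨fun H hH => by
    rcases dich (H.comap (QuotientGroup.mk' O)) inferInstance with h | h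
    · exact Or.inr (by
        rw [← Subgroup.map_comap_eq_self_of_surjective (QuotientGroup.mk'_surjective O) H, h,
          Subgroup.map_top_of_surjective _ (QuotientGroup.mk'_surjective O)])
    · refine Or.inl (le_bot_iff.1 ?_)
      rw [← Subgroup.map_comap_eq_self_of_surjective (QuotientGroup.mk'_surjective O) H]
      refine (Subgroup.map_mono h).trans ?_
      rw [QuotientGroup.map_mk'_self]⟩
  have hTd : Nat.card (K ⧸ O) ∣ 95040 := (Subgroup.card_quotient_dvd_card O).trans hKd
  have hT1 : Nat.card (K ⧸ O) ≠ 11 := fun h => by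
    haveI := isCyclic_of_prime_card (α := K ⧸ O) h
    have hab : commutator K ≤ O := by
      rw [commutator_def, Subgroup.commutator_le]
      intro a _ b _
      rw [commutatorElement_def, ← QuotientGroup.eq_one_iff, QuotientGroup.mk_mul, QuotientGroup.mk_mul, QuotientGroup.mk_mul,
        QuotientGroup.mk_inv, QuotientGroup.mk_inv]
      have := (IsCyclic.commGroup (α := K ⧸ O)).mul_comm (a : K ⧸ O) (b : K ⧸ O)
      rw [this, mul_inv_cancel_right, mul_inv_cancel]
    exact hx0O (hab (hperf ▸ Subgroup.mem_top x0))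
  have eK := O.card_mul_index
  rw [Subgroup.index_eq_card O] at eK
  have eG := K.card_mul_index
  rw [hG] at eG
  have hsplit := hord (K ⧸ O) hT11 hTd hT1
  simp only [List.mem_cons, List.not_mem_nil, or_false] at hsplit
  rcases hsplit with h | h | h
  · -- the two-dimensional linear group
    exfalso
    rw [h] at eK
    have hco : Nat.Coprime 55 K.index := by
      have hd : K.index ∣ 144 := ⟨Nat.card O, by nlinarith [eK, eG]⟩
      exact (show Nat.Coprime 55 144 by norm_num).coprime_dvd_right hd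
    obtain ⟨θ, -, hθ, -, -⟩ := exists_below χ5 K h55 hco
    have h1 := sq_mul_center_le θ
    have h2 := Nat.le_of_dvd Nat.card_pos (Subgroup.card_dvd_of_le hcent)
    have h3 : 55 ≤ charDegree (θ : K → ℂ) := Nat.le_of_dvd (exists_deg θ).1 hθ
    have hOpos : 0 < Nat.card O := Nat.card_pos
    have h4 : 55 ^ 2 * Nat.card O ≤ Nat.card K := le_trans (Nat.mul_le_mul (Nat.pow_le_pow_left h3 2) h2) h1
    rw [← eK] at h4
    nlinarith
  · right
    exact case_eleven hG h33 dich hperf hcent h
  · left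
    rw [h] at eK
    have hO1 : Nat.card O = 1 := by
      have := Nat.le_of_dvd (by norm_num) hKd
      have : 0 < Nat.card O := Nat.card_pos
      nlinarith
    rw [hO1, one_mul] at eK
    have hKtop : K = ⊤ := Subgroup.eq_top_of_card_eq K (by rw [← eK, hG])
    have hObot : O = ⊥ := Subgroup.eq_bot_of_card_eq O hO1
    obtain ⟨e⟩ := huniq (K ⧸ O) h
    exact ⟨((Subgroup.topEquiv (G := G)).symm.trans ((MulEquiv.subgroupCongr hKtop).symm.trans
      ((QuotientGroup.quotientBot (G := K)).symm.trans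
        ((QuotientGroup.quotientMulEquivOfEq hObot.symm).trans e))))⟩

/-- Divisors of degrees pass along an equality of degree graphs. -/
theorem dvd_deg_of_graph {H : Type*} [Group H] (h : Cfsg.degreeGraph G = Cfsg.degreeGraph H) {p q : ℕ}
    (hp : p.Prime) (hq : q.Prime) (hpq : p ≠ q) (hex : ∃ χ : IrrCharacter H, p * q ∣ charDegree (χ : H → ℂ)) :
    ∃ χ : IrrCharacter G, p * q ∣ charDegree (χ : G → ℂ) := by
  obtain ⟨χ, hχ⟩ := hex
  have hadj : (Cfsg.degreeGraph H).Adj p q := ⟨hpq, hp, hq, _, ⟨χ, rfl⟩, hχ⟩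
  rw [← h] at hadj
  obtain ⟨-, -, -, d, ⟨ψ, rfl⟩, hd⟩ := hadj
  exact ⟨ψ, hd⟩

/-- The statement from the degrees of the Mathieu group, the list of orders and the uniqueness. -/
theorem iso_of_graph (hG : Nat.card G = Nat.card ↥Cfsg.Spor.M12)
    (hΔ : Cfsg.degreeGraph G = Cfsg.degreeGraph ↥Cfsg.Spor.M12)
    (h55 : ∃ χ : IrrCharacter ↥Cfsg.Spor.M12, 55 ∣ charDegree (χ : ↥Cfsg.Spor.M12 → ℂ))
    (h33 : ∃ χ : IrrCharacter ↥Cfsg.Spor.M12, 33 ∣ charDegree (χ : ↥Cfsg.Spor.M12 → ℂ))
    (hord : ∀ (T : Type u) [Group T] [Finite T] [IsSimpleGroup T], 11 ∣ Nat.card T →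
      Nat.card T ∣ 95040 → Nat.card T ≠ 11 → Nat.card T ∈ [660, 7920, 95040])
    (huniq : ∀ (H : Type u) [Group H] [Finite H] [IsSimpleGroup H], Nat.card H = 95040 →
      Nonempty (H ≃* ↥Cfsg.Spor.M12)) :
    Nonempty (G ≃* ↥Cfsg.Spor.M12) ∨ Nonempty (G ≃* alternatingGroup (Fin 4) × ↥Cfsg.Spor.M11) := by
  rw [GolayM24.card_M12] at hG
  exact iso_of_degs hG
    ⟨dvd_deg_of_graph hΔ (p := 5) (q := 11) (by norm_num) (by norm_num) (by norm_num) h55,
      dvd_deg_of_graph hΔ (p := 3) (q := 11) (by norm_num) (by norm_num) (by norm_num) h33⟩ hord huniq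

end Cfsg.Agent.M12Graph23
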