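import Cfsg.Agent.Lib.M12Inv51Frame

/-!
The possible actions of the second generator on the centralizer of the four group.
-/

set_option autoImplicit false
set_option maxRecDepth 100000
set_option Elab.async false

namespace Cfsg.Agent.M12Inv51

open Cfsg.Agent.M12Inv51Data

/-- Three generators of the centralizer of the four group. -/
def r3 (i : Nat) : Ix := ix (i + 1)

/-- Evaluate a word in three elements. -/
noncomputable def ev3 (a : Nat → Ix) (l : List Nat) : Ix := l.foldl (fun x i => mul x (a i)) 0

/-- The three images as a function. -/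
def tri (a0 a1 a2 : Ix) (i : Nat) : Ix := if i = 0 then a0 else if i = 1 then a1 else a2

/-- The map defined by three images. -/
noncomputable def img (a : Nat → Ix) (x : Ix) : Ix := ev3 a (w3.getD x.1 [])

/-- Involutions of the centralizer of the four group. -/
def invRI : List Ix := ixs invR

/-- Conditions on the images. -/
noncomputable def okA (a : Nat → Ix) : Bool :=
  img a zI == bzI && img a bI == bI && img a (a 0) == r3 0 && img a (a 1) == r3 1 &&
    img a (a 2) == r3 2 &&
    rI.all fun x => [0, 1, 2].all fun i => img a (mul x (r3 i)) == mul (img a x) (a i)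

/-- Conditions on the cube of the product with `t`. -/
noncomputable def okR (a : Nat → Ix) (r : Ix) : Bool :=
  img a r == inv r && cj tI r == inv r &&
    [0, 1, 2].all fun i => cj r (r3 i) ==
      cj tI (img a (cj tI (img a (cj tI (img a (r3 i))))))

/-- Candidates of the first kind. -/
def listA : List ((Ix × Ix × Ix) × Ix) :=
  candA.map fun e => ((ix e.1.1, ix e.1.2.1, ix e.1.2.2), ix e.2)

/-- Candidates of the second kind. -/
def listB : List ((Ix × Ix × Ix) × Ix × Bool × Ix × Ix) :=
  candB.map fun e => ((ix e.1.1, ix e.1.2.1, ix e.1.2.2), ix e.2.1, e.2.2.1, ix e.2.2.2.1,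
    ix e.2.2.2.2)

/-- Membership in the lists. -/
def known (a0 a1 a2 r : Ix) : Bool :=
  listA.elem ((a0, a1, a2), r) || listB.any fun e => e.1 == (a0, a1, a2) && e.2.1 == r

theorem classify_aux : ∀ a0 ∈ invRI, ∀ a1 ∈ invRI, ∀ a2 ∈ invRI,
    okA (tri a0 a1 a2) = true → ∀ r ∈ rI, okR (tri a0 a1 a2) r = true →
      known a0 a1 a2 r = true := by decide +kernel

theorem r3_mem : (∀ i : Nat, i < 3 → r3 i ∈ rI ∧ mul (r3 i) (r3 i) = 0 ∧ r3 i ≠ 0) := by
  decide +kernel

theorem w3_spec : ∀ x ∈ rI, ev3 r3 (w3.getD x.1 []) = x ∧ ∀ i ∈ w3.getD x.1 [], i < 3 := by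
  decide +kernel

theorem invRI_spec : ∀ x ∈ rI, mul x x = 0 → x ≠ 0 → x ∈ invRI := by decide +kernel

end Cfsg.Agent.M12Inv51
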