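import Cfsg.Agent.Lib.M12Inv51KindA
import Cfsg.Agent.S0111

/-!
The centralizer of the non-central involution: setting.
-/

set_option autoImplicit false
set_option maxRecDepth 100000
set_option synthInstance.maxSize 8000
set_option linter.unusedSectionVars false

namespace Cfsg.Agent.M12Inv51

open Cfsg.Agent.M12Inv51Data

/-- Action of `t n` on the centralizer of the four group. -/
noncomputable def alpha (x : Ix) : Ix := cj tI (beta0 x)

/-- The part of the centralizer of `u` inside the index two subgroup. -/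
def mE : List Ix := ixs [0, 1, 72, 66, 83, 36, 71, 47]

/-- The four group. -/
def e4 : List Ix := [0, zI, bI, bzI]

theorem mE_ok : subOK mE = true ∧ mE.length = 8 := by decide +kernel
theorem mE_facts : (∀ i ∈ mE, i ∈ tU ∧ i ∈ rI ∧ mul i i = 0 ∧ alpha i ∈ mE) ∧
    (∀ j ∈ tU, j ∈ mE ∨ mul tI j ∈ mE) ∧
    (∀ i ∈ mE, ∀ e ∈ e3, cj i e = e) ∧
    (∀ i ∈ mE, i = 0 ∨ i = uI ∨ i ∈ e3 ∨ mul i uI ∈ e3) := by decide +kernel
theorem mE_root : ∀ r ∈ mE, mul (mul (alpha r) (alpha (alpha r))) r = 0 →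
    ∃ e ∈ e4, r = mul (alpha (alpha e)) e := by decide +kernel
theorem e4_facts : ∀ e ∈ e4, e ∈ mE ∧ alpha e ∈ e4 ∧ mul e e = 0 ∧ (e ≠ 0 → e ∈ e3) ∧
    (∀ e' ∈ e4, mul e e' ∈ e4 ∧ (mul e e' = 0 → e = e')) := by decide +kernel
theorem alpha_move : ∀ e ∈ e4, e ≠ 0 → alpha e ≠ e ∧ mul (alpha e) e ≠ 0 := by decide +kernel
theorem blB_tU : ∀ i ∈ tU, i ∈ blB → i ∈ e3 := by decide +kernel
theorem e3_facts : ∀ i ∈ e3, i ∈ tU ∧ i ∈ blB ∧ i ∈ rI ∧ mul i i = 0 ∧ i ≠ 0 ∧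
    i ∈ mE ∧ i ∈ e4 ∧
    (∀ j ∈ e3, i ≠ j → mul i j ∈ e3) ∧ (∀ j ∈ tU, cj j i ∈ e3) := by decide +kernel
theorem t_facts : tI ∈ tU ∧ uI ∈ tU ∧ tI ≠ uI ∧ mul tI uI ∈ qaI ∧ comm tI uI = true ∧
    mul tI uI ∈ tU ∧ mul tI uI ≠ uI := by decide +kernel
theorem alpha_orbit : alpha zI = bI ∧ alpha bI = bzI ∧ alpha bzI = zI := by decide +kernel
theorem listB_two : (∀ j ∈ qaI, ∃ c, cj c uI = j) := qa_class

namespace NExt

variable {G : Type*} [Group G] [Finite G] {F : Frame G} (N : NExt F)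

/-- The element of order three normalising the four group. -/
def y : G := F.t * N.n

/-- The centralizer of `u`. -/
def X (N : NExt F) : Subgroup G := Subgroup.centralizer ({F.u} : Set G)

/-- The conjugates of `z` commuting with `u`. -/
def D (N : NExt F) (x : G) : Prop := IsConj F.z x ∧ Commute x F.u

theorem n_inv : N.n⁻¹ = N.n := inv_eq_of_mul_eq_one_right N.sq

theorem t_sq (N : NExt F) : F.t * F.t = 1 := by
  rw [Frame.t, ← F.map_mul, special_mul.2.2.2.2.2.2.2, F.map_one]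

theorem t_inv (N : NExt F) : F.t⁻¹ = F.t := inv_eq_of_mul_eq_one_right N.t_sq

theorem y_cube : N.y * N.y * N.y = 1 := N.cube

theorem y_inv : N.y⁻¹ = N.n * F.t := by rw [y, mul_inv_rev, N.n_inv, N.t_inv]

theorem t_y : F.t * N.y * F.t⁻¹ = N.y⁻¹ := by
  rw [N.y_inv, N.t_inv, y, ← mul_assoc, N.t_sq, one_mul]

theorem y_conj {i : Ix} (hi : i ∈ rI) : N.y * F.f i * N.y⁻¹ = F.f (alpha i) := by
  rw [alpha, F.map_cj, ← N.map i hi, y, Frame.t]; group

theorem mem_X {g : G} : g ∈ N.X ↔ g * F.u = F.u * g := Subgroup.mem_centralizer_singleton_iff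

theorem f_mem_X {i : Ix} (hi : i ∈ tU) : F.f i ∈ N.X :=
  N.mem_X.2 (F.commute_iff.2 ((tU_spec i).1 hi))

theorem exists_tU {g : G} (hg : g ∈ N.X) (hz : g * F.z = F.z * g) : ∃ i ∈ tU, F.f i = g := by
  obtain ⟨i, rfl⟩ := F.exists_of_commute hz
  exact ⟨i, (tU_spec i).2 (F.commute_iff.1 (N.mem_X.1 hg)), rfl⟩

theorem n_mem : N.n ∈ N.X := by
  refine N.mem_X.2 (mul_inv_eq_iff_eq_mul.1 ?_)
  rw [Frame.u, N.map uI special_mem.2.2.2.1, beta0_spec.1]

theorem y_mem : N.y ∈ N.X := N.X.mul_mem (N.f_mem_X t_facts.1) N.n_mem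

theorem y_ne_one : N.y ≠ 1 := by
  intro e
  have h := N.y_conj special_mem.1
  rw [e, one_mul, inv_one, mul_one, alpha_orbit.1, F.eq_iff] at h
  exact (classes_invol bI (Or.inl special_mem.2.2.2.2.2.2.1)).2.2 h.symm

theorem orderOf_y : orderOf N.y = 3 := by
  haveI : Fact (Nat.Prime 3) := ⟨Nat.prime_three⟩
  exact orderOf_eq_prime (by rw [pow_succ, pow_two]; exact N.y_cube) N.y_ne_one

theorem orderOf_u (N : NExt F) : orderOf F.u = 2 := Two.orderOf_u'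

theorem two [IsSimpleGroup G] (hG : ¬ IsMulCommutative G) (N : NExt F) : Two F blB alB where
  inZ := by
    intro i hi
    rcases List.mem_cons.1 hi with rfl | hi
    · exact IsConj.refl _
    · rcases List.mem_append.1 hi with hi | hi
      · exact (F.conj_z_b hG).trans (F.conj_qb hi)
      · exact N.fused.trans (F.conj_o hi)
  inU := fun i hi => F.conj_qa hi
  invol := listsB_invol
  cover := fun i => by
    rintro (h | h | h | h)
    · exact Or.inl (List.mem_cons.2 (Or.inl h))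
    · exact Or.inl (List.mem_cons.2 (Or.inr (List.mem_append.2 (Or.inl h))))
    · exact Or.inr h
    · exact Or.inl (List.mem_cons.2 (Or.inr (List.mem_append.2 (Or.inr h))))
  zmul := listsB_zmul

end NExt

/-- The setting: a normal form together with the two classes. -/
structure Setting {G : Type*} [Group G] (F : Frame G) extends NExt F where
  two : Two F blB alB

namespace Setting

variable {G : Type*} [Group G] [Finite G] {F : Frame G} (S : Setting F)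

theorem D_iff {x : G} : S.D x ↔ IsConj F.z x ∧ Commute x F.u := Iff.rfl

theorem D_mem {x : G} (hx : S.D x) : x ∈ S.X := S.mem_X.2 hx.2

theorem D_orderOf {x : G} (hx : S.D x) : orderOf x = 2 := by
  obtain ⟨g, rfl⟩ := isConj_iff.1 hx.1
  rw [SignalizerStrongEmb.orderOf_conj, F.orderOf_z]

theorem D_sq {x : G} (hx : S.D x) : x * x = 1 := sq_of_orderOf_two (S.D_orderOf hx)

theorem D_f {i : Ix} (hi : i ∈ e3) : S.D (F.f i) :=
  ⟨S.two.inZ i (e3_facts i hi).2.1, S.mem_X.1 (S.f_mem_X (e3_facts i hi).1)⟩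

theorem D_z : S.D F.z := S.D_f (List.mem_cons_self)

theorem D_conj {g x : G} (hg : g ∈ S.X) (hx : S.D x) : S.D (g * x * g⁻¹) :=
  ⟨hx.1.trans (isConj_conj g x),
    S.mem_X.1 (S.X.mul_mem (S.X.mul_mem hg (S.D_mem hx)) (S.X.inv_mem hg))⟩

theorem D_commute_z {x : G} (hx : S.D x) (hc : x * F.z = F.z * x) : ∃ i ∈ e3, F.f i = x := by
  obtain ⟨i, hi, rfl⟩ := S.exists_tU (S.D_mem hx) hc
  exact ⟨i, blB_tU i hi (S.two.mem_bl hx.1), rfl⟩

theorem D_transitive {x : G} (hx : S.D x) : ∃ g ∈ S.X, g * F.z * g⁻¹ = x := by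
  obtain ⟨g, rfl⟩ := isConj_iff.1 hx.1
  have h1 : g⁻¹ * F.u * g * F.z = F.z * (g⁻¹ * F.u * g) := by
    calc g⁻¹ * F.u * g * F.z = g⁻¹ * (F.u * (g * F.z * g⁻¹)) * g := by group
      _ = g⁻¹ * (g * F.z * g⁻¹ * F.u) * g := by rw [hx.2.eq]
      _ = _ := by group
  obtain ⟨j, hj⟩ := F.exists_of_commute h1
  have hju : IsConj F.u (F.f j) := hj ▸ (by simpa using isConj_conj g⁻¹ F.u)
  obtain ⟨c, hc⟩ := qa_class j (S.two.mem_al hju)
  have hcu : F.f c * F.u * (F.f c)⁻¹ = g⁻¹ * F.u * g := by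
    rw [Frame.u, ← F.map_cj, hc]; exact hj
  refine ⟨g * F.f c, S.mem_X.2 (mul_inv_eq_iff_eq_mul.1 ?_), ?_⟩
  · calc g * F.f c * F.u * (g * F.f c)⁻¹ = g * (F.f c * F.u * (F.f c)⁻¹) * g⁻¹ := by group
      _ = F.u := by rw [hcu]; group
  · calc g * F.f c * F.z * (g * F.f c)⁻¹ = g * (F.f c * F.z) * (F.f c)⁻¹ * g⁻¹ := by group
      _ = _ := by rw [F.commute_z]; group

theorem D_mul {x w : G} (hx : S.D x) (hw : S.D w) (hc : x * w = w * x) (hne : x ≠ w) :
    S.D (x * w) := by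
  obtain ⟨g, hg, rfl⟩ := S.D_transitive hx
  have hw' := S.D_conj (S.X.inv_mem hg) hw
  obtain ⟨i, hi, he⟩ := S.D_commute_z hw' (by
    calc g⁻¹ * w * g⁻¹⁻¹ * F.z = g⁻¹ * (w * (g * F.z * g⁻¹)) * g := by group
      _ = g⁻¹ * (g * F.z * g⁻¹ * w) * g := by rw [hc]
      _ = _ := by group)
  have hiz : zI ≠ i := fun e => hne (by
    rw [show F.z = F.f zI from rfl, e, he]; group)
  have hz3 : zI ∈ e3 := List.mem_cons_self
  have h := S.D_conj hg (S.D_f ((e3_facts zI hz3).2.2.2.2.2.2.2.1 i hi hiz))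
  rw [F.map_mul, he] at h
  rwa [show g * F.z * g⁻¹ * w = g * (F.f zI * (g⁻¹ * w * g⁻¹⁻¹)) * g⁻¹ by
    simp only [Frame.z]; group]

theorem e3_pow {e : Ix} (he : e ∈ e3) : ∃ k < 3, S.y ^ k * F.z * (S.y ^ k)⁻¹ = F.f e := by
  have h1 : S.y * F.z * S.y⁻¹ = F.f bI := by
    rw [Frame.z, S.y_conj special_mem.1, alpha_orbit.1]
  have h2 : S.y ^ 2 * F.z * (S.y ^ 2)⁻¹ = F.f bzI := by
    calc S.y ^ 2 * F.z * (S.y ^ 2)⁻¹ = S.y * (S.y * F.z * S.y⁻¹) * S.y⁻¹ := by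
          rw [pow_two]; group
      _ = _ := by rw [h1, S.y_conj special_mem.2.1, alpha_orbit.2.1]
  simp only [e3, List.mem_cons, List.not_mem_nil, or_false] at he
  rcases he with rfl | rfl | rfl
  · exact ⟨0, by norm_num, by simp [Frame.z]⟩
  · exact ⟨1, by norm_num, by rw [pow_one]; exact h1⟩
  · exact ⟨2, by norm_num, h2⟩

theorem D_commute_e3 {x : G} {e : Ix} (hx : S.D x) (he : e ∈ e3)
    (hc : x * F.f e = F.f e * x) : ∃ i ∈ e3, F.f i = x := by
  obtain ⟨k, -, hk⟩ := S.e3_pow he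
  have hy := S.X.pow_mem S.y_mem k
  obtain ⟨i, hi, hix⟩ := S.D_commute_z (S.D_conj (S.X.inv_mem hy) hx) (by
    rw [← hk] at hc
    calc (S.y ^ k)⁻¹ * x * (S.y ^ k)⁻¹⁻¹ * F.z
        = (S.y ^ k)⁻¹ * (x * (S.y ^ k * F.z * (S.y ^ k)⁻¹)) * S.y ^ k := by group
      _ = (S.y ^ k)⁻¹ * (S.y ^ k * F.z * (S.y ^ k)⁻¹ * x) * S.y ^ k := by rw [hc]
      _ = _ := by group)
  have step : ∀ (m : ℕ) {j : Ix}, j ∈ e3 → ∃ j' ∈ e3, S.y ^ m * F.f j * (S.y ^ m)⁻¹ = F.f j' := by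
    intro m
    induction m with
    | zero => exact fun {j} hj => ⟨j, hj, by simp⟩
    | succ m ih =>
      intro j hj
      obtain ⟨j', hj', e'⟩ := ih hj
      have : alpha j' ∈ e3 := by
        obtain ⟨a, b', c'⟩ := alpha_orbit
        simp only [e3, List.mem_cons, List.not_mem_nil, or_false] at hj' ⊢
        rcases hj' with rfl | rfl | rfl
        · exact Or.inr (Or.inl a)
        · exact Or.inr (Or.inr b')
        · exact Or.inl c'
      refine ⟨_, this, ?_⟩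
      rw [← S.y_conj (e3_facts j' hj').2.2.1, ← e', pow_succ']
      group
  obtain ⟨j, hj, he'⟩ := step k hi
  exact ⟨j, hj, by rw [← he', hix]; group⟩

theorem card_X : Nat.card S.X = 16 * Nat.card {x : G // S.D x} := by
  classical
  have hz : F.z ∈ S.X := S.D_mem S.D_z
  have h := card_class_mul (⟨F.z, hz⟩ : S.X)
  have hc : Nat.card (Subgroup.centralizer ({(⟨F.z, hz⟩ : S.X)} : Set S.X)) = 16 := by
    rw [← tU_ok.2, ← F.card_sub tU tU_ok.1]
    refine Nat.card_congr (Equiv.ofBijective (fun g => ⟨g.1.1, ?_⟩) ⟨fun a c e => ?_, ?_⟩)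
    · obtain ⟨i, hi, e⟩ := S.exists_tU g.1.2
        (congrArg Subtype.val (Subgroup.mem_centralizer_singleton_iff.1 g.2))
      exact ⟨i, hi, e⟩
    · exact Subtype.ext (Subtype.ext (congrArg (fun w => w.1) e))
    · rintro ⟨g, i, hi, rfl⟩
      exact ⟨⟨⟨F.f i, S.f_mem_X hi⟩, Subgroup.mem_centralizer_singleton_iff.2
        (Subtype.ext (F.commute_z i))⟩, rfl⟩
  have hd : Nat.card {x : S.X // IsConj (⟨F.z, hz⟩ : S.X) x} = Nat.card {x : G // S.D x} := by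
    refine Nat.card_congr (Equiv.ofBijective (fun g => ⟨g.1.1, ?_⟩) ⟨fun a c e => ?_, ?_⟩)
    · obtain ⟨c, hc⟩ := isConj_iff.1 g.2
      rw [← hc]
      exact S.D_conj c.2 S.D_z
    · exact Subtype.ext (Subtype.ext (congrArg (fun w => w.1) e))
    · rintro ⟨x, hx⟩
      obtain ⟨g, hg, e⟩ := S.D_transitive hx
      exact ⟨⟨⟨x, S.D_mem hx⟩, isConj_iff.2 ⟨⟨g, hg⟩, Subtype.ext e⟩⟩, rfl⟩
  rw [hc, hd, mul_comm] at h
  exact h.symm

/-- The Sylow 2-subgroup of the centralizer of `u`. -/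
noncomputable def sylX : Sylow 2 S.X :=
  haveI : Fact (Nat.Prime 2) := ⟨Nat.prime_two⟩
  Sylow.ofCard ((F.sub tU tU_ok.1).subgroupOf S.X) (by
    have hle : F.sub tU tU_ok.1 ≤ S.X := by
      rintro x ⟨m, hm, rfl⟩; exact S.f_mem_X hm
    have hcard : Nat.card ((F.sub tU tU_ok.1).subgroupOf S.X) = 16 := by
      rw [Nat.card_congr (Subgroup.subgroupOfEquivOfLe hle).toEquiv, F.card_sub, tU_ok.2]
    rw [hcard]
    have h16 : 2 ^ 4 ∣ Nat.card S.X := by
      have := Subgroup.card_subgroup_dvd_card ((F.sub tU tU_ok.1).subgroupOf S.X)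
      rwa [hcard] at this
    have h1 : 4 ≤ (Nat.card S.X).factorization 2 :=
      (Nat.prime_two.pow_dvd_iff_le_factorization Nat.card_pos.ne').1 h16
    have h2 : ¬ 5 ≤ (Nat.card S.X).factorization 2 := fun h =>
      F.not_dvd_32_u ((Nat.prime_two.pow_dvd_iff_le_factorization Nat.card_pos.ne').2 h)
    rw [show (Nat.card S.X).factorization 2 = 4 by omega]; rfl)

theorem mem_sylX {g : S.X} : g ∈ S.sylX ↔ ∃ i ∈ tU, F.f i = g.1 := Iff.rfl

/-- A 2-element of the centralizer is conjugate into the table. -/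
theorem exists_conj_tU {g : G} (hg : g ∈ S.X) {k : ℕ} (hk : g ^ 2 ^ k = 1) :
    ∃ c ∈ S.X, ∃ i ∈ tU, c * g * c⁻¹ = F.f i := by
  haveI : Fact (Nat.Prime 2) := ⟨Nat.prime_two⟩
  let g' : S.X := ⟨g, hg⟩
  have hp : IsPGroup 2 (Subgroup.zpowers g') := fun x => by
    obtain ⟨n, hn⟩ := x.2
    refine ⟨k, Subtype.ext ?_⟩
    show (x : S.X) ^ 2 ^ k = 1
    rw [← show g' ^ n = (x : S.X) from hn, ← zpow_natCast, ← zpow_mul, mul_comm, zpow_mul,
      zpow_natCast, show g' ^ 2 ^ k = 1 from Subtype.ext (by simpa using hk), one_zpow]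
  obtain ⟨Q, hQ⟩ := hp.exists_le_sylow
  obtain ⟨c, hc⟩ := MulAction.exists_smul_eq S.X Q S.sylX
  have hmem : c * g' * c⁻¹ ∈ S.sylX := by
    rw [← hc, Sylow.smul_def]
    exact Subgroup.smul_mem_pointwise_smul g' (MulAut.conj c) Q.toSubgroup
      (hQ (Subgroup.mem_zpowers g'))
  obtain ⟨i, hi, e⟩ := S.mem_sylX.1 hmem
  exact ⟨c.1, c.2, i, hi, e.symm⟩

end Setting

end Cfsg.Agent.M12Inv51
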