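import Cfsg.Agent.Lib.M12Inv51CentSign

/-!
The involutions of the centralizer and the cosets of the normalizer of the four group.
-/

set_option autoImplicit false
set_option maxRecDepth 100000
set_option synthInstance.maxSize 8000
set_option linter.unusedSectionVars false

namespace Cfsg.Agent.M12Inv51

open Cfsg.Agent.M12Inv51Data

/-- The images of `z` under the powers of `y`. -/
def ypt (k : Nat) : Ix := if k = 0 then zI else if k = 1 then bI else bzI
/-- The quotient of two elements of order three, first form. -/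
noncomputable def dl (e e' : Ix) : Ix := mul (mul e (alpha (mul e e'))) e'
/-- The quotient of two elements of order three, second form. -/
noncomputable def dl2 (e e' : Ix) : Ix := mul (mul e (alpha (alpha (mul e e')))) e'

theorem ypt_facts : (∀ k < 3, ypt k ∈ e3 ∧ alpha (ypt k) = ypt ((k + 1) % 3)) ∧
    (∀ k < 3, ∀ l < 3, ypt k = ypt l → k = l) ∧ (∀ e ∈ e3, ∃ k < 3, ypt k = e) := by
  decide +kernel

theorem dl_facts : ∀ e ∈ e4, ∀ e' ∈ e4, e ≠ e' →
    dl e e' ∈ e3 ∧ alpha (dl e e') ∈ e3 ∧ dl2 e e' ∈ e3 ∧ alpha (alpha (dl2 e e')) ∈ e3 ∧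
    (∀ a ∈ e3, a = dl e e' ∨ a = alpha (dl e e') ∨ a = mul (dl e e') (alpha (dl e e'))) ∧
    cj e (alpha (cj e (dl e e'))) = alpha (dl e e') ∧
    cj e (alpha (alpha (cj e (dl2 e e')))) = alpha (alpha (dl2 e e')) ∧
    mul (dl2 e e') (alpha (alpha (dl2 e e'))) ∈ e3 := by decide +kernel

theorem e4_len : e4.toFinset.card = 4 ∧ e3.toFinset.card = 3 := by decide +kernel

namespace Setting

variable {G : Type*} [Group G] [Finite G] {F : Frame G} (S : Setting F)

theorem ypow_z {k : ℕ} (hk : k < 3) : S.y ^ k * F.z * (S.y ^ k)⁻¹ = F.f (ypt k) := by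
  induction k with
  | zero => simp [ypt, Frame.z]
  | succ k ih =>
    have h := ih (by omega)
    obtain ⟨hm, ha⟩ := ypt_facts.1 k (by omega)
    rw [Nat.mod_eq_of_lt hk] at ha
    rw [pow_succ', ← ha, ← S.y_conj (e3_facts _ hm).2.2.1, ← h]
    group

theorem ypow_e3 (k : ℕ) {e : Ix} (he : e ∈ e3) :
    ∃ e' ∈ e3, S.y ^ k * F.f e * (S.y ^ k)⁻¹ = F.f e' := by
  induction k with
  | zero => exact ⟨e, he, by simp⟩
  | succ k ih =>
    obtain ⟨e', he', h⟩ := ih
    obtain ⟨l, hl, rfl⟩ := ypt_facts.2.2 e' he'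
    refine ⟨ypt ((l + 1) % 3), (ypt_facts.1 _ (Nat.mod_lt _ (by norm_num))).1, ?_⟩
    rw [← (ypt_facts.1 l hl).2, ← S.y_conj (e3_facts _ he').2.2.1, ← h, pow_succ']
    group

/-- The normalizer of the four group in the centralizer of `u`. -/
def H : Subgroup G where
  carrier := {g | g ∈ S.X ∧ ∀ e ∈ e3, ∃ e' ∈ e3, g * F.f e * g⁻¹ = F.f e'}
  one_mem' := ⟨S.X.one_mem, fun e he => ⟨e, he, by simp⟩⟩
  mul_mem' := by
    rintro a c ⟨ha, ha'⟩ ⟨hc, hc'⟩
    refine ⟨S.X.mul_mem ha hc, fun e he => ?_⟩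
    obtain ⟨e', he', h⟩ := hc' e he
    obtain ⟨e'', he'', h'⟩ := ha' e' he'
    exact ⟨e'', he'', by rw [← h', ← h]; group⟩
  inv_mem' := by
    rintro a ⟨ha, ha'⟩
    refine ⟨S.X.inv_mem ha, fun e he => ?_⟩
    let φ : {e // e ∈ e3} → {e // e ∈ e3} := fun i => ⟨(ha' i.1 i.2).choose, (ha' i.1 i.2).choose_spec.1⟩
    have hφ : Function.Injective φ := by
      intro i j hij
      have hi := (ha' i.1 i.2).choose_spec.2
      have hj := (ha' j.1 j.2).choose_spec.2
      have e := congrArg (fun w : {e // e ∈ e3} => F.f w.1) hij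
      rw [← hi, ← hj, mul_left_inj, mul_right_inj] at e
      exact Subtype.ext (F.inj e)
    obtain ⟨i, hi⟩ := Finite.injective_iff_surjective.1 hφ ⟨e, he⟩
    refine ⟨i.1, i.2, ?_⟩
    have h := (ha' i.1 i.2).choose_spec.2
    rw [show (ha' i.1 i.2).choose = e from congrArg Subtype.val hi] at h
    rw [← h]; group

theorem H_le : S.H ≤ S.X := fun _ h => h.1

theorem f_mem_H {i : Ix} (hi : i ∈ tU) : F.f i ∈ S.H :=
  ⟨S.f_mem_X hi, fun e he => ⟨cj i e, (e3_facts e he).2.2.2.2.2.2.2.2 i hi, (F.map_cj i e).symm⟩⟩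

theorem y_mem_H : S.y ∈ S.H :=
  ⟨S.y_mem, fun e he => by simpa using S.ypow_e3 1 he⟩

theorem H_cases {g : G} (hg : g ∈ S.H) : ∃ k < 3, ∃ i ∈ tU, g = S.y ^ k * F.f i := by
  obtain ⟨e, he, h⟩ := hg.2 zI List.mem_cons_self
  obtain ⟨k, hk, rfl⟩ := ypt_facts.2.2 e he
  rw [← S.ypow_z hk] at h
  obtain ⟨i, hi, hgi⟩ := S.exists_tU (g := (S.y ^ k)⁻¹ * g)
    (S.X.mul_mem (S.X.inv_mem (S.X.pow_mem S.y_mem k)) hg.1) (by
      calc (S.y ^ k)⁻¹ * g * F.z = (S.y ^ k)⁻¹ * (g * F.f zI * g⁻¹) * g := by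
            rw [Frame.z]; group
        _ = F.z * ((S.y ^ k)⁻¹ * g) := by rw [h]; group)
  exact ⟨k, hk, i, hi, by rw [hgi]; group⟩

theorem card_H : Nat.card S.H = 48 := by
  classical
  have hmem : ∀ q : Fin 3 × {i // i ∈ tU.toFinset}, S.y ^ q.1.1 * F.f q.2.1 ∈ S.H := fun q =>
    S.H.mul_mem (S.H.pow_mem S.y_mem_H _) (S.f_mem_H (List.mem_toFinset.1 q.2.2))
  have hb : Function.Bijective fun q => (⟨_, hmem q⟩ : S.H) := by
    constructor
    · rintro ⟨k, i⟩ ⟨l, j⟩ e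
      have e' : S.y ^ k.1 * F.f i.1 = S.y ^ l.1 * F.f j.1 := congrArg Subtype.val e
      have hz : ∀ (a : Fin 3) (c : Ix), S.y ^ a.1 * F.f c * F.z * (S.y ^ a.1 * F.f c)⁻¹ = F.f (ypt a.1) := by
        intro a c
        calc S.y ^ a.1 * F.f c * F.z * (S.y ^ a.1 * F.f c)⁻¹
            = S.y ^ a.1 * (F.f c * F.z) * (F.f c)⁻¹ * (S.y ^ a.1)⁻¹ := by group
          _ = S.y ^ a.1 * F.z * (S.y ^ a.1)⁻¹ := by rw [F.commute_z]; group
          _ = _ := S.ypow_z a.2
      have h1 := hz k i.1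
      rw [e', hz l j.1] at h1
      have hkl : k = l := Fin.ext (ypt_facts.2.1 _ k.2 _ l.2 (F.inj h1).symm)
      subst hkl
      exact Prod.ext rfl (Subtype.ext (F.inj (mul_left_cancel e')))
    · rintro ⟨g, hg⟩
      obtain ⟨k, hk, i, hi, rfl⟩ := S.H_cases hg
      exact ⟨(⟨k, hk⟩, ⟨i, List.mem_toFinset.2 hi⟩), rfl⟩
  rw [← Nat.card_congr (Equiv.ofBijective _ hb), Nat.card_prod, Nat.card_fin,
    Nat.card_eq_finsetCard, List.toFinset_card_of_nodup, tU_ok.2]
  decide +kernel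

theorem act_of_mE {r : Ix} (hr : r ∈ mE) (k : ℕ) {e : Ix} (he : e ∈ e3) :
    S.y ^ k * F.f r * F.f e * (S.y ^ k * F.f r)⁻¹ = S.y ^ k * F.f e * (S.y ^ k)⁻¹ := by
  have h : F.f r * F.f e * (F.f r)⁻¹ = F.f e := by
    rw [← F.map_cj, mE_facts.2.2.1 r hr e he]
  conv_rhs => rw [← h]
  group

variable {p : G → Prop} (P : Sign S p)
include P

theorem H_sign_cases {g : G} (hg : g ∈ S.H) (hp : p g) :
    ∃ k < 3, ∃ r ∈ mE, g = S.y ^ k * F.f r := by
  obtain ⟨k, hk, i, hi, rfl⟩ := S.H_cases hg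
  refine ⟨k, hk, i, P.mem_mE hi ?_, rfl⟩
  have hy : p (S.y ^ k) := by
    clear hp hg hk
    induction k with
    | zero => rw [pow_zero]; exact P.one
    | succ k ih =>
      rw [pow_succ, P.hmul _ _ (S.X.pow_mem S.y_mem k) S.y_mem]
      exact iff_of_true ih P.py
  exact ((P.hmul _ _ (S.X.pow_mem S.y_mem k) (S.f_mem_X hi)).1 hp).1 hy

theorem D_H {x : G} (hx : S.D x) (hH : x ∈ S.H) : ∃ e ∈ e3, F.f e = x := by
  obtain ⟨k, hk, r, hr, e⟩ := S.H_sign_cases P hH (P.pD hx)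
  have h0 : k = 0 := by
    have hz : x * F.z * x⁻¹ = F.f (ypt k) := by
      rw [e, Frame.z, S.act_of_mE hr k List.mem_cons_self]; exact S.ypow_z hk
    have h2 : x * F.f (ypt k) * x⁻¹ = F.z := by
      rw [← hz]
      calc x * (x * F.z * x⁻¹) * x⁻¹ = (x * x) * F.z * (x * x)⁻¹ := by group
        _ = F.z := by rw [S.D_sq hx]; group
    rw [e, S.act_of_mE hr k (ypt_facts.1 k hk).1] at h2
    interval_cases k
    · rfl
    · rw [pow_one, S.y_conj (e3_facts _ (ypt_facts.1 1 hk).1).2.2.1, (ypt_facts.1 1 hk).2] at h2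
      exact absurd (ypt_facts.2.1 _ (by norm_num) 0 (by norm_num) (F.inj h2)) (by norm_num)
    · have hm := (ypt_facts.1 2 hk).1
      have h3 : S.y ^ 2 * F.f (ypt 2) * (S.y ^ 2)⁻¹ = F.f (ypt 1) := by
        calc S.y ^ 2 * F.f (ypt 2) * (S.y ^ 2)⁻¹ = S.y * (S.y * F.f (ypt 2) * S.y⁻¹) * S.y⁻¹ := by
              rw [pow_two]; group
          _ = _ := by
            rw [S.y_conj (e3_facts _ hm).2.2.1, (ypt_facts.1 2 hk).2,
              S.y_conj (e3_facts _ (ypt_facts.1 0 (by norm_num)).1).2.2.1,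
              (ypt_facts.1 0 (by norm_num)).2]
      rw [h3] at h2
      exact absurd (ypt_facts.2.1 _ (by norm_num) 0 (by norm_num) (F.inj h2)) (by norm_num)
  subst h0
  rw [pow_zero, one_mul] at e
  exact S.D_commute_z hx (by rw [e]; exact F.commute_z r)

omit P in
/-- The elements of order three in the normalizer. -/
def Yel (e : Ix) : G := F.f e * S.y * F.f e

omit P in
theorem Yel_inv {e : Ix} (he : e ∈ e4) : (S.Yel e)⁻¹ = F.f e * S.y⁻¹ * F.f e := by
  have h : (F.f e)⁻¹ = F.f e := inv_eq_of_mul_eq_one_right (F.sq_eq_one_iff.2 (e4_facts e he).2.2.1)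
  rw [Yel, mul_inv_rev, mul_inv_rev, h]; group

omit P in
theorem Yel_mem {e : Ix} (he : e ∈ e4) : S.Yel e ∈ S.H := by
  have h := S.f_mem_H (mE_facts.1 e (e4_facts e he).1).1
  exact S.H.mul_mem (S.H.mul_mem h S.y_mem_H) h

theorem odd_cases {g : G} (hg : g ∈ S.H) (ho : Odd (orderOf g)) (h1 : g ≠ 1) :
    ∃ e ∈ e4, g = S.Yel e ∨ g⁻¹ = S.Yel e := by
  obtain ⟨k, hk, r, hr, rfl⟩ := S.H_sign_cases P hg (P.of_odd hg.1 ho)
  have hy2 : S.y * S.y = S.y⁻¹ := eq_inv_of_mul_eq_one_left S.y_cube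
  have one : ∀ r ∈ mE, Odd (orderOf (S.y * F.f r)) → ∃ e ∈ e4, S.y * F.f r = S.Yel e := by
    intro r hr ho
    obtain ⟨-, hrR, -, har⟩ := mE_facts.1 r hr
    obtain ⟨-, harR, -, haar⟩ := mE_facts.1 _ har
    have hcube : S.y * F.f r * (S.y * F.f r) * (S.y * F.f r) =
        F.f (mul (mul (alpha r) (alpha (alpha r))) r) := by
      rw [F.map_mul, F.map_mul, ← S.y_conj harR, ← S.y_conj hrR]
      calc S.y * F.f r * (S.y * F.f r) * (S.y * F.f r)
          = S.y * F.f r * S.y⁻¹ * (S.y * (S.y * F.f r * S.y⁻¹) * S.y⁻¹) *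
              (S.y * S.y * S.y) * F.f r := by group
        _ = _ := by rw [S.y_cube, mul_one]
    have hm : mul (mul (alpha r) (alpha (alpha r))) r ∈ mE := by
      rw [← F.f_mem_sub (h := mE_ok.1), F.map_mul, F.map_mul]
      exact mul_mem (mul_mem (F.f_mem_sub.2 har) (F.f_mem_sub.2 haar)) (F.f_mem_sub.2 hr)
    have h3 : (S.y * F.f r) ^ 3 = 1 := by
      refine eq_one_of_odd_pow (k := 1) (ho.of_dvd_nat (orderOf_pow_dvd 3)) ?_
      rw [pow_one, pow_two, pow_succ, pow_two, hcube, F.sq_eq_one_iff.2 (mE_facts.1 _ hm).2.2.1]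
    rw [pow_succ, pow_two, hcube, F.eq_one_iff] at h3
    obtain ⟨e, he, rfl⟩ := mE_root r hr h3
    obtain ⟨hem, -, -, -, -⟩ := e4_facts e he
    obtain ⟨-, heR, -, hae⟩ := mE_facts.1 e hem
    refine ⟨e, he, ?_⟩
    rw [Yel, F.map_mul, ← S.y_conj (mE_facts.1 _ hae).2.1, ← S.y_conj heR]
    calc S.y * (S.y * (S.y * F.f e * S.y⁻¹) * S.y⁻¹ * F.f e)
        = (S.y * S.y * S.y) * F.f e * (S.y * S.y)⁻¹ * F.f e := by group
      _ = _ := by rw [S.y_cube, hy2, inv_inv, one_mul]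
  interval_cases k
  · refine absurd (eq_one_of_odd_pow (k := 1) ho ?_) h1
    rw [pow_zero, one_mul, pow_one, pow_two, F.sq_eq_one_iff.2 (mE_facts.1 r hr).2.2.1]
  · rw [pow_one] at ho ⊢
    obtain ⟨e, he, h⟩ := one r hr ho
    exact ⟨e, he, Or.inl h⟩
  · obtain ⟨-, hrR, hr2, har⟩ := mE_facts.1 r hr
    obtain ⟨-, harR, -, haar⟩ := mE_facts.1 _ har
    have hinv : (S.y ^ 2 * F.f r)⁻¹ = S.y * F.f (alpha (alpha r)) := by
      rw [← S.y_conj harR, ← S.y_conj hrR, mul_inv_rev,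
        inv_eq_of_mul_eq_one_right (F.sq_eq_one_iff.2 hr2), pow_two]
      calc F.f r * (S.y * S.y)⁻¹ = (S.y * S.y * S.y) * F.f r * (S.y * S.y)⁻¹ := by
            rw [S.y_cube, one_mul]
        _ = _ := by group
    obtain ⟨e, he, h⟩ := one _ haar (by rw [← hinv, orderOf_inv]; exact ho)
    exact ⟨e, he, Or.inr (hinv.trans h)⟩

theorem Yel_unique {x : G} (hx : S.D x) (hxH : x ∉ S.H) {e e' : Ix} (he : e ∈ e4) (he' : e' ∈ e4)
    (h : x * S.Yel e * x⁻¹ = (S.Yel e)⁻¹) (h' : x * S.Yel e' * x⁻¹ = (S.Yel e')⁻¹) : e = e' := by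
  by_contra hne
  obtain ⟨hd, had, hd2, had2, hall, hc1, hc2, hmul⟩ := dl_facts e he e' he' hne
  obtain ⟨hem, -, he2, -, hee⟩ := e4_facts e he
  obtain ⟨hq, -⟩ := hee e' he'
  have hqR := (mE_facts.1 _ (e4_facts _ hq).1).2.1
  have hqR2 := (mE_facts.1 _ (mE_facts.1 _ (e4_facts _ hq).1).2.2.2).2.1
  have hei : (F.f e)⁻¹ = F.f e := inv_eq_of_mul_eq_one_right (F.sq_eq_one_iff.2 he2)
  have hy2 : S.y * S.y = S.y⁻¹ := eq_inv_of_mul_eq_one_left S.y_cube
  -- the two quotients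
  have e1 : S.Yel e * (S.Yel e')⁻¹ = F.f (dl e e') := by
    rw [S.Yel_inv he', Yel, dl, F.map_mul, F.map_mul, ← S.y_conj hqR, F.map_mul]; group
  have e2 : (S.Yel e)⁻¹ * S.Yel e' = F.f (dl2 e e') := by
    rw [S.Yel_inv he, Yel, dl2, F.map_mul, F.map_mul, ← S.y_conj hqR2, ← S.y_conj hqR, F.map_mul]
    calc F.f e * S.y⁻¹ * F.f e * (F.f e' * S.y * F.f e')
        = F.f e * ((S.y * S.y) * (F.f e * F.f e') * (S.y * S.y)⁻¹) * F.f e' := by rw [hy2]; group
      _ = _ := by group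
  have hx1 : x * F.f (dl e e') * x⁻¹ = F.f (dl2 e e') := by
    rw [← e1, ← e2]
    calc x * (S.Yel e * (S.Yel e')⁻¹) * x⁻¹
        = (x * S.Yel e * x⁻¹) * (x * S.Yel e' * x⁻¹)⁻¹ := by group
      _ = _ := by rw [h, h', inv_inv]
  have hx2 : x * F.f (alpha (dl e e')) * x⁻¹ = F.f (alpha (alpha (dl2 e e'))) := by
    have r1 : S.Yel e * F.f (dl e e') * (S.Yel e)⁻¹ = F.f (alpha (dl e e')) := by
      rw [← hc1, F.map_cj, S.Yel_inv he, Yel, ← S.y_conj (i := cj e (dl e e'))]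
      · rw [F.map_cj, hei]; group
      · rw [show cj e (dl e e') = dl e e' from mE_facts.2.2.1 e hem _ hd]
        exact (e3_facts _ hd).2.2.1
    have r2 : (S.Yel e)⁻¹ * F.f (dl2 e e') * S.Yel e = F.f (alpha (alpha (dl2 e e'))) := by
      have hcd : cj e (dl2 e e') = dl2 e e' := mE_facts.2.2.1 e hem _ hd2
      rw [← hc2, F.map_cj, S.Yel_inv he, Yel, ← S.y_conj (i := alpha (cj e (dl2 e e'))),
        ← S.y_conj (i := cj e (dl2 e e'))]
      · rw [F.map_cj, hei]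
        calc F.f e * S.y⁻¹ * F.f e * F.f (dl2 e e') * (F.f e * S.y * F.f e)
            = F.f e * ((S.y * S.y) * (F.f e * F.f (dl2 e e') * F.f e) * (S.y * S.y)⁻¹) * F.f e := by
              rw [hy2]; group
          _ = _ := by group
      · rw [hcd]; exact (e3_facts _ hd2).2.2.1
      · rw [hcd]
        exact (mE_facts.1 _ (mE_facts.1 _ (e3_facts _ hd2).2.2.2.2.2.1).2.2.2).2.1
    rw [← r1, ← r2, ← hx1]
    calc x * (S.Yel e * F.f (dl e e') * (S.Yel e)⁻¹) * x⁻¹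
        = (x * S.Yel e * x⁻¹) * (x * F.f (dl e e') * x⁻¹) * (x * S.Yel e * x⁻¹)⁻¹ := by group
      _ = _ := by rw [h]; group
  refine hxH ⟨S.D_mem hx, fun a ha => ?_⟩
  rcases hall a ha with rfl | rfl | rfl
  · exact ⟨_, hd2, hx1⟩
  · exact ⟨_, had2, hx2⟩
  · refine ⟨_, hmul, ?_⟩
    rw [F.map_mul, F.map_mul, ← hx1, ← hx2]; group

theorem fibre {x h : G} (hx : S.D x) (hxH : x ∉ S.H) (hh : h ∈ S.H) (hxh : S.D (x * h))
    (h1 : h ≠ 1) : ∃ e ∈ e4, (h = S.Yel e ∨ h⁻¹ = S.Yel e) ∧ x * S.Yel e * x⁻¹ = (S.Yel e)⁻¹ := by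
  have hx2 := S.D_sq hx
  have hxi : x⁻¹ = x := inv_eq_of_mul_eq_one_right hx2
  have hinv : x * h * x⁻¹ = h⁻¹ := by
    refine eq_inv_of_mul_eq_one_left ?_
    rw [hxi]
    calc x * h * x * h = x * h * (x * h) := by group
      _ = 1 := S.D_sq hxh
  have hodd : Odd (orderOf h) := by
    by_contra he
    obtain ⟨i, hiz, hi2, hxi', hxhi⟩ := SignalizerStrongEmb.exists_commuting_of_even
      (S.D_orderOf hx) (S.D_orderOf hxh) (by
        rw [← mul_assoc, hx2, one_mul]; exact Nat.not_odd_iff_even.1 he)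
    rw [← mul_assoc, hx2, one_mul] at hiz
    have hiH : i ∈ S.H := (Subgroup.zpowers_le.2 hh) hiz
    have hph : p h := by
      have := P.hmul x h (S.D_mem hx) (S.H_le hh)
      exact (this.1 (P.pD hxh)).1 (P.pD hx)
    have hpall : ∀ m : ℤ, p (h ^ m) := by
      intro m
      induction m using Int.induction_on with
      | zero => rw [zpow_zero]; exact P.one
      | succ m ih =>
        rw [zpow_add_one, P.hmul _ _ (S.X.zpow_mem (S.H_le hh) _) (S.H_le hh)]
        exact iff_of_true ih hph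
      | pred m ih =>
        rw [zpow_sub_one, P.hmul _ _ (S.X.zpow_mem (S.H_le hh) _) (S.X.inv_mem (S.H_le hh))]
        exact iff_of_true ih ((P.inv' (S.H_le hh)).2 hph)
    have hip : p i := by
      obtain ⟨m, rfl⟩ := Subgroup.mem_zpowers_iff.1 hiz
      exact hpall m
    have hnotE : ∀ w, S.D w → w ∈ S.H → x * w = w * x → False := fun w hw hwH hc => by
      obtain ⟨e, he, rfl⟩ := S.D_H P hw hwH
      obtain ⟨j, hj, rfl⟩ := S.D_commute_e3 hx he hc
      exact hxH (S.f_mem_H (e3_facts j hj).1)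
    rcases P.invol_cases (S.H_le hiH) hip hi2 with rfl | hD | hD
    · have hz : F.u ∈ Subgroup.zpowers (x * (x * h)) := by rwa [← mul_assoc, hx2, one_mul]
      have hn : ∀ w : G, S.D w → ¬ IsConj w (w * F.u) := fun w hw hc =>
        F.not_conj_z_u ((hw.1.trans hc).trans (S.two.mul_u hw.1 hw.2).symm)
      obtain ⟨-, -, hc⟩ := odd_of_mem (S.D_orderOf hx) (S.D_orderOf hxh) S.orderOf_u (hn x hx) hz
      exact F.not_conj_z_u ((hx.1.trans hc).trans (S.two.mul_u hxh.1 hxh.2).symm)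
    · exact hnotE i hD hiH hxi'
    · exact hnotE _ hD (S.H.mul_mem hiH (S.f_mem_H t_facts.2.1))
        ((show Commute x i from hxi').mul_right hx.2).eq
  obtain ⟨e, he, h'⟩ := S.odd_cases P hh hodd h1
  refine ⟨e, he, h', ?_⟩
  rcases h' with h' | h'
  · rw [← h']; exact hinv
  · rw [← h']
    calc x * h⁻¹ * x⁻¹ = (x * h * x⁻¹)⁻¹ := by group
      _ = h⁻¹⁻¹ := by rw [hinv]

theorem exists_inverts {x : G} (hx : S.D x) (hxH : x ∉ S.H) :
    ∃ e ∈ e4, x * S.Yel e * x⁻¹ = (S.Yel e)⁻¹ := by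
  classical
  haveI := Fintype.ofFinite G
  by_contra hne
  push Not at hne
  set HX := S.H.subgroupOf S.X
  let A : Finset S.X := Finset.univ.filter fun a => S.D a.1
  let Sx : Finset S.X := A.filter fun a => a.1 ∉ S.H
  let q : S.X → S.X ⧸ HX := fun a => (a : S.X ⧸ HX)
  have hA : A.card = Nat.card {w : G // S.D w} := by
    rw [← Nat.card_eq_finsetCard]
    refine Nat.card_congr (Equiv.ofBijective
      (fun a => ⟨a.1.1, (Finset.mem_filter.1 a.2).2⟩) ⟨fun a c e => ?_, ?_⟩)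
    · exact Subtype.ext (Subtype.ext (congrArg (fun w => w.1) e))
    · rintro ⟨w, hw⟩
      exact ⟨⟨⟨w, S.D_mem hw⟩, Finset.mem_filter.2 ⟨Finset.mem_univ _, hw⟩⟩, rfl⟩
  have hAH : (A.filter fun a => ¬ a.1 ∉ S.H).card = 3 := by
    rw [← e4_len.2, ← Nat.card_eq_finsetCard, ← Nat.card_eq_finsetCard]
    have hmem : ∀ e : {x // x ∈ e3.toFinset},
        (⟨F.f e.1, S.f_mem_X (e3_facts _ (List.mem_toFinset.1 e.2)).1⟩ : S.X) ∈
          A.filter fun a => ¬ a.1 ∉ S.H := fun e => by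
      have he := List.mem_toFinset.1 e.2
      exact Finset.mem_filter.2 ⟨Finset.mem_filter.2 ⟨Finset.mem_univ _, S.D_f he⟩,
        not_not.2 (S.f_mem_H (e3_facts _ he).1)⟩
    refine (Nat.card_congr (Equiv.ofBijective (fun e => ⟨_, hmem e⟩) ⟨fun a c e => ?_, ?_⟩)).symm
    · exact Subtype.ext (F.inj (congrArg (fun w => w.1.1) e))
    · rintro ⟨⟨w, hwX⟩, hw⟩
      obtain ⟨hwA, hwH⟩ := Finset.mem_filter.1 hw
      obtain ⟨e, he, h⟩ := S.D_H P (Finset.mem_filter.1 hwA).2 (not_not.1 hwH)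
      exact ⟨⟨e, List.mem_toFinset.2 he⟩, Subtype.ext (Subtype.ext h)⟩
  have hSx : Sx.card + 3 = Nat.card {w : G // S.D w} := by
    rw [← hA, ← hAH]; exact Finset.card_filter_add_card_filter_not _
  have hmemSx : ∀ {a : S.X}, a ∈ Sx → S.D a.1 ∧ a.1 ∉ S.H := fun {a} ha =>
    ⟨(Finset.mem_filter.1 (Finset.mem_filter.1 ha).1).2, (Finset.mem_filter.1 ha).2⟩
  have hstep : ∀ {a c : S.X}, q a = q c → a.1⁻¹ * c.1 ∈ S.H := fun {a c} e =>
    Subgroup.mem_subgroupOf.1 (QuotientGroup.eq.1 e)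
  have hfib : ∀ v : S.X ⧸ HX, (Sx.filter fun a => q a = v).card ≤ 3 := by
    intro v
    rcases Finset.eq_empty_or_nonempty (Sx.filter fun a => q a = v) with h | ⟨a, ha⟩
    · simp [h]
    obtain ⟨haS, hav⟩ := Finset.mem_filter.1 ha
    obtain ⟨haD, haH⟩ := hmemSx haS
    by_cases hex : ∃ e ∈ e4, a.1 * S.Yel e * a.1⁻¹ = (S.Yel e)⁻¹
    · obtain ⟨e, he, hea⟩ := hex
      let B : Finset S.X := {a, a * ⟨S.Yel e, S.H_le (S.Yel_mem he)⟩,
        a * ⟨S.Yel e, S.H_le (S.Yel_mem he)⟩⁻¹}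
      refine (Finset.card_le_card (t := B) ?_).trans (Finset.card_le_three)
      intro c hc
      obtain ⟨hcS, hcv⟩ := Finset.mem_filter.1 hc
      set h := a.1⁻¹ * c.1 with hh
      have hmem := hstep (hav.trans hcv.symm)
      simp only [B, Finset.mem_insert, Finset.mem_singleton]
      by_cases h1 : h = 1
      · exact Or.inl (Subtype.ext (inv_mul_eq_one.1 h1).symm)
      obtain ⟨e', he', hcase, he'a⟩ := S.fibre P haD haH hmem
        (by rw [← mul_assoc, mul_inv_cancel, one_mul]; exact (hmemSx hcS).1) h1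
      obtain rfl := S.Yel_unique P haD haH he he' hea he'a
      rcases hcase with h' | h'
      · refine Or.inr (Or.inl (Subtype.ext ?_))
        show c.1 = a.1 * S.Yel e
        rw [← h']; group
      · refine Or.inr (Or.inr (Subtype.ext ?_))
        show c.1 = a.1 * (S.Yel e)⁻¹
        rw [← h', inv_inv]; group
    · refine (Finset.card_le_card (t := {a}) ?_).trans (by simp)
      intro c hc
      obtain ⟨hcS, hcv⟩ := Finset.mem_filter.1 hc
      rw [Finset.mem_singleton]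
      by_contra hca
      obtain ⟨e', he', -, he'a⟩ := S.fibre P haD haH (hstep (hav.trans hcv.symm))
        (by rw [← mul_assoc, mul_inv_cancel, one_mul]; exact (hmemSx hcS).1)
        (fun h => hca (Subtype.ext (inv_mul_eq_one.1 h).symm))
      exact hex ⟨e', he', he'a⟩
  let x' : S.X := ⟨x, S.D_mem hx⟩
  have hx'S : x' ∈ Sx :=
    Finset.mem_filter.2 ⟨Finset.mem_filter.2 ⟨Finset.mem_univ _, hx⟩, hxH⟩
  let rest := Sx.filter fun a => q a ≠ q x'
  have hone : (Sx.filter fun a => q a = q x').card ≤ 1 := by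
    refine (Finset.card_le_card (t := {x'}) ?_).trans (by simp)
    intro c hc
    obtain ⟨hcS, hcv⟩ := Finset.mem_filter.1 hc
    rw [Finset.mem_singleton]
    by_contra hca
    obtain ⟨e', he', -, he'a⟩ := S.fibre P hx hxH (hstep hcv.symm)
      (by rw [← mul_assoc, mul_inv_cancel, one_mul]; exact (hmemSx hcS).1)
      (fun h => hca (Subtype.ext (inv_mul_eq_one.1 h).symm))
    exact hne e' he' he'a
  have himg : rest.image q ⊆ (Finset.univ.erase (q 1)).erase (q x') := by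
    intro v hv
    obtain ⟨a, ha, rfl⟩ := Finset.mem_image.1 hv
    obtain ⟨haS, hav⟩ := Finset.mem_filter.1 ha
    refine Finset.mem_erase.2 ⟨hav, Finset.mem_erase.2 ⟨fun e => ?_, Finset.mem_univ _⟩⟩
    have := hstep e.symm
    simp only [OneMemClass.coe_one, inv_one, one_mul] at this
    exact (hmemSx haS).2 this
  have hrest : rest.card ≤ 3 * ((Finset.univ : Finset (S.X ⧸ HX)).card - 2) := by
    refine (Finset.card_le_mul_card_image (f := q) rest 3 fun v _ => ?_).trans ?_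
    · exact (Finset.card_le_card (Finset.filter_subset_filter _ (Finset.filter_subset _ _))).trans
        (hfib v)
    · refine Nat.mul_le_mul_left 3 ((Finset.card_le_card himg).trans ?_)
      rw [Finset.card_erase_of_mem, Finset.card_erase_of_mem (Finset.mem_univ _)]
      · omega
      · refine Finset.mem_erase.2 ⟨fun e => hxH ?_, Finset.mem_univ _⟩
        have := hstep e.symm
        simpa using this
  have hsplit : (Sx.filter fun a => q a = q x').card + rest.card = Sx.card :=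
    Finset.card_filter_add_card_filter_not _
  have hindex : Nat.card S.X = 48 * (Finset.univ : Finset (S.X ⧸ HX)).card := by
    rw [Finset.card_univ, ← Nat.card_eq_fintype_card, ← Subgroup.index_eq_card,
      ← Subgroup.card_mul_index HX, Nat.card_congr (Subgroup.subgroupOfEquivOfLe S.H_le).toEquiv,
      S.card_H]
  have h2 : 2 ≤ (Finset.univ : Finset (S.X ⧸ HX)).card := by
    refine Finset.one_lt_card.2 ⟨q 1, Finset.mem_univ _, q x', Finset.mem_univ _, fun e => hxH ?_⟩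
    simpa using hstep e
  have := S.card_X
  omega

/-- The involutions inverting `y`. -/
def K (_ : Sign S p) (x : G) : Prop := S.D x ∧ x * S.y * x⁻¹ = S.y⁻¹

theorem K_not_H {x : G} (hx : S.K P x) : x ∉ S.H := by
  intro hH
  obtain ⟨e, he, rfl⟩ := S.D_H P hx.1 hH
  obtain ⟨-, -, heR, he2, -, hem, he4, -⟩ := e3_facts e he
  have h1 := congrArg (fun g : G => g * F.z * g⁻¹) hx.2
  have hei : (F.f e)⁻¹ = F.f e := inv_eq_of_mul_eq_one_right (F.sq_eq_one_iff.2 he2)
  have hc1 : ∀ {i : Ix}, i ∈ e3 → F.f e * F.f i * (F.f e)⁻¹ = F.f i := fun {i} hi => by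
    rw [← F.map_cj, mE_facts.2.2.1 e hem i hi]
  have hl : F.f e * S.y * (F.f e)⁻¹ * F.z * (F.f e * S.y * (F.f e)⁻¹)⁻¹ = F.f bI := by
    calc F.f e * S.y * (F.f e)⁻¹ * F.z * (F.f e * S.y * (F.f e)⁻¹)⁻¹
        = F.f e * (S.y * ((F.f e)⁻¹ * F.f zI * F.f e) * S.y⁻¹) * (F.f e)⁻¹ := by
          rw [Frame.z]; group
      _ = _ := by
        rw [hei, show F.f e * F.f zI * F.f e = F.f zI by
          conv_rhs => rw [← hc1 (i := zI) List.mem_cons_self]
          rw [hei], S.y_conj special_mem.1, alpha_orbit.1]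
        have := hc1 (i := bI) (by simp [e3])
        rwa [hei] at this
  have hr : S.y⁻¹ * F.z * S.y⁻¹⁻¹ = F.f bzI := by
    have h := S.ypow_z (k := 2) (by norm_num)
    rw [pow_two, eq_inv_of_mul_eq_one_left S.y_cube] at h
    exact h
  rw [hl, hr] at h1
  exact absurd (F.inj h1) (by decide +kernel)

theorem card_D : Nat.card {x : G // S.D x} = 3 + 4 * Nat.card {x : G // S.K P x} := by
  classical
  have hsplit : Nat.card {x : G // S.D x} =
      Nat.card {x : G // S.D x ∧ x ∈ S.H} + Nat.card {x : G // S.D x ∧ x ∉ S.H} := by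
    haveI := Fintype.ofFinite G
    rw [Nat.card_eq_fintype_card, Nat.card_eq_fintype_card, Nat.card_eq_fintype_card,
      Fintype.card_subtype, Fintype.card_subtype, Fintype.card_subtype, ← Finset.filter_filter,
      ← Finset.filter_filter]
    exact (Finset.card_filter_add_card_filter_not _).symm
  have hE : Nat.card {x : G // S.D x ∧ x ∈ S.H} = 3 := by
    rw [← e4_len.2, ← Nat.card_eq_finsetCard]
    refine (Nat.card_congr (Equiv.ofBijective (fun e => ⟨F.f e.1,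
      S.D_f (List.mem_toFinset.1 e.2), S.f_mem_H (e3_facts _ (List.mem_toFinset.1 e.2)).1⟩)
      ⟨fun a c e => Subtype.ext (F.inj (congrArg Subtype.val e)), ?_⟩)).symm
    rintro ⟨w, hw, hwH⟩
    obtain ⟨e, he, h⟩ := S.D_H P hw hwH
    exact ⟨⟨e, List.mem_toFinset.2 he⟩, Subtype.ext h⟩
  have hconj : ∀ {e : Ix}, e ∈ e4 → ∀ {x : G}, S.D x → x ∉ S.H →
      S.D (F.f e * x * F.f e) ∧ F.f e * x * F.f e ∉ S.H := by
    intro e he x hx hxH
    obtain ⟨heU, -, he2, -⟩ := mE_facts.1 e (e4_facts e he).1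
    have hei : (F.f e)⁻¹ = F.f e := inv_eq_of_mul_eq_one_right (F.sq_eq_one_iff.2 he2)
    have hH := S.f_mem_H heU
    refine ⟨?_, fun h => hxH ?_⟩
    · have := S.D_conj (S.f_mem_X heU) hx
      rwa [hei] at this
    · have h' := S.H.mul_mem (S.H.mul_mem hH h) hH
      rwa [show F.f e * (F.f e * x * F.f e) * F.f e = (F.f e * F.f e) * x * (F.f e * F.f e) by group,
        F.sq_eq_one_iff.2 he2, one_mul, mul_one] at h'
  have hK : ∀ {e : Ix}, e ∈ e4 → ∀ {x : G},
      (x * S.Yel e * x⁻¹ = (S.Yel e)⁻¹ ↔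
        F.f e * x * F.f e * S.y * (F.f e * x * F.f e)⁻¹ = S.y⁻¹) := by
    intro e he x
    have hee := F.sq_eq_one_iff.2 (e4_facts e he).2.2.1
    have hei : (F.f e)⁻¹ = F.f e := inv_eq_of_mul_eq_one_right hee
    rw [S.Yel_inv he, Yel]
    constructor
    · intro h
      calc F.f e * x * F.f e * S.y * (F.f e * x * F.f e)⁻¹
          = F.f e * (x * (F.f e * S.y * (F.f e)⁻¹) * x⁻¹) * (F.f e)⁻¹ := by group
        _ = (F.f e * F.f e) * S.y⁻¹ * (F.f e * F.f e) := by rw [hei, h]; group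
        _ = _ := by rw [hee, one_mul, mul_one]
    · intro h
      calc x * (F.f e * S.y * F.f e) * x⁻¹
          = (F.f e)⁻¹ * (F.f e * x * F.f e * S.y * (F.f e * x * (F.f e)⁻¹)⁻¹) * F.f e := by group
        _ = _ := by rw [hei, h]
  have hF : Nat.card {x : G // S.D x ∧ x ∉ S.H} = 4 * Nat.card {x : G // S.K P x} := by
    rw [← e4_len.1, ← Nat.card_eq_finsetCard, ← Nat.card_prod]
    have back : ∀ {e : Ix}, e ∈ e4 → ∀ x : G, F.f e * (F.f e * x * F.f e) * F.f e = x := fun he x => by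
      rw [show ∀ a : G, a * (a * x * a) * a = (a * a) * x * (a * a) from fun a => by group,
        F.sq_eq_one_iff.2 (e4_facts _ he).2.2.1, one_mul, mul_one]
    refine (Nat.card_congr (Equiv.ofBijective (fun q => ⟨F.f q.1.1 * q.2.1 * F.f q.1.1,
      hconj (List.mem_toFinset.1 q.1.2) q.2.2.1 (S.K_not_H P q.2.2)⟩) ⟨?_, ?_⟩)).symm
    · rintro ⟨⟨e, he⟩, ⟨x, hx⟩⟩ ⟨⟨e', he'⟩, ⟨x', hx'⟩⟩ heq
      have heq' : F.f e * x * F.f e = F.f e' * x' * F.f e' := congrArg Subtype.val heq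
      have he0 := List.mem_toFinset.1 he
      have he0' := List.mem_toFinset.1 he'
      obtain ⟨hD, hH⟩ := hconj he0 hx.1 (S.K_not_H P hx)
      obtain rfl := S.Yel_unique P hD hH he0 he0'
        ((hK he0).2 (by rw [back he0]; exact hx.2))
        ((hK he0').2 (by rw [heq', back he0']; exact hx'.2))
      have : x = x' := by rw [← back he0 x, heq', back he0]
      subst this
      rfl
    · rintro ⟨x, hx, hxH⟩
      obtain ⟨e, he, h⟩ := S.exists_inverts P hx hxH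
      refine ⟨(⟨e, List.mem_toFinset.2 he⟩, ⟨F.f e * x * F.f e, (hconj he hx hxH).1, (hK he).1 h⟩),
        Subtype.ext (back he x)⟩
  rw [hsplit, hE, hF]

end Setting

end Cfsg.Agent.M12Inv51
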