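import Cfsg.Agent.Lib.M12Inv51CentCount

/-!
Fifteen or three involutions of the first class commute with `u`.
-/

set_option autoImplicit false
set_option maxRecDepth 100000
set_option linter.unusedSectionVars false

namespace Cfsg.Agent.M12Inv51

open Cfsg.Agent.M12Inv51Data

theorem tU_sq_ne : uI ≠ zI ∧ uI ≠ 0 ∧ ∀ i ∈ tU, pw i 4 = 0 := by decide +kernel

namespace Setting

variable {G : Type*} [Group G] [Finite G] {F : Frame G} (S : Setting F) {p : G → Prop}
  (P : Sign S p)
include P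

omit P in
theorem pow_four_of_commute_D {x g : G} (hx : S.D x) (hg : g ∈ S.X) (hc : g * x = x * g) :
    g ^ 4 = 1 ∧ (g * g = 1 ∨ g * g = x) := by
  obtain ⟨c, hcX, rfl⟩ := S.D_transitive hx
  obtain ⟨i, hi, he⟩ := S.exists_tU (g := c⁻¹ * g * c)
    (S.X.mul_mem (S.X.mul_mem (S.X.inv_mem hcX) hg) hcX) (by
      calc c⁻¹ * g * c * F.z = c⁻¹ * (g * (c * F.z * c⁻¹)) * c := by group
        _ = c⁻¹ * (c * F.z * c⁻¹ * g) * c := by rw [hc]
        _ = _ := by group)
  have hg' : g = c * F.f i * c⁻¹ := by rw [he]; group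
  subst hg'
  have hsq : c * F.f i * c⁻¹ * (c * F.f i * c⁻¹) = c * F.f (mul i i) * c⁻¹ := by
    rw [F.map_mul]; group
  refine ⟨by rw [conj_pow, ← F.map_pw, tU_sq_ne.2.2 i hi, F.map_one]; group, ?_⟩
  rcases tU_squares i hi with h | h
  · left; rw [hsq, h, F.map_one]; group
  · right; rw [hsq, h]; rfl

theorem invol_commute_y {i : G} (hi : i ∈ S.X) (hp : p i) (h2 : orderOf i = 2)
    (hc : i * S.y = S.y * i) : i = F.u := by
  have key : ∀ x, S.D x → S.y * x = x * S.y → False := fun x hx hxy => by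
    have h4 := (S.pow_four_of_commute_D hx S.y_mem hxy).1
    have := orderOf_dvd_of_pow_eq_one h4
    rw [S.orderOf_y] at this
    omega
  have hyu : S.y * F.u = F.u * S.y := S.mem_X.1 S.y_mem
  rcases P.invol_cases hi hp h2 with h | h | h
  · exact h
  · exact (key i h hc.symm).elim
  · exact (key _ h ((show Commute S.y i from hc.symm).mul_right hyu).eq).elim

omit P in
/-- The even part of the centralizer of `y`. -/
def Q (P : Sign S p) : Subgroup G where
  carrier := {g | g ∈ S.X ∧ g * S.y = S.y * g ∧ p g}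
  one_mem' := ⟨S.X.one_mem, by rw [one_mul, mul_one], P.one⟩
  mul_mem' := by
    rintro a c ⟨ha, ha', ha''⟩ ⟨hc, hc', hc''⟩
    exact ⟨S.X.mul_mem ha hc, ((show Commute a S.y from ha').mul_left hc').eq,
      (P.hmul a c ha hc).2 (iff_of_true ha'' hc'')⟩
  inv_mem' := by
    rintro a ⟨ha, ha', ha''⟩
    exact ⟨S.X.inv_mem ha, (show Commute a S.y from ha').inv_left.eq, (P.inv' ha).2 ha''⟩

theorem u_mem_Q : F.u ∈ S.Q P :=
  ⟨S.f_mem_X t_facts.2.1, (S.mem_X.1 S.y_mem).symm, P.pu⟩

theorem commute_Q {j q : G} (hj : S.D j) (hq : q ∈ S.Q P) (hc : q * j = j * q) :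
    q = 1 ∨ q = F.u := by
  by_cases h1 : q = 1
  · exact Or.inl h1
  obtain ⟨-, h⟩ := S.pow_four_of_commute_D hj hq.1 hc
  rcases h with h | h
  · exact Or.inr (S.invol_commute_y P hq.1 hq.2.2 (orderOf_two_of_sq h h1) hq.2.1)
  · exfalso
    have hQ := (S.Q P).mul_mem hq hq
    rw [h] at hQ
    have := S.invol_commute_y P hQ.1 hQ.2.2 (S.D_orderOf hj) hQ.2.1
    exact F.not_conj_z_u (this ▸ hj.1)

theorem card_Q {j : G} (hj : S.K P j) :
    Nat.card (S.Q P) = 2 * Nat.card {x : G // S.K P x} := by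
  classical
  haveI := Fintype.ofFinite G
  have hj2 := S.D_sq hj.1
  have hu2 : F.u * F.u = 1 := sq_of_orderOf_two S.orderOf_u
  have hu1 : F.u ≠ 1 := fun e => by have := S.orderOf_u; rw [e, orderOf_one] at this; omega
  apply le_antisymm
  · let A : Finset G := Finset.univ.filter (· ∈ S.Q P)
    let φ : G → G := fun q => q⁻¹ * j * q
    have hA : A.card = Nat.card (S.Q P) := by
      rw [Nat.card_eq_fintype_card, Fintype.card_subtype]
    have hK : (Finset.univ.filter (S.K P)).card = Nat.card {x : G // S.K P x} := by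
      rw [Nat.card_eq_fintype_card, Fintype.card_subtype]
    rw [← hA, ← hK]
    refine (Finset.card_le_mul_card_image (f := φ) A 2 fun v hv => ?_).trans
      (Nat.mul_le_mul_left 2 (Finset.card_le_card ?_))
    · obtain ⟨q, hq, rfl⟩ := Finset.mem_image.1 hv
      refine (Finset.card_le_card (t := {q, F.u * q}) ?_).trans Finset.card_le_two
      intro r hr
      obtain ⟨hrA, hre⟩ := Finset.mem_filter.1 hr
      have hrQ := (Finset.mem_filter.1 hrA).2
      have hqQ := (Finset.mem_filter.1 hq).2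
      have hc : r * q⁻¹ * j = j * (r * q⁻¹) := by
        calc r * q⁻¹ * j = r * (q⁻¹ * j * q) * q⁻¹ := by group
          _ = r * (r⁻¹ * j * r) * q⁻¹ := by rw [show r⁻¹ * j * r = q⁻¹ * j * q from hre]
          _ = _ := by group
      rw [Finset.mem_insert, Finset.mem_singleton]
      rcases S.commute_Q P hj.1 ((S.Q P).mul_mem hrQ ((S.Q P).inv_mem hqQ)) hc with h | h
      · exact Or.inl (mul_inv_eq_one.1 h)
      · exact Or.inr (mul_inv_eq_iff_eq_mul.1 h)
    · intro v hv
      obtain ⟨q, hq, rfl⟩ := Finset.mem_image.1 hv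
      obtain ⟨hqX, hqy, -⟩ := (Finset.mem_filter.1 hq).2
      refine Finset.mem_filter.2 ⟨Finset.mem_univ _, ?_, ?_⟩
      · have := S.D_conj (S.X.inv_mem hqX) hj.1
        rwa [inv_inv] at this
      · calc q⁻¹ * j * q * S.y * (q⁻¹ * j * q)⁻¹ = q⁻¹ * j * (q * S.y * q⁻¹) * j⁻¹ * q := by group
          _ = q⁻¹ * (j * S.y * j⁻¹) * q := by rw [mul_inv_eq_iff_eq_mul.2 hqy]; group
          _ = q⁻¹ * S.y⁻¹ * q := by rw [hj.2]
          _ = (q⁻¹ * S.y * q)⁻¹ := by group
          _ = S.y⁻¹ := by rw [mul_assoc, ← hqy]; group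
  · have hmem : ∀ (x : {x : G // S.K P x}) (c : Bool), j * x.1 * (if c then F.u else 1) ∈ S.Q P := by
      intro x c
      refine (S.Q P).mul_mem ⟨S.X.mul_mem (S.D_mem hj.1) (S.D_mem x.2.1), ?_, ?_⟩ ?_
      · calc j * x.1 * S.y = j * (x.1 * S.y * x.1⁻¹) * x.1 := by group
          _ = (j * S.y * j⁻¹)⁻¹ * (j * x.1) := by rw [x.2.2]; group
          _ = S.y * (j * x.1) := by rw [hj.2, inv_inv]
      · exact (P.hmul _ _ (S.D_mem hj.1) (S.D_mem x.2.1)).2 (iff_of_true (P.pD hj.1) (P.pD x.2.1))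
      · cases c
        · exact (S.Q P).one_mem
        · exact S.u_mem_Q P
    have h := Nat.card_le_card_of_injective
      (fun q : {x : G // S.K P x} × Bool => (⟨_, hmem q.1 q.2⟩ : S.Q P)) (by
      rintro ⟨x, c⟩ ⟨x', c'⟩ e
      have e' : j * x.1 * (if c then F.u else 1) = j * x'.1 * (if c' then F.u else 1) :=
        congrArg Subtype.val e
      rw [mul_assoc, mul_assoc, mul_left_cancel_iff] at e'
      have hne : ∀ a w : {x : G // S.K P x}, a.1 * F.u ≠ w.1 := fun a w h =>
        F.not_conj_z_u (w.2.1.1.trans (h ▸ S.two.mul_u a.2.1.1 a.2.1.2).symm)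
      cases c <;> cases c' <;> simp only [if_true, if_false, mul_one, Bool.false_eq_true] at e'
      · exact Prod.ext (Subtype.ext e') rfl
      · exact absurd e'.symm (hne x' x)
      · exact absurd e' (hne x x')
      · exact Prod.ext (Subtype.ext (mul_right_cancel e')) rfl)
    rw [Nat.card_prod, Nat.card_eq_fintype_card (α := Bool), Fintype.card_bool] at h
    omega

theorem not_four_dvd_Q : ¬ 4 ∣ Nat.card (S.Q P) := by
  intro h
  haveI : Fact (Nat.Prime 2) := ⟨Nat.prime_two⟩
  obtain ⟨K, hK⟩ := Sylow.exists_subgroup_card_pow_prime 2 (n := 2) h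
  have hKu : ∀ q ∈ K, q.1 = 1 ∨ q.1 = F.u := by
    intro q hq
    have h4 : q.1 ^ 4 = 1 := by
      have e := pow_card_eq_one' (G := K) (x := ⟨q, hq⟩)
      rw [hK] at e
      simpa using congrArg (fun w : K => ((w : S.Q P) : G)) e
    by_cases h2 : q.1 * q.1 = 1
    · by_cases h1 : q.1 = 1
      · exact Or.inl h1
      · exact Or.inr (S.invol_commute_y P q.2.1 q.2.2.2 (orderOf_two_of_sq h2 h1) q.2.2.1)
    · exfalso
      have hQ := (S.Q P).mul_mem q.2 q.2
      have hu : q.1 * q.1 = F.u := S.invol_commute_y P hQ.1 hQ.2.2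
        (orderOf_two_of_sq (by
          rw [← h4, pow_succ, pow_succ, pow_two]; simp only [mul_assoc]) h2) hQ.2.1
      obtain ⟨c, hc, i, hi, e⟩ := S.exists_conj_tU q.2.1 (k := 2) (by rw [show (2:ℕ)^2 = 4 from rfl]; exact h4)
      have : F.f (mul i i) = c * F.u * c⁻¹ := by rw [← hu, F.map_mul, ← e]; group
      rw [mul_inv_eq_iff_eq_mul.2 (S.mem_X.1 hc)] at this
      rcases tU_squares i hi with h' | h' <;> rw [h'] at this
      · exact tU_sq_ne.2.1 (F.inj this).symm
      · exact tU_sq_ne.1 (F.inj this).symm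
  have hle : Nat.card K ≤ 2 := by
    classical
    let φ : K → Bool := fun q => decide (q.1.1 = 1)
    have := Nat.card_le_card_of_injective φ (by
      intro a c e
      apply Subtype.ext; apply Subtype.ext
      rcases hKu a.1 a.2 with ha | ha <;> rcases hKu c.1 c.2 with hc | hc <;>
        simp only [φ, ha, hc] at e ⊢
      · have : F.u ≠ 1 := fun e' => by have := S.orderOf_u; rw [e', orderOf_one] at this; omega
        simp [this] at e
      · have : F.u ≠ 1 := fun e' => by have := S.orderOf_u; rw [e', orderOf_one] at this; omega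
        simp [this] at e)
    simpa [Nat.card_eq_fintype_card] using this
  omega

theorem card_D_cases :
    Nat.card {x : G // S.D x} = 3 ∨ Nat.card {x : G // S.D x} = 15 := by
  have hn := S.card_D P
  have hX := S.card_X
  rcases isEmpty_or_nonempty {x : G // S.K P x} with h | ⟨⟨j, hj⟩⟩
  · left
    rw [hn, Nat.card_of_isEmpty]
  · right
    have hQ := S.card_Q P hj
    set k := Nat.card {x : G // S.K P x}
    have hodd : ¬ 2 ∣ k := fun h => S.not_four_dvd_Q P (by
      rw [hQ]; exact Nat.mul_dvd_mul_left 2 h)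
    have hdvd : 2 * k ∣ 16 * (3 + 4 * k) := by
      rw [← hn, ← hX, ← hQ]
      exact Subgroup.card_dvd_of_le fun g hg => hg.1
    have h3 : 3 ∣ 2 * k := by
      rw [← hQ, ← S.orderOf_y]
      have hy : S.y ∈ S.Q P := ⟨S.y_mem, rfl, P.py⟩
      rw [← Subgroup.orderOf_mk S.y hy]
      exact orderOf_dvd_natCard _
    have h48 : k ∣ 48 := by
      have h : k ∣ 16 * (3 + 4 * k) := (dvd_mul_left k 2).trans hdvd
      rw [show 16 * (3 + 4 * k) = 48 + k * 64 by ring] at h
      exact (Nat.dvd_add_left (dvd_mul_right k 64)).1 h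
    have hle := Nat.le_of_dvd (by norm_num) h48
    have hk : k = 3 := by
      interval_cases k <;> omega
    rw [hn, hk]

end Setting

end Cfsg.Agent.M12Inv51
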