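import Cfsg.Agent.Lib.M12Inv51CentBase

/-!
The centralizer of the non-central involution has a subgroup of index two.
-/

set_option autoImplicit false
set_option maxRecDepth 100000
set_option linter.unusedSectionVars false

namespace Cfsg.Agent.M12Inv51

open Cfsg.Agent.M12Inv51Data

theorem sign_facts : (∀ i ∈ tU, mul (mul tI uI) i ∈ tU) ∧
    (∀ i ∈ e3, mul i uI ∈ qaI) := by decide +kernel

/-- A sign on the centralizer of `u`, trivial on `u` and not on `t`. -/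
structure Sign {G : Type*} [Group G] {F : Frame G} (S : Setting F) (p : G → Prop) : Prop where
  hmul : ∀ a b : G, a ∈ S.X → b ∈ S.X → (p (a * b) ↔ (p a ↔ p b))
  pu : p F.u
  nt : ¬ p F.t

namespace Setting

variable {G : Type*} [Group G] [Finite G] {F : Frame G} (S : Setting F)

theorem exists_index_two {i : Ix} (hi : i = tI ∨ i = mul tI uI) :
    ∃ M : Subgroup S.X, M.index = 2 ∧ ∀ h : F.f i ∈ S.X, (⟨F.f i, h⟩ : S.X) ∉ M := by
  haveI : Fact (Nat.Prime 2) := ⟨Nat.prime_two⟩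
  obtain ⟨htU, huU, htu, htuq, htc, htuU, htu'⟩ := t_facts
  have hqa : i ∈ qaI ∧ i ∈ tU ∧ i ∉ mE ∧ i ≠ uI ∧ mul i uI ∈ qaI := by
    rcases hi with rfl | rfl <;> decide +kernel
  obtain ⟨hiq, hiU, hiE, hiu, hiuq⟩ := hqa
  have hle : F.sub mE mE_ok.1 ≤ F.sub tU tU_ok.1 := by
    rintro x ⟨m, hm, rfl⟩; exact F.f_mem_sub.2 (mE_facts.1 m hm).1
  have hTX : F.sub tU tU_ok.1 ≤ S.X := by
    rintro x ⟨m, hm, rfl⟩; exact S.f_mem_X hm
  let Q : Subgroup S.X := (F.sub mE mE_ok.1).subgroupOf S.X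
  have hQ : Q ≤ (S.sylX : Subgroup S.X) := fun g hg => hle (show g.1 ∈ F.sub mE mE_ok.1 from hg)
  have hrel : Q.relIndex (S.sylX : Subgroup S.X) = 2 := by
    have h := Subgroup.relIndex_mul_relIndex (⊥ : Subgroup S.X) Q _ bot_le hQ
    rw [Subgroup.relIndex_bot_left, Subgroup.relIndex_bot_left] at h
    have h8 : Nat.card Q = 8 := by
      rw [Nat.card_congr (Subgroup.subgroupOfEquivOfLe (hle.trans hTX)).toEquiv, F.card_sub, mE_ok.2]
    have h16 : Nat.card (S.sylX : Subgroup S.X) = 16 := by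
      show Nat.card ((F.sub tU tU_ok.1).subgroupOf S.X) = 16
      rw [Nat.card_congr (Subgroup.subgroupOfEquivOfLe hTX).toEquiv, F.card_sub, tU_ok.2]
    rw [h8, h16] at h
    omega
  rcases S0111.result S.sylX Q hQ hrel (⟨F.f i, S.f_mem_X hiU⟩ : S.X)
      (by rw [← Subgroup.orderOf_coe]
          exact F.orderOf_f (classes_invol i (Or.inr (Or.inl hiq))).1
            (classes_invol i (Or.inr (Or.inl hiq))).2.1)
      (S.mem_sylX.2 ⟨i, hiU, rfl⟩)
      (fun h => hiE (F.f_mem_sub.1 (show F.f i ∈ F.sub mE mE_ok.1 from h))) with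
    ⟨M, -, hM2, hM⟩ | ⟨g, hg⟩
  · exact ⟨M, hM2, fun h => hM⟩
  · exfalso
    obtain ⟨j, hj, hje⟩ := hg
    change F.f j = g.1 * F.f i * g.1⁻¹ at hje
    have hci : IsConj (F.f i) (F.f j) := hje ▸ isConj_conj _ _
    have hnz : ¬ IsConj F.z (F.f i) := fun h => F.not_conj_z_u (h.trans (F.conj_qa hiq).symm)
    have hgu : g.1 * F.u * g.1⁻¹ = F.u := mul_inv_eq_iff_eq_mul.2 (S.mem_X.1 g.2)
    rcases mE_facts.2.2.2 j hj with rfl | rfl | hj' | hj'
    · rw [F.map_one, eq_comm, conj_eq_one_iff, F.eq_one_iff] at hje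
      exact (classes_invol i (Or.inr (Or.inl hiq))).2.1 hje
    · rw [show F.f uI = F.u from rfl, ← hgu, mul_left_inj, mul_right_inj] at hje
      exact hiu (F.inj hje).symm
    · exact hnz ((S.two.inZ j (e3_facts j hj').2.1).trans hci.symm)
    · have h1 : IsConj (F.f (mul i uI)) (F.f (mul j uI)) := by
        refine isConj_iff.2 ⟨g.1, ?_⟩
        rw [F.map_mul, F.map_mul, hje, show F.f uI = F.u from rfl]
        calc g.1 * (F.f i * F.u) * g.1⁻¹ = g.1 * F.f i * g.1⁻¹ * (g.1 * F.u * g.1⁻¹) := by group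
          _ = _ := by rw [hgu]
      exact F.not_conj_z_u (((S.two.inZ _ (e3_facts _ hj').2.1).trans h1.symm).trans
        (F.conj_qa hiuq).symm)

theorem exists_sign : ∃ p : G → Prop, Sign S p := by
  obtain ⟨htU, huU, -, -, -, htuU, -⟩ := t_facts
  obtain ⟨M, hM, htM⟩ := S.exists_index_two (Or.inl rfl)
  obtain ⟨M', hM', htuM⟩ := S.exists_index_two (Or.inr rfl)
  have hu : F.u ∈ S.X := S.f_mem_X huU
  have ht : F.t ∈ S.X := S.f_mem_X htU
  have htu : (⟨F.f (mul tI uI), S.f_mem_X htuU⟩ : S.X) = ⟨F.t, ht⟩ * ⟨F.u, hu⟩ :=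
    Subtype.ext (F.map_mul tI uI)
  have mk : ∀ q : S.X → Prop, (∀ a b, q (a * b) ↔ (q a ↔ q b)) → q ⟨F.u, hu⟩ → ¬ q ⟨F.t, ht⟩ →
      ∃ p : G → Prop, Sign S p := by
    intro q hq h1 h2
    refine ⟨fun g => ∃ h : g ∈ S.X, q ⟨g, h⟩, ⟨fun a b ha hb => ?_, ⟨hu, h1⟩, fun ⟨_, h⟩ => h2 h⟩⟩
    constructor
    · rintro ⟨h, hab⟩
      have := (hq ⟨a, ha⟩ ⟨b, hb⟩).1 hab
      exact ⟨fun ⟨_, x⟩ => ⟨hb, this.1 x⟩, fun ⟨_, x⟩ => ⟨ha, this.2 x⟩⟩
    · intro h
      exact ⟨S.X.mul_mem ha hb, (hq ⟨a, ha⟩ ⟨b, hb⟩).2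
        ⟨fun x => (h.1 ⟨ha, x⟩).2, fun x => (h.2 ⟨hb, x⟩).2⟩⟩
  have hnt : (⟨F.t, ht⟩ : S.X) ∉ M := htM ht
  by_cases h : (⟨F.u, hu⟩ : S.X) ∈ M
  · exact mk (· ∈ M) (fun a b => Subgroup.mul_mem_iff_of_index_two hM) h hnt
  by_cases h' : (⟨F.u, hu⟩ : S.X) ∈ M'
  · refine mk (· ∈ M') (fun a b => Subgroup.mul_mem_iff_of_index_two hM') h' fun hc => ?_
    exact htuM (S.f_mem_X htuU) (by rw [htu]; exact M'.mul_mem hc h')
  · refine mk (fun a => a ∈ M ↔ a ∈ M') (fun a b => ?_) (iff_of_false h h') fun hc => ?_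
    · rw [Subgroup.mul_mem_iff_of_index_two hM, Subgroup.mul_mem_iff_of_index_two hM']
      tauto
    · refine htuM (S.f_mem_X htuU) ?_
      rw [htu, Subgroup.mul_mem_iff_of_index_two hM']
      exact iff_of_false (fun hh => hnt (hc.2 hh)) h'

end Setting

namespace Sign

variable {G : Type*} [Group G] [Finite G] {F : Frame G} {S : Setting F} {p : G → Prop}
  (P : Sign S p)
include P

theorem one : p 1 := by
  have h := P.hmul 1 1 S.X.one_mem S.X.one_mem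
  rw [one_mul] at h
  tauto

theorem inv' {a : G} (ha : a ∈ S.X) : p a⁻¹ ↔ p a := by
  have h := P.hmul a a⁻¹ ha (S.X.inv_mem ha)
  rw [mul_inv_cancel] at h
  have := P.one
  tauto

theorem conj {g a : G} (hg : g ∈ S.X) (ha : a ∈ S.X) : p (g * a * g⁻¹) ↔ p a := by
  have h1 := P.hmul (g * a) g⁻¹ (S.X.mul_mem hg ha) (S.X.inv_mem hg)
  have h2 := P.hmul g a hg ha
  have h3 := P.inv' hg
  tauto

theorem sq {a : G} (ha : a ∈ S.X) : p (a * a) := by
  have := P.hmul a a ha ha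
  tauto

theorem of_odd {a : G} (ha : a ∈ S.X) (ho : Odd (orderOf a)) : p a := by
  obtain ⟨k, hk⟩ := ho
  have h : a = a ^ (k + 1) * a ^ (k + 1) := by
    rw [← pow_add]
    conv_lhs => rw [← pow_one a]
    rw [show k + 1 + (k + 1) = orderOf a + 1 by omega, pow_add, pow_orderOf_eq_one, one_mul]
  rw [h]
  exact P.sq (S.X.pow_mem ha _)

theorem py : p S.y := P.of_odd S.y_mem (by rw [S.orderOf_y]; decide)

theorem pD {x : G} (hx : S.D x) : p x := by
  have hz : p F.z := by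
    obtain ⟨k, -, hk⟩ := S.e3_pow (e := bI) (by simp [e3])
    obtain ⟨l, -, hl⟩ := S.e3_pow (e := bzI) (by simp [e3])
    have hb : p (F.f bI) ↔ p F.z := by
      rw [← hk]; exact P.conj (S.X.pow_mem S.y_mem k) (S.D_mem S.D_z)
    have hbz : p (F.f bzI) ↔ p F.z := by
      rw [← hl]; exact P.conj (S.X.pow_mem S.y_mem l) (S.D_mem S.D_z)
    have h := P.hmul (F.f bI) F.z (S.D_mem (S.D_f (by simp [e3]))) (S.D_mem S.D_z)
    have e : F.f bI * F.z = F.f bzI := by rw [Frame.z, ← F.map_mul, special_mul.1]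
    rw [e] at h
    tauto
  obtain ⟨g, hg, rfl⟩ := S.D_transitive hx
  exact (P.conj hg (S.D_mem S.D_z)).2 hz

theorem pmE {i : Ix} (hi : i ∈ mE) : p (F.f i) := by
  rcases mE_facts.2.2.2 i hi with rfl | rfl | h | h
  · rw [F.map_one]; exact P.one
  · exact P.pu
  · exact P.pD (S.D_f h)
  · have hu := S.f_mem_X t_facts.2.1
    have h1 := P.pD (S.D_f h)
    rw [F.map_mul, P.hmul _ _ (S.f_mem_X (mE_facts.1 i hi).1) hu] at h1
    exact h1.2 P.pu

theorem mem_mE {i : Ix} (hi : i ∈ tU) (h : p (F.f i)) : i ∈ mE := by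
  rcases mE_facts.2.1 i hi with h' | h'
  · exact h'
  · have hp := P.pmE h'
    have ht := S.f_mem_X t_facts.1
    rw [F.map_mul, P.hmul _ _ ht (S.f_mem_X hi)] at hp
    exact absurd (hp.2 h) P.nt

/-- The involutions of even sign. -/
theorem invol_cases {i : G} (hi : i ∈ S.X) (hp : p i) (h2 : orderOf i = 2) :
    i = F.u ∨ S.D i ∨ S.D (i * F.u) := by
  obtain ⟨c, hc, j, hj, e⟩ := S.exists_conj_tU hi (k := 1) (by
    rw [pow_one, pow_two]; exact sq_of_orderOf_two h2)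
  have hjm : j ∈ mE := P.mem_mE hj (by rw [← e]; exact (P.conj hc hi).2 hp)
  have hci := S.X.inv_mem hc
  have hback : i = c⁻¹ * F.f j * c⁻¹⁻¹ := by rw [← e]; group
  have hcu : c⁻¹ * F.u * c⁻¹⁻¹ = F.u := mul_inv_eq_iff_eq_mul.2 (S.mem_X.1 hci)
  rcases mE_facts.2.2.2 j hjm with rfl | rfl | h | h
  · rw [hback, F.map_one, mul_one, mul_inv_cancel, orderOf_one] at h2; omega
  · exact Or.inl (hback.trans hcu)
  · exact Or.inr (Or.inl (hback ▸ S.D_conj hci (S.D_f h)))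
  · refine Or.inr (Or.inr ?_)
    have h3 := S.D_conj hci (S.D_f h)
    rw [F.map_mul, show F.f uI = F.u from rfl] at h3
    convert h3 using 1
    calc i * F.u = c⁻¹ * F.f j * c⁻¹⁻¹ * (c⁻¹ * F.u * c⁻¹⁻¹) := by rw [hcu, ← hback]
      _ = _ := by group

end Sign

end Cfsg.Agent.M12Inv51
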