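import Cfsg.Agent.Lib.M12Inv51CertC0
import Cfsg.Agent.Lib.M12Inv51CertC1
import Cfsg.Agent.Lib.M12Inv51CertC2
import Cfsg.Agent.Lib.M12Inv51CertC3
import Cfsg.Agent.Lib.M12Inv51CertC4

/-! All deductions of the coset certificate hold. -/

set_option autoImplicit false
set_option maxRecDepth 100000
set_option Elab.async false

namespace Cfsg.Agent.M12Inv51CertValid

open Cfsg.Agent.CosetCertCore Cfsg.Agent.M12Inv51CertData

theorem all_valid {G X : Type*} [Group G] [MulAction G X] (g : Nat → G) (base : X) (h : Ctx g base cert) :
    AllValid g (nodeVal g base cert) cert 10225 := by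
  have h0 : AllValid g (nodeVal g base cert) cert 0 := fun _ hi => absurd hi (Nat.not_lt_zero _)
  have h1 := checkList_sound g base h M12Inv51CertC0.just0 0 h0 M12Inv51CertC0.check0
  rw [M12Inv51CertC0.len0] at h1
  have h2 := checkList_sound g base h M12Inv51CertC0.just1 256 h1 M12Inv51CertC0.check1
  rw [M12Inv51CertC0.len1] at h2
  have h3 := checkList_sound g base h M12Inv51CertC0.just2 512 h2 M12Inv51CertC0.check2
  rw [M12Inv51CertC0.len2] at h3
  have h4 := checkList_sound g base h M12Inv51CertC0.just3 768 h3 M12Inv51CertC0.check3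
  rw [M12Inv51CertC0.len3] at h4
  have h5 := checkList_sound g base h M12Inv51CertC0.just4 1024 h4 M12Inv51CertC0.check4
  rw [M12Inv51CertC0.len4] at h5
  have h6 := checkList_sound g base h M12Inv51CertC0.just5 1280 h5 M12Inv51CertC0.check5
  rw [M12Inv51CertC0.len5] at h6
  have h7 := checkList_sound g base h M12Inv51CertC0.just6 1536 h6 M12Inv51CertC0.check6
  rw [M12Inv51CertC0.len6] at h7
  have h8 := checkList_sound g base h M12Inv51CertC0.just7 1792 h7 M12Inv51CertC0.check7
  rw [M12Inv51CertC0.len7] at h8
  have h9 := checkList_sound g base h M12Inv51CertC0.just8 2048 h8 M12Inv51CertC0.check8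
  rw [M12Inv51CertC0.len8] at h9
  have h10 := checkList_sound g base h M12Inv51CertC1.just9 2304 h9 M12Inv51CertC1.check9
  rw [M12Inv51CertC1.len9] at h10
  have h11 := checkList_sound g base h M12Inv51CertC1.just10 2560 h10 M12Inv51CertC1.check10
  rw [M12Inv51CertC1.len10] at h11
  have h12 := checkList_sound g base h M12Inv51CertC1.just11 2816 h11 M12Inv51CertC1.check11
  rw [M12Inv51CertC1.len11] at h12
  have h13 := checkList_sound g base h M12Inv51CertC1.just12 3072 h12 M12Inv51CertC1.check12
  rw [M12Inv51CertC1.len12] at h13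
  have h14 := checkList_sound g base h M12Inv51CertC1.just13 3328 h13 M12Inv51CertC1.check13
  rw [M12Inv51CertC1.len13] at h14
  have h15 := checkList_sound g base h M12Inv51CertC1.just14 3584 h14 M12Inv51CertC1.check14
  rw [M12Inv51CertC1.len14] at h15
  have h16 := checkList_sound g base h M12Inv51CertC1.just15 3840 h15 M12Inv51CertC1.check15
  rw [M12Inv51CertC1.len15] at h16
  have h17 := checkList_sound g base h M12Inv51CertC1.just16 4096 h16 M12Inv51CertC1.check16
  rw [M12Inv51CertC1.len16] at h17
  have h18 := checkList_sound g base h M12Inv51CertC1.just17 4352 h17 M12Inv51CertC1.check17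
  rw [M12Inv51CertC1.len17] at h18
  have h19 := checkList_sound g base h M12Inv51CertC2.just18 4608 h18 M12Inv51CertC2.check18
  rw [M12Inv51CertC2.len18] at h19
  have h20 := checkList_sound g base h M12Inv51CertC2.just19 4864 h19 M12Inv51CertC2.check19
  rw [M12Inv51CertC2.len19] at h20
  have h21 := checkList_sound g base h M12Inv51CertC2.just20 5120 h20 M12Inv51CertC2.check20
  rw [M12Inv51CertC2.len20] at h21
  have h22 := checkList_sound g base h M12Inv51CertC2.just21 5376 h21 M12Inv51CertC2.check21
  rw [M12Inv51CertC2.len21] at h22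
  have h23 := checkList_sound g base h M12Inv51CertC2.just22 5632 h22 M12Inv51CertC2.check22
  rw [M12Inv51CertC2.len22] at h23
  have h24 := checkList_sound g base h M12Inv51CertC2.just23 5888 h23 M12Inv51CertC2.check23
  rw [M12Inv51CertC2.len23] at h24
  have h25 := checkList_sound g base h M12Inv51CertC2.just24 6144 h24 M12Inv51CertC2.check24
  rw [M12Inv51CertC2.len24] at h25
  have h26 := checkList_sound g base h M12Inv51CertC2.just25 6400 h25 M12Inv51CertC2.check25
  rw [M12Inv51CertC2.len25] at h26
  have h27 := checkList_sound g base h M12Inv51CertC2.just26 6656 h26 M12Inv51CertC2.check26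
  rw [M12Inv51CertC2.len26] at h27
  have h28 := checkList_sound g base h M12Inv51CertC3.just27 6912 h27 M12Inv51CertC3.check27
  rw [M12Inv51CertC3.len27] at h28
  have h29 := checkList_sound g base h M12Inv51CertC3.just28 7168 h28 M12Inv51CertC3.check28
  rw [M12Inv51CertC3.len28] at h29
  have h30 := checkList_sound g base h M12Inv51CertC3.just29 7424 h29 M12Inv51CertC3.check29
  rw [M12Inv51CertC3.len29] at h30
  have h31 := checkList_sound g base h M12Inv51CertC3.just30 7680 h30 M12Inv51CertC3.check30
  rw [M12Inv51CertC3.len30] at h31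
  have h32 := checkList_sound g base h M12Inv51CertC3.just31 7936 h31 M12Inv51CertC3.check31
  rw [M12Inv51CertC3.len31] at h32
  have h33 := checkList_sound g base h M12Inv51CertC3.just32 8192 h32 M12Inv51CertC3.check32
  rw [M12Inv51CertC3.len32] at h33
  have h34 := checkList_sound g base h M12Inv51CertC3.just33 8448 h33 M12Inv51CertC3.check33
  rw [M12Inv51CertC3.len33] at h34
  have h35 := checkList_sound g base h M12Inv51CertC3.just34 8704 h34 M12Inv51CertC3.check34
  rw [M12Inv51CertC3.len34] at h35
  have h36 := checkList_sound g base h M12Inv51CertC3.just35 8960 h35 M12Inv51CertC3.check35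
  rw [M12Inv51CertC3.len35] at h36
  have h37 := checkList_sound g base h M12Inv51CertC4.just36 9216 h36 M12Inv51CertC4.check36
  rw [M12Inv51CertC4.len36] at h37
  have h38 := checkList_sound g base h M12Inv51CertC4.just37 9472 h37 M12Inv51CertC4.check37
  rw [M12Inv51CertC4.len37] at h38
  have h39 := checkList_sound g base h M12Inv51CertC4.just38 9728 h38 M12Inv51CertC4.check38
  rw [M12Inv51CertC4.len38] at h39
  have h40 := checkList_sound g base h M12Inv51CertC4.just39 9984 h39 M12Inv51CertC4.check39
  rw [M12Inv51CertC4.len39] at h40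
  exact h40

end Cfsg.Agent.M12Inv51CertValid
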