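import Cfsg.Agent.Lib.M12Inv51Pairs

/-!
Two classes of involutions and Thompson's order formula for a group with the given centralizer.
-/

set_option autoImplicit false
set_option maxRecDepth 100000

namespace Cfsg.Agent.M12Inv51

open Cfsg.Agent.M12Inv51Data

theorem card_class_mul {G : Type*} [Group G] [Finite G] (a : G) :
    Nat.card {x : G // IsConj a x} * Nat.card (Subgroup.centralizer ({a} : Set G)) = Nat.card G := by
  have h := (MulAction.stabilizer (ConjAct G) a).card_mul_index
  rw [MulAction.index_stabilizer, ← Nat.card_coe_set_eq,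
    Nat.card_congr ConjAct.ofConjAct.toEquiv] at h
  have e1 : MulAction.orbit (ConjAct G) a = {x | IsConj a x} := by
    ext x
    rw [ConjAct.mem_orbit_conjAct]
    exact isConj_comm
  have e2 : Nat.card (MulAction.stabilizer (ConjAct G) a) =
      Nat.card (Subgroup.centralizer ({a} : Set G)) := by
    rw [Subgroup.centralizer_eq_comap_stabilizer]
    exact Nat.card_congr
      { toFun := fun c => ⟨ConjAct.ofConjAct c.1, Subgroup.mem_comap.2 c.2⟩
        invFun := fun c => ⟨ConjAct.toConjAct c.1, c.2⟩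
        left_inv := fun c => rfl
        right_inv := fun c => rfl }
  rw [e1, e2, mul_comm] at h
  exact h

/-- The members of the first class when `o` is not fused with `z`. -/
def blA : List Ix := zI :: qbI
/-- The members of the second class then. -/
def alA : List Ix := qaI ++ oIs
/-- The members of the first class when `o` is fused with `z`. -/
def blB : List Ix := zI :: (qbI ++ oIs)
/-- The members of the second class then. -/
def alB : List Ix := qaI

/-- Some power is the central involution. -/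
noncomputable def hit (m : Ix) : Bool := (List.range 24).any fun k => pw m k == zI

theorem pw_24 : ∀ m : Ix, pw m 24 = 0 := by decide +kernel

theorem listsA_invol : ∀ i ∈ blA ++ alA, mul i i = 0 ∧ i ≠ 0 := by decide +kernel

theorem listsB_invol : ∀ i ∈ blB ++ alB, mul i i = 0 ∧ i ≠ 0 := by decide +kernel

theorem listsA_zmul : ∀ j ∈ alA, comm zI j = true → mul zI j ∈ alA := by decide +kernel

theorem listsB_zmul : ∀ j ∈ alB, comm zI j = true → mul zI j ∈ alB := by decide +kernel

theorem hit_card_A :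
    (((blA.toFinset ×ˢ alA.toFinset)).filter fun p => hit (mul p.1 p.2) = true).card = 48 := by
  decide +kernel

theorem hit_card_B :
    (((blB.toFinset ×ˢ alB.toFinset)).filter fun p => hit (mul p.1 p.2) = true).card = 240 := by
  decide +kernel

/-- The two classes meet the centralizer in the given lists. -/
structure Two {G : Type*} [Group G] (F : Frame G) (bl al : List Ix) : Prop where
  inZ : ∀ i ∈ bl, IsConj F.z (F.f i)
  inU : ∀ i ∈ al, IsConj F.u (F.f i)
  invol : ∀ i ∈ bl ++ al, mul i i = 0 ∧ i ≠ 0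
  cover : ∀ i : Ix, i = zI ∨ i ∈ qbI ∨ i ∈ qaI ∨ i ∈ oIs → i ∈ bl ∨ i ∈ al
  zmul : ∀ j ∈ al, comm zI j = true → mul zI j ∈ al

namespace Two

variable {G : Type*} [Group G] [Finite G] {F : Frame G} {bl al : List Ix}

theorem all (T : Two F bl al) {x : G} (hx : orderOf x = 2) : IsConj F.z x ∨ IsConj F.u x := by
  obtain ⟨r, hr, hrx⟩ := F.conj_rep hx
  have key : ∀ i, (i = zI ∨ i ∈ qbI ∨ i ∈ qaI ∨ i ∈ oIs) → r = F.f i →
      IsConj F.z x ∨ IsConj F.u x := by
    rintro i hi rfl
    rcases T.cover i hi with h | h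
    · exact Or.inl ((T.inZ i h).trans hrx)
    · exact Or.inr ((T.inU i h).trans hrx)
  obtain ⟨-, -, -, -, -, -, hb, hu, ho, -, -⟩ := special_mem
  rcases hr with h | h | h | h
  · exact key zI (Or.inl rfl) h
  · exact key bI (Or.inr (Or.inl hb)) h
  · exact key uI (Or.inr (Or.inr (Or.inl hu))) h
  · exact key oI (Or.inr (Or.inr (Or.inr ho))) h

theorem mem_bl (T : Two F bl al) {i : Ix} (h : IsConj F.z (F.f i)) : i ∈ bl := by
  have h2 : orderOf (F.f i) = 2 := by
    obtain ⟨g, hg⟩ := isConj_iff.1 h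
    rw [← hg, SignalizerStrongEmb.orderOf_conj, F.orderOf_z]
  have hsq := F.sq_eq_one_iff.1 (sq_of_orderOf_two h2)
  have h0 : i ≠ 0 := fun e => by rw [e, F.map_one, orderOf_one] at h2; omega
  refine (T.cover i (invol_cases hsq h0)).resolve_right fun hal => ?_
  exact F.not_conj_z_u (h.trans (T.inU i hal).symm)

theorem mem_al (T : Two F bl al) {i : Ix} (h : IsConj F.u (F.f i)) : i ∈ al := by
  have h2 : orderOf (F.f i) = 2 := by
    obtain ⟨g, hg⟩ := isConj_iff.1 h
    rw [← hg, SignalizerStrongEmb.orderOf_conj, Frame.u,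
      F.orderOf_f (classes_invol uI (Or.inr (Or.inl special_mem.2.2.2.2.2.2.2.1))).1
        (classes_invol uI (Or.inr (Or.inl special_mem.2.2.2.2.2.2.2.1))).2.1]
  have hsq := F.sq_eq_one_iff.1 (sq_of_orderOf_two h2)
  have h0 : i ≠ 0 := fun e => by rw [e, F.map_one, orderOf_one] at h2; omega
  refine (T.cover i (invol_cases hsq h0)).resolve_left fun hbl => ?_
  exact F.not_conj_z_u ((T.inZ i hbl).trans h.symm)

theorem orderOf_u' : orderOf F.u = 2 :=
  F.orderOf_f (classes_invol uI (Or.inr (Or.inl special_mem.2.2.2.2.2.2.2.1))).1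
    (classes_invol uI (Or.inr (Or.inl special_mem.2.2.2.2.2.2.2.1))).2.1

theorem mul_u (T : Two F bl al) {x : G} (hx : IsConj F.z x) (hc : Commute x F.u) :
    IsConj F.u (x * F.u) := by
  obtain ⟨g, rfl⟩ := isConj_iff.1 hx
  have h1 : g⁻¹ * F.u * g * F.z = F.z * (g⁻¹ * F.u * g) := by
    calc g⁻¹ * F.u * g * F.z = g⁻¹ * (F.u * (g * F.z * g⁻¹)) * g := by group
      _ = g⁻¹ * (g * F.z * g⁻¹ * F.u) * g := by rw [hc.eq]
      _ = _ := by group
  obtain ⟨j, hj⟩ := F.exists_of_commute h1
  have hju : IsConj F.u (F.f j) := hj ▸ (by simpa using isConj_conj g⁻¹ F.u)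
  have hjal := T.mem_al hju
  have hcm : comm zI j = true := F.commute_iff.1 (F.commute_z j).symm
  refine ((T.inU _ (T.zmul j hjal hcm)).trans (isConj_conj g _)).trans ?_
  rw [F.map_mul, hj, show g * (F.f zI * (g⁻¹ * F.u * g)) * g⁻¹ =
    g * F.f zI * g⁻¹ * F.u by group]
  exact IsConj.refl _

theorem card_hit (T : Two F bl al) :
    Nat.card {p : G × G // IsConj F.z p.1 ∧ IsConj F.u p.2 ∧ F.z ∈ Subgroup.zpowers (p.1 * p.2)} =
      ((bl.toFinset ×ˢ al.toFinset).filter fun p => hit (mul p.1 p.2) = true).card := by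
  classical
  rw [← Nat.card_eq_finsetCard]
  have hmem : ∀ q : {x // x ∈ (bl.toFinset ×ˢ al.toFinset).filter fun p => hit (mul p.1 p.2) = true},
      IsConj F.z (F.f q.1.1) ∧ IsConj F.u (F.f q.1.2) ∧
        F.z ∈ Subgroup.zpowers (F.f q.1.1 * F.f q.1.2) := by
    intro q
    have h := Finset.mem_filter.1 q.2
    rw [Finset.mem_product, List.mem_toFinset, List.mem_toFinset] at h
    refine ⟨T.inZ _ h.1.1, T.inU _ h.1.2, ?_⟩
    simp only [hit, List.any_eq_true, beq_iff_eq] at h
    obtain ⟨k, -, hk⟩ := h.2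
    refine ⟨(k : ℤ), ?_⟩
    show (F.f q.1.1 * F.f q.1.2) ^ (k : ℤ) = F.z
    rw [zpow_natCast, ← F.map_mul, ← F.map_pw, hk]; rfl
  refine (Nat.card_congr (Equiv.ofBijective (fun q => ⟨(F.f q.1.1, F.f q.1.2), hmem q⟩) ⟨?_, ?_⟩)).symm
  · intro a c e
    have e' := congrArg Subtype.val e
    exact Subtype.ext (Prod.ext (F.inj (congrArg Prod.fst e')) (F.inj (congrArg Prod.snd e')))
  · rintro ⟨⟨a, c⟩, ha, hc, hm⟩
    have hord : ∀ {r s : G}, IsConj r s → orderOf r = 2 → orderOf s = 2 := fun {r s} h hr => by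
      obtain ⟨g, rfl⟩ := isConj_iff.1 h
      rw [SignalizerStrongEmb.orderOf_conj, hr]
    obtain ⟨haz, hcz⟩ := zpow_commute (hord ha F.orderOf_z) (hord hc orderOf_u') F.orderOf_z hm
    obtain ⟨i, rfl⟩ := F.exists_of_commute haz
    obtain ⟨j, rfl⟩ := F.exists_of_commute hcz
    refine ⟨⟨(i, j), Finset.mem_filter.2 ⟨Finset.mem_product.2
      ⟨List.mem_toFinset.2 (T.mem_bl ha), List.mem_toFinset.2 (T.mem_al hc)⟩, ?_⟩⟩, rfl⟩
    simp only [hit, List.any_eq_true, beq_iff_eq, List.mem_range]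
    obtain ⟨k, hk⟩ := hm
    change (F.f i * F.f j) ^ k = F.z at hk
    refine ⟨(k % 24).toNat, by omega, ?_⟩
    apply F.inj
    rw [F.map_pw, ← zpow_natCast, Int.toNat_of_nonneg (Int.emod_nonneg k (by norm_num)), F.map_mul]
    have h24 : (F.f i * F.f j) ^ ((24 : ℕ) : ℤ) = 1 := by
      rw [zpow_natCast, ← F.map_mul, ← F.map_pw, pw_24, F.map_one]
    show _ = F.z
    rw [← hk]
    conv_rhs => rw [← Int.mul_ediv_add_emod k 24, zpow_add, zpow_mul]
    rw [show ((24 : ℕ) : ℤ) = (24 : ℤ) from rfl] at h24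
    rw [h24, one_zpow, one_mul]

/-- Thompson's formula in this situation. -/
theorem order (T : Two F bl al) :
    Nat.card G = Nat.card (Subgroup.centralizer ({F.u} : Set G)) *
        ((bl.toFinset ×ˢ al.toFinset).filter fun p => hit (mul p.1 p.2) = true).card +
      192 * Nat.card {p : G × G // (IsConj F.z p.1 ∧ Commute p.1 F.u) ∧
        (IsConj F.z p.2 ∧ Commute p.2 F.u) ∧ Odd (orderOf (p.1 * p.2))} := by
  have h := S0213.result F.z F.u F.orderOf_z orderOf_u' F.not_conj_z_u fun t ht => T.all ht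
  rw [T.card_hit, card_pairs orderOf_u' F.orderOf_z (fun x hx hc => T.mul_u hx hc) F.not_conj_z_u,
    F.card_centralizer] at h
  exact h

end Two

end Cfsg.Agent.M12Inv51
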