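import Cfsg.Agent.Lib.M12Inv51Frame
import Cfsg.Agent.Lib.M12Inv51ClassData
import Cfsg.Agent.Lib.GolayOutM12
import Cfsg.Agent.Lib.GolayEnumComp
import Cfsg.Prelude.Def_SporadicB

/-!
Finite checks on the encoded permutations.
-/

set_option autoImplicit false
set_option maxRecDepth 100000
set_option Elab.async false

namespace Cfsg.Agent.M12Inv51

open Cfsg Cfsg.Agent.GolayBasic Cfsg.Agent.GolayPerm Cfsg.Agent.GolayEnumComp Cfsg.Agent.GolaySolve
open Cfsg.Agent.GolayOutConst Cfsg.Agent.M12Inv51Data Cfsg.Agent.M12Inv51ClassData

/-- A sixteen bit entry. -/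
def byteAt16 (t i : Nat) : Nat := Nat.land (Nat.shiftRight t (16 * i)) 65535

/-- The code of a member. -/
def code (i : Ix) : Nat := codes.getD i.1 0

theorem code_mem : ∀ i : Ix, memCheck [] 340831 (code i) = true := by decide +kernel

theorem code_canon : ∀ i : Ix, pcomp (code i) idP = code i := by decide +kernel

/-- The predecessor of a member in the tree of words. -/
def par (j : Ix) : Ix := ix (byteAt16 parT j.1 / 8)
/-- The last generator of a member. -/
def lastGen (j : Ix) : Ix := ix (genL.getD (byteAt16 parT j.1 % 8) 0)

theorem code_mul_gen : ∀ k : Fin 5, ∀ i : Ix,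
    code (mul i (ix (genL.getD k.1 0))) = pcomp (code i) (code (ix (genL.getD k.1 0))) := by
  decide +kernel

theorem tree_ok : ∀ j : Ix, j ≠ 0 → (par j).1 < j.1 ∧ mul (par j) (lastGen j) = j ∧
    byteAt16 parT j.1 % 8 < 5 := by decide +kernel

theorem mul_zero' : ∀ i : Ix, mul i 0 = i := by decide +kernel

theorem tree_assoc : ∀ i j : Ix, mul i j = if j = 0 then i else mul (mul i (par j)) (lastGen j) := by
  decide +kernel

theorem code_valid' (i : Ix) : valid (code i) = true := (memCheck_spec (code_mem i)).1

theorem code_zero : code 0 = idP := by decide +kernel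

theorem permOf_code_mul (n : Nat) : ∀ i j : Ix, j.1 = n →
    permOf (code (mul i j)) = permOf (code i) * permOf (code j) := by
  induction n using Nat.strong_induction_on with
  | _ n ih =>
    intro i j hj
    by_cases h0 : j = 0
    · subst h0
      rw [mul_zero', code_zero, permOf_idP, mul_one]
    · obtain ⟨hlt, hmul, hg⟩ := tree_ok j h0
      have hgen : ∀ x : Ix, permOf (code (mul x (lastGen j))) =
          permOf (code x) * permOf (code (lastGen j)) := fun x =>
        permOf_pcomp (code_valid' _) (code_valid' _) (code_valid' _) (code_mul_gen ⟨_, hg⟩ x)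
      have e := tree_assoc i j
      rw [if_neg h0] at e
      have hp := ih _ (hj ▸ hlt) i (par j) rfl
      rw [e, hgen, hp, mul_assoc, ← hgen, hmul]

theorem codes_nodup : codes.Nodup ∧ codes.length = 192 := by decide +kernel

/-- One entry of the class follows from an earlier one. -/
def stepOK (k : Nat) : Bool :=
  let e := orbit.getD k (0, 0, false)
  let p := (orbit.getD e.2.1 (0, 0, false)).1
  valid e.1 && pcomp e.1 idP == e.1 &&
    if k = 0 then e.1 == code zI
    else decide (e.2.1 < k) &&
      (if e.2.2 then e.1 == pcomp (pcomp pC p) pC else e.1 == pcomp (pcomp pT p) pTinv)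

theorem steps_ok : ∀ k : Fin 495, stepOK k = true := by decide +kernel

theorem gen_checks : memCheck [] 340831 pT = true ∧ memCheck [] 340831 pC = true ∧
    valid pTinv = true ∧ pcomp pT pTinv = idP ∧ pcomp pC pC = idP ∧ valid idP = true := by
  decide +kernel

theorem mid_valid : ∀ k : Fin 495, valid (pcomp pT (orbit.getD k.1 (0, 0, false)).1) = true ∧
    valid (pcomp pC (orbit.getD k.1 (0, 0, false)).1) = true := by decide +kernel

theorem sorted_check : incrFrom 0 sorted = true ∧ sorted.length = 495 ∧ orbit.length = 495 ∧
    (sorted.all fun a => (orbit.map (·.1)).elem a) = true := by decide +kernel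

end Cfsg.Agent.M12Inv51
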