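import Cfsg.Agent.Lib.M12Inv51Fusion

/-!
The second 2-local: fusion of the central involution and the element `n` normalising the centralizer
of a four group.
-/

set_option autoImplicit false
set_option maxRecDepth 100000

namespace Cfsg.Agent.M12Inv51

open Cfsg.Agent.M12Inv51Data

section zstar

variable {G : Type*} [Group G] [Finite G]

/-- In a simple nonabelian group an involution is fused with another member of its Sylow group. -/
theorem exists_fused [IsSimpleGroup G] (hG : ¬ IsMulCommutative G) (P : Sylow 2 G) {u : G}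
    (hu : orderOf u = 2) (huP : u ∈ P) : ∃ g : G, g * u * g⁻¹ ∈ P ∧ g * u * g⁻¹ ≠ u := by
  by_contra hc
  push Not at hc
  obtain ⟨N, hN, hodd, hcomm⟩ := S0215.result P u hu huP hc
  have heven : 2 ∣ Nat.card G := hu ▸ orderOf_dvd_natCard u
  rcases Subgroup.Normal.eq_bot_or_eq_top hN with h | h
  · have hcen : u ∈ Subgroup.center G := Subgroup.mem_center_iff.2 fun g => by
      have h1 := hcomm g
      rw [h, Subgroup.mem_bot] at h1
      calc g * u = (u * g * u⁻¹ * g⁻¹) * (g * u) := by rw [h1, one_mul]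
        _ = u * g := by group
    rcases Subgroup.Normal.eq_bot_or_eq_top (inferInstance : (Subgroup.center G).Normal) with h2 | h2
    · rw [h2, Subgroup.mem_bot] at hcen
      rw [hcen, orderOf_one] at hu; omega
    · exact hG ⟨⟨fun a b => (Subgroup.mem_center_iff.1 (h2 ▸ Subgroup.mem_top b) a)⟩⟩
  · rw [h, Subgroup.card_top] at hodd
    exact Nat.not_even_iff_odd.2 hodd (even_iff_two_dvd.2 heven)

end zstar

theorem tO_two : ∃ x ∈ tO, ∃ y ∈ tO, x ∈ qbI ∧ y ∈ qbI ∧ mul x y = zI ∧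
    ∀ i ∈ tO, i = 0 ∨ i = zI ∨ i = x ∨ i = y ∨ i ∈ oIs := by decide +kernel

namespace Frame

variable {G : Type*} [Group G] [Finite G] (F : Frame G)

theorem z_mem_sylow : F.z ∈ F.sylow := F.mem_sylow.2 ⟨zI, special_mem.2.2.2.2.1, rfl⟩

theorem conj_z_b [IsSimpleGroup G] (hG : ¬ IsMulCommutative G) : IsConj F.z F.b := by
  by_contra hzb
  obtain ⟨g, hgP, hne⟩ := exists_fused hG F.sylow F.orderOf_z F.z_mem_sylow
  obtain ⟨i, -, hi⟩ := F.mem_sylow.1 hgP
  have hi2 : mul i i = 0 := F.sq_eq_one_iff.1 (by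
    rw [hi, show g * F.z * g⁻¹ * (g * F.z * g⁻¹) = g * (F.z * F.z) * g⁻¹ by group,
      sq_of_orderOf_two F.orderOf_z]
    group)
  have hzi : IsConj F.z (F.f i) := hi ▸ isConj_conj g F.z
  have hqa : ∀ {k}, k ∈ qaI → ¬ IsConj F.z (F.f k) := fun hk h =>
    F.not_conj_z_u (h.trans (F.conj_qa hk).symm)
  have hqb : ∀ {k}, k ∈ qbI → ¬ IsConj F.z (F.f k) := fun hk h =>
    hzb (h.trans (F.conj_qb hk).symm)
  have hio : i ∈ oIs := by
    rcases invol_cases hi2 (fun e => by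
      rw [e, F.map_one] at hi
      exact zI_invol.2 (F.eq_one_iff.1 (conj_eq_one_iff.1 hi.symm))) with rfl | h | h | h
    · exact absurd hi.symm hne
    · exact absurd hzi (hqb h)
    · exact absurd hzi (hqa h)
    · exact h
  have hzo : IsConj F.z (F.f oI) := hzi.trans (F.conj_o hio).symm
  have hle : F.sub tO tO_ok.1 ≤ Subgroup.centralizer ({F.f oI} : Set G) := by
    rintro x ⟨m, hm, rfl⟩
    rw [Subgroup.mem_centralizer_singleton_iff, F.commute_iff]
    exact (tO_spec m).1 hm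
  have h16 : 2 ^ (3 + 1) ∣ Nat.card (Subgroup.centralizer ({F.f oI} : Set G)) := by
    rw [← card_centralizer_of_isConj hzo, F.card_centralizer]; norm_num
  obtain ⟨h, hho, hh, hn, -⟩ :=
    exists_normalizing hle (k := 3) (by rw [F.card_sub, tO_ok.2]; rfl) h16
  obtain ⟨x, hx, y, hy, hxq, hyq, hxy, hall⟩ := tO_two
  have key : ∀ k, k ∈ tO → k ∈ qbI → ∃ m ∈ tO, F.f m = h * F.f k * h⁻¹ ∧ (m = x ∨ m = y) := by
    intro k hk hkq
    obtain ⟨m, hm, hm'⟩ := hn _ (F.f_mem_sub.2 hk)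
    refine ⟨m, hm, hm', ?_⟩
    have hc : IsConj F.b (F.f m) := (F.conj_qb hkq).trans (hm' ▸ isConj_conj h (F.f k))
    rcases hall m hm with rfl | rfl | rfl | rfl | h'
    · rw [F.map_one] at hm'
      exact absurd (F.eq_one_iff.1 (conj_eq_one_iff.1 hm'.symm))
        (classes_invol k (Or.inl hkq)).2.1
    · exact absurd hc.symm hzb
    · exact Or.inl rfl
    · exact Or.inr rfl
    · exact absurd ((hzo.trans (F.conj_o h')).trans hc.symm) hzb
  obtain ⟨m, -, hm', hmv⟩ := key x hx hxq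
  obtain ⟨n, -, hn', hnv⟩ := key y hy hyq
  have hmn : m ≠ n := fun e => by
    rw [e, hn', mul_left_inj, mul_right_inj, F.eq_iff] at hm'
    subst hm'
    rw [(classes_invol y (Or.inl hyq)).1] at hxy
    exact zI_invol.2 hxy.symm
  have hcomm : comm y x = true := by
    have h1 : F.f x * F.f y = F.z := by rw [← F.map_mul, hxy]; rfl
    rw [← F.commute_iff]
    have hx2 : F.f x * F.f x = 1 := F.sq_eq_one_iff.2 (classes_invol x (Or.inl hxq)).1
    have hy2 : F.f y * F.f y = 1 := F.sq_eq_one_iff.2 (classes_invol y (Or.inl hyq)).1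
    have hz2 : F.z * F.z = 1 := sq_of_orderOf_two F.orderOf_z
    calc F.f y * F.f x = (F.f x * F.f y)⁻¹ := by
          rw [mul_inv_rev, inv_eq_of_mul_eq_one_right hx2, inv_eq_of_mul_eq_one_right hy2]
      _ = F.f x * F.f y := by rw [h1, inv_eq_of_mul_eq_one_right hz2]
  have hfix : h * F.z * h⁻¹ = F.z := by
    have e1 : h * F.z * h⁻¹ = F.f m * F.f n := by
      rw [hm', hn', show F.z = F.f x * F.f y by rw [← F.map_mul, hxy]; rfl]; group
    rw [e1, ← F.map_mul]
    rcases hmv with rfl | rfl <;> rcases hnv with rfl | rfl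
    · exact absurd rfl hmn
    · exact congrArg F.f hxy
    · rw [comm_iff.1 hcomm]; exact congrArg F.f hxy
    · exact absurd rfl hmn
  rw [mul_inv_eq_iff_eq_mul] at hfix
  obtain ⟨k, rfl⟩ := F.exists_of_commute hfix
  refine hh (F.f_mem_sub.2 ((tO_spec k).2 ?_))
  have := Subgroup.mem_centralizer_singleton_iff.1 hho
  rwa [F.commute_iff] at this

end Frame

/-- An element exchanging `z` with `b z`, normalising the centralizer of the four group. -/
structure Ext {G : Type*} [Group G] (F : Frame G) where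
  n : G
  sq : n * n = 1
  fix_b : n * F.b * n⁻¹ = F.b
  move_z : n * F.z * n⁻¹ = F.f bzI
  norm : ∀ i ∈ rI, ∃ j ∈ rI, n * F.f i * n⁻¹ = F.f j

namespace Frame

variable {G : Type*} [Group G] [Finite G] (F : Frame G)

theorem nonempty_ext [IsSimpleGroup G] (hG : ¬ IsMulCommutative G) : Nonempty (Ext F) := by
  have hle : F.sub rI rI_ok.1 ≤ Subgroup.centralizer ({F.b} : Set G) := by
    rintro x ⟨m, hm, rfl⟩
    rw [Subgroup.mem_centralizer_singleton_iff, b, F.commute_iff]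
    exact (rI_spec m).1 hm
  have h64 : 2 ^ (5 + 1) ∣ Nat.card (Subgroup.centralizer ({F.b} : Set G)) := by
    rw [← card_centralizer_of_isConj (F.conj_z_b hG), F.card_centralizer]; norm_num
  obtain ⟨g, hgb, hg, hn, -⟩ :=
    exists_normalizing hle (k := 5) (by rw [F.card_sub, rI_ok.2]; rfl) h64
  have hgb' : g * F.b * g⁻¹ = F.b :=
    mul_inv_eq_iff_eq_mul.2 (Subgroup.mem_centralizer_singleton_iff.1 hgb)
  -- the image of z is central in the four group centralizer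
  obtain ⟨j, hjR, hj⟩ := hn F.z (F.f_mem_sub.2 special_mem.1)
  let φ : F.sub rI rI_ok.1 → F.sub rI rI_ok.1 := fun x => ⟨g * x.1 * g⁻¹, hn x.1 x.2⟩
  have hφs : Function.Surjective φ := Finite.injective_iff_surjective.1
    fun a c e => Subtype.ext (by simpa [φ] using e)
  have hall : (rI.all fun k => comm j k) = true := by
    rw [List.all_eq_true]
    intro k hk
    rw [← F.commute_iff, hj]
    obtain ⟨x, hx⟩ := hφs ⟨F.f k, F.f_mem_sub.2 hk⟩
    rw [← show g * x.1 * g⁻¹ = F.f k from congrArg Subtype.val hx]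
    obtain ⟨m, -, hm⟩ := x.2
    rw [← hm]
    calc g * F.z * g⁻¹ * (g * F.f m * g⁻¹) = g * (F.z * F.f m) * g⁻¹ := by group
      _ = g * (F.f m * F.z) * g⁻¹ := by rw [F.commute_z]
      _ = _ := by group
  have hgz : g * F.z * g⁻¹ = F.f bzI := by
    rw [← hj]
    rcases rI_center j hjR hall with rfl | rfl | rfl | rfl
    · rw [F.map_one] at hj
      exact absurd (F.eq_one_iff.1 (conj_eq_one_iff.1 hj.symm)) zI_invol.2
    · rw [eq_comm, mul_inv_eq_iff_eq_mul] at hj
      obtain ⟨m, rfl⟩ := F.exists_of_commute hj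
      refine absurd (F.f_mem_sub.2 ((rI_spec m).2 ?_)) hg
      have := Subgroup.mem_centralizer_singleton_iff.1 hgb
      rwa [b, F.commute_iff] at this
    · rw [show F.f bI = F.b from rfl, ← hgb', mul_left_inj, mul_right_inj] at hj
      exact absurd (F.inj hj) (classes_invol bI (Or.inl special_mem.2.2.2.2.2.2.1)).2.2
    · rfl
  obtain ⟨hbz, hzb, hbbz, hzbz, htb, htbz, htz, htt⟩ := special_mul
  set y := g * F.t with hy
  have ht2 : F.t * F.t = 1 := by rw [t, ← F.map_mul, htt, F.map_one]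
  have hti : F.t⁻¹ = F.t := inv_eq_of_mul_eq_one_right ht2
  have htnorm : ∀ i ∈ rI, ∃ k ∈ rI, F.t * F.f i * F.t⁻¹ = F.f k := fun i hi =>
    ⟨_, tI_norm i hi, (F.map_cj _ _).symm⟩
  have hy_b : y * F.b * y⁻¹ = F.z := by
    have e1 : F.t * F.b * F.t⁻¹ = F.f bI * F.f zI := by
      rw [t, b, ← F.map_cj, htb, ← F.map_mul, hbz]
    calc y * F.b * y⁻¹ = g * (F.t * F.b * F.t⁻¹) * g⁻¹ := by rw [hy]; group
      _ = g * (F.b * F.z) * g⁻¹ := by rw [e1]; rfl
      _ = (g * F.b * g⁻¹) * (g * F.z * g⁻¹) := by group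
      _ = F.z := by rw [hgb', hgz, b, ← F.map_mul, hbbz]; rfl
  have hy_z : y * F.z * y⁻¹ = F.f bzI := by
    calc y * F.z * y⁻¹ = g * (F.t * F.z * F.t⁻¹) * g⁻¹ := by rw [hy]; group
      _ = _ := by rw [t, z, ← F.map_cj, htz]; exact hgz
  have hy_bz : y * F.f bzI * y⁻¹ = F.b := by
    calc y * F.f bzI * y⁻¹ = (y * F.b * y⁻¹) * (y * F.z * y⁻¹) := by
          rw [← hbz, F.map_mul]; show y * (F.b * F.z) * y⁻¹ = _; group
      _ = _ := by rw [hy_b, hy_z, z, ← F.map_mul, hzbz]; rfl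
  have hynorm : ∀ i ∈ rI, ∃ k ∈ rI, y * F.f i * y⁻¹ = F.f k := by
    intro i hi
    obtain ⟨k, hk, e⟩ := htnorm i hi
    obtain ⟨l, hl, e'⟩ := hn _ (F.f_mem_sub.2 hk)
    exact ⟨l, hl, by rw [e', ← e, hy]; group⟩
  have hyinv : ∀ i ∈ rI, ∃ k ∈ rI, y⁻¹ * F.f i * y = F.f k := by
    intro i hi
    let ψ : F.sub rI rI_ok.1 → F.sub rI rI_ok.1 := fun x => ⟨y * x.1 * y⁻¹, by
      obtain ⟨m, hm, e⟩ := x.2
      obtain ⟨k, hk, e'⟩ := hynorm m hm
      exact ⟨k, hk, by rw [← e, e']⟩⟩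
    have hψ : Function.Surjective ψ := Finite.injective_iff_surjective.1
      fun a c e => Subtype.ext (by simpa [ψ] using e)
    obtain ⟨⟨x, k, hk, rfl⟩, hx⟩ := hψ ⟨F.f i, F.f_mem_sub.2 hi⟩
    refine ⟨k, hk, ?_⟩
    rw [← show y * F.f k * y⁻¹ = F.f i from congrArg Subtype.val hx]; group
  refine ⟨⟨y⁻¹ * F.t * y, ?_, ?_, ?_, ?_⟩⟩
  · calc y⁻¹ * F.t * y * (y⁻¹ * F.t * y) = y⁻¹ * (F.t * F.t) * y := by group
      _ = 1 := by rw [ht2]; group
  · calc y⁻¹ * F.t * y * F.b * (y⁻¹ * F.t * y)⁻¹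
        = y⁻¹ * (F.t * (y * F.b * y⁻¹) * F.t⁻¹) * y := by group
      _ = y⁻¹ * F.z * y := by rw [hy_b, t, z, ← F.map_cj, htz]
      _ = F.b := by rw [← hy_b]; group
  · calc y⁻¹ * F.t * y * F.z * (y⁻¹ * F.t * y)⁻¹
        = y⁻¹ * (F.t * (y * F.z * y⁻¹) * F.t⁻¹) * y := by group
      _ = y⁻¹ * F.b * y := by rw [hy_z, t, ← F.map_cj, htbz]; rfl
      _ = F.f bzI := by rw [← hy_bz]; group
  · intro i hi
    obtain ⟨a, ha, ea⟩ := hynorm i hi
    obtain ⟨c, hc, ec⟩ := htnorm a ha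
    obtain ⟨d, hd, ed⟩ := hyinv c hc
    exact ⟨d, hd, by rw [← ed, ← ec, ← ea]; group⟩

end Frame

end Cfsg.Agent.M12Inv51
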