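import Cfsg.Agent.Lib.M12Inv51NotThree

/-!
The further generator `m` and its relations.
-/

set_option autoImplicit false
set_option maxRecDepth 100000
set_option synthInstance.maxSize 8000
set_option linter.unusedSectionVars false

namespace Cfsg.Agent.M12Inv51

open Cfsg.Agent.M12Inv51Data

theorem gen_facts : sI = mul tI zI ∧ sI = cj bI tI ∧ cj cI uI = tI ∧ cj cI tI = mul tI uI ∧
    mul (mul cI cI) cI = 0 ∧ sI ∈ tU ∧ sI ∉ mE ∧ tI ∉ mE ∧ bI ∈ tU ∧ zI ∈ tU := by decide +kernel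

/-- The four possible tails of the even elements commuting with `t`. -/
def zu4 : List Ix := [0, uI, zI, ix 36]

theorem zu4_facts : zu4.toFinset.card = 4 ∧ (∀ a ∈ zu4, a ∈ mE ∧ comm a tI = true ∧
    (a ≠ 0 → a = uI ∨ cj a zI = zI)) ∧
    mul zI uI = ix 36 ∧ (∀ a ∈ zu4, ∀ c ∈ zu4, mul a c ∈ zu4) := by decide +kernel

theorem six_ne : ∀ k < 3, mul tI (ypt k) ≠ tI := by decide +kernel

/-- The relations of the further generator. -/
structure MRel {G : Type*} [Group G] {F : Frame G} (N : NExt F) (m : G) : Prop where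
  sq : m * m = 1
  com_u : m * F.u = F.u * m
  com_t : m * F.t = F.t * m
  com_n : m * N.n = N.n * m
  braid : (m * F.f sI) ^ 3 = 1
  link : F.f cI * (m * F.f sI) * (F.f cI)⁻¹ = m * F.f sI

namespace Setting

variable {G : Type*} [Group G] [Finite G] {F : Frame G} (S : Setting F) {p : G → Prop}
  (P : Sign S p)
include P

theorem H_unique {k l : ℕ} (hk : k < 3) (hl : l < 3) {i j : Ix}
    (h : S.y ^ k * F.f i = S.y ^ l * F.f j) : k = l ∧ i = j := by
  have hz : ∀ (a : ℕ), a < 3 → ∀ (c : Ix),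
      S.y ^ a * F.f c * F.z * (S.y ^ a * F.f c)⁻¹ = F.f (ypt a) := fun a ha c => by
    calc S.y ^ a * F.f c * F.z * (S.y ^ a * F.f c)⁻¹
        = S.y ^ a * (F.f c * F.z) * (F.f c)⁻¹ * (S.y ^ a)⁻¹ := by group
      _ = S.y ^ a * F.z * (S.y ^ a)⁻¹ := by rw [F.commute_z]; group
      _ = _ := S.ypow_z ha
  have h1 := hz k hk i
  rw [h, hz l hl j] at h1
  obtain rfl := ypt_facts.2.1 _ hk _ hl (F.inj h1).symm
  exact ⟨rfl, F.inj (mul_left_cancel h)⟩

omit P in
theorem orbit_card {x : G} (hx : x ∈ S.X) :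
    Nat.card {v : G // ∃ g ∈ S.X, g * x * g⁻¹ = v} *
      Nat.card ↥(S.X ⊓ Subgroup.centralizer ({x} : Set G)) = Nat.card S.X := by
  have h := card_class_mul (⟨x, hx⟩ : S.X)
  have e1 : Nat.card {v : S.X // IsConj (⟨x, hx⟩ : S.X) v} =
      Nat.card {v : G // ∃ g ∈ S.X, g * x * g⁻¹ = v} := by
    refine Nat.card_congr (Equiv.ofBijective (fun v => ⟨v.1.1, ?_⟩) ⟨fun a c e => ?_, ?_⟩)
    · obtain ⟨c, hc⟩ := isConj_iff.1 v.2
      exact ⟨c.1, c.2, congrArg Subtype.val hc⟩
    · exact Subtype.ext (Subtype.ext (congrArg (fun w => w.1) e))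
    · rintro ⟨v, g, hg, rfl⟩
      exact ⟨⟨⟨g, hg⟩ * ⟨x, hx⟩ * ⟨g, hg⟩⁻¹, isConj_iff.2 ⟨⟨g, hg⟩, rfl⟩⟩, rfl⟩
  have e2 : Nat.card (Subgroup.centralizer ({(⟨x, hx⟩ : S.X)} : Set S.X)) =
      Nat.card ↥(S.X ⊓ Subgroup.centralizer ({x} : Set G)) := by
    refine Nat.card_congr
      { toFun := fun g => ⟨g.1.1, g.1.2, Subgroup.mem_centralizer_singleton_iff.2
          (congrArg Subtype.val (Subgroup.mem_centralizer_singleton_iff.1 g.2))⟩
        invFun := fun g => ⟨⟨g.1, g.2.1⟩, Subgroup.mem_centralizer_singleton_iff.2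
          (Subtype.ext (Subgroup.mem_centralizer_singleton_iff.1 g.2.2))⟩
        left_inv := fun g => rfl
        right_inv := fun g => rfl }
  rw [e1, e2] at h
  exact h

theorem exists_j (hK : Nat.card {x : G // S.K P x} = 3) :
    ∃ j, S.K P j ∧ j * F.t = F.t * j := by
  classical
  haveI := Fintype.ofFinite G
  have h3 : (Finset.univ.filter (S.K P)).card = 3 := by
    rw [← hK, Nat.card_eq_fintype_card, Fintype.card_subtype]
  obtain ⟨a, b, c, hab, hac, hbc, he⟩ := Finset.card_eq_three.1 h3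
  have hmem : ∀ x, S.K P x → x = a ∨ x = b ∨ x = c := fun x hx => by
    have : x ∈ Finset.univ.filter (S.K P) := Finset.mem_filter.2 ⟨Finset.mem_univ _, hx⟩
    rw [he] at this; simpa using this
  have hK' : ∀ x ∈ ({a, b, c} : Finset G), S.K P x := fun x hx => by
    rw [← he] at hx; exact (Finset.mem_filter.1 hx).2
  have ht : F.t ∈ S.X := S.f_mem_X t_facts.1
  have hti : F.t⁻¹ = F.t := S.t_inv
  have hperm : ∀ x, S.K P x → S.K P (F.t * x * F.t⁻¹) := fun x hx => by
    refine ⟨S.D_conj ht hx.1, ?_⟩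
    have hy : F.t⁻¹ * S.y * F.t = S.y⁻¹ := by
      have := S.t_y
      rw [hti] at this ⊢
      exact this
    calc F.t * x * F.t⁻¹ * S.y * (F.t * x * F.t⁻¹)⁻¹
        = F.t * (x * (F.t⁻¹ * S.y * F.t) * x⁻¹) * F.t⁻¹ := by group
      _ = F.t * (x * S.y * x⁻¹)⁻¹ * F.t⁻¹ := by rw [hy]; group
      _ = F.t * S.y * F.t⁻¹ := by rw [hx.2, inv_inv]
      _ = _ := S.t_y
  have hinvol : ∀ x, F.t * (F.t * x * F.t⁻¹) * F.t⁻¹ = x := fun x => by
    rw [hti, show F.t * (F.t * x * F.t) * F.t = (F.t * F.t) * x * (F.t * F.t) by group, S.t_sq,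
      one_mul, mul_one]
  have fix : ∀ x, F.t * x * F.t⁻¹ = x → x * F.t = F.t * x := fun x h =>
    (mul_inv_eq_iff_eq_mul.1 h).symm
  by_contra hne
  push Not at hne
  have move : ∀ x, S.K P x → F.t * x * F.t⁻¹ ≠ x := fun x hx h => hne x hx (fix x h)
  have ka := hK' a (by simp)
  have kb := hK' b (by simp)
  have kc := hK' c (by simp)
  rcases hmem _ (hperm a ka) with e | e | e
  · exact move a ka e
  · have e' : F.t * b * F.t⁻¹ = a := by rw [← e, hinvol]
    rcases hmem _ (hperm c kc) with f | f | f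
    · exact hbc (by rw [← hinvol c, f, e])
    · exact hac (by rw [← hinvol c, f, e'])
    · exact move c kc f
  · have e' : F.t * c * F.t⁻¹ = a := by rw [← e, hinvol]
    rcases hmem _ (hperm b kb) with f | f | f
    · exact hbc (by rw [← hinvol b, f, e])
    · exact move b kb f
    · exact hab (by rw [← hinvol b, f, e'])

theorem odd_jz {j : G} (hj : S.K P j) : Odd (orderOf (j * F.z)) := by
  by_contra hev
  obtain ⟨i, hiz, hi2, hji, hzi⟩ := SignalizerStrongEmb.exists_commuting_of_even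
    (S.D_orderOf hj.1) F.orderOf_z (Nat.not_odd_iff_even.1 hev)
  have hjX := S.D_mem hj.1
  have hzX := S.D_mem S.D_z
  have hp : p (j * F.z) := (P.hmul _ _ hjX hzX).2 (iff_of_true (P.pD hj.1) (P.pD S.D_z))
  have hpall : ∀ m : ℤ, p ((j * F.z) ^ m) := by
    intro m
    induction m using Int.induction_on with
    | zero => rw [zpow_zero]; exact P.one
    | succ m ih =>
      rw [zpow_add_one, P.hmul _ _ (S.X.zpow_mem (S.X.mul_mem hjX hzX) _) (S.X.mul_mem hjX hzX)]
      exact iff_of_true ih hp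
    | pred m ih =>
      rw [zpow_sub_one, P.hmul _ _ (S.X.zpow_mem (S.X.mul_mem hjX hzX) _)
        (S.X.inv_mem (S.X.mul_mem hjX hzX))]
      exact iff_of_true ih ((P.inv' (S.X.mul_mem hjX hzX)).2 hp)
  obtain ⟨k, rfl⟩ := Subgroup.mem_zpowers_iff.1 hiz
  have hE : ∀ w, S.D w → w * F.z = F.z * w → j * w = w * j → False := fun w hw hwz hjw => by
    obtain ⟨e, he, rfl⟩ := S.D_commute_z hw hwz
    obtain ⟨e', he', rfl⟩ := S.D_commute_e3 hj.1 he hjw
    exact S.K_not_H P hj (S.f_mem_H (e3_facts e' he').1)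
  rcases P.invol_cases (S.X.zpow_mem (S.X.mul_mem hjX hzX) k) (hpall k) hi2 with h | h | h
  · have hn : ¬ IsConj j (j * F.u) := fun hc =>
      F.not_conj_z_u ((hj.1.1.trans hc).trans (S.two.mul_u hj.1.1 hj.1.2).symm)
    obtain ⟨-, -, hc⟩ := odd_of_mem (S.D_orderOf hj.1) F.orderOf_z S.orderOf_u hn (h ▸ hiz)
    exact F.not_conj_z_u ((hj.1.1.trans hc).trans
      (S.two.mul_u S.D_z.1 S.D_z.2).symm)
  · exact hE _ h hzi.symm hji
  · exact hE _ h ((show Commute _ F.z from hzi.symm).mul_left S.D_z.2.symm).eq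
      ((show Commute j _ from hji).mul_right hj.1.2).eq

theorem exists_m (hn : Nat.card {x : G // S.D x} = 15) :
    ∃ m, MRel S.toNExt m ∧ m ∈ S.X ∧ F.t * m ∉ S.H := by
  classical
  haveI := Fintype.ofFinite G
  have hK : Nat.card {x : G // S.K P x} = 3 := by have := S.card_D P; omega
  obtain ⟨j, hj, hjt⟩ := S.exists_j P hK
  have hjX := S.D_mem hj.1
  have hzX := S.D_mem S.D_z
  obtain ⟨hs, hsb, hcu, hct, hc3, hsU, hsE, htE, hbU, hzU⟩ := gen_facts
  obtain ⟨htU, huU, -, -, htu, -, -⟩ := t_facts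
  have htX : F.t ∈ S.X := S.f_mem_X htU
  have ht2 := S.t_sq
  have hj2 := S.D_sq hj.1
  have hzt : F.z * F.t = F.t * F.z := (F.commute_z tI).symm
  obtain ⟨m, hm⟩ : ∃ m, m = F.t * j := ⟨_, rfl⟩
  have hms : m * F.f sI = j * F.z := by
    rw [hm, hs, F.map_mul]
    show F.t * j * (F.t * F.z) = j * F.z
    rw [← hjt, show j * F.t * (F.t * F.z) = j * (F.t * F.t) * F.z by group, ht2, mul_one]
  set w := j * F.z with hw
  have hwodd : Odd (orderOf w) := S.odd_jz P hj
  have hwX : w ∈ S.X := S.X.mul_mem hjX hzX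
  have hwH : w ∉ S.H := fun h => S.K_not_H P hj (by
    have := S.H.mul_mem h (S.f_mem_H hzU)
    rwa [hw, show F.f zI = F.z from rfl, mul_assoc, sq_of_orderOf_two F.orderOf_z, mul_one] at this)
  have hw1 : w ≠ 1 := fun e => hwH (e ▸ S.H.one_mem)
  have hwt : w * F.t = F.t * w := ((show Commute j F.t from hjt).mul_left hzt).eq
  -- seven conjugates of t
  have hout : j * F.f sI * j⁻¹ ∉ S.H := fun h => by
    have h2 := S.H.mul_mem h (S.f_mem_H hsU)
    have e : j * F.f sI * j⁻¹ * F.f sI = w * w := by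
      rw [hs, F.map_mul]
      show j * (F.t * F.z) * j⁻¹ * (F.t * F.z) = _
      rw [inv_eq_of_mul_eq_one_right hj2, hw]
      calc j * (F.t * F.z) * j * (F.t * F.z) = j * (F.t * F.z) * (j * F.t) * F.z := by group
        _ = j * (F.t * (F.z * F.t)) * j * F.z := by rw [hjt]; group
        _ = j * ((F.t * F.t) * F.z) * j * F.z := by rw [hzt]; group
        _ = _ := by rw [ht2]; group
    rw [e] at h2
    obtain ⟨k, hk⟩ := hwodd
    refine hwH ?_
    have : w = (w * w) ^ (k + 1) := by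
      rw [← pow_two, ← pow_mul, show 2 * (k + 1) = orderOf w + 1 by omega, pow_succ,
        pow_orderOf_eq_one, one_mul]
    rw [this]; exact S.H.pow_mem h2 _
  have horb : 7 ≤ Nat.card {v : G // ∃ g ∈ S.X, g * F.t * g⁻¹ = v} := by
    let six : Finset G := (Finset.range 3).image (fun k => S.y ^ k * F.t * (S.y ^ k)⁻¹) ∪
      (Finset.range 3).image (fun k => S.y ^ k * F.f sI * (S.y ^ k)⁻¹)
    have htyk : ∀ k, F.t * (S.y ^ k)⁻¹ * F.t⁻¹ = S.y ^ k := fun k => by
      rw [← inv_pow, ← conj_pow, show F.t * S.y⁻¹ * F.t⁻¹ = S.y by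
        rw [show F.t * S.y⁻¹ * F.t⁻¹ = (F.t * S.y * F.t⁻¹)⁻¹ by group, S.t_y, inv_inv]]
    have h3 : S.y ^ 3 = 1 := by rw [pow_succ, pow_two]; exact S.y_cube
    have hform : ∀ k < 3, (S.y ^ k * F.t * (S.y ^ k)⁻¹ = S.y ^ (2 * k % 3) * F.f tI) ∧
        (S.y ^ k * F.f sI * (S.y ^ k)⁻¹ = S.y ^ (2 * k % 3) * F.f (mul tI (ypt k))) := by
      intro k hk
      have e : S.y ^ k * F.t * (S.y ^ k)⁻¹ = S.y ^ (2 * k % 3) * F.f tI := by
        rw [← pow_eq_pow_mod (2 * k) h3, two_mul, pow_add]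
        calc S.y ^ k * F.t * (S.y ^ k)⁻¹ = S.y ^ k * (F.t * (S.y ^ k)⁻¹ * F.t⁻¹) * F.t := by group
          _ = _ := by rw [htyk]; rfl
      refine ⟨e, ?_⟩
      rw [hs, F.map_mul, F.map_mul]
      calc S.y ^ k * (F.f tI * F.f zI) * (S.y ^ k)⁻¹
          = (S.y ^ k * F.t * (S.y ^ k)⁻¹) * (S.y ^ k * F.z * (S.y ^ k)⁻¹) := by
            rw [Frame.t, Frame.z]; group
        _ = _ := by rw [e, S.ypow_z hk, mul_assoc]
    have hcard : six.card = 6 := by
      rw [Finset.card_union_of_disjoint, Finset.card_image_of_injOn, Finset.card_image_of_injOn,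
        Finset.card_range]
      · intro a ha c hc e
        rw [Finset.coe_range, Set.mem_Iio] at ha hc
        simp only [(hform a ha).2, (hform c hc).2] at e
        have := (S.H_unique P (Nat.mod_lt _ (by norm_num)) (Nat.mod_lt _ (by norm_num)) e).1
        omega
      · intro a ha c hc e
        rw [Finset.coe_range, Set.mem_Iio] at ha hc
        simp only [(hform a ha).1, (hform c hc).1] at e
        have := (S.H_unique P (Nat.mod_lt _ (by norm_num)) (Nat.mod_lt _ (by norm_num)) e).1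
        omega
      · rw [Finset.disjoint_left]
        intro v hv hv'
        obtain ⟨a, ha, rfl⟩ := Finset.mem_image.1 hv
        obtain ⟨c, hc, e⟩ := Finset.mem_image.1 hv'
        rw [Finset.mem_range] at ha hc
        rw [(hform a ha).1, (hform c hc).2] at e
        exact six_ne c hc (S.H_unique P (Nat.mod_lt _ (by norm_num)) (Nat.mod_lt _ (by norm_num)) e).2
    have hsix : ∀ v ∈ six, v ∈ S.H ∧ ∃ g ∈ S.X, g * F.t * g⁻¹ = v := by
      intro v hv
      rcases Finset.mem_union.1 hv with hv | hv <;> obtain ⟨k, -, rfl⟩ := Finset.mem_image.1 hv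
      · exact ⟨S.H.mul_mem (S.H.mul_mem (S.H.pow_mem S.y_mem_H _) (S.f_mem_H htU))
          (S.H.inv_mem (S.H.pow_mem S.y_mem_H _)), _, S.X.pow_mem S.y_mem k, rfl⟩
      · refine ⟨S.H.mul_mem (S.H.mul_mem (S.H.pow_mem S.y_mem_H _) (S.f_mem_H hsU))
          (S.H.inv_mem (S.H.pow_mem S.y_mem_H _)), S.y ^ k * F.f bI,
          S.X.mul_mem (S.X.pow_mem S.y_mem k) (S.f_mem_X hbU), ?_⟩
        rw [hsb, F.map_cj, Frame.t]; group
    let seven := insert (j * F.f sI * j⁻¹) six
    have h7 : seven.card = 7 := by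
      rw [Finset.card_insert_of_notMem (fun h => hout (hsix _ h).1), hcard]
    have hsub : ∀ v ∈ seven, ∃ g ∈ S.X, g * F.t * g⁻¹ = v := by
      intro v hv
      rcases Finset.mem_insert.1 hv with rfl | hv
      · refine ⟨j * F.f bI, S.X.mul_mem hjX (S.f_mem_X hbU), ?_⟩
        rw [hsb, F.map_cj, Frame.t]; group
      · exact (hsix v hv).2
    calc 7 = Nat.card {x // x ∈ seven} := by rw [Nat.card_eq_finsetCard, h7]
      _ ≤ _ := Nat.card_le_card_of_injective (fun v => ⟨v.1, hsub v.1 v.2⟩)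
          fun a c e => Subtype.ext (congrArg (fun w => w.1) e)
  set C := S.X ⊓ Subgroup.centralizer ({F.t} : Set G)
  have hC := S.orbit_card htX (x := F.t)
  rw [show Nat.card S.X = 240 by rw [S.card_X, hn]] at hC
  have hc34 : Nat.card C ≤ 34 := by
    have : 7 * Nat.card C ≤ 240 := hC ▸ Nat.mul_le_mul_right _ horb
    omega
  have hmemC : ∀ {g : G}, g ∈ S.X → g * F.t = F.t * g → g ∈ C := fun hg h =>
    ⟨hg, Subgroup.mem_centralizer_singleton_iff.2 h⟩
  obtain ⟨hz4, hzu4, hzu, hmul4⟩ := zu4_facts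
  have hwC : w ∈ C := hmemC hwX hwt
  have h4C : ∀ a ∈ zu4, F.f a ∈ C := fun a ha =>
    hmemC (S.f_mem_X (mE_facts.1 a (hzu4 a ha).1).1) (F.commute_iff.2 (hzu4 a ha).2.1)
  -- the order of w
  have h8 : 8 ∣ Nat.card C := by
    let L : List Ix := zu4 ++ zu4.map (mul tI)
    have hL : subOK L = true ∧ L.length = 8 ∧ (∀ a ∈ L, a ∈ tU ∧ comm a tI = true) := by
      decide +kernel
    rw [show (8 : ℕ) = L.length from hL.2.1.symm, ← F.card_sub L hL.1]
    refine Subgroup.card_dvd_of_le ?_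
    rintro g ⟨a, ha, rfl⟩
    exact hmemC (S.f_mem_X (hL.2.2 a ha).1) (F.commute_iff.2 (hL.2.2 a ha).2)
  have hw3 : orderOf w = 3 := by
    have hdvd : orderOf w ∣ Nat.card C := Subgroup.orderOf_mk w hwC ▸ orderOf_dvd_natCard _
    have h := (Nat.Coprime.pow_left 3 (Nat.coprime_two_left.2 hwodd)).mul_dvd_of_dvd_of_dvd
      (show 2 ^ 3 ∣ Nat.card C from h8) hdvd
    have h' := Nat.le_of_dvd Nat.card_pos h
    have h1 : orderOf w ≠ 1 := fun e => hw1 (orderOf_eq_one_iff.1 e)
    obtain ⟨k, hk⟩ := hwodd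
    have : 2 ^ 3 = 8 := rfl
    omega
  have hw3' : w ^ 3 = 1 := hw3 ▸ pow_orderOf_eq_one w
  -- the even part of the centralizer of t
  let Cp : Finset G := Finset.univ.filter fun g => g ∈ C ∧ p g
  have hCp : 2 * Cp.card ≤ Nat.card C := by
    rw [Nat.card_eq_fintype_card, Fintype.card_subtype]
    have h1 : Cp ∪ Cp.image (F.t * ·) ⊆ Finset.univ.filter (· ∈ C) := by
      intro g hg
      refine Finset.mem_filter.2 ⟨Finset.mem_univ _, ?_⟩
      rcases Finset.mem_union.1 hg with hg | hg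
      · exact (Finset.mem_filter.1 hg).2.1
      · obtain ⟨a, ha, rfl⟩ := Finset.mem_image.1 hg
        exact C.mul_mem (hmemC htX rfl) (Finset.mem_filter.1 ha).2.1
    refine le_trans (le_of_eq ?_) (Finset.card_le_card h1)
    rw [Finset.card_union_of_disjoint, Finset.card_image_of_injective _ (mul_right_injective _),
      two_mul]
    rw [Finset.disjoint_left]
    intro g hg hg'
    obtain ⟨a, ha, rfl⟩ := Finset.mem_image.1 hg'
    obtain ⟨haC, hap⟩ := (Finset.mem_filter.1 ha).2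
    exact P.nt (((P.hmul _ _ htX haC.1).1 (Finset.mem_filter.1 hg).2.2).2 hap)
  have hc24 : Nat.card C = 24 := by
    have h3 : 3 ∣ Nat.card C := hw3 ▸ Subgroup.orderOf_mk w hwC ▸ orderOf_dvd_natCard _
    have := Nat.card_pos (α := C)
    omega
  let P12 : Finset G := (Finset.range 3 ×ˢ zu4.toFinset).image fun q => w ^ q.1 * F.f q.2
  have hP12 : P12 = Cp := by
    refine Finset.eq_of_subset_of_card_le ?_ ?_
    · intro g hg
      obtain ⟨⟨k, a⟩, hka, rfl⟩ := Finset.mem_image.1 hg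
      have ha := List.mem_toFinset.1 (Finset.mem_product.1 hka).2
      refine Finset.mem_filter.2 ⟨Finset.mem_univ _, C.mul_mem (C.pow_mem hwC k) (h4C a ha),
        (P.hmul _ _ (S.X.pow_mem hwX k) (h4C a ha).1).2
          (iff_of_true (P.of_odd (S.X.pow_mem hwX k) ?_) (P.pmE (hzu4 a ha).1))⟩
      exact (hw3 ▸ hwodd : Odd (orderOf w)).of_dvd_nat (orderOf_pow_dvd k)
    · rw [Finset.card_image_of_injOn, Finset.card_product, Finset.card_range, hz4]
      · omega
      · rintro ⟨k, a⟩ hka ⟨l, c⟩ hlc e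
        rw [Finset.mem_coe, Finset.mem_product, Finset.mem_range] at hka hlc
        have e1 : (w ^ l)⁻¹ * w ^ k = F.f c * (F.f a)⁻¹ := by
          rw [eq_mul_inv_iff_mul_eq, mul_assoc, show w ^ k * F.f a = w ^ l * F.f c from e]; group
        rw [← F.map_inv, ← F.map_mul] at e1
        have h2 : F.f (mul c (inv a)) = 1 := by
          rw [← e1]
          refine eq_one_of_odd_pow (k := 1) ?_ ?_
          · rw [← zpow_natCast, ← zpow_natCast, ← zpow_neg, ← zpow_add]
            exact (hw3 ▸ hwodd : Odd (orderOf w)).of_dvd_nat (orderOf_dvd_of_pow_eq_one (by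
              rw [← zpow_natCast, ← zpow_mul, mul_comm, zpow_mul, zpow_natCast, pow_orderOf_eq_one,
                one_zpow]))
          · rw [pow_one, pow_two, e1, F.sq_eq_one_iff]
            have : ∀ c ∈ zu4, ∀ a ∈ zu4, mul (mul c (inv a)) (mul c (inv a)) = 0 := by
              decide +kernel
            exact this c (List.mem_toFinset.1 hlc.2) a (List.mem_toFinset.1 hka.2)
        rw [h2, inv_mul_eq_one] at e1
        have hkl : k = l := (pow_injOn_Iio_orderOf (by rw [Set.mem_Iio, hw3]; exact hlc.1)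
          (by rw [Set.mem_Iio, hw3]; exact hka.1) e1).symm
        subst hkl
        exact Prod.ext rfl (F.inj (mul_left_cancel (show w ^ k * F.f a = w ^ k * F.f c from e)))
  have hz2 : F.z * F.z = 1 := sq_of_orderOf_two F.orderOf_z
  have hzw : F.z * w * F.z⁻¹ = w⁻¹ := by
    rw [hw, inv_eq_of_mul_eq_one_right hz2, mul_inv_rev, inv_eq_of_mul_eq_one_right hz2,
      inv_eq_of_mul_eq_one_right hj2, show F.z * (j * F.z) * F.z = F.z * j * (F.z * F.z) by group,
      hz2, mul_one]
  have huniq : ∀ g ∈ C, g ^ 3 = 1 → ∃ k < 3, g = w ^ k := by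
    intro g hg hg3
    have hgp : p g := P.of_odd hg.1 ((show Odd 3 by decide).of_dvd_nat (orderOf_dvd_of_pow_eq_one hg3))
    have hgm : g ∈ P12 := hP12 ▸ Finset.mem_filter.2 ⟨Finset.mem_univ _, hg, hgp⟩
    obtain ⟨⟨k, a⟩, hka, rfl⟩ := Finset.mem_image.1 hgm
    rw [Finset.mem_product, Finset.mem_range, List.mem_toFinset] at hka
    refine ⟨k, hka.1, ?_⟩
    suffices ha : a = 0 by
      show w ^ k * F.f a = w ^ k
      rw [ha, F.map_one, mul_one]
    by_contra ha
    have ha2 := (mE_facts.1 a (hzu4 a hka.2).1).2.2.1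
    have hfa : F.f a * F.f a = 1 := F.sq_eq_one_iff.2 ha2
    rcases (hzu4 a hka.2).2.2 ha with rfl | hcz
    · have hcomm : Commute (w ^ k) (F.f uI) := (show Commute w F.u from S.mem_X.1 hwX).pow_left k
      change (w ^ k * F.f uI) ^ 3 = 1 at hg3
      rw [hcomm.mul_pow, ← pow_mul, mul_comm k, pow_mul, hw3', one_pow, one_mul, pow_succ, pow_two,
        hfa, one_mul, F.eq_one_iff] at hg3
      exact ha hg3
    · -- the element is an involution
      have haz : F.f a = F.f uI * F.z ∨ F.f a = F.z ∨ F.f a = F.f uI := by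
        have : ∀ a ∈ zu4, a ≠ 0 → a = mul uI zI ∨ a = zI ∨ a = uI := by decide +kernel
        rcases this a hka.2 ha with rfl | rfl | rfl
        · exact Or.inl (F.map_mul _ _)
        · exact Or.inr (Or.inl rfl)
        · exact Or.inr (Or.inr rfl)
      have hwu : Commute w (F.f uI) := S.mem_X.1 hwX
      have hinv : F.f a * w * (F.f a)⁻¹ = w⁻¹ ∨ a = uI := by
        rcases haz with e | e | e
        · left
          rw [e, show F.f uI * F.z * w * (F.f uI * F.z)⁻¹ = F.f uI * (F.z * w * F.z⁻¹) * (F.f uI)⁻¹ by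
            group, hzw, ← hwu.inv_left.eq]
          group
        · left; rw [e]; exact hzw
        · right; exact F.inj e
      rcases hinv with hinv | hau
      · have hk : F.f a * w ^ k * (F.f a)⁻¹ = (w ^ k)⁻¹ := by rw [← conj_pow, hinv, inv_pow]
        have hsq : w ^ k * F.f a * (w ^ k * F.f a) = 1 := by
          calc w ^ k * F.f a * (w ^ k * F.f a)
              = w ^ k * (F.f a * w ^ k * (F.f a)⁻¹) * (F.f a * F.f a) := by group
            _ = 1 := by rw [hk, hfa]; group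
        have h1 : w ^ k * F.f a = 1 := by
          change (w ^ k * F.f a) ^ 3 = 1 at hg3
          rw [pow_succ, pow_two, hsq, one_mul] at hg3
          exact hg3
        have : F.f a = 1 := by
          refine eq_one_of_odd_pow (k := 1) ?_ (by rw [pow_one, pow_two, hfa])
          rw [eq_inv_of_mul_eq_one_right h1, orderOf_inv]
          exact hwodd.of_dvd_nat (orderOf_pow_dvd k)
        exact ha (F.eq_one_iff.1 this)
      · subst hau
        exact absurd hcz (by
          have hcomm : Commute (w ^ k) (F.f uI) := hwu.pow_left k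
          change (w ^ k * F.f uI) ^ 3 = 1 at hg3
          rw [hcomm.mul_pow, ← pow_mul, mul_comm k, pow_mul, hw3', one_pow, one_mul, pow_succ, pow_two,
            hfa, one_mul, F.eq_one_iff] at hg3
          exact absurd hg3 ha)
  have hlink : F.f cI * w * (F.f cI)⁻¹ = w := by
    set c := F.f cI
    have hcu' : c * F.u * c⁻¹ = F.t := by rw [Frame.u, ← F.map_cj, hcu]; rfl
    have hct' : c * F.t * c⁻¹ = F.t * F.u := by
      rw [Frame.t, ← F.map_cj, hct, F.map_mul]; rfl
    have e1 : c * w * c⁻¹ * F.t = F.t * (c * w * c⁻¹) := by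
      rw [← hcu']
      calc c * w * c⁻¹ * (c * F.u * c⁻¹) = c * (w * F.u) * c⁻¹ := by group
        _ = c * (F.u * w) * c⁻¹ := by rw [S.mem_X.1 hwX]
        _ = _ := by group
    have e2 : c * w * c⁻¹ * (F.t * F.u) = F.t * F.u * (c * w * c⁻¹) := by
      rw [← hct']
      calc c * w * c⁻¹ * (c * F.t * c⁻¹) = c * (w * F.t) * c⁻¹ := by group
        _ = c * (F.t * w) * c⁻¹ := by rw [hwt]
        _ = _ := by group
    have e3 : c * w * c⁻¹ * F.u = F.u * (c * w * c⁻¹) := by
      refine mul_left_cancel (a := F.t) ?_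
      calc F.t * (c * w * c⁻¹ * F.u) = F.t * (c * w * c⁻¹) * F.u := by group
        _ = c * w * c⁻¹ * F.t * F.u := by rw [e1]
        _ = c * w * c⁻¹ * (F.t * F.u) := by group
        _ = F.t * F.u * (c * w * c⁻¹) := e2
        _ = _ := by group
    obtain ⟨k, hk, he⟩ := huniq _ (hmemC (S.mem_X.2 e3) e1) (by rw [conj_pow, hw3']; group)
    interval_cases k
    · rw [pow_zero, conj_eq_one_iff] at he; exact absurd he hw1
    · rwa [pow_one] at he
    · exfalso
      have hc3' : c * c * c = 1 := by rw [← F.map_mul, ← F.map_mul, hc3, F.map_one]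
      have hw2 : w ^ 2 = w⁻¹ := eq_inv_of_mul_eq_one_left (by rw [← pow_succ]; exact hw3')
      rw [hw2] at he
      have : w = w⁻¹ := by
        calc w = c * c * c * w * (c * c * c)⁻¹ := by rw [hc3']; group
          _ = c * (c * (c * w * c⁻¹) * c⁻¹) * c⁻¹ := by group
          _ = w⁻¹ := by
            rw [he, show c * w⁻¹ * c⁻¹ = (c * w * c⁻¹)⁻¹ by group, he, inv_inv, he]
      have h2 : w ^ 2 = 1 := by rw [pow_two]; exact mul_eq_one_iff_eq_inv.2 this
      have := orderOf_dvd_of_pow_eq_one h2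
      rw [hw3] at this
      omega
  refine ⟨m, ⟨?_, ?_, ?_, ?_, by rw [hms]; exact hw3', by rw [hms]; exact hlink⟩,
    hm ▸ S.X.mul_mem htX hjX, ?_⟩
  · rw [hm]
    calc F.t * j * (F.t * j) = F.t * (j * F.t) * j := by group
      _ = (F.t * F.t) * (j * j) := by rw [hjt]; group
      _ = 1 := by rw [ht2, hj2, one_mul]
  · rw [hm]; exact ((show Commute F.t F.u from F.commute_iff.2 htu).mul_left hj.1.2).eq
  · rw [hm]
    calc F.t * j * F.t = F.t * (j * F.t) := by group
      _ = _ := by rw [hjt]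
  · have hy : m * S.y * m⁻¹ = S.y := by
      rw [hm]
      calc F.t * j * S.y * (F.t * j)⁻¹ = F.t * (j * S.y * j⁻¹) * F.t⁻¹ := by group
        _ = (F.t * S.y * F.t⁻¹)⁻¹ := by rw [hj.2]; group
        _ = S.y := by rw [S.t_y, inv_inv]
    have hmy : Commute m S.y := mul_inv_eq_iff_eq_mul.1 hy
    have hmt : Commute m F.t := by
      show m * F.t = F.t * m
      rw [hm]
      calc F.t * j * F.t = F.t * (j * F.t) := by group
        _ = _ := by rw [hjt]
    have hn' : S.n = F.t * S.y := by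
      show S.n = F.t * (F.t * S.n)
      rw [← mul_assoc, ht2, one_mul]
    rw [hn']
    exact (hmt.mul_right hmy).eq
  · rw [hm, ← mul_assoc, ht2, one_mul]
    exact S.K_not_H P hj

end Setting

end Cfsg.Agent.M12Inv51
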