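import Cfsg.Agent.Lib.M12Inv51Gen

/-!
The group is generated by the centralizer and two further involutions.
-/

set_option autoImplicit false
set_option maxRecDepth 100000
set_option synthInstance.maxSize 8000
set_option linter.unusedSectionVars false

namespace Cfsg.Agent.M12Inv51

open Cfsg.Agent.M12Inv51Data

theorem oI_route : ∃ q ∈ rI, q ∈ qbI ∧ beta0 q ∈ oIs := by decide +kernel

variable {G : Type*} [Group G]

/-- Conjugacy by an element of a subgroup. -/
def ConjIn (K : Subgroup G) (a c : G) : Prop := ∃ g ∈ K, g * a * g⁻¹ = c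

theorem ConjIn.trans {K : Subgroup G} {a b c : G} (h : ConjIn K a b) (h' : ConjIn K b c) :
    ConjIn K a c := by
  obtain ⟨g, hg, rfl⟩ := h
  obtain ⟨k, hk, rfl⟩ := h'
  exact ⟨k * g, K.mul_mem hk hg, by group⟩

theorem ConjIn.symm {K : Subgroup G} {a b : G} (h : ConjIn K a b) : ConjIn K b a := by
  obtain ⟨g, hg, rfl⟩ := h
  exact ⟨g⁻¹, K.inv_mem hg, by group⟩

theorem ConjIn.isConj {K : Subgroup G} {a b : G} (h : ConjIn K a b) : IsConj a b :=
  isConj_iff.2 ⟨h.choose, h.choose_spec.2⟩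

theorem ConjIn.centralizer_le {K : Subgroup G} {a b : G} (h : ConjIn K a b)
    (ha : Subgroup.centralizer ({a} : Set G) ≤ K) : Subgroup.centralizer ({b} : Set G) ≤ K := by
  obtain ⟨g, hg, rfl⟩ := h
  intro c hc
  rw [Subgroup.mem_centralizer_singleton_iff] at hc
  have h1 : g⁻¹ * c * g ∈ K := ha (Subgroup.mem_centralizer_singleton_iff.2 (by
    calc g⁻¹ * c * g * a = g⁻¹ * (c * (g * a * g⁻¹)) * g := by group
      _ = g⁻¹ * (g * a * g⁻¹ * c) * g := by rw [hc]
      _ = _ := by group))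
  have h2 := K.mul_mem (K.mul_mem hg h1) (K.inv_mem hg)
  rwa [show g * (g⁻¹ * c * g) * g⁻¹ = c by group] at h2

/-- A simple group with this centralizer is generated by it and two further involutions. -/
theorem exists_generators [Finite G] [IsSimpleGroup G] (hG : ¬ IsMulCommutative G) (F : Frame G) :
    ∃ (F' : Frame G) (N : NExt F') (m : G), MRel N m ∧
      Subgroup.closure (Set.range F'.f ∪ {N.n, m}) = ⊤ := by
  classical
  haveI : Fact (Nat.Prime 2) := ⟨Nat.prime_two⟩
  obtain ⟨E⟩ := F.nonempty_ext hG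
  rcases exists_nExt hG F E with hA | ⟨F', -, ⟨N⟩⟩
  · exact (kindA_false hG F E hA).elim
  let S : Setting F' := ⟨N, N.two hG⟩
  obtain ⟨p, P⟩ := S.exists_sign
  have hn : Nat.card {x : G // S.D x} = 15 := by
    have := S.card_D_cases P
    have := S.card_D_ne_three
    omega
  obtain ⟨m, hm, hmX, hmH⟩ := S.exists_m P hn
  refine ⟨F', N, m, hm, ?_⟩
  set K := Subgroup.closure (Set.range F'.f ∪ {N.n, m}) with hKdef
  have hf : ∀ i, F'.f i ∈ K := fun i => Subgroup.subset_closure (Or.inl ⟨i, rfl⟩)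
  have hnK : N.n ∈ K := Subgroup.subset_closure (Or.inr (Or.inl rfl))
  have hmK : m ∈ K := Subgroup.subset_closure (Or.inr (Or.inr rfl))
  have hy : S.y ∈ K := K.mul_mem (hf tI) hnK
  have hH : S.H ≤ K := fun g hg => by
    obtain ⟨k, -, i, -, rfl⟩ := S.H_cases hg
    exact K.mul_mem (K.pow_mem hy k) (hf i)
  -- the centralizer of `u`
  have hXK : S.X ≤ K := by
    have hX : Nat.card S.X = 240 := by rw [S.card_X, hn]
    have hle : S.H ≤ S.X ⊓ K := le_inf S.H_le hH
    have h1 : Nat.card S.H ∣ Nat.card ↥(S.X ⊓ K) := Subgroup.card_dvd_of_le hle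
    have h2 : Nat.card ↥(S.X ⊓ K) ∣ Nat.card S.X := Subgroup.card_dvd_of_le inf_le_left
    have h3 : Nat.card ↥(S.X ⊓ K) ≠ Nat.card S.H := fun h => by
      have heq : S.H = S.X ⊓ K := Subgroup.eq_of_le_of_card_ge hle h.le
      exact hmH (heq ▸ ⟨S.X.mul_mem (S.f_mem_X t_facts.1) hmX, K.mul_mem (hf tI) hmK⟩)
    rw [S.card_H] at h1 h3
    rw [hX] at h2
    obtain ⟨k, hk⟩ := h1
    rw [hk, show 240 = 48 * 5 from rfl] at h2
    have hk5 : k ∣ 5 := Nat.dvd_of_mul_dvd_mul_left (by norm_num) h2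
    have hk' : k = 5 := by
      rcases (Nat.dvd_prime (by norm_num)).1 hk5 with h | h
      · exact absurd (by rw [hk, h]) h3
      · exact h
    have heq : S.X ⊓ K = S.X := Subgroup.eq_of_le_of_card_ge inf_le_left (by rw [hk, hk', hX])
    exact heq ▸ inf_le_right
  have hzK : Subgroup.centralizer ({F'.z} : Set G) ≤ K := fun g hg => by
    obtain ⟨i, rfl⟩ := F'.mem_centralizer_iff.1 hg
    exact hf i
  -- the classes inside
  have hcj : ∀ c i : Ix, ConjIn K (F'.f i) (F'.f (cj c i)) := fun c i =>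
    ⟨F'.f c, hf c, (F'.map_cj c i).symm⟩
  have hzb : ConjIn K F'.z (F'.f bI) := by
    refine ⟨S.y, hy, ?_⟩
    rw [show S.y * F'.z * S.y⁻¹ = F'.f (alpha zI) from S.y_conj special_mem.1, alpha_orbit.1]
  have hzqb : ∀ i ∈ qbI, ConjIn K F'.z (F'.f i) := fun i hi => by
    obtain ⟨c, hc⟩ := qb_class i hi
    exact hzb.trans (hc ▸ hcj c bI)
  have hzo : ∀ i ∈ oIs, ConjIn K F'.z (F'.f i) := fun i hi => by
    obtain ⟨q, hqr, hqb, hqo⟩ := oI_route
    obtain ⟨c, hc⟩ := o_class i hi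
    obtain ⟨c', hc'⟩ := o_class _ hqo
    have h1 : ConjIn K F'.z (F'.f (beta0 q)) :=
      (hzqb q hqb).trans ⟨N.n, hnK, N.map q hqr⟩
    exact (h1.trans (hc' ▸ (hcj c' oI)).symm).trans (hc ▸ hcj c oI)
  have hrep : ∀ x ∈ K, orderOf x = 2 → ConjIn K F'.z x ∨ ConjIn K F'.u x := by
    intro x hxK hx
    have hPK : (F'.sylow : Subgroup G) ≤ K := fun g hg => by
      obtain ⟨i, -, rfl⟩ := F'.mem_sylow.1 hg
      exact hf i
    have hx' : orderOf (⟨x, hxK⟩ : K) = 2 := by rw [Subgroup.orderOf_mk, hx]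
    have hp : IsPGroup 2 (Subgroup.zpowers (⟨x, hxK⟩ : K)) :=
      IsPGroup.of_card (n := 1) (by rw [Nat.card_zpowers, hx', pow_one])
    obtain ⟨Q, hQ⟩ := hp.exists_le_sylow
    obtain ⟨g, hg⟩ := MulAction.exists_smul_eq K Q (F'.sylow.subtype hPK)
    have hmem : g * ⟨x, hxK⟩ * g⁻¹ ∈ F'.sylow.subtype hPK := by
      rw [← hg, Sylow.smul_def]
      exact Subgroup.smul_mem_pointwise_smul _ (MulAut.conj g) Q.toSubgroup
        (hQ (Subgroup.mem_zpowers _))
    obtain ⟨i, -, hi⟩ := F'.mem_sylow.1 (Subgroup.mem_subgroupOf.1 hmem)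
    have hi' : F'.f i = g.1 * x * g.1⁻¹ := hi
    have hne : F'.f i ≠ 1 := fun e => by
      rw [hi', conj_eq_one_iff] at e; rw [e, orderOf_one] at hx; omega
    have hi2 : mul i i = 0 := F'.sq_eq_one_iff.1 (by
      rw [hi', show g.1 * x * g.1⁻¹ * (g.1 * x * g.1⁻¹) = g.1 * (x * x) * g.1⁻¹ by group,
        sq_of_orderOf_two hx]
      group)
    have hback : ConjIn K (F'.f i) x := ⟨g.1⁻¹, K.inv_mem g.2, by rw [hi']; group⟩
    rcases invol_cases hi2 (fun e => hne (by rw [e, F'.map_one])) with rfl | h | h | h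
    · exact Or.inl hback
    · exact Or.inl ((hzqb i h).trans hback)
    · obtain ⟨c, hc⟩ := qa_class i h
      exact Or.inr ((show ConjIn K F'.u (F'.f i) from hc ▸ hcj c uI).trans hback)
    · exact Or.inl ((hzo i h).trans hback)
  have hcent : ∀ x ∈ K, orderOf x = 2 → Subgroup.centralizer ({x} : Set G) ≤ K := fun x hxK hx => by
    rcases hrep x hxK hx with h | h
    · exact h.centralizer_le hzK
    · exact h.centralizer_le hXK
  have hfus : ∀ x ∈ K, ∀ s ∈ K, orderOf x = 2 → orderOf s = 2 → IsConj x s →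
      ∃ g ∈ K, g * x * g⁻¹ = s := by
    intro x hxK s hsK hx hs hc
    rcases hrep x hxK hx with h | h <;> rcases hrep s hsK hs with h' | h'
    · exact h.symm.trans h'
    · exact absurd ((h.isConj.trans hc).trans h'.isConj.symm) F'.not_conj_z_u
    · exact absurd ((h'.isConj.trans hc.symm).trans h.isConj.symm) F'.not_conj_z_u
    · exact h.symm.trans h'
  by_contra hne
  have hev : Even (Nat.card K) :=
    SignalizerStrongEmb.even_card_of_involution_mem F'.orderOf_z (hf zI)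
  have hse := SignalizerStrongEmb.isStronglyEmbedded_of_centralizer hne hev hcent hfus
  exact F'.not_conj_z_u (SignalizerStrongEmb.isConj_involutions hse F'.orderOf_z
    (Two.orderOf_u'))

end Cfsg.Agent.M12Inv51
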