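import Cfsg.Agent.Lib.M12Inv51Ext
import Cfsg.Agent.Lib.M12Inv51CandCheck

/-!
The two kinds of amalgam, and the normal form of the second kind.
-/

set_option autoImplicit false
set_option maxRecDepth 100000

namespace Cfsg.Agent.M12Inv51

open Cfsg.Agent.M12Inv51Data

/-- The normal form of the action of `n`. -/
def beta0 (x : Ix) : Ix := ix (byteAt betaT x.1)
/-- An outer automorphism of the table. -/
def phi (x : Ix) : Ix := ix (byteAt phiT x.1)
/-- Its inverse. -/
def phiI (x : Ix) : Ix := ix (byteAt phiInvT x.1)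
/-- The automorphism or the identity. -/
def twist (c : Bool) (x : Ix) : Ix := if c then phi x else x
/-- The inverse of `twist`. -/
def twistI (c : Bool) (x : Ix) : Ix := if c then phiI x else x

theorem phi_inverse : ∀ x : Ix, phi (phiI x) = x ∧ phiI (phi x) = x := by decide +kernel

theorem phiI_mul : ∀ a b : Ix, phiI (mul a b) = mul (phiI a) (phiI b) := by decide +kernel

theorem phiI_fix : phiI zI = zI ∧ phiI bI = bI ∧ phiI bzI = bzI ∧ phiI tI = tI := by decide +kernel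

theorem kindA_facts : ∀ e ∈ listA, (∀ x ∈ rI, x ∈ qaI → img (tri e.1.1 e.1.2.1 e.1.2.2) x ∈ oIs) ∧
    ¬ (e.1 = (beta0 (r3 0), beta0 (r3 1), beta0 (r3 2))) := by decide +kernel

theorem kindB_facts : ∀ e ∈ listB,
    (e.2.2.2.1 ∈ rI ∧ mul (img (tri e.1.1 e.1.2.1 e.1.2.2) e.2.2.2.1) e.2.2.2.1 = 0) ∧
    (e.2.2.2.2 ∈ rI ∧ e.2.2.2.2 ∈ qbI ∧ img (tri e.1.1 e.1.2.1 e.1.2.2) e.2.2.2.2 ∈ oIs) ∧
    (∀ x ∈ rI, cj e.2.2.2.1 (twistI e.2.2.1 x) ∈ rI ∧
      twist e.2.2.1 (img (tri e.1.1 e.1.2.1 e.1.2.2) (cj e.2.2.2.1 (twistI e.2.2.1 x))) = beta0 x) ∧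
    (e.1 = (beta0 (r3 0), beta0 (r3 1), beta0 (r3 2)) → e.2.1 = 0) := by decide +kernel

theorem beta0_spec : beta0 uI = uI ∧ beta0 bI = bI ∧ beta0 zI = bzI ∧ ∀ x ∈ rI, beta0 x ∈ rI := by
  decide +kernel

theorem rI_of_comm : ∀ i : Ix, comm i bI = true → i ∈ rI := fun i h => (rI_spec i).2 h

theorem inv_mem_rI : ∀ x ∈ rI, inv x ∈ rI := by decide +kernel

/-- The frame seen through the automorphism. -/
def Frame.twisted {G : Type*} [Group G] (F : Frame G) : Frame G where
  f x := F.f (phiI x)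
  inj := fun a b e => by
    have := F.inj e
    rw [← (phi_inverse a).1, ← (phi_inverse b).1, this]
  map_mul a b := by rw [phiI_mul, F.map_mul]
  cent g := by
    rw [phiI_fix.1, F.cent g]
    constructor
    · rintro ⟨i, rfl⟩; exact ⟨phi i, by rw [(phi_inverse i).2]⟩
    · rintro ⟨i, rfl⟩; exact ⟨_, rfl⟩

namespace Ext

variable {G : Type*} [Group G] {F : Frame G} (E : Ext F)

theorem n_inv : E.n⁻¹ = E.n := inv_eq_of_mul_eq_one_right E.sq

/-- The index of a conjugate by `n`. -/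
noncomputable def im (x : Ix) : Ix := if h : x ∈ rI then (E.norm x h).choose else 0

theorem im_spec {x : Ix} (h : x ∈ rI) : E.im x ∈ rI ∧ E.n * F.f x * E.n⁻¹ = F.f (E.im x) := by
  rw [im, dif_pos h]; exact (E.norm x h).choose_spec

/-- The images of the three generators. -/
noncomputable def a3 : Nat → Ix := tri (E.im (r3 0)) (E.im (r3 1)) (E.im (r3 2))

theorem a3_spec {i : Nat} (hi : i < 3) : E.a3 i = E.im (r3 i) := by
  interval_cases i <;> simp [a3, tri]

theorem conj_img {x : Ix} (hx : x ∈ rI) : E.n * F.f x * E.n⁻¹ = F.f (img E.a3 x) := by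
  obtain ⟨hev, hlt⟩ := w3_spec x hx
  have key : ∀ (l : List Nat), (∀ i ∈ l, i < 3) → ∀ c c' : Ix,
      E.n * F.f c * E.n⁻¹ = F.f c' →
      E.n * F.f (l.foldl (fun x i => mul x (r3 i)) c) * E.n⁻¹ =
        F.f (l.foldl (fun x i => mul x (E.a3 i)) c') := by
    intro l
    induction l with
    | nil => exact fun _ c c' h => h
    | cons i l ih =>
      intro hl c c' h
      refine ih (fun j hj => hl j (List.mem_cons_of_mem _ hj)) _ _ ?_
      have hi := hl i List.mem_cons_self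
      rw [F.map_mul, F.map_mul, a3_spec E hi, ← (E.im_spec (r3_mem i hi).1).2, ← h]
      group
  have h := key _ hlt 0 0 (by rw [F.map_one]; group)
  rw [show ((w3.getD x.1 []).foldl (fun x i => mul x (r3 i)) 0) = x from hev] at h
  exact h

theorem img_mem {x : Ix} (hx : x ∈ rI) : img E.a3 x ∈ rI := by
  obtain ⟨h1, h2⟩ := E.im_spec hx
  rw [E.conj_img hx] at h2
  exact F.inj h2 ▸ h1

/-- The product of `t` and `n`. -/
def y : G := F.t * E.n

theorem cube_mem [Finite G] : ∃ r ∈ rI, F.f r = E.y * E.y * E.y := by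
  obtain ⟨-, -, -, -, htb, htbz, htz, -⟩ := special_mul
  have hyz : E.y * F.z * E.y⁻¹ = F.b := by
    calc E.y * F.z * E.y⁻¹ = F.t * (E.n * F.z * E.n⁻¹) * F.t⁻¹ := by rw [y]; group
      _ = F.b := by rw [E.move_z, Frame.t, ← F.map_cj, htbz]; rfl
  have hyb : E.y * F.b * E.y⁻¹ = F.f bzI := by
    calc E.y * F.b * E.y⁻¹ = F.t * (E.n * F.b * E.n⁻¹) * F.t⁻¹ := by rw [y]; group
      _ = _ := by rw [E.fix_b, Frame.t, Frame.b, ← F.map_cj, htb]
  have hybz : E.y * F.f bzI * E.y⁻¹ = F.z := by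
    calc E.y * F.f bzI * E.y⁻¹ = (E.y * F.b * E.y⁻¹) * (E.y * F.z * E.y⁻¹) := by
          rw [← special_mul.1, F.map_mul]; show E.y * (F.b * F.z) * E.y⁻¹ = _; group
      _ = F.z := by
          rw [hyb, hyz, Frame.b, ← F.map_mul]
          show F.f _ = F.f zI
          congr 1
  have h3z : E.y * E.y * E.y * F.z = F.z * (E.y * E.y * E.y) := by
    refine mul_inv_eq_iff_eq_mul.1 ?_
    calc E.y * E.y * E.y * F.z * (E.y * E.y * E.y)⁻¹
        = E.y * (E.y * (E.y * F.z * E.y⁻¹) * E.y⁻¹) * E.y⁻¹ := by group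
      _ = F.z := by rw [hyz, hyb, hybz]
  have h3b : E.y * E.y * E.y * F.b = F.b * (E.y * E.y * E.y) := by
    refine mul_inv_eq_iff_eq_mul.1 ?_
    calc E.y * E.y * E.y * F.b * (E.y * E.y * E.y)⁻¹
        = E.y * (E.y * (E.y * F.b * E.y⁻¹) * E.y⁻¹) * E.y⁻¹ := by group
      _ = F.b := by rw [hyb, hybz, hyz]
  obtain ⟨r, hr⟩ := F.exists_of_commute h3z
  refine ⟨r, rI_of_comm r ?_, hr⟩
  rw [← F.commute_iff, hr]; exact h3b

theorem im_invol {i : Nat} (hi : i < 3) : E.im (r3 i) ∈ invRI := by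
  obtain ⟨hm, h1, h0⟩ := r3_mem i hi
  obtain ⟨hmem, h⟩ := E.im_spec hm
  refine invRI_spec _ hmem ?_ ?_
  · rw [← F.sq_eq_one_iff, ← h]
    calc E.n * F.f (r3 i) * E.n⁻¹ * (E.n * F.f (r3 i) * E.n⁻¹)
        = E.n * (F.f (r3 i) * F.f (r3 i)) * E.n⁻¹ := by group
      _ = 1 := by rw [F.sq_eq_one_iff.2 h1]; group
  · intro e
    rw [e, F.map_one, conj_eq_one_iff, F.eq_one_iff] at h
    exact h0 h

theorem known_im [Finite G] : ∃ r ∈ rI, F.f r = E.y * E.y * E.y ∧
    known (E.im (r3 0)) (E.im (r3 1)) (E.im (r3 2)) r = true := by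
  obtain ⟨r, hr, he⟩ := E.cube_mem
  refine ⟨r, hr, he, classify_aux _ (E.im_invol (by norm_num)) _ (E.im_invol (by norm_num)) _
    (E.im_invol (by norm_num)) ?_ r hr ?_⟩
  · -- the conditions on the images
    change okA E.a3 = true
    obtain ⟨hz, hb, -, hu, -, -, -, -, -⟩ := special_mem
    have e : ∀ {x w : Ix}, x ∈ rI → E.n * F.f x * E.n⁻¹ = F.f w → img E.a3 x = w :=
      fun hx h => F.inj ((E.conj_img hx).symm.trans h)
    have inv3 : ∀ i < 3, img E.a3 (E.a3 i) = r3 i := fun i hi => by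
      obtain ⟨hm, h⟩ := E.im_spec (r3_mem i hi).1
      rw [a3_spec E hi]
      refine e hm ?_
      rw [← h]
      calc E.n * (E.n * F.f (r3 i) * E.n⁻¹) * E.n⁻¹ = (E.n * E.n) * F.f (r3 i) * (E.n * E.n)⁻¹ := by
            group
        _ = F.f (r3 i) := by rw [E.sq]; group
    simp only [okA, Bool.and_eq_true, beq_iff_eq, List.all_eq_true]
    refine ⟨⟨⟨⟨⟨e hz E.move_z, e hb E.fix_b⟩, ?_⟩, ?_⟩, ?_⟩, ?_⟩
    rotate_right
    · intro x hx i hi
      have hi3 : i < 3 := by
        simp only [List.mem_cons, List.not_mem_nil, or_false] at hi; omega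
      refine e ((F.f_mem_sub (h := rI_ok.1)).1 ?_) ?_
      · rw [F.map_mul]
        exact mul_mem (F.f_mem_sub.2 hx) (F.f_mem_sub.2 (r3_mem i hi3).1)
      · rw [F.map_mul, F.map_mul, a3_spec E hi3, ← (E.im_spec (r3_mem i hi3).1).2, ← E.conj_img hx]
        group
    all_goals exact inv3 _ (by norm_num)
  · -- the conditions on the cube
    change okR E.a3 r = true
    have ht2 : F.t * F.t = 1 := by rw [Frame.t, ← F.map_mul, special_mul.2.2.2.2.2.2.2, F.map_one]
    have hti : F.t⁻¹ = F.t := inv_eq_of_mul_eq_one_right ht2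
    simp only [okR, Bool.and_eq_true, beq_iff_eq, List.all_eq_true]
    refine ⟨⟨?_, ?_⟩, ?_⟩
    · apply F.inj
      rw [← E.conj_img hr, F.map_inv, he, y]
      simp only [mul_inv_rev, hti, E.n_inv]
      calc E.n * (F.t * E.n * (F.t * E.n) * (F.t * E.n)) * E.n
          = E.n * F.t * (E.n * F.t) * (E.n * F.t) * (E.n * E.n) := by group
        _ = _ := by rw [E.sq]; group
    · apply F.inj
      rw [F.map_cj, F.map_inv, he, y]
      simp only [mul_inv_rev, hti, E.n_inv]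
      show F.t * _ * F.t⁻¹ = _
      rw [hti]
      calc F.t * (F.t * E.n * (F.t * E.n) * (F.t * E.n)) * F.t
          = (F.t * F.t) * (E.n * F.t * (E.n * F.t) * (E.n * F.t)) := by group
        _ = _ := by rw [ht2]; group
    · intro i hi
      have hi3 : i < 3 := by
        simp only [List.mem_cons, List.not_mem_nil, or_false] at hi; omega
      have hstep : ∀ {x : Ix}, x ∈ rI →
          F.f (cj tI (img E.a3 x)) = E.y * F.f x * E.y⁻¹ := fun {x} hx => by
        rw [F.map_cj, ← E.conj_img hx, y, Frame.t]; group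
      have h1 := tI_norm _ (E.img_mem (r3_mem i hi3).1)
      have h2 := tI_norm _ (E.img_mem h1)
      apply F.inj
      rw [hstep h2, hstep h1, hstep (r3_mem i hi3).1, F.map_cj, he]
      group

/-- Either `u` is fused with `o`, or the second kind holds. -/
theorem kind [Finite G] : (∀ x ∈ rI, x ∈ qaI → ∃ j ∈ oIs, E.n * F.f x * E.n⁻¹ = F.f j) ∨
    (∃ e ∈ listB, e.1 = (E.im (r3 0), E.im (r3 1), E.im (r3 2)) ∧
      F.f e.2.1 = E.y * E.y * E.y) := by
  obtain ⟨r, -, he, hk⟩ := E.known_im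
  simp only [known, Bool.or_eq_true, List.elem_iff, List.any_eq_true, Bool.and_eq_true,
    beq_iff_eq] at hk
  rcases hk with h | ⟨e, hel, h1, h2⟩
  · left
    intro x hx hxa
    exact ⟨_, (kindA_facts _ h).1 x hx hxa, E.conj_img hx⟩
  · right
    exact ⟨e, hel, h1, by rw [h2]; exact he⟩

end Ext

/-- The normal form: `n` acts by `beta0` and `t n` has order three. -/
structure NExt {G : Type*} [Group G] (F : Frame G) where
  n : G
  sq : n * n = 1
  map : ∀ x ∈ rI, n * F.f x * n⁻¹ = F.f (beta0 x)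
  cube : F.t * n * (F.t * n) * (F.t * n) = 1
  fused : IsConj F.z (F.f oI)

/-- Normalisation. -/
theorem exists_nExt {G : Type*} [Group G] [Finite G] [IsSimpleGroup G] (hG : ¬ IsMulCommutative G)
    (F : Frame G) (E : Ext F) :
    (∀ x ∈ rI, x ∈ qaI → ∃ j ∈ oIs, E.n * F.f x * E.n⁻¹ = F.f j) ∨
      ∃ F' : Frame G, F'.z = F.z ∧ Nonempty (NExt F') := by
  refine (E.kind).imp id ?_
  rintro ⟨e, he, hab, -⟩
  obtain ⟨⟨hr, hrr⟩, ⟨hq, hqq, hqo⟩, hmap, -⟩ := kindB_facts e he
  have ha : tri e.1.1 e.1.2.1 e.1.2.2 = E.a3 := by rw [hab]; rfl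
  rw [ha] at hrr hqo
  -- the frame
  let F' : Frame G := if e.2.2.1 then F.twisted else F
  have hf : ∀ x, F'.f x = F.f (twistI e.2.2.1 x) := fun x => by
    simp only [F', twistI]
    split <;> rfl
  have hz : F'.z = F.z := by
    rw [Frame.z, hf, twistI]
    split
    · rw [phiI_fix.1]; rfl
    · rfl
  have hzo : IsConj F'.z (F'.f oI) := by
    -- `o` is fused with a conjugate of `b`
    have h1 : IsConj F.z (F.f oI) :=
      (((F.conj_z_b hG).trans (F.conj_qb hqq)).trans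
        (E.conj_img hq ▸ isConj_conj E.n (F.f e.2.2.2.2))).trans (F.conj_o hqo).symm
    have h2 : ∀ c, twistI c oI ∈ oIs := by decide +kernel
    rw [hz, hf]
    exact h1.trans (F.conj_o (h2 _))
  set n' := E.n * F.f e.2.2.2.1 with hn'
  have hn2 : n' * n' = 1 := by
    have h := congrArg F.f hrr
    rw [F.map_mul, F.map_one, ← E.conj_img hr, E.n_inv] at h
    rw [hn', ← h]; group
  have hact : ∀ x ∈ rI, n' * F'.f x * n'⁻¹ = F'.f (beta0 x) := by
    intro x hx
    obtain ⟨h1, h2⟩ := hmap x hx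
    rw [ha] at h2
    have h3 : twistI e.2.2.1 (twist e.2.2.1 (img E.a3 (cj e.2.2.2.1 (twistI e.2.2.1 x)))) =
        img E.a3 (cj e.2.2.2.1 (twistI e.2.2.1 x)) := by
      simp only [twist, twistI]
      split
      · exact (phi_inverse _).2
      · rfl
    rw [hf, hf, ← h2, h3, ← E.conj_img h1, F.map_cj, hn']
    group
  let E' : Ext F' :=
    { n := n'
      sq := hn2
      fix_b := by rw [Frame.b, hact bI special_mem.2.1, beta0_spec.2.1]
      move_z := by rw [Frame.z, hact zI special_mem.1, beta0_spec.2.2.1]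
      norm := fun i hi => ⟨_, beta0_spec.2.2.2 i hi, hact i hi⟩ }
  have him : ∀ i < 3, E'.im (r3 i) = beta0 (r3 i) := fun i hi =>
    F'.inj ((E'.im_spec (r3_mem i hi).1).2.symm.trans (hact _ (r3_mem i hi).1))
  obtain ⟨r, -, hcube, hk⟩ := E'.known_im
  rw [him 0 (by norm_num), him 1 (by norm_num), him 2 (by norm_num)] at hk
  simp only [known, Bool.or_eq_true, List.elem_iff, List.any_eq_true, Bool.and_eq_true,
    beq_iff_eq] at hk
  have hr0 : r = 0 := by
    rcases hk with h | ⟨e', he', h1, h2⟩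
    · exact absurd rfl (kindA_facts _ h).2
    · rw [← h2]; exact (kindB_facts e' he').2.2.2 h1
  rw [hr0, F'.map_one] at hcube
  exact ⟨F', hz, ⟨⟨n', hn2, hact, hcube.symm, hzo⟩⟩⟩

end Cfsg.Agent.M12Inv51
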