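import Cfsg.Agent.Lib.M12Inv51Classes
import Cfsg.Agent.Lib.M12Inv51Kinds

/-!
The first kind of amalgam does not occur in a simple group.
-/

set_option autoImplicit false
set_option maxRecDepth 100000

namespace Cfsg.Agent.M12Inv51

open Cfsg.Agent.M12Inv51Data

/-- The members of the first class commuting with `u`. -/
def e3 : List Ix := [zI, bI, bzI]

theorem blA_tU : ∀ i ∈ tU, i ∈ blA → i ∈ e3 := by decide +kernel
theorem e3_sub : ∀ i ∈ e3, i ∈ tU ∧ i ∈ blA ∧ i ∈ rI ∧ mul i i = 0 := by decide +kernel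
theorem e3_comm : ∀ i ∈ e3, ∀ j ∈ e3, comm i j = true := by decide +kernel
theorem tI_uI : cj tI uI = uI := by decide +kernel
theorem cj_uI : ∀ c : Ix, cj c uI ∈ qaI := by decide +kernel
theorem qa_o_disjoint : ∀ i ∈ qaI, i ∉ oIs := by decide +kernel
theorem tU_exp : ∀ i ∈ tU, pw i 4 = 0 := by decide +kernel
theorem o_cent_exp : ∀ i : Ix, ∀ j ∈ oIs, comm i j = true → pw i 8 = 0 := by decide +kernel
theorem blA_card : blA.toFinset.card = 7 ∧ e3.toFinset.card = 3 := by decide +kernel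
theorem blA_comm : ∀ i ∈ blA, comm zI i = true := by decide +kernel

theorem eq_one_of_odd_pow {G : Type*} [Group G] {x : G} {k : ℕ} (hodd : Odd (orderOf x))
    (h : x ^ 2 ^ k = 1) : x = 1 := by
  obtain ⟨j, -, hj⟩ := (Nat.dvd_prime_pow Nat.prime_two).1 (orderOf_dvd_of_pow_eq_one h)
  rw [hj] at hodd
  rcases Nat.eq_zero_or_pos j with rfl | h'
  · exact orderOf_eq_one_iff.1 (by rw [hj, pow_zero])
  · exact absurd hodd (Nat.not_odd_iff_even.2 ((Nat.even_pow' h'.ne').2 even_two))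

/-- An involution without fixed points on a finite normalised subgroup inverts it. -/
theorem inverts_of_fixedPointFree {G : Type*} [Group G] [Finite G] {a : G} (ha : a * a = 1)
    (N : Subgroup G) (hn : ∀ x ∈ N, a * x * a⁻¹ ∈ N)
    (hfix : ∀ x ∈ N, a * x * a⁻¹ = x → x = 1) {y : G} (hy : y ∈ N) : a * y * a⁻¹ = y⁻¹ := by
  let φ : N → N := fun x => ⟨(x : G)⁻¹ * (a * x * a⁻¹), N.mul_mem (N.inv_mem x.2) (hn _ x.2)⟩
  have hφ : Function.Injective φ := by
    intro x x' e
    have e' : (x : G)⁻¹ * (a * x * a⁻¹) = (x' : G)⁻¹ * (a * x' * a⁻¹) := congrArg Subtype.val e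
    have h : a * ((x' : G) * (x : G)⁻¹) * a⁻¹ = (x' : G) * (x : G)⁻¹ := by
      calc a * ((x' : G) * (x : G)⁻¹) * a⁻¹
          = (x' : G) * ((x' : G)⁻¹ * (a * x' * a⁻¹)) * ((x : G)⁻¹ * (a * x * a⁻¹))⁻¹ * (x : G)⁻¹ := by
            group
        _ = (x' : G) * (x : G)⁻¹ := by rw [← e']; group
    exact Subtype.ext (mul_inv_eq_one.1 (hfix _ (N.mul_mem x'.2 (N.inv_mem x.2)) h)).symm
  obtain ⟨x, hx⟩ := Finite.injective_iff_surjective.1 hφ ⟨y, hy⟩
  rw [← show (x : G)⁻¹ * (a * x * a⁻¹) = y from congrArg Subtype.val hx]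
  have hai : a⁻¹ = a := inv_eq_of_mul_eq_one_right ha
  rw [hai, mul_inv_rev, inv_inv]
  calc a * ((x : G)⁻¹ * (a * x * a)) * a = a * (x : G)⁻¹ * a * x * (a * a) := by group
    _ = _ := by rw [ha, mul_one, mul_inv_rev, mul_inv_rev, hai]; group

theorem kindA_false {G : Type*} [Group G] [Finite G] [IsSimpleGroup G] (hG : ¬ IsMulCommutative G)
    (F : Frame G) (E : Ext F)
    (hA : ∀ x ∈ rI, x ∈ qaI → ∃ j ∈ oIs, E.n * F.f x * E.n⁻¹ = F.f j) : False := by
  obtain ⟨-, -, -, huR, -, -, hbq, huq, -, -, hbzq⟩ := special_mem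
  obtain ⟨hbz, -, hbbz, -, htb, -, -, htt⟩ := special_mul
  obtain ⟨o', ho', ho⟩ := hA uI huR huq
  have huo : IsConj F.u (F.f oI) :=
    ((isConj_conj E.n F.u).trans (ho ▸ IsConj.refl _)).trans (F.conj_o ho').symm
  have T : Two F blA alA :=
    { inZ := by
        intro i hi
        rcases List.mem_cons.1 hi with rfl | hi
        · exact IsConj.refl _
        · exact (F.conj_z_b hG).trans (F.conj_qb hi)
      inU := by
        intro i hi
        rcases List.mem_append.1 hi with hi | hi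
        · exact F.conj_qa hi
        · exact huo.trans (F.conj_o hi)
      invol := listsA_invol
      cover := fun i => by
        rintro (h | h | h | h)
        · exact Or.inl (List.mem_cons.2 (Or.inl h))
        · exact Or.inl (List.mem_cons.2 (Or.inr h))
        · exact Or.inr (List.mem_append.2 (Or.inl h))
        · exact Or.inr (List.mem_append.2 (Or.inr h))
      zmul := listsA_zmul }
  set X := Subgroup.centralizer ({F.u} : Set G)
  have hT : F.sub tU tU_ok.1 ≤ X := by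
    rintro x ⟨m, hm, rfl⟩
    rw [Subgroup.mem_centralizer_singleton_iff, Frame.u, F.commute_iff]
    exact (tU_spec m).1 hm
  have hXmem : ∀ g : G, g ∈ X → g * F.z = F.z * g → ∃ i ∈ tU, F.f i = g := by
    intro g hg hgz
    obtain ⟨i, rfl⟩ := F.exists_of_commute hgz
    refine ⟨i, (tU_spec i).2 ?_, rfl⟩
    rw [← F.commute_iff]
    exact Subgroup.mem_centralizer_singleton_iff.1 hg
  -- conjugating elements
  have hn2 := E.sq
  have hti : F.t⁻¹ = F.t := inv_eq_of_mul_eq_one_right (by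
    rw [Frame.t, ← F.map_mul, htt, F.map_one])
  have hzw : E.n * F.f bzI * E.n⁻¹ = F.z := by
    rw [← E.move_z]
    calc E.n * (E.n * F.z * E.n⁻¹) * E.n⁻¹ = (E.n * E.n) * F.z * (E.n * E.n)⁻¹ := by group
      _ = F.z := by rw [hn2]; group
  have hbw : E.n * F.t * F.b * (E.n * F.t)⁻¹ = F.z := by
    rw [← hzw]
    calc E.n * F.t * F.b * (E.n * F.t)⁻¹ = E.n * (F.t * F.b * F.t⁻¹) * E.n⁻¹ := by group
      _ = _ := by rw [Frame.t, Frame.b, ← F.map_cj, htb]
  have huw : E.n * F.t * F.u * (E.n * F.t)⁻¹ = F.f o' := by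
    rw [← ho]
    calc E.n * F.t * F.u * (E.n * F.t)⁻¹ = E.n * (F.t * F.u * F.t⁻¹) * E.n⁻¹ := by group
      _ = _ := by rw [Frame.t, Frame.u, ← F.map_cj, tI_uI]
  have hunw : E.n * F.u * E.n⁻¹ = F.f o' := ho
  have huX : ∀ {g : G}, g ∈ X → g * F.u * g⁻¹ = F.u := fun {g} hg =>
    mul_inv_eq_iff_eq_mul.2 (Subgroup.mem_centralizer_singleton_iff.1 hg)
  -- fusion of z inside X is trivial
  have hiso : ∀ g ∈ X, ∀ i ∈ tU, g * F.z * g⁻¹ = F.f i → g * F.z * g⁻¹ = F.z := by
    intro g hg i hi hgi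
    have hib := blA_tU i hi (T.mem_bl (hgi ▸ isConj_conj g F.z))
    have key : ∀ w : G, w * F.f i * w⁻¹ = F.z → w * F.u * w⁻¹ = F.f o' → False := by
      intro w hw1 hw2
      have hc : w * g * F.z = F.z * (w * g) := by
        refine mul_inv_eq_iff_eq_mul.1 ?_
        calc w * g * F.z * (w * g)⁻¹ = w * (g * F.z * g⁻¹) * w⁻¹ := by group
          _ = F.z := by rw [hgi, hw1]
      obtain ⟨c, hcg⟩ := F.exists_of_commute hc
      have h1 : F.f (cj c uI) = F.f o' := by
        rw [F.map_cj, hcg, ← hw2]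
        calc w * g * F.u * (w * g)⁻¹ = w * (g * F.u * g⁻¹) * w⁻¹ := by group
          _ = _ := by rw [huX hg]
      exact qa_o_disjoint _ (cj_uI c) (F.inj h1 ▸ ho')
    simp only [e3, List.mem_cons, List.not_mem_nil, or_false] at hib
    rcases hib with rfl | rfl | rfl
    · exact hgi
    · exact (key _ hbw huw).elim
    · exact (key _ hzw hunw).elim
  -- z is isolated in X
  haveI : Fact (Nat.Prime 2) := ⟨Nat.prime_two⟩
  have hcardT : Nat.card ((F.sub tU tU_ok.1).subgroupOf X) = 16 := by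
    rw [Nat.card_congr (Subgroup.subgroupOfEquivOfLe hT).toEquiv, F.card_sub, tU_ok.2]
  let P : Sylow 2 X := Sylow.ofCard ((F.sub tU tU_ok.1).subgroupOf X) (by
    rw [hcardT]
    have h16 : 2 ^ 4 ∣ Nat.card X := by
      have := Subgroup.card_subgroup_dvd_card ((F.sub tU tU_ok.1).subgroupOf X)
      rwa [hcardT] at this
    have h1 : 4 ≤ (Nat.card X).factorization 2 :=
      (Nat.prime_two.pow_dvd_iff_le_factorization Nat.card_pos.ne').1 h16
    have h2 : ¬ 5 ≤ (Nat.card X).factorization 2 := fun h =>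
      F.not_dvd_32_u ((Nat.prime_two.pow_dvd_iff_le_factorization Nat.card_pos.ne').2 h)
    rw [show (Nat.card X).factorization 2 = 4 by omega]; rfl)
  have hzX : F.z ∈ X := Subgroup.mem_centralizer_singleton_iff.2 (F.commute_z uI).symm
  obtain ⟨N, hN, hNodd, hNc⟩ := S0215.result P (⟨F.z, hzX⟩ : X)
    (by rw [← Subgroup.orderOf_coe, F.orderOf_z])
    ⟨zI, (e3_sub zI (List.mem_cons_self)).1, rfl⟩
    (fun g hg => Subtype.ext (by
      obtain ⟨i, hi, hgi⟩ := hg
      exact hiso g.1 g.2 i hi hgi.symm))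
  set M := N.map X.subtype
  have hMX : M ≤ X := Subgroup.map_subtype_le _
  have hMn : ∀ g ∈ X, ∀ x ∈ M, g * x * g⁻¹ ∈ M := by
    rintro g hg _ ⟨x, hx, rfl⟩
    exact ⟨⟨g, hg⟩ * x * ⟨g, hg⟩⁻¹, hN.conj_mem x hx _, rfl⟩
  have hModd : ∀ x ∈ M, Odd (orderOf x) := by
    rintro _ ⟨x, hx, rfl⟩
    refine Odd.of_dvd_nat hNodd ?_
    rw [Subgroup.coe_subtype, Subgroup.orderOf_coe, ← Subgroup.orderOf_mk x hx]
    exact orderOf_dvd_natCard _
  have hfree : ∀ x ∈ M, (x * F.z = F.z * x → x = 1) ∧ (x * F.b = F.b * x → x = 1) ∧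
      (x * F.f bzI = F.f bzI * x → x = 1) := by
    intro x hx
    have hxu : x * F.u * x⁻¹ = F.u := huX (hMX hx)
    have key : ∀ w a : G, w * a * w⁻¹ = F.z → w * F.u * w⁻¹ = F.f o' → x * a = a * x → x = 1 := by
      intro w a hw1 hw2 hc
      obtain ⟨c, hcw⟩ := F.exists_of_commute (g := w * x * w⁻¹) (by
        rw [← hw1]
        calc w * x * w⁻¹ * (w * a * w⁻¹) = w * (x * a) * w⁻¹ := by group
          _ = _ := by rw [hc]; group)
      have hc' : comm c o' = true := by
        rw [← F.commute_iff, hcw, ← hw2]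
        calc w * x * w⁻¹ * (w * F.u * w⁻¹) = w * (x * F.u * x⁻¹) * x * w⁻¹ := by group
          _ = w * F.u * x * w⁻¹ := by rw [hxu]
          _ = _ := by group
      have h1 : w * x ^ 2 ^ 3 * w⁻¹ = 1 := by
        rw [← conj_pow, ← hcw, ← F.map_pw, show (2 : ℕ) ^ 3 = 8 from rfl,
          o_cent_exp c o' ho' hc', F.map_one]
      exact eq_one_of_odd_pow (hModd x hx) (conj_eq_one_iff.1 h1)
    refine ⟨fun hc => ?_, key _ _ hbw huw, key _ _ hzw hunw⟩
    obtain ⟨i, hi, rfl⟩ := hXmem x (hMX hx) hc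
    exact eq_one_of_odd_pow (k := 2) (hModd _ hx) (by
      rw [← F.map_pw, show (2 : ℕ) ^ 2 = 4 from rfl, tU_exp i hi, F.map_one])
  have hb2 : F.b * F.b = 1 := by
    rw [Frame.b, ← F.map_mul, (classes_invol bI (Or.inl hbq)).1, F.map_one]
  have hz2 : F.z * F.z = 1 := sq_of_orderOf_two F.orderOf_z
  have hbX : F.b ∈ X := hT (F.f_mem_sub.2 (e3_sub bI (by simp [e3])).1)
  have htriv : ∀ x ∈ M, x = 1 := by
    intro x hx
    have ez := inverts_of_fixedPointFree hz2 M (hMn _ hzX)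
      (fun y hy e => (hfree y hy).1 (mul_inv_eq_iff_eq_mul.1 e).symm) hx
    have eb := inverts_of_fixedPointFree hb2 M (hMn _ hbX)
      (fun y hy e => (hfree y hy).2.1 (mul_inv_eq_iff_eq_mul.1 e).symm) (M.inv_mem hx)
    refine (hfree x hx).2.2 (mul_inv_eq_iff_eq_mul.1 ?_).symm
    rw [← hbz, F.map_mul]
    calc F.b * F.z * x * (F.b * F.z)⁻¹ = F.b * (F.z * x * F.z⁻¹) * F.b⁻¹ := by group
      _ = x := by rw [ez, eb, inv_inv]
  have hXC : ∀ g ∈ X, g * F.z = F.z * g := by
    intro g hg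
    have h := htriv _ ⟨_, hNc ⟨g, hg⟩, rfl⟩
    simp only [map_mul, map_inv, Subgroup.coe_subtype] at h
    calc g * F.z = (F.z * g * F.z⁻¹ * g⁻¹) * (g * F.z) := by rw [h, one_mul]
      _ = _ := by group
  have hX : Nat.card X = 16 := by
    have e : X = F.sub tU tU_ok.1 := le_antisymm (fun g hg => hXmem g hg (hXC g hg)) hT
    rw [e, F.card_sub, tU_ok.2]
  -- odd pairs
  have hau : Nat.card {p : G × G // (IsConj F.z p.1 ∧ Commute p.1 F.u) ∧
      (IsConj F.z p.2 ∧ Commute p.2 F.u) ∧ Odd (orderOf (p.1 * p.2))} = 3 := by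
    have hD : ∀ x : G, IsConj F.z x → Commute x F.u → ∃ i ∈ e3, F.f i = x := by
      intro x hx hc
      obtain ⟨i, hi, rfl⟩ := hXmem x (Subgroup.mem_centralizer_singleton_iff.2 hc.eq)
        (hXC x (Subgroup.mem_centralizer_singleton_iff.2 hc.eq))
      exact ⟨i, blA_tU i hi (T.mem_bl hx), rfl⟩
    rw [← blA_card.2, ← Nat.card_eq_finsetCard]
    have hmem : ∀ i : {x // x ∈ e3.toFinset}, (IsConj F.z (F.f i.1) ∧ Commute (F.f i.1) F.u) ∧
        (IsConj F.z (F.f i.1) ∧ Commute (F.f i.1) F.u) ∧ Odd (orderOf (F.f i.1 * F.f i.1)) := by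
      intro i
      obtain ⟨h1, h2, -, h4⟩ := e3_sub i.1 (List.mem_toFinset.1 i.2)
      have h : IsConj F.z (F.f i.1) ∧ Commute (F.f i.1) F.u :=
        ⟨T.inZ _ h2, Subgroup.mem_centralizer_singleton_iff.1 (hT (F.f_mem_sub.2 h1))⟩
      refine ⟨h, h, ?_⟩
      rw [F.sq_eq_one_iff.2 h4, orderOf_one]
      exact odd_one
    refine (Nat.card_congr (Equiv.ofBijective (fun i => ⟨(F.f i.1, F.f i.1), hmem i⟩) ⟨?_, ?_⟩)).symm
    · intro a c e
      exact Subtype.ext (F.inj (congrArg (fun p => p.1.1) e))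
    · rintro ⟨⟨a, c⟩, ⟨ha, hau⟩, ⟨hc, hcu⟩, ho⟩
      obtain ⟨i, hi, rfl⟩ := hD a ha hau
      obtain ⟨j, hj, rfl⟩ := hD c hc hcu
      have hij : F.f i * F.f j = 1 := by
        refine eq_one_of_odd_pow (k := 1) ho ?_
        rw [pow_one, pow_two]
        have hcm := F.commute_iff.2 (e3_comm i hi j hj)
        calc F.f i * F.f j * (F.f i * F.f j) = F.f i * (F.f j * F.f i) * F.f j := by group
          _ = (F.f i * F.f i) * (F.f j * F.f j) := by rw [← hcm]; group
          _ = 1 := by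
            rw [F.sq_eq_one_iff.2 (e3_sub i hi).2.2.2, F.sq_eq_one_iff.2 (e3_sub j hj).2.2.2,
              one_mul]
      have e : F.f i = F.f j := by
        rw [← mul_left_inj (F.f j), hij, F.sq_eq_one_iff.2 (e3_sub j hj).2.2.2]
      exact ⟨⟨i, List.mem_toFinset.2 hi⟩, Subtype.ext (Prod.ext rfl e)⟩
  have hord := T.order
  rw [hit_card_A, hX, hau] at hord
  have hcl := card_class_mul F.z
  rw [F.card_centralizer, hord] at hcl
  have h7 : Nat.card {x : G // IsConj F.z x} = 7 := by omega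
  let φ : {x // x ∈ blA.toFinset} → {x : G // IsConj F.z x} :=
    fun i => ⟨F.f i.1, T.inZ _ (List.mem_toFinset.1 i.2)⟩
  have hφ : Function.Bijective φ := (Nat.bijective_iff_injective_and_card φ).2
    ⟨fun a c e => Subtype.ext (F.inj (congrArg Subtype.val e)),
      by rw [h7, Nat.card_eq_finsetCard, blA_card.1]⟩
  have hcen : F.z ∈ Subgroup.center G := by
    have hall : ∀ g : G, g * F.z * g⁻¹ ∈ Subgroup.centralizer ({F.z} : Set G) := by
      intro g
      obtain ⟨i, hi⟩ := hφ.2 ⟨g * F.z * g⁻¹, isConj_conj g F.z⟩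
      rw [← show F.f i.1 = g * F.z * g⁻¹ from congrArg Subtype.val hi,
        Subgroup.mem_centralizer_singleton_iff]
      exact (F.commute_z i.1)
    have hle : Subgroup.normalClosure ({F.z} : Set G) ≤ Subgroup.centralizer ({F.z} : Set G) := by
      refine (Subgroup.closure_le _).2 ?_
      intro x hx
      obtain ⟨y, hy, hxy⟩ := Group.mem_conjugatesOfSet_iff.1 hx
      rw [Set.mem_singleton_iff] at hy
      obtain ⟨g, rfl⟩ := isConj_iff.1 (hy ▸ hxy)
      exact hall g
    rcases Subgroup.Normal.eq_bot_or_eq_top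
      (Subgroup.normalClosure_normal : (Subgroup.normalClosure ({F.z} : Set G)).Normal) with h | h
    · have := Subgroup.subset_normalClosure (Set.mem_singleton F.z)
      rw [h, SetLike.mem_coe, Subgroup.mem_bot] at this
      exact absurd F.orderOf_z (by rw [this, orderOf_one]; norm_num)
    · rw [h] at hle
      exact Subgroup.mem_center_iff.2 fun g =>
        Subgroup.mem_centralizer_singleton_iff.1 (hle (Subgroup.mem_top g))
  have htop : Subgroup.centralizer ({F.z} : Set G) = ⊤ := by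
    refine eq_top_iff.2 fun g _ => Subgroup.mem_centralizer_singleton_iff.2 ?_
    exact Subgroup.mem_center_iff.1 hcen g
  have := F.card_centralizer
  rw [htop, Subgroup.card_top, hord] at this
  omega

end Cfsg.Agent.M12Inv51
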