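import Cfsg.Agent.Lib.M12Inv51CentK

/-!
Three involutions of the first class commuting with `u` is impossible.
-/

set_option autoImplicit false
set_option maxRecDepth 100000
set_option synthInstance.maxSize 8000
set_option linter.unusedSectionVars false

namespace Cfsg.Agent.M12Inv51

open Cfsg.Agent.M12Inv51Data

/-- The first class inside the centralizer. -/
def blF : Finset Ix := blB.toFinset

theorem blF_card : blF.card = 31 ∧ zI ∈ blF := by decide +kernel

theorem noncomm_count : ∀ a ∈ blB, a ≠ zI →
    16 ≤ (blF.filter fun b => comm a b = false).card := by decide +kernel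

theorem common_count : ∀ a ∈ blB, ∀ c ∈ blB, comm a c = false →
    (blF.filter fun b => b ≠ a ∧ comm b a = true ∧ comm b c = true).card ≤ 14 := by decide +kernel

theorem odd_common : ∀ a ∈ blB, ∀ c ∈ blB, a ≠ c → pw (mul a c) 3 = 0 →
    ∀ b ∈ blB, comm b a = true → comm b c = true → b = zI := by decide +kernel

theorem three_count : ∀ a ∈ blB,
    (blF.filter fun b => b ≠ a ∧ pw (mul a b) 3 = 0).card ≤ 13 := by decide +kernel

namespace Setting

variable {G : Type*} [Group G] [Finite G] {F : Frame G} (S : Setting F)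

theorem pow_three_of_odd {m : Ix} (h : Odd (orderOf (F.f m))) : pw m 3 = 0 := by
  rw [← F.eq_one_iff, F.map_pw, ← orderOf_dvd_iff_pow_eq_one]
  have h24 : orderOf (F.f m) ∣ 3 * 2 ^ 3 :=
    orderOf_dvd_of_pow_eq_one (show F.f m ^ 24 = 1 by rw [← F.map_pw, pw_24, F.map_one])
  exact (Nat.Coprime.pow_right 3 (Nat.coprime_two_right.2 h)).dvd_of_dvd_mul_right h24

theorem card_D_ne_three : Nat.card {x : G // S.D x} ≠ 3 := by
  classical
  haveI := Fintype.ofFinite G
  intro hn
  have hX := S.card_X
  rw [hn] at hX
  let φ : {e // e ∈ e3.toFinset} → {x : G // S.D x} :=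
    fun e => ⟨F.f e.1, S.D_f (List.mem_toFinset.1 e.2)⟩
  have hφ : Function.Bijective φ := (Nat.bijective_iff_injective_and_card φ).2
    ⟨fun a c e => Subtype.ext (F.inj (congrArg Subtype.val e)), by
      rw [hn, Nat.card_eq_finsetCard, e4_len.2]⟩
  have hD : ∀ {x : G}, S.D x → ∃ e ∈ e3, F.f e = x := fun {x} hx => by
    obtain ⟨e, he⟩ := hφ.2 ⟨x, hx⟩
    exact ⟨e.1, List.mem_toFinset.1 e.2, congrArg Subtype.val he⟩
  have hDc : ∀ {x w : G}, S.D x → S.D w → x * w = w * x := fun {x w} hx hw => by
    obtain ⟨e, he, rfl⟩ := hD hx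
    obtain ⟨e', he', rfl⟩ := hD hw
    exact F.commute_iff.2 (e3_comm e he e' he')
  have hau : Nat.card {q : G × G // (IsConj F.z q.1 ∧ Commute q.1 F.u) ∧
      (IsConj F.z q.2 ∧ Commute q.2 F.u) ∧ Odd (orderOf (q.1 * q.2))} = 3 := by
    rw [← hn]
    refine Nat.card_congr (Equiv.ofBijective (fun q => ⟨q.1.1, q.2.1⟩) ⟨?_, ?_⟩)
    · rintro ⟨⟨a, c⟩, ha, hc, ho⟩ ⟨⟨a', c'⟩, ha', hc', ho'⟩ e
      obtain rfl : a = a' := congrArg Subtype.val e
      have h : ∀ {w : G}, S.D w → Odd (orderOf (a * w)) → w = a := fun {w} hw hoo => by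
        have h1 : a * w = 1 := by
          refine eq_one_of_odd_pow (k := 1) hoo ?_
          rw [pow_one, pow_two, show a * w * (a * w) = a * (w * a) * w by group,
            ← hDc ha hw, show a * (a * w) * w = (a * a) * (w * w) by group, S.D_sq ha, S.D_sq hw,
            one_mul]
        exact mul_left_cancel (h1.trans (S.D_sq ha).symm)
      obtain rfl : c = c' := (h hc ho).trans (h hc' ho').symm
      rfl
    · rintro ⟨x, hx⟩
      exact ⟨⟨(x, x), hx, hx, by rw [S.D_sq hx, orderOf_one]; exact odd_one⟩, rfl⟩
  have hord := S.two.order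
  rw [hit_card_B, show Nat.card (Subgroup.centralizer ({F.u} : Set G)) = 16 * 3 from hX, hau] at hord
  have hcl := card_class_mul F.z
  rw [F.card_centralizer, hord] at hcl
  have h63 : Nat.card {x : G // IsConj F.z x} = 63 := by omega
  -- class members not commuting with z
  let Out : Finset G := Finset.univ.filter fun x => IsConj F.z x ∧ x * F.z ≠ F.z * x
  have hOut : Out.card = 32 := by
    let A : Finset G := Finset.univ.filter (IsConj F.z)
    have hA : A.card = 63 := by
      rw [← h63, Nat.card_eq_fintype_card, Fintype.card_subtype]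
    have hI : A.filter (fun x => x * F.z = F.z * x) = blF.image F.f := by
      ext x
      simp only [A, Finset.mem_filter, Finset.mem_univ, true_and, Finset.mem_image, blF,
        List.mem_toFinset]
      constructor
      · rintro ⟨hx, hc⟩
        obtain ⟨i, rfl⟩ := F.exists_of_commute hc
        exact ⟨i, S.two.mem_bl hx, rfl⟩
      · rintro ⟨i, hi, rfl⟩
        exact ⟨S.two.inZ i hi, F.commute_z i⟩
    have h := Finset.card_filter_add_card_filter_not (s := A) (fun x => x * F.z = F.z * x)
    rw [hI, Finset.card_image_of_injective _ F.inj, blF_card.1, hA, Finset.filter_filter] at h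
    change 31 + Out.card = 63 at h
    omega
  have hord2 : ∀ {x : G}, IsConj F.z x → orderOf x = 2 := fun {x} h => by
    obtain ⟨g, rfl⟩ := isConj_iff.1 h
    rw [SignalizerStrongEmb.orderOf_conj, F.orderOf_z]
  have key := Finset.card_mul_le_card_mul (s := blF.erase zI) (t := Out)
    (fun w x => F.f w * x = x * F.f w) (m := 16) (n := 14) ?_ ?_
  · rw [Finset.card_erase_of_mem blF_card.2, blF_card.1, hOut] at key
    omega
  · -- every common neighbour sees many
    intro w hw
    obtain ⟨hwz, hwb⟩ := Finset.mem_erase.1 hw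
    rw [blF, List.mem_toFinset] at hwb
    obtain ⟨g, hg⟩ := isConj_iff.1 (S.two.inZ w hwb)
    obtain ⟨j, hj⟩ := F.exists_of_commute (g := g⁻¹ * F.z * g) (by
      calc g⁻¹ * F.z * g * F.z = g⁻¹ * (F.z * (g * F.z * g⁻¹)) * g := by group
        _ = g⁻¹ * (g * F.z * g⁻¹ * F.z) * g := by rw [hg, F.commute_z]
        _ = _ := by group)
    have hjb : j ∈ blB := S.two.mem_bl (hj ▸ (by simpa using isConj_conj g⁻¹ F.z))
    have hjz : j ≠ zI := fun e => hwz (F.inj (by
      rw [e, show F.f zI = F.z from rfl] at hj
      calc F.f w = g * F.z * g⁻¹ := hg.symm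
        _ = g * (g⁻¹ * F.z * g) * g⁻¹ := by rw [← hj]
        _ = F.z := by group))
    refine (noncomm_count j hjb hjz).trans ?_
    refine Finset.card_le_card_of_injOn (fun b => g * F.f b * g⁻¹) ?_ ?_
    · intro b hb
      simp only [Finset.coe_filter, Set.mem_setOf_eq, blF, List.mem_toFinset] at hb
      simp only [Finset.coe_bipartiteAbove, Set.mem_setOf_eq, Out, Finset.mem_filter,
        Finset.mem_univ, true_and]
      refine ⟨⟨(S.two.inZ b hb.1).trans (isConj_conj g _), fun e => ?_⟩, ?_⟩
      · have h : F.f j * F.f b = F.f b * F.f j := by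
          rw [hj]
          calc g⁻¹ * F.z * g * F.f b = g⁻¹ * (F.z * (g * F.f b * g⁻¹)) * g := by group
            _ = g⁻¹ * (g * F.f b * g⁻¹ * F.z) * g := by rw [e]
            _ = _ := by group
        rw [F.commute_iff, hb.2] at h
        exact Bool.false_ne_true h
      · rw [← hg]
        calc g * F.z * g⁻¹ * (g * F.f b * g⁻¹) = g * (F.z * F.f b) * g⁻¹ := by group
          _ = g * (F.f b * F.z) * g⁻¹ := by rw [F.commute_z]
          _ = _ := by group
    · intro a _ c _ e
      exact F.inj (mul_left_cancel (mul_right_cancel e))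
  · -- few neighbours in common
    intro x hx
    obtain ⟨hxc, hxz⟩ := (Finset.mem_filter.1 hx).2
    have hx2 := hord2 hxc
    let W := Finset.bipartiteBelow (fun w x => F.f w * x = x * F.f w) (blF.erase zI) x
    have hW : ∀ {w : Ix}, w ∈ W → w ∈ blB ∧ w ≠ zI ∧ F.f w * x = x * F.f w := fun {w} hw => by
      rw [Finset.mem_bipartiteBelow, Finset.mem_erase, blF, List.mem_toFinset] at hw
      exact ⟨hw.1.2, hw.1.1, hw.2⟩
    change W.card ≤ 14
    -- conjugating a frame point to z
    have back : ∀ {g v : G}, g * F.z * g⁻¹ = v → ∀ {a : G}, IsConj F.z a → a * v = v * a →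
        ∃ b ∈ blB, F.f b = g⁻¹ * a * g := by
      intro g v hgv a ha hav
      obtain ⟨b, hb⟩ := F.exists_of_commute (g := g⁻¹ * a * g) (by
        rw [← hgv] at hav
        calc g⁻¹ * a * g * F.z = g⁻¹ * (a * (g * F.z * g⁻¹)) * g := by group
          _ = g⁻¹ * (g * F.z * g⁻¹ * a) * g := by rw [hav]
          _ = _ := by group)
      exact ⟨b, S.two.mem_bl (hb ▸ ha.trans (by simpa using isConj_conj g⁻¹ a)), hb⟩
    have hnc : ∀ {g : G} {a c : Ix}, F.f a = g⁻¹ * F.z * g → F.f c = g⁻¹ * x * g →
        comm a c = false := by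
      intro g a c ha hc
      by_contra h
      rw [Bool.not_eq_false] at h
      have e := F.commute_iff.2 h
      rw [ha, hc] at e
      refine hxz ?_
      calc x * F.z = g * (g⁻¹ * x * g * (g⁻¹ * F.z * g)) * g⁻¹ := by group
        _ = g * (g⁻¹ * F.z * g * (g⁻¹ * x * g)) * g⁻¹ := by rw [e]
        _ = _ := by group
    have commConj : ∀ {g : G} {a c : G} {i j : Ix}, F.f i = g⁻¹ * a * g → F.f j = g⁻¹ * c * g →
        a * c = c * a → comm i j = true := by
      intro g a c i j hi hj h
      rw [← F.commute_iff, hi, hj]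
      calc g⁻¹ * a * g * (g⁻¹ * c * g) = g⁻¹ * (a * c) * g := by group
        _ = _ := by rw [h]; group
    rcases Nat.even_or_odd (orderOf (F.z * x)) with heven | hodd
    · obtain ⟨i, hiz, hi2, hzi, hxi⟩ :=
        SignalizerStrongEmb.exists_commuting_of_even F.orderOf_z hx2 heven
      rcases S.two.all hi2 with hci | hci
      · obtain ⟨g, hg⟩ := isConj_iff.1 hci
        obtain ⟨a, ha, ha'⟩ := back hg (IsConj.refl F.z) hzi
        obtain ⟨c, hc, hc'⟩ := back hg hxc hxi
        refine (Finset.card_le_card_of_injOn (fun w => Function.invFun F.f (g⁻¹ * F.f w * g)) ?_ ?_).trans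
          (common_count a ha c hc (hnc ha' hc'))
        · intro w hw
          obtain ⟨hwb, hwz, hwx⟩ := hW hw
          have hwi : F.f w * i = i * F.f w := by
            obtain ⟨k, rfl⟩ := Subgroup.mem_zpowers_iff.1 hiz
            exact (((show Commute (F.f w) F.z from F.commute_z w).mul_right hwx).zpow_right k).eq
          obtain ⟨b, hb, hb'⟩ := back hg (S.two.inZ w hwb) hwi
          simp only [Finset.coe_filter, Set.mem_setOf_eq, blF, List.mem_toFinset]
          rw [← hb', Function.leftInverse_invFun F.inj b]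
          refine ⟨hb, fun e => hwz (F.inj ?_), commConj hb' ha' (F.commute_z w),
            commConj hb' hc' hwx⟩
          rw [e, ha', mul_left_inj, mul_right_inj] at hb'
          exact hb'.symm
        · intro w hw w' hw' e
          have hex : ∀ v ∈ W, ∃ b, F.f b = g⁻¹ * F.f v * g := fun v hv => by
            obtain ⟨hvb, -, hvx⟩ := hW hv
            have hvi : F.f v * i = i * F.f v := by
              obtain ⟨k, rfl⟩ := Subgroup.mem_zpowers_iff.1 hiz
              exact (((show Commute (F.f v) F.z from F.commute_z v).mul_right hvx).zpow_right k).eq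
            obtain ⟨b, -, hb'⟩ := back hg (S.two.inZ v hvb) hvi
            exact ⟨b, hb'⟩
          have h1 := Function.invFun_eq (hex w hw)
          have h2 := Function.invFun_eq (hex w' hw')
          rw [show Function.invFun F.f (g⁻¹ * F.f w * g) = Function.invFun F.f (g⁻¹ * F.f w' * g) from e,
            h2, mul_left_inj, mul_right_inj] at h1
          exact (F.inj h1).symm
      · exfalso
        obtain ⟨g, hg⟩ := isConj_iff.1 hci
        have hmk : ∀ {a : G}, IsConj F.z a → a * i = i * a → S.D (g⁻¹ * a * g) := fun {a} ha hai => by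
          refine ⟨ha.trans (by simpa using isConj_conj g⁻¹ a), ?_⟩
          rw [← hg] at hai
          show g⁻¹ * a * g * F.u = F.u * (g⁻¹ * a * g)
          calc g⁻¹ * a * g * F.u = g⁻¹ * (a * (g * F.u * g⁻¹)) * g := by group
            _ = g⁻¹ * (g * F.u * g⁻¹ * a) * g := by rw [hai]
            _ = _ := by group
        have h := hDc (hmk (IsConj.refl F.z) hzi) (hmk hxc hxi)
        refine hxz ?_
        calc x * F.z = g * (g⁻¹ * x * g * (g⁻¹ * F.z * g)) * g⁻¹ := by group
          _ = g * (g⁻¹ * F.z * g * (g⁻¹ * x * g)) * g⁻¹ := by rw [h]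
          _ = _ := by group
    · -- odd product: commuting members coincide
      have heq : ∀ {h w : Ix}, h ∈ W → w ∈ W → comm h w = true → w = h := by
        intro h w hh hw hc
        obtain ⟨hhb, -, hhx⟩ := hW hh
        obtain ⟨hwb, -, hwx⟩ := hW hw
        obtain ⟨g, hg⟩ := isConj_iff.1 (S.two.inZ h hhb)
        obtain ⟨a, ha, ha'⟩ := back hg (IsConj.refl F.z) (F.commute_z h).symm
        obtain ⟨c, hcb, hc'⟩ := back hg hxc hhx.symm
        obtain ⟨b, hb, hb'⟩ := back hg (S.two.inZ w hwb) (F.commute_iff.2 hc).symm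
        have hac : a ≠ c := fun e => by
          rw [e, hc', mul_left_inj, mul_right_inj] at ha'
          exact hxz (by rw [ha'])
        have h3 : pw (mul a c) 3 = 0 := by
          refine pow_three_of_odd (F := F) ?_
          rw [F.map_mul, ha', hc', show g⁻¹ * F.z * g * (g⁻¹ * x * g) = g⁻¹ * (F.z * x) * g⁻¹⁻¹ by group,
            SignalizerStrongEmb.orderOf_conj]
          exact hodd
        have hbz := odd_common a ha c hcb hac h3 b hb (commConj hb' ha' (F.commute_z w))
          (commConj hb' hc' hwx)
        apply F.inj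
        rw [← hg]
        calc F.f w = g * (g⁻¹ * F.f w * g) * g⁻¹ := by group
          _ = _ := by rw [← hb', hbz]; rfl
      rcases W.eq_empty_or_nonempty with h | ⟨h, hh⟩
      · rw [h]; simp
      obtain ⟨hhb, -, hhx⟩ := hW hh
      have hsub : W ⊆ insert h (blF.filter fun b => b ≠ h ∧ pw (mul h b) 3 = 0) := by
        intro w hw
        by_cases hwh : w = h
        · exact Finset.mem_insert.2 (Or.inl hwh)
        obtain ⟨hwb, -, hwx⟩ := hW hw
        refine Finset.mem_insert.2 (Or.inr (Finset.mem_filter.2
          ⟨by rwa [blF, List.mem_toFinset], hwh, pow_three_of_odd (F := F) ?_⟩))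
        rw [F.map_mul]
        by_contra hev
        obtain ⟨i, hiz, hi2, hhi, hwi⟩ := SignalizerStrongEmb.exists_commuting_of_even
          (hord2 (S.two.inZ h hhb)) (hord2 (S.two.inZ w hwb)) (Nat.not_odd_iff_even.1 hev)
        rcases S.two.all hi2 with hci | hci
        · obtain ⟨k, hk⟩ := Subgroup.mem_zpowers_iff.1 hiz
          have hizc : i * F.z = F.z * i := by
            rw [← hk]
            exact ((show Commute (F.f h * F.f w) F.z from (show Commute (F.f h) F.z from
              F.commute_z h).mul_left (F.commute_z w)).zpow_left k).eq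
          have hixc : i * x = x * i := by
            rw [← hk]
            exact (((show Commute (F.f h) x from hhx).mul_left hwx).zpow_left k).eq
          obtain ⟨j, rfl⟩ := F.exists_of_commute hizc
          have hjW : j ∈ W := by
            rw [Finset.mem_bipartiteBelow, Finset.mem_erase, blF, List.mem_toFinset]
            refine ⟨⟨fun e => hxz ?_, S.two.mem_bl hci⟩, hixc⟩
            rw [e] at hixc
            exact hixc.symm
          obtain rfl := heq hh hjW (F.commute_iff.1 hhi)
          exact hwh (heq hh hw (F.commute_iff.1 hwi.symm))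
        · obtain ⟨g, hg⟩ := isConj_iff.1 hci
          have hmk : ∀ {a : G}, IsConj F.z a → a * i = i * a → S.D (g⁻¹ * a * g) := fun {a} ha hai => by
            refine ⟨ha.trans (by simpa using isConj_conj g⁻¹ a), ?_⟩
            rw [← hg] at hai
            show g⁻¹ * a * g * F.u = F.u * (g⁻¹ * a * g)
            calc g⁻¹ * a * g * F.u = g⁻¹ * (a * (g * F.u * g⁻¹)) * g := by group
              _ = g⁻¹ * (g * F.u * g⁻¹ * a) * g := by rw [hai]
              _ = _ := by group
          have hc := hDc (hmk (S.two.inZ h hhb) hhi) (hmk (S.two.inZ w hwb) hwi)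
          refine hwh (heq hh hw (F.commute_iff.1 ?_))
          calc F.f h * F.f w = g * (g⁻¹ * F.f h * g * (g⁻¹ * F.f w * g)) * g⁻¹ := by group
            _ = g * (g⁻¹ * F.f w * g * (g⁻¹ * F.f h * g)) * g⁻¹ := by rw [hc]
            _ = _ := by group
      have h13 := three_count h hhb
      refine (Finset.card_le_card hsub).trans ((Finset.card_insert_le _ _).trans ?_)
      omega

end Setting

end Cfsg.Agent.M12Inv51
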