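import Cfsg.Agent.Lib.M12Inv51Fusion
import Cfsg.Agent.Lib.SignalizerStrongEmb
import Cfsg.Agent.S0213

/-!
Two involutions with a prescribed central involution in the group they generate.
-/

set_option autoImplicit false

namespace Cfsg.Agent.M12Inv51

open Cfsg.Agent.SignalizerStrongEmb

variable {G : Type*} [Group G] [Finite G] {x w u : G}

theorem zpow_commute (hx : orderOf x = 2) (hw : orderOf w = 2) (hu : orderOf u = 2)
    (hm : u ∈ Subgroup.zpowers (x * w)) : x * u = u * x ∧ w * u = u * w := by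
  obtain ⟨-, h⟩ := S0213.eq_half_of_orderOf_two hm hu
  have hui : u⁻¹ = u := involution_inv hu
  have h1 : x * u * x⁻¹ = u := by rw [h, conj_pow_mul_eq_inv hx hw, ← h, hui]
  have hxu : x * u = u * x := mul_inv_eq_iff_eq_mul.1 h1
  refine ⟨hxu, ?_⟩
  have hc : Commute (x * w) u := h ▸ (Commute.refl (x * w)).pow_right _
  have h2 := (show Commute x u from hxu).mul_left hc
  rwa [← mul_assoc, involution_mul_self hx, one_mul] at h2

/-- If `x` and `x u` are not conjugate, `u` in the group generated by `x` and `w` forces an odd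
product of `x` and `w u`. -/
theorem odd_of_mem (hx : orderOf x = 2) (hw : orderOf w = 2) (hu : orderOf u = 2)
    (hxu : ¬ IsConj x (x * u)) (hm : u ∈ Subgroup.zpowers (x * w)) :
    Odd (orderOf (x * (w * u))) ∧ orderOf (w * u) = 2 ∧ IsConj x (w * u) := by
  obtain ⟨hxc, hwc⟩ := zpow_commute hx hw hu hm
  obtain ⟨heven, h⟩ := S0213.eq_half_of_orderOf_two hm hu
  set r := x * w
  obtain ⟨l, hl⟩ := heven
  have h' : u = r ^ l := by rw [h, hl]; congr 1; omega
  rcases Nat.even_or_odd l with ⟨m, hm2⟩ | hodd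
  · refine absurd (isConj_iff.2 ⟨(r ^ m)⁻¹, ?_⟩) hxu
    have h1 : x * r ^ m * x⁻¹ = (r ^ m)⁻¹ := conj_pow_mul_eq_inv hx hw m
    calc (r ^ m)⁻¹ * x * ((r ^ m)⁻¹)⁻¹ = (x * r ^ m * x⁻¹) * x * r ^ m := by
          rw [h1, inv_inv]
      _ = x * (r ^ m * r ^ m) := by group
      _ = x * u := by rw [← pow_add, h', hm2]
  · have hne : w * u ≠ 1 := by
      intro e
      have hwu : w = u := by
        rw [← mul_left_inj u, e, involution_mul_self hu]
      have h2 : r * r = 1 := by
        show x * w * (x * w) = 1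
        rw [hwu]
        calc x * u * (x * u) = x * (u * x) * u := by group
          _ = (x * x) * (u * u) := by rw [← hxc]; group
          _ = 1 := by rw [involution_mul_self hx, involution_mul_self hu, one_mul]
      have hl1 : l = 1 := by
        have hpos := orderOf_pos r
        have := Nat.le_of_dvd (by norm_num) (orderOf_dvd_of_pow_eq_one (by rwa [pow_two]) :
          orderOf r ∣ 2)
        omega
      rw [hl1, pow_one] at h'
      have : x = 1 := by
        rw [← mul_left_inj w, one_mul]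
        exact h'.symm.trans hwu.symm
      rw [this, orderOf_one] at hx
      omega
    have hsq : w * u * (w * u) = 1 := by
      calc w * u * (w * u) = w * (u * w) * u := by group
        _ = (w * w) * (u * u) := by rw [← hwc]; group
        _ = 1 := by rw [involution_mul_self hw, involution_mul_self hu, one_mul]
    have h2 : orderOf (w * u) = 2 := orderOf_eq_two_of_mul_self hsq hne
    have hor : Odd (orderOf (x * (w * u))) := by
      have hc : Commute r u := h' ▸ (Commute.refl r).pow_right l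
      have hp : (r * u) ^ l = 1 := by
        rw [hc.mul_pow, ← h']
        obtain ⟨q, rfl⟩ := hodd
        rw [pow_succ, pow_mul, pow_two, involution_mul_self hu, one_pow, one_mul,
          involution_mul_self hu]
      rw [← mul_assoc]
      exact hodd.of_dvd_nat (orderOf_dvd_of_pow_eq_one hp)
    refine ⟨hor, h2, ?_⟩
    obtain ⟨g, -, hg⟩ := exists_conj_of_odd hx h2 hor
    exact isConj_iff.2 ⟨g, hg⟩

/-- The converse of `odd_of_mem`. -/
theorem mem_of_odd (hu : orderOf u = 2) {x' : G} (hxu : Commute x u) (hxu' : Commute x' u)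
    (hodd : Odd (orderOf (x * x'))) : u ∈ Subgroup.zpowers (x * (x' * u)) := by
  obtain ⟨q, hq⟩ := hodd
  have hc : Commute (x * x') u := hxu.mul_left hxu'
  refine ⟨((2 * q + 1 : ℕ) : ℤ), ?_⟩
  show (x * (x' * u)) ^ ((2 * q + 1 : ℕ) : ℤ) = u
  rw [zpow_natCast, ← mul_assoc, hc.mul_pow, ← hq, pow_orderOf_eq_one, one_mul, hq, pow_succ,
    pow_mul, pow_two, involution_mul_self hu, one_pow, one_mul]

/-- Counting pairs through their odd products. -/
theorem card_pairs {z u : G} (hu : orderOf u = 2) (hz : orderOf z = 2)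
    (hn : ∀ x : G, IsConj z x → Commute x u → IsConj u (x * u)) (hne : ¬ IsConj z u) :
    Nat.card {p : G × G // IsConj z p.1 ∧ IsConj u p.2 ∧ u ∈ Subgroup.zpowers (p.1 * p.2)} =
      Nat.card {p : G × G // (IsConj z p.1 ∧ Commute p.1 u) ∧ (IsConj z p.2 ∧ Commute p.2 u) ∧
        Odd (orderOf (p.1 * p.2))} := by
  have hord : ∀ {a c : G}, IsConj a c → orderOf a = 2 → orderOf c = 2 := fun {a c} h ha => by
    obtain ⟨g, rfl⟩ := isConj_iff.1 h
    rw [SignalizerStrongEmb.orderOf_conj, ha]
  have hnx : ∀ x : G, IsConj z x → Commute x u → ¬ IsConj x (x * u) := fun x hx hc h =>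
    hne ((hx.trans h).trans (hn x hx hc).symm)
  refine Nat.card_congr
    { toFun := fun p => ⟨(p.1.1, p.1.2 * u), ?_⟩
      invFun := fun p => ⟨(p.1.1, p.1.2 * u), ?_⟩
      left_inv := fun p => Subtype.ext (Prod.ext rfl (by
        show p.1.2 * u * u = _
        rw [mul_assoc, involution_mul_self hu, mul_one]))
      right_inv := fun p => Subtype.ext (Prod.ext rfl (by
        show p.1.2 * u * u = _
        rw [mul_assoc, involution_mul_self hu, mul_one])) }
  · obtain ⟨⟨a, c⟩, ha, hc, hm⟩ := p
    have ha2 := hord ha hz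
    have hc2 := hord hc hu
    obtain ⟨hac, hcc⟩ := zpow_commute ha2 hc2 hu hm
    obtain ⟨ho, h', hj⟩ := odd_of_mem ha2 hc2 hu (hnx a ha hac) hm
    exact ⟨⟨ha, hac⟩, ⟨ha.trans hj, (show Commute c u from hcc).mul_left (Commute.refl u)⟩, ho⟩
  · obtain ⟨⟨a, c⟩, ⟨ha, hau⟩, ⟨hc, hcu⟩, ho⟩ := p
    exact ⟨ha, hn c hc hcu, mem_of_odd hu hau hcu ho⟩

end Cfsg.Agent.M12Inv51
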