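import Cfsg.Agent.Lib.M12Inv51CertValid
import Cfsg.Agent.Lib.M12Inv51ConcreteCheck
import Cfsg.Agent.Lib.M12Inv51Generate

/-!
A group generated by a copy of the table and two involutions with the relations has order at most
192 * 495.
-/

set_option autoImplicit false
set_option maxRecDepth 100000
set_option synthInstance.maxSize 8000

namespace Cfsg.Agent.M12Inv51

open Cfsg.Agent.CosetCertCore Cfsg.Agent.M12Inv51Data Cfsg.Agent.M12Inv51CertData

/-- The generator with number `k` of the table. -/
def gl (k : Nat) : Ix := ix (genL.getD k 0)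

/-- The value of a word in the generators of the table. -/
noncomputable def ev (w : List Nat) : Ix := w.foldr (fun k x => mul (gl k) x) 0

/-- The first part of a relation word through `n`. -/
def partA (w : List Nat) : List Nat := w.tail.takeWhile (fun k => k < 5)
/-- The second part of a relation word through `n`. -/
def partB (w : List Nat) : List Nat := (w.tail.dropWhile (fun k => k < 5)).tail

theorem nrel_ok : ∀ w ∈ nrel, w = 5 :: (partA w ++ 5 :: partB w) ∧ (∀ k ∈ partA w, k < 5) ∧
    (∀ k ∈ partB w, k < 5) ∧ ev (partA w) ∈ rI ∧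
    mul (beta0 (ev (partA w))) (ev (partB w)) = 0 := by decide +kernel

theorem crel_ok : ∀ w ∈ crel, (∀ k ∈ w, k < 5) ∧ ev w = 0 := by decide +kernel

theorem xrel_words : gl 0 = uI ∧ gl 3 = tI ∧ ev [0, 1, 0, 1, 3] = sI ∧ ev [3, 4, 3, 2] = cI ∧
    mul cI (ev [2, 3, 4, 3]) = 0 ∧ mul sI (ev [3, 1, 0, 1, 0]) = 0 := by decide +kernel

theorem gl_invol : ∀ k < 5, mul (gl k) (gl k) = 0 := by decide +kernel

theorem lastGen_gl : ∀ j : Ix, j ≠ 0 → ∃ k < 5, lastGen j = gl k := by decide +kernel

theorem rels_eq : cert.rels = nrel ++ xrel ++ crel := by decide +kernel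

theorem sgens_ok : ∀ w ∈ cert.sgens, ∃ k < 5, w = [k] := by decide +kernel

/-- The relations. -/
structure Rels {Γ : Type*} [Group Γ] (f : Ix → Γ) (n m : Γ) : Prop where
  map_mul : ∀ a c, f (mul a c) = f a * f c
  nsq : n * n = 1
  nmap : ∀ x ∈ rI, n * f x * n⁻¹ = f (beta0 x)
  cube : f tI * n * (f tI * n) * (f tI * n) = 1
  msq : m * m = 1
  com_u : m * f uI = f uI * m
  com_t : m * f tI = f tI * m
  com_n : m * n = n * m
  braid : (m * f sI) ^ 3 = 1
  link : f cI * (m * f sI) * (f cI)⁻¹ = m * f sI

/-- The letters of the certificate. -/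
def letter {Γ : Type*} [Group Γ] (f : Ix → Γ) (n m : Γ) (k : Nat) : Γ :=
  if k < 5 then f (gl k) else if k = 5 then n else if k = 6 then m else 1

/-- An entry of the tables of neighbours. -/
noncomputable def sub20 (t : Tbl) (p x : Nat) : Nat :=
  Nat.land (Nat.shiftRight (entry t 140 p) (20 * x)) 1048575

/-- The check of one edge. -/
noncomputable def edgeOK (p x : Nat) : Bool :=
  force (entry nodes 20 p) fun a =>
  force (sub20 nbr p x) fun q =>
  force (entry nodes 20 q) fun b =>
  force (sub20 why p x) fun i =>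
  force (cert.fact i) fun e =>
  Nat.blt q 495 && Nat.blt i 10225 && Nat.beq (fc e) (x + 1) &&
    ((Nat.beq (fp e) a && Nat.beq (fq e) b) || (Nat.beq (fp e) b && Nat.beq (fq e) a))

theorem edges_ok : ∀ p : Fin 495, ∀ x : Fin 7, edgeOK p.1 x.1 = true := by decide +kernel

theorem node_zero : entry nodes 20 0 = 0 := by decide +kernel

namespace Rels

variable {Γ : Type*} [Group Γ] {f : Ix → Γ} {n m : Γ}

theorem map_one (R : Rels f n m) : f 0 = 1 := by
  have h := R.map_mul 0 0
  rw [mul_zero_zero] at h
  exact left_eq_mul.1 h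

theorem map_inv (R : Rels f n m) {a c : Ix} (h : mul a c = 0) : f c = (f a)⁻¹ := by
  refine eq_inv_of_mul_eq_one_right ?_
  rw [← R.map_mul, h, R.map_one]

theorem val_small (R : Rels f n m) {w : List Nat} (h : ∀ k ∈ w, k < 5) :
    val (letter f n m) w = f (ev w) := by
  induction w with
  | nil => rw [val_nil]; exact R.map_one.symm
  | cons k w ih =>
    rw [val_cons, ih fun j hj => h j (List.mem_cons_of_mem _ hj),
      show ev (k :: w) = mul (gl k) (ev w) from rfl, R.map_mul, letter,
      if_pos (h k List.mem_cons_self)]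

theorem letter_invol (R : Rels f n m) (k : Nat) : letter f n m k * letter f n m k = 1 := by
  unfold letter
  split_ifs with h5 h6 h7
  · rw [← R.map_mul, gl_invol k h5, R.map_one]
  · exact R.nsq
  · exact R.msq
  · exact one_mul 1

theorem val_rels (R : Rels f n m) : ∀ w ∈ cert.rels, val (letter f n m) w = 1 := by
  intro w hw
  rw [rels_eq, List.mem_append, List.mem_append] at hw
  have happ : ∀ a c : List Nat, val (letter f n m) (a ++ c) =
      val (letter f n m) a * val (letter f n m) c := fun a c => by simp [val]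
  have hn' : n⁻¹ = n := inv_eq_of_mul_eq_one_right R.nsq
  have hm' : m⁻¹ = m := inv_eq_of_mul_eq_one_right R.msq
  have l5 : letter f n m 5 = n := rfl
  have l6 : letter f n m 6 = m := rfl
  obtain ⟨g0, g3, hs, hc, hci, hsi⟩ := xrel_words
  have l0 : letter f n m 0 = f uI := by rw [letter, if_pos (by norm_num), g0]
  have l3 : letter f n m 3 = f tI := by rw [letter, if_pos (by norm_num), g3]
  have hu : f uI * f uI = 1 := by
    rw [← R.map_mul, show mul uI uI = 0 by decide +kernel, R.map_one]
  have ht : f tI * f tI = 1 := by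
    rw [← R.map_mul, show mul tI tI = 0 by decide +kernel, R.map_one]
  rcases hw with (hw | hw) | hw
  · obtain ⟨e, ha, hb, hr, hmul⟩ := nrel_ok w hw
    rw [e, val_cons, happ, val_cons, R.val_small ha, R.val_small hb, l5,
      R.map_inv hmul, ← R.nmap _ hr, hn']
    group
  · simp only [xrel, List.mem_cons, List.not_mem_nil, or_false] at hw
    rcases hw with rfl | rfl | rfl | rfl | rfl | rfl | rfl | rfl
    · simpa [val_cons, val_nil, l5] using R.nsq
    · simpa [val_cons, val_nil, l6] using R.msq
    · simp only [val_cons, val_nil, l5, l3, mul_one]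
      exact (by group : _ = f tI * n * (f tI * n) * (f tI * n)).trans R.cube
    · simp only [val_cons, val_nil, l6, l0, mul_one]
      calc m * (f uI * (m * f uI)) = (m * f uI) * (m * f uI) := by group
        _ = f uI * (m * m) * f uI := by nth_rewrite 1 [R.com_u]; group
        _ = 1 := by rw [R.msq, mul_one, hu]
    · simp only [val_cons, val_nil, l6, l3, mul_one]
      calc m * (f tI * (m * f tI)) = (m * f tI) * (m * f tI) := by group
        _ = f tI * (m * m) * f tI := by nth_rewrite 1 [R.com_t]; group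
        _ = 1 := by rw [R.msq, mul_one, ht]
    · simp only [val_cons, val_nil, l6, l5, mul_one]
      calc m * (n * (m * n)) = (m * n) * (m * n) := by group
        _ = n * (m * m) * n := by nth_rewrite 1 [R.com_n]; group
        _ = 1 := by rw [R.msq, mul_one, R.nsq]
    · have hA : val (letter f n m) [0, 1, 0, 1, 3] = f sI := by rw [R.val_small (by decide), hs]
      have h6 : val (letter f n m) [6] = m := by rw [val_cons, val_nil, mul_one, l6]
      rw [show [6, 0, 1, 0, 1, 3, 6, 0, 1, 0, 1, 3, 6, 0, 1, 0, 1, 3] =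
          [6] ++ [0, 1, 0, 1, 3] ++ [6] ++ [0, 1, 0, 1, 3] ++ [6] ++ [0, 1, 0, 1, 3] from rfl]
      simp only [happ, hA, h6]
      rw [← R.braid]; simp only [pow_succ, pow_zero, one_mul, mul_assoc]
    · have hA : val (letter f n m) [0, 1, 0, 1, 3] = f sI := by rw [R.val_small (by decide), hs]
      have hA' : val (letter f n m) [3, 1, 0, 1, 0] = (f sI)⁻¹ := by
        rw [R.val_small (by decide), R.map_inv hsi]
      have hC' : val (letter f n m) [3, 4, 3, 2] = f cI := by rw [R.val_small (by decide), hc]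
      have hC'' : val (letter f n m) [2, 3, 4, 3] = (f cI)⁻¹ := by
        rw [R.val_small (by decide), R.map_inv hci]
      have h6 : val (letter f n m) [6] = m := by rw [val_cons, val_nil, mul_one, l6]
      rw [show [3, 4, 3, 2, 6, 0, 1, 0, 1, 3, 2, 3, 4, 3, 3, 1, 0, 1, 0, 6] =
          [3, 4, 3, 2] ++ [6] ++ [0, 1, 0, 1, 3] ++ [2, 3, 4, 3] ++ [3, 1, 0, 1, 0] ++ [6] from rfl]
      simp only [happ, hA, hA', hC', hC'', h6]
      calc f cI * m * f sI * (f cI)⁻¹ * (f sI)⁻¹ * m
          = f cI * (m * f sI) * (f cI)⁻¹ * ((f sI)⁻¹ * m) := by group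
        _ = m * m := by rw [R.link]; group
        _ = 1 := R.msq
  · obtain ⟨h5, h0⟩ := crel_ok w hw
    rw [R.val_small h5, h0, R.map_one]

theorem mem_closure (R : Rels f n m) (j : Ix) :
    f j ∈ Subgroup.closure (Set.range (letter f n m)) := by
  suffices ∀ k, ∀ j : Ix, j.1 = k → f j ∈ Subgroup.closure (Set.range (letter f n m)) from
    this _ j rfl
  intro k
  induction k using Nat.strong_induction_on with
  | _ k ih =>
    intro j hj
    by_cases h0 : j = 0
    · rw [h0, R.map_one]; exact one_mem _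
    · obtain ⟨hlt, hmul, -⟩ := tree_ok j h0
      obtain ⟨l, hl, hlg⟩ := lastGen_gl j h0
      rw [← hmul, R.map_mul, hlg]
      refine mul_mem (ih _ (hj ▸ hlt) _ rfl) (Subgroup.subset_closure ⟨l, ?_⟩)
      rw [letter, if_pos hl]

/-- The order bound. -/
theorem card_le [Finite Γ] (R : Rels f n m)
    (hgen : Subgroup.closure (Set.range f ∪ {n, m}) = ⊤) : Nat.card Γ ≤ 192 * 495 := by
  let K : Subgroup Γ :=
    { carrier := Set.range f
      one_mem' := ⟨0, R.map_one⟩
      mul_mem' := by rintro _ _ ⟨a, rfl⟩ ⟨c, rfl⟩; exact ⟨mul a c, R.map_mul a c⟩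
      inv_mem' := by rintro _ ⟨a, rfl⟩; exact ⟨inv a, R.map_inv (mul_inv_self a)⟩ }
  let g := letter f n m
  let base : Γ ⧸ K := QuotientGroup.mk 1
  have hC : Ctx g base cert := by
    refine ⟨R.letter_invol, R.val_rels, fun w hw => ?_⟩
    obtain ⟨k, hk, rfl⟩ := sgens_ok w hw
    rw [act_cons, act_nil, MulAction.Quotient.smul_mk, QuotientGroup.eq]
    rw [smul_eq_mul, mul_one, mul_one]
    refine K.inv_mem ⟨gl k, ?_⟩
    simp only [g, letter, if_pos hk]
  have hv := M12Inv51CertValid.all_valid g base hC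
  let v := nodeVal g base cert
  let pt : Fin 495 → Γ ⧸ K := fun p => v (entry nodes 20 p.1)
  have hstep : ∀ k, k < 7 → ∀ p : Fin 495, ∃ q, g k • pt p = pt q := by
    intro k hk p
    have h := edges_ok p ⟨k, hk⟩
    simp only [edgeOK, force_eq, Bool.and_eq_true, Bool.or_eq_true, Nat.blt_eq, Nat.beq_eq] at h
    obtain ⟨⟨⟨hq, hi⟩, hx⟩, hor⟩ := h
    refine ⟨⟨_, hq⟩, ?_⟩
    have hs := hv _ hi
    unfold Sem at hs
    rw [hx, if_neg (by omega), Nat.add_sub_cancel] at hs
    rcases hor with ⟨ha, hb⟩ | ⟨hb, ha⟩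
    · rw [ha, hb] at hs; exact hs
    · rw [ha, hb] at hs
      exact (congrArg (g k • ·) hs).symm.trans (smul_self g R.letter_invol k _)
  have hclosed : ∀ k, ∀ s ∈ Set.range pt, g k • s ∈ Set.range pt := by
    rintro k _ ⟨p, rfl⟩
    by_cases hk : k < 7
    · obtain ⟨q, hq⟩ := hstep k hk p
      exact ⟨q, hq.symm⟩
    · refine ⟨p, ?_⟩
      have : g k = 1 := by
        show letter f n m k = 1
        rw [letter, if_neg (by omega), if_neg (by omega), if_neg (by omega)]
      rw [this, one_smul]
  have hall : ∀ x ∈ Subgroup.closure (Set.range g), ∀ s ∈ Set.range pt,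
      x • s ∈ Set.range pt ∧ x⁻¹ • s ∈ Set.range pt := by
    intro x hx
    induction hx using Subgroup.closure_induction with
    | mem x hx =>
      obtain ⟨k, rfl⟩ := hx
      intro s hs
      rw [inv_of_sq g R.letter_invol]
      exact ⟨hclosed k s hs, hclosed k s hs⟩
    | one => intro s hs; simp [hs]
    | mul a c _ _ iha ihc =>
      intro s hs
      rw [mul_smul, mul_inv_rev, mul_smul]
      exact ⟨(iha _ (ihc s hs).1).1, (ihc _ (iha s hs).2).2⟩
    | inv a _ iha => intro s hs; rw [inv_inv]; exact ⟨(iha s hs).2, (iha s hs).1⟩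
  have htop : Subgroup.closure (Set.range g) = ⊤ := by
    rw [eq_top_iff, ← hgen, Subgroup.closure_le]
    rintro x (⟨j, rfl⟩ | rfl | rfl)
    · exact R.mem_closure j
    · exact Subgroup.subset_closure ⟨5, rfl⟩
    · exact Subgroup.subset_closure ⟨6, rfl⟩
  have hsurj : Function.Surjective pt := by
    intro s
    induction s using QuotientGroup.induction_on with
    | _ x =>
      have h0 : pt ⟨0, by norm_num⟩ = base := by
        simp only [pt, node_zero]; exact nodeVal_zero g base cert
      have h := (hall x (htop ▸ Subgroup.mem_top x) base ⟨_, h0⟩).1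
      obtain ⟨q, hq⟩ := h
      refine ⟨q, hq.trans ?_⟩
      rw [MulAction.Quotient.smul_mk, smul_eq_mul, mul_one]
  have h1 : Nat.card (Γ ⧸ K) ≤ 495 := by
    have := Nat.card_le_card_of_surjective pt hsurj
    rwa [Nat.card_fin] at this
  have h2 : Nat.card K ≤ 192 := by
    have := Nat.card_le_card_of_surjective (fun i : Ix => (⟨f i, i, rfl⟩ : K))
      (by rintro ⟨x, i, rfl⟩; exact ⟨i, rfl⟩)
    rwa [Nat.card_fin] at this
  rw [Subgroup.card_eq_card_quotient_mul_card_subgroup K, Nat.mul_comm 192 495]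
  exact Nat.mul_le_mul h1 h2

end Rels

end Cfsg.Agent.M12Inv51
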