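import Mathlib

/-!
What is used about a group of order 95040 with the element counts of the Mathieu group of degree twelve.
-/

set_option autoImplicit false

namespace Cfsg.Agent.M12Nse51

/-- The number of elements of order `n`. -/
noncomputable abbrev cnt (G : Type*) [Group G] (n : ℕ) : ℕ := Nat.card {g : G // orderOf g = n}

/-- The facts derived from the element counts. -/
structure Data (G : Type*) [Group G] : Prop where
  /-- the group is simple -/
  simple : IsSimpleGroup G
  /-- the order -/
  card : Nat.card G = 95040
  /-- involutions -/
  cnt2 : cnt G 2 = 891
  /-- elements of order three -/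
  cnt3 : cnt G 3 = 4400
  /-- elements of order five -/
  cnt5 : cnt G 5 = 9504
  /-- elements of order six form a set of one of the admissible sizes -/
  cnt6 : cnt G 6 ∈ ({0, 891, 4400, 5940, 9504, 17280, 23760} : Set ℕ)
  /-- elements of order ten -/
  cnt10 : cnt G 10 = 9504
  /-- no element of order nine -/
  no9 : ∀ g : G, orderOf g ≠ 9
  /-- no element of order twelve -/
  no12 : ∀ g : G, orderOf g ≠ 12
  /-- no element of order fifteen -/
  no15 : ∀ g : G, orderOf g ≠ 15
  /-- no element of order twenty -/
  no20 : ∀ g : G, orderOf g ≠ 20
  /-- there is an element of order eight -/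
  exists8 : ∃ g : G, orderOf g = 8
  /-- centralisers of elements of order five -/
  centFive : ∀ y : G, orderOf y = 5 → Nat.card (Subgroup.centralizer ({y} : Set G)) = 10
  /-- normalisers of subgroups of order five -/
  normFive : ∀ y : G, orderOf y = 5 →
    Nat.card (Subgroup.normalizer (Subgroup.zpowers y : Set G)) = 40
  /-- centralisers of elements of order eleven -/
  centEleven : ∀ x : G, orderOf x = 11 → Nat.card (Subgroup.centralizer ({x} : Set G)) = 11

end Cfsg.Agent.M12Nse51
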