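import Mathlib
import Cfsg.Agent.Lib.SimpleOrdersSmall

/-!
A group of order 720 with 36 Sylow 5-subgroups and self-centralising elements of order five has
a simple subgroup of index two with trivial centraliser.
-/

set_option autoImplicit false

namespace Cfsg.Agent.M12Nse51Quot57

variable {H : Type*} [Group H] [Finite H]

/-- A normal subgroup of order prime to five meets the centraliser of an element of order five
trivially, so it has order 1 modulo 5. -/
theorem card_mod_five (h5 : ∀ y : H, orderOf y = 5 → Nat.card (Subgroup.centralizer ({y} : Set H)) = 5)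
    {y : H} (hy : orderOf y = 5) (L : Subgroup H)
    (hnorm : ∀ a ∈ L, y * a * y⁻¹ ∈ L) (hL : ¬ 5 ∣ Nat.card L) :
    Nat.card L % 5 = 1 := by
  classical
  haveI : Fact (Nat.Prime 5) := ⟨Nat.prime_five⟩
  have hpow : ∀ n : ℕ, ∀ a ∈ L, y ^ n * a * (y ^ n)⁻¹ ∈ L := by
    intro n
    induction n with
    | zero => intro a ha; simpa using ha
    | succ n ih =>
      intro a ha
      have : y ^ (n + 1) * a * (y ^ (n + 1))⁻¹ = y * (y ^ n * a * (y ^ n)⁻¹) * y⁻¹ := by
        rw [pow_succ']; group
      rw [this]
      exact hnorm _ (ih a ha)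
  have hmem : ∀ k ∈ Subgroup.zpowers y, ∀ a ∈ L, k * a * k⁻¹ ∈ L := by
    intro k hk
    obtain ⟨n, rfl⟩ := (mem_zpowers_iff_mem_range_orderOf.1 hk |> Finset.mem_image.1).imp
      (fun _ h => h.2.symm)
    exact hpow n
  let Y : Subgroup H := Subgroup.zpowers y
  let _ : MulAction Y L :=
    { smul := fun k a => ⟨k.1 * a.1 * k.1⁻¹, hmem k.1 k.2 a.1 a.2⟩
      one_smul := fun a => Subtype.ext (show (1 : H) * a.1 * 1⁻¹ = a.1 by simp)
      mul_smul := fun k l a => Subtype.ext
        (show k.1 * l.1 * a.1 * (k.1 * l.1)⁻¹ = k.1 * (l.1 * a.1 * l.1⁻¹) * k.1⁻¹ by group) }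
  have hY : IsPGroup 5 Y := IsPGroup.of_card (n := 1) (by rw [Nat.card_zpowers, hy, pow_one])
  have hfix : Nat.card (MulAction.fixedPoints Y L) = 1 := by
    refine Nat.card_eq_one_iff_unique.2 ⟨⟨fun a b => ?_⟩, ⟨⟨1, fun k => Subtype.ext (show k.1 * (1 : H) * k.1⁻¹ = 1 by simp)⟩⟩⟩
    have key : ∀ a : MulAction.fixedPoints Y L, (a.1.1 : H) = 1 := by
      intro a
      have q : y * a.1.1 * y⁻¹ = a.1.1 := congrArg Subtype.val (a.2 ⟨y, Subgroup.mem_zpowers y⟩)
      set C := Subgroup.centralizer ({y} : Set H)
      have haC : a.1.1 ∈ C := Subgroup.mem_centralizer_singleton_iff.2 (mul_inv_eq_iff_eq_mul.1 q).symm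
      have h1 := Subgroup.orderOf_dvd_natCard C haC
      rw [h5 y hy] at h1
      rcases Nat.prime_five.eq_one_or_self_of_dvd _ h1 with e | e
      · exact orderOf_eq_one_iff.1 e
      · exact absurd (e ▸ Subgroup.orderOf_dvd_natCard L a.1.2) hL
    exact Subtype.ext (Subtype.ext ((key a).trans (key b).symm))
  have := hY.card_modEq_card_fixedPoints L
  rw [hfix] at this
  exact this

/-- A normal subgroup of order six or thirty-six is impossible. -/
theorem card_ne_six (h5 : ∀ y : H, orderOf y = 5 → Nat.card (Subgroup.centralizer ({y} : Set H)) = 5)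
    {y : H} (hy : orderOf y = 5) (L : Subgroup H) [hL : L.Normal] :
    Nat.card L ≠ 6 ∧ Nat.card L ≠ 36 := by
  classical
  haveI : Fact (Nat.Prime 5) := ⟨Nat.prime_five⟩
  haveI : Fact (Nat.Prime 3) := ⟨Nat.prime_three⟩
  suffices hh : ∀ n : ℕ, (n = 6 ∨ n = 36) → Nat.card L ≠ n from ⟨hh 6 (Or.inl rfl), hh 36 (Or.inr rfl)⟩
  intro n hn e
  obtain ⟨P⟩ : Nonempty (Sylow 3 L) := inferInstance
  have hn3 : Nat.card (Sylow 3 L) < 5 := by
    have hd := P.card_dvd_index
    have hi := (P : Subgroup L).card_mul_index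
    have hm := card_sylow_modEq_one 3 L
    have hP : Nat.card (P : Subgroup L) = 3 ∧ n = 6 ∨ Nat.card (P : Subgroup L) = 9 ∧ n = 36 := by
      rw [P.card_eq_multiplicity, e]
      rcases hn with rfl | rfl
      · left
        refine ⟨?_, rfl⟩
        rw [show (6 : ℕ) = 3 ^ 1 * 2 by norm_num, Nat.factorization_mul (by norm_num) (by norm_num),
          Finsupp.add_apply, Nat.Prime.factorization_pow Nat.prime_three, Finsupp.single_eq_same,
          Nat.factorization_eq_zero_of_not_dvd (by norm_num : ¬ 3 ∣ 2)]
        norm_num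
      · right
        refine ⟨?_, rfl⟩
        rw [show (36 : ℕ) = 3 ^ 2 * 4 by norm_num, Nat.factorization_mul (by norm_num) (by norm_num),
          Finsupp.add_apply, Nat.Prime.factorization_pow Nat.prime_three, Finsupp.single_eq_same,
          Nat.factorization_eq_zero_of_not_dvd (by norm_num : ¬ 3 ∣ 4)]
        norm_num
    rw [e] at hi
    rcases hP with ⟨hP, rfl⟩ | ⟨hP, rfl⟩ <;> rw [hP] at hi
    · have : (P : Subgroup L).index = 2 := by omega
      rw [this] at hd
      exact lt_of_le_of_lt (Nat.le_of_dvd (by norm_num) hd) (by norm_num)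
    · have : (P : Subgroup L).index = 4 := by omega
      rw [this] at hd
      exact lt_of_le_of_lt (Nat.le_of_dvd (by norm_num) hd) (by norm_num)
  -- the element of order five fixes a Sylow 3-subgroup
  let ψ : MulAut L := MulAut.conjNormal y
  have hfix : ψ • P = P := by
    by_contra hne
    let σ : Equiv.Perm (Sylow 3 L) := MulAction.toPerm ψ
    have hσ : σ ^ 5 = 1 := by
      show (MulAction.toPermHom (MulAut L) (Sylow 3 L) ψ) ^ 5 = 1
      rw [← map_pow, show ψ ^ 5 = 1 by
        show (MulAut.conjNormal y : MulAut L) ^ 5 = 1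
        rw [← map_pow, ← hy, pow_orderOf_eq_one, map_one], map_one]
    have ho : orderOf σ = 5 := orderOf_eq_prime hσ fun h1 =>
      hne (Equiv.ext_iff.1 h1 P)
    haveI := Fintype.ofFinite (Sylow 3 L)
    have hdiv := orderOf_dvd_card (G := Equiv.Perm (Sylow 3 L)) (x := σ)
    rw [ho, Fintype.card_perm, ← Nat.card_eq_fintype_card] at hdiv
    exact absurd ((Nat.prime_five.dvd_factorial).1 hdiv) (not_le.2 hn3)
  set Q := (P : Subgroup L).map L.subtype with hQ
  have hQn : ∀ a ∈ Q, y * a * y⁻¹ ∈ Q := by
    rintro _ ⟨b, hb, rfl⟩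
    refine ⟨MulAut.conjNormal y b, ?_, MulAut.conjNormal_apply y b⟩
    have : MulAut.conjNormal y b ∈ ((ψ • P : Sylow 3 L) : Subgroup L) := ⟨b, hb, rfl⟩
    rwa [hfix] at this
  have hQc : Nat.card Q = Nat.card (P : Subgroup L) :=
    (Nat.card_congr (Subgroup.equivMapOfInjective _ _ L.subtype_injective).toEquiv).symm
  have hmul : Nat.card Q = 3 ∨ Nat.card Q = 9 := by
    rw [hQc, P.card_eq_multiplicity, e]
    rcases hn with rfl | rfl
    · left
      rw [show (6 : ℕ) = 3 ^ 1 * 2 by norm_num, Nat.factorization_mul (by norm_num) (by norm_num),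
        Finsupp.add_apply, Nat.Prime.factorization_pow Nat.prime_three, Finsupp.single_eq_same,
        Nat.factorization_eq_zero_of_not_dvd (by norm_num : ¬ 3 ∣ 2)]
      norm_num
    · right
      rw [show (36 : ℕ) = 3 ^ 2 * 4 by norm_num, Nat.factorization_mul (by norm_num) (by norm_num),
        Finsupp.add_apply, Nat.Prime.factorization_pow Nat.prime_three, Finsupp.single_eq_same,
        Nat.factorization_eq_zero_of_not_dvd (by norm_num : ¬ 3 ∣ 4)]
      norm_num
  have := card_mod_five h5 hy Q hQn (by rcases hmul with q | q <;> rw [q] <;> norm_num)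
  rcases hmul with q | q <;> rw [q] at this <;> norm_num at this

theorem exists_five (h : 5 ∣ Nat.card H) : ∃ y : H, orderOf y = 5 := by
  haveI : Fact (Nat.Prime 5) := ⟨Nat.prime_five⟩
  exact exists_prime_orderOf_dvd_card' 5 h

/-- The order of a normal subgroup of order divisible by five. -/
theorem card_normal_five [Fact (Nat.Prime 5)] (hn5 : Nat.card (Sylow 5 H) = 36) (L : Subgroup H)
    [L.Normal] (P : Sylow 5 H) (hP : (P : Subgroup H) ≤ L) :
    Nat.card L = 36 * Nat.card (L ⊓ Subgroup.normalizer (P : Set H) : Subgroup H) := by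
  have h1 := Sylow.normalizer_sup_eq_top' P hP
  set N := Subgroup.normalizer (P : Set H) with hN
  have h2 : N.index = 36 := by rw [← hn5, P.card_eq_index_normalizer]
  have h3 : L.relIndex N = L.index := by
    rw [← Subgroup.relIndex_top_right, ← h1, Subgroup.relIndex_sup_right]
  have h4 := (L ⊓ N).card_mul_index
  have h5 := L.card_mul_index
  have h6 : L.relIndex N * N.index = (L ⊓ N).index := by
    rw [← Subgroup.inf_relIndex_right L N]
    exact Subgroup.relIndex_mul_index inf_le_right
  rw [← h6, h3, h2] at h4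
  have hpos : 0 < L.index := Nat.pos_of_ne_zero Subgroup.index_ne_zero_of_finite
  nlinarith

theorem simple_of_360 (hc : Nat.card H = 360)
    (h5 : ∀ y : H, orderOf y = 5 → Nat.card (Subgroup.centralizer ({y} : Set H)) = 5)
    [Fact (Nat.Prime 5)] (hn5 : Nat.card (Sylow 5 H) = 36) : IsSimpleGroup H := by
  classical
  haveI : Nontrivial H := Finite.one_lt_card_iff_nontrivial.1 (by rw [hc]; norm_num)
  refine ⟨fun L hL => ?_⟩
  haveI := hL
  by_contra hcon
  push Not at hcon
  obtain ⟨y, hy⟩ := exists_five (H := H) (by rw [hc]; norm_num)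
  have hd : Nat.card L ∣ 360 := hc ▸ Subgroup.card_subgroup_dvd_card L
  by_cases h5L : 5 ∣ Nat.card L
  · obtain ⟨z, hz⟩ := exists_five (H := L) h5L
    obtain ⟨P, hzP⟩ := (IsPGroup.of_card (G := ↥(Subgroup.zpowers (z : H))) (p := 5) (n := 1)
      (by rw [Nat.card_zpowers, Subgroup.orderOf_coe, hz, pow_one])).exists_le_sylow
    have hP5 : Nat.card (P : Subgroup H) = 5 := by
      rw [P.card_eq_multiplicity, hc, show (360 : ℕ) = 5 ^ 1 * 72 by norm_num,
        Nat.factorization_mul (by norm_num) (by norm_num), Finsupp.add_apply,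
        Nat.Prime.factorization_pow Nat.prime_five, Finsupp.single_eq_same,
        Nat.factorization_eq_zero_of_not_dvd (by norm_num : ¬ 5 ∣ 72)]
      norm_num
    have heq : Subgroup.zpowers (z : H) = (P : Subgroup H) := Subgroup.eq_of_le_of_card_ge hzP
      (by rw [hP5, Nat.card_zpowers, Subgroup.orderOf_coe, hz])
    have hPL : (P : Subgroup H) ≤ L := heq ▸ Subgroup.zpowers_le.2 z.2
    have hk := card_normal_five hn5 L P hPL
    set K := L ⊓ Subgroup.normalizer (P : Set H) with hK
    have hPK : (P : Subgroup H) ≤ K := le_inf hPL Subgroup.le_normalizer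
    have h5K : 5 ∣ Nat.card K := by
      have := Subgroup.card_dvd_of_le hPK
      rwa [hP5] at this
    rcases (show Nat.card K = 5 ∨ Nat.card K = 10 by
      rw [hk] at hd
      have : Nat.card K ∣ 10 := Nat.dvd_of_mul_dvd_mul_left (by norm_num : 0 < 36)
        ((show (360 : ℕ) = 36 * 10 by norm_num) ▸ hd)
      obtain ⟨j, hj⟩ := h5K
      have := Nat.le_of_dvd (by norm_num) this
      have hp : 0 < Nat.card K := Nat.card_pos
      omega) with e | e
    · -- order 180: the Sylow subgroup is central in its normaliser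
      have hKP : (P : Subgroup H) = K := Subgroup.eq_of_le_of_card_ge hPK (by rw [e, hP5])
      let P' : Sylow 5 L := P.subtype hPL
      have hcen : Subgroup.normalizer ((P' : Subgroup L) : Set L) ≤
          Subgroup.centralizer ((P' : Subgroup L) : Set L) := by
        have hP'c : IsMulCommutative (P' : Subgroup L) := by
          haveI : IsCyclic (P' : Subgroup L) := isCyclic_of_prime_card (p := 5) (by
            rw [Sylow.coe_subtype, Nat.card_congr (Subgroup.subgroupOfEquivOfLe hPL).toEquiv, hP5])
          exact IsCyclic.isMulCommutative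
        intro n hn
        have hnK : (n : H) ∈ K := by
          refine ⟨n.2, Subgroup.mem_normalizer_iff.2 fun a => ⟨fun ha => ?_, fun ha => ?_⟩⟩
          · exact ((Subgroup.mem_normalizer_iff.1 hn ⟨a, hPL ha⟩).1 ha)
          · have haL : a ∈ L := by
              have := L.mul_mem (L.mul_mem (L.inv_mem n.2) (hPL ha)) n.2
              simpa [mul_assoc] using this
            exact (Subgroup.mem_normalizer_iff.1 hn ⟨a, haL⟩).2 ha
        rw [← hKP] at hnK
        have hn' : n ∈ (P' : Subgroup L) := hnK
        refine Subgroup.mem_centralizer_iff.2 fun b hb => ?_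
        exact congrArg Subtype.val (hP'c.is_comm.comm (⟨b, hb⟩ : (P' : Subgroup L)) ⟨n, hn'⟩)
      have hcompl := MonoidHom.ker_transferSylow_isComplement' P' hcen
      set R := (MonoidHom.transferSylow P' hcen).ker with hR
      have hcR : Nat.card R = 36 := by
        have := hcompl.card_mul
        rw [hk, e, Sylow.coe_subtype, Nat.card_congr (Subgroup.subgroupOfEquivOfLe hPL).toEquiv, hP5] at this
        omega
      have h5' : ∀ w : L, orderOf w = 5 → Nat.card (Subgroup.centralizer ({w} : Set L)) = 5 := by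
        intro w hw
        have hwc : orderOf (w : H) = 5 := by rw [Subgroup.orderOf_coe, hw]
        refine le_antisymm ?_ ?_
        · rw [← h5 (w : H) hwc]
          exact Nat.card_le_card_of_injective
            (fun a => (⟨(a.1 : H), Subgroup.mem_centralizer_singleton_iff.2
              (congrArg Subtype.val (Subgroup.mem_centralizer_singleton_iff.1 a.2))⟩ :
              Subgroup.centralizer ({(w : H)} : Set H)))
            (fun a b q => Subtype.ext (Subtype.ext (congrArg Subtype.val q :)))
        · rw [← hw, ← Nat.card_zpowers]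
          exact Subgroup.card_le_of_le (Subgroup.zpowers_le.2
            (Subgroup.mem_centralizer_singleton_iff.2 rfl))
      exact (card_ne_six h5' hz R).2 hcR
    · exact hcon.2 (Subgroup.eq_top_of_card_eq L (by rw [hk, e, hc]))
  · have hm := card_mod_five h5 hy L (fun a ha => hL.conj_mem a ha y) h5L
    have h72 : Nat.card L ∣ 72 := ((Nat.prime_five.coprime_iff_not_dvd).2 h5L).symm.dvd_of_dvd_mul_left
      ((show (360 : ℕ) = 5 * 72 by norm_num) ▸ hd)
    have hlist : Nat.card L ∈ (72 : ℕ).divisors.filter fun d => d % 5 = 1 :=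
      Finset.mem_filter.2 ⟨Nat.mem_divisors.2 ⟨h72, by norm_num⟩, hm⟩
    rw [show ((72 : ℕ).divisors.filter fun d => d % 5 = 1) = {1, 6, 36} by decide +kernel] at hlist
    simp only [Finset.mem_insert, Finset.mem_singleton] at hlist
    obtain ⟨a1, a2⟩ := card_ne_six h5 hy L
    rcases hlist with q | q | q
    · exact hcon.1 (Subgroup.eq_bot_of_card_eq L q)
    · exact a1 q
    · exact a2 q

theorem not_simple_720 (hc : Nat.card H = 720) : ¬ IsSimpleGroup H := by
  intro hs
  refine SimpleOrdersSmall.card_ne_720 (G := H) (fun hcomm => ?_) hc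
  haveI := hcomm
  open scoped IsMulCommutative in
  have := IsSimpleGroup.prime_card (α := H)
  rw [hc] at this
  norm_num at this

theorem exists_index_two (hc : Nat.card H = 720)
    (h5 : ∀ y : H, orderOf y = 5 → Nat.card (Subgroup.centralizer ({y} : Set H)) = 5)
    [Fact (Nat.Prime 5)] (hn5 : Nat.card (Sylow 5 H) = 36) :
    ∃ D : Subgroup H, D.Normal ∧ Nat.card D = 360 ∧ IsSimpleGroup D ∧
      Subgroup.centralizer (D : Set H) = ⊥ := by
  classical
  haveI : Nontrivial H := Finite.one_lt_card_iff_nontrivial.1 (by rw [hc]; norm_num)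
  obtain ⟨L, hLn, hL1, hLt⟩ : ∃ L : Subgroup H, L.Normal ∧ L ≠ ⊥ ∧ L ≠ ⊤ := by
    by_contra hcon
    push Not at hcon
    exact not_simple_720 hc ⟨fun L hL => or_iff_not_imp_left.2 (hcon L hL)⟩
  obtain ⟨P⟩ : Nonempty (Sylow 5 H) := inferInstance
  have hP5 : Nat.card (P : Subgroup H) = 5 := by
    rw [P.card_eq_multiplicity, hc, show (720 : ℕ) = 5 ^ 1 * 144 by norm_num,
      Nat.factorization_mul (by norm_num) (by norm_num), Finsupp.add_apply,
      Nat.Prime.factorization_pow Nat.prime_five, Finsupp.single_eq_same,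
      Nat.factorization_eq_zero_of_not_dvd (by norm_num : ¬ 5 ∣ 144)]
    norm_num
  obtain ⟨y, hy⟩ := exists_five (H := H) (by rw [hc]; norm_num)
  have hd : Nat.card L ∣ 720 := hc ▸ Subgroup.card_subgroup_dvd_card L
  have h5L : 5 ∣ Nat.card L := by
    by_contra h5L
    have hm := card_mod_five h5 hy L (fun a ha => hLn.conj_mem a ha y) h5L
    have h144 : Nat.card L ∣ 144 := ((Nat.prime_five.coprime_iff_not_dvd).2 h5L).symm.dvd_of_dvd_mul_left
      ((show (720 : ℕ) = 5 * 144 by norm_num) ▸ hd)
    have hlist : Nat.card L ∈ (144 : ℕ).divisors.filter fun d => d % 5 = 1 :=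
      Finset.mem_filter.2 ⟨Nat.mem_divisors.2 ⟨h144, by norm_num⟩, hm⟩
    rw [show ((144 : ℕ).divisors.filter fun d => d % 5 = 1) = {1, 6, 16, 36} by decide +kernel] at hlist
    simp only [Finset.mem_insert, Finset.mem_singleton] at hlist
    obtain ⟨a1, a2⟩ := card_ne_six h5 hy L
    rcases hlist with q | q | q | q
    · exact hL1 (Subgroup.eq_bot_of_card_eq L q)
    · exact a1 q
    · -- order sixteen: the image of the Sylow subgroup is normal
      have hi : L.index = 45 := by have := L.card_mul_index; rw [q, hc] at this; omega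
      have hQ : Nat.card (H ⧸ L) = 45 := hi
      obtain ⟨R⟩ : Nonempty (Sylow 5 (H ⧸ L)) := inferInstance
      have hR : Nat.card (Sylow 5 (H ⧸ L)) = 1 := by
        have h1 := card_sylow_modEq_one 5 (H ⧸ L)
        have h2 := R.card_dvd_index
        have h3 := (R : Subgroup (H ⧸ L)).card_mul_index
        have h4 : Nat.card (R : Subgroup (H ⧸ L)) = 5 := by
          rw [R.card_eq_multiplicity, hQ, show (45 : ℕ) = 5 ^ 1 * 9 by norm_num,
            Nat.factorization_mul (by norm_num) (by norm_num), Finsupp.add_apply,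
            Nat.Prime.factorization_pow Nat.prime_five, Finsupp.single_eq_same,
            Nat.factorization_eq_zero_of_not_dvd (by norm_num : ¬ 5 ∣ 9)]
          norm_num
        rw [h4, hQ] at h3
        rw [show (R : Subgroup (H ⧸ L)).index = 9 by omega] at h2
        have : Nat.card (Sylow 5 (H ⧸ L)) ≤ 9 := Nat.le_of_dvd (by norm_num) h2
        have h1' : Nat.card (Sylow 5 (H ⧸ L)) % 5 = 1 := h1
        have h2' : Nat.card (Sylow 5 (H ⧸ L)) ≠ 6 := fun e => by rw [e] at h2; norm_num at h2
        omega
      haveI := (Nat.card_eq_one_iff_unique.1 hR).1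
      haveI hRn : (R : Subgroup (H ⧸ L)).Normal := Sylow.normal_of_subsingleton R
      let K : Subgroup H := (R : Subgroup (H ⧸ L)).comap (QuotientGroup.mk' L)
      have hPK : (P : Subgroup H) ≤ K := by
        obtain ⟨R', hR'⟩ := (P.2.map (QuotientGroup.mk' L)).exists_le_sylow
        rw [Subsingleton.elim R' R] at hR'
        exact Subgroup.map_le_iff_le_comap.1 hR'
      have hK := card_normal_five hn5 K P hPK
      have hKc : Nat.card K = 80 := by
        have h1 := K.card_mul_index
        rw [Subgroup.index_comap_of_surjective _ (QuotientGroup.mk'_surjective L)] at h1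
        have h3 := (R : Subgroup (H ⧸ L)).card_mul_index
        have h4 : Nat.card (R : Subgroup (H ⧸ L)) = 5 := by
          rw [R.card_eq_multiplicity, hQ, show (45 : ℕ) = 5 ^ 1 * 9 by norm_num,
            Nat.factorization_mul (by norm_num) (by norm_num), Finsupp.add_apply,
            Nat.Prime.factorization_pow Nat.prime_five, Finsupp.single_eq_same,
            Nat.factorization_eq_zero_of_not_dvd (by norm_num : ¬ 5 ∣ 9)]
          norm_num
        rw [h4, hQ] at h3
        rw [show (R : Subgroup (H ⧸ L)).index = 9 by omega, hc] at h1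
        omega
      omega
    · exact a2 q
  obtain ⟨z, hz⟩ := exists_five (H := L) h5L
  obtain ⟨P', hzP⟩ := (IsPGroup.of_card (G := ↥(Subgroup.zpowers (z : H))) (p := 5) (n := 1)
    (by rw [Nat.card_zpowers, Subgroup.orderOf_coe, hz, pow_one])).exists_le_sylow
  have hPall : ∀ S : Sylow 5 H, (S : Subgroup H) ≤ L := by
    intro S
    obtain ⟨g, hg⟩ := MulAction.exists_smul_eq H P' S
    have h5' : Nat.card (P' : Subgroup H) = 5 := by rw [P'.card_eq_multiplicity, ← P.card_eq_multiplicity, hP5]
    have heq : Subgroup.zpowers (z : H) = (P' : Subgroup H) := Subgroup.eq_of_le_of_card_ge hzP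
      (by rw [h5', Nat.card_zpowers, Subgroup.orderOf_coe, hz])
    rw [← hg, Sylow.coe_subgroup_smul]
    rintro _ ⟨a, ha, rfl⟩
    exact hLn.conj_mem a ((heq ▸ Subgroup.zpowers_le.2 z.2 : (P' : Subgroup H) ≤ L) ha) g
  -- an index two subgroup
  obtain ⟨D, hDn, hLD, hD⟩ : ∃ D : Subgroup H, D.Normal ∧ L ≤ D ∧ Nat.card D = 360 := by
    have hk := card_normal_five hn5 L P (hPall P)
    have h5K : 5 ∣ Nat.card (L ⊓ Subgroup.normalizer (P : Set H) : Subgroup H) := by
      have := Subgroup.card_dvd_of_le (le_inf (hPall P) Subgroup.le_normalizer)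
      rwa [hP5] at this
    obtain ⟨j, hj⟩ := h5K
    rw [hj] at hk
    have hj4 : j ∣ 4 := by
      rw [hk] at hd
      exact Nat.dvd_of_mul_dvd_mul_left (by norm_num : 0 < 180)
        (by rwa [show (180 : ℕ) * 4 = 720 by norm_num, show 180 * j = 36 * (5 * j) by ring])
    have hj1 : j ≤ 4 := Nat.le_of_dvd (by norm_num) hj4
    have hjpos : j ≠ 0 := fun e => Nat.card_pos.ne' (show Nat.card L = 0 by simp [hk, e])
    rcases (show j = 1 ∨ j = 2 ∨ j = 4 by
      interval_cases j <;> simp_all) with rfl | rfl | rfl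
    · -- the quotient has order four
      have hQ : Nat.card (H ⧸ L) = 4 := by
        have := L.card_mul_index
        rw [hk, hc] at this
        show L.index = 4
        omega
      haveI : Fact (Nat.Prime 2) := ⟨Nat.prime_two⟩
      obtain ⟨R, hR⟩ := Sylow.exists_subgroup_card_pow_prime 2 (G := H ⧸ L) (n := 1) (by rw [hQ]; norm_num)
      have hRi : R.index = 2 := by have := R.card_mul_index; rw [hR, hQ] at this; omega
      haveI := Subgroup.normal_of_index_eq_two hRi
      refine ⟨R.comap (QuotientGroup.mk' L), inferInstance, ?_, ?_⟩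
      · intro a ha
        show QuotientGroup.mk' L a ∈ R
        rw [(QuotientGroup.eq_one_iff a).2 ha |> fun e => (show QuotientGroup.mk' L a = 1 from e)]
        exact one_mem _
      · have h1 := (R.comap (QuotientGroup.mk' L)).card_mul_index
        rw [Subgroup.index_comap_of_surjective _ (QuotientGroup.mk'_surjective L), hRi, hc] at h1
        omega
    · exact ⟨L, hLn, le_refl L, by omega⟩
    · exact absurd (Subgroup.eq_top_of_card_eq L (by rw [hk, hc])) hLt
  haveI := hDn
  have h5D : ∀ w : D, orderOf w = 5 → Nat.card (Subgroup.centralizer ({w} : Set D)) = 5 := by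
    intro w hw
    have hwc : orderOf (w : H) = 5 := by rw [Subgroup.orderOf_coe, hw]
    refine le_antisymm ?_ ?_
    · rw [← h5 (w : H) hwc]
      exact Nat.card_le_card_of_injective
        (fun a => (⟨(a.1 : H), Subgroup.mem_centralizer_singleton_iff.2
          (congrArg Subtype.val (Subgroup.mem_centralizer_singleton_iff.1 a.2))⟩ :
          Subgroup.centralizer ({(w : H)} : Set H)))
        (fun a b q => Subtype.ext (Subtype.ext (congrArg Subtype.val q :)))
    · rw [← hw, ← Nat.card_zpowers]
      exact Subgroup.card_le_of_le (Subgroup.zpowers_le.2 (Subgroup.mem_centralizer_singleton_iff.2 rfl))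
  have hn5D : Nat.card (Sylow 5 D) = 36 := by
    refine le_antisymm ?_ ?_
    · rw [← hn5]
      refine Nat.card_le_card_of_injective (fun S : Sylow 5 D => ((S.2.map D.subtype).exists_le_sylow).choose) ?_
      intro S T q
      have hS := ((S.2.map D.subtype).exists_le_sylow).choose_spec
      have hT := ((T.2.map D.subtype).exists_le_sylow).choose_spec
      simp only at q
      rw [q] at hS
      set U := ((T.2.map D.subtype).exists_le_sylow).choose
      have hU : (U : Subgroup H) ≤ D := (hPall U).trans hLD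
      have e : ∀ X : Sylow 5 D, (X : Subgroup D).map D.subtype ≤ (U : Subgroup H) →
          X = U.subtype hU := fun X hX => Sylow.ext ((X.is_maximal' (U.subtype hU).2 (fun a ha =>
            hX ⟨a, ha, rfl⟩)).symm)
      rw [e S hS, e T hT]
    · rw [← hn5]
      refine Nat.card_le_card_of_injective (fun S : Sylow 5 H => S.subtype ((hPall S).trans hLD)) ?_
      intro S T q
      have q' := congrArg (fun X : Sylow 5 D => (X : Subgroup D).map D.subtype) q
      simp only [Sylow.coe_subtype] at q'
      rw [Subgroup.map_subgroupOf_eq_of_le ((hPall S).trans hLD),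
        Subgroup.map_subgroupOf_eq_of_le ((hPall T).trans hLD)] at q'
      exact Sylow.ext q'
  haveI hs := simple_of_360 hD h5D hn5D
  refine ⟨D, hDn, hD, hs, ?_⟩
  set Z := Subgroup.centralizer (D : Set H) with hZ
  haveI : Z.Normal := Subgroup.normal_centralizer
  rw [Subgroup.eq_bot_iff_forall]
  intro g hg
  have hy' : ∃ w : D, orderOf w = 5 := exists_five (by rw [hD]; norm_num)
  obtain ⟨w, hw⟩ := hy'
  have hwc : orderOf (w : H) = 5 := by rw [Subgroup.orderOf_coe, hw]
  have hgC : g ∈ Subgroup.centralizer ({(w : H)} : Set H) :=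
    Subgroup.mem_centralizer_singleton_iff.2 (Subgroup.mem_centralizer_iff.1 hg (w : H) w.2).symm
  have hle : Subgroup.zpowers (w : H) = Subgroup.centralizer ({(w : H)} : Set H) :=
    Subgroup.eq_of_le_of_card_ge (Subgroup.zpowers_le.2 (Subgroup.mem_centralizer_singleton_iff.2 rfl))
      (by rw [h5 _ hwc, Nat.card_zpowers, hwc])
  rw [← hle] at hgC
  have hgD : g ∈ D := Subgroup.zpowers_le.2 w.2 hgC
  have hgz : (⟨g, hgD⟩ : D) ∈ Subgroup.center D :=
    Subgroup.mem_center_iff.2 fun m => Subtype.ext (Subgroup.mem_centralizer_iff.1 hg m m.2)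
  rcases Subgroup.Normal.eq_bot_or_eq_top (inferInstance : (Subgroup.center D).Normal) with hb | hb
  · rw [hb, Subgroup.mem_bot] at hgz
    exact congrArg Subtype.val hgz
  · have hcm : IsMulCommutative D := ⟨⟨fun a b => Subgroup.mem_center_iff.1 (hb ▸ Subgroup.mem_top b) a⟩⟩
    haveI := hcm
    open scoped IsMulCommutative in
    have hp := IsSimpleGroup.prime_card (α := D)
    rw [hD] at hp
    norm_num at hp

end Cfsg.Agent.M12Nse51Quot57
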