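import Mathlib
import Cfsg.Agent.Lib.AltSixAut64

/-!
Finite facts about the symmetric group of degree six used against a centraliser of order 1440.
-/

set_option autoImplicit false
set_option maxRecDepth 100000

namespace Cfsg.Agent.M12Nse51Six57

open Equiv
open Equiv.Perm (sign)

abbrev P6 := Equiv.Perm (Fin 6)
abbrev A6 := ↥(alternatingGroup (Fin 6))

def g0p : P6 := swap 0 1 * swap 1 2 * swap 2 3 * swap 4 5
def h0p : P6 := swap 0 2 * swap 4 5
def c0p : P6 := swap 0 2 * swap 1 3
def v0p : P6 := swap 0 1 * swap 2 3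
def p1 : P6 := swap 4 5
def p2 : P6 := swap 0 2 * swap 1 3 * swap 4 5

def g0 : A6 := ⟨g0p, Equiv.Perm.mem_alternatingGroup.2 (by decide +kernel)⟩
def h0 : A6 := ⟨h0p, Equiv.Perm.mem_alternatingGroup.2 (by decide +kernel)⟩
def a0 : A6 := ⟨swap 0 1 * swap 1 2, Equiv.Perm.mem_alternatingGroup.2 (by decide +kernel)⟩

/-- The eight elements generated by `g0` and `h0`. -/
def eight : List P6 :=
  [1, g0p, g0p * g0p, g0p * g0p * g0p, h0p, h0p * g0p, h0p * (g0p * g0p),
    h0p * (g0p * g0p * g0p)]

theorem eight_mul : ∀ x ∈ eight, ∀ y ∈ eight, x * y ∈ eight := by decide +kernel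
theorem eight_inv : ∀ x ∈ eight, x⁻¹ ∈ eight := by decide +kernel
theorem eight_even : ∀ x ∈ eight, x ∈ alternatingGroup (Fin 6) := by
  have : ∀ x ∈ eight, sign x = 1 := by decide +kernel
  exact fun x hx => Equiv.Perm.mem_alternatingGroup.2 (this x hx)

/-- A Sylow 2-subgroup of the alternating group. -/
def P0 : Subgroup A6 where
  carrier := {x | (x : P6) ∈ eight}
  one_mem' := List.mem_cons_self
  mul_mem' := fun hx hy => eight_mul _ hx _ hy
  inv_mem' := fun hx => eight_inv _ hx

theorem card_P0 : Nat.card P0 = 8 := by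
  let e : P0 ≃ {x : P6 // x ∈ eight} :=
    { toFun := fun x => ⟨x.1.1, x.2⟩
      invFun := fun x => ⟨⟨x.1, eight_even _ x.2⟩, x.2⟩
      left_inv := fun _ => rfl
      right_inv := fun _ => rfl }
  rw [Nat.card_congr e, Nat.card_eq_fintype_card, Fintype.card_subtype]
  decide +kernel

theorem g0_mem : g0 ∈ P0 := by show g0p ∈ eight; decide +kernel
theorem h0_mem : h0 ∈ P0 := by show h0p ∈ eight; decide +kernel

/-- An element of order three normalising the four-group is a three-cycle. -/
theorem three_of_normalise : ∀ x : P6, x * x * x = 1 → x ≠ 1 →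
    x * c0p * x⁻¹ ∈ [c0p, v0p, c0p * v0p] → x * v0p * x⁻¹ ∈ [c0p, v0p, c0p * v0p] →
    x.support.card = 3 := by decide +kernel

theorem commute_gen : ∀ p : P6, p * g0p = g0p * p → p * h0p = h0p * p →
    p = 1 ∨ p = c0p ∨ p = p1 ∨ p = p2 := by decide +kernel

theorem odd_involution : ∀ p : P6, p * p = 1 → sign p = -1 →
    (p.support.card = 2 ∨ p.support.card = 6) := by decide +kernel

theorem conj_p1 : ∀ p : P6, p * p = 1 → p.support.card = 2 →
    ∃ k : P6, k * p = p1 * k ∧ sign k = 1 := by decide +kernel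

theorem conj_p2 : ∀ p : P6, p * p = 1 → p.support.card = 6 →
    ∃ k : P6, k * p = p2 * k ∧ sign k = 1 := by decide +kernel

theorem inner_inverts : ∀ p : P6, p * p = 1 → p ≠ 1 → sign p = 1 →
    ∃ y : P6, p * y * p = y⁻¹ ∧ y * y * y * y * y = 1 ∧ y ≠ 1 := by decide +kernel

theorem card_class_p1 :
    Nat.card {p : P6 // p * p = 1 ∧ p.support.card = 2} = 15 := by
  rw [Nat.card_eq_fintype_card, Fintype.card_subtype]
  decide +kernel

theorem card_class_p2 :
    Nat.card {p : P6 // p * p = 1 ∧ p.support.card = 6} = 15 := by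
  rw [Nat.card_eq_fintype_card, Fintype.card_subtype]
  decide +kernel

/-- An automorphism fixing a Sylow 2-subgroup pointwise is conjugation by one of four elements. -/
theorem exists_perm (ψ : MulAut A6) (hg : ψ g0 = g0) (hh : ψ h0 = h0) :
    ∃ π : P6, (π = 1 ∨ π = c0p ∨ π = p1 ∨ π = p2) ∧ MulAut.conjNormal π = ψ := by
  let c : A6 := ⟨c0p, Equiv.Perm.mem_alternatingGroup.2 (by decide +kernel)⟩
  let v : A6 := ⟨v0p, Equiv.Perm.mem_alternatingGroup.2 (by decide +kernel)⟩
  have hc : ψ c = c := by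
    rw [show c = g0 * g0 from Subtype.ext (by show c0p = g0p * g0p; decide +kernel), map_mul, hg]
  have hv : ∃ w : A6, w ∈ [g0 * h0, h0 * g0] ∧ w = v := by
    refine Classical.byContradiction fun hn => ?_
    have : g0p * h0p = v0p ∨ h0p * g0p = v0p := by decide +kernel
    rcases this with e | e
    · exact hn ⟨g0 * h0, by simp, Subtype.ext e⟩
    · exact hn ⟨h0 * g0, by simp, Subtype.ext e⟩
  have hv' : ψ v = v := by
    obtain ⟨w, hw, rfl⟩ := hv
    simp only [List.mem_cons, List.not_mem_nil, or_false] at hw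
    rcases hw with hw | hw <;> rw [hw, map_mul, hg, hh]
  have hcv : ψ (c * v) = c * v := by rw [map_mul, hc, hv']
  have himg : ∀ w ∈ [c, v, c * v],
      ((ψ (a0 * w * a0⁻¹) : A6) : P6) ∈ [c0p, v0p, c0p * v0p] := by
    have hstd : ∀ w ∈ [c0p, v0p, c0p * v0p],
        (swap 0 1 * swap 1 2 : P6) * w * (swap 0 1 * swap 1 2 : P6)⁻¹ ∈ [c0p, v0p, c0p * v0p] := by
      decide +kernel
    intro w hw
    have hw' : ((a0 * w * a0⁻¹ : A6) : P6) ∈ [c0p, v0p, c0p * v0p] := by
      refine hstd (w : P6) ?_
      simp only [List.mem_cons, List.not_mem_nil, or_false] at hw ⊢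
      rcases hw with rfl | rfl | rfl
      exacts [Or.inl rfl, Or.inr (Or.inl rfl), Or.inr (Or.inr rfl)]
    simp only [List.mem_cons, List.not_mem_nil, or_false] at hw'
    rcases hw' with e | e | e
    · rw [show a0 * w * a0⁻¹ = c from Subtype.ext e, hc]; exact List.mem_cons_self
    · rw [show a0 * w * a0⁻¹ = v from Subtype.ext e, hv']
      exact List.mem_cons_of_mem _ List.mem_cons_self
    · rw [show a0 * w * a0⁻¹ = c * v from Subtype.ext e, hcv]
      exact List.mem_cons_of_mem _ (List.mem_cons_of_mem _ List.mem_cons_self)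
  have hx : ((ψ a0 : A6) : P6).IsThreeCycle := by
    rw [← card_support_eq_three_iff]
    refine three_of_normalise _ ?_ ?_ ?_ ?_
    · rw [← Subgroup.coe_mul, ← Subgroup.coe_mul, ← map_mul, ← map_mul,
        show a0 * a0 * a0 = 1 from by decide +kernel, map_one]
      rfl
    · intro e
      have : ψ a0 = 1 := Subtype.ext e
      rw [MulEquiv.map_eq_one_iff] at this
      revert this
      decide +kernel
    · have := himg c (by simp)
      rw [map_mul, map_mul, map_inv, hc] at this
      exact this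
    · have := himg v (by simp)
      rw [map_mul, map_mul, map_inv, hv'] at this
      exact this
  have hpres : ∀ x : A6, (x : P6).IsThreeCycle → (ψ x : P6).IsThreeCycle := by
    intro x hx3
    have h0 : (a0 : P6).IsThreeCycle := by
      rw [← card_support_eq_three_iff]; decide +kernel
    have hconj : IsConj a0 x := alternatingGroup.isThreeCycle_isConj (by simp) h0 hx3
    have h2 := (alternatingGroup (Fin 6)).subtype.map_isConj (ψ.toMonoidHom.map_isConj hconj)
    exact (Equiv.Perm.isConj_iff_cycleType_eq.1 h2).symm.trans hx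
  obtain ⟨π, hπ⟩ := AltSixAut64.exists_perm_of_threeCycle 6 (by norm_num) ψ hpres
  have hcomm : ∀ z : A6, ψ z = z → π * (z : P6) = (z : P6) * π := by
    intro z hz
    have := congrArg Subtype.val ((DFunLike.congr_fun hπ z).trans hz)
    rw [MulAut.conjNormal_apply] at this
    exact mul_inv_eq_iff_eq_mul.1 this
  exact ⟨π, commute_gen π (hcomm g0 hg) (hcomm h0 hh), hπ⟩

end Cfsg.Agent.M12Nse51Six57
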