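import Cfsg.Agent.Lib.M12Nse51Involution
import Cfsg.Agent.Lib.M12Nse51Six57
import Cfsg.Agent.Lib.M12Nse51Quot57
import Cfsg.Agent.Lib.Simple360

/-!
An involution centralising an element of order five does not have a centraliser of order 1440.
-/

set_option autoImplicit false

namespace Cfsg.Agent.M12Nse51Big57

open Cfsg.Agent.M12Nse51 Cfsg.Agent.M12Nse51Six57
open Equiv.Perm (sign)
open scoped Pointwise

theorem sq_eight : ∀ x ∈ eight, x * x = 1 ∨ x * x = c0p ∧ (x = g0p ∨ x = g0p * g0p * g0p) := by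
  decide +kernel

theorem conjNormal_injective :
    Function.Injective (MulAut.conjNormal : P6 →* MulAut A6) := by
  refine (injective_iff_map_eq_one _).2 fun p hp => ?_
  have key : ∀ z : A6, p * (z : P6) = (z : P6) * p := by
    intro z
    have := congrArg Subtype.val (DFunLike.congr_fun hp z)
    rw [MulAut.conjNormal_apply, MulAut.one_apply] at this
    exact mul_inv_eq_iff_eq_mul.1 this
  rcases commute_gen p (key g0) (key h0) with rfl | rfl | rfl | rfl
  · rfl
  all_goals exact absurd (key ⟨Equiv.swap 0 4 * Equiv.swap 1 2,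
    Equiv.Perm.mem_alternatingGroup.2 (by decide +kernel)⟩) (by decide +kernel)

/-- The quotient is the symmetric group of degree six, in adapted coordinates. -/
theorem exists_model {Q : Type*} [Group Q] [Finite Q] (hQ : Nat.card Q = 720) (D : Subgroup Q)
    [D.Normal] [IsSimpleGroup D] (hD : Nat.card D = 360)
    (hcD : Subgroup.centralizer (D : Set Q) = ⊥) (MQ : Subgroup Q) (hM : Nat.card MQ = 16)
    (t : Q) (ht : t ∈ MQ) (htD : t ∉ D) (htc : ∀ m ∈ MQ, t * m = m * t) :
    ∃ (Θ : Q ≃* P6) (σ : P6), (σ = p1 ∨ σ = p2) ∧ Θ t = σ ∧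
      (∀ q, q ∈ D ↔ sign (Θ q) = 1) ∧ (∀ q ∈ MQ, q ∈ D → Θ q ∈ eight) ∧
      (∀ x ∈ eight, Θ.symm x ∈ MQ) := by
  classical
  haveI : Fact (Nat.Prime 2) := ⟨Nat.prime_two⟩
  have hDi : D.index = 2 := by have := D.card_mul_index; rw [hD, hQ] at this; omega
  obtain ⟨e⟩ := Simple360.nonempty_equiv_alternating (G := D) hD
  have hP : Nat.card (MQ.subgroupOf D) = 8 := by
    have h1 : Nat.card (MQ.subgroupOf D) = Nat.card (MQ ⊓ D : Subgroup Q) := by
      rw [← Subgroup.inf_subgroupOf_right]
      exact Nat.card_congr (Subgroup.subgroupOfEquivOfLe inf_le_right).toEquiv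
    have h2 : D.relIndex MQ = 2 := by
      have hd : D.relIndex MQ ∣ 2 := hDi ▸ D.relIndex_dvd_index_of_normal MQ
      rcases Nat.prime_two.eq_one_or_self_of_dvd _ hd with q | q
      · exact absurd (Subgroup.relIndex_eq_one.1 q ht) htD
      · exact q
    have h3 := (D.subgroupOf MQ).card_mul_index
    have h4 : Nat.card (D.subgroupOf MQ) = Nat.card (MQ ⊓ D : Subgroup Q) := by
      rw [← Subgroup.inf_subgroupOf_left]
      exact Nat.card_congr (Subgroup.subgroupOfEquivOfLe inf_le_left).toEquiv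
    rw [show (D.subgroupOf MQ).index = 2 from h2, h4, hM] at h3
    omega
  have h360 : (Nat.card A6).factorization 2 = 3 := by
    rw [← Nat.card_congr e.toEquiv, hD, show (360 : ℕ) = 2 ^ 3 * 45 by norm_num,
      Nat.factorization_mul (by norm_num) (by norm_num), Finsupp.add_apply,
      Nat.Prime.factorization_pow Nat.prime_two, Finsupp.single_eq_same,
      Nat.factorization_eq_zero_of_not_dvd (by norm_num : ¬ 2 ∣ 45)]
  have hP' : Nat.card ((MQ.subgroupOf D).map e.toMonoidHom) = 8 := by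
    rw [← hP]
    exact Nat.card_congr (Subgroup.equivMapOfInjective _ _ e.injective).toEquiv.symm
  obtain ⟨a, ha⟩ := MulAction.exists_smul_eq A6
    (Sylow.ofCard ((MQ.subgroupOf D).map e.toMonoidHom) (by rw [hP', h360]; norm_num))
    (Sylow.ofCard P0 (by rw [card_P0, h360]; norm_num))
  have ha' := congrArg (fun X : Sylow 2 A6 => (X : Subgroup A6)) ha
  simp only [Sylow.coe_subgroup_smul] at ha'
  let e1 : D ≃* A6 := e.trans (MulAut.conj a)
  have h8 : ∀ x : D, (x : Q) ∈ MQ ↔ e1 x ∈ P0 := by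
    intro x
    change _ ↔ a * e x * a⁻¹ ∈ P0
    constructor
    · intro hx
      have : a * e x * a⁻¹ ∈ MulAut.conj a • ((MQ.subgroupOf D).map e.toMonoidHom) :=
        ⟨e x, ⟨x, hx, rfl⟩, rfl⟩
      rwa [show MulAut.conj a • ((MQ.subgroupOf D).map e.toMonoidHom) = P0 from ha'] at this
    · intro hx
      rw [← show MulAut.conj a • ((MQ.subgroupOf D).map e.toMonoidHom) = P0 from ha'] at hx
      obtain ⟨_, ⟨w, hw, rfl⟩, hweq⟩ := hx
      have hwx : w = x := e.injective (mul_left_cancel (mul_right_cancel hweq :))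
      exact hwx ▸ hw
  let F : Q →* MulAut A6 := (MulAut.congr e1).toMonoidHom.comp MulAut.conjNormal
  have hF : ∀ q z, F q z = e1 (MulAut.conjNormal q (e1.symm z)) := fun q z => rfl
  have hFD : ∀ d : D, F (d : Q) = MulAut.conjNormal (e1 d : P6) := by
    intro d
    refine MulEquiv.ext fun z => Subtype.ext ?_
    rw [hF, MulAut.conjNormal_apply,
      show MulAut.conjNormal (d : Q) (e1.symm z) = d * e1.symm z * d⁻¹ from Subtype.ext
        (MulAut.conjNormal_apply _ _),
      map_mul, map_mul, map_inv, MulEquiv.apply_symm_apply]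
    rfl
  have hFinj : ∀ q, F q = 1 → q = 1 := by
    intro q hq
    rw [← Subgroup.mem_bot, ← hcD]
    refine Subgroup.mem_centralizer_iff.2 fun x hx => ?_
    have := e1.injective (((hF q (e1 ⟨x, hx⟩)).symm.trans (DFunLike.congr_fun hq (e1 ⟨x, hx⟩))).trans
      (MulAut.one_apply A6 _))
    rw [MulEquiv.symm_apply_apply] at this
    have := congrArg Subtype.val this
    rw [MulAut.conjNormal_apply] at this
    exact (mul_inv_eq_iff_eq_mul.1 this).symm
  have hfix : ∀ z : A6, z ∈ P0 → F t z = z := by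
    intro z hz
    have hm : ((e1.symm z : D) : Q) ∈ MQ := (h8 _).2 (by rwa [MulEquiv.apply_symm_apply])
    rw [hF, show MulAut.conjNormal t (e1.symm z) = e1.symm z from Subtype.ext (by
      rw [MulAut.conjNormal_apply, htc _ hm, mul_inv_cancel_right]), MulEquiv.apply_symm_apply]
  obtain ⟨σ, hσ, hσF⟩ := exists_perm (F t) (hfix g0 g0_mem) (hfix h0 h0_mem)
  have hσ' : σ = p1 ∨ σ = p2 := by
    rcases hσ with q | q | q | q
    · exact absurd (show t ∈ D by rw [hFinj t (by rw [← hσF, q, map_one])]; exact one_mem _) htD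
    · exfalso
      have hc : (e1.symm ⟨c0p, Equiv.Perm.mem_alternatingGroup.2 (by decide +kernel)⟩ : D).1 = t := by
        refine inv_mul_eq_one.1 (hFinj _ ?_)
        rw [map_mul, map_inv, hFD, MulEquiv.apply_symm_apply, ← hσF, q, inv_mul_cancel]
      exact htD (hc ▸ SetLike.coe_mem _)
    · exact Or.inl q
    · exact Or.inr q
  have hsplit : ∀ q, q ∉ D → ∃ d : D, q = t * d := fun q hq => ⟨⟨t⁻¹ * q, by
    rw [Subgroup.mul_mem_iff_of_index_two hDi, inv_mem_iff]; tauto⟩, (mul_inv_cancel_left t q).symm⟩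
  have hrange : ∀ q, F q ∈ (MulAut.conjNormal : P6 →* MulAut A6).range := by
    intro q
    by_cases hq : q ∈ D
    · exact ⟨_, (hFD ⟨q, hq⟩).symm⟩
    · obtain ⟨d, rfl⟩ := hsplit q hq
      exact ⟨σ * (e1 d : P6), by rw [map_mul, map_mul, hσF, hFD]⟩
  let Θ0 : Q →* P6 := (MonoidHom.ofInjective conjNormal_injective).symm.toMonoidHom.comp
    (F.codRestrict _ hrange)
  have hΘ : ∀ q, MulAut.conjNormal (Θ0 q) = F q := fun q =>
    MonoidHom.apply_ofInjective_symm conjNormal_injective ⟨F q, hrange q⟩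
  have hΘD : ∀ d : D, Θ0 (d : Q) = (e1 d : P6) := fun d =>
    conjNormal_injective (by rw [hΘ, hFD])
  have hΘt : Θ0 t = σ := conjNormal_injective (by rw [hΘ, hσF])
  have hbij : Function.Bijective Θ0 := by
    rw [Nat.bijective_iff_injective_and_card]
    refine ⟨(injective_iff_map_eq_one _).2 fun q hq => hFinj q (by rw [← hΘ, hq, map_one]), ?_⟩
    rw [hQ, Nat.card_eq_fintype_card, Fintype.card_perm, Fintype.card_fin]
    rfl
  refine ⟨MulEquiv.ofBijective Θ0 hbij, σ, hσ', hΘt, fun q => ?_, fun q hq hqD => ?_, fun x hx => ?_⟩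
  · change q ∈ D ↔ sign (Θ0 q) = 1
    by_cases hq : q ∈ D
    · rw [show q = ((⟨q, hq⟩ : D) : Q) from rfl, hΘD]
      simp only [hq, true_iff]
      exact Equiv.Perm.mem_alternatingGroup.1 (e1 ⟨q, hq⟩).2
    · obtain ⟨d, rfl⟩ := hsplit q hq
      simp only [hq, false_iff]
      rw [map_mul, hΘt, hΘD, map_mul, Equiv.Perm.mem_alternatingGroup.1 (e1 d).2, mul_one]
      rcases hσ' with rfl | rfl <;> decide +kernel
  · change Θ0 q ∈ eight
    rw [show q = ((⟨q, hqD⟩ : D) : Q) from rfl, hΘD]
    exact (h8 ⟨q, hqD⟩).1 hq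
  · have hz : (⟨x, eight_even x hx⟩ : A6) ∈ P0 := hx
    have hm : ((e1.symm ⟨x, eight_even x hx⟩ : D) : Q) ∈ MQ :=
      (h8 _).2 (by rwa [MulEquiv.apply_symm_apply])
    refine (show (MulEquiv.ofBijective Θ0 hbij).symm x = _ from ?_) ▸ hm
    rw [MulEquiv.symm_apply_eq]
    change x = Θ0 _
    rw [hΘD, MulEquiv.apply_symm_apply]

variable {G : Type*} [Group G] [Finite G]

theorem conj_cent {s x : G} (hx : IsConj s x) :
    Nat.card (Subgroup.centralizer ({x} : Set G)) = Nat.card (Subgroup.centralizer ({s} : Set G)) := by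
  have h1 := M12Inv51.card_class_mul s
  have h2 := M12Inv51.card_class_mul x
  have h3 : Nat.card {z : G // IsConj x z} = Nat.card {z : G // IsConj s z} :=
    Nat.card_congr (Equiv.subtypeEquivRight fun z => ⟨hx.trans, hx.symm.trans⟩)
  have hpos : 0 < Nat.card {z : G // IsConj s z} :=
    @Nat.card_pos _ ⟨⟨s, IsConj.refl s⟩⟩ _
  rw [h3, ← h1] at h2
  exact Nat.eq_of_mul_eq_mul_left hpos h2

/-- No conjugate inverts an element of order five. -/
theorem no_invert (h : Data G) {s : G} (hX : Nat.card {z : G // IsConj s z} = 66) {x y : G}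
    (hx : IsConj s x) (hy : orderOf y = 5) (hinv : x * y * x⁻¹ = y⁻¹) : False := by
  classical
  haveI : Fact (Nat.Prime 5) := ⟨Nat.prime_five⟩
  have mk : ∀ v : G, orderOf v = 5 → ∃ P : Sylow 5 G, Subgroup.zpowers v = (P : Subgroup G) := by
    intro v hv
    obtain ⟨P, hle⟩ := (IsPGroup.of_card (G := ↥(Subgroup.zpowers v)) (p := 5) (n := 1)
      (by rw [Nat.card_zpowers, hv, pow_one])).exists_le_sylow
    exact ⟨P, Subgroup.eq_of_le_of_card_ge hle
      (by rw [card_sylow_five h P, Nat.card_zpowers, hv])⟩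
  have hall : ∀ w : G, orderOf w = 5 → ∃ u, IsConj s u ∧ u * w * u⁻¹ = w⁻¹ := by
    intro w hw
    obtain ⟨P, hP⟩ := mk y hy
    obtain ⟨R, hR⟩ := mk w hw
    obtain ⟨g, hg⟩ := MulAction.exists_smul_eq G P R
    have hwR : w ∈ ((g • P : Sylow 5 G) : Subgroup G) := by rw [hg, ← hR]; exact Subgroup.mem_zpowers w
    rw [Sylow.coe_subgroup_smul] at hwR
    obtain ⟨a, ha, rfl⟩ := hwR
    rw [SetLike.mem_coe, ← hP] at ha
    obtain ⟨k, rfl⟩ := Subgroup.mem_zpowers_iff.1 ha
    refine ⟨g * x * g⁻¹, hx.trans (isConj_iff.2 ⟨g, rfl⟩), ?_⟩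
    change g * x * g⁻¹ * (g * y ^ k * g⁻¹) * (g * x * g⁻¹)⁻¹ = (g * y ^ k * g⁻¹)⁻¹
    rw [show g * x * g⁻¹ * (g * y ^ k * g⁻¹) * (g * x * g⁻¹)⁻¹ = g * (x * y ^ k * x⁻¹) * g⁻¹ by
      group, ← conj_zpow, hinv]
    group
  choose u hu1 hu2 using hall
  have hmul : ∀ w (hw : orderOf w = 5), IsConj s (u w hw * w) := by
    intro w hw
    refine (hu1 w hw).trans (isConj_iff.2 ⟨w ^ 2, ?_⟩)
    have e1 : u w hw * w = w⁻¹ * u w hw := mul_inv_eq_iff_eq_mul.1 (hu2 w hw)
    have e2 : ∀ n : ℕ, u w hw * w ^ n = (w⁻¹) ^ n * u w hw := by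
      intro n
      induction n with
      | zero => simp
      | succ n ih => rw [pow_succ, ← mul_assoc, ih, mul_assoc, e1, ← mul_assoc, ← pow_succ]
    have h5 : w ^ 5 = 1 := hw ▸ pow_orderOf_eq_one w
    have e3 : w ^ 2 * u w hw = u w hw * (w ^ 2)⁻¹ := by
      have := e2 2
      rw [eq_mul_inv_iff_mul_eq, mul_assoc, this, inv_pow, mul_inv_cancel_left]
    rw [e3, mul_assoc, ← mul_inv_rev]
    congr 1
    rw [inv_eq_iff_mul_eq_one, show w ^ 2 * w ^ 2 * w = w ^ 5 by group, h5]
  have hle := Nat.card_le_card_of_injective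
    (fun w : {g : G // orderOf g = 5} =>
      ((⟨u w.1 w.2, hu1 w.1 w.2⟩, ⟨u w.1 w.2 * w.1, hmul w.1 w.2⟩) :
        {z : G // IsConj s z} × {z : G // IsConj s z})) (by
      intro a b q
      have q1 : u a.1 a.2 = u b.1 b.2 := congrArg (fun p => p.1.1) q
      have q2 : u a.1 a.2 * a.1 = u b.1 b.2 * b.1 := congrArg (fun p => p.2.1) q
      rw [q1] at q2
      exact Subtype.ext (mul_left_cancel q2))
  have h5 : Nat.card {g : G // orderOf g = 5} = 9504 := h.cnt5
  rw [h5, Nat.card_prod, hX] at hle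
  omega

/-- The class of an involution with a given number of other commuting members gives a parity. -/
theorem parity_false (h : Data G) {s : G} (hs : orderOf s = 2)
    (hX : Nat.card {z : G // IsConj s z} = 66)
    (hT : Nat.card {u : G // IsConj s u ∧ u ≠ s ∧ Commute u s} = 15) : False := by
  classical
  haveI := Fintype.ofFinite G
  haveI := h.simple
  let X := {x : G // IsConj s x}
  let _ : MulAction G X :=
    { smul := fun g x => ⟨g * x.1 * g⁻¹, x.2.trans (isConj_iff.2 ⟨g, rfl⟩)⟩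
      one_smul := fun x => Subtype.ext (show (1 : G) * x.1 * 1⁻¹ = x.1 by simp)
      mul_smul := fun g k x => Subtype.ext
        (show g * k * x.1 * (g * k)⁻¹ = g * (k * x.1 * k⁻¹) * g⁻¹ by group) }
  have hXc : Fintype.card X = 66 := by rw [← Nat.card_eq_fintype_card]; exact hX
  let π : G →* Equiv.Perm X := MulAction.toPermHom G X
  let f : G →* ℤˣ := Equiv.Perm.sign.comp π
  have hf : f s = 1 := by
    rcases f.normal_ker.eq_bot_or_eq_top with q | q
    · have := Nat.card_le_card_of_injective f ((MonoidHom.ker_eq_bot_iff f).1 q)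
      rw [h.card, Nat.card_eq_fintype_card (α := ℤˣ)] at this
      simp at this
    · exact MonoidHom.mem_ker.1 (q ▸ Subgroup.mem_top s)
  have hs2 : s ^ 2 = 1 := by rw [← hs]; exact pow_orderOf_eq_one s
  have hπ2 : π s * π s = 1 := by rw [← map_mul, ← pow_two, hs2, map_one]
  have hsign : sign (π s) =
      (-1) ^ ((Fintype.card X - Fintype.card (Function.fixedPoints (π s))) / 2) :=
    Equiv.Perm.sign_of_pow_two_eq_one (by rw [pow_two]; exact hπ2)
  have hfx : Fintype.card (Function.fixedPoints (π s)) = 16 := by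
    rw [← Nat.card_eq_fintype_card]
    have hiff : ∀ x : X, x ∈ Function.fixedPoints (π s) ↔ Commute x.1 s := by
      intro x
      constructor
      · intro q
        exact (mul_inv_eq_iff_eq_mul.1 (congrArg Subtype.val q : s * x.1 * s⁻¹ = x.1)).symm
      · intro q
        exact Subtype.ext (show s * x.1 * s⁻¹ = x.1 by rw [← q.eq, mul_inv_cancel_right])
    let E : Function.fixedPoints (π s) ≃ Option {u : G // IsConj s u ∧ u ≠ s ∧ Commute u s} :=
      { toFun := fun x => if q : x.1.1 = s then none else some ⟨x.1.1, x.1.2, q, (hiff x.1).1 x.2⟩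
        invFun := fun o => o.elim ⟨⟨s, IsConj.refl s⟩, (hiff _).2 (Commute.refl s)⟩
          fun u => ⟨⟨u.1, u.2.1⟩, (hiff _).2 u.2.2.2⟩
        left_inv := fun x => by
          by_cases q : x.1.1 = s
          · simp only [dif_pos q, Option.elim_none]
            exact Subtype.ext (Subtype.ext q.symm)
          · simp only [dif_neg q, Option.elim_some]
            rfl
        right_inv := fun o => by
          cases o with
          | none => simp
          | some u => simp [u.2.2.1] }
    rw [Nat.card_congr E, Finite.card_option, hT]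
  have hf' : sign (π s) = 1 := hf
  rw [hXc, hfx] at hsign
  rw [hsign] at hf'
  revert hf'
  decide

set_option maxHeartbeats 1000000 in
theorem no_1440 (h : Data G) (s : G) (hs : orderOf s = 2) :
    Nat.card (Subgroup.centralizer ({s} : Set G)) ≠ 1440 := by
  classical
  intro hC
  haveI : Fact (Nat.Prime 5) := ⟨Nat.prime_five⟩
  haveI : Fact (Nat.Prime 2) := ⟨Nat.prime_two⟩
  have hX : Nat.card {z : G // IsConj s z} = 66 := by
    have := card_class h s
    rw [hC] at this
    omega
  set C := Subgroup.centralizer ({s} : Set G) with hCdef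
  let s' : C := ⟨s, mem_cent.2 (Commute.refl s)⟩
  have hs' : orderOf s' = 2 := by rw [Subgroup.orderOf_mk, hs]
  have hss : s' * s' = 1 := by rw [← pow_two, ← hs', pow_orderOf_eq_one]
  have hsne : s' ≠ 1 := fun q => by rw [q, orderOf_one] at hs'; omega
  have hcen : ∀ c : C, c * s' = s' * c := fun c => Subtype.ext (mem_cent.1 c.2).eq
  let Z : Subgroup C := Subgroup.zpowers s'
  haveI hZn : Z.Normal := ⟨fun n hn g => by
    obtain ⟨k, rfl⟩ := Subgroup.mem_zpowers_iff.1 hn
    rw [(Commute.zpow_right (hcen g) k).eq, mul_inv_cancel_right]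
    exact hn⟩
  let qm : C →* C ⧸ Z := QuotientGroup.mk' Z
  have hsurj : Function.Surjective qm := QuotientGroup.mk'_surjective Z
  have hZ2 : Nat.card Z = 2 := by rw [Nat.card_zpowers, hs']
  have hqs : qm s' = 1 := (QuotientGroup.eq_one_iff s').2 (Subgroup.mem_zpowers s')
  have hker : ∀ a, qm a = 1 → a = 1 ∨ a = s' := by
    intro a ha
    obtain ⟨k, hk⟩ := Subgroup.mem_zpowers_iff.1 ((QuotientGroup.eq_one_iff a).1 ha)
    rw [← hk]
    rcases Int.emod_two_eq_zero_or_one k with q | q
    · left; rw [← zpow_mod_orderOf, hs', Nat.cast_ofNat, q, zpow_zero]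
    · right; rw [← zpow_mod_orderOf, hs', Nat.cast_ofNat, q, zpow_one]
  have hkey : ∀ a b, qm a = qm b → a = b ∨ a = b * s' := by
    intro a b q
    rcases hker (b⁻¹ * a) (by rw [map_mul, map_inv, q, inv_mul_cancel]) with r | r
    · left; exact (inv_mul_eq_one.1 r).symm
    · right; rw [← r, mul_inv_cancel_left]
  have hQ : Nat.card (C ⧸ Z) = 720 := by
    have := Z.card_mul_index
    rw [hZ2, hC] at this
    show Z.index = 720
    omega
  have hfive : ∀ a b : C, a ^ 5 = 1 → b ^ 5 = 1 → qm a = qm b → a = b := by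
    intro a b ha hb q
    rcases hkey a b q with r | r
    · exact r
    · exfalso
      rw [r, Commute.mul_pow (hcen b), hb, one_mul, show (5 : ℕ) = 2 + 2 + 1 from rfl, pow_add,
        pow_add, pow_two, hss, one_mul, one_mul, pow_one] at ha
      exact hsne ha
  have hlift : ∀ q : C ⧸ Z, orderOf q = 5 → ∃ y : C, qm y = q ∧ orderOf y = 5 := by
    intro q hq
    obtain ⟨g, rfl⟩ := hsurj q
    have h5 : qm g ^ 5 = 1 := hq ▸ pow_orderOf_eq_one _
    refine ⟨g ^ 6, ?_, ?_⟩
    · rw [map_pow, pow_succ, h5, one_mul]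
    · have h30 : (g ^ 6) ^ 5 = 1 := by
        rw [← pow_mul, show 6 * 5 = 5 * (2 * 3) from rfl, pow_mul, pow_mul]
        rcases hker (g ^ 5) (by rw [map_pow, h5]) with r | r <;> rw [r]
        · simp
        · rw [pow_two, hss, one_pow]
      refine orderOf_eq_prime h30 fun r => ?_
      have : qm g = 1 := by
        have h6 := congrArg qm r
        rw [map_pow, map_one, pow_succ, h5, one_mul] at h6
        exact h6
      rw [this, orderOf_one] at hq
      omega
  have hinvert : ∀ (u y : C), IsConj s u.1 → orderOf y = 5 →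
      qm (u * y * u⁻¹) = qm y⁻¹ → False := by
    intro u y hu hy q
    have hy5 : y ^ 5 = 1 := hy ▸ pow_orderOf_eq_one y
    have := hfive _ _ (by rw [conj_pow, hy5, mul_one, mul_inv_cancel])
      (by rw [inv_pow, hy5, inv_one]) q
    exact no_invert h hX hu ((Subgroup.orderOf_coe y).trans hy) (congrArg Subtype.val this)
  have hcentQ : ∀ q : C ⧸ Z, orderOf q = 5 →
      Nat.card (Subgroup.centralizer ({q} : Set (C ⧸ Z))) = 5 := by
    intro q hq
    obtain ⟨y, rfl, hy⟩ := hlift q hq
    have hy5 : y ^ 5 = 1 := hy ▸ pow_orderOf_eq_one y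
    refine le_antisymm ?_ ?_
    · set K := Subgroup.centralizer ({qm y} : Set (C ⧸ Z))
      have h1 := (K.comap qm).card_mul_index
      rw [Subgroup.index_comap_of_surjective _ hsurj] at h1
      have h2 := K.card_mul_index
      rw [hC] at h1
      rw [hQ] at h2
      have h3 : Nat.card (K.comap qm) ≤ 10 := by
        rw [← h.centFive y.1 ((Subgroup.orderOf_coe y).trans hy)]
        refine Nat.card_le_card_of_injective (fun a => (⟨a.1.1, ?_⟩ :
          Subgroup.centralizer ({y.1} : Set G))) ?_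
        · have q1 : Commute (qm a.1) (qm y) := Subgroup.mem_centralizer_singleton_iff.1 a.2
          have := hfive (a.1 * y * a.1⁻¹) y (by rw [conj_pow, hy5, mul_one, mul_inv_cancel]) hy5
            (by rw [map_mul, map_mul, map_inv, q1.eq, mul_inv_cancel_right])
          exact mem_cent.2 (congrArg Subtype.val (mul_inv_eq_iff_eq_mul.1 this))
        · intro a b r
          exact Subtype.ext (Subtype.ext (congrArg Subtype.val r :))
      have hpos : 0 < K.index := Nat.pos_of_ne_zero Subgroup.index_ne_zero_of_finite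
      nlinarith
    · calc 5 = Nat.card (Subgroup.zpowers (qm y)) := by rw [Nat.card_zpowers, hq]
        _ ≤ _ := Subgroup.card_le_of_le (Subgroup.zpowers_le.2
          (Subgroup.mem_centralizer_singleton_iff.2 rfl))
  have h5C : 5 ∣ Nat.card C := by rw [hC]; norm_num
  have hn5 : Nat.card (Sylow 5 C) = 36 := by
    have := card_sylow_cent h hs h5C
    rw [← hCdef, hC] at this
    omega
  have hn5Q : Nat.card (Sylow 5 (C ⧸ Z)) = 36 := by
    rw [← hn5]
    refine (Nat.card_eq_of_bijective (Sylow.mapSurjective hsurj) ⟨?_, Sylow.mapSurjective_surjective hsurj 5⟩).symm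
    intro P R q
    have h5 : ∀ P : Sylow 5 C, ∀ a ∈ (P : Subgroup C), a ^ 5 = 1 := by
      intro P a ha
      have hc : Nat.card (P : Subgroup C) = 5 := by
        rw [P.card_eq_multiplicity, hC, show (1440 : ℕ) = 5 ^ 1 * 288 by norm_num,
          Nat.factorization_mul (by norm_num) (by norm_num), Finsupp.add_apply,
          Nat.Prime.factorization_pow Nat.prime_five, Finsupp.single_eq_same,
          Nat.factorization_eq_zero_of_not_dvd (by norm_num : ¬ 5 ∣ 288)]
        norm_num
      exact orderOf_dvd_iff_pow_eq_one.1 (hc ▸ Subgroup.orderOf_dvd_natCard _ ha)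
    refine Sylow.ext ((R.is_maximal' P.2 fun b hb => ?_))
    have : qm b ∈ ((Sylow.mapSurjective hsurj P : Sylow 5 (C ⧸ Z)) : Subgroup (C ⧸ Z)) := by
      rw [q]; exact ⟨b, hb, rfl⟩
    obtain ⟨a, ha, hab⟩ := this
    exact hfive a b (h5 P a ha) (h5 R b hb) hab ▸ ha
  obtain ⟨D, hDn, hD, hDs, hDc⟩ := M12Nse51Quot57.exists_index_two hQ hcentQ hn5Q
  obtain ⟨e⟩ := Simple360.nonempty_equiv_alternating (G := D) hD
  have hinner : ∀ u : C, u * u = 1 → u ≠ 1 → u ≠ s' → qm u ∈ D → ¬ IsConj s u.1 := by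
    intro u hu2 hu1 hus huD hu
    set p : A6 := e ⟨qm u, huD⟩
    have hp2 : p * p = 1 := by
      rw [← map_mul, show (⟨qm u, huD⟩ * ⟨qm u, huD⟩ : D) = 1 from
        Subtype.ext (show qm u * qm u = 1 by rw [← map_mul, hu2, map_one]), map_one]
    have hp1 : p ≠ 1 := by
      intro r
      have : qm u = 1 := congrArg Subtype.val ((map_eq_one_iff e e.injective).1 r)
      rcases hker u this with r | r
      exacts [hu1 r, hus r]
    obtain ⟨yy, hyi, hy5, hy1⟩ := inner_inverts p.1 (congrArg Subtype.val hp2)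
      (fun r => hp1 (Subtype.ext r)) (Equiv.Perm.mem_alternatingGroup.1 p.2)
    have hye : sign yy = 1 := by
      have := congrArg sign hy5
      simp only [map_mul, map_one] at this
      rcases Int.units_eq_one_or (sign yy) with r | r
      · exact r
      · rw [r] at this; exact absurd this (by decide)
    set yb : D := e.symm ⟨yy, Equiv.Perm.mem_alternatingGroup.2 hye⟩ with hyb
    have ho : orderOf (yb : C ⧸ Z) = 5 := by
      rw [Subgroup.orderOf_coe, hyb, MulEquiv.orderOf_eq, Subgroup.orderOf_mk]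
      exact orderOf_eq_prime (by simpa [pow_succ] using hy5) hy1
    obtain ⟨y, hyq, hy⟩ := hlift _ ho
    refine hinvert u y hu hy ?_
    have hui : u⁻¹ = u := inv_eq_of_mul_eq_one_left hu2
    rw [hui, map_mul, map_mul, map_inv, hyq]
    have : (⟨qm u, huD⟩ : D) * yb * ⟨qm u, huD⟩ = yb⁻¹ := by
      apply e.injective
      rw [map_mul, map_mul, map_inv, hyb, MulEquiv.apply_symm_apply]
      exact Subtype.ext hyi
    exact congrArg Subtype.val this
  -- a Sylow 2-subgroup and an element normalising it outside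
  obtain ⟨MC, hMC⟩ := Sylow.exists_subgroup_card_pow_prime 2 (G := C) (n := 5) (by rw [hC]; norm_num)
  let M : Subgroup G := MC.map C.subtype
  have hM : Nat.card M = 2 ^ 5 := by
    rw [← hMC]
    exact (Nat.card_congr (Subgroup.equivMapOfInjective _ _ C.subtype_injective).toEquiv).symm
  have hs'M : s' ∈ MC := by
    obtain ⟨P, hP⟩ := (IsPGroup.of_card (G := MC) (p := 2) (n := 5) hMC).exists_le_sylow
    have hPc : Nat.card (P : Subgroup C) = 32 := by
      rw [P.card_eq_multiplicity, hC, show (1440 : ℕ) = 2 ^ 5 * 45 by norm_num,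
        Nat.factorization_mul (by norm_num) (by norm_num), Finsupp.add_apply,
        Nat.Prime.factorization_pow Nat.prime_two, Finsupp.single_eq_same,
        Nat.factorization_eq_zero_of_not_dvd (by norm_num : ¬ 2 ∣ 45)]
      norm_num
    rw [Subgroup.eq_of_le_of_card_ge hP (by rw [hPc, hMC]; norm_num)]
    have hZP : IsPGroup 2 Z := IsPGroup.of_card (n := 1) (by rw [hZ2]; norm_num)
    obtain ⟨R, hR⟩ := hZP.exists_le_sylow
    obtain ⟨g, hg⟩ := MulAction.exists_smul_eq C R P
    rw [← hg, Sylow.coe_subgroup_smul]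
    exact ⟨s', hR (Subgroup.mem_zpowers s'), show g * s' * g⁻¹ = s' by rw [hcen g, mul_inv_cancel_right]⟩
  obtain ⟨S, hS, hMS⟩ := Sylow.exists_subgroup_card_pow_succ (G := G) (p := 2) (n := 5)
    (by rw [h.card]; norm_num) hM
  have hMi : (M.subgroupOf S).index = 2 := by
    have := (M.subgroupOf S).card_mul_index
    rw [Nat.card_congr (Subgroup.subgroupOfEquivOfLe hMS).toEquiv, hM, hS] at this
    norm_num at this
    omega
  haveI := Subgroup.normal_of_index_eq_two hMi
  have hnorm : ∀ w ∈ S, ∀ m ∈ M, w * m * w⁻¹ ∈ M := fun w hw m hm =>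
    Subgroup.Normal.conj_mem (inferInstance : (M.subgroupOf S).Normal) ⟨m, hMS hm⟩ hm ⟨w, hw⟩
  obtain ⟨n, hnS, hnM⟩ : ∃ n ∈ S, n ∉ M := by
    by_contra hcon
    push Not at hcon
    have := Subgroup.card_le_of_le (fun x hx => hcon x hx : S ≤ M)
    rw [hS, hM] at this
    norm_num at this
  have hsplitS : ∀ w ∈ S, w ∈ M ∨ n⁻¹ * w ∈ M := by
    intro w hw
    by_cases hwM : w ∈ M
    · exact Or.inl hwM
    · right
      have := (Subgroup.mul_mem_iff_of_index_two hMi (a := (⟨n, hnS⟩ : S)⁻¹) (b := ⟨w, hw⟩)).2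
        (iff_of_false (fun r => hnM (inv_mem_iff.1 (r : n⁻¹ ∈ M))) (fun r => hwM r))
      exact this
  have hMC' : ∀ m ∈ M, Commute m s := by
    rintro _ ⟨a, _, rfl⟩
    exact mem_cent.1 a.2
  have hMmem : ∀ c : C, c.1 ∈ M → c ∈ MC := by
    rintro c ⟨a, ha, q⟩
    exact Subtype.ext q ▸ ha
  have hnC : ¬ Commute n s := by
    intro r
    have hSC : S ≤ C := fun w hw => by
      rcases hsplitS w hw with q | q
      · exact mem_cent.2 (hMC' w q)
      · rw [← mul_inv_cancel_left n w]
        exact mem_cent.2 (r.mul_left (hMC' _ q))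
    have := Subgroup.card_dvd_of_le hSC
    rw [hS, hC] at this
    norm_num at this
  have hsM : s ∈ M := ⟨s', hs'M, rfl⟩
  let t : C := ⟨n * s * n⁻¹, mem_cent.2 (hMC' _ (hnorm n hnS s hsM))⟩
  have htM : t ∈ MC := hMmem t (hnorm n hnS s hsM)
  have hts : t ≠ s' := fun q => hnC (mul_inv_eq_iff_eq_mul.1 (congrArg Subtype.val q))
  have ht2 : t * t = 1 := by
    apply Subtype.ext
    show n * s * n⁻¹ * (n * s * n⁻¹) = 1
    rw [show n * s * n⁻¹ * (n * s * n⁻¹) = n * (s * s) * n⁻¹ by group,
      show s * s = 1 from congrArg Subtype.val hss, mul_one, mul_inv_cancel]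
  have htconj : IsConj s t.1 := isConj_iff.2 ⟨n, rfl⟩
  have ht1 : t ≠ 1 := by
    intro q
    have : n * s * n⁻¹ = 1 := congrArg Subtype.val q
    exact hsne (Subtype.ext (show s = 1 from conj_eq_one_iff.1 this))
  have hnt : n * t.1 * n⁻¹ = s := by
    show n * (n * s * n⁻¹) * n⁻¹ = s
    have hn2 : n * n ∈ M := by
      rcases hsplitS (n * n) (S.mul_mem hnS hnS) with q | q
      · exact q
      · exact absurd (by simpa using q) hnM
    rw [show n * (n * s * n⁻¹) * n⁻¹ = n * n * s * (n * n)⁻¹ by group, (hMC' _ hn2).eq,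
      mul_inv_cancel_right]
  have htcen : ∀ m ∈ MC, t * m = m * t := by
    intro m hm
    apply Subtype.ext
    have hmM : m.1 ∈ M := ⟨m, hm, rfl⟩
    have h' : n⁻¹ * m.1 * n ∈ M := by simpa using hnorm n⁻¹ (S.inv_mem hnS) m.1 hmM
    have := (hMC' _ h').map (MulAut.conj n)
    simp only [MulAut.conj_apply] at this
    rw [show n * (n⁻¹ * m.1 * n) * n⁻¹ = m.1 by group] at this
    exact this.symm
  have htD : qm t ∉ D := fun q => hinner t ht2 ht1 hts q htconj
  let MQ : Subgroup (C ⧸ Z) := MC.map qm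
  have hMQ : Nat.card MQ = 16 := by
    have h1 := (MQ.comap qm).card_mul_index
    rw [Subgroup.index_comap_of_surjective _ hsurj, hC] at h1
    have h2 := MQ.card_mul_index
    rw [hQ] at h2
    have h3 : MQ.comap qm = MC := by
      refine le_antisymm (fun a ha => ?_) (Subgroup.le_comap_map _ _)
      obtain ⟨b, hb, q⟩ := ha
      rcases hkey a b q.symm with r | r
      · exact r ▸ hb
      · exact r ▸ MC.mul_mem hb hs'M
    rw [h3, hMC] at h1
    norm_num at h1
    have hi : MQ.index = 45 := by omega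
    rw [hi] at h2
    omega
  haveI := hDs
  obtain ⟨Θ, σ, hσ, hΘt, hsign, h8, h8'⟩ := exists_model hQ D hD hDc MQ hMQ (qm t) ⟨t, htM, rfl⟩ htD
    (by rintro _ ⟨m, hm, rfl⟩; rw [← map_mul, htcen m hm, map_mul])
  let θ : C →* P6 := Θ.toMonoidHom.comp qm
  have hθ : ∀ a b, θ a = θ b → qm a = qm b := fun a b q => Θ.injective q
  -- the square of the element of order four
  obtain ⟨g, hgM, hg⟩ := h8' g0p (by decide +kernel)
  have hθg : θ g = g0p := by show Θ (qm g) = g0p; rw [hg, MulEquiv.apply_symm_apply]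
  have hσ2 : σ * σ = 1 := by rcases hσ with rfl | rfl <;> decide +kernel
  have hsqM : ∀ m ∈ MC, θ (m * m) = 1 ∨ θ (m * m) = c0p ∧
      (θ m = g0p ∨ θ m = g0p * g0p * g0p ∨ θ m = σ * g0p ∨ θ m = σ * (g0p * g0p * g0p)) := by
    intro m hm
    by_cases hmD : qm m ∈ D
    · have := sq_eight (θ m) (h8 _ ⟨m, hm, rfl⟩ hmD)
      rw [map_mul]
      rcases this with q | ⟨q, r | r⟩
      · exact Or.inl q
      · exact Or.inr ⟨q, Or.inl r⟩
      · exact Or.inr ⟨q, Or.inr (Or.inl r)⟩
    · have htm : qm (t * m) ∈ D := by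
        rw [map_mul, Subgroup.mul_mem_iff_of_index_two
          (by have := D.card_mul_index; rw [hD, hQ] at this; omega)]
        exact iff_of_false htD hmD
      have h' := sq_eight (θ (t * m)) (h8 _ ⟨t * m, MC.mul_mem htM hm, rfl⟩ htm)
      have e1 : θ (t * m) = σ * θ m := by rw [map_mul]; congr 1
      have e2 : θ (t * m) * θ (t * m) = θ (m * m) := by
        rw [← map_mul, show t * m * (t * m) = m * m by
          rw [mul_assoc, ← mul_assoc m, ← htcen m hm, ← mul_assoc, ← mul_assoc, ht2, one_mul]]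
      have e3 : ∀ x, θ (t * m) = x → θ m = σ * x := fun x q => by
        rw [← q, e1, ← mul_assoc, hσ2, one_mul]
      rw [e2] at h'
      rcases h' with q | ⟨q, r | r⟩
      · exact Or.inl q
      · exact Or.inr ⟨q, Or.inr (Or.inr (Or.inl (e3 _ r)))⟩
      · exact Or.inr ⟨q, Or.inr (Or.inr (Or.inr (e3 _ r)))⟩
  have hconjM : ∀ m ∈ MC, ∀ w ∈ S, ∃ k ∈ MC, k.1 = w * m.1 * w⁻¹ := by
    intro m hm w hw
    obtain ⟨k, hk, q⟩ := hnorm w hw m.1 ⟨m, hm, rfl⟩
    exact ⟨k, hk, q⟩
  have hg4 : g * g * (g * g) = 1 := by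
    have hc : qm (g * g * (g * g)) = 1 := Θ.injective (by
      show θ (g * g * (g * g)) = Θ 1
      rw [map_one, map_mul, map_mul, hθg]
      decide +kernel)
    rcases hker _ hc with r | r
    · exact r
    · exfalso
      obtain ⟨k, hk, q⟩ := hconjM g hgM n hnS
      have : (k * k * (k * k)).1 = t.1 := by
        show k.1 * k.1 * (k.1 * k.1) = n * s * n⁻¹
        rw [q, ← show (g * g * (g * g) : C).1 = s from congrArg Subtype.val r]
        show _ = n * (g.1 * g.1 * (g.1 * g.1)) * n⁻¹
        group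
      have hq : qm (k * k * (k * k)) = 1 := Θ.injective (by
        show θ (k * k * (k * k)) = Θ 1
        rw [map_one, map_mul]
        rcases hsqM k hk with w | ⟨w, -⟩ <;> rw [w] <;> decide +kernel)
      rw [show k * k * (k * k) = t from Subtype.ext this] at hq
      exact htD (hq ▸ D.one_mem)
  set c0 := g * g with hc0
  have hθc0 : θ c0 = c0p := by rw [map_mul, hθg]; decide +kernel
  have hsquare : ∀ m ∈ MC, θ (m * m) ≠ 1 → m * m = c0 := by
    intro m hm hne
    rcases hsqM m hm with q | ⟨-, q⟩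
    · exact absurd q hne
    have main : ∀ x ∈ MC, θ m = θ x → x * x = c0 → m * m = c0 := by
      intro x _ q r
      rcases hkey m x (hθ _ _ q) with w | w <;> rw [w]
      · exact r
      · rw [mul_assoc, ← mul_assoc s', ← hcen x, mul_assoc x s' s', hss, mul_one, r]
    have h3 : g * g * g * (g * g * g) = c0 := by
      calc g * g * g * (g * g * g) = g * g * (g * g) * (g * g) := by group
        _ = c0 := by rw [hg4, one_mul]
    have ht' : ∀ x ∈ MC, (t * x) * (t * x) = x * x := fun x hx => by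
      rw [mul_assoc, ← mul_assoc x, ← htcen x hx, ← mul_assoc, ← mul_assoc, ht2, one_mul]
    have hg3 : g * g * g ∈ MC := MC.mul_mem (MC.mul_mem hgM hgM) hgM
    have hθt : θ t = σ := hΘt
    rcases q with q | q | q | q
    · exact main g hgM (q.trans hθg.symm) rfl
    · exact main _ hg3 (by rw [q, map_mul, map_mul, hθg]) h3
    · exact main (t * g) (MC.mul_mem htM hgM) (by rw [q, map_mul, hθg, hθt]) (ht' g hgM)
    · exact main (t * (g * g * g)) (MC.mul_mem htM hg3)
        (by rw [q, map_mul, map_mul, map_mul, hθg, hθt]) ((ht' _ hg3).trans h3)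
  have hc0cen : ∀ w ∈ S, Commute w c0.1 := by
    intro w hw
    obtain ⟨k, hk, q⟩ := hconjM g hgM w hw
    have hkk : (k * k).1 = w * c0.1 * w⁻¹ := by
      show k.1 * k.1 = w * (g.1 * g.1) * w⁻¹
      rw [q]; group
    have hne : θ (k * k) ≠ 1 := by
      intro r
      rcases hker _ (Θ.injective (r.trans (map_one Θ).symm)) with u | u
      · rw [u] at hkk
        have : c0.1 = 1 := conj_eq_one_iff.1 hkk.symm
        rw [show c0 = 1 from Subtype.ext this, map_one] at hθc0
        exact absurd hθc0 (by decide +kernel)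
      · rw [u] at hkk
        have hcs : c0.1 = w⁻¹ * s * w := by rw [show s = w * c0.1 * w⁻¹ from hkk]; group
        rcases hsplitS w hw with v | v
        · rw [mul_assoc, ← (hMC' w v).eq, inv_mul_cancel_left] at hcs
          rw [show c0 = s' from Subtype.ext hcs, show θ s' = 1 by
            show Θ (qm s') = 1; rw [hqs, map_one]] at hθc0
          exact absurd hθc0 (by decide +kernel)
        · have : c0.1 = t.1 := by
            rw [hcs]
            have e1 : w = n * (n⁻¹ * w) := (mul_inv_cancel_left n w).symm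
            have e2 : n⁻¹ * s * n = t.1 := by
              conv_lhs => rw [← hnt]
              group
            rw [e1, show (n * (n⁻¹ * w))⁻¹ * s * (n * (n⁻¹ * w)) =
              (n⁻¹ * w)⁻¹ * ((n⁻¹ * s * n) * (n⁻¹ * w)) by group, e2]
            have := htcen ⟨n⁻¹ * w, mem_cent.2 (hMC' _ v)⟩ (hMmem _ v)
            rw [show t.1 * (n⁻¹ * w) = n⁻¹ * w * t.1 from congrArg Subtype.val this,
              inv_mul_cancel_left]
          apply htD
          rw [← show c0 = t from Subtype.ext this, hsign]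
          show sign (θ c0) = 1
          rw [hθc0]
          decide +kernel
    have := congrArg Subtype.val (hsquare k hk hne)
    rw [hkk] at this
    exact mul_inv_eq_iff_eq_mul.1 this
  have hcentral : ∀ w : G, Commute n w → (∀ m ∈ M, Commute m w) → ¬ IsConj s w := by
    intro w hn hm hw
    have hSC : S ≤ Subgroup.centralizer ({w} : Set G) := fun z hz => by
      rcases hsplitS z hz with q | q
      · exact mem_cent.2 (hm z q)
      · rw [← mul_inv_cancel_left n z]
        exact mem_cent.2 (hn.mul_left (hm _ q))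
    have := Subgroup.card_dvd_of_le hSC
    rw [hS, conj_cent hw, ← hCdef, hC] at this
    norm_num at this
  have htMc : ∀ m ∈ M, Commute m t.1 := fun m hm =>
    (congrArg Subtype.val (htcen ⟨m, mem_cent.2 (hMC' m hm)⟩ (hMmem _ hm))).symm
  have hts' : Commute t.1 s := mem_cent.1 t.2
  have hnts : Commute n (t.1 * s) := by
    show n * (t.1 * s) = t.1 * s * n
    calc n * (t.1 * s) = (n * t.1 * n⁻¹) * (n * s * n⁻¹) * n := by group
      _ = s * t.1 * n := by rw [hnt]
      _ = t.1 * s * n := by rw [hts'.eq]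
  have hbad1 : ¬ IsConj s (t.1 * s) :=
    hcentral _ hnts fun m hm => (htMc m hm).mul_right (hMC' m hm)
  have hbad2 : ¬ IsConj s (t.1 * s * c0.1) :=
    hcentral _ (hnts.mul_right (hc0cen n hnS)) fun m hm =>
      ((htMc m hm).mul_right (hMC' m hm)).mul_right (hc0cen m (hMS hm))
  have hbad3 : ¬ IsConj s (t.1 * c0.1) := by
    intro q
    have e : n * (s * c0.1) * n⁻¹ = t.1 * c0.1 := by
      calc n * (s * c0.1) * n⁻¹ = t.1 * (n * c0.1 * n⁻¹) := by
            show _ = n * s * n⁻¹ * (n * c0.1 * n⁻¹); group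
        _ = t.1 * c0.1 := by rw [(hc0cen n hnS).eq, mul_inv_cancel_right]
    have hθsc : θ (s' * c0) = c0p := by
      rw [map_mul, hθc0, show θ s' = 1 by show Θ (qm s') = 1; rw [hqs, map_one], one_mul]
    refine hinner (s' * c0) ?_ ?_ ?_ ?_ (q.trans (isConj_iff.2 ⟨n, e⟩).symm)
    · rw [Commute.mul_mul_mul_comm (hcen c0), hss, one_mul, hg4]
    · intro r; rw [r, map_one] at hθsc; exact absurd hθsc (by decide +kernel)
    · intro r
      rw [r, show θ s' = 1 by show Θ (qm s') = 1; rw [hqs, map_one]] at hθsc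
      exact absurd hθsc (by decide +kernel)
    · rw [hsign]
      show sign (θ (s' * c0)) = 1
      rw [hθsc]; decide +kernel
  have hfour : ∀ w : C, (θ w = σ ∨ θ w = σ * c0p) → IsConj s w.1 → w = t := by
    intro w hw hwc
    have hθt : θ t = σ := hΘt
    rcases hw with q | q
    · rcases hkey w t (hθ _ _ (q.trans hθt.symm)) with r | r
      · exact r
      · exact absurd (r ▸ hwc : IsConj s (t * s').1) hbad1
    · rcases hkey w (t * c0) (hθ _ _ (by rw [q, map_mul, hθt, hθc0])) with r | r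
      · exact absurd (r ▸ hwc : IsConj s (t * c0).1) hbad3
      · rw [r, mul_assoc, hcen c0, ← mul_assoc] at hwc
        exact absurd hwc hbad2
  -- the other commuting members of the class
  let T := {u : G // IsConj s u ∧ u ≠ s ∧ Commute u s}
  have hTclass : ∀ u : T, ∃ c : C,
      c.1 * u.1 * c.1⁻¹ = t.1 ∧ sign (θ c) = 1 := by
    intro u
    set v : C := ⟨u.1, mem_cent.2 u.2.2.2⟩
    have hv2 : v * v = 1 := by
      obtain ⟨c, hc⟩ := isConj_iff.1 u.2.1
      have : orderOf v = 2 := by
        rw [Subgroup.orderOf_mk, ← hc, ← MulAut.conj_apply, MulEquiv.orderOf_eq, hs]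
      rw [← pow_two, ← this, pow_orderOf_eq_one]
    have hv1 : v ≠ 1 := by
      intro q
      obtain ⟨c, hc⟩ := isConj_iff.1 u.2.1
      rw [show u.1 = 1 from congrArg Subtype.val q] at hc
      exact hsne (Subtype.ext (conj_eq_one_iff.1 hc))
    have hvD : qm v ∉ D := fun q =>
      hinner v hv2 hv1 (fun r => u.2.2.1 (congrArg Subtype.val r)) q u.2.1
    have hodd : sign (θ v) = -1 := by
      rcases Int.units_eq_one_or (sign (θ v)) with q | q
      · exact absurd ((hsign _).2 q) hvD
      · exact q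
    have hθ2 : θ v * θ v = 1 := by rw [← map_mul, hv2, map_one]
    obtain ⟨k, p, hp, hk, hks⟩ : ∃ k p, (p = σ ∨ p = σ * c0p) ∧ k * θ v = p * k ∧ sign k = 1 := by
      rcases odd_involution _ hθ2 hodd with q | q
      · obtain ⟨k, hk, hks⟩ := conj_p1 _ hθ2 q
        refine ⟨k, p1, ?_, hk, hks⟩
        rcases hσ with rfl | rfl
        · exact Or.inl rfl
        · exact Or.inr (by decide +kernel)
      · obtain ⟨k, hk, hks⟩ := conj_p2 _ hθ2 q
        refine ⟨k, p2, ?_, hk, hks⟩
        rcases hσ with rfl | rfl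
        · exact Or.inr (by decide +kernel)
        · exact Or.inl rfl
    obtain ⟨c, hc⟩ := hsurj (Θ.symm k)
    have hθc : θ c = k := by show Θ (qm c) = k; rw [hc, MulEquiv.apply_symm_apply]
    refine ⟨c, congrArg Subtype.val (hfour (c * v * c⁻¹) ?_ ?_), hθc ▸ hks⟩
    · rw [map_mul, map_mul, map_inv, hθc, hk, mul_inv_cancel_right]
      exact hp
    · exact u.2.1.trans (isConj_iff.2 ⟨c.1, rfl⟩)
  have hθt : θ t = σ := hΘt
  have hTcard : Nat.card T = 15 := by
    have hK : Nat.card {p : P6 // p * p = 1 ∧ p.support.card = σ.support.card} = 15 := by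
      rcases hσ with rfl | rfl
      · rw [show p1.support.card = 2 by decide +kernel]; exact card_class_p1
      · rw [show p2.support.card = 6 by decide +kernel]; exact card_class_p2
    rw [← hK]
    have hmem : ∀ u : T, θ ⟨u.1, mem_cent.2 u.2.2.2⟩ * θ ⟨u.1, mem_cent.2 u.2.2.2⟩ = 1 ∧
        (θ ⟨u.1, mem_cent.2 u.2.2.2⟩).support.card = σ.support.card := by
      intro u
      obtain ⟨c, hc, -⟩ := hTclass u
      have e : θ ⟨u.1, mem_cent.2 u.2.2.2⟩ = (θ c)⁻¹ * σ * θ c := by
        rw [← hθt, ← map_inv, ← map_mul, ← map_mul]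
        congr 1
        apply Subtype.ext
        show u.1 = c.1⁻¹ * t.1 * c.1
        rw [← hc]; group
      rw [e]
      refine ⟨?_, ?_⟩
      · rw [show (θ c)⁻¹ * σ * θ c * ((θ c)⁻¹ * σ * θ c) = (θ c)⁻¹ * (σ * σ) * θ c by group, hσ2,
          mul_one, inv_mul_cancel]
      · conv_lhs => rw [show (θ c)⁻¹ * σ * θ c = (θ c)⁻¹ * σ * ((θ c)⁻¹)⁻¹ by rw [inv_inv]]
        exact Equiv.Perm.card_support_conj
    refine Nat.card_eq_of_bijective (fun u : T => (⟨θ ⟨u.1, mem_cent.2 u.2.2.2⟩, hmem u⟩ :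
      {p : P6 // p * p = 1 ∧ p.support.card = σ.support.card})) ⟨?_, ?_⟩
    · intro u v q
      rcases hkey _ _ (hθ _ _ (congrArg Subtype.val q)) with r | r
      · exact Subtype.ext (congrArg Subtype.val r :)
      · exfalso
        obtain ⟨c, hc, -⟩ := hTclass v
        refine hbad1 (u.2.1.trans (isConj_iff.2 ⟨c.1, ?_⟩))
        rw [show u.1 = v.1 * s from congrArg Subtype.val r, ← hc,
          show c.1 * (v.1 * s) * c.1⁻¹ = c.1 * v.1 * (s * c.1⁻¹) by group,
          ← ((mem_cent.1 c.2).inv_left).eq]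
        group
    · rintro ⟨p, hp2, hps⟩
      obtain ⟨k, hk, hks⟩ : ∃ k : P6, k * p = σ * k ∧ sign k = 1 := by
        rcases hσ with rfl | rfl
        · exact conj_p1 p hp2 (hps.trans (by decide +kernel))
        · exact conj_p2 p hp2 (hps.trans (by decide +kernel))
      obtain ⟨c, hc⟩ := hsurj (Θ.symm k)
      have hθc : θ c = k := by show Θ (qm c) = k; rw [hc, MulEquiv.apply_symm_apply]
      refine ⟨⟨(c⁻¹ * t * c).1, htconj.trans (isConj_iff.2 ⟨c.1⁻¹, by simp⟩), ?_,
        mem_cent.1 (c⁻¹ * t * c).2⟩, Subtype.ext ?_⟩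
      · intro q
        apply hts
        have : c⁻¹ * t * c = s' := Subtype.ext q
        calc t = c * (c⁻¹ * t * c) * c⁻¹ := by group
          _ = s' := by rw [this, hcen c, mul_inv_cancel_right]
      · show θ (c⁻¹ * t * c) = p
        rw [map_mul, map_mul, map_inv, hθc, hθt, mul_assoc, ← hk, inv_mul_cancel_left]
  exact parity_false h hs hX hTcard

end Cfsg.Agent.M12Nse51Big57
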