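import Cfsg.Agent.Lib.M12Nse51Involution

/-!
A centraliser of order 240 maps onto the symmetric group of degree five.
-/

set_option autoImplicit false
set_option maxRecDepth 100000

namespace Cfsg.Agent.M12Nse51

open Equiv (Perm)

theorem central_six : ∀ k : Perm (Fin 6),
    k * Equiv.swap 0 1 = Equiv.swap 0 1 * k →
    k * finRotate 6 = finRotate 6 * k → k = 1 := by decide +kernel

/-- A normal subgroup of small order of the symmetric group of degree six is trivial. -/
theorem normal_six (K : Subgroup (Perm (Fin 6))) [hK : K.Normal] (hc : Nat.card K ≤ 120) :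
    K = ⊥ := by
  classical
  have hA6 : Nat.card (alternatingGroup (Fin 6)) = 360 := by
    have := two_mul_card_alternatingGroup (α := Fin 6)
    rw [Fintype.card_perm, Fintype.card_fin] at this
    rw [Nat.card_eq_fintype_card]
    rw [show Nat.factorial 6 = 720 from rfl] at this
    omega
  haveI : IsSimpleGroup (alternatingGroup (Fin 6)) :=
    alternatingGroup.isSimpleGroup (by rw [Nat.card_eq_fintype_card, Fintype.card_fin]; norm_num)
  have hA : K ⊓ alternatingGroup (Fin 6) = ⊥ := by
    have hn : (K.subgroupOf (alternatingGroup (Fin 6))).Normal := inferInstance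
    rcases hn.eq_bot_or_eq_top with e | e
    · rw [Subgroup.subgroupOf_eq_bot, disjoint_iff] at e
      exact e
    · rw [Subgroup.subgroupOf_eq_top] at e
      have := Subgroup.card_le_of_le e
      rw [hA6] at this
      omega
  rw [Subgroup.eq_bot_iff_forall]
  intro k hk
  have key : ∀ g : Perm (Fin 6), k * g = g * k := by
    intro g
    have h1 : g * k * g⁻¹ * k⁻¹ ∈ K := mul_mem (hK.conj_mem k hk g) (inv_mem hk)
    have h2 : g * k * g⁻¹ * k⁻¹ ∈ alternatingGroup (Fin 6) := by
      rw [Perm.mem_alternatingGroup]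
      simp [mul_comm, mul_left_comm]
    have h3 : g * k * g⁻¹ * k⁻¹ = 1 := Subgroup.mem_bot.1 (hA ▸ Subgroup.mem_inf.2 ⟨h1, h2⟩)
    rw [mul_inv_eq_one, mul_inv_eq_iff_eq_mul] at h3
    exact h3.symm
  exact central_six k (key _) (key _)

/-- A subgroup of index six of the symmetric group of degree six is a symmetric group of degree
five. -/
theorem exists_hom_five (H : Subgroup (Perm (Fin 6))) (hH : Nat.card H = 120) :
    ∃ f : H →* Perm (Fin 5), Function.Bijective f := by
  classical
  have h720 : Nat.card (Perm (Fin 6)) = 720 := by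
    rw [Nat.card_eq_fintype_card, Fintype.card_perm, Fintype.card_fin]; rfl
  let Ω := Perm (Fin 6) ⧸ H
  let ψ : Perm (Fin 6) →* Perm Ω := MulAction.toPermHom _ Ω
  have hker : ψ.ker = ⊥ := by
    refine normal_six _ (le_trans (Subgroup.card_le_of_le ?_) hH.le)
    intro g hg
    have := congrArg (fun σ : Perm Ω => σ ((1 : Perm (Fin 6)) : Ω)) (MonoidHom.mem_ker.1 hg)
    have e : ((g * 1 : Perm (Fin 6)) : Ω) = ((1 : Perm (Fin 6)) : Ω) := this
    rw [mul_one, QuotientGroup.eq, mul_one, inv_mem_iff] at e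
    exact e
  haveI : Fintype Ω := Fintype.ofFinite _
  have hΩ : Fintype.card Ω = 6 := by
    rw [← Nat.card_eq_fintype_card]
    have := Subgroup.card_eq_card_quotient_mul_card_subgroup H
    rw [h720, hH] at this
    show Nat.card (Perm (Fin 6) ⧸ H) = 6
    omega
  let p : Ω := ((1 : Perm (Fin 6)) : Ω)
  have hfix : ∀ g : H, ∀ x : Ω, x ≠ p → ψ g.1 x ≠ p := by
    intro g x hx e
    refine hx ((ψ g.1).injective (e.trans ?_))
    show p = ((g.1 * 1 : Perm (Fin 6)) : Ω)
    rw [mul_one]
    symm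
    rw [QuotientGroup.eq, mul_one]
    exact inv_mem g.2
  let q : {x : Ω // x ≠ p} ≃ Fin 5 := Fintype.equivFinOfCardEq (by
    rw [Fintype.card_subtype_compl, hΩ, Fintype.card_subtype_eq])
  have hiff : ∀ g : H, ∀ x : Ω, x ≠ p ↔ ψ g.1 x ≠ p := fun g x => ⟨hfix g x, fun h e => h (by
    show ψ g.1 x = p
    rw [e]
    show ((g.1 * 1 : Perm (Fin 6)) : Ω) = ((1 : Perm (Fin 6)) : Ω)
    rw [mul_one, QuotientGroup.eq, mul_one]
    exact inv_mem g.2)⟩
  let f : H →* Perm (Fin 5) := q.permCongrHom.toMonoidHom.comp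
    { toFun := fun g => (ψ g.1).subtypePerm fun x => (hiff g x).symm
      map_one' := by ext x; simp
      map_mul' := fun a b => by ext x; simp [Perm.mul_apply]; rfl }
  refine ⟨f, ?_⟩
  haveI : Fintype H := Fintype.ofFinite H
  refine (Fintype.bijective_iff_injective_and_card f).2 ⟨?_, ?_⟩
  · rw [injective_iff_map_eq_one]
    intro g hg
    have h1 : (ψ g.1).subtypePerm (fun x => (hiff g x).symm) = 1 :=
      q.permCongrHom.injective (hg.trans (map_one _).symm)
    have h2 : ψ g.1 = 1 := by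
      ext x
      by_cases hx : x = p
      · subst hx
        show ((g.1 * 1 : Perm (Fin 6)) : Ω) = ((1 : Perm (Fin 6)) : Ω)
        rw [mul_one, QuotientGroup.eq, mul_one]
        exact inv_mem g.2
      · exact congrArg Subtype.val (congrArg (fun σ : Perm {x : Ω // x ≠ p} => σ ⟨x, hx⟩) h1)
    exact Subtype.ext ((MonoidHom.ker_eq_bot_iff ψ).1 hker (h2.trans (map_one ψ).symm))
  · rw [← Nat.card_eq_fintype_card, hH, Fintype.card_perm, Fintype.card_fin]; rfl

variable {G : Type*} [Group G] [Finite G]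

/-- The homomorphism of the centraliser onto the symmetric group of degree five. -/
theorem exists_hom (h : Data G) {s : G} (hs : orderOf s = 2)
    (hC : Nat.card (Subgroup.centralizer ({s} : Set G)) = 240) :
    ∃ π : Subgroup.centralizer ({s} : Set G) →* Perm (Fin 5), Function.Surjective π ∧
      ∀ c, π c = 1 ↔ (c : G) = 1 ∨ (c : G) = s := by
  classical
  haveI : Fact (Nat.Prime 5) := ⟨Nat.prime_five⟩
  set C := Subgroup.centralizer ({s} : Set G) with hCdef
  have h5 : 5 ∣ Nat.card C := by rw [hC]; norm_num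
  have hn : Nat.card (Sylow 5 C) = 6 := by
    have := card_sylow_cent h hs h5
    rw [← hCdef, hC] at this
    omega
  haveI : Fintype (Sylow 5 C) := Fintype.ofFinite _
  let e : Sylow 5 C ≃ Fin 6 :=
    Fintype.equivFinOfCardEq (by rw [← Nat.card_eq_fintype_card, hn])
  let φ : C →* Perm (Fin 6) := e.permCongrHom.toMonoidHom.comp (MulAction.toPermHom C (Sylow 5 C))
  have hker : ∀ c : C, c ∈ φ.ker ↔ ∀ P : Sylow 5 C, c • P = P := by
    intro c
    rw [MonoidHom.mem_ker]
    show e.permCongrHom (MulAction.toPermHom C (Sylow 5 C) c) = 1 ↔ _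
    rw [MulEquiv.map_eq_one_iff]
    exact ⟨fun q P => congrArg (fun σ : Perm (Sylow 5 C) => σ P) q, fun q => Equiv.ext q⟩
  have hP5 : ∀ P : Sylow 5 C, Nat.card ↥(P : Subgroup C) = 5 := fun P => by
    rw [P.card_eq_multiplicity, hC, show (240 : ℕ) = 5 ^ 1 * 48 by norm_num,
      Nat.factorization_mul (by norm_num) (by norm_num), Finsupp.add_apply,
      Nat.Prime.factorization_pow Nat.prime_five, Finsupp.single_eq_same,
      Nat.factorization_eq_zero_of_not_dvd (by norm_num : ¬ 5 ∣ 48)]
    norm_num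
  set K := φ.ker with hKdef
  have hK5 : ∀ c ∈ K, orderOf c ≠ 5 := by
    intro c hc hoc
    have hall : ∀ P : Sylow 5 C, c ∈ (P : Subgroup C) := by
      intro P
      have hn' : c ∈ Subgroup.normalizer (P : Set C) :=
        Sylow.smul_eq_iff_mem_normalizer.1 ((hker c).1 hc P)
      have hp : IsPGroup 5 (Subgroup.zpowers c) :=
        IsPGroup.of_card (n := 1) (by rw [Nat.card_zpowers, hoc, pow_one])
      have hle : Subgroup.zpowers c ≤ Subgroup.normalizer (P : Set C) := Subgroup.zpowers_le.2 hn'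
      have hj := hp.to_sup_of_normal_right' P.2 hle
      have he := P.3 hj le_sup_right
      rw [← he]
      exact (le_sup_left : Subgroup.zpowers c ≤ _) (Subgroup.mem_zpowers c)
    have h1 : ∀ P : Sylow 5 C, (P : Subgroup C) = Subgroup.zpowers c := fun P =>
      (Subgroup.eq_of_le_of_card_ge (Subgroup.zpowers_le.2 (hall P))
        (by rw [hP5, Nat.card_zpowers, hoc])).symm
    haveI : Subsingleton (Sylow 5 C) := ⟨fun P Q => Sylow.ext ((h1 P).trans (h1 Q).symm)⟩
    have := Finite.card_le_one_iff_subsingleton.2 (inferInstance : Subsingleton (Sylow 5 C))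
    omega
  obtain ⟨⟨y, hyC⟩, hy⟩ := exists_prime_orderOf_dvd_card' (G := C) 5 h5
  have hyG : orderOf y = 5 := by rwa [Subgroup.orderOf_mk] at hy
  obtain ⟨P, hPle⟩ := (IsPGroup.of_card (G := ↥(Subgroup.zpowers (⟨y, hyC⟩ : C))) (p := 5) (n := 1)
    (by rw [Nat.card_zpowers, hy, pow_one])).exists_le_sylow
  have hKy : ∀ k ∈ K, Commute (k : G) y := by
    intro k hk
    have hn' : k ∈ Subgroup.normalizer (P : Set C) :=
      Sylow.smul_eq_iff_mem_normalizer.1 ((hker k).1 hk P)
    have hyP : (⟨y, hyC⟩ : C) ∈ (P : Subgroup C) := hPle (Subgroup.mem_zpowers _)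
    set c := k * ⟨y, hyC⟩ * k⁻¹ * (⟨y, hyC⟩ : C)⁻¹ with hc
    have hcP : c ∈ (P : Subgroup C) :=
      mul_mem ((Subgroup.mem_normalizer_iff.1 hn' _).1 hyP) (inv_mem hyP)
    have hcK : c ∈ K := by
      have : c = k * ((⟨y, hyC⟩ : C) * k⁻¹ * (⟨y, hyC⟩ : C)⁻¹) := by rw [hc]; group
      rw [this]
      exact mul_mem hk ((MonoidHom.normal_ker φ).conj_mem _ (inv_mem hk) _)
    have hd := Subgroup.orderOf_dvd_natCard _ hcP
    rw [hP5] at hd
    rcases (Nat.dvd_prime Nat.prime_five).1 hd with q | q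
    · have := orderOf_eq_one_iff.1 q
      rw [hc, mul_inv_eq_one, mul_inv_eq_iff_eq_mul] at this
      exact congrArg Subtype.val this
    · exact absurd q (hK5 c hcK)
  have hs2 : s ∈ C := mem_cent.2 (Commute.refl s)
  have hsK : (⟨s, hs2⟩ : C) ∈ K := by
    rw [hker]
    intro Q
    rw [Sylow.smul_eq_iff_mem_normalizer]
    show (⟨s, hs2⟩ : C) ∈ Subgroup.normalizer ((Q : Subgroup C) : Set C)
    rw [Subgroup.mem_normalizer_iff]
    intro u
    have : (⟨s, hs2⟩ : C) * u * (⟨s, hs2⟩ : C)⁻¹ = u :=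
      mul_inv_eq_iff_eq_mul.2 (Subtype.ext (mem_cent.1 u.2).symm.eq)
    rw [this]
  have hKcases : ∀ c ∈ K, (c : G) = 1 ∨ (c : G) = s := by
    intro c hc
    have hd := Subgroup.orderOf_dvd_natCard (Subgroup.centralizer ({y} : Set G))
      (mem_cent.2 (hKy c hc))
    rw [h.centFive y hyG, Subgroup.orderOf_coe] at hd
    have h5' : ¬ 5 ∣ orderOf c := fun q => hK5 (c ^ (orderOf c / 5)) (pow_mem hc _)
      (orderOf_pow_orderOf_div (orderOf_pos c).ne' q)
    have h2 : orderOf c ∣ 2 := (Nat.Coprime.dvd_of_dvd_mul_right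
      ((Nat.prime_five.coprime_iff_not_dvd.2 h5').symm) ((show (10 : ℕ) = 2 * 5 from rfl) ▸ hd))
    rcases (Nat.dvd_prime Nat.prime_two).1 h2 with q | q
    · left; rw [orderOf_eq_one_iff.1 q]; rfl
    · right
      exact unique_mate h hyG (by rw [Subgroup.orderOf_coe, q]) (hKy c hc) hs (hKy _ hsK)
  have hKcard : Nat.card K = 2 := by
    have hle : Subgroup.zpowers (⟨s, hs2⟩ : C) = K := by
      refine le_antisymm (Subgroup.zpowers_le.2 hsK) fun c hc => ?_
      rcases hKcases c hc with q | q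
      · rw [show c = 1 from Subtype.ext q]; exact one_mem _
      · rw [show c = ⟨s, hs2⟩ from Subtype.ext q]; exact Subgroup.mem_zpowers _
    rw [← hle, Nat.card_zpowers, Subgroup.orderOf_mk, hs]
  have hrange : Nat.card φ.range = 120 := by
    rw [← Nat.card_congr (QuotientGroup.quotientKerEquivRange φ).toEquiv]
    have := Subgroup.card_eq_card_quotient_mul_card_subgroup φ.ker
    rw [show Nat.card φ.ker = 2 from hKcard, hC] at this
    omega
  obtain ⟨f, hf⟩ := exists_hom_five φ.range hrange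
  refine ⟨f.comp φ.rangeRestrict, hf.2.comp φ.rangeRestrict_surjective, fun c => ?_⟩
  rw [MonoidHom.comp_apply, ← map_one f, hf.1.eq_iff, Subtype.ext_iff, MonoidHom.coe_rangeRestrict,
    Subgroup.coe_one, ← MonoidHom.mem_ker]
  refine ⟨hKcases c, ?_⟩
  rintro (q | q)
  · rw [show c = 1 from Subtype.ext q]; exact one_mem _
  · rw [show c = ⟨s, hs2⟩ from Subtype.ext q]; exact hsK

end Cfsg.Agent.M12Nse51
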