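import Mathlib
import Cfsg.Agent.Lib.SignalizerCoprime

/-!
A group of order nine acting on a small 2-group all whose fixed point groups are elementary abelian.
-/

set_option autoImplicit false
set_option maxRecDepth 100000

namespace Cfsg.Agent.M12Nse51

variable {G : Type*} [Group G] [Finite G]

/-- A subgroup of exponent two is commutative. -/
theorem comm_of_sq {A : Subgroup G} (hA : ∀ a ∈ A, a * a = 1) {a b : G} (ha : a ∈ A) (hb : b ∈ A) :
    a * b = b * a := by
  have h1 : a⁻¹ = a := inv_eq_of_mul_eq_one_right (hA a ha)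
  have h2 : b⁻¹ = b := inv_eq_of_mul_eq_one_right (hA b hb)
  have h3 : (a * b)⁻¹ = a * b := inv_eq_of_mul_eq_one_right (hA _ (mul_mem ha hb))
  rw [mul_inv_rev, h1, h2] at h3
  exact h3.symm

theorem card_sup_pair {A B T : Subgroup G} (hA : A ≤ T) (hB : B ≤ T) :
    Nat.card A * Nat.card B ≤ Nat.card T * Nat.card ↥(A ⊓ B) ∧
      (Nat.card T * Nat.card ↥(A ⊓ B) ≤ Nat.card A * Nat.card B →
        ∀ t ∈ T, ∃ x ∈ A, ∃ y ∈ B, x * y = t) := by
  classical
  haveI := Fintype.ofFinite G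
  let f : A × B → T := fun p => ⟨p.1.1 * p.2.1, mul_mem (hA p.1.2) (hB p.2.2)⟩
  have hfib : ∀ t : T, ((Finset.univ : Finset (A × B)).filter fun p => f p = t).card ≤
      Nat.card ↥(A ⊓ B) := by
    intro t
    rcases Finset.eq_empty_or_nonempty
      ((Finset.univ : Finset (A × B)).filter fun p => f p = t) with e | ⟨p0, hp0⟩
    · simp [e]
    rw [← Nat.card_eq_finsetCard]
    have hp0' : p0.1.1 * p0.2.1 = t.1 := congrArg Subtype.val (Finset.mem_filter.1 hp0).2
    have hmem : ∀ p ∈ (Finset.univ : Finset (A × B)).filter (fun p => f p = t),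
        p0.1.1⁻¹ * p.1.1 ∈ A ⊓ B := by
      intro p hp
      have hp' : p.1.1 * p.2.1 = t.1 := congrArg Subtype.val (Finset.mem_filter.1 hp).2
      refine Subgroup.mem_inf.2 ⟨mul_mem (inv_mem p0.1.2) p.1.2, ?_⟩
      have e : p0.1.1⁻¹ * p.1.1 = p0.2.1 * p.2.1⁻¹ := by
        rw [eq_mul_inv_iff_mul_eq, mul_assoc, hp', ← hp0', inv_mul_cancel_left]
      rw [e]
      exact mul_mem p0.2.2 (inv_mem p.2.2)
    refine Nat.card_le_card_of_injective (fun p => (⟨_, hmem p.1 p.2⟩ : ↥(A ⊓ B))) ?_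
    intro p q e
    have e1 : p.1.1.1 = q.1.1.1 := mul_left_cancel (congrArg Subtype.val e)
    have hp' : p.1.1.1 * p.1.2.1 = t.1 := congrArg Subtype.val (Finset.mem_filter.1 p.2).2
    have hq' : q.1.1.1 * q.1.2.1 = t.1 := congrArg Subtype.val (Finset.mem_filter.1 q.2).2
    rw [e1, ← hq'] at hp'
    exact Subtype.ext (Prod.ext (Subtype.ext e1) (Subtype.ext (mul_left_cancel hp')))
  have himg := Finset.card_le_mul_card_image_of_maps_to (f := f) (s := Finset.univ)
    (t := Finset.univ.image f) (fun p hp => Finset.mem_image_of_mem f hp)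
    (Nat.card ↥(A ⊓ B)) fun t _ => hfib t
  rw [Finset.card_univ, Fintype.card_prod, ← Nat.card_eq_fintype_card,
    ← Nat.card_eq_fintype_card] at himg
  have hle : (Finset.univ.image f).card ≤ Nat.card T := by
    rw [Nat.card_eq_fintype_card]; exact Finset.card_le_univ _
  refine ⟨himg.trans (by rw [mul_comm]; exact Nat.mul_le_mul_right _ hle), fun hge t ht => ?_⟩
  have heq : Finset.univ.image f = Finset.univ := by
    apply Finset.eq_univ_of_card
    rw [← Nat.card_eq_fintype_card]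
    refine le_antisymm hle (Nat.le_of_mul_le_mul_left (hge.trans himg |> fun q => by
      rwa [mul_comm (Nat.card T)] at q) Nat.card_pos)
  obtain ⟨⟨x, y⟩, -, hxy⟩ := Finset.mem_image.1 (heq ▸ Finset.mem_univ (⟨t, ht⟩ : T))
  exact ⟨x.1, x.2, y.1, y.2, congrArg Subtype.val hxy⟩

/-- The fixed points of one element. -/
def fixIn (T : Subgroup G) (a : G) : Subgroup G := T ⊓ Subgroup.centralizer {a}

theorem mem_fixIn {T : Subgroup G} {a t : G} : t ∈ fixIn T a ↔ t ∈ T ∧ Commute t a := by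
  rw [fixIn, Subgroup.mem_inf, Subgroup.mem_centralizer_singleton_iff]
  rfl

theorem fix_zpowers {T : Subgroup G} {a b : G} (h : Subgroup.zpowers a = Subgroup.zpowers b) :
    fixIn T a = fixIn T b := by
  ext t
  simp only [mem_fixIn]
  refine and_congr_right fun _ => ⟨fun hc => ?_, fun hc => ?_⟩
  · obtain ⟨k, hk⟩ := Subgroup.mem_zpowers_iff.1 (h ▸ Subgroup.mem_zpowers b : b ∈ Subgroup.zpowers a)
    exact hk ▸ hc.zpow_right k
  · obtain ⟨k, hk⟩ := Subgroup.mem_zpowers_iff.1 (h.symm ▸ Subgroup.mem_zpowers a : a ∈ Subgroup.zpowers b)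
    exact hk ▸ hc.zpow_right k

theorem fibre_arith (d t A B : ℕ) (hd : d ∈ ([2, 4, 8, 16, 32, 64] : List ℕ))
    (ht : t ∈ ([2, 4, 8, 16, 32, 64] : List ℕ))
    (hA : A ∈ ([2, 4, 8, 16, 32, 64] : List ℕ)) (hB : B ∈ ([2, 4, 8, 16, 32, 64] : List ℕ))
    (h1 : (A - d) % 3 = 0) (h2 : (B - d) % 3 = 0) (h3 : d < A) (h4 : d < B)
    (h5 : A * B ≤ t * d) : 32 ≤ t ∧ A ≤ 16 ∧ B ≤ 16 ∧ A = 4 * d ∧ B = 4 * d := by
  simp only [List.mem_cons, List.not_mem_nil, or_false] at hd ht hA hB
  rcases hd with rfl | rfl | rfl | rfl | rfl | rfl <;>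
    rcases hA with rfl | rfl | rfl | rfl | rfl | rfl <;>
    rcases hB with rfl | rfl | rfl | rfl | rfl | rfl <;> omega

/-- Either some nontrivial member centralises the 2-group, or it is elementary abelian of order at
least 32. -/
theorem nine_action {E T : Subgroup G} (hE : Nat.card E = 9) (hE3 : ∀ e ∈ E, e ^ 3 = 1)
    (hET : ∀ e ∈ E, ∀ t ∈ T, e * t * e⁻¹ ∈ T) (hT2 : IsPGroup 2 T) (hT : Nat.card T ≤ 64)
    (hz : ∃ z ∈ T, z ≠ 1 ∧ ∀ e ∈ E, Commute z e)
    (hfix : ∀ e ∈ E, e ≠ 1 → ∀ t ∈ T, Commute t e → t * t = 1) :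
    (∃ e ∈ E, e ≠ 1 ∧ ∀ t ∈ T, Commute t e) ∨ (32 ≤ Nat.card T ∧ ∀ t ∈ T, t * t = 1) := by
  classical
  haveI := Fintype.ofFinite G
  haveI : Fact (Nat.Prime 2) := ⟨Nat.prime_two⟩
  haveI : Fact (Nat.Prime 3) := ⟨Nat.prime_three⟩
  have hEc : ∀ a ∈ E, ∀ b ∈ E, a * b = b * a := fun a ha b hb => by
    have hp : IsPGroup 3 E := IsPGroup.of_card (n := 2) (by rw [hE]; rfl)
    have hc : IsMulCommutative E :=
      IsPGroup.isMulCommutative_of_card_eq_prime_sq (p := 3) (by rw [hE]; rfl)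
    exact congrArg Subtype.val (hc.is_comm.comm ⟨a, ha⟩ ⟨b, hb⟩)
  have hord : ∀ e ∈ E, e ≠ 1 → orderOf e = 3 := fun e he h1 => orderOf_eq_prime (hE3 e he) h1
  obtain ⟨z, hzT, hz1, hzE⟩ := hz
  have hsq : ∀ e ∈ E, e ≠ 1 → ∀ t ∈ fixIn T e, t * t = 1 := fun e he h1 t ht =>
    hfix e he h1 t (mem_fixIn.1 ht).1 (mem_fixIn.1 ht).2
  have hpow : ∀ H : Subgroup G, H ≤ T → 2 ≤ Nat.card H →
      Nat.card H ∈ ([2, 4, 8, 16, 32, 64] : List ℕ) := by
    intro H hH h2
    obtain ⟨k, hk⟩ := (IsPGroup.iff_card).1 (hT2.to_le hH)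
    have hle : Nat.card H ≤ 64 := (Subgroup.card_le_of_le hH).trans hT
    rw [hk] at h2 hle ⊢
    have : k ≤ 6 := by
      by_contra hlt
      have := Nat.pow_le_pow_right (show 0 < 2 by norm_num) (show 7 ≤ k by omega)
      omega
    interval_cases k <;> simp_all
  have h2le : ∀ H : Subgroup G, z ∈ H → 2 ≤ Nat.card H := fun H hH =>
    Finite.one_lt_card_iff_nontrivial.2 ⟨⟨⟨z, hH⟩, 1, fun e => hz1 (congrArg Subtype.val e)⟩⟩
  have hzfix : ∀ e ∈ E, z ∈ fixIn T e := fun e he => mem_fixIn.2 ⟨hzT, hzE e he⟩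
  -- common fixed points of two independent members
  have hspan : ∀ a ∈ E, ∀ b ∈ E, a ≠ 1 → b ∉ Subgroup.zpowers a →
      ∀ t ∈ fixIn T a ⊓ fixIn T b, ∀ e ∈ E, Commute t e := by
    intro a ha b hb ha1 hab t ht e he
    let K : Subgroup G := Subgroup.centralizer ({t} : Set G) ⊓ E
    have hK : K = E := by
      refine Subgroup.eq_of_le_of_card_ge inf_le_right ?_
      obtain ⟨k, hk, hk2⟩ := (Nat.dvd_prime_pow Nat.prime_three).1
        ((show (9 : ℕ) = 3 ^ 2 from rfl) ▸ hE ▸ Subgroup.card_dvd_of_le (inf_le_right : K ≤ E))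
      have haK : a ∈ K :=
        ⟨Subgroup.mem_centralizer_singleton_iff.2 (mem_fixIn.1 ht.1).2.symm.eq, ha⟩
      have hbK : b ∈ K :=
        ⟨Subgroup.mem_centralizer_singleton_iff.2 (mem_fixIn.1 ht.2).2.symm.eq, hb⟩
      have hlt : 3 < Nat.card K := by
        by_contra hle
        have hza : Subgroup.zpowers a = K := Subgroup.eq_of_le_of_card_ge (Subgroup.zpowers_le.2 haK)
          (by rw [Nat.card_zpowers, hord a ha ha1]; exact not_lt.1 hle)
        exact hab (hza.symm ▸ hbK)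
      rw [hE, hk2]
      rcases k with _ | _ | k
      · rw [hk2] at hlt; norm_num at hlt
      · rw [hk2] at hlt; norm_num at hlt
      have := Nat.pow_le_pow_right (show 0 < 3 by norm_num) (show 2 ≤ k + 2 by omega)
      omega
    exact (Subgroup.mem_centralizer_singleton_iff.1 ((hK.symm ▸ he : e ∈ K)).1).symm
  let D : Subgroup G := T ⊓ Subgroup.centralizer (E : Set G)
  have hDmem : ∀ {t : G}, t ∈ D ↔ t ∈ T ∧ ∀ e ∈ E, Commute t e := fun {t} => by
    simp only [D, Subgroup.mem_inf, Subgroup.mem_centralizer_iff, SetLike.mem_coe]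
    exact and_congr_right fun _ => forall₂_congr fun e _ => eq_comm
  have hDle : ∀ e ∈ E, D ≤ fixIn T e := fun e he t ht =>
    mem_fixIn.2 ⟨(hDmem.1 ht).1, (hDmem.1 ht).2 e he⟩
  -- an invariant subgroup has as many members modulo three as fixed ones
  have hmod : ∀ a ∈ E, a ≠ 1 → ∀ H : Subgroup G, H ≤ T → (∀ t ∈ H, a * t * a⁻¹ ∈ H) →
      (Nat.card H - Nat.card ↥(H ⊓ fixIn T a)) % 3 = 0 := by
    intro a ha ha1 H hHT hH
    have hH' : ∀ k : Subgroup.zpowers a, ∀ t ∈ H, k.1 * t * k.1⁻¹ ∈ H := by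
      intro k t ht
      obtain ⟨n, hn, hk⟩ := Finset.mem_image.1 (mem_zpowers_iff_mem_range_orderOf.1 k.2)
      rw [← hk]
      clear hn hk
      induction n with
      | zero => simpa using ht
      | succ n ih =>
        rw [pow_succ', show a * a ^ n * t * (a * a ^ n)⁻¹ = a * (a ^ n * t * (a ^ n)⁻¹) * a⁻¹ by group]
        exact hH _ ih
    let _ : MulAction (Subgroup.zpowers a) H :=
      { smul := fun k t => ⟨k.1 * t.1 * k.1⁻¹, hH' k t.1 t.2⟩
        one_smul := fun t => Subtype.ext (show (1 : G) * t.1 * (1 : G)⁻¹ = t.1 by simp)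
        mul_smul := fun e f t => Subtype.ext (show e.1 * f.1 * t.1 * (e.1 * f.1)⁻¹ =
          e.1 * (f.1 * t.1 * f.1⁻¹) * e.1⁻¹ by group) }
    have hEp : IsPGroup 3 (Subgroup.zpowers a) :=
      IsPGroup.of_card (n := 1) (by rw [Nat.card_zpowers, hord a ha ha1, pow_one])
    have h1 := hEp.card_modEq_card_fixedPoints H
    have h2 : Nat.card (MulAction.fixedPoints (Subgroup.zpowers a) H) =
        Nat.card ↥(H ⊓ fixIn T a) := by
      refine Nat.card_congr
        { toFun := fun t => ⟨t.1.1, t.1.2, mem_fixIn.2 ⟨hHT t.1.2, ?_⟩⟩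
          invFun := fun t => ⟨⟨t.1, t.2.1⟩, fun k => Subtype.ext ?_⟩
          left_inv := fun t => rfl
          right_inv := fun t => rfl }
      · have q : a * t.1.1 * a⁻¹ = t.1.1 :=
          congrArg Subtype.val (t.2 ⟨a, Subgroup.mem_zpowers a⟩)
        exact (mul_inv_eq_iff_eq_mul.1 q).symm
      · obtain ⟨n, hn⟩ := Subgroup.mem_zpowers_iff.1 k.2
        show k.1 * t.1 * k.1⁻¹ = t.1
        rw [← hn, ← ((mem_fixIn.1 t.2.2).2.zpow_right n).eq, mul_inv_cancel_right]
    rw [h2] at h1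
    exact Nat.sub_mod_eq_zero_of_mod_eq h1
  have hEinv : ∀ u ∈ E, ∀ e ∈ E, ∀ t ∈ fixIn T u, e * t * e⁻¹ ∈ fixIn T u := by
    intro u hu e he t ht
    refine mem_fixIn.2 ⟨hET e he t (mem_fixIn.1 ht).1, ?_⟩
    have h1 := ((mem_fixIn.1 ht).2).map (MulAut.conj e)
    have h2 : MulAut.conj e u = u := by
      rw [MulAut.conj_apply, hEc e he u hu, mul_inv_cancel_right]
    rwa [h2] at h1
  have hDcard : 2 ≤ Nat.card D := h2le D (hDmem.2 ⟨hzT, hzE⟩)
  -- generation
  have hgen : T ≤ ⨆ e : {e : G // e ∈ E ∧ e ≠ 1}, fixIn T e.1 := by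
    refine SignalizerCoprime.le_of_centralizers_le (p := 3) (B := E) ?_ ?_ ?_ ?_ ?_
    · exact ⟨⟨⟨fun a b => Subtype.ext (hEc _ a.2 _ b.2)⟩⟩, fun a ha => hE3 a ha⟩
    · rw [hE]; norm_num
    · intro e he
      rw [Subgroup.mem_normalizer_iff]
      refine fun t => ⟨hET e he t, fun ht => ?_⟩
      have := hET e⁻¹ (inv_mem he) _ ht
      simpa [mul_assoc] using this
    · obtain ⟨k, hk⟩ := (IsPGroup.iff_card).1 hT2
      rw [hk]
      intro hd
      have := Nat.prime_three.dvd_of_dvd_pow hd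
      norm_num at this
    · intro e he he1
      exact le_iSup (fun e : {e : G // e ∈ E ∧ e ≠ 1} => fixIn T e.1) ⟨e, he, he1⟩
  -- the large fixed point groups
  by_cases hsingle : ∃ a ∈ E, a ≠ 1 ∧ ∀ e ∈ E, e ≠ 1 →
      fixIn T e ≤ fixIn T a
  · obtain ⟨a, ha, ha1, hall⟩ := hsingle
    left
    refine ⟨a, ha, ha1, fun t ht => ?_⟩
    have h1 : t ∈ fixIn T a := (hgen.trans (iSup_le fun e => hall e.1 e.2.1 e.2.2)) ht
    exact (mem_fixIn.1 h1).2
  right
  push Not at hsingle
  -- a first one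
  obtain ⟨e0, he0, he01⟩ : ∃ e ∈ E, e ≠ 1 := by
    by_contra hc
    push Not at hc
    have : E = ⊥ := (Subgroup.eq_bot_iff_forall _).2 hc
    rw [this, Subgroup.card_bot] at hE
    omega
  obtain ⟨a, ha, ha1, hna⟩ := hsingle e0 he0 he01
  have haD : ¬ fixIn T a ≤ D := fun q => hna (q.trans (hDle e0 he0))
  obtain ⟨b, hb, hb1, hnb⟩ := hsingle a ha ha1
  have hbD : ¬ fixIn T b ≤ D := fun q => hnb (q.trans (hDle a ha))
  have hindep : ∀ {u v : G}, u ∈ E → v ∈ E → u ≠ 1 → v ≠ 1 → fixIn T u ≠ fixIn T v →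
      v ∉ Subgroup.zpowers u := by
    intro u v hu hv hu1 hv1 hne hmem
    exact hne (fix_zpowers (Subgroup.eq_of_le_of_card_ge (Subgroup.zpowers_le.2 hmem)
      (by rw [Nat.card_zpowers, Nat.card_zpowers, hord u hu hu1, hord v hv hv1])).symm)
  have hab : b ∉ Subgroup.zpowers a := hindep ha hb ha1 hb1 fun q => hnb q.ge
  have hinf : fixIn T a ⊓ fixIn T b = D :=
    le_antisymm (fun t ht => hDmem.2 ⟨(mem_fixIn.1 ht.1).1, hspan a ha b hb ha1 hab t ht⟩)
      (le_inf (hDle a ha) (hDle b hb))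
  have hlt : ∀ {u : G}, u ∈ E → ¬ fixIn T u ≤ D → Nat.card D < Nat.card (fixIn T u) := by
    intro u hu hn
    by_contra hc
    exact hn (Subgroup.eq_of_le_of_card_ge (hDle u hu) (not_lt.1 hc)).ge
  obtain ⟨hAB, hsurj⟩ := card_sup_pair (T := T) (A := fixIn T a) (B := fixIn T b) inf_le_left inf_le_left
  rw [hinf] at hAB hsurj
  have hma := hmod b hb hb1 (fixIn T a) inf_le_left (hEinv a ha b hb)
  have hmb := hmod a ha ha1 (fixIn T b) inf_le_left (hEinv b hb a ha)
  rw [hinf] at hma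
  rw [inf_comm, hinf] at hmb
  have har := fibre_arith (Nat.card D) (Nat.card T) (Nat.card (fixIn T a)) (Nat.card (fixIn T b))
    (hpow D inf_le_left hDcard) (hpow T le_rfl (h2le T hzT))
    (hpow _ inf_le_left (h2le _ (hzfix a ha))) (hpow _ inf_le_left (h2le _ (hzfix b hb)))
    hma hmb (hlt ha haD) (hlt hb hbD) hAB
  obtain ⟨ht32, -, -, hA4, hB4⟩ := har
  refine ⟨ht32, ?_⟩
  -- the product of the two groups is everything
  have hTeq : Nat.card T * Nat.card D ≤ Nat.card (fixIn T a) * Nat.card (fixIn T b) := by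
    by_contra hcon
    rw [hA4, hB4] at hcon hAB
    have hd := hpow D inf_le_left hDcard
    have ht := hpow T le_rfl (h2le T hzT)
    simp only [List.mem_cons, List.not_mem_nil, or_false] at hd ht
    have hd2 : Nat.card D = 2 ∧ Nat.card T = 64 := by
      rcases hd with e | e | e | e | e | e <;> rcases ht with f | f | f | f | f | f <;>
        rw [e, f] at hcon hAB <;> omega
    obtain ⟨hd2, ht64⟩ := hd2
    let _ : MulAction E T :=
      { smul := fun e t => ⟨e.1 * t.1 * e.1⁻¹, hET _ e.2 _ t.2⟩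
        one_smul := fun t => Subtype.ext (show (1 : G) * t.1 * (1 : G)⁻¹ = t.1 by simp)
        mul_smul := fun e f t => Subtype.ext (show e.1 * f.1 * t.1 * (e.1 * f.1)⁻¹ =
          e.1 * (f.1 * t.1 * f.1⁻¹) * e.1⁻¹ by group) }
    have hburn := MulAction.sum_card_fixedBy_eq_card_orbits_mul_card_group E T
    have hfixcard : ∀ e : E, Fintype.card (MulAction.fixedBy T e) = Nat.card (fixIn T e.1) := by
      intro e
      rw [← Nat.card_eq_fintype_card]
      refine Nat.card_congr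
        { toFun := fun t => ⟨t.1.1, mem_fixIn.2 ⟨t.1.2, ?_⟩⟩
          invFun := fun t => ⟨⟨t.1, (mem_fixIn.1 t.2).1⟩, Subtype.ext ?_⟩
          left_inv := fun t => rfl
          right_inv := fun t => rfl }
      · have q : e.1 * t.1.1 * e.1⁻¹ = t.1.1 := congrArg Subtype.val t.2
        exact (mul_inv_eq_iff_eq_mul.1 q).symm
      · show e.1 * t.1 * e.1⁻¹ = t.1
        rw [← ((mem_fixIn.1 t.2).2).eq, mul_inv_cancel_right]
    have hval : ∀ e ∈ E, e ≠ 1 → Nat.card (fixIn T e) % 3 = 2 := by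
      intro e he he1
      -- some member of the pair is independent of it
      obtain ⟨w, hw, hw1, hwe⟩ : ∃ w ∈ E, w ≠ 1 ∧ w ∉ Subgroup.zpowers e := by
        by_cases hae : a ∈ Subgroup.zpowers e
        · refine ⟨b, hb, hb1, fun hbe => hab ?_⟩
          rw [Subgroup.eq_of_le_of_card_ge (Subgroup.zpowers_le.2 hae)
            (by rw [Nat.card_zpowers, Nat.card_zpowers, hord a ha ha1, hord e he he1])]
          exact hbe
        · exact ⟨a, ha, ha1, hae⟩
      have hinf' : fixIn T e ⊓ fixIn T w = D :=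
        le_antisymm (fun t ht => hDmem.2 ⟨(mem_fixIn.1 ht.1).1, hspan e he w hw he1 hwe t ht⟩)
          (le_inf (hDle e he) (hDle w hw))
      have hm := hmod w hw hw1 (fixIn T e) inf_le_left (hEinv e he w hw)
      rw [hinf', hd2] at hm
      have h2 := h2le _ (hzfix e he)
      omega
    have hsum : ∑ e : E, Fintype.card (MulAction.fixedBy T e) =
        Nat.card T + ∑ e ∈ (Finset.univ : Finset E).erase 1, Nat.card (fixIn T e.1) := by
      rw [← Finset.add_sum_erase _ _ (Finset.mem_univ (1 : E))]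
      congr 1
      · rw [hfixcard]
        congr 1
        exact congrArg (fun H : Subgroup G => ↥H)
          (inf_eq_left.2 fun t _ => Subgroup.mem_centralizer_singleton_iff.2
            (show t * ((1 : E) : G) = ((1 : E) : G) * t by simp))
      · exact Finset.sum_congr rfl fun e _ => hfixcard e
    have hmod3 : (∑ e ∈ (Finset.univ : Finset E).erase 1, Nat.card (fixIn T e.1)) % 3 = 16 % 3 := by
      rw [Finset.sum_nat_mod, Finset.sum_congr rfl fun e he =>
        hval e.1 e.2 fun q => (Finset.mem_erase.1 he).1 (Subtype.ext q),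
        Finset.sum_const, Finset.card_erase_of_mem (Finset.mem_univ _), Finset.card_univ,
        ← Nat.card_eq_fintype_card, hE]
      rfl
    rw [hsum, show Fintype.card E = 9 by rw [← Nat.card_eq_fintype_card, hE], ht64] at hburn
    omega
  have hprod := hsurj hTeq
  have hsqa := hsq a ha ha1
  have hsqb := hsq b hb hb1
  -- the first group is normal
  set A := fixIn T a with hA
  set B := fixIn T b with hB
  let NB : Subgroup G := B ⊓ Subgroup.normalizer (A : Set G)
  have hDA : ∀ x ∈ D, ∀ u ∈ A, x * u = u * x := fun x hx u hu => comm_of_sq hsqa (hDle a ha hx) hu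
  have hnB : B ≤ Subgroup.normalizer (A : Set G) := by
    have hlt' : A.subgroupOf T < ⊤ := by
      rw [lt_top_iff_ne_top, Ne, Subgroup.subgroupOf_eq_top]
      intro q
      exact hnb ((inf_le_left : B ≤ T).trans q)
    haveI := hT2.isNilpotent
    obtain ⟨⟨n, hnT⟩, hnN, hnA⟩ := SetLike.exists_of_lt (normalizerCondition_of_isNilpotent _ hlt')
    obtain ⟨x, hx, y, hy, hxy⟩ := hprod n hnT
    have hnN' : n ∈ Subgroup.normalizer (A : Set G) := by
      rw [Subgroup.mem_normalizer_iff]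
      intro u
      constructor
      · intro hu
        have := (Subgroup.mem_normalizer_iff.1 hnN ⟨u, (mem_fixIn.1 hu).1⟩).1
          (Subgroup.mem_subgroupOf.2 hu)
        simpa [Subgroup.mem_subgroupOf] using this
      · intro hu
        have huT : u ∈ T := by
          have := mul_mem (mul_mem (inv_mem hnT) (mem_fixIn.1 hu).1) hnT
          simpa [mul_assoc] using this
        have := (Subgroup.mem_normalizer_iff.1 hnN ⟨u, huT⟩).2
          (by simpa [Subgroup.mem_subgroupOf] using hu)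
        exact Subgroup.mem_subgroupOf.1 this
    have hyN : y ∈ Subgroup.normalizer (A : Set G) := by
      have hxN : x ∈ Subgroup.normalizer (A : Set G) := Subgroup.le_normalizer hx
      have := mul_mem (inv_mem hxN) hnN'
      rwa [← hxy, inv_mul_cancel_left] at this
    have hinv : ∀ t ∈ NB, a * t * a⁻¹ ∈ NB := by
      intro t ht
      refine ⟨hEinv b hb a ha t ht.1, ?_⟩
      have haN : a ∈ Subgroup.normalizer (A : Set G) := by
        rw [Subgroup.mem_normalizer_iff]
        refine fun u => ⟨fun hu => hEinv a ha a ha u hu, fun hu => ?_⟩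
        have := hEinv a ha a⁻¹ (inv_mem ha) _ hu
        simpa [mul_assoc] using this
      exact (Subgroup.normalizer (A : Set G)).mul_mem ((Subgroup.normalizer (A : Set G)).mul_mem haN ht.2) ((Subgroup.normalizer (A : Set G)).inv_mem haN)
    have hm := hmod a ha ha1 NB (inf_le_left.trans inf_le_left) hinv
    have hDN : D ≤ NB := le_inf (hDle b hb)
      fun t ht => Subgroup.le_normalizer (hDle a ha ht)
    have heq : NB ⊓ A = D :=
      le_antisymm (fun t ht => hinf ▸ Subgroup.mem_inf.2 ⟨ht.2, ht.1.1⟩) (le_inf hDN (hDle a ha))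
    rw [heq] at hm
    have hgt : Nat.card D < Nat.card NB := by
      by_contra hc
      have e := Subgroup.eq_of_le_of_card_ge hDN (not_lt.1 hc)
      have hyD : y ∈ D := e ▸ (⟨hy, hyN⟩ : y ∈ NB)
      exact hnA (Subgroup.mem_subgroupOf.2 (by
        show n ∈ A
        rw [← hxy]; exact mul_mem hx (hDle a ha hyD)))
    have hN2 := hpow NB (inf_le_left.trans inf_le_left) (by omega)
    have hle : Nat.card NB ≤ Nat.card B := Subgroup.card_le_of_le inf_le_left
    have hd := hpow D inf_le_left hDcard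
    simp only [List.mem_cons, List.not_mem_nil, or_false] at hd hN2
    have : NB = B := Subgroup.eq_of_le_of_card_ge inf_le_left (by
      rcases hd with e | e | e | e | e | e <;> rcases hN2 with f | f | f | f | f | f <;>
        rw [e] at hm hgt hB4 <;> rw [f] at hm hgt hle ⊢ <;> omega)
    exact fun t ht => ((this ▸ ht : t ∈ NB)).2
  -- the two groups commute
  have hcomm : ∀ x ∈ A, ∀ y ∈ B, x * y = y * x := by
    intro x hx
    let CB : Subgroup G := B ⊓ Subgroup.centralizer {x}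
    have hxa : a * x * a⁻¹ = x := by
      rw [← (mem_fixIn.1 hx).2.eq, mul_inv_cancel_right]
    have hinv : ∀ t ∈ CB, a * t * a⁻¹ ∈ CB := by
      intro t ht
      refine ⟨hEinv b hb a ha t ht.1, Subgroup.mem_centralizer_singleton_iff.2 ?_⟩
      have h1 := (show Commute t x from Subgroup.mem_centralizer_singleton_iff.1 ht.2).map
        (MulAut.conj a)
      have h2 : MulAut.conj a x = x := hxa
      rw [h2] at h1
      exact h1.eq
    have hDC : D ≤ CB := le_inf (hDle b hb) fun t ht =>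
      Subgroup.mem_centralizer_singleton_iff.2 (hDA t ht x hx)
    have heq : CB ⊓ A = D :=
      le_antisymm (fun t ht => hinf ▸ Subgroup.mem_inf.2 ⟨ht.2, ht.1.1⟩) (le_inf hDC (hDle a ha))
    have hm := hmod a ha ha1 CB (inf_le_left.trans inf_le_left) hinv
    rw [heq] at hm
    obtain ⟨y, hy, hyD⟩ : ∃ y ∈ B, y ∉ D := by
      by_contra hc
      push Not at hc
      exact hbD hc
    set y' := a * y * a⁻¹ with hy'
    have hy'B : y' ∈ B := hEinv b hb a ha y hy
    set c := x * y * x⁻¹ * y⁻¹ with hc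
    have hcA : c ∈ A := by
      have h1 := (Subgroup.mem_normalizer_iff.1 (hnB hy) x⁻¹).1 (inv_mem hx)
      have := mul_mem hx h1
      simpa [hc, mul_assoc] using this
    have hca : a * c * a⁻¹ = c := by rw [← (mem_fixIn.1 hcA).2.eq, mul_inv_cancel_right]
    have hc' : x * y' * x⁻¹ * y'⁻¹ = c := by
      conv_rhs => rw [← hca, hc]
      rw [hy', show a * (x * y * x⁻¹ * y⁻¹) * a⁻¹ =
        (a * x * a⁻¹) * (a * y * a⁻¹) * (a * x * a⁻¹)⁻¹ * (a * y * a⁻¹)⁻¹ by group, hxa]
    have hw : Commute (y⁻¹ * y') x := by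
      have e1 : x * y * x⁻¹ = c * y := by rw [hc]; group
      have e2 : x * y' * x⁻¹ = c * y' := by rw [← hc']; group
      have e : x * (y⁻¹ * y') * x⁻¹ = y⁻¹ * y' := by
        rw [show x * (y⁻¹ * y') * x⁻¹ = (x * y * x⁻¹)⁻¹ * (x * y' * x⁻¹) by group, e1, e2]
        group
      exact (mul_inv_eq_iff_eq_mul.1 e).symm
    have hwC : y⁻¹ * y' ∈ CB :=
      ⟨B.mul_mem (B.inv_mem hy) hy'B, Subgroup.mem_centralizer_singleton_iff.2 hw.eq⟩
    have hwD : y⁻¹ * y' ∉ D := by
      intro hd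
      have e : a * (y⁻¹ * y') * a⁻¹ = y⁻¹ * y' := by
        rw [← ((hDmem.1 hd).2 a ha).eq, mul_inv_cancel_right]
      set w := y⁻¹ * y' with hwdef
      have e1 : a * y * a⁻¹ = y * w := by rw [hwdef, hy']; group
      have e2 : a * (a * y * a⁻¹) * a⁻¹ = y * w * w := by
        rw [e1, show a * (y * w) * a⁻¹ = (a * y * a⁻¹) * (a * w * a⁻¹) by group, e1, e]
      have e3 : a * (a * (a * y * a⁻¹) * a⁻¹) * a⁻¹ = y * w * w * w := by
        rw [e2, show a * (y * w * w) * a⁻¹ = (a * y * a⁻¹) * (a * w * a⁻¹) * (a * w * a⁻¹) by group,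
          e1, e]
      rw [show a * (a * (a * y * a⁻¹) * a⁻¹) * a⁻¹ = a ^ 3 * y * (a ^ 3)⁻¹ by
        simp [pow_succ, mul_assoc], hE3 a ha, one_mul, inv_one, mul_one,
        mul_assoc y w w, hsqa w (hDle a ha hd), mul_one] at e3
      have hw1 : w = 1 := by
        have := congrArg (fun q => y⁻¹ * q) e3
        simpa using this.symm
      refine hyD (hinf ▸ Subgroup.mem_inf.2 ⟨mem_fixIn.2 ⟨(mem_fixIn.1 hy).1, ?_⟩, hy⟩)
      rw [hw1, mul_one] at e1
      exact (mul_inv_eq_iff_eq_mul.1 e1).symm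
    have hgt : Nat.card D < Nat.card CB := by
      by_contra hcc
      exact hwD ((Subgroup.eq_of_le_of_card_ge hDC (not_lt.1 hcc)).symm ▸ hwC)
    have hC2 := hpow CB (inf_le_left.trans inf_le_left) (by omega)
    have hle : Nat.card CB ≤ Nat.card B := Subgroup.card_le_of_le inf_le_left
    have hd := hpow D inf_le_left hDcard
    simp only [List.mem_cons, List.not_mem_nil, or_false] at hd hC2
    have hCB : CB = B := Subgroup.eq_of_le_of_card_ge inf_le_left (by
      rcases hd with q | q | q | q | q | q <;> rcases hC2 with f | f | f | f | f | f <;>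
        rw [q] at hm hgt hB4 <;> rw [f] at hm hgt hle ⊢ <;> omega)
    intro v hv
    have hv' : v ∈ CB := hCB.symm ▸ hv
    exact (Subgroup.mem_centralizer_singleton_iff.1 hv'.2).symm
  intro t ht
  obtain ⟨x, hx, y, hy, hxy⟩ := hprod t ht
  rw [← hxy, show x * y * (x * y) = x * (y * x) * y by group, ← hcomm x hx y hy,
    show x * (x * y) * y = (x * x) * (y * y) by group, hsqa x hx, hsqb y hy, one_mul]

end Cfsg.Agent.M12Nse51
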