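import Cfsg.Agent.Lib.M12Nse51Ctx
import Cfsg.Agent.Lib.M12Nse51Nine
import Cfsg.Agent.Lib.HallSolvable
import Cfsg.Agent.Lib.CharInducedBurnside
import Cfsg.Agent.Lib.SimpleSearch

/-!
The centraliser of the central involution has order 192 and there are two classes of involutions.
-/

set_option autoImplicit false
set_option maxRecDepth 100000

namespace Cfsg.Agent.M12Nse51

universe u

variable {G : Type u} [Group G] [Finite G]

theorem card_sylow_two (h : Data G) (S : Sylow 2 G) : Nat.card ↥(S : Subgroup G) = 64 := by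
  haveI : Fact (Nat.Prime 2) := ⟨Nat.prime_two⟩
  rw [S.card_eq_multiplicity, h.card, show (95040 : ℕ) = 2 ^ 6 * 1485 by norm_num,
    Nat.factorization_mul (by norm_num) (by norm_num), Finsupp.add_apply,
    Nat.Prime.factorization_pow Nat.prime_two, Finsupp.single_eq_same,
    Nat.factorization_eq_zero_of_not_dvd (by norm_num : ¬ 2 ∣ 1485)]
  norm_num

theorem not_conj_pivot (h : Data G) {S : Sylow 2 G} {s z g : G} (P : Pivot S s z g) {t : G}
    (ht : Nat.card (Subgroup.centralizer ({t} : Set G)) = 240) : ¬ IsConj z t := by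
  intro q
  have h1 := card_class h z
  have h2 := card_class h t
  have e : Nat.card {x : G // IsConj z x} = Nat.card {x : G // IsConj t x} :=
    Nat.card_congr (Equiv.subtypeEquivRight fun x => ⟨fun r => q.symm.trans r, fun r => q.trans r⟩)
  have hd : Nat.card ↥(S : Subgroup G) ∣ Nat.card (Subgroup.centralizer ({z} : Set G)) :=
    Subgroup.card_dvd_of_le fun a ha => mem_cent.2 (P.zcent a ha)
  rw [card_sylow_two h S] at hd
  rw [e] at h1
  rw [ht] at h2
  have : Nat.card (Subgroup.centralizer ({z} : Set G)) = 240 :=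
    Nat.eq_of_mul_eq_mul_left (Nat.pos_of_ne_zero fun e0 => by rw [e0] at h2; omega)
      (h1.trans h2.symm)
  rw [this] at hd
  norm_num at hd

theorem no_five_z (h : Data G) {S : Sylow 2 G} {s z g : G} (P : Pivot S s z g) :
    ¬ 5 ∣ Nat.card (Subgroup.centralizer ({z} : Set G)) := fun h5 =>
  not_conj_pivot h P P.scard
    (conj_of_five h P.zord P.sord h5 (by rw [P.scard]; norm_num))

theorem exists_eight (h : Data G) (S : Sylow 2 G) :
    ∃ a ∈ (S : Subgroup G), orderOf a = 8 := by
  haveI : Fact (Nat.Prime 2) := ⟨Nat.prime_two⟩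
  obtain ⟨a, ha⟩ := h.exists8
  obtain ⟨P, hP⟩ := (IsPGroup.of_card (G := ↥(Subgroup.zpowers a)) (p := 2) (n := 3)
    (by rw [Nat.card_zpowers, ha]; rfl)).exists_le_sylow
  obtain ⟨c, hc⟩ := MulAction.exists_smul_eq G P S
  refine ⟨c * a * c⁻¹, ?_, by rw [← MulAut.conj_apply, MulEquiv.orderOf_eq, ha]⟩
  rw [← hc, Sylow.coe_subgroup_smul]
  exact ⟨a, hP (Subgroup.mem_zpowers a), rfl⟩

theorem core_z (h : Data G) {S : Sylow 2 G} {s z g : G} (P : Pivot S s z g)
    (R : Subgroup (Subgroup.centralizer ({z} : Set G))) [hR : R.Normal]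
    (hRp : IsPGroup 3 R) : R = ⊥ := by
  classical
  haveI := Fintype.ofFinite G
  haveI : Fact (Nat.Prime 3) := ⟨Nat.prime_three⟩
  let C := Subgroup.centralizer ({z} : Set G)
  rw [Subgroup.eq_bot_iff_forall]
  by_contra hne
  push Not at hne
  obtain ⟨x, hx, hx1⟩ := hne
  let sC : C := ⟨s, mem_cent.2 (P.zcent s P.smem)⟩
  let gC : C := ⟨g, mem_cent.2 (P.zcent g P.gmem)⟩
  -- an element of order four centralises no element of the 3-group
  have hno : ∀ u : C, orderOf u = 4 → ∀ r ∈ R, Commute u r → r = 1 := by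
    intro u hu r hr hur
    by_contra hr1
    obtain ⟨k, hk⟩ := hRp ⟨r, hr⟩
    obtain ⟨i, -, hi⟩ := (Nat.dvd_prime_pow Nat.prime_three).1
      (orderOf_dvd_of_pow_eq_one (show r ^ 3 ^ k = 1 from congrArg Subtype.val hk))
    rcases i with _ | i
    · exact hr1 (orderOf_eq_one_iff.1 hi)
    have h3 : orderOf (r ^ 3 ^ i) = 3 := by
      rw [orderOf_pow, hi, Nat.gcd_eq_right (pow_dvd_pow 3 (by omega)), pow_succ,
        Nat.mul_div_cancel_left _ (by positivity)]
    have := (hur.pow_right (3 ^ i)).orderOf_mul_eq_mul_orderOf_of_coprime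
      (by rw [hu, h3]; norm_num)
    rw [hu, h3, ← Subgroup.orderOf_coe] at this
    exact h.no12 _ this
  -- the conjugation by an element with square acting trivially
  let f : C → R → R := fun u r => ⟨u * r.1 * u⁻¹, hR.conj_mem _ r.2 u⟩
  have hinvert : ∀ u : C, (∀ r ∈ R, Commute (u * u) r) → (∀ r ∈ R, Commute u r → r = 1) →
      ∀ r ∈ R, u * r * u⁻¹ = r⁻¹ := by
    intro u h2 hfix r hr
    let φ : R →* R :=
      { toFun := f u
        map_one' := Subtype.ext (show u * 1 * u⁻¹ = (1 : C) by group)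
        map_mul' := fun a b => Subtype.ext
          (show u * (a.1 * b.1) * u⁻¹ = u * a.1 * u⁻¹ * (u * b.1 * u⁻¹) by group) }
    have hff : MonoidHom.FixedPointFree φ := by
      intro a ha
      exact Subtype.ext (hfix a.1 a.2 (mul_inv_eq_iff_eq_mul.1 (congrArg Subtype.val ha)))
    have hinv : Function.Involutive φ := by
      intro a
      refine Subtype.ext ?_
      show u * (u * a.1 * u⁻¹) * u⁻¹ = a.1
      rw [show u * (u * a.1 * u⁻¹) * u⁻¹ = u * u * a.1 * (u * u)⁻¹ by group, (h2 a.1 a.2).eq,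
        mul_inv_cancel_right]
    have := congrFun (hff.coe_eq_inv_of_involutive hinv) ⟨r, hr⟩
    exact congrArg Subtype.val this
  have hsfix : ∀ r ∈ R, Commute sC r → r = 1 := by
    intro r hr hsr
    obtain ⟨k, hk⟩ := hRp ⟨r, hr⟩
    have h3 : r ^ 3 ^ k = 1 := congrArg Subtype.val hk
    have h16 : (r : G) ^ 16 = 1 := P.both _ (congrArg Subtype.val hsr.eq).symm (mem_cent.1 r.2)
    have h16' : r ^ 16 = 1 := Subtype.ext (by rw [SubmonoidClass.coe_pow]; exact h16)
    refine orderOf_eq_one_iff.1 (Nat.eq_one_of_dvd_coprimes ?_ (orderOf_dvd_of_pow_eq_one h3)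
      (orderOf_dvd_of_pow_eq_one h16'))
    exact Nat.Coprime.pow_left _ (by norm_num)
  have hs2 : sC * sC = 1 := Subtype.ext (by
    show s * s = 1
    have := pow_orderOf_eq_one s
    rwa [P.sord, pow_two] at this)
  have hs_inv := hinvert sC (fun r _ => by rw [hs2]; exact Commute.one_left r) hsfix
  have hg_inv := hinvert gC (fun r _ => by
    refine Subtype.ext ?_
    show g * g * (r : G) = (r : G) * (g * g)
    rw [P.gsq]
    exact (mem_cent.1 r.2).eq.symm)
    (hno gC (by rw [← Subgroup.orderOf_coe]; exact P.gord))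
  refine hx1 (hno (gC * sC) (by rw [← Subgroup.orderOf_coe]; exact P.gsord) x hx ?_)
  have e : gC * sC * x * (gC * sC)⁻¹ = x := by
    calc gC * sC * x * (gC * sC)⁻¹ = gC * (sC * x * sC⁻¹) * gC⁻¹ := by group
      _ = gC * x⁻¹ * gC⁻¹ := by rw [hs_inv x hx]
      _ = x := by rw [hg_inv x⁻¹ (inv_mem hx), inv_inv]
  exact mul_inv_eq_iff_eq_mul.1 e

theorem card_form (h : Data G) {S : Sylow 2 G} {s z g : G} (P : Pivot S s z g) :
    ∃ c, 1 ≤ c ∧ c ≤ 3 ∧ Nat.card (Subgroup.centralizer ({z} : Set G)) = 64 * 3 ^ c := by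
  have hd : Nat.card ↥(S : Subgroup G) ∣ Nat.card (Subgroup.centralizer ({z} : Set G)) :=
    Subgroup.card_dvd_of_le fun a ha => mem_cent.2 (P.zcent a ha)
  rw [card_sylow_two h S] at hd
  obtain ⟨d, hd⟩ := hd
  have hG : Nat.card (Subgroup.centralizer ({z} : Set G)) ∣ 95040 :=
    h.card ▸ Subgroup.card_subgroup_dvd_card _
  rw [hd] at hG
  have h1485 : d ∣ 1485 :=
    Nat.dvd_of_mul_dvd_mul_left (by norm_num : 0 < 64) ((show (95040 : ℕ) = 64 * 1485 from rfl) ▸ hG)
  have hco : Nat.Coprime d 55 := by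
    rw [show (55 : ℕ) = 5 * 11 from rfl]
    refine Nat.Coprime.mul_right (((Nat.prime_five).coprime_iff_not_dvd.2 fun q => ?_).symm)
      ((((by norm_num : Nat.Prime 11)).coprime_iff_not_dvd.2 fun q => ?_).symm)
    · exact no_five_z h P (hd ▸ q.mul_left 64)
    · exact no_eleven h P.zord (hd ▸ q.mul_left 64)
  have h27 : d ∣ 3 ^ 3 := hco.dvd_of_dvd_mul_right ((show (1485 : ℕ) = 3 ^ 3 * 55 from rfl) ▸ h1485)
  obtain ⟨c, hc, rfl⟩ := (Nat.dvd_prime_pow Nat.prime_three).1 h27
  refine ⟨c, ?_, hc, hd⟩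
  by_contra h0
  have h1 := card_class h z
  have h2 := card_class_le h P.zord
  rw [hd, show c = 0 by omega] at h1
  omega

theorem odd_core (h : Data G) {S : Sylow 2 G} {s z g : G} (P : Pivot S s z g) :
    Cfsg.pPrimeCore 2 (Subgroup.centralizer ({z} : Set G)) = ⊥ := by
  haveI : Fact (Nat.Prime 3) := ⟨Nat.prime_three⟩
  rw [Cfsg.pPrimeCore, sSup_eq_bot]
  rintro N ⟨hN, hco⟩
  haveI := hN
  obtain ⟨c, -, -, hc⟩ := card_form h P
  have hd : Nat.card N ∣ 3 ^ c := by
    have h1 : Nat.card N ∣ 2 ^ 6 * 3 ^ c := hc ▸ Subgroup.card_subgroup_dvd_card N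
    exact (hco.pow_right 6).dvd_of_dvd_mul_left h1
  obtain ⟨k, -, hk⟩ := (Nat.dvd_prime_pow Nat.prime_three).1 hd
  exact core_z h P N (IsPGroup.of_card hk)

theorem solvable_z (h : Data G) {S : Sylow 2 G} {s z g : G} (P : Pivot S s z g) :
    Group.IsSolvable (Subgroup.centralizer ({z} : Set G)) := by
  obtain ⟨c, -, -, hc⟩ := card_form h P
  exact CharInduced.solvable_of_card_two_primes 2 3 6 c Nat.prime_two Nat.prime_three hc

theorem card_z (h : Data G) {S : Sylow 2 G} {s z g : G} (P : Pivot S s z g) :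
    Nat.card (Subgroup.centralizer ({z} : Set G)) = 192 := by
  classical
  haveI : Fact (Nat.Prime 2) := ⟨Nat.prime_two⟩
  haveI : Fact (Nat.Prime 3) := ⟨Nat.prime_three⟩
  obtain ⟨c, hc1, hc3, hc⟩ := card_form h P
  by_contra hne
  have hc2 : 2 ≤ c := by
    by_contra hlt
    exact hne (by rw [hc, show c = 1 by omega]; rfl)
  set C := Subgroup.centralizer ({z} : Set G) with hCdef
  haveI := solvable_z h P
  have hsolv : Cfsg.IsPSolvable 2 C := HallSolvable.isPSolvable_of_solvable 2
  have hself := HallSolvable.centralizer_pCore_le hsolv (odd_core h P)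
  set TC := Cfsg.pCore 2 C with hTC
  have hTp : IsPGroup 2 TC := HallCore.isPGroup_pCore 2 C
  haveI : TC.Normal := HallCore.pCore_normal 2 C
  -- the group of order nine
  obtain ⟨E0, hE0⟩ := Sylow.exists_subgroup_card_pow_prime (G := C) 3 (n := 2)
    (by rw [hc]; exact Dvd.dvd.mul_left (pow_dvd_pow 3 hc2) 64)
  set T := TC.map C.subtype with hT
  set E := E0.map C.subtype with hE
  have hEc : Nat.card E = 9 := by
    rw [hE, ← Nat.card_congr (Subgroup.equivMapOfInjective _ _ C.subtype_injective).toEquiv, hE0]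
    rfl
  have hTcard : Nat.card T = Nat.card TC :=
    (Nat.card_congr (Subgroup.equivMapOfInjective _ _ C.subtype_injective).toEquiv).symm
  have hT2 : IsPGroup 2 T := hTp.map _
  -- the 2-core lies in the Sylow subgroup
  have hTS : T ≤ (S : Subgroup G) := by
    have hSC : (S : Subgroup G) ≤ C := fun a ha => mem_cent.2 (P.zcent a ha)
    obtain ⟨Q, hQ⟩ := (S.2.of_equiv (Subgroup.subgroupOfEquivOfLe hSC).symm :
      IsPGroup 2 ((S : Subgroup G).subgroupOf C)).exists_le_sylow
    have hQeq : (S : Subgroup G).subgroupOf C = (Q : Subgroup C) :=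
      Subgroup.eq_of_le_of_card_ge hQ (by
        rw [Nat.card_congr (Subgroup.subgroupOfEquivOfLe hSC).toEquiv, card_sylow_two h S,
          Q.card_eq_multiplicity, hc, Nat.factorization_mul (by norm_num) (by positivity),
          Finsupp.add_apply, show (64 : ℕ) = 2 ^ 6 from rfl, Nat.Prime.factorization_pow Nat.prime_two,
          Finsupp.single_eq_same, Nat.factorization_eq_zero_of_not_dvd (fun q => by
            have := Nat.prime_two.dvd_of_dvd_pow q; norm_num at this)])
    rintro _ ⟨a, ha, rfl⟩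
    have : a ∈ (S : Subgroup G).subgroupOf C := hQeq ▸ hTp.le_sylow_of_normal Q ha
    exact Subgroup.mem_subgroupOf.1 this
  have h64 : Nat.card T ≤ 64 := card_sylow_two h S ▸ Subgroup.card_le_of_le hTS
  have hE3 : ∀ e ∈ E, e ^ 3 = 1 := by
    intro e he
    have hd : orderOf e ∣ 3 ^ 2 := by
      have := Subgroup.orderOf_dvd_natCard E he
      rwa [hEc] at this
    obtain ⟨i, hi, hie⟩ := (Nat.dvd_prime_pow Nat.prime_three).1 hd
    refine orderOf_dvd_iff_pow_eq_one.1 ?_
    rw [hie]
    interval_cases i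
    · norm_num
    · norm_num
    · exact absurd hie (h.no9 e)
  have hET : ∀ e ∈ E, ∀ t ∈ T, e * t * e⁻¹ ∈ T := by
    rintro _ ⟨e, he, rfl⟩ _ ⟨t, ht, rfl⟩
    exact ⟨e * t * e⁻¹, ‹TC.Normal›.conj_mem t ht e, rfl⟩
  have hzC : z ∈ C := mem_cent.2 (Commute.refl z)
  have hzT : (⟨z, hzC⟩ : C) ∈ TC := by
    have hn : (Subgroup.zpowers (⟨z, hzC⟩ : C)).Normal := by
      refine ⟨fun a ha u => ?_⟩
      obtain ⟨k, rfl⟩ := Subgroup.mem_zpowers_iff.1 ha
      refine Subgroup.mem_zpowers_iff.2 ⟨k, ?_⟩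
      have : Commute u (⟨z, hzC⟩ : C) := Subtype.ext (mem_cent.1 u.2).eq
      rw [(this.zpow_right k).eq, mul_inv_cancel_right]
    exact HallCore.le_pCore (IsPGroup.of_card (n := 1)
      (by rw [Nat.card_zpowers, Subgroup.orderOf_mk, P.zord, pow_one])) (Subgroup.mem_zpowers _)
  have hEC : ∀ e ∈ E, e ∈ C := fun e he => Subgroup.map_subtype_le _ he
  have hfix : ∀ e ∈ E, e ≠ 1 → ∀ t ∈ T, Commute t e → t * t = 1 := by
    intro e he he1 t ht hte
    by_contra hne2
    have he3 : orderOf e = 3 := orderOf_eq_prime (hE3 e he) he1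
    obtain ⟨k, hk⟩ := (IsPGroup.iff_card).1 hT2
    obtain ⟨i, -, hi⟩ := (Nat.dvd_prime_pow Nat.prime_two).1 (hk ▸ Subgroup.orderOf_dvd_natCard T ht)
    rcases i with _ | _ | i
    · exact hne2 (by rw [orderOf_eq_one_iff.1 hi, one_mul])
    · exact hne2 (by rw [← pow_two, show (2 : ℕ) = orderOf t by rw [hi]; rfl, pow_orderOf_eq_one])
    have h4 : orderOf (t ^ 2 ^ i) = 4 := by
      rw [orderOf_pow, hi, Nat.gcd_eq_right (pow_dvd_pow 2 (by omega)), show i + 1 + 1 = i + 2 from rfl,
        pow_add, Nat.mul_div_cancel_left _ (by positivity)]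
      rfl
    have := (hte.pow_left (2 ^ i)).orderOf_mul_eq_mul_orderOf_of_coprime (by rw [h4, he3]; norm_num)
    rw [h4, he3] at this
    exact h.no12 _ this
  rcases nine_action (E := E) (T := T) hEc hE3 hET hT2 h64
    ⟨z, ⟨_, hzT, rfl⟩, fun q => by have := P.zord; rw [q, orderOf_one] at this; omega,
      fun e he => (mem_cent.1 (hEC e he)).symm⟩ hfix with ⟨e, he, he1, hall⟩ | ⟨h32, hexp⟩
  · obtain ⟨e', he', rfl⟩ := he
    have hmem : e' ∈ Subgroup.centralizer (TC : Set C) :=
      Subgroup.mem_centralizer_iff.2 fun t ht => Subtype.ext (hall t ⟨t, ht, rfl⟩).eq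
    obtain ⟨k, hk⟩ := (IsPGroup.iff_card).1 hTp
    have hd2 : orderOf e' ∣ 2 ^ k := hk ▸ Subgroup.orderOf_dvd_natCard TC (hself hmem)
    have hd3 : orderOf e' ∣ 3 ^ 2 := hE0 ▸ Subgroup.orderOf_dvd_natCard E0 he'
    refine he1 ?_
    rw [orderOf_eq_one_iff.1 (Nat.eq_one_of_dvd_coprimes
      ((by norm_num : Nat.Coprime 2 3).pow k 2) hd2 hd3)]
    rfl
  · -- the Sylow subgroup would have exponent at most four
    obtain ⟨a, ha, ha8⟩ := exists_eight h S
    have hidx : (T.subgroupOf (S : Subgroup G)).index ≤ 2 := by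
      have h1 := Subgroup.index_mul_card (T.subgroupOf (S : Subgroup G))
      rw [Nat.card_congr (Subgroup.subgroupOfEquivOfLe hTS).toEquiv, card_sylow_two h S] at h1
      by_contra hlt
      have := Nat.mul_le_mul (not_le.1 hlt : 3 ≤ _) h32
      omega
    have ha2 : a * a ∈ T := by
      have hpos : (T.subgroupOf (S : Subgroup G)).index ≠ 0 := Subgroup.index_ne_zero_of_finite
      rcases (show (T.subgroupOf (S : Subgroup G)).index = 1 ∨
          (T.subgroupOf (S : Subgroup G)).index = 2 by omega) with q | q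
      · have : (⟨a, ha⟩ : ↥(S : Subgroup G)) ∈ T.subgroupOf (S : Subgroup G) := by
          rw [Subgroup.index_eq_one.1 q]; exact Subgroup.mem_top _
        exact mul_mem (Subgroup.mem_subgroupOf.1 this) (Subgroup.mem_subgroupOf.1 this)
      · have := Subgroup.mul_self_mem_of_index_two q (⟨a, ha⟩ : ↥(S : Subgroup G))
        exact Subgroup.mem_subgroupOf.1 this
    have h4 : a ^ 4 = 1 := by
      rw [show (4 : ℕ) = 2 * 2 from rfl, pow_mul, pow_two, pow_two]
      exact hexp _ ha2
    have := orderOf_dvd_of_pow_eq_one h4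
    rw [ha8] at this
    norm_num at this

theorem card_class_z (h : Data G) {S : Sylow 2 G} {s z g : G} (P : Pivot S s z g) :
    Nat.card {x : G // IsConj z x} = 495 ∧ Nat.card {x : G // IsConj s x} = 396 := by
  have h1 := card_class h z
  have h2 := card_class h s
  rw [card_z h P] at h1
  rw [P.scard] at h2
  omega

theorem classes_all (h : Data G) {S : Sylow 2 G} {s z g : G} (P : Pivot S s z g) {i : G}
    (hi : orderOf i = 2) : IsConj s i ∨ IsConj z i := by
  classical
  haveI := Fintype.ofFinite G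
  obtain ⟨hz, hs⟩ := card_class_z h P
  have ho : ∀ {a x : G}, orderOf a = 2 → IsConj a x → orderOf x = 2 := fun {a x} ha hx => by
    obtain ⟨c, hc⟩ := isConj_iff.1 hx
    rw [← hc, ← MulAut.conj_apply, MulEquiv.orderOf_eq, ha]
  let A : Finset G := Finset.univ.filter fun x => IsConj s x
  let B : Finset G := Finset.univ.filter fun x => IsConj z x
  let I : Finset G := Finset.univ.filter fun x => orderOf x = 2
  have hA : A.card = 396 := by rw [← hs, Nat.card_eq_fintype_card, Fintype.card_subtype]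
  have hB : B.card = 495 := by rw [← hz, Nat.card_eq_fintype_card, Fintype.card_subtype]
  have hI : I.card = 891 := by
    rw [← h.cnt2]; show _ = Nat.card {g : G // orderOf g = 2}
    rw [Nat.card_eq_fintype_card, Fintype.card_subtype]
  have hd : Disjoint A B := Finset.disjoint_left.2 fun x hx hx' =>
    not_conj_pivot h P P.scard ((Finset.mem_filter.1 hx').2.trans (Finset.mem_filter.1 hx).2.symm)
  have hsub : A ∪ B ⊆ I := by
    intro x hx
    rcases Finset.mem_union.1 hx with q | q
    · exact Finset.mem_filter.2 ⟨Finset.mem_univ _, ho P.sord (Finset.mem_filter.1 q).2⟩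
    · exact Finset.mem_filter.2 ⟨Finset.mem_univ _, ho P.zord (Finset.mem_filter.1 q).2⟩
  have heq : A ∪ B = I :=
    Finset.eq_of_subset_of_card_le hsub (by rw [Finset.card_union_of_disjoint hd, hA, hB, hI])
  have : i ∈ A ∪ B := heq ▸ Finset.mem_filter.2 ⟨Finset.mem_univ _, hi⟩
  rcases Finset.mem_union.1 this with q | q
  · exact Or.inl (Finset.mem_filter.1 q).2
  · exact Or.inr (Finset.mem_filter.1 q).2

theorem card_mates_eq {i j : G} (hij : IsConj i j) :
    Nat.card {a : G // Commute a j ∧ orderOf a = 3} = Nat.card {a : G // Commute a i ∧ orderOf a = 3} := by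
  obtain ⟨c, hc⟩ := isConj_iff.1 hij
  refine (Nat.card_congr ((MulAut.conj c).toEquiv.subtypeEquiv fun a => ?_)).symm
  show Commute a i ∧ orderOf a = 3 ↔
    Commute (MulAut.conj c a) j ∧ orderOf (MulAut.conj c a) = 3
  rw [MulEquiv.orderOf_eq, show j = MulAut.conj c i from hc.symm]
  exact and_congr_left fun _ => ⟨fun q => q.map (MulAut.conj c),
    fun q => (MulAut.conj c).injective (by rw [map_mul, map_mul]; exact q)⟩

theorem threes_z (h : Data G) {S : Sylow 2 G} {s z g : G} (P : Pivot S s z g) :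
    Nat.card {a : G // Commute a z ∧ orderOf a = 3} = 32 := by
  classical
  haveI : Fact (Nat.Prime 3) := ⟨Nat.prime_three⟩
  haveI := Fintype.ofFinite G
  set C := Subgroup.centralizer ({z} : Set G)
  -- pairs of commuting elements of orders two and three
  let f : (Σ i : {i : G // orderOf i = 2}, {a : G // Commute a i.1 ∧ orderOf a = 3}) →
      {g : G // orderOf g = 6} := fun q => ⟨q.1.1 * q.2.1, by
    rw [q.2.2.1.symm.orderOf_mul_eq_mul_orderOf_of_coprime (by rw [q.1.2, q.2.2.2]; norm_num),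
      q.1.2, q.2.2.2]⟩
  have hbij : Function.Bijective f := by
    constructor
    · rintro ⟨⟨i, hi⟩, ⟨a, ha, ha3⟩⟩ ⟨⟨j, hj⟩, ⟨b, hb, hb3⟩⟩ e
      have e' : i * a = j * b := congrArg Subtype.val e
      have key : ∀ i a : G, orderOf i = 2 → Commute a i → orderOf a = 3 → (i * a) ^ 3 = i := by
        intro i a hi ha ha3
        have h1 : a ^ 3 = 1 := by have := pow_orderOf_eq_one a; rwa [ha3] at this
        have h2 : i ^ 2 = 1 := by have := pow_orderOf_eq_one i; rwa [hi] at this
        rw [ha.symm.mul_pow, h1, mul_one, pow_succ, h2, one_mul]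
      have hij : i = j := by rw [← key i a hi ha ha3, e', key j b hj hb hb3]
      subst hij
      obtain rfl := mul_left_cancel e'
      rfl
    · rintro ⟨w, hw⟩
      refine ⟨⟨⟨w ^ 3, by rw [orderOf_pow, hw]; rfl⟩, ⟨w ^ 4, (Commute.refl w).pow_pow 4 3,
        by rw [orderOf_pow, hw]; rfl⟩⟩, Subtype.ext ?_⟩
      show w ^ 3 * w ^ 4 = w
      rw [← pow_add, ← pow_mod_orderOf, hw, pow_one]
  have h6 := Nat.card_congr (Equiv.ofBijective f hbij)
  rw [Nat.card_sigma] at h6
  set mz := Nat.card {a : G // Commute a z ∧ orderOf a = 3} with hmz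
  have hsum : ∑ i : {i : G // orderOf i = 2}, Nat.card {a : G // Commute a i.1 ∧ orderOf a = 3} =
      396 * 20 + 495 * mz := by
    obtain ⟨hzc, hsc⟩ := card_class_z h P
    rw [← Finset.sum_filter_add_sum_filter_not Finset.univ
      (fun i : {i : G // orderOf i = 2} => IsConj s i.1)]
    congr 1
    · rw [Finset.sum_congr rfl fun i hi =>
        (card_mates_eq (Finset.mem_filter.1 hi).2).trans P.threes, Finset.sum_const, smul_eq_mul,
        ← hsc, ← Fintype.card_subtype, ← Nat.card_eq_fintype_card]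
      congr 1
      exact Nat.card_congr
        { toFun := fun i => ⟨i.1.1, i.2⟩
          invFun := fun x => ⟨⟨x.1, by
            obtain ⟨c, hc⟩ := isConj_iff.1 x.2
            rw [← hc, ← MulAut.conj_apply, MulEquiv.orderOf_eq, P.sord]⟩, x.2⟩
          left_inv := fun i => rfl
          right_inv := fun i => rfl }
    · rw [Finset.sum_congr rfl fun i hi => card_mates_eq
        ((classes_all h P i.2).resolve_left (Finset.mem_filter.1 hi).2), Finset.sum_const,
        smul_eq_mul, ← hzc, ← Fintype.card_subtype, ← Nat.card_eq_fintype_card]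
      congr 1
      exact Nat.card_congr
        { toFun := fun i => ⟨i.1.1, (classes_all h P i.1.2).resolve_left i.2⟩
          invFun := fun x => ⟨⟨x.1, by
            obtain ⟨c, hc⟩ := isConj_iff.1 x.2
            rw [← hc, ← MulAut.conj_apply, MulEquiv.orderOf_eq, P.zord]⟩,
            fun q => not_conj_pivot h P P.scard (x.2.trans q.symm)⟩
          left_inv := fun i => rfl
          right_inv := fun i => rfl }
  rw [hsum] at h6
  have hcnt := h.cnt6
  simp only [Set.mem_insert_iff, Set.mem_singleton_iff] at hcnt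
  -- the Sylow 3-subgroups of the centraliser
  have hP3 : ∀ Q : Sylow 3 C, Nat.card ↥(Q : Subgroup C) = 3 := fun Q => by
    rw [Q.card_eq_multiplicity, show Nat.card C = 192 from card_z h P,
      show (192 : ℕ) = 3 ^ 1 * 64 by norm_num, Nat.factorization_mul (by norm_num) (by norm_num),
      Finsupp.add_apply, Nat.Prime.factorization_pow Nat.prime_three, Finsupp.single_eq_same,
      Nat.factorization_eq_zero_of_not_dvd (by norm_num : ¬ 3 ∣ 64)]
    norm_num
  have hm : mz = Nat.card (Sylow 3 C) * 2 := by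
    rw [hmz, show (2 : ℕ) = 3 - 1 from rfl, ← SimpleSearch.card_orderOf hP3]
    exact Nat.card_congr
      { toFun := fun a => ⟨⟨a.1, mem_cent.2 a.2.1⟩, by rw [Subgroup.orderOf_mk]; exact a.2.2⟩
        invFun := fun a => ⟨a.1.1, mem_cent.1 a.1.2, by rw [Subgroup.orderOf_coe]; exact a.2⟩
        left_inv := fun a => rfl
        right_inv := fun a => rfl }
  obtain ⟨Q⟩ : Nonempty (Sylow 3 C) := inferInstance
  have hdvd : Nat.card (Sylow 3 C) ∣ 64 := by
    have h1 := Q.card_dvd_index
    have h2 := Subgroup.index_mul_card (Q : Subgroup C)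
    rw [hP3 Q, show Nat.card C = 192 from card_z h P] at h2
    rwa [show (Q : Subgroup C).index = 64 by omega] at h1
  have hmod : Nat.card (Sylow 3 C) % 3 = 1 := card_sylow_modEq_one 3 C
  obtain ⟨k, hk, hkk⟩ := (Nat.dvd_prime_pow Nat.prime_two (m := 6)).1 hdvd
  rw [hkk] at hm hmod
  change _ = cnt G 6 at h6
  generalize cnt G 6 = M at h6 hcnt
  interval_cases k
  all_goals first | omega | (norm_num at hm hmod ⊢ <;> omega)

/-- Everything at once. -/
theorem exists_local (h : Data G) {s : G} (hs : orderOf s = 2)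
    (hC : Nat.card (Subgroup.centralizer ({s} : Set G)) = 240) :
    ∃ (S : Sylow 2 G) (z g : G), Local S s z g := by
  obtain ⟨S, z, g, P⟩ := exists_pivot h hs hC
  exact ⟨S, z, g, P, card_z h P, fun _ hi => classes_all h P hi, threes_z h P, odd_core h P⟩

end Cfsg.Agent.M12Nse51
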