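import Cfsg.Agent.Lib.GolayOutM12

/-!
The numbers of elements of each order in the Mathieu group of degree twelve.
-/

set_option autoImplicit false
set_option maxRecDepth 100000

namespace Cfsg.Agent.M12Nse51

open Cfsg Cfsg.Agent.GolayBasic Cfsg.Agent.GolayPerm Cfsg.Agent.GolayChain
open Cfsg.Agent.GolayOutDataM12 Cfsg.Agent.GolayOutM12
open scoped Pointwise

/-- all words of a chain -/
def words : List Level → List (List ℕ)
  | [] => [[]]
  | (_, ts) :: r => ts.flatMap fun T => (words r).map fun w => T :: w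

theorem length_words : ∀ lv : List Level, (words lv).length = size lv
  | [] => rfl
  | (b, ts) :: r => by
    simp [words, size, List.length_flatMap, length_words r]

theorem mem_words_of_sift : ∀ (lv : List Level) (ys w : List ℕ), sift lv ys = some w → w ∈ words lv
  | [], ys, w, h => by simp only [sift, Option.some.injEq] at h; simp [words, ← h]
  | (b, ts) :: r, [], w, h => by simp [sift] at h
  | (b, ts) :: r, y :: ys, w, h => by
    simp only [sift] at h
    split at h
    · simp at h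
    · rename_i T hT
      split at h
      · simp at h
      · rename_i v hv
        simp only [Option.some.injEq] at h
        rw [words, List.mem_flatMap]
        refine ⟨T, List.mem_of_find?_eq_some hT, ?_⟩
        rw [List.mem_map]
        exact ⟨v, mem_words_of_sift r _ v hv, h⟩

variable {H : Subgroup (Equiv.Perm GolayPt)}

/-- The product of a word. -/
noncomputable def ev (w : List ℕ) : Equiv.Perm GolayPt := (w.map permOf).prod

theorem ev_apply : ∀ {w : List ℕ}, (∀ P ∈ w, valid P = true) → ∀ x,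
    idx (ev w x) = wimg w (idx x) := fun {w} h x => GolayOutTool.idx_prod w h x

theorem valid_of_chain : ∀ (lv : List Level) (fix : List ℕ), chainCheck fix lv = true →
    ∀ T ∈ elts lv, valid T = true
  | [], _, _ => by simp [elts]
  | (b, ts) :: r, fix, h => by
    simp only [chainCheck, Bool.and_eq_true, List.all_eq_true] at h
    intro T hT
    rcases List.mem_append.1 hT with hT | hT
    · exact (h.1.1.2 T hT).1
    · exact valid_of_chain r _ h.2 T hT

theorem elts_of_words : ∀ (lv : List Level) {w : List ℕ}, w ∈ words lv → ∀ T ∈ w, T ∈ elts lv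
  | [], w, hw => by simp only [words, List.mem_singleton] at hw; simp [hw]
  | (b, ts) :: r, w, hw => by
    rw [words, List.mem_flatMap] at hw
    obtain ⟨T, hT, hw⟩ := hw
    obtain ⟨v, hv, rfl⟩ := List.mem_map.1 hw
    intro U hU
    rcases List.mem_cons.1 hU with rfl | hU
    · exact List.mem_append_left _ hT
    · exact List.mem_append_right _ (elts_of_words r hv U hU)

/-- level `i` of the chain -/
def lev (i : ℕ) : List ℕ := (lvT.getD i (0, [])).2

/-- the bottom of the chain: a chain of a two point stabiliser -/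
def tl : List Level := lvT.drop 2

/-- the member of level `i` carrying `b` to `y` -/
def pick (i b y : ℕ) : ℕ := ((lev i).find? fun T => pimg T b == y).getD 0

/-- a word carrying `1` to `a` and `2` to `c` -/
def pfx (a c : ℕ) : List ℕ := [pick 0 1 a, pick 1 2 (pre (pick 0 1 a) c)]

/-- the twelve points -/
def dod : List ℕ := pts.filter fun i => (340831 : ℕ).testBit i

theorem tl_check : chainCheck [1, 2] tl = true := by decide +kernel

theorem tl_elts : ∀ T ∈ elts tl, T ∈ elts lvT := by decide +kernel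

theorem tl_size : size tl = 720 := by decide +kernel

/-- the stabiliser of the first two base points -/
noncomputable abbrev H2 : Subgroup (Equiv.Perm GolayPt) := fixList Spor.M12 [1, 2]

theorem mem_H2 {g : Equiv.Perm GolayPt} :
    g ∈ H2 ↔ g ∈ Spor.M12 ∧ g (pt 1) = pt 1 ∧ g (pt 2) = pt 2 := by
  simp [mem_fixList]

theorem lev_facts : (∀ i < 3, ∀ T ∈ lev i, T ∈ elts lvT) ∧
    (∀ T ∈ lev 1, pimg T 1 = 1) ∧ (∀ T ∈ lev 2, pimg T 1 = 1 ∧ pimg T 2 = 2) := by decide +kernel

theorem valid_lev {i : ℕ} (hi : i < 3) {T : ℕ} (hT : T ∈ lev i) :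
    valid T = true ∧ permOf T ∈ Spor.M12 :=
  ⟨valid_of_chain lvT [] chainT T (lev_facts.1 i hi T hT), memT T (lev_facts.1 i hi T hT)⟩

theorem orbit_dod {g : Equiv.Perm GolayPt} (hg : g ∈ Spor.M12) {i : ℕ} (hi : i ∈ dod) :
    idx (g (pt i)) ∈ dod := by
  simp only [dod, List.mem_filter, mem_pts] at hi ⊢
  have h2 : g (pt i) ∈ g • mset 340831 :=
    Finset.smul_mem_smul_finset (mem_mset.2 (by rw [idx_pt hi.1]; exact hi.2))
  rw [(GolayM24.mem_M12.1 hg).2, mem_mset] at h2
  exact ⟨idx_lt _, h2⟩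

theorem card_H2 : Nat.card H2 = 720 := by
  have h1 : size tl ≤ Nat.card H2 :=
    le_card tl [1, 2] tl_check (by simp) fun T hT => memT T (tl_elts T hT)
  rw [tl_size] at h1
  refine le_antisymm ?_ h1
  classical
  -- lower bounds for the two orbits
  have step : ∀ (K : Subgroup (Equiv.Perm GolayPt)) (b : ℕ), b < 24 → ∀ l : List ℕ,
      (∀ T ∈ l, valid T = true ∧ permOf T ∈ K) →
      ((l.map fun T => pimg T b).toFinset).card *
        Nat.card ↥(K ⊓ MulAction.stabilizer (Equiv.Perm GolayPt) (pt b)) ≤ Nat.card K := by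
    intro K b hb l hl
    let O : Finset GolayPt := (Set.toFinite (MulAction.orbit K (pt b))).toFinset
    have hmem : ∀ y, y ∈ O ↔ ∃ h ∈ K, h (pt b) = y := fun y => by
      simp only [O, Set.Finite.mem_toFinset]
      exact ⟨fun ⟨h, hh⟩ => ⟨h, h.2, hh⟩, fun ⟨h, hm, hh⟩ => ⟨⟨h, hm⟩, hh⟩⟩
    rw [card_eq_card_mul K (pt b) O (fun g hg => (hmem _).2 ⟨g, hg, rfl⟩)
      (fun y hy => (hmem y).1 hy)]
    refine Nat.mul_le_mul_right _ ?_
    rw [← Finset.card_image_of_injective O (f := idx) fun a c h => idx_inj h]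
    refine Finset.card_le_card fun i hi => ?_
    obtain ⟨T, hT, rfl⟩ := List.mem_map.1 (List.mem_toFinset.1 hi)
    obtain ⟨hv, hm⟩ := hl T hT
    exact Finset.mem_image.2 ⟨permOf T (pt b), (hmem _).2 ⟨_, hm, rfl⟩,
      by rw [idx_permOf hv, idx_pt hb]⟩
  have s1 := step Spor.M12 1 (by norm_num) (lev 0) fun T hT => valid_lev (by norm_num) hT
  have s2 := step (fixList Spor.M12 [1]) 2 (by norm_num) (lev 1) fun T hT => by
    obtain ⟨hv, hm⟩ := valid_lev (by norm_num) hT
    refine ⟨hv, mem_fixList.2 ⟨hm, fun b hb => ?_⟩⟩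
    rw [List.mem_singleton.1 hb]
    exact idx_inj (by rw [idx_permOf hv, idx_pt (by norm_num), lev_facts.2.1 T hT])
  have e1 : Spor.M12 ⊓ MulAction.stabilizer (Equiv.Perm GolayPt) (pt 1) =
      fixList Spor.M12 [1] := rfl
  have e2 : fixList Spor.M12 [1] ⊓ MulAction.stabilizer (Equiv.Perm GolayPt) (pt 2) = H2 := rfl
  rw [e1, (by decide +kernel : ((lev 0).map fun T => pimg T 1).toFinset.card = 12),
    GolayM24.card_M12] at s1
  rw [e2, (by decide +kernel : ((lev 1).map fun T => pimg T 2).toFinset.card = 11)] at s2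
  omega

theorem exists_word {g : Equiv.Perm GolayPt} (hg : g ∈ H2) : ∃ w ∈ words tl, ev w = g := by
  obtain ⟨w, hw, hwg, hwT⟩ := exists_sift_aux (H := Spor.M12) tl [1, 2] tl_check (by simp)
    (fun T hT => memT T (tl_elts T hT)) (by rw [card_H2, tl_size]) g hg
  refine ⟨w, mem_words_of_sift _ _ _ hw, Equiv.ext fun x => idx_inj ?_⟩
  rw [hwg, ev_apply fun P hP => valid_of_chain tl _ tl_check P (hwT P hP)]

theorem valid_word {w : List ℕ} (hw : w ∈ words tl) : ∀ P ∈ w, valid P = true :=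
  fun P hP => valid_of_chain tl _ tl_check P (elts_of_words tl hw P hP)

theorem word_mem {w : List ℕ} (hw : w ∈ words tl) : ev w ∈ H2 := by
  have hfix : ∀ T ∈ elts tl, pimg T 1 = 1 ∧ pimg T 2 = 2 := by decide +kernel
  refine Subgroup.list_prod_mem _ ?_
  intro x hx
  obtain ⟨T, hT, rfl⟩ := List.mem_map.1 hx
  have hT' := elts_of_words tl hw T hT
  have hv := valid_of_chain tl _ tl_check T hT'
  exact mem_H2.2 ⟨memT T (tl_elts T hT'),
    idx_inj (by rw [idx_permOf hv, idx_pt (by norm_num), (hfix T hT').1]),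
    idx_inj (by rw [idx_permOf hv, idx_pt (by norm_num), (hfix T hT').2])⟩

/-! ### orders -/

/-- image of a point under a power of a word -/
def iter (w : List ℕ) : ℕ → ℕ → ℕ
  | 0, i => i
  | k + 1, i => wimg w (iter w k i)

/-- a power fixes the base points -/
def fixB (w : List ℕ) (k : ℕ) : Bool := [1, 2, 4, 8, 16].all fun i => iter w k i == i

/-- the word has order exactly `n` -/
def hasOrd (n : ℕ) (w : List ℕ) : Bool :=
  fixB w n && (List.range n).all fun k => k == 0 || !fixB w k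

theorem iter_pow {w : List ℕ} (h : ∀ P ∈ w, valid P = true) :
    ∀ k x, idx ((ev w ^ k) x) = iter w k (idx x)
  | 0, x => rfl
  | k + 1, x => by
    rw [pow_succ', Equiv.Perm.mul_apply, ev_apply h, iter_pow h k, iter]

theorem eq_one_iff {w : List ℕ} (h : ∀ P ∈ w, valid P = true) (hM : ev w ∈ Spor.M12) (k : ℕ) :
    ev w ^ k = 1 ↔ fixB w k = true := by
  have h5 : ∀ i ∈ [1, 2, 4, 8, 16], i < 24 := by decide
  simp only [fixB, List.all_eq_true, beq_iff_eq]
  constructor
  · intro e i hi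
    have := iter_pow h k (pt i)
    rw [e, Equiv.Perm.one_apply, idx_pt (h5 i hi)] at this
    exact this.symm
  · intro e
    obtain ⟨u, hu, hug, -⟩ := exists_sift chainT memT sizeT (pow_mem hM k)
    obtain ⟨u', hu', hug', -⟩ := exists_sift chainT memT sizeT (one_mem Spor.M12)
    have hbase : ∀ l ∈ lvT, l.1 ∈ [1, 2, 4, 8, 16] := by decide +kernel
    have : lvT.map (fun l => idx ((ev w ^ k) (pt l.1))) =
        lvT.map (fun l => idx ((1 : Equiv.Perm GolayPt) (pt l.1))) := by
      refine List.map_congr_left fun l hl => ?_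
      rw [iter_pow h, idx_pt (h5 _ (hbase l hl)), e _ (hbase l hl), Equiv.Perm.one_apply,
        idx_pt (h5 _ (hbase l hl))]
    rw [this, hu'] at hu
    obtain rfl := Option.some.inj hu
    exact Equiv.ext fun x => idx_inj (by rw [hug, hug'])

theorem orderOf_iff {w : List ℕ} (h : ∀ P ∈ w, valid P = true) (hM : ev w ∈ Spor.M12) {n : ℕ}
    (hn : 0 < n) : orderOf (ev w) = n ↔ hasOrd n w = true := by
  rw [orderOf_eq_iff hn, hasOrd, Bool.and_eq_true, eq_one_iff h hM]
  simp only [List.all_eq_true, List.mem_range, Bool.or_eq_true, beq_iff_eq, Bool.not_eq_true']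
  refine and_congr_right fun _ => forall_congr' fun k => ⟨fun e hk => ?_, fun e hk hk0 => ?_⟩
  · rcases Nat.eq_zero_or_pos k with h0 | h0
    · exact Or.inl h0
    · exact Or.inr (Bool.eq_false_iff.2 fun hc => e hk h0 ((eq_one_iff h hM k).2 hc))
  · rw [ne_eq, eq_one_iff h hM]
    rcases e hk with h0 | h0
    · omega
    · simp [h0]

/-- members of order `n` of a set, with the image of point `b` prescribed -/
def fib (S : Set (Equiv.Perm GolayPt)) (n b c : ℕ) : Set (Equiv.Perm GolayPt) :=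
  {g | g ∈ S ∧ orderOf g = n ∧ g (pt b) = pt c}

/-- Splitting a conjugation invariant count by the image of a point. -/
theorem fibre_split (S : Set (Equiv.Perm GolayPt)) (n b c0 c1 : ℕ) (O : List ℕ)
    (hnd : (c0 :: O).Nodup) (hlt : ∀ y ∈ c0 :: O, y < 24)
    (hS : ∀ g ∈ S, idx (g (pt b)) ∈ c0 :: O)
    (htr : ∀ y ∈ O, ∃ k : Equiv.Perm GolayPt, (∀ g, g ∈ S ↔ k * g * k⁻¹ ∈ S) ∧
      k (pt b) = pt b ∧ k (pt c1) = pt y) :
    Nat.card {g // g ∈ S ∧ orderOf g = n} =
      Nat.card (fib S n b c0) + O.length * Nat.card (fib S n b c1) := by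
  classical
  set A : Finset (Equiv.Perm GolayPt) := Finset.univ.filter fun g => g ∈ S ∧ orderOf g = n with hA
  have hc : ∀ c, Nat.card (fib S n b c) = (A.filter fun g => g (pt b) = pt c).card := by
    intro c
    rw [Nat.card_coe_set_eq, ← Set.ncard_coe_finset]
    congr 1
    ext g
    simp [fib, hA, and_assoc]
  have hN : Nat.card {g // g ∈ S ∧ orderOf g = n} = A.card := by
    rw [Nat.card_eq_fintype_card, Fintype.card_subtype]
  rw [hN, Finset.card_eq_sum_card_fiberwise (f := fun g => idx (g (pt b)))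
    (t := (c0 :: O).toFinset) fun g hg => by
      simp only [hA, Finset.coe_filter, Set.mem_setOf_eq] at hg
      simpa using hS g hg.2.1]
  have key : ∀ y ∈ c0 :: O, (A.filter fun g => idx (g (pt b)) = y).card =
      Nat.card (fib S n b y) := by
    intro y hy
    rw [hc]
    congr 1
    refine Finset.filter_congr fun g _ => ?_
    exact ⟨fun h => idx_inj (by rw [h, idx_pt (hlt y hy)]), fun h => by rw [h, idx_pt (hlt y hy)]⟩
  rw [List.toFinset_cons, Finset.sum_insert (by simpa using (List.nodup_cons.1 hnd).1),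
    key c0 List.mem_cons_self]
  congr 1
  rw [Finset.sum_eq_card_nsmul (b := Nat.card (fib S n b c1)),
    List.toFinset_card_of_nodup (List.nodup_cons.1 hnd).2, smul_eq_mul]
  intro y hy
  rw [List.mem_toFinset] at hy
  rw [key y (List.mem_cons_of_mem _ hy)]
  obtain ⟨k, hkS, hkb, hky⟩ := htr y hy
  have hkb' : k⁻¹ (pt b) = pt b := by rw [Equiv.Perm.inv_eq_iff_eq, hkb]
  refine (Nat.card_congr (((MulAut.conj k).toEquiv).subtypeEquiv fun g => ?_)).symm
  show g ∈ fib S n b c1 ↔ k * g * k⁻¹ ∈ fib S n b y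
  simp only [fib, Set.mem_setOf_eq, ← hkS]
  have ho : orderOf (k * g * k⁻¹) = orderOf g := (MulAut.conj k).orderOf_eq g
  rw [ho]
  refine and_congr_right fun _ => and_congr_right fun _ => ?_
  rw [Equiv.Perm.mul_apply, Equiv.Perm.mul_apply, hkb', ← hky, k.injective.eq_iff]

/-- counting positions -/
theorem countP_fin {α : Type*} (p : α → Bool) : ∀ l : List α, (Finset.univ.filter fun i : Fin l.length => p l[i.1] = true).card = l.countP p
  | [] => by simp
  | a :: l => by
    have ih := countP_fin p l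
    have h : (Finset.univ.filter fun i : Fin (l.length + 1) => p (a :: l)[i.1] = true).card = _ :=
      Fin.card_filter_univ_succ (fun i : Fin (l.length + 1) => p (a :: l)[i.1] = true)
    refine h.trans ?_
    rw [List.countP_cons, ← ih]
    by_cases hp : p a = true <;> simp [hp, List.getElem_cons_succ]

/-- members of order `n` carrying the first two base points to `a`, `c` -/
def coset (n a c : ℕ) : ℕ := (words tl).countP fun w => hasOrd n (pfx a c ++ w)

/-- the prefix is right -/
def pfxOK (a c : ℕ) : Bool :=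
  decide (a < 24) && decide (c < 24) && (pfx a c).all (fun T => (elts lvT).contains T) &&
    wimg (pfx a c) 1 == a && wimg (pfx a c) 2 == c

theorem card_coset {n a c : ℕ} (hn : 0 < n) (h : pfxOK a c = true) :
    Nat.card (fib {g | g ∈ Spor.M12 ∧ g (pt 1) = pt a} n 2 c) = coset n a c := by
  classical
  simp only [pfxOK, Bool.and_eq_true, decide_eq_true_eq, List.all_eq_true, List.contains_iff_mem,
    beq_iff_eq] at h
  obtain ⟨⟨⟨⟨ha, hcl⟩, hel⟩, h1⟩, h2⟩ := h
  have hpv : ∀ P ∈ pfx a c, valid P = true := fun P hP => valid_of_chain lvT [] chainT P (hel P hP)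
  set t := ev (pfx a c) with ht
  have htM : t ∈ Spor.M12 := Subgroup.list_prod_mem _ fun x hx => by
    obtain ⟨T, hT, rfl⟩ := List.mem_map.1 hx
    exact memT T (hel T hT)
  have ht1 : t (pt 1) = pt a :=
    idx_inj (by rw [ev_apply hpv, idx_pt (by norm_num), idx_pt ha, h1])
  have ht2 : t (pt 2) = pt c :=
    idx_inj (by rw [ev_apply hpv, idx_pt (by norm_num), idx_pt hcl, h2])
  have hev : ∀ w, ev (pfx a c ++ w) = t * ev w := fun w => by simp [ev, ht]
  let Φ : Fin (words tl).length → {g // g ∈ Spor.M12 ∧ g (pt 1) = pt a ∧ g (pt 2) = pt c} :=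
    fun i => ⟨t * ev (words tl)[i.1], by
      obtain ⟨hm, e1, e2⟩ := mem_H2.1 (word_mem (List.getElem_mem i.2))
      exact ⟨mul_mem htM hm, by rw [Equiv.Perm.mul_apply, e1, ht1],
        by rw [Equiv.Perm.mul_apply, e2, ht2]⟩⟩
  have hin : ∀ g ∈ Spor.M12, g (pt 1) = pt a → g (pt 2) = pt c → t⁻¹ * g ∈ H2 := by
    intro g hg e1 e2
    refine mem_H2.2 ⟨mul_mem (inv_mem htM) hg, ?_, ?_⟩
    · rw [Equiv.Perm.mul_apply, e1, ← ht1, ← Equiv.Perm.mul_apply, inv_mul_cancel,
        Equiv.Perm.one_apply]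
    · rw [Equiv.Perm.mul_apply, e2, ← ht2, ← Equiv.Perm.mul_apply, inv_mul_cancel,
        Equiv.Perm.one_apply]
  have hsurj : Function.Surjective Φ := by
    intro g
    obtain ⟨w, hw, hwg⟩ := exists_word (hin g.1 g.2.1 g.2.2.1 g.2.2.2)
    obtain ⟨i, hi, hiw⟩ := List.getElem_of_mem hw
    exact ⟨⟨i, hi⟩, Subtype.ext (by simp only [Φ, hiw, hwg, mul_inv_cancel_left])⟩
  have hbij : Function.Bijective Φ := by
    haveI : Fintype {g // g ∈ Spor.M12 ∧ g (pt 1) = pt a ∧ g (pt 2) = pt c} := Fintype.ofFinite _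
    refine (Fintype.bijective_iff_surjective_and_card Φ).2 ⟨hsurj, ?_⟩
    rw [Fintype.card_fin, length_words, tl_size, Fintype.card_eq_nat_card, ← card_H2]
    exact Nat.card_congr
      { toFun := fun k => ⟨t * k.1, by
          obtain ⟨hm, e1, e2⟩ := mem_H2.1 k.2
          exact ⟨mul_mem htM hm, by rw [Equiv.Perm.mul_apply, e1, ht1],
            by rw [Equiv.Perm.mul_apply, e2, ht2]⟩⟩
        invFun := fun g => ⟨t⁻¹ * g.1, hin g.1 g.2.1 g.2.2.1 g.2.2.2⟩
        left_inv := fun k => Subtype.ext (inv_mul_cancel_left _ _)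
        right_inv := fun g => Subtype.ext (mul_inv_cancel_left _ _) }
  have hiff : ∀ i : Fin (words tl).length,
      orderOf (Φ i).1 = n ↔ hasOrd n (pfx a c ++ (words tl)[i.1]) = true := by
    intro i
    have hv : ∀ P ∈ pfx a c ++ (words tl)[i.1], valid P = true := by
      intro P hP
      rcases List.mem_append.1 hP with hP | hP
      · exact hpv P hP
      · exact valid_word (List.getElem_mem i.2) P hP
    rw [← orderOf_iff hv (by rw [hev]; exact (Φ i).2.1) hn, hev]
  calc Nat.card (fib {g | g ∈ Spor.M12 ∧ g (pt 1) = pt a} n 2 c)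
      = Nat.card {g : {g // g ∈ Spor.M12 ∧ g (pt 1) = pt a ∧ g (pt 2) = pt c} //
          orderOf g.1 = n} := Nat.card_congr
        { toFun := fun g => ⟨⟨g.1, g.2.1.1, g.2.1.2, g.2.2.2⟩, g.2.2.1⟩
          invFun := fun g => ⟨g.1.1, ⟨g.1.2.1, g.1.2.2.1⟩, g.2, g.1.2.2.2⟩
          left_inv := fun g => rfl
          right_inv := fun g => rfl }
    _ = Nat.card {i : Fin (words tl).length //
          hasOrd n (pfx a c ++ (words tl)[i.1]) = true} :=
        (Nat.card_congr ((Equiv.ofBijective Φ hbij).subtypeEquiv fun i => (hiff i).symm)).symm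
    _ = coset n a c := by
        rw [Nat.card_eq_fintype_card, Fintype.card_subtype, coset]
        exact countP_fin (fun w => hasOrd n (pfx a c ++ w)) (words tl)

/-- the other eleven points -/
def others : List ℕ := dod.erase 1

/-- the remaining ten points -/
def rest2 : List ℕ := (dod.erase 1).erase 2

theorem pts_facts : (1 :: others).Nodup ∧ (∀ y ∈ 1 :: others, y < 24) ∧ others.length = 11 ∧
    (2 :: rest2).Nodup ∧ (∀ y ∈ 2 :: rest2, y < 24) ∧ rest2.length = 10 ∧
    (1 :: rest2).Nodup ∧ (∀ y ∈ 1 :: rest2, y < 24) ∧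
    (∀ y ∈ dod, y ∈ 1 :: others) ∧ (∀ y ∈ dod, y = 1 ∨ y = 2 ∨ y ∈ rest2) ∧
    (1 ∈ dod ∧ 2 ∈ dod) ∧ pimg 0 0 = 0 := by decide +kernel

theorem pfx_facts : pfxOK 1 2 = true ∧ pfxOK 1 4 = true ∧ pfxOK 2 1 = true ∧ pfxOK 2 4 = true := by
  decide +kernel

theorem trans_facts : (∀ y ∈ others, pick 1 2 y ∈ lev 1 ∧ pimg (pick 1 2 y) 2 = y) ∧
    (∀ y ∈ rest2, pick 2 4 y ∈ lev 2 ∧ pimg (pick 2 4 y) 4 = y) := by decide +kernel

theorem inv_fix {k : Equiv.Perm GolayPt} {x : GolayPt} (h : k x = x) : k⁻¹ x = x := by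
  rw [Equiv.Perm.inv_eq_iff_eq, h]

/-- The count in terms of four cosets. -/
theorem count_eq {n : ℕ} (hn : 0 < n) : Nat.card {g : Spor.M12 // orderOf g = n} =
    coset n 1 2 + 10 * coset n 1 4 + 11 * (coset n 2 1 + 10 * coset n 2 4) := by
  classical
  obtain ⟨nd1, lt1, l1, nd2, lt2, l2, nd3, lt3, d1, d2, hd, -⟩ := pts_facts
  -- transitivity witnesses
  have w1 : ∀ y ∈ others, ∃ k ∈ Spor.M12, k (pt 1) = pt 1 ∧ k (pt 2) = pt y := by
    intro y hy
    obtain ⟨hm, he⟩ := trans_facts.1 y hy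
    obtain ⟨hv, hM⟩ := valid_lev (by norm_num) hm
    exact ⟨_, hM, idx_inj (by rw [idx_permOf hv, idx_pt (by norm_num), lev_facts.2.1 _ hm]),
      idx_inj (by rw [idx_permOf hv, idx_pt (by norm_num), he,
        idx_pt (lt1 y (List.mem_cons_of_mem _ hy))])⟩
  have w2 : ∀ y ∈ rest2, ∃ k ∈ Spor.M12, k (pt 1) = pt 1 ∧ k (pt 2) = pt 2 ∧ k (pt 4) = pt y := by
    intro y hy
    obtain ⟨hm, he⟩ := trans_facts.2 y hy
    obtain ⟨hv, hM⟩ := valid_lev (by norm_num) hm
    exact ⟨_, hM, idx_inj (by rw [idx_permOf hv, idx_pt (by norm_num), (lev_facts.2.2 _ hm).1]),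
      idx_inj (by rw [idx_permOf hv, idx_pt (by norm_num), (lev_facts.2.2 _ hm).2]),
      idx_inj (by rw [idx_permOf hv, idx_pt (by norm_num), he,
        idx_pt (lt2 y (List.mem_cons_of_mem _ hy))])⟩
  have hconj : ∀ {k : Equiv.Perm GolayPt}, k ∈ Spor.M12 → ∀ g,
      g ∈ Spor.M12 ↔ k * g * k⁻¹ ∈ Spor.M12 := fun {k} hk g =>
    ⟨fun hg => mul_mem (mul_mem hk hg) (inv_mem hk), fun hg => by
      have := mul_mem (mul_mem (inv_mem hk) hg) hk
      simpa [mul_assoc] using this⟩
  have hsub : Nat.card {g : Spor.M12 // orderOf g = n} =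
      Nat.card {g : Equiv.Perm GolayPt // g ∈ (Spor.M12 : Set (Equiv.Perm GolayPt)) ∧ orderOf g = n} :=
    Nat.card_congr
      { toFun := fun g => ⟨g.1.1, g.1.2, by rw [Subgroup.orderOf_coe]; exact g.2⟩
        invFun := fun g => ⟨⟨g.1, g.2.1⟩, by rw [← Subgroup.orderOf_coe]; exact g.2.2⟩
        left_inv := fun g => rfl
        right_inv := fun g => rfl }
  rw [hsub, fibre_split (Spor.M12 : Set (Equiv.Perm GolayPt)) n 1 1 2 others nd1 lt1
    (fun g hg => d1 _ (orbit_dod hg hd.1)) (fun y hy => by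
      obtain ⟨k, hk, e1, e2⟩ := w1 y hy
      exact ⟨k, hconj hk, e1, e2⟩), l1]
  have hfib : ∀ a : ℕ, Nat.card (fib (Spor.M12 : Set (Equiv.Perm GolayPt)) n 1 a) =
      Nat.card {g // g ∈ {g | g ∈ Spor.M12 ∧ g (pt 1) = pt a} ∧ orderOf g = n} := fun a =>
    Nat.card_congr (Equiv.subtypeEquivRight fun g => by
      simp only [fib, Set.mem_setOf_eq, SetLike.mem_coe]
      tauto)
  rw [hfib 1, hfib 2]
  have hconj2 : ∀ {k : Equiv.Perm GolayPt}, k ∈ Spor.M12 → k (pt 1) = pt 1 →
      ∀ {a : GolayPt}, k a = a → ∀ g,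
      g ∈ {g | g ∈ Spor.M12 ∧ g (pt 1) = a} ↔ k * g * k⁻¹ ∈ {g | g ∈ Spor.M12 ∧ g (pt 1) = a} :=
    fun {k} hk h1 {a} ha g => by
      simp only [Set.mem_setOf_eq, ← hconj hk g]
      refine and_congr_right fun _ => ?_
      rw [Equiv.Perm.mul_apply, Equiv.Perm.mul_apply, inv_fix h1]
      exact ⟨fun e => by rw [e, ha], fun e => k.injective (by rw [e, ha])⟩
  rw [fibre_split {g | g ∈ Spor.M12 ∧ g (pt 1) = pt 1} n 2 2 4 rest2 nd2 lt2
    (fun g hg => by
      rcases d2 _ (orbit_dod hg.1 hd.2) with h | h | h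
      · exfalso
        have : g (pt 2) = g (pt 1) := by
          rw [hg.2]; exact idx_inj (by rw [h, idx_pt (by norm_num)])
        have h12 := congrArg idx (g.injective this)
        rw [idx_pt (by norm_num), idx_pt (by norm_num)] at h12
        omega
      · simp [h]
      · simp [h]) (fun y hy => by
      obtain ⟨k, hk, e1, e2, e3⟩ := w2 y hy
      exact ⟨k, hconj2 hk e1 e1, e2, e3⟩),
    fibre_split {g | g ∈ Spor.M12 ∧ g (pt 1) = pt 2} n 2 1 4 rest2 nd3 lt3
    (fun g hg => by
      rcases d2 _ (orbit_dod hg.1 hd.2) with h | h | h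
      · simp [h]
      · exfalso
        have : g (pt 2) = g (pt 1) := by
          rw [hg.2]; exact idx_inj (by rw [h, idx_pt (by norm_num)])
        have h12 := congrArg idx (g.injective this)
        rw [idx_pt (by norm_num), idx_pt (by norm_num)] at h12
        omega
      · simp [h]) (fun y hy => by
      obtain ⟨k, hk, e1, e2, e3⟩ := w2 y hy
      exact ⟨k, hconj2 hk e1 e2, e2, e3⟩), l2,
    card_coset hn pfx_facts.1, card_coset hn pfx_facts.2.1, card_coset hn pfx_facts.2.2.1,
    card_coset hn pfx_facts.2.2.2]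

/-- The number of elements of each order, as a check on the four cosets. -/
def okVal (e : ℕ × ℕ) : Bool :=
  coset e.1 1 2 + 10 * coset e.1 1 4 + 11 * (coset e.1 2 1 + 10 * coset e.1 2 4) == e.2

end Cfsg.Agent.M12Nse51
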