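import Cfsg.Agent.Lib.M12Nse51Pivot
import Cfsg.Prelude.Def_Solvable

/-!
The local facts at a central involution.
-/

set_option autoImplicit false

namespace Cfsg.Agent.M12Nse51

/-- What is proved about the centraliser of the central involution. -/
structure Local {G : Type*} [Group G] (S : Sylow 2 G) (s z g : G) : Prop where
  /-- the pivot -/
  pivot : Pivot S s z g
  /-- the order of the centraliser -/
  zcard : Nat.card (Subgroup.centralizer ({z} : Set G)) = 192
  /-- two classes of involutions -/
  classes : ∀ i : G, orderOf i = 2 → IsConj s i ∨ IsConj z i
  /-- the elements of order three of the centraliser -/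
  threes : Nat.card {a : G // Commute a z ∧ orderOf a = 3} = 32
  /-- no normal subgroup of odd order -/
  core : Cfsg.pPrimeCore 2 (Subgroup.centralizer ({z} : Set G)) = ⊥

end Cfsg.Agent.M12Nse51
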