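import Cfsg.Agent.Lib.M12Nse51Ctx
import Cfsg.Agent.Lib.SymplecticType

/-!
# The 2-core of the centraliser of the central involution

It is extraspecial of order 32 and contains another conjugate of the involution.
-/

set_option autoImplicit false
set_option linter.style.haveILetI false

namespace Cfsg.Agent.M12Nse51

open Subgroup
open scoped commutatorElement

universe u

variable {G : Type u} [Group G]

/-- A set cyclically permuted with two fixed points. -/
theorem card_mod_three {α : Type*} [Finite α] (f : Equiv.Perm α) (hf : f ^ 3 = 1) :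
    Nat.card α % 3 = Nat.card {a : α // f a = a} % 3 := by
  classical
  haveI := Fintype.ofFinite α
  haveI : Fact (Nat.Prime 3) := ⟨Nat.prime_three⟩
  have h := Equiv.Perm.card_compl_support_modEq (p := 3) (n := 1) (σ := f) (by rwa [pow_one])
  rw [Nat.card_eq_fintype_card, Nat.card_eq_fintype_card, Fintype.card_subtype]
  have he : f.supportᶜ = Finset.univ.filter fun a => f a = a := by
    ext a; simp
  rw [he] at h
  exact h.symm

/-- An automorphism of order three without fixed points on a group of order sixteen. -/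
theorem comm_of_fpf {P : Type*} [Group P] [Finite P] (hP : Nat.card P = 16) (φ : P →* P)
    (hφ : ∀ p, φ (φ (φ p)) = p) (hfix : ∀ p, φ p = p → p = 1) : ∀ a b : P, a * b = b * a := by
  classical
  haveI : Fact (Nat.Prime 2) := ⟨Nat.prime_two⟩
  have hinj : Function.Injective φ := fun a b e => by rw [← hφ a, ← hφ b, e]
  have hψ : Function.Bijective fun p => p⁻¹ * φ p := by
    refine Finite.injective_iff_bijective.mp fun a b (e : a⁻¹ * φ a = b⁻¹ * φ b) => ?_
    have h1 : φ (b * a⁻¹) = b * a⁻¹ := by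
      rw [map_mul, map_inv]
      calc φ b * (φ a)⁻¹ = b * (b⁻¹ * φ b) * (a⁻¹ * φ a)⁻¹ * a⁻¹ := by group
        _ = b * a⁻¹ := by rw [e]; group
    exact (mul_inv_eq_one.mp (hfix _ h1)).symm
  have hcm : ∀ p, p * φ p = φ p * p := by
    intro p
    have key : ∀ q, q * φ q * φ (φ q) = 1 := by
      intro q
      obtain ⟨y, rfl⟩ := hψ.2 q
      simp only [map_mul, map_inv, hφ]
      group
    have hψ' : Function.Surjective fun p => p⁻¹ * φ (φ p) := by
      refine (Finite.injective_iff_surjective).mp fun a b (e : a⁻¹ * φ (φ a) = b⁻¹ * φ (φ b)) => ?_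
      have h1 : φ (φ (b * a⁻¹)) = b * a⁻¹ := by
        rw [map_mul, map_inv, map_mul, map_inv]
        calc φ (φ b) * (φ (φ a))⁻¹ = b * (b⁻¹ * φ (φ b)) * (a⁻¹ * φ (φ a))⁻¹ * a⁻¹ := by group
          _ = b * a⁻¹ := by rw [e]; group
      refine (mul_inv_eq_one.mp (hfix _ ?_)).symm
      have h2 := congrArg φ h1
      rw [hφ] at h2
      exact h2.symm
    have key2 : ∀ q, q * φ (φ q) * φ q = 1 := by
      intro q
      obtain ⟨y, rfl⟩ := hψ' q
      simp only [map_mul, map_inv, hφ]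
      group
    have h1 : φ p * φ (φ p) = φ (φ p) * φ p := by
      have a1 := key p
      have a2 := key2 p
      rw [mul_assoc, mul_eq_one_iff_inv_eq] at a1 a2
      rw [← a1, ← a2]
    have h3 := congrArg (fun v => φ (φ v)) h1
    simp only [map_mul, hφ] at h3
    exact h3
  by_contra hna
  push Not at hna
  obtain ⟨a₀, b₀, hab⟩ := hna
  have hZ : ∀ H : Subgroup P, (∀ p ∈ H, φ p ∈ H) → Nat.card H % 3 = 1 := by
    intro H hH
    let f : Equiv.Perm H :=
      { toFun := fun p => ⟨φ p, hH p p.2⟩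
        invFun := fun p => ⟨φ (φ p), hH _ (hH p p.2)⟩
        left_inv := fun p => Subtype.ext (hφ p)
        right_inv := fun p => Subtype.ext (hφ p) }
    rw [card_mod_three f (Equiv.ext fun p => Subtype.ext (hφ p.1))]
    rw [Nat.card_eq_one_iff_unique.mpr ⟨⟨fun p q => ?_⟩, ⟨1, Subtype.ext (map_one φ)⟩⟩]
    exact Subtype.ext (Subtype.ext ((hfix _ (congrArg Subtype.val p.2)).trans
      (hfix _ (congrArg Subtype.val q.2)).symm))
  set Z := Subgroup.center P
  have hZi : ∀ p ∈ Z, φ p ∈ Z := fun p hp => mem_center_iff.mpr fun q => by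
    obtain ⟨q, rfl⟩ := Finite.injective_iff_surjective.mp hinj q
    rw [← map_mul, ← map_mul, mem_center_iff.mp hp q]
  obtain ⟨a, ha⟩ : ∃ a, a ∉ Z := ⟨a₀, fun h => hab (mem_center_iff.mp h b₀).symm⟩
  -- the centraliser of an element outside the centre
  let T := Subgroup.centralizer ({a} : Set P)
  have hZT : Z ≤ T := fun p hp => mem_centralizer_singleton_iff.mpr (mem_center_iff.mp hp a).symm
  have hφa : φ a ∈ T := mem_centralizer_singleton_iff.mpr (hcm a).symm
  have hT : T ≠ ⊤ := fun e => ha (mem_center_iff.mpr fun q =>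
    mem_centralizer_singleton_iff.mp (show q ∈ T by rw [e]; exact mem_top q))
  have hlt : Z < T := lt_of_le_of_ne hZT fun e => ha (by rw [e]; exact mem_centralizer_singleton_iff.mpr rfl)
  have hdT : Nat.card T ∣ 2 ^ 4 := by
    have := T.card_subgroup_dvd_card
    rwa [hP] at this
  have hdZ : Nat.card Z ∣ Nat.card T := Subgroup.card_dvd_of_le hZT
  obtain ⟨k, hk, hkT⟩ := (Nat.dvd_prime_pow Nat.prime_two).mp hdT
  obtain ⟨l, hl, hlZ⟩ := (Nat.dvd_prime_pow Nat.prime_two).mp (hdZ.trans hdT)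
  have hlk : l < k := (Nat.pow_lt_pow_iff_right (by norm_num : 1 < 2)).mp
    (hlZ ▸ hkT ▸ lt_of_le_of_ne (Subgroup.card_le_of_le hZT) (fun e =>
      hlt.ne (Subgroup.eq_of_le_of_card_ge hZT e.ge)))
  have hk4 : k ≠ 4 := fun e => hT (Subgroup.eq_top_of_card_eq T (by rw [hkT, e, hP]; rfl))
  have hl0 : l ≠ 0 := fun e => by
    have hnt : Nontrivial P := Finite.one_lt_card_iff_nontrivial.mp (by omega)
    have := (IsPGroup.of_card (p := 2) (n := 4) (G := P) (by rw [hP]; rfl)).center_nontrivial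
    have h2 := Finite.one_lt_card (α := Z)
    rw [hlZ, e] at h2
    exact absurd h2 (by norm_num)
  have hl2 : l = 2 := by
    have := hZ Z hZi
    rw [hlZ] at this
    have : l = 1 ∨ l = 2 := by omega
    rcases this with rfl | rfl
    · norm_num at *
    · rfl
  have hk3 : k = 3 := by omega
  -- so the image of `a` lies in the coset of `a`
  have hidx : (Z.subgroupOf T).index = 2 := by
    have h1 := (Z.subgroupOf T).index_mul_card
    rw [Nat.card_congr (Subgroup.subgroupOfEquivOfLe hZT).toEquiv, hlZ, hkT, hl2, hk3] at h1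
    omega
  have hmem : a⁻¹ * φ a ∈ Z := by
    have h1 := Subgroup.mul_mem_iff_of_index_two hidx
      (a := (⟨a, mem_centralizer_singleton_iff.mpr rfl⟩ : T)⁻¹) (b := ⟨φ a, hφa⟩)
    simp only [Subgroup.mem_subgroupOf, Subgroup.coe_mul, InvMemClass.coe_inv, inv_mem_iff] at h1
    refine h1.mpr ⟨fun h => absurd h ha, fun h => absurd ?_ ha⟩
    have := hZi _ (hZi _ h)
    rwa [hφ] at this
  have hres : ∀ p : Z, (p : P)⁻¹ * φ p ∈ Z := fun p => mul_mem (inv_mem p.2) (hZi _ p.2)
  obtain ⟨w, hw⟩ := (Finite.injective_iff_surjective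
    (f := fun p : Z => (⟨(p : P)⁻¹ * φ p, hres p⟩ : Z))).mp
    (fun p q e => Subtype.ext (hψ.1 (congrArg Subtype.val e))) ⟨_, hmem⟩
  exact ha (hψ.1 (congrArg Subtype.val hw) ▸ w.2)

section Core

variable [Finite G] (h : Data G) {S : Sylow 2 G} {s z g : G} (L : Local S s z g)

variable {C : Subgroup G} {Q : Subgroup G}

/-- The hypotheses on the normal 2-subgroup. -/
structure CoreHyp (z x : G) (Q : Subgroup G) : Prop where
  card : Nat.card Q = 32
  zmem : z ∈ Q
  comm : ∀ q ∈ Q, Commute q z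
  norm : ∀ c : G, Commute c z → ∀ q ∈ Q, c * q * c⁻¹ ∈ Q
  cx : Commute x z
  ox : orderOf x = 3
  fix : ∀ q ∈ Q, Commute q x → q = 1 ∨ q = z

include L in
theorem z_sq : z * z = 1 := by
  have := pow_orderOf_eq_one z
  rwa [L.pivot.zord, pow_two] at this

include L in
theorem zpowers_cases {w : G} (hw : w ∈ Subgroup.zpowers z) : w = 1 ∨ w = z := by
  obtain ⟨k, rfl⟩ := mem_zpowers_iff.mp hw
  have hz : z ^ (2 : ℤ) = 1 := by rw [zpow_two]; exact z_sq L
  rcases Int.even_or_odd k with ⟨j, rfl⟩ | ⟨j, rfl⟩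
  · exact Or.inl (by rw [← two_mul, zpow_mul, hz, one_zpow])
  · exact Or.inr (by rw [zpow_add, zpow_mul, hz, one_zpow, one_mul, zpow_one])

theorem CoreHyp.x_mem {x : G} (H : CoreHyp z x Q) {q : G} (hq : q ∈ Q) : x * q * x⁻¹ ∈ Q :=
  H.norm x H.cx q hq

theorem CoreHyp.x_cube {x : G} (H : CoreHyp z x Q) (q : G) :
    x * (x * (x * q * x⁻¹) * x⁻¹) * x⁻¹ = q := by
  have h3 : x ^ 3 = 1 := H.ox ▸ pow_orderOf_eq_one x
  calc x * (x * (x * q * x⁻¹) * x⁻¹) * x⁻¹ = x ^ 3 * q * (x ^ 3)⁻¹ := by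
        simp only [pow_succ, pow_zero, one_mul, mul_inv_rev, mul_assoc]
    _ = q := by rw [h3, one_mul, inv_one, mul_one]

include L in
/-- Subgroups invariant under the element of order three. -/
theorem CoreHyp.card_inv {x : G} (H : CoreHyp z x Q) {T : Subgroup G} (hT : T ≤ Q)
    (hinv : ∀ t ∈ T, x * t * x⁻¹ ∈ T) :
    (z ∈ T → Nat.card T % 3 = 2) ∧ (z ∉ T → Nat.card T % 3 = 1) := by
  classical
  let f : Equiv.Perm T :=
    { toFun := fun p => ⟨x * p * x⁻¹, hinv p p.2⟩
      invFun := fun p => ⟨x * (x * p * x⁻¹) * x⁻¹, hinv _ (hinv p p.2)⟩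
      left_inv := fun p => Subtype.ext (H.x_cube _)
      right_inv := fun p => Subtype.ext (H.x_cube _) }
  have hf := card_mod_three f (Equiv.ext fun p => Subtype.ext (H.x_cube _))
  have hsub : ∀ p : {p : T // f p = p}, (p.1.1 : G) = 1 ∨ (p.1.1 : G) = z := fun p =>
    H.fix _ (hT p.1.2) (by
      have := congrArg Subtype.val p.2
      exact (mul_inv_eq_iff_eq_mul.mp this).symm)
  constructor
  · intro hz
    have hc : Nat.card {p : T // f p = p} = 2 := by
      rw [Nat.card_eq_two_iff]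
      refine ⟨⟨1, Subtype.ext (by simp [f])⟩, ⟨⟨z, hz⟩, Subtype.ext ?_⟩, ?_, ?_⟩
      · show x * z * x⁻¹ = z
        rw [H.cx.eq, mul_inv_cancel_right]
      · intro e
        have := congrArg (fun p : {p : T // f p = p} => (p.1.1 : G)) e
        have h1 : z = 1 := this.symm
        have := L.pivot.zord
        rw [h1, orderOf_one] at this
        omega
      · refine Set.eq_univ_of_forall fun p => ?_
        rcases hsub p with e | e
        · exact Or.inl (Subtype.ext (Subtype.ext e))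
        · exact Or.inr (Subtype.ext (Subtype.ext e))
    rw [hf, hc]
  · intro hz
    have hc : Nat.card {p : T // f p = p} = 1 := by
      refine Nat.card_eq_one_iff_unique.mpr ⟨⟨fun p q => ?_⟩, ⟨1, Subtype.ext (by simp [f])⟩⟩
      have hp : ∀ p : {p : T // f p = p}, (p.1.1 : G) = 1 := fun p =>
        (hsub p).resolve_right fun e => hz (e ▸ p.1.2)
      exact Subtype.ext (Subtype.ext ((hp p).trans (hp q).symm))
    rw [hf, hc]

include L in
/-- Commutators of the core lie in the group of the involution. -/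
theorem CoreHyp.comm_mem {x : G} (H : CoreHyp z x Q) :
    ∀ p ∈ Q, ∀ q ∈ Q, p * q * p⁻¹ * q⁻¹ = 1 ∨ p * q * p⁻¹ * q⁻¹ = z := by
  classical
  set N : Subgroup Q := Subgroup.zpowers ⟨z, H.zmem⟩ with hN
  haveI : N.Normal := ⟨fun n hn c => by
    obtain ⟨k, rfl⟩ := mem_zpowers_iff.mp hn
    have hcz : Commute c (⟨z, H.zmem⟩ : Q) := Subtype.ext (H.comm c c.2).eq
    rw [(hcz.zpow_right k).eq, mul_inv_cancel_right]
    exact zpow_mem (mem_zpowers _) k⟩
  have hzo : orderOf (⟨z, H.zmem⟩ : Q) = 2 := by rw [Subgroup.orderOf_mk, L.pivot.zord]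
  have hNm : ∀ q : Q, q ∈ N ↔ (q : G) = 1 ∨ (q : G) = z := by
    intro q
    constructor
    · intro hq
      obtain ⟨k, hk⟩ := mem_zpowers_iff.mp hq
      refine zpowers_cases L (mem_zpowers_iff.mpr ⟨k, ?_⟩)
      rw [← hk]; rfl
    · rintro (e | e)
      · rw [show q = 1 from Subtype.ext e]; exact one_mem _
      · rw [show q = ⟨z, H.zmem⟩ from Subtype.ext e]; exact mem_zpowers _
  let c : Q →* Q :=
    { toFun := fun q => ⟨x * q * x⁻¹, H.x_mem q.2⟩
      map_one' := Subtype.ext (by simp)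
      map_mul' := fun a b => Subtype.ext (by simp [mul_assoc]) }
  let φ : Q ⧸ N →* Q ⧸ N := QuotientGroup.map N N c (fun q hq => by
    rw [mem_comap, hNm]
    show x * (q : G) * x⁻¹ = 1 ∨ x * (q : G) * x⁻¹ = z
    rcases (hNm q).mp hq with e | e <;> rw [e]
    · exact Or.inl (by simp)
    · exact Or.inr (by rw [H.cx.eq, mul_inv_cancel_right]))
  have hcard : Nat.card (Q ⧸ N) = 16 := by
    have h1 := Subgroup.card_eq_card_quotient_mul_card_subgroup N
    have hNc : Nat.card N = 2 := by rw [hN, Nat.card_zpowers, hzo]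
    rw [H.card, hNc] at h1
    omega
  have hab := comm_of_fpf hcard φ (fun p => by
    obtain ⟨p, rfl⟩ := QuotientGroup.mk_surjective p
    show ((c (c (c p)) : Q) : Q ⧸ N) = p
    exact congrArg _ (Subtype.ext (H.x_cube _))) (fun p hp => by
    obtain ⟨p, rfl⟩ := QuotientGroup.mk_surjective p
    have h1 : (c p)⁻¹ * p ∈ N := QuotientGroup.eq.mp hp
    refine (QuotientGroup.eq_one_iff p).mpr ((hNm p).mpr ?_)
    rcases (hNm _).mp h1 with e | e
    · have e' : x * (p : G) * x⁻¹ = p := inv_mul_eq_one.mp e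
      exact H.fix _ p.2 (mul_inv_eq_iff_eq_mul.mp e').symm
    · -- then the cube moves `p` by `z`
      exfalso
      have e' : x * (p : G) * x⁻¹ = p * z := by
        have e2 : (p : G) = x * p * x⁻¹ * z := inv_mul_eq_iff_eq_mul.mp e
        calc x * (p : G) * x⁻¹ = x * p * x⁻¹ * (z * z) := by rw [z_sq L, mul_one]
          _ = p * z := by rw [← mul_assoc, ← e2]
      have h3 := H.x_cube (p : G)
      have hxz : x * z * x⁻¹ = z := by rw [H.cx.eq, mul_inv_cancel_right]
      have step : ∀ w : G, x * (w * z) * x⁻¹ = x * w * x⁻¹ * z := fun w => by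
        calc x * (w * z) * x⁻¹ = x * w * x⁻¹ * (x * z * x⁻¹) := by group
          _ = x * w * x⁻¹ * z := by rw [hxz]
      rw [e', step, e', step, step, e', mul_assoc (p : G) z z, z_sq L, mul_one] at h3
      have hz1 : z = 1 := mul_left_cancel (a := (p : G)) (by rw [h3, mul_one])
      have := L.pivot.zord
      rw [hz1, orderOf_one] at this
      omega)
  intro p hp q hq
  have h1 := hab (⟨p, hp⟩ : Q) (⟨q, hq⟩ : Q)
  have h2 : (⟨p, hp⟩ * ⟨q, hq⟩ * ⟨p, hp⟩⁻¹ * ⟨q, hq⟩⁻¹ : Q) ∈ N := by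
    rw [← QuotientGroup.eq_one_iff]
    simp only [QuotientGroup.mk_mul, QuotientGroup.mk_inv]
    rw [h1]
    group
  exact (hNm _).mp h2

include L in
theorem CoreHyp.sq_comm {x : G} (H : CoreHyp z x Q) {p q : G} (hp : p ∈ Q) (hq : q ∈ Q) :
    Commute (p * p) q := by
  rcases H.comm_mem L p hp q hq with e | e
  · have h1 : Commute p q := by
      show p * q = q * p
      calc p * q = (p * q * p⁻¹ * q⁻¹) * (q * p) := by group
        _ = q * p := by rw [e, one_mul]
    exact h1.mul_left h1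
  · have h1 : p * q * p⁻¹ = z * q := by
      rw [← e]; group
    show p * p * q = q * (p * p)
    calc p * p * q = p * (p * q * p⁻¹) * p := by group
      _ = p * (z * q) * p := by rw [h1]
      _ = z * (p * q * p⁻¹) * (p * p) := by rw [← mul_assoc, (H.comm p hp).eq]; group
      _ = z * (z * q) * (p * p) := by rw [h1]
      _ = q * (p * p) := by rw [← mul_assoc z z, z_sq L, one_mul]

include L in
theorem index_core {x : G} (H : CoreHyp z x Q) {i c : G} (hi : c * z * c⁻¹ = i) {q : G}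
    (hq : Commute q i) : (c⁻¹ * q * c) ^ 6 ∈ Q := by
  set C := Subgroup.centralizer ({z} : Set G)
  have hQC : Q ≤ C := fun a ha => mem_centralizer_singleton_iff.mpr (H.comm a ha).eq
  haveI : (Q.subgroupOf C).Normal := ⟨fun n hn a => by
    rw [mem_subgroupOf] at hn ⊢
    exact H.norm a (mem_centralizer_singleton_iff.mp a.2) _ hn⟩
  have h6 : (Q.subgroupOf C).index = 6 := by
    have h1 := (Q.subgroupOf C).index_mul_card
    rw [Nat.card_congr (Subgroup.subgroupOfEquivOfLe hQC).toEquiv, H.card, L.zcard] at h1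
    omega
  have hmem : c⁻¹ * q * c ∈ C := by
    refine mem_centralizer_singleton_iff.mpr ?_
    have : Commute q (c * z * c⁻¹) := hi ▸ hq
    calc c⁻¹ * q * c * z = c⁻¹ * (q * (c * z * c⁻¹)) * c := by group
      _ = c⁻¹ * ((c * z * c⁻¹) * q) * c := by rw [this.eq]
      _ = z * (c⁻¹ * q * c) := by group
  have := Subgroup.pow_index_mem (Q.subgroupOf C) (⟨_, hmem⟩ : C)
  rw [h6, mem_subgroupOf] at this
  exact this

theorem pow_six_trick {y : G} (h8 : y ^ 8 = 1) : y * y = (y ^ 6) ^ 3 := by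
  rw [← pow_mul, show 6 * 3 = 8 * 2 + 2 by norm_num, pow_add, pow_mul, h8, one_pow, one_mul, pow_two]

include L in
theorem z_ne_one : z ≠ 1 := fun e => by
  have := L.pivot.zord
  rw [e, orderOf_one] at this
  omega

theorem orderOf_conj' (c a : G) : orderOf (c * a * c⁻¹) = orderOf a := by
  rw [← MulAut.conj_apply, MulEquiv.orderOf_eq]

include h L in
/-- An involution of the core other than `z` is conjugate to `z` when central in the core. -/
theorem CoreHyp.central_conj {x : G} (H : CoreHyp z x Q) {i : G} (hi : orderOf i = 2)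
    (hc : ∀ q ∈ Q, Commute q i) : ∃ c : G, c * z * c⁻¹ = i := by
  rcases L.classes i hi with e | e
  · exfalso
    obtain ⟨c, rfl⟩ := isConj_iff.mp e
    have hle : Q.map (MulAut.conj c⁻¹).toMonoidHom ≤ Subgroup.centralizer ({s} : Set G) := by
      rintro _ ⟨q, hq, rfl⟩
      refine mem_centralizer_singleton_iff.mpr ?_
      show c⁻¹ * q * c⁻¹⁻¹ * s = s * (c⁻¹ * q * c⁻¹⁻¹)
      calc c⁻¹ * q * c⁻¹⁻¹ * s = c⁻¹ * (q * (c * s * c⁻¹)) * c := by group
        _ = c⁻¹ * ((c * s * c⁻¹) * q) * c := by rw [(hc q hq).eq]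
        _ = s * (c⁻¹ * q * c⁻¹⁻¹) := by group
    have h1 := Subgroup.card_dvd_of_le hle
    rw [Nat.card_congr (Subgroup.equivMapOfInjective _ _ (MulAut.conj c⁻¹).injective).symm.toEquiv,
      H.card, L.pivot.scard] at h1
    norm_num at h1
  · exact isConj_iff.mp e

include h L in
/-- The involution is a square in the core. -/
theorem CoreHyp.exists_sqrt {x : G} (H : CoreHyp z x Q) : ∃ q ∈ Q, q * q = z := by
  obtain ⟨a₀, ha₀⟩ := h.exists8
  haveI : Fact (Nat.Prime 2) := ⟨Nat.prime_two⟩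
  obtain ⟨T, hT⟩ := (IsPGroup.of_card (p := 2) (n := 3) (G := Subgroup.zpowers a₀)
    (by rw [Nat.card_zpowers, ha₀]; rfl)).exists_le_sylow
  obtain ⟨c, hc⟩ := MulAction.exists_smul_eq G T S
  have haS : c * a₀ * c⁻¹ ∈ (S : Subgroup G) := by
    rw [← hc, Sylow.coe_subgroup_smul]
    exact ⟨a₀, hT (mem_zpowers a₀), rfl⟩
  set a := c * a₀ * c⁻¹ with hadef
  have hao : orderOf a = 8 := by rw [hadef, orderOf_conj', ha₀]
  have ha8 : a ^ 8 = 1 := hao ▸ pow_orderOf_eq_one a
  have ha2 : a * a ∈ Q := by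
    have h6 := index_core L H (c := 1) (i := z) (by simp) (q := a) (L.pivot.zcent a haS)
    simp only [inv_one, one_mul, mul_one] at h6
    rw [pow_six_trick ha8]
    exact pow_mem h6 3
  set u := a * a * (a * a) with hu
  have huo : orderOf u = 2 := by
    rw [hu, show a * a * (a * a) = a ^ 4 by simp only [pow_succ, pow_zero, one_mul, mul_assoc]]
    rw [orderOf_pow, hao]
    norm_num
  by_cases huz : u = z
  · exact ⟨a * a, ha2, huz⟩
  obtain ⟨d, hd⟩ := H.central_conj h L huo fun q hq => (H.sq_comm L ha2 hq).symm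
  -- transport the root
  have h6 := index_core L H hd (q := a) (by
    rw [hu, show a * a * (a * a) = a ^ 4 by simp only [pow_succ, pow_zero, one_mul, mul_assoc]]; exact (Commute.refl a).pow_right 4)
  have hb8 : (d⁻¹ * a * d) ^ 8 = 1 := by
    rw [show d⁻¹ * a * d = d⁻¹ * a * d⁻¹⁻¹ by group, conj_pow, ha8]; group
  refine ⟨d⁻¹ * a * d * (d⁻¹ * a * d), by rw [pow_six_trick hb8]; exact pow_mem h6 3, ?_⟩
  calc d⁻¹ * a * d * (d⁻¹ * a * d) * (d⁻¹ * a * d * (d⁻¹ * a * d)) = d⁻¹ * (a * a * (a * a)) * d := by group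
    _ = z := by rw [← hu, ← hd]; group

include h L in
/-- The centre of the core has order two. -/
theorem CoreHyp.central {x : G} (H : CoreHyp z x Q) {p : G} (hp : p ∈ Q)
    (hpc : ∀ q ∈ Q, Commute p q) : p = 1 ∨ p = z := by
  classical
  set Z : Subgroup G := Q ⊓ Subgroup.centralizer (Q : Set G) with hZ
  have hZm : ∀ a, a ∈ Z ↔ a ∈ Q ∧ ∀ q ∈ Q, Commute a q := by
    intro a
    rw [hZ, mem_inf, mem_centralizer_iff]
    exact and_congr_right fun _ => ⟨fun h q hq => (h q hq).symm, fun h q hq => (h q hq).symm⟩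
  have hzZ : z ∈ Z := (hZm z).mpr ⟨H.zmem, fun q hq => (H.comm q hq).symm⟩
  have hZQ : Z ≤ Q := inf_le_left
  have hZinv : ∀ t ∈ Z, x * t * x⁻¹ ∈ Z := by
    intro t ht
    obtain ⟨h1, h2⟩ := (hZm t).mp ht
    refine (hZm _).mpr ⟨H.x_mem h1, fun q hq => ?_⟩
    have h3 : x⁻¹ * q * x ∈ Q := by
      simpa using H.norm x⁻¹ H.cx.inv_left q hq
    have h4 := h2 _ h3
    calc x * t * x⁻¹ * q = x * (t * (x⁻¹ * q * x)) * x⁻¹ := by group
      _ = x * ((x⁻¹ * q * x) * t) * x⁻¹ := by rw [h4.eq]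
      _ = q * (x * t * x⁻¹) := by group
  have hZ3 : Nat.card Z % 3 = 2 := (H.card_inv L hZQ hZinv).1 hzZ
  have hcomm : ∀ a ∈ Z, ∀ b ∈ Q, a * b * (a * b) = a * a * (b * b) := fun a ha b hb =>
    (((hZm a).mp ha).2 b hb).symm.mul_mul_mul_comm a b
  have hxsq : ∀ a, x * (a * a) * x⁻¹ = (x * a * x⁻¹) * (x * a * x⁻¹) := fun a => by group
  -- the squaring map on the central part
  let sq : Z →* G :=
    { toFun := fun a => (a : G) * a
      map_one' := one_mul 1
      map_mul' := fun a b => by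
        simpa using hcomm a a.2 b (hZQ b.2) }
  have hrange : sq.range ≤ Q := by
    rintro _ ⟨a, rfl⟩
    exact mul_mem (hZQ a.2) (hZQ a.2)
  have hrinv : ∀ t ∈ sq.range, x * t * x⁻¹ ∈ sq.range := by
    rintro _ ⟨a, rfl⟩
    exact ⟨⟨_, hZinv a a.2⟩, (hxsq a).symm⟩
  set K := sq.ker.map Z.subtype with hK
  have hKm : ∀ a, a ∈ K ↔ a ∈ Z ∧ a * a = 1 := by
    intro a
    constructor
    · rintro ⟨w, hw, rfl⟩; exact ⟨w.2, hw⟩
    · rintro ⟨h1, h2⟩; exact ⟨⟨a, h1⟩, h2, rfl⟩
  have hzK : z ∈ K := (hKm z).mpr ⟨hzZ, z_sq L⟩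
  have hK3 : Nat.card K % 3 = 2 := (H.card_inv L ((Subgroup.map_subtype_le _).trans hZQ) fun t ht => by
    obtain ⟨h1, h2⟩ := (hKm t).mp ht
    exact (hKm _).mpr ⟨hZinv t h1, by rw [← hxsq, h2, mul_one, mul_inv_cancel]⟩).1 hzK
  have hKc : Nat.card Z = Nat.card sq.range * Nat.card K := by
    rw [hK, ← Nat.card_congr (Subgroup.equivMapOfInjective _ _ Z.subtype_injective).toEquiv,
      Subgroup.card_eq_card_quotient_mul_card_subgroup sq.ker,
      Nat.card_congr (QuotientGroup.quotientKerEquivRange sq).toEquiv]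
  have hzR : z ∉ sq.range := by
    intro hz
    have h1 := (H.card_inv L hrange hrinv).1 hz
    rw [hKc, Nat.mul_mod, h1, hK3] at hZ3
    norm_num at hZ3
  obtain ⟨q₀, hq₀, hq₀z⟩ := H.exists_sqrt h L
  have hdvd : Nat.card Z ∣ 2 ^ 5 := by
    have := Subgroup.card_dvd_of_le hZQ
    rwa [H.card] at this
  obtain ⟨k, hk, hkZ⟩ := (Nat.dvd_prime_pow Nat.prime_two).mp hdvd
  have hk5 : k ≠ 5 := by
    intro e
    have := Subgroup.eq_of_le_of_card_ge hZQ (by rw [hkZ, e, H.card]; norm_num)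
    exact hzR ⟨⟨q₀, this ▸ hq₀⟩, hq₀z⟩
  by_cases hk1 : k = 1
  · have heq : Subgroup.zpowers z = Z := Subgroup.eq_of_le_of_card_ge (zpowers_le.mpr hzZ)
      (by rw [hkZ, hk1, Nat.card_zpowers, L.pivot.zord]; rfl)
    have hpZ : p ∈ Z := (hZm p).mpr ⟨hp, hpc⟩
    exact zpowers_cases L (heq ▸ hpZ)
  exfalso
  have hk3 : k = 3 := by
    have : k = 0 ∨ k = 2 ∨ k = 3 ∨ k = 4 := by omega
    rcases this with rfl | rfl | rfl | rfl <;> rw [hkZ] at hZ3 <;> first | rfl | norm_num at hZ3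
  rw [hk3] at hkZ
  -- the central part is elementary
  have hel : ∀ a ∈ Z, a * a = 1 := by
    have hr := (H.card_inv L hrange hrinv).2 hzR
    obtain ⟨l, hl, hlK⟩ := (Nat.dvd_prime_pow Nat.prime_two).mp
      (hkZ ▸ hKc ▸ dvd_mul_left (Nat.card K) (Nat.card sq.range) : Nat.card K ∣ 2 ^ 3)
    have hl' : l = 1 ∨ l = 3 := by
      have : l = 0 ∨ l = 1 ∨ l = 2 ∨ l = 3 := by omega
      rcases this with rfl | rfl | rfl | rfl <;> simp_all
    rcases hl' with rfl | rfl
    · exfalso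
      have hR4 : Nat.card sq.range = 4 := by rw [hkZ, hlK] at hKc; omega
      obtain ⟨⟨w, hw⟩, hwo⟩ := exists_prime_orderOf_dvd_card' (G := sq.range) 2 (by rw [hR4]; norm_num)
      rw [Subgroup.orderOf_mk] at hwo
      have hwZ : w ∈ Z := by
        obtain ⟨a, rfl⟩ := hw
        exact mul_mem a.2 a.2
      have hwK : w ∈ K := (hKm w).mpr ⟨hwZ, by rw [← pow_two, ← hwo, pow_orderOf_eq_one]⟩
      have heq : Subgroup.zpowers z = K := Subgroup.eq_of_le_of_card_ge (zpowers_le.mpr hzK)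
        (by rw [hlK, Nat.card_zpowers, L.pivot.zord]; rfl)
      rcases zpowers_cases L (heq ▸ hwK) with e | e
      · rw [e, orderOf_one] at hwo
        omega
      · exact hzR (e ▸ hw)
    · intro a ha
      have := Subgroup.eq_of_le_of_card_ge (Subgroup.map_subtype_le sq.ker) (by rw [← hK, hlK, hkZ])
      exact ((hKm a).mp (this.ge ha)).2
  set ZQ := Z.subgroupOf Q with hZQdef
  haveI : ZQ.Normal := ⟨fun n hn a => by
    have : a * n * a⁻¹ = n := mul_inv_eq_iff_eq_mul.mpr (Subtype.ext (((hZm _).mp hn).2 a a.2).symm.eq)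
    rwa [this]⟩
  have hquot : Nat.card (Q ⧸ ZQ) = 4 := by
    have h1 := Subgroup.card_eq_card_quotient_mul_card_subgroup ZQ
    have hc8 : Nat.card ZQ = 8 := by
      rw [hZQdef, Nat.card_congr (Subgroup.subgroupOfEquivOfLe hZQ).toEquiv, hkZ]; rfl
    rw [H.card, hc8] at h1
    omega
  have hsame : ∀ a ∈ Q, ∀ b ∈ Q, a⁻¹ * b ∈ Z → b * b = a * a := by
    intro a ha b hb hab
    have h1 := hcomm _ hab a ha
    have hc := ((hZm _).mp hab).2 a ha
    rw [hc.eq, mul_inv_cancel_left, hel _ hab, one_mul] at h1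
    exact h1
  -- a root of `z` gives all squares
  have hq₀Z : q₀ ∉ Z := fun e => hzR ⟨⟨q₀, e⟩, hq₀z⟩
  set v₁ := x * q₀ * x⁻¹ with hv₁
  set v₂ := x * v₁ * x⁻¹ with hv₂
  have hv₁Q : v₁ ∈ Q := H.x_mem hq₀
  have hv₂Q : v₂ ∈ Q := H.x_mem hv₁Q
  have hxz : x * z * x⁻¹ = z := by rw [H.cx.eq, mul_inv_cancel_right]
  have hv₁z : v₁ * v₁ = z := by rw [hv₁, ← hxsq, hq₀z, hxz]
  have hv₂z : v₂ * v₂ = z := by rw [hv₂, ← hxsq, hv₁z, hxz]
  have hnofix : ∀ a ∈ Q, a⁻¹ * (x * a * x⁻¹) ∈ Z → a ∈ Z := by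
    intro a ha hmem
    let r : Z → Z := fun t => ⟨(t : G)⁻¹ * (x * t * x⁻¹), mul_mem (inv_mem t.2) (hZinv t t.2)⟩
    -- the coset of `a` is invariant
    let O := {t : G // t ∈ Q ∧ a⁻¹ * t ∈ Z}
    have hmov : ∀ t : O, a⁻¹ * (x * t.1 * x⁻¹) ∈ Z := fun t => by
      have := mul_mem hmem (hZinv _ t.2.2)
      rwa [show a⁻¹ * (x * a * x⁻¹) * (x * (a⁻¹ * t.1) * x⁻¹) = a⁻¹ * (x * t.1 * x⁻¹) by group] at this
    let f : Equiv.Perm O :=
      { toFun := fun t => ⟨x * t.1 * x⁻¹, H.x_mem t.2.1, hmov t⟩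
        invFun := fun t => ⟨x * (x * t.1 * x⁻¹) * x⁻¹, H.x_mem (H.x_mem t.2.1),
          hmov ⟨x * t.1 * x⁻¹, H.x_mem t.2.1, hmov t⟩⟩
        left_inv := fun t => Subtype.ext (H.x_cube _)
        right_inv := fun t => Subtype.ext (H.x_cube _) }
    have hO : Nat.card O = 8 := by
      rw [← show Nat.card Z = 8 by rw [hkZ]; rfl]
      exact Nat.card_congr
        { toFun := fun t => ⟨a⁻¹ * t.1, t.2.2⟩
          invFun := fun t => ⟨a * t.1, mul_mem ha (hZQ t.2), by rw [inv_mul_cancel_left]; exact t.2⟩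
          left_inv := fun t => Subtype.ext (mul_inv_cancel_left _ _)
          right_inv := fun t => Subtype.ext (inv_mul_cancel_left _ _) }
    have h1 := card_mod_three f (Equiv.ext fun t => Subtype.ext (H.x_cube _))
    rw [hO] at h1
    have : Nonempty {t : O // f t = t} := by
      by_contra hne
      rw [not_nonempty_iff] at hne
      rw [Nat.card_of_isEmpty] at h1
      norm_num at h1
    obtain ⟨⟨t, ht⟩⟩ := this
    have htf : x * t.1 * x⁻¹ = t.1 := congrArg Subtype.val ht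
    have htZ : t.1 ∈ Z := by
      rcases H.fix _ t.2.1 (mul_inv_eq_iff_eq_mul.mp htf).symm with e | e <;> rw [e]
      · exact one_mem _
      · exact hzZ
    have := mul_mem htZ (inv_mem t.2.2)
    rwa [mul_inv_rev, inv_inv, mul_inv_cancel_left] at this
  have hv₁Z : v₁ ∉ Z := fun e => hq₀Z (by
    have := hZinv _ (hZinv _ e)
    rwa [hv₁, H.x_cube] at this)
  have hv₂Z : v₂ ∉ Z := fun e => hv₁Z (by
    have := hZinv _ (hZinv _ e)
    rwa [hv₂, H.x_cube] at this)
  have d1 : q₀⁻¹ * v₁ ∉ Z := fun e => hq₀Z (hnofix _ hq₀ e)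
  have d2 : v₁⁻¹ * v₂ ∉ Z := fun e => hv₁Z (hnofix _ hv₁Q e)
  have hx3 : x * v₂ * x⁻¹ = q₀ := by rw [hv₂, hv₁, H.x_cube]
  have d3 : v₂⁻¹ * q₀ ∉ Z := fun e => hv₂Z (hnofix _ hv₂Q (by rwa [hx3]))
  have hall : ∀ q ∈ Q, q ∉ Z → q * q = z := by
    intro q hq hqZ
    by_contra hne
    let m : Fin 5 → Q ⧸ ZQ := ![(1 : Q), (⟨q₀, hq₀⟩ : Q), (⟨v₁, hv₁Q⟩ : Q), (⟨v₂, hv₂Q⟩ : Q), (⟨q, hq⟩ : Q)]
    have key : ∀ a b : Q, (QuotientGroup.mk a : Q ⧸ ZQ) = QuotientGroup.mk b → (a : G)⁻¹ * b ∈ Z := fun a b e => by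
      have h' := QuotientGroup.eq.mp e
      exact h'
    have hm : Function.Injective m := by
      intro i j e
      by_contra hij
      have e' : ∀ i j : Fin 5, i < j → m i = m j → False := by
        intro i j hlt e
        fin_cases i <;> fin_cases j <;> simp [m] at hlt e
        all_goals have k := key _ _ e
        all_goals simp only [OneMemClass.coe_one, inv_one, one_mul] at k
        all_goals first
          | exact hq₀Z k
          | exact hv₁Z k
          | exact hv₂Z k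
          | exact hqZ k
          | exact d1 k
          | exact d2 k
          | exact d3 (by simpa using inv_mem k)
          | exact hne ((hsame _ hq₀ _ hq k).trans hq₀z)
          | exact hne ((hsame _ hv₁Q _ hq k).trans hv₁z)
          | exact hne ((hsame _ hv₂Q _ hq k).trans hv₂z)
      rcases lt_or_gt_of_ne hij with hlt | hlt
      · exact e' i j hlt e
      · exact e' j i hlt e.symm
    have := Nat.card_le_card_of_injective m hm
    rw [hquot, Nat.card_eq_fintype_card, Fintype.card_fin] at this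
    omega
  -- a second involution of the central part
  obtain ⟨i, hiZ, hi1, hiz⟩ : ∃ i ∈ Z, i ≠ 1 ∧ i ≠ z := by
    by_contra hno
    push Not at hno
    have hle : (Z : Set G) ⊆ {1, z} := fun a ha => by
      by_cases e : a = 1
      · exact Or.inl e
      · exact Or.inr (hno a ha e)
    have := (Set.ncard_le_ncard hle (Set.toFinite _)).trans (Set.ncard_insert_le _ _)
    rw [← Nat.card_coe_set_eq, SetLike.coe_sort_coe, hkZ, Set.ncard_singleton] at this
    norm_num at this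
  haveI : Fact (Nat.Prime 2) := ⟨Nat.prime_two⟩
  have hio : orderOf i = 2 := orderOf_eq_prime (by rw [pow_two]; exact hel i hiZ) hi1
  obtain ⟨d, hd⟩ := H.central_conj h L hio fun q hq => (((hZm i).mp hiZ).2 q hq).symm
  -- map the core to the other centraliser
  set C := Subgroup.centralizer ({z} : Set G)
  have hQC : Q ≤ C := fun a ha => mem_centralizer_singleton_iff.mpr (H.comm a ha).eq
  haveI : (Q.subgroupOf C).Normal := ⟨fun n hn a => by
    rw [mem_subgroupOf] at hn ⊢
    exact H.norm a (mem_centralizer_singleton_iff.mp a.2) _ hn⟩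
  have h6 : Nat.card (C ⧸ Q.subgroupOf C) = 6 := by
    have h1 := Subgroup.card_eq_card_quotient_mul_card_subgroup (Q.subgroupOf C)
    rw [Nat.card_congr (Subgroup.subgroupOfEquivOfLe hQC).toEquiv, H.card, L.zcard] at h1
    omega
  have hmemC : ∀ q : Q, d⁻¹ * (q : G) * d ∈ C := fun q => mem_centralizer_singleton_iff.mpr (by
    have : Commute (q : G) (d * z * d⁻¹) := hd.symm ▸ (((hZm i).mp hiZ).2 q q.2).symm
    calc d⁻¹ * q * d * z = d⁻¹ * (q * (d * z * d⁻¹)) * d := by group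
      _ = d⁻¹ * ((d * z * d⁻¹) * q) * d := by rw [this.eq]
      _ = z * (d⁻¹ * q * d) := by group)
  let ψ : Q →* C ⧸ Q.subgroupOf C := (QuotientGroup.mk' _).comp
    { toFun := fun q => ⟨d⁻¹ * q * d, hmemC q⟩
      map_one' := Subtype.ext (by simp)
      map_mul' := fun a b => Subtype.ext (by simp [mul_assoc]) }
  have hker : 16 ≤ Nat.card ψ.ker := by
    have h1 := Subgroup.card_eq_card_quotient_mul_card_subgroup ψ.ker
    rw [H.card, Nat.card_congr (QuotientGroup.quotientKerEquivRange ψ).toEquiv] at h1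
    have h2 : Nat.card ψ.range ∣ 6 := h6 ▸ Subgroup.card_subgroup_dvd_card _
    have h3 : Nat.card ψ.range ∣ 32 := Dvd.intro _ h1.symm
    have h4 : Nat.card ψ.range ∣ 2 := (Nat.dvd_gcd h2 h3 :)
    have := Nat.le_of_dvd (by norm_num) h4
    have hmul := Nat.mul_le_mul_right (Nat.card ψ.ker) this
    rw [← h1] at hmul
    omega
  obtain ⟨q, hqk, hqZ⟩ : ∃ q : Q, q ∈ ψ.ker ∧ (q : G) ∉ Z := by
    by_contra hno
    push Not at hno
    have hle : ψ.ker ≤ ZQ := fun q hq => hno q hq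
    have := Subgroup.card_le_of_le hle
    have hc8 : Nat.card ZQ = 8 := by
      rw [hZQdef, Nat.card_congr (Subgroup.subgroupOfEquivOfLe hZQ).toEquiv, hkZ]; rfl
    omega
  have hqQ' : d⁻¹ * (q : G) * d ∈ Q := mem_subgroupOf.mp ((QuotientGroup.eq_one_iff _).mp hqk)
  have hs2 := hall q q.2 hqZ
  have hsq' : ∀ w ∈ Q, w * w = 1 ∨ w * w = z := fun w hw => by
    by_cases e : w ∈ Z
    · exact Or.inl (hel w e)
    · exact Or.inr (hall w hw e)
  have e2 : d⁻¹ * (q : G) * d * (d⁻¹ * q * d) = d⁻¹ * z * d := by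
    rw [← hs2]; group
  rcases hsq' _ hqQ' with e | e <;> rw [e2] at e
  · exact z_ne_one L (by
      calc z = d * (d⁻¹ * z * d) * d⁻¹ := by group
        _ = 1 := by rw [e, mul_one, mul_inv_cancel])
  · exact hiz (by
      calc i = d * z * d⁻¹ := hd.symm
        _ = d * (d⁻¹ * z * d) * d⁻¹ := by rw [e]
        _ = z := by group)

include h L in
theorem CoreHyp.square {x : G} (H : CoreHyp z x Q) {q : G} (hq : q ∈ Q) : q * q = 1 ∨ q * q = z :=
  H.central h L (mul_mem hq hq) fun r hr => H.sq_comm L hq hr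

include h L in
theorem CoreHyp.extraspecial {x : G} (H : CoreHyp z x Q) : Cfsg.IsExtraspecial 2 Q := by
  haveI : Fact (Nat.Prime 2) := ⟨Nat.prime_two⟩
  have hmem : ∀ v : Q, ((v : G) = 1 ∨ (v : G) = z) → v ∈ Subgroup.zpowers (⟨z, H.zmem⟩ : Q) := by
    rintro v (e | e)
    · rw [show v = 1 from Subtype.ext e]; exact one_mem _
    · rw [show v = ⟨z, H.zmem⟩ from Subtype.ext e]; exact mem_zpowers _
  refine SymplecticType.isExtraspecial_of (z := (⟨z, H.zmem⟩ : Q))
    (IsPGroup.of_card (n := 5) (by rw [H.card]; rfl))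
    ⟨mem_center_iff.mpr fun v => Subtype.ext (H.comm v v.2).eq, by
      rw [Subgroup.orderOf_mk, L.pivot.zord]⟩
    (fun a b => hmem _ (by simpa [commutatorElement_def] using H.comm_mem L a a.2 b b.2))
    (fun a => hmem _ (by simpa [pow_two] using H.square h L a.2))
    (fun a ha => hmem _ (H.central h L a.2 fun r hr =>
      (congrArg Subtype.val (mem_center_iff.mp ha ⟨r, hr⟩)).symm)) ?_
  by_contra hab
  push Not at hab
  have hall : ∀ p ∈ Q, p = 1 ∨ p = z := fun p hp => H.central h L hp fun r hr => by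
    have := congrArg Subtype.val (commutatorElement_eq_one_iff_mul_comm.mp (hab ⟨p, hp⟩ ⟨r, hr⟩))
    exact this
  have hle : (Q : Set G) ⊆ {1, z} := hall
  have := (Set.ncard_le_ncard hle (Set.toFinite _)).trans (Set.ncard_insert_le _ _)
  rw [← Nat.card_coe_set_eq, SetLike.coe_sort_coe, H.card, Set.ncard_singleton] at this
  omega

include L in
theorem CoreHyp.card_centralizer {x : G} (H : CoreHyp z x Q) {a : G} (ha : a ∈ Q) :
    16 ≤ Nat.card ↥(Q ⊓ Subgroup.centralizer ({a} : Set G)) := by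
  classical
  have hz := z_sq L
  have hv : ∀ q : Q, (q : G) * a * (q : G)⁻¹ * a⁻¹ = 1 ∨ (q : G) * a * (q : G)⁻¹ * a⁻¹ = z := fun q =>
    H.comm_mem L q q.2 a ha
  let θ : Q →* G :=
    { toFun := fun q => (q : G) * a * (q : G)⁻¹ * a⁻¹
      map_one' := by simp
      map_mul' := fun p q => by
        show (p : G) * q * a * ((p : G) * q)⁻¹ * a⁻¹ = _
        have hq : (q : G) * a * (q : G)⁻¹ = ((q : G) * a * (q : G)⁻¹ * a⁻¹) * a := by group
        have hpc : Commute (p : G) ((q : G) * a * (q : G)⁻¹ * a⁻¹) := by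
          rcases hv q with e | e <;> rw [e]
          · exact Commute.one_right _
          · exact H.comm p p.2
        have hcc : Commute ((p : G) * a * (p : G)⁻¹ * a⁻¹) ((q : G) * a * (q : G)⁻¹ * a⁻¹) := by
          rcases hv p with e | e <;> rcases hv q with e' | e' <;> rw [e, e'] <;>
            first | exact Commute.one_left _ | exact Commute.one_right _ | exact Commute.refl _
        calc (p : G) * q * a * ((p : G) * q)⁻¹ * a⁻¹
            = (p : G) * ((q : G) * a * (q : G)⁻¹ * a⁻¹) * a * (p : G)⁻¹ * a⁻¹ := by group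
          _ = ((q : G) * a * (q : G)⁻¹ * a⁻¹) * ((p : G) * a * (p : G)⁻¹ * a⁻¹) := by
              rw [hpc.eq]; group
          _ = _ := hcc.eq.symm }
  have hle : θ.range ≤ Subgroup.zpowers z := by
    rintro _ ⟨q, rfl⟩
    rcases hv q with e | e
    · rw [show θ q = 1 from e]; exact one_mem _
    · rw [show θ q = z from e]; exact mem_zpowers z
  have h2 := Subgroup.card_le_of_le hle
  rw [Nat.card_zpowers, L.pivot.zord] at h2
  have h1 := Subgroup.card_eq_card_quotient_mul_card_subgroup θ.ker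
  rw [H.card, Nat.card_congr (QuotientGroup.quotientKerEquivRange θ).toEquiv] at h1
  have h3 : Nat.card θ.ker ≤ Nat.card ↥(Q ⊓ Subgroup.centralizer ({a} : Set G)) := by
    refine Nat.card_le_card_of_injective (fun q => ⟨(q.1 : G), q.1.2, ?_⟩) fun p q e =>
      Subtype.ext (Subtype.ext (congrArg Subtype.val e :))
    refine mem_centralizer_singleton_iff.mpr ?_
    have : (q.1 : G) * a * (q.1 : G)⁻¹ * a⁻¹ = 1 := q.2
    exact mul_inv_eq_iff_eq_mul.mp (mul_inv_eq_one.mp this)
  have hmul := Nat.mul_le_mul_right (Nat.card θ.ker) h2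
  rw [← h1] at hmul
  omega

include h L in
theorem CoreHyp.not_weakly_closed {x : G} (H : CoreHyp z x Q) :
    ∃ g : G, g * z * g⁻¹ ∈ Q ∧ g * z * g⁻¹ ≠ z := by
  classical
  haveI : Fact (Nat.Prime 2) := ⟨Nat.prime_two⟩
  obtain ⟨q, hq, hqz⟩ := H.exists_sqrt h L
  have hz1 := z_ne_one L
  -- an involution other than `z`
  obtain ⟨i, hi, hi2, hi1, hiz⟩ : ∃ i ∈ Q, i * i = 1 ∧ i ≠ 1 ∧ i ≠ z := by
    obtain ⟨b, hb, hb1, hbz, hbq, hbq'⟩ : ∃ b, b ∈ Q ⊓ Subgroup.centralizer ({q} : Set G) ∧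
        b ≠ 1 ∧ b ≠ z ∧ b ≠ q⁻¹ ∧ b ≠ q⁻¹ * z := by
      by_contra hno
      push Not at hno
      have hle : ((Q ⊓ Subgroup.centralizer ({q} : Set G) : Subgroup G) : Set G) ⊆
          ({1, z, q⁻¹, q⁻¹ * z} : Set G) := fun b hb => by
        simp only [Set.mem_insert_iff, Set.mem_singleton_iff]
        by_cases e1 : b = 1
        · exact Or.inl e1
        by_cases e2 : b = z
        · exact Or.inr (Or.inl e2)
        by_cases e3 : b = q⁻¹
        · exact Or.inr (Or.inr (Or.inl e3))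
        exact Or.inr (Or.inr (Or.inr (hno b hb e1 e2 e3)))
      have h4 : ({1, z, q⁻¹, q⁻¹ * z} : Set G).ncard ≤ 4 := by
        refine (Set.ncard_insert_le _ _).trans (Nat.add_le_add_right
          ((Set.ncard_insert_le _ _).trans (Nat.add_le_add_right
            ((Set.ncard_insert_le _ _).trans ?_) _)) _)
        rw [Set.ncard_singleton]
      have := (Set.ncard_le_ncard hle (Set.toFinite _)).trans h4
      rw [← Nat.card_coe_set_eq] at this
      have h16 := H.card_centralizer L hq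
      simp only [SetLike.coe_sort_coe] at this
      omega
    rcases H.square h L hb.1 with e | e
    · exact ⟨b, hb.1, e, hb1, hbz⟩
    · refine ⟨q * b, mul_mem hq hb.1, ?_, fun e' => hbq ?_, fun e' => hbq' ?_⟩
      · rw [(show Commute b q from mem_centralizer_singleton_iff.mp hb.2).mul_mul_mul_comm, hqz, e,
          z_sq L]
      · exact (inv_eq_of_mul_eq_one_right e').symm
      · rw [← e', inv_mul_cancel_left]
  have hio : orderOf i = 2 := orderOf_eq_prime (by rw [pow_two]; exact hi2) hi1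
  rcases L.classes i hio with hs | hz
  swap
  · obtain ⟨c, rfl⟩ := isConj_iff.mp hz
    exact ⟨c, hi, hiz⟩
  obtain ⟨c, rfl⟩ := isConj_iff.mp hs
  set M := Q ⊓ Subgroup.centralizer ({c * s * c⁻¹} : Set G) with hM
  have hMc : ∀ m ∈ M.map (MulAut.conj c⁻¹).toMonoidHom, Commute m s := by
    rintro _ ⟨m, hm, rfl⟩
    have hc := mem_centralizer_singleton_iff.mp hm.2
    show c⁻¹ * m * c⁻¹⁻¹ * s = s * (c⁻¹ * m * c⁻¹⁻¹)
    calc c⁻¹ * m * c⁻¹⁻¹ * s = c⁻¹ * (m * (c * s * c⁻¹)) * c := by group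
      _ = c⁻¹ * ((c * s * c⁻¹) * m) * c := by rw [hc]
      _ = s * (c⁻¹ * m * c⁻¹⁻¹) := by group
  have hcard : Nat.card (M.map (MulAut.conj c⁻¹).toMonoidHom) = 16 := by
    have h1 := Subgroup.card_dvd_of_le (fun m hm => mem_centralizer_singleton_iff.mpr (hMc m hm).eq :
      M.map (MulAut.conj c⁻¹).toMonoidHom ≤ Subgroup.centralizer ({s} : Set G))
    rw [L.pivot.scard] at h1
    rw [← Nat.card_congr (Subgroup.equivMapOfInjective M _ (MulAut.conj c⁻¹).injective).toEquiv] at h1 ⊢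
    have h16 := H.card_centralizer L hi
    have h32 : Nat.card M ∣ 2 ^ 5 := by
      have := Subgroup.card_dvd_of_le (inf_le_left : M ≤ Q)
      rwa [H.card] at this
    obtain ⟨k, hk, hkM⟩ := (Nat.dvd_prime_pow Nat.prime_two).mp h32
    rw [← hM, hkM] at h16
    rw [hkM] at h1 ⊢
    have : k = 4 ∨ k = 5 := by
      have : ¬ k ≤ 3 := fun e => by
        have := Nat.pow_le_pow_right (by norm_num : 0 < 2) e
        omega
      omega
    rcases this with rfl | rfl
    · rfl
    · norm_num at h1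
  obtain ⟨u, hu, v, hv, huv, hzu, hzv⟩ := L.pivot.other _ hcard hMc
  have key : ∀ w, w ∈ M.map (MulAut.conj c⁻¹).toMonoidHom → IsConj z w → c * w * c⁻¹ ≠ z →
      ∃ g : G, g * z * g⁻¹ ∈ Q ∧ g * z * g⁻¹ ≠ z := by
    rintro w ⟨m, hm, hmw⟩ hzw hne
    obtain ⟨d, hd⟩ := isConj_iff.mp hzw
    have e : c * d * z * (c * d)⁻¹ = c * w * c⁻¹ := by rw [← hd]; group
    refine ⟨c * d, ?_, by rwa [e]⟩
    rw [e, ← hmw]
    show c * (c⁻¹ * m * c⁻¹⁻¹) * c⁻¹ ∈ Q
    rw [show c * (c⁻¹ * m * c⁻¹⁻¹) * c⁻¹ = m by group]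
    exact hm.1
  by_cases huz : c * u * c⁻¹ = z
  · exact key v hv hzv fun e => huv (mul_left_cancel (mul_right_cancel (huz.trans e.symm)))
  · exact key u hu hzu huz

end Core

/-- The facts about the 2-core of the centraliser. -/
theorem extra_facts {G : Type*} [Group G] [Finite G] (h : Data G) {S : Sylow 2 G} {s z g : G}
    (L : Local S s z g)
    (hQ : Nat.card ↥((Cfsg.pCore 2 (Subgroup.centralizer ({z} : Set G))).map (Subgroup.centralizer ({z} : Set G)).subtype) = 32)
    {x : G} (hx : orderOf x = 3) (hxz : Commute x z)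
    (hfix : ∀ q ∈ (Cfsg.pCore 2 (Subgroup.centralizer ({z} : Set G))).map (Subgroup.centralizer ({z} : Set G)).subtype,
      Commute q x → q = 1 ∨ q = z) :
    Cfsg.IsExtraspecial 2 ↥((Cfsg.pCore 2 (Subgroup.centralizer ({z} : Set G))).map (Subgroup.centralizer ({z} : Set G)).subtype) ∧
      ∃ g : G, g * z * g⁻¹ ∈ (Cfsg.pCore 2 (Subgroup.centralizer ({z} : Set G))).map (Subgroup.centralizer ({z} : Set G)).subtype ∧
        g * z * g⁻¹ ≠ z := by
  set C := Subgroup.centralizer ({z} : Set G) with hC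
  haveI : Fact (Nat.Prime 2) := ⟨Nat.prime_two⟩
  haveI hn : (Cfsg.pCore 2 C).Normal := HallCore.pCore_normal 2 _
  have hzC : z ∈ C := mem_centralizer_singleton_iff.mpr rfl
  have H : CoreHyp z x ((Cfsg.pCore 2 C).map C.subtype) := by
    refine ⟨hQ, ?_, ?_, ?_, hxz, hx, hfix⟩
    · refine ⟨⟨z, hzC⟩, ?_, rfl⟩
      haveI : (Subgroup.zpowers (⟨z, hzC⟩ : C)).Normal := ⟨fun n hn a => by
        obtain ⟨k, rfl⟩ := mem_zpowers_iff.mp hn
        have haz : Commute a (⟨z, hzC⟩ : C) := Subtype.ext (mem_centralizer_singleton_iff.mp a.2)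
        rw [(haz.zpow_right k).eq, mul_inv_cancel_right]
        exact zpow_mem (mem_zpowers _) k⟩
      have hp : IsPGroup 2 (Subgroup.zpowers (⟨z, hzC⟩ : C)) := IsPGroup.of_card (n := 1)
        (by rw [Nat.card_zpowers, Subgroup.orderOf_mk, L.pivot.zord]; rfl)
      exact (le_sSup ⟨inferInstance, hp⟩ : _ ≤ Cfsg.pCore 2 C) (mem_zpowers _)
    · rintro _ ⟨a, -, rfl⟩
      exact mem_centralizer_singleton_iff.mp a.2
    · rintro c hc _ ⟨a, ha, rfl⟩
      exact ⟨⟨c, mem_centralizer_singleton_iff.mpr hc⟩ * a * ⟨c, mem_centralizer_singleton_iff.mpr hc⟩⁻¹,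
        hn.conj_mem a ha _, rfl⟩
  exact ⟨H.extraspecial h L, H.not_weakly_closed h L⟩

end Cfsg.Agent.M12Nse51
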