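import Cfsg.Agent.Lib.M12Nse51Base
import Cfsg.Agent.Lib.M12Inv51Classes

/-!
The class of involutions which centralise elements of order five.
-/

set_option autoImplicit false

namespace Cfsg.Agent.M12Nse51

variable {G : Type*} [Group G] [Finite G]

theorem mem_cent {a i : G} : a ∈ Subgroup.centralizer ({i} : Set G) ↔ Commute a i :=
  Subgroup.mem_centralizer_singleton_iff

theorem card_class (h : Data G) (i : G) :
    Nat.card {x : G // IsConj i x} * Nat.card (Subgroup.centralizer ({i} : Set G)) = 95040 := by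
  rw [M12Inv51.card_class_mul, h.card]

theorem card_class_le (h : Data G) {i : G} (hi : orderOf i = 2) :
    Nat.card {x : G // IsConj i x} ≤ 891 := by
  rw [← h.cnt2]
  refine Nat.card_le_card_of_injective (fun x => (⟨x.1, ?_⟩ : {g : G // orderOf g = 2})) ?_
  · obtain ⟨c, hc⟩ := isConj_iff.1 x.2
    rw [← hc, ← MulAut.conj_apply, MulEquiv.orderOf_eq, hi]
  · exact fun a b e => Subtype.ext (congrArg (fun u : {g : G // orderOf g = 2} => u.1) e)

theorem no_eleven (h : Data G) {i : G} (hi : orderOf i = 2) :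
    ¬ 11 ∣ Nat.card (Subgroup.centralizer ({i} : Set G)) := by
  intro hd
  haveI : Fact (Nat.Prime 11) := ⟨by norm_num⟩
  obtain ⟨⟨x, hxC⟩, hx⟩ := exists_prime_orderOf_dvd_card' (G := Subgroup.centralizer ({i} : Set G)) 11 hd
  rw [Subgroup.orderOf_mk] at hx
  have := Subgroup.orderOf_dvd_natCard (Subgroup.centralizer ({x} : Set G))
    (mem_cent.2 (mem_cent.1 hxC).symm)
  rw [h.centEleven x hx, hi] at this
  norm_num at this

/-- An element of order five has only one involution in its centraliser. -/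
theorem unique_mate (h : Data G) {y a b : G} (hy : orderOf y = 5) (ha : orderOf a = 2)
    (hay : Commute a y) (hb : orderOf b = 2) (hby : Commute b y) : a = b := by
  set C := Subgroup.centralizer ({y} : Set G)
  haveI : Fact (Nat.Prime 2) := ⟨Nat.prime_two⟩
  let A : Subgroup C := Subgroup.zpowers ⟨a, mem_cent.2 hay⟩
  let B : Subgroup C := Subgroup.zpowers ⟨b, mem_cent.2 hby⟩
  have hA : Nat.card A = 2 := by rw [Nat.card_zpowers, Subgroup.orderOf_mk, ha]
  have hB : Nat.card B = 2 := by rw [Nat.card_zpowers, Subgroup.orderOf_mk, hb]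
  have hfac : (Nat.card C).factorization 2 = 1 := by
    rw [h.centFive y hy, show (10 : ℕ) = 2 ^ 1 * 5 by norm_num,
      Nat.factorization_mul (by norm_num) (by norm_num), Finsupp.add_apply,
      Nat.Prime.factorization_pow Nat.prime_two, Finsupp.single_eq_same,
      Nat.factorization_eq_zero_of_not_dvd (by norm_num : ¬ 2 ∣ 5)]
  obtain ⟨P, hP⟩ := (IsPGroup.of_card (p := 2) (n := 1) (G := A) (by rw [hA]; rfl)).exists_le_sylow
  obtain ⟨Q, hQ⟩ := (IsPGroup.of_card (p := 2) (n := 1) (G := B) (by rw [hB]; rfl)).exists_le_sylow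
  have hPA : A = (P : Subgroup C) :=
    Subgroup.eq_of_le_of_card_ge hP (by rw [P.card_eq_multiplicity, hfac, hA]; norm_num)
  have hQB : B = (Q : Subgroup C) :=
    Subgroup.eq_of_le_of_card_ge hQ (by rw [Q.card_eq_multiplicity, hfac, hB]; norm_num)
  obtain ⟨c, hc⟩ := MulAction.exists_smul_eq C P Q
  -- the element commutes with a member of order five and the involution, so with everything
  have hcent : ∀ d : C, d * ⟨a, mem_cent.2 hay⟩ = ⟨a, mem_cent.2 hay⟩ * d := by
    have h10 : Nat.card C = 10 := h.centFive y hy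
    let D : Subgroup C := Subgroup.centralizer {(⟨a, mem_cent.2 hay⟩ : C)}
    have hD : D = ⊤ := by
      apply Subgroup.eq_top_of_le_card
      have h2 : 2 ∣ Nat.card D := by
        have := Subgroup.orderOf_dvd_natCard D
          (show (⟨a, mem_cent.2 hay⟩ : C) ∈ D from Subgroup.mem_centralizer_singleton_iff.2 rfl)
        rwa [Subgroup.orderOf_mk, ha] at this
      have h5 : 5 ∣ Nat.card D := by
        have := Subgroup.orderOf_dvd_natCard D
          (show (⟨y, mem_cent.2 (Commute.refl y)⟩ : C) ∈ D from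
            Subgroup.mem_centralizer_singleton_iff.2 (Subtype.ext hay.symm.eq))
        rwa [Subgroup.orderOf_mk, hy] at this
      rw [h10]
      exact Nat.le_of_dvd Nat.card_pos (Nat.Coprime.mul_dvd_of_dvd_of_dvd (by norm_num) h2 h5)
    intro d
    exact Subgroup.mem_centralizer_singleton_iff.1 (show d ∈ D by rw [hD]; exact Subgroup.mem_top d)
  have hmem : (⟨a, mem_cent.2 hay⟩ : C) ∈ (Q : Subgroup C) := by
    rw [← hc, Sylow.coe_subgroup_smul]
    refine ⟨⟨a, mem_cent.2 hay⟩, hPA ▸ Subgroup.mem_zpowers _, ?_⟩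
    show c * ⟨a, mem_cent.2 hay⟩ * c⁻¹ = _
    rw [hcent c, mul_inv_cancel_right]
  rw [← hQB] at hmem
  obtain ⟨k, hk⟩ := Subgroup.mem_zpowers_iff.1 hmem
  have hk' : b ^ k = a := congrArg Subtype.val hk
  rcases Int.emod_two_eq_zero_or_one k with e | e
  · rw [← zpow_mod_orderOf, hb, Nat.cast_ofNat, e, zpow_zero] at hk'
    rw [← hk', orderOf_one] at ha
    omega
  · rw [← zpow_mod_orderOf, hb, Nat.cast_ofNat, e, zpow_one] at hk'
    exact hk'.symm

theorem exists_five (h : Data G) {i : G}
    (h5 : 5 ∣ Nat.card (Subgroup.centralizer ({i} : Set G))) :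
    ∃ y, orderOf y = 5 ∧ Commute i y := by
  haveI : Fact (Nat.Prime 5) := ⟨Nat.prime_five⟩
  obtain ⟨⟨y, hyC⟩, hy⟩ := exists_prime_orderOf_dvd_card' (G := Subgroup.centralizer ({i} : Set G)) 5 h5
  rw [Subgroup.orderOf_mk] at hy
  exact ⟨y, hy, (mem_cent.1 hyC).symm⟩

theorem card_sylow_five (h : Data G) (P : Sylow 5 G) [Fact (Nat.Prime 5)] :
    Nat.card ↥(P : Subgroup G) = 5 := by
  rw [P.card_eq_multiplicity, h.card, show (95040 : ℕ) = 5 ^ 1 * 19008 by norm_num,
    Nat.factorization_mul (by norm_num) (by norm_num), Finsupp.add_apply,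
    Nat.Prime.factorization_pow Nat.prime_five, Finsupp.single_eq_same,
    Nat.factorization_eq_zero_of_not_dvd (by norm_num : ¬ 5 ∣ 19008)]
  norm_num

/-- The involutions centralising elements of order five are conjugate. -/
theorem conj_of_five (h : Data G) {i j : G} (hi : orderOf i = 2) (hj : orderOf j = 2)
    (hi5 : 5 ∣ Nat.card (Subgroup.centralizer ({i} : Set G)))
    (hj5 : 5 ∣ Nat.card (Subgroup.centralizer ({j} : Set G))) : IsConj i j := by
  haveI : Fact (Nat.Prime 5) := ⟨Nat.prime_five⟩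
  obtain ⟨y, hy, hiy⟩ := exists_five h hi5
  obtain ⟨w, hw, hjw⟩ := exists_five h hj5
  have mk : ∀ v : G, orderOf v = 5 → ∃ P : Sylow 5 G, Subgroup.zpowers v = (P : Subgroup G) := by
    intro v hv
    obtain ⟨P, hle⟩ := (IsPGroup.of_card (G := ↥(Subgroup.zpowers v)) (p := 5) (n := 1)
      (by rw [Nat.card_zpowers, hv, pow_one])).exists_le_sylow
    exact ⟨P, Subgroup.eq_of_le_of_card_ge hle
      (by rw [card_sylow_five h P, Nat.card_zpowers, hv])⟩
  obtain ⟨P, hP⟩ := mk y hy
  obtain ⟨Q, hQ⟩ := mk w hw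
  obtain ⟨g, hg⟩ := MulAction.exists_smul_eq G P Q
  have hwmem : g * y * g⁻¹ ∈ Subgroup.zpowers w := by
    rw [hQ, ← hg, Sylow.coe_subgroup_smul]
    exact ⟨y, hP ▸ Subgroup.mem_zpowers y, rfl⟩
  obtain ⟨k, hk⟩ := Subgroup.mem_zpowers_iff.1 hwmem
  refine isConj_iff.2 ⟨g, unique_mate h (y := g * y * g⁻¹) ?_ ?_ ?_ hj ?_⟩
  · rw [← MulAut.conj_apply, MulEquiv.orderOf_eq, hy]
  · rw [← MulAut.conj_apply, MulEquiv.orderOf_eq, hi]
  · exact hiy.map (MulAut.conj g)
  · rw [← hk]; exact hjw.zpow_right k

/-- The centraliser of such an involution. -/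
theorem card_cent_five (h : Data G) {s : G} (hs : orderOf s = 2) {y : G} (hy : orderOf y = 5)
    (hsy : Commute s y) :
    Subgroup.normalizer (Subgroup.zpowers y : Set G) ≤ Subgroup.centralizer ({s} : Set G) := by
  intro n hn
  have h2 := (Subgroup.mem_normalizer_iff.1 hn y).1 (Subgroup.mem_zpowers y)
  obtain ⟨k, hk⟩ := Subgroup.mem_zpowers_iff.1 h2
  have e : n * s * n⁻¹ = s := by
    refine unique_mate h (y := n * y * n⁻¹) ?_ ?_ ?_ hs ?_
    · rw [← MulAut.conj_apply, MulEquiv.orderOf_eq, hy]
    · rw [← MulAut.conj_apply, MulEquiv.orderOf_eq, hs]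
    · exact hsy.map (MulAut.conj n)
    · rw [← hk]; exact hsy.zpow_right k
  exact mem_cent.2 (mul_inv_eq_iff_eq_mul.1 e)

/-- The number of subgroups of order five in such a centraliser. -/
theorem card_sylow_cent (h : Data G) {s : G} (hs : orderOf s = 2)
    (h5 : 5 ∣ Nat.card (Subgroup.centralizer ({s} : Set G))) [Fact (Nat.Prime 5)] :
    Nat.card (Subgroup.centralizer ({s} : Set G)) =
      Nat.card (Sylow 5 (Subgroup.centralizer ({s} : Set G))) * 40 := by
  obtain ⟨y, hy, hsy⟩ := exists_five h h5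
  set C := Subgroup.centralizer ({s} : Set G)
  have hyC : y ∈ C := mem_cent.2 hsy.symm
  obtain ⟨P, hle⟩ := (IsPGroup.of_card (G := ↥(Subgroup.zpowers (⟨y, hyC⟩ : C))) (p := 5) (n := 1)
    (by rw [Nat.card_zpowers, Subgroup.orderOf_mk, hy, pow_one])).exists_le_sylow
  have hP5 : Nat.card ↥(P : Subgroup C) ≤ 5 := by
    obtain ⟨R, hR⟩ := (P.2.map C.subtype).exists_le_sylow
    have := Nat.card_le_card_of_injective _ (Subgroup.inclusion_injective hR)
    rw [card_sylow_five h R, ← Nat.card_congr (Subgroup.equivMapOfInjective _ _ C.subtype_injective).toEquiv]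
      at this
    exact this
  have he : Subgroup.zpowers (⟨y, hyC⟩ : C) = (P : Subgroup C) :=
    Subgroup.eq_of_le_of_card_ge hle (by rw [Nat.card_zpowers, Subgroup.orderOf_mk, hy]; exact hP5)
  have hN : Nat.card (Subgroup.normalizer (P : Set C)) = 40 := by
    rw [show Subgroup.normalizer (P : Set C) =
        Subgroup.normalizer ((Subgroup.zpowers (⟨y, hyC⟩ : C) : Subgroup C) : Set C) by
      rw [he]; rfl, ← h.normFive y hy]
    have hzp : (Subgroup.zpowers y).subgroupOf C = Subgroup.zpowers (⟨y, hyC⟩ : C) := by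
      ext u
      simp only [Subgroup.mem_subgroupOf, Subgroup.mem_zpowers_iff]
      exact exists_congr fun k => ⟨fun e => Subtype.ext (by simpa using e),
        fun e => by rw [← e]; simp⟩
    rw [← hzp, ← Subgroup.subgroupOf_normalizer_eq (Subgroup.zpowers_le.2 hyC),
      Nat.card_congr (Subgroup.subgroupOfEquivOfLe (card_cent_five h hs hy hsy)).toEquiv]
  rw [P.card_eq_index_normalizer, ← hN, Subgroup.index_mul_card]

theorem card_class_conjAct {i : G} (x : G) :
    x ∈ MulAction.orbit (ConjAct G) i ↔ IsConj i x := by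
  rw [ConjAct.mem_orbit_conjAct]
  exact isConj_comm

/-- The centraliser has order 240 or 1440. -/
theorem card_cases (h : Data G) {s : G} (hs : orderOf s = 2)
    (h5 : 5 ∣ Nat.card (Subgroup.centralizer ({s} : Set G))) :
    Nat.card (Subgroup.centralizer ({s} : Set G)) = 240 ∨
      Nat.card (Subgroup.centralizer ({s} : Set G)) = 1440 := by
  classical
  haveI : Fact (Nat.Prime 5) := ⟨Nat.prime_five⟩
  haveI := Fintype.ofFinite G
  haveI := h.simple
  set C := Subgroup.centralizer ({s} : Set G) with hC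
  have hCn := card_sylow_cent h hs h5
  set n := Nat.card (Sylow 5 C) with hn
  have hmod : n % 5 = 1 := card_sylow_modEq_one 5 C
  have hd : Nat.card C ∣ 95040 := h.card ▸ Subgroup.card_subgroup_dvd_card C
  have hd216 : n ∣ 216 := by
    rw [hCn] at hd
    have h2376 : n ∣ 2376 := Nat.dvd_of_mul_dvd_mul_right (by norm_num : 0 < 40)
      ((show (95040 : ℕ) = 2376 * 40 by norm_num) ▸ hd)
    have hco : Nat.Coprime n 11 := (((by norm_num : Nat.Prime 11).coprime_iff_not_dvd).2
      (fun e => no_eleven h hs (hCn ▸ e.mul_right 40))).symm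
    exact hco.dvd_of_dvd_mul_right ((show (2376 : ℕ) = 216 * 11 by norm_num) ▸ h2376)
  have hk := card_class h s
  have hle := card_class_le h hs
  rw [hCn] at hk
  have hlist : n ∈ (216 : ℕ).divisors.filter fun d => d % 5 = 1 :=
    Finset.mem_filter.2 ⟨Nat.mem_divisors.2 ⟨hd216, by norm_num⟩, hmod⟩
  rw [show ((216 : ℕ).divisors.filter fun d => d % 5 = 1) = {1, 6, 36, 216} by decide +kernel] at hlist
  simp only [Finset.mem_insert, Finset.mem_singleton] at hlist
  rcases hlist with e | e | e | e
  · rw [e] at hk; omega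
  · left; rw [hCn, e]
  · right; rw [hCn, e]
  exfalso
  -- eleven conjugates: the involution would be an odd permutation
  rw [e] at hk hCn
  let X := {x : G // IsConj s x}
  let _ : MulAction G X :=
    { smul := fun g x => ⟨g * x.1 * g⁻¹, x.2.trans (isConj_iff.2 ⟨g, rfl⟩)⟩
      one_smul := fun x => Subtype.ext (show (1 : G) * x.1 * 1⁻¹ = x.1 by simp)
      mul_smul := fun g k x => Subtype.ext
        (show g * k * x.1 * (g * k)⁻¹ = g * (k * x.1 * k⁻¹) * g⁻¹ by group) }
  have hX : Fintype.card X = 11 := by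
    rw [← Nat.card_eq_fintype_card]; show Nat.card {x : G // IsConj s x} = 11; omega
  let π : G →* Equiv.Perm X := MulAction.toPermHom G X
  let f : G →* ℤˣ := Equiv.Perm.sign.comp π
  have hf : f s = 1 := by
    rcases f.normal_ker.eq_bot_or_eq_top with q | q
    · have := Nat.card_le_card_of_injective f ((MonoidHom.ker_eq_bot_iff f).1 q)
      rw [h.card, Nat.card_eq_fintype_card (α := ℤˣ)] at this
      simp at this
    · exact MonoidHom.mem_ker.1 (q ▸ Subgroup.mem_top s)
  have hs2 : s ^ 2 = 1 := by rw [← hs]; exact pow_orderOf_eq_one s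
  have hπ2 : π s * π s = 1 := by rw [← map_mul, ← pow_two, hs2, map_one]
  have hsign : Equiv.Perm.sign (π s) = (-1) ^ ((Fintype.card X - Fintype.card (Function.fixedPoints (π s))) / 2) :=
    Equiv.Perm.sign_of_pow_two_eq_one (by rw [pow_two]; exact hπ2)
  set fx := Fintype.card (Function.fixedPoints (π s)) with hfx
  -- the moved points are even in number, and the element of order five moves all but one
  obtain ⟨y, hy, hsy⟩ := exists_five h h5
  let Y : Subgroup G := Subgroup.zpowers y
  have hY : IsPGroup 5 Y := IsPGroup.of_card (n := 1) (by rw [Nat.card_zpowers, hy, pow_one])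
  let F := {x : X // π s x = x}
  have hsF : ∀ (k : Y) (x : X), π s x = x → π s (k.1 • x) = k.1 • x := by
    intro k x hx
    obtain ⟨m, hm⟩ := Subgroup.mem_zpowers_iff.1 k.2
    have hc : Commute s k.1 := hm ▸ hsy.zpow_right m
    show s • k.1 • x = k.1 • x
    rw [smul_smul, hc.eq, mul_smul]
    exact congrArg (k.1 • ·) hx
  let _ : MulAction Y F :=
    { smul := fun k x => ⟨k.1 • x.1, hsF k x.1 x.2⟩
      one_smul := fun x => Subtype.ext (one_smul G x.1)
      mul_smul := fun k l x => Subtype.ext (mul_smul k.1 l.1 x.1) }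
  have hfix : Nat.card (MulAction.fixedPoints Y F) = 1 := by
    refine Nat.card_eq_one_iff_unique.2 ⟨⟨fun a b => ?_⟩, ?_⟩
    · have key : ∀ a : MulAction.fixedPoints Y F, a.1.1.1 = s := by
        intro a
        have q := congrArg (fun u : F => u.1.1) (a.2 ⟨y, Subgroup.mem_zpowers y⟩)
        have q' : y * a.1.1.1 * y⁻¹ = a.1.1.1 := q
        have ho : orderOf a.1.1.1 = 2 := by
          obtain ⟨c, hc⟩ := isConj_iff.1 a.1.1.2
          rw [← hc, ← MulAut.conj_apply, MulEquiv.orderOf_eq, hs]
        exact unique_mate h hy ho (mul_inv_eq_iff_eq_mul.1 q').symm hs hsy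
      exact Subtype.ext (Subtype.ext (Subtype.ext ((key a).trans (key b).symm)))
    · refine ⟨⟨⟨⟨s, IsConj.refl s⟩, Subtype.ext (show s * s * s⁻¹ = s by group)⟩, fun k => ?_⟩⟩
      obtain ⟨m, hm⟩ := Subgroup.mem_zpowers_iff.1 k.2
      have hc : Commute k.1 s := hm ▸ (hsy.zpow_right m).symm
      exact Subtype.ext (Subtype.ext (show k.1 * s * k.1⁻¹ = s by rw [hc.eq]; group))
  have hmod2 : fx % 5 = 1 := by
    have := hY.card_modEq_card_fixedPoints F
    rw [hfix] at this
    rw [hfx, ← Nat.card_eq_fintype_card]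
    exact this
  have hle11 : fx ≤ 11 := hX ▸ Fintype.card_subtype_le _
  have hne : fx ≠ 11 := by
    intro q
    have hker : π s = 1 := by
      have : Function.fixedPoints (π s) = Set.univ := by
        refine Set.eq_of_subset_of_ncard_le (Set.subset_univ _) ?_
        rw [Set.ncard_univ, ← Nat.card_coe_set_eq, Nat.card_eq_fintype_card, Nat.card_eq_fintype_card,
          ← hfx, q, hX]
      exact Equiv.ext fun x => (this ▸ Set.mem_univ x : x ∈ Function.fixedPoints (π s))
    rcases π.normal_ker.eq_bot_or_eq_top with r | r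
    · have : s = 1 := (MonoidHom.ker_eq_bot_iff π).1 r (hker.trans (map_one π).symm)
      rw [this, orderOf_one] at hs
      omega
    · have hcent : ∀ g : G, g * s * g⁻¹ = s := by
        intro g
        have := congrArg (fun σ : Equiv.Perm X => (σ ⟨s, IsConj.refl s⟩).1)
          (MonoidHom.mem_ker.1 (r ▸ Subgroup.mem_top g : g ∈ π.ker))
        exact this
      have hCtop : C = ⊤ := (Subgroup.eq_top_iff' _).2 fun g =>
        mem_cent.2 (mul_inv_eq_iff_eq_mul.1 (hcent g))
      rw [show Nat.card C = Nat.card G by rw [hCtop, Subgroup.card_top], h.card] at hCn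
      omega
  have heven : (11 - fx) % 2 = 0 := by
    have : Fintype.card X ≡ fx [MOD 2] := by
      haveI : Fact (Nat.Prime 2) := ⟨Nat.prime_two⟩
      let T : Subgroup G := Subgroup.zpowers s
      have hT : IsPGroup 2 T := IsPGroup.of_card (n := 1) (by rw [Nat.card_zpowers, hs, pow_one])
      have e1 := hT.card_modEq_card_fixedPoints X
      have e2 : Nat.card (MulAction.fixedPoints T X) = fx := by
        rw [hfx, ← Nat.card_eq_fintype_card]
        refine Nat.card_congr (Equiv.setCongr (Set.ext fun x => ⟨fun q => q ⟨s, Subgroup.mem_zpowers s⟩,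
          fun q k => ?_⟩))
        obtain ⟨m, hm⟩ := Subgroup.mem_zpowers_iff.1 k.2
        show k.1 • x = x
        rw [← hm]
        have : s ∈ MulAction.stabilizer G x := q
        exact zpow_mem this m
      rwa [Nat.card_eq_fintype_card, e2] at e1
    rw [hX] at this
    have : 11 % 2 = fx % 2 := this
    omega
  have hf' : Equiv.Perm.sign (π s) = 1 := hf
  rw [hX] at hsign
  rw [hsign] at hf'
  clear_value fx
  clear hfx
  interval_cases fx <;> first | omega | (revert hf'; norm_num) | (revert hf'; decide)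

end Cfsg.Agent.M12Nse51
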