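import Cfsg.Agent.Lib.M12Nse51CentZ
import Cfsg.Agent.Lib.HallCore

/-!
The 2-core of the centraliser of the central involution and the quotient by it.
-/

set_option autoImplicit false
set_option maxRecDepth 100000

namespace Cfsg.Agent.M12Nse51

universe u

variable {G : Type u} [Group G] [Finite G]

theorem card_cent_involution (h : Data G) {S : Sylow 2 G} {s z g : G} (L : Local S s z g) {i : G}
    (hi : orderOf i = 2) : ¬ 9 ∣ Nat.card (Subgroup.centralizer ({i} : Set G)) := by
  intro h9
  have e : ∀ {a : G}, IsConj a i → Nat.card (Subgroup.centralizer ({i} : Set G)) =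
      Nat.card (Subgroup.centralizer ({a} : Set G)) := by
    intro a q
    have h1 := card_class h a
    have h2 := card_class h i
    have e : Nat.card {x : G // IsConj a x} = Nat.card {x : G // IsConj i x} :=
      Nat.card_congr (Equiv.subtypeEquivRight fun x => ⟨fun r => q.symm.trans r, fun r => q.trans r⟩)
    rw [e] at h1
    exact Nat.eq_of_mul_eq_mul_left (Nat.pos_of_ne_zero fun e0 => by rw [e0] at h2; omega)
      (h2.trans h1.symm)
  rcases L.classes i hi with q | q
  · rw [e q, L.pivot.scard] at h9; norm_num at h9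
  · rw [e q, L.zcard] at h9; norm_num at h9

theorem eq_two_part {n : ℕ} (h : n ∣ 64 * 27) (h3 : ¬ 3 ∣ n) : n ∣ 64 :=
  ((Nat.prime_three.coprime_iff_not_dvd.2 h3).symm.pow_right 3).dvd_of_dvd_mul_right
    (show n ∣ 64 * 3 ^ 3 from h)

/-- If twelve elements commute with `x` and `z`, only three involutions commute with `x`. -/
theorem few_involutions (h : Data G) {S : Sylow 2 G} {s z g : G} (L : Local S s z g) {x : G}
    (hx : orderOf x = 3) (hxz : Commute z x)
    (h12 : Nat.card {a : G // Commute a x ∧ Commute a z} = 12) :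
    Nat.card {i : G // Commute i x ∧ orderOf i = 2} ≤ 3 := by
  classical
  haveI : Fact (Nat.Prime 2) := ⟨Nat.prime_two⟩
  haveI : Fact (Nat.Prime 3) := ⟨Nat.prime_three⟩
  haveI := Fintype.ofFinite G
  set C := Subgroup.centralizer ({x} : Set G) with hC
  let K : Subgroup C := (Subgroup.centralizer ({z} : Set G)).subgroupOf C
  have hK : Nat.card K = 12 := by
    rw [← h12]
    exact Nat.card_congr
      { toFun := fun a => ⟨a.1.1, mem_cent.1 a.1.2, mem_cent.1 (Subgroup.mem_subgroupOf.1 a.2)⟩
        invFun := fun a => ⟨⟨a.1, mem_cent.2 a.2.1⟩, Subgroup.mem_subgroupOf.2 (mem_cent.2 a.2.2)⟩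
        left_inv := fun a => rfl
        right_inv := fun a => rfl }
  let zC : C := ⟨z, mem_cent.2 hxz⟩
  let xC : C := ⟨x, mem_cent.2 (Commute.refl x)⟩
  have hxcent : ∀ a : C, a * xC = xC * a := fun a => Subtype.ext (mem_cent.1 a.2).eq
  have ho4 : ∀ a : C, orderOf a ≠ 4 := by
    intro a ha
    have := (show Commute (a : G) x from mem_cent.1 a.2).orderOf_mul_eq_mul_orderOf_of_coprime
      (by rw [Subgroup.orderOf_coe, ha, hx]; norm_num)
    rw [Subgroup.orderOf_coe, ha, hx] at this
    exact h.no12 _ this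
  -- 2-subgroups are elementary abelian
  have hsq : ∀ P : Subgroup C, IsPGroup 2 P → ∀ a ∈ P, a * a = 1 := by
    intro P hP a ha
    obtain ⟨k, hk⟩ := (IsPGroup.iff_card).1 hP
    obtain ⟨i, -, hi⟩ := (Nat.dvd_prime_pow Nat.prime_two).1 (hk ▸ Subgroup.orderOf_dvd_natCard P ha)
    rcases i with _ | _ | i
    · rw [orderOf_eq_one_iff.1 hi, one_mul]
    · rw [← pow_two, show (2 : ℕ) = orderOf a by rw [hi]; rfl, pow_orderOf_eq_one]
    · exfalso
      refine ho4 (a ^ 2 ^ i) ?_
      rw [orderOf_pow, hi, Nat.gcd_eq_right (pow_dvd_pow 2 (by omega)),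
        show i + 1 + 1 = i + 2 from rfl, pow_add, Nat.mul_div_cancel_left _ (by positivity)]
      rfl
  have hzo : orderOf zC = 2 := by rw [Subgroup.orderOf_mk]; exact L.pivot.zord
  obtain ⟨W, hW⟩ := (IsPGroup.of_card (G := ↥(Subgroup.zpowers zC)) (p := 2) (n := 1)
    (by rw [Nat.card_zpowers, hzo, pow_one])).exists_le_sylow
  have hWz : zC ∈ (W : Subgroup C) := hW (Subgroup.mem_zpowers zC)
  have hWK : (W : Subgroup C) ≤ K := fun a ha => Subgroup.mem_subgroupOf.2 (mem_cent.2
    (congrArg Subtype.val (comm_of_sq (hsq _ W.2) ha hWz)))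
  have hfac2 : (Nat.card C).factorization 2 = 2 := by
    obtain ⟨k, hk⟩ := (IsPGroup.iff_card).1 W.2
    have h1 : Nat.card ↥(W : Subgroup C) ∣ 12 := hK ▸ Subgroup.card_dvd_of_le hWK
    rw [hk] at h1
    have hk2 : k ≤ 2 := by
      by_contra hlt
      have := (pow_dvd_pow 2 (by omega : 3 ≤ k)).trans h1
      norm_num at this
    have h4 : 2 ^ 2 ∣ Nat.card C :=
      (show 2 ^ 2 ∣ 12 by norm_num).trans (hK ▸ Subgroup.card_subgroup_dvd_card K)
    have := (Nat.prime_two.pow_dvd_iff_le_factorization Nat.card_pos.ne').1 h4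
    have hm := W.card_eq_multiplicity
    rw [hk] at hm
    have := Nat.pow_right_injective (le_refl 2) hm
    omega
  have hW4 : Nat.card ↥(W : Subgroup C) = 4 := by rw [W.card_eq_multiplicity, hfac2]; rfl
  -- enough: all involutions lie in that Sylow subgroup
  suffices hall : ∀ a : C, orderOf a = 2 → a ∈ (W : Subgroup C) by
    let A : Finset C := (Finset.univ.filter fun a => a ∈ (W : Subgroup C)).erase 1
    have hA : A.card = 3 := by
      rw [Finset.card_erase_of_mem (by simp [one_mem]), ← Fintype.card_subtype,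
        ← Nat.card_eq_fintype_card]
      show Nat.card ↥(W : Subgroup C) - 1 = 3
      rw [hW4]
    rw [← hA, ← Nat.card_eq_finsetCard]
    refine Nat.card_le_card_of_injective (fun i => ⟨⟨i.1, mem_cent.2 i.2.1⟩, ?_⟩) ?_
    · refine Finset.mem_erase.2 ⟨fun q => ?_, Finset.mem_filter.2 ⟨Finset.mem_univ _,
        hall _ (by rw [Subgroup.orderOf_mk]; exact i.2.2)⟩⟩
      have := i.2.2
      rw [show i.1 = 1 from congrArg Subtype.val q, orderOf_one] at this
      omega
    · intro i j q
      exact Subtype.ext (congrArg (fun v : A => (v.1.1 : G)) q)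
  -- a central subgroup containing the element of order three
  have hnormal : (W : Subgroup C).Normal → ∀ a : C, orderOf a = 2 → a ∈ (W : Subgroup C) := by
    intro hn a ha
    obtain ⟨P, hP⟩ := (IsPGroup.of_card (G := ↥(Subgroup.zpowers a)) (p := 2) (n := 1)
      (by rw [Nat.card_zpowers, ha, pow_one])).exists_le_sylow
    haveI := Sylow.unique_of_normal W hn
    exact (Subsingleton.elim P W) ▸ hP (Subgroup.mem_zpowers a)
  have hd1728 : Nat.card C ∣ 1728 := by
    have h1 : Nat.card C ∣ 95040 := h.card ▸ Subgroup.card_subgroup_dvd_card C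
    have hco : Nat.Coprime (Nat.card C) 55 := by
      rw [show (55 : ℕ) = 5 * 11 from rfl]
      refine Nat.Coprime.mul_right (((Nat.prime_five).coprime_iff_not_dvd.2 fun q => ?_).symm)
        ((((by norm_num : Nat.Prime 11)).coprime_iff_not_dvd.2 fun q => ?_).symm)
      · haveI : Fact (Nat.Prime 5) := ⟨Nat.prime_five⟩
        obtain ⟨⟨y, hyC⟩, hy⟩ := exists_prime_orderOf_dvd_card' (G := C) 5 q
        rw [Subgroup.orderOf_mk] at hy
        have := (mem_cent.1 hyC).orderOf_mul_eq_mul_orderOf_of_coprime (by rw [hy, hx]; norm_num)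
        rw [hy, hx] at this
        exact h.no15 _ this
      · haveI : Fact (Nat.Prime 11) := ⟨by norm_num⟩
        obtain ⟨⟨y, hyC⟩, hy⟩ := exists_prime_orderOf_dvd_card' (G := C) 11 q
        rw [Subgroup.orderOf_mk] at hy
        have := Subgroup.orderOf_dvd_natCard (Subgroup.centralizer ({y} : Set G))
          (mem_cent.2 (mem_cent.1 hyC).symm)
        rw [h.centEleven y hy, hx] at this
        norm_num at this
    exact hco.dvd_of_dvd_mul_right ((show (95040 : ℕ) = 1728 * 55 from rfl) ▸ h1)
  by_cases h9 : 9 ∣ Nat.card C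
  swap
  · -- the centraliser has order twelve
    obtain ⟨k, hk⟩ := (show 12 ∣ Nat.card C from hK ▸ Subgroup.card_subgroup_dvd_card K)
    have h144 : k ∣ 144 := Nat.dvd_of_mul_dvd_mul_left (by norm_num : 0 < 12)
      ((show (1728 : ℕ) = 12 * 144 from rfl) ▸ hk ▸ hd1728)
    have hk2 : ¬ 2 ∣ k := by
      intro q
      have h8 : 2 ^ 3 ∣ Nat.card C := hk ▸ (show 2 ^ 3 ∣ 12 * k from
        (show 2 ^ 3 = 4 * 2 from rfl) ▸ Nat.mul_dvd_mul (by norm_num) q)
      have := (Nat.prime_two.pow_dvd_iff_le_factorization Nat.card_pos.ne').1 h8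
      omega
    have hk3 : ¬ 3 ∣ k := fun q => h9 (hk ▸ (show 9 ∣ 12 * k from
      (show 9 = 3 * 3 from rfl) ▸ Nat.mul_dvd_mul (by norm_num) q))
    have hk1 : k = 1 := Nat.eq_one_of_dvd_coprimes
      (show Nat.Coprime 16 9 by norm_num)
      (((Nat.prime_three.coprime_iff_not_dvd.2 hk3).symm.pow_right 2).dvd_of_dvd_mul_right
        (show k ∣ 16 * 3 ^ 2 from h144))
      (((Nat.prime_two.coprime_iff_not_dvd.2 hk2).symm.pow_right 4).dvd_of_dvd_mul_left
        (show k ∣ 2 ^ 4 * 9 from h144))
    have hCK : K = ⊤ := Subgroup.eq_top_of_card_eq K (by rw [hK, hk, hk1])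
    -- everything commutes with the element of order three and the involution
    refine hnormal ⟨fun a ha c => ?_⟩
    have hsup : (Subgroup.centralizer ({a} : Set C)) = ⊤ := by
      apply Subgroup.eq_top_of_le_card
      have h4 : 4 ∣ Nat.card (Subgroup.centralizer ({a} : Set C)) := by
        refine hW4 ▸ Subgroup.card_dvd_of_le fun b hb => ?_
        exact Subgroup.mem_centralizer_singleton_iff.2 (comm_of_sq (hsq _ W.2) hb ha)
      have h3 : 3 ∣ Nat.card (Subgroup.centralizer ({a} : Set C)) := by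
        have := Subgroup.orderOf_dvd_natCard (Subgroup.centralizer ({a} : Set C))
          (Subgroup.mem_centralizer_singleton_iff.2 (hxcent a).symm)
        rwa [show orderOf xC = 3 by rw [Subgroup.orderOf_mk]; exact hx] at this
      rw [hk, hk1, mul_one]
      exact Nat.le_of_dvd Nat.card_pos (Nat.Coprime.mul_dvd_of_dvd_of_dvd (by norm_num) h4 h3)
    have hc : c ∈ Subgroup.centralizer ({a} : Set C) := hsup ▸ Subgroup.mem_top c
    rw [Subgroup.mem_centralizer_singleton_iff.1 hc, mul_inv_cancel_right]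
    exact ha
  haveI : Group.IsSolvable C := by
    obtain ⟨a, ha, b, hb, hab⟩ : ∃ a, a ≤ 6 ∧ ∃ b, b ≤ 3 ∧ Nat.card C = 2 ^ a * 3 ^ b := by
      obtain ⟨d, e, hd, he, hde⟩ := Nat.dvd_mul.1 (show Nat.card C ∣ 2 ^ 6 * 3 ^ 3 from hd1728)
      obtain ⟨a, ha, rfl⟩ := (Nat.dvd_prime_pow Nat.prime_two).1 hd
      obtain ⟨b, hb, rfl⟩ := (Nat.dvd_prime_pow Nat.prime_three).1 he
      exact ⟨a, ha, b, hb, hde.symm⟩
    exact CharInduced.solvable_of_card_two_primes 2 3 a b Nat.prime_two Nat.prime_three hab
  set A := Cfsg.pCore 2 C with hAdef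
  have hAp : IsPGroup 2 A := HallCore.isPGroup_pCore 2 C
  haveI : A.Normal := HallCore.pCore_normal 2 C
  have hAW : A ≤ (W : Subgroup C) := HallCore.pCore_le_sylow W
  have hno9 : ∀ a : C, orderOf a = 2 → ¬ 9 ∣ Nat.card (Subgroup.centralizer ({a} : Set C)) := by
    intro a ha q
    refine card_cent_involution h L (by rw [Subgroup.orderOf_coe, ha] : orderOf (a : G) = 2)
      (q.trans ?_)
    rw [Nat.card_congr (Subgroup.equivMapOfInjective _ _ C.subtype_injective).toEquiv]
    refine Subgroup.card_dvd_of_le ?_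
    rintro _ ⟨b, hb, rfl⟩
    exact mem_cent.2 (congrArg Subtype.val (Subgroup.mem_centralizer_singleton_iff.1 hb))
  by_cases hA1 : A = ⊥
  swap
  · by_cases hAW' : A = (W : Subgroup C)
    · exact hnormal (hAW' ▸ ‹A.Normal›)
    exfalso
    obtain ⟨a, haA, ha1⟩ : ∃ a ∈ A, a ≠ 1 := by
      by_contra hcon
      push Not at hcon
      exact hA1 ((Subgroup.eq_bot_iff_forall _).2 hcon)
    have ha2 : orderOf a = 2 := orderOf_eq_prime (by rw [pow_two]; exact hsq A hAp a haA) ha1
    have hA2 : Subgroup.zpowers a = A := by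
      refine Subgroup.eq_of_le_of_card_ge (Subgroup.zpowers_le.2 haA) ?_
      rw [Nat.card_zpowers, ha2]
      have h1 : Nat.card A ∣ 4 := hW4 ▸ Subgroup.card_dvd_of_le hAW
      have h2 : Nat.card A ≠ 4 := fun q => hAW' (Subgroup.eq_of_le_of_card_ge hAW (by rw [hW4, q]))
      have := Nat.le_of_dvd (by norm_num) h1
      by_contra hlt
      interval_cases hn : Nat.card A <;> omega
    refine hno9 a ha2 (h9.trans (dvd_of_eq ?_))
    have htop : Subgroup.centralizer ({a} : Set C) = ⊤ := by
      rw [Subgroup.eq_top_iff']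
      intro c
      refine Subgroup.mem_centralizer_singleton_iff.2 (mul_inv_eq_iff_eq_mul.1 ?_)
      have hc : c * a * c⁻¹ ∈ Subgroup.zpowers a := hA2.symm ▸ ‹A.Normal›.conj_mem a haA c
      rw [mem_zpowers_iff_mem_range_orderOf, ha2] at hc
      simp only [Finset.mem_image, Finset.mem_range] at hc
      obtain ⟨n, hn, he⟩ := hc
      interval_cases n
      · rw [pow_zero, eq_comm, conj_eq_one_iff] at he
        exact absurd he ha1
      · rw [pow_one] at he; exact he.symm
    rw [htop, Subgroup.card_top]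
  exfalso
  set R := Cfsg.pCore 3 C with hR
  haveI : R.Normal := HallCore.pCore_normal 3 C
  have hRp : IsPGroup 3 R := HallCore.isPGroup_pCore 3 C
  have hP3 : Cfsg.pPrimeCore 3 C = ⊥ := by
    rw [Cfsg.pPrimeCore, sSup_eq_bot]
    rintro N ⟨hN, hco⟩
    haveI := hN
    have hd : Nat.card N ∣ 64 := eq_two_part ((Subgroup.card_subgroup_dvd_card N).trans hd1728)
      (fun q => by
        have := Nat.Coprime.coprime_dvd_left q hco
        norm_num at this)
    obtain ⟨k, -, hk⟩ := (Nat.dvd_prime_pow Nat.prime_two (m := 6)).1 hd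
    exact le_bot_iff.1 (hA1 ▸ HallCore.le_pCore (IsPGroup.of_card hk))
  have hself := HallSolvable.centralizer_pCore_le (HallSolvable.isPSolvable_of_solvable 3) hP3
  have hxR : xC ∈ R := by
    have hn : (Subgroup.zpowers xC).Normal := by
      refine ⟨fun a ha c => ?_⟩
      obtain ⟨k, rfl⟩ := Subgroup.mem_zpowers_iff.1 ha
      refine Subgroup.mem_zpowers_iff.2 ⟨k, ?_⟩
      rw [((show Commute c xC from hxcent c).zpow_right k).eq, mul_inv_cancel_right]
    exact HallCore.le_pCore (IsPGroup.of_card (n := 1)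
      (by rw [Nat.card_zpowers, Subgroup.orderOf_mk, hx, pow_one])) (Subgroup.mem_zpowers _)
  have hR3 : R ≤ Subgroup.zpowers xC := by
    refine SignalizerCoprime.le_of_centralizers_le (p := 2) (B := (W : Subgroup C)) ?_ ?_ ?_ ?_ ?_
    · exact ⟨⟨⟨fun a b => Subtype.ext (comm_of_sq (hsq _ W.2) a.2 b.2)⟩⟩,
        fun a ha => by rw [pow_two]; exact hsq _ W.2 a ha⟩
    · rw [hW4]; norm_num
    · rw [Subgroup.normalizer_eq_top]; exact le_top
    · obtain ⟨k, hk⟩ := (IsPGroup.iff_card).1 hRp
      rw [hk]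
      intro q
      have := Nat.prime_two.dvd_of_dvd_pow q
      norm_num at this
    · intro b hb hb1
      have hb2 : orderOf b = 2 := orderOf_eq_prime (by rw [pow_two]; exact hsq _ W.2 b hb) hb1
      have hxb : xC ∈ R ⊓ Subgroup.centralizer {b} :=
        ⟨hxR, Subgroup.mem_centralizer_singleton_iff.2 (hxcent b).symm⟩
      refine (Subgroup.eq_of_le_of_card_ge (Subgroup.zpowers_le.2 hxb) ?_).ge
      rw [Nat.card_zpowers, show orderOf xC = 3 by rw [Subgroup.orderOf_mk]; exact hx]
      obtain ⟨k, hk⟩ := (IsPGroup.iff_card).1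
        (hRp.to_le (inf_le_left : R ⊓ Subgroup.centralizer {b} ≤ R))
      rw [hk]
      have : k ≤ 1 := by
        by_contra hlt
        refine hno9 b hb2 (((show 9 = 3 ^ 2 from rfl) ▸ pow_dvd_pow 3 (by omega : 2 ≤ k)).trans
          (hk ▸ Subgroup.card_dvd_of_le inf_le_right))
      exact (Nat.pow_le_pow_right (by norm_num) this).trans (le_of_eq (pow_one 3))
  have : zC ∈ R := by
    refine hself (Subgroup.mem_centralizer_iff.2 fun r hr => ?_)
    obtain ⟨k, rfl⟩ := Subgroup.mem_zpowers_iff.1 (hR3 hr)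
    exact ((show Commute zC xC from hxcent zC).zpow_right k).symm.eq
  obtain ⟨k, hk⟩ := (IsPGroup.iff_card).1 hRp
  have hd := Subgroup.orderOf_dvd_natCard R this
  rw [hzo, hk] at hd
  have := Nat.prime_two.dvd_of_dvd_pow hd
  norm_num at this

/-- The order of the 2-core and the facts about an element of order three. -/
theorem core_facts (h : Data G) {S : Sylow 2 G} {s z g : G} (L : Local S s z g) :
    Nat.card (Cfsg.pCore 2 (Subgroup.centralizer ({z} : Set G))) = 32 ∧
    Nonempty ((Subgroup.centralizer ({z} : Set G)) ⧸ Cfsg.pCore 2 (Subgroup.centralizer ({z} : Set G))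
      ≃* Equiv.Perm (Fin 3)) ∧
    ∀ x : Subgroup.centralizer ({z} : Set G), orderOf x = 3 →
      ∀ q ∈ Cfsg.pCore 2 (Subgroup.centralizer ({z} : Set G)), Commute q x →
        (q : G) = 1 ∨ (q : G) = z := by
  classical
  haveI : Fact (Nat.Prime 2) := ⟨Nat.prime_two⟩
  haveI : Fact (Nat.Prime 3) := ⟨Nat.prime_three⟩
  haveI := Fintype.ofFinite G
  set C := Subgroup.centralizer ({z} : Set G) with hCdef
  have hC : Nat.card C = 192 := L.zcard
  have h192 : (192 : ℕ) = 3 * 64 := rfl
  haveI : Group.IsSolvable C :=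
    CharInduced.solvable_of_card_two_primes 2 3 6 1 Nat.prime_two Nat.prime_three (by rw [hC]; rfl)
  set Q := Cfsg.pCore 2 C with hQdef
  haveI hQn : Q.Normal := HallCore.pCore_normal 2 C
  have hQp : IsPGroup 2 Q := HallCore.isPGroup_pCore 2 C
  obtain ⟨k, hk⟩ := (IsPGroup.iff_card).1 hQp
  have hk6 : k ≤ 6 := by
    by_contra hlt
    have := (pow_dvd_pow 2 (by omega : 7 ≤ k)).trans (hk ▸ hC ▸ Subgroup.card_subgroup_dvd_card Q)
    norm_num at this
  -- Sylow 3-subgroups
  have hP3 : ∀ P : Sylow 3 C, Nat.card ↥(P : Subgroup C) = 3 := fun P => by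
    rw [P.card_eq_multiplicity, hC, show (192 : ℕ) = 3 ^ 1 * 64 by norm_num,
      Nat.factorization_mul (by norm_num) (by norm_num), Finsupp.add_apply,
      Nat.Prime.factorization_pow Nat.prime_three, Finsupp.single_eq_same,
      Nat.factorization_eq_zero_of_not_dvd (by norm_num : ¬ 3 ∣ 64)]
    norm_num
  have hn3 : Nat.card (Sylow 3 C) = 16 := by
    have h1 := SimpleSearch.card_orderOf hP3
    have h2 : Nat.card {y : C // orderOf y = 3} = 32 := by
      rw [← L.threes]
      exact Nat.card_congr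
        { toFun := fun a => ⟨a.1.1, mem_cent.1 a.1.2, by rw [Subgroup.orderOf_coe]; exact a.2⟩
          invFun := fun a => ⟨⟨a.1, mem_cent.2 a.2.1⟩, by rw [Subgroup.orderOf_mk]; exact a.2.2⟩
          left_inv := fun a => rfl
          right_inv := fun a => rfl }
    omega
  -- the odd core of the quotient
  set π := QuotientGroup.mk' Q with hπ
  have hQbar : Nat.card (C ⧸ Q) * 2 ^ k = 192 := by
    rw [← hk, ← Subgroup.card_eq_card_quotient_mul_card_subgroup, hC]
  set K := Cfsg.pPrimeCore 2 (C ⧸ Q) with hKdef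
  haveI : K.Normal := HallCore.pPrimeCore_normal 2 (C ⧸ Q)
  have hO2 : Cfsg.pCore 2 (C ⧸ Q) = ⊥ := HallCore.pCore_quotient_self 2 C
  have hK3 : Nat.card K = 3 := by
    have hco : (Nat.card K).Coprime 2 := HallCore.coprime_card_pPrimeCore 2 (C ⧸ Q)
    have hd : Nat.card K ∣ 3 * 2 ^ 6 :=
      (Subgroup.card_subgroup_dvd_card K).trans ⟨2 ^ k, hQbar.symm⟩
    have h3 : Nat.card K ∣ 3 := (hco.pow_right 6).dvd_of_dvd_mul_right hd
    rcases (Nat.dvd_prime Nat.prime_three).1 h3 with e | e
    · exfalso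
      have hb : K = ⊥ := Subgroup.eq_bot_of_card_eq K e
      have hs := HallSolvable.centralizer_pCore_le (HallSolvable.isPSolvable_of_solvable 2)
        (G := C ⧸ Q) hb
      rw [hO2] at hs
      have htop : (⊤ : Subgroup (C ⧸ Q)) = ⊥ := le_bot_iff.1 (le_trans (fun c _ =>
        Subgroup.mem_centralizer_iff.2 fun t ht => by
          rw [SetLike.mem_coe, Subgroup.mem_bot] at ht; simp [ht]) hs)
      have : Nat.card (C ⧸ Q) = 1 := by rw [← Subgroup.card_top, htop, Subgroup.card_bot]
      rw [this, one_mul] at hQbar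
      interval_cases k <;> omega
    · exact e
  have hM : ∀ x : C, orderOf x = 3 → π x ∈ K := by
    intro x hx
    let KP : Sylow 3 (C ⧸ Q) := Sylow.ofCard K (by
      have h1 : 3 ∣ Nat.card (C ⧸ Q) := hK3 ▸ Subgroup.card_subgroup_dvd_card K
      have h9 : ¬ 3 ^ 2 ∣ Nat.card (C ⧸ Q) := fun q => by
        have := q.trans (Dvd.intro _ hQbar)
        norm_num at this
      have e1 := (Nat.prime_three.pow_dvd_iff_le_factorization (k := 1) Nat.card_pos.ne').1
        (by rwa [pow_one])
      have e2 : (Nat.card (C ⧸ Q)).factorization 3 < 2 := by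
        by_contra hc
        exact h9 ((Nat.prime_three.pow_dvd_iff_le_factorization Nat.card_pos.ne').2 (by omega))
      rw [hK3, show (Nat.card (C ⧸ Q)).factorization 3 = 1 by omega, pow_one])
    have hp : IsPGroup 3 (Subgroup.zpowers (π x)) := by
      have hd : orderOf (π x) ∣ 3 ^ 1 := by
        rw [pow_one]; exact hx ▸ orderOf_map_dvd π x
      obtain ⟨i, -, hi⟩ := (Nat.dvd_prime_pow Nat.prime_three).1 hd
      exact IsPGroup.of_card (n := i) (by rw [Nat.card_zpowers, hi])
    obtain ⟨P, hP⟩ := hp.exists_le_sylow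
    haveI := Sylow.unique_of_normal KP ‹K.Normal›
    have : π x ∈ (P : Subgroup (C ⧸ Q)) := hP (Subgroup.mem_zpowers _)
    rwa [Subsingleton.elim P KP] at this
  have hzC : z ∈ C := mem_cent.2 (Commute.refl z)
  let zC : C := ⟨z, hzC⟩
  have hzQ : zC ∈ Q := by
    have hn : (Subgroup.zpowers zC).Normal := by
      refine ⟨fun a ha u => ?_⟩
      obtain ⟨j, rfl⟩ := Subgroup.mem_zpowers_iff.1 ha
      refine Subgroup.mem_zpowers_iff.2 ⟨j, ?_⟩
      have : Commute u zC := Subtype.ext (mem_cent.1 u.2).eq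
      rw [(this.zpow_right j).eq, mul_inv_cancel_right]
    exact HallCore.le_pCore (IsPGroup.of_card (n := 1)
      (by rw [Nat.card_zpowers, Subgroup.orderOf_mk, L.pivot.zord, pow_one])) (Subgroup.mem_zpowers _)
  -- the Frattini count at one element of order three
  have key : ∀ x : C, orderOf x = 3 →
      Nat.card ↥(Q ⊓ Subgroup.centralizer {x}) * 32 ≤ 2 * 2 ^ k ∧
        (k = 6 → Nat.card ↥(Q ⊓ Subgroup.centralizer {x}) = 4) := by
    intro x hx
    obtain ⟨X, hX⟩ := (IsPGroup.of_card (G := ↥(Subgroup.zpowers x)) (p := 3) (n := 1)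
      (by rw [Nat.card_zpowers, hx, pow_one])).exists_le_sylow
    have hXe : (X : Subgroup C) = Subgroup.zpowers x :=
      (Subgroup.eq_of_le_of_card_ge hX (by rw [hP3, Nat.card_zpowers, hx])).symm
    set M := K.comap π with hMdef
    haveI : M.Normal := Subgroup.Normal.comap ‹K.Normal› π
    have hXM : (X : Subgroup C) ≤ M := by
      rw [hXe, Subgroup.zpowers_le]; exact hM x hx
    have hMcard : Nat.card M = 3 * 2 ^ k := by
      have h1 := Subgroup.index_comap_of_surjective K (QuotientGroup.mk'_surjective Q)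
      have h2 := Subgroup.index_mul_card M
      have h3 := Subgroup.index_mul_card K
      rw [hC, show M.index = K.index from h1] at h2
      rw [hK3] at h3
      have hpos : 0 < K.index := Nat.pos_of_ne_zero Subgroup.index_ne_zero_of_finite
      rw [← h3] at hQbar
      exact Nat.eq_of_mul_eq_mul_left hpos (h2.trans (hQbar.symm.trans (by ring)))
    set N := Subgroup.normalizer ((X : Subgroup C) : Set C) with hN
    have hNcard : Nat.card N = 12 := by
      have h1 := Subgroup.index_mul_card (Subgroup.normalizer (X : Set C))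
      rw [← X.card_eq_index_normalizer, hn3, hC] at h1
      show Nat.card ↥(Subgroup.normalizer ((X : Subgroup C) : Set C)) = 12
      have : Nat.card ↥(Subgroup.normalizer (X : Set C)) = 12 := by omega
      exact this
    have hfr : N ⊔ M = ⊤ := Sylow.normalizer_sup_eq_top' X hXM
    have hidx : M.relIndex N = M.index := by
      rw [← Subgroup.relIndex_sup_right, hfr, Subgroup.relIndex_top_right]
    have hinf : Nat.card ↥(M ⊓ N) * 16 = 3 * 2 ^ k := by
      have h1 : (M.subgroupOf N).index * Nat.card (M.subgroupOf N) = 12 :=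
        (Subgroup.index_mul_card _).trans hNcard
      have h2 : Nat.card (M.subgroupOf N) = Nat.card ↥(M ⊓ N) := by
        rw [← Subgroup.inf_subgroupOf_right]
        exact Nat.card_congr (Subgroup.subgroupOfEquivOfLe inf_le_right).toEquiv
      rw [h2, show (M.subgroupOf N).index = M.index from hidx] at h1
      have h3 := Subgroup.index_mul_card M
      rw [hC, hMcard] at h3
      have hpos : 0 < M.index := Nat.pos_of_ne_zero Subgroup.index_ne_zero_of_finite
      refine Nat.eq_of_mul_eq_mul_left hpos ?_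
      rw [← mul_assoc, h1, h3]
      all_goals norm_num
    -- the centralised part of the core
    have hcent : Q ⊓ N = Q ⊓ Subgroup.centralizer {x} := by
      refine le_antisymm ?_ (inf_le_inf_left _ ?_)
      · intro q hq
        refine ⟨hq.1, ?_⟩
        have h1 : q * x * q⁻¹ * x⁻¹ ∈ (X : Subgroup C) := mul_mem
          ((Subgroup.mem_normalizer_iff.1 hq.2 x).1 (hX (Subgroup.mem_zpowers x)))
          (inv_mem (hX (Subgroup.mem_zpowers x)))
        have h2 : q * x * q⁻¹ * x⁻¹ ∈ Q := by
          rw [show q * x * q⁻¹ * x⁻¹ = q * (x * q⁻¹ * x⁻¹) by group]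
          exact mul_mem hq.1 (hQn.conj_mem _ (inv_mem hq.1) x)
        have d1 := Subgroup.orderOf_dvd_natCard _ h1
        have d2 := Subgroup.orderOf_dvd_natCard _ h2
        rw [hP3] at d1
        rw [hk] at d2
        have := orderOf_eq_one_iff.1 (Nat.eq_one_of_dvd_coprimes
          ((by norm_num : Nat.Coprime 2 3).pow_left k) d2 d1)
        rw [mul_inv_eq_one, mul_inv_eq_iff_eq_mul] at this
        exact Subgroup.mem_centralizer_singleton_iff.2 this
      · show Subgroup.centralizer {x} ≤ Subgroup.normalizer ((X : Subgroup C) : Set C)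
        rw [hXe, ← Subgroup.centralizer_closure, ← Subgroup.zpowers_eq_closure]
        exact Subgroup.centralizer_le_normalizer _
    have hQM : Q ≤ M := fun q hq => by
      show π q ∈ K
      rw [show π q = 1 from (QuotientGroup.eq_one_iff q).2 hq]; exact one_mem _
    have hsplit : 3 * Nat.card ↥(Q ⊓ N) ∣ Nat.card ↥(M ⊓ N) := by
      refine Nat.Coprime.mul_dvd_of_dvd_of_dvd ?_ ?_ (Subgroup.card_dvd_of_le
        (inf_le_inf_right _ hQM))
      · obtain ⟨j, hj⟩ := (IsPGroup.iff_card).1 (hQp.to_le (inf_le_left : Q ⊓ N ≤ Q))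
        rw [hj]
        exact (by norm_num : Nat.Coprime 3 2).pow_right j
      · rw [← hP3 X]
        exact Subgroup.card_dvd_of_le (le_inf hXM Subgroup.le_normalizer)
    rw [hcent] at hsplit
    have hle := Nat.le_of_dvd Nat.card_pos hsplit
    refine ⟨by omega, fun hk' => ?_⟩
    -- when the core is everything of 2-power order
    have h12 : Nat.card ↥(M ⊓ N) = 12 := by rw [hk'] at hinf; omega
    have hMN : N ≤ M := by
      have e : M ⊓ N = N := Subgroup.eq_of_le_of_card_ge inf_le_right (by rw [h12, hNcard])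
      exact e ▸ inf_le_left
    have hQidx : (Q.subgroupOf N).index ∣ 3 := by
      have h1 : Q.index * 2 ^ k = 192 := hk ▸ (Subgroup.index_mul_card Q).trans hC
      rw [hk'] at h1
      have h3 : Q.index = 3 := by omega
      have := Subgroup.relIndex_dvd_index_of_normal Q N
      rwa [h3] at this
    have h4 := Subgroup.index_mul_card (Q.subgroupOf N)
    rw [hNcard] at h4
    have h5 : Nat.card (Q.subgroupOf N) = Nat.card ↥(Q ⊓ Subgroup.centralizer {x}) := by
      rw [← hcent, ← Subgroup.inf_subgroupOf_right]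
      exact Nat.card_congr (Subgroup.subgroupOfEquivOfLe inf_le_right).toEquiv
    rw [h5] at h4
    have hpos : 0 < Nat.card ↥(Q ⊓ Subgroup.centralizer {x}) := Nat.card_pos
    rw [hk'] at hinf
    rcases (Nat.dvd_prime Nat.prime_three).1 hQidx with e | e <;> rw [e] at h4 <;> omega
  have hz2 : ∀ x : C, orderOf x = 3 → 2 ≤ Nat.card ↥(Q ⊓ Subgroup.centralizer {x}) := by
    intro x _
    refine Finite.one_lt_card_iff_nontrivial.2 ⟨⟨⟨zC, hzQ, Subgroup.mem_centralizer_singleton_iff.2
      (Subtype.ext (mem_cent.1 x.2).eq.symm)⟩, 1, fun q => ?_⟩⟩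
    have := L.pivot.zord
    rw [show z = 1 from congrArg (fun v : ↥(Q ⊓ Subgroup.centralizer {x}) => (v.1.1 : G)) q,
      orderOf_one] at this
    omega
  -- the core is not a Sylow subgroup
  have hk5 : k = 5 := by
    obtain ⟨⟨x, hx⟩⟩ : Nonempty {y : C // orderOf y = 3} := by
      obtain ⟨y, hy⟩ := exists_prime_orderOf_dvd_card' (G := C) 3 (by rw [hC]; norm_num)
      exact ⟨⟨y, hy⟩⟩
    have h1 := (key x hx).1
    have h2 := hz2 x hx
    have hge : 5 ≤ k := by
      by_contra hlt
      have := Nat.pow_le_pow_right (show 0 < 2 by norm_num) (show k ≤ 4 by omega)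
      omega
    by_contra hne
    have hk' : k = 6 := by omega
    -- every element of order three commuting with the involution has few involutions
    have hfew : ∀ a : G, orderOf a = 3 → Commute a z →
        Nat.card {i : G // Commute i a ∧ orderOf i = 2} ≤ 3 := by
      intro a ha haz
      let aC : C := ⟨a, mem_cent.2 haz⟩
      have haC : orderOf aC = 3 := by rw [Subgroup.orderOf_mk]; exact ha
      refine few_involutions h L ha haz.symm ?_
      have h4 := (key aC haC).2 hk'
      set Ca := Subgroup.centralizer ({aC} : Set C)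
      have e : Nat.card {b : G // Commute b a ∧ Commute b z} = Nat.card Ca := Nat.card_congr
        { toFun := fun b => ⟨⟨b.1, mem_cent.2 b.2.2⟩,
            Subgroup.mem_centralizer_singleton_iff.2 (Subtype.ext b.2.1.eq)⟩
          invFun := fun b => ⟨b.1.1, congrArg Subtype.val
            (Subgroup.mem_centralizer_singleton_iff.1 b.2), mem_cent.1 b.1.2⟩
          left_inv := fun b => rfl
          right_inv := fun b => rfl }
      rw [e]
      have h1 : (Q.subgroupOf Ca).index ∣ 3 := by
        have h1 : Q.index * 2 ^ k = 192 := hk ▸ (Subgroup.index_mul_card Q).trans hC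
        rw [hk'] at h1
        have h3 : Q.index = 3 := by omega
        have := Subgroup.relIndex_dvd_index_of_normal Q Ca
        rwa [h3] at this
      have h5 := Subgroup.index_mul_card (Q.subgroupOf Ca)
      rw [← Subgroup.inf_subgroupOf_right] at h1 h5
      rw [Nat.card_congr (Subgroup.subgroupOfEquivOfLe (inf_le_right : Q ⊓ Ca ≤ Ca)).toEquiv, h4]
        at h5
      have h3 : 3 ∣ Nat.card Ca := by
        have := Subgroup.orderOf_dvd_natCard Ca
          (Subgroup.mem_centralizer_singleton_iff.2 rfl : aC ∈ Ca)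
        rwa [haC] at this
      rcases (Nat.dvd_prime Nat.prime_three).1 h1 with q | q <;> rw [q] at h5 <;> omega
    -- pairs of the class and elements of order three
    let Z : Finset G := Finset.univ.filter fun i => IsConj z i
    let T : Finset G := Finset.univ.filter fun a => orderOf a = 3
    have hT : T.card = 4400 := by
      rw [← h.cnt3]; show _ = Nat.card {g : G // orderOf g = 3}
      rw [Nat.card_eq_fintype_card, Fintype.card_subtype]
    have hZ : Z.card = 495 := by
      rw [← (card_class_z h L.pivot).1, Nat.card_eq_fintype_card, Fintype.card_subtype]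
    have hrow : ∀ i ∈ Z, (T.filter fun a => Commute a i).card = 32 := by
      intro i hi
      rw [← L.threes, ← card_mates_eq (Finset.mem_filter.1 hi).2, Nat.card_eq_fintype_card,
        Fintype.card_subtype]
      congr 1
      ext a
      simp [T, and_comm]
    have hcol : ∀ a ∈ T, (Z.filter fun i => Commute a i).card ≤ 3 := by
      intro a ha
      rcases Finset.eq_empty_or_nonempty (Z.filter fun i => Commute a i) with q | ⟨i, hi⟩
      · simp [q]
      rw [Finset.mem_filter] at hi
      obtain ⟨c, hc⟩ := isConj_iff.1 (Finset.mem_filter.1 hi.1).2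
      have ha3 : orderOf a = 3 := (Finset.mem_filter.1 ha).2
      have hb := hfew (c⁻¹ * a * c) (by
        rw [show c⁻¹ * a * c = MulAut.conj c⁻¹ a by simp, MulEquiv.orderOf_eq, ha3]) (by
        have := hi.2.map (MulAut.conj c⁻¹)
        rw [← hc] at this
        simpa [mul_assoc] using this)
      refine le_trans ?_ hb
      rw [← Nat.card_eq_finsetCard]
      refine Nat.card_le_card_of_injective (fun j => ⟨c⁻¹ * j.1 * c, ?_, ?_⟩) ?_
      · have := (Finset.mem_filter.1 j.2).2.symm.map (MulAut.conj c⁻¹)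
        simpa [mul_assoc] using this
      · obtain ⟨d, hd⟩ := isConj_iff.1 (Finset.mem_filter.1 (Finset.mem_filter.1 j.2).1).2
        rw [show c⁻¹ * j.1 * c = MulAut.conj c⁻¹ j.1 by simp, MulEquiv.orderOf_eq, ← hd,
          ← MulAut.conj_apply, MulEquiv.orderOf_eq, L.pivot.zord]
      · intro p q e
        exact Subtype.ext (mul_left_cancel (mul_right_cancel (congrArg Subtype.val e)))
    have hpairs := Finset.card_mul_le_card_mul (fun i a => Commute a i) (s := Z) (t := T)
      (m := 32) (n := 3) (fun i hi => (hrow i hi).ge) (fun a ha => hcol a ha)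
    rw [hT, hZ] at hpairs
    omega
  have h32 : Nat.card Q = 32 := by rw [hk, hk5]; rfl
  refine ⟨h32, ?_, fun x hx q hq hqx => ?_⟩
  · -- the quotient
    have h6 : Nat.card (C ⧸ Q) = 6 := by rw [hk5] at hQbar; omega
    obtain ⟨t, ht⟩ := exists_prime_orderOf_dvd_card' (G := C ⧸ Q) 2 (by rw [h6]; norm_num)
    let T := Subgroup.zpowers t
    have hTc : Nat.card T = 2 := by rw [Nat.card_zpowers, ht]
    let φ := MulAction.toPermHom (C ⧸ Q) ((C ⧸ Q) ⧸ T)
    haveI : Fintype ((C ⧸ Q) ⧸ T) := Fintype.ofFinite _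
    have h3 : Nat.card ((C ⧸ Q) ⧸ T) = 3 := by
      have := Subgroup.card_eq_card_quotient_mul_card_subgroup T
      rw [h6, hTc] at this
      omega
    have hker : φ.ker = ⊥ := by
      have hle : φ.ker ≤ T := by
        intro a ha
        have e : ((a * 1 : C ⧸ Q) : (C ⧸ Q) ⧸ T) = ((1 : C ⧸ Q) : (C ⧸ Q) ⧸ T) :=
          congrArg (fun σ : Equiv.Perm ((C ⧸ Q) ⧸ T) => σ ((1 : C ⧸ Q) : (C ⧸ Q) ⧸ T))
            (MonoidHom.mem_ker.1 ha)
        rwa [mul_one, QuotientGroup.eq, mul_one, inv_mem_iff] at e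
      have hp : IsPGroup 2 φ.ker :=
        (IsPGroup.of_card (n := 1) (by rw [hTc, pow_one]) : IsPGroup 2 T).to_le hle
      exact le_bot_iff.1 (hO2 ▸ HallCore.le_pCore hp)
    let e := Fintype.equivFinOfCardEq (by rw [← Nat.card_eq_fintype_card, h3] :
      Fintype.card ((C ⧸ Q) ⧸ T) = 3)
    let ψ : C ⧸ Q →* Equiv.Perm (Fin 3) := e.permCongrHom.toMonoidHom.comp φ
    have hinj : Function.Injective ψ :=
      e.permCongrHom.injective.comp ((MonoidHom.ker_eq_bot_iff φ).1 hker)
    haveI : Fintype (C ⧸ Q) := Fintype.ofFinite _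
    exact ⟨MulEquiv.ofBijective ψ ((Fintype.bijective_iff_injective_and_card ψ).2
      ⟨hinj, by rw [← Nat.card_eq_fintype_card, h6, Fintype.card_perm, Fintype.card_fin]; rfl⟩)⟩
  · have h1 := (key x hx).1
    rw [hk5] at h1
    have h2 : Nat.card ↥(Q ⊓ Subgroup.centralizer {x}) = 2 := by
      have := hz2 x hx
      omega
    obtain ⟨u, v, huv, hall⟩ := Nat.card_eq_two_iff.1 h2
    have hq' : q ∈ Q ⊓ Subgroup.centralizer {x} :=
      ⟨hq, Subgroup.mem_centralizer_singleton_iff.2 hqx.eq⟩
    have hz' : zC ∈ Q ⊓ Subgroup.centralizer {x} :=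
      ⟨hzQ, Subgroup.mem_centralizer_singleton_iff.2 (Subtype.ext (mem_cent.1 x.2).eq.symm)⟩
    have hz1 : (⟨zC, hz'⟩ : ↥(Q ⊓ Subgroup.centralizer {x})) ≠ 1 := by
      intro e
      have := L.pivot.zord
      rw [show z = 1 from congrArg (fun v : ↥(Q ⊓ Subgroup.centralizer {x}) => (v.1.1 : G)) e,
        orderOf_one] at this
      omega
    have hm : ∀ w : ↥(Q ⊓ Subgroup.centralizer {x}), w = u ∨ w = v := fun w => by
      have : w ∈ ({u, v} : Set _) := hall ▸ Set.mem_univ w
      simpa using this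
    have : (⟨q, hq'⟩ : ↥(Q ⊓ Subgroup.centralizer {x})) = 1 ∨
        (⟨q, hq'⟩ : ↥(Q ⊓ Subgroup.centralizer {x})) = ⟨zC, hz'⟩ := by
      rcases hm ⟨q, hq'⟩ with a | a <;> rcases hm 1 with b | b <;> rcases hm ⟨zC, hz'⟩ with c | c <;>
        first
        | exact Or.inl (a.trans b.symm)
        | exact Or.inr (a.trans c.symm)
        | exact absurd (c.trans b.symm) hz1
    exact this.imp (fun e => congrArg (fun v : ↥(Q ⊓ Subgroup.centralizer {x}) => (v.1.1 : G)) e)
      (fun e => congrArg (fun v : ↥(Q ⊓ Subgroup.centralizer {x}) => (v.1.1 : G)) e)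

end Cfsg.Agent.M12Nse51
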