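import Mathlib

/-!
A verified search for the functions `m ↦ #{g : orderOf g = m}` compatible with a given set of values.
-/

set_option autoImplicit false

namespace Cfsg.Agent.NseSearch29

/-- The properties of the order count function of a finite group of order `N`
used by the search. -/
structure Profile (f : ℕ → ℕ) (N : ℕ) (ev : List ℕ) (s2 : ℕ) : Prop where
  one : f 1 = 1
  two : f 2 = s2
  zero : f 0 = 0
  big : ∀ m, 2 < m → f m ≠ 0 → f m ∈ ev ∧ Nat.totient m ∣ f m
  closed : ∀ d m, d ∣ m → f m ≠ 0 → f d ≠ 0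
  dvdN : ∀ m, f m ≠ 0 → m ∣ N
  frob : ∀ k, k ∣ N → k ∣ ∑ d ∈ k.divisors, f d
  total : ∑ d ∈ N.divisors, f d = N
  cauchy : ∀ p, p.Prime → p ∣ N → f p ≠ 0
  cover : ∀ s ∈ ev, ∃ m, f m = s
  posN : 0 < N

def present (a : List (ℕ × ℕ)) (d : ℕ) : Bool := a.any fun e => e.1 == d

def sumDiv (a : List (ℕ × ℕ)) (k : ℕ) : ℕ :=
  ((a.filter fun e => k % e.1 == 0).map Prod.snd).sum

def total (a : List (ℕ × ℕ)) : ℕ := (a.map Prod.snd).sum

def good (a : List (ℕ × ℕ)) (ev : List ℕ) : Bool :=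
  ev.all (fun s => a.any fun e => e.2 == s) &&
  a.all (fun e => total a % e.1 == 0) &&
  (List.range' 2 (total a - 1)).all fun d =>
    if total a % d == 0 then
      (a.any fun e => Nat.blt 1 e.1 && d % e.1 == 0) && sumDiv a d % d == 0
    else true

def leaf (a : List (ℕ × ℕ)) (ev : List ℕ) (target : List (ℕ × ℕ)) : Bool :=
  !good a ev || a == target

def go (ev : List ℕ) (target : List (ℕ × ℕ)) :
    List (ℕ × List ℕ × List ℕ) → List (ℕ × ℕ) → Bool
  | [], a => leaf a ev target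
  | (m, need, opts) :: r, a => go ev target r a &&
      (if need.all (present a) then
        opts.all fun s => if (sumDiv a m + s) % m == 0 then go ev target r ((m, s) :: a) else true
      else true)

/-- The static side conditions of the candidate list. -/
def chk (ev : List ℕ) (cands : List ℕ) :
    List (ℕ × List ℕ × List ℕ) → List ℕ → Prop
  | [], done => done.Nodup ∧ ∀ d ∈ cands, d ∈ done
  | (m, need, opts) :: r, done =>
      2 < m ∧ (∀ d ∈ need, d ∈ done ∧ d ∣ m) ∧ (∀ d ∈ cands, d ∣ m → d ∈ m :: done) ∧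
      (∀ s ∈ ev, Nat.totient m ∣ s → s ∈ opts) ∧ m ∉ done ∧ chk ev cands r (m :: done)

instance decChk (ev cands : List ℕ) :
    ∀ (r : List (ℕ × List ℕ × List ℕ)) (done : List ℕ), Decidable (chk ev cands r done)
  | [], done => inferInstanceAs (Decidable (done.Nodup ∧ ∀ d ∈ cands, d ∈ done))
  | (m, need, opts) :: r, done =>
      haveI := decChk ev cands r (m :: done)
      inferInstanceAs (Decidable (2 < m ∧ (∀ d ∈ need, d ∈ done ∧ d ∣ m) ∧
        (∀ d ∈ cands, d ∣ m → d ∈ m :: done) ∧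
        (∀ s ∈ ev, Nat.totient m ∣ s → s ∈ opts) ∧ m ∉ done ∧ chk ev cands r (m :: done)))

/-- The assignment of `f` on `done`. -/
def assign (f : ℕ → ℕ) (done : List ℕ) : List (ℕ × ℕ) :=
  (done.filter fun d => !(f d == 0)).map fun d => (d, f d)

lemma mem_assign {f : ℕ → ℕ} {done : List ℕ} {e : ℕ × ℕ} :
    e ∈ assign f done ↔ e.1 ∈ done ∧ f e.1 ≠ 0 ∧ e.2 = f e.1 := by
  obtain ⟨d, v⟩ := e
  simp only [assign, List.mem_map, List.mem_filter, Bool.not_eq_true', beq_eq_false_iff_ne,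
    Prod.mk.injEq]
  constructor
  · rintro ⟨x, ⟨h1, h2⟩, rfl, rfl⟩; exact ⟨h1, h2, rfl⟩
  · rintro ⟨h1, h2, rfl⟩; exact ⟨d, ⟨h1, h2⟩, rfl, rfl⟩

lemma sumDiv_assign (f : ℕ → ℕ) (k : ℕ) (done : List ℕ) :
    sumDiv (assign f done) k = ((done.filter fun d => k % d == 0).map f).sum := by
  induction done with
  | nil => rfl
  | cons d t ih =>
    simp only [sumDiv, assign] at ih ⊢
    by_cases h0 : f d = 0
    · by_cases hk : k % d = 0 <;> simp [h0, hk, ih]
    · by_cases hk : k % d = 0 <;> simp [h0, hk, ih]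

lemma sumDiv_eq_sum (f : ℕ → ℕ) {k : ℕ} (hk : k ≠ 0) (done : List ℕ) (hnd : done.Nodup)
    (hcov : ∀ d, d ∣ k → f d ≠ 0 → d ∈ done) :
    sumDiv (assign f done) k = ∑ d ∈ k.divisors, f d := by
  rw [sumDiv_assign, ← List.sum_toFinset f (hnd.filter _)]
  refine Finset.sum_subset (fun d hd => ?_) fun d hd hd' => ?_
  · simp only [List.mem_toFinset, List.mem_filter, beq_iff_eq] at hd
    exact Nat.mem_divisors.2 ⟨Nat.dvd_of_mod_eq_zero hd.2, hk⟩
  · by_contra h0
    obtain ⟨hdk, -⟩ := Nat.mem_divisors.1 hd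
    exact hd' (by
      simp only [List.mem_toFinset, List.mem_filter, beq_iff_eq]
      exact ⟨hcov d hdk h0, Nat.mod_eq_zero_of_dvd hdk⟩)

lemma total_assign (f : ℕ → ℕ) (done : List ℕ) : total (assign f done) = (done.map f).sum := by
  induction done with
  | nil => rfl
  | cons d t ih =>
    simp only [total, assign, List.map_map] at ih ⊢
    by_cases h0 : f d = 0 <;> simp [h0, ih]

lemma total_eq {f : ℕ → ℕ} {N : ℕ} {ev : List ℕ} {s2 : ℕ} (P : Profile f N ev s2)
    (done : List ℕ) (hnd : done.Nodup) (hcov : ∀ d, f d ≠ 0 → d ∈ done) :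
    total (assign f done) = N := by
  have h := sumDiv_eq_sum f P.posN.ne' done hnd fun d _ h => hcov d h
  rw [P.total] at h
  rw [← h, sumDiv, total, List.filter_eq_self.2]
  intro e he
  obtain ⟨-, h0, -⟩ := mem_assign.1 he
  simpa using Nat.mod_eq_zero_of_dvd (P.dvdN _ h0)

lemma good_assign {f : ℕ → ℕ} {N : ℕ} {ev : List ℕ} {s2 : ℕ} (P : Profile f N ev s2)
    (hev : ∀ s ∈ ev, s ≠ 0) (done : List ℕ) (hnd : done.Nodup)
    (hcov : ∀ d, f d ≠ 0 → d ∈ done) : good (assign f done) ev = true := by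
  simp only [good, total_eq P done hnd hcov, Bool.and_eq_true, List.all_eq_true, List.any_eq_true,
    beq_iff_eq]
  refine ⟨⟨fun s hs => ?_, fun e he => ?_⟩, fun d hd => ?_⟩
  · obtain ⟨m, hm⟩ := P.cover s hs
    have h0 : f m ≠ 0 := hm ▸ hev s hs
    exact ⟨(m, s), mem_assign.2 ⟨hcov m h0, h0, hm.symm⟩, rfl⟩
  · exact Nat.mod_eq_zero_of_dvd (P.dvdN _ (mem_assign.1 he).2.1)
  · split_ifs with hdN
    · have hdN' := Nat.dvd_of_mod_eq_zero hdN
      obtain ⟨hd2, -⟩ := List.mem_range'_1.1 hd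
      simp only [Bool.and_eq_true, List.any_eq_true, beq_iff_eq]
      refine ⟨?_, ?_⟩
      · obtain ⟨p, hp, hpd⟩ := Nat.exists_prime_and_dvd (by omega : d ≠ 1)
        have h0 := P.cauchy p hp (hpd.trans hdN')
        exact ⟨(p, f p), mem_assign.2 ⟨hcov p h0, h0, rfl⟩,
          by simp only [Nat.blt]; exact Nat.ble_eq_true_of_le hp.two_le, Nat.mod_eq_zero_of_dvd hpd⟩
      · rw [sumDiv_eq_sum f (by omega) done hnd fun x _ h => hcov x h]
        exact Nat.mod_eq_zero_of_dvd (P.frob d hdN')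
    · trivial

theorem go_sound {f : ℕ → ℕ} {N : ℕ} {ev : List ℕ} {s2 : ℕ} (P : Profile f N ev s2)
    (hev : ∀ s ∈ ev, s ≠ 0) (cands : List ℕ) (target : List (ℕ × ℕ))
    (hc : ∀ d, f d ≠ 0 → d ∈ cands) :
    ∀ (r : List (ℕ × List ℕ × List ℕ)) (done : List ℕ), done.Nodup → chk ev cands r done →
      go ev target r (assign f done) = true →
      ∃ D : List ℕ, D.Nodup ∧ (∀ d, f d ≠ 0 → d ∈ D) ∧ assign f D = target
  | [], done, hnd, ⟨_, hcov⟩, hgo => by
    have hcov' : ∀ d, f d ≠ 0 → d ∈ done := fun d h => hcov d (hc d h)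
    have hg := good_assign P hev done hnd hcov'
    simp only [go, leaf, hg, Bool.not_true, Bool.false_or, beq_iff_eq] at hgo
    exact ⟨done, hnd, hcov', hgo⟩
  | (m, need, opts) :: r, done, hnd, ⟨hm2, hneed, hdiv, hopt, hmem, hrest⟩, hgo => by
    simp only [go, Bool.and_eq_true] at hgo
    have hnd' : (m :: done).Nodup := List.nodup_cons.2 ⟨hmem, hnd⟩
    by_cases h0 : f m = 0
    · refine go_sound P hev cands target hc r (m :: done) hnd' hrest ?_
      have : assign f (m :: done) = assign f done := by simp [assign, h0]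
      rw [this]; exact hgo.1
    · refine go_sound P hev cands target hc r (m :: done) hnd' hrest ?_
      have hA : assign f (m :: done) = (m, f m) :: assign f done := by simp [assign, h0]
      rw [hA]
      have hn : need.all (present (assign f done)) = true := by
        simp only [List.all_eq_true, present, List.any_eq_true, beq_iff_eq]
        intro d hd
        exact ⟨(d, f d), mem_assign.2 ⟨(hneed d hd).1, P.closed d m (hneed d hd).2 h0, rfl⟩, rfl⟩
      have h2 := hgo.2
      rw [if_pos hn, List.all_eq_true] at h2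
      obtain ⟨hev', htot⟩ := P.big m hm2 h0
      have h3 := h2 (f m) (hopt _ hev' htot)
      rw [if_pos] at h3
      · exact h3
      · have hs := sumDiv_eq_sum f (by omega : m ≠ 0) (m :: done) hnd' fun d hd h =>
          hdiv d (hc d h) hd
        have hm' := P.frob m (P.dvdN m h0)
        rw [← hs, hA] at hm'
        simp only [beq_iff_eq]
        refine Nat.mod_eq_zero_of_dvd ?_
        convert hm' using 1
        simp [sumDiv, add_comm]

/-- `gcd` decomposition for the candidates. -/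
theorem mem_cands {f : ℕ → ℕ} {N : ℕ} {ev : List ℕ} {s2 : ℕ} (P : Profile f N ev s2)
    (cands : List ℕ) (h1 : 1 ∈ cands) (h2 : 2 ∈ cands) (hsmall : ∀ s ∈ ev, s ≤ 200)
    (hprime : ∀ p < 202, ∀ s ∈ ev, 2 < p → (p - 1) ∣ s → p ∣ 1 + s → p.Prime →
      p = 3 ∨ p = 5 ∨ p = 7)
    (hexp : ∀ s ∈ ev, ¬ 32 ∣ s ∧ ¬ 54 ∣ s ∧ ¬ 100 ∣ s ∧ ¬ 42 ∣ s)
    (htab : ∀ a ∈ Nat.divisors 32, ∀ b ∈ Nat.divisors 27, ∀ c ∈ Nat.divisors 25,
      ∀ d ∈ Nat.divisors 7, ∀ s ∈ ev,
        Nat.totient a * Nat.totient b * Nat.totient c * Nat.totient d ∣ s → a * b * c * d ∈ cands)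
    (hpos : ∀ s ∈ ev, 0 < s) :
    ∀ m, f m ≠ 0 → m ∈ cands := by
  intro m hm
  have hm0 : m ≠ 0 := fun h => hm (h ▸ P.zero)
  by_cases hm2 : m ≤ 2
  · interval_cases m
    · exact absurd rfl hm0
    · exact h1
    · exact h2
  obtain ⟨hs, htot⟩ := P.big m (by omega) hm
  have key : ∀ p k, p.Prime → p ^ k ∣ m → p ^ k ∣ 151200 := by
    intro p k hp hpk
    rcases k with _ | k
    · simp
    have hpm : p ∣ m := (dvd_pow_self p (by omega)).trans hpk
    have hfp : f p ≠ 0 := P.closed p m hpm hm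
    have hp4 : p = 2 ∨ p = 3 ∨ p = 5 ∨ p = 7 := by
      by_cases hp2 : p = 2
      · exact Or.inl hp2
      · right
        have hp3 : 2 < p := lt_of_le_of_ne hp.two_le (Ne.symm hp2)
        obtain ⟨hsp, htp⟩ := P.big p hp3 hfp
        rw [Nat.totient_prime hp] at htp
        have hd := P.frob p (P.dvdN p hfp)
        rw [hp.divisors, Finset.sum_pair hp.one_lt.ne, P.one] at hd
        have := Nat.le_of_dvd (hpos _ hsp) htp
        have := hsmall _ hsp
        exact hprime p (by omega) _ hsp hp3 htp hd hp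
    obtain ⟨e32, e54, e100, e42⟩ := hexp _ hs
    have bound : ∀ t, p ^ t ∣ m → Nat.totient (p ^ t) ∣ f m := fun t ht =>
      (Nat.totient_dvd_of_dvd ht).trans htot
    rcases hp4 with rfl | rfl | rfl | rfl
    · have : k < 5 := by
        by_contra hk
        exact e32 ((by decide : 32 ∣ Nat.totient (2 ^ 6)).trans
          (bound 6 ((pow_dvd_pow 2 (by omega)).trans hpk)))
      exact (pow_dvd_pow 2 (by omega : k + 1 ≤ 5)).trans (by norm_num)
    · have : k < 3 := by
        by_contra hk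
        exact e54 ((by decide : 54 ∣ Nat.totient (3 ^ 4)).trans
          (bound 4 ((pow_dvd_pow 3 (by omega)).trans hpk)))
      exact (pow_dvd_pow 3 (by omega : k + 1 ≤ 3)).trans (by norm_num)
    · have : k < 2 := by
        by_contra hk
        exact e100 ((by decide : 100 ∣ Nat.totient (5 ^ 3)).trans
          (bound 3 ((pow_dvd_pow 5 (by omega)).trans hpk)))
      exact (pow_dvd_pow 5 (by omega : k + 1 ≤ 2)).trans (by norm_num)
    · have : k < 1 := by
        by_contra hk
        exact e42 ((by decide : 42 ∣ Nat.totient (7 ^ 2)).trans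
          (bound 2 ((pow_dvd_pow 7 (by omega)).trans hpk)))
      exact (pow_dvd_pow 7 (by omega : k + 1 ≤ 1)).trans (by norm_num)
  have hL : m ∣ 32 * 27 * 25 * 7 := (Nat.dvd_iff_prime_pow_dvd_dvd _ _).2 key
  set a := Nat.gcd m 32 with ha
  set b := Nat.gcd m 27 with hb
  set c := Nat.gcd m 25 with hc
  set d := Nat.gcd m 7 with hd
  have hmul : m = a * b * c * d := by
    rw [ha, hb, hc, hd, ← Nat.Coprime.gcd_mul m (by norm_num : Nat.Coprime 32 27),
      ← Nat.Coprime.gcd_mul m (by norm_num : Nat.Coprime (32 * 27) 25),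
      ← Nat.Coprime.gcd_mul m (by norm_num : Nat.Coprime (32 * 27 * 25) 7),
      Nat.gcd_eq_left hL]
  have ca : a ∣ 32 := Nat.gcd_dvd_right _ _
  have cb : b ∣ 27 := Nat.gcd_dvd_right _ _
  have cc : c ∣ 25 := Nat.gcd_dvd_right _ _
  have cd : d ∣ 7 := Nat.gcd_dvd_right _ _
  have hphi : Nat.totient m = Nat.totient a * Nat.totient b * Nat.totient c * Nat.totient d := by
    rw [hmul, Nat.totient_mul, Nat.totient_mul, Nat.totient_mul]
    · exact ((by norm_num : Nat.Coprime 32 27).coprime_dvd_left ca).coprime_dvd_right cb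
    · exact ((by norm_num : Nat.Coprime (32 * 27) 25).coprime_dvd_left
        (mul_dvd_mul ca cb)).coprime_dvd_right cc
    · exact ((by norm_num : Nat.Coprime (32 * 27 * 25) 7).coprime_dvd_left
        (mul_dvd_mul (mul_dvd_mul ca cb) cc)).coprime_dvd_right cd
  rw [hmul]
  exact htab a (Nat.mem_divisors.2 ⟨ca, by norm_num⟩) b (Nat.mem_divisors.2 ⟨cb, by norm_num⟩)
    c (Nat.mem_divisors.2 ⟨cc, by norm_num⟩) d (Nat.mem_divisors.2 ⟨cd, by norm_num⟩)
    (f m) hs (hphi ▸ htot)

end Cfsg.Agent.NseSearch29
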