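import Cfsg.Agent.Lib.M12Nse51Base
import Cfsg.Agent.Lib.NseSearch29
import Cfsg.Agent.Lib.FrobeniusCount72
import Cfsg.Agent.Lib.SimpleSearch

/-!
From the set of values of the counting function to the facts of `Data`.
-/

set_option autoImplicit false
set_option maxRecDepth 100000

namespace Cfsg.Agent.M12Nse51

open NseSearch29

/-- The hypothesis on the values. -/
structure Hyp (G : Type*) [Group G] : Prop where
  /-- the order -/
  card : Nat.card G = 95040
  /-- the values -/
  mem : ∀ n, cnt G n ≠ 0 → cnt G n ∈ [1, 891, 4400, 5940, 9504, 17280, 23760]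
  /-- one value is attained -/
  has891 : ∃ n, cnt G n = 891

variable {G : Type*} [Group G] [Finite G]

theorem cnt_ne_zero {m : ℕ} : cnt G m ≠ 0 ↔ ∃ g : G, orderOf g = m := by
  rw [cnt, ne_eq, Nat.card_eq_zero]
  simp only [not_or, not_isEmpty_iff, nonempty_subtype]
  exact ⟨fun h => h.1, fun h => ⟨h, not_infinite_iff_finite.2 inferInstance⟩⟩

theorem cnt_one : cnt G 1 = 1 := by
  refine Nat.card_eq_one_iff_unique.2 ⟨⟨fun a b => Subtype.ext ?_⟩, ⟨⟨1, orderOf_one⟩⟩⟩
  rw [orderOf_eq_one_iff.1 a.2, orderOf_eq_one_iff.1 b.2]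

theorem dvd_sum_cnt {k : ℕ} (hk : k ∣ Nat.card G) : k ∣ ∑ d ∈ k.divisors, cnt G d := by
  classical
  haveI := Fintype.ofFinite G
  have hk0 : k ≠ 0 := fun h => Nat.card_pos.ne' (Nat.eq_zero_of_zero_dvd (h ▸ hk))
  have h := FrobeniusCount72.dvd_card_pow_eq_one (G := G) k hk
  simp only [cnt, Nat.card_eq_fintype_card, Fintype.card_subtype] at h ⊢
  rw [sum_card_orderOf_eq_card_pow_eq_one hk0]
  exact h

theorem totient_dvd (n : ℕ) : Nat.totient n ∣ cnt G n :=
  FrobeniusCount72.totient_dvd_card_orderOf n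

theorem dvd_card_of_cnt {n : ℕ} (h : cnt G n ≠ 0) : n ∣ Nat.card G := by
  obtain ⟨g, hg⟩ := cnt_ne_zero.1 h
  exact hg ▸ orderOf_dvd_natCard g

theorem closed {d m : ℕ} (hd : d ∣ m) (h : cnt G m ≠ 0) : cnt G d ≠ 0 := by
  obtain ⟨g, hg⟩ := cnt_ne_zero.1 h
  exact cnt_ne_zero.2 ⟨g ^ (orderOf g / d), orderOf_pow_orderOf_div (orderOf_pos g).ne' (hg ▸ hd)⟩

theorem cnt_two (h : Hyp G) : cnt G 2 = 891 := by
  obtain ⟨n, hn⟩ := h.has891
  have hne : cnt G n ≠ 0 := by omega
  have ht := totient_dvd (G := G) n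
  rw [hn] at ht
  rcases Nat.lt_or_ge 2 n with h2 | h2
  · obtain ⟨c, hc⟩ := (even_iff_two_dvd.1 (Nat.totient_even h2)).trans ht
    omega
  · interval_cases n
    · obtain ⟨g, hg⟩ := cnt_ne_zero.1 hne
      exact absurd hg (orderOf_pos g).ne'
    · rw [cnt_one] at hn; omega
    · exact hn

theorem cnt_prime (h : Hyp G) {p : ℕ} (hp : p.Prime) (hd : p ∣ 95040) :
    cnt G p ≠ 0 ∧ cnt G p ∈ [1, 891, 4400, 5940, 9504, 17280, 23760] ∧ (1 + cnt G p) % p = 0 := by
  haveI := Fact.mk hp
  have h0 : cnt G p ≠ 0 := cnt_ne_zero.2 (exists_prime_orderOf_dvd_card' p (h.card ▸ hd))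
  refine ⟨h0, h.mem p h0, Nat.mod_eq_zero_of_dvd ?_⟩
  have := dvd_sum_cnt (G := G) (h.card ▸ hd : p ∣ Nat.card G)
  rwa [hp.divisors, Finset.sum_pair hp.one_lt.ne, cnt_one] at this

theorem cnt_three (h : Hyp G) : cnt G 3 = 4400 := by
  obtain ⟨-, hm, hf⟩ := cnt_prime h (p := 3) (by norm_num) (by norm_num)
  have hev : 2 ∣ cnt G 3 := (totient_dvd (G := G) 3)
  simp only [List.mem_cons, List.not_mem_nil, or_false] at hm
  rcases hm with e | e | e | e | e | e | e <;> omega

theorem cnt_five (h : Hyp G) : cnt G 5 = 9504 := by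
  obtain ⟨-, hm, hf⟩ := cnt_prime h (p := 5) (by norm_num) (by norm_num)
  simp only [List.mem_cons, List.not_mem_nil, or_false] at hm
  rcases hm with e | e | e | e | e | e | e <;> omega

theorem cnt_eleven (h : Hyp G) : cnt G 11 = 17280 := by
  obtain ⟨-, hm, hf⟩ := cnt_prime h (p := 11) (by norm_num) (by norm_num)
  simp only [List.mem_cons, List.not_mem_nil, or_false] at hm
  rcases hm with e | e | e | e | e | e | e <;> omega

/-! ### normalisers and centralisers of the subgroups of order five and eleven -/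

theorem card_sylow_self (h : Hyp G) {p m : ℕ} [Fact p.Prime] (hm : 95040 = p * m) (hpm : ¬ p ∣ m)
    (P : Sylow p G) : Nat.card ↥(P : Subgroup G) = p := by
  have hp : p.Prime := Fact.out
  rw [P.card_eq_multiplicity, h.card, hm,
    Nat.factorization_mul hp.ne_zero (fun e => hpm (by rw [e]; exact dvd_zero p)),
    Finsupp.add_apply, hp.factorization_self, Nat.factorization_eq_zero_of_not_dvd hpm, pow_one]

theorem card_normalizer (h : Hyp G) {p m N : ℕ} [Fact p.Prime] (hm : 95040 = p * m)
    (hpm : ¬ p ∣ m) (hN : cnt G p * N = 95040 * (p - 1)) {y : G} (hy : orderOf y = p) :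
    Nat.card (Subgroup.normalizer (Subgroup.zpowers y : Set G)) = N := by
  have hp : p.Prime := Fact.out
  have hc : cnt G p = Nat.card (Sylow p G) * (p - 1) :=
    SimpleSearch.card_orderOf (card_sylow_self h hm hpm)
  obtain ⟨P, hle⟩ := (IsPGroup.of_card (G := ↥(Subgroup.zpowers y)) (p := p) (n := 1)
    (by rw [Nat.card_zpowers, hy, pow_one])).exists_le_sylow
  have he : Subgroup.zpowers y = (P : Subgroup G) :=
    Subgroup.eq_of_le_of_card_ge hle (by rw [card_sylow_self h hm hpm P, Nat.card_zpowers, hy])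
  rw [he]
  have h1 := Subgroup.index_mul_card (Subgroup.normalizer (P : Set G))
  rw [← P.card_eq_index_normalizer, h.card] at h1
  have hp1 : 0 < p - 1 := by have := hp.two_le; omega
  have hs : 0 < Nat.card (Sylow p G) := Nat.card_pos
  refine Nat.eq_of_mul_eq_mul_left (Nat.mul_pos hs hp1) ?_
  calc Nat.card (Sylow p G) * (p - 1) * Nat.card ↥(Subgroup.normalizer (P : Set G))
      = Nat.card (Sylow p G) * Nat.card ↥(Subgroup.normalizer (P : Set G)) * (p - 1) := by ring
    _ = 95040 * (p - 1) := by rw [h1]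
    _ = Nat.card (Sylow p G) * (p - 1) * N := by rw [← hc]; exact hN.symm

theorem normalizer_five (h : Hyp G) {y : G} (hy : orderOf y = 5) :
    Nat.card (Subgroup.normalizer (Subgroup.zpowers y : Set G)) = 40 := by
  haveI : Fact (Nat.Prime 5) := ⟨by norm_num⟩
  exact card_normalizer h (m := 19008) (by norm_num) (by norm_num) (by rw [cnt_five h]) hy

theorem normalizer_eleven (h : Hyp G) {x : G} (hx : orderOf x = 11) :
    Nat.card (Subgroup.normalizer (Subgroup.zpowers x : Set G)) = 55 := by
  haveI : Fact (Nat.Prime 11) := ⟨by norm_num⟩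
  exact card_normalizer h (m := 8640) (by norm_num) (by norm_num) (by rw [cnt_eleven h]) hx

theorem mem_normalizer_of_comm {a y : G} (ha : Commute a y) :
    a ∈ Subgroup.normalizer (Subgroup.zpowers y : Set G) := by
  refine Subgroup.centralizer_le_normalizer _ ?_
  rw [Subgroup.zpowers_eq_closure, Subgroup.centralizer_closure,
    Subgroup.mem_centralizer_singleton_iff]
  exact ha.eq

theorem centralizer_le (y : G) :
    Subgroup.centralizer ({y} : Set G) ≤ Subgroup.normalizer (Subgroup.zpowers y : Set G) :=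
  fun _ ha => mem_normalizer_of_comm (Subgroup.mem_centralizer_singleton_iff.1 ha)

theorem zpowers_le_centralizer (y : G) :
    Subgroup.zpowers y ≤ Subgroup.centralizer ({y} : Set G) :=
  Subgroup.zpowers_le.2 (Subgroup.mem_centralizer_singleton_iff.2 rfl)

theorem orderOf_commute_dvd (h : Hyp G) {y a : G} (hy : orderOf y = 5) (ha : Commute a y) :
    orderOf a ∣ 40 :=
  normalizer_five h hy ▸ Subgroup.orderOf_dvd_natCard _ (mem_normalizer_of_comm ha)

theorem centralizer_eleven (h : Hyp G) {x : G} (hx : orderOf x = 11) :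
    Nat.card (Subgroup.centralizer ({x} : Set G)) = 11 := by
  set C := Subgroup.centralizer ({x} : Set G)
  have h55 : Nat.card C ∣ 55 := normalizer_eleven h hx ▸ Subgroup.card_dvd_of_le (centralizer_le x)
  have h11 : 11 ∣ Nat.card C := by
    have := Subgroup.card_dvd_of_le (zpowers_le_centralizer x)
    rwa [Nat.card_zpowers, hx] at this
  have hno5 : ¬ 5 ∣ Nat.card C := by
    intro h5
    haveI : Fact (Nat.Prime 5) := ⟨by norm_num⟩
    obtain ⟨⟨a, haC⟩, ha⟩ := exists_prime_orderOf_dvd_card' (G := C) 5 h5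
    rw [Subgroup.orderOf_mk] at ha
    have := orderOf_commute_dvd h ha
      (show Commute x a from (Subgroup.mem_centralizer_singleton_iff.1 haC).symm)
    rw [hx] at this
    norm_num at this
  obtain ⟨k, hk⟩ := h11
  rw [hk] at h55 hno5
  have h5 : k ∣ 5 := Nat.dvd_of_mul_dvd_mul_left (by norm_num : 0 < 11) h55
  rcases (Nat.dvd_prime (by norm_num)).1 h5 with e | e
  · omega
  · exact absurd (Dvd.intro_left _ (by rw [e])) hno5

/-- The elements of order `b` commuting with `y`. -/
abbrev mates (y : G) (b : ℕ) : Type _ := {a : G // Commute a y ∧ orderOf a = b}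

theorem card_mates_conj {y y' : G} {b : ℕ} (g : G) (hg : g * y * g⁻¹ = y') :
    Nat.card (mates y b) = Nat.card (mates y' b) := by
  refine Nat.card_congr ((MulAut.conj g).toEquiv.subtypeEquiv fun a => ?_)
  show Commute a y ∧ orderOf a = b ↔
    Commute (MulAut.conj g a) y' ∧ orderOf (MulAut.conj g a) = b
  rw [MulEquiv.orderOf_eq, show y' = MulAut.conj g y from hg.symm]
  exact and_congr_left fun _ => ⟨fun c => c.map (MulAut.conj g), fun c =>
    (MulAut.conj g).injective (by rw [map_mul, map_mul]; exact c)⟩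

theorem card_mates_const (h : Hyp G) {y y₀ : G} (hy : orderOf y = 5) (hy₀ : orderOf y₀ = 5)
    (b : ℕ) : Nat.card (mates y b) = Nat.card (mates y₀ b) := by
  haveI : Fact (Nat.Prime 5) := ⟨by norm_num⟩
  have mk : ∀ z : G, orderOf z = 5 → ∃ P : Sylow 5 G, Subgroup.zpowers z = (P : Subgroup G) := by
    intro z hz
    obtain ⟨P, hle⟩ := (IsPGroup.of_card (G := ↥(Subgroup.zpowers z)) (p := 5) (n := 1)
      (by rw [Nat.card_zpowers, hz, pow_one])).exists_le_sylow
    exact ⟨P, Subgroup.eq_of_le_of_card_ge hle (by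
      rw [card_sylow_self h (m := 19008) (by norm_num) (by norm_num) P, Nat.card_zpowers, hz])⟩
  obtain ⟨P, hP⟩ := mk y hy
  obtain ⟨Q, hQ⟩ := mk y₀ hy₀
  obtain ⟨g, hg⟩ := MulAction.exists_smul_eq G P Q
  have hsame : ∀ a z z' : G, Subgroup.zpowers z = Subgroup.zpowers z' →
      (Commute a z ↔ Commute a z') := by
    intro a z z' e
    constructor <;> intro hc
    · obtain ⟨k, hk⟩ := Subgroup.mem_zpowers_iff.1 (e ▸ Subgroup.mem_zpowers z' : z' ∈ Subgroup.zpowers z)
      exact hk ▸ hc.zpow_right k
    · obtain ⟨k, hk⟩ := Subgroup.mem_zpowers_iff.1 (e.symm ▸ Subgroup.mem_zpowers z : z ∈ Subgroup.zpowers z')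
      exact hk ▸ hc.zpow_right k
  have he : Subgroup.zpowers (g * y * g⁻¹) = Subgroup.zpowers y₀ := by
    have h1 := congrArg (fun R : Sylow 5 G => (R : Subgroup G)) hg
    simp only [Sylow.coe_subgroup_smul] at h1
    rw [hQ, ← h1, ← hP, ← MulAut.conj_apply]
    exact (MonoidHom.map_zpowers (MulAut.conj g).toMonoidHom y).symm
  rw [card_mates_conj g rfl]
  exact Nat.card_congr (Equiv.subtypeEquivRight fun a => and_congr_left fun _ => hsame a _ _ he)

/-- Elements of order `5b` are pairs of commuting elements. -/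
theorem card_orderOf_five_mul (h : Hyp G) {b j : ℕ} (hb : 0 < b) (hco : Nat.Coprime 5 b)
    (hj : b * j % 5 = 1) (hjb : (b * j + 5) % (5 * b) = 1) {y₀ : G} (hy₀ : orderOf y₀ = 5) :
    cnt G (5 * b) = cnt G 5 * Nat.card (mates y₀ b) := by
  classical
  haveI := Fintype.ofFinite G
  have hy5 : ∀ {y : G}, orderOf y = 5 → ∀ n, n % 5 = 1 → y ^ n = y := by
    intro y hy n hn
    rw [← pow_mod_orderOf, hy, hn, pow_one]
  let f : (Σ y : {y : G // orderOf y = 5}, mates y.1 b) → {g : G // orderOf g = 5 * b} :=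
    fun q => ⟨q.1.1 * q.2.1, by
      rw [q.2.2.1.symm.orderOf_mul_eq_mul_orderOf_of_coprime (by rw [q.1.2, q.2.2.2]; exact hco),
        q.1.2, q.2.2.2]⟩
  have hyk : ∀ q : (Σ y : {y : G // orderOf y = 5}, mates y.1 b),
      (q.1.1 * q.2.1) ^ (b * j) = q.1.1 := by
    intro q
    have e0 : q.2.1 ^ b = 1 := by
      have := pow_orderOf_eq_one q.2.1
      rwa [q.2.2.2] at this
    have e : q.2.1 ^ (b * j) = 1 := by rw [pow_mul, e0, one_pow]
    rw [q.2.2.1.symm.mul_pow, e, mul_one]
    exact hy5 q.1.2 _ hj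
  have hinj : Function.Injective f := by
    rintro ⟨⟨y, hy⟩, ⟨a, ha⟩⟩ ⟨⟨y', hy'⟩, ⟨a', ha'⟩⟩ e
    have e1 : y * a = y' * a' := congrArg Subtype.val e
    have h1 := hyk ⟨⟨y, hy⟩, ⟨a, ha⟩⟩
    have h2 := hyk ⟨⟨y', hy'⟩, ⟨a', ha'⟩⟩
    simp only at h1 h2
    rw [e1, h2] at h1
    subst h1
    obtain rfl := mul_left_cancel e1
    rfl
  have hsurj : Function.Surjective f := by
    rintro ⟨g, hg⟩
    have hpos : 5 * b ≠ 0 := by omega
    have o1 : orderOf (g ^ (b * j)) = 5 := by
      rw [orderOf_pow, hg, show Nat.gcd (5 * b) (b * j) = b by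
        rw [mul_comm 5 b, Nat.gcd_mul_left, Nat.Coprime.gcd_eq_one ((Nat.Prime.coprime_iff_not_dvd
          (by norm_num)).2 fun hd => by
            obtain ⟨c, rfl⟩ := hd
            rw [show b * (5 * c) = 5 * (b * c) by ring, Nat.mul_mod_right] at hj
            omega), mul_one], Nat.mul_div_assoc _ dvd_rfl, Nat.div_self hb, mul_one]
    have o2 : orderOf (g ^ 5) = b := by
      rw [orderOf_pow, hg, show Nat.gcd (5 * b) 5 = 5 from Nat.gcd_eq_right (dvd_mul_right 5 b),
        Nat.mul_div_cancel_left _ (by norm_num)]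
    refine ⟨⟨⟨_, o1⟩, ⟨g ^ 5, (Commute.pow_pow (Commute.refl g) 5 (b * j)), o2⟩⟩, Subtype.ext ?_⟩
    show g ^ (b * j) * g ^ 5 = g
    rw [← pow_add, ← pow_mod_orderOf, hg, hjb, pow_one]
  have hbij := Nat.card_congr (Equiv.ofBijective f ⟨hinj, hsurj⟩)
  rw [Nat.card_sigma, Finset.sum_congr rfl fun y _ => card_mates_const h y.2 hy₀ b,
    Finset.sum_const, smul_eq_mul, Finset.card_univ, ← Nat.card_eq_fintype_card] at hbij
  exact hbij.symm

theorem cnt_ten (h : Hyp G) {y : G} (hy : orderOf y = 5) (hne : Nonempty (mates y 2)) :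
    cnt G 10 = 9504 ∧ Nat.card (mates y 2) = 1 := by
  have e := card_orderOf_five_mul h (b := 2) (j := 3) (by norm_num) (by norm_num) (by norm_num)
    (by norm_num) hy
  have hpos : 0 < Nat.card (mates y 2) := Nat.card_pos
  rw [cnt_five h, show 5 * 2 = 10 from rfl] at e
  have hm := h.mem 10 (by omega)
  simp only [List.mem_cons, List.not_mem_nil, or_false] at hm
  rcases hm with q | q | q | q | q | q | q <;> omega

theorem no_twenty (h : Hyp G) {y : G} (hy : orderOf y = 5) : IsEmpty (mates y 4) := by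
  refine not_nonempty_iff.1 fun hne => ?_
  have e := card_orderOf_five_mul h (b := 4) (j := 4) (by norm_num) (by norm_num) (by norm_num)
    (by norm_num) hy
  have h2 : 2 ≤ Nat.card (mates y 4) := by
    obtain ⟨⟨a, hac, ha⟩⟩ := hne
    have hne' : (⟨a, hac, ha⟩ : mates y 4) ≠ ⟨a⁻¹, hac.inv_left, by rw [orderOf_inv, ha]⟩ := by
      intro q
      have q' : a = a⁻¹ := congrArg Subtype.val q
      have : a ^ 2 = 1 := by rw [pow_two]; nth_rewrite 2 [q']; exact mul_inv_cancel a
      have := orderOf_dvd_of_pow_eq_one this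
      rw [ha] at this
      norm_num at this
    exact Finite.one_lt_card_iff_nontrivial.2 ⟨⟨_, _, hne'⟩⟩
  rw [cnt_five h, show 5 * 4 = 20 from rfl] at e
  have hm := h.mem 20 (by omega)
  simp only [List.mem_cons, List.not_mem_nil, or_false] at hm
  rcases hm with q | q | q | q | q | q | q <;> omega

theorem centralizer_five (h : Hyp G) {y : G} (hy : orderOf y = 5) :
    Nat.card (Subgroup.centralizer ({y} : Set G)) = 10 ∧ cnt G 10 = 9504 := by
  classical
  haveI : Fact (Nat.Prime 5) := ⟨by norm_num⟩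
  haveI : Fact (Nat.Prime 2) := ⟨Nat.prime_two⟩
  set Z := Subgroup.zpowers y with hZ
  set N := Subgroup.normalizer (Z : Set G) with hN
  set C := Subgroup.centralizer ({y} : Set G) with hC
  have h40 : Nat.card C ∣ 40 := normalizer_five h hy ▸ Subgroup.card_dvd_of_le (centralizer_le y)
  have h5 : 5 ∣ Nat.card C := by
    have := Subgroup.card_dvd_of_le (zpowers_le_centralizer y)
    rwa [Nat.card_zpowers, hy] at this
  haveI : Fintype N := Fintype.ofFinite N
  -- the normaliser induces at most four automorphisms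
  have hidx : Nat.card N ≤ 4 * Nat.card C := by
    have hmem : ∀ n ∈ N, n * y * n⁻¹ ∈ (((Finset.range 5).image (y ^ ·)).erase 1) := by
      intro n hn
      rw [Finset.mem_erase]
      refine ⟨fun e => ?_, ?_⟩
      · rw [conj_eq_one_iff] at e
        rw [e, orderOf_one] at hy
        omega
      · have h2 := (Subgroup.mem_normalizer_iff.1 hn y).1 (Subgroup.mem_zpowers y)
        rw [mem_zpowers_iff_mem_range_orderOf, hy] at h2
        simpa using h2
    have hfib : ∀ v : G, ((Finset.univ : Finset N).filter fun n => n.1 * y * n.1⁻¹ = v).card ≤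
        Nat.card C := by
      intro v
      rcases Finset.eq_empty_or_nonempty
        ((Finset.univ : Finset N).filter fun n => n.1 * y * n.1⁻¹ = v) with e | ⟨n₀, hn₀⟩
      · simp [e]
      rw [← Nat.card_eq_finsetCard]
      refine Nat.card_le_card_of_injective (fun n => (⟨n₀.1⁻¹ * n.1.1, ?_⟩ : C)) ?_
      · rw [Finset.mem_filter] at hn₀
        have hn := (Finset.mem_filter.1 n.2).2
        rw [hC, Subgroup.mem_centralizer_singleton_iff]
        have e1 : n.1.1 * y = n₀.1 * y * n₀.1⁻¹ * n.1.1 :=
          mul_inv_eq_iff_eq_mul.1 (hn.trans hn₀.2.symm)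
        rw [mul_assoc, e1]
        group
      · intro a b e
        exact Subtype.ext (Subtype.ext (mul_left_cancel (congrArg Subtype.val e)))
    have hle : (((Finset.range 5).image (y ^ ·)).erase 1).card ≤ 4 := by
      rw [Finset.card_erase_of_mem (Finset.mem_image.2 ⟨0, by simp, pow_zero y⟩)]
      exact Nat.sub_le_iff_le_add.2 (Finset.card_image_le.trans (le_of_eq (Finset.card_range 5)))
    have := Finset.card_le_mul_card_image_of_maps_to (f := fun n : N => n.1 * y * n.1⁻¹)
      (s := Finset.univ) (t := ((Finset.range 5).image (y ^ ·)).erase 1)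
      (fun n _ => hmem n n.2) (Nat.card C) (fun v _ => hfib v)
    rw [Finset.card_univ, ← Nat.card_eq_fintype_card] at this
    exact this.trans (by rw [mul_comm]; exact Nat.mul_le_mul_right _ hle)
  rw [normalizer_five h hy] at hidx
  obtain ⟨k, hk⟩ := h5
  have hk8 : k ∣ 8 := Nat.dvd_of_mul_dvd_mul_left (by norm_num : 0 < 5) (hk ▸ h40)
  have hk2 : 2 ∣ k := by
    have := (Nat.dvd_prime_pow Nat.prime_two (m := 3)).1 hk8
    obtain ⟨i, -, rfl⟩ := this
    rcases i with _ | i
    · omega
    · exact dvd_pow_self 2 (by omega)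
  have hCin : ∀ a ∈ C, Commute a y := fun a ha => Subgroup.mem_centralizer_singleton_iff.1 ha
  obtain ⟨⟨i, hiC⟩, hi⟩ := exists_prime_orderOf_dvd_card' (G := C) 2 (hk ▸ hk2.mul_left 5)
  rw [Subgroup.orderOf_mk] at hi
  obtain ⟨h10, hI⟩ := cnt_ten h hy ⟨⟨i, hCin i hiC, hi⟩⟩
  refine ⟨?_, h10⟩
  have huniq : ∀ a ∈ C, orderOf a = 2 → a = i := fun a ha hoa =>
    congrArg Subtype.val ((Nat.card_eq_one_iff_unique.1 hI).1.elim
      (⟨a, hCin a ha, hoa⟩ : mates y 2) ⟨i, hCin i hiC, hi⟩)
  have hno4 : ∀ a ∈ C, orderOf a ≠ 4 := fun a ha hoa =>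
    (no_twenty h hy).false ⟨a, hCin a ha, hoa⟩
  -- a Sylow 2-subgroup of the centraliser has order two
  obtain ⟨T⟩ : Nonempty (Sylow 2 C) := inferInstance
  have hT : Nat.card ↥(T : Subgroup C) ≤ 2 := by
    by_contra hlt
    obtain ⟨n, hn⟩ := (IsPGroup.iff_card).1 T.2
    haveI : Fintype ↥(T : Subgroup C) := Fintype.ofFinite _
    have hsq : ∀ a : ↥(T : Subgroup C), a = 1 ∨ a.1.1 = i := by
      intro a
      obtain ⟨e, -, he⟩ := (Nat.dvd_prime_pow Nat.prime_two).1 (hn ▸ orderOf_dvd_natCard a)
      have hoa : orderOf a.1.1 = 2 ^ e := by rw [Subgroup.orderOf_coe, Subgroup.orderOf_coe, he]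
      rcases e with _ | _ | e
      · exact Or.inl (orderOf_eq_one_iff.1 he)
      · exact Or.inr (huniq _ a.1.2 hoa)
      · exfalso
        refine hno4 (a.1.1 ^ (2 ^ e)) (pow_mem a.1.2 _) ?_
        rw [orderOf_pow, hoa, Nat.gcd_eq_right (pow_dvd_pow 2 (by omega)), show e + 1 + 1 = 2 + e by ring,
          pow_add, Nat.mul_div_cancel _ (by positivity)]
        norm_num
    have : Fintype.card ↥(T : Subgroup C) ≤ 2 := by
      refine Fintype.card_le_of_injective (fun a => if a = 1 then (0 : Fin 2) else 1) ?_ |>.trans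
        (by simp)
      intro a b e
      by_cases ha : a = 1 <;> by_cases hb : b = 1 <;> simp [ha, hb] at e ⊢
      exact Subtype.ext (Subtype.ext
        (((hsq a).resolve_left ha).trans ((hsq b).resolve_left hb).symm))
    rw [← Nat.card_eq_fintype_card] at this
    omega
  have hT2 : (Nat.card C).factorization 2 ≤ 1 := by
    rw [T.card_eq_multiplicity] at hT
    by_contra hc
    have := Nat.pow_le_pow_right (show 0 < 2 by norm_num)
      (show 2 ≤ (Nat.card C).factorization 2 by omega)
    omega
  rw [hk] at hT2 ⊢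
  have : k ≤ 8 := Nat.le_of_dvd (by norm_num) hk8
  interval_cases k
  all_goals first
    | omega
    | (exfalso
       have := (Nat.prime_two.pow_dvd_iff_le_factorization (k := 2) (by norm_num)).1
         (by norm_num : 2 ^ 2 ∣ 5 * 4)
       omega)
    | (exfalso
       have := (Nat.prime_two.pow_dvd_iff_le_factorization (k := 2) (by norm_num)).1
         (by norm_num : 2 ^ 2 ∣ 5 * 8)
       omega)

theorem order_mem (h : Hyp G) {n : ℕ} (hn : cnt G n ≠ 0) : n ∈ ([1, 2, 3, 4, 5, 6, 8, 9, 10, 11,
    12, 16, 18, 24, 27, 32, 36, 48, 54, 64, 72, 96, 108, 144, 192, 216, 288, 432, 576, 864,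
    1728] : List ℕ) := by
  obtain ⟨g, hg⟩ := cnt_ne_zero.1 hn
  have hd : n ∣ 95040 := h.card ▸ dvd_card_of_cnt hn
  have h11 : 11 ∣ n → n = 11 := by
    intro hd11
    have hx : orderOf (g ^ (n / 11)) = 11 := by
      rw [← hg]; exact orderOf_pow_orderOf_div (orderOf_pos g).ne' (hg ▸ hd11)
    have := Subgroup.orderOf_dvd_natCard (Subgroup.centralizer ({g ^ (n / 11)} : Set G))
      (Subgroup.mem_centralizer_singleton_iff.2 (Commute.self_pow g _).eq)
    rw [centralizer_eleven h hx, hg] at this
    rcases (Nat.dvd_prime (by norm_num)).1 this with e | e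
    · rw [e] at hd11; norm_num at hd11
    · exact e
  have h5 : 5 ∣ n → n = 5 ∨ n = 10 := by
    intro hd5
    have hx : orderOf (g ^ (n / 5)) = 5 := by
      rw [← hg]; exact orderOf_pow_orderOf_div (orderOf_pos g).ne' (hg ▸ hd5)
    have := Subgroup.orderOf_dvd_natCard (Subgroup.centralizer ({g ^ (n / 5)} : Set G))
      (Subgroup.mem_centralizer_singleton_iff.2 (Commute.self_pow g _).eq)
    rw [(centralizer_five h hx).1, hg] at this
    have hle : n ≤ 10 := Nat.le_of_dvd (by norm_num) this
    interval_cases n <;> simp_all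
  by_cases e11 : 11 ∣ n
  · simp [h11 e11]
  by_cases e5 : 5 ∣ n
  · rcases h5 e5 with e | e <;> simp [e]
  have hcop : Nat.Coprime n 55 := by
    rw [show (55 : ℕ) = 5 * 11 from rfl]
    exact Nat.Coprime.mul_right (((Nat.prime_five).coprime_iff_not_dvd.2 e5).symm)
      ((((by norm_num : Nat.Prime 11)).coprime_iff_not_dvd.2 e11).symm)
  have hd' : n ∈ (1728 : ℕ).divisors :=
    Nat.mem_divisors.2 ⟨hcop.dvd_of_dvd_mul_right (by norm_num at hd ⊢; exact hd), by norm_num⟩
  revert hd'
  generalize n = m
  revert m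
  decide +kernel

/-! ### the search -/

/-- a depth first search over the possible counts -/
def search (ev : List ℕ) : List (ℕ × List ℕ) → List (ℕ × ℕ) → Bool
  | [], a => total a != 95040 || !(present a 9 || present a 12)
  | (m, need) :: r, a => (if sumDiv a m % m == 0 then search ev r a else true) &&
      (if need.all (present a) then
        ev.all fun s => if s % Nat.totient m == 0 && (sumDiv a m + s) % m == 0 &&
          decide (total a + s ≤ 95040) then search ev r ((m, s) :: a) else true
      else true)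

/-- the candidates in the order of the search, with maximal divisors -/
def rows : List (ℕ × List ℕ) :=
  [(4, [2]), (6, [2, 3]), (8, [4]), (9, [3]), (12, [4, 6]), (16, [8]), (18, [6, 9]), (24, [8, 12]),
   (27, [9]), (32, [16]), (36, [12, 18]), (48, [16, 24]), (54, [18, 27]), (64, [32]), (72, [24, 36]),
   (96, [32, 48]), (108, [36, 54]), (144, [48, 72]), (192, [64, 96]), (216, [72, 108]),
   (288, [96, 144]), (432, [144, 216]), (576, [192, 288]), (864, [288, 432]), (1728, [576, 864])]

/-- the counts already known -/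
def start : List (ℕ × ℕ) := [(11, 17280), (10, 9504), (5, 9504), (3, 4400), (2, 891), (1, 1)]

/-- static conditions on the rows -/
def rowsOK : List (ℕ × List ℕ) → List ℕ → Bool
  | [], done => [1, 2, 3, 4, 5, 6, 8, 9, 10, 11, 12, 16, 18, 24, 27, 32, 36, 48, 54, 64, 72, 96,
      108, 144, 192, 216, 288, 432, 576, 864, 1728].all fun d => done.contains d
  | (m, need) :: r, done =>
      decide (2 < m) && decide (95040 % m = 0) &&
        need.all (fun d => done.contains d && decide (m % d = 0)) &&
        [1, 2, 3, 4, 5, 6, 8, 9, 10, 11, 12, 16, 18, 24, 27, 32, 36, 48, 54, 64, 72, 96,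
          108, 144, 192, 216, 288, 432, 576, 864, 1728].all
          (fun d => !decide (m % d = 0) || (m :: done).contains d) &&
        !done.contains m && rowsOK r (m :: done)

theorem rows_ok : rowsOK rows [11, 10, 5, 3, 2, 1] = true := by decide +kernel

theorem search_ok : search [4400, 5940, 9504, 17280, 23760] rows start = true := by decide +kernel

theorem search_sound (h : Hyp G) :
    ∀ (r : List (ℕ × List ℕ)) (done : List ℕ), done.Nodup → rowsOK r done = true →
      search [4400, 5940, 9504, 17280, 23760] r (assign (cnt G) done) = true →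
      cnt G 9 = 0 ∧ cnt G 12 = 0
  | [], done, hnd, hok, hs => by
    simp only [rowsOK, List.all_eq_true, List.contains_iff_mem] at hok
    have hcov : ∀ d, cnt G d ≠ 0 → d ∈ done := fun d hd => hok d (order_mem h hd)
    have htot : total (assign (cnt G) done) = 95040 := by
      have h1 := sumDiv_eq_sum (cnt G) (k := 95040) (by norm_num) done hnd fun d _ hd => hcov d hd
      have h2 : ∑ d ∈ (95040 : ℕ).divisors, cnt G d = 95040 := by
        classical
        haveI := Fintype.ofFinite G
        simp only [cnt, Nat.card_eq_fintype_card, Fintype.card_subtype]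
        rw [sum_card_orderOf_eq_card_pow_eq_one (by norm_num), Finset.filter_true_of_mem,
          Finset.card_univ, ← Nat.card_eq_fintype_card, h.card]
        intro g _
        rw [← h.card]; exact pow_card_eq_one'
      rw [h2] at h1
      rw [← h1, sumDiv, total, List.filter_eq_self.2]
      intro e he
      obtain ⟨-, h0, -⟩ := mem_assign.1 he
      simpa using Nat.mod_eq_zero_of_dvd (h.card ▸ dvd_card_of_cnt h0)
    simp only [search, htot, bne_self_eq_false, Bool.false_or, Bool.not_eq_true',
      Bool.or_eq_false_iff, present, List.any_eq_false, beq_iff_eq] at hs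
    constructor
    · by_contra h0
      exact hs.1 (9, cnt G 9) (mem_assign.2 ⟨hcov 9 h0, h0, rfl⟩) rfl
    · by_contra h0
      exact hs.2 (12, cnt G 12) (mem_assign.2 ⟨hcov 12 h0, h0, rfl⟩) rfl
  | (m, need) :: r, done, hnd, hok, hs => by
    simp only [rowsOK, Bool.and_eq_true, decide_eq_true_eq, List.all_eq_true, Bool.or_eq_true,
      Bool.not_eq_true', decide_eq_false_iff_not, List.contains_iff_mem] at hok
    obtain ⟨⟨⟨⟨⟨hm2, hmN⟩, hneed⟩, hdiv⟩, hmem⟩, hrest⟩ := hok
    have hmem' : m ∉ done := by simpa using hmem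
    have hnd' : (m :: done).Nodup := List.nodup_cons.2 ⟨hmem', hnd⟩
    have hsum := sumDiv_eq_sum (cnt G) (by omega : m ≠ 0) (m :: done) hnd' fun d hd h0 => by
      rcases hdiv d (order_mem h h0) with e | e
      · exact absurd (Nat.mod_eq_zero_of_dvd hd) e
      · exact e
    have hfrob : m ∣ ∑ d ∈ m.divisors, cnt G d :=
      dvd_sum_cnt (h.card ▸ Nat.dvd_of_mod_eq_zero hmN)
    rw [← hsum] at hfrob
    simp only [search, Bool.and_eq_true] at hs
    by_cases h0 : cnt G m = 0
    · refine search_sound h r (m :: done) hnd' hrest ?_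
      have e : assign (cnt G) (m :: done) = assign (cnt G) done := by simp [assign, h0]
      rw [e] at hfrob ⊢
      rw [if_pos (by simpa using Nat.mod_eq_zero_of_dvd hfrob)] at hs
      exact hs.1
    · refine search_sound h r (m :: done) hnd' hrest ?_
      have hA : assign (cnt G) (m :: done) = (m, cnt G m) :: assign (cnt G) done := by
        simp [assign, h0]
      rw [hA] at hfrob ⊢
      have hn : need.all (present (assign (cnt G) done)) = true := by
        simp only [List.all_eq_true, present, List.any_eq_true, beq_iff_eq]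
        intro d hd
        exact ⟨(d, cnt G d), mem_assign.2 ⟨(hneed d hd).1,
          closed (Nat.dvd_of_mod_eq_zero (hneed d hd).2) h0, rfl⟩, rfl⟩
      have h2 := hs.2
      rw [if_pos hn, List.all_eq_true] at h2
      have hev : cnt G m ∈ [4400, 5940, 9504, 17280, 23760] := by
        have := h.mem m h0
        obtain ⟨c, hc⟩ := (even_iff_two_dvd.1 (Nat.totient_even hm2)).trans (totient_dvd (G := G) m)
        simp only [List.mem_cons, List.not_mem_nil, or_false] at this ⊢
        omega
      have h3 := h2 _ hev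
      rw [if_pos] at h3
      · exact h3
      · simp only [Bool.and_eq_true, beq_iff_eq, decide_eq_true_eq]
        refine ⟨⟨Nat.mod_eq_zero_of_dvd (totient_dvd m), Nat.mod_eq_zero_of_dvd ?_⟩, ?_⟩
        · convert hfrob using 1
          simp [sumDiv, add_comm]
        · have htot : total (assign (cnt G) (m :: done)) ≤ 95040 := by
            classical
            haveI := Fintype.ofFinite G
            rw [total_assign, ← List.sum_toFinset _ hnd', ← h.card]
            simp only [cnt, Nat.card_eq_fintype_card, Fintype.card_subtype]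
            rw [← Finset.card_biUnion]
            · exact Finset.card_le_univ _
            · intro a _ b _ hab
              simp only [Finset.disjoint_left, Finset.mem_filter, Finset.mem_univ, true_and]
              exact fun g e1 e2 => hab (e1.symm.trans e2)
          rw [hA] at htot
          simpa [total, add_comm] using htot

theorem no_nine_twelve (h : Hyp G) : cnt G 9 = 0 ∧ cnt G 12 = 0 := by
  obtain ⟨y, hy⟩ := cnt_ne_zero.1 (by rw [cnt_five h]; norm_num : cnt G 5 ≠ 0)
  refine search_sound h rows [11, 10, 5, 3, 2, 1] (by decide) rows_ok ?_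
  have e : assign (cnt G) [11, 10, 5, 3, 2, 1] = start := by
    simp [assign, start, cnt_eleven h, (centralizer_five h hy).2, cnt_five h, cnt_three h,
      cnt_two h, cnt_one]
  rw [e]; exact search_ok

theorem cnt_eight_ne_zero (h : Hyp G) : cnt G 8 ≠ 0 := by
  intro h8
  have hz : ∀ k, 8 ∣ k → cnt G k = 0 := fun k hk => by
    by_contra h0; exact closed hk h0 h8
  have h64 := Nat.mod_eq_zero_of_dvd
    (dvd_sum_cnt (G := G) (k := 64) (by rw [h.card]; norm_num))
  rw [show (64 : ℕ).divisors = {1, 2, 4, 8, 16, 32, 64} by decide, Finset.sum_insert (by decide),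
    Finset.sum_insert (by decide), Finset.sum_insert (by decide), Finset.sum_insert (by decide),
    Finset.sum_insert (by decide), Finset.sum_insert (by decide), Finset.sum_singleton,
    cnt_one, cnt_two h, hz 8 (by norm_num), hz 16 (by norm_num), hz 32 (by norm_num),
    hz 64 (by norm_num)] at h64
  by_cases h4 : cnt G 4 = 0
  · omega
  · have := h.mem 4 h4
    simp only [List.mem_cons, List.not_mem_nil, or_false] at this
    rcases this with e | e | e | e | e | e | e <;> omega

/-! ### simplicity -/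

theorem isSimple (h : Hyp G) : IsSimpleGroup G := by
  classical
  haveI : Fintype G := Fintype.ofFinite G
  haveI : Fact (Nat.Prime 11) := ⟨by norm_num⟩
  haveI : Nontrivial G := Finite.one_lt_card_iff_nontrivial.1 (by rw [h.card]; norm_num)
  refine ⟨fun N hN => ?_⟩
  by_contra hne
  push Not at hne
  obtain ⟨hbot, htop⟩ := hne
  have hidx := Subgroup.index_mul_card N
  rw [h.card] at hidx
  have frattini : ∀ (S : Subgroup G), Subgroup.normalizer (S : Set G) ⊔ N = ⊤ →
      N.index ∣ Nat.card ↥(Subgroup.normalizer (S : Set G)) := by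
    intro S hS
    have := Subgroup.relIndex_dvd_card N (Subgroup.normalizer (S : Set G))
    rwa [← Subgroup.relIndex_sup_right, hS, Subgroup.relIndex_top_right] at this
  by_cases h11 : 11 ∣ Nat.card N
  · obtain ⟨⟨y, hyN⟩, hy⟩ := exists_prime_orderOf_dvd_card' 11 h11
    rw [Subgroup.orderOf_mk] at hy
    obtain ⟨P, hle⟩ := (IsPGroup.of_card (G := ↥(Subgroup.zpowers y)) (p := 11) (n := 1)
      (by rw [Nat.card_zpowers, hy, pow_one])).exists_le_sylow
    have he : Subgroup.zpowers y = (P : Subgroup G) :=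
      Subgroup.eq_of_le_of_card_ge hle (by
        rw [card_sylow_self h (m := 8640) (by norm_num) (by norm_num) P, Nat.card_zpowers, hy])
    have hPN : (P : Subgroup G) ≤ N := he ▸ Subgroup.zpowers_le.2 hyN
    have h55 : N.index ∣ 55 := by
      have h' := frattini (P : Subgroup G) (Sylow.normalizer_sup_eq_top' P hPN)
      rwa [← he, normalizer_eleven h hy] at h'
    obtain ⟨c, hc⟩ := h11
    have h8640 : N.index ∣ 8640 := ⟨c, by rw [hc] at hidx; linarith⟩
    have h5 := Nat.dvd_gcd h55 h8640
    rw [show Nat.gcd 55 8640 = 5 by norm_num] at h5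
    rcases (Nat.dvd_prime Nat.prime_five).1 h5 with e | e
    · exact htop (Subgroup.index_eq_one.1 e)
    have hin : ∀ g : G, ¬ 5 ∣ orderOf g → g ∈ N := by
      intro g hg
      obtain ⟨q, hq⟩ := exists_pow_eq_self_of_coprime
        ((Nat.Prime.coprime_iff_not_dvd Nat.prime_five).2 hg : Nat.Coprime 5 (orderOf g))
      rw [← hq]
      exact pow_mem (e ▸ N.pow_index_mem g) q
    have hcount : cnt G 2 + cnt G 3 + cnt G 11 ≤ Nat.card N := by
      have hinj : ∀ {a : ℕ}, ¬ 5 ∣ a → ∀ (g : {g : G // orderOf g = a}), g.1 ∈ N :=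
        fun ha g => hin _ (by rw [g.2]; exact ha)
      let f : ({g : G // orderOf g = 2} ⊕ {g : G // orderOf g = 3}) ⊕ {g : G // orderOf g = 11} → N :=
        Sum.elim (Sum.elim (fun g => ⟨g.1, hinj (by norm_num) g⟩)
          (fun g => ⟨g.1, hinj (by norm_num) g⟩)) (fun g => ⟨g.1, hinj (by norm_num) g⟩)
      have hf : Function.Injective f := by
        rintro ((⟨a, ha⟩ | ⟨a, ha⟩) | ⟨a, ha⟩) ((⟨b, hb⟩ | ⟨b, hb⟩) | ⟨b, hb⟩) q <;>
          simp only [f, Sum.elim_inl, Sum.elim_inr, Subtype.mk.injEq] at q <;> subst q <;>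
          first | rfl | omega
      have := Nat.card_le_card_of_injective f hf
      rwa [Nat.card_sum, Nat.card_sum] at this
    rw [cnt_two h, cnt_three h, cnt_eleven h] at hcount
    rw [e] at hidx
    omega
  · obtain ⟨q, hq, hqN⟩ := Nat.exists_prime_and_dvd
      (by have := (Subgroup.one_lt_card_iff_ne_bot N).2 hbot; omega : Nat.card N ≠ 1)
    haveI : Fact q.Prime := ⟨hq⟩
    obtain ⟨S₀⟩ : Nonempty (Sylow q N) := inferInstance
    set S : Subgroup G := (S₀ : Subgroup N).map N.subtype with hS
    have hScard : Nat.card S = q ^ (Nat.card N).factorization q := by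
      rw [hS, ← Nat.card_congr (Subgroup.equivMapOfInjective _ _ N.subtype_injective).toEquiv,
        S₀.card_eq_multiplicity]
    have h11i : 11 ∣ N.index := by
      have hd : 11 ∣ N.index * Nat.card N := by rw [hidx]; norm_num
      exact ((by norm_num : Nat.Prime 11).dvd_mul.1 hd).resolve_right h11
    obtain ⟨⟨y, hyS⟩, hy⟩ := exists_prime_orderOf_dvd_card' 11
      (h11i.trans (frattini S (Sylow.normalizer_sup_eq_top S₀)))
    rw [Subgroup.orderOf_mk] at hy
    have hmod : Nat.card S ≡ 1 [MOD 11] := by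
      let K : Subgroup G := Subgroup.zpowers y
      have hK : IsPGroup 11 K := IsPGroup.of_card (n := 1) (by rw [Nat.card_zpowers, hy, pow_one])
      letI : MulAction K S :=
        { smul := fun k a => ⟨k.1 * a.1 * k.1⁻¹,
            (Subgroup.mem_normalizer_iff.1 ((Subgroup.zpowers_le.2 hyS) k.2) a.1).1 a.2⟩
          one_smul := fun a => Subtype.ext (show (1 : G) * a.1 * (1 : G)⁻¹ = a.1 by simp)
          mul_smul := fun k l a => Subtype.ext (show k.1 * l.1 * a.1 * (k.1 * l.1)⁻¹ =
            k.1 * (l.1 * a.1 * l.1⁻¹) * k.1⁻¹ by group) }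
      have h1 : Nat.card (MulAction.fixedPoints K S) = 1 := by
        rw [Nat.card_eq_one_iff_unique]
        refine ⟨⟨fun a b => ?_⟩, ⟨⟨1, fun k => Subtype.ext (show k.1 * (1 : G) * k.1⁻¹ = 1 by simp)⟩⟩⟩
        have fx : ∀ a : MulAction.fixedPoints K S, a.1.1 = 1 := fun a => by
          have e := congrArg Subtype.val (a.2 ⟨y, Subgroup.mem_zpowers y⟩)
          have e' : y * a.1.1 * y⁻¹ = a.1.1 := e
          have hd := Subgroup.orderOf_dvd_natCard (Subgroup.centralizer ({y} : Set G))
            (Subgroup.mem_centralizer_singleton_iff.2 (mul_inv_eq_iff_eq_mul.1 e').symm)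
          rw [centralizer_eleven h hy] at hd
          have hd2 := Subgroup.orderOf_dvd_natCard S a.1.2
          rw [hScard] at hd2
          refine orderOf_eq_one_iff.1 (Nat.eq_one_of_dvd_coprimes ?_ hd2 hd)
          refine Nat.Coprime.pow_left _ ((Nat.coprime_primes hq (by norm_num)).2 fun e11 => ?_)
          exact h11 (e11 ▸ hqN)
        exact Subtype.ext (Subtype.ext ((fx a).trans (fx b).symm))
      have := hK.card_modEq_card_fixedPoints S
      rwa [h1] at this
    have hd : Nat.card S ∣ 8640 := by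
      have h1 : Nat.card S ∣ 95040 := h.card ▸ Subgroup.card_subgroup_dvd_card S
      refine Nat.Coprime.dvd_of_dvd_mul_right ?_ ((show (95040 : ℕ) = 8640 * 11 from rfl) ▸ h1)
      rw [hScard]
      refine Nat.Coprime.pow_left _ ((Nat.coprime_primes hq (by norm_num)).2 fun e11 => ?_)
      exact h11 (e11 ▸ hqN)
    have hfac : 0 < (Nat.card N).factorization q := hq.factorization_pos_of_dvd (by omega) hqN
    have hdiv : Nat.card S ∈ (8640 : ℕ).divisors.filter fun d => 1 < d ∧ d.primeFactors.card = 1 := by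
      rw [Finset.mem_filter, Nat.mem_divisors]
      refine ⟨⟨hd, by norm_num⟩, ?_, ?_⟩
      · rw [hScard]; exact Nat.one_lt_pow hfac.ne' hq.one_lt
      · rw [hScard, Nat.primeFactors_prime_pow hfac.ne' hq, Finset.card_singleton]
    have key : ∀ d ∈ ([2, 4, 8, 16, 32, 64, 3, 9, 27, 5] : List ℕ), d % 11 ≠ 1 := by decide
    refine key (Nat.card S) ?_ hmod
    have hq235 : q = 2 ∨ q = 3 ∨ q = 5 := by
      have hq' : q ∣ 2 ^ 6 * 3 ^ 3 * 5 := (dvd_pow_self q hfac.ne').trans (hScard ▸ hd)
      rcases hq.dvd_mul.1 hq' with e | e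
      · rcases hq.dvd_mul.1 e with e | e
        · exact Or.inl ((Nat.prime_dvd_prime_iff_eq hq Nat.prime_two).1 (hq.dvd_of_dvd_pow e))
        · exact Or.inr (Or.inl ((Nat.prime_dvd_prime_iff_eq hq Nat.prime_three).1 (hq.dvd_of_dvd_pow e)))
      · exact Or.inr (Or.inr ((Nat.prime_dvd_prime_iff_eq hq Nat.prime_five).1 e))
    rw [hScard] at hd ⊢
    generalize (Nat.card N).factorization q = e at hd hfac
    rcases hq235 with rfl | rfl | rfl
    · have : e ≤ 6 := by
        by_contra hc
        have := (pow_dvd_pow 2 (by omega : 7 ≤ e)).trans hd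
        norm_num at this
      interval_cases e <;> simp
    · have : e ≤ 3 := by
        by_contra hc
        have := (pow_dvd_pow 3 (by omega : 4 ≤ e)).trans hd
        norm_num at this
      interval_cases e <;> simp
    · have : e ≤ 1 := by
        by_contra hc
        have := (pow_dvd_pow 5 (by omega : 2 ≤ e)).trans hd
        norm_num at this
      interval_cases e <;> simp

/-- The data of a group with the given counts. -/
theorem data_of_hyp (h : Hyp G) : Data G where
  simple := isSimple h
  card := h.card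
  cnt2 := cnt_two h
  cnt3 := cnt_three h
  cnt5 := cnt_five h
  cnt6 := by
    by_cases h0 : cnt G 6 = 0
    · simp [h0]
    · have := h.mem 6 h0
      simp only [List.mem_cons, List.not_mem_nil, or_false] at this
      simp only [Set.mem_insert_iff, Set.mem_singleton_iff]
      have he : 2 ∣ cnt G 6 := (by decide : 2 ∣ Nat.totient 6).trans (totient_dvd 6)
      omega
  cnt10 := by
    obtain ⟨y, hy⟩ := cnt_ne_zero.1 (by rw [cnt_five h]; norm_num : cnt G 5 ≠ 0)
    exact (centralizer_five h hy).2
  no9 g hg := cnt_ne_zero.2 ⟨g, hg⟩ (no_nine_twelve h).1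
  no12 g hg := cnt_ne_zero.2 ⟨g, hg⟩ (no_nine_twelve h).2
  no15 g hg := by
    have := order_mem h (cnt_ne_zero.2 ⟨g, hg⟩)
    simp at this
  no20 g hg := by
    have := order_mem h (cnt_ne_zero.2 ⟨g, hg⟩)
    simp at this
  exists8 := cnt_ne_zero.1 (cnt_eight_ne_zero h)
  centFive _ hy := (centralizer_five h hy).1
  normFive _ hy := normalizer_five h hy
  centEleven _ hx := centralizer_eleven h hx

end Cfsg.Agent.M12Nse51
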