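import Cfsg.Agent.Lib.M12Nse51Count

/-!
The values of the order counting function of the Mathieu group of degree twelve.
-/

set_option autoImplicit false
set_option maxRecDepth 100000

namespace Cfsg.Agent.M12Nse51

open Cfsg

theorem ok1 : okVal (1, 1) = true := by decide +kernel
theorem ok2 : okVal (2, 891) = true := by decide +kernel
theorem ok3 : okVal (3, 4400) = true := by decide +kernel
theorem ok4 : okVal (4, 5940) = true := by decide +kernel
theorem ok5 : okVal (5, 9504) = true := by decide +kernel
theorem ok6 : okVal (6, 23760) = true := by decide +kernel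
theorem ok8 : okVal (8, 23760) = true := by decide +kernel
theorem ok10 : okVal (10, 9504) = true := by decide +kernel
theorem ok11 : okVal (11, 17280) = true := by decide +kernel

theorem count_of_ok {n v : ℕ} (hn : 0 < n) (h : okVal (n, v) = true) :
    Nat.card {g : Spor.M12 // orderOf g = n} = v := by
  rw [count_eq hn]
  simpa [okVal] using h

/-- The set of values of the counting function. -/
theorem value_set : {c : ℕ | 0 < c ∧ ∃ n : ℕ, c = Nat.card {g : ↥Spor.M12 // orderOf g = n}} =
    ({1, 891, 4400, 5940, 9504, 23760, 17280} : Set ℕ) := by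
  classical
  have h1 := count_of_ok one_pos ok1
  have h2 := count_of_ok (by norm_num) ok2
  have h3 := count_of_ok (by norm_num) ok3
  have h4 := count_of_ok (by norm_num) ok4
  have h5 := count_of_ok (by norm_num) ok5
  have h6 := count_of_ok (by norm_num) ok6
  have h8 := count_of_ok (by norm_num) ok8
  have h10 := count_of_ok (by norm_num) ok10
  have h11 := count_of_ok (by norm_num) ok11
  have hz : ∀ n, n ∉ ({1, 2, 3, 4, 5, 6, 8, 10, 11} : Finset ℕ) →
      Nat.card {g : ↥Spor.M12 // orderOf g = n} = 0 := by
    intro n hn
    let A : Finset ↥Spor.M12 :=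
      Finset.univ.filter fun g => orderOf g ∈ ({1, 2, 3, 4, 5, 6, 8, 10, 11} : Finset ℕ)
    have hA : A.card = Nat.card ↥Spor.M12 := by
      rw [GolayM24.card_M12, Finset.card_eq_sum_card_fiberwise
        (s := A) (f := fun g => orderOf g) (t := {1, 2, 3, 4, 5, 6, 8, 10, 11})
        (fun g hg => by simpa [A] using hg)]
      have e : ∀ m ∈ ({1, 2, 3, 4, 5, 6, 8, 10, 11} : Finset ℕ),
          (A.filter fun g => orderOf g = m).card =
            Nat.card {g : ↥Spor.M12 // orderOf g = m} := by
        intro m hm
        rw [Nat.card_eq_fintype_card, Fintype.card_subtype]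
        congr 1
        ext g
        simp only [A, Finset.mem_filter, Finset.mem_univ, true_and]
        exact ⟨fun h => h.2, fun h => ⟨h ▸ hm, h⟩⟩
      rw [Finset.sum_congr rfl e]
      rw [Finset.sum_insert (by decide), Finset.sum_insert (by decide), Finset.sum_insert (by decide),
        Finset.sum_insert (by decide), Finset.sum_insert (by decide), Finset.sum_insert (by decide),
        Finset.sum_insert (by decide), Finset.sum_insert (by decide), Finset.sum_singleton,
        h1, h2, h3, h4, h5, h6, h8, h10, h11]
      all_goals norm_num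
    have huniv : A = Finset.univ := Finset.eq_univ_of_card A (by rw [hA, Nat.card_eq_fintype_card])
    haveI : IsEmpty {g : ↥Spor.M12 // orderOf g = n} := ⟨fun g => by
      have : g.1 ∈ A := by rw [huniv]; exact Finset.mem_univ _
      rw [Finset.mem_filter, g.2] at this
      exact hn this.2⟩
    exact Nat.card_of_isEmpty
  ext c
  simp only [Set.mem_setOf_eq, Set.mem_insert_iff, Set.mem_singleton_iff]
  constructor
  · rintro ⟨hc, n, rfl⟩
    by_cases hn : n ∈ ({1, 2, 3, 4, 5, 6, 8, 10, 11} : Finset ℕ)
    · simp only [Finset.mem_insert, Finset.mem_singleton] at hn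
      rcases hn with rfl | rfl | rfl | rfl | rfl | rfl | rfl | rfl | rfl <;> simp_all
    · rw [hz n hn] at hc; omega
  · rintro (rfl | rfl | rfl | rfl | rfl | rfl | rfl)
    · exact ⟨one_pos, 1, h1.symm⟩
    · exact ⟨by norm_num, 2, h2.symm⟩
    · exact ⟨by norm_num, 3, h3.symm⟩
    · exact ⟨by norm_num, 4, h4.symm⟩
    · exact ⟨by norm_num, 5, h5.symm⟩
    · exact ⟨by norm_num, 6, h6.symm⟩
    · exact ⟨by norm_num, 11, h11.symm⟩

end Cfsg.Agent.M12Nse51
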