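import Cfsg.Agent.Lib.M12Nse51Big57
import Cfsg.Agent.Lib.M12Nse51Extra99
import Cfsg.Agent.Lib.M12Nse51Quot
import Cfsg.Agent.Lib.M12Nse51Values
import Cfsg.Agent.Lib.M12Nse51Spec
import Cfsg.Agent.Lib.GolayM24
import Cfsg.Agent.Lib.HallCore
import Cfsg.Agent.Lib.AN62Coords
import Cfsg.Agent.Lib.AN82Assemble
import Cfsg.Agent.Lib.AN39Card

/-!
M12 from the order and the set of element counts.
-/

set_option autoImplicit false

open Cfsg

namespace Cfsg.Agent.M12Nse51

/-- The order and the set of element counts give the input. -/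
theorem hyp_of_nse {G : Type*} [Group G] [Finite G]
    (hcard : Nat.card G = Nat.card ↥Cfsg.Spor.M12)
    (hnse : {c : ℕ | 0 < c ∧ ∃ n : ℕ, c = Nat.card {g : G // orderOf g = n}} =
      {c : ℕ | 0 < c ∧ ∃ n : ℕ, c = Nat.card {g : ↥Cfsg.Spor.M12 // orderOf g = n}}) : Hyp G := by
  rw [value_set] at hnse
  refine ⟨hcard.trans GolayM24.card_M12, fun n hn => ?_, ?_⟩
  · have hc : cnt G n ∈ {c : ℕ | 0 < c ∧ ∃ m : ℕ, c = Nat.card {g : G // orderOf g = m}} :=
      ⟨Nat.pos_of_ne_zero hn, n, rfl⟩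
    rw [hnse] at hc
    simp only [Set.mem_insert_iff, Set.mem_singleton_iff] at hc
    simp only [List.mem_cons, List.not_mem_nil, or_false]
    tauto
  · have hc : (891 : ℕ) ∈ {c : ℕ | 0 < c ∧ ∃ m : ℕ, c = Nat.card {g : G // orderOf g = m}} := by
      rw [hnse]; simp
    obtain ⟨-, n, hn⟩ := hc
    exact ⟨n, hn.symm⟩

open AN82 in
/-- No frame with a swapping pair fits the two classes of involutions. -/
theorem not_good {G : Type*} [Group G] [Finite G] (h : Data G) {S : Sylow 2 G} {s z g : G}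
    (L : Local S s z g) {F : Frame 0 G} (gd : Good F) : False := by
  haveI : Fact (Nat.Prime 2) := ⟨Nat.prime_two⟩
  have h2 : orderOf (F.f 36) = 2 := orderOf_eq_prime
    (by rw [pow_two]; exact F.sq_eq_one_iff.2 (by decide +kernel))
    (fun e => absurd (F.eq_one_iff.1 e) (by decide))
  have same : ∀ a b : G, IsConj a b →
      Nat.card (Subgroup.centralizer ({a} : Set G)) = Nat.card (Subgroup.centralizer ({b} : Set G)) := by
    intro a b q
    have h1 := card_class h a
    have h2 := card_class h b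
    rw [Nat.card_congr (Equiv.subtypeEquivRight fun x =>
      ⟨fun r => q.symm.trans r, fun r => q.trans r⟩ : {x : G // IsConj a x} ≃ {x : G // IsConj b x})] at h1
    exact Nat.eq_of_mul_eq_mul_left (Nat.pos_of_ne_zero fun e0 => by rw [e0] at h2; omega)
      (h1.trans h2.symm)
  rcases AN39.card_centA gd with e | e <;> rcases L.classes (F.f 36) h2 with q | q <;>
    rw [← same _ _ q] at e
  all_goals first
    | (rw [L.pivot.scard] at e; omega)
    | (rw [L.zcard] at e; omega)

/-- An involution commuting with an element of order five. -/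
theorem exists_seed {G : Type*} [Group G] [Finite G] (h : Data G) :
    ∃ s : G, orderOf s = 2 ∧ 5 ∣ Nat.card (Subgroup.centralizer ({s} : Set G)) := by
  haveI : Fact (Nat.Prime 2) := ⟨Nat.prime_two⟩
  haveI : Fact (Nat.Prime 5) := ⟨Nat.prime_five⟩
  obtain ⟨y, hy⟩ := exists_prime_orderOf_dvd_card' (G := G) 5 (by rw [h.card]; norm_num)
  obtain ⟨⟨s, hsy⟩, hs⟩ := exists_prime_orderOf_dvd_card'
    (G := Subgroup.centralizer ({y} : Set G)) 2 (by rw [h.centFive y hy]; norm_num)
  rw [Subgroup.orderOf_mk] at hs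
  exact ⟨s, hs, hy ▸ Subgroup.orderOf_dvd_natCard _ (mem_cent.2 (mem_cent.1 hsy).symm)⟩

end Cfsg.Agent.M12Nse51

namespace Cfsg.Agent.M12Nse51

/-- The facts of `Data` determine the group. -/
theorem iso_of_data {G : Type*} [Group G] [Finite G] (h : Data G) :
    Nonempty (G ≃* ↥Cfsg.Spor.M12) := by
  obtain ⟨s, hs, h5⟩ := exists_seed h
  have hC240 : Nat.card (Subgroup.centralizer ({s} : Set G)) = 240 :=
    (card_cases h hs h5).resolve_right (M12Nse51Big57.no_1440 h s hs)
  obtain ⟨S, z, g, L⟩ := exists_local h hs hC240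
  obtain ⟨hQ, ⟨e⟩, hfix⟩ := core_facts h L
  set C := Subgroup.centralizer ({z} : Set G) with hC
  set Q := (Cfsg.pCore 2 C).map C.subtype with hQdef
  have hQG : Nat.card Q = 32 :=
    (Subgroup.card_map_of_injective Subtype.coe_injective).trans hQ
  haveI : Fact (Nat.Prime 3) := ⟨Nat.prime_three⟩
  haveI : Fact (Nat.Prime 2) := ⟨Nat.prime_two⟩
  have hzQ : z ∈ Q := by
    refine ⟨⟨z, mem_cent.2 (Commute.refl z)⟩, ?_, rfl⟩
    have hn : (Subgroup.zpowers (⟨z, mem_cent.2 (Commute.refl z)⟩ : C)).Normal := by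
      refine ⟨fun a ha u => ?_⟩
      obtain ⟨j, rfl⟩ := Subgroup.mem_zpowers_iff.1 ha
      refine Subgroup.mem_zpowers_iff.2 ⟨j, ?_⟩
      have : Commute u (⟨z, mem_cent.2 (Commute.refl z)⟩ : C) := Subtype.ext (mem_cent.1 u.2).eq
      rw [(this.zpow_right j).eq, mul_inv_cancel_right]
    exact HallCore.le_pCore (IsPGroup.of_card (n := 1)
      (by rw [Nat.card_zpowers, Subgroup.orderOf_mk, L.pivot.zord, pow_one])) (Subgroup.mem_zpowers _)
  let X : Sylow 3 C := default
  have hX3 : Nat.card ↥(X : Subgroup C) = 3 := by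
    rw [X.card_eq_multiplicity, L.zcard, show (192 : ℕ) = 3 ^ 1 * 64 by norm_num,
      Nat.factorization_mul (by norm_num) (by norm_num), Finsupp.add_apply,
      Nat.Prime.factorization_pow Nat.prime_three, Finsupp.single_eq_same,
      Nat.factorization_eq_zero_of_not_dvd (by norm_num : ¬ 3 ∣ 64)]
    norm_num
  obtain ⟨⟨x, hxX⟩, hx⟩ := exists_prime_orderOf_dvd_card' (G := ↥(X : Subgroup C)) 3 (dvd_of_eq hX3.symm)
  rw [Subgroup.orderOf_mk] at hx
  have hXe : (X : Subgroup C) = Subgroup.zpowers x :=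
    (Subgroup.eq_of_le_of_card_ge (Subgroup.zpowers_le.2 hxX) (by rw [hX3, Nat.card_zpowers, hx])).symm
  have hx' : orderOf (x : G) = 3 := by rw [Subgroup.orderOf_coe]; exact hx
  have hfixG : ∀ q ∈ Q, Commute q (x : G) → q = 1 ∨ q = z := by
    rintro _ ⟨q, hq, rfl⟩ hc
    exact hfix x hx q hq (Subtype.ext hc.eq)
  obtain ⟨hex, hnwc⟩ := extra_facts h L hQG hx' (mem_cent.1 x.2) hfixG
  have hCQX : Q ⊓ Subgroup.centralizer (((X : Subgroup C).map C.subtype : Subgroup G) : Set G) =
      Subgroup.zpowers z := by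
    refine le_antisymm ?_ (Subgroup.zpowers_le.2 ⟨hzQ, ?_⟩)
    · intro q hq
      have hc : Commute q (x : G) :=
        (Subgroup.mem_centralizer_iff.1 hq.2 _ ⟨x, hxX, rfl⟩).symm
      rcases hfixG q hq.1 hc with rfl | rfl
      · exact one_mem _
      · exact Subgroup.mem_zpowers _
    · refine Subgroup.mem_centralizer_iff.2 ?_
      rintro _ ⟨a, -, rfl⟩
      exact (mem_cent.1 a.2).eq
  haveI := h.simple
  obtain ⟨k, F, -, u, hu, hu', hcj⟩ :=
    AN62.exists_frame z L.pivot.zord C rfl Q rfl hex hQG e X hCQX hnwc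
  rcases AN82.classify (fun _ _ {_} gd => (M12Nse51.not_good h L gd).elim) F u hu hu' hcj with
    ⟨N, hN, -, -, hN8, -⟩ | ⟨⟨e8⟩⟩ | ⟨⟨e9⟩⟩ | hM
  · exfalso
    rcases hN.eq_bot_or_eq_top with rfl | rfl
    · simp at hN8
    · rw [Subgroup.card_top, h.card] at hN8; omega
  · have := Nat.card_congr e8.toEquiv
    rw [h.card, nat_card_alternatingGroup, Nat.card_fin] at this
    norm_num [Nat.factorial] at this
  · have := Nat.card_congr e9.toEquiv
    rw [h.card, nat_card_alternatingGroup, Nat.card_fin] at this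
    norm_num [Nat.factorial] at this
  · exact hM

/-- The order and the set of element counts determine the group. -/
theorem iso_of_nse {G : Type*} [Group G] [Finite G]
    (hcard : Nat.card G = Nat.card ↥Cfsg.Spor.M12)
    (hnse : {c : ℕ | 0 < c ∧ ∃ n : ℕ, c = Nat.card {g : G // orderOf g = n}} =
      {c : ℕ | 0 < c ∧ ∃ n : ℕ, c = Nat.card {g : ↥Cfsg.Spor.M12 // orderOf g = n}}) :
    Nonempty (G ≃* ↥Cfsg.Spor.M12) := by
  exact iso_of_data (data_of_hyp (hyp_of_nse hcard hnse))

end Cfsg.Agent.M12Nse51
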