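import Cfsg.Agent.Lib.M12Nse51CentHom

/-!
What the centraliser of order 240 gives about a central involution of a Sylow 2-subgroup.
-/

set_option autoImplicit false
set_option maxRecDepth 100000

namespace Cfsg.Agent.M12Nse51

open Equiv (Perm)

/-- the centre of a Sylow 2-subgroup of the symmetric group of degree five -/
def c0 : Perm (Fin 5) := Equiv.swap 0 2 * Equiv.swap 1 3

/-- a cycle of length four -/
def g0 : Perm (Fin 5) := Equiv.swap 0 1 * Equiv.swap 1 2 * Equiv.swap 2 3

/-- a transposition -/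
def r0 : Perm (Fin 5) := Equiv.swap 0 2

/-- an element of order three commuting with the transposition -/
def x0 : Perm (Fin 5) := Equiv.swap 1 3 * Equiv.swap 3 4

/-- a double transposition outside the centre -/
def r1 : Perm (Fin 5) := Equiv.swap 0 1 * Equiv.swap 2 3

theorem s5_facts :
    (Finset.univ.filter fun v : Perm (Fin 5) => v * c0 = c0 * v).card = 8 ∧
    (∀ v : Perm (Fin 5), v * g0 = g0 * v → v * r0 = r0 * v → v = 1 ∨ v = c0) ∧
    g0 * g0 = c0 ∧ g0 * c0 = c0 * g0 ∧ r0 * c0 = c0 * r0 ∧ r1 * c0 = c0 * r1 ∧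
    r0 * x0 = x0 * r0 ∧ x0 ^ 3 = 1 ∧ x0 ≠ 1 ∧ r0 * r0 = 1 ∧ c0 ≠ 1 ∧ c0 * c0 = 1 ∧ r1 ≠ c0 ∧
    (∃ u : Perm (Fin 5), u * c0 * u⁻¹ = r1) ∧
    (∀ v : Perm (Fin 5), v * v = 1 → v = 1 ∨
      (∃ u : Perm (Fin 5), u * c0 * u⁻¹ = v) ∨ (∃ u : Perm (Fin 5), u * r0 * u⁻¹ = v)) ∧
    (Finset.univ.filter fun v : Perm (Fin 5) => v ^ 3 = 1 ∧ v ≠ 1).card = 20 := by
  refine ⟨?_, ?_, ?_, ?_, ?_, ?_, ?_, ?_, ?_, ?_, ?_, ?_, ?_, ?_, ?_, ?_⟩ <;> decide +kernel

variable {G : Type*} [Group G] [Finite G]

/-- The facts used later. -/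
structure Pivot (S : Sylow 2 G) (s z g : G) : Prop where
  /-- the first involution -/
  smem : s ∈ (S : Subgroup G)
  /-- its order -/
  sord : orderOf s = 2
  /-- its centraliser -/
  scard : Nat.card (Subgroup.centralizer ({s} : Set G)) = 240
  /-- the central involution -/
  zmem : z ∈ (S : Subgroup G)
  /-- its order -/
  zord : orderOf z = 2
  /-- it is central -/
  zcent : ∀ a ∈ (S : Subgroup G), Commute a z
  /-- the element of order four -/
  gmem : g ∈ (S : Subgroup G)
  /-- it commutes with the first involution -/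
  gs : Commute g s
  /-- its order -/
  gord : orderOf g = 4
  /-- its square -/
  gsq : g * g = z
  /-- the product has order four -/
  gsord : orderOf (g * s) = 4
  /-- the common centraliser is a 2-group -/
  both : ∀ a : G, Commute a s → Commute a z → a ^ 16 = 1
  /-- elements of order three commuting with the first involution -/
  threes : Nat.card {a : G // Commute a s ∧ orderOf a = 3} = 20
  /-- two conjugates of the second in every subgroup of order 16 -/
  other : ∀ M : Subgroup G, Nat.card M = 16 → (∀ m ∈ M, Commute m s) →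
    ∃ u ∈ M, ∃ v ∈ M, u ≠ v ∧ IsConj z u ∧ IsConj z v

theorem exists_pivot (h : Data G) {s : G} (hs : orderOf s = 2)
    (hC : Nat.card (Subgroup.centralizer ({s} : Set G)) = 240) :
    ∃ (S : Sylow 2 G) (z g : G), Pivot S s z g := by
  classical
  haveI : Fact (Nat.Prime 2) := ⟨Nat.prime_two⟩
  haveI := Fintype.ofFinite G
  set C := Subgroup.centralizer ({s} : Set G) with hCdef
  obtain ⟨π, hsur, hker⟩ := exists_hom h hs hC
  obtain ⟨f8, fctr, fg2, fgc, frc, fr1c, frx, fx3, fx1, fr2, fc1, fc2, fr1, fconj, finv, f20⟩ :=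
    s5_facts
  have hs2 : s * s = 1 := by
    have := pow_orderOf_eq_one s
    rwa [hs, pow_two] at this
  have hs1 : s ≠ 1 := fun e => by rw [e, orderOf_one] at hs; omega
  let sC : C := ⟨s, mem_cent.2 (Commute.refl s)⟩
  have hπs : π sC = 1 := (hker sC).2 (Or.inr rfl)
  have hπ1 : ∀ a : C, π a = 1 → a = 1 ∨ a = sC := fun a ha =>
    ((hker a).1 ha).imp (fun e => Subtype.ext e) (fun e => Subtype.ext e)
  have hsC : ∀ a : C, a * sC = sC * a := fun a => Subtype.ext (mem_cent.1 a.2).eq
  have hsC1 : sC ≠ 1 := fun e => hs1 (congrArg Subtype.val e)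
  have hsC2 : sC * sC = 1 := Subtype.ext hs2
  have hsame : ∀ a b : C, π a = π b → b = a ∨ b = a * sC := by
    intro a b e
    rcases hπ1 (a⁻¹ * b) (by rw [map_mul, map_inv, e, inv_mul_cancel]) with q | q
    · exact Or.inl (inv_mul_eq_one.1 q).symm
    · exact Or.inr (by rw [← q, mul_inv_cancel_left])
  -- lifts of the element of order three
  have hx : ∀ v : Perm (Fin 5), v ^ 3 = 1 → ∃ a : C, π a = v ∧ a ^ 3 = 1 ∧
      ∀ b : C, π b = v → b ^ 3 = 1 → b = a := by
    intro v hv
    obtain ⟨a, ha⟩ := hsur v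
    have h3 : π (a ^ 3) = 1 := by rw [map_pow, ha, hv]
    have hcomm : Commute a sC := hsC a
    have huni : ∀ a b : C, π a = π b → a ^ 3 = 1 → b ^ 3 = 1 → b = a := by
      intro a b e ha3 hb3
      rcases hsame a b e with q | q
      · exact q
      · exfalso
        rw [q, (show Commute a sC from hsC a).mul_pow, ha3, one_mul] at hb3
        exact hsC1 (by rwa [pow_succ, pow_two, hsC2, one_mul] at hb3)
    rcases hπ1 _ h3 with q | q
    · exact ⟨a, ha, q, fun b hb hb3 => huni a b (ha.trans hb.symm) q hb3⟩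
    · have e : (a * sC) ^ 3 = 1 := by
        rw [hcomm.mul_pow, q, pow_succ, pow_two, hsC2, one_mul, hsC2]
      refine ⟨a * sC, by rw [map_mul, hπs, mul_one, ha], e, fun b hb hb3 => huni _ b ?_ e hb3⟩
      rw [map_mul, hπs, mul_one, ha, hb]
  -- lifts of the transposition are involutions
  have hr : ∀ a : C, π a = r0 → a * a = 1 := by
    intro a ha
    rcases hπ1 (a * a) (by rw [map_mul, ha, fr2]) with q | q
    · exact q
    exfalso
    obtain ⟨x, hxv, hx3, hxu⟩ := hx x0 fx3
    have hax : a * x * a⁻¹ = x := hxu _ (by rw [map_mul, map_mul, map_inv, ha, hxv, frx,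
      mul_inv_cancel_right]) (by rw [conj_pow, hx3, mul_one, mul_inv_cancel])
    have hx1 : x ≠ 1 := fun e => fx1 (by rw [← hxv, e, map_one])
    have ox : orderOf x = 3 := by
      haveI : Fact (Nat.Prime 3) := ⟨Nat.prime_three⟩
      exact orderOf_eq_prime hx3 hx1
    have oa : orderOf a = 4 := by
      refine orderOf_eq_prime_pow (p := 2) (n := 1) ?_ ?_
      · rw [pow_one, pow_two, q]; exact hsC1
      · rw [show (2 : ℕ) ^ (1 + 1) = 2 * 2 from rfl, pow_mul, pow_two, pow_two, q, hsC2]
    have := Commute.orderOf_mul_eq_mul_orderOf_of_coprime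
      (show Commute a x from mul_inv_eq_iff_eq_mul.1 hax) (by rw [oa, ox]; norm_num)
    rw [oa, ox, ← Subgroup.orderOf_coe] at this
    exact h.no12 _ this
  -- a Sylow 2-subgroup of the centraliser
  let M0 : Subgroup C := (Subgroup.centralizer ({c0} : Set (Perm (Fin 5)))).comap π
  have hcard8 : Nat.card (Subgroup.centralizer ({c0} : Set (Perm (Fin 5)))) = 8 := by
    rw [← f8, ← Fintype.card_subtype, ← Nat.card_eq_fintype_card]
    exact Nat.card_congr (Equiv.subtypeEquivRight fun v => Subgroup.mem_centralizer_singleton_iff)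
  have hkc : Nat.card π.ker = 2 := by
    have := Subgroup.card_eq_card_quotient_mul_card_subgroup π.ker
    rw [hC, Nat.card_congr (QuotientGroup.quotientKerEquivOfSurjective π hsur).toEquiv,
      Nat.card_eq_fintype_card (α := Perm (Fin 5)), Fintype.card_perm, Fintype.card_fin,
      show Nat.factorial 5 = 120 from rfl] at this
    omega
  have hM0 : Nat.card M0 = 16 := by
    have e := Subgroup.index_comap_of_surjective (Subgroup.centralizer ({c0} : Set (Perm (Fin 5)))) hsur
    have h1 := Subgroup.index_mul_card M0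
    have h2 := Subgroup.index_mul_card (Subgroup.centralizer ({c0} : Set (Perm (Fin 5))))
    rw [hC, e] at h1
    rw [hcard8, Nat.card_eq_fintype_card (α := Perm (Fin 5)), Fintype.card_perm, Fintype.card_fin,
      show Nat.factorial 5 = 120 from rfl] at h2
    have h15 : (Subgroup.centralizer ({c0} : Set (Perm (Fin 5)))).index = 15 := by omega
    rw [h15] at h1
    omega
  set M := M0.map C.subtype with hM
  have hMcard : Nat.card M = 16 := by
    rw [hM, ← Nat.card_congr (Subgroup.equivMapOfInjective _ _ C.subtype_injective).toEquiv, hM0]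
  obtain ⟨S, hMS⟩ := (IsPGroup.of_card (p := 2) (n := 4) (G := M) (by rw [hMcard]; rfl)).exists_le_sylow
  have hS64 : Nat.card ↥(S : Subgroup G) = 64 := by
    rw [S.card_eq_multiplicity, h.card, show (95040 : ℕ) = 2 ^ 6 * 1485 by norm_num,
      Nat.factorization_mul (by norm_num) (by norm_num), Finsupp.add_apply,
      Nat.Prime.factorization_pow Nat.prime_two, Finsupp.single_eq_same,
      Nat.factorization_eq_zero_of_not_dvd (by norm_num : ¬ 2 ∣ 1485)]
    norm_num
  have hSC : ∀ a : C, (a : G) ∈ (S : Subgroup G) → a ∈ M0 := by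
    intro a ha
    have heq : M = (S : Subgroup G) ⊓ C := by
      refine Subgroup.eq_of_le_of_card_ge (le_inf hMS (Subgroup.map_subtype_le _)) ?_
      rw [hMcard]
      have h1 : Nat.card ↥((S : Subgroup G) ⊓ C) ∣ 240 := hC ▸ Subgroup.card_dvd_of_le inf_le_right
      obtain ⟨k, hk⟩ := (IsPGroup.iff_card).1 (S.2.to_le (inf_le_left : (S : Subgroup G) ⊓ C ≤ S))
      rw [hk] at h1 ⊢
      have : k ≤ 4 := by
        by_contra hlt
        have := (pow_dvd_pow 2 (by omega : 5 ≤ k)).trans h1
        norm_num at this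
      exact Nat.pow_le_pow_right (by norm_num) this |>.trans_eq rfl
    obtain ⟨b, hb, hba⟩ := Subgroup.mem_map.1 (heq ▸ ⟨ha, a.2⟩ : (a : G) ∈ M)
    exact (C.subtype_injective hba) ▸ hb
  have hMmem : ∀ a : C, π a * c0 = c0 * π a → (a : G) ∈ (S : Subgroup G) := fun a ha =>
    hMS (Subgroup.mem_map.2 ⟨a, Subgroup.mem_centralizer_singleton_iff.2 ha, rfl⟩)
  have hsS : s ∈ (S : Subgroup G) := hMmem sC (by rw [hπs, one_mul, mul_one])
  -- the central involution
  haveI : Nontrivial ↥(S : Subgroup G) := Finite.one_lt_card_iff_nontrivial.1 (by rw [hS64]; norm_num)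
  have hz0 : ∃ z : Subgroup.center ↥(S : Subgroup G), orderOf z = 2 := by
    haveI := S.2.center_nontrivial
    obtain ⟨k, hk⟩ := (IsPGroup.iff_card).1 (S.2.to_subgroup (Subgroup.center ↥(S : Subgroup G)))
    refine exists_prime_orderOf_dvd_card' 2 ?_
    rcases k with _ | k
    · have := Finite.one_lt_card (α := Subgroup.center ↥(S : Subgroup G))
      omega
    · rw [hk, pow_succ]; exact dvd_mul_left _ _
  obtain ⟨⟨⟨z, hzS⟩, hzc⟩, hzo⟩ := hz0
  rw [Subgroup.orderOf_mk, Subgroup.orderOf_mk] at hzo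
  have hzcent : ∀ a ∈ (S : Subgroup G), Commute a z := fun a ha =>
    congrArg Subtype.val (Subgroup.mem_center_iff.1 hzc ⟨a, ha⟩)
  have hzs : ¬ IsConj s z := by
    intro q
    have h1 := card_class h s
    have h2 := card_class h z
    have e : Nat.card {x : G // IsConj s x} = Nat.card {x : G // IsConj z x} :=
      Nat.card_congr (Equiv.subtypeEquivRight fun x => ⟨fun r => q.symm.trans r, fun r => q.trans r⟩)
    have hd : Nat.card ↥(S : Subgroup G) ∣ Nat.card (Subgroup.centralizer ({z} : Set G)) :=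
      Subgroup.card_dvd_of_le fun a ha => mem_cent.2 (hzcent a ha)
    rw [hS64] at hd
    rw [e, hC] at h1
    have : Nat.card (Subgroup.centralizer ({z} : Set G)) = 240 :=
      Nat.eq_of_mul_eq_mul_left (Nat.pos_of_ne_zero fun e0 => by rw [e0] at h1; omega)
        (h2.trans h1.symm)
    rw [this] at hd
    norm_num at hd
  let zC : C := ⟨z, mem_cent.2 (hzcent s hsS).symm⟩
  have hzC2 : zC * zC = 1 := Subtype.ext (by
    have := pow_orderOf_eq_one z; rwa [hzo, pow_two] at this)
  obtain ⟨gC, hgC⟩ := hsur g0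
  obtain ⟨rC, hrC⟩ := hsur r0
  have hgS : (gC : G) ∈ (S : Subgroup G) := hMmem gC (by rw [hgC, fgc])
  have hrS : (rC : G) ∈ (S : Subgroup G) := hMmem rC (by rw [hrC, frc])
  have hπz : π zC = c0 := by
    have k1 : π zC * g0 = g0 * π zC := by
      rw [← hgC, ← map_mul, ← map_mul, show zC * gC = gC * zC from Subtype.ext (hzcent _ hgS).symm.eq]
    have k2 : π zC * r0 = r0 * π zC := by
      rw [← hrC, ← map_mul, ← map_mul, show zC * rC = rC * zC from Subtype.ext (hzcent _ hrS).symm.eq]
    rcases fctr _ k1 k2 with q | q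
    · exfalso
      rcases hπ1 _ q with r | r
      · have : z = 1 := congrArg Subtype.val r
        rw [this, orderOf_one] at hzo; omega
      · exact hzs (by rw [show z = s from congrArg Subtype.val r])
    · exact q
  -- all lifts of involutions are involutions
  have hinv : ∀ a : C, π a * π a = 1 → a * a = 1 := by
    intro a ha
    rcases finv _ ha with q | ⟨u, hu⟩ | ⟨u, hu⟩
    · rcases hπ1 a q with r | r <;> rw [r]
      · exact one_mul _
      · exact hsC2
    · obtain ⟨w, hw⟩ := hsur u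
      have e : π (w * zC * w⁻¹) = π a := by rw [map_mul, map_mul, map_inv, hw, hπz, hu]
      have hb : (w * zC * w⁻¹) * (w * zC * w⁻¹) = 1 := by
        rw [show w * zC * w⁻¹ * (w * zC * w⁻¹) = w * (zC * zC) * w⁻¹ by group, hzC2, mul_one,
          mul_inv_cancel]
      rcases hsame _ a e with r | r <;> rw [r]
      · exact hb
      · rw [(show Commute (w * zC * w⁻¹) sC from hsC _).symm.mul_mul_mul_comm, hb, hsC2, one_mul]
    · obtain ⟨w, hw⟩ := hsur u
      have hb : π (w⁻¹ * a * w) = r0 := by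
        rw [map_mul, map_mul, map_inv, hw, ← hu]; group
      have := hr _ hb
      rw [show w⁻¹ * a * w * (w⁻¹ * a * w) = w⁻¹ * (a * a) * w by group] at this
      calc a * a = w * (w⁻¹ * (a * a) * w) * w⁻¹ := by group
        _ = 1 := by rw [this, mul_one, mul_inv_cancel]
  have hgz : gC * gC = zC ∨ gC * gC = zC * sC := hsame zC _ (by rw [map_mul, hgC, fg2, hπz])
  have hzsC2 : zC * sC * (zC * sC) = 1 := by
    rw [(show Commute zC sC from hsC zC).symm.mul_mul_mul_comm, hzC2, hsC2, one_mul]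
  have hg4 : gC * gC * (gC * gC) = 1 := by
    rcases hgz with q | q <;> rw [q]
    · exact hzC2
    · exact hzsC2
  -- the square is central
  have hsq : gC * gC = zC := by
    rcases hgz with q | q
    · exact q
    exfalso
    have hlt : M < (S : Subgroup G) := lt_of_le_of_ne hMS (fun e => by
      rw [e, hS64] at hMcard; omega)
    have hlt' : M.subgroupOf (S : Subgroup G) < ⊤ := by
      rw [lt_top_iff_ne_top, Ne, Subgroup.subgroupOf_eq_top]
      exact not_le_of_gt hlt
    haveI := S.2.isNilpotent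
    obtain ⟨⟨n, hnS⟩, hnN, hnM⟩ := SetLike.exists_of_lt
      (normalizerCondition_of_isNilpotent _ hlt')
    have hnM' : n ∉ M := fun e => hnM (Subgroup.mem_subgroupOf.2 e)
    have hconj : ∀ a : G, a ∈ M → n⁻¹ * a * n ∈ M := by
      intro a ha
      have := (Subgroup.mem_normalizer_iff''.1 hnN ⟨a, hMS ha⟩).1 (Subgroup.mem_subgroupOf.2 ha)
      simpa [Subgroup.mem_subgroupOf] using this
    have hmemC : ∀ a : G, a ∈ M → a ∈ C := fun a ha => Subgroup.map_subtype_le _ ha
    have hnC : n ∉ C := fun e => hnM' (Subgroup.mem_map.2 ⟨⟨n, e⟩, hSC ⟨n, e⟩ hnS, rfl⟩)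
    have hMin : ∀ a : C, π a * c0 = c0 * π a → (a : G) ∈ M := fun a ha =>
      Subgroup.mem_map.2 ⟨a, Subgroup.mem_centralizer_singleton_iff.2 ha, rfl⟩
    have hsM : n⁻¹ * s * n ∈ M := hconj s (hMin sC (by rw [hπs, one_mul, mul_one]))
    let s' : C := ⟨n⁻¹ * s * n, hmemC _ hsM⟩
    -- the conjugate of the first involution is central in the subgroup
    have hcm : ∀ a : C, π a * c0 = c0 * π a → a * s' = s' * a := by
      intro a ha
      refine Subtype.ext ?_
      show (a : G) * (n⁻¹ * s * n) = n⁻¹ * s * n * a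
      have hb : n * a * n⁻¹ ∈ M := by
        have := (Subgroup.mem_normalizer_iff.1 hnN ⟨a, hMS (hMin a ha)⟩).1
          (Subgroup.mem_subgroupOf.2 (hMin a ha))
        simpa [Subgroup.mem_subgroupOf] using this
      have hc : Commute (n * a * n⁻¹) s := mem_cent.1 (hmemC _ hb)
      calc (a : G) * (n⁻¹ * s * n) = n⁻¹ * ((n * a * n⁻¹) * s) * n := by group
        _ = n⁻¹ * (s * (n * a * n⁻¹)) * n := by rw [hc.eq]
        _ = n⁻¹ * s * n * a := by group
    have k1 : π s' * g0 = g0 * π s' := by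
      rw [← hgC, ← map_mul, ← map_mul, hcm gC (by rw [hgC, fgc])]
    have k2 : π s' * r0 = r0 * π s' := by
      rw [← hrC, ← map_mul, ← map_mul, hcm rC (by rw [hrC, frc])]
    have hzn : n⁻¹ * z * n = z := by rw [mul_assoc, ← (hzcent n hnS).eq, inv_mul_cancel_left]
    have hs'eq : n⁻¹ * s * n = z * s := by
      rcases fctr _ k1 k2 with r | r
      · exfalso
        rcases hπ1 _ r with w | w
        · have e : n⁻¹ * s * n = 1 := congrArg Subtype.val w
          exact hs1 (by
            calc s = n * (n⁻¹ * s * n) * n⁻¹ := by group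
              _ = 1 := by rw [e, mul_one, mul_inv_cancel])
        · have e : n⁻¹ * s * n = s := congrArg Subtype.val w
          refine hnC (mem_cent.2 ?_)
          show n * s = s * n
          calc n * s = n * (n⁻¹ * s * n) := by rw [e]
            _ = s * n := by group
      · rcases hsame zC s' (by rw [hπz, r]) with w | w
        · exfalso
          have e : n⁻¹ * s * n = z := congrArg Subtype.val w
          exact hzs (isConj_iff.2 ⟨n⁻¹, by rw [inv_inv]; exact e⟩)
        · exact congrArg Subtype.val w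
    have hgg : (gC : G) * gC = z * s := congrArg Subtype.val q
    have hgM : n⁻¹ * (gC : G) * n ∈ M := hconj _ (hMin gC (by rw [hgC, fgc]))
    let g' : C := ⟨n⁻¹ * (gC : G) * n, hmemC _ hgM⟩
    have hg' : g' * g' = sC := by
      refine Subtype.ext ?_
      show n⁻¹ * (gC : G) * n * (n⁻¹ * gC * n) = s
      calc n⁻¹ * (gC : G) * n * (n⁻¹ * gC * n) = n⁻¹ * ((gC : G) * gC) * n := by group
        _ = n⁻¹ * (z * s) * n := by rw [hgg]
        _ = (n⁻¹ * z * n) * (n⁻¹ * s * n) := by group
        _ = z * (z * s) := by rw [hzn, hs'eq]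
        _ = s := by rw [← mul_assoc, show z * z = 1 from congrArg Subtype.val hzC2, one_mul]
    have := hinv g' (by rw [← map_mul, hg', hπs])
    rw [hg'] at this
    exact hsC1 this
  -- two conjugates in the Sylow subgroup of the centraliser
  obtain ⟨u, hu⟩ := fconj
  obtain ⟨w, hw⟩ := hsur u
  have hv : π (w * zC * w⁻¹) = r1 := by rw [map_mul, map_mul, map_inv, hw, hπz, hu]
  refine ⟨S, z, gC, hsS, hs, hC, hzS, hzo, hzcent, hgS, mem_cent.1 gC.2, ?_, congrArg Subtype.val hsq,
    ?_, ?_, ?_, ?_⟩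
  · refine orderOf_eq_prime_pow (p := 2) (n := 1) ?_ ?_
    · rw [pow_one, pow_two]
      intro e
      have : z = 1 := (congrArg Subtype.val hsq).symm.trans e
      rw [this, orderOf_one] at hzo; omega
    · rw [show (2 : ℕ) ^ (1 + 1) = 2 * 2 from rfl, pow_mul, pow_two, pow_two]
      exact congrArg Subtype.val hg4
  · have hc : Commute (gC : G) s := mem_cent.1 gC.2
    have e : (gC : G) * s * (gC * s) = z := by
      rw [hc.symm.mul_mul_mul_comm, hs2, mul_one, show (gC : G) * gC = z from congrArg Subtype.val hsq]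
    refine orderOf_eq_prime_pow (p := 2) (n := 1) ?_ ?_
    · rw [pow_one, pow_two, e]
      intro q
      rw [q, orderOf_one] at hzo; omega
    · rw [show (2 : ℕ) ^ (1 + 1) = 2 * 2 from rfl, pow_mul, pow_two, pow_two, e]
      exact congrArg Subtype.val hzC2
  · intro a has haz
    have hmem : (⟨a, mem_cent.2 has⟩ : C) ∈ M0 := by
      refine Subgroup.mem_centralizer_singleton_iff.2 ?_
      rw [← hπz, ← map_mul, ← map_mul, show (⟨a, mem_cent.2 has⟩ : C) * zC = zC * ⟨a, mem_cent.2 has⟩
        from Subtype.ext haz.eq]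
    have := pow_card_eq_one' (x := (⟨_, hmem⟩ : M0))
    rw [hM0] at this
    exact congrArg (fun v : M0 => ((v : C) : G)) this
  · rw [← f20, ← Fintype.card_subtype, ← Nat.card_eq_fintype_card]
    have e3 : ∀ a : {a : G // Commute a s ∧ orderOf a = 3}, (⟨a.1, mem_cent.2 a.2.1⟩ : C) ^ 3 = 1 :=
      fun a => Subtype.ext (show a.1 ^ 3 = 1 by
        have := pow_orderOf_eq_one a.1
        rwa [a.2.2] at this)
    let f : {a : G // Commute a s ∧ orderOf a = 3} → {v : Perm (Fin 5) // v ^ 3 = 1 ∧ v ≠ 1} :=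
      fun a => ⟨π ⟨a.1, mem_cent.2 a.2.1⟩, by rw [← map_pow, e3, map_one], fun q => by
        have h3 := e3 a
        rcases hπ1 _ q with r | r
        · have : a.1 = 1 := congrArg Subtype.val r
          have := a.2.2
          simp_all
        · rw [r, pow_succ, pow_two, hsC2, one_mul] at h3
          exact hsC1 h3⟩
    refine Nat.card_congr (Equiv.ofBijective f ⟨?_, ?_⟩)
    · rintro ⟨a, ha, ha3⟩ ⟨b, hb, hb3⟩ e
      obtain ⟨c, hcv, hc3, hcu⟩ := hx (π (⟨a, mem_cent.2 ha⟩ : C)) (by
        rw [← map_pow, e3 ⟨a, ha, ha3⟩, map_one])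
      have q1 := hcu ⟨a, mem_cent.2 ha⟩ rfl (e3 ⟨a, ha, ha3⟩)
      have q2 := hcu ⟨b, mem_cent.2 hb⟩ (congrArg Subtype.val e).symm (e3 ⟨b, hb, hb3⟩)
      exact Subtype.ext (congrArg Subtype.val (q1.trans q2.symm) :)
    · rintro ⟨v, hv3, hv1⟩
      obtain ⟨c, hcv, hc3, -⟩ := hx v hv3
      haveI : Fact (Nat.Prime 3) := ⟨Nat.prime_three⟩
      refine ⟨⟨c.1, mem_cent.1 c.2, ?_⟩, Subtype.ext hcv⟩
      rw [Subgroup.orderOf_coe]
      exact orderOf_eq_prime hc3 fun q => hv1 (by rw [← hcv, q, map_one])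
  · intro M' hM' hM's
    have hle : M' ≤ C := fun m hm => mem_cent.2 (hM's m hm)
    have hc : Nat.card (M'.subgroupOf C) = 16 := by
      rw [Nat.card_congr (Subgroup.subgroupOfEquivOfLe hle).toEquiv, hM']
    have hf : (Nat.card C).factorization 2 = 4 := by
      rw [hC, show (240 : ℕ) = 2 ^ 4 * 15 by norm_num, Nat.factorization_mul (by norm_num) (by norm_num),
        Finsupp.add_apply, Nat.Prime.factorization_pow Nat.prime_two, Finsupp.single_eq_same,
        Nat.factorization_eq_zero_of_not_dvd (by norm_num : ¬ 2 ∣ 15)]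
    let P0 : Sylow 2 C := Sylow.ofCard M0 (by rw [hM0, hf]; rfl)
    let P1 : Sylow 2 C := Sylow.ofCard (M'.subgroupOf C) (by rw [hc, hf]; rfl)
    obtain ⟨c, hc'⟩ := MulAction.exists_smul_eq C P0 P1
    have key : ∀ a : C, π a * c0 = c0 * π a → (c * a * c⁻¹ : C).1 ∈ M' := by
      intro a ha
      have e : c * a * c⁻¹ ∈ (P1 : Subgroup C) := by
        rw [← hc', Sylow.coe_subgroup_smul]
        exact ⟨a, Subgroup.mem_centralizer_singleton_iff.2 ha, rfl⟩
      exact Subgroup.mem_subgroupOf.1 e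
    refine ⟨_, key zC (by rw [hπz]), _, key (w * zC * w⁻¹) (by rw [hv, fr1c]), ?_, ?_, ?_⟩
    · intro e
      have e0 : c * zC * c⁻¹ = c * (w * zC * w⁻¹) * c⁻¹ := Subtype.ext e
      have e' : zC = w * zC * w⁻¹ := mul_left_cancel (mul_right_cancel e0)
      exact fr1 (by rw [← hv, ← e', hπz])
    · exact isConj_iff.2 ⟨c.1, rfl⟩
    · exact isConj_iff.2 ⟨c.1 * w.1, by
        show c.1 * w.1 * z * (c.1 * w.1)⁻¹ = c.1 * (w.1 * z * w.1⁻¹) * c.1⁻¹
        group⟩

end Cfsg.Agent.M12Nse51
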