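import Mathlib

/-!
Interface for groups of order 95040: the principal 11-block and the finite data read from it.
-/

set_option autoImplicit false

namespace Cfsg.Agent.M12Ord40

/-- Five integers: four non-exceptional entries and the common entry of the exceptional pair. -/
abbrev Vec := ℤ × ℤ × ℤ × ℤ × ℤ

/-- Coordinates of a vector. -/
def cmp : Fin 5 → Vec → ℤ
  | 0, (a, _, _, _, _) => a
  | 1, (_, b, _, _, _) => b
  | 2, (_, _, c, _, _) => c
  | 3, (_, _, _, d, _) => d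
  | 4, (_, _, _, _, w) => w

/-- The possible degrees and signs. -/
def rows : List (Vec × Vec) :=
  [
    ((10, 10, 10, 45, 16), (-1, -1, -1, 1, -1)),
    ((10, 10, 12, 12, 5), (-1, -1, 1, 1, -1)),
    ((10, 10, 32, 45, 6), (-1, -1, -1, 1, 1)),
    ((10, 10, 120, 144, 5), (-1, -1, -1, 1, -1)),
    ((10, 12, 12, 12, 27), (-1, 1, 1, 1, -1)),
    ((10, 12, 12, 45, 60), (-1, 1, 1, 1, -1)),
    ((10, 12, 32, 45, 16), (-1, 1, -1, 1, -1)),
    ((10, 12, 45, 54, 6), (-1, 1, 1, -1, 1)),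
    ((10, 12, 45, 120, 72), (-1, 1, 1, -1, 1)),
    ((10, 12, 120, 144, 27), (-1, 1, -1, 1, -1)),
    ((10, 45, 45, 54, 27), (-1, 1, 1, -1, -1)),
    ((10, 45, 54, 54, 72), (-1, 1, -1, -1, 1)),
    ((10, 45, 120, 144, 60), (-1, 1, -1, 1, -1)),
    ((10, 54, 54, 144, 27), (-1, -1, -1, 1, -1)),
    ((12, 12, 12, 32, 5), (1, 1, 1, -1, -1)),
    ((12, 12, 45, 54, 16), (1, 1, 1, -1, -1)),
    ((12, 32, 32, 45, 6), (1, -1, -1, 1, 1)),
    ((12, 32, 120, 144, 5), (1, -1, -1, 1, -1)),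
    ((32, 32, 45, 45, 27), (-1, -1, 1, 1, -1)),
    ((32, 32, 45, 54, 72), (-1, -1, 1, -1, 1)),
    ((32, 32, 54, 144, 27), (-1, -1, -1, 1, -1)),
    ((32, 45, 45, 54, 5), (-1, 1, 1, -1, -1)),
    ((32, 45, 54, 120, 160), (-1, 1, -1, -1, 1)),
    ((32, 54, 54, 144, 5), (-1, -1, -1, 1, -1)),
    ((45, 45, 45, 120, 16), (1, 1, 1, -1, -1)),
    ((45, 54, 120, 144, 16), (1, -1, -1, 1, -1))
  ]

/-- The signed sum of the entries. -/
def relSum (σ v : Vec) : ℤ :=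
  1 + ∑ i : Fin 5, cmp i σ * cmp i v

/-- The squared length, the exceptional entry twice. -/
def normSum (v : Vec) : ℤ :=
  1 + (∑ i : Fin 5, cmp i v ^ 2) + cmp 4 v ^ 2

/-- `95040` times the class product sum at an element of order eleven. -/
def pairSum (D σ u v : Vec) : ℤ :=
  95040 + ∑ i : Fin 5, cmp i σ * cmp i u * cmp i v * (95040 / cmp i D)

/-- The centraliser order. -/
noncomputable abbrev cc {G : Type*} [Group G] (g : G) : ℕ :=
  Nat.card (Subgroup.centralizer ({g} : Set G))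

/-- What is known at the prime eleven. -/
structure Eleven (G : Type*) [Group G] : Prop where
  simple : IsSimpleGroup G
  card : Nat.card G = 95040
  cent : ∀ x : G, orderOf x = 11 → cc x = 11
  norm : ∀ x : G, orderOf x = 11 →
    Nat.card (Subgroup.normalizer (Subgroup.zpowers x : Set G)) = 55

/-- The principal 11-block, as integer data on the elements of order prime to eleven. -/
structure Blk (G : Type*) [Group G] [Fintype G] where
  D : Vec
  σ : Vec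
  val : G → Vec
  eleven : Eleven G
  row : (D, σ) ∈ rows
  one : val 1 = D
  conj : ∀ g h : G, val (h * g * h⁻¹) = val g
  rel : ∀ g : G, ¬ 11 ∣ orderOf g → relSum σ (val g) = 0
  cent : ∀ g : G, ¬ 11 ∣ orderOf g → normSum (val g) ≤ (cc g : ℤ)
  cls : ∀ g : G, ¬ 11 ∣ orderOf g → ∀ i : Fin 5,
    cmp i D ∣ ((95040 / cc g : ℕ) : ℤ) * cmp i (val g)
  congr : ∀ (g h : G) (p : ℕ), p.Prime → p ≠ 11 → ¬ 11 ∣ orderOf g → Commute g h →
    (∃ k : ℕ, orderOf h = p ^ k) → ∀ i : Fin 5, cmp i (val (g * h)) ≡ cmp i (val g) [ZMOD p]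
  eig : ∀ (g : G) (p : ℕ), p.Prime → p ≠ 11 → orderOf g = p → ∀ i : Fin 5,
    (p : ℤ) ∣ cmp i D + ((p : ℤ) - 1) * cmp i (val g) ∧ 0 ≤ cmp i D + ((p : ℤ) - 1) * cmp i (val g)
  four : ∀ g : G, orderOf g = 2 → ∀ i : Fin 5, (4 : ℤ) ∣ cmp i D - cmp i (val g)
  count : ∀ g h : G, ¬ 11 ∣ orderOf g → ¬ 11 ∣ orderOf h →
    ∃ a : ℕ, (a : ℤ) * cc g * cc h = pairSum D σ (val g) (val h)
  invs : ∀ g h : G, orderOf g = 2 → orderOf h = 2 → pairSum D σ (val g) (val h) = 0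
  total : Nat.card {g : G // ¬ 11 ∣ orderOf g} = 77760
  moment1 : ∀ i : Fin 5, i ≠ 4 →
    ∑ g ∈ (Finset.univ.filter fun g : G => ¬ 11 ∣ orderOf g), cmp i (val g) = -17280 * cmp i σ
  moment2 : ∀ i j : Fin 5, i ≠ 4 → j ≠ 4 →
    ∑ g ∈ (Finset.univ.filter fun g : G => ¬ 11 ∣ orderOf g), cmp i (val g) * cmp j (val g) =
      (if i = j then 95040 else 0) - 17280 * (cmp i σ * cmp j σ)
  squares : ∀ i : Fin 5, i ≠ 4 → ∃ ν : ℤ, -1 ≤ ν ∧ ν ≤ 1 ∧
    (∑ g ∈ (Finset.univ.filter fun g : G => ¬ 11 ∣ orderOf g), cmp i (val (g * g))) +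
      17280 * cmp i σ = ν * 95040

/-- The degrees of the Mathieu group of degree twelve. -/
def m12D : Vec := (45, 54, 120, 144, 16)

/-- Their signs. -/
def m12S : Vec := (1, -1, -1, 1, -1)

/-- The twenty-one admissible vectors. -/
def vecList : List Vec :=
  [(-1, 0, 0, 0, 0), (0, 0, 1, 0, 0), (0, 1, 0, 0, 0), (0, 0, 0, 0, 1), (0, -1, 0, -1, 1),
   (0, 0, 0, -1, 0), (0, 1, 0, -1, -1), (-1, 0, 0, 1, 1), (1, 0, 0, -1, 1), (0, -1, 2, 0, 0),
   (1, 2, 0, 0, 0), (1, 0, 2, -1, -1), (-3, -2, 0, 0, 0), (0, 0, 3, 0, -2), (-1, 0, 0, -2, -2),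
   (0, 3, -2, 0, 0), (3, 0, 0, -3, 1), (3, 0, 4, 0, 0), (0, -3, 0, -6, -2), (5, 6, 0, 4, 4),
   (-3, 6, -8, 0, 0)]

/-- What the search says about special elements. -/
structure Search {G : Type*} [Group G] [Fintype G] (B : Blk G) : Prop where
  deg : B.D = m12D ∧ B.σ = m12S
  invol : ∀ g : G, orderOf g = 2 →
    (cc g = 192 ∧ B.val g = (-3, 6, -8, 0, 0)) ∨
      ((cc g = 120 ∨ cc g = 240) ∧ B.val g = (5, 6, 0, 4, 4))
  three : ∀ g : G, orderOf g = 3 → (cc g ∣ 54 ∨ cc g ∣ 36) ∧ 9 ∣ cc g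
  five : ∀ g : G, orderOf g = 5 → cc g = 10 ∧ B.val g = (0, -1, 0, -1, 1)
  central : ∃ g : G, orderOf g = 2 ∧ cc g = 192

/-- The multiplicities of the admissible vectors. -/
structure Census {G : Type*} [Group G] [Fintype G] (B : Blk G) : Prop where
  search : Search B
  mem : ∀ g : G, g ≠ 1 → ¬ 11 ∣ orderOf g → B.val g ∈ vecList
  number : ∀ v ∈ vecList,
    Nat.card {g : G // g ≠ 1 ∧ ¬ 11 ∣ orderOf g ∧ B.val g = v} =
      (([23760, 15840, 0, 0, 9504, 0, 9504, 7920, 0, 0, 5940, 0, 0, 1760, 0, 0, 2640, 0, 0, 396,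
        495] : List ℕ).getD (vecList.idxOf v) 0)

end Cfsg.Agent.M12Ord40
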