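import Cfsg.Agent.Lib.M12Nse51Main

/-!
M12 from the facts on the element counts: see `Cfsg.Agent.M12Nse51.iso_of_data`.
-/
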