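import Cfsg.Agent.Lib.M12Ord47SwapSearch
import Cfsg.Agent.Lib.SimpleOrderCheck

/-!
In a group of order 95040 no two conjugate characters of the principal 11-block can be exchanged:
the finite search applied to involutions and to elements of order three and five.
-/

set_option autoImplicit false

namespace Cfsg.Agent.M12Ord47

open Cfsg.Agent

theorem lt_width {r B : ℕ} (h : r * r ≤ B) (hr : r < 135) : r < width B := by
  have h1 : (List.range (r + 1)).countP (fun k => decide (k * k ≤ B)) =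
      (List.range (r + 1)).length := List.countP_eq_length.2 fun a ha => by
    rw [List.mem_range] at ha
    exact decide_eq_true ((Nat.mul_le_mul (by omega) (by omega)).trans h)
  have hsub : List.Sublist (List.range (r + 1)) (List.range 135) :=
    List.range_sublist.2 (by omega)
  have h2 := hsub.countP_le (p := fun k => decide (k * k ≤ B))
  rw [h1, List.length_range] at h2
  exact h2

theorem mem_coords {C B : ℕ} {p m d x e : ℤ} (hB : B < 135 * 135) (h : okc C B p m d x e = true) :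
    x ∈ coords C B p m d e := by
  have hx : x * x ≤ (B : ℤ) := by
    by_cases hm : m = 0
    · simp [okc, hm] at h
      simp [h]
    · simp [okc, hm] at h
      exact h.1
  have hn : x.natAbs * x.natAbs ≤ B := by
    have e0 := Int.natAbs_mul_self (a := x)
    omega
  have hr : x.natAbs < 135 := by nlinarith
  have hw := lt_width hn hr
  simp only [coords, List.mem_filter, List.mem_map, List.mem_range]
  exact ⟨⟨(x + ((width B : ℤ) - 1)).toNat, by omega, by omega⟩, h⟩

theorem sigma_four {D σ : M12Ord40.Vec} (h : (D, σ) ∈ M12Ord40.rows) :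
    M12Ord40.cmp 4 σ * M12Ord40.cmp 4 σ = 1 := by
  have key : M12Ord40.rows.all
      (fun r => decide (M12Ord40.cmp 4 r.2 * M12Ord40.cmp 4 r.2 = 1)) = true := by
    decide +kernel
  exact of_decide_eq_true (List.all_eq_true.1 key _ h)

theorem mem_vecs {D σ v : M12Ord40.Vec} {C B : ℕ} {p e : ℤ} {m : Fin 5 → ℤ}
    (hB : B < 135 * 135) (hσ : M12Ord40.cmp 4 σ * M12Ord40.cmp 4 σ = 1)
    (hrel : M12Ord40.relSum σ v = 0)
    (h : ∀ k : Fin 5, okc C B p (m k) (M12Ord40.cmp k D) (M12Ord40.cmp k v) e = true) :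
    v ∈ vecs D σ C B p e m := by
  obtain ⟨a, b, c, d, w⟩ := v
  rw [relSum_eq] at hrel
  obtain ⟨s0, s1, s2, s3, s4⟩ := σ
  simp only [rsum] at hrel
  simp only [M12Ord40.cmp] at hσ
  have hw : w = -s4 * (1 + (s0 * a + s1 * b + s2 * c + s3 * d)) := by
    linear_combination s4 * hrel - w * hσ
  have ha := mem_coords hB (h 0)
  have hb := mem_coords hB (h 1)
  have hc := mem_coords hB (h 2)
  have hd := mem_coords hB (h 3)
  have h4 := h 4
  simp only [M12Ord40.cmp] at ha hb hc hd h4
  simp only [vecs, List.mem_flatMap, List.mem_filterMap]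
  refine ⟨a, ha, b, hb, c, hc, d, hd, ?_⟩
  subst hw
  exact if_pos h4

theorem sq_le_nsum (v : M12Ord40.Vec) (k : Fin 5) :
    M12Ord40.cmp k v * M12Ord40.cmp k v ≤ nsum v := by
  obtain ⟨a, b, c, d, w⟩ := v
  fin_cases k <;>
    simp [M12Ord40.cmp, nsum] <;>
    nlinarith [mul_self_nonneg a, mul_self_nonneg b, mul_self_nonneg c, mul_self_nonneg d,
      mul_self_nonneg w]

theorem sq_add_le_nsum (v : M12Ord40.Vec) {i k : Fin 5} (h : k ≠ i) :
    M12Ord40.cmp k v * M12Ord40.cmp k v + M12Ord40.cmp i v * M12Ord40.cmp i v ≤ nsum v := by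
  obtain ⟨a, b, c, d, w⟩ := v
  fin_cases k <;> fin_cases i <;>
    first
      | exact absurd rfl h
      | (simp [M12Ord40.cmp, nsum] <;>
          nlinarith [mul_self_nonneg a, mul_self_nonneg b, mul_self_nonneg c, mul_self_nonneg d,
            mul_self_nonneg w])

theorem mem_slotPairs : ∀ i j : Fin 5, i ≠ j → i ≠ 4 → j ≠ 4 → (i, j) ∈ slotPairs := by
  decide

variable {G : Type*} [Group G] [Fintype G]

theorem cc_dvd_8640 (E : M12Ord40.Eleven G) {g : G} (hg : g ≠ 1) (h11 : ¬ 11 ∣ orderOf g) :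
    M12Ord40.cc g ∣ 8640 := by
  have : Fact (Nat.Prime 11) := ⟨by norm_num⟩
  have hn : ¬ 11 ∣ M12Ord40.cc g := by
    intro h
    obtain ⟨⟨x, hx⟩, hx11⟩ := exists_prime_orderOf_dvd_card'
      (G := Subgroup.centralizer ({g} : Set G)) 11 h
    rw [Subgroup.orderOf_mk] at hx11
    have hgx : g ∈ Subgroup.centralizer ({x} : Set G) :=
      Subgroup.mem_centralizer_singleton_iff.2 (Subgroup.mem_centralizer_singleton_iff.1 hx).symm
    have h2 : orderOf g ∣ 11 := E.cent x hx11 ▸ Subgroup.orderOf_dvd_natCard _ hgx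
    rcases (Nat.dvd_prime (by norm_num)).1 h2 with e | e
    · exact hg (orderOf_eq_one_iff.1 e)
    · exact h11 (e ▸ dvd_rfl)
  have h : M12Ord40.cc g ∣ 8640 * 11 := by
    have := Subgroup.card_subgroup_dvd_card (Subgroup.centralizer ({g} : Set G))
    rw [E.card] at this
    exact this
  exact ((Nat.Prime.coprime_iff_not_dvd (by norm_num)).2 hn).symm.dvd_of_dvd_mul_right h

theorem orders_mem {C : ℕ} (h : C ∣ 8640) :
    (64 ∣ C → C ∈ centralOrders) ∧ (10 ∣ C → C ∈ fiveInvOrders) ∧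
      (15 ∣ C → C ∈ threeOrders) := by
  have key : ((List.range 8641).all fun C => !(decide (8640 % C = 0)) ||
      ((decide (C % 64 ≠ 0) || decide (C ∈ centralOrders)) &&
        (decide (C % 10 ≠ 0) || decide (C ∈ fiveInvOrders)) &&
        (decide (C % 15 ≠ 0) || decide (C ∈ threeOrders)))) = true := by
    decide +kernel
  have h0 := List.all_eq_true.1 key C
    (List.mem_range.2 (Nat.lt_succ_of_le (Nat.le_of_dvd (by norm_num) h)))
  simp only [Nat.mod_eq_zero_of_dvd h, decide_true, Bool.not_true, Bool.false_or,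
    Bool.and_eq_true, Bool.or_eq_true, decide_eq_true_eq, ne_eq] at h0
  exact ⟨fun hd => h0.1.1.resolve_left (fun e => e (Nat.mod_eq_zero_of_dvd hd)),
    fun hd => h0.1.2.resolve_left (fun e => e (Nat.mod_eq_zero_of_dvd hd)),
    fun hd => h0.2.resolve_left (fun e => e (Nat.mod_eq_zero_of_dvd hd))⟩

theorem exists_central (E : M12Ord40.Eleven G) :
    ∃ s : G, orderOf s = 2 ∧ 64 ∣ M12Ord40.cc s := by
  have : Fact (Nat.Prime 2) := ⟨Nat.prime_two⟩
  obtain ⟨P⟩ : Nonempty (Sylow 2 G) := inferInstance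
  have hP : Nat.card ↥(P : Subgroup G) = 2 ^ 6 :=
    SimpleOrder.sylow_card_of_eq (m := 1485) (by rw [E.card]; norm_num) (by norm_num) P
  have : Nontrivial ↥(P : Subgroup G) := Finite.one_lt_card_iff_nontrivial.1 (by rw [hP]; norm_num)
  have : Nontrivial (Subgroup.center ↥(P : Subgroup G)) := P.2.center_nontrivial
  obtain ⟨k, hk⟩ := (P.2.to_subgroup (Subgroup.center ↥(P : Subgroup G))).exists_card_eq
  have h2 : 2 ∣ Nat.card (Subgroup.center ↥(P : Subgroup G)) := by
    have h1 : 1 < Nat.card (Subgroup.center ↥(P : Subgroup G)) := Finite.one_lt_card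
    rw [hk] at h1 ⊢
    rcases k with _ | k
    · simp at h1
    · exact dvd_pow_self 2 (Nat.succ_ne_zero k)
  obtain ⟨s, hs⟩ := exists_prime_orderOf_dvd_card' 2 h2
  refine ⟨((s : ↥(P : Subgroup G)) : G), by rw [Subgroup.orderOf_coe, Subgroup.orderOf_coe, hs], ?_⟩
  have hle : (P : Subgroup G) ≤ Subgroup.centralizer ({((s : ↥(P : Subgroup G)) : G)} : Set G) := by
    intro x hx
    exact Subgroup.mem_centralizer_singleton_iff.2
      (congrArg Subtype.val (Subgroup.mem_center_iff.1 s.2 ⟨x, hx⟩))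
  have := Subgroup.card_dvd_of_le hle
  rw [hP] at this
  exact this

theorem five_mem (E : M12Ord40.Eleven G) {y : G} (hy : orderOf y = 5) :
    M12Ord40.cc y ∈ fiveOrders := by
  have : Fact (Nat.Prime 5) := ⟨Nat.prime_five⟩
  have : IsSimpleGroup G := E.simple
  have hG : ¬ IsMulCommutative G :=
    SimpleOrder.not_comm_of_not_prime (by rw [E.card]; norm_num)
  have hPc : ∀ P : Sylow 5 G, Nat.card ↥(P : Subgroup G) = 5 := fun P =>
    SimpleOrderCheck.sylow_card_of_once (by rw [E.card]) (by rw [E.card]; norm_num) P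
  obtain ⟨P, hle⟩ := (IsPGroup.of_card (G := ↥(Subgroup.zpowers y)) (p := 5) (n := 1)
    (by rw [Nat.card_zpowers, hy, pow_one])).exists_le_sylow
  have hPy : Subgroup.zpowers y = (P : Subgroup G) :=
    Subgroup.eq_of_le_of_card_ge hle (by rw [hPc, Nat.card_zpowers, hy])
  obtain ⟨e, he, hC, -⟩ := SimpleOrderCheck.exists_eList hG P (hPc P)
  have hd1 : Nat.card (Sylow 5 G) % 5 = 1 := by
    simpa [Nat.ModEq] using card_sylow_modEq_one 5 G
  have hd2 : Nat.card (Sylow 5 G) ∣ 19008 :=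
    SimpleOrder.card_sylow_dvd (k := 1) (by rw [E.card]; norm_num) (by norm_num)
  have hcc : M12Ord40.cc y = Nat.card ↥(Subgroup.centralizer ((P : Subgroup G) : Set G)) := by
    rw [← hPy, Subgroup.zpowers_eq_closure, Subgroup.centralizer_closure]
  have key : ((List.range 19009).all fun d => !(decide (19008 % d = 0 ∧ d % 5 = 1)) ||
      (SimpleOrderCheck.eList 95040 5 d).all fun e =>
        decide (95040 / d / e ∈ fiveOrders) || decide ((95040 / d / e) % 11 = 0)) = true := by
    decide +kernel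
  have h := List.all_eq_true.1 key _
    (List.mem_range.2 (Nat.lt_succ_of_le (Nat.le_of_dvd (by norm_num) hd2)))
  simp only [Nat.mod_eq_zero_of_dvd hd2, hd1, and_self, decide_true, Bool.not_true, Bool.false_or,
    List.all_eq_true, Bool.or_eq_true, decide_eq_true_eq] at h
  rw [E.card] at he hC
  rw [hcc, ← hC]
  refine (h e he).resolve_right fun h11 => ?_
  have hy1 : y ≠ 1 := fun e1 => by rw [e1, orderOf_one] at hy; norm_num at hy
  have h' := cc_dvd_8640 E hy1 (by rw [hy]; norm_num)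
  rw [hcc, ← hC] at h'
  have := (Nat.dvd_of_mod_eq_zero h11).trans h'
  norm_num at this

namespace Inv

variable (I : Inv G)

theorem mem_invVecs {g : G} (hg : orderOf g = 2) {Cs : List ℕ} (hCs : M12Ord40.cc g ∈ Cs) :
    (M12Ord40.cc g, I.inv g) ∈ invVecs I.D I.σ Cs := by
  have hg1 : g ≠ 1 := fun e => by rw [e, orderOf_one] at hg; norm_num at hg
  have hC := Nat.le_of_dvd (by norm_num)
    (cc_dvd_8640 I.eleven hg1 (by rw [hg]; norm_num))
  have hn : nsum (I.inv g) ≤ (M12Ord40.cc g : ℤ) := normSum_eq (I.inv g) ▸ I.cent g hg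
  have hp : psum I.D I.σ (I.inv g) (I.inv g) = 0 :=
    pairSum_eq I.D I.σ (I.inv g) (I.inv g) ▸ I.invs g g hg hg
  simp only [invVecs, List.mem_flatMap, List.mem_map, List.mem_filter, decide_eq_true_eq]
  refine ⟨_, hCs, I.inv g, ⟨?_, hn, hp⟩, rfl⟩
  refine mem_vecs (by omega) (sigma_four I.row) (I.rel g hg) fun k => ?_
  have hb := abs_lt.1 (I.bound g hg k)
  simp only [okc, one_ne_zero, if_false, one_mul, decide_eq_true_eq]
  exact ⟨(sq_le_nsum _ k).trans hn, hb.1, hb.2, I.cls g hg k, I.four g hg k, by linarith [hb.1]⟩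

theorem mem_eqSlots {i j : Fin 5} (h : I.Equal i j) {g : G} (hg : orderOf g = 2) :
    eqSlots I.D (I.inv g) (i, j) = true := by
  simp [eqSlots, h.2.2.2.1, h.2.2.2.2 g hg]

end Inv

/-- At most one pair of slots agrees at all involutions. -/
theorem one_pair (I : Inv G) {i j k l : Fin 5} (h : I.Equal i j) (h' : I.Equal k l) :
    (k = i ∧ l = j) ∨ (k = j ∧ l = i) := by
  obtain ⟨s, hs, h64⟩ := exists_central I.eleven
  have hs1 : s ≠ 1 := fun e => by rw [e, orderOf_one] at hs; norm_num at hs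
  have hd := cc_dvd_8640 I.eleven hs1 (by rw [hs]; norm_num)
  have hz := I.mem_invVecs hs ((orders_mem hd).1 h64)
  have h0 := List.all_eq_true.1 checkOne_rows _ I.row
  simp only [checkOne, List.all_eq_true] at h0
  have h1 := h0 _ hz (i, j) (mem_slotPairs i j h.1 h.2.1 h.2.2.1) (k, l)
    (mem_slotPairs k l h'.1 h'.2.1 h'.2.2.1)
  rw [I.mem_eqSlots h hs, I.mem_eqSlots h' hs] at h1
  simpa [Prod.ext_iff] using h1

namespace Merge

variable (M : Merge G)

theorem mem_mergeVecs {g : G} {p : ℕ} (hg : orderOf g = p) (hp : p = 3 ∨ p = 5) {Cs : List ℕ}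
    (hCs : M12Ord40.cc g ∈ Cs) :
    (M12Ord40.cc g, M.val g) ∈ mergeVecs M.I.D M.I.σ M.i M.j (p : ℤ) Cs := by
  have hord : orderOf g = 3 ∨ orderOf g = 5 := hg.symm ▸ hp
  have hg1 : g ≠ 1 := fun e => by
    rcases hord with h | h <;> rw [e, orderOf_one] at h <;> norm_num at h
  have h11 : ¬ 11 ∣ orderOf g := by rcases hord with h | h <;> rw [h] <;> norm_num
  have hC := Nat.le_of_dvd (by norm_num) (cc_dvd_8640 M.I.eleven hg1 h11)
  have hn : 2 * nsum (M.val g) - M12Ord40.cmp M.i (M.val g) * M12Ord40.cmp M.i (M.val g) ≤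
      2 * (M12Ord40.cc g : ℤ) := by
    have := M.cent g hord
    rw [normSum_eq, pow_two] at this
    exact this
  have hs : M12Ord40.cmp M.i M.I.σ = -1 → 0 ≤ 2 * psum M.I.D M.I.σ (M.val g) (M.val g) -
      M12Ord40.cmp M.i M.I.σ * (95040 / M12Ord40.cmp M.i M.I.D) *
        (M12Ord40.cmp M.i (M.val g) * M12Ord40.cmp M.i (M.val g)) := by
    intro e
    have := M.self g hord e
    rw [pairSum_eq, pow_two] at this
    exact this
  simp only [mergeVecs, List.mem_flatMap, List.mem_map, List.mem_filter, decide_eq_true_eq]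
  refine ⟨_, hCs, M.val g, ⟨?_, hn, hs⟩, rfl⟩
  refine mem_vecs (by omega) (sigma_four M.I.row) (M.rel g hord) fun k => ?_
  by_cases hk : k = M.j
  · subst hk
    have hm : mult M.i M.j M.j = 0 := by simp [mult, M.equal.1.symm]
    simp [okc, hm, M.zero g hord]
  · have hm : mult M.i M.j k ≠ 0 := by
      simp only [mult]
      split_ifs <;> norm_num
    have hb := abs_lt.1 (M.bound g hord k hk)
    obtain ⟨he1, he2⟩ := M.eig g hord k
    rw [hg] at he1 he2
    simp only [okc, hm, if_false, decide_eq_true_eq]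
    refine ⟨?_, hb.1, hb.2, M.cls g hord k, he1, he2⟩
    push_cast
    by_cases hi : k = M.i
    · subst hi
      nlinarith [sq_le_nsum (M.val g) M.i]
    · nlinarith [sq_add_le_nsum (M.val g) hi, mul_self_nonneg (M12Ord40.cmp k (M.val g)),
        mul_self_nonneg (M12Ord40.cmp M.i (M.val g))]

theorem mem_okCount {g h : G} (hg : orderOf g = 3 ∨ orderOf g = 5) (hh : orderOf h = 2) :
    okCount M.I.D M.I.σ (M12Ord40.cc g, M.val g) (M12Ord40.cc h, M.I.inv h) = true := by
  obtain ⟨a, ha⟩ := M.count g h hg hh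
  rw [pairSum_eq] at ha
  simp only [okCount, decide_eq_true_eq]
  rw [← ha]
  refine ⟨by positivity, ⟨(a : ℤ), ?_⟩⟩
  push_cast
  ring

end Merge

/-- The exchange of two conjugate characters is impossible. -/
theorem merge_false (M : Merge G) : False := by
  have : Fact (Nat.Prime 2) := ⟨Nat.prime_two⟩
  have : Fact (Nat.Prime 3) := ⟨Nat.prime_three⟩
  have : Fact (Nat.Prime 5) := ⟨Nat.prime_five⟩
  obtain ⟨s, hs, h64⟩ := exists_central M.I.eleven
  have hdvd : ∀ g : G, orderOf g = 2 ∨ orderOf g = 3 → M12Ord40.cc g ∣ 8640 := fun g h =>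
    cc_dvd_8640 M.I.eleven (fun e => by rcases h with h | h <;> rw [e, orderOf_one] at h <;> norm_num at h)
      (by rcases h with h | h <;> rw [h] <;> norm_num)
  have hz := M.I.mem_invVecs hs ((orders_mem (hdvd s (Or.inl hs))).1 h64)
  obtain ⟨y, hy⟩ := exists_prime_orderOf_dvd_card' (G := G) 5 (by rw [M.I.eleven.card]; norm_num)
  have hy5 : orderOf y = 3 ∨ orderOf y = 5 := Or.inr hy
  have hY := M.mem_mergeVecs hy (Or.inr rfl) (five_mem M.I.eleven hy)
  have hym : y ∈ Subgroup.centralizer ({y} : Set G) :=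
    Subgroup.mem_centralizer_singleton_iff.2 rfl
  have commuting : ∀ q : ℕ, [Fact q.Prime] → q ∣ M12Ord40.cc y →
      ∃ r : G, orderOf r = q ∧ 5 ∣ M12Ord40.cc r := by
    intro q _ hq
    obtain ⟨⟨r, hr⟩, hrq⟩ := exists_prime_orderOf_dvd_card'
      (G := Subgroup.centralizer ({y} : Set G)) q hq
    rw [Subgroup.orderOf_mk] at hrq
    have hyr : y ∈ Subgroup.centralizer ({r} : Set G) :=
      Subgroup.mem_centralizer_singleton_iff.2 (Subgroup.mem_centralizer_singleton_iff.1 hr).symm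
    exact ⟨r, hrq, hy ▸ Subgroup.orderOf_dvd_natCard _ hyr⟩
  have h0 := List.all_eq_true.1 checkMerge_rows _ M.I.row
  simp only [checkMerge, List.all_eq_true, Bool.or_eq_true, decide_eq_true_eq] at h0
  have hq := mem_slotPairs M.i M.j M.equal.1 M.equal.2.1 M.equal.2.2.1
  have h1 := (h0 (M.i, M.j) hq).resolve_left (fun h => h M.equal.2.2.2.1)
    (M12Ord40.cc s, M.I.inv s) (List.mem_filter.2 ⟨hz, M.I.mem_eqSlots M.equal hs⟩)
  simp only [checkFive, List.all_eq_true] at h1
  have h2 := h1 _ hY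
  rw [M.mem_okCount hy5 hs] at h2
  simp only [Bool.not_true, Bool.false_or, Bool.or_eq_true, Bool.and_eq_true, decide_eq_true_eq,
    List.all_eq_true] at h2
  rcases h2 with ⟨heven, hall⟩ | ⟨hthree, hall⟩
  · obtain ⟨r, hr, hr5⟩ := commuting 2 heven
    have h10 : 10 ∣ M12Ord40.cc r := by
      have hr2 : 2 ∣ M12Ord40.cc r := hr ▸ Subgroup.orderOf_dvd_natCard _
        (Subgroup.mem_centralizer_singleton_iff.2 rfl)
      exact (by norm_num : Nat.Coprime 2 5).mul_dvd_of_dvd_of_dvd hr2 hr5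
    have h3 := hall _ (M.I.mem_invVecs hr ((orders_mem (hdvd r (Or.inl hr))).2.1 h10))
    rw [M.I.mem_eqSlots M.equal hr, M.mem_okCount hy5 hr,
      show psum M.I.D M.I.σ (M.I.inv s) (M.I.inv r) = 0 from
        pairSum_eq M.I.D M.I.σ (M.I.inv s) (M.I.inv r) ▸ M.I.invs s r hs hr] at h3
    simp at h3
  · obtain ⟨t, ht, ht5⟩ := commuting 3 hthree
    have h15 : 15 ∣ M12Ord40.cc t := by
      have ht3 : 3 ∣ M12Ord40.cc t := ht ▸ Subgroup.orderOf_dvd_natCard _
        (Subgroup.mem_centralizer_singleton_iff.2 rfl)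
      exact (by norm_num : Nat.Coprime 3 5).mul_dvd_of_dvd_of_dvd ht3 ht5
    have h3 := hall _
      (M.mem_mergeVecs ht (Or.inl rfl) ((orders_mem (hdvd t (Or.inr ht))).2.2 h15))
    rw [M.mem_okCount (Or.inl ht) hs] at h3
    simp at h3

end Cfsg.Agent.M12Ord47
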