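import Cfsg.Agent.Lib.M12Ord47Vals
import Cfsg.Agent.Lib.M12Ord47NoSwap

/-!
Integrality of the principal 11-block of a group of order 95040 away from the prime eleven.
-/

set_option autoImplicit false
set_option linter.style.haveILetI false
set_option linter.unusedSectionVars false

open scoped ComplexConjugate

namespace Cfsg.Agent.M12Ord47

open Cfsg Cfsg.Agent Cfsg.Agent.M12Ord40 Cfsg.Agent.M12Ord40.BlkAux Cfsg.Agent.BlockPrincipal81
  Cfsg.Agent.GaloisChar80

attribute [local instance] Classical.propDecidable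

theorem deg_facts : ∀ q ∈ rows, ∀ i : Fin 5, ¬ (11 : ℤ) ∣ M12Ord40.cmp i q.1 := by
  decide +kernel

namespace PV

universe u

variable {G : Type u} [Group G] [Fintype G] (R : M12Ord88.Pre G)

include R in
theorem odd_of_coprime {k : ℕ} (hk : k.Coprime (Nat.card G)) : Odd k := by
  rw [R.eleven.card] at hk
  exact Nat.coprime_two_right.1 (hk.coprime_dvd_right (by norm_num))

theorem pow_order {k : ℕ} (hk : k.Coprime (Nat.card G)) (g : G) : orderOf (g ^ k) = orderOf g :=
  Nat.Coprime.orderOf_pow (hk.symm.coprime_dvd_left (orderOf_dvd_natCard g))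

theorem twist_deg {k : ℕ} (hk : k.Coprime (Nat.card G)) (i : Fin 5) :
    (twist hk (R.χ i) : G → ℂ) 1 = ((M12Ord40.cmp i R.D : ℤ) : ℂ) := by
  rw [twist_apply, one_pow, R.deg]

theorem twist_cases {k : ℕ} (hk : k.Coprime (Nat.card G)) (i : Fin 5) :
    twist hk (R.χ i) = R.θ ∨ ∃ j, twist hk (R.χ i) = R.χ j := by
  by_contra hcon
  push Not at hcon
  obtain ⟨hθ, hj⟩ := hcon
  have h1 : (twist hk (R.χ i) : G → ℂ) ≠ fun _ => 1 := fun e => by
    have h := congrFun e 1
    rw [twist_deg] at h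
    have h' : M12Ord40.cmp i R.D = 1 := by exact_mod_cast h
    have h2 : 2 ≤ M12Ord40.cmp i R.D := (row_facts _ R.row i).1
    omega
  haveI : Fact (Nat.Prime 11) := ⟨by norm_num⟩
  obtain ⟨x, hx⟩ := exists_prime_orderOf_dvd_card' 11 (G := G) (by rw [R.eleven.card]; norm_num)
  set y := (powPerm hk).symm x with hy
  have hyk : y ^ k = x := (powPerm hk).apply_symm_apply x
  have hyo : orderOf y = 11 := by rw [← pow_order hk y, hyk, hx]
  have h0 := R.outside _ h1 hj hθ y hyo
  rw [twist_apply, hyk] at h0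
  have h := (eig_one (by norm_num : Nat.Prime 11)
    (CharBasic.isCharacter_of_isIrrCharacter (R.χ i).2) hx (z := 0) (by simpa using h0) (R.deg i)).1
  simp only [mul_zero, add_zero] at h
  exact deg_facts _ R.row i h

/-- A twist of a non-exceptional character is one of the same degree. -/
theorem slot {k : ℕ} (hk : k.Coprime (Nat.card G)) {i : Fin 5} (hi : i ≠ 4) :
    ∃ j : Fin 5, j ≠ 4 ∧ M12Ord40.cmp j R.D = M12Ord40.cmp i R.D ∧
      twist hk (R.χ i) = R.χ j := by
  rcases twist_cases R hk i with h | ⟨j, h⟩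
  · have e := congrFun (congrArg (fun χ : IrrCharacter G => (χ : G → ℂ)) h) 1
    simp only [twist_deg, theta_one] at e
    exact absurd (Int.cast_injective e) ((row_facts _ R.row i).2.1 hi)
  · have e := congrFun (congrArg (fun χ : IrrCharacter G => (χ : G → ℂ)) h) 1
    simp only [twist_deg, R.deg] at e
    have e' := Int.cast_injective e
    refine ⟨j, fun hj => ?_, e'.symm, h⟩
    subst hj
    exact (row_facts _ R.row i).2.1 hi e'

theorem four_fixed {k : ℕ} (hk : k.Coprime (Nat.card G)) {g : G} (hg : ¬ 11 ∣ orderOf g) :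
    (R.χ 4 : G → ℂ) (g ^ k) = (R.χ 4 : G → ℂ) g := by
  rw [← twist_apply hk]
  rcases twist_cases R hk 4 with h | ⟨j, h⟩
  · rw [h, R.agree g hg]
  · rcases eq_or_ne j 4 with rfl | hj
    · rw [h]
    · have e := congrFun (congrArg (fun χ : IrrCharacter G => (χ : G → ℂ)) h) 1
      simp only [twist_deg, R.deg] at e
      exact absurd (Int.cast_injective e).symm ((row_facts _ R.row j).2.1 hj)

theorem int_four {g : G} (hg : ¬ 11 ∣ orderOf g) : ∃ z : ℤ, (R.χ 4 : G → ℂ) g = z :=
  exists_int_of_fixed (CharBasic.isCharacter_of_isIrrCharacter (R.χ 4).2) g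
    fun _ hk m => four_fixed R hk (pow_reg hg m)

include R in
theorem invol_fixed {g : G} (hg : orderOf g = 2) {k : ℕ} (hk : k.Coprime (Nat.card G)) (m : ℕ) :
    (g ^ m) ^ k = g ^ m := by
  obtain ⟨r, rfl⟩ := odd_of_coprime R hk
  have h2 : g ^ 2 = 1 := hg ▸ pow_orderOf_eq_one g
  rw [pow_succ, pow_mul, ← pow_mul g m 2, mul_comm m 2, pow_mul g 2, h2, one_pow, one_pow, one_mul]

theorem int_invol {g : G} (hg : orderOf g = 2) (i : Fin 5) :
    (R.χ i : G → ℂ) g = (PV.iv R g i : ℂ) :=
  iv_spec R (exists_int_of_fixed (CharBasic.isCharacter_of_isIrrCharacter (R.χ i).2) g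
    fun _ hk m => by rw [invol_fixed R hg hk m])

theorem reg_of_prime {g : G} {n : ℕ} (hg : orderOf g = n) (hn : ¬ 11 ∣ n) : ¬ 11 ∣ orderOf g :=
  hg.symm ▸ hn

theorem ne_one_of_order {g : G} {n : ℕ} (hg : orderOf g = n) (hn : n ≠ 1) : g ≠ 1 := by
  rintro rfl
  exact hn (hg.symm.trans orderOf_one)

theorem four_dvd {g : G} (hg : orderOf g = 2) (i : Fin 5) :
    (4 : ℤ) ∣ M12Ord40.cmp i R.D - PV.iv R g i := by
  haveI := R.eleven.simple
  have hnc : ¬ IsMulCommutative G := fun hc => not_comm R.eleven fun a b => hc.is_comm.comm a b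
  have hd0 := (rows_facts _ R.row i).2.1
  obtain ⟨a, ha, h4⟩ := Simple720.exists_invol_value (Simple720.commutator_eq_top hnc)
    (CharBasic.isCharacter_of_isIrrCharacter (R.χ i).2) (d := (M12Ord40.cmp i R.D).toNat) (by
      rw [R.deg, ← Int.cast_natCast, Int.toNat_of_nonneg hd0.le]) hg
  rw [int_invol R hg] at ha
  rw [Int.toNat_of_nonneg hd0.le] at h4
  rwa [show PV.iv R g i = a by exact_mod_cast ha]

/-- The rational values at the involutions. -/
noncomputable def invData : Inv G where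
  eleven := R.eleven
  D := R.D
  σ := R.σ
  row := R.row
  inv g := mkVec (PV.iv R g)
  rel g hg := by
    have h := R.rel g (reg_of_prime hg (by norm_num))
    simp only [int_invol R hg] at h
    simp only [relSum, cmp_mkVec]
    exact_mod_cast h
  cent g hg := by
    have h := norm_sum_le_cc R (reg_of_prime hg (by norm_num))
    simp only [int_invol R hg, Complex.normSq_intCast] at h
    simp only [normSum, cmp_mkVec, pow_two]
    exact_mod_cast h
  cls g hg k := by
    have h := integral_class R.eleven (R.χ k) g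
    rw [int_invol R hg, R.deg] at h
    rw [cmp_mkVec]
    exact dvd_of_integral (rows_facts _ R.row k).2.1 (by push_cast; exact h)
  four g hg k := by rw [cmp_mkVec]; exact four_dvd R hg k
  bound g hg k := by
    have h := norm_lt R.eleven (R.χ k) (R.nontriv k) (R.deg k) (ne_one_of_order hg (by norm_num))
    rw [int_invol R hg, Complex.norm_intCast] at h
    rw [cmp_mkVec]
    exact_mod_cast h
  invs g h hg hh := by
    haveI : Fact (Nat.Prime 11) := ⟨by norm_num⟩
    obtain ⟨x, hx⟩ := exists_prime_orderOf_dvd_card' 11 (G := G) (by rw [R.eleven.card]; norm_num)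
    have he := pair_eq R (reg_of_prime hg (by norm_num)) (reg_of_prime hh (by norm_num)) hx
    rw [pair_none R.eleven hx hg hh] at he
    simp only [int_invol R hg, int_invol R hh, Nat.cast_zero, mul_zero] at he
    have he' : ((pairSum R.D R.σ (mkVec (PV.iv R g)) (mkVec (PV.iv R h)) : ℤ) : ℂ) = ((0 : ℤ) : ℂ) := by
      simp only [pairSum, cmp_mkVec]
      push_cast at he ⊢
      rw [← he]
      congr 1
      exact Finset.sum_congr rfl fun i _ => by ring
    exact Int.cast_injective he'

theorem invData_inv (g : G) : (invData R).inv g = mkVec (PV.iv R g) := rfl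

theorem equal_of_twist {k : ℕ} (hk : k.Coprime (Nat.card G)) {l m : Fin 5} (hl : l ≠ 4)
    (hm : m ≠ 4) (hd : M12Ord40.cmp m R.D = M12Ord40.cmp l R.D) (hne : l ≠ m)
    (ht : twist hk (R.χ l) = R.χ m) : (invData R).Equal l m := by
  refine ⟨hne, hl, hm, hd.symm, fun g hg => ?_⟩
  simp only [invData_inv, cmp_mkVec]
  have h : (R.χ m : G → ℂ) g = (R.χ l : G → ℂ) g := by
    rw [← ht, twist_apply]
    have := invol_fixed R hg hk 1
    simp only [pow_one] at this
    rw [this]
  rw [int_invol R hg, int_invol R hg] at h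
  exact_mod_cast h.symm

theorem sum_two {β : Type*} [AddCommMonoid β] {i j : Fin 5} (hij : i ≠ j) (F : Fin 5 → β) :
    ∑ l, F l = F i + (F j + ∑ l ∈ (Finset.univ.erase i).erase j, F l) := by
  rw [Finset.add_sum_erase _ F (Finset.mem_erase.2 ⟨hij.symm, Finset.mem_univ j⟩),
    Finset.add_sum_erase _ F (Finset.mem_univ i)]

/-- No value is irrational: otherwise two characters could be merged. -/
theorem no_moved {i j : Fin 5} (heq : (invData R).Equal i j)
    (hfix : ∀ l : Fin 5, l ≠ i → l ≠ j → ∀ g : G, ¬ 11 ∣ orderOf g →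
      ∃ z : ℤ, (R.χ l : G → ℂ) g = z)
    (hsum : ∀ g : G, ¬ 11 ∣ orderOf g →
      ∃ z : ℤ, (R.χ i : G → ℂ) g + (R.χ j : G → ℂ) g = z) : False := by
  obtain ⟨hij, hi4, hj4, hD', hinv'⟩ := id heq
  have hD : M12Ord40.cmp i R.D = M12Ord40.cmp j R.D := hD'
  have hσ : M12Ord40.cmp i R.σ = M12Ord40.cmp j R.σ := (row_facts _ R.row i).2.2 j hi4 hj4 hD
  set rest := (Finset.univ.erase i).erase j with hrest
  have hmr : ∀ {l}, l ∈ rest → l ≠ i ∧ l ≠ j := fun {l} hl =>
    ⟨(Finset.mem_erase.1 (Finset.mem_erase.1 hl).2).1, (Finset.mem_erase.1 hl).1⟩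
  choose! S hS using hsum
  set f : G → Fin 5 → ℤ := fun g l => if l = i then S g else if l = j then 0 else PV.iv R g l
    with hf
  have hfi : ∀ g, f g i = S g := fun g => if_pos rfl
  have hfj : ∀ g, f g j = 0 := fun g => by simp [hf, hij.symm]
  have hfo : ∀ g l, l ≠ i → l ≠ j → f g l = PV.iv R g l := fun g l h1 h2 => by simp [hf, h1, h2]
  have hval : ∀ g : G, ¬ 11 ∣ orderOf g → ∀ l, l ≠ i → l ≠ j →
      (R.χ l : G → ℂ) g = (f g l : ℂ) := fun g hg l h1 h2 => by
    rw [hfo g l h1 h2]; exact iv_spec R (hfix l h1 h2 g hg)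
  have hreg : ∀ {g : G}, orderOf g = 3 ∨ orderOf g = 5 → ¬ 11 ∣ orderOf g := fun {g} h => by
    rcases h with h | h <;> rw [h] <;> norm_num
  have hq : ∀ l : Fin 5, (0 : ℤ) ≤ 95040 / M12Ord40.cmp l R.D := fun l =>
    Int.ediv_nonneg (by norm_num) (rows_facts _ R.row l).2.1.le
  haveI : Fact (Nat.Prime 11) := ⟨by norm_num⟩
  obtain ⟨x, hx⟩ := exists_prime_orderOf_dvd_card' 11 (G := G) (by rw [R.eleven.card]; norm_num)
  refine merge_false (G := G)
    { I := invData R, i := i, j := j, equal := heq, val := fun g => mkVec (f g)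
      zero := fun g _ => by rw [cmp_mkVec, hfj]
      rel := fun g hg => ?_
      cent := fun g hg => ?_
      cls := fun g hg k => ?_
      eig := fun g hg k => ?_
      bound := fun g hg k hk => ?_
      self := fun g hg hs => ?_
      count := fun g h hg hh => ?_ }
  · -- the relation
    have h := R.rel g (hreg hg)
    rw [sum_two hij, ← add_assoc (((M12Ord40.cmp i R.σ : ℤ) : ℂ) * _), ← hσ, ← mul_add,
      hS g (hreg hg), Finset.sum_congr rfl fun l hl => by
        rw [hval g (hreg hg) l (hmr hl).1 (hmr hl).2]] at h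
    show relSum R.σ (mkVec (f g)) = 0
    simp only [relSum, cmp_mkVec]
    rw [sum_two hij, hfi, hfj, mul_zero, zero_add]
    exact_mod_cast h
  · -- the centraliser
    have h := norm_sum_le_cc R (hreg hg)
    rw [sum_two hij, hval g (hreg hg) 4 hi4.symm hj4.symm, Complex.normSq_intCast,
      Finset.sum_congr rfl fun l hl => by
        rw [hval g (hreg hg) l (hmr hl).1 (hmr hl).2, Complex.normSq_intCast]] at h
    have h2 : ((S g : ℤ) : ℝ) * (S g : ℤ) ≤
        2 * (Complex.normSq ((R.χ i : G → ℂ) g) + Complex.normSq ((R.χ j : G → ℂ) g)) := by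
      rw [← Complex.normSq_intCast, ← hS g (hreg hg)]
      simp only [Complex.normSq_apply, Complex.add_re, Complex.add_im]
      nlinarith [sq_nonneg (((R.χ i : G → ℂ) g).re - ((R.χ j : G → ℂ) g).re),
        sq_nonneg (((R.χ i : G → ℂ) g).im - ((R.χ j : G → ℂ) g).im)]
    simp only [normSum, cmp_mkVec]
    rw [sum_two hij, hfi, hfj]
    have key : ((2 * (1 + (S g ^ 2 + (0 ^ 2 + ∑ l ∈ rest, f g l ^ 2)) + f g 4 ^ 2) - S g ^ 2 : ℤ) : ℝ)
        ≤ ((2 * (cc g : ℤ) : ℤ) : ℝ) := by
      push_cast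
      simp only [pow_two] at *
      linarith
    exact_mod_cast key
  · -- the class values
    rw [cmp_mkVec]
    show M12Ord40.cmp k R.D ∣ _
    rcases eq_or_ne k i with rfl | h1
    · refine dvd_of_integral (rows_facts _ R.row k).2.1 ?_
      have h := (integral_class R.eleven (R.χ k) g).add (integral_class R.eleven (R.χ j) g)
      rw [R.deg, R.deg, ← hD, ← add_div, ← mul_add, hS g (hreg hg)] at h
      rw [hfi]
      push_cast
      exact h
    rcases eq_or_ne k j with rfl | h2
    · rw [hfj, mul_zero]; exact dvd_zero _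
    · refine dvd_of_integral (rows_facts _ R.row k).2.1 ?_
      have h := integral_class R.eleven (R.χ k) g
      rw [R.deg, hval g (hreg hg) k h1 h2] at h
      push_cast
      exact h
  · -- the multiplicity of the eigenvalue one
    rw [cmp_mkVec]
    show _ ∣ mult i j k * M12Ord40.cmp k R.D - _ ∧ 0 ≤ mult i j k * M12Ord40.cmp k R.D + _
    have hp : (orderOf g).Prime := by rcases hg with h | h <;> rw [h] <;> norm_num
    have fin : ∀ {χ : G → ℂ}, IsCharacter G χ → ∀ {d z : ℤ}, χ g = z → χ 1 = d →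
        (orderOf g : ℤ) ∣ d - z ∧ 0 ≤ d + ((orderOf g : ℤ) - 1) * z := by
      intro χ hχ d z hz hd
      obtain ⟨h1, h2⟩ := eig_one hp hχ rfl hz hd
      refine ⟨?_, h2⟩
      rw [show d - z = d + ((orderOf g : ℤ) - 1) * z - (orderOf g : ℤ) * z by ring]
      exact dvd_sub h1 (dvd_mul_right _ z)
    rcases eq_or_ne k i with rfl | h1
    · rw [hfi, show mult k j k = 2 from if_pos rfl]
      refine fin (CharBasicDecomp.isCharacter_add (CharBasic.isCharacter_of_isIrrCharacter (R.χ k).2)
        (CharBasic.isCharacter_of_isIrrCharacter (R.χ j).2)) ?_ ?_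
      · exact hS g (hreg hg)
      · rw [Pi.add_apply, R.deg, R.deg, ← hD]; push_cast; ring
    rcases eq_or_ne k j with rfl | h2
    · rw [hfj, show mult i k k = 0 by simp [mult, h1]]; simp
    · rw [show mult i j k = 1 by simp [mult, h1, h2], one_mul]
      exact fin (CharBasic.isCharacter_of_isIrrCharacter (R.χ k).2) (hval g (hreg hg) k h1 h2) (R.deg k)
  · -- the strict bound
    rw [cmp_mkVec]
    show _ < mult i j k * M12Ord40.cmp k R.D
    have hg1 : g ≠ 1 := by
      rcases hg with h | h <;> exact ne_one_of_order h (by norm_num)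
    rcases eq_or_ne k i with rfl | h1
    · rw [hfi, show mult k j k = 2 from if_pos rfl]
      have a1 := norm_lt R.eleven (R.χ k) (R.nontriv k) (R.deg k) hg1
      have a2 := norm_lt R.eleven (R.χ j) (R.nontriv j) (R.deg j) hg1
      rw [← hD] at a2
      have a3 := norm_add_le ((R.χ k : G → ℂ) g) ((R.χ j : G → ℂ) g)
      rw [hS g (hreg hg), Complex.norm_intCast] at a3
      have : ((|S g| : ℤ) : ℝ) < ((2 * M12Ord40.cmp k R.D : ℤ) : ℝ) := by
        push_cast
        linarith
      exact_mod_cast this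
    · rw [show mult i j k = 1 by simp [mult, h1, hk], one_mul]
      have a1 := norm_lt R.eleven (R.χ k) (R.nontriv k) (R.deg k) hg1
      rw [hval g (hreg hg) k h1 hk, Complex.norm_intCast] at a1
      exact_mod_cast a1
  · -- an element and its inverse
    have hs' : M12Ord40.cmp i R.σ = -1 := hs
    have hgi : ¬ 11 ∣ orderOf g⁻¹ := by rw [orderOf_inv]; exact hreg hg
    have he := pair_eq R (hreg hg) hgi hx
    set N := Nat.card {k : G // IsConj x (g * (k * g⁻¹ * k⁻¹))}
    have hc : ∀ l : Fin 5, (R.χ l : G → ℂ) g * (R.χ l : G → ℂ) g⁻¹ =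
        (Complex.normSq ((R.χ l : G → ℂ) g) : ℂ) := fun l => by
      rw [CharBasic.isCharacter_inv (CharBasic.isCharacter_of_isIrrCharacter (R.χ l).2),
        Complex.mul_conj]
    simp only [hc] at he
    have hre : (95040 : ℝ) + ∑ l : Fin 5, ((M12Ord40.cmp l R.σ * (95040 / M12Ord40.cmp l R.D) : ℤ) : ℝ) *
        Complex.normSq ((R.χ l : G → ℂ) g) = 11 * (N : ℝ) := by
      exact_mod_cast he
    have hv : ∀ l ∈ rest, Complex.normSq ((R.χ l : G → ℂ) g) = (f g l : ℝ) * (f g l) := fun l hl => by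
      rw [hval g (hreg hg) l (hmr hl).1 (hmr hl).2, Complex.normSq_intCast]
    rw [sum_two hij, Finset.sum_congr rfl fun l hl => by rw [hv l hl], ← hσ, ← hD, hs'] at hre
    have h2 : ((S g : ℤ) : ℝ) * (S g : ℤ) ≤
        2 * (Complex.normSq ((R.χ i : G → ℂ) g) + Complex.normSq ((R.χ j : G → ℂ) g)) := by
      rw [← Complex.normSq_intCast, ← hS g (hreg hg)]
      simp only [Complex.normSq_apply, Complex.add_re, Complex.add_im]
      nlinarith [sq_nonneg (((R.χ i : G → ℂ) g).re - ((R.χ j : G → ℂ) g).re),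
        sq_nonneg (((R.χ i : G → ℂ) g).im - ((R.χ j : G → ℂ) g).im)]
    show 0 ≤ 2 * pairSum R.D R.σ (mkVec (f g)) (mkVec (f g)) -
      M12Ord40.cmp i R.σ * (95040 / M12Ord40.cmp i R.D) * M12Ord40.cmp i (mkVec (f g)) ^ 2
    simp only [pairSum, cmp_mkVec]
    rw [sum_two hij, hfi, hfj, hs']
    set q := (95040 : ℤ) / M12Ord40.cmp i R.D with hqd
    have hq0 : (0 : ℝ) ≤ (q : ℝ) := by exact_mod_cast hq i
    set E : ℤ := ∑ l ∈ rest, M12Ord40.cmp l R.σ * f g l * f g l * (95040 / M12Ord40.cmp l R.D)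
      with hE
    have hE' : (E : ℝ) = ∑ l ∈ rest, ((M12Ord40.cmp l R.σ * (95040 / M12Ord40.cmp l R.D) : ℤ) : ℝ) *
        ((f g l : ℝ) * (f g l)) := by
      rw [hE]
      push_cast
      exact Finset.sum_congr rfl fun l _ => by ring
    rw [← hE'] at hre
    have hmul := mul_le_mul_of_nonneg_left h2 hq0
    have hN : (0 : ℝ) ≤ 11 * (N : ℝ) := by positivity
    have key : ((0 : ℤ) : ℝ) ≤ ((2 * (95040 + (-1 * S g * S g * q +
        (M12Ord40.cmp j R.σ * 0 * 0 * (95040 / M12Ord40.cmp j R.D) + E))) - -1 * q * S g ^ 2 : ℤ) : ℝ) := by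
      push_cast at hre ⊢
      nlinarith
    exact_mod_cast key
  · -- an element against an involution
    have hh' : ¬ 11 ∣ orderOf h := reg_of_prime hh (by norm_num)
    obtain ⟨n, hn⟩ := pair_count R.eleven hx (hreg hg) hh'
    refine ⟨11 * n, ?_⟩
    have he := pair_eq R (hreg hg) hh' hx
    rw [hn] at he
    simp only [int_invol R hh] at he
    show _ = pairSum R.D R.σ (mkVec (f g)) (mkVec (PV.iv R h))
    simp only [pairSum, cmp_mkVec]
    rw [sum_two hij, hfi, hfj]
    have hc : PV.iv R h i = PV.iv R h j := by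
      have := hinv' h hh
      simpa only [invData_inv, cmp_mkVec] using this
    rw [sum_two hij, ← hσ, ← hD, ← hc, Finset.sum_congr rfl fun l hl => by
      rw [hval g (hreg hg) l (hmr hl).1 (hmr hl).2]] at he
    set E : ℤ := ∑ l ∈ rest, M12Ord40.cmp l R.σ * f g l * PV.iv R h l * (95040 / M12Ord40.cmp l R.D)
      with hE
    have hE' : (E : ℂ) = ∑ l ∈ rest, ((M12Ord40.cmp l R.σ * (95040 / M12Ord40.cmp l R.D) : ℤ) : ℂ) *
        ((f g l : ℂ) * (PV.iv R h l : ℂ)) := by
      rw [hE]
      push_cast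
      exact Finset.sum_congr rfl fun l _ => by ring
    rw [← hE'] at he
    refine Int.cast_injective (α := ℂ) ?_
    have hSg := hS g (hreg hg)
    push_cast at he ⊢
    linear_combination -he + ((M12Ord40.cmp i R.σ : ℂ) * ((95040 / M12Ord40.cmp i R.D : ℤ) : ℂ) *
      (PV.iv R h i : ℂ)) * hSg

end PV

open PV in
/-- The block values away from the prime eleven are integers. -/
theorem int_of_pre {G : Type*} [Group G] [Fintype G] (R : M12Ord88.Pre G) :
    ∀ g : G, ¬ 11 ∣ orderOf g → ∀ i, ∃ z : ℤ, (R.χ i : G → ℂ) g = z := by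
  intro g hg i
  rcases eq_or_ne i 4 with rfl | hi
  · exact int_four R hg
  refine exists_int_of_fixed (CharBasic.isCharacter_of_isIrrCharacter (R.χ i).2) g
    fun k hk m => ?_
  obtain ⟨j, hj, hd, ht⟩ := slot R hk hi
  rcases eq_or_ne i j with rfl | hne
  · rw [← twist_apply hk, ht]
  exfalso
  have heq := equal_of_twist R hk hi hj hd hne ht
  have key : ∀ k' : ℕ, ∀ hk' : k'.Coprime (Nat.card G), ∀ l : Fin 5, l ≠ 4 →
      twist hk' (R.χ l) = R.χ l ∨ (l = i ∧ twist hk' (R.χ l) = R.χ j) ∨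
        (l = j ∧ twist hk' (R.χ l) = R.χ i) := by
    intro k' hk' l hl
    obtain ⟨m, hm, hd', ht'⟩ := slot R hk' hl
    rcases eq_or_ne l m with rfl | hne'
    · exact Or.inl ht'
    · rcases one_pair (invData R) heq (equal_of_twist R hk' hl hm hd' hne' ht') with
        ⟨rfl, rfl⟩ | ⟨rfl, rfl⟩
      · exact Or.inr (Or.inl ⟨rfl, ht'⟩)
      · exact Or.inr (Or.inr ⟨rfl, ht'⟩)
  refine no_moved R heq (fun l hli hlj y hy => ?_) fun y hy => ?_
  · rcases eq_or_ne l 4 with rfl | hl
    · exact int_four R hy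
    refine exists_int_of_fixed (CharBasic.isCharacter_of_isIrrCharacter (R.χ l).2) y
      fun k' hk' m => ?_
    rcases key k' hk' l hl with h | ⟨h, -⟩ | ⟨h, -⟩
    · rw [← twist_apply hk', h]
    · exact absurd h hli
    · exact absurd h hlj
  · refine exists_int_of_fixed (φ := (R.χ i : G → ℂ) + (R.χ j : G → ℂ))
      (CharBasicDecomp.isCharacter_add (CharBasic.isCharacter_of_isIrrCharacter (R.χ i).2)
        (CharBasic.isCharacter_of_isIrrCharacter (R.χ j).2)) y fun k' hk' m => ?_
    simp only [Pi.add_apply, ← twist_apply hk']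
    have hinj : ∀ {a b : Fin 5}, twist hk' (R.χ a) = twist hk' (R.χ b) → a = b :=
      fun h => R.inj (twist_injective hk' h)
    rcases key k' hk' i hi with h | ⟨-, h⟩ | ⟨h, -⟩
    · rcases key k' hk' j hj with h' | ⟨h', -⟩ | ⟨-, h'⟩
      · rw [h, h']
      · exact absurd h'.symm hne
      · exact absurd (hinj (h.trans h'.symm)) hne
    · rcases key k' hk' j hj with h' | ⟨h', -⟩ | ⟨-, h'⟩
      · exact absurd (hinj (h.trans h'.symm)) hne
      · exact absurd h'.symm hne
      · rw [h, h', add_comm]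
    · exact absurd h hne

end Cfsg.Agent.M12Ord47
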