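import Cfsg.Agent.Lib.M12Ord40Defs

/-!
The value vectors of the elements of order prime to eleven in a group of order 95040 lie among
twenty-one vectors.
-/

set_option autoImplicit false

namespace Cfsg.Agent.M12Ord47Mem

open Cfsg.Agent.M12Ord40

/-- The class product sum, written out. -/
def ps : Vec → Vec → ℤ
  | (a, b, c, d, w), (a', b', c', d', w') =>
    95040 + a * a' * 2112 - b * b' * 1760 - c * c' * 792 + d * d' * 660 - w * w' * 5940

theorem pairSum_m12 (u v : Vec) : pairSum m12D m12S u v = ps u v := by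
  obtain ⟨a, b, c, d, w⟩ := u
  obtain ⟨a', b', c', d', w'⟩ := v
  simp [pairSum, ps, Fin.sum_univ_five, M12Ord40.cmp, m12D, m12S]
  ring

/-- Divisibility and sign of a class product sum. -/
def okPair (C K : ℕ) (u v : Vec) : Bool :=
  decide (0 ≤ ps u v ∧ ((C * K : ℕ) : ℤ) ∣ ps u v)

/-- The possible values of one coordinate. -/
def zvals (d : ℤ) (C : ℕ) : List ℤ :=
  ((List.range 33).map fun k : ℕ => (k : ℤ) - 16).filter fun z =>
    decide (z * z ≤ (C : ℤ) ∧ d ∣ ((95040 / C : ℕ) : ℤ) * z)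

/-- The conditions on a vector at the centraliser order `C`. -/
def good (C : ℕ) : Vec → Bool
  | (a, b, c, d, w) =>
    decide (1 + a * a + b * b + c * c + d * d + w * w + w * w ≤ (C : ℤ)) &&
      okPair C C (a, b, c, d, w) (a, b, c, d, w) &&
      okPair C 192 (a, b, c, d, w) (-3, 6, -8, 0, 0) &&
      okPair C 120 (a, b, c, d, w) (5, 6, 0, 4, 4) &&
      okPair C 10 (a, b, c, d, w) (0, -1, 0, -1, 1)

/-- The search at the centraliser order `C`. -/
def check (C : ℕ) : Bool :=
  (zvals 45 C).all fun a => (zvals 54 C).all fun b => (zvals 120 C).all fun c =>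
    (zvals 144 C).all fun d =>
      !(good C (a, b, c, d, 1 + a - b - c + d)) ||
        decide ((a, b, c, d, 1 + a - b - c + d) ∈ vecList)

/-- The possible centraliser orders. -/
def ccList : List ℕ :=
  [1, 2, 3, 4, 5, 6, 8, 9, 10, 12, 15, 16, 18, 20, 24, 27, 30, 32, 36, 40, 48, 54, 60, 64, 80,
    96, 120, 192, 240]

theorem check_all : ccList.all check = true := by
  decide +kernel

theorem mem_ccList {C : ℕ} (h : C ∣ 192 ∨ C ∣ 240 ∨ C ∣ 54 ∨ C ∣ 36) : C ∈ ccList := by
  have key : ((List.range 241).all fun k =>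
      !(decide (k ∣ 192 ∨ k ∣ 240 ∨ k ∣ 54 ∨ k ∣ 36)) || decide (k ∈ ccList)) = true := by
    decide +kernel
  have hC : C < 241 := by
    rcases h with h | h | h | h <;> have := Nat.le_of_dvd (by norm_num) h <;> omega
  have := List.all_eq_true.1 key C (List.mem_range.2 hC)
  simpa [h] using this

theorem mem_zvals {d z : ℤ} {C : ℕ} (h1 : z * z ≤ (C : ℤ)) (hC : C ≤ 240)
    (h2 : d ∣ ((95040 / C : ℕ) : ℤ) * z) : z ∈ zvals d C := by
  have hC' : (C : ℤ) ≤ 240 := by exact_mod_cast hC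
  have hlo : -16 ≤ z := by nlinarith
  have hhi : z ≤ 16 := by nlinarith
  simp only [zvals, List.mem_filter, List.mem_map, List.mem_range, decide_eq_true_eq]
  exact ⟨⟨(z + 16).toNat, by omega, by omega⟩, h1, h2⟩

theorem search {C : ℕ} {v : Vec} (hC : C ∣ 192 ∨ C ∣ 240 ∨ C ∣ 54 ∨ C ∣ 36)
    (hrel : relSum m12S v = 0) (hnorm : normSum v ≤ (C : ℤ))
    (hcls : ∀ i : Fin 5, M12Ord40.cmp i m12D ∣ ((95040 / C : ℕ) : ℤ) * M12Ord40.cmp i v)
    (hp : okPair C C v v = true) (hs : okPair C 192 v (-3, 6, -8, 0, 0) = true)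
    (hr : okPair C 120 v (5, 6, 0, 4, 4) = true)
    (hy : okPair C 10 v (0, -1, 0, -1, 1) = true) : v ∈ vecList := by
  have hle : C ≤ 240 := by
    rcases hC with h | h | h | h <;> have := Nat.le_of_dvd (by norm_num) h <;> omega
  obtain ⟨a, b, c, d, w⟩ := v
  have hw : w = 1 + a - b - c + d := by
    simp [relSum, Fin.sum_univ_five, M12Ord40.cmp, m12S] at hrel
    omega
  have hn : 1 + a * a + b * b + c * c + d * d + w * w + w * w ≤ (C : ℤ) := by
    simp [normSum, Fin.sum_univ_five, M12Ord40.cmp] at hnorm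
    nlinarith
  have q1 := mul_self_nonneg a
  have q2 := mul_self_nonneg b
  have q3 := mul_self_nonneg c
  have q4 := mul_self_nonneg d
  have q5 := mul_self_nonneg w
  have ha : a ∈ zvals 45 C :=
    mem_zvals (by linarith) hle (by simpa [M12Ord40.cmp, m12D] using hcls 0)
  have hb : b ∈ zvals 54 C :=
    mem_zvals (by linarith) hle (by simpa [M12Ord40.cmp, m12D] using hcls 1)
  have hc : c ∈ zvals 120 C :=
    mem_zvals (by linarith) hle (by simpa [M12Ord40.cmp, m12D] using hcls 2)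
  have hd : d ∈ zvals 144 C :=
    mem_zvals (by linarith) hle (by simpa [M12Ord40.cmp, m12D] using hcls 3)
  have hg : good C (a, b, c, d, 1 + a - b - c + d) = true := by
    rw [← hw]
    simp [good, hn, hp, hs, hr, hy]
  have h := List.all_eq_true.1 check_all C (mem_ccList hC)
  simp only [check, List.all_eq_true] at h
  have h := h a ha b hb c hc d hd
  rw [hg] at h
  simpa [← hw] using h

variable {G : Type*} [Group G]

theorem cc_dvd_pow [Finite G] (g : G) (k : ℕ) : cc g ∣ cc (g ^ k) := by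
  refine Subgroup.card_dvd_of_le fun x hx => ?_
  rw [Subgroup.mem_centralizer_singleton_iff] at hx ⊢
  exact ((show Commute x g from hx).pow_right k)

theorem prime_cases {p : ℕ} (hp : p.Prime) (h : p ∣ 95040) :
    p = 2 ∨ p = 3 ∨ p = 5 ∨ p = 11 := by
  rw [show (95040 : ℕ) = 2 ^ 6 * (3 ^ 3 * (5 * 11)) by norm_num] at h
  rcases hp.dvd_mul.1 h with h | h
  · exact Or.inl ((Nat.prime_dvd_prime_iff_eq hp Nat.prime_two).1 (hp.dvd_of_dvd_pow h))
  rcases hp.dvd_mul.1 h with h | h
  · exact Or.inr (Or.inl ((Nat.prime_dvd_prime_iff_eq hp Nat.prime_three).1 (hp.dvd_of_dvd_pow h)))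
  rcases hp.dvd_mul.1 h with h | h
  · exact Or.inr (Or.inr (Or.inl ((Nat.prime_dvd_prime_iff_eq hp Nat.prime_five).1 h)))
  · exact Or.inr (Or.inr (Or.inr ((Nat.prime_dvd_prime_iff_eq hp (by norm_num)).1 h)))

/-- Every value vector away from the identity is one of the twenty-one vectors. -/
theorem census_mem {G : Type*} [Group G] [Fintype G] {B : Blk G} (S : Search B) :
    ∀ g : G, g ≠ 1 → ¬ 11 ∣ orderOf g → B.val g ∈ vecList := by
  intro g hg1 h11
  have hcardG : Nat.card G = 95040 := B.eleven.card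
  have : Fact (Nat.Prime 2) := ⟨Nat.prime_two⟩
  have : Fact (Nat.Prime 5) := ⟨Nat.prime_five⟩
  -- the three special elements
  obtain ⟨y, hy⟩ := exists_prime_orderOf_dvd_card' (G := G) 5 (by rw [hcardG]; norm_num)
  obtain ⟨hycc, hyval⟩ := S.five y hy
  obtain ⟨⟨r, hry⟩, hr⟩ := exists_prime_orderOf_dvd_card'
    (G := Subgroup.centralizer ({y} : Set G)) 2
    (by rw [show Nat.card (Subgroup.centralizer ({y} : Set G)) = 10 from hycc]; norm_num)
  rw [Subgroup.orderOf_mk] at hr
  have hyr : y ∈ Subgroup.centralizer ({r} : Set G) :=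
    Subgroup.mem_centralizer_singleton_iff.2 (Subgroup.mem_centralizer_singleton_iff.1 hry).symm
  have hr5 : 5 ∣ cc r := hy ▸ Subgroup.orderOf_dvd_natCard _ hyr
  have hr120 : 120 ∣ cc r ∧ B.val r = (5, 6, 0, 4, 4) := by
    rcases S.invol r hr with ⟨e, -⟩ | ⟨e, v⟩
    · rw [e] at hr5; norm_num at hr5
    · refine ⟨?_, v⟩
      rcases e with e | e <;> rw [e]
      norm_num
  obtain ⟨s, hs, hscc⟩ := S.central
  have hsval : B.val s = (-3, 6, -8, 0, 0) := by
    rcases S.invol s hs with ⟨-, v⟩ | ⟨e, -⟩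
    · exact v
    · rcases e with e | e <;> omega
  -- the centraliser order
  have ho0 : orderOf g ≠ 0 := (orderOf_pos g).ne'
  have ho1 : orderOf g ≠ 1 := fun e => hg1 (orderOf_eq_one_iff.1 e)
  set p := (orderOf g).minFac with hpdef
  have hp : p.Prime := Nat.minFac_prime ho1
  have hpd : p ∣ orderOf g := Nat.minFac_dvd _
  have hh : orderOf (g ^ (orderOf g / p)) = p := orderOf_pow_orderOf_div ho0 hpd
  have hp95 : p ∣ 95040 := hcardG ▸ hpd.trans (orderOf_dvd_natCard g)
  have hdvd := cc_dvd_pow g (orderOf g / p)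
  have hC : cc g ∣ 192 ∨ cc g ∣ 240 ∨ cc g ∣ 54 ∨ cc g ∣ 36 := by
    rcases prime_cases hp hp95 with e | e | e | e <;> rw [e] at hh hdvd hpd
    · rcases S.invol _ hh with ⟨c, -⟩ | ⟨c | c, -⟩ <;> rw [c] at hdvd
      · exact Or.inl hdvd
      · exact Or.inr (Or.inl (hdvd.trans (by norm_num)))
      · exact Or.inr (Or.inl hdvd)
    · rcases (S.three _ hh).1 with c | c
      · exact Or.inr (Or.inr (Or.inl (hdvd.trans c)))
      · exact Or.inr (Or.inr (Or.inr (hdvd.trans c)))
    · rw [(S.five _ hh).1] at hdvd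
      exact Or.inr (Or.inl (hdvd.trans (by norm_num)))
    · exact absurd hpd h11
  -- the pair conditions
  have pair : ∀ (h : G) (K : ℕ) (v : Vec), ¬ 11 ∣ orderOf h → K ∣ cc h → B.val h = v →
      okPair (cc g) K (B.val g) v = true := by
    intro h K v hh' hK hv
    obtain ⟨a, ha⟩ := B.count g h h11 hh'
    rw [S.deg.1, S.deg.2, pairSum_m12, hv] at ha
    simp only [okPair, decide_eq_true_eq]
    refine ⟨?_, ?_⟩
    · rw [← ha]; positivity
    · have e : ((cc g * K : ℕ) : ℤ) ∣ ((cc g * cc h : ℕ) : ℤ) :=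
        Int.natCast_dvd_natCast.2 (Nat.mul_dvd_mul_left _ hK)
      rw [← ha]
      rw [Nat.cast_mul (cc g) (cc h)] at e
      rw [mul_assoc]
      exact dvd_mul_of_dvd_right e _
  have hrel := B.rel g h11
  rw [S.deg.2] at hrel
  refine search hC hrel (B.cent g h11) (fun i => S.deg.1 ▸ B.cls g h11 i)
    (pair g _ _ h11 dvd_rfl rfl) (pair s _ _ (by rw [hs]; norm_num) (dvd_of_eq hscc.symm) hsval)
    (pair r _ _ (by rw [hr]; norm_num) hr120.1 hr120.2)
    (pair y _ _ (by rw [hy]; norm_num) (dvd_of_eq hycc.symm) hyval)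

end Cfsg.Agent.M12Ord47Mem
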