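import Cfsg.Agent.Lib.M12Ord40Defs

/-!
Interface for the integrality of the principal 11-block in a group of order 95040: the integer data
left when conjugate characters are added.
-/

set_option autoImplicit false

namespace Cfsg.Agent.M12Ord47

open Cfsg.Agent

/-- Twice the degree in the slot `i`, nothing in the slot `j`, the degree elsewhere. -/
def mult (i j k : Fin 5) : ℤ :=
  if k = i then 2 else if k = j then 0 else 1

/-- The rational values at the involutions. -/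
structure Inv (G : Type*) [Group G] [Fintype G] where
  eleven : M12Ord40.Eleven G
  D : M12Ord40.Vec
  σ : M12Ord40.Vec
  row : (D, σ) ∈ M12Ord40.rows
  inv : G → M12Ord40.Vec
  rel : ∀ g : G, orderOf g = 2 → M12Ord40.relSum σ (inv g) = 0
  cent : ∀ g : G, orderOf g = 2 → M12Ord40.normSum (inv g) ≤ (M12Ord40.cc g : ℤ)
  cls : ∀ g : G, orderOf g = 2 → ∀ k : Fin 5,
    M12Ord40.cmp k D ∣ ((95040 / M12Ord40.cc g : ℕ) : ℤ) * M12Ord40.cmp k (inv g)
  four : ∀ g : G, orderOf g = 2 → ∀ k : Fin 5,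
    (4 : ℤ) ∣ M12Ord40.cmp k D - M12Ord40.cmp k (inv g)
  bound : ∀ g : G, orderOf g = 2 → ∀ k : Fin 5, |M12Ord40.cmp k (inv g)| < M12Ord40.cmp k D
  invs : ∀ g h : G, orderOf g = 2 → orderOf h = 2 →
    M12Ord40.pairSum D σ (inv g) (inv h) = 0

/-- Two slots agree at every involution. -/
def Inv.Equal {G : Type*} [Group G] [Fintype G] (I : Inv G) (i j : Fin 5) : Prop :=
  i ≠ j ∧ i ≠ 4 ∧ j ≠ 4 ∧ M12Ord40.cmp i I.D = M12Ord40.cmp j I.D ∧
    ∀ g : G, orderOf g = 2 → M12Ord40.cmp i (I.inv g) = M12Ord40.cmp j (I.inv g)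

/-- The integer values at the elements of order three and five after adding the slots `i`, `j`:
the slot `i` holds the sum, the slot `j` holds zero. -/
structure Merge (G : Type*) [Group G] [Fintype G] where
  I : Inv G
  i : Fin 5
  j : Fin 5
  equal : I.Equal i j
  val : G → M12Ord40.Vec
  zero : ∀ g : G, orderOf g = 3 ∨ orderOf g = 5 → M12Ord40.cmp j (val g) = 0
  rel : ∀ g : G, orderOf g = 3 ∨ orderOf g = 5 → M12Ord40.relSum I.σ (val g) = 0
  cent : ∀ g : G, orderOf g = 3 ∨ orderOf g = 5 →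
    2 * M12Ord40.normSum (val g) - M12Ord40.cmp i (val g) ^ 2 ≤ 2 * (M12Ord40.cc g : ℤ)
  cls : ∀ g : G, orderOf g = 3 ∨ orderOf g = 5 → ∀ k : Fin 5,
    M12Ord40.cmp k I.D ∣ ((95040 / M12Ord40.cc g : ℕ) : ℤ) * M12Ord40.cmp k (val g)
  eig : ∀ g : G, orderOf g = 3 ∨ orderOf g = 5 → ∀ k : Fin 5,
    (orderOf g : ℤ) ∣ mult i j k * M12Ord40.cmp k I.D - M12Ord40.cmp k (val g) ∧
      0 ≤ mult i j k * M12Ord40.cmp k I.D + ((orderOf g : ℤ) - 1) * M12Ord40.cmp k (val g)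
  bound : ∀ g : G, orderOf g = 3 ∨ orderOf g = 5 → ∀ k : Fin 5, k ≠ j →
    |M12Ord40.cmp k (val g)| < mult i j k * M12Ord40.cmp k I.D
  self : ∀ g : G, orderOf g = 3 ∨ orderOf g = 5 → M12Ord40.cmp i I.σ = -1 →
    0 ≤ 2 * M12Ord40.pairSum I.D I.σ (val g) (val g) -
      M12Ord40.cmp i I.σ * (95040 / M12Ord40.cmp i I.D) * M12Ord40.cmp i (val g) ^ 2
  count : ∀ g h : G, orderOf g = 3 ∨ orderOf g = 5 → orderOf h = 2 →
    ∃ a : ℕ, (a : ℤ) * M12Ord40.cc g * M12Ord40.cc h =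
      M12Ord40.pairSum I.D I.σ (val g) (I.inv h)

end Cfsg.Agent.M12Ord47
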