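import Cfsg.Agent.Lib.M12Ord47Swap

/-!
The finite search behind the integrality of the principal 11-block in a group of order 95040.
-/

set_option autoImplicit false
-- one kernel check at a time keeps the peak memory low
set_option Elab.async false

namespace Cfsg.Agent.M12Ord47

open Cfsg.Agent

/-- The class product sum, written out. -/
def psum : M12Ord40.Vec → M12Ord40.Vec → M12Ord40.Vec → M12Ord40.Vec → ℤ
  | (D0, D1, D2, D3, D4), (s0, s1, s2, s3, s4), (a, b, c, d, w), (a', b', c', d', w') =>
    95040 + s0 * a * a' * (95040 / D0) + s1 * b * b' * (95040 / D1) +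
      s2 * c * c' * (95040 / D2) + s3 * d * d' * (95040 / D3) + s4 * w * w' * (95040 / D4)

theorem pairSum_eq (D σ u v : M12Ord40.Vec) : M12Ord40.pairSum D σ u v = psum D σ u v := by
  obtain ⟨D0, D1, D2, D3, D4⟩ := D
  obtain ⟨s0, s1, s2, s3, s4⟩ := σ
  obtain ⟨a, b, c, d, w⟩ := u
  obtain ⟨a', b', c', d', w'⟩ := v
  simp [M12Ord40.pairSum, psum, Fin.sum_univ_five, M12Ord40.cmp]
  ring

/-- The squared length, written out. -/
def nsum : M12Ord40.Vec → ℤ
  | (a, b, c, d, w) => 1 + (a * a + b * b + c * c + d * d + w * w) + w * w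

theorem normSum_eq (v : M12Ord40.Vec) : M12Ord40.normSum v = nsum v := by
  obtain ⟨a, b, c, d, w⟩ := v
  simp [M12Ord40.normSum, nsum, Fin.sum_univ_five, M12Ord40.cmp]
  ring

/-- The signed sum, written out. -/
def rsum : M12Ord40.Vec → M12Ord40.Vec → ℤ
  | (s0, s1, s2, s3, s4), (a, b, c, d, w) => 1 + (s0 * a + s1 * b + s2 * c + s3 * d + s4 * w)

theorem relSum_eq (σ v : M12Ord40.Vec) : M12Ord40.relSum σ v = rsum σ v := by
  obtain ⟨s0, s1, s2, s3, s4⟩ := σ
  obtain ⟨a, b, c, d, w⟩ := v
  simp [M12Ord40.relSum, rsum, Fin.sum_univ_five, M12Ord40.cmp]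

/-- One more than the square root. -/
def width (B : ℕ) : ℕ :=
  (List.range 135).countP fun r => r * r ≤ B

/-- The test on one coordinate: multiple `m` of the degree `d`, modulus `p`. -/
def okc (C B : ℕ) (p m d x : ℤ) (e : ℤ) : Bool :=
  if m = 0 then decide (x = 0)
  else decide (x * x ≤ (B : ℤ) ∧ -(m * d) < x ∧ x < m * d ∧
    d ∣ ((95040 / C : ℕ) : ℤ) * x ∧ p ∣ m * d - x ∧ 0 ≤ m * d + e * x)

/-- The possible values of one coordinate. -/
def coords (C B : ℕ) (p m d : ℤ) (e : ℤ) : List ℤ :=
  let w := width B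
  ((List.range (2 * w - 1)).map fun k : ℕ => (k : ℤ) - ((w : ℤ) - 1)).filter
    fun x => okc C B p m d x e

/-- All vectors passing the coordinate tests, the last entry read from the relation. -/
def vecs (D σ : M12Ord40.Vec) (C B : ℕ) (p e : ℤ) (m : Fin 5 → ℤ) : List M12Ord40.Vec :=
  (coords C B p (m 0) (M12Ord40.cmp 0 D) e).flatMap fun a =>
    (coords C B p (m 1) (M12Ord40.cmp 1 D) e).flatMap fun b =>
      (coords C B p (m 2) (M12Ord40.cmp 2 D) e).flatMap fun c =>
        (coords C B p (m 3) (M12Ord40.cmp 3 D) e).filterMap fun d =>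
          let w := -M12Ord40.cmp 4 σ * (1 + (M12Ord40.cmp 0 σ * a + M12Ord40.cmp 1 σ * b +
            M12Ord40.cmp 2 σ * c + M12Ord40.cmp 3 σ * d))
          if okc C B p (m 4) (M12Ord40.cmp 4 D) w e = true then some (a, b, c, d, w) else none

/-- Candidates at an involution. -/
def invVecs (D σ : M12Ord40.Vec) (Cs : List ℕ) : List (ℕ × M12Ord40.Vec) :=
  Cs.flatMap fun C => ((vecs D σ C C 4 1 fun _ => 1).filter fun v =>
    decide (nsum v ≤ (C : ℤ) ∧ psum D σ v v = 0)).map fun v => (C, v)

/-- Candidates at an element of order `p` after adding the slots `i` and `j`. -/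
def mergeVecs (D σ : M12Ord40.Vec) (i j : Fin 5) (p : ℤ) (Cs : List ℕ) :
    List (ℕ × M12Ord40.Vec) :=
  Cs.flatMap fun C => ((vecs D σ C (2 * C) p (p - 1) (mult i j)).filter fun v =>
    decide (2 * nsum v - M12Ord40.cmp i v * M12Ord40.cmp i v ≤ 2 * (C : ℤ) ∧
      (M12Ord40.cmp i σ = -1 → 0 ≤ 2 * psum D σ v v -
        M12Ord40.cmp i σ * (95040 / M12Ord40.cmp i D) * (M12Ord40.cmp i v * M12Ord40.cmp i v)))).map
    fun v => (C, v)

/-- The count against an involution. -/
def okCount (D σ : M12Ord40.Vec) (g h : ℕ × M12Ord40.Vec) : Bool :=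
  let x := psum D σ g.2 h.2
  decide (0 ≤ x ∧ ((g.1 * h.1 : ℕ) : ℤ) ∣ x)

/-- The centraliser orders of the central involutions. -/
def centralOrders : List ℕ := [64, 192, 320, 576, 960, 1728, 2880, 8640]

/-- The centraliser orders of the involutions commuting with an element of order five. -/
def fiveInvOrders : List ℕ :=
  [10, 20, 30, 40, 60, 80, 90, 120, 160, 180, 240, 270, 320, 360, 480, 540, 720, 960, 1080,
    1440, 2160, 2880, 4320, 8640]

/-- The centraliser orders of the elements of order five. -/
def fiveOrders : List ℕ := [10, 20, 45, 60, 120, 135, 270, 360, 720, 2160, 4320]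

/-- The centraliser orders of the elements of order three commuting with one of order five. -/
def threeOrders : List ℕ :=
  [15, 30, 45, 60, 90, 120, 135, 180, 240, 270, 360, 480, 540, 720, 960, 1080, 1440, 2160,
    2880, 4320, 8640]

/-- The ordered pairs of different non-exceptional slots. -/
def slotPairs : List (Fin 5 × Fin 5) :=
  [(0, 1), (0, 2), (0, 3), (1, 2), (1, 3), (2, 3), (1, 0), (2, 0), (3, 0), (2, 1), (3, 1), (3, 2)]

/-- Two slots of equal degree and equal value. -/
def eqSlots (D v : M12Ord40.Vec) (q : Fin 5 × Fin 5) : Bool :=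
  decide (M12Ord40.cmp q.1 D = M12Ord40.cmp q.2 D) &&
    decide (M12Ord40.cmp q.1 v = M12Ord40.cmp q.2 v)

/-- At a central involution at most one pair of slots agrees. -/
def checkOne (D σ : M12Ord40.Vec) : Bool :=
  (invVecs D σ centralOrders).all fun z => slotPairs.all fun q => slotPairs.all fun q' =>
    !(eqSlots D z.2 q && eqSlots D z.2 q') || decide (q' = q ∨ q' = (q.2, q.1))

/-- No element of order five fits. -/
def checkFive (D σ : M12Ord40.Vec) (q : Fin 5 × Fin 5) (z : ℕ × M12Ord40.Vec)
    (R T Y : List (ℕ × M12Ord40.Vec)) : Bool :=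
  Y.all fun y => !(okCount D σ y z) ||
    (decide (2 ∣ y.1) &&
      R.all fun r => !(eqSlots D r.2 q && decide (psum D σ z.2 r.2 = 0) && okCount D σ y r)) ||
    (decide (3 ∣ y.1) && T.all fun t => !(okCount D σ t z))

/-- No pair of slots can be swapped. -/
def checkMerge (D σ : M12Ord40.Vec) : Bool :=
  slotPairs.all fun q => decide (M12Ord40.cmp q.1 D ≠ M12Ord40.cmp q.2 D) ||
    ((invVecs D σ centralOrders).filter fun z => eqSlots D z.2 q).all fun z =>
      checkFive D σ q z (invVecs D σ fiveInvOrders) (mergeVecs D σ q.1 q.2 3 threeOrders)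
        (mergeVecs D σ q.1 q.2 5 fiveOrders)

theorem checkOne_part0 :
    ((M12Ord40.rows.drop 0).take 7).all (fun r => checkOne r.1 r.2) = true := by
  decide +kernel

theorem checkOne_part1 :
    ((M12Ord40.rows.drop 7).take 7).all (fun r => checkOne r.1 r.2) = true := by
  decide +kernel

theorem checkOne_part2 :
    ((M12Ord40.rows.drop 14).take 6).all (fun r => checkOne r.1 r.2) = true := by
  decide +kernel

theorem checkOne_part3 :
    ((M12Ord40.rows.drop 20).take 7).all (fun r => checkOne r.1 r.2) = true := by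
  decide +kernel

theorem checkOne_rows : M12Ord40.rows.all (fun r => checkOne r.1 r.2) = true := by
  have e : M12Ord40.rows = (M12Ord40.rows.drop 0).take 7 ++ (M12Ord40.rows.drop 7).take 7 ++
      (M12Ord40.rows.drop 14).take 6 ++ (M12Ord40.rows.drop 20).take 7 := by
    decide +kernel
  rw [e, List.all_append, List.all_append, List.all_append, checkOne_part0, checkOne_part1,
    checkOne_part2, checkOne_part3]
  rfl

theorem checkMerge_part0 :
    ((M12Ord40.rows.drop 0).take 7).all (fun r => checkMerge r.1 r.2) = true := by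
  decide +kernel

theorem checkMerge_part1 :
    ((M12Ord40.rows.drop 7).take 7).all (fun r => checkMerge r.1 r.2) = true := by
  decide +kernel

theorem checkMerge_part2 :
    ((M12Ord40.rows.drop 14).take 6).all (fun r => checkMerge r.1 r.2) = true := by
  decide +kernel

theorem checkMerge_part3 :
    ((M12Ord40.rows.drop 20).take 7).all (fun r => checkMerge r.1 r.2) = true := by
  decide +kernel

theorem checkMerge_rows : M12Ord40.rows.all (fun r => checkMerge r.1 r.2) = true := by
  have e : M12Ord40.rows = (M12Ord40.rows.drop 0).take 7 ++ (M12Ord40.rows.drop 7).take 7 ++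
      (M12Ord40.rows.drop 14).take 6 ++ (M12Ord40.rows.drop 20).take 7 := by
    decide +kernel
  rw [e, List.all_append, List.all_append, List.all_append, checkMerge_part0, checkMerge_part1,
    checkMerge_part2, checkMerge_part3]
  rfl

end Cfsg.Agent.M12Ord47
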