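import Cfsg.Agent.Lib.M12Ord40Raw

/-!
The characters of the principal 11-block of a group of order 95040, before rationality is known.
-/

set_option autoImplicit false

namespace Cfsg.Agent.M12Ord88

open Cfsg.Agent.M12Ord40

/-- The fields of `M12Ord40.Raw` except the integrality of the values. -/
structure Pre (G : Type*) [Group G] [Fintype G] where
  eleven : Eleven G
  D : Vec
  σ : Vec
  row : (D, σ) ∈ rows
  χ : Fin 5 → Cfsg.IrrCharacter G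
  θ : Cfsg.IrrCharacter G
  inj : Function.Injective χ
  other : ∀ i, χ i ≠ θ
  nontriv : ∀ i, (χ i : G → ℂ) ≠ fun _ => 1
  nontrivθ : (θ : G → ℂ) ≠ fun _ => 1
  deg : ∀ i, (χ i : G → ℂ) 1 = ((cmp i D : ℤ) : ℂ)
  agree : ∀ g : G, ¬ 11 ∣ orderOf g → (θ : G → ℂ) g = (χ 4 : G → ℂ) g
  rel : ∀ g : G, ¬ 11 ∣ orderOf g →
    (1 : ℂ) + ∑ i : Fin 5, ((cmp i σ : ℤ) : ℂ) * (χ i : G → ℂ) g = 0
  atEleven : ∀ x : G, orderOf x = 11 → ∀ i : Fin 5, i ≠ 4 →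
    (χ i : G → ℂ) x = ((cmp i σ : ℤ) : ℂ)
  excEleven : ∀ x : G, orderOf x = 11 →
    (χ 4 : G → ℂ) x + (θ : G → ℂ) x = ((cmp 4 σ : ℤ) : ℂ)
  outside : ∀ ψ : Cfsg.IrrCharacter G, (ψ : G → ℂ) ≠ (fun _ => 1) → (∀ i, ψ ≠ χ i) → ψ ≠ θ →
    ∀ x : G, orderOf x = 11 → (ψ : G → ℂ) x = 0

end Cfsg.Agent.M12Ord88
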