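import Cfsg.Agent.Lib.DixonSchurBound16
import Cfsg.Agent.Lib.DihedralBound81
import Cfsg.Agent.Lib.Simple720
import Mathlib.RingTheory.RootsOfUnity.AlgebraicallyClosed

/-!
# Rational valued irreducible characters of simple groups

Integrality, multiplicities on cyclic subgroups through the values on their subgroups, and the
consequences for a character of degree less than `2 * (q - 1)`.
-/

set_option autoImplicit false
set_option linter.unusedSectionVars false
set_option linter.style.haveILetI false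

open scoped ComplexConjugate
open Finset

attribute [local instance] Classical.propDecidable

namespace Cfsg.Agent.NineRat7

open Cfsg Cfsg.Agent.CharBasic Cfsg.Agent.CharBasicOrth Cfsg.Agent.CharBasicDecomp

universe u

variable {G : Type u} [Group G] [Finite G]

/-- A rational valued irreducible character of degree at least two. -/
structure Rat (χ : IrrCharacter G) (d : ℕ) : Prop where
  deg : (χ : G → ℂ) 1 = d
  two_le : 2 ≤ d
  inv : ∀ k : ℕ, k.Coprime (Nat.card G) → ∀ g, (χ : G → ℂ) (g ^ k) = (χ : G → ℂ) g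

theorem exists_coprime_lift {n N j : ℕ} (hn : n ∣ N) (hN : N ≠ 0) (hj : j.Coprime n) :
    ∃ k, k.Coprime N ∧ k ≡ j [MOD n] := by
  haveI : NeZero N := ⟨hN⟩
  obtain ⟨u, hu⟩ := ZMod.unitsMap_surjective hn (ZMod.unitOfCoprime j hj)
  refine ⟨(u : ZMod N).val, ZMod.val_coe_unit_coprime u, ?_⟩
  have h := congrArg (fun v : (ZMod n)ˣ => (v : ZMod n)) hu
  simp only [ZMod.unitsMap_def, Units.coe_map, ZMod.coe_unitOfCoprime] at h
  rw [← ZMod.natCast_eq_natCast_iff, ← h]
  simp [ZMod.natCast_val]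

variable {χ : IrrCharacter G} {d : ℕ} (h : Rat χ d)

include h

theorem Rat.pow_inv {g : G} {j : ℕ} (hj : j.Coprime (orderOf g)) :
    (χ : G → ℂ) (g ^ j) = (χ : G → ℂ) g := by
  obtain ⟨k, hk, hkj⟩ := exists_coprime_lift (orderOf_dvd_natCard g) Nat.card_pos.ne' hj
  rw [show g ^ j = g ^ k from pow_eq_pow_iff_modEq.2 hkj.symm]
  exact h.inv k hk g

theorem Rat.pow_gcd (g : G) (j : ℕ) :
    (χ : G → ℂ) (g ^ j) = (χ : G → ℂ) (g ^ Nat.gcd j (orderOf g)) := by
  set n := orderOf g with hn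
  have hn0 : 0 < n := orderOf_pos g
  set m := Nat.gcd j n with hm
  have hm0 : 0 < m := Nat.gcd_pos_of_pos_right _ hn0
  obtain ⟨r, hr⟩ : m ∣ j := Nat.gcd_dvd_left j n
  have ho : orderOf (g ^ m) = n / m := orderOf_pow_of_dvd hm0.ne' (Nat.gcd_dvd_right j n)
  rw [hr, pow_mul]
  refine h.pow_inv ?_
  rw [ho, show r = j / m by rw [hr, Nat.mul_div_cancel_left _ hm0]]
  exact Nat.coprime_div_gcd_div_gcd hm0

theorem Rat.exists_int (g : G) : ∃ z : ℤ, (χ : G → ℂ) g = z := by
  suffices ∀ (n : ℕ) (g : G), orderOf g = n → ∃ z : ℤ, (χ : G → ℂ) g = z from this _ g rfl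
  intro n
  induction n using Nat.strong_induction_on with
  | _ n ih =>
    intro g hn
    have hn0 : 0 < n := hn ▸ orderOf_pos g
    obtain ⟨N, hN⟩ := DixonSchurBound.sum_pow_char (isCharacter_of_isIrrCharacter χ.2) g
    rw [hn] at hN
    set S := (range n).filter fun j => j.Coprime n with hS
    have hrest : ∃ z : ℤ, ∑ j ∈ (range n).filter (fun j => ¬ j.Coprime n),
        (χ : G → ℂ) (g ^ j) = z := by
      refine Finset.sum_induction _ (fun x : ℂ => ∃ z : ℤ, x = z)
        (fun x y ⟨a, ha⟩ ⟨b, hb⟩ => ⟨a + b, by rw [ha, hb]; push_cast; rfl⟩) ⟨0, by simp⟩ ?_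
      intro j hj
      obtain ⟨-, hj⟩ := mem_filter.1 hj
      refine ih (orderOf (g ^ j)) ?_ _ rfl
      rw [orderOf_pow, hn]
      refine Nat.div_lt_self hn0 ?_
      rw [Nat.gcd_comm]
      have := Nat.gcd_pos_of_pos_right j hn0
      have : Nat.gcd j n ≠ 1 := hj
      omega
    obtain ⟨z, hz⟩ := hrest
    have hcop : ∑ j ∈ S, (χ : G → ℂ) (g ^ j) = S.card * (χ : G → ℂ) g := by
      rw [sum_congr rfl (fun j hj => h.pow_inv (g := g) (by rw [hn]; exact (mem_filter.1 hj).2)),
        sum_const, nsmul_eq_mul]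
    rw [← sum_filter_add_sum_filter_not (range n) (fun j => j.Coprime n), hcop, hz] at hN
    have hS0 : S.card ≠ 0 := by
      rw [Finset.card_ne_zero]
      rcases Nat.lt_or_ge 1 n with h1 | h1
      · exact ⟨1, mem_filter.2 ⟨mem_range.2 h1, Nat.coprime_one_left n⟩⟩
      · exact ⟨0, mem_filter.2 ⟨mem_range.2 hn0, by simp [Nat.Coprime]; omega⟩⟩
    have hrat : (χ : G → ℂ) g = ((((n * N : ℕ) : ℤ) - z : ℤ) / (S.card : ℤ) : ℚ) := by
      push_cast
      rw [eq_div_iff (Nat.cast_ne_zero.2 hS0)]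
      linear_combination hN
    have hint := isCharacter_integral (isCharacter_of_isIrrCharacter χ.2) g
    rw [hrat] at hint
    have hq := (isIntegral_algebraMap_iff (R := ℤ) (B := ℂ) (algebraMap ℚ ℂ).injective).1
      (show IsIntegral ℤ (algebraMap ℚ ℂ ((((n * N : ℕ) : ℤ) - z : ℤ) / (S.card : ℤ))) by
        simpa using hint)
    obtain ⟨a, ha⟩ := IsIntegrallyClosed.algebraMap_eq_of_integral hq
    exact ⟨a, by rw [hrat, ← ha]; simp⟩

theorem Rat.abs_le {g : G} {z : ℤ} (hz : (χ : G → ℂ) g = z) : -(d : ℤ) ≤ z ∧ z ≤ d := by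
  have hb := isCharacter_norm_le (isCharacter_of_isIrrCharacter χ.2) g
  rw [hz, h.deg, Complex.natCast_re, Complex.norm_intCast] at hb
  have : |z| ≤ (d : ℤ) := by exact_mod_cast hb
  exact _root_.abs_le.1 this

theorem Rat.ne_deg [IsSimpleGroup G] {g : G} (hg : g ≠ 1) {z : ℤ} (hz : (χ : G → ℂ) g = z) :
    z ≠ d := by
  intro e
  refine DihedralBound81.apply_ne_apply_one hg χ h.deg h.two_le ?_
  rw [hz, h.deg, e]
  norm_num

theorem Rat.ne_neg_deg [IsSimpleGroup G] (hG : ¬ IsMulCommutative G) {g : G} (hg : g ≠ 1)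
    {z : ℤ} (hz : (χ : G → ℂ) g = z) : z ≠ -(d : ℤ) := by
  intro e
  obtain ⟨n, ρ, hρi, hρ⟩ := χ.2
  have hd : (Module.finrank ℂ (Fin n → ℂ) : ℂ) = d := by
    rw [← Representation.char_one ρ, hρ, h.deg]
  have hdn : Module.finrank ℂ (Fin n → ℂ) = d := by exact_mod_cast hd
  obtain ⟨ω, hω, -⟩ := exists_scalar_of_norm_eq ρ g (by
    rw [hρ, hz, e, hdn, Complex.norm_intCast]
    simp)
  have hcen : g ∈ Subgroup.center G := by
    rw [Subgroup.mem_center_iff]
    intro x
    rw [← inv_mul_eq_one]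
    by_contra hne
    refine DihedralBound81.apply_ne_apply_one hne χ h.deg h.two_le ?_
    rw [← hρ, Representation.char_one]
    refine (character_eq_finrank_iff ρ _).2 ?_
    have hcomm : ρ (x * g) = ρ (g * x) := by
      rw [map_mul, map_mul, hω]
      refine LinearMap.ext fun v => ?_
      simp
    rw [map_mul]
    have : ρ ((x * g)⁻¹) * ρ (x * g) = 1 := by rw [← map_mul, inv_mul_cancel, map_one]
    rw [hcomm] at this
    exact this
  rcases SimpleOrder.eq_bot_or_top (inferInstance : (Subgroup.center G).Normal) with hb | ht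
  · rw [hb, Subgroup.mem_bot] at hcen
    exact hg hcen
  · exact hG ⟨⟨fun a b => (Subgroup.mem_center_iff.1 (ht ▸ Subgroup.mem_top b) a)⟩⟩

theorem Rat.involution [IsSimpleGroup G] (hG : ¬ IsMulCommutative G) {w : G}
    (hw : orderOf w = 2) {z : ℤ} (hz : (χ : G → ℂ) w = z) : (4 : ℤ) ∣ (d : ℤ) - z := by
  obtain ⟨a, ha, h4⟩ := Simple720.exists_invol_value (Simple720.commutator_eq_top hG)
    (isCharacter_of_isIrrCharacter χ.2) h.deg hw
  rwa [show z = a by exact_mod_cast hz.symm.trans ha]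

/-- The sum of a character over a subgroup. -/
theorem Rat.sum_subgroup (H : Subgroup G) [Fintype H] :
    ∃ N : ℕ, ∑ x : H, (χ : G → ℂ) x = Nat.card H * N :=
  DixonSchurBound.sum_char (isCharacter_comap H.subtype (isCharacter_of_isIrrCharacter χ.2))

/-- The multiplicity of a linear character on a cyclic group, from a decomposition of the values
along divisors. -/
theorem Rat.mult_eq (g : G) {n m : ℕ} (hn : orderOf g = n) (hm : m ∣ n) (c : ℕ → ℤ)
    (hc : ∀ k ∈ n.divisors, (χ : G → ℂ) (g ^ k) = ((∑ i ∈ k.divisors, c i : ℤ) : ℂ)) :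
    ∃ N : ℕ, (n : ℤ) * N =
      ∑ i ∈ n.divisors, if m ∣ i then c i * ((n / i : ℕ) : ℤ) else 0 := by
  have hn0 : 0 < n := hn ▸ orderOf_pos g
  haveI : NeZero (m : ℂ) := ⟨Nat.cast_ne_zero.2 fun e => hn0.ne' (zero_dvd_iff.1 (e ▸ hm))⟩
  obtain ⟨ω, hω⟩ := HasEnoughRootsOfUnity.exists_primitiveRoot ℂ m
  have hωn : ω ^ n = 1 := by
    obtain ⟨r, rfl⟩ := hm
    rw [pow_mul, hω.pow_eq_one, one_pow]
  let ωu : ℂˣ := Units.mk0 ω (hω.ne_zero fun e => hn0.ne' (zero_dvd_iff.1 (e ▸ hm)))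
  have hωu : orderOf ωu ∣ orderOf (⟨g, Subgroup.mem_zpowers g⟩ : Subgroup.zpowers g) := by
    rw [← Subgroup.orderOf_coe, hn]
    exact orderOf_dvd_of_pow_eq_one (Units.ext (by simpa [ωu] using hωn))
  let φ : Subgroup.zpowers g →* ℂˣ := monoidHomOfForallMemZpowers (g := ⟨g, Subgroup.mem_zpowers g⟩)
    (fun x => by
      obtain ⟨k, hk⟩ := Subgroup.mem_zpowers_iff.1 x.2
      exact Subgroup.mem_zpowers_iff.2 ⟨k, Subtype.ext (by simpa using hk)⟩) hωu
  haveI := Fintype.ofFinite (Subgroup.zpowers g)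
  obtain ⟨N, hN⟩ := DixonSchurBound.sum_char (isCharacter_mul
    (isCharacter_comap (Subgroup.zpowers g).subtype (isCharacter_of_isIrrCharacter χ.2))
    (isCharacter_linear φ))
  refine ⟨N, ?_⟩
  rw [Nat.card_zpowers, ← Equiv.sum_comp (finEquivZPowers (isOfFinOrder_of_finite g))] at hN
  simp only [Pi.mul_apply, Function.comp_apply, finEquivZPowers_apply, Subgroup.coe_subtype] at hN
  have hφ : ∀ j : ℕ, (φ ⟨g ^ j, j, by simp⟩ : ℂ) = ω ^ j := by
    intro j
    rw [show (⟨g ^ j, j, by simp⟩ : Subgroup.zpowers g) = ⟨g, Subgroup.mem_zpowers g⟩ ^ j from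
      Subtype.ext (by simp), map_pow, monoidHomOfForallMemZpowers_apply_gen, Units.val_pow_eq_pow_val]
    rfl
  rw [Fintype.sum_congr _ (fun j : Fin (orderOf g) => (χ : G → ℂ) (g ^ (j : ℕ)) * ω ^ (j : ℕ))
    (fun j => by rw [← hφ j]), hn] at hN
  rw [← Finset.sum_range (n := n) fun j => (χ : G → ℂ) (g ^ j) * ω ^ j] at hN
  have hval : ∀ j, (χ : G → ℂ) (g ^ j) = ∑ i ∈ n.divisors, if i ∣ j then (c i : ℂ) else 0 := by
    intro j
    rw [h.pow_gcd g j, hn, hc _ (Nat.mem_divisors.2 ⟨Nat.gcd_dvd_right _ _, hn0.ne'⟩),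
      ← Finset.sum_filter]
    push_cast
    refine Finset.sum_congr (Finset.ext fun i => ?_) fun _ _ => rfl
    simp only [Nat.mem_divisors, mem_filter, Nat.dvd_gcd_iff]
    have := Nat.gcd_pos_of_pos_right j hn0
    constructor
    · rintro ⟨⟨h1, h2⟩, -⟩; exact ⟨⟨h2, hn0.ne'⟩, h1⟩
    · rintro ⟨⟨h2, -⟩, h1⟩; exact ⟨⟨h1, h2⟩, this.ne'⟩
  simp only [hval, Finset.sum_mul] at hN
  rw [Finset.sum_comm] at hN
  have hinner : ∀ i ∈ n.divisors, (∑ j ∈ range n, (if i ∣ j then (c i : ℂ) else 0) * ω ^ j) =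
      ((if m ∣ i then c i * ((n / i : ℕ) : ℤ) else 0 : ℤ) : ℂ) := by
    intro i hi
    obtain ⟨hin, -⟩ := Nat.mem_divisors.1 hi
    have hi0 : 0 < i := Nat.pos_of_dvd_of_pos hin hn0
    obtain ⟨r, hr⟩ := hin
    have himg : (range n).filter (fun j => i ∣ j) = (range r).image (fun s => i * s) := by
      ext j
      simp only [mem_filter, mem_range, mem_image]
      constructor
      · rintro ⟨hj, s, rfl⟩
        exact ⟨s, Nat.lt_of_mul_lt_mul_left (a := i) (hr ▸ hj), rfl⟩
      · rintro ⟨s, hs, rfl⟩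
        exact ⟨hr ▸ Nat.mul_lt_mul_of_pos_left hs hi0, dvd_mul_right _ _⟩
    simp only [ite_mul, zero_mul]
    rw [← Finset.sum_filter, himg, Finset.sum_image fun a _ b _ e => Nat.eq_of_mul_eq_mul_left hi0 e,
      ← Finset.mul_sum, hr, Nat.mul_div_cancel_left _ hi0]
    simp only [pow_mul]
    split_ifs with hmi
    · rw [Finset.sum_congr rfl fun s _ => by rw [(hω.pow_eq_one_iff_dvd i).2 hmi, one_pow],
        sum_const, card_range, nsmul_one]
      push_cast
      rfl
    · have hne : ω ^ i ≠ 1 := fun e => hmi ((hω.pow_eq_one_iff_dvd i).1 e)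
      rw [geom_sum_eq hne, ← pow_mul, ← hr, hωn, sub_self, zero_div, mul_zero, Int.cast_zero]
  rw [Finset.sum_congr rfl hinner, ← Int.cast_sum] at hN
  exact_mod_cast hN.symm

/-- The value at an element of prime order `q` when the degree is less than `2 * (q - 1)`. -/
theorem Rat.prime_order [IsSimpleGroup G] {q : ℕ} (hq : q.Prime) (hd : d + 2 < 2 * q)
    {u : G} (hu : orderOf u = q) : (χ : G → ℂ) u = ((d : ℤ) - q : ℤ) := by
  obtain ⟨v, hv⟩ := h.exists_int u
  have hne : u ≠ 1 := fun e => hq.one_lt.ne (by rw [← hu, e, orderOf_one])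
  set c : ℕ → ℤ := fun i => if i = 1 then v else (d : ℤ) - v with hc
  have hdiv : q.divisors = {1, q} := hq.divisors
  have hc' : ∀ k ∈ q.divisors, (χ : G → ℂ) (u ^ k) = ((∑ i ∈ k.divisors, c i : ℤ) : ℂ) := by
    intro k hk
    rw [hdiv, mem_insert, mem_singleton] at hk
    rcases hk with rfl | rfl
    · simp [hc, hv]
    · rw [← hu, pow_orderOf_eq_one, h.deg, hu, hdiv, Finset.sum_pair hq.one_lt.ne]
      simp [hc, hq.one_lt.ne']
  obtain ⟨N, hN⟩ := h.mult_eq u hu dvd_rfl c hc'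
  obtain ⟨N₀, hN₀⟩ := h.mult_eq u hu (one_dvd q) c hc'
  rw [hdiv, Finset.sum_pair hq.one_lt.ne] at hN hN₀
  simp only [hc, hq.ne_one, if_false, if_true, Nat.dvd_one, dvd_refl, one_dvd,
    Nat.div_one, Nat.div_self hq.pos, Nat.cast_one, mul_one, zero_add] at hN hN₀
  have hN1 : N ≠ 0 := by
    rintro rfl
    exact h.ne_deg hne hv (by push_cast at hN; linarith)
  have hsum : (N₀ : ℤ) + ((q : ℤ) - 1) * N = d := by
    refine mul_left_cancel₀ (Int.natCast_ne_zero.2 hq.ne_zero) ?_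
    linear_combination hN₀ + ((q : ℤ) - 1) * hN
  have hq2 := hq.two_le
  have hN2 : N = 1 := by
    by_contra hne1
    have h2 : (2 : ℤ) ≤ N := by omega
    have h3 : ((q : ℤ) - 1) * 2 ≤ ((q : ℤ) - 1) * N := mul_le_mul_of_nonneg_left h2 (by omega)
    omega
  rw [hv, show v = (d : ℤ) - q by subst hN2; push_cast at hN; linarith]

/-- There is no subgroup of order `q ^ 2`. -/
theorem Rat.not_sq_dvd [IsSimpleGroup G] {q : ℕ} (hq : q.Prime) (hd : d + 2 < 2 * q) :
    ¬ q ^ 2 ∣ Nat.card G := by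
  intro hdvd
  haveI : Fact q.Prime := ⟨hq⟩
  obtain ⟨H, hH⟩ := Sylow.exists_subgroup_card_pow_prime q hdvd
  have hq1 : ¬ (q : ℤ) ^ 2 ∣ (q : ℤ) := fun e => by
    have h1 := Int.le_of_dvd (by exact_mod_cast hq.pos) e
    have : q < q ^ 2 := by have := hq.two_le; nlinarith
    have : q ^ 2 ≤ q := by exact_mod_cast h1
    omega
  by_cases hx : ∃ x : H, orderOf x = q ^ 2
  · obtain ⟨x, hx⟩ := hx
    rw [← Subgroup.orderOf_coe] at hx
    set g : G := (x : G) with hg
    have hgq : orderOf (g ^ q) = q := by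
      rw [orderOf_pow_of_dvd hq.ne_zero (hx ▸ dvd_pow_self q two_ne_zero), hx, pow_two,
        Nat.mul_div_cancel _ hq.pos]
    obtain ⟨v', hv'⟩ := h.exists_int g
    have hv := h.prime_order hq hd hgq
    set c : ℕ → ℤ := fun i => if i = 1 then v' else if i = q then (d : ℤ) - q - v' else q with hc
    have hq2 : 1 < q ^ 2 := Nat.one_lt_pow two_ne_zero hq.one_lt
    have hqq : q ≠ q ^ 2 := fun e => by have := hq.two_le; nlinarith
    have hdiv : (q ^ 2).divisors = {1, q, q ^ 2} := by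
      ext i
      rw [Nat.mem_divisors_prime_pow hq]
      simp only [mem_insert, mem_singleton]
      constructor
      · rintro ⟨j, hj, rfl⟩
        interval_cases j <;> simp
      · rintro (rfl | rfl | rfl)
        exacts [⟨0, by norm_num, by simp⟩, ⟨1, by norm_num, by simp⟩, ⟨2, le_rfl, rfl⟩]
    have hc1 : c 1 = v' := by simp [hc]
    have hcq : c q = (d : ℤ) - q - v' := by simp [hc, hq.ne_one]
    have hcq2 : c (q ^ 2) = q := by simp [hc, hq.ne_one, hqq.symm]
    have hc' : ∀ k ∈ (q ^ 2).divisors, (χ : G → ℂ) (g ^ k) = ((∑ i ∈ k.divisors, c i : ℤ) : ℂ) := by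
      intro k hk
      rw [hdiv, mem_insert, mem_insert, mem_singleton] at hk
      rcases hk with rfl | rfl | rfl
      · simp [hc1, hv']
      · rw [hv, hq.divisors, Finset.sum_pair hq.one_lt.ne, hc1, hcq]
        push_cast; ring
      · rw [← hx, pow_orderOf_eq_one, h.deg, hx, hdiv, Finset.sum_insert (by
          simp [hq.one_lt.ne, hq2.ne]), Finset.sum_pair hqq, hc1, hcq, hcq2]
        push_cast; ring
    obtain ⟨N, hN⟩ := h.mult_eq g hx dvd_rfl c hc'
    rw [hdiv, Finset.sum_insert (by simp [hq.one_lt.ne, hq2.ne]), Finset.sum_pair hqq,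
      if_neg (by simpa using hq.ne_one), if_neg (fun e => by
        have := Nat.le_of_dvd hq.pos e; have := hq.two_le; nlinarith), if_pos dvd_rfl, hcq2,
      Nat.div_self (by positivity), Nat.cast_one, mul_one, zero_add, zero_add] at hN
    push_cast at hN
    exact hq1 ⟨N, hN.symm⟩
  · push Not at hx
    haveI := Fintype.ofFinite H
    obtain ⟨N, hN⟩ := h.sum_subgroup H
    rw [← Finset.add_sum_erase _ _ (Finset.mem_univ (1 : H)), OneMemClass.coe_one, h.deg,
      Finset.sum_congr rfl (g := fun _ => (((d : ℤ) - q : ℤ) : ℂ)) (fun y hy => ?_), sum_const,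
      card_erase_of_mem (mem_univ _), card_univ, ← Nat.card_eq_fintype_card, hH, nsmul_eq_mul,
      Nat.cast_sub (Nat.one_le_pow _ _ hq.pos)] at hN
    · have hN' : (d : ℤ) + ((q : ℤ) ^ 2 - 1) * ((d : ℤ) - q) = (q : ℤ) ^ 2 * N := by
        push_cast at hN
        exact_mod_cast hN
      exact hq1 ⟨(N : ℤ) - d + q, by linear_combination hN'⟩
    · refine h.prime_order hq hd ?_
      have hy1 : y ≠ 1 := ne_of_mem_erase hy
      obtain ⟨j, hj, hj'⟩ := (Nat.dvd_prime_pow hq).1 (hH ▸ orderOf_dvd_natCard y)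
      interval_cases j
      · exact absurd (orderOf_eq_one_iff.1 (by rw [hj', pow_zero])) hy1
      · rw [Subgroup.orderOf_coe, hj', pow_one]
      · exact absurd hj' (hx y)

/-- The product over the possible values is a multiple of the group order. -/
theorem Rat.card_dvd_prod (s : Finset ℤ)
    (hs : ∀ g : G, g ≠ 1 → ∃ z ∈ s, (χ : G → ℂ) g = (z : ℂ)) :
    (Nat.card G : ℤ) ∣ ∏ z ∈ s, ((d : ℤ) - z) := by
  haveI := Fintype.ofFinite G
  have hθ : ∀ t : Finset ℤ, IsGeneralizedCharacter G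
      fun g => ∏ z ∈ t, ((χ : G → ℂ) g - (z : ℂ)) := by
    intro t
    induction t using Finset.induction with
    | empty =>
      simpa using isGeneralizedCharacter_of_isCharacter (isCharacter_one (G := G))
    | @insert z t hzt ih =>
      have h1 := isGeneralizedCharacter_sub
        (isGeneralizedCharacter_of_isCharacter (isCharacter_of_isIrrCharacter χ.2))
        (isGeneralizedCharacter_zsmul
          (isGeneralizedCharacter_of_isCharacter (isCharacter_one (G := G))) z)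
      have h2 := isGeneralizedCharacter_mul h1 ih
      convert h2 using 1
      funext g
      rw [Finset.prod_insert hzt]
      simp
  obtain ⟨n, hn⟩ := classInner_isGeneralizedCharacter (hθ s)
    (isGeneralizedCharacter_of_isCharacter (isCharacter_one (G := G)))
  refine ⟨n, ?_⟩
  have h1 := card_mul_classInner (fun g => ∏ z ∈ s, ((χ : G → ℂ) g - (z : ℂ))) (fun _ : G => (1 : ℂ))
  rw [hn, Finset.sum_eq_single 1 (fun g _ hg => by
    obtain ⟨z, hz, hzg⟩ := hs g hg
    rw [Finset.prod_eq_zero hz (by rw [hzg, sub_self]), zero_mul]) (by simp), h.deg, map_one,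
    mul_one] at h1
  have h2 : (((Nat.card G : ℤ) * n : ℤ) : ℂ) = ((∏ z ∈ s, ((d : ℤ) - z) : ℤ) : ℂ) := by
    push_cast
    exact h1
  exact (Int.cast_injective h2).symm

end Cfsg.Agent.NineRat7
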