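import Cfsg.Agent.Lib.M12Ord91Blk
import Cfsg.Agent.Lib.M12Ord88Pre
import Cfsg.Agent.Lib.M12Ord47Swap
import Cfsg.Agent.Lib.GaloisChar80
import Cfsg.Agent.Lib.DixonSchurBound16
import Cfsg.Agent.Lib.NineRat7
import Cfsg.Agent.Lib.CharInducedBurnside

/-!
Complex values of the principal 11-block of a group of order 95040: the facts that do not need the
values to be rational.
-/

set_option autoImplicit false
set_option linter.style.haveILetI false
set_option linter.unusedSectionVars false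

open scoped ComplexConjugate

namespace Cfsg.Agent.M12Ord47

open Cfsg Cfsg.Agent Cfsg.Agent.M12Ord40 Cfsg.Agent.M12Ord40.BlkAux Cfsg.Agent.BlockPrincipal81

attribute [local instance] Classical.propDecidable

theorem row_facts : ∀ q ∈ rows, ∀ i : Fin 5, 2 ≤ M12Ord40.cmp i q.1 ∧
    (i ≠ 4 → M12Ord40.cmp i q.1 ≠ M12Ord40.cmp 4 q.1) ∧
    ∀ j : Fin 5, i ≠ 4 → j ≠ 4 → M12Ord40.cmp i q.1 = M12Ord40.cmp j q.1 → M12Ord40.cmp i q.2 = M12Ord40.cmp j q.2 := by
  decide +kernel

universe u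

variable {G : Type u} [Group G] [Fintype G]

/-- A character value fixed by all power maps, on the powers of the element, is an integer. -/
theorem exists_int_of_fixed {φ : G → ℂ} (hφ : IsCharacter G φ) :
    ∀ g : G, (∀ k : ℕ, k.Coprime (Nat.card G) → ∀ m : ℕ, φ ((g ^ m) ^ k) = φ (g ^ m)) →
      ∃ z : ℤ, φ g = z := by
  suffices ∀ (n : ℕ) (g : G), orderOf g = n →
      (∀ k : ℕ, k.Coprime (Nat.card G) → ∀ m : ℕ, φ ((g ^ m) ^ k) = φ (g ^ m)) →
      ∃ z : ℤ, φ g = z from fun g => this _ g rfl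
  intro n
  induction n using Nat.strong_induction_on with
  | _ n ih =>
    intro g hn hgal
    have hn0 : 0 < n := hn ▸ orderOf_pos g
    obtain ⟨N, hN⟩ := DixonSchurBound.sum_pow_char hφ g
    rw [hn] at hN
    have hrest : ∃ z : ℤ, ∑ j ∈ (Finset.range n).filter (fun j => ¬ j.Coprime n), φ (g ^ j) = z := by
      refine Finset.sum_induction _ (fun x : ℂ => ∃ z : ℤ, x = z)
        (fun x y ⟨a, ha⟩ ⟨b, hb⟩ => ⟨a + b, by rw [ha, hb]; push_cast; rfl⟩) ⟨0, by simp⟩ ?_
      intro j hj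
      obtain ⟨-, hj⟩ := Finset.mem_filter.1 hj
      refine ih (orderOf (g ^ j)) ?_ _ rfl fun k hk m => by rw [← pow_mul g j m]; exact hgal k hk _
      rw [orderOf_pow, hn]
      refine Nat.div_lt_self hn0 ?_
      rw [Nat.gcd_comm]
      have := Nat.gcd_pos_of_pos_right j hn0
      have : Nat.gcd j n ≠ 1 := hj
      omega
    obtain ⟨z, hz⟩ := hrest
    set S := (Finset.range n).filter fun j => j.Coprime n
    have hcop : ∑ j ∈ S, φ (g ^ j) = S.card * φ g := by
      rw [Finset.sum_congr rfl (g := fun _ => φ g) fun j hj => ?_, Finset.sum_const, nsmul_eq_mul]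
      obtain ⟨k, hk, hkj⟩ := NineRat7.exists_coprime_lift (orderOf_dvd_natCard g) Nat.card_pos.ne'
        (show j.Coprime (orderOf g) by rw [hn]; exact (Finset.mem_filter.1 hj).2)
      rw [show g ^ j = g ^ k from pow_eq_pow_iff_modEq.2 hkj.symm]
      simpa using hgal k hk 1
    rw [← Finset.sum_filter_add_sum_filter_not (Finset.range n) (fun j => j.Coprime n), hcop,
      hz] at hN
    have hS0 : S.card ≠ 0 := by
      rw [Finset.card_ne_zero]
      rcases Nat.lt_or_ge 1 n with h1 | h1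
      · exact ⟨1, Finset.mem_filter.2 ⟨Finset.mem_range.2 h1, Nat.coprime_one_left n⟩⟩
      · exact ⟨0, Finset.mem_filter.2 ⟨Finset.mem_range.2 hn0, by simp [Nat.Coprime]; omega⟩⟩
    have hrat : φ g = ((((n * N : ℕ) : ℤ) - z : ℤ) / (S.card : ℤ) : ℚ) := by
      push_cast
      rw [eq_div_iff (Nat.cast_ne_zero.2 hS0)]
      linear_combination hN
    have hint := CharBasic.isCharacter_integral hφ g
    rw [hrat] at hint
    have hq := (isIntegral_algebraMap_iff (R := ℤ) (B := ℂ) (algebraMap ℚ ℂ).injective).1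
      (show IsIntegral ℤ (algebraMap ℚ ℂ ((((n * N : ℕ) : ℤ) - z : ℤ) / (S.card : ℤ))) by
        simpa using hint)
    obtain ⟨a, ha⟩ := IsIntegrallyClosed.algebraMap_eq_of_integral hq
    exact ⟨a, by rw [hrat, ← ha]; simp⟩

theorem not_comm (E : Eleven G) : ¬ ∀ a b : G, a * b = b * a := by
  intro hc
  haveI := E.simple
  letI : CommGroup G := { (inferInstance : Group G) with mul_comm := hc }
  have hp : (Nat.card G).Prime := IsSimpleGroup.prime_card
  rw [E.card] at hp
  norm_num at hp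

/-- The values away from the identity are smaller than the degree. -/
theorem norm_lt (E : Eleven G) (χ : IrrCharacter G) (h1 : (χ : G → ℂ) ≠ fun _ => 1) {d : ℤ}
    (hd : (χ : G → ℂ) 1 = (d : ℂ)) {g : G} (hg : g ≠ 1) : ‖(χ : G → ℂ) g‖ < (d : ℝ) := by
  haveI := E.simple
  obtain ⟨n, ρ, hρ, he⟩ := χ.2
  have hn : ((Module.finrank ℂ (Fin n → ℂ) : ℕ) : ℂ) = (d : ℂ) := by
    rw [← Representation.char_one ρ, he, hd]
  have hn' : ((Module.finrank ℂ (Fin n → ℂ) : ℕ) : ℝ) = (d : ℝ) := by exact_mod_cast hn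
  rw [← hn', ← he]
  exact lt_of_le_of_ne (CharBasic.norm_character_le ρ g)
    (CharInduced.not_norm_eq_of_simple (not_comm E) ρ (by rw [he]; exact h1) g hg)

theorem index_eq (E : Eleven G) (g : G) :
    (Subgroup.centralizer ({g} : Set G)).index = 95040 / cc g := by
  rw [← E.card, ← (Subgroup.centralizer ({g} : Set G)).index_mul_card]
  exact (Nat.mul_div_cancel _ Nat.card_pos).symm

/-- An integral class value. -/
theorem dvd_of_integral {N d : ℤ} (hd : 0 < d) (h : IsIntegral ℤ ((N : ℂ) / (d : ℂ))) : d ∣ N := by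
  have hq : IsIntegral ℤ ((N : ℚ) / (d : ℚ)) := by
    rw [← isIntegral_algebraMap_iff (FaithfulSMul.algebraMap_injective ℚ ℂ)]
    convert h using 1
    rw [map_div₀, map_intCast, map_intCast]
  obtain ⟨k, hk⟩ := IsIntegrallyClosed.isIntegral_iff.1 hq
  refine ⟨k, ?_⟩
  have : (d : ℚ) * (k : ℚ) = (N : ℚ) := by
    rw [show (k : ℚ) = (N : ℚ) / (d : ℚ) from hk, mul_div_cancel₀]
    exact_mod_cast hd.ne'
  exact_mod_cast this.symm

theorem integral_class (E : Eleven G) (χ : IrrCharacter G) (g : G) :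
    IsIntegral ℤ (((95040 / cc g : ℕ) : ℂ) * (χ : G → ℂ) g / (χ : G → ℂ) 1) := by
  have h := ClassAlgebraOmega.isIntegral_centralChar χ.2 g
  rw [centralChar, index_eq E g] at h
  exact h

namespace PV

variable (R : M12Ord88.Pre G)

/-- The block as a set of characters. -/
noncomputable def blkSet : Finset (IrrCharacter G) :=
  insert (oneChar G) (insert R.θ (Finset.univ.image R.χ))

theorem sum_blkSet {β : Type*} [AddCommMonoid β] (f : IrrCharacter G → β) :
    ∑ ψ ∈ (PV.blkSet R), f ψ = f (oneChar G) + (f R.θ + ∑ i, f (R.χ i)) := by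
  rw [blkSet, Finset.sum_insert, Finset.sum_insert, Finset.sum_image fun i _ j _ e => R.inj e]
  · simp only [Finset.mem_image, Finset.mem_univ, true_and, not_exists]
    exact fun i => R.other i
  · simp only [Finset.mem_insert, Finset.mem_image, Finset.mem_univ, true_and, not_or, not_exists]
    exact ⟨fun e => R.nontrivθ (by rw [← e]; rfl), fun i e => R.nontriv i (by rw [e]; rfl)⟩

theorem outside_zero {ψ : IrrCharacter G} (hψ : ψ ∉ (PV.blkSet R)) {x : G} (hx : orderOf x = 11) :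
    (ψ : G → ℂ) x = 0 := by
  simp only [blkSet, Finset.mem_insert, Finset.mem_image, Finset.mem_univ, true_and, not_or,
    not_exists] at hψ
  exact R.outside ψ (fun e => hψ.1 (Subtype.ext e)) (fun i e => hψ.2.2 i e.symm) hψ.2.1 x hx

theorem theta_one : (R.θ : G → ℂ) 1 = ((M12Ord40.cmp 4 R.D : ℤ) : ℂ) := by
  rw [R.agree 1 one_reg, R.deg]

theorem norm_sum_le_cc {g : G} (hg : ¬ 11 ∣ orderOf g) :
    1 + (∑ i : Fin 5, Complex.normSq ((R.χ i : G → ℂ) g)) + Complex.normSq ((R.χ 4 : G → ℂ) g) ≤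
      (cc g : ℝ) := by
  have h := CharBasicOrth.sum_irr_mul_conj g g
  rw [if_pos (IsConj.refl g)] at h
  have h2 : ∑ ψ : IrrCharacter G, Complex.normSq ((ψ : G → ℂ) g) = (cc g : ℝ) := by
    have e : ((∑ ψ : IrrCharacter G, Complex.normSq ((ψ : G → ℂ) g) : ℝ) : ℂ) = ((cc g : ℝ) : ℂ) := by
      push_cast
      rw [← h]
      exact Finset.sum_congr rfl fun ψ _ => (Complex.mul_conj _).symm
    exact_mod_cast e
  have h3 : ∑ ψ ∈ (PV.blkSet R), Complex.normSq ((ψ : G → ℂ) g) ≤ (cc g : ℝ) := h2 ▸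
    Finset.sum_le_sum_of_subset_of_nonneg (Finset.subset_univ _) fun ψ _ _ => Complex.normSq_nonneg _
  rw [PV.sum_blkSet R, R.agree g hg, show ((oneChar G : IrrCharacter G) : G → ℂ) g = 1 from rfl,
    Complex.normSq_one] at h3
  linarith

theorem pair_eq {g h x : G} (hg : ¬ 11 ∣ orderOf g) (hh : ¬ 11 ∣ orderOf h)
    (hx : orderOf x = 11) :
    (95040 : ℂ) + ∑ i : Fin 5, ((M12Ord40.cmp i R.σ * (95040 / M12Ord40.cmp i R.D) : ℤ) : ℂ) *
        ((R.χ i : G → ℂ) g * (R.χ i : G → ℂ) h) =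
      11 * (Nat.card {k : G // IsConj x (g * (k * h * k⁻¹))} : ℂ) := by
  have htr := ClassAlgebraVal.sum_irr_triple g h x
  rw [← Finset.sum_subset (Finset.subset_univ (PV.blkSet R)) (fun ψ _ hψ => by
    rw [PV.outside_zero R hψ hx, map_zero, mul_zero, zero_div]), PV.sum_blkSet R, R.eleven.card] at htr
  have hcc : Nat.card ↥(Subgroup.centralizer ({x} : Set G)) = 11 := R.eleven.cent x hx
  rw [hcc] at htr
  have hθ : conj ((R.θ : G → ℂ) x) = ((M12Ord40.cmp 4 R.σ : ℤ) : ℂ) - conj ((R.χ 4 : G → ℂ) x) := by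
    have := congrArg (starRingEnd ℂ) (R.excEleven x hx)
    rw [map_add, map_intCast] at this
    rw [← this]; ring
  rw [R.agree g hg, R.agree h hh, PV.theta_one R, hθ] at htr
  simp only [show ∀ y : G, ((oneChar G : IrrCharacter G) : G → ℂ) y = 1 from fun _ => rfl, map_one,
    R.deg, Fin.sum_univ_five] at htr
  rw [R.atEleven x hx 0 (by decide), R.atEleven x hx 1 (by decide), R.atEleven x hx 2 (by decide),
    R.atEleven x hx 3 (by decide), map_intCast, map_intCast, map_intCast, map_intCast] at htr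
  have hq : ∀ i : Fin 5, (((95040 : ℤ) / M12Ord40.cmp i R.D : ℤ) : ℂ) = 95040 / ((M12Ord40.cmp i R.D : ℤ) : ℂ) := by
    intro i
    obtain ⟨h1, h2, -⟩ := rows_facts _ R.row i
    rw [Int.cast_div h1 (by exact_mod_cast h2.ne')]
    norm_num
  simp only [Fin.sum_univ_five]
  push_cast
  rw [hq 0, hq 1, hq 2, hq 3, hq 4]
  push_cast at htr
  linear_combination (95040 : ℂ) * htr

/-- The value as an integer. -/
noncomputable def iv (g : G) (i : Fin 5) : ℤ :=
  if h : ∃ z : ℤ, (R.χ i : G → ℂ) g = (z : ℂ) then h.choose else 0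

theorem iv_spec {g : G} {i : Fin 5} (h : ∃ z : ℤ, (R.χ i : G → ℂ) g = (z : ℂ)) :
    (R.χ i : G → ℂ) g = (PV.iv R g i : ℂ) := by
  rw [iv, dif_pos h]
  exact h.choose_spec

end PV

end Cfsg.Agent.M12Ord47
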