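import Cfsg.Agent.Lib.BlockCount91
import Cfsg.Agent.Lib.M11Order91Base
import Cfsg.Agent.Lib.M12Ord40Defs

/-!
A simple group of order 95040: a Sylow subgroup of order 11 is self-centralising and has a
normaliser of order 55.
-/

set_option autoImplicit false
set_option linter.style.haveILetI false
set_option linter.unusedSectionVars false

namespace Cfsg.Agent.M12Ord49

open Subgroup Cfsg.Agent.SimpleOrder Cfsg.Agent.SimpleOrderCheck

/-- A group of order `132` with a central subgroup of order `11` has a normal Sylow subgroup at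
`2` or at `3`. -/
theorem sylow_unique_of_card {H : Type*} [Group H] [Finite H] (hH : Nat.card H = 132)
    {Z : Subgroup H} (hZ : Z ≤ Subgroup.center H) (hZc : Nat.card Z = 11) :
    Subsingleton (Sylow 3 H) ∨ Subsingleton (Sylow 2 H) := by
  classical
  haveI : Fact (Nat.Prime 3) := ⟨Nat.prime_three⟩
  haveI : Fact (Nat.Prime 2) := ⟨Nat.prime_two⟩
  have := Fintype.ofFinite H
  have h3c : ∀ R : Sylow 3 H, Nat.card ↥(R : Subgroup H) = 3 := fun R => by
    rw [sylow_card_of_eq (k := 1) (m := 44) (by rw [hH]; norm_num) (by norm_num) R, pow_one]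
  have h2c : ∀ T : Sylow 2 H, Nat.card ↥(T : Subgroup H) = 4 := fun T => by
    rw [sylow_card_of_eq (k := 2) (m := 33) (by rw [hH]; norm_num) (by norm_num) T]
    norm_num
  have hz11 : ∀ z ∈ Z, z ^ 11 = 1 := fun z hz => PGroupsBasic.pow_eq_one_of_card hZc hz
  obtain ⟨R⟩ : Nonempty (Sylow 3 H) := inferInstance
  set N := Subgroup.normalizer ((R : Subgroup H) : Set H) with hN
  have hZN : Z ≤ N := fun z hz => by
    rw [hN, Subgroup.mem_normalizer_iff]
    intro x
    rw [← Subgroup.mem_center_iff.1 (hZ hz) x, mul_inv_cancel_right]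
  obtain ⟨c, hc⟩ : 33 ∣ Nat.card N := (show Nat.Coprime 11 3 by norm_num).mul_dvd_of_dvd_of_dvd
    (hZc ▸ Subgroup.card_dvd_of_le hZN) ((h3c R) ▸ Subgroup.card_dvd_of_le Subgroup.le_normalizer)
  have hidx : c * N.index = 4 := by
    have h := N.card_mul_index
    rw [hc, hH, mul_assoc] at h
    omega
  have hle4 : N.index ≤ 4 := Nat.le_of_dvd (by norm_num) (Dvd.intro_left c hidx)
  have hdvd4 : N.index ∣ 4 := Dvd.intro_left c hidx
  have hmod : Nat.card (Sylow 3 H) % 3 = 1 := by
    simpa [Nat.ModEq] using card_sylow_modEq_one 3 H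
  have hcN : Nat.card (Sylow 3 H) = N.index := R.card_eq_index_normalizer
  rw [hcN] at hmod
  obtain h1 | h4 : N.index = 1 ∨ N.index = 4 := by
    interval_cases h : N.index <;> omega
  · left
    rw [← hcN] at h1
    exact (Nat.card_eq_one_iff_unique.1 h1).1
  right
  rw [← hcN] at h4
  have h8 : Nat.card {y : H // orderOf y = 3} = 8 := by
    rw [SimpleSearch.card_orderOf h3c, h4]
  -- the eighty-eight elements of order divisible by three
  set A := Finset.univ.filter fun g : H => 3 ∣ orderOf g with hA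
  have hA88 : 88 ≤ A.card := by
    have h := Nat.card_le_card_of_injective
      (fun q : {y : H // orderOf y = 3} × ↥Z => (⟨q.1.1 * q.2.1, by
        rw [hA, Finset.mem_filter]
        refine ⟨Finset.mem_univ _, ?_⟩
        have hcm : Commute q.1.1 q.2.1 := Subgroup.mem_center_iff.1 (hZ q.2.2) q.1.1
        have hzo : orderOf q.2.1 ∣ 11 := orderOf_dvd_of_pow_eq_one (hz11 _ q.2.2)
        rw [hcm.orderOf_mul_eq_mul_orderOf_of_coprime (by
          rw [q.1.2]; exact Nat.Coprime.coprime_dvd_right hzo (by norm_num)), q.1.2]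
        exact dvd_mul_right _ _⟩ : {g : H // g ∈ A})) ?_
    · rwa [Nat.card_prod, h8, hZc, Nat.card_eq_fintype_card, Fintype.card_coe] at h
    · rintro ⟨⟨y, hy⟩, ⟨z, hz⟩⟩ ⟨⟨y', hy'⟩, ⟨z', hz'⟩⟩ h
      have h' : y * z = y' * z' := congrArg Subtype.val h
      have key : ∀ y z : H, orderOf y = 3 → z ∈ Z → (y * z) ^ 22 = y := fun y z hy hz => by
        have e1 : z ^ 22 = 1 := by
          rw [show (22 : ℕ) = 11 * 2 by norm_num, pow_mul, hz11 z hz, one_pow]
        rw [Commute.mul_pow (Subgroup.mem_center_iff.1 (hZ hz) y), e1, mul_one,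
          show (22 : ℕ) = 3 * 7 + 1 by norm_num, pow_succ, pow_mul, ← hy, pow_orderOf_eq_one,
          one_pow, one_mul]
      obtain rfl : y = y' := by rw [← key y z hy hz, h', key y' z' hy' hz']
      obtain rfl : z = z' := mul_left_cancel h'
      rfl
  refine ⟨fun T T' => Sylow.ext ?_⟩
  suffices h : ∀ T T' : Sylow 2 H, (T' : Subgroup H) ≤ T from le_antisymm (h T' T) (h T T')
  intro T T' x hx
  set B := (Finset.univ.filter fun t : H => t ∈ (T : Subgroup H)) ×ˢ
    (Finset.univ.filter fun z : H => z ∈ Z) with hB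
  set K := B.image fun q : H × H => q.1 * q.2 with hK
  have hpow4 : ∀ T : Sylow 2 H, ∀ t ∈ (T : Subgroup H), t ^ 4 = 1 := fun T t ht =>
    PGroupsBasic.pow_eq_one_of_card (h2c T) ht
  have hcard : K.card = 44 := by
    rw [hK, Finset.card_image_of_injOn, hB, Finset.card_product]
    · rw [← Fintype.card_subtype, ← Fintype.card_subtype, ← Nat.card_eq_fintype_card,
        ← Nat.card_eq_fintype_card]
      show Nat.card ↥(T : Subgroup H) * Nat.card ↥Z = 44
      rw [h2c T, hZc]
    · rintro ⟨t, z⟩ h1 ⟨t', z'⟩ h2 h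
      simp only [hB, Finset.coe_product, Set.mem_prod, Finset.coe_filter, Finset.mem_univ, true_and,
        Set.mem_ofPred_eq] at h1 h2
      have h' : t * z = t' * z' := h
      have key : ∀ t z : H, t ∈ (T : Subgroup H) → z ∈ Z → (t * z) ^ 12 = z := fun t z ht hz => by
        rw [Commute.mul_pow (Subgroup.mem_center_iff.1 (hZ hz) t), show (12 : ℕ) = 4 * 3 by norm_num,
          pow_mul t, hpow4 T t ht, one_pow, one_mul, show (4 : ℕ) * 3 = 11 + 1 by norm_num, pow_succ,
          hz11 z hz, one_mul]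
      obtain rfl : z = z' := by rw [← key t z h1.1 h1.2, h', key t' z' h2.1 h2.2]
      obtain rfl : t = t' := mul_right_cancel h'
      rfl
  have hdisj : ∀ g ∈ K, g ∉ A := by
    intro g hg hgA
    simp only [hK, hB, Finset.mem_image, Finset.mem_product, Finset.mem_filter, Finset.mem_univ,
      true_and] at hg
    obtain ⟨⟨t, z⟩, ⟨ht, hz⟩, rfl⟩ := hg
    have h44 : (t * z) ^ 44 = 1 := by
      rw [Commute.mul_pow (Subgroup.mem_center_iff.1 (hZ hz) t), show (44 : ℕ) = 4 * 11 by norm_num,
        pow_mul t, hpow4 T t ht, one_pow, one_mul, mul_comm 4, pow_mul, hz11 z hz, one_pow]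
    have := ((Finset.mem_filter.1 hgA).2).trans (orderOf_dvd_of_pow_eq_one h44)
    norm_num at this
  have hall : K ∪ A = Finset.univ := by
    refine Finset.eq_univ_of_card _ (le_antisymm (Finset.card_le_univ _) ?_)
    rw [Finset.card_union_of_disjoint (Finset.disjoint_left.2 hdisj), hcard,
      ← Nat.card_eq_fintype_card, hH]
    omega
  have hxK : x ∈ K := by
    refine (Finset.mem_union.1 (hall.symm ▸ Finset.mem_univ x)).resolve_right fun hxA => ?_
    have := ((Finset.mem_filter.1 hxA).2).trans (orderOf_dvd_of_pow_eq_one (hpow4 T' x hx))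
    norm_num at this
  simp only [hK, hB, Finset.mem_image, Finset.mem_product, Finset.mem_filter, Finset.mem_univ,
    true_and] at hxK
  obtain ⟨⟨t, z⟩, ⟨ht, hz⟩, rfl⟩ := hxK
  have h4' := hpow4 T' _ hx
  rw [Commute.mul_pow (Subgroup.mem_center_iff.1 (hZ hz) t), hpow4 T t ht, one_mul] at h4'
  have hz1 := pow_gcd_eq_one.mpr ⟨h4', hz11 z hz⟩
  rw [show Nat.gcd 4 11 = 1 by norm_num, pow_one] at hz1
  show (t, z).1 * (t, z).2 ∈ _
  rw [hz1, mul_one]
  exact ht

variable {G : Type*} [Group G] [Finite G] [IsSimpleGroup G] (hn : Nat.card G = 95040)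

include hn in
theorem not_comm : ¬ IsMulCommutative G := not_comm_of_not_prime (hn ▸ by norm_num)

include hn in
theorem card_eleven (P : Sylow 11 G) : Nat.card ↥(P : Subgroup G) = 11 :=
  sylow_card_of_once (by rw [hn]) (by rw [hn]; norm_num) P

include hn in
/-- No subgroup centralising `P` and normalised by its normaliser is the whole Sylow subgroup at a
prime `r` of a group of order `66` or `132`. -/
theorem no_invariant (P : Sylow 11 G) (hd : Nat.card (Sylow 11 G) = 144)
    (hN : Nat.card ↥(normalizer ((P : Subgroup G) : Set G)) = 660) {r k : ℕ} [Fact r.Prime]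
    (hr : r = 2 ∨ r = 3) (hbig : r ^ (k + 1) ∣ 95040) (hsmall : ¬ r ^ (k + 1) ∣ 660)
    {Q : Subgroup G} (hQ : Nat.card Q = r ^ k) (hQ1 : Q ≠ ⊥)
    (hQC : Q ≤ centralizer ((P : Subgroup G) : Set G))
    (hNQ : normalizer ((P : Subgroup G) : Set G) ≤ normalizer (Q : Set G)) : False := by
  set N := normalizer ((P : Subgroup G) : Set G) with hNdef
  set M := normalizer (Q : Set G) with hM
  have hM1 : M ≠ ⊤ := by
    intro h
    have hQn : Q.Normal := Subgroup.normalizer_eq_top_iff.1 h
    rcases eq_bot_or_top hQn with h' | h'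
    · exact hQ1 h'
    · have hN2 := Subgroup.card_dvd_of_le (hQC.trans (Subgroup.centralizer_le_normalizer _))
      rw [h', Subgroup.card_top, hn, ← hNdef, hN] at hN2
      norm_num at hN2
  have h1 := Subgroup.relIndex_mul_index hNQ
  rw [show N.index = 144 from P.card_eq_index_normalizer.symm.trans hd] at h1
  have h2 := SimpleCentralizerKill.relIndex_mod_of_normalizer_le P hNQ
  rw [← hNdef] at h2
  have key : ∀ x ∈ List.range 145, 144 % x = 0 → x % 11 = 1 → x = 1 ∨ x = 12 ∨ x = 144 := by
    decide +kernel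
  rcases key (N.relIndex M) (List.mem_range.2 (Nat.lt_succ_of_le
    (Nat.le_of_dvd (by norm_num) (Dvd.intro _ h1)))) (Nat.mod_eq_zero_of_dvd (Dvd.intro _ h1)) h2
    with h | h | h
  · have hMN : M = N := le_antisymm (Subgroup.relIndex_eq_one.1 h) hNQ
    have h3 := Sylow.prime_pow_dvd_card_normalizer (p := r) (hn ▸ hbig) hQ
    rw [← hM, hMN, hN] at h3
    exact hsmall h3
  · have hidx : M.index = 12 := by rw [h] at h1; omega
    obtain ⟨g, hgQ, hg1⟩ := (Subgroup.bot_or_exists_ne_one Q).resolve_left hQ1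
    apply hg1
    apply M11Order91.eq_one_of_all_fixed hM1
    have hf := M11Order91.fixed_mod P hNQ (hQC hgQ)
    have hle : Nat.card (MulAction.fixedBy (G ⧸ M) g) ≤ 12 :=
      (Nat.card_le_card_of_injective _ Subtype.val_injective).trans_eq hidx
    have hm := M11Order91.moved_dvd (α := G ⧸ M) (r := r) (k := k)
      (g := g) (PGroupsBasic.pow_eq_one_of_card hQ hgQ)
    rw [← Subgroup.index, hidx] at hm
    rw [hidx]
    rcases hr with rfl | rfl <;> omega
  · exact hM1 (Subgroup.index_eq_one.1 (by rw [h] at h1; omega))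

include hn in
/-- The normal Sylow subgroup of the centraliser gives the contradiction. -/
theorem no_normal_sylow (P : Sylow 11 G) (hd : Nat.card (Sylow 11 G) = 144)
    (hN : Nat.card ↥(normalizer ((P : Subgroup G) : Set G)) = 660) {r k : ℕ} [Fact r.Prime]
    (hr : r = 2 ∨ r = 3) (hbig : r ^ (k + 1) ∣ 95040) (hsmall : ¬ r ^ (k + 1) ∣ 660) (hk : 0 < k)
    (hC : ∀ T : Sylow r ↥(centralizer ((P : Subgroup G) : Set G)),
      Nat.card ↥(T : Subgroup ↥(centralizer ((P : Subgroup G) : Set G))) = r ^ k)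
    (hs : Subsingleton (Sylow r ↥(centralizer ((P : Subgroup G) : Set G)))) : False := by
  set C := centralizer ((P : Subgroup G) : Set G) with hCdef
  obtain ⟨T⟩ : Nonempty (Sylow r ↥C) := inferInstance
  set Q := (T : Subgroup ↥C).map C.subtype with hQdef
  have hQ : Nat.card Q = r ^ k := by
    rw [hQdef, Subgroup.card_map_of_injective C.subtype_injective, hC T]
  have hQC : Q ≤ C := Subgroup.map_subtype_le _
  have huni : ∀ Q' : Subgroup G, Q' ≤ C → Nat.card Q' = r ^ k → Q' = Q := by
    intro Q' hle hc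
    have hc' : Nat.card (Q'.subgroupOf C) = r ^ k := by
      rw [Nat.card_congr (Subgroup.subgroupOfEquivOfLe hle).toEquiv, hc]
    obtain ⟨T', hT'⟩ := (IsPGroup.of_card hc').exists_le_sylow
    rw [Subsingleton.elim T' T] at hT'
    have he := Subgroup.eq_of_le_of_card_ge hT' (by rw [hC T, hc'])
    rw [hQdef, ← he, Subgroup.map_subgroupOf_eq_of_le hle]
  refine no_invariant hn P hd hN hr hbig hsmall hQ ?_ hQC ?_
  · intro h
    rw [h, Subgroup.card_bot] at hQ
    have := Nat.one_lt_pow hk.ne' (Fact.out : r.Prime).one_lt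
    omega
  · intro g hg
    have hle : Q.map (MulAut.conj g).toMonoidHom ≤ C := by
      rintro _ ⟨c, hc, rfl⟩
      rw [hCdef, Subgroup.mem_centralizer_iff]
      intro x hx
      have h1 := Subgroup.mem_centralizer_iff.1 (hQC hc) _
        ((Subgroup.mem_normalizer_iff''.1 hg x).1 hx)
      show x * (g * c * g⁻¹) = g * c * g⁻¹ * x
      calc x * (g * c * g⁻¹) = g * ((g⁻¹ * x * g) * c) * g⁻¹ := by group
        _ = g * (c * (g⁻¹ * x * g)) * g⁻¹ := by rw [h1]
        _ = g * c * g⁻¹ * x := by group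
    have he := huni _ hle (by
      rw [Subgroup.card_map_of_injective (MulAut.conj g).injective, hQ])
    rw [Subgroup.mem_normalizer_iff]
    intro y
    constructor
    · intro hy
      rw [← he]
      exact ⟨y, hy, rfl⟩
    · intro hy
      rw [← he] at hy
      obtain ⟨c, hc, hcy⟩ := hy
      have : g * c * g⁻¹ = g * y * g⁻¹ := hcy
      rwa [← mul_left_cancel (mul_right_cancel this)]

include hn in
/-- The degree at which the principal block breaks down. -/
theorem no_index_two (P : Sylow 11 G)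
    (hC : Nat.card ↥(centralizer ((P : Subgroup G) : Set G)) ≠ 11)
    (hN : Nat.card ↥(normalizer ((P : Subgroup G) : Set G)) =
      2 * Nat.card ↥(centralizer ((P : Subgroup G) : Set G))) : False := by
  classical
  letI : Fintype G := Fintype.ofFinite _
  haveI : Fintype ↥(P : Subgroup G) := Fintype.ofFinite _
  haveI : Fintype (↥(P : Subgroup G) →* ℂˣ) := Fintype.ofFinite _
  set C := centralizer ((P : Subgroup G) : Set G) with hCdef
  set N := normalizer ((P : Subgroup G) : Set G) with hNdef
  have hP := card_eleven hn P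
  have hCN : C ≤ N := Subgroup.centralizer_le_normalizer _
  have he : C.relIndex N = 2 := by
    have h := (C.subgroupOf N).card_mul_index
    rw [Nat.card_congr (Subgroup.subgroupOfEquivOfLe hCN).toEquiv, hN, mul_comm 2] at h
    exact Nat.eq_of_mul_eq_mul_left Nat.card_pos h
  obtain ⟨M, hM⟩ := ZStarCount.exists_isPModular 11 (Fact.out : Nat.Prime 11)
  obtain ⟨X, Y, w, ε, h⟩ := BlockPrime86.prime_main hP (by norm_num) hM 2 he
  have h1X : BlockPrincipal81.oneChar G ∈ X := by
    rcases (h.block _).1 (BlockPrincipal81.oneChar_mem hM) with hx | hy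
    · exact hx
    · exfalso
      have h2 : (BlockCount91.deg (BlockPrincipal81.oneChar G) : ℤ) % 11 =
          (ε * ((2 : ℕ) : ℤ)) % 11 := h.degY _ hy
      rw [BlockCount91.deg_one] at h2
      rcases h.sign with e' | e' <;> rw [e'] at h2 <;> omega
  obtain ⟨χ, hχ⟩ := Finset.card_eq_one.1 (show (X.erase (BlockPrincipal81.oneChar G)).card = 1 by
    rw [Finset.card_erase_of_mem h1X, h.cardX])
  have hχX := Finset.mem_erase.1 (show χ ∈ X.erase (BlockPrincipal81.oneChar G) by simp [hχ])
  obtain ⟨θ, hθ⟩ : Y.Nonempty := Finset.card_pos.1 (by rw [h.cardY]; norm_num)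
  have hw1 : w (BlockPrincipal81.oneChar G) = 1 := by
    have h2 : (BlockCount91.deg (BlockPrincipal81.oneChar G) : ℤ) % 11 =
        w (BlockPrincipal81.oneChar G) % 11 := (h.valX _ h1X).2.1
    rw [BlockCount91.deg_one] at h2
    rcases (h.valX _ h1X).1 with e' | e' <;> rw [e'] at h2 ⊢
    omega
  have hreg : (ε : ℤ) * (BlockCount91.deg θ : ℤ) = 1 + w χ * (BlockCount91.deg χ : ℤ) := by
    have h1 := h.regular θ hθ 1 (by rw [orderOf_one]; norm_num)
    rw [← Finset.add_sum_erase X _ h1X, hχ, Finset.sum_singleton, hw1, BlockCount91.apply_one,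
      BlockCount91.apply_one, BlockCount91.apply_one, BlockCount91.deg_one] at h1
    push_cast at h1
    rw [one_mul] at h1
    exact_mod_cast h1
  have hlow : 22 ≤ BlockCount91.deg χ := by
    by_contra hlt
    exact hC (BlockCount91.card_centralizer_eq hM hP (not_comm hn)
      ((h.block _).2 (Or.inl hχX.2)) hχX.1 (by omega))
  have hhigh := BlockCount91.deg_sq_lt hχX.1
  rw [hn] at hhigh
  have hlt : BlockCount91.deg χ < 309 := by nlinarith
  have hdiv : BlockCount91.deg χ ∣ 95040 := hn ▸ BlockCount91.deg_dvd χ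
  have hdiv' : BlockCount91.deg θ ∣ 95040 := hn ▸ BlockCount91.deg_dvd θ
  have hmod : (BlockCount91.deg χ : ℤ) % 11 = w χ % 11 := (h.valX _ hχX.2).2.1
  have key : ∀ d ∈ List.range 309, 22 ≤ d → 95040 % d = 0 →
      (d % 11 = 1 → 95040 % (d + 1) ≠ 0) ∧ (d % 11 = 10 → 95040 % (d - 1) ≠ 0) := by decide +kernel
  obtain ⟨k1, k2⟩ := key _ (List.mem_range.2 hlt) hlow (Nat.mod_eq_zero_of_dvd hdiv)
  rcases (h.valX _ hχX.2).1 with e' | e' <;> rw [e'] at hreg hmod
  · refine k1 (by omega) (Nat.mod_eq_zero_of_dvd ?_)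
    rwa [show BlockCount91.deg χ + 1 = BlockCount91.deg θ by
      rcases h.sign with e'' | e'' <;> rw [e''] at hreg <;> omega]
  · refine k2 (by omega) (Nat.mod_eq_zero_of_dvd ?_)
    rwa [show BlockCount91.deg χ - 1 = BlockCount91.deg θ by
      rcases h.sign with e'' | e'' <;> rw [e''] at hreg <;> omega]

include hn in
theorem sylow_data (P : Sylow 11 G) :
    Nat.card (Sylow 11 G) = 1728 ∧ Nat.card ↥(normalizer ((P : Subgroup G) : Set G)) = 55 ∧
      Nat.card ↥(centralizer ((P : Subgroup G) : Set G)) = 11 := by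
  have hG := not_comm hn
  have hcand := mem_cand hG (p := 11) (v := 1) (m := 8640) Nat.one_pos
    (by rw [hn]; norm_num) (by norm_num)
  rw [hn] at hcand
  obtain ⟨e, he, hC, hN⟩ := exists_eList hG P (card_eleven hn P)
  rw [hn] at he hC hN
  have key : ∀ d ∈ cand 95040 11 8640, ∀ e ∈ eList 95040 11 d,
      (d = 1728 ∧ 95040 / d = 55 ∧ 95040 / d / e = 11) ∨ (d = 12 ∧ 11 < 95040 / d / e) ∨
        (95040 / d = 2 * (95040 / d / e) ∧ 11 < 95040 / d / e) ∨
        (d = 144 ∧ 95040 / d = 660 ∧ (95040 / d / e = 66 ∨ 95040 / d / e = 132)) := by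
    decide +kernel
  have hk := key _ hcand e he
  rw [hC, hN] at hk
  rcases hk with h | ⟨hd, hc⟩ | ⟨he2, hc⟩ | ⟨hd, hN', hc⟩
  · exact h
  · exfalso
    have hN1 : normalizer ((P : Subgroup G) : Set G) ≠ ⊤ :=
      normalizer_ne_top hG (by rw [hn]; norm_num) P
    have hidx : (normalizer ((P : Subgroup G) : Set G)).index = 12 :=
      P.card_eq_index_normalizer.symm.trans hd
    have h := (card_normalizer_dvd_of_index hG (by norm_num) P (card_eleven hn P) _ hN1
      (by rw [hidx]; norm_num)).2
    rw [hidx] at h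
    have hle : Nat.card ↥(centralizer ((P : Subgroup G) : Set G)) ≤ 11 * (12 - 11).factorial :=
      Nat.le_of_dvd (by norm_num) h
    exact absurd (hle.trans (show 11 * (12 - 11).factorial ≤ 11 by decide)) (not_le.2 hc)
  · exact (no_index_two hn P (by omega) he2).elim
  · exfalso
    haveI : Fact (Nat.Prime 3) := ⟨Nat.prime_three⟩
    haveI : Fact (Nat.Prime 2) := ⟨Nat.prime_two⟩
    set C := centralizer ((P : Subgroup G) : Set G) with hCdef
    have hPC : (P : Subgroup G) ≤ C := SimpleSearch.le_centralizer_self (card_eleven hn P)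
    have hcen : (P : Subgroup G).subgroupOf C ≤ Subgroup.center ↥C := fun z hz =>
      Subgroup.mem_center_iff.2 fun c =>
        Subtype.ext (Subgroup.mem_centralizer_iff.1 c.2 (z : G) hz).symm
    have hZc : Nat.card ((P : Subgroup G).subgroupOf C) = 11 := by
      rw [Nat.card_congr (Subgroup.subgroupOfEquivOfLe hPC).toEquiv, card_eleven hn P]
    rcases hc with hc | hc
    · refine no_normal_sylow hn P hd hN' (r := 3) (k := 1) (Or.inr rfl) (by norm_num) (by norm_num)
        Nat.one_pos (fun T => sylow_card_of_eq (m := 22) (by rw [← hCdef, hc]; norm_num) (by norm_num) T) ?_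
      exact SimpleSearch.subsingleton_of_uniqB (q := 11) (r := 3) (by norm_num) _ hcen hZc
        (by rw [hc]; norm_num) (by rw [hc]; decide +kernel)
    · rcases sylow_unique_of_card hc hcen hZc with hs | hs
      · exact no_normal_sylow hn P hd hN' (r := 3) (k := 1) (Or.inr rfl) (by norm_num) (by norm_num)
          Nat.one_pos (fun T => sylow_card_of_eq (m := 44) (by rw [← hCdef, hc]; norm_num) (by norm_num) T) hs
      · exact no_normal_sylow hn P hd hN' (r := 2) (k := 2) (Or.inl rfl) (by norm_num) (by norm_num)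
          (by norm_num) (fun T => sylow_card_of_eq (m := 33) (by rw [← hCdef, hc]; norm_num) (by norm_num) T) hs

end Cfsg.Agent.M12Ord49

namespace Cfsg.Agent.M12Ord40

/-- What the prime eleven gives. -/
theorem exists_eleven {G : Type*} [Group G] [Finite G] (hs : IsSimpleGroup G)
    (hc : Nat.card G = 95040) : Eleven G := by
  haveI := hs
  have key : ∀ x : G, orderOf x = 11 → ∃ R : Sylow 11 G, Subgroup.zpowers x = (R : Subgroup G) := by
    intro x hx
    obtain ⟨R, hle⟩ := (IsPGroup.of_card (G := ↥(Subgroup.zpowers x)) (p := 11) (n := 1)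
      (by rw [Nat.card_zpowers, hx, pow_one])).exists_le_sylow
    exact ⟨R, Subgroup.eq_of_le_of_card_ge hle
      (by rw [M12Ord49.card_eleven hc R, Nat.card_zpowers, hx])⟩
  refine ⟨hs, hc, fun x hx => ?_, fun x hx => ?_⟩
  · obtain ⟨R, he⟩ := key x hx
    rw [cc, ← Subgroup.centralizer_closure, ← Subgroup.zpowers_eq_closure, he]
    exact (M12Ord49.sylow_data hc R).2.2
  · obtain ⟨R, he⟩ := key x hx
    rw [he]
    exact (M12Ord49.sylow_data hc R).2.1

end Cfsg.Agent.M12Ord40
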