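import Mathlib
import Cfsg.Agent.Lib.M12Ord40Defs

/-!
Special elements in a group of order 95040.
-/

set_option autoImplicit false

namespace Cfsg.Agent.M12Ord56

open M12Ord40 Subgroup

variable {G : Type*} [Group G] [Finite G]

theorem ne_eleven {g : G} {p : ℕ} (hp : p.Prime) (hp11 : p ≠ 11) (hg : orderOf g = p) :
    ¬ 11 ∣ orderOf g := by
  rw [hg]
  exact fun h => hp11 ((Nat.prime_dvd_prime_iff_eq (by norm_num) hp).1 h).symm

theorem ne_one {g : G} {p : ℕ} (hp : p.Prime) (hg : orderOf g = p) : g ≠ 1 := by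
  rintro rfl
  rw [orderOf_one] at hg
  exact hp.ne_one hg.symm

theorem dvd_cc (g : G) : orderOf g ∣ cc g := by
  rw [← Nat.card_zpowers]
  refine Subgroup.card_dvd_of_le (zpowers_le.2 ?_)
  exact mem_centralizer_singleton_iff.2 rfl

theorem cc_dvd (hE : Eleven G) {g : G} (h1 : g ≠ 1) (h11 : ¬ 11 ∣ orderOf g) : cc g ∣ 8640 := by
  have hn : cc g ∣ 11 * 8640 := by
    have := Subgroup.card_subgroup_dvd_card (centralizer ({g} : Set G))
    rwa [hE.card] at this
  refine Nat.Coprime.dvd_of_dvd_mul_left ?_ hn
  refine ((Nat.Prime.coprime_iff_not_dvd (by norm_num : Nat.Prime 11)).2 fun hd => ?_).symm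
  haveI := Fact.mk (by norm_num : Nat.Prime 11)
  obtain ⟨x, hx⟩ := exists_prime_orderOf_dvd_card' (G := centralizer ({g} : Set G)) 11 hd
  rw [← orderOf_coe] at hx
  have hgx : g ∈ centralizer ({(x : G)} : Set G) :=
    mem_centralizer_singleton_iff.2 (mem_centralizer_singleton_iff.1 x.2).symm
  have hd' : orderOf g ∣ 11 := by
    rw [← hE.cent x hx, ← orderOf_mk g hgx]
    exact orderOf_dvd_natCard _
  rcases (Nat.dvd_prime (by norm_num)).1 hd' with h | h
  · exact h1 (orderOf_eq_one_iff.1 h)
  · exact h11 (dvd_of_eq h.symm)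

/-- In a group of order `p ^ k`, `k ≥ 2`, every centraliser has order divisible by `p ^ 2`. -/
theorem sq_dvd_cent {P : Type*} [Group P] [Finite P] {p k : ℕ} [Fact p.Prime] (hP : Nat.card P = p ^ k)
    (hk : 2 ≤ k) (g : P) : p ^ 2 ∣ Nat.card (centralizer ({g} : Set P)) := by
  have hp : p.Prime := Fact.out
  by_cases hg : g ∈ center P
  · rw [show centralizer ({g} : Set P) = ⊤ from
      eq_top_iff.2 fun x _ => mem_centralizer_singleton_iff.2 (mem_center_iff.1 hg x), card_top, hP]
    exact pow_dvd_pow p hk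
  · haveI : Nontrivial P := by
      rw [← Finite.one_lt_card_iff_nontrivial, hP]
      exact Nat.one_lt_pow (by omega) hp.one_lt
    haveI hZ : Nontrivial (center P) := (IsPGroup.of_card hP).center_nontrivial
    obtain ⟨j, -, hj⟩ := (Nat.dvd_prime_pow hp).1 (hP ▸ card_subgroup_dvd_card (centralizer ({g} : Set P)))
    obtain ⟨i, -, hi⟩ := (Nat.dvd_prime_pow hp).1 (hP ▸ card_subgroup_dvd_card (center P))
    have hlt : Nat.card (center P) < Nat.card (centralizer ({g} : Set P)) := by
      refine lt_of_le_of_ne (card_le_of_le (center_le_centralizer _)) fun e => hg ?_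
      rw [eq_of_le_of_card_ge (center_le_centralizer _) e.ge]
      exact mem_centralizer_singleton_iff.2 rfl
    have h1 : 1 < Nat.card (center P) := Finite.one_lt_card
    rw [hi, hj] at hlt
    rw [hi] at h1
    have hij := (Nat.pow_lt_pow_iff_right hp.one_lt).1 hlt
    have hi0 : i ≠ 0 := by rintro rfl; simp at h1
    rw [hj]
    exact pow_dvd_pow p (by omega)

theorem sq_dvd_cc {p k : ℕ} [Fact p.Prime] (hk : (Nat.card G).factorization p = k) (hk2 : 2 ≤ k) {g : G}
    (hg : orderOf g = p) : p ^ 2 ∣ cc g := by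
  have hpg : IsPGroup p (zpowers g) := IsPGroup.of_card (n := 1) (by rw [Nat.card_zpowers, hg, pow_one])
  obtain ⟨P, hP⟩ := hpg.exists_le_sylow
  have hgP : g ∈ (P : Subgroup G) := hP (mem_zpowers g)
  have h := sq_dvd_cent (P := (P : Subgroup G)) (p := p) (k := k) (by rw [P.card_eq_multiplicity, hk]) hk2
    ⟨g, hgP⟩
  refine h.trans ?_
  rw [← Subgroup.card_map_of_injective (P : Subgroup G).subtype_injective]
  refine card_dvd_of_le ?_
  rintro _ ⟨x, hx, rfl⟩
  exact mem_centralizer_singleton_iff.2 (congrArg Subtype.val (mem_centralizer_singleton_iff.1 hx))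

/-- An element of order `p` central in a Sylow `p`-subgroup. -/
theorem exists_central {p k : ℕ} [Fact p.Prime] (hk : (Nat.card G).factorization p = k) (hk1 : 1 ≤ k) :
    ∃ s : G, orderOf s = p ∧ p ^ k ∣ cc s := by
  have hp : p.Prime := Fact.out
  obtain ⟨P⟩ : Nonempty (Sylow p G) := inferInstance
  have hcard : Nat.card (P : Subgroup G) = p ^ k := by rw [P.card_eq_multiplicity, hk]
  haveI : Nontrivial (P : Subgroup G) := by
    rw [← Finite.one_lt_card_iff_nontrivial, hcard]
    exact Nat.one_lt_pow (by omega) hp.one_lt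
  haveI hZ : Nontrivial (center (P : Subgroup G)) := P.2.center_nontrivial
  obtain ⟨i, -, hi⟩ := (Nat.dvd_prime_pow hp).1 (hcard ▸ card_subgroup_dvd_card (center (P : Subgroup G)))
  have h1 : 1 < Nat.card (center (P : Subgroup G)) := Finite.one_lt_card
  have hpd : p ∣ Nat.card (center (P : Subgroup G)) := by
    rw [hi] at h1 ⊢
    exact dvd_pow_self p (by rintro rfl; simp at h1)
  obtain ⟨z, hz⟩ := exists_prime_orderOf_dvd_card' (G := center (P : Subgroup G)) p hpd
  refine ⟨((z : (P : Subgroup G)) : G), by rw [orderOf_coe, orderOf_coe, hz], ?_⟩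
  rw [← hcard]
  refine card_dvd_of_le fun x hx => mem_centralizer_singleton_iff.2 ?_
  exact congrArg Subtype.val (mem_center_iff.1 z.2 ⟨x, hx⟩)

/-- An element of prime order commuting with `y` has centraliser order divisible by `orderOf y`. -/
theorem exists_commuting {y : G} {q : ℕ} [Fact q.Prime] (hd : q ∣ cc y) :
    ∃ u : G, orderOf u = q ∧ orderOf y ∣ cc u := by
  obtain ⟨u, hu⟩ := exists_prime_orderOf_dvd_card' (G := centralizer ({y} : Set G)) q hd
  refine ⟨u, by rw [orderOf_coe, hu], ?_⟩
  rw [← Nat.card_zpowers]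
  exact card_dvd_of_le (zpowers_le.2
    (mem_centralizer_singleton_iff.2 (mem_centralizer_singleton_iff.1 u.2).symm))

/-- The centraliser order of an element of order five. -/
theorem five_order (hE : Eleven G) {y : G} (hy : orderOf y = 5) :
    ∃ k, (k = 2 ∨ k = 4) ∧ cc y * k ∣ 95040 ∧ (95040 / (cc y * k)) % 5 = 1 := by
  haveI := Fact.mk (by norm_num : Nat.Prime 5)
  haveI := hE.simple
  have hY : Nat.card (zpowers y) = 5 := by rw [Nat.card_zpowers, hy]
  have hfac : (Nat.card G).factorization 5 = 1 := by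
    rw [hE.card, show (95040 : ℕ) = 5 * 19008 by rfl,
      Nat.factorization_mul (by norm_num) (by norm_num), Finsupp.add_apply,
      Nat.Prime.factorization_self (by norm_num),
      Nat.factorization_eq_zero_of_not_dvd (by norm_num : ¬ 5 ∣ 19008)]
  let P : Sylow 5 G := Sylow.ofCard (zpowers y) (by rw [hY, hfac, pow_one])
  have hP : (P : Subgroup G) = zpowers y := rfl
  set N := normalizer (zpowers y : Set G) with hN
  have hCz : centralizer (zpowers y : Set G) = centralizer ({y} : Set G) := by
    refine le_antisymm (centralizer_le (by simp)) fun x hx => mem_centralizer_iff.2 ?_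
    rintro _ ⟨n, rfl⟩
    exact ((Commute.zpow_right (mem_centralizer_singleton_iff.1 hx : Commute x y) n).eq).symm
  let f : N →* MulAut (zpowers y) := (zpowers y).normalizerMonoidHom
  have hker : f.ker = (centralizer ({y} : Set G)).subgroupOf N := by
    rw [← hCz]
    exact (zpowers y).normalizerMonoidHom_ker
  have hCN : centralizer ({y} : Set G) ≤ N := hCz ▸ centralizer_le_normalizer (s := (zpowers y : Set G))
  have hkc : Nat.card f.ker = cc y := by
    rw [hker]
    exact Nat.card_congr (subgroupOfEquivOfLe hCN).toEquiv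
  have hNc : Nat.card N = cc y * Nat.card f.range := by
    rw [← hkc, ← card_mul_index f.ker, Subgroup.index_ker]
  have hr : Nat.card f.range ∣ 4 := by
    refine (card_subgroup_dvd_card f.range).trans ?_
    rw [IsCyclic.card_mulAut, hY]
    rfl
  have hmod : N.index % 5 = 1 := by
    have h := card_sylow_modEq_one 5 G
    rw [P.card_eq_index_normalizer] at h
    exact h
  have hne : Nat.card f.range ≠ 1 := by
    intro h1
    have hle : normalizer ((P : Subgroup G) : Set G) ≤ centralizer ((P : Subgroup G) : Set G) := by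
      rw [hP, hCz, ← hN, eq_of_le_of_card_ge hCN (by rw [hNc, h1, mul_one])]
    have hc := MonoidHom.ker_transferSylow_isComplement' P hle
    have hm := hc.card_mul
    rw [show Nat.card (P : Subgroup G) = 5 from hY, hE.card] at hm
    rcases Subgroup.Normal.eq_bot_or_eq_top (MonoidHom.transferSylow P hle).normal_ker with h | h
    · rw [h, card_bot] at hm; norm_num at hm
    · rw [h, card_top, hE.card] at hm; norm_num at hm
  have hdvd : cc y * Nat.card f.range ∣ 95040 := by
    rw [← hNc, ← hE.card]
    exact card_subgroup_dvd_card N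
  refine ⟨Nat.card f.range, ?_, hdvd, ?_⟩
  · have hle : Nat.card f.range ≤ 4 := Nat.le_of_dvd (by norm_num) hr
    interval_cases h : Nat.card f.range <;> simp_all
  · rw [← hNc, ← hE.card, ← card_mul_index N, Nat.mul_div_cancel_left _ Nat.card_pos]
    exact hmod

end Cfsg.Agent.M12Ord56
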