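import Mathlib
import Cfsg.Agent.Lib.M12Ord40Defs

/-!
A checker for the possible values of a block at involutions and elements of orders three and five.
-/

set_option autoImplicit false

namespace Cfsg.Agent.M12Ord56

open M12Ord40

/-- The divisors of 8640. -/
def divs : List ℕ :=
  [1, 2, 3, 4, 5, 6, 8, 9, 10, 12, 15, 16, 18, 20, 24, 27, 30, 32, 36, 40, 45, 48, 54, 60, 64, 72,
    80, 90, 96, 108, 120, 135, 144, 160, 180, 192, 216, 240, 270, 288, 320, 360, 432, 480, 540, 576,
    720, 864, 960, 1080, 1440, 1728, 2160, 2880, 4320, 8640]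

/-- The modulus of the congruence at an element of order `p`. -/
def md (p : ℕ) : ℕ := if p = 2 then 4 else p

/-- The possible values of one entry. -/
def okv (p C d : ℕ) (u : ℤ) : Bool :=
  decide (u * u < C) && decide ((u - d) % (md p : ℤ) = 0) && decide (0 ≤ (d : ℤ) + ((p : ℤ) - 1) * u)

/-- The step between possible values. -/
def step (C d : ℕ) : ℕ := d / Nat.gcd d (95040 / C)

/-- All possible values of one entry. -/
def opt (p C d : ℕ) : List ℤ :=
  let m := step C d
  let K := Nat.min 92 (d - 1) / m
  ((List.range (2 * K + 1)).map fun i => (m : ℤ) * ((i : ℤ) - (K : ℤ))).filter (okv p C d)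

/-- The class product sum, unrolled. -/
def ps : Vec → Vec → Vec → Vec → ℤ
  | (d1, d2, d3, d4, d5), (s1, s2, s3, s4, s5), (a1, a2, a3, a4, a5), (b1, b2, b3, b4, b5) =>
    95040 + (s1 * a1 * b1 * (95040 / d1) + s2 * a2 * b2 * (95040 / d2) + s3 * a3 * b3 * (95040 / d3) +
      s4 * a4 * b4 * (95040 / d4) + s5 * a5 * b5 * (95040 / d5))

/-- Admissible pairs. -/
def pairOK (D σ : Vec) (x y : ℕ × Vec) : Bool :=
  decide (0 ≤ ps D σ x.2 y.2) && decide (ps D σ x.2 y.2 % ((x.1 : ℤ) * (y.1 : ℤ)) = 0)

/-- Admissible vectors for a centraliser order. -/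
def vecs (p C : ℕ) (D σ : Vec) : List (ℕ × Vec) :=
  match D, σ with
  | (d1, d2, d3, d4, d5), (s1, s2, s3, s4, s5) =>
    (opt p C d1.toNat).flatMap fun a =>
      (opt p C d2.toNat).flatMap fun b =>
        (opt p C d3.toNat).flatMap fun c =>
          (opt p C d4.toNat).flatMap fun e =>
            let w : ℤ := -(1 + s1 * a + s2 * b + s3 * c + s4 * e) * s5
            if decide (1 + a * a + b * b + c * c + e * e + 2 * (w * w) ≤ C) &&
                (opt p C d5.toNat).contains w &&
                pairOK (d1, d2, d3, d4, d5) (s1, s2, s3, s4, s5) (C, a, b, c, e, w) (C, a, b, c, e, w)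
            then [(C, a, b, c, e, w)] else []

/-- Possible involutions. -/
def invL (D σ : Vec) : List (ℕ × Vec) :=
  ((divs.filter fun C => C % 4 == 0).flatMap fun C => vecs 2 C D σ).filter fun z =>
    decide (ps D σ z.2 z.2 = 0)

/-- Possible elements of order three. -/
def threeL (D σ : Vec) : List (ℕ × Vec) :=
  (divs.filter fun C => C % 9 == 0).flatMap fun C => vecs 3 C D σ

/-- Admissible centraliser orders at five. -/
def fiveC (C : ℕ) : Bool :=
  C % 5 == 0 && [2, 4].any fun k => 95040 % (C * k) == 0 && (95040 / (C * k)) % 5 == 1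

/-- Possible elements of order five. -/
def fiveL (D σ : Vec) : List (ℕ × Vec) :=
  (divs.filter fiveC).flatMap fun C => vecs 5 C D σ

/-- The answer. -/
def good (D σ : Vec) (s y : ℕ × Vec) : Bool :=
  D == m12D && σ == m12S && s.1 == 192 && y == (10, (0, -1, 0, -1, 1))

/-- The conditions on the three special elements. -/
def chkWith (D σ : Vec) (inv three five : List (ℕ × Vec)) : Bool :=
  (inv.filter fun s => s.1 % 64 == 0).all fun s =>
    !(three.any fun t => t.1 % 27 == 0 && pairOK D σ s t) ||
      five.all fun y =>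
        !(pairOK D σ s y &&
            (y.1 % 2 != 0 || inv.any fun u =>
              u.1 % 5 == 0 && decide (ps D σ s.2 u.2 = 0) && pairOK D σ y u) &&
            (y.1 % 3 != 0 || three.any fun t =>
              t.1 % 5 == 0 && pairOK D σ s t && pairOK D σ y t)) ||
          good D σ s y

/-- The whole check for one row. -/
def chk (r : Vec × Vec) : Bool :=
  chkWith r.1 r.2 (invL r.1 r.2) (threeL r.1 r.2) (fiveL r.1 r.2)

end Cfsg.Agent.M12Ord56
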