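import Mathlib
import Cfsg.Agent.Lib.M12Ord56Chk

/-!
Kernel evaluation of the checker on every row, in small chunks checked one after the other.
-/

set_option autoImplicit false
set_option Elab.async false

namespace Cfsg.Agent.M12Ord56

open M12Ord40

theorem run_a : (rows.take 4).all chk = true := by decide +kernel

theorem run_b : ((rows.drop 4).take 4).all chk = true := by decide +kernel

theorem run_c : ((rows.drop 8).take 4).all chk = true := by decide +kernel

theorem run_d : ((rows.drop 12).take 4).all chk = true := by decide +kernel

theorem run_e : ((rows.drop 16).take 4).all chk = true := by decide +kernel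

theorem run_f : (rows.drop 20).all chk = true := by decide +kernel

theorem run {r : Vec × Vec} (hr : r ∈ rows) : chk r = true := by
  have key : ∀ (n : ℕ) {l : List (Vec × Vec)}, r ∈ l → r ∈ l.take n ∨ r ∈ l.drop n := by
    intro n l h
    rw [← List.take_append_drop n l, List.mem_append] at h
    exact h
  rcases key 4 hr with h | h
  · exact List.all_eq_true.1 run_a r h
  rcases key 4 h with h | h
  · exact List.all_eq_true.1 run_b r h
  rw [List.drop_drop] at h
  rcases key 4 h with h | h
  · exact List.all_eq_true.1 run_c r h
  rw [List.drop_drop] at h
  rcases key 4 h with h | h
  · exact List.all_eq_true.1 run_d r h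
  rw [List.drop_drop] at h
  rcases key 4 h with h | h
  · exact List.all_eq_true.1 run_e r h
  rw [List.drop_drop] at h
  exact List.all_eq_true.1 run_f r h

end Cfsg.Agent.M12Ord56
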