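import Mathlib
import Cfsg.Agent.Lib.M12Ord56Run
import Cfsg.Agent.Lib.M12Ord56Elts

/-!
The degrees, the elements of order five and a 2-central involution.
-/

set_option autoImplicit false

namespace Cfsg.Agent.M12Ord56

open M12Ord40

theorem mem_divs {C : ℕ} (h : C ∣ 8640) : C ∈ divs := by
  have hall : ∀ i : Fin 8641, (i : ℕ) ∣ 8640 → (i : ℕ) ∈ divs := by
    have hb : (List.range 8641).all (fun i => !(8640 % i == 0) || divs.contains i) = true := by decide +kernel
    intro i hi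
    have := List.all_eq_true.1 hb i (List.mem_range.2 i.2)
    simpa [Nat.mod_eq_zero_of_dvd hi, Nat.dvd_iff_mod_eq_zero.1 hi] using this
  exact hall ⟨C, Nat.lt_succ_of_le (Nat.le_of_dvd (by norm_num) h)⟩ h

theorem mem_opt {p C d : ℕ} {u : ℤ} (hC : C ≤ 8640) (hu2 : u * u < C) (hud : |u| < (d : ℤ))
    (hdiv : (d : ℤ) ∣ ((95040 / C : ℕ) : ℤ) * u) (hmod : (md p : ℤ) ∣ u - d)
    (hnn : 0 ≤ (d : ℤ) + ((p : ℤ) - 1) * u) : u ∈ opt p C d := by
  have hd0 : 0 < d := by have := abs_nonneg u; omega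
  set m := step C d with hm
  have hg : 0 < Nat.gcd d (95040 / C) := Nat.gcd_pos_of_pos_left _ hd0
  have hm0 : 0 < m := Nat.div_pos (Nat.le_of_dvd hd0 (Nat.gcd_dvd_left _ _)) hg
  have hnat : d ∣ 95040 / C * u.natAbs := by
    have := Int.natAbs_dvd_natAbs.2 hdiv
    rwa [Int.natAbs_mul, Int.natAbs_natCast, Int.natAbs_natCast] at this
  have hmu : m ∣ u.natAbs := by
    refine (Nat.coprime_div_gcd_div_gcd hg).dvd_of_dvd_mul_left ?_
    refine Nat.dvd_of_mul_dvd_mul_right hg ?_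
    rw [Nat.div_mul_cancel (Nat.gcd_dvd_left _ _), mul_right_comm, Nat.div_mul_cancel (Nat.gcd_dvd_right _ _)]
    exact hnat
  obtain ⟨k, hk⟩ : (m : ℤ) ∣ u := Int.natCast_dvd.2 hmu
  set K := Nat.min 92 (d - 1) / m with hK
  have habs : k.natAbs ≤ K := by
    rw [hK, Nat.le_div_iff_mul_le hm0]
    have e : u.natAbs = k.natAbs * m := by rw [hk, Int.natAbs_mul, Int.natAbs_natCast, mul_comm]
    rw [← e]
    refine Nat.le_min.2 ⟨?_, ?_⟩
    · by_contra h92
      have h1 : (93 : ℤ) ≤ (u.natAbs : ℤ) := by omega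
      have h2 : (u.natAbs : ℤ) * u.natAbs = u * u := Int.natAbs_mul_self' u
      have h3 : (C : ℤ) ≤ 8640 := by exact_mod_cast hC
      nlinarith
    · have : (u.natAbs : ℤ) = |u| := Int.natCast_natAbs u
      omega
  simp only [opt, List.mem_filter, List.mem_map, List.mem_range]
  rw [show Nat.min 92 (d - 1) / step C d = K from rfl]
  clear_value K
  refine ⟨⟨k + K, ?_, ?_⟩, ?_⟩
  · simp only [List.pure_def, List.bind_eq_flatMap, List.mem_flatMap, List.mem_singleton]
    exact ⟨(k + K).toNat, List.mem_range.2 (by omega), by omega⟩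
  · rw [hk, add_sub_cancel_right]
  · simp only [okv, Bool.and_eq_true, decide_eq_true_eq]
    exact ⟨⟨hu2, Int.emod_eq_zero_of_dvd hmod⟩, hnn⟩

theorem ps_eq (D σ u v : Vec) : pairSum D σ u v = ps D σ u v := by
  obtain ⟨d1, d2, d3, d4, d5⟩ := D
  obtain ⟨s1, s2, s3, s4, s5⟩ := σ
  obtain ⟨a1, a2, a3, a4, a5⟩ := u
  obtain ⟨b1, b2, b3, b4, b5⟩ := v
  simp [pairSum, ps, M12Ord40.cmp, Fin.sum_univ_five]

theorem rows_facts : ∀ r ∈ rows, (∀ i : Fin 5, 0 < cmp i r.1) ∧ cmp 4 r.2 * cmp 4 r.2 = 1 := by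
  decide +kernel

variable {G : Type*} [Group G] [Fintype G] (B : Blk G)

/-- Faithfulness of the block characters. -/
def Bound : Prop :=
  ∀ g : G, g ≠ 1 → ¬ 11 ∣ orderOf g → ∀ i : Fin 5, |M12Ord40.cmp i (B.val g)| < M12Ord40.cmp i B.D

variable (hb : Bound B)

include hb in
theorem entry {p : ℕ} (hp : p.Prime) (hp11 : p ≠ 11) {g : G} (hg : orderOf g = p) (i : Fin 5) :
    cmp i (B.val g) ∈ opt p (cc g) (cmp i B.D).toNat := by
  have h11 := ne_eleven hp hp11 hg
  have h1 := ne_one hp hg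
  have hd : 0 < cmp i B.D := (rows_facts _ B.row).1 i
  have hdn : (((cmp i B.D).toNat : ℕ) : ℤ) = cmp i B.D := Int.toNat_of_nonneg hd.le
  refine mem_opt (Nat.le_of_dvd (by norm_num) (cc_dvd B.eleven h1 h11)) ?_ ?_ ?_ ?_ ?_
  · have hs : ∑ j : Fin 5, cmp j (B.val g) ^ 2 < (cc g : ℤ) := by
      have h := B.cent g h11
      unfold normSum at h
      nlinarith [sq_nonneg (cmp 4 (B.val g))]
    calc cmp i (B.val g) * cmp i (B.val g) = cmp i (B.val g) ^ 2 := (sq _).symm
      _ ≤ ∑ j : Fin 5, cmp j (B.val g) ^ 2 :=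
        Finset.single_le_sum (f := fun j => cmp j (B.val g) ^ 2) (fun j _ => sq_nonneg _) (Finset.mem_univ i)
      _ < _ := hs
  · rw [hdn]; exact hb g h1 h11 i
  · rw [hdn]; exact B.cls g h11 i
  · rw [hdn]
    unfold md
    split_ifs with h2
    · subst h2
      have := B.four g hg i
      push_cast
      rw [← dvd_neg, neg_sub]
      exact this
    · have h := (B.eig g p hp hp11 hg i).1
      have e : cmp i (B.val g) - cmp i B.D =
          (p : ℤ) * cmp i (B.val g) - (cmp i B.D + ((p : ℤ) - 1) * cmp i (B.val g)) := by ring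
      rw [e]
      exact dvd_sub (dvd_mul_right _ _) h
  · rw [hdn]; exact (B.eig g p hp hp11 hg i).2

theorem pair_ok {g h : G} (hg : ¬ 11 ∣ orderOf g) (hh : ¬ 11 ∣ orderOf h) :
    pairOK B.D B.σ (cc g, B.val g) (cc h, B.val h) = true := by
  obtain ⟨a, ha⟩ := B.count g h hg hh
  simp only [pairOK, Bool.and_eq_true, decide_eq_true_eq, ← ps_eq, ← ha]
  refine ⟨by positivity, ?_⟩
  rw [mul_assoc]
  exact Int.mul_emod_left _ _

include hb in
theorem val_mem {p : ℕ} (hp : p.Prime) (hp11 : p ≠ 11) {g : G} (hg : orderOf g = p) :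
    (cc g, B.val g) ∈ vecs p (cc g) B.D B.σ := by
  have h11 := ne_eleven hp hp11 hg
  have e0 := entry B hb hp hp11 hg 0
  have e1 := entry B hb hp hp11 hg 1
  have e2 := entry B hb hp hp11 hg 2
  have e3 := entry B hb hp hp11 hg 3
  have e4 := entry B hb hp hp11 hg 4
  have hrel := B.rel g h11
  have hnorm := B.cent g h11
  have hsq := (rows_facts _ B.row).2
  have hpair := pair_ok B h11 h11
  revert e0 e1 e2 e3 e4 hrel hnorm hsq hpair
  generalize B.val g = v
  generalize B.D = D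
  generalize B.σ = σ
  obtain ⟨a, b, c, e, w⟩ := v
  obtain ⟨d1, d2, d3, d4, d5⟩ := D
  obtain ⟨s1, s2, s3, s4, s5⟩ := σ
  intro e0 e1 e2 e3 e4 hrel hnorm hsq hpair
  simp only [relSum, normSum, M12Ord40.cmp, Fin.sum_univ_five] at e0 e1 e2 e3 e4 hrel hnorm hsq
  have hw : -(1 + s1 * a + s2 * b + s3 * c + s4 * e) * s5 = w := by
    linear_combination (-s5) * hrel + w * hsq
  simp only [vecs, List.mem_flatMap]
  refine ⟨a, e0, b, e1, c, e2, e, e3, ?_⟩
  rw [hw]
  have hn : 1 + a * a + b * b + c * c + e * e + 2 * (w * w) ≤ (cc g : ℤ) := by linarith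
  have hc : (opt p (cc g) d5.toNat).contains w = true := List.contains_iff_mem.2 e4
  rw [if_pos (by simp only [Bool.and_eq_true, decide_eq_true_eq]; exact ⟨⟨hn, hc⟩, hpair⟩)]
  exact List.mem_singleton.2 rfl

include hb in
theorem inv_mem {g : G} (hg : orderOf g = 2) : (cc g, B.val g) ∈ invL B.D B.σ := by
  haveI := Fact.mk Nat.prime_two
  have hfac : (Nat.card G).factorization 2 = 6 := by
    rw [B.eleven.card, show (95040 : ℕ) = 2 ^ 6 * 1485 by rfl,
      Nat.factorization_mul (by norm_num) (by norm_num), Finsupp.add_apply,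
      Nat.Prime.factorization_pow Nat.prime_two, Finsupp.single_eq_same,
      Nat.factorization_eq_zero_of_not_dvd (by norm_num : ¬ 2 ∣ 1485)]
  have h4 : 4 ∣ cc g := sq_dvd_cc (p := 2) hfac (by norm_num) hg
  have h11 := ne_eleven Nat.prime_two (by norm_num) hg
  simp only [invL, List.mem_filter, List.mem_flatMap, beq_iff_eq, decide_eq_true_eq]
  exact ⟨⟨cc g, ⟨mem_divs (cc_dvd B.eleven (ne_one Nat.prime_two hg) h11), Nat.mod_eq_zero_of_dvd h4⟩,
    val_mem B hb Nat.prime_two (by norm_num) hg⟩, by rw [← ps_eq]; exact B.invs g g hg hg⟩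

include hb in
theorem fac_three : (Nat.card G).factorization 3 = 3 → ∀ g : G, orderOf g = 3 →
    (cc g, B.val g) ∈ threeL B.D B.σ := by
  intro hfac g hg
  haveI := Fact.mk Nat.prime_three
  have h9 : 9 ∣ cc g := sq_dvd_cc (p := 3) hfac (by norm_num) hg
  have h11 := ne_eleven Nat.prime_three (by norm_num) hg
  simp only [threeL, List.mem_filter, List.mem_flatMap, beq_iff_eq]
  exact ⟨cc g, ⟨mem_divs (cc_dvd B.eleven (ne_one Nat.prime_three hg) h11), Nat.mod_eq_zero_of_dvd h9⟩,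
    val_mem B hb Nat.prime_three (by norm_num) hg⟩

include hb in
theorem five_mem {g : G} (hg : orderOf g = 5) : (cc g, B.val g) ∈ fiveL B.D B.σ := by
  have hp : Nat.Prime 5 := by norm_num
  have h11 := ne_eleven hp (by norm_num) hg
  obtain ⟨k, hk, hd, hm⟩ := five_order B.eleven hg
  simp only [fiveL, List.mem_filter, List.mem_flatMap]
  refine ⟨cc g, ⟨mem_divs (cc_dvd B.eleven (ne_one hp hg) h11), ?_⟩, val_mem B hb hp (by norm_num) hg⟩
  simp only [fiveC, Bool.and_eq_true, beq_iff_eq, List.any_eq_true]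
  refine ⟨Nat.mod_eq_zero_of_dvd (hg ▸ dvd_cc g), k, ?_, Nat.mod_eq_zero_of_dvd hd, hm⟩
  rcases hk with rfl | rfl <;> simp

include hb in
/-- The degrees, the elements of order five and a central involution. -/
theorem deg_five : (B.D = m12D ∧ B.σ = m12S) ∧
    (∀ y : G, orderOf y = 5 → cc y = 10 ∧ B.val y = (0, -1, 0, -1, 1)) ∧
    (∃ g : G, orderOf g = 2 ∧ cc g = 192) := by
  haveI : Fact (Nat.Prime 2) := ⟨Nat.prime_two⟩
  haveI : Fact (Nat.Prime 3) := ⟨Nat.prime_three⟩
  have hf2 : (Nat.card G).factorization 2 = 6 := by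
    rw [B.eleven.card, show (95040 : ℕ) = 2 ^ 6 * 1485 by rfl,
      Nat.factorization_mul (by norm_num) (by norm_num), Finsupp.add_apply,
      Nat.Prime.factorization_pow Nat.prime_two, Finsupp.single_eq_same,
      Nat.factorization_eq_zero_of_not_dvd (by norm_num : ¬ 2 ∣ 1485)]
  have hf3 : (Nat.card G).factorization 3 = 3 := by
    rw [B.eleven.card, show (95040 : ℕ) = 3 ^ 3 * 3520 by rfl,
      Nat.factorization_mul (by norm_num) (by norm_num), Finsupp.add_apply,
      Nat.Prime.factorization_pow Nat.prime_three, Finsupp.single_eq_same,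
      Nat.factorization_eq_zero_of_not_dvd (by norm_num : ¬ 3 ∣ 3520)]
  obtain ⟨s, hs, h64⟩ := exists_central (G := G) (p := 2) hf2 (by norm_num)
  obtain ⟨t, ht, h27⟩ := exists_central (G := G) (p := 3) hf3 (by norm_num)
  have hs11 := ne_eleven Nat.prime_two (by norm_num) hs
  have h := run B.row
  simp only [chk, chkWith, List.all_eq_true] at h
  have hs' := h (cc s, B.val s) (List.mem_filter.2 ⟨inv_mem B hb hs, by simpa using Nat.mod_eq_zero_of_dvd h64⟩)
  have hA : ((threeL B.D B.σ).any fun z => z.1 % 27 == 0 && pairOK B.D B.σ (cc s, B.val s) z) = true :=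
    List.any_eq_true.2 ⟨_, fac_three B hb hf3 t ht, by
      simp [Nat.mod_eq_zero_of_dvd (show 27 ∣ cc t from h27), pair_ok B hs11 (ne_eleven Nat.prime_three (by norm_num) ht)]⟩
  rw [hA] at hs'
  simp only [Bool.not_true, Bool.false_or, List.all_eq_true] at hs'
  have main : ∀ y : G, orderOf y = 5 →
      good B.D B.σ (cc s, B.val s) (cc y, B.val y) = true := by
    intro y hy
    have hy11 := ne_eleven (by norm_num : Nat.Prime 5) (by norm_num) hy
    have hc := hs' _ (five_mem B hb hy)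
    have hI : (cc y % 2 != 0 || (invL B.D B.σ).any fun u =>
        u.1 % 5 == 0 && decide (ps B.D B.σ (B.val s) u.2 = 0) &&
          pairOK B.D B.σ (cc y, B.val y) u) = true := by
      by_cases h2 : cc y % 2 = 0
      · obtain ⟨u, hu, h5⟩ := exists_commuting (q := 2) (Nat.dvd_of_mod_eq_zero h2)
        rw [hy] at h5
        refine Bool.or_eq_true_iff.2 (Or.inr (List.any_eq_true.2 ⟨_, inv_mem B hb hu, ?_⟩))
        simp [Nat.mod_eq_zero_of_dvd h5, ← ps_eq, B.invs s u hs hu,
          pair_ok B hy11 (ne_eleven Nat.prime_two (by norm_num) hu)]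
      · rw [Bool.or_eq_true]
        exact Or.inl (bne_iff_ne.2 h2)
    have hT : (cc y % 3 != 0 || (threeL B.D B.σ).any fun u =>
        u.1 % 5 == 0 && pairOK B.D B.σ (cc s, B.val s) u &&
          pairOK B.D B.σ (cc y, B.val y) u) = true := by
      by_cases h3 : cc y % 3 = 0
      · obtain ⟨u, hu, h5⟩ := exists_commuting (q := 3) (Nat.dvd_of_mod_eq_zero h3)
        rw [hy] at h5
        have hu11 := ne_eleven Nat.prime_three (by norm_num) hu
        refine Bool.or_eq_true_iff.2 (Or.inr (List.any_eq_true.2 ⟨_, fac_three B hb hf3 u hu, ?_⟩))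
        simp [Nat.mod_eq_zero_of_dvd h5, pair_ok B hs11 hu11, pair_ok B hy11 hu11]
      · rw [Bool.or_eq_true]
        exact Or.inl (bne_iff_ne.2 h3)
    simp only [pair_ok B hs11 hy11, hI, hT, Bool.and_self, Bool.not_true, Bool.false_or] at hc
    exact hc
  obtain ⟨y0, hy0⟩ : ∃ y : G, orderOf y = 5 := by
    haveI := Fact.mk (by norm_num : Nat.Prime 5)
    exact exists_prime_orderOf_dvd_card' 5 (by rw [B.eleven.card]; norm_num)
  have key : ∀ y : G, orderOf y = 5 → (B.D = m12D ∧ B.σ = m12S) ∧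
      cc s = 192 ∧ cc y = 10 ∧ B.val y = (0, -1, 0, -1, 1) := by
    intro y hy
    have hg := main y hy
    simp only [good, Bool.and_eq_true, beq_iff_eq, Prod.mk.injEq] at hg
    obtain ⟨⟨⟨hD, hσ⟩, h192⟩, h10, hv⟩ := hg
    exact ⟨⟨hD, hσ⟩, h192, h10, hv⟩
  exact ⟨(key y0 hy0).1, fun y hy => (key y hy).2.2, s, hs, (key y0 hy0).2.1⟩

end Cfsg.Agent.M12Ord56
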