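import Cfsg.Agent.Lib.M12Ord91Blk
import Cfsg.Agent.Lib.M12Ord56Search

/-!
Faithfulness of the block characters: no value is as large as the degree.
-/

set_option autoImplicit false
set_option linter.unusedSectionVars false
set_option linter.style.haveILetI false

namespace Cfsg.Agent.M12Ord56

open M12Ord40 M12Ord40.BlkAux Cfsg Cfsg.Agent.BlockPrincipal81 BlockTheoryLocalRing

attribute [local instance] Classical.propDecidable

variable {G : Type*} [Group G] [Fintype G]

/-- A representation by scalars cannot be irreducible in dimension two or more. -/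
theorem not_irr_of_scalar {n : ℕ} (ρ : Representation ℂ G (Fin n → ℂ)) [ρ.IsIrreducible] (hn : 2 ≤ n)
    (h : ∀ g, ρ g = LinearMap.id) : False := by
  set v : Fin n → ℂ := Pi.single ⟨0, by omega⟩ 1 with hv
  let U : Subrepresentation ρ := ⟨Submodule.span ℂ {v}, fun g w hw => by rw [h g]; exact hw⟩
  rcases eq_bot_or_eq_top U with e | e
  · have : Submodule.span ℂ {v} = ⊥ := congrArg Subrepresentation.toSubmodule e
    rw [Submodule.span_singleton_eq_bot] at this
    have := congrFun this ⟨0, by omega⟩
    simp [hv] at this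
  · have : Submodule.span ℂ {v} = ⊤ := congrArg Subrepresentation.toSubmodule e
    have h1 := finrank_span_singleton (K := ℂ) (v := v) (fun e0 => by
      have := congrFun e0 ⟨0, by omega⟩; simp [hv] at this)
    rw [this, finrank_top, Module.finrank_fin_fun] at h1
    omega

theorem center_eq_bot (hE : Eleven G) : Subgroup.center G = ⊥ := by
  haveI := hE.simple
  rcases Subgroup.Normal.eq_bot_or_eq_top (inferInstance : (Subgroup.center G).Normal) with h | h
  · exact h
  · exfalso
    obtain ⟨x, hx⟩ : ∃ x : G, orderOf x = 11 := by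
      haveI := Fact.mk (by norm_num : Nat.Prime 11)
      exact exists_prime_orderOf_dvd_card' 11 (by rw [hE.card]; norm_num)
    have h1 := hE.cent x hx
    have e : Subgroup.centralizer ({x} : Set G) = ⊤ := eq_top_iff.2 fun g _ =>
      Subgroup.mem_centralizer_singleton_iff.2 ((Subgroup.mem_center_iff.1 (h ▸ Subgroup.mem_top x)) g)
    rw [M12Ord40.cc, e, Subgroup.card_top, hE.card] at h1
    norm_num at h1

theorem rows_two : ∀ r ∈ rows, ∀ i : Fin 5, 2 ≤ M12Ord40.cmp i r.1 := by decide +kernel

theorem bound_of_raw (R : Raw G) (g : G) (hg : g ≠ 1) (h11 : ¬ 11 ∣ orderOf g) (i : Fin 5) :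
    |M12Ord40.cmp i (mkVec (iv R g))| < M12Ord40.cmp i R.D := by
  rw [cmp_mkVec]
  have hd : 2 ≤ M12Ord40.cmp i R.D := rows_two _ R.row i
  have hz := iv_spec R h11 i
  have h1 := R.deg i
  obtain ⟨n, ρ, hirr, hρ⟩ := (R.χ i).2
  rw [← hρ] at hz h1
  have hn : (n : ℤ) = M12Ord40.cmp i R.D := by
    rw [Representation.char_one, Module.finrank_fin_fun] at h1
    exact_mod_cast h1
  have hle : |iv R g i| ≤ (n : ℤ) := by
    have h := CharBasic.norm_character_le ρ g
    rw [hz, Module.finrank_fin_fun, Complex.norm_intCast, ← Int.cast_abs] at h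
    exact_mod_cast h
  rcases lt_or_eq_of_le hle with h | h
  · rwa [← hn]
  exfalso
  have hnorm : ‖ρ.character g‖ = (Module.finrank ℂ (Fin n → ℂ) : ℝ) := by
    rw [hz, Module.finrank_fin_fun, Complex.norm_intCast, ← Int.cast_abs, h]
    norm_cast
  obtain ⟨ω, hω⟩ := (CharBasic.norm_eq_finrank_iff ρ g).1 hnorm
  haveI := R.eleven.simple
  rcases Subgroup.Normal.eq_bot_or_eq_top (MonoidHom.normal_ker ρ) with hk | hk
  · have hinj : Function.Injective ρ := (MonoidHom.ker_eq_bot_iff ρ).1 hk
    have hc : g ∈ Subgroup.center G := Subgroup.mem_center_iff.2 fun x => hinj (by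
      rw [map_mul, map_mul, hω]
      refine LinearMap.ext fun v => ?_
      simp [Module.End.mul_apply, map_smul])
    rw [center_eq_bot R.eleven, Subgroup.mem_bot] at hc
    exact hg hc
  · haveI := hirr
    refine not_irr_of_scalar ρ (by omega) fun x => ?_
    have : x ∈ MonoidHom.ker ρ := hk ▸ Subgroup.mem_top x
    exact MonoidHom.mem_ker.1 this

/-- The block data, with the bound. -/
theorem exists_blk_bound {G : Type*} [Group G] [Fintype G] (R : Raw G) :
    ∃ B : Blk G, B.D = R.D ∧ B.σ = R.σ ∧ Bound B := by
  refine ⟨{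
    D := R.D
    σ := R.σ
    val := fun g => mkVec (iv R g)
    eleven := R.eleven
    row := R.row
    one := ?_
    «conj» := fun g h => by congr 1; exact funext fun i => iv_conj R g h i
    rel := fun g hg => ?_
    cent := fun g hg => cent_bound R hg
    cls := fun g hg i => by rw [cmp_mkVec]; exact cls_dvd R hg i
    congr := fun g h p hp hp11 hg hgh hh i => by
      simp only [cmp_mkVec]; exact congr_mul R hp hp11 hg hgh hh i
    eig := fun g p hp hp11 hg i => ?_
    four := fun g hg i => by rw [cmp_mkVec]; exact invol_four R hg i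
    count := fun g h hg hh => count_exists R hg hh
    invs := fun g h hg hh => invs_zero R hg hh
    total := ?_
    moment1 := fun i hi => ?_
    moment2 := fun i j hi hj => ?_
    squares := fun i hi => ?_ }, rfl, rfl, bound_of_raw R⟩
  · rw [← mkVec_cmp R.D]
    congr 1
    funext i
    have h := iv_spec R (one_reg (G := G)) i
    rw [R.deg] at h
    exact (Int.cast_injective h).symm
  · show relSum R.σ (mkVec (iv R g)) = 0
    simp only [relSum, cmp_mkVec]
    exact rel_sum R hg
  · simp only [cmp_mkVec]
    have h11 : ¬ 11 ∣ orderOf g := fun e => by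
      rw [hg] at e
      exact hp11 ((Nat.prime_dvd_prime_iff_eq (by norm_num) hp).1 e).symm
    exact eig_one hp (CharBasic.isCharacter_of_isIrrCharacter (R.χ i).2) hg (iv_spec R h11 i)
      (R.deg i)
  · rw [Nat.card_eq_fintype_card, Fintype.card_subtype]
    convert (counts R).1
  · simp only [cmp_mkVec]
    have := sum_reg R i hi
    rw [(counts R).2] at this
    convert this using 1
    push_cast
    ring
  · simp only [cmp_mkVec]
    exact sum_pair R i j hi hj
  · simp only [cmp_mkVec]
    exact sum_squares R i hi

end Cfsg.Agent.M12Ord56
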