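import Mathlib
import Cfsg.Agent.Lib.M12Ord40Defs

/-!
The search in the principal 11-block with the degrees of the Mathieu group of degree twelve: the
possible vectors of elements of order two and three, given the class of elements of order five and a
2-central involution.
-/

set_option autoImplicit false
set_option linter.unusedSectionVars false

namespace Cfsg.Agent.M12Ord83Search

open Cfsg.Agent.M12Ord40

/-- Entries allowed by the size, the class size and the eigenvalue multiplicities. -/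
def entries (C p : ℕ) (four : Bool) (d : ℕ) : List ℤ :=
  ((List.range (d + 94)).map fun k : ℕ => ((k : ℤ) - (d : ℤ))).filter fun u =>
    decide (u * u < (C : ℤ)) && decide ((((95040 / C : ℕ) : ℤ) * u) % (d : ℤ) = 0) &&
      decide (((d : ℤ) + ((p : ℤ) - 1) * u) % (p : ℤ) = 0) &&
      decide (0 ≤ (d : ℤ) + ((p : ℤ) - 1) * u) &&
      (!four || decide (((d : ℤ) - u) % 4 = 0))

/-- The pair condition of `Blk.count`. -/
def pairOk (C C' : ℕ) (u v : Vec) : Bool :=
  decide (0 ≤ pairSum m12D m12S u v) && decide (pairSum m12D m12S u v % ((C : ℤ) * (C' : ℤ)) = 0)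

/-- The vector of an element of order five. -/
def yVec : Vec := (0, -1, 0, -1, 1)

/-- The conditions on a whole vector. -/
def vecOk (C : ℕ) (v : Vec) : Bool :=
  decide (normSum v ≤ (C : ℤ)) && pairOk C C v v && pairOk C 10 v yVec

/-- The vectors left for an element of order `p` with centraliser order `C`. -/
def good (C p : ℕ) (four : Bool) : List Vec :=
  let W := entries C p four 16
  (entries C p four 45).flatMap fun a => (entries C p four 54).flatMap fun b =>
    (entries C p four 120).flatMap fun c => (entries C p four 144).flatMap fun d =>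
      let w := 1 + a - b - c + d
      if W.contains w && vecOk C (a, b, c, d, w) then [(a, b, c, d, w)] else []

/-- The outcome for involutions. -/
def twoList : List (ℕ × Vec) :=
  [(120, (5, 6, 0, -4, -4)), (240, (5, 6, 0, -4, -4)), (120, (5, 6, 0, 4, 4)),
   (240, (5, 6, 0, 4, 4)), (192, (-3, 6, -8, 0, 0)), (1440, (-15, 18, 0, 24, -8))]

/-- The outcome for elements of order three, apart from the centraliser orders divisible by five. -/
def threeList : List (ℕ × Vec) :=
  [(9, (0, 0, 0, 0, 1)), (18, (0, 0, 0, 0, 1)), (18, (0, 0, 3, 0, -2)), (27, (0, 0, 3, 0, -2)),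
   (36, (-3, 0, 0, 3, 1)), (36, (3, 0, 0, -3, 1)), (54, (0, 0, 3, 0, -2)),
   (72, (3, 0, 0, -6, -2))]

/-- The table for involutions. -/
def twoCheck : Bool :=
  (List.range 8641).all fun C =>
    if 8640 % C = 0 ∧ C % 4 = 0 then
      (good C 2 true).all fun v =>
        !decide (pairSum m12D m12S v v = 0) || twoList.contains (C, v)
    else true

/-- The table for elements of order three. -/
def threeCheck : Bool :=
  (List.range 8641).all fun C =>
    if 8640 % C = 0 ∧ C % 9 = 0 ∧ C % 5 ≠ 0 then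
      (good C 3 false).all fun v => threeList.contains (C, v)
    else true

theorem twoCheck_eq : twoCheck = true := by decide +kernel

theorem threeCheck_eq : threeCheck = true := by decide +kernel

theorem mem_entries {C p : ℕ} {four : Bool} {d : ℕ} (hd : 0 < d) {u : ℤ}
    (hsq : u * u < (C : ℤ)) (hcls : (d : ℤ) ∣ ((95040 / C : ℕ) : ℤ) * u)
    (hdvd : (p : ℤ) ∣ (d : ℤ) + ((p : ℤ) - 1) * u) (hpos : 0 ≤ (d : ℤ) + ((p : ℤ) - 1) * u)
    (hfour : four = true → (4 : ℤ) ∣ (d : ℤ) - u) (hle : -(d : ℤ) ≤ u ∧ u ≤ 93) :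
    u ∈ entries C p four d := by
  refine List.mem_filter.2 ⟨List.mem_map.2 ⟨(u + d).toNat, List.mem_range.2 (by omega), by omega⟩, ?_⟩
  simp only [Bool.and_eq_true, decide_eq_true_eq, Bool.or_eq_true, Bool.not_eq_true']
  refine ⟨⟨⟨⟨hsq, Int.emod_eq_zero_of_dvd hcls⟩, Int.emod_eq_zero_of_dvd hdvd⟩, hpos⟩, ?_⟩
  cases four
  · exact Or.inl rfl
  · exact Or.inr (Int.emod_eq_zero_of_dvd (hfour rfl))

section

variable {G : Type*} [Group G] [Fintype G] (B : Blk G)

theorem not_eleven_of_order {g : G} {p : ℕ} (hp : orderOf g = p) (hp2 : p < 11) (hp0 : 0 < p) :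
    ¬ 11 ∣ orderOf g := fun h => absurd (Nat.le_of_dvd (hp ▸ hp0) h) (by omega)

omit [Fintype G] in
theorem mem_cent_comm {g x : G} (h : g * x = x * g) :
    x ∈ Subgroup.centralizer ({g} : Set G) := Subgroup.mem_centralizer_singleton_iff.2 h.symm

include B in
theorem dvd_8640 {g : G} (h1 : g ≠ 1) (h11 : ¬ 11 ∣ orderOf g) : cc g ∣ 8640 := by
  have hd : cc g ∣ 8640 * 11 := by
    have := Subgroup.card_subgroup_dvd_card (Subgroup.centralizer ({g} : Set G))
    rwa [B.eleven.card] at this
  refine (Nat.Coprime.dvd_of_dvd_mul_right ?_ hd)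
  refine (Nat.Coprime.symm ((Nat.Prime.coprime_iff_not_dvd (by norm_num)).2 fun h => ?_))
  have : Fact (Nat.Prime 11) := ⟨by norm_num⟩
  obtain ⟨x, hx⟩ := exists_prime_orderOf_dvd_card' 11 h
  have hx' : orderOf (x : G) = 11 := by rw [Subgroup.orderOf_coe]; exact hx
  have hg : orderOf g ∣ cc (x : G) := Subgroup.orderOf_dvd_natCard _
    (mem_cent_comm (Subgroup.mem_centralizer_singleton_iff.1 x.2))
  rw [B.eleven.cent _ hx'] at hg
  rcases (Nat.dvd_prime (by norm_num)).1 hg with h' | h'
  · exact h1 (orderOf_eq_one_iff.1 h')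
  · exact h11 (by rw [h'])

/-- An element of prime order lies in a centraliser of order `p ^ 2` when `p ^ 2` divides `|G|`. -/
theorem sq_dvd_cc {p : ℕ} [Fact p.Prime] (hp : p ^ 2 ∣ Nat.card G) {g : G} (hg : orderOf g = p) :
    p ^ 2 ∣ cc g := by
  have hpg : IsPGroup p (Subgroup.zpowers g) :=
    IsPGroup.of_card (n := 1) (by rw [Nat.card_zpowers, hg, pow_one])
  obtain ⟨S, hS⟩ := hpg.exists_le_sylow
  have hgS : g ∈ (S : Subgroup G) := hS (Subgroup.mem_zpowers g)
  have hScard : p ^ 2 ∣ Nat.card (S : Subgroup G) := by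
    rw [S.card_eq_multiplicity]
    exact Nat.pow_dvd_pow p
      (((Fact.out : p.Prime).pow_dvd_iff_le_factorization Nat.card_pos.ne').1 hp)
  by_cases hc : ∀ s ∈ (S : Subgroup G), g * s = s * g
  · exact hScard.trans (Subgroup.card_dvd_of_le fun s hs => mem_cent_comm (hc s hs))
  · have hnt : Nontrivial (S : Subgroup G) := by
      refine ⟨⟨⟨g, hgS⟩, 1, fun e => ?_⟩⟩
      have : g = 1 := congrArg Subtype.val e
      rw [this, orderOf_one] at hg
      exact (Fact.out : p.Prime).one_lt.ne' hg.symm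
    have : Nontrivial (Subgroup.center (S : Subgroup G)) := S.2.center_nontrivial
    obtain ⟨z, hz⟩ := exists_ne (1 : Subgroup.center (S : Subgroup G))
    set C := (S : Subgroup G) ⊓ Subgroup.centralizer ({g} : Set G) with hC
    have hzC : ((z : (S : Subgroup G)) : G) ∈ C :=
      ⟨(z : (S : Subgroup G)).2, mem_cent_comm
        (congrArg Subtype.val (Subgroup.mem_center_iff.1 z.2 ⟨g, hgS⟩))⟩
    obtain ⟨k, hk⟩ := IsPGroup.iff_card.1 (S.2.to_le (inf_le_left : C ≤ _))
    have h2 : 2 ≤ k := by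
      by_contra hlt
      have hle : Nat.card C ≤ Nat.card (Subgroup.zpowers g) := by
        rw [hk, Nat.card_zpowers, hg]
        calc p ^ k ≤ p ^ 1 := Nat.pow_le_pow_right (Fact.out : p.Prime).pos (by omega)
          _ = p := pow_one p
      have heq := Subgroup.eq_of_le_of_card_ge
        (Subgroup.zpowers_le.2 (⟨hgS, mem_cent_comm rfl⟩ : g ∈ C)) hle
      have hzg : ((z : (S : Subgroup G)) : G) ∈ Subgroup.zpowers g := heq ▸ hzC
      apply hc
      intro s hs
      have hz1 : ((z : (S : Subgroup G)) : G) ≠ 1 := fun e =>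
        hz (Subtype.ext (Subtype.ext e))
      have hzord : orderOf ((z : (S : Subgroup G)) : G) = p := by
        rcases (Nat.dvd_prime (Fact.out : p.Prime)).1
          (hg ▸ orderOf_dvd_of_mem_zpowers hzg) with h' | h'
        · exact absurd (orderOf_eq_one_iff.1 h') hz1
        · exact h'
      have hgz : g ∈ Subgroup.zpowers ((z : (S : Subgroup G)) : G) := by
        rw [Subgroup.eq_of_le_of_card_ge (Subgroup.zpowers_le.2 hzg)
          (by rw [Nat.card_zpowers, Nat.card_zpowers, hg, hzord])]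
        exact Subgroup.mem_zpowers g
      obtain ⟨m, hm⟩ := Subgroup.mem_zpowers_iff.1 hgz
      rw [← hm]
      exact (Commute.zpow_left (congrArg Subtype.val
        (Subgroup.mem_center_iff.1 z.2 ⟨s, hs⟩)).symm m).eq
    exact (pow_dvd_pow p h2).trans (hk ▸ Subgroup.card_dvd_of_le inf_le_right)

variable (hd : B.D = m12D ∧ B.σ = m12S)
  (h5 : ∀ y : G, orderOf y = 5 → cc y = 10 ∧ B.val y = (0, -1, 0, -1, 1))

include hd h5

theorem pair_ok {g h : G} (hg : ¬ 11 ∣ orderOf g) (hh : ¬ 11 ∣ orderOf h) :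
    pairOk (cc g) (cc h) (B.val g) (B.val h) = true := by
  obtain ⟨a, ha⟩ := B.count g h hg hh
  rw [hd.1, hd.2] at ha
  simp only [pairOk, ← ha, Bool.and_eq_true, decide_eq_true_eq]
  exact ⟨by positivity, Int.emod_eq_zero_of_dvd ⟨a, by ring⟩⟩

/-- The vector of an element of prime order below eleven is in the list. -/
theorem mem_good {g : G} {p : ℕ} (hp : p.Prime) (hlt : p < 11) (hg : orderOf g = p) {four : Bool}
    (hf : four = true → p = 2) : B.val g ∈ good (cc g) p four := by
  have h11 := not_eleven_of_order hg hlt hp.pos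
  have : Fact (Nat.Prime 5) := ⟨by norm_num⟩
  obtain ⟨y, hy⟩ := exists_prime_orderOf_dvd_card' (G := G) 5 (by rw [B.eleven.card]; norm_num)
  obtain ⟨hy10, hyv⟩ := h5 y hy
  have hy11 := not_eleven_of_order hy (by norm_num) (by norm_num)
  have hrel := B.rel g h11
  have hnorm := B.cent g h11
  have hcls := B.cls g h11
  have heig := B.eig g p hp (by omega) hg
  have hyp := pair_ok B hd h5 h11 hy11
  have hgp := pair_ok B hd h5 h11 h11
  rw [hy10, hyv] at hyp
  have h4 : four = true → ∀ i : Fin 5, (4 : ℤ) ∣ M12Ord40.cmp i B.D - M12Ord40.cmp i (B.val g) := fun hft =>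
    B.four g (hg.trans (hf hft))
  rw [hd.1] at hcls heig h4
  rw [hd.2] at hrel
  rcases hv : B.val g with ⟨a, b, c, d, w⟩
  rw [hv] at hrel hnorm hcls heig hyp hgp h4
  simp only [relSum, m12S, Fin.sum_univ_five, M12Ord40.cmp] at hrel
  simp only [normSum, Fin.sum_univ_five, M12Ord40.cmp] at hnorm
  have hw : w = 1 + a - b - c + d := by linarith
  have ha2 := mul_self_nonneg a
  have hb2 := mul_self_nonneg b
  have hc2 := mul_self_nonneg c
  have hd2 := mul_self_nonneg d
  have hw2 := mul_self_nonneg w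
  have hp1 : (1 : ℤ) ≤ (p : ℤ) - 1 := by
    have := hp.two_le; omega
  have hbound : ∀ (D u : ℤ), 0 ≤ D → 0 ≤ D + ((p : ℤ) - 1) * u → -D ≤ u := fun D u hD h => by
    by_contra hlt'
    push Not at hlt'
    nlinarith
  have hC : (cc g : ℤ) ≤ 8640 := by
    exact_mod_cast Nat.le_of_dvd (by norm_num) (dvd_8640 B (fun e => by
      rw [e, orderOf_one] at hg; exact hp.one_lt.ne' hg.symm) h11)
  have hup : ∀ u : ℤ, u * u < (cc g : ℤ) → u ≤ 93 := fun u hu => by
    by_contra hlt'
    push Not at hlt'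
    nlinarith
  have hent : ∀ (i : Fin 5) (D : ℕ) (u : ℤ), M12Ord40.cmp i m12D = (D : ℤ) → M12Ord40.cmp i (a, b, c, d, w) = u →
      0 < D → u * u < (cc g : ℤ) → u ∈ entries (cc g) p four D := by
    intro i D u hD hu hD0 hsq
    have h1 := hcls i
    have h2 := heig i
    rw [hD, hu] at h1 h2
    exact mem_entries hD0 hsq h1 h2.1 h2.2 (fun hft => by
      have := h4 hft i
      rwa [hD, hu] at this) ⟨hbound _ _ (by positivity) h2.2, hup u hsq⟩
  refine List.mem_flatMap.2 ⟨a, hent 0 45 a (by simp [m12D, M12Ord40.cmp]) (by simp [M12Ord40.cmp]) (by norm_num)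
    (by linarith), ?_⟩
  refine List.mem_flatMap.2 ⟨b, hent 1 54 b (by simp [m12D, M12Ord40.cmp]) (by simp [M12Ord40.cmp]) (by norm_num)
    (by linarith), ?_⟩
  refine List.mem_flatMap.2 ⟨c, hent 2 120 c (by simp [m12D, M12Ord40.cmp]) (by simp [M12Ord40.cmp]) (by norm_num)
    (by linarith), ?_⟩
  refine List.mem_flatMap.2 ⟨d, hent 3 144 d (by simp [m12D, M12Ord40.cmp]) (by simp [M12Ord40.cmp]) (by norm_num)
    (by linarith), ?_⟩
  have hwmem := hent 4 16 w (by simp [m12D, M12Ord40.cmp]) (by simp [M12Ord40.cmp]) (by norm_num) (by linarith)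
  have hok : vecOk (cc g) (a, b, c, d, w) = true := by
    simp only [vecOk, Bool.and_eq_true, decide_eq_true_eq]
    refine ⟨⟨?_, hgp⟩, hyp⟩
    simp only [normSum, Fin.sum_univ_five, M12Ord40.cmp]
    exact hnorm
  subst hw
  simp [hwmem, hok]

theorem two_table {g : G} (hg : orderOf g = 2) : (cc g, B.val g) ∈ twoList := by
  have h11 := not_eleven_of_order hg (by norm_num) (by norm_num)
  have hg1 : g ≠ 1 := fun e => by rw [e, orderOf_one] at hg; omega
  have : Fact (Nat.Prime 2) := ⟨Nat.prime_two⟩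
  have h4 : 4 ∣ cc g := sq_dvd_cc (p := 2) (by rw [B.eleven.card]; norm_num) hg
  have h8 := dvd_8640 B hg1 h11
  have hall := List.all_eq_true.1 twoCheck_eq (cc g)
    (List.mem_range.2 (Nat.lt_succ_of_le (Nat.le_of_dvd (by norm_num) h8)))
  rw [if_pos ⟨Nat.mod_eq_zero_of_dvd h8, Nat.mod_eq_zero_of_dvd h4⟩] at hall
  have hv := List.all_eq_true.1 hall _
    (mem_good B hd h5 Nat.prime_two (by norm_num) hg (four := true) (fun _ => rfl))
  have hinv := B.invs g g hg hg
  rw [hd.1, hd.2] at hinv
  simpa [hinv] using hv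

omit hd in
theorem five_not_dvd {t : G} (ht : orderOf t = 3) : ¬ 5 ∣ cc t := by
  intro h
  have : Fact (Nat.Prime 5) := ⟨by norm_num⟩
  obtain ⟨x, hx⟩ := exists_prime_orderOf_dvd_card' 5 h
  have hx' : orderOf (x : G) = 5 := by rw [Subgroup.orderOf_coe]; exact hx
  have hdvd : orderOf t ∣ cc (x : G) := Subgroup.orderOf_dvd_natCard _
    (mem_cent_comm (Subgroup.mem_centralizer_singleton_iff.1 x.2))
  rw [(h5 _ hx').1, ht] at hdvd
  norm_num at hdvd

theorem three_table {t : G} (ht : orderOf t = 3) : (cc t, B.val t) ∈ threeList := by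
  have h11 := not_eleven_of_order ht (by norm_num) (by norm_num)
  have hg1 : t ≠ 1 := fun e => by rw [e, orderOf_one] at ht; omega
  have : Fact (Nat.Prime 3) := ⟨Nat.prime_three⟩
  have h9 : 9 ∣ cc t := sq_dvd_cc (p := 3) (by rw [B.eleven.card]; norm_num) ht
  have h8 := dvd_8640 B hg1 h11
  have h55 : cc t % 5 ≠ 0 := fun e => five_not_dvd B h5 ht (Nat.dvd_of_mod_eq_zero e)
  have hall := List.all_eq_true.1 threeCheck_eq (cc t)
    (List.mem_range.2 (Nat.lt_succ_of_le (Nat.le_of_dvd (by norm_num) h8)))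
  rw [if_pos ⟨Nat.mod_eq_zero_of_dvd h8, Nat.mod_eq_zero_of_dvd h9, h55⟩] at hall
  simpa using List.all_eq_true.1 hall _
    (mem_good B hd h5 Nat.prime_three (by norm_num) ht (four := false) (fun h => by simp at h))

/-- A 3-central element of order three. -/
theorem exists_three_central : ∃ t : G, orderOf t = 3 ∧ 27 ∣ cc t := by
  have : Fact (Nat.Prime 3) := ⟨Nat.prime_three⟩
  obtain ⟨S⟩ := (inferInstance : Nonempty (Sylow 3 G))
  have hS : 27 ∣ Nat.card (S : Subgroup G) := by
    rw [S.card_eq_multiplicity]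
    exact (Nat.pow_dvd_pow 3 ((Nat.prime_three.pow_dvd_iff_le_factorization Nat.card_pos.ne').1
      (show 3 ^ 3 ∣ Nat.card G by rw [B.eleven.card]; norm_num)) :)
  have hnt : Nontrivial (S : Subgroup G) := Finite.one_lt_card_iff_nontrivial.1
    (lt_of_lt_of_le (by norm_num) (Nat.le_of_dvd Nat.card_pos hS))
  have hcent : Nontrivial (Subgroup.center (S : Subgroup G)) := S.2.center_nontrivial
  obtain ⟨k, hk⟩ := IsPGroup.iff_card.1 (S.2.to_subgroup (Subgroup.center (S : Subgroup G)))
  have hk0 : 3 ∣ Nat.card (Subgroup.center (S : Subgroup G)) := by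
    rw [hk]
    refine dvd_pow_self 3 fun h0 => ?_
    have := Finite.one_lt_card (α := Subgroup.center (S : Subgroup G))
    rw [hk, h0] at this
    simp at this
  obtain ⟨z, hz⟩ := exists_prime_orderOf_dvd_card' 3 hk0
  refine ⟨((z : (S : Subgroup G)) : G), by rw [Subgroup.orderOf_coe, Subgroup.orderOf_coe, hz], ?_⟩
  refine hS.trans (Subgroup.card_dvd_of_le fun s hs => mem_cent_comm ?_)
  exact (congrArg Subtype.val (Subgroup.mem_center_iff.1 z.2 ⟨s, hs⟩)).symm

omit hd in
theorem big_false {u : G} (hu : orderOf u = 2) (hC : cc u = 1440)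
    (hv : B.val u = (-15, 18, 0, 24, -8)) : False := by
  have : Fact (Nat.Prime 5) := ⟨by norm_num⟩
  obtain ⟨x, hx⟩ := exists_prime_orderOf_dvd_card' (G := Subgroup.centralizer ({u} : Set G)) 5
    (by rw [show Nat.card (Subgroup.centralizer ({u} : Set G)) = cc u from rfl, hC]; norm_num)
  set y := (x : G) with hy
  have hy5 : orderOf y = 5 := by rw [hy, Subgroup.orderOf_coe]; exact hx
  have hcomm : Commute u y := (Subgroup.mem_centralizer_singleton_iff.1 x.2).symm
  obtain ⟨hy10, -⟩ := h5 y hy5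
  have hord : orderOf (u * y) = 10 := by
    rw [hcomm.orderOf_mul_eq_mul_orderOf_of_coprime (by rw [hu, hy5]; norm_num), hu, hy5]
  have hy6 : y = (u * y) ^ 6 := by
    rw [hcomm.mul_pow, ← pow_mod_orderOf u, ← pow_mod_orderOf y 6, hu, hy5]
    simp
  have hle : cc (u * y) ≤ 10 := by
    rw [← hy10]
    refine Subgroup.card_le_of_le fun s hs => Subgroup.mem_centralizer_singleton_iff.2 ?_
    rw [hy6]
    exact ((show Commute s (u * y) from Subgroup.mem_centralizer_singleton_iff.1 hs).pow_right 6).eq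
  have h11 : ¬ 11 ∣ orderOf (u * y) := by rw [hord]; norm_num
  have hnorm := (B.cent _ h11).trans (show (cc (u * y) : ℤ) ≤ 10 by exact_mod_cast hle)
  have hcong := B.congr u y 5 (by norm_num) (by norm_num)
    (not_eleven_of_order hu (by norm_num) (by norm_num)) hcomm ⟨1, by rw [hy5, pow_one]⟩
  rw [hv] at hcong
  rcases he : B.val (u * y) with ⟨a, b, c, d, w⟩
  rw [he] at hcong hnorm
  have h1 := hcong 1
  have h3 := hcong 3
  have h4 := hcong 4
  simp only [M12Ord40.cmp, Int.ModEq] at h1 h3 h4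
  simp only [normSum, Fin.sum_univ_five, M12Ord40.cmp] at hnorm
  have hb : 4 ≤ b * b := by
    rcases le_or_gt b (-2) with h | h
    · nlinarith
    · rcases le_or_gt 2 b with h' | h'
      · nlinarith
      · interval_cases b <;> norm_num at h1
  have hd' : 1 ≤ d * d := by
    rcases lt_trichotomy d 0 with h | h | h
    · nlinarith
    · subst h; norm_num at h3
    · nlinarith
  have hw' : 4 ≤ w * w := by
    rcases le_or_gt w (-2) with h | h
    · nlinarith
    · rcases le_or_gt 2 w with h' | h'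
      · nlinarith
      · interval_cases w <;> norm_num at h4
  nlinarith [mul_self_nonneg a, mul_self_nonneg c]

theorem exists_search (hc : ∃ g : G, orderOf g = 2 ∧ cc g = 192) : Search B := by
  obtain ⟨t, ht, ht27⟩ := exists_three_central B hd h5
  have htv : (cc t = 27 ∨ cc t = 54) ∧ B.val t = (0, 0, 3, 0, -2) := by
    have := three_table B hd h5 ht
    simp only [threeList, List.mem_cons, Prod.mk.injEq, List.not_mem_nil, or_false] at this
    rcases this with h | h | h | h | h | h | h | h <;>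
      (obtain ⟨h1, h2⟩ := h; first
        | exact ⟨Or.inl h1, h2⟩ | exact ⟨Or.inr h1, h2⟩ | (exfalso; omega))
  have ht11 := not_eleven_of_order ht (by norm_num) (by norm_num)
  have hinvol : ∀ g : G, orderOf g = 2 →
      (cc g = 192 ∧ B.val g = (-3, 6, -8, 0, 0)) ∨
        ((cc g = 120 ∨ cc g = 240) ∧ B.val g = (5, 6, 0, 4, 4)) := by
    intro g hg
    have hmem := two_table B hd h5 hg
    have hpair := pair_ok B hd h5 ht11 (not_eleven_of_order hg (by norm_num) (by norm_num))
    simp only [twoList, List.mem_cons, Prod.mk.injEq, List.not_mem_nil, or_false] at hmem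
    rcases hmem with ⟨h1, h2⟩ | ⟨h1, h2⟩ | ⟨h1, h2⟩ | ⟨h1, h2⟩ | ⟨h1, h2⟩ | ⟨h1, h2⟩
    · exfalso
      rw [h1, h2, htv.2] at hpair
      rcases htv.1 with e | e <;> rw [e] at hpair <;> revert hpair <;> decide
    · exfalso
      rw [h1, h2, htv.2] at hpair
      rcases htv.1 with e | e <;> rw [e] at hpair <;> revert hpair <;> decide
    · exact Or.inr ⟨Or.inl h1, h2⟩
    · exact Or.inr ⟨Or.inr h1, h2⟩
    · exact Or.inl ⟨h1, h2⟩
    · exact (big_false B h5 hg h1 h2).elim
  obtain ⟨s, hs, hs192⟩ := hc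
  have hsv : B.val s = (-3, 6, -8, 0, 0) := by
    rcases hinvol s hs with ⟨-, h⟩ | ⟨h | h, -⟩
    · exact h
    · omega
    · omega
  refine ⟨hd, hinvol, fun g hg => ?_, h5, s, hs, hs192⟩
  have hmem := three_table B hd h5 hg
  have hpair := pair_ok B hd h5 (not_eleven_of_order hs (by norm_num) (by norm_num))
    (not_eleven_of_order hg (by norm_num) (by norm_num))
  simp only [threeList, List.mem_cons, Prod.mk.injEq, List.not_mem_nil, or_false] at hmem
  rcases hmem with h | h | h | h | h | h | h | h <;> obtain ⟨h1, h2⟩ := h <;>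
    first
      | (rw [h1]; norm_num; done)
      | (exfalso; rw [h1, h2, hs192, hsv] at hpair; revert hpair; decide)

end

end Cfsg.Agent.M12Ord83Search
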