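import Cfsg.Agent.Lib.M12Ord88Exists
import Cfsg.Agent.Lib.M12Ord47Int

/-!
The principal 11-block data of a group of order 95040.
-/

set_option autoImplicit false

namespace Cfsg.Agent.M12Ord40

theorem exists_raw {G : Type*} [Group G] [Fintype G] (h : Eleven G) : Nonempty (Raw G) := by
  obtain ⟨R⟩ := M12Ord88.exists_pre h
  exact ⟨{
    eleven := R.eleven, D := R.D, σ := R.σ, row := R.row, χ := R.χ, θ := R.θ, inj := R.inj
    other := R.other, nontriv := R.nontriv, nontrivθ := R.nontrivθ, deg := R.deg
    int := M12Ord47.int_of_pre R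
    agree := R.agree, rel := R.rel, atEleven := R.atEleven, excEleven := R.excEleven
    outside := R.outside }⟩

end Cfsg.Agent.M12Ord40
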