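import Cfsg.Agent.Lib.M12Ord40Defs

/-!
The multiplicities of the twenty-one vectors in the principal 11-block of a group of order 95040.
-/

set_option autoImplicit false
set_option maxRecDepth 100000

namespace Cfsg.Agent.M12Ord40

/-- For each admissible vector a multiple of every possible centraliser order. -/
def caps : List ℕ := [8, 6, 4, 9, 10, 5, 20, 12, 6, 8, 32, 12, 16, 54, 24, 24, 36, 48, 60, 240, 192]

/-- The vector of the central involutions. -/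
def vInv : Vec := (-3, 6, -8, 0, 0)

/-- The vector of the other involutions. -/
def vOuter : Vec := (5, 6, 0, 4, 4)

/-- The vector of the elements of order five. -/
def vFive : Vec := (0, -1, 0, -1, 1)

/-- The tests on a centraliser order of an element with a given vector. -/
def fits (v : Vec) (C : ℕ) : Prop :=
  normSum v ≤ (C : ℤ) ∧ (∀ i : Fin 5, cmp i m12D ∣ ((95040 / C : ℕ) : ℤ) * cmp i v) ∧
    (((C * 192 : ℕ) : ℤ) ∣ pairSum m12D m12S v vInv ∧ 0 ≤ pairSum m12D m12S v vInv) ∧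
    (((C * 120 : ℕ) : ℤ) ∣ pairSum m12D m12S v vOuter ∧ 0 ≤ pairSum m12D m12S v vOuter) ∧
    (((C * 10 : ℕ) : ℤ) ∣ pairSum m12D m12S v vFive ∧ 0 ≤ pairSum m12D m12S v vFive) ∧
    (((C * C : ℕ) : ℤ) ∣ pairSum m12D m12S v v ∧ 0 ≤ pairSum m12D m12S v v)

instance (v : Vec) (C : ℕ) : Decidable (fits v C) := by unfold fits; infer_instance

theorem fits_all : ((List.range 21).all fun k => (List.range 241).all fun C =>
    !decide (C ∣ 192 ∨ C ∣ 240 ∨ C ∣ 54 ∨ C ∣ 36 ∨ C ∣ 10) || !decide (fits (vecList.getD k vInv) C) ||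
      decide (C ∣ caps.getD k 1)) = true := by
  decide +kernel

theorem fits_cap (k : ℕ) (hk : k < 21) (C : ℕ) (hC : C < 241)
    (h : C ∣ 192 ∨ C ∣ 240 ∨ C ∣ 54 ∨ C ∣ 36 ∨ C ∣ 10) (hf : fits (vecList.getD k vInv) C) :
    C ∣ caps.getD k 1 := by
  have := List.all_eq_true.1 (List.all_eq_true.1 fits_all k (List.mem_range.2 hk)) C (List.mem_range.2 hC)
  simp only [decide_eq_true h, decide_eq_true hf, Bool.not_true, Bool.false_or, decide_eq_true_eq] at this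
  exact this

theorem caps_dvd : ∀ k < 21, caps.getD k 1 ∣ 95040 := by decide

set_option maxHeartbeats 4000000 in
/-- The linear system on the multiplicities. -/
theorem solve_counts (k0 k1 k2 k3 k4 k5 k6 k7 k8 k9 k10 k11 k12 k13 k14 k15 k16 k17 k18 k19 k20 : ℕ)
    (e0 : 11880 * (k0 : ℤ) + 15840 * (k1 : ℤ) + 23760 * (k2 : ℤ) + 10560 * (k3 : ℤ) + 9504 * (k4 : ℤ) + 19008 * (k5 : ℤ) + 4752 * (k6 : ℤ) + 7920 * (k7 : ℤ) + 15840 * (k8 : ℤ) + 11880 * (k9 : ℤ) + 2970 * (k10 : ℤ) + 7920 * (k11 : ℤ) + 5940 * (k12 : ℤ) + 1760 * (k13 : ℤ) + 3960 * (k14 : ℤ) + 3960 * (k15 : ℤ) + 2640 * (k16 : ℤ) + 1980 * (k17 : ℤ) + 1584 * (k18 : ℤ) + 396 * (k19 : ℤ) + 495 * (k20 : ℤ) = 77759)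
    (e1 : -11880 * (k0 : ℤ) - 7920 * (k7 : ℤ) + 15840 * (k8 : ℤ) + 2970 * (k10 : ℤ) + 7920 * (k11 : ℤ) - 17820 * (k12 : ℤ) - 3960 * (k14 : ℤ) + 7920 * (k16 : ℤ) + 5940 * (k17 : ℤ) + 1980 * (k19 : ℤ) - 1485 * (k20 : ℤ) = -17325)
    (e2 : 23760 * (k2 : ℤ) - 9504 * (k4 : ℤ) + 4752 * (k6 : ℤ) - 11880 * (k9 : ℤ) + 5940 * (k10 : ℤ) - 11880 * (k12 : ℤ) + 11880 * (k15 : ℤ) - 4752 * (k18 : ℤ) + 2376 * (k19 : ℤ) + 2970 * (k20 : ℤ) = 17226)
    (e3 : 15840 * (k1 : ℤ) + 23760 * (k9 : ℤ) + 15840 * (k11 : ℤ) + 5280 * (k13 : ℤ) - 7920 * (k15 : ℤ) + 7920 * (k17 : ℤ) - 3960 * (k20 : ℤ) = 17160)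
    (e4 : -9504 * (k4 : ℤ) - 19008 * (k5 : ℤ) - 4752 * (k6 : ℤ) + 7920 * (k7 : ℤ) - 15840 * (k8 : ℤ) - 7920 * (k11 : ℤ) - 7920 * (k14 : ℤ) - 7920 * (k16 : ℤ) - 9504 * (k18 : ℤ) + 1584 * (k19 : ℤ) = -17424)
    (e5 : 11880 * (k0 : ℤ) + 7920 * (k7 : ℤ) + 15840 * (k8 : ℤ) + 2970 * (k10 : ℤ) + 7920 * (k11 : ℤ) + 53460 * (k12 : ℤ) + 3960 * (k14 : ℤ) + 23760 * (k16 : ℤ) + 17820 * (k17 : ℤ) + 9900 * (k19 : ℤ) + 4455 * (k20 : ℤ) = 75735)
    (e6 : 5940 * (k10 : ℤ) + 35640 * (k12 : ℤ) + 11880 * (k19 : ℤ) - 8910 * (k20 : ℤ) = 14850)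
    (e7 : 15840 * (k11 : ℤ) + 23760 * (k17 : ℤ) + 11880 * (k20 : ℤ) = 11880)
    (e8 : -7920 * (k7 : ℤ) - 15840 * (k8 : ℤ) - 7920 * (k11 : ℤ) + 7920 * (k14 : ℤ) - 23760 * (k16 : ℤ) + 7920 * (k19 : ℤ) = -23760)
    (e9 : 23760 * (k2 : ℤ) + 9504 * (k4 : ℤ) + 4752 * (k6 : ℤ) + 11880 * (k9 : ℤ) + 11880 * (k10 : ℤ) + 23760 * (k12 : ℤ) + 35640 * (k15 : ℤ) + 14256 * (k18 : ℤ) + 14256 * (k19 : ℤ) + 17820 * (k20 : ℤ) = 74844)
    (e10 : -23760 * (k9 : ℤ) - 23760 * (k15 : ℤ) - 23760 * (k20 : ℤ) = -23760)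
    (e11 : 9504 * (k4 : ℤ) - 4752 * (k6 : ℤ) + 28512 * (k18 : ℤ) + 9504 * (k19 : ℤ) = 9504)
    (e12 : 15840 * (k1 : ℤ) + 47520 * (k9 : ℤ) + 31680 * (k11 : ℤ) + 15840 * (k13 : ℤ) + 15840 * (k15 : ℤ) + 31680 * (k17 : ℤ) + 31680 * (k20 : ℤ) = 63360)
    (e13 : -15840 * (k11 : ℤ) = 0)
    (e14 : 9504 * (k4 : ℤ) + 19008 * (k5 : ℤ) + 4752 * (k6 : ℤ) + 7920 * (k7 : ℤ) + 15840 * (k8 : ℤ) + 7920 * (k11 : ℤ) + 15840 * (k14 : ℤ) + 23760 * (k16 : ℤ) + 57024 * (k18 : ℤ) + 6336 * (k19 : ℤ) = 57024)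
    (h19 : 1 ≤ k19) (h20 : 1 ≤ k20) :
    k0 = 2 ∧ k1 = 1 ∧ k2 = 0 ∧ k3 = 0 ∧ k4 = 1 ∧ k5 = 0 ∧ k6 = 2 ∧ k7 = 1 ∧ k8 = 0 ∧ k9 = 0 ∧ k10 = 2 ∧ k11 = 0 ∧ k12 = 0 ∧ k13 = 1 ∧ k14 = 0 ∧ k15 = 0 ∧ k16 = 1 ∧ k17 = 0 ∧ k18 = 0 ∧ k19 = 1 ∧ k20 = 1 := by
  have f0 : (k6 : ℤ) + 2 * (k14 : ℤ) = 2 := by
    refine mul_left_cancel₀ (show (47520 : ℤ) ≠ 0 by norm_num) ?_
    linear_combination 4 * e1 - 5 * e2 + 4 * e4 + 4 * e5 - 9 * e6 - 4 * e7 + 8 * e8 + 5 * e9 + 5 * e10 - 10 * e11 - 4 * e13 + 4 * e14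
  have f1 : (k3 : ℤ) - 2 * (k16 : ℤ) - 3 * (k18 : ℤ) = -2 := by
    refine mul_left_cancel₀ (show (31680 : ℤ) ≠ 0 by norm_num) ?_
    linear_combination 3 * e0 + 3 * e1 - 3 * e2 - 4 * e3 + 3 * e4 - 1 * e7 + 3 * e8 + 1 * e10 - 3 * e11 + 1 * e12 - 3 * e13
  have f2 : (k7 : ℤ) + (k16 : ℤ) + 2 * (k18 : ℤ) = 2 := by
    refine mul_left_cancel₀ (show (47520 : ℤ) ≠ 0 by norm_num) ?_
    linear_combination -1 * e1 + 2 * e4 - 1 * e5 + 1 * e6 + 1 * e7 - 2 * e8 + 1 * e13 + 2 * e14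
  have f3 : (k0 : ℤ) + 3 * (k12 : ℤ) - 2 * (k18 : ℤ) = 2 := by
    refine mul_left_cancel₀ (show (47520 : ℤ) ≠ 0 by norm_num) ?_
    linear_combination -2 * e1 - 2 * e4 + 2 * e5 - 1 * e7 - 1 * e13 - 2 * e14
  have f4 : (k4 : ℤ) + (k18 : ℤ) = 1 := by
    refine mul_left_cancel₀ (show (19008 : ℤ) ≠ 0 by norm_num) ?_
    linear_combination -1 * e2 - 1 * e6 + 1 * e9 + 1 * e10
  have f5 : (k10 : ℤ) + 6 * (k12 : ℤ) - 2 * (k14 : ℤ) + 3 * (k17 : ℤ) - 4 * (k18 : ℤ) = 2 := by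
    refine mul_left_cancel₀ (show (23760 : ℤ) ≠ 0 by norm_num) ?_
    linear_combination -2 * e1 - 2 * e4 - 2 * e5 + 6 * e6 + 5 * e7 - 4 * e8 + 5 * e13 - 2 * e14
  have f6 : (k14 : ℤ) + 2 * (k18 : ℤ) + (k19 : ℤ) = 1 := by
    refine mul_left_cancel₀ (show (23760 : ℤ) ≠ 0 by norm_num) ?_
    linear_combination 1 * e1 + 1 * e4 + 1 * e5 - 1 * e6 - 1 * e7 + 2 * e8 - 1 * e13 + 1 * e14
  have f7 : (k1 : ℤ) + 2 * (k9 : ℤ) = 1 := by
    refine mul_left_cancel₀ (show (95040 : ℤ) ≠ 0 by norm_num) ?_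
    linear_combination 9 * e3 + 1 * e7 - 5 * e10 - 3 * e12 + 4 * e13
  have f8 : (k13 : ℤ) = 1 := by
    refine mul_left_cancel₀ (show (10560 : ℤ) ≠ 0 by norm_num) ?_
    linear_combination -1 * e3 - 1 * e7 + 1 * e10 + 1 * e12
  have f9 : (k2 : ℤ) - (k9 : ℤ) - 2 * (k12 : ℤ) + (k18 : ℤ) = 0 := by
    refine mul_left_cancel₀ (show (47520 : ℤ) ≠ 0 by norm_num) ?_
    linear_combination 2 * e2 - 2 * e6 + 1 * e10 + 2 * e11
  have f10 : (k5 : ℤ) + (k18 : ℤ) = 0 := by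
    refine mul_left_cancel₀ (show (19008 : ℤ) ≠ 0 by norm_num) ?_
    linear_combination -1 * e1 + 1 * e2 - 1 * e4 - 1 * e5 + 2 * e6 + 1 * e7 - 1 * e8 - 1 * e9 - 1 * e10 + 1 * e11 + 1 * e13
  have f11 : (k8 : ℤ) + (k16 : ℤ) = 1 := by
    refine mul_left_cancel₀ (show (31680 : ℤ) ≠ 0 by norm_num) ?_
    linear_combination 1 * e1 + 1 * e5 - 1 * e6 - 1 * e7
  have f12 : (k9 : ℤ) + (k15 : ℤ) - 2 * (k17 : ℤ) = 0 := by
    refine mul_left_cancel₀ (show (23760 : ℤ) ≠ 0 by norm_num) ?_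
    linear_combination -2 * e7 - 1 * e10 - 2 * e13
  have f13 : 2 * (k17 : ℤ) + (k20 : ℤ) = 1 := by
    refine mul_left_cancel₀ (show (11880 : ℤ) ≠ 0 by norm_num) ?_
    linear_combination 1 * e7 + 1 * e13
  have f14 : (k11 : ℤ) = 0 := by
    refine mul_left_cancel₀ (show (15840 : ℤ) ≠ 0 by norm_num) ?_
    linear_combination -1 * e13
  clear e0 e1 e2 e3 e4 e5 e6 e7 e8 e9 e10 e11 e12 e13 e14
  omega

variable {G : Type*} [Group G] [Fintype G] {B : Blk G}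

theorem card_class (g : G) : (conjugatesOf g).ncard * cc g = Nat.card G := by
  have h : conjugatesOf g = MulAction.orbit (ConjAct G) g := by
    rw [ConjAct.orbit_eq_carrier_conjClasses]; rfl
  rw [h, ← MulAction.index_stabilizer, cc, Subgroup.nat_card_centralizer_nat_card_stabilizer]
  exact Subgroup.index_mul_card _

theorem cc_dvd_of_pow (g : G) (m : ℕ) : cc g ∣ cc (g ^ m) := by
  refine Subgroup.card_dvd_of_le fun y hy => ?_
  rw [Subgroup.mem_centralizer_singleton_iff] at hy ⊢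
  exact Commute.pow_right hy m

theorem cc_cases (S : Search B) {g : G} (hg : g ≠ 1) (h11 : ¬ 11 ∣ orderOf g) :
    cc g ∣ 192 ∨ cc g ∣ 240 ∨ cc g ∣ 54 ∨ cc g ∣ 36 ∨ cc g ∣ 10 := by
  obtain ⟨p, hp, hpd⟩ := Nat.exists_prime_and_dvd (mt orderOf_eq_one_iff.1 hg)
  have hG : orderOf g ∣ 95040 := B.eleven.card ▸ orderOf_dvd_natCard g
  have hp4 : p ∈ (95040 : ℕ).primeFactors := Nat.mem_primeFactors.2 ⟨hp, hpd.trans hG, by norm_num⟩
  have hpf : (95040 : ℕ).primeFactors ⊆ {2, 3, 5, 11} := by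
    intro q hq
    rw [Nat.mem_primeFactors] at hq
    have : q ∣ 2 ^ 6 * 3 ^ 3 * 5 * 11 := by norm_num; exact hq.2.1
    simp only [Finset.mem_insert, Finset.mem_singleton]
    rcases hq.1.dvd_mul.1 this with h | h
    · rcases hq.1.dvd_mul.1 h with h | h
      · rcases hq.1.dvd_mul.1 h with h | h
        · exact Or.inl ((Nat.prime_dvd_prime_iff_eq hq.1 Nat.prime_two).1 (hq.1.dvd_of_dvd_pow h))
        · exact Or.inr (Or.inl ((Nat.prime_dvd_prime_iff_eq hq.1 Nat.prime_three).1 (hq.1.dvd_of_dvd_pow h)))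
      · exact Or.inr (Or.inr (Or.inl ((Nat.prime_dvd_prime_iff_eq hq.1 (by norm_num)).1 h)))
    · exact Or.inr (Or.inr (Or.inr ((Nat.prime_dvd_prime_iff_eq hq.1 (by norm_num)).1 h)))
  have hne : p ≠ 11 := fun h => h11 (h ▸ hpd)
  have hh : orderOf (g ^ (orderOf g / p)) = p :=
    orderOf_pow_orderOf_div (orderOf_pos g).ne' hpd
  have hd := cc_dvd_of_pow g (orderOf g / p)
  have hmem := hpf hp4
  simp only [Finset.mem_insert, Finset.mem_singleton] at hmem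
  rcases hmem with rfl | rfl | rfl | rfl
  · rcases S.invol _ hh with ⟨h, -⟩ | ⟨h | h, -⟩
    · exact Or.inl (h ▸ hd)
    · exact Or.inr (Or.inl ((h ▸ hd).trans (by norm_num)))
    · exact Or.inr (Or.inl (h ▸ hd))
  · rcases (S.three _ hh).1 with h | h
    · exact Or.inr (Or.inr (Or.inl (hd.trans h)))
    · exact Or.inr (Or.inr (Or.inr (Or.inl (hd.trans h))))
  · exact Or.inr (Or.inr (Or.inr (Or.inr ((S.five _ hh).1 ▸ hd))))
  · exact absurd rfl hne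

theorem exists_outer (S : Search B) :
    (∃ y : G, orderOf y = 5) ∧
      ∃ t : G, orderOf t = 2 ∧ (cc t = 120 ∨ cc t = 240) ∧ B.val t = vOuter := by
  haveI : Fact (Nat.Prime 5) := ⟨by norm_num⟩
  haveI : Fact (Nat.Prime 2) := ⟨Nat.prime_two⟩
  obtain ⟨y, hy⟩ := exists_prime_orderOf_dvd_card' (G := G) 5 (by rw [B.eleven.card]; norm_num)
  refine ⟨⟨y, hy⟩, ?_⟩
  obtain ⟨⟨t, htC⟩, ht⟩ := exists_prime_orderOf_dvd_card' (G := Subgroup.centralizer ({y} : Set G)) 2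
    (by show 2 ∣ cc y; rw [(S.five y hy).1]; norm_num)
  rw [Subgroup.orderOf_mk] at ht
  refine ⟨t, ht, ?_⟩
  have hy5 : 5 ∣ cc t := by
    have hm : y ∈ Subgroup.centralizer ({t} : Set G) := by
      rw [Subgroup.mem_centralizer_singleton_iff] at htC ⊢
      exact htC.symm
    have := orderOf_dvd_natCard (⟨y, hm⟩ : Subgroup.centralizer ({t} : Set G))
    rwa [Subgroup.orderOf_mk, hy] at this
  rcases S.invol t ht with ⟨h, -⟩ | ⟨h, hv⟩
  · rw [h] at hy5; norm_num at hy5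
  · exact ⟨h, hv⟩

theorem cc_cap (S : Search B) {g : G} (hg : g ≠ 1) (h11 : ¬ 11 ∣ orderOf g) {k : ℕ} (hk : k < 21)
    (hv : B.val g = vecList.getD k vInv) : cc g ∣ caps.getD k 1 := by
  obtain ⟨⟨y, hy⟩, t, ht, htc, htv⟩ := exists_outer S
  obtain ⟨z, hz, hzc⟩ := S.central
  have hzv : B.val z = vInv := by
    rcases S.invol z hz with ⟨-, h⟩ | ⟨h | h, -⟩
    · exact h
    · omega
    · omega
  obtain ⟨hD, hS⟩ := S.deg
  have key : ∀ (h : G) (v : Vec) (c : ℕ), ¬ 11 ∣ orderOf h → B.val h = v → c ∣ cc h →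
      ((cc g * c : ℕ) : ℤ) ∣ pairSum m12D m12S (B.val g) v ∧ 0 ≤ pairSum m12D m12S (B.val g) v := by
    intro h v c hh hhv hc
    obtain ⟨a, ha⟩ := B.count g h h11 hh
    rw [hD, hS, hhv] at ha
    refine ⟨?_, ha ▸ by positivity⟩
    rw [← ha, show (a : ℤ) * cc g * cc h = ((a * (cc g * cc h) : ℕ) : ℤ) by push_cast; ring]
    exact Int.natCast_dvd_natCast.2 (dvd_mul_of_dvd_right (mul_dvd_mul_left _ hc) a)
  have hc := cc_cases S hg h11
  have hlt : cc g < 241 := by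
    rcases hc with h | h | h | h | h <;> have := Nat.le_of_dvd (by norm_num) h <;> omega
  refine fits_cap k hk (cc g) hlt hc ?_
  rw [← hv]
  refine ⟨B.cent g h11, fun i => ?_, key z vInv 192 (by rw [hz]; norm_num) hzv hzc.symm.dvd,
    key t vOuter 120 (by rw [ht]; norm_num) htv ?_,
    key y vFive 10 (by rw [hy]; norm_num) (S.five y hy).2 (S.five y hy).1.symm.dvd,
    key g (B.val g) (cc g) h11 rfl dvd_rfl⟩
  · simpa only [hD] using B.cls g h11 i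
  · rcases htc with h | h <;> rw [h]
    norm_num

/-- The number of elements with a vector. -/
noncomputable def mult (B : Blk G) (v : Vec) : ℕ :=
  Nat.card {g : G // g ≠ 1 ∧ ¬ 11 ∣ orderOf g ∧ B.val g = v}

theorem step_dvd (S : Search B) {k : ℕ} (hk : k < 21) :
    95040 / caps.getD k 1 ∣ mult B (vecList.getD k vInv) := by
  classical
  let T := Finset.univ.filter fun g : G => g ≠ 1 ∧ ¬ 11 ∣ orderOf g ∧ B.val g = vecList.getD k vInv
  have hT : mult B (vecList.getD k vInv) = T.card := by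
    rw [mult, Nat.card_eq_fintype_card, Fintype.card_subtype]
  rw [hT, Finset.card_eq_sum_card_image ConjClasses.mk T]
  refine Finset.dvd_sum fun c hc => ?_
  obtain ⟨g, hgT, rfl⟩ := Finset.mem_image.1 hc
  obtain ⟨-, hg1, hg11, hgv⟩ := Finset.mem_filter.1 hgT
  have hF : (T.filter fun x => ConjClasses.mk x = ConjClasses.mk g).card = (conjugatesOf g).ncard := by
    rw [← Set.ncard_coe_finset]
    congr 1
    ext x
    simp only [Finset.coe_filter, Set.mem_setOf_eq, conjugatesOf, ConjClasses.mk_eq_mk_iff_isConj]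
    refine ⟨fun h => h.2.symm, fun h => ⟨?_, h.symm⟩⟩
    obtain ⟨u, rfl⟩ := isConj_iff.1 h
    simp only [T, Finset.mem_filter, Finset.mem_univ, true_and]
    exact ⟨fun e => hg1 (conj_eq_one_iff.1 e),
      by rwa [show orderOf (u * g * u⁻¹) = orderOf g from
        orderOf_injective (MulAut.conj u).toMonoidHom (MulAut.conj u).injective g],
      (B.conj g u).trans hgv⟩
  rw [hF]
  obtain ⟨m, hm⟩ := cc_cap S hg1 hg11 hk hgv
  have hc' := card_class g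
  rw [B.eleven.card] at hc'
  obtain ⟨r, hr⟩ := caps_dvd k hk
  have hpos : 0 < cc g := Nat.card_pos
  refine ⟨m, ?_⟩
  rw [Nat.div_eq_of_eq_mul_right (Nat.pos_of_ne_zero fun e => by rw [e] at hr; omega) hr]
  refine Nat.eq_of_mul_eq_mul_right hpos ?_
  rw [hc', hr, hm]
  ring

theorem vecList_nodup : vecList.Nodup := by decide +kernel

theorem sum_filter (hm : ∀ g : G, g ≠ 1 → ¬ 11 ∣ orderOf g → B.val g ∈ vecList) (f : Vec → ℤ) :
    ∑ g ∈ (Finset.univ.filter fun g : G => ¬ 11 ∣ orderOf g), f (B.val g) =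
      f B.D + (vecList.map fun v => (mult B v : ℤ) * f v).sum := by
  classical
  have h1 : (1 : G) ∈ Finset.univ.filter fun g : G => ¬ 11 ∣ orderOf g := by simp
  rw [← Finset.add_sum_erase _ _ h1, B.one]
  congr 1
  have hmap : ∀ g ∈ (Finset.univ.filter fun g : G => ¬ 11 ∣ orderOf g).erase 1, B.val g ∈ vecList.toFinset := by
    intro g hg
    simp only [Finset.mem_erase, Finset.mem_filter] at hg
    exact List.mem_toFinset.2 (hm g hg.1 hg.2.2)
  rw [← Finset.sum_fiberwise_of_maps_to hmap, ← List.sum_toFinset _ vecList_nodup]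
  refine Finset.sum_congr rfl fun v _ => ?_
  rw [Finset.sum_congr rfl (g := fun _ => f v) fun g hg => by rw [(Finset.mem_filter.1 hg).2],
    Finset.sum_const, nsmul_eq_mul, mult, Nat.card_eq_fintype_card, Fintype.card_subtype]
  congr 2
  congr 1
  ext g
  simp [and_assoc]

set_option maxHeartbeats 2000000 in
/-- The census. -/
theorem census_of_mem (S : Search B) (hm : ∀ g : G, g ≠ 1 → ¬ 11 ∣ orderOf g → B.val g ∈ vecList) :
    Census B := by
  classical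
  obtain ⟨hD, hS⟩ := S.deg
  obtain ⟨t, ht, -, htv⟩ := (exists_outer S).2
  obtain ⟨z, hz, hzc⟩ := S.central
  have pos : ∀ (h : G) (v : Vec), orderOf h = 2 → B.val h = v → mult B v ≠ 0 := by
    intro h v h2 hv e
    have : IsEmpty {g : G // g ≠ 1 ∧ ¬ 11 ∣ orderOf g ∧ B.val g = v} :=
      (Nat.card_eq_zero.1 e).resolve_right fun hi => @not_finite _ hi (Subtype.finite)
    exact this.false ⟨h, fun e1 => by simp [e1] at h2, by rw [h2]; norm_num, hv⟩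
  have n19 := pos t vOuter ht htv
  have hzv : B.val z = vInv := by
    rcases S.invol z hz with ⟨-, h⟩ | ⟨h | h, -⟩
    · exact h
    · omega
    · omega
  have n20 := pos z vInv hz hzv
  obtain ⟨k0, hk0⟩ : 11880 ∣ mult B (vecList.getD 0 vInv) := step_dvd S (k := 0) (by norm_num)
  obtain ⟨k1, hk1⟩ : 15840 ∣ mult B (vecList.getD 1 vInv) := step_dvd S (k := 1) (by norm_num)
  obtain ⟨k2, hk2⟩ : 23760 ∣ mult B (vecList.getD 2 vInv) := step_dvd S (k := 2) (by norm_num)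
  obtain ⟨k3, hk3⟩ : 10560 ∣ mult B (vecList.getD 3 vInv) := step_dvd S (k := 3) (by norm_num)
  obtain ⟨k4, hk4⟩ : 9504 ∣ mult B (vecList.getD 4 vInv) := step_dvd S (k := 4) (by norm_num)
  obtain ⟨k5, hk5⟩ : 19008 ∣ mult B (vecList.getD 5 vInv) := step_dvd S (k := 5) (by norm_num)
  obtain ⟨k6, hk6⟩ : 4752 ∣ mult B (vecList.getD 6 vInv) := step_dvd S (k := 6) (by norm_num)
  obtain ⟨k7, hk7⟩ : 7920 ∣ mult B (vecList.getD 7 vInv) := step_dvd S (k := 7) (by norm_num)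
  obtain ⟨k8, hk8⟩ : 15840 ∣ mult B (vecList.getD 8 vInv) := step_dvd S (k := 8) (by norm_num)
  obtain ⟨k9, hk9⟩ : 11880 ∣ mult B (vecList.getD 9 vInv) := step_dvd S (k := 9) (by norm_num)
  obtain ⟨k10, hk10⟩ : 2970 ∣ mult B (vecList.getD 10 vInv) := step_dvd S (k := 10) (by norm_num)
  obtain ⟨k11, hk11⟩ : 7920 ∣ mult B (vecList.getD 11 vInv) := step_dvd S (k := 11) (by norm_num)
  obtain ⟨k12, hk12⟩ : 5940 ∣ mult B (vecList.getD 12 vInv) := step_dvd S (k := 12) (by norm_num)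
  obtain ⟨k13, hk13⟩ : 1760 ∣ mult B (vecList.getD 13 vInv) := step_dvd S (k := 13) (by norm_num)
  obtain ⟨k14, hk14⟩ : 3960 ∣ mult B (vecList.getD 14 vInv) := step_dvd S (k := 14) (by norm_num)
  obtain ⟨k15, hk15⟩ : 3960 ∣ mult B (vecList.getD 15 vInv) := step_dvd S (k := 15) (by norm_num)
  obtain ⟨k16, hk16⟩ : 2640 ∣ mult B (vecList.getD 16 vInv) := step_dvd S (k := 16) (by norm_num)
  obtain ⟨k17, hk17⟩ : 1980 ∣ mult B (vecList.getD 17 vInv) := step_dvd S (k := 17) (by norm_num)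
  obtain ⟨k18, hk18⟩ : 1584 ∣ mult B (vecList.getD 18 vInv) := step_dvd S (k := 18) (by norm_num)
  obtain ⟨k19, hk19⟩ : 396 ∣ mult B (vecList.getD 19 vInv) := step_dvd S (k := 19) (by norm_num)
  obtain ⟨k20, hk20⟩ : 495 ∣ mult B (vecList.getD 20 vInv) := step_dvd S (k := 20) (by norm_num)
  simp only [vecList, List.getD_cons_zero, List.getD_cons_succ] at hk0 hk1 hk2 hk3 hk4 hk5 hk6 hk7 hk8 hk9 hk10 hk11 hk12 hk13 hk14 hk15 hk16 hk17 hk18 hk19 hk20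
  have ev := fun f => sum_filter (B := B) hm f
  have e0 := ev fun _ => 1
  rw [Finset.sum_const, nsmul_one, ← Fintype.card_subtype, ← Nat.card_eq_fintype_card, B.total] at e0
  have e1 := (ev fun v => cmp 0 v).symm.trans (B.moment1 0 (by decide))
  have e2 := (ev fun v => cmp 1 v).symm.trans (B.moment1 1 (by decide))
  have e3 := (ev fun v => cmp 2 v).symm.trans (B.moment1 2 (by decide))
  have e4 := (ev fun v => cmp 3 v).symm.trans (B.moment1 3 (by decide))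
  have e5 := (ev fun v => cmp 0 v * cmp 0 v).symm.trans (B.moment2 0 0 (by decide) (by decide))
  have e6 := (ev fun v => cmp 0 v * cmp 1 v).symm.trans (B.moment2 0 1 (by decide) (by decide))
  have e7 := (ev fun v => cmp 0 v * cmp 2 v).symm.trans (B.moment2 0 2 (by decide) (by decide))
  have e8 := (ev fun v => cmp 0 v * cmp 3 v).symm.trans (B.moment2 0 3 (by decide) (by decide))
  have e9 := (ev fun v => cmp 1 v * cmp 1 v).symm.trans (B.moment2 1 1 (by decide) (by decide))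
  have e10 := (ev fun v => cmp 1 v * cmp 2 v).symm.trans (B.moment2 1 2 (by decide) (by decide))
  have e11 := (ev fun v => cmp 1 v * cmp 3 v).symm.trans (B.moment2 1 3 (by decide) (by decide))
  have e12 := (ev fun v => cmp 2 v * cmp 2 v).symm.trans (B.moment2 2 2 (by decide) (by decide))
  have e13 := (ev fun v => cmp 2 v * cmp 3 v).symm.trans (B.moment2 2 3 (by decide) (by decide))
  have e14 := (ev fun v => cmp 3 v * cmp 3 v).symm.trans (B.moment2 3 3 (by decide) (by decide))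
  simp only [hD, hS, vecList, m12D, m12S, cmp, List.map_cons, List.map_nil, List.sum_cons, List.sum_nil,
    hk0, hk1, hk2, hk3, hk4, hk5, hk6, hk7, hk8, hk9, hk10, hk11, hk12, hk13, hk14, hk15, hk16, hk17, hk18, hk19, hk20, Nat.cast_mul, Nat.cast_ofNat, if_pos, Fin.reduceEq, if_false] at e0 e1 e2 e3 e4 e5 e6 e7 e8 e9 e10 e11 e12 e13 e14
  have h19 : 1 ≤ k19 := Nat.one_le_iff_ne_zero.2 fun e => n19 (by rw [vOuter, hk19, e])
  have h20 : 1 ≤ k20 := Nat.one_le_iff_ne_zero.2 fun e => n20 (by rw [vInv, hk20, e])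
  obtain ⟨r0, r1, r2, r3, r4, r5, r6, r7, r8, r9, r10, r11, r12, r13, r14, r15, r16, r17, r18, r19, r20⟩ := solve_counts k0 k1 k2 k3 k4 k5 k6 k7 k8 k9 k10 k11 k12 k13 k14 k15 k16 k17 k18 k19 k20
    (by linarith only [e0]) (by linarith only [e1]) (by linarith only [e2]) (by linarith only [e3]) (by linarith only [e4]) (by linarith only [e5]) (by linarith only [e6]) (by linarith only [e7]) (by linarith only [e8]) (by linarith only [e9]) (by linarith only [e10]) (by linarith only [e11]) (by linarith only [e12]) (by linarith only [e13]) (by linarith only [e14]) h19 h20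
  refine ⟨S, hm, fun v hv => ?_⟩
  simp only [vecList, List.mem_cons, List.not_mem_nil, or_false] at hv
  rcases hv with rfl | rfl | rfl | rfl | rfl | rfl | rfl | rfl | rfl | rfl | rfl | rfl | rfl | rfl | rfl | rfl | rfl | rfl | rfl | rfl | rfl
  · exact hk0.trans (by rw [r0]; rfl)
  · exact hk1.trans (by rw [r1]; rfl)
  · exact hk2.trans (by rw [r2]; rfl)
  · exact hk3.trans (by rw [r3]; rfl)
  · exact hk4.trans (by rw [r4]; rfl)
  · exact hk5.trans (by rw [r5]; rfl)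
  · exact hk6.trans (by rw [r6]; rfl)
  · exact hk7.trans (by rw [r7]; rfl)
  · exact hk8.trans (by rw [r8]; rfl)
  · exact hk9.trans (by rw [r9]; rfl)
  · exact hk10.trans (by rw [r10]; rfl)
  · exact hk11.trans (by rw [r11]; rfl)
  · exact hk12.trans (by rw [r12]; rfl)
  · exact hk13.trans (by rw [r13]; rfl)
  · exact hk14.trans (by rw [r14]; rfl)
  · exact hk15.trans (by rw [r15]; rfl)
  · exact hk16.trans (by rw [r16]; rfl)
  · exact hk17.trans (by rw [r17]; rfl)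
  · exact hk18.trans (by rw [r18]; rfl)
  · exact hk19.trans (by rw [r19]; rfl)
  · exact hk20.trans (by rw [r20]; rfl)

end Cfsg.Agent.M12Ord40
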