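import Cfsg.Agent.Lib.M12Ord40Defs
import Cfsg.Agent.Lib.M12Nse51Base
import Cfsg.Agent.Lib.M12Inv51Classes
import Cfsg.Agent.Lib.SimpleSearch

/-!
The element counts of a group of order 95040 from the multiplicities of the block vectors.
-/

set_option autoImplicit false
set_option maxRecDepth 10000

namespace Cfsg.Agent.M12Ord99

open Cfsg.Agent.M12Ord40

/-- The ten vectors which occur. -/
def nz : List Vec :=
  [(-1, 0, 0, 0, 0), (0, 0, 1, 0, 0), (0, -1, 0, -1, 1), (0, 1, 0, -1, -1), (-1, 0, 0, 1, 1),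
   (1, 2, 0, 0, 0), (0, 0, 3, 0, -2), (3, 0, 0, -3, 1), (5, 6, 0, 4, 4), (-3, 6, -8, 0, 0)]

/-- Congruence of two vectors. -/
def modB (p : ℕ) (v w : Vec) : Bool :=
  (List.finRange 5).all fun i => (M12Ord40.cmp i v - M12Ord40.cmp i w) % (p : ℤ) == 0

/-- The admissible element orders prime to eleven. -/
def ords : List ℕ := [1, 2, 3, 4, 5, 6, 8, 10, 16, 32, 64]

theorem ords_spec : ∀ n ∈ Nat.divisors 8640,
    ¬ 9 ∣ n → ¬ 12 ∣ n → ¬ 15 ∣ n → ¬ 20 ∣ n → n ∈ ords := by decide +kernel

theorem two_powers : ∀ v ∈ nz, modB 2 v m12D = true →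
    v = (-1, 0, 0, 0, 0) ∨ v = (1, 2, 0, 0, 0) ∨ v = (5, 6, 0, 4, 4) ∨ v = (-3, 6, -8, 0, 0) := by
  decide +kernel

theorem three_powers : ∀ v ∈ nz, modB 3 v m12D = true →
    v = (0, 0, 3, 0, -2) ∨ v = (3, 0, 0, -3, 1) := by decide +kernel

theorem mix_ten : ∀ v ∈ nz, modB 2 v (0, -1, 0, -1, 1) = true →
    v = (0, -1, 0, -1, 1) ∨ v = (0, 1, 0, -1, -1) := by decide +kernel

theorem mix_six : ∀ v ∈ nz, ∀ a ∈ ([(0, 0, 3, 0, -2), (3, 0, 0, -3, 1)] : List Vec),
    ∀ b ∈ ([(5, 6, 0, 4, 4), (-3, 6, -8, 0, 0)] : List Vec),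
    modB 2 v a = true → modB 3 v b = true → v = (0, 0, 1, 0, 0) ∨ v = (-1, 0, 0, 1, 1) := by
  decide +kernel

theorem mix_twelve : ∀ v ∈ nz, ∀ a ∈ ([(0, 0, 3, 0, -2), (3, 0, 0, -3, 1)] : List Vec),
    ∀ b ∈ ([(-1, 0, 0, 0, 0), (1, 2, 0, 0, 0)] : List Vec),
    modB 2 v a = true → modB 3 v b = true → False := by
  decide +kernel

theorem modB_trans {p : ℕ} {u v w : Vec} (h1 : modB p u v = true) (h2 : modB p u w = true) :
    modB p v w = true := by
  simp only [modB, List.all_eq_true, List.mem_finRange, true_implies, beq_iff_eq] at h1 h2 ⊢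
  intro i
  have a := Int.dvd_of_emod_eq_zero (h1 i)
  have b := Int.dvd_of_emod_eq_zero (h2 i)
  refine Int.emod_eq_zero_of_dvd ?_
  have := dvd_sub b a
  rwa [sub_sub_sub_cancel_left] at this

variable {G : Type*} [Group G] [Fintype G] {B : Blk G}

/-- The type of elements with a given vector. -/
abbrev Fib (B : Blk G) (v : Vec) : Type _ :=
  {g : G // g ≠ 1 ∧ ¬ 11 ∣ orderOf g ∧ B.val g = v}

theorem ne_one_of_order {g : G} {n : ℕ} (hg : orderOf g = n) (hn : 1 < n) : g ≠ 1 := by
  rintro rfl; rw [orderOf_one] at hg; omega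

theorem orderOf_conj_eq {g h : G} (hc : IsConj g h) : orderOf h = orderOf g := by
  obtain ⟨c, hc⟩ := isConj_iff.1 hc
  rw [← hc, ← MulAut.conj_apply, MulEquiv.orderOf_eq]

theorem val_conj {g h : G} (hc : IsConj g h) : B.val h = B.val g := by
  obtain ⟨c, hc⟩ := isConj_iff.1 hc
  rw [← hc, B.conj]

theorem class_mul (B : Blk G) (g : G) :
    Nat.card {x : G // IsConj g x} * cc g = 95040 := by
  rw [M12Inv51.card_class_mul, B.eleven.card]

/-- Splitting off a prime part. -/
theorem exists_part (B : Blk G) {g : G} (hg : ¬ 11 ∣ orderOf g) {p a r : ℕ} (hp : p.Prime)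
    (h11 : p ≠ 11) (hn : orderOf g = p ^ a * r) (hr : Nat.Coprime (p ^ a) r) :
    ∃ h : G, Commute h g ∧ orderOf h = r ∧ modB p (B.val g) (B.val h) = true := by
  obtain ⟨x, hxp, hxr⟩ := Nat.chineseRemainder hr 0 1
  obtain ⟨y, hyp, hyr⟩ := Nat.chineseRemainder hr 1 0
  have hxy : g ^ x * g ^ y = g := by
    rw [← pow_add]
    conv_rhs => rw [← pow_one g]
    rw [pow_eq_pow_iff_modEq, hn]
    exact (Nat.modEq_and_modEq_iff_modEq_mul hr).1
      ⟨by simpa using hxp.add hyp, by simpa using hxr.add hyr⟩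
  have hxd : orderOf (g ^ x) ∣ r := by
    refine orderOf_dvd_of_pow_eq_one ?_
    rw [← pow_mul, ← orderOf_dvd_iff_pow_eq_one, hn]
    exact Nat.mul_dvd_mul (Nat.modEq_zero_iff_dvd.1 hxp) dvd_rfl
  have hyd : orderOf (g ^ y) ∣ p ^ a := by
    refine orderOf_dvd_of_pow_eq_one ?_
    rw [← pow_mul, ← orderOf_dvd_iff_pow_eq_one, hn, mul_comm y]
    exact Nat.mul_dvd_mul dvd_rfl (Nat.modEq_zero_iff_dvd.1 hyr)
  have hcm : Commute (g ^ x) (g ^ y) := Commute.pow_pow_self g x y
  have hco : Nat.Coprime (orderOf (g ^ x)) (orderOf (g ^ y)) :=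
    (hr.symm.coprime_dvd_left hxd).coprime_dvd_right hyd
  have hmul : orderOf (g ^ x) * orderOf (g ^ y) = p ^ a * r := by
    rw [← hcm.orderOf_mul_eq_mul_orderOf_of_coprime hco, hxy, hn]
  have hpos : 0 < p ^ a * r := hn ▸ orderOf_pos g
  have hx_eq : orderOf (g ^ x) = r := by
    refine Nat.dvd_antisymm hxd (hr.symm.dvd_of_dvd_mul_right ?_)
    exact (Dvd.intro_left _ rfl : r ∣ p ^ a * r).trans
      (hmul ▸ Nat.mul_dvd_mul dvd_rfl hyd)
  refine ⟨g ^ x, (Commute.refl g).pow_left x, hx_eq, ?_⟩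
  obtain ⟨k, -, hk⟩ := (Nat.dvd_prime_pow hp).1 hyd
  have hr11 : ¬ 11 ∣ orderOf (g ^ x) := fun h => hg (h.trans (orderOf_pow_dvd x))
  have hc := B.congr (g ^ x) (g ^ y) p hp h11 hr11 hcm ⟨k, hk⟩
  rw [hxy] at hc
  simp only [modB, List.all_eq_true, List.mem_finRange, true_implies, beq_iff_eq]
  exact fun i => Int.emod_eq_zero_of_dvd (Int.modEq_iff_dvd.1 (hc i).symm)

theorem modB_one (C : Census B) {g : G} (hg : ¬ 11 ∣ orderOf g) {p a : ℕ} (hp : p.Prime)
    (h11 : p ≠ 11) (hn : orderOf g = p ^ a) : modB p (B.val g) m12D = true := by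
  obtain ⟨h, -, ho, hm⟩ := exists_part B hg hp h11 (r := 1) (by rw [mul_one, hn])
    (Nat.coprime_one_right _)
  rwa [orderOf_eq_one_iff.1 ho, B.one, C.search.deg.1] at hm

theorem fib_card (C : Census B) {v : Vec} (n : ℕ) (hv : v ∈ vecList)
    (hn : (([23760, 15840, 0, 0, 9504, 0, 9504, 7920, 0, 0, 5940, 0, 0, 1760, 0, 0, 2640, 0, 0,
      396, 495] : List ℕ).getD (vecList.idxOf v) 0) = n) :
    Nat.card (Fib B v) = n := (C.number v hv).trans hn

theorem mem_nz (C : Census B) {g : G} (h1 : g ≠ 1) (hg : ¬ 11 ∣ orderOf g) : B.val g ∈ nz := by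
  have hv := C.mem g h1 hg
  have key : ∀ v ∈ vecList, v ∈ nz ∨ (([23760, 15840, 0, 0, 9504, 0, 9504, 7920, 0, 0, 5940, 0, 0,
      1760, 0, 0, 2640, 0, 0, 396, 495] : List ℕ).getD (vecList.idxOf v) 0) = 0 := by decide +kernel
  refine (key _ hv).resolve_right fun h0 => ?_
  have := fib_card C 0 hv h0
  rcases Nat.card_eq_zero.1 this with h | h
  · exact h.false ⟨g, h1, hg, rfl⟩
  · exact h.false

theorem class_le (C : Census B) {g : G} (h1 : g ≠ 1) (hg : ¬ 11 ∣ orderOf g) :
    Nat.card {x : G // IsConj g x} ≤ Nat.card (Fib B (B.val g)) := by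
  refine Nat.card_le_card_of_injective (fun x => (⟨x.1, ?_, ?_, val_conj x.2⟩ : Fib B (B.val g))) ?_
  · intro e
    have h := orderOf_conj_eq x.2
    rw [e, orderOf_one] at h
    exact h1 (orderOf_eq_one_iff.1 h.symm)
  · rw [orderOf_conj_eq x.2]; exact hg
  · intro x y e
    exact Subtype.ext (congrArg (fun u : Fib B (B.val g) => u.1) e)

/-- A class as large as its fibre. -/
theorem conj_of_full {v : Vec} {g : G} (hg : g ≠ 1 ∧ ¬ 11 ∣ orderOf g ∧ B.val g = v)
    (hfull : Nat.card (Fib B v) ≤ Nat.card {x : G // IsConj g x}) (h : Fib B v) :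
    IsConj g h.1 := by
  let f : {x : G // IsConj g x} → Fib B v := fun x => ⟨x.1, by
    intro e
    have h := orderOf_conj_eq x.2
    rw [e, orderOf_one] at h
    exact hg.1 (orderOf_eq_one_iff.1 h.symm), by
    rw [orderOf_conj_eq x.2]; exact hg.2.1, (val_conj x.2).trans hg.2.2⟩
  have hf : Function.Injective f := fun x y e =>
    Subtype.ext (congrArg (fun u : Fib B v => u.1) e)
  obtain ⟨x, hx⟩ := (hf.bijective_of_nat_card_le hfull).2 h
  rw [← hx]; exact x.2

/-- Two classes in one fibre. -/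
theorem class_add_le {v : Vec} {g h : G} (hg : g ≠ 1 ∧ ¬ 11 ∣ orderOf g ∧ B.val g = v)
    (hh : h ≠ 1 ∧ ¬ 11 ∣ orderOf h ∧ B.val h = v) (hne : ¬ IsConj g h) :
    Nat.card {x : G // IsConj g x} + Nat.card {x : G // IsConj h x} ≤ Nat.card (Fib B v) := by
  rw [← Nat.card_sum]
  have mk : ∀ {k : G}, (k ≠ 1 ∧ ¬ 11 ∣ orderOf k ∧ B.val k = v) → ∀ {x : G}, IsConj k x →
      x ≠ 1 ∧ ¬ 11 ∣ orderOf x ∧ B.val x = v := by
    intro k hk x hx
    refine ⟨fun e => ?_, by rw [orderOf_conj_eq hx]; exact hk.2.1, (val_conj hx).trans hk.2.2⟩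
    have h := orderOf_conj_eq hx
    rw [e, orderOf_one] at h
    exact hk.1 (orderOf_eq_one_iff.1 h.symm)
  refine Nat.card_le_card_of_injective
    (Sum.elim (fun x => (⟨x.1, mk hg x.2⟩ : Fib B v)) fun x => ⟨x.1, mk hh x.2⟩) ?_
  rintro (x | x) (y | y) e
  all_goals have e' := congrArg (fun u : Fib B v => u.1) e
  · exact congrArg Sum.inl (Subtype.ext e')
  · exact absurd ((show x.1 = y.1 from e') ▸ x.2 |>.trans y.2.symm) hne
  · exact absurd ((show x.1 = y.1 from e').symm ▸ y.2 |>.trans x.2.symm) hne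
  · exact congrArg Sum.inr (Subtype.ext e')

theorem not_eleven_of {g : G} {n : ℕ} (hg : orderOf g = n) (hn : ¬ 11 ∣ n) :
    ¬ 11 ∣ orderOf g := hg ▸ hn

theorem dvd_card (B : Blk G) (g : G) : orderOf g ∣ 95040 := B.eleven.card ▸ orderOf_dvd_natCard g

/-! ## The prime five -/

theorem five_val (C : Census B) {y : G} (hy : orderOf y = 5) :
    B.val y = (0, -1, 0, -1, 1) := (C.search.five y hy).2

theorem cent_dvd {g y : G} (hc : Commute g y) : orderOf g ∣ cc y :=
  Subgroup.orderOf_dvd_natCard _ (Subgroup.mem_centralizer_singleton_iff.2 hc.eq)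

theorem five_dvd_cases (C : Census B) {g : G} (h5 : 5 ∣ orderOf g) :
    orderOf g = 5 ∨ orderOf g = 10 := by
  have ho : orderOf (g ^ (orderOf g / 5)) = 5 := orderOf_pow_orderOf_div (orderOf_pos g).ne' h5
  have h := cent_dvd ((Commute.refl g).pow_right (orderOf g / 5))
  rw [(C.search.five _ ho).1] at h
  have := Nat.le_of_dvd (by norm_num) h
  have h5' := h5
  obtain ⟨k, hk⟩ := h5'
  rw [hk] at h this ⊢
  have : k ≤ 2 := by omega
  have := orderOf_pos g
  interval_cases k <;> omega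

/-- An involution centralising an element of order five. -/
theorem exists_mate (C : Census B) {y : G} (hy : orderOf y = 5) :
    ∃ s : G, orderOf s = 2 ∧ Commute s y := by
  haveI : Fact (Nat.Prime 2) := ⟨Nat.prime_two⟩
  obtain ⟨⟨s, hs⟩, ho⟩ := exists_prime_orderOf_dvd_card'
    (G := Subgroup.centralizer ({y} : Set G)) 2
    (by rw [show Nat.card (Subgroup.centralizer ({y} : Set G)) = 10 from (C.search.five y hy).1]
        norm_num)
  rw [Subgroup.orderOf_mk] at ho
  exact ⟨s, ho, Subgroup.mem_centralizer_singleton_iff.1 hs⟩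

theorem exists_five (B : Blk G) : ∃ y : G, orderOf y = 5 := by
  haveI : Fact (Nat.Prime 5) := ⟨Nat.prime_five⟩
  exact exists_prime_orderOf_dvd_card' 5 (by rw [B.eleven.card]; norm_num)

/-! ## Involutions -/

theorem two_val (C : Census B) {g : G} (hg : orderOf g = 2) :
    B.val g = (5, 6, 0, 4, 4) ∨ B.val g = (-3, 6, -8, 0, 0) := by
  rcases C.search.invol g hg with ⟨-, h⟩ | ⟨-, h⟩
  · exact Or.inr h
  · exact Or.inl h

theorem order_two_of_fib (C : Census B) {g : G} (h1 : g ≠ 1) (hg : ¬ 11 ∣ orderOf g)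
    (hv : B.val g = (5, 6, 0, 4, 4) ∨ B.val g = (-3, 6, -8, 0, 0)) : orderOf g = 2 := by
  rcases hv with hv | hv
  · obtain ⟨y, hy⟩ := exists_five B
    obtain ⟨s, hs, hc⟩ := exists_mate C hy
    have h5 : 5 ∣ cc s := hy ▸ cent_dvd hc.symm
    rcases C.search.invol s hs with ⟨h, -⟩ | ⟨h, hsv⟩
    · rw [h] at h5; norm_num at h5
    have hfib := fib_card C 396 (v := (5, 6, 0, 4, 4)) (by decide) (by decide)
    have hm := class_mul B s
    have hge : 396 ≤ Nat.card {x : G // IsConj s x} := by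
      rcases h with h | h <;> rw [h] at hm <;> omega
    have := conj_of_full (B := B) ⟨ne_one_of_order hs (by norm_num),
      not_eleven_of hs (by norm_num), hsv⟩ (by rw [hfib]; exact hge) ⟨g, h1, hg, hv⟩
    exact (orderOf_conj_eq this).trans hs
  · obtain ⟨s, hs, hcc⟩ := C.search.central
    have hsv : B.val s = (-3, 6, -8, 0, 0) := by
      rcases C.search.invol s hs with ⟨-, h⟩ | ⟨h, -⟩
      · exact h
      · omega
    have hfib := fib_card C 495 (v := (-3, 6, -8, 0, 0)) (by decide) (by decide)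
    have hm := class_mul B s
    have := conj_of_full (B := B) ⟨ne_one_of_order hs (by norm_num),
      not_eleven_of hs (by norm_num), hsv⟩ (by rw [hfib]; rw [hcc] at hm; omega) ⟨g, h1, hg, hv⟩
    exact (orderOf_conj_eq this).trans hs

/-! ## The prime three -/

theorem three_pow_of_fib (C : Census B) {g : G} (h1 : g ≠ 1) (hg : ¬ 11 ∣ orderOf g)
    (hv : B.val g = (0, 0, 3, 0, -2) ∨ B.val g = (3, 0, 0, -3, 1)) :
    ∃ a, orderOf g = 3 ^ a := by
  obtain ⟨a, r, hr3, hn⟩ := Nat.exists_eq_pow_mul_and_not_dvd (orderOf_pos g).ne' 3 (by norm_num)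
  obtain ⟨h, -, ho, hm⟩ := exists_part B hg Nat.prime_three (by norm_num) hn
    ((Nat.prime_three.coprime_iff_not_dvd.2 hr3).pow_left a)
  rcases eq_or_ne r 1 with rfl | hr1
  · exact ⟨a, by rw [hn, mul_one]⟩
  exfalso
  have hh1 : h ≠ 1 := fun e => hr1 (by rw [← ho, e, orderOf_one])
  have h11 : ¬ 11 ∣ orderOf h := by
    rw [ho]; exact fun e => hg (hn ▸ e.mul_left _)
  have hgD : modB 3 (B.val g) m12D = true := by rcases hv with e | e <;> rw [e] <;> decide
  have hh := three_powers _ (mem_nz C hh1 h11) (modB_trans hm hgD)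
  obtain ⟨b, q, hq2, hrq⟩ := Nat.exists_eq_pow_mul_and_not_dvd
    (show r ≠ 0 from fun e => hr3 (e ▸ dvd_zero 3)) 2 (by norm_num)
  by_cases h5 : 5 ∣ orderOf h
  · rcases five_dvd_cases C h5 with e | e
    · rw [five_val C e] at hh; revert hh; decide
    · obtain ⟨k, -, hk, hkm⟩ := exists_part B h11 Nat.prime_two (by norm_num) (a := 1) (r := 5)
        (by rw [e]; norm_num) (by norm_num)
      rw [five_val C hk] at hkm
      rcases mix_ten _ (mem_nz C hh1 h11) hkm with e' | e' <;> rw [e'] at hh <;> revert hh <;>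
        decide
  · have hq : q = 1 := by
      have hd : q ∣ 2 ^ 6 * 3 ^ 3 * 5 * 11 := by
        have := dvd_card B h
        rw [ho, hrq] at this
        exact (Dvd.intro_left _ rfl : q ∣ 2 ^ b * q).trans this
      rw [ho, hrq] at h5 h11
      rw [hrq] at hr3
      have e11 : Nat.Coprime q 11 := ((by norm_num : Nat.Prime 11).coprime_iff_not_dvd.2
        fun e => h11 (e.mul_left _)).symm
      have e5 : Nat.Coprime q 5 := (Nat.prime_five.coprime_iff_not_dvd.2
        fun e => h5 (e.mul_left _)).symm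
      have e3 : Nat.Coprime q (3 ^ 3) := ((Nat.prime_three.coprime_iff_not_dvd.2
        fun e => hr3 (e.mul_left _)).symm).pow_right 3
      have e2 : Nat.Coprime q (2 ^ 6) := ((Nat.prime_two.coprime_iff_not_dvd.2 hq2).symm).pow_right 6
      exact Nat.eq_one_of_dvd_one (((Nat.coprime_one_right q).dvd_of_dvd_mul_left (m := 1)
        (by simpa using e2.dvd_of_dvd_mul_right (m := 1) (by
          simpa using e3.dvd_of_dvd_mul_right (m := 2 ^ 6) (e5.dvd_of_dvd_mul_right
            (m := 2 ^ 6 * 3 ^ 3) (e11.dvd_of_dvd_mul_right hd))))))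
    have hh2 := modB_one C h11 Nat.prime_two (by norm_num) (a := b) (by rw [ho, hrq, hq, mul_one])
    rcases hh with e | e <;> rw [e] at hh2 <;> exact absurd hh2 (by decide)

theorem three_mem_fib (C : Census B) {g : G} (h1 : g ≠ 1) {a : ℕ} (hn : orderOf g = 3 ^ a) :
    B.val g = (0, 0, 3, 0, -2) ∨ B.val g = (3, 0, 0, -3, 1) := by
  have h11 : ¬ 11 ∣ orderOf g := by
    rw [hn]
    intro e
    have := (by norm_num : Nat.Prime 11).dvd_of_dvd_pow e
    norm_num at this
  exact three_powers _ (mem_nz C h1 h11) (modB_one C h11 Nat.prime_three (by norm_num) hn)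

theorem three_class_ge (C : Census B) {g : G} (h1 : g ≠ 1) {a : ℕ} (hn : orderOf g = 3 ^ a) :
    1760 ≤ Nat.card {x : G // IsConj g x} := by
  have ha : a ≠ 0 := by rintro rfl; exact h1 (orderOf_eq_one_iff.1 (by simpa using hn))
  have h3 : 3 ∣ orderOf g := hn ▸ dvd_pow_self 3 ha
  have ho : orderOf (g ^ (orderOf g / 3)) = 3 := orderOf_pow_orderOf_div (orderOf_pos g).ne' h3
  have hle : cc g ≤ cc (g ^ (orderOf g / 3)) := by
    refine Subgroup.card_le_of_le fun x hx => ?_
    rw [Subgroup.mem_centralizer_singleton_iff] at hx ⊢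
    exact (Commute.pow_right hx _).eq
  have h54 : cc (g ^ (orderOf g / 3)) ≤ 54 := by
    rcases (C.search.three _ ho).1 with h | h <;> have := Nat.le_of_dvd (by norm_num) h <;> omega
  have hm := class_mul B g
  by_contra hc
  have : Nat.card {x : G // IsConj g x} * cc g ≤ 1759 * 54 :=
    Nat.mul_le_mul (by omega) (by omega)
  omega

theorem three_single (C : Census B) {v : Vec}
    (hv : v = (0, 0, 3, 0, -2) ∨ v = (3, 0, 0, -3, 1)) (g h : Fib B v) : IsConj g.1 h.1 := by
  by_contra hne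
  have h1 := class_add_le g.2 h.2 hne
  obtain ⟨a, ha⟩ := three_pow_of_fib C g.2.1 g.2.2.1 (by rw [g.2.2.2]; exact hv)
  obtain ⟨b, hb⟩ := three_pow_of_fib C h.2.1 h.2.2.1 (by rw [h.2.2.2]; exact hv)
  have h2 := three_class_ge C g.2.1 ha
  have h3 := three_class_ge C h.2.1 hb
  rcases hv with rfl | rfl
  · rw [fib_card C 1760 (by decide) (by decide)] at h1; omega
  · rw [fib_card C 2640 (by decide) (by decide)] at h1; omega

theorem three_cc (C : Census B) {v : Vec} {n c : ℕ}
    (hv : v = (0, 0, 3, 0, -2) ∨ v = (3, 0, 0, -3, 1)) (hn : Nat.card (Fib B v) = n)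
    (hc : n * c = 95040) (g : Fib B v) : cc g.1 = c := by
  have he : Nat.card {x : G // IsConj g.1 x} = n := by
    refine le_antisymm ?_ ?_
    · have := class_le C g.2.1 g.2.2.1
      rwa [g.2.2.2, hn] at this
    · rw [← hn]
      exact Nat.card_le_card_of_injective
        (fun h => (⟨h.1, three_single C hv g h⟩ : {x : G // IsConj g.1 x}))
        fun a b e => Subtype.ext (congrArg (fun u : {x : G // IsConj g.1 x} => u.1) e)
  have hm := class_mul B g.1
  rw [he, ← hc] at hm
  have hn0 : 0 < n := by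
    rcases Nat.eq_zero_or_pos n with h | h
    · rw [h] at hc; omega
    · exact h
  exact Nat.eq_of_mul_eq_mul_left hn0 hm

theorem no_nine (C : Census B) (g : G) : orderOf g ≠ 9 := by
  intro hg
  have ht : orderOf (g ^ 3) = 3 := by rw [orderOf_pow, hg]; norm_num
  have hg1 := ne_one_of_order hg (by norm_num)
  have ht1 := ne_one_of_order ht (by norm_num)
  have hdvd : cc g ∣ cc (g ^ 3) := by
    refine Subgroup.card_dvd_of_le fun x hx => ?_
    rw [Subgroup.mem_centralizer_singleton_iff] at hx ⊢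
    exact (Commute.pow_right hx _).eq
  have gv := three_mem_fib C hg1 (a := 2) (by rw [hg]; norm_num)
  have tv := three_mem_fib C ht1 (a := 1) (by rw [ht]; norm_num)
  have g11 := not_eleven_of hg (by norm_num)
  have t11 := not_eleven_of ht (by norm_num)
  have f14 := fib_card C 1760 (v := (0, 0, 3, 0, -2)) (by decide) (by decide)
  have f17 := fib_card C 2640 (v := (3, 0, 0, -3, 1)) (by decide) (by decide)
  rcases gv with gv | gv <;> rcases tv with tv | tv
  · have := orderOf_conj_eq (three_single C (Or.inl rfl) ⟨g, hg1, g11, gv⟩ ⟨g ^ 3, ht1, t11, tv⟩)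
    rw [hg, ht] at this; omega
  · have a := three_cc C (c := 54) (Or.inl rfl) f14 (by norm_num) ⟨g, hg1, g11, gv⟩
    have b := three_cc C (c := 36) (Or.inr rfl) f17 (by norm_num) ⟨g ^ 3, ht1, t11, tv⟩
    simp only at a b
    rw [a, b] at hdvd; norm_num at hdvd
  · have a := three_cc C (c := 36) (Or.inr rfl) f17 (by norm_num) ⟨g, hg1, g11, gv⟩
    have b := three_cc C (c := 54) (Or.inl rfl) f14 (by norm_num) ⟨g ^ 3, ht1, t11, tv⟩
    simp only at a b
    rw [a, b] at hdvd; norm_num at hdvd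
  · have := orderOf_conj_eq (three_single C (Or.inr rfl) ⟨g, hg1, g11, gv⟩ ⟨g ^ 3, ht1, t11, tv⟩)
    rw [hg, ht] at this; omega

/-! ## Orders -/

theorem four_val (C : Census B) {g : G} (hg : orderOf g = 4) :
    B.val g = (-1, 0, 0, 0, 0) ∨ B.val g = (1, 2, 0, 0, 0) := by
  have h1 := ne_one_of_order hg (by norm_num)
  have h11 := not_eleven_of hg (by norm_num)
  have h := two_powers _ (mem_nz C h1 h11)
    (modB_one C h11 Nat.prime_two (by norm_num) (a := 2) (by rw [hg]; norm_num))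
  rcases h with h | h | h | h
  · exact Or.inl h
  · exact Or.inr h
  all_goals
    have := order_two_of_fib C h1 h11 (by simp [h])
    omega

theorem no_twelve (C : Census B) (g : G) : orderOf g ≠ 12 := by
  intro hg
  have h1 := ne_one_of_order hg (by norm_num)
  have h11 := not_eleven_of hg (by norm_num)
  obtain ⟨t, -, ht, hm2⟩ := exists_part B h11 Nat.prime_two (by norm_num) (a := 2) (r := 3)
    (by rw [hg]; norm_num) (by norm_num)
  obtain ⟨f, -, hf, hm3⟩ := exists_part B h11 Nat.prime_three (by norm_num) (a := 1) (r := 4)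
    (by rw [hg]; norm_num) (by norm_num)
  refine mix_twelve _ (mem_nz C h1 h11) (B.val t) ?_ (B.val f) ?_ hm2 hm3
  · rcases three_mem_fib C (ne_one_of_order ht (by norm_num)) (a := 1) (by rw [ht]; norm_num)
      with h | h <;> simp [h]
  · rcases four_val C hf with h | h <;> simp [h]

theorem no_five_mul (C : Census B) {g : G} {n : ℕ} (hn : 5 ∣ n) (h5 : n ≠ 5) (h10 : n ≠ 10) :
    orderOf g ≠ n := by
  intro hg
  rcases five_dvd_cases C (hg ▸ hn) with h | h <;> omega

theorem mem_ords (C : Census B) {g : G} (h11 : ¬ 11 ∣ orderOf g) : orderOf g ∈ ords := by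
  have hd : orderOf g ∣ 8640 := by
    have h := dvd_card B g
    rw [show (95040 : ℕ) = 8640 * 11 by norm_num] at h
    exact (((by norm_num : Nat.Prime 11).coprime_iff_not_dvd.2 h11).symm).dvd_of_dvd_mul_right h
  refine ords_spec _ (Nat.mem_divisors.2 ⟨hd, by norm_num⟩) ?_ ?_ ?_ ?_
  · exact fun h => no_nine C _ (orderOf_pow_orderOf_div (orderOf_pos g).ne' h)
  · exact fun h => no_twelve C _ (orderOf_pow_orderOf_div (orderOf_pos g).ne' h)
  · exact fun h => no_five_mul C (n := 15) (by norm_num) (by norm_num) (by norm_num)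
      (orderOf_pow_orderOf_div (orderOf_pos g).ne' h)
  · exact fun h => no_five_mul C (n := 20) (by norm_num) (by norm_num) (by norm_num)
      (orderOf_pow_orderOf_div (orderOf_pos g).ne' h)

theorem six_val (C : Census B) {g : G} (hg : orderOf g = 6) :
    B.val g = (0, 0, 1, 0, 0) ∨ B.val g = (-1, 0, 0, 1, 1) := by
  have h1 := ne_one_of_order hg (by norm_num)
  have h11 := not_eleven_of hg (by norm_num)
  obtain ⟨t, -, ht, hm2⟩ := exists_part B h11 Nat.prime_two (by norm_num) (a := 1) (r := 3)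
    (by rw [hg]; norm_num) (by norm_num)
  obtain ⟨s, -, hs, hm3⟩ := exists_part B h11 Nat.prime_three (by norm_num) (a := 1) (r := 2)
    (by rw [hg]; norm_num) (by norm_num)
  refine mix_six _ (mem_nz C h1 h11) (B.val t) ?_ (B.val s) ?_ hm2 hm3
  · rcases three_mem_fib C (ne_one_of_order ht (by norm_num)) (a := 1) (by rw [ht]; norm_num)
      with h | h <;> simp [h]
  · rcases two_val C hs with h | h <;> simp [h]

theorem six_of_fib (C : Census B) {g : G} (h1 : g ≠ 1) (h11 : ¬ 11 ∣ orderOf g)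
    (hv : B.val g = (0, 0, 1, 0, 0) ∨ B.val g = (-1, 0, 0, 1, 1)) : orderOf g = 6 := by
  have two : ∀ a, orderOf g = 2 ^ a → False := by
    intro a ha
    rcases two_powers _ (mem_nz C h1 h11) (modB_one C h11 Nat.prime_two (by norm_num) ha) with
      h | h | h | h <;> rw [h] at hv <;> revert hv <;> decide
  have hm := mem_ords C h11
  simp only [ords, List.mem_cons, List.not_mem_nil, or_false] at hm
  rcases hm with h | h | h | h | h | h | h | h | h | h | h
  · exact absurd (orderOf_eq_one_iff.1 h) h1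
  · exact (two 1 h).elim
  · rcases three_mem_fib C h1 (a := 1) (by rw [h]; norm_num) with e | e <;> rw [e] at hv <;>
      exact absurd hv (by decide)
  · exact (two 2 h).elim
  · rw [five_val C h] at hv; exact absurd hv (by decide)
  · exact h
  · exact (two 3 h).elim
  · obtain ⟨k, -, hk, hm⟩ := exists_part B h11 Nat.prime_two (by norm_num) (a := 1) (r := 5)
      (by rw [h]; norm_num) (by norm_num)
    rw [five_val C hk] at hm
    rcases mix_ten _ (mem_nz C h1 h11) hm with e | e <;> rw [e] at hv <;>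
      exact absurd hv (by decide)
  · exact (two 4 h).elim
  · exact (two 5 h).elim
  · exact (two 6 h).elim

/-! ## Counts -/

theorem cnt_union (C : Census B) {n : ℕ} (hn : 1 < n) (h11 : ¬ 11 ∣ n) {v w : Vec} (hvw : v ≠ w)
    (hto : ∀ g : G, orderOf g = n → B.val g = v ∨ B.val g = w)
    (back : ∀ g : G, g ≠ 1 → ¬ 11 ∣ orderOf g → B.val g = v ∨ B.val g = w → orderOf g = n) :
    M12Nse51.cnt G n = Nat.card (Fib B v) + Nat.card (Fib B w) := by
  rw [← Nat.card_sum]
  refine (Nat.card_eq_of_bijective (Sum.elim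
    (fun x : Fib B v => (⟨x.1, back x.1 x.2.1 x.2.2.1 (Or.inl x.2.2.2)⟩ : {g : G // orderOf g = n}))
    fun x : Fib B w => ⟨x.1, back x.1 x.2.1 x.2.2.1 (Or.inr x.2.2.2)⟩) ⟨?_, ?_⟩).symm
  · rintro (x | x) (y | y) e
    all_goals have e' := congrArg (fun u : {g : G // orderOf g = n} => u.1) e
    all_goals simp only [Sum.elim_inl, Sum.elim_inr] at e'
    · exact congrArg Sum.inl (Subtype.ext e')
    · exact absurd (x.2.2.2.symm.trans (by rw [e']; exact y.2.2.2)) hvw
    · exact absurd (y.2.2.2.symm.trans (by rw [← e']; exact x.2.2.2)) hvw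
    · exact congrArg Sum.inr (Subtype.ext e')
  · rintro ⟨g, hg⟩
    rcases hto g hg with h | h
    · exact ⟨Sum.inl ⟨g, ne_one_of_order hg hn, not_eleven_of hg h11, h⟩, rfl⟩
    · exact ⟨Sum.inr ⟨g, ne_one_of_order hg hn, not_eleven_of hg h11, h⟩, rfl⟩

theorem cnt_two (C : Census B) : M12Nse51.cnt G 2 = 891 := by
  rw [cnt_union C (by norm_num) (by norm_num) (v := (5, 6, 0, 4, 4)) (w := (-3, 6, -8, 0, 0))
    (by decide) (fun g hg => two_val C hg) (fun g h1 h2 h3 => order_two_of_fib C h1 h2 h3),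
    fib_card C 396 (by decide) (by decide), fib_card C 495 (by decide) (by decide)]

theorem cnt_three (C : Census B) : M12Nse51.cnt G 3 = 4400 := by
  rw [cnt_union C (by norm_num) (by norm_num) (v := (0, 0, 3, 0, -2)) (w := (3, 0, 0, -3, 1))
    (by decide) (fun g hg => three_mem_fib C (ne_one_of_order hg (by norm_num)) (a := 1)
      (by rw [hg]; norm_num)) (fun g h1 h2 h3 => ?_),
    fib_card C 1760 (by decide) (by decide), fib_card C 2640 (by decide) (by decide)]
  obtain ⟨a, ha⟩ := three_pow_of_fib C h1 h2 h3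
  have hm := mem_ords C h2
  simp only [ords, List.mem_cons, List.not_mem_nil, or_false] at hm
  have h0 : a ≠ 0 := fun e => h1 (orderOf_eq_one_iff.1 (by rw [ha, e, pow_zero]))
  have h3' : 3 ∣ orderOf g := ha ▸ dvd_pow_self 3 h0
  have hodd : ¬ 2 ∣ orderOf g := by
    rw [ha]; intro e
    have := Nat.prime_two.dvd_of_dvd_pow e
    norm_num at this
  omega

theorem cnt_six (C : Census B) : M12Nse51.cnt G 6 = 23760 := by
  rw [cnt_union C (by norm_num) (by norm_num) (v := (0, 0, 1, 0, 0)) (w := (-1, 0, 0, 1, 1))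
    (by decide) (fun g hg => six_val C hg) (fun g h1 h2 h3 => six_of_fib C h1 h2 h3),
    fib_card C 15840 (by decide) (by decide), fib_card C 7920 (by decide) (by decide)]

theorem cnt_five (C : Census B) : M12Nse51.cnt G 5 = 9504 := by
  obtain ⟨y, hy⟩ := exists_five B
  have hfib := fib_card C 9504 (v := (0, -1, 0, -1, 1)) (by decide) (by decide)
  rw [← hfib]
  refine Nat.card_congr (Equiv.subtypeEquivRight fun g => ⟨fun hg => ⟨ne_one_of_order hg (by norm_num),
    not_eleven_of hg (by norm_num), five_val C hg⟩, fun hg => ?_⟩)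
  have hm := class_mul B y
  rw [(C.search.five y hy).1] at hm
  have := conj_of_full (B := B) ⟨ne_one_of_order hy (by norm_num), not_eleven_of hy (by norm_num),
    five_val C hy⟩ (by rw [hfib]; omega) ⟨g, hg⟩
  exact (orderOf_conj_eq this).trans hy

theorem cnt_ten (C : Census B) : M12Nse51.cnt G 10 = 9504 := by
  rw [← cnt_five C]
  refine Nat.card_eq_of_bijective (fun g : {g : G // orderOf g = 10} =>
    (⟨g.1 ^ 2, by rw [orderOf_pow, g.2]; norm_num⟩ : {g : G // orderOf g = 5})) ⟨?_, ?_⟩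
  · rintro ⟨a, ha⟩ ⟨b, hb⟩ e
    have e' : a ^ 2 = b ^ 2 := congrArg (fun u : {g : G // orderOf g = 5} => u.1) e
    have hy : orderOf (a ^ 2) = 5 := by rw [orderOf_pow, ha]; norm_num
    have hle : Subgroup.zpowers a ≤ Subgroup.centralizer ({a ^ 2} : Set G) :=
      Subgroup.zpowers_le.2 (Subgroup.mem_centralizer_singleton_iff.2
        ((Commute.refl a).pow_right 2).eq)
    have he := Subgroup.eq_of_le_of_card_ge hle
      (by rw [Nat.card_zpowers, ha]; exact le_of_eq (C.search.five _ hy).1)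
    have hb' : b ∈ Subgroup.zpowers a := by
      rw [he, Subgroup.mem_centralizer_singleton_iff, e']
      exact ((Commute.refl b).pow_right 2).eq
    classical
    rw [(isOfFinOrder_of_finite a).mem_zpowers_iff_mem_range_orderOf, Finset.mem_image] at hb'
    obtain ⟨k, hk, hk'⟩ := hb'
    rw [Finset.mem_range, ha] at hk
    rw [← hk', ← pow_mul, pow_eq_pow_iff_modEq, ha] at e'
    refine Subtype.ext ?_
    rw [← hk', orderOf_pow, ha] at hb
    interval_cases k <;> revert hb e' <;> simp [Nat.ModEq, ← hk']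
  · rintro ⟨y, hy⟩
    obtain ⟨s, hs, hc⟩ := exists_mate C hy
    have h3 : orderOf (y ^ 3) = 5 := by rw [orderOf_pow, hy]; norm_num
    refine ⟨⟨s * y ^ 3, ?_⟩, Subtype.ext ?_⟩
    · rw [(hc.pow_right 3).orderOf_mul_eq_mul_orderOf_of_coprime (by rw [hs, h3]; norm_num), hs, h3]
    · show (s * y ^ 3) ^ 2 = y
      rw [(hc.pow_right 3).mul_pow, ← hs, pow_orderOf_eq_one, one_mul, hs, ← pow_mul]
      conv_rhs => rw [← pow_one y]
      rw [pow_eq_pow_iff_modEq, hy]
      decide

theorem norm_five (C : Census B) {y : G} (hy : orderOf y = 5) :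
    Nat.card (Subgroup.normalizer (Subgroup.zpowers y : Set G)) = 40 := by
  haveI : Fact (Nat.Prime 5) := ⟨Nat.prime_five⟩
  have hP : ∀ P : Sylow 5 G, Nat.card ↥(P : Subgroup G) = 5 := by
    intro P
    rw [P.card_eq_multiplicity, B.eleven.card, show (95040 : ℕ) = 5 * 19008 by norm_num,
      Nat.factorization_mul (by norm_num) (by norm_num), Finsupp.add_apply,
      Nat.prime_five.factorization_self, Nat.factorization_eq_zero_of_not_dvd (by norm_num)]
    rfl
  have hc := SimpleSearch.card_orderOf hP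
  have h5 := cnt_five C
  unfold M12Nse51.cnt at h5
  rw [h5] at hc
  obtain ⟨P, hle⟩ := (IsPGroup.of_card (G := ↥(Subgroup.zpowers y)) (p := 5) (n := 1)
    (by rw [Nat.card_zpowers, hy, pow_one])).exists_le_sylow
  have he : Subgroup.zpowers y = (P : Subgroup G) :=
    Subgroup.eq_of_le_of_card_ge hle (by rw [hP P, Nat.card_zpowers, hy])
  rw [he]
  have h1 := Subgroup.index_mul_card (Subgroup.normalizer (P : Set G))
  rw [← P.card_eq_index_normalizer, B.eleven.card] at h1
  rw [show Nat.card (Sylow 5 G) = 2376 by omega] at h1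
  change Nat.card ↥(Subgroup.normalizer (P : Set G)) = 40
  exact Nat.eq_of_mul_eq_mul_left (by norm_num) (h1.trans (by norm_num : (95040 : ℕ) = 2376 * 40))

/-! ## An element of order eight -/

/-- The expected value at the square, without elements of order eight. -/
def sqVal : ℕ → ℤ
  | 1 => 54
  | 2 => 54
  | 4 => 6
  | 5 => -1
  | 10 => -1
  | _ => 0

theorem sq_val (C : Census B) (h8 : ∀ g : G, orderOf g ≠ 8) {g : G} (h11 : ¬ 11 ∣ orderOf g) :
    orderOf g ∈ ({1, 2, 3, 4, 5, 6, 10} : Finset ℕ) ∧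
      M12Ord40.cmp 1 (B.val (g * g)) = sqVal (orderOf g) := by
  have hm := mem_ords C h11
  simp only [ords, List.mem_cons, List.not_mem_nil, or_false] at hm
  have no : ∀ n : ℕ, 8 ∣ n → orderOf g ≠ n := fun n hd hn =>
    h8 _ (orderOf_pow_orderOf_div (orderOf_pos g).ne' (hn ▸ hd))
  have one : g * g = 1 → M12Ord40.cmp 1 (B.val (g * g)) = 54 := by
    intro e; rw [e, B.one, C.search.deg.1]; rfl
  have ho : orderOf (g * g) = orderOf g / Nat.gcd (orderOf g) 2 := by rw [← sq, orderOf_pow]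
  rcases hm with h | h | h | h | h | h | h | h | h | h | h
  all_goals first
    | (have hd : 8 ∣ orderOf g := by omega
       exact absurd rfl (no _ hd))
    | skip
  all_goals refine ⟨by rw [h]; decide, ?_⟩
  all_goals rw [h] at ho ⊢
  all_goals norm_num at ho
  all_goals show M12Ord40.cmp 1 (B.val (g * g)) = _
  · exact one ho
  · exact one ho
  · rcases three_mem_fib C (ne_one_of_order ho (by norm_num)) (a := 1) (by rw [ho]; norm_num)
      with e | e <;> rw [e] <;> rfl
  · rcases two_val C ho with e | e <;> rw [e] <;> rfl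
  · rw [five_val C ho]; rfl
  · rcases three_mem_fib C (ne_one_of_order ho (by norm_num)) (a := 1) (by rw [ho]; norm_num)
      with e | e <;> rw [e] <;> rfl
  · rw [five_val C ho]; rfl

theorem exists_eight (C : Census B) : ∃ g : G, orderOf g = 8 := by
  classical
  by_contra hc
  have h8 : ∀ g : G, orderOf g ≠ 8 := fun g hg => hc ⟨g, hg⟩
  let S := Finset.univ.filter fun g : G => ¬ 11 ∣ orderOf g
  have hmaps : ∀ g ∈ S, orderOf g ∈ ({1, 2, 3, 4, 5, 6, 10} : Finset ℕ) := fun g hg =>
    (sq_val C h8 (Finset.mem_filter.1 hg).2).1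
  have hc' : ∀ n : ℕ, ¬ 11 ∣ n →
      (S.filter fun g => orderOf g = n).card = M12Nse51.cnt G n := by
    intro n hn
    rw [M12Nse51.cnt, Nat.card_eq_fintype_card, Fintype.card_subtype, Finset.filter_filter]
    congr 1
    ext g
    simp only [Finset.mem_filter, Finset.mem_univ, true_and, and_iff_right_iff_imp]
    intro h; rw [h]; exact hn
  have h1 : M12Nse51.cnt G 1 = 1 := by
    refine Nat.card_eq_one_iff_unique.2 ⟨⟨fun a b => Subtype.ext ?_⟩, ⟨⟨1, orderOf_one⟩⟩⟩
    rw [orderOf_eq_one_iff.1 a.2, orderOf_eq_one_iff.1 b.2]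
  have ht : S.card = 77760 := by
    rw [← B.total, Nat.card_eq_fintype_card, Fintype.card_subtype]
  rw [Finset.card_eq_sum_card_fiberwise hmaps] at ht
  have hsum : ∑ g ∈ S, M12Ord40.cmp 1 (B.val (g * g)) =
      ∑ n ∈ ({1, 2, 3, 4, 5, 6, 10} : Finset ℕ), sqVal n * (M12Nse51.cnt G n : ℤ) := by
    rw [← Finset.sum_fiberwise_of_maps_to hmaps]
    refine Finset.sum_congr rfl fun n hn => ?_
    rw [Finset.sum_congr rfl (g := fun _ => sqVal n) (fun g hg => by
      rw [(sq_val C h8 (Finset.mem_filter.1 (Finset.mem_filter.1 hg).1).2).2,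
        (Finset.mem_filter.1 hg).2]), Finset.sum_const, nsmul_eq_mul, mul_comm, hc' n ?_]
    fin_cases hn <;> norm_num
  rw [Finset.sum_congr rfl (g := fun n => M12Nse51.cnt G n)
    (fun n hn => hc' n (by fin_cases hn <;> norm_num))] at ht
  simp only [Finset.mem_insert, Finset.mem_singleton, Finset.sum_insert, Finset.sum_singleton,
    OfNat.ofNat_ne_one, not_false_eq_true, or_self, Nat.reduceEqDiff] at hsum ht
  obtain ⟨ν, hν1, hν2, hν⟩ := B.squares 1 (by decide)
  change (∑ g ∈ S, M12Ord40.cmp 1 (B.val (g * g))) + _ = _ at hν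
  rw [C.search.deg.2, show M12Ord40.cmp 1 m12S = -1 from rfl, hsum] at hν
  simp only [sqVal] at hν
  rw [h1, cnt_two C, cnt_three C, cnt_five C, cnt_six C, cnt_ten C] at hν ht
  push_cast at hν
  omega

/-- The census gives the counts used by the recognition theorem. -/
theorem data_of_census (C : Census B) : M12Nse51.Data G where
  simple := B.eleven.simple
  card := B.eleven.card
  cnt2 := cnt_two C
  cnt3 := cnt_three C
  cnt5 := cnt_five C
  cnt6 := by rw [cnt_six C]; simp
  cnt10 := cnt_ten C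
  no9 := no_nine C
  no12 := no_twelve C
  no15 := fun _ => no_five_mul C (by norm_num) (by norm_num) (by norm_num)
  no20 := fun _ => no_five_mul C (by norm_num) (by norm_num) (by norm_num)
  exists8 := exists_eight C
  centFive := fun y hy => (C.search.five y hy).1
  normFive := fun _ hy => norm_five C hy
  centEleven := B.eleven.cent

end Cfsg.Agent.M12Ord99
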