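import Cfsg.Agent.Lib.M12Ord49Eleven
import Cfsg.Agent.Lib.M12Ord56Bound
import Cfsg.Agent.Lib.M12Ord83Search
import Cfsg.Agent.Lib.M12Ord47Mem
import Cfsg.Agent.Lib.M12Ord90Census
import Cfsg.Agent.Lib.M12Ord99Data
import Cfsg.Agent.Lib.M12Nse51Main
import Cfsg.Agent.Lib.M12DodecadBridge51
import Cfsg.Agent.Lib.M12Ord88Raw

/-!
M12 by order: from the raw block data to the isomorphism.
-/

set_option autoImplicit false

open Cfsg

namespace Cfsg.Agent.M12Ord51Final

universe u

/-- The chain, given the raw block data. -/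
theorem iso_of_raw {G : Type u} [Group G] [Fintype G] (R : M12Ord40.Raw G) :
    Nonempty (G ≃* ↥Cfsg.Spor.M12) := by
  obtain ⟨B, -, -, hb⟩ := M12Ord56.exists_blk_bound R
  obtain ⟨hd, h5, hc⟩ := M12Ord56.deg_five B hb
  have S := M12Ord83Search.exists_search B hd h5 hc
  exact M12Nse51.iso_of_data
    (M12Ord99.data_of_census (M12Ord40.census_of_mem S (M12Ord47Mem.census_mem S)))

/-- A simple group of order 95040 is the Mathieu group of degree twelve. -/
theorem unique {G : Type u} [Group G] [Finite G] (hs : IsSimpleGroup G)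
    (hc : Nat.card G = 95040) : Nonempty (G ≃* ↥Cfsg.Spor.M12) := by
  haveI := Fintype.ofFinite G
  obtain ⟨R⟩ := M12Ord40.exists_raw (M12Ord40.exists_eleven hs hc)
  exact iso_of_raw R

end Cfsg.Agent.M12Ord51Final
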