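import Cfsg.Agent.Lib.M12Ord88Pre
import Cfsg.Agent.Lib.BlockCount91
import Cfsg.Agent.Lib.M11Order91Degrees

/-!
The principal 11-block of a group of order 95040: six kinds of characters and their degrees.
-/

set_option autoImplicit false
set_option linter.style.haveILetI false
set_option linter.unusedSectionVars false

open scoped ComplexConjugate

namespace Cfsg.Agent.M12Ord88

open Cfsg Cfsg.Agent.BlockPrime86 Cfsg.Agent.BlockPrincipal81 Cfsg.Agent.BlockCount91
open Cfsg.Agent.M12Ord40 (Vec rows Eleven)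

attribute [local instance] Classical.propDecidable

theorem exists_four {α : Type*} [DecidableEq α] (s : Finset α) (f : α → ℕ) (h : s.card = 4) :
    ∃ a b c d, (a ≠ b ∧ a ≠ c ∧ a ≠ d ∧ b ≠ c ∧ b ≠ d ∧ c ≠ d) ∧ s = {a, b, c, d} ∧
      f a ≤ f b ∧ f b ≤ f c ∧ f c ≤ f d := by
  obtain ⟨a, ha, ha'⟩ := s.exists_min_image f (Finset.card_pos.1 (by omega))
  have h1 : (s.erase a).card = 3 := by rw [Finset.card_erase_of_mem ha, h]
  obtain ⟨b, hb, hb'⟩ := (s.erase a).exists_min_image f (Finset.card_pos.1 (by omega))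
  have h2 : ((s.erase a).erase b).card = 2 := by rw [Finset.card_erase_of_mem hb, h1]
  obtain ⟨c, hc, hc'⟩ := ((s.erase a).erase b).exists_min_image f (Finset.card_pos.1 (by omega))
  obtain ⟨d, hd⟩ : ∃ d, ((s.erase a).erase b).erase c = {d} :=
    Finset.card_eq_one.1 (by rw [Finset.card_erase_of_mem hc, h2])
  have hdm : d ∈ ((s.erase a).erase b).erase c := by rw [hd]; exact Finset.mem_singleton_self d
  simp only [Finset.mem_erase] at hb hc hdm
  refine ⟨a, b, c, d, ⟨hb.1.symm, hc.2.1.symm, hdm.2.2.1.symm, hc.1.symm, hdm.2.1.symm, hdm.1.symm⟩,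
    ?_, ha' b hb.2, hb' c (Finset.mem_erase.2 hc.2), hc' d ?_⟩
  · rw [← Finset.insert_erase ha, ← Finset.insert_erase (Finset.mem_erase.2 hb),
      ← Finset.insert_erase (s := (s.erase a).erase b) (a := c) (by simp [hc]), hd]
  · simp [hdm]

/-- The sign of a non-exceptional degree. -/
def sgn (d : ℕ) : ℤ := if d % 11 = 1 then 1 else -1

/-- The signed sum of the non-exceptional degrees. -/
def sumSigned (a b c d : ℕ) : ℤ :=
  1 + sgn a * (a : ℤ) + sgn b * (b : ℤ) + sgn c * (c : ℤ) + sgn d * (d : ℤ)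

/-- The possible non-exceptional degrees. -/
def degs : List ℕ :=
  (List.range 309).filter fun d =>
    decide (2 ≤ d) && decide (95040 % d = 0) && (decide (d % 11 = 1) || decide (d % 11 = 10))

theorem key : ∀ a ∈ degs, ∀ b ∈ degs, ∀ c ∈ degs, ∀ d ∈ degs, a ≤ b → b ≤ c → c ≤ d →
    sumSigned a b c d % 11 = 5 → 95040 % (sumSigned a b c d).natAbs = 0 →
    2 ≤ (sumSigned a b c d).natAbs →
    1 + a * a + b * b + c * c + d * d +
      2 * ((sumSigned a b c d).natAbs * (sumSigned a b c d).natAbs) ≤ 95040 →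
    (((a : ℤ), (b : ℤ), (c : ℤ), (d : ℤ), ((sumSigned a b c d).natAbs : ℤ)),
      (sgn a, sgn b, sgn c, sgn d, if 0 < sumSigned a b c d then (-1 : ℤ) else 1)) ∈ rows := by
  decide +kernel

theorem sgn_eq {d : ℕ} {s : ℤ} (hs : s = 1 ∨ s = -1) (h : (d : ℤ) ≡ s [ZMOD 11]) :
    (d % 11 = 1 ∨ d % 11 = 10) ∧ s = sgn d := by
  have h' : (d : ℤ) % 11 = s % 11 := h
  unfold sgn
  rcases hs with e | e <;> subst e
  · have h1 : d % 11 = 1 := by omega
    exact ⟨Or.inl h1, by rw [if_pos h1]⟩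
  · have h1 : d % 11 = 10 := by omega
    exact ⟨Or.inr h1, by rw [if_neg (by omega)]⟩

variable {G : Type*} [Group G] [Fintype G]

theorem exists_pre (h0 : Eleven G) : Nonempty (Pre G) := by
  haveI := h0.simple
  haveI : Fact (Nat.Prime 11) := ⟨by norm_num⟩
  have hc := h0.card
  have hG : ¬ IsMulCommutative G := by
    intro h
    letI : CommGroup G := { (inferInstance : Group G) with mul_comm := fun a b => h.is_comm.comm a b }
    have hp : (Nat.card G).Prime := IsSimpleGroup.prime_card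
    rw [hc] at hp
    norm_num at hp
  obtain ⟨P⟩ : Nonempty (Sylow 11 G) := inferInstance
  have hP : Nat.card ↥(P : Subgroup G) = 11 := by
    rw [P.card_eq_multiplicity, hc]
    have : (95040 : ℕ).factorization 11 = 1 := by
      rw [show (95040 : ℕ) = 11 * 8640 by norm_num, Nat.factorization_mul (by norm_num) (by norm_num),
        Finsupp.add_apply, Nat.Prime.factorization_self (by norm_num),
        Nat.factorization_eq_zero_of_not_dvd (by norm_num)]
    rw [this, pow_one]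
  obtain ⟨⟨z, hz⟩, hzo⟩ := exists_prime_orderOf_dvd_card' 11 (G := ↥(P : Subgroup G)) (by rw [hP])
  rw [Subgroup.orderOf_mk] at hzo
  have hz1 : z ≠ 1 := by rintro rfl; rw [orderOf_one] at hzo; norm_num at hzo
  have hzP : Subgroup.zpowers z = (P : Subgroup G) :=
    Subgroup.eq_of_le_of_card_ge (Subgroup.zpowers_le.2 hz) (by rw [hP, Nat.card_zpowers, hzo])
  have hC : Nat.card ↥(Subgroup.centralizer ((P : Subgroup G) : Set G)) = 11 := by
    rw [← hzP, Subgroup.zpowers_eq_closure, Subgroup.centralizer_closure]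
    exact h0.cent z hzo
  have hN : Nat.card ↥(Subgroup.normalizer ((P : Subgroup G) : Set G)) = 11 * 5 := by
    rw [← hzP]; exact h0.norm z hzo
  obtain ⟨M, hM⟩ := ZStarCount.exists_isPModular 11 (Fact.out : Nat.Prime 11)
  haveI : Fintype ↥(P : Subgroup G) := Fintype.ofFinite _
  haveI : Fintype (↥(P : Subgroup G) →* ℂˣ) := Fintype.ofFinite _
  obtain ⟨X, Y, w, ε, h⟩ := prime_main hP (by norm_num) hM 5
    (M11Order91.relIndex_centralizer hN hC (by norm_num))
  have hcz := M11Order91.centralizer_mem hP hC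
  have hout : ∀ χ, χ ∉ X → χ ∉ Y → ∀ y ∈ (P : Subgroup G), y ≠ 1 → (χ : G → ℂ) y = 0 :=
    fun χ hX hY => (M11Order91.dvd_outside hP h (by norm_num) (by norm_num) hcz (by norm_num) hX hY).2
  have h1X : oneChar G ∈ X := by
    rcases (h.block _).1 (oneChar_mem hM) with hx | hy
    · exact hx
    · exfalso
      have h2 : (deg (oneChar G) : ℤ) % 11 = (ε * ((5 : ℕ) : ℤ)) % 11 := h.degY _ hy
      rw [deg_one] at h2
      rcases h.sign with e' | e' <;> rw [e'] at h2 <;> omega
  have hw1 : w (oneChar G) = 1 := by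
    have h2 := (sgn_eq (h.valX _ h1X).1 (d := deg (oneChar G)) (h.valX _ h1X).2.1).2
    rw [h2, deg_one]; rfl
  obtain ⟨η₁, η₂, hne, hY⟩ := Finset.card_eq_two.1 (show Y.card = 2 by rw [h.cardY])
  have hη1 : η₁ ∈ Y := by simp [hY]
  have hη2 : η₂ ∈ Y := by simp [hY]
  obtain ⟨a, b, c, d, ⟨hab, hac, had, hbc, hbd, hcd⟩, hX', la, lb, lc⟩ :=
    exists_four (X.erase (oneChar G)) deg (by rw [Finset.card_erase_of_mem h1X, h.cardX])
  have hmemX : ∀ χ ∈ ({a, b, c, d} : Finset (IrrCharacter G)), χ ≠ oneChar G ∧ χ ∈ X := fun χ hχ =>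
    Finset.mem_erase.1 (hX' ▸ hχ)
  obtain ⟨hane, haX⟩ := hmemX a (by simp)
  obtain ⟨hbne, hbX⟩ := hmemX b (by simp)
  obtain ⟨hcne, hcX⟩ := hmemX c (by simp)
  obtain ⟨hdne, hdX⟩ := hmemX d (by simp)
  have hXs : ∀ f : IrrCharacter G → ℂ,
      ∑ χ ∈ X, f χ = f (oneChar G) + (f a + (f b + (f c + f d))) := by
    intro f
    rw [← Finset.add_sum_erase X f h1X, hX', Finset.sum_insert (by simp [hab, hac, had]),
      Finset.sum_insert (by simp [hbc, hbd]), Finset.sum_pair hcd]
  have hXn : ∀ f : IrrCharacter G → ℕ,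
      ∑ χ ∈ X, f χ = f (oneChar G) + (f a + (f b + (f c + f d))) := by
    intro f
    rw [← Finset.add_sum_erase X f h1X, hX', Finset.sum_insert (by simp [hab, hac, had]),
      Finset.sum_insert (by simp [hbc, hbd]), Finset.sum_pair hcd]
  obtain ⟨hamod, hwa⟩ := sgn_eq (h.valX a haX).1 (d := deg a) (h.valX a haX).2.1
  obtain ⟨hbmod, hwb⟩ := sgn_eq (h.valX b hbX).1 (d := deg b) (h.valX b hbX).2.1
  obtain ⟨hcmod, hwc⟩ := sgn_eq (h.valX c hcX).1 (d := deg c) (h.valX c hcX).2.1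
  obtain ⟨hdmod, hwd⟩ := sgn_eq (h.valX d hdX).1 (d := deg d) (h.valX d hdX).2.1
  have h11one : ¬ 11 ∣ orderOf (1 : G) := by rw [orderOf_one]; norm_num
  have hone : ∀ g : G, ((oneChar G : IrrCharacter G) : G → ℂ) g = 1 := fun g => rfl
  have hreg : ∀ g : G, ¬ 11 ∣ orderOf g →
      (ε : ℂ) * (η₁ : G → ℂ) g = 1 + (w a : ℂ) * (a : G → ℂ) g + (w b : ℂ) * (b : G → ℂ) g +
        (w c : ℂ) * (c : G → ℂ) g + (w d : ℂ) * (d : G → ℂ) g := by
    intro g hg
    rw [h.regular η₁ hη1 g hg, hXs, hw1, hone]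
    push_cast
    ring
  have hde : deg η₂ = deg η₁ := by
    have := h.agree η₂ hη2 η₁ hη1 1 h11one
    rw [apply_one, apply_one] at this
    exact_mod_cast this
  set r := sumSigned (deg a) (deg b) (deg c) (deg d) with hr
  have hrel : ε * (deg η₁ : ℤ) = r := by
    have h1 := hreg 1 h11one
    simp only [apply_one] at h1
    rw [hr, sumSigned, ← hwa, ← hwb, ← hwc, ← hwd]
    exact_mod_cast h1
  have habs : r.natAbs = deg η₁ := by
    rw [← hrel]
    rcases h.sign with e' | e' <;> simp [e']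
  have hr5 : r % 11 = 5 := by
    have h2 : (deg η₁ : ℤ) % 11 = (ε * ((5 : ℕ) : ℤ)) % 11 := h.degY _ hη1
    rw [← hrel]
    rcases h.sign with e' | e' <;> rw [e'] at h2 ⊢ <;> omega
  have hη1ne : η₁ ≠ oneChar G := fun e => Finset.disjoint_left.1 h.disj h1X (e ▸ hη1)
  have hη2ne : η₂ ≠ oneChar G := fun e => Finset.disjoint_left.1 h.disj h1X (e ▸ hη2)
  have hsq : 1 + deg a * deg a + deg b * deg b + deg c * deg c + deg d * deg d +
      2 * (r.natAbs * r.natAbs) ≤ 95040 := by
    have h1 := sum_subset_le (X ∪ Y)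
    rw [Finset.sum_union h.disj, hXn, hY, Finset.sum_pair hne, deg_one, hde, hc] at h1
    rw [habs]
    simp only [pow_two] at h1
    omega
  have hmemD : ∀ χ : IrrCharacter G, χ ≠ oneChar G →
      (deg χ % 11 = 1 ∨ deg χ % 11 = 10) → deg χ ∈ degs := by
    intro χ hχ hm
    have h1 := deg_sq_lt hχ
    rw [hc] at h1
    simp only [degs, List.mem_filter, List.mem_range, Bool.and_eq_true, Bool.or_eq_true,
      decide_eq_true_eq]
    exact ⟨by nlinarith, ⟨two_le_deg hG hχ, Nat.mod_eq_zero_of_dvd (hc ▸ deg_dvd χ)⟩, hm⟩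
  have hrow := key _ (hmemD a hane hamod) _ (hmemD b hbne hbmod) _ (hmemD c hcne hcmod)
    _ (hmemD d hdne hdmod) la lb lc hr5
    (by rw [← hr, habs]; exact Nat.mod_eq_zero_of_dvd (hc ▸ deg_dvd η₁))
    (by rw [← hr, habs]; exact two_le_deg hG hη1ne) hsq
  rw [← hr, habs, ← hwa, ← hwb, ← hwc, ← hwd,
    show (if 0 < r then (-1 : ℤ) else 1) = -ε by
      have := deg_pos η₁
      rcases h.sign with e' | e' <;> rw [e'] at hrel ⊢ <;> split <;> omega] at hrow
  -- values on the elements of order eleven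
  have hconj : ∀ x : G, orderOf x = 11 → ∃ y ∈ (P : Subgroup G), y ≠ 1 ∧ IsConj x y := by
    intro x hx
    obtain ⟨R, hle⟩ := (IsPGroup.of_card (G := ↥(Subgroup.zpowers x)) (p := 11) (n := 1)
      (by rw [Nat.card_zpowers, hx, pow_one])).exists_le_sylow
    obtain ⟨g, hg⟩ := MulAction.exists_smul_eq G R P
    refine ⟨g * x * g⁻¹, ?_, fun e => ?_, isConj_iff.2 ⟨g, rfl⟩⟩
    · rw [← hg, Sylow.coe_subgroup_smul]
      exact Subgroup.smul_mem_pointwise_smul _ (MulAut.conj g) _ (hle (Subgroup.mem_zpowers x))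
    · rw [conj_eq_one_iff.1 e, orderOf_one] at hx
      norm_num at hx
  have hvX : ∀ χ ∈ X, ∀ x : G, orderOf x = 11 → (χ : G → ℂ) x = (w χ : ℂ) := by
    intro χ hχ x hx
    obtain ⟨y, hy, hy1, hxy⟩ := hconj x hx
    rw [ClassAlgebraVal.irr_conj χ hxy]
    exact (h.valX χ hχ).2.2 y hy hy1
  have hexc : ∀ x : G, orderOf x = 11 → (η₁ : G → ℂ) x + (η₂ : G → ℂ) x = ((-ε : ℤ) : ℂ) := by
    intro x hx
    obtain ⟨y, hy, hy1, hxy⟩ := hconj x hx
    rw [ClassAlgebraVal.irr_conj η₁ hxy, ClassAlgebraVal.irr_conj η₂ hxy]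
    have hyX : ∀ χ ∈ X, (χ : G → ℂ) y = (w χ : ℂ) := fun χ hχ => (h.valX χ hχ).2.2 y hy hy1
    have ho := CharBasicOrth.sum_irr_mul_conj y (1 : G)
    rw [if_neg (fun hc' => hy1 (isConj_one_left.1 hc')),
      ← Finset.sum_subset (Finset.subset_univ (X ∪ Y)) (fun χ _ hχ => by
        rw [hout χ (fun e => hχ (Finset.mem_union_left _ e))
          (fun e => hχ (Finset.mem_union_right _ e)) y hy hy1, zero_mul]),
      Finset.sum_union h.disj, hXs, hY, Finset.sum_pair hne, hyX _ h1X, hyX _ haX, hyX _ hbX,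
      hyX _ hcX, hyX _ hdX, hw1] at ho
    simp only [apply_one, Complex.conj_natCast, deg_one, hde, Nat.cast_one, Int.cast_one, map_one] at ho
    have h1 := hreg 1 h11one
    simp only [apply_one] at h1
    have hd : (deg η₁ : ℂ) ≠ 0 := Nat.cast_ne_zero.2 (deg_pos η₁).ne'
    refine mul_right_cancel₀ hd ?_
    rcases h.sign with e' | e' <;> rw [e'] at h1 ⊢ <;> push_cast at h1 ho ⊢
    · linear_combination ho + h1
    · linear_combination ho + h1
  have hχne : ∀ χ ∈ X, ∀ η ∈ Y, χ ≠ η := fun χ hχ η hη e => Finset.disjoint_left.1 h.disj hχ (e ▸ hη)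
  have hnt : ∀ χ : IrrCharacter G, χ ≠ oneChar G → (χ : G → ℂ) ≠ fun _ => 1 :=
    fun χ hχ e => hχ (Subtype.ext e)
  refine ⟨{
    eleven := h0
    D := ((deg a : ℤ), (deg b : ℤ), (deg c : ℤ), (deg d : ℤ), (deg η₁ : ℤ))
    σ := (w a, w b, w c, w d, -ε)
    row := hrow
    χ := ![a, b, c, d, η₁]
    θ := η₂
    inj := ?_
    other := ?_
    nontriv := ?_
    nontrivθ := hnt _ hη2ne
    deg := ?_
    agree := fun g hg => h.agree η₂ hη2 η₁ hη1 g hg
    rel := ?_
    atEleven := ?_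
    excEleven := ?_
    outside := ?_ }⟩
  · have n1 := hχne a haX η₁ hη1
    have n2 := hχne b hbX η₁ hη1
    have n3 := hχne c hcX η₁ hη1
    have n4 := hχne d hdX η₁ hη1
    intro i j
    fin_cases i <;> fin_cases j <;>
      simp [hab, hac, had, hbc, hbd, hcd, hab.symm, hac.symm, had.symm, hbc.symm, hbd.symm,
        hcd.symm, n1, n2, n3, n4, n1.symm, n2.symm, n3.symm, n4.symm]
  · intro i
    fin_cases i
    · exact hχne a haX η₂ hη2
    · exact hχne b hbX η₂ hη2
    · exact hχne c hcX η₂ hη2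
    · exact hχne d hdX η₂ hη2
    · exact hne
  · intro i
    fin_cases i
    · exact hnt a hane
    · exact hnt b hbne
    · exact hnt c hcne
    · exact hnt d hdne
    · exact hnt η₁ hη1ne
  · intro i
    fin_cases i <;> simp [M12Ord40.cmp, apply_one]
  · intro g hg
    have h1 := hreg g hg
    simp [Fin.sum_univ_five, M12Ord40.cmp]
    linear_combination -h1
  · intro x hx i hi
    fin_cases i
    · exact hvX a haX x hx
    · exact hvX b hbX x hx
    · exact hvX c hcX x hx
    · exact hvX d hdX x hx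
    · exact absurd rfl hi
  · intro x hx
    exact hexc x hx
  · intro ψ hψ hψχ hψθ x hx
    obtain ⟨y, hy, hy1, hxy⟩ := hconj x hx
    rw [ClassAlgebraVal.irr_conj ψ hxy]
    refine hout ψ ?_ ?_ y hy hy1
    · intro hm
      have hm' : ψ ∈ ({a, b, c, d} : Finset (IrrCharacter G)) :=
        hX' ▸ Finset.mem_erase.2 ⟨fun e => hψ (by rw [e]; rfl), hm⟩
      simp only [Finset.mem_insert, Finset.mem_singleton] at hm'
      rcases hm' with e | e | e | e
      · exact hψχ 0 e
      · exact hψχ 1 e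
      · exact hψχ 2 e
      · exact hψχ 3 e
    · intro hm
      rw [hY, Finset.mem_insert, Finset.mem_singleton] at hm
      rcases hm with e | e
      · exact hψχ 4 e
      · exact hψθ e

end Cfsg.Agent.M12Ord88
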