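import Cfsg.Agent.Lib.M12Ord40Raw
import Cfsg.Agent.Lib.BlockCount91
import Cfsg.Agent.Lib.G22Block86
import Cfsg.Agent.Lib.FSBound

/-!
Groups of order 95040: the integer data read from the characters of the principal 11-block.
-/

set_option autoImplicit false
set_option linter.style.haveILetI false
set_option linter.unusedSectionVars false

open scoped ComplexConjugate

namespace Cfsg.Agent.M12Ord40

open Cfsg Cfsg.Agent.BlockPrincipal81 BlockTheoryLocalRing

attribute [local instance] Classical.propDecidable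

namespace BlkAux

/-- Build a vector from its coordinates. -/
def mkVec (f : Fin 5 → ℤ) : Vec := (f 0, f 1, f 2, f 3, f 4)

theorem cmp_mkVec (f : Fin 5 → ℤ) (i : Fin 5) : cmp i (mkVec f) = f i := by
  fin_cases i <;> rfl

theorem mkVec_cmp (v : Vec) : mkVec (fun i => cmp i v) = v := by
  obtain ⟨a, b, c, d, w⟩ := v
  rfl

theorem rows_facts : ∀ q ∈ rows, ∀ i : Fin 5,
    cmp i q.1 ∣ 95040 ∧ 0 < cmp i q.1 ∧ cmp i q.2 * cmp i q.2 = 1 := by
  decide +kernel

universe u

variable {G : Type u} [Group G] [Fintype G]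

theorem int_mem_iff {p : ℕ} {M : Ideal AlgInt} (hM : IsPModular p M) (k : ℤ) :
    MemLocalIdeal M (k : ℂ) ↔ (p : ℤ) ∣ k := by
  obtain ⟨n, rfl | rfl⟩ := k.eq_nat_or_neg
  · rw [Int.cast_natCast, natCast_mem_iff hM, Int.natCast_dvd_natCast]
  · rw [Int.cast_neg, Int.cast_natCast, dvd_neg, Int.natCast_dvd_natCast, ← natCast_mem_iff hM]
    exact ⟨fun h => by simpa using ideal_neg h, fun h => ideal_neg h⟩

/-- A character value that is an integer satisfies the Frobenius congruence. -/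
theorem pow_congr {p : ℕ} (hp : p.Prime) {χ : G → ℂ} (hχ : IsCharacter G χ) {x : G} {z z' : ℤ}
    (hz : χ x = z) (hz' : χ (x ^ p) = z') : z' ≡ z [ZMOD p] := by
  haveI : Fact p.Prime := ⟨hp⟩
  obtain ⟨M, hM⟩ := ZStarCount.exists_isPModular p hp
  obtain ⟨n, ρ, rfl⟩ := hχ
  obtain ⟨b, μ, -, hμ, -, h4⟩ := CharBasic.exists_rep_eigenbasis ρ x
  have hg1 : ρ.character x = ∑ i, μ i := by simpa using h4 1
  have hint : ∀ i, IsIntegral ℤ (μ i) := fun i =>
    IsIntegral.of_pow (isOfFinOrder_of_finite x).orderOf_pos (by rw [hμ]; exact isIntegral_one)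
  let a : Fin _ → AlgInt := fun i => ⟨μ i, hint i⟩
  haveI : Nontrivial (AlgInt ⧸ M) := Ideal.Quotient.nontrivial_iff.2 hM.2.1.ne_top
  haveI : CharP (AlgInt ⧸ M) p := by
    refine (CharP.charP_iff_prime_eq_zero hM.1).2 ?_
    rw [← map_natCast (Ideal.Quotient.mk M)]
    exact Ideal.Quotient.eq_zero_iff_mem.2 hM.2.2
  have e1 : (∑ i, a i : AlgInt) = (z : AlgInt) := by
    apply Subtype.ext
    push_cast
    rw [← hz, hg1]
  have e2 : (∑ i, a i ^ p : AlgInt) = (z' : AlgInt) := by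
    apply Subtype.ext
    push_cast
    rw [← hz', h4]
  have e3 : Ideal.Quotient.mk M (z' : AlgInt) = Ideal.Quotient.mk M ((z : AlgInt) ^ p) := by
    rw [← e2, ← e1, map_pow, map_sum, map_sum, sum_pow_char]
    simp only [map_pow]
  have h3 : MemLocalIdeal M (((z' - z ^ p : ℤ)) : ℂ) := by
    rw [Ideal.Quotient.eq] at e3
    have := (algInt_mem_ideal_iff hM).2 e3
    push_cast at this ⊢
    exact this
  have h5 : z' ≡ z ^ p [ZMOD p] := (Int.modEq_iff_dvd.2 ((int_mem_iff hM _).1 h3)).symm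
  have h6 : z ^ p ≡ z [ZMOD p] := by
    rw [← ZMod.intCast_eq_intCast_iff]
    push_cast
    rw [ZMod.pow_card]
  exact h5.trans h6

/-- An element of prime order with integral character value is rational. -/
theorem value_pow {p : ℕ} (hp : p.Prime) {χ : G → ℂ} (hχ : IsCharacter G χ) {g : G}
    (hg : orderOf g = p) {z : ℤ} (hz : χ g = z) {k : ℕ} (hk : ¬ p ∣ k) : χ (g ^ k) = z := by
  obtain ⟨n, ρ, rfl⟩ := hχ
  obtain ⟨b, μ, -, hμ, -, h4⟩ := CharBasic.exists_rep_eigenbasis ρ g
  haveI : NeZero p := ⟨hp.ne_zero⟩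
  set ζ : ℂ := Complex.exp (2 * Real.pi * Complex.I / p) with hζd
  have hζ : IsPrimitiveRoot ζ p := Complex.isPrimitiveRoot_exp p hp.ne_zero
  have he : ∀ i, ∃ e : ℕ, e < p ∧ ζ ^ e = μ i := fun i => by
    obtain ⟨e, h1, h2⟩ := hζ.eq_pow_of_pow_eq_one (by rw [← hg]; exact hμ i)
    exact ⟨e, h1, h2⟩
  choose e _ he using he
  set P : Polynomial ℚ := (∑ i, Polynomial.X ^ e i) - Polynomial.C (z : ℚ) with hP
  have hev : ∀ w : ℂ, Polynomial.aeval w P = (∑ i, w ^ e i) - (z : ℂ) := fun w => by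
    simp [hP]
  have hg1 : ρ.character g = ∑ i, μ i := by simpa using h4 1
  have h0 : Polynomial.aeval ζ P = 0 := by
    rw [hev, Finset.sum_congr rfl fun i _ => he i, ← hg1, hz, sub_self]
  have hmin : minpoly ℚ ζ ∣ P := minpoly.dvd ℚ ζ h0
  have hk' : IsPrimitiveRoot (ζ ^ k) p :=
    hζ.pow_of_coprime k (Nat.Coprime.symm ((hp.coprime_iff_not_dvd).2 hk))
  have hmm : minpoly ℚ (ζ ^ k) = minpoly ℚ ζ := by
    rw [← Polynomial.cyclotomic_eq_minpoly_rat hζ hp.pos,
      ← Polynomial.cyclotomic_eq_minpoly_rat hk' hp.pos]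
  have h1 : Polynomial.aeval (ζ ^ k) P = 0 := by
    obtain ⟨Q, hQ⟩ := hmm ▸ hmin
    rw [hQ, map_mul, minpoly.aeval, zero_mul]
  rw [hev, sub_eq_zero] at h1
  rw [h4, ← h1]
  exact Finset.sum_congr rfl fun i _ => by rw [← he i, ← pow_mul, ← pow_mul, mul_comm]

/-- The multiplicity of the eigenvalue one. -/
theorem eig_one {p : ℕ} (hp : p.Prime) {χ : G → ℂ} (hχ : IsCharacter G χ) {g : G}
    (hg : orderOf g = p) {z d : ℤ} (hz : χ g = z) (hd : χ 1 = d) :
    (p : ℤ) ∣ d + ((p : ℤ) - 1) * z ∧ 0 ≤ d + ((p : ℤ) - 1) * z := by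
  have hrat : ∀ k ∈ Finset.range p, χ (g ^ k) = if k = 0 then (d : ℂ) else (z : ℂ) := by
    intro k hk
    split_ifs with h
    · rw [h, pow_zero, hd]
    · exact value_pow hp hχ hg hz fun hd' =>
        h (Nat.eq_zero_of_dvd_of_lt hd' (Finset.mem_range.1 hk))
  obtain ⟨n, ρ, rfl⟩ := hχ
  obtain ⟨b, μ, -, hμ, -, h4⟩ := CharBasic.exists_rep_eigenbasis ρ g
  set m := (Finset.univ.filter fun i => μ i = 1).card with hm
  have h1 : ∑ k ∈ Finset.range p, ρ.character (g ^ k) = ((p * m : ℕ) : ℂ) := by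
    rw [Finset.sum_congr rfl fun k _ => h4 k, Finset.sum_comm,
      Finset.sum_congr rfl fun i _ => ClassAlgebraMod.sum_pow_of_pow_eq_one (by rw [← hg]; exact hμ i),
      ← Finset.sum_filter, Finset.sum_const, nsmul_eq_mul, hm]
    push_cast
    ring
  have h2 : ∑ k ∈ Finset.range p, ρ.character (g ^ k) = ((d + ((p : ℤ) - 1) * z : ℤ) : ℂ) := by
    rw [Finset.sum_congr rfl hrat]
    obtain ⟨q, rfl⟩ : ∃ q, p = q + 1 := ⟨p - 1, (Nat.sub_add_cancel hp.one_le).symm⟩
    rw [Finset.sum_range_succ']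
    simp only [Nat.add_one_ne_zero, if_false, if_true, Finset.sum_const, Finset.card_range,
      nsmul_eq_mul]
    push_cast
    ring
  rw [h2] at h1
  have h3 : d + ((p : ℤ) - 1) * z = (p * m : ℕ) := by exact_mod_cast h1
  rw [h3]
  exact ⟨⟨m, by push_cast; ring⟩, Int.natCast_nonneg _⟩

/-- Pairs of conjugates with product of order eleven come in full orbits of the two centralisers. -/
theorem pair_count (E : Eleven G) {g h x : G} (hx : orderOf x = 11) (hg : ¬ 11 ∣ orderOf g)
    (hh : ¬ 11 ∣ orderOf h) :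
    ∃ n : ℕ, Nat.card {k : G // IsConj x (g * (k * h * k⁻¹))} = cc g * cc h * n := by
  set A := Subgroup.centralizer ({g} : Set G)
  set B := Subgroup.centralizer ({h} : Set G)
  let S := {k : G // IsConj x (g * (k * h * k⁻¹))}
  have hmem : ∀ (q : ↥A × ↥B) (k : S),
      IsConj x (g * ((q.1 : G) * k.1 * (q.2 : G)⁻¹ * h * ((q.1 : G) * k.1 * (q.2 : G)⁻¹)⁻¹)) := by
    intro q k
    have h1 : (q.1 : G) * g = g * q.1 := Subgroup.mem_centralizer_singleton_iff.1 q.1.2
    have h2 : (q.2 : G) * h = h * q.2 := Subgroup.mem_centralizer_singleton_iff.1 q.2.2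
    have e2 : (q.2 : G)⁻¹ * h * q.2 = h := by rw [mul_assoc, ← h2, inv_mul_cancel_left]
    refine k.2.trans (isConj_iff.2 ⟨(q.1 : G), ?_⟩)
    calc (q.1 : G) * (g * (k.1 * h * k.1⁻¹)) * (q.1 : G)⁻¹
        = ((q.1 : G) * g) * k.1 * h * k.1⁻¹ * (q.1 : G)⁻¹ := by group
      _ = (g * q.1) * k.1 * ((q.2 : G)⁻¹ * h * q.2) * k.1⁻¹ * (q.1 : G)⁻¹ := by rw [h1, e2]
      _ = g * ((q.1 : G) * k.1 * (q.2 : G)⁻¹ * h * ((q.1 : G) * k.1 * (q.2 : G)⁻¹)⁻¹) := by group
  letI : MulAction (↥A × ↥B) S :=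
    { smul := fun q k => ⟨(q.1 : G) * k.1 * (q.2 : G)⁻¹, hmem q k⟩
      one_smul := fun k => Subtype.ext (show (1 : G) * k.1 * (1 : G)⁻¹ = k.1 by group)
      mul_smul := fun q r k => Subtype.ext (show ((q.1 : G) * r.1) * k.1 * ((q.2 : G) * r.2)⁻¹ =
        (q.1 : G) * ((r.1 : G) * k.1 * (r.2 : G)⁻¹) * (q.2 : G)⁻¹ by group) }
  have hfree : ∀ (q : ↥A × ↥B) (k : S), q • k = k → q = 1 := by
    intro q k he
    have he' : (q.1 : G) * k.1 * (q.2 : G)⁻¹ = k.1 := congrArg Subtype.val he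
    set a := (q.1 : G) with ha
    set w := g * (k.1 * h * k.1⁻¹) with hw
    have hk : (q.2 : G) = k.1⁻¹ * a * k.1 := by
      calc (q.2 : G) = k.1⁻¹ * (a * k.1 * (q.2 : G)⁻¹) * q.2 := by rw [he']; group
        _ = k.1⁻¹ * a * k.1 := by group
    have hag : Commute a g := Subgroup.mem_centralizer_singleton_iff.1 q.1.2
    have hky : Commute (k.1⁻¹ * a * k.1) h := hk ▸ Subgroup.mem_centralizer_singleton_iff.1 q.2.2
    have hah : Commute a (k.1 * h * k.1⁻¹) := by
      have := (Commute.conj_iff k.1).2 hky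
      simpa [mul_assoc] using this
    have haw : Commute a w := hag.mul_right hah
    obtain ⟨c, hc⟩ := isConj_iff.1 k.2
    have h1 : a = 1 := by
      by_contra hne
      haveI : Fact (Nat.Prime 11) := ⟨by norm_num⟩
      have hmz : c⁻¹ * a * c ∈ Subgroup.centralizer ({x} : Set G) := by
        rw [Subgroup.mem_centralizer_singleton_iff]
        have h3 : x = c⁻¹ * w * c := by rw [hw, ← hc]; group
        rw [h3]
        calc c⁻¹ * a * c * (c⁻¹ * w * c) = c⁻¹ * (a * w) * c := by group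
          _ = c⁻¹ * (w * a) * c := by rw [haw.eq]
          _ = c⁻¹ * w * c * (c⁻¹ * a * c) := by group
      have hpow : a ^ 11 = 1 := by
        have h4 : (⟨_, hmz⟩ : ↥(Subgroup.centralizer ({x} : Set G))) ^ 11 = 1 := by
          rw [show (11 : ℕ) = Nat.card ↥(Subgroup.centralizer ({x} : Set G)) from (E.cent x hx).symm]
          exact pow_card_eq_one'
        have h5 : (c⁻¹ * a * c) ^ 11 = 1 := congrArg Subtype.val h4
        rw [show a = c * (c⁻¹ * a * c) * c⁻¹ by group, conj_pow, h5, mul_one, mul_inv_cancel]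
      have hgm : g ∈ Subgroup.centralizer ({a} : Set G) :=
        Subgroup.mem_centralizer_singleton_iff.2 hag.symm.eq
      have hg11 : g ^ 11 = 1 := by
        have h4 : (⟨g, hgm⟩ : ↥(Subgroup.centralizer ({a} : Set G))) ^ 11 = 1 := by
          rw [show (11 : ℕ) = Nat.card ↥(Subgroup.centralizer ({a} : Set G)) from
            (E.cent a (orderOf_eq_prime hpow hne)).symm]
          exact pow_card_eq_one'
        exact congrArg Subtype.val h4
      have hg1 : g = 1 := by
        rcases (Nat.dvd_prime (by norm_num : Nat.Prime 11)).1 (orderOf_dvd_of_pow_eq_one hg11) with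
          e | e
        · exact orderOf_eq_one_iff.1 e
        · exact absurd (dvd_of_eq e.symm) hg
      refine hh (dvd_of_eq ?_)
      have h6 : orderOf w = orderOf h := by
        have e1 : w = k.1 * h * k.1⁻¹ := by
          calc w = g * (k.1 * h * k.1⁻¹) := hw
            _ = 1 * (k.1 * h * k.1⁻¹) := congrArg (· * (k.1 * h * k.1⁻¹)) hg1
            _ = _ := one_mul _
        rw [e1]
        exact (MulAut.conj k.1).orderOf_eq h
      rw [← h6, hw, ← hc, ← hx]
      exact ((MulAut.conj c).orderOf_eq x).symm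
    have h2 : (q.2 : G) = 1 := by rw [hk, h1]; group
    exact Prod.ext (Subtype.ext h1) (Subtype.ext h2)
  obtain ⟨n, hn⟩ := G22Block86.card_dvd_of_free hfree
  exact ⟨n, by rw [hn, Nat.card_prod]⟩

/-- Two involutions do not multiply to an element of order eleven. -/
theorem pair_none (E : Eleven G) {g h x : G} (hx : orderOf x = 11) (hg : orderOf g = 2)
    (hh : orderOf h = 2) : Nat.card {k : G // IsConj x (g * (k * h * k⁻¹))} = 0 := by
  rw [Nat.card_eq_zero]
  refine Or.inl ⟨fun ⟨k, hk⟩ => ?_⟩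
  obtain ⟨c, hc⟩ := isConj_iff.1 hk
  set v := k * h * k⁻¹ with hv
  set y := g * v with hy
  have hg2 : g * g = 1 := by rw [← pow_two, ← hg, pow_orderOf_eq_one]
  have hv2 : v * v = 1 := by
    have : orderOf v = 2 := by rw [hv, ← hh]; exact (MulAut.conj k).orderOf_eq h
    rw [← pow_two, ← this, pow_orderOf_eq_one]
  have hyo : orderOf y = 11 := by rw [← hc, ← hx]; exact (MulAut.conj c).orderOf_eq x
  have hginv : g⁻¹ = g := inv_eq_of_mul_eq_one_right hg2
  have hgn : g ∈ Subgroup.normalizer (Subgroup.zpowers y : Set G) := by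
    rw [Subgroup.mem_normalizer_iff]
    have key : ∀ w ∈ Subgroup.zpowers y, g * w * g⁻¹ ∈ Subgroup.zpowers y := by
      intro w hw
      obtain ⟨i, rfl⟩ := Subgroup.mem_zpowers_iff.1 hw
      rw [← conj_zpow, show g * y * g⁻¹ = y⁻¹ by
        rw [hy, hginv]
        refine (inv_eq_of_mul_eq_one_right ?_).symm
        calc g * v * (g * (g * v) * g) = g * v * (g * g) * v * g := by group
          _ = g * (v * v) * g := by rw [hg2]; group
          _ = 1 := by rw [hv2, mul_one, hg2]]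
      exact zpow_mem (inv_mem (Subgroup.mem_zpowers y)) i
    refine fun w => ⟨key w, fun hw => ?_⟩
    have := key _ hw
    rwa [show g * (g * w * g⁻¹) * g⁻¹ = (g * g) * w * (g * g)⁻¹ by group, hg2, inv_one, mul_one,
      one_mul] at this
  have := orderOf_dvd_natCard (G := ↥(Subgroup.normalizer (Subgroup.zpowers y : Set G))) ⟨g, hgn⟩
  rw [Subgroup.orderOf_mk, hg, E.norm y hyo] at this
  norm_num at this

variable (R : Raw G)

/-- The integer values. -/
noncomputable def iv (g : G) (i : Fin 5) : ℤ :=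
  if h : ∃ z : ℤ, (R.χ i : G → ℂ) g = (z : ℂ) then h.choose else 0

theorem iv_spec {g : G} (hg : ¬ 11 ∣ orderOf g) (i : Fin 5) :
    (R.χ i : G → ℂ) g = (iv R g i : ℂ) := by
  rw [iv, dif_pos (R.int g hg i)]
  exact (R.int g hg i).choose_spec

theorem iv_conj (g h : G) (i : Fin 5) : iv R (h * g * h⁻¹) i = iv R g i := by
  have e : (R.χ i : G → ℂ) (h * g * h⁻¹) = (R.χ i : G → ℂ) g :=
    (ClassAlgebraVal.irr_conj _ (isConj_iff.2 ⟨h, rfl⟩)).symm
  unfold iv
  simp only [e]

theorem one_reg : ¬ 11 ∣ orderOf (1 : G) := by rw [orderOf_one]; norm_num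

theorem pow_reg {g : G} (hg : ¬ 11 ∣ orderOf g) (k : ℕ) : ¬ 11 ∣ orderOf (g ^ k) :=
  fun h => hg (h.trans (orderOf_pow_dvd k))

theorem order_eleven (E : Eleven G) {g : G} (hg : 11 ∣ orderOf g) : orderOf g = 11 := by
  set x := g ^ (orderOf g / 11) with hxd
  have hx : orderOf x = 11 := by
    rw [hxd, orderOf_pow_of_dvd _ (Nat.div_dvd_of_dvd hg), Nat.div_div_self hg (orderOf_pos g).ne']
    exact (Nat.div_pos (Nat.le_of_dvd (orderOf_pos g) hg) (by norm_num)).ne'
  have hm : g ∈ Subgroup.centralizer ({x} : Set G) :=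
    Subgroup.mem_centralizer_singleton_iff.2 ((Commute.refl g).pow_right _).eq
  have h4 : (⟨g, hm⟩ : ↥(Subgroup.centralizer ({x} : Set G))) ^ 11 = 1 := by
    rw [show (11 : ℕ) = Nat.card ↥(Subgroup.centralizer ({x} : Set G)) from (E.cent x hx).symm]
    exact pow_card_eq_one'
  rcases (Nat.dvd_prime (by norm_num : Nat.Prime 11)).1
    (orderOf_dvd_of_pow_eq_one (congrArg Subtype.val h4 : g ^ 11 = 1)) with e | e
  · rw [e] at hg
    norm_num at hg
  · exact e

theorem theta_one : (R.θ : G → ℂ) 1 = ((cmp 4 R.D : ℤ) : ℂ) := by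
  rw [R.agree 1 one_reg, R.deg]

/-- The block as a set of characters. -/
noncomputable def blkSet : Finset (IrrCharacter G) :=
  insert (oneChar G) (insert R.θ (Finset.univ.image R.χ))

theorem sum_blkSet {β : Type*} [AddCommMonoid β] (f : IrrCharacter G → β) :
    ∑ ψ ∈ blkSet R, f ψ = f (oneChar G) + (f R.θ + ∑ i, f (R.χ i)) := by
  rw [blkSet, Finset.sum_insert, Finset.sum_insert, Finset.sum_image fun i _ j _ e => R.inj e]
  · simp only [Finset.mem_image, Finset.mem_univ, true_and, not_exists]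
    exact fun i => R.other i
  · simp only [Finset.mem_insert, Finset.mem_image, Finset.mem_univ, true_and, not_or, not_exists]
    exact ⟨fun e => R.nontrivθ (by rw [← e]; rfl), fun i e => R.nontriv i (by rw [e]; rfl)⟩

theorem outside_zero {ψ : IrrCharacter G} (hψ : ψ ∉ blkSet R) {x : G} (hx : orderOf x = 11) :
    (ψ : G → ℂ) x = 0 := by
  simp only [blkSet, Finset.mem_insert, Finset.mem_image, Finset.mem_univ, true_and, not_or,
    not_exists] at hψ
  exact R.outside ψ (fun e => hψ.1 (Subtype.ext e)) (fun i e => hψ.2.2 i e.symm) hψ.2.1 x hx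

theorem cent_bound {g : G} (hg : ¬ 11 ∣ orderOf g) :
    normSum (mkVec (iv R g)) ≤ (cc g : ℤ) := by
  have h := CharBasicOrth.sum_irr_mul_conj g g
  rw [if_pos (IsConj.refl g)] at h
  have h2 : ∑ ψ : IrrCharacter G, Complex.normSq ((ψ : G → ℂ) g) = (cc g : ℝ) := by
    have e : ((∑ ψ : IrrCharacter G, Complex.normSq ((ψ : G → ℂ) g) : ℝ) : ℂ) = ((cc g : ℝ) : ℂ) := by
      push_cast
      rw [← h]
      exact Finset.sum_congr rfl fun ψ _ => (Complex.mul_conj _).symm
    exact_mod_cast e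
  have h3 : ∑ ψ ∈ blkSet R, Complex.normSq ((ψ : G → ℂ) g) ≤ (cc g : ℝ) := h2 ▸
    Finset.sum_le_sum_of_subset_of_nonneg (Finset.subset_univ _) fun ψ _ _ => Complex.normSq_nonneg _
  rw [sum_blkSet, R.agree g hg] at h3
  simp only [iv_spec R hg, show ((oneChar G : IrrCharacter G) : G → ℂ) g = 1 from rfl,
    Complex.normSq_one, Complex.normSq_intCast] at h3
  have h4 : ((normSum (mkVec (iv R g)) : ℤ) : ℝ) ≤ ((cc g : ℤ) : ℝ) := by
    simp only [normSum, cmp_mkVec]
    push_cast
    simp only [pow_two] at h3 ⊢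
    linarith
  exact_mod_cast h4

theorem cls_dvd {g : G} (hg : ¬ 11 ∣ orderOf g) (i : Fin 5) :
    cmp i R.D ∣ ((95040 / cc g : ℕ) : ℤ) * iv R g i := by
  have hint := ClassAlgebraOmega.isIntegral_centralChar (R.χ i).2 g
  rw [centralChar, iv_spec R hg, R.deg] at hint
  have hidx : (Subgroup.centralizer ({g} : Set G)).index = 95040 / cc g := by
    rw [← R.eleven.card, ← (Subgroup.centralizer ({g} : Set G)).index_mul_card]
    exact (Nat.mul_div_cancel _ Nat.card_pos).symm
  rw [hidx] at hint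
  set N : ℤ := ((95040 / cc g : ℕ) : ℤ) * iv R g i with hN
  have hd0 := (rows_facts _ R.row i).2.1
  have hq : IsIntegral ℤ ((N : ℚ) / (cmp i R.D : ℚ)) := by
    rw [← isIntegral_algebraMap_iff (FaithfulSMul.algebraMap_injective ℚ ℂ)]
    convert hint using 1
    rw [hN, map_div₀, map_intCast, map_intCast, Int.cast_mul, Int.cast_natCast]
  obtain ⟨k, hk⟩ := IsIntegrallyClosed.isIntegral_iff.1 hq
  refine ⟨k, ?_⟩
  have : (cmp i R.D : ℚ) * (k : ℚ) = (N : ℚ) := by
    rw [show (k : ℚ) = (N : ℚ) / (cmp i R.D : ℚ) from hk, mul_div_cancel₀]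
    exact_mod_cast hd0.ne'
  exact_mod_cast this.symm

theorem congr_mul {g h : G} {p : ℕ} (hp : p.Prime) (hp11 : p ≠ 11) (hg : ¬ 11 ∣ orderOf g)
    (hgh : Commute g h) (hh : ∃ k : ℕ, orderOf h = p ^ k) (i : Fin 5) :
    iv R (g * h) i ≡ iv R g i [ZMOD p] := by
  obtain ⟨k, hk⟩ := hh
  have hh11 : ¬ 11 ∣ orderOf h := by
    rw [hk]
    exact fun e => hp11 ((Nat.prime_dvd_prime_iff_eq (by norm_num) hp).1
      ((by norm_num : Nat.Prime 11).dvd_of_dvd_pow e)).symm
  have hgh11 : ¬ 11 ∣ orderOf (g * h) := fun e => by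
    rcases (by norm_num : Nat.Prime 11).dvd_mul.1
      (e.trans (hgh.orderOf_mul_dvd_lcm.trans (Nat.lcm_dvd_mul _ _))) with e1 | e1
    · exact hg e1
    · exact hh11 e1
  have step : ∀ x : G, ¬ 11 ∣ orderOf x → ∀ m : ℕ, iv R (x ^ p ^ m) i ≡ iv R x i [ZMOD p] := by
    intro x hx m
    induction m with
    | zero => simp
    | succ m ih =>
      refine Int.ModEq.trans ?_ ih
      refine pow_congr hp (CharBasic.isCharacter_of_isIrrCharacter (R.χ i).2)
        (iv_spec R (pow_reg hx _) i) ?_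
      rw [← pow_mul, ← pow_succ]
      exact iv_spec R (pow_reg hx _) i
  have e : (g * h) ^ p ^ k = g ^ p ^ k := by
    rw [hgh.mul_pow, ← hk, pow_orderOf_eq_one, mul_one]
  exact (step _ hgh11 k).symm.trans (e ▸ step g hg k)

theorem invol_four {g : G} (hg : orderOf g = 2) (i : Fin 5) :
    (4 : ℤ) ∣ cmp i R.D - iv R g i := by
  haveI := R.eleven.simple
  have hnc : ¬ IsMulCommutative G := by
    intro hc
    letI : CommGroup G :=
      { (inferInstance : Group G) with mul_comm := fun a b => hc.is_comm.comm a b }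
    have hp : (Nat.card G).Prime := IsSimpleGroup.prime_card
    rw [R.eleven.card] at hp
    norm_num at hp
  have hg11 : ¬ 11 ∣ orderOf g := by rw [hg]; norm_num
  have hd0 := (rows_facts _ R.row i).2.1
  obtain ⟨a, ha, h4⟩ := Simple720.exists_invol_value (Simple720.commutator_eq_top hnc)
    (CharBasic.isCharacter_of_isIrrCharacter (R.χ i).2) (d := (cmp i R.D).toNat) (by
      rw [R.deg, ← Int.cast_natCast, Int.toNat_of_nonneg hd0.le]) hg
  rw [iv_spec R hg11] at ha
  rw [Int.toNat_of_nonneg hd0.le] at h4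
  rwa [show iv R g i = a by exact_mod_cast ha]

theorem pairSum_eq {g h x : G} (hg : ¬ 11 ∣ orderOf g) (hh : ¬ 11 ∣ orderOf h)
    (hx : orderOf x = 11) :
    pairSum R.D R.σ (mkVec (iv R g)) (mkVec (iv R h)) =
      11 * (Nat.card {k : G // IsConj x (g * (k * h * k⁻¹))} : ℤ) := by
  have htr := ClassAlgebraVal.sum_irr_triple g h x
  rw [← Finset.sum_subset (Finset.subset_univ (blkSet R)) (fun ψ _ hψ => by
    rw [outside_zero R hψ hx, map_zero, mul_zero, zero_div]), sum_blkSet, R.eleven.card] at htr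
  have hcc : Nat.card ↥(Subgroup.centralizer ({x} : Set G)) = 11 := R.eleven.cent x hx
  rw [hcc] at htr
  have hθ : conj ((R.θ : G → ℂ) x) = ((cmp 4 R.σ : ℤ) : ℂ) - conj ((R.χ 4 : G → ℂ) x) := by
    have := congrArg (starRingEnd ℂ) (R.excEleven x hx)
    rw [map_add, map_intCast] at this
    rw [← this]; ring
  rw [R.agree g hg, R.agree h hh, theta_one, hθ] at htr
  simp only [show ∀ y : G, ((oneChar G : IrrCharacter G) : G → ℂ) y = 1 from fun _ => rfl, map_one,
    iv_spec R hg, iv_spec R hh, R.deg, Fin.sum_univ_five] at htr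
  rw [R.atEleven x hx 0 (by decide), R.atEleven x hx 1 (by decide), R.atEleven x hx 2 (by decide),
    R.atEleven x hx 3 (by decide), map_intCast, map_intCast, map_intCast, map_intCast] at htr
  have hq : ∀ i : Fin 5, (((95040 : ℤ) / cmp i R.D : ℤ) : ℂ) = 95040 / ((cmp i R.D : ℤ) : ℂ) := by
    intro i
    obtain ⟨h1, h2, -⟩ := rows_facts _ R.row i
    rw [Int.cast_div h1 (by exact_mod_cast h2.ne')]
    norm_num
  refine Int.cast_injective (α := ℂ) ?_
  simp only [pairSum, cmp_mkVec, Fin.sum_univ_five]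
  push_cast
  rw [hq 0, hq 1, hq 2, hq 3, hq 4]
  push_cast at htr
  linear_combination (95040 : ℂ) * htr

theorem count_exists {g h : G} (hg : ¬ 11 ∣ orderOf g) (hh : ¬ 11 ∣ orderOf h) :
    ∃ a : ℕ, (a : ℤ) * cc g * cc h = pairSum R.D R.σ (mkVec (iv R g)) (mkVec (iv R h)) := by
  haveI : Fact (Nat.Prime 11) := ⟨by norm_num⟩
  obtain ⟨x, hx⟩ := exists_prime_orderOf_dvd_card' 11 (G := G) (by rw [R.eleven.card]; norm_num)
  obtain ⟨n, hn⟩ := pair_count R.eleven hx hg hh
  refine ⟨11 * n, ?_⟩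
  rw [pairSum_eq R hg hh hx, hn]
  push_cast
  ring

theorem invs_zero {g h : G} (hg : orderOf g = 2) (hh : orderOf h = 2) :
    pairSum R.D R.σ (mkVec (iv R g)) (mkVec (iv R h)) = 0 := by
  haveI : Fact (Nat.Prime 11) := ⟨by norm_num⟩
  obtain ⟨x, hx⟩ := exists_prime_orderOf_dvd_card' 11 (G := G) (by rw [R.eleven.card]; norm_num)
  rw [pairSum_eq R (by rw [hg]; norm_num) (by rw [hh]; norm_num) hx, pair_none R.eleven hx hg hh]
  norm_num

/-- The elements of order prime to eleven. -/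
noncomputable abbrev regSet (G : Type u) [Group G] [Fintype G] : Finset G :=
  Finset.univ.filter fun g : G => ¬ 11 ∣ orderOf g

/-- The elements of order eleven. -/
noncomputable abbrev elvSet (G : Type u) [Group G] [Fintype G] : Finset G :=
  Finset.univ.filter fun g : G => ¬ ¬ 11 ∣ orderOf g

theorem elv_order (E : Eleven G) {g : G} (hg : g ∈ elvSet G) : orderOf g = 11 :=
  order_eleven E (not_not.1 (Finset.mem_filter.1 hg).2)

theorem sum_split {β : Type*} [AddCommMonoid β] (f : G → β) :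
    ∑ g, f g = ∑ g ∈ regSet G, f g + ∑ g ∈ elvSet G, f g :=
  (Finset.sum_filter_add_sum_filter_not Finset.univ _ f).symm

theorem sum_chi (ψ : IrrCharacter G) (h : (ψ : G → ℂ) ≠ fun _ => 1) :
    ∑ g : G, (ψ : G → ℂ) g = 0 := by
  have h1 := CharBasicOrth.classInner_irr_ne ψ.2 (oneChar G).2 h
  have h2 := CharBasicOrth.card_mul_classInner (ψ : G → ℂ) (oneChar G : G → ℂ)
  rw [h1, mul_zero] at h2
  rw [h2]
  exact Finset.sum_congr rfl fun g _ => by
    rw [show ((oneChar G : IrrCharacter G) : G → ℂ) g = 1 from rfl, map_one, mul_one]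

theorem sum_reg (i : Fin 5) (hi : i ≠ 4) :
    ∑ g ∈ regSet G, iv R g i = -((elvSet G).card : ℤ) * cmp i R.σ := by
  have h := sum_chi (R.χ i) (R.nontriv i)
  rw [sum_split, Finset.sum_congr rfl fun g hg => iv_spec R (Finset.mem_filter.1 hg).2 i,
    Finset.sum_congr rfl fun g hg => R.atEleven g (elv_order R.eleven hg) i hi, Finset.sum_const,
    nsmul_eq_mul] at h
  have h' : ((∑ g ∈ regSet G, iv R g i + ((elvSet G).card : ℤ) * cmp i R.σ : ℤ) : ℂ) = 0 := by
    push_cast; exact h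
  have : ∑ g ∈ regSet G, iv R g i + ((elvSet G).card : ℤ) * cmp i R.σ = 0 := by exact_mod_cast h'
  linarith

theorem sum_reg_four :
    2 * ∑ g ∈ regSet G, iv R g 4 = -((elvSet G).card : ℤ) * cmp 4 R.σ := by
  have h : ∑ g : G, ((R.χ 4 : G → ℂ) g + (R.θ : G → ℂ) g) = 0 := by
    rw [Finset.sum_add_distrib, sum_chi _ (R.nontriv 4), sum_chi _ R.nontrivθ, add_zero]
  rw [sum_split, Finset.sum_congr rfl fun g hg => show (R.χ 4 : G → ℂ) g + (R.θ : G → ℂ) g =
      ((2 * iv R g 4 : ℤ) : ℂ) by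
        rw [R.agree g (Finset.mem_filter.1 hg).2, iv_spec R (Finset.mem_filter.1 hg).2]
        push_cast; ring,
    Finset.sum_congr rfl fun g hg => R.excEleven g (elv_order R.eleven hg), Finset.sum_const,
    nsmul_eq_mul] at h
  have h' : ((∑ g ∈ regSet G, 2 * iv R g 4 + ((elvSet G).card : ℤ) * cmp 4 R.σ : ℤ) : ℂ) = 0 := by
    push_cast at h ⊢; exact h
  have : ∑ g ∈ regSet G, 2 * iv R g 4 + ((elvSet G).card : ℤ) * cmp 4 R.σ = 0 := by
    exact_mod_cast h'
  rw [Finset.mul_sum]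
  linarith

theorem rel_sum {g : G} (hg : ¬ 11 ∣ orderOf g) :
    1 + ∑ i : Fin 5, cmp i R.σ * iv R g i = 0 := by
  have h := R.rel g hg
  simp only [iv_spec R hg] at h
  have h' : ((1 + ∑ i : Fin 5, cmp i R.σ * iv R g i : ℤ) : ℂ) = 0 := by push_cast; exact h
  exact_mod_cast h'

include R in
theorem counts : (regSet G).card = 77760 ∧ (elvSet G).card = 17280 := by
  have hsplit : (regSet G).card + (elvSet G).card = 95040 := by
    rw [← R.eleven.card, Nat.card_eq_fintype_card, Finset.card_filter_add_card_filter_not,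
      Finset.card_univ]
  have h0 : ∑ g ∈ regSet G, (1 + ∑ i : Fin 5, cmp i R.σ * iv R g i) = 0 :=
    Finset.sum_eq_zero fun g hg => rel_sum R (Finset.mem_filter.1 hg).2
  rw [Finset.sum_add_distrib, Finset.sum_const, nsmul_eq_mul, mul_one, Finset.sum_comm,
    Fin.sum_univ_five] at h0
  simp only [← Finset.mul_sum] at h0
  rw [sum_reg R 0 (by decide), sum_reg R 1 (by decide), sum_reg R 2 (by decide),
    sum_reg R 3 (by decide)] at h0
  have h4 := sum_reg_four R
  have s : ∀ i, cmp i R.σ * cmp i R.σ = 1 := fun i => (rows_facts _ R.row i).2.2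
  have key : 2 * ((regSet G).card : ℤ) = 9 * ((elvSet G).card : ℤ) := by
    linear_combination 2 * h0 - cmp 4 R.σ * h4 + 2 * ((elvSet G).card : ℤ) * s 0 +
      2 * ((elvSet G).card : ℤ) * s 1 + 2 * ((elvSet G).card : ℤ) * s 2 +
      2 * ((elvSet G).card : ℤ) * s 3 + ((elvSet G).card : ℤ) * s 4
  omega

theorem sum_pair (i j : Fin 5) (hi : i ≠ 4) (hj : j ≠ 4) :
    ∑ g ∈ regSet G, iv R g i * iv R g j =
      (if i = j then 95040 else 0) - 17280 * (cmp i R.σ * cmp j R.σ) := by
  have h : ∑ g : G, (R.χ i : G → ℂ) g * conj ((R.χ j : G → ℂ) g) =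
      if i = j then (95040 : ℂ) else 0 := by
    rw [← CharBasicOrth.card_mul_classInner, CharBasicOrth.classInner_irrCharacter, R.eleven.card]
    by_cases hij : i = j
    · simp [hij]
    · rw [if_neg fun e => hij (R.inj e), if_neg hij, mul_zero]
  rw [sum_split, Finset.sum_congr rfl fun g hg => show
      (R.χ i : G → ℂ) g * conj ((R.χ j : G → ℂ) g) = ((iv R g i * iv R g j : ℤ) : ℂ) by
        rw [iv_spec R (Finset.mem_filter.1 hg).2, iv_spec R (Finset.mem_filter.1 hg).2, map_intCast]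
        push_cast; rfl,
    Finset.sum_congr rfl fun g hg => show
      (R.χ i : G → ℂ) g * conj ((R.χ j : G → ℂ) g) = ((cmp i R.σ * cmp j R.σ : ℤ) : ℂ) by
        rw [R.atEleven g (elv_order R.eleven hg) i hi, R.atEleven g (elv_order R.eleven hg) j hj,
          map_intCast]
        push_cast; rfl,
    Finset.sum_const, nsmul_eq_mul, (counts R).2] at h
  have h' : ((∑ g ∈ regSet G, iv R g i * iv R g j + 17280 * (cmp i R.σ * cmp j R.σ) : ℤ) : ℂ) =
      (((if i = j then 95040 else 0 : ℤ)) : ℂ) := by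
    push_cast at h ⊢
    exact h
  have := Int.cast_injective h'
  linarith

theorem sum_squares (i : Fin 5) (hi : i ≠ 4) : ∃ ν : ℤ, -1 ≤ ν ∧ ν ≤ 1 ∧
    ∑ g ∈ regSet G, iv R (g * g) i + 17280 * cmp i R.σ = ν * 95040 := by
  obtain ⟨ν, hν1, hν2, hν⟩ : ∃ ν : ℤ, -1 ≤ ν ∧ ν ≤ 1 ∧
      FSIndicatorSum.nu (R.χ i : G → ℂ) = (ν : ℂ) := by
    by_cases h0 : FSIndicatorSum.nu (R.χ i : G → ℂ) = 0
    · exact ⟨0, by norm_num, by norm_num, by rw [h0]; norm_num⟩
    · rcases (FSBound.nu_eq_zero_or _ h0).1 with e | e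
      · exact ⟨1, by norm_num, le_rfl, by rw [e]; norm_num⟩
      · exact ⟨-1, le_rfl, by norm_num, by rw [e]; norm_num⟩
  refine ⟨ν, hν1, hν2, ?_⟩
  have h : ∑ g : G, (R.χ i : G → ℂ) (g * g) = (ν : ℂ) * 95040 := by
    rw [← hν, FSIndicatorSum.nu, R.eleven.card]
    field_simp
    push_cast
    ring
  rw [sum_split, Finset.sum_congr rfl fun g hg => iv_spec R
      (by rw [← pow_two]; exact pow_reg (Finset.mem_filter.1 hg).2 2) i,
    Finset.sum_congr rfl fun g hg => R.atEleven (g * g)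
      (by
        have e := elv_order R.eleven hg
        rw [← pow_two, orderOf_pow, e]
        norm_num) i hi,
    Finset.sum_const, nsmul_eq_mul, (counts R).2] at h
  have h' : ((∑ g ∈ regSet G, iv R (g * g) i + 17280 * cmp i R.σ : ℤ) : ℂ) =
      ((ν * 95040 : ℤ) : ℂ) := by
    push_cast at h ⊢
    exact h
  exact Int.cast_injective h'

end BlkAux

open BlkAux in
/-- The integer data of the principal 11-block. -/
theorem exists_blk {G : Type*} [Group G] [Fintype G] (R : Raw G) :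
    ∃ B : Blk G, B.D = R.D ∧ B.σ = R.σ := by
  refine ⟨{
    D := R.D
    σ := R.σ
    val := fun g => mkVec (iv R g)
    eleven := R.eleven
    row := R.row
    one := ?_
    «conj» := fun g h => by congr 1; exact funext fun i => iv_conj R g h i
    rel := fun g hg => ?_
    cent := fun g hg => cent_bound R hg
    cls := fun g hg i => by rw [cmp_mkVec]; exact cls_dvd R hg i
    congr := fun g h p hp hp11 hg hgh hh i => by
      simp only [cmp_mkVec]; exact congr_mul R hp hp11 hg hgh hh i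
    eig := fun g p hp hp11 hg i => ?_
    four := fun g hg i => by rw [cmp_mkVec]; exact invol_four R hg i
    count := fun g h hg hh => count_exists R hg hh
    invs := fun g h hg hh => invs_zero R hg hh
    total := ?_
    moment1 := fun i hi => ?_
    moment2 := fun i j hi hj => ?_
    squares := fun i hi => ?_ }, rfl, rfl⟩
  · rw [← mkVec_cmp R.D]
    congr 1
    funext i
    have h := iv_spec R (one_reg (G := G)) i
    rw [R.deg] at h
    exact (Int.cast_injective h).symm
  · show relSum R.σ (mkVec (iv R g)) = 0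
    simp only [relSum, cmp_mkVec]
    exact rel_sum R hg
  · simp only [cmp_mkVec]
    have h11 : ¬ 11 ∣ orderOf g := fun e => by
      rw [hg] at e
      exact hp11 ((Nat.prime_dvd_prime_iff_eq (by norm_num) hp).1 e).symm
    exact eig_one hp (CharBasic.isCharacter_of_isIrrCharacter (R.χ i).2) hg (iv_spec R h11 i)
      (R.deg i)
  · rw [Nat.card_eq_fintype_card, Fintype.card_subtype]
    convert (counts R).1
  · simp only [cmp_mkVec]
    have := sum_reg R i hi
    rw [(counts R).2] at this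
    convert this using 1
    push_cast
    ring
  · simp only [cmp_mkVec]
    exact sum_pair R i j hi hj
  · simp only [cmp_mkVec]
    exact sum_squares R i hi

end Cfsg.Agent.M12Ord40
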