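import Cfsg.Agent.Lib.Unit62Code55

/-!
# The coordinates of a maximal commuting set of type M(22)

The twenty-two members are the twenty-one points of a plane over four elements and one further member;
the relations are the lines with the further member and two ovals with the base triangle. Ten members
give coordinates for all of them.
-/

set_option autoImplicit false

namespace Cfsg.Agent.M22BlockCode72

open Cfsg.Agent.Unit62Code55

/-- The relations as sets of members. -/
def rels : List ℕ :=
  [2097211, 2097605, 3215873, 2499585, 2672641, 2100742, 2396226, 2695298, 3293442, 2125836, 2326548,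
    3932196, 2753096, 3179656, 2427144, 3156048, 2376336, 2626832, 2180192, 2234528, 2138912,
    659463, 3186695]

/-- The ten members giving the coordinates. -/
def gen : Fin 10 → Fin 22 := ![0, 1, 2, 3, 4, 6, 7, 9, 10, 21]

/-- The coordinates of the members. -/
def mv : Fin 22 → ℕ :=
  ![1, 2, 4, 8, 16, 539, 32, 64, 613, 128, 256, 902, 687, 335, 492, 945, 215, 370, 828, 986, 249, 512]

/-- The relations expressing a member. -/
def comb : Fin 22 → ℕ :=
  ![0, 0, 0, 0, 0, 1, 0, 0, 2, 0, 0, 32, 2097784, 4194996, 6292172, 4195404, 6292612, 2098376, 6293108,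
    2098864, 4196088, 0]

/-- The member set of coordinates `n`. -/
def gmask (n : ℕ) : ℕ :=
  ((List.finRange 10).map fun k : Fin 10 => if n.testBit (k : ℕ) then 2 ^ ((gen k : Fin 22) : ℕ) else 0).foldl
    (fun a k => a ^^^ k) 0

/-- The symmetric difference of chosen relations. -/
def relSum (c : ℕ) : ℕ :=
  (((List.range 23).filter fun k => c.testBit k).map fun k => rels.getD k 0).foldl
    (fun a k => a ^^^ k) 0

theorem member_rel : ∀ i : Fin 22, 2 ^ (i : ℕ) ^^^ gmask (mv i) = relSum (comb i) := by
  decide +kernel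

theorem mv_lt : ∀ i : Fin 22, mv i < 1024 := by decide +kernel

theorem mv_gen : ∀ k : Fin 10, mv (gen k) = 2 ^ (k : ℕ) := by decide +kernel

/-- The point part of a set of members, as a code. -/
def psum (r : ℕ) : ℕ :=
  ((List.finRange 21).filter fun i : Fin 21 => r.testBit i).foldl (fun a i => a ^^^ pc i) 0

theorem rels_code : ∀ r ∈ rels, psum r = 0 := by decide +kernel

/-- The lines. -/
def line : Fin 21 → Fin 5 → Fin 21 :=
  ![![0, 1, 3, 4, 5],
    ![0, 2, 6, 7, 8],
    ![0, 9, 12, 16, 20],
    ![0, 10, 13, 17, 18],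
    ![0, 11, 14, 15, 19],
    ![1, 2, 9, 10, 11],
    ![1, 6, 12, 15, 18],
    ![1, 7, 13, 16, 19],
    ![1, 8, 14, 17, 20],
    ![2, 3, 12, 13, 14],
    ![2, 4, 15, 16, 17],
    ![2, 5, 18, 19, 20],
    ![3, 6, 9, 17, 19],
    ![3, 7, 10, 15, 20],
    ![3, 8, 11, 16, 18],
    ![4, 6, 11, 13, 20],
    ![4, 7, 9, 14, 18],
    ![4, 8, 10, 12, 19],
    ![5, 6, 10, 14, 16],
    ![5, 7, 11, 12, 17],
    ![5, 8, 9, 13, 15]]

theorem line_rel : ∀ k : Fin 21, rels.getD k 0 =
    2 ^ 21 ^^^ 2 ^ ((line k 0 : Fin 21) : ℕ) ^^^ 2 ^ ((line k 1 : Fin 21) : ℕ) ^^^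
      2 ^ ((line k 2 : Fin 21) : ℕ) ^^^ 2 ^ ((line k 3 : Fin 21) : ℕ) ^^^
      2 ^ ((line k 4 : Fin 21) : ℕ) := by
  decide +kernel

theorem line_inj : ∀ k : Fin 21, ∀ s t : Fin 5, line k s = line k t → s = t := by decide +kernel

theorem line_code : ∀ k : Fin 21,
    pc (line k 0) ^^^ pc (line k 1) ^^^ pc (line k 2) ^^^ pc (line k 3) ^^^ pc (line k 4) = 0 := by
  decide +kernel

theorem oval_rel :
    rels.getD 21 0 = 2 ^ 12 ^^^ 2 ^ 17 ^^^ 2 ^ 19 ^^^ 2 ^ 0 ^^^ 2 ^ 1 ^^^ 2 ^ 2 ∧
    rels.getD 22 0 = 2 ^ 13 ^^^ 2 ^ 15 ^^^ 2 ^ 20 ^^^ 2 ^ 0 ^^^ 2 ^ 1 ^^^ 2 ^ 2 ^^^ 2 ^ 21 := by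
  decide +kernel

theorem rels_length : rels.length = 23 := rfl

/-- The coordinates of the pairs, as one number. -/
def two : ℕ :=
  ((List.finRange 22).flatMap fun i => (List.finRange 22).filterMap fun j =>
    if i < j then some (mv i ^^^ mv j) else none).foldl (fun a n => a ||| 2 ^ n) 0

/-- The coordinates of the triples, as one number. -/
def three : ℕ :=
  ((List.finRange 22).flatMap fun i => (List.finRange 22).flatMap fun j =>
    (List.finRange 22).filterMap fun k =>
      if i < j ∧ j < k then some (mv i ^^^ mv j ^^^ mv k) else none).foldl (fun a n => a ||| 2 ^ n) 0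

/-- The coordinates of the members, as one number. -/
def single : ℕ := ((List.finRange 22).map mv).foldl (fun a n => a ||| 2 ^ n) 0

theorem count_single : ((List.range 1024).filter fun n => single.testBit n).length = 22 := by
  decide +kernel

theorem count_two : ((List.range 1024).filter fun n => two.testBit n).length = 231 := by
  decide +kernel

theorem count_three : ((List.range 1024).filter fun n => three.testBit n).length = 770 := by
  decide +kernel

theorem cover : ∀ n : Fin 1024, (n : ℕ) ≠ 0 →
    single.testBit n = true ∨ two.testBit n = true ∨ three.testBit n = true := by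
  decide +kernel

theorem disjoint_classes : single &&& two = 0 ∧ single &&& three = 0 ∧ two &&& three = 0 ∧
    single.testBit 0 = false ∧ two.testBit 0 = false ∧ three.testBit 0 = false := by
  decide +kernel

theorem single_small : ∀ n ∈ (List.finRange 22).map mv, n < 1024 := by decide +kernel

theorem pair_inj : ∀ i j : Fin 22, i < j → ∀ k l : Fin 22, k < l →
    mv i ^^^ mv j = mv k ^^^ mv l → i = k ∧ j = l := by
  decide +kernel

end Cfsg.Agent.M22BlockCode72
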