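import Mathlib
import Cfsg.Prelude.Def_Transfer
import Cfsg.Agent.Lib.SignalizerCoprime

/-!
# The abelian subgroup of order 64 is strongly closed

`Cfg S A` records the local facts about a Sylow 2-subgroup of the type of `P/Z(P)` (`P` a Sylow
2-subgroup of M24); `sc` derives strong closure of `A`.
-/

set_option autoImplicit false

namespace Cfsg.Agent.M24SylowClosure20

open Cfsg

variable {G : Type*} [Group G]

/-- centraliser of an element in `A` -/
abbrev cA (A : Subgroup G) (y : G) : Subgroup G := A ⊓ Subgroup.centralizer ({y} : Set G)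

/-- the local facts -/
structure Cfg (S : Sylow 2 G) (A : Subgroup G) : Prop where
  le : A ≤ (S : Subgroup G)
  el : Cfsg.IsElementaryAbelian 2 A
  card : Nat.card A = 64
  uniq : ∀ B : Subgroup G, B ≤ (S : Subgroup G) → IsMulCommutative ↥B → Nat.card ↥B = 64 → B = A
  c1 : ∀ y ∈ (S : Subgroup G), y ∉ A → y * y ∈ A → Nat.card (cA A y) = 16
  c2 : ∀ y ∈ (S : Subgroup G), ∀ z ∈ (S : Subgroup G), y ∉ A → z ∉ A → y * z ∉ A → y * y ∈ A →
    z * z ∈ A → y * z * (y * z) ∈ A → Nat.card ↥(cA A y ⊓ cA A z) = 8 ∧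
      ∀ a ∈ A, (a * y * a⁻¹ * y⁻¹) * z = z * (a * y * a⁻¹ * y⁻¹)
  c3 : ∀ y ∈ (S : Subgroup G), y * y ∉ A → Nat.card (cA A y) ≤ 4
  c4 : ∀ y ∈ (S : Subgroup G), ∀ z ∈ (S : Subgroup G), ∀ e ∈ (S : Subgroup G), y ∉ A → z ∉ A →
    y * z ∉ A → y * y ∈ A → z * z ∈ A → y * z * (y * z) ∈ A → e * e ∈ A → y * e * (y * e) ∈ A →
    z * e * (z * e) ∈ A → e ∈ A ∨ y * e ∈ A ∨ z * e ∈ A ∨ y * z * e ∈ A

variable [Finite G] {S : Sylow 2 G} {A : Subgroup G}

theorem Cfg.comm (h : Cfg S A) {a b : G} (ha : a ∈ A) (hb : b ∈ A) : a * b = b * a :=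
  congrArg Subtype.val (h.el.1.is_comm.comm ⟨a, ha⟩ ⟨b, hb⟩)

theorem Cfg.sq (h : Cfg S A) {a : G} (ha : a ∈ A) : a * a = 1 := by rw [← pow_two]; exact h.el.2 a ha

theorem Cfg.inv_eq (h : Cfg S A) {a : G} (ha : a ∈ A) : a⁻¹ = a := inv_eq_of_mul_eq_one_right (h.sq ha)

theorem Cfg.conj_eq (h : Cfg S A) {g : G} (hg : ∀ a ∈ A, g * a * g⁻¹ ∈ (S : Subgroup G)) :
    A.map (MulAut.conj g).toMonoidHom = A := by
  refine h.uniq _ ?_ ⟨⟨fun x y => Subtype.ext ?_⟩⟩ ?_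
  · rintro _ ⟨a, ha, rfl⟩; simpa using hg a ha
  · obtain ⟨a, ha, hx⟩ := x.2
    obtain ⟨b, hb, hy⟩ := y.2
    show (x : G) * y = y * x
    rw [← hx, ← hy, ← map_mul, ← map_mul, h.comm ha hb]
  · rw [Subgroup.card_map_of_injective (MulAut.conj g).injective, h.card]

/-- a 2-group containing `A` can be moved into `S` by an element normalising `A` -/
theorem Cfg.transfer (h : Cfg S A) {Q : Subgroup G} (hQ : IsPGroup 2 Q) (hA : A ≤ Q) :
    ∃ n ∈ Subgroup.normalizer (A : Set G), ∀ q ∈ Q, n * q * n⁻¹ ∈ (S : Subgroup G) := by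
  haveI : Fact (Nat.Prime 2) := ⟨Nat.prime_two⟩
  obtain ⟨R, hR⟩ := hQ.exists_le_sylow
  obtain ⟨n, hn⟩ := MulAction.exists_smul_eq G R S
  have hq : ∀ q ∈ Q, n * q * n⁻¹ ∈ (S : Subgroup G) := fun q hq => by
    rw [← hn, Sylow.coe_subgroup_smul]; exact ⟨q, hR hq, by simp⟩
  exact ⟨n, Subgroup.mem_normalizer_iff_map_conj_eq.2 (h.conj_eq fun a ha => hq a (hA ha)), hq⟩

theorem Cfg.mem_normalizer (h : Cfg S A) {Q : Subgroup G} (hQ : IsPGroup 2 Q) (hA : A ≤ Q) {g : G}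
    (hg : ∀ a ∈ A, g * a * g⁻¹ ∈ Q) : g ∈ Subgroup.normalizer (A : Set G) := by
  obtain ⟨n, hn, hQS⟩ := h.transfer hQ hA
  have : n * g ∈ Subgroup.normalizer (A : Set G) := by
    refine Subgroup.mem_normalizer_iff_map_conj_eq.2 (h.conj_eq fun a ha => ?_)
    rw [show n * g * a * (n * g)⁻¹ = n * (g * a * g⁻¹) * n⁻¹ by group]
    exact hQS _ (hg a ha)
  have := mul_mem (inv_mem hn) this
  rwa [inv_mul_cancel_left] at this

/-- two conjugates of `A` in a subgroup are conjugate there -/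
theorem Cfg.exists_conj_le (h : Cfg S A) {H : Subgroup G} (hAH : A ≤ H) {g : G}
    (hg : ∀ a ∈ A, g * a * g⁻¹ ∈ H) : ∃ x ∈ H, x * g ∈ Subgroup.normalizer (A : Set G) := by
  haveI : Fact (Nat.Prime 2) := ⟨Nat.prime_two⟩
  have hAp : IsPGroup 2 A := fun a => ⟨1, Subtype.ext (by simpa using h.el.2 a.1 a.2)⟩
  let B := A.map (MulAut.conj g).toMonoidHom
  obtain ⟨P, hP⟩ := (hAp.comap_of_injective H.subtype H.subtype_injective).exists_le_sylow
  obtain ⟨Q, hQ⟩ := ((hAp.map (MulAut.conj g).toMonoidHom).comap_of_injective H.subtype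
    H.subtype_injective).exists_le_sylow (p := 2) (P := B.comap H.subtype)
  obtain ⟨x, hx⟩ := MulAction.exists_smul_eq H Q P
  refine ⟨x.1, x.2, h.mem_normalizer (P.isPGroup'.map H.subtype)
    (fun a ha => ⟨⟨a, hAH ha⟩, hP (show H.subtype ⟨a, hAH ha⟩ ∈ A from ha), rfl⟩) fun a ha => ?_⟩
  have hmem : (⟨g * a * g⁻¹, hg a ha⟩ : H) ∈ (Q : Subgroup H) :=
    hQ (show g * a * g⁻¹ ∈ B from ⟨a, ha, by simp⟩)
  refine ⟨x * ⟨g * a * g⁻¹, hg a ha⟩ * x⁻¹, ?_, ?_⟩
  · rw [← hx, Sylow.coe_subgroup_smul]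
    exact ⟨_, hmem, by simp⟩
  · simp [mul_assoc]

theorem mem_cA {y a : G} : a ∈ cA A y ↔ a ∈ A ∧ a * y = y * a := by
  rw [Subgroup.mem_inf, Subgroup.mem_centralizer_singleton_iff]

/-- An elementary abelian subgroup of order 32 in `S` is normalised by `A`. -/
theorem Cfg.normalized (h : Cfg S A) {E : Subgroup G} (hE : E ≤ (S : Subgroup G))
    (hEel : Cfsg.IsElementaryAbelian 2 E) (hE32 : Nat.card E = 32) :
    ∀ a ∈ A, ∀ e ∈ E, a * e * a⁻¹ ∈ E := by
  have hc : ∀ x ∈ E, ∀ y ∈ E, x * y = y * x := fun x hx y hy =>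
    congrArg Subtype.val (hEel.1.is_comm.comm ⟨x, hx⟩ ⟨y, hy⟩)
  have hs : ∀ x ∈ E, x * x = 1 := fun x hx => by rw [← pow_two]; exact hEel.2 x hx
  have hsA : ∀ x ∈ E, x * x ∈ A := fun x hx => by rw [hs x hx]; exact one_mem _
  set F := E ⊓ A
  set CE := A ⊓ Subgroup.centralizer (E : Set G)
  have hFC : F ≤ CE := fun f hf => Subgroup.mem_inf.2 ⟨(Subgroup.mem_inf.1 hf).2,
    fun x hx => hc x hx f (Subgroup.mem_inf.1 hf).1⟩
  -- every commutator with `A` centralises `E`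
  have hcomm : ∀ a ∈ A, ∀ e ∈ E, e ∉ A → a * e * a⁻¹ * e⁻¹ ∈ CE := by
    intro a ha e he heA
    have hu : a * e * a⁻¹ * e⁻¹ ∈ A := by
      have hn : e ∈ Subgroup.normalizer (A : Set G) := h.mem_normalizer S.isPGroup' h.le fun b hb =>
        mul_mem (mul_mem (hE he) (h.le hb)) (inv_mem (hE he))
      rw [mul_assoc, mul_assoc, ← mul_assoc e]
      exact mul_mem ha ((Subgroup.mem_normalizer_iff.1 hn _).1 (inv_mem ha))
    have hue : a * e * a⁻¹ * e⁻¹ * e = e * (a * e * a⁻¹ * e⁻¹) := by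
      have h1 := h.sq hu
      calc a * e * a⁻¹ * e⁻¹ * e = (a * e * a⁻¹ * e⁻¹)⁻¹ * e := by
            rw [inv_eq_of_mul_eq_one_right h1]
        _ = e * (a * e⁻¹ * a⁻¹) * e := by group
        _ = e * (a * e * a⁻¹ * e⁻¹) := by
            rw [inv_eq_of_mul_eq_one_right (hs e he)]; group
    refine Subgroup.mem_inf.2 ⟨hu, fun x hx => ?_⟩
    by_cases hxA : x ∈ A
    · exact h.comm hxA hu
    by_cases hexA : e * x ∈ A
    · have hx' : x = e * (e * x) := by rw [← mul_assoc, hs e he, one_mul]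
      rw [hx', mul_assoc, h.comm hexA hu, ← mul_assoc, ← hue, mul_assoc]
    · exact ((h.c2 e (hE he) x (hE hx) heA hxA hexA (hsA e he) (hsA x hx)
        (hsA _ (mul_mem he hx))).2 a ha).symm
  intro a ha e he
  by_cases heA : e ∈ A
  · rw [h.comm ha heA, mul_inv_cancel_right]; exact he
  suffices hCF : CE ≤ F by
    have := mul_mem (Subgroup.mem_inf.1 (hCF (hcomm a ha e he heA))).1 he
    rwa [inv_mul_cancel_right] at this
  -- the centraliser of `E` in `A` lies in `E`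
  have hle : CE ≤ cA A e := fun b hb => mem_cA.2 ⟨(Subgroup.mem_inf.1 hb).1,
    ((Subgroup.mem_inf.1 hb).2 e he).symm⟩
  have hF : ∀ g ∈ E, ∀ x ∈ E, g * x ∈ A → g * x ∈ F := fun g hg x hx hgx =>
    Subgroup.mem_inf.2 ⟨mul_mem hg hx, hgx⟩
  have hinv : ∀ g ∈ E, ∀ x : G, g * (g * x) = x := fun g hg x => by
    rw [← mul_assoc, hs g hg, one_mul]
  have hEcard : (E : Set G).ncard = 32 := by rw [← Nat.card_coe_set_eq]; exact hE32
  have hFcard : (F : Set G).ncard = Nat.card F := (Nat.card_coe_set_eq _).symm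
  have himg : ∀ g : G, ((fun x => g * x) '' (F : Set G)).ncard = Nat.card F := fun g => by
    rw [Set.ncard_image_of_injective _ (mul_right_injective g), hFcard]
  by_cases hz : ∀ x ∈ E, x ∈ A ∨ e * x ∈ A
  · have hsub : (E : Set G) ⊆ (F : Set G) ∪ (fun x => e * x) '' (F : Set G) := by
      intro x hx
      rcases hz x hx with hxA | hxA
      · exact Or.inl (Subgroup.mem_inf.2 ⟨hx, hxA⟩)
      · exact Or.inr ⟨e * x, hF e he x hx hxA, hinv e he x⟩
    have h16 := (Set.ncard_le_ncard hsub).trans (Set.ncard_union_le _ _)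
    rw [himg, hFcard, hEcard] at h16
    refine (Subgroup.eq_of_le_of_card_ge hFC ?_).ge
    have := Subgroup.card_le_of_le hle
    rw [h.c1 e (hE he) heA (hsA e he)] at this
    omega
  · push Not at hz
    obtain ⟨z, hzE, hzA, hezA⟩ := hz
    have hsub : (E : Set G) ⊆ (F : Set G) ∪ (fun x => e * x) '' (F : Set G) ∪
        (fun x => z * x) '' (F : Set G) ∪ (fun x => e * z * x) '' (F : Set G) := by
      intro x hx
      rcases h.c4 e (hE he) z (hE hzE) x (hE hx) heA hzA hezA (hsA e he) (hsA z hzE)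
        (hsA _ (mul_mem he hzE)) (hsA x hx) (hsA _ (mul_mem he hx)) (hsA _ (mul_mem hzE hx)) with
        k | k | k | k
      · exact Or.inl (Or.inl (Or.inl (Subgroup.mem_inf.2 ⟨hx, k⟩)))
      · exact Or.inl (Or.inl (Or.inr ⟨e * x, hF e he x hx k, hinv e he x⟩))
      · exact Or.inl (Or.inr ⟨z * x, hF z hzE x hx k, hinv z hzE x⟩)
      · exact Or.inr ⟨e * z * x, hF _ (mul_mem he hzE) x hx k, hinv _ (mul_mem he hzE) x⟩
    have h8 := (Set.ncard_le_ncard hsub).trans ((Set.ncard_union_le _ _).trans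
      (Nat.add_le_add_right ((Set.ncard_union_le _ _).trans
        (Nat.add_le_add_right (Set.ncard_union_le _ _) _)) _))
    rw [himg, himg, himg, hFcard, hEcard] at h8
    refine (Subgroup.eq_of_le_of_card_ge hFC ?_).ge
    have h2 : CE ≤ cA A e ⊓ cA A z := le_inf hle fun b hb => mem_cA.2 ⟨(Subgroup.mem_inf.1 hb).1,
      ((Subgroup.mem_inf.1 hb).2 z hzE).symm⟩
    have := Subgroup.card_le_of_le h2
    rw [(h.c2 e (hE he) z (hE hzE) heA hzA hezA (hsA e he) (hsA z hzE)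
      (hsA _ (mul_mem he hzE))).1] at this
    omega

/-- `A` is strongly closed -/
theorem Cfg.sc (h : Cfg S A) : ∀ Q : Subgroup G, IsPGroup 2 Q → A ≤ Q → ∀ a ∈ A, ∀ g : G,
    g * a * g⁻¹ ∈ Q → g * a * g⁻¹ ∈ A := by
  haveI : Fact (Nat.Prime 2) := ⟨Nat.prime_two⟩
  -- it suffices to treat elements of `S`
  suffices key : ∀ a ∈ A, ∀ g : G, g * a * g⁻¹ ∈ (S : Subgroup G) → g * a * g⁻¹ ∈ A by
    intro Q hQ hA a ha g hg
    obtain ⟨n, hn, hQS⟩ := h.transfer hQ hA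
    have := key a ha (n * g) (by
      rw [show n * g * a * (n * g)⁻¹ = n * (g * a * g⁻¹) * n⁻¹ by group]; exact hQS _ hg)
    rw [show n * g * a * (n * g)⁻¹ = n * (g * a * g⁻¹) * n⁻¹ by group] at this
    exact (Subgroup.mem_normalizer_iff.1 hn _).2 this
  intro a ha g₀ hxS
  by_contra hxA
  set x := g₀ * a * g₀⁻¹ with hx
  clear_value x
  have hx2 : x * x = 1 := by
    rw [hx, show g₀ * a * g₀⁻¹ * (g₀ * a * g₀⁻¹) = g₀ * (a * a) * g₀⁻¹ by group, h.sq ha]; group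
  have hxi : x⁻¹ = x := inv_eq_of_mul_eq_one_right hx2
  have hxN : x ∈ Subgroup.normalizer (A : Set G) := h.mem_normalizer S.isPGroup' h.le fun b hb =>
    mul_mem (mul_mem hxS (h.le hb)) (inv_mem hxS)
  set C := cA A x with hC
  have hC16 : Nat.card C = 16 := h.c1 x hxS hxA (by rw [hx2]; exact one_mem _)
  have hCx : ∀ c ∈ C, c * x = x * c := fun c hc => (mem_cA.1 hc).2
  have hconjC : ∀ c ∈ C, x * c * x = c := fun c hc => by
    rw [← hCx c hc, mul_assoc, hx2, mul_one]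
  have hxx : ∀ u : G, u * x * x = u := fun u => by rw [mul_assoc, hx2, mul_one]
  -- the elementary group `E = C ⟨x⟩`
  let E : Subgroup G :=
    { carrier := {e | e ∈ C ∨ e * x ∈ C}
      one_mem' := Or.inl (one_mem _)
      mul_mem' := fun {u v} hu hv => by
        rcases hu with hu | hu <;> rcases hv with hv | hv
        · exact Or.inl (mul_mem hu hv)
        · exact Or.inr (by rw [mul_assoc]; exact mul_mem hu hv)
        · refine Or.inr ?_
          have := mul_mem hu hv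
          rwa [show u * x * v = u * v * x by rw [mul_assoc u v, hCx v hv, ← mul_assoc]] at this
        · refine Or.inl ?_
          have := mul_mem hu hv
          rwa [show u * x * (v * x) = u * v by rw [mul_assoc u x, ← hCx _ hv, hxx]] at this
      inv_mem' := fun {u} hu => by
        rcases hu with hu | hu
        · exact Or.inl (inv_mem hu)
        · refine Or.inr ?_
          have := inv_mem hu
          rwa [show (u * x)⁻¹ = u⁻¹ * x by
            rw [← hconjC _ (inv_mem hu), mul_inv_rev, hxi, ← mul_assoc x, hx2, one_mul]] at this }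
  have hxE : x ∈ E := Or.inr (by rw [hx2]; exact one_mem _)
  have hCE : C ≤ E := fun c hc => Or.inl hc
  have hES : E ≤ (S : Subgroup G) := by
    rintro e (he | he)
    · exact h.le (mem_cA.1 he).1
    · rw [← hxx e]; exact mul_mem (h.le (mem_cA.1 he).1) hxS
  have hEex : ∀ e ∈ E, e * x = x * e := by
    rintro e (he | he)
    · exact hCx e he
    · rw [← hxx e, hxx (e * x), ← mul_assoc x, ← hCx _ he, mul_assoc, hx2, mul_one]
  have hEel : Cfsg.IsElementaryAbelian 2 E := by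
    refine ⟨⟨⟨fun u v => Subtype.ext ?_⟩⟩, fun e he => ?_⟩
    · show (u : G) * v = v * u
      have hcu : ∀ c ∈ C, c * (u : G) = u * c := by
        intro c hc
        rcases u.2 with hu | hu
        · exact h.comm (mem_cA.1 hc).1 (mem_cA.1 hu).1
        · rw [← hxx u.1, ← mul_assoc c, h.comm (mem_cA.1 hc).1 (mem_cA.1 hu).1, mul_assoc, hCx c hc,
            ← mul_assoc]
      rcases v.2 with hv | hv
      · exact (hcu _ hv).symm
      · calc (u : G) * v = u * (v * x) * x := by rw [← mul_assoc, hxx]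
          _ = v * x * (u * x) := by rw [← hcu _ hv, mul_assoc]
          _ = v * x * (x * u) := by rw [hEex _ u.2]
          _ = v * u := by rw [← mul_assoc, hxx]
    · rcases he with he | he
      · exact h.el.2 e (mem_cA.1 he).1
      · rw [← hxx e, pow_two, mul_assoc, ← mul_assoc x, ← hCx _ he, mul_assoc (e * x) x x, hx2,
          mul_one, h.sq (mem_cA.1 he).1]
  have hEA : ∀ e ∈ E, e ∈ A → e ∈ C := fun e he heA => by
    rcases he with he | he
    · exact he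
    · exfalso
      have := mul_mem (inv_mem heA) (mem_cA.1 he).1
      rw [inv_mul_cancel_left] at this
      exact hxA this
  have hE32 : Nat.card E = 32 := by
    have hunion : (E : Set G) = (C : Set G) ∪ (fun c => c * x) '' (C : Set G) := by
      ext e
      constructor
      · rintro (he | he)
        · exact Or.inl he
        · exact Or.inr ⟨e * x, he, hxx e⟩
      · rintro (he | ⟨c, hc, rfl⟩)
        · exact Or.inl he
        · exact Or.inr (show c * x * x ∈ C by rw [hxx]; exact hc)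
    have hdisj : Disjoint (C : Set G) ((fun c => c * x) '' (C : Set G)) := by
      rw [Set.disjoint_left]
      rintro _ hc ⟨c', hc', rfl⟩
      have := mul_mem (inv_mem (mem_cA.1 hc').1) (mem_cA.1 hc).1
      rw [inv_mul_cancel_left] at this
      exact hxA this
    rw [← SetLike.coe_sort_coe, Nat.card_coe_set_eq, hunion, Set.ncard_union_eq hdisj,
      Set.ncard_image_of_injective _ (mul_left_injective x), ← Nat.card_coe_set_eq]
    show Nat.card C + Nat.card C = 32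
    omega
  -- a conjugate of `A` containing `x` normalised by `E`
  obtain ⟨g, hgx, hgE⟩ : ∃ g : G, g⁻¹ * x * g ∈ A ∧ ∀ e ∈ E, g⁻¹ * e * g ∈ (S : Subgroup G) := by
    set Cx := Subgroup.centralizer ({x} : Set G)
    let B := A.map (MulAut.conj g₀).toMonoidHom
    have hAp : IsPGroup 2 A := fun b => ⟨1, Subtype.ext (by simpa using h.el.2 b.1 b.2)⟩
    have hEp : IsPGroup 2 E := fun b => ⟨1, Subtype.ext (by simpa using hEel.2 b.1 b.2)⟩
    have hECx : E ≤ Cx := fun e he => Subgroup.mem_centralizer_singleton_iff.2 (hEex e he)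
    have hBCx : B ≤ Cx := by
      rintro _ ⟨b, hb, rfl⟩
      refine Subgroup.mem_centralizer_singleton_iff.2 ?_
      show g₀ * b * g₀⁻¹ * x = x * (g₀ * b * g₀⁻¹)
      rw [hx, show g₀ * b * g₀⁻¹ * (g₀ * a * g₀⁻¹) = g₀ * (b * a) * g₀⁻¹ by group, h.comm hb ha]
      group
    obtain ⟨R, hR⟩ := (hEp.comap_of_injective Cx.subtype Cx.subtype_injective).exists_le_sylow
    obtain ⟨R', hR'⟩ := ((hAp.map (MulAut.conj g₀).toMonoidHom).comap_of_injective Cx.subtype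
      Cx.subtype_injective).exists_le_sylow (p := 2) (P := B.comap Cx.subtype)
    obtain ⟨k, hk⟩ := MulAction.exists_smul_eq Cx R' R
    set g₁ := k.1 * g₀
    have hk' : x = g₁ * a * g₁⁻¹ := by
      have hkx := Subgroup.mem_centralizer_singleton_iff.1 k.2
      calc x = k.1 * x * k.1⁻¹ := by rw [hkx]; group
        _ = g₁ * a * g₁⁻¹ := by rw [hx]; simp only [g₁]; group
    let R₀ := ((R : Subgroup Cx).map Cx.subtype).map (MulAut.conj g₁⁻¹).toMonoidHom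
    have hR₀ : IsPGroup 2 R₀ := (R.isPGroup'.map _).map _
    have hAR₀ : A ≤ R₀ := by
      intro b hb
      have hbB : g₀ * b * g₀⁻¹ ∈ B := ⟨b, hb, by simp⟩
      have hmem : k * (⟨g₀ * b * g₀⁻¹, hBCx hbB⟩ : Cx) * k⁻¹ ∈ (R : Subgroup Cx) := by
        rw [← hk, Sylow.coe_subgroup_smul]
        exact ⟨_, hR' (show Cx.subtype ⟨g₀ * b * g₀⁻¹, hBCx hbB⟩ ∈ B from hbB), by simp⟩
      refine ⟨_, ⟨_, hmem, rfl⟩, ?_⟩
      simp only [MulEquiv.coe_toMonoidHom, MulAut.conj_apply, Subgroup.coe_subtype, Subgroup.coe_mul,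
        Subgroup.coe_inv, g₁]
      group
    obtain ⟨n, hn, hRS⟩ := h.transfer hR₀ hAR₀
    refine ⟨g₁ * n⁻¹, ?_, fun e he => ?_⟩
    · rw [show (g₁ * n⁻¹)⁻¹ * x * (g₁ * n⁻¹) = n * (g₁⁻¹ * x * g₁) * n⁻¹ by group, hk',
        show g₁⁻¹ * (g₁ * a * g₁⁻¹) * g₁ = a by group]
      exact (Subgroup.mem_normalizer_iff.1 hn _).1 ha
    · rw [show (g₁ * n⁻¹)⁻¹ * e * (g₁ * n⁻¹) = n * (g₁⁻¹ * e * g₁) * n⁻¹ by group]
      exact hRS _ ⟨e, ⟨⟨e, hECx he⟩, hR (show Cx.subtype ⟨e, hECx he⟩ ∈ E from he), rfl⟩,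
        by simp⟩
  -- both conjugates normalise `E`
  have hAE : ∀ b ∈ A, ∀ e ∈ E, b * e * b⁻¹ ∈ E := h.normalized hES hEel hE32
  let E' := E.map (MulAut.conj g⁻¹).toMonoidHom
  have hE'mem : ∀ e ∈ E, g⁻¹ * e * g ∈ E' := fun e he => ⟨e, he, by simp⟩
  have hA'E : ∀ b ∈ A, ∀ e ∈ E, g * b * g⁻¹ * e * (g * b * g⁻¹)⁻¹ ∈ E := by
    intro b hb e he
    have hE'S : E' ≤ (S : Subgroup G) := by
      rintro _ ⟨u, hu, rfl⟩; simpa using hgE u hu
    have hE'el : Cfsg.IsElementaryAbelian 2 E' := by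
      refine ⟨⟨⟨fun u v => Subtype.ext ?_⟩⟩, ?_⟩
      · obtain ⟨u', hu', hue⟩ := u.2
        obtain ⟨v', hv', hve⟩ := v.2
        show (u : G) * v = v * u
        rw [← hue, ← hve, ← map_mul, ← map_mul]
        exact congrArg _ (congrArg Subtype.val (hEel.1.is_comm.comm ⟨u', hu'⟩ ⟨v', hv'⟩))
      · rintro _ ⟨u, hu, rfl⟩; rw [← map_pow, hEel.2 u hu, map_one]
    obtain ⟨u, hu, hue⟩ := h.normalized hE'S hE'el
      (by rw [Subgroup.card_map_of_injective (MulAut.conj g⁻¹).injective, hE32]) b hb _ (hE'mem e he)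
    simp only [MulEquiv.coe_toMonoidHom, MulAut.conj_apply, inv_inv] at hue
    rw [show g * b * g⁻¹ * e * (g * b * g⁻¹)⁻¹ = g * (b * (g⁻¹ * e * g) * b⁻¹) * g⁻¹ by group, ← hue,
      show g * (g⁻¹ * u * g) * g⁻¹ = u by group]
    exact hu
  -- `C' = E ∩ gAg⁻¹` and the kernel `C₀ = C ∩ C'`
  let C' : Subgroup G := E ⊓ A.map (MulAut.conj g).toMonoidHom
  have hmemA' : ∀ z : G, z ∈ A.map (MulAut.conj g).toMonoidHom ↔ g⁻¹ * z * g ∈ A := fun z => by
    constructor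
    · rintro ⟨b, hb, rfl⟩
      simp only [MulEquiv.coe_toMonoidHom, MulAut.conj_apply]
      rwa [show g⁻¹ * (g * b * g⁻¹) * g = b by group]
    · intro hz; exact ⟨_, hz, by simp [mul_assoc]⟩
  have hEinfA : E ⊓ A = C := le_antisymm (fun e he => hEA e he.1 he.2)
    fun c hc => ⟨hCE hc, (mem_cA.1 hc).1⟩
  let N := Subgroup.normalizer (E : Set G)
  have hnorm : ∀ b : G, (∀ e ∈ E, b * e * b⁻¹ ∈ E) → b ∈ N := fun b hb => by
    refine Subgroup.mem_normalizer_iff_map_conj_eq.2 (Subgroup.eq_of_le_of_card_ge ?_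
      (by rw [Subgroup.card_map_of_injective (MulAut.conj b).injective]))
    rintro _ ⟨e, he, rfl⟩; simpa using hb e he
  have hAN : A ≤ N := fun b hb => hnorm b (hAE b hb)
  -- a conjugating element normalising `E` moves `C` to `C'`
  have hmove : ∀ H : Subgroup G, A ≤ H → (∀ b ∈ A, g * b * g⁻¹ ∈ H) → H ≤ N →
      ∃ n ∈ H, C.map (MulAut.conj n).toMonoidHom = C' := by
    intro H hAH hgH hHN
    obtain ⟨k, hk, hkg⟩ := h.exists_conj_le hAH hgH
    refine ⟨k⁻¹, inv_mem hk, ?_⟩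
    have hkE : E.map (MulAut.conj k⁻¹).toMonoidHom = E :=
      Subgroup.mem_normalizer_iff_map_conj_eq.1 (hHN (inv_mem hk))
    rw [← hEinfA, Subgroup.map_inf _ _ _ (MulAut.conj k⁻¹).injective, hkE]
    congr 1
    ext z
    rw [hmemA']
    constructor
    · rintro ⟨b, hb, rfl⟩
      have := (Subgroup.mem_normalizer_iff.1 (inv_mem hkg) b).1 hb
      rw [show (k * g)⁻¹ * b * (k * g)⁻¹⁻¹ = g⁻¹ * (k⁻¹ * b * k⁻¹⁻¹) * g by group] at this
      exact this
    · intro hz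
      refine ⟨k * z * k⁻¹, ?_, by simp [mul_assoc]⟩
      have := (Subgroup.mem_normalizer_iff.1 hkg _).1 hz
      rwa [show k * g * (g⁻¹ * z * g) * (k * g)⁻¹ = k * z * k⁻¹ by group] at this
  obtain ⟨n, -, hn⟩ := hmove N hAN (fun b hb => hnorm _ (hA'E b hb)) le_rfl
  have hC'16 : Nat.card C' = 16 := by
    rw [← hn, Subgroup.card_map_of_injective (MulAut.conj n).injective, hC16]
  have hxC' : x ∈ C' := ⟨hxE, (hmemA' x).2 hgx⟩
  set C₀ := C ⊓ C' with hC₀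
  -- `|C₀| = 8`
  have hC₀8 : 8 ≤ Nat.card C₀ := by
    have h1 : (C.subgroupOf E).index = 2 := by
      have := Subgroup.index_mul_card (C.subgroupOf E)
      rw [Nat.card_congr (Subgroup.subgroupOfEquivOfLe hCE).toEquiv, hC16, hE32] at this
      omega
    have h2 : C₀.subgroupOf C' = (C.subgroupOf E).comap (Subgroup.inclusion (inf_le_left : C' ≤ E)) := by
      ext z
      simp only [Subgroup.mem_subgroupOf, Subgroup.mem_comap, Subgroup.coe_inclusion, hC₀,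
        Subgroup.mem_inf]
      exact ⟨fun hz => hz.1, fun hz => ⟨hz, z.2⟩⟩
    haveI := Subgroup.normal_of_index_eq_two h1
    have h4 : (C₀.subgroupOf C').index ∣ 2 := by
      rw [h2, Subgroup.index_comap, ← h1]
      exact Subgroup.relIndex_dvd_index_of_normal _ _
    have h5 := Subgroup.index_mul_card (C₀.subgroupOf C')
    rw [Nat.card_congr (Subgroup.subgroupOfEquivOfLe (inf_le_right : C₀ ≤ C')).toEquiv, hC'16, ← hC₀] at h5
    rcases (Nat.dvd_prime Nat.prime_two).1 h4 with e | e <;> rw [e] at h5 <;> omega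
  -- the local group
  let L := Subgroup.centralizer (C₀ : Set G) ⊓ N
  have hAL : A ≤ L := fun b hb => ⟨fun c hc => h.comm (mem_cA.1 hc.1).1 hb, hAN hb⟩
  have hA'L : ∀ b ∈ A, g * b * g⁻¹ ∈ L := fun b hb => ⟨fun c hc => by
    obtain ⟨b', hb', rfl⟩ := hc.2.2
    show g * b' * g⁻¹ * (g * b * g⁻¹) = g * b * g⁻¹ * (g * b' * g⁻¹)
    rw [show g * b' * g⁻¹ * (g * b * g⁻¹) = g * (b' * b) * g⁻¹ by group, h.comm hb' hb]
    group, hnorm _ (hA'E b hb)⟩
  obtain ⟨l, hl, hlC⟩ := hmove L hAL hA'L inf_le_right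
  -- every element of `L` normalises `C`, which is absurd
  suffices hfix : ∀ m ∈ L, ∀ c ∈ C, m * c * m⁻¹ ∈ C by
    have : C' ≤ C := by
      rw [← hlC]; rintro _ ⟨c, hc, rfl⟩; simpa using hfix l hl c hc
    exact hxA (mem_cA.1 (this hxC')).1
  -- the kernel on `E / C₀`
  have hLN : ∀ m ∈ L, ∀ e ∈ E, m * e * m⁻¹ ∈ E := fun m hm e he =>
    (Subgroup.mem_normalizer_iff.1 hm.2 e).1 he
  have hLC₀ : ∀ m ∈ L, ∀ c ∈ C₀, m * c * m⁻¹ = c := fun m hm c hc => by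
    rw [← hm.1 c hc, mul_inv_cancel_right]
  have hC₀E : C₀ ≤ E := inf_le_left.trans hCE
  let K₀ : Subgroup G :=
    { carrier := {m | m ∈ L ∧ ∀ e ∈ E, m * e * m⁻¹ * e⁻¹ ∈ C₀}
      one_mem' := ⟨one_mem _, fun e _ => by simp⟩
      mul_mem' := fun {u v} hu hv => ⟨mul_mem hu.1 hv.1, fun e he => by
        have h1 := hu.2 _ (hLN v hv.1 e he)
        have h2 := hv.2 e he
        have := mul_mem h1 h2
        rwa [show u * (v * e * v⁻¹) * u⁻¹ * (v * e * v⁻¹)⁻¹ * (v * e * v⁻¹ * e⁻¹) =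
          u * v * e * (u * v)⁻¹ * e⁻¹ by group] at this⟩
      inv_mem' := fun {u} hu => ⟨inv_mem hu.1, fun e he => by
        have := inv_mem (hu.2 _ (hLN _ (inv_mem hu.1) e he))
        rwa [show (u * (u⁻¹ * e * u⁻¹⁻¹) * u⁻¹ * (u⁻¹ * e * u⁻¹⁻¹)⁻¹)⁻¹ =
          u⁻¹ * e * u⁻¹⁻¹ * e⁻¹ by group] at this⟩ }
  have hK₀L : K₀ ≤ L := fun u hu => hu.1
  have hK₀C : ∀ u ∈ K₀, ∀ c ∈ C, u * c * u⁻¹ ∈ C := fun u hu c hc => by
    have h1 : u * c * u⁻¹ * c⁻¹ * c ∈ C := mul_mem (hu.2 c (hCE hc)).1 hc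
    rwa [inv_mul_cancel_right] at h1
  haveI hK₀n : (K₀.subgroupOf L).Normal := ⟨fun u hu m => ⟨(m * u * m⁻¹).2, fun e he => by
    have h1 := hLN _ (inv_mem m.2) e he
    have h2 := hu.2 _ h1
    have := hLC₀ m.1 m.2 _ h2
    show m.1 * u.1 * m.1⁻¹ * e * (m.1 * u.1 * m.1⁻¹)⁻¹ * e⁻¹ ∈ C₀
    rw [show m.1 * u.1 * m.1⁻¹ * e * (m.1 * u.1 * m.1⁻¹)⁻¹ * e⁻¹ =
      m.1 * (u.1 * (m.1⁻¹ * e * m.1⁻¹⁻¹) * u.1⁻¹ * (m.1⁻¹ * e * m.1⁻¹⁻¹)⁻¹) * m.1⁻¹ by group]
    simp only [Subgroup.coe_subtype] at this h2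
    rw [this]
    exact h2⟩⟩
  -- a Sylow subgroup of `L` containing `A` and `x`
  have hxL : x ∈ L := ⟨fun c hc => hCx c hc.1, Subgroup.le_normalizer hxE⟩
  have hAx : IsPGroup 2 ↥(Subgroup.zpowers x ⊔ A) :=
    IsPGroup.to_sup_of_normal_right' (SignalizerCoprime.isPGroup_zpowers (p := 2)
      (by rw [pow_two, hx2])) (fun b => ⟨1, Subtype.ext (by simpa using h.el.2 b.1 b.2)⟩)
      (Subgroup.zpowers_le.2 hxN)
  obtain ⟨R, hR⟩ := (hAx.comap_of_injective L.subtype L.subtype_injective).exists_le_sylow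
  set RG := (R : Subgroup L).map L.subtype with hRG
  have hARG : A ≤ RG := fun b hb =>
    ⟨⟨b, hAL hb⟩, hR (show L.subtype ⟨b, hAL hb⟩ ∈ _ from le_sup_right (α := Subgroup G) hb), rfl⟩
  have hxRG : x ∈ RG :=
    ⟨⟨x, hxL⟩, hR (show L.subtype ⟨x, hxL⟩ ∈ _ from
      le_sup_left (α := Subgroup G) (Subgroup.mem_zpowers x)), rfl⟩
  have hRp : IsPGroup 2 RG := R.isPGroup'.map _
  have hRA : ∀ r ∈ RG, r ∈ Subgroup.normalizer (A : Set G) := fun r hr =>
    h.mem_normalizer hRp hARG fun b hb => mul_mem (mul_mem hr (hARG hb)) (inv_mem hr)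
  -- Frattini
  obtain ⟨P, hP⟩ := ((hRp.to_le (inf_le_left : RG ⊓ K₀ ≤ RG)).comap_of_injective
    (L.subtype.comp (K₀.subgroupOf L).subtype)
    (L.subtype_injective.comp (K₀.subgroupOf L).subtype_injective)).exists_le_sylow
  set PL := (P : Subgroup (K₀.subgroupOf L)).map (K₀.subgroupOf L).subtype with hPL
  have hPK : ∀ z ∈ PL, (z : G) ∈ K₀ := by rintro _ ⟨z, hz, rfl⟩; exact z.2
  have hPR : ∀ z : L, z ∈ PL ↔ (z : G) ∈ RG ⊓ K₀ := by
    have hle : ∀ z : L, (z : G) ∈ RG ⊓ K₀ → z ∈ PL := fun z hz =>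
      ⟨⟨z, hz.2⟩, hP hz, rfl⟩
    refine fun z => ⟨fun hz => ?_, hle z⟩
    obtain ⟨R', hR'⟩ := ((P.isPGroup'.map (K₀.subgroupOf L).subtype) : IsPGroup 2 PL).exists_le_sylow
    obtain ⟨k, hk⟩ := MulAction.exists_smul_eq L R' R
    have hmap : PL.map (MulAut.conj k).toMonoidHom ≤ (RG ⊓ K₀).comap L.subtype := by
      rintro _ ⟨y, hy, rfl⟩
      refine ⟨⟨_, ?_, rfl⟩, hK₀n.conj_mem _ (hPK y hy) k⟩
      rw [← hk, Sylow.coe_subgroup_smul]
      exact ⟨y, hR' hy, by simp⟩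
    have hsub : (RG ⊓ K₀).comap L.subtype ≤ PL := fun y hy => hle y hy
    have heq : (RG ⊓ K₀).comap L.subtype = PL := Subgroup.eq_of_le_of_card_ge hsub
      ((Subgroup.card_map_of_injective (MulAut.conj k).injective).symm.le.trans
        (Subgroup.card_le_of_le hmap))
    exact heq.ge hz
  have hfrat := Sylow.normalizer_sup_eq_top P
  suffices hNB : ∀ m : L, (∀ z : L, z ∈ PL → m * z * m⁻¹ ∈ PL) → ∀ c ∈ C, m.1 * c * m.1⁻¹ ∈ C by
    intro m hm c hc
    have hmem : (⟨m, hm⟩ : L) ∈ Subgroup.normalizer (PL : Set L) ⊔ K₀.subgroupOf L := by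
      rw [hfrat]; exact Subgroup.mem_top _
    obtain ⟨u, hu, v, hv, huv⟩ := Subgroup.mem_sup_of_normal_right.1 hmem
    have h1 := hNB u (fun z hz => (Subgroup.mem_normalizer_iff.1 hu z).1 hz) _ (hK₀C v.1 hv c hc)
    rwa [show u.1 * (v.1 * c * v.1⁻¹) * u.1⁻¹ = u.1 * v.1 * c * (u.1 * v.1)⁻¹ by group,
      show u.1 * v.1 = m from congrArg Subtype.val huv] at h1
  intro m hm c hc
  have hcE := hCE hc
  by_cases hAK : ∀ b ∈ A, b ∈ K₀
  · -- `A` lies in the kernel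
    have hmA : m.1 ∈ Subgroup.normalizer (A : Set G) :=
      h.mem_normalizer (hRp.to_le (inf_le_left : RG ⊓ K₀ ≤ RG)) (le_inf hARG hAK)
        fun b hb => (hPR _).1 (hm ⟨b, hAL hb⟩ ((hPR _).2 ⟨hARG hb, hAK b hb⟩))
    exact hEA _ (hLN m.1 m.2 c hcE) ((Subgroup.mem_normalizer_iff.1 hmA c).1 (mem_cA.1 hc).1)
  push Not at hAK
  obtain ⟨b₀, hb₀, hb₀K⟩ := hAK
  -- commutators with `x`
  have hcomC : ∀ b ∈ A, b * x * b⁻¹ * x⁻¹ ∈ C := fun b hb => by
    have hbA : b * x * b⁻¹ * x⁻¹ ∈ A := by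
      rw [mul_assoc, mul_assoc, ← mul_assoc x]
      exact mul_mem hb ((Subgroup.mem_normalizer_iff.1 hxN _).1 (inv_mem hb))
    exact hEA _ (mul_mem (hAE b hb x hxE) (inv_mem hxE)) hbA
  have hK₀iff : ∀ b ∈ A, (b ∈ K₀ ↔ b * x * b⁻¹ * x⁻¹ ∈ C₀) := by
    intro b hb
    refine ⟨fun hk => hk.2 x hxE, fun hk => ⟨hAL hb, fun e he => ?_⟩⟩
    rcases he with he | he
    · rw [h.comm hb (mem_cA.1 he).1, mul_inv_cancel_right, mul_inv_cancel]; exact one_mem _
    · have e1 : b * (e * x) = e * x * b := h.comm hb (mem_cA.1 he).1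
      have : b * e * b⁻¹ * e⁻¹ = e * x * (b * x * b⁻¹ * x⁻¹) * (e * x)⁻¹ := by
        calc b * e * b⁻¹ * e⁻¹ = b * (e * x) * x * b⁻¹ * e⁻¹ := by
              rw [← mul_assoc b e x, hxx]
          _ = e * x * (b * x * b⁻¹ * x⁻¹) * (x * e⁻¹) := by rw [e1]; group
          _ = e * x * (b * x * b⁻¹ * x⁻¹) * (e * x)⁻¹ := by rw [mul_inv_rev, hxi]
      rw [this, h.comm (mem_cA.1 he).1 (mem_cA.1 (hk.1)).1, mul_inv_cancel_right]
      exact hk
  -- `RG = A ∪ A x`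
  have hRG2 : ∀ r ∈ RG, r ∈ A ∨ x * r ∈ A := by
    intro r hr
    obtain ⟨t, ht, hRS⟩ := h.transfer hRp hARG
    have hA_iff : ∀ z, z ∈ A ↔ t * z * t⁻¹ ∈ A := Subgroup.mem_normalizer_iff.1 ht
    have hCT : ∀ z, ∀ c ∈ cA A z, t * c * t⁻¹ ∈ cA A (t * z * t⁻¹) := by
      intro z c hc
      obtain ⟨h1, h2⟩ := mem_cA.1 hc
      refine mem_cA.2 ⟨(hA_iff c).1 h1, ?_⟩
      rw [show t * c * t⁻¹ * (t * z * t⁻¹) = t * (c * z) * t⁻¹ by group, h2]; group
    have hsq : ∀ z ∈ RG, z * z ∈ A := by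
      intro z hz
      by_contra hzz
      have h1 := h.c3 _ (hRS z hz) (by
        rw [show t * z * t⁻¹ * (t * z * t⁻¹) = t * (z * z) * t⁻¹ by group]
        exact fun k => hzz ((hA_iff _).2 k))
      have h2 : C₀.map (MulAut.conj t).toMonoidHom ≤ cA A (t * z * t⁻¹) := by
        rintro _ ⟨d, hd, rfl⟩
        obtain ⟨w, hw, hwz⟩ := hz
        have hdz : d * z = z * d := by rw [← hwz]; exact w.2.1 d hd
        simpa using hCT z d (mem_cA.2 ⟨(mem_cA.1 hd.1).1, hdz⟩)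
      have h3 := Subgroup.card_le_of_le h2
      rw [Subgroup.card_map_of_injective (MulAut.conj t).injective] at h3
      omega
    by_contra hcon
    push Not at hcon
    obtain ⟨hrA, hxrA⟩ := hcon
    have hne : ∀ {z}, z ∉ A → t * z * t⁻¹ ∉ A := fun hz k => hz ((hA_iff _).2 k)
    have hsq' : ∀ {z}, z ∈ RG → t * z * t⁻¹ * (t * z * t⁻¹) ∈ A := fun {z} hz => by
      rw [show t * z * t⁻¹ * (t * z * t⁻¹) = t * (z * z) * t⁻¹ by group]
      exact (hA_iff _).1 (hsq z hz)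
    have hmulc : t * x * t⁻¹ * (t * r * t⁻¹) = t * (x * r) * t⁻¹ := by group
    obtain ⟨h8, hcom⟩ := h.c2 _ (hRS x hxRG) _ (hRS r hr) (hne hxA) (hne hrA)
      (by rw [hmulc]; exact hne hxrA) (hsq' hxRG) (hsq' hr)
      (by rw [hmulc]; exact hsq' (mul_mem hxRG hr))
    have h2 : C₀.map (MulAut.conj t).toMonoidHom ≤ cA A (t * x * t⁻¹) ⊓ cA A (t * r * t⁻¹) := by
      rintro _ ⟨d, hd, rfl⟩
      obtain ⟨w, hw, hwz⟩ := hr
      have hdr : d * r = r * d := by rw [← hwz]; exact w.2.1 d hd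
      simp only [MulEquiv.coe_toMonoidHom, MulAut.conj_apply]
      exact ⟨hCT x d hd.1, hCT r d (mem_cA.2 ⟨(mem_cA.1 hd.1).1, hdr⟩)⟩
    have heq := Subgroup.eq_of_le_of_card_ge h2
      (by rw [h8, Subgroup.card_map_of_injective (MulAut.conj t).injective]; exact hC₀8)
    set u := b₀ * x * b₀⁻¹ * x⁻¹ with hu
    have hux : t * u * t⁻¹ ∈ cA A (t * x * t⁻¹) ⊓ cA A (t * r * t⁻¹) := by
      refine ⟨hCT x u (hcomC b₀ hb₀), mem_cA.2 ⟨(hA_iff u).1 (mem_cA.1 (hcomC b₀ hb₀)).1, ?_⟩⟩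
      have := hcom _ ((hA_iff b₀).1 hb₀)
      rwa [show t * b₀ * t⁻¹ * (t * x * t⁻¹) * (t * b₀ * t⁻¹)⁻¹ * (t * x * t⁻¹)⁻¹ = t * u * t⁻¹ by
        rw [hu]; group] at this
    obtain ⟨d, hd, hde⟩ := heq.ge hux
    simp only [MulEquiv.coe_toMonoidHom, MulAut.conj_apply] at hde
    have hdu : d = u := mul_left_cancel (mul_right_cancel hde)
    exact hb₀K ((hK₀iff b₀ hb₀).2 (by rw [← hu, ← hdu]; exact hd))
  -- an element of `A ∩ K₀` not commuting with `x`
  obtain ⟨b₁, hb₁, hb₁K, hb₁x⟩ : ∃ b ∈ A, b ∈ K₀ ∧ b * x ≠ x * b := by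
    let f : A →* C :=
      { toFun := fun b => ⟨(b : G) * x * (b : G)⁻¹ * x⁻¹, hcomC b b.2⟩
        map_one' := Subtype.ext (by simp)
        map_mul' := fun b₂ b₃ => Subtype.ext (by
          show (b₂ : G) * b₃ * x * ((b₂ : G) * b₃)⁻¹ * x⁻¹ = b₂ * x * (b₂ : G)⁻¹ * x⁻¹ *
            (b₃ * x * (b₃ : G)⁻¹ * x⁻¹)
          have hv := (mem_cA.1 (hcomC b₃ b₃.2)).1
          calc (b₂ : G) * b₃ * x * ((b₂ : G) * b₃)⁻¹ * x⁻¹ =
                b₂ * (b₃ * x * (b₃ : G)⁻¹ * x⁻¹) * (b₂ : G)⁻¹ * (b₂ * x * (b₂ : G)⁻¹ * x⁻¹) := by group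
            _ = b₂ * x * (b₂ : G)⁻¹ * x⁻¹ * (b₃ * x * (b₃ : G)⁻¹ * x⁻¹) := by
                rw [h.comm b₂.2 hv, mul_inv_cancel_right, h.comm hv (mem_cA.1 (hcomC b₂ b₂.2)).1]) }
    have hker : f.ker = C.subgroupOf A := by
      ext b
      rw [MonoidHom.mem_ker, Subgroup.mem_subgroupOf, Subtype.ext_iff]
      show (b : G) * x * (b : G)⁻¹ * x⁻¹ = 1 ↔ (b : G) ∈ C
      rw [mul_inv_eq_one, mul_inv_eq_iff_eq_mul, hC, mem_cA]
      exact ⟨fun e => ⟨b.2, e⟩, fun e => e.2⟩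
    have hrange : Nat.card f.range = 4 := by
      have h1 := Subgroup.index_ker f
      have h2 := Subgroup.index_mul_card f.ker
      rw [h1, hker, Nat.card_congr (Subgroup.subgroupOfEquivOfLe (inf_le_left : C ≤ A)).toEquiv,
        hC16, h.card] at h2
      omega
    by_contra hcon
    push Not at hcon
    have hinj : Function.Injective (fun z : f.range × C₀.subgroupOf C => (z.1 : C) * z.2) := by
      rintro ⟨r₁, c₁⟩ ⟨r₂, c₂⟩ e
      have e' : (r₁ : C) * c₁ = r₂ * c₂ := e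
      have hone : ((r₂⁻¹ * r₁ : f.range) : C) = 1 := by
        have hmem : ((r₂⁻¹ * r₁ : f.range) : C) ∈ C₀.subgroupOf C := by
          have : ((r₂⁻¹ * r₁ : f.range) : C) = (c₂ * c₁⁻¹ : C₀.subgroupOf C) := by
            rw [Subgroup.coe_mul, Subgroup.coe_inv, Subgroup.coe_mul, Subgroup.coe_inv, eq_mul_inv_iff_mul_eq,
              mul_assoc, e', inv_mul_cancel_left]
          rw [this]; exact (c₂ * c₁⁻¹).2
        obtain ⟨b, hb⟩ := (r₂⁻¹ * r₁).2
        rw [← hb] at hmem ⊢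
        have hbK : (b : G) ∈ K₀ := (hK₀iff b b.2).2 hmem
        refine Subtype.ext ?_
        show (b : G) * x * (b : G)⁻¹ * x⁻¹ = 1
        rw [hcon b b.2 hbK, mul_inv_cancel_right, mul_inv_cancel]
      have hr : r₁ = r₂ := (inv_mul_eq_one.1 (Subtype.ext hone : r₂⁻¹ * r₁ = 1)).symm
      subst hr
      exact Prod.ext rfl (Subtype.ext (mul_left_cancel e'))
    have hcard := Nat.card_le_card_of_injective _ hinj
    rw [Nat.card_prod, hrange, Nat.card_congr (Subgroup.subgroupOfEquivOfLe (inf_le_left : C₀ ≤ C)).toEquiv,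
      hC16, ← hC₀] at hcard
    omega
  -- `C` is the centre of the Sylow subgroup of the kernel
  have hCP : ∀ d ∈ C, d ∈ RG ⊓ K₀ := fun d hd => ⟨hARG (mem_cA.1 hd).1,
    (hK₀iff d (mem_cA.1 hd).1).2 (by
      rw [hCx d hd, mul_inv_cancel_right, mul_inv_cancel]; exact one_mem _)⟩
  have hxK : x ∈ K₀ := ⟨hxL, fun e he => by
    rw [← hEex e he, mul_inv_cancel_right, mul_inv_cancel]; exact one_mem _⟩
  have hchar : ∀ d : G, (d ∈ C ↔ d ∈ RG ⊓ K₀ ∧ ∀ r ∈ RG ⊓ K₀, d * r = r * d) := by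
    intro d
    constructor
    · refine fun hd => ⟨hCP d hd, fun r hr => ?_⟩
      rcases hRG2 r hr.1 with k | k
      · exact h.comm (mem_cA.1 hd).1 k
      · have hr' : r = x * (x * r) := by rw [← mul_assoc, hx2, one_mul]
        rw [hr', ← mul_assoc, hCx d hd, mul_assoc, h.comm (mem_cA.1 hd).1 k, ← mul_assoc x (x * r)]
    · rintro ⟨hd, hdc⟩
      have hdx := hdc x ⟨hxRG, hxK⟩
      rcases hRG2 d hd.1 with k | k
      · exact mem_cA.2 ⟨k, hdx⟩
      · exfalso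
        have h1 := hdc b₁ ⟨hARG hb₁, hb₁K⟩
        have h2 : x * d * b₁ = b₁ * (x * d) := h.comm k hb₁
        apply hb₁x
        rw [mul_assoc, h1, ← mul_assoc, ← mul_assoc] at h2
        exact (mul_right_cancel h2).symm
  -- conclude
  obtain ⟨hd1, hd2⟩ := (hchar c).1 hc
  refine (hchar _).2 ⟨(hPR _).1 (hm ⟨c, hAL (mem_cA.1 hc).1⟩ ((hPR _).2 hd1)), fun r hr => ?_⟩
  obtain ⟨w, hw, rfl⟩ := hr.1
  -- `m` permutes the subgroup
  obtain ⟨r', hr', hre⟩ : ∃ r' ∈ PL, m * r' * m⁻¹ = w := by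
    have hle : PL.map (MulAut.conj m).toMonoidHom ≤ PL := by
      rintro _ ⟨z, hz, rfl⟩; simpa using hm z hz
    obtain ⟨r', hr', e⟩ := (Subgroup.eq_of_le_of_card_ge hle
      (le_of_eq (Nat.card_congr (PL.equivMapOfInjective (MulAut.conj m).toMonoidHom
        (MulAut.conj m).injective).toEquiv))).ge ((hPR w).2 hr)
    exact ⟨r', hr', by simpa using e⟩
  have hc' := hd2 r'.1 ((hPR _).1 hr')
  show (m.1 * c * m.1⁻¹) * w.1 = w.1 * (m.1 * c * m.1⁻¹)
  rw [← hre, Subgroup.coe_mul, Subgroup.coe_mul, Subgroup.coe_inv,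
    show m.1 * c * m.1⁻¹ * (m.1 * r'.1 * m.1⁻¹) = m.1 * (c * r'.1) * m.1⁻¹ by group, hc']
  group

end Cfsg.Agent.M24SylowClosure20
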