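import Mathlib

/-!
# Groups acting on `𝔽₂⁶ = V ⊕ V*` with Sylow 2-subgroup the unitriangular group of degree three

A finite group `X` with a faithful representation of degree six over two elements whose Sylow
2-subgroup acts as `U₃(2)` on a natural module plus its dual has order dividing 168, and its
non-trivial elements of odd order fix at most four vectors.  The two summands are recovered from the
relative trace of the projection onto the first one.
-/

set_option autoImplicit false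

namespace Cfsg.Agent.M24SylowModule20

open Matrix

local notation "𝔽" => ZMod 2

/-- vectors -/
abbrev Vec : Type := Fin 6 → ZMod 2
/-- matrices -/
abbrev Mat : Type := Matrix (Fin 6) (Fin 6) (ZMod 2)

lemma z2 (s : 𝔽) : s = 0 ∨ s = 1 := by revert s; decide

/-- the action of `(b, c, f)` -/
def actM (b c f : 𝔽) : Mat :=
  !![1, 0, 0, 0, 0, 0; b, 1, 0, 0, 0, 0; f + b * c, c, 1, 0, 0, 0;
     0, 0, 0, 1, b, f; 0, 0, 0, 0, 1, c; 0, 0, 0, 0, 0, 1]

lemma actM_mulVec (b c f : 𝔽) (v : Vec) :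
    actM b c f *ᵥ v = ![v 0, v 1 + b * v 0, v 2 + c * v 1 + (f + b * c) * v 0,
      v 3 + b * v 4 + f * v 5, v 4 + c * v 5, v 5] := by
  funext k
  fin_cases k <;> simp [actM, Matrix.mulVec, dotProduct, Fin.sum_univ_six] <;> ring

lemma ext6 {v w : Vec} (h0 : v 0 = w 0) (h1 : v 1 = w 1) (h2 : v 2 = w 2) (h3 : v 3 = w 3)
    (h4 : v 4 = w 4) (h5 : v 5 = w 5) : v = w := by
  funext k; fin_cases k <;> assumption

lemma mat_ext {M N : Mat} (h : ∀ v, M *ᵥ v = N *ᵥ v) : M = N :=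
  Matrix.toLin'.injective (LinearMap.ext fun v => by simpa using h v)

lemma actM_mul (b c f b' c' f' : 𝔽) :
    actM b c f * actM b' c' f' = actM (b + b') (c + c') (f + f' + b * c') := by
  refine mat_ext fun v => ?_
  rw [← Matrix.mulVec_mulVec, actM_mulVec, actM_mulVec, actM_mulVec]
  have h := CharTwo.add_self_eq_zero (R := 𝔽)
  refine ext6 ?_ ?_ ?_ ?_ ?_ ?_ <;> simp <;> ring_nf <;>
    simp [show (2 : 𝔽) = 0 from rfl]

lemma actM_zero : actM 0 0 0 = 1 := by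
  refine mat_ext fun v => ?_
  rw [actM_mulVec, Matrix.one_mulVec]
  refine ext6 ?_ ?_ ?_ ?_ ?_ ?_ <;> simp

/-- the projection onto the first summand -/
def proj1 : Mat := Matrix.diagonal ![1, 1, 1, 0, 0, 0]

lemma proj1_mulVec (v : Vec) : proj1 *ᵥ v = ![v 0, v 1, v 2, 0, 0, 0] := by
  funext k; fin_cases k <;> simp [proj1, Matrix.mulVec_diagonal]

lemma proj1_comm (b c f : 𝔽) : proj1 * actM b c f = actM b c f * proj1 := by
  refine mat_ext fun v => ?_
  rw [← Matrix.mulVec_mulVec, ← Matrix.mulVec_mulVec, actM_mulVec, proj1_mulVec, proj1_mulVec,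
    actM_mulVec]
  refine ext6 ?_ ?_ ?_ ?_ ?_ ?_ <;> simp

lemma trace_proj1 : Matrix.trace proj1 = 1 := by
  simp [proj1, Matrix.trace, Fin.sum_univ_six]; rfl

/-- the commutant of the 2-group -/
lemma commutant {M : Mat} (hB : M * actM 1 0 0 = actM 1 0 0 * M)
    (hC : M * actM 0 1 0 = actM 0 1 0 * M) :
    ∃ l1 h0 i0 g0 e1 h1 i1 l2 : 𝔽, (∀ v : Vec, M *ᵥ v =
      ![l1 * v 0, l1 * v 1 + e1 * v 5, l1 * v 2 + h0 * v 0 + e1 * v 4 + h1 * v 5,
        l2 * v 3 + i0 * v 0 + g0 * v 1 + i1 * v 5, l2 * v 4 + g0 * v 0, l2 * v 5]) ∧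
      Matrix.trace (proj1 * M) = l1 ∧ Matrix.trace M = l1 + l2 := by
  have hb : ∀ v, M *ᵥ (actM 1 0 0 *ᵥ v) = actM 1 0 0 *ᵥ (M *ᵥ v) := fun v => by
    rw [Matrix.mulVec_mulVec, Matrix.mulVec_mulVec, hB]
  have hc : ∀ v, M *ᵥ (actM 0 1 0 *ᵥ v) = actM 0 1 0 *ᵥ (M *ᵥ v) := fun v => by
    rw [Matrix.mulVec_mulVec, Matrix.mulVec_mulVec, hC]
  set p := M *ᵥ (![1, 0, 0, 0, 0, 0] : Vec) with hp
  set q := M *ᵥ (![0, 0, 0, 0, 0, 1] : Vec) with hq
  have hpc : actM 0 1 0 *ᵥ p = p := by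
    rw [hp, ← hc]; congr 1
    rw [actM_mulVec]; refine ext6 ?_ ?_ ?_ ?_ ?_ ?_ <;> simp
  have hqb : actM 1 0 0 *ᵥ q = q := by
    rw [hq, ← hb]; congr 1
    rw [actM_mulVec]; refine ext6 ?_ ?_ ?_ ?_ ?_ ?_ <;> simp
  rw [actM_mulVec] at hpc hqb
  have p1 : p 1 = 0 := by have := congrFun hpc 2; simpa using this
  have p5 : p 5 = 0 := by have := congrFun hpc 4; simpa using this
  have q0 : q 0 = 0 := by have := congrFun hqb 1; simpa using this
  have q4 : q 4 = 0 := by have := congrFun hqb 3; simpa using this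
  have two : (2 : 𝔽) = 0 := rfl
  set u := actM 1 0 0 *ᵥ p + p with hu
  set w := actM 0 1 0 *ᵥ q + q with hw
  have hue : M *ᵥ (![0, 1, 0, 0, 0, 0] : Vec) = u := by
    rw [hu, hp, ← hb, ← Matrix.mulVec_add]; congr 1
    rw [actM_mulVec]; refine ext6 ?_ ?_ ?_ ?_ ?_ ?_ <;> simp [CharTwo.add_self_eq_zero]
  have hwe : M *ᵥ (![0, 0, 0, 0, 1, 0] : Vec) = w := by
    rw [hw, hq, ← hc, ← Matrix.mulVec_add]; congr 1
    rw [actM_mulVec]; refine ext6 ?_ ?_ ?_ ?_ ?_ ?_ <;> simp [CharTwo.add_self_eq_zero]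
  have hhe : M *ᵥ (![0, 0, 1, 0, 0, 0] : Vec) = actM 0 1 0 *ᵥ u + u := by
    rw [← hue, ← hc, ← Matrix.mulVec_add]; congr 1
    rw [actM_mulVec]; refine ext6 ?_ ?_ ?_ ?_ ?_ ?_ <;> simp [CharTwo.add_self_eq_zero]
  have hie : M *ᵥ (![0, 0, 0, 1, 0, 0] : Vec) = actM 1 0 0 *ᵥ w + w := by
    rw [← hwe, ← hb, ← Matrix.mulVec_add]; congr 1
    rw [actM_mulVec]; refine ext6 ?_ ?_ ?_ ?_ ?_ ?_ <;> simp [CharTwo.add_self_eq_zero]
  have hform : ∀ v : Vec, M *ᵥ v =
      ![p 0 * v 0, p 0 * v 1 + q 1 * v 5, p 0 * v 2 + p 2 * v 0 + q 1 * v 4 + q 2 * v 5,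
        q 5 * v 3 + p 3 * v 0 + p 4 * v 1 + q 3 * v 5, q 5 * v 4 + p 4 * v 0, q 5 * v 5] := by
    intro v
    have hv : v = v 0 • (![1, 0, 0, 0, 0, 0] : Vec) + v 1 • (![0, 1, 0, 0, 0, 0] : Vec) +
        v 2 • (![0, 0, 1, 0, 0, 0] : Vec) + v 3 • (![0, 0, 0, 1, 0, 0] : Vec) +
        v 4 • (![0, 0, 0, 0, 1, 0] : Vec) + v 5 • (![0, 0, 0, 0, 0, 1] : Vec) := by
      refine ext6 ?_ ?_ ?_ ?_ ?_ ?_ <;> simp
    conv_lhs => rw [hv]
    rw [Matrix.mulVec_add, Matrix.mulVec_add, Matrix.mulVec_add, Matrix.mulVec_add, Matrix.mulVec_add,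
      Matrix.mulVec_smul, Matrix.mulVec_smul, Matrix.mulVec_smul, Matrix.mulVec_smul,
      Matrix.mulVec_smul, Matrix.mulVec_smul, hue, hwe, hhe, hie, ← hp, ← hq, hu, hw, actM_mulVec,
      actM_mulVec, actM_mulVec, actM_mulVec]
    refine ext6 ?_ ?_ ?_ ?_ ?_ ?_ <;> simp only [Pi.add_apply, Pi.smul_apply, smul_eq_mul] <;>
      simp [p1, p5, q0, q4, Matrix.vecHead, Matrix.vecTail] <;> (try ring_nf) <;>
      (try simp [two, show (3 : 𝔽) = 1 from rfl, show (4 : 𝔽) = 0 from rfl])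
  refine ⟨p 0, p 2, p 3, p 4, q 1, q 2, q 3, q 5, hform, ?_, ?_⟩
  · have hd : ∀ k : Fin 6, (proj1 * M) k k = (proj1 *ᵥ (M *ᵥ Pi.single k 1)) k := fun k => by
      rw [Matrix.mulVec_mulVec, Matrix.mulVec_single_one]; rfl
    simp only [Matrix.trace, Matrix.diag, hd, proj1_mulVec, hform, Fin.sum_univ_six]
    simp [two]
    ring_nf
    simp [show (3 : 𝔽) = 1 from rfl, two]
  · have hd : ∀ k : Fin 6, M k k = (M *ᵥ Pi.single k 1) k := fun k => by
      rw [Matrix.mulVec_single_one]; rfl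
    simp only [Matrix.trace, Matrix.diag, hd, hform, Fin.sum_univ_six]
    simp [two]
    ring_nf
    simp [show (3 : 𝔽) = 1 from rfl, two]

/-- a matrix of full rank centralising the 2-group has order dividing four -/
lemma pow_four_of_commute {M : Mat} (hB : M * actM 1 0 0 = actM 1 0 0 * M)
    (hC : M * actM 0 1 0 = actM 0 1 0 * M) (hinj : Function.Injective fun v : Vec => M *ᵥ v) :
    M ^ 4 = 1 := by
  obtain ⟨l1, h0, i0, g0, e1, h1, i1, l2, hf, -, -⟩ := commutant hB hC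
  have hl1 : l1 = 1 := (z2 l1).resolve_left fun e => by
    have h := @hinj (![0, 0, 1, 0, 0, 0] : Vec) 0 (by
      show M *ᵥ _ = M *ᵥ 0
      rw [hf, Matrix.mulVec_zero]
      refine ext6 ?_ ?_ ?_ ?_ ?_ ?_ <;> simp [e])
    have := congrFun h 2; simp at this
  have hl2 : l2 = 1 := (z2 l2).resolve_left fun e => by
    have h := @hinj (![0, 0, 0, 1, 0, 0] : Vec) 0 (by
      show M *ᵥ _ = M *ᵥ 0
      rw [hf, Matrix.mulVec_zero]
      refine ext6 ?_ ?_ ?_ ?_ ?_ ?_ <;> simp [e])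
    have := congrFun h 3; simp at this
  subst hl1; subst hl2
  have two : (2 : 𝔽) = 0 := rfl
  have h2 : ∀ v, M *ᵥ (M *ᵥ v) =
      ![v 0, v 1, v 2 + e1 * g0 * v 0, v 3 + g0 * e1 * v 5, v 4, v 5] := fun v => by
    rw [hf, hf]
    refine ext6 ?_ ?_ ?_ ?_ ?_ ?_ <;> simp <;> ring_nf <;> simp [two]
  refine mat_ext fun v => ?_
  rw [show M ^ 4 = M * (M * (M * M)) by simp [pow_succ, Matrix.mul_assoc], ← Matrix.mulVec_mulVec,
    ← Matrix.mulVec_mulVec, ← Matrix.mulVec_mulVec, h2, h2, Matrix.one_mulVec]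
  refine ext6 ?_ ?_ ?_ ?_ ?_ ?_ <;> simp <;> ring_nf <;> simp [two]

/-- multiplication of the parameters -/
def mop (x y : 𝔽 × 𝔽 × 𝔽) : 𝔽 × 𝔽 × 𝔽 := (x.1 + y.1, x.2.1 + y.2.1, x.2.2 + y.2.2 + x.1 * y.2.1)

/-- the endomorphism sending the generators to `β`, `γ` -/
def endo (β γ : 𝔽 × 𝔽 × 𝔽) (m : 𝔽 × 𝔽 × 𝔽) : 𝔽 × 𝔽 × 𝔽 :=
  mop (mop (if m.1 = 1 then β else 0) (if m.2.1 = 1 then γ else 0))
    (if m.2.2 + m.1 * m.2.1 = 1 then mop (mop β γ) (mop β γ) else 0)

set_option synthInstance.maxSize 4000 in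
set_option maxSynthPendingDepth 5 in
lemma endo_iter : ∀ β γ : 𝔽 × 𝔽 × 𝔽, mop β β = 0 → mop γ γ = 0 →
    (∀ m : 𝔽 × 𝔽 × 𝔽, endo β γ m = 0 → m = 0) →
    endo β γ (endo β γ (endo β γ (endo β γ (1, 0, 0)))) = (1, 0, 0) ∧
    endo β γ (endo β γ (endo β γ (endo β γ (0, 1, 0)))) = (0, 1, 0) := by
  decide +kernel

lemma actM_inj {b c f b' c' f' : 𝔽} (h : actM b c f = actM b' c' f') :
    (b, c, f) = (b', c', f') := by
  have h1 := congrFun (congrFun h 3) 4
  have h2 := congrFun (congrFun h 4) 5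
  have h3 := congrFun (congrFun h 3) 5
  simp [actM] at h1 h2 h3
  simp [h1, h2, h3]

attribute [local irreducible] actM endo

section Abstract

variable {X : Type*} [Group X] [Finite X]

/-- the data -/
structure Data (ρ : X →* Mat) (D : Subgroup X) : Prop where
  inj : Function.Injective ρ
  two : IsPGroup 2 D
  idx : ¬ 2 ∣ D.index
  shape : ∀ d ∈ D, ∃ b c f, ρ d = actM b c f
  surj : ∀ b c f, ∃ d ∈ D, ρ d = actM b c f

variable {ρ : X →* Mat} {D : Subgroup X}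

lemma Data.mulVec_inj (_h : Data ρ D) (x : X) : Function.Injective fun v : Vec => ρ x *ᵥ v := by
  intro v w e
  have := congrArg (fun u => ρ x⁻¹ *ᵥ u) e
  simpa [Matrix.mulVec_mulVec, ← map_mul] using this

lemma Data.comm (h : Data ρ D) {d : X} (hd : d ∈ D) : proj1 * ρ d = ρ d * proj1 := by
  obtain ⟨b, c, f, e⟩ := h.shape d hd
  rw [e, proj1_comm]

lemma Data.mem_two (h : Data ρ D) {x : X} (hN : x ∈ Subgroup.normalizer (D : Set X))
    (hx : IsPGroup 2 ↥(Subgroup.zpowers x)) : x ∈ D := by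
  haveI : Fact (Nat.Prime 2) := ⟨Nat.prime_two⟩
  let P : Sylow 2 X := h.two.toSylow h.idx
  have hsup : IsPGroup 2 ↥(Subgroup.zpowers x ⊔ D) :=
    IsPGroup.to_sup_of_normal_right' hx h.two (Subgroup.zpowers_le.2 hN)
  have : Subgroup.zpowers x ⊔ D = (P : Subgroup X) := P.is_maximal' hsup le_sup_right
  exact this.le.trans (le_of_eq (IsPGroup.toSylow_coe _ _))
    ((le_sup_left : Subgroup.zpowers x ≤ _) (Subgroup.mem_zpowers x))

/-- the Sylow 2-subgroup is self-normalising -/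
theorem Data.normalizer_le (h : Data ρ D) : Subgroup.normalizer (D : Set X) ≤ D := by
  haveI : Fact (Nat.Prime 2) := ⟨Nat.prime_two⟩
  intro x hx
  let m : 𝔽 × 𝔽 × 𝔽 → Mat := fun t => actM t.1 t.2.1 t.2.2
  have hm : ∀ s t, m (mop s t) = m s * m t := fun s t => (actM_mul _ _ _ _ _ _).symm
  have hm0 : m 0 = 1 := actM_zero
  have hmi : Function.Injective m := fun s t e => actM_inj e
  have hsh : ∀ d ∈ D, ∃ t, ρ d = m t := fun d hd => by
    obtain ⟨b, c, f, e⟩ := h.shape d hd; exact ⟨(b, c, f), e⟩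
  obtain ⟨dB, hdB, eB⟩ := h.surj 1 0 0
  obtain ⟨dC, hdC, eC⟩ := h.surj 0 1 0
  have hconj : ∀ d ∈ D, x * d * x⁻¹ ∈ D := fun d hd => (Subgroup.mem_normalizer_iff.1 hx d).1 hd
  obtain ⟨β, hβ⟩ := hsh _ (hconj dB hdB)
  obtain ⟨γ, hγ⟩ := hsh _ (hconj dC hdC)
  have hkey : ∀ d ∈ D, ∀ t, ρ d = m t → ρ (x * d * x⁻¹) = m (endo β γ t) := by
    intro d hd t ht
    have hgen : ρ d = ρ ((if t.1 = 1 then dB else 1) * (if t.2.1 = 1 then dC else 1) *
        (if t.2.2 + t.1 * t.2.1 = 1 then dB * dC * (dB * dC) else 1)) := by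
      have e1 : ρ (if t.1 = 1 then dB else 1) = m (t.1, 0, 0) := by
        rcases z2 t.1 with e | e <;> simp [e, eB, m, actM_zero]
      have e2 : ρ (if t.2.1 = 1 then dC else 1) = m (0, t.2.1, 0) := by
        rcases z2 t.2.1 with e | e <;> simp [e, eC, m, actM_zero]
      have e3 : ρ (if t.2.2 + t.1 * t.2.1 = 1 then dB * dC * (dB * dC) else 1) =
          m (0, 0, t.2.2 + t.1 * t.2.1) := by
        rcases z2 (t.2.2 + t.1 * t.2.1) with e | e
        · simp [e, m, actM_zero]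
        · rw [if_pos e, map_mul, map_mul, eB, eC, actM_mul, actM_mul, e]
          show _ = actM 0 0 1
          congr 1 <;> decide
      rw [map_mul, map_mul, e1, e2, e3, ← hm, ← hm, ht]
      congr 1
      simp [mop]
      ring_nf
      simp [show (2 : 𝔽) = 0 from rfl]
    have hd' := h.inj hgen
    have e1 : ρ (x * (if t.1 = 1 then dB else 1) * x⁻¹) = m (if t.1 = 1 then β else 0) := by
      split <;> [exact hβ; simp [hm0]]
    have e2 : ρ (x * (if t.2.1 = 1 then dC else 1) * x⁻¹) = m (if t.2.1 = 1 then γ else 0) := by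
      split <;> [exact hγ; simp [hm0]]
    have e3 : ρ (x * (if t.2.2 + t.1 * t.2.1 = 1 then dB * dC * (dB * dC) else 1) * x⁻¹) =
        m (if t.2.2 + t.1 * t.2.1 = 1 then mop (mop β γ) (mop β γ) else 0) := by
      split
      · rw [show x * (dB * dC * (dB * dC)) * x⁻¹ =
          x * dB * x⁻¹ * (x * dC * x⁻¹) * (x * dB * x⁻¹ * (x * dC * x⁻¹)) by group,
          map_mul, map_mul, hβ, hγ, ← hm, ← hm]
      · simp [hm0]
    unfold endo
    rw [hm, hm, ← e1, ← e2, ← e3, ← map_mul, ← map_mul]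
    congr 1
    conv_lhs => rw [hd']
    group
  have hsq : ∀ (d : X) (t : 𝔽 × 𝔽 × 𝔽), ρ d = m t → d * d = 1 → mop t t = 0 := fun d t e e2 =>
    hmi (by rw [hm, ← e, ← map_mul, e2, map_one, hm0])
  have hBB : dB * dB = 1 := h.inj (by
    rw [map_mul, eB, actM_mul, map_one, ← actM_zero]; congr 1)
  have hCC : dC * dC = 1 := h.inj (by
    rw [map_mul, eC, actM_mul, map_one, ← actM_zero]; congr 1)
  have hi : ∀ t, endo β γ t = 0 → t = 0 := by
    intro t ht
    obtain ⟨d, hd, ed⟩ := h.surj t.1 t.2.1 t.2.2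
    have h1 := hkey d hd t ed
    rw [ht, hm0, ← map_one ρ] at h1
    have : d = 1 := by
      calc d = x⁻¹ * (x * d * x⁻¹) * x := by group
        _ = 1 := by rw [h.inj h1]; group
    rw [this, map_one] at ed
    exact (hmi (hm0.trans ed)).symm
  obtain ⟨f1, f2⟩ := endo_iter β γ
    (hsq _ β hβ (by rw [show x * dB * x⁻¹ * (x * dB * x⁻¹) = x * (dB * dB) * x⁻¹ by group, hBB]; group))
    (hsq _ γ hγ (by rw [show x * dC * x⁻¹ * (x * dC * x⁻¹) = x * (dC * dC) * x⁻¹ by group, hCC]; group))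
    hi
  have hit : ∀ d ∈ D, ∀ t, ρ d = m t →
      ρ (x ^ 4 * d * (x ^ 4)⁻¹) = m (endo β γ (endo β γ (endo β γ (endo β γ t)))) := by
    intro d hd t ht
    have h1 := hkey d hd t ht
    have h2 := hkey _ (hconj d hd) _ h1
    have h3 := hkey _ (hconj _ (hconj d hd)) _ h2
    have h4 := hkey _ (hconj _ (hconj _ (hconj d hd))) _ h3
    rw [show x ^ 4 * d * (x ^ 4)⁻¹ = x * (x * (x * (x * d * x⁻¹) * x⁻¹) * x⁻¹) * x⁻¹ by
      simp [pow_succ, mul_assoc]]
    exact h4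
  have hB4 : ρ (x ^ 4 * dB * (x ^ 4)⁻¹) = actM 1 0 0 :=
    (hit dB hdB (1, 0, 0) eB).trans (congrArg m f1)
  have hC4 : ρ (x ^ 4 * dC * (x ^ 4)⁻¹) = actM 0 1 0 :=
    (hit dC hdC (0, 1, 0) eC).trans (congrArg m f2)
  have hcommB : ρ (x ^ 4) * actM 1 0 0 = actM 1 0 0 * ρ (x ^ 4) := by
    have e : x ^ 4 * dB = dB * x ^ 4 := mul_inv_eq_iff_eq_mul.1 (h.inj (hB4.trans eB.symm))
    rw [← eB, ← map_mul, ← map_mul, e]
  have hcommC : ρ (x ^ 4) * actM 0 1 0 = actM 0 1 0 * ρ (x ^ 4) := by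
    have e : x ^ 4 * dC = dC * x ^ 4 := mul_inv_eq_iff_eq_mul.1 (h.inj (hC4.trans eC.symm))
    rw [← eC, ← map_mul, ← map_mul, e]
  have h16 : x ^ (2 ^ 4) = 1 := h.inj (by
    rw [show (2 : ℕ) ^ 4 = 4 * 4 by norm_num, pow_mul, map_pow, map_one,
      pow_four_of_commute hcommB hcommC (h.mulVec_inj _)])
  refine h.mem_two hx fun g => ?_
  obtain ⟨g, k, rfl⟩ := g
  exact ⟨4, Subtype.ext (by
    show (x ^ k) ^ (2 ^ 4) = 1
    rw [← zpow_natCast, ← _root_.zpow_mul, mul_comm, _root_.zpow_mul, zpow_natCast, h16, _root_.one_zpow])⟩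

/-- summand of the relative trace of the projection -/
noncomputable def term (ρ : X →* Mat) (D : Subgroup X) (q : X ⧸ D) : Mat :=
  ρ q.out * proj1 * ρ q.out⁻¹

lemma Data.term_mk (h : Data ρ D) (g : X) :
    term ρ D (g : X ⧸ D) = ρ g * proj1 * ρ g⁻¹ := by
  obtain ⟨d, hd⟩ := QuotientGroup.mk_out_eq_mul D g
  unfold term
  rw [hd, _root_.mul_inv_rev, map_mul, map_mul]
  have hc := h.comm d.2
  have h1 : ρ d.1 * ρ (d.1)⁻¹ = 1 := by rw [← map_mul, mul_inv_cancel, map_one]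
  calc ρ g * ρ d.1 * proj1 * (ρ (d.1)⁻¹ * ρ g⁻¹) = ρ g * (ρ d.1 * proj1) * ρ (d.1)⁻¹ * ρ g⁻¹ := by
        simp only [mul_assoc]
    _ = ρ g * (proj1 * ρ d.1) * ρ (d.1)⁻¹ * ρ g⁻¹ := by rw [hc]
    _ = ρ g * proj1 * (ρ d.1 * ρ (d.1)⁻¹) * ρ g⁻¹ := by simp only [mul_assoc]
    _ = ρ g * proj1 * ρ g⁻¹ := by rw [h1, mul_one]

/-- the equivariant endomorphism with its two traces -/
theorem Data.exists_equivariant (h : Data ρ D) :
    ∃ M : Mat, (∀ x, ρ x * M = M * ρ x) ∧ Matrix.trace (proj1 * M) = 1 ∧ Matrix.trace M = 1 := by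
  classical
  haveI : Fact (Nat.Prime 2) := ⟨Nat.prime_two⟩
  haveI : Fintype (X ⧸ D) := Fintype.ofFinite _
  refine ⟨∑ q, term ρ D q, fun x => ?_, ?_, ?_⟩
  · have key : ρ x * (∑ q, term ρ D q) * ρ x⁻¹ = ∑ q, term ρ D q := by
      rw [Finset.mul_sum, Finset.sum_mul]
      refine Fintype.sum_equiv (MulAction.toPerm x) _ _ fun q => ?_
      obtain ⟨g, rfl⟩ := QuotientGroup.mk_surjective q
      rw [MulAction.toPerm_apply, MulAction.Quotient.smul_mk, h.term_mk, h.term_mk, smul_eq_mul,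
        map_mul, _root_.mul_inv_rev, map_mul]
      simp only [mul_assoc]
    conv_rhs => rw [← key]
    rw [mul_assoc (ρ x * _), ← map_mul, inv_mul_cancel, map_one, mul_one]
  · rw [Finset.mul_sum, Matrix.trace_sum]
    let φ : X ⧸ D → 𝔽 := fun q => Matrix.trace (proj1 * term ρ D q)
    have hinv : ∀ (d : D) (q : X ⧸ D), φ (d • q) = φ q := by
      intro d q
      obtain ⟨g, rfl⟩ := QuotientGroup.mk_surjective q
      show Matrix.trace (proj1 * term ρ D ((d.1 * g : X) : X ⧸ D)) = _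
      rw [h.term_mk]
      show _ = Matrix.trace (proj1 * term ρ D (g : X ⧸ D))
      rw [h.term_mk, map_mul, _root_.mul_inv_rev, map_mul]
      rw [show proj1 * (ρ d.1 * ρ g * proj1 * (ρ g⁻¹ * ρ (d.1)⁻¹)) =
        ρ d.1 * (proj1 * (ρ g * proj1 * ρ g⁻¹)) * ρ (d.1)⁻¹ by
          rw [← mul_assoc (ρ d.1) proj1, ← h.comm d.2]; simp only [mul_assoc],
        Matrix.trace_mul_comm, ← mul_assoc, ← map_mul, inv_mul_cancel, map_one, one_mul]
    have hsum : ∀ F : X ⧸ D → 𝔽, ∑ q, F q = ((Nat.card {q // F q = 1} : ℕ) : 𝔽) := fun F => by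
      rw [Nat.card_eq_fintype_card, Fintype.card_subtype, ← Finset.sum_boole]
      refine Finset.sum_congr rfl fun q _ => ?_
      rcases z2 (F q) with e | e <;> simp [e]
    show ∑ q, φ q = 1
    rw [hsum φ]
    let Y := {q : X ⧸ D // φ q = 1}
    letI : MulAction D Y :=
      { smul := fun d q => ⟨d • q.1, (hinv d q.1).trans q.2⟩
        one_smul := fun q => Subtype.ext (one_smul D q.1)
        mul_smul := fun a b q => Subtype.ext (mul_smul a b q.1) }
    have hmod := h.two.card_modEq_card_fixedPoints Y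
    have h1 : φ ((1 : X) : X ⧸ D) = 1 := by
      show Matrix.trace (proj1 * term ρ D _) = 1
      rw [h.term_mk, inv_one, map_one, one_mul, mul_one]
      rw [show proj1 * proj1 = proj1 by
        rw [proj1, Matrix.diagonal_mul_diagonal]; congr 1; funext k; fin_cases k <;> simp]
      exact trace_proj1
    have hfix : Nat.card (MulAction.fixedPoints D Y) = 1 := by
      rw [Nat.card_eq_one_iff_exists]
      refine ⟨⟨⟨_, h1⟩, fun d => Subtype.ext ?_⟩, ?_⟩
      · show ((d.1 * 1 : X) : X ⧸ D) = _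
        rw [QuotientGroup.eq, mul_one]
        simpa using inv_mem d.2
      · rintro ⟨⟨q, hq⟩, hqfix⟩
        obtain ⟨g, rfl⟩ := QuotientGroup.mk_surjective q
        refine Subtype.ext (Subtype.ext ?_)
        show ((g : X) : X ⧸ D) = ((1 : X) : X ⧸ D)
        have hg : g⁻¹ ∈ Subgroup.normalizer (D : Set X) := by
          have hfw : ∀ d ∈ D, g⁻¹ * d * g ∈ D := fun d hd => by
            have e : ((d * g : X) : X ⧸ D) = (g : X ⧸ D) :=
              congrArg Subtype.val (hqfix ⟨d, hd⟩)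
            have := inv_mem (QuotientGroup.eq.1 e)
            rwa [show ((d * g)⁻¹ * g)⁻¹ = g⁻¹ * d * g by group] at this
          have hle : D.map (MulAut.conj g⁻¹).toMonoidHom ≤ D := by
            rintro _ ⟨d, hd, rfl⟩; simpa using hfw d hd
          have heq := Subgroup.eq_of_le_of_card_ge hle
            (by rw [Subgroup.card_map_of_injective (MulAut.conj g⁻¹).injective])
          exact Subgroup.mem_normalizer_iff_map_conj_eq.2 heq
        rw [QuotientGroup.eq, mul_one]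
        exact h.normalizer_le hg
    rw [hfix] at hmod
    rw [(ZMod.natCast_eq_natCast_iff _ 1 2).2 hmod, Nat.cast_one]
  · rw [Matrix.trace_sum]
    have : ∀ q, Matrix.trace (term ρ D q) = 1 := fun q => by
      unfold term
      rw [Matrix.trace_mul_comm, ← mul_assoc, ← map_mul, inv_mul_cancel, map_one, one_mul,
        trace_proj1]
    rw [Finset.sum_congr rfl fun q _ => this q, Finset.sum_const, Finset.card_univ, nsmul_one,
      ← Nat.card_eq_fintype_card, ← Subgroup.index]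
    exact ZMod.natCast_eq_one_iff_odd.2 (Nat.odd_iff.2 (Nat.two_dvd_ne_zero.1 h.idx))

end Abstract

end Cfsg.Agent.M24SylowModule20
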