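import Cfsg.Prelude.Def_Transfer
import Mathlib

set_option autoImplicit false

/-!
The upper unitriangular group of degree five over the field of two elements and its quotient by
the centre.
-/

namespace Cfsg.Agent.UniFiveTwo59

local notation "𝔽" => ZMod 2

/-- The quotient modulo the corner entry. -/
@[ext] structure T : Type where
  a : 𝔽
  b : 𝔽
  c : 𝔽
  d : 𝔽
  e : 𝔽
  f : 𝔽
  g : 𝔽
  h : 𝔽
  i : 𝔽

instance : Mul T := ⟨fun x y => ⟨x.a + y.a, x.b + y.b, x.c + y.c, x.d + y.d, x.e + y.e + x.a * y.b,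
  x.f + y.f + x.b * y.c, x.g + y.g + x.c * y.d, x.h + y.h + x.a * y.f + x.e * y.c,
  x.i + y.i + x.b * y.g + x.f * y.d⟩⟩
instance : One T := ⟨⟨0, 0, 0, 0, 0, 0, 0, 0, 0⟩⟩
instance : Inv T := ⟨fun x => ⟨x.a, x.b, x.c, x.d, x.e + x.a * x.b, x.f + x.b * x.c,
  x.g + x.c * x.d, x.h + x.a * x.f + (x.e + x.a * x.b) * x.c,
  x.i + x.b * x.g + (x.f + x.b * x.c) * x.d⟩⟩

lemma mul_def (x y : T) : x * y = ⟨x.a + y.a, x.b + y.b, x.c + y.c, x.d + y.d, x.e + y.e + x.a * y.b,
  x.f + y.f + x.b * y.c, x.g + y.g + x.c * y.d, x.h + y.h + x.a * y.f + x.e * y.c,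
  x.i + y.i + x.b * y.g + x.f * y.d⟩ := rfl

lemma one_def : (1 : T) = ⟨0, 0, 0, 0, 0, 0, 0, 0, 0⟩ := rfl

lemma two_zero : (2 : 𝔽) = 0 := rfl

lemma z2 (s : 𝔽) : s = 0 ∨ s = 1 := by revert s; decide

instance : Group T where
  mul_assoc x y z := by ext <;> simp only [mul_def] <;> ring
  one_mul x := by ext <;> simp [mul_def, one_def]
  mul_one x := by ext <;> simp [mul_def, one_def]
  inv_mul_cancel x := by
    have h := two_zero
    ext <;> simp only [mul_def, one_def, Inv.inv]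
    · linear_combination x.a * h
    · linear_combination x.b * h
    · linear_combination x.c * h
    · linear_combination x.d * h
    · linear_combination (x.e + x.a * x.b) * h
    · linear_combination (x.f + x.b * x.c) * h
    · linear_combination (x.g + x.c * x.d) * h
    · linear_combination (x.h + x.a * x.f + (x.e + x.a * x.b) * x.c) * h
    · linear_combination (x.i + x.b * x.g + (x.f + x.b * x.c) * x.d) * h

/-- coordinates -/
def coords : T ≃ (Fin 9 → 𝔽) where
  toFun x := ![x.a, x.b, x.c, x.d, x.e, x.f, x.g, x.h, x.i]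
  invFun v := ⟨v 0, v 1, v 2, v 3, v 4, v 5, v 6, v 7, v 8⟩
  left_inv x := rfl
  right_inv v := by funext k; fin_cases k <;> rfl

instance : Finite T := Finite.of_equiv _ coords.symm

lemma card_T : Nat.card T = 2 ^ 9 := by rw [Nat.card_congr coords]; simp

lemma isPGroup_T : IsPGroup 2 T := IsPGroup.of_card card_T

/-- The abelian subgroup of order 64. -/
def A : Subgroup T where
  carrier := {x | x.b = 0 ∧ x.c = 0 ∧ x.f = 0}
  mul_mem' := fun {x y} hx hy => by
    obtain ⟨h1, h2, h3⟩ := hx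
    obtain ⟨k1, k2, k3⟩ := hy
    simp [mul_def, h1, h2, h3, k1, k2, k3]
  one_mem' := ⟨rfl, rfl, rfl⟩
  inv_mem' := fun {x} hx => by
    obtain ⟨h1, h2, h3⟩ := hx
    exact ⟨h1, h2, show x.f + x.b * x.c = 0 by simp [h1, h2, h3]⟩

lemma A_elementary : Cfsg.IsElementaryAbelian 2 A := by
  refine ⟨⟨⟨fun x y => Subtype.ext ?_⟩⟩, fun x hx => ?_⟩
  · obtain ⟨x, h1, h2, h3⟩ := x
    obtain ⟨y, k1, k2, k3⟩ := y
    show x * y = y * x
    ext <;> simp [mul_def, h1, h2, h3, k1, k2, k3] <;> ring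
  · obtain ⟨h1, h2, h3⟩ := hx
    have h := CharTwo.add_self_eq_zero (R := 𝔽)
    ext <;> simp [pow_two, mul_def, one_def, h1, h2, h3, h]

lemma card_A : Nat.card A = 64 := by
  let e : A ≃ (Fin 6 → 𝔽) :=
    { toFun := fun x => ![x.1.a, x.1.d, x.1.e, x.1.g, x.1.h, x.1.i]
      invFun := fun v => ⟨⟨v 0, 0, 0, v 1, v 2, 0, v 3, v 4, v 5⟩, rfl, rfl, rfl⟩
      left_inv := fun x => by
        obtain ⟨x, h1, h2, h3⟩ := x
        refine Subtype.ext ?_
        ext <;> simp [h1, h2, h3]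
      right_inv := fun v => by funext k; fin_cases k <;> rfl }
  rw [Nat.card_congr e]; simp

/-- A subgroup contains at most as many elements as possible images times possible kernel values. -/
lemma card_le_bound (B : Subgroup T) {κ ι : Type} [Finite κ] [Finite ι] (key : T → κ) (val : T → ι)
    (him : ∀ x ∈ B, ∀ y ∈ B, val x = val y → x.b = y.b ∧ x.c = y.c ∧ x.f = y.f)
    (hker : ∀ x ∈ B, ∀ y ∈ B, x ∈ A → y ∈ A → key x = key y → x = y) :
    Nat.card B ≤ Nat.card ι * Nat.card κ := by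
  classical
  let rep : ι → T := fun v => if h : ∃ x ∈ B, val x = v then h.choose else 1
  have hrep : ∀ x ∈ B, rep (val x) ∈ B ∧ val (rep (val x)) = val x := by
    intro x hx
    have h : ∃ y ∈ B, val y = val x := ⟨x, hx, rfl⟩
    simp only [rep, dif_pos h]
    exact h.choose_spec
  have hA : ∀ x ∈ B, (rep (val x))⁻¹ * x ∈ A := by
    intro x hx
    obtain ⟨h1, h2, h3⟩ := him _ (hrep x hx).1 x hx (hrep x hx).2
    have h := CharTwo.add_self_eq_zero (R := 𝔽)
    refine ⟨?_, ?_, ?_⟩ <;> simp [mul_def, Inv.inv, h1, h2, h3, h] <;> ring_nf <;> simp [two_zero]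
  rw [← Nat.card_prod]
  refine Nat.card_le_card_of_injective (fun x : B => (val x.1, key ((rep (val x.1))⁻¹ * x.1))) ?_
  rintro ⟨x, hx⟩ ⟨y, hy⟩ he
  simp only [Prod.mk.injEq] at he
  obtain ⟨hv, hk⟩ := he
  have h := hker _ (mul_mem (inv_mem (hrep x hx).1) hx) _ (mul_mem (inv_mem (hrep y hy).1) hy)
    (hA x hx) (hA y hy) hk
  rw [hv] at h
  exact Subtype.ext (mul_left_cancel h)

lemma comm_eqs {x y : T} (h : x * y = y * x) (hy : y ∈ A) :
    y.a * x.b = 0 ∧ x.c * y.d = 0 ∧ x.a * 0 + x.e * 0 + y.a * x.f + y.e * x.c = 0 ∧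
      x.b * y.g + x.f * y.d = 0 := by
  obtain ⟨k1, k2, k3⟩ := hy
  simp only [mul_def, T.ext_iff, k1, k2, k3] at h
  obtain ⟨-, -, -, -, he, -, hg, hh, hi⟩ := h
  refine ⟨?_, ?_, ?_, ?_⟩
  · linear_combination -he
  · linear_combination hg
  · linear_combination -hh
  · linear_combination hi

lemma eq_A {B : Subgroup T} (hB : IsMulCommutative ↥B) (hcard : Nat.card ↥B = 64) : B = A := by
  have hcomm : ∀ x ∈ B, ∀ y ∈ B, x * y = y * x := fun x hx y hy =>
    congrArg Subtype.val (hB.is_comm.comm ⟨x, hx⟩ ⟨y, hy⟩)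
  suffices hle : ∀ x ∈ B, x.b = 0 ∧ x.c = 0 ∧ x.f = 0 from
    Subgroup.eq_of_le_of_card_ge hle (le_of_eq (card_A.trans hcard.symm))
  have hext : ∀ {x y : T}, x ∈ A → y ∈ A → x.a = y.a → x.d = y.d → x.e = y.e → x.g = y.g →
      x.h = y.h → x.i = y.i → x = y := fun hx hy h1 h2 h3 h4 h5 h6 =>
    T.ext h1 (hx.1.trans hy.1.symm) (hx.2.1.trans hy.2.1.symm) h2 h3 (hx.2.2.trans hy.2.2.symm)
      h4 h5 h6
  have hb : ∀ x ∈ B, x.b = 0 := by
    by_contra! hne
    obtain ⟨x, hx, hxb⟩ := hne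
    replace hxb := (z2 x.b).resolve_left hxb
    have eqs : ∀ k ∈ B, k ∈ A → k.a = 0 ∧ x.c * k.d = 0 ∧ k.e * x.c = 0 ∧ k.g = -(x.f * k.d) := by
      intro k hk hkA
      obtain ⟨e1, e2, e3, e4⟩ := comm_eqs (hcomm x hx k hk) hkA
      rw [hxb, mul_one] at e1
      rw [hxb, one_mul] at e4
      rw [e1] at e3
      exact ⟨e1, e2, by linear_combination e3, by linear_combination e4⟩
    by_cases hc : ∃ y ∈ B, y.c = 1
    · obtain ⟨y, hy, hyc⟩ := hc
      have := card_le_bound B (κ := 𝔽 × 𝔽) (ι := 𝔽 × 𝔽 × 𝔽) (fun k => (k.h, k.i))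
        (fun k => (k.b, k.c, k.f))
        (fun u _ v _ h => by simp only [Prod.mk.injEq] at h; exact h)
        (fun k hk l hl hkA hlA h => by
          simp only [Prod.mk.injEq] at h
          have key : ∀ k ∈ B, k ∈ A → k.a = 0 ∧ k.d = 0 ∧ k.e = 0 ∧ k.g = 0 := by
            intro k hk hkA
            obtain ⟨e1, -, -, e4⟩ := eqs k hk hkA
            obtain ⟨-, f2, f3, -⟩ := comm_eqs (hcomm y hy k hk) hkA
            rw [hyc, one_mul] at f2
            rw [hyc, e1] at f3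
            rw [f2] at e4
            exact ⟨e1, f2, by linear_combination f3, by linear_combination e4⟩
          obtain ⟨a1, a2, a3, a4⟩ := key k hk hkA
          obtain ⟨b1, b2, b3, b4⟩ := key l hl hlA
          exact hext hkA hlA (a1.trans b1.symm) (a2.trans b2.symm) (a3.trans b3.symm)
            (a4.trans b4.symm) h.1 h.2)
      rw [hcard] at this; simp at this
    push Not at hc
    have hc0 : ∀ y ∈ B, y.c = 0 := fun y hy => (z2 y.c).resolve_right (hc y hy)
    by_cases h2 : ∃ y ∈ B, (y.b = 0 ∧ y.f = 1) ∨ (y.b = 1 ∧ y.f ≠ x.f)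
    · obtain ⟨y, hy, hy'⟩ := h2
      have := card_le_bound B (κ := 𝔽 × 𝔽 × 𝔽) (ι := 𝔽 × 𝔽) (fun k => (k.e, k.h, k.i))
        (fun k => (k.b, k.f))
        (fun u hu v hv h => by
          simp only [Prod.mk.injEq] at h
          exact ⟨h.1, (hc0 u hu).trans (hc0 v hv).symm, h.2⟩)
        (fun k hk l hl hkA hlA h => by
          simp only [Prod.mk.injEq] at h
          have key : ∀ k ∈ B, k ∈ A → k.a = 0 ∧ k.d = 0 ∧ k.g = 0 := by
            intro k hk hkA
            obtain ⟨e1, -, -, e4⟩ := eqs k hk hkA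
            obtain ⟨-, -, -, f4⟩ := comm_eqs (hcomm y hy k hk) hkA
            have hd : k.d = 0 := by
              rcases hy' with ⟨h1, h1'⟩ | ⟨h1, h1'⟩
              · rw [h1, h1'] at f4; linear_combination f4
              · rw [h1] at f4
                rcases z2 x.f with hx0 | hx0 <;> rcases z2 y.f with hy0 | hy0 <;>
                  simp [hx0, hy0] at h1' e4 f4
                · rw [e4, zero_add] at f4; exact f4
                · rw [f4] at e4; simpa [eq_comm] using e4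
            exact ⟨e1, hd, by rw [hd] at e4; linear_combination e4⟩
          obtain ⟨a1, a2, a4⟩ := key k hk hkA
          obtain ⟨b1, b2, b4⟩ := key l hl hlA
          exact hext hkA hlA (a1.trans b1.symm) (a2.trans b2.symm) h.1
            (a4.trans b4.symm) h.2.1 h.2.2)
      rw [hcard] at this; simp at this
    push Not at h2
    have := card_le_bound B (κ := 𝔽 × 𝔽 × 𝔽 × 𝔽) (ι := 𝔽) (fun k => (k.d, k.e, k.h, k.i))
      (fun k => k.b)
      (fun u hu v hv h => by
        refine ⟨h, (hc0 u hu).trans (hc0 v hv).symm, ?_⟩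
        rcases z2 u.b with e | e
        · exact ((z2 u.f).resolve_right ((h2 u hu).1 e)).trans
            ((z2 v.f).resolve_right ((h2 v hv).1 (h ▸ e))).symm
        · exact ((h2 u hu).2 e).trans ((h2 v hv).2 (h ▸ e)).symm)
      (fun k hk l hl hkA hlA h => by
        simp only [Prod.mk.injEq] at h
        exact hext hkA hlA ((eqs k hk hkA).1.trans (eqs l hl hlA).1.symm) h.1 h.2.1
          (by rw [(eqs k hk hkA).2.2.2, (eqs l hl hlA).2.2.2, h.1]) h.2.2.1 h.2.2.2)
    rw [hcard] at this; simp at this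
  have hc : ∀ x ∈ B, x.c = 0 := by
    by_contra! hne
    obtain ⟨x, hx, hxc⟩ := hne
    replace hxc := (z2 x.c).resolve_left hxc
    have eqs : ∀ k ∈ B, k ∈ A → k.d = 0 ∧ k.e = -(k.a * x.f) := by
      intro k hk hkA
      obtain ⟨-, e2, e3, -⟩ := comm_eqs (hcomm x hx k hk) hkA
      rw [hxc, one_mul] at e2
      rw [hxc] at e3
      exact ⟨e2, by linear_combination e3⟩
    by_cases h2 : ∃ y ∈ B, (y.c = 0 ∧ y.f = 1) ∨ (y.c = 1 ∧ y.f ≠ x.f)
    · obtain ⟨y, hy, hy'⟩ := h2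
      have := card_le_bound B (κ := 𝔽 × 𝔽 × 𝔽) (ι := 𝔽 × 𝔽) (fun k => (k.g, k.h, k.i))
        (fun k => (k.c, k.f))
        (fun u hu v hv h => by
          simp only [Prod.mk.injEq] at h
          exact ⟨(hb u hu).trans (hb v hv).symm, h.1, h.2⟩)
        (fun k hk l hl hkA hlA h => by
          simp only [Prod.mk.injEq] at h
          have key : ∀ k ∈ B, k ∈ A → k.a = 0 ∧ k.d = 0 ∧ k.e = 0 := by
            intro k hk hkA
            obtain ⟨e1, e2⟩ := eqs k hk hkA
            obtain ⟨-, -, f3, -⟩ := comm_eqs (hcomm y hy k hk) hkA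
            have ha : k.a = 0 := by
              rcases hy' with ⟨h1, h1'⟩ | ⟨h1, h1'⟩
              · rw [h1, h1'] at f3; linear_combination f3
              · rw [h1, e2] at f3
                rcases z2 x.f with hx0 | hx0 <;> rcases z2 y.f with hy0 | hy0 <;>
                  simp [hx0, hy0] at h1' f3 <;> exact f3
            exact ⟨ha, e1, by rw [e2, ha]; ring⟩
          obtain ⟨a1, a2, a3⟩ := key k hk hkA
          obtain ⟨b1, b2, b3⟩ := key l hl hlA
          exact hext hkA hlA (a1.trans b1.symm) (a2.trans b2.symm) (a3.trans b3.symm)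
            h.1 h.2.1 h.2.2)
      rw [hcard] at this; simp at this
    push Not at h2
    have := card_le_bound B (κ := 𝔽 × 𝔽 × 𝔽 × 𝔽) (ι := 𝔽) (fun k => (k.a, k.g, k.h, k.i))
      (fun k => k.c)
      (fun u hu v hv h => by
        refine ⟨(hb u hu).trans (hb v hv).symm, h, ?_⟩
        rcases z2 u.c with e | e
        · exact ((z2 u.f).resolve_right ((h2 u hu).1 e)).trans
            ((z2 v.f).resolve_right ((h2 v hv).1 (h ▸ e))).symm
        · exact ((h2 u hu).2 e).trans ((h2 v hv).2 (h ▸ e)).symm)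
      (fun k hk l hl hkA hlA h => by
        simp only [Prod.mk.injEq] at h
        exact hext hkA hlA h.1 ((eqs k hk hkA).1.trans (eqs l hl hlA).1.symm)
          (by rw [(eqs k hk hkA).2, (eqs l hl hlA).2, h.1]) h.2.1 h.2.2.1 h.2.2.2)
    rw [hcard] at this; simp at this
  intro x hx
  refine ⟨hb x hx, hc x hx, ?_⟩
  by_contra hxf
  replace hxf := (z2 x.f).resolve_left hxf
  have eqs : ∀ k ∈ B, k ∈ A → k.a = 0 ∧ k.d = 0 := by
    intro k hk hkA
    obtain ⟨-, -, e3, e4⟩ := comm_eqs (hcomm x hx k hk) hkA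
    rw [hxf, hc x hx] at e3
    rw [hxf, hb x hx] at e4
    exact ⟨by linear_combination e3, by linear_combination e4⟩
  have := card_le_bound B (κ := 𝔽 × 𝔽 × 𝔽 × 𝔽) (ι := 𝔽) (fun k => (k.e, k.g, k.h, k.i))
    (fun k => k.f)
    (fun u hu v hv h => ⟨(hb u hu).trans (hb v hv).symm, (hc u hu).trans (hc v hv).symm, h⟩)
    (fun k hk l hl hkA hlA h => by
      simp only [Prod.mk.injEq] at h
      exact hext hkA hlA ((eqs k hk hkA).1.trans (eqs l hl hlA).1.symm)
        ((eqs k hk hkA).2.trans (eqs l hl hlA).2.symm) h.1 h.2.1 h.2.2.1 h.2.2.2)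
  rw [hcard] at this; simp at this

/-- Index of a maximal subgroup. -/
lemma index_two {M : Subgroup T} (hM : IsCoatom M) : M.index = 2 := by
  haveI : Fact (Nat.Prime 2) := ⟨Nat.prime_two⟩
  haveI := isPGroup_T.isNilpotent
  haveI : M.Normal :=
    Subgroup.NormalizerCondition.normal_of_coatom M Group.normalizerCondition_of_isNilpotent hM
  haveI : IsSimpleGroup (T ⧸ M) := by
    haveI : Nontrivial (T ⧸ M) := QuotientGroup.nontrivial_iff.2 hM.1
    refine ⟨fun K hK => ?_⟩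
    have hle : M ≤ K.comap (QuotientGroup.mk' M) := fun x hx => by
      rw [Subgroup.mem_comap, QuotientGroup.mk'_apply, (QuotientGroup.eq_one_iff x).2 hx]
      exact one_mem _
    rcases hle.eq_or_lt with h | h
    · left
      rw [← Subgroup.map_comap_eq_self_of_surjective (QuotientGroup.mk'_surjective M) K, ← h,
        QuotientGroup.map_mk'_self]
    · right
      rw [← Subgroup.map_comap_eq_self_of_surjective (QuotientGroup.mk'_surjective M) K, hM.2 _ h,
        Subgroup.map_top_of_surjective _ (QuotientGroup.mk'_surjective M)]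
  have hp := isPGroup_T.to_quotient M
  obtain ⟨n, hn⟩ := IsPGroup.iff_card.1 hp
  haveI : Group.IsNilpotent (T ⧸ M) := hp.isNilpotent
  have hprime : (Nat.card (T ⧸ M)).Prime := by
    haveI : IsMulCommutative (T ⧸ M) := by
      haveI := IsPGroup.center_nontrivial hp
      rcases (inferInstance : (Subgroup.center (T ⧸ M)).Normal).eq_bot_or_eq_top with h | h
      · exact absurd h ((Subgroup.nontrivial_iff_ne_bot _).1 inferInstance)
      · exact ⟨⟨fun x y =>
          (Subgroup.mem_center_iff.1 (h ▸ Subgroup.mem_top x : x ∈ Subgroup.center (T ⧸ M)) y).symm⟩⟩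
    exact IsSimpleGroup.prime_card
  rw [hn] at hprime
  rw [Subgroup.index, hn, hprime.eq_one_of_pow, pow_one]

lemma center_le {M : Subgroup T} (hM : IsCoatom M) : Nat.card ↥(Subgroup.center ↥M) ≤ 8 := by
  have h2 := index_two hM
  have hmem : ∀ x y : T, x * y ∈ M ↔ (x ∈ M ↔ y ∈ M) := fun x y => Subgroup.mul_mem_iff_of_index_two h2
  have hsq : ∀ x : T, x * x ∈ M := fun x => (hmem x x).2 Iff.rfl
  have hcm : ∀ x y : T, x * y * x * y ∈ M := fun x y => by
    rw [mul_assoc (x * y)]; exact hsq (x * y)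
  let ga : T := ⟨1, 0, 0, 0, 0, 0, 0, 0, 0⟩
  let gb : T := ⟨0, 1, 0, 0, 0, 0, 0, 0, 0⟩
  let gc : T := ⟨0, 0, 1, 0, 0, 0, 0, 0, 0⟩
  let gd : T := ⟨0, 0, 0, 1, 0, 0, 0, 0, 0⟩
  have he : (⟨0, 0, 0, 0, 1, 0, 0, 0, 0⟩ : T) ∈ M := by
    convert hcm ga gb using 1; simp [mul_def, ga, gb]; decide
  have hf : (⟨0, 0, 0, 0, 0, 1, 0, 0, 0⟩ : T) ∈ M := by
    convert hcm gb gc using 1; simp [mul_def, gb, gc]; decide
  have hg : (⟨0, 0, 0, 0, 0, 0, 1, 0, 0⟩ : T) ∈ M := by
    convert hcm gc gd using 1; simp [mul_def, gc, gd]; decide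
  set Z := (Subgroup.center ↥M).map M.subtype
  have hcard : Nat.card ↥Z = Nat.card ↥(Subgroup.center ↥M) :=
    Subgroup.card_map_of_injective M.subtype_injective
  have hc : ∀ z ∈ Z, ∀ x ∈ M, x * z = z * x := by
    rintro _ ⟨z, hz, rfl⟩ x hx
    exact congrArg Subtype.val (Subgroup.mem_center_iff.1 hz ⟨x, hx⟩)
  have habcd : ∀ z ∈ Z, z.a = 0 ∧ z.b = 0 ∧ z.c = 0 ∧ z.d = 0 := by
    intro z hz
    have h1 := hc z hz _ he
    have h2 := hc z hz _ hf
    have h3 := hc z hz _ hg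
    simp [mul_def, T.ext_iff, add_comm] at h1 h2 h3
    tauto
  have hkey : ∀ z ∈ Z, z.f = 0 ∧ (z.e = 0 ∨ z.g = 0) := by
    intro z hz
    obtain ⟨za, zb, zc, zd⟩ := habcd z hz
    have hm : ∀ x y : T, x ∈ M ∨ y ∈ M ∨ x * y ∈ M := fun x y => by
      by_cases hx : x ∈ M <;> by_cases hy : y ∈ M <;> simp [hmem, hx, hy]
    have hfz : z.f = 0 := by
      rcases hm ga gd with h | h | h <;>
        · have := hc z hz _ h
          simp [mul_def, T.ext_iff, ga, gd, za, zb, zc, zd, add_comm] at this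
          tauto
    refine ⟨hfz, ?_⟩
    rcases hm gb gc with h | h | h <;>
      · have := hc z hz _ h
        simp [mul_def, T.ext_iff, gb, gc, za, zb, zc, zd, hfz, add_comm] at this
        tauto
  rw [← hcard]
  refine le_of_le_of_eq (Nat.card_le_card_of_injective
    (fun z : Z => (z.1.e + z.1.g, z.1.h, z.1.i)) ?_) (by simp : Nat.card (𝔽 × 𝔽 × 𝔽) = 8)
  rintro ⟨z, hz⟩ ⟨w, hw⟩ h
  simp only [Prod.mk.injEq] at h
  obtain ⟨a1, a2, a3, a4⟩ := habcd z hz
  obtain ⟨b1, b2, b3, b4⟩ := habcd w hw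
  obtain ⟨a5, a6⟩ := hkey z hz
  obtain ⟨b5, b6⟩ := hkey w hw
  have h7 := (hkey _ (mul_mem hz hw)).2
  simp [mul_def, a1, a2, a3, b1, b2, b3, a4, b4] at h7
  have : z.e = w.e ∧ z.g = w.g := by
    revert h7 a6 b6
    have := h.1
    revert this
    generalize z.e = p; generalize z.g = q; generalize w.e = r; generalize w.g = s
    revert p q r s; decide
  exact Subtype.ext (T.ext (a1.trans b1.symm) (a2.trans b2.symm) (a3.trans b3.symm) (a4.trans b4.symm)
    this.1 (a5.trans b5.symm) this.2 h.2.1 h.2.2)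

/-- The unitriangular group. -/
@[ext] structure U : Type where
  t : T
  z : 𝔽

instance : Mul U := ⟨fun x y => ⟨x.t * y.t, x.z + y.z + x.t.a * y.t.i + x.t.e * y.t.g + x.t.h * y.t.d⟩⟩
instance : One U := ⟨⟨1, 0⟩⟩
instance : Inv U := ⟨fun x => ⟨x.t⁻¹, -(x.z + x.t⁻¹.a * x.t.i + x.t⁻¹.e * x.t.g + x.t⁻¹.h * x.t.d)⟩⟩

lemma U_mul (x y : U) :
    x * y = ⟨x.t * y.t, x.z + y.z + x.t.a * y.t.i + x.t.e * y.t.g + x.t.h * y.t.d⟩ := rfl
lemma U_one : (1 : U) = ⟨1, 0⟩ := rfl

instance : Group U where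
  mul_assoc x y z := by
    ext : 1
    · exact mul_assoc x.t y.t z.t
    · simp only [U_mul, mul_def]; ring
  one_mul x := by ext <;> simp [U_mul, U_one, one_def, mul_def]
  mul_one x := by ext <;> simp [U_mul, U_one, one_def, mul_def]
  inv_mul_cancel x := by
    ext : 1
    · exact inv_mul_cancel x.t
    · show -(x.z + x.t⁻¹.a * x.t.i + x.t⁻¹.e * x.t.g + x.t⁻¹.h * x.t.d) + x.z +
        x.t⁻¹.a * x.t.i + x.t⁻¹.e * x.t.g + x.t⁻¹.h * x.t.d = 0
      ring

instance : Finite U := Finite.of_injective (fun x : U => (x.t, x.z)) fun x y h => by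
  simp only [Prod.mk.injEq] at h; exact U.ext h.1 h.2

lemma card_U : Nat.card U = 2 ^ 10 := by
  let e : U ≃ T × 𝔽 := ⟨fun x => (x.t, x.z), fun p => ⟨p.1, p.2⟩, fun _ => rfl, fun _ => rfl⟩
  rw [Nat.card_congr e, Nat.card_prod, card_T]; simp

/-- as matrices -/
def toMat (x : U) : Matrix (Fin 5) (Fin 5) 𝔽 :=
  !![1, x.t.a, x.t.e, x.t.h, x.z; 0, 1, x.t.b, x.t.f, x.t.i; 0, 0, 1, x.t.c, x.t.g;
    0, 0, 0, 1, x.t.d; 0, 0, 0, 0, 1]

/-- the embedding in the general linear group -/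
def toGL : U →* GL (Fin 5) 𝔽 :=
  MonoidHom.toHomUnits
    { toFun := toMat
      map_one' := by ext r s; fin_cases r <;> fin_cases s <;> simp [toMat, U_one, one_def]
      map_mul' := fun x y => by
        ext r s
        fin_cases r <;> fin_cases s <;>
          simp [toMat, U_mul, mul_def, Matrix.mul_apply, Fin.sum_univ_five] <;> ring }

lemma toGL_injective : Function.Injective toGL := by
  intro x y h
  have h' : toMat x = toMat y := congrArg Units.val h
  exact U.ext (T.ext (congrFun (congrFun h' 0) 1) (congrFun (congrFun h' 1) 2)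
    (congrFun (congrFun h' 2) 3) (congrFun (congrFun h' 3) 4) (congrFun (congrFun h' 0) 2)
    (congrFun (congrFun h' 1) 3) (congrFun (congrFun h' 2) 4) (congrFun (congrFun h' 0) 3)
    (congrFun (congrFun h' 1) 4)) (congrFun (congrFun h' 0) 4)

/-- projection -/
def proj : U →* T := ⟨⟨U.t, rfl⟩, fun _ _ => rfl⟩

lemma proj_surjective : Function.Surjective proj := fun t => ⟨⟨t, 0⟩, rfl⟩

lemma ker_proj : proj.ker = Subgroup.center U := by
  ext x
  rw [MonoidHom.mem_ker, Subgroup.mem_center_iff]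
  constructor
  · intro h y
    have h' : x.t = 1 := h
    ext <;> simp [U_mul, mul_def, h', one_def, add_comm]
  · intro h
    have h1 := h ⟨⟨1, 0, 0, 0, 0, 0, 0, 0, 0⟩, 0⟩
    have h2 := h ⟨⟨0, 1, 0, 0, 0, 0, 0, 0, 0⟩, 0⟩
    have h3 := h ⟨⟨0, 0, 1, 0, 0, 0, 0, 0, 0⟩, 0⟩
    have h4 := h ⟨⟨0, 0, 0, 1, 0, 0, 0, 0, 0⟩, 0⟩
    simp [U.ext_iff, T.ext_iff, U_mul, mul_def, add_comm] at h1 h2 h3 h4
    show x.t = 1
    ext <;> simp [one_def] <;> tauto

/-- Everything transported to a group isomorphic to the quotient. -/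
theorem transfer {X : Type*} [Group X] (φ : X ≃* T) :
    (∀ M : Subgroup X, IsCoatom M → Nat.card ↥(Subgroup.center ↥M) ≤ 8) ∧
      (∃ A : Subgroup X, Cfsg.IsElementaryAbelian 2 A ∧ Nat.card ↥A = 64) ∧
      ∀ A B : Subgroup X, IsMulCommutative ↥A → Nat.card ↥A = 64 → IsMulCommutative ↥B →
        Nat.card ↥B = 64 → A = B := by
  have hmapcomm : ∀ (B : Subgroup X), IsMulCommutative ↥B →
      IsMulCommutative ↥(B.map φ.toMonoidHom) := fun B hB => by
    refine ⟨⟨fun ⟨x, hx⟩ ⟨y, hy⟩ => ?_⟩⟩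
    obtain ⟨u, hu, rfl⟩ := hx
    obtain ⟨v, hv, rfl⟩ := hy
    refine Subtype.ext ?_
    show φ u * φ v = φ v * φ u
    rw [← map_mul, ← map_mul]
    exact congrArg φ (congrArg Subtype.val (hB.is_comm.comm ⟨u, hu⟩ ⟨v, hv⟩))
  refine ⟨fun M hM => ?_, ⟨A.map φ.symm.toMonoidHom, ⟨?_, ?_⟩, ?_⟩, fun B C hB hBc hC hCc => ?_⟩
  · have hM' : IsCoatom (M.map φ.toMonoidHom) := (φ.mapSubgroup.isCoatom_iff M).2 hM
    refine le_trans (le_of_eq (Nat.card_congr ?_)) (center_le hM')
    exact (Subgroup.centerCongr (M.equivMapOfInjective φ.toMonoidHom φ.injective)).toEquiv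
  · refine ⟨⟨fun ⟨x, hx⟩ ⟨y, hy⟩ => ?_⟩⟩
    obtain ⟨u, hu, rfl⟩ := hx
    obtain ⟨v, hv, rfl⟩ := hy
    refine Subtype.ext ?_
    show φ.symm u * φ.symm v = φ.symm v * φ.symm u
    rw [← map_mul, ← map_mul]
    exact congrArg φ.symm (congrArg Subtype.val (A_elementary.1.is_comm.comm ⟨u, hu⟩ ⟨v, hv⟩))
  · rintro _ ⟨u, hu, rfl⟩
    show φ.symm u ^ 2 = 1
    rw [← map_pow, A_elementary.2 u hu, map_one]
  · rw [Subgroup.card_map_of_injective φ.symm.injective, card_A]
  · have h1 := eq_A (hmapcomm B hB) (by rw [Subgroup.card_map_of_injective φ.injective, hBc])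
    have h2 := eq_A (hmapcomm C hC) (by rw [Subgroup.card_map_of_injective φ.injective, hCc])
    exact Subgroup.map_injective φ.injective (h1.trans h2.symm)

end Cfsg.Agent.UniFiveTwo59
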