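import Mathlib
import Cfsg.Agent.Lib.UniFiveTwo59
import Cfsg.Agent.Lib.M24SylowModule20

/-!
# Centraliser counts in the quotient of the unitriangular group of degree five
-/

set_option autoImplicit false

namespace Cfsg.Agent.M24SylowFacts20

open Cfsg.Agent.UniFiveTwo59

local notation "𝔽" => ZMod 2

/-- six coordinates -/
abbrev Six : Type := ZMod 2 × ZMod 2 × ZMod 2 × ZMod 2 × ZMod 2 × ZMod 2

/-- commuting condition of `(a, e, h, i, g, d)` with `(b, c, f)` -/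
def Com (b c f : 𝔽) (v : Six) : Prop :=
  v.1 * b = 0 ∧ c * v.2.2.2.2.2 = 0 ∧ v.1 * f + v.2.1 * c = 0 ∧ b * v.2.2.2.2.1 + f * v.2.2.2.2.2 = 0

instance (b c f : 𝔽) (v : Six) : Decidable (Com b c f v) := by unfold Com; infer_instance

/-- an element of `A` from coordinates -/
def mkA (v : Six) : T :=
  ⟨v.1, 0, 0, v.2.2.2.2.2, v.2.1, 0, v.2.2.2.2.1, v.2.2.1, v.2.2.2.1⟩

/-- coordinates of an element -/
def six (t : T) : Six := (t.a, t.e, t.h, t.i, t.g, t.d)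

lemma mkA_mem (v : Six) : mkA v ∈ A := ⟨rfl, rfl, rfl⟩

lemma mkA_six {t : T} (ht : t ∈ A) : mkA (six t) = t := by
  obtain ⟨h1, h2, h3⟩ := ht
  ext <;> simp [mkA, six, h1, h2, h3]

lemma six_mkA (v : Six) : six (mkA v) = v := rfl

lemma commute_iff {t y : T} (ht : t ∈ A) :
    t * y = y * t ↔ Com y.b y.c y.f (six t) := by
  obtain ⟨h1, h2, h3⟩ := ht
  constructor
  · intro h
    exact ⟨(comm_eqs h.symm ⟨h1, h2, h3⟩).1, (comm_eqs h.symm ⟨h1, h2, h3⟩).2.1,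
      by have := (comm_eqs h.symm ⟨h1, h2, h3⟩).2.2.1; simp only [six]; linear_combination this,
      (comm_eqs h.symm ⟨h1, h2, h3⟩).2.2.2⟩
  · rintro ⟨e1, e2, e3, e4⟩
    simp only [six] at e1 e2 e3 e4
    ext <;> simp only [mul_def, h1, h2, h3] <;>
      first
        | linear_combination e1
        | linear_combination -e2
        | linear_combination e3
        | linear_combination -e4
        | ring

/-- a centraliser in `A` as a set of coordinates -/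
def equivCom (y : T) : {t : T // t ∈ A ∧ t * y = y * t} ≃ {v : Six // Com y.b y.c y.f v} where
  toFun t := ⟨six t.1, (commute_iff t.2.1).1 t.2.2⟩
  invFun v := ⟨mkA v.1, mkA_mem _, (commute_iff (mkA_mem _)).2 (by rw [six_mkA]; exact v.2)⟩
  left_inv t := Subtype.ext (mkA_six t.2.1)
  right_inv v := Subtype.ext (six_mkA _)

/-- the common centraliser of two elements -/
def equivCom₂ (y z : T) : {t : T // t ∈ A ∧ t * y = y * t ∧ t * z = z * t} ≃
    {v : Six // Com y.b y.c y.f v ∧ Com z.b z.c z.f v} where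
  toFun t := ⟨six t.1, (commute_iff t.2.1).1 t.2.2.1, (commute_iff t.2.1).1 t.2.2.2⟩
  invFun v := ⟨mkA v.1, mkA_mem _, (commute_iff (mkA_mem _)).2 (by rw [six_mkA]; exact v.2.1),
    (commute_iff (mkA_mem _)).2 (by rw [six_mkA]; exact v.2.2)⟩
  left_inv t := Subtype.ext (mkA_six t.2.1)
  right_inv v := Subtype.ext (six_mkA _)

set_option synthInstance.maxSize 8000 in
set_option maxSynthPendingDepth 8 in
lemma count_one : ∀ b c f : 𝔽, ¬ (b = 0 ∧ c = 0 ∧ f = 0) → b * c = 0 →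
    Fintype.card {v : Six // Com b c f v} = 16 := by decide +kernel

set_option synthInstance.maxSize 8000 in
set_option maxSynthPendingDepth 8 in
lemma count_four : ∀ b c f : 𝔽, b * c ≠ 0 → Fintype.card {v : Six // Com b c f v} ≤ 4 := by
  decide +kernel

set_option synthInstance.maxSize 8000 in
set_option maxSynthPendingDepth 8 in
lemma count_two : ∀ b c f b' c' f' : 𝔽, ¬ (b = 0 ∧ c = 0 ∧ f = 0) → ¬ (b' = 0 ∧ c' = 0 ∧ f' = 0) →
    b * c = 0 → b' * c' = 0 → ¬ (b + b' = 0 ∧ c + c' = 0 ∧ f + f' + b * c' = 0) →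
    (b + b') * (c + c') = 0 → Fintype.card {v : Six // Com b c f v ∧ Com b' c' f' v} = 8 := by
  decide +kernel

lemma mem_A_iff (t : T) : t ∈ A ↔ t.b = 0 ∧ t.c = 0 ∧ t.f = 0 := Iff.rfl

lemma sq_mem_iff (t : T) : t * t ∈ A ↔ t.b * t.c = 0 := by
  rw [mem_A_iff]
  simp [mul_def, CharTwo.add_self_eq_zero]

theorem card_one {y : T} (hy : y ∉ A) (hyy : y * y ∈ A) :
    Nat.card {t : T // t ∈ A ∧ t * y = y * t} = 16 := by
  rw [Nat.card_congr (equivCom y), Nat.card_eq_fintype_card]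
  exact count_one _ _ _ hy ((sq_mem_iff y).1 hyy)

theorem card_four {y : T} (hyy : y * y ∉ A) :
    Nat.card {t : T // t ∈ A ∧ t * y = y * t} ≤ 4 := by
  rw [Nat.card_congr (equivCom y), Nat.card_eq_fintype_card]
  exact count_four _ _ _ fun h => hyy ((sq_mem_iff y).2 h)

theorem card_two {y z : T} (hy : y ∉ A) (hz : z ∉ A) (hyz : y * z ∉ A) (hyy : y * y ∈ A)
    (hzz : z * z ∈ A) (hp : y * z * (y * z) ∈ A) :
    Nat.card {t : T // t ∈ A ∧ t * y = y * t ∧ t * z = z * t} = 8 := by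
  rw [Nat.card_congr (equivCom₂ y z), Nat.card_eq_fintype_card]
  exact count_two _ _ _ _ _ _ hy hz ((sq_mem_iff y).1 hyy) ((sq_mem_iff z).1 hzz) hyz
    ((sq_mem_iff _).1 hp)

set_option synthInstance.maxSize 8000 in
set_option maxSynthPendingDepth 8 in
lemma pair_shape : ∀ b c f b' c' f' : 𝔽, ¬ (b = 0 ∧ c = 0 ∧ f = 0) → ¬ (b' = 0 ∧ c' = 0 ∧ f' = 0) →
    b * c = 0 → b' * c' = 0 → (b + b') * (c + c') = 0 →
    ∀ v : Six, Com b' c' f' (0, v.1 * b, v.1 * f + v.2.1 * c + v.1 * b * c,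
      b * v.2.2.2.2.1 + f * v.2.2.2.2.2, c * v.2.2.2.2.2, 0) := by
  decide +kernel

theorem commutator_commute {y z a : T} (ha : a ∈ A) (hy : y ∉ A) (hz : z ∉ A) (hyy : y * y ∈ A)
    (hzz : z * z ∈ A) (hp : y * z * (y * z) ∈ A) :
    a * y * a⁻¹ * y⁻¹ * z = z * (a * y * a⁻¹ * y⁻¹) := by
  have two : (2 : 𝔽) = 0 := rfl
  have hbc := (sq_mem_iff y).1 hyy
  have e : a * y * a⁻¹ * y⁻¹ = mkA (0, a.a * y.b, a.a * y.f + a.e * y.c + a.a * y.b * y.c,
      y.b * a.g + y.f * a.d, y.c * a.d, 0) := by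
    rw [mul_inv_eq_iff_eq_mul, mul_inv_eq_iff_eq_mul]
    obtain ⟨h1, h2, h3⟩ := ha
    ext <;> simp only [mkA, mul_def, h1, h2, h3] <;> ring_nf <;> simp [two] <;> ring_nf
  rw [e, commute_iff (mkA_mem _), six_mkA]
  exact pair_shape _ _ _ _ _ _ hy hz hbc ((sq_mem_iff z).1 hzz) ((sq_mem_iff _).1 hp) (six a)

set_option synthInstance.maxSize 8000 in
set_option maxSynthPendingDepth 8 in
lemma three_shape : ∀ b c f b' c' f' b'' c'' f'' : 𝔽, ¬ (b = 0 ∧ c = 0 ∧ f = 0) →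
    ¬ (b' = 0 ∧ c' = 0 ∧ f' = 0) → ¬ (b + b' = 0 ∧ c + c' = 0 ∧ f + f' + b * c' = 0) →
    b * c = 0 → b' * c' = 0 → (b + b') * (c + c') = 0 → b'' * c'' = 0 →
    (b + b'') * (c + c'') = 0 → (b' + b'') * (c' + c'') = 0 →
    (b'' = 0 ∧ c'' = 0 ∧ f'' = 0) ∨ (b + b'' = 0 ∧ c + c'' = 0 ∧ f + f'' + b * c'' = 0) ∨
    (b' + b'' = 0 ∧ c' + c'' = 0 ∧ f' + f'' + b' * c'' = 0) ∨
    (b + b' + b'' = 0 ∧ c + c' + c'' = 0 ∧ f + f' + b * c' + f'' + (b + b') * c'' = 0) := by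
  decide +kernel

theorem three {y z e : T} (hy : y ∉ A) (hz : z ∉ A) (hyz : y * z ∉ A) (hyy : y * y ∈ A)
    (hzz : z * z ∈ A) (hp : y * z * (y * z) ∈ A) (hee : e * e ∈ A) (hye : y * e * (y * e) ∈ A)
    (hze : z * e * (z * e) ∈ A) : e ∈ A ∨ y * e ∈ A ∨ z * e ∈ A ∨ y * z * e ∈ A :=
  three_shape y.b y.c y.f z.b z.c z.f e.b e.c e.f hy hz hyz ((sq_mem_iff y).1 hyy)
    ((sq_mem_iff z).1 hzz) ((sq_mem_iff _).1 hp) ((sq_mem_iff e).1 hee) ((sq_mem_iff _).1 hye)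
    ((sq_mem_iff _).1 hze)

/-- coordinates of `A` as a vector -/
def vec (t : T) : M24SylowModule20.Vec := ![t.a, t.e, t.h, t.i, t.g, t.d]

lemma vec_mul {s t : T} (hs : s ∈ A) (_ht : t ∈ A) : vec (s * t) = vec s + vec t := by
  obtain ⟨h1, h2, h3⟩ := hs
  obtain ⟨k1, k2, k3⟩ := _ht
  refine M24SylowModule20.ext6 ?_ ?_ ?_ ?_ ?_ ?_ <;> simp [vec, mul_def, h1, h2, h3, k1, k2, k3]

lemma vec_injOn {s t : T} (hs : s ∈ A) (ht : t ∈ A) (h : vec s = vec t) : s = t := by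
  have e : ∀ k, vec s k = vec t k := congrFun h
  refine T.ext (e 0) (hs.1.trans ht.1.symm) (hs.2.1.trans ht.2.1.symm) (e 5) (e 1)
    (hs.2.2.trans ht.2.2.symm) (e 4) (e 2) (e 3)

lemma vec_surj (v : M24SylowModule20.Vec) : ∃ t ∈ A, vec t = v :=
  ⟨mkA (v 0, v 1, v 2, v 3, v 4, v 5), mkA_mem _, by
    refine M24SylowModule20.ext6 ?_ ?_ ?_ ?_ ?_ ?_ <;> simp [vec, mkA]⟩

open Matrix in
/-- conjugation in coordinates -/
theorem vec_conj {y a : T} (ha : a ∈ A) :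
    y * a * y⁻¹ ∈ A ∧ vec (y * a * y⁻¹) = M24SylowModule20.actM y.b y.c y.f *ᵥ vec a := by
  have two : (2 : 𝔽) = 0 := rfl
  have e : y * a * y⁻¹ = mkA (a.a, a.e + y.b * a.a, a.h + y.c * a.e + (y.f + y.b * y.c) * a.a,
      a.i + y.b * a.g + y.f * a.d, a.g + y.c * a.d, a.d) := by
    rw [mul_inv_eq_iff_eq_mul]
    obtain ⟨h1, h2, h3⟩ := ha
    ext <;> simp only [mkA, mul_def, h1, h2, h3] <;> ring_nf <;> simp [two] <;> ring_nf
  refine ⟨e ▸ mkA_mem _, ?_⟩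
  rw [e, M24SylowModule20.actM_mulVec]
  rfl

end Cfsg.Agent.M24SylowFacts20
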