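import Mathlib
import Cfsg.Agent.Lib.M24SylowModule20
import Cfsg.Agent.Lib.CoprimeExtra

/-!
# The two summands are invariant under the whole group

Consequences: the order divides 168 and non-trivial elements of odd order fix at most four vectors.
-/

set_option autoImplicit false

namespace Cfsg.Agent.M24SylowModuleSplit20

open Matrix Cfsg.Agent.M24SylowModule20

local notation "𝔽" => ZMod 2

/-- vectors of the summands -/
abbrev W3 : Type := Fin 3 → ZMod 2

lemma ext3 {v w : W3} (h0 : v 0 = w 0) (h1 : v 1 = w 1) (h2 : v 2 = w 2) : v = w := by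
  funext k; fin_cases k <;> assumption

lemma self_add (v : W3) : v + v = 0 := funext fun k => CharTwo.add_self_eq_zero (v k)

set_option synthInstance.maxSize 4000 in
set_option maxSynthPendingDepth 5 in
lemma add_four : ∀ l φ v w : W3, φ ⬝ᵥ l = 0 → l ≠ 0 → φ ≠ 0 → φ ⬝ᵥ v = 0 → φ ⬝ᵥ w = 0 →
    v ≠ 0 → v ≠ l → w ≠ 0 → w ≠ l → v + w = 0 ∨ v + w = l := by
  decide +kernel

set_option synthInstance.maxSize 4000 in
set_option maxSynthPendingDepth 5 in
lemma add_two : ∀ u v w w' : W3, u ≠ 0 → v ≠ 0 → u ≠ v →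
    ¬ (w = 0 ∨ w = u ∨ w = v ∨ w = u + v) → ¬ (w' = 0 ∨ w' = u ∨ w' = v ∨ w' = u + v) →
    (w + w' = 0 ∨ w + w' = u ∨ w + w' = v ∨ w + w' = u + v) := by
  decide +kernel

lemma iterate_two {α : Type*} {s : α → α} {v : α} (h2 : s (s v) = v) {n : ℕ} (hn : Odd n)
    (hns : s^[n] v = v) : s v = v := by
  obtain ⟨k, rfl⟩ := hn
  have h : ∀ j, s^[2 * j] v = v := fun j => by
    induction j with
    | zero => rfl
    | succ j ih =>
      rw [Nat.mul_succ, Function.iterate_add_apply]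
      simpa [h2] using ih
  rw [add_comm, Function.iterate_add_apply, h] at hns
  exact hns

/-- an automorphism of odd order commuting with a transvection-like involution is trivial -/
lemma trivial_of_comm {l φ : W3} (hφl : φ ⬝ᵥ l = 0) (hl : l ≠ 0) (hφ : φ ≠ 0) (s : W3 →ₗ[𝔽] W3)
    (hinj : Function.Injective s) {n : ℕ} (hn : Odd n) (hns : ∀ v, s^[n] v = v)
    (hcomm : ∀ v, s (v + (φ ⬝ᵥ v) • l) = s v + (φ ⬝ᵥ s v) • l) : ∀ v, s v = v := by
  obtain ⟨v₀, hv₀⟩ : ∃ v, φ ⬝ᵥ v = 1 := by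
    obtain ⟨k, hk⟩ : ∃ k, φ k ≠ 0 := by
      by_contra hc; push Not at hc; exact hφ (funext hc)
    exact ⟨Pi.single k 1, by rw [dotProduct_single, mul_one]; exact (z2 _).resolve_left hk⟩
  have hc : ∀ v, (φ ⬝ᵥ v) • s l = (φ ⬝ᵥ s v) • l := fun v => by
    have := hcomm v
    rw [map_add, map_smul] at this
    exact add_left_cancel this
  have hsl0 : s l ≠ 0 := fun e => hl (hinj (e.trans (map_zero s).symm))
  have hsl : s l = l := by
    have h := hc v₀
    rw [hv₀, one_smul] at h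
    rcases z2 (φ ⬝ᵥ s v₀) with e | e
    · rw [e, zero_smul] at h; exact absurd h hsl0
    · rw [e, one_smul] at h; exact h
  have hφs : ∀ v, φ ⬝ᵥ s v = φ ⬝ᵥ v := fun v => by
    have h := hc v
    rw [hsl] at h
    exact (smul_left_injective 𝔽 hl h).symm
  -- first the kernel of `φ`
  have hker : ∀ v, φ ⬝ᵥ v = 0 → s v = v := by
    intro v hv
    rcases eq_or_ne v 0 with rfl | hv0
    · exact map_zero s
    rcases eq_or_ne v l with rfl | hvl
    · exact hsl
    refine iterate_two ?_ hn (hns v)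
    have hsv0 : s v ≠ 0 := fun e => hv0 (hinj (e.trans (map_zero s).symm))
    have hsvl : s v ≠ l := fun e => hvl (hinj (e.trans hsl.symm))
    have hd : s v = v ∨ s v = v + l := by
      rcases add_four l φ v (s v) hφl hl hφ hv ((hφs v).trans hv) hv0 hvl hsv0 hsvl with e | e
      · left; calc s v = v + (v + s v) := by rw [← add_assoc, self_add, zero_add]
          _ = v := by rw [e, add_zero]
      · right; calc s v = v + (v + s v) := by rw [← add_assoc, self_add, zero_add]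
          _ = v + l := by rw [e]
    rcases hd with e | e
    · rw [e, e]
    · rw [e, map_add, hsl, e, add_assoc, self_add, add_zero]
  intro v
  refine iterate_two ?_ hn (hns v)
  have h1 : φ ⬝ᵥ (v + s v) = 0 := by rw [dotProduct_add, hφs, CharTwo.add_self_eq_zero]
  have h2 := hker _ h1
  rw [map_add] at h2
  calc s (s v) = s v + (s v + s (s v)) := by rw [← add_assoc, self_add, zero_add]
    _ = s v + (v + s v) := by rw [h2]
    _ = v := by rw [add_comm v, ← add_assoc, self_add, zero_add]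

/-- a non-trivial automorphism of odd order fixes at most one non-zero vector -/
lemma card_fixed_le (s : W3 →ₗ[𝔽] W3) (hinj : Function.Injective s) {n : ℕ} (hn : Odd n)
    (hns : ∀ v, s^[n] v = v) (hne : ∃ v, s v ≠ v) : Nat.card {v : W3 // s v = v} ≤ 2 := by
  by_contra hcon
  rw [not_le] at hcon
  obtain ⟨w₁, hw₁⟩ := hne
  have hex : ∃ u v : W3, s u = u ∧ s v = v ∧ u ≠ 0 ∧ v ≠ 0 ∧ u ≠ v := by
    by_contra hc
    push Not at hc
    by_cases h0 : ∃ u : W3, s u = u ∧ u ≠ 0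
    · obtain ⟨u, hu, hu0⟩ := h0
      have : Nat.card {v : W3 // s v = v} ≤ Nat.card Bool := by
        refine Nat.card_le_card_of_injective (fun v => decide (v.1 = 0)) ?_
        intro a b e
        simp only [decide_eq_decide] at e
        refine Subtype.ext ?_
        rcases eq_or_ne a.1 0 with ha | ha
        · rw [ha, e.1 ha]
        · have hb : b.1 ≠ 0 := fun h => ha (e.2 h)
          exact hc a.1 b.1 a.2 b.2 ha hb
      rw [show Nat.card Bool = 2 by simp] at this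
      omega
    · push Not at h0
      have : Nat.card {v : W3 // s v = v} ≤ Nat.card Unit :=
        Nat.card_le_card_of_injective (fun _ => ()) fun a b _ =>
          Subtype.ext ((h0 a.1 a.2).trans (h0 b.1 b.2).symm)
      rw [show Nat.card Unit = 1 by simp] at this
      omega
  obtain ⟨u, v, hu, hv, hu0, hv0, huv⟩ := hex
  let inW : W3 → Prop := fun w => w = 0 ∨ w = u ∨ w = v ∨ w = u + v
  have hWfix : ∀ w, inW w → s w = w := by
    rintro w (rfl | rfl | rfl | rfl) <;> simp [hu, hv]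
  have hnotW : ¬ inW w₁ := fun h => hw₁ (hWfix w₁ h)
  have hsnotW : ¬ inW (s w₁) := fun h => hw₁ (hinj (hWfix _ h))
  have hfix := hWfix _ (add_two u v w₁ (s w₁) hu0 hv0 huv hnotW hsnotW)
  rw [map_add] at hfix
  refine hw₁ (iterate_two ?_ hn (hns w₁))
  calc s (s w₁) = s w₁ + (s w₁ + s (s w₁)) := by rw [← add_assoc, self_add, zero_add]
    _ = s w₁ + (w₁ + s w₁) := by rw [hfix]
    _ = w₁ := by rw [add_comm w₁, ← add_assoc, self_add, zero_add]

variable {X : Type*} [Group X] {ρ : X →* Mat}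

/-- an invariant summand with coordinates -/
structure Part (ρ : X →* Mat) where
  emb : W3 →ₗ[ZMod 2] Vec
  pr : Vec →ₗ[ZMod 2] W3
  pr_emb : ∀ w, pr (emb w) = w
  invariant : ∀ x w, emb (pr (ρ x *ᵥ emb w)) = ρ x *ᵥ emb w

/-- the action on a summand -/
def Part.act (H : Part ρ) (x : X) : W3 →ₗ[ZMod 2] W3 :=
  H.pr ∘ₗ (Matrix.mulVecLin (ρ x)) ∘ₗ H.emb

lemma Part.act_apply (H : Part ρ) (x : X) (w : W3) : H.act x w = H.pr (ρ x *ᵥ H.emb w) := rfl

lemma Part.act_mul (H : Part ρ) (x y : X) (w : W3) : H.act (x * y) w = H.act x (H.act y w) := by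
  rw [H.act_apply, H.act_apply, H.act_apply, H.invariant, Matrix.mulVec_mulVec, map_mul]

lemma Part.act_one (H : Part ρ) (w : W3) : H.act 1 w = w := by
  rw [H.act_apply, map_one, Matrix.one_mulVec, H.pr_emb]

lemma Part.act_iterate (H : Part ρ) (x : X) (n : ℕ) (w : W3) : (H.act x)^[n] w = H.act (x ^ n) w := by
  induction n with
  | zero => simp [H.act_one]
  | succ n ih => rw [Function.iterate_succ_apply', ih, ← H.act_mul, pow_succ']

lemma Part.act_injective (H : Part ρ) (x : X) : Function.Injective (H.act x) := fun v w e => by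
  have := congrArg (H.act x⁻¹) e
  rwa [← H.act_mul, ← H.act_mul, inv_mul_cancel, H.act_one, H.act_one] at this

/-- kernel of the action on a summand -/
def Part.ker (H : Part ρ) : Subgroup X where
  carrier := {x | ∀ w, H.act x w = w}
  one_mem' := H.act_one
  mul_mem' := fun {x y} hx hy w => by rw [H.act_mul, hy, hx]
  inv_mem' := fun {x} hx w => by
    conv_lhs => rw [← hx w]
    rw [← H.act_mul, inv_mul_cancel, H.act_one]

lemma Part.ker_normal (H : Part ρ) : H.ker.Normal := ⟨fun n hn g w => by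
  rw [H.act_mul, H.act_mul, hn, ← H.act_mul, mul_inv_cancel, H.act_one]⟩

/-- the representation on a summand -/
noncomputable def Part.toGL (H : Part ρ) : X →* GL (Fin 3) (ZMod 2) :=
  MonoidHom.toHomUnits
    { toFun := fun x => LinearMap.toMatrix' (H.act x)
      map_one' := by
        rw [show H.act 1 = LinearMap.id from LinearMap.ext H.act_one, LinearMap.toMatrix'_id]
      map_mul' := fun x y => by
        rw [show H.act (x * y) = H.act x ∘ₗ H.act y from LinearMap.ext (H.act_mul x y),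
          LinearMap.toMatrix'_comp] }

lemma Part.card_dvd [Finite X] (H : Part ρ) (hker : H.ker = ⊥) : Nat.card X ∣ 168 := by
  have hinj : Function.Injective H.toGL := by
    rw [← MonoidHom.ker_eq_bot_iff, Subgroup.eq_bot_iff_forall]
    intro x hx
    have hx' : x ∈ H.ker := fun w => by
      have h : LinearMap.toMatrix' (H.act x) = 1 := congrArg Units.val (MonoidHom.mem_ker.1 hx)
      have h2 := congrArg Matrix.toLin' h
      rw [Matrix.toLin'_toMatrix', Matrix.toLin'_one] at h2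
      rw [h2]; rfl
    rwa [hker, Subgroup.mem_bot] at hx'
  have := Subgroup.card_dvd_of_injective H.toGL hinj
  rwa [Matrix.card_GL_field, ZMod.card, show (∏ i : Fin 3, (2 ^ 3 - 2 ^ (i : ℕ))) = 168 by decide]
    at this

variable [Finite X] {D : Subgroup X}

/-- the kernel on a summand is trivial when the other summand detects the four group `{(b,0,f)}` -/
theorem ker_eq_bot (h : Data ρ D) (H H' : Part ρ)
    (hspan : ∀ x, (∀ w, H.act x w = w) → (∀ w, H'.act x w = w) → x = 1)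
    (hD : ∀ d ∈ D, ∀ b c f, ρ d = actM b c f → (∀ w, H.act d w = w) → d = 1)
    (hfour : ∀ d ∈ D, ∀ b f, ρ d = actM b 0 f → d ≠ 1 →
      ∃ l φ : W3, φ ⬝ᵥ l = 0 ∧ l ≠ 0 ∧ φ ≠ 0 ∧ ∀ w, H'.act d w = w + (φ ⬝ᵥ w) • l) :
    H.ker = ⊥ := by
  haveI : Fact (Nat.Prime 2) := ⟨Nat.prime_two⟩
  haveI := H.ker_normal
  have hodd : Odd (Nat.card H.ker) := by
    rw [← Nat.not_even_iff_odd]
    intro he
    obtain ⟨y, hy⟩ := exists_prime_orderOf_dvd_card' (G := H.ker) 2 he.two_dvd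
    have hy2 : IsPGroup 2 ↥(Subgroup.zpowers y.1) := IsPGroup.of_card (n := 1) (by
      rw [Nat.card_zpowers, Subgroup.orderOf_coe, hy, pow_one])
    obtain ⟨R, hR⟩ := hy2.exists_le_sylow
    obtain ⟨g, hg⟩ := MulAction.exists_smul_eq X R (h.two.toSylow h.idx)
    have hgD : g * y.1 * g⁻¹ ∈ D := by
      have : MulAut.conj g • y.1 ∈ ((g • R : Sylow 2 X) : Subgroup X) := by
        rw [Sylow.coe_subgroup_smul]
        exact Subgroup.smul_mem_pointwise_smul _ _ _ (hR (Subgroup.mem_zpowers _))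
      rw [hg] at this
      simpa using this
    obtain ⟨b, c, f, e⟩ := h.shape _ hgD
    have h1 := hD _ hgD b c f e (Subgroup.Normal.conj_mem inferInstance _ y.2 g)
    have h2 : (y : X) = 1 := by
      calc (y : X) = g⁻¹ * (g * y.1 * g⁻¹) * g := by group
        _ = 1 := by rw [h1]; group
    rw [show y = 1 from Subtype.ext h2, orderOf_one] at hy
    exact absurd hy (by norm_num)
  -- the four group
  let K : Subgroup X :=
    { carrier := {d | d ∈ D ∧ ∃ b f, ρ d = actM b 0 f}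
      one_mem' := ⟨one_mem _, 0, 0, by rw [map_one, actM_zero]⟩
      mul_mem' := fun {x y} hx hy => by
        obtain ⟨hx, b, f, e⟩ := hx
        obtain ⟨hy, b', f', e'⟩ := hy
        refine ⟨mul_mem hx hy, b + b', f + f', ?_⟩
        rw [map_mul, e, e', actM_mul, add_zero, mul_zero, add_zero]
      inv_mem' := fun {x} hx => by
        obtain ⟨hx, b, f, e⟩ := hx
        refine ⟨inv_mem hx, b, f, ?_⟩
        have h2 : x * x = 1 := h.inj (by
          rw [map_mul, e, actM_mul, map_one, ← actM_zero]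
          simp [CharTwo.add_self_eq_zero])
        rw [inv_eq_of_mul_eq_one_right h2, e] }
  haveI : IsMulCommutative K := ⟨⟨fun x y => Subtype.ext (h.inj (by
    obtain ⟨-, b, f, e⟩ := x.2
    obtain ⟨-, b', f', e'⟩ := y.2
    simp only [Subgroup.coe_mul, map_mul, e, e', actM_mul, mul_zero, add_zero, add_comm b,
      add_comm f]))⟩⟩
  have hK2 : ∀ x : K, x * x = 1 := fun x => Subtype.ext (h.inj (by
    obtain ⟨-, b, f, e⟩ := x.2
    rw [Subgroup.coe_mul, map_mul, e, actM_mul, Subgroup.coe_one, map_one, ← actM_zero]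
    simp [CharTwo.add_self_eq_zero]))
  have hKp : IsPGroup 2 K := fun x => ⟨1, by rw [pow_one, pow_two, hK2]⟩
  have hnc : ¬ IsCyclic (K ⧸ (⊥ : Subgroup X).subgroupOf K) := by
    intro hc
    haveI : IsCyclic K := ((QuotientGroup.quotientMulEquivOfEq (Subgroup.bot_subgroupOf K)).trans
      QuotientGroup.quotientBot).isCyclic.1 hc
    obtain ⟨dz, hdz, ez⟩ := h.surj 0 0 1
    obtain ⟨db, hdb, eb⟩ := h.surj 1 0 0
    obtain ⟨g, hg⟩ := IsCyclic.exists_generator (α := K)
    have hall : ∀ x : K, x = 1 ∨ x = g := fun x => by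
      obtain ⟨k, hk⟩ := hg x
      rcases Int.even_or_odd' k with ⟨j, rfl | rfl⟩
      · left; rw [← hk]; simp only [_root_.zpow_mul, zpow_two, hK2, _root_.one_zpow]
      · right; rw [← hk]; simp only [_root_.zpow_add, _root_.zpow_mul, zpow_two, hK2, _root_.one_zpow, zpow_one, one_mul]
    rcases hall ⟨dz, hdz, 0, 1, ez⟩ with hz | hz
    · have hh : dz = 1 := congrArg Subtype.val hz
      rw [hh, map_one, ← actM_zero] at ez
      simpa using actM_inj ez
    rcases hall ⟨db, hdb, 1, 0, eb⟩ with hb | hb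
    · have hh : db = 1 := congrArg Subtype.val hb
      rw [hh, map_one, ← actM_zero] at eb
      simpa using actM_inj eb
    have hh : db = dz := congrArg Subtype.val (hb.trans hz.symm)
    rw [hh, ez] at eb
    simpa using actM_inj eb
  have hle := CoprimeExtra.centralizer_inf_le_of_not_isCyclic (A := K) (B := ⊥) (K := H.ker)
    (H := ⊥) bot_le hnc (le_top.trans (Subgroup.normalizer_eq_top (H := H.ker)).ge)
    (by
      obtain ⟨k, hk⟩ := IsPGroup.iff_card.1 hKp
      rw [hk]; exact (Nat.coprime_two_left.2 hodd).pow_left k)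
    (fun a ha ha1 x hx => by
      obtain ⟨⟨hxk, -⟩, hxa⟩ := hx
      obtain ⟨haD, b, f, e⟩ := ha
      obtain ⟨l, φ, h1, h2, h3, h4⟩ := hfour a haD b f e fun e' => ha1 (Subgroup.mem_bot.2 e')
      refine Subgroup.mem_bot.2 (hspan x hxk (trivial_of_comm h1 h2 h3 (H'.act x)
        (H'.act_injective x) (hodd.of_dvd_nat (Subgroup.orderOf_dvd_natCard _ hxk)) (fun v => ?_)
        fun v => ?_))
      · rw [H'.act_iterate, pow_orderOf_eq_one, H'.act_one]
      · rw [← h4, ← h4, ← H'.act_mul, ← H'.act_mul, Subgroup.mem_centralizer_singleton_iff.1 hxa])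
  refine le_bot_iff.1 fun x hx => hle ⟨hx, ?_⟩
  show x ∈ Subgroup.centralizer _
  rw [Subgroup.mem_centralizer_iff]
  intro y hy
  rw [SetLike.mem_coe, Subgroup.mem_bot] at hy
  simp [hy]

/-- the conclusion -/
theorem main (h : Data ρ D) : Nat.card X ∣ 168 ∧
    ∀ x : X, Odd (orderOf x) → x ≠ 1 → Nat.card {v : Vec // ρ x *ᵥ v = v} ≤ 4 := by
  obtain ⟨M, hMc, ht1, ht2⟩ := h.exists_equivariant
  obtain ⟨dB, -, eB⟩ := h.surj 1 0 0
  obtain ⟨dC, -, eC⟩ := h.surj 0 1 0
  obtain ⟨l1, h0, i0, g0, e1, h1, i1, l2, hf, t1, t2⟩ := commutant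
    (M := M) (by rw [← eB, hMc]) (by rw [← eC, hMc])
  obtain rfl : l1 = 1 := t1.symm.trans ht1
  obtain rfl : l2 = 0 := by
    have h3 := t2.symm.trans ht2
    rcases z2 l2 with e | e
    · exact e
    · rw [e, CharTwo.add_self_eq_zero] at h3; exact absurd h3 zero_ne_one
  have two : (2 : 𝔽) = 0 := rfl
  have hP : ∀ v : Vec, M *ᵥ (M *ᵥ v) = ![v 0, v 1 + e1 * v 5,
      v 2 + e1 * g0 * v 0 + e1 * v 4 + h1 * v 5,
      i0 * v 0 + g0 * v 1 + g0 * e1 * v 5, g0 * v 0, 0] := fun v => by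
    rw [hf, hf]
    refine ext6 ?_ ?_ ?_ ?_ ?_ ?_ <;> simp <;> ring_nf <;> simp [two, show (3 : 𝔽) = 1 from rfl, show (4 : 𝔽) = 0 from rfl]
  have hPc : ∀ (x : X) (v : Vec), M *ᵥ (M *ᵥ (ρ x *ᵥ v)) = ρ x *ᵥ (M *ᵥ (M *ᵥ v)) := fun x v => by
    simp only [Matrix.mulVec_mulVec]
    rw [← hMc, ← mul_assoc M (ρ x), ← hMc, mul_assoc]
  let ι₁ : W3 →ₗ[ZMod 2] Vec :=
    { toFun := fun w => ![w 0, w 1, w 2, i0 * w 0 + g0 * w 1, g0 * w 0, 0]
      map_add' := fun v w => by refine ext6 ?_ ?_ ?_ ?_ ?_ ?_ <;> simp <;> ring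
      map_smul' := fun c w => by refine ext6 ?_ ?_ ?_ ?_ ?_ ?_ <;> simp <;> ring }
  let ι₂ : W3 →ₗ[ZMod 2] Vec :=
    { toFun := fun w => ![0, e1 * w 2, e1 * w 1 + h1 * w 2, w 0, w 1, w 2]
      map_add' := fun v w => by refine ext6 ?_ ?_ ?_ ?_ ?_ ?_ <;> simp <;> ring
      map_smul' := fun c w => by refine ext6 ?_ ?_ ?_ ?_ ?_ ?_ <;> simp <;> ring }
  let π₁ : Vec →ₗ[ZMod 2] W3 := LinearMap.funLeft (ZMod 2) (ZMod 2) ![0, 1, 2]
  let π₂ : Vec →ₗ[ZMod 2] W3 := LinearMap.funLeft (ZMod 2) (ZMod 2) ![3, 4, 5]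
  have hι₁ : ∀ v : Vec, M *ᵥ (M *ᵥ v) = v → ι₁ (π₁ v) = v := fun v hv => by
    have h3 := congrFun hv 3
    have h4 := congrFun hv 4
    have h5 := congrFun hv 5
    rw [hP] at h3 h4 h5
    simp at h3 h4 h5
    refine ext6 ?_ ?_ ?_ ?_ ?_ ?_ <;> simp [ι₁, π₁, LinearMap.funLeft] <;>
      first | exact h4 | exact h5 | skip
    rw [← h3, ← h5]; ring
  have hι₂ : ∀ v : Vec, M *ᵥ (M *ᵥ v) = 0 → ι₂ (π₂ v) = v := fun v hv => by
    have h0' := congrFun hv 0
    have h1' := congrFun hv 1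
    have h2' := congrFun hv 2
    rw [hP] at h0' h1' h2'
    simp at h0' h1' h2'
    refine ext6 ?_ ?_ ?_ ?_ ?_ ?_ <;> simp [ι₂, π₂, LinearMap.funLeft]
    · exact h0'.symm
    · linear_combination (h1' : v 1 + e1 * v 5 = 0) - v 1 * two
    · rw [h0'] at h2'
      linear_combination h2' - v 2 * two
  have hP₁ : ∀ w, M *ᵥ (M *ᵥ ι₁ w) = ι₁ w := fun w => by
    rw [hP]; refine ext6 ?_ ?_ ?_ ?_ ?_ ?_ <;> simp [ι₁] <;> ring_nf <;> simp [two, show (3 : 𝔽) = 1 from rfl, show (4 : 𝔽) = 0 from rfl]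
  have hP₂ : ∀ w, M *ᵥ (M *ᵥ ι₂ w) = 0 := fun w => by
    rw [hP]; refine ext6 ?_ ?_ ?_ ?_ ?_ ?_ <;> simp [ι₂] <;> ring_nf <;> simp [two, show (3 : 𝔽) = 1 from rfl, show (4 : 𝔽) = 0 from rfl]
  let H₁ : Part ρ :=
    { emb := ι₁
      pr := π₁
      pr_emb := fun w => by refine ext3 ?_ ?_ ?_ <;> simp [ι₁, π₁, LinearMap.funLeft]
      invariant := fun x w => hι₁ _ (by rw [hPc, hP₁]) }
  let H₂ : Part ρ :=
    { emb := ι₂
      pr := π₂
      pr_emb := fun w => by refine ext3 ?_ ?_ ?_ <;> simp [ι₂, π₂, LinearMap.funLeft]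
      invariant := fun x w => hι₂ _ (by rw [hPc, hP₂, Matrix.mulVec_zero]) }
  have hd₁ : ∀ d b c f, ρ d = actM b c f → ∀ w : W3,
      H₁.act d w = ![w 0, w 1 + b * w 0, w 2 + c * w 1 + (f + b * c) * w 0] := by
    intro d b c f e w
    rw [Part.act_apply, e, actM_mulVec]
    refine ext3 ?_ ?_ ?_ <;> simp [H₁, ι₁, π₁, LinearMap.funLeft]
  have hd₂ : ∀ d b c f, ρ d = actM b c f → ∀ w : W3,
      H₂.act d w = ![w 0 + b * w 1 + f * w 2, w 1 + c * w 2, w 2] := by
    intro d b c f e w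
    rw [Part.act_apply, e, actM_mulVec]
    refine ext3 ?_ ?_ ?_ <;> simp [H₂, ι₂, π₂, LinearMap.funLeft]
  have hrec : ∀ v : Vec, v = ι₁ (π₁ (M *ᵥ (M *ᵥ v))) + ι₂ (π₂ (v + M *ᵥ (M *ᵥ v))) := fun v => by
    have hidem : M *ᵥ (M *ᵥ (M *ᵥ (M *ᵥ v))) = M *ᵥ (M *ᵥ v) := by
      rw [hP (M *ᵥ (M *ᵥ v)), hP v]
      refine ext6 ?_ ?_ ?_ ?_ ?_ ?_ <;> simp <;> ring_nf <;> simp [two, show (3 : 𝔽) = 1 from rfl, show (4 : 𝔽) = 0 from rfl]
    rw [hι₁ _ hidem, hι₂ _ (by rw [Matrix.mulVec_add, Matrix.mulVec_add, hidem]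
                               exact funext fun k => CharTwo.add_self_eq_zero _)]
    exact funext fun k => by simp [← add_assoc, add_comm, CharTwo.add_self_eq_zero,
      show ∀ a b : 𝔽, a + (b + a) = b by decide]
  have hact : ∀ (H : Part ρ) (x : X) (w : W3), ρ x *ᵥ H.emb w = H.emb (H.act x w) := fun H x w => by
    rw [H.act_apply, H.invariant]
  have hspan : ∀ x, (∀ w, H₁.act x w = w) → (∀ w, H₂.act x w = w) → x = 1 := by
    intro x hx1 hx2
    refine h.inj (mat_ext fun v => ?_)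
    rw [map_one, Matrix.one_mulVec, hrec v, Matrix.mulVec_add]
    rw [show ∀ w, ρ x *ᵥ ι₁ w = ι₁ w from fun w => (hact H₁ x w).trans (congrArg _ (hx1 w)),
      show ∀ w, ρ x *ᵥ ι₂ w = ι₂ w from fun w => (hact H₂ x w).trans (congrArg _ (hx2 w))]
  have hone : ∀ d, ρ d = actM 0 0 0 → d = 1 := fun d e => h.inj (by rw [e, actM_zero, map_one])
  have hD₁ : ∀ d ∈ D, ∀ b c f, ρ d = actM b c f → (∀ w, H₁.act d w = w) → d = 1 := by
    intro d _ b c f e hw
    have k1 := hw ![1, 0, 0]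
    have k2 := hw ![0, 1, 0]
    rw [hd₁ d b c f e] at k1 k2
    have hb : b = 0 := by simpa using congrFun k1 1
    have hc : c = 0 := by simpa using congrFun k2 2
    have hf' : f = 0 := by simpa [hb] using congrFun k1 2
    exact hone d (by rw [e, hb, hc, hf'])
  have hD₂ : ∀ d ∈ D, ∀ b c f, ρ d = actM b c f → (∀ w, H₂.act d w = w) → d = 1 := by
    intro d _ b c f e hw
    have k1 := hw ![0, 1, 0]
    have k2 := hw ![0, 0, 1]
    rw [hd₂ d b c f e] at k1 k2
    have hb : b = 0 := by simpa using congrFun k1 0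
    have hc : c = 0 := by simpa using congrFun k2 1
    have hf' : f = 0 := by simpa using congrFun k2 0
    exact hone d (by rw [e, hb, hc, hf'])
  have hk1 := ker_eq_bot h H₁ H₂ hspan hD₁ fun d _ b f e hd => by
    refine ⟨![1, 0, 0], ![0, b, f], by simp, fun e' => by simpa using congrFun e' 0, fun e' => ?_,
      fun w => ?_⟩
    · have hb : b = 0 := by simpa using congrFun e' 1
      have hf' : f = 0 := by simpa using congrFun e' 2
      exact hd (hone d (by rw [e, hb, hf']))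
    · rw [hd₂ d b 0 f e]
      refine ext3 ?_ ?_ ?_ <;> simp [dotProduct, Fin.sum_univ_three, add_assoc]
  have hk2 := ker_eq_bot h H₂ H₁ (fun x a b => hspan x b a) hD₂ fun d _ b f e hd => by
    refine ⟨![0, b, f], ![1, 0, 0], by simp, fun e' => ?_, fun e' => by simpa using congrFun e' 0,
      fun w => ?_⟩
    · have hb : b = 0 := by simpa using congrFun e' 1
      have hf' : f = 0 := by simpa using congrFun e' 2
      exact hd (hone d (by rw [e, hb, hf']))
    · rw [hd₁ d b 0 f e]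
      refine ext3 ?_ ?_ ?_ <;> simp [dotProduct, Fin.sum_univ_three, mul_comm]
  refine ⟨H₁.card_dvd hk1, fun x hx hx1 => ?_⟩
  have hne : ∀ H : Part ρ, H.ker = ⊥ → ∃ w, H.act x w ≠ w := fun H hk => by
    by_contra hc
    push Not at hc
    have : x ∈ H.ker := hc
    rw [hk, Subgroup.mem_bot] at this
    exact hx1 this
  have hns : ∀ H : Part ρ, ∀ v, (H.act x)^[orderOf x] v = v := fun H v => by
    rw [H.act_iterate, pow_orderOf_eq_one, H.act_one]
  have f1 := card_fixed_le (H₁.act x) (H₁.act_injective x) hx (hns H₁) (hne H₁ hk1)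
  have f2 := card_fixed_le (H₂.act x) (H₂.act_injective x) hx (hns H₂) (hne H₂ hk2)
  refine le_trans (Nat.card_le_card_of_injective
    (β := {v : W3 // H₁.act x v = v} × {v : W3 // H₂.act x v = v})
    (fun v => (⟨π₁ (M *ᵥ (M *ᵥ v.1)), ?_⟩, ⟨π₂ (v.1 + M *ᵥ (M *ᵥ v.1)), ?_⟩)) ?_) ?_
  · rw [Part.act_apply]
    show π₁ (ρ x *ᵥ ι₁ (π₁ (M *ᵥ (M *ᵥ v.1)))) = _
    rw [hι₁ _ (by rw [hP (M *ᵥ (M *ᵥ v.1)), hP v.1]
                  refine ext6 ?_ ?_ ?_ ?_ ?_ ?_ <;> simp <;> ring_nf <;> simp [two, show (3 : 𝔽) = 1 from rfl, show (4 : 𝔽) = 0 from rfl]), ← hPc, v.2]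
  · rw [Part.act_apply]
    show π₂ (ρ x *ᵥ ι₂ (π₂ (v.1 + M *ᵥ (M *ᵥ v.1)))) = _
    rw [hι₂ _ (by rw [hP, hP v.1]
                  refine ext6 ?_ ?_ ?_ ?_ ?_ ?_ <;> simp <;> ring_nf <;> simp [two, show (3 : 𝔽) = 1 from rfl, show (4 : 𝔽) = 0 from rfl]),
      Matrix.mulVec_add, ← hPc, v.2]
  · intro v w e
    simp only [Prod.mk.injEq, Subtype.mk.injEq] at e
    exact Subtype.ext ((hrec v.1).trans ((by rw [e.1, e.2] :
      ι₁ (π₁ (M *ᵥ (M *ᵥ v.1))) + ι₂ (π₂ (v.1 + M *ᵥ (M *ᵥ v.1))) = _).trans (hrec w.1).symm))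
  · rw [Nat.card_prod]; exact Nat.mul_le_mul f1 f2

end Cfsg.Agent.M24SylowModuleSplit20
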