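import Mathlib
import Cfsg.Agent.Lib.M24SylowFacts20
import Cfsg.Agent.Lib.M24SylowModuleSplit20
import Cfsg.Agent.Lib.M24SylowClosure20
import Cfsg.Agent.Lib.StrongClosedNT20

/-!
# In a group of the Sylow type of `P/Z(P)` the abelian subgroup of order 64 is normal modulo `O`
-/

set_option autoImplicit false

namespace Cfsg.Agent.M24SylowNormal20

open Cfsg Cfsg.Agent.UniFiveTwo59 Cfsg.Agent.M24SylowModule20

open scoped Matrix

variable {G : Type*} [Group G] [Finite G] {S : Sylow 2 G} {A : Subgroup G}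

/-- the local facts, read off the coordinates -/
theorem exists_cfg (φ : ↥(S : Subgroup G) ≃* T) (hA : A ≤ (S : Subgroup G)) (hAc : IsMulCommutative ↥A)
    (hA64 : Nat.card ↥A = 64)
    (huniq : ∀ B : Subgroup G, B ≤ (S : Subgroup G) → IsMulCommutative ↥B → Nat.card ↥B = 64 → B = A) :
    M24SylowClosure20.Cfg S A ∧
      ∀ x : ↥(S : Subgroup G), (x : G) ∈ A ↔ φ x ∈ UniFiveTwo59.A := by
  have hmap : (A.subgroupOf (S : Subgroup G)).map φ.toMonoidHom = UniFiveTwo59.A := by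
    refine UniFiveTwo59.eq_A ⟨⟨fun x y => Subtype.ext ?_⟩⟩ ?_
    · obtain ⟨a, ha, hx⟩ := x.2
      obtain ⟨b, hb, hy⟩ := y.2
      show (x : T) * y = y * x
      rw [← hx, ← hy, ← map_mul, ← map_mul]
      exact congrArg _ (Subtype.ext (congrArg Subtype.val
        (hAc.is_comm.comm (⟨a.1, Subgroup.mem_subgroupOf.1 ha⟩ : A) ⟨b.1, Subgroup.mem_subgroupOf.1 hb⟩) :))
    · rw [Subgroup.card_map_of_injective φ.injective,
        Nat.card_congr (Subgroup.subgroupOfEquivOfLe hA).toEquiv, hA64]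
  have hiff : ∀ x : ↥(S : Subgroup G), (x : G) ∈ A ↔ φ x ∈ UniFiveTwo59.A := fun x => by
    rw [← hmap]
    exact ⟨fun hx => ⟨x, hx, rfl⟩, fun ⟨z, hz, e⟩ => φ.injective e ▸ hz⟩
  refine ⟨?_, hiff⟩
  have hmul : ∀ x y : ↥(S : Subgroup G), ((x : G) * y ∈ A ↔ φ x * φ y ∈ UniFiveTwo59.A) :=
    fun x y => by rw [← map_mul]; exact hiff (x * y)
  have hsq : ∀ x y : ↥(S : Subgroup G), ((x : G) * y * (x * y) ∈ A ↔
      φ x * φ y * (φ x * φ y) ∈ UniFiveTwo59.A) :=
    fun x y => by rw [← map_mul φ x y]; exact hmul (x * y) (x * y)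
  have hcA : ∀ y : ↥(S : Subgroup G), Nat.card (M24SylowClosure20.cA A (y : G)) =
      Nat.card {t : T // t ∈ UniFiveTwo59.A ∧ t * φ y = φ y * t} := fun y => by
    refine Nat.card_congr (Equiv.ofBijective (fun a => ⟨φ ⟨a.1, hA (Subgroup.mem_inf.1 a.2).1⟩,
      (hiff _).1 (Subgroup.mem_inf.1 a.2).1, by
        rw [← map_mul, ← map_mul]
        exact congrArg φ (Subtype.ext
          (Subgroup.mem_centralizer_singleton_iff.1 (Subgroup.mem_inf.1 a.2).2))⟩) ⟨?_, ?_⟩)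
    · intro a b e
      exact Subtype.ext (congrArg Subtype.val (φ.injective (congrArg Subtype.val e)) :)
    · rintro ⟨t, ht, htc⟩
      obtain ⟨z, rfl⟩ := φ.surjective t
      exact ⟨⟨z.1, Subgroup.mem_inf.2 ⟨(hiff z).2 ht, Subgroup.mem_centralizer_singleton_iff.2
        (congrArg Subtype.val (φ.injective (by rw [map_mul, map_mul]; exact htc) : z * y = y * z))⟩⟩,
        rfl⟩
  refine ⟨hA, ⟨hAc, fun a ha => ?_⟩, hA64, huniq, ?_, ?_, ?_, ?_⟩
  · have h := UniFiveTwo59.A_elementary.2 _ ((hiff ⟨a, hA ha⟩).1 ha)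
    rw [← map_pow, ← map_one φ] at h
    exact congrArg Subtype.val (φ.injective h)
  · intro y hy hyA hyy
    rw [hcA ⟨y, hy⟩]
    exact M24SylowFacts20.card_one (fun k => hyA ((hiff _).2 k)) ((hmul ⟨y, hy⟩ ⟨y, hy⟩).1 hyy)
  · intro y hy z hz hyA hzA hyzA hyy hzz hp
    have k1 : φ ⟨y, hy⟩ ∉ UniFiveTwo59.A := fun k => hyA ((hiff _).2 k)
    have k2 : φ ⟨z, hz⟩ ∉ UniFiveTwo59.A := fun k => hzA ((hiff _).2 k)
    have k3 := (hmul ⟨y, hy⟩ ⟨y, hy⟩).1 hyy
    have k4 := (hmul ⟨z, hz⟩ ⟨z, hz⟩).1 hzz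
    have k5 := (hsq ⟨y, hy⟩ ⟨z, hz⟩).1 hp
    refine ⟨?_, fun a ha => ?_⟩
    · rw [← M24SylowFacts20.card_two k1 k2 (fun k => hyzA ((hmul ⟨y, hy⟩ ⟨z, hz⟩).2 k)) k3 k4 k5]
      refine Nat.card_congr (Equiv.ofBijective (fun a => ⟨φ ⟨a.1, hA a.2.1.1⟩,
        (hiff _).1 a.2.1.1, ?_, ?_⟩) ⟨?_, ?_⟩)
      · rw [← map_mul, ← map_mul]
        exact congrArg φ (Subtype.ext (Subgroup.mem_centralizer_singleton_iff.1 a.2.1.2))
      · rw [← map_mul, ← map_mul]
        exact congrArg φ (Subtype.ext (Subgroup.mem_centralizer_singleton_iff.1 a.2.2.2))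
      · intro a b e
        exact Subtype.ext (congrArg Subtype.val (φ.injective (congrArg Subtype.val e)) :)
      · rintro ⟨t, ht, htc, htc'⟩
        obtain ⟨w, rfl⟩ := φ.surjective t
        refine ⟨⟨w.1, ⟨(hiff w).2 ht, Subgroup.mem_centralizer_singleton_iff.2 ?_⟩,
          ⟨(hiff w).2 ht, Subgroup.mem_centralizer_singleton_iff.2 ?_⟩⟩, rfl⟩
        · exact congrArg Subtype.val
            (φ.injective (by rw [map_mul, map_mul]; exact htc) : w * ⟨y, hy⟩ = ⟨y, hy⟩ * w)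
        · exact congrArg Subtype.val
            (φ.injective (by rw [map_mul, map_mul]; exact htc') : w * ⟨z, hz⟩ = ⟨z, hz⟩ * w)
    · have h := M24SylowFacts20.commutator_commute ((hiff ⟨a, hA ha⟩).1 ha) k1 k2 k3 k4 k5
      simp only [← map_inv, ← map_mul] at h
      exact congrArg Subtype.val (φ.injective h)
  · intro y hy hyy
    rw [hcA ⟨y, hy⟩]
    exact M24SylowFacts20.card_four fun k => hyy ((hmul ⟨y, hy⟩ ⟨y, hy⟩).2 k)
  · intro y hy z hz e he hyA hzA hyzA hyy hzz hp hee hye hze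
    rcases M24SylowFacts20.three (fun k => hyA ((hiff ⟨y, hy⟩).2 k)) (fun k => hzA ((hiff ⟨z, hz⟩).2 k))
      (fun k => hyzA ((hmul ⟨y, hy⟩ ⟨z, hz⟩).2 k)) ((hmul ⟨y, hy⟩ ⟨y, hy⟩).1 hyy)
      ((hmul ⟨z, hz⟩ ⟨z, hz⟩).1 hzz) ((hsq ⟨y, hy⟩ ⟨z, hz⟩).1 hp)
      ((hmul ⟨e, he⟩ ⟨e, he⟩).1 hee) ((hsq ⟨y, hy⟩ ⟨e, he⟩).1 hye)
      ((hsq ⟨z, hz⟩ ⟨e, he⟩).1 hze) with k | k | k | k
    · exact Or.inl ((hiff ⟨e, he⟩).2 k)
    · exact Or.inr (Or.inl ((hmul ⟨y, hy⟩ ⟨e, he⟩).2 k))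
    · exact Or.inr (Or.inr (Or.inl ((hmul ⟨z, hz⟩ ⟨e, he⟩).2 k)))
    · refine Or.inr (Or.inr (Or.inr ((hmul (⟨y, hy⟩ * ⟨z, hz⟩) ⟨e, he⟩).2 ?_)))
      rwa [map_mul]

/-- The abelian subgroup of order 64 is normal. -/
theorem normal (φ : ↥(S : Subgroup G) ≃* T) (hO : pPrimeCore 2 G = ⊥)
    (hA : A ≤ (S : Subgroup G)) (hAc : IsMulCommutative ↥A)
    (hA64 : Nat.card ↥A = 64)
    (huniq : ∀ B : Subgroup G, B ≤ (S : Subgroup G) → IsMulCommutative ↥B → Nat.card ↥B = 64 → B = A) :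
    A.Normal := by
  classical
  haveI : Fact (Nat.Prime 2) := ⟨Nat.prime_two⟩
  obtain ⟨hcfg, hiff⟩ := exists_cfg φ hA hAc hA64 huniq
  set N := Subgroup.normalizer (A : Set G) with hNdef
  have hAmem : ∀ (n : N) {a : G}, a ∈ A → (n : G) * a * (n : G)⁻¹ ∈ A := fun n a ha =>
    (Subgroup.mem_normalizer_iff.1 n.2 a).1 ha
  -- coordinates on `A`
  let κ : A → Vec := fun a => M24SylowFacts20.vec (φ ⟨a.1, hA a.2⟩)
  have hκadd : ∀ a b : A, κ (a * b) = κ a + κ b := fun a b => by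
    show M24SylowFacts20.vec (φ (⟨a.1, hA a.2⟩ * ⟨b.1, hA b.2⟩)) = _
    rw [map_mul, M24SylowFacts20.vec_mul ((hiff _).1 a.2) ((hiff _).1 b.2)]
  have hκbij : Function.Bijective κ := by
    refine ⟨fun a b e => Subtype.ext (congrArg Subtype.val
      (φ.injective (M24SylowFacts20.vec_injOn ((hiff _).1 a.2) ((hiff _).1 b.2) e)) :), fun v => ?_⟩
    obtain ⟨t, ht, rfl⟩ := M24SylowFacts20.vec_surj v
    obtain ⟨x, rfl⟩ := φ.surjective t
    exact ⟨⟨x.1, (hiff x).2 ht⟩, rfl⟩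
  let κe : A ≃ Vec := Equiv.ofBijective κ hκbij
  have hκe : ∀ v, κ (κe.symm v) = v := κe.apply_symm_apply
  let cj : N → A → A := fun n a => ⟨(n : G) * a * (n : G)⁻¹, hAmem n a.2⟩
  let f : N → Vec →ₗ[ZMod 2] Vec := fun n =>
    (AddMonoidHom.mk' (fun v => κ (cj n (κe.symm v))) fun v w => by
      rw [← hκadd]
      congr 1
      have h1 : κe.symm (v + w) = κe.symm v * κe.symm w := hκbij.1 (by rw [hκadd, hκe, hκe, hκe])
      rw [h1]
      exact Subtype.ext (by simp [cj])).toZModLinearMap 2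
  have hf : ∀ n a, f n (κ a) = κ (cj n a) := fun n a => by
    show κ (cj n (κe.symm (κ a))) = _
    rw [show κe.symm (κ a) = a from κe.symm_apply_apply a]
  let ρN : N →* Mat :=
    { toFun := fun n => LinearMap.toMatrix' (f n)
      map_one' := by
        rw [show f 1 = LinearMap.id from LinearMap.ext fun v => by
          obtain ⟨a, rfl⟩ := hκbij.2 v
          rw [hf, LinearMap.id_apply]; exact congrArg κ (Subtype.ext (by simp [cj])), LinearMap.toMatrix'_id]
      map_mul' := fun m n => by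
        rw [show f (m * n) = f m ∘ₗ f n from LinearMap.ext fun v => by
          obtain ⟨a, rfl⟩ := hκbij.2 v
          rw [LinearMap.comp_apply, hf, hf, hf]
          exact congrArg κ (Subtype.ext (by simp [cj, mul_assoc])), LinearMap.toMatrix'_comp] }
  have hρ : ∀ n a, ρN n *ᵥ κ a = κ (cj n a) := fun n a => by
    show LinearMap.toMatrix' (f n) *ᵥ κ a = _
    rw [LinearMap.toMatrix'_mulVec, hf]
  -- the image
  let g : N →* GL (Fin 6) (ZMod 2) := MonoidHom.toHomUnits ρN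
  let ρ : g.range →* Mat := (Units.coeHom Mat).comp g.range.subtype
  have hρg : ∀ n : N, ρ (g.rangeRestrict n) = ρN n := fun n => rfl
  have hSN : (S : Subgroup G) ≤ N := fun x hx => hcfg.mem_normalizer S.isPGroup' hA fun a ha =>
    mul_mem (mul_mem hx (hA ha)) (inv_mem hx)
  let D : Subgroup g.range := ((S : Subgroup G).subgroupOf N).map g.rangeRestrict
  have hshape : ∀ x : ↥(S : Subgroup G),
      ρN ⟨x.1, hSN x.2⟩ = actM (φ x).b (φ x).c (φ x).f := fun x => by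
    refine mat_ext fun v => ?_
    obtain ⟨a, rfl⟩ := hκbij.2 v
    rw [hρ]
    show M24SylowFacts20.vec (φ ⟨x.1 * a.1 * x.1⁻¹, _⟩) = _
    rw [← (M24SylowFacts20.vec_conj (y := φ x) ((hiff ⟨a.1, hA a.2⟩).1 a.2)).2, ← map_inv, ← map_mul,
      ← map_mul]
    rfl
  have hdata : Data ρ D := by
    refine ⟨Units.val_injective.comp g.range.subtype_injective, ?_, ?_, ?_, ?_⟩
    · exact (S.isPGroup'.comap_of_injective N.subtype N.subtype_injective).map _
    · intro h2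
      refine S.not_dvd_index (h2.trans ((Subgroup.index_map_dvd _ g.rangeRestrict_surjective).trans ?_))
      exact Subgroup.relIndex_dvd_index_of_le hSN
    · rintro _ ⟨n, hn, rfl⟩
      exact ⟨_, _, _, (hρg n).trans (hshape ⟨n.1, hn⟩)⟩
    · intro b c f'
      let t : T := ⟨0, b, c, 0, 0, f', 0, 0, 0⟩
      refine ⟨g.rangeRestrict ⟨(φ.symm t).1, hSN (φ.symm t).2⟩, ⟨_, (φ.symm t).2, rfl⟩, ?_⟩
      rw [hρg, hshape, φ.apply_symm_apply]
  obtain ⟨h168, hfix⟩ := M24SylowModuleSplit20.main hdata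
  refine StrongClosedNT20.normal_of_hyp ⟨hcfg.el, hcfg.sc, ?_⟩ hO
  intro Y C hC hYA hYC hodd htrans
  by_contra hcon
  rw [hA64, not_le] at hcon
  have hYN : Y ≤ N := fun y hy => by
    refine Subgroup.mem_normalizer_iff_map_conj_eq.2 (Subgroup.eq_of_le_of_card_ge ?_
      (by rw [Subgroup.card_map_of_injective (MulAut.conj y).injective]))
    rintro _ ⟨a, ha, rfl⟩; simpa using hYA y hy a ha
  let g' : Y →* g.range := g.rangeRestrict.comp (Subgroup.inclusion hYN)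
  -- the orbit map
  obtain ⟨b, hb, hbC⟩ : ∃ b ∈ A, b ∉ C := by
    by_contra hc
    push Not at hc
    have := Subgroup.card_le_of_le (hc : A ≤ C)
    omega
  let CA := C.subgroupOf A
  let F : Y → ↥A ⧸ CA := fun y =>
    ((⟨(y : G) * b * (y : G)⁻¹, hYA y y.2 b hb⟩ : A) : ↥A ⧸ CA)
  have hsqA : ∀ a ∈ A, a⁻¹ = a := fun a ha => hcfg.inv_eq ha
  let H : Subgroup Y :=
    { carrier := {y | F y = F 1}
      one_mem' := rfl
      mul_mem' := fun {y z} hy hz => by
        simp only [Set.mem_setOf_eq, F, QuotientGroup.eq, CA, Subgroup.mem_subgroupOf] at hy hz ⊢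
        simp only [Subgroup.coe_mul, Subgroup.coe_inv, Subgroup.coe_one, one_mul, inv_one,
          mul_one] at hy hz ⊢
        have := mul_mem (hYC y y.2 _ hz) hy
        rwa [show (y : G) * (((z : G) * b * (z : G)⁻¹)⁻¹ * b) * (y : G)⁻¹ *
          (((y : G) * b * (y : G)⁻¹)⁻¹ * b) = ((y : G) * z * b * ((y : G) * z)⁻¹)⁻¹ * b by group] at this
      inv_mem' := fun {y} hy => by
        simp only [Set.mem_setOf_eq, F, QuotientGroup.eq, CA, Subgroup.mem_subgroupOf] at hy ⊢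
        simp only [Subgroup.coe_mul, Subgroup.coe_inv, Subgroup.coe_one, one_mul, inv_one, mul_one,
          inv_inv] at hy ⊢
        have := inv_mem (hYC _ (inv_mem y.2) _ hy)
        rwa [show ((y : G)⁻¹ * (((y : G) * b * (y : G)⁻¹)⁻¹ * b) * (y : G)⁻¹⁻¹)⁻¹ =
          ((y : G)⁻¹ * b * (y : G))⁻¹ * b by group] at this }
  have hFeq : ∀ y z : Y, F y = F z ↔ z⁻¹ * y ∈ H := by
    intro y z
    show _ ↔ F (z⁻¹ * y) = F 1
    simp only [F, QuotientGroup.eq, CA, Subgroup.mem_subgroupOf]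
    simp only [Subgroup.coe_mul, Subgroup.coe_inv, Subgroup.coe_one, one_mul, inv_one, mul_one]
    constructor <;> intro h
    · have := hYC _ (inv_mem z.2) _ h
      rwa [show (z : G)⁻¹ * (((y : G) * b * (y : G)⁻¹)⁻¹ * ((z : G) * b * (z : G)⁻¹)) * (z : G)⁻¹⁻¹ =
        ((z : G)⁻¹ * y * b * ((z : G)⁻¹ * y)⁻¹)⁻¹ * b by group] at this
    · have := hYC z z.2 _ h
      rwa [show (z : G) * (((z : G)⁻¹ * y * b * ((z : G)⁻¹ * y)⁻¹)⁻¹ * b) * (z : G)⁻¹ =
        ((y : G) * b * (y : G)⁻¹)⁻¹ * ((z : G) * b * (z : G)⁻¹) by group] at this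
  have hindex : H.index = Nat.card {q : ↥A ⧸ CA // q ≠ 1} := by
    refine Nat.card_congr (Equiv.ofBijective (fun q => Quotient.liftOn' q
      (fun y => (⟨F y, ?_⟩ : {q : ↥A ⧸ CA // q ≠ 1})) ?_) ⟨?_, ?_⟩)
    · intro e
      rw [QuotientGroup.eq_one_iff] at e
      have e' : (y : G) * b * (y : G)⁻¹ ∈ C := e
      have := hYC _ (inv_mem y.2) _ e'
      rw [show (y : G)⁻¹ * ((y : G) * b * (y : G)⁻¹) * (y : G)⁻¹⁻¹ = b by group] at this
      exact hbC this
    · intro y z hyz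
      refine Subtype.ext ((hFeq y z).2 ?_)
      have := inv_mem (QuotientGroup.leftRel_apply.1 hyz)
      rwa [mul_inv_rev, inv_inv] at this
    · intro p q e
      induction p using QuotientGroup.induction_on with | _ y => ?_
      induction q using QuotientGroup.induction_on with | _ z => ?_
      refine (QuotientGroup.eq.2 ?_).symm
      exact (hFeq y z).1 (congrArg Subtype.val e)
    · rintro ⟨q, hq⟩
      induction q using QuotientGroup.induction_on with | _ a => ?_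
      have haC : (a : G) ∉ C := fun k => hq ((QuotientGroup.eq_one_iff a).2 k)
      obtain ⟨y, hy, hyc⟩ := htrans b hb hbC a a.2 haC
      refine ⟨QuotientGroup.mk ⟨y, hy⟩, Subtype.ext (QuotientGroup.eq.2 ?_)⟩
      show (y * b * y⁻¹)⁻¹ * (a : G) ∈ C
      have := inv_mem hyc
      rwa [mul_inv_rev, inv_inv, hcfg.comm a.2 (inv_mem (hYA y hy b hb))] at this
  have hkerH : g'.ker ≤ H := by
    intro y hy
    have hk : ρN ⟨y.1, hYN y.2⟩ = 1 := congrArg (fun u : g.range => ρ u) (MonoidHom.mem_ker.1 hy)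
    have hfixed : cj ⟨y.1, hYN y.2⟩ ⟨b, hb⟩ = ⟨b, hb⟩ := hκbij.1 (by rw [← hρ, hk, Matrix.one_mulVec])
    have he : (y : G) * b * (y : G)⁻¹ = b := congrArg Subtype.val hfixed
    show F y = F 1
    simp only [F]
    congr 1
    exact Subtype.ext (by simp [he])
  have hdvd : H.index ∣ 168 := by
    refine ((Subgroup.index_dvd_of_le hkerH).trans ?_).trans h168
    rw [Subgroup.index_ker]
    exact Subgroup.card_subgroup_dvd_card _
  -- the possible sizes
  have hcardQ : Nat.card C * (H.index + 1) = 64 := by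
    have h1 := Subgroup.card_eq_card_quotient_mul_card_subgroup CA
    rw [hA64, Nat.card_congr (Subgroup.subgroupOfEquivOfLe hC).toEquiv] at h1
    rw [hindex]
    have h2 : Nat.card {q : ↥A ⧸ CA // q ≠ 1} + 1 = Nat.card (↥A ⧸ CA) := by
      haveI : Fintype (↥A ⧸ CA) := Fintype.ofFinite _
      rw [Nat.card_eq_fintype_card, Nat.card_eq_fintype_card, Fintype.card_subtype_compl,
        Fintype.card_subtype_eq]
      have := Fintype.card_pos (α := ↥A ⧸ CA)
      omega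
    rw [h2, mul_comm]; exact h1.symm
  have hC8 : 8 ≤ Nat.card C ∧ (H.index = 3 ∨ H.index = 7) := by
    obtain ⟨j, hj, hjc⟩ := (Nat.dvd_prime_pow Nat.prime_two).1
      (show Nat.card C ∣ 2 ^ 6 from ⟨_, hcardQ.symm⟩)
    rw [hjc] at hcardQ hcon ⊢
    interval_cases j <;> simp at hcardQ hcon ⊢ <;>
      first
        | omega
        | (have : H.index = 63 := by omega
           rw [this] at hdvd; omega)
        | (have : H.index = 31 := by omega
           rw [this] at hdvd; omega)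
        | (have : H.index = 15 := by omega
           rw [this] at hdvd; omega)
  obtain ⟨hC8, hidx⟩ := hC8
  have hprime : H.index.Prime := by rcases hidx with e | e <;> rw [e] <;> norm_num
  haveI : Fact H.index.Prime := ⟨hprime⟩
  obtain ⟨P⟩ : Nonempty (Sylow H.index Y) := inferInstance
  obtain ⟨y, hyP, hyH⟩ : ∃ y ∈ (P : Subgroup Y), y ∉ H := by
    by_contra hc
    push Not at hc
    exact P.not_dvd_index (Subgroup.index_dvd_of_le (hc : (P : Subgroup Y) ≤ H))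
  have hyodd : Odd (orderOf y) := by
    obtain ⟨k, hk⟩ := (IsPGroup.iff_orderOf.1 P.isPGroup') ⟨y, hyP⟩
    rw [Subgroup.orderOf_mk] at hk
    rw [hk]
    exact Odd.pow (by rcases hidx with e | e <;> rw [e] <;> decide)
  have hg'1 : g' y ≠ 1 := fun e => hyH (hkerH (MonoidHom.mem_ker.2 e))
  have h4 := hfix (g' y) (hyodd.of_dvd_nat (orderOf_map_dvd g' y)) hg'1
  have hinj : Nat.card C ≤ Nat.card {v : Vec // ρ (g' y) *ᵥ v = v} := by
    refine Nat.card_le_card_of_injective (fun c => ⟨κ ⟨c.1, hC c.2⟩, ?_⟩) ?_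
    · show ρN ⟨y.1, hYN y.2⟩ *ᵥ _ = _
      rw [hρ]
      exact congrArg κ (Subtype.ext (hodd y.1 y.2 (by rwa [Subgroup.orderOf_coe]) c.1 c.2))
    · intro c d e
      exact Subtype.ext (congrArg Subtype.val (hκbij.1 (congrArg Subtype.val e)) :)
  omega

end Cfsg.Agent.M24SylowNormal20
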