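import Mathlib
import Cfsg.Agent.Lib.GolaySylowTwo
import Cfsg.Agent.Lib.UniFiveTwo59

set_option autoImplicit false

/-!
A Sylow 2-subgroup of M24 is the unitriangular group of degree five over the field of two elements.
-/

namespace Cfsg.Agent.M24SylowTwo59

open Cfsg Cfsg.Agent.GolayBasic Cfsg.Agent.GolayOctadStab Cfsg.Agent.UniFiveTwo59
open scoped Pointwise

/-- The octad stabiliser embeds in the affine group of dimension four. -/
theorem exists_affine_embedding {o : Finset GolayPt} (ho : o ∈ octads) :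
    ∃ Φ : ↥(soct o) →* GL (Fin 5) (ZMod 2), Function.Injective Φ := by
  classical
  obtain ⟨p, hp⟩ := exists_notMem ho
  haveI := (isElementaryAbelian_pfix ho).1
  obtain ⟨u, hu⟩ : ∃ u : pfix o, u ≠ 1 := by
    haveI : Nontrivial (pfix o) := Finite.one_lt_card_iff_nontrivial.1 (by rw [card_pfix ho]; norm_num)
    exact exists_ne 1
  obtain ⟨e, he, -⟩ := LargeExtraspecialAGL.exists_coord (n := 3) (isElementaryAbelian_pfix ho)
    (by rw [card_pfix ho]; norm_num) u hu
  let c : ↥(pfix o) ≃ (Fin 4 → ZMod 2) := e.trans (Fin.consEquiv fun _ => ZMod 2)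
  have hc : ∀ a b, c (a * b) = c a + c b := fun a b => by
    funext i
    refine Fin.cases ?_ (fun j => ?_) i <;> simp [c, he, Fin.consEquiv]
  have hc1 : c 1 = 0 := by
    have := hc 1 1
    rwa [mul_one, left_eq_add] at this
  let cj : soct o → pfix o → pfix o := fun x v => ⟨x.1 * v.1 * x.1⁻¹, pfix_conj x.2 v.2⟩
  have hcj_mul : ∀ x a b, cj x (a * b) = cj x a * cj x b := fun x a b => Subtype.ext (by
    show x.1 * (a.1 * b.1) * x.1⁻¹ = x.1 * a.1 * x.1⁻¹ * (x.1 * b.1 * x.1⁻¹)
    group)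
  have hcj_comp : ∀ x y v, cj (x * y) v = cj x (cj y v) := fun x y v => Subtype.ext (by
    show (x.1 * y.1) * v.1 * (x.1 * y.1)⁻¹ = x.1 * (y.1 * v.1 * y.1⁻¹) * x.1⁻¹
    group)
  let lin : soct o → (Fin 4 → ZMod 2) →ₗ[ZMod 2] (Fin 4 → ZMod 2) := fun x =>
    (AddMonoidHom.mk' (fun v => c (cj x (c.symm v))) fun v w => by
      rw [← hc, ← hcj_mul]
      congr 2
      apply c.injective
      rw [hc, c.apply_symm_apply, c.apply_symm_apply, c.apply_symm_apply]).toZModLinearMap 2
  have hlin : ∀ x v, lin x v = c (cj x (c.symm v)) := fun x v => rfl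
  -- the translation part
  have hout : ∀ x : soct o, ((x.1 : Equiv.Perm GolayPt)) p ∉ o := by
    intro x h
    apply hp
    rw [← Finset.smul_mem_smul_finset_iff (x.1 : Equiv.Perm GolayPt), Equiv.Perm.smul_def,
      mem_soct.1 x.2]
    exact h
  choose t ht using fun x : soct o => pfix_trans ho hp (hout x)
  let tv : soct o → pfix o := fun x => ⟨t x, (ht x).1⟩
  have htv : ∀ x, ((tv x).1 : Equiv.Perm GolayPt) p = (x.1 : Equiv.Perm GolayPt) p :=
    fun x => (ht x).2
  have huniq : ∀ v w : pfix o, (v.1 : Equiv.Perm GolayPt) p = (w.1 : Equiv.Perm GolayPt) p → v = w :=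
    fun v w h => Subtype.ext (inv_mul_eq_one.1 (pfix_semireg ho (mul_mem (inv_mem v.2) w.2) hp (by
      rw [Subgroup.coe_mul, Subgroup.coe_inv, Equiv.Perm.mul_apply, ← h,
        Equiv.Perm.inv_eq_iff_eq])))
  have htmul : ∀ x y, tv (x * y) = tv x * cj x (tv y) := by
    intro x y
    refine huniq _ _ ?_
    rw [htv]
    set m := (tv x).1⁻¹ * x.1 with hm
    have hmp : (m : Equiv.Perm GolayPt) p = p := by
      rw [hm, Subgroup.coe_mul, Subgroup.coe_inv, Equiv.Perm.mul_apply, Equiv.Perm.inv_eq_iff_eq,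
        htv]
    have e1 : ((tv x * cj x (tv y) : pfix o) : ↥M24) = x.1 * (tv y).1 * m⁻¹ := by
      show (tv x).1 * (x.1 * (tv y).1 * x.1⁻¹) = _
      rw [pfix_comm ho (tv x).2 (pfix_conj x.2 (tv y).2), hm]
      group
    have hminv : ((m⁻¹ : ↥M24) : Equiv.Perm GolayPt) p = p := by
      rw [Subgroup.coe_inv, Equiv.Perm.inv_eq_iff_eq, hmp]
    simp only [e1, Subgroup.coe_mul, Equiv.Perm.mul_apply, hminv, htv y]
  -- the matrix
  let aff : soct o → Matrix (Fin 5) (Fin 5) (ZMod 2) := fun x =>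
    Matrix.reindexAlgEquiv (ZMod 2) (ZMod 2) (finSumFinEquiv (m := 4) (n := 1))
      (Matrix.fromBlocks (LinearMap.toMatrix' (lin x)) (Matrix.replicateCol (Fin 1) (c (tv x))) 0 1)
  have hlmul : ∀ x y, LinearMap.toMatrix' (lin (x * y)) =
      LinearMap.toMatrix' (lin x) * LinearMap.toMatrix' (lin y) := fun x y => by
    rw [← LinearMap.toMatrix'_comp]
    congr 1
    refine LinearMap.ext fun v => ?_
    simp only [LinearMap.comp_apply, hlin, hcj_comp, c.symm_apply_apply]
  have hmul : ∀ x y, aff (x * y) = aff x * aff y := by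
    intro x y
    have h : c (tv (x * y)) = c (tv x) + (LinearMap.toMatrix' (lin x)).mulVec (c (tv y)) := by
      rw [htmul, hc, ← Matrix.toLin'_apply, Matrix.toLin'_toMatrix', hlin, c.symm_apply_apply]
    simp only [aff]
    rw [← map_mul, Matrix.fromBlocks_multiply, hlmul x y, h, Matrix.replicateCol_add]
    congr 2 <;> simp [← Matrix.replicateCol_mulVec, LinearMap.toMatrix'_mulVec, add_comm]
  have hone : aff 1 = 1 := by
    have h1 : tv 1 = 1 := huniq _ _ (by rw [htv]; rfl)
    have h2 : lin 1 = LinearMap.id := LinearMap.ext fun v => by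
      rw [hlin, show cj 1 (c.symm v) = c.symm v from Subtype.ext (by
        show 1 * (c.symm v).1 * 1⁻¹ = _; group), c.apply_symm_apply, LinearMap.id_apply]
    simp only [aff, h1, h2, hc1, LinearMap.toMatrix'_id, Matrix.replicateCol_zero,
      Matrix.fromBlocks_one, map_one]
  refine ⟨MonoidHom.toHomUnits { toFun := aff, map_one' := hone, map_mul' := hmul }, ?_⟩
  rw [← MonoidHom.ker_eq_bot_iff, Subgroup.eq_bot_iff_forall]
  intro x hx
  have h : aff x = aff 1 := (congrArg Units.val (MonoidHom.mem_ker.1 hx)).trans hone.symm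
  simp only [aff] at h
  obtain ⟨hl, ht', -, -⟩ := Matrix.fromBlocks_inj.1 ((Matrix.reindexAlgEquiv (ZMod 2) (ZMod 2)
    (finSumFinEquiv (m := 4) (n := 1))).injective h)
  have h1 : tv 1 = 1 := huniq _ _ (by rw [htv]; rfl)
  have htx : tv x = 1 := by
    rw [← h1]
    exact c.injective (funext fun i => congrFun (congrFun ht' i) 0)
  have hxp : (x.1 : Equiv.Perm GolayPt) p = p := by rw [← htv x, htx]; rfl
  refine Subtype.ext (comp_faithful ho hp ⟨x.2, hxp⟩ fun v hv => ?_)
  have h2 := LinearMap.congr_fun (LinearMap.toMatrix'.injective hl) (c ⟨v, hv⟩)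
  rw [hlin, hlin, c.symm_apply_apply] at h2
  have h3 := congrArg Subtype.val (c.injective h2)
  simpa [cj] using h3

/-- The isomorphism. -/
theorem exists_equiv (S : Sylow 2 ↥M24) : Nonempty (↥(S : Subgroup ↥M24) ≃* U) := by
  classical
  haveI : Fact (Nat.Prime 2) := ⟨Nat.prime_two⟩
  let X := {o : Finset GolayPt // o ∈ octads}
  letI : MulAction ↥(S : Subgroup ↥M24) X :=
    { smul := fun g o => ⟨((g : ↥M24) : Equiv.Perm GolayPt) • o.1,
        GolayPerm.smul_mem_octads (g : ↥M24).2 o.2⟩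
      one_smul := fun o => Subtype.ext (one_smul _ o.1)
      mul_smul := fun a b o => Subtype.ext (mul_smul _ _ o.1) }
  haveI : Finite X := Subtype.finite
  obtain ⟨⟨o, ho⟩, hofix⟩ := S.isPGroup'.nonempty_fixed_point_of_prime_not_dvd_card X (by
    rw [show Nat.card X = octads.ncard from Nat.card_coe_set_eq octads, ncard_octads]; decide)
  have hSo : (S : Subgroup ↥M24) ≤ soct o := fun g hg => congrArg Subtype.val (hofix ⟨g, hg⟩)
  obtain ⟨Φ, hΦ⟩ := exists_affine_embedding ho
  have hcardS : Nat.card (S : Subgroup ↥M24) = 2 ^ 10 := by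
    rw [S.card_eq_multiplicity, GolayM24.card_M24,
      show (244823040 : ℕ) = 2 ^ 10 * 239085 by norm_num,
      Nat.factorization_mul (by norm_num) (by norm_num), Finsupp.add_apply, Nat.factorization_pow,
      Finsupp.smul_apply, Nat.Prime.factorization_self Nat.prime_two,
      Nat.factorization_eq_zero_of_not_dvd (by norm_num : ¬ 2 ∣ 239085)]
    simp
  have hcardG : (Nat.card (GL (Fin 5) (ZMod 2))).factorization 2 = 10 := by
    rw [Matrix.card_GL_field, ZMod.card,
      show (∏ i : Fin 5, (2 ^ 5 - 2 ^ (i : ℕ))) = 2 ^ 10 * 9765 by decide,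
      Nat.factorization_mul (by norm_num) (by norm_num), Finsupp.add_apply, Nat.factorization_pow,
      Finsupp.smul_apply, Nat.Prime.factorization_self Nat.prime_two,
      Nat.factorization_eq_zero_of_not_dvd (by norm_num : ¬ 2 ∣ 9765)]
    simp
  let ι : ↥(S : Subgroup ↥M24) →* GL (Fin 5) (ZMod 2) := Φ.comp (Subgroup.inclusion hSo)
  have hι : Function.Injective ι := hΦ.comp (Subgroup.inclusion_injective hSo)
  have e1 := MonoidHom.ofInjective hι
  have e2 := MonoidHom.ofInjective toGL_injective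
  let P : Sylow 2 (GL (Fin 5) (ZMod 2)) := Sylow.ofCard ι.range (by
    rw [← Nat.card_congr e1.toEquiv, hcardS, hcardG])
  let Q : Sylow 2 (GL (Fin 5) (ZMod 2)) := Sylow.ofCard toGL.range (by
    rw [← Nat.card_congr e2.toEquiv, card_U, hcardG])
  obtain ⟨g, hg⟩ := MulAction.exists_smul_eq (GL (Fin 5) (ZMod 2)) P Q
  have e3 : ↥ι.range ≃* ↥toGL.range :=
    (Subgroup.equivSMul (MulAut.conj g) ι.range).trans (MulEquiv.subgroupCongr (by
      have := congrArg (fun R : Sylow 2 (GL (Fin 5) (ZMod 2)) => R.toSubgroup) hg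
      simpa [P, Q, Sylow.coe_subgroup_smul, Sylow.ofCard] using this))
  exact ⟨(e1.trans e3).trans e2.symm⟩

/-- The quotient by the centre. -/
theorem exists_equiv_quotient (S : Sylow 2 ↥M24) :
    Nonempty (↥(S : Subgroup ↥M24) ⧸ Subgroup.center ↥(S : Subgroup ↥M24) ≃* T) := by
  obtain ⟨e⟩ := exists_equiv S
  have hmap : (Subgroup.center ↥(S : Subgroup ↥M24)).map (e : ↥(S : Subgroup ↥M24) →* U) =
      Subgroup.center U := by
    ext x
    simp only [Subgroup.mem_map, Subgroup.mem_center_iff]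
    constructor
    · rintro ⟨y, hy, rfl⟩ z
      obtain ⟨z, rfl⟩ := e.surjective z
      rw [MonoidHom.coe_coe, ← map_mul, ← map_mul, hy z]
    · intro hx
      obtain ⟨y, rfl⟩ := e.surjective x
      refine ⟨y, fun z => e.injective ?_, rfl⟩
      rw [map_mul, map_mul, hx]
  exact ⟨((QuotientGroup.congr _ _ e hmap).trans (QuotientGroup.quotientMulEquivOfEq ker_proj.symm)).trans
    (QuotientGroup.quotientKerEquivOfSurjective proj proj_surjective)⟩

end Cfsg.Agent.M24SylowTwo59
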