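/-
Finite products and wreath products with a group of prime order of M-groups are M-groups.
-/
import Mathlib
import Cfsg.Agent.Lib.CharBasicDecomp
import Cfsg.Agent.Lib.CharBasicLinear
import Cfsg.Agent.Lib.CharInducedRep

set_option autoImplicit false

open scoped ComplexConjugate
open Finset
open Cfsg

namespace Cfsg.Agent.MGroupWreath80

open CharBasic CharBasicOrth CharBasicDecomp CharInduced

universe u v

/-- Every irreducible character is induced from a linear one. -/
def MGroup (M : Type u) [Group M] [Fintype M] : Prop :=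
  ∀ χ : M → ℂ, IsIrrCharacter M χ →
    ∃ (H : Subgroup M) (lam : H →* ℂˣ), χ = indFun H (fun h => (lam h : ℂ))

section Pi

variable {M : Type u} [Group M] [Fintype M] {Q : Type u} [Fintype Q] [DecidableEq Q]

/-- The outer product of functions on the factors. -/
def tensor (ψ : Q → M → ℂ) : (Q → M) → ℂ := fun g => ∏ q, ψ q (g q)

theorem isCharacter_prod {G : Type u} [Group G] {ι : Type*} (s : Finset ι) (f : ι → G → ℂ)
    (h : ∀ i ∈ s, IsCharacter G (f i)) : IsCharacter G (fun g => ∏ i ∈ s, f i g) := by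
  classical
  induction s using Finset.induction with
  | empty => simpa using isCharacter_one
  | insert a s ha ih =>
    have := isCharacter_mul (h a (Finset.mem_insert_self a s))
      (ih fun i hi => h i (Finset.mem_insert_of_mem hi))
    simp only [Finset.prod_insert ha]
    exact this

theorem inner_tensor (ψ φ : Q → M → ℂ) :
    classInner (tensor ψ) (tensor φ) = ∏ q, classInner (ψ q) (φ q) := by
  simp only [classInner, tensor, map_prod, ← Finset.prod_mul_distrib]
  rw [Finset.prod_mul_distrib, Nat.card_pi, Nat.cast_prod, Finset.prod_inv_distrib,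
    Fintype.prod_sum]

theorem isIrr_tensor (ψ : Q → IrrCharacter M) :
    IsIrrCharacter (Q → M) (tensor fun q => (ψ q).1) := by
  refine isIrrCharacter_iff.2 ⟨isCharacter_prod _ _ fun q _ =>
    CharBasic.isCharacter_comap (Pi.evalMonoidHom (fun _ : Q => M) q)
      (isCharacter_of_isIrrCharacter (ψ q).2), ?_⟩
  rw [inner_tensor]
  exact Finset.prod_eq_one fun q _ => classInner_irr_self (ψ q).2

theorem exists_tensor {χ : (Q → M) → ℂ} (hχ : IsIrrCharacter (Q → M) χ) :
    ∃ ψ : Q → IrrCharacter M, χ = tensor fun q => (ψ q).1 := by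
  classical
  haveI : Finite (IrrCharacter M) := finite_irrCharacter
  let T : (Q → IrrCharacter M) → IrrCharacter (Q → M) := fun ψ => ⟨_, isIrr_tensor ψ⟩
  have hinj : Function.Injective T := by
    intro a b hab
    funext q
    by_contra hne
    have h1 : classInner (tensor fun q => (a q).1) (tensor fun q => (b q).1) = 1 := by
      rw [show (tensor fun q => (b q).1) = tensor fun q => (a q).1 from
        (congrArg Subtype.val hab).symm]
      exact classInner_irr_self (isIrr_tensor a)
    rw [inner_tensor, Finset.prod_eq_zero (Finset.mem_univ q)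
      (classInner_irr_ne (a q).2 (b q).2 fun h => hne (Subtype.ext h))] at h1
    exact zero_ne_one h1
  by_contra hcon
  have hnot : (⟨χ, hχ⟩ : IrrCharacter (Q → M)) ∉ Finset.univ.image T := by
    intro h
    obtain ⟨ψ, -, hψ⟩ := Finset.mem_image.1 h
    exact hcon ⟨ψ, (congrArg Subtype.val hψ).symm⟩
  choose d hd hd1 using fun ξ : IrrCharacter (Q → M) => isIrrCharacter_apply_one ξ.2
  have h1 : ∑ ξ : IrrCharacter (Q → M), ξ.1 1 ^ 2 = (Nat.card (Q → M) : ℂ) := sum_sq_apply_one
  have h2 : ∑ ξ ∈ Finset.univ.image T, ξ.1 1 ^ 2 = (Nat.card (Q → M) : ℂ) := by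
    rw [Finset.sum_image hinj.injOn]
    have : ∀ ψ : Q → IrrCharacter M, (T ψ).1 1 ^ 2 = ∏ q, (ψ q).1 1 ^ 2 := fun ψ => by
      show (∏ q, (ψ q).1 ((1 : Q → M) q)) ^ 2 = _
      rw [Finset.prod_pow]
      rfl
    simp only [this]
    rw [← Fintype.prod_sum (fun _ ξ => (ξ : IrrCharacter M).1 1 ^ 2)]
    simp only [sum_sq_apply_one]
    rw [Nat.card_pi, Nat.cast_prod]
  have h3 : ((∑ ξ : IrrCharacter (Q → M), d ξ ^ 2 : ℕ) : ℂ) =
      ((∑ ξ ∈ Finset.univ.image T, d ξ ^ 2 : ℕ) : ℂ) := by
    push_cast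
    simp only [← hd1]
    rw [h1, h2]
  have h4 : ∑ ξ ∈ Finset.univ.image T, d ξ ^ 2 < ∑ ξ : IrrCharacter (Q → M), d ξ ^ 2 :=
    Finset.sum_lt_sum_of_subset (Finset.subset_univ _) (Finset.mem_univ _) hnot
      (pow_pos (hd _) 2) (fun _ _ _ => Nat.zero_le _)
  rw [Nat.cast_inj] at h3
  omega

end Pi

section Wreath

variable {M : Type u} [Group M] [Fintype M] {Q : Type u} [Group Q] [Fintype Q] [DecidableEq Q]

noncomputable instance : Fintype (M ≀ᵣ Q) :=
  Fintype.ofEquiv _ (RegularWreathProduct.equivProd M Q).symm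

theorem sum_wreath {α : Type*} [AddCommMonoid α] (f : M ≀ᵣ Q → α) :
    ∑ w, f w = ∑ c : Q, ∑ y : Q → M, f ⟨y, c⟩ := by
  rw [← (RegularWreathProduct.equivProd M Q).symm.sum_comp, Fintype.sum_prod_type,
    Finset.sum_comm]
  rfl

theorem conj_left (x w : M ≀ᵣ Q) (hw : w.right = 1) :
    x⁻¹ * w * x = ⟨fun q => (x.left (x.right * q))⁻¹ * w.left (x.right * q) *
      x.left (x.right * q), 1⟩ := by
  ext q
  · simp [hw, mul_assoc]
  · simp [hw]

variable (H : Q → Subgroup M) (lam : ∀ q, H q →* ℂˣ)

/-- The product of the `H q` inside the base group. -/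
def baseSub : Subgroup (M ≀ᵣ Q) where
  carrier := {w | w.right = 1 ∧ ∀ q, w.left q ∈ H q}
  one_mem' := ⟨rfl, fun q => (H q).one_mem⟩
  mul_mem' := by
    intro a b ha hb
    refine ⟨by simp [ha.1, hb.1], fun q => ?_⟩
    simp only [RegularWreathProduct.mul_left, Pi.mul_apply, ha.1, inv_one, one_mul]
    exact (H q).mul_mem (ha.2 q) (hb.2 q)
  inv_mem' := by
    intro a ha
    refine ⟨by simp [ha.1], fun q => ?_⟩
    simp only [RegularWreathProduct.inv_left, ha.1, one_mul, Pi.inv_apply]
    exact (H q).inv_mem (ha.2 q)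

/-- The product of the linear characters `lam q`. -/
def baseHom : baseSub H →* ℂˣ where
  toFun a := ∏ q, lam q ⟨a.1.left q, a.2.2 q⟩
  map_one' := Finset.prod_eq_one fun q _ => map_one (lam q)
  map_mul' a b := by
    rw [← Finset.prod_mul_distrib]
    refine Finset.prod_congr rfl fun q _ => ?_
    rw [← map_mul]
    refine congrArg (lam q) (Subtype.ext ?_)
    simp [a.2.1]

theorem ext_baseSub (w : M ≀ᵣ Q) :
    extendByZero (baseSub H) (fun a => (baseHom H lam a : ℂ)) w =
      if w.right = 1 then ∏ q, extendByZero (H q) (fun h => (lam q h : ℂ)) (w.left q) else 0 := by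
  classical
  by_cases hw : w ∈ baseSub H
  · rw [ext_zero_of_mem _ hw, if_pos hw.1]
    show ((∏ q, lam q ⟨w.left q, hw.2 q⟩ : ℂˣ) : ℂ) = _
    rw [Units.coe_prod]
    exact Finset.prod_congr rfl fun q _ =>
      (ext_zero_of_mem (fun h : H q => (lam q h : ℂ)) (hw.2 q)).symm
  · rw [ext_zero_of_not_mem _ hw]
    split_ifs with h1
    · obtain ⟨q, hq⟩ := not_forall.1 (fun h => hw ⟨h1, h⟩)
      exact (Finset.prod_eq_zero (Finset.mem_univ q)
        (ext_zero_of_not_mem (fun h : H q => (lam q h : ℂ)) hq)).symm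
    · rfl

theorem card_baseSub : Nat.card (baseSub H) = ∏ q, Nat.card (H q) := by
  rw [← Nat.card_pi]
  exact Nat.card_congr
    ⟨fun a q => ⟨a.1.left q, a.2.2 q⟩,
      fun f => ⟨⟨fun q => f q, 1⟩, rfl, fun q => (f q).2⟩,
      fun a => Subtype.ext (RegularWreathProduct.ext rfl a.2.1.symm), fun f => rfl⟩

theorem ind_base (w : M ≀ᵣ Q) :
    indFun (baseSub H) (fun a => (baseHom H lam a : ℂ)) w =
      if w.right = 1 then
        ∑ c : Q, tensor (fun q => indFun (H q) (fun h => (lam q h : ℂ))) (fun q => w.left (c * q))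
      else 0 := by
  classical
  by_cases hw : w.right = 1
  · rw [if_pos hw, indFun_apply, sum_wreath, Finset.mul_sum]
    refine Finset.sum_congr rfl fun c _ => ?_
    have h1 : ∀ y : Q → M, extendByZero (baseSub H) (fun a => (baseHom H lam a : ℂ))
        ((⟨y, c⟩ : M ≀ᵣ Q)⁻¹ * w * ⟨y, c⟩) = ∏ q, extendByZero (H q) (fun h => (lam q h : ℂ))
          ((y (c * q))⁻¹ * w.left (c * q) * y (c * q)) := fun y => by
      rw [conj_left _ _ hw, ext_baseSub, if_pos rfl]
    rw [Finset.sum_congr rfl fun y _ => h1 y]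
    simp only [tensor, indFun_apply, Finset.prod_mul_distrib]
    rw [Fintype.prod_sum, card_baseSub, Nat.cast_prod, Finset.prod_inv_distrib]
    congr 1
    refine Fintype.sum_equiv
      (Equiv.arrowCongr (Equiv.mulLeft c).symm (Equiv.refl M)) _ _ fun y => ?_
    refine Finset.prod_congr rfl fun q _ => ?_
    simp [Equiv.arrowCongr]
  · rw [if_neg hw, indFun_apply, Finset.sum_eq_zero, mul_zero]
    intro x _
    rw [ext_baseSub, if_neg]
    intro h
    apply hw
    have h' : x.right⁻¹ * w.right * x.right = 1 := by simpa using h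
    have := congrArg (fun t => x.right * t * x.right⁻¹) h'
    simpa [mul_assoc] using this

/-- Translation of a tuple. -/
def shift {α : Type*} (f : Q → α) (c : Q) : Q → α := fun q => f (c⁻¹ * q)

theorem tensor_shift (ψ : Q → M → ℂ) (g : Q → M) (c : Q) :
    tensor ψ (fun q => g (c * q)) = tensor (shift ψ c) g :=
  Fintype.prod_equiv (Equiv.mulLeft c) _ _ fun q => by simp [shift]

theorem mgroup_wreath (hM : MGroup M) (hQ : (Nat.card Q).Prime) : MGroup (M ≀ᵣ Q) := by
  classical
  intro χ hχ
  haveI : Fact (Nat.card Q).Prime := ⟨hQ⟩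
  -- a constituent of the restriction to the base group
  let ι : (Q → M) →* M ≀ᵣ Q :=
    { toFun := fun g => ⟨g, 1⟩
      map_one' := rfl
      map_mul' := fun a b => by ext q <;> simp }
  have hres : IsCharacter (Q → M) (χ ∘ ι) :=
    CharBasic.isCharacter_comap ι (isCharacter_of_isIrrCharacter hχ)
  obtain ⟨ξ, hξ⟩ : ∃ ξ : IrrCharacter (Q → M), classInner (χ ∘ ι) ξ.1 ≠ 0 := by
    by_contra hcon
    apply isIrrCharacter_apply_one_ne_zero hχ
    have := congrFun (eq_sum_classInner (CharBasic.isClassFunction_of_isCharacter hres)) 1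
    rw [Finset.sum_apply] at this
    refine (show χ 1 = _ from this).trans (Finset.sum_eq_zero fun η _ => ?_)
    rw [not_not.1 fun h => hcon ⟨η, h⟩, zero_smul]
    rfl
  obtain ⟨ψ, hψ⟩ := exists_tensor ξ.2
  rw [hψ] at hξ
  choose Hf lamf hHf using fun η : IrrCharacter M => hM η.1 η.2
  let H : Q → Subgroup M := fun q => Hf (ψ q)
  let lam : ∀ q, H q →* ℂˣ := fun q => lamf (ψ q)
  set F := indFun (baseSub H) (fun a => (baseHom H lam a : ℂ)) with hF
  have hFc : IsCharacter (M ≀ᵣ Q) F := isCharacter_ind _ (isCharacter_linear _)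
  set Ψ : Q → M → ℂ := fun q => (ψ q).1 with hΨ
  have hFw : ∀ w : M ≀ᵣ Q, F w = if w.right = 1 then ∑ c : Q, tensor (shift Ψ c) w.left else 0 := by
    intro w
    rw [hF, ind_base]
    have : (fun q => indFun (H q) (fun h => (lam q h : ℂ))) = Ψ := funext fun q => (hHf (ψ q)).symm
    simp only [this, tensor_shift]
  have hcardW : (Nat.card (M ≀ᵣ Q) : ℂ)⁻¹ = (Nat.card Q : ℂ)⁻¹ * (Nat.card (Q → M) : ℂ)⁻¹ := by
    rw [Nat.card_congr (RegularWreathProduct.equivProd M Q), Nat.card_prod, Nat.cast_mul,
      mul_inv, mul_comm]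
  have hinner : ∀ a : M ≀ᵣ Q → ℂ, classInner F a = (Nat.card Q : ℂ)⁻¹ *
      ∑ c : Q, classInner (tensor (shift Ψ c)) (a ∘ ι) := by
    intro a
    simp only [classInner, hcardW, sum_wreath, hFw]
    rw [Finset.sum_eq_single (1 : Q) (fun c _ hc => by simp [hc]) (by simp), mul_assoc]
    congr 1
    simp only [if_pos, Finset.sum_mul, Finset.mul_sum]
    rw [Finset.sum_comm]
    rfl
  have hsame : ∀ c : Q, classInner (tensor (shift Ψ c)) (χ ∘ ι) =
      classInner (tensor Ψ) (χ ∘ ι) := by
    intro c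
    simp only [classInner]
    congr 1
    refine Fintype.sum_equiv (Equiv.arrowCongr (Equiv.mulLeft c).symm (Equiv.refl M)) _ _ fun g => ?_
    have h1 : (Equiv.arrowCongr (Equiv.mulLeft c).symm (Equiv.refl M)) g = fun q => g (c * q) := by
      funext q; simp [Equiv.arrowCongr]
    rw [h1, tensor_shift]
    congr 2
    have h2 := CharBasic.isClassFunction_of_isCharacter (isCharacter_of_isIrrCharacter hχ) (ι g)
      (RegularWreathProduct.inl c⁻¹)
    show χ (ι g) = χ (ι fun q => g (c * q))
    rw [← h2]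
    congr 1
    ext q <;> simp [ι]
  have hFχ : classInner F χ ≠ 0 := by
    rw [hinner, Finset.sum_congr rfl (fun c _ => hsame c), Finset.sum_const, Finset.card_univ,
      nsmul_eq_mul, ← Nat.card_eq_fintype_card, ← mul_assoc,
      inv_mul_cancel₀ (Nat.cast_ne_zero.2 Nat.card_pos.ne'), one_mul]
    rw [← conj_classInner]
    exact (map_ne_zero _).2 hξ
  have hnorm : classInner F F =
      ((Finset.univ.filter fun c : Q => shift ψ c = ψ).card : ℂ) := by
    have hFι : F ∘ ι = ∑ c : Q, tensor (shift Ψ c) := by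
      funext g
      rw [Function.comp_apply, hFw, if_pos (show (ι g).right = 1 from rfl), Finset.sum_apply]
      rfl
    have hd : ∀ c c' : Q, classInner (tensor (shift Ψ c)) (tensor (shift Ψ c')) =
        if shift ψ (c⁻¹ * c') = ψ then 1 else 0 := by
      intro c c'
      rw [inner_tensor]
      split_ifs with h
      · refine Finset.prod_eq_one fun q _ => ?_
        have h2 : shift Ψ c' q = shift Ψ c q := by
          have := congrFun h (c⁻¹ * q)
          simp only [shift, mul_inv_rev, inv_inv, mul_assoc, mul_inv_cancel_left] at this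
          simp only [shift, hΨ, this]
        rw [h2]
        exact classInner_irr_self (ψ _).2
      · obtain ⟨q, hq⟩ := not_forall.1 (fun h' => h (funext h'))
        refine Finset.prod_eq_zero (Finset.mem_univ (c * q)) ?_
        refine classInner_irr_ne (ψ _).2 (ψ _).2 fun he => hq ?_
        have he' : ψ (c⁻¹ * (c * q)) = ψ (c'⁻¹ * (c * q)) := Subtype.ext he
        rw [inv_mul_cancel_left] at he'
        show ψ ((c⁻¹ * c')⁻¹ * q) = ψ q
        rw [he', mul_inv_rev, inv_inv, mul_assoc]
    rw [hinner, hFι]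
    simp only [classInner_sum_right, hd]
    have hc : ∀ c : Q, (∑ c' : Q, if shift ψ (c⁻¹ * c') = ψ then (1 : ℂ) else 0) =
        ∑ c' : Q, if shift ψ c' = ψ then (1 : ℂ) else 0 :=
      fun c => Fintype.sum_equiv (Equiv.mulLeft c⁻¹) _ _ fun c' => rfl
    rw [Finset.sum_congr rfl (fun c _ => hc c), Finset.sum_const,
      Finset.card_univ, nsmul_eq_mul, ← Nat.card_eq_fintype_card, ← mul_assoc,
      inv_mul_cancel₀ (Nat.cast_ne_zero.2 Nat.card_pos.ne'), one_mul, Finset.sum_boole]
  by_cases hconst : ∀ c : Q, shift ψ c = ψ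
  swap
  · -- trivial stabilizer: `F` is irreducible
    have h1 : (Finset.univ.filter fun c : Q => shift ψ c = ψ).card = 1 := by
      refine Finset.card_eq_one.2 ⟨1, Finset.eq_singleton_iff_unique_mem.2
        ⟨Finset.mem_filter.2 ⟨Finset.mem_univ _, funext fun q => by simp [shift]⟩, fun c hc => ?_⟩⟩
      by_contra hne
      apply hconst
      intro d
      have hc' := (Finset.mem_filter.1 hc).2
      let S : Subgroup Q :=
        { carrier := {a | shift ψ a = ψ}
          one_mem' := funext fun q => by simp [shift]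
          mul_mem' := fun {a b} (ha : shift ψ a = ψ) (hb : shift ψ b = ψ) => by
            funext q
            show ψ ((a * b)⁻¹ * q) = ψ q
            rw [mul_inv_rev, mul_assoc]
            exact (congrFun hb (a⁻¹ * q)).trans (congrFun ha q)
          inv_mem' := fun {a} (ha : shift ψ a = ψ) => by
            funext q
            show ψ (a⁻¹⁻¹ * q) = ψ q
            have := congrFun ha (a * q)
            simp only [shift, inv_mul_cancel_left] at this
            rw [inv_inv]
            exact this.symm }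
      have hS : S = ⊤ := by
        refine (Subgroup.eq_bot_or_eq_top_of_prime_card S).resolve_left fun h => hne ?_
        exact Subgroup.mem_bot.1 (h ▸ (hc' : c ∈ S))
      exact (hS ▸ Subgroup.mem_top d : d ∈ S)
    have hirr : IsIrrCharacter (M ≀ᵣ Q) F :=
      isIrrCharacter_iff.2 ⟨hFc, by rw [hnorm, h1, Nat.cast_one]⟩
    refine ⟨baseSub H, baseHom H lam, ?_⟩
    by_contra hne
    exact hFχ (classInner_irr_ne hirr hχ fun h => hne h.symm)
  -- constant tuple: `F` splits over the extensions of the linear character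
  have hall : ∀ q : Q, ψ q = ψ 1 := fun q => by
    have := congrFun (hconst q) q
    simp only [shift, inv_mul_cancel] at this
    exact this.symm
  let H0 : Subgroup M := Hf (ψ 1)
  let l0 : H0 →* ℂˣ := lamf (ψ 1)
  let AC : Subgroup (M ≀ᵣ Q) :=
    { carrier := {w | ∀ q, w.left q ∈ H0}
      one_mem' := fun q => H0.one_mem
      mul_mem' := fun {a b} ha hb q => H0.mul_mem (ha q) (hb _)
      inv_mem' := fun {a} ha q => H0.inv_mem (ha _) }
  have hcyc : IsCyclic Q := isCyclic_of_prime_card rfl
  haveI : NeZero (Nat.card Q) := ⟨Nat.card_pos.ne'⟩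
  let em : Q ≃* rootsOfUnity (Nat.card Q) ℂ := mulEquivOfCyclicCardEq (by
    rw [HasEnoughRootsOfUnity.natCard_rootsOfUnity ℂ (Nat.card Q)])
  let e : Q →* ℂˣ := (rootsOfUnity (Nat.card Q) ℂ).subtype.comp em.toMonoidHom
  have hesum : ∀ c : Q, ∑ j ∈ Finset.range (Nat.card Q), ((e c : ℂˣ) : ℂ) ^ j =
      if c = 1 then (Nat.card Q : ℂ) else 0 := by
    intro c
    split_ifs with hc
    · simp [hc]
    · have hne : ((e c : ℂˣ) : ℂ) ≠ 1 := fun h => hc (em.injective (by
        rw [map_one]; exact Subtype.ext (Units.ext h)))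
      have h1 := geom_sum_mul ((e c : ℂˣ) : ℂ) (Nat.card Q)
      rw [← Units.val_pow_eq_pow_val, ← map_pow, pow_card_eq_one', map_one, Units.val_one,
        sub_self, mul_eq_zero] at h1
      exact h1.resolve_right (sub_ne_zero.2 hne)
  let base : AC →* ℂˣ :=
    { toFun := fun a => ∏ q, l0 ⟨a.1.left q, a.2 q⟩
      map_one' := Finset.prod_eq_one fun q _ => map_one l0
      map_mul' := fun a b => by
        rw [show (∏ q, l0 ⟨b.1.left q, b.2 q⟩) =
          ∏ q, l0 ⟨b.1.left (a.1.right⁻¹ * q), b.2 _⟩ from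
          (Fintype.prod_equiv (Equiv.mulLeft a.1.right⁻¹) _ _ fun q => rfl).symm,
          ← Finset.prod_mul_distrib]
        refine Finset.prod_congr rfl fun q _ => ?_
        rw [← map_mul]
        rfl }
  let Lj : ℕ → AC →* ℂˣ := fun j =>
    base * ((e ^ j).comp (RegularWreathProduct.rightHom.comp AC.subtype))
  let θ : ℕ → M ≀ᵣ Q → ℂ := fun j => indFun AC (fun a => (Lj j a : ℂ))
  have hθc : ∀ j, IsCharacter (M ≀ᵣ Q) (θ j) := fun j => isCharacter_ind _ (isCharacter_linear _)
  have hACcard : (Nat.card AC : ℂ) = Nat.card Q * Nat.card (baseSub H) := by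
    rw [← Nat.cast_mul, Nat.cast_inj, mul_comm, ← Nat.card_prod]
    exact Nat.card_congr
      ⟨fun a => (⟨⟨a.1.left, 1⟩, rfl, fun q => by
          show a.1.left q ∈ Hf (ψ q); rw [hall]; exact a.2 q⟩, a.1.right),
        fun b => ⟨⟨b.1.1.left, b.2⟩, fun q => by
          have := b.1.2.2 q
          show b.1.1.left q ∈ Hf (ψ 1); rw [← hall q]; exact this⟩,
        fun a => rfl,
        fun b => Prod.ext (Subtype.ext (RegularWreathProduct.ext rfl b.1.2.1.symm)) rfl⟩
  have hsum : F = ∑ j ∈ Finset.range (Nat.card Q), θ j := by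
    funext w
    rw [Finset.sum_apply]
    simp only [hF, θ, indFun_apply, hACcard, ← Finset.mul_sum]
    rw [Finset.sum_comm, mul_inv, mul_assoc, Finset.mul_sum, Finset.mul_sum, Finset.mul_sum]
    refine Finset.sum_congr rfl fun x _ => ?_
    set v := x⁻¹ * w * x with hv
    rw [ext_baseSub]
    by_cases hvAC : v ∈ AC
    · simp only [ext_zero_of_mem _ hvAC, Lj, MonoidHom.mul_apply, Units.val_mul, ← Finset.mul_sum,
        MonoidHom.comp_apply, MonoidHom.pow_apply, Units.val_pow_eq_pow_val, hesum]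
      rw [show RegularWreathProduct.rightHom (AC.subtype ⟨v, hvAC⟩) = v.right from rfl]
      split_ifs with hr
      · have hb : ((base ⟨v, hvAC⟩ : ℂˣ) : ℂ) =
            ∏ q, extendByZero (H q) (fun h => (lam q h : ℂ)) (v.left q) := by
          show ((∏ q, l0 ⟨v.left q, hvAC q⟩ : ℂˣ) : ℂ) = _
          rw [Units.coe_prod]
          refine Finset.prod_congr rfl fun q _ => ?_
          show _ = extendByZero (Hf (ψ q)) (fun h => (lamf (ψ q) h : ℂ)) (v.left q)
          rw [hall q, ext_zero_of_mem _ (hvAC q)]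
        rw [← hb]
        field_simp
      · simp
    · rw [Finset.sum_eq_zero fun j _ => ext_zero_of_not_mem _ hvAC, mul_zero, mul_zero]
      split_ifs with hr
      · obtain ⟨q, hq⟩ := not_forall.1 hvAC
        rw [Finset.prod_eq_zero (Finset.mem_univ q), mul_zero]
        refine ext_zero_of_not_mem _ fun h => hq ?_
        have h' : v.left q ∈ Hf (ψ q) := h
        rwa [hall q] at h'
      · simp
  choose m hm using fun i j => classInner_isCharacter (hθc i) (hθc j)
  have hm1 : ∀ i, 1 ≤ m i i := fun i => by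
    refine Nat.one_le_iff_ne_zero.2 fun h0 => ?_
    have h1 := congrFun (CharBasicOrth.eq_zero_of_classInner_self
      (by rw [hm, h0, Nat.cast_zero] : classInner (θ i) (θ i) = 0)) 1
    simp only [θ, ind_one_apply, map_one, Units.val_one, mul_one, Pi.zero_apply,
      Nat.cast_eq_zero] at h1
    exact Subgroup.index_ne_zero_of_finite h1
  have htot : ∑ i ∈ Finset.range (Nat.card Q), ∑ j ∈ Finset.range (Nat.card Q), m i j =
      ∑ _i ∈ Finset.range (Nat.card Q), 1 := by
    rw [Finset.sum_const, Finset.card_range, smul_eq_mul, mul_one]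
    have h2 : ((Finset.univ.filter fun c : Q => shift ψ c = ψ).card : ℂ) =
        ((∑ i ∈ Finset.range (Nat.card Q), ∑ j ∈ Finset.range (Nat.card Q), m i j : ℕ) : ℂ) := by
      rw [← hnorm, hsum, classInner_sum_left]
      push_cast
      refine Finset.sum_congr rfl fun i _ => ?_
      rw [classInner_sum_right]
      exact Finset.sum_congr rfl fun j _ => hm i j
    rw [Finset.filter_true_of_mem (fun c _ => hconst c), Finset.card_univ,
      ← Nat.card_eq_fintype_card] at h2
    exact_mod_cast h2.symm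
  have hle : ∀ i ∈ Finset.range (Nat.card Q),
      1 ≤ ∑ j ∈ Finset.range (Nat.card Q), m i j := fun i hi =>
    (hm1 i).trans (Finset.single_le_sum (f := m i) (fun _ _ => Nat.zero_le _) hi)
  have hrow := (Finset.sum_eq_sum_iff_of_le hle).1 htot.symm
  have hirr : ∀ i ∈ Finset.range (Nat.card Q), IsIrrCharacter (M ≀ᵣ Q) (θ i) := by
    intro i hi
    refine isIrrCharacter_iff.2 ⟨hθc i, ?_⟩
    have h2 := Finset.single_le_sum (f := m i) (fun _ _ => Nat.zero_le _) hi
    have h3 : m i i = 1 := le_antisymm (h2.trans (hrow i hi).ge) (hm1 i)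
    rw [hm, h3, Nat.cast_one]
  rw [hsum, classInner_sum_left] at hFχ
  obtain ⟨i, hi, hne⟩ := Finset.exists_ne_zero_of_sum_ne_zero hFχ
  refine ⟨AC, Lj i, ?_⟩
  by_contra hne'
  exact hne (classInner_irr_ne (hirr i hi) hχ fun h => hne' h.symm)

end Wreath

end Cfsg.Agent.MGroupWreath80
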