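import Mathlib

/-!
Marggraf's theorem: a primitive group with a Jordan set `Γ`, `1 < #Γ`, `2 #Γ < n`, contains the
alternating group.  The proof is by counting the translates of `Γ` which meet a fixed `(k+1)`-set
in a given pattern, for a `k`-transitive group.
-/

set_option autoImplicit false

open scoped Pointwise

namespace Cfsg.Agent.Marggraf

open MulAction

variable {G Ω : Type*} [Group G] [MulAction G Ω]

/-- Weights of the hypergeometric distribution. -/
def wt (n m k i : ℕ) : ℕ := m.descFactorial i * (n - m).descFactorial (k + 1 - i)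

/-- Weights one level down. -/
def wt' (n m k i : ℕ) : ℕ := m.descFactorial i * (n - m).descFactorial (k - i)

theorem wt_add (n m k i : ℕ) (hm : m ≤ n) (hk : k ≤ n - m) (hi : i ≤ k) :
    wt n m k i + wt n m k (i + 1) = (n - k) * wt' n m k i := by
  unfold wt wt'
  by_cases him : i ≤ m
  · rw [show k + 1 - i = (k - i) + 1 by omega, show k + 1 - (i + 1) = k - i by omega,
      Nat.descFactorial_succ, Nat.descFactorial_succ,
      show n - k = (n - m - (k - i)) + (m - i) by omega]
    ring
  · rw [Nat.descFactorial_eq_zero_iff_lt.2 (not_le.1 him),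
      Nat.descFactorial_eq_zero_iff_lt.2 (show m < i + 1 by omega)]
    ring

theorem wt'_succ (n m k i : ℕ) (hi : i + 1 ≤ k) :
    wt' n m k (i + 1) * (n - m - (k - i - 1)) = wt' n m k i * (m - i) := by
  unfold wt'
  rw [show k - i = (k - (i + 1)) + 1 by omega, Nat.descFactorial_succ, Nat.descFactorial_succ,
    show k - (i + 1) + 1 - 1 = k - (i + 1) by omega]
  ring

theorem descFactorial_lt {a b : ℕ} (hab : a < b) :
    ∀ {j : ℕ}, 1 ≤ j → j ≤ b → a.descFactorial j < b.descFactorial j
  | 0, h, _ => absurd h (by omega)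
  | 1, _, _ => by simpa using hab
  | j + 2, _, h => by
    rw [show j + 2 = (j + 1) + 1 from rfl, Nat.descFactorial_succ, Nat.descFactorial_succ]
    have ih := descFactorial_lt hab (j := j + 1) (by omega) (by omega)
    calc (a - (j + 1)) * a.descFactorial (j + 1)
        ≤ (b - (j + 1)) * a.descFactorial (j + 1) := Nat.mul_le_mul_right _ (by omega)
      _ < (b - (j + 1)) * b.descFactorial (j + 1) := Nat.mul_lt_mul_of_pos_left ih (by omega)

/-- The weights with an odd (resp. even) index near the top are small. -/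
theorem wt_lt (n m k e s : ℕ) (he : 1 ≤ e) (hes : e < s) (hem : e ≤ m) (hsk : s = k ∨ s = k + 1)
    (hk : k ≤ n - m) (hmn : 2 * m < n) : wt n m k s < wt n m k e := by
  unfold wt
  have h1 : m.descFactorial s = m.descFactorial e * (m - e).descFactorial (s - e) := by
    rw [mul_comm, Nat.descFactorial_mul_descFactorial hes.le]
  have h2 : (n - m).descFactorial (k + 1 - e) =
      (n - m).descFactorial (k + 1 - s) * (n - m - (k + 1 - s)).descFactorial (s - e) := by
    rw [mul_comm, show s - e = (k + 1 - e) - (k + 1 - s) by omega,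
      Nat.descFactorial_mul_descFactorial (by omega)]
  rw [h1, h2]
  have h3 := descFactorial_lt (a := m - e) (b := n - m - (k + 1 - s)) (by omega) (j := s - e)
    (by omega) (by omega)
  have h4 : 0 < m.descFactorial e * (n - m).descFactorial (k + 1 - s) :=
    Nat.mul_pos (Nat.descFactorial_pos.2 hem) (Nat.descFactorial_pos.2 (by omega))
  calc m.descFactorial e * (m - e).descFactorial (s - e) * (n - m).descFactorial (k + 1 - s)
      = (m.descFactorial e * (n - m).descFactorial (k + 1 - s)) * (m - e).descFactorial (s - e) := by ring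
    _ < (m.descFactorial e * (n - m).descFactorial (k + 1 - s)) *
        (n - m - (k + 1 - s)).descFactorial (s - e) := Nat.mul_lt_mul_of_pos_left h3 h4
    _ = m.descFactorial e * ((n - m).descFactorial (k + 1 - s) *
        (n - m - (k + 1 - s)).descFactorial (s - e)) := by ring

section Count

variable [Fintype Ω] [DecidableEq Ω]

/-- Number of translates containing `S` and disjoint from `U`. -/
def cnt (F : Finset (Finset Ω)) (S U : Finset Ω) : ℕ :=
  (F.filter (fun T => S ⊆ T ∧ Disjoint U T)).card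

theorem cnt_smul (F : Finset (Finset Ω)) (hF : ∀ (g : G), ∀ T ∈ F, g • T ∈ F) (g : G) (S U : Finset Ω) :
    cnt F (g • S) (g • U) = cnt F S U := by
  symm
  refine Finset.card_bij (fun T _ => g • T) ?_ ?_ ?_
  · intro T hT
    simp only [Finset.mem_filter] at hT ⊢
    exact ⟨hF g T hT.1, Finset.smul_finset_subset_smul_finset hT.2.1,
      Finset.disjoint_left.2 fun x hx hx' => by
        rw [← Finset.inv_smul_mem_iff] at hx hx'
        exact Finset.disjoint_left.1 hT.2.2 hx hx'⟩
  · intro T _ T' _ h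
    exact smul_left_cancel g h
  · intro T hT
    simp only [Finset.mem_filter] at hT
    refine ⟨g⁻¹ • T, ?_, smul_inv_smul g T⟩
    simp only [Finset.mem_filter]
    refine ⟨hF g⁻¹ T hT.1, fun x hx => ?_, Finset.disjoint_left.2 fun x hx hx' => ?_⟩
    · rw [Finset.mem_inv_smul_finset_iff]
      exact hT.2.1 (Finset.smul_mem_smul_finset hx)
    · rw [Finset.mem_inv_smul_finset_iff] at hx'
      exact Finset.disjoint_left.1 hT.2.2 (Finset.smul_mem_smul_finset hx) hx'

theorem exists_map (k : ℕ) (hkn : k ≤ Fintype.card Ω) (hk : IsMultiplyPretransitive G Ω k)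
    {S U S' U' : Finset Ω} (h : Disjoint S U) (h' : Disjoint S' U') (hS : S.card = S'.card)
    (hU : U.card = U'.card) (hle : S.card + U.card ≤ k) : ∃ g : G, g • S = S' ∧ g • U = U' := by
  have : IsMultiplyPretransitive G Ω (S.card + U.card) :=
    isMultiplyPretransitive_of_le hle (by rwa [Nat.card_eq_fintype_card])
  let a : Fin S.card → Ω := fun i => (S.equivFin.symm i : Ω)
  let b : Fin U.card → Ω := fun i => (U.equivFin.symm i : Ω)
  let a' : Fin S.card → Ω := fun i => (S'.equivFin.symm (Fin.cast hS i) : Ω)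
  let b' : Fin U.card → Ω := fun i => (U'.equivFin.symm (Fin.cast hU i) : Ω)
  have e1 : Function.Injective (Fin.append a b) := by
    rw [Fin.append_injective_iff]
    refine ⟨fun i j hij => S.equivFin.symm.injective (Subtype.ext hij),
      fun i j hij => U.equivFin.symm.injective (Subtype.ext hij), fun i j hij => ?_⟩
    exact Finset.disjoint_left.1 h (S.equivFin.symm i).2 (by rw [show (S.equivFin.symm i : Ω) = _ from hij]; exact (U.equivFin.symm j).2)
  have e2 : Function.Injective (Fin.append a' b') := by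
    rw [Fin.append_injective_iff]
    refine ⟨fun i j hij => Fin.cast_injective hS (S'.equivFin.symm.injective (Subtype.ext hij)),
      fun i j hij => Fin.cast_injective hU (U'.equivFin.symm.injective (Subtype.ext hij)), fun i j hij => ?_⟩
    exact Finset.disjoint_left.1 h' (S'.equivFin.symm (Fin.cast hS i)).2
      (by rw [show (S'.equivFin.symm (Fin.cast hS i) : Ω) = _ from hij]; exact (U'.equivFin.symm (Fin.cast hU j)).2)
  obtain ⟨g, hg⟩ := exists_smul_eq G (⟨_, e1⟩ : Fin (S.card + U.card) ↪ Ω) ⟨_, e2⟩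
  have hgi : ∀ i, g • Fin.append a b i = Fin.append a' b' i := fun i => by
    have := congrFun (congrArg DFunLike.coe hg) i
    simpa using this
  refine ⟨g, ?_, ?_⟩
  · apply Finset.eq_of_subset_of_card_le
    · intro x hx
      obtain ⟨y, hy, rfl⟩ := Finset.mem_smul_finset.1 hx
      have := hgi (Fin.castAdd _ (S.equivFin ⟨y, hy⟩))
      simp only [Fin.append_left, a, a', Equiv.symm_apply_apply] at this
      rw [this]
      exact Subtype.prop _
    · rw [Finset.card_smul_finset, hS]
  · apply Finset.eq_of_subset_of_card_le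
    · intro x hx
      obtain ⟨y, hy, rfl⟩ := Finset.mem_smul_finset.1 hx
      have := hgi (Fin.natAdd _ (U.equivFin ⟨y, hy⟩))
      simp only [Fin.append_right, b, b', Equiv.symm_apply_apply] at this
      rw [this]
      exact Subtype.prop _
    · rw [Finset.card_smul_finset, hU]

variable (F : Finset (Finset Ω)) (hF : ∀ (g : G), ∀ T ∈ F, g • T ∈ F)

include hF in
theorem cnt_congr (k : ℕ) (hkn : k ≤ Fintype.card Ω) (hk : IsMultiplyPretransitive G Ω k)
    {S U S' U' : Finset Ω} (h : Disjoint S U) (h' : Disjoint S' U') (hS : S.card = S'.card)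
    (hU : U.card = U'.card) (hle : S.card + U.card ≤ k) : cnt F S U = cnt F S' U' := by
  obtain ⟨g, rfl, rfl⟩ := exists_map (G := G) k hkn hk h h' hS hU hle
  rw [cnt_smul F hF g]

theorem cnt_split (S U : Finset Ω) (z : Ω) :
    cnt F S U = cnt F (insert z S) U + cnt F S (insert z U) := by
  unfold cnt
  rw [← Finset.card_union_of_disjoint]
  · congr 1
    ext T
    simp only [Finset.mem_filter, Finset.mem_union, Finset.insert_subset_iff, Finset.disjoint_insert_left]
    tauto
  · rw [Finset.disjoint_left]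
    intro T hT hT'
    simp only [Finset.mem_filter, Finset.insert_subset_iff, Finset.disjoint_insert_left] at hT hT'
    exact hT'.2.2.1 hT.2.1.1

variable (n m k : ℕ) (hn : Fintype.card Ω = n) (hFm : ∀ T ∈ F, T.card = m)

include hF hn hFm in
/-- The double count: the numbers of translates with a given pattern on `k` points. -/
theorem cnt_step (hk : IsMultiplyPretransitive G Ω k) (hkn : k ≤ n) {S U S1 U1 S2 U2 : Finset Ω}
    (h : Disjoint S U) (h1 : Disjoint S1 U1) (h2 : Disjoint S2 U2)
    (hc : S.card + U.card + 1 = k) (hc1 : S1.card = S.card + 1) (hc1' : U1.card = U.card)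
    (hc2 : S2.card = S.card) (hc2' : U2.card = U.card + 1) :
    cnt F S1 U1 * (n - m - U.card) = cnt F S2 U2 * (m - S.card) := by
  set R := (S ∪ U)ᶜ with hR
  have hRc : R.card = n - (S.card + U.card) := by
    rw [hR, Finset.card_compl, Finset.card_union_of_disjoint h, hn]
  set X := F.filter (fun T => S ⊆ T ∧ Disjoint U T) with hX
  have hzS : ∀ z ∈ R, z ∉ S ∧ z ∉ U := fun z hz => by simpa [hR] using hz
  have hA : ∑ z ∈ R, cnt F (insert z S) U = X.card * (m - S.card) := by
    have e : ∀ z, cnt F (insert z S) U = ∑ T ∈ X, if z ∈ T then 1 else 0 := by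
      intro z
      rw [← Finset.card_filter]
      unfold cnt
      congr 1
      ext T
      simp only [hX, Finset.mem_filter, Finset.insert_subset_iff]
      tauto
    simp only [e]
    rw [Finset.sum_comm, ← smul_eq_mul, ← Finset.sum_const]
    apply Finset.sum_congr rfl
    intro T hT
    simp only [hX, Finset.mem_filter] at hT
    rw [← Finset.card_filter]
    rw [show R.filter (fun z => z ∈ T) = T \ S by
      ext z
      simp only [hR, Finset.mem_filter, Finset.mem_compl, Finset.mem_union, Finset.mem_sdiff]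
      have : z ∈ T → z ∉ U := fun hz => Finset.disjoint_right.1 hT.2.2 hz
      tauto, Finset.card_sdiff_of_subset hT.2.1, hFm T hT.1]
  have hB : ∑ z ∈ R, cnt F S (insert z U) = X.card * (n - m - U.card) := by
    have e : ∀ z, cnt F S (insert z U) = ∑ T ∈ X, if z ∉ T then 1 else 0 := by
      intro z
      rw [← Finset.card_filter]
      unfold cnt
      congr 1
      ext T
      simp only [hX, Finset.mem_filter, Finset.disjoint_insert_left]
      tauto
    simp only [e]
    rw [Finset.sum_comm, ← smul_eq_mul, ← Finset.sum_const]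
    apply Finset.sum_congr rfl
    intro T hT
    simp only [hX, Finset.mem_filter] at hT
    rw [← Finset.card_filter]
    rw [show R.filter (fun z => z ∉ T) = Tᶜ \ U by
      ext z
      simp only [hR, Finset.mem_filter, Finset.mem_compl, Finset.mem_union, Finset.mem_sdiff]
      have : z ∈ S → z ∈ T := fun hz => hT.2.1 hz
      tauto, Finset.card_sdiff_of_subset (fun z hz => Finset.mem_compl.2 (Finset.disjoint_left.1 hT.2.2 hz)),
      Finset.card_compl, hn, hFm T hT.1]
  have hkn' : k ≤ Fintype.card Ω := by omega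
  have e1 : ∀ z ∈ R, cnt F (insert z S) U = cnt F S1 U1 := fun z hz =>
    cnt_congr (G := G) F hF k hkn' hk (by simp [h, (hzS z hz).2]) h1
      (by rw [Finset.card_insert_of_notMem (hzS z hz).1, hc1]) hc1'.symm
      (by rw [Finset.card_insert_of_notMem (hzS z hz).1]; omega)
  have e2 : ∀ z ∈ R, cnt F S (insert z U) = cnt F S2 U2 := fun z hz =>
    cnt_congr (G := G) F hF k hkn' hk (by simp [h, (hzS z hz).1]) h2 hc2.symm
      (by rw [Finset.card_insert_of_notMem (hzS z hz).2, hc2'])
      (by rw [Finset.card_insert_of_notMem (hzS z hz).2]; omega)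
  rw [Finset.sum_congr rfl e1, Finset.sum_const, smul_eq_mul] at hA
  rw [Finset.sum_congr rfl e2, Finset.sum_const, smul_eq_mul] at hB
  have hpos : 0 < R.card := by omega
  apply Nat.eq_of_mul_eq_mul_left hpos
  rw [← mul_assoc, ← mul_assoc, hA, hB]
  ring

include hF hn hFm in
theorem cnt_eq (hk : IsMultiplyPretransitive G Ω k) (hm : 2 ≤ m) (hkm : k ≤ n - m) (hmn : 2 * m < n)
    {S1 U1 : Finset Ω} (h1 : Disjoint S1 U1) (hS1 : S1.card = 1) (hU1 : U1.card + 1 = k) :
    ∀ (i : ℕ), 1 ≤ i → ∀ (S U : Finset Ω), Disjoint S U → S.card = i → S.card + U.card = k →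
      cnt F S U * wt' n m k 1 = cnt F S1 U1 * wt' n m k i := by
  intro i hi
  induction i, hi using Nat.le_induction with
  | base =>
    intro S U h hS hSU
    rw [cnt_congr (G := G) F hF k (by omega) hk h h1 (hS.trans hS1.symm) (by omega) (by omega)]
  | succ i hi ih =>
    intro S U h hS hSU
    obtain ⟨a, ha⟩ : S.Nonempty := Finset.card_pos.1 (by omega)
    have hd0 : Disjoint (S.erase a) U := h.mono_left (Finset.erase_subset _ _)
    have haU : a ∉ U := Finset.disjoint_left.1 h ha
    have hd2 : Disjoint (S.erase a) (insert a U) := by simp [hd0]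
    have hc2 : (insert a U).card = U.card + 1 := Finset.card_insert_of_notMem haU
    have hc0 : (S.erase a).card = i := by rw [Finset.card_erase_of_mem ha]; omega
    have hstep := cnt_step (G := G) F hF n m k hn hFm hk (by omega) hd0 h hd2 (by omega) (by omega) rfl rfl hc2
    have hih := ih (S.erase a) (insert a U) hd2 hc0 (by omega)
    have hwt := wt'_succ n m k i (by omega)
    rw [hc0] at hstep
    have hw : n - m - (k - i - 1) = n - m - U.card := by omega
    rw [hw] at hwt
    apply Nat.eq_of_mul_eq_mul_right (show 0 < n - m - U.card by omega)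
    rw [mul_assoc (cnt F S1 U1), hwt, ← mul_assoc, ← hih, mul_right_comm, hstep]
    ring

include hF hn hFm in
/-- No pattern of size at least one on a `(k+1)`-set can be missing. -/
theorem pattern_ne_zero (hk : IsMultiplyPretransitive G Ω k) (hm : 2 ≤ m) (hkm : k ≤ n - m)
    (hmn : 2 * m < n) (hpos : F.Nonempty) (Q S : Finset Ω) (hQ : Q.card = k + 1) (hS : S ⊆ Q)
    (hS1 : 1 ≤ S.card) (hSm : S.card ≤ m) (hSk : S.card + 1 ≤ k) :
    cnt F S (Q \ S) ≠ 0 := by
  have hk2 : 2 ≤ k := by omega
  -- a translate through one prescribed point, avoiding `k - 1` others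
  obtain ⟨T, hT⟩ := hpos
  obtain ⟨x, hx⟩ : T.Nonempty := Finset.card_pos.1 (by rw [hFm T hT]; omega)
  obtain ⟨U1, hU1, hU1c⟩ := Finset.exists_subset_card_eq (s := Tᶜ) (n := k - 1)
    (by rw [Finset.card_compl, hn, hFm T hT]; omega)
  have hd1 : Disjoint ({x} : Finset Ω) U1 := by
    simp only [Finset.disjoint_singleton_left]
    exact fun h => Finset.mem_compl.1 (hU1 h) hx
  have hN1 : 0 < cnt F {x} U1 := Finset.card_pos.2 ⟨T, Finset.mem_filter.2 ⟨hT, by simpa using hx,
    Finset.disjoint_left.2 fun y hy => Finset.mem_compl.1 (hU1 hy)⟩⟩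
  intro h0
  set N1 : ℤ := (cnt F {x} U1 : ℤ) with hN1def
  set K : ℤ := ((n - k : ℕ) : ℤ) * (wt' n m k 1 : ℤ) with hK
  let E : Finset Ω → ℤ := fun S => (cnt F S (Q \ S) : ℤ) * K - N1 * (wt n m k S.card : ℤ)
  have hrec : ∀ S' : Finset Ω, ∀ z ∈ Q, z ∉ S' → S' ⊆ Q → 1 ≤ S'.card → E S' + E (insert z S') = 0 := by
    intro S' z hz hzS hS' h1
    have hsub : (Q \ S').card = k + 1 - S'.card := by rw [Finset.card_sdiff_of_subset hS', hQ]
    have hle : S'.card ≤ k := by
      have := Finset.card_le_card (Finset.insert_subset hz hS')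
      rw [Finset.card_insert_of_notMem hzS, hQ] at this
      omega
    have e1 : Q \ S' = insert z (Q \ insert z S') := by
      ext w
      simp only [Finset.mem_sdiff, Finset.mem_insert]
      by_cases hw : w = z
      · subst hw; simp [hz, hzS]
      · simp [hw]
    have hd : Disjoint S' (Q \ insert z S') :=
      Finset.disjoint_left.2 fun w hw hw' => (Finset.mem_sdiff.1 hw').2 (Finset.mem_insert_of_mem hw)
    have hc : S'.card + (Q \ insert z S').card = k := by
      rw [Finset.card_sdiff_of_subset (Finset.insert_subset hz hS'), hQ, Finset.card_insert_of_notMem hzS]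
      omega
    have hsum : cnt F S' (Q \ insert z S') = cnt F (insert z S') (Q \ insert z S') + cnt F S' (Q \ S') := by
      rw [e1]; exact cnt_split F _ _ z
    have heq := cnt_eq (G := G) F hF n m k hn hFm hk hm hkm hmn hd1 (Finset.card_singleton x) (by omega)
      S'.card h1 S' _ hd rfl hc
    have hw := wt_add n m k S'.card (by omega) hkm hle
    have hz1 : ((cnt F S' (Q \ insert z S') : ℕ) : ℤ) * (wt' n m k 1 : ℤ) = N1 * (wt' n m k S'.card : ℤ) := by
      rw [hN1def]; exact_mod_cast heq
    have hz2 : (wt n m k S'.card : ℤ) + (wt n m k (S'.card + 1) : ℤ) =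
        ((n - k : ℕ) : ℤ) * (wt' n m k S'.card : ℤ) := by exact_mod_cast hw
    have hz3 : ((cnt F S' (Q \ insert z S') : ℕ) : ℤ) =
        (cnt F (insert z S') (Q \ insert z S') : ℤ) + (cnt F S' (Q \ S') : ℤ) := by exact_mod_cast hsum
    simp only [E, hK, Finset.card_insert_of_notMem hzS]
    linear_combination (((n - k : ℕ) : ℤ)) * hz1 - N1 * hz2 - ((n - k : ℕ) : ℤ) * (wt' n m k 1 : ℤ) * hz3
  have hiter : ∀ d, ∀ S' : Finset Ω, S ⊆ S' → S' ⊆ Q → S'.card = S.card + d → E S' = (-1) ^ d * E S := by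
    intro d
    induction d with
    | zero =>
      intro S' h1 _ h3
      rw [Finset.eq_of_subset_of_card_le h1 (by omega)]
      simp
    | succ d ih =>
      intro S' h1 h2 h3
      obtain ⟨z, hz, hzS⟩ := Finset.exists_mem_notMem_of_card_lt_card (show S.card < S'.card by omega)
      have hsub : S ⊆ S'.erase z := fun w hw => Finset.mem_erase.2 ⟨fun h => hzS (h ▸ hw), h1 hw⟩
      have hc : (S'.erase z).card = S.card + d := by rw [Finset.card_erase_of_mem hz]; omega
      have h4 := ih (S'.erase z) hsub ((Finset.erase_subset _ _).trans h2) hc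
      have h5 := hrec (S'.erase z) z (h2 hz) (Finset.notMem_erase _ _) ((Finset.erase_subset _ _).trans h2) (by omega)
      rw [Finset.insert_erase hz] at h5
      rw [pow_succ]
      linear_combination h5 - h4
  -- choose the size near the top with the same parity
  obtain ⟨s, hsk, hes, hpar⟩ : ∃ s, (s = k ∨ s = k + 1) ∧ S.card < s ∧ Even (s - S.card) := by
    rcases Nat.even_or_odd (k + 1 - S.card) with hev | hodd
    · exact ⟨k + 1, Or.inr rfl, by omega, hev⟩
    · refine ⟨k, Or.inl rfl, ?_, ?_⟩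
      · obtain ⟨r, hr⟩ := hodd
        omega
      · obtain ⟨r, hr⟩ := hodd
        exact ⟨r, by omega⟩
  obtain ⟨S', hSS', hS'Q, hS'c⟩ := Finset.exists_subsuperset_card_eq hS hes.le (by omega : s ≤ Q.card)
  have hE := hiter (s - S.card) S' hSS' hS'Q (by omega)
  rw [hpar.neg_one_pow, one_mul] at hE
  simp only [E, h0, Nat.cast_zero, zero_mul, zero_sub, hS'c] at hE
  have hlt : (wt n m k s : ℤ) < (wt n m k S.card : ℤ) := by
    exact_mod_cast wt_lt n m k S.card s hS1 hes hSm hsk hkm hmn
  have h6 : 0 ≤ (cnt F S' (Q \ S') : ℤ) * K := by positivity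
  have h7 : 0 < N1 := by rw [hN1def]; exact_mod_cast hN1
  nlinarith

end Count

section Jordan

variable [Fintype Ω] [DecidableEq Ω]

/-- The pointwise stabilizer of the complement of `Γ` is transitive on `Γ`. -/
def IsJordan (G : Type*) [Group G] [MulAction G Ω] (Γ : Finset Ω) : Prop :=
  ∀ a ∈ Γ, ∀ b ∈ Γ, ∃ h : G, (∀ w ∉ Γ, h • w = w) ∧ h • a = b

theorem IsJordan.smul {Γ : Finset Ω} (hJ : IsJordan G Γ) (g : G) : IsJordan G (g • Γ) := by
  intro a ha b hb
  rw [← Finset.inv_smul_mem_iff] at ha hb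
  obtain ⟨h, hh, hab⟩ := hJ _ ha _ hb
  refine ⟨g * h * g⁻¹, fun w hw => ?_, ?_⟩
  · rw [← Finset.inv_smul_mem_iff] at hw
    rw [mul_smul, mul_smul, hh _ hw, smul_inv_smul]
  · rw [mul_smul, mul_smul, hab, smul_inv_smul]

/-- One step up in transitivity. -/
theorem step (Γ : Finset Ω) (hJ : IsJordan G Γ) (hm : 2 ≤ Γ.card) (hmn : 2 * Γ.card < Fintype.card Ω)
    (k : ℕ) (hk2 : 2 ≤ k) (hkm : k ≤ Fintype.card Ω - Γ.card) (hk : IsMultiplyPretransitive G Ω k) :
    IsMultiplyPretransitive G Ω (k + 1) := by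
  classical
  set m := Γ.card with hmdef
  set n := Fintype.card Ω with hndef
  let F : Finset (Finset Ω) := Finset.univ.filter (fun T => ∃ g : G, g • Γ = T)
  have hF : ∀ (g : G), ∀ T ∈ F, g • T ∈ F := by
    intro g T hT
    obtain ⟨g', rfl⟩ := (Finset.mem_filter.1 hT).2
    exact Finset.mem_filter.2 ⟨Finset.mem_univ _, g * g', mul_smul _ _ _⟩
  have hFm : ∀ T ∈ F, T.card = m := by
    intro T hT
    obtain ⟨g', rfl⟩ := (Finset.mem_filter.1 hT).2
    rw [Finset.card_smul_finset]
  have hFJ : ∀ T ∈ F, IsJordan G T := by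
    intro T hT
    obtain ⟨g', rfl⟩ := (Finset.mem_filter.1 hT).2
    exact hJ.smul g'
  have hΓF : Γ ∈ F := Finset.mem_filter.2 ⟨Finset.mem_univ _, 1, one_smul _ _⟩
  obtain ⟨A, hA, hAc⟩ := Finset.exists_subset_card_eq (s := Γᶜ) (n := k - 1)
    (by rw [Finset.card_compl]; omega)
  have hAΓ : ∀ a ∈ A, a ∉ Γ := fun a ha => Finset.mem_compl.1 (hA ha)
  set s : Set Ω := (A : Set Ω) with hs
  have hsc : s.ncard = k - 1 := by rw [hs, Set.ncard_coe_finset, hAc]
  set H := fixingSubgroup G s with hH
  set P := SubMulAction.ofFixingSubgroup G s with hP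
  have hmemP : ∀ x, x ∈ P ↔ x ∉ A := fun x => by
    simp [hP, hs, SubMulAction.mem_ofFixingSubgroup_iff]
  have htr1 : IsMultiplyPretransitive ↥H ↥P 1 :=
    SubMulAction.ofFixingSubgroup.isMultiplyPretransitive G (n := k) s (by omega)
  have htr : IsPretransitive ↥H ↥P := is_one_pretransitive_iff.1 htr1
  have hPc : Nat.card ↥P = n - (k - 1) := by
    have e : ↥P ≃ {x : Ω // x ∈ Aᶜ} := Equiv.subtypeEquivRight (fun x => by simp [hmemP])
    rw [Nat.card_congr e, Nat.card_eq_fintype_card, Fintype.card_coe, Finset.card_compl, hAc]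
  have hprim : IsPreprimitive ↥H ↥P := by
    refine { htr with isTrivialBlock_of_isBlock := ?_ }
    intro B hB
    by_cases hsub : B.Subsingleton
    · exact Or.inl hsub
    by_contra hnot
    have hBu : B ≠ Set.univ := fun h => hnot (Or.inr h)
    set C : Finset Ω := (B.toFinite.toFinset).image Subtype.val with hC
    have hmemC : ∀ (x : ↥P), (x : Ω) ∈ C ↔ x ∈ B := fun x => by simp [hC]
    have hCA : ∀ x ∈ C, x ∉ A := by
      intro x hx
      obtain ⟨y, _, rfl⟩ := Finset.mem_image.1 hx
      exact (hmemP _).1 y.2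
    -- stability of the block
    have hstab : ∀ g : G, g ∈ H → ∀ y ∈ C, g • y ∈ C → ∀ z ∈ C, g • z ∈ C := by
      intro g hg y hy hgy z hz
      obtain ⟨y', hy', rfl⟩ := Finset.mem_image.1 hy
      obtain ⟨z', hz', rfl⟩ := Finset.mem_image.1 hz
      rw [Set.Finite.mem_toFinset] at hy' hz'
      have h1 : (⟨g, hg⟩ : ↥H) • y' ∈ B := (hmemC _).1 hgy
      have h2 := MulAction.isBlock_iff_smul_eq_of_nonempty.1 hB (g := (⟨g, hg⟩ : ↥H))
        ⟨_, ⟨y', hy', rfl⟩, h1⟩
      exact (hmemC ((⟨g, hg⟩ : ↥H) • z')).2 (h2 ▸ Set.smul_mem_smul_set hz')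
    -- translates avoiding A
    have havoid : ∀ T ∈ F, Disjoint A T → ∀ x ∈ T, x ∈ C → (∀ z ∈ C, z ∈ T) ∨ T ⊆ C := by
      intro T hT hAT x hxT hxC
      by_contra hcon
      push Not at hcon
      obtain ⟨⟨y, hyC, hyT⟩, hTC⟩ := hcon
      obtain ⟨z, hzT, hzC⟩ := Finset.not_subset.1 hTC
      obtain ⟨h, hfix, hxz⟩ := hFJ T hT x hxT z hzT
      have hhH : h ∈ H := (mem_fixingSubgroup_iff G).2
        (fun a ha => hfix a (Finset.disjoint_left.1 hAT ha))
      have := hstab h hhH y hyC (by rw [hfix y hyT]; exact hyC) x hxC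
      rw [hxz] at this
      exact hzC this
    obtain ⟨x', hx', y', hy', hxy'⟩ := Set.not_subsingleton_iff.1 hsub
    have hxC : (x' : Ω) ∈ C := (hmemC x').2 hx'
    have hyC : (y' : Ω) ∈ C := (hmemC y').2 hy'
    have hxy : (x' : Ω) ≠ y' := fun h => hxy' (Subtype.ext h)
    set x : Ω := x'.val with hxdef
    set y : Ω := y'.val with hydef
    have hxA : x ∉ A := hCA x hxC
    have hyA : y ∉ A := hCA y hyC
    by_cases hP1 : ∀ T ∈ F, Disjoint A T → x ∈ T → y ∈ T
    · refine pattern_ne_zero (G := G) F hF n m k rfl hFm hk hm hkm hmn ⟨Γ, hΓF⟩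
        (insert x (insert y A)) {x} ?_ ?_ ?_ ?_ ?_ ?_
      · rw [Finset.card_insert_of_notMem (by simp [hxy, hxA]), Finset.card_insert_of_notMem hyA]
        omega
      · simp
      · simp
      · simp; omega
      · simp; omega
      · unfold cnt
        rw [Finset.card_eq_zero, Finset.filter_eq_empty_iff]
        intro T hT
        rintro ⟨h1, h2⟩
        have hxT : x ∈ T := Finset.singleton_subset_iff.1 h1
        have h3 : ∀ a ∈ insert y A, a ∉ T := fun a ha => Finset.disjoint_left.1 h2
          (Finset.mem_sdiff.2 ⟨Finset.mem_insert_of_mem ha, by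
            intro hax; rw [Finset.mem_singleton] at hax; subst hax
            rcases Finset.mem_insert.1 ha with h | h
            · exact hxy h
            · exact hxA h⟩)
        exact h3 y (Finset.mem_insert_self _ _) (hP1 T hT
          (Finset.disjoint_left.2 fun a ha => h3 a (Finset.mem_insert_of_mem ha)) hxT)
    push Not at hP1
    obtain ⟨T0, hT0, hAT0, hxT0, hyT0⟩ := hP1
    have hT0C : T0 ⊆ C := (havoid T0 hT0 hAT0 x hxT0 hxC).resolve_left (fun h => hyT0 (h y hyC))
    have hall : ∀ T ∈ F, Disjoint A T → x ∈ T → T ⊆ C := by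
      intro T hT hAT hxT
      rcases havoid T hT hAT x hxT hxC with h | h
      · exfalso
        have h1 : C.card ≤ T.card := Finset.card_le_card h
        have h2 : T0.card < C.card := Finset.card_lt_card
          (Finset.ssubset_iff_subset_ne.2 ⟨hT0C, fun he => hyT0 (he ▸ hyC)⟩)
        rw [hFm T hT] at h1
        rw [hFm T0 hT0] at h2
        omega
      · exact h
    obtain ⟨z', hz'⟩ := (Set.ne_univ_iff_exists_notMem B).1 hBu
    have hzC : (z' : Ω) ∉ C := fun h => hz' ((hmemC z').1 h)
    set z : Ω := z'.val with hzdef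
    have hzA : z ∉ A := (hmemP _).1 z'.2
    have hxz : x ≠ z := fun h => hzC (h ▸ hxC)
    rcases Nat.lt_or_ge 2 k with hk3 | hk3
    · refine pattern_ne_zero (G := G) F hF n m k rfl hFm hk hm hkm hmn ⟨Γ, hΓF⟩
        (insert x (insert z A)) {x, z} ?_ ?_ ?_ ?_ ?_ ?_
      · rw [Finset.card_insert_of_notMem (by simp [hxz, hxA]), Finset.card_insert_of_notMem hzA]
        omega
      · intro w; simp only [Finset.mem_insert, Finset.mem_singleton]; tauto
      · rw [Finset.card_pair hxz]; omega
      · rw [Finset.card_pair hxz]; omega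
      · rw [Finset.card_pair hxz]; omega
      · unfold cnt
        rw [Finset.card_eq_zero, Finset.filter_eq_empty_iff]
        intro T hT
        rintro ⟨h1, h2⟩
        simp only [Finset.insert_subset_iff, Finset.singleton_subset_iff] at h1
        refine hzC (hall T hT (Finset.disjoint_left.2 fun a ha => Finset.disjoint_left.1 h2 ?_) h1.1 h1.2)
        simp only [Finset.mem_sdiff, Finset.mem_insert, Finset.mem_singleton]
        refine ⟨Or.inr (Or.inr ha), ?_⟩
        rintro (rfl | rfl)
        · exact hxA ha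
        · exact hzA ha
    -- the case k = 2
    have hA1 : A.card = 1 := by omega
    obtain ⟨a, rfl⟩ := Finset.card_eq_one.1 hA1
    have hxa : x ≠ a := by simpa using hxA
    have hkn : k ≤ Fintype.card Ω := by omega
    have hfat : ∀ z'' : ↥P, z'' ∉ B → ∀ T ∈ F, x ∈ T → a ∈ T → (z'' : Ω) ∈ T := by
      intro z'' hz'' T hT hxT haT
      have hzC' : (z'' : Ω) ∉ C := fun h => hz'' ((hmemC z'').1 h)
      have hxz' : x ≠ z'' := fun h => hzC' (h ▸ hxC)
      have e : cnt F ({x, (z'' : Ω)} : Finset Ω) ∅ = cnt F ({x, a} : Finset Ω) ∅ :=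
        cnt_congr (G := G) F hF k hkn hk (Finset.disjoint_empty_right _) (Finset.disjoint_empty_right _)
          (by rw [Finset.card_pair hxz', Finset.card_pair hxa]) rfl (by rw [Finset.card_pair hxz']; simp; omega)
      unfold cnt at e
      have hsub : F.filter (fun T => ({x, (z'' : Ω)} : Finset Ω) ⊆ T ∧ Disjoint ∅ T) ⊆
          F.filter (fun T => ({x, a} : Finset Ω) ⊆ T ∧ Disjoint ∅ T) := by
        intro T' hT'
        simp only [Finset.mem_filter, Finset.insert_subset_iff, Finset.singleton_subset_iff] at hT' ⊢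
        refine ⟨hT'.1, ⟨hT'.2.1.1, ?_⟩, hT'.2.2⟩
        by_contra ha'
        exact hzC' (hall T' hT'.1 (by simpa using ha') hT'.2.1.1 hT'.2.1.2)
      have := Finset.eq_of_subset_of_card_le hsub e.symm.le
      have hT' : T ∈ F.filter (fun T => ({x, a} : Finset Ω) ⊆ T ∧ Disjoint ∅ T) := by
        simp [hT, hxT, haT, Finset.insert_subset_iff]
      rw [← this] at hT'
      simp only [Finset.mem_filter, Finset.insert_subset_iff, Finset.singleton_subset_iff] at hT'
      exact hT'.2.1.2
    -- a translate through x and a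
    obtain ⟨u, hu, v, hv, huv⟩ := Finset.one_lt_card.1 (show 1 < Γ.card by omega)
    obtain ⟨g, hg, -⟩ := exists_map (G := G) k hkn hk (Finset.disjoint_empty_right ({u, v} : Finset Ω))
      (Finset.disjoint_empty_right ({x, a} : Finset Ω))
      (by rw [Finset.card_pair huv, Finset.card_pair hxa]) rfl (by rw [Finset.card_pair huv]; simp; omega)
    set T := g • Γ with hT
    have hTF : T ∈ F := hF g Γ hΓF
    have hsubT : ({x, a} : Finset Ω) ⊆ T := by
      rw [← hg]
      exact Finset.smul_finset_subset_smul_finset (by simp [Finset.insert_subset_iff, hu, hv])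
    simp only [Finset.insert_subset_iff, Finset.singleton_subset_iff] at hsubT
    have hbig : (insert x (insert a ((C ∪ {a})ᶜ)) : Finset Ω) ⊆ T := by
      intro w hw
      simp only [Finset.mem_insert, Finset.mem_compl, Finset.mem_union, Finset.mem_singleton, not_or] at hw
      rcases hw with rfl | rfl | ⟨hwC, hwa⟩
      · exact hsubT.1
      · exact hsubT.2
      · exact hfat ⟨w, (hmemP w).2 (by simpa using hwa)⟩ (fun h => hwC ((hmemC _).2 h)) T hTF hsubT.1 hsubT.2
    -- the block is at most half of the points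
    obtain ⟨t, ht⟩ := exists_smul_eq ↥H x' z'
    have hdis : Disjoint B (t • B) := by
      rcases MulAction.isBlock_iff_smul_eq_or_disjoint.1 hB t with h | h
      · exact absurd (h ▸ Set.smul_mem_smul_set hx' : t • x' ∈ B) (ht ▸ hz')
      · exact h.symm
    have hCc : C.card = B.ncard := by
      rw [hC, Finset.card_image_of_injective _ Subtype.val_injective, ← Set.ncard_eq_toFinset_card]
    have h2C : 2 * B.ncard ≤ n - 1 := by
      have h3 : (B ∪ t • B).ncard ≤ Nat.card ↥P := Set.ncard_le_card _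
      rw [Set.ncard_union_eq hdis, Set.ncard_smul_set, hPc] at h3
      omega
    have h4 := Finset.card_le_card hbig
    rw [hFm T hTF, Finset.card_insert_of_notMem, Finset.card_insert_of_notMem, Finset.card_compl,
      Finset.card_union_of_disjoint, Finset.card_singleton] at h4
    · omega
    · simpa using fun h => hCA a h (Finset.mem_singleton_self a)
    · simp
    · simp [hxC, hxa]
  -- Jordan set inside `P`
  set S : Set ↥P := {x | (x : Ω) ∉ Γ} with hSdef
  have hScard : S.ncard = n - m - (k - 1) := by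
    have e : ↥S ≃ {x : Ω // x ∈ (Γ ∪ A)ᶜ} :=
      { toFun := fun x => ⟨x.1.1, by
          have h1 := (hmemP _).1 x.1.2
          have h2 : (x.1 : Ω) ∉ Γ := x.2
          simp [h1, h2]⟩
        invFun := fun x => ⟨⟨x.1, (hmemP _).2 (by have := x.2; simp at this; exact this.2)⟩, by
          have := x.2; simp at this; exact this.1⟩
        left_inv := fun _ => rfl
        right_inv := fun _ => rfl }
    rw [← Nat.card_coe_set_eq, Nat.card_congr e, Nat.card_eq_fintype_card, Fintype.card_coe,
      Finset.card_compl, Finset.card_union_of_disjoint (Finset.disjoint_right.2 hAΓ), hAc]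
    omega
  have hJS : IsPretransitive (fixingSubgroup ↥H S) ↥(SubMulAction.ofFixingSubgroup ↥H S) := by
    refine ⟨fun p q => ?_⟩
    have hpq : ∀ r : ↥(SubMulAction.ofFixingSubgroup ↥H S), ((r : ↥P) : Ω) ∈ Γ := fun r => by
      have := SubMulAction.not_mem_of_mem_ofFixingSubgroup r
      simpa [hSdef] using this
    obtain ⟨h, hfix, hh⟩ := hJ _ (hpq p) _ (hpq q)
    have hhH : h ∈ H := (mem_fixingSubgroup_iff G).2 (fun a ha => hfix a (hAΓ a ha))
    have hhS : (⟨h, hhH⟩ : ↥H) ∈ fixingSubgroup ↥H S :=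
      (mem_fixingSubgroup_iff _).2 (fun w hw => Subtype.ext (hfix _ hw))
    exact ⟨⟨⟨h, hhH⟩, hhS⟩, Subtype.ext (Subtype.ext hh)⟩
  have h2 : IsMultiplyPretransitive ↥H ↥P 2 := by
    by_cases hnk : n - m - (k - 1) = 0
    · omega
    obtain ⟨j, hj⟩ : ∃ j, n - m - (k - 1) = j + 1 := ⟨_, (Nat.succ_pred_eq_of_ne_zero hnk).symm⟩
    exact hprim.is_two_pretransitive (hScard.trans hj) (by omega) hJS
  -- conclude
  rw [isMultiplyPretransitive_iff]
  intro e e'
  obtain ⟨g1, hg1, -⟩ := exists_map (G := G) k (by omega) hk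
    (S := (Finset.univ.image (fun i : Fin (k - 1) => e (Fin.castLE (by omega) i))))
    (S' := A) (Finset.disjoint_empty_right _) (Finset.disjoint_empty_right _)
    (by rw [Finset.card_image_of_injective _ (fun i j h => Fin.castLE_injective _ (e.injective h)), Finset.card_univ, Fintype.card_fin, hAc])
    rfl (by rw [Finset.card_image_of_injective _ (fun i j h => Fin.castLE_injective _ (e.injective h)), Finset.card_univ, Fintype.card_fin]; simp)
  let f : Fin (k + 1) ↪ Ω := ⟨fun i => g1 • e i, fun i j h => e.injective (smul_left_cancel g1 h)⟩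
  have hfA : ∀ i : Fin (k - 1), f (Fin.castLE (by omega) i) ∈ A := by
    intro i
    have h := Finset.smul_mem_smul_finset (a := g1)
      (Finset.mem_image_of_mem (fun i : Fin (k - 1) => e (Fin.castLE (by omega) i)) (Finset.mem_univ i))
    rw [hg1] at h
    exact h
  -- move e' so that it agrees with f on the first k - 1 points
  have hkk : IsMultiplyPretransitive G Ω (k - 1) :=
    isMultiplyPretransitive_of_le (show k - 1 ≤ k by omega) (by rw [Nat.card_eq_fintype_card]; omega)
  let emb : Fin (k - 1) ↪ Fin (k + 1) := Fin.castLEEmb (by omega)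
  obtain ⟨g2, hg2⟩ := exists_smul_eq G (emb.trans e') (emb.trans f)
  have hg2' : ∀ i : Fin (k - 1), g2 • e' (emb i) = f (emb i) := fun i => by
    have := congrFun (congrArg DFunLike.coe hg2) i
    simpa using this
  have hAim : A = Finset.univ.image (fun i : Fin (k - 1) => f (emb i)) := by
    symm
    apply Finset.eq_of_subset_of_card_le
    · intro w hw
      obtain ⟨i, -, rfl⟩ := Finset.mem_image.1 hw
      exact hfA i
    · rw [Finset.card_image_of_injective _ (fun i j h => emb.injective (f.injective h))]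
      simp [hAc]
  let last : Fin 2 → Fin (k + 1) := fun i => ⟨k - 1 + i, by omega⟩
  have hlastinj : Function.Injective last := by
    intro i j h
    simp [last] at h
    exact Fin.ext h
  have hout : ∀ (φ : Fin (k + 1) ↪ Ω), (∀ i : Fin (k - 1), φ (emb i) = f (emb i)) → ∀ i : Fin 2, φ (last i) ∈ P := by
    intro φ hφ i
    rw [hmemP, hAim]
    simp only [Finset.mem_image, Finset.mem_univ, true_and, not_exists]
    intro l hl
    rw [← hφ l] at hl
    have h' := congrArg Fin.val (φ.injective hl)
    simp [last, emb] at h'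
    omega
  let f' : Fin (k + 1) ↪ Ω := ⟨fun i => g2 • e' i, fun i j h => e'.injective (smul_left_cancel g2 h)⟩
  let u : Fin 2 ↪ ↥P := ⟨fun i => ⟨f (last i), hout f (fun _ => rfl) i⟩,
    fun i j h => hlastinj (f.injective (congrArg Subtype.val h))⟩
  let v : Fin 2 ↪ ↥P := ⟨fun i => ⟨f' (last i), hout f' hg2' i⟩,
    fun i j h => hlastinj (f'.injective (congrArg Subtype.val h))⟩
  obtain ⟨t, ht⟩ := exists_smul_eq ↥H u v
  refine ⟨g2⁻¹ * (t : G) * g1, ?_⟩
  apply Function.Embedding.ext
  intro i
  show (g2⁻¹ * (t : G) * g1) • e i = e' i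
  rw [mul_smul, mul_smul, inv_smul_eq_iff]
  show (t : G) • f i = g2 • e' i
  by_cases hi : (i : ℕ) < k - 1
  · have : emb ⟨i, hi⟩ = i := by ext; simp [emb]
    have h5 := (mem_fixingSubgroup_iff G).1 t.2 _ (hfA ⟨i, hi⟩)
    rw [← this]
    rw [hg2']
    exact h5
  · obtain ⟨l, rfl⟩ : ∃ l, last l = i := ⟨⟨i - (k - 1), by omega⟩, by ext; simp [last]; omega⟩
    have := congrArg Subtype.val (congrFun (congrArg DFunLike.coe ht) l)
    exact this

/-- Marggraf: the translates of a small Jordan set include two meeting in one point. -/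
theorem exists_inter_singleton (hprim : IsPreprimitive G Ω) (Γ : Finset Ω) (hJ : IsJordan G Γ)
    (hm : 2 ≤ Γ.card) (hmn : 2 * Γ.card < Fintype.card Ω) :
    ∃ (g : G) (a : Ω), Γ ∩ g • Γ = {a} := by
  have hjord : IsPretransitive (fixingSubgroup G ((Γ : Set Ω)ᶜ))
      ↥(SubMulAction.ofFixingSubgroup G ((Γ : Set Ω)ᶜ)) := by
    refine ⟨fun p q => ?_⟩
    have hpq : ∀ r : ↥(SubMulAction.ofFixingSubgroup G ((Γ : Set Ω)ᶜ)), (r : Ω) ∈ Γ := fun r => by
      have := SubMulAction.not_mem_of_mem_ofFixingSubgroup r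
      simpa using this
    obtain ⟨h, hfix, hh⟩ := hJ _ (hpq p) _ (hpq q)
    exact ⟨⟨h, (mem_fixingSubgroup_iff G).2 (fun w hw => hfix w (by simpa using hw))⟩, Subtype.ext hh⟩
  have h2 : IsMultiplyPretransitive G Ω 2 := by
    refine hprim.is_two_pretransitive (n := Fintype.card Ω - Γ.card - 1) ?_ ?_ hjord
    · rw [Set.ncard_compl, Set.ncard_coe_finset, Nat.card_eq_fintype_card]; omega
    · rw [Nat.card_eq_fintype_card]; omega
  have hall : ∀ k, 2 ≤ k → k ≤ Fintype.card Ω - Γ.card + 1 → IsMultiplyPretransitive G Ω k := by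
    intro k hk
    induction k, hk using Nat.le_induction with
    | base => intro _; exact h2
    | succ j hj ih => intro h; exact step Γ hJ hm hmn j hj (by omega) (ih (by omega))
  have hmk := hall Γ.card hm (by omega)
  obtain ⟨a, ha⟩ : Γ.Nonempty := Finset.card_pos.1 (by omega)
  obtain ⟨U, hU, hUc⟩ := Finset.exists_subset_card_eq (s := Γᶜ) (n := Γ.card - 1)
    (by rw [Finset.card_compl]; omega)
  have haU : a ∉ U := fun h => Finset.mem_compl.1 (hU h) ha
  obtain ⟨g, hg, -⟩ := exists_map (G := G) Γ.card (by omega) hmk (Finset.disjoint_empty_right Γ)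
    (Finset.disjoint_empty_right (insert a U))
    (by rw [Finset.card_insert_of_notMem haU, hUc]; omega) rfl (by simp)
  refine ⟨g, a, ?_⟩
  rw [hg]
  ext w
  simp only [Finset.mem_inter, Finset.mem_insert, Finset.mem_singleton]
  constructor
  · rintro ⟨hw, rfl | hw'⟩
    · rfl
    · exact absurd hw (Finset.mem_compl.1 (hU hw'))
  · rintro rfl; exact ⟨ha, Or.inl rfl⟩

end Jordan

section Quasi

variable [Fintype Ω] [DecidableEq Ω] [FaithfulSMul G Ω]

/-- If the supports of `h` and `k` meet only in `a`, their commutator is a three-cycle. -/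
theorem commutator_three_cycle {α : Type*} [Fintype α] [DecidableEq α] (h k : Equiv.Perm α) (a : α)
    (hh : h a ≠ a) (hk : k a ≠ a) (hsep : ∀ x, x ≠ a → h x = x ∨ k x = x) :
    Equiv.Perm.IsThreeCycle (h * k * h⁻¹ * k⁻¹) := by
  have hab : h (h a) ≠ h a := fun e => hh (h.injective e)
  have hkk : k (k a) ≠ k a := fun e => hk (k.injective e)
  have h1 : k (h a) = h a := (hsep (h a) hh).resolve_left hab
  have h2 : h (k a) = k a := (hsep (k a) hk).resolve_right hkk
  have hne : h a ≠ k a := fun e => hab (by rw [e, h2])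
  have hfb : k⁻¹ (h a) = h a := by rw [Equiv.Perm.inv_eq_iff_eq, h1]
  have ea : (h * k * h⁻¹ * k⁻¹) a = h a := by
    have hz : k⁻¹ a ≠ a := fun e => hk (by rw [Equiv.Perm.inv_eq_iff_eq] at e; exact e.symm)
    have hz2 : h (k⁻¹ a) = k⁻¹ a := by
      refine (hsep _ hz).resolve_right (fun e => ?_)
      rw [← Equiv.Perm.mul_apply, mul_inv_cancel, Equiv.Perm.one_apply] at e
      exact hz e.symm
    have hz3 : h⁻¹ (k⁻¹ a) = k⁻¹ a := by rw [Equiv.Perm.inv_eq_iff_eq, hz2]
    rw [Equiv.Perm.mul_apply, Equiv.Perm.mul_apply, Equiv.Perm.mul_apply, hz3, ← Equiv.Perm.mul_apply k, mul_inv_cancel, Equiv.Perm.one_apply]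
  have eb : (h * k * h⁻¹ * k⁻¹) (h a) = k a := by
    have hz4 : h⁻¹ (h a) = a := by rw [← Equiv.Perm.mul_apply, inv_mul_cancel, Equiv.Perm.one_apply]
    rw [Equiv.Perm.mul_apply, Equiv.Perm.mul_apply, Equiv.Perm.mul_apply, hfb, hz4, h2]
  have ec : (h * k * h⁻¹ * k⁻¹) (k a) = a := by
    have hz : h⁻¹ a ≠ a := fun e => hh (by rw [Equiv.Perm.inv_eq_iff_eq] at e; exact e.symm)
    have hz2 : k (h⁻¹ a) = h⁻¹ a := by
      refine (hsep _ hz).resolve_left (fun e => ?_)
      rw [← Equiv.Perm.mul_apply, mul_inv_cancel, Equiv.Perm.one_apply] at e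
      exact hz e.symm
    have hz4 : k⁻¹ (k a) = a := by rw [← Equiv.Perm.mul_apply, inv_mul_cancel, Equiv.Perm.one_apply]
    rw [Equiv.Perm.mul_apply, Equiv.Perm.mul_apply, Equiv.Perm.mul_apply, hz4, hz2, ← Equiv.Perm.mul_apply h, mul_inv_cancel, Equiv.Perm.one_apply]
  have efix : ∀ x, x ≠ a → x ≠ h a → x ≠ k a → (h * k * h⁻¹ * k⁻¹) x = x := by
    intro x hxa hxb hxc
    simp only [Equiv.Perm.mul_apply]
    set y := k⁻¹ x with hy
    have hky : k y = x := by rw [hy, ← Equiv.Perm.mul_apply, mul_inv_cancel, Equiv.Perm.one_apply]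
    have hya : y ≠ a := fun e => hxc (by rw [← hky, e])
    set z := h⁻¹ y with hz
    have hhz : h z = y := by rw [hz, ← Equiv.Perm.mul_apply, mul_inv_cancel, Equiv.Perm.one_apply]
    by_cases hyk : k y = y
    · have hyx : y = x := hyk.symm.trans hky
      have hza : z ≠ a := fun e => hxb (by rw [← hyx, ← hhz, e])
      rcases hsep z hza with e | e
      · have hzy : z = y := e.symm.trans hhz
        rw [hzy, hky]
        exact (show h x = x by rw [← hyx]; rw [← hzy]; exact e)
      · rw [e, hhz, hyx]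
    · have hyh : h y = y := (hsep y hya).resolve_right hyk
      have hzy : z = y := by rw [hz, Equiv.Perm.inv_eq_iff_eq, hyh]
      rw [hzy, hky]
      refine (hsep x hxa).resolve_right (fun e => hyk ?_)
      rw [hky]; exact (k.injective (hky.trans e.symm)).symm
  have hsupp : (h * k * h⁻¹ * k⁻¹).support = {a, h a, k a} := by
    ext x
    simp only [Equiv.Perm.mem_support, Finset.mem_insert, Finset.mem_singleton]
    constructor
    · intro hx
      by_contra hcon
      push Not at hcon
      exact hx (efix x hcon.1 hcon.2.1 hcon.2.2)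
    · rintro (rfl | rfl | rfl)
      · rw [ea]; exact hh
      · rw [eb]; exact hne.symm
      · rw [ec]; exact hk.symm
  rw [← card_support_eq_three_iff, hsupp]
  rw [Finset.card_insert_of_notMem (by simp [hh.symm, hk.symm]), Finset.card_pair hne]

/-- Marggraf's theorem for quasiprimitive groups. -/
theorem quasiprimitive_alternating
    (hqp : ∀ N : Subgroup G, N.Normal → N ≠ ⊥ → MulAction.IsPretransitive ↥N Ω)
    [Finite G] (Γ : Finset Ω) (hJ : IsJordan G Γ) (hm : 2 ≤ Γ.card) (hmn : 2 * Γ.card < Fintype.card Ω) :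
    ∀ σ : Equiv.Perm Ω, Equiv.Perm.sign σ = 1 → ∃ x : G, (MulAction.toPerm x : Equiv.Perm Ω) = σ := by
  classical
  obtain ⟨a, ha, b, hb, hab⟩ := Finset.one_lt_card.1 (show 1 < Γ.card by omega)
  obtain ⟨h0, hh0, hh0ab⟩ := hJ a ha b hb
  have hbot : (⊤ : Subgroup G) ≠ ⊥ := by
    intro hc
    have : h0 = 1 := by rw [← Subgroup.mem_bot, ← hc]; exact Subgroup.mem_top _
    rw [this, one_smul] at hh0ab
    exact hab hh0ab
  have htop := hqp ⊤ inferInstance hbot
  have htr : IsPretransitive G Ω :=
    ⟨fun x y => by obtain ⟨g, hg⟩ := htop.exists_smul_eq x y; exact ⟨(g : G), hg⟩⟩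
  have hne : stabilizer G a ≠ ⊤ := fun h => hab (by
    rw [← hh0ab]; exact (mem_stabilizer_iff.1 (h ▸ Subgroup.mem_top h0)).symm)
  obtain ⟨M, hM, hMle⟩ := (eq_top_or_exists_le_coatom (stabilizer G a)).resolve_left hne
  letI : Fintype (G ⧸ M) := Fintype.ofFinite _
  -- the projection to the block system
  have hwell : ∀ g g' : G, g • a = g' • a → (g : G ⧸ M) = (g' : G ⧸ M) := by
    intro g g' h
    rw [QuotientGroup.eq]
    apply hMle
    rw [mem_stabilizer_iff, mul_smul, ← h, inv_smul_smul]
  choose rep hrep using fun x : Ω => htr.exists_smul_eq a x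
  let π : Ω → G ⧸ M := fun x => (rep x : G ⧸ M)
  have hπ : ∀ (g : G) (x : Ω), π (g • x) = g • π x := by
    intro g x
    show (rep (g • x) : G ⧸ M) = g • (rep x : G ⧸ M)
    rw [MulAction.Quotient.smul_mk]
    exact hwell _ _ (by rw [hrep, smul_eq_mul, mul_smul, hrep])
  have hπs : Function.Surjective π := by
    intro q
    obtain ⟨g, rfl⟩ := QuotientGroup.mk_surjective q
    exact ⟨g • a, hwell _ _ (hrep _)⟩
  have hprimQ : IsPreprimitive G (G ⧸ M) := by
    have hst : stabilizer G ((1 : G) : G ⧸ M) = M := by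
      ext g
      rw [mem_stabilizer_iff, MulAction.Quotient.smul_mk, smul_eq_mul, mul_one, QuotientGroup.eq, mul_one]
      exact inv_mem_iff
    have : Nontrivial (G ⧸ M) := by
      by_contra hnt
      rw [not_nontrivial_iff_subsingleton] at hnt
      apply hM.1
      rw [Subgroup.eq_top_iff']
      intro g
      have := QuotientGroup.eq.1 (hnt.elim ((1 : G) : G ⧸ M) (g : G ⧸ M))
      simpa using this
    exact (isCoatom_stabilizer_iff_preprimitive G ((1 : G) : G ⧸ M)).1 (hst.symm ▸ hM)
  have hfaith : ∀ g : G, (∀ q : G ⧸ M, g • q = q) → g = 1 := by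
    intro g hg
    by_contra hg1
    have hK : (MulAction.toPermHom G (G ⧸ M)).ker ≠ ⊥ := by
      intro h
      apply hg1
      rw [← Subgroup.mem_bot, ← h, MonoidHom.mem_ker]
      exact Equiv.ext hg
    have hKt := hqp _ inferInstance hK
    apply hM.1
    rw [Subgroup.eq_top_iff']
    intro c
    obtain ⟨k, hk⟩ := hKt.exists_smul_eq a (c • a)
    have h1 : ((k : G) : G ⧸ M) = (c : G ⧸ M) := hwell _ _ hk
    have h2 : (k : G) • ((1 : G) : G ⧸ M) = ((1 : G) : G ⧸ M) := by
      have h3 := DFunLike.congr_fun (MonoidHom.mem_ker.1 k.2) ((1 : G) : G ⧸ M)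
      simpa using h3
    rw [MulAction.Quotient.smul_mk, smul_eq_mul, mul_one] at h2
    rw [h1] at h2
    have := QuotientGroup.eq.1 h2.symm
    simpa using this
  -- fibres meeting `Γ` lie inside `Γ`
  have hΓπ : ∀ x ∈ Γ, ∀ w, π w = π x → w ∈ Γ := by
    intro x hx w hw
    by_contra hwΓ
    have hall : ∀ y ∈ Γ, π y = π x := by
      intro y hy
      obtain ⟨h, hh, hxy⟩ := hJ x hx y hy
      rw [← hxy, hπ, ← hw, ← hπ, hh w hwΓ]
    have h1 : h0 = 1 := by
      apply hfaith
      intro q
      obtain ⟨y, rfl⟩ := hπs q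
      rw [← hπ]
      by_cases hy : y ∈ Γ
      · by_cases hy' : h0 • y ∈ Γ
        · rw [hall _ hy', hall y hy]
        · exact absurd hy (by
            have := hh0 _ hy'
            rw [smul_left_cancel h0 this] at hy'
            exact hy')
      · rw [hh0 y hy]
    rw [h1, one_smul] at hh0ab
    exact hab hh0ab
  set Γ' : Finset (G ⧸ M) := Γ.image π with hΓ'
  have hJ' : IsJordan G Γ' := by
    intro p hp q hq
    obtain ⟨x, hx, rfl⟩ := Finset.mem_image.1 hp
    obtain ⟨y, hy, rfl⟩ := Finset.mem_image.1 hq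
    obtain ⟨h, hh, hxy⟩ := hJ x hx y hy
    refine ⟨h, fun r hr => ?_, by rw [← hπ, hxy]⟩
    obtain ⟨w, rfl⟩ := hπs r
    rw [← hπ, hh w (fun hw => hr (Finset.mem_image_of_mem _ hw))]
  -- all fibres have the same size
  set N := (Finset.univ.filter (fun w => π w = π a)).card with hN
  have hfib : ∀ q : G ⧸ M, (Finset.univ.filter (fun w => π w = q)).card = N := by
    intro q
    obtain ⟨x, rfl⟩ := hπs q
    obtain ⟨g, rfl⟩ := htr.exists_smul_eq a x
    rw [hN]
    symm
    refine Finset.card_bij (fun w _ => g • w) (fun w hw => ?_) (fun w _ w' _ h => smul_left_cancel g h) ?_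
    · simp only [Finset.mem_filter, Finset.mem_univ, true_and] at hw ⊢
      rw [hπ, hπ, hw]
    · intro w hw
      simp only [Finset.mem_filter, Finset.mem_univ, true_and] at hw
      refine ⟨g⁻¹ • w, ?_, smul_inv_smul g w⟩
      simp only [Finset.mem_filter, Finset.mem_univ, true_and]
      rw [hπ, hw, hπ, inv_smul_smul]
  have hcardΩ : Fintype.card Ω = Fintype.card (G ⧸ M) * N := by
    rw [← Finset.card_univ, Finset.card_eq_sum_card_fiberwise (t := Finset.univ) (f := π) (fun w _ => Finset.mem_univ _),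
      Finset.sum_congr rfl (fun q _ => hfib q), Finset.sum_const, Finset.card_univ, smul_eq_mul]
  have hcardΓ : Γ.card = Γ'.card * N := by
    rw [Finset.card_eq_sum_card_fiberwise (t := Γ') (f := π) (fun w hw => Finset.mem_image_of_mem _ hw),
      ← smul_eq_mul, ← Finset.sum_const]
    apply Finset.sum_congr rfl
    intro q hq
    obtain ⟨x, hx, rfl⟩ := Finset.mem_image.1 hq
    rw [← hfib (π x)]
    congr 1
    ext w
    simp only [Finset.mem_filter, Finset.mem_univ, true_and]
    exact ⟨fun h => h.2, fun h => ⟨hΓπ x hx w h, h⟩⟩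
  have hm' : 2 ≤ Γ'.card := by
    by_contra hcon
    have h1 : h0 = 1 := by
      apply hfaith
      intro q
      obtain ⟨y, rfl⟩ := hπs q
      rw [← hπ]
      by_cases hy : y ∈ Γ
      · by_cases hy' : h0 • y ∈ Γ
        · exact Finset.card_le_one.1 (by omega : Γ'.card ≤ 1) _ (Finset.mem_image_of_mem π hy') _ (Finset.mem_image_of_mem π hy)
        · exact absurd hy (by
            have := hh0 _ hy'
            rw [smul_left_cancel h0 this] at hy'
            exact hy')
      · rw [hh0 y hy]
    rw [h1, one_smul] at hh0ab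
    exact hab hh0ab
  have hmn' : 2 * Γ'.card < Fintype.card (G ⧸ M) := by
    rw [hcardΩ, hcardΓ, ← mul_assoc] at hmn
    exact Nat.lt_of_mul_lt_mul_right hmn
  obtain ⟨g, q, hgq⟩ := exists_inter_singleton hprimQ Γ' hJ' hm' hmn'
  have hq : q ∈ Γ' ∧ q ∈ g • Γ' := Finset.mem_inter.1 (hgq ▸ Finset.mem_singleton_self q)
  set Δ := g • Γ with hΔ
  have hJΔ : IsJordan G Δ := hJ.smul g
  have hΔ' : g • Γ' = Δ.image π := by
    ext r
    simp only [hΓ', hΔ, Finset.mem_image, Finset.mem_smul_finset]
    constructor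
    · rintro ⟨_, ⟨x, hx, rfl⟩, rfl⟩; exact ⟨g • x, ⟨x, hx, rfl⟩, hπ g x⟩
    · rintro ⟨_, ⟨x, hx, rfl⟩, rfl⟩; exact ⟨π x, ⟨x, hx, rfl⟩, (hπ g x).symm⟩
  have hΔπ : ∀ w, π w ∈ g • Γ' → w ∈ Δ := by
    intro w hw
    rw [← Finset.inv_smul_mem_iff, ← hπ] at hw
    obtain ⟨x, hx, hxw⟩ := Finset.mem_image.1 hw
    rw [hΔ, ← Finset.inv_smul_mem_iff]
    exact hΓπ x hx _ hxw.symm
  obtain ⟨c, hc⟩ := hπs q
  have hcΓ : c ∈ Γ := by
    obtain ⟨x, hx, hxq⟩ := Finset.mem_image.1 hq.1
    exact hΓπ x hx c (hc.trans hxq.symm)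
  have honly : ∀ w, w ∈ Γ → w ∈ Δ → π w = q := by
    intro w h1 h2
    have : π w ∈ Γ' ∩ g • Γ' := Finset.mem_inter.2 ⟨Finset.mem_image_of_mem _ h1, by rw [hΔ']; exact Finset.mem_image_of_mem _ h2⟩
    rw [hgq] at this
    exact Finset.mem_singleton.1 this
  -- each fibre is a point
  have hsingle : ∀ w, π w = q → w = c := by
    intro w hw
    by_contra hwc
    have hwΓ : w ∈ Γ := hΓπ c hcΓ w (hw.trans hc.symm)
    obtain ⟨h, hh, hcw⟩ := hJ c hcΓ w hwΓ
    have hhq : h • q = q := by rw [← hc, ← hπ, hcw, hw, hc]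
    obtain ⟨r, hr, hrq⟩ : ∃ r ∈ g • Γ', r ≠ q := Finset.exists_mem_ne (by rw [Finset.card_smul_finset]; omega) q
    obtain ⟨k, hk, hkr⟩ := (hJ'.smul g) q hq.2 r hr
    obtain ⟨k', hk', hk'r⟩ : ∃ k', (∀ w ∉ Δ, k' • w = w) ∧ k' • π c = r := by
      obtain ⟨x, hx, hxr⟩ := Finset.mem_image.1 (hΔ' ▸ hr)
      obtain ⟨k', h1, h2⟩ := hJΔ c (hΔπ c (hc.symm ▸ hq.2)) x hx
      exact ⟨k', h1, by rw [← hπ, h2, hxr]⟩
    rw [hc] at hk'r
    have hs1 : ∀ w, h • w ≠ w → w ∈ Γ := fun w hw' => by_contra fun hn => hw' (hh w hn)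
    have hs1' : ∀ w, w ∈ Γ → h • w ∈ Γ := fun w hw' => by
      by_contra hn
      have := hh _ hn
      rw [smul_left_cancel h this] at hn
      exact hn hw'
    -- `z := h⁻¹ * (k' h k'⁻¹)` fixes every block
    have hz : h⁻¹ * (k' * h * k'⁻¹) = 1 := by
      apply hfaith
      intro p
      obtain ⟨w, rfl⟩ := hπs p
      rw [mul_smul, mul_smul, mul_smul, inv_smul_eq_iff]
      set v := k'⁻¹ • π w with hv
      have hkv : k' • v = π w := smul_inv_smul _ _
      by_cases hvq : v = q
      · rw [hvq, hhq, hk'r]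
        have hwr : π w = r := by rw [← hkv, hvq, hk'r]
        rw [← hwr, ← hπ, hh w (fun hwΓ' => hrq ?_)]
        rw [← hwr]
        exact honly w hwΓ' (hΔπ w (hwr ▸ hr))
      · obtain ⟨u, hu⟩ := hπs v
        by_cases hhv : h • v = v
        · rw [hhv, hkv]
          by_cases hwq : π w = q
          · rw [hwq, hhq]
          · by_cases hwh : h • π w = π w
            · exact hwh.symm
            · exfalso
              have hwΓ' : w ∈ Γ := hs1 w (fun e => hwh (by rw [← hπ, e]))
              have hwΔ : w ∉ Δ := fun hd => hwq (honly w hwΓ' hd)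
              have : k'⁻¹ • w = w := inv_smul_eq_iff.2 (hk' w hwΔ).symm
              apply hwh
              have hvw : v = π w := by rw [hv, ← hπ, this]
              rw [← hvw, hhv]
        · have huΓ : u ∈ Γ := hs1 u (fun e => hhv (by rw [← hu, ← hπ, e]))
          have huΔ : u ∉ Δ := fun hd => hvq (hu ▸ honly u huΓ hd)
          have hvw : π w = v := by rw [← hkv, ← hu, ← hπ, hk' u huΔ]
          rw [hvw, ← hu, ← hπ, ← hπ]
          congr 1
          apply hk'
          intro hd
          have hq' := honly _ (hs1' u huΓ) hd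
          rw [hπ, hu] at hq'
          exact hvq (smul_left_cancel h (hq'.trans hhq.symm))
    have hwΔ : w ∈ Δ := hΔπ w (hw.symm ▸ hq.2)
    have e1 : k' * h = h * k' := by
      rw [inv_mul_eq_one] at hz
      rw [eq_comm, ← eq_mul_inv_iff_mul_eq]
      exact hz
    -- evaluate at `c`
    have hkc : π (k' • c) = r := by rw [hπ, hc, hk'r]
    have hkcΓ : k' • c ∉ Γ := fun h' => hrq (by
      rw [← hkc]; exact honly _ h' (hΔπ _ (hkc.symm ▸ hr)))
    have : (k' * h) • c = (h * k') • c := by rw [e1]
    rw [mul_smul, mul_smul, hcw, hh _ hkcΓ] at this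
    exact hwc (smul_left_cancel k' this)
  have hπinj : Function.Injective π := by
    have hN1 : N = 1 := by
      rw [← hfib q, Finset.card_eq_one]
      exact ⟨c, by ext w; simp only [Finset.mem_filter, Finset.mem_univ, true_and, Finset.mem_singleton]; exact ⟨hsingle w, fun h => h ▸ hc⟩⟩
    intro u v huv
    have := (Finset.card_le_one.1 (le_of_eq ((hfib (π v)).trans hN1))) u (by simp [huv]) v (by simp)
    exact this
  have hinter : ∀ w, w ≠ c → w ∈ Γ → w ∈ Δ → False := fun w hw h1 h2 => hw (hsingle w (honly w h1 h2))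
  obtain ⟨x, hx, hxc⟩ := Finset.exists_mem_ne (show 1 < Γ.card by omega) c
  obtain ⟨y, hy, hyc⟩ := Finset.exists_mem_ne (show 1 < Δ.card by rw [hΔ, Finset.card_smul_finset]; omega) c
  obtain ⟨h, hh, hhc⟩ := hJ c hcΓ x hx
  obtain ⟨k, hk, hkc⟩ := hJΔ c (hΔπ c (hc.symm ▸ hq.2)) y hy
  let φ := MulAction.toPermHom G Ω
  have hprim' : IsPreprimitive ↥φ.range Ω := by
    have hP : IsPreprimitive G Ω := by
      refine { htr with isTrivialBlock_of_isBlock := ?_ }
      intro B hB
      have hB' : IsBlock G (π '' B) := by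
        rw [MulAction.isBlock_iff_smul_eq_or_disjoint]
        intro g
        have himg : g • (π '' B) = π '' (g • B) := by
          ext r
          constructor
          · rintro ⟨_, ⟨x, hx, rfl⟩, rfl⟩; exact ⟨g • x, ⟨x, hx, rfl⟩, hπ g x⟩
          · rintro ⟨_, ⟨x, hx, rfl⟩, rfl⟩; exact ⟨π x, ⟨x, hx, rfl⟩, (hπ g x).symm⟩
        rw [himg]
        rcases MulAction.isBlock_iff_smul_eq_or_disjoint.1 hB g with h | h
        · exact Or.inl (by rw [h])
        · exact Or.inr (Set.disjoint_image_of_injective hπinj h)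
      rcases hprimQ.isTrivialBlock_of_isBlock hB' with h | h
      · exact Or.inl (fun u hu v hv => hπinj (h ⟨u, hu, rfl⟩ ⟨v, hv, rfl⟩))
      · refine Or.inr (Set.eq_univ_of_forall fun u => ?_)
        obtain ⟨v, hv, huv⟩ := (h.symm ▸ Set.mem_univ (π u) : π u ∈ π '' B)
        exact hπinj huv ▸ hv
    let f : Ω →ₑ[φ.rangeRestrict] Ω := { toFun := id, map_smul' := fun _ _ => rfl }
    exact IsPreprimitive.of_surjective (f := f) Function.surjective_id
  have h3 := commutator_three_cycle (φ h) (φ k) c (by show h • c ≠ c; rw [hhc]; exact hxc)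
    (by show k • c ≠ c; rw [hkc]; exact hyc) (fun w hw => by
      by_contra hcon
      push Not at hcon
      exact hinter w hw (by_contra fun hn => hcon.1 (hh w hn)) (by_contra fun hn => hcon.2 (hk w hn)))
  have hle := Equiv.Perm.alternatingGroup_le_of_isPreprimitive_of_isThreeCycle_mem hprim' h3
    (by
      refine ⟨h * k * h⁻¹ * k⁻¹, ?_⟩
      simp)
  intro σ hσ
  obtain ⟨x, hx⟩ := hle (Equiv.Perm.mem_alternatingGroup.2 hσ)
  exact ⟨x, hx⟩

end Quasi

end Cfsg.Agent.Marggraf
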