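import Mathlib
import Cfsg.Agent.Lib.MaxClassDegree94
import Cfsg.Agent.Lib.FlagDimThree1

/-!
From a term `Gf X i` of index at least `p ^ 2` in a group of maximal class, with a group acting on a
quotient `Gf X i / Gf X m`, to the data of a Sylow subgroup acting on a cyclic flag.
-/

set_option autoImplicit false
set_option linter.unusedSectionVars false

namespace Cfsg.Agent.MaxClassFlagData1

open Subgroup
open scoped commutatorElement
open PGroupsHallPetrescu (Gf Gf_antitone commutator_mem_Gf)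
open Blackburn20 (Ct mem_Ct IsUniform)
open FlagRep1

variable {p : ℕ} [hp : Fact p.Prime]

/-- Elements of a subgroup over a normal subgroup of index `p`. -/
theorem exists_pow_mul {X : Type*} [Group X] [Finite X] {A B : Subgroup X} [B.Normal] (hBA : B ≤ A)
    (hcard : Nat.card A = p * Nat.card B) {a : X} (ha : a ∈ A) (ha' : a ∉ B) {u : X} (hu : u ∈ A) :
    ∃ r : ℕ, ∃ b ∈ B, u = a ^ r * b := by
  set K := Subgroup.zpowers a ⊔ B
  have hKA : K ≤ A := sup_le (Subgroup.zpowers_le.2 ha) hBA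
  have hBK : B ≤ K := le_sup_right
  have hK : K = A := by
    refine eq_of_le_of_card_ge hKA ?_
    obtain ⟨q, hq⟩ := card_dvd_of_le hBK
    obtain ⟨r, hr⟩ := card_dvd_of_le hKA
    rw [hcard, hq, mul_assoc, mul_comm p] at hr
    have h1 : q * r = p := (Nat.eq_of_mul_eq_mul_left Nat.card_pos hr).symm
    rcases (Nat.dvd_prime hp.out).mp ⟨r, h1.symm⟩ with hq1 | hqp
    · exfalso
      refine ha' ?_
      rw [show B = K from eq_of_le_of_card_ge hBK (by rw [hq, hq1, mul_one])]
      exact mem_sup_left (Subgroup.mem_zpowers a)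
    · rw [hcard, hq, hqp, mul_comm]
  obtain ⟨y, hy, b, hb, rfl⟩ := Subgroup.mem_sup_of_normal_right.1 (hK.ge hu)
  obtain ⟨r, rfl⟩ := (isOfFinOrder_of_finite a).mem_powers_iff_mem_zpowers.2 hy
  exact ⟨r, b, hb, rfl⟩

/-- The data coming from a fusion system. -/
structure EssData (X : Type*) [Group X] {H : Type*} [Group H] {V : Type*} [AddCommGroup V]
    [Module (ZMod p) V] (ρ : H →* Module.End (ZMod p) V) (T : Sylow p H) (π : X →* H) (mk : X → V)
    (i m : ℕ) : Prop where
  mk_mul : ∀ a ∈ Gf X i, ∀ b ∈ Gf X i, mk (a * b) = mk a + mk b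
  mk_surj : ∀ v : V, ∃ a ∈ Gf X i, mk a = v
  mk_zero : ∀ a ∈ Gf X i, (mk a = 0 ↔ a ∈ Gf X m)
  range_eq : π.range = (T : Subgroup H)
  ker_eq : π.ker = Gf X i
  act : ∀ g : X, ∀ a ∈ Gf X i, ρ (π g) (mk a) = mk (g * a * g⁻¹)
  inj : Function.Injective ρ
  core : Cfsg.pCore p H = ⊥
  pow_mem : ∀ a ∈ Gf X i, a ^ p ∈ Gf X m
  ext : ∀ n : H, (∀ t ∈ (T : Subgroup H), n * t * n⁻¹ ∈ (T : Subgroup H)) →
    ∃ f : X →* X, (∀ g, π (f g) = n * π g * n⁻¹) ∧ ∀ a ∈ Gf X i, ρ n (mk a) = mk (f a)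
  embedded : ∃ Me : Subgroup H, Me ≠ ⊤ ∧ (T : Subgroup H) ≤ Me ∧
    (∀ A : Subgroup H, A ≤ Me → IsPGroup p A → A ≠ ⊥ →
      Subgroup.normalizer (A : Set H) ≤ Me) ∧
    ∀ g : H, g ∉ Me → ∀ u ∈ Me, (∃ k, u ^ p ^ k = 1) → g⁻¹ * u * g ∈ Me → u = 1

theorem comm_central {Q : Type*} [Group Q] {S W E F : Q} (hS : Commute ⁅S, W⁆ S)
    (hW : Commute ⁅S, W⁆ W) (hE : ∀ z, Commute E z) (hF : ∀ z, Commute F z) (a b k : ℕ) :
    ⁅S ^ a * W ^ k * E, W ^ b * F⁆ = ⁅S, W⁆ ^ (a * b) := by
  have h1 : ∀ b : ℕ, S * W ^ b * S⁻¹ = ⁅S, W⁆ ^ b * W ^ b := by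
    intro b
    rw [← conj_pow, ← hW.mul_pow]
    congr 1
    simp [commutatorElement_def]
  have h2 : ∀ a : ℕ, S ^ a * W ^ b * (S ^ a)⁻¹ = ⁅S, W⁆ ^ (a * b) * W ^ b := by
    intro a
    induction a with
    | zero => simp
    | succ a ih =>
      rw [show S ^ (a + 1) * W ^ b * (S ^ (a + 1))⁻¹ = S * (S ^ a * W ^ b * (S ^ a)⁻¹) * S⁻¹ by
        rw [pow_succ']; group, ih, show S * (⁅S, W⁆ ^ (a * b) * W ^ b) * S⁻¹ =
          S * ⁅S, W⁆ ^ (a * b) * S⁻¹ * (S * W ^ b * S⁻¹) by group, h1,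
        ← (hS.pow_left (a * b)).eq, mul_inv_cancel_right, ← mul_assoc, ← pow_add, Nat.succ_mul]
  have e1 : ∀ A B : Q, ⁅A * E, B * F⁆ = ⁅A, B⁆ := by
    intro A B
    simp only [commutatorElement_def]
    rw [show A * E * (B * F) * (A * E)⁻¹ * (B * F)⁻¹ =
      A * (E * (B * F) * E⁻¹) * A⁻¹ * (B * F)⁻¹ by group, (hE (B * F)).eq, mul_inv_cancel_right,
      show A * (B * F) * A⁻¹ * (B * F)⁻¹ = A * B * (F * A⁻¹ * F⁻¹) * B⁻¹ by group, (hF A⁻¹).eq,
      mul_inv_cancel_right]
  rw [e1, commutatorElement_def, show S ^ a * W ^ k * W ^ b * (S ^ a * W ^ k)⁻¹ * (W ^ b)⁻¹ =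
    S ^ a * (W ^ k * W ^ b * (W ^ k)⁻¹) * (S ^ a)⁻¹ * (W ^ b)⁻¹ by group,
    (Commute.pow_pow_self W k b).eq, mul_inv_cancel_right, h2, mul_inv_cancel_right]

variable {X : Type*} [Group X] [Finite X] {n : ℕ}
variable (hX : Nat.card X = p ^ n) (hc : Group.nilpotencyClass X = n - 1)
variable {H : Type*} [Group H] [Finite H] {V : Type*} [AddCommGroup V] [Module (ZMod p) V]
variable {ρ : H →* Module.End (ZMod p) V} {T : Sylow p H} {π : X →* H} {mk : X → V} {i m : ℕ}

include hX hc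

/-- No such data exist. -/
theorem deep_absurd (h4 : 4 ≤ n) (hp5 : 5 ≤ p) (hi : 2 ≤ i) (him : i < m) (hmn : m ≤ n)
    (hD : EssData X ρ T π mk i m) : False := by
  classical
  have hp2 : p ≠ 2 := by omega
  obtain ⟨s0, hs0⟩ := Blackburn20.exists_uniform' hX hc hp2 h4
  have hcard : ∀ l, 2 ≤ l → l < n → Nat.card (Gf X l) = p * Nat.card (Gf X (l + 1)) := fun l h1 h2 => by
    rw [S3806.card_gf hX hc (by omega) h1 (by omega),
      S3806.card_gf hX hc (by omega) (by omega) (by omega), ← pow_succ']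
    congr 1; omega
  have hone : ∀ {k : ℕ}, (1 : X) ∈ Gf X k := fun {k} => one_mem _
  have hmk1 : mk 1 = 0 := (hD.mk_zero 1 hone).2 hone
  have hmk_pow : ∀ a ∈ Gf X i, ∀ r : ℕ, mk (a ^ r) = (r : ZMod p) • mk a := by
    intro a ha r
    induction r with
    | zero => simp [hmk1]
    | succ r ih =>
      rw [pow_succ, hD.mk_mul _ (pow_mem ha r) _ ha, ih, Nat.cast_succ, add_smul, one_smul]
  have hmk_inv : ∀ a ∈ Gf X i, mk a⁻¹ = - mk a := fun a ha => by
    have h := hD.mk_mul _ ha _ (inv_mem ha)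
    rw [mul_inv_cancel, hmk1] at h
    exact (neg_eq_of_add_eq_zero_right h.symm).symm
  have hdown : ∀ {g a : X} {l : ℕ}, a ∈ Gf X l → ⁅g, a⁆ ∈ Gf X (l + 1) := fun {g a l} ha => by
    have := commutator_mem_Gf (i := 1) (j := l) (mem_top g) ha
    rwa [add_comm] at this
  have hGf : ∀ {k : ℕ} {a : X}, a ∈ Gf X (i + k) → a ∈ Gf X i := fun h =>
    Gf_antitone (by omega) h
  have hact : ∀ g : X, ∀ a ∈ Gf X i, ρ (π g) (mk a) - mk a = mk ⁅g, a⁆ := by
    intro g a ha
    rw [hD.act g a ha, show g * a * g⁻¹ = ⁅g, a⁆ * a by simp [commutatorElement_def],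
      hD.mk_mul _ (Gf_antitone (by omega) (hdown ha)) _ ha, add_sub_cancel_right]
  have hexact : ∀ l, 2 ≤ l → l + 2 ≤ n → ∀ a ∈ Gf X l, a ∉ Gf X (l + 1) →
      ⁅s0, a⁆ ∉ Gf X (l + 1 + 1) := by
    intro l h1 h2 a ha ha' h
    refine hs0.2 l h1 h2 (Blackburn20.mem_Ct_of_exact hX hc h1 (by omega) ha ha' ?_)
    rw [← commutatorElement_inv s0 a]
    exact inv_mem h
  -- the chain
  obtain ⟨a0, ha0, ha0'⟩ := SetLike.exists_of_lt (S3806.gf_lt hX hc (i := i) (by omega) (by omega))
  let c : ℕ → X := fun k => Nat.rec a0 (fun _ a => ⁅s0, a⁆) k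
  have hcs : ∀ k, c (k + 1) = ⁅s0, c k⁆ := fun k => rfl
  have hc_mem : ∀ k, c k ∈ Gf X (i + k) := by
    intro k
    induction k with
    | zero => exact ha0
    | succ k ih => rw [hcs, ← add_assoc]; exact hdown ih
  have hc_not : ∀ k, i + k + 1 ≤ n → c k ∉ Gf X (i + k + 1) := by
    intro k
    induction k with
    | zero => intro _; exact ha0'
    | succ k ih =>
      intro hk
      rw [hcs, ← add_assoc]
      exact hexact (i + k) (by omega) (by omega) _ (hc_mem k) (ih (by omega))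
  set d := m - i with hd
  set x := π s0 with hx
  set J := ρ x - 1 with hJ
  have hJmk : ∀ a ∈ Gf X i, J (mk a) = mk ⁅s0, a⁆ := fun a ha => hact s0 a ha
  have hJpow : ∀ k, (J ^ k) (mk a0) = mk (c k) := by
    intro k
    induction k with
    | zero => rfl
    | succ k ih => rw [pow_succ', Module.End.mul_apply, ih, hJmk _ (hGf (hc_mem k)), hcs]
  set v0 := mk a0 with hv0
  have hzero : ∀ {k : ℕ} {a : X}, d ≤ k → a ∈ Gf X (i + k) → mk a = 0 := fun hk ha =>
    (hD.mk_zero _ (hGf ha)).2 (Gf_antitone (by omega) ha)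
  have hL : ∀ e k, d ≤ k + e → ∀ a ∈ Gf X (i + k),
      mk a ∈ Vk J k ∧ mk a ∈ Submodule.span (ZMod p) (Set.range fun q : Fin d => (J ^ (q : ℕ)) v0) := by
    intro e
    induction e with
    | zero =>
      intro k hk a ha
      rw [hzero (by omega) ha]
      exact ⟨Submodule.zero_mem _, Submodule.zero_mem _⟩
    | succ e ih =>
      intro k hk a ha
      by_cases hkd : d ≤ k
      · rw [hzero hkd ha]
        exact ⟨Submodule.zero_mem _, Submodule.zero_mem _⟩
      obtain ⟨r, b, hb, rfl⟩ := exists_pow_mul (Gf_antitone (Nat.le_succ _))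
        (hcard (i + k) (by omega) (by omega)) (hc_mem k) (hc_not k (by omega)) ha
      obtain ⟨h1, h2⟩ := ih (k + 1) (by omega) b hb
      rw [hD.mk_mul _ (pow_mem (hGf (hc_mem k)) r) _ (Gf_antitone (by omega) hb),
        hmk_pow _ (hGf (hc_mem k)), ← hJpow]
      exact ⟨Submodule.add_mem _ (Submodule.smul_mem _ _ (pow_mem k v0)) (Vk_anti (by omega) h1),
        Submodule.add_mem _ (Submodule.smul_mem _ _
          (Submodule.subset_span ⟨⟨k, by omega⟩, rfl⟩)) h2⟩
  have hup : ∀ {k : ℕ} {a : X}, a ∈ Gf X (i + k) → mk a ∈ Vk J k := fun {k a} ha =>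
    (hL d k (by omega) a ha).1
  have hdownV : ∀ k, ∀ v ∈ Vk J k, ∃ a ∈ Gf X (i + k), mk a = v := by
    intro k
    induction k with
    | zero => intro v _; exact hD.mk_surj v
    | succ k ih =>
      rintro _ ⟨u, rfl⟩
      obtain ⟨a, ha, hav⟩ := ih _ (pow_mem k u)
      refine ⟨⁅s0, a⁆, by rw [← add_assoc]; exact hdown ha, ?_⟩
      rw [← hJmk a (hGf ha), hav, pow_succ', Module.End.mul_apply]
  have hd1 : 1 ≤ d := by omega
  have hcyc : IsCyc J v0 d := by
    refine ⟨LinearMap.ext fun u => ?_, fun h => ?_, fun u => ?_⟩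
    · obtain ⟨a, ha, hav⟩ := hdownV d _ (pow_mem d u)
      rw [← hav, hzero le_rfl ha]; rfl
    · rw [hJpow, hD.mk_zero _ (hGf (hc_mem _))] at h
      exact hc_not (d - 1) (by omega) (Gf_antitone (by omega) h)
    · obtain ⟨a, ha, rfl⟩ := hD.mk_surj u
      obtain ⟨f, hf⟩ := (Submodule.mem_span_range_iff_exists_fun (R := ZMod p)).1
        (hL d 0 (by omega) a ha).2
      refine ⟨fun k => if h : k < d then f ⟨k, h⟩ else 0, ?_⟩
      rw [Finset.sum_range, ← hf]
      exact Finset.sum_congr rfl fun q _ => by simp only [dif_pos q.2]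
  have hTmem : ∀ t ∈ (T : Subgroup H), ∃ g, π g = t := fun t ht =>
    MonoidHom.mem_range.1 (hD.range_eq.ge ht)
  have hπT : ∀ g, π g ∈ (T : Subgroup H) := fun g => hD.range_eq.le ⟨g, rfl⟩
  have hker : ∀ {g : X}, π g = 1 ↔ g ∈ Gf X i := fun {g} => by
    rw [← MonoidHom.mem_ker, hD.ker_eq]
  have hmove : ∀ t ∈ (T : Subgroup H), Moves J (ρ t) 1 := by
    intro t ht j v hv
    obtain ⟨g, rfl⟩ := hTmem t ht
    obtain ⟨a, ha, rfl⟩ := hdownV j v hv
    rw [hact g a (hGf ha)]
    exact hup (by rw [← add_assoc]; exact hdown ha)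
  have hJ1 : J v0 ∈ Vk J 1 := by
    have := J_mem (mem_Vk_zero (J := J) v0)
    rwa [zero_add] at this
  -- powers of `x` to first order
  have hxr : ∀ (r k : ℕ) (v : V), v ∈ Vk J k →
      ρ (x ^ r) v - v - (r : ZMod p) • J v ∈ Vk J (k + 2) := by
    intro r
    induction r with
    | zero => intro k v _; simp
    | succ r ih =>
      intro k v hv
      have h1 := ih k v hv
      have h2 := hmove _ (pow_mem (hπT s0) r) (k + 1) _ (J_mem hv)
      have := Submodule.add_mem _ h1 (Vk_anti (show k + 2 ≤ k + 1 + 1 by omega) h2)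
      rw [show ρ (x ^ (r + 1)) v = ρ (x ^ r) (J v) + ρ (x ^ r) v by
        rw [pow_succ, map_mul, Module.End.mul_apply, ← map_add]
        congr 1
        show ρ x v = ρ x v - v + v
        rw [sub_add_cancel], Nat.cast_succ, add_smul, one_smul]
      convert this using 1
      abel
  -- `d ≥ 3`
  have hTcard : Nat.card (T : Subgroup H) = p ^ i := by
    rw [← hD.range_eq, ← index_ker, hD.ker_eq]
    have h1 := card_mul_index (Gf X i)
    rw [S3806.card_gf hX hc (by omega) hi (by omega), hX,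
      show p ^ n = p ^ (n - i) * p ^ i by rw [← pow_add]; congr 1; omega] at h1
    exact Nat.eq_of_mul_eq_mul_left (pow_pos hp.out.pos _) h1
  have hd3 : 3 ≤ d := by
    by_contra hd3
    let φ : ↥(T : Subgroup H) → ZMod p := fun t =>
      (decomp hcyc (show ρ (t : H) v0 - v0 ∈ Vk J 1 by
        have := hmove _ t.2 0 v0 (mem_Vk_zero v0); rwa [zero_add] at this)).choose
    have hφ : ∀ t : ↥(T : Subgroup H), ρ (t : H) v0 - v0 - φ t • (J ^ 1) v0 ∈ Vk J 2 := fun t =>
      (decomp hcyc (show ρ (t : H) v0 - v0 ∈ Vk J 1 by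
        have := hmove _ t.2 0 v0 (mem_Vk_zero v0); rwa [zero_add] at this)).choose_spec
    have hinj : Function.Injective φ := by
      intro t u htu
      refine Subtype.ext (hD.inj ?_)
      have hcom : ∀ t : ↥(T : Subgroup H), Commute (ρ (t : H)) J := by
        intro t
        refine LinearMap.ext fun v => ?_
        have h1 := hmove _ t.2 1 (J v) (by
          have := J_mem (mem_Vk_zero (J := J) v); rwa [zero_add] at this)
        have h2 : ρ (t : H) v - v ∈ Vk J 1 := by
          have := hmove _ t.2 0 v (mem_Vk_zero v); rwa [zero_add] at this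
        have h3 := J_mem h2
        rw [map_sub] at h3
        show ρ (t : H) (J v) = J (ρ (t : H) v)
        rw [sub_eq_zero.1 (eq_zero_of_mem hcyc (by omega) h1),
          sub_eq_zero.1 (eq_zero_of_mem hcyc (by omega) h3)]
      refine ext_of_commute hcyc (hcom t) (hcom u) ?_
      have h := Submodule.sub_mem _ (hφ t) (hφ u)
      rw [htu, sub_sub_sub_cancel_right, sub_sub_sub_cancel_right] at h
      exact sub_eq_zero.1 (eq_zero_of_mem hcyc (by omega) h)
    have h1 := Nat.card_le_card_of_injective φ hinj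
    rw [hTcard, Nat.card_zmod] at h1
    have h2 : p * 2 ≤ p ^ i := by
      refine le_trans ?_ (Nat.pow_le_pow_right hp.out.pos hi)
      rw [sq]
      exact Nat.mul_le_mul le_rfl hp.out.two_le
    omega
  have hin : i + 3 ≤ n := by omega
  have hdp : d < p := by
    by_contra hdp
    exact (Blackburn20.pow_climb hX hc hp2 h4 hs0 hi ha0).2 ha0' (by omega)
      (Gf_antitone (by omega) (hD.pow_mem a0 ha0))
  have hlow : ∀ l, 2 ≤ l → l + 3 ≤ n → Ct X l = Ct X 2 := fun l h1 h2 =>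
    MaxClassDegree94.Ct_low hp2 n X hX hc l h1 h2
  have hC2card : Nat.card X = p * Nat.card (Ct X 2) := by
    rw [← card_mul_index (Ct X 2), Blackburn20.index_Ct hX hc le_rfl (by omega), mul_comm]
  have hs0C : s0 ∉ Ct X 2 := hs0.2 2 le_rfl (by omega)
  have hC2n : (Ct X 2).Normal :=
    PGroupsBasic.normal_of_index_eq (IsPGroup.of_card hX)
      (Blackburn20.index_Ct hX hc le_rfl (by omega))
  have hsplit : ∀ g : X, ∃ r : ℕ, ∃ u ∈ Ct X 2, g = s0 ^ r * u := fun g => by
    haveI := hC2n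
    refine exists_pow_mul (p := p) (A := ⊤) le_top ?_ (mem_top s0) hs0C (mem_top g)
    rw [card_top]; exact hC2card
  have hCtstep : ∀ u ∈ Ct X 2, ∀ k, k + 3 ≤ d → ∀ a ∈ Gf X (i + k),
      mk ⁅u, a⁆ ∈ Vk J (k + 2) := by
    intro u hu k hk a ha
    have h1 : ⁅a, u⁆ ∈ Gf X (i + k + 2) := mem_Ct.mp (by rw [hlow (i + k) (by omega) (by omega)]; exact hu) a ha
    refine hup ?_
    rw [← commutatorElement_inv a u, ← add_assoc]
    exact inv_mem h1
  -- the central element
  obtain ⟨w, hw, hw', hwC⟩ : ∃ w, w ∈ Gf X (i - 1) ∧ w ∉ Gf X i ∧ w ∈ Ct X 2 := by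
    rcases hi.eq_or_lt with rfl | hi3
    · obtain ⟨a, ha, ha'⟩ := MaxClassDegree94.exists_mem_Ct_two hX hc h4
      exact ⟨a, mem_top a, ha', ha⟩
    · obtain ⟨a, ha, ha'⟩ := SetLike.exists_of_lt (S3806.gf_lt hX hc (i := i - 1) (by omega) (by omega))
      refine ⟨a, ha, ?_, Blackburn20.gf_two_le_Ct 2 (Gf_antitone (by omega) ha)⟩
      rwa [show i - 1 + 1 = i by omega] at ha'
  set y := π w with hy
  have hwc : ∀ g : X, ⁅g, w⁆ ∈ Gf X i := fun g => by
    have := hdown (g := g) hw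
    rwa [show i - 1 + 1 = i by omega] at this
  have hyc : ∀ t ∈ (T : Subgroup H), Commute t y := by
    intro t ht
    obtain ⟨g, rfl⟩ := hTmem t ht
    refine commutatorElement_eq_one_iff_mul_comm.1 ?_
    rw [hy, ← map_commutatorElement, hker]
    exact hwc g
  have hy1 : y ≠ 1 := fun h => hw' (hker.1 h)
  have hYJ : Commute (ρ y - 1) J :=
    (((hyc x (hπT s0)).symm.map ρ).sub_left (Commute.one_left _)).sub_right (Commute.one_right _)
  have hY0 : (ρ y - 1) v0 ≠ 0 := fun h => hy1 (hD.inj (by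
    have := ext_of_commute hcyc hYJ (Commute.zero_left J) (by rw [h, LinearMap.zero_apply])
    rw [sub_eq_zero] at this
    rw [this, map_one]))
  have hex : ∃ k, (ρ y - 1) v0 ∉ Vk J (k + 1) :=
    ⟨d, fun h => hY0 (eq_zero_of_mem hcyc (by omega) h)⟩
  set s := Nat.find hex with hs
  have hsspec : (ρ y - 1) v0 ∉ Vk J (s + 1) := Nat.find_spec hex
  have hsmem : (ρ y - 1) v0 ∈ Vk J s := by
    rcases Nat.eq_zero_or_pos s with h | h
    · rw [h]; exact mem_Vk_zero _
    · have := not_not.1 (Nat.find_min hex (show s - 1 < s by omega))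
      rwa [Nat.sub_add_cancel h] at this
  obtain ⟨c', hc'⟩ := decomp hcyc hsmem
  have hc'0 : c' ≠ 0 := fun h => hsspec (by rwa [h, zero_smul, sub_zero] at hc')
  have hY2 : (ρ y - 1) v0 ∈ Vk J 2 := by
    show ρ (π w) (mk a0) - mk a0 ∈ _
    rw [hact w a0 ha0]
    exact hCtstep w hwC 0 (by omega) a0 ha0
  have hs2 : 2 ≤ s := by
    by_contra h
    exact hsspec (Vk_anti (show s + 1 ≤ 2 by omega) hY2)
  have hsd : s < d := by
    by_contra h
    exact hY0 (eq_zero_of_mem hcyc (not_lt.1 h) hsmem)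
  have hstep : ∀ t ∈ (T : Subgroup H), ∃ a : ZMod p, ∀ k, k + 3 ≤ d →
      ρ t ((J ^ k) v0) - (J ^ k) v0 - a • (J ^ (k + 1)) v0 ∈ Vk J (k + 2) := by
    intro t ht
    obtain ⟨g, rfl⟩ := hTmem t ht
    obtain ⟨r, u, hu, rfl⟩ := hsplit g
    refine ⟨(r : ZMod p), fun k hk => ?_⟩
    have h1 : ρ (π u) ((J ^ k) v0) - (J ^ k) v0 ∈ Vk J (k + 2) := by
      rw [hJpow, hact u _ (hGf (hc_mem k))]
      exact hCtstep u hu k hk _ (hc_mem k)
    have h2 := (hmove _ (pow_mem (hπT s0) r)).mem h1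
    have h3 := hxr r k _ (pow_mem k v0)
    rw [map_mul, map_pow, map_mul ρ, Module.End.mul_apply, pow_succ' J, Module.End.mul_apply, ← hx]
    have := Submodule.add_mem _ h2 h3
    rw [map_sub] at this
    convert this using 1
    abel
  have hcent : ∀ t ∈ (T : Subgroup H), Commute t x → ∃ a b : ℕ, t = x ^ a * y ^ b := by
    intro t ht htx
    obtain ⟨g, rfl⟩ := hTmem t ht
    obtain ⟨r, u, hu, rfl⟩ := hsplit g
    have hux : Commute (π u) x := by
      have h := ((Commute.refl x).pow_left r).inv_left.mul_left htx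
      rwa [map_mul, map_pow, ← hx, inv_mul_cancel_left] at h
    have husi : ⁅u, s0⁆ ∈ Gf X i := by
      rw [← hker, map_commutatorElement, commutatorElement_eq_one_iff_mul_comm]
      exact hux.eq
    suffices hh : ∃ e : ℕ, ∃ b ∈ Gf X i, u = w ^ e * b by
      obtain ⟨e, b, hb, rfl⟩ := hh
      exact ⟨r, e, by rw [map_mul, map_pow, map_mul, map_pow, hker.2 hb, mul_one]⟩
    rcases hi.eq_or_lt with rfl | hi3
    · refine exists_pow_mul (p := p) (A := Ct X 2) (Blackburn20.gf_two_le_Ct 2) ?_ hwC hw' hu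
      have h1 := hC2card
      rw [hX, show p ^ n = p * p ^ (n - 1) by rw [← pow_succ']; congr 1; omega] at h1
      rw [← Nat.eq_of_mul_eq_mul_left hp.out.pos h1,
        S3806.card_gf hX hc (by omega) le_rfl (by omega), ← pow_succ']
      congr 1; omega
    · have hu2 : u ∈ Gf X 2 := by
        by_contra hu2
        have hgen := Blackburn20.gen_of_notMem hX hc (by omega) hu2 (a := s0) fun h => hs0C
          (sup_le (Subgroup.zpowers_le.2 hu) (Blackburn20.gf_two_le_Ct 2) h)
        exact Blackburn20.commutator_notMem hX hc h4 hgen (Gf_antitone (by omega) husi)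
      have hlev : ∀ l, l + 2 ≤ i - 1 → u ∈ Gf X (l + 2) := by
        intro l
        induction l with
        | zero => exact fun _ => hu2
        | succ l ih =>
          intro hl
          by_contra hne
          refine hexact (l + 2) (by omega) (by omega) u (ih (by omega)) hne ?_
          rw [← commutatorElement_inv u s0]
          exact inv_mem (Gf_antitone (by omega) husi)
      have hu3 : u ∈ Gf X (i - 1) := by
        have := hlev (i - 3) (by omega)
        rwa [show i - 3 + 2 = i - 1 by omega] at this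
      refine exists_pow_mul (p := p) (Gf_antitone (Nat.sub_le i 1)) ?_ hw hw' hu3
      have := hcard (i - 1) (by omega) (by omega)
      rwa [show i - 1 + 1 = i by omega] at this
  have hweight : ∀ n' : H, (∀ t ∈ (T : Subgroup H), n' * t * n'⁻¹ ∈ (T : Subgroup H)) →
      (∀ t ∈ (T : Subgroup H), ∃ a b : ℕ, t = x ^ a * y ^ b) →
      ∀ (μ : ZMod p) (a b k : ℕ), ρ n' v0 - μ • v0 ∈ Vk J 1 →
        n' * x * n'⁻¹ = x ^ a * y ^ k → n' * y * n'⁻¹ = y ^ b →
        μ = (a : ZMod p) * (b : ZMod p) := by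
    intro n' hn' hW μ a b k hμ hak hb
    have hpT : ∀ g : X, (π g) ^ p = 1 := by
      intro g
      haveI : Nontrivial V := ⟨_, _, hcyc.top⟩
      haveI : CharP (Module.End (ZMod p) V) p :=
        charP_of_injective_algebraMap (algebraMap (ZMod p) _).injective p
      apply hD.inj
      have key : ∀ e j, ∀ v ∈ Vk J j, ((ρ (π g) - 1) ^ e) v ∈ Vk J (j + e) := by
        intro e
        induction e with
        | zero => intro j v hv; simpa using hv
        | succ e ih =>
          intro j v hv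
          rw [pow_succ, Module.End.mul_apply, show j + (e + 1) = j + 1 + e by omega]
          exact ih _ _ (hmove _ (hπT g) j v hv)
      have h0 : (ρ (π g) - 1) ^ p = 0 := LinearMap.ext fun v =>
        eq_zero_of_mem hcyc (by omega) (key p 0 v (mem_Vk_zero v))
      rw [sub_pow_char_of_commute (p := p) (Commute.one_right _), one_pow, sub_eq_zero] at h0
      rw [map_pow, h0, map_one]
    have hi2 : i = 2 := by
      let φ : Fin p × Fin p → ↥(T : Subgroup H) := fun q =>
        ⟨x ^ (q.1 : ℕ) * y ^ (q.2 : ℕ), mul_mem (pow_mem (hπT s0) _) (pow_mem (hπT w) _)⟩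
      have hsur : Function.Surjective φ := by
        intro t
        obtain ⟨a, b, hab⟩ := hW _ t.2
        refine ⟨(⟨a % p, Nat.mod_lt _ hp.out.pos⟩, ⟨b % p, Nat.mod_lt _ hp.out.pos⟩), Subtype.ext ?_⟩
        show x ^ (a % p) * y ^ (b % p) = (t : H)
        rw [← pow_eq_pow_mod a (hpT s0), ← pow_eq_pow_mod b (hpT w), hab]
      have h := Nat.card_le_card_of_surjective φ hsur
      rw [hTcard, Nat.card_prod, Nat.card_fin, ← sq] at h
      have := (Nat.pow_le_pow_iff_right hp.out.one_lt).1 h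
      omega
    subst hi2
    obtain ⟨f, hf, hf'⟩ := hD.ext n' hn'
    have hfs : (s0 ^ a * w ^ k)⁻¹ * f s0 ∈ Gf X 2 := hker.1 (by
      rw [map_mul, map_inv, map_mul, map_pow, map_pow, hf, ← hx, ← hy, hak, inv_mul_cancel])
    have hfw : (w ^ b)⁻¹ * f w ∈ Gf X 2 := hker.1 (by
      rw [map_mul, map_inv, map_pow, hf, ← hy, hb, inv_mul_cancel])
    have hfGf : ∀ {l : ℕ} {z : X}, z ∈ Gf X l → f z ∈ Gf X l := fun {l z} hz => by
      have h : ((⊤ : Subgroup X).lowerCentralSeries (l - 1)).map f ≤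
          (⊤ : Subgroup X).lowerCentralSeries (l - 1) := by
        rw [Subgroup.map_lowerCentralSeries]
        exact Subgroup.lowerCentralSeries_mono _ le_top
      exact h ⟨z, hz, rfl⟩
    obtain ⟨c1, hc1⟩ : ∃ c1, c1 = ⁅s0, w⁆ := ⟨_, rfl⟩
    have hc12 : c1 ∈ Gf X 2 := hc1 ▸ hwc s0
    have hgen : closure ({s0, w} : Set X) = ⊤ := by
      rw [Set.pair_comm]
      exact Blackburn20.gen_of_notMem hX hc (by omega) hw' fun h => hs0C
        (sup_le (Subgroup.zpowers_le.2 hwC) (Blackburn20.gf_two_le_Ct 2) h)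
    have hc13 : c1 ∉ Gf X 3 := hc1 ▸ Blackburn20.commutator_notMem hX hc h4 hgen
    let q := QuotientGroup.mk' (Gf X 3)
    have hqc : ∀ {z : X}, z ∈ Gf X 2 → ∀ u, Commute (q z) u := fun {z} hz u => by
      obtain ⟨u, rfl⟩ := QuotientGroup.mk'_surjective _ u
      exact (S3806.comm_mem_iff _ _ _).1 (commutator_mem_Gf (i := 2) (j := 1) hz (mem_top u))
    have hqf : q (f c1) = q (c1 ^ (a * b)) := by
      have e1 : f s0 = s0 ^ a * w ^ k * ((s0 ^ a * w ^ k)⁻¹ * f s0) := (mul_inv_cancel_left _ _).symm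
      have e2 : f w = w ^ b * ((w ^ b)⁻¹ * f w) := (mul_inv_cancel_left _ _).symm
      rw [hc1, map_commutatorElement, e1, e2, map_commutatorElement, map_mul q (s0 ^ a * w ^ k),
        map_mul q (s0 ^ a), map_mul q (w ^ b), map_pow, map_pow, map_pow, map_pow, map_commutatorElement]
      exact comm_central (map_commutatorElement q s0 w ▸ hqc (hwc s0) _)
        (map_commutatorElement q s0 w ▸ hqc (hwc s0) _) (hqc hfs) (hqc hfw) a b k
    have hmem : (c1 ^ (a * b))⁻¹ * f c1 ∈ Gf X 3 := QuotientGroup.eq.1 hqf.symm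
    have h1 : ρ n' (mk c1) - ((a : ZMod p) * b) • mk c1 ∈ Vk J 1 := by
      have e : f c1 = c1 ^ (a * b) * ((c1 ^ (a * b))⁻¹ * f c1) := (mul_inv_cancel_left _ _).symm
      rw [hf' c1 hc12, e, hD.mk_mul _ (pow_mem hc12 _) _ (Gf_antitone (by omega) hmem),
        hmk_pow c1 hc12, Nat.cast_mul, add_sub_cancel_left]
      exact hup hmem
    obtain ⟨r, hr⟩ := decomp hcyc (mem_Vk_zero (mk c1))
    rw [pow_zero, Module.End.one_apply] at hr
    have hr0 : r ≠ 0 := by
      intro h
      rw [h, zero_smul, sub_zero] at hr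
      obtain ⟨z, hz, hzc⟩ := hdownV 1 _ hr
      refine hc13 ?_
      have h' : z⁻¹ * c1 ∈ Gf X m := (hD.mk_zero _ (mul_mem (inv_mem (hGf hz)) hc12)).1 (by
        rw [hD.mk_mul _ (inv_mem (hGf hz)) _ hc12, hmk_inv _ (hGf hz), hzc, neg_add_cancel])
      have := mul_mem hz (Gf_antitone (show 2 + 1 ≤ m by omega) h')
      rwa [mul_inv_cancel_left] at this
    have hV1 : ∀ v ∈ Vk J 1, ρ n' v ∈ Vk J 1 := by
      intro v hv
      obtain ⟨z, hz, rfl⟩ := hdownV 1 v hv
      rw [hf' z (hGf hz)]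
      exact hup (hfGf hz)
    have h2 := hV1 _ hr
    rw [map_sub, map_smul] at h2
    have h3 := Submodule.smul_mem _ r hμ
    rw [smul_sub, smul_smul] at h3
    have h4' := Submodule.smul_mem _ ((a : ZMod p) * b) hr
    rw [smul_sub, smul_smul] at h4'
    have h5 := Submodule.sub_mem _ (Submodule.add_mem _ h2 h3) (Submodule.add_mem _ h1 h4')
    rw [sub_add_sub_cancel, sub_add_sub_cancel, sub_sub_sub_cancel_left, ← sub_smul] at h5
    have := coeff_zero hcyc (k := 0) (by omega) (by rwa [pow_zero, Module.End.one_apply])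
    exact (mul_right_cancel₀ hr0 (by linear_combination this)).symm
  exact FlagDimThree1.setup_absurd (ρ := ρ) (T := T) (x := x) (y := y) (v0 := v0) (d := d) (s := s)
    { inj := hD.inj
      core := hD.core
      xT := hπT s0
      yT := hπT w
      y_ne := hy1
      cyc := hcyc
      d_lt := hdp
      d_ge := hd3
      move := hmove
      step := hstep
      ycomm := hyc
      cent := hcent
      shift := ⟨c', hc'0, hc'⟩
      s_ge := hs2
      s_lt := hsd
      weight := hweight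
      embedded := hD.embedded } hp5

end Cfsg.Agent.MaxClassFlagData1
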