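import Mathlib
import Cfsg.Prelude.Def_FusionSystem
import Cfsg.Agent.Lib.MaxClassFlagData1
import Cfsg.Agent.Lib.FusionFlag94
import Cfsg.Agent.Lib.LocPEmb56

/-!
A normal essential subgroup of a group of maximal class has index `p`.
-/

set_option autoImplicit false
set_option linter.unusedSectionVars false

namespace Cfsg.Agent.MaxClassEssDeep1

open scoped commutatorElement
open Cfsg Cfsg.FusionSystem Cfsg.Agent.FusionSysBasic Cfsg.Agent.FusionSysSaturated
  Cfsg.Agent.FusionSysNormal Cfsg.Agent.FusionSysChain Cfsg.Agent.FusionSysAlperin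
open PGroupsHallPetrescu (Gf Gf_antitone commutator_mem_Gf)
open Blackburn20 (Ct mem_Ct IsUniform)

section Groups

variable {X : Type*} [Group X] [Finite X] {p n : ℕ} [hp : Fact p.Prime]
  (hX : Nat.card X = p ^ n) (hc : Group.nilpotencyClass X = n - 1) (h4 : 4 ≤ n) (hp2 : p ≠ 2)

include hX hc h4 hp2

theorem normal_eq_gf (N : Subgroup X) [hN : N.Normal] (hN2 : N ≤ Gf X 2) :
    ∃ j, 2 ≤ j ∧ j ≤ n ∧ N = Gf X j := by
  classical
  obtain ⟨s, hs⟩ := Blackburn20.exists_uniform' hX hc hp2 h4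
  have hex : ∃ j, ¬ N ≤ Gf X (j + 1) ∨ n ≤ j := ⟨n, Or.inr le_rfl⟩
  set j := Nat.find hex with hj
  have hle : j ≤ n := Nat.find_min' hex (Or.inr le_rfl)
  have hNj : N ≤ Gf X j := by
    rcases Nat.eq_zero_or_pos j with h | h
    · rw [h]
      exact hN2.trans (Gf_antitone (Nat.zero_le 2))
    · have := Nat.find_min hex (show j - 1 < j by omega)
      push Not at this
      rw [Nat.sub_add_cancel h] at this
      exact this.1
  by_cases hjn : n ≤ j
  · refine ⟨n, by omega, le_rfl, le_antisymm (hNj.trans (Gf_antitone hjn)) ?_⟩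
    rw [S3806.gf_bot hX hc le_rfl]
    exact bot_le
  have hnot : ¬ N ≤ Gf X (j + 1) := (Nat.find_spec hex).resolve_right hjn
  have h2j : 2 ≤ j := by
    by_contra h
    exact hnot (hN2.trans (Gf_antitone (by omega)))
  refine ⟨j, h2j, hle, le_antisymm hNj ?_⟩
  have hex' : ∀ e k, j ≤ k → n ≤ k + e →
      (k + 1 ≤ n → ∃ a ∈ N, a ∈ Gf X k ∧ a ∉ Gf X (k + 1)) → Gf X k ≤ N := by
    intro e
    induction e with
    | zero =>
      intro k _ hk _
      rw [S3806.gf_bot hX hc (by omega)]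
      exact bot_le
    | succ e ih =>
      intro k hjk hk ha
      by_cases hkn : n ≤ k
      · rw [S3806.gf_bot hX hc hkn]
        exact bot_le
      obtain ⟨a, haN, hak, hak'⟩ := ha (by omega)
      refine S3806.eq_of_mem_of_notMem hX hc (by omega) (by omega) (by omega) ?_ haN hak hak'
      refine ih (k + 1) (by omega) (by omega) fun hk2 => ⟨⁅a, s⁆, ?_, commutator_mem_Gf (j := 1) hak
        (Subgroup.mem_top s), fun h => hs.2 k (by omega) (by omega)
          (Blackburn20.mem_Ct_of_exact hX hc (by omega) (by omega) hak hak' h)⟩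
      rw [show ⁅a, s⁆ = a * (s * a⁻¹ * s⁻¹) by simp [commutatorElement_def, mul_assoc]]
      exact mul_mem haN (hN.conj_mem _ (inv_mem haN) s)
  refine hex' n j le_rfl (by omega) fun _ => ?_
  obtain ⟨a, haN, ha⟩ := SetLike.not_le_iff_exists.1 hnot
  exact ⟨a, haN, hNj haN, ha⟩

/-- A normal subgroup of index at least `p ^ 2` lies in `Gf X 2`. -/
theorem le_gf_two (N : Subgroup X) [hN : N.Normal] (hidx : p ^ 2 ≤ N.index) : N ≤ Gf X 2 := by
  classical
  by_contra hnle
  obtain ⟨e, heN, he⟩ := SetLike.not_le_iff_exists.1 hnle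
  obtain ⟨K, hK⟩ : ∃ K, K = Subgroup.zpowers e ⊔ Gf X 2 := ⟨_, rfl⟩
  have h2 : Gf X 2 = _root_.commutator X := Subgroup.top_lowerCentralSeries_one
  have hne : K ≠ ⊤ := by
    intro h
    -- `X` would be cyclic
    have hgen : Subgroup.zpowers e = ⊤ := by
      refine frattini_nongenerating (top_le_iff.mp (le_trans ?_ (sup_le_sup_left
        (h2 ▸ PGroupsBasic.commutator_le_frattini (IsPGroup.of_card hX) : Gf X 2 ≤ frattini X) _)))
      rw [← hK, h]
    refine S3806.gf_ne_bot hX hc (i := 2) (by omega) (by omega) ?_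
    rw [eq_bot_iff, h2, _root_.commutator_def, Subgroup.commutator_le]
    intro a _ b _
    obtain ⟨i, rfl⟩ := Subgroup.mem_zpowers_iff.1 (hgen.ge (Subgroup.mem_top a))
    obtain ⟨j, rfl⟩ := Subgroup.mem_zpowers_iff.1 (hgen.ge (Subgroup.mem_top b))
    refine Subgroup.mem_bot.2 (commutatorElement_eq_one_iff_mul_comm.2 ?_)
    rw [← zpow_add, ← zpow_add, add_comm]
  obtain ⟨a, -, ha⟩ := SetLike.exists_of_lt (lt_top_iff_ne_top.2 hne)
  rw [hK] at ha
  have hgen := Blackburn20.gen_of_notMem hX hc (by omega) he ha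
  have hcomm : ⁅e, a⁆ ∈ N := by
    rw [show ⁅e, a⁆ = e * (a * e⁻¹ * a⁻¹) by simp [commutatorElement_def, mul_assoc]]
    exact mul_mem heN (hN.conj_mem _ (inv_mem heN) a)
  have h3 : ⁅e, a⁆ ∉ Gf X 3 := Blackburn20.commutator_notMem hX hc h4 hgen
  obtain ⟨j, hj2, hjn, hj⟩ := normal_eq_gf hX hc h4 hp2 (N ⊓ Gf X 2) inf_le_right
  have hGN : Gf X 2 ≤ N := by
    have : j = 2 := by
      by_contra hne
      exact h3 (Gf_antitone (show 3 ≤ j by omega) (hj.le ⟨hcomm,
        commutator_mem_Gf (i := 1) (j := 1) (Subgroup.mem_top e) (Subgroup.mem_top a)⟩))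
    subst this
    exact hj.ge.trans inf_le_left
  have hlt : Gf X 2 < N := lt_of_le_of_ne hGN fun h => he (h ▸ heN)
  have h5 := Subgroup.card_mul_index (Gf X 2)
  rw [S3806.card_gf hX hc (by omega) le_rfl (by omega), hX,
    show p ^ n = p ^ (n - 2) * p ^ 2 by rw [← pow_add]; congr 1; omega] at h5
  have hidx2 := Nat.eq_of_mul_eq_mul_left (pow_pos hp.out.pos _) h5
  have := Subgroup.index_strictAnti hlt
  omega

end Groups

section Quot

variable {p : ℕ} [hp : Fact p.Prime]

universe u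

/-- The quotient by the Frattini subgroup as a vector space. -/
theorem exists_quot {K : Type u} [Group K] [Finite K] (hK : IsPGroup p K) :
    ∃ (V : Type u) (_ : AddCommGroup V) (_ : Module (ZMod p) V) (q : K → V),
      (∀ a b, q (a * b) = q a + q b) ∧ Function.Surjective q ∧
        ∀ a, q a = 0 ↔ a ∈ frattini K := by
  haveI : IsMulCommutative (K ⧸ frattini K) := ⟨⟨fun a b => by
    induction a using QuotientGroup.induction_on with
    | _ a =>
      induction b using QuotientGroup.induction_on with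
      | _ b =>
        refine QuotientGroup.eq.2 ?_
        rw [show (a * b)⁻¹ * (b * a) = ⁅b⁻¹, a⁻¹⁆ by simp [commutatorElement_def, mul_assoc]]
        exact PGroupsBasic.commutator_le_frattini hK
          (Subgroup.commutator_mem_commutator (Subgroup.mem_top _) (Subgroup.mem_top _))⟩⟩
  letI : CommGroup (K ⧸ frattini K) :=
    { (inferInstance : Group (K ⧸ frattini K)) with mul_comm := mul_comm' }
  refine ⟨Additive (K ⧸ frattini K), inferInstance, AddCommGroup.zmodModule fun v => ?_,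
    fun a => Additive.ofMul (a : K ⧸ frattini K), fun a b => rfl, fun v => ?_, fun a => ?_⟩
  · obtain ⟨a, ha⟩ := QuotientGroup.mk_surjective (Additive.toMul v)
    show Additive.ofMul ((Additive.toMul v) ^ p) = 0
    rw [← ha, ← QuotientGroup.mk_pow,
      (QuotientGroup.eq_one_iff _).2 (PGroupsBasic.pow_mem_frattini hK a)]
    rfl
  · obtain ⟨a, ha⟩ := QuotientGroup.mk_surjective (Additive.toMul v)
    exact ⟨a, congrArg Additive.ofMul ha⟩
  · exact QuotientGroup.eq_one_iff a

/-- Automorphisms act on such a quotient. -/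
theorem exists_act {K : Type*} [Group K] {V : Type*} [AddCommGroup V] [Module (ZMod p) V] (q : K → V)
    (hmul : ∀ a b, q (a * b) = q a + q b) (hsur : Function.Surjective q)
    (hker : ∀ (α : MulAut K) a, q a = 0 → q (α a) = 0) :
    ∃ act : MulAut K →* Module.End (ZMod p) V, ∀ α a, act α (q a) = q (α a) := by
  have h1 : q 1 = 0 := by simpa using hmul 1 1
  have hwell : ∀ (α : MulAut K) a b, q a = q b → q (α a) = q (α b) := by
    intro α a b hab
    have h2 : q (b⁻¹ * a) = 0 := by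
      have e := hmul b (b⁻¹ * a)
      rwa [mul_inv_cancel_left, hab, left_eq_add] at e
    have h3 := hmul (α b) (α (b⁻¹ * a))
    rw [hker α _ h2, add_zero, ← map_mul, mul_inv_cancel_left] at h3
    exact h3
  choose g hg using hsur
  let L : MulAut K → (V →+ V) := fun α => AddMonoidHom.mk' (fun v => q (α (g v))) fun v w => by
    rw [← hmul, ← map_mul]
    exact hwell α _ _ (by rw [hmul, hg, hg, hg])
  have hL : ∀ α a, L α (q a) = q (α a) := fun α a => hwell α _ _ (hg _)
  refine ⟨{ toFun := fun α => (L α).toZModLinearMap p, map_one' := ?_, map_mul' := ?_ }, hL⟩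
  · refine LinearMap.ext fun v => ?_
    obtain ⟨a, rfl⟩ : ∃ a, q a = v := ⟨g v, hg v⟩
    exact hL 1 a
  · intro α β
    refine LinearMap.ext fun v => ?_
    obtain ⟨a, rfl⟩ : ∃ a, q a = v := ⟨g v, hg v⟩
    show L (α * β) (q a) = L α (L β (q a))
    rw [hL, hL, hL]
    rfl

end Quot

variable {Ω : Type*} [Group Ω] {S : Subgroup Ω} [Finite S] {p : ℕ} [hp : Fact p.Prime]
  {n : ℕ} {F : FusionSystem S} {E : Subgroup Ω}

theorem not_index_ge (hS : IsPGroup p S) (hn : Nat.card S = p ^ n)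
    (hc : Group.nilpotencyClass S = n - 1) (h4 : 4 ≤ n) (hp5 : 5 ≤ p) (hF : F.IsSaturated p)
    (hE : F.IsEssential p E) (hEn : (E.subgroupOf S).Normal)
    (hidx : p ^ 2 ≤ (E.subgroupOf S).index) : False := by
  classical
  have hp2 : p ≠ 2 := by omega
  have hES : E ≤ S := hE.1.1
  haveI : Finite E := finite_of_le hES
  haveI := finite_autGroup (F := F) E
  haveI := hEn
  obtain ⟨i, hi2, hin, hEi⟩ :=
    normal_eq_gf hn hc h4 hp2 (E.subgroupOf S) (le_gf_two hn hc h4 hp2 _ hidx)
  have hmemE : ∀ {g : S}, (g : Ω) ∈ E ↔ g ∈ Gf S i := fun {g} => by rw [← hEi]; rfl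
  obtain ⟨hI, Me0, hMe0⟩ := hE.2.2
  haveI := hI
  set A := F.autGroup E
  set I := (Inn E).subgroupOf A
  have hnorm : S ≤ Subgroup.normalizer (E : Set Ω) := by
    intro g hg
    refine mem_normalizer_of_cj_le hES fun z hz => ?_
    exact hEn.conj_mem ⟨z, hES hz⟩ hz ⟨g, hg⟩
  -- the quotient of `E`
  set Φ := frattini E
  have hEp : IsPGroup p E := hS.to_le hES
  have hΦchar : ∀ (α : MulAut E), Φ ≤ Φ.comap α.toMonoidHom :=
    fun α => Subgroup.characteristic_iff_le_comap.1 inferInstance α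
  obtain ⟨V, iV, iM, q0, hqmul, hqsur, hqzero⟩ := exists_quot (p := p) hEp
  obtain ⟨act, hact⟩ := exists_act (p := p) q0 hqmul hqsur fun α a ha =>
    (hqzero _).2 (hΦchar α ((hqzero a).1 ha))
  have hq1 : q0 1 = 0 := (hqzero 1).2 (one_mem _)
  have hker : I ≤ (act.comp A.subtype).ker := by
    rintro ⟨α, hαA⟩ hα
    obtain ⟨e, rfl⟩ := hα
    rw [MonoidHom.mem_ker]
    refine LinearMap.ext fun v => ?_
    obtain ⟨a, rfl⟩ := hqsur v
    show act (MulAut.conj e) (q0 a) = q0 a
    have hinv : q0 e + q0 e⁻¹ = 0 := by rw [← hqmul, mul_inv_cancel, hq1]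
    rw [hact, MulAut.conj_apply, hqmul, hqmul, add_right_comm, hinv, zero_add]
  let ρ : (A ⧸ I) →* Module.End (ZMod p) V :=
    QuotientGroup.lift I (act.comp A.subtype) hker
  -- the image of `S`
  let πA : S →* A :=
    ((nHom S E).comp (Subgroup.inclusion (le_inf le_rfl hnorm : S ≤ S ⊓ Subgroup.normalizer (E : Set Ω)))).codRestrict
      A fun g => autInducedBy_le hES ((autInducedBy_eq_range S E).ge ⟨_, rfl⟩)
  have hπA : ∀ (g : S) {z : Ω}, z ∈ E → afun (πA g : MulAut E) z = cj (g : Ω) z :=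
    fun g z hz => afun_nHom _ hz
  let π : S →* (A ⧸ I) := (QuotientGroup.mk' I).comp πA
  obtain ⟨-, R, hR⟩ := fullyAutomized_of_fullyNormalized hS hF hE.2.1
  have hRrange : (R : Subgroup A) = πA.range := by
    rw [hR]
    ext ⟨α, hα⟩
    rw [Subgroup.mem_subgroupOf, autInducedBy_eq_range, MonoidHom.mem_range, MonoidHom.mem_range]
    constructor
    · rintro ⟨g, rfl⟩
      exact ⟨⟨g, g.2.1⟩, rfl⟩
    · rintro ⟨g, hg⟩
      exact ⟨⟨g, g.2, hnorm g.2⟩, congrArg Subtype.val hg⟩
  let T : Sylow p (A ⧸ I) := R.mapSurjective (QuotientGroup.mk'_surjective I)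
  have hTrange : π.range = (T : Subgroup (A ⧸ I)) := by
    show π.range = (R : Subgroup A).map (QuotientGroup.mk' I)
    rw [hRrange, MonoidHom.range_comp]
  have hπker : π.ker = Gf S i := by
    ext g
    rw [← hmemE, MonoidHom.mem_ker]
    show (QuotientGroup.mk' I) (πA g) = 1 ↔ _
    rw [QuotientGroup.mk'_apply, QuotientGroup.eq_one_iff]
    constructor
    · intro h
      obtain ⟨e, he⟩ := h
      have hc' : (e : Ω)⁻¹ * g ∈ centralizerIn S E := by
        rw [mem_centralizerIn]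
        refine ⟨mul_mem (inv_mem (hES e.2)) g.2, fun z hz => ?_⟩
        have h1 : cj (g : Ω) z = cj (e : Ω) z := by
          rw [← hπA g hz, show (πA g : MulAut E) = MulAut.conj e from he.symm, afun_apply _ hz]
          rfl
        simp only [cj_apply] at h1 ⊢
        rw [show (e : Ω)⁻¹ * g * z * ((e : Ω)⁻¹ * g)⁻¹ =
          (e : Ω)⁻¹ * ((g : Ω) * z * (g : Ω)⁻¹) * e by group, h1]
        group
      have hmem := hE.1.2 E ⟨E.subtype, (mem_autGroup hES).mp (one_mem A) |> fun ⟨φ, hφ, he'⟩ =>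
        (show φ = E.subtype from MonoidHom.ext fun z => by rw [he', afun_coe]; rfl) ▸ hφ,
        Subgroup.range_subtype E⟩ hc'
      have := mul_mem e.2 hmem
      rwa [mul_inv_cancel_left] at this
    · intro h
      exact ⟨⟨g, h⟩, afun_ext fun z hz => by
        show afun _ z = afun (πA g : MulAut E) z
        rw [hπA g hz, afun_apply _ hz]; rfl⟩
  -- the Frattini subgroup of `E` as a term
  let ι : E →* S := Subgroup.inclusion hES
  haveI hΦn : (Φ.map ι).Normal := by
    refine ⟨fun z hz g => ?_⟩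
    obtain ⟨a, ha, rfl⟩ := hz
    refine ⟨(πA g : MulAut E) a, hΦchar _ ha, Subtype.ext ?_⟩
    show ((πA g : MulAut E) a : Ω) = (g : Ω) * (a : Ω) * (g : Ω)⁻¹
    rw [← afun_coe, hπA g a.2, cj_apply]
  have hΦle : Φ.map ι ≤ Gf S i := by
    rintro _ ⟨a, -, rfl⟩
    exact hmemE.1 a.2
  obtain ⟨m, hm2, hmn, hm⟩ :=
    normal_eq_gf hn hc h4 hp2 (Φ.map ι) (hΦle.trans (Gf_antitone hi2))
  have hmemΦ : ∀ a : E, a ∈ Φ ↔ ι a ∈ Gf S m := fun a => by
    rw [← hm, Subgroup.mem_map_iff_mem (Subgroup.inclusion_injective hES)]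
  have hin' : i < n := by
    rcases hin.eq_or_lt with rfl | h
    swap
    · exact h
    exfalso
    have hbot : E = ⊥ := by
      rw [eq_bot_iff]
      intro z hz
      have := (hmemE (g := ⟨z, hES hz⟩)).1 hz
      rw [S3806.gf_bot hn hc le_rfl, Subgroup.mem_bot] at this
      exact Subgroup.mem_bot.2 (congrArg Subtype.val this)
    subst hbot
    have hcen := hE.1.2 ⊥ ⟨(⊥ : Subgroup Ω).subtype, (mem_autGroup hES).mp (one_mem A) |>
      fun ⟨φ, hφ, he'⟩ =>
        (show φ = (⊥ : Subgroup Ω).subtype from MonoidHom.ext fun z => by rw [he', afun_coe]; rfl) ▸ hφ,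
      Subgroup.range_subtype _⟩
    have hle : S ≤ (⊥ : Subgroup Ω) := fun g hg => hcen (mem_centralizerIn.2 ⟨hg, fun z hz => by
      rw [Subgroup.mem_bot.1 hz, cj_apply]; simp⟩)
    have : Nat.card S = 1 := by
      rw [le_bot_iff.1 hle, Subgroup.card_bot]
    rw [hn] at this
    exact absurd this (Nat.one_lt_pow (by omega) hp.out.one_lt).ne'
  have hne : Nontrivial E := by
    obtain ⟨a, ha, ha'⟩ := SetLike.exists_of_lt (S3806.gf_lt hn hc (i := i) (by omega) (by omega))
    refine ⟨⟨(a : Ω), hmemE.2 ha⟩, 1, fun h => ha' ?_⟩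
    have h' : (a : Ω) = 1 := congrArg Subtype.val h
    rw [show a = 1 from Subtype.ext h']
    exact one_mem _
  have him : i < m := by
    by_contra h
    refine PGroupsBasic.frattini_ne_top (G := E) (eq_top_iff.2 fun a _ => (hmemΦ a).2 ?_)
    exact Gf_antitone (not_lt.1 h) (hmemE.1 a.2)
  let mk : S → V := fun g => if h : (g : Ω) ∈ E then q0 ⟨g, h⟩ else 0
  have hmk : ∀ (g : S) (h : (g : Ω) ∈ E), mk g = q0 ⟨g, h⟩ := fun g h => dif_pos h
  have hcore : pCore p (A ⧸ I) = ⊥ := by
    rw [eq_bot_iff]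
    refine sSup_le fun N ⟨hNn, hNp⟩ => ?_
    haveI := hNn
    have hKp : IsPGroup p (N.comap (QuotientGroup.mk' I)) := by
      refine hNp.comap_of_ker_isPGroup _ ?_
      rw [QuotientGroup.ker_mk']
      have hInn : IsPGroup p (Inn E) := hEp.of_surjective (MonoidHom.rangeRestrict MulAut.conj)
        (MonoidHom.rangeRestrict_surjective _)
      exact hInn.comap_subtype
    have h1 : N.comap (QuotientGroup.mk' I) ≤ I := by
      intro α hα
      have h2 : (α : MulAut E) ∈ (pCore p A).map A.subtype :=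
        ⟨α, (le_sSup (show N.comap (QuotientGroup.mk' I) ∈ {K : Subgroup A | K.Normal ∧ IsPGroup p K}
          from ⟨inferInstance, hKp⟩) : N.comap (QuotientGroup.mk' I) ≤ pCore p A) hα, rfl⟩
      rw [(radical_of_essential hS hE).2] at h2
      exact h2
    intro q hq
    obtain ⟨α, rfl⟩ := QuotientGroup.mk'_surjective I q
    rw [Subgroup.mem_bot, QuotientGroup.mk'_apply, QuotientGroup.eq_one_iff]
    exact h1 hq
  have hext : ∀ q : A ⧸ I, (∀ t ∈ (T : Subgroup (A ⧸ I)), q * t * q⁻¹ ∈ (T : Subgroup (A ⧸ I))) →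
      ∃ f : S →* S, (∀ g, π (f g) = q * π g * q⁻¹) ∧ ∀ a ∈ Gf S i, ρ q (mk a) = mk (f a) := by
    intro q hq
    obtain ⟨β, rfl⟩ := QuotientGroup.mk'_surjective I q
    have hβ : ∀ g : ↥(S ⊓ Subgroup.normalizer (E : Set Ω)),
        (β : MulAut E) * nHom S E g * (β : MulAut E)⁻¹ ∈ autInducedBy S E := by
      intro g
      have h1 := hq _ (hTrange.le ⟨⟨g, g.2.1⟩, rfl⟩)
      rw [← hTrange] at h1
      obtain ⟨g', hg'⟩ := h1
      have h2 : (πA g')⁻¹ * (β * πA ⟨g, g.2.1⟩ * β⁻¹) ∈ I := by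
        rw [← QuotientGroup.eq]
        exact hg'
      have h3 : (β : MulAut E) * nHom S E g * (β : MulAut E)⁻¹ =
          (πA g' : MulAut E) * (((πA g')⁻¹ * (β * πA ⟨g, g.2.1⟩ * β⁻¹) : A) : MulAut E) := by
        rw [← Subgroup.coe_mul, mul_inv_cancel_left]
        rfl
      rw [h3]
      exact mul_mem ((autInducedBy_eq_range S E).ge ⟨_, rfl⟩) (inn_le_autInducedBy hES h2)
    obtain ⟨f0, hf0, hf0N, hf0E⟩ := FusionFlag94.extend_of_normalizes hS hF hE.2.1 β.2 hβ
    obtain ⟨φ, -, hφ⟩ := hf0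
    have hSN : S ≤ normalizerIn S E := le_inf le_rfl hnorm
    let f : S →* S := (φ.comp (Subgroup.inclusion hSN)).codRestrict S fun g => by
      show φ (Subgroup.inclusion hSN g) ∈ S
      rw [hφ]
      exact (hf0N _ (hSN g.2)).1
    have hf : ∀ g : S, ((f g : S) : Ω) = f0 (g : Ω) := fun g => hφ _
    have hmul : ∀ {u v : Ω}, u ∈ S → v ∈ S → f0 (u * v) = f0 u * f0 v := fun {u v} hu hv => by
      have h := congrArg (fun z : S => (z : Ω)) (map_mul f ⟨u, hu⟩ ⟨v, hv⟩)
      simp only [Subgroup.coe_mul, hf] at h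
      exact h
    refine ⟨f, fun g => ?_, fun a ha => ?_⟩
    · show (QuotientGroup.mk' I) (πA (f g)) = _
      rw [show π g = QuotientGroup.mk' I (πA g) from rfl, ← map_inv, ← map_mul, ← map_mul]
      congr 1
      refine Subtype.ext (afun_ext fun z hz => ?_)
      rw [hπA _ hz, hf]
      have hbz := afun_mem (β : MulAut E)⁻¹ hz
      have hgbz : cj (g : Ω) (afun (β : MulAut E)⁻¹ z) ∈ E :=
        cj_mem_of_normalizer (hnorm g.2) hbz
      show cj (f0 (g : Ω)) z = afun ((β : MulAut E) * (πA g : MulAut E) * (β : MulAut E)⁻¹) z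
      rw [afun_mul _ _ hz, afun_mul _ _ hbz, hπA g hbz, ← hf0E _ hgbz]
      have hzz : f0 (afun (β : MulAut E)⁻¹ z) = z := by
        rw [hf0E _ hbz, ← afun_mul _ _ hz, mul_inv_cancel, afun_apply _ hz]
        rfl
      have hginv : f0 ((g : Ω)⁻¹) = (f0 (g : Ω))⁻¹ := by
        rw [← hf g, ← Subgroup.coe_inv (x := f g), ← map_inv, hf, Subgroup.coe_inv]
      rw [cj_apply, cj_apply, hmul (mul_mem g.2 (hES hbz)) (inv_mem g.2), hmul g.2 (hES hbz), hzz,
        hginv]
    · have haE := hmemE.2 ha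
      have hfaE : ((f a : S) : Ω) ∈ E := by
        rw [hf, hf0E _ haE]
        exact afun_mem _ haE
      rw [hmk a haE, hmk _ hfaE]
      show act (β : MulAut E) _ = _
      rw [hact]
      congr 1
      refine Subtype.ext ?_
      show ((β : MulAut E) ⟨a, haE⟩ : Ω) = ((f a : S) : Ω)
      rw [hf, hf0E _ haE, afun_apply _ haE]
  refine MaxClassFlagData1.deep_absurd (ρ := ρ) (T := T) (π := π) (mk := mk) hn hc h4 hp5 hi2 him hmn
    { mk_mul := fun a ha b hb => ?_
      mk_surj := fun v => ?_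
      mk_zero := fun a ha => ?_
      range_eq := hTrange
      ker_eq := hπker
      act := fun g a ha => ?_
      inj := ?_
      core := hcore
      pow_mem := fun a ha => ?_
      ext := hext
      embedded := ?_ }
  · rw [hmk a (hmemE.2 ha), hmk b (hmemE.2 hb), hmk (a * b) (hmemE.2 (mul_mem ha hb)), ← hqmul]
    rfl
  · obtain ⟨a, rfl⟩ := hqsur v
    exact ⟨ι a, hmemE.1 a.2, hmk (ι a) a.2⟩
  · rw [hmk a (hmemE.2 ha), hqzero, hmemΦ]
    rfl
  · have hga : g * a * g⁻¹ ∈ Gf S i := (inferInstance : (Gf S i).Normal).conj_mem a ha g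
    rw [hmk a (hmemE.2 ha), hmk _ (hmemE.2 hga)]
    show act (πA g : MulAut E) _ = _
    rw [hact]
    congr 1
  · rw [← MonoidHom.ker_eq_bot_iff, eq_bot_iff]
    intro q hq
    obtain ⟨β, rfl⟩ := QuotientGroup.mk'_surjective I q
    rw [Subgroup.mem_bot, QuotientGroup.mk'_apply, QuotientGroup.eq_one_iff]
    refine FusionEssential88.mem_inn_of_trivial hS hE β.2 fun z => ?_
    have h : act (β : MulAut E) (q0 z) = q0 z :=
      LinearMap.congr_fun (MonoidHom.mem_ker.1 hq) (q0 z)
    rw [hact] at h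
    refine (hqzero _).1 ?_
    show q0 (z⁻¹ * (β : MulAut E) z) = 0
    rw [hqmul, h, ← hqmul, inv_mul_cancel, hq1]
  · exact (hmemΦ (⟨a, hmemE.2 ha⟩ ^ p)).1 (PGroupsBasic.pow_mem_frattini hEp _) |> fun h => by
      rw [map_pow] at h; exact h
  · obtain ⟨⟨P, -, hPM⟩, hnormal⟩ := LocPEmb56.normalizers_le hMe0
    obtain ⟨cc, hcc⟩ := MulAction.exists_smul_eq (A ⧸ I) P T
    set e := MulAut.conj cc
    refine ⟨Me0.map e.toMonoidHom, ?_, ?_, ?_, ?_⟩
    · intro h
      refine hMe0.2.1 (Subgroup.map_injective (f := e.toMonoidHom) e.injective ?_)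
      rw [h, Subgroup.map_top_of_surjective _ e.surjective]
    · rw [← hcc, Sylow.coe_subgroup_smul]
      exact Subgroup.map_mono hPM
    · intro B hB hBp hB1
      have hle : B.map e.symm.toMonoidHom ≤ Me0 := by
        rintro _ ⟨b, hb, rfl⟩
        obtain ⟨z, hz, rfl⟩ := hB hb
        simpa using hz
      have h := hnormal _ hle (hBp.map _)
        ((Subgroup.map_eq_bot_iff_of_injective _ e.symm.injective).not.2 hB1)
      rw [← Subgroup.map_equiv_normalizer_eq B e.symm] at h
      intro z hz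
      exact ⟨e.symm z, h ⟨z, hz, rfl⟩, e.apply_symm_apply z⟩
    · intro g hg u hu hup hgu
      obtain ⟨k, hk⟩ := hup
      by_contra hu1
      obtain ⟨m0, hm0, hmu⟩ := hu
      obtain ⟨m1, hm1, hmg⟩ := hgu
      have hpM : p ∣ Nat.card Me0 := by
        refine dvd_trans ?_ (Subgroup.card_dvd_of_le hPM)
        obtain ⟨r, hr⟩ := IsPGroup.iff_card.1 P.2
        have hu0 : e.symm u ∈ Me0 := by rw [← hmu]; simpa using hm0
        rcases Nat.eq_zero_or_pos r with h0 | h0
        swap
        · rw [hr]; exact dvd_pow_self p (by omega)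
        exfalso
        haveI : Subsingleton ↥(P : Subgroup (A ⧸ I)) :=
          (Nat.card_eq_one_iff_unique.1 (by rw [hr, h0, pow_zero])).1
        have hnd : ¬ p ∣ Nat.card (A ⧸ I) := fun hd =>
          P.ne_bot_of_dvd_card hd (Subgroup.eq_bot_of_subsingleton _)
        exact hnd hMe0.1
      have hmeets := LocPEmb56.meets_of_normalizers hpM hnormal
      have hg' : e.symm g ∉ Me0 := fun h => hg ⟨_, h, e.apply_symm_apply g⟩
      refine hmeets _ hg' ?_
      have hu0 : e.symm u ≠ 1 := fun h => hu1 (by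
        have := congrArg e h; rwa [e.apply_symm_apply, map_one] at this)
      have hmem : e.symm u ∈ Me0 ⊓ Me0.map (MulAut.conj (e.symm g)).toMonoidHom := by
        refine ⟨by rw [← hmu]; simpa using hm0, m1, hm1, ?_⟩
        show e.symm g * m1 * (e.symm g)⁻¹ = e.symm u
        rw [← map_inv, show m1 = e.symm (g⁻¹ * u * g) by rw [← hmg]; simp, ← map_mul, ← map_mul]
        congr 1
        group
      have hord : orderOf (e.symm u) ∣ p ^ k :=
        orderOf_dvd_of_pow_eq_one (by rw [← map_pow, hk, map_one])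
      obtain ⟨r, -, hr⟩ := (Nat.dvd_prime_pow hp.out).1 hord
      rcases Nat.eq_zero_or_pos r with h0 | h0
      · exact absurd (orderOf_eq_one_iff.1 (by rw [hr, h0, pow_zero])) hu0
      have := Subgroup.orderOf_dvd_natCard _ hmem
      exact dvd_trans (hr ▸ dvd_pow_self p (by omega)) this

end Cfsg.Agent.MaxClassEssDeep1
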