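import Mathlib
import Cfsg.Prelude.Def_FusionSystem
import Cfsg.Prelude.Def_Transfer
import Cfsg.Agent.Lib.MaxClassDegree94
import Cfsg.Agent.Lib.FusionEssential88
import Cfsg.Agent.Lib.FusionPearl

/-!
Essential subgroups of index `p` in a group of maximal class: two-step centralisers, or extraspecial
of order `p ^ 3`.
-/

set_option autoImplicit false

open Subgroup
open scoped commutatorElement

namespace Cfsg.Agent.MaxClassEssIndex59

open PGroupsHallPetrescu (Gf Gf_antitone commutator_mem_Gf)
open Blackburn20 (Ct mem_Ct IsUniform)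

section Groups

variable {X : Type*} [Group X] [Finite X] {p n : ℕ} [hp : Fact p.Prime]
  (hX : Nat.card X = p ^ n) (hc : Group.nilpotencyClass X = n - 1) (h4 : 4 ≤ n)

include hX hc h4

omit hc h4 in
theorem card_of_index (A : Subgroup X) (h : A.index = p) (hn : 1 ≤ n) :
    Nat.card A = p ^ (n - 1) := by
  have h1 := card_mul_index A
  rw [h, hX, show p ^ n = p ^ (n - 1) * p by rw [← pow_succ]; congr 1; omega] at h1
  exact Nat.eq_of_mul_eq_mul_right hp.out.pos h1

theorem upper_two : Subgroup.upperCentralSeries X 2 = Gf X (n - 2) := by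
  obtain ⟨hZ, hQ, hQc, -⟩ := MaxClassTwo.center_of_maxClass (by omega) hX hc
  have hZQ : Nat.card (center (X ⧸ center X)) = p :=
    (MaxClassTwo.center_of_maxClass (n := n - 1) (by omega) hQ (by rw [hQc]; omega)).1
  have hcm : Subgroup.upperCentralSeries X 2 =
      (center (X ⧸ center X)).comap (QuotientGroup.mk' (center X)) := by
    ext x
    rw [Subgroup.mem_upperCentralSeries_succ_iff, Subgroup.upperCentralSeries_one, mem_comap, mem_center_iff]
    constructor
    · intro h g
      obtain ⟨y, rfl⟩ := QuotientGroup.mk'_surjective _ g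
      exact ((S3806.comm_mem_iff _ _ _).mp (h y)).symm
    · intro h y
      exact (S3806.comm_mem_iff _ _ _).mpr (h _).symm
  have hi : (Subgroup.upperCentralSeries X 2).index = p ^ (n - 2) := by
    rw [hcm, index_comap_of_surjective _ (QuotientGroup.mk'_surjective _)]
    have h1 := card_mul_index (center (X ⧸ center X))
    rw [hZQ, hQ, show p ^ (n - 1) = p * p ^ (n - 2) by rw [← pow_succ']; congr 1; omega] at h1
    exact Nat.eq_of_mul_eq_mul_left hp.out.pos h1
  have hcard : Nat.card (Subgroup.upperCentralSeries X 2) = p ^ 2 := by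
    have h1 := card_mul_index (Subgroup.upperCentralSeries X 2)
    rw [hi, hX, show p ^ n = p ^ 2 * p ^ (n - 2) by rw [← pow_add]; congr 1; omega] at h1
    exact Nat.eq_of_mul_eq_mul_right (pow_pos hp.out.pos _) h1
  refine (eq_of_le_of_card_ge ?_ ?_).symm
  · intro x hx
    refine Subgroup.mem_upperCentralSeries_succ_iff.mpr fun y => ?_
    rw [Subgroup.upperCentralSeries_one, mem_center_iff]
    intro g
    exact MaxClassDegree94.central hX hc
      (show ⁅x, y⁆ ∈ Gf X (n - 1) from
        Gf_antitone (show n - 1 ≤ n - 2 + 1 by omega)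
          (commutator_mem_Gf (j := 1) hx (mem_top y))) g
  · rw [hcard, S3806.card_gf hX hc (by omega) (by omega) (by omega),
      show n - (n - 2) = 2 by omega]

variable {A : Subgroup X} (hA : A.index = p)

include hA

omit hc h4 in
theorem gf_two_le : Gf X 2 ≤ A := by
  have hP : IsPGroup p X := IsPGroup.of_card hX
  have : A.Normal := PGroupsBasic.normal_of_index_eq hP hA
  have h2 : Gf X 2 = _root_.commutator X := Subgroup.top_lowerCentralSeries_one
  rw [h2]
  exact PGroupsBasic.commutator_le_of_index_le_sq hP (hA ▸ Nat.le_self_pow two_ne_zero p)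

variable {e : X} (he : e ∈ A) (he2 : e ∉ Gf X 2)

include he he2

/-- `A` is generated by `Gf X 2` and any element outside it. -/
theorem le_of_mem {K : Subgroup X} (hK : Gf X 2 ≤ K) (heK : e ∈ K) : A ≤ K := by
  have hP : IsPGroup p X := IsPGroup.of_card hX
  have hlt : Gf X 2 < A ⊓ K :=
    lt_of_le_of_ne (le_inf (gf_two_le hX hA) hK) fun h => he2 (h ▸ ⟨he, heK⟩)
  obtain ⟨m, hm⟩ := IsPGroup.iff_card.mp (hP.to_subgroup (A ⊓ K))
  have hlt' := lt_of_le_of_ne (card_le_of_le hlt.le) fun h =>
    hlt.ne (eq_of_le_of_card_ge hlt.le h.ge)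
  rw [hm, S3806.card_gf hX hc (by omega) le_rfl (by omega)] at hlt'
  have hm' := (Nat.pow_lt_pow_iff_right hp.out.one_lt).mp hlt'
  have : A ⊓ K = A := by
    refine eq_of_le_of_card_ge inf_le_left ?_
    rw [hm, card_of_index hX A hA (by omega)]
    exact Nat.pow_le_pow_right hp.out.pos (by omega)
  exact this ▸ inf_le_right

variable (hu : IsUniform n e)

include hu

theorem comm_step : ∀ d j, 2 ≤ j → n ≤ j + d → ⁅Gf X j, A⁆ = Gf X (j + 1) := by
  intro d
  induction d with
  | zero =>
    intro j h1 hj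
    rw [S3806.gf_bot hX hc (show n ≤ j by omega), commutator_bot_left,
      S3806.gf_bot hX hc (show n ≤ j + 1 by omega)]
  | succ d ih =>
    intro j h1 hj
    refine le_antisymm (commutator_le.mpr fun a ha b _ =>
      commutator_mem_Gf (j := 1) ha (mem_top b)) ?_
    by_cases hn : n ≤ j + 1
    · rw [S3806.gf_bot hX hc hn]; exact bot_le
    have hK : Gf X (j + 2) ≤ ⁅Gf X j, A⁆ := by
      rw [show j + 2 = j + 1 + 1 from rfl, ← ih (j + 1) (by omega) (by omega)]
      exact commutator_mono (Gf_antitone (by omega)) le_rfl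
    obtain ⟨a, ha, ha'⟩ :=
      SetLike.exists_of_lt (S3806.gf_lt hX hc (i := j) (by omega) (by omega))
    exact S3806.eq_of_mem_of_notMem hX hc (by omega) (by omega) (by omega) hK
      (commutator_mem_commutator ha he) (commutator_mem_Gf (j := 1) ha (mem_top e))
      fun h => hu.2 j h1 (by omega) (Blackburn20.mem_Ct_of_exact hX hc h1 (by omega) ha ha' h)

omit hu in
theorem comm_self_le : ⁅A, A⁆ ≤ Gf X 3 := by
  let q := QuotientGroup.mk' (Gf X 3)
  have hgf : ∀ v : X, Gf X 2 ≤ (centralizer {q v}).comap q := fun v u hu2 =>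
    mem_centralizer_singleton_iff.mpr ((S3806.comm_mem_iff _ _ _).mp
      (commutator_mem_Gf (i := 2) (j := 1) hu2 (mem_top v)))
  have hce : A ≤ (centralizer {q e}).comap q :=
    le_of_mem hX hc h4 hA he he2 (hgf e) (mem_centralizer_singleton_iff.mpr rfl)
  refine commutator_le.mpr fun u hu' v hv => (S3806.comm_mem_iff _ _ _).mpr ?_
  exact mem_centralizer_singleton_iff.mp (le_of_mem hX hc h4 hA he he2 (hgf v)
    (mem_centralizer_singleton_iff.mpr (mem_centralizer_singleton_iff.mp (hce hv)).symm) hu')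

theorem lcs_eq : ∀ k, 1 ≤ k → A.lowerCentralSeries k = Gf X (k + 2) := by
  intro k hk
  induction k, hk using Nat.le_induction with
  | base =>
    rw [Subgroup.lowerCentralSeries_succ, Subgroup.lowerCentralSeries_zero]
    refine le_antisymm (comm_self_le hX hc h4 hA he he2) ?_
    rw [← comm_step hX hc h4 hA he he2 hu n 2 le_rfl (by omega)]
    exact commutator_mono (gf_two_le hX hA) le_rfl
  | succ k hk ih =>
    rw [Subgroup.lowerCentralSeries_succ, ih, comm_step hX hc h4 hA he he2 hu n (k + 2) (by omega) (by omega)]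

end Groups

section Fusion

variable {Ω : Type*} [Group Ω] {S : Subgroup Ω} [Finite S] {p : ℕ} [Fact p.Prime]
  {n : ℕ} {F : Cfsg.FusionSystem S} {E : Subgroup Ω}

/-- For `5 ≤ n` an essential subgroup of index `p` has no uniform element. -/
theorem not_uniform (hn : Nat.card S = p ^ n) (hc : Group.nilpotencyClass S = n - 1) (h5 : 5 ≤ n)
    (hS : IsPGroup p S) (hF : F.IsSaturated p) (hE : F.IsEssential p E)
    (hidx : (E.subgroupOf S).index = p) {e : S} (he : e ∈ E.subgroupOf S) (he2 : e ∉ Gf S 2)
    (hu : IsUniform n e) : False := by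
  have hp : Fact p.Prime := inferInstance
  have hES : E ≤ S := hE.1.1
  have : Finite E := FusionSysBasic.finite_of_le hES
  let ι : E →* S := Subgroup.inclusion hES
  have hι : Function.Injective ι := Subgroup.inclusion_injective hES
  have hr : ι.range = E.subgroupOf S := Subgroup.inclusion_range hES
  have hcardE : Nat.card E = p ^ (n - 1) := by
    rw [← card_of_index hn _ hidx (by omega),
      Nat.card_congr (subgroupOfEquivOfLe hES).toEquiv]
  have hl : ∀ k, 1 ≤ k → ((⊤ : Subgroup E).lowerCentralSeries k).map ι = Gf S (k + 2) := by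
    intro k hk
    rw [Subgroup.map_lowerCentralSeries, ← MonoidHom.range_eq_map, hr]
    exact lcs_eq hn hc (by omega) hidx he he2 hu k hk
  let M : Subgroup E := S3806.Cmod ((⊤ : Subgroup E).lowerCentralSeries 1)
    ((⊤ : Subgroup E).lowerCentralSeries 3)
  have hM : M = (Ct S 3).comap ι := by
    ext x
    rw [S3806.mem_Cmod, mem_comap, mem_Ct]
    constructor
    · intro h z hz
      rw [show (3 : ℕ) = 1 + 2 from rfl, ← hl 1 le_rfl] at hz
      obtain ⟨z, hz, rfl⟩ := hz
      rw [← map_commutatorElement, show (3 : ℕ) + 2 = 3 + 2 from rfl, ← hl 3 (by omega)]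
      exact mem_map_of_mem ι (h z hz)
    · intro h z hz
      have h1 := h (ι z) (by
        rw [show (3 : ℕ) = 1 + 2 from rfl, ← hl 1 le_rfl]; exact mem_map_of_mem ι hz)
      rw [← map_commutatorElement, ← hl 3 (by omega)] at h1
      exact (mem_map_iff_mem hι).mp h1
  have hinf : E.subgroupOf S ⊓ Ct S 3 = Gf S 2 := by
    refine le_antisymm (fun x hx => ?_)
      (le_inf (gf_two_le hn hidx) (Blackburn20.gf_two_le_Ct 3))
    by_contra hx2
    exact hu.2 3 (by omega) (by omega)
      (le_of_mem hn hc (by omega) hidx hx.1 hx2 (Blackburn20.gf_two_le_Ct 3) hx.2 he)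
  have hMmap : M.map ι = Gf S 2 := by rw [hM, map_comap_eq, hr, hinf]
  have hcM : Nat.card M = p ^ (n - 2) := by
    rw [← card_map_of_injective hι (K := M), hMmap,
      S3806.card_gf hn hc (by omega) le_rfl (by omega)]
  have hchar : M.Characteristic := by
    refine characteristic_iff_le_comap.mpr fun φ x hx => ?_
    refine S3806.mem_Cmod.mpr fun z hz => ?_
    have hL : ∀ k, ∀ (ψ : E ≃* E), ∀ w ∈ (⊤ : Subgroup E).lowerCentralSeries k,
        ψ w ∈ (⊤ : Subgroup E).lowerCentralSeries k := fun k ψ w hw => by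
      have h := Subgroup.map_lowerCentralSeries (⊤ : Subgroup E) ψ.toMonoidHom k
      rw [← MonoidHom.range_eq_map, MonoidHom.range_eq_top.mpr ψ.surjective] at h
      exact h ▸ mem_map_of_mem _ hw
    have h1 := hL 3 φ _ (S3806.mem_Cmod.mp hx _ (hL 1 φ.symm z hz))
    rwa [map_commutatorElement, MulEquiv.apply_symm_apply] at h1
  have hidxM : M.index = p := by
    have h1 := card_mul_index M
    rw [hcM, hcardE, show p ^ (n - 1) = p ^ (n - 2) * p by rw [← pow_succ]; congr 1; omega] at h1
    exact Nat.eq_of_mul_eq_mul_left (pow_pos hp.out.pos _) h1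
  have hΦM : frattini E ≤ M := frattini_le_coatom (PGroupsBasic.isCoatom_of_index_eq hidxM)
  refine FusionEssential88.no_middle hS hF hE M hΦM ?_ ?_
  · have h1 : p ^ (n - 3) ≤ Nat.card (frattini E) := by
      rw [← S3806.card_gf hn hc (by omega) (show 2 ≤ 3 by omega) (by omega),
        ← hl 1 le_rfl, card_map_of_injective hι]
      exact card_le_of_le (PGroupsBasic.commutator_le_frattini (hS.to_le hES) |> fun h =>
        (Subgroup.top_lowerCentralSeries_one (G := E)).symm ▸ h)
    rw [hcM, show n - 2 = n - 3 + 1 by omega, pow_succ]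
    exact Nat.mul_le_mul h1 le_rfl
  · rw [hcM, hcardE, ← pow_succ]
    exact le_of_eq (by congr 1; omega)

/-- For `n = 4` an essential subgroup of index `p` with a uniform element is extraspecial of
exponent `p`. -/
theorem extraspecial_of_uniform (hn : Nat.card S = p ^ 4) (hc : Group.nilpotencyClass S = 3)
    (hp2 : p ≠ 2) (hS : IsPGroup p S) (hF : F.IsSaturated p) (hE : F.IsEssential p E)
    (hidx : (E.subgroupOf S).index = p) {e : S} (he : e ∈ E.subgroupOf S)
    (hu : IsUniform 4 e) :
    Nat.card E = p ^ 3 ∧ Cfsg.IsExtraspecial p E ∧ Monoid.exponent E = p := by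
  have hp : Fact p.Prime := inferInstance
  have hES : E ≤ S := hE.1.1
  have : Finite E := FusionSysBasic.finite_of_le hES
  have hP : IsPGroup p E := hS.to_le hES
  have hcard : Nat.card E = p ^ 3 := by
    rw [← Nat.card_congr (subgroupOfEquivOfLe hES).toEquiv, card_of_index hn _ hidx (by omega)]
  have hnc : ¬ ∀ a b : E, a * b = b * a := by
    intro hab
    refine hu.2 2 le_rfl (by omega) (mem_Ct.mpr fun z hz => ?_)
    have h := hab ⟨z, gf_two_le hn hidx hz⟩ ⟨e, he⟩
    have h' : z * e = e * z := congrArg (Subgroup.inclusion hES) h |> fun h => Subtype.ext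
      (Subtype.ext_iff.mp h)
    rw [commutatorElement_eq_one_iff_mul_comm.mpr h']
    exact one_mem _
  have hZ : Nat.card (center E) = p :=
    FusionPearl.card_center_of_card_cube hcard fun h => hnc fun a b => h.is_comm.comm a b
  have hZi : (center E).index = p ^ 2 := by
    have h1 := card_mul_index (center E)
    rw [hZ, hcard, pow_succ' p 2] at h1
    exact Nat.eq_of_mul_eq_mul_left hp.out.pos h1
  have hcZ : _root_.commutator E ≤ center E :=
    PGroupsBasic.commutator_le_of_index_le_sq hP hZi.le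
  have hcne : _root_.commutator E ≠ ⊥ := fun h => hnc fun a b =>
    commutatorElement_eq_one_iff_mul_comm.mp (mem_bot.mp (h ▸ commutator_mem_commutator
      (mem_top a) (mem_top b) : ⁅a, b⁆ ∈ (⊥ : Subgroup E)))
  have hcc : _root_.commutator E = center E := by
    refine eq_of_le_of_card_ge hcZ ?_
    have h1 := card_dvd_of_le hcZ
    rw [hZ] at h1 ⊢
    rcases (Nat.dvd_prime hp.out).mp h1 with h | h
    · exact absurd (card_eq_one.mp h) hcne
    · exact h.ge
  have hΦ : frattini E = center E := by
    refine (eq_of_le_of_card_ge (hcc ▸ PGroupsBasic.commutator_le_frattini hP) ?_).symm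
    have h1 := card_mul_index (frattini E)
    have h2 := Nat.mul_le_mul (le_refl (Nat.card (frattini E)))
      (S3806.index_frattini_ge hcard hnc)
    rw [h1, hcard, pow_succ' p 2] at h2
    exact (Nat.le_of_mul_le_mul_right h2 (pow_pos hp.out.pos 2)).trans hZ.ge
  have hex : Cfsg.IsExtraspecial p E := ⟨⟨hP, hΦ, hcc⟩, hZ⟩
  refine ⟨hcard, hex, ?_⟩
  by_cases hall : ∀ x : E, x ^ p = 1
  · rcases (Nat.dvd_prime hp.out).mp (Monoid.exponent_dvd_of_forall_pow_eq_one hall) with h | h
    · have := Monoid.exp_eq_one_iff.mp h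
      exact absurd (fun a b : E => Subsingleton.elim _ _) hnc
    · exact h
  exfalso
  let f : E →* E := MonoidHom.mk' (fun x => x ^ p) fun a b => by
    have hz : ⁅b, a⁆ ∈ center E :=
      hcZ (commutator_mem_commutator (mem_top b) (mem_top a))
    have hzp : ⁅b, a⁆ ^ p = 1 := PGroupsBasic.pow_eq_one_of_card hZ hz
    obtain ⟨k, hk⟩ := (hp.out.dvd_choose_self two_ne_zero
      (lt_of_le_of_ne hp.out.two_le (Ne.symm hp2)))
    rw [PGroupsBasic.mul_pow_of_central hz, hk, pow_mul, hzp, one_pow, mul_one]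
  have hchar : f.ker.Characteristic := by
    refine characteristic_iff_le_comap.mpr fun φ x hx => ?_
    have hx' : x ^ p = 1 := hx
    show (φ x) ^ p = 1
    rw [← map_pow, hx', map_one]
  have hidxM : f.ker.index = p := by
    have hle : f.range ≤ center E := by
      rintro _ ⟨x, rfl⟩
      rw [← hΦ]
      exact PGroupsBasic.pow_mem_frattini hP x
    have h1 := card_dvd_of_le hle
    rw [hZ, ← index_ker] at h1
    rcases (Nat.dvd_prime hp.out).mp h1 with h | h
    · exact absurd (fun x => (index_eq_one.mp h ▸ mem_top x : x ∈ f.ker)) hall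
    · exact h
  have hcM : Nat.card f.ker = p ^ 2 := by
    have h1 := card_mul_index f.ker
    rw [hidxM, hcard, pow_succ p 2] at h1
    exact Nat.eq_of_mul_eq_mul_right hp.out.pos h1
  refine FusionEssential88.no_middle hS hF hE f.ker
    (frattini_le_coatom (PGroupsBasic.isCoatom_of_index_eq hidxM)) ?_ ?_
  · rw [hcM, hΦ, hZ, sq]
  · rw [hcard, hcM, ← pow_succ]

/-- An essential subgroup of index `p` is one of the two distinguished two-step centralisers, or
extraspecial of order `p ^ 3` and exponent `p`. -/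
theorem index_p {Ω : Type*} [Group Ω] {S : Subgroup Ω} [Finite S] (p : ℕ) [Fact p.Prime]
    (hS : IsPGroup p ↥S) (n : ℕ) (hn : Nat.card S = p ^ n) (h4 : 4 ≤ n)
    (hmax : Subgroup.lowerCentralSeries S (n - 2) ≠ ⊥) (F : Cfsg.FusionSystem S)
    (hF : F.IsSaturated p) (hp : 5 ≤ p) (Γ₁ : Subgroup Ω)
    (hΓ₁ : ∀ x : Ω, x ∈ Γ₁ ↔ x ∈ S ∧ ∀ y ∈ Subgroup.lowerCentralSeries S 1,
      x * y * x⁻¹ * y⁻¹ ∈ Subgroup.lowerCentralSeries S 3)
    (E : Subgroup Ω) (hE : F.IsEssential p E) (hEn : (E.subgroupOf S).Normal)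
    (hidx : (E.subgroupOf S).index = p) :
    E = Γ₁ ∨ E = (S ⊓ Subgroup.centralizer
        (((Subgroup.upperCentralSeries ↥S 2).map S.subtype) : Set Ω)) ∨
      (n = 4 ∧ Nat.card ↥E = p ^ 3 ∧ Cfsg.IsExtraspecial p ↥E ∧ Monoid.exponent ↥E = p) := by
  have hp2 : p ≠ 2 := by omega
  have hES : E ≤ S := hE.1.1
  have hnil := hS.isNilpotent
  have hlS : ∀ k, ((⊤ : Subgroup S).lowerCentralSeries k).map S.subtype =
      S.lowerCentralSeries k := fun k => by
    rw [Subgroup.map_lowerCentralSeries, ← MonoidHom.range_eq_map, range_subtype]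
  have hc : Group.nilpotencyClass S = n - 1 := by
    refine le_antisymm (MaxClassTwo.nilpotencyClass_le n S hn (by omega)) ?_
    by_contra hlt
    refine hmax ?_
    rw [← hlS, Subgroup.lowerCentralSeries_eq_bot_iff_nilpotencyClass_le.mpr (by omega),
      Subgroup.map_bot]
  have hC2 : (Ct S 2).map S.subtype = Γ₁ := by
    ext x
    rw [hΓ₁]
    constructor
    · rintro ⟨w, hw, rfl⟩
      refine ⟨w.2, fun y hy => ?_⟩
      rw [← hlS] at hy
      obtain ⟨z, hz, rfl⟩ := hy
      rw [← hlS]
      refine ⟨⁅w, z⁆, ?_, by simp [commutatorElement_def]⟩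
      rw [← commutatorElement_inv z w]
      exact inv_mem (mem_Ct.mp hw z hz)
    · rintro ⟨hxS, hx⟩
      refine ⟨⟨x, hxS⟩, mem_Ct.mpr fun z hz => ?_, rfl⟩
      have h := hx (z : Ω) (by rw [← hlS]; exact ⟨z, hz, rfl⟩)
      rw [← hlS] at h
      obtain ⟨t, ht, h⟩ := h
      rw [← commutatorElement_inv (⟨x, hxS⟩ : S) z]
      refine inv_mem ?_
      have he' : (⁅(⟨x, hxS⟩ : S), z⁆ : S) = t :=
        Subtype.ext (Eq.trans (by simp [commutatorElement_def]) h.symm)
      rwa [he']
  have hZ2 : (Ct S (n - 2)).map S.subtype = S ⊓ Subgroup.centralizer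
      (((Subgroup.upperCentralSeries ↥S 2).map S.subtype) : Set Ω) := by
    rw [upper_two hn hc h4]
    ext x
    simp only [mem_inf, mem_centralizer_iff, coe_map, Set.forall_mem_image, SetLike.mem_coe]
    constructor
    · rintro ⟨w, hw, rfl⟩
      refine ⟨w.2, fun z hz => ?_⟩
      have h := mem_Ct.mp hw z hz
      rw [S3806.gf_bot hn hc (by omega), mem_bot, commutatorElement_eq_one_iff_mul_comm] at h
      exact congrArg Subtype.val h
    · rintro ⟨hxS, hx⟩
      refine ⟨⟨x, hxS⟩, mem_Ct.mpr fun z hz => ?_, rfl⟩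
      rw [commutatorElement_eq_one_iff_mul_comm.mpr (Subtype.ext (hx hz))]
      exact one_mem _
  have hmapE : (E.subgroupOf S).map S.subtype = E := map_subgroupOf_eq_of_le hES
  by_cases h2 : E.subgroupOf S = Ct S 2
  · exact Or.inl (by rw [← hC2, ← h2, hmapE])
  by_cases hl : E.subgroupOf S = Ct S (n - 2)
  · exact Or.inr (Or.inl (by rw [← hZ2, ← hl, hmapE]))
  refine Or.inr (Or.inr ?_)
  have hlt : Gf S 2 < E.subgroupOf S := by
    refine lt_of_le_of_ne (gf_two_le hn hidx) fun h => ?_
    have h1 := S3806.card_gf hn hc (by omega) (le_refl 2) (by omega)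
    rw [h, card_of_index hn _ hidx (by omega)] at h1
    have := Nat.pow_right_injective (Fact.out : p.Prime).two_le h1
    omega
  obtain ⟨e, he, he2⟩ := SetLike.exists_of_lt hlt
  have hu : IsUniform n e := by
    refine ⟨he2, fun i h1 hi hei => ?_⟩
    have hle : E.subgroupOf S ≤ Ct S i :=
      le_of_mem hn hc h4 hidx he he2 (Blackburn20.gf_two_le_Ct i) hei
    have heq : E.subgroupOf S = Ct S i := by
      refine eq_of_le_of_card_ge hle ?_
      rw [card_of_index hn _ hidx (by omega),
        card_of_index hn _ (Blackburn20.index_Ct hn hc h1 hi) (by omega)]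
    by_cases hi3 : i + 3 ≤ n
    · exact h2 (heq.trans (MaxClassDegree94.Ct_low hp2 n S hn hc i h1 hi3))
    · obtain rfl : i = n - 2 := by omega
      exact hl heq
  obtain rfl | h5 : n = 4 ∨ 5 ≤ n := by omega
  · exact ⟨rfl, extraspecial_of_uniform hn hc hp2 hS hF hE hidx he hu⟩
  · exact (not_uniform hn hc h5 hS hF hE hidx he he2 hu).elim

end Fusion

end Cfsg.Agent.MaxClassEssIndex59
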