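import Mathlib
import Cfsg.Agent.Lib.MaxClassCounts79

/-!
# A 2-block with defect group of maximal class: the invariants, given a bound on `k - l`
-/

set_option autoImplicit false
set_option linter.unusedSectionVars false

namespace Cfsg.Agent.MaxClassMain79

open Cfsg Cfsg.Agent.MaxClassBlock79 Cfsg.Agent.MaxClassShape79 Cfsg.Agent.DihedralDefectShape79
open Cfsg.Agent.MaxClassCounts79 Cfsg.Agent.BlockContribBounds Cfsg.Agent.BlockContrib

attribute [local instance] Classical.propDecidable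

universe u

variable {G : Type u} [Group G] [Fintype G] {M : Ideal AlgInt} {B : Set (IrrCharacter G)} {h : ℕ}
  {R : Finset ℕ} {cE cF : ℕ → IrrCharacter G → ℤ}

variable (hM : IsPModular 2 M) (C : Cols M B h R cE cF)
include hM C

theorem extra_sq {φ : IrrCharacter G} (hφ : φ ∈ B) (h0 : blockHeight 2 B (φ : G → ℂ) = 0)
    {χ : IrrCharacter G} (hχ : χ ∈ extras B h R cE cF) :
    (h : ℤ) ^ 2 ≤ contrib 2 B φ χ ^ 2 := by
  have hht := height_extra C hχ
  simp only [extras, Finset.mem_sdiff, Finset.mem_union, not_or] at hχ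
  have hχB := mem_members.1 hχ.1
  have hne := contrib_ne_zero hM C.hB hφ h0 hχB
  obtain ⟨k, hk⟩ := height_dvd_contrib hM.1 φ hχB
  have hh : ((2 : ℕ) : ℤ) ^ blockHeight 2 B (χ : G → ℂ) = (h : ℤ) := by exact_mod_cast hht
  rw [hh] at hk
  have : (1 : ℤ) ≤ k ^ 2 := by
    have hk0 : k ≠ 0 := fun e => hne (by rw [hk, e, mul_zero])
    have := sq_pos_of_ne_zero hk0
    omega
  rw [hk, mul_pow]
  nlinarith [sq_nonneg (h : ℤ)]

theorem pos_sq {φ : IrrCharacter G} (hφ : φ ∈ B) (h0 : blockHeight 2 B (φ : G → ℂ) = 0)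
    {χ : IrrCharacter G} (hχ : χ ∈ members B) (hc : cE (h / 2) χ = 0) :
    (4 : ℤ) ≤ contrib 2 B φ χ ^ 2 := by
  have hχB := mem_members.1 hχ
  have hne := contrib_ne_zero hM C.hB hφ h0 hχB
  have hd : (2 : ℤ) ∣ contrib 2 B φ χ :=
    (dvd_pow_self _ (C.htpos χ hχB hc).ne').trans (height_dvd_contrib hM.1 φ hχB)
  obtain ⟨k, hk⟩ := hd
  rw [hk] at hne ⊢
  have := sq_pos_of_ne_zero (right_ne_zero_of_mul hne)
  nlinarith

/-- The row of a member of height zero. -/
theorem row_le {φ : IrrCharacter G} (hφ : φ ∈ B) (h0 : blockHeight 2 B (φ : G → ℂ) = 0)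
    (hdis : Disjoint (suppE B h cE) (suppF B R cF)) :
    ∑ χ ∈ suppE B h cE, contrib 2 B φ χ ^ 2 + 4 * ((suppF B R cF).card : ℤ) +
      (h : ℤ) ^ 2 * ((extras B h R cE cF).card : ℤ) ≤ 4 * (h : ℤ) * contrib 2 B φ φ := by
  have h1 : 4 * ((suppF B R cF).card : ℤ) ≤ ∑ χ ∈ suppF B R cF, contrib 2 B φ χ ^ 2 := by
    have := Finset.card_nsmul_le_sum (suppF B R cF) (fun χ => contrib 2 B φ χ ^ 2) 4 fun χ hχ =>
      pos_sq hM C hφ h0 (suppF_subset C hχ)
        (cE_eq_zero C (suppF_subset C hχ) (Finset.disjoint_right.1 hdis hχ) (hpos C) le_rfl)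
    rwa [nsmul_eq_mul, mul_comm] at this
  have h2 : (h : ℤ) ^ 2 * ((extras B h R cE cF).card : ℤ) ≤
      ∑ χ ∈ extras B h R cE cF, contrib 2 B φ χ ^ 2 := by
    have := Finset.card_nsmul_le_sum (extras B h R cE cF) (fun χ => contrib 2 B φ χ ^ 2) _
      fun χ hχ => extra_sq hM C hφ h0 hχ
    rwa [nsmul_eq_mul, mul_comm] at this
  rw [← row_sq C hM hφ, extras] at *
  rw [← Finset.sum_sdiff (Finset.union_subset (suppE_subset C) (suppF_subset C)),
    Finset.sum_union hdis]
  linarith

/-- In an exceptional configuration there are no further members. -/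
theorem extras_exc (h8 : h / 2 = 4)
    (hexc : IsExc (suppE B h cE) cE patA ∨ IsExc (suppE B h cE) cE patB) :
    (extras B h R cE cF).card = 0 ∧ (members B).card = 9 + (extras B h R cE cF).card := by
  obtain ⟨hdis, h5⟩ := disjoint_exc C h8 hexc
  have hh : h = 8 := by
    obtain ⟨k, hk⟩ := C.two_pow
    rcases k with _ | k
    · rw [pow_zero] at hk; omega
    · rw [pow_succ] at hk; omega
  have hRne : R.Nonempty := (R_nonempty_iff C).2 (by omega)
  have hF : (suppF B R cF).card = 4 := by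
    rw [card_suppF C hRne]
    have := C.cardR
    omega
  refine ⟨?_, by rw [card_split C, Finset.card_union_of_disjoint hdis, h5, hF]⟩
  obtain ⟨pat, hpat, e, ε, he, hmem, hε, hval⟩ :
      ∃ pat, (pat = patA ∨ pat = patB) ∧ ∃ (e : Fin 5 → IrrCharacter G) (ε : Fin 5 → ℤ),
        Function.Injective e ∧ (∀ x, x ∈ suppE B h cE ↔ ∃ i, e i = x) ∧
        (∀ i, ε i = 1 ∨ ε i = -1) ∧ ∀ (k : Fin 4) (i : Fin 5),
          cE ((k : ℕ) + 1) (e i) = ε i * pat k i := by
    rcases hexc with h1 | h1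
    · exact ⟨patA, Or.inl rfl, h1⟩
    · exact ⟨patB, Or.inr rfl, h1⟩
  have himg : suppE B h cE = Finset.univ.image e := by
    ext x
    rw [hmem x, Finset.mem_image]
    simp
  obtain ⟨i₀, hi₀, hlast⟩ : ∃ i₀ : Fin 5, (pat = patA ∧ i₀ = 0 ∨ pat = patB ∧ i₀ = 2) ∧
      pat 3 i₀ = 1 := by
    rcases hpat with rfl | rfl
    · exact ⟨0, Or.inl ⟨rfl, rfl⟩, rfl⟩
    · exact ⟨2, Or.inr ⟨rfl, rfl⟩, rfl⟩
  set φ := e i₀
  have hφ : φ ∈ B := mem_members.1 (suppE_subset C ((hmem _).2 ⟨i₀, rfl⟩))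
  have h0 : blockHeight 2 B (φ : G → ℂ) = 0 := by
    refine C.ht0 φ hφ ?_
    rw [h8, show (4 : ℕ) = ((3 : Fin 4) : ℕ) + 1 from rfl, hval, hlast]
    rcases hε i₀ with e1 | e1 <;> rw [e1] <;> norm_num
  set Q : Fin 5 → ℤ := fun i => ε i₀ * ε i * contrib 2 B φ (e i) with hQ
  have hrow : ∀ l : Fin 4, ∑ i, pat l i * Q i = 0 := by
    intro l
    have h4 := rowE C hM φ (i := (l : ℕ) + 1) (by omega) (by have := l.2; omega)
    rw [himg, Finset.sum_image fun a _ b _ e' => he e'] at h4
    rw [← mul_zero (ε i₀), ← h4, Finset.mul_sum]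
    exact Finset.sum_congr rfl fun i _ => by rw [hval, hQ]; ring
  have hQa : Q i₀ = contrib 2 B φ φ := by
    rcases hε i₀ with e1 | e1 <;> simp [hQ, e1, φ]
  have hsq : ∑ χ ∈ suppE B h cE, contrib 2 B φ χ ^ 2 = ∑ i, Q i ^ 2 := by
    rw [himg, Finset.sum_image fun a _ b _ e' => he e']
    exact Finset.sum_congr rfl fun i _ => by
      rcases hε i₀ with e1 | e1 <;> rcases hε i with e2 | e2 <;> simp [hQ, e1, e2]
  have hrl := row_le hM C hφ h0 hdis
  rw [hsq, hF, hh, Fin.sum_univ_five] at hrl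
  push_cast at hrl
  have r0 := hrow 0
  have r1 := hrow 1
  have r2 := hrow 2
  have r3 := hrow 3
  have key : Q 0 ^ 2 + Q 1 ^ 2 + Q 2 ^ 2 + Q 3 ^ 2 + Q 4 ^ 2 = 16 * Q i₀ ^ 2 := by
    rcases hi₀ with ⟨rfl, rfl⟩ | ⟨rfl, rfl⟩
    · simp [patA, Fin.sum_univ_five] at r0 r1 r2 r3
      rw [show Q 1 = Q 0 by linarith, show Q 2 = Q 0 by linarith, show Q 3 = -2 * Q 0 by linarith,
        show Q 4 = -3 * Q 0 by linarith]
      ring
    · simp [patB, Fin.sum_univ_five] at r0 r1 r2 r3
      rw [show Q 3 = Q 2 by linarith, show Q 4 = Q 2 by linarith, show Q 0 = -3 * Q 2 by linarith,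
        show Q 1 = 2 * Q 2 by linarith]
      ring
  rw [key, ← hQa] at hrl
  by_contra hne
  have : (1 : ℤ) ≤ ((extras B h R cE cF).card : ℤ) := by
    have := Nat.pos_of_ne_zero hne
    exact_mod_cast this
  rw [hh] at this
  nlinarith [sq_nonneg (Q i₀ - 1)]

/-- In an overlapping configuration there are no further members. -/
theorem extras_overlap {A B' C' D : IrrCharacter G} {L : ℕ → IrrCharacter G}
    {ε : IrrCharacter G → ℤ} (hstd : IsStd (suppE B h cE) cE (h / 2) A B' C' D L ε) (h4 : h = 4)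
    (hsub : suppF B R cF ⊆ suppE B h cE) {k : ℕ} (hk : k ∈ R)
    (hv : (cF k A * ε A + cF k B' * ε B' = 0 ∧ cF k A ≠ 0) ∨
      (cF k C' * ε C' + cF k D * ε D = 0 ∧ cF k C' ≠ 0)) :
    (extras B h R cE cF).card = 0 ∧ (members B).card = 5 + (extras B h R cE cF).card := by
  subst h4
  refine ⟨?_, by rw [card_split C, Finset.union_eq_left.2 hsub, card_suppE_std C hstd]⟩
  obtain ⟨hAC, hAD⟩ := hstd.hKW A (by simp)
  obtain ⟨hBC, hBD⟩ := hstd.hKW B' (by simp)
  have ho := hstd.out 1 one_pos (by norm_num)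
  simp only [Finset.mem_insert, Finset.mem_singleton, not_or] at ho
  obtain ⟨lA, lB, lC, lD⟩ := ho
  have hW : ∀ x ∈ ({A, B', C', D} : Finset (IrrCharacter G)), x ∈ suppE B 4 cE := fun x hx =>
    (hstd.mem x).2 (Or.inl hx)
  have hS : suppE B 4 cE = ({L 1, A, B', C', D} : Finset (IrrCharacter G)) := by
    ext x
    rw [hstd.mem x]
    constructor
    · rintro (hx | ⟨j, j0, j1, rfl⟩)
      · exact Finset.mem_insert_of_mem hx
      · obtain rfl : j = 1 := by omega
        exact Finset.mem_insert_self _ _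
    · intro hx
      rcases Finset.mem_insert.1 hx with rfl | hx
      · exact Or.inr ⟨1, one_pos, by norm_num, rfl⟩
      · exact Or.inl hx
  have hsum5 : ∀ f : IrrCharacter G → ℤ,
      ∑ x ∈ suppE B 4 cE, f x = f (L 1) + (f A + (f B' + (f C' + f D))) := fun f => by
    rw [hS, Finset.sum_insert (by simp [lA, lB, lC, lD]),
      Finset.sum_insert (by simp [hstd.hAB, hAC, hAD]), Finset.sum_insert (by simp [hBC, hBD]),
      Finset.sum_pair hstd.hCD]
  -- the row of the first point of the pair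
  obtain ⟨U, V, hU, hUV, hU0, hsplit⟩ : ∃ U V : IrrCharacter G,
      U ∈ ({A, B', C', D} : Finset (IrrCharacter G)) ∧
      cF k U * ε U + cF k V * ε V = 0 ∧ cF k U ≠ 0 ∧
      (U = A ∧ V = B' ∨ U = C' ∧ V = D) := by
    rcases hv with ⟨e, e'⟩ | ⟨e, e'⟩
    · exact ⟨A, B', by simp, e, e', Or.inl ⟨rfl, rfl⟩⟩
    · exact ⟨C', D, by simp, e, e', Or.inr ⟨rfl, rfl⟩⟩
  have hVE : V ∈ suppE B 4 cE ∧ U ≠ V := by
    rcases hsplit with ⟨rfl, rfl⟩ | ⟨rfl, rfl⟩
    · exact ⟨hW _ (by simp), hstd.hAB⟩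
    · exact ⟨hW _ (by simp), hstd.hCD⟩
  have hφ : U ∈ B := mem_members.1 (suppE_subset C (hW U hU))
  have h0 : blockHeight 2 B (U : G → ℂ) = 0 := C.ht0 U hφ (by
    rw [hstd.long U (hW U hU), if_pos hU]
    rcases hstd.sgn U with e | e <;> rw [e] <;> norm_num)
  set Q : IrrCharacter G → ℤ := fun x => ε U * ε x * contrib 2 B U x with hQ
  have hQU : Q U = contrib 2 B U U := by
    rcases hstd.sgn U with e | e <;> simp [hQ, e]
  have hzero : ∀ x ∈ members B, x ≠ U → x ≠ V → cF k x = 0 := by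
    intro x hx xU xV
    have h2 := C.gramF k hk k hk
    rw [if_pos rfl] at h2
    by_contra hx0
    have hV0 : cF k V ≠ 0 := fun e0 => hU0 (by
      rw [e0, zero_mul, add_zero] at hUV
      rcases hstd.sgn U with e1 | e1 <;> rw [e1] at hUV <;> omega)
    have hsum : ∑ y ∈ ({x, U, V} : Finset (IrrCharacter G)), cF k y * cF k y ≤ 2 := by
      rw [← h2]
      refine Finset.sum_le_sum_of_subset_of_nonneg (fun y hy => ?_) fun _ _ _ => mul_self_nonneg _
      simp only [Finset.mem_insert, Finset.mem_singleton] at hy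
      rcases hy with rfl | rfl | rfl
      exacts [hx, suppE_subset C (hW _ hU), suppE_subset C hVE.1]
    rw [Finset.sum_insert (by simp [xU, xV]), Finset.sum_pair hVE.2] at hsum
    have a1 := mul_self_pos.2 hx0
    have a2 := mul_self_pos.2 hU0
    have a3 := mul_self_pos.2 hV0
    omega
  have hQV : Q V = Q U := by
    have h1 := rowF C hM U hk
    have hUm : U ∈ suppF B R cF :=
      Finset.mem_filter.2 ⟨suppE_subset C (hW U hU), k, hk, hU0⟩
    have hVm : V ∈ suppF B R cF := Finset.mem_filter.2 ⟨suppE_subset C hVE.1, k, hk, fun e0 => hU0 (by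
      rw [e0, zero_mul, add_zero] at hUV
      rcases hstd.sgn U with e1 | e1 <;> rw [e1] at hUV <;> omega)⟩
    rw [← Finset.sum_subset (show ({U, V} : Finset (IrrCharacter G)) ⊆ suppF B R cF by
      intro x hx
      rcases Finset.mem_insert.1 hx with rfl | hx
      · exact hUm
      · rwa [Finset.mem_singleton.1 hx]) fun x hx hn => by
      rw [hzero x (suppF_subset C hx) (fun e => hn (by simp [e])) (fun e => hn (by simp [e])),
        zero_mul], Finset.sum_pair hVE.2] at h1
    have hkey : cF k U * (contrib 2 B U U - ε U * ε V * contrib 2 B U V) = 0 := by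
      rcases hstd.sgn U with e1 | e1 <;> rcases hstd.sgn V with e2 | e2 <;>
        simp only [e1, e2] at hUV ⊢ <;>
        first
          | (rw [show cF k V = -cF k U by linarith] at h1; linarith)
          | (rw [show cF k V = cF k U by linarith] at h1; linarith)
    have := (mul_eq_zero.1 hkey).resolve_left hU0
    rw [hQU]
    simp only [hQ]
    linarith
  have hrow : ∀ j, 0 < j → j ≤ 2 → ∑ x ∈ suppE B 4 cE, cE j x * ε x * Q x = 0 := by
    intro j j0 j1
    rw [← mul_zero (ε U), ← rowE C hM U (i := j) j0 (by omega), Finset.mul_sum]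
    refine Finset.sum_congr rfl fun x _ => ?_
    rcases hstd.sgn x with e | e <;> simp [hQ, e] <;> ring
  have e2 := hrow 2 two_pos le_rfl
  have e1 := hrow 1 one_pos one_le_two
  rw [hsum5] at e1 e2
  have hLm : L 1 ∈ suppE B 4 cE := (hstd.mem _).2 (Or.inr ⟨1, one_pos, by norm_num, rfl⟩)
  have hlong := hstd.long
  have hshort := hstd.short 1 one_pos (by norm_num)
  rw [show (4 : ℕ) / 2 = 2 from rfl] at hlong
  rw [hlong _ hLm, hlong A (hW A (by simp)), hlong B' (hW B' (by simp)), hlong C' (hW C' (by simp)),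
    hlong D (hW D (by simp))] at e2
  rw [hshort _ hLm, hshort A (hW A (by simp)), hshort B' (hW B' (by simp)),
    hshort C' (hW C' (by simp)), hshort D (hW D (by simp))] at e1
  simp [lA, lB, lC, lD, hAC.symm, hBC.symm, hAD.symm, hBD.symm, Ne.symm lC, Ne.symm lD] at e1 e2
  have hs : ∀ x, ε x * ε x = 1 := fun x => by
    rcases hstd.sgn x with e | e <;> rw [e] <;> norm_num
  simp only [hs, one_mul] at e1 e2
  have hsq : ∑ χ ∈ suppE B 4 cE, contrib 2 B U χ ^ 2 = ∑ χ ∈ suppE B 4 cE, Q χ ^ 2 :=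
    Finset.sum_congr rfl fun x _ => by
      rcases hstd.sgn U with e | e <;> rcases hstd.sgn x with e' | e' <;> simp [hQ, e, e']
  have hrl := row_sq C hM hφ
  rw [← Finset.sum_sdiff (suppE_subset C), hsq, hsum5, ← hQU] at hrl
  have hext : (16 : ℤ) * ((extras B 4 R cE cF).card : ℤ) ≤
      ∑ χ ∈ members B \ suppE B 4 cE, contrib 2 B U χ ^ 2 := by
    have hd : extras B 4 R cE cF = members B \ suppE B 4 cE := by
      rw [extras, Finset.union_eq_left.2 hsub]
    rw [← hd]
    have := Finset.card_nsmul_le_sum (extras B 4 R cE cF) (fun χ => contrib 2 B U χ ^ 2) 16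
      fun χ hχ => by simpa using extra_sq hM C hφ h0 hχ
    rwa [nsmul_eq_mul, mul_comm] at this
  push_cast at hrl
  by_contra hne
  have h1 : (1 : ℤ) ≤ ((extras B 4 R cE cF).card : ℤ) := by
    exact_mod_cast Nat.pos_of_ne_zero hne
  rcases hsplit with ⟨rfl, rfl⟩ | ⟨rfl, rfl⟩
  · have hl : Q (L 1) = -2 * Q U := by linarith
    have hd' : Q D = -2 * Q U - Q C' := by linarith
    rw [hl, hQV, hd'] at hrl
    nlinarith [sq_nonneg (Q U - 1), sq_nonneg (Q U + Q C')]
  · have hl : Q (L 1) = 2 * Q U := by linarith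
    have hd' : Q B' = -2 * Q U - Q A := by linarith
    rw [hl, hQV, hd'] at hrl
    nlinarith [sq_nonneg (Q U - 1), sq_nonneg (Q U + Q A)]

/-- With enough members beyond the rank the configuration is standard. -/
theorem exists_std (hl : 1 ≤ blockRank 2 B) (hk : blockRank 2 B + h + 1 ≤ (members B).card) :
    ∃ (A B' C' D : IrrCharacter G) (L : ℕ → IrrCharacter G) (ε : IrrCharacter G → ℤ),
      IsStd (suppE B h cE) cE (h / 2) A B' C' D L ε ∧
      Disjoint (suppE B h cE) (suppF B R cF) := by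
  rcases shapeE C with ⟨A, B', C', D, L, ε, hstd⟩ | ⟨h8, hexc⟩
  · rcases disjoint_or C hstd with hd | ⟨h4, hsub, hv⟩
    · exact ⟨A, B', C', D, L, ε, hstd, hd⟩
    · exfalso
      obtain ⟨k, hk'⟩ := (R_nonempty_iff C).2 (by omega)
      obtain ⟨he, hc⟩ := extras_overlap hM C hstd h4 hsub hk' (hv k hk')
      omega
  · exfalso
    obtain ⟨he, hc⟩ := extras_exc hM C h8 hexc
    have : 8 ≤ h := by omega
    omega

/-- Counts in the standard configuration. -/
theorem counts {A B' C' D : IrrCharacter G} {L : ℕ → IrrCharacter G} {ε : IrrCharacter G → ℤ}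
    (hstd : IsStd (suppE B h cE) cE (h / 2) A B' C' D L ε)
    (hdis : Disjoint (suppE B h cE) (suppF B R cF)) :
    (h = 2 → (members B).card = 4 + (extras B h R cE cF).card) ∧
      (4 ≤ h → (members B).card = h + 3 + (extras B h R cE cF).card ∧
        ((members B).filter fun χ : IrrCharacter G => blockHeight 2 B (χ : G → ℂ) = 1).card =
          h - 1) ∧
      ∀ χ ∈ B, blockHeight 2 B (χ : G → ℂ) = 0 ∨ blockHeight 2 B (χ : G → ℂ) = 1 ∨
        2 ^ blockHeight 2 B (χ : G → ℂ) = h := by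
  have hsplit := card_split C
  rw [Finset.card_union_of_disjoint hdis, card_suppE_std C hstd] at hsplit
  refine ⟨fun h2 => ?_, fun h4 => ?_, fun χ hχ => ?_⟩
  · have hR : R = ∅ := Finset.card_eq_zero.1 (by have := C.cardR; omega)
    have : suppF B R cF = ∅ := Finset.filter_eq_empty_iff.2 fun χ _ => by
      rintro ⟨k, hk, -⟩
      rw [hR] at hk
      exact Finset.notMem_empty k hk
    rw [this, Finset.card_empty] at hsplit
    omega
  · have hF := card_suppF C ((R_nonempty_iff C).2 h4)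
    have hR := C.cardR
    refine ⟨by omega, ?_⟩
    have hfil : ((members B).filter fun χ : IrrCharacter G => blockHeight 2 B (χ : G → ℂ) = 1) =
        (suppE B h cE ∪ suppF B R cF) \
          ((members B).filter fun χ : IrrCharacter G => blockHeight 2 B (χ : G → ℂ) = 0) := by
      ext χ
      rw [Finset.mem_filter, Finset.mem_sdiff, Finset.mem_filter]
      constructor
      · rintro ⟨hχ, h1⟩
        refine ⟨by_contra fun hn => ?_, fun h' => by omega⟩
        have := height_extra C (χ := χ) (Finset.mem_sdiff.2 ⟨hχ, hn⟩)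
        rw [h1] at this
        omega
      · rintro ⟨hχ, hn⟩
        have hm := Finset.union_subset (suppE_subset C) (suppF_subset C) hχ
        refine ⟨hm, ?_⟩
        rcases height_std C hstd hdis hχ with h' | ⟨-, h'⟩
        · exact absurd ⟨hm, h'⟩ hn
        · exact h'
    rw [hfil, Finset.card_sdiff_of_subset, Finset.card_union_of_disjoint hdis,
      card_suppE_std C hstd, hF, card_height_zero C]
    · omega
    · intro χ hχ
      rw [Finset.mem_filter] at hχ
      by_contra hn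
      have h1 := C.htpos χ (mem_members.1 hχ.1)
        (cE_eq_zero C hχ.1 (fun h' => hn (Finset.mem_union_left _ h')) (hpos C) le_rfl)
      omega
  · by_cases hm : χ ∈ suppE B h cE ∪ suppF B R cF
    · rcases height_std C hstd hdis hm with h' | ⟨-, h'⟩
      · exact Or.inl h'
      · exact Or.inr (Or.inl h')
    · exact Or.inr (Or.inr (height_extra C (Finset.mem_sdiff.2 ⟨mem_members.2 hχ, hm⟩)))

/-- The number of extra members is bounded by the row of a member of height zero. -/
theorem extras_bound {A B' C' D : IrrCharacter G} {L : ℕ → IrrCharacter G}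
    {ε : IrrCharacter G → ℤ} (hstd : IsStd (suppE B h cE) cE (h / 2) A B' C' D L ε)
    (hdis : Disjoint (suppE B h cE) (suppF B R cF)) :
    (h = 2 → (extras B h R cE cF).card ≤ 3) ∧ (4 ≤ h → (extras B h R cE cF).card ≤ 2) := by
  obtain ⟨hAC, hAD⟩ := hstd.hKW A (by simp)
  obtain ⟨hBC, hBD⟩ := hstd.hKW B' (by simp)
  have hW : ({A, B', C', D} : Finset (IrrCharacter G)) ⊆ suppE B h cE := fun x hx =>
    (hstd.mem x).2 (Or.inl hx)
  have hA := hW (show A ∈ _ by simp)
  have hφ : A ∈ B := mem_members.1 (suppE_subset C hA)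
  have h0 : blockHeight 2 B (A : G → ℂ) = 0 := C.ht0 A hφ (by
    rw [hstd.long A hA, if_pos (by simp)]
    rcases hstd.sgn A with e | e <;> rw [e] <;> norm_num)
  set Q : IrrCharacter G → ℤ := fun x => ε A * ε x * contrib 2 B A x with hQ
  have hQA : Q A = contrib 2 B A A := by rcases hstd.sgn A with e | e <;> simp [hQ, e]
  have hs : ∀ x, ε x * ε x = 1 := fun x => by
    rcases hstd.sgn x with e | e <;> rw [e] <;> norm_num
  have hS : suppE B h cE =
      ({A, B', C', D} : Finset (IrrCharacter G)) ∪ (Finset.Ico 1 (h / 2)).image L := by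
    ext x
    rw [hstd.mem x, Finset.mem_union, Finset.mem_image]
    simp only [Finset.mem_Ico, and_assoc, Nat.one_le_iff_ne_zero, Nat.pos_iff_ne_zero]
  have hdL : Disjoint ({A, B', C', D} : Finset (IrrCharacter G))
      ((Finset.Ico 1 (h / 2)).image L) := Finset.disjoint_right.2 fun x hx => by
    obtain ⟨j, hj, rfl⟩ := Finset.mem_image.1 hx
    rw [Finset.mem_Ico] at hj
    exact hstd.out j hj.1 hj.2
  have hlong : Q A + (Q B' + (Q C' + Q D)) = 0 := by
    have h1 := rowE C hM A (i := h / 2) (hpos C) le_rfl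
    rw [← Finset.sum_subset hW fun x hx hn => by rw [hstd.long x hx, if_neg hn, zero_mul],
      Finset.sum_congr rfl (g := fun x => ε A * Q x) fun x hx => by
        rw [hstd.long x (hW hx), if_pos hx, hQ]
        linear_combination (-ε x * contrib 2 B A x) * hs A,
      ← Finset.mul_sum, Finset.sum_insert (by simp [hstd.hAB, hAC, hAD]),
      Finset.sum_insert (by simp [hBC, hBD]), Finset.sum_pair hstd.hCD] at h1
    rcases hstd.sgn A with e | e <;> rw [e] at h1 <;> linarith
  have hleaf : ∀ j, 0 < j → j < h / 2 → Q (L j) + (Q A + Q B') = 0 := by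
    intro j j0 j1
    have ho := hstd.out j j0 j1
    simp only [Finset.mem_insert, Finset.mem_singleton, not_or] at ho
    have hsub : ({L j, A, B'} : Finset (IrrCharacter G)) ⊆ suppE B h cE := fun x hx => by
      simp only [Finset.mem_insert, Finset.mem_singleton] at hx
      rcases hx with rfl | rfl | rfl
      · exact (hstd.mem _).2 (Or.inr ⟨j, j0, j1, rfl⟩)
      · exact hA
      · exact hW (by simp)
    have h1 := rowE C hM A (i := j) j0 j1.le
    rw [← Finset.sum_subset hsub fun x hx hn => by rw [hstd.short j j0 j1 x hx, if_neg hn, zero_mul],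
      Finset.sum_congr rfl (g := fun x => ε A * Q x) fun x hx => by
        rw [hstd.short j j0 j1 x (hsub hx), if_pos hx, hQ]
        linear_combination (-ε x * contrib 2 B A x) * hs A,
      ← Finset.mul_sum, Finset.sum_insert (by simp [ho.1, ho.2.1]), Finset.sum_pair hstd.hAB] at h1
    rcases hstd.sgn A with e | e <;> rw [e] at h1 <;> linarith
  have hsq : ∑ χ ∈ suppE B h cE, contrib 2 B A χ ^ 2 =
      Q A ^ 2 + (Q B' ^ 2 + (Q C' ^ 2 + Q D ^ 2)) +
        ((h / 2 - 1 : ℕ) : ℤ) * (Q A + Q B') ^ 2 := by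
    rw [Finset.sum_congr rfl (g := fun x => Q x ^ 2) fun x _ => by
      rcases hstd.sgn A with e | e <;> rcases hstd.sgn x with e' | e' <;> simp [hQ, e, e'],
      hS, Finset.sum_union hdL, Finset.sum_insert (by simp [hstd.hAB, hAC, hAD]),
      Finset.sum_insert (by simp [hBC, hBD]), Finset.sum_pair hstd.hCD, Finset.sum_image]
    · congr 1
      rw [Finset.sum_congr rfl (g := fun _ => (Q A + Q B') ^ 2) fun j hj => by
        rw [Finset.mem_Ico] at hj
        rw [show Q (L j) = -(Q A + Q B') by linarith [hleaf j hj.1 hj.2], neg_sq],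
        Finset.sum_const, Nat.card_Ico, nsmul_eq_mul]
    · intro i hi j hj e
      rw [Finset.mem_coe, Finset.mem_Ico] at hi hj
      exact hstd.inj i j hi.1 hi.2 hj.1 hj.2 e
  have hrl := row_le hM C hφ h0 hdis
  rw [hsq, ← hQA] at hrl
  refine ⟨fun h2 => ?_, fun h4 => ?_⟩
  · subst h2
    norm_num at hrl
    have hnn : (0 : ℤ) ≤ ((suppF B R cF).card : ℤ) := Nat.cast_nonneg _
    have hD : Q D = -(Q A + Q B' + Q C') := by linarith
    rw [hD] at hrl
    have : ((extras B 2 R cE cF).card : ℤ) ≤ 3 := by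
      nlinarith [sq_nonneg (Q B' - Q C'), sq_nonneg (2 * Q B' + Q C' + Q A),
        sq_nonneg (3 * Q C' + Q A), sq_nonneg (Q A - 3)]
    exact_mod_cast this
  · have hF := card_suppF C ((R_nonempty_iff C).2 h4)
    have hcast : ((h / 2 - 1 : ℕ) : ℤ) * 2 = (h : ℤ) - 2 := by
      obtain ⟨k, hk⟩ := C.two_pow
      rcases k with _ | k
      · rw [pow_zero] at hk; omega
      · rw [pow_succ] at hk; omega
    have hF' : 2 * ((suppF B R cF).card : ℤ) = (h : ℤ) := by
      rw [hF]; exact_mod_cast C.cardR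
    have hD : Q D = -(Q A + Q B' + Q C') := by linarith
    rw [hD] at hrl
    set a := Q A
    set s := Q A + Q B' with hsdef
    have hb : Q B' = s - a := by rw [hsdef]; ring
    rw [hb] at hrl
    have hh : (4 : ℤ) ≤ (h : ℤ) := by exact_mod_cast h4
    have hmain : 2 * ((h : ℤ) ^ 2 * ((extras B h R cE cF).card : ℤ)) + (h : ℤ) * (s - 2) ^ 2 ≤
        4 * (h : ℤ) ^ 2 := by
      nlinarith [sq_nonneg (2 * Q C' + s), sq_nonneg (2 * a - s - 2 * (h : ℤ))]
    by_contra hgt
    have h3 : (3 : ℤ) ≤ ((extras B h R cE cF).card : ℤ) := by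
      exact_mod_cast (show 3 ≤ (extras B h R cE cF).card by omega)
    nlinarith [sq_nonneg (s - 2)]

/-- The invariants when `k = l + h + 2`. -/
theorem main (hk : (members B).card = blockRank 2 B + h + 2) :
    blockRank 2 B ≤ 3 ∧
      ((members B).filter fun χ : IrrCharacter G => blockHeight 2 B (χ : G → ℂ) = 0).card = 4 ∧
      (∀ χ ∈ B, blockHeight 2 B (χ : G → ℂ) = 0 ∨ blockHeight 2 B (χ : G → ℂ) = 1 ∨
        2 ^ blockHeight 2 B (χ : G → ℂ) = h) ∧
      (4 ≤ h →
        ((members B).filter fun χ : IrrCharacter G => blockHeight 2 B (χ : G → ℂ) = 1).card =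
          h - 1) := by
  haveI : Fact (Nat.Prime 2) := ⟨Nat.prime_two⟩
  have hl := BlockCyclicRank81.blockRank_pos hM C.hB
  obtain ⟨A, B', C', D, L, ε, hstd, hdis⟩ := exists_std hM C hl (by omega)
  obtain ⟨c2, c4, hts⟩ := counts hM C hstd hdis
  obtain ⟨b2, b4⟩ := extras_bound hM C hstd hdis
  refine ⟨?_, card_height_zero C, hts, fun h4 => (c4 h4).2⟩
  rcases (show h = 2 ∨ 4 ≤ h by
    obtain ⟨k, hk'⟩ := C.two_pow
    rcases k with _ | _ | k
    · rw [pow_zero] at hk'; have := C.two_le; omega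
    · rw [pow_one] at hk'; omega
    · rw [pow_succ, pow_succ] at hk'; have := Nat.one_le_two_pow (n := k); omega) with h2 | h4
  · have := c2 h2; have := b2 h2; omega
  · have := (c4 h4).1; have := b4 h4; omega

end Cfsg.Agent.MaxClassMain79
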