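import Mathlib
import Cfsg.Agent.Lib.BrauerPairs81Induced
import Cfsg.Agent.Lib.BlockCyclicRank81
import Cfsg.Agent.Lib.Star80Nilpotent
import Cfsg.Agent.Lib.CharInducedTI
import Cfsg.Agent.Lib.BlockTheoryDefect
import Cfsg.Agent.Lib.BlockContribBounds

/-!
# A 2-block whose defect group has a single involution

`k(B) - l(B)` is the same as for the block below it of the centraliser of the involution.
-/

set_option autoImplicit false
set_option linter.unusedSectionVars false

open scoped ComplexConjugate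

namespace Cfsg.Agent.MaxClassTransfer79

open Cfsg Cfsg.Agent.BlockTheoryIdem Cfsg.Agent.BlockTheoryDefect Cfsg.Agent.BlockContribBounds
open Cfsg.Agent.BrauerPairs81Base Cfsg.Agent.BrauerPairs81Pairs Cfsg.Agent.BrauerPairs81Conj
open Cfsg.Agent.BrauerPairs81Local Cfsg.Agent.BrauerPairs81Max Cfsg.Agent.BrauerPairs81Fusion

attribute [local instance] Classical.propDecidable

universe u

section Span

variable {H : Type u} [Group H] [Fintype H] {M : Ideal AlgInt} {b : Set (IrrCharacter H)}

/-- The restriction to the 2-regular elements, as a linear map. -/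
noncomputable def regLin (H : Type u) [Group H] : (H → ℂ) →ₗ[ℂ] (H → ℂ) where
  toFun f := pRegularPart 2 f
  map_add' f g := by
    funext x
    simp only [pRegularPart, Pi.add_apply]
    split_ifs <;> simp
  map_smul' c f := by
    funext x
    simp only [pRegularPart, Pi.smul_apply, smul_eq_mul, RingHom.id_apply]
    split_ifs <;> simp

/-- The span of a block. -/
noncomputable def blockSpan (b : Set (IrrCharacter H)) : Submodule ℂ (H → ℂ) :=
  Submodule.span ℂ ((fun χ : IrrCharacter H => (χ : H → ℂ)) '' b)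

/-- The combinations of the members of a block vanishing at the 2-regular elements. -/
noncomputable def vanSpan (b : Set (IrrCharacter H)) : Submodule ℂ (H → ℂ) :=
  blockSpan b ⊓ LinearMap.ker (regLin H)

theorem apply_eq_zero_of_mem {f : H → ℂ} (hf : f ∈ vanSpan b) {y : H} (hy : ¬ 2 ∣ orderOf y) :
    f y = 0 := by
  have h1 := congrFun (LinearMap.mem_ker.1 hf.2) y
  simpa [regLin, pRegularPart, IsPRegular, hy] using h1

theorem mem_vanSpan {f : H → ℂ} (h1 : f ∈ blockSpan b)
    (h2 : ∀ y : H, ¬ 2 ∣ orderOf y → f y = 0) : f ∈ vanSpan b := by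
  refine ⟨h1, LinearMap.mem_ker.2 (funext fun y => ?_)⟩
  show pRegularPart 2 f y = 0
  rw [pRegularPart]
  split_ifs with hy
  · exact h2 y hy
  · rfl

theorem finrank_vanSpan (b : Set (IrrCharacter H)) :
    Module.finrank ℂ (vanSpan b) + blockRank 2 b = (members b).card := by
  have hspan : Module.finrank ℂ (blockSpan b) = (members b).card := by
    rw [blockSpan, finrank_span_set_eq_card]
    · rw [Set.toFinset_image, Finset.card_image_of_injective]
      · rfl
      · exact Subtype.val_injective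
    · exact ((CharBasicOrth.linearIndependent_irr (G := H)).linearIndepOn b).id_image
  set R := (regLin H).domRestrict (blockSpan b) with hR
  have h1 := LinearMap.finrank_range_add_finrank_ker R
  rw [hspan] at h1
  have h2 : Module.finrank ℂ (LinearMap.range R) = blockRank 2 b := by
    have e : LinearMap.range R =
        Submodule.span ℂ ((fun χ : IrrCharacter H => pRegularPart 2 (χ : H → ℂ)) '' b) := by
      rw [hR, LinearMap.range_domRestrict, blockSpan, Submodule.map_span, ← Set.image_comp]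
      rfl
    rw [blockRank, e]
  have h3 : Module.finrank ℂ (LinearMap.ker R) = Module.finrank ℂ (vanSpan b) := by
    rw [hR, LinearMap.ker_domRestrict]
    have e : (LinearMap.ker (regLin H)).comap (blockSpan b).subtype =
        (vanSpan b).comap (blockSpan b).subtype := by
      ext x
      simp [vanSpan]
    rw [e]
    exact (Submodule.comapSubtypeEquivOfLe (show vanSpan b ≤ blockSpan b from inf_le_left)).finrank_eq
  omega

/-- A function vanishes where all the members do. -/
theorem apply_span {f : H → ℂ} (hf : f ∈ blockSpan b) {y : H}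
    (hy : ∀ χ ∈ b, (χ : H → ℂ) y = 0) : f y = 0 := by
  induction hf using Submodule.span_induction with
  | mem g hg =>
    obtain ⟨χ, hχ, rfl⟩ := hg
    exact hy χ hχ
  | zero => rfl
  | add g g' _ _ h h' => simp [h, h']
  | smul c g _ h => simp [h]

theorem classFun_span {f : H → ℂ} (hf : f ∈ blockSpan b) : IsClassFunction H f := by
  induction hf using Submodule.span_induction with
  | mem g hg =>
    obtain ⟨χ, -, rfl⟩ := hg
    exact BlockTheoryCentre.irr_classFun χ
  | zero => intro g k; rfl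
  | add g g' _ _ h h' => intro x k; simp [h x k, h' x k]
  | smul c g _ h => intro x k; simp [h x k]

theorem inner_span {f : H → ℂ} (hf : f ∈ blockSpan b) {χ : IrrCharacter H} (hχ : χ ∉ b) :
    classInner f (χ : H → ℂ) = 0 := by
  induction hf using Submodule.span_induction with
  | mem g hg =>
    obtain ⟨ψ, hψ, rfl⟩ := hg
    exact CharBasicOrth.classInner_irr_ne ψ.2 χ.2 fun e => hχ (Subtype.ext e ▸ hψ)
  | zero => simp [classInner]
  | add g g' _ _ h h' => rw [CharBasicOrth.classInner_add_left, h, h', add_zero]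
  | smul c g _ h => rw [CharBasicOrth.classInner_smul_left, h, mul_zero]

/-- The part of a function in a block. -/
noncomputable def bpart (b : Set (IrrCharacter H)) (f : H → ℂ) : H → ℂ :=
  ∑ ψ ∈ members b, classInner f (ψ : H → ℂ) • (ψ : H → ℂ)

theorem bpart_mem (b : Set (IrrCharacter H)) (f : H → ℂ) : bpart b f ∈ blockSpan b :=
  Submodule.sum_mem _ fun ψ hψ =>
    Submodule.smul_mem _ _ (Submodule.subset_span ⟨ψ, mem_members.1 hψ, rfl⟩)

theorem mem_span_of_inner {f : H → ℂ} (hf : IsClassFunction H f)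
    (h0 : ∀ χ : IrrCharacter H, χ ∉ b → classInner f (χ : H → ℂ) = 0) : f ∈ blockSpan b := by
  have e : f = bpart b f := by
    conv_lhs => rw [CharBasicOrth.eq_sum_classInner hf]
    exact (Finset.sum_subset (Finset.subset_univ _) fun χ _ hχ => by
      rw [h0 χ fun hm => hχ (mem_members.2 hm), zero_smul]).symm
  rw [e]
  exact bpart_mem b f

theorem bpart_apply (b : Set (IrrCharacter H)) {f : H → ℂ} (hf : IsClassFunction H f) (y : H) :
    bpart b f y = ∑ k : H, blockCoeff b k * f (k * y) := by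
  rw [BlockTheoryInduced.sum_blockCoeff_mul b hf, ← Finset.sum_filter, filter_eq_members, bpart,
    Finset.sum_apply]
  rfl

theorem bpart_regular (hM : IsPModular 2 M) (hb : IsPBlock M b) {f : H → ℂ}
    (hf : ∀ y : H, ¬ 2 ∣ orderOf y → f y = 0) {y : H} (hy : ¬ 2 ∣ orderOf y) : bpart b f y = 0 := by
  haveI : Fact (Nat.Prime 2) := ⟨Nat.prime_two⟩
  simp only [bpart, Finset.sum_apply, Pi.smul_apply, smul_eq_mul, classInner, mul_assoc,
    Finset.sum_mul, ← Finset.mul_sum]
  rw [Finset.sum_comm]
  refine mul_eq_zero_of_right _ (Finset.sum_eq_zero fun k _ => ?_)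
  by_cases hk : 2 ∣ orderOf k
  · have h1 := weak_orthogonality hM hb hy hk
    rw [← Finset.sum_filter, filter_eq_members] at h1
    rw [← mul_zero (f k), ← h1, Finset.mul_sum]
    exact Finset.sum_congr rfl fun χ _ => by ring
  · exact Finset.sum_eq_zero fun χ _ => by rw [hf k hk, zero_mul]

theorem inner_bpart {φ g : H → ℂ} (hφ : φ ∈ blockSpan b) (hg : IsClassFunction H g) :
    classInner φ g = classInner φ (bpart b g) := by
  conv_lhs => rw [CharBasicOrth.eq_sum_classInner hg]
  rw [bpart, CharBasicOrth.classInner_sum_right, CharBasicOrth.classInner_sum_right]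
  refine (Finset.sum_subset (Finset.subset_univ _) fun χ _ hχ => ?_).symm
  rw [CharBasicOrth.classInner_smul_right, inner_span hφ fun hm => hχ (mem_members.2 hm), mul_zero]

end Span

section Elements

variable {G : Type u} [Group G] [Fintype G]

/-- The 2-part of an element is one of its powers. -/
theorem part_mem_zpowers {x z : G} (hz : IsPPart 2 x z) : z ∈ Subgroup.zpowers x := by
  obtain ⟨y, hzy, hc, ⟨k, hk⟩, hy⟩ := hz
  obtain ⟨m, hm⟩ := exists_pow_eq_self_of_coprime (x := z) (n := orderOf y)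
    (show Nat.Coprime (orderOf y) (orderOf z) by
      rw [hk]
      exact ((Nat.prime_two.coprime_iff_not_dvd.2 hy).pow_left k).symm)
  refine ⟨((orderOf y * m : ℕ) : ℤ), ?_⟩
  show x ^ ((orderOf y * m : ℕ) : ℤ) = z
  rw [zpow_natCast, pow_mul, ← hzy, hc.mul_pow, pow_orderOf_eq_one, mul_one, hm]

/-- An involution among the powers of an element is a power of its 2-part. -/
theorem mem_zpowers_part {J x z : G} (hJ : orderOf J = 2) (hx : J ∈ Subgroup.zpowers x)
    (hz : IsPPart 2 x z) : J ∈ Subgroup.zpowers z := by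
  obtain ⟨y, hzy, hc, -, hy⟩ := hz
  obtain ⟨i, rfl⟩ := hx
  have hJ2 : (x ^ i) ^ 2 = 1 := by
    rw [← hJ]; exact pow_orderOf_eq_one _
  obtain ⟨m, hm⟩ : Odd (orderOf y) := Nat.odd_iff.mpr (by omega)
  have e1 : (x ^ i) ^ orderOf y = x ^ i := by
    rw [hm, pow_succ, pow_mul, hJ2, one_pow, one_mul]
  refine ⟨i * (orderOf y : ℤ), ?_⟩
  show z ^ (i * (orderOf y : ℤ)) = x ^ i
  have e2 : (z * y) ^ (i * (orderOf y : ℤ)) = z ^ (i * (orderOf y : ℤ)) := by
    rw [hc.mul_zpow, mul_comm i, zpow_mul y, zpow_natCast, pow_orderOf_eq_one, one_zpow, mul_one]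
  rw [← e2, hzy, zpow_mul, zpow_natCast, e1]

/-- Two involutions in one cyclic group agree. -/
theorem eq_of_mem_zpowers {x a c : G} (ha : a ∈ Subgroup.zpowers x) (hc : c ∈ Subgroup.zpowers x)
    (ha2 : orderOf a = 2) (hc2 : orderOf c = 2) : a = c := by
  set Z := Subgroup.zpowers x
  by_contra hne
  have hco : Commute a c := by
    obtain ⟨i, rfl⟩ := ha
    obtain ⟨j, rfl⟩ := hc
    exact (Commute.refl x).zpow_zpow i j
  have hcyc : IsCyclic Z := inferInstance
  have h1 : (Finset.univ.filter fun w : Z => w ^ 2 = 1).card ≤ 2 :=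
    IsCyclic.card_pow_eq_one_le two_pos
  have h2 : ({1, (⟨a, ha⟩ : Z), (⟨c, hc⟩ : Z)} : Finset Z) ⊆
      Finset.univ.filter fun w : Z => w ^ 2 = 1 := by
    intro w hw
    refine Finset.mem_filter.2 ⟨Finset.mem_univ _, ?_⟩
    simp only [Finset.mem_insert, Finset.mem_singleton] at hw
    rcases hw with rfl | rfl | rfl
    · exact one_pow 2
    · exact Subtype.ext (by rw [Subgroup.coe_pow, ← ha2]; exact pow_orderOf_eq_one a)
    · exact Subtype.ext (by rw [Subgroup.coe_pow, ← hc2]; exact pow_orderOf_eq_one c)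
  have h3 := (Finset.card_le_card h2).trans h1
  have ha1 : a ≠ 1 := fun e => by rw [e, orderOf_one] at ha2; omega
  have hc1 : c ≠ 1 := fun e => by rw [e, orderOf_one] at hc2; omega
  rw [Finset.card_insert_of_notMem, Finset.card_pair] at h3
  · omega
  · exact fun e => hne (congrArg Subtype.val e)
  · simp [Subtype.ext_iff, Ne.symm ha1, Ne.symm hc1]

end Elements

section Transfer

variable {G : Type u} [Group G] [Fintype G] {M : Ideal AlgInt} {B : Set (IrrCharacter G)}
  {D : Subgroup G} {J : G}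

/-- An element below the involution centralises it. -/
theorem mem_cen {x : G} (hx : J ∈ Subgroup.zpowers x) : x ∈ Cen (Subgroup.zpowers J) := by
  rw [BlockCyclicRank81.centralizer_zpowers]
  obtain ⟨i, rfl⟩ := hx
  exact (Commute.refl x).zpow_left i

/-- Where a member is nonzero at a singular element, the involution lies below a conjugate. -/
theorem exists_conj_above (hM : IsPModular 2 M) (hB : IsPBlock M B) (hD : IsDefectGroup 2 M B D)
    (huniq : ∀ u ∈ D, u * u = 1 → u = 1 ∨ u = J) {χ : IrrCharacter G} (hχ : χ ∈ B) {x : G}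
    (hx : 2 ∣ orderOf x) (hne : (χ : G → ℂ) x ≠ 0) :
    ∃ g : G, J ∈ Subgroup.zpowers (g * x * g⁻¹) := by
  haveI : Fact (Nat.Prime 2) := ⟨Nat.prime_two⟩
  obtain ⟨z, y, hzy, hc, ⟨k, hk⟩, hy⟩ := BlockTheoryIdem.exists_pPart hM.1 x
  have hpart : IsPPart 2 x z := ⟨y, hzy, hc, ⟨k, hk⟩, hy⟩
  have hle : ConjLe (Subgroup.zpowers z) D := by
    by_contra hn
    refine hne (eq_zero_of_pPart_notMem hM χ hpart ?_ hn)
    rwa [show blockOf M (χ : G → ℂ) = B from (BlockTheoryIdem.eq_blockOf_of_mem hM hB hχ).symm]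
  obtain ⟨g, hg⟩ := hle
  have hgz : g * z * g⁻¹ ∈ D := hg ⟨z, Subgroup.mem_zpowers z, rfl⟩
  rcases k with _ | k
  · rw [pow_zero, orderOf_eq_one_iff] at hk
    rw [hk, one_mul] at hzy
    exact absurd (hzy ▸ hx) hy
  have ho : orderOf (g * z * g⁻¹) = 2 ^ (k + 1) := by
    rw [← hk]; exact MulEquiv.orderOf_eq (MulAut.conj g) z
  have hJ : (g * z * g⁻¹) ^ 2 ^ k = J := by
    refine (huniq _ (pow_mem hgz _) ?_).resolve_left fun e => ?_
    · rw [← pow_add, ← two_mul, ← pow_succ', ← ho, pow_orderOf_eq_one]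
    · have h1 := orderOf_dvd_of_pow_eq_one e
      rw [ho, Nat.pow_dvd_pow_iff_le_right one_lt_two] at h1
      omega
  refine ⟨g, hJ ▸ Subgroup.pow_mem _ ?_ _⟩
  obtain ⟨i, hi⟩ := part_mem_zpowers hpart
  refine ⟨i, ?_⟩
  show (g * x * g⁻¹) ^ i = g * z * g⁻¹
  rw [conj_zpow, show x ^ i = z from hi]

/-- The transfer. -/
theorem transfer (hM : IsPModular 2 M) (hB : IsPBlock M B) (hD : IsDefectGroup 2 M B D)
    (hJD : J ∈ D) (hJ2 : orderOf J = 2) (huniq : ∀ u ∈ D, u * u = 1 → u = 1 ∨ u = J) :
    D ≤ Cen (Subgroup.zpowers J) ∧ ∃ b : Set (IrrCharacter (Cen (Subgroup.zpowers J))),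
      IsPBlock M b ∧ IsDefectGroup 2 M b (D.subgroupOf (Cen (Subgroup.zpowers J))) ∧
      (members B).card + blockRank 2 b = (members b).card + blockRank 2 B := by
  haveI : Fact (Nat.Prime 2) := ⟨Nat.prime_two⟩
  set Q := Subgroup.zpowers J with hQ
  have hQD : Q ≤ D := Subgroup.zpowers_le.2 hJD
  have hJJ : J * J = 1 := by rw [← pow_two, ← hJ2, pow_orderOf_eq_one]
  have hJ1 : J ≠ 1 := fun e => by rw [e, orderOf_one] at hJ2; omega
  have hconjJ : ∀ {g : G}, g * J * g⁻¹ ∈ D → g * J * g⁻¹ = J := fun {g} hg => by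
    refine (huniq _ hg ?_).resolve_left fun e => hJ1 (conj_eq_one_iff.1 e)
    rw [show g * J * g⁻¹ * (g * J * g⁻¹) = g * (J * J) * g⁻¹ by group, hJJ, mul_one, mul_inv_cancel]
  have hDQ : D ≤ Cen Q := fun u hu => by
    rw [hQ, BlockCyclicRank81.centralizer_zpowers]
    exact (mul_inv_eq_iff_eq_mul.1 (hconjJ (D.mul_mem (D.mul_mem hu hJD) (D.inv_mem hu)))).symm
  refine ⟨hDQ, ?_⟩
  obtain ⟨c, hc⟩ := Star80Nilpotent.exists_maximal hM hB hD
  obtain ⟨b, hb⟩ := exists_subpair hM hc.1.1 hQD
  obtain ⟨c₀, hc₀, -⟩ := BrauerPairs81Induced.exists_maximal_cen hM hc hQD hDQ hb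
  have hind := BlockCyclicRank81.induced_of_pairOf hM (isBrauerPairOf_down hM hb hc.1)
  have hbB : IsPBlock M b := hind.1
  have hDC := isDefectGroup_of_maximal hM hc₀
  refine ⟨b, hbB, hDC, ?_⟩
  have hQp : IsPGroup 2 Q := BrauerPairs81Nilpotent.isPGroup_zpowers (k := 1) (by rw [hJ2, pow_one])
  -- only `b` induces `B`
  have honly : ∀ b' : Set (IrrCharacter (Cen Q)), IsInducedBlock M (Cen Q) b' B → b' = b := by
    intro b' hb'
    have hp := BrauerPairs81Induced.isBrauerPairOf_of_induced hM hQp hb'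
    obtain ⟨g, hg⟩ := exists_conj_subpairLE hM hc hp
    have hgJ : g * J * g⁻¹ ∈ D :=
      subgroup_le_of_subpairLE hg ⟨J, Subgroup.mem_zpowers J, rfl⟩
    have hgC : g ∈ Cen Q := by
      rw [hQ, BlockCyclicRank81.centralizer_zpowers]
      exact (mul_inv_eq_iff_eq_mul.1 (hconjJ hgJ)).symm
    have h1 : PLE 2 M (cP g ⟨Q, b'⟩) ⟨D, c⟩ := hg
    rw [cP_self_of_cen b' hgC] at h1
    have h2 := ple_unique hM hc.1.1 h1 (show PLE 2 M ⟨Q, b⟩ ⟨D, c⟩ from hb) rfl
    simpa using h2
  -- at the elements below the involution the second main theorem leaves only `b`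
  set S : Set G := {x | J ∈ Subgroup.zpowers x} with hS
  have hsm : ∀ (b' : Set (IrrCharacter (Cen Q))) (B' : Set (IrrCharacter G)),
      IsInducedBlock M (Cen Q) b' B' → ∀ χ : IrrCharacter G, χ ∉ B' → ∀ x : (Cen Q), (x : G) ∈ S →
        bpart b' (fun y : (Cen Q) => (χ : G → ℂ) y) x = 0 := by
    intro b' B' hb' χ hχ x hx
    rw [bpart_apply b' (fun y k => BlockTheoryCentre.irr_classFun χ (y : G) (k : G))]
    refine Eq.trans (Finset.sum_congr rfl fun k _ => ?_)
      (BlockTheoryInduced.second_main_sum (Cen Q) hM hb' x (fun z hz g hg => ?_) χ hχ)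
    · rfl
    · rw [hQ, BlockCyclicRank81.centralizer_zpowers]
      obtain ⟨i, hi⟩ := mem_zpowers_part hJ2 hx hz
      rw [Subgroup.mem_centralizer_singleton_iff] at hg
      rw [← show z ^ i = J from hi]
      exact (show Commute g z from hg).symm.zpow_left i
  have hpart : ∀ χ ∈ B, ∀ x : (Cen Q), (x : G) ∈ S →
      (χ : G → ℂ) x = bpart b (fun y : (Cen Q) => (χ : G → ℂ) y) x := by
    intro χ hχ x hx
    set r : (Cen Q) → ℂ := fun y => (χ : G → ℂ) y
    have hr : IsClassFunction (Cen Q) r := fun y k => BlockTheoryCentre.irr_classFun χ (y : G) (k : G)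
    have h1 : r x = ∑ ψ : IrrCharacter (Cen Q), classInner r (ψ : (Cen Q) → ℂ) * (ψ : (Cen Q) → ℂ) x := by
      conv_lhs => rw [CharBasicOrth.eq_sum_classInner hr]
      simp only [Finset.sum_apply, Pi.smul_apply, smul_eq_mul]
    have h2 : ∀ b' : Set (IrrCharacter (Cen Q)), bpart b' r x =
        ∑ ψ ∈ members b', classInner r (ψ : (Cen Q) → ℂ) * (ψ : (Cen Q) → ℂ) x := fun b' => by
      simp only [bpart, Finset.sum_apply, Pi.smul_apply, smul_eq_mul]
    show r x = _
    rw [h1, ← Finset.sum_fiberwise_of_maps_to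
      (t := Finset.univ.image fun ψ : IrrCharacter (Cen Q) => blockOf M (ψ : (Cen Q) → ℂ))
      (g := fun ψ : IrrCharacter (Cen Q) => blockOf M (ψ : (Cen Q) → ℂ))
      (fun ψ hψ => Finset.mem_image_of_mem _ hψ)]
    have hfib : ∀ b' : Set (IrrCharacter (Cen Q)), IsPBlock M b' →
        (Finset.univ.filter fun ψ : IrrCharacter (Cen Q) => blockOf M (ψ : (Cen Q) → ℂ) = b') = members b' := by
      intro b' hb'
      ext ψ
      rw [Finset.mem_filter, mem_members]
      exact ⟨fun e => e.2 ▸ self_mem_blockOf hM ψ,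
        fun h => ⟨Finset.mem_univ _, (BlockTheoryIdem.eq_blockOf_of_mem hM hb' h).symm⟩⟩
    rw [Finset.sum_eq_single b]
    · rw [hfib b hbB, h2]
    · intro b' hb' hne
      obtain ⟨ψ, -, rfl⟩ := Finset.mem_image.1 hb'
      rw [hfib _ (isPBlock_blockOf ψ), ← h2]
      obtain ⟨B', hB'⟩ := BlockTheoryInduced.inducedBlockDefined (Cen Q) hM hQp
        (show Q ≤ (Cen Q) from hQD.trans hDQ) le_rfl
        (Subgroup.centralizer_le_normalizer _) (isPBlock_blockOf ψ)
      refine hsm _ B' hB' χ (fun hm => hne (honly _ ?_)) x hx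
      rwa [show B = B' from by
        rw [BlockTheoryIdem.eq_blockOf_of_mem hM hB hχ, BlockTheoryIdem.eq_blockOf_of_mem hM hB'.2.1 hm]]
    · intro hn
      refine absurd ?_ hn
      obtain ⟨η, hη⟩ := block_nonempty hM hbB
      exact Finset.mem_image.2 ⟨η, Finset.mem_univ _, (BlockTheoryIdem.eq_blockOf_of_mem hM hbB hη).symm⟩
  have hTI : ∀ g : G, g ∉ (Cen Q) → ∀ t ∈ S, g * t * g⁻¹ ∈ S → t = 1 := by
    intro g hg t ht ht'
    refine absurd ?_ hg
    rw [hQ, BlockCyclicRank81.centralizer_zpowers]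
    obtain ⟨i, hi⟩ := ht
    have h1 : g * J * g⁻¹ ∈ Subgroup.zpowers (g * t * g⁻¹) :=
      ⟨i, by show (g * t * g⁻¹) ^ i = _; rw [conj_zpow, show t ^ i = J from hi]⟩
    have h2 : g * J * g⁻¹ = J := eq_of_mem_zpowers h1 ht'
      (by rw [← hJ2]; exact MulEquiv.orderOf_eq (MulAut.conj g) J) hJ2
    exact (mul_inv_eq_iff_eq_mul.1 h2).symm
  -- the span of `b` lives on the elements below the involution
  have hsupp : ∀ φ ∈ vanSpan b, ∀ x : (Cen Q), (x : G) ∉ S → φ x = 0 := by
    intro φ hφ x hx
    by_cases hodd : 2 ∣ orderOf x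
    · refine apply_span hφ.1 fun ψ hψ => ?_
      by_contra hne
      have huC : ∀ u ∈ D.subgroupOf (Cen Q), u * u = 1 → u = 1 ∨ u = (⟨J, hDQ hJD⟩ : (Cen Q)) := by
        intro u hu e
        exact (huniq u hu (congrArg Subtype.val e)).imp (fun h => Subtype.ext h) fun h => Subtype.ext h
      obtain ⟨g, i, hi⟩ := exists_conj_above hM hbB hDC huC hψ hodd hne
      refine hx ⟨i, ?_⟩
      have h1 : (g : G) * (x : G) ^ i * (g : G)⁻¹ = J := by
        have h2 := congrArg Subtype.val hi
        simp only [conj_zpow, Subgroup.coe_mul, Subgroup.coe_inv, Subgroup.coe_zpow] at h2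
        exact h2
      have h3 : Commute J (g : G) := (BlockCyclicRank81.centralizer_zpowers J (g : G)).1 g.2
      show (x : G) ^ i = J
      calc (x : G) ^ i = (g : G)⁻¹ * J * g := by rw [← h1]; group
        _ = J := by rw [mul_assoc, h3.eq, inv_mul_cancel_left]
    · exact apply_eq_zero_of_mem hφ hodd
  have hindS : ∀ φ ∈ vanSpan b, ∀ x : (Cen Q), (x : G) ∈ S → indFun (Cen Q) φ (x : G) = φ x := by
    intro φ hφ x hx
    refine CharInduced.ind_eq_of_ti S (Cen Q) hTI φ (classFun_span hφ.1) (hsupp φ hφ) x hx fun e => hJ1 ?_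
    subst e
    simpa [hS, Subgroup.zpowers_one_eq_bot] using hx
  have hup : ∀ φ ∈ vanSpan b, indFun (Cen Q) φ ∈ vanSpan B := by
    intro φ hφ
    refine mem_vanSpan (mem_span_of_inner (CharInduced.isClassFunction_ind (Cen Q) φ) fun χ hχ => ?_)
      fun y hy => CharInduced.ind_eq_zero_of_vanish (Cen Q) φ y fun x k hk => ?_
    · rw [CharInduced.inner_ind_left (Cen Q) φ (BlockTheoryCentre.irr_classFun χ),
        inner_bpart hφ.1 (fun y k => BlockTheoryCentre.irr_classFun χ (y : G) (k : G)), classInner]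
      refine mul_eq_zero_of_right _ (Finset.sum_eq_zero fun x _ => ?_)
      by_cases hx : (x : G) ∈ S
      · rw [hsm b B hind χ hχ x hx, map_zero, mul_zero]
      · rw [hsupp φ hφ x hx, zero_mul]
    · refine apply_eq_zero_of_mem hφ ?_
      rw [← Subgroup.orderOf_coe, ← hk, show x⁻¹ * y * x = MulAut.conj x⁻¹ y by simp,
        MulEquiv.orderOf_eq]
      exact hy
  have hdown : ∀ f ∈ vanSpan B, bpart b (fun y : (Cen Q) => f y) ∈ vanSpan b := by
    intro f hf
    refine mem_vanSpan (bpart_mem _ _) fun y hy =>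
      bpart_regular hM hbB (fun k hk => apply_eq_zero_of_mem hf (by rwa [Subgroup.orderOf_coe])) hy
  -- both maps are injective
  have h1 : Module.finrank ℂ (vanSpan b) ≤ Module.finrank ℂ (vanSpan B) := by
    let U : vanSpan b →ₗ[ℂ] vanSpan B :=
      { toFun := fun φ => ⟨indFun (Cen Q) φ.1, hup φ.1 φ.2⟩
        map_add' := fun φ φ' => Subtype.ext (CharInduced.ind_add (Cen Q) (φ : (Cen Q) → ℂ) φ')
        map_smul' := fun a φ => Subtype.ext (CharInduced.ind_smul (Cen Q) a (φ : (Cen Q) → ℂ)) }
    refine LinearMap.finrank_le_finrank_of_injective (f := U) ?_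
    rw [← LinearMap.ker_eq_bot, LinearMap.ker_eq_bot']
    intro φ hφ
    refine Subtype.ext (funext fun x => ?_)
    by_cases hx : (x : G) ∈ S
    · rw [← hindS φ.1 φ.2 x hx]
      exact congrFun (congrArg Subtype.val hφ) (x : G)
    · exact hsupp φ.1 φ.2 x hx
  have h2 : Module.finrank ℂ (vanSpan B) ≤ Module.finrank ℂ (vanSpan b) := by
    let T : vanSpan B →ₗ[ℂ] vanSpan b :=
      { toFun := fun f => ⟨bpart b (fun y : (Cen Q) => (f.1) y), hdown f.1 f.2⟩
        map_add' := fun f f' => Subtype.ext (by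
          simp only [bpart, Submodule.coe_add, Pi.add_apply]
          rw [← Finset.sum_add_distrib]
          refine Finset.sum_congr rfl fun ψ _ => ?_
          rw [← add_smul, ← CharBasicOrth.classInner_add_left]
          rfl)
        map_smul' := fun a f => Subtype.ext (by
          simp only [bpart, Submodule.coe_smul, Pi.smul_apply, smul_eq_mul, RingHom.id_apply,
            Finset.smul_sum, smul_smul]
          refine Finset.sum_congr rfl fun ψ _ => ?_
          rw [← CharBasicOrth.classInner_smul_left]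
          rfl) }
    refine LinearMap.finrank_le_finrank_of_injective (f := T) ?_
    rw [← LinearMap.ker_eq_bot, LinearMap.ker_eq_bot']
    intro f hf
    refine Subtype.ext (funext fun y => ?_)
    show f.1 y = 0
    by_cases hy : 2 ∣ orderOf y
    · by_cases hg : ∃ g : G, J ∈ Subgroup.zpowers (g * y * g⁻¹)
      · obtain ⟨g, hg⟩ := hg
        set x : (Cen Q) := ⟨g * y * g⁻¹, mem_cen hg⟩ with hx
        rw [← classFun_span f.2.1 y g]
        -- at such an element a member equals its part in `b`
        have hlin : ∀ v ∈ blockSpan B, v (x : G) = bpart b (fun z : (Cen Q) => v z) x := by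
          intro v hv
          induction hv using Submodule.span_induction with
          | mem v hv =>
            obtain ⟨χ, hχ, rfl⟩ := hv
            exact hpart χ hχ x hg
          | zero => simp [bpart, classInner]
          | add v w _ _ ih ih' =>
            rw [Pi.add_apply, ih, ih', bpart, bpart, bpart]
            simp only [Finset.sum_apply, ← Finset.sum_add_distrib, Pi.smul_apply, smul_eq_mul,
              ← add_mul, ← CharBasicOrth.classInner_add_left]
            rfl
          | smul a v _ ih =>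
            rw [Pi.smul_apply, ih, bpart, bpart]
            simp only [Finset.sum_apply, Pi.smul_apply, smul_eq_mul, Finset.mul_sum, ← mul_assoc,
              ← CharBasicOrth.classInner_smul_left]
            rfl
        exact (hlin f.1 f.2.1).trans (congrFun (congrArg Subtype.val hf) x)
      · refine apply_span f.2.1 fun χ hχ => ?_
        by_contra hne
        exact hg (exists_conj_above hM hB hD huniq hχ hy hne)
    · exact apply_eq_zero_of_mem f.2 hy
  have e1 := finrank_vanSpan B
  have e2 := finrank_vanSpan b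
  omega

end Transfer

end Cfsg.Agent.MaxClassTransfer79
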