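import Mathlib
import Cfsg.Agent.Lib.MaxClassTransfer79
import Cfsg.Agent.Lib.MaxClassLocal79
import Cfsg.Agent.Lib.KleinFourDefect79
import Cfsg.Agent.Lib.BlockSubsections79

/-!
# Semidihedral defect group with central involution: the involutions outside the rotations

They form one class below the maximal pair, and the block of their centraliser there has rank one.
-/

set_option autoImplicit false
set_option linter.unusedSectionVars false

namespace Cfsg.Agent.MaxClassSemiInvol79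

open Cfsg Cfsg.Agent.MaxClassGroup79 Cfsg.Agent.BlockTheoryDefect Cfsg.Agent.BlockTheoryIdem
open Cfsg.Agent.BrauerPairs81Base Cfsg.Agent.BrauerPairs81Pairs Cfsg.Agent.BrauerPairs81Conj
open Cfsg.Agent.BrauerPairs81Local Cfsg.Agent.BrauerPairs81Max Cfsg.Agent.BrauerPairs81Fusion

attribute [local instance] Classical.propDecidable

universe u

section Group

variable {H : Type u} [Group H] [Fintype H] {P : Subgroup H} {s : H} {h q : ℕ}

theorem sq_mem_rot (hd : MC h q P s) {u : H} (hu : u ∈ P) : u * u ∈ Subgroup.zpowers s := by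
  by_cases hr : u ∈ Subgroup.zpowers s
  · exact mul_mem hr hr
  · rcases (hd.refl u hu hr).2 with e | e <;> rw [e]
    · exact one_mem _
    · exact Subgroup.npow_mem_zpowers s h

/-- An element of the group with square not one has the involution among its powers. -/
theorem J_mem_zpowers (hd : MC h q P s) {u : H} (hu : u ∈ P) (hne : u * u ≠ 1) :
    s ^ h ∈ Subgroup.zpowers u := by
  haveI : Fact (Nat.Prime 2) := ⟨Nat.prime_two⟩
  obtain ⟨n, hn⟩ := hd.two_pow
  have hp : IsPGroup 2 P := IsPGroup.of_card (n := n + 2) (by rw [hd.card, hn, pow_add]; ring)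
  obtain ⟨k, hk⟩ : ∃ k, orderOf u = 2 ^ k := by
    obtain ⟨k, hk⟩ := IsPGroup.iff_orderOf.mp hp ⟨u, hu⟩
    exact ⟨k, by rwa [Subgroup.orderOf_mk] at hk⟩
  obtain ⟨k, rfl⟩ : ∃ j, k = j + 2 := by
    refine ⟨k - 2, ?_⟩
    by_contra hlt
    refine hne ?_
    have h1 : orderOf u ∣ 2 := hk ▸ ((Nat.pow_dvd_pow_iff_le_right one_lt_two).2
      (show k ≤ 1 by omega)).trans (dvd_of_eq (pow_one 2))
    rw [← pow_two]
    exact orderOf_dvd_iff_pow_eq_one.1 h1
  have e1 : u ^ 2 ^ (k + 1) = u ^ 2 ^ k * u ^ 2 ^ k := by rw [← pow_add, pow_succ]; ring_nf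
  have hm : u ^ 2 ^ (k + 1) ∈ Subgroup.zpowers s := e1 ▸ sq_mem_rot hd (pow_mem hu _)
  have h2 : u ^ 2 ^ (k + 1) * u ^ 2 ^ (k + 1) = 1 := by
    rw [← pow_add, ← two_mul, ← pow_succ', show k + 1 + 1 = k + 2 from rfl, ← hk, pow_orderOf_eq_one]
  rcases sq_one_rot hd hm h2 with e | e
  · exfalso
    have h3 := orderOf_dvd_of_pow_eq_one e
    rw [hk, Nat.pow_dvd_pow_iff_le_right one_lt_two] at h3
    omega
  · exact ⟨((2 ^ (k + 1) : ℕ) : ℤ), by
      show u ^ ((2 ^ (k + 1) : ℕ) : ℤ) = s ^ h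
      rw [zpow_natCast, e]⟩

/-- Some element outside the rotations is an involution. -/
theorem exists_invol (hd : MC h q P s) (hq : q + 1 = h) :
    ∃ y ∈ P, y ∉ Subgroup.zpowers s ∧ y * y = 1 := by
  obtain ⟨u, hu, hur⟩ := hd.exists_refl
  obtain ⟨h1, h2⟩ := hd.refl u hu hur
  rcases h2 with h2 | h2
  · exact ⟨u, hu, hur, h2⟩
  refine ⟨u * s, mul_mem hu hd.mem, fun hm => hur ?_, ?_⟩
  · simpa using mul_mem hm (inv_mem (Subgroup.mem_zpowers s))
  · calc u * s * (u * s) = (u * s * u⁻¹) * (u * u) * s := by group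
      _ = s ^ q * s ^ h * s := by rw [h1, h2]
      _ = 1 := by
        rw [← pow_add, ← pow_succ, show q + h + 1 = 2 * h by omega, pow_two_h hd]

/-- All of them are conjugate in the group. -/
theorem conj_invol (hd : MC h q P s) (hq : q + 1 = h) (h4 : 4 ≤ h) {y z : H} (hy : y ∈ P)
    (hyr : y ∉ Subgroup.zpowers s) (hy2 : y * y = 1) (hz : z ∈ P)
    (hzr : z ∉ Subgroup.zpowers s) (hz2 : z * z = 1) : ∃ d ∈ P, d * y * d⁻¹ = z := by
  have hyi : y⁻¹ = y := inv_eq_of_mul_eq_one_left hy2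
  have hyz : y * z ∈ Subgroup.zpowers s := by
    by_contra hn
    -- the product of two elements sending `s` to `s ^ q` fixes `s`
    have h1 := (hd.refl _ (mul_mem hy hz) hn).1
    have h2 : y * z * s * (y * z)⁻¹ = s ^ (q * q) := by
      calc y * z * s * (y * z)⁻¹ = y * (z * s * z⁻¹) * y⁻¹ := by group
        _ = s ^ (q * q) := by rw [(hd.refl z hz hzr).1, ← conj_pow, (hd.refl y hy hyr).1, ← pow_mul]
    rw [h1, pow_eq_pow hd] at h2
    have h3 := sq_q hd 1
    rw [mul_one] at h3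
    rw [← h2, Nat.mod_eq_of_lt (show q < 2 * h by omega), Nat.mod_eq_of_lt (by omega)] at h3
    omega
  obtain ⟨a, -, ha⟩ := exists_pow hd hyz
  have hzy : z = y * s ^ a := by rw [← ha, ← mul_assoc, hy2, one_mul]
  have hconj : y * s ^ a * y⁻¹ = s ^ (q * a) := by
    rw [← conj_pow, (hd.refl y hy hyr).1, ← pow_mul]
  have heven : 2 ∣ a := by
    have h5 : s ^ (q * a + a) = 1 := by
      calc s ^ (q * a + a) = (y * s ^ a * y⁻¹) * s ^ a := by rw [pow_add, hconj]
        _ = z * z := by rw [hzy, hyi]; group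
        _ = 1 := hz2
    obtain ⟨c, hc⟩ := orderOf_dvd_of_pow_eq_one h5
    rw [hd.order, show q * a + a = (q + 1) * a by ring, hq,
      show 2 * h * c = h * (2 * c) by ring] at hc
    exact ⟨c, mul_left_cancel₀ (by omega) hc⟩
  obtain ⟨j, rfl⟩ := heven
  obtain ⟨r, hr⟩ := four_dvd hd h4
  have hcop : (2 * r - 1).Coprime h := by
    obtain ⟨k, hk⟩ := hd.two_pow
    rw [hk]
    exact ((Nat.prime_two.coprime_iff_not_dvd.2 (by omega)).symm).pow_right k
  obtain ⟨m, -, hm⟩ := Nat.exists_mul_mod_eq_one_of_coprime hcop (by omega)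
  set c := m * j with hc
  refine ⟨s ^ c, pow_mem hd.mem c, ?_⟩
  rw [hzy]
  have h6 : s ^ c * y = y * s ^ (q * c) := by
    calc s ^ c * y = y * (y * s ^ c * y⁻¹) := by rw [← mul_assoc, ← mul_assoc, hy2, one_mul, hyi]
      _ = y * s ^ (q * c) := by rw [← conj_pow, (hd.refl y hy hyr).1, ← pow_mul]
  rw [h6, mul_assoc, mul_right_inj, mul_inv_eq_iff_eq_mul, ← pow_add, pow_eq_pow hd]
  have h7 : 2 * (2 * r - 1) * c % (2 * h) = 2 * j % (2 * h) := by
    rw [show 2 * (2 * r - 1) * c = 2 * (((2 * r - 1) * m) * j) by rw [hc]; ring,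
      Nat.mul_mod_mul_left, Nat.mul_mod_mul_left, Nat.mul_mod, hm, one_mul, Nat.mod_mod]
  rw [show q * c = 2 * (2 * r - 1) * c + c by
    rw [show q = 2 * (2 * r - 1) + 1 by omega]; ring, Nat.add_mod, h7, ← Nat.add_mod]

/-- What commutes with such an involution. -/
theorem cen_invol (hd : MC h q P s) (hq : q + 1 = h) (h4 : 4 ≤ h) {z : H} (hz : z ∈ P)
    (hzr : z ∉ Subgroup.zpowers s) (hz2 : z * z = 1) {w : H} (hw : w ∈ P) (hwz : Commute w z) :
    w = 1 ∨ w = s ^ h ∨ w = z ∨ w = s ^ h * z := by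
  have hrot : ∀ v ∈ Subgroup.zpowers s, Commute v z → v = 1 ∨ v = s ^ h := by
    intro v hv hvz
    refine sq_one_rot hd hv ?_
    obtain ⟨a, -, rfl⟩ := exists_pow hd hv
    have h1 : s ^ (q * a) = s ^ a := by
      rw [pow_mul, ← (hd.refl z hz hzr).1, conj_pow, hvz.symm.eq, mul_inv_cancel_right]
    -- the twisted exponent agrees with the exponent
    rw [pow_eq_pow hd] at h1
    obtain ⟨r, hr⟩ := four_dvd hd h4
    have h2 : 2 * h ∣ 2 * (2 * r - 1) * a := by
      rw [show q * a = 2 * (2 * r - 1) * a + a by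
        rw [show q = 2 * (2 * r - 1) + 1 by omega]; ring] at h1
      have h1' : 2 * (2 * r - 1) * a + a ≡ 0 + a [MOD 2 * h] := by rw [zero_add]; exact h1
      exact Nat.modEq_zero_iff_dvd.1 (Nat.ModEq.add_right_cancel' a h1')
    rw [mul_assoc, Nat.mul_dvd_mul_iff_left two_pos] at h2
    have hcop : h.Coprime (2 * r - 1) := by
      obtain ⟨k, hk⟩ := hd.two_pow
      rw [hk]
      exact (Nat.prime_two.coprime_iff_not_dvd.2 (by omega)).pow_left k
    obtain ⟨c, hc⟩ := hcop.dvd_of_dvd_mul_left h2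
    rw [← pow_add, hc, show h * c + h * c = 2 * h * c by ring, pow_mul, pow_two_h hd, one_pow]
  by_cases hr : w ∈ Subgroup.zpowers s
  · rcases hrot w hr hwz with e | e
    · exact Or.inl e
    · exact Or.inr (Or.inl e)
  · have hm : w * z ∈ Subgroup.zpowers s := by
      by_contra hn
      have h1 := (hd.refl _ (mul_mem hw hz) hn).1
      have h2 : w * z * s * (w * z)⁻¹ = s ^ (q * q) := by
        calc w * z * s * (w * z)⁻¹ = w * (z * s * z⁻¹) * w⁻¹ := by group
          _ = s ^ (q * q) := by rw [(hd.refl z hz hzr).1, ← conj_pow, (hd.refl w hw hr).1, ← pow_mul]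
      rw [h1, pow_eq_pow hd] at h2
      have h3 := sq_q hd 1
      rw [mul_one] at h3
      rw [← h2, Nat.mod_eq_of_lt (show q < 2 * h by omega), Nat.mod_eq_of_lt (by omega)] at h3
      omega
    have hwe : w = w * z * z := by rw [mul_assoc, hz2, mul_one]
    rcases hrot _ hm (hwz.mul_left (Commute.refl z)) with e | e
    · exact Or.inr (Or.inr (Or.inl (by rw [hwe, e, one_mul])))
    · exact Or.inr (Or.inr (Or.inr (by rw [hwe, e])))

end Group

section Block

variable {H : Type u} [Group H] [Fintype H] {M : Ideal AlgInt} {b : Set (IrrCharacter H)}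
  {D : Subgroup H} {h q : ℕ} {σ y : H}

variable (hM : IsPModular 2 M) (hb : IsPBlock M b) (hD : IsDefectGroup 2 M b D)
  (hd : MC h q D σ) (hq : q + 1 = h) (h4 : 4 ≤ h) (hJ : σ ^ h ∈ Subgroup.center H)
  (hy : y ∈ D) (hyr : y ∉ Subgroup.zpowers σ) (hy2 : y * y = 1)
include hM hb hD hd hq h4 hJ hy hyr hy2

/-- One block of the centraliser of the involution induces `b`, and it has rank one. -/
theorem pair_unique : ∃ e : Set (IrrCharacter (Cen (Subgroup.zpowers y))),
    IsInducedBlock M (Cen (Subgroup.zpowers y)) e b ∧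
      (∀ e', IsInducedBlock M (Cen (Subgroup.zpowers y)) e' b → e' = e) ∧ blockRank 2 e = 1 := by
  haveI : Fact (Nat.Prime 2) := ⟨Nat.prime_two⟩
  set J := σ ^ h with hJdef
  have hy1 : y ≠ 1 := fun e => hyr (e ▸ one_mem _)
  have hyJ : y ≠ J := fun e => hyr (e ▸ Subgroup.npow_mem_zpowers σ h)
  have hyo : orderOf y = 2 := orderOf_eq_prime (by rw [pow_two, hy2]) hy1
  have hJo : orderOf J = 2 := by
    rw [hJdef, orderOf_pow' _ (by omega), hd.order, Nat.gcd_mul_left_left,
      Nat.mul_div_cancel _ (by omega)]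
  have hJc : ∀ g : H, g * J = J * g := fun g => Subgroup.mem_center_iff.1 hJ g
  obtain ⟨c, hc⟩ := Star80Nilpotent.exists_maximal hM hb hD
  obtain ⟨e, he⟩ := exists_subpair hM hc.1.1 (Subgroup.zpowers_le.2 hy)
  have hind := BlockCyclicRank81.induced_of_pairOf hM (isBrauerPairOf_down hM he hc.1)
  have hYp : IsPGroup 2 (Subgroup.zpowers y) :=
    BrauerPairs81Nilpotent.isPGroup_zpowers (k := 1) (by rw [hyo, pow_one])
  -- a conjugate of `y` in the group is an involution outside the rotations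
  have hrefl : ∀ g : H, g * y * g⁻¹ ∈ D →
      g * y * g⁻¹ ∉ Subgroup.zpowers σ ∧ g * y * g⁻¹ * (g * y * g⁻¹) = 1 := by
    intro g hg
    have h1 : g * y * g⁻¹ * (g * y * g⁻¹) = 1 := by
      rw [show g * y * g⁻¹ * (g * y * g⁻¹) = g * (y * y) * g⁻¹ by group, hy2, mul_one, mul_inv_cancel]
    refine ⟨fun hm => ?_, h1⟩
    rcases sq_one_rot hd hm h1 with e1 | e1
    · exact hy1 (conj_eq_one_iff.1 e1)
    · refine hyJ ?_
      calc y = g⁻¹ * (g * y * g⁻¹) * g := by group
        _ = g⁻¹ * J * g := by rw [e1]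
        _ = J := by rw [mul_assoc, ← hJc g, inv_mul_cancel_left]
  refine ⟨e, hind, fun e' he' => ?_, ?_⟩
  · have hp := BrauerPairs81Induced.isBrauerPairOf_of_induced hM hYp he'
    obtain ⟨g, hg⟩ := exists_conj_subpairLE hM hc hp
    have hgy : g * y * g⁻¹ ∈ D := subgroup_le_of_subpairLE hg ⟨y, Subgroup.mem_zpowers y, rfl⟩
    obtain ⟨hg1, hg2⟩ := hrefl g hgy
    obtain ⟨d, hdD, hdy⟩ := conj_invol hd hq h4 hy hyr hy2 hgy hg1 hg2
    have hcomm : d⁻¹ * g ∈ Cen (Subgroup.zpowers y) := by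
      rw [BlockCyclicRank81.centralizer_zpowers]
      show y * (d⁻¹ * g) = d⁻¹ * g * y
      calc y * (d⁻¹ * g) = d⁻¹ * (d * y * d⁻¹) * g := by group
        _ = d⁻¹ * g * y := by rw [hdy]; group
    have h1 : PLE 2 M (cP g ⟨_, e'⟩) ⟨D, c⟩ := hg
    have h2 := ple_cP d⁻¹ h1
    rw [cP_cP, cP_self_of_cen e' hcomm,
      show cP d⁻¹ (⟨D, c⟩ : BrauerPairIdx H) = ⟨D, c⟩ from cP_top_of_mem (inv_mem hdD)] at h2
    have h3 := ple_unique hM hc.1.1 h2 (show PLE 2 M ⟨_, e⟩ ⟨D, c⟩ from he) rfl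
    simpa using h3
  · -- the block of the centraliser has a central four group as defect group
    set K := Cen (Subgroup.zpowers y) with hK
    have hyK : y ∈ K := (BlockCyclicRank81.centralizer_zpowers y y).2 (Commute.refl y)
    have hJK : J ∈ K := (BlockCyclicRank81.centralizer_zpowers y J).2 (hJc y)
    have hcy : (⟨y, hyK⟩ : K) ∈ Subgroup.center K := Subgroup.mem_center_iff.2 fun g =>
      Subtype.ext ((BlockCyclicRank81.centralizer_zpowers y g).1 g.2).eq.symm
    have hcJ : (⟨J, hJK⟩ : K) ∈ Subgroup.center K := Subgroup.mem_center_iff.2 fun g =>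
      Subtype.ext (hJc g)
    obtain ⟨R, hR⟩ := exists_defectGroup hM hind.1
    obtain ⟨f, hf⟩ := Star80Nilpotent.exists_maximal hM hind.1 hR
    have hin : ∀ w : K, w ∈ Subgroup.center K → orderOf w = 2 → w ∈ R := by
      intro w hw hwo
      haveI : (Subgroup.zpowers w).Normal := ⟨fun x hx g => by
        rw [Subgroup.mem_center_iff.1 (Subgroup.zpowers_le.2 hw hx) g, mul_inv_cancel_right]
        exact hx⟩
      exact normal_le_defectGroup hM hind.1 hR (Subgroup.zpowers w)
        (IsPGroup.of_card (n := 1) (by rw [Nat.card_zpowers, hwo, pow_one]))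
        (Subgroup.mem_zpowers w)
    have hyR := hin _ hcy (by rw [Subgroup.orderOf_mk, hyo])
    have hJR := hin _ hcJ (by rw [Subgroup.orderOf_mk, hJo])
    have hCR : Cen (R.map K.subtype) ≤ K := centralizer_le (Subgroup.zpowers_le.2 ⟨_, hyR, rfl⟩)
    have hup := BlockPiKernel.pair_up hM hind hf.1 hCR
    obtain ⟨g, hg⟩ := exists_conj_subpairLE hM hc hup
    have hgR : ∀ w ∈ R, g * (w : H) * g⁻¹ ∈ D := fun w hw =>
      subgroup_le_of_subpairLE hg ⟨_, ⟨w, hw, rfl⟩, rfl⟩
    have hgy := hgR _ hyR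
    obtain ⟨hg1, hg2⟩ := hrefl g hgy
    have hfour : ∀ w ∈ R, w = 1 ∨ w = ⟨J, hJK⟩ ∨ w = ⟨y, hyK⟩ ∨ w = ⟨J, hJK⟩ * ⟨y, hyK⟩ := by
      intro w hw
      have hcw : Commute (g * (w : H) * g⁻¹) (g * y * g⁻¹) := by
        have h1 : y * (w : H) = (w : H) * y := (BlockCyclicRank81.centralizer_zpowers y w).1 w.2
        show g * (w : H) * g⁻¹ * (g * y * g⁻¹) = g * y * g⁻¹ * (g * (w : H) * g⁻¹)
        calc g * (w : H) * g⁻¹ * (g * y * g⁻¹) = g * ((w : H) * y) * g⁻¹ := by group
          _ = g * (y * (w : H)) * g⁻¹ := by rw [h1]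
          _ = _ := by group
      have hback : ∀ v : H, g * (w : H) * g⁻¹ = v → (w : H) = g⁻¹ * v * g := fun v e1 => by
        rw [← e1]; group
      have hgJ : g⁻¹ * J * g = J := by rw [mul_assoc, ← hJc g, inv_mul_cancel_left]
      rcases cen_invol hd hq h4 hgy hg1 hg2 (hgR w hw) hcw with e1 | e1 | e1 | e1
      · exact Or.inl (Subtype.ext ((hback 1 e1).trans (by group; rfl)))
      · exact Or.inr (Or.inl (Subtype.ext ((hback _ e1).trans hgJ)))
      · exact Or.inr (Or.inr (Or.inl (Subtype.ext ((hback _ e1).trans (by group)))))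
      · refine Or.inr (Or.inr (Or.inr (Subtype.ext ((hback _ e1).trans ?_))))
        show g⁻¹ * (J * (g * y * g⁻¹)) * g = J * y
        calc g⁻¹ * (J * (g * y * g⁻¹)) * g = (g⁻¹ * J * g) * y := by group
          _ = J * y := by rw [hgJ]
    have hJ2 : (⟨J, hJK⟩ : K) * ⟨J, hJK⟩ = 1 := Subtype.ext (by
      show J * J = 1
      rw [← pow_two, ← hJo, pow_orderOf_eq_one])
    have hY2 : (⟨y, hyK⟩ : K) * ⟨y, hyK⟩ = 1 := Subtype.ext hy2
    have hset : (R : Set K).toFinset =
        {1, ⟨J, hJK⟩, ⟨y, hyK⟩, ⟨J, hJK⟩ * ⟨y, hyK⟩} := by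
      ext w
      simp only [Set.mem_toFinset, SetLike.mem_coe, Finset.mem_insert, Finset.mem_singleton]
      refine ⟨hfour w, ?_⟩
      rintro (rfl | rfl | rfl | rfl)
      exacts [one_mem _, hJR, hyR, mul_mem hJR hyR]
    have hcard : Nat.card R = 4 := by
      have h1 : Nat.card R = (R : Set K).toFinset.card := by
        rw [← Set.ncard_eq_toFinset_card']
        exact (Nat.card_coe_set_eq _)
      rw [h1, hset]
      have hJ1 : J ≠ 1 := fun e1 => by rw [e1, orderOf_one] at hJo; omega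
      rw [Finset.card_insert_of_notMem, Finset.card_insert_of_notMem, Finset.card_insert_of_notMem,
        Finset.card_singleton]
      · simp only [Finset.mem_singleton, Subtype.ext_iff, Subgroup.coe_mul]
        intro e1
        exact hJ1 (by simpa using e1.symm)
      · simp only [Finset.mem_insert, Finset.mem_singleton, Subtype.ext_iff, Subgroup.coe_mul, not_or]
        refine ⟨Ne.symm hyJ, fun e1 => hy1 ?_⟩
        simpa using e1
      · simp only [Finset.mem_insert, Finset.mem_singleton, Subtype.ext_iff, Subgroup.coe_mul,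
          Subgroup.coe_one, not_or]
        refine ⟨Ne.symm hJ1, Ne.symm hy1, fun e1 => hyJ ?_⟩
        calc y = J * J * y := by rw [← pow_two, ← hJo, pow_orderOf_eq_one, one_mul]
          _ = J := by rw [mul_assoc, ← e1, mul_one]
    have hV : IsKleinFour R := by
      haveI : Nontrivial R := by rw [← Finite.one_lt_card_iff_nontrivial, hcard]; norm_num
      refine ⟨hcard, (Monoid.exponent_eq_prime_iff Nat.prime_two).2 fun x hx =>
        orderOf_eq_prime (hp := ⟨Nat.prime_two⟩) (Subtype.ext ?_) hx⟩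
      rw [Subgroup.coe_pow, pow_two, Subgroup.coe_one]
      rcases hfour x x.2 with e1 | e1 | e1 | e1 <;> rw [e1]
      · exact one_mul 1
      · exact hJ2
      · exact hY2
      · rw [(show Commute (⟨y, hyK⟩ : K) (⟨J, hJK⟩ : K) from
          Subgroup.mem_center_iff.1 hcJ _).mul_mul_mul_comm, hJ2, hY2, one_mul]
    have hRc : ∀ g : K, g ∈ Cen R := fun g => Subgroup.mem_centralizer_iff.2 fun w hw => by
      have hwc : w ∈ Subgroup.center K := by
        rcases hfour w hw with e1 | e1 | e1 | e1 <;> rw [e1]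
        exacts [one_mem _, hcJ, hcy, mul_mem hcJ hcy]
      exact (Subgroup.mem_center_iff.1 hwc g).symm
    obtain ⟨-, -, h1⟩ := KleinFourDefect79.inertial hM hf hV
      (stab (⟨R, f⟩ : BrauerPairIdx K)) (fun _ => Iff.rfl) _ rfl
    rw [h1]
    exact Subgroup.relIndex_eq_one.2 fun g _ => hRc g

end Block

end Cfsg.Agent.MaxClassSemiInvol79
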