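import Mathlib
import Cfsg.Agent.Lib.MaxClassSemiInvol79
import Cfsg.Agent.Lib.MaxClassCentral79
import Cfsg.Agent.Lib.BlockContribSection

/-!
# Semidihedral defect group with central involution: the vanishing combinations below the involution

At least `h + 1` of them are independent, and the block has rank at most two.
-/

set_option autoImplicit false
set_option linter.unusedSectionVars false

open scoped ComplexConjugate

namespace Cfsg.Agent.MaxClassSemiLocal79

open Cfsg Cfsg.Agent.MaxClassGroup79 Cfsg.Agent.MaxClassBlock79 Cfsg.Agent.MaxClassTransfer79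
open Cfsg.Agent.MaxClassSemiInvol79
open Cfsg.Agent.BlockTheoryIdem Cfsg.Agent.BlockTheoryDefect Cfsg.Agent.BlockTheoryCentre
open Cfsg.Agent.BlockContrib Cfsg.Agent.BlockContribBounds
open Cfsg.Agent.BlockSubsections79

attribute [local instance] Classical.propDecidable

universe u

variable {G : Type u} [Group G] [Fintype G] {K : Subgroup G}

/-- The functions supported on the elements with `J` among their powers. -/
def suppSub (J : K) : Submodule ℂ (K → ℂ) where
  carrier := {φ | ∀ x : K, J ∉ Subgroup.zpowers x → φ x = 0}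
  add_mem' := fun ha hb x hx => by simp [ha x hx, hb x hx]
  zero_mem' := fun _ _ => rfl
  smul_mem' := fun c a ha x hx => by simp [ha x hx]

variable {M : Ideal AlgInt} {b : Set (IrrCharacter K)} {D : Subgroup K} {h q : ℕ} {σ : K}

variable (hM : IsPModular 2 M) (hb : IsPBlock M b) (hD : IsDefectGroup 2 M b D)
  (hd : MC h q D σ) (hq : q + 1 = h) (h4 : 4 ≤ h) (hJ : σ ^ h ∈ Subgroup.center K)
include hM hb hD hd hq h4 hJ

/-- A singular element where a member is nonzero and the involution is no power lies in the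
section of an involution outside the rotations. -/
theorem section_invol {y : K} (hy : y ∈ D) (hyr : y ∉ Subgroup.zpowers σ) (hy2 : y * y = 1)
    {χ : IrrCharacter K} (hχ : χ ∈ b) {x : K} (hx : 2 ∣ orderOf x)
    (hne : (χ : K → ℂ) x ≠ 0) (hJx : σ ^ h ∉ Subgroup.zpowers x) :
    ∃ g : K, ∃ s : Subgroup.centralizer ({y} : Set K),
      ¬ 2 ∣ orderOf s ∧ g * x * g⁻¹ = y * (s : K) := by
  haveI : Fact (Nat.Prime 2) := ⟨Nat.prime_two⟩
  obtain ⟨z, w, hzw, hc, hzo, hw⟩ := BlockTheoryIdem.exists_pPart hM.1 x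
  have hpart : IsPPart 2 x z := ⟨w, hzw, hc, hzo, hw⟩
  have hle : ConjLe (Subgroup.zpowers z) D := by
    by_contra hn
    refine hne (eq_zero_of_pPart_notMem hM χ hpart ?_ hn)
    rwa [show blockOf M (χ : K → ℂ) = b from (eq_blockOf_of_mem hM hb hχ).symm]
  obtain ⟨g, hg⟩ := hle
  have hgz : g * z * g⁻¹ ∈ D := hg ⟨z, Subgroup.mem_zpowers z, rfl⟩
  have hback : σ ^ h ∈ Subgroup.zpowers (g * z * g⁻¹) → False := by
    rintro ⟨i, hi⟩
    obtain ⟨j, hj⟩ := part_mem_zpowers hpart
    refine hJx ⟨j * i, ?_⟩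
    show x ^ (j * i) = σ ^ h
    have h1 : g * z ^ i * g⁻¹ = σ ^ h := by rw [← conj_zpow]; exact hi
    rw [zpow_mul, show x ^ j = z from hj]
    calc z ^ i = g⁻¹ * (g * z ^ i * g⁻¹) * g := by group
      _ = σ ^ h := by rw [h1, mul_assoc, ← Subgroup.mem_center_iff.1 hJ g, inv_mul_cancel_left]
  have hz2 : g * z * g⁻¹ * (g * z * g⁻¹) = 1 := by
    by_contra h1
    exact hback (J_mem_zpowers hd hgz h1)
  have hzr : g * z * g⁻¹ ∉ Subgroup.zpowers σ := by
    intro hm
    rcases sq_one_rot hd hm hz2 with e | e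
    · refine hw ?_
      rw [conj_eq_one_iff.1 e, one_mul] at hzw
      rwa [hzw]
    · exact hback (by rw [← e]; exact Subgroup.mem_zpowers _)
  obtain ⟨d, -, hdy⟩ := conj_invol hd hq h4 hgz hzr hz2 hy hyr hy2
  have hzy : d * g * z * (d * g)⁻¹ = y := by rw [← hdy]; group
  have hs : d * g * w * (d * g)⁻¹ ∈ Subgroup.centralizer ({y} : Set K) := by
    rw [Subgroup.mem_centralizer_singleton_iff, ← hzy]
    calc d * g * w * (d * g)⁻¹ * (d * g * z * (d * g)⁻¹) = d * g * (w * z) * (d * g)⁻¹ := by group
      _ = d * g * (z * w) * (d * g)⁻¹ := by rw [hc.eq]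
      _ = _ := by group
  refine ⟨d * g, ⟨_, hs⟩, ?_, ?_⟩
  · rw [Subgroup.orderOf_mk, show d * g * w * (d * g)⁻¹ = MulAut.conj (d * g) w from rfl,
      MulEquiv.orderOf_eq]
    exact hw
  · show d * g * x * (d * g)⁻¹ = y * (d * g * w * (d * g)⁻¹)
    rw [← hzy, ← hzw]
    group

/-- Independent vanishing combinations supported below the involution. -/
theorem local_bounds :
    h + 1 ≤ Module.finrank ℂ (vanSpan b ⊓ suppSub (σ ^ h) : Submodule ℂ (K → ℂ)) ∧
      blockRank 2 b ≤ 2 := by
  haveI : Fact (Nat.Prime 2) := ⟨Nat.prime_two⟩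
  set J := σ ^ h with hJdef
  set W : Submodule ℂ (K → ℂ) := vanSpan b ⊓ suppSub J with hWdef
  have hk := MaxClassCentral79.card_central hM hb hD hd hJ
  have hV : Module.finrank ℂ (vanSpan b) = h + 2 := by
    have := finrank_vanSpan b
    omega
  have hJo : orderOf J = 2 := MaxClassCentral79.order_J hd
  have hJJ : J * J = 1 := by rw [← pow_two, ← hJo, pow_orderOf_eq_one]
  have hJcomm : ∀ g : K, g * J = J * g := fun g => Subgroup.mem_center_iff.1 hJ g
  obtain ⟨y, hy, hyr, hy2⟩ := exists_invol hd hq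
  have hy1 : y ≠ 1 := fun e => hyr (e ▸ one_mem _)
  have hyo : orderOf y = 2 := orderOf_eq_prime (by rw [pow_two, hy2]) hy1
  have hJy : J ∉ Subgroup.zpowers y := by
    intro hm
    have := eq_of_mem_zpowers hm (Subgroup.mem_zpowers y) hJo hyo
    exact hyr (this ▸ Subgroup.npow_mem_zpowers σ h)
  -- the block of the centraliser of that involution
  obtain ⟨e, hind, honly, hrank⟩ : ∃ e : Set (IrrCharacter (Subgroup.centralizer ({y} : Set K))),
      IsInducedBlock M (Subgroup.centralizer ({y} : Set K)) e b ∧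
        (∀ e', IsInducedBlock M (Subgroup.centralizer ({y} : Set K)) e' b → e' = e) ∧
          blockRank 2 e = 1 := by
    have key : ∀ L : Subgroup K, L = BrauerPairs81Base.Cen (Subgroup.zpowers y) →
        ∃ e : Set (IrrCharacter L), IsInducedBlock M L e b ∧
          (∀ e', IsInducedBlock M L e' b → e' = e) ∧ blockRank 2 e = 1 := by
      rintro L rfl
      exact pair_unique hM hb hD hd hq h4 hJ hy hyr hy2
    refine key _ ?_
    ext g
    rw [BlockCyclicRank81.centralizer_zpowers, Subgroup.mem_centralizer_singleton_iff]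
    exact ⟨fun e => e.symm, fun e => e.symm⟩
  have hyp : ∃ k, orderOf y = 2 ^ k := ⟨1, by rw [hyo, pow_one]⟩
  set ρ : vanSpan b →ₗ[ℂ] regSpan 2 e :=
    LinearMap.codRestrict _ (((proj 2 e).comp (sec y)).comp (vanSpan b).subtype) fun φ => proj_mem _ _
    with hρ
  have hρker : (LinearMap.ker ρ).map (vanSpan b).subtype ≤ W := by
    rintro _ ⟨φ, hφ, rfl⟩
    refine ⟨φ.2, fun x hx => ?_⟩
    show (φ : K → ℂ) x = 0
    by_cases hodd : 2 ∣ orderOf x
    swap
    · exact apply_eq_zero_of_mem φ.2 hodd
    by_cases hex : ∀ χ ∈ b, (χ : K → ℂ) x = 0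
    · exact apply_span φ.2.1 hex
    push Not at hex
    obtain ⟨χ, hχ, hne⟩ := hex
    obtain ⟨g, s, hs, hgs⟩ := section_invol hM hb hD hd hq h4 hJ hy hyr hy2 hχ hodd hne hx
    rw [← classFun_span φ.2.1 x g, hgs]
    show sec y (φ : K → ℂ) s = 0
    refine eq_zero_of_proj hM (isClassFunction_sec (classFun_span φ.2.1) y) (fun e' he' => ?_) hs
    by_cases hee : e' = e
    · subst hee
      exact congrArg Subtype.val (LinearMap.mem_ker.1 hφ)
    obtain ⟨B', hB'⟩ := inducedBlockDefined_centralizer hM hyp he'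
    have hlin : ∀ v ∈ blockSpan b, proj 2 e' (sec y v) = 0 := by
      intro v hv
      induction hv using Submodule.span_induction with
      | mem v hv =>
        obtain ⟨ξ, hξ, rfl⟩ := hv
        refine proj_sec_eq_zero hM hyp hB' fun hm => hee (honly _ ?_)
        rwa [show b = B' by rw [eq_blockOf_of_mem hM hb hξ, eq_blockOf_of_mem hM hB'.2.1 hm]]
      | zero => simp
      | add v w _ _ ih ih' => rw [map_add, map_add, ih, ih', add_zero]
      | smul c v _ ih => rw [map_smul, map_smul, ih, smul_zero]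
    exact hlin _ φ.2.1
  have hup : Module.finrank ℂ (vanSpan b) ≤ Module.finrank ℂ W + 1 := by
    have h1 := LinearMap.finrank_range_add_finrank_ker ρ
    have h2 : Module.finrank ℂ (LinearMap.range ρ) ≤ 1 := by
      refine (Submodule.finrank_le _).trans (le_of_eq ?_)
      exact hrank
    have h3 := Submodule.finrank_mono hρker
    rw [(Submodule.equivMapOfInjective _ (vanSpan b).injective_subtype (LinearMap.ker ρ)).finrank_eq.symm]
      at h3
    omega
  -- some combination lives on the section of that involution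
  have hlt : W < vanSpan b := by
    refine lt_of_le_of_ne inf_le_left fun heq => ?_
    set f : K → ℂ := ∑ χ ∈ members b, conj ((χ : K → ℂ) y) • (χ : K → ℂ) with hf
    have hfV : f ∈ vanSpan b := by
      refine mem_vanSpan (Submodule.sum_mem _ fun χ hχ => Submodule.smul_mem _ _
        (Submodule.subset_span ⟨χ, mem_members.1 hχ, rfl⟩)) fun r hr => ?_
      rw [hf, Finset.sum_apply]
      have h1 := weak_orthogonality hM hb hr (y := y) (by rw [hyo])
      rw [← Finset.sum_filter, filter_eq_members] at h1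
      rw [← h1]
      exact Finset.sum_congr rfl fun χ _ => by rw [Pi.smul_apply, smul_eq_mul, mul_comm]
    have hf0 : f y = 0 := (heq.ge hfV).2 y hJy
    rw [hf, Finset.sum_apply] at hf0
    have h1 := BlockContribSection.sum_block_section (H := Subgroup.centralizer ({y} : Set K))
      (fun g => by
        rw [Subgroup.mem_centralizer_singleton_iff]
        exact ⟨fun e1 => e1.symm, fun e1 => e1.symm⟩) hM hyp hb
      (s := 1) (t := 1) (by rw [orderOf_one]; norm_num) (by rw [orderOf_one]; norm_num)
    rw [← Finset.sum_filter, filter_eq_members, Subgroup.coe_one, mul_one] at h1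
    simp only [Pi.smul_apply, smul_eq_mul] at hf0
    rw [Finset.sum_congr rfl (g := fun χ : IrrCharacter K => conj ((χ : K → ℂ) y) * (χ : K → ℂ) y)
      fun χ _ => mul_comm _ _, hf0] at h1
    have h2 := congrArg Complex.re h1
    rw [Complex.zero_re, Complex.re_sum] at h2
    obtain ⟨ψ, hψ⟩ := block_nonempty hM hind.1
    refine absurd h2 (ne_of_lt (Finset.sum_pos' (fun η _ => ?_) ⟨ψ, Finset.mem_univ _, ?_⟩))
    · split_ifs
      · rw [Complex.mul_conj, Complex.ofReal_re]; exact Complex.normSq_nonneg _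
      · simp
    · rw [← eq_blockOf_of_mem hM hind.1 hψ, if_pos hind, Complex.mul_conj, Complex.ofReal_re,
        Complex.normSq_pos]
      exact irr_one_ne_zero ψ
  -- the columns and the translates of the regular parts
  obtain ⟨N, bN, P, eN, s, χ₀, S, hs, -⟩ := MaxClassLocal79.exists_sect hM hb hD hd
  have hζ := Complex.isPrimitiveRoot_exp (2 * h) (by omega)
  obtain ⟨cE, cF, C, hreg, -⟩ := exists_cols hM S hζ
  set R := (oddReps h q).erase 1 with hR
  let col : (Finset.Icc 1 (h / 2) ⊕ R) → IrrCharacter K → ℤ :=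
    Sum.elim (fun i => cE i) fun k => cF k
  let v : (Finset.Icc 1 (h / 2) ⊕ R) → (K → ℂ) := fun i =>
    ∑ χ ∈ members b, (col i χ : ℂ) • (χ : K → ℂ)
  have hv0 : ∀ i, ∀ x : K, ¬ 4 ∣ orderOf x → v i x = 0 := by
    intro i x hx
    simp only [v, Finset.sum_apply, Pi.smul_apply, smul_eq_mul]
    rcases i with ⟨i, hi⟩ | ⟨k, hk⟩
    · exact (hreg x hx).1 i (Finset.mem_Icc.1 hi).2
    · exact (hreg x hx).2 k hk
  have hvW : ∀ i, v i ∈ W := by
    intro i
    have hspan : v i ∈ blockSpan b := Submodule.sum_mem _ fun χ hχ => Submodule.smul_mem _ _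
      (Submodule.subset_span ⟨χ, mem_members.1 hχ, rfl⟩)
    refine ⟨mem_vanSpan hspan fun r hr => hv0 i r fun h4' => hr ((by norm_num : 2 ∣ 4).trans h4'),
      fun x hx => ?_⟩
    by_cases h4' : 4 ∣ orderOf x
    swap
    · exact hv0 i x h4'
    refine apply_span hspan fun χ hχ => ?_
    by_contra hne
    obtain ⟨g, t, ht, hgt⟩ := section_invol hM hb hD hd hq h4 hJ hy hyr hy2 hχ
      ((by norm_num : 2 ∣ 4).trans h4') hne hx
    have h1 : orderOf (g * x * g⁻¹) = orderOf x := MulEquiv.orderOf_eq (MulAut.conj g) x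
    rw [hgt, (show Commute y (t : K) from
        (Subgroup.mem_centralizer_singleton_iff.1 t.2).symm).orderOf_mul_eq_mul_orderOf_of_coprime
      (by rw [hyo, Subgroup.orderOf_coe]; exact Nat.prime_two.coprime_iff_not_dvd.2 ht),
      hyo, Subgroup.orderOf_coe] at h1
    omega
  have hli : LinearIndependent ℂ v := by
    rw [Fintype.linearIndependent_iff]
    intro a ha
    have hc : ∀ χ ∈ members b, ∑ i, a i * (col i χ : ℂ) = 0 := by
      intro χ hχ
      have h1 : ∑ i, a i • v i = ∑ ψ ∈ members b, (∑ i, a i * (col i ψ : ℂ)) • (ψ : K → ℂ) := by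
        simp only [v, Finset.smul_sum, smul_smul]
        rw [Finset.sum_comm]
        simp only [Finset.sum_smul]
      rw [ha] at h1
      have hli2 : LinearIndependent ℂ (fun ψ : members b => ((ψ.1 : IrrCharacter K) : K → ℂ)) :=
        (CharBasicOrth.linearIndependent_irr (G := K)).comp _ Subtype.val_injective
      refine Fintype.linearIndependent_iff.1 hli2 (fun ψ => ∑ i, a i * (col i ψ.1 : ℂ)) ?_ ⟨χ, hχ⟩
      rw [Finset.sum_coe_sort (members b) fun ψ => (∑ i, a i * (col i ψ : ℂ)) • (ψ : K → ℂ)]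
      exact h1.symm
    have hrow : ∀ j, ∑ i, a i * ((∑ χ ∈ members b, col i χ * col j χ : ℤ) : ℂ) = 0 := by
      intro j
      push_cast
      simp only [Finset.mul_sum, ← mul_assoc]
      rw [Finset.sum_comm]
      exact Finset.sum_eq_zero fun χ hχ => by rw [← Finset.sum_mul, hc χ hχ, zero_mul]
    set T₁ : ℂ := ∑ i : Finset.Icc 1 (h / 2), a (Sum.inl i) with hT₁
    set T₂ : ℂ := ∑ k : R, a (Sum.inr k) with hT₂
    have hE : ∀ j : Finset.Icc 1 (h / 2),
        2 * T₁ + a (Sum.inl j) * (if (j : ℕ) = h / 2 then 2 else 1) = 0 := by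
      intro j
      obtain ⟨j0, j1⟩ := Finset.mem_Icc.1 j.2
      have h1 := hrow (Sum.inl j)
      rw [Fintype.sum_sum_type, Finset.sum_eq_zero (s := Finset.univ (α := R))
        (fun k _ => by
          simp only [col, Sum.elim_inl, Sum.elim_inr]
          rw [Finset.sum_congr rfl fun χ _ => mul_comm (cF k χ) _,
            C.gramEF j (by omega) j1 k k.2, Int.cast_zero, mul_zero]), add_zero] at h1
      rw [← h1, hT₁, Finset.mul_sum]
      simp only [col, Sum.elim_inl]
      rw [← Finset.add_sum_erase _ _ (Finset.mem_univ j), ← Finset.add_sum_erase _ _ (Finset.mem_univ j),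
        C.gramE j j (by omega) j1 (by omega) j1, if_pos rfl]
      have hoff : ∀ i ∈ (Finset.univ : Finset (Finset.Icc 1 (h / 2))).erase j,
          a (Sum.inl i) * ((∑ χ ∈ members b, cE i χ * cE j χ : ℤ) : ℂ) = 2 * a (Sum.inl i) := by
        intro i hi
        obtain ⟨i0, i1⟩ := Finset.mem_Icc.1 i.2
        rw [C.gramE i j (by omega) i1 (by omega) j1,
          if_neg fun e' => (Finset.mem_erase.1 hi).1 (Subtype.ext e')]
        push_cast; ring
      rw [Finset.sum_congr rfl hoff]
      split_ifs <;> push_cast <;> ring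
    have hF : ∀ j : R, T₂ + a (Sum.inr j) = 0 := by
      intro j
      have h1 := hrow (Sum.inr j)
      rw [Fintype.sum_sum_type, Finset.sum_eq_zero (s := Finset.univ (α := Finset.Icc 1 (h / 2)))
        (fun i _ => by
          simp only [col, Sum.elim_inl, Sum.elim_inr]
          obtain ⟨i0, i1⟩ := Finset.mem_Icc.1 i.2
          rw [C.gramEF i (by omega) i1 j j.2, Int.cast_zero, mul_zero]), zero_add] at h1
      rw [← h1, hT₂]
      simp only [col, Sum.elim_inr]
      rw [← Finset.add_sum_erase _ _ (Finset.mem_univ j), ← Finset.add_sum_erase _ _ (Finset.mem_univ j),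
        C.gramF j j.2 j j.2, if_pos rfl]
      have hoff : ∀ i ∈ (Finset.univ : Finset R).erase j,
          a (Sum.inr i) * ((∑ χ ∈ members b, cF i χ * cF j χ : ℤ) : ℂ) = a (Sum.inr i) := by
        intro i hi
        rw [C.gramF i i.2 j j.2, if_neg fun e' => (Finset.mem_erase.1 hi).1 (Subtype.ext e')]
        simp
      rw [Finset.sum_congr rfl hoff]
      push_cast; ring
    have hT₂0 : T₂ = 0 := by
      have h1 : ∑ j : R, (T₂ + a (Sum.inr j)) = 0 := Finset.sum_eq_zero fun j _ => hF j
      rw [Finset.sum_add_distrib, Finset.sum_const, ← hT₂, nsmul_eq_mul] at h1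
      have h2 : ((Finset.univ : Finset R).card + 1 : ℂ) * T₂ = 0 := by linear_combination h1
      exact (mul_eq_zero.1 h2).resolve_left (Nat.cast_add_one_ne_zero _)
    have hT₁0 : T₁ = 0 := by
      set top : Finset.Icc 1 (h / 2) := ⟨h / 2, Finset.mem_Icc.2 ⟨by omega, le_rfl⟩⟩ with htop
      have e1 : ∀ j : Finset.Icc 1 (h / 2),
          a (Sum.inl j) = (if j = top then T₁ else 0) - 2 * T₁ := by
        intro j
        have h1 := hE j
        by_cases hj : j = top
        · rw [if_pos (show (j : ℕ) = h / 2 by rw [hj])] at h1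
          rw [if_pos hj]
          linear_combination h1 / 2
        · rw [if_neg (show (j : ℕ) ≠ h / 2 from fun e' => hj (Subtype.ext e'))] at h1
          rw [if_neg hj]
          linear_combination h1
      have h2 : T₁ = ∑ j : Finset.Icc 1 (h / 2), ((if j = top then T₁ else 0) - 2 * T₁) := by
        conv_lhs => rw [hT₁]
        exact Finset.sum_congr rfl fun j _ => e1 j
      rw [Finset.sum_sub_distrib, Finset.sum_ite_eq', if_pos (Finset.mem_univ _), Finset.sum_const,
        nsmul_eq_mul] at h2
      have h3 : ((Finset.univ : Finset (Finset.Icc 1 (h / 2))).card : ℂ) * T₁ = 0 := by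
        linear_combination h2 / 2
      refine (mul_eq_zero.1 h3).resolve_left (Nat.cast_ne_zero.2 ?_)
      exact Finset.card_ne_zero_of_mem (Finset.mem_univ top)
    rintro (j | j)
    · have h1 := hE j
      rw [hT₁0] at h1
      split_ifs at h1
      · linear_combination h1 / 2
      · linear_combination h1
    · have h1 := hF j
      rw [hT₂0] at h1
      linear_combination h1
  -- translates
  let Ψ : (K → ℂ) →ₗ[ℂ] (K → ℂ) := LinearMap.funLeft ℂ ℂ fun x => J * x
  have hΨinj : Function.Injective Ψ := fun f g e1 => funext fun x => by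
    have h1 := congrFun e1 (J * x)
    simpa [Ψ, LinearMap.funLeft, ← mul_assoc, hJJ] using h1
  set A : Submodule ℂ (K → ℂ) := Submodule.span ℂ (Set.range v) with hA
  set T : Submodule ℂ (K → ℂ) := (regSpan 2 b).map Ψ with hT
  have hTzero : ∀ f ∈ regSpan 2 b, ∀ x : K, 2 ∣ orderOf x → f x = 0 := by
    intro f hf x hx
    induction hf using Submodule.span_induction with
    | mem f hf => obtain ⟨ξ, -, rfl⟩ := hf; simp [pRegularPart, IsPRegular, hx]
    | zero => rfl
    | add f g _ _ i1 i2 => simp [i1, i2]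
    | smul c f _ i1 => simp [i1]
  have hshift : ∀ f ∈ blockSpan b, Ψ f ∈ blockSpan b := by
    intro f hf
    induction hf using Submodule.span_induction with
    | mem f hf =>
      obtain ⟨ξ, hξ, rfl⟩ := hf
      have e1 : Ψ (ξ : K → ℂ) = S4716.lam J ξ • (ξ : K → ℂ) := funext fun x => by
        simp [Ψ, LinearMap.funLeft, S4716.lam_mul hJ]
      rw [e1]
      exact Submodule.smul_mem _ _ (Submodule.subset_span ⟨ξ, hξ, rfl⟩)
    | zero => simp
    | add f g _ _ i1 i2 => rw [map_add]; exact Submodule.add_mem _ i1 i2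
    | smul c f _ i1 => rw [map_smul]; exact Submodule.smul_mem _ _ i1
  have hregspan : regSpan 2 b ≤ blockSpan b := by
    refine Submodule.span_le.2 ?_
    rintro _ ⟨ξ, hξ, rfl⟩
    refine mem_span_of_inner (fun x g => ?_) fun χ hχ => ?_
    · have e1 : orderOf (g * x * g⁻¹) = orderOf x := MulEquiv.orderOf_eq (MulAut.conj g) x
      by_cases hx : 2 ∣ orderOf x <;> simp [pRegularPart, IsPRegular, e1, hx, irr_classFun ξ x g]
    · have h1 := congrArg conj (pair_eq_zero hM hb hξ hχ)
      rw [map_zero, pair, regSum_eq, map_sum] at h1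
      rw [classInner]
      refine mul_eq_zero_of_right _ (Eq.trans (Finset.sum_congr rfl fun x _ => ?_) h1)
      by_cases hx : 2 ∣ orderOf x <;> simp [pRegularPart, IsPRegular, hx]
  have hTW : T ≤ W := by
    rintro _ ⟨f, hf, rfl⟩
    refine ⟨mem_vanSpan (hshift f (hregspan hf)) fun x hx => hTzero f hf _ ?_, fun x hx => ?_⟩
    · by_contra hodd
      have h1 : Nat.Coprime (orderOf (J * x)) 2 :=
        (Nat.prime_two.coprime_iff_not_dvd.2 hodd).symm
      have h2 : orderOf (J * x) = 2 * orderOf x := by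
        rw [(show Commute J x from (hJcomm x).symm).orderOf_mul_eq_mul_orderOf_of_coprime
          (by rw [hJo]; exact Nat.prime_two.coprime_iff_not_dvd.2 hx), hJo]
      exact hodd ⟨_, h2⟩
    · by_contra hne
      refine hx ?_
      have hodd : ¬ 2 ∣ orderOf (J * x) := fun h2 => hne (hTzero f hf _ h2)
      refine ⟨(orderOf (J * x) : ℤ), ?_⟩
      show x ^ ((orderOf (J * x) : ℕ) : ℤ) = J
      obtain ⟨m, hm⟩ : Odd (orderOf (J * x)) := Nat.odd_iff.2 (by omega)
      have e1 : x = J * (J * x) := by rw [← mul_assoc, hJJ, one_mul]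
      rw [zpow_natCast]
      conv_lhs => arg 1; rw [e1]
      rw [(show Commute J (J * x) from (Commute.refl J).mul_right (hJcomm x).symm).mul_pow,
        pow_orderOf_eq_one, mul_one, hm, pow_succ, pow_mul, pow_two, hJJ, one_pow, one_mul]
  have hinf : A ⊓ T = ⊥ := by
    rw [Submodule.eq_bot_iff]
    rintro _ ⟨hxA, f, hf, rfl⟩
    have hz : ∀ r : K, f r = 0 := by
      intro r
      by_cases hr : 2 ∣ orderOf r
      · exact hTzero f hf r hr
      have h4' : ¬ 4 ∣ orderOf (J * r) := by
        rw [(show Commute J r from (hJcomm r).symm).orderOf_mul_eq_mul_orderOf_of_coprime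
          (by rw [hJo]; exact Nat.prime_two.coprime_iff_not_dvd.2 hr), hJo]
        omega
      have hAll : ∀ g ∈ A, g (J * r) = 0 := by
        intro g hg
        induction hg using Submodule.span_induction with
        | mem g hg => obtain ⟨i, rfl⟩ := hg; exact hv0 i _ h4'
        | zero => rfl
        | add g g' _ _ i1 i2 => simp [i1, i2]
        | smul c g _ i1 => simp [i1]
      have h1 : Ψ f (J * r) = 0 := hAll _ hxA
      simpa [Ψ, LinearMap.funLeft, ← mul_assoc, hJJ] using h1
    rw [show f = 0 from funext hz, map_zero]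
  have hlow : h - 1 + blockRank 2 b ≤ Module.finrank ℂ W := by
    have h1 := Submodule.finrank_sup_add_finrank_inf_eq A T
    rw [hinf, finrank_bot, add_zero] at h1
    have hA' : Module.finrank ℂ A = h - 1 := by
      rw [hA, finrank_span_eq_card hli, Fintype.card_sum, Fintype.card_coe, Fintype.card_coe,
        Nat.card_Icc]
      have := C.cardR
      omega
    have hT' : Module.finrank ℂ T = blockRank 2 b :=
      ((Submodule.equivMapOfInjective Ψ hΨinj (regSpan 2 b)).finrank_eq).symm
    have h2 : Module.finrank ℂ (A ⊔ T : Submodule ℂ (K → ℂ)) ≤ Module.finrank ℂ W :=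
      Submodule.finrank_mono (sup_le (Submodule.span_le.2 (Set.range_subset_iff.2 hvW)) hTW)
    omega
  have h5 := Submodule.finrank_lt_finrank_of_lt hlt
  constructor <;> omega

end Cfsg.Agent.MaxClassSemiLocal79
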