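import Mathlib
import Cfsg.Agent.Lib.MaxClassMain79
import Cfsg.Agent.Lib.MaxClassSemiLocal79
import Cfsg.Agent.Lib.BlockContribMatrix81

/-!
# The invariants of a 2-block with semidihedral defect group
-/

set_option autoImplicit false
set_option linter.unusedSectionVars false

open scoped ComplexConjugate

namespace Cfsg.Agent.MaxClassSemi79

open Cfsg Cfsg.Agent.MaxClassGroup79 Cfsg.Agent.MaxClassBlock79 Cfsg.Agent.MaxClassCounts79
open Cfsg.Agent.MaxClassTransfer79 Cfsg.Agent.MaxClassSemiLocal79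
open Cfsg.Agent.BlockTheoryLocalRing Cfsg.Agent.BlockTheoryCentre Cfsg.Agent.BlockTheoryIdem
open Cfsg.Agent.BlockTheoryDefect Cfsg.Agent.BlockContrib Cfsg.Agent.BlockContribBounds
open Cfsg.Agent.BrauerPairs81Base Cfsg.Agent.BrauerPairs81Pairs Cfsg.Agent.BrauerPairs81Conj
open Cfsg.Agent.BrauerPairs81Max

attribute [local instance] Classical.propDecidable

universe u

variable {G : Type u} [Group G] [Fintype G] {M : Ideal AlgInt} {B : Set (IrrCharacter G)}

/-- Vanishing combinations supported below the involution induce injectively. -/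
theorem transfer_le (hM : IsPModular 2 M) {J : G} (hJ2 : orderOf J = 2)
    {b : Set (IrrCharacter (Cen (Subgroup.zpowers J)))}
    (hind : IsInducedBlock M (Cen (Subgroup.zpowers J)) b B)
    {Jc : Cen (Subgroup.zpowers J)} (hJc : (Jc : G) = J) :
    Module.finrank ℂ (vanSpan b ⊓ suppSub Jc : Submodule ℂ _) ≤ Module.finrank ℂ (vanSpan B) := by
  haveI : Fact (Nat.Prime 2) := ⟨Nat.prime_two⟩
  have hJ1 : J ≠ 1 := fun e => by rw [e, orderOf_one] at hJ2; omega
  set S : Set G := {x | J ∈ Subgroup.zpowers x} with hS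
  have hzp : ∀ x : Cen (Subgroup.zpowers J), (x : G) ∈ S ↔ Jc ∈ Subgroup.zpowers x := by
    intro x
    refine exists_congr fun i => ?_
    show (x : G) ^ i = J ↔ x ^ i = Jc
    rw [← Subtype.coe_inj, hJc, Subgroup.coe_zpow]
  have hsupp : ∀ φ ∈ vanSpan b ⊓ suppSub Jc, ∀ x : Cen (Subgroup.zpowers J), (x : G) ∉ S → φ x = 0 :=
    fun φ hφ x hx => hφ.2 x fun hm => hx ((hzp x).2 hm)
  have hTI : ∀ g : G, g ∉ Cen (Subgroup.zpowers J) → ∀ t ∈ S, g * t * g⁻¹ ∈ S → t = 1 := by
    intro g hg t ht ht'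
    refine absurd ?_ hg
    rw [BlockCyclicRank81.centralizer_zpowers]
    obtain ⟨i, hi⟩ := ht
    have h1 : g * J * g⁻¹ ∈ Subgroup.zpowers (g * t * g⁻¹) :=
      ⟨i, by show (g * t * g⁻¹) ^ i = _; rw [conj_zpow, show t ^ i = J from hi]⟩
    have h2 : g * J * g⁻¹ = J := eq_of_mem_zpowers h1 ht'
      (by rw [← hJ2]; exact MulEquiv.orderOf_eq (MulAut.conj g) J) hJ2
    exact (mul_inv_eq_iff_eq_mul.1 h2).symm
  have hsm : ∀ χ : IrrCharacter G, χ ∉ B → ∀ x : Cen (Subgroup.zpowers J), (x : G) ∈ S →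
      bpart b (fun y : Cen (Subgroup.zpowers J) => (χ : G → ℂ) y) x = 0 := by
    intro χ hχ x hx
    rw [bpart_apply b (fun y k => BlockTheoryCentre.irr_classFun χ (y : G) (k : G))]
    refine Eq.trans (Finset.sum_congr rfl fun k _ => ?_)
      (BlockTheoryInduced.second_main_sum (Cen (Subgroup.zpowers J)) hM hind x (fun z hz g hg => ?_) χ hχ)
    · rfl
    · rw [BlockCyclicRank81.centralizer_zpowers]
      obtain ⟨i, hi⟩ := mem_zpowers_part hJ2 hx hz
      rw [Subgroup.mem_centralizer_singleton_iff] at hg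
      rw [← show z ^ i = J from hi]
      exact (show Commute g z from hg).symm.zpow_left i
  have hindS : ∀ φ ∈ vanSpan b ⊓ suppSub Jc, ∀ x : Cen (Subgroup.zpowers J), (x : G) ∈ S →
      indFun (Cen (Subgroup.zpowers J)) φ (x : G) = φ x := by
    intro φ hφ x hx
    refine CharInduced.ind_eq_of_ti S (Cen (Subgroup.zpowers J)) hTI φ (classFun_span hφ.1.1) (hsupp φ hφ) x hx
      fun e => hJ1 ?_
    subst e
    simpa [hS, Subgroup.zpowers_one_eq_bot] using hx
  have hup : ∀ φ ∈ vanSpan b ⊓ suppSub Jc, indFun (Cen (Subgroup.zpowers J)) φ ∈ vanSpan B := by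
    intro φ hφ
    refine mem_vanSpan
      (mem_span_of_inner (CharInduced.isClassFunction_ind (Cen (Subgroup.zpowers J)) φ) fun χ hχ => ?_)
      fun y hy => CharInduced.ind_eq_zero_of_vanish (Cen (Subgroup.zpowers J)) φ y fun x k hk => ?_
    · rw [CharInduced.inner_ind_left (Cen (Subgroup.zpowers J)) φ (BlockTheoryCentre.irr_classFun χ),
        inner_bpart hφ.1.1 (fun y k => BlockTheoryCentre.irr_classFun χ (y : G) (k : G)), classInner]
      refine mul_eq_zero_of_right _ (Finset.sum_eq_zero fun x _ => ?_)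
      by_cases hx : (x : G) ∈ S
      · rw [hsm χ hχ x hx, map_zero, mul_zero]
      · rw [hsupp φ hφ x hx, zero_mul]
    · refine apply_eq_zero_of_mem hφ.1 ?_
      rw [← Subgroup.orderOf_coe, ← hk, show x⁻¹ * y * x = MulAut.conj x⁻¹ y by simp,
        MulEquiv.orderOf_eq]
      exact hy
  let U : (vanSpan b ⊓ suppSub Jc : Submodule ℂ _) →ₗ[ℂ] vanSpan B :=
    { toFun := fun φ => ⟨indFun (Cen (Subgroup.zpowers J)) φ.1, hup φ.1 φ.2⟩
      map_add' := fun φ φ' => Subtype.ext (CharInduced.ind_add (Cen (Subgroup.zpowers J)) (φ : Cen (Subgroup.zpowers J) → ℂ) φ')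
      map_smul' := fun a φ => Subtype.ext (CharInduced.ind_smul (Cen (Subgroup.zpowers J)) a (φ : Cen (Subgroup.zpowers J) → ℂ)) }
  refine LinearMap.finrank_le_finrank_of_injective (f := U) ?_
  rw [← LinearMap.ker_eq_bot, LinearMap.ker_eq_bot']
  intro φ hφ
  refine Subtype.ext (funext fun x => ?_)
  by_cases hx : (x : G) ∈ S
  · rw [← hindS φ.1 φ.2 x hx]
    exact congrFun (congrArg Subtype.val hφ) (x : G)
  · exact hsupp φ.1 φ.2 x hx

/-- Divisibility of an integer that is a power of two times a local integer. -/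
theorem int_dvd_iff (hM : IsPModular 2 M) {m : ℤ} {a : ℕ} {s : ℂ} (hs : MemLocalRing M s)
    (he : (m : ℂ) = (2 : ℂ) ^ a * s) :
    (2 : ℤ) ^ a ∣ m ∧ ((2 : ℤ) ^ (a + 1) ∣ m ↔ MemLocalIdeal M s) := by
  haveI : Fact (Nat.Prime 2) := ⟨Nat.prime_two⟩
  induction a generalizing m with
  | zero =>
    rw [pow_zero, one_mul] at he
    refine ⟨one_dvd _, ?_⟩
    rw [← he, intCast_mem_iff hM, zero_add, pow_one]
    rfl
  | succ a ih =>
    have h2 : (2 : ℤ) ∣ m := by
      have h1 : MemLocalIdeal M ((m : ℤ) : ℂ) := by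
        rw [he, pow_succ]
        have h2 := natCast_p_mem (p := 2) hM
        rw [Nat.cast_ofNat] at h2
        exact ideal_mul_right hM (ideal_mul_left hM ((localRing hM).pow_mem
          (by simpa using natCast_mem (localRing hM) 2) a) h2) hs
      simpa using (intCast_mem_iff hM m).1 h1
    obtain ⟨k, rfl⟩ := h2
    have he' : (k : ℂ) = (2 : ℂ) ^ a * s := by
      push_cast at he
      rw [pow_succ', mul_assoc] at he
      exact mul_left_cancel₀ two_ne_zero he
    obtain ⟨h3, h4⟩ := ih he'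
    exact ⟨by rw [pow_succ']; exact mul_dvd_mul_left 2 h3,
      by rw [pow_succ', mul_dvd_mul_iff_left two_ne_zero]; exact h4⟩

variable {h : ℕ} {R : Finset ℕ} {cE cF : ℕ → IrrCharacter G → ℤ}

/-- A positive diagonal with the divisibility of the heights is large, and at least one more on a
member of height zero. -/
theorem diag_sum_ge (C : Cols M B h R cE cF) (h4 : 4 ≤ h)
    (hc1 : ((members B).filter fun χ : IrrCharacter G => blockHeight 2 B (χ : G → ℂ) = 1).card =
      h - 1)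
    (hts : ∀ χ ∈ B, blockHeight 2 B (χ : G → ℂ) = 0 ∨ blockHeight 2 B (χ : G → ℂ) = 1 ∨
      2 ^ blockHeight 2 B (χ : G → ℂ) = h)
    (d : IrrCharacter G → ℤ) (hd0 : ∀ χ ∈ B, 0 < d χ)
    (hdvd : ∀ χ ∈ B, 0 < blockHeight 2 B (χ : G → ℂ) →
      (2 : ℤ) ^ (blockHeight 2 B (χ : G → ℂ) + 1) ∣ d χ)
    {φ : IrrCharacter G} (hφ : φ ∈ B) (h0 : blockHeight 2 B (φ : G → ℂ) = 0) :
    d φ - 1 + 4 * (h : ℤ) + 2 * (h : ℤ) * (((members B).card : ℤ) - (h + 3)) ≤
      ∑ χ ∈ members B, d χ := by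
  set Z0 := (members B).filter fun χ : IrrCharacter G => blockHeight 2 B (χ : G → ℂ) = 0 with hZ0
  set Z1 := (members B).filter fun χ : IrrCharacter G => blockHeight 2 B (χ : G → ℂ) = 1 with hZ1
  have hc0 : Z0.card = 4 := card_height_zero C
  have hdis : Disjoint Z0 Z1 := Finset.disjoint_left.2 fun χ a b => by
    rw [hZ0, Finset.mem_filter] at a
    rw [hZ1, Finset.mem_filter] at b
    omega
  have hsub : Z0 ∪ Z1 ⊆ members B :=
    Finset.union_subset (Finset.filter_subset _ _) (Finset.filter_subset _ _)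
  have hφ0 : φ ∈ Z0 := Finset.mem_filter.2 ⟨mem_members.2 hφ, h0⟩
  have b0 : d φ - 1 + 4 ≤ ∑ χ ∈ Z0, d χ := by
    rw [← Finset.add_sum_erase _ _ hφ0]
    have h1 := Finset.card_nsmul_le_sum (Z0.erase φ) d 1 fun χ hχ =>
      hd0 χ (mem_members.1 (Finset.filter_subset _ _ (Finset.mem_of_mem_erase hχ)))
    rw [Finset.card_erase_of_mem hφ0, hc0, nsmul_eq_mul] at h1
    push_cast at h1
    linarith
  have b1 : 4 * ((h : ℤ) - 1) ≤ ∑ χ ∈ Z1, d χ := by
    have h1 := Finset.card_nsmul_le_sum Z1 d 4 fun χ hχ => by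
      obtain ⟨hm, e1⟩ := Finset.mem_filter.1 hχ
      have h2 := hdvd χ (mem_members.1 hm) (by omega)
      rw [e1] at h2
      exact Int.le_of_dvd (hd0 χ (mem_members.1 hm)) h2
    rw [hc1, nsmul_eq_mul, Nat.cast_sub (by omega)] at h1
    push_cast at h1
    linarith
  have b2 : 2 * (h : ℤ) * (((members B).card : ℤ) - (h + 3)) ≤
      ∑ χ ∈ members B \ (Z0 ∪ Z1), d χ := by
    have h1 := Finset.card_nsmul_le_sum (members B \ (Z0 ∪ Z1)) d (2 * (h : ℤ)) fun χ hχ => by
      rw [Finset.mem_sdiff, Finset.mem_union, hZ0, hZ1, Finset.mem_filter, Finset.mem_filter] at hχ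
      push Not at hχ
      obtain ⟨hm, n0, n1⟩ := hχ
      have hb := mem_members.1 hm
      rcases hts χ hb with e | e | e
      · exact absurd e (n0 hm)
      · exact absurd e (n1 hm)
      · have h2 := hdvd χ hb (Nat.pos_of_ne_zero (n0 hm))
        rw [pow_succ', show (2 : ℤ) ^ blockHeight 2 B (χ : G → ℂ) = (h : ℤ) by exact_mod_cast e] at h2
        exact Int.le_of_dvd (hd0 χ hb) h2
    rw [nsmul_eq_mul, Finset.card_sdiff_of_subset hsub, Finset.card_union_of_disjoint hdis, hc0,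
      hc1, Nat.cast_sub (by
        have := Finset.card_le_card hsub
        rw [Finset.card_union_of_disjoint hdis, hc0, hc1] at this
        exact this)] at h1
    push_cast [Nat.cast_sub (show 1 ≤ h by omega)] at h1
    linarith
  rw [← Finset.sum_sdiff hsub, Finset.sum_union hdis]
  linarith

/-- The invariants. -/
theorem main (hM : IsPModular 2 M) (hB : IsPBlock M B) {D : Subgroup G}
    (hD : IsDefectGroup 2 M B D) {q : ℕ} {σ : G} (hd : MC h q D σ) (hq : q + 1 = h) (h4 : 4 ≤ h) :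
    ((members B).card = h + 3 ∨ (members B).card = h + 4) ∧ blockRank 2 B ≤ 3 ∧
      (blockRank 2 B = 3 → (members B).card = h + 4) ∧
      (blockRank 2 B = 1 → (members B).card = h + 3) ∧
      ((members B).filter fun χ : IrrCharacter G => blockHeight 2 B (χ : G → ℂ) = 0).card = 4 ∧
      ((members B).filter fun χ : IrrCharacter G => blockHeight 2 B (χ : G → ℂ) = 1).card = h - 1 ∧
      ∀ χ ∈ B, blockHeight 2 B (χ : G → ℂ) = 0 ∨ blockHeight 2 B (χ : G → ℂ) = 1 ∨
        2 ^ blockHeight 2 B (χ : G → ℂ) = h := by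
  haveI : Fact (Nat.Prime 2) := ⟨Nat.prime_two⟩
  set J := σ ^ h with hJdef
  set Q := Subgroup.zpowers J with hQ
  have hJ2 : orderOf J = 2 := MaxClassCentral79.order_J hd
  have hQD : Q ≤ D := Subgroup.zpowers_le.2 (pow_mem hd.mem h)
  have hDQ : D ≤ Cen Q := fun u hu => by
    rw [hQ, BlockCyclicRank81.centralizer_zpowers]
    exact (mul_inv_eq_iff_eq_mul.1 (J_comm hd hu)).symm
  obtain ⟨c, hc⟩ := Star80Nilpotent.exists_maximal hM hB hD
  obtain ⟨b, hb⟩ := exists_subpair hM hc.1.1 hQD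
  obtain ⟨c₀, hc₀, -⟩ := BrauerPairs81Induced.exists_maximal_cen hM hc hQD hDQ hb
  have hind := BlockCyclicRank81.induced_of_pairOf hM (isBrauerPairOf_down hM hb hc.1)
  have hbB : IsPBlock M b := hind.1
  have hDC := isDefectGroup_of_maximal hM hc₀
  have hd' := MaxClassLocal79.mc_subgroupOf hd hDQ (hDQ hd.mem)
  have hJc : (⟨σ, hDQ hd.mem⟩ : Cen Q) ^ h ∈ Subgroup.center (Cen Q) :=
    Subgroup.mem_center_iff.2 fun g => Subtype.ext (by
      show (g : G) * J = J * (g : G)
      exact ((BlockCyclicRank81.centralizer_zpowers _ _).1 g.2).symm.eq)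
  obtain ⟨hW, hlb⟩ := local_bounds hM hbB hDC hd' hq h4 hJc
  have hkl : h + 1 ≤ Module.finrank ℂ (vanSpan B) :=
    hW.trans (transfer_le hM hJ2 hind rfl)
  have hrk := finrank_vanSpan B
  obtain ⟨N, bN, P, eN, s, χ₀, S, -, -⟩ := MaxClassLocal79.exists_sect hM hB hD hd
  have hζ := Complex.isPrimitiveRoot_exp (2 * h) (by omega)
  obtain ⟨cE, cF, C, -⟩ := exists_cols hM S hζ
  have hl := BlockCyclicRank81.blockRank_pos hM hB
  obtain ⟨A, B', C', E, L, ε, hstd, hdis⟩ := MaxClassMain79.exists_std hM C hl (by omega)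
  obtain ⟨-, c4, hts⟩ := MaxClassMain79.counts hM C hstd hdis
  obtain ⟨hk, hc1⟩ := c4 h4
  obtain ⟨φ, hφ, hφ0⟩ := exists_height_zero hM hB
  have hdef : blockDefect 2 b = blockDefect 2 B := by
    refine Nat.pow_right_injective le_rfl ?_
    show (2 : ℕ) ^ blockDefect 2 b = 2 ^ blockDefect 2 B
    rw [← BlockContribBounds.card_defectGroup hM hB hD,
      ← BlockContribBounds.card_defectGroup hM hbB hDC]
    exact Nat.card_congr (Subgroup.subgroupOfEquivOfLe hDQ).toEquiv
  have hpow : (2 : ℤ) ^ blockDefect 2 B = 4 * (h : ℤ) := by exact_mod_cast C.defect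
  -- the contributions of the regular elements
  have hreg := diag_sum_ge C h4 hc1 hts (fun χ => contrib 2 B χ χ)
    (fun χ hχ => contrib_self_pos hM.1 hχ)
    (fun χ hχ hpos => contrib_extra_of_height_pos hM hB hχ hpos hχ) hφ hφ0
  have htr : ∑ χ ∈ members B, contrib 2 B χ χ = 4 * (h : ℤ) * (blockRank 2 B : ℤ) := by
    have h1 := Cfsg.Agent.S4667.result 2 M hM B hB
    simp only [finsum_eq_members] at h1
    rw [Finset.sum_comm] at h1
    have h2 : ∀ χ ∈ members B, ∑ x : G, Cfsg.pRegularPart 2 (χ : G → ℂ) x * (χ : G → ℂ) x⁻¹ =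
        (cofactor 2 G : ℂ) * (2 : ℂ) ^ minExp 2 B * (contrib 2 B χ χ : ℂ) := by
      intro χ hχ
      have h3 := pair_eq_contrib hM.1 χ (mem_members.1 hχ) (B := B)
      rw [Nat.cast_ofNat] at h3
      rw [← h3, pair, regSum_eq]
      refine Finset.sum_congr rfl fun x _ => ?_
      simp only [pRegularPart, IsPRegular, irr_inv]
      split_ifs <;> simp_all [mul_comm]
    rw [Finset.sum_congr rfl h2, ← Finset.mul_sum] at h1
    have hscale : (Nat.card G : ℂ) =
        (cofactor 2 G : ℂ) * (2 : ℂ) ^ minExp 2 B * (2 : ℂ) ^ blockDefect 2 B := by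
      rw [mul_assoc, ← pow_add, minExp_add_defect hM hB, mul_comm]
      exact_mod_cast (pow_mul_cofactor (G := G) 2).symm
    rw [hscale, mul_assoc] at h1
    have h5 := mul_left_cancel₀ (by
      have := scale_ne_zero (G := G) Nat.prime_two B
      simpa using this) h1
    rw [← hpow]
    exact_mod_cast h5.symm
  -- the contributions of the section of the involution
  have hu : ∃ k, orderOf J = 2 ^ k := ⟨1, by rw [hJ2, pow_one]⟩
  have hH : ∀ g, g ∈ Cen Q ↔ Commute J g := BlockCyclicRank81.centralizer_zpowers J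
  set z : Cen Q := ⟨J, (hH J).2 (Commute.refl J)⟩ with hz
  have hlam : ∀ ξ : IrrCharacter (Cen Q), ∃ l : ℤ, S4716.lam z ξ = (l : ℂ) := by
    intro ξ
    have hzc : z ∈ Subgroup.center (Cen Q) :=
      Subgroup.mem_center_iff.2 fun g => Subtype.ext ((hH g).1 g.2).eq.symm
    have h1 : S4716.lam z ξ * S4716.lam z ξ = 1 := by
      rw [← pow_two, ← S4716.lam_pow hzc, show z ^ 2 = 1 from Subtype.ext (by
        show J ^ 2 = 1
        rw [← hJ2, pow_orderOf_eq_one]), S4716.lam, div_self (irr_one_ne_zero ξ)]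
    rcases mul_self_eq_one_iff.1 h1 with e | e
    exacts [⟨1, by simp [e]⟩, ⟨-1, by simp [e]⟩]
  choose lm hlm using hlam
  set m : IrrCharacter G → IrrCharacter G → ℤ := fun χ ψ =>
    ∑ ξ ∈ members b, ∑ η ∈ members b,
      (S4716.mult χ ξ : ℤ) * (S4716.mult ψ η : ℤ) * contrib 2 b ξ η * (lm ξ * lm η) with hm
  have hentry : ∀ χ ψ, S4716.entry 2 z b χ ψ = (m χ ψ : ℂ) := by
    intro χ ψ
    simp only [S4716.entry, hm, hlm, map_intCast]
    push_cast
    rfl
  have hsymm : ∀ χ ψ, m χ ψ = m ψ χ := by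
    intro χ ψ
    simp only [hm]
    rw [Finset.sum_comm]
    refine Finset.sum_congr rfl fun ξ hξ => Finset.sum_congr rfl fun η hη => ?_
    rw [contrib_comm hM.1 (mem_members.1 hη) (mem_members.1 hξ)]
    ring
  have hmajor : ∀ χ ∈ B, ∀ ψ ∈ B, (2 : ℤ) ^ blockHeight 2 B (ψ : G → ℂ) ∣ m χ ψ ∧
      ((2 : ℤ) ^ (blockHeight 2 B (ψ : G → ℂ) + 1) ∣ m χ ψ ↔
        blockHeight 2 B (χ : G → ℂ) ≠ 0) := by
    intro χ hχ ψ hψ
    obtain ⟨t, htR, htI, he⟩ := BlockContribMatrix81.entry_major hM hu hH hind hdef hχ hψ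
    rw [← hz, hentry, Nat.cast_ofNat] at he
    obtain ⟨h1, h2⟩ := int_dvd_iff hM htR he
    exact ⟨h1, h2.trans htI⟩
  have hrow : ∀ χ, ∑ ψ ∈ members B, m χ ψ ^ 2 = 4 * (h : ℤ) * m χ χ := by
    intro χ
    have h1 := BlockContribMatrix81.row_sum hM hu hH hind χ
    rw [← hz, hdef, Finset.sum_congr rfl (g := fun ψ => ((m χ ψ ^ 2 : ℤ) : ℂ)) fun ψ _ => by
      rw [hentry, Complex.normSq_intCast]; push_cast; ring, hentry, ← Int.cast_sum] at h1
    rw [← hpow]
    exact_mod_cast h1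
  have hne0 : ∀ χ ∈ B, ∀ ψ ∈ B, blockHeight 2 B (χ : G → ℂ) = 0 → m χ ψ ≠ 0 := by
    intro χ hχ ψ hψ h0 e
    exact ((hmajor χ hχ ψ hψ).2.1 (e ▸ dvd_zero _)) h0
  have hpos : ∀ χ ∈ B, 0 < m χ χ := by
    intro χ hχ
    have h1 : m χ φ ^ 2 ≤ 4 * (h : ℤ) * m χ χ := hrow χ ▸
      Finset.single_le_sum (f := fun ψ => m χ ψ ^ 2) (fun ψ _ => sq_nonneg _) (mem_members.2 hφ)
    have h2 : 0 < m χ φ ^ 2 := by
      rw [hsymm]
      exact sq_pos_of_ne_zero (hne0 φ hφ χ hχ hφ0)
    by_contra hle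
    nlinarith
  have hjdg := diag_sum_ge C h4 hc1 hts (fun χ => m χ χ) hpos
    (fun χ hχ hp => (hmajor χ hχ χ hχ).2.2 (by omega)) hφ hφ0
  have htrJ : ∑ χ ∈ members B, m χ χ = 4 * (h : ℤ) * (blockRank 2 b : ℤ) := by
    have h1 := BlockContribMatrix81.trace hM hu hH hind
    rw [← hz, hdef, Finset.sum_congr rfl fun χ _ => hentry χ χ, ← Int.cast_sum, Nat.cast_ofNat] at h1
    rw [← hpow]
    exact_mod_cast h1
  -- at most one further member
  have hk0 : h + 3 ≤ (members B).card := by omega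
  have he1 : (members B).card ≤ h + 4 := by
    by_contra hgt
    have hh : (4 : ℤ) ≤ h := by exact_mod_cast h4
    have he2 : (2 : ℤ) ≤ ((members B).card : ℤ) - (h + 3) := by
      have : ((h + 5 : ℕ) : ℤ) ≤ ((members B).card : ℤ) := by exact_mod_cast (by omega :
        h + 5 ≤ (members B).card)
      push_cast at this
      linarith
    have hl2 : (blockRank 2 b : ℤ) ≤ 2 := by exact_mod_cast hlb
    have ha : m φ φ ≤ 1 := by
      simp only [htrJ] at hjdg
      nlinarith
    -- a member of large height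
    have hex : ∃ χ ∈ B, 2 ^ blockHeight 2 B (χ : G → ℂ) = h := by
      by_contra! hno
      have hall : members B ⊆
          ((members B).filter fun χ : IrrCharacter G => blockHeight 2 B (χ : G → ℂ) = 0) ∪
          ((members B).filter fun χ : IrrCharacter G => blockHeight 2 B (χ : G → ℂ) = 1) := by
        intro χ hχ
        rw [Finset.mem_union, Finset.mem_filter, Finset.mem_filter]
        rcases hts χ (mem_members.1 hχ) with e | e | e
        · exact Or.inl ⟨hχ, e⟩
        · exact Or.inr ⟨hχ, e⟩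
        · exact absurd e (hno χ (mem_members.1 hχ))
      have h5 := (Finset.card_le_card hall).trans (Finset.card_union_le _ _)
      rw [card_height_zero C, hc1] at h5
      omega
    obtain ⟨χ, hχ, he⟩ := hex
    obtain ⟨t, ht⟩ := (hmajor φ hφ χ hχ).1
    have hpe : (2 : ℤ) ^ blockHeight 2 B (χ : G → ℂ) = (h : ℤ) := by exact_mod_cast he
    rw [hpe] at ht
    have ht0 : t ≠ 0 := fun e0 => hne0 φ hφ χ hχ hφ0 (by rw [ht, e0, mul_zero])
    have hφχ : φ ≠ χ := fun e0 => by
      rw [← e0, hφ0, pow_zero] at he; omega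
    have h6 : m φ φ ^ 2 + m φ χ ^ 2 ≤ 4 * (h : ℤ) * m φ φ := by
      rw [← hrow φ, ← Finset.sum_pair hφχ (f := fun ψ => m φ ψ ^ 2)]
      refine Finset.sum_le_sum_of_subset_of_nonneg ?_ fun ψ _ _ => sq_nonneg _
      intro ψ hψ
      rcases Finset.mem_insert.1 hψ with rfl | hψ
      · exact mem_members.2 hφ
      · rw [Finset.mem_singleton.1 hψ]; exact mem_members.2 hχ
    have hm1 : m φ φ = 1 := le_antisymm ha (hpos φ hφ)
    rw [hm1, ht, mul_pow] at h6
    have ht1 : (1 : ℤ) ≤ t ^ 2 := by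
      have := sq_pos_of_ne_zero ht0
      omega
    nlinarith
  refine ⟨by omega, by omega, fun h3 => by omega, fun h1 => ?_, card_height_zero C, hc1, hts⟩
  by_contra hne
  have hh : (4 : ℤ) ≤ h := by exact_mod_cast h4
  have he1' : (1 : ℤ) ≤ ((members B).card : ℤ) - (h + 3) := by
    have : ((h + 4 : ℕ) : ℤ) ≤ ((members B).card : ℤ) := by exact_mod_cast (by omega :
      h + 4 ≤ (members B).card)
    push_cast at this
    linarith
  simp only [htr, h1] at hreg
  have := contrib_self_pos hM.1 (B := B) hφ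
  push_cast at hreg
  nlinarith

end Cfsg.Agent.MaxClassSemi79
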