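import Cfsg.Agent.Lib.AlperinGoldschmidt62
import Cfsg.Agent.Lib.AlperinTame
import Cfsg.Agent.Lib.TransferThompson

/-!
# Simple groups with a maximal Sylow `2`-subgroup of order `2^7`: generalities

The local subgroups used in Alperin's theorem, and the transfer criterion.
-/

set_option autoImplicit false
set_option linter.unusedSectionVars false

namespace Cfsg.Agent.MaxSylow128x78

open Subgroup Cfsg.Agent.TransferAlperin Cfsg.Agent.AlperinGoldschmidt62

variable {G : Type*} [Group G] [Finite G] [IsSimpleGroup G]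

/-- `S` is a Sylow `2`-subgroup of order `2^7` and a maximal subgroup; `G` is not abelian. -/
structure Hyp (S : Sylow 2 G) : Prop where
  card : Nat.card (S : Subgroup G) = 2 ^ 7
  max : ∀ H : Subgroup G, (S : Subgroup G) < H → H = ⊤
  nc : ¬ IsMulCommutative G

/-- A nontrivial element of `S` of order two centralised by `S`. -/
structure Cent (S : Sylow 2 G) (z : G) : Prop where
  mem : z ∈ (S : Subgroup G)
  ne : z ≠ 1
  sq : z * z = 1
  comm : ∀ s ∈ (S : Subgroup G), s * z = z * s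

variable {S : Sylow 2 G}

theorem Hyp.ne_top (H : Hyp S) : (S : Subgroup G) ≠ ⊤ := by
  intro h
  haveI : Fact (Nat.Prime 2) := ⟨Nat.prime_two⟩
  have hp : IsPGroup 2 G := by
    intro g
    obtain ⟨k, hk⟩ := S.isPGroup' ⟨g, h ▸ mem_top g⟩
    exact ⟨k, congrArg Subtype.val hk⟩
  haveI := hp.center_nontrivial
  rcases (inferInstance : (center G).Normal).eq_bot_or_eq_top with hb | ht
  · exact (nontrivial_iff_ne_bot _).1 this hb
  · exact H.nc ⟨⟨fun a b => (mem_center_iff.1 (ht ▸ mem_top a) b).symm⟩⟩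

theorem Hyp.center_bot (H : Hyp S) : center G = ⊥ := by
  rcases (inferInstance : (center G).Normal).eq_bot_or_eq_top with hb | ht
  · exact hb
  · exact absurd ⟨⟨fun a b => (mem_center_iff.1 (ht ▸ mem_top a) b).symm⟩⟩ H.nc

theorem Hyp.le_of_ne_top (H : Hyp S) {K : Subgroup G} (hK : (S : Subgroup G) ≤ K) (hKt : K ≠ ⊤) :
    K ≤ (S : Subgroup G) := by
  by_contra h
  exact hKt (H.max K (lt_of_le_not_ge hK h))

/-- The centraliser of a central involution of `S` lies in `S`. -/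
theorem Hyp.cent_mem (H : Hyp S) {z : G} (hz : Cent S z) {x : G} (hx : x * z = z * x) :
    x ∈ (S : Subgroup G) := by
  refine H.le_of_ne_top (K := centralizer ({z} : Set G)) ?_ ?_ (mem_centralizer_singleton_iff.2 hx)
  · exact fun s hs => mem_centralizer_singleton_iff.2 (hz.comm s hs)
  · intro h
    apply hz.ne
    have h1 : z ∈ center G := mem_center_iff.2 fun g =>
      mem_centralizer_singleton_iff.1 (h ▸ mem_top g : g ∈ centralizer ({z} : Set G))
    rwa [H.center_bot, mem_bot] at h1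

/-- The normaliser of a nontrivial normal subgroup of `S` lies in `S`. -/
theorem Hyp.normalizer_le (H : Hyp S) {K : Subgroup G} (hK : K ≠ ⊥) (hKS : K ≤ (S : Subgroup G))
    (hn : (S : Subgroup G) ≤ normalizer (K : Set G)) :
    normalizer (K : Set G) ≤ (S : Subgroup G) := by
  refine H.le_of_ne_top hn fun h => ?_
  have : K.Normal := normalizer_eq_top_iff.1 h
  rcases this.eq_bot_or_eq_top with hb | ht
  · exact hK hb
  · exact H.ne_top (top_le_iff.1 (ht ▸ hKS))

/-- Two central involutions of `S` are conjugate only if they are equal. -/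
theorem Hyp.cent_conj (H : Hyp S) {z z' g : G} (hz : Cent S z) (hz' : Cent S z')
    (h : g * z * g⁻¹ = z') : z = z' := by
  have hS1 : (S : Subgroup G) ≠ ⊥ := fun hb => hz.ne (mem_bot.1 (hb ▸ hz.mem))
  have hg : g ∈ normalizer ((S : Subgroup G) : Set G) := by
    refine mem_normalizer_of_cj_eq ?_
    refine eq_of_le_of_card_ge ?_ (le_of_eq (card_cj g _).symm)
    intro x hx
    rw [mem_cj] at hx
    refine H.cent_mem hz' ?_
    calc x * z' = g * ((g⁻¹ * x * g) * z) * g⁻¹ := by rw [← h]; group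
      _ = g * (z * (g⁻¹ * x * g)) * g⁻¹ := by rw [hz.comm _ hx]
      _ = z' * x := by rw [← h]; group
  have hgS := H.normalizer_le hS1 le_rfl le_normalizer hg
  rw [← h, hz.comm g hgS]
  group

/-! ## The local subgroups -/

/-- The facts about a station `D` of a conjugation family. -/
structure Local (S : Sylow 2 G) (D : Subgroup G) : Prop where
  le : D ≤ (S : Subgroup G)
  cent : centralizer (D : Set G) ≤ D
  radical : ∀ K : Subgroup G, K ≤ normalizer (D : Set G) → IsPGroup 2 K →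
    normalizer (D : Set G) ≤ normalizer (K : Set G) → K ≤ D
  sylow : ¬ 2 ∣ ((S : Subgroup G) ⊓ normalizer (D : Set G)).relIndex (normalizer (D : Set G))

theorem Hyp.local_of_good (H : Hyp S) {z : G} (hz : Cent S z) {D : Subgroup G}
    (hD : Good 2 (S : Subgroup G) D) : Local S D := by
  haveI : Fact (Nat.Prime 2) := ⟨Nat.prime_two⟩
  obtain ⟨hle, hc, ⟨-, -, hcomm, -, hsup⟩, hidx⟩ := hD
  set N := normalizer (D : Set G) with hN
  set O := (Cfsg.pPrimeCore 2 N).map N.subtype with hO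
  set Q := (Cfsg.pPrimePCore 2 N).map N.subtype with hQ
  -- odd elements of `S` are trivial
  have hodd : ∀ x ∈ O, x ∈ (S : Subgroup G) → x = 1 := by
    intro x hx hxS
    obtain ⟨k, hk, rfl⟩ := hx
    obtain ⟨j, hj⟩ := S.isPGroup' ⟨_, hxS⟩
    have h1 : orderOf (k : G) ∣ 2 ^ j := orderOf_dvd_of_pow_eq_one (congrArg Subtype.val hj)
    have h2 : orderOf (k : G) ∣ Nat.card (Cfsg.pPrimeCore 2 N) := by
      rw [orderOf_coe, ← Subgroup.orderOf_mk k hk]
      exact orderOf_dvd_natCard _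
    exact orderOf_eq_one_iff.1
      (Nat.eq_one_of_dvd_coprimes ((HallCore.coprime_card_pPrimeCore 2 N).pow_right j) h2 h1)
  -- decomposition of an element of `Q`
  have hdec : ∀ x ∈ Q, ∃ o ∈ O, ∃ d ∈ D, o * d = x := by
    intro x hx
    rw [← hsup] at hx
    have hDn : O ≤ normalizer (D : Set G) := by
      rintro _ ⟨k, -, rfl⟩
      exact k.2
    rw [← SetLike.mem_coe, coe_mul_of_left_le_normalizer_right _ _ hDn] at hx
    obtain ⟨o, ho, d, hd, rfl⟩ := Set.mem_mul.1 hx
    exact ⟨o, ho, d, hd, rfl⟩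
  have hzD : z ∈ D := by
    have hzC : z ∈ centralizer (D : Set G) := mem_centralizer_iff.2 fun d hd => hz.comm d (hle hd)
    obtain ⟨o, ho, d, hd, hod⟩ := hdec z (hc hzC)
    have hoS : o ∈ (S : Subgroup G) := by
      rw [eq_mul_inv_of_mul_eq hod]
      exact mul_mem hz.mem (inv_mem (hle hd))
    rw [hodd o ho hoS, one_mul] at hod
    exact hod ▸ hd
  have hObot : ∀ x ∈ O, x = 1 := fun x hx => hodd x hx (H.cent_mem hz (hcomm x hx z hzD))
  have hQD : Q ≤ D := by
    intro x hx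
    obtain ⟨o, ho, d, hd, rfl⟩ := hdec x hx
    rwa [hObot o ho, one_mul]
  refine ⟨hle, hc.trans hQD, fun K hK hKp hKn => ?_, hidx⟩
  haveI : (K.subgroupOf N).Normal := normal_subgroupOf_of_le_normalizer hKn
  have h1 : K.subgroupOf N ≤ Cfsg.pPrimePCore 2 N :=
    (HallCore.le_pCore (N := K.subgroupOf N) hKp.comap_subtype).trans (HallCore.pCore_le_pPrimePCore 2 N)
  intro x hx
  exact hQD ⟨⟨x, hK hx⟩, h1 (mem_subgroupOf.2 hx), rfl⟩

variable {D : Subgroup G}

theorem Local.cent_mem (L : Local S D) {z : G} (hz : Cent S z) : z ∈ D :=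
  L.cent (mem_centralizer_iff.2 fun d hd => hz.comm d (L.le hd))

theorem conj_mem_of_normalizer {m x : G} (hm : m ∈ normalizer (D : Set G)) (hx : x ∈ D) :
    m * x * m⁻¹ ∈ D :=
  (mem_normalizer_iff.1 hm x).1 hx

/-- A family of elements of `D` invariant under `N(D)` and containing a central involution of `S`
is centralised by elements of `D` only. -/
theorem Local.cent_set (H : Hyp S) (L : Local S D) {z : G} (hz : Cent S z) (V : Set G) (hzV : z ∈ V)
    (hVinv : ∀ m ∈ normalizer (D : Set G), ∀ v ∈ V, m * v * m⁻¹ ∈ V) {p : G}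
    (hpM : p ∈ normalizer (D : Set G)) (hp : ∀ v ∈ V, p * v = v * p) : p ∈ D := by
  refine L.radical (normalizer (D : Set G) ⊓ centralizer V) inf_le_left ?_ ?_
    ⟨hpM, mem_centralizer_iff.2 fun v hv => (hp v hv).symm⟩
  · exact S.isPGroup'.to_le fun x hx => H.cent_mem hz (mem_centralizer_iff.1 hx.2 z hzV).symm
  · intro m hm
    rw [mem_normalizer_iff]
    have key : ∀ m' ∈ normalizer (D : Set G), ∀ x ∈ normalizer (D : Set G) ⊓ centralizer V,
        m' * x * m'⁻¹ ∈ normalizer (D : Set G) ⊓ centralizer V := by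
      intro m' hm' x hx
      obtain ⟨hx1, hx2⟩ := mem_inf.1 hx
      refine mem_inf.2 ⟨mul_mem (mul_mem hm' hx1) (inv_mem hm'), mem_centralizer_iff.2 fun v hv => ?_⟩
      have h1 := mem_centralizer_iff.1 hx2 _ (hVinv m'⁻¹ (inv_mem hm') v hv)
      rw [inv_inv] at h1
      calc v * (m' * x * m'⁻¹) = m' * ((m'⁻¹ * v * m') * x) * m'⁻¹ := by group
        _ = m' * (x * (m'⁻¹ * v * m')) * m'⁻¹ := by rw [h1]
        _ = m' * x * m'⁻¹ * v := by group
    intro x
    refine ⟨key m hm x, fun hx => ?_⟩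
    have := key m⁻¹ (inv_mem hm) _ hx
    rwa [show m⁻¹ * (m * x * m⁻¹) * m⁻¹⁻¹ = x by group] at this

/-- A local subgroup not contained in `S` moves every central involution. -/
theorem Local.exists_moved (H : Hyp S) {z : G} (hz : Cent S z)
    (hM : ¬ normalizer (D : Set G) ≤ (S : Subgroup G)) :
    ∃ m ∈ normalizer (D : Set G), m * z * m⁻¹ ≠ z := by
  obtain ⟨m, hm, hmS⟩ := SetLike.not_le_iff_exists.1 hM
  exact ⟨m, hm, fun h => hmS (H.cent_mem hz (mul_inv_eq_iff_eq_mul.1 h))⟩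

/-- Facts about `P = N_S(D)`. -/
theorem Local.sizes (H : Hyp S) (L : Local S D) {z : G} (hz : Cent S z)
    (hM : ¬ normalizer (D : Set G) ≤ (S : Subgroup G)) :
    (∃ q ∈ (S : Subgroup G), q ∉ normalizer (D : Set G) ∧
      ∀ x, x ∈ (S : Subgroup G) ⊓ normalizer (D : Set G) →
        q * x * q⁻¹ ∈ (S : Subgroup G) ⊓ normalizer (D : Set G)) ∧
    (∃ p ∈ (S : Subgroup G) ⊓ normalizer (D : Set G), p ∉ D) ∧
    Nat.card ((S : Subgroup G) ⊓ normalizer (D : Set G) : Subgroup G) ≤ 64 ∧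
    Nat.card D ≤ 32 := by
  haveI : Fact (Nat.Prime 2) := ⟨Nat.prime_two⟩
  set P := (S : Subgroup G) ⊓ normalizer (D : Set G) with hP
  have hD1 : D ≠ ⊥ := fun hb => hz.ne (mem_bot.1 (hb ▸ L.cent_mem hz))
  have hDP : D ≤ P := le_inf L.le le_normalizer
  have hne : ¬ (S : Subgroup G) ≤ P := fun hle =>
    hM (H.normalizer_le hD1 L.le (hle.trans inf_le_right))
  obtain ⟨q, hqS, hqP, hqN⟩ : ∃ q ∈ (S : Subgroup G), q ∉ P ∧ q ∈ normalizer (P : Set G) := by
    obtain ⟨q, hq, hqP⟩ := SetLike.not_le_iff_exists.1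
      (AlperinTame.lt_normalizer_inf S.isPGroup' (lt_of_le_not_ge inf_le_left hne)).not_ge
    exact ⟨q, (mem_inf.1 hq).1, hqP, (mem_inf.1 hq).2⟩
  have hlt : P < (S : Subgroup G) := lt_of_le_not_ge inf_le_left hne
  have hDlt : D < P := by
    refine lt_of_le_of_ne hDP fun e => hqP ⟨hqS, ?_⟩
    rw [← e] at hqN
    exact hqN
  have half : ∀ A B : Subgroup G, A < B → B ≤ (S : Subgroup G) →
      2 * Nat.card A ≤ Nat.card B := by
    intro A B hAB hBS
    obtain ⟨k, hk⟩ := (S.isPGroup'.to_le hBS).exists_card_eq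
    obtain ⟨j, hj, hj'⟩ := (Nat.dvd_prime_pow Nat.prime_two).1 (hk ▸ card_dvd_of_le hAB.le)
    have hc := Set.Finite.card_lt_card (Set.toFinite (B : Set G)) hAB
    simp only [SetLike.coe_sort_coe] at hc
    rw [hj', hk] at hc ⊢
    rw [← pow_succ']
    exact Nat.pow_le_pow_right two_pos ((Nat.pow_lt_pow_iff_right one_lt_two).1 hc)
  have h1 := half P S hlt le_rfl
  have h2 := half D P hDlt inf_le_left
  rw [H.card] at h1
  refine ⟨⟨q, hqS, fun h => hqP ⟨hqS, h⟩, fun x hx => (mem_normalizer_iff.1 hqN x).1 hx⟩,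
    SetLike.exists_of_lt hDlt, by omega, by omega⟩

/-! ## Transfer -/

/-- If fusion preserves a subgroup of index two, there is no such simple group. -/
theorem Hyp.false_of_fusion (H : Hyp S) (Q : Subgroup G) (hQS : Q ≤ (S : Subgroup G))
    (hQ : Q.relIndex (S : Subgroup G) = 2)
    (h : ∀ (g : G), ∀ x ∈ (S : Subgroup G), g⁻¹ * x * g ∈ (S : Subgroup G) →
      (x ∈ Q ↔ g⁻¹ * x * g ∈ Q)) : False := by
  haveI : Fact (Nat.Prime 2) := ⟨Nat.prime_two⟩
  set Q0 := Q.subgroupOf (S : Subgroup G) with hQ0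
  have hi : Q0.index = 2 := hQ
  haveI : Q0.Normal := normal_of_index_eq_two hi
  haveI : IsCyclic ((S : Subgroup G) ⧸ Q0) := isCyclic_of_prime_card (p := 2) hi
  letI : CommGroup ((S : Subgroup G) ⧸ Q0) := IsCyclic.commGroup
  obtain ⟨x, hx⟩ : ∃ x : (S : Subgroup G), x ∉ Q0 := by
    by_contra hcon
    push Not at hcon
    have ht : Q0 = ⊤ := eq_top_iff.2 fun y _ => hcon y
    rw [ht, index_top] at hi
    omega
  let ϕ : (S : Subgroup G) →* (S : Subgroup G) ⧸ Q0 := QuotientGroup.mk' Q0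
  have hne : MonoidHom.transfer ϕ (x : G) ≠ 1 := by
    refine TransferThompson.transfer_ne_one S (S.isPGroup'.to_quotient Q0) ϕ x.2
      (fun e => hx ((QuotientGroup.eq_one_iff _).1 e)) ?_ ?_
    · intro g k hk hg
      refine (QuotientGroup.eq_one_iff _).2 (mem_subgroupOf.2 ((h g _ (pow_mem x.2 k) hg).1 ?_))
      obtain ⟨j, rfl⟩ := hk
      have : x ^ 2 ∈ Q0 := sq_mem_of_index_two hi x
      rw [pow_mul]
      exact pow_mem (mem_subgroupOf.1 this) j
    · intro g hg
      have hnot : (⟨_, hg⟩ : (S : Subgroup G)) ∉ Q0 := fun hm =>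
        hx (mem_subgroupOf.2 ((h g _ x.2 hg).2 (mem_subgroupOf.1 hm)))
      refine (QuotientGroup.eq (s := Q0)).2 ?_
      exact (mul_mem_iff_of_index_two hi).2 (by simp [hnot, hx])
  rcases (MonoidHom.normal_ker (MonoidHom.transfer ϕ)).eq_bot_or_eq_top with hk | hk
  · refine H.nc ⟨⟨fun a b => (MonoidHom.ker_eq_bot_iff _).1 hk ?_⟩⟩
    rw [map_mul, map_mul, mul_comm]
  · exact hne (MonoidHom.mem_ker.1 (hk ▸ mem_top (x : G)))

/-- If every station of a conjugation family preserves a subgroup of index two, there is no such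
simple group. -/
theorem Hyp.false_of_local (H : Hyp S) {z : G} (hz : Cent S z) (Q : Subgroup G)
    (hQS : Q ≤ (S : Subgroup G)) (hQ : Q.relIndex (S : Subgroup G) = 2)
    (h : ∀ D : Subgroup G, Local S D → ¬ normalizer (D : Set G) ≤ (S : Subgroup G) →
      ∀ n ∈ normalizer (D : Set G), ∀ d ∈ D, d ∈ Q → n * d * n⁻¹ ∈ Q) : False := by
  haveI : Fact (Nat.Prime 2) := ⟨Nat.prime_two⟩
  have hQn : ∀ s ∈ (S : Subgroup G), ∀ d ∈ Q, s * d * s⁻¹ ∈ Q := by
    intro s hs d hd
    have hi : (Q.subgroupOf (S : Subgroup G)).index = 2 := hQ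
    exact mem_subgroupOf.1
      ((normal_of_index_eq_two hi).conj_mem ⟨d, hQS hd⟩ (mem_subgroupOf.2 hd) ⟨s, hs⟩)
  have step : ∀ D : Subgroup G, Good 2 (S : Subgroup G) D → ∀ n ∈ normalizer (D : Set G), ∀ d ∈ D,
      (d ∈ Q ↔ n * d * n⁻¹ ∈ Q) := by
    intro D hD
    have key : ∀ n ∈ normalizer (D : Set G), ∀ d ∈ D, d ∈ Q → n * d * n⁻¹ ∈ Q := by
      intro n hn d hd hdQ
      by_cases hM : normalizer (D : Set G) ≤ (S : Subgroup G)
      · exact hQn n (hM hn) d hdQ
      · exact h D (H.local_of_good hz hD) hM n hn d hd hdQ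
    intro n hn d hd
    refine ⟨key n hn d hd, fun hq => ?_⟩
    have := key n⁻¹ (inv_mem hn) _ (conj_mem_of_normalizer hn hd) hq
    rwa [show n⁻¹ * (n * d * n⁻¹) * n⁻¹⁻¹ = d by group] at this
  have hchain : ∀ {T : Subgroup G} {g : G}, Chain 2 (S : Subgroup G) T g →
      ∀ t ∈ T, (t ∈ Q ↔ g⁻¹ * t * g ∈ Q) := by
    intro T g hc
    induction hc with
    | refl T => intro t _; simp
    | cons T D x g hD hTD hx _ ih =>
      intro t ht
      have h1 := step D hD x⁻¹ (inv_mem hx) t (hTD ht)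
      rw [inv_inv] at h1
      have h2 := ih (x⁻¹ * t * x) (by
        have := conj_mem_cj (g := x⁻¹) ht
        rwa [inv_inv] at this)
      rw [h1, h2, show (x * g)⁻¹ * t * (x * g) = g⁻¹ * (x⁻¹ * t * x) * g by group]
  refine H.false_of_fusion Q hQS hQ fun g x hx hgx => ?_
  have hT : zpowers x ≤ (S : Subgroup G) := zpowers_le.2 hx
  have hgT : cj g⁻¹ (zpowers x) ≤ (S : Subgroup G) := by
    rw [cj, MonoidHom.map_zpowers, zpowers_le]
    simpa using hgx
  obtain ⟨c, hc, k, hk, rfl⟩ := AlperinGoldschmidt62.alperin S hT hgT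
  have hcx : x * c = c * x := mem_centralizer_iff.1 hc x (mem_zpowers x)
  rw [hchain hk x (mem_zpowers x),
    show (c * k)⁻¹ * x * (c * k) = k⁻¹ * (c⁻¹ * (x * c)) * k by group, hcx,
    show c⁻¹ * (c * x) = x by group]

end Cfsg.Agent.MaxSylow128x78
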