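import Cfsg.Agent.Lib.MaxSylow128Four78

/-!
# Simple groups with a maximal Sylow `2`-subgroup of order `2^7`: the other small cases

Two central involutions, or a unique involution.
-/

set_option autoImplicit false
set_option linter.unusedSectionVars false

namespace Cfsg.Agent.MaxSylow128x78

open Subgroup Cfsg.Agent.TransferAlperin

/-- A finite set closed under two independent involutive translations has product `1` in an
elementary abelian `2`-group. -/
theorem prod_eq_one_of_closed {A : Type*} [CommGroup A] [DecidableEq A] (hA : ∀ x : A, x * x = 1)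
    {α β : A} (hα : α ≠ 1) (hβ : β ≠ 1) (hαβ : α ≠ β) (T : Finset A)
    (h1 : ∀ x ∈ T, x * α ∈ T) (h2 : ∀ x ∈ T, x * β ∈ T) : ∏ x ∈ T, x = 1 := by
  induction T using Finset.strongInduction with
  | _ T ih =>
    rcases T.eq_empty_or_nonempty with rfl | ⟨x, hx⟩
    · simp
    have hαi : α⁻¹ = α := inv_eq_of_mul_eq_one_right (hA α)
    have hab : α * β ≠ 1 := fun h => hαβ ((eq_inv_of_mul_eq_one_right h).trans hαi).symm
    set Q : Finset A := {x, x * α, x * β, x * (α * β)} with hQ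
    have hQT : Q ⊆ T := by
      intro y hy
      simp only [hQ, Finset.mem_insert, Finset.mem_singleton] at hy
      rcases hy with rfl | rfl | rfl | rfl
      · exact hx
      · exact h1 x hx
      · exact h2 x hx
      · rw [← mul_assoc]; exact h2 _ (h1 x hx)
    have memQ : ∀ y, y ∈ Q ↔ y = x ∨ y = x * α ∨ y = x * β ∨ y = x * (α * β) := by
      intro y; simp [hQ]
    have clQ : ∀ y, y ∈ Q → y * α ∈ Q ∧ y * β ∈ Q := by
      intro y hy
      have a1 := hA α
      have b1 := hA β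
      rcases (memQ y).1 hy with rfl | rfl | rfl | rfl <;> refine ⟨(memQ _).2 ?_, (memQ _).2 ?_⟩
      · exact Or.inr (Or.inl rfl)
      · exact Or.inr (Or.inr (Or.inl rfl))
      · exact Or.inl (by rw [mul_assoc, a1, mul_one])
      · exact Or.inr (Or.inr (Or.inr (mul_assoc _ _ _)))
      · exact Or.inr (Or.inr (Or.inr (by rw [mul_assoc, mul_comm β α])))
      · exact Or.inl (by rw [mul_assoc, b1, mul_one])
      · exact Or.inr (Or.inr (Or.inl (by rw [mul_assoc, mul_comm α β, mul_assoc, a1, mul_one])))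
      · exact Or.inr (Or.inl (by rw [mul_assoc, mul_assoc, b1, mul_one]))
    have hprodQ : ∏ y ∈ Q, y = 1 := by
      rw [hQ, Finset.prod_insert, Finset.prod_insert, Finset.prod_insert, Finset.prod_singleton]
      · have : x * (x * α * (x * β * (x * (α * β)))) = x * x * (x * x) * (α * α) * (β * β) := by
          ac_rfl
        rw [this, hA x, hA α, hA β, mul_one, mul_one, mul_one]
      all_goals simp [hα, hβ, hαβ, hab, Ne.symm hαβ, Ne.symm hα, Ne.symm hβ]
    have hrest : ∏ y ∈ T \ Q, y = 1 := by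
      refine ih _ (Finset.sdiff_ssubset hQT ⟨x, (memQ x).2 (Or.inl rfl)⟩) ?_ ?_
      · intro y hy
        rw [Finset.mem_sdiff] at hy ⊢
        refine ⟨h1 y hy.1, fun h => hy.2 ?_⟩
        have := (clQ _ h).1
        rwa [mul_assoc, hA α, mul_one] at this
      · intro y hy
        rw [Finset.mem_sdiff] at hy ⊢
        refine ⟨h2 y hy.1, fun h => hy.2 ?_⟩
        have := (clQ _ h).2
        rwa [mul_assoc, hA β, mul_one] at this
    rw [← Finset.prod_sdiff hQT, hrest, hprodQ, one_mul]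

variable {G : Type*} [Group G] [Finite G] [IsSimpleGroup G] {S : Sylow 2 G} {D : Subgroup G}

/-- The elements of order at most two in the centre of `S`. -/
def omegaCenter (S : Sylow 2 G) : Subgroup G where
  carrier := {x | x ∈ (S : Subgroup G) ∧ x * x = 1 ∧ ∀ s ∈ (S : Subgroup G), s * x = x * s}
  one_mem' := ⟨one_mem _, one_mul 1, fun s _ => by rw [mul_one, one_mul]⟩
  mul_mem' := by
    rintro a b ⟨ha, ha2, hac⟩ ⟨hb, hb2, hbc⟩
    refine ⟨mul_mem ha hb, ?_, fun s hs => ?_⟩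
    · rw [mul_assoc, ← mul_assoc b, hac b hb, mul_assoc a b b, hb2, mul_one, ha2]
    · rw [← mul_assoc, hac s hs, mul_assoc, hbc s hs, mul_assoc]
  inv_mem' := by
    rintro a ⟨ha, ha2, hac⟩
    rw [inv_eq_of_mul_eq_one_right ha2]
    exact ⟨ha, ha2, hac⟩

theorem cent_of_omega {x : G} (hx : x ∈ omegaCenter S) (h1 : x ≠ 1) : Cent S x :=
  ⟨hx.1, h1, hx.2.1, hx.2.2⟩

/-- With two central involutions every station has its normaliser in `S`. -/
theorem central_station (H : Hyp S) {z1 z2 : G} (h1 : Cent S z1) (h2 : Cent S z2) (hne : z1 ≠ z2)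
    (L : Local S D) : normalizer (D : Set G) ≤ (S : Subgroup G) := by
  by_contra hM
  haveI : Fact (Nat.Prime 2) := ⟨Nat.prime_two⟩
  classical
  set M := normalizer (D : Set G) with hMdef
  set E := omegaCenter S with hE
  have hz1E : z1 ∈ E := ⟨h1.mem, h1.sq, h1.comm⟩
  have hz2E : z2 ∈ E := ⟨h2.mem, h2.sq, h2.comm⟩
  have hED : E ≤ D := fun x hx => by
    by_cases hx1 : x = 1
    · rw [hx1]; exact one_mem _
    · exact L.cent_mem (cent_of_omega hx hx1)
  have hE4 : 4 ≤ Nat.card E := by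
    obtain ⟨k, hk⟩ := (S.isPGroup'.to_le fun x (hx : x ∈ E) => hx.1).exists_card_eq
    have h3 : 3 ≤ Nat.card E := by
      refine le_trans (by simp) (Nat.card_le_card_of_injective
        (![1, ⟨z1, hz1E⟩, ⟨z2, hz2E⟩] : Fin 3 → E) ?_)
      intro i j h
      have h' := congrArg Subtype.val h
      fin_cases i <;> fin_cases j <;> simp at h' ⊢
      · exact h1.ne h'.symm
      · exact h2.ne h'.symm
      · exact h1.ne h'
      · exact hne h'
      · exact h2.ne h'
      · exact hne h'.symm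
    rw [hk] at h3 ⊢
    rcases k with _ | _ | k
    · simp at h3
    · simp at h3
    · rw [pow_add, pow_add]
      have : 0 < 2 ^ k := Nat.two_pow_pos k
      omega
  obtain ⟨⟨q, hqS, hqN, hqP⟩, ⟨p0, hp0, hp0D⟩, hP64, hD32⟩ := L.sizes H h1 hM
  set P := (S : Subgroup G) ⊓ M with hP
  have hDP : D ≤ P := le_inf L.le le_normalizer
  -- for `a ∈ P \ D`: a conjugate `F` of `E` meeting `C(a)` trivially
  have pair : ∀ a ∈ P, a ∉ D → ∃ m ∈ M, ∀ y ∈ E,
      m * y * m⁻¹ * a = a * (m * y * m⁻¹) → y = 1 := by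
    intro a ha haD
    have haM : a ∈ M := (mem_inf.1 ha).2
    have hA : IsPGroup 2 (D ⊔ zpowers a : Subgroup G) :=
      S.isPGroup'.to_le ((sup_le hDP (zpowers_le.2 ha)).trans inf_le_left)
    obtain ⟨m, hm, hpair⟩ := L.exists_pair haM haD hA (mem_sup_right (mem_zpowers a))
      (sup_le le_normalizer (zpowers_le.2 haM))
    refine ⟨m, hm, fun y hy hya => ?_⟩
    by_contra hy1
    apply hpair
    have hyc : Cent S y := cent_of_omega hy hy1
    have hmem : ∀ x, m * y * m⁻¹ * x = x * (m * y * m⁻¹) → x ∈ cj m (S : Subgroup G) := by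
      intro x hx
      rw [mem_cj]
      refine H.cent_mem hyc ?_
      calc m⁻¹ * x * m * y = m⁻¹ * (x * (m * y * m⁻¹)) * m := by group
        _ = m⁻¹ * (m * y * m⁻¹ * x) * m := by rw [hx]
        _ = y * (m⁻¹ * x * m) := by group
    refine (isPGroup_cj (g := m) S.isPGroup').to_le (sup_le (sup_le ?_ ?_) ?_)
    · intro x hx
      refine hmem x ?_
      have hx' : m⁻¹ * x * m ∈ D := by simpa using conj_mem_of_normalizer (inv_mem hm) hx
      calc m * y * m⁻¹ * x = m * (y * (m⁻¹ * x * m)) * m⁻¹ := by group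
        _ = m * (m⁻¹ * x * m * y) * m⁻¹ := by rw [← hyc.comm _ (L.le hx')]
        _ = x * (m * y * m⁻¹) := by group
    · exact zpowers_le.2 (hmem a hya)
    · exact map_mono ((sup_le hDP (zpowers_le.2 ha)).trans inf_le_left)
  -- `4 |C_D(a)| ≤ |D|`
  have bound : ∀ a ∈ P, a ∉ D →
      Nat.card (D ⊓ centralizer ({a} : Set G) : Subgroup G) * Nat.card E ≤ Nat.card D := by
    intro a ha haD
    obtain ⟨m, hm, hy⟩ := pair a ha haD
    rw [← Nat.card_prod]
    refine Nat.card_le_card_of_injective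
      (fun p => (⟨(p.1 : G) * (m * p.2 * m⁻¹), mul_mem (mem_inf.1 p.1.2).1
        (conj_mem_of_normalizer hm (hED p.2.2))⟩ : D)) ?_
    rintro ⟨⟨c, hc⟩, ⟨y, hy1⟩⟩ ⟨⟨c', hc'⟩, ⟨y', hy1'⟩⟩ h
    have h' : c * (m * y * m⁻¹) = c' * (m * y' * m⁻¹) := congrArg (fun t : D => (t : G)) h
    have e0 : m * (y * y'⁻¹) * m⁻¹ = c⁻¹ * c' := by
      calc m * (y * y'⁻¹) * m⁻¹ = c⁻¹ * (c * (m * y * m⁻¹)) * (m * y' * m⁻¹)⁻¹ := by group
        _ = c⁻¹ * c' := by rw [h']; group
    have e1 : y * y'⁻¹ = 1 := by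
      refine hy _ (mul_mem hy1 (inv_mem hy1')) ?_
      rw [e0]
      exact mem_centralizer_singleton_iff.1 (mul_mem (inv_mem (mem_inf.1 hc).2) (mem_inf.1 hc').2)
    obtain rfl : y = y' := mul_inv_eq_one.1 e1
    obtain rfl : c = c' := mul_right_cancel h'
    rfl
  have hE_C : ∀ a ∈ P, E ≤ D ⊓ centralizer ({a} : Set G) := fun a ha x hx =>
    mem_inf.2 ⟨hED hx, mem_centralizer_singleton_iff.2 (hx.2.2 a (mem_inf.1 ha).1).symm⟩
  -- `D` is abelian
  obtain ⟨m0, hm0, hy0⟩ := pair p0 hp0 hp0D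
  have hzc : ∀ x : G, x ∈ E → ∀ y ∈ D, y * x = x * y := fun x hx y hy => hx.2.2 y (L.le hy)
  have hzcm : ∀ x : G, x ∈ E → ∀ y ∈ D, y * (m0 * x * m0⁻¹) = m0 * x * m0⁻¹ * y := by
    intro x hx y hy
    have hy' : m0⁻¹ * y * m0 ∈ D := by simpa using conj_mem_of_normalizer (inv_mem hm0) hy
    calc y * (m0 * x * m0⁻¹) = m0 * (m0⁻¹ * y * m0 * x) * m0⁻¹ := by group
      _ = m0 * (x * (m0⁻¹ * y * m0)) * m0⁻¹ := by rw [hzc x hx _ hy']
      _ = _ := by group
  let pr : E × E → center D := fun p =>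
    ⟨⟨(p.1 : G) * (m0 * p.2 * m0⁻¹), mul_mem (hED p.1.2)
      (conj_mem_of_normalizer hm0 (hED p.2.2))⟩, mem_center_iff.2 fun g => Subtype.ext (by
        show (g : G) * ((p.1 : G) * (m0 * p.2 * m0⁻¹)) = (p.1 : G) * (m0 * p.2 * m0⁻¹) * g
        rw [← mul_assoc, hzc p.1 p.1.2 g g.2, mul_assoc, hzcm p.2 p.2.2 g g.2, ← mul_assoc])⟩
  have hpr : Function.Injective pr := by
    rintro ⟨⟨c, hc⟩, ⟨y, hy1⟩⟩ ⟨⟨c', hc'⟩, ⟨y', hy1'⟩⟩ h
    have h' : c * (m0 * y * m0⁻¹) = c' * (m0 * y' * m0⁻¹) :=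
      congrArg (fun t : center D => ((t : D) : G)) h
    have e0 : m0 * (y * y'⁻¹) * m0⁻¹ = c⁻¹ * c' := by
      calc m0 * (y * y'⁻¹) * m0⁻¹ = c⁻¹ * (c * (m0 * y * m0⁻¹)) * (m0 * y' * m0⁻¹)⁻¹ := by group
        _ = c⁻¹ * c' := by rw [h']; group
    have e1 : y * y'⁻¹ = 1 := by
      refine hy0 _ (mul_mem hy1 (inv_mem hy1')) ?_
      rw [e0]
      exact ((mul_mem (inv_mem hc) hc').2.2 p0 (mem_inf.1 hp0).1).symm
    obtain rfl : y = y' := mul_inv_eq_one.1 e1
    obtain rfl : c = c' := mul_right_cancel h'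
    rfl
  have hZ : Nat.card E * Nat.card E ≤ Nat.card (center D) := by
    rw [← Nat.card_prod]; exact Nat.card_le_card_of_injective pr hpr
  have hab : ∀ x ∈ D, ∀ y ∈ D, x * y = y * x := by
    have h3 := (center D).card_mul_index
    have h4 : (center D).index ≤ 2 := by nlinarith
    have hcyc : IsCyclic (D ⧸ center D) := by
      rcases Nat.lt_or_eq_of_le h4 with hlt | heq
      · have : (center D).index = 1 := by
          have := (center D).index_ne_zero_of_finite
          omega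
        haveI : Subsingleton (D ⧸ center D) := (Nat.card_eq_one_iff_unique.1 this).1
        exact isCyclic_of_subsingleton
      · exact isCyclic_of_prime_card (p := 2) heq
    intro x hx y hy
    exact congrArg Subtype.val (MaxClassTwo.eq_center_of_cyclic_quotient hcyc ⟨x, hx⟩ ⟨y, hy⟩)
  -- the conjugate `D'`
  set D' := cj q D with hD'
  have hD'P : D' ≤ P := by
    intro x hx
    rw [hD', mem_cj] at hx
    have := hqP _ (hDP hx)
    rwa [show q * (q⁻¹ * x * q) * q⁻¹ = x by group] at this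
  have hD'ab : ∀ x ∈ D', ∀ y ∈ D', x * y = y * x := by
    intro x hx y hy
    rw [hD', mem_cj] at hx hy
    calc x * y = q * (q⁻¹ * x * q * (q⁻¹ * y * q)) * q⁻¹ := by group
      _ = q * (q⁻¹ * y * q * (q⁻¹ * x * q)) * q⁻¹ := by rw [hab _ hx _ hy]
      _ = y * x := by group
  set I := D ⊓ D' with hI
  have hEI : E ≤ I := fun x hx => mem_inf.2 ⟨hED hx, by
    rw [hD', mem_cj, mul_assoc, ← hx.2.2 q hqS, inv_mul_cancel_left]
    exact hED hx⟩
  obtain ⟨a, ha, haD⟩ : ∃ a ∈ D', a ∉ D := by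
    refine SetLike.not_le_iff_exists.1 fun hle => hqN (mem_normalizer_of_cj_eq ?_)
    exact eq_of_le_of_card_ge hle (card_cj q D).ge
  have hIC : ∀ a ∈ D', I ≤ D ⊓ centralizer ({a} : Set G) := fun a ha x hx =>
    mem_inf.2 ⟨(mem_inf.1 hx).1,
      mem_centralizer_singleton_iff.2 (hD'ab x (mem_inf.1 hx).2 a ha)⟩
  have hIbound : Nat.card I * Nat.card E ≤ Nat.card D :=
    le_trans (Nat.mul_le_mul_right _ (Nat.le_of_dvd Nat.card_pos (card_dvd_of_le (hIC a ha))))
      (bound a (hD'P ha) haD)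
  have hEI' : Nat.card E ≤ Nat.card I := Nat.le_of_dvd Nat.card_pos (card_dvd_of_le hEI)
  have hidx : Nat.card D * Nat.card D ≤ Nat.card I * 64 := by
    have e1 : Nat.card I * D.relIndex D' = Nat.card D := by
      have h := relIndex_mul_relIndex ⊥ I D' bot_le inf_le_right
      rw [relIndex_bot_left, relIndex_bot_left, inf_relIndex_right, card_cj] at h
      exact h
    have e2 : Nat.card D * D.relIndex P = Nat.card P := by
      have h := relIndex_mul_relIndex ⊥ D P bot_le hDP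
      rwa [relIndex_bot_left, relIndex_bot_left] at h
    have e3 : D.relIndex D' ≤ D.relIndex P := by
      refine relIndex_le_of_le_right hD'P ?_
      rw [relIndex]; exact Subgroup.index_ne_zero_of_finite
    calc Nat.card D * Nat.card D = Nat.card D * (Nat.card I * D.relIndex D') := by rw [e1]
      _ ≤ Nat.card D * (Nat.card I * D.relIndex P) :=
        Nat.mul_le_mul_left _ (Nat.mul_le_mul_left _ e3)
      _ = Nat.card I * Nat.card P := by rw [← e2]; ring
      _ ≤ _ := Nat.mul_le_mul_left _ hP64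
  have hcardD : Nat.card D = 16 ∧ Nat.card I = 4 ∧ Nat.card E = 4 := by
    have h5 : Nat.card E * Nat.card E ≤ Nat.card D :=
      hZ.trans (Nat.le_of_dvd Nat.card_pos (card_subgroup_dvd_card _))
    have hEle : Nat.card E ≤ 5 := by nlinarith
    obtain ⟨k, hk⟩ := (S.isPGroup'.to_le fun x (hx : x ∈ E) => hx.1).exists_card_eq
    have hE : Nat.card E = 4 := by
      rw [hk] at hE4 hEle ⊢
      have : k < 3 := (Nat.pow_lt_pow_iff_right (a := 2) one_lt_two).1 (by omega)
      interval_cases k <;> omega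
    rw [hE] at hIbound h5 hEI'
    refine ⟨?_, ?_, hE⟩ <;> nlinarith
  obtain ⟨hD16, hI4, hE4'⟩ := hcardD
  have hCa : ∀ a ∈ D', a ∉ D → ∀ x ∈ D, x * a = a * x → x ∈ E := by
    intro a ha haD x hx hxa
    have h := eq_of_le_of_card_ge (hE_C a (hD'P ha)) (by
      have := bound a (hD'P ha) haD
      rw [hD16, hE4'] at this
      omega)
    rw [h]
    exact mem_inf.2 ⟨hx, mem_centralizer_singleton_iff.2 hxa⟩
  have hIE : E = I := eq_of_le_of_card_ge hEI (by omega)
  have hsq : ∀ x ∈ D, x * x = 1 := by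
    intro x hx
    have hsurj : Function.Surjective fun p => (pr p : D) := by
      refine ((Nat.bijective_iff_injective_and_card _).2
        ⟨fun p p' h => hpr (Subtype.ext h), ?_⟩).2
      rw [Nat.card_prod, hE4', hD16]
    obtain ⟨⟨⟨c, hc⟩, ⟨y, hy⟩⟩, h⟩ := hsurj ⟨x, hx⟩
    have h' : c * (m0 * y * m0⁻¹) = x := congrArg Subtype.val h
    rw [← h']
    calc c * (m0 * y * m0⁻¹) * (c * (m0 * y * m0⁻¹))
        = c * (m0 * y * m0⁻¹ * c) * (m0 * y * m0⁻¹) := by group
      _ = c * (c * (m0 * y * m0⁻¹)) * (m0 * y * m0⁻¹) := by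
          rw [← hzcm y hy c (hED hc)]
      _ = c * c * (m0 * (y * y) * m0⁻¹) := by group
      _ = 1 := by rw [hc.2.1, hy.2.1]; group
  obtain ⟨b, hb, hbD, habD⟩ : ∃ b ∈ D', b ∉ D ∧ a⁻¹ * b ∉ D := by
    by_contra hh
    push Not at hh
    have hle : Nat.card D' ≤ Nat.card (Fin 2 × I) := by
      refine Nat.card_le_card_of_surjective
        (fun p => (⟨(if p.1 = 0 then 1 else a) * p.2, mul_mem
          (by split_ifs; exacts [one_mem _, ha]) (mem_inf.1 p.2.2).2⟩ : D')) ?_
      rintro ⟨y, hy⟩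
      by_cases hyD : y ∈ D
      · exact ⟨(0, ⟨y, mem_inf.2 ⟨hyD, hy⟩⟩), Subtype.ext (by simp)⟩
      · exact ⟨(1, ⟨a⁻¹ * y, mem_inf.2 ⟨hh y hy hyD, mul_mem (inv_mem ha) hy⟩⟩),
          Subtype.ext (by simp)⟩
    rw [Nat.card_prod, hI4, Nat.card_fin, hD', card_cj, hD16] at hle
    omega
  -- the orbit of `z1`
  letI : CommGroup D :=
    { (inferInstance : Group D) with mul_comm := fun x y => Subtype.ext (hab x x.2 y y.2) }
  haveI := Fintype.ofFinite D
  set O : Finset D := Finset.univ.filter fun x => ∃ n ∈ M, n * z1 * n⁻¹ = (x : G) with hO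
  have hzD : z1 ∈ D := hED hz1E
  have memO : ∀ x : D, x ∈ O ↔ ∃ n ∈ M, n * z1 * n⁻¹ = (x : G) := by simp [hO]
  have hzO : (⟨z1, hzD⟩ : D) ∈ O := (memO _).2 ⟨1, one_mem _, by group⟩
  have hOE : ∀ x ∈ O, (x : G) ∈ E → (x : G) = z1 := by
    intro x hx hxE
    obtain ⟨n, -, hn⟩ := (memO x).1 hx
    have hx1 : (x : G) ≠ 1 := fun h => h1.ne (conj_eq_one_iff.1 (hn.trans h))
    exact (H.cent_conj h1 (cent_of_omega hxE hx1) hn).symm
  have hT : ∀ ε, ∀ hε : ε ∈ E, ∀ x ∈ O.erase ⟨z1, hzD⟩,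
      x * ⟨ε, hED hε⟩ ∈ O.erase ⟨z1, hzD⟩ := by
    intro ε hε x hx
    rw [Finset.mem_erase] at hx ⊢
    have hxE : (x : G) ∉ E := fun h => hx.1 (Subtype.ext (hOE x hx.2 h))
    refine ⟨fun h => hxE ?_, ?_⟩
    · rw [eq_mul_inv_of_mul_eq (show (x : G) * ε = z1 from congrArg Subtype.val h)]
      exact mul_mem hz1E (inv_mem hε)
    -- conjugation by elements of `D'` multiplies by elements of `E`
    let δ : G → G := fun g => (x : G)⁻¹ * (g * x * g⁻¹)
    have hδ : ∀ g ∈ D', δ g ∈ E := by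
      intro g hg
      rw [hIE]
      have hgM : g ∈ M := (mem_inf.1 (hD'P hg)).2
      refine mem_inf.2 ⟨mul_mem (inv_mem x.2) (conj_mem_of_normalizer hgM x.2), ?_⟩
      have hxN : (x : G) ∈ normalizer (D' : Set G) := by
        refine mem_normalizer_of_cj_eq (eq_of_le_of_card_ge ?_ (card_cj _ D').ge)
        intro y hy
        rw [mem_cj] at hy
        rw [hD', mem_cj] at hy ⊢
        have hx' : q⁻¹ * (x : G) * q ∈ normalizer (D : Set G) := by
          have hxx : (x : G) ∈ P := hDP x.2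
          by_contra hcon
          -- `q` normalises `P`
          have hqPn : q ∈ normalizer (P : Set G) := mem_normalizer_of_cj_eq
            (eq_of_le_of_card_ge (fun y hy => by
              rw [mem_cj] at hy
              have := hqP _ hy
              rwa [show q * (q⁻¹ * y * q) * q⁻¹ = y by group] at this) (card_cj q P).ge)
          have := (mem_normalizer_iff.1 (inv_mem hqPn) x).1 hxx
          rw [inv_inv] at this
          exact hcon (mem_inf.1 this).2
        have := conj_mem_of_normalizer hx' hy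
        rwa [show q⁻¹ * (x : G) * q * (q⁻¹ * ((x : G)⁻¹ * y * x) * q) * (q⁻¹ * (x : G) * q)⁻¹
          = q⁻¹ * y * q by group] at this
      have := mul_mem ((mem_normalizer_iff.1 (inv_mem hxN) g).1 hg) (inv_mem hg)
      simpa [δ, mul_assoc] using this
    have hOδ : ∀ g ∈ D', ∃ n ∈ M, n * z1 * n⁻¹ = (x : G) * δ g := by
      intro g hg
      obtain ⟨n, hn, hnx⟩ := (memO x).1 hx.2
      refine ⟨g * n, mul_mem (mem_inf.1 (hD'P hg)).2 hn, ?_⟩
      calc g * n * z1 * (g * n)⁻¹ = g * (n * z1 * n⁻¹) * g⁻¹ := by group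
        _ = (x : G) * δ g := by rw [hnx]; simp [δ]
    have hδne : ∀ g ∈ D', g ∉ D → δ g ≠ 1 := fun g hg hgD h =>
      hxE (hCa g hg hgD x x.2 (mul_inv_eq_iff_eq_mul.1 (inv_mul_eq_one.1 h).symm).symm)
    have hδinj : δ a ≠ δ b := by
      intro h
      have h' : a * x * a⁻¹ = b * x * b⁻¹ := mul_left_cancel h
      refine hxE (hCa (a⁻¹ * b) (mul_mem (inv_mem ha) hb) habD x x.2 ?_)
      calc (x : G) * (a⁻¹ * b) = a⁻¹ * (a * x * a⁻¹) * b := by group
        _ = a⁻¹ * (b * x * b⁻¹) * b := by rw [h']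
        _ = a⁻¹ * b * x := by group
    have hδab : δ (a * b) = δ a * δ b := by
      have hc : a * δ b * a⁻¹ = δ b := by
        rw [(hδ b hb).2.2 a (mem_inf.1 (hD'P ha)).1]; group
      calc δ (a * b) = (x : G)⁻¹ * (a * x * a⁻¹) * (a * δ b * a⁻¹) := by simp only [δ]; group
        _ = δ a * δ b := by rw [hc]
    -- these fill `E`
    have hcover : ε = 1 ∨ ε = δ a ∨ ε = δ b ∨ ε = δ a * δ b := by
      by_contra hh
      push Not at hh
      obtain ⟨e1, e2, e3, e4⟩ := hh
      have hsa := (hδ a ha).2.1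
      have n1 : δ a * δ b ≠ 1 := fun h => hδinj
        ((eq_inv_of_mul_eq_one_right h).trans (inv_eq_of_mul_eq_one_right hsa)).symm
      have n2 : δ a * δ b ≠ δ a := fun h => hδne b hb hbD (mul_eq_left.1 h)
      have n3 : δ a * δ b ≠ δ b := fun h => hδne a ha haD (mul_eq_right.1 h)
      have : 5 ≤ Nat.card E := by
        refine le_trans (by simp) (Nat.card_le_card_of_injective
          (![1, ⟨δ a, hδ a ha⟩, ⟨δ b, hδ b hb⟩, ⟨δ a * δ b, mul_mem (hδ a ha) (hδ b hb)⟩,
            ⟨ε, hε⟩] : Fin 5 → E) ?_)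
        intro i j
        fin_cases i <;> fin_cases j <;>
          simp [Subtype.ext_iff, hδne a ha haD, Ne.symm (hδne a ha haD), hδne b hb hbD,
            Ne.symm (hδne b hb hbD), hδinj, Ne.symm hδinj, n1, Ne.symm n1, n2, Ne.symm n2, n3,
            Ne.symm n3, e1, Ne.symm e1, e2, Ne.symm e2, e3, Ne.symm e3, e4, Ne.symm e4]
      omega
    rw [memO]
    show ∃ n ∈ M, n * z1 * n⁻¹ = (x : G) * ε
    rcases hcover with rfl | rfl | rfl | rfl
    · obtain ⟨n, hn, hnx⟩ := (memO x).1 hx.2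
      exact ⟨n, hn, hnx.trans (mul_one _).symm⟩
    · exact hOδ a ha
    · exact hOδ b hb
    · rw [← hδab]; exact hOδ _ (mul_mem ha hb)
  have hprod : ∏ x ∈ O, x = ⟨z1, hzD⟩ := by
    rw [← Finset.mul_prod_erase O _ hzO, prod_eq_one_of_closed
      (fun x => Subtype.ext (hsq x x.2)) (α := ⟨z1, hED hz1E⟩) (β := ⟨z2, hED hz2E⟩)
      (fun h => h1.ne (congrArg Subtype.val h)) (fun h => h2.ne (congrArg Subtype.val h))
      (fun h => hne (congrArg Subtype.val h)) _ (hT z1 hz1E) (hT z2 hz2E), mul_one]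
  obtain ⟨m, hm, hmz⟩ := Local.exists_moved (D := D) H h1 hM
  let ψ : D →* D :=
    { toFun := fun x => ⟨m * x * m⁻¹, conj_mem_of_normalizer hm x.2⟩
      map_one' := Subtype.ext (by simp)
      map_mul' := fun x y => Subtype.ext (by simp [mul_assoc]) }
  have hψ : Function.Injective ψ := fun x y h =>
    Subtype.ext (mul_left_cancel (mul_right_cancel (congrArg Subtype.val h)))
  have himg : O.image ψ = O := by
    refine Finset.eq_of_subset_of_card_le (fun y hy => ?_)
      (Finset.card_image_of_injective _ hψ).ge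
    obtain ⟨x, hx, rfl⟩ := Finset.mem_image.1 hy
    obtain ⟨n, hn, hnx⟩ := (memO x).1 hx
    refine (memO _).2 ⟨m * n, mul_mem hm hn, ?_⟩
    show m * n * z1 * (m * n)⁻¹ = m * x * m⁻¹
    rw [← hnx]; group
  have hfix : ψ ⟨z1, hzD⟩ = ⟨z1, hzD⟩ := by
    rw [← hprod, map_prod]
    conv_rhs => rw [← himg]
    rw [Finset.prod_image hψ.injOn]
  exact hmz (congrArg Subtype.val hfix)

/-- A subgroup of index two in `S`. -/
theorem Hyp.exists_index_two (H : Hyp S) :
    ∃ Q : Subgroup G, Q ≤ (S : Subgroup G) ∧ Q.relIndex (S : Subgroup G) = 2 := by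
  haveI : Fact (Nat.Prime 2) := ⟨Nat.prime_two⟩
  obtain ⟨Q, hQ⟩ := Sylow.exists_subgroup_card_pow_prime 2 (G := (S : Subgroup G)) (n := 6)
    (by rw [H.card]; exact pow_dvd_pow 2 (by norm_num))
  refine ⟨Q.map (S : Subgroup G).subtype, map_subtype_le _, ?_⟩
  rw [relIndex, subgroupOf, comap_map_eq_self_of_injective (subtype_injective _)]
  have h := Q.card_mul_index
  rw [hQ, H.card] at h
  simp at h ⊢
  omega

/-- Two central involutions are impossible. -/
theorem false_of_central (H : Hyp S) {z1 z2 : G} (h1 : Cent S z1) (h2 : Cent S z2)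
    (hne : z1 ≠ z2) : False := by
  obtain ⟨Q, hQ, hQi⟩ := H.exists_index_two
  exact H.false_of_local h1 Q hQ hQi fun D L hM => absurd (central_station H h1 h2 hne L) hM

/-- A unique involution is impossible. -/
theorem false_of_unique (H : Hyp S) {z : G} (hz : Cent S z)
    (huniq : ∀ x ∈ (S : Subgroup G), x * x = 1 → x = 1 ∨ x = z) : False := by
  obtain ⟨Q, hQ, hQi⟩ := H.exists_index_two
  refine H.false_of_local hz Q hQ hQi fun D L hM => ?_
  obtain ⟨m, hm, hmz⟩ := Local.exists_moved (D := D) H hz hM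
  exfalso
  rcases huniq _ (L.le (conj_mem_of_normalizer hm (L.cent_mem hz))) (by
    calc m * z * m⁻¹ * (m * z * m⁻¹) = m * (z * z) * m⁻¹ := by group
      _ = 1 := by rw [hz.sq]; group) with h | h
  · exact hz.ne (conj_eq_one_iff.1 h)
  · exact hmz h

end Cfsg.Agent.MaxSylow128x78
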