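import Cfsg.Agent.Lib.MaxSylow128Base78
import Cfsg.Agent.Lib.MaxClassTwo
import Cfsg.Agent.S0199

/-!
# Simple groups with a maximal Sylow `2`-subgroup of order `2^7`: a non-central normal four group

If `E = {1, z, e, ez}` is normal in `S` and not central, then every station of a conjugation
family preserves `C_S(E)`, so `G` would have a subgroup of index two.
-/

set_option autoImplicit false
set_option linter.unusedSectionVars false

namespace Cfsg.Agent.MaxSylow128x78

open Subgroup Cfsg.Agent.TransferAlperin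
open scoped commutatorElement

/-- A proper subgroup of a `2`-group has at most half the order. -/
theorem two_mul_card_le {G : Type*} [Group G] [Finite G] {A B : Subgroup G} (hB : IsPGroup 2 B)
    (hAB : A < B) : 2 * Nat.card A ≤ Nat.card B := by
  haveI : Fact (Nat.Prime 2) := ⟨Nat.prime_two⟩
  obtain ⟨k, hk⟩ := hB.exists_card_eq
  obtain ⟨j, hj, hj'⟩ := (Nat.dvd_prime_pow Nat.prime_two).1 (hk ▸ card_dvd_of_le hAB.le)
  have hc := Set.Finite.card_lt_card (Set.toFinite (B : Set G)) hAB
  simp only [SetLike.coe_sort_coe] at hc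
  rw [hj', hk] at hc ⊢
  rw [← pow_succ']
  exact Nat.pow_le_pow_right two_pos ((Nat.pow_lt_pow_iff_right one_lt_two).1 hc)

/-- In a group of order at most `32` with two involutions in `Z(X) ∩ X'`, a centraliser of index
two is invariant under automorphisms. -/
theorem cent_aut_invariant {X : Type*} [Group X] [Finite X] (hX : IsPGroup 2 X)
    (hc : Nat.card X ≤ 32) {e z z' : X} (hz : z ∈ center X) (hz' : z' ∈ center X)
    (hzc : z ∈ commutator X) (hzc' : z' ∈ commutator X) (hz1 : z ≠ 1) (hz'1 : z' ≠ 1) (hne : z ≠ z')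
    (hK : (centralizer ({e} : Set X)).index = 2) (φ : X ≃* X) :
    ∀ k, k * e = e * k → φ k * e = e * φ k := by
  haveI : Fact (Nat.Prime 2) := ⟨Nat.prime_two⟩
  set K := centralizer ({e} : Set X) with hKdef
  have hfour : ∀ A : Subgroup X, z ∈ A → z' ∈ A → 4 ≤ Nat.card A := by
    intro A ha ha'
    obtain ⟨k, hk⟩ := (hX.to_subgroup A).exists_card_eq
    have h3 : 3 ≤ Nat.card A := by
      refine le_trans (by simp) (Nat.card_le_card_of_injective
        (![⟨1, one_mem A⟩, ⟨z, ha⟩, ⟨z', ha'⟩] : Fin 3 → A) ?_)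
      intro i j
      fin_cases i <;> fin_cases j <;>
        simp [Subtype.ext_iff, hz1, hz'1, hne, Ne.symm hz1, Ne.symm hz'1, Ne.symm hne]
    rw [hk] at h3 ⊢
    rcases k with _ | _ | k
    · simp at h3
    · simp at h3
    · rw [pow_add, pow_add]
      have : 0 < 2 ^ k := Nat.two_pow_pos k
      omega
  have heK : e ∈ K := mem_centralizer_singleton_iff.2 rfl
  have heZ : e ∉ center X := by
    intro h
    have ht : K = ⊤ := eq_top_iff.2 fun x _ =>
      mem_centralizer_singleton_iff.2 (mem_center_iff.1 h x)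
    rw [ht, index_top] at hK
    omega
  have hZK : center X ≤ K := fun x hx =>
    mem_centralizer_singleton_iff.2 (mem_center_iff.1 hx e).symm
  set W := center X ⊔ zpowers e with hW
  have hWK : W ≤ K := sup_le hZK (zpowers_le.2 heK)
  have hWcard : 2 * Nat.card (center X) ≤ Nat.card W :=
    two_mul_card_le (hX.to_subgroup W)
      (lt_of_le_of_ne le_sup_left fun h => heZ (by rw [h]; exact mem_sup_right (mem_zpowers e)))
  have hcent : W ≤ centralizer (K : Set X) := by
    refine sup_le (fun x hx => mem_centralizer_iff.2 fun y _ => mem_center_iff.1 hx y)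
      (zpowers_le.2 (mem_centralizer_iff.2 fun y hy => mem_centralizer_singleton_iff.1 hy))
  have hKcard : 2 * Nat.card K = Nat.card X := by
    rw [← K.card_mul_index, hK, mul_comm]
  have hKab : IsMulCommutative K := by
    have hle : W.subgroupOf K ≤ center K := fun x hx => mem_center_iff.2 fun y =>
      Subtype.ext (mem_centralizer_iff.1 (hcent (mem_subgroupOf.1 hx)) y y.2)
    have h1 : Nat.card W ≤ Nat.card (center K) := by
      rw [← Nat.card_congr (subgroupOfEquivOfLe hWK).toEquiv]
      exact Nat.le_of_dvd Nat.card_pos (card_dvd_of_le hle)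
    have h2 := (center K).card_mul_index
    have h3 := hfour _ hz hz'
    have h4 : (center K).index ≤ 2 := by nlinarith
    have hcyc : IsCyclic (K ⧸ center K) := by
      rcases Nat.lt_or_eq_of_le h4 with hlt | heq
      · have : (center K).index = 1 := by
          have := (center K).index_ne_zero_of_finite
          omega
        haveI : Subsingleton (K ⧸ center K) :=
          (Nat.card_eq_one_iff_unique.1 this).1
        exact isCyclic_of_subsingleton
      · exact isCyclic_of_prime_card (p := 2) heq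
    exact ⟨⟨MaxClassTwo.eq_center_of_cyclic_quotient hcyc⟩⟩
  obtain ⟨y, hy⟩ : ∃ y, y ∉ K := by
    by_contra hcon
    push Not at hcon
    have ht : K = ⊤ := eq_top_iff.2 fun x _ => hcon x
    rw [ht, index_top] at hK
    omega
  have hnc : ¬ ∀ a b : X, a * b = b * a := fun h =>
    hy (mem_centralizer_singleton_iff.2 (h y e))
  obtain ⟨-, -, -, hprod⟩ := MaxClassTwo.abelian_index_prime hX K hKab hK hnc hy
  set K' := K.comap φ.toMonoidHom with hK'
  suffices h : K' = K by
    intro k hk
    have : k ∈ K' := h ▸ mem_centralizer_singleton_iff.2 hk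
    exact mem_centralizer_singleton_iff.1 this
  by_contra hne'
  have hi' : K'.index = 2 := by rw [hK', index_comap_of_surjective _ φ.surjective, hK]
  have hK'ab : ∀ a ∈ K', ∀ b ∈ K', a * b = b * a := by
    intro a ha b hb
    apply φ.injective
    rw [map_mul, map_mul]
    exact congrArg Subtype.val (hKab.is_comm.comm ⟨φ a, ha⟩ ⟨φ b, hb⟩)
  have hnle : ¬ K' ≤ K := by
    intro hle
    refine hne' (eq_of_le_of_card_ge hle ?_)
    have h5 := K'.card_mul_index
    rw [hi'] at h5
    omega
  obtain ⟨b, hb, hbK⟩ := SetLike.not_le_iff_exists.1 hnle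
  have hinf : K ⊓ K' ≤ center X := by
    intro x hx
    obtain ⟨hx1, hx2⟩ := mem_inf.1 hx
    refine mem_center_iff.2 fun g => ?_
    by_cases hg : g ∈ K
    · exact congrArg Subtype.val (hKab.is_comm.comm ⟨g, hg⟩ ⟨x, hx1⟩)
    · have hbg : g * b ∈ K := (mul_mem_iff_of_index_two hK).2 (by simp [hg, hbK])
      have h1 : g * b * x = x * (g * b) :=
        congrArg Subtype.val (hKab.is_comm.comm ⟨_, hbg⟩ ⟨x, hx1⟩)
      have h2 : x * b = b * x := hK'ab x hx2 b hb
      refine mul_right_cancel (b := b) ?_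
      calc g * x * b = g * (x * b) := mul_assoc _ _ _
        _ = g * b * x := by rw [h2, mul_assoc]
        _ = x * g * b := by rw [h1, mul_assoc]
  have h6 : (K ⊓ K').index ≤ 4 := le_trans index_inf_le (by rw [hK, hi'])
  have h7 := (K ⊓ K').card_mul_index
  have h8 : Nat.card (K ⊓ K' : Subgroup X) ≤ Nat.card (center X) :=
    Nat.le_of_dvd Nat.card_pos (card_dvd_of_le hinf)
  have h9 := hfour _ hzc hzc'
  have h10 : 0 < Nat.card (center X) := Nat.card_pos
  nlinarith

variable {G : Type*} [Group G] [Finite G] [IsSimpleGroup G] {S : Sylow 2 G}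

/-- `{1, z, e, ez}` is a normal four group of `S`, not central. -/
structure Four (S : Sylow 2 G) (z e : G) : Prop where
  hz : Cent S z
  mem : e ∈ (S : Subgroup G)
  ne : e ≠ 1
  nez : e ≠ z
  sq : e * e = 1
  conj : ∀ s ∈ (S : Subgroup G), s * e * s⁻¹ = e ∨ s * e * s⁻¹ = e * z
  moved : ∃ s ∈ (S : Subgroup G), s * e ≠ e * s

variable {z e : G} {D : Subgroup G}

theorem Four.flip (F : Four S z e) {x : G} (hx : x ∈ (S : Subgroup G)) :
    e * x = x * e ∨ e * x * e⁻¹ = z * x := by
  rcases F.conj x hx with h | h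
  · exact Or.inl (mul_inv_eq_iff_eq_mul.1 h).symm
  · refine Or.inr ?_
    have h1 : x * e = e * z * x := mul_inv_eq_iff_eq_mul.1 h
    rw [inv_eq_of_mul_eq_one_right F.sq, mul_assoc, h1, ← mul_assoc, ← mul_assoc, F.sq, one_mul]

theorem Four.relIndex_cent (F : Four S z e) :
    ((S : Subgroup G) ⊓ centralizer ({e} : Set G)).relIndex (S : Subgroup G) = 2 := by
  rw [inf_relIndex_left, relIndex]
  rw [index_eq_two_iff]
  obtain ⟨a, ha, hae⟩ := F.moved
  refine ⟨⟨a, ha⟩, fun b => ?_⟩
  simp only [mem_subgroupOf, coe_mul, mem_centralizer_singleton_iff]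
  have hne : ¬ (a * e * a⁻¹ = e) := fun h => hae (mul_inv_eq_iff_eq_mul.1 h)
  have ha' : a * e * a⁻¹ = e * z := (F.conj a ha).resolve_left hne
  have hbz : (b : G) * z * (b : G)⁻¹ = z := by rw [F.hz.comm _ b.2]; group
  have e1 : (b : G) * a * e * ((b : G) * a)⁻¹ = (b : G) * e * (b : G)⁻¹ * z := by
    calc (b : G) * a * e * ((b : G) * a)⁻¹ = (b : G) * (a * e * a⁻¹) * (b : G)⁻¹ := by group
      _ = (b : G) * e * (b : G)⁻¹ * ((b : G) * z * (b : G)⁻¹) := by rw [ha']; group
      _ = _ := by rw [hbz]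
  have hiff : ∀ x : G, x * e = e * x ↔ x * e * x⁻¹ = e := fun x => mul_inv_eq_iff_eq_mul.symm
  rw [hiff, hiff, e1]
  rcases F.conj b b.2 with h | h <;> rw [h]
  · refine Or.inr ⟨rfl, fun h1 => F.hz.ne ?_⟩
    exact (mul_eq_left (a := e)).1 h1
  · refine Or.inl ⟨by rw [mul_assoc, F.hz.sq, mul_one], fun h1 => F.hz.ne ?_⟩
    exact (mul_eq_left (a := e)).1 h1

/-- Baer–Suzuki inside `N(D)`. -/
theorem Local.exists_pair (L : Local S D) {a : G} (ha : a ∈ normalizer (D : Set G))
    (haD : a ∉ D) {A : Subgroup G} (hA : IsPGroup 2 A) (haA : a ∈ A)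
    (hAN : A ≤ normalizer (D : Set G)) :
    ∃ m ∈ normalizer (D : Set G), ¬ IsPGroup 2 ↥(A ⊔ A.map (MulAut.conj m).toMonoidHom) := by
  haveI : Fact (Nat.Prime 2) := ⟨Nat.prime_two⟩
  by_contra hcon
  push Not at hcon
  set N := normalizer (D : Set G) with hN
  obtain ⟨K, hKn, hKp, hAK⟩ := Cfsg.Agent.S0199.result (A.subgroupOf N)
    hA.comap_subtype (fun g => by
      have hle : A.subgroupOf N ⊔ (A.subgroupOf N).map (MulAut.conj g).toMonoidHom ≤
          (A ⊔ A.map (MulAut.conj (g : G)).toMonoidHom).subgroupOf N := by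
        refine sup_le (fun x hx => mem_subgroupOf.2 (mem_sup_left (mem_subgroupOf.1 hx))) ?_
        rintro _ ⟨x, hx, rfl⟩
        exact mem_subgroupOf.2 (mem_sup_right ⟨x, mem_subgroupOf.1 hx, by simp⟩)
      exact ((hcon g g.2).comap_subtype).to_le hle)
  have hle : K.map N.subtype ≤ D := by
    refine L.radical _ (map_subtype_le _) (hKp.map _) ?_
    intro m hm
    exact le_normalizer_map N.subtype ⟨⟨m, hm⟩, by rw [normalizer_eq_top (H := K)]; trivial, rfl⟩
  exact haD (hle ⟨⟨a, ha⟩, hAK (mem_subgroupOf.2 haA), rfl⟩)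

/-- The case of an element of a normal four group outside the station. -/
theorem four_outside (H : Hyp S) (F : Four S z e) (L : Local S D)
    (hM : ¬ normalizer (D : Set G) ≤ (S : Subgroup G)) {d0 : G} (hd0 : d0 ∈ D)
    (hd0e : d0 * e ≠ e * d0) (heN : e ∈ normalizer (D : Set G)) (he : e ∉ D) : False := by
  haveI : Fact (Nat.Prime 2) := ⟨Nat.prime_two⟩
  have hzD := L.cent_mem F.hz
  have hzcen : ∀ x ∈ D, x * z = z * x := fun x hx => F.hz.comm x (L.le hx)
  set M := normalizer (D : Set G) with hMdef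
  have hA : IsPGroup 2 (zpowers e) := S.isPGroup'.to_le (zpowers_le.2 F.mem)
  obtain ⟨m, hm, hpair⟩ := L.exists_pair heN he hA (mem_zpowers e) (zpowers_le.2 heN)
  set f := m * e * m⁻¹ with hf
  set w := m * z * m⁻¹ with hw
  have hfM : f ∈ M := mul_mem (mul_mem hm heN) (inv_mem hm)
  -- nothing centralised by `e` and `f` is conjugate to `z`
  have noconj : ∀ c g : G, c * e = e * c → c * f = f * c → c ≠ g * z * g⁻¹ := by
    intro c g hce hcf hc
    apply hpair
    have hmem : ∀ x, c * x = x * c → x ∈ cj g (S : Subgroup G) := by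
      intro x hx
      rw [mem_cj]
      refine H.cent_mem F.hz ?_
      calc g⁻¹ * x * g * z = g⁻¹ * (x * c) * g := by rw [hc]; group
        _ = g⁻¹ * (c * x) * g := by rw [hx]
        _ = z * (g⁻¹ * x * g) := by rw [hc]; group
    refine (isPGroup_cj (g := g) S.isPGroup').to_le (sup_le (zpowers_le.2 (hmem e hce)) ?_)
    rw [MonoidHom.map_zpowers, zpowers_le]
    exact hmem f (by simpa [hf, MulAut.conj_apply] using hcf)
  -- the transvections
  have flipE : ∀ x ∈ D, e * x * e⁻¹ = x ∨ e * x * e⁻¹ = z * x := fun x hx =>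
    (F.flip (L.le hx)).imp_left mul_inv_eq_iff_eq_mul.2
  have flipConj : ∀ n ∈ M, ∀ x ∈ D, n * e * n⁻¹ * x * (n * e * n⁻¹)⁻¹ = x ∨
      n * e * n⁻¹ * x * (n * e * n⁻¹)⁻¹ = n * z * n⁻¹ * x := by
    intro n hn x hx
    have hx' : n⁻¹ * x * n ∈ D := by simpa using conj_mem_of_normalizer (inv_mem hn) hx
    have e1 : n * e * n⁻¹ * x * (n * e * n⁻¹)⁻¹ = n * (e * (n⁻¹ * x * n) * e⁻¹) * n⁻¹ := by group
    rw [e1]
    rcases flipE _ hx' with h | h <;> rw [h]
    · exact Or.inl (by group)
    · exact Or.inr (by group)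
  have flipF : ∀ x ∈ D, f * x * f⁻¹ = x ∨ f * x * f⁻¹ = w * x := flipConj m hm
  have hzfix : e * z * e⁻¹ = z := by rw [F.hz.comm e F.mem]; group
  have hwfix : f * w * f⁻¹ = w := by
    calc f * w * f⁻¹ = m * (e * z * e⁻¹) * m⁻¹ := by rw [hf, hw]; group
      _ = w := by rw [hzfix]
  have hwD : w ∈ D := conj_mem_of_normalizer hm hzD
  have hwcen : ∀ x ∈ D, x * w = w * x := by
    intro x hx
    have hx' : m⁻¹ * x * m ∈ D := by simpa using conj_mem_of_normalizer (inv_mem hm) hx
    calc x * w = m * ((m⁻¹ * x * m) * z) * m⁻¹ := by rw [hw]; group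
      _ = m * (z * (m⁻¹ * x * m)) * m⁻¹ := by rw [hzcen _ hx']
      _ = w * x := by rw [hw]; group
  have hw2 : w * w = 1 := by
    calc w * w = m * (z * z) * m⁻¹ := by rw [hw]; group
      _ = 1 := by rw [F.hz.sq]; group
  have hewm : e * w * e⁻¹ = z * w := by
    refine (flipE w hwD).resolve_left fun h => noconj w m ?_ ?_ hw
    · exact (mul_inv_eq_iff_eq_mul.1 h).symm
    · exact (mul_inv_eq_iff_eq_mul.1 hwfix).symm
  have hfz : f * z * f⁻¹ = w * z := by
    refine (flipF z hzD).resolve_left fun h => noconj z 1 ?_ ?_ (by group)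
    · exact (mul_inv_eq_iff_eq_mul.1 hzfix).symm
    · exact (mul_inv_eq_iff_eq_mul.1 h).symm
  have hzw : z * w = w * z := hwcen z hzD
  -- the common centraliser
  set C := D ⊓ centralizer ({e, f} : Set G) with hC
  have memC : ∀ x, x ∈ C ↔ x ∈ D ∧ e * x * e⁻¹ = x ∧ f * x * f⁻¹ = x := by
    intro x
    simp [hC, mem_centralizer_iff, mul_inv_eq_iff_eq_mul]
  have hC_le : C ≤ D := inf_le_left
  have decomp : ∀ x ∈ D, ∃ u, (u = 1 ∨ u = z ∨ u = w ∨ u = z * w) ∧ ∃ c ∈ C, x = u * c := by
    intro x hx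
    have cm : ∀ g a b : G, g * (a * b) * g⁻¹ = g * a * g⁻¹ * (g * b * g⁻¹) :=
      fun g a b => by group
    rcases flipE x hx with h1 | h1 <;> rcases flipF x hx with h2 | h2
    · exact ⟨1, Or.inl rfl, x, (memC x).2 ⟨hx, h1, h2⟩, (one_mul x).symm⟩
    · refine ⟨z, Or.inr (Or.inl rfl), z * x, (memC _).2 ⟨mul_mem hzD hx, ?_, ?_⟩, ?_⟩
      · rw [cm, hzfix, h1]
      · rw [cm, hfz, h2, ← hzw, mul_assoc, ← mul_assoc w, hw2, one_mul]
      · rw [← mul_assoc, F.hz.sq, one_mul]
    · refine ⟨w, Or.inr (Or.inr (Or.inl rfl)), w * x, (memC _).2 ⟨mul_mem hwD hx, ?_, ?_⟩, ?_⟩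
      · rw [cm, hewm, h1, hzw, mul_assoc, ← mul_assoc z, F.hz.sq, one_mul]
      · rw [cm, hwfix, h2]
      · rw [← mul_assoc, hw2, one_mul]
    · refine ⟨z * w, Or.inr (Or.inr (Or.inr rfl)), z * w * x,
        (memC _).2 ⟨mul_mem (mul_mem hzD hwD) hx, ?_, ?_⟩, ?_⟩
      · rw [cm, cm, hzfix, hewm, h1]
        calc z * (z * w) * (z * x) = z * z * (w * z) * x := by group
          _ = z * w * x := by rw [F.hz.sq, one_mul, hzw]
      · rw [cm, cm, hfz, hwfix, h2]
        calc w * z * w * (w * x) = w * z * (w * w) * x := by group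
          _ = z * w * x := by rw [hw2, mul_one, hzw]
      · rw [← mul_assoc, show z * w * (z * w) = z * z * (w * w) by
          conv_lhs => rw [mul_assoc, ← mul_assoc w, ← hzw, mul_assoc z w w, ← mul_assoc z z],
          F.hz.sq, hw2, one_mul, one_mul]
  have hzC : z ∉ C := fun h => by
    have h1 := ((memC z).1 h).2.2
    rw [hfz] at h1
    exact noconj w m (by rw [mul_eq_right.1 h1]; simp) (by rw [mul_eq_right.1 h1]; simp) hw
  have hwne : w ≠ 1 := fun h => F.hz.ne (conj_eq_one_iff.1 h)
  have hwC : w ∉ C := fun h => by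
    have h1 := ((memC w).1 h).2.1
    rw [hewm] at h1
    exact F.hz.ne (mul_eq_right.1 h1)
  have hzwC : z * w ∉ C := fun h => by
    have h1 := ((memC _).1 h).2.1
    rw [show e * (z * w) * e⁻¹ = e * z * e⁻¹ * (e * w * e⁻¹) by group, hzfix, hewm,
      ← mul_assoc, F.hz.sq, one_mul] at h1
    exact F.hz.ne (mul_eq_right.1 h1.symm)
  obtain ⟨⟨q, hqS, hqN, hqP⟩, -, hP64, hD32⟩ := L.sizes H F.hz hM
  set P := (S : Subgroup G) ⊓ M with hP
  have hDP : D ≤ P := le_inf L.le le_normalizer
  have heP : e ∈ P := mem_inf.2 ⟨F.mem, heN⟩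
  -- `P = D ∪ De`
  have hpe : ∀ p ∈ P, p ∈ D ∨ p * e ∈ D := by
    intro p hp
    rcases Nat.lt_or_ge 16 (Nat.card D) with hbig | hsmall
    · have h1 : D < P := lt_of_le_of_ne hDP fun h => he (h ▸ heP)
      have h2 := two_mul_card_le (S.isPGroup'.to_le inf_le_left) h1
      obtain ⟨k, hk⟩ := (S.isPGroup'.to_le L.le).exists_card_eq
      have hD : Nat.card D = 32 := by
        rw [hk] at hbig hD32 ⊢
        have : k ≤ 5 := (Nat.pow_le_pow_iff_right (a := 2) one_lt_two).1 hD32
        have : 4 < k := (Nat.pow_lt_pow_iff_right (a := 2) one_lt_two).1 hbig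
        rw [show k = 5 by omega]
        norm_num
      have hidx : (D.subgroupOf P).index = 2 := by
        have h3 := (D.subgroupOf P).card_mul_index
        have hP : Nat.card P = 64 := le_antisymm hP64 (le_trans (by rw [hD]) h2)
        rw [Nat.card_congr (subgroupOfEquivOfLe hDP).toEquiv, hD] at h3
        linarith
      by_cases hpD : p ∈ D
      · exact Or.inl hpD
      · exact Or.inr (mem_subgroupOf.1
          ((mul_mem_iff_of_index_two hidx (a := ⟨p, hp⟩) (b := ⟨e, heP⟩)).2
            (by simp [mem_subgroupOf, hpD, he])))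
    · -- the orbit of `z` is `{z, w, zw}`
      have hC4 : Nat.card C ≤ 4 := by
        have l1 : C < C ⊔ zpowers z :=
          lt_of_le_of_ne le_sup_left fun h => hzC (by rw [h]; exact mem_sup_right (mem_zpowers z))
        have hle : C ⊔ zpowers z ≤ D ⊓ centralizer ({e} : Set G) := by
          refine sup_le (fun x hx => mem_inf.2 ⟨hC_le hx, ?_⟩)
            (zpowers_le.2 (mem_inf.2 ⟨hzD, ?_⟩))
          · exact mem_centralizer_singleton_iff.2
              (mul_inv_eq_iff_eq_mul.1 ((memC x).1 hx).2.1).symm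
          · exact mem_centralizer_singleton_iff.2 (mul_inv_eq_iff_eq_mul.1 hzfix).symm
        have l2 : D ⊓ centralizer ({e} : Set G) < D :=
          lt_of_le_of_ne inf_le_left fun h =>
            hd0e (mem_centralizer_singleton_iff.1 (mem_inf.1 (h.symm ▸ hd0)).2)
        have p1 := two_mul_card_le
          (S.isPGroup'.to_le (hle.trans (inf_le_left.trans L.le))) l1
        have p2 := two_mul_card_le (S.isPGroup'.to_le L.le) l2
        have p3 := Nat.le_of_dvd Nat.card_pos (card_dvd_of_le hle)
        omega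
      set Ω : Set G := {x | ∃ n ∈ M, n * z * n⁻¹ = x} with hΩ
      have Ωinv : ∀ n ∈ M, ∀ x ∈ Ω, n * x * n⁻¹ ∈ Ω := by
        rintro n hn x ⟨k, hk, rfl⟩
        exact ⟨n * k, mul_mem hn hk, by group⟩
      have Ωinv' : ∀ n ∈ M, ∀ x, n * x * n⁻¹ ∈ Ω → x ∈ Ω := by
        intro n hn x hx
        have := Ωinv n⁻¹ (inv_mem hn) _ hx
        rwa [show n⁻¹ * (n * x * n⁻¹) * n⁻¹⁻¹ = x by group] at this
      have hzΩ : z ∈ Ω := ⟨1, one_mem _, by group⟩
      have im : ∀ c ∈ C, (z * c ∈ Ω → w * c ∈ Ω) ∧ (w * c ∈ Ω → z * c ∈ Ω) ∧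
          (z * c ∈ Ω → z * w * c ∈ Ω) ∧ (z * w * c ∈ Ω → z * c ∈ Ω) := by
        intro c hc
        obtain ⟨-, hce, hcf⟩ := (memC c).1 hc
        have e1 : f * (z * c) * f⁻¹ = z * w * c := by
          rw [show f * (z * c) * f⁻¹ = f * z * f⁻¹ * (f * c * f⁻¹) by group, hfz, hcf, hzw]
        have e2 : e * (w * c) * e⁻¹ = z * w * c := by
          rw [show e * (w * c) * e⁻¹ = e * w * e⁻¹ * (e * c * e⁻¹) by group, hewm, hce]
        have a1 : z * c ∈ Ω → z * w * c ∈ Ω := fun h => e1 ▸ Ωinv f hfM _ h
        have a2 : z * w * c ∈ Ω → z * c ∈ Ω := fun h => Ωinv' f hfM _ (e1 ▸ h)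
        exact ⟨fun h => Ωinv' e heN _ (e2 ▸ a1 h), fun h => a2 (e2 ▸ Ωinv e heN _ h), a1, a2⟩
      let C0 := {c : G // c ∈ C ∧ z * c ∈ Ω}
      have Ωcases : ∀ x ∈ Ω, ∃ c : C0, x = z * c.1 ∨ x = w * c.1 ∨ x = z * w * c.1 := by
        intro x hx
        obtain ⟨n, hn, rfl⟩ := hx
        have hxΩ : n * z * n⁻¹ ∈ Ω := ⟨n, hn, rfl⟩
        obtain ⟨u, hu, c, hc, hxc⟩ := decomp _ (conj_mem_of_normalizer hn hzD)
        obtain ⟨-, hce, hcf⟩ := (memC c).1 hc
        rw [hxc] at hxΩ ⊢
        rcases hu with rfl | rfl | rfl | rfl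
        · exact absurd (one_mul c ▸ hxc.symm) (noconj c n
            (mul_inv_eq_iff_eq_mul.1 hce).symm (mul_inv_eq_iff_eq_mul.1 hcf).symm)
        · exact ⟨⟨c, hc, hxΩ⟩, Or.inl rfl⟩
        · exact ⟨⟨c, hc, (im c hc).2.1 hxΩ⟩, Or.inr (Or.inl rfl)⟩
        · exact ⟨⟨c, hc, (im c hc).2.2.2 hxΩ⟩, Or.inr (Or.inr rfl)⟩
      have hcard : Nat.card Ω = 3 * Nat.card C0 := by
        rw [← Nat.card_fin 3, ← Nat.card_prod]
        let φ : Fin 3 × C0 → Ω := fun p => ⟨(![z, w, z * w] : Fin 3 → G) p.1 * p.2.1, by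
          obtain ⟨i, c, hc, hcΩ⟩ := p
          fin_cases i
          · exact hcΩ
          · exact (im c hc).1 hcΩ
          · exact (im c hc).2.2.1 hcΩ⟩
        symm
        refine Nat.card_congr (Equiv.ofBijective φ ⟨?_, ?_⟩)
        · rintro ⟨i, c, hc, hcΩ⟩ ⟨j, c', hc', hcΩ'⟩ h
          have h' : (![z, w, z * w] : Fin 3 → G) i * c = (![z, w, z * w] : Fin 3 → G) j * c' :=
            congrArg Subtype.val h
          have h'' : ((![z, w, z * w] : Fin 3 → G) j)⁻¹ * (![z, w, z * w] : Fin 3 → G) i ∈ C := by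
            have : ((![z, w, z * w] : Fin 3 → G) j)⁻¹ * (![z, w, z * w] : Fin 3 → G) i
                = c' * c⁻¹ := by
              rw [eq_mul_inv_iff_mul_eq, mul_assoc, h', inv_mul_cancel_left]
            rw [this]
            exact mul_mem hc' (inv_mem hc)
          have hij : i = j := by
            have i1 : z⁻¹ = z := inv_eq_of_mul_eq_one_right F.hz.sq
            have i2 : w⁻¹ = w := inv_eq_of_mul_eq_one_right hw2
            have n1 : z⁻¹ * w ∉ C := by rw [i1]; exact hzwC
            have n1' : w⁻¹ * z ∉ C := by rw [i2, ← hzw]; exact hzwC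
            have n2 : z⁻¹ * (z * w) ∉ C := by rw [inv_mul_cancel_left]; exact hwC
            have n2' : (z * w)⁻¹ * z ∉ C := by
              rw [mul_inv_rev, mul_assoc, inv_mul_cancel, mul_one, i2]; exact hwC
            have n3 : w⁻¹ * (z * w) ∉ C := by rw [hzw, inv_mul_cancel_left]; exact hzC
            have n3' : (z * w)⁻¹ * w ∉ C := by
              rw [hzw, mul_inv_rev, mul_assoc, inv_mul_cancel, mul_one, i1]; exact hzC
            fin_cases i <;> fin_cases j <;>
              first
              | rfl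
              | exact absurd h'' n1
              | exact absurd h'' n1'
              | exact absurd h'' n2
              | exact absurd h'' n2'
              | exact absurd h'' n3
              | exact absurd h'' n3'
          subst hij
          have := mul_left_cancel h'
          subst this
          rfl
        · rintro ⟨x, hx⟩
          obtain ⟨c, h | h | h⟩ := Ωcases x hx
          · exact ⟨(0, c), Subtype.ext h.symm⟩
          · exact ⟨(1, c), Subtype.ext h.symm⟩
          · exact ⟨(2, c), Subtype.ext h.symm⟩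
      have hodd : ¬ 2 ∣ Nat.card Ω := by
        have h1 : Nat.card Ω = (P.subgroupOf M).index := by
          symm
          have key : ∀ a b : M, a⁻¹ * b ∈ P.subgroupOf M ↔
              (a : G) * z * (a : G)⁻¹ = (b : G) * z * (b : G)⁻¹ := by
            intro a b
            rw [mem_subgroupOf]
            constructor
            · intro h
              have := F.hz.comm _ (mem_inf.1 h).1
              push_cast at this
              calc (a : G) * z * (a : G)⁻¹ = a * (z * ((a : G)⁻¹ * b)) * (b : G)⁻¹ := by group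
                _ = a * ((a : G)⁻¹ * b * z) * (b : G)⁻¹ := by rw [this]
                _ = _ := by group
            · intro h
              refine mem_inf.2 ⟨?_, (a⁻¹ * b).2⟩
              refine H.cent_mem F.hz ?_
              push_cast
              calc (a : G)⁻¹ * b * z = (a : G)⁻¹ * ((b : G) * z * (b : G)⁻¹) * b := by group
                _ = (a : G)⁻¹ * ((a : G) * z * (a : G)⁻¹) * b := by rw [h]
                _ = _ := by group
          refine Nat.card_congr (Equiv.ofBijective (Quotient.lift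
            (fun a : M => (⟨(a : G) * z * (a : G)⁻¹, a, a.2, rfl⟩ : Ω))
            (fun a b hab => Subtype.ext ((key a b).1 (QuotientGroup.leftRel_apply.1 hab)))) ⟨?_, ?_⟩)
          · intro x y
            induction x using Quotient.inductionOn with
            | h a =>
              induction y using Quotient.inductionOn with
              | h b =>
                intro h
                exact Quotient.sound (QuotientGroup.leftRel_apply.2
                  ((key a b).2 (congrArg Subtype.val h)))
          · rintro ⟨x, n, hn, rfl⟩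
            exact ⟨Quotient.mk _ ⟨n, hn⟩, rfl⟩
        rw [h1]
        exact L.sylow
      have hC0 : ∀ c : C0, c.1 = 1 := by
        by_contra hcon
        push Not at hcon
        obtain ⟨⟨c1, hc1, hc1Ω⟩, hc11⟩ := hcon
        have hc0le : Nat.card C0 ≤ Nat.card C :=
          Nat.card_le_card_of_injective (fun c => (⟨c.1, c.2.1⟩ : C)) fun a b h =>
            Subtype.ext (congrArg (fun t : C => (t : G)) h)
        have hc02 : 2 ≤ Nat.card C0 := by
          refine le_trans (by simp) (Nat.card_le_card_of_injective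
            (![⟨1, one_mem C, by rw [mul_one]; exact hzΩ⟩, ⟨c1, hc1, hc1Ω⟩] : Fin 2 → C0) ?_)
          intro i j h
          have h' := congrArg Subtype.val h
          fin_cases i <;> fin_cases j <;> simp at h' ⊢
          · exact hc11 h'.symm
          · exact hc11 h'
        have h3 : Nat.card C0 = 3 := by
          rw [hcard] at hodd
          omega
        have hC4' : Nat.card C = 4 := by
          obtain ⟨k, hk⟩ := (S.isPGroup'.to_le (hC_le.trans L.le)).exists_card_eq
          rw [hk] at hc0le hC4 ⊢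
          have : k ≤ 2 := (Nat.pow_le_pow_iff_right (a := 2) one_lt_two).1 hC4
          interval_cases k <;> omega
        obtain ⟨c, hc, hcΩ⟩ : ∃ c ∈ C, z * c ∉ Ω := by
          by_contra hh
          push Not at hh
          have : Nat.card C ≤ Nat.card C0 :=
            Nat.card_le_card_of_injective (fun c : C => (⟨c.1, c.2, hh c.1 c.2⟩ : C0)) fun a b h =>
              Subtype.ext (congrArg (fun t : C0 => t.1) h)
          omega
        have uniq : ∀ y ∈ C, z * y ∉ Ω → y = c := by
          intro y hy hyΩ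
          by_contra hne
          have : Nat.card C0 + 2 ≤ Nat.card C := by
            rw [show Nat.card C0 + 2 = Nat.card (C0 ⊕ Fin 2) by simp [Nat.card_sum]]
            refine Nat.card_le_card_of_injective
              (Sum.elim (fun a : C0 => (⟨a.1, a.2.1⟩ : C)) ![⟨y, hy⟩, ⟨c, hc⟩]) ?_
            rintro (a | i) (b | j) hab <;>
              simp only [Sum.elim_inl, Sum.elim_inr] at hab
            · exact congrArg Sum.inl (Subtype.ext (congrArg (fun t : C => (t : G)) hab))
            · exfalso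
              fin_cases j <;> simp [Subtype.ext_iff] at hab
              · exact hyΩ (hab ▸ a.2.2)
              · exact hcΩ (hab ▸ a.2.2)
            · exfalso
              fin_cases i <;> simp [Subtype.ext_iff] at hab
              · exact hyΩ (hab ▸ b.2.2)
              · exact hcΩ (hab ▸ b.2.2)
            · fin_cases i <;> fin_cases j <;> simp [Subtype.ext_iff] at hab ⊢
              · exact hne hab
              · exact hne hab.symm
          omega
        obtain ⟨n, hn, hnz⟩ := hc1Ω
        have hc1sq : c1 * c1 = 1 := by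
          have h1 : z * c1 * (z * c1) = 1 := by
            rw [← hnz]
            calc n * z * n⁻¹ * (n * z * n⁻¹) = n * (z * z) * n⁻¹ := by group
              _ = 1 := by rw [F.hz.sq]; group
          rwa [show z * c1 * (z * c1) = z * z * (c1 * c1) by
            conv_lhs => rw [mul_assoc, ← mul_assoc c1, hzcen c1 (hC_le hc1), mul_assoc z c1 c1,
              ← mul_assoc z z], F.hz.sq, one_mul] at h1
        have hc_ne : c ≠ 1 := fun h => hcΩ (by rw [h, mul_one]; exact hzΩ)
        have hprodΩ : z * (c1 * c) ∈ Ω := by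
          by_contra hh
          exact hc11 (mul_eq_right.1 (uniq _ (mul_mem hc1 hc) hh))
        have hc_c1 : c ≠ c1 := fun h => hcΩ (h ▸ ⟨n, hn, hnz⟩)
        set e1 := n * e * n⁻¹ with he1
        have he1M : e1 ∈ M := mul_mem (mul_mem hn heN) (inv_mem hn)
        have flip1 : ∀ x ∈ D, e1 * x * e1⁻¹ = x ∨ e1 * x * e1⁻¹ = z * c1 * x := by
          intro x hx
          rw [← hnz]
          exact flipConj n hn x hx
        have nfix : ∀ x ∈ D, x ∉ Ω → z * c1 * x ∈ Ω → e1 * x * e1⁻¹ = x := by
          intro x hx hxΩ hy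
          exact (flip1 x hx).resolve_right fun h => hxΩ (Ωinv' e1 he1M x (h ▸ hy))
        have hcD := hC_le hc
        have hc1D := hC_le hc1
        obtain ⟨-, hce, hcf⟩ := (memC c).1 hc
        have hcnotΩ : c ∉ Ω := fun ⟨k, _, hk⟩ =>
          noconj c k (mul_inv_eq_iff_eq_mul.1 hce).symm (mul_inv_eq_iff_eq_mul.1 hcf).symm hk.symm
        have f1 : e1 * c * e1⁻¹ = c :=
          nfix c hcD hcnotΩ (by rw [mul_assoc]; exact hprodΩ)
        have f2 : e1 * (w * c) * e1⁻¹ = w * c := by
          refine nfix _ (mul_mem hwD hcD) (fun h => hcΩ ((im c hc).2.1 h)) ?_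
          rw [mul_assoc, ← mul_assoc c1, hwcen c1 hc1D, mul_assoc w, ← mul_assoc z]
          exact (im _ (mul_mem hc1 hc)).2.2.1 hprodΩ
        have f3 : e1 * (z * w * c) * e1⁻¹ = z * w * c := by
          refine nfix _ (mul_mem (mul_mem hzD hwD) hcD) (fun h => hcΩ ((im c hc).2.2.2 h)) ?_
          have : z * c1 * (z * w * c) = w * (c1 * c) := by
            calc z * c1 * (z * w * c) = z * (c1 * z) * (w * c) := by group
              _ = z * (z * c1) * (w * c) := by rw [hzcen c1 hc1D]
              _ = z * z * (c1 * w) * c := by group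
              _ = _ := by rw [F.hz.sq, one_mul, hwcen c1 hc1D, mul_assoc]
          rw [this]
          exact (im _ (mul_mem hc1 hc)).1 hprodΩ
        have hsub : ∀ x, x ∈ centralizer ({e1} : Set G) ↔ e1 * x * e1⁻¹ = x := fun x => by
          rw [mem_centralizer_singleton_iff, mul_inv_eq_iff_eq_mul, eq_comm]
        have gw : w ∈ centralizer ({e1} : Set G) := by
          have := mul_mem ((hsub _).2 f2) (inv_mem ((hsub c).2 f1))
          rwa [mul_inv_cancel_right] at this
        have gz : z ∈ centralizer ({e1} : Set G) := by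
          have := mul_mem ((hsub _).2 f3) (inv_mem ((hsub _).2 f2))
          rwa [mul_inv_rev, show z * w * c * (c⁻¹ * w⁻¹) = z by group] at this
        have gc1 : c1 ∈ centralizer ({e1} : Set G) := by
          have hfix : e1 * (z * c1) * e1⁻¹ = z * c1 := by
            rw [← hnz, he1]
            calc n * e * n⁻¹ * (n * z * n⁻¹) * (n * e * n⁻¹)⁻¹ = n * (e * z * e⁻¹) * n⁻¹ := by
                  group
              _ = _ := by rw [hzfix]
          have := mul_mem (inv_mem gz) ((hsub _).2 hfix)
          rwa [inv_mul_cancel_left] at this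
        have gc : c ∈ centralizer ({e1} : Set G) := (hsub c).2 f1
        have hCsub : C ≤ centralizer ({e1} : Set G) := by
          intro y hy
          by_cases hyΩ : z * y ∈ Ω
          · by_cases hy1 : y = 1
            · rw [hy1]; exact one_mem _
            by_cases hy2 : y = c1
            · rw [hy2]; exact gc1
            by_cases hy3 : y = c1 * c
            · rw [hy3]; exact mul_mem gc1 gc
            exfalso
            have : 5 ≤ Nat.card C := by
              refine le_trans (by simp) (Nat.card_le_card_of_injective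
                (![1, ⟨c1, hc1⟩, ⟨c, hc⟩, ⟨c1 * c, mul_mem hc1 hc⟩, ⟨y, hy⟩] : Fin 5 → C) ?_)
              have a1 : c1 * c ≠ 1 := fun h => hc_c1
                (((eq_inv_of_mul_eq_one_right h)).trans (inv_eq_of_mul_eq_one_right hc1sq))
              have a2 : c1 * c ≠ c1 := fun h => hc_ne (mul_eq_left.1 h)
              have a3 : c1 * c ≠ c := fun h => hc11 (mul_eq_right.1 h)
              have a4 : y ≠ c := fun h => hcΩ (h ▸ hyΩ)
              intro i j
              fin_cases i <;> fin_cases j <;>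
                simp [Subtype.ext_iff, hc11, Ne.symm hc11, hc_ne, Ne.symm hc_ne, hc_c1,
                  Ne.symm hc_c1, hy1, Ne.symm hy1, hy2, Ne.symm hy2, hy3, Ne.symm hy3, a1,
                  Ne.symm a1, a2, Ne.symm a2, a3, Ne.symm a3, a4, Ne.symm a4]
            omega
          · rw [uniq y hy hyΩ]; exact gc
        have hall : ∀ x ∈ (D : Set G), e1 * x = x * e1 := by
          intro x hx
          obtain ⟨u, hu, y, hy, rfl⟩ := decomp x hx
          refine (mem_centralizer_singleton_iff.1 (mul_mem ?_ (hCsub hy))).symm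
          rcases hu with rfl | rfl | rfl | rfl
          · exact one_mem _
          · exact gz
          · exact gw
          · exact mul_mem gz gw
        have he1D : e1 ∈ D := L.cent (mem_centralizer_iff.2 fun x hx => (hall x hx).symm)
        have := conj_mem_of_normalizer (inv_mem hn) he1D
        rw [show n⁻¹ * e1 * n⁻¹⁻¹ = e by rw [he1]; group] at this
        exact he this
      have hΩ3 : ∀ x ∈ Ω, x = z ∨ x = w ∨ x = z * w := by
        intro x hx
        obtain ⟨c, hc⟩ := Ωcases x hx
        rwa [hC0 c, mul_one, mul_one, mul_one] at hc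
      have hpM : p ∈ M := (mem_inf.1 hp).2
      have hpz : p * z * p⁻¹ = z := by rw [F.hz.comm p (mem_inf.1 hp).1]; group
      have hcentU : ∀ r ∈ M, r * z * r⁻¹ = z → r * w * r⁻¹ = w → r ∈ D := by
        intro r hr h1 h2
        refine L.cent_set H F.hz Ω hzΩ Ωinv hr fun v hv => ?_
        rcases hΩ3 v hv with rfl | rfl | rfl
        · exact mul_inv_eq_iff_eq_mul.1 h1
        · exact mul_inv_eq_iff_eq_mul.1 h2
        · refine mul_inv_eq_iff_eq_mul.1 ?_
          calc r * (z * w) * r⁻¹ = r * z * r⁻¹ * (r * w * r⁻¹) := by group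
            _ = z * w := by rw [h1, h2]
      rcases hΩ3 _ (Ωinv p hpM w ⟨m, hm, hw.symm⟩) with h | h | h
      · have h1 : p * w * p⁻¹ = p * z * p⁻¹ := h.trans hpz.symm
        have h2 : w = z := mul_left_cancel (mul_right_cancel h1)
        exact absurd (h2 ▸ hewm) (by
          rw [hzfix]; exact fun h3 => F.hz.ne (mul_eq_right.1 h3.symm))
      · exact Or.inl (hcentU p hpM hpz h)
      · refine Or.inr (hcentU (p * e) (mul_mem hpM heN) ?_ ?_)
        · calc p * e * z * (p * e)⁻¹ = p * (e * z * e⁻¹) * p⁻¹ := by group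
            _ = z := by rw [hzfix, hpz]
        · calc p * e * w * (p * e)⁻¹ = p * (e * w * e⁻¹) * p⁻¹ := by group
            _ = p * z * p⁻¹ * (p * w * p⁻¹) := by rw [hewm]; group
            _ = w := by rw [hpz, h, ← mul_assoc, F.hz.sq, one_mul]
  -- a conjugate of `D` inside `P`
  have hqPe : ∀ x ∈ P, q * x * q⁻¹ ∈ P := hqP
  obtain ⟨x0, hx0, hx0D⟩ : ∃ x ∈ D, q * x * q⁻¹ ∉ D := by
    by_contra hh
    push Not at hh
    exact hqN (mem_normalizer_of_cj_eq (eq_of_le_of_card_ge
      (fun x hx => by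
        rw [mem_cj] at hx
        have := hh _ hx
        rwa [show q * (q⁻¹ * x * q) * q⁻¹ = x by group] at this) (le_of_eq (card_cj q D).symm)))
  have fixq : ∀ x ∈ D, (q * x * q⁻¹ * e = e * (q * x * q⁻¹) ↔ x * e = e * x) := by
    intro x hx
    have hyz : q * x * q⁻¹ * z = z * (q * x * q⁻¹) :=
      F.hz.comm _ (mul_mem (mul_mem hqS (L.le hx)) (inv_mem hqS))
    have key : ∀ y, x * y = y * x ↔ q * x * q⁻¹ * (q * y * q⁻¹) = q * y * q⁻¹ * (q * x * q⁻¹) :=
      fun y => by
        constructor
        · intro h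
          calc _ = q * (x * y) * q⁻¹ := by group
            _ = q * (y * x) * q⁻¹ := by rw [h]
            _ = _ := by group
        · intro h
          calc x * y = q⁻¹ * (q * x * q⁻¹ * (q * y * q⁻¹)) * q := by group
            _ = _ := by rw [h]; group
    have k := key e
    rcases F.conj q hqS with h | h <;> rw [h] at k
    · exact k.symm
    · generalize q * x * q⁻¹ = Y at hyz k ⊢
      rw [k]
      constructor
      · intro h1
        rw [← mul_assoc, h1, mul_assoc e, hyz, ← mul_assoc]
      · intro h1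
        refine mul_right_cancel (b := z) ?_
        rw [mul_assoc _ e z, h1, mul_assoc e Y z, hyz, ← mul_assoc]
  -- an element of `q D q⁻¹` outside `D` and not centralising `e`
  obtain ⟨y0, hy0, hyD, hye⟩ : ∃ y0 ∈ D, q * y0 * q⁻¹ ∉ D ∧ y0 * e ≠ e * y0 := by
    by_cases h1 : x0 * e = e * x0
    · by_cases h2 : q * d0 * q⁻¹ ∈ D
      · refine ⟨x0 * d0, mul_mem hx0 hd0, fun h => hx0D ?_, fun h => hd0e ?_⟩
        · have := mul_mem h (inv_mem h2)
          rwa [show q * (x0 * d0) * q⁻¹ * (q * d0 * q⁻¹)⁻¹ = q * x0 * q⁻¹ by group] at this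
        · refine mul_left_cancel (a := x0) ?_
          rw [← mul_assoc, h, ← mul_assoc, ← h1, mul_assoc]
      · exact ⟨d0, hd0, h2, hd0e⟩
    · exact ⟨x0, hx0, hx0D, h1⟩
  set y := q * y0 * q⁻¹ with hy
  have hyP : y ∈ P := hqPe y0 (hDP hy0)
  have hye' : y * e ∈ D := (hpe y hyP).resolve_left hyD
  -- `k ↦ k²` on the centraliser of `e`
  have hsqC : ∀ x ∈ D, x * e = e * x → x * x ∈ C := by
    intro x hx hxe
    have he' : e * x * e⁻¹ = x := mul_inv_eq_iff_eq_mul.2 hxe.symm
    refine (memC _).2 ⟨mul_mem hx hx, ?_, ?_⟩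
    · calc e * (x * x) * e⁻¹ = e * x * e⁻¹ * (e * x * e⁻¹) := by group
        _ = x * x := by rw [he']
    · rcases flipF x hx with h | h
      · calc f * (x * x) * f⁻¹ = f * x * f⁻¹ * (f * x * f⁻¹) := by group
          _ = x * x := by rw [h]
      · calc f * (x * x) * f⁻¹ = f * x * f⁻¹ * (f * x * f⁻¹) := by group
          _ = w * x * (w * x) := by rw [h]
          _ = w * (x * w) * x := by group
          _ = w * (w * x) * x := by rw [hwcen x hx]
          _ = x * x := by rw [← mul_assoc, hw2, one_mul]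
  -- squares of `D`
  obtain ⟨u0, hu0, c0, hc0, hy0eq⟩ := decomp y0 hy0
  have hucomm : ∀ u, (u = 1 ∨ u = z ∨ u = w ∨ u = z * w) → ∀ x ∈ D, x * u = u * x := by
    intro u hu x hx
    rcases hu with rfl | rfl | rfl | rfl
    · group
    · exact hzcen x hx
    · exact hwcen x hx
    · rw [← mul_assoc, hzcen x hx, mul_assoc, hwcen x hx, ← mul_assoc]
  have husq : ∀ u, (u = 1 ∨ u = z ∨ u = w ∨ u = z * w) → u * u = 1 := by
    intro u hu
    rcases hu with rfl | rfl | rfl | rfl
    · group
    · exact F.hz.sq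
    · exact hw2
    · rw [mul_assoc, ← mul_assoc w, ← hzw, mul_assoc z w, hw2, mul_one, F.hz.sq]
  have hy0sq : y0 * y0 = c0 * c0 := by
    rw [hy0eq]
    calc u0 * c0 * (u0 * c0) = u0 * (c0 * u0) * c0 := by group
      _ = u0 * (u0 * c0) * c0 := by rw [hucomm u0 hu0 c0 (hC_le hc0)]
      _ = _ := by rw [← mul_assoc u0, husq u0 hu0, one_mul]
  -- `y² ∈ C`
  have hc0e : c0 * e = e * c0 := (mul_inv_eq_iff_eq_mul.1 ((memC c0).1 hc0).2.1).symm
  have h1 : y * y ∈ C := by
    set v := q * c0 * q⁻¹ with hv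
    have hyv : y * y = v * v := by
      calc y * y = q * (y0 * y0) * q⁻¹ := by rw [hy]; group
        _ = q * (c0 * c0) * q⁻¹ := by rw [hy0sq]
        _ = v * v := by rw [hv]; group
    rw [hyv]
    have hve : v * e = e * v := (fixq c0 (hC_le hc0)).2 hc0e
    rcases hpe v (hqPe c0 (hDP (hC_le hc0))) with h | h
    · exact hsqC v h hve
    · have hvv : v * v = v * e * (v * e) := by
        calc v * v = v * (e * e) * v := by rw [F.sq, mul_one]
          _ = v * e * (e * v) := by group
          _ = _ := by rw [hve]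
      rw [hvv]
      exact hsqC _ h (by rw [mul_assoc, F.sq, mul_one, ← mul_assoc, ← hve, mul_assoc, F.sq, mul_one])
  -- `y² ∈ zC`
  set x := y * e with hx
  have hxne : x * e ≠ e * x := by
    intro h
    refine hye ((fixq y0 hy0).1 ?_)
    have h2 : y = x * e := by rw [hx, mul_assoc, F.sq, mul_one]
    show y * e = e * y
    rw [h2, mul_assoc, F.sq, mul_one]
    exact (by rw [← mul_assoc, ← h, mul_assoc, F.sq, mul_one] : e * (x * e) = x).symm
  have hflip : e * x * e⁻¹ = z * x :=
    (flipE x hye').resolve_left fun h => hxne (mul_inv_eq_iff_eq_mul.1 h).symm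
  obtain ⟨u, hu, c, hc, hxu⟩ := decomp x hye'
  have hyy : y * y = z * (c * c) := by
    have h2 : y = x * e := by rw [hx, mul_assoc, F.sq, mul_one]
    calc y * y = x * e * (x * e) := by rw [← h2]
      _ = x * (e * x * e⁻¹) := by rw [inv_eq_of_mul_eq_one_right F.sq]; group
      _ = x * z * x := by rw [hflip, ← mul_assoc]
      _ = z * (x * x) := by rw [hzcen x hye', mul_assoc]
      _ = z * (u * (c * u) * c) := by rw [hxu]; group
      _ = z * (u * u * (c * c)) := by rw [hucomm u hu c (hC_le hc)]; group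
      _ = _ := by rw [husq u hu, one_mul]
  refine hzC ?_
  have := mul_mem h1 (inv_mem (mul_mem hc hc))
  rwa [hyy, mul_inv_cancel_right] at this

/-- Every station preserves the centraliser of the four group. -/
theorem four_station (H : Hyp S) (F : Four S z e) (L : Local S D)
    (hM : ¬ normalizer (D : Set G) ≤ (S : Subgroup G)) :
    ∀ n ∈ normalizer (D : Set G), ∀ d ∈ D, d * e = e * d →
      n * d * n⁻¹ * e = e * (n * d * n⁻¹) := by
  intro n hn d hd hde
  by_cases hall : ∀ x ∈ D, x * e = e * x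
  · exact hall _ (conj_mem_of_normalizer hn hd)
  push Not at hall
  obtain ⟨d0, hd0, hd0e⟩ := hall
  have hzD := L.cent_mem F.hz
  have heN : e ∈ normalizer (D : Set G) := by
    refine mem_normalizer_of_cj_eq (eq_of_le_of_card_ge ?_ (le_of_eq (card_cj e D).symm))
    intro x hx
    rw [mem_cj] at hx
    have e0 : x = e * (e⁻¹ * x * e) * e⁻¹ := by group
    rcases F.flip (L.le hx) with h | h
    · rw [e0, mul_inv_eq_iff_eq_mul.2 h]; exact hx
    · rw [e0, h]; exact mul_mem hzD hx
  by_cases he : e ∈ D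
  swap
  · exact (four_outside H F L hM hd0 hd0e heN he).elim
  obtain ⟨m, hm, hmz⟩ := Local.exists_moved (D := D) H F.hz hM
  have memZ : ∀ (x : G) (hx : x ∈ D), (∀ g ∈ D, g * x = x * g) → (⟨x, hx⟩ : D) ∈ center D :=
    fun x hx h => mem_center_iff.2 fun g => Subtype.ext (h g g.2)
  have hcD : z ∈ D := hzD
  have hcomm0 : (⟨z, hcD⟩ : D) = ⁅(⟨e, he⟩ : D), (⟨d0, hd0⟩ : D)⁆ := by
    apply Subtype.ext
    have h1 : e * d0 * e⁻¹ = z * d0 := (F.flip (L.le hd0)).resolve_left fun h => hd0e h.symm
    show z = e * d0 * e⁻¹ * d0⁻¹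
    rw [h1, mul_inv_cancel_right]
  let ψ : ∀ r ∈ normalizer (D : Set G), D ≃* D := fun r hr =>
    { toFun := fun x => ⟨r * x * r⁻¹, conj_mem_of_normalizer hr x.2⟩
      invFun := fun x => ⟨r⁻¹ * x * r, by
        simpa using conj_mem_of_normalizer (inv_mem hr) x.2⟩
      left_inv := fun x => Subtype.ext (by simp [mul_assoc])
      right_inv := fun x => Subtype.ext (by simp [mul_assoc])
      map_mul' := fun x y => Subtype.ext (by simp [mul_assoc]) }
  have hz'c : (⟨z, hcD⟩ : D) ∈ commutator D := hcomm0 ▸ commutator_mem_commutator (mem_top _) (mem_top _)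
  have hz'm : ψ m hm ⟨z, hcD⟩ ∈ commutator D := by
    rw [hcomm0, map_commutatorElement]
    exact commutator_mem_commutator (mem_top _) (mem_top _)
  have hz'Z : ψ m hm ⟨z, hcD⟩ ∈ center D := by
    refine mem_center_iff.2 fun g => ?_
    obtain ⟨g', rfl⟩ := (ψ m hm).surjective g
    rw [← map_mul, ← map_mul]
    exact congrArg _ (Subtype.ext (F.hz.comm g' (L.le g'.2)))
  have hidx : (centralizer ({(⟨e, he⟩ : D)} : Set D)).index = 2 := by
    rw [index_eq_two_iff]
    refine ⟨⟨d0, hd0⟩, fun b => ?_⟩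
    simp only [mem_centralizer_singleton_iff, Subtype.ext_iff, coe_mul]
    have hiff : ∀ x : G, x * e = e * x ↔ e * x * e⁻¹ = x := fun x =>
      eq_comm.trans mul_inv_eq_iff_eq_mul.symm
    have h0 : e * d0 * e⁻¹ = z * d0 := (F.flip (L.le hd0)).resolve_left fun h => hd0e h.symm
    rw [hiff, hiff, show e * ((b : G) * d0) * e⁻¹ = e * b * e⁻¹ * (e * d0 * e⁻¹) by group, h0]
    rcases F.flip (L.le b.2) with h | h
    · rw [mul_inv_eq_iff_eq_mul.2 h]
      refine Or.inr ⟨rfl, fun h1 => F.hz.ne ?_⟩
      exact mul_eq_right.1 (mul_left_cancel h1)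
    · rw [h]
      refine Or.inl ⟨?_, fun h1 => F.hz.ne (mul_eq_right.1 h1)⟩
      calc z * (b : G) * (z * d0) = z * ((b : G) * z) * d0 := by group
        _ = z * z * ((b : G) * d0) := by rw [F.hz.comm _ (L.le b.2)]; group
        _ = _ := by rw [F.hz.sq, one_mul]
  have hres := cent_aut_invariant ((S.isPGroup'.to_le L.le)) (L.sizes H F.hz hM).2.2.2
    (memZ z hcD fun g hg => F.hz.comm g (L.le hg)) hz'Z hz'c hz'm
    (fun h => F.hz.ne (congrArg Subtype.val h))
    (fun h => F.hz.ne (congrArg Subtype.val ((ψ m hm).injective (h.trans (map_one _).symm))))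
    (fun h => hmz (congrArg Subtype.val h).symm) hidx (ψ n hn) ⟨d, hd⟩ (Subtype.ext hde)
  exact congrArg Subtype.val hres

/-- A non-central normal four group of `S` is impossible. -/
theorem false_of_four (H : Hyp S) (F : Four S z e) : False := by
  refine H.false_of_local F.hz _ inf_le_left F.relIndex_cent fun D L hM n hn d hd hdQ => ?_
  refine mem_inf.2 ⟨L.le (conj_mem_of_normalizer hn hd), mem_centralizer_singleton_iff.2 ?_⟩
  exact four_station H F L hM n hn d hd (mem_centralizer_singleton_iff.1 (mem_inf.1 hdQ).2)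

end Cfsg.Agent.MaxSylow128x78
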