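import Mathlib
import Cfsg.Prelude.Def_Classical

/-!
The two systems of maximal totally singular subspaces of `quadFormPlus`.
-/

set_option autoImplicit false

open scoped Classical

namespace Cfsg.Agent.MaximalSingular

variable {F : Type*} [Field F] {m : ℕ}

/-- the polar form of `quadFormPlus` -/
def polarB (m : ℕ) (F : Type*) [Field F] : LinearMap.BilinForm F (Fin m ⊕ Fin m → F) :=
  LinearMap.mk₂ F (fun u v => ∑ i, (u (.inl i) * v (.inr i) + u (.inr i) * v (.inl i)))
    (fun a b c => by simp only [Pi.add_apply, ← Finset.sum_add_distrib]; congr 1; ext i; ring)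
    (fun r a c => by simp only [Pi.smul_apply, smul_eq_mul, Finset.mul_sum]; congr 1; ext i; ring)
    (fun a b c => by simp only [Pi.add_apply, ← Finset.sum_add_distrib]; congr 1; ext i; ring)
    (fun r a c => by simp only [Pi.smul_apply, smul_eq_mul, Finset.mul_sum]; congr 1; ext i; ring)

lemma polarB_apply (u v : Fin m ⊕ Fin m → F) :
    polarB m F u v = ∑ i, (u (.inl i) * v (.inr i) + u (.inr i) * v (.inl i)) := rfl

lemma polarB_comm (u v : Fin m ⊕ Fin m → F) : polarB m F u v = polarB m F v u := by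
  simp only [polarB_apply]; congr 1; ext i; ring

lemma quad_add (u v : Fin m ⊕ Fin m → F) :
    quadFormPlus m F (u + v) = quadFormPlus m F u + quadFormPlus m F v + polarB m F u v := by
  simp only [quadFormPlus, polarB_apply, Pi.add_apply, ← Finset.sum_add_distrib]
  congr 1; ext i; ring

lemma quad_smul (c : F) (v : Fin m ⊕ Fin m → F) :
    quadFormPlus m F (c • v) = c * c * quadFormPlus m F v := by
  simp only [quadFormPlus, Pi.smul_apply, smul_eq_mul, Finset.mul_sum]
  congr 1; ext i; ring

lemma polarB_nondegenerate : (polarB m F).Nondegenerate := by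
  have key : ∀ u : Fin m ⊕ Fin m → F, (∀ v, polarB m F u v = 0) → u = 0 := by
    intro u h
    funext x
    rcases x with i | i
    · have := h (Pi.single (.inr i) 1)
      simpa [polarB_apply, Pi.single_apply] using this
    · have := h (Pi.single (.inl i) 1)
      simpa [polarB_apply, Pi.single_apply] using this
  exact ⟨key, fun u h => key u fun v => by rw [polarB_comm]; exact h v⟩

lemma finrank_space : Module.finrank F (Fin m ⊕ Fin m → F) = 2 * m := by
  simp [two_mul]

/-- totally singular -/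
def TS (W : Submodule F (Fin m ⊕ Fin m → F)) : Prop := ∀ w ∈ W, quadFormPlus m F w = 0

lemma TS.polar {W : Submodule F (Fin m ⊕ Fin m → F)} (h : TS W) {u v : Fin m ⊕ Fin m → F}
    (hu : u ∈ W) (hv : v ∈ W) : polarB m F u v = 0 := by
  have := quad_add u v
  rw [h _ (W.add_mem hu hv), h _ hu, h _ hv] at this
  simpa using this.symm

lemma TS.le_orthogonal {W U : Submodule F (Fin m ⊕ Fin m → F)} (h : TS W) (hU : U ≤ W) :
    W ≤ (polarB m F).orthogonal U := fun _ hw _ hu => h.polar (hU hu) hw

/-- a standard maximal totally singular subspace -/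
def stdTS (m : ℕ) (F : Type*) [Field F] : Submodule F (Fin m ⊕ Fin m → F) :=
  LinearMap.ker (LinearMap.funLeft F F (Sum.inr : Fin m → Fin m ⊕ Fin m))

lemma mem_stdTS {v : Fin m ⊕ Fin m → F} : v ∈ stdTS m F ↔ ∀ i, v (.inr i) = 0 := by
  simp [stdTS, funext_iff, LinearMap.funLeft]

lemma stdTS_TS : TS (stdTS m F) := fun v hv => by
  simp [quadFormPlus, mem_stdTS.1 hv]

lemma finrank_stdTS : Module.finrank F (stdTS m F) = m := by
  have h := LinearMap.finrank_range_add_finrank_ker
    (LinearMap.funLeft F F (Sum.inr : Fin m → Fin m ⊕ Fin m))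
  rw [LinearMap.range_eq_top.2 (LinearMap.funLeft_surjective_of_injective F F _ Sum.inr_injective),
    finrank_top, finrank_space, Module.finrank_fin_fun] at h
  change m + Module.finrank F (stdTS m F) = 2 * m at h
  omega

lemma finrank_inf_orthogonal {X : Submodule F (Fin m ⊕ Fin m → F)} (hX : TS X)
    (hXm : Module.finrank F X = m) {H : Submodule F (Fin m ⊕ Fin m → F)}
    (hH : Module.finrank F H + 1 = m) :
    Module.finrank F ↥(X ⊓ (polarB m F).orthogonal H) = Module.finrank F ↥(X ⊓ H) + 1 := by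
  have hXo : (polarB m F).orthogonal X = X := by
    refine (Submodule.eq_of_le_of_finrank_le (hX.le_orthogonal le_rfl) ?_).symm
    rw [LinearMap.BilinForm.finrank_orthogonal polarB_nondegenerate, finrank_space, hXm]
    omega
  have heq : X ⊓ (polarB m F).orthogonal H = (polarB m F).orthogonal (X ⊔ H) := by
    apply le_antisymm
    · rintro z ⟨hzX, hzH⟩ w hw
      obtain ⟨a, ha, b, hb, rfl⟩ := Submodule.mem_sup.1 hw
      simp only [LinearMap.map_add, LinearMap.add_apply]
      rw [hX.polar ha hzX, show polarB m F b z = 0 from hzH b hb, add_zero]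
    · intro z hz
      refine ⟨?_, fun b hb => hz b (Submodule.mem_sup_right hb)⟩
      rw [← hXo]
      exact fun a ha => hz a (Submodule.mem_sup_left ha)
  rw [heq, LinearMap.BilinForm.finrank_orthogonal polarB_nondegenerate, finrank_space]
  have h := Submodule.finrank_sup_add_finrank_inf_eq X H
  have h2 := Submodule.finrank_le (X ⊔ H)
  rw [finrank_space] at h2
  omega

/-- The two maximal totally singular subspaces over a totally singular subspace of codimension 1. -/
theorem exists_two {H : Submodule F (Fin m ⊕ Fin m → F)} (hH : TS H)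
    (hHm : Module.finrank F H + 1 = m) :
    ∃ W₁ W₂ : Submodule F (Fin m ⊕ Fin m → F), W₁ ≠ W₂ ∧
      (Module.finrank F W₁ = m ∧ TS W₁ ∧ H ≤ W₁) ∧ (Module.finrank F W₂ = m ∧ TS W₂ ∧ H ≤ W₂) ∧
      W₁ ⊓ W₂ = H ∧
      (∀ W : Submodule F (Fin m ⊕ Fin m → F), Module.finrank F W = m → TS W → H ≤ W → W = W₁ ∨ W = W₂) ∧
      (∀ X : Submodule F (Fin m ⊕ Fin m → F), Module.finrank F X = m → TS X →
        Module.finrank F ↥(X ⊓ W₁) + Module.finrank F ↥(X ⊓ W₂) =
          2 * Module.finrank F ↥(X ⊓ H) + 1) := by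
  set B := polarB m F with hB
  have hperp : Module.finrank F (B.orthogonal H) = m + 1 := by
    rw [hB, LinearMap.BilinForm.finrank_orthogonal polarB_nondegenerate, finrank_space]; omega
  have hrad : ∀ z ∈ B.orthogonal H, (∀ w ∈ B.orthogonal H, B z w = 0) → z ∈ H := by
    intro z _ hzr
    have hBB : B.orthogonal (B.orthogonal H) = H :=
      LinearMap.BilinForm.orthogonal_orthogonal polarB_nondegenerate
        (fun a b h => by rw [hB, polarB_comm]; exact h) H
    rw [← hBB]
    intro w hw
    rw [hB, polarB_comm]; exact hzr w hw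
  -- singular vector in `H⊥ \ H`
  have hk := finrank_inf_orthogonal stdTS_TS finrank_stdTS hHm
  obtain ⟨e, he, heH⟩ : ∃ e ∈ stdTS m F ⊓ B.orthogonal H, e ∉ H := by
    by_contra hc
    simp only [not_exists, not_and, not_not] at hc
    have := Submodule.finrank_mono (le_inf inf_le_left fun z hz => hc z hz :
      stdTS m F ⊓ B.orthogonal H ≤ stdTS m F ⊓ H)
    rw [← hB] at hk
    omega
  have hQe : quadFormPlus m F e = 0 := stdTS_TS e he.1
  obtain ⟨y, hy, hey⟩ : ∃ y ∈ B.orthogonal H, B e y = 1 := by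
    by_contra hc
    apply heH
    refine hrad e he.2 fun w hw => ?_
    by_contra hne
    exact hc ⟨(B e w)⁻¹ • w, Submodule.smul_mem _ _ hw, by simp [hne]⟩
  set f := y + (-(quadFormPlus m F y)) • e with hf
  have hfo : f ∈ B.orthogonal H := Submodule.add_mem _ hy (Submodule.smul_mem _ _ he.2)
  have hee : B e e = 0 := stdTS_TS.polar he.1 he.1
  have hef : B e f = 1 := by simp [hf, hey, hee]
  have hQf : quadFormPlus m F f = 0 := by
    rw [hf, quad_add, quad_smul, hQe, LinearMap.map_smul, smul_eq_mul, polarB_comm, ← hB, hey]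
    ring
  have hHe : ∀ h ∈ H, B h e = 0 ∧ B h f = 0 := fun h hh => ⟨he.2 h hh, hfo h hh⟩
  have hq : ∀ h ∈ H, ∀ a b : F, quadFormPlus m F (h + (a • e + b • f)) = a * b := by
    intro h hh a b
    rw [quad_add, quad_add, quad_smul, quad_smul, hQe, hQf, hH h hh, ← hB]
    simp only [map_add, map_smul, LinearMap.smul_apply, (hHe h hh).1, (hHe h hh).2, hef, smul_eq_mul]
    ring
  have hne0 : e ≠ 0 := by
    intro h; exact heH (h ▸ H.zero_mem)
  have hfH : f ∉ H := by
    intro h
    have := (hHe f h).1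
    rw [hB, polarB_comm, ← hB, hef] at this
    exact one_ne_zero this
  set W₁ := H ⊔ F ∙ e with hW₁
  set W₂ := H ⊔ F ∙ f with hW₂
  have hW₁m : Module.finrank F W₁ = m := by
    rw [hW₁, Submodule.finrank_sup_span_singleton heH]; exact hHm
  have hW₂m : Module.finrank F W₂ = m := by
    rw [hW₂, Submodule.finrank_sup_span_singleton hfH]; exact hHm
  have hm₁ : ∀ w, w ∈ W₁ ↔ ∃ h ∈ H, ∃ a : F, h + (a • e + (0 : F) • f) = w := by
    intro w; simp [hW₁, Submodule.mem_sup, Submodule.mem_span_singleton]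
  have hm₂ : ∀ w, w ∈ W₂ ↔ ∃ h ∈ H, ∃ b : F, h + ((0 : F) • e + b • f) = w := by
    intro w; simp [hW₂, Submodule.mem_sup, Submodule.mem_span_singleton]
  have hW₁s : TS W₁ := fun w hw => by
    obtain ⟨h, hh, a, rfl⟩ := (hm₁ w).1 hw; rw [hq h hh]; simp
  have hW₂s : TS W₂ := fun w hw => by
    obtain ⟨h, hh, a, rfl⟩ := (hm₂ w).1 hw; rw [hq h hh]; simp
  have hall : H ⊔ Submodule.span F {e, f} = B.orthogonal H := by
    refine Submodule.eq_of_le_of_finrank_le (sup_le (hH.le_orthogonal le_rfl) ?_) ?_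
    · rw [Submodule.span_le]; rintro x (rfl | rfl)
      · exact he.2
      · exact hfo
    · rw [hperp, show H ⊔ Submodule.span F {e, f} = W₁ ⊔ F ∙ f by
        rw [hW₁, Submodule.span_insert, sup_assoc]]
      have hfW : f ∉ W₁ := fun h => by
        have := hW₁s.polar (Submodule.mem_sup_right (Submodule.mem_span_singleton_self e)) h
        rw [← hB, hef] at this
        exact one_ne_zero this
      rw [Submodule.finrank_sup_span_singleton hfW, hW₁m]
  have hsing : ∀ X : Submodule F (Fin m ⊕ Fin m → F), TS X → X ≤ B.orthogonal H →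
      X ≤ W₁ ∨ X ≤ W₂ := by
    intro X hX hXo
    have hor : ∀ x ∈ X, x ∈ W₁ ∨ x ∈ W₂ := by
      intro x hx
      have h' := hXo hx
      rw [← hall, Submodule.mem_sup] at h'
      obtain ⟨h, hh, z, hz, rfl⟩ := h'
      obtain ⟨a, b, rfl⟩ := Submodule.mem_span_pair.1 hz
      have h0 := hX _ hx
      rw [hq h hh] at h0
      rcases mul_eq_zero.1 h0 with rfl | rfl
      · exact Or.inr ((hm₂ _).2 ⟨h, hh, b, rfl⟩)
      · exact Or.inl ((hm₁ _).2 ⟨h, hh, a, rfl⟩)
    by_contra hc
    rw [not_or, SetLike.not_le_iff_exists, SetLike.not_le_iff_exists] at hc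
    obtain ⟨⟨x, hx, hx1⟩, ⟨y, hy, hy2⟩⟩ := hc
    have hx2 := (hor x hx).resolve_left hx1
    have hy1 := (hor y hy).resolve_right hy2
    rcases hor (x + y) (X.add_mem hx hy) with h | h
    · exact hx1 ((Submodule.add_mem_iff_left _ hy1).1 h)
    · exact hy2 ((Submodule.add_mem_iff_right _ hx2).1 h)
  have hne : W₁ ≠ W₂ := by
    intro h
    have := hW₂s.polar (h ▸ Submodule.mem_sup_right (Submodule.mem_span_singleton_self e) : e ∈ W₂)
      (Submodule.mem_sup_right (Submodule.mem_span_singleton_self f))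
    rw [← hB, hef] at this
    exact one_ne_zero this
  have hinter : W₁ ⊓ W₂ = H := by
    refine (Submodule.eq_of_le_of_finrank_le (le_inf le_sup_left le_sup_left) ?_).symm
    have h1 : W₁ ⊓ W₂ < W₁ := lt_of_le_of_ne inf_le_left fun h =>
      hne (Submodule.eq_of_le_of_finrank_le (inf_eq_left.1 h) (by omega))
    have := Submodule.finrank_lt_finrank_of_lt h1
    change Module.finrank F ↥(W₁ ⊓ W₂) ≤ Module.finrank F H
    omega
  refine ⟨W₁, W₂, hne, ⟨hW₁m, hW₁s, le_sup_left⟩, ⟨hW₂m, hW₂s, le_sup_left⟩, hinter, ?_, ?_⟩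
  · intro W hWm hWs hHW
    rcases hsing W hWs (hWs.le_orthogonal hHW) with h | h
    · exact Or.inl (Submodule.eq_of_le_of_finrank_le h (by omega))
    · exact Or.inr (Submodule.eq_of_le_of_finrank_le h (by omega))
  · intro X hXm hXs
    have hd := finrank_inf_orthogonal hXs hXm hHm
    rw [← hB] at hd
    have hW₁o : W₁ ≤ B.orthogonal H := hW₁s.le_orthogonal le_sup_left
    have hW₂o : W₂ ≤ B.orthogonal H := hW₂s.le_orthogonal le_sup_left
    have hsub : ∀ a b : Submodule F (Fin m ⊕ Fin m → F), a ≤ b → X ⊓ a ≤ X ⊓ b :=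
      fun a b h => inf_le_inf_left X h
    rcases hsing (X ⊓ B.orthogonal H) (fun x hx => hXs x hx.1) inf_le_right with h | h
    · have e1 : X ⊓ W₁ = X ⊓ B.orthogonal H :=
        le_antisymm (hsub _ _ hW₁o) (le_inf inf_le_left h)
      have e2 : X ⊓ W₂ = X ⊓ H := le_antisymm
        (le_inf inf_le_left ((le_inf ((hsub _ _ hW₂o).trans h) inf_le_right).trans hinter.le))
        (hsub _ _ le_sup_left)
      rw [e1, e2, hd]; omega
    · have e1 : X ⊓ W₂ = X ⊓ B.orthogonal H :=
        le_antisymm (hsub _ _ hW₂o) (le_inf inf_le_left h)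
      have e2 : X ⊓ W₁ = X ⊓ H := le_antisymm
        (le_inf inf_le_left ((le_inf inf_le_right ((hsub _ _ hW₁o).trans h)).trans hinter.le))
        (hsub _ _ le_sup_left)
      rw [e1, e2, hd]; omega

/-- The parity invariant. -/
theorem even_codim (U W X : Submodule F (Fin m ⊕ Fin m → F))
    (hU : Module.finrank F U = m ∧ TS U) (hW : Module.finrank F W = m ∧ TS W)
    (hX : Module.finrank F X = m ∧ TS X) :
    Even ((m - Module.finrank F ↥(U ⊓ W)) + (m - Module.finrank F ↥(W ⊓ X)) +
      (m - Module.finrank F ↥(U ⊓ X))) := by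
  induction hd : m - Module.finrank F ↥(U ⊓ W) generalizing U with
  | zero =>
    have hle : m ≤ Module.finrank F ↥(U ⊓ W) := by omega
    have h1 : U ⊓ W = U := Submodule.eq_of_le_of_finrank_le inf_le_left (by omega)
    have h2 : U ⊓ W = W := Submodule.eq_of_le_of_finrank_le inf_le_right (by omega)
    rw [h1] at h2; subst h2
    rw [zero_add]
    exact ⟨_, rfl⟩
  | succ d ih =>
    obtain ⟨u, huU, huW⟩ : ∃ u ∈ U, u ∉ W := by
      by_contra hc
      simp only [not_exists, not_and, not_not] at hc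
      have : U ⊓ W = U := inf_eq_left.2 fun z hz => hc z hz
      rw [this, hU.1] at hd; omega
    obtain ⟨φ, hφu, hφW⟩ := Submodule.exists_dual_map_eq_bot_of_notMem huW inferInstance
    have hφW' : W ≤ LinearMap.ker φ := fun z hz => by
      have : φ z ∈ W.map φ := ⟨z, hz, rfl⟩
      rw [hφW, Submodule.mem_bot] at this
      exact this
    set H := U ⊓ LinearMap.ker φ with hHdef
    have hHlt : H < U := lt_of_le_of_ne inf_le_left fun h =>
      hφu (LinearMap.mem_ker.1 (inf_eq_left.1 h huU))
    have hH1 : Module.finrank F H + 1 = m := by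
      have h1 := Submodule.finrank_lt_finrank_of_lt hHlt
      have h2 := Submodule.finrank_sup_add_finrank_inf_eq U (LinearMap.ker φ)
      have h3 := Submodule.finrank_le (U ⊔ LinearMap.ker φ)
      have h4 := LinearMap.finrank_range_add_finrank_ker φ
      have h5 : Module.finrank F (LinearMap.range φ) ≤ 1 :=
        (Submodule.finrank_le _).trans (Module.finrank_self F).le
      rw [finrank_space] at h3 h4
      rw [← hHdef] at h2
      omega
    obtain ⟨W₁, W₂, -, hW₁, hW₂, -, honly, hsum⟩ :=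
      exists_two (H := H) (fun z hz => hU.2 z (hHlt.le hz)) hH1
    have hinfH : W ⊓ H = U ⊓ W := by
      rw [hHdef, ← inf_assoc, inf_comm W U]
      exact inf_eq_left.2 (inf_le_right.trans hφW')
    obtain ⟨U', hU', hs1, hs2⟩ : ∃ U' : Submodule F (Fin m ⊕ Fin m → F),
        (Module.finrank F U' = m ∧ TS U') ∧
        Module.finrank F ↥(U ⊓ W) + Module.finrank F ↥(U' ⊓ W) =
          2 * Module.finrank F ↥(U ⊓ W) + 1 ∧
        Module.finrank F ↥(U ⊓ X) + Module.finrank F ↥(U' ⊓ X) =
          2 * Module.finrank F ↥(X ⊓ H) + 1 := by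
      have h1 := hsum W hW.1 hW.2
      have h2 := hsum X hX.1 hX.2
      rw [hinfH] at h1
      rcases honly U hU.1 hU.2 inf_le_left with rfl | rfl
      · refine ⟨W₂, ⟨hW₂.1, hW₂.2.1⟩, ?_, ?_⟩
        · rw [inf_comm W U, inf_comm W W₂] at h1; exact h1
        · rw [inf_comm X U, inf_comm X W₂] at h2; exact h2
      · refine ⟨W₁, ⟨hW₁.1, hW₁.2.1⟩, ?_, ?_⟩
        · rw [inf_comm W U, inf_comm W W₁] at h1; omega
        · rw [inf_comm X U, inf_comm X W₁] at h2; omega
    have hle : Module.finrank F ↥(U' ⊓ X) ≤ m := (Submodule.finrank_mono inf_le_right).trans hX.1.le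
    have hle2 : Module.finrank F ↥(U ⊓ X) ≤ m := (Submodule.finrank_mono inf_le_right).trans hX.1.le
    obtain ⟨r, hr⟩ := ih U' hU' (by omega)
    rw [Nat.even_iff]
    omega

end Cfsg.Agent.MaximalSingular
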