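import Mathlib.GroupTheory.SpecificGroups.Alternating
import Mathlib.GroupTheory.Perm.Cycle.Type

/-!
# A fact about `Alt(6)`
-/

set_option autoImplicit false
set_option Elab.async false

namespace Cfsg.Agent.McL3x39

open Equiv Equiv.Perm

theorem a6_ti_one : ∀ b : Perm (Fin 6), b ^ 3 = 1 →
    (swap 0 1 * swap 1 2) * b = b * (swap 0 1 * swap 1 2) → ∀ c : Perm (Fin 6), c ^ 3 = 1 →
      (swap 0 1 * swap 1 2) * c = c * (swap 0 1 * swap 1 2) → b * c = c * b := by decide +kernel

theorem a6_ti_two : ∀ b : Perm (Fin 6), b ^ 3 = 1 →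
    (swap 0 1 * swap 1 2 * (swap 3 4 * swap 4 5)) * b = b * (swap 0 1 * swap 1 2 * (swap 3 4 * swap 4 5)) →
      ∀ c : Perm (Fin 6), c ^ 3 = 1 →
      (swap 0 1 * swap 1 2 * (swap 3 4 * swap 4 5)) * c = c * (swap 0 1 * swap 1 2 * (swap 3 4 * swap 4 5)) →
        b * c = c * b := by decide +kernel

theorem a6_ti_transfer {r a : Perm (Fin 6)} (h : IsConj r a)
    (H : ∀ b : Perm (Fin 6), b ^ 3 = 1 → r * b = b * r → ∀ c : Perm (Fin 6), c ^ 3 = 1 →
      r * c = c * r → b * c = c * b)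
    (b : Perm (Fin 6)) (hb : b ^ 3 = 1) (hab : a * b = b * a) (c : Perm (Fin 6)) (hc : c ^ 3 = 1)
    (hac : a * c = c * a) : b * c = c * b := by
  obtain ⟨g, hg⟩ := isConj_iff.1 h
  have hr : r = MulAut.conj g⁻¹ a := by rw [← hg, MulAut.conj_apply]; group
  have key := H (MulAut.conj g⁻¹ b) (by rw [← map_pow, hb, map_one])
    (by rw [hr, ← map_mul, ← map_mul, hab]) (MulAut.conj g⁻¹ c) (by rw [← map_pow, hc, map_one])
    (by rw [hr, ← map_mul, ← map_mul, hac])
  rw [← map_mul, ← map_mul] at key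
  exact (MulAut.conj g⁻¹).injective key

/-- In `Alt(6)` the centralizer of an element of order three has abelian 3-part. -/
theorem a6_ti : ∀ a : alternatingGroup (Fin 6), a ^ 3 = 1 → a ≠ 1 →
    ∀ b : alternatingGroup (Fin 6), b ^ 3 = 1 → a * b = b * a →
      ∀ c : alternatingGroup (Fin 6), c ^ 3 = 1 → a * c = c * a → b * c = c * b := by
  intro a ha ha1 b hb hab c hc hac
  have ha' : (a : Perm (Fin 6)) ^ 3 = 1 := by simpa using congrArg Subtype.val ha
  have ho : orderOf (a : Perm (Fin 6)) = 3 := by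
    haveI : Fact (Nat.Prime 3) := ⟨Nat.prime_three⟩
    exact orderOf_eq_prime ha' fun e => ha1 (Subtype.ext e)
  obtain ⟨n, hn⟩ := cycleType_prime_order (σ := (a : Perm (Fin 6))) (by rw [ho]; exact Nat.prime_three)
  rw [ho] at hn
  have hs := sum_cycleType_le (a : Perm (Fin 6))
  rw [hn, Multiset.sum_replicate, smul_eq_mul, Fintype.card_fin] at hs
  have t1 : (swap 0 1 * swap 1 2 : Perm (Fin 6)).cycleType = Multiset.replicate 1 3 := by decide +kernel
  have t2 : (swap 0 1 * swap 1 2 * (swap 3 4 * swap 4 5) : Perm (Fin 6)).cycleType =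
      Multiset.replicate 2 3 := by decide +kernel
  apply Subtype.ext
  push_cast
  have hb' : (b : Perm (Fin 6)) ^ 3 = 1 := by simpa using congrArg Subtype.val hb
  have hc' : (c : Perm (Fin 6)) ^ 3 = 1 := by simpa using congrArg Subtype.val hc
  have hab' : (a : Perm (Fin 6)) * b = b * a := by simpa using congrArg Subtype.val hab
  have hac' : (a : Perm (Fin 6)) * c = c * a := by simpa using congrArg Subtype.val hac
  obtain rfl | rfl : n = 0 ∨ n = 1 := by omega
  · exact a6_ti_transfer (isConj_of_cycleType_eq (t1.trans hn.symm)) a6_ti_one _ hb' hab' _ hc' hac'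
  · exact a6_ti_transfer (isConj_of_cycleType_eq (t2.trans hn.symm)) a6_ti_two _ hb' hab' _ hc' hac'

end Cfsg.Agent.McL3x39
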