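import Cfsg.Agent.Lib.McL3Setup39
import Mathlib.GroupTheory.Perm.Sign

/-!
# S3367, S5523, S2913: the two possible centralizers of an involution (interface)
-/

set_option autoImplicit false

namespace Cfsg.Agent.McL3x39

open Subgroup

variable {G : Type*} [Group G] [Finite G] {d : Data G}

/-- The centralizer of `t` modulo `t`. -/
abbrev Loc.H (l : Loc d) := l.T ⧸ l.tT

/-- The image of `z` in the quotient. -/
def Loc.zbar (l : Loc d) (h : d.z * l.t = l.t * d.z) : l.H :=
  QuotientGroup.mk ⟨d.z, mem_centralizer_singleton_iff.2 h⟩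

/-- The model of the normalizer of `z` in `Alt(8)`. -/
abbrev EvenPair : Subgroup (Equiv.Perm (Fin 3) × Equiv.Perm (Fin 5)) :=
  ((Equiv.Perm.sign.comp (MonoidHom.fst (Equiv.Perm (Fin 3)) (Equiv.Perm (Fin 5)))) *
    (Equiv.Perm.sign.comp (MonoidHom.snd (Equiv.Perm (Fin 3)) (Equiv.Perm (Fin 5))))).ker

/-- `N(⟨z⟩) ∩ C(t)` as for the McLaughlin group. -/
structure SmallCase (F : Frame d) : Prop where
  comm : d.z * F.t = F.t * d.z
  card_cent : Nat.card (centralizer ({d.z} : Set G) ⊓ centralizer ({F.t} : Set G) : Subgroup G) = 360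
  eL : Nonempty (normalizer (zpowers (F.toLoc.zbar comm) : Set F.toLoc.H) ≃* EvenPair)

/-- `N(⟨z⟩) ∩ C(t)` as for the automorphism group. -/
structure BigCase (F : Frame d) where
  comm : d.z * F.t = F.t * d.z
  card_cent : Nat.card (centralizer ({d.z} : Set G) ⊓ centralizer ({F.t} : Set G) : Subgroup G) = 720
  eC : centralizer ({F.toLoc.zbar comm} : Set F.toLoc.H) ≃*
    Multiplicative (ZMod 3) × Equiv.Perm (Fin 5)
  eL : normalizer (zpowers (F.toLoc.zbar comm) : Set F.toLoc.H) ≃* Equiv.Perm (Fin 3) × Equiv.Perm (Fin 5)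
  /-- An element of `C(z)` outside `L` centralizing `x`. -/
  e : G
  e_notMem : e ∉ d.L
  e_z : e * d.z = d.z * e
  e_x : e * F.x = F.x * e
  e_t : e * F.t = F.t * e
  e_norm : e ∈ normalizer (d.J : Set G)
  e_sq : e * e = F.t
  e_g : e * F.g = F.g * e
  n_e : F.n * e * F.n⁻¹ = e⁻¹

end Cfsg.Agent.McL3x39
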