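import Mathlib.GroupTheory.SpecificGroups.Alternating
import Mathlib.GroupTheory.Perm.Centralizer
import Mathlib.LinearAlgebra.Matrix.SpecialLinearGroup

/-!
# S3367, S5523, S2913: permutations of eight points needed for the automorphism group case
-/

set_option autoImplicit false

namespace Cfsg.Agent.McL3Perm42

open Equiv Equiv.Perm

variable {α : Type*} [Fintype α] [DecidableEq α]

theorem support_three {σ : Perm α} (h : σ.IsThreeCycle) {a : α} (ha : σ a ≠ a) :
    σ (σ (σ a)) = a ∧ σ (σ a) ≠ a ∧ σ.support = {a, σ a, σ (σ a)} := by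
  have h3 : σ * (σ * σ) = 1 := by
    have := pow_orderOf_eq_one σ
    rwa [h.orderOf, pow_succ, pow_two, mul_assoc] at this
  have e3 : σ (σ (σ a)) = a := by simpa using Perm.ext_iff.1 h3 a
  have e2 : σ (σ a) ≠ a := fun e => ha (by rwa [e] at e3)
  refine ⟨e3, e2, (Finset.eq_of_subset_of_card_le ?_ ?_).symm⟩
  · intro i hi
    simp only [Finset.mem_insert, Finset.mem_singleton] at hi
    rcases hi with rfl | rfl | rfl <;> simp [mem_support, ha]
  · rw [h.card_support]
    rw [Finset.card_insert_of_notMem, Finset.card_pair]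
    · exact fun e => ha (σ.injective e).symm
    · simp only [Finset.mem_insert, Finset.mem_singleton, not_or]
      exact ⟨Ne.symm ha, Ne.symm e2⟩

/-- An involution normalizing a three-cycle fixes a point. -/
theorem exists_fixed {σ τ : Perm α} (h : σ.IsThreeCycle) (hτ : τ * τ = 1)
    (hc : τ * σ * τ⁻¹ = σ ∨ τ * σ * τ⁻¹ = σ⁻¹) : ∃ a, τ a = a := by
  obtain ⟨a, ha⟩ : σ.support.Nonempty := Finset.card_pos.1 (by rw [h.card_support]; norm_num)
  rw [mem_support] at ha
  obtain ⟨e3, e2, hs⟩ := support_three h ha
  have htt : ∀ i, τ (τ i) = i := fun i => by simpa using Perm.ext_iff.1 hτ i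
  rcases hc with hc | hc
  · have hcm : ∀ i, τ (σ i) = σ (τ i) := fun i => by
      simpa using Perm.ext_iff.1 hc (τ i)
    have hmem : τ a ∈ σ.support := mem_support.2 fun e => ha (τ.injective ((hcm a).trans e))
    rw [hs] at hmem
    simp only [Finset.mem_insert, Finset.mem_singleton] at hmem
    rcases hmem with e | e | e
    · exact ⟨a, e⟩
    · exact absurd (by rw [← e, ← hcm, ← e, htt] : σ (σ a) = a) e2
    · have : σ (σ (σ (σ a))) = a := by rw [← e, ← hcm, ← hcm, ← e, htt]
      rw [e3] at this
      exact absurd this ha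
  · have hc' : σ * (τ * σ) = τ := by
      calc σ * (τ * σ) = σ * (τ * σ * τ⁻¹) * τ := by group
        _ = τ := by rw [hc]; group
    have hcm : ∀ i, σ (τ (σ i)) = τ i := fun i => by simpa using Perm.ext_iff.1 hc' i
    have hmem : τ a ∈ σ.support := mem_support.2 fun e => by
      have := hcm a
      rw [show τ a = σ (τ a) from e.symm] at this
      exact ha (τ.injective (σ.injective this))
    rw [hs] at hmem
    simp only [Finset.mem_insert, Finset.mem_singleton] at hmem
    rcases hmem with e | e | e
    · exact ⟨a, e⟩
    · have := hcm (σ (σ a))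
      rw [e3, e] at this
      exact ⟨σ (σ a), this.symm⟩
    · have := hcm a
      rw [e] at this
      exact ⟨σ a, σ.injective this⟩

/-- Two commuting three-cycles moving a common point are equal or mutually inverse. -/
theorem eq_of_common {σ a : Perm α} (hσ : σ.IsThreeCycle) (ha : a.IsThreeCycle)
    (hc : a * σ = σ * a) {p : α} (hp : σ p ≠ p) (hp' : a p ≠ p) : a = σ ∨ a = σ⁻¹ := by
  have hcm : ∀ i, a (σ i) = σ (a i) := fun i => by simpa using Perm.ext_iff.1 hc i
  obtain ⟨e3, e2, hs⟩ := support_three hσ hp
  obtain ⟨f3, f2, hs'⟩ := support_three ha hp'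
  have hmem : a p ∈ σ.support := mem_support.2 fun e => hp (a.injective ((hcm p).trans e))
  rw [hs] at hmem
  simp only [Finset.mem_insert, Finset.mem_singleton] at hmem
  rcases hmem with e | e | e
  · exact absurd e hp'
  · left
    have e' : a (σ p) = σ (σ p) := by rw [hcm, e]
    ext i
    by_cases hi : i ∈ σ.support
    · rw [hs] at hi
      simp only [Finset.mem_insert, Finset.mem_singleton] at hi
      rcases hi with rfl | rfl | rfl
      · rw [e]
      · rw [e']
      · rw [hcm, e']
    · have : i ∉ a.support := by rwa [hs', e, e', ← hs]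
      rw [notMem_support] at hi this
      rw [hi, this]
  · right
    have e' : a (a p) = σ p := by rw [e, hcm, hcm, e, e3]
    apply eq_inv_of_mul_eq_one_left
    ext i
    simp only [Perm.mul_apply, Perm.one_apply]
    by_cases hi : i ∈ σ.support
    · rw [hs] at hi
      simp only [Finset.mem_insert, Finset.mem_singleton] at hi
      rcases hi with rfl | rfl | rfl
      · rw [hcm, e, e3]
      · rw [hcm, hcm, e, e3]
      · rw [hcm, hcm, hcm, e, e3]
    · have : i ∉ a.support := by
        rw [hs', e', e]; rw [hs] at hi
        simp only [Finset.mem_insert, Finset.mem_singleton] at hi ⊢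
        tauto
      rw [notMem_support] at hi this
      rw [hi, this]

/-- A transposition does not invert two independent commuting three-cycles, nor exchange them. -/
theorem not_swap {σ a : Perm α} (hσ : σ.IsThreeCycle) (ha : a.IsThreeCycle) (hc : a * σ = σ * a)
    (h1 : a ≠ σ) (h2 : a ≠ σ⁻¹) {τ : Perm α}
    (hτ : (τ * σ * τ⁻¹ = σ⁻¹ ∧ τ * a * τ⁻¹ = a⁻¹) ∨ τ * σ * τ⁻¹ = a) :
    τ.support.card ≠ 2 := by
  intro hτ2
  obtain ⟨p, q, hpq, rfl⟩ := card_support_eq_two.1 hτ2
  have hd : ∀ i, σ i ≠ i → a i = i := fun i hi => by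
    by_contra h
    rcases eq_of_common hσ ha hc hi h with e | e
    · exact h1 e
    · exact h2 e
  -- conjugation by the transposition moves the support
  have hmv : ∀ (b : Perm α) (i : α), swap p q * b * (swap p q)⁻¹ = b⁻¹ → b i ≠ i →
      b (swap p q i) ≠ swap p q i := by
    intro b i hb hi hfix
    have hb' := Perm.ext_iff.1 hb (swap p q i)
    simp only [Perm.mul_apply, swap_inv, swap_apply_self] at hb'
    have hinv : b⁻¹ (swap p q i) = swap p q i := Perm.inv_eq_iff_eq.2 hfix.symm
    rw [hinv] at hb'
    exact hi ((swap p q).injective hb')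
  rcases hτ with ⟨hs, hs'⟩ | hs
  · have key : ∀ b : Perm α, b.IsThreeCycle → swap p q * b * (swap p q)⁻¹ = b⁻¹ →
        b p ≠ p ∧ b q ≠ q := by
      intro b hb hbi
      by_cases hp : b p = p
      · by_cases hq : b q = q
        · exfalso
          have hcomm : swap p q * b * (swap p q)⁻¹ = b := by
            rw [show b = b from rfl]
            ext i
            simp only [Perm.mul_apply, swap_inv]
            by_cases hi : i = p
            · subst hi; rw [swap_apply_left, hq, swap_apply_right, hp]
            by_cases hi' : i = q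
            · subst hi'; rw [swap_apply_right, hp, swap_apply_left, hq]
            rw [swap_apply_of_ne_of_ne hi hi', swap_apply_of_ne_of_ne
              (fun e => hi (b.injective (e.trans hp.symm)))
              (fun e => hi' (b.injective (e.trans hq.symm)))]
          have h3 := hb.orderOf
          have h2' : b ^ 2 = 1 := by
            rw [pow_two]; nth_rw 1 [← hcomm]; rw [hbi, inv_mul_cancel]
          have := orderOf_dvd_of_pow_eq_one h2'
          rw [h3] at this
          norm_num at this
        · exact absurd hp (by simpa [swap_apply_right] using hmv b q hbi hq)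
      · exact ⟨hp, by simpa [swap_apply_left] using hmv b p hbi hp⟩
    exact (key a ha hs').1 (hd p (key σ hσ hs).1)
  · -- the supports are disjoint, but only two points move
    obtain ⟨i, hi, hip, hiq⟩ : ∃ i, σ i ≠ i ∧ i ≠ p ∧ i ≠ q := by
      by_contra hne
      push Not at hne
      have : σ.support ⊆ {p, q} := fun i hi => by
        rcases eq_or_ne i p with rfl | h
        · simp
        · simp [hne i (mem_support.1 hi) h]
      have := (Finset.card_le_card this).trans Finset.card_le_two
      rw [hσ.card_support] at this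
      omega
    have := hd i hi
    rw [← hs] at this
    simp only [Perm.mul_apply, swap_inv, swap_apply_of_ne_of_ne hip hiq] at this
    exact hi ((swap p q).injective (this.trans (swap_apply_of_ne_of_ne hip hiq).symm))

/-- A permutation commuting with every three-cycle is trivial. -/
theorem eq_one_of_commute (hα : 4 ≤ Fintype.card α) {σ : Perm α}
    (h : ∀ c : Perm α, c.IsThreeCycle → c * σ = σ * c) : σ = 1 := by
  ext i
  by_contra hi
  simp only [Perm.one_apply] at hi
  obtain ⟨k, hk⟩ : ∃ k, k ∉ ({i, σ i} : Finset α) := by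
    by_contra hne
    push Not at hne
    have := (Finset.card_le_card (fun x _ => hne x : Finset.univ ⊆ _)).trans Finset.card_le_two
    simp at this; omega
  obtain ⟨l, hl⟩ : ∃ l, l ∉ ({i, σ i, k} : Finset α) := by
    by_contra hne
    push Not at hne
    have := (Finset.card_le_card (fun x _ => hne x : Finset.univ ⊆ _)).trans Finset.card_le_three
    simp at this; omega
  simp only [Finset.mem_insert, Finset.mem_singleton, not_or] at hk hl
  have h3 : (swap i k * swap i l).IsThreeCycle :=
    isThreeCycle_swap_mul_swap_same (Ne.symm hk.1) (Ne.symm hl.1) (Ne.symm hl.2.2)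
  have he := Perm.ext_iff.1 (h _ h3) i
  simp only [Perm.mul_apply, swap_apply_left] at he
  rw [swap_apply_of_ne_of_ne hi (Ne.symm hl.2.1),
    swap_apply_of_ne_of_ne hi (Ne.symm hk.2), swap_apply_of_ne_of_ne hl.1 (Ne.symm (Ne.symm hl.2.2))] at he
  exact hl.1 (σ.injective he).symm

/-- Cycle type of an involution of eight points. -/
theorem involution_type {σ : Perm (Fin 8)} (h2 : σ * σ = 1) (h1 : σ ≠ 1) :
    ∃ k, 1 ≤ k ∧ k ≤ 4 ∧ σ.cycleType = Multiset.replicate k 2 := by
  have ho : orderOf σ = 2 := orderOf_eq_prime (by rw [pow_two]; exact h2) h1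
  obtain ⟨n, hn⟩ := cycleType_prime_order (σ := σ) (by rw [ho]; exact Nat.prime_two)
  rw [ho] at hn
  refine ⟨n + 1, by omega, ?_, hn⟩
  have := sum_cycleType_le σ
  rw [hn, Multiset.sum_replicate, smul_eq_mul, Fintype.card_fin] at this
  omega

theorem sign_of_type {σ : Perm (Fin 8)} {k : ℕ} (h : σ.cycleType = Multiset.replicate k 2) :
    Equiv.Perm.sign σ = (-1) ^ k := by
  rw [sign_of_cycleType, h, Multiset.sum_replicate, Multiset.card_replicate, smul_eq_mul, pow_add,
    pow_mul']
  simp

theorem no_fixed {σ : Perm (Fin 8)} (h : σ.cycleType = Multiset.replicate 4 2) : ∀ a, σ a ≠ a := by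
  intro a ha
  have := sum_cycleType σ
  rw [h] at this
  have hlt : σ.support.card < Fintype.card (Fin 8) :=
    Finset.card_lt_card ((Finset.ssubset_univ_iff).2 fun e => (mem_support.1 (e ▸ Finset.mem_univ a)) ha)
  simp at this hlt
  omega

/-- An involution of eight points centralized by a group of order 128 has no fixed point. -/
theorem type_of_central {σ : Perm (Fin 8)} (h2 : σ * σ = 1) (h1 : σ ≠ 1)
    (h : 128 ∣ Nat.card (Subgroup.centralizer ({σ} : Set (Perm (Fin 8))))) :
    σ.cycleType = Multiset.replicate 4 2 := by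
  obtain ⟨k, hk1, hk4, hk⟩ := involution_type h2 h1
  rw [nat_card_centralizer, hk] at h
  interval_cases k
  · norm_num [Nat.factorial] at h
  · norm_num [Nat.factorial] at h
  · norm_num [Nat.factorial] at h
  · exact hk

/-- A centralizer of order divisible by 360 among elements of order three of eight points. -/
theorem isThreeCycle_of_card {σ : Perm (Fin 8)} (h3 : orderOf σ = 3)
    (h : 360 ∣ Nat.card (Subgroup.centralizer ({σ} : Set (Perm (Fin 8))))) : σ.IsThreeCycle := by
  obtain ⟨n, hn⟩ := cycleType_prime_order (σ := σ) (by rw [h3]; exact Nat.prime_three)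
  rw [h3] at hn
  have := sum_cycleType_le σ
  rw [hn, Multiset.sum_replicate, smul_eq_mul, Fintype.card_fin] at this
  rw [nat_card_centralizer, hn] at h
  have hn2 : n ≤ 1 := by omega
  interval_cases n
  · exact hn
  · norm_num [Nat.factorial] at h

/-- An element of order four of `SL₂(5)` is a product of two elements of odd order. -/
theorem sl25_odd : ∀ a : Matrix.SpecialLinearGroup (Fin 2) (ZMod 5), a ^ 4 = 1 → a ^ 2 ≠ 1 →
    ∃ b : Matrix.SpecialLinearGroup (Fin 2) (ZMod 5), b ^ 15 = 1 ∧ (b * a) ^ 15 = 1 := by
  decide +kernel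

end Cfsg.Agent.McL3Perm42
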