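import Cfsg.Agent.Lib.McL3Setup39
import Mathlib.GroupTheory.PGroup
import Mathlib.GroupTheory.Index

/-!
# S3367, S5523, S2913: first consequences of the 3-local data
-/

set_option autoImplicit false
set_option linter.unusedSectionVars false

namespace Cfsg.Agent.McL3x39

open Subgroup

/-- A subgroup of index at most nine in a group, normalized by an element of five-power order, is fixed
coset by coset. -/
theorem fixed_of_small {A : Type*} [Group A] [Finite A] (φ : MulAut A) (hφ : φ ^ 5 = 1)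
    (hA : Nat.card A = 1 ∨ Nat.card A = 3 ∨ Nat.card A = 9) (a : A) : φ a = a := by
  classical
  haveI : Fact (Nat.Prime 5) := ⟨Nat.prime_five⟩
  haveI := Fintype.ofFinite A
  let F : Subgroup A :=
    { carrier := {b | φ b = b}
      one_mem' := map_one φ
      mul_mem' := fun {b c} hb hc => by
        show φ (b * c) = b * c
        rw [map_mul, (show φ b = b from hb), (show φ c = c from hc)]
      inv_mem' := fun {b} hb => by
        show φ b⁻¹ = b⁻¹
        rw [map_inv, (show φ b = b from hb)] }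
  have hp : IsPGroup 5 (zpowers φ) := fun ⟨g, hg⟩ => ⟨1, Subtype.ext (by
    obtain ⟨i, rfl⟩ := mem_zpowers_iff.1 hg
    show (φ ^ i) ^ (5 ^ 1) = 1
    rw [pow_one, ← zpow_natCast, ← zpow_mul, mul_comm, zpow_mul, zpow_natCast, hφ, one_zpow])⟩
  have hmod := hp.card_modEq_card_fixedPoints A
  have hfix : Nat.card (MulAction.fixedPoints (zpowers φ) A) = Nat.card F := by
    refine Nat.card_congr (Equiv.subtypeEquivRight fun b => ⟨fun h => ?_, fun h g => ?_⟩)
    · exact h ⟨φ, mem_zpowers φ⟩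
    · obtain ⟨g, hg⟩ := g
      show g b = b
      obtain ⟨i, rfl⟩ := mem_zpowers_iff.1 hg
      have : φ ∈ MulAction.stabilizer (MulAut A) b := h
      exact (zpow_mem this i : φ ^ i ∈ MulAction.stabilizer (MulAut A) b)
  rw [hfix] at hmod
  have hdvd : Nat.card F ∣ Nat.card A := F.card_subgroup_dvd_card
  have hpos : 0 < Nat.card F := Nat.card_pos
  have : F = ⊤ := by
    refine F.eq_top_of_card_eq ?_
    unfold Nat.ModEq at hmod
    rcases hA with h | h | h <;> rw [h] at hdvd hmod ⊢ <;>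
      have hle := Nat.le_of_dvd (by norm_num) hdvd <;>
      interval_cases hn : Nat.card F <;> omega
  exact (this ▸ mem_top a : a ∈ F)

/-- An element of order three of `SL₂(5)` has a conjugate with product of order five. -/
theorem sl25_pair : ∀ a : Matrix.SpecialLinearGroup (Fin 2) (ZMod 5), a ^ 3 = 1 → a ≠ 1 →
    ∃ b : Matrix.SpecialLinearGroup (Fin 2) (ZMod 5),
      (a * (b * a * b⁻¹)) ^ 10 = 1 ∧ (a * (b * a * b⁻¹)) ^ 2 ≠ 1 := by decide +kernel

variable {G : Type*} [Group G] [Finite G] (d : Data G)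

theorem Data.three_group_le {R : Subgroup G} (hR : IsPGroup 3 R) (h : (d.S : Subgroup G) ≤ R) :
    R = (d.S : Subgroup G) := (d.S.3 hR h)

theorem Data.z_mem_S : d.z ∈ (d.S : Subgroup G) :=
  (d.center_S ▸ mem_zpowers d.z : d.z ∈ (d.S : Subgroup G) ⊓ centralizer ((d.S : Subgroup G) : Set G)).1

theorem Data.z_comm_S {s : G} (hs : s ∈ (d.S : Subgroup G)) : s * d.z = d.z * s :=
  (d.center_S ▸ mem_zpowers d.z : d.z ∈ (d.S : Subgroup G) ⊓ centralizer ((d.S : Subgroup G) : Set G)).2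
    s hs

theorem Data.S_le_cent : (d.S : Subgroup G) ≤ centralizer ({d.z} : Set G) := fun _ hs =>
  mem_centralizer_singleton_iff.2 (d.z_comm_S hs)

theorem Data.cent_le_normalizer :
    centralizer ({d.z} : Set G) ≤ normalizer (zpowers d.z : Set G) := by
  intro g hg
  refine mem_normalizer_fintype fun n hn => ?_
  obtain ⟨i, rfl⟩ := mem_zpowers_iff.1 hn
  rw [((show Commute g d.z from mem_centralizer_singleton_iff.1 hg).zpow_right i).eq,
    mul_inv_cancel_right]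
  exact hn

include d in
theorem Data.exists_pow_of_mem {R : Subgroup G} (hR : IsPGroup 3 R) {g : G} (hg : g ∈ R) :
    ∃ k : ℕ, orderOf g = 3 ^ k := by
  obtain ⟨k, hk⟩ := hR ⟨g, hg⟩
  obtain ⟨j, -, hj⟩ := (Nat.dvd_prime_pow Nat.prime_three).1
    (orderOf_dvd_of_pow_eq_one (congrArg Subtype.val hk : g ^ 3 ^ k = 1))
  exact ⟨j, hj⟩

theorem Data.S_le_L : (d.S : Subgroup G) ≤ d.L := fun _ hs =>
  d.L_three _ (d.cent_le_normalizer (d.S_le_cent hs)) (d.exists_pow_of_mem d.S.2 hs)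

theorem Data.L_le_normalizer : d.L ≤ normalizer (d.Q : Set G) :=
  (d.L_le.trans d.cent_le_normalizer).trans d.Q_normal

theorem Data.Q_le_S : d.Q ≤ (d.S : Subgroup G) := by
  have h := d.S.2.to_sup_of_normal_right'
    (IsPGroup.of_card (p := 3) (n := 5) (by rw [d.card_Q]; norm_num) : IsPGroup 3 d.Q)
    ((d.S_le_cent.trans d.cent_le_normalizer).trans d.Q_normal)
  exact (d.three_group_le h le_sup_left) ▸ le_sup_right

theorem Data.card_L : Nat.card d.L = 243 * 120 := by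
  obtain ⟨e⟩ := d.eL
  haveI := d.Q_sub
  rw [(d.Q.subgroupOf d.L).card_eq_card_quotient_mul_card_subgroup, Nat.card_congr e.toEquiv,
    Nat.card_congr (subgroupOfEquivOfLe d.Q_le_L).toEquiv, d.card_Q]
  rw [show Nat.card (Matrix.SpecialLinearGroup (Fin 2) (ZMod 5)) = 120 from by
    rw [Nat.card_eq_fintype_card]; decide +kernel]

theorem Data.card_S : Nat.card (d.S : Subgroup G) = 729 := by
  haveI : Fact (Nat.Prime 3) := ⟨Nat.prime_three⟩
  obtain ⟨n, hn⟩ := IsPGroup.iff_card.1 d.S.2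
  have h1 : 3 ^ n ∣ 243 * 120 := by
    rw [← hn, ← d.card_L]; exact card_dvd_of_le d.S_le_L
  have h2 : ¬ n ≥ 7 := fun h => absurd ((pow_dvd_pow 3 h).trans h1) (by norm_num)
  have h3 : 3 ^ 6 ∣ 3 ^ n := by
    rw [← hn]
    have := d.S.pow_dvd_card_of_pow_dvd_card (n := 6)
      (dvd_trans (by rw [d.card_L]; norm_num) d.L.card_subgroup_dvd_card)
    exact this
  have h4 := (Nat.pow_dvd_pow_iff_le_right (by norm_num : 1 < 3)).1 h3
  rw [hn, show n = 6 by omega]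
  norm_num

theorem Data.S_le_normJ : (d.S : Subgroup G) ≤ normalizer (d.J : Set G) → (d.S : Subgroup G) ≤ d.M0 :=
  fun h _ hs => d.M0_three _ (h hs) (d.exists_pow_of_mem d.S.2 hs)

theorem Data.comm_eq {q u : G} (hq : q ∈ d.Q) (hu : u ∈ d.Q) :
    ∃ i : ℤ, q * u = d.z ^ i * (u * q) := by
  obtain ⟨i, hi⟩ := mem_zpowers_iff.1 (d.comm_Q q hq u hu)
  exact ⟨i, by rw [hi]; group⟩

/-- An abelian subgroup of `Q` has order at most 27. -/
theorem Data.abelian_le {A : Subgroup G} (hA : A ≤ d.Q) (hc : ∀ a ∈ A, ∀ b ∈ A, a * b = b * a) :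
    Nat.card A ≤ 27 := by
  haveI : Fact (Nat.Prime 3) := ⟨Nat.prime_three⟩
  obtain ⟨n, hn⟩ := IsPGroup.iff_card.1 ((IsPGroup.of_card (p := 3) (n := 5)
    (by rw [d.card_Q]; norm_num) : IsPGroup 3 d.Q).to_le hA)
  by_contra hlt
  push Not at hlt
  rw [hn] at hlt
  have hn4 : 4 ≤ n := by
    by_contra h
    have : (3 : ℕ) ^ n ≤ 3 ^ 3 := Nat.pow_le_pow_right (by norm_num) (by omega)
    norm_num at this; omega
  by_cases hne : d.Q ≤ A
  · have : d.Q ≤ zpowers d.z := fun q hq =>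
      d.center_Q ▸ ⟨hq, fun r hr => hc r (hne hr) q (hne hq)⟩
    have h' := card_le_of_le this
    rw [d.card_Q, Nat.card_zpowers, d.order_z] at h'
    omega
  obtain ⟨q, hq, hqA⟩ := SetLike.not_le_iff_exists.1 hne
  -- the commutator with `q`
  have hzc : ∀ u ∈ d.Q, u * d.z = d.z * u := fun u hu =>
    ((d.center_Q ▸ mem_zpowers d.z : d.z ∈ d.Q ⊓ centralizer (d.Q : Set G)).2 u hu)
  let K : Subgroup G := A ⊓ centralizer ({q} : Set G)
  have hKz : K ≤ zpowers d.z := by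
    intro k hk
    rw [← d.center_Q]
    refine ⟨hA hk.1, ?_⟩
    have htop : A ⊔ zpowers q = d.Q := by
      refine eq_of_le_of_card_ge (sup_le hA (zpowers_le.2 hq)) ?_
      obtain ⟨m, hm⟩ := IsPGroup.iff_card.1 ((IsPGroup.of_card (p := 3) (n := 5)
        (by rw [d.card_Q]; norm_num) : IsPGroup 3 d.Q).to_le (sup_le hA (zpowers_le.2 hq)))
      have h1 : Nat.card A < Nat.card (A ⊔ zpowers q : Subgroup G) := by
        refine lt_of_le_of_ne (card_le_of_le le_sup_left) fun h => hqA ?_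
        have := eq_of_le_of_card_ge (le_sup_left : A ≤ A ⊔ zpowers q) h.ge
        exact this ▸ mem_sup_right (mem_zpowers q)
      rw [hn, hm] at h1
      have := (Nat.pow_lt_pow_iff_right (by norm_num : 1 < 3)).1 h1
      rw [d.card_Q, hm]
      exact (by norm_num : (243 : ℕ) = 3 ^ 5) ▸ Nat.pow_le_pow_right (by norm_num) (by omega)
    have hle : A ⊔ zpowers q ≤ centralizer ({k} : Set G) :=
      sup_le (fun a ha => mem_centralizer_singleton_iff.2 (hc a ha k hk.1))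
        (zpowers_le.2 (mem_centralizer_singleton_iff.2 (mem_centralizer_singleton_iff.1 hk.2).symm))
    intro r hr
    exact mem_centralizer_singleton_iff.1 (hle (htop ▸ hr))
  have hK3 : Nat.card K ≤ 3 := (card_le_of_le hKz).trans_eq (by rw [Nat.card_zpowers, d.order_z])
  -- the fibres of the commutator map
  let f : A → zpowers d.z := fun a => ⟨q * (a : G) * q⁻¹ * (a : G)⁻¹, d.comm_Q q hq a (hA a.2)⟩
  have hfib : ∀ c, Nat.card {a : A // f a = c} ≤ 3 := fun c => by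
    by_cases hne : Nonempty {a : A // f a = c}
    · obtain ⟨⟨b, hb⟩⟩ := hne
      refine le_trans (Nat.card_le_card_of_injective
        (fun a : {a : A // f a = c} => (⟨(b : G)⁻¹ * ((a : A) : G), ?_⟩ : K)) ?_) hK3
      · refine ⟨A.mul_mem (A.inv_mem b.2) (a : A).2, mem_centralizer_singleton_iff.2 ?_⟩
        have e : q * ((a : A) : G) * q⁻¹ * ((a : A) : G)⁻¹ = q * (b : G) * q⁻¹ * (b : G)⁻¹ :=
          congrArg Subtype.val (a.2.trans hb.symm)
        have e1 : q * ((a : A) : G) * q⁻¹ = (q * (b : G) * q⁻¹ * (b : G)⁻¹) * ((a : A) : G) := by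
          rw [← e]; group
        have key : q * ((b : G)⁻¹ * ((a : A) : G)) * q⁻¹ = (b : G)⁻¹ * ((a : A) : G) := by
          calc q * ((b : G)⁻¹ * ((a : A) : G)) * q⁻¹
              = (q * (b : G) * q⁻¹)⁻¹ * (q * ((a : A) : G) * q⁻¹) := by group
            _ = _ := by rw [e1]; group
        exact (mul_inv_eq_iff_eq_mul.1 key).symm
      · intro a a' h
        exact Subtype.ext (Subtype.ext (mul_left_cancel (congrArg Subtype.val h)))
    · rw [not_nonempty_iff] at hne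
      simp [Nat.card_of_isEmpty]
  haveI := Fintype.ofFinite (zpowers d.z : Subgroup G)
  have hsum : Nat.card A ≤ 9 := by
    rw [← Nat.card_congr (Equiv.sigmaFiberEquiv f), Nat.card_sigma]
    refine (Finset.sum_le_sum fun c _ => hfib c).trans ?_
    rw [Finset.sum_const, Finset.card_univ, ← Nat.card_eq_fintype_card, Nat.card_zpowers, d.order_z]
    norm_num
  rw [hn] at hsum
  have : (3 : ℕ) ^ 4 ≤ 3 ^ n := Nat.pow_le_pow_right (by norm_num) hn4
  omega

theorem Data.card_inf_mul {R : Subgroup G} (hR : IsPGroup 3 R) (hle : R ≤ normalizer (d.Q : Set G)) :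
    Nat.card R * 243 ≤ 729 * Nat.card (R ⊓ d.Q : Subgroup G) := by
  haveI : Fact (Nat.Prime 3) := ⟨Nat.prime_three⟩
  have hsup := hR.to_sup_of_normal_right'
    (IsPGroup.of_card (p := 3) (n := 5) (by rw [d.card_Q]; norm_num) : IsPGroup 3 d.Q) hle
  obtain ⟨P, hP⟩ := hsup.exists_le_sylow
  have h729 : Nat.card (R ⊔ d.Q : Subgroup G) ≤ 729 := by
    refine (card_le_of_le hP).trans_eq ?_
    rw [P.card_eq_multiplicity, ← d.S.card_eq_multiplicity, d.card_S]
  have hinj : Nat.card R * Nat.card d.Q ≤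
      Nat.card (R ⊔ d.Q : Subgroup G) * Nat.card (R ⊓ d.Q : Subgroup G) := by
    have h1 : Nat.card R = d.Q.relIndex R * Nat.card (R ⊓ d.Q : Subgroup G) := by
      rw [← (d.Q.subgroupOf R).index_mul_card, Nat.card_congr
        (show ↥(d.Q.subgroupOf R) ≃ ↥(R ⊓ d.Q : Subgroup G) from
          ⟨fun a => ⟨a.1.1, a.1.2, a.2⟩, fun a => ⟨⟨a.1, a.2.1⟩, a.2.2⟩, fun _ => rfl, fun _ => rfl⟩)]
      rfl
    have h2 : d.Q.relIndex R ≤ d.Q.relIndex (R ⊔ d.Q) :=
      relIndex_le_of_le_right le_sup_left (by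
        rw [relIndex]; exact index_ne_zero_of_finite)
    have h3 : Nat.card (R ⊔ d.Q : Subgroup G) = d.Q.relIndex (R ⊔ d.Q) * Nat.card d.Q := by
      rw [← (d.Q.subgroupOf (R ⊔ d.Q)).index_mul_card,
        Nat.card_congr (subgroupOfEquivOfLe (le_sup_right : d.Q ≤ R ⊔ d.Q)).toEquiv]
      rfl
    rw [h1, h3]
    calc d.Q.relIndex R * Nat.card (R ⊓ d.Q : Subgroup G) * Nat.card d.Q
        ≤ d.Q.relIndex (R ⊔ d.Q) * Nat.card (R ⊓ d.Q : Subgroup G) * Nat.card d.Q := by gcongr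
      _ = _ := by ring
  rw [d.card_Q] at hinj
  exact hinj.trans (Nat.mul_le_mul_right _ h729)

theorem Data.J_group : IsPGroup 3 d.J := IsPGroup.of_card (n := 4) (by rw [d.card_J]; norm_num)

theorem Data.card_meet : Nat.card (d.J ⊓ d.Q : Subgroup G) = 27 := by
  refine le_antisymm (d.abelian_le inf_le_right fun a ha b hb => d.J_comm a ha.1 b hb.1) ?_
  have := d.card_inf_mul d.J_group (d.J_le_S.trans (d.S_le_L.trans d.L_le_normalizer))
  rw [d.card_J] at this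
  omega

theorem Data.J_sup_Q : d.J ⊔ d.Q = (d.S : Subgroup G) := by
  refine eq_of_le_of_card_ge (sup_le d.J_le_S d.Q_le_S) ?_
  have hne : ¬ d.J ≤ d.Q := fun h => by
    have := d.card_meet
    rw [inf_eq_left.2 h, d.card_J] at this
    omega
  have hlt : Nat.card d.Q < Nat.card (d.J ⊔ d.Q : Subgroup G) := by
    refine lt_of_le_of_ne (card_le_of_le le_sup_right) fun h => hne ?_
    exact (eq_of_le_of_card_ge (le_sup_right : d.Q ≤ d.J ⊔ d.Q) h.ge).symm ▸ le_sup_left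
  have hdvd : Nat.card (d.J ⊔ d.Q : Subgroup G) ∣ 3 ^ 6 := by
    rw [show (3 : ℕ) ^ 6 = 729 by norm_num, ← d.card_S]
    exact card_dvd_of_le (sup_le d.J_le_S d.Q_le_S)
  obtain ⟨k, -, hk⟩ := (Nat.dvd_prime_pow Nat.prime_three).1 hdvd
  rw [d.card_Q, hk, show (243 : ℕ) = 3 ^ 5 by norm_num] at hlt
  have := (Nat.pow_lt_pow_iff_right (by norm_num : 1 < 3)).1 hlt
  rw [d.card_S, hk, show (729 : ℕ) = 3 ^ 6 by norm_num]
  exact Nat.pow_le_pow_right (by norm_num) (by omega)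

theorem Data.z_mem_J : d.z ∈ d.J := by
  by_contra h
  have hc : ∀ a ∈ (d.J ⊓ d.Q : Subgroup G) ⊔ zpowers d.z, ∀ b ∈ (d.J ⊓ d.Q : Subgroup G) ⊔ zpowers d.z,
      a * b = b * a := by
    have hle : (d.J ⊓ d.Q : Subgroup G) ⊔ zpowers d.z ≤
        centralizer ((d.J ⊓ d.Q : Subgroup G) : Set G) ⊓ centralizer ({d.z} : Set G) := by
      refine sup_le (fun a ha => ⟨fun b hb => d.J_comm b hb.1 a ha.1, mem_centralizer_singleton_iff.2
        (d.z_comm_S (d.Q_le_S ha.2))⟩) (zpowers_le.2 ⟨fun b hb => ?_, mem_centralizer_singleton_iff.2 rfl⟩)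
      exact d.z_comm_S (d.Q_le_S hb.2)
    intro a ha b hb
    have h2 : (d.J ⊓ d.Q : Subgroup G) ⊔ zpowers d.z ≤ centralizer ({a} : Set G) :=
      sup_le (fun c hc => mem_centralizer_singleton_iff.2 ((hle ha).1 c hc))
        (zpowers_le.2 (mem_centralizer_singleton_iff.2 (mem_centralizer_singleton_iff.1 (hle ha).2).symm))
    exact (mem_centralizer_singleton_iff.1 (h2 hb)).symm
  have h27 := d.abelian_le (sup_le inf_le_right (zpowers_le.2 d.z_mem_Q)) hc
  rw [← d.card_meet] at h27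
  have := eq_of_le_of_card_ge (le_sup_left : d.J ⊓ d.Q ≤ (d.J ⊓ d.Q : Subgroup G) ⊔ zpowers d.z) h27
  exact h (this ▸ mem_sup_right (mem_zpowers d.z) : d.z ∈ (d.J ⊓ d.Q : Subgroup G)).1

/-- `J ∩ Q` is self-centralizing in `Q`. -/
theorem Data.cent_meet_Q {q : G} (hq : q ∈ d.Q)
    (hc : ∀ u ∈ (d.J ⊓ d.Q : Subgroup G), q * u = u * q) : q ∈ (d.J ⊓ d.Q : Subgroup G) := by
  have hcc : ∀ a ∈ (d.J ⊓ d.Q : Subgroup G) ⊔ zpowers q, ∀ b ∈ (d.J ⊓ d.Q : Subgroup G) ⊔ zpowers q,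
      a * b = b * a := by
    have hle : ∀ a, (∀ u ∈ (d.J ⊓ d.Q : Subgroup G), a * u = u * a) → a * q = q * a →
        (d.J ⊓ d.Q : Subgroup G) ⊔ zpowers q ≤ centralizer ({a} : Set G) := fun a h1 h2 =>
      sup_le (fun c hc => mem_centralizer_singleton_iff.2 (h1 c hc).symm)
        (zpowers_le.2 (mem_centralizer_singleton_iff.2 h2.symm))
    intro a ha b hb
    have ha' : (∀ u ∈ (d.J ⊓ d.Q : Subgroup G), a * u = u * a) ∧ a * q = q * a := by
      refine ⟨fun u hu => ?_, mem_centralizer_singleton_iff.1 (hle q hc rfl ha)⟩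
      exact mem_centralizer_singleton_iff.1
        (hle u (fun v hv => d.J_comm u hu.1 v hv.1) (hc u hu).symm ha)
    exact (mem_centralizer_singleton_iff.1 (hle a ha'.1 ha'.2 hb)).symm
  have h27 := d.abelian_le (sup_le inf_le_right (zpowers_le.2 hq)) hcc
  rw [← d.card_meet] at h27
  have := eq_of_le_of_card_ge (le_sup_left : d.J ⊓ d.Q ≤ (d.J ⊓ d.Q : Subgroup G) ⊔ zpowers q) h27
  exact this ▸ mem_sup_right (mem_zpowers q)

theorem Data.cent_meet : centralizer ((d.J ⊓ d.Q : Subgroup G) : Set G) = d.J := by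
  set K := centralizer ((d.J ⊓ d.Q : Subgroup G) : Set G) with hK
  have hJK : d.J ≤ K := fun j hj u hu => d.J_comm u hu.1 j hj
  have hKz : K ≤ centralizer ({d.z} : Set G) := fun k hk =>
    mem_centralizer_singleton_iff.2 (hk d.z ⟨d.z_mem_J, d.z_mem_Q⟩).symm
  have hKQ : K ≤ normalizer (d.Q : Set G) := (hKz.trans d.cent_le_normalizer).trans d.Q_normal
  have hK3 : IsPGroup 3 K := by
    rintro ⟨k, hk⟩
    have h3 : k ^ 3 ∈ centralizer (d.Q : Set G) := by
      intro q hq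
      set w := q⁻¹ * (k * q * k⁻¹) with hw
      have hwQ : w ∈ d.Q := d.Q.mul_mem (d.Q.inv_mem hq) ((mem_normalizer_iff.1 (hKQ hk) q).1 hq)
      have hwU : w ∈ (d.J ⊓ d.Q : Subgroup G) := by
        refine d.cent_meet_Q hwQ fun u hu => ?_
        have hku : k * u = u * k := (hk u hu).symm
        obtain ⟨i, hi⟩ := d.comm_eq hq hu.2
        have hkz : Commute k (d.z ^ i) :=
          (show Commute k d.z from mem_centralizer_singleton_iff.1 (hKz hk)).zpow_right i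
        have hqz : Commute q (d.z ^ i) :=
          (show Commute q d.z from d.z_comm_S (d.Q_le_S hq)).zpow_right i
        have e1 : k * q * k⁻¹ * u = d.z ^ i * (u * (k * q * k⁻¹)) := by
          calc k * q * k⁻¹ * u = k * (q * (k⁻¹ * u)) := by group
            _ = k * (q * (u * k⁻¹)) := by
              rw [show k⁻¹ * u = u * k⁻¹ from (show Commute k u from hku).inv_left.eq]
            _ = k * ((q * u) * k⁻¹) := by group
            _ = k * ((d.z ^ i * (u * q)) * k⁻¹) := by rw [hi]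
            _ = (k * d.z ^ i) * (u * q) * k⁻¹ := by group
            _ = (d.z ^ i * k) * (u * q) * k⁻¹ := by rw [hkz.eq]
            _ = d.z ^ i * ((k * u) * q * k⁻¹) := by group
            _ = d.z ^ i * ((u * k) * q * k⁻¹) := by rw [hku]
            _ = _ := by group
        calc w * u = q⁻¹ * (k * q * k⁻¹ * u) := by rw [hw]; group
          _ = (q⁻¹ * d.z ^ i) * (u * (k * q * k⁻¹)) := by rw [e1]; group
          _ = (d.z ^ i * q⁻¹) * (u * (k * q * k⁻¹)) := by rw [hqz.inv_left.eq]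
          _ = d.z ^ i * (q⁻¹ * u) * (k * q * k⁻¹) := by group
          _ = u * (q⁻¹ * (k * q * k⁻¹)) := by
            have : d.z ^ i * (q⁻¹ * u) = u * q⁻¹ := by
              calc d.z ^ i * (q⁻¹ * u) = (d.z ^ i * q⁻¹) * u := by group
                _ = (q⁻¹ * d.z ^ i) * u := by rw [hqz.inv_left.eq]
                _ = q⁻¹ * (d.z ^ i * (u * q)) * q⁻¹ := by group
                _ = q⁻¹ * (q * u) * q⁻¹ := by rw [hi]
                _ = u * q⁻¹ := by group
            rw [this]; group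
      have e1 : k * q * k⁻¹ = q * w := by rw [hw]; group
      have e2 : k * w * k⁻¹ = w := by rw [← hk w hwU, mul_inv_cancel_right]
      have e3 : k ^ 3 * q * (k ^ 3)⁻¹ = q * w ^ 3 := by
        calc k ^ 3 * q * (k ^ 3)⁻¹ = k * (k * (k * q * k⁻¹) * k⁻¹) * k⁻¹ := by
              simp only [pow_succ, pow_zero, one_mul]; group
          _ = k * (k * (q * w) * k⁻¹) * k⁻¹ := by rw [e1]
          _ = k * ((k * q * k⁻¹) * (k * w * k⁻¹)) * k⁻¹ := by group
          _ = k * (q * w * w) * k⁻¹ := by rw [e1, e2]; 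
          _ = (k * q * k⁻¹) * (k * w * k⁻¹) * (k * w * k⁻¹) := by group
          _ = q * w * w * w := by rw [e1, e2]
          _ = _ := by simp [pow_succ, mul_assoc]
      rw [d.exp_Q w hwQ, mul_one] at e3
      exact (mul_inv_eq_iff_eq_mul.1 e3).symm
    have hQ' := d.exp_Q _ (d.cent_Q h3)
    exact ⟨2, Subtype.ext (by
      show k ^ 3 ^ 2 = 1
      rw [show 3 ^ 2 = 3 * 3 by norm_num, pow_mul]; exact hQ')⟩
  have h := d.card_inf_mul hK3 hKQ
  have hmeet : (K ⊓ d.Q : Subgroup G) = d.J ⊓ d.Q :=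
    le_antisymm (fun q hq => d.cent_meet_Q hq.2 fun u hu => (hq.1 u hu).symm)
      (fun u hu => ⟨hJK hu.1, hu.2⟩)
  rw [hmeet, d.card_meet] at h
  exact (eq_of_le_of_card_ge hJK (by rw [d.card_J]; omega)).symm

theorem Data.cent_J : centralizer (d.J : Set G) = d.J :=
  le_antisymm (fun _ hg => d.cent_meet ▸ fun u hu => hg u hu.1) fun j hj u hu => d.J_comm u hu j hj

theorem Data.cent_le_of_meet {g : G} (hg : ∀ u ∈ d.J, u ∈ d.Q → g * u = u * g) : g ∈ d.J :=
  d.cent_meet ▸ fun u hu => (hg u hu.1 hu.2).symm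

/-- The elements of `L` outside `Q` of order three modulo `Q` centralize little of `Q` modulo `z`. -/
theorem Data.small_fix {a : G} (ha : a ∈ d.L) (ha3 : a ^ 3 ∈ d.Q) (haQ : a ∉ d.Q) {W : Subgroup G}
    (hW : W ≤ d.Q) (hzW : d.z ∈ W) (hWa : ∀ w ∈ W, a * w * a⁻¹ * w⁻¹ ∈ zpowers d.z) :
    Nat.card W < 81 := by
  classical
  haveI : Fact (Nat.Prime 3) := ⟨Nat.prime_three⟩
  by_contra hcon
  push Not at hcon
  obtain ⟨e⟩ := d.eL
  haveI := d.Q_sub
  set π : d.L →* d.L ⧸ d.Q.subgroupOf d.L := QuotientGroup.mk' _ with hπ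
  have hker : ∀ y : d.L, π y = 1 ↔ (y : G) ∈ d.Q := fun y =>
    (QuotientGroup.eq_one_iff y).trans mem_subgroupOf
  obtain ⟨b', hb5, hb1⟩ := sl25_pair (e (π ⟨a, ha⟩))
    (by rw [← map_pow, ← map_pow, (hker _).2 (by simpa using ha3), map_one])
    (fun h => haQ ((hker ⟨a, ha⟩).1 (e.injective (h.trans (map_one e).symm))))
  obtain ⟨b, hb⟩ := (e.surjective.comp (QuotientGroup.mk'_surjective _)) b'
  replace hb : e (π b) = b' := hb
  set s₀ : G := a * ((b : G) * a * (b : G)⁻¹) with hs₀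
  have hs₀L : s₀ ∈ d.L := d.L.mul_mem ha (d.L.mul_mem (d.L.mul_mem b.2 ha) (d.L.inv_mem b.2))
  set s : G := s₀ ^ 2 with hs
  have hsL : s ∈ d.L := d.L.pow_mem hs₀L 2
  have hse : e (π ⟨s, hsL⟩) = (e (π ⟨a, ha⟩) * (b' * e (π ⟨a, ha⟩) * b'⁻¹)) ^ 2 := by
    rw [← hb, ← map_inv, ← map_mul, ← map_mul, ← map_mul, ← map_inv π, ← map_mul π, ← map_mul π,
      ← map_mul π, ← map_pow, ← map_pow]
    rfl
  have hs5 : s ^ 5 ∈ d.Q := by
    have h : e (π (⟨s, hsL⟩ ^ 5)) = 1 := by rw [map_pow, map_pow, hse, ← pow_mul, hb5]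
    simpa using (hker _).1 (e.injective (h.trans (map_one e).symm))
  have hsQ : s ∉ d.Q := fun h => hb1 (by rw [← hse, (hker ⟨s, hsL⟩).2 h, map_one])
  have hzz : ∀ g ∈ d.L, ∀ c ∈ zpowers d.z, g * c * g⁻¹ = c := fun g hg c hc => by
    obtain ⟨i, rfl⟩ := mem_zpowers_iff.1 hc
    rw [((show Commute g d.z from mem_centralizer_singleton_iff.1 (d.L_le hg)).zpow_right i).eq,
      mul_inv_cancel_right]
  have hcn : ∀ g ∈ d.L, ∀ q : G, q ∈ d.Q ↔ g * q * g⁻¹ ∈ d.Q := fun g hg =>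
    mem_normalizer_iff.1 (d.L_le_normalizer hg)
  -- the common part
  set W2 : Subgroup G := W ⊓ W.map (MulAut.conj (b : G)).toMonoidHom with hW2
  have hzW2 : d.z ∈ W2 := ⟨hzW, d.z, hzW, by
    show (b : G) * d.z * (b : G)⁻¹ = d.z
    exact hzz _ b.2 _ (mem_zpowers _)⟩
  have hs2' : ∀ w ∈ W2, s₀ * w * s₀⁻¹ * w⁻¹ ∈ zpowers d.z := by
    rintro _ ⟨hw, v, hv, rfl⟩
    change (b : G) * v * (b : G)⁻¹ ∈ W at hw
    show s₀ * ((b : G) * v * (b : G)⁻¹) * s₀⁻¹ * ((b : G) * v * (b : G)⁻¹)⁻¹ ∈ zpowers d.z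
    have hcv : (b : G) * (a * v * a⁻¹ * v⁻¹) * (b : G)⁻¹ = a * v * a⁻¹ * v⁻¹ :=
      hzz _ b.2 _ (hWa v hv)
    have hca : a * (a * v * a⁻¹ * v⁻¹) * a⁻¹ = a * v * a⁻¹ * v⁻¹ := hzz _ ha _ (hWa v hv)
    have : s₀ * ((b : G) * v * (b : G)⁻¹) * s₀⁻¹ * ((b : G) * v * (b : G)⁻¹)⁻¹ =
        (a * v * a⁻¹ * v⁻¹) *
          (a * ((b : G) * v * (b : G)⁻¹) * a⁻¹ * ((b : G) * v * (b : G)⁻¹)⁻¹) := by
      conv_rhs => rw [← hca, ← hcv]
      rw [hs₀]; group
    rw [this]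
    exact mul_mem (hWa v hv) (hWa _ hw)
  have hs2 : ∀ w ∈ W2, s * w * s⁻¹ * w⁻¹ ∈ zpowers d.z := by
    intro w hw
    have h : s * w * s⁻¹ * w⁻¹ =
        (s₀ * (s₀ * w * s₀⁻¹ * w⁻¹) * s₀⁻¹) * (s₀ * w * s₀⁻¹ * w⁻¹) := by rw [hs, pow_two]; group
    rw [h, hzz s₀ hs₀L _ (hs2' w hw)]
    exact mul_mem (hs2' w hw) (hs2' w hw)
  have hQ5 : IsPGroup 3 d.Q := IsPGroup.of_card (n := 5) (by rw [d.card_Q]; norm_num)
  have hW81 : ∀ V : Subgroup G, V ≤ d.Q → 81 ≤ Nat.card V → (V.subgroupOf d.Q).index ≤ 3 := by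
    intro V hV h81
    have h := (V.subgroupOf d.Q).card_mul_index
    rw [Nat.card_congr (subgroupOfEquivOfLe hV).toEquiv, d.card_Q] at h
    have : 81 * (V.subgroupOf d.Q).index ≤ 243 := h ▸ Nat.mul_le_mul_right _ h81
    omega
  have hmapQ : W.map (MulAut.conj (b : G)).toMonoidHom ≤ d.Q := by
    rintro _ ⟨v, hv, rfl⟩
    exact (hcn _ b.2 v).1 (hW hv)
  have hmapc : 81 ≤ Nat.card (W.map (MulAut.conj (b : G)).toMonoidHom) := by
    rw [← Nat.card_congr (W.equivMapOfInjective _ (MulAut.conj (b : G)).injective).toEquiv]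
    exact hcon
  have hidx : (W2.subgroupOf d.Q).index ≤ 9 := by
    have h := index_inf_le (H := W.subgroupOf d.Q)
      (K := (W.map (MulAut.conj (b : G)).toMonoidHom).subgroupOf d.Q)
    rw [hW2, show (W ⊓ W.map (MulAut.conj (b : G)).toMonoidHom).subgroupOf d.Q =
      W.subgroupOf d.Q ⊓ (W.map (MulAut.conj (b : G)).toMonoidHom).subgroupOf d.Q from comap_inf _ _ _]
    exact h.trans ((Nat.mul_le_mul (hW81 W hW hcon) (hW81 _ hmapQ hmapc)).trans (by norm_num))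
  have hW2Q : W2 ≤ d.Q := inf_le_left.trans hW
  have hzz2 : zpowers d.z ≤ W2 := zpowers_le.2 hzW2
  haveI hn : (W2.subgroupOf d.Q).Normal := ⟨fun w hw q => by
    refine mem_subgroupOf.2 ?_
    show (q : G) * (w : G) * (q : G)⁻¹ ∈ W2
    have h1 : (w : G) ∈ W2 := mem_subgroupOf.1 hw
    have : (q : G) * (w : G) * (q : G)⁻¹ = ((q : G) * (w : G) * (q : G)⁻¹ * (w : G)⁻¹) * (w : G) := by
      group
    rw [this]
    exact W2.mul_mem (hzz2 (d.comm_Q _ q.2 _ w.2)) h1⟩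
  have hmap2 : ∀ w ∈ W2, s * w * s⁻¹ ∈ W2 := fun w hw => by
    have := W2.mul_mem (hzz2 (hs2 w hw)) hw
    simpa [mul_assoc] using this
  have hmap2' : ∀ w ∈ W2, s⁻¹ * w * s ∈ W2 := fun w hw => by
    have h := zpow_mem (mem_zpowers d.z) 1
    have hc := hzz s⁻¹ (d.L.inv_mem hsL) _ (inv_mem (hs2 w hw))
    have e : s⁻¹ * w * s = (s⁻¹ * (s * w * s⁻¹ * w⁻¹)⁻¹ * s⁻¹⁻¹) * w := by group
    rw [e, hc]
    exact W2.mul_mem (hzz2 (inv_mem (hs2 w hw))) hw
  -- the action on the quotient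
  set σ : MulAut d.Q :=
    { toFun := fun q => ⟨s * (q : G) * s⁻¹, (hcn s hsL _).1 q.2⟩
      invFun := fun q => ⟨s⁻¹ * (q : G) * s, by simpa using (hcn s⁻¹ (d.L.inv_mem hsL) _).1 q.2⟩
      left_inv := fun q => Subtype.ext (by simp [mul_assoc])
      right_inv := fun q => Subtype.ext (by simp [mul_assoc])
      map_mul' := fun q r => Subtype.ext (by simp [mul_assoc]) } with hσ
  set φ : MulAut (d.Q ⧸ W2.subgroupOf d.Q) := QuotientGroup.congr _ _ σ (by
    ext q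
    refine ⟨?_, fun hq => ⟨σ.symm q, mem_subgroupOf.2 (hmap2' _ (mem_subgroupOf.1 hq)),
      σ.apply_symm_apply q⟩⟩
    rintro ⟨w, hw, rfl⟩
    exact mem_subgroupOf.2 (hmap2 _ (mem_subgroupOf.1 hw))) with hφ
  have hφk : ∀ (k : ℕ) (q : d.Q), (φ ^ k) (QuotientGroup.mk q) =
      QuotientGroup.mk ⟨s ^ k * (q : G) * (s ^ k)⁻¹, (hcn _ (d.L.pow_mem hsL k) _).1 q.2⟩ := by
    intro k
    induction k with
    | zero => intro q; simp
    | succ k ih =>
      intro q
      rw [pow_succ', MulAut.mul_apply, ih]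
      show QuotientGroup.mk _ = QuotientGroup.mk _
      refine congrArg QuotientGroup.mk (Subtype.ext ?_)
      show s * (s ^ k * (q : G) * (s ^ k)⁻¹) * s⁻¹ = _
      simp only [pow_succ', mul_inv_rev, mul_assoc]
  have hcard9 : Nat.card (d.Q ⧸ W2.subgroupOf d.Q) = 1 ∨ Nat.card (d.Q ⧸ W2.subgroupOf d.Q) = 3 ∨
      Nat.card (d.Q ⧸ W2.subgroupOf d.Q) = 9 := by
    have hdvd : (W2.subgroupOf d.Q).index ∣ 3 ^ 5 := by
      rw [show (3 : ℕ) ^ 5 = 243 by norm_num, ← d.card_Q]; exact index_dvd_card _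
    obtain ⟨k, -, hk⟩ := (Nat.dvd_prime_pow Nat.prime_three).1 hdvd
    rw [hk] at hidx
    have hk2 : k ≤ 2 := by
      by_contra h
      have : (3 : ℕ) ^ 3 ≤ 3 ^ k := Nat.pow_le_pow_right (by norm_num) (by omega)
      omega
    rw [← index, hk]
    interval_cases k <;> simp
  have hφ5 : φ ^ 5 = 1 := by
    refine MulEquiv.ext fun q => ?_
    obtain ⟨q, rfl⟩ := QuotientGroup.mk_surjective q
    rw [hφk, MulAut.one_apply, QuotientGroup.eq]
    refine mem_subgroupOf.2 ?_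
    show (s ^ 5 * (q : G) * (s ^ 5)⁻¹)⁻¹ * (q : G) ∈ W2
    obtain ⟨i, hi⟩ := d.comm_eq hs5 q.2
    rw [hi]
    have : (d.z ^ i * ((q : G) * s ^ 5) * (s ^ 5)⁻¹)⁻¹ * (q : G) = (q : G)⁻¹ * (d.z ^ i)⁻¹ * (q : G) := by
      group
    rw [this, (((show Commute (q : G) d.z from d.z_comm_S (d.Q_le_S q.2)).zpow_right i).inv_inv).eq,
      inv_mul_cancel_right]
    exact hzz2 (inv_mem (zpow_mem (mem_zpowers _) i))
  have hfix : ∀ q ∈ d.Q, q⁻¹ * (s * q * s⁻¹) ∈ W2 := fun q hq => by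
    have h := fixed_of_small φ hφ5 hcard9 (QuotientGroup.mk (⟨q, hq⟩ : d.Q))
    rw [← pow_one φ, hφk, eq_comm, QuotientGroup.eq] at h
    simpa using mem_subgroupOf.1 h
  have hs3 : s ^ 3 ∈ centralizer (d.Q : Set G) := by
    intro q hq
    set w := q⁻¹ * (s * q * s⁻¹) with hw
    have hwW : w ∈ W2 := hfix q hq
    set c := s * w * s⁻¹ * w⁻¹ with hc
    have hcz : c ∈ zpowers d.z := hs2 w hwW
    have e1 : s * q * s⁻¹ = q * w := by rw [hw]; group
    have e2 : s * w * s⁻¹ = c * w := by rw [hc]; group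
    have e3 : s * c * s⁻¹ = c := hzz s hsL c hcz
    obtain ⟨i, hi⟩ : ∃ i : ℤ, d.z ^ i = c := mem_zpowers_iff.1 hcz
    rw [← hi] at e2 e3
    have hwc : Commute w (d.z ^ i) :=
      (show Commute w d.z from d.z_comm_S (d.Q_le_S (hW2Q hwW))).zpow_right i
    have hc3 : d.z ^ i * d.z ^ i * d.z ^ i = 1 := by
      have := d.exp_Q _ (zpow_mem d.z_mem_Q i)
      simpa [pow_succ, mul_assoc] using this
    have h : s ^ 3 * q * (s ^ 3)⁻¹ = q := by
      calc s ^ 3 * q * (s ^ 3)⁻¹ = s * (s * (s * q * s⁻¹) * s⁻¹) * s⁻¹ := by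
            simp only [pow_succ, pow_zero, one_mul]; group
        _ = s * (s * (q * w) * s⁻¹) * s⁻¹ := by rw [e1]
        _ = s * ((s * q * s⁻¹) * (s * w * s⁻¹)) * s⁻¹ := by group
        _ = s * (q * w * (d.z ^ i * w)) * s⁻¹ := by rw [e1, e2]
        _ = (s * q * s⁻¹) * (s * w * s⁻¹) * ((s * d.z ^ i * s⁻¹) * (s * w * s⁻¹)) := by group
        _ = q * w * (d.z ^ i * w) * (d.z ^ i * (d.z ^ i * w)) := by rw [e1, e2, e3]
        _ = q * (w * (d.z ^ i * w) * d.z ^ i) * (d.z ^ i * w) := by group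
        _ = q * (w * (w * d.z ^ i) * d.z ^ i) * (w * d.z ^ i) := by rw [hwc.eq]
        _ = q * (w * w) * ((d.z ^ i * d.z ^ i) * w) * d.z ^ i := by group
        _ = q * (w * w) * (w * (d.z ^ i * d.z ^ i)) * d.z ^ i := by rw [(hwc.mul_right hwc).eq]
        _ = q * (w * w * w) * (d.z ^ i * d.z ^ i * d.z ^ i) := by group
        _ = q := by
            rw [hc3, show w * w * w = w ^ 3 by simp [pow_succ, mul_assoc], d.exp_Q w (hW2Q hwW),
              mul_one, mul_one]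
    exact (mul_inv_eq_iff_eq_mul.1 h).symm
  have hQ3 : s ^ 3 ∈ d.Q := d.cent_Q hs3
  apply hsQ
  have : s = (s ^ 3) ^ 2 * (s ^ 5)⁻¹ := by rw [← pow_mul]; group
  rw [this]
  exact d.Q.mul_mem (d.Q.pow_mem hQ3 2) (d.Q.inv_mem hs5)

/-- `J` is the only abelian subgroup of order 81 of `S`. -/
theorem Data.J_unique {A : Subgroup G} (hA : A ≤ (d.S : Subgroup G))
    (hc : ∀ a ∈ A, ∀ b ∈ A, a * b = b * a) (h81 : Nat.card A = 81) : A = d.J := by
  haveI : Fact (Nat.Prime 3) := ⟨Nat.prime_three⟩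
  have hAQ : A ≤ normalizer (d.Q : Set G) := hA.trans (d.S_le_L.trans d.L_le_normalizer)
  have h27 : Nat.card (A ⊓ d.Q : Subgroup G) = 27 := by
    refine le_antisymm (d.abelian_le inf_le_right fun a ha b hb => hc a ha.1 b hb.1) ?_
    have := d.card_inf_mul (d.S.2.to_le hA) hAQ
    rw [h81] at this; omega
  have hzA : d.z ∈ A := by
    have hle : A ⊓ d.Q ≤ (A ⊓ d.Q) ⊔ zpowers d.z := le_sup_left
    by_contra h
    have hcomm : ∀ a ∈ (A ⊓ d.Q) ⊔ zpowers d.z, ∀ b ∈ (A ⊓ d.Q) ⊔ zpowers d.z, a * b = b * a := by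
      have hz : ∀ q ∈ (A ⊓ d.Q) ⊔ zpowers d.z, q * d.z = d.z * q := fun q hq =>
        d.z_comm_S (sup_le (inf_le_right.trans d.Q_le_S) (zpowers_le.2 d.z_mem_S) hq)
      intro a ha b hb
      have h1 : (A ⊓ d.Q) ⊔ zpowers d.z ≤ centralizer ((A ⊓ d.Q : Subgroup G) : Set G) :=
        sup_le (fun x hx y hy => hc y hy.1 x hx.1) (zpowers_le.2 fun y hy => hz y (hle hy))
      have h2 : (A ⊓ d.Q) ⊔ zpowers d.z ≤ centralizer ({a} : Set G) :=
        sup_le (fun x hx => mem_centralizer_singleton_iff.2 (h1 ha x hx))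
          (zpowers_le.2 (mem_centralizer_singleton_iff.2 (hz a ha).symm))
      exact (mem_centralizer_singleton_iff.1 (h2 hb)).symm
    have h' := d.abelian_le (sup_le inf_le_right (zpowers_le.2 d.z_mem_Q)) hcomm
    rw [← h27] at h'
    exact h ((eq_of_le_of_card_ge hle h').symm ▸ mem_sup_right (mem_zpowers d.z) :
      d.z ∈ A ⊓ d.Q).1
  by_contra hne
  have hdiff : ¬ (A ⊓ d.Q : Subgroup G) = d.J ⊓ d.Q := fun h => by
    refine hne (eq_of_le_of_card_ge ?_ (by rw [h81, d.card_J]))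
    intro a ha
    refine d.cent_le_of_meet fun u huJ huQ => ?_
    have : u ∈ (A ⊓ d.Q : Subgroup G) := h ▸ ⟨huJ, huQ⟩
    exact hc a ha u this.1
  obtain ⟨a, ha, haQ⟩ : ∃ a ∈ A, a ∉ d.Q := SetLike.not_le_iff_exists.1 fun h => by
    rw [inf_eq_left.2 h, h81] at h27; omega
  have hae : ∃ j ∈ d.J, ∃ q ∈ d.Q, a = j * q := by
    have h2 : a ∈ ((d.J ⊔ d.Q : Subgroup G) : Set G) := d.J_sup_Q ▸ hA ha
    rw [coe_mul_of_left_le_normalizer_right d.J d.Q (d.J_le_S.trans (d.S_le_L.trans d.L_le_normalizer))]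
      at h2
    obtain ⟨j, hj, q, hq, e⟩ := h2
    exact ⟨j, hj, q, hq, e.symm⟩
  obtain ⟨j, hj, q, hq, rfl⟩ := hae
  let W : Subgroup G :=
    { carrier := {w | w ∈ d.Q ∧ (j * q) * w * (j * q)⁻¹ * w⁻¹ ∈ zpowers d.z}
      one_mem' := ⟨one_mem _, by simpa using one_mem (zpowers d.z)⟩
      mul_mem' := fun {u v} hu hv => ⟨d.Q.mul_mem hu.1 hv.1, by
        obtain ⟨i, hi⟩ := mem_zpowers_iff.1 hv.2
        have : (j * q) * (u * v) * (j * q)⁻¹ * (u * v)⁻¹ =
            ((j * q) * u * (j * q)⁻¹ * u⁻¹) * (u * ((j * q) * v * (j * q)⁻¹ * v⁻¹) * u⁻¹) := by group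
        rw [this, ← hi, ((show Commute u d.z from d.z_comm_S (d.Q_le_S hu.1)).zpow_right i).eq,
          mul_inv_cancel_right]
        exact mul_mem hu.2 (zpow_mem (mem_zpowers _) i)⟩
      inv_mem' := fun {u} hu => ⟨d.Q.inv_mem hu.1, by
        obtain ⟨i, hi⟩ := mem_zpowers_iff.1 hu.2
        have : (j * q) * u⁻¹ * (j * q)⁻¹ * u⁻¹⁻¹ =
            (u⁻¹ * ((j * q) * u * (j * q)⁻¹ * u⁻¹) * u⁻¹⁻¹)⁻¹ := by group
        rw [this, ← hi,
          ((show Commute u⁻¹ d.z from d.z_comm_S (d.Q_le_S (d.Q.inv_mem hu.1))).zpow_right i).eq,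
          mul_inv_cancel_right]
        exact inv_mem (zpow_mem (mem_zpowers _) i)⟩ }
  have hWz : d.z ∈ W := ⟨d.z_mem_Q, by
    rw [show j * q * d.z = d.z * (j * q) from d.z_comm_S (hA ha),
      mul_inv_cancel_right, mul_inv_cancel]
    exact one_mem _⟩
  have hWJ : d.J ⊓ d.Q ≤ W := fun u hu => ⟨hu.2, by
    have hju : j * u * j⁻¹ = u := by rw [d.J_comm j hj u hu.1, mul_inv_cancel_right]
    obtain ⟨i, hi⟩ := d.comm_eq hq hu.2
    have : j * q * u * (j * q)⁻¹ * u⁻¹ = (j * d.z ^ i * j⁻¹) * ((j * u * j⁻¹) * u⁻¹) := by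
      calc j * q * u * (j * q)⁻¹ * u⁻¹ = j * (q * u) * q⁻¹ * j⁻¹ * u⁻¹ := by group
        _ = _ := by rw [hi]; group
    rw [this, hju, mul_inv_cancel, mul_one,
      ((show Commute j d.z from d.z_comm_S (d.J_le_S hj)).zpow_right i).eq, mul_inv_cancel_right]
    exact zpow_mem (mem_zpowers _) i⟩
  have hWA : A ⊓ d.Q ≤ W := fun u hu => ⟨hu.2, by
    rw [hc (j * q) ha u hu.1, mul_inv_cancel_right, mul_inv_cancel]
    exact one_mem _⟩
  have hsmall := d.small_fix (d.S_le_L (hA ha))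
    (by
      have : (j * q) ^ 3 ∈ A ⊓ d.Q := by
        refine ⟨A.pow_mem ha 3, ?_⟩
        have hidx : ((A ⊓ d.Q).subgroupOf A).index = 3 := by
          have h := ((A ⊓ d.Q).subgroupOf A).card_mul_index
          rw [Nat.card_congr (subgroupOfEquivOfLe (inf_le_left : A ⊓ d.Q ≤ A)).toEquiv, h27, h81] at h
          omega
        haveI : ((A ⊓ d.Q).subgroupOf A).Normal := ⟨fun x hx y => by
          rw [show y * x * y⁻¹ = x from Subtype.ext (by
            show (y : G) * (x : G) * (y : G)⁻¹ = x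
            rw [hc y y.2 x x.2, mul_inv_cancel_right])]
          exact hx⟩
        have := pow_index_mem ((A ⊓ d.Q).subgroupOf A) ⟨j * q, ha⟩
        rw [hidx, mem_subgroupOf] at this
        exact this.2
      exact this.2)
    haQ (W := W) (fun w hw => hw.1) hWz (fun w hw => hw.2)
  have hlt : 27 < Nat.card W := by
    rw [← d.card_meet]
    refine lt_of_le_of_ne (card_le_of_le hWJ) fun h => hdiff ?_
    have hWeq := eq_of_le_of_card_ge hWJ h.ge
    exact eq_of_le_of_card_ge (hWeq ▸ hWA) (by rw [h27, d.card_meet])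
  obtain ⟨k, hk⟩ := IsPGroup.iff_card.1 ((IsPGroup.of_card (p := 3) (n := 5)
    (by rw [d.card_Q]; norm_num) : IsPGroup 3 d.Q).to_le (show W ≤ d.Q from fun w hw => hw.1))
  rw [hk] at hlt hsmall
  rw [show (27 : ℕ) = 3 ^ 3 by norm_num] at hlt
  rw [show (81 : ℕ) = 3 ^ 4 by norm_num] at hsmall
  have := (Nat.pow_lt_pow_iff_right (by norm_num : 1 < 3)).1 hlt
  have := (Nat.pow_lt_pow_iff_right (by norm_num : 1 < 3)).1 hsmall
  omega

theorem Data.S_le_normalizer : (d.S : Subgroup G) ≤ normalizer (d.J : Set G) := by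
  intro s hs
  have he : d.J.map (MulAut.conj s).toMonoidHom = d.J := by
    refine d.J_unique ?_ ?_ ?_
    · rintro _ ⟨j, hj, rfl⟩
      exact (d.S : Subgroup G).mul_mem ((d.S : Subgroup G).mul_mem hs (d.J_le_S hj))
        ((d.S : Subgroup G).inv_mem hs)
    · rintro _ ⟨a, ha, rfl⟩ _ ⟨b, hb, rfl⟩
      rw [← map_mul, ← map_mul, d.J_comm a ha b hb]
    · rw [← Nat.card_congr (d.J.equivMapOfInjective _ (MulAut.conj s).injective).toEquiv, d.card_J]
  exact mem_normalizer_fintype fun n hn => he.le ⟨n, hn, rfl⟩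

theorem Data.S_le_M0 : (d.S : Subgroup G) ≤ d.M0 := d.S_le_normJ d.S_le_normalizer

theorem Data.J_unique' {R A : Subgroup G} (hR : IsPGroup 3 R) (hJ : d.J ≤ R) (hA : A ≤ R)
    (hc : ∀ a ∈ A, ∀ b ∈ A, a * b = b * a) (h81 : Nat.card A = 81) : A = d.J := by
  haveI : Fact (Nat.Prime 3) := ⟨Nat.prime_three⟩
  obtain ⟨P, hP⟩ := hR.exists_le_sylow
  obtain ⟨c, hc'⟩ := MulAction.exists_smul_eq G P d.S
  have key : ∀ B : Subgroup G, B ≤ R → (∀ a ∈ B, ∀ b ∈ B, a * b = b * a) → Nat.card B = 81 →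
      B.map (MulAut.conj c).toMonoidHom = d.J := by
    intro B hB hBc hB81
    refine d.J_unique ?_ ?_ ?_
    · rintro _ ⟨a, ha, rfl⟩
      rw [← hc', Sylow.coe_subgroup_smul]
      exact ⟨a, hP (hB ha), rfl⟩
    · rintro _ ⟨a, ha, rfl⟩ _ ⟨b, hb, rfl⟩
      rw [← map_mul, ← map_mul, hBc a ha b hb]
    · rw [← Nat.card_congr (B.equivMapOfInjective _ (MulAut.conj c).injective).toEquiv, hB81]
  exact map_injective (MulAut.conj c).injective
    ((key A hA hc h81).trans (key d.J hJ d.J_comm d.card_J).symm)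

/-- Conjugate elements of `J` are conjugate in `N(J)`. -/
theorem Data.fusion_J {a : G} (ha : a ∈ d.J) {g : G} (hg : g * a * g⁻¹ ∈ d.J) :
    ∃ m ∈ normalizer (d.J : Set G), m * a * m⁻¹ = g * a * g⁻¹ := by
  classical
  haveI : Fact (Nat.Prime 3) := ⟨Nat.prime_three⟩
  set b := g * a * g⁻¹ with hb
  set C := centralizer ({b} : Set G) with hC
  set J' := d.J.map (MulAut.conj g).toMonoidHom with hJ'
  have hJC : d.J ≤ C := fun j hj => mem_centralizer_singleton_iff.2 (d.J_comm j hj b hg)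
  have hJ'C : J' ≤ C := by
    rintro _ ⟨j, hj, rfl⟩
    refine mem_centralizer_singleton_iff.2 ?_
    show g * j * g⁻¹ * b = b * (g * j * g⁻¹)
    rw [hb]
    calc g * j * g⁻¹ * (g * a * g⁻¹) = g * (j * a) * g⁻¹ := by group
      _ = g * (a * j) * g⁻¹ := by rw [d.J_comm j hj a ha]
      _ = _ := by group
  have hJ'3 : IsPGroup 3 J' := d.J_group.map _
  obtain ⟨P1, hP1⟩ := (d.J_group.comap_subtype : IsPGroup 3 (d.J.subgroupOf C)).exists_le_sylow
  obtain ⟨P2, hP2⟩ := (hJ'3.comap_subtype : IsPGroup 3 (J'.subgroupOf C)).exists_le_sylow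
  obtain ⟨h, hh⟩ := MulAction.exists_smul_eq C P2 P1
  refine ⟨(h : G) * g, ?_, ?_⟩
  · have heq : d.J.map (MulAut.conj ((h : G) * g)).toMonoidHom = d.J := by
      refine d.J_unique' (R := (P1 : Subgroup C).map C.subtype) (P1.2.map _) ?_ ?_ ?_ ?_
      · exact fun j hj => ⟨⟨j, hJC hj⟩, hP1 (mem_subgroupOf.2 hj), rfl⟩
      · rintro _ ⟨j, hj, rfl⟩
        have hj' : g * j * g⁻¹ ∈ J' := ⟨j, hj, rfl⟩
        refine ⟨h * ⟨g * j * g⁻¹, hJ'C hj'⟩ * h⁻¹, ?_, ?_⟩
        · rw [← hh, Sylow.coe_subgroup_smul]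
          exact ⟨⟨g * j * g⁻¹, hJ'C hj'⟩, hP2 (mem_subgroupOf.2 hj'), rfl⟩
        · show (h : G) * (g * j * g⁻¹) * (h : G)⁻¹ = (h : G) * g * j * ((h : G) * g)⁻¹
          group
      · rintro _ ⟨x, hx, rfl⟩ _ ⟨y, hy, rfl⟩
        rw [← map_mul, ← map_mul, d.J_comm x hx y hy]
      · rw [← Nat.card_congr (d.J.equivMapOfInjective _ (MulAut.conj _).injective).toEquiv, d.card_J]
    exact mem_normalizer_fintype fun n hn => heq.le ⟨n, hn, rfl⟩
  · calc (h : G) * g * a * ((h : G) * g)⁻¹ = (h : G) * b * (h : G)⁻¹ := by rw [hb]; group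
      _ = b := by rw [mem_centralizer_singleton_iff.1 h.2, mul_inv_cancel_right]

end Cfsg.Agent.McL3x39
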