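import Mathlib

/-!
Data for the subgroups of odd order of the permutation group of degree 275 modelling the McLaughlin group:
a word for an element of order eleven, and the orbit of a non-neighbour of a point under its stabiliser.
-/

set_option autoImplicit false

namespace Cfsg.Agent.McLOddBoundData13

/-- A word for an element of order eleven. -/
def xw : List ℕ := [1, 0, 1, 0, 0]

/-- The tree of the orbit of a non-neighbour. -/
def nonTree : List ℕ := [33554597, 48234752, 68157596, 71303340, 72351841, 73400451, 74449128, 75497506, 83886212, 84934744, 85983405, 87032061, 88080565, 89129220, 104857661, 105906220, 106954940, 108003507, 109052159, 112197772, 113246460, 121635065, 122683518, 123732031, 126877702, 127926530, 128974935, 130023480, 131072040, 132120717, 139460659, 140509406, 141557935, 142606461, 144703655, 145752100, 150995173, 157286481, 158335216, 159383814, 160432193, 161480802, 162529423, 163577942, 166723758, 167772377, 168820835, 169869376, 171966680, 173015041, 174063752, 33723600, 68326514, 74617934, 75666444, 85103887, 86152202, 87200857, 88249489, 89297957, 110269481, 112366742, 113415211, 121804010, 124949570, 127046774, 128095259, 130192591, 131241217, 136483970, 140678256, 142775318, 144872552, 145921082, 151164037, 157455410, 158504073, 161649774, 162698293,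 164795396, 167941144, 170038286, 171087102, 172135595, 173184182, 175281367, 54788168, 72613964, 74711143, 84148317, 87293969, 88342607, 112459954, 122945755, 126091416, 127140058, 128188484, 144965883, 146014346, 152305749, 158597123, 160694429, 162791625, 163840190, 168034572, 171180227, 174325792, 175374560, 85094457, 87191696, 89288973, 128086024, 143814879, 168980683, 173174890, 174223608, 48410783, 88256619, 89305179, 108179567, 110276683, 124956883, 128102492, 131248298, 132296743, 133345360, 139636810, 164802766, 171094110, 172142823, 174239972, 175288349, 87131181, 104957023, 143754294, 157385927, 162628743, 167871572, 73534661, 113380579, 175246366, 48472071, 75735055, 112435238, 141795570, 142844104, 145989733, 165912778, 48269325, 72386722, 113281296, 151029936, 71438546, 87166994, 121812096, 122860626, 85120183, 86168628, 84152339, 123998359, 162574359]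

end Cfsg.Agent.McLOddBoundData13
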