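import Cfsg.Agent.Lib.McLInvolution
import Cfsg.Agent.Lib.McLOddBoundData13

/-!
No subgroup of odd order of the permutation group of degree 275 modelling the McLaughlin group has order
divisible by 22275.
-/

set_option autoImplicit false
set_option maxRecDepth 100000

namespace Cfsg.Agent.McLOddBound13

open Cfsg.Agent Cfsg.Agent.PermImageCert Cfsg.Agent.PermWordCert
open Cfsg.Agent.McLInvolutionData Cfsg.Agent.McLInvolution Cfsg.Agent.McLOddBoundData13

instance : Fact (Nat.Prime 11) := ⟨by norm_num⟩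

/-! ### Group lemmas -/

section
variable {G : Type*} [Group G] [Finite G]

/-- An element of order eleven with smallest centraliser normalises no subgroup of coprime order not
congruent to one. -/
theorem no_normalized (hC : ∀ x : G, orderOf x = 11 → ∀ g : G, g * x = x * g → g ∈ Subgroup.zpowers x)
    (Q : Subgroup G) (hco : (Nat.card Q).Coprime 11) (hmod : Nat.card Q % 11 ≠ 1)
    (h11 : 11 ∣ Nat.card (Subgroup.normalizer (Q : Set G))) : False := by
  obtain ⟨⟨x, hxN⟩, hx⟩ := exists_prime_orderOf_dvd_card' 11 h11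
  rw [Subgroup.orderOf_mk] at hx
  have hconj : ∀ a ∈ Subgroup.zpowers x, ∀ q ∈ Q, a * q * a⁻¹ ∈ Q := fun a ha q hq =>
    (Subgroup.mem_normalizer_iff.1 ((Subgroup.zpowers_le.2 hxN) ha) q).1 hq
  let act : MulAction (Subgroup.zpowers x) Q :=
    { smul := fun a q => ⟨(a : G) * q * (a : G)⁻¹, hconj a a.2 q q.2⟩
      one_smul := fun q => Subtype.ext (by show (1 : G) * (q : G) * (1 : G)⁻¹ = _; simp)
      mul_smul := fun a b q => Subtype.ext (by
        show ((a : G) * b) * q * ((a : G) * b)⁻¹ = a * (b * q * (b : G)⁻¹) * (a : G)⁻¹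
        group) }
  have hpg : IsPGroup 11 (Subgroup.zpowers x) := IsPGroup.of_card (n := 1) (by rw [Nat.card_zpowers, hx, pow_one])
  have h := hpg.card_modEq_card_fixedPoints Q
  have hone : Nat.card (MulAction.fixedPoints (Subgroup.zpowers x) Q) = 1 := by
    rw [Nat.card_eq_one_iff_unique]
    refine ⟨⟨fun a b => ?_⟩, ⟨⟨1, fun a => Subtype.ext (by
      show (a : G) * (1 : Q) * (a : G)⁻¹ = _; simp)⟩⟩⟩
    have triv : ∀ c : MulAction.fixedPoints (Subgroup.zpowers x) Q, (c.1 : G) = 1 := fun c => by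
      have e : x * (c.1 : G) * x⁻¹ = c.1 :=
        congrArg Subtype.val (c.2 ⟨x, Subgroup.mem_zpowers x⟩)
      have hz := hC x hx (c.1 : G) (mul_inv_eq_iff_eq_mul.1 e).symm
      have d1 : orderOf (c.1 : G) ∣ 11 := by
        have := orderOf_dvd_natCard (⟨_, hz⟩ : Subgroup.zpowers x)
        rwa [Subgroup.orderOf_mk, Nat.card_zpowers, hx] at this
      have d2 : orderOf (c.1 : G) ∣ Nat.card Q := by
        have := orderOf_dvd_natCard (c.1 : Q)
        rwa [← Subgroup.orderOf_coe] at this
      exact orderOf_eq_one_iff.1 (Nat.eq_one_of_dvd_coprimes hco d2 d1)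
    exact Subtype.ext (Subtype.ext ((triv a).trans (triv b).symm))
  rw [hone] at h
  exact hmod h

/-- With a normal complement to the elements of order eleven, a Sylow subgroup is normalised by one. -/
theorem dvd_card_normalizer {q : ℕ} [Fact q.Prime] (K : Subgroup G) [K.Normal] (hK : 11 ∣ K.index)
    (Q : Sylow q K) :
    11 ∣ Nat.card (Subgroup.normalizer (((Q : Subgroup K).map K.subtype : Subgroup G) : Set G)) := by
  set N := Subgroup.normalizer (((Q : Subgroup K).map K.subtype : Subgroup G) : Set G)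
  have htop : N ⊔ K = ⊤ := Sylow.normalizer_sup_eq_top Q
  refine hK.trans ?_
  have hs : Function.Surjective ((QuotientGroup.mk' K).comp N.subtype) := by
    rw [← MonoidHom.range_eq_top, MonoidHom.range_comp, N.range_subtype, ← top_le_iff,
      ← MonoidHom.range_eq_top.2 (QuotientGroup.mk'_surjective K), MonoidHom.range_eq_map, ← htop,
      Subgroup.map_sup, QuotientGroup.map_mk'_self, sup_bot_eq]
  exact Subgroup.card_dvd_of_surjective _ hs

omit [Finite G] in
/-- The `q`-part is the order of a Sylow subgroup. -/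
theorem card_sylow_eq [Finite G] {q a m : ℕ} [Fact q.Prime] (hG : Nat.card G = q ^ a * m) (hm : ¬ q ∣ m)
    (Q : Sylow q G) : Nat.card (Q : Subgroup G) = q ^ a := by
  have hm0 : m ≠ 0 := by
    intro h
    rw [h] at hm
    exact hm (dvd_zero q)
  rw [Q.card_eq_multiplicity, hG, Nat.factorization_mul (pow_ne_zero _ (Fact.out : q.Prime).ne_zero) hm0,
    Finsupp.add_apply, Nat.factorization_pow, Finsupp.smul_apply, (Fact.out : q.Prime).factorization_self,
    Nat.factorization_eq_zero_of_not_dvd hm]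
  simp

end

/-! ### Orbits in the permutation group -/

/-- One level of the chain: the orbit is exactly the set `F`. -/
theorem level (b : Fin 275) (pre : List ℕ) (es : List ℕ)
    (htree : treeOK 275 T pre (1 <<< (b : ℕ)) es = true) (F : Finset (Fin 275))
    (hF : F.card = es.length + 1) (hinv : ∀ σ ∈ fixSub P pre, σ b ∈ F) :
    (∀ q ∈ F, ∃ σ ∈ fixSub P pre, σ b = q) ∧
      Nat.card (fixSub P pre) = F.card * Nat.card (fixSub P ((b : ℕ) :: pre)) := by
  obtain ⟨S, hS, hSr⟩ := tree_spec hT pre b es _ htree {b} (fun p => by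
      rw [Nat.one_shiftLeft, Nat.testBit_two_pow, decide_eq_true_eq, Finset.mem_singleton, Fin.ext_iff]
      exact ⟨Eq.symm, Eq.symm⟩)
    (fun p hp => ⟨1, one_mem _, by rw [Finset.mem_singleton] at hp; rw [hp]; rfl⟩)
  rw [Finset.card_singleton] at hS
  have hsub : S ⊆ F := fun p hp => by
    obtain ⟨σ, hσ, rfl⟩ := hSr p hp
    exact hinv σ hσ
  have hSF : S = F := Finset.eq_of_subset_of_card_le hsub (by omega)
  subst hSF
  refine ⟨hSr, ?_⟩
  let G' := fixSub P pre
  have horb : MulAction.orbit G' b = ↑S := by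
    ext p
    constructor
    · rintro ⟨⟨σ, hσ⟩, rfl⟩
      exact hinv σ hσ
    · intro hp
      obtain ⟨σ, hσ, hσb⟩ := hSr p hp
      exact ⟨⟨σ, hσ⟩, hσb⟩
  have hstab : Nat.card (MulAction.stabilizer G' b) = Nat.card (fixSub P ((b : ℕ) :: pre)) :=
    Nat.card_congr
      { toFun := fun g => ⟨g.1.1, g.1.2.1, fun k hk => by
          rcases List.mem_cons.mp hk with hk | hk
          · have e : k = b := Fin.ext hk
            rw [e]; exact g.2
          · exact g.1.2.2 k hk⟩
        invFun := fun g => ⟨⟨g.1, g.2.1, fun k hk => g.2.2 k (List.mem_cons_of_mem _ hk)⟩,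
          g.2.2 _ List.mem_cons_self⟩
        left_inv := fun _ => rfl
        right_inv := fun _ => rfl }
  show Nat.card G' = _
  rw [← Subgroup.index_mul_card (MulAction.stabilizer G' b), MulAction.index_stabilizer, horb,
    Set.ncard_coe_finset, hstab]

/-- Adjacency. -/
def adjB (u v : Fin 275) : Bool := (adj.getD u 0).testBit v

theorem adjB_inv {σ : Equiv.Perm (Fin 275)} (hσ : σ ∈ P) (u v : Fin 275) : adjB (σ u) (σ v) = adjB u v :=
  (rows_invariant adj_ok σ hσ u v).symm

/-- The base point. -/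
def o : Fin 275 := 83
/-- A neighbour. -/
def o1 : Fin 275 := 96
/-- A common neighbour. -/
def o2 : Fin 275 := 184
/-- A non-neighbour. -/
def o3 : Fin 275 := 0

theorem trees : treeOK 275 T [] (1 <<< 83) (chain5.getD 0 (0, [])).2 = true ∧
    treeOK 275 T [83] (1 <<< 96) (chain5.getD 1 (0, [])).2 = true ∧
    treeOK 275 T [96, 83] (1 <<< 184) (chain5.getD 2 (0, [])).2 = true ∧
    treeOK 275 T [83] (1 <<< 0) nonTree = true ∧
    (chain5.getD 0 (0, [])).2.length = 274 ∧ (chain5.getD 1 (0, [])).2.length = 111 ∧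
    (chain5.getD 2 (0, [])).2.length = 29 ∧ nonTree.length = 161 ∧
    (adjB o o1 && adjB o o2 && adjB o1 o2 && !adjB o o3) = true := by
  decide +kernel

theorem filters : (Finset.univ.filter fun q : Fin 275 => adjB o q = true).card = 112 ∧
    (Finset.univ.filter fun q : Fin 275 => adjB o q = true ∧ adjB o1 q = true).card = 30 ∧
    (Finset.univ.filter fun q : Fin 275 => q ≠ o ∧ adjB o q = false).card = 162 := by
  decide +kernel

theorem card_fix_nil : Nat.card (fixSub P []) = 898128000 := by rw [fixSub_nil]; exact card_P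

theorem level0 : (∀ q : Fin 275, ∃ σ ∈ P, σ o = q) ∧ Nat.card (fixSub P [83]) = 3265920 := by
  obtain ⟨h1, h2⟩ := level o [] _ trees.1 Finset.univ
    (by rw [Finset.card_univ, Fintype.card_fin, trees.2.2.2.2.1]) (fun σ _ => Finset.mem_univ _)
  refine ⟨fun q => ?_, ?_⟩
  · obtain ⟨σ, hσ, e⟩ := h1 q (Finset.mem_univ _)
    exact ⟨σ, hσ.1, e⟩
  · rw [card_fix_nil, Finset.card_univ, Fintype.card_fin] at h2
    change 898128000 = 275 * Nat.card (fixSub P [83]) at h2
    omega

theorem fix_o {σ : Equiv.Perm (Fin 275)} {pre : List ℕ} (hσ : σ ∈ fixSub P pre) (h : 83 ∈ pre) : σ o = o :=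
  hσ.2 o h

theorem level1 : (∀ q : Fin 275, adjB o q = true → ∃ σ ∈ fixSub P [83], σ o1 = q) ∧
    Nat.card (fixSub P [96, 83]) = 29160 := by
  obtain ⟨h1, h2⟩ := level o1 [83] _ trees.2.1 (Finset.univ.filter fun q => adjB o q = true)
    (by rw [filters.1, trees.2.2.2.2.2.1]) (fun σ hσ => by
      have h := adjB_inv hσ.1 o o1
      rw [fix_o hσ List.mem_cons_self] at h
      have hb := trees.2.2.2.2.2.2.2.2
      simp only [Bool.and_eq_true] at hb
      exact Finset.mem_filter.2 ⟨Finset.mem_univ _, h.trans hb.1.1.1⟩)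
  refine ⟨fun q hq => h1 q (Finset.mem_filter.2 ⟨Finset.mem_univ _, hq⟩), ?_⟩
  rw [level0.2, filters.1] at h2
  change 3265920 = 112 * Nat.card (fixSub P [96, 83]) at h2
  omega

theorem level2 : (∀ q : Fin 275, adjB o q = true → adjB o1 q = true → ∃ σ ∈ fixSub P [96, 83], σ o2 = q) ∧
    Nat.card (fixSub P [184, 96, 83]) = 972 := by
  obtain ⟨h1, h2⟩ := level o2 [96, 83] _ trees.2.2.1
    (Finset.univ.filter fun q => adjB o q = true ∧ adjB o1 q = true)
    (by rw [filters.2.1, trees.2.2.2.2.2.2.1]) (fun σ hσ => by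
      have h := adjB_inv hσ.1 o o2
      rw [fix_o hσ (by simp)] at h
      have h' := adjB_inv hσ.1 o1 o2
      rw [hσ.2 o1 List.mem_cons_self] at h'
      have hb := trees.2.2.2.2.2.2.2.2
      simp only [Bool.and_eq_true] at hb
      exact Finset.mem_filter.2 ⟨Finset.mem_univ _, h.trans hb.1.1.2, h'.trans hb.1.2⟩)
  refine ⟨fun q hq hq' => h1 q (Finset.mem_filter.2 ⟨Finset.mem_univ _, hq, hq'⟩), ?_⟩
  rw [level1.2, filters.2.1] at h2
  change 29160 = 30 * Nat.card (fixSub P [184, 96, 83]) at h2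
  omega

theorem level1' : (∀ q : Fin 275, q ≠ o → adjB o q = false → ∃ σ ∈ fixSub P [83], σ o3 = q) ∧
    Nat.card (fixSub P [0, 83]) = 20160 := by
  obtain ⟨h1, h2⟩ := level o3 [83] _ trees.2.2.2.1 (Finset.univ.filter fun q => q ≠ o ∧ adjB o q = false)
    (by rw [filters.2.2, trees.2.2.2.2.2.2.2.1]) (fun σ hσ => by
      have h := adjB_inv hσ.1 o o3
      rw [fix_o hσ List.mem_cons_self] at h
      have hb := trees.2.2.2.2.2.2.2.2
      simp only [Bool.and_eq_true, Bool.not_eq_true'] at hb
      refine Finset.mem_filter.2 ⟨Finset.mem_univ _, fun e => ?_, h.trans hb.2⟩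
      exact absurd (σ.injective (e.trans (fix_o hσ List.mem_cons_self).symm)) (by decide))
  refine ⟨fun q hq hq' => h1 q (Finset.mem_filter.2 ⟨Finset.mem_univ _, hq, hq'⟩), ?_⟩
  rw [level0.2, filters.2.2] at h2
  change 3265920 = 162 * Nat.card (fixSub P [0, 83]) at h2
  omega

/-- The subgroup fixing some points. -/
def stabPts (L : List (Fin 275)) : Subgroup (Equiv.Perm (Fin 275)) := fixSub P (L.map Fin.val)

theorem mem_stabPts {L : List (Fin 275)} {σ : Equiv.Perm (Fin 275)} :
    σ ∈ stabPts L ↔ σ ∈ P ∧ ∀ k ∈ L, σ k = k := by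
  constructor
  · exact fun h => ⟨h.1, fun k hk => h.2 k (List.mem_map.2 ⟨k, hk, rfl⟩)⟩
  · refine fun h => ⟨h.1, fun k hk => ?_⟩
    obtain ⟨k', hk', e⟩ := List.mem_map.1 hk
    rw [← Fin.ext e]
    exact h.2 k' hk'

theorem card_stabPts_map {g : Equiv.Perm (Fin 275)} (hg : g ∈ P) (L : List (Fin 275)) :
    Nat.card (stabPts (L.map g)) = Nat.card (stabPts L) :=
  Nat.card_congr
    { toFun := fun s => ⟨g⁻¹ * s.1 * g, mem_stabPts.2 ⟨mul_mem (mul_mem (inv_mem hg) (mem_stabPts.1 s.2).1) hg,
        fun k hk => by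
          rw [Equiv.Perm.mul_apply, Equiv.Perm.mul_apply, (mem_stabPts.1 s.2).2 _ (List.mem_map_of_mem hk)]
          exact g.symm_apply_apply k⟩⟩
      invFun := fun s => ⟨g * s.1 * g⁻¹, mem_stabPts.2 ⟨mul_mem (mul_mem hg (mem_stabPts.1 s.2).1) (inv_mem hg),
        fun k hk => by
          obtain ⟨k', hk', rfl⟩ := List.mem_map.1 hk
          rw [Equiv.Perm.mul_apply, Equiv.Perm.mul_apply, show g⁻¹ (g k') = k' from g.symm_apply_apply k',
            (mem_stabPts.1 s.2).2 _ hk']⟩⟩
      left_inv := fun s => Subtype.ext (by show g * (g⁻¹ * s.1 * g) * g⁻¹ = s.1; group)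
      right_inv := fun s => Subtype.ext (by show g⁻¹ * (g * s.1 * g⁻¹) * g = s.1; group) }

theorem card_stab_one (a : Fin 275) : Nat.card (stabPts [a]) = 3265920 := by
  obtain ⟨g, hg, rfl⟩ := level0.1 a
  exact (card_stabPts_map hg [o]).trans level0.2

theorem card_stab_nonadj {u v : Fin 275} (huv : u ≠ v) (h : adjB u v = false) :
    Nat.card (stabPts [v, u]) = 20160 := by
  obtain ⟨g, hg, rfl⟩ := level0.1 u
  obtain ⟨v, rfl⟩ : ∃ w, g w = v := g.surjective v
  rw [adjB_inv hg] at h
  obtain ⟨σ, hσ, rfl⟩ := level1'.1 v (fun e => huv (by rw [e])) h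
  rw [show [g (σ o3), g o] = [o3, o].map (g * σ) by
      simp [fix_o hσ List.mem_cons_self], card_stabPts_map (mul_mem hg hσ.1)]
  exact level1'.2

theorem card_stab_triangle {u v w : Fin 275} (huv : adjB u v = true) (huw : adjB u w = true)
    (hvw : adjB v w = true) : Nat.card (stabPts [w, v, u]) = 972 := by
  obtain ⟨g, hg, rfl⟩ := level0.1 u
  obtain ⟨v, rfl⟩ : ∃ x, g x = v := g.surjective v
  obtain ⟨w, rfl⟩ : ∃ x, g x = w := g.surjective w
  rw [adjB_inv hg] at huv huw hvw
  obtain ⟨σ, hσ, rfl⟩ := level1.1 v huv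
  obtain ⟨w, rfl⟩ : ∃ x, σ x = w := σ.surjective w
  have hσo : σ o = o := fix_o hσ List.mem_cons_self
  rw [← hσo, adjB_inv hσ.1] at huw
  rw [adjB_inv hσ.1] at hvw
  obtain ⟨τ, hτ, rfl⟩ := level2.1 w huw hvw
  rw [show [g (σ (τ o2)), g (σ o1), g o] = [o2, o1, o].map (g * σ * τ) by
      simp [fix_o hτ (by simp), hτ.2 o1 List.mem_cons_self, hσo],
    card_stabPts_map (mul_mem (mul_mem hg hσ.1) hτ.1)]
  exact level2.2

/-- Three points fixed by a group of order 81 and by an element of order five do not exist. -/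
theorem no_three {u v w : Fin 275} (huv : u ≠ v) (huw : u ≠ w) (hvw : v ≠ w)
    (h81 : 81 ∣ Nat.card (stabPts [w, v, u])) (h5 : 5 ∣ Nat.card (stabPts [w, v, u])) : False := by
  have key : ∀ a b : Fin 275, a ≠ b → (∀ k ∈ [b, a], k ∈ [w, v, u]) → adjB a b = true := by
    intro a b hab hsub
    by_contra hn
    have hle : stabPts [w, v, u] ≤ stabPts [b, a] := fun s hs =>
      mem_stabPts.2 ⟨(mem_stabPts.1 hs).1, fun k hk => (mem_stabPts.1 hs).2 k (hsub k hk)⟩
    have := h81.trans (Subgroup.card_dvd_of_le hle)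
    rw [card_stab_nonadj hab (by simpa using hn)] at this
    omega
  rw [card_stab_triangle (key u v huv (by simp)) (key u w huw (by simp)) (key v w hvw (by simp))] at h5
  omega

/-! ### The centraliser of an element of order eleven -/

/-- Adjacency along the powers of the element. -/
def prof (a b : ℕ) : List Bool :=
  (List.range 11).map fun i => Nat.testBit (adj.getD ((walk T0 xw)^[i] a) 0) b

theorem x_ok : wordOK T0 xw = true ∧ key T0 base (List.replicate 11 xw).flatten = key T0 base [] ∧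
    key T0 base xw ≠ key T0 base [] := by
  decide +kernel

theorem prof_ok : ((List.range 275).filter fun v => prof v v == prof 0 0).length = 22 ∧
    ((List.range 275).all fun v => !(prof 0 v == prof 0 83) || Nat.beq v 83) = true ∧
    (base.all fun b => (List.range 275).all fun v =>
      !(prof 0 v == prof 0 b && prof 83 v == prof 83 b) || Nat.beq v b) = true := by
  decide +kernel

/-- The element of order eleven. -/
noncomputable def ξ : Equiv.Perm (Fin 275) := (exists_act hT0 xw x_ok.1).choose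

theorem ξ_mem : ξ ∈ P := (exists_act hT0 xw x_ok.1).choose_spec.1

theorem ξ_act : Act T0 xw ξ := (exists_act hT0 xw x_ok.1).choose_spec.2

theorem act_pow (n : ℕ) : Act T0 (List.replicate n xw).flatten (ξ ^ n) := by
  induction n with
  | zero => simpa using act_nil
  | succ n ih =>
    rw [List.replicate_succ, List.flatten_cons, pow_succ']
    exact ξ_act.mul ih

theorem orderOf_ξ : orderOf (⟨ξ, ξ_mem⟩ : P) = 11 := by
  refine orderOf_eq_prime (Subtype.ext ?_) fun e => ?_
  · exact (act_pow 11).eq_of_key baseInj act_nil (pow_mem ξ_mem 11) (one_mem _) x_ok.2.1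
  · exact ξ_act.key_ne base_lt act_nil x_ok.2.2 (congrArg Subtype.val e)

theorem iterate_ξ (i : ℕ) (a : Fin 275) : ((ξ ^ i) a : ℕ) = (walk T0 xw)^[i] a := by
  induction i with
  | zero => rfl
  | succ i ih => rw [pow_succ', Equiv.Perm.mul_apply, Function.iterate_succ_apply', ← ih]; exact ξ_act _

theorem prof_inv {c : Equiv.Perm (Fin 275)} (hc : c ∈ P) (hcom : c * ξ = ξ * c) (a b : Fin 275) :
    prof (c a) (c b) = prof a b := by
  refine List.map_congr_left fun i _ => ?_
  rw [← iterate_ξ, ← iterate_ξ]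
  have e : (ξ ^ i) (c a) = c ((ξ ^ i) a) := by
    rw [← Equiv.Perm.mul_apply, ← Equiv.Perm.mul_apply, (Commute.pow_right hcom i : c * ξ ^ i = ξ ^ i * c)]
  rw [e]
  exact adjB_inv hc _ b

/-- The elements commuting with the element of order eleven. -/
noncomputable abbrev Cx : Subgroup (Equiv.Perm (Fin 275)) := centIn P ξ

theorem card_Cx : Nat.card Cx ≤ 22 := by
  classical
  let p0 : Fin 275 := 0
  let p83 : Fin 275 := 83
  let F : Finset ℕ := ((List.range 275).filter fun v => prof v v == prof 0 0).toFinset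
  have hcom : ∀ c : Cx, (c : Equiv.Perm (Fin 275)) * ξ = ξ * (c : Equiv.Perm (Fin 275)) :=
    fun c => Subgroup.mem_centralizer_singleton_iff.mp c.2.2
  let f : Cx → F := fun c => ⟨((c : Equiv.Perm (Fin 275)) p0 : ℕ), by
    simp only [F, List.mem_toFinset, List.mem_filter, List.mem_range, beq_iff_eq]
    exact ⟨Fin.isLt _, prof_inv c.2.1 (hcom c) p0 p0⟩⟩
  have hinj : Function.Injective f := by
    intro c d hcd
    have h0 : (c : Equiv.Perm (Fin 275)) p0 = (d : Equiv.Perm (Fin 275)) p0 :=
      Fin.ext (congrArg Subtype.val hcd)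
    have hk0 : ((d⁻¹ * c : Cx) : Equiv.Perm (Fin 275)) p0 = p0 := by
      show (d : Equiv.Perm (Fin 275))⁻¹ ((c : Equiv.Perm (Fin 275)) p0) = p0
      rw [h0]; exact (d : Equiv.Perm (Fin 275)).symm_apply_apply p0
    have hk83 : ((d⁻¹ * c : Cx) : Equiv.Perm (Fin 275)) p83 = p83 := by
      have h := prof_inv (d⁻¹ * c : Cx).2.1 (hcom _) p0 p83
      rw [hk0] at h
      have h' := List.all_eq_true.1 prof_ok.2.1 _
        (List.mem_range.2 (((d⁻¹ * c : Cx) : Equiv.Perm (Fin 275)) p83).isLt)
      simp only [Bool.or_eq_true, Bool.not_eq_true', beq_eq_false_iff_ne] at h'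
      exact Fin.ext (Nat.eq_of_beq_eq_true (h'.resolve_left fun hne => hne h))
    have e : ((d⁻¹ * c : Cx) : Equiv.Perm (Fin 275)) = 1 := baseInj _ (d⁻¹ * c : Cx).2.1 fun k hk => by
      have h1 := prof_inv (d⁻¹ * c : Cx).2.1 (hcom _) p0 k
      have h2 := prof_inv (d⁻¹ * c : Cx).2.1 (hcom _) p83 k
      rw [hk0] at h1
      rw [hk83] at h2
      have h' := List.all_eq_true.1 (List.all_eq_true.1 prof_ok.2.2 _ hk) _
        (List.mem_range.2 (((d⁻¹ * c : Cx) : Equiv.Perm (Fin 275)) k).isLt)
      simp only [Bool.or_eq_true, Bool.not_eq_true', Bool.and_eq_false_iff, beq_eq_false_iff_ne] at h'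
      exact Fin.ext (Nat.eq_of_beq_eq_true (h'.resolve_left fun hne => hne.elim (fun a => a h1) fun a => a h2))
    exact (inv_mul_eq_one.1 (Subtype.ext e : d⁻¹ * c = 1)).symm
  refine (Nat.card_le_card_of_injective f hinj).trans ?_
  rw [Nat.card_eq_fintype_card, Fintype.card_coe]
  exact (List.toFinset_card_le _).trans prof_ok.1.le

theorem card_centralizer_le {x : P} (hx : orderOf x = 11) :
    Nat.card (Subgroup.centralizer ({x} : Set P)) ≤ 22 := by
  have hcardz : ∀ y : P, orderOf y = 11 → Nat.card (Subgroup.zpowers y) = 11 ^ 1 := fun y hy => by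
    rw [Nat.card_zpowers, hy, pow_one]
  have hidx : ∀ y : P, orderOf y = 11 → ¬ 11 ∣ (Subgroup.zpowers y).index := by
    intro y hy
    have := (Subgroup.zpowers y).card_mul_index
    rw [hcardz y hy, card_P] at this
    omega
  set x0 : P := ⟨ξ, ξ_mem⟩
  let Sx : Sylow 11 P := (IsPGroup.of_card (hcardz x hx)).toSylow (hidx x hx)
  let S0 : Sylow 11 P := (IsPGroup.of_card (hcardz x0 orderOf_ξ)).toSylow (hidx x0 orderOf_ξ)
  obtain ⟨g, hg⟩ := MulAction.exists_smul_eq P Sx S0
  have hmem : x0 ∈ ((g • Sx : Sylow 11 P) : Subgroup P) := by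
    rw [hg]; exact Subgroup.mem_zpowers x0
  rw [Sylow.coe_subgroup_smul, Subgroup.mem_pointwise_smul_iff_inv_smul_mem] at hmem
  obtain ⟨k, hk⟩ := Subgroup.mem_zpowers_iff.1 hmem
  have hx0 : x0 = g * x ^ k * g⁻¹ := by
    have : (MulAut.conj g)⁻¹ • x0 = g⁻¹ * x0 * g := by simp [MulAut.conj]
    rw [this] at hk
    rw [hk]; group
  refine le_trans (Nat.card_le_card_of_injective (β := Cx)
    (fun c => ⟨((g * c.1 * g⁻¹ : P) : Equiv.Perm (Fin 275)), ⟨(g * c.1 * g⁻¹).2, ?_⟩⟩) ?_) card_Cx
  · refine Subgroup.mem_centralizer_singleton_iff.2 ?_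
    refine congrArg Subtype.val (?_ : g * c.1 * g⁻¹ * x0 = x0 * (g * c.1 * g⁻¹))
    have hc : c.1 * x = x * c.1 := Subgroup.mem_centralizer_singleton_iff.mp c.2
    rw [hx0]
    have hck : c.1 * x ^ k = x ^ k * c.1 := (Commute.zpow_right hc k)
    calc g * c.1 * g⁻¹ * (g * x ^ k * g⁻¹) = g * (c.1 * x ^ k) * g⁻¹ := by group
      _ = g * (x ^ k * c.1) * g⁻¹ := by rw [hck]
      _ = _ := by group
  · intro c d h
    have h' : g * c.1 * g⁻¹ = g * d.1 * g⁻¹ := Subtype.ext (congrArg (fun z : Cx => (z : Equiv.Perm (Fin 275))) h)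
    exact Subtype.ext (mul_left_cancel (mul_right_cancel h'))

/-! ### The bound -/

theorem arith : ∀ j : Fin 316, ∀ k : Fin 6, 315 % (j : ℕ) = 0 → ((k : ℕ) = 1 ∨ (k : ℕ) = 5) →
    22275 * (j : ℕ) % (11 * (k : ℕ)) = 0 → 22275 * (j : ℕ) / (11 * (k : ℕ)) % 11 = 1 →
    ((k : ℕ) = 1 ∧ ((j : ℕ) = 1 ∨ (j : ℕ) = 45)) ∨ ((k : ℕ) = 5 ∧ (j : ℕ) = 5) := by
  decide +kernel

/-- The subgroup of order 111375 does not exist. -/
theorem no_111375 (D : Subgroup P) (hD : Nat.card D = 111375)
    (hC : ∀ x : D, orderOf x = 11 → ∀ g : D, g * x = x * g → g ∈ Subgroup.zpowers x) : False := by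
  haveI : Fact (Nat.Prime 3) := ⟨Nat.prime_three⟩
  haveI : Fact (Nat.Prime 5) := ⟨Nat.prime_five⟩
  let φ : D →* Equiv.Perm (Fin 275) := P.subtype.comp D.subtype
  have hφ : Function.Injective φ := fun a b h => Subtype.ext (Subtype.ext h)
  letI : MulAction D (Fin 275) := MulAction.compHom _ φ
  set A := MulAction.stabilizer D o
  have hAle : Nat.card A ∣ 3265920 := by
    rw [← card_stab_one o]
    let f : A →* stabPts [o] :=
      { toFun := fun a => ⟨φ a.1, mem_stabPts.2 ⟨(a.1.1).2, fun k hk => by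
          rw [List.mem_singleton.1 hk]; exact a.2⟩⟩
        map_one' := Subtype.ext (map_one φ)
        map_mul' := fun a b => Subtype.ext (map_mul φ a.1 b.1) }
    exact Subgroup.card_dvd_of_injective f fun a b h => Subtype.ext (hφ (congrArg (fun z : stabPts [o] => (z : Equiv.Perm (Fin 275))) h))
  have hA : Nat.card A = 405 := by
    have hmul := A.card_mul_index
    have horb : A.index ≤ 275 := by
      rw [MulAction.index_stabilizer]
      exact (Set.ncard_le_ncard (Set.subset_univ _)).trans (by rw [Set.ncard_univ, Nat.card_fin])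
    rw [hD] at hmul
    have hdvd : Nat.card A ∣ Nat.gcd 111375 3265920 := Nat.dvd_gcd (hmul ▸ Dvd.intro _ rfl) hAle
    rw [show Nat.gcd 111375 3265920 = 405 by decide +kernel] at hdvd
    have hle := Nat.le_of_dvd (by norm_num) hdvd
    nlinarith
  obtain ⟨R⟩ : Nonempty (Sylow 3 A) := inferInstance
  have hR : Nat.card (R : Subgroup A) = 81 := card_sylow_eq (a := 4) (m := 5) (by rw [hA]; norm_num) (by norm_num) R
  have hRn : (R : Subgroup A).Normal := by
    have h1 := R.card_dvd_index
    have h2 := card_sylow_modEq_one 3 A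
    have h3 := (R : Subgroup A).card_mul_index
    rw [hR, hA] at h3
    rw [show (R : Subgroup A).index = 5 by omega] at h1
    have : Nat.card (Sylow 3 A) = 1 := by
      rcases (Nat.dvd_prime (by norm_num : Nat.Prime 5)).1 h1 with h | h
      · exact h
      · rw [h] at h2; exact absurd h2 (by decide)
    have : Subsingleton (Sylow 3 A) := (Nat.card_eq_one_iff_unique.1 this).1
    exact R.normal_of_subsingleton
  set S : Subgroup D := (R : Subgroup A).map A.subtype with hSdef
  have hS : Nat.card S = 81 := by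
    rw [hSdef, Subgroup.card_map_of_injective A.subtype_injective, hR]
  set N := Subgroup.normalizer (S : Set D) with hN
  have hAN : A ≤ N := by
    intro a ha
    rw [hN, Subgroup.mem_normalizer_iff]
    intro s
    constructor
    · rintro ⟨r, hr, rfl⟩
      exact ⟨⟨a, ha⟩ * r * ⟨a, ha⟩⁻¹, hRn.conj_mem r hr _, rfl⟩
    · rintro ⟨r, hr, e⟩
      refine ⟨⟨a, ha⟩⁻¹ * r * ⟨a, ha⟩, ?_, ?_⟩
      · have h' := hRn.conj_mem r hr ⟨a, ha⟩⁻¹
        rwa [inv_inv] at h'
      · show a⁻¹ * (r : D) * a = s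
        rw [show (r : D) = a * s * a⁻¹ from e]; group
  have hNc : Nat.card N * N.index = 111375 := by rw [N.card_mul_index, hD]
  have hsyl : N.index % 3 = 1 := by
    let SS : Sylow 3 D := (IsPGroup.of_card (n := 4) (hS.trans (by norm_num))).toSylow (by
      have := S.card_mul_index
      rw [hS, hD] at this
      omega)
    have h := card_sylow_modEq_one 3 D
    rw [SS.card_eq_index_normalizer] at h
    exact h
  have h405 : 405 ∣ Nat.card N := hA ▸ Subgroup.card_dvd_of_le hAN
  have h11 : ¬ 11 ∣ Nat.card N := fun h => no_normalized hC S (by rw [hS]; norm_num) (by rw [hS]; norm_num) h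
  have hN' : Nat.card N = 2025 := by
    obtain ⟨t, ht⟩ := h405
    rw [ht, mul_assoc] at hNc
    have htd : t ∣ 275 := ⟨N.index, by omega⟩
    have : t ∈ Nat.divisors 275 := Nat.mem_divisors.2 ⟨htd, by norm_num⟩
    rw [show Nat.divisors 275 = {1, 5, 11, 25, 55, 275} by decide +kernel] at this
    simp only [Finset.mem_insert, Finset.mem_singleton] at this
    rcases this with rfl | rfl | rfl | rfl | rfl | rfl <;> omega
  have horbc : Nat.card (MulAction.orbit N o) = 5 := by
    have hst : Nat.card (MulAction.stabilizer N o) = 405 := by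
      rw [← hA]
      exact Nat.card_congr
        { toFun := fun a => ⟨a.1.1, a.2⟩
          invFun := fun a => ⟨⟨a.1, hAN a.2⟩, a.2⟩
          left_inv := fun _ => rfl
          right_inv := fun _ => rfl }
    have := (MulAction.stabilizer N o).card_mul_index
    rw [hst, hN', MulAction.index_stabilizer, ← Nat.card_coe_set_eq] at this
    omega
  let ψ := MulAction.toPermHom N (MulAction.orbit N o)
  have hK5 : 5 ∣ Nat.card ψ.ker := by
    have h1 := Subgroup.card_eq_card_quotient_mul_card_subgroup ψ.ker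
    rw [Nat.card_congr (QuotientGroup.quotientKerEquivRange ψ).toEquiv, hN'] at h1
    have h2 : Nat.card ψ.range ∣ Nat.gcd 120 2025 := Nat.dvd_gcd (by
      have := Subgroup.card_subgroup_dvd_card ψ.range
      rwa [Nat.card_perm, horbc] at this) (h1 ▸ Dvd.intro _ rfl)
    rw [show Nat.gcd 120 2025 = 15 by decide +kernel] at h2
    have : Nat.card ψ.range ∈ Nat.divisors 15 := Nat.mem_divisors.2 ⟨h2, by norm_num⟩
    rw [show Nat.divisors 15 = {1, 3, 5, 15} by decide +kernel] at this
    simp only [Finset.mem_insert, Finset.mem_singleton] at this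
    rcases this with h | h | h | h <;> rw [h] at h1 <;> omega
  obtain ⟨⟨y, hyK⟩, hy⟩ := exists_prime_orderOf_dvd_card' 5 hK5
  rw [Subgroup.orderOf_mk] at hy
  obtain ⟨e⟩ : Nonempty (Fin 5 ≃ MulAction.orbit N o) := ⟨((Finite.equivFinOfCardEq horbc)).symm⟩
  let pt : Fin 5 → Fin 275 := fun i => (e i).1
  have hpt : Function.Injective pt := fun i j h => e.injective (Subtype.ext h)
  have hyfix : ∀ i, φ (y : D) (pt i) = pt i := fun i => by
    have := Equiv.congr_fun (MonoidHom.mem_ker.1 hyK) (e i)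
    exact congrArg Subtype.val this
  have hSfix : ∀ s ∈ S, ∀ i, φ s (pt i) = pt i := by
    intro s hs i
    obtain ⟨g, hg⟩ := (e i).2
    obtain ⟨r, -, hr⟩ := (Subgroup.mem_normalizer_iff''.1 g.2 s).1 hs
    have ho : φ (r : D) o = o := r.2
    have hg' : φ (g : D) o = pt i := hg
    rw [show (r : D) = (g : D)⁻¹ * s * g from hr, map_mul, map_mul, map_inv, Equiv.Perm.mul_apply,
      Equiv.Perm.mul_apply, Equiv.Perm.inv_eq_iff_eq, hg'] at ho
    exact ho
  set L : List (Fin 275) := [pt 2, pt 1, pt 0] with hL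
  have hy' : φ (y : D) ∈ stabPts L := mem_stabPts.2 ⟨((y : D) : P).2, fun k hk => by
    simp only [hL, List.mem_cons, List.not_mem_nil, or_false] at hk
    rcases hk with rfl | rfl | rfl <;> exact hyfix _⟩
  refine no_three (fun h => absurd (hpt h) (by decide)) (fun h => absurd (hpt h) (by decide))
    (fun h => absurd (hpt h) (by decide)) (u := pt 0) (v := pt 1) (w := pt 2) ?_ ?_
  · rw [← hS, Nat.card_congr (S.equivMapOfInjective φ hφ).toEquiv]
    refine Subgroup.card_dvd_of_le ?_
    rintro _ ⟨s, hs, rfl⟩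
    exact mem_stabPts.2 ⟨(s : P).2, fun k hk => by
      simp only [List.mem_cons, List.not_mem_nil, or_false] at hk
      rcases hk with rfl | rfl | rfl <;> exact hSfix s hs _⟩
  · have h5 := orderOf_dvd_natCard (⟨φ (y : D), hy'⟩ : stabPts L)
    rwa [Subgroup.orderOf_mk, orderOf_injective φ hφ, Subgroup.orderOf_coe, hy] at h5

/-- **No large subgroup of odd order.** -/
theorem no_odd (D : Subgroup McLInvolution.P) (hD : Odd (Nat.card D)) : ¬ 22275 ∣ Nat.card D := by
  rintro ⟨j, hj⟩
  have hC : ∀ x : D, orderOf x = 11 → ∀ g : D, g * x = x * g → g ∈ Subgroup.zpowers x := by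
    intro x hx g hg
    have hle : Nat.card (Subgroup.centralizer ({x} : Set D)) ≤ 22 := by
      refine le_trans (Nat.card_le_card_of_injective (β := Subgroup.centralizer ({(x : P)} : Set P))
        (fun c => ⟨(c.1 : P), Subgroup.mem_centralizer_singleton_iff.2
          (congrArg Subtype.val (Subgroup.mem_centralizer_singleton_iff.1 c.2))⟩) ?_)
        (card_centralizer_le (by rwa [Subgroup.orderOf_coe]))
      intro c d h
      exact Subtype.ext (Subtype.ext (congrArg (fun z => ((z : Subgroup.centralizer ({(x : P)} : Set P)) : P)) h))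
    have hsub : Subgroup.zpowers x ≤ Subgroup.centralizer ({x} : Set D) := by
      rw [Subgroup.zpowers_le, Subgroup.mem_centralizer_singleton_iff]
    have h11 := Subgroup.card_dvd_of_le hsub
    rw [Nat.card_zpowers, hx] at h11
    have hodd : Odd (Nat.card (Subgroup.centralizer ({x} : Set D))) :=
      hD.of_dvd_nat (Subgroup.card_subgroup_dvd_card _)
    have hpos : 0 < Nat.card (Subgroup.centralizer ({x} : Set D)) := Nat.card_pos
    obtain ⟨t, ht⟩ := h11
    obtain ⟨u, hu⟩ := hodd
    have heq : Subgroup.zpowers x = Subgroup.centralizer ({x} : Set D) :=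
      Subgroup.eq_of_le_of_card_ge hsub (by rw [Nat.card_zpowers, hx]; omega)
    rw [heq, Subgroup.mem_centralizer_singleton_iff]
    exact hg
  have hdvd : Nat.card D ∣ 898128000 := card_P ▸ Subgroup.card_subgroup_dvd_card D
  rw [hj] at hdvd hD
  have hj315 : j ∣ 315 := by
    have h1 : j ∣ 128 * 315 := Nat.dvd_of_mul_dvd_mul_left (by norm_num : 0 < 22275)
      (by simpa using hdvd)
    have h2 : j.Coprime 128 := by
      rw [show 128 = 2 ^ 7 by norm_num]
      exact Nat.Coprime.pow_right 7 (Nat.coprime_two_right.2 (Nat.Odd.of_mul_right hD))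
    exact h2.dvd_of_dvd_mul_left h1
  have hjlt : j < 316 := Nat.lt_succ_of_le (Nat.le_of_dvd (by norm_num) hj315)
  obtain ⟨P11⟩ : Nonempty (Sylow 11 D) := inferInstance
  have h11c : Nat.card (P11 : Subgroup D) = 11 := by
    have := card_sylow_eq (q := 11) (a := 1) (m := 2025 * j) (by rw [hj]; ring) (by
      intro h
      have : 11 ∣ 2025 * 315 := h.trans (Nat.mul_dvd_mul_left _ hj315)
      omega) P11
    rwa [pow_one] at this
  obtain ⟨x, hxP⟩ := isCyclic_iff_exists_zpowers_eq_top.1 (isCyclic_of_prime_card h11c)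
  have hxo : orderOf (x : D) = 11 := by
    rw [Subgroup.orderOf_coe, ← Nat.card_zpowers, hxP, Nat.card_congr Subgroup.topEquiv.toEquiv, h11c]
  set N := Subgroup.normalizer ((P11 : Subgroup D) : Set D) with hN
  let ρ := Subgroup.normalizerMonoidHom (P11 : Subgroup D)
  have hker : ∀ g : N, ρ g = 1 → (g : D) ∈ (P11 : Subgroup D) := by
    intro g hg
    have h1 : g ∈ ρ.ker := hg
    rw [Subgroup.normalizerMonoidHom_ker, Subgroup.mem_subgroupOf] at h1
    have hz := hC (x : D) hxo (g : D) (Subgroup.mem_centralizer_iff.1 h1 _ x.2).symm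
    exact Subgroup.zpowers_le.2 x.2 hz
  have hmem : ∀ a : (P11 : Subgroup D), (⟨a.1, Subgroup.le_normalizer a.2⟩ : N) ∈ ρ.ker := by
    intro a
    rw [Subgroup.normalizerMonoidHom_ker, Subgroup.mem_subgroupOf, Subgroup.mem_centralizer_iff]
    intro b hb
    haveI := isCyclic_of_prime_card h11c
    exact congrArg Subtype.val (IsCyclic.commGroup.mul_comm (⟨b, hb⟩ : (P11 : Subgroup D)) a)
  have hkcard : Nat.card ρ.ker = 11 :=
    (Nat.card_congr
      { toFun := fun g => ⟨(g.1 : D), hker g.1 g.2⟩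
        invFun := fun a => ⟨⟨a.1, Subgroup.le_normalizer a.2⟩, hmem a⟩
        left_inv := fun _ => rfl
        right_inv := fun _ => rfl }).trans h11c
  have hNcard := Subgroup.card_eq_card_quotient_mul_card_subgroup ρ.ker
  rw [Nat.card_congr (QuotientGroup.quotientKerEquivRange ρ).toEquiv, hkcard] at hNcard
  have hr10 : Nat.card ρ.range ∣ 10 := by
    haveI := isCyclic_of_prime_card h11c
    have := Subgroup.card_subgroup_dvd_card ρ.range
    rwa [IsCyclic.card_mulAut, h11c, Nat.totient_prime (by norm_num)] at this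
  have hmul := N.card_mul_index
  rw [hNcard, hj] at hmul
  have hrodd : Odd (Nat.card ρ.range) := hD.of_dvd_nat (Dvd.intro (11 * N.index) (by rw [← hmul]; ring))
  have hr : Nat.card ρ.range = 1 ∨ Nat.card ρ.range = 5 := by
    have : Nat.card ρ.range ∈ Nat.divisors 10 := Nat.mem_divisors.2 ⟨hr10, by norm_num⟩
    rw [show Nat.divisors 10 = {1, 2, 5, 10} by decide +kernel] at this
    simp only [Finset.mem_insert, Finset.mem_singleton] at this
    rcases this with h | h | h | h <;> rw [h] at hrodd ⊢ <;> simp_all [Nat.odd_iff]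
  have hn1 : N.index % 11 = 1 := by
    have h := card_sylow_modEq_one 11 D
    rw [P11.card_eq_index_normalizer] at h
    exact h
  have hmul' : 11 * Nat.card ρ.range * N.index = 22275 * j := by rw [← hmul]; ring
  have hcase := arith ⟨j, hjlt⟩ ⟨Nat.card ρ.range, by omega⟩ (Nat.mod_eq_zero_of_dvd (by simpa using hj315))
    hr (by rw [← hmul']; exact Nat.mul_mod_right _ _)
    (by rw [← hmul', Nat.mul_div_cancel_left _ (by omega)]; exact hn1)
  rcases hcase with ⟨hk1, hj0⟩ | ⟨-, hj5⟩
  · have hNP : N ≤ Subgroup.centralizer ((P11 : Subgroup D) : Set D) := by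
      intro g hg
      have hbot : ρ.range = ⊥ := Subgroup.eq_bot_of_card_eq _ hk1
      have h1 : (⟨g, hg⟩ : N) ∈ ρ.ker := by
        rw [MonoidHom.mem_ker]
        have : ρ ⟨g, hg⟩ ∈ ρ.range := ⟨_, rfl⟩
        rwa [hbot, Subgroup.mem_bot] at this
      rwa [Subgroup.normalizerMonoidHom_ker, Subgroup.mem_subgroupOf] at h1
    have hidx : (MonoidHom.transferSylow P11 hNP).ker.index = 11 := by
      rw [(MonoidHom.ker_transferSylow_isComplement' P11 hNP).symm.index_eq_card, h11c]
    haveI : Fact (Nat.Prime 5) := ⟨Nat.prime_five⟩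
    set K := (MonoidHom.transferSylow P11 hNP).ker
    have hKc : Nat.card K = 2025 * j := by
      have := K.card_mul_index
      rw [hidx, hj] at this
      omega
    obtain ⟨Q⟩ : Nonempty (Sylow 5 K) := inferInstance
    refine no_normalized hC ((Q : Subgroup K).map K.subtype) ?_ ?_ (dvd_card_normalizer K (hidx ▸ dvd_rfl) Q)
    all_goals
      rw [Subgroup.card_map_of_injective K.subtype_injective]
      rcases (show j = 1 ∨ j = 45 from hj0) with rfl | rfl
    · rw [card_sylow_eq (a := 2) (m := 81) (by rw [hKc]; norm_num) (by norm_num) Q]; norm_num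
    · rw [card_sylow_eq (a := 3) (m := 729) (by rw [hKc]; norm_num) (by norm_num) Q]; norm_num
    · rw [card_sylow_eq (a := 2) (m := 81) (by rw [hKc]; norm_num) (by norm_num) Q]; norm_num
    · rw [card_sylow_eq (a := 3) (m := 729) (by rw [hKc]; norm_num) (by norm_num) Q]; norm_num
  · exact no_111375 D (by rw [hj, show j = 5 from hj5]) hC

end Cfsg.Agent.McLOddBound13
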