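import Mathlib
import Cfsg.Agent.Lib.PermImageCert

/-!
Words in coded permutations, compared on a base: equality, closed lists, and bounds on the
centraliser of an element through the points it fixes.
-/

set_option autoImplicit false

namespace Cfsg.Agent.PermWordCert

open Cfsg.Agent.PermImageCert

variable {N : ℕ} {H : Subgroup (Equiv.Perm (Fin N))} {T : List ℕ}

/-! ### stabiliser chains -/

/-- A chain bounds the stabiliser of its base from above. -/
theorem chain_mul (hT : ∀ P ∈ T, ∃ σ ∈ H, Rep σ P) : ∀ (L : List (ℕ × List ℕ)) (pre : List ℕ),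
    chainOK N T pre L = true →
      chainSize L * Nat.card (fixSub H ((L.map Prod.fst).reverse ++ pre)) ≤ Nat.card (fixSub H pre)
  | [], pre, _ => by rw [chainSize, one_mul]; rfl
  | l :: L, pre, h => by
    simp only [chainOK, Bool.and_eq_true, Nat.blt_eq] at h
    obtain ⟨⟨hb, htree⟩, hrest⟩ := h
    obtain ⟨S, hS, hSr⟩ := tree_spec hT pre ⟨l.1, hb⟩ l.2 _ htree {⟨l.1, hb⟩} (fun p => by
        rw [Nat.one_shiftLeft, Nat.testBit_two_pow, decide_eq_true_eq, Finset.mem_singleton, Fin.ext_iff]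
        exact ⟨Eq.symm, Eq.symm⟩)
      (fun p hp => ⟨1, one_mem _, by rw [Finset.mem_singleton] at hp; rw [hp]; rfl⟩)
    let G' := fixSub H pre
    have horb : S.card ≤ (MulAction.orbit G' (⟨l.1, hb⟩ : Fin N)).ncard := by
      rw [← Set.ncard_coe_finset]
      refine Set.ncard_le_ncard (fun p hp => ?_) (Set.toFinite _)
      obtain ⟨σ, hσ, hσb⟩ := hSr p hp
      exact ⟨⟨σ, hσ⟩, hσb⟩
    have hstab : Nat.card (MulAction.stabilizer G' (⟨l.1, hb⟩ : Fin N)) = Nat.card (fixSub H (l.1 :: pre)) :=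
      Nat.card_congr
        { toFun := fun g => ⟨g.1.1, g.1.2.1, fun k hk => by
            rcases List.mem_cons.mp hk with hk | hk
            · have e : k = (⟨l.1, hb⟩ : Fin N) := Fin.ext hk
              rw [e]; exact g.2
            · exact g.1.2.2 k hk⟩
          invFun := fun g => ⟨⟨g.1, g.2.1, fun k hk => g.2.2 k (List.mem_cons_of_mem _ hk)⟩,
            g.2.2 _ List.mem_cons_self⟩
          left_inv := fun _ => rfl
          right_inv := fun _ => rfl }
    have hih := chain_mul hT L (l.1 :: pre) hrest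
    have e : ((l :: L).map Prod.fst).reverse ++ pre = (L.map Prod.fst).reverse ++ l.1 :: pre := by simp
    rw [e]
    calc chainSize (l :: L) * Nat.card (fixSub H ((L.map Prod.fst).reverse ++ l.1 :: pre))
        = (l.2.length + 1) * (chainSize L * Nat.card (fixSub H ((L.map Prod.fst).reverse ++ l.1 :: pre))) := by
          rw [← mul_assoc]; rfl
      _ ≤ (MulAction.orbit G' (⟨l.1, hb⟩ : Fin N)).ncard * Nat.card (fixSub H (l.1 :: pre)) :=
        Nat.mul_le_mul (by rw [Finset.card_singleton] at hS; omega) hih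
      _ = Nat.card G' := by
        rw [← hstab, ← MulAction.index_stabilizer, Subgroup.index_mul_card]

theorem fixSub_congr {pre pre' : List ℕ} (h : ∀ x, x ∈ pre ↔ x ∈ pre') : fixSub H pre = fixSub H pre' := by
  ext σ
  exact and_congr_right fun _ => forall_congr' fun k => by rw [h]

theorem fixSub_nil : fixSub H [] = H := by
  ext σ
  exact ⟨fun h => h.1, fun h => ⟨h, fun k hk => absurd hk List.not_mem_nil⟩⟩

/-! ### words -/

/-- Image of a point under a word, last letter first. -/
def walk (T : List ℕ) (w : List ℕ) (k : ℕ) : ℕ :=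
  List.rec (motive := fun _ => ℕ) k (fun i _ r => get (T.getD i 0) r) w

/-- The letters of a word are in the table. -/
def wordOK (T : List ℕ) (w : List ℕ) : Bool := w.all fun i => Nat.blt i T.length

theorem walk_append : ∀ (a b : List ℕ) (k : ℕ), walk T (a ++ b) k = walk T a (walk T b k)
  | [], _, _ => rfl
  | i :: a, b, k => by
    show get (T.getD i 0) (walk T (a ++ b) k) = get (T.getD i 0) (walk T a (walk T b k))
    rw [walk_append a b k]

theorem wordOK_append (a b : List ℕ) : wordOK T (a ++ b) = (wordOK T a && wordOK T b) := List.all_append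

/-- A word acts as a permutation. -/
def Act (T : List ℕ) (w : List ℕ) (σ : Equiv.Perm (Fin N)) : Prop := ∀ k : Fin N, (σ k : ℕ) = walk T w k

theorem act_nil : Act T [] (1 : Equiv.Perm (Fin N)) := fun _ => rfl

theorem Act.mul {a b : List ℕ} {σ τ : Equiv.Perm (Fin N)} (ha : Act T a σ) (hb : Act T b τ) :
    Act T (a ++ b) (σ * τ) := fun k => by
  rw [walk_append, ← hb k, ← ha (τ k)]; rfl

theorem exists_act (hT : ∀ P ∈ T, ∃ σ ∈ H, Rep σ P) :
    ∀ w, wordOK T w = true → ∃ σ ∈ H, Act T w σ
  | [], _ => ⟨1, one_mem _, act_nil⟩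
  | i :: w, h => by
    simp only [wordOK, List.all_cons, Bool.and_eq_true, Nat.blt_eq] at h
    obtain ⟨τ, hτ, hτw⟩ := exists_act hT w h.2
    obtain ⟨σ, hσ, hσi⟩ := hT (T.getD i 0) (by rw [List.getD_eq_getElem _ _ h.1]; exact List.getElem_mem _)
    refine ⟨σ * τ, mul_mem hσ hτ, fun k => ?_⟩
    show (σ (τ k) : ℕ) = get (T.getD i 0) (walk T w k)
    rw [hσi (τ k), hτw k]

/-- Images of the base. -/
def key (T : List ℕ) (B : List ℕ) (w : List ℕ) : List ℕ := B.map (walk T w)

theorem key_append (B a b : List ℕ) : key T B (a ++ b) = (key T B b).map (walk T a) := by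
  rw [key, key, List.map_map]
  exact List.map_congr_left fun k _ => walk_append a b k

/-- Elements agreeing on the base are equal. -/
def BaseInj (H : Subgroup (Equiv.Perm (Fin N))) (B : List ℕ) : Prop :=
  ∀ σ ∈ H, (∀ k : Fin N, (k : ℕ) ∈ B → σ k = k) → σ = 1

theorem baseInj_of_chain (hT : ∀ P ∈ T, ∃ σ ∈ H, Rep σ P) {L : List (ℕ × List ℕ)}
    (h : chainOK N T [] L = true) (hM : Nat.card H ≤ chainSize L) {B : List ℕ}
    (hB : L.map Prod.fst = B) : BaseInj H B := by
  intro σ hσ hfix
  have h1 := chain_mul hT L [] h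
  rw [fixSub_nil, List.append_nil] at h1
  have hpos : 0 < chainSize L := lt_of_lt_of_le Nat.card_pos hM
  have h2 : Nat.card (fixSub H (L.map Prod.fst).reverse) ≤ 1 := by
    by_contra hc
    have h3 : chainSize L * 2 ≤ chainSize L * Nat.card (fixSub H (L.map Prod.fst).reverse) :=
      Nat.mul_le_mul_left _ (by omega)
    omega
  have : Subsingleton (fixSub H (L.map Prod.fst).reverse) := Finite.card_le_one_iff_subsingleton.mp h2
  have hmem : σ ∈ fixSub H (L.map Prod.fst).reverse :=
    ⟨hσ, fun k hk => hfix k (by rw [← hB]; exact List.mem_reverse.mp hk)⟩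
  exact congrArg Subtype.val (Subsingleton.elim (⟨σ, hmem⟩ : fixSub H (L.map Prod.fst).reverse) 1)

theorem Act.eq_of_key {B : List ℕ} (hinj : BaseInj H B) {a b : List ℕ} {σ τ : Equiv.Perm (Fin N)}
    (ha : Act T a σ) (hb : Act T b τ) (hσ : σ ∈ H) (hτ : τ ∈ H) (h : key T B a = key T B b) : σ = τ := by
  have e : τ⁻¹ * σ = 1 := hinj _ (mul_mem (inv_mem hτ) hσ) fun k hk => by
    rw [Equiv.Perm.mul_apply, Equiv.Perm.inv_eq_iff_eq]
    refine Fin.ext ?_
    rw [ha k, hb k]
    exact List.map_inj_left.mp h _ hk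
  exact (inv_mul_eq_one.mp e).symm

theorem Act.key_ne {B : List ℕ} (hB : ∀ x ∈ B, x < N) {a b : List ℕ} {σ τ : Equiv.Perm (Fin N)}
    (ha : Act T a σ) (hb : Act T b τ) (h : key T B a ≠ key T B b) : σ ≠ τ := fun e =>
  h (List.map_congr_left fun x hx => by
    have h1 := ha ⟨x, hB x hx⟩
    have h2 := hb ⟨x, hB x hx⟩
    rw [e, h2] at h1
    exact h1.symm)

/-! ### lists closed under left multiplication -/

/-- The word of a product of the words in `A`. -/
def expand (A : List (List ℕ)) (s : List ℕ) : List ℕ := (s.map fun i => A.getD i []).flatten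

/-- The check of a closed list. -/
def closedOK (T B : List ℕ) (A : List (List ℕ)) (S : List (List ℕ)) : Bool :=
  A.all (wordOK T) && S.all (fun s => s.all fun i => Nat.blt i A.length) &&
    A.all (fun a => A.any fun a' => key T B (a ++ a') == key T B []) &&
    decide ((S.map fun s => key T B (expand A s)).Nodup) &&
    (S.map fun s => key T B (expand A s)).elem (key T B []) &&
    A.all (fun a => (S.map fun s => key T B (expand A s)).all fun ks =>
      (S.map fun s => key T B (expand A s)).elem (ks.map (walk T a)))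

/-- The group of the listed words. -/
def wordGroup (H : Subgroup (Equiv.Perm (Fin N))) (T : List ℕ) (A : List (List ℕ)) :
    Subgroup (Equiv.Perm (Fin N)) :=
  Subgroup.closure {σ | σ ∈ H ∧ ∃ a ∈ A, Act T a σ}

theorem wordGroup_le (A : List (List ℕ)) : wordGroup H T A ≤ H := by
  rw [wordGroup, Subgroup.closure_le]; exact fun σ hσ => hσ.1

theorem exists_expand (hT : ∀ P ∈ T, ∃ σ ∈ H, Rep σ P) {A : List (List ℕ)}
    (hA : ∀ a ∈ A, wordOK T a = true) :
    ∀ s : List ℕ, (∀ i ∈ s, i < A.length) → ∃ σ ∈ wordGroup H T A, Act T (expand A s) σ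
  | [], _ => ⟨1, one_mem _, act_nil⟩
  | i :: s, h => by
    obtain ⟨τ, hτ, hτs⟩ := exists_expand hT hA s fun j hj => h j (List.mem_cons_of_mem _ hj)
    have hi : i < A.length := h i List.mem_cons_self
    have hmem : A.getD i [] ∈ A := by rw [List.getD_eq_getElem _ _ hi]; exact List.getElem_mem _
    obtain ⟨σ, hσ, hσa⟩ := exists_act hT _ (hA _ hmem)
    refine ⟨σ * τ, mul_mem (Subgroup.subset_closure ⟨hσ, _, hmem, hσa⟩) hτ, ?_⟩
    show Act T (A.getD i [] ++ expand A s) _
    exact hσa.mul hτs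

theorem wordGroup_spec (hT : ∀ P ∈ T, ∃ σ ∈ H, Rep σ P) {B : List ℕ} (hinj : BaseInj H B)
    (hB : ∀ x ∈ B, x < N) {A S : List (List ℕ)} (h : closedOK T B A S = true) :
    Nat.card (wordGroup H T A) = S.length ∧
      ∀ σ ∈ wordGroup H T A, ∃ s ∈ S, Act T (expand A s) σ := by
  simp only [closedOK, Bool.and_eq_true, List.all_eq_true, List.any_eq_true, beq_iff_eq, decide_eq_true_eq,
    List.elem_iff, Nat.blt_eq, List.mem_map, forall_exists_index, and_imp, forall_apply_eq_imp_iff₂] at h
  obtain ⟨⟨⟨⟨⟨hA, hS⟩, hinvA⟩, hnd⟩, ⟨s1, hs1, hone⟩⟩, hmul⟩ := h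
  have hle := wordGroup_le (H := H) (T := T) A
  -- left multiplication by a listed word
  have hleft : ∀ a ∈ A, ∀ τ, Act T a τ → τ ∈ H → ∀ σ ∈ H, (∃ s ∈ S, Act T (expand A s) σ) →
      ∃ s ∈ S, Act T (expand A s) (τ * σ) := by
    intro a ha τ hτ hτH σ hσH ⟨s, hs, hσs⟩
    obtain ⟨s', hs', e⟩ := hmul a ha s hs
    obtain ⟨ρ, hρ, hρs⟩ := exists_expand hT hA s' (hS s' hs')
    rw [← key_append] at e
    rw [← hρs.eq_of_key hinj (hτ.mul hσs) (hle hρ) (mul_mem hτH hσH) e]
    exact ⟨s', hs', hρs⟩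
  have hmem : ∀ σ ∈ wordGroup H T A, ∃ s ∈ S, Act T (expand A s) σ := by
    intro σ hσ
    induction hσ using Subgroup.closure_induction_left with
    | one =>
      obtain ⟨ρ, hρ, hρs⟩ := exists_expand hT hA s1 (hS s1 hs1)
      rw [← hρs.eq_of_key hinj act_nil (hle hρ) (one_mem _) hone]
      exact ⟨s1, hs1, hρs⟩
    | mul_left τ hτ σ hσ ih =>
      obtain ⟨hτH, a, ha, hτa⟩ := hτ
      exact hleft a ha τ hτa hτH σ (hle hσ) ih
    | inv_mul_cancel τ hτ σ hσ ih =>
      obtain ⟨hτH, a, ha, hτa⟩ := hτ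
      obtain ⟨a', ha', e⟩ := hinvA a ha
      obtain ⟨τ', hτ'H, hτ'a⟩ := exists_act hT a' (hA a' ha')
      have he : τ * τ' = 1 := (hτa.mul hτ'a).eq_of_key hinj act_nil (mul_mem hτH hτ'H) (one_mem _) e
      rw [inv_eq_of_mul_eq_one_right he]
      exact hleft a' ha' τ' hτ'a hτ'H σ (hle hσ) ih
  refine ⟨?_, hmem⟩
  have hex : ∀ i : Fin S.length, ∃ σ : wordGroup H T A, Act T (expand A S[i]) (σ : Equiv.Perm (Fin N)) :=
    fun i => by
      obtain ⟨σ, hσ, hσs⟩ := exists_expand hT hA S[i] (hS _ (List.getElem_mem _))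
      exact ⟨⟨σ, hσ⟩, hσs⟩
  choose f hf using hex
  have hbij : Function.Bijective f := by
    constructor
    · intro i j e
      refine Fin.ext ?_
      refine (List.Nodup.getElem_inj_iff hnd (hi := by simp) (hj := by simp)).mp ?_
      rw [List.getElem_map, List.getElem_map]
      by_contra hne
      exact (hf i).key_ne hB (hf j) hne (congrArg Subtype.val e)
    · intro σ
      obtain ⟨s, hs, hσs⟩ := hmem σ σ.2
      obtain ⟨i, hi, rfl⟩ := List.getElem_of_mem hs
      exact ⟨⟨i, hi⟩, Subtype.ext ((hf ⟨i, hi⟩).eq_of_key hinj hσs (hle (f _).2) (hle σ.2) rfl)⟩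
  rw [← Nat.card_eq_of_bijective f hbij, Nat.card_fin]

/-! ### invariant relations -/

/-- A relation given by rows of bits is kept by the coded permutation. -/
noncomputable def rowsOK (N : ℕ) (R : List ℕ) (P : ℕ) : Bool :=
  allBelow (fun i => allBelow (fun j =>
    (Nat.testBit (R.getD i 0) j) == (Nat.testBit (R.getD (get P i) 0) (get P j))) N) N

theorem rows_invariant {Ps : List ℕ} {R : List ℕ} (h : Ps.all (rowsOK N R) = true) :
    ∀ σ ∈ genGroup N Ps, ∀ i j : Fin N,
      (R.getD i 0).testBit j = (R.getD (σ i) 0).testBit (σ j) := by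
  intro σ hσ
  induction hσ using Subgroup.closure_induction with
  | mem σ hσ =>
    obtain ⟨P, hP, hr⟩ := hσ
    intro i j
    have := allBelow_spec (allBelow_spec (List.all_eq_true.mp h P hP) i i.2) j j.2
    rw [beq_iff_eq, ← hr i, ← hr j] at this
    exact this
  | one => exact fun _ _ => rfl
  | mul a b _ _ iha ihb => exact fun i j => (ihb i j).trans (iha _ _)
  | inv a _ iha =>
    intro i j
    have := iha (a⁻¹ i) (a⁻¹ j)
    have e : ∀ k, a (a⁻¹ k) = k := fun k => a.apply_symm_apply k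
    rw [e, e] at this
    exact this.symm

/-! ### centralisers through fixed points -/

/-- The permutations of the group commuting with an element. -/
def centIn (H : Subgroup (Equiv.Perm (Fin N))) (τ : Equiv.Perm (Fin N)) : Subgroup (Equiv.Perm (Fin N)) :=
  H ⊓ Subgroup.centralizer {τ}

/-- Candidates for the image of a point. -/
def ext (R Fl pre : List ℕ) (b : ℕ) : List ℕ :=
  Fl.filter fun x => !pre.elem x &&
    pre.all fun a => Nat.testBit (R.getD a 0) x == Nat.testBit (R.getD a 0) b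

/-- The product of the numbers of candidates. -/
def extProd (R Fl : List ℕ) : List ℕ → List ℕ → ℕ
  | _, [] => 1
  | pre, b :: L => (ext R Fl pre b).length * extProd R Fl (b :: pre) L

/-- The points lie among the fixed ones, without repetition. -/
def baseOK (N : ℕ) (Fl : List ℕ) : List ℕ → List ℕ → Bool
  | _, [] => true
  | pre, b :: L => Nat.blt b N && Fl.elem b && !pre.elem b && pre.all (fun a => Nat.blt a N) &&
      baseOK N Fl (b :: pre) L

theorem card_le_extProd {τ : Equiv.Perm (Fin N)} {R Fl : List ℕ}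
    (hR : ∀ σ ∈ H, ∀ i j : Fin N, (R.getD i 0).testBit j = (R.getD (σ i) 0).testBit (σ j))
    (hFl : ∀ k : Fin N, τ k = k ↔ (k : ℕ) ∈ Fl) :
    ∀ (L pre : List ℕ), baseOK N Fl pre L = true →
      Nat.card (fixSub (centIn H τ) pre) ≤
        extProd R Fl pre L * Nat.card (fixSub (centIn H τ) (L.reverse ++ pre))
  | [], pre, _ => by rw [extProd, one_mul]; rfl
  | b :: L, pre, h => by
    simp only [baseOK, Bool.and_eq_true, Nat.blt_eq, List.elem_iff, Bool.not_eq_true', List.all_eq_true] at h
    obtain ⟨⟨⟨⟨hb, hbF⟩, hbp⟩, hpre⟩, hrest⟩ := h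
    let G' := fixSub (centIn H τ) pre
    have hsub : (fun k : Fin N => (k : ℕ)) '' MulAction.orbit G' (⟨b, hb⟩ : Fin N) ⊆
        ↑(ext R Fl pre b).toFinset := by
      rintro x ⟨k, ⟨⟨σ, ⟨hσH, hσc⟩, hσf⟩, rfl⟩, rfl⟩
      simp only [ext, List.coe_toFinset, Set.mem_setOf_eq, List.mem_filter, Bool.and_eq_true,
        Bool.not_eq_true', List.all_eq_true, beq_iff_eq]
      show ((σ ⟨b, hb⟩ : Fin N) : ℕ) ∈ Fl ∧ _
      refine ⟨(hFl _).mp ?_, ?_, fun a ha => ?_⟩
      · have hc := Subgroup.mem_centralizer_singleton_iff.mp hσc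
        rw [← Equiv.Perm.mul_apply, ← hc, Equiv.Perm.mul_apply, (hFl ⟨b, hb⟩).mpr hbF]
      · rw [← Bool.not_eq_true, List.elem_iff]
        intro hmem
        have e : σ (σ ⟨b, hb⟩) = σ ⟨b, hb⟩ := hσf _ hmem
        have e' : ((σ ⟨b, hb⟩ : Fin N) : ℕ) = b := congrArg Fin.val (σ.injective e)
        exact (by simpa using hbp : b ∉ pre) (e' ▸ hmem)
      · have := hR σ hσH ⟨a, hpre a ha⟩ ⟨b, hb⟩
        rw [hσf ⟨a, hpre a ha⟩ ha] at this
        exact this.symm
    have horb : (MulAction.orbit G' (⟨b, hb⟩ : Fin N)).ncard ≤ (ext R Fl pre b).length := by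
      rw [← Set.ncard_image_of_injective _ Fin.val_injective]
      exact (Set.ncard_le_ncard hsub (Finset.finite_toSet _)).trans
        (by rw [Set.ncard_coe_finset]; exact List.toFinset_card_le _)
    have hstab : Nat.card (MulAction.stabilizer G' (⟨b, hb⟩ : Fin N)) =
        Nat.card (fixSub (centIn H τ) (b :: pre)) :=
      Nat.card_congr
        { toFun := fun g => ⟨g.1.1, g.1.2.1, fun k hk => by
            rcases List.mem_cons.mp hk with hk | hk
            · have e : k = (⟨b, hb⟩ : Fin N) := Fin.ext hk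
              rw [e]; exact g.2
            · exact g.1.2.2 k hk⟩
          invFun := fun g => ⟨⟨g.1, g.2.1, fun k hk => g.2.2 k (List.mem_cons_of_mem _ hk)⟩,
            g.2.2 _ List.mem_cons_self⟩
          left_inv := fun _ => rfl
          right_inv := fun _ => rfl }
    have e : (b :: L).reverse ++ pre = L.reverse ++ b :: pre := by simp
    rw [e, extProd]
    calc Nat.card G' = (MulAction.orbit G' (⟨b, hb⟩ : Fin N)).ncard *
          Nat.card (fixSub (centIn H τ) (b :: pre)) := by
          rw [← hstab, ← MulAction.index_stabilizer, Subgroup.index_mul_card]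
      _ ≤ (ext R Fl pre b).length *
          (extProd R Fl (b :: pre) L * Nat.card (fixSub (centIn H τ) (L.reverse ++ b :: pre))) :=
        Nat.mul_le_mul horb (card_le_extProd hR hFl L (b :: pre) hrest)
      _ = _ := by rw [mul_assoc]

end Cfsg.Agent.PermWordCert
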