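import Mathlib
import Cfsg.Prelude.Def_SporadicB
import Cfsg.Agent.Lib.LeechImage
import Cfsg.Agent.Lib.LeechCertOrders
import Cfsg.Agent.Lib.LeechCertFix3
import Cfsg.Agent.Lib.PermWordCert
import Cfsg.Agent.Lib.McLInvolutionData

/-!
The McLaughlin group has one class of involutions, with centraliser a non-split double cover of
the alternating group of degree eight.
-/

set_option autoImplicit false
set_option maxHeartbeats 1000000
set_option maxRecDepth 20000
set_option linter.style.haveILetI false

namespace Cfsg.Agent.McLInvolution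

open Cfsg Cfsg.Agent.LeechCert Cfsg.Agent.LeechImage Cfsg.Agent.PermImageCert Cfsg.Agent.PermWordCert
open Cfsg.Agent.McLInvolutionData
open scoped Pointwise

/-- The group as permutations of 275 vectors. -/
abbrev P : Subgroup (Equiv.Perm (Fin 275)) := genGroup 275 (perms.map Prod.fst)

/-- The letters of words. -/
def T0 : List ℕ := allCodes perms

/-- All coded elements. -/
def T : List ℕ := allCodes perms ++ slp.map (fun o => o.2.2)

theorem perms_ok : perms.all (invOK 275) = true := by decide +kernel

theorem slp_ok : slpOK 275 (allCodes perms) slp = true := by decide +kernel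

theorem chain_ok : chainOK 275 T [] chain = true := by decide +kernel

theorem chain5_ok : chainOK 275 T [] chain5 = true := by decide +kernel

theorem chain_size : chainSize chain = 898128000 ∧ chainSize chain5 = 449064000 ∧ chain.map Prod.fst = base ∧
    chain5.map Prod.fst = base5 := by decide +kernel

theorem hT0 : ∀ c ∈ T0, ∃ σ ∈ P, Rep σ c := inGroup_allCodes perms_ok

theorem hT : ∀ c ∈ T, ∃ σ ∈ P, Rep σ c := inGroup_slp slp _ slp_ok (inGroup_allCodes perms_ok)

theorem words_map : (words.zip (perms.map Prod.fst)).map Prod.snd = perms.map Prod.fst := by decide +kernel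

theorem vecs_ok : codesOK 275 vecs = true := by decide +kernel

theorem words_ok : (words.zip (perms.map Prod.fst)).all (imageOK Fix3.fixedCodes 275 vecs) = true := by
  decide +kernel

theorem smallF_ok : smallF Fix3.fixedCodes = true := by decide +kernel

theorem smul_zero_vec (g : Co0) : g • (0 : leechLattice) = 0 := by
  have h := LeechAut.smul_add_vec g (0 : leechLattice) 0
  rw [add_zero] at h
  exact left_eq_add.mp h

theorem stab_eq : stab3 Spor.leechV (-Spor.leechU) (0 : leechLattice) =
    MulAction.stabilizer Co0 Spor.leechV ⊓ MulAction.stabilizer Co0 Spor.leechU := by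
  ext g
  simp only [stab3, Subgroup.mem_inf, MulAction.mem_stabilizer_iff, LeechAut.smul_neg_vec, neg_inj, smul_zero_vec,
    and_true]

theorem card_stab : Nat.card ↥(stab3 Spor.leechV (-Spor.leechU) (0 : leechLattice)) = 898128000 := by
  rw [stab_eq]
  exact (Nat.card_congr (LeechCertOrders.infStabEquiv₂ Spor.leechV Spor.leechU).toEquiv).trans
    LeechCertOrders.card_McL

theorem exists_equiv : Nonempty (↥Spor.McL ≃* ↥P) := by
  have hle : 898128000 ≤ Nat.card (genGroup 275 (perms.map Prod.fst)) :=
    chain_size.1 ▸ le_card_genGroup perms_ok slp_ok chain_ok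
  obtain ⟨e⟩ := LeechImage.exists_iso (F := Fix3.fixedCodes) (a := Spor.leechV) (b := -Spor.leechU)
    (c := (0 : leechLattice)) coe_leechV coe_negU coe_zero_vec smallF_ok vecs vecs_ok
    (words.zip (perms.map Prod.fst)) words_ok (M := 898128000) (by norm_num) (by rw [words_map]; exact hle)
    card_stab
  exact ⟨(((LeechCertOrders.infStabEquiv₂ Spor.leechV Spor.leechU).symm.trans
    (MulEquiv.subgroupCongr stab_eq.symm)).trans e).trans (MulEquiv.subgroupCongr (by rw [words_map]))⟩

theorem card_P : Nat.card P = 898128000 :=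
  (Nat.card_congr exists_equiv.some.toEquiv).symm.trans LeechCertOrders.card_McL

theorem baseInj : BaseInj P base := by
  intro σ hσ hfix
  exact baseInj_of_chain hT chain_ok (by rw [card_P, chain_size.1]) chain_size.2.2.1 σ hσ hfix

theorem base_lt : ∀ x ∈ base, x < 275 := by decide +kernel

theorem tw_ok : wordOK T0 tw = true ∧ key T0 base (tw ++ tw) = key T0 base [] ∧
    key T0 base tw ≠ key T0 base [] := by decide +kernel

/-- The involution. -/
noncomputable def τ : Equiv.Perm (Fin 275) := (exists_act hT0 tw tw_ok.1).choose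

theorem τ_mem : τ ∈ P := (exists_act hT0 tw tw_ok.1).choose_spec.1

theorem τ_act : Act T0 tw τ := (exists_act hT0 tw tw_ok.1).choose_spec.2

theorem τ_sq : τ * τ = 1 :=
  (τ_act.mul τ_act).eq_of_key baseInj act_nil (mul_mem τ_mem τ_mem) (one_mem _) tw_ok.2.1

theorem τ_ne : τ ≠ 1 := τ_act.key_ne base_lt act_nil tw_ok.2.2

/-! ### one class -/

theorem syl_closed : closedOK T0 base sylGens (sylElts.map Prod.fst) = true ∧ sylElts.length = 128 := by
  decide +kernel

theorem syl_conj : sylElts.all (fun q =>
    let e := expand sylGens q.1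
    !(key T0 base (e ++ e) == key T0 base []) || key T0 base e == key T0 base [] ||
      (wordOK T0 q.2 && key T0 base (q.2 ++ e) == key T0 base (tw ++ q.2))) = true := by decide +kernel

theorem conj_τ (x : P) (hx : orderOf x = 2) : IsConj x (⟨τ, τ_mem⟩ : P) := by
  obtain ⟨hcard, hmem⟩ := wordGroup_spec hT0 baseInj base_lt syl_closed.1
  rw [List.length_map, syl_closed.2] at hcard
  set K := wordGroup P T0 sylGens
  have hle : K ≤ P := wordGroup_le _
  have hKc : Nat.card (K.subgroupOf P) = 128 :=
    (Nat.card_congr (Subgroup.subgroupOfEquivOfLe hle).toEquiv).trans hcard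
  haveI := Fact.mk Nat.prime_two
  have hKp : IsPGroup 2 (K.subgroupOf P) := IsPGroup.of_card (n := 7) (hKc.trans (by norm_num))
  have hidx : ¬ 2 ∣ (K.subgroupOf P).index := by
    have := (K.subgroupOf P).card_mul_index
    rw [hKc, card_P] at this
    omega
  have hxp : IsPGroup 2 (Subgroup.zpowers x) :=
    IsPGroup.of_card (n := 1) (by rw [Nat.card_zpowers, hx, pow_one])
  obtain ⟨Q, hQ⟩ := hxp.exists_le_sylow
  obtain ⟨g, hg⟩ := MulAction.exists_smul_eq P Q (hKp.toSylow hidx)
  set y := g * x * g⁻¹ with hy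
  have hyK : (y : Equiv.Perm (Fin 275)) ∈ K := by
    have h1 : MulAut.conj g • x ∈ (MulAut.conj g) • (Q : Subgroup P) :=
      Subgroup.smul_mem_pointwise_smul _ _ _ (hQ (Subgroup.mem_zpowers x))
    have h2 : ((g • Q : Sylow 2 P) : Subgroup P) = K.subgroupOf P := by rw [hg]; rfl
    have h3 : y ∈ K.subgroupOf P := by
      rw [← h2, Sylow.coe_subgroup_smul]
      exact h1
    exact h3
  obtain ⟨s, hs, hys⟩ := hmem _ hyK
  obtain ⟨q, hq, rfl⟩ := List.mem_map.mp hs
  have hyc : IsConj x y := isConj_iff.mpr ⟨g, rfl⟩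
  have hy2 : y * y = 1 := by
    have : x * x = 1 := by rw [← sq, ← hx, pow_orderOf_eq_one]
    rw [hy]
    calc g * x * g⁻¹ * (g * x * g⁻¹) = g * (x * x) * g⁻¹ := by group
      _ = 1 := by rw [this]; group
  have hy1 : (y : Equiv.Perm (Fin 275)) ≠ 1 := by
    intro e
    have e' : y = 1 := Subtype.ext e
    rw [e', isConj_one_left] at hyc
    rw [hyc, orderOf_one] at hx
    omega
  have hc := List.all_eq_true.mp syl_conj q hq
  simp only [Bool.or_eq_true, Bool.and_eq_true, Bool.not_eq_true', beq_eq_false_iff_ne, beq_iff_eq] at hc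
  rcases hc with (h | h) | ⟨hw, h⟩
  · exfalso
    refine (hys.mul hys).key_ne (N := 275) base_lt act_nil h ?_
    exact congrArg Subtype.val hy2
  · exact absurd (hys.eq_of_key baseInj act_nil y.2 (one_mem _) h) hy1
  · obtain ⟨ρ, hρ, hρa⟩ := exists_act hT0 q.2 hw
    have := (hρa.mul hys).eq_of_key baseInj (τ_act.mul hρa) (mul_mem hρ y.2) (mul_mem τ_mem hρ) h
    exact hyc.trans (isConj_iff.mpr ⟨⟨ρ, hρ⟩, Subtype.ext (by
      show ρ * (y : Equiv.Perm (Fin 275)) * ρ⁻¹ = τ
      rw [this, mul_inv_cancel_right])⟩)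

theorem one_class (x y : P) (hx : orderOf x = 2) (hy : orderOf y = 2) : IsConj x y :=
  (conj_τ x hx).trans (conj_τ y hy).symm

/-! ### the centraliser -/

/-- The centraliser as a subgroup of the symmetric group. -/
noncomputable abbrev Cc : Subgroup (Equiv.Perm (Fin 275)) := centIn P τ

theorem adj_ok : (perms.map Prod.fst).all (rowsOK 275 adj) = true := by decide +kernel

theorem fixed_check : allBelow (fun k => Nat.beq (walk T0 tw k) k == fixedPts.elem k) 275 = true := by
  decide +kernel

theorem bound_check : baseOK 275 fixedPts [] base5 = true ∧ extProd adj fixedPts [] base5 = 20160 := by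
  decide +kernel

theorem mem_fixedPts (k : Fin 275) : τ k = k ↔ (k : ℕ) ∈ fixedPts := by
  have h := allBelow_spec fixed_check k k.2
  rw [beq_iff_eq, ← τ_act k] at h
  rw [← List.elem_iff, ← h, Nat.beq_eq, Fin.ext_iff]

theorem card_Cc_le : Nat.card Cc ≤ 40320 := by
  have h1 := card_le_extProd (H := P) (τ := τ) (rows_invariant adj_ok) mem_fixedPts base5 [] bound_check.1
  rw [fixSub_nil, bound_check.2, List.append_nil] at h1
  have h2 := chain_mul hT chain5 [] chain5_ok
  rw [fixSub_nil, chain_size.2.1, chain_size.2.2.2, List.append_nil, card_P] at h2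
  have h3 : Nat.card (fixSub Cc base5.reverse) ≤ Nat.card (fixSub P base5.reverse) :=
    Subgroup.card_le_of_le fun σ hσ => ⟨hσ.1.1, hσ.2⟩
  change Nat.card Cc ≤ 20160 * Nat.card (fixSub Cc base5.reverse) at h1
  omega

theorem cent_ok : centPerms.all (invOK 275) = true ∧ slpOK 275 (allCodes centPerms) centSlp = true ∧
    chainOK 275 (allCodes centPerms ++ centSlp.map (fun o => o.2.2)) [] centChain = true ∧
    chainSize centChain = 40320 := by decide +kernel

theorem cent_words : centWords.length = centPerms.length ∧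
    (centWords.zip (centPerms.map Prod.fst)).all (fun q => wordOK T0 q.1 &&
      allBelow (fun k => Nat.beq (get q.2 k) (walk T0 q.1 k)) 275 &&
      key T0 base (q.1 ++ tw) == key T0 base (tw ++ q.1)) = true := by decide +kernel

theorem genGroup_le_Cc : genGroup 275 (centPerms.map Prod.fst) ≤ Cc := by
  rw [genGroup, Subgroup.closure_le]
  rintro σ ⟨c, hc, hσ⟩
  obtain ⟨i, hi, rfl⟩ := List.getElem_of_mem hc
  have hi' : i < (centWords.zip (centPerms.map Prod.fst)).length := by
    rw [List.length_zip, List.length_map, cent_words.1]; simpa using hi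
  have h := List.all_eq_true.mp cent_words.2 _ (List.getElem_mem hi')
  simp only [List.getElem_zip, Bool.and_eq_true, beq_iff_eq] at h
  obtain ⟨⟨hw, hk⟩, hcom⟩ := h
  obtain ⟨ρ, hρ, hρa⟩ := exists_act hT0 _ hw
  have e : σ = ρ := Equiv.ext fun k => Fin.ext (by
    have := allBelow_spec hk k k.2
    rw [Nat.beq_eq] at this
    rw [hσ k, hρa k, this])
  subst e
  exact ⟨hρ, Subgroup.mem_centralizer_singleton_iff.mpr
    ((hρa.mul τ_act).eq_of_key baseInj (τ_act.mul hρa) (mul_mem hρ τ_mem) (mul_mem τ_mem hρ) hcom)⟩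

theorem card_Cc : Nat.card Cc = 40320 := by
  refine le_antisymm card_Cc_le ?_
  rw [← cent_ok.2.2.2]
  exact (le_card_genGroup cent_ok.1 cent_ok.2.1 cent_ok.2.2.1).trans (Subgroup.card_le_of_le genGroup_le_Cc)

theorem τ_memCc : τ ∈ Cc := ⟨τ_mem, Subgroup.mem_centralizer_singleton_iff.mpr rfl⟩

/-- The involution inside its centraliser. -/
noncomputable def τC : Cc := ⟨τ, τ_memCc⟩

theorem orderOf_τC : orderOf τC = 2 := by
  haveI := Fact.mk Nat.prime_two
  exact orderOf_eq_prime (Subtype.ext (by rw [sq]; exact τ_sq)) fun e => τ_ne (congrArg Subtype.val e)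

theorem zpowers_le_center : Subgroup.zpowers τC ≤ Subgroup.center Cc := by
  rw [Subgroup.zpowers_le, Subgroup.mem_center_iff]
  intro g
  exact Subtype.ext (Subgroup.mem_centralizer_singleton_iff.mp g.2.2)

instance zpowers_normal : (Subgroup.zpowers τC).Normal where
  conj_mem a ha g := by
    rwa [Subgroup.mem_center_iff.mp (zpowers_le_center ha) g, mul_inv_cancel_right]

theorem fixed_list : fixedPts.length = 35 ∧ fixedPts.Nodup ∧ ∀ x ∈ fixedPts, x < 275 := by decide +kernel

/-- The fixed points, numbered. -/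
def emb (i : Fin 35) : Fin 275 :=
  ⟨fixedPts.getD i 0, by
    have := i.2
    rw [List.getD_eq_getElem _ _ (by rw [fixed_list.1]; omega)]
    exact fixed_list.2.2 _ (List.getElem_mem _)⟩

theorem emb_injective : Function.Injective emb := by
  intro i j h
  have hi : (i : ℕ) < fixedPts.length := by rw [fixed_list.1]; exact i.2
  have hj : (j : ℕ) < fixedPts.length := by rw [fixed_list.1]; exact j.2
  have h' : fixedPts.getD i 0 = fixedPts.getD j 0 := congrArg Fin.val h
  rw [List.getD_eq_getElem _ _ hi, List.getD_eq_getElem _ _ hj] at h'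
  exact Fin.ext ((List.Nodup.getElem_inj_iff fixed_list.2.1).mp h')

theorem small_ok : perms35.all (invOK 35) = true ∧ slpOK 35 (allCodes perms35) slp35 = true ∧
    chainOK 35 (allCodes perms35 ++ slp35.map (fun o => o.2.2)) [] chain35 = true ∧
    chainSize chain35 = 20160 ∧ perms35.length = centPerms.length := by decide +kernel

theorem small_le : 20160 ≤ Nat.card (genGroup 35 (perms35.map Prod.fst)) :=
  small_ok.2.2.2.1 ▸ le_card_genGroup small_ok.1 small_ok.2.1 small_ok.2.2.1

theorem restrict_ok : (centPerms.zip (perms35.map Prod.fst)).all (fun q =>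
    allBelow (fun i => Nat.beq (get q.1.1 (fixedPts.getD i 0)) (fixedPts.getD (get q.2 i) 0)) 35) = true := by
  decide +kernel

theorem iso_small : Nonempty (Cc ⧸ Subgroup.zpowers τC ≃* genGroup 35 (perms35.map Prod.fst)) := by
  refine nonempty_iso Cc.subtype emb emb_injective _ ?_ _ ?_ 20160 ?_ small_le
  · rintro σ ⟨c, hc, hσ⟩
    obtain ⟨i, hi, rfl⟩ := List.getElem_of_mem hc
    have hi2 : i < centPerms.length := by rw [← small_ok.2.2.2.2]; simpa using hi
    have hi' : i < (centPerms.zip (perms35.map Prod.fst)).length := by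
      rw [List.length_zip]; omega
    have h := List.all_eq_true.mp restrict_ok _ (List.getElem_mem hi')
    simp only [List.getElem_zip] at h
    obtain ⟨ρ, hρ, -⟩ := exists_rep (List.all_eq_true.mp cent_ok.1 _ (List.getElem_mem hi2))
    refine ⟨⟨ρ, genGroup_le_Cc (Subgroup.subset_closure
      ⟨_, List.mem_map.mpr ⟨_, List.getElem_mem hi2, rfl⟩, hρ⟩)⟩, fun k => Fin.ext ?_⟩
    have h' := allBelow_spec h k k.2
    rw [Nat.beq_eq, ← hσ k] at h'
    show (ρ (emb k) : ℕ) = fixedPts.getD (σ k) 0
    rw [hρ (emb k)]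
    exact h'
  · intro z hz k
    obtain ⟨n, rfl⟩ := Subgroup.mem_zpowers_iff.mp hz
    have hk : emb k ∈ {x | τ x = x} := by
      rw [Set.mem_ofPred_eq, mem_fixedPts]
      show fixedPts.getD k 0 ∈ fixedPts
      rw [List.getD_eq_getElem _ _ (by rw [fixed_list.1]; exact k.2)]
      exact List.getElem_mem _
    show ((τC ^ n : Cc) : Equiv.Perm (Fin 275)) (emb k) = emb k
    rw [Subgroup.coe_zpow]
    exact Equiv.Perm.zpow_apply_eq_self_of_apply_eq_self hk n
  · rw [card_Cc, Nat.card_zpowers, orderOf_τC]

/-! ### the alternating group on eight letters -/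

/-- Division of the letters into two halves. -/
def halves (k : Fin 35) : Finset (Finset (Fin 8)) :=
  {(sets.getD k []).toFinset, (sets.getD k []).toFinsetᶜ}

/-- first generator -/
def g0 : Equiv.Perm (Fin 8) := ⟨![1, 7, 0, 4, 5, 3, 2, 6], ![2, 0, 6, 5, 3, 4, 7, 1], by decide, by decide⟩

/-- second generator -/
def g1 : Equiv.Perm (Fin 8) := ⟨![2, 0, 6, 5, 3, 4, 7, 1], ![1, 7, 0, 4, 5, 3, 2, 6], by decide, by decide⟩

/-- third generator -/
def g2 : Equiv.Perm (Fin 8) := ⟨![5, 7, 4, 6, 3, 2, 0, 1], ![6, 7, 5, 4, 2, 0, 3, 1], by decide, by decide⟩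

theorem sign_gens : ∀ g ∈ [g0, g1, g2], Equiv.Perm.sign g = 1 := by
  let a : Equiv.Perm (Fin 8) := ⟨![6, 2, 7, 5, 3, 4, 1, 0], ![7, 6, 1, 4, 5, 3, 0, 2], by decide, by decide⟩
  let b : Equiv.Perm (Fin 8) := ⟨![4, 3, 2, 1, 0, 7, 5, 6], ![4, 3, 2, 1, 0, 6, 7, 5], by decide, by decide⟩
  let c : Equiv.Perm (Fin 8) := ⟨![5, 4, 1, 0, 6, 7, 3, 2], ![3, 2, 7, 6, 1, 0, 4, 5], by decide, by decide⟩
  have h0 : g0 = a * a := Equiv.ext (by decide +kernel)
  have h1 : g1 = a⁻¹ * a⁻¹ := Equiv.ext (by decide +kernel)
  have h2 : g2 = b * b * (c * c) := Equiv.ext (by decide +kernel)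
  intro g hg
  simp only [List.mem_cons, List.not_mem_nil, or_false] at hg
  rcases hg with rfl | rfl | rfl
  · rw [h0, map_mul, Int.units_mul_self]
  · rw [h1, map_mul, Int.units_mul_self]
  · rw [h2, map_mul, map_mul, map_mul, Int.units_mul_self, Int.units_mul_self, one_mul]

theorem halves_act : ∀ j : Fin 3, ∀ k : Fin 35, ∃ k' : Fin 35,
    (k' : ℕ) = get ((perms35.map Prod.fst).getD j 0) k ∧ [g0, g1, g2].getD j 1 • halves k = halves k' := by
  decide +kernel

theorem halves_injective : Function.Injective halves := by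
  unfold Function.Injective
  decide +kernel

theorem iso_alt : Nonempty (alternatingGroup (Fin 8) ≃* genGroup 35 (perms35.map Prod.fst)) := by
  obtain ⟨e⟩ := nonempty_iso ((MulAction.toPermHom (Equiv.Perm (Fin 8)) (Finset (Finset (Fin 8)))).comp
    (alternatingGroup (Fin 8)).subtype) halves halves_injective (perms35.map Prod.fst) (by
      rintro σ ⟨c, hc, hσ⟩
      obtain ⟨i, hi, rfl⟩ := List.getElem_of_mem hc
      have hi3 : i < 3 := by
        have : (perms35.map Prod.fst).length = 3 := by decide +kernel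
        omega
      have hmem : [g0, g1, g2].getD i 1 ∈ [g0, g1, g2] := by
        rw [List.getD_eq_getElem _ _ (by exact hi3)]; exact List.getElem_mem _
      refine ⟨⟨_, Equiv.Perm.mem_alternatingGroup.mpr (sign_gens _ hmem)⟩, fun k => ?_⟩
      obtain ⟨k', hk', hk''⟩ := halves_act ⟨i, hi3⟩ k
      show [g0, g1, g2].getD i 1 • halves k = halves (σ k)
      rw [hk'']
      refine congrArg halves (Fin.ext ?_)
      rw [hk', hσ k]
      exact congrArg (fun c => get c k) (List.getD_eq_getElem _ _ hi))
    ⊥ (fun z hz k => by rw [Subgroup.mem_bot.mp hz, map_one]; rfl) 20160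
    (by rw [nat_card_alternatingGroup, Subgroup.card_bot, Nat.card_fin]; rfl) small_le
  exact ⟨QuotientGroup.quotientBot.symm.trans e⟩

theorem center_alt : Subgroup.center (alternatingGroup (Fin 8)) = ⊥ :=
  alternatingGroup.center_eq_bot (by simp)

theorem center_Cc : Subgroup.center Cc = Subgroup.zpowers τC := by
  refine le_antisymm (fun x hx => ?_) zpowers_le_center
  obtain ⟨e⟩ := iso_small
  obtain ⟨e'⟩ := iso_alt
  let f := (e.trans e'.symm).toMonoidHom.comp (QuotientGroup.mk' (Subgroup.zpowers τC))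
  have hf : Function.Surjective f := (e.trans e'.symm).surjective.comp (QuotientGroup.mk'_surjective _)
  have hfx : f x ∈ Subgroup.center (alternatingGroup (Fin 8)) := by
    rw [Subgroup.mem_center_iff]
    intro a
    obtain ⟨y, rfl⟩ := hf a
    rw [← map_mul, ← map_mul, Subgroup.mem_center_iff.mp hx y]
  rw [center_alt, Subgroup.mem_bot] at hfx
  have : (QuotientGroup.mk' (Subgroup.zpowers τC)) x = 1 :=
    (e.trans e'.symm).injective (hfx.trans (map_one _).symm)
  exact (QuotientGroup.eq_one_iff x).mp this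

theorem root_ok : wordOK T0 rootWord = true ∧
    key T0 base (rootWord ++ rootWord) = key T0 base tw := by decide +kernel

theorem exists_root : ∃ g : Cc, g * g = τC := by
  obtain ⟨σ, hσ, hσa⟩ := exists_act hT0 rootWord root_ok.1
  have h2 : σ * σ = τ := (hσa.mul hσa).eq_of_key baseInj τ_act (mul_mem hσ hσ) τ_mem root_ok.2
  exact ⟨⟨σ, hσ, Subgroup.mem_centralizer_singleton_iff.mpr (by rw [← h2, mul_assoc])⟩, Subtype.ext h2⟩

/-- The centraliser inside the group is the one inside the symmetric group. -/
noncomputable def centEquiv : ↥(Subgroup.centralizer ({⟨τ, τ_mem⟩} : Set P)) ≃* Cc where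
  toFun g := ⟨g.1.1, g.1.2, Subgroup.mem_centralizer_singleton_iff.mpr
    (congrArg Subtype.val (Subgroup.mem_centralizer_singleton_iff.mp g.2))⟩
  invFun g := ⟨⟨g.1, g.2.1⟩, Subgroup.mem_centralizer_singleton_iff.mpr
    (Subtype.ext (Subgroup.mem_centralizer_singleton_iff.mp g.2.2))⟩
  left_inv _ := rfl
  right_inv _ := rfl
  map_mul' _ _ := rfl

/-- A group with centre of order two, quotient `K`, and a square root of the central involution. -/
theorem nonsplit_of_root {C K : Type*} [Group C] [Group K] (f : C ≃* Cc)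
    (e : alternatingGroup (Fin 8) ≃* K) : IsNonsplitDoubleCover C K := by
  have hmap : (Subgroup.center C).map (f : C →* Cc) = Subgroup.center Cc := by
    ext x
    simp only [Subgroup.mem_map, Subgroup.mem_center_iff, MonoidHom.coe_coe]
    constructor
    · rintro ⟨c, hc, rfl⟩ g
      obtain ⟨d, rfl⟩ := f.surjective g
      rw [← map_mul, ← map_mul, hc d]
    · intro h
      exact ⟨f.symm x, fun g => f.injective (by simp [h (f g)]), by simp⟩
  have hcard : Nat.card (Subgroup.center C) = 2 := by
    rw [← Subgroup.card_map_of_injective (f := (f : C →* Cc)) f.injective, hmap, center_Cc,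
      Nat.card_zpowers, orderOf_τC]
  refine ⟨hcard, ?_, fun L hL => ?_⟩
  · obtain ⟨e₁⟩ := iso_small
    obtain ⟨e₂⟩ := iso_alt
    exact ⟨((QuotientGroup.congr _ _ f hmap).trans (QuotientGroup.quotientMulEquivOfEq center_Cc)).trans
      ((e₁.trans e₂.symm).trans e)⟩
  · obtain ⟨g, hg⟩ := exists_root
    have hc : f.symm τC ∈ Subgroup.center C := by
      rw [Subgroup.mem_center_iff]
      intro a
      refine f.injective ?_
      simp [Subgroup.mem_center_iff.mp (zpowers_le_center (Subgroup.mem_zpowers τC)) (f a)]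
    obtain ⟨⟨z, l⟩, hzl⟩ := hL.2 (f.symm g)
    simp only at hzl
    have hz2 : (z : C) * z = 1 := by
      have := pow_card_eq_one' (G := ↥(Subgroup.center C)) (x := ⟨(z : C), z.2⟩)
      rw [hcard, sq] at this
      exact congrArg Subtype.val this
    have hsq : f.symm τC = (l : C) * l := by
      rw [← hg, map_mul, ← hzl]
      calc (z : C) * l * ((z : C) * l) = z * ((l : C) * z) * l := by group
        _ = z * (z * l) * l := by rw [Subgroup.mem_center_iff.mp z.2 (l : C)]
        _ = (l : C) * l := by rw [← mul_assoc (z : C) z l, hz2, one_mul]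
    have hd : f.symm τC ∈ (⊥ : Subgroup C) := by
      rw [← disjoint_iff.mp hL.disjoint]
      exact ⟨hc, hsq ▸ mul_mem l.2 l.2⟩
    rw [Subgroup.mem_bot] at hd
    apply τ_ne
    have hd' := congrArg f hd
    rw [MulEquiv.apply_symm_apply, map_one] at hd'
    exact congrArg Subtype.val hd'

/-- The statement. -/
theorem involutions : (∀ x y : ↥Spor.McL, orderOf x = 2 → orderOf y = 2 → IsConj x y) ∧
    ∃ t : ↥Spor.McL, orderOf t = 2 ∧ IsNonsplitDoubleCover
      ↥(Subgroup.centralizer ({t} : Set ↥Spor.McL)) ↥(alternatingGroup (Fin 8)) := by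
  obtain ⟨e⟩ := exists_equiv
  refine ⟨fun x y hx hy => ?_, e.symm ⟨τ, τ_mem⟩, ?_, ?_⟩
  · obtain ⟨c, hc⟩ := isConj_iff.mp (one_class (e x) (e y) ((e.orderOf_eq x).trans hx) ((e.orderOf_eq y).trans hy))
    exact isConj_iff.mpr ⟨e.symm c, e.injective (by simpa using hc)⟩
  · rw [MulEquiv.orderOf_eq]
    haveI := Fact.mk Nat.prime_two
    exact orderOf_eq_prime (Subtype.ext (by rw [sq]; exact τ_sq)) fun h => τ_ne (congrArg Subtype.val h)
  · refine nonsplit_of_root (MulEquiv.trans ?_ centEquiv) (MulEquiv.refl _)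
    exact
      { toFun := fun g => ⟨e g.1, Subgroup.mem_centralizer_singleton_iff.mpr (by
          have := congrArg e (Subgroup.mem_centralizer_singleton_iff.mp g.2)
          simpa using this)⟩
        invFun := fun g => ⟨e.symm g.1, Subgroup.mem_centralizer_singleton_iff.mpr (by
          rw [← map_mul, ← map_mul, Subgroup.mem_centralizer_singleton_iff.mp g.2])⟩
        left_inv := fun g => Subtype.ext (e.symm_apply_apply _)
        right_inv := fun g => Subtype.ext (e.apply_symm_apply _)
        map_mul' := fun a b => Subtype.ext (map_mul e _ _) }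

end Cfsg.Agent.McLInvolution
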