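import Mathlib
import Cfsg.Agent.Lib.McLInvolution
import Cfsg.Agent.Lib.McLRecogData21
import Cfsg.Agent.Lib.CosetCertCore

/-!
Eight involutions of the McLaughlin group model, seven of them in the centraliser of an involution,
with words evaluated on a base.
-/

set_option autoImplicit false
set_option maxHeartbeats 1000000
set_option maxRecDepth 100000

namespace Cfsg.Agent.McLRecogModel21

open Cfsg Cfsg.Agent.PermImageCert Cfsg.Agent.PermWordCert Cfsg.Agent.McLRecogData21
open Cfsg.Agent.McLInvolution (P T0 hT0 baseInj base_lt Cc τ τC τ_act τ_mem)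
open Cfsg.Agent.McLInvolutionData (base tw)
open Cfsg.Agent.CosetCertCore (val val_nil val_cons)

theorem gens_ok : gens.length = 8 ∧ (gwords.zip gens).length = 8 ∧ (gwords.zip gens).all (fun q =>
    wordOK T0 q.1 && allBelow (fun k => Nat.beq (get q.2 k) (walk T0 q.1 k)) 275 &&
      key T0 base (q.1 ++ q.1) == key T0 base []) = true ∧
    ((gwords.zip gens).take 7).all (fun q => key T0 base (q.1 ++ tw) == key T0 base (tw ++ q.1)) = true := by
  decide +kernel

theorem exists_gen (x : ℕ) : ∃ σ ∈ P, σ * σ = 1 ∧ (x < 8 → ∀ k : Fin 275, (σ k : ℕ) = get (gens.getD x 0) k) ∧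
    (x < 7 → σ ∈ Cc) ∧ (8 ≤ x → σ = 1) := by
  by_cases hx : x < 8
  · obtain ⟨hl, hz, hall, hcom⟩ := gens_ok
    have hi : x < (gwords.zip gens).length := by omega
    have h := List.all_eq_true.mp hall _ (List.getElem_mem hi)
    simp only [List.getElem_zip, Bool.and_eq_true, beq_iff_eq] at h
    obtain ⟨⟨hw, hk⟩, hsq⟩ := h
    obtain ⟨σ, hσ, hσa⟩ := exists_act hT0 _ hw
    refine ⟨σ, hσ, (hσa.mul hσa).eq_of_key baseInj act_nil (mul_mem hσ hσ) (one_mem _) hsq,
      fun _ k => ?_, fun h7 => ⟨hσ, Subgroup.mem_centralizer_singleton_iff.mpr ?_⟩, fun h8 => by omega⟩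
    · have := allBelow_spec hk k k.2
      rw [Nat.beq_eq] at this
      rw [hσa k, List.getD_eq_getElem _ _ (by omega), this]
    · have hi7 : x < ((gwords.zip gens).take 7).length := by rw [List.length_take]; omega
      have h := List.all_eq_true.mp hcom _ (List.getElem_mem hi7)
      simp only [List.getElem_take, List.getElem_zip, beq_iff_eq] at h
      exact (hσa.mul τ_act).eq_of_key baseInj (τ_act.mul hσa) (mul_mem hσ τ_mem) (mul_mem τ_mem hσ) h
  · exact ⟨1, one_mem _, one_mul 1, fun h => absurd h hx, fun h => by omega, fun _ => rfl⟩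

/-- The involutions. -/
noncomputable def u (x : ℕ) : Equiv.Perm (Fin 275) := (exists_gen x).choose

theorem u_mem (x : ℕ) : u x ∈ P := (exists_gen x).choose_spec.1

theorem u_sq (x : ℕ) : u x * u x = 1 := (exists_gen x).choose_spec.2.1

theorem u_apply {x : ℕ} (hx : x < 8) (k : Fin 275) : (u x k : ℕ) = get (gens.getD x 0) k :=
  (exists_gen x).choose_spec.2.2.1 hx k

theorem u_memCc {x : ℕ} (hx : x < 7) : u x ∈ Cc := (exists_gen x).choose_spec.2.2.2.1 hx

/-- The involutions inside the group. -/
noncomputable def uP (x : ℕ) : P := ⟨u x, u_mem x⟩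

theorem uP_sq (x : ℕ) : uP x * uP x = 1 := Subtype.ext (u_sq x)

open scoped Classical in
/-- The first seven inside the centraliser. -/
noncomputable def uc (x : ℕ) : Cc := if h : x < 7 then ⟨u x, u_memCc h⟩ else 1

theorem uc_coe {x : ℕ} (hx : x < 7) : (uc x : Equiv.Perm (Fin 275)) = u x := by
  rw [uc, dif_pos hx]

theorem uc_sq (x : ℕ) : uc x * uc x = 1 := by
  unfold uc
  split
  · exact Subtype.ext (u_sq x)
  · exact one_mul 1

/-- All letters are below a bound. -/
def bnd (n : ℕ) (w : List ℕ) : Bool := w.all fun i => Nat.blt i n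

theorem bnd_iff {n : ℕ} {w : List ℕ} : bnd n w = true ↔ ∀ x ∈ w, x < n := by
  simp [bnd, Nat.blt_eq]

theorem val_append {G : Type*} [Group G] (g : ℕ → G) (a b : List ℕ) :
    val g (a ++ b) = val g a * val g b := by
  simp [val]

theorem val_map {G H : Type*} [Group G] [Group H] (f : G →* H) (g : ℕ → G) (w : List ℕ) :
    f (val g w) = val (fun i => f (g i)) w := by
  induction w with
  | nil => simp [val_nil]
  | cons x w ih => rw [val_cons, val_cons, map_mul, ih]

theorem val_congr {G : Type*} [Group G] {g g' : ℕ → G} (w : List ℕ) (h : ∀ x ∈ w, g x = g' x) :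
    val g w = val g' w := by
  unfold val
  rw [List.map_congr_left h]

theorem val_reverse {G : Type*} [Group G] {g : ℕ → G} (hg : ∀ x, g x * g x = 1) (w : List ℕ) :
    val g w.reverse = (val g w)⁻¹ := by
  induction w with
  | nil => simp [val_nil]
  | cons x w ih =>
    rw [List.reverse_cons, val_append, ih, val_cons, val_cons, val_nil, mul_inv_rev,
      inv_eq_of_mul_eq_one_right (hg x), mul_one]

/-- Images of the base under a word. -/
def key8 (w : List ℕ) : List ℕ := key gens base w

theorem act_val : ∀ w : List ℕ, (∀ x ∈ w, x < 8) → Act gens w (val u w)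
  | [], _ => act_nil
  | x :: w, h => by
    intro k
    rw [val_cons, Equiv.Perm.mul_apply, u_apply (h x List.mem_cons_self),
      act_val w (fun y hy => h y (List.mem_cons_of_mem _ hy)) k]
    rfl

theorem val_u_mem (w : List ℕ) : val u w ∈ P :=
  list_prod_mem fun σ hσ => by
    obtain ⟨x, -, rfl⟩ := List.mem_map.mp hσ
    exact u_mem x

/-- Two words have the same value. -/
def eqv (a b : List ℕ) : Bool := bnd 8 a && bnd 8 b && key8 a == key8 b

theorem val_u_eq {a b : List ℕ} (h : eqv a b = true) : val u a = val u b := by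
  simp only [eqv, Bool.and_eq_true, bnd_iff, beq_iff_eq] at h
  exact (act_val a h.1.1).eq_of_key baseInj (act_val b h.1.2) (val_u_mem a) (val_u_mem b) h.2

theorem val_u_ne {a b : List ℕ} (ha : ∀ x ∈ a, x < 8) (hb : ∀ x ∈ b, x < 8) (h : key8 a ≠ key8 b) :
    val u a ≠ val u b :=
  (act_val a ha).key_ne base_lt (act_val b hb) h

theorem val_uP (w : List ℕ) : ((val uP w : P) : Equiv.Perm (Fin 275)) = val u w :=
  val_map P.subtype uP w

theorem val_uP_eq {a b : List ℕ} (h : eqv a b = true) : val uP a = val uP b :=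
  Subtype.ext (by rw [val_uP, val_uP, val_u_eq h])

theorem val_uc {w : List ℕ} (hw : ∀ x ∈ w, x < 7) : ((val uc w : Cc) : Equiv.Perm (Fin 275)) = val u w :=
  (val_map Cc.subtype uc w).trans (val_congr w fun x hx => uc_coe (hw x hx))

/-- Two words in the first seven have the same value. -/
def eqc (a b : List ℕ) : Bool := bnd 7 a && bnd 7 b && key8 a == key8 b

theorem val_uc_eq {a b : List ℕ} (h : eqc a b = true) : val uc a = val uc b := by
  simp only [eqc, Bool.and_eq_true, bnd_iff, beq_iff_eq] at h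
  refine Subtype.ext ?_
  rw [val_uc h.1.1, val_uc h.1.2]
  exact val_u_eq (by
    simp only [eqv, Bool.and_eq_true, bnd_iff, beq_iff_eq]
    exact ⟨⟨fun x hx => (h.1.1 x hx).trans (by norm_num), fun x hx => (h.1.2 x hx).trans (by norm_num)⟩, h.2⟩)

theorem val_uc_ne {a b : List ℕ} (ha : ∀ x ∈ a, x < 7) (hb : ∀ x ∈ b, x < 7) (h : key8 a ≠ key8 b) :
    val uc a ≠ val uc b := fun e =>
  val_u_ne (fun x hx => (ha x hx).trans (by norm_num)) (fun x hx => (hb x hx).trans (by norm_num)) h
    (by rw [← val_uc ha, ← val_uc hb, e])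

theorem tau_ok : wordOK T0 tw = true ∧ bnd 7 tauW = true ∧
    key T0 base tw == key8 tauW := by decide +kernel

theorem val_tau : val uc tauW = τC := by
  refine Subtype.ext ?_
  show _ = τ
  have h7 := bnd_iff.mp tau_ok.2.1
  rw [val_uc h7]
  have ha := act_val tauW (fun x hx => (h7 x hx).trans (by norm_num))
  have e : (val u tauW)⁻¹ * τ = 1 := baseInj _ (mul_mem (inv_mem (val_u_mem _)) τ_mem) fun k hk => by
    rw [Equiv.Perm.mul_apply, Equiv.Perm.inv_eq_iff_eq]
    refine Fin.ext ?_
    rw [τ_act k, ha k]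
    exact List.map_inj_left.mp (beq_iff_eq.mp tau_ok.2.2) _ hk
  exact inv_mul_eq_one.mp e

end Cfsg.Agent.McLRecogModel21
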