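import Mathlib
import Cfsg.Agent.Lib.CosetCertCore

/-!
Elementary abelian subgroups of order sixteen with numbered elements, and actions on them by tables.
-/

set_option autoImplicit false

namespace Cfsg.Agent.McLRecogVec21

open Cfsg.Agent.CosetCertCore (val val_nil val_cons)

/-- Image of a vector. -/
def ap (A : List ℕ) (v : ℕ) : ℕ := A.getD v 0

/-- The identity table. -/
def id16 : List ℕ := List.range 16

/-- Composition of tables. -/
def mm (A B : List ℕ) : List ℕ := (List.range 16).map fun v => ap A (ap B v)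

/-- The linear table with given images of the basis. -/
def ofImg (a b c d : ℕ) : List ℕ := (List.range 16).map fun v =>
  (if v.testBit 0 then a else 0) ^^^ (if v.testBit 1 then b else 0) ^^^
    (if v.testBit 2 then c else 0) ^^^ (if v.testBit 3 then d else 0)

/-- A table of sixteen vectors. -/
def tabOK (A : List ℕ) : Bool := A.length == 16 && A.all fun x => Nat.blt x 16

theorem xor_lt {v w : ℕ} (hv : v < 16) (hw : w < 16) : v ^^^ w < 16 :=
  Nat.xor_lt_two_pow (n := 4) hv hw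

theorem ap_id {v : ℕ} (hv : v < 16) : ap id16 v = v := by
  simp [ap, id16, List.getD_eq_getElem?_getD, hv]

theorem ap_mm {A B : List ℕ} {v : ℕ} (hv : v < 16) : ap (mm A B) v = ap A (ap B v) := by
  simp [ap, mm, List.getD_eq_getElem?_getD, hv]

theorem mm_length (A B : List ℕ) : (mm A B).length = 16 := by simp [mm]

theorem tab_ext {A B : List ℕ} (hA : A.length = 16) (hB : B.length = 16)
    (h : ∀ v < 16, ap A v = ap B v) : A = B := by
  refine List.ext_getElem (hA.trans hB.symm) fun i h1 h2 => ?_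
  have := h i (by omega)
  rwa [ap, ap, List.getD_eq_getElem _ _ h1, List.getD_eq_getElem _ _ h2] at this

/-- Sixteen numbered elements forming a subgroup. -/
structure Vec {G : Type*} [Group G] (xg : ℕ → G) : Prop where
  mul : ∀ v < 16, ∀ w < 16, xg v * xg w = xg (v ^^^ w)
  inj : ∀ v < 16, ∀ w < 16, xg v = xg w → v = w

/-- The action of an element is given by a table. -/
def Acts {G : Type*} [Group G] (xg : ℕ → G) (g : G) (A : List ℕ) : Prop :=
  A.length = 16 ∧ ∀ v < 16, ap A v < 16 ∧ g * xg v = xg (ap A v) * g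

variable {G : Type*} [Group G] {xg : ℕ → G}

theorem Vec.zero (hX : Vec xg) : xg 0 = 1 := by
  have := hX.mul 0 (by norm_num) 0 (by norm_num)
  simpa using this

theorem Vec.sq (hX : Vec xg) {v : ℕ} (hv : v < 16) : xg v * xg v = 1 := by
  rw [hX.mul v hv v hv, Nat.xor_self, hX.zero]

theorem Vec.inv (hX : Vec xg) {v : ℕ} (hv : v < 16) : (xg v)⁻¹ = xg v :=
  inv_eq_of_mul_eq_one_right (hX.sq hv)

theorem Vec.comm (hX : Vec xg) {v w : ℕ} (hv : v < 16) (hw : w < 16) : xg v * xg w = xg w * xg v := by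
  rw [hX.mul v hv w hw, hX.mul w hw v hv, Nat.xor_comm]

theorem Acts.id (hX : Vec xg) : Acts xg (1 : G) id16 :=
  ⟨List.length_range, fun v hv => by rw [ap_id hv]; exact ⟨hv, by rw [one_mul, mul_one]⟩⟩

theorem Acts.mul {g h : G} {A B : List ℕ} (ha : Acts xg g A) (hb : Acts xg h B) :
    Acts xg (g * h) (mm A B) := by
  refine ⟨mm_length A B, fun v hv => ?_⟩
  obtain ⟨h1, h2⟩ := hb.2 v hv
  obtain ⟨h3, h4⟩ := ha.2 _ h1
  rw [ap_mm hv]
  exact ⟨h3, by rw [mul_assoc, h2, ← mul_assoc, h4, mul_assoc]⟩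

theorem Acts.unique (hX : Vec xg) {g : G} {A B : List ℕ} (ha : Acts xg g A) (hb : Acts xg g B) : A = B :=
  tab_ext ha.1 hb.1 fun v hv => hX.inj _ (ha.2 v hv).1 _ (hb.2 v hv).1
    (mul_right_cancel ((ha.2 v hv).2.symm.trans (hb.2 v hv).2))

theorem Acts.injective (hX : Vec xg) {g : G} {A : List ℕ} (ha : Acts xg g A) {v w : ℕ}
    (hv : v < 16) (hw : w < 16) (h : ap A v = ap A w) : v = w :=
  hX.inj v hv w hw (mul_left_cancel (show g * xg v = g * xg w by rw [(ha.2 v hv).2, (ha.2 w hw).2, h]))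

theorem Acts.xor (hX : Vec xg) {g : G} {A : List ℕ} (ha : Acts xg g A) {v w : ℕ}
    (hv : v < 16) (hw : w < 16) : ap A (v ^^^ w) = ap A v ^^^ ap A w := by
  refine hX.inj _ (ha.2 _ (xor_lt hv hw)).1 _ (xor_lt (ha.2 v hv).1 (ha.2 w hw).1) (mul_right_cancel (b := g) ?_)
  rw [← (ha.2 _ (xor_lt hv hw)).2, ← hX.mul v hv w hw, ← mul_assoc, (ha.2 v hv).2, mul_assoc,
    (ha.2 w hw).2, ← mul_assoc, hX.mul _ (ha.2 v hv).1 _ (ha.2 w hw).1]

theorem Acts.map_zero (hX : Vec xg) {g : G} {A : List ℕ} (ha : Acts xg g A) : ap A 0 = 0 := by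
  have h := ha.xor hX (v := 0) (w := 0) (by norm_num) (by norm_num)
  simpa using h

theorem bit_split : ∀ v < 16, v = ((if v.testBit 0 then 1 else 0) ^^^ (if v.testBit 1 then 2 else 0)) ^^^
    ((if v.testBit 2 then 4 else 0) ^^^ (if v.testBit 3 then 8 else 0)) := by decide

theorem Acts.eq_ofImg (hX : Vec xg) {g : G} {A : List ℕ} (ha : Acts xg g A) :
    A = ofImg (ap A 1) (ap A 2) (ap A 4) (ap A 8) := by
  refine tab_ext ha.1 (by simp [ofImg]) fun v hv => ?_
  have e : ap (ofImg (ap A 1) (ap A 2) (ap A 4) (ap A 8)) v =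
      (if v.testBit 0 then ap A 1 else 0) ^^^ (if v.testBit 1 then ap A 2 else 0) ^^^
        (if v.testBit 2 then ap A 4 else 0) ^^^ (if v.testBit 3 then ap A 8 else 0) := by
    simp [ap, ofImg, List.getD_eq_getElem?_getD, hv]
  have hb : ∀ (b : Bool) (k : ℕ), k < 16 → (if b then k else 0) < 16 := fun b k hk => by
    cases b <;> simp [hk]
  have hi : ∀ (b : Bool) (k : ℕ), ap A (if b then k else 0) = if b then ap A k else 0 := fun b k => by
    cases b <;> simp [ha.map_zero hX]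
  rw [e]
  conv_lhs => rw [bit_split v hv]
  rw [ha.xor hX (xor_lt (hb _ 1 (by norm_num)) (hb _ 2 (by norm_num)))
      (xor_lt (hb _ 4 (by norm_num)) (hb _ 8 (by norm_num))),
    ha.xor hX (hb _ 1 (by norm_num)) (hb _ 2 (by norm_num)),
    ha.xor hX (hb _ 4 (by norm_num)) (hb _ 8 (by norm_num)), hi, hi, hi, hi, Nat.xor_assoc, Nat.xor_assoc,
    Nat.xor_assoc]

theorem Acts.of_commute (hX : Vec xg) {g : G} (h : ∀ v < 16, g * xg v = xg v * g) : Acts xg g id16 :=
  ⟨List.length_range, fun v hv => by rw [ap_id hv]; exact ⟨hv, h v hv⟩⟩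

theorem Acts.vec (hX : Vec xg) {v : ℕ} (hv : v < 16) : Acts xg (xg v) id16 :=
  Acts.of_commute hX fun _ hw => hX.comm hv hw

/-- The elements acting by tables form a subgroup. -/
def normSub [Finite G] (hX : Vec xg) : Subgroup G where
  carrier := {g | ∃ A, Acts xg g A}
  mul_mem' := fun ⟨_, ha⟩ ⟨_, hb⟩ => ⟨_, ha.mul hb⟩
  one_mem' := ⟨_, Acts.id hX⟩
  inv_mem' := by
    rintro g ⟨A, hA⟩
    have hp : ∀ n : ℕ, ∃ B, Acts xg (g ^ n) B := by
      intro n
      induction n with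
      | zero => exact ⟨id16, by rw [pow_zero]; exact Acts.id hX⟩
      | succ n ih =>
        obtain ⟨B, hB⟩ := ih
        exact ⟨_, pow_succ g n ▸ hB.mul hA⟩
    obtain ⟨B, hB⟩ := hp (orderOf g - 1)
    refine ⟨B, ?_⟩
    rwa [inv_eq_of_mul_eq_one_right (b := g ^ (orderOf g - 1)) ?_]
    rw [← pow_succ', Nat.sub_add_cancel (orderOf_pos g), pow_orderOf_eq_one]

/-- The numbered elements as a subgroup. -/
def vecSub (hX : Vec xg) : Subgroup G where
  carrier := {g | ∃ v < 16, g = xg v}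
  mul_mem' := by
    rintro a b ⟨v, hv, rfl⟩ ⟨w, hw, rfl⟩
    exact ⟨_, xor_lt hv hw, hX.mul v hv w hw⟩
  one_mem' := ⟨0, by norm_num, hX.zero.symm⟩
  inv_mem' := by
    rintro a ⟨v, hv, rfl⟩
    exact ⟨v, hv, hX.inv hv⟩

theorem card_vecSub (hX : Vec xg) : Nat.card (vecSub hX) = 16 := by
  have e : Function.Bijective fun v : Fin 16 => (⟨xg v, v, v.2, rfl⟩ : vecSub hX) := by
    constructor
    · intro a b h
      exact Fin.ext (hX.inj _ a.2 _ b.2 (congrArg Subtype.val h))
    · rintro ⟨g, v, hv, rfl⟩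
      exact ⟨⟨v, hv⟩, rfl⟩
  rw [← Nat.card_eq_of_bijective _ e, Nat.card_fin]

/-- Product in the semidirect product of vectors and tables. -/
def sdMul (p q : ℕ × List ℕ) : ℕ × List ℕ := (p.1 ^^^ ap p.2 q.1, mm p.2 q.2)

/-- The representative of a word. -/
def sdEval (reps : List (ℕ × List ℕ)) : List ℕ → ℕ × List ℕ
  | [] => (0, id16)
  | i :: w => sdMul (reps.getD i (0, [])) (sdEval reps w)

/-- The product of tables along a word. -/
def matEval (ms : List (List ℕ)) : List ℕ → List ℕ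
  | [] => id16
  | i :: w => mm (ms.getD i []) (matEval ms w)

theorem acts_matEval (hX : Vec xg) {ms : List (List ℕ)} {f : ℕ → G} :
    ∀ w : List ℕ, (∀ i ∈ w, Acts xg (f i) (ms.getD i [])) → Acts xg (val f w) (matEval ms w)
  | [], _ => Acts.id hX
  | i :: w, h => by
    rw [val_cons]
    exact (h i List.mem_cons_self).mul (acts_matEval hX w fun j hj => h j (List.mem_cons_of_mem _ hj))

/-- An element is a vector times an element of the complement acting by a table. -/
def Rep (xg : ℕ → G) (K : Subgroup G) (g : G) (p : ℕ × List ℕ) : Prop :=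
  p.1 < 16 ∧ ∃ k ∈ K, g = xg p.1 * k ∧ Acts xg k p.2

/-- Only the identity of the complement fixes all vectors. -/
def Faith (xg : ℕ → G) (K : Subgroup G) : Prop := ∀ k ∈ K, Acts xg k id16 → k = 1

theorem Rep.mul (hX : Vec xg) {K : Subgroup G} {g h : G} {p q : ℕ × List ℕ} (hg : Rep xg K g p)
    (hh : Rep xg K h q) : Rep xg K (g * h) (sdMul p q) := by
  obtain ⟨hv, k, hk, rfl, hka⟩ := hg
  obtain ⟨hw, l, hl, rfl, hla⟩ := hh
  obtain ⟨h1, h2⟩ := hka.2 _ hw
  refine ⟨xor_lt hv h1, k * l, mul_mem hk hl, ?_, hka.mul hla⟩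
  show _ = xg (p.1 ^^^ ap p.2 q.1) * (k * l)
  rw [← hX.mul _ hv _ h1]
  calc xg p.1 * k * (xg q.1 * l) = xg p.1 * (k * xg q.1) * l := by group
    _ = xg p.1 * xg (ap p.2 q.1) * (k * l) := by rw [h2]; group

theorem Rep.of_mem (hX : Vec xg) {K : Subgroup G} {k : G} (hk : k ∈ K) {A : List ℕ} (h : Acts xg k A) :
    Rep xg K k (0, A) :=
  ⟨by norm_num, k, hk, by rw [hX.zero, one_mul], h⟩

theorem Rep.of_vec (hX : Vec xg) (K : Subgroup G) {v : ℕ} (hv : v < 16) : Rep xg K (xg v) (v, id16) :=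
  ⟨hv, 1, one_mem K, (mul_one _).symm, Acts.id hX⟩

theorem Rep.eval (hX : Vec xg) {K : Subgroup G} {reps : List (ℕ × List ℕ)} {f : ℕ → G} :
    ∀ w : List ℕ, (∀ i ∈ w, Rep xg K (f i) (reps.getD i (0, []))) →
      Rep xg K (val f w) (sdEval reps w)
  | [], _ => Rep.of_mem hX (one_mem K) (Acts.id hX)
  | i :: w, h => by
    rw [val_cons]
    exact (h i List.mem_cons_self).mul hX (Rep.eval hX w fun j hj => h j (List.mem_cons_of_mem _ hj))

theorem Rep.eq_one (hX : Vec xg) {K : Subgroup G} (hK : Faith xg K) {g : G}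
    (h : Rep xg K g (0, id16)) : g = 1 := by
  obtain ⟨-, k, hk, rfl, hka⟩ := h
  rw [hK k hk hka, mul_one]
  exact hX.zero

theorem Rep.zero_of_one (hX : Vec xg) {K : Subgroup G} (hK : Faith xg K) {p : ℕ × List ℕ}
    (h : Rep xg K 1 p) : p = (0, id16) := by
  obtain ⟨hv, k, hk, he, hka⟩ := h
  have hk' : k = xg p.1 := by
    rw [← hX.inv hv]; exact eq_inv_of_mul_eq_one_right he.symm
  have hA : p.2 = id16 := hka.unique hX (hk' ▸ Acts.vec hX hv)
  have h1 : k = 1 := hK k hk (hA ▸ hka)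
  have h0 : p.1 = 0 := hX.inj _ hv 0 (by norm_num) (by rw [← hk', h1, hX.zero])
  exact Prod.ext h0 hA

end Cfsg.Agent.McLRecogVec21
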