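import Mathlib
import Cfsg.Agent.Lib.McLRecogModel21
import Cfsg.Agent.Lib.McLRecogVec21
import Cfsg.Agent.Lib.CoprimeGaschutz

/-!
The normaliser of an elementary abelian subgroup of order sixteen containing the involution:
a complement exists and is determined by the centraliser of the involution.
-/

set_option autoImplicit false
set_option maxHeartbeats 1000000
set_option maxRecDepth 100000
set_option linter.style.haveILetI false

namespace Cfsg.Agent.McLRecogSide21

open Cfsg Cfsg.Agent.McLRecogData21 Cfsg.Agent.McLRecogModel21 Cfsg.Agent.McLRecogVec21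
open Cfsg.Agent.McLInvolution (Cc τC card_Cc)
open Cfsg.Agent.CosetCertCore (val val_nil val_cons)

/-- An embedding of the model of the centraliser as the centraliser of the image of the involution. -/
structure Emb (G : Type*) [Group G] where
  φ : Cc →* G
  inj : Function.Injective φ
  cent : ∀ g : G, g * φ τC = φ τC * g → g ∈ φ.range

/-- The vectors in the model. -/
noncomputable def xc (s : Side) (v : ℕ) : Cc := val uc (s.xw.getD v [])

/-- The generators of the complement in the model. -/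
noncomputable def ac (s : Side) (i : ℕ) : Cc := uc (s.gi.getD i 0)

/-- A word in the generators of the complement as a word in all generators. -/
def glob (s : Side) (w : List ℕ) : List ℕ := w.map fun i => s.gi.getD i 0

/-- The tables of the listed elements. -/
def mats (s : Side) : List (List ℕ) := s.lst.map Prod.snd

/-! ### checks -/

/-- Shapes. -/
def cDims (s : Side) : Bool :=
  s.xw.length == 16 && s.xw.all (bnd 7) && s.ms.length == 3 && s.ms.all tabOK && tabOK s.sm &&
    s.gi.length == 3 && s.gi.all (fun x => Nat.blt x 7) && s.cj.length == 15 && s.cj.all (bnd 7)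

/-- The vectors form a subgroup containing the involution and the first generator. -/
def cVec (s : Side) : Bool :=
  (List.range 16).all (fun v => (List.range 16).all fun w =>
      eqc (s.xw.getD v [] ++ s.xw.getD w []) (s.xw.getD (v ^^^ w) []) &&
        (key8 (s.xw.getD v []) == key8 (s.xw.getD w [])) == (v == w)) &&
    eqc (s.xw.getD 1 []) tauW && eqc (s.xw.getD 2 []) [0]

/-- The generators act by the tables. -/
def cMs (s : Side) : Bool :=
  (List.range 3).all fun i => (List.range 16).all fun v =>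
    eqc (s.gi.getD i 0 :: s.xw.getD v []) (s.xw.getD (ap (s.ms.getD i []) v) [] ++ [s.gi.getD i 0])

/-- The listed elements are closed, with distinct tables. -/
def cLst (s : Side) : Bool :=
  s.lst.all (fun p => bnd 3 p.1 && matEval s.ms p.1 == p.2) && s.lst.elem ([], id16) &&
    decide (mats s).Nodup && s.lst.length == 168 &&
    (List.range 168).all (fun n => (List.range 3).all fun i =>
      Nat.blt (s.nxt.getD (3 * n + i) 0) 168 &&
        eqc (glob s (i :: (s.lst.getD n ([], [])).1)) (glob s (s.lst.getD (s.nxt.getD (3 * n + i) 0) ([], [])).1))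

/-- Fifteen different conjugates of the subgroup. -/
def cCj (s : Side) : Bool :=
  (List.range 15).all fun j => (List.range 15).all fun k => (j == k) || (List.range 16).any fun v =>
    (List.range 16).all fun w =>
      !(key8 (s.cj.getD j [] ++ s.xw.getD v [] ++ (s.cj.getD j []).reverse) ==
        key8 (s.cj.getD k [] ++ s.xw.getD w [] ++ (s.cj.getD k []).reverse))

/-- Transitivity on the nonzero vectors. -/
def cOrb (s : Side) : Bool :=
  s.orb.length == 15 && (List.range 15).all fun j =>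
    bnd 4 (s.orb.getD j []) && ap (matEval (s.ms ++ [s.sm]) (s.orb.getD j [])) 1 == j + 1

/-- Every table with the given pattern leads to the special one. -/
def cCert (s : Side) : Bool :=
  (List.range 16).all fun b => (List.range 16).all fun c =>
    !decide (ofImg s.pat.1 s.pat.2 b c).Nodup ||
      (bnd 4 (s.cert.getD (16 * b + c) []) &&
        (matEval (s.ms ++ [ofImg s.pat.1 s.pat.2 b c]) (s.cert.getD (16 * b + c) []) == s.sm ||
          (ap (matEval (s.ms ++ [ofImg s.pat.1 s.pat.2 b c]) (s.cert.getD (16 * b + c) [])) 1 == 1 &&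
            !(mats s).elem (matEval (s.ms ++ [ofImg s.pat.1 s.pat.2 b c]) (s.cert.getD (16 * b + c) [])))))

/-- Lifts of the generators satisfying the relations are conjugate to them. -/
def cLift (s : Side) : Bool :=
  s.relsL.all (fun r => bnd 3 r && matEval s.ms r == id16) &&
    (List.range 16).all fun x1 => (List.range 16).all fun x2 => (List.range 16).all fun x3 =>
      !(s.relsL.all fun r => sdEval [(x1, s.ms.getD 0 []), (x2, s.ms.getD 1 []), (x3, s.ms.getD 2 [])] r
          == (0, id16)) ||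
        (List.range 16).any fun x =>
          x1 == (x ^^^ ap (s.ms.getD 0 []) x) && x2 == (x ^^^ ap (s.ms.getD 1 []) x) &&
            x3 == (x ^^^ ap (s.ms.getD 2 []) x)

/-- The special table. -/
def cSm (s : Side) : Bool :=
  mm s.sm s.sm == id16 && ap s.sm 1 == 2 && ap s.sm 2 == 1 &&
    (List.range 16).all fun v => !(ap s.sm v == v) || (List.range 16).any fun y => v == (y ^^^ ap s.sm y)

/-- All checks. -/
structure OK (s : Side) : Prop where
  dims : cDims s = true
  vec : cVec s = true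
  ms : cMs s = true
  lst : cLst s = true
  cj : cCj s = true
  orb : cOrb s = true
  cert : cCert s = true
  lift : cLift s = true
  sm : cSm s = true

theorem getD_mem {α : Type*} {l : List α} {i : ℕ} (d : α) (h : i < l.length) : l.getD i d ∈ l := by
  rw [List.getD_eq_getElem _ _ h]; exact List.getElem_mem h

section Model

variable {s : Side} (h : OK s)
include h

theorem dims : s.xw.length = 16 ∧ (∀ v, ∀ x ∈ s.xw.getD v [], x < 7) ∧ s.ms.length = 3 ∧
    (∀ A ∈ s.ms, A.length = 16 ∧ ∀ x ∈ A, x < 16) ∧ s.sm.length = 16 ∧ s.gi.length = 3 ∧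
    (∀ i, s.gi.getD i 0 < 7) ∧ s.cj.length = 15 ∧ ∀ j, ∀ x ∈ s.cj.getD j [], x < 7 := by
  have hd := h.dims
  simp only [cDims, tabOK, Bool.and_eq_true, beq_iff_eq, List.all_eq_true, bnd_iff, Nat.blt_eq] at hd
  obtain ⟨⟨⟨⟨⟨⟨⟨⟨hxl, hx⟩, hml⟩, hm⟩, hsm⟩, hgl⟩, hg⟩, hcl⟩, hc⟩ := hd
  refine ⟨hxl, fun v x hx' => ?_, hml, hm, hsm.1, hgl, fun i => ?_, hcl, fun j x hx' => ?_⟩
  · by_cases hv : v < s.xw.length
    · exact hx _ (getD_mem _ hv) x hx'
    · rw [List.getD_eq_default _ _ (by omega)] at hx'; exact absurd hx' List.not_mem_nil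
  · by_cases hv : i < s.gi.length
    · exact hg _ (getD_mem _ hv)
    · rw [List.getD_eq_default _ _ (by omega)]; norm_num
  · by_cases hv : j < s.cj.length
    · exact hc _ (getD_mem _ hv) x hx'
    · rw [List.getD_eq_default _ _ (by omega)] at hx'; exact absurd hx' List.not_mem_nil

theorem vecC : Vec (xc s) ∧ xc s 1 = τC ∧ xc s 2 = uc 0 := by
  obtain ⟨-, hx, -⟩ := dims h
  have hv := h.vec
  simp only [cVec, Bool.and_eq_true, List.all_eq_true, List.mem_range] at hv
  obtain ⟨⟨hv, h1⟩, h2⟩ := hv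
  refine ⟨⟨fun v hv' w hw' => ?_, fun v hv' w hw' e => ?_⟩, ?_, ?_⟩
  · rw [xc, xc, xc, ← val_append]; exact val_uc_eq (hv v hv' w hw').1
  · by_contra hne
    refine val_uc_ne (hx v) (hx w) ?_ e
    intro hk
    have := (hv v hv' w hw').2
    rw [hk] at this
    simp [hne] at this
  · rw [xc, val_uc_eq h1, val_tau]
  · rw [xc, val_uc_eq h2, val_cons, val_nil, mul_one]

theorem acts_ac {i : ℕ} (hi : i < 3) : Acts (xc s) (ac s i) (s.ms.getD i []) := by
  obtain ⟨-, -, hml, hm, -⟩ := dims h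
  obtain ⟨hl, hb⟩ := hm _ (getD_mem [] (show i < s.ms.length by omega))
  refine ⟨hl, fun v hv => ⟨?_, ?_⟩⟩
  · rw [ap, List.getD_eq_getElem _ _ (by omega)]; exact hb _ (List.getElem_mem _)
  · have hm' := h.ms
    simp only [cMs, List.all_eq_true, List.mem_range] at hm'
    have := val_uc_eq (hm' i hi v hv)
    rw [val_cons, val_append, val_cons, val_nil, mul_one] at this
    exact this

theorem acts_glob {w : List ℕ} (hw : ∀ i ∈ w, i < 3) :
    Acts (xc s) (val uc (glob s w)) (matEval s.ms w) := by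
  have e : val uc (glob s w) = val (ac s) w := by
    simp only [val, glob, List.map_map]; rfl
  rw [e]
  exact acts_matEval (vecC h).1 w fun i hi => acts_ac h (hw i hi)

theorem lst_facts : (∀ p ∈ s.lst, (∀ i ∈ p.1, i < 3) ∧ Acts (xc s) (val uc (glob s p.1)) p.2) ∧
    (([], id16) : List ℕ × List ℕ) ∈ s.lst ∧ (mats s).Nodup ∧ s.lst.length = 168 ∧
    ∀ p ∈ s.lst, ∀ i < 3, ∃ q ∈ s.lst, ac s i * val uc (glob s p.1) = val uc (glob s q.1) := by
  have hl := h.lst
  simp only [cLst, Bool.and_eq_true, List.all_eq_true, beq_iff_eq, List.elem_iff, decide_eq_true_eq,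
    List.mem_range, bnd_iff, Nat.blt_eq] at hl
  obtain ⟨⟨⟨⟨hp, h1⟩, hn⟩, hlen⟩, hc⟩ := hl
  refine ⟨fun p hp' => ⟨(hp p hp').1, (hp p hp').2 ▸ acts_glob h (hp p hp').1⟩, h1, hn, hlen,
    fun p hp' i hi => ?_⟩
  obtain ⟨n, hn', rfl⟩ := List.getElem_of_mem hp'
  obtain ⟨hlt, e⟩ := hc n (hlen ▸ hn') i hi
  rw [List.getD_eq_getElem _ _ hn'] at e
  refine ⟨_, getD_mem ([], []) (hlen.symm ▸ hlt), ?_⟩
  rw [← val_uc_eq e]
  exact (val_cons _ _ _).symm

/-- The complement in the model. -/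
noncomputable def HL (s : Side) : Subgroup Cc := Subgroup.closure {c | ∃ i < 3, c = ac s i}

theorem HL_spec (c : Cc) (hc : c ∈ HL s) : ∃ p ∈ s.lst, c = val uc (glob s p.1) := by
  obtain ⟨-, h1, -, -, hcl⟩ := lst_facts h
  induction hc using Subgroup.closure_induction_left with
  | one => exact ⟨_, h1, rfl⟩
  | mul_left a ha b hb ih =>
    obtain ⟨i, hi, rfl⟩ := ha
    obtain ⟨p, hp, rfl⟩ := ih
    obtain ⟨q, hq, e⟩ := hcl p hp i hi
    exact ⟨q, hq, e⟩
  | inv_mul_cancel a ha b hb ih =>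
    obtain ⟨i, hi, rfl⟩ := ha
    obtain ⟨p, hp, rfl⟩ := ih
    rw [ac, inv_eq_of_mul_eq_one_right (uc_sq _)]
    obtain ⟨q, hq, e⟩ := hcl p hp i hi
    exact ⟨q, hq, e⟩

theorem HL_faith : Faith (xc s) (HL s) := by
  intro c hc ha
  obtain ⟨hp, h1, hn, -⟩ := lst_facts h
  obtain ⟨p, hp', rfl⟩ := HL_spec h c hc
  have e : p.2 = id16 := (hp p hp').2.unique (vecC h).1 ha
  have : p = ([], id16) := List.inj_on_of_nodup_map hn hp' h1 e
  rw [this]; rfl

theorem HL_mem {p : List ℕ × List ℕ} (hp : p ∈ s.lst) : val uc (glob s p.1) ∈ HL s := by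
  refine list_prod_mem fun c hc => Subgroup.subset_closure ?_
  obtain ⟨x, hx, rfl⟩ := List.mem_map.mp hc
  obtain ⟨i, hi, rfl⟩ := List.mem_map.mp hx
  exact ⟨i, ((lst_facts h).1 p hp).1 i hi, rfl⟩

/-- The normaliser of the vectors in the model. -/
theorem classify {c : Cc} {A : List ℕ} (hc : Acts (xc s) c A) :
    ∃ v < 16, ∃ p ∈ s.lst, c = xc s v * val uc (glob s p.1) ∧ p.2 = A := by
  obtain ⟨hX, -, -⟩ := vecC h
  obtain ⟨hp, -, hn, hlen, -⟩ := lst_facts h
  obtain ⟨-, hxw, -, -, -, -, -, hcl, hcw⟩ := dims h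
  have hact : ∀ v < 16, ∀ p ∈ s.lst, Acts (xc s) (xc s v * val uc (glob s p.1)) p.2 := by
    intro v hv p hp'
    have := (Acts.vec hX hv).mul (hp p hp').2
    have e : mm id16 p.2 = p.2 := tab_ext (mm_length _ _) (hp p hp').2.1 fun w hw => by
      rw [ap_mm hw, ap_id ((hp p hp').2.2 w hw).1]
    rwa [e] at this
  let f : Fin 16 × Fin s.lst.length → normSub hX := fun q =>
    ⟨xc s q.1 * val uc (glob s (s.lst[q.2]).1), _, hact _ q.1.2 _ (List.getElem_mem _)⟩
  have hfi : Function.Injective f := by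
    rintro ⟨v, i⟩ ⟨w, j⟩ e
    have e' : xc s v * val uc (glob s (s.lst[i]).1) = xc s w * val uc (glob s (s.lst[j]).1) :=
      congrArg Subtype.val e
    have hA : (s.lst[i]).2 = (s.lst[j]).2 :=
      (hact _ v.2 _ (List.getElem_mem _)).unique hX (e' ▸ hact _ w.2 _ (List.getElem_mem _))
    have hij : i = j := by
      refine Fin.ext ((List.Nodup.getElem_inj_iff hn (hi := by simp [mats]) (hj := by simp [mats])).mp ?_)
      simpa [mats] using hA
    subst hij
    exact Prod.ext (Fin.ext (hX.inj _ v.2 _ w.2 (mul_right_cancel e'))) rfl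
  have hle : 15 * Nat.card (normSub hX) ≤ Nat.card Cc := by
    let g : Fin 15 × normSub hX → Cc := fun q => val uc (s.cj.getD q.1 []) * q.2
    have hgi : Function.Injective g := by
      rintro ⟨j, n⟩ ⟨k, n'⟩ e
      have e' : val uc (s.cj.getD j []) * (n : Cc) = val uc (s.cj.getD k []) * n' := e
      by_cases hjk : j = k
      · subst hjk; exact Prod.ext rfl (Subtype.ext (mul_left_cancel e'))
      exfalso
      have hc := h.cj
      simp only [cCj, List.all_eq_true, List.mem_range, Bool.or_eq_true, beq_iff_eq, List.any_eq_true,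
        Bool.not_eq_true', beq_eq_false_iff_ne] at hc
      obtain ⟨v, hv, hne⟩ := (hc j j.2 k k.2).resolve_left (fun e => hjk (Fin.ext e))
      obtain ⟨A, hA⟩ := (mul_mem (inv_mem n'.2) (inv_mem (inv_mem n.2)) : (n' : Cc)⁻¹ * ((n : Cc)⁻¹)⁻¹ ∈ _)
      obtain ⟨A', hA'⟩ := (mul_mem n'.2 (inv_mem n.2) : (n' : Cc) * (n : Cc)⁻¹ ∈ _)
      have hw := hA'.2 v hv
      refine val_uc_ne ?_ ?_ (hne _ hw.1) ?_
      · intro x hx
        simp only [List.mem_append, List.mem_reverse] at hx
        rcases hx with (hx | hx) | hx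
        exacts [hcw _ x hx, hxw _ x hx, hcw _ x hx]
      · intro x hx
        simp only [List.mem_append, List.mem_reverse] at hx
        rcases hx with (hx | hx) | hx
        exacts [hcw _ x hx, hxw _ x hx, hcw _ x hx]
      have hn' : (n' : Cc) * (n : Cc)⁻¹ = (val uc (s.cj.getD k []))⁻¹ * val uc (s.cj.getD j []) := by
        rw [mul_inv_eq_iff_eq_mul, mul_assoc, e', inv_mul_cancel_left]
      have h2 := hw.2
      rw [hn'] at h2
      simp only [val_append, val_reverse uc_sq]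
      change val uc (s.cj.getD j []) * xc s v * (val uc (s.cj.getD j []))⁻¹ =
        val uc (s.cj.getD k []) * xc s (ap A' v) * (val uc (s.cj.getD k []))⁻¹
      calc val uc (s.cj.getD j []) * xc s v * (val uc (s.cj.getD j []))⁻¹
          = val uc (s.cj.getD k []) * ((val uc (s.cj.getD k []))⁻¹ * val uc (s.cj.getD j []) * xc s v) *
            (val uc (s.cj.getD j []))⁻¹ := by group
        _ = val uc (s.cj.getD k []) * xc s (ap A' v) * (val uc (s.cj.getD k []))⁻¹ := by rw [h2]; group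
    have := Nat.card_le_card_of_injective g hgi
    rwa [Nat.card_prod, Nat.card_fin] at this
  rw [card_Cc] at hle
  have hbij : Function.Bijective f := (Nat.bijective_iff_injective_and_card f).2 ⟨hfi, by
    refine le_antisymm (Nat.card_le_card_of_injective f hfi) ?_
    rw [Nat.card_prod, Nat.card_fin, Nat.card_fin, hlen]
    omega⟩
  obtain ⟨⟨v, i⟩, e⟩ := hbij.2 ⟨c, A, hc⟩
  have e' : xc s v * val uc (glob s (s.lst[i]).1) = c := congrArg Subtype.val e
  exact ⟨v, v.2, _, List.getElem_mem _, e'.symm,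
    (e' ▸ hact _ v.2 _ (List.getElem_mem _)).unique hX hc⟩

end Model

section Group

variable {G : Type*} [Group G] [Finite G] (E : Emb G) {s : Side}

/-- The vectors in the group. -/
noncomputable def xg (s : Side) (v : ℕ) : G := E.φ (xc s v)

/-- The generators of the complement in the group. -/
noncomputable def ga (s : Side) (i : ℕ) : G := E.φ (ac s i)

/-- A complement in the normaliser. -/
structure Compl (s : Side) (K : Subgroup G) : Prop where
  acts : ∀ k ∈ K, ∃ A, Acts (xg E s) k A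
  faith : Faith (xg E s) K
  dec : ∀ g A, Acts (xg E s) g A → ∃ v < 16, ∃ k ∈ K, g = xg E s v * k ∧ Acts (xg E s) k A

variable (h : OK s)
include h

theorem vecG : Vec (xg E s) ∧ xg E s 1 = E.φ τC ∧ xg E s 2 = E.φ (uc 0) := by
  obtain ⟨hX, h1, h2⟩ := vecC h
  refine ⟨⟨fun v hv w hw => ?_, fun v hv w hw e => hX.inj v hv w hw (E.inj e)⟩,
    by rw [xg, h1], by rw [xg, h2]⟩
  rw [xg, xg, xg, ← map_mul, hX.mul v hv w hw]

theorem acts_map {c : Cc} {A : List ℕ} (ha : Acts (xc s) c A) : Acts (xg E s) (E.φ c) A :=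
  ⟨ha.1, fun v hv => ⟨(ha.2 v hv).1, by rw [xg, xg, ← map_mul, (ha.2 v hv).2, map_mul]⟩⟩

theorem acts_of_map {c : Cc} {A : List ℕ} (ha : Acts (xg E s) (E.φ c) A) : Acts (xc s) c A :=
  ⟨ha.1, fun v hv => ⟨(ha.2 v hv).1, E.inj (by rw [map_mul, map_mul]; exact (ha.2 v hv).2)⟩⟩

theorem classifyG {g : G} {A : List ℕ} (ha : Acts (xg E s) g A) (h1 : ap A 1 = 1) :
    ∃ v < 16, ∃ p ∈ s.lst, g = xg E s v * E.φ (val uc (glob s p.1)) ∧ p.2 = A := by
  obtain ⟨-, hτ, -⟩ := vecG E h
  have hc : g * E.φ τC = E.φ τC * g := by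
    have := (ha.2 1 (by norm_num)).2
    rwa [h1, hτ] at this
  obtain ⟨c, rfl⟩ := E.cent g hc
  obtain ⟨v, hv, p, hp, e, hpA⟩ := classify h (acts_of_map E h ha)
  exact ⟨v, hv, p, hp, by rw [e, map_mul]; rfl, hpA⟩

theorem exists_special {g : G} {A : List ℕ} (ha : Acts (xg E s) g A) (h1 : ap A 1 = s.pat.1)
    (h2 : ap A 2 = s.pat.2) : ∃ σ, Acts (xg E s) σ s.sm := by
  obtain ⟨hX, -, -⟩ := vecG E h
  obtain ⟨-, -, hml, -⟩ := dims h
  have hA := ha.eq_ofImg hX
  rw [h1, h2] at hA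
  have hb := (ha.2 4 (by norm_num)).1
  have hc := (ha.2 8 (by norm_num)).1
  have hnd : (ofImg s.pat.1 s.pat.2 (ap A 4) (ap A 8)).Nodup := by
    rw [← hA, List.nodup_iff_injective_getElem]
    intro i j e
    refine Fin.ext (ha.injective hX (ha.1 ▸ i.2) (ha.1 ▸ j.2) ?_)
    rw [ap, ap, List.getD_eq_getElem _ _ i.2, List.getD_eq_getElem _ _ j.2]
    exact e
  have hcert := h.cert
  simp only [cCert, List.all_eq_true, List.mem_range] at hcert
  have h' := hcert _ hb _ hc
  rw [decide_eq_true hnd, ← hA] at h'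
  simp only [Bool.not_true, Bool.false_or, Bool.and_eq_true, Bool.or_eq_true, beq_iff_eq, bnd_iff,
    Bool.not_eq_true'] at h'
  obtain ⟨hw, hR⟩ := h'
  let f : ℕ → G := fun i => if i < 3 then ga E s i else g
  have hf : Acts (xg E s) (val f (s.cert.getD (16 * ap A 4 + ap A 8) []))
      (matEval (s.ms ++ [A]) (s.cert.getD (16 * ap A 4 + ap A 8) [])) := by
    refine acts_matEval hX _ fun i hi => ?_
    have hi4 := hw i hi
    by_cases hi3 : i < 3
    · rw [show f i = ga E s i from if_pos hi3, List.getD_append _ _ _ _ (by omega)]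
      exact acts_map E h (acts_ac h hi3)
    · rw [show f i = g from if_neg hi3, show i = 3 by omega,
        List.getD_append_right _ _ _ _ (by omega), hml]
      exact ha
  rcases hR with hR | ⟨hR1, hR2⟩
  · exact ⟨_, hR ▸ hf⟩
  · exfalso
    obtain ⟨v, -, p, hp, -, hpA⟩ := classifyG E h hf hR1
    have hm : p.2 ∈ mats s := List.mem_map.mpr ⟨p, hp, rfl⟩
    rw [hpA, ← List.elem_iff] at hm
    rw [hm] at hR2
    exact Bool.noConfusion hR2

theorem transitive {σ : G} (hσ : Acts (xg E s) σ s.sm) {v : ℕ} (h0 : v ≠ 0) (hv : v < 16) :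
    ∃ g A, Acts (xg E s) g A ∧ ap A 1 = v := by
  obtain ⟨hX, -, -⟩ := vecG E h
  obtain ⟨-, -, hml, -⟩ := dims h
  have ho := h.orb
  simp only [cOrb, Bool.and_eq_true, beq_iff_eq, List.all_eq_true, List.mem_range, bnd_iff] at ho
  obtain ⟨hw, hR⟩ := ho.2 (v - 1) (by omega)
  let f : ℕ → G := fun i => if i < 3 then ga E s i else σ
  refine ⟨val f (s.orb.getD (v - 1) []), _, acts_matEval (ms := s.ms ++ [s.sm]) hX _ fun i hi => ?_,
    by rw [hR]; omega⟩
  have hi4 := hw i hi
  by_cases hi3 : i < 3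
  · rw [show f i = ga E s i from if_pos hi3, List.getD_append _ _ _ _ (by omega)]
    exact acts_map E h (acts_ac h hi3)
  · rw [show f i = σ from if_neg hi3, show i = 3 by omega,
      List.getD_append_right _ _ _ _ (by omega), hml]
    exact hσ

theorem exists_compl0 {σ : G} (hσ : Acts (xg E s) σ s.sm) : ∃ K, Compl E s K := by
  obtain ⟨hX, hτ, -⟩ := vecG E h
  set M := normSub hX
  set X := (vecSub hX).subgroupOf M with hXdef
  set U := E.φ.range.subgroupOf M with hUdef
  set A := ((HL s).map E.φ).subgroupOf M with hAdef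
  have hmemX : ∀ v < 16, xg E s v ∈ M := fun v hv => ⟨_, Acts.vec hX hv⟩
  haveI hXn : X.Normal := by
    constructor
    rintro ⟨n, hn⟩ ⟨v, hv, rfl⟩ ⟨g, B, hB⟩
    refine ⟨_, (hB.2 v hv).1, ?_⟩
    show g * xg E s v * g⁻¹ = _
    rw [(hB.2 v hv).2, mul_inv_cancel_right]
  haveI : IsMulCommutative X := by
    constructor; constructor
    rintro ⟨⟨a, ha⟩, ⟨v, hv, e⟩⟩ ⟨⟨b, hb⟩, ⟨w, hw, e'⟩⟩
    refine Subtype.ext (Subtype.ext ?_)
    change a * b = b * a
    change a = _ at e
    change b = _ at e'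
    rw [e, e', hX.comm hv hw]
  have hXU : X ≤ U := by
    rintro ⟨g, hg⟩ ⟨v, hv, e⟩
    exact ⟨xc s v, e.symm⟩
  have hidx : U.index = 15 := by
    have htM : E.φ τC ∈ M := hτ ▸ hmemX 1 (by norm_num)
    let f : M ⧸ U → G := fun q => Quotient.liftOn' q (fun m => (m : G) * E.φ τC * (m : G)⁻¹) (by
      intro a b hab
      rw [QuotientGroup.leftRel_apply] at hab
      obtain ⟨c, hc⟩ := hab
      have hb : (b : G) = (a : G) * E.φ c := by rw [hc]; simp
      show (a : G) * E.φ τC * (a : G)⁻¹ = (b : G) * E.φ τC * (b : G)⁻¹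
      have hcomm : E.φ c * E.φ τC = E.φ τC * E.φ c := by
        rw [← map_mul, ← map_mul, Subgroup.mem_center_iff.mp
          (McLInvolution.zpowers_le_center (Subgroup.mem_zpowers _)) c]
      rw [hb, mul_inv_rev]
      calc (a : G) * E.φ τC * (a : G)⁻¹
          = (a : G) * (E.φ τC * E.φ c) * (E.φ c)⁻¹ * (a : G)⁻¹ := by group
        _ = _ := by rw [← hcomm]; group)
    have hfi : Function.Injective f := by
      intro q q' e
      induction q using QuotientGroup.induction_on with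
      | H a =>
        induction q' using QuotientGroup.induction_on with
        | H b =>
          change (a : G) * E.φ τC * (a : G)⁻¹ = (b : G) * E.φ τC * (b : G)⁻¹ at e
          rw [QuotientGroup.eq]
          refine E.cent _ ?_
          show (a : G)⁻¹ * (b : G) * E.φ τC = E.φ τC * ((a : G)⁻¹ * (b : G))
          calc (a : G)⁻¹ * (b : G) * E.φ τC = (a : G)⁻¹ * ((b : G) * E.φ τC * (b : G)⁻¹) * (b : G) := by group
            _ = _ := by rw [← e]; group
    have hrange : Set.range f = xg E s '' Set.Ico 1 16 := by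
      ext g
      constructor
      · rintro ⟨q, rfl⟩
        induction q using QuotientGroup.induction_on with
        | H a =>
          obtain ⟨B, hB⟩ := a.2
          refine ⟨ap B 1, ⟨?_, (hB.2 1 (by norm_num)).1⟩, ?_⟩
          · by_contra h0
            have h0' : ap B 1 = 0 := by omega
            exact absurd (hB.injective hX (v := 1) (w := 0) (by norm_num) (by norm_num)
              (by rw [h0', hB.map_zero hX])) (by norm_num)
          · show _ = (a : G) * E.φ τC * (a : G)⁻¹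
            rw [← hτ, (hB.2 1 (by norm_num)).2, mul_inv_cancel_right]
      · rintro ⟨v, ⟨hv1, hv⟩, rfl⟩
        obtain ⟨g, B, hB, hB1⟩ := transitive E h hσ (by omega) hv
        refine ⟨((⟨g, B, hB⟩ : M) : M ⧸ U), ?_⟩
        show g * E.φ τC * g⁻¹ = _
        rw [← hτ, (hB.2 1 (by norm_num)).2, hB1, mul_inv_cancel_right]
    rw [Subgroup.index, ← Nat.card_range_of_injective hfi, hrange, Nat.card_image_of_injOn]
    · simp
    · exact fun v hv w hw e => hX.inj v hv.2 w hw.2 e
  have hcop : (Nat.card X).Coprime U.index := by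
    rw [hidx, hXdef, Nat.card_congr (Subgroup.subgroupOfEquivOfLe
      (show vecSub hX ≤ M from fun g ⟨v, hv, e⟩ => e ▸ hmemX v hv)).toEquiv, card_vecSub hX]
    norm_num
  have hAU : A ≤ U := by
    rintro ⟨g, hg⟩ ⟨c, -, e⟩
    exact ⟨c, e⟩
  have hAX : A ⊓ X = ⊥ := by
    rw [Subgroup.eq_bot_iff_forall]
    rintro ⟨g, hg⟩ ⟨⟨c, hc, e⟩, v, hv, e'⟩
    refine Subtype.ext ?_
    change E.φ c = g at e
    change g = xg E s v at e'
    show g = 1
    rw [← e, HL_faith h c hc (acts_of_map E h (by rw [e, e']; exact Acts.vec hX hv)), map_one]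
  have hXA : X ⊔ A = U := by
    refine le_antisymm (sup_le hXU hAU) ?_
    rintro ⟨g, hg⟩ ⟨c, hc⟩
    change E.φ c = g at hc
    subst hc
    obtain ⟨B, hB⟩ := hg
    obtain ⟨v, hv, p, hp, e, -⟩ := classify h (acts_of_map E h hB)
    have hm2 : E.φ (val uc (glob s p.1)) ∈ M := ⟨_, acts_map E h ((lst_facts h).1 p hp).2⟩
    have e2 : (⟨E.φ c, B, hB⟩ : M) = ⟨xg E s v, hmemX v hv⟩ * ⟨_, hm2⟩ :=
      Subtype.ext (show E.φ c = xg E s v * E.φ (val uc (glob s p.1)) by rw [e, map_mul]; rfl)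
    rw [e2]
    exact Subgroup.mul_mem_sup ⟨v, hv, rfl⟩ ⟨_, HL_mem h hp, rfl⟩
  obtain ⟨H, hH⟩ := CoprimeGaschutz.exists_complement hXU hcop A hAU hAX hXA
  refine ⟨H.map M.subtype, ?_, ?_, ?_⟩
  · rintro k ⟨m, -, rfl⟩; exact m.2
  · rintro k ⟨m, hm, rfl⟩ ha
    change Acts (xg E s) (m : G) id16 at ha
    obtain ⟨v, hv, p, hp, e, hpA⟩ := classifyG E h ha (ap_id (by norm_num))
    have hp1 : val uc (glob s p.1) = 1 :=
      HL_faith h _ (HL_mem h hp) (hpA ▸ ((lst_facts h).1 p hp).2)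
    rw [hp1, map_one, mul_one] at e
    have hmX : m ∈ X := ⟨v, hv, e⟩
    have := Subgroup.disjoint_def.mp hH.disjoint hmX hm
    rw [this]; rfl
  · intro g B hB
    obtain ⟨⟨⟨x, hx⟩, ⟨k, hk⟩⟩, e⟩ := hH.2 ⟨g, B, hB⟩
    obtain ⟨v, hv, hxv⟩ := hx
    change (x : G) = xg E s v at hxv
    have e' : (x : G) * (k : G) = g := congrArg Subtype.val e
    refine ⟨v, hv, k, ⟨k, hk, rfl⟩, by rw [← e', hxv], ?_⟩
    obtain ⟨B', hB'⟩ := k.2
    have h2 := (Acts.vec hX hv).mul hB'
    rw [← hxv, e'] at h2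
    have e3 : mm id16 B' = B' := tab_ext (mm_length _ _) hB'.1 fun w hw => by
      rw [ap_mm hw, ap_id (hB'.2 w hw).1]
    rw [e3] at h2
    exact (hB.unique hX h2) ▸ hB'

/-- Conjugating a complement by a vector. -/
theorem Compl.conj {K : Subgroup G} (hK : Compl E s K) {y : ℕ} (hy : y < 16) :
    Compl E s (K.map (MulAut.conj (xg E s y)).toMonoidHom) := by
  obtain ⟨hX, -, -⟩ := vecG E h
  have hconj : ∀ k A, Acts (xg E s) k A → Acts (xg E s) (xg E s y * k * (xg E s y)⁻¹) A := by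
    intro k A ha
    refine ⟨ha.1, fun v hv => ⟨(ha.2 v hv).1, ?_⟩⟩
    rw [hX.inv hy]
    calc xg E s y * k * xg E s y * xg E s v = xg E s y * k * (xg E s y * xg E s v) := by group
      _ = xg E s y * (k * xg E s v) * xg E s y := by rw [hX.comm hy hv]; group
      _ = xg E s y * xg E s (ap A v) * k * xg E s y := by rw [(ha.2 v hv).2]; group
      _ = xg E s (ap A v) * (xg E s y * k * xg E s y) := by
        rw [hX.comm hy (ha.2 v hv).1]; group
  refine ⟨?_, ?_, ?_⟩
  · rintro k ⟨m, hm, rfl⟩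
    obtain ⟨A, hA⟩ := hK.acts m hm
    exact ⟨A, hconj m A hA⟩
  · rintro k ⟨m, hm, rfl⟩ ha
    obtain ⟨A, hA⟩ := hK.acts m hm
    obtain rfl := (hconj m A hA).unique hX ha
    rw [hK.faith m hm hA, map_one]
  · intro g A hg
    obtain ⟨v, hv, k, hk, rfl, hka⟩ := hK.dec g A hg
    have h1 := (hka.2 y hy).1
    refine ⟨v ^^^ (ap A y ^^^ y), xor_lt hv (xor_lt h1 hy), _, ⟨k, hk, rfl⟩, ?_, hconj k A hka⟩
    show xg E s v * k = xg E s (v ^^^ (ap A y ^^^ y)) * (xg E s y * k * (xg E s y)⁻¹)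
    rw [hX.inv hy, ← hX.mul _ hv _ (xor_lt h1 hy), ← hX.mul _ h1 _ hy]
    calc xg E s v * k = xg E s v * xg E s (ap A y) * (xg E s y * xg E s y) *
          (xg E s (ap A y) * k) := by
            rw [hX.sq hy, mul_one, ← mul_assoc, mul_assoc (xg E s v), hX.sq h1, mul_one]
      _ = _ := by rw [← (hka.2 y hy).2]; group

theorem rep_gen {K : Subgroup G} (hK : Compl E s K) :
    ∃ x < 16, ∀ i < 3, Rep (xg E s) K (ga E s i) (x ^^^ ap (s.ms.getD i []) x, s.ms.getD i []) := by
  obtain ⟨hX, -, -⟩ := vecG E h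
  have hd : ∀ i < 3, ∃ p : ℕ × G, p.1 < 16 ∧ p.2 ∈ K ∧ ga E s i = xg E s p.1 * p.2 ∧
      Acts (xg E s) p.2 (s.ms.getD i []) := by
    intro i hi
    obtain ⟨v, hv, k, hk, e, hka⟩ := hK.dec _ _ (acts_map E h (acts_ac h hi))
    exact ⟨(v, k), hv, hk, e, hka⟩
  obtain ⟨⟨x0, k0⟩, hv0, hk0, e0, ha0⟩ := hd 0 (by norm_num)
  obtain ⟨⟨x1, k1⟩, hv1, hk1, e1, ha1⟩ := hd 1 (by norm_num)
  obtain ⟨⟨x2, k2⟩, hv2, hk2, e2, ha2⟩ := hd 2 (by norm_num)
  simp only at hv0 hk0 e0 ha0 hv1 hk1 e1 ha1 hv2 hk2 e2 ha2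
  have hl := h.lift
  simp only [cLift, Bool.and_eq_true, List.all_eq_true, List.mem_range, Bool.or_eq_true, List.any_eq_true,
    beq_iff_eq, bnd_iff] at hl
  obtain ⟨hrels, hx⟩ := hl
  -- the rels hold in the complement, whose elements are represented relative to the model complement
  let H' : Subgroup G := (HL s).map E.φ
  have hH' : Faith (xg E s) H' := by
    rintro g ⟨c, hc, rfl⟩ ha
    rw [HL_faith h c hc (acts_of_map E h ha), map_one]
  let f : ℕ → G := fun i => [k0, k1, k2].getD i 1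
  have key : ∀ r ∈ s.relsL,
      sdEval [(x0, s.ms.getD 0 []), (x1, s.ms.getD 1 []), (x2, s.ms.getD 2 [])] r = (0, id16) := by
    intro r hr
    obtain ⟨hb, hm⟩ := hrels r hr
    have hrep : Rep (xg E s) H' (val f r)
        (sdEval [(x0, s.ms.getD 0 []), (x1, s.ms.getD 1 []), (x2, s.ms.getD 2 [])] r) := by
      refine Rep.eval hX r fun i hi => ?_
      have hh : ∀ (j : ℕ) (k : G) (x : ℕ), j < 3 → x < 16 → ga E s j = xg E s x * k →
          Rep (xg E s) H' k (x, s.ms.getD j []) := fun j k x hj hxl e =>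
        ⟨hxl, ga E s j, ⟨_, Subgroup.subset_closure ⟨j, hj, rfl⟩, rfl⟩,
          by rw [e, ← mul_assoc, hX.sq hxl, one_mul], acts_map E h (acts_ac h hj)⟩
      have h3 := hb i hi
      interval_cases i
      · exact hh 0 k0 x0 (by norm_num) hv0 e0
      · exact hh 1 k1 x1 (by norm_num) hv1 e1
      · exact hh 2 k2 x2 (by norm_num) hv2 e2
    have hK1 : val f r = 1 := by
      refine hK.faith _ (list_prod_mem fun g hg => ?_) (hm ▸ acts_matEval (f := f) hX r fun i hi => ?_)
      · obtain ⟨i, hi, rfl⟩ := List.mem_map.mp hg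
        have h3 := hb i hi
        interval_cases i
        exacts [hk0, hk1, hk2]
      · have h3 := hb i hi
        interval_cases i
        exacts [ha0, ha1, ha2]
    rw [hK1] at hrep
    exact Rep.zero_of_one hX hH' hrep
  rcases hx x0 hv0 x1 hv1 x2 hv2 with hbad | ⟨x, hxl, hxe⟩
  · rw [Bool.not_eq_true', ← Bool.not_eq_true, List.all_eq_true] at hbad
    exact absurd (fun r hr => beq_iff_eq.mpr (key r hr)) hbad
  obtain ⟨⟨q0, q1⟩, q2⟩ := hxe
  refine ⟨x, hxl, fun i hi => ?_⟩
  interval_cases i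
  · exact q0 ▸ ⟨hv0, k0, hk0, e0, ha0⟩
  · exact q1 ▸ ⟨hv1, k1, hk1, e1, ha1⟩
  · exact q2 ▸ ⟨hv2, k2, hk2, e2, ha2⟩

/-- A complement through the generators of the model complement. -/
theorem exists_compl {g : G} {A : List ℕ} (ha : Acts (xg E s) g A) (h1 : ap A 1 = s.pat.1)
    (h2 : ap A 2 = s.pat.2) :
    ∃ K, Compl E s K ∧ (∀ i < 3, ga E s i ∈ K) ∧ ∃ σ ∈ K, Acts (xg E s) σ s.sm := by
  obtain ⟨hX, -, -⟩ := vecG E h
  obtain ⟨σ, hσ⟩ := exists_special E h ha h1 h2
  obtain ⟨K, hK⟩ := exists_compl0 E h hσ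
  obtain ⟨x, hx, hrep⟩ := rep_gen E h hK
  have hK' := Compl.conj E h hK hx
  refine ⟨_, hK', fun i hi => ?_, ?_⟩
  · obtain ⟨-, k, hk, e, hka⟩ := hrep i hi
    refine ⟨k, hk, ?_⟩
    show xg E s x * k * (xg E s x)⁻¹ = ga E s i
    rw [hX.inv hx, e]
    show xg E s x * k * xg E s x = xg E s (x ^^^ ap (s.ms.getD i []) x) * k
    rw [← hX.mul x hx _ (hka.2 x hx).1, mul_assoc, mul_assoc, ← (hka.2 x hx).2]
  · obtain ⟨v, -, k, hk, -, hka⟩ := hK'.dec σ _ hσ
    exact ⟨k, hk, hka⟩

/-- A complement through a given special involution. -/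
theorem exists_compl_through {σ : G} (hσ : Acts (xg E s) σ s.sm) (hσ2 : σ * σ = 1) :
    ∃ K, Compl E s K ∧ σ ∈ K ∧ ∃ x < 16, ∀ i < 3,
      Rep (xg E s) K (ga E s i) (x ^^^ ap (s.ms.getD i []) x, s.ms.getD i []) := by
  obtain ⟨hX, -, -⟩ := vecG E h
  obtain ⟨K, hK⟩ := exists_compl0 E h hσ
  obtain ⟨v, hv, k, hk, e, hka⟩ := hK.dec σ _ hσ
  have hs := h.sm
  simp only [cSm, Bool.and_eq_true, List.all_eq_true, List.mem_range, beq_iff_eq, Bool.or_eq_true,
    Bool.not_eq_true', beq_eq_false_iff_ne, List.any_eq_true] at hs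
  obtain ⟨⟨⟨hmm, -⟩, -⟩, hfix⟩ := hs
  have hfixv : ap s.sm v = v := by
    have hrep : Rep (xg E s) K (σ * σ) (sdMul (v, s.sm) (v, s.sm)) :=
      Rep.mul hX ⟨hv, k, hk, e, hka⟩ ⟨hv, k, hk, e, hka⟩
    rw [hσ2] at hrep
    have := congrArg Prod.fst (Rep.zero_of_one hX hK.faith hrep)
    change v ^^^ ap s.sm v = 0 at this
    exact (Nat.xor_eq_zero_iff.mp this).symm
  obtain ⟨y, hy, hvy⟩ := (hfix v hv).resolve_left (fun hne => hne hfixv)
  have hy1 := (hka.2 y hy).1
  have hK' := Compl.conj E h hK hy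
  refine ⟨_, hK', ⟨k, hk, ?_⟩, rep_gen E h hK'⟩
  show xg E s y * k * (xg E s y)⁻¹ = σ
  rw [hX.inv hy, e, hvy, ← hX.mul y hy _ hy1, mul_assoc, mul_assoc, ← (hka.2 y hy).2]

end Group

end Cfsg.Agent.McLRecogSide21
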