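import Mathlib
import Cfsg.Agent.Lib.McLRecogSide21
import Cfsg.Agent.Lib.ZStarTheorem
import Cfsg.Agent.Lib.SignalizerStrongEmb
import Cfsg.Prelude.Def_CaseTheorems
import Cfsg.Prelude.Def_TwoFusion

/-!
Fusion of the involutions of the centraliser and the element cycling a four group.
-/

set_option autoImplicit false
set_option maxHeartbeats 1000000
set_option maxRecDepth 100000
set_option linter.style.haveILetI false

namespace Cfsg.Agent.McLRecogFusion21

open Cfsg Cfsg.Agent.McLRecogData21 Cfsg.Agent.McLRecogModel21 Cfsg.Agent.McLRecogVec21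
open Cfsg.Agent.McLRecogSide21
open Cfsg.Agent.McLInvolution (Cc τC card_Cc orderOf_τC)
open Cfsg.Agent.CosetCertCore (val val_nil val_cons)
open Cfsg.Agent.PermWordCert (expand)
open scoped Pointwise

/-- Conjugates of the first generator, all different. -/
def cEOrb : Bool :=
  invOrb.length == 210 && invOrb.all (bnd 7) &&
    decide (invOrb.map fun w => key8 (w ++ [0] ++ w.reverse)).Nodup

/-- The centraliser of the first generator. -/
def cCv : Bool :=
  cvList.length == 192 && decide (cvList.map fun w => key8 (expand cvGens w)).Nodup &&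
    cvList.all fun w => bnd 7 (expand cvGens w) && eqc (expand cvGens w ++ [0]) (0 :: expand cvGens w)

/-- A Sylow 2-subgroup with its involutions conjugate to the first generator. -/
def cSyl : Bool :=
  sylList.length == 128 && decide (sylList.map fun p => key8 (expand sylGens p.1)).Nodup &&
    sylGens.all (bnd 7) && sylList.elem ([], []) &&
    sylList.all (fun p => p.1.all (fun i => Nat.blt i sylGens.length)) &&
    (List.range 128).all (fun n => (List.range sylGens.length).all fun i =>
      Nat.blt (sylNext.getD (sylGens.length * n + i) 0) 128 &&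
        eqc (expand sylGens (i :: (sylList.getD n ([], [])).1))
          (expand sylGens (sylList.getD (sylNext.getD (sylGens.length * n + i) 0) ([], [])).1)) &&
    sylList.all (fun p => !(key8 (expand sylGens p.1 ++ expand sylGens p.1) == key8 []) ||
      key8 (expand sylGens p.1) == key8 [] || key8 (expand sylGens p.1) == key8 tauW ||
        eqc (p.2 ++ expand sylGens p.1) (0 :: p.2))

/-- The involutions commuting with the first generator. -/
def cvInv : List (List ℕ) :=
  (cvList.map (expand cvGens)).filter fun w => key8 (w ++ w) == key8 []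

/-- A product of the chosen basis. -/
def comb (a b : List ℕ) (v : ℕ) : List ℕ :=
  (if v.testBit 0 then [0] else []) ++ (if v.testBit 1 then tauW ++ [0] else []) ++
    (if v.testBit 2 then a else []) ++ (if v.testBit 3 then b else [])

/-- The value is a vector of the side. -/
def inSide (s : Side) (w : List ℕ) : Bool :=
  (List.range 16).any fun v => key8 w == key8 (s.xw.getD v [])

/-- Only two elementary abelian subgroups of order sixteen contain the four group. -/
def cPairs : Bool :=
  cvInv.all fun a => cvInv.all fun b => !(key8 (a ++ b) == key8 (b ++ a)) ||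
    (inSide sideE a && inSide sideE b) || (inSide sideF a && inSide sideF b) ||
      (List.range 16).any (fun v => !(v == 0) && key8 (comb a b v) == key8 [])

/-- The two subgroups differ. -/
def cDiff : Bool :=
  (List.range 16).any fun v => (List.range 16).all fun w =>
    !(key8 (sideF.xw.getD v []) == key8 (sideE.xw.getD w []))

/-- All checks. -/
structure OKFus : Prop where
  eorb : cEOrb = true
  cv : cCv = true
  syl : cSyl = true
  pairs : cPairs = true
  diff : cDiff = true

theorem orderOf_u0 : uc 0 * uc 0 = 1 := uc_sq 0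

section Model

variable (h : OKFus)
include h

theorem cv_spec (c : Cc) (hc : c * uc 0 = uc 0 * c) :
    ∃ w ∈ cvList, c = val uc (expand cvGens w) ∧ ∀ x ∈ expand cvGens w, x < 7 := by
  have he := h.eorb
  simp only [cEOrb, Bool.and_eq_true, beq_iff_eq, List.all_eq_true, decide_eq_true_eq, bnd_iff] at he
  obtain ⟨⟨hl, hb⟩, hn⟩ := he
  have hv := h.cv
  simp only [cCv, Bool.and_eq_true, beq_iff_eq, List.all_eq_true, decide_eq_true_eq, bnd_iff] at hv
  obtain ⟨⟨hvl, hvn⟩, hvc⟩ := hv
  set Z := Subgroup.centralizer ({uc 0} : Set Cc)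
  have hmem : ∀ w ∈ cvList, val uc (expand cvGens w) ∈ Z := fun w hw => by
    rw [Subgroup.mem_centralizer_singleton_iff]
    have := val_uc_eq (hvc w hw).2
    rwa [val_append, val_cons, val_cons, val_nil, mul_one] at this
  let f : Fin cvList.length → Z := fun i => ⟨_, hmem _ (List.getElem_mem i.2)⟩
  have hfi : Function.Injective f := by
    intro i j e
    refine Fin.ext ((List.Nodup.getElem_inj_iff hvn (hi := by simp) (hj := by simp)).mp ?_)
    by_contra hne
    simp only [List.getElem_map] at hne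
    exact val_uc_ne (hvc _ (List.getElem_mem _)).1 (hvc _ (List.getElem_mem _)).1 hne (congrArg Subtype.val e)
  let g : Fin invOrb.length × Z → Cc := fun q => val uc (invOrb[q.1]) * q.2
  have hgi : Function.Injective g := by
    rintro ⟨i, a⟩ ⟨j, b⟩ e
    have e' : val uc (invOrb[i]) * (a : Cc) = val uc (invOrb[j]) * b := e
    have hconj : ∀ (k : Fin invOrb.length) (z : Z), val uc (invOrb[k] ++ [0] ++ (invOrb[k]).reverse) =
        (val uc (invOrb[k]) * z) * uc 0 * (val uc (invOrb[k]) * z)⁻¹ := by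
      intro k z
      rw [val_append, val_append, val_reverse uc_sq, val_cons, val_nil, mul_one]
      have hz := Subgroup.mem_centralizer_singleton_iff.mp z.2
      calc val uc (invOrb[k]) * uc 0 * (val uc (invOrb[k]))⁻¹
          = val uc (invOrb[k]) * (uc 0 * (z : Cc)) * (z : Cc)⁻¹ * (val uc (invOrb[k]))⁻¹ := by group
        _ = _ := by rw [← hz]; group
    have hij : i = j := by
      refine Fin.ext ((List.Nodup.getElem_inj_iff hn (hi := by simp) (hj := by simp)).mp ?_)
      by_contra hne
      simp only [List.getElem_map] at hne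
      have hb' : ∀ k : Fin invOrb.length, ∀ x ∈ invOrb[k] ++ [0] ++ (invOrb[k]).reverse, x < 7 := by
        intro k x hx
        simp only [List.mem_append, List.mem_reverse, List.mem_singleton] at hx
        rcases hx with (hx | rfl) | hx
        exacts [hb _ (List.getElem_mem _) x hx, by norm_num, hb _ (List.getElem_mem _) x hx]
      refine val_uc_ne (hb' i) (hb' j) hne ?_
      rw [hconj i a, hconj j b, e']
    subst hij
    exact Prod.ext rfl (Subtype.ext (mul_left_cancel e'))
  have h1 := Nat.card_le_card_of_injective g hgi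
  rw [Nat.card_prod, Nat.card_fin, hl, card_Cc] at h1
  have hbij : Function.Bijective f := (Nat.bijective_iff_injective_and_card f).2
    ⟨hfi, le_antisymm (Nat.card_le_card_of_injective f hfi) (by rw [Nat.card_fin, hvl]; omega)⟩
  obtain ⟨i, e⟩ := hbij.2 ⟨c, Subgroup.mem_centralizer_singleton_iff.mpr hc⟩
  exact ⟨_, List.getElem_mem i.2, (congrArg Subtype.val e).symm, (hvc _ (List.getElem_mem _)).1⟩

theorem conj_invol {c : Cc} (h2 : c * c = 1) (h1 : c ≠ 1) (hτ : c ≠ τC) :
    ∃ d : Cc, d * c * d⁻¹ = uc 0 := by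
  have hs := h.syl
  simp only [cSyl, Bool.and_eq_true, beq_iff_eq, List.all_eq_true, decide_eq_true_eq, bnd_iff,
    List.any_eq_true, List.elem_iff, Bool.or_eq_true, Bool.not_eq_true', beq_eq_false_iff_ne,
    Nat.blt_eq] at hs
  simp only [List.mem_range] at hs
  obtain ⟨⟨⟨⟨⟨⟨hl, hn⟩, hg⟩, h0⟩, hlt⟩, hnext⟩, hconj⟩ := hs
  have hexp : ∀ p ∈ sylList, ∀ x ∈ expand sylGens p.1, x < 7 := by
    intro p hp x hx
    simp only [expand, List.mem_flatten, List.mem_map] at hx
    obtain ⟨_, ⟨i, hi, rfl⟩, hx⟩ := hx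
    exact hg _ (getD_mem _ (hlt p hp i hi)) x hx
  have hmulw : ∀ w : List ℕ, (∀ i ∈ w, i < sylGens.length) → ∀ q ∈ sylList,
      ∃ r ∈ sylList, val uc (expand sylGens w) * val uc (expand sylGens q.1) = val uc (expand sylGens r.1) := by
    intro w
    induction w with
    | nil => exact fun _ q hq => ⟨q, hq, one_mul _⟩
    | cons i w ih =>
      intro hw q hq
      obtain ⟨r, hr, e⟩ := ih (fun j hj => hw j (List.mem_cons_of_mem _ hj)) q hq
      obtain ⟨n, hn', rfl⟩ := List.getElem_of_mem hr
      obtain ⟨hlt', e'⟩ := hnext n (hl ▸ hn') i (hw i List.mem_cons_self)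
      rw [List.getD_eq_getElem _ _ hn'] at e'
      refine ⟨_, getD_mem ([], []) (hl.symm ▸ hlt'), ?_⟩
      have hx : ∀ a, expand sylGens (i :: a) = sylGens.getD i [] ++ expand sylGens a := fun a => rfl
      rw [← val_uc_eq e', hx, hx, val_append, val_append, mul_assoc, e]
  let S : Subgroup Cc :=
    { carrier := {d | ∃ p ∈ sylList, d = val uc (expand sylGens p.1)}
      one_mem' := ⟨_, h0, rfl⟩
      mul_mem' := by
        rintro _ _ ⟨p, hp, rfl⟩ ⟨q, hq, rfl⟩
        exact hmulw p.1 (hlt p hp) q hq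
      inv_mem' := by
        rintro _ ⟨p, hp, rfl⟩
        have hpow : ∀ n : ℕ, ∃ r ∈ sylList, val uc (expand sylGens p.1) ^ n = val uc (expand sylGens r.1) := by
          intro n
          induction n with
          | zero => exact ⟨_, h0, pow_zero _⟩
          | succ n ih =>
            obtain ⟨r, hr, e⟩ := ih
            obtain ⟨r', hr', e'⟩ := hmulw p.1 (hlt p hp) r hr
            exact ⟨r', hr', by rw [pow_succ', e, e']⟩
        obtain ⟨r, hr, e⟩ := hpow (orderOf (val uc (expand sylGens p.1)) - 1)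
        refine ⟨r, hr, inv_eq_of_mul_eq_one_right ?_⟩
        rw [← e, ← pow_succ', Nat.sub_add_cancel (orderOf_pos _), pow_orderOf_eq_one] }
  have hcard : Nat.card S = 128 := by
    let f : Fin sylList.length → S := fun i => ⟨_, _, List.getElem_mem i.2, rfl⟩
    have hf : Function.Bijective f := by
      constructor
      · intro i j e
        refine Fin.ext ((List.Nodup.getElem_inj_iff hn (hi := by simp) (hj := by simp)).mp ?_)
        by_contra hne
        simp only [List.getElem_map] at hne
        exact val_uc_ne (hexp _ (List.getElem_mem _)) (hexp _ (List.getElem_mem _)) hne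
          (congrArg Subtype.val e)
      · rintro ⟨d, p, hp, rfl⟩
        obtain ⟨i, hi, rfl⟩ := List.getElem_of_mem hp
        exact ⟨⟨i, hi⟩, rfl⟩
    rw [← Nat.card_eq_of_bijective f hf, Nat.card_fin, hl]
  haveI := Fact.mk Nat.prime_two
  have hSp : IsPGroup 2 S := IsPGroup.of_card (n := 7) (hcard.trans (by norm_num))
  have hidx : ¬ 2 ∣ S.index := by
    have := S.card_mul_index
    rw [hcard, card_Cc] at this
    omega
  have hcp : IsPGroup 2 (Subgroup.zpowers c) :=
    IsPGroup.of_card (n := 1) (by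
      rw [Nat.card_zpowers, orderOf_eq_prime (by rw [sq]; exact h2) h1, pow_one])
  obtain ⟨Q, hQ⟩ := hcp.exists_le_sylow
  obtain ⟨g, hg'⟩ := MulAction.exists_smul_eq Cc Q (hSp.toSylow hidx)
  have hy : g * c * g⁻¹ ∈ S := by
    have h3 : MulAut.conj g • c ∈ (MulAut.conj g) • (Q : Subgroup Cc) :=
      Subgroup.smul_mem_pointwise_smul _ _ _ (hQ (Subgroup.mem_zpowers c))
    have h4 : ((g • Q : Sylow 2 Cc) : Subgroup Cc) = S := by rw [hg']; rfl
    rw [← h4, Sylow.coe_subgroup_smul]
    exact h3
  obtain ⟨p, hp, e⟩ := hy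
  have hb := hexp p hp
  have hy2 : val uc (expand sylGens p.1) * val uc (expand sylGens p.1) = 1 := by
    rw [← e]
    calc g * c * g⁻¹ * (g * c * g⁻¹) = g * (c * c) * g⁻¹ := by group
      _ = 1 := by rw [h2]; group
  have hy1 : val uc (expand sylGens p.1) ≠ 1 := fun e1 => h1 (conj_eq_one_iff.mp (e.trans e1))
  have hyτ : val uc (expand sylGens p.1) ≠ τC := fun e1 => hτ <| by
    have hcen := Subgroup.mem_center_iff.mp (McLInvolution.zpowers_le_center (Subgroup.mem_zpowers τC))
    calc c = g⁻¹ * (g * c * g⁻¹) * g := by group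
      _ = g⁻¹ * τC * g := by rw [e, e1]
      _ = g⁻¹ * g * τC := by rw [mul_assoc, ← hcen g, mul_assoc]
      _ = τC := by group
  have key : ∀ w, (∀ x ∈ w, x < 7) → key8 (expand sylGens p.1) = key8 w →
      val uc (expand sylGens p.1) = val uc w := fun w hw e1 => val_uc_eq (by
    simp only [eqc, Bool.and_eq_true, bnd_iff, beq_iff_eq]; exact ⟨⟨hb, hw⟩, e1⟩)
  rcases hconj p hp with ((hh | hh) | hh) | hh
  · refine absurd ?_ (val_uc_ne (a := expand sylGens p.1 ++ expand sylGens p.1) (b := []) ?_ (by simp) hh)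
    · rw [val_append, hy2, val_nil]
    · intro x hx; rcases List.mem_append.mp hx with hx | hx <;> exact hb x hx
  · exact absurd ((key [] (by simp) hh).trans (val_nil uc)) hy1
  · exact absurd ((key tauW (bnd_iff.mp tau_ok.2.1) hh).trans val_tau) hyτ
  · refine ⟨val uc p.2 * g, ?_⟩
    have h5 := val_uc_eq hh
    rw [val_append, val_cons] at h5
    calc val uc p.2 * g * c * (val uc p.2 * g)⁻¹ = val uc p.2 * (g * c * g⁻¹) * (val uc p.2)⁻¹ := by group
      _ = uc 0 := by rw [e, h5, mul_inv_cancel_right]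

end Model

section Group

variable {G : Type*} [Group G] [Finite G] (E : Emb G) (h : OKFus)
include h

omit [Finite G] h in
theorem phi_comm (c : Cc) : E.φ c * E.φ τC = E.φ τC * E.φ c := by
  rw [← map_mul, ← map_mul, Subgroup.mem_center_iff.mp
    (McLInvolution.zpowers_le_center (Subgroup.mem_zpowers _)) c]

omit [Finite G] h in
theorem orderOf_t : orderOf (E.φ τC) = 2 :=
  (orderOf_injective E.φ E.inj τC).trans orderOf_τC

omit [Finite G] in
/-- Either the involution is isolated or it is conjugate to the first generator. -/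
theorem isolated_or : IsIsolatedInvolution (E.φ τC) ∨ IsConj (E.φ τC) (E.φ (uc 0)) := by
  by_cases hi : IsIsolatedInvolution (E.φ τC)
  · exact Or.inl hi
  right
  have : ¬ ∀ g : G, Commute (E.φ τC) (g * E.φ τC * g⁻¹) → g * E.φ τC * g⁻¹ = E.φ τC :=
    fun hh => hi ⟨orderOf_t E, hh⟩
  push Not at this
  obtain ⟨g, hg, hne⟩ := this
  obtain ⟨c, hc⟩ := E.cent _ hg.eq.symm
  have hc2 : c * c = 1 := E.inj (by
    rw [map_mul, hc, map_one]
    calc g * E.φ τC * g⁻¹ * (g * E.φ τC * g⁻¹) = g * (E.φ τC * E.φ τC) * g⁻¹ := by group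
      _ = 1 := by rw [SignalizerStrongEmb.involution_mul_self (orderOf_t E)]; group)
  have hc1 : c ≠ 1 := fun e => by
    rw [e, map_one, eq_comm, conj_eq_one_iff] at hc
    exact SignalizerStrongEmb.involution_ne_one (orderOf_t E) hc
  obtain ⟨d, hd⟩ := conj_invol h hc2 hc1 (fun e => hne (hc.symm.trans (congrArg E.φ e)))
  refine (isConj_iff.mpr ⟨g, hc.symm⟩).trans (isConj_iff.mpr ⟨E.φ d, ?_⟩)
  rw [← map_mul, ← map_inv, ← map_mul, hd]

variable (hconj : IsConj (E.φ τC) (E.φ (uc 0)))
include hconj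

omit [Finite G] in
/-- Transitivity on pairs of commuting involutions of the class. -/
theorem pair_conj {a b : G} (ha : IsConj (E.φ τC) a) (hb : IsConj (E.φ τC) b) (hne : a ≠ b)
    (hcomm : a * b = b * a) : ∃ g, g * a * g⁻¹ = E.φ τC ∧ g * b * g⁻¹ = E.φ (uc 0) := by
  obtain ⟨x, hx⟩ := isConj_iff.mp ha.symm
  obtain ⟨y, hy⟩ := isConj_iff.mp hb
  obtain ⟨c, hc⟩ := E.cent (x * b * x⁻¹) (by
    rw [← hx]
    calc x * b * x⁻¹ * (x * a * x⁻¹) = x * (b * a) * x⁻¹ := by group
      _ = _ := by rw [← hcomm]; group)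
  have hc' : E.φ c = (x * y) * E.φ τC * (x * y)⁻¹ := by rw [hc, ← hy]; group
  have hc2 : c * c = 1 := E.inj (by
    rw [map_mul, hc', map_one]
    calc x * y * E.φ τC * (x * y)⁻¹ * (x * y * E.φ τC * (x * y)⁻¹)
        = x * y * (E.φ τC * E.φ τC) * (x * y)⁻¹ := by group
      _ = 1 := by rw [SignalizerStrongEmb.involution_mul_self (orderOf_t E)]; group)
  have hc1 : c ≠ 1 := fun e => by
    rw [e, map_one, eq_comm, conj_eq_one_iff] at hc'
    exact SignalizerStrongEmb.involution_ne_one (orderOf_t E) hc'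
  have hcτ : c ≠ τC := fun e => hne <| by
    rw [e, ← hx] at hc
    exact (MulAut.conj x).injective (by simpa using hc)
  obtain ⟨d, hd⟩ := conj_invol h hc2 hc1 hcτ
  refine ⟨E.φ d * x, ?_, ?_⟩
  · calc E.φ d * x * a * (E.φ d * x)⁻¹ = E.φ d * (x * a * x⁻¹) * (E.φ d)⁻¹ := by group
      _ = E.φ τC := by rw [hx, phi_comm, mul_inv_cancel_right]
  · calc E.φ d * x * b * (E.φ d * x)⁻¹ = E.φ d * (x * b * x⁻¹) * (E.φ d)⁻¹ := by group
      _ = E.φ (uc 0) := by rw [← hc, ← map_mul, ← map_inv, ← map_mul, hd]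

/-- An element cycling the four group and fixing the first subgroup. -/
theorem exists_cycle (hE : OK sideE) (hF : OK sideF) :
    ∃ g A, Acts (xg E sideE) g A ∧ ap A 1 = 3 ∧ ap A 2 = 1 := by
  have ht2 := SignalizerStrongEmb.involution_mul_self (orderOf_t E)
  set t := E.φ τC with ht
  set e := E.φ (uc 0) with he
  have hte : t * e = e * t := (phi_comm E (uc 0)).symm
  have htne : (τC * uc 0) * (τC * uc 0) = 1 := by
    refine E.inj ?_
    simp only [map_mul, map_one, ← ht, ← he]
    calc t * e * (t * e) = t * (e * t) * e := by group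
      _ = t * t * (e * e) := by rw [← hte]; group
      _ = 1 := by rw [ht2, he, ← map_mul, uc_sq, map_one, mul_one]
  have hτne : τC ≠ 1 := fun e => by simpa [e] using orderOf_τC
  have hu0 : uc 0 ≠ 1 ∧ uc 0 ≠ τC := by
    obtain ⟨hX, h1, h2⟩ := vecC hE
    refine ⟨fun e => ?_, fun e => ?_⟩
    · exact absurd (hX.inj 2 (by norm_num) 0 (by norm_num) (by rw [h2, e, hX.zero])) (by norm_num)
    · exact absurd (hX.inj 2 (by norm_num) 1 (by norm_num) (by rw [h2, e, h1])) (by norm_num)
  have hne1 : τC * uc 0 ≠ 1 := fun e => hu0.2 (by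
    calc uc 0 = τC⁻¹ * (τC * uc 0) := by group
      _ = τC := by rw [e, mul_one]; exact inv_eq_of_mul_eq_one_right (E.inj (by rw [map_mul, map_one]; exact ht2)))
  have hne2 : τC * uc 0 ≠ τC := fun e => hu0.1 (mul_eq_left.mp e)
  obtain ⟨d, hd⟩ := conj_invol h htne hne1 hne2
  have hd5 : e = E.φ d * (t * e) * (E.φ d)⁻¹ := by
    rw [ht, he, ← map_inv, ← map_mul, ← map_mul, ← map_mul, hd]
  have hteconj : IsConj t (t * e) :=
    hconj.trans (isConj_iff.mpr ⟨(E.φ d)⁻¹, by
      calc (E.φ d)⁻¹ * e * (E.φ d)⁻¹⁻¹ = (E.φ d)⁻¹ * (E.φ d * (t * e) * (E.φ d)⁻¹) * (E.φ d)⁻¹⁻¹ := by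
            rw [← hd5]
        _ = t * e := by group⟩)
  obtain ⟨g, hg1, hg2⟩ := pair_conj E h hconj hconj hteconj
    (fun e' => hne2 (E.inj (by
      have h1 : E.φ (uc 0) = E.φ (τC * uc 0) := by rw [map_mul]; exact e'
      exfalso; exact hτne (by simpa using (E.inj h1))))) (by rw [← mul_assoc, ← hte])
  -- the element sending t to e, e to t*e
  set z := g⁻¹ with hz
  have hzt : z * t * z⁻¹ = e := by
    calc z * t * z⁻¹ = g⁻¹ * (g * e * g⁻¹) * g := by rw [hg1, hz, inv_inv]
      _ = e := by group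
  have hze : z * e * z⁻¹ = t * e := by
    calc z * e * z⁻¹ = g⁻¹ * (g * (t * e) * g⁻¹) * g := by rw [hg2, hz, inv_inv]
      _ = t * e := by group
  have hzte : z * (t * e) * z⁻¹ = t := by
    calc z * (t * e) * z⁻¹ = (z * t * z⁻¹) * (z * e * z⁻¹) := by group
      _ = t := by rw [hzt, hze, ← mul_assoc, ← hte, mul_assoc, he, ← map_mul, uc_sq, map_one, mul_one]
  -- images of either subgroup
  have himage : ∀ (s : Side), OK s →
      (∀ v < 16, ∃ w < 16, z * xg E s v * z⁻¹ = xg E sideE w) ∨
        (∀ v < 16, ∃ w < 16, z * xg E s v * z⁻¹ = xg E sideF w) := by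
    intro s hs
    obtain ⟨hX, hs1, hs2⟩ := vecG E hs
    have hin : ∀ v < 16, ∃ c : Cc, E.φ c = z * xg E s v * z⁻¹ ∧ c * c = 1 ∧ c * uc 0 = uc 0 * c := by
      intro v hv
      have hcm : ∀ w < 16, z * xg E s v * z⁻¹ * (z * xg E s w * z⁻¹) =
          z * xg E s w * z⁻¹ * (z * xg E s v * z⁻¹) := fun w hw => by
        calc z * xg E s v * z⁻¹ * (z * xg E s w * z⁻¹) = z * (xg E s v * xg E s w) * z⁻¹ := by group
          _ = _ := by rw [hX.comm hv hw]; group
      have hA := hcm 1 (by norm_num)
      have hB := hcm 2 (by norm_num)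
      rw [hs1, ← ht, hzt] at hA
      rw [hs2, ← he, hze] at hB
      set X := z * xg E s v * z⁻¹ with hXd
      have hCt : X * t = t * X := by
        calc X * t = X * (t * e) * e⁻¹ := by group
          _ = t * (e * X) * e⁻¹ := by rw [hB]; group
          _ = t * X := by rw [← hA]; group
      obtain ⟨c, hc⟩ := E.cent X hCt
      refine ⟨c, hc, E.inj ?_, E.inj ?_⟩
      · rw [map_mul, hc, map_one, hXd]
        calc z * xg E s v * z⁻¹ * (z * xg E s v * z⁻¹) = z * (xg E s v * xg E s v) * z⁻¹ := by group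
          _ = 1 := by rw [hX.sq hv]; group
      · rw [map_mul, map_mul, hc, ← he, hA]
    obtain ⟨ca, hca, hca2, hcae⟩ := hin 4 (by norm_num)
    obtain ⟨cb, hcb, hcb2, hcbe⟩ := hin 8 (by norm_num)
    obtain ⟨wa, hwa, eca, hba⟩ := cv_spec h ca hcae
    obtain ⟨wb, hwb, ecb, hbb⟩ := cv_spec h cb hcbe
    set a := expand cvGens wa with hadef
    set b := expand cvGens wb with hbdef
    have h7 := bnd_iff.mp tau_ok.2.1
    have hmemI : ∀ (w : List ℕ) (c : Cc), w ∈ cvList → c = val uc (expand cvGens w) →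
        (∀ x ∈ expand cvGens w, x < 7) → c * c = 1 → expand cvGens w ∈ cvInv := by
      intro w c hw ec hbw hc2
      refine List.mem_filter.mpr ⟨List.mem_map.mpr ⟨w, hw, rfl⟩, ?_⟩
      rw [beq_iff_eq]
      by_contra hne
      refine val_uc_ne (b := []) (fun x hx => ?_) (by simp) hne ?_
      · rcases List.mem_append.mp hx with hx | hx <;> exact hbw x hx
      · rw [val_append, ← ec, hc2, val_nil]
    have hcomb7 : ∀ v, ∀ x ∈ comb a b v, x < 7 := by
      intro v x hx
      simp only [comb, List.mem_append] at hx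
      rcases hx with ((hx | hx) | hx) | hx <;> split at hx <;>
        first
          | exact absurd hx List.not_mem_nil
          | exact hba x hx
          | exact hbb x hx
          | (simp only [List.mem_append, List.mem_singleton] at hx
             rcases hx with hx | rfl
             · exact h7 x hx
             · norm_num)
          | (simp only [List.mem_singleton] at hx; subst hx; norm_num)
    have hcombv : ∀ v < 16, E.φ (val uc (comb a b v)) = z * xg E s v * z⁻¹ := by
      intro v hv
      have e0 : ∀ (B : Bool) (w : List ℕ) (k : ℕ), E.φ (val uc w) = z * xg E s k * z⁻¹ →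
          E.φ (val uc (if B then w else [])) = z * xg E s (if B then k else 0) * z⁻¹ := by
        intro B w k hk
        cases B
        · simp [val_nil, hX.zero]
        · simpa using hk
      have i1 := e0 (v.testBit 0) [0] 1 (by rw [val_cons, val_nil, mul_one, hs1, ← ht, hzt])
      have i2 := e0 (v.testBit 1) (tauW ++ [0]) 2 (by
        rw [val_append, val_tau, val_cons, val_nil, mul_one, map_mul, hs2, ← he, hze])
      have i4 := e0 (v.testBit 2) a 4 (by rw [← eca, hca])
      have i8 := e0 (v.testBit 3) b 8 (by rw [← ecb, hcb])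
      have hb' : ∀ (B : Bool) (k : ℕ), k < 16 → (if B then k else 0) < 16 := fun B k hk => by
        cases B <;> simp [hk]
      rw [comb, val_append, val_append, val_append, map_mul, map_mul, map_mul, i1, i2, i4, i8]
      conv_rhs => rw [bit_split v hv, ← hX.mul _ (xor_lt (hb' _ 1 (by norm_num)) (hb' _ 2 (by norm_num)))
        _ (xor_lt (hb' _ 4 (by norm_num)) (hb' _ 8 (by norm_num))),
        ← hX.mul _ (hb' _ 1 (by norm_num)) _ (hb' _ 2 (by norm_num)),
        ← hX.mul _ (hb' _ 4 (by norm_num)) _ (hb' _ 8 (by norm_num))]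
      group
    have hp := h.pairs
    simp only [cPairs, inSide, List.all_eq_true, Bool.or_eq_true, List.any_eq_true, List.mem_range, beq_iff_eq,
      Bool.and_eq_true, Bool.not_eq_true', beq_eq_false_iff_ne] at hp
    have key : ∀ (w w' : List ℕ), (∀ x ∈ w, x < 7) → (∀ x ∈ w', x < 7) → key8 w = key8 w' →
        val uc w = val uc w' := fun w w' h1 h2 e1 => val_uc_eq (by
      simp only [eqc, Bool.and_eq_true, bnd_iff, beq_iff_eq]; exact ⟨⟨h1, h2⟩, e1⟩)
    have hspan : ∀ (T : Side), OK T → ∀ v4 < 16, key8 a = key8 (T.xw.getD v4 []) →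
        ∀ v8 < 16, key8 b = key8 (T.xw.getD v8 []) →
          ∀ v < 16, ∃ w < 16, z * xg E s v * z⁻¹ = xg E T w := by
      intro T hT v4 hv4 hk4 v8 hv8 hk8 v hv
      obtain ⟨hXT, hT1, hT2⟩ := vecG E hT
      have hb' : ∀ (B : Bool) (k : ℕ), k < 16 → (if B then k else 0) < 16 := fun B k hk => by
        cases B <;> simp [hk]
      refine ⟨((if v.testBit 0 then 2 else 0) ^^^ (if v.testBit 1 then 3 else 0)) ^^^
        ((if v.testBit 2 then v4 else 0) ^^^ (if v.testBit 3 then v8 else 0)),
        xor_lt (xor_lt (hb' _ 2 (by norm_num)) (hb' _ 3 (by norm_num))) (xor_lt (hb' _ _ hv4) (hb' _ _ hv8)), ?_⟩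
      have e0 : ∀ (B : Bool) (w : List ℕ) (k : ℕ), E.φ (val uc w) = xg E T k →
          E.φ (val uc (if B then w else [])) = xg E T (if B then k else 0) := by
        intro B w k hk
        cases B
        · simp [val_nil, hXT.zero]
        · simpa using hk
      have j1 := e0 (v.testBit 0) [0] 2 (by rw [val_cons, val_nil, mul_one, hT2])
      have j2 := e0 (v.testBit 1) (tauW ++ [0]) 3 (by
        rw [val_append, val_tau, val_cons, val_nil, mul_one, map_mul, show (3 : ℕ) = 1 ^^^ 2 from rfl,
          ← hXT.mul 1 (by norm_num) 2 (by norm_num), hT1, hT2])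
      have j4 := e0 (v.testBit 2) a v4 (by rw [key _ _ hba ((dims hT).2.1 v4) hk4]; rfl)
      have j8 := e0 (v.testBit 3) b v8 (by rw [key _ _ hbb ((dims hT).2.1 v8) hk8]; rfl)
      rw [← hcombv v hv, comb, val_append, val_append, val_append, map_mul, map_mul, map_mul, j1, j2, j4, j8,
        ← hXT.mul _ (xor_lt (hb' _ 2 (by norm_num)) (hb' _ 3 (by norm_num)))
          _ (xor_lt (hb' _ _ hv4) (hb' _ _ hv8)),
        ← hXT.mul _ (hb' _ 2 (by norm_num)) _ (hb' _ 3 (by norm_num)),
        ← hXT.mul _ (hb' _ _ hv4) _ (hb' _ _ hv8)]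
      group
    rcases hp a (hmemI wa ca hwa eca hba hca2) b (hmemI wb cb hwb ecb hbb hcb2) with ((hp | hp) | hp) | hp
    · refine absurd ?_ (val_uc_ne (a := a ++ b) (b := b ++ a) ?_ ?_ hp)
      · refine E.inj ?_
        rw [val_append, val_append, map_mul, map_mul, ← eca, ← ecb, hca, hcb]
        calc z * xg E s 4 * z⁻¹ * (z * xg E s 8 * z⁻¹) = z * (xg E s 4 * xg E s 8) * z⁻¹ := by group
          _ = _ := by rw [hX.comm (v := 4) (w := 8) (by norm_num) (by norm_num)]; group
      · intro x hx; rcases List.mem_append.mp hx with hx | hx; exacts [hba x hx, hbb x hx]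
      · intro x hx; rcases List.mem_append.mp hx with hx | hx; exacts [hbb x hx, hba x hx]
    · obtain ⟨⟨v4, hv4, hk4⟩, v8, hv8, hk8⟩ := hp
      exact Or.inl fun v hv => hspan sideE hE v4 hv4 hk4 v8 hv8 hk8 v hv
    · obtain ⟨⟨v4, hv4, hk4⟩, v8, hv8, hk8⟩ := hp
      exact Or.inr fun v hv => hspan sideF hF v4 hv4 hk4 v8 hv8 hk8 v hv
    · obtain ⟨v, hv, hv0, hk⟩ := hp
      have := hcombv v hv
      rw [key _ [] (hcomb7 v) (by simp) hk, val_nil, map_one, eq_comm, conj_eq_one_iff, ← hX.zero] at this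
      exact absurd (hX.inj v hv 0 (by norm_num) this) hv0
  have hdiff : ∀ (f : ℕ → ℕ), (∀ v < 16, f v < 16) → ¬ ∀ v < 16, xg E sideF v = xg E sideE (f v) := by
    intro f hf hall
    have hd := h.diff
    simp only [cDiff, List.any_eq_true, List.all_eq_true, List.mem_range, Bool.not_eq_true',
      beq_eq_false_iff_ne] at hd
    obtain ⟨v, hv, hd⟩ := hd
    exact val_uc_ne ((dims hF).2.1 v) ((dims hE).2.1 _) (hd _ (hf v hv)) (E.inj (hall v hv))
  obtain ⟨hXE, hE1, hE2⟩ := vecG E hE
  have hsq : ∃ A : ℕ → ℕ, ∀ v < 16, A v < 16 ∧ z * z * xg E sideE v * (z * z)⁻¹ = xg E sideE (A v) := by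
    have e2 : ∀ x : G, z * z * x * (z * z)⁻¹ = z * (z * x * z⁻¹) * z⁻¹ := fun x => by group
    rcases himage sideE hE with h1 | h1
    · choose f hf hfe using h1
      refine ⟨fun v => if hv : v < 16 then f _ (hf v hv) else 0, fun v hv => ?_⟩
      simp only [dif_pos hv]
      exact ⟨hf _ (hf v hv), by rw [e2, hfe v hv, hfe _ (hf v hv)]⟩
    · rcases himage sideF hF with h2 | h2
      · choose f hf hfe using h1
        choose f' hf' hfe' using h2
        refine ⟨fun v => if hv : v < 16 then f' _ (hf v hv) else 0, fun v hv => ?_⟩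
        simp only [dif_pos hv]
        exact ⟨hf' _ (hf v hv), by rw [e2, hfe v hv, hfe' _ (hf v hv)]⟩
      · exfalso
        choose f hf hfe using h1
        choose f' hf' hfe' using h2
        obtain ⟨hXF, -, -⟩ := vecG E hF
        -- both have the same image
        let F1 : Fin 16 → Fin 16 := fun v => ⟨f v v.2, hf v v.2⟩
        have hF1 : Function.Injective F1 := fun a b e1 => by
          refine Fin.ext (hXE.inj _ a.2 _ b.2 ((MulAut.conj z).injective ?_))
          show z * xg E sideE a * z⁻¹ = z * xg E sideE b * z⁻¹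
          rw [hfe a a.2, hfe b b.2, show f a a.2 = f b b.2 from congrArg Fin.val e1]
        have hs := (Finite.injective_iff_surjective.mp hF1)
        choose r hr using hs
        refine hdiff (fun v => if hv : v < 16 then (r ⟨f' v hv, hf' v hv⟩ : ℕ) else 0)
          (fun v hv => by simp only [dif_pos hv]; exact Fin.is_lt _) fun v hv => ?_
        simp only [dif_pos hv]
        refine (MulAut.conj z).injective ?_
        show z * xg E sideF v * z⁻¹ = z * xg E sideE (r ⟨f' v hv, hf' v hv⟩ : ℕ) * z⁻¹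
        rw [hfe' v hv, hfe _ (Fin.is_lt _)]
        exact congrArg (xg E sideF) (congrArg Fin.val (hr ⟨f' v hv, hf' v hv⟩)).symm
  obtain ⟨A, hA⟩ := hsq
  have hAL : ∀ v < 16, ap ((List.range 16).map A) v = A v := fun v hv => by
    simp [ap, List.getD_eq_getElem?_getD, hv]
  refine ⟨z * z, (List.range 16).map A, ⟨by simp, fun v hv => ?_⟩, ?_, ?_⟩
  · rw [hAL v hv]
    exact ⟨(hA v hv).1, (mul_inv_eq_iff_eq_mul.mp (hA v hv).2)⟩
  · rw [hAL 1 (by norm_num)]
    refine hXE.inj _ (hA 1 (by norm_num)).1 _ (by norm_num) ?_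
    rw [← (hA 1 (by norm_num)).2, show (3 : ℕ) = 1 ^^^ 2 from rfl, ← hXE.mul 1 (by norm_num) 2 (by norm_num),
      hE1, hE2, ← ht, ← he, ← hze, ← hzt]
    group
  · rw [hAL 2 (by norm_num)]
    refine hXE.inj _ (hA 2 (by norm_num)).1 _ (by norm_num) ?_
    rw [← (hA 2 (by norm_num)).2, hE2, hE1, ← ht, ← he]
    calc z * z * e * (z * z)⁻¹ = z * (z * e * z⁻¹) * z⁻¹ := by group
      _ = t := by rw [hze, hzte]

omit hconj in
/-- An isolated involution. -/
theorem sup_of_isolated (hi : IsIsolatedInvolution (E.φ τC)) :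
    Subgroup.centralizer ({E.φ τC} : Set G) ⊔ oddCore G = ⊤ := by
  rw [eq_top_iff]
  intro g _
  have ht := orderOf_t E
  have hN : g * E.φ τC * g⁻¹ * E.φ τC ∈ oddCore G := by
    have hc := ZStarTheorem.commutator_mem hi g
    have := inv_mem hc
    rwa [mul_inv_rev, mul_inv_rev, mul_inv_rev, inv_inv, inv_inv, SignalizerStrongEmb.involution_inv ht,
      ← mul_assoc, ← mul_assoc] at this
  have ha : orderOf (g * E.φ τC * g⁻¹) = 2 := (SignalizerStrongEmb.orderOf_conj g _).trans ht
  have hodd : Odd (orderOf (g * E.φ τC * g⁻¹ * E.φ τC)) :=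
    (ZStarTheorem.odd_card_pPrimeCore (G := G)).of_dvd_nat (Subgroup.orderOf_dvd_natCard _ hN)
  obtain ⟨w, hw, he⟩ := SignalizerStrongEmb.exists_conj_of_odd ha ht hodd
  have hwN : w ∈ oddCore G := Subgroup.zpowers_le.mpr hN hw
  have hwg : w * g ∈ Subgroup.centralizer ({E.φ τC} : Set G) := by
    rw [Subgroup.mem_centralizer_singleton_iff]
    calc w * g * E.φ τC = w * (g * E.φ τC * g⁻¹) * w⁻¹ * (w * g) := by group
      _ = E.φ τC * (w * g) := by rw [he]
  have : g = w⁻¹ * (w * g) := by group
  rw [this]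
  exact mul_mem (Subgroup.mem_sup_right (inv_mem hwN)) (Subgroup.mem_sup_left hwg)

end Group

end Cfsg.Agent.McLRecogFusion21
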