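import Cfsg.Agent.Lib.McLRecogSide21
import Cfsg.Agent.Lib.McLRecogFusion21

/-! Checks of the data of the two sides and of the fusion. -/

set_option autoImplicit false
set_option maxRecDepth 100000
set_option maxHeartbeats 1000000

namespace Cfsg.Agent.McLRecogCheckSide21

open Cfsg.Agent.McLRecogData21 Cfsg.Agent.McLRecogSide21 Cfsg.Agent.McLRecogFusion21

theorem dimsE : cDims sideE = true := by decide +kernel
theorem dimsF : cDims sideF = true := by decide +kernel
theorem vecE : cVec sideE = true := by decide +kernel
theorem vecF : cVec sideF = true := by decide +kernel
theorem msE : cMs sideE = true := by decide +kernel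
theorem msF : cMs sideF = true := by decide +kernel
theorem lstE : cLst sideE = true := by decide +kernel
theorem lstF : cLst sideF = true := by decide +kernel
theorem orbE : cOrb sideE = true := by decide +kernel
theorem orbF : cOrb sideF = true := by decide +kernel
theorem smE : cSm sideE = true := by decide +kernel
theorem smF : cSm sideF = true := by decide +kernel
theorem eorb : cEOrb = true := by decide +kernel
theorem cv : cCv = true := by decide +kernel
theorem syl : cSyl = true := by decide +kernel
theorem diff : cDiff = true := by decide +kernel
theorem pairs : cPairs = true := by decide +kernel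
theorem cjE : cCj sideE = true := by decide +kernel
theorem cjF : cCj sideF = true := by decide +kernel
theorem certE : cCert sideE = true := by decide +kernel
theorem certF : cCert sideF = true := by decide +kernel
theorem liftE : cLift sideE = true := by decide +kernel
theorem liftF : cLift sideF = true := by decide +kernel

theorem okE : OK sideE := ⟨dimsE, vecE, msE, lstE, cjE, orbE, certE, liftE, smE⟩

theorem okF : OK sideF := ⟨dimsF, vecF, msF, lstF, cjF, orbF, certF, liftF, smF⟩

theorem okFus : OKFus := ⟨eorb, cv, syl, pairs, diff⟩

end Cfsg.Agent.McLRecogCheckSide21
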