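import Mathlib
import Cfsg.Agent.Lib.McLRecogCheckSide21
import Cfsg.Agent.Lib.CosetCertMcLAmal21Data

/-!
The relations of the coset enumeration hold in a group with the given centraliser of an involution.
-/

set_option autoImplicit false
set_option maxHeartbeats 1000000
set_option maxRecDepth 100000

namespace Cfsg.Agent.McLRecogRel21

open Cfsg Cfsg.Agent.McLRecogData21 Cfsg.Agent.McLRecogModel21 Cfsg.Agent.McLRecogVec21
open Cfsg.Agent.McLRecogSide21 Cfsg.Agent.McLRecogCheckSide21
open Cfsg.Agent.McLInvolution (Cc τC)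
open Cfsg.Agent.CosetCertCore (val val_nil val_cons Cert)

/-- The relator words. -/
noncomputable def relList : List (List ℕ) := Cfsg.Agent.CosetCertMcLAmal21Data.cert.rels

/-- The generators in the first normaliser. -/
def repsE : List (ℕ × List ℕ) :=
  [(2, id16), (0, sideE.ms.getD 0 []), (0, sideE.ms.getD 1 []), (0, sideE.ms.getD 2 []),
    (0, []), (0, []), (0, []), (0, sideE.sm)]

/-- The generators in the second normaliser. -/
def repsF (x : ℕ) : List (ℕ × List ℕ) :=
  [(2, id16), (0, []), (0, []), (0, []),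
    (x ^^^ ap (sideF.ms.getD 0 []) x, sideF.ms.getD 0 []),
    (x ^^^ ap (sideF.ms.getD 1 []) x, sideF.ms.getD 1 []),
    (x ^^^ ap (sideF.ms.getD 2 []) x, sideF.ms.getD 2 []), (0, sideF.sm)]

/-- Letters of the first normaliser. -/
def inE (w : List ℕ) : Bool := w.all fun i => Nat.blt i 4 || i == 7

/-- Letters of the second normaliser. -/
def inF (w : List ℕ) : Bool := w.all fun i => i == 0 || (Nat.blt 3 i && Nat.blt i 8)

/-- A word trivial in the first normaliser. -/
def oneE (w : List ℕ) : Bool := inE w && sdEval repsE w == (0, id16)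

/-- Conjugation by the last generator on the second subgroup. -/
def cBase : Bool :=
  (xBase.map fun q => q.1) == [1, 2, 4, 8] && xBase.all (fun q =>
    Nat.blt q.1 16 && q.2.1 == ap sideF.sm q.1 && eqc (sideF.xw.getD q.1 []) q.2.2.1 &&
      eqc (sideF.xw.getD q.2.1 []) q.2.2.2 && oneE (7 :: q.2.2.1 ++ (7 :: q.2.2.2.reverse))) &&
    (List.range 16).all fun v => Nat.blt (ap sideF.sm v) 16 &&
      (List.range 16).all fun w => ap sideF.sm (v ^^^ w) == ap sideF.sm v ^^^ ap sideF.sm w

/-- Relations known from the first normaliser read in the second. -/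
def cExtra : Bool :=
  xRels.all fun q => eqc q.1 q.2.1 && eqc q.2.2.1 q.2.2.2 && oneE (7 :: q.2.1 ++ (7 :: q.2.2.2.reverse)) &&
    inF (7 :: q.1 ++ (7 :: q.2.2.1.reverse))

/-- Every relator holds. -/
noncomputable def cRels : Bool :=
  relList.all fun r => eqc r [] || oneE r || (inF r && (List.range 16).all fun x =>
    sdEval (repsF x) r == (0, id16) ||
      xRels.any fun q => !(sdEval (repsF x) (7 :: q.1 ++ (7 :: q.2.2.1.reverse)) == (0, id16)))

theorem base_ok : cBase = true := by decide +kernel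

theorem extra_ok : cExtra = true := by decide +kernel

theorem rels_ok : cRels = true := by decide +kernel

theorem gi_eq : sideE.gi = [1, 2, 3] ∧ sideF.gi = [4, 5, 6] ∧ sideE.pat = (3, 1) := by decide +kernel

variable {G : Type*} [Group G] [Finite G] (E : Emb G)

open scoped Classical in
/-- The eight generators in the group. -/
noncomputable def gam (σ : G) (i : ℕ) : G := if i < 7 then E.φ (uc i) else if i = 7 then σ else 1

omit [Finite G] in
theorem gam_lt (σ : G) {i : ℕ} (hi : i < 7) : gam E σ i = E.φ (uc i) := if_pos hi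

omit [Finite G] in
theorem gam_seven (σ : G) : gam E σ 7 = σ := by simp [gam]

omit [Finite G] in
theorem val_gam (σ : G) {w : List ℕ} (hw : ∀ x ∈ w, x < 7) : val (gam E σ) w = E.φ (val uc w) :=
  (val_congr w fun x hx => gam_lt E σ (hw x hx)).trans (val_map E.φ uc w).symm

omit [Finite G] in
theorem gam_sq {σ : G} (hσ : σ * σ = 1) (i : ℕ) : gam E σ i * gam E σ i = 1 := by
  unfold gam
  split
  · rw [← map_mul, uc_sq, map_one]
  split
  · exact hσ
  · exact one_mul 1

/-- The special involution and its relations. -/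
theorem exists_sigma (hconj : IsConj (E.φ τC) (E.φ (uc 0))) :
    ∃ σ : G, σ * σ = 1 ∧ ∀ r ∈ relList, val (gam E σ) r = 1 := by
  obtain ⟨g, A, hA, hA1, hA2⟩ := McLRecogFusion21.exists_cycle E okFus hconj okE okF
  obtain ⟨hgE, hgF, hpat⟩ := gi_eq
  obtain ⟨K, hK, hKa, σ, hσK, hσ⟩ := exists_compl E okE hA
    (by rw [hA1, hpat]) (by rw [hA2, hpat])
  obtain ⟨hXE, -, hE2⟩ := vecG E okE
  obtain ⟨hXF, -, hF2⟩ := vecG E okF
  have hσ2 : σ * σ = 1 := by
    have hs := okE.sm
    simp only [cSm, Bool.and_eq_true, beq_iff_eq] at hs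
    exact hK.faith _ (mul_mem hσK hσK) (hs.1.1.1 ▸ hσ.mul hσ)
  refine ⟨σ, hσ2, ?_⟩
  have hgaE : ∀ i < 3, ga E sideE i = E.φ (uc (i + 1)) := by
    intro i hi
    rw [ga, ac, hgE]
    interval_cases i <;> rfl
  have hgaF : ∀ i < 3, ga E sideF i = E.φ (uc (i + 4)) := by
    intro i hi
    rw [ga, ac, hgF]
    interval_cases i <;> rfl
  have hrepE : ∀ w, oneE w = true → val (gam E σ) w = 1 := by
    intro w hw
    simp only [oneE, inE, Bool.and_eq_true, beq_iff_eq, List.all_eq_true, Bool.or_eq_true, Nat.blt_eq] at hw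
    refine Rep.eq_one hXE hK.faith (hw.2 ▸ Rep.eval hXE w fun i hi => ?_)
    have hm : ∀ j < 3, Rep (xg E sideE) K (gam E σ (j + 1)) (0, sideE.ms.getD j []) := fun j hj => by
      rw [gam_lt E σ (by omega), ← hgaE j hj]
      exact Rep.of_mem hXE (hKa j hj) (acts_map E okE (acts_ac okE hj))
    rcases hw.1 i hi with hi4 | rfl
    · interval_cases i
      · rw [gam_lt E σ (by norm_num), ← hE2]
        exact Rep.of_vec hXE K (by norm_num)
      · exact hm 0 (by norm_num)
      · exact hm 1 (by norm_num)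
      · exact hm 2 (by norm_num)
    · rw [gam_seven]
      exact Rep.of_mem hXE hσK hσ
  -- action on the second subgroup
  have hb := base_ok
  simp only [cBase, Bool.and_eq_true, beq_iff_eq, List.all_eq_true, Nat.blt_eq, List.mem_range] at hb
  obtain ⟨⟨hkeys, hbase⟩, hlin⟩ := hb
  have hbasis : ∀ v ∈ [1, 2, 4, 8], σ * xg E sideF v = xg E sideF (ap sideF.sm v) * σ := by
    intro v hv
    rw [← hkeys] at hv
    obtain ⟨q, hq, rfl⟩ := List.mem_map.mp hv
    obtain ⟨⟨⟨⟨-, h2⟩, ha⟩, hb'⟩, hone⟩ := hbase q hq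
    have h1 := hrepE _ hone
    have hwa : ∀ x ∈ q.2.2.1, x < 7 := by
      have := ha; simp only [eqc, Bool.and_eq_true, bnd_iff] at this; exact this.1.2
    have hwb : ∀ x ∈ q.2.2.2, x < 7 := by
      have := hb'; simp only [eqc, Bool.and_eq_true, bnd_iff] at this; exact this.1.2
    rw [List.cons_append, val_cons, val_append, val_cons, val_reverse (gam_sq E hσ2), gam_seven,
      val_gam E σ hwa, val_gam E σ hwb, ← val_uc_eq ha, ← val_uc_eq hb', h2] at h1
    change σ * (xg E sideF q.1 * (σ * (xg E sideF (ap sideF.sm q.1))⁻¹)) = 1 at h1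
    calc σ * xg E sideF q.1
        = σ * (xg E sideF q.1 * (σ * (xg E sideF (ap sideF.sm q.1))⁻¹)) *
            xg E sideF (ap sideF.sm q.1) * σ⁻¹ := by group
      _ = xg E sideF (ap sideF.sm q.1) * σ := by
            rw [h1, one_mul, inv_eq_of_mul_eq_one_right hσ2]
  have hxor : ∀ a < 16, ∀ b < 16, σ * xg E sideF a = xg E sideF (ap sideF.sm a) * σ →
      σ * xg E sideF b = xg E sideF (ap sideF.sm b) * σ →
      σ * xg E sideF (a ^^^ b) = xg E sideF (ap sideF.sm (a ^^^ b)) * σ := by
    intro a ha b hb ea eb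
    rw [← hXF.mul a ha b hb, (hlin a ha).2 b hb, ← hXF.mul _ (hlin a ha).1 _ (hlin b hb).1,
      ← mul_assoc, ea, mul_assoc, eb, mul_assoc]
  have hsmF : Acts (xg E sideF) σ sideF.sm := by
    refine ⟨(dims okF).2.2.2.2.1, fun v hv => ⟨(hlin v hv).1, ?_⟩⟩
    have h0 : σ * xg E sideF 0 = xg E sideF (ap sideF.sm 0) * σ := by
      have e0 : ap sideF.sm 0 = 0 := by
        have := (hlin 0 (by norm_num)).2 0 (by norm_num)
        simpa using this
      rw [e0, hXF.zero, one_mul, mul_one]
    have hite : ∀ (B : Bool) (k : ℕ), k ∈ [1, 2, 4, 8] → (if B then k else 0) < 16 ∧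
        σ * xg E sideF (if B then k else 0) = xg E sideF (ap sideF.sm (if B then k else 0)) * σ := by
      intro B k hk
      cases B
      · exact ⟨by simp, by simpa using h0⟩
      · refine ⟨?_, by simpa using hbasis k hk⟩
        simp only [List.mem_cons, List.not_mem_nil, or_false] at hk
        rcases hk with rfl | rfl | rfl | rfl <;> simp
    obtain ⟨l1, e1⟩ := hite (v.testBit 0) 1 (by simp)
    obtain ⟨l2, e2⟩ := hite (v.testBit 1) 2 (by simp)
    obtain ⟨l4, e4⟩ := hite (v.testBit 2) 4 (by simp)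
    obtain ⟨l8, e8⟩ := hite (v.testBit 3) 8 (by simp)
    rw [bit_split v hv]
    exact hxor _ (xor_lt l1 l2) _ (xor_lt l4 l8) (hxor _ l1 _ l2 e1 e2) (hxor _ l4 _ l8 e4 e8)
  obtain ⟨K', hK', hσK', x, hx, hrep⟩ := exists_compl_through E okF hsmF hσ2
  have hrepF : ∀ w, inF w = true → Rep (xg E sideF) K' (val (gam E σ) w) (sdEval (repsF x) w) := by
    intro w hw
    simp only [inF, List.all_eq_true, Bool.or_eq_true, Bool.and_eq_true, beq_iff_eq, Nat.blt_eq] at hw
    refine Rep.eval hXF w fun i hi => ?_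
    rcases hw i hi with rfl | ⟨hi3, hi8⟩
    · rw [gam_lt E σ (by norm_num), ← hF2]
      exact Rep.of_vec hXF K' (by norm_num)
    · interval_cases i
      · rw [gam_lt E σ (by norm_num)]; exact hgaF 0 (by norm_num) ▸ hrep 0 (by norm_num)
      · rw [gam_lt E σ (by norm_num)]; exact hgaF 1 (by norm_num) ▸ hrep 1 (by norm_num)
      · rw [gam_lt E σ (by norm_num)]; exact hgaF 2 (by norm_num) ▸ hrep 2 (by norm_num)
      · rw [gam_seven]; exact Rep.of_mem hXF hσK' hsmF
  intro r hr
  have hc := rels_ok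
  simp only [cRels, List.all_eq_true, Bool.or_eq_true, Bool.and_eq_true, beq_iff_eq, List.mem_range,
    List.any_eq_true, Bool.not_eq_true', beq_eq_false_iff_ne] at hc
  rcases hc r hr with (hC | hE) | ⟨hF, hcases⟩
  · have h7 : ∀ y ∈ r, y < 7 := by
      have := hC; simp only [eqc, Bool.and_eq_true, bnd_iff] at this; exact this.1.1
    rw [val_gam E σ h7, val_uc_eq hC, val_nil, map_one]
  · exact hrepE r hE
  · rcases hcases x hx with h0 | ⟨q, hq, hne⟩
    · exact Rep.eq_one hXF hK'.faith (h0 ▸ hrepF r hF)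
    · exfalso
      have he := extra_ok
      simp only [cExtra, List.all_eq_true, Bool.and_eq_true] at he
      obtain ⟨⟨⟨h1, h2⟩, h3⟩, h4⟩ := he q hq
      have hb1 := h1; simp only [eqc, Bool.and_eq_true, bnd_iff] at hb1
      have hb2 := h2; simp only [eqc, Bool.and_eq_true, bnd_iff] at hb2
      have e : val (gam E σ) (7 :: q.1 ++ (7 :: q.2.2.1.reverse)) = 1 := by
        rw [← hrepE _ h3]
        simp only [List.cons_append, val_cons, val_append, val_reverse (gam_sq E hσ2)]
        rw [val_gam E σ hb1.1.1, val_gam E σ hb1.1.2, val_gam E σ hb2.1.1, val_gam E σ hb2.1.2,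
          val_uc_eq h1, val_uc_eq h2]
      exact hne (Rep.zero_of_one hXF hK'.faith (e ▸ hrepF _ h4))

end Cfsg.Agent.McLRecogRel21
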