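import Mathlib
import Cfsg.Agent.Lib.McLRecogRel21
import Cfsg.Agent.Lib.CosetCertMcLAmal21
import Cfsg.Agent.Lib.McLOddBound13
import Cfsg.Agent.Lib.AltCoverUnique21
import Cfsg.Agent.Lib.SignalizerStrongEmb

/-!
A group with an involution whose centraliser is the nonsplit double cover of the alternating group of
degree eight is either the centraliser times the odd core, or the McLaughlin group.
-/

set_option autoImplicit false
set_option maxHeartbeats 1000000
set_option maxRecDepth 100000
set_option linter.style.haveILetI false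

namespace Cfsg.Agent.McLRecogAssemble21

open Cfsg Cfsg.Agent.McLRecogModel21 Cfsg.Agent.McLRecogVec21 Cfsg.Agent.McLRecogSide21
open Cfsg.Agent.McLRecogRel21
open Cfsg.Agent.McLInvolution (P T0 hT0 baseInj Cc τ τC τ_mem card_P card_Cc orderOf_τC one_class centEquiv)
open Cfsg.Agent.McLInvolutionData (base perms)
open Cfsg.Agent.CosetCertCore (val val_nil val_cons)
open Cfsg.Agent.PermImageCert Cfsg.Agent.PermWordCert

/-- The relators hold in the model, and the model is generated by the eight involutions. -/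
theorem model_ok : relList.all (fun r => eqv r []) = true ∧
    McLRecogData21.pWords.length = (allCodes perms).length ∧
    (McLRecogData21.pWords.all (bnd 8)) = true ∧
    (List.range (allCodes perms).length).all (fun i =>
      key T0 base [i] == key8 (McLRecogData21.pWords.getD i [])) = true ∧
    Cfsg.Agent.CosetCertMcLAmal21Data.cert.sgens = [[0], [1], [2], [3], [4], [5], [6]] ∧
    Cfsg.Agent.CosetCertMcLAmal21Data.table.N = 22275 ∧
    Cfsg.Agent.CosetCertMcLAmal21Data.table.NG = 8 := by
  decide +kernel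

/-- The centraliser inside the group. -/
noncomputable def incl : Cc →* P where
  toFun c := ⟨c, c.2.1⟩
  map_one' := rfl
  map_mul' _ _ := rfl

theorem incl_injective : Function.Injective incl := fun a b e =>
  Subtype.ext (congrArg (fun x : P => (x : Equiv.Perm (Fin 275))) e)

theorem incl_uc {i : ℕ} (hi : i < 7) : incl (uc i) = uP i := Subtype.ext (uc_coe hi)

theorem mem_range_incl {x : P} (hx : x * incl τC = incl τC * x) : x ∈ incl.range :=
  ⟨⟨x, x.2, Subgroup.mem_centralizer_singleton_iff.mpr (congrArg Subtype.val hx)⟩, rfl⟩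

theorem generated (x : P) : x ∈ Subgroup.closure {y | ∃ i < 8, y = uP i} := by
  obtain ⟨-, hlen, hb, hkey, -⟩ := model_ok
  simp only [List.all_eq_true, List.mem_range, beq_iff_eq, bnd_iff] at hb hkey
  suffices h : ∀ σ ∈ P, ∃ y ∈ Subgroup.closure {y | ∃ i < 8, y = uP i}, ((y : P) : Equiv.Perm (Fin 275)) = σ by
    obtain ⟨y, hy, e⟩ := h x x.2
    rwa [Subtype.ext e] at hy
  intro σ hσ
  induction hσ using Subgroup.closure_induction with
  | mem σ hσ' =>
    obtain ⟨c, hc, hσc⟩ := hσ'
    obtain ⟨i, hi, rfl⟩ := List.getElem_of_mem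
      (show c ∈ allCodes perms from List.mem_append_left _ hc)
    have hwb := hb _ (getD_mem [] (hlen.symm ▸ hi))
    refine ⟨val uP (McLRecogData21.pWords.getD i []), list_prod_mem fun y hy => ?_, ?_⟩
    · obtain ⟨j, hj, rfl⟩ := List.mem_map.mp hy
      exact Subgroup.subset_closure ⟨j, hwb j hj, rfl⟩
    · rw [val_uP]
      have hσP : σ ∈ P := Subgroup.subset_closure ⟨_, hc, hσc⟩
      have hσa : Act T0 [i] σ := fun k => by
        show (σ k : ℕ) = get (T0.getD i 0) k
        rw [hσc k, show T0.getD i 0 = (allCodes perms)[i] from List.getD_eq_getElem _ _ hi]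
      have ha := act_val _ hwb
      have h' : key T0 base [i] = key8 (McLRecogData21.pWords.getD i []) := hkey i hi
      have e : (val u (McLRecogData21.pWords.getD i []))⁻¹ * σ = 1 :=
        baseInj _ (mul_mem (inv_mem (val_u_mem _)) hσP) fun k hk => by
          rw [Equiv.Perm.mul_apply, Equiv.Perm.inv_eq_iff_eq]
          refine Fin.ext ?_
          rw [hσa k, ha k]
          exact List.map_inj_left.mp h' _ hk
      exact inv_mul_eq_one.mp e
  | one => exact ⟨1, one_mem _, rfl⟩
  | mul a b _ _ iha ihb =>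
    obtain ⟨y, hy, rfl⟩ := iha
    obtain ⟨z, hz, rfl⟩ := ihb
    exact ⟨y * z, mul_mem hy hz, rfl⟩
  | inv a _ iha =>
    obtain ⟨y, hy, rfl⟩ := iha
    exact ⟨y⁻¹, inv_mem hy, rfl⟩

section

variable {G : Type} [Group G] [Finite G] (E : Emb G)

/-- The homomorphism from the model. -/
theorem exists_hom (hconj : IsConj (E.φ τC) (E.φ (uc 0))) :
    ∃ ψ : P →* G, ∀ c : Cc, ψ (incl c) = E.φ c := by
  obtain ⟨σ, hσ, hrel⟩ := exists_sigma E hconj
  obtain ⟨hrels, -, -, -, hsg, hN, hNG⟩ := model_ok
  simp only [List.all_eq_true] at hrels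
  set D : Subgroup (P × G) := Subgroup.closure {y | ∃ i < 8, y = (uP i, gam E σ i)} with hD
  have hgm : ∀ i, i < 8 → ((uP i, gam E σ i) : P × G) ∈ D := fun i hi =>
    Subgroup.subset_closure ⟨i, hi, rfl⟩
  let g : ℕ → D := fun i => if h : i < 8 then ⟨_, hgm i h⟩ else 1
  have hg : ∀ i, g i * g i = 1 := by
    intro i
    simp only [g]
    split
    · exact Subtype.ext (Prod.ext (uP_sq i) (gam_sq E hσ i))
    · exact one_mul 1
  have hval : ∀ w : List ℕ, (∀ x ∈ w, x < 8) → ((val g w : D) : P × G) = (val uP w, val (gam E σ) w) := by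
    intro w hw
    induction w with
    | nil => rfl
    | cons x w ih =>
      rw [val_cons, val_cons, val_cons, Subgroup.coe_mul, ih (fun y hy => hw y (List.mem_cons_of_mem _ hy))]
      simp only [g, dif_pos (hw x List.mem_cons_self)]
      rfl
  let H : Subgroup D :=
    { carrier := {d | ∃ c : Cc, (d : P × G) = (incl c, E.φ c)}
      one_mem' := ⟨1, by rw [map_one, map_one]; rfl⟩
      mul_mem' := by
        rintro a b ⟨c, hc⟩ ⟨c', hc'⟩
        exact ⟨c * c', by rw [Subgroup.coe_mul, hc, hc', map_mul, map_mul]; rfl⟩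
      inv_mem' := by
        rintro a ⟨c, hc⟩
        exact ⟨c⁻¹, by rw [Subgroup.coe_inv, hc, map_inv, map_inv]; rfl⟩ }
  have hcert : ∀ w ∈ Cfsg.Agent.CosetCertMcLAmal21Data.cert.rels, val g w = 1 := by
    intro w hw
    have h1 := hrels w hw
    have h8 : ∀ x ∈ w, x < 8 := by
      have := h1; simp only [eqv, Bool.and_eq_true, bnd_iff] at this; exact this.1.1
    refine Subtype.ext ?_
    rw [hval w h8, val_uP_eq h1, hrel w hw, val_nil]
    rfl
  have hsub : ∀ w ∈ Cfsg.Agent.CosetCertMcLAmal21Data.cert.sgens, val g w ∈ H := by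
    intro w hw
    rw [hsg] at hw
    have hone : ∀ i < 7, val g [i] ∈ H := fun i hi => ⟨uc i, by
      rw [val_cons, val_nil, mul_one, incl_uc hi]
      simp only [g, dif_pos (show i < 8 by omega), gam_lt E σ hi]⟩
    simp only [List.mem_cons, List.not_mem_nil, or_false] at hw
    rcases hw with rfl | rfl | rfl | rfl | rfl | rfl | rfl <;> exact hone _ (by norm_num)
  have hgen : Subgroup.closure {y | ∃ x, x < Cfsg.Agent.CosetCertMcLAmal21Data.table.NG ∧ y = g x} = ⊤ := by
    rw [hNG, eq_top_iff]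
    rintro ⟨d, hd⟩ -
    suffices h : ∃ h : d ∈ D, (⟨d, h⟩ : D) ∈ Subgroup.closure {y | ∃ x, x < 8 ∧ y = g x} from h.2
    induction hd using Subgroup.closure_induction with
    | mem y hy =>
      obtain ⟨i, hi, rfl⟩ := hy
      exact ⟨hgm i hi, Subgroup.subset_closure ⟨i, hi, by simp only [g, dif_pos hi]⟩⟩
    | one => exact ⟨one_mem _, one_mem _⟩
    | mul a b _ _ iha ihb => exact ⟨mul_mem iha.1 ihb.1, mul_mem iha.2 ihb.2⟩
    | inv a _ iha => exact ⟨inv_mem iha.1, inv_mem iha.2⟩
  obtain ⟨-, hle⟩ := CosetCertOrder.cosets_le Cfsg.Agent.CosetCertMcLAmal21.closed g H hg hcert hsub hgen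
  rw [hN] at hle
  have hH : Nat.card H ≤ 40320 := by
    rw [← card_Cc]
    refine Nat.card_le_card_of_injective (fun d : H => d.2.choose) ?_
    intro a b e
    exact Subtype.ext (Subtype.ext (a.2.choose_spec.trans ((congrArg (fun c => (incl c, E.φ c)) e).trans
      b.2.choose_spec.symm)))
  have hmul : Nat.card (D ⧸ H) * Nat.card H = Nat.card D := (Subgroup.card_eq_card_quotient_mul_card_subgroup H).symm
  let p1 : D →* P := (MonoidHom.fst P G).comp D.subtype
  have hsurj : Function.Surjective p1 := by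
    rw [← MonoidHom.range_eq_top, eq_top_iff]
    intro x _
    refine (Subgroup.closure_le _).mpr ?_ (generated x)
    rintro y ⟨i, hi, rfl⟩
    exact ⟨⟨_, hgm i hi⟩, rfl⟩
  have hge : 898128000 ≤ Nat.card D := card_P ▸ Nat.card_le_card_of_surjective p1 hsurj
  have hD2 : Nat.card D ≤ 22275 * Nat.card H := hmul ▸ Nat.mul_le_mul_right _ hle
  have hH2 : Nat.card H = 40320 := by omega
  have hbij : Function.Bijective p1 := (Nat.bijective_iff_surjective_and_card p1).2 ⟨hsurj, by
    rw [card_P]; omega⟩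
  have hgraph : ∀ c : Cc, ((incl c, E.φ c) : P × G) ∈ D := by
    intro c
    have hb : Function.Bijective (fun d : H => d.2.choose) :=
      (Nat.bijective_iff_injective_and_card _).2 ⟨fun a b e =>
        Subtype.ext (Subtype.ext (a.2.choose_spec.trans ((congrArg (fun c => (incl c, E.φ c)) e).trans
          b.2.choose_spec.symm))), by rw [hH2, card_Cc]⟩
    obtain ⟨d, hd⟩ := hb.2 c
    have h := d.2.choose_spec
    change d.2.choose = c at hd
    rw [hd] at h
    exact h ▸ (d : D).2
  let e := MulEquiv.ofBijective p1 hbij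
  refine ⟨(MonoidHom.snd P G).comp (D.subtype.comp e.symm.toMonoidHom), fun c => ?_⟩
  have : e.symm (incl c) = ⟨_, hgraph c⟩ := e.injective (by rw [e.apply_symm_apply]; rfl)
  show (((e.symm (incl c)) : D) : P × G).2 = E.φ c
  rw [this]

omit [Finite G] in
theorem hom_injective {ψ : P →* G} (hψ : ∀ c : Cc, ψ (incl c) = E.φ c) : Function.Injective ψ := by
  rw [← MonoidHom.ker_eq_bot_iff, Subgroup.eq_bot_iff_forall]
  have hto : orderOf (incl τC) = 2 := (orderOf_injective incl incl_injective τC).trans orderOf_τC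
  -- no involution is in the kernel
  have hno : ∀ x : P, orderOf x = 2 → ψ x ≠ 1 := by
    intro x hx e
    obtain ⟨g, hg⟩ := isConj_iff.mp (one_class x (incl τC) hx hto)
    have : ψ (incl τC) = 1 := by rw [← hg, map_mul, map_mul, e, mul_one, ← map_mul, mul_inv_cancel, map_one]
    rw [hψ, ← map_one E.φ] at this
    have h1 := E.inj this
    have h2 := orderOf_τC
    rw [h1, orderOf_one] at h2
    exact absurd h2 (by norm_num)
  -- an involution centralises no nontrivial element of the kernel
  have hfpf : ∀ x : P, orderOf x = 2 → ∀ n ∈ ψ.ker, n * x = x * n → n = 1 := by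
    intro x hx n hn hc
    obtain ⟨g, hg⟩ := isConj_iff.mp (one_class x (incl τC) hx hto)
    obtain ⟨c, hc'⟩ := mem_range_incl (x := g * n * g⁻¹) (by
      rw [← hg]
      calc g * n * g⁻¹ * (g * x * g⁻¹) = g * (n * x) * g⁻¹ := by group
        _ = _ := by rw [hc]; group)
    have h1 : E.φ c = 1 := by
      rw [← hψ, hc', map_mul, map_mul, hn, mul_one, ← map_mul, mul_inv_cancel, map_one]
    have h2 : c = 1 := E.inj (h1.trans (map_one _).symm)
    rw [h2, map_one, eq_comm, conj_eq_one_iff] at hc'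
    exact hc'
  have hinv : ∀ x : P, orderOf x = 2 → ∀ n ∈ ψ.ker, x * n * x = n⁻¹ := by
    intro x hx m hm
    have hx2 : x * x = 1 := SignalizerStrongEmb.involution_mul_self hx
    let f : ψ.ker → ψ.ker := fun n => ⟨(n : P)⁻¹ * (x * n * x), mul_mem (inv_mem n.2) (by
      have h := n.2
      rw [MonoidHom.mem_ker] at h ⊢
      rw [map_mul, map_mul, h, mul_one, ← map_mul, hx2, map_one])⟩
    have hf : Function.Injective f := by
      intro a b e
      have e' : (a : P)⁻¹ * (x * a * x) = (b : P)⁻¹ * (x * b * x) := congrArg Subtype.val e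
      have h3 : (b : P) * (a : P)⁻¹ * x = x * ((b : P) * (a : P)⁻¹) := by
        calc (b : P) * (a : P)⁻¹ * x = (b : P) * ((a : P)⁻¹ * (x * a * x)) * (x * a * x)⁻¹ * x := by group
          _ = (b : P) * ((b : P)⁻¹ * (x * b * x)) * (x * a * x)⁻¹ * x := by rw [e']
          _ = x * ((b : P) * (a : P)⁻¹) := by group
      have := hfpf x hx _ (mul_mem b.2 (inv_mem a.2)) h3
      exact Subtype.ext (mul_inv_eq_one.mp this).symm
    obtain ⟨⟨n, hn⟩, hnm⟩ := (Finite.injective_iff_surjective.mp hf) ⟨m, hm⟩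
    have e : n⁻¹ * (x * n * x) = m := congrArg Subtype.val hnm
    rw [← e]
    calc x * (n⁻¹ * (x * n * x)) * x = x * n⁻¹ * x * n * (x * x) := by group
      _ = x * n⁻¹ * x * n := by rw [hx2, mul_one]
      _ = (n⁻¹ * (x * n * x))⁻¹ := by
        rw [mul_inv_rev, mul_inv_rev, mul_inv_rev, inv_inv, inv_eq_of_mul_eq_one_right hx2]; group
  intro m hm
  obtain ⟨hX, h1, h2⟩ := vecC McLRecogCheckSide21.okE
  have hu : orderOf (incl (uc 0)) = 2 := by
    rw [orderOf_injective incl incl_injective]
    refine orderOf_eq_prime (by rw [sq]; exact uc_sq 0) fun e => ?_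
    exact absurd (hX.inj 2 (by norm_num) 0 (by norm_num) (by rw [h2, e, hX.zero])) (by norm_num)
  have htu : orderOf (incl (τC * uc 0)) = 2 := by
    rw [orderOf_injective incl incl_injective]
    have e3 : McLRecogSide21.xc McLRecogData21.sideE 3 = τC * uc 0 := by
      rw [show (3 : ℕ) = 1 ^^^ 2 from rfl, ← hX.mul 1 (by norm_num) 2 (by norm_num), h1, h2]
    rw [← e3]
    refine orderOf_eq_prime (by rw [sq]; exact hX.sq (by norm_num)) fun e => ?_
    exact absurd (hX.inj 3 (by norm_num) 0 (by norm_num) (e.trans hX.zero.symm)) (by norm_num)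
  have hsq : m = m⁻¹ := by
    have a := hinv _ htu m hm
    have b := hinv _ hu m hm
    have c := hinv _ hto m⁻¹ (inv_mem hm)
    rw [map_mul, show incl τC * incl (uc 0) = incl (uc 0) * incl τC by
      rw [← map_mul, ← map_mul, Subgroup.mem_center_iff.mp
        (McLInvolution.zpowers_le_center (Subgroup.mem_zpowers _)) (uc 0)]] at a
    nth_rewrite 2 [show incl (uc 0) * incl τC = incl τC * incl (uc 0) by
      rw [← map_mul, ← map_mul, Subgroup.mem_center_iff.mp
        (McLInvolution.zpowers_le_center (Subgroup.mem_zpowers _)) (uc 0)]] at a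
    have : incl (uc 0) * (incl τC * m * incl τC) * incl (uc 0) = m⁻¹ := by rw [← a]; group
    rw [hinv _ hto m hm, hinv _ hu _ (inv_mem hm), inv_inv] at this
    exact this
  by_contra hm1
  exact hno m (orderOf_eq_prime (by rw [sq]; nth_rewrite 1 [hsq]; exact inv_mul_cancel m) hm1) hm

theorem card_quot : Nat.card (P ⧸ Subgroup.centralizer ({(⟨τ, τ_mem⟩ : P)} : Set P)) = 22275 := by
  have h := Subgroup.card_eq_card_quotient_mul_card_subgroup
    (Subgroup.centralizer ({(⟨τ, τ_mem⟩ : P)} : Set P))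
  rw [card_P, Nat.card_congr centEquiv.toEquiv, card_Cc] at h
  omega

/-- The image of the model is everything. -/
theorem hom_surjective {ψ : P →* G} (hψ : ∀ c : Cc, ψ (incl c) = E.φ c) : Function.Surjective ψ := by
  have hinj := hom_injective E hψ
  rw [← MonoidHom.range_eq_top]
  by_contra hne
  set H := ψ.range
  have hto : orderOf (incl τC) = 2 := (orderOf_injective incl incl_injective τC).trans orderOf_τC
  have hcl : ∀ t ∈ H, orderOf t = 2 → ∃ h ∈ H, h * E.φ τC * h⁻¹ = t := by
    rintro t ⟨x, rfl⟩ ht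
    rw [orderOf_injective ψ hinj] at ht
    obtain ⟨g, hg⟩ := isConj_iff.mp (one_class (incl τC) x hto ht)
    exact ⟨ψ g, ⟨g, rfl⟩, by rw [← hψ, ← map_inv, ← map_mul, ← map_mul, hg]⟩
  have hSE : Cfsg.IsStronglyEmbedded H := by
    refine SignalizerStrongEmb.isStronglyEmbedded_of_centralizer hne ?_ ?_ ?_
    · exact SignalizerStrongEmb.even_card_of_involution_mem
        ((orderOf_injective ψ hinj (incl τC)).trans hto) ⟨incl τC, rfl⟩
    · intro t htH ht y hy
      obtain ⟨h, hh, rfl⟩ := hcl t htH ht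
      rw [Subgroup.mem_centralizer_singleton_iff] at hy
      have hy' : h⁻¹ * y * h ∈ H := by
        obtain ⟨c, hc⟩ := E.cent (h⁻¹ * y * h) (by
          calc h⁻¹ * y * h * E.φ τC = h⁻¹ * (y * (h * E.φ τC * h⁻¹)) * h := by group
            _ = _ := by rw [hy]; group)
        exact ⟨incl c, by rw [hψ, hc]⟩
      have e : y = h * (h⁻¹ * y * h) * h⁻¹ := by group
      rw [e]
      exact mul_mem (mul_mem hh hy') (inv_mem hh)
    · intro t htH s hsH ht hs _
      obtain ⟨a, ha, rfl⟩ := hcl t htH ht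
      obtain ⟨b, hb, rfl⟩ := hcl s hsH hs
      exact ⟨b * a⁻¹, mul_mem hb (inv_mem ha), by group⟩
  obtain ⟨w, hwH, hw⟩ := SignalizerStrongEmb.exists_involution_not_mem hSE
  set D := H ⊓ H.map (MulAut.conj w).toMonoidHom
  have hodd : Odd (Nat.card D) := by
    rw [← Nat.not_even_iff_odd]
    intro he
    obtain ⟨d, hd, hd2⟩ := SignalizerStrongEmb.exists_involution_of_even he
    obtain ⟨h1, h2⟩ := Subgroup.mem_inf.mp hd
    rw [SignalizerStrongEmb.mem_conj_iff] at h2
    have := SignalizerStrongEmb.mem_of_conj_mem hSE hd2 h1 (g := w⁻¹) (by rwa [inv_inv])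
    exact hwH (inv_mem_iff.mp this)
  let D' : Subgroup P := D.comap ψ
  have hD' : Nat.card D' = Nat.card D := by
    refine Nat.card_eq_of_bijective (fun d : D' => (⟨ψ d, d.2⟩ : D)) ⟨fun a b e => ?_, ?_⟩
    · exact Subtype.ext (hinj (congrArg Subtype.val e))
    · rintro ⟨y, hy⟩
      obtain ⟨x, rfl⟩ := (Subgroup.mem_inf.mp hy).1
      exact ⟨⟨x, hy⟩, rfl⟩
  refine McLOddBound13.no_odd D' (hD'.symm ▸ hodd) ?_
  set C := Subgroup.centralizer ({(⟨τ, τ_mem⟩ : P)} : Set P)
  have htrans : ∀ q : P ⧸ C, ∃ d : D', (d : P) • ((1 : P) : P ⧸ C) = q := by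
    intro q
    induction q using QuotientGroup.induction_on with
    | H g =>
      have hτ' : incl τC = (⟨τ, τ_mem⟩ : P) := rfl
      obtain ⟨d, hd, hdt⟩ := SignalizerStrongEmb.exists_conj_in_inf hSE hw hwH
        (s := ψ (incl τC)) (t := ψ (g * incl τC * g⁻¹))
        ((orderOf_injective ψ hinj _).trans hto) ⟨_, rfl⟩
        ((orderOf_injective ψ hinj _).trans ((SignalizerStrongEmb.orderOf_conj g _).trans hto)) ⟨_, rfl⟩
      obtain ⟨x, rfl⟩ := (Subgroup.mem_inf.mp hd).1
      refine ⟨⟨x, hd⟩, ?_⟩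
      rw [← map_inv, ← map_mul, ← map_mul] at hdt
      have hx := hinj hdt
      show ((x * 1 : P) : P ⧸ C) = _
      rw [mul_one, QuotientGroup.eq, Subgroup.mem_centralizer_singleton_iff, ← hτ']
      calc x⁻¹ * g * incl τC = x⁻¹ * (g * incl τC * g⁻¹) * g := by group
        _ = _ := by rw [← hx]; group
  have horb : MulAction.orbit D' ((1 : P) : P ⧸ C) = Set.univ := Set.eq_univ_iff_forall.mpr htrans
  have hi := MulAction.index_stabilizer D' ((1 : P) : P ⧸ C)
  rw [horb, Set.ncard_univ, card_quot] at hi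
  exact hi ▸ Subgroup.index_dvd_card _

end

end Cfsg.Agent.McLRecogAssemble21
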