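import Mathlib
import Cfsg.Agent.Lib.McL3Base39
import Cfsg.Agent.Lib.CoprimeGen
import Cfsg.Agent.Lib.HallCore
import Cfsg.Agent.Lib.PGroupsBasic
import Cfsg.Agent.S3334

/-!
# S3367, S5523, S2913: no normal subgroup of odd order, and recognition from the double cover
-/

set_option autoImplicit false

namespace Cfsg.Agent.McL3x39

open Subgroup

/-- An element of order three of `SL₂(5)` has a product with a conjugate of even order. -/
theorem sl25_pair_even : ∀ a : Matrix.SpecialLinearGroup (Fin 2) (ZMod 5), a ^ 3 = 1 → a ≠ 1 →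
    ∃ b : Matrix.SpecialLinearGroup (Fin 2) (ZMod 5), (a * (b * a * b⁻¹)) ^ 15 ≠ 1 := by
  decide +kernel

variable {G : Type*} [Group G] [Finite G] {d : Data G}

theorem Loc.z_comm_t (l : Loc d) : d.z * l.t = l.t * d.z :=
  (mem_centralizer_singleton_iff.1 (d.L_le (l.L1_le l.t_mem_L1).1)).symm

theorem Loc.D_comm (l : Loc d) : d.z * l.x = l.x * d.z :=
  (mem_centralizer_singleton_iff.1 (d.L_le (l.L1_le l.x_mem_L1).1)).symm

theorem Loc.x_notMem_zpowers (l : Loc d) : l.x ∉ zpowers d.z := fun h => by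
  obtain ⟨i, hi⟩ := mem_zpowers_iff.1 h
  have hx3 : l.x ^ 3 = 1 := l.order_x ▸ pow_orderOf_eq_one l.x
  have h1 := Int.emod_nonneg i (show (3 : ℤ) ≠ 0 by norm_num)
  have h2 := Int.emod_lt_of_pos i (show (0 : ℤ) < 3 by norm_num)
  have hi' : d.z ^ (i % 3) = l.x := by
    rw [← hi, ← zpow_mod_orderOf d.z i, d.order_z]
    rfl
  have hne : l.x ≠ 1 := fun e => by
    have := l.order_x; rw [e, orderOf_one] at this; omega
  interval_cases hk : i % 3
  · exact hne (by rw [← hi', zpow_zero])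
  · exact l.z_notMem (by rw [zpow_one] at hi'; rw [hi']; exact l.x_mem_L1)
  · refine l.z_notMem ?_
    have : d.z = l.x ^ 2 := by
      rw [← hi', show (2 : ℤ) = ((2 : ℕ) : ℤ) by norm_num, zpow_natCast, ← pow_mul]
      conv_lhs => rw [← pow_one d.z]
      rw [pow_eq_pow_iff_modEq, d.order_z]
      rfl
    rw [this]
    exact l.L1.pow_mem l.x_mem_L1 2

variable (F : Frame d)

/-- `O(G)` is trivial, in the form needed for normal subgroups of index two. -/
theorem Frame.no_odd (hy : YLocal F) {O : Subgroup G} [O.Normal] (hodd : Odd (Nat.card O)) :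
    O = ⊥ := by
  haveI : Fact (Nat.Prime 3) := ⟨Nat.prime_three⟩
  have hx : F.x ^ 3 = 1 := F.order_x ▸ pow_orderOf_eq_one F.x
  have hz : d.z ^ 3 = 1 := d.order_z ▸ pow_orderOf_eq_one d.z
  -- conjugation by `n`
  have hnx : ∀ c ∈ O, c * F.x = F.x * c → (F.n⁻¹ * c * F.n) ∈ O ∧
      (F.n⁻¹ * c * F.n) * d.z = d.z * (F.n⁻¹ * c * F.n) := by
    intro c hc hcx
    refine ⟨by simpa using ‹O.Normal›.conj_mem c hc F.n⁻¹, ?_⟩
    have e : d.z = F.n⁻¹ * F.x * F.n := by rw [← F.n_z]; group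
    rw [e]
    calc F.n⁻¹ * c * F.n * (F.n⁻¹ * F.x * F.n) = F.n⁻¹ * (c * F.x) * F.n := by group
      _ = F.n⁻¹ * (F.x * c) * F.n := by rw [hcx]
      _ = _ := by group
  by_cases h3 : 3 ∣ Nat.card O
  · exfalso
    -- `z ∈ O`
    have hzO : d.z ∈ O := by
      haveI : (O.subgroupOf (d.S : Subgroup G)).Normal := normal_subgroupOf
      have hne : O.subgroupOf (d.S : Subgroup G) ≠ ⊥ := by
        intro hbot
        obtain ⟨a, ha⟩ := exists_prime_orderOf_dvd_card' 3 h3
        have hR : IsPGroup 3 (zpowers (a : G)) := IsPGroup.of_card (n := 1) (by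
          rw [Nat.card_zpowers, Subgroup.orderOf_coe, ha, pow_one])
        obtain ⟨P, hP⟩ := hR.exists_le_sylow
        obtain ⟨c, hc⟩ := MulAction.exists_smul_eq G P d.S
        have h1 : c * (a : G) * c⁻¹ ∈ (d.S : Subgroup G) := by
          rw [← hc, Sylow.coe_subgroup_smul]
          exact ⟨a, hP (mem_zpowers _), rfl⟩
        have h2 : (⟨c * (a : G) * c⁻¹, h1⟩ : (d.S : Subgroup G)) ∈ O.subgroupOf d.S :=
          ‹O.Normal›.conj_mem a a.2 c
        rw [hbot, mem_bot] at h2
        have : c * (a : G) * c⁻¹ = 1 := congrArg Subtype.val h2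
        rw [conj_eq_one_iff] at this
        rw [show a = 1 from Subtype.ext this, orderOf_one] at ha
        omega
      have hmem : ∃ c ∈ O.subgroupOf (d.S : Subgroup G), c ≠ 1 ∧ c ∈ center (d.S : Subgroup G) := by
        obtain ⟨⟨c, hc⟩, hc1⟩ :=
          ne_bot_iff_exists_ne_one.1 (PGroupsBasic.inf_center_ne_bot d.S.2 hne)
        exact ⟨c, hc.1, fun e => hc1 (Subtype.ext e), hc.2⟩
      obtain ⟨c, hcO, hc1, hcZ⟩ := hmem
      have hcz : (c : G) ∈ zpowers d.z := d.center_S.ge ⟨c.2, fun s hs =>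
        congrArg Subtype.val (mem_center_iff.1 hcZ ⟨s, hs⟩)⟩
      have hgen : zpowers (c : G) = zpowers d.z := by
        refine eq_of_le_of_card_ge (zpowers_le.2 hcz) ?_
        rw [Nat.card_zpowers, Nat.card_zpowers, d.order_z]
        rcases (Nat.dvd_prime Nat.prime_three).1 (d.order_z ▸ orderOf_dvd_of_mem_zpowers hcz) with h | h
        · exact absurd (Subtype.ext (orderOf_eq_one_iff.1 h)) hc1
        · exact h.ge
      obtain ⟨i, hi⟩ := mem_zpowers_iff.1 (hgen.ge (mem_zpowers d.z))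
      exact hi ▸ O.zpow_mem hcO i
    have hxO : F.x ∈ O := F.n_z ▸ ‹O.Normal›.conj_mem _ hzO F.n
    obtain ⟨e⟩ := F.eL1
    have hxe3 : e ⟨F.x, F.x_mem_L1⟩ ^ 3 = 1 := by
      rw [← map_pow, show (⟨F.x, F.x_mem_L1⟩ : F.L1) ^ 3 = 1 from Subtype.ext hx, map_one]
    have hxe1 : e ⟨F.x, F.x_mem_L1⟩ ≠ 1 := fun h => by
      have h' : (⟨F.x, F.x_mem_L1⟩ : F.L1) = 1 := e.injective (h.trans (map_one e).symm)
      have := F.order_x
      rw [show F.x = 1 from congrArg Subtype.val h', orderOf_one] at this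
      omega
    obtain ⟨b', hb⟩ := sl25_pair_even _ hxe3 hxe1
    obtain ⟨b, rfl⟩ := e.surjective b'
    rw [← map_inv, ← map_mul, ← map_mul, ← map_mul, ← map_pow] at hb
    set y : F.L1 := ⟨F.x, F.x_mem_L1⟩ * (b * ⟨F.x, F.x_mem_L1⟩ * b⁻¹)
    have hyO : (y : G) ∈ O := O.mul_mem hxO (‹O.Normal›.conj_mem _ hxO _)
    refine hb ?_
    have ho : orderOf y ∣ Nat.card O := by
      rw [← Subgroup.orderOf_coe y]
      exact O.orderOf_dvd_natCard hyO
    have h120 : orderOf y ∣ 120 := by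
      refine (orderOf_dvd_natCard y).trans ?_
      rw [Nat.card_congr e.toEquiv, Nat.card_eq_fintype_card]
      decide +kernel
    have h15 : orderOf y ∣ 15 :=
      ((((Nat.coprime_two_right.2 hodd).pow_right 3).coprime_dvd_left ho)).dvd_of_dvd_mul_left
        (show orderOf y ∣ 2 ^ 3 * 15 by norm_num; exact h120)
    rw [orderOf_dvd_iff_pow_eq_one.1 h15, map_one]
  -- the coprime case
  have hQO : ∀ q ∈ d.Q, q ∈ O → q = 1 := fun q hq hqO => orderOf_eq_one_iff.1 (by
    rcases (Nat.dvd_prime Nat.prime_three).1 (orderOf_dvd_of_pow_eq_one (d.exp_Q q hq)) with h | h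
    · exact h
    · exact absurd (h ▸ O.orderOf_dvd_natCard hqO) h3)
  have hJO : ∀ q ∈ d.J, q ∈ O → q = 1 := fun q hq hqO => orderOf_eq_one_iff.1 (by
    rcases (Nat.dvd_prime Nat.prime_three).1 (orderOf_dvd_of_pow_eq_one (d.J_exp q hq)) with h | h
    · exact h
    · exact absurd (h ▸ O.orderOf_dvd_natCard hqO) h3)
  have hcz : ∀ c ∈ O, c * d.z = d.z * c → c = 1 := by
    intro c hc hcz
    have hN : c ∈ normalizer (d.Q : Set G) :=
      d.Q_normal (d.cent_le_normalizer (mem_centralizer_singleton_iff.2 hcz))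
    refine hQO c (d.cent_Q fun q hq => ?_) hc
    have h1 : q * c * q⁻¹ * c⁻¹ ∈ d.Q := by
      rw [show q * c * q⁻¹ * c⁻¹ = q * (c * q⁻¹ * c⁻¹) by group]
      exact d.Q.mul_mem hq ((mem_normalizer_iff.1 hN _).1 (d.Q.inv_mem hq))
    have h2 : q * c * q⁻¹ * c⁻¹ ∈ O := O.mul_mem (‹O.Normal›.conj_mem c hc q) (O.inv_mem hc)
    exact mul_inv_eq_iff_eq_mul.1 (mul_inv_eq_one.1 (hQO _ h1 h2))
  have hp : CoprimeGen.IsPairAction 3 F.x d.z O :=
    { comm := F.D_comm.symm
      pow_left := hx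
      pow_right := hz
      right_ne := fun h => by have := d.order_z; rw [h, orderOf_one] at this; omega
      left_not_mem := F.toLoc.x_notMem_zpowers
      mem_left := by rw [O.normalizer_eq_top]; exact mem_top _
      mem_right := by rw [O.normalizer_eq_top]; exact mem_top _ }
  refine le_bot_iff.1 (CoprimeGen.le_of_pair_centralizers hp h3 fun a ha ha1 c hc => ?_)
  rw [mem_bot]
  have hca : c * a = a * c := mem_centralizer_singleton_iff.1 hc.2
  have haD : a ∈ closure ({d.z, F.x} : Set G) :=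
    CoprimeGen.pairSubgroup_le (subset_closure (by simp)) (subset_closure (by simp)) ha
  -- a generator of the same cyclic group commutes with `c`
  have hgen : ∀ g : G, orderOf g = 3 → a ∈ zpowers g → c * g = g * c := by
    intro g hg hag
    have : zpowers a = zpowers g := by
      refine eq_of_le_of_card_ge (zpowers_le.2 hag) ?_
      rw [Nat.card_zpowers, Nat.card_zpowers, hg]
      rcases (Nat.dvd_prime Nat.prime_three).1 (hg ▸ orderOf_dvd_of_mem_zpowers hag) with h | h
      · exact absurd (orderOf_eq_one_iff.1 h) ha1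
      · exact h.ge
    obtain ⟨i, hi⟩ := mem_zpowers_iff.1 (this.ge (mem_zpowers g))
    rw [← hi]
    exact ((show Commute c a from hca).zpow_right i).eq
  by_cases haz : a ∈ zpowers d.z
  · exact hcz c hc.1 (hgen _ d.order_z haz)
  by_cases hax : a ∈ zpowers F.x
  · obtain ⟨h1, h2⟩ := hnx c hc.1 (hgen _ F.order_x hax)
    have h4 : F.n⁻¹ * c * F.n⁻¹⁻¹ = 1 := by rw [inv_inv]; exact hcz _ h1 h2
    exact conj_eq_one_iff.1 h4
  have hN := hy a haD haz hax (mem_centralizer_singleton_iff.2 hca)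
  refine hJO c ?_ hc.1
  rw [← d.cent_J]
  intro j hj
  have h1 : j * c * j⁻¹ * c⁻¹ ∈ d.J := by
    rw [show j * c * j⁻¹ * c⁻¹ = j * (c * j⁻¹ * c⁻¹) by group]
    exact d.J.mul_mem hj ((mem_normalizer_iff.1 hN _).1 (d.J.inv_mem hj))
  have h2 : j * c * j⁻¹ * c⁻¹ ∈ O := O.mul_mem (‹O.Normal›.conj_mem c hc.1 j) (O.inv_mem hc.1)
  exact mul_inv_eq_iff_eq_mul.1 (mul_inv_eq_one.1 (hJO _ h1 h2))

/-- A normal subgroup containing `Q` and `t` in which the centralizer of `t` is the double cover is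
`McL`. -/
theorem Frame.mcl_of_normal (hy : YLocal F) {N : Subgroup G} [hN : N.Normal] (hQ : d.Q ≤ N)
    (ht : F.t ∈ N)
    (hcov : Cfsg.IsNonsplitDoubleCover (centralizer ({(⟨F.t, ht⟩ : N)} : Set N))
      (alternatingGroup (Fin 8))) :
    Nonempty (N ≃* Cfsg.Spor.McL) := by
  have hO : Cfsg.oddCore N = ⊥ := by
    set O := (Cfsg.oddCore N).map N.subtype with hOdef
    haveI : O.Normal := ⟨fun a ha g => by
      obtain ⟨b, hb, rfl⟩ := ha
      refine ⟨MulAut.conjNormal g b, ?_, rfl⟩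
      show MulAut.conjNormal g b ∈ Cfsg.pPrimeCore 2 N
      rw [← HallCore.map_equiv_pPrimeCore (MulAut.conjNormal g : N ≃* N)]
      exact ⟨b, hb, rfl⟩⟩
    have hodd : Odd (Nat.card O) := by
      rw [hOdef, card_map_of_injective N.subtype_injective]
      exact Nat.coprime_two_right.1 (HallCore.coprime_card_pPrimeCore 2 N)
    exact (Subgroup.map_eq_bot_iff_of_injective _ N.subtype_injective).1 (F.no_odd hy hodd)
  rcases S3334.result (⟨F.t, ht⟩ : N) (by rw [← Subgroup.orderOf_coe]; exact F.order_t) hcov with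
    h | h
  swap
  · exact h
  exfalso
  rw [hO, sup_bot_eq] at h
  have hle : d.Q ≤ zpowers d.z := fun q hq => F.cent_Q_t q hq
    (congrArg Subtype.val (mem_centralizer_singleton_iff.1
      (h.ge (mem_top (⟨q, hQ hq⟩ : N)))))
  have := card_le_of_le hle
  rw [d.card_Q, Nat.card_zpowers, d.order_z] at this
  omega

/-- The case of the McLaughlin group. -/
theorem mcl_of_cover (hy : YLocal F)
    (h : Cfsg.IsNonsplitDoubleCover (centralizer ({F.t} : Set G)) (alternatingGroup (Fin 8))) :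
    Nonempty (G ≃* Cfsg.Spor.McL) := by
  have hO : Cfsg.oddCore G = ⊥ :=
    F.no_odd hy (Nat.coprime_two_right.1 (HallCore.coprime_card_pPrimeCore 2 G))
  rcases S3334.result F.t F.order_t h with h | h
  swap
  · exact h
  exfalso
  rw [hO, sup_bot_eq] at h
  have hle : d.Q ≤ zpowers d.z := fun q hq =>
    F.cent_Q_t q hq (mem_centralizer_singleton_iff.1 (h.ge (mem_top q)))
  have := card_le_of_le hle
  rw [d.card_Q, Nat.card_zpowers, d.order_z] at this
  omega

end Cfsg.Agent.McL3x39
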