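import Cfsg.Agent.Lib.McL3A6Facts39
import Cfsg.Agent.Lib.McL3Base39
import Cfsg.Agent.Lib.LocGroup56
import Cfsg.Agent.Lib.HallCore

/-!
# S3367: the centralizers of the non-central elements of `J`
-/

set_option autoImplicit false
set_option linter.unusedSectionVars false

namespace Cfsg.Agent.McL3x39

open Subgroup

variable {G : Type*} [Group G] [Finite G]

theorem Data.cube_mem_J (d : Data G) {s : G} (hs : s ∈ (d.S : Subgroup G)) : s ^ 3 ∈ d.J := by
  set A : Subgroup (d.S : Subgroup G) := d.J.subgroupOf (d.S : Subgroup G) with hA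
  haveI : A.Normal := normal_subgroupOf_iff d.J_le_S |>.2 fun j s hj hs' =>
    (mem_normalizer_iff.1 (d.S_le_normalizer hs') j).1 hj
  have hcard : A.index = 9 := by
    have h := A.card_mul_index
    have hc : Nat.card A = 81 := (Nat.card_congr (subgroupOfEquivOfLe d.J_le_S).toEquiv).trans d.card_J
    rw [hc, d.card_S] at h
    omega
  obtain ⟨x, hx⟩ : ∃ x : (d.S : Subgroup G), (x : G) = s := ⟨⟨s, hs⟩, rfl⟩
  obtain ⟨j, hj, q, hq, e⟩ : ∃ j ∈ d.J, ∃ q ∈ d.Q, s = j * q := by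
    have h2 : s ∈ ((d.J ⊔ d.Q : Subgroup G) : Set G) := d.J_sup_Q ▸ hs
    rw [coe_mul_of_left_le_normalizer_right d.J d.Q (d.J_le_S.trans (d.S_le_L.trans d.L_le_normalizer))]
      at h2
    obtain ⟨j, hj, q, hq, e⟩ := h2
    exact ⟨j, hj, q, hq, e.symm⟩
  have hqn := d.S_le_normalizer (d.Q_le_S hq)
  have hjc : ∀ i ∈ d.J, q * i * q⁻¹ ∈ d.J := fun i hi => (mem_normalizer_iff.1 hqn i).1 hi
  rw [e, show (j * q) ^ 3 = j * (q * j * q⁻¹) * (q * (q * j * q⁻¹) * q⁻¹) * q ^ 3 by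
    simp only [pow_succ, pow_zero, one_mul]; group, d.exp_Q q hq, mul_one]
  exact d.J.mul_mem (d.J.mul_mem hj (hjc j hj)) (hjc _ (hjc j hj))

/-- The only conjugates of `z` in `J ∩ Q` are in `⟨z⟩`. -/
theorem Data.conj_meet (d : Data G) {g : G} (hJ : g * d.z * g⁻¹ ∈ d.J) (hQ : g * d.z * g⁻¹ ∈ d.Q) :
    g * d.z * g⁻¹ ∈ zpowers d.z := by
  classical
  haveI : Fact (Nat.Prime 3) := ⟨Nat.prime_three⟩
  obtain ⟨m, hm, hmz⟩ := d.fusion_J d.z_mem_J hJ
  rw [← hmz] at hJ hQ ⊢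
  set b := m * d.z * m⁻¹ with hb
  set S' := (d.S : Subgroup G).map (MulAut.conj m).toMonoidHom with hS'
  have hbc : ∀ s ∈ S', s * b = b * s := by
    rintro _ ⟨s, hs, rfl⟩
    show m * s * m⁻¹ * b = b * (m * s * m⁻¹)
    rw [hb]
    calc m * s * m⁻¹ * (m * d.z * m⁻¹) = m * (s * d.z) * m⁻¹ := by group
      _ = m * (d.z * s) * m⁻¹ := by rw [d.z_comm_S hs]
      _ = _ := by group
  by_contra hbz
  -- an element of `Q` outside `J` centralizing `b`
  obtain ⟨q, hq, hqJ, hqb⟩ : ∃ q ∈ d.Q, q ∉ d.J ∧ q * b = b * q := by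
    by_contra hcon
    push Not at hcon
    let f : d.Q → zpowers d.z := fun q => ⟨(q : G) * b * (q : G)⁻¹ * b⁻¹, d.comm_Q q q.2 b hQ⟩
    have hfib : ∀ c, Nat.card {q : d.Q // f q = c} ≤ 27 := fun c => by
      by_cases hne : Nonempty {q : d.Q // f q = c}
      · obtain ⟨⟨r, hr⟩⟩ := hne
        rw [← d.card_meet]
        refine Nat.card_le_card_of_injective
          (fun q : {q : d.Q // f q = c} => (⟨(r : G)⁻¹ * ((q : d.Q) : G), ?_⟩ : (d.J ⊓ d.Q : Subgroup G))) ?_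
        · have hQm := d.Q.mul_mem (d.Q.inv_mem r.2) (q : d.Q).2
          refine ⟨?_, hQm⟩
          by_contra hJm
          refine hcon _ hQm hJm ?_
          have e : ((q : d.Q) : G) * b * ((q : d.Q) : G)⁻¹ * b⁻¹ = (r : G) * b * (r : G)⁻¹ * b⁻¹ :=
            congrArg Subtype.val (q.2.trans hr.symm)
          have e1 : ((q : d.Q) : G) * b * ((q : d.Q) : G)⁻¹ = (r : G) * b * (r : G)⁻¹ :=
            mul_right_cancel e
          calc (r : G)⁻¹ * ((q : d.Q) : G) * b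
              = (r : G)⁻¹ * (((q : d.Q) : G) * b * ((q : d.Q) : G)⁻¹) * ((q : d.Q) : G) := by group
            _ = _ := by rw [e1]; group
        · intro q q' h
          exact Subtype.ext (Subtype.ext (mul_left_cancel (congrArg Subtype.val h)))
      · rw [not_nonempty_iff] at hne
        simp [Nat.card_of_isEmpty]
    haveI := Fintype.ofFinite (zpowers d.z : Subgroup G)
    have hsum : Nat.card d.Q ≤ 81 := by
      rw [← Nat.card_congr (Equiv.sigmaFiberEquiv f), Nat.card_sigma]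
      refine (Finset.sum_le_sum fun c _ => hfib c).trans ?_
      rw [Finset.sum_const, Finset.card_univ, ← Nat.card_eq_fintype_card, Nat.card_zpowers, d.order_z]
      norm_num
    rw [d.card_Q] at hsum
    omega
  haveI := d.J_sub
  obtain ⟨eM⟩ := d.eM
  have hS'M : S' ≤ d.M0 := by
    rintro _ ⟨s, hs, rfl⟩
    exact (mem_normalizer_iff.1 (d.M0_normal hm) s).1 (d.S_le_M0 hs)
  set π : d.M0 → alternatingGroup (Fin 6) :=
    fun y => eM (QuotientGroup.mk' (d.J.subgroupOf d.M0) y) with hπ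
  have hπm : ∀ y y', π (y * y') = π y * π y' := fun y y' => by simp only [hπ, map_mul]
  have hker : ∀ y : d.M0, π y = 1 ↔ (y : G) ∈ d.J := fun y => by
    rw [hπ]
    simp only [EmbeddingLike.map_eq_one_iff]
    exact (QuotientGroup.eq_one_iff y).trans mem_subgroupOf
  have hp : ∀ y, π y = 1 → π 1 = 1 := fun _ _ => by simp [hπ]
  have hcube : ∀ y : d.M0, (y : G) ^ 3 ∈ d.J → π y ^ 3 = 1 := fun y hy => by
    rw [show π y ^ 3 = π (y ^ 3) by simp [hπ], hker]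
    exact hy
  have hcommS : ∀ x y : d.M0, (x : G) ∈ (d.S : Subgroup G) → (y : G) ∈ (d.S : Subgroup G) →
      π x * π y = π y * π x := by
    intro x y hx hy
    rw [← hπm, ← hπm, show x * y = y * x * (⟨(x : G)⁻¹ * (y : G)⁻¹ * x * y,
      d.M0.mul_mem (d.M0.mul_mem (d.M0.mul_mem (d.M0.inv_mem x.2) (d.M0.inv_mem y.2)) x.2) y.2⟩ : d.M0)
      from Subtype.ext (by simp [mul_assoc])]
    rw [hπm (y * x)]
    refine mul_eq_left.2 ((hker _).2 ?_)
    show (x : G)⁻¹ * (y : G)⁻¹ * x * y ∈ d.J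
    -- commutators of `S = JQ` lie in `J`
    obtain ⟨j1, hj1, q1, hq1, e1⟩ : ∃ j ∈ d.J, ∃ q ∈ d.Q, (x : G) = j * q := by
      have h2 : (x : G) ∈ ((d.J ⊔ d.Q : Subgroup G) : Set G) := d.J_sup_Q ▸ hx
      rw [coe_mul_of_left_le_normalizer_right d.J d.Q
        (d.J_le_S.trans (d.S_le_L.trans d.L_le_normalizer))] at h2
      obtain ⟨j, hj, q, hq, e⟩ := h2
      exact ⟨j, hj, q, hq, e.symm⟩
    obtain ⟨j2, hj2, q2, hq2, e2⟩ : ∃ j ∈ d.J, ∃ q ∈ d.Q, (y : G) = j * q := by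
      have h2 : (y : G) ∈ ((d.J ⊔ d.Q : Subgroup G) : Set G) := d.J_sup_Q ▸ hy
      rw [coe_mul_of_left_le_normalizer_right d.J d.Q
        (d.J_le_S.trans (d.S_le_L.trans d.L_le_normalizer))] at h2
      obtain ⟨j, hj, q, hq, e⟩ := h2
      exact ⟨j, hj, q, hq, e.symm⟩
    rw [e1, e2]
    have hn : ∀ r ∈ d.Q, ∀ i ∈ d.J, r * i * r⁻¹ ∈ d.J := fun r hr i hi =>
      (mem_normalizer_iff.1 (d.S_le_normalizer (d.Q_le_S hr)) i).1 hi
    have hcq : q1⁻¹ * q2⁻¹ * q1 * q2 ∈ d.J := by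
      obtain ⟨i, hi⟩ := mem_zpowers_iff.1 (d.comm_Q q1⁻¹ (d.Q.inv_mem hq1) q2⁻¹ (d.Q.inv_mem hq2))
      have : q1⁻¹ * q2⁻¹ * q1 * q2 = d.z ^ i := by rw [hi]; group
      rw [this]; exact zpow_mem d.z_mem_J i
    have h : (j1 * q1)⁻¹ * (j2 * q2)⁻¹ * (j1 * q1) * (j2 * q2) =
        (q1⁻¹ * j1⁻¹ * q1⁻¹⁻¹) * ((q1⁻¹ * q2⁻¹) * (j2⁻¹ * j1) * (q1⁻¹ * q2⁻¹)⁻¹) *
          ((q1⁻¹ * q2⁻¹ * q1) * j2 * (q1⁻¹ * q2⁻¹ * q1)⁻¹) * (q1⁻¹ * q2⁻¹ * q1 * q2) := by group
    rw [h]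
    exact d.J.mul_mem (d.J.mul_mem (d.J.mul_mem (hn _ (d.Q.inv_mem hq1) _ (d.J.inv_mem hj1))
      (hn _ (d.Q.mul_mem (d.Q.inv_mem hq1) (d.Q.inv_mem hq2)) _ (d.J.mul_mem (d.J.inv_mem hj2) hj1)))
      (hn _ (d.Q.mul_mem (d.Q.mul_mem (d.Q.inv_mem hq1) (d.Q.inv_mem hq2)) hq1) _ hj2)) hcq
  -- `q` lies in both Sylow subgroups
  set B : Subgroup d.M0 := ((d.S : Subgroup G) ⊓ centralizer ({b} : Set G)).subgroupOf d.M0 with hB
  have hqM : q ∈ d.M0 := d.S_le_M0 (d.Q_le_S hq)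
  set qb : d.M0 := ⟨q, hqM⟩ with hqb'
  have hq1 : π qb ≠ 1 := fun h => hqJ ((hker _).1 h)
  have hq3 : π qb ^ 3 = 1 := hcube _ (d.cube_mem_J (d.Q_le_S hq))
  have hmc : ∀ x : d.M0, (x : G) ∈ S' → π x ^ 3 = 1 := by
    intro x hx
    obtain ⟨s, hs, e⟩ := hx
    refine hcube _ ?_
    rw [← e, ← map_pow]
    exact (mem_normalizer_iff.1 hm _).1 (d.cube_mem_J hs)
  -- the 3-subgroup generated by `J`, `q` inside the centralizer of `b`
  set R : Subgroup G := d.J ⊔ zpowers q with hR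
  have hR3 : IsPGroup 3 R :=
    d.S.2.to_le (sup_le d.J_le_S (zpowers_le.2 (d.Q_le_S hq)))
  set C := centralizer ({b} : Set G) with hC
  have hS'C : S' ≤ C := fun s hs => mem_centralizer_singleton_iff.2 (hbc s hs)
  have hRC : R ≤ C := sup_le (fun j hj => mem_centralizer_singleton_iff.2 (d.J_comm j hj b hJ))
    (zpowers_le.2 (mem_centralizer_singleton_iff.2 hqb))
  -- inside `M0 ∩ C(b)` the group `S'` is the only Sylow subgroup
  set Mb : Subgroup G := d.M0 ⊓ C with hMb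
  have hS'mem : S' ≤ Mb := le_inf hS'M hS'C
  have hS'3 : IsPGroup 3 S' := d.S.2.map _
  obtain ⟨P1, hP1⟩ := (hS'3.comap_subtype : IsPGroup 3 (S'.subgroupOf Mb)).exists_le_sylow
  obtain ⟨P2, hP2⟩ := (hR3.comap_subtype : IsPGroup 3 (R.subgroupOf Mb)).exists_le_sylow
  obtain ⟨k, hk⟩ := MulAction.exists_smul_eq Mb P2 P1
  have hP1' : (P1 : Subgroup Mb).map Mb.subtype = S' := by
    refine (eq_of_le_of_card_ge (fun s hs => mem_map.2 ⟨⟨s, hS'mem hs⟩, hP1 (mem_subgroupOf.2 hs), rfl⟩) ?_).symm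
    obtain ⟨P, hP⟩ := (P1.2.map Mb.subtype).exists_le_sylow
    refine (card_le_of_le hP).trans_eq ?_
    rw [hS', ← Nat.card_congr ((d.S : Subgroup G).equivMapOfInjective _ (MulAut.conj m).injective).toEquiv,
      P.card_eq_multiplicity, ← d.S.card_eq_multiplicity]
  have hkR : ∀ r ∈ R, (k : G) * r * (k : G)⁻¹ ∈ S' := by
    intro r hr
    have hrm : r ∈ Mb := ⟨(sup_le d.J_le_M0 (zpowers_le.2 hqM) : R ≤ d.M0) hr, hRC hr⟩
    have : k * ⟨r, hrm⟩ * k⁻¹ ∈ (P1 : Subgroup Mb) := by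
      rw [← hk, Sylow.coe_subgroup_smul]
      exact ⟨⟨r, hrm⟩, hP2 (mem_subgroupOf.2 hr), rfl⟩
    exact hP1' ▸ ⟨_, this, rfl⟩
  -- conjugating back
  set S'' := S'.map (MulAut.conj (k : G)⁻¹).toMonoidHom with hS''
  have hqS'' : q ∈ S'' := ⟨(k : G) * q * (k : G)⁻¹, hkR q (mem_sup_right (mem_zpowers q)), by
    show (k : G)⁻¹ * ((k : G) * q * (k : G)⁻¹) * (k : G)⁻¹⁻¹ = q
    group⟩
  have hS''M : S'' ≤ d.M0 := by
    rintro _ ⟨s, hs, rfl⟩
    exact d.M0.mul_mem (d.M0.mul_mem (d.M0.inv_mem k.2.1) (hS'M hs)) (d.M0.inv_mem (d.M0.inv_mem k.2.1))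
  have hS''C : ∀ s ∈ S'', s * b = b * s := fun s hs => by
    obtain ⟨r, hr, rfl⟩ := hs
    exact mem_centralizer_singleton_iff.1
      (C.mul_mem (C.mul_mem (C.inv_mem k.2.2) (hS'C hr)) (C.inv_mem (C.inv_mem k.2.2)))
  have hmk : (k : G)⁻¹ * m ∈ normalizer (d.J : Set G) :=
    mul_mem (inv_mem (d.M0_le k.2.1)) hm
  have hS''eq : ∀ s ∈ S'', ∃ r ∈ (d.S : Subgroup G), ((k : G)⁻¹ * m) * r * ((k : G)⁻¹ * m)⁻¹ = s := by
    rintro _ ⟨_, ⟨r, hr, rfl⟩, rfl⟩
    exact ⟨r, hr, by show _ = (k : G)⁻¹ * (m * r * m⁻¹) * (k : G)⁻¹⁻¹; group⟩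
  have hcomm'' : ∀ x : d.M0, (x : G) ∈ S'' → π qb * π x = π x * π qb := by
    intro x hx
    obtain ⟨r1, hr1, e1⟩ := hS''eq _ hx
    obtain ⟨r2, hr2, e2⟩ := hS''eq _ hqS''
    have hnM := d.M0_normal hmk
    have hr1M := d.S_le_M0 hr1
    have hr2M := d.S_le_M0 hr2
    have hc := hcommS ⟨r2, hr2M⟩ ⟨r1, hr1M⟩ hr2 hr1
    have hw : (r2 * r1) * (r1 * r2)⁻¹ ∈ d.J := by
      have h1 : π ((⟨r2, hr2M⟩ * ⟨r1, hr1M⟩) * (⟨r1, hr1M⟩ * ⟨r2, hr2M⟩)⁻¹) = 1 := by
        simp only [hπ, map_mul, map_inv] at hc ⊢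
        rw [hc, mul_inv_cancel]
      exact (hker _).1 h1
    have hw' := (mem_normalizer_iff.1 hmk _).1 hw
    have h2 : π ((qb * x) * (x * qb)⁻¹) = 1 := (hker _).2 (by
      show (q * (x : G)) * ((x : G) * q)⁻¹ ∈ d.J
      rw [← e1, ← e2]
      convert hw' using 1
      group)
    simp only [hπ, map_mul, map_inv] at h2 ⊢
    exact mul_inv_eq_one.1 h2
  have hcube'' : ∀ x : d.M0, (x : G) ∈ S'' → π x ^ 3 = 1 := by
    intro x hx
    obtain ⟨r, hr, e⟩ := hS''eq _ hx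
    refine hcube _ ?_
    rw [← e, conj_pow]
    exact (mem_normalizer_iff.1 hmk _).1 (d.cube_mem_J hr)
  -- so `S` and `S''` commute modulo `J`
  have hle : (d.S : Subgroup G) ≤ normalizer (S'' : Set G) := by
    intro s hs
    refine mem_normalizer_fintype fun r hr => ?_
    set sb : d.M0 := ⟨s, d.S_le_M0 hs⟩ with hsb
    set rb : d.M0 := ⟨r, hS''M hr⟩ with hrb
    have hc := a6_ti (π qb) hq3 hq1 (π sb) (hcube _ (d.cube_mem_J hs)) (hcommS qb sb (d.Q_le_S hq) hs)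
      (π rb) (hcube'' rb hr) (hcomm'' rb hr)
    have h1 : π ((sb * rb) * (rb * sb)⁻¹) = 1 := by
      simp only [hπ, map_mul, map_inv] at hc ⊢
      rw [hc, mul_inv_cancel]
    have h2 : (s * r) * (r * s)⁻¹ ∈ d.J := (hker _).1 h1
    have hJS'' : d.J ≤ S'' := fun j hj => by
      refine ⟨(k : G) * j * (k : G)⁻¹, hkR j (mem_sup_left hj), ?_⟩
      show (k : G)⁻¹ * ((k : G) * j * (k : G)⁻¹) * (k : G)⁻¹⁻¹ = j
      group
    have h3 := S''.mul_mem (hJS'' h2) hr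
    rw [show (s * r) * (r * s)⁻¹ * r = s * r * s⁻¹ by group] at h3
    exact h3
  have hS''3 : IsPGroup 3 S'' := hS'3.map _
  have hsup := d.S.2.to_sup_of_normal_right' hS''3 hle
  have heq := d.three_group_le hsup le_sup_left
  have hS''S : S'' = (d.S : Subgroup G) := by
    refine eq_of_le_of_card_ge (heq ▸ le_sup_right) ?_
    rw [hS'', hS', ← Nat.card_congr (equivMapOfInjective _ _ (MulAut.conj _).injective).toEquiv,
      ← Nat.card_congr (equivMapOfInjective _ _ (MulAut.conj _).injective).toEquiv]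
  refine hbz ?_
  rw [d.center_S]
  exact ⟨d.J_le_S hJ, fun s hs => hS''C s (hS''S.symm ▸ hs)⟩

theorem Loc.x_notMem_Q {d : Data G} (l : Loc d) : l.x ∉ d.Q := fun h => by
  have hz := l.cent_Q_t _ h (mem_centralizer_singleton_iff.1 (l.L1_le l.x_mem_L1).2)
  have hx1 : l.x ≠ 1 := fun e => by have := l.order_x; rw [e, orderOf_one] at this; omega
  have h1 : zpowers l.x ≤ zpowers d.z := zpowers_le.2 hz
  have h2 := eq_of_le_of_card_ge h1 (by rw [Nat.card_zpowers, Nat.card_zpowers, d.order_z, l.order_x])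
  exact l.z_notMem ((zpowers_le.2 l.x_mem_L1 : zpowers l.x ≤ l.L1) (h2 ▸ mem_zpowers d.z))

/-- The condition on `O₃` of the centralizers gives `YLocal`. -/
theorem ylocal_of_cond {d : Data G} (F : Frame d)
    (hiii : ∀ x ∈ d.J, x ≠ 1 →
      centralizer (((Cfsg.pCore 3 (centralizer ({x} : Set G))).map (centralizer ({x} : Set G)).subtype :
        Subgroup G) : Set G)
        ≤ (Cfsg.pCore 3 (centralizer ({x} : Set G))).map (centralizer ({x} : Set G)).subtype) :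
    YLocal F := by
  classical
  intro a haD haZ haX
  haveI : Fact (Nat.Prime 3) := ⟨Nat.prime_three⟩
  set D : Subgroup G := closure ({d.z, F.x} : Set G) with hD
  have hDJ : D ≤ d.J := (closure_le _).2 fun w hw => by
    rcases hw with rfl | rfl
    · exact d.z_mem_J
    · exact F.x_mem_J
  have haJ := hDJ haD
  have ha1 : a ≠ 1 := fun h => haZ (h ▸ one_mem _)
  set C := centralizer ({a} : Set G) with hC
  set R := (Cfsg.pCore 3 C).map C.subtype with hR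
  have hR3 : IsPGroup 3 R := (LocGroup56.pCore_isPGroup 3 C).map _
  have hRC : R ≤ C := map_subtype_le _
  have hcond : centralizer (R : Set G) ≤ R := hiii a haJ ha1
  haveI hcn : (Cfsg.pCore 3 C).Normal := HallCore.pCore_normal 3 C
  have hRn : C ≤ normalizer (R : Set G) := fun c hc => mem_normalizer_fintype fun r hr => by
    obtain ⟨r', hr', rfl⟩ := hr
    exact ⟨⟨c, hc⟩ * r' * ⟨c, hc⟩⁻¹, hcn.conj_mem r' hr' _, rfl⟩
  have hJC : d.J ≤ C := fun j hj => mem_centralizer_singleton_iff.2 (d.J_comm j hj a haJ)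
  have haR : a ∈ R := by
    refine hcond fun r hr => ?_
    exact mem_centralizer_singleton_iff.1 (hRC hr)
  by_cases hJR : d.J ≤ R
  · intro g hg
    refine mem_normalizer_fintype fun j hj => ?_
    have he : d.J.map (MulAut.conj g).toMonoidHom = d.J := by
      refine d.J_unique' hR3 hJR ?_ ?_ ?_
      · rintro _ ⟨i, hi, rfl⟩
        exact (mem_normalizer_iff.1 (hRn hg) i).1 (hJR hi)
      · rintro _ ⟨x, hx, rfl⟩ _ ⟨y, hy, rfl⟩
        rw [← map_mul, ← map_mul, d.J_comm x hx y hy]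
      · rw [← Nat.card_congr (d.J.equivMapOfInjective _ (MulAut.conj g).injective).toEquiv, d.card_J]
    exact he.le ⟨j, hj, rfl⟩
  exfalso
  -- an element of `R` normalizing but outside `J`
  obtain ⟨r, hrR, hrN, hrJ⟩ : ∃ r ∈ R, r ∈ normalizer (d.J : Set G) ∧ r ∉ d.J := by
    have hnle : ¬ R ≤ d.J := fun h => hJR fun j hj => hcond fun r hr => d.J_comm r (h hr) j hj
    set T := d.J ⊔ R with hT
    have hT3 : IsPGroup 3 T := d.J_group.to_sup_of_normal_right' hR3 (hJC.trans hRn)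
    haveI : Group.IsNilpotent T := hT3.isNilpotent
    have hlt : d.J.subgroupOf T < ⊤ := lt_top_iff_ne_top.2 fun h =>
      hnle (le_sup_right.trans (subgroupOf_eq_top.1 h))
    obtain ⟨p, hpN, hpJ⟩ := SetLike.exists_of_lt (normalizerCondition_of_isNilpotent (G := T) _ hlt)
    have hp : (p : G) ∈ ((d.J ⊔ R : Subgroup G) : Set G) := p.2
    rw [coe_mul_of_left_le_normalizer_right d.J R (hJC.trans hRn)] at hp
    obtain ⟨j, hj, r, hr, e⟩ := hp
    replace e : j * r = (p : G) := e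
    refine ⟨r, hr, ?_, fun h => hpJ (mem_subgroupOf.2 (e ▸ d.J.mul_mem hj h))⟩
    have hpn : (p : G) ∈ normalizer (d.J : Set G) := mem_normalizer_fintype fun i hi =>
      mem_subgroupOf.1 ((mem_normalizer_iff.1 hpN
        ⟨i, (le_sup_left : d.J ≤ T) hi⟩).1 (mem_subgroupOf.2 hi))
    have := mul_mem (inv_mem (le_normalizer hj : j ∈ normalizer (d.J : Set G))) hpn
    rwa [← e, inv_mul_cancel_left] at this
  -- move it into `S`
  have hT3 : IsPGroup 3 (zpowers r ⊔ d.J : Subgroup G) :=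
    (hR3.to_le (zpowers_le.2 hrR)).to_sup_of_normal_right' d.J_group (zpowers_le.2 hrN)
  obtain ⟨P, hP⟩ := hT3.exists_le_sylow
  obtain ⟨c, hc⟩ := MulAction.exists_smul_eq G P d.S
  have hcS : ∀ y ∈ (zpowers r ⊔ d.J : Subgroup G), c * y * c⁻¹ ∈ (d.S : Subgroup G) := fun y hy => by
    rw [← hc, Sylow.coe_subgroup_smul]; exact ⟨y, hP hy, rfl⟩
  have hcJ : d.J.map (MulAut.conj c).toMonoidHom = d.J := by
    refine d.J_unique ?_ ?_ ?_
    · rintro _ ⟨i, hi, rfl⟩; exact hcS i (mem_sup_right hi)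
    · rintro _ ⟨x, hx, rfl⟩ _ ⟨y, hy, rfl⟩
      rw [← map_mul, ← map_mul, d.J_comm x hx y hy]
    · rw [← Nat.card_congr (d.J.equivMapOfInjective _ (MulAut.conj c).injective).toEquiv, d.card_J]
  have hcn : c ∈ normalizer (d.J : Set G) := mem_normalizer_fintype fun i hi => hcJ.le ⟨i, hi, rfl⟩
  have hcm := mem_normalizer_iff.1 hcn
  set a' := c * a * c⁻¹ with ha'
  have ha'J : a' ∈ d.J := (hcm a).1 haJ
  obtain ⟨j, hj, q, hq, hjq⟩ : ∃ j ∈ d.J, ∃ q ∈ d.Q, c * r * c⁻¹ = j * q := by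
    have h2 : c * r * c⁻¹ ∈ ((d.J ⊔ d.Q : Subgroup G) : Set G) :=
      d.J_sup_Q ▸ hcS r (mem_sup_left (mem_zpowers r))
    rw [coe_mul_of_left_le_normalizer_right d.J d.Q (d.J_le_S.trans (d.S_le_L.trans d.L_le_normalizer))]
      at h2
    obtain ⟨j, hj, q, hq, e⟩ := h2
    exact ⟨j, hj, q, hq, e.symm⟩
  have hqJ : q ∉ d.J := fun h => hrJ ((hcm r).2 (hjq ▸ d.J.mul_mem hj h))
  have hqN : q ∈ normalizer (d.J : Set G) := d.S_le_normalizer (d.Q_le_S hq)
  have hqa : q * a' = a' * q := by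
    have hra : r * a = a * r := mem_centralizer_singleton_iff.1 (hRC hrR)
    have h1 : (j * q) * a' = a' * (j * q) := by
      rw [← hjq, ha']
      calc c * r * c⁻¹ * (c * a * c⁻¹) = c * (r * a) * c⁻¹ := by group
        _ = c * (a * r) * c⁻¹ := by rw [hra]
        _ = _ := by group
    calc q * a' = j⁻¹ * ((j * q) * a') := by group
      _ = j⁻¹ * (a' * j) * q := by rw [h1]; group
      _ = j⁻¹ * (j * a') * q := by rw [d.J_comm a' ha'J j hj]
      _ = a' * q := by group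
  have hgt : ∀ W : Subgroup G, W ≤ d.Q → d.J ⊓ d.Q ≤ W → q ∈ W → 81 ≤ Nat.card W := by
    intro W hW hle hqW
    obtain ⟨k, hk⟩ := IsPGroup.iff_card.1 ((IsPGroup.of_card (p := 3) (n := 5)
      (by rw [d.card_Q]; norm_num) : IsPGroup 3 d.Q).to_le hW)
    have hlt : 27 < Nat.card W := by
      rw [← d.card_meet]
      refine lt_of_le_of_ne (card_le_of_le hle) fun h => hqJ ?_
      exact ((eq_of_le_of_card_ge hle h.ge).symm ▸ hqW : q ∈ (d.J ⊓ d.Q : Subgroup G)).1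
    rw [hk, show (27 : ℕ) = 3 ^ 3 by norm_num] at hlt
    rw [hk, show (81 : ℕ) = 3 ^ 4 by norm_num]
    exact Nat.pow_le_pow_right (by norm_num) ((Nat.pow_lt_pow_iff_right (by norm_num : 1 < 3)).1 hlt)
  have hsmall : ∀ u ∈ d.J, u ∉ d.Q → ¬ u * q * u⁻¹ * q⁻¹ ∈ zpowers d.z := by
    intro u hu huQ hz
    let W : Subgroup G := (d.J ⊓ d.Q) ⊔ zpowers q
    have hWQ : W ≤ d.Q := sup_le inf_le_right (zpowers_le.2 hq)
    have hu3 : u ^ 3 ∈ d.Q := by rw [d.J_exp u hu]; exact one_mem _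
    refine absurd (d.small_fix (d.S_le_L (d.J_le_S hu)) hu3 huQ hWQ
      (mem_sup_left ⟨d.z_mem_J, d.z_mem_Q⟩) ?_) (Nat.not_lt.2 (hgt W hWQ le_sup_left
        (mem_sup_right (mem_zpowers q))))
    let Wu : Subgroup G :=
      { carrier := {w | w ∈ d.Q ∧ u * w * u⁻¹ * w⁻¹ ∈ zpowers d.z}
        one_mem' := ⟨one_mem _, by rw [mul_one, mul_inv_cancel, inv_one, mul_one]; exact one_mem _⟩
        mul_mem' := fun {x y} hx hy => ⟨d.Q.mul_mem hx.1 hy.1, by
          obtain ⟨i, hi⟩ := mem_zpowers_iff.1 hy.2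
          have : u * (x * y) * u⁻¹ * (x * y)⁻¹ =
              (u * x * u⁻¹ * x⁻¹) * (x * (u * y * u⁻¹ * y⁻¹) * x⁻¹) := by group
          rw [this, ← hi, ((show Commute x d.z from d.z_comm_S (d.Q_le_S hx.1)).zpow_right i).eq,
            mul_inv_cancel_right]
          exact mul_mem hx.2 (zpow_mem (mem_zpowers _) i)⟩
        inv_mem' := fun {x} hx => ⟨d.Q.inv_mem hx.1, by
          obtain ⟨i, hi⟩ := mem_zpowers_iff.1 hx.2
          have : u * x⁻¹ * u⁻¹ * x⁻¹⁻¹ = (x⁻¹ * (u * x * u⁻¹ * x⁻¹) * x⁻¹⁻¹)⁻¹ := by group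
          rw [this, ← hi,
            ((show Commute x⁻¹ d.z from d.z_comm_S (d.Q_le_S (d.Q.inv_mem hx.1))).zpow_right i).eq,
            mul_inv_cancel_right]
          exact inv_mem (zpow_mem (mem_zpowers _) i)⟩ }
    have hle : W ≤ Wu := sup_le (fun w hw => ⟨hw.2, by
      rw [d.J_comm u hu w hw.1, mul_inv_cancel_right, mul_inv_cancel]; exact one_mem _⟩)
      (zpowers_le.2 ⟨hq, hz⟩)
    exact fun w hw => (hle hw).2
  have ha'Q : a' ∈ d.Q := by
    by_contra h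
    refine hsmall a' ha'J h ?_
    rw [← hqa, mul_inv_cancel_right, mul_inv_cancel]
    exact one_mem _
  -- the commutator of `x` and `q`
  set w := F.x * q * F.x⁻¹ * q⁻¹ with hw
  have hcomm : ∀ u ∈ d.J, u * q * u⁻¹ * q⁻¹ ∈ d.J := fun u hu => by
    have h := d.J.mul_mem hu ((mem_normalizer_iff.1 hqN _).1 (d.J.inv_mem hu))
    simpa [mul_assoc] using h
  have hxQn : ∀ q' ∈ d.Q, F.x * q' * F.x⁻¹ ∈ d.Q := fun q' hq' =>
    (mem_normalizer_iff.1 (d.L_le_normalizer (F.L1_le F.x_mem_L1).1) q').1 hq'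
  have hwq : ¬ w * q = q * w := by
    intro hwc
    have hgn : F.g ∈ normalizer (zpowers d.z : Set G) := mem_normalizer_fintype fun y hy => by
      obtain ⟨i, rfl⟩ := mem_zpowers_iff.1 hy
      rw [← conj_zpow, F.g_z]
      exact zpow_mem (inv_mem (mem_zpowers _)) i
    have hgQ := mem_normalizer_iff.1 (d.Q_normal hgn)
    set q1 := F.g * q * F.g⁻¹ with hq1
    have hq1Q : q1 ∈ d.Q := (hgQ q).1 hq
    have hq1N : q1 ∈ normalizer (d.J : Set G) := d.S_le_normalizer (d.Q_le_S hq1Q)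
    set w1 := F.x * q1 * F.x⁻¹ * q1⁻¹ with hw1
    have hw1J : w1 ∈ d.J := by
      have h := d.J.mul_mem F.x_mem_J ((mem_normalizer_iff.1 hq1N _).1 (d.J.inv_mem F.x_mem_J))
      simpa [hw1, mul_assoc] using h
    have hwJ : w ∈ d.J := hcomm _ F.x_mem_J
    have hwQ : w ∈ d.Q := d.Q.mul_mem (hxQn q hq) (d.Q.inv_mem hq)
    have hw1Q : w1 ∈ d.Q := d.Q.mul_mem (hxQn q1 hq1Q) (d.Q.inv_mem hq1Q)
    -- `g` carries the commutator to its inverse
    have hgw : F.g * w * F.g⁻¹ = w1⁻¹ := by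
      calc F.g * w * F.g⁻¹
          = (F.g * F.x * F.g⁻¹) * q1 * (F.g * F.x * F.g⁻¹)⁻¹ * q1⁻¹ := by rw [hw, hq1]; group
        _ = F.x⁻¹ * w1⁻¹ * F.x := by rw [F.g_x, hw1]; group
        _ = w1⁻¹ := by
            rw [mul_assoc, d.J_comm _ (d.J.inv_mem hw1J) _ F.x_mem_J, inv_mul_cancel_left]
    have h11 : w1 * q1 = q1 * w1 := by
      have h0 : Commute (F.g * w * F.g⁻¹) q1 := by
        show F.g * w * F.g⁻¹ * (F.g * q * F.g⁻¹) = F.g * q * F.g⁻¹ * (F.g * w * F.g⁻¹)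
        calc F.g * w * F.g⁻¹ * (F.g * q * F.g⁻¹) = F.g * (w * q) * F.g⁻¹ := by group
          _ = F.g * (q * w) * F.g⁻¹ := by rw [hwc]
          _ = _ := by group
      rw [hgw] at h0
      exact (Commute.inv_left_iff.1 h0).eq
    -- the two mixed commutators agree
    obtain ⟨i, hi⟩ := d.comm_eq hwQ hq1Q
    obtain ⟨k, hk⟩ := d.comm_eq hw1Q hq
    obtain ⟨l, hl⟩ := d.comm_eq hq hq1Q
    have hzc : ∀ y ∈ d.Q, ∀ i : ℤ, Commute y (d.z ^ i) := fun y hy i =>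
      (show Commute y d.z from d.z_comm_S (d.Q_le_S hy)).zpow_right i
    have hxz : ∀ i : ℤ, Commute F.x (d.z ^ i) := fun i =>
      (show Commute F.x d.z from d.z_comm_S (d.J_le_S F.x_mem_J)).zpow_right i
    have hww : w * w1 = w1 * w := d.J_comm w hwJ w1 hw1J
    have hik : d.z ^ i = d.z ^ k := by
      have hxl : (w * q) * (w1 * q1) = d.z ^ l * ((w1 * q1) * (w * q)) := by
        have e : ∀ y, F.x * y * F.x⁻¹ * y⁻¹ * y = F.x * y * F.x⁻¹ := fun y => by group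
        rw [hw, hw1, e, e]
        calc F.x * q * F.x⁻¹ * (F.x * q1 * F.x⁻¹) = F.x * (q * q1) * F.x⁻¹ := by group
          _ = F.x * d.z ^ l * (q1 * q) * F.x⁻¹ := by rw [hl]; group
          _ = _ := by rw [(hxz l).eq]; group
      -- both sides in normal form
      have hL : (w * q) * (w1 * q1) = d.z ^ (-k) * d.z ^ l * (w1 * w * (q1 * q)) := by
        have e1 : q * w1 = d.z ^ (-k) * (w1 * q) := by rw [hk, zpow_neg, inv_mul_cancel_left]
        calc (w * q) * (w1 * q1) = w * (q * w1) * q1 := by group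
          _ = (w * d.z ^ (-k)) * w1 * (q * q1) := by rw [e1]; group
          _ = d.z ^ (-k) * (w * w1) * (d.z ^ l * (q1 * q)) := by rw [(hzc w hwQ _).eq, hl]; group
          _ = d.z ^ (-k) * ((w1 * w) * d.z ^ l) * (q1 * q) := by rw [hww]; group
          _ = d.z ^ (-k) * (d.z ^ l * (w1 * w)) * (q1 * q) := by
              rw [(hzc _ (d.Q.mul_mem hw1Q hwQ) l).eq]
          _ = _ := by group
      have hR' : d.z ^ l * ((w1 * q1) * (w * q)) = d.z ^ (-i) * d.z ^ l * (w1 * w * (q1 * q)) := by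
        have e1 : q1 * w = d.z ^ (-i) * (w * q1) := by rw [hi, zpow_neg, inv_mul_cancel_left]
        calc d.z ^ l * ((w1 * q1) * (w * q)) = d.z ^ l * (w1 * (q1 * w) * q) := by group
          _ = d.z ^ l * ((w1 * d.z ^ (-i)) * (w * (q1 * q))) := by rw [e1]; group
          _ = (d.z ^ l * d.z ^ (-i)) * (w1 * (w * (q1 * q))) := by rw [(hzc w1 hw1Q _).eq]; group
          _ = _ := by rw [(Commute.zpow_zpow_self d.z l (-i)).eq]; group
      rw [hL, hR'] at hxl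
      have := mul_right_cancel (mul_right_cancel hxl)
      rw [zpow_neg, zpow_neg, inv_inj] at this
      exact this.symm
    -- `t` inverts `Q` modulo `z`
    have hQt : F.g * q1 * F.g⁻¹ = F.t * q * F.t⁻¹ := by rw [hq1, ← F.g_sq]; group
    have htL : F.t ∈ d.L := (F.L1_le F.t_mem_L1).1
    have htQ : ∃ m : ℤ, F.t * q * F.t⁻¹ = q⁻¹ * d.z ^ m := by
      have htn := mem_normalizer_iff.1 (d.L_le_normalizer htL)
      set v := q * (F.t * q * F.t⁻¹) with hv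
      have hvQ : v ∈ d.Q := d.Q.mul_mem hq ((htn q).1 hq)
      have htt : F.t * F.t = 1 := by rw [← pow_two, ← F.order_t, pow_orderOf_eq_one]
      have htz : ∀ i : ℤ, Commute F.t (d.z ^ i) := fun i =>
        (show Commute F.t d.z from mem_centralizer_singleton_iff.1 (d.L_le htL)).zpow_right i
      obtain ⟨e, he⟩ := d.comm_eq ((htn q).1 hq) hq
      have htv : F.t * v * F.t⁻¹ = d.z ^ e * v := by
        calc F.t * v * F.t⁻¹ = (F.t * q * F.t⁻¹) * ((F.t * F.t) * q * (F.t * F.t)⁻¹) := by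
              rw [hv]; group
          _ = F.t * q * F.t⁻¹ * q := by rw [htt, inv_one, one_mul, mul_one]
          _ = _ := he
      have h2 : d.z ^ e * d.z ^ e = 1 := by
        have : F.t * (F.t * v * F.t⁻¹) * F.t⁻¹ = v := by
          calc F.t * (F.t * v * F.t⁻¹) * F.t⁻¹ = (F.t * F.t) * v * (F.t * F.t)⁻¹ := by group
            _ = v := by rw [htt]; group
        rw [htv] at this
        have e2 : F.t * (d.z ^ e * v) * F.t⁻¹ = d.z ^ e * (F.t * v * F.t⁻¹) := by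
          calc F.t * (d.z ^ e * v) * F.t⁻¹ = (F.t * d.z ^ e) * v * F.t⁻¹ := by group
            _ = _ := by rw [(htz e).eq]; group
        rw [e2, htv, ← mul_assoc, mul_eq_right] at this
        exact this
      have h3 : d.z ^ e = 1 := by
        have h := d.exp_Q _ (zpow_mem d.z_mem_Q e)
        rw [pow_succ, pow_two, h2, one_mul] at h
        exact h
      rw [h3, one_mul] at htv
      obtain ⟨m, hm⟩ := mem_zpowers_iff.1 (F.cent_Q_t v hvQ (mul_inv_eq_iff_eq_mul.1 htv).symm)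
      exact ⟨m, by rw [hm, hv]; group⟩
    obtain ⟨m, hm⟩ := htQ
    have hgq1 : F.g * q1 * F.g⁻¹ = q⁻¹ * d.z ^ m := hQt.trans hm
    -- so both vanish
    have hi1 : d.z ^ i = 1 := by
      have hgz : F.g * d.z ^ i * F.g⁻¹ = d.z ^ (-i) := by rw [← conj_zpow, F.g_z, inv_zpow, zpow_neg]
      have h1 : (F.g * w * F.g⁻¹) * (F.g * q1 * F.g⁻¹) =
          d.z ^ (-i) * ((F.g * q1 * F.g⁻¹) * (F.g * w * F.g⁻¹)) := by
        calc (F.g * w * F.g⁻¹) * (F.g * q1 * F.g⁻¹) = F.g * (w * q1) * F.g⁻¹ := by group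
          _ = (F.g * d.z ^ i * F.g⁻¹) * (F.g * (q1 * w) * F.g⁻¹) := by rw [hi]; group
          _ = _ := by rw [hgz]; group
      rw [hgw, hgq1] at h1
      have h2 : w1⁻¹ * (q⁻¹ * d.z ^ m) = d.z ^ k * ((q⁻¹ * d.z ^ m) * w1⁻¹) := by
        have hwi := d.Q.inv_mem hw1Q
        have e : w1⁻¹ * q⁻¹ = d.z ^ k * (q⁻¹ * w1⁻¹) := by
          calc w1⁻¹ * q⁻¹ = q⁻¹ * w1⁻¹ * (w1 * q) * (w1⁻¹ * q⁻¹) := by group
            _ = (q⁻¹ * w1⁻¹) * d.z ^ k * ((q * w1) * (w1⁻¹ * q⁻¹)) := by rw [hk]; group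
            _ = d.z ^ k * (q⁻¹ * w1⁻¹) := by
                rw [(hzc _ (d.Q.mul_mem (d.Q.inv_mem hq) hwi) k).eq]; group
        calc w1⁻¹ * (q⁻¹ * d.z ^ m) = (w1⁻¹ * q⁻¹) * d.z ^ m := by group
          _ = d.z ^ k * (q⁻¹ * (w1⁻¹ * d.z ^ m)) := by rw [e]; group
          _ = _ := by rw [(hzc _ hwi m).eq]; group
      rw [h2] at h1
      have h3 : d.z ^ k = d.z ^ (-i) := mul_right_cancel h1
      rw [← hik, zpow_neg, eq_inv_iff_mul_eq_one] at h3
      have h := d.exp_Q _ (zpow_mem d.z_mem_Q i)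
      rw [pow_succ, pow_two, h3, one_mul] at h
      exact h
    rw [hi1, one_mul] at hi
    -- `w` is central in `Q`
    set V0 : Subgroup G := (d.J ⊓ d.Q) ⊔ zpowers q with hV0
    have hV0Q : V0 ≤ d.Q := sup_le inf_le_right (zpowers_le.2 hq)
    have hq1V : q1 ∉ V0 := by
      intro h
      have hnorm : zpowers q ≤ normalizer ((d.J ⊓ d.Q : Subgroup G) : Set G) :=
        zpowers_le.2 (mem_normalizer_fintype fun u hu =>
          ⟨(mem_normalizer_iff.1 hqN u).1 hu.1, d.Q.mul_mem (d.Q.mul_mem hq hu.2) (d.Q.inv_mem hq)⟩)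
      have h' : q1 ∈ ((zpowers q ⊔ (d.J ⊓ d.Q) : Subgroup G) : Set G) := by rw [sup_comm]; exact h
      rw [coe_mul_of_left_le_normalizer_right _ _ hnorm] at h'
      obtain ⟨y, hy, u, hu, e⟩ := h'
      obtain ⟨e', rfl⟩ := mem_zpowers_iff.1 hy
      replace e : q ^ e' * u = q1 := e
      have hgJ := mem_normalizer_iff.1 (d.M0_le F.g_mem)
      have hgu : F.g * u * F.g⁻¹ ∈ d.J := (hgJ u).1 hu.1
      have hqn' : ∀ k : ℤ, ∀ i ∈ d.J, q ^ k * i * (q ^ k)⁻¹ ∈ d.J := fun k i hi =>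
        (mem_normalizer_iff.1 (zpow_mem hqN k) i).1 hi
      -- modulo `J`
      haveI hJn : (d.J.subgroupOf (normalizer (d.J : Set G))).Normal := normal_in_normalizer
      let πJ := QuotientGroup.mk' (d.J.subgroupOf (normalizer (d.J : Set G)))
      have hπ0 : ∀ (y : G) (hy : y ∈ normalizer (d.J : Set G)), y ∈ d.J → πJ ⟨y, hy⟩ = 1 :=
        fun y hy hyJ => (QuotientGroup.eq_one_iff _).2 (mem_subgroupOf.2 hyJ)
      set Q0 : (normalizer (d.J : Set G)) ⧸ d.J.subgroupOf (normalizer (d.J : Set G)) := πJ ⟨q, hqN⟩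
        with hQ0
      set Gg := πJ ⟨F.g, d.M0_le F.g_mem⟩ with hGg
      have hq1π : πJ ⟨q1, hq1N⟩ = Q0 ^ e' := by
        have : (⟨q1, hq1N⟩ : normalizer (d.J : Set G)) =
            (⟨q, hqN⟩ : normalizer (d.J : Set G)) ^ e' * ⟨u, le_normalizer hu.1⟩ :=
          Subtype.ext (by simp [← e])
        rw [this, map_mul, hπ0 u _ hu.1, mul_one, map_zpow]
      have hconj1 : Gg * Q0 * Gg⁻¹ = Q0 ^ e' := by
        rw [← hq1π, hGg, hQ0, ← map_inv, ← map_mul, ← map_mul]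
        rfl
      have hconj2 : Gg * Q0 ^ e' * Gg⁻¹ = Q0⁻¹ := by
        rw [← hq1π, hGg, hQ0, ← map_inv πJ ⟨F.g, _⟩, ← map_mul, ← map_mul, ← map_inv]
        have hzJ : d.z ^ m ∈ d.J := zpow_mem d.z_mem_J m
        have : (⟨F.g, d.M0_le F.g_mem⟩ : normalizer (d.J : Set G)) * ⟨q1, hq1N⟩ *
            (⟨F.g, d.M0_le F.g_mem⟩)⁻¹ = (⟨q, hqN⟩ : normalizer (d.J : Set G))⁻¹ *
              ⟨d.z ^ m, le_normalizer hzJ⟩ := Subtype.ext hgq1
        rw [this, map_mul, hπ0 _ _ hzJ, mul_one]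
      have hsq : Q0 ^ (e' * e') = Q0⁻¹ := by
        rw [zpow_mul]
        calc (Q0 ^ e') ^ e' = (Gg * Q0 * Gg⁻¹) ^ e' := by rw [hconj1]
          _ = Gg * Q0 ^ e' * Gg⁻¹ := conj_zpow
          _ = _ := hconj2
      have hQ3 : orderOf Q0 = 3 := by
        refine orderOf_eq_prime ?_ fun h => hqJ ?_
        · rw [hQ0, ← map_pow]
          exact hπ0 _ _ (by rw [d.exp_Q q hq]; exact one_mem _)
        · exact mem_subgroupOf.1 ((QuotientGroup.eq_one_iff _).1 h)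
      rw [← zpow_neg_one, zpow_eq_zpow_iff_modEq, hQ3] at hsq
      have : (e' * e') % 3 = 2 := by simpa [Int.ModEq] using hsq
      have h3 : e' % 3 = 0 ∨ e' % 3 = 1 ∨ e' % 3 = 2 := by omega
      rw [Int.mul_emod] at this
      rcases h3 with h | h | h <;> rw [h] at this <;> norm_num at this
    set V1 : Subgroup G := V0 ⊔ zpowers q1 with hV1
    have hV1Q : V1 = d.Q := by
      refine eq_of_le_of_card_ge (sup_le hV0Q (zpowers_le.2 hq1Q)) ?_
      obtain ⟨k0, hk0⟩ := IsPGroup.iff_card.1 ((IsPGroup.of_card (p := 3) (n := 5)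
        (by rw [d.card_Q]; norm_num) : IsPGroup 3 d.Q).to_le (sup_le hV0Q (zpowers_le.2 hq1Q)))
      have h81 := hgt V0 hV0Q le_sup_left (mem_sup_right (mem_zpowers q))
      have hlt : Nat.card V0 < Nat.card V1 := lt_of_le_of_ne (card_le_of_le le_sup_left) fun h =>
        hq1V ((eq_of_le_of_card_ge (le_sup_left : V0 ≤ V1) h.ge).symm ▸ mem_sup_right (mem_zpowers q1))
      have : (3 : ℕ) ^ 4 < 3 ^ k0 := by
        rw [← hk0]
        have e81 : (3 : ℕ) ^ 4 = 81 := by norm_num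
        change _ < Nat.card V1
        omega
      rw [d.card_Q, hk0, show (243 : ℕ) = 3 ^ 5 by norm_num]
      exact Nat.pow_le_pow_right (by norm_num) ((Nat.pow_lt_pow_iff_right (by norm_num : 1 < 3)).1 this)
    have hwc' : d.Q ≤ centralizer ({w} : Set G) := by
      rw [← hV1Q]
      exact sup_le (sup_le (fun u hu => mem_centralizer_singleton_iff.2 (d.J_comm u hu.1 w hwJ))
        (zpowers_le.2 (mem_centralizer_singleton_iff.2 hwc.symm)))
        (zpowers_le.2 (mem_centralizer_singleton_iff.2 hi.symm))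
    refine hsmall F.x F.x_mem_J F.toLoc.x_notMem_Q ?_
    rw [← d.center_Q]
    exact ⟨hwQ, fun y hy => mem_centralizer_singleton_iff.1 (hwc' hy)⟩
  -- the image of `R ∩ J`
  set W' : Subgroup G := (R ⊓ d.J).map (MulAut.conj c).toMonoidHom with hW'
  have hW'J : W' ≤ d.J := by rintro _ ⟨y, hy, rfl⟩; exact (hcm y).1 hy.2
  have hrR' : ∀ u ∈ d.J, u * q * u⁻¹ * q⁻¹ ∈ W' := by
    intro u hu
    set u0 := c⁻¹ * u * c with hu0
    have hu0J : u0 ∈ d.J := (hcm u0).2 (by rw [hu0]; simpa [mul_assoc] using hu)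
    have hmem : u0 * r * u0⁻¹ * r⁻¹ ∈ R ⊓ d.J := by
      constructor
      · exact R.mul_mem ((mem_normalizer_iff.1 (hRn (hJC hu0J)) r).1 hrR) (R.inv_mem hrR)
      · have h := d.J.mul_mem hu0J ((mem_normalizer_iff.1 hrN _).1 (d.J.inv_mem hu0J))
        simpa [mul_assoc] using h
    refine ⟨_, hmem, ?_⟩
    show c * (u0 * r * u0⁻¹ * r⁻¹) * c⁻¹ = u * q * u⁻¹ * q⁻¹
    calc c * (u0 * r * u0⁻¹ * r⁻¹) * c⁻¹ = u * (c * r * c⁻¹) * u⁻¹ * (c * r * c⁻¹)⁻¹ := by
          rw [hu0]; group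
      _ = (u * j) * q * u⁻¹ * q⁻¹ * j⁻¹ := by rw [hjq]; group
      _ = j * (u * q * u⁻¹ * q⁻¹) * j⁻¹ := by rw [d.J_comm u hu j hj]; group
      _ = _ := by rw [d.J_comm j hj _ (hcomm u hu), mul_inv_cancel_right]
  have ha'W : a' ∈ W' := ⟨a, ⟨haR, haJ⟩, rfl⟩
  have hzW : d.z ∈ W' := by
    obtain ⟨u, hu, hne⟩ : ∃ u ∈ (d.J ⊓ d.Q : Subgroup G), q * u ≠ u * q := by
      by_contra h
      push Not at h
      exact hqJ (d.cent_meet_Q hq h).1
    have h1 := hrR' u hu.1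
    obtain ⟨i, hi⟩ := mem_zpowers_iff.1 (d.comm_Q u hu.2 q hq)
    rw [← hi] at h1
    have hi1 : d.z ^ i ≠ 1 := fun h => hne (by
      rw [h] at hi
      exact (mul_inv_eq_iff_eq_mul.1 (mul_inv_eq_one.1 hi.symm)).symm)
    have h3 : zpowers (d.z ^ i) = zpowers d.z := by
      refine eq_of_le_of_card_ge (zpowers_le.2 (zpow_mem (mem_zpowers _) i)) ?_
      rw [Nat.card_zpowers, Nat.card_zpowers, d.order_z, orderOf_eq_prime (p := 3) ?_ hi1]
      rw [← zpow_natCast, ← zpow_mul, mul_comm, zpow_mul, zpow_natCast,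
        show d.z ^ 3 = 1 by rw [← d.order_z, pow_orderOf_eq_one], one_zpow]
    exact (zpowers_le.2 h1 : zpowers (d.z ^ i) ≤ W') (h3 ▸ mem_zpowers d.z)
  have ha'Z : a' ∉ zpowers d.z := by
    intro h
    have hzpow : ∀ b, b ∈ zpowers d.z → b ≠ 1 → b = d.z ∨ b⁻¹ = d.z := by
      intro b hb hb1
      obtain ⟨i, rfl⟩ := mem_zpowers_iff.1 hb
      rw [← zpow_mod_orderOf, d.order_z] at hb1 ⊢
      have h3 : i % (3 : ℕ) = 0 ∨ i % (3 : ℕ) = 1 ∨ i % (3 : ℕ) = 2 := by omega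
      rcases h3 with h | h | h <;> rw [h] at hb1 ⊢
      · simp at hb1
      · exact Or.inl (zpow_one _)
      · right
        refine inv_eq_of_mul_eq_one_left ?_
        have := pow_orderOf_eq_one d.z
        rw [d.order_z] at this
        rw [← this]; group
    have ha'1 : a' ≠ 1 := fun h => ha1 (conj_eq_one_iff.1 h)
    rcases hzpow a' h ha'1 with e | e
    · exact (F.fusion a haD (isConj_iff.2 ⟨c⁻¹, by rw [← e, ha']; group⟩)).elim haZ haX
    · rcases F.fusion a⁻¹ (D.inv_mem haD) (isConj_iff.2 ⟨c⁻¹, by rw [← e, ha']; group⟩) with h | h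
      · exact haZ (inv_mem_iff.1 h)
      · exact haX (inv_mem_iff.1 h)
  have hW'Q : d.J ⊓ d.Q = W' := by
    set A : Subgroup G := zpowers d.z ⊔ zpowers a' with hA
    set B : Subgroup G := A ⊔ zpowers w with hB
    have hwJQ : w ∈ (d.J ⊓ d.Q : Subgroup G) :=
      ⟨hcomm _ F.x_mem_J, d.Q.mul_mem (hxQn q hq) (d.Q.inv_mem hq)⟩
    have hB1 : B ≤ d.J ⊓ d.Q := sup_le (sup_le (zpowers_le.2 ⟨d.z_mem_J, d.z_mem_Q⟩)
      (zpowers_le.2 ⟨ha'J, ha'Q⟩)) (zpowers_le.2 hwJQ)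
    have hB2 : B ≤ W' := sup_le (sup_le (zpowers_le.2 hzW) (zpowers_le.2 ha'W))
      (zpowers_le.2 (hrR' _ F.x_mem_J))
    have h3 : IsPGroup 3 B := d.J_group.to_le (hB1.trans inf_le_left)
    have hAq : A ≤ centralizer ({q} : Set G) :=
      sup_le (zpowers_le.2 (mem_centralizer_singleton_iff.2 (d.z_comm_S (d.Q_le_S hq)).symm))
        (zpowers_le.2 (mem_centralizer_singleton_iff.2 hqa.symm))
    have hlt1 : Nat.card (zpowers d.z : Subgroup G) < Nat.card A :=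
      lt_of_le_of_ne (card_le_of_le le_sup_left) fun h => ha'Z
        ((eq_of_le_of_card_ge (le_sup_left : zpowers d.z ≤ A) h.ge).symm ▸
          mem_sup_right (mem_zpowers a'))
    have hlt2 : Nat.card A < Nat.card B :=
      lt_of_le_of_ne (card_le_of_le le_sup_left) fun h => hwq
        (mem_centralizer_singleton_iff.1 (hAq
          ((eq_of_le_of_card_ge (le_sup_left : A ≤ B) h.ge).symm ▸ mem_sup_right (mem_zpowers w))))
    obtain ⟨ka, hka⟩ := IsPGroup.iff_card.1 (h3.to_le (le_sup_left : A ≤ B))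
    obtain ⟨kb, hkb⟩ := IsPGroup.iff_card.1 h3
    rw [Nat.card_zpowers, d.order_z, hka] at hlt1
    rw [hka, hkb] at hlt2
    have l1 := (Nat.pow_lt_pow_iff_right (by norm_num : 1 < 3)).1 ((pow_one 3).symm ▸ hlt1 : 3 ^ 1 < 3 ^ ka)
    have l2 := (Nat.pow_lt_pow_iff_right (by norm_num : 1 < 3)).1 hlt2
    have hBeq : B = d.J ⊓ d.Q := eq_of_le_of_card_ge hB1 (by
      rw [d.card_meet, hkb, show (27 : ℕ) = 3 ^ 3 by norm_num]
      exact Nat.pow_le_pow_right (by norm_num) (by omega))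
    have hne : W' ≠ d.J := fun h => hJR fun i hi => by
      have h2 : c * i * c⁻¹ ∈ W' := h.symm ▸ (hcm i).1 hi
      obtain ⟨y, hy, e⟩ := h2
      rw [← (MulAut.conj c).injective e]
      exact hy.1
    obtain ⟨kw, hkw⟩ := IsPGroup.iff_card.1 (d.J_group.to_le hW'J)
    have hw4 : kw < 4 := by
      by_contra hcon
      refine hne (eq_of_le_of_card_ge hW'J ?_)
      rw [d.card_J, hkw, show (81 : ℕ) = 3 ^ 4 by norm_num]
      exact Nat.pow_le_pow_right (by norm_num) (by omega)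
    refine eq_of_le_of_card_ge (hBeq ▸ hB2) ?_
    rw [d.card_meet, hkw, show (27 : ℕ) = 3 ^ 3 by norm_num]
    exact Nat.pow_le_pow_right (by norm_num) (by omega)
  -- the conjugate of `z` in `R ∩ J`
  set z' := c⁻¹ * d.z * c with hz'
  have hz'mem : z' ∈ R ⊓ d.J := by
    obtain ⟨y, hy, e⟩ := hW'Q.le ⟨d.z_mem_J, d.z_mem_Q⟩
    have : z' = y := by rw [hz', ← e]; show c⁻¹ * (c * y * c⁻¹) * c = y; group
    rw [this]; exact hy
  have hfix : ∀ h ∈ normalizer (d.J : Set G), h ∈ normalizer (R : Set G) →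
      h * z' * h⁻¹ ∈ zpowers z' := by
    intro h hhJ hhR
    have hm : c * (h * z' * h⁻¹) * c⁻¹ ∈ (d.J ⊓ d.Q : Subgroup G) :=
      hW'Q.symm ▸ ⟨h * z' * h⁻¹,
        ⟨(mem_normalizer_iff.1 hhR _).1 hz'mem.1, (mem_normalizer_iff.1 hhJ _).1 hz'mem.2⟩, rfl⟩
    have e : c * (h * z' * h⁻¹) * c⁻¹ = (c * h * c⁻¹) * d.z * (c * h * c⁻¹)⁻¹ := by rw [hz']; group
    rw [e] at hm
    obtain ⟨i, hi⟩ := mem_zpowers_iff.1 (d.conj_meet hm.1 hm.2)
    refine mem_zpowers_iff.2 ⟨i, ?_⟩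
    calc z' ^ i = (c⁻¹ * d.z * c⁻¹⁻¹) ^ i := by rw [hz', inv_inv]
      _ = c⁻¹ * d.z ^ i * c⁻¹⁻¹ := conj_zpow
      _ = h * z' * h⁻¹ := by rw [hi, hz']; group
  have ht : F.t ∈ C := mem_centralizer_singleton_iff.2 ((F.cent_D a haJ).2 haD)
  have hz'o : orderOf z' = 3 := by
    rw [hz', show c⁻¹ * d.z * c = MulAut.conj c⁻¹ d.z by simp, MulEquiv.orderOf_eq, d.order_z]
  have hz'ZX : z' ∈ zpowers d.z ∨ z' ∈ zpowers F.x := by
    obtain ⟨i, hi⟩ := mem_zpowers_iff.1 (hfix F.t F.t_norm_J (hRn ht))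
    rw [← zpow_mod_orderOf, hz'o] at hi
    have h3 : i % (3 : ℕ) = 0 ∨ i % (3 : ℕ) = 1 ∨ i % (3 : ℕ) = 2 := by omega
    rcases h3 with h | h | h <;> rw [h] at hi
    · rw [zpow_zero, eq_comm, conj_eq_one_iff] at hi
      rw [hi, orderOf_one] at hz'o; omega
    · rw [zpow_one] at hi
      exact F.fusion z' ((F.cent_D z' hz'mem.2).1 (mul_inv_eq_iff_eq_mul.1 hi.symm))
        (isConj_iff.2 ⟨c⁻¹, by rw [hz']; group⟩)
    · left
      have hinv : F.t * z' * F.t⁻¹ = z'⁻¹ := by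
        rw [← hi]
        refine eq_inv_of_mul_eq_one_left ?_
        have := pow_orderOf_eq_one z'
        rw [hz'o] at this
        rw [← this]; group
      have e : z' = c⁻¹ * d.z * c⁻¹⁻¹ := by rw [hz', inv_inv]
      exact e ▸ d.conj_meet (e ▸ hz'mem.2) (e ▸ F.inv_meet z' hz'mem.2 hinv)
  -- the swap
  have hn : F.n ∈ normalizer (R : Set G) := by
    have hna : F.n * a * F.n⁻¹ = a ∨ F.n * a * F.n⁻¹ = a⁻¹ := by
      have hDe : ∀ y ∈ D, ∃ i j : ℤ, y = d.z ^ i * F.x ^ j := by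
        intro y hy
        have hle : D ≤ zpowers d.z ⊔ zpowers F.x := (closure_le _).2 fun w hw => by
          rcases hw with rfl | rfl
          · exact mem_sup_left (mem_zpowers _)
          · exact mem_sup_right (mem_zpowers _)
        have hn : zpowers d.z ≤ normalizer (zpowers F.x : Set G) :=
          zpowers_le.2 (mem_normalizer_fintype fun w hw => by
            obtain ⟨j, rfl⟩ := mem_zpowers_iff.1 hw
            rw [← conj_zpow, d.J_comm _ d.z_mem_J _ F.x_mem_J, mul_inv_cancel_right]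
            exact zpow_mem (mem_zpowers _) j)
        have h2 : y ∈ ((zpowers d.z ⊔ zpowers F.x : Subgroup G) : Set G) := hle hy
        rw [coe_mul_of_left_le_normalizer_right _ _ hn] at h2
        obtain ⟨u, hu, v, hv, e⟩ := h2
        obtain ⟨i, rfl⟩ := mem_zpowers_iff.1 hu
        obtain ⟨j, rfl⟩ := mem_zpowers_iff.1 hv
        exact ⟨i, j, e.symm⟩
      obtain ⟨i, j, rfl⟩ := hDe a haD
      have hzx : Commute d.z F.x := d.J_comm _ d.z_mem_J _ F.x_mem_J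
      have e1 : F.n * (d.z ^ i * F.x ^ j) * F.n⁻¹ = d.z ^ j * F.x ^ i := by
        calc F.n * (d.z ^ i * F.x ^ j) * F.n⁻¹ = (F.n * d.z ^ i * F.n⁻¹) * (F.n * F.x ^ j * F.n⁻¹) := by
              group
          _ = F.x ^ i * d.z ^ j := by rw [← conj_zpow, ← conj_zpow, F.n_z, F.n_x]
          _ = _ := (hzx.symm.zpow_zpow i j).eq
      rw [e1]
      have hz3 : ∀ k l : ℤ, k % 3 = l % 3 → d.z ^ k = d.z ^ l := fun k l h => by
        rw [zpow_eq_zpow_iff_modEq, d.order_z]; exact h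
      have hx3 : ∀ k l : ℤ, k % 3 = l % 3 → F.x ^ k = F.x ^ l := fun k l h => by
        rw [zpow_eq_zpow_iff_modEq, F.order_x]; exact h
      have hi0 : i % 3 ≠ 0 := fun h => haX (by
        rw [hz3 i 0 h, zpow_zero, one_mul]; exact zpow_mem (mem_zpowers _) j)
      have hj0 : j % 3 ≠ 0 := fun h => haZ (by
        rw [hx3 j 0 h, zpow_zero, mul_one]; exact zpow_mem (mem_zpowers _) i)
      by_cases hij : i % 3 = j % 3
      · left; rw [hz3 j i hij.symm, hx3 i j hij]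
      · right
        rw [mul_inv_rev, ← zpow_neg, ← zpow_neg, (hzx.symm.zpow_zpow (-j) (-i)).eq,
          hz3 j (-i) (by omega), hx3 i (-j) (by omega)]
    have hnC : ∀ y, y ∈ C → F.n * y * F.n⁻¹ ∈ C := fun y hy => by
      have hya : Commute y a := mem_centralizer_singleton_iff.1 hy
      have h1 : Commute (F.n * y * F.n⁻¹) (F.n * a * F.n⁻¹) := hya.map (MulAut.conj F.n).toMonoidHom
      refine mem_centralizer_singleton_iff.2 ?_
      rcases hna with e | e <;> rw [e] at h1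
      · exact h1.eq
      · exact (Commute.inv_right_iff.1 h1).eq
    have hn1 : F.n⁻¹ = F.n := inv_eq_of_mul_eq_one_right F.n_sq
    set σ : MulAut C :=
      { toFun := fun y => ⟨F.n * (y : G) * F.n⁻¹, hnC y y.2⟩
        invFun := fun y => ⟨F.n * (y : G) * F.n⁻¹, hnC y y.2⟩
        left_inv := fun y => Subtype.ext (by
          show F.n * (F.n * (y : G) * F.n⁻¹) * F.n⁻¹ = y
          calc F.n * (F.n * (y : G) * F.n⁻¹) * F.n⁻¹ = (F.n * F.n) * (y : G) * (F.n * F.n)⁻¹ := by group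
            _ = y := by rw [F.n_sq]; group)
        right_inv := fun y => Subtype.ext (by
          show F.n * (F.n * (y : G) * F.n⁻¹) * F.n⁻¹ = y
          calc F.n * (F.n * (y : G) * F.n⁻¹) * F.n⁻¹ = (F.n * F.n) * (y : G) * (F.n * F.n)⁻¹ := by group
            _ = y := by rw [F.n_sq]; group)
        map_mul' := fun x y => Subtype.ext (by
          show F.n * ((x : G) * (y : G)) * F.n⁻¹ = F.n * x * F.n⁻¹ * (F.n * y * F.n⁻¹)
          group) } with hσ
    refine mem_normalizer_fintype fun y hy => ?_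
    obtain ⟨y', hy', rfl⟩ := hy
    refine ⟨σ y', ?_, rfl⟩
    rw [← LocGroup56.pCore_map_equiv 3 σ]
    exact ⟨y', hy', rfl⟩
  have hfn := hfix F.n (d.M0_le F.n_mem) hn
  have hdisj : ∀ y, y ∈ zpowers d.z → y ∈ zpowers F.x → orderOf y = 3 → False := fun y h1 h2 ho => by
    have e1 := eq_of_le_of_card_ge (zpowers_le.2 h1)
      (by rw [Nat.card_zpowers, Nat.card_zpowers, d.order_z, ho])
    have e2 := eq_of_le_of_card_ge (zpowers_le.2 h2)
      (by rw [Nat.card_zpowers, Nat.card_zpowers, F.order_x, ho])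
    exact F.toLoc.x_notMem_Q ((zpowers_le.2 d.z_mem_Q : zpowers d.z ≤ d.Q)
      (e1 ▸ e2.symm ▸ mem_zpowers F.x))
  have ho : orderOf (F.n * z' * F.n⁻¹) = 3 := by
    rw [show F.n * z' * F.n⁻¹ = MulAut.conj F.n z' from rfl, MulEquiv.orderOf_eq, hz'o]
  rcases hz'ZX with h | h
  · refine hdisj _ ((zpowers_le.2 h : zpowers z' ≤ zpowers d.z) hfn) ?_ ho
    obtain ⟨i, hi⟩ := mem_zpowers_iff.1 h
    exact mem_zpowers_iff.2 ⟨i, by rw [← hi, ← conj_zpow, F.n_z]⟩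
  · refine hdisj _ ?_ ((zpowers_le.2 h : zpowers z' ≤ zpowers F.x) hfn) ho
    obtain ⟨i, hi⟩ := mem_zpowers_iff.1 h
    exact mem_zpowers_iff.2 ⟨i, by rw [← hi, ← conj_zpow, F.n_x]⟩

end Cfsg.Agent.McL3x39
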