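import Cfsg.Agent.Lib.McL3Base39
import Cfsg.Agent.Lib.McL3Cases39
import Cfsg.Agent.Lib.McL3Perm42
import Cfsg.Agent.Lib.McL3YLocal39
import Cfsg.Agent.Lib.McL3Simple26
import Cfsg.Agent.Lib.HallCore
import Cfsg.Agent.Lib.TransferThompson
import Cfsg.Prelude.Def_SporadicB
import Cfsg.Prelude.Def_KGroupFacts
import Cfsg.Prelude.Def_Spor_Conway
import Cfsg.Agent.S3334
import Cfsg.Agent.S2073

/-!
# S3367, S5523, S2913: the automorphism group of the McLaughlin group

In the big case the involution `c = g·e` (or `g⁻¹·e`) centralizing the part of `J` inverted by `t`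
is not conjugate to `t`; its image in `Sym(8)` is odd, and Thompson transfer gives a normal subgroup
of index two with involution centralizer a nonsplit double cover of `Alt(8)`.
-/

set_option autoImplicit false

namespace Cfsg.Agent.McL3x39

open Subgroup Equiv Equiv.Perm

universe u

variable {G : Type u} [Group G] [Finite G] {d : Data G}

/-- An involution inverting `z` and `x` and centralizing the part of `J` inverted by `t` is not
conjugate to `t`. -/
theorem Frame.not_isConj (F : Frame d) {c : G}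
    (hcU : ∀ j ∈ d.J, F.t * j * F.t⁻¹ = j⁻¹ → c * j * c⁻¹ = j) : ¬ IsConj F.t c := by
  intro h
  obtain ⟨k, hk⟩ := isConj_iff.1 h.symm
  let U : Subgroup G :=
    { carrier := {j | j ∈ d.J ∧ F.t * j * F.t⁻¹ = j⁻¹}
      one_mem' := ⟨d.J.one_mem, by group⟩
      mul_mem' := by
        rintro i j ⟨hi, hi'⟩ ⟨hj, hj'⟩
        refine ⟨d.J.mul_mem hi hj, ?_⟩
        rw [mul_inv_rev, ← hi', ← hj', show F.t * (i * j) * F.t⁻¹ = (F.t * i * F.t⁻¹) * (F.t * j * F.t⁻¹) by group]
        rw [hi', hj']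
        exact d.J_comm _ (d.J.inv_mem hi) _ (d.J.inv_mem hj)
      inv_mem' := by
        rintro i ⟨hi, hi'⟩
        refine ⟨d.J.inv_mem hi, ?_⟩
        rw [show F.t * i⁻¹ * F.t⁻¹ = (F.t * i * F.t⁻¹)⁻¹ by group, hi'] }
  have hU9 : Nat.card U = 9 := F.card_U0
  set R := U.map (MulAut.conj k).toMonoidHom with hR
  have hR9 : Nat.card R = 9 := by
    rw [← Nat.card_congr (U.equivMapOfInjective _ (MulAut.conj k).injective).toEquiv, hU9]
  have hRt : R ≤ centralizer ({F.t} : Set G) := by
    rintro _ ⟨j, hj, rfl⟩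
    refine mem_centralizer_singleton_iff.2 ?_
    show k * j * k⁻¹ * F.t = F.t * (k * j * k⁻¹)
    have e : c * j = j * c := mul_inv_eq_iff_eq_mul.1 (hcU j hj.1 hj.2)
    rw [← hk]
    calc k * j * k⁻¹ * (k * c * k⁻¹) = k * (j * c) * k⁻¹ := by group
      _ = k * (c * j) * k⁻¹ := by rw [e]
      _ = _ := by group
  obtain ⟨v, -, hv⟩ := F.sylow R (IsPGroup.of_card (n := 2) (by rw [hR9]; norm_num)) hRt
  have hD : R.map (MulAut.conj v).toMonoidHom = closure ({d.z, F.x} : Set G) := by
    refine eq_of_le_of_card_ge ?_ ?_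
    · rintro _ ⟨a, ha, rfl⟩; exact hv a ha
    · rw [← Nat.card_congr (R.equivMapOfInjective _ (MulAut.conj v).injective).toEquiv, hR9, F.card_D]
  obtain ⟨_, ⟨j, hj, rfl⟩, hjz⟩ :=
    (hD.symm ▸ subset_closure (Set.mem_insert _ _) : d.z ∈ R.map (MulAut.conj v).toMonoidHom)
  have hconj : IsConj d.z j := (isConj_iff.2 ⟨v * k, by
    rw [← hjz]; show v * k * j * (v * k)⁻¹ = v * (k * j * k⁻¹) * v⁻¹; group⟩).symm
  obtain ⟨hjJ, hjt⟩ := hj
  obtain ⟨g, hg⟩ := isConj_iff.1 hconj
  have hjQ := F.inv_meet j hjJ hjt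
  obtain ⟨i, hi⟩ := mem_zpowers_iff.1 (hg ▸ d.conj_meet (g := g) (hg ▸ hjJ) (hg ▸ hjQ) :
    j ∈ zpowers d.z)
  have hcomm : F.t * j = j * F.t :=
    (F.cent_D j hjJ).2 (hi ▸ zpow_mem (subset_closure (Set.mem_insert _ _)) i)
  rw [hcomm, mul_inv_cancel_right] at hjt
  have h2 : j ^ 2 = 1 := by rw [pow_two]; nth_rw 1 [hjt]; rw [inv_mul_cancel]
  have hj1 : j = 1 := by
    have h3 := d.J_exp j hjJ
    rwa [pow_succ, h2, one_mul] at h3
  rw [hj1] at hjz
  have : d.z = 1 := by simpa using hjz.symm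
  have ho := d.order_z
  rw [this, orderOf_one] at ho
  omega

/-- One of `g e`, `g⁻¹ e` centralizes the part of `J` inverted by `t`. -/
theorem BigCase.exists_c {F : Frame d} (h : BigCase F) : ∃ c : G, c * c = 1 ∧ c * F.t = F.t * c ∧
    c * d.z * c⁻¹ = d.z⁻¹ ∧ c * F.x * c⁻¹ = F.x⁻¹ ∧
    ∀ j ∈ d.J, F.t * j * F.t⁻¹ = j⁻¹ → c * j * c⁻¹ = j := by
  classical
  set t := F.t with htdef
  have htt : t * t = 1 := by
    have := pow_orderOf_eq_one t; rwa [F.order_t, pow_two] at this
  have htz : t * d.z = d.z * t := h.comm.symm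
  have htx : t * F.x = F.x * t :=
    (F.cent_D F.x F.x_mem_J).2 (subset_closure (Set.mem_insert_of_mem _ rfl))
  have hgN : F.g ∈ normalizer (d.J : Set G) := d.M0_le F.g_mem
  set c := F.g * h.e with hc
  have hcN : c ∈ normalizer (d.J : Set G) := mul_mem hgN h.e_norm
  have hct : c * t = t * c := by
    rw [hc, mul_assoc, h.e_t, ← mul_assoc, F.g_comm, mul_assoc]
  have hcc : c * c = 1 := by
    calc c * c = F.g * (h.e * F.g) * h.e := by rw [hc]; group
      _ = F.g * (F.g * h.e) * h.e := by rw [h.e_g]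
      _ = (F.g * F.g) * (h.e * h.e) := by group
      _ = 1 := by rw [F.g_sq, h.e_sq, htt]
  have hcz : c * d.z * c⁻¹ = d.z⁻¹ := by
    calc c * d.z * c⁻¹ = F.g * (h.e * d.z) * h.e⁻¹ * F.g⁻¹ := by rw [hc]; group
      _ = F.g * d.z * F.g⁻¹ := by rw [h.e_z]; group
      _ = _ := F.g_z
  have hcx : c * F.x * c⁻¹ = F.x⁻¹ := by
    calc c * F.x * c⁻¹ = F.g * (h.e * F.x) * h.e⁻¹ * F.g⁻¹ := by rw [hc]; group
      _ = F.g * F.x * F.g⁻¹ := by rw [h.e_x]; group
      _ = _ := F.g_x
  -- elements commuting with `t` preserve the inverted part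
  have hpres : ∀ a : G, a ∈ normalizer (d.J : Set G) → a * t = t * a → ∀ j ∈ d.J,
      t * j * t⁻¹ = j⁻¹ → a * j * a⁻¹ ∈ d.J ∧ t * (a * j * a⁻¹) * t⁻¹ = (a * j * a⁻¹)⁻¹ := by
    intro a ha hat j hj hjt
    refine ⟨(mem_normalizer_iff.1 ha j).1 hj, ?_⟩
    calc t * (a * j * a⁻¹) * t⁻¹ = (t * a) * j * (t * a)⁻¹ := by group
      _ = (a * t) * j * (a * t)⁻¹ := by rw [hat]
      _ = a * (t * j * t⁻¹) * a⁻¹ := by group
      _ = _ := by rw [hjt]; group
  by_cases hfix : ∃ j ∈ d.J, t * j * t⁻¹ = j⁻¹ ∧ j ≠ 1 ∧ c * j * c⁻¹ = j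
  · refine ⟨c, hcc, hct, hcz, hcx, fun i hi hit => ?_⟩
    obtain ⟨j, hj, hjt, hj1, hcj⟩ := hfix
    set j' := F.g * j * F.g⁻¹ with hj'
    obtain ⟨hj'J, hj't⟩ := hpres F.g hgN F.g_comm j hj hjt
    have hcj' : c * j' * c⁻¹ = j' := by
      have e : c * F.g = F.g * c := by rw [hc, mul_assoc, h.e_g]
      calc c * j' * c⁻¹ = (c * F.g) * j * (c * F.g)⁻¹ := by rw [hj']; group
        _ = F.g * (c * j * c⁻¹) * F.g⁻¹ := by rw [e]; group
        _ = j' := by rw [hcj]
    let U : Subgroup G :=
      { carrier := {a | a ∈ d.J ∧ t * a * t⁻¹ = a⁻¹}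
        one_mem' := ⟨d.J.one_mem, by group⟩
        mul_mem' := by
          rintro a b ⟨ha, ha'⟩ ⟨hb, hb'⟩
          refine ⟨d.J.mul_mem ha hb, ?_⟩
          rw [show t * (a * b) * t⁻¹ = (t * a * t⁻¹) * (t * b * t⁻¹) by group, ha', hb', mul_inv_rev]
          exact d.J_comm _ (d.J.inv_mem ha) _ (d.J.inv_mem hb)
        inv_mem' := by
          rintro a ⟨ha, ha'⟩
          refine ⟨d.J.inv_mem ha, ?_⟩
          rw [show t * a⁻¹ * t⁻¹ = (t * a * t⁻¹)⁻¹ by group, ha'] }
    let W : Subgroup G := U ⊓ centralizer ({c} : Set G)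
    have hmem : ∀ a : G, c * a * c⁻¹ = a → a ∈ centralizer ({c} : Set G) := fun a ha =>
      mem_centralizer_singleton_iff.2 (mul_inv_eq_iff_eq_mul.1 ha).symm
    have hWU : W = U := by
      refine eq_of_le_of_card_ge inf_le_left ?_
      have hjW : j ∈ W := ⟨⟨hj, hjt⟩, hmem j hcj⟩
      have hj'W : j' ∈ W := ⟨⟨hj'J, hj't⟩, hmem j' hcj'⟩
      have hoj : orderOf j = 3 := orderOf_eq_prime (d.J_exp j hj) hj1
      have hlt : ¬ W ≤ zpowers j := by
        intro hle
        obtain ⟨k, hk⟩ := mem_zpowers_iff.1 (hle hj'W)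
        -- applying `g` twice gives back `j` instead of its inverse
        have e1 : F.g * j' * F.g⁻¹ = j⁻¹ := by
          rw [hj', show F.g * (F.g * j * F.g⁻¹) * F.g⁻¹ = (F.g * F.g) * j * (F.g * F.g)⁻¹ by group,
            F.g_sq]
          exact hjt
        have e2 : F.g * j' * F.g⁻¹ = j ^ (k * k) := by
          rw [← hk, ← conj_zpow, ← hj', ← hk, ← zpow_mul]
        rw [e1, ← zpow_neg_one, zpow_eq_zpow_iff_modEq, hoj] at e2
        have hsq : ∀ r : ZMod 3, r * r ≠ -1 := by decide
        refine hsq (k : ZMod 3) ?_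
        have := (ZMod.intCast_eq_intCast_iff _ _ 3).2 e2
        push_cast at this
        exact this.symm
      have h9 : Nat.card U = 9 := F.card_U0
      have hd : Nat.card W ∣ 3 ^ 2 := by
        rw [show (3 : ℕ) ^ 2 = 9 by norm_num, ← h9]; exact card_dvd_of_le inf_le_left
      obtain ⟨n, hn2, hn⟩ := (Nat.dvd_prime_pow Nat.prime_three).1 hd
      rw [h9, hn]
      by_contra hh
      have hn1 : n ≤ 1 := by
        by_contra hn1
        exact hh (le_trans (by norm_num) (Nat.pow_le_pow_right (by norm_num : 1 ≤ 3) (show 2 ≤ n by omega)))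
      refine hlt (eq_of_le_of_card_ge (zpowers_le.2 hjW) ?_).ge
      rw [Nat.card_zpowers, hoj, hn]
      exact (Nat.pow_le_pow_right (by norm_num) hn1).trans (by norm_num)
    have hiW : i ∈ W := hWU ▸ ⟨hi, hit⟩
    rw [(mem_centralizer_singleton_iff.1 hiW.2).symm, mul_inv_cancel_right]
  · push Not at hfix
    refine ⟨c * t, ?_, ?_, ?_, ?_, fun i hi hit => ?_⟩
    · calc c * t * (c * t) = c * (t * c) * t := by group
        _ = c * (c * t) * t := by rw [hct]
        _ = (c * c) * (t * t) := by group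
        _ = 1 := by rw [hcc, htt, one_mul]
    · rw [← mul_assoc t c t, ← hct]
    · calc c * t * d.z * (c * t)⁻¹ = c * (t * d.z) * t⁻¹ * c⁻¹ := by group
        _ = c * d.z * c⁻¹ := by rw [htz]; group
        _ = _ := hcz
    · calc c * t * F.x * (c * t)⁻¹ = c * (t * F.x) * t⁻¹ * c⁻¹ := by group
        _ = c * F.x * c⁻¹ := by rw [htx]; group
        _ = _ := hcx
    · obtain ⟨hciJ, hcit⟩ := hpres c hcN hct i hi hit
      set i' := c * i * c⁻¹ with hi'
      have hprod : i * i' = 1 := by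
        by_contra h1
        refine hfix (i * i') (d.J.mul_mem hi hciJ) ?_ h1 ?_
        · rw [show t * (i * i') * t⁻¹ = (t * i * t⁻¹) * (t * i' * t⁻¹) by group, hit, hcit,
            d.J_comm _ (d.J.inv_mem hi) _ (d.J.inv_mem hciJ)]
          exact (mul_inv_rev i i').symm
        · rw [d.J_comm i hi i' hciJ]
          conv_lhs => rw [hi']
          rw [show c * (c * i * c⁻¹ * i) * c⁻¹ = (c * c) * i * (c * c)⁻¹ * (c * i * c⁻¹) by group, hcc,
            ← hi', d.J_comm i' hciJ i hi]
          group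
      calc c * t * i * (c * t)⁻¹ = c * (t * i * t⁻¹) * c⁻¹ := by group
        _ = i'⁻¹ := by rw [hit, hi']; group
        _ = i := inv_eq_of_mul_eq_one_left hprod

/-- The facts on the image in `Sym(8)` needed for the transfer. -/
structure AutData (F : Frame d) where
  /-- The map onto the symmetric group. -/
  φ : F.toLoc.T →* Perm (Fin 8)
  surj : Function.Surjective φ
  ker : ∀ a : F.toLoc.T, φ a = 1 ↔ (a : G) = 1 ∨ (a : G) = F.t
  /-- The involution used in the transfer. -/
  c : F.toLoc.T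
  c_sq : (c : G) * c = 1
  c_odd : Equiv.Perm.sign (φ c) = -1
  c_conj : ¬ IsConj F.t (c : G)
  /-- The involution `n`. -/
  n : F.toLoc.T
  n_val : (n : G) = F.n
  n_even : Equiv.Perm.sign (φ n) = 1
  /-- The element `f`. -/
  f : F.toLoc.T
  f_val : (f : G) = F.f
  f_even : Equiv.Perm.sign (φ f) = 1
  quad : ∀ a : F.toLoc.T, (φ a).cycleType = Multiset.replicate 4 2 →
    ∃ k : F.toLoc.T, (k : G) * F.n * (k : G)⁻¹ = a
  quad_split : ∀ a : F.toLoc.T, (φ a).cycleType = Multiset.replicate 4 2 →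
    ∃ k : F.toLoc.T, (k : G) * a * (k : G)⁻¹ = (a : G) * F.t
  even_inv : ∀ a : F.toLoc.T, (a : G) * a = 1 → Equiv.Perm.sign (φ a) = 1 →
    (a : G) = 1 ∨ IsConj F.t (a : G)

/-- A triple, a quadruple and no double transposition lifts to an involution. -/
theorem BigCase.exists_autData {F : Frame d} (h : BigCase F)
    (eH : F.toLoc.H ≃* Perm (Fin 8)) : Nonempty (AutData F) := by
  classical
  set T := F.toLoc.T with hT
  let φ : T →* Perm (Fin 8) := eH.toMonoidHom.comp (QuotientGroup.mk' F.toLoc.tT)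
  have hφs : Function.Surjective φ := eH.surjective.comp (QuotientGroup.mk'_surjective _)
  have htt : F.t * F.t = 1 := by
    have := pow_orderOf_eq_one F.t; rwa [F.order_t, pow_two] at this
  have htne : F.t ≠ 1 := fun e => by
    have := F.order_t; rw [e, orderOf_one] at this; omega
  have hker : ∀ a : T, φ a = 1 ↔ (a : G) = 1 ∨ (a : G) = F.t := fun a => by
    show eH (QuotientGroup.mk' _ a) = 1 ↔ _
    rw [MulEquiv.map_eq_one_iff, QuotientGroup.mk'_apply, QuotientGroup.eq_one_iff, Loc.tT]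
    constructor
    · intro ha
      obtain ⟨i, hi⟩ := mem_zpowers_iff.1 ha
      rw [← hi, SubgroupClass.coe_zpow]
      rcases Int.even_or_odd i with ⟨j, rfl⟩ | ⟨j, rfl⟩
      · exact Or.inl (show F.t ^ (j + j) = 1 by rw [← two_mul, zpow_mul, zpow_two, htt, one_zpow])
      · exact Or.inr (show F.t ^ (2 * j + 1) = F.t by
          rw [zpow_add, zpow_mul, zpow_two, htt, one_zpow, one_mul, zpow_one])
    · rintro (ha | ha)
      · rw [show a = 1 from Subtype.ext ha]; exact one_mem _
      · exact mem_zpowers_iff.2 ⟨1, by rw [zpow_one]; exact Subtype.ext ha.symm⟩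
  have hTc : ∀ a : T, (a : G) * F.t = F.t * a := fun a => mem_centralizer_singleton_iff.1 a.2
  -- conjugate images
  have hlift : ∀ a b : T, IsConj (φ a) (φ b) →
      ∃ k : T, (k : G) * a * (k : G)⁻¹ = b ∨ (k : G) * a * (k : G)⁻¹ = (b : G) * F.t := by
    intro a b hab
    obtain ⟨k', hk'⟩ := isConj_iff.1 hab
    obtain ⟨k, rfl⟩ := hφs k'
    refine ⟨k, ?_⟩
    have hh : φ (b⁻¹ * (k * a * k⁻¹)) = 1 := by
      rw [map_mul, map_mul, map_mul, map_inv, map_inv, hk', inv_mul_cancel]
    rcases (hker _).1 hh with e | e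
    · left
      have e' := congrArg ((b : G) * ·) e
      simpa [mul_assoc] using e'
    · right
      have e' := congrArg ((b : G) * ·) e
      simpa [mul_assoc] using e'
  have htcomm : ∀ {a b : G}, a * b = b * a → a * b * a⁻¹ = b := fun e => by rw [e, mul_inv_cancel_right]
  -- the images of the distinguished elements
  have hmem : ∀ {a : G}, a * F.t = F.t * a → a ∈ T := fun e => mem_centralizer_singleton_iff.2 e
  let zT : T := ⟨d.z, hmem h.comm⟩
  have hxt : F.x * F.t = F.t * F.x :=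
    ((F.cent_D F.x F.x_mem_J).2 (subset_closure (Set.mem_insert_of_mem _ rfl))).symm
  let xT : T := ⟨F.x, hmem hxt⟩
  let nT : T := ⟨F.n, hmem F.n_comm⟩
  have hfL : F.f ∈ d.L := (F.L1_le F.f_mem).1
  let fT : T := ⟨F.f, (F.L1_le F.f_mem).2⟩
  obtain ⟨c, hcc, hct, hcz, hcx, hcU⟩ := h.exists_c
  let cT : T := ⟨c, hmem hct⟩
  have hcn : ¬ IsConj F.t c := F.not_isConj hcU
  have hsq1 : ∀ a : T, (a : G) * a = 1 → φ a * φ a = 1 := fun a ha => by
    rw [← map_mul, show a * a = 1 from Subtype.ext ha, map_one]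
  have hz3 : orderOf (φ zT) = 3 := by
    refine orderOf_eq_prime ?_ fun e => ?_
    · rw [← map_pow, show zT ^ 3 = 1 from Subtype.ext (by
        show d.z ^ 3 = 1; rw [← d.order_z]; exact pow_orderOf_eq_one _), map_one]
    · have ho := d.order_z
      rcases (hker zT).1 e with e | e <;> rw [show d.z = _ from e] at ho
      · rw [orderOf_one] at ho; omega
      · rw [F.order_t] at ho; omega
  have hz360 : (φ zT).IsThreeCycle := by
    refine McL3Perm42.isThreeCycle_of_card hz3 ?_
    have e1 : (centralizer ({F.toLoc.zbar h.comm} : Set F.toLoc.H)).map eH.toMonoidHom ≤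
        centralizer ({φ zT} : Set (Perm (Fin 8))) := by
      rintro _ ⟨w, hw, rfl⟩
      exact mem_centralizer_singleton_iff.2 (show eH w * eH (F.toLoc.zbar h.comm) = _ * eH w by
        rw [← map_mul, mem_centralizer_singleton_iff.1 hw, map_mul]; rfl)
    refine dvd_trans ?_ (card_dvd_of_le e1)
    rw [← Nat.card_congr ((centralizer _).equivMapOfInjective _ eH.injective).toEquiv,
      Nat.card_congr h.eC.toEquiv]
    rw [Nat.card_prod, Nat.card_congr Multiplicative.toAdd, Nat.card_zmod, Nat.card_perm,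
      Nat.card_fin]
    norm_num [Nat.factorial]
  have hxeq : φ xT = φ nT * φ zT * (φ nT)⁻¹ := by
    rw [← map_inv, ← map_mul, ← map_mul]; exact congrArg φ (Subtype.ext F.n_z.symm)
  have hx3 : (φ xT).IsThreeCycle := by
    rw [hxeq, IsThreeCycle, cycleType_conj]; exact hz360
  have hxz : φ xT * φ zT = φ zT * φ xT := by
    rw [← map_mul, ← map_mul]
    exact congrArg φ (Subtype.ext (d.J_comm _ F.x_mem_J _ d.z_mem_J))
  have hnotpow : ∀ i : ℤ, φ xT ≠ φ zT ^ i := fun i e => by
    have hh : φ ((zT ^ i)⁻¹ * xT) = 1 := by rw [map_mul, map_inv, map_zpow, e, inv_mul_cancel]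
    have h3 : ((d.z ^ i)⁻¹ * F.x) ^ 3 = 1 :=
      d.J_exp _ (d.J.mul_mem (d.J.inv_mem (zpow_mem d.z_mem_J i)) F.x_mem_J)
    have hval : (((zT ^ i)⁻¹ * xT : T) : G) = (d.z ^ i)⁻¹ * F.x := rfl
    rcases (hker _).1 hh with e' | e' <;> rw [hval] at e'
    · have hxmem : F.x ∈ zpowers d.z := mem_zpowers_iff.2 ⟨i, (inv_mul_eq_one.1 e')⟩
      have := card_le_of_le ((closure_le _).2 (show ({d.z, F.x} : Set G) ⊆ zpowers d.z from
        Set.insert_subset (mem_zpowers _) (Set.singleton_subset_iff.2 hxmem)))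
      rw [F.card_D, Nat.card_zpowers, d.order_z] at this
      omega
    · rw [e', pow_succ, pow_two, htt, one_mul] at h3
      exact htne h3
  have hne1 : φ xT ≠ φ zT := fun e => hnotpow 1 (by rw [zpow_one]; exact e)
  have hne2 : φ xT ≠ (φ zT)⁻¹ := fun e => hnotpow (-1) (by rw [zpow_neg_one]; exact e)
  have hc2 := hsq1 cT hcc
  have hn2 := hsq1 nT F.n_sq
  have hcz' : φ cT * φ zT * (φ cT)⁻¹ = (φ zT)⁻¹ := by
    rw [← map_inv, ← map_mul, ← map_mul, ← map_inv]; exact congrArg φ (Subtype.ext hcz)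
  have hcx' : φ cT * φ xT * (φ cT)⁻¹ = (φ xT)⁻¹ := by
    rw [← map_inv, ← map_mul, ← map_mul, ← map_inv]; exact congrArg φ (Subtype.ext hcx)
  have hcinv : ∀ b : G, b * b = 1 → b ≠ b⁻¹ → False := fun b hb hne => hne (eq_inv_of_mul_eq_one_left hb)
  have hzinv : d.z ≠ d.z⁻¹ := fun e => by
    have hh : d.z ^ 2 = 1 := by rw [pow_two]; nth_rw 1 [e]; rw [inv_mul_cancel]
    have := orderOf_dvd_of_pow_eq_one hh
    rw [d.order_z] at this; norm_num at this
  have hc1 : φ cT ≠ 1 := fun e => by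
    rcases (hker cT).1 e with e | e
    · have := hcz; rw [show c = 1 from e] at this; exact hzinv (by simpa using this)
    · exact hcn (by rw [show c = F.t from e])
  have hn1 : φ nT ≠ 1 := fun e => by
    refine hne1 ?_
    rw [hxeq, e]; group
  -- `f` gives a double transposition
  have hfsign : Equiv.Perm.sign (φ fT) = 1 := by
    obtain ⟨e1⟩ := F.eL1
    have hord4 : (⟨F.f, F.f_mem⟩ : F.L1) ^ 4 = 1 ∧ (⟨F.f, F.f_mem⟩ : F.L1) ^ 2 ≠ 1 := by
      refine ⟨Subtype.ext ?_, fun e => htne ?_⟩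
      · show F.f ^ 4 = 1
        rw [show (4 : ℕ) = 2 * 2 by norm_num, pow_mul, pow_two F.f, F.f_sq, pow_two, htt]
      · have := congrArg Subtype.val e
        rwa [SubgroupClass.coe_pow, pow_two, F.f_sq] at this
    obtain ⟨b, hb, hba⟩ := McL3Perm42.sl25_odd (e1 ⟨F.f, F.f_mem⟩)
      (by rw [← map_pow, hord4.1, map_one])
      (by rw [← map_pow]; exact fun e => hord4.2 (e1.injective (e.trans (map_one e1).symm)))
    set b' := e1.symm b with hb'def
    have hb' : b' ^ 15 = 1 := by rw [hb'def, ← map_pow, hb, map_one]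
    have hba' : (b' * ⟨F.f, F.f_mem⟩) ^ 15 = 1 := by
      rw [hb'def]; apply e1.injective; rw [map_pow, map_mul, e1.apply_symm_apply, hba, map_one]
    let ι : F.L1 →* T := Subgroup.inclusion fun a ha => (F.L1_le ha).2
    let χ : F.L1 →* ℤˣ := (Equiv.Perm.sign.comp φ).comp ι
    have h15 : ∀ a : F.L1, a ^ 15 = 1 → χ a = 1 := fun a ha => by
      have := congrArg χ ha
      rw [map_pow, map_one] at this
      rcases Int.units_eq_one_or (χ a) with e | e <;> rw [e] at this ⊢
      exact absurd this (by decide)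
    have := h15 _ hba'
    rw [map_mul, h15 _ hb', one_mul] at this
    exact this
  have hf1 : φ fT ≠ 1 := fun e => by
    have hf := F.f_sq
    rcases (hker fT).1 e with e | e <;> rw [show F.f = _ from e] at hf
    · rw [one_mul] at hf; exact htne hf.symm
    · rw [htt] at hf; exact htne hf.symm
  have hf2 : φ fT * φ fT = 1 := by
    rw [← map_mul, hker]; exact Or.inr F.f_sq
  have hfz : φ fT * φ zT * (φ fT)⁻¹ = φ zT := by
    rw [← map_inv, ← map_mul, ← map_mul]
    exact congrArg φ (Subtype.ext (htcomm (mem_centralizer_singleton_iff.1 (d.L_le hfL))))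
  have hnofix : ∀ σ : Perm (Fin 8), σ * σ = 1 →
      (σ * φ zT * σ⁻¹ = φ zT ∨ σ * φ zT * σ⁻¹ = (φ zT)⁻¹) →
      σ.cycleType ≠ Multiset.replicate 4 2 := fun σ h2 hc e => by
    obtain ⟨a, ha⟩ := McL3Perm42.exists_fixed hz360 h2 hc
    exact McL3Perm42.no_fixed e a ha
  have hftype : (φ fT).cycleType = Multiset.replicate 2 2 := by
    obtain ⟨k, hk1, hk4, hk⟩ := McL3Perm42.involution_type hf2 hf1
    have hs := McL3Perm42.sign_of_type hk
    rw [hfsign] at hs
    interval_cases k
    · exact absurd hs (by decide)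
    · exact hk
    · exact absurd hs (by decide)
    · exact absurd hk (hnofix _ hf2 (Or.inl hfz))
  -- double transpositions do not lift to involutions
  have hdouble : ∀ a : T, (a : G) * a = 1 → (φ a).cycleType ≠ Multiset.replicate 2 2 := by
    intro a ha e
    obtain ⟨k, hk⟩ := hlift fT a (isConj_iff_cycleType_eq.2 (hftype.trans e.symm))
    have h2 : ((k : G) * F.f * (k : G)⁻¹) * ((k : G) * F.f * (k : G)⁻¹) = F.t := by
      rw [show (k : G) * F.f * (k : G)⁻¹ * ((k : G) * F.f * (k : G)⁻¹) =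
        (k : G) * (F.f * F.f) * (k : G)⁻¹ by group, F.f_sq, htcomm (hTc k)]
    rcases hk with hk | hk <;> rw [show (k : G) * F.f * (k : G)⁻¹ = _ from hk] at h2
    · exact htne (h2.symm.trans ha)
    · apply htne
      rw [← h2, show (a : G) * F.t * ((a : G) * F.t) = (a : G) * (F.t * a) * F.t by group, ← hTc,
        show (a : G) * ((a : G) * F.t) * F.t = ((a : G) * a) * (F.t * F.t) by group, ha, htt, one_mul]
  -- `n` is conjugate to `n t`
  have hnt : F.g * F.n * F.g⁻¹ = F.n * F.t := by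
    have h1 : F.g⁻¹ * F.n = F.n * F.g := by
      rw [← F.n_g]; group
    have h2 : F.n * F.g⁻¹ = F.g * F.n := by
      calc F.n * F.g⁻¹ = F.g * (F.g⁻¹ * F.n) * F.g⁻¹ := by group
        _ = F.g * (F.n * F.g) * F.g⁻¹ := by rw [h1]
        _ = _ := by group
    calc F.g * F.n * F.g⁻¹ = F.g * (F.n * F.g⁻¹) := by group
      _ = (F.g * F.g) * F.n := by rw [h2]; group
      _ = _ := by rw [F.g_sq, F.n_comm]
  have hctype : (φ cT).cycleType = Multiset.replicate 3 2 := by
    obtain ⟨k, hk1, hk4, hk⟩ := McL3Perm42.involution_type hc2 hc1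
    interval_cases k
    · refine absurd ?_ (McL3Perm42.not_swap hz360 hx3 hxz hne1 hne2 (Or.inl ⟨hcz', hcx'⟩))
      rw [← sum_cycleType, hk]; rfl
    · exact absurd hk (hdouble cT hcc)
    · exact hk
    · exact absurd hk (hnofix _ hc2 (Or.inr hcz'))
  have hntype : (φ nT).cycleType = Multiset.replicate 4 2 := by
    obtain ⟨k, hk1, hk4, hk⟩ := McL3Perm42.involution_type hn2 hn1
    interval_cases k
    · refine absurd ?_ (McL3Perm42.not_swap hz360 hx3 hxz hne1 hne2 (Or.inr hxeq.symm))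
      rw [← sum_cycleType, hk]; rfl
    · exact absurd hk (hdouble nT F.n_sq)
    · exfalso
      obtain ⟨k, hk'⟩ := hlift cT nT (isConj_iff_cycleType_eq.2 (hctype.trans hk.symm))
      apply hcn
      have hn : IsConj F.t F.n := F.n_conj
      rcases hk' with e | e
      · exact hn.trans (isConj_iff.2 ⟨_, e⟩).symm
      · exact (hn.trans (isConj_iff.2 ⟨F.g, hnt⟩)).trans (isConj_iff.2 ⟨_, e⟩).symm
    · exact hk
  have hquad : ∀ a : T, (φ a).cycleType = Multiset.replicate 4 2 →
      ∃ k : T, (k : G) * F.n * (k : G)⁻¹ = a := by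
    intro a ha
    obtain ⟨k, hk⟩ := hlift a nT (isConj_iff_cycleType_eq.2 (ha.trans hntype.symm))
    rcases hk with e | e
    · exact ⟨k⁻¹, by rw [Subgroup.coe_inv, show F.n = _ from e.symm]; group⟩
    · refine ⟨k⁻¹ * ⟨F.g, hmem F.g_comm⟩, ?_⟩
      rw [Subgroup.coe_mul, Subgroup.coe_inv, show ((k : G)⁻¹ * F.g) * F.n * ((k : G)⁻¹ * F.g)⁻¹ =
        (k : G)⁻¹ * (F.g * F.n * F.g⁻¹) * k by group, hnt, ← e]
      group
  refine ⟨{
    φ := φ, surj := hφs, ker := hker, c := cT, c_sq := hcc, c_conj := hcn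
    c_odd := by rw [McL3Perm42.sign_of_type hctype]; decide
    n := nT, n_val := rfl, n_even := by rw [McL3Perm42.sign_of_type hntype]; decide
    f := fT, f_val := rfl, f_even := hfsign
    quad := hquad, quad_split := ?_, even_inv := ?_ }⟩
  · intro a ha
    obtain ⟨k, hk⟩ := hquad a ha
    refine ⟨k * ⟨F.g, hmem F.g_comm⟩ * k⁻¹, ?_⟩
    rw [Subgroup.coe_mul, Subgroup.coe_mul, Subgroup.coe_inv, ← hk,
      show ((k : G) * F.g * (k : G)⁻¹) * ((k : G) * F.n * (k : G)⁻¹) * ((k : G) * F.g * (k : G)⁻¹)⁻¹ =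
        (k : G) * (F.g * F.n * F.g⁻¹) * (k : G)⁻¹ by group, hnt]
    rw [show (k : G) * (F.n * F.t) * (k : G)⁻¹ = (k : G) * F.n * (k : G)⁻¹ * ((k : G) * F.t * (k : G)⁻¹) by
      group, htcomm (hTc k)]
  · intro a ha hs
    by_cases h1 : φ a = 1
    · rcases (hker a).1 h1 with e | e
      · exact Or.inl e
      · exact Or.inr (by rw [e])
    obtain ⟨k, hk1, hk4, hk⟩ := McL3Perm42.involution_type (hsq1 a ha) h1
    have hs' := McL3Perm42.sign_of_type hk
    rw [hs] at hs'
    interval_cases k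
    · exact absurd hs' (by decide)
    · exact absurd hk (hdouble a ha)
    · exact absurd hs' (by decide)
    · obtain ⟨k, e⟩ := hquad a hk
      exact Or.inr (F.n_conj.trans (isConj_iff.2 ⟨_, e⟩))

/-- The cycles of an involution have length two. -/
theorem cycle_length_two {α : Type*} [Fintype α] [DecidableEq α] {π : Equiv.Perm α} (h : π ^ 2 = 1)
    {n : ℕ} (hn : n ∈ π.cycleType) : n = 2 :=
  le_antisymm (Nat.le_of_dvd (by norm_num)
    ((dvd_of_mem_cycleType hn).trans (orderOf_dvd_of_pow_eq_one h))) (two_le_of_mem_cycleType hn)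

/-- A Sylow 2-subgroup of `C(t)` is one of `G`. -/
theorem AutData.exists_sylow {F : Frame d} (A : AutData F) :
    ∃ P : Sylow 2 G, (P : Subgroup G) ≤ F.toLoc.T ∧ (A.c : G) ∈ (P : Subgroup G) := by
  classical
  haveI : Fact (Nat.Prime 2) := ⟨Nat.prime_two⟩
  have hc : IsPGroup 2 (zpowers A.c) := by
    refine IsPGroup.of_card (n := 1) ?_
    rw [Nat.card_zpowers, pow_one]
    refine orderOf_eq_prime (Subtype.ext (by rw [SubgroupClass.coe_pow, pow_two]; exact A.c_sq)) fun e => ?_
    have := A.c_odd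
    rw [e, map_one, map_one] at this
    exact absurd this (by decide)
  obtain ⟨P, hP⟩ := hc.exists_le_sylow
  set PG := (P : Subgroup F.toLoc.T).map F.toLoc.T.subtype with hPG
  obtain ⟨P', hP'⟩ := (P.2.map F.toLoc.T.subtype : IsPGroup 2 PG).exists_le_sylow
  have htT : F.t ∈ F.toLoc.T := mem_centralizer_singleton_iff.2 rfl
  have htP : F.t ∈ PG := by
    have hn : (zpowers (⟨F.t, htT⟩ : F.toLoc.T)).Normal := F.toLoc.tT_normal
    have h2 : IsPGroup 2 (zpowers (⟨F.t, htT⟩ : F.toLoc.T)) :=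
      IsPGroup.of_card (n := 1) (by
        rw [Nat.card_zpowers, pow_one, ← F.order_t]
        exact (orderOf_injective F.toLoc.T.subtype Subtype.val_injective _).symm)
    have := P.is_maximal' (h2.to_sup_of_normal_left P.2) le_sup_right
    exact ⟨_, this.le (mem_sup_left (mem_zpowers _)), rfl⟩
  suffices h : (P' : Subgroup G) = PG from
    ⟨P', h ▸ map_subtype_le _, h ▸ ⟨_, hP (mem_zpowers _), rfl⟩⟩
  by_contra hne
  have hlt : PG.subgroupOf (P' : Subgroup G) < ⊤ :=
    lt_top_iff_ne_top.2 fun e => hne (le_antisymm (subgroupOf_eq_top.1 e) hP')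
  haveI := P'.2.isNilpotent
  have hnc := (Group.normalizerCondition_of_isNilpotent (G := (P' : Subgroup G))) _ hlt
  obtain ⟨y, hy, hyP⟩ := SetLike.exists_of_lt hnc
  have hyN : ∀ w ∈ PG, (y : G) * w * (y : G)⁻¹ ∈ PG := fun w hw =>
    (mem_normalizer_iff.1 hy ⟨w, hP' hw⟩).1 hw
  by_cases hyt : (y : G) * F.t * (y : G)⁻¹ = F.t
  · refine hyP ?_
    rw [mem_subgroupOf]
    have hyT : (y : G) ∈ F.toLoc.T := mem_centralizer_singleton_iff.2 (mul_inv_eq_iff_eq_mul.1 hyt)
    have h2 : IsPGroup 2 ((P' : Subgroup G).subgroupOf F.toLoc.T) := P'.2.comap_subtype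
    have hle : (P : Subgroup F.toLoc.T) ≤ (P' : Subgroup G).subgroupOf F.toLoc.T := fun w hw =>
      hP' ⟨w, hw, rfl⟩
    have := P.is_maximal' h2 hle
    exact ⟨⟨(y : G), hyT⟩, this.le y.2, rfl⟩
  · obtain ⟨s, hs, hsv⟩ : ∃ s ∈ (P : Subgroup F.toLoc.T), (s : G) = (y : G) * F.t * (y : G)⁻¹ :=
      hyN F.t htP
    have hs2 : (s : G) * s = 1 := by
      rw [hsv]
      have := pow_orderOf_eq_one F.t
      rw [F.order_t, pow_two] at this
      rw [show (y : G) * F.t * (y : G)⁻¹ * ((y : G) * F.t * (y : G)⁻¹) = (y : G) * (F.t * F.t) * (y : G)⁻¹ by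
        group, this]
      group
    have hcent : ∀ w ∈ (P : Subgroup F.toLoc.T), w * s = s * w := by
      intro w hw
      refine Subtype.ext ?_
      show (w : G) * s = s * (w : G)
      have h1 : (y : G)⁻¹ * w * y ∈ PG := by
        have := (mem_normalizer_iff''.1 hy ⟨(w : G), hP' ⟨w, hw, rfl⟩⟩).1
          (show (w : G) ∈ PG from ⟨w, hw, rfl⟩)
        exact this
      have h2 := mem_centralizer_singleton_iff.1 (map_subtype_le _ h1 : _ ∈ F.toLoc.T)
      rw [hsv]
      calc (w : G) * ((y : G) * F.t * (y : G)⁻¹) = (y : G) * ((y : G)⁻¹ * w * y * F.t) * (y : G)⁻¹ := by group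
        _ = (y : G) * (F.t * ((y : G)⁻¹ * w * y)) * (y : G)⁻¹ := by rw [h2]
        _ = _ := by group
    have hs1 : A.φ s ≠ 1 := fun e => by
      rcases (A.ker s).1 e with e | e
      · have hh := hsv.symm.trans e
        have : F.t = 1 := by
          calc F.t = (y : G)⁻¹ * ((y : G) * F.t * (y : G)⁻¹) * y := by group
            _ = 1 := by rw [hh]; group
        have ho := F.order_t
        rw [this, orderOf_one] at ho
        omega
      · exact hyt (hsv.symm.trans e)
    have h128 : 128 ∣ Nat.card (centralizer ({A.φ s} : Set (Perm (Fin 8)))) := by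
      let P8 := P.mapSurjective A.surj
      have hle : (P8 : Subgroup (Perm (Fin 8))) ≤ centralizer {A.φ s} := by
        rw [Sylow.coe_mapSurjective]
        rintro _ ⟨w, hw, rfl⟩
        exact mem_centralizer_singleton_iff.2 (by rw [← map_mul, hcent w hw, map_mul])
      refine dvd_trans ?_ (card_dvd_of_le hle)
      exact P8.pow_dvd_card_of_pow_dvd_card (n := 7) (by
        rw [Nat.card_perm, Nat.card_fin]; norm_num [Nat.factorial])
    have htype := McL3Perm42.type_of_central
      (by rw [← map_mul, show s * s = 1 from Subtype.ext hs2, map_one]) hs1 h128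
    -- a central element of a Sylow subgroup has an odd class, which is not closed under `t`
    obtain ⟨k, hk⟩ := A.quad_split s htype
    let σt : F.toLoc.T := ⟨F.t, htT⟩
    have hk' : k * s * k⁻¹ = s * σt := Subtype.ext hk
    set O := MulAction.orbit (ConjAct F.toLoc.T) s with hO
    have hsel : ∀ w ∈ O, w * σt ∈ O := by
      rintro _ ⟨a, rfl⟩
      refine ⟨a * ConjAct.toConjAct k, ?_⟩
      show (a * ConjAct.toConjAct k) • s = (a • s) * σt
      rw [mul_smul, ConjAct.toConjAct_smul, hk', smul_mul',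
        show a • σt = σt from by
          rw [ConjAct.smul_def]
          exact Subtype.ext (by
            show ((ConjAct.ofConjAct a : F.toLoc.T) : G) * F.t * _⁻¹ = F.t
            rw [mem_centralizer_singleton_iff.1 (ConjAct.ofConjAct a).2, mul_inv_cancel_right])]
    have hodd : Odd (Nat.card O) := by
      have h1 := MulAction.index_stabilizer (ConjAct F.toLoc.T) s
      rw [← Nat.card_coe_set_eq] at h1
      have h2 : Nat.card O = (centralizer ({s} : Set F.toLoc.T)).index := by
        refine Nat.eq_of_mul_eq_mul_right (Nat.card_pos (α := centralizer ({s} : Set F.toLoc.T))) ?_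
        rw [Subgroup.index_mul_card, hO, ← h1]
        nth_rw 1 [Subgroup.nat_card_centralizer_nat_card_stabilizer]
        rw [Subgroup.index_mul_card]
        exact Nat.card_congr ConjAct.ofConjAct.toEquiv
      rw [h2]
      have hPs : (P : Subgroup F.toLoc.T) ≤ centralizer ({s} : Set F.toLoc.T) := fun w hw =>
        mem_centralizer_singleton_iff.2 (hcent w hw)
      exact Odd.of_dvd_nat (Nat.odd_iff.2 (Nat.two_dvd_ne_zero.1 P.not_dvd_index)) (index_dvd_of_le hPs)
    have hσ2 : σt * σt = 1 := Subtype.ext (by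
      have := pow_orderOf_eq_one F.t
      rwa [F.order_t, pow_two] at this)
    haveI := Fintype.ofFinite O
    let τ : Function.End O := fun w => ⟨w.1 * σt, hsel _ w.2⟩
    have hev : Even (Fintype.card O) := by
      have hfree : ∀ w : O, τ w ≠ w := fun w e => by
        have := congrArg Subtype.val e
        simp only [τ, mul_eq_left] at this
        have ho := F.order_t
        rw [show F.t = 1 from congrArg Subtype.val this, orderOf_one] at ho
        omega
      let π : Equiv.Perm O := Function.Involutive.toPerm τ fun w => Subtype.ext (by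
        show w.1 * σt * σt = w.1
        rw [mul_assoc, hσ2, mul_one])
      have hπ2 : π ^ 2 = 1 := by
        refine Equiv.ext fun w => Subtype.ext ?_
        rw [pow_two]
        show w.1 * σt * σt = w.1
        rw [mul_assoc, hσ2, mul_one]
      have hsupp : π.support = Finset.univ := Finset.eq_univ_of_forall fun w => mem_support.2 (hfree w)
      rw [← Finset.card_univ, ← hsupp, ← sum_cycleType, even_iff_two_dvd]
      exact Multiset.dvd_sum fun n hn => (cycle_length_two hπ2 hn).symm ▸ dvd_rfl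
    rw [← Nat.card_eq_fintype_card] at hev
    exact (Nat.not_even_iff_odd.2 hodd) hev

/-- The big case gives the automorphism group of the McLaughlin group. -/
theorem aut_of_big (F : Frame d) (h : BigCase F) (eH : F.toLoc.H ≃* Perm (Fin 8))
    (hno : ∀ O : Subgroup G, O.Normal → Odd (Nat.card O) → O = ⊥) :
    Nonempty (G ≃* MulAut Cfsg.Spor.McL) ∧ ∃ N : Subgroup G, N.Normal ∧ N.index = 2 ∧
      Nonempty (N ≃* Cfsg.Spor.McL) ∧ centralizer (N : Set G) = ⊥ := by
  classical
  obtain ⟨A⟩ := h.exists_autData eH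
  obtain ⟨P, hPT, hcP⟩ := A.exists_sylow
  let T := F.toLoc.T
  let χ : T →* ℤˣ := Equiv.Perm.sign.comp A.φ
  let T0 : Subgroup G := χ.ker.map T.subtype
  have hmem0 : ∀ a : T, (a : G) ∈ T0 ↔ Equiv.Perm.sign (A.φ a) = 1 := fun a => by
    constructor
    · rintro ⟨b, hb, e⟩
      rw [show a = b from Subtype.ext e.symm]; exact hb
    · intro ha; exact ⟨a, ha, rfl⟩
  have hcne : (A.c : G) ≠ 1 := fun e => by
    have := A.c_odd
    rw [show A.c = 1 from Subtype.ext e, map_one, map_one] at this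
    exact absurd this (by decide)
  -- transfer
  let ψ : (P : Subgroup G) →* ℤˣ := χ.comp (Subgroup.inclusion hPT)
  let Qs : Subgroup G := ψ.ker.map (P : Subgroup G).subtype
  have hQs : Qs.relIndex (P : Subgroup G) = 2 := by
    rw [Subgroup.relIndex, show Qs.subgroupOf (P : Subgroup G) = ψ.ker from
      comap_map_eq_self_of_injective Subtype.val_injective _]
    · rw [index_ker, MonoidHom.range_eq_top.mpr, card_top, Nat.card_eq_fintype_card]
      · rfl
      · intro y
        rcases Int.units_eq_one_or y with rfl | rfl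
        · exact ⟨1, map_one ψ⟩
        · exact ⟨⟨(A.c : G), hcP⟩, A.c_odd⟩
  obtain ⟨N, hN, hNi, hcN⟩ := TransferThompson.thompson_transfer P Qs (map_subtype_le _) hQs
    (orderOf_eq_prime (by rw [pow_two]; exact A.c_sq) hcne) hcP (by
      rintro g ⟨⟨w, hwP⟩, hw, hwe⟩
      have hwe : w = g * (A.c : G) * g⁻¹ := hwe
      subst hwe
      have hsq : g * (A.c : G) * g⁻¹ * (g * (A.c : G) * g⁻¹) = 1 := by
        rw [show g * (A.c : G) * g⁻¹ * (g * (A.c : G) * g⁻¹) = g * ((A.c : G) * A.c) * g⁻¹ by group,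
          A.c_sq]
        group
      rcases A.even_inv ⟨_, hPT hwP⟩ hsq hw with e | e
      · exact hcne (conj_eq_one_iff.1 e)
      · exact A.c_conj (e.trans (isConj_iff.2 ⟨g, rfl⟩).symm))
  haveI := hN
  -- the trace on the centralizer of `t`
  have hcsign : ∀ a : T, Equiv.Perm.sign (A.φ a) ≠ 1 → Equiv.Perm.sign (A.φ (a * A.c)) = 1 := by
    intro a ha
    rw [map_mul, map_mul, A.c_odd, (Int.units_eq_one_or _).resolve_left ha]; decide
  have htwo : F.t ∈ N := F.g_sq ▸ mul_self_mem_of_index_two hNi F.g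
  have htT : F.t ∈ T := mem_centralizer_singleton_iff.2 rfl
  let NT : Subgroup T := N.subgroupOf T
  have halt : alternatingGroup (Fin 8) ≤ NT.map A.φ := by
    rw [← closure_three_cycles_eq_alternating, closure_le]
    intro σ hσ
    obtain ⟨a, ha⟩ := A.surj σ⁻¹
    refine ⟨a * a, mul_self_mem_of_index_two hNi _, ?_⟩
    rw [map_mul, ha]
    have h3 := pow_orderOf_eq_one σ
    rw [IsThreeCycle.orderOf hσ, pow_succ, pow_two] at h3
    rw [← mul_inv_rev, inv_eq_of_mul_eq_one_right h3]
  have hNT : ∀ a : T, (a : G) ∈ N ↔ Equiv.Perm.sign (A.φ a) = 1 := by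
    have h1 : ∀ a : T, Equiv.Perm.sign (A.φ a) = 1 → (a : G) ∈ N := fun a ha => by
      obtain ⟨b, hb, hba⟩ := halt (mem_alternatingGroup.2 ha)
      have : A.φ (b⁻¹ * a) = 1 := by rw [map_mul, map_inv, hba, inv_mul_cancel]
      have hmem : ((b⁻¹ * a : T) : G) ∈ N := by
        rcases (A.ker _).1 this with e | e <;> rw [e]
        · exact one_mem N
        · exact htwo
      simpa using N.mul_mem hb hmem
    refine fun a => ⟨fun ha => ?_, h1 a⟩
    by_contra hs
    exact hcN (by simpa using N.mul_mem (N.inv_mem ha) (h1 _ (hcsign a hs)))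
  -- the centralizer of `t` in `N`
  let tN : N := ⟨F.t, htwo⟩
  let C := centralizer ({tN} : Set N)
  let ι : C →* T := (N.subtype.comp C.subtype).codRestrict T fun a =>
    mem_centralizer_singleton_iff.2 (congrArg Subtype.val (mem_centralizer_singleton_iff.1 a.2))
  have hι : Function.Injective ι := fun a b e =>
    Subtype.ext (Subtype.ext (congrArg (fun w : T => (w : G)) e))
  let π : C →* alternatingGroup (Fin 8) :=
    (A.φ.comp ι).codRestrict _ fun a => mem_alternatingGroup.2 ((hNT (ι a)).1 a.1.2)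
  have hπs : Function.Surjective π := fun σ => by
    obtain ⟨a, ha⟩ := A.surj σ
    have haN : (a : G) ∈ N := (hNT a).2 (by rw [ha]; exact mem_alternatingGroup.1 σ.2)
    exact ⟨⟨⟨a, haN⟩, mem_centralizer_singleton_iff.2
      (Subtype.ext (mem_centralizer_singleton_iff.1 a.2))⟩, Subtype.ext ha⟩
  let tC : C := ⟨tN, mem_centralizer_singleton_iff.2 rfl⟩
  have hπk : ∀ a : C, π a = 1 ↔ a = 1 ∨ a = tC := fun a => by
    rw [show (π a = 1 ↔ A.φ (ι a) = 1) from ⟨congrArg Subtype.val, fun e => Subtype.ext e⟩, A.ker]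
    exact or_congr ⟨fun e => Subtype.ext (Subtype.ext e), fun e => by rw [e]; rfl⟩
      ⟨fun e => Subtype.ext (Subtype.ext e), fun e => by rw [e]; rfl⟩
  have htC1 : tC ≠ 1 := fun e => by
    have ho := F.order_t
    rw [show F.t = 1 from congrArg (fun w : C => ((w : N) : G)) e, orderOf_one] at ho
    omega
  have hcenter : center C = π.ker := by
    refine le_antisymm (fun a ha => MonoidHom.mem_ker.2 ?_) fun a ha => mem_center_iff.2 fun b => ?_
    · have : π a ∈ center (alternatingGroup (Fin 8)) := mem_center_iff.2 fun σ => by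
        obtain ⟨b, rfl⟩ := hπs σ
        rw [← map_mul, ← map_mul, mem_center_iff.1 ha b]
      rwa [alternatingGroup.center_eq_bot (by simp), mem_bot] at this
    · rcases (hπk a).1 (MonoidHom.mem_ker.1 ha) with rfl | rfl
      · simp
      · exact Subtype.ext (mem_centralizer_singleton_iff.1 b.2)
  have hker2 : Nat.card π.ker = 2 := by
    have : π.ker = zpowers tC := by
      refine le_antisymm (fun a ha => ?_) (zpowers_le.2 (MonoidHom.mem_ker.2 ((hπk _).2 (Or.inr rfl))))
      rcases (hπk a).1 (MonoidHom.mem_ker.1 ha) with rfl | rfl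
      · exact one_mem _
      · exact mem_zpowers _
    rw [this, Nat.card_zpowers]
    refine orderOf_eq_prime ?_ htC1
    refine Subtype.ext (Subtype.ext ?_)
    show F.t ^ 2 = 1
    rw [← F.order_t]; exact pow_orderOf_eq_one _
  have hcov : Cfsg.IsNonsplitDoubleCover C (alternatingGroup (Fin 8)) := by
    refine ⟨hcenter ▸ hker2, ⟨(QuotientGroup.quotientMulEquivOfEq hcenter).trans
      (QuotientGroup.quotientKerEquivOfSurjective π hπs)⟩, fun L hL => ?_⟩
    have hLi : L.index = 2 := by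
      rw [hL.index_eq_card, hcenter, hker2]
    have hfN : (A.f : G) ∈ N := (hNT A.f).2 A.f_even
    let fC : C := ⟨⟨A.f, hfN⟩, mem_centralizer_singleton_iff.2
      (Subtype.ext (mem_centralizer_singleton_iff.1 A.f.2))⟩
    have hff : fC * fC = tC := Subtype.ext (Subtype.ext (by
      show (A.f : G) * A.f = F.t
      rw [A.f_val]; exact F.f_sq))
    have htL : tC ∈ L := hff ▸ mul_self_mem_of_index_two hLi fC
    have := disjoint_iff.1 hL.disjoint
    exact htC1 ((mem_bot).1 (this ▸ ⟨hcenter ▸ MonoidHom.mem_ker.2 ((hπk _).2 (Or.inr rfl)), htL⟩))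
  -- `t` is not central in `N`
  have hnot : ¬ ∀ w : N, w * tN = tN * w := by
    intro hc
    have hnN : F.n ∈ N := A.n_val ▸ (hNT A.n).2 A.n_even
    obtain ⟨k, hk⟩ := isConj_iff.1 F.n_conj
    have hzN : d.z ∈ N := by
      have h3 : d.z ^ 3 = 1 := d.order_z ▸ pow_orderOf_eq_one _
      rw [show d.z = (d.z * d.z) * (d.z * d.z) by
        rw [← mul_assoc, show d.z * d.z * d.z = 1 by rw [← h3]; simp [pow_succ], one_mul]]
      exact N.mul_mem (mul_self_mem_of_index_two hNi _) (mul_self_mem_of_index_two hNi _)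
    have hzc : (k⁻¹ * d.z * k) * F.t = F.t * (k⁻¹ * d.z * k) := by
      have := congrArg Subtype.val (hc ⟨k⁻¹ * d.z * k, by simpa using hN.conj_mem _ hzN k⁻¹⟩)
      exact this
    have hzn : d.z * F.n = F.n * d.z := by
      rw [← hk]
      calc d.z * (k * F.t * k⁻¹) = k * ((k⁻¹ * d.z * k) * F.t) * k⁻¹ := by group
        _ = k * (F.t * (k⁻¹ * d.z * k)) * k⁻¹ := by rw [hzc]
        _ = _ := by group
    have hxz : F.x = d.z := by rw [← F.n_z, ← hzn, mul_inv_cancel_right]
    have := F.card_D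
    rw [hxz, Set.pair_eq_singleton, ← zpowers_eq_closure, Nat.card_zpowers, d.order_z] at this
    omega
  have hiso : Nonempty (N ≃* Cfsg.Spor.McL) := by
    have hoN : orderOf tN = 2 := by
      rw [← F.order_t]
      exact (orderOf_injective N.subtype Subtype.val_injective tN).symm
    refine (S3334.result tN hoN hcov).resolve_left fun hsup => ?_
    have hchar : (Cfsg.oddCore N).Characteristic := HallCore.pPrimeCore_characteristic 2 N
    haveI := hchar
    have hO : (Cfsg.oddCore N).map N.subtype = ⊥ := hno _ inferInstance (by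
      rw [← Nat.card_congr ((Cfsg.oddCore N).equivMapOfInjective _ Subtype.val_injective).toEquiv]
      exact Nat.coprime_two_right.mp (HallCore.coprime_card_pPrimeCore 2 N))
    rw [(map_eq_bot_iff_of_injective _ Subtype.val_injective).1 hO, sup_bot_eq] at hsup
    exact hnot fun w => mem_centralizer_singleton_iff.1 (hsup ▸ mem_top w)
  obtain ⟨eN⟩ := hiso
  -- the centre of `N` and the centralizer of `N`
  have hCN : centralizer (N : Set G) = ⊥ := by
    refine (eq_bot_iff_forall _).2 fun w hw => ?_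
    have hwT : w ∈ T := mem_centralizer_singleton_iff.2 (hw _ htwo).symm
    have hw1 : A.φ ⟨w, hwT⟩ = 1 := by
      refine McL3Perm42.eq_one_of_commute (by simp) fun σ hσ => ?_
      obtain ⟨a, ha⟩ := A.surj σ
      have haN : (a : G) ∈ N := (hNT a).2 (by rw [ha]; exact hσ.sign)
      rw [← ha, ← map_mul, ← map_mul]
      exact congrArg A.φ (Subtype.ext (hw _ haN))
    rcases (A.ker _).1 hw1 with e | e
    · exact e
    · exfalso
      refine hnot fun v => Subtype.ext ?_
      have := hw _ v.2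
      rw [show w = F.t from e] at this
      exact this
  refine ⟨?_, N, hN, hNi, ⟨eN⟩, hCN⟩
  let θ : G →* MulAut Cfsg.Spor.McL := (MulAut.congr eN).toMonoidHom.comp MulAut.conjNormal
  have hθi : Function.Injective θ := by
    rw [← MonoidHom.ker_eq_bot_iff, eq_bot_iff]
    intro w hw
    rw [← hCN]
    intro v hv
    have h1 : (MulAut.congr eN) (MulAut.conjNormal w) = 1 := hw
    rw [MulEquiv.map_eq_one_iff] at h1
    have h2 := congrArg (fun σ : MulAut N => ((σ ⟨v, hv⟩ : N) : G)) h1
    simp only [MulAut.conjNormal_apply, MulAut.one_apply] at h2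
    exact (mul_inv_eq_iff_eq_mul.1 h2).symm
  have hcard : Nat.card (MulAut Cfsg.Spor.McL) = Nat.card G := by
    rw [(Cfsg.Inn Cfsg.Spor.McL).card_eq_card_quotient_mul_card_subgroup,
      show Nat.card (MulAut Cfsg.Spor.McL ⧸ Cfsg.Inn Cfsg.Spor.McL) = 2 from S2073.result,
      ← N.card_mul_index, hNi, mul_comm, Nat.card_congr eN.toEquiv]
    congr 1
    have hi : Function.Injective (MulAut.conj : Cfsg.Spor.McL →* MulAut Cfsg.Spor.McL) := by
      rw [← MonoidHom.ker_eq_bot_iff, eq_bot_iff]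
      intro w hw
      obtain ⟨v, rfl⟩ := eN.surjective w
      have hv : ∀ a : N, a * v = v * a := fun a => eN.injective (by
        have := DFunLike.congr_fun (MonoidHom.mem_ker.1 hw) (eN a)
        simp only [MulAut.conj_apply, MulAut.one_apply] at this
        rw [map_mul, map_mul, ← mul_inv_eq_iff_eq_mul.1 this])
      have : (v : G) ∈ centralizer (N : Set G) := fun a ha => congrArg Subtype.val (hv ⟨a, ha⟩)
      rw [hCN, mem_bot] at this
      rw [mem_bot, show v = 1 from Subtype.ext this, map_one]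
    exact Nat.card_congr (MonoidHom.ofInjective hi).toEquiv.symm
  haveI : Finite (MulAut Cfsg.Spor.McL) := Nat.finite_of_card_ne_zero (hcard ▸ Nat.card_pos.ne')
  exact ⟨MulEquiv.ofBijective θ ((Nat.bijective_iff_injective_and_card θ).2 ⟨hθi, hcard.symm⟩)⟩

end Cfsg.Agent.McL3x39

namespace Cfsg.Agent.McL3x39

universe v

/-- The big case gives the automorphism group, given the condition on the non-central elements of `J`. -/
theorem aut_of_big' {G : Type v} [Group G] [Finite G] {d : Data G} (F : Frame d) (hy : YLocal F)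
    (h : BigCase F) (eH : F.toLoc.H ≃* Equiv.Perm (Fin 8)) :
    Nonempty (G ≃* MulAut Cfsg.Spor.McL) ∧ ∃ N : Subgroup G, N.Normal ∧ N.index = 2 ∧
      Nonempty (N ≃* Cfsg.Spor.McL) ∧ Subgroup.centralizer (N : Set G) = ⊥ :=
  aut_of_big F h eH fun O hO hodd => haveI := hO; F.no_odd hy hodd

end Cfsg.Agent.McL3x39
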