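import Mathlib.GroupTheory.Sylow
import Mathlib.GroupTheory.QuotientGroup.Basic
import Mathlib.GroupTheory.SpecificGroups.Alternating
import Mathlib.LinearAlgebra.Matrix.SpecialLinearGroup

/-!
# S3367, S5523, S2913: 3-local data of the McLaughlin group (interface)

`Data` is the common part of the three hypotheses, `Loc` an involution of the `SL₂(5)`-cover with
its complement in the centralizer of `Z`, `Frame` its normal form inside the normalizer of `J`.
-/

set_option autoImplicit false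

namespace Cfsg.Agent.McL3x39

open Subgroup

/-- Common 3-local data. -/
structure Data (G : Type*) [Group G] [Finite G] where
  /-- The Sylow 3-subgroup. -/
  S : Sylow 3 G
  /-- The generator of the centre of `S`. -/
  z : G
  /-- The elementary abelian subgroup of order 81. -/
  J : Subgroup G
  /-- The extraspecial subgroup of order 243. -/
  Q : Subgroup G
  /-- The part `J.A₆` of the normalizer of `J`. -/
  M0 : Subgroup G
  /-- The part `Q.SL₂(5)` of the centralizer of `z`. -/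
  L : Subgroup G
  order_z : orderOf z = 3
  center_S : zpowers z = (S : Subgroup G) ⊓ centralizer ((S : Subgroup G) : Set G)
  z_mem_Q : z ∈ Q
  Q_normal : normalizer (zpowers z : Set G) ≤ normalizer (Q : Set G)
  L_normal : normalizer (zpowers z : Set G) ≤ normalizer (L : Set G)
  Q_le_L : Q ≤ L
  L_le : L ≤ centralizer ({z} : Set G)
  card_Q : Nat.card Q = 243
  exp_Q : ∀ a ∈ Q, a ^ 3 = 1
  center_Q : Q ⊓ centralizer (Q : Set G) = zpowers z
  comm_Q : ∀ a ∈ Q, ∀ b ∈ Q, a * b * a⁻¹ * b⁻¹ ∈ zpowers z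
  cent_Q : centralizer (Q : Set G) ≤ Q
  Q_sub : (Q.subgroupOf L).Normal
  eL : Nonempty (letI := Q_sub; L ⧸ Q.subgroupOf L ≃* Matrix.SpecialLinearGroup (Fin 2) (ZMod 5))
  L_three : ∀ g ∈ normalizer (zpowers z : Set G), (∃ k : ℕ, orderOf g = 3 ^ k) → g ∈ L
  J_le_S : J ≤ S
  J_comm : ∀ a ∈ J, ∀ b ∈ J, a * b = b * a
  J_exp : ∀ a ∈ J, a ^ 3 = 1
  card_J : Nat.card J = 81
  J_le_M0 : J ≤ M0
  M0_le : M0 ≤ normalizer (J : Set G)
  M0_normal : normalizer (J : Set G) ≤ normalizer (M0 : Set G)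
  J_sub : (J.subgroupOf M0).Normal
  eM : Nonempty (letI := J_sub; M0 ⧸ J.subgroupOf M0 ≃* alternatingGroup (Fin 6))
  M0_three : ∀ g ∈ normalizer (J : Set G), (∃ k : ℕ, orderOf g = 3 ^ k) → g ∈ M0

variable {G : Type*} [Group G] [Finite G]

/-- An involution of `L` with its complement `L1 ≅ SL₂(5)` in the centralizer of `z`. -/
structure Loc (d : Data G) where
  /-- The involution. -/
  t : G
  /-- An element of order three of `J` inside `L1`. -/
  x : G
  /-- An element of order four of `L1` inverting `x`. -/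
  f : G
  /-- The complement. -/
  L1 : Subgroup G
  order_t : orderOf t = 2
  t_mem_L1 : t ∈ L1
  L1_le : L1 ≤ d.L ⊓ centralizer ({t} : Set G)
  eL1 : Nonempty (L1 ≃* Matrix.SpecialLinearGroup (Fin 2) (ZMod 5))
  L_inf : ∀ a ∈ d.L, a * t = t * a → ∃ i : ℤ, d.z ^ i * a ∈ L1
  z_notMem : d.z ∉ L1
  L1_normal : normalizer (zpowers d.z : Set G) ⊓ centralizer ({t} : Set G) ≤ normalizer (L1 : Set G)
  cent_Q_t : ∀ q ∈ d.Q, q * t = t * q → q ∈ zpowers d.z
  t_central : ∀ m ∈ normalizer (zpowers d.z : Set G), m * t * m⁻¹ * t⁻¹ ∈ d.Q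
  cover : ∀ m ∈ normalizer (zpowers d.z : Set G), ∃ q ∈ d.Q, q * m ∈ centralizer ({t} : Set G)
  t_norm_J : t ∈ normalizer (d.J : Set G)
  x_mem_L1 : x ∈ L1
  x_mem_J : x ∈ d.J
  order_x : orderOf x = 3
  f_mem : f ∈ L1
  f_sq : f * f = t
  f_conj : f * x * f⁻¹ = x⁻¹
  f_norm_J : f ∈ normalizer (d.J : Set G)

variable {d : Data G}

/-- The subgroup `⟨z, x⟩` of order nine. -/
def Loc.D (l : Loc d) : Subgroup G := closure {d.z, l.x}

/-- The part of `J` inverted by the involution. -/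
def Loc.U0 (l : Loc d) : Set G := {j | j ∈ d.J ∧ l.t * j * l.t⁻¹ = j⁻¹}

/-- The centralizer of the involution. -/
def Loc.T (l : Loc d) : Subgroup G := centralizer ({l.t} : Set G)

/-- The group generated by the involution inside its centralizer. -/
def Loc.tT (l : Loc d) : Subgroup l.T :=
  zpowers ⟨l.t, mem_centralizer_singleton_iff.2 rfl⟩

instance Loc.tT_normal (l : Loc d) : l.tT.Normal := ⟨fun a ha b => by
  obtain ⟨i, rfl⟩ := mem_zpowers_iff.1 ha
  have hb : (b : G) * l.t = l.t * (b : G) := mem_centralizer_singleton_iff.1 b.2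
  have hc : Commute b (⟨l.t, mem_centralizer_singleton_iff.2 rfl⟩ : l.T) := Subtype.ext hb
  rw [(hc.zpow_right i).eq, mul_inv_cancel_right]
  exact ha⟩

/-- The involution inside the normalizer of `J`: a dihedral group of order eight `⟨g, n⟩` of `M0`. -/
structure Frame (d : Data G) extends Loc d where
  /-- An element of order four of `M0` inverting `z` and `x`. -/
  g : G
  /-- An involution of `M0` interchanging `z` and `x`. -/
  n : G
  t_mem_M0 : t ∈ d.M0
  cent_D : ∀ j ∈ d.J, (t * j = j * t ↔ j ∈ closure ({d.z, x} : Set G))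
  card_D : Nat.card (closure ({d.z, x} : Set G) : Subgroup G) = 9
  card_U0 : Nat.card {j | j ∈ d.J ∧ t * j * t⁻¹ = j⁻¹} = 9
  sylow : ∀ R : Subgroup G, IsPGroup 3 R → R ≤ centralizer ({t} : Set G) →
    ∃ c ∈ centralizer ({t} : Set G), ∀ a ∈ R, c * a * c⁻¹ ∈ closure ({d.z, x} : Set G)
  fusion : ∀ a ∈ closure ({d.z, x} : Set G), IsConj d.z a → a ∈ zpowers d.z ∨ a ∈ zpowers x
  g_mem : g ∈ d.M0
  g_comm : g * t = t * g
  g_sq : g * g = t
  g_z : g * d.z * g⁻¹ = d.z⁻¹
  g_x : g * x * g⁻¹ = x⁻¹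
  n_mem : n ∈ d.M0
  n_comm : n * t = t * n
  n_sq : n * n = 1
  n_z : n * d.z * n⁻¹ = x
  n_x : n * x * n⁻¹ = d.z
  n_g : n * g * n⁻¹ = g⁻¹
  n_conj : IsConj t n
  cent_meet : centralizer ((d.J ⊓ d.Q : Subgroup G) : Set G) = d.J
  kill : ∀ r ∈ normalizer (d.J : Set G), r * d.z * r⁻¹ = d.z⁻¹ → r * x = x * r →
    (∀ u ∈ d.J, t * u * t⁻¹ = u⁻¹ → r * u = u * r) → False
  inv_meet : ∀ u ∈ d.J, t * u * t⁻¹ = u⁻¹ → u ∈ d.Q

/-- The condition used for the non-central elements of `J`: the centralizer is 3-local in `N(J)`. -/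
def YLocal {d : Data G} (F : Frame d) : Prop :=
  ∀ a ∈ closure ({d.z, F.x} : Set G), a ∉ zpowers d.z → a ∉ zpowers F.x →
    centralizer ({a} : Set G) ≤ normalizer (d.J : Set G)

end Cfsg.Agent.McL3x39
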