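import Mathlib
import Cfsg.Agent.Lib.McL3Setup39
import Cfsg.Agent.Lib.McL3Base39
import Cfsg.Agent.Lib.SL25Presentation

/-!
# S3367, S5523, S2913: the involution inside the normalizer of `J`
-/

set_option autoImplicit false
set_option Elab.async false

namespace Cfsg.Agent.McL3Frame78

open Equiv
open McL3x39 (Data Loc Frame)

abbrev P6 := Equiv.Perm (Fin 6)

def c1 : P6 := swap 0 1 * swap 1 2
def c2 : P6 := swap 3 4 * swap 4 5
def tau : P6 := swap 0 1 * swap 3 4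
def hh : P6 := swap 0 3 * swap 3 1 * swap 1 4 * swap 2 5
def nn : P6 := swap 0 1 * swap 2 5
def a1 : P6 := swap 2 3 * swap 4 5
def a2 : P6 := swap 1 3 * swap 3 4

/-- Membership in the Sylow 3-subgroup of the blocks. -/
def InP (a : P6) : Prop := ∃ i j : Fin 3, c1 ^ i.val * c2 ^ j.val = a

instance (a : P6) : Decidable (InP a) := by unfold InP; infer_instance

/-- Normalising that subgroup. -/
def NP (a : P6) : Prop := InP (a * c1 * a⁻¹) ∧ InP (a * c2 * a⁻¹)

instance (a : P6) : Decidable (NP a) := by unfold NP; infer_instance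

set_option maxRecDepth 100000 in
theorem inP_mul : ∀ i j k l : Fin 3, InP (c1 ^ i.val * c2 ^ j.val * (c1 ^ k.val * c2 ^ l.val)) := by
  decide +kernel

theorem InP.mul {a b : P6} (ha : InP a) (hb : InP b) : InP (a * b) := by
  obtain ⟨i, j, rfl⟩ := ha
  obtain ⟨k, l, rfl⟩ := hb
  exact inP_mul i j k l

theorem InP.one : InP 1 := ⟨0, 0, by simp⟩

theorem InP.pow {a : P6} (ha : InP a) : ∀ n : ℕ, InP (a ^ n)
  | 0 => by rw [pow_zero]; exact InP.one
  | n + 1 => by rw [pow_succ]; exact (InP.pow ha n).mul ha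

theorem InP.gens : InP c1 ∧ InP c2 := ⟨⟨1, 0, by simp⟩, ⟨0, 1, by simp⟩⟩

theorem conj_inP {a b : P6} (ha : NP a) (hb : InP b) : InP (a * b * a⁻¹) := by
  obtain ⟨i, j, rfl⟩ := hb
  have : a * (c1 ^ i.val * c2 ^ j.val) * a⁻¹ = (a * c1 * a⁻¹) ^ i.val * (a * c2 * a⁻¹) ^ j.val := by
    rw [conj_pow, conj_pow]; group
  rw [this]
  exact (ha.1.pow _).mul (ha.2.pow _)

/-- The Sylow 3-subgroup as a subgroup. -/
def P0 : Subgroup P6 where
  carrier := {a | InP a}
  one_mem' := InP.one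
  mul_mem' := InP.mul
  inv_mem' {a} ha := by
    have h : a⁻¹ = a ^ (orderOf a - 1) := eq_comm.1 (eq_inv_of_mul_eq_one_left (by
      rw [← pow_succ, Nat.sub_add_cancel (orderOf_pos a), pow_orderOf_eq_one]))
    show InP a⁻¹
    rw [h]
    exact InP.pow ha _

set_option maxRecDepth 100000 in
theorem inP_inj : Function.Injective fun q : Fin 3 × Fin 3 => c1 ^ q.1.val * c2 ^ q.2.val := by
  unfold Function.Injective
  decide +kernel

theorem card_P0 : Nat.card P0 = 9 := by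
  have e : (P0 : Set P6) = Set.range fun q : Fin 3 × Fin 3 => c1 ^ q.1.val * c2 ^ q.2.val := by
    ext a
    exact ⟨fun ⟨i, j, h⟩ => ⟨(i, j), h⟩, fun ⟨q, h⟩ => ⟨q.1, q.2, h⟩⟩
  have h : Nat.card P0 = Nat.card (Set.range fun q : Fin 3 × Fin 3 => c1 ^ q.1.val * c2 ^ q.2.val) :=
    Nat.card_congr (Equiv.setCongr e)
  rw [h, Nat.card_range_of_injective inP_inj]
  simp

theorem even_all : Equiv.Perm.sign c1 = 1 ∧ Equiv.Perm.sign c2 = 1 ∧ Equiv.Perm.sign hh = 1 ∧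
    Equiv.Perm.sign nn = 1 ∧ Equiv.Perm.sign a1 = 1 ∧ Equiv.Perm.sign a2 = 1 := by
  decide +kernel

theorem identities : hh * hh = tau ∧ hh ^ 4 = 1 ∧ hh ^ 9 = hh ∧ nn * nn = 1 ∧ nn ^ 3 = nn ∧
    nn * hh * nn⁻¹ = hh⁻¹ ∧ nn * tau = tau * nn ∧ tau * tau = 1 ∧
    a1 * tau * a1⁻¹ = nn ∧ a2 * tau * a2⁻¹ = nn * hh ∧
    tau * c1 * tau⁻¹ = c1⁻¹ ∧ tau * c2 * tau⁻¹ = c2⁻¹ := by
  decide +kernel

theorem words : hh * hh * hh * (a1 * hh * a1⁻¹) * (a2 * hh * a2⁻¹) * (a1 * hh * a1⁻¹) * hh = c1 ∧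
    (a1 * hh * a1⁻¹) * (a2 * hh * a2⁻¹) * (a1 * hh * a1⁻¹) = c2 := by
  decide +kernel

set_option maxRecDepth 100000 in
theorem tau_inverts : ∀ i j : Fin 3,
    tau * (c1 ^ i.val * c2 ^ j.val) * tau⁻¹ * (c1 ^ i.val * c2 ^ j.val) = 1 := by
  decide +kernel

theorem np_facts : NP hh ∧ ¬ NP nn := by decide +kernel

set_option maxRecDepth 100000 in
theorem fixed_cases : ∀ a : P6, Equiv.Perm.sign a = 1 → NP (a⁻¹ * tau * a) → NP a ∨ NP (nn * a) := by
  decide +kernel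

set_option maxRecDepth 100000 in
theorem invert_cases : ∀ a : P6, Equiv.Perm.sign a = 1 → a * a = 1 → a * c1 = c1⁻¹ * a →
    a * c2 = c2⁻¹ * a → ∃ i j : Fin 3, c1 ^ i.val * c2 ^ j.val * a = tau * (c1 ^ i.val * c2 ^ j.val) := by
  decide +kernel


universe u

variable {G : Type u} [Group G] [Finite G]

/-- The basic facts used below. -/
structure Facts (d : Data G) : Prop where
  S_le : (d.S : Subgroup G) ≤ d.M0
  Q_le : d.Q ≤ d.S
  S_eq : ∀ a ∈ (d.S : Subgroup G), ∃ q ∈ d.Q, ∃ j ∈ d.J, a = q * j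
  cent_meet : Subgroup.centralizer ((d.J ⊓ d.Q : Subgroup G) : Set G) = d.J

theorem facts (d : Data G) : Facts d := by
  refine ⟨d.S_le_M0, d.Q_le_S, fun a ha => ?_, d.cent_meet⟩
  have h : a ∈ ((d.Q ⊔ d.J : Subgroup G) : Set G) := by
    rw [SetLike.mem_coe, sup_comm, d.J_sup_Q]; exact ha
  rw [Subgroup.coe_mul_of_left_le_normalizer_right _ _ (d.Q_le_S.trans d.S_le_normalizer)] at h
  obtain ⟨q, hq, j, hj, rfl⟩ := h
  exact ⟨q, hq, j, hj, rfl⟩

variable {d : Data G}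

theorem normJ {m j : G} (hm : m ∈ Subgroup.normalizer (d.J : Set G)) (hj : j ∈ d.J) :
    m * j * m⁻¹ ∈ d.J :=
  (Subgroup.mem_normalizer_iff.1 hm j).1 hj

theorem normQ {m q : G} (hm : m ∈ Subgroup.normalizer (Subgroup.zpowers d.z : Set G)) (hq : q ∈ d.Q) :
    m * q * m⁻¹ ∈ d.Q :=
  (Subgroup.mem_normalizer_iff.1 (d.Q_normal hm) q).1 hq

theorem z_cube : d.z ^ 3 = 1 := d.order_z ▸ pow_orderOf_eq_one d.z

theorem z_mem_J (fc : Facts d) : d.z ∈ d.J := by
  rw [← fc.cent_meet, Subgroup.mem_centralizer_iff]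
  intro a ha
  have h : d.z ∈ (d.S : Subgroup G) ⊓ Subgroup.centralizer ((d.S : Subgroup G) : Set G) :=
    d.center_S ▸ Subgroup.mem_zpowers d.z
  exact Subgroup.mem_centralizer_iff.1 h.2 a (d.J_le_S ha.1)

theorem mem_NZ_of_comm {g : G} (h : g * d.z = d.z * g) :
    g ∈ Subgroup.normalizer (Subgroup.zpowers d.z : Set G) := by
  refine Subgroup.mem_normalizer_fintype fun a ha => ?_
  obtain ⟨k, rfl⟩ := Subgroup.mem_zpowers_iff.1 ha
  rw [(show Commute g d.z from h).zpow_right k |>.eq, mul_inv_cancel_right]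
  exact Subgroup.zpow_mem_zpowers _ _

theorem zp_cases {a z : G} (h3 : z ^ 3 = 1) (h : a ∈ Subgroup.zpowers z) :
    a = 1 ∨ a = z ∨ a = z⁻¹ := by
  obtain ⟨k, rfl⟩ := Subgroup.mem_zpowers_iff.1 h
  have e : z ^ k = z ^ (k % 3) := by
    conv_lhs => rw [← Int.mul_ediv_add_emod k 3, zpow_add, zpow_mul,
      show z ^ (3 : ℤ) = 1 by rw [show (3 : ℤ) = ((3 : ℕ) : ℤ) from rfl, zpow_natCast, h3],
      one_zpow, one_mul]
  rcases (by omega : k % 3 = 0 ∨ k % 3 = 1 ∨ k % 3 = 2) with r | r | r <;> rw [e, r]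
  · exact Or.inl (zpow_zero _)
  · exact Or.inr (Or.inl (zpow_one _))
  · refine Or.inr (Or.inr (eq_inv_of_mul_eq_one_left ?_))
    rw [← zpow_add_one, show (2 : ℤ) + 1 = ((3 : ℕ) : ℤ) from rfl, zpow_natCast, h3]

theorem NZ_z {g : G} (hg : g ∈ Subgroup.normalizer (Subgroup.zpowers d.z : Set G)) :
    g * d.z * g⁻¹ = d.z ∨ g * d.z * g⁻¹ = d.z⁻¹ := by
  rcases zp_cases z_cube ((Subgroup.mem_normalizer_iff.1 hg d.z).1 (Subgroup.mem_zpowers _)) with e | e | e
  · exfalso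
    have : d.z = 1 := conj_eq_one_iff.1 e
    exact absurd d.order_z (by rw [this, orderOf_one]; norm_num)
  · exact Or.inl e
  · exact Or.inr e

theorem sq_eq_one_of_cube {j : G} (h3 : j ^ 3 = 1) (h2 : j * j = 1) : j = 1 := by
  rwa [pow_succ, pow_two, h2, one_mul] at h3

variable {l : Loc d}

theorem tt : l.t * l.t = 1 := by
  rw [← pow_two, ← l.order_t, pow_orderOf_eq_one]

theorem t_inv : l.t⁻¹ = l.t := inv_eq_of_mul_eq_one_right tt

theorem tz : l.t * d.z = d.z * l.t :=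
  Subgroup.mem_centralizer_singleton_iff.1 (d.L_le (l.L1_le l.t_mem_L1).1)

theorem t_NZ : l.t ∈ Subgroup.normalizer (Subgroup.zpowers d.z : Set G) := mem_NZ_of_comm tz

theorem tx : l.t * l.x = l.x * l.t :=
  (Subgroup.mem_centralizer_singleton_iff.1 (l.L1_le l.x_mem_L1).2).symm

theorem zx : d.z * l.x = l.x * d.z :=
  (Subgroup.mem_centralizer_singleton_iff.1 (d.L_le (l.L1_le l.x_mem_L1).1)).symm

theorem fz : l.f * d.z = d.z * l.f :=
  Subgroup.mem_centralizer_singleton_iff.1 (d.L_le (l.L1_le l.f_mem).1)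

theorem ft : l.f * l.t = l.t * l.f :=
  Subgroup.mem_centralizer_singleton_iff.1 (l.L1_le l.f_mem).2

/-- The involution inverts `Q` modulo `⟨z⟩`. -/
theorem t_inverts {q : G} (hq : q ∈ d.Q) : l.t * q * l.t⁻¹ * q ∈ Subgroup.zpowers d.z := by
  set e := l.t * q * l.t⁻¹ * q with he
  have h1 : l.t * q * l.t⁻¹ ∈ d.Q := normQ t_NZ hq
  have heQ : e ∈ d.Q := d.Q.mul_mem h1 hq
  refine l.cent_Q_t e heQ ?_
  obtain ⟨i, hi⟩ := Subgroup.mem_zpowers_iff.1 (d.comm_Q q hq _ h1)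
  have h2 : l.t * e * l.t⁻¹ = d.z ^ i * e := by
    have hL : l.t * e * l.t⁻¹ = q * (l.t * q * l.t⁻¹) := by
      rw [he]
      have : l.t * (l.t * q * l.t⁻¹ * q) * l.t⁻¹ = l.t * l.t * q * (l.t * l.t)⁻¹ * (l.t * q * l.t⁻¹) := by
        group
      rw [this, tt, inv_one, one_mul, mul_one]
    rw [hL, he, hi]
    group
  have hz : Commute l.t (d.z ^ i) := (show Commute l.t d.z from tz).zpow_right i
  have h3 : e = d.z ^ i * (d.z ^ i * e) := by
    calc e = l.t * l.t * e * (l.t * l.t)⁻¹ := by rw [tt]; group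
      _ = l.t * (l.t * e * l.t⁻¹) * l.t⁻¹ := by group
      _ = l.t * d.z ^ i * (e * l.t⁻¹) := by rw [h2]; group
      _ = d.z ^ i * (l.t * e * l.t⁻¹) := by rw [hz.eq]; group
      _ = _ := by rw [h2]
  rw [← mul_assoc, eq_comm, mul_eq_right] at h3
  have h4 : d.z ^ i = 1 := sq_eq_one_of_cube (by rw [← zpow_natCast, ← zpow_mul, mul_comm, zpow_mul,
    zpow_natCast, z_cube, one_zpow]) h3
  rw [h4, one_mul] at h2
  rw [mul_inv_eq_iff_eq_mul] at h2
  exact h2.symm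

theorem inv_meet {u : G} (hu : u ∈ d.J) (h : l.t * u * l.t⁻¹ = u⁻¹) (fc : Facts d) : u ∈ d.Q := by
  have huz : u * d.z = d.z * u := d.J_comm u hu d.z (z_mem_J fc)
  have h1 := l.t_central u (mem_NZ_of_comm huz)
  have h2 : u * l.t * u⁻¹ * l.t⁻¹ = u * u := by
    calc u * l.t * u⁻¹ * l.t⁻¹ = u * (l.t * u * l.t⁻¹)⁻¹ := by group
      _ = u * u := by rw [h, inv_inv]
  rw [h2] at h1
  have h3 : u = (u * u) * (u * u) := by
    have e : u * u * (u * u) = u ^ 3 * u := by simp only [pow_succ, pow_zero, one_mul, mul_assoc]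
    rw [e, d.J_exp u hu, one_mul]
  rw [h3]
  exact d.Q.mul_mem h1 h1

theorem card_L1 : Nat.card l.L1 = 120 := by
  obtain ⟨e⟩ := l.eL1
  rw [Nat.card_congr e.toEquiv, SL25Presentation.card_SL25]

/-- A 3-element of `L1` normalising `⟨x⟩` lies in it. -/
theorem three_L1 {a : G} (ha : a ∈ l.L1) {k : ℕ} (h3 : a ^ 3 ^ k = 1)
    (hn : a ∈ Subgroup.normalizer (Subgroup.zpowers l.x : Set G)) : a ∈ Subgroup.zpowers l.x := by
  haveI : Fact (Nat.Prime 3) := ⟨Nat.prime_three⟩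
  have hX : IsPGroup 3 (Subgroup.zpowers l.x) := IsPGroup.of_card (n := 1) (by
    rw [Nat.card_zpowers, l.order_x, pow_one])
  have hA : IsPGroup 3 (Subgroup.zpowers a) := by
    obtain ⟨i, -, hi⟩ := (Nat.dvd_prime_pow Nat.prime_three).1 (orderOf_dvd_of_pow_eq_one h3)
    exact IsPGroup.of_card (n := i) (by rw [Nat.card_zpowers, hi])
  have hH : IsPGroup 3 (Subgroup.zpowers a ⊔ Subgroup.zpowers l.x : Subgroup G) :=
    hA.to_sup_of_normal_right' hX (Subgroup.zpowers_le.2 hn)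
  obtain ⟨n, hn'⟩ := hH.exists_card_eq
  have hle : (Subgroup.zpowers a ⊔ Subgroup.zpowers l.x : Subgroup G) ≤ l.L1 :=
    sup_le (Subgroup.zpowers_le.2 ha) (Subgroup.zpowers_le.2 l.x_mem_L1)
  have hd := Subgroup.card_dvd_of_le hle
  rw [hn', card_L1] at hd
  have hn1 : n ≤ 1 := by
    by_contra hc
    have : 3 ^ 2 ∣ 120 := (pow_dvd_pow 3 (by omega)).trans hd
    norm_num at this
  have heq : Subgroup.zpowers l.x = (Subgroup.zpowers a ⊔ Subgroup.zpowers l.x : Subgroup G) := by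
    refine Subgroup.eq_of_le_of_card_ge le_sup_right ?_
    rw [hn', Nat.card_zpowers, l.order_x]
    exact (Nat.pow_le_pow_right (by norm_num) hn1).trans (by norm_num)
  rw [heq]
  exact Subgroup.mem_sup_left (Subgroup.mem_zpowers a)

theorem eq_one_of_coord {i j : ℤ} (h : d.z ^ i * l.x ^ j = 1) : d.z ^ i = 1 ∧ l.x ^ j = 1 := by
  have hz : d.z ^ i ∈ l.L1 := by
    rw [eq_inv_of_mul_eq_one_left h]
    exact inv_mem (zpow_mem l.x_mem_L1 j)
  have hzi : d.z ^ i = 1 := by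
    have h3 : (d.z ^ i : G) ∈ Subgroup.zpowers d.z := Subgroup.zpow_mem_zpowers _ _
    rcases zp_cases z_cube h3 with e | e | e
    · exact e
    · exact absurd (e ▸ hz) l.z_notMem
    · exact absurd (inv_mem_iff.1 (e ▸ hz)) l.z_notMem
  exact ⟨hzi, by rwa [hzi, one_mul] at h⟩

/-- The elements of `J` fixed by the involution. -/
theorem mem_D {j : G} (fc : Facts d) (hj : j ∈ d.J) (hc : l.t * j = j * l.t) :
    ∃ i k : ℤ, j = d.z ^ i * l.x ^ k := by
  have hjz : j * d.z = d.z * j := d.J_comm j hj d.z (z_mem_J fc)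
  have hjL : j ∈ d.L := by
    refine d.L_three j (mem_NZ_of_comm hjz) ?_
    obtain ⟨i, -, hi⟩ := (Nat.dvd_prime_pow Nat.prime_three).1
      (orderOf_dvd_of_pow_eq_one (show j ^ 3 ^ 1 = 1 by rw [pow_one]; exact d.J_exp j hj))
    exact ⟨i, hi⟩
  obtain ⟨i, hi⟩ := l.L_inf j hjL hc.symm
  have hm : d.z ^ i * j ∈ d.J := d.J.mul_mem (zpow_mem (z_mem_J fc) i) hj
  obtain ⟨k, hk⟩ := Subgroup.mem_zpowers_iff.1 (three_L1 (k := 1) hi (by rw [pow_one]; exact d.J_exp _ hm)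
    (by
      refine Subgroup.mem_normalizer_fintype fun a ha => ?_
      obtain ⟨n, rfl⟩ := Subgroup.mem_zpowers_iff.1 ha
      rw [d.J_comm _ hm _ (zpow_mem l.x_mem_J n), mul_inv_cancel_right]
      exact Subgroup.zpow_mem_zpowers _ _))
  exact ⟨-i, k, by rw [hk]; group⟩

theorem cent_D (fc : Facts d) {j : G} (hj : j ∈ d.J) :
    l.t * j = j * l.t ↔ j ∈ Subgroup.closure ({d.z, l.x} : Set G) := by
  constructor
  · intro h
    obtain ⟨i, k, rfl⟩ := mem_D fc hj h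
    exact mul_mem (zpow_mem (Subgroup.subset_closure (by simp)) i)
      (zpow_mem (Subgroup.subset_closure (by simp)) k)
  · intro h
    have hle : Subgroup.closure ({d.z, l.x} : Set G) ≤ Subgroup.centralizer ({l.t} : Set G) :=
      (Subgroup.closure_le _).2 (by
        rintro a (rfl | rfl)
        · exact Subgroup.mem_centralizer_singleton_iff.2 tz.symm
        · exact Subgroup.mem_centralizer_singleton_iff.2 tx.symm)
    exact (Subgroup.mem_centralizer_singleton_iff.1 (hle h)).symm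

theorem D_le_J (fc : Facts d) : Subgroup.closure ({d.z, l.x} : Set G) ≤ d.J :=
  (Subgroup.closure_le _).2 (by rintro a (rfl | rfl); exacts [z_mem_J fc, l.x_mem_J])

theorem card_D (fc : Facts d) :
    Nat.card (Subgroup.closure ({d.z, l.x} : Set G) : Subgroup G) = 9 := by
  have hzx : ∀ a ∈ Subgroup.zpowers d.z, ∀ b ∈ Subgroup.zpowers l.x, a * b = b * a := fun a ha b hb =>
    d.J_comm a ((Subgroup.zpowers_le.2 (z_mem_J fc)) ha) b ((Subgroup.zpowers_le.2 l.x_mem_J) hb)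
  let ψ : Subgroup.zpowers d.z × Subgroup.zpowers l.x →* G :=
    MonoidHom.noncommCoprod (Subgroup.zpowers d.z).subtype (Subgroup.zpowers l.x).subtype
      fun a b => hzx a a.2 b b.2
  have hr : ψ.range = Subgroup.closure ({d.z, l.x} : Set G) := by
    rw [show ψ.range = _ from MonoidHom.noncommCoprod_range _ _ _, Subgroup.range_subtype,
      Subgroup.range_subtype, Subgroup.zpowers_eq_closure, Subgroup.zpowers_eq_closure,
      ← Subgroup.closure_union, Set.singleton_union]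
  have hinj : Function.Injective ψ := by
    rw [injective_iff_map_eq_one]
    rintro ⟨⟨a, ha⟩, ⟨b, hb⟩⟩ h
    obtain ⟨i, rfl⟩ := Subgroup.mem_zpowers_iff.1 ha
    obtain ⟨k, rfl⟩ := Subgroup.mem_zpowers_iff.1 hb
    obtain ⟨h1, h2⟩ := eq_one_of_coord (i := i) (j := k) h
    exact Prod.ext (Subtype.ext h1) (Subtype.ext h2)
  rw [← hr, ← Nat.card_congr (MonoidHom.ofInjective hinj).toEquiv, Nat.card_prod, Nat.card_zpowers,
    Nat.card_zpowers, d.order_z, l.order_x]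

theorem card_U0 (fc : Facts d) : Nat.card {j | j ∈ d.J ∧ l.t * j * l.t⁻¹ = j⁻¹} = 9 := by
  classical
  let ψ : d.J →* d.J := MonoidHom.mk'
    (fun j => ⟨(j : G) * (l.t * j * l.t⁻¹)⁻¹, d.J.mul_mem j.2 (d.J.inv_mem (normJ l.t_norm_J j.2))⟩)
    (fun a b => Subtype.ext (by
      show (a : G) * b * (l.t * ((a : G) * b) * l.t⁻¹)⁻¹ =
        (a : G) * (l.t * a * l.t⁻¹)⁻¹ * ((b : G) * (l.t * b * l.t⁻¹)⁻¹)
      have h1 : (l.t * ((a : G) * b) * l.t⁻¹)⁻¹ = (l.t * a * l.t⁻¹)⁻¹ * (l.t * b * l.t⁻¹)⁻¹ := by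
        rw [← mul_inv_rev, d.J_comm _ (normJ l.t_norm_J b.2) _ (normJ l.t_norm_J a.2)]
        congr 1
        group
      rw [h1]
      exact Commute.mul_mul_mul_comm
        (d.J_comm (b : G) b.2 _ (d.J.inv_mem (normJ l.t_norm_J a.2))) _ _))
  have hker : ψ.ker = (Subgroup.closure ({d.z, l.x} : Set G)).subgroupOf d.J := by
    ext j
    rw [MonoidHom.mem_ker, Subgroup.mem_subgroupOf, ← cent_D fc j.2, Subtype.ext_iff]
    show (j : G) * (l.t * j * l.t⁻¹)⁻¹ = 1 ↔ _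
    rw [mul_inv_eq_one, eq_comm, mul_inv_eq_iff_eq_mul]
  have hset : {j | j ∈ d.J ∧ l.t * j * l.t⁻¹ = j⁻¹} = ((ψ.range.map d.J.subtype : Subgroup G) : Set G) := by
    ext u
    constructor
    · rintro ⟨hu, hi⟩
      refine ⟨ψ (⟨u, hu⟩ * ⟨u, hu⟩), ⟨_, rfl⟩, ?_⟩
      show u * u * (l.t * (u * u) * l.t⁻¹)⁻¹ = u
      have e : l.t * (u * u) * l.t⁻¹ = (l.t * u * l.t⁻¹) * (l.t * u * l.t⁻¹) := by group
      rw [e, hi]
      have e2 : u * u * (u⁻¹ * u⁻¹)⁻¹ = u ^ 3 * u := by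
        simp only [mul_inv_rev, inv_inv, pow_succ, pow_zero, one_mul, mul_assoc]
      rw [e2, d.J_exp u hu, one_mul]
    · rintro ⟨_, ⟨j, rfl⟩, rfl⟩
      refine ⟨(ψ j).2, ?_⟩
      show l.t * ((j : G) * (l.t * j * l.t⁻¹)⁻¹) * l.t⁻¹ = ((j : G) * (l.t * j * l.t⁻¹)⁻¹)⁻¹
      calc l.t * ((j : G) * (l.t * j * l.t⁻¹)⁻¹) * l.t⁻¹
          = (l.t * j * l.t⁻¹) * (l.t * l.t * (j : G) * (l.t * l.t)⁻¹)⁻¹ := by group
        _ = (l.t * j * l.t⁻¹) * (j : G)⁻¹ := by rw [tt]; group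
        _ = _ := by rw [mul_inv_rev, inv_inv]
  rw [hset]
  have hk : Nat.card ψ.ker = 9 := by
    rw [hker, Nat.card_congr (Subgroup.subgroupOfEquivOfLe (D_le_J fc)).toEquiv, card_D fc]
  have h1 := ψ.ker.card_mul_index
  rw [Subgroup.index_ker, hk, d.card_J] at h1
  show Nat.card (ψ.range.map d.J.subtype : Subgroup G) = 9
  rw [Subgroup.card_map_of_injective d.J.subtype_injective]
  omega

/-- Consequences of the pairing between `Q` and `J ⊓ Q`. -/
theorem pairing {c q v : G} (hc : c ∈ Subgroup.normalizer (Subgroup.zpowers d.z : Set G))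
    (hcJ : c ∈ Subgroup.normalizer (d.J : Set G))
    (hq : q ∈ d.Q) (hv : v ∈ d.Q) (hvJ : v ∈ d.J) (hi : c * q * c⁻¹ * q ∈ d.J)
    (fc : Facts d) (hcz : c * d.z = d.z * c) :
    c * v * c⁻¹ * v * q = q * (c * v * c⁻¹ * v) := by
  obtain ⟨i, hi'⟩ := Subgroup.mem_zpowers_iff.1 (d.comm_Q v hv q hq)
  set w := c * v * c⁻¹ with hw
  have hwJ : w ∈ d.J := normJ hcJ hvJ
  set j := q * (c * q * c⁻¹) with hj
  have hjJ : j ∈ d.J := by
    have hqS : q ∈ Subgroup.normalizer (d.J : Set G) := d.M0_le (fc.S_le (fc.Q_le hq))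
    have := normJ hqS hi
    simpa [hj, mul_assoc] using this
  have hcq : c * q * c⁻¹ = q⁻¹ * j := by rw [hj, inv_mul_cancel_left]
  have hzc : Commute c (d.z ^ i) := (show Commute c d.z from hcz).zpow_right i
  have hzall : ∀ a ∈ d.Q, Commute (d.z ^ i) a := fun a ha => by
    have hz : d.z ∈ Subgroup.centralizer (d.Q : Set G) := by
      have : d.z ∈ d.Q ⊓ Subgroup.centralizer (d.Q : Set G) := d.center_Q ▸ Subgroup.mem_zpowers d.z
      exact this.2
    exact ((show Commute a d.z from Subgroup.mem_centralizer_iff.1 hz a ha).zpow_right i).symm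
  have h1 : v * q = d.z ^ i * (q * v) := by rw [hi']; group
  have h2 : w * (c * q * c⁻¹) = d.z ^ i * ((c * q * c⁻¹) * w) := by
    calc w * (c * q * c⁻¹) = c * (v * q) * c⁻¹ := by rw [hw]; group
      _ = c * d.z ^ i * (q * v * c⁻¹) := by rw [h1]; group
      _ = d.z ^ i * ((c * q * c⁻¹) * w) := by rw [hzc.eq, hw]; group
  rw [hcq, mul_assoc q⁻¹, d.J_comm j hjJ w hwJ, ← mul_assoc, ← mul_assoc (a := q⁻¹),
    ← mul_assoc (d.z ^ i)] at h2
  have h3 : w * q⁻¹ = d.z ^ i * (q⁻¹ * w) := mul_right_cancel h2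
  have h4 : q * w = d.z ^ i * (w * q) := by
    calc q * w = q * (w * q⁻¹) * q := by group
      _ = q * d.z ^ i * (q⁻¹ * w * q) := by rw [h3]; group
      _ = d.z ^ i * (w * q) := by rw [← (hzall q hq).eq]; group
  calc w * v * q = w * (d.z ^ i * (q * v)) := by rw [mul_assoc, h1]
    _ = d.z ^ i * (w * q) * v := by
        rw [← mul_assoc w, ← (hzall w (normQ hc hv)).eq]; group
    _ = q * (w * v) := by rw [← h4, mul_assoc]

theorem kill (fc : Facts d) {r : G} (hr : r ∈ Subgroup.normalizer (d.J : Set G))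
    (hrz : r * d.z * r⁻¹ = d.z⁻¹) (hrx : r * l.x = l.x * r)
    (hru : ∀ u ∈ d.J, l.t * u * l.t⁻¹ = u⁻¹ → r * u = u * r) : False := by
  have hrN : r ∈ Subgroup.normalizer (Subgroup.zpowers d.z : Set G) := by
    refine Subgroup.mem_normalizer_fintype fun a ha => ?_
    obtain ⟨k, rfl⟩ := Subgroup.mem_zpowers_iff.1 ha
    rw [← conj_zpow, hrz, inv_zpow, SetLike.mem_coe]
    exact inv_mem (Subgroup.zpow_mem_zpowers _ _)
  have hzQ : ∀ a ∈ d.Q, a * d.z = d.z * a := fun a ha => by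
    have h : d.z ∈ d.Q ⊓ Subgroup.centralizer (d.Q : Set G) := d.center_Q ▸ Subgroup.mem_zpowers d.z
    exact Subgroup.mem_centralizer_iff.1 h.2 a ha
  have hQN : ∀ q ∈ d.Q, q ∈ Subgroup.normalizer (d.J : Set G) := fun q hq =>
    d.M0_le (fc.S_le (fc.Q_le hq))
  have hrv : ∀ v ∈ d.J ⊓ d.Q, r * v * r⁻¹ * v⁻¹ ∈ Subgroup.zpowers d.z := by
    intro v hv
    have hd : ∃ i : ℤ, v * (l.t * v * l.t⁻¹) = d.z ^ i := by
      have h := t_inverts (l := l) hv.2
      rw [d.J_comm _ (normJ l.t_norm_J hv.1) v hv.1] at h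
      obtain ⟨i, hi⟩ := Subgroup.mem_zpowers_iff.1 h
      exact ⟨i, hi.symm⟩
    obtain ⟨i, hi⟩ := hd
    have hw : l.t * (v * d.z ^ i) * l.t⁻¹ = (v * d.z ^ i)⁻¹ := by
      have e : l.t * v * l.t⁻¹ = v⁻¹ * d.z ^ i := by rw [← hi, inv_mul_cancel_left]
      have ez : l.t * d.z ^ i * l.t⁻¹ = d.z ^ i := by
        rw [((show Commute l.t d.z from tz).zpow_right i).eq, mul_inv_cancel_right]
      calc l.t * (v * d.z ^ i) * l.t⁻¹ = (l.t * v * l.t⁻¹) * (l.t * d.z ^ i * l.t⁻¹) := by group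
        _ = v⁻¹ * d.z ^ (i + i) := by rw [e, ez, zpow_add]; group
        _ = v⁻¹ * d.z ^ (-i) := by
            congr 1
            rw [zpow_eq_zpow_iff_modEq, d.order_z]
            exact (Int.modEq_iff_dvd).2 ⟨-i, by ring⟩
        _ = (v * d.z ^ i)⁻¹ := by
            rw [zpow_neg, mul_inv_rev, d.J_comm _ (inv_mem hv.1) _ (inv_mem (zpow_mem (z_mem_J fc) i))]
    have hc := hru _ (mul_mem hv.1 (zpow_mem (z_mem_J fc) i)) hw
    have hrzi : r * d.z ^ i * r⁻¹ = d.z ^ (-i) := by rw [← conj_zpow, hrz, inv_zpow, zpow_neg]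
    refine Subgroup.mem_zpowers_iff.2 ⟨i + i, ?_⟩
    have e : r * v * r⁻¹ = r * (v * d.z ^ i) * r⁻¹ * (r * d.z ^ i * r⁻¹)⁻¹ := by group
    rw [e, hc, mul_inv_cancel_right, hrzi, ← zpow_neg, neg_neg, mul_assoc v, ← zpow_add,
      d.J_comm v hv.1 _ (zpow_mem (z_mem_J fc) _), mul_inv_cancel_right]
  -- `r` inverts `Q` modulo `J`
  have hrq : ∀ q ∈ d.Q, r * q * r⁻¹ * q ∈ d.J := by
    intro q hq
    rw [← fc.cent_meet, Subgroup.mem_centralizer_iff]
    intro v hv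
    obtain ⟨i, hi⟩ := Subgroup.mem_zpowers_iff.1 (d.comm_Q v hv.2 q hq)
    obtain ⟨k, hk⟩ := Subgroup.mem_zpowers_iff.1 (hrv v hv)
    set p := r * q * r⁻¹ with hp
    have hpQ : p ∈ d.Q := normQ hrN hq
    have hrzi : r * d.z ^ i * r⁻¹ = d.z ^ (-i) := by rw [← conj_zpow, hrz, inv_zpow, zpow_neg]
    have hzk : Commute (d.z ^ k) p := ((show Commute p d.z from hzQ p hpQ).zpow_right k).symm
    have hzi : Commute p (d.z ^ (-i)) := (show Commute p d.z from hzQ p hpQ).zpow_right _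
    have h1 : v * q = d.z ^ i * (q * v) := by rw [hi]; group
    have h2 : r * v * r⁻¹ = d.z ^ k * v := by rw [hk]; group
    have h3 : v * p = d.z ^ (-i) * (p * v) := by
      have e : r * v * r⁻¹ * p = (r * d.z ^ i * r⁻¹) * (p * (r * v * r⁻¹)) := by
        calc r * v * r⁻¹ * p = r * (v * q) * r⁻¹ := by rw [hp]; group
          _ = r * (d.z ^ i * (q * v)) * r⁻¹ := by rw [h1]
          _ = _ := by rw [hp]; group
      rw [h2, hrzi, ← mul_assoc p, ← hzk.eq, mul_assoc, mul_assoc, ← mul_assoc (d.z ^ (-i)),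
        ← zpow_add, add_comm, zpow_add, mul_assoc] at e
      exact mul_left_cancel e
    calc v * (p * q) = d.z ^ (-i) * p * (v * q) := by rw [← mul_assoc, h3]; group
      _ = p * d.z ^ (-i) * (d.z ^ i * (q * v)) := by rw [h1, ← hzi.eq]
      _ = p * q * v := by group
  -- hence commutators with `x` are central
  have key : ∀ q ∈ d.Q, q * l.x = l.x * q := by
    have hw : ∀ q ∈ d.Q, q * l.x * q⁻¹ * l.x⁻¹ ∈ d.J ⊓ d.Q := fun q hq => by
      refine ⟨d.J.mul_mem (normJ (hQN q hq) l.x_mem_J) (d.J.inv_mem l.x_mem_J), ?_⟩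
      have hxN : l.x ∈ Subgroup.normalizer (Subgroup.zpowers d.z : Set G) := mem_NZ_of_comm zx.symm
      have := d.Q.mul_mem hq (normQ hxN (d.Q.inv_mem hq))
      simpa [mul_assoc] using this
    have hcent : ∀ q ∈ d.Q, q * l.x * q⁻¹ * l.x⁻¹ ∈ Subgroup.zpowers d.z := by
      intro q hq
      set w := q * l.x * q⁻¹ * l.x⁻¹ with hwdef
      have hwm := hw q hq
      have h1 := hrv w hwm
      have hp := hrq q hq
      set p := r * q * r⁻¹ with hpdef
      set m := q * p with hm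
      have hmJ : m ∈ d.J := by
        have := normJ (hQN q hq) hp
        simpa [hm, mul_assoc] using this
      have hp' : p = q⁻¹ * m := by rw [hm, inv_mul_cancel_left]
      have hxm : m * l.x * m⁻¹ = l.x := by rw [d.J_comm m hmJ _ l.x_mem_J, mul_inv_cancel_right]
      have e1 : r * w * r⁻¹ = (q⁻¹ * w * q)⁻¹ := by
        calc r * w * r⁻¹ = p * (r * l.x * r⁻¹) * p⁻¹ * (r * l.x * r⁻¹)⁻¹ := by
              rw [hwdef, hpdef]; group
          _ = q⁻¹ * (m * l.x * m⁻¹) * q * l.x⁻¹ := by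
              rw [hrx, mul_inv_cancel_right, hp']; group
          _ = _ := by rw [hxm, hwdef]; group
      rw [e1] at h1
      have h2 := d.comm_Q q⁻¹ (inv_mem hq) w hwm.2
      rw [inv_inv] at h2
      have h3 : w * w ∈ Subgroup.zpowers d.z := by
        have e : w * w = (((q⁻¹ * w * q)⁻¹ * w⁻¹) * (w * (q⁻¹ * w * q * w⁻¹) * w⁻¹))⁻¹ := by
          rw [← pow_two]; group
        rw [e]
        refine inv_mem (mul_mem h1 ?_)
        have hcz : ∀ a ∈ Subgroup.zpowers d.z, w * a * w⁻¹ = a := fun a ha => by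
          rw [d.J_comm w hwm.1 a ((Subgroup.zpowers_le.2 (z_mem_J fc)) ha), mul_inv_cancel_right]
        rw [hcz _ h2]
        exact h2
      have h4 : w = w * w * (w * w) := by
        have e : w * w * (w * w) = w ^ 3 * w := by simp only [pow_succ, pow_zero, one_mul, mul_assoc]
        rw [e, d.J_exp w hwm.1, one_mul]
      rw [h4]
      exact mul_mem h3 h3
    intro q hq
    set w := q * l.x * q⁻¹ * l.x⁻¹ with hwdef
    obtain ⟨i, hi⟩ := Subgroup.mem_zpowers_iff.1 (hcent q hq)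
    obtain ⟨k, hk⟩ := Subgroup.mem_zpowers_iff.1 (t_inverts (l := l) hq)
    have htw : l.t * w * l.t⁻¹ = w := by
      rw [hwdef, ← hi, ((show Commute l.t d.z from tz).zpow_right i).eq, mul_inv_cancel_right]
    have hqt : l.t * q * l.t⁻¹ = d.z ^ k * q⁻¹ := by rw [hk, mul_inv_cancel_right]
    have hzx' : Commute (d.z ^ k) l.x := (show Commute d.z l.x from zx).zpow_left k
    have e1 : l.t * w * l.t⁻¹ = q⁻¹ * l.x * q * l.x⁻¹ := by
      calc l.t * w * l.t⁻¹ = (l.t * q * l.t⁻¹) * (l.t * l.x * l.t⁻¹) * (l.t * q * l.t⁻¹)⁻¹ *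
            (l.t * l.x * l.t⁻¹)⁻¹ := by rw [hwdef]; group
        _ = d.z ^ k * (q⁻¹ * l.x * q) * (d.z ^ k)⁻¹ * l.x⁻¹ := by
            rw [hqt, tx, mul_inv_cancel_right]; group
        _ = _ := by
            have hq' : Commute (d.z ^ k) (q⁻¹ * l.x * q) :=
              (((show Commute q d.z from hzQ q hq).zpow_right k).symm.inv_right.mul_right hzx').mul_right
                ((show Commute q d.z from hzQ q hq).zpow_right k).symm
            rw [hq'.eq, mul_inv_cancel_right]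
    rw [htw] at e1
    have hzw : q * w * q⁻¹ = w := by
      rw [hwdef, ← hi, ((show Commute q d.z from hzQ q hq).zpow_right i).eq, mul_inv_cancel_right]
    have h5 : w * w = 1 := by
      have e : q⁻¹ * l.x * q * l.x⁻¹ = w⁻¹ := by
        have hzw' : q⁻¹ * w * q = w := by
          conv_lhs => rw [← hzw]
          group
        calc q⁻¹ * l.x * q * l.x⁻¹ = (q⁻¹ * w * q)⁻¹ := by rw [hwdef]; group
          _ = w⁻¹ := by rw [hzw']
      rw [e] at e1
      exact mul_eq_one_iff_eq_inv.2 e1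
    have h6 : w = 1 := sq_eq_one_of_cube (d.J_exp w (hw q hq).1) h5
    exact mul_inv_eq_one.1 (by rw [← h6, hwdef]; group)
  have hxQ : l.x ∈ d.Q := d.cent_Q (Subgroup.mem_centralizer_iff.2 fun q hq => key q hq)
  have := l.cent_Q_t _ hxQ tx.symm
  obtain ⟨i, hi⟩ := Subgroup.mem_zpowers_iff.1 this
  have hx1 : l.x = 1 := by
    have := (eq_one_of_coord (l := l) (i := i) (j := -1) (by rw [hi]; group)).2
    rwa [zpow_neg_one, inv_eq_one] at this
  exact absurd l.order_x (by rw [hx1, orderOf_one]; norm_num)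

/-! ### The projection onto the model -/

/-- A map onto the model with kernel `J`. -/
structure Proj (d : Data G) where
  /-- The map. -/
  v : G → P6
  mul : ∀ a ∈ d.M0, ∀ b ∈ d.M0, v (a * b) = v a * v b
  ker : ∀ a ∈ d.M0, (v a = 1 ↔ a ∈ d.J)
  even : ∀ a ∈ d.M0, Equiv.Perm.sign (v a) = 1
  surj : ∀ σ, Equiv.Perm.sign σ = 1 → ∃ a ∈ d.M0, v a = σ
  sylow : ∀ a ∈ d.M0, (a ∈ (d.S : Subgroup G) ↔ InP (v a))

variable (p : Proj d)

theorem Proj.one : p.v 1 = 1 := (p.ker 1 d.M0.one_mem).2 d.J.one_mem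

theorem Proj.inv {a : G} (ha : a ∈ d.M0) : p.v a⁻¹ = (p.v a)⁻¹ :=
  eq_inv_of_mul_eq_one_left (by rw [← p.mul _ (inv_mem ha) _ ha, inv_mul_cancel, p.one])

theorem Proj.pow {a : G} (ha : a ∈ d.M0) : ∀ n : ℕ, p.v (a ^ n) = p.v a ^ n
  | 0 => by rw [pow_zero, pow_zero, p.one]
  | n + 1 => by rw [pow_succ, pow_succ, p.mul _ (pow_mem ha n) _ ha, Proj.pow ha n]

theorem Proj.conj {a b : G} (ha : a ∈ d.M0) (hb : b ∈ d.M0) :
    p.v (a * b * a⁻¹) = p.v a * p.v b * (p.v a)⁻¹ := by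
  rw [p.mul _ (mul_mem ha hb) _ (inv_mem ha), p.mul _ ha _ hb, p.inv ha]

theorem Proj.same {a b : G} (ha : a ∈ d.M0) (hb : b ∈ d.M0) (h : p.v a = p.v b) :
    a⁻¹ * b ∈ d.J :=
  (p.ker _ (mul_mem (inv_mem ha) hb)).1 (by rw [p.mul _ (inv_mem ha) _ hb, p.inv ha, h, inv_mul_cancel])

theorem Proj.J_one {j : G} (hj : j ∈ d.J) : p.v j = 1 := (p.ker j (d.J_le_M0 hj)).2 hj

theorem exists_proj (d : Data G) : Nonempty (Proj d) := by
  classical
  haveI : Fact (Nat.Prime 3) := ⟨Nat.prime_three⟩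
  obtain ⟨e⟩ := d.eM
  haveI := d.J_sub
  let π : d.M0 →* alternatingGroup (Fin 6) := e.toMonoidHom.comp (QuotientGroup.mk' _)
  have hπs : Function.Surjective π := e.surjective.comp (QuotientGroup.mk'_surjective _)
  have hπk : ∀ a : d.M0, π a = 1 ↔ (a : G) ∈ d.J := fun a => by
    show e (QuotientGroup.mk a) = 1 ↔ _
    rw [map_eq_one_iff e e.injective, QuotientGroup.eq_one_iff, Subgroup.mem_subgroupOf]
  have hker : π.ker ≤ (d.S : Subgroup G).subgroupOf d.M0 := fun a ha =>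
    d.J_le_S ((hπk a).1 (MonoidHom.mem_ker.1 ha))
  have hA : Nat.card (alternatingGroup (Fin 6)) = 360 := by
    rw [nat_card_alternatingGroup, Nat.card_fin]; rfl
  have hM : Nat.card d.M0 = 360 * 81 := by
    rw [Subgroup.card_eq_card_quotient_mul_card_subgroup (d.J.subgroupOf d.M0), Nat.card_congr e.toEquiv, hA,
      Nat.card_congr (Subgroup.subgroupOfEquivOfLe d.J_le_M0).toEquiv, d.card_J]
  have hidx : ((d.S : Subgroup G).subgroupOf d.M0).index = 40 := by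
    have h := ((d.S : Subgroup G).subgroupOf d.M0).card_mul_index
    rw [Nat.card_congr (Subgroup.subgroupOfEquivOfLe d.S_le_M0).toEquiv, d.card_S, hM] at h
    omega
  have hidx' : (((d.S : Subgroup G).subgroupOf d.M0).map π).index = 40 := by
    rw [Subgroup.index_map_eq _ hπs hker, hidx]
  let R : Sylow 3 (alternatingGroup (Fin 6)) :=
    ((d.S.2.comap_subtype (K := d.M0)).map π).toSylow (fun hd => by
      rw [show (((d.S : Subgroup G).comap d.M0.subtype).map π).index = 40 from hidx'] at hd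
      norm_num at hd)
  have hPle : P0 ≤ alternatingGroup (Fin 6) := by
    rintro a ⟨i, j, rfl⟩
    rw [Equiv.Perm.mem_alternatingGroup, map_mul, map_pow, map_pow, even_all.1, even_all.2.1]
    simp
  have hPc : Nat.card (P0.subgroupOf (alternatingGroup (Fin 6))) = 3 ^ 2 := by
    rw [Nat.card_congr (Subgroup.subgroupOfEquivOfLe hPle).toEquiv, card_P0]; norm_num
  have hPi : ¬ 3 ∣ (P0.subgroupOf (alternatingGroup (Fin 6))).index := fun hd => by
    have h := (P0.subgroupOf (alternatingGroup (Fin 6))).card_mul_index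
    rw [hPc, hA] at h
    have : (P0.subgroupOf (alternatingGroup (Fin 6))).index = 40 := by omega
    rw [this] at hd; norm_num at hd
  let T : Sylow 3 (alternatingGroup (Fin 6)) := (IsPGroup.of_card hPc).toSylow hPi
  obtain ⟨c, hc⟩ := MulAction.exists_smul_eq (alternatingGroup (Fin 6)) R T
  let v : G → P6 := fun a =>
    if h : a ∈ d.M0 then ((c * π ⟨a, h⟩ * c⁻¹ : alternatingGroup (Fin 6)) : P6) else 1
  have hv : ∀ a (h : a ∈ d.M0), v a = ((c * π ⟨a, h⟩ * c⁻¹ : alternatingGroup (Fin 6)) : P6) :=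
    fun a h => dif_pos h
  refine ⟨⟨v, fun a ha b hb => ?_, fun a ha => ?_, fun a ha => ?_, fun σ hσ => ?_, fun a ha => ?_⟩⟩
  · rw [hv a ha, hv b hb, hv _ (mul_mem ha hb), ← Subgroup.coe_mul,
      show (⟨a * b, mul_mem ha hb⟩ : d.M0) = ⟨a, ha⟩ * ⟨b, hb⟩ from rfl, map_mul]
    congr 1
    group
  · rw [hv a ha, OneMemClass.coe_eq_one, conj_eq_one_iff, hπk]
  · rw [hv a ha]
    exact Equiv.Perm.mem_alternatingGroup.1 (c * π ⟨a, ha⟩ * c⁻¹).2
  · obtain ⟨a, ha⟩ := hπs (c⁻¹ * ⟨σ, Equiv.Perm.mem_alternatingGroup.2 hσ⟩ * c)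
    refine ⟨a, a.2, ?_⟩
    rw [hv a a.2, show (⟨(a : G), a.2⟩ : d.M0) = a from rfl, ha]
    exact congrArg Subtype.val (show c * (c⁻¹ * ⟨σ, Equiv.Perm.mem_alternatingGroup.2 hσ⟩ * c) * c⁻¹ =
      (⟨σ, Equiv.Perm.mem_alternatingGroup.2 hσ⟩ : alternatingGroup (Fin 6)) by group)
  · rw [hv a ha]
    have h1 : (c * π ⟨a, ha⟩ * c⁻¹) ∈ ((T : Subgroup (alternatingGroup (Fin 6)))) ↔
        π ⟨a, ha⟩ ∈ ((R : Subgroup (alternatingGroup (Fin 6)))) := by
      rw [← hc, Sylow.coe_subgroup_smul, Subgroup.mem_pointwise_smul_iff_inv_smul_mem]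
      simp [MulAut.smul_def, mul_assoc]
    show _ ↔ (c * π ⟨a, ha⟩ * c⁻¹) ∈ (T : Subgroup (alternatingGroup (Fin 6)))
    rw [h1]
    constructor
    · intro h
      exact ⟨⟨a, ha⟩, h, rfl⟩
    · rintro ⟨b, hb, hab⟩
      have hk : b⁻¹ * ⟨a, ha⟩ ∈ π.ker := by
        rw [MonoidHom.mem_ker, map_mul, map_inv, hab, inv_mul_cancel]
      have := ((d.S : Subgroup G).subgroupOf d.M0).mul_mem hb (hker hk)
      rw [mul_inv_cancel_left] at this
      exact this

theorem NS_le {g : G} (hg : ∀ s ∈ (d.S : Subgroup G), g * s * g⁻¹ ∈ (d.S : Subgroup G)) :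
    g ∈ Subgroup.normalizer (Subgroup.zpowers d.z : Set G) := by
  have hmem : ∀ s ∈ (d.S : Subgroup G), g⁻¹ * s * g ∈ (d.S : Subgroup G) := fun s hs => by
    have hgN : g ∈ Subgroup.normalizer ((d.S : Subgroup G) : Set G) :=
      Subgroup.mem_normalizer_fintype hg
    exact (Subgroup.mem_normalizer_iff''.1 hgN s).1 hs
  refine Subgroup.mem_normalizer_fintype fun a ha => ?_
  rw [SetLike.mem_coe, d.center_S] at ha ⊢
  refine ⟨hg a ha.1, Subgroup.mem_centralizer_iff.2 fun s hs => ?_⟩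
  have := Subgroup.mem_centralizer_iff.1 ha.2 (g⁻¹ * s * g) (hmem s hs)
  calc s * (g * a * g⁻¹) = g * (g⁻¹ * s * g * a) * g⁻¹ := by group
    _ = g * (a * (g⁻¹ * s * g)) * g⁻¹ := by rw [this]
    _ = g * a * g⁻¹ * s := by group

theorem np_iff {m : G} (hm : m ∈ d.M0) :
    NP (p.v m) ↔ m ∈ Subgroup.normalizer (Subgroup.zpowers d.z : Set G) := by
  constructor
  · intro h
    refine NS_le fun s hs => ?_
    have hsM := d.S_le_M0 hs
    rw [p.sylow _ (mul_mem (mul_mem hm hsM) (inv_mem hm)), p.conj hm hsM]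
    exact conj_inP h ((p.sylow s hsM).1 hs)
  · intro h
    have key : ∀ σ, InP σ → Equiv.Perm.sign σ = 1 → InP (p.v m * σ * (p.v m)⁻¹) := by
      intro σ hσ hs
      obtain ⟨a, ha, rfl⟩ := p.surj σ hs
      rw [← p.conj hm ha, ← p.sylow _ (mul_mem (mul_mem hm ha) (inv_mem hm))]
      obtain ⟨q, hq, j, hj, rfl⟩ := (facts d).S_eq a ((p.sylow a ha).2 hσ)
      rw [show m * (q * j) * m⁻¹ = m * q * m⁻¹ * (m * j * m⁻¹) by group]
      exact mul_mem (d.Q_le_S (normQ h hq)) (d.J_le_S (normJ (d.M0_le hm) hj))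
    exact ⟨key c1 InP.gens.1 even_all.1, key c2 InP.gens.2 even_all.2.1⟩

theorem t_mem_M0 : l.t ∈ d.M0 := by
  obtain ⟨p⟩ := exists_proj d
  obtain ⟨a, ha, hva⟩ := p.surj hh even_all.2.2.1
  have haN : a ∈ Subgroup.normalizer (Subgroup.zpowers d.z : Set G) :=
    (np_iff p ha).1 (hva ▸ np_facts.1)
  set c := a * a with hc
  have hcM : c ∈ d.M0 := mul_mem ha ha
  have hcN : c ∈ Subgroup.normalizer (Subgroup.zpowers d.z : Set G) := mul_mem haN haN
  have hcz : c * d.z = d.z * c := by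
    have e : c * d.z * c⁻¹ = a * (a * d.z * a⁻¹) * a⁻¹ := by rw [hc]; group
    rcases NZ_z haN with e1 | e1
    · rw [e1, e1] at e
      exact mul_inv_eq_iff_eq_mul.1 e
    · rw [e1, show a * d.z⁻¹ * a⁻¹ = (a * d.z * a⁻¹)⁻¹ by group, e1, inv_inv] at e
      exact mul_inv_eq_iff_eq_mul.1 e
  have hvc : p.v c = tau := by rw [hc, p.mul _ ha _ ha, hva, identities.1]
  have fc := facts d
  have hQM : ∀ q ∈ d.Q, q ∈ d.M0 := fun q hq => d.S_le_M0 (d.Q_le_S hq)
  have hcq : ∀ q ∈ d.Q, c * q * c⁻¹ * q ∈ d.J := by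
    intro q hq
    have hqM := hQM q hq
    rw [← p.ker _ (mul_mem (mul_mem (mul_mem hcM hqM) (inv_mem hcM)) hqM),
      p.mul _ (mul_mem (mul_mem hcM hqM) (inv_mem hcM)) _ hqM, p.conj hcM hqM, hvc]
    obtain ⟨i, j, hij⟩ := (p.sylow q hqM).1 (d.Q_le_S hq)
    rw [← hij]
    exact tau_inverts i j
  set s := l.t * c with hs
  have hsJ : s ∈ Subgroup.normalizer (d.J : Set G) := mul_mem l.t_norm_J (d.M0_le hcM)
  have hsz : s * d.z = d.z * s := ((show Commute l.t d.z from tz).mul_left hcz).eq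
  have hsN := mem_NZ_of_comm hsz
  have h1 : ∀ q ∈ d.Q, ∃ u ∈ d.J ⊓ d.Q, s * q * s⁻¹ = q * u := by
    intro q hq
    refine ⟨q⁻¹ * (s * q * s⁻¹), ⟨?_, d.Q.mul_mem (d.Q.inv_mem hq) (normQ hsN hq)⟩, (mul_inv_cancel_left _ _).symm⟩
    obtain ⟨i, hi⟩ := Subgroup.mem_zpowers_iff.1 (t_inverts (l := l) hq)
    set j := q * (c * q * c⁻¹) with hj
    have hjJ : j ∈ d.J := by
      have := normJ (d.M0_le (hQM q hq)) (hcq q hq)
      simpa [hj, mul_assoc] using this
    have e : q⁻¹ * (s * q * s⁻¹) = q⁻¹ * (l.t * q * l.t⁻¹)⁻¹ * (l.t * j * l.t⁻¹) := by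
      rw [hs, hj]; group
    have e2 : q⁻¹ * (l.t * q * l.t⁻¹)⁻¹ = d.z ^ (-i) := by
      rw [zpow_neg, hi]; group
    rw [e, e2]
    exact mul_mem (zpow_mem (z_mem_J fc) _) (normJ l.t_norm_J hjJ)
  have h2 : ∀ w ∈ d.J ⊓ d.Q, ∃ i : ℤ, s * w * s⁻¹ = w * d.z ^ i := by
    intro w hw
    have hcwQ : c * w * c⁻¹ * w ∈ d.Q := mul_mem (normQ hcN hw.2) hw.2
    have he : c * w * c⁻¹ * w ∈ Subgroup.zpowers d.z := by
      rw [← d.center_Q]
      exact ⟨hcwQ, Subgroup.mem_centralizer_iff.2 fun q hq =>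
        (pairing hcN (d.M0_le hcM) hq hw.2 hw.1 (hcq q hq) fc hcz).symm⟩
    obtain ⟨k, hk⟩ := Subgroup.mem_zpowers_iff.1 he
    obtain ⟨i, hi⟩ := Subgroup.mem_zpowers_iff.1 (t_inverts (l := l) hw.2)
    have e1 : c * w * c⁻¹ = d.z ^ k * w⁻¹ := by rw [hk, mul_inv_cancel_right]
    have e2 : l.t * w⁻¹ * l.t⁻¹ = w * d.z ^ (-i) := by rw [zpow_neg, hi]; group
    refine ⟨k + -i, ?_⟩
    calc s * w * s⁻¹ = (l.t * d.z ^ k * l.t⁻¹) * (l.t * w⁻¹ * l.t⁻¹) := by
          rw [hs, show l.t * c * w * (l.t * c)⁻¹ = l.t * (c * w * c⁻¹) * l.t⁻¹ by group, e1]; group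
      _ = d.z ^ k * (w * d.z ^ (-i)) := by
          rw [e2, ((show Commute l.t d.z from tz).zpow_right k).eq, mul_inv_cancel_right]
      _ = _ := by
          rw [← mul_assoc, d.J_comm _ (zpow_mem (z_mem_J fc) k) w hw.1, mul_assoc, zpow_add]
  have hs3 : s ^ 3 ∈ d.Q := by
    refine d.cent_Q (Subgroup.mem_centralizer_iff.2 fun q hq => ?_)
    obtain ⟨u, hu, hqu⟩ := h1 q hq
    obtain ⟨i, hui⟩ := h2 u hu
    have hzi : s * d.z ^ i * s⁻¹ = d.z ^ i := by
      rw [((show Commute s d.z from hsz).zpow_right i).eq, mul_inv_cancel_right]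
    have step : ∀ a b : G, s * (a * b) * s⁻¹ = (s * a * s⁻¹) * (s * b * s⁻¹) := fun a b => by group
    have e : s ^ 3 * q * (s ^ 3)⁻¹ = s * (s * (s * q * s⁻¹) * s⁻¹) * s⁻¹ := by
      rw [pow_three]; group
    have hzu : Commute (d.z ^ i) u := d.J_comm _ (zpow_mem (z_mem_J fc) i) u hu.1
    have e' : s ^ 3 * q * (s ^ 3)⁻¹ = q := by
      have k1 : s * (q * u) * s⁻¹ = q * u * (u * d.z ^ i) := by rw [step, hqu, hui]
      have k2 : s * (q * u * (u * d.z ^ i)) * s⁻¹ = q * u * (u * d.z ^ i) * (u * d.z ^ i * d.z ^ i) := by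
        rw [step, k1, step u, hui, hzi]
      rw [e, hqu, k1, k2]
      have e3 : q * u * (u * d.z ^ i) * (u * d.z ^ i * d.z ^ i) = q * ((u * u * u) * (d.z ^ i * d.z ^ i * d.z ^ i)) := by
        simp only [mul_assoc]
        congr 2
        congr 1
        rw [← mul_assoc, hzu.eq, mul_assoc]
      rw [e3, ← pow_three', ← pow_three', d.J_exp u hu.1, d.J_exp _ (zpow_mem (z_mem_J fc) i), one_mul,
        mul_one]
    exact (mul_inv_eq_iff_eq_mul.1 e').symm
  have hs9 : s ^ 3 ^ 2 = 1 := by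
    rw [show (3 : ℕ) ^ 2 = 3 * 3 from rfl, pow_mul]; exact d.exp_Q _ hs3
  have hsM : s ∈ d.M0 := by
    obtain ⟨i, -, hi⟩ := (Nat.dvd_prime_pow Nat.prime_three).1 (orderOf_dvd_of_pow_eq_one hs9)
    exact d.M0_three s hsJ ⟨i, hi⟩
  have : l.t = s * c⁻¹ := by rw [hs, mul_inv_cancel_right]
  rw [this]
  exact mul_mem hsM (inv_mem hcM)

theorem exists_tau : ∃ p : Proj d, p.v l.t = tau := by
  obtain ⟨p⟩ := exists_proj d
  have ht := t_mem_M0 (l := l)
  have hinv : ∀ σ, InP σ → Equiv.Perm.sign σ = 1 → p.v l.t * σ = σ⁻¹ * p.v l.t := by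
    intro σ hσ hs
    obtain ⟨a, ha, rfl⟩ := p.surj σ hs
    obtain ⟨q, hq, j, hj, rfl⟩ := (facts d).S_eq a ((p.sylow a ha).2 hσ)
    have hqM : q ∈ d.M0 := d.S_le_M0 (d.Q_le_S hq)
    have hvj : p.v (q * j) = p.v q := by rw [p.mul _ hqM _ (d.J_le_M0 hj), p.J_one hj, mul_one]
    have hzJ : l.t * q * l.t⁻¹ * q ∈ d.J :=
      (Subgroup.zpowers_le.2 (z_mem_J (facts d))) (t_inverts (l := l) hq)
    have h := p.J_one hzJ
    rw [p.mul _ (mul_mem (mul_mem ht hqM) (inv_mem ht)) _ hqM, p.conj ht hqM, mul_eq_one_iff_eq_inv,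
      mul_inv_eq_iff_eq_mul] at h
    rw [hvj]
    exact h
  obtain ⟨i, j, hij⟩ := invert_cases (p.v l.t) (p.even _ ht)
    (by rw [← p.mul _ ht _ ht, tt, p.one]) (hinv c1 InP.gens.1 even_all.1) (hinv c2 InP.gens.2 even_all.2.1)
  set w := c1 ^ i.val * c2 ^ j.val with hw
  have hwe : Equiv.Perm.sign w = 1 := by
    rw [hw, map_mul, map_pow, map_pow, even_all.1, even_all.2.1]; simp
  refine ⟨⟨fun a => w * p.v a * w⁻¹, fun a ha b hb => ?_, fun a ha => ?_, fun a ha => ?_,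
    fun σ hσ => ?_, fun a ha => ?_⟩, ?_⟩
  · rw [p.mul a ha b hb]; group
  · rw [conj_eq_one_iff]; exact p.ker a ha
  · rw [map_mul, map_mul, map_inv, p.even a ha, hwe]; simp
  · obtain ⟨a, ha, e⟩ := p.surj (w⁻¹ * σ * w) (by rw [map_mul, map_mul, map_inv, hσ, hwe]; simp)
    exact ⟨a, ha, by rw [e]; group⟩
  · rw [p.sylow a ha]
    have hwP : w ∈ P0 := ⟨i, j, hw.symm⟩
    exact (P0.mul_mem_cancel_left hwP).symm.trans (P0.mul_mem_cancel_right (inv_mem hwP)).symm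
  · show w * p.v l.t * w⁻¹ = tau
    rw [hij, mul_inv_cancel_right]

theorem conj_invol {a b : G} (ha : a ∈ d.M0) (hb : b ∈ d.M0) (hv : p.v a = p.v b) (ha2 : a * a = 1)
    (hb2 : b * b = 1) : ∃ j ∈ d.J, j * a * j⁻¹ = b := by
  set j := a⁻¹ * b with hj
  have hjJ : j ∈ d.J := p.same ha hb hv
  have hb' : b = a * j := by rw [hj, mul_inv_cancel_left]
  have hai : a⁻¹ = a := inv_eq_of_mul_eq_one_right ha2
  have h1 : a⁻¹ * j * a = j⁻¹ := by
    rw [hai]
    refine eq_inv_of_mul_eq_one_left ?_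
    rw [hb'] at hb2
    rw [← hb2]; group
  refine ⟨j, hjJ, ?_⟩
  rw [show j * a * j⁻¹ = a * (a⁻¹ * j * a) * j⁻¹ by group, h1, hb', mul_assoc]
  congr 1
  have := d.J_exp j hjJ
  rw [pow_succ, pow_two] at this
  rw [← mul_inv_rev]
  exact inv_eq_of_mul_eq_one_right this

/-- Lifting into the centraliser of `t`. -/
theorem lift_comm (hp : p.v l.t = tau) {σ : P6} (hσ : Equiv.Perm.sign σ = 1) (hc : σ * tau = tau * σ) :
    ∃ a ∈ d.M0, p.v a = σ ∧ a * l.t = l.t * a := by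
  have ht := t_mem_M0 (l := l)
  obtain ⟨m, hm, hmv⟩ := p.surj σ hσ
  obtain ⟨j, hj, hje⟩ := conj_invol p (a := m * l.t * m⁻¹) (b := l.t) (mul_mem (mul_mem hm ht) (inv_mem hm)) ht
    (by rw [p.conj hm ht, hmv, hp, hc, mul_inv_cancel_right])
    (by rw [show m * l.t * m⁻¹ * (m * l.t * m⁻¹) = m * (l.t * l.t) * m⁻¹ by group, tt, mul_one, mul_inv_cancel]) tt
  refine ⟨j * m, mul_mem (d.J_le_M0 hj) hm, by rw [p.mul _ (d.J_le_M0 hj) _ hm, p.J_one hj, one_mul, hmv], ?_⟩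
  rw [← mul_inv_eq_iff_eq_mul]
  conv_rhs => rw [← hje]
  group

theorem line (hp : p.v l.t = tau) {n1 : G} (hn : n1 ∈ d.M0) (hnv : p.v n1 = nn) (hn2 : n1 * n1 = 1)
    {m : G} (hm : m ∈ d.M0) (hc : l.t * (m * d.z * m⁻¹) = m * d.z * m⁻¹ * l.t) :
    m * d.z * m⁻¹ ∈ Subgroup.zpowers d.z ∨ m * d.z * m⁻¹ ∈ Subgroup.zpowers (n1 * d.z * n1⁻¹) := by
  have ht := t_mem_M0 (l := l)
  have hmt : m⁻¹ * l.t * m ∈ d.M0 := mul_mem (mul_mem (inv_mem hm) ht) hm
  have hN : m⁻¹ * l.t * m ∈ Subgroup.normalizer (Subgroup.zpowers d.z : Set G) := mem_NZ_of_comm (by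
    calc m⁻¹ * l.t * m * d.z = m⁻¹ * (l.t * (m * d.z * m⁻¹)) * m := by group
      _ = m⁻¹ * (m * d.z * m⁻¹ * l.t) * m := by rw [hc]
      _ = d.z * (m⁻¹ * l.t * m) := by group)
  have h := (np_iff p hmt).2 hN
  rw [p.mul _ (mul_mem (inv_mem hm) ht) _ hm, p.mul _ (inv_mem hm) _ ht, p.inv hm, hp] at h
  rcases fixed_cases (p.v m) (p.even m hm) h with h1 | h1
  · exact Or.inl ((Subgroup.mem_normalizer_iff.1 ((np_iff p hm).1 h1) d.z).1 (Subgroup.mem_zpowers _))
  · refine Or.inr ?_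
    rw [← hnv, ← p.mul _ hn _ hm] at h1
    have h2 := (Subgroup.mem_normalizer_iff.1 ((np_iff p (mul_mem hn hm)).1 h1) d.z).1
      (Subgroup.mem_zpowers _)
    obtain ⟨k, hk⟩ := Subgroup.mem_zpowers_iff.1 h2
    refine Subgroup.mem_zpowers_iff.2 ⟨k, ?_⟩
    rw [conj_zpow, hk, inv_eq_of_mul_eq_one_right hn2]
    calc n1 * (n1 * m * d.z * (n1 * m)⁻¹) * n1 = n1 * n1 * (m * d.z * m⁻¹) * (n1⁻¹ * n1) := by group
      _ = m * d.z * m⁻¹ := by rw [hn2]; group

/-- The same data with the generator of `⟨x⟩` inverted. -/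
def flip (l : Loc d) : Loc d :=
  { l with
    x := l.x⁻¹
    x_mem_L1 := inv_mem l.x_mem_L1
    x_mem_J := inv_mem l.x_mem_J
    order_x := by rw [orderOf_inv]; exact l.order_x
    f_conj := by rw [inv_inv, show l.f * l.x⁻¹ * l.f⁻¹ = (l.f * l.x * l.f⁻¹)⁻¹ by group, l.f_conj, inv_inv] }

theorem g_inverts (hp : p.v l.t = tau) {g n1 : G} (hg : g ∈ d.M0) (hgv : p.v g = hh) (hgt : g * l.t = l.t * g)
    (hn : n1 ∈ d.M0) (hnv : p.v n1 = nn) (hn2 : n1 * n1 = 1) (hnt : n1 * l.t = l.t * n1)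
    (hx : n1 * d.z * n1⁻¹ = l.x) :
    g * d.z * g⁻¹ = d.z⁻¹ ∧ g * l.x * g⁻¹ = l.x⁻¹ := by
  have fc := facts d
  have hgN : g ∈ Subgroup.normalizer (Subgroup.zpowers d.z : Set G) := (np_iff p hg).1 (hgv ▸ np_facts.1)
  -- `n₁` inverts `g` modulo `J`
  set k := n1⁻¹ * g * n1 with hk
  have hkM : k ∈ d.M0 := mul_mem (mul_mem (inv_mem hn) hg) hn
  have hkv : p.v k = p.v g⁻¹ := by
    rw [hk, p.mul _ (mul_mem (inv_mem hn) hg) _ hn, p.mul _ (inv_mem hn) _ hg, p.inv hn, p.inv hg, hnv, hgv]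
    exact (by decide +kernel : nn⁻¹ * hh * nn = hh⁻¹)
  have hj := p.same (inv_mem hg) hkM hkv.symm
  rw [inv_inv] at hj
  have hgx : g * l.x * g⁻¹ = n1 * (g⁻¹ * d.z * g) * n1⁻¹ := by
    have hjz : g * k * d.z * (g * k)⁻¹ = d.z := by
      rw [d.J_comm _ hj _ (z_mem_J fc), mul_inv_cancel_right]
    have e1 : k * d.z * k⁻¹ = g⁻¹ * d.z * g := by
      conv_rhs => rw [← hjz]
      group
    rw [← e1, ← hx, hk]; group
  rcases NZ_z hgN with e | e
  · exfalso
    -- `g` centralises `z` and `x`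
    have hgx' : g * l.x * g⁻¹ = l.x := by
      have e' : g⁻¹ * d.z * g = d.z := by
        conv_lhs => rw [← e]
        group
      rw [hgx, e', hx]
    have hgD : ∀ a ∈ Subgroup.closure ({d.z, l.x} : Set G), g * a = a * g := fun a ha => by
      have hle : Subgroup.closure ({d.z, l.x} : Set G) ≤ Subgroup.centralizer ({g} : Set G) :=
        (Subgroup.closure_le _).2 (by
          rintro b (rfl | rfl)
          · exact Subgroup.mem_centralizer_singleton_iff.2 (mul_inv_eq_iff_eq_mul.1 e).symm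
          · exact Subgroup.mem_centralizer_singleton_iff.2 (mul_inv_eq_iff_eq_mul.1 hgx').symm)
      exact (Subgroup.mem_centralizer_singleton_iff.1 (hle ha)).symm
    set y := d.z * l.x with hy
    have hyJ : y ∈ d.J := mul_mem (z_mem_J fc) l.x_mem_J
    have hgy : g * y = y * g :=
      hgD y (mul_mem (Subgroup.subset_closure (by simp)) (Subgroup.subset_closure (by simp)))
    have hn1y : n1 * y = y * n1 := by
      rw [← mul_inv_eq_iff_eq_mul]
      have e2 : n1 * l.x * n1⁻¹ = d.z := by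
        rw [← hx, inv_eq_of_mul_eq_one_right hn2,
          show n1 * (n1 * d.z * n1) * n1 = (n1 * n1) * d.z * (n1 * n1) by group, hn2, one_mul, mul_one]
      calc n1 * y * n1⁻¹ = (n1 * d.z * n1⁻¹) * (n1 * l.x * n1⁻¹) := by rw [hy]; group
        _ = y := by rw [hx, e2, hy, d.J_comm _ (z_mem_J fc) _ l.x_mem_J]
    set K := Subgroup.centralizer ({y} : Set G) with hK
    have memK : ∀ {a : G}, a * y = y * a → a ∈ K := fun h => Subgroup.mem_centralizer_singleton_iff.2 h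
    have ofJ : ∀ {a : G}, a ∈ d.J → a ∈ K := fun h => memK (d.J_comm _ h _ hyJ)
    have hconj : ∀ {a e' : G}, a ∈ d.M0 → e' ∈ d.M0 → e' ∈ K → p.v (a * l.t * a⁻¹) = p.v e' →
        a * g * a⁻¹ ∈ K := by
      intro a e' ha he' heK hv
      have ht := t_mem_M0 (l := l)
      have hTK : a * l.t * a⁻¹ ∈ K := by
        have hw := p.same he' (mul_mem (mul_mem ha ht) (inv_mem ha)) hv.symm
        have := K.mul_mem heK (ofJ hw)
        rwa [mul_inv_cancel_left] at this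
      have hcm : l.t * (a⁻¹ * y * a) = a⁻¹ * y * a * l.t := by
        calc l.t * (a⁻¹ * y * a) = a⁻¹ * (a * l.t * a⁻¹ * y) * a := by group
          _ = a⁻¹ * (y * (a * l.t * a⁻¹)) * a := by rw [Subgroup.mem_centralizer_singleton_iff.1 hTK]
          _ = _ := by group
      have haJ : a⁻¹ * y * a ∈ d.J := (Subgroup.mem_normalizer_iff''.1 (d.M0_le ha) y).1 hyJ
      have := hgD _ ((cent_D fc haJ).1 hcm)
      refine memK ?_
      calc a * g * a⁻¹ * y = a * (g * (a⁻¹ * y * a)) * a⁻¹ := by group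
        _ = a * (a⁻¹ * y * a * g) * a⁻¹ := by rw [this]
        _ = _ := by group
    obtain ⟨u1, hu1, hv1⟩ := p.surj a1 even_all.2.2.2.2.1
    obtain ⟨u2, hu2, hv2⟩ := p.surj a2 even_all.2.2.2.2.2
    obtain ⟨-, -, -, -, -, -, -, -, i1, i2, -, -⟩ := identities
    have ht := t_mem_M0 (l := l)
    have K1 : u1 * g * u1⁻¹ ∈ K := hconj hu1 hn (memK hn1y) (by rw [p.conj hu1 ht, hv1, hp, hnv, i1])
    have K2 : u2 * g * u2⁻¹ ∈ K := hconj hu2 (mul_mem hn hg) (mul_mem (memK hn1y) (memK hgy))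
      (by rw [p.conj hu2 ht, hv2, hp, p.mul _ hn _ hg, hnv, hgv, i2])
    have Kg : g ∈ K := memK hgy
    have M1 : u1 * g * u1⁻¹ ∈ d.M0 := mul_mem (mul_mem hu1 hg) (inv_mem hu1)
    have M2 : u2 * g * u2⁻¹ ∈ d.M0 := mul_mem (mul_mem hu2 hg) (inv_mem hu2)
    set q1 := g * g * g * (u1 * g * u1⁻¹) * (u2 * g * u2⁻¹) * (u1 * g * u1⁻¹) * g with hq1
    set q2 := (u1 * g * u1⁻¹) * (u2 * g * u2⁻¹) * (u1 * g * u1⁻¹) with hq2
    have q1M : q1 ∈ d.M0 := mul_mem (mul_mem (mul_mem (mul_mem (mul_mem (mul_mem hg hg) hg) M1) M2) M1) hg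
    have q2M : q2 ∈ d.M0 := mul_mem (mul_mem M1 M2) M1
    have q1K : q1 ∈ K := mul_mem (mul_mem (mul_mem (mul_mem (mul_mem (mul_mem Kg Kg) Kg) K1) K2) K1) Kg
    have q2K : q2 ∈ K := mul_mem (mul_mem K1 K2) K1
    have q2v : p.v q2 = c2 := by
      rw [hq2, p.mul _ (mul_mem M1 M2) _ M1, p.mul _ M1 _ M2, p.conj hu1 hg, p.conj hu2 hg, hv1, hv2, hgv]
      exact words.2
    have q1v : p.v q1 = c1 := by
      have g2 := mul_mem hg hg
      have g3 := mul_mem g2 hg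
      rw [hq1, p.mul _ (mul_mem (mul_mem (mul_mem g3 M1) M2) M1) _ hg,
        p.mul _ (mul_mem (mul_mem g3 M1) M2) _ M1, p.mul _ (mul_mem g3 M1) _ M2, p.mul _ g3 _ M1,
        p.mul _ g2 _ hg, p.mul _ hg _ hg, p.conj hu1 hg, p.conj hu2 hg, hv1, hv2, hgv]
      exact words.1
    have hyS : y ∈ Subgroup.zpowers d.z := by
      rw [d.center_S]
      refine ⟨d.J_le_S hyJ, Subgroup.mem_centralizer_iff.2 fun s hs => ?_⟩
      obtain ⟨i, j, hij⟩ := (p.sylow s (d.S_le_M0 hs)).1 hs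
      have hqm := mul_mem (pow_mem q1M i.val) (pow_mem q2M j.val)
      have hw := p.same hqm (d.S_le_M0 hs)
        (by rw [p.mul _ (pow_mem q1M _) _ (pow_mem q2M _), p.pow q1M, p.pow q2M, q1v, q2v, hij])
      have := K.mul_mem (K.mul_mem (K.pow_mem q1K i.val) (K.pow_mem q2K j.val)) (ofJ hw)
      rw [mul_inv_cancel_left] at this
      exact Subgroup.mem_centralizer_singleton_iff.1 this
    obtain ⟨i, hi⟩ := Subgroup.mem_zpowers_iff.1 hyS
    have h1 := (eq_one_of_coord (l := l) (i := 1 - i) (j := 1) (by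
      rw [zpow_sub, zpow_one, zpow_one, hi, hy, mul_inv_rev]
      calc d.z * (l.x⁻¹ * d.z⁻¹) * l.x = l.x⁻¹ * (d.z * d.z⁻¹) * l.x := by
            rw [← mul_assoc, d.J_comm _ (z_mem_J fc) _ (inv_mem l.x_mem_J)]; group
        _ = 1 := by group)).2
    rw [zpow_one] at h1
    exact absurd l.order_x (by rw [h1, orderOf_one]; norm_num)
  · refine ⟨e, ?_⟩
    have e' : g⁻¹ * d.z * g = d.z⁻¹ := by
      have : d.z = (g * d.z * g⁻¹)⁻¹ := by rw [e, inv_inv]
      conv_lhs => rw [this]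
      group
    rw [hgx, e', show n1 * d.z⁻¹ * n1⁻¹ = (n1 * d.z * n1⁻¹)⁻¹ by group, hx]

/-- Conjugates in `N(J)` of `⟨z⟩` are conjugates under `M0`. -/
theorem normJ_split {b : G} (hb : b ∈ Subgroup.normalizer (d.J : Set G)) :
    ∃ m ∈ d.M0, m⁻¹ * b ∈ Subgroup.normalizer (Subgroup.zpowers d.z : Set G) := by
  classical
  haveI : Fact (Nat.Prime 3) := ⟨Nat.prime_three⟩
  set M := d.M0 with hM
  set S' := (d.S : Subgroup G).map (MulAut.conj b).toMonoidHom with hS'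
  have hle : S' ≤ M := by
    rintro _ ⟨s, hs, rfl⟩
    exact (Subgroup.mem_normalizer_iff.1 (d.M0_normal hb) s).1 (d.S_le_M0 hs)
  have hc : Nat.card S' = 729 := by
    rw [hS', Subgroup.card_map_of_injective (MulAut.conj b).injective, d.card_S]
  obtain ⟨P, hP⟩ := (d.S.2.comap_subtype (K := M)).exists_le_sylow
  obtain ⟨P', hP'⟩ := ((d.S.2.map (MulAut.conj b).toMonoidHom).comap_subtype (K := M)).exists_le_sylow
  obtain ⟨m, hm⟩ := MulAction.exists_smul_eq M P P'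
  have hbound : ∀ R : Sylow 3 M, Nat.card (R : Subgroup M) ≤ 729 := fun R => by
    obtain ⟨T, hT⟩ := (R.2.map M.subtype).exists_le_sylow
    rw [← Subgroup.card_map_of_injective M.subtype_injective, ← d.card_S]
    exact (Subgroup.card_le_of_le hT).trans (le_of_eq ((T.card_eq_multiplicity).trans d.S.card_eq_multiplicity.symm))
  have eP : (d.S : Subgroup G).subgroupOf M = P :=
    Subgroup.eq_of_le_of_card_ge hP (by
      rw [Nat.card_congr (Subgroup.subgroupOfEquivOfLe d.S_le_M0).toEquiv, d.card_S]; exact hbound P)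
  have eP' : S'.subgroupOf M = P' :=
    Subgroup.eq_of_le_of_card_ge hP' (by
      rw [Nat.card_congr (Subgroup.subgroupOfEquivOfLe hle).toEquiv, hc]; exact hbound P')
  refine ⟨m, m.2, NS_le fun s hs => ?_⟩
  have h1 : (⟨b * s * b⁻¹, hle ⟨s, hs, rfl⟩⟩ : M) ∈ (P' : Subgroup M) := by
    rw [← eP']; exact ⟨s, hs, rfl⟩
  rw [← hm, Sylow.coe_subgroup_smul, Subgroup.mem_pointwise_smul_iff_inv_smul_mem, ← eP,
    Subgroup.mem_subgroupOf] at h1
  simpa [MulAut.smul_def, mul_assoc] using h1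

theorem fusion (hp : p.v l.t = tau) {n1 : G} (hn : n1 ∈ d.M0) (hnv : p.v n1 = nn) (hn2 : n1 * n1 = 1)
    (hx : n1 * d.z * n1⁻¹ = l.x) {a : G} (ha : a ∈ Subgroup.closure ({d.z, l.x} : Set G))
    (hz : IsConj d.z a) : a ∈ Subgroup.zpowers d.z ∨ a ∈ Subgroup.zpowers l.x := by
  have fc := facts d
  obtain ⟨c, rfl⟩ := isConj_iff.1 hz
  obtain ⟨b, hb, hba⟩ := d.fusion_J (z_mem_J fc) (g := c) (D_le_J fc ha)
  rw [← hba] at ha ⊢
  obtain ⟨m, hm, hmN⟩ := normJ_split hb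
  have htc := (cent_D fc (D_le_J fc ha)).2 ha
  have e : b * d.z * b⁻¹ = m * (m⁻¹ * b * d.z * (m⁻¹ * b)⁻¹) * m⁻¹ := by group
  rw [e] at htc ⊢
  rcases NZ_z hmN with e1 | e1 <;> rw [e1] at htc ⊢
  · rcases line p hp hn hnv hn2 hm htc with h | h
    · exact Or.inl h
    · exact Or.inr (hx ▸ h)
  · have e2 : m * d.z⁻¹ * m⁻¹ = (m * d.z * m⁻¹)⁻¹ := by group
    rw [e2] at htc ⊢
    have htc' : l.t * (m * d.z * m⁻¹) = m * d.z * m⁻¹ * l.t := by
      have h : Commute l.t (m * d.z * m⁻¹)⁻¹ := htc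
      exact (Commute.inv_right_iff.1 h).eq
    rcases line p hp hn hnv hn2 hm htc' with h | h
    · exact Or.inl (inv_mem h)
    · exact Or.inr (inv_mem (hx ▸ h))

theorem sylow_T (hfus : ∀ a ∈ Subgroup.closure ({d.z, l.x} : Set G), IsConj d.z a →
      a ∈ Subgroup.zpowers d.z ∨ a ∈ Subgroup.zpowers l.x)
    (hxz : IsConj d.z l.x) (R : Subgroup G) (hR : IsPGroup 3 R)
    (hRt : R ≤ Subgroup.centralizer ({l.t} : Set G)) :
    ∃ c ∈ Subgroup.centralizer ({l.t} : Set G), ∀ a ∈ R, c * a * c⁻¹ ∈ Subgroup.closure ({d.z, l.x} : Set G) := by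
  classical
  haveI : Fact (Nat.Prime 3) := ⟨Nat.prime_three⟩
  have fc := facts d
  set D := Subgroup.closure ({d.z, l.x} : Set G) with hD
  set T := Subgroup.centralizer ({l.t} : Set G) with hT
  have hDT : D ≤ T := fun a ha =>
    Subgroup.mem_centralizer_singleton_iff.2 ((cent_D fc (D_le_J fc ha)).2 ha).symm
  have hD9 : IsPGroup 3 D := IsPGroup.of_card (n := 2) (by rw [hD, card_D fc]; norm_num)
  obtain ⟨P, hP⟩ := (hD9.comap_subtype (K := T)).exists_le_sylow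
  have hPD : (P : Subgroup T) = D.subgroupOf T := by
    by_contra hne
    haveI : Group.IsNilpotent (P : Subgroup T) := P.2.isNilpotent
    have hne' : (D.subgroupOf T).subgroupOf (P : Subgroup T) < ⊤ := by
      rw [lt_top_iff_ne_top, Ne, Subgroup.subgroupOf_eq_top]
      exact fun h => hne (le_antisymm h hP)
    obtain ⟨r, hrN, hrD⟩ := SetLike.exists_of_lt (Group.normalizerCondition_of_isNilpotent _ hne')
    set r₀ : G := ((r : T) : G) with hr0
    have hnorm : ∀ a ∈ D, r₀ * a * r₀⁻¹ ∈ D := fun a ha => by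
      have h := (Subgroup.mem_normalizer_iff.1 hrN ⟨⟨a, hDT ha⟩, hP ha⟩).1 ha
      exact h
    obtain ⟨k, hk⟩ := P.2 r
    have hk' : r₀ ^ 3 ^ k = 1 := congrArg (fun a : (P : Subgroup T) => ((a : T) : G)) hk
    have hrt : r₀ * l.t = l.t * r₀ := Subgroup.mem_centralizer_singleton_iff.1 (r : T).2
    have hzD : d.z ∈ D := Subgroup.subset_closure (by simp)
    have hxD : l.x ∈ D := Subgroup.subset_closure (by simp)
    have hrxi : IsConj d.z (r₀ * l.x * r₀⁻¹) := hxz.trans (isConj_iff.2 ⟨r₀, rfl⟩)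
    have hz' := hfus _ (hnorm _ hzD) (isConj_iff.2 ⟨r₀, rfl⟩)
    have hx' := hfus _ (hnorm _ hxD) hrxi
    have hdisj : ∀ a, a ∈ Subgroup.zpowers d.z → a ∈ Subgroup.zpowers l.x → a = 1 := by
      intro a h1 h2
      obtain ⟨i, rfl⟩ := Subgroup.mem_zpowers_iff.1 h1
      obtain ⟨j, hj⟩ := Subgroup.mem_zpowers_iff.1 h2
      exact (eq_one_of_coord (l := l) (i := i) (j := -j) (by rw [← hj]; group)).1
    have hzne : d.z ≠ 1 := fun h => absurd d.order_z (by rw [h, orderOf_one]; norm_num)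
    have hxne : l.x ≠ 1 := fun h => absurd l.order_x (by rw [h, orderOf_one]; norm_num)
    have hinjz : ∀ a, r₀ * d.z * r₀⁻¹ = r₀ * a * r₀⁻¹ → d.z = a := fun a h =>
      mul_left_cancel (mul_right_cancel h)
    -- `r₀` cannot exchange the two lines
    have hzfix : r₀ * d.z * r₀⁻¹ ∈ Subgroup.zpowers d.z := by
      rcases hz' with h | h
      · exact h
      exfalso
      have hx2 : r₀ * l.x * r₀⁻¹ ∈ Subgroup.zpowers d.z := by
        refine hx'.resolve_right fun h2 => ?_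
        have hgen : Subgroup.zpowers (r₀ * l.x * r₀⁻¹) = Subgroup.zpowers l.x := by
          refine Subgroup.eq_of_le_of_card_ge (Subgroup.zpowers_le.2 h2) (le_of_eq ?_)
          rw [Nat.card_zpowers, Nat.card_zpowers]
          exact (MulEquiv.orderOf_eq (MulAut.conj r₀) l.x).symm
        rw [← hgen] at h
        obtain ⟨i, hi⟩ := Subgroup.mem_zpowers_iff.1 h
        rw [conj_zpow] at hi
        exact hzne (hdisj _ (Subgroup.mem_zpowers _)
          (Subgroup.mem_zpowers_iff.2 ⟨i, (hinjz _ hi.symm).symm⟩))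
      obtain ⟨i, hi⟩ := Subgroup.mem_zpowers_iff.1 h
      obtain ⟨j, hj⟩ := Subgroup.mem_zpowers_iff.1 hx2
      have h2 : r₀ ^ 2 * d.z * (r₀ ^ 2)⁻¹ ∈ Subgroup.zpowers d.z := by
        rw [pow_two, show r₀ * r₀ * d.z * (r₀ * r₀)⁻¹ = r₀ * (r₀ * d.z * r₀⁻¹) * r₀⁻¹ by group, ← hi,
          ← conj_zpow, ← hj]
        exact zpow_mem (Subgroup.zpow_mem_zpowers _ _) _
      have hN2 : r₀ ^ 2 ∈ Subgroup.normalizer (Subgroup.zpowers d.z : Set G) :=
        Subgroup.mem_normalizer_fintype fun a ha => by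
          obtain ⟨n, rfl⟩ := Subgroup.mem_zpowers_iff.1 ha
          rw [← conj_zpow]
          exact zpow_mem h2 n
      obtain ⟨e, he⟩ := (show Even (3 ^ k + 1) from (Odd.pow (by decide)).add_one)
      have hr : r₀ ∈ Subgroup.normalizer (Subgroup.zpowers d.z : Set G) := by
        have e1 : r₀ = (r₀ ^ 2) ^ e := by
          rw [← pow_mul, two_mul, ← he, pow_succ, hk', one_mul]
        rw [e1]; exact pow_mem hN2 e
      exact hzne ((conj_eq_one_iff).1 (hdisj _ ((Subgroup.mem_normalizer_iff.1 hr d.z).1 (Subgroup.mem_zpowers _)) h))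
    have hrN' : r₀ ∈ Subgroup.normalizer (Subgroup.zpowers d.z : Set G) :=
      Subgroup.mem_normalizer_fintype fun a ha => by
        obtain ⟨n, rfl⟩ := Subgroup.mem_zpowers_iff.1 ha
        rw [← conj_zpow]
        exact zpow_mem hzfix n
    have hrxfix : r₀ * l.x * r₀⁻¹ ∈ Subgroup.zpowers l.x := by
      refine hx'.resolve_left fun h2 => ?_
      have h3 : l.x ∈ Subgroup.zpowers d.z := (Subgroup.mem_normalizer_iff.1 hrN' l.x).2 h2
      exact hxne (hdisj _ h3 (Subgroup.mem_zpowers _))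
    obtain ⟨n, -, hn⟩ := (Nat.dvd_prime_pow Nat.prime_three).1 (orderOf_dvd_of_pow_eq_one hk')
    have hrL := d.L_three r₀ hrN' ⟨n, hn⟩
    have hrz : r₀ * d.z = d.z * r₀ := Subgroup.mem_centralizer_singleton_iff.1 (d.L_le hrL)
    obtain ⟨i, hi⟩ := l.L_inf r₀ hrL hrt
    have hi3 : (d.z ^ i * r₀) ^ 3 ^ (k + 1) = 1 := by
      rw [((show Commute r₀ d.z from hrz).zpow_right i).symm.mul_pow, pow_succ (3 : ℕ), mul_comm (3 ^ k) 3,
        pow_mul, pow_mul, d.J_exp _ (zpow_mem (z_mem_J fc) i), one_pow, one_mul, ← pow_mul, mul_comm 3,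
        pow_mul, hk', one_pow]
    have hiN : d.z ^ i * r₀ ∈ Subgroup.normalizer (Subgroup.zpowers l.x : Set G) := by
      refine Subgroup.mem_normalizer_fintype fun a ha => ?_
      obtain ⟨n, rfl⟩ := Subgroup.mem_zpowers_iff.1 ha
      rw [← conj_zpow]
      refine zpow_mem ?_ n
      obtain ⟨n', hn'⟩ := Subgroup.mem_zpowers_iff.1 hrxfix
      rw [show d.z ^ i * r₀ * l.x * (d.z ^ i * r₀)⁻¹ = d.z ^ i * (r₀ * l.x * r₀⁻¹) * (d.z ^ i)⁻¹ by group,
        ← hn', (((show Commute d.z l.x from zx).zpow_left i).zpow_right n').eq, mul_inv_cancel_right]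
      exact Subgroup.zpow_mem_zpowers _ _
    obtain ⟨j, hj⟩ := Subgroup.mem_zpowers_iff.1 (three_L1 hi hi3 hiN)
    refine hrD ?_
    show r₀ ∈ D
    rw [show r₀ = (d.z ^ i)⁻¹ * l.x ^ j by rw [hj, inv_mul_cancel_left]]
    exact mul_mem (inv_mem (zpow_mem hzD i)) (zpow_mem hxD j)
  obtain ⟨P', hP'⟩ := (hR.comap_subtype (K := T)).exists_le_sylow
  obtain ⟨c, hc⟩ := MulAction.exists_smul_eq T P' P
  refine ⟨c, c.2, fun a ha => ?_⟩
  have h : (⟨a, hRt ha⟩ : T) ∈ (P' : Subgroup T) := hP' ha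
  have h' : (c * ⟨a, hRt ha⟩ * c⁻¹ : T) ∈ (P : Subgroup T) := by
    rw [← hc, Sylow.coe_subgroup_smul, Subgroup.mem_pointwise_smul_iff_inv_smul_mem]
    simpa [MulAut.smul_def, mul_assoc] using h
  rw [hPD] at h'
  exact h'

theorem frame_of_x (hp : p.v l.t = tau) {n1 : G} (hn : n1 ∈ d.M0) (hnv : p.v n1 = nn) (hn2 : n1 * n1 = 1)
    (hnt : n1 * l.t = l.t * n1) (hx : n1 * d.z * n1⁻¹ = l.x) : Nonempty (Frame d) := by
  have fc := facts d
  have htM := t_mem_M0 (l := l)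
  obtain ⟨i1, i2, i3, -, -, -, i7, -, i9, -, -, -⟩ := identities
  obtain ⟨a, ha, hva, hat⟩ := lift_comm p hp (σ := hh) even_all.2.2.1
    (by rw [← i1]; exact (mul_assoc _ _ _).symm)
  set g := a ^ 9 with hg
  have hgM : g ∈ d.M0 := pow_mem ha 9
  have hgv : p.v g = hh := by rw [hg, p.pow ha, hva, i3]
  have hgt : g * l.t = l.t * g := ((show Commute a l.t from hat).pow_left 9).eq
  have ha4 : a ^ 4 ∈ d.J := (p.ker _ (pow_mem ha 4)).1 (by rw [p.pow ha, hva, i2])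
  have hg4 : g ^ 4 = 1 := by
    rw [hg, ← pow_mul, show 9 * 4 = 4 * 3 * 3 from rfl, pow_mul, pow_mul, d.J_exp _ ha4, one_pow]
  have hg2 : g * g = l.t := by
    have hgg : g * g ∈ d.M0 := mul_mem hgM hgM
    have hgg2 : g * g * (g * g) = 1 := by
      rw [← hg4]; simp only [pow_succ, pow_zero, one_mul, mul_assoc]
    set j := l.t⁻¹ * (g * g) with hj
    have hjJ : j ∈ d.J := p.same htM hgg (by rw [p.mul _ hgM _ hgM, hgv, i1, hp])
    have hggt : Commute (g * g) l.t := (show Commute g l.t from hgt).mul_left hgt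
    have hj2 : j * j = 1 := by
      rw [hj, hggt.inv_right.mul_mul_mul_comm, hgg2, mul_one, ← mul_inv_rev, tt, inv_one]
    have h1 := sq_eq_one_of_cube (d.J_exp j hjJ) hj2
    rw [hj, inv_mul_eq_one] at h1
    exact h1.symm
  obtain ⟨hgz, hgx⟩ := g_inverts p hp hgM hgv hgt hn hnv hn2 hnt hx
  have hninv : n1⁻¹ = n1 := inv_eq_of_mul_eq_one_right hn2
  set δ := n1 * g * n1⁻¹ * g with hδdef
  have hδJ : δ ∈ d.J := (p.ker _ (mul_mem (mul_mem (mul_mem hn hgM) (inv_mem hn)) hgM)).1 (by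
    rw [p.mul _ (mul_mem (mul_mem hn hgM) (inv_mem hn)) _ hgM, p.conj hn hgM, hnv, hgv]
    decide +kernel)
  have hδt : l.t * δ = δ * l.t := by
    have c1 : Commute n1 l.t := hnt
    have c2 : Commute g l.t := hgt
    exact (((c1.mul_left c2).mul_left c1.inv_left).mul_left c2).eq.symm
  have hδD := (cent_D fc hδJ).1 hδt
  have hinvD : ∀ a ∈ Subgroup.closure ({d.z, l.x} : Set G), g * a * g⁻¹ = a⁻¹ := by
    intro b hb
    induction hb using Subgroup.closure_induction with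
    | mem y hy =>
      rcases hy with rfl | rfl
      exacts [hgz, hgx]
    | one => simp
    | mul y w hy hw iy iw =>
      rw [show g * (y * w) * g⁻¹ = g * y * g⁻¹ * (g * w * g⁻¹) by group, iy, iw, mul_inv_rev,
        d.J_comm _ (inv_mem (D_le_J fc hy)) _ (inv_mem (D_le_J fc hw))]
    | inv y hy iy =>
      rw [show g * y⁻¹ * g⁻¹ = (g * y * g⁻¹)⁻¹ by group, iy]
  have hng : n1 * g * n1⁻¹ = δ * g⁻¹ := by rw [hδdef, mul_inv_cancel_right]
  have hnδ : n1 * δ * n1⁻¹ = δ⁻¹ := by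
    have hgδ : g * δ⁻¹ * g⁻¹ = δ := by
      rw [show g * δ⁻¹ * g⁻¹ = (g * δ * g⁻¹)⁻¹ by group, hinvD δ hδD, inv_inv]
    have e : g = n1 * δ * n1⁻¹ * (δ * g) := by
      calc g = n1 * (n1 * g * n1⁻¹) * n1⁻¹ := by
            rw [hninv, show n1 * (n1 * g * n1) * n1 = n1 * n1 * g * (n1 * n1) by group, hn2, one_mul, mul_one]
        _ = n1 * δ * n1⁻¹ * (n1 * g * n1⁻¹)⁻¹ := by
            conv_lhs => rw [hng]
            group
        _ = n1 * δ * n1⁻¹ * (g * δ⁻¹) := by rw [hng]; group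
        _ = _ := by rw [mul_inv_eq_iff_eq_mul.1 hgδ]
    rw [← mul_assoc, eq_comm, mul_eq_right] at e
    exact mul_eq_one_iff_eq_inv.1 e
  set n := δ⁻¹ * n1 * δ with hndef
  have hnM : n ∈ d.M0 := mul_mem (mul_mem (inv_mem (d.J_le_M0 hδJ)) hn) (d.J_le_M0 hδJ)
  have hnv' : p.v n = nn := by
    rw [hndef, p.mul _ (mul_mem (inv_mem (d.J_le_M0 hδJ)) hn) _ (d.J_le_M0 hδJ),
      p.mul _ (inv_mem (d.J_le_M0 hδJ)) _ hn, p.J_one (inv_mem hδJ), p.J_one hδJ, hnv, one_mul, mul_one]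
  have hn2' : n * n = 1 := by
    rw [hndef, show δ⁻¹ * n1 * δ * (δ⁻¹ * n1 * δ) = δ⁻¹ * (n1 * n1) * δ by group, hn2, mul_one, inv_mul_cancel]
  have hnz : n * d.z * n⁻¹ = l.x := by
    rw [hndef, show δ⁻¹ * n1 * δ * d.z * (δ⁻¹ * n1 * δ)⁻¹ = δ⁻¹ * (n1 * (δ * d.z * δ⁻¹) * n1⁻¹) * δ by group,
      d.J_comm _ hδJ _ (z_mem_J fc), mul_inv_cancel_right, hx, d.J_comm _ (inv_mem hδJ) _ l.x_mem_J,
      inv_mul_cancel_right]
  have hnx : n * l.x * n⁻¹ = d.z := by
    rw [← hnz, inv_eq_of_mul_eq_one_right hn2',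
      show n * (n * d.z * n) * n = (n * n) * d.z * (n * n) by group, hn2', one_mul, mul_one]
  have hnt' : n * l.t = l.t * n :=
    (((show Commute l.t δ from hδt).inv_right.mul_right (show Commute l.t n1 from hnt.symm)).mul_right hδt).eq.symm
  have hng' : n * g * n⁻¹ = g⁻¹ := by
    have hgd : g * δ⁻¹ = δ * g := by
      refine mul_inv_eq_iff_eq_mul.1 ?_
      rw [show g * δ⁻¹ * g⁻¹ = (g * δ * g⁻¹)⁻¹ by group, hinvD δ hδD, inv_inv]
    have hgi : g⁻¹ * δ = δ⁻¹ * g⁻¹ := by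
      calc g⁻¹ * δ = (δ⁻¹ * g)⁻¹ := by group
        _ = (g * δ)⁻¹ := by
            congr 1
            rw [← mul_inv_eq_iff_eq_mul.1 (hinvD δ hδD)]
        _ = _ := by rw [mul_inv_rev]
    have h3 : δ * δ * δ = 1 := by rw [← pow_three']; exact d.J_exp δ hδJ
    calc n * g * n⁻¹ = δ⁻¹ * (n1 * (δ * (g * δ⁻¹)) * n1⁻¹) * δ := by rw [hndef]; group
      _ = δ⁻¹ * ((n1 * δ * n1⁻¹) * (n1 * δ * n1⁻¹) * (n1 * g * n1⁻¹)) * δ := by rw [hgd]; group
      _ = δ⁻¹ * δ⁻¹ * (g⁻¹ * δ) := by rw [hnδ, hng]; group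
      _ = (δ * δ * δ)⁻¹ * g⁻¹ := by rw [hgi]; group
      _ = _ := by rw [h3, inv_one, one_mul]
  have hfus : ∀ a ∈ Subgroup.closure ({d.z, l.x} : Set G), IsConj d.z a →
      a ∈ Subgroup.zpowers d.z ∨ a ∈ Subgroup.zpowers l.x :=
    fun b hb hz => fusion p hp hn hnv hn2 hx hb hz
  have hconj : IsConj l.t n := by
    obtain ⟨u, hu, hvu⟩ := p.surj a1 even_all.2.2.2.2.1
    obtain ⟨j, hj, hje⟩ := conj_invol p (mul_mem (mul_mem hu htM) (inv_mem hu)) hnM
      (by rw [p.conj hu htM, hvu, hp, hnv', i9])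
      (by rw [show u * l.t * u⁻¹ * (u * l.t * u⁻¹) = u * (l.t * l.t) * u⁻¹ by group, tt, mul_one, mul_inv_cancel])
      hn2'
    exact isConj_iff.2 ⟨j * u, by rw [← hje]; group⟩
  exact ⟨{ toLoc := l
           g := g
           n := n
           t_mem_M0 := htM
           cent_D := fun j hj => cent_D fc hj
           card_D := card_D fc
           card_U0 := card_U0 fc
           sylow := fun R hR hRt => sylow_T hfus (isConj_iff.2 ⟨n, hnz⟩) R hR hRt
           fusion := hfus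
           g_mem := hgM
           g_comm := hgt
           g_sq := hg2
           g_z := hgz
           g_x := hgx
           n_mem := hnM
           n_comm := hnt'
           n_sq := hn2'
           n_z := hnz
           n_x := hnx
           n_g := hng'
           n_conj := hconj
           cent_meet := fc.cent_meet
           kill := fun r hr h1 h2 h3 => kill fc hr h1 h2 h3
           inv_meet := fun u hu h => inv_meet hu h fc }⟩

theorem exists_frame (d : Data G) (l : Loc d) : Nonempty (Frame d) := by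
  have fc := facts d
  obtain ⟨p, hp⟩ := exists_tau (l := l)
  obtain ⟨-, -, -, i4, i5, -, i7, -, -, -, -, -⟩ := identities
  obtain ⟨b, hb, hvb, hbt⟩ := lift_comm p hp (σ := nn) even_all.2.2.2.1 i7
  set n1 := b ^ 3 with hn1
  have hn : n1 ∈ d.M0 := pow_mem hb 3
  have hnv : p.v n1 = nn := by rw [hn1, p.pow hb, hvb, i5]
  have hnt : n1 * l.t = l.t * n1 := ((show Commute b l.t from hbt).pow_left 3).eq
  have hb2 : b ^ 2 ∈ d.J := (p.ker _ (pow_mem hb 2)).1 (by rw [p.pow hb, hvb, pow_two, i4])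
  have hn2 : n1 * n1 = 1 := by
    rw [hn1, ← pow_add, show 3 + 3 = 2 * 3 from rfl, pow_mul, d.J_exp _ hb2]
  set x' := n1 * d.z * n1⁻¹ with hx'
  have hx'J : x' ∈ d.J := normJ (d.M0_le hn) (z_mem_J fc)
  have hx't : l.t * x' = x' * l.t := by
    have : Commute l.t x' := ((show Commute l.t n1 from hnt.symm).mul_right tz).mul_right
      (show Commute l.t n1 from hnt.symm).inv_right
    exact this.eq
  have hx'z : x' ∉ Subgroup.zpowers d.z := fun h => by
    have hN : n1 ∈ Subgroup.normalizer (Subgroup.zpowers d.z : Set G) :=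
      Subgroup.mem_normalizer_fintype fun a ha => by
        obtain ⟨k, rfl⟩ := Subgroup.mem_zpowers_iff.1 ha
        rw [← conj_zpow]
        exact zpow_mem h k
    exact np_facts.2 (hnv ▸ (np_iff p hn).2 hN)
  obtain ⟨i, k, hik⟩ := mem_D fc hx'J hx't
  -- the image under `f`
  have hfz : Commute l.f d.z := fz
  have hfM : l.f * n1 * l.f⁻¹ ∈ d.M0 :=
    (Subgroup.mem_normalizer_iff.1 (d.M0_normal l.f_norm_J) n1).1 hn
  have hfx : l.f * x' * l.f⁻¹ = (l.f * n1 * l.f⁻¹) * d.z * (l.f * n1 * l.f⁻¹)⁻¹ := by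
    have e : l.f⁻¹ * d.z * l.f = d.z := by rw [mul_assoc, ← hfz.eq, inv_mul_cancel_left]
    calc l.f * x' * l.f⁻¹ = l.f * (n1 * (l.f⁻¹ * d.z * l.f) * n1⁻¹) * l.f⁻¹ := by rw [e, hx']
      _ = _ := by group
  have hfx2 : l.f * x' * l.f⁻¹ = d.z ^ i * l.x ^ (-k) := by
    rw [hik, show l.f * (d.z ^ i * l.x ^ k) * l.f⁻¹ = (l.f * d.z ^ i * l.f⁻¹) * (l.f * l.x ^ k * l.f⁻¹) by group,
      ← conj_zpow (a := l.f) (b := l.x), l.f_conj, (hfz.zpow_right i).eq, mul_inv_cancel_right, inv_zpow, zpow_neg]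
  have htl : l.t * (l.f * n1 * l.f⁻¹ * d.z * (l.f * n1 * l.f⁻¹)⁻¹) =
      l.f * n1 * l.f⁻¹ * d.z * (l.f * n1 * l.f⁻¹)⁻¹ * l.t := by
    rw [← hfx]
    have h : Commute l.t l.f := (show Commute l.f l.t from ft).symm
    exact ((h.mul_right hx't).mul_right h.inv_right).eq
  have hl := line p hp hn hnv hn2 hfM htl
  rw [← hfx, hfx2, ← hx'] at hl
  have hzi : x' = l.x ∨ x' = l.x⁻¹ := by
    rcases hl with h | h
    · exfalso
      obtain ⟨m, hm⟩ := Subgroup.mem_zpowers_iff.1 h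
      have h1 := (eq_one_of_coord (l := l) (i := i - m) (j := -k) (by
        have e1 : d.z ^ (i - m) = (d.z ^ m)⁻¹ * d.z ^ i := by
          rw [← zpow_neg, ← zpow_add, neg_add_eq_sub]
        rw [e1, mul_assoc, ← hm, inv_mul_cancel])).2
      rw [zpow_neg, inv_eq_one] at h1
      exact hx'z (by rw [hik, h1, mul_one]; exact Subgroup.zpow_mem_zpowers _ _)
    · have hx3 : x' ^ 3 = 1 := d.J_exp _ hx'J
      have hzxc : Commute (d.z ^ i) (l.x ^ k) := ((show Commute d.z l.x from zx).zpow_left i).zpow_right k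
      rcases zp_cases hx3 h with e | e | e
      · exfalso
        obtain ⟨e1, e2⟩ := eq_one_of_coord e
        rw [zpow_neg, inv_eq_one] at e2
        exact hx'z (by rw [hik, e2, mul_one]; exact Subgroup.zpow_mem_zpowers _ _)
      · exfalso
        rw [hik] at e
        have e2 := mul_left_cancel e
        rw [zpow_neg] at e2
        have e3 : l.x ^ k * l.x ^ k = 1 := inv_eq_iff_mul_eq_one.1 e2
        have e4 : l.x ^ k = 1 := sq_eq_one_of_cube (d.J_exp _ (zpow_mem l.x_mem_J k)) e3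
        exact hx'z (by rw [hik, e4, mul_one]; exact Subgroup.zpow_mem_zpowers _ _)
      · rw [hik, mul_inv_rev, zpow_neg, (hzxc.inv_inv).eq.symm] at e
        have e2 : d.z ^ i = (d.z ^ i)⁻¹ := mul_right_cancel e
        have e3 : d.z ^ i = 1 := sq_eq_one_of_cube (d.J_exp _ (zpow_mem (z_mem_J fc) i))
          (by conv_lhs => arg 2; rw [e2]
              rw [mul_inv_cancel])
        rw [hik, e3, one_mul] at hx'z ⊢
        have h3 : l.x ^ k ∈ Subgroup.zpowers l.x := Subgroup.zpow_mem_zpowers _ _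
        rcases zp_cases (l.order_x ▸ pow_orderOf_eq_one l.x : l.x ^ 3 = 1) h3 with e4 | e4 | e4
        · exact absurd (e4 ▸ Subgroup.one_mem _) hx'z
        · exact Or.inl e4
        · exact Or.inr e4
  rcases hzi with e | e
  · exact frame_of_x p hp hn hnv hn2 hnt e
  · exact frame_of_x (l := flip l) p hp hn hnv hn2 hnt e

/-- Conjugation. -/
def cj (m a : G) : G := m * a * m⁻¹

theorem not_commute (F : Frame d) : ¬ Commute (F.n * F.f * F.n⁻¹) F.f := by
  intro hcomm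
  have fc := facts d
  set t := F.t with ht
  set f := F.f with hf
  set n := F.n with hn
  set g := F.g with hg
  have hni : n⁻¹ = n := inv_eq_of_mul_eq_one_right F.n_sq
  let U : Set G := {j | j ∈ d.J ∧ t * j * t⁻¹ = j⁻¹}
  have Umul : ∀ {a b : G}, a ∈ U → b ∈ U → a * b ∈ U := fun {a b} ha hb =>
    ⟨mul_mem ha.1 hb.1, by
      rw [show t * (a * b) * t⁻¹ = (t * a * t⁻¹) * (t * b * t⁻¹) by group, ha.2, hb.2, mul_inv_rev,
        d.J_comm _ (inv_mem ha.1) _ (inv_mem hb.1)]⟩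
  have U1 : (1 : G) ∈ U := ⟨one_mem _, by group⟩
  have Upow : ∀ {a : G}, a ∈ U → ∀ k : ℕ, a ^ k ∈ U := by
    intro a ha k
    induction k with
    | zero => simpa using U1
    | succ k ih => rw [pow_succ]; exact Umul ih ha
  have Uconj : ∀ {m : G}, m ∈ Subgroup.normalizer (d.J : Set G) → m * t = t * m →
      ∀ {a : G}, a ∈ U → m * a * m⁻¹ ∈ U := fun {m} hm hmt {a} ha => by
    refine ⟨normJ hm ha.1, ?_⟩
    calc t * (m * a * m⁻¹) * t⁻¹ = (t * m) * a * (t * m)⁻¹ := by group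
      _ = (m * t) * a * (m * t)⁻¹ := by rw [hmt]
      _ = m * (t * a * t⁻¹) * m⁻¹ := by group
      _ = (m * a * m⁻¹)⁻¹ := by rw [ha.2]; group
  have hgJ : g ∈ Subgroup.normalizer (d.J : Set G) := d.M0_le F.g_mem
  have hnJ : n ∈ Subgroup.normalizer (d.J : Set G) := d.M0_le F.n_mem
  have hfJ : f ∈ Subgroup.normalizer (d.J : Set G) := F.f_norm_J
  have hft : f * t = t * f := ft
  -- conjugation, as maps
  have cmul : ∀ m a b : G, cj m (a * b) = cj m a * cj m b := fun m a b => by simp only [cj]; group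
  have cinv : ∀ m a : G, cj m a⁻¹ = (cj m a)⁻¹ := fun m a => by simp only [cj]; group
  have cpow : ∀ (m a : G) (k : ℕ), cj m (a ^ k) = cj m a ^ k := fun m a k => (conj_pow).symm
  have cc : ∀ m m' a : G, cj m (cj m' a) = cj (m * m') a := fun m m' a => by simp only [cj]; group
  have ct : ∀ {a}, a ∈ U → cj t a = a⁻¹ := fun ha => ha.2
  have ne_inv : ∀ {a}, a ∈ U → a = a⁻¹ → a = 1 := fun {a} ha h =>
    sq_eq_one_of_cube (d.J_exp a ha.1) (mul_eq_one_iff_eq_inv.2 h)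
  have hgn : ∀ a, cj n (cj g a) = cj g⁻¹ (cj n a) := fun a => by
    rw [cc, cc, ← F.n_g, inv_mul_cancel_right]
  have hg1 : ∀ {a}, a ∈ U → cj g⁻¹ a = cj g a⁻¹ := fun {a} ha => by
    rw [← ct ha, cc]
    show cj g⁻¹ a = cj (g * t) a
    have e : g⁻¹ = g * t := by
      refine inv_eq_of_mul_eq_one_right ?_
      rw [← mul_assoc, F.g_sq, tt]
    rw [e]
  -- `n` does not centralise the inverted part
  have not_fix : ¬ ∀ a ∈ U, cj n a = a := fun h => by
    have h2 : ∀ a ∈ U, a = 1 := fun a ha => by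
      have e := h _ (Uconj hgJ F.g_comm ha)
      change cj n (cj g a) = cj g a at e
      rw [hgn, h a ha, hg1 ha, cinv] at e
      have hgU := Uconj hgJ F.g_comm ha
      exact conj_eq_one_iff.1 (ne_inv hgU e.symm)
    have := F.card_U0
    rw [show {j | j ∈ d.J ∧ t * j * t⁻¹ = j⁻¹} = {(1 : G)} from Set.eq_singleton_iff_unique_mem.2 ⟨U1, h2⟩] at this
    simp at this
  obtain ⟨u, huU, hu1, hnu⟩ : ∃ u ∈ U, u ≠ 1 ∧ cj n u = u := by
    by_contra hcon
    simp only [not_exists, not_and] at hcon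
    have hinv : ∀ a ∈ U, cj n a = a⁻¹ := fun a ha => by
      have hnaU := Uconj hnJ F.n_comm ha
      have hfix : cj n (a * cj n a) = a * cj n a := by
        rw [cmul, cc, F.n_sq]
        show cj n a * (1 * a * 1⁻¹) = a * cj n a
        rw [one_mul, inv_one, mul_one]
        exact d.J_comm _ hnaU.1 _ ha.1
      by_contra hne
      refine hcon _ (Umul ha hnaU) (fun h => hne ?_) hfix
      exact (inv_eq_of_mul_eq_one_right h).symm
    refine not_fix fun a ha => ?_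
    have e := hinv _ (Uconj hgJ F.g_comm ha)
    change cj n (cj g a) = (cj g a)⁻¹ at e
    rw [hgn, hinv a ha, cinv, hg1 ha, cinv, inv_inv] at e
    have := ne_inv (Uconj hgJ F.g_comm ha) e
    rw [conj_eq_one_iff.1 this]
    show n * 1 * n⁻¹ = 1
    group
  set v := cj f u with hv
  have hvU : v ∈ U := Uconj hfJ hft huU
  have hfv : cj f v = u⁻¹ := by rw [hv, cc, F.f_sq]; exact ct huU
  have hu3 : u ^ 3 = 1 := d.J_exp u huU.1
  have hv3 : v ^ 3 = 1 := d.J_exp v hvU.1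
  have huv : v ∉ Subgroup.zpowers u := fun h => by
    rcases zp_cases hu3 h with e | e | e
    · exact hu1 (conj_eq_one_iff.1 e)
    · have h2 : cj f v = v := by rw [e]; exact hv.symm.trans e
      rw [hfv, e] at h2
      exact hu1 (ne_inv huU h2.symm)
    · have h2 : cj f v = u := by rw [e, cinv, ← hv, e, inv_inv]
      rw [hfv] at h2
      exact hu1 (ne_inv huU h2.symm)
  have hinj : Function.Injective fun q : Fin 3 × Fin 3 => u ^ q.1.val * v ^ q.2.val := by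
    rintro ⟨a, b⟩ ⟨a', b'⟩ e
    simp only at e
    have h1 : v ^ b.val * (v ^ b'.val)⁻¹ = (u ^ a.val)⁻¹ * u ^ a'.val := by
      rw [eq_inv_mul_iff_mul_eq, ← mul_assoc, e, mul_inv_cancel_right]
    have hb : b = b' := by
      by_contra hne
      apply huv
      have h2 : v ^ ((b.val : ℤ) - b'.val) ∈ Subgroup.zpowers u := by
        rw [zpow_sub, zpow_natCast, zpow_natCast, h1]
        exact mul_mem (inv_mem (Subgroup.npow_mem_zpowers _ _)) (Subgroup.npow_mem_zpowers _ _)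
      have hb' : b.val ≠ b'.val := fun h => hne (Fin.ext h)
      have hbl := b.isLt
      have hbl' := b'.isLt
      have hv3' : v ^ (3 : ℤ) = 1 := by
        rw [show (3 : ℤ) = ((3 : ℕ) : ℤ) from rfl, zpow_natCast, hv3]
      rcases (by omega : (b.val : ℤ) - b'.val = 1 ∨ (b.val : ℤ) - b'.val = -1 ∨ (b.val : ℤ) - b'.val = 2 ∨
          (b.val : ℤ) - b'.val = -2) with h | h | h | h <;> rw [h] at h2
      · simpa using h2
      · simpa using h2
      · have e2 : v ^ (2 : ℤ) = v⁻¹ := by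
          refine eq_inv_of_mul_eq_one_left ?_
          rw [← zpow_add_one, show (2 : ℤ) + 1 = 3 from rfl, hv3']
        simpa [e2] using h2
      · have e2 : v ^ (-2 : ℤ) = v := by
          rw [show (-2 : ℤ) = 1 + -3 from rfl, zpow_add, zpow_one, zpow_neg, hv3', inv_one, mul_one]
        rwa [e2] at h2
    subst hb
    refine Prod.ext ?_ rfl
    have e' := mul_right_cancel e
    have hou : orderOf u = 3 := by
      haveI : Fact (Nat.Prime 3) := ⟨Nat.prime_three⟩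
      exact orderOf_eq_prime hu3 hu1
    exact Fin.ext (pow_injOn_Iio_orderOf (by simp [hou]) (by simp [hou]) e')
  have hall : ∀ a ∈ U, ∃ q : Fin 3 × Fin 3, u ^ q.1.val * v ^ q.2.val = a := by
    intro a ha
    let Φ : Fin 3 × Fin 3 → U := fun q => ⟨u ^ q.1.val * v ^ q.2.val, Umul (Upow huU _) (Upow hvU _)⟩
    have hb : Function.Bijective Φ := (Nat.bijective_iff_injective_and_card Φ).2
      ⟨fun q q' e => hinj (congrArg Subtype.val e), by
        rw [show Nat.card U = 9 from F.card_U0]; simp⟩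
    obtain ⟨q, hq⟩ := hb.2 ⟨a, ha⟩
    exact ⟨q, congrArg Subtype.val hq⟩
  obtain ⟨⟨a, b⟩, hnv⟩ := hall _ (Uconj hnJ F.n_comm hvU)
  change u ^ a.val * v ^ b.val = cj n v at hnv
  -- `n v = u^a v^b` with `a = 0`
  have hf' : ∀ w, cj (n * f * n⁻¹) (cj f w) = cj f (cj (n * f * n⁻¹) w) := fun w => by
    rw [cc, cc, hcomm.eq]
  have hA : cj (n * f * n⁻¹) u = u ^ a.val * v ^ b.val := by
    rw [hnv, hv, hni, ← cc, ← cc, hnu]
  have hB : cj (n * f * n⁻¹) v = v ^ a.val * (u⁻¹) ^ b.val := by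
    conv_lhs => rw [hv]
    rw [hf', hA, cmul, cpow, cpow, ← hv, hfv]
  have hC : cj (n * f * n⁻¹) v = (u ^ a.val * v ^ b.val) ^ a.val * (u⁻¹) ^ b.val := by
    calc cj (n * f * n⁻¹) v = cj n (cj f (cj n v)) := by rw [hni, cc f n v, cc n (f * n) v, ← mul_assoc]
      _ = (cj n v) ^ a.val * (cj n u⁻¹) ^ b.val := by
          rw [← hnv, cmul, cpow, cpow, ← hv, hfv, cmul, cpow, cpow, ← hnv]
      _ = _ := by rw [cinv, hnu, ← hnv]
  have hpowu : ∀ m : ℕ, u ^ m = u ^ (m % 3) := fun m => by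
    conv_lhs => rw [← Nat.div_add_mod m 3, pow_add, pow_mul, hu3, one_pow, one_mul]
  have hpowv : ∀ m : ℕ, v ^ m = v ^ (m % 3) := fun m => by
    conv_lhs => rw [← Nat.div_add_mod m 3, pow_add, pow_mul, hv3, one_pow, one_mul]
  have hcuv : Commute (u ^ a.val) (v ^ b.val) :=
    d.J_comm _ (Upow huU _).1 _ (Upow hvU _).1
  have ha0 : a = 0 := by
    have e := hB.symm.trans hC
    have e1 : v ^ a.val = (u ^ a.val * v ^ b.val) ^ a.val := mul_right_cancel e
    rw [hcuv.mul_pow, ← pow_mul, ← pow_mul, hpowu (a.val * a.val), hpowv (b.val * a.val)] at e1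
    have e2 := hinj (a₁ := ((0 : Fin 3), a)) (a₂ := (a * a, b * a)) (by
      simpa [Fin.val_mul] using e1)
    have key : ∀ c : Fin 3, (0 : Fin 3) = c * c → c = 0 := by decide
    exact key a (congrArg Prod.fst e2)
  subst ha0
  have hnvb : cj n v = v ^ b.val := by rw [← hnv]; simp
  have hnvi : cj n v = v⁻¹ := by
    fin_cases b
    · exfalso
      have e1 : cj n v = 1 := by rw [hnvb]; simp
      have e2 : v = 1 := conj_eq_one_iff.1 e1
      exact huv (e2 ▸ one_mem _)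
    · exfalso
      refine not_fix fun a ha => ?_
      obtain ⟨⟨i, j⟩, hij⟩ := hall a ha
      rw [← hij, cmul, cpow, cpow, hnu, hnvb]
      simp
    · rw [hnvb]
      refine eq_inv_of_mul_eq_one_left ?_
      show v ^ 2 * v = 1
      rw [← pow_succ, hv3]
  obtain ⟨⟨c, e⟩, hgu⟩ := hall _ (Uconj hgJ F.g_comm huU)
  change u ^ c.val * v ^ e.val = cj g u at hgu
  have hc0 : c = 0 := by
    have h1 : cj n (cj g u) = (cj g u)⁻¹ := by rw [hgn, hnu, hg1 huU, cinv]
    rw [← hgu, cmul, cpow, cpow, hnu, hnvi, inv_pow, mul_inv_rev,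
      d.J_comm _ (inv_mem (Upow hvU _).1) _ (inv_mem (Upow huU _).1)] at h1
    have h2 : u ^ c.val = (u ^ c.val)⁻¹ := mul_right_cancel h1
    have h3 := ne_inv (Upow huU _) h2
    have := hinj (a₁ := (c, (0 : Fin 3))) (a₂ := (0, 0)) (by simpa using h3)
    exact congrArg Prod.fst this
  subst hc0
  have hgu' : cj g u = v ^ e.val := by rw [← hgu]; simp
  have hgv : ∀ w, cj g (cj g w) = cj t w := fun w => by rw [cc, F.g_sq]
  have hfi_u : cj f⁻¹ u = v⁻¹ := by
    have h : cj f v⁻¹ = u := by rw [cinv, hfv, inv_inv]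
    conv_lhs => rw [← h, cc, inv_mul_cancel]
    simp [cj]
  have hfi_v : cj f⁻¹ v = u := by rw [hv, cc, inv_mul_cancel]; simp [cj]
  have hfi_x : cj f⁻¹ F.x = F.x⁻¹ := by
    have h : cj f F.x⁻¹ = F.x := by rw [cinv]; exact inv_eq_iff_eq_inv.2 F.f_conj
    conv_lhs => rw [← h, cc, inv_mul_cancel]
    simp [cj]
  have hfz : cj f d.z = d.z := mul_inv_eq_iff_eq_mul.2 fz
  have hfi_z : cj f⁻¹ d.z = d.z := by
    conv_lhs => rw [← hfz, cc, inv_mul_cancel]
    simp [cj]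
  have finish : ∀ r ∈ Subgroup.normalizer (d.J : Set G), cj r d.z = d.z⁻¹ → cj r F.x = F.x →
      cj r u = u → cj r v = v → False := fun r hr h1 h2 h3 h4 => by
    refine F.kill r hr h1 (mul_inv_eq_iff_eq_mul.1 h2) fun w hw hwi => ?_
    obtain ⟨⟨i, j⟩, hij⟩ := hall w ⟨hw, hwi⟩
    refine mul_inv_eq_iff_eq_mul.1 ?_
    show cj r w = w
    rw [← hij, cmul, cpow, cpow, h3, h4]
  have hgz : cj g d.z = d.z⁻¹ := F.g_z
  have hgx : cj g F.x = F.x⁻¹ := F.g_x
  fin_cases e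
  · have e1 : cj g u = 1 := by rw [hgu']; simp
    exact hu1 (conj_eq_one_iff.1 e1)
  · have e1 : cj g u = v := by rw [hgu']; simp
    have e2 : cj g v = u⁻¹ := by rw [← e1, hgv]; exact ct huU
    refine finish (g * f⁻¹) (mul_mem hgJ (inv_mem hfJ)) ?_ ?_ ?_ ?_
    · rw [← cc, hfi_z, hgz]
    · rw [← cc, hfi_x, cinv, hgx, inv_inv]
    · rw [← cc, hfi_u, cinv, e2, inv_inv]
    · rw [← cc, hfi_v, e1]
  · have e1 : cj g u = v⁻¹ := by
      rw [hgu']
      refine eq_inv_of_mul_eq_one_left ?_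
      show v ^ 2 * v = 1
      rw [← pow_succ, hv3]
    have e2 : cj g v = u := by
      have h : cj g v⁻¹ = u⁻¹ := by rw [← e1, hgv]; exact ct huU
      rw [cinv] at h
      exact inv_injective h
    refine finish (g * f) (mul_mem hgJ hfJ) ?_ ?_ ?_ ?_
    · rw [← cc, hfz, hgz]
    · rw [← cc, show cj f F.x = F.x⁻¹ from F.f_conj, cinv, hgx, inv_inv]
    · rw [← cc, ← hv, e2]
    · rw [← cc, hfv, cinv, e1, inv_inv]

end Cfsg.Agent.McL3Frame78

namespace Cfsg.Agent.McL3x39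

variable {G : Type*} [Group G] [Finite G] {d : Data G}

/-- The two elements of order four do not commute. -/
theorem Frame.not_commute (F : Frame d) : ¬ Commute (F.n * F.f * F.n⁻¹) F.f :=
  McL3Frame78.not_commute F

/-- The normal form exists. -/
theorem Loc.exists_frame (l : Loc d) : Nonempty (Frame d) :=
  McL3Frame78.exists_frame d l

end Cfsg.Agent.McL3x39
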