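import Cfsg.Agent.Lib.Sym8ThreeCaseA96Hom
import Cfsg.Agent.Lib.ZStarTheorem
import Cfsg.Agent.Lib.IsolatedInv

/-!
# Three-local characterisation of `S₈`: the case `alt = false`

With the symmetric group `G₀` inside `G`: centralisers of elements of order 3 and of transpositions
of `G₀` lie in `G₀`; then, by the `Z*`-theorem applied modulo the central involution, those of
double and triple transpositions; finally the double transpositions are weakly closed and `G = G₀`.
-/

set_option autoImplicit false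
set_option maxRecDepth 20000
set_option linter.unusedSectionVars false

namespace Cfsg.Agent.Sym8Three96

open Equiv

abbrev P8 := Equiv.Perm (Fin 8)

/-- a transposition. -/
def q1 : P8 := swap 0 1
/-- a product of two transpositions. -/
def q2 : P8 := swap 0 1 * swap 3 4
/-- a product of three transpositions. -/
def q3 : P8 := swap 0 1 * swap 3 4 * swap 5 6
/-- a product of four transpositions. -/
def q4 : P8 := swap 0 1 * swap 3 4 * swap 5 6 * swap 2 7
/-- a 3-cycle. -/
def w1 : P8 := E8 (r3, 1)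
/-- a product of two 3-cycles. -/
def w2 : P8 := E8 (r3, c5)

theorem types : q1.cycleType = Multiset.replicate 1 2 ∧ q2.cycleType = Multiset.replicate 2 2 ∧
    q3.cycleType = Multiset.replicate 3 2 ∧ q4.cycleType = Multiset.replicate 4 2 ∧
    w1.cycleType = Multiset.replicate 1 3 ∧ w2.cycleType = Multiset.replicate 2 3 := by
  decide +kernel

theorem invol_class {σ : P8} (h : orderOf σ = 2) :
    IsConj q1 σ ∨ IsConj q2 σ ∨ IsConj q3 σ ∨ IsConj q4 σ := by
  obtain ⟨n, hn⟩ := Perm.cycleType_prime_order (σ := σ) (by rw [h]; exact Nat.prime_two)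
  rw [h] at hn
  have hs := σ.sum_cycleType
  rw [hn, Multiset.sum_replicate, smul_eq_mul] at hs
  have h8 : σ.support.card ≤ 8 := (Finset.card_le_univ _).trans (by simp)
  obtain ⟨t1, t2, t3, t4, -, -⟩ := types
  simp only [Perm.isConj_iff_cycleType_eq, t1, t2, t3, t4, hn]
  obtain rfl | rfl | rfl | rfl : n = 0 ∨ n = 1 ∨ n = 2 ∨ n = 3 := by omega
  all_goals tauto

theorem three_class {σ : P8} (h : orderOf σ = 3) : IsConj w1 σ ∨ IsConj w2 σ := by
  obtain ⟨n, hn⟩ := Perm.cycleType_prime_order (σ := σ) (by rw [h]; exact Nat.prime_three)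
  rw [h] at hn
  have hs := σ.sum_cycleType
  rw [hn, Multiset.sum_replicate, smul_eq_mul] at hs
  have h8 : σ.support.card ≤ 8 := (Finset.card_le_univ _).trans (by simp)
  obtain ⟨-, -, -, -, t1, t2⟩ := types
  simp only [Perm.isConj_iff_cycleType_eq, t1, t2, hn]
  obtain rfl | rfl : n = 0 ∨ n = 1 := by omega
  all_goals tauto

theorem cards : Nat.card (Subgroup.centralizer ({q1} : Set P8)) = 1440 ∧
    Nat.card (Subgroup.centralizer ({q2} : Set P8)) = 192 ∧
    Nat.card (Subgroup.centralizer ({q3} : Set P8)) = 96 ∧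
    Nat.card (Subgroup.centralizer ({q4} : Set P8)) = 384 := by
  obtain ⟨t1, t2, t3, t4, -, -⟩ := types
  simp only [Perm.nat_card_centralizer, t1, t2, t3, t4, Fintype.card_fin]
  decide +kernel

variable {G : Type*} [Group G] [Finite G]

theorem card_centralizer_conj (g x : G) :
    Nat.card (Subgroup.centralizer ({g * x * g⁻¹} : Set G)) =
      Nat.card (Subgroup.centralizer ({x} : Set G)) := by
  refine Nat.card_congr ((MulAut.conj g⁻¹).toEquiv.subtypeEquiv (fun a => ?_))
  simp only [Subgroup.mem_centralizer_singleton_iff, MulEquiv.toEquiv_eq_coe, MulEquiv.coe_toEquiv,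
    MulAut.conj_apply, inv_inv]
  constructor
  · intro h
    calc g⁻¹ * a * g * x = g⁻¹ * (a * (g * x * g⁻¹)) * g := by group
      _ = g⁻¹ * (g * x * g⁻¹ * a) * g := by rw [h]
      _ = x * (g⁻¹ * a * g) := by group
  · intro h
    calc a * (g * x * g⁻¹) = g * (g⁻¹ * a * g * x) * g⁻¹ := by group
      _ = g * (x * (g⁻¹ * a * g)) * g⁻¹ := by rw [h]
      _ = g * x * g⁻¹ * a := by group

/-- A fixed-point-free involution on an odd normal subgroup inverts it. -/
theorem inverts_odd {Q : Type*} [Group Q] [Finite Q] {z : Q} (hzz : z * z = 1) (N : Subgroup Q)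
    [N.Normal] (hfix : ∀ k ∈ N, Commute k z → k = 1) : ∀ k ∈ N, z * k * z⁻¹ = k⁻¹ := by
  let φ : N →* N := (MulAut.conjNormal (H := N) z).toMonoidHom
  have hval : ∀ k : N, (φ k : Q) = z * k * z⁻¹ := fun k => MulAut.conjNormal_apply z k
  have hf : MonoidHom.FixedPointFree φ := by
    intro k hk
    have h' : z * (k : Q) * z⁻¹ = k := (hval k).symm.trans (congrArg Subtype.val hk)
    exact Subtype.ext (hfix k k.2 (mul_inv_eq_iff_eq_mul.1 h').symm)
  have hinv : Function.Involutive φ := fun k => by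
    apply Subtype.ext
    rw [hval, hval]
    calc z * (z * (k : Q) * z⁻¹) * z⁻¹ = (z * z) * k * (z * z)⁻¹ := by group
      _ = k := by rw [hzz]; simp
  intro k hk
  exact (hval ⟨k, hk⟩).symm.trans
    (congrArg Subtype.val (congrFun (hf.coe_eq_inv_of_involutive hinv) ⟨k, hk⟩))

/-- The embedded symmetric group. -/
structure Sym8 (d : Data G) where
  halt : d.alt = false
  Φ : P8 →* G
  inj : Function.Injective Φ
  hF : ∀ p : P3 × P5, Φ (E8 p) = d.F p

namespace Sym8

variable {d : Data G} (S : Sym8 d)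

/-- The image. -/
def G0 : Subgroup G := S.Φ.range

/-- The centraliser of the image of `σ` lies in the image. -/
def Closed (σ : P8) : Prop := ∀ g : G, Commute g (S.Φ σ) → g ∈ S.G0

theorem mem (σ : P8) : S.Φ σ ∈ S.G0 := ⟨σ, rfl⟩

theorem F_mem (p : P3 × P5) : d.F p ∈ S.G0 := ⟨E8 p, S.hF p⟩

theorem closed_of_conj {σ σ' : P8} (hc : IsConj σ σ') (h : S.Closed σ) : S.Closed σ' := by
  obtain ⟨c, hc⟩ := isConj_iff.1 hc
  intro g hg
  have h' := hg.map (MulAut.conj (S.Φ c⁻¹)).toMonoidHom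
  simp only [MulEquiv.coe_toMonoidHom, MulAut.conj_apply, ← map_inv, inv_inv] at h'
  rw [show S.Φ c⁻¹ * S.Φ σ' * S.Φ c = S.Φ σ by rw [← hc]; simp [mul_assoc]] at h'
  have h2 := mul_mem (mul_mem (S.mem c) (h _ h')) (S.mem c⁻¹)
  simpa [mul_assoc] using h2

theorem s_mem : d.s ∈ S.G0 := by
  set σ : P8 := swap 0 5 * swap 1 6 * swap 2 7
  have hσ : σ * E8 (1, c5) * σ⁻¹ = E8 (r3, 1) := by decide +kernel
  have h1 : Commute (S.Φ σ * d.s) d.z := by
    have e : S.Φ σ * d.z' * (S.Φ σ)⁻¹ = d.z := by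
      have := congrArg S.Φ hσ
      rw [map_mul, map_mul, map_inv, S.hF, S.hF] at this
      exact this
    have e2 : d.s * d.z * d.s⁻¹ = d.z' := by rw [d.conj_s]; exact d.cs_z
    rw [← e2] at e
    calc S.Φ σ * d.s * d.z = S.Φ σ * (d.s * d.z * d.s⁻¹) * (S.Φ σ)⁻¹ * (S.Φ σ * d.s) := by group
      _ = d.z * (S.Φ σ * d.s) := by rw [e]
  obtain ⟨i, l, hl⟩ := d.cent_z h1
  have := mul_mem (inv_mem (S.mem σ)) (hl ▸ S.F_mem (r3 ^ (i : ℕ), l) : S.Φ σ * d.s ∈ S.G0)
  rwa [inv_mul_cancel_left] at this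

theorem closed_three {σ : P8} (hσ : orderOf σ = 3) : S.Closed σ := by
  rcases three_class hσ with h | h <;> refine S.closed_of_conj h fun g hg => ?_
  · rw [w1, S.hF] at hg
    obtain ⟨i, l, rfl⟩ := d.cent_z hg
    exact S.F_mem _
  · rw [w2, S.hF] at hg
    obtain ⟨i, j, e, f, rfl⟩ := d.cent_y hg
    exact mul_mem (S.F_mem _) (pow_mem S.s_mem _)

theorem card_map (σ : P8) : Nat.card ((Subgroup.centralizer ({σ} : Set P8)).map S.Φ) =
    Nat.card (Subgroup.centralizer ({σ} : Set P8)) :=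
  Subgroup.card_map_of_injective S.inj

theorem map_le (σ : P8) :
    (Subgroup.centralizer ({σ} : Set P8)).map S.Φ ≤ Subgroup.centralizer ({S.Φ σ} : Set G) := by
  rintro _ ⟨τ, hτ, rfl⟩
  rw [SetLike.mem_coe, Subgroup.mem_centralizer_singleton_iff] at hτ
  rw [Subgroup.mem_centralizer_singleton_iff, ← map_mul, ← map_mul, hτ]

theorem centralizer_eq {σ : P8} (h : S.Closed σ) :
    Subgroup.centralizer ({S.Φ σ} : Set G) = (Subgroup.centralizer ({σ} : Set P8)).map S.Φ := by
  refine le_antisymm (fun g hg => ?_) (S.map_le σ)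
  rw [Subgroup.mem_centralizer_singleton_iff] at hg
  obtain ⟨τ, rfl⟩ := h g hg
  refine ⟨τ, Subgroup.mem_centralizer_singleton_iff.2 (S.inj ?_), rfl⟩
  rw [map_mul, map_mul, hg]

theorem card_q1 : Nat.card (Subgroup.centralizer ({S.Φ q1} : Set G)) = 1440 := by
  obtain ⟨g, hg⟩ := d.iota_conj S.halt
  have e : S.Φ q1 = d.iota := by
    rw [show q1 = E8 (f3, 1) from by decide +kernel, S.hF]; rfl
  rw [e, ← card_centralizer_conj g d.iota, hg]
  exact d.card_Ct S.halt

theorem closed_q1 : S.Closed q1 := by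
  intro g hg
  have heq : (Subgroup.centralizer ({q1} : Set P8)).map S.Φ = Subgroup.centralizer ({S.Φ q1} : Set G) :=
    Subgroup.eq_of_le_of_card_ge (S.map_le q1) (by rw [S.card_q1, S.card_map, cards.1])
  have hg' : g ∈ Subgroup.centralizer ({S.Φ q1} : Set G) :=
    Subgroup.mem_centralizer_singleton_iff.2 hg
  rw [← heq] at hg'
  obtain ⟨τ, -, rfl⟩ := hg'
  exact S.mem τ

theorem not_fused_of_card {σ σ' : P8}
    (h : Nat.card (Subgroup.centralizer ({S.Φ σ} : Set G)) ≠
      Nat.card (Subgroup.centralizer ({S.Φ σ'} : Set G))) : ¬ IsConj (S.Φ σ) (S.Φ σ') := fun hc => by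
  obtain ⟨g, hg⟩ := isConj_iff.1 hc
  rw [← hg, card_centralizer_conj] at h
  exact h rfl

/-- An involution centralised by an element of order 3 but not by a group of order 9 in `G₀` is
not fused to a transposition. -/
theorem not_fused_q1 {σ : P8} (h3 : 3 ∣ Nat.card (Subgroup.centralizer ({σ} : Set P8)))
    (h9 : ¬ 9 ∣ Nat.card (Subgroup.centralizer ({σ} : Set P8))) :
    ¬ IsConj (S.Φ q1) (S.Φ σ) := by
  intro hc
  have : Fact (Nat.Prime 3) := ⟨Nat.prime_three⟩
  obtain ⟨g, hg⟩ := isConj_iff.1 hc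
  have hcard : Nat.card (Subgroup.centralizer ({S.Φ σ} : Set G)) = 1440 := by
    rw [← hg, card_centralizer_conj, S.card_q1]
  obtain ⟨w, hw⟩ := exists_prime_orderOf_dvd_card' 3 h3
  set C := Subgroup.centralizer ({S.Φ σ} : Set G)
  have hwC : S.Φ w ∈ C := S.map_le σ ⟨w, w.2, rfl⟩
  have hwo : orderOf (S.Φ (w : P8)) = 3 := by
    rw [orderOf_injective S.Φ S.inj, Subgroup.orderOf_coe, hw]
  let wC : C := ⟨S.Φ w, hwC⟩
  have hp : IsPGroup 3 (Subgroup.zpowers wC) := IsPGroup.of_card (n := 1) (by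
    rw [Nat.card_zpowers, pow_one, ← Subgroup.orderOf_coe]; exact hwo)
  obtain ⟨T, hT⟩ := hp.exists_le_sylow
  have hTc : Nat.card (T : Subgroup C) = 3 ^ 2 := by
    rw [Sylow.card_eq_multiplicity, hcard]
    congr 1
    rw [show (1440 : ℕ) = 3 ^ 2 * 160 by norm_num, Nat.factorization_mul (by norm_num) (by norm_num),
      Finsupp.add_apply, Nat.Prime.factorization_pow Nat.prime_three,
      Nat.factorization_eq_zero_of_not_dvd (show ¬ 3 ∣ 160 by norm_num)]
    simp
  have hle : (T : Subgroup C).map C.subtype ≤ (Subgroup.centralizer ({σ} : Set P8)).map S.Φ := by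
    rintro _ ⟨x, hx, rfl⟩
    have hcm := IsPGroup.commutative_of_card_eq_prime_sq hTc
    have hxw : x * wC = wC * x := congrArg Subtype.val
      (hcm ⟨x, hx⟩ ⟨wC, hT (Subgroup.mem_zpowers wC)⟩)
    have hmem := S.closed_three (by rw [← orderOf_injective S.Φ S.inj]; exact hwo) (x : G)
      (show Commute (x : G) (S.Φ w) from congrArg Subtype.val hxw)
    obtain ⟨τ, hτ⟩ := hmem
    refine ⟨τ, Subgroup.mem_centralizer_singleton_iff.2 (S.inj ?_), hτ⟩
    rw [map_mul, map_mul, hτ]
    exact Subgroup.mem_centralizer_singleton_iff.1 x.2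
  apply h9
  have := Subgroup.card_dvd_of_le hle
  rw [Subgroup.card_map_of_injective C.subtype_injective, hTc, S.card_map] at this
  simpa using this

theorem not_fused : ¬ IsConj (S.Φ q1) (S.Φ q2) ∧ ¬ IsConj (S.Φ q1) (S.Φ q3) ∧
    ¬ IsConj (S.Φ q1) (S.Φ q4) := by
  obtain ⟨-, c2, c3, c4⟩ := cards
  refine ⟨S.not_fused_q1 ?_ ?_, S.not_fused_q1 ?_ ?_, S.not_fused_q1 ?_ ?_⟩ <;>
    simp only [c2, c3, c4] <;> norm_num

theorem isConj_map {σ σ' : P8} (h : IsConj σ σ') : IsConj (S.Φ σ) (S.Φ σ') := by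
  obtain ⟨c, hc⟩ := isConj_iff.1 h
  exact isConj_iff.2 ⟨S.Φ c, by rw [← map_inv, ← map_mul, ← map_mul, hc]⟩

/-- The elements of `G₀` conjugate to a transposition are transpositions. -/
theorem swap_of_fused {σ : P8} (h : IsConj (S.Φ q1) (S.Φ σ)) : IsConj q1 σ := by
  have ho : orderOf σ = 2 := by
    obtain ⟨g, hg⟩ := isConj_iff.1 h
    rw [← orderOf_injective S.Φ S.inj, ← hg, ← MulAut.conj_apply, MulEquiv.orderOf_eq,
      orderOf_injective S.Φ S.inj]
    exact orderOf_eq_prime (by decide +kernel) (by decide +kernel)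
  rcases invol_class ho with c | c | c | c
  · exact c
  · exact absurd (h.trans (S.isConj_map c).symm) S.not_fused.1
  · exact absurd (h.trans (S.isConj_map c).symm) S.not_fused.2.1
  · exact absurd (h.trans (S.isConj_map c).symm) S.not_fused.2.2

theorem fuse_mem {σ σ' : P8} (hσ : S.Closed σ)
    (h : IsConj σ σ' ∨ ¬ IsConj (S.Φ σ) (S.Φ σ')) {g : G}
    (hg : g * S.Φ σ * g⁻¹ = S.Φ σ ∨ g * S.Φ σ * g⁻¹ = S.Φ σ') : g ∈ S.G0 := by
  rcases hg with hg | hg
  · exact hσ g (mul_inv_eq_iff_eq_mul.1 hg)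
  · rcases h with h | h
    · obtain ⟨c, hc⟩ := isConj_iff.1 h
      have := hσ ((S.Φ c)⁻¹ * g) (show (S.Φ c)⁻¹ * g * S.Φ σ = S.Φ σ * ((S.Φ c)⁻¹ * g) by
        rw [mul_assoc, mul_inv_eq_iff_eq_mul.1 hg, ← mul_assoc, ← mul_assoc]
        congr 1
        rw [← map_inv, ← map_mul, ← map_mul, ← hc]
        congr 1
        group)
      have := mul_mem (S.mem c) this
      rwa [mul_inv_cancel_left] at this
    · exact absurd (isConj_iff.2 ⟨g, hg⟩) h

/-- The centraliser of the involution `σ` lies in `G₀`: the image of `x` in `C(σ)/⟨σ⟩` is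
isolated, and `O(C(σ)/⟨σ⟩)` is inverted by two involutions. -/
theorem closed_of_isolated (σ x a b : P8) (hσ : σ * σ = 1)
    (hx : σ * x = x * σ) (ha : σ * a = a * σ) (hb : σ * b = b * σ)
    (hx2 : x * x = 1) (ha2 : a * a = 1) (hb2 : b * b = 1) (hx1 : x ≠ 1) (hxσ : x ≠ σ)
    (hfuse : ∀ y : P8, y = x ∨ y = a ∨ y = b ∨ y = a * b → ∀ g : G,
      g * S.Φ y * g⁻¹ = S.Φ y ∨ g * S.Φ y * g⁻¹ = S.Φ (y * σ) → g ∈ S.G0)
    (hiso : ∀ (g : G) (τ : P8), Commute g (S.Φ σ) → S.Φ τ = g * S.Φ x * g⁻¹ →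
      τ * σ = σ * τ → τ = x ∨ τ = x * σ)
    (w v : P8) (hw : σ * w = w * σ) (hv : σ * v = v * σ) (hw3 : w ^ 3 = 1)
    (hvw : v * w * v⁻¹ ≠ 1 ∧ v * w * v⁻¹ ≠ σ ∧ v * w * v⁻¹ ≠ w ∧ v * w * v⁻¹ ≠ w * σ ∧
      v * w * v⁻¹ ≠ w⁻¹ ∧ v * w * v⁻¹ ≠ w⁻¹ * σ)
    (n : ℕ) (hn : Nat.card (Subgroup.centralizer ({σ} : Set P8)) = 2 ^ n * 3) :
    S.Closed σ := by
  classical
  intro g hg
  set t := S.Φ σ with ht
  set M := Subgroup.centralizer ({t} : Set G) with hM
  let tM : M := ⟨t, Subgroup.mem_centralizer_singleton_iff.2 rfl⟩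
  set T := Subgroup.zpowers tM
  have hTn : T.Normal := ⟨fun m hm h => by
    have hc : Commute h m := by
      obtain ⟨k, rfl⟩ := Subgroup.mem_zpowers_iff.1 hm
      exact Commute.zpow_right (Subtype.ext (Subgroup.mem_centralizer_singleton_iff.1 h.2)) k
    rwa [hc.eq, mul_inv_cancel_right]⟩
  let mk : M →* M ⧸ T := QuotientGroup.mk' T
  have htt : t * t = 1 := by rw [ht, ← map_mul, hσ, map_one]
  have heq : ∀ a b : M, mk a = mk b → (a : G) = b ∨ (a : G) = (b : G) * t := by
    intro a b e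
    rw [QuotientGroup.mk'_apply, QuotientGroup.mk'_apply, QuotientGroup.eq] at e
    obtain ⟨k, hk⟩ := Subgroup.mem_zpowers_iff.1 e
    have hk' : t ^ k = (a : G)⁻¹ * b := congrArg Subtype.val hk
    have h1 : t ^ k = 1 ∨ t ^ k = t := by
      obtain ⟨r, hr | hr⟩ := Int.even_or_odd' k
      · left; rw [hr, zpow_mul, zpow_two, htt, one_zpow]
      · right; rw [hr, zpow_add, zpow_mul, zpow_two, htt, one_zpow, one_mul, zpow_one]
    rcases h1 with h1 | h1 <;> rw [h1] at hk'
    · exact Or.inl (inv_mul_eq_one.1 hk'.symm)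
    · right
      rw [eq_inv_mul_iff_mul_eq] at hk'
      rw [← hk', mul_assoc, htt, mul_one]
  -- the part inside `G₀`
  set C8 := Subgroup.centralizer ({σ} : Set P8)
  have hC8 : ∀ τ : C8, S.Φ τ ∈ M := fun τ => S.map_le σ ⟨τ, τ.2, rfl⟩
  let θ : C8 →* M ⧸ T := mk.comp ((S.Φ.comp C8.subtype).codRestrict M hC8)
  have hθ : ∀ (y : P8) (hy : σ * y = y * σ),
      θ ⟨y, Subgroup.mem_centralizer_singleton_iff.2 hy.symm⟩ =
        mk ⟨S.Φ y, hC8 ⟨y, Subgroup.mem_centralizer_singleton_iff.2 hy.symm⟩⟩ :=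
    fun _ _ => rfl
  have hθrange : ∀ m : M, (m : G) ∈ S.G0 → mk m ∈ θ.range := by
    intro m hm
    obtain ⟨τ, hτ⟩ := hm
    have hτσ : τ ∈ C8 := Subgroup.mem_centralizer_singleton_iff.2 (S.inj (by
      rw [map_mul, map_mul, hτ, ← ht]; exact Subgroup.mem_centralizer_singleton_iff.1 m.2))
    exact ⟨⟨τ, hτσ⟩, congrArg mk (Subtype.ext hτ)⟩
  set O := Cfsg.pPrimeCore 2 (M ⧸ T)
  have hOn : O.Normal := HallCore.pPrimeCore_normal 2 _
  have hOodd : Odd (Nat.card O) := ZStarTheorem.odd_card_pPrimeCore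
  -- `O` meets the image of `C₈` trivially
  have hmeet : ∀ q ∈ O, q ∈ θ.range → q = 1 := by
    set R := (O.subgroupOf θ.range)
    have hRn : R.Normal := hOn.subgroupOf _
    intro q hqO hqR
    by_contra hq1
    have hRne : R ≠ ⊥ := fun e => hq1 (by
      have : (⟨q, hqR⟩ : θ.range) ∈ R := hqO
      rw [e, Subgroup.mem_bot] at this
      exact congrArg Subtype.val this)
    have hdvd : Nat.card θ.range ∣ 2 ^ n * 3 := hn ▸ Subgroup.card_range_dvd θ
    have hRodd : Odd (Nat.card R) := by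
      refine hOodd.of_dvd_nat ?_
      rw [← Subgroup.card_map_of_injective θ.range.subtype_injective (K := R)]
      exact Subgroup.card_dvd_of_le (by rintro _ ⟨y, hy, rfl⟩; exact hy)
    have hR3 : Nat.card R = 3 := by
      have h1 : Nat.card R ∣ 3 := by
        refine (Nat.Coprime.pow_right n (Nat.coprime_two_right.2 hRodd)).dvd_of_dvd_mul_left ?_
        exact (Subgroup.card_subgroup_dvd_card R).trans hdvd
      rcases (Nat.dvd_prime Nat.prime_three).1 h1 with h1 | h1
      · exact absurd (Subgroup.card_eq_one.1 h1) hRne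
      · exact h1
    let wr : θ.range := ⟨θ ⟨w, Subgroup.mem_centralizer_singleton_iff.2 hw.symm⟩, _, rfl⟩
    have hwR : wr ∈ R := by
      rw [← QuotientGroup.eq_one_iff]
      have h1 : orderOf (wr : θ.range ⧸ R) ∣ 3 := orderOf_dvd_of_pow_eq_one (by
        rw [← QuotientGroup.mk_pow]
        have : wr ^ 3 = 1 := Subtype.ext (by
          show (θ _) ^ 3 = 1
          rw [← map_pow, ← map_one θ]
          exact congrArg θ (Subtype.ext hw3))
        rw [this]; rfl)
      have h2 : orderOf (wr : θ.range ⧸ R) ∣ Nat.card (θ.range ⧸ R) := orderOf_dvd_natCard _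
      have h3 : ¬ 3 ∣ Nat.card (θ.range ⧸ R) := by
        intro h3
        have h' : Nat.card (θ.range ⧸ R) * 3 ∣ 2 ^ n * 3 := by
          have e := Subgroup.card_eq_card_quotient_mul_card_subgroup R
          rw [hR3] at e
          rwa [← e]
        have := (mul_dvd_mul_right h3 3).trans h'
        have h9 : 3 ∣ 2 ^ n := Nat.dvd_of_mul_dvd_mul_right (by norm_num) this
        exact absurd (Nat.prime_three.dvd_of_dvd_pow h9) (by norm_num)
      rcases (Nat.dvd_prime Nat.prime_three).1 h1 with h | h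
      · exact orderOf_eq_one_iff.1 h
      · exact absurd (h ▸ h2) h3
    let vr : θ.range := ⟨θ ⟨v, Subgroup.mem_centralizer_singleton_iff.2 hv.symm⟩, _, rfl⟩
    have hvwR := hRn.conj_mem wr hwR vr
    -- `R` consists of the powers of `wr`
    have hpow : ∀ y ∈ R, y = 1 ∨ y = wr ∨ y = wr⁻¹ := by
      intro y hy
      by_cases hw1 : wr = 1
      · exfalso
        have h := congrArg Subtype.val hw1
        change θ _ = 1 at h
        rw [← map_one θ] at h
        rcases heq _ _ h with e | e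
        · have : w = 1 := S.inj e
          exact hvw.1 (by rw [this]; simp)
        · change S.Φ w = S.Φ 1 * t at e
          rw [map_one, one_mul] at e
          have : w = σ := S.inj e
          exact hvw.2.1 (by rw [this, ← hv, mul_inv_cancel_right])
      · have hgen : Subgroup.zpowers wr = R := Subgroup.eq_of_le_of_card_ge
          (Subgroup.zpowers_le.2 hwR) (by
            rw [hR3, Nat.card_zpowers, orderOf_eq_prime (Subtype.ext (by
              show (θ _) ^ 3 = 1
              rw [← map_pow, ← map_one θ]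
              exact congrArg θ (Subtype.ext hw3))) hw1])
        rw [← hgen] at hy
        obtain ⟨k, rfl⟩ := Subgroup.mem_zpowers_iff.1 hy
        have hc : wr ^ (3 : ℤ) = 1 := Subtype.ext (by
          show (θ _) ^ (3 : ℤ) = 1
          rw [show (3 : ℤ) = ((3 : ℕ) : ℤ) from rfl, zpow_natCast, ← map_pow, ← map_one θ]
          exact congrArg θ (Subtype.ext hw3))
        have hk : k % 3 = 0 ∨ k % 3 = 1 ∨ k % 3 = 2 := by omega
        have e : wr ^ k = wr ^ (k % 3) := by
          conv_lhs => rw [show k = k % 3 + 3 * (k / 3) by omega, zpow_add, zpow_mul, hc, one_zpow, mul_one]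
        rcases hk with hk | hk | hk <;> rw [e, hk]
        · exact Or.inl (zpow_zero _)
        · exact Or.inr (Or.inl (zpow_one _))
        · refine Or.inr (Or.inr (eq_inv_of_mul_eq_one_left ?_))
          rw [← zpow_add_one]; exact hc
    have hwC : w ∈ C8 := Subgroup.mem_centralizer_singleton_iff.2 hw.symm
    have hvC : v ∈ C8 := Subgroup.mem_centralizer_singleton_iff.2 hv.symm
    have hcase : ∀ u : P8, (hu : u ∈ C8) → ((vr * wr * vr⁻¹ : θ.range) : M ⧸ T) = θ ⟨u, hu⟩ →
        v * w * v⁻¹ = u ∨ v * w * v⁻¹ = u * σ := by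
      intro u hu h
      have h' : θ (⟨v, hvC⟩ * ⟨w, hwC⟩ * ⟨v, hvC⟩⁻¹) = θ ⟨u, hu⟩ := by
        rw [map_mul, map_mul, map_inv]; exact h
      rcases heq _ _ h' with e | e
      · exact Or.inl (S.inj e)
      · right
        refine S.inj ?_
        rw [map_mul S.Φ u σ]
        exact e
    rcases hpow _ hvwR with h | h | h
    · rcases hcase 1 (one_mem _) ((congrArg Subtype.val h).trans (map_one θ).symm) with e | e
      · exact hvw.1 e
      · exact hvw.2.1 (by rwa [one_mul] at e)
    · rcases hcase w hwC (congrArg Subtype.val h) with e | e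
      · exact hvw.2.2.1 e
      · exact hvw.2.2.2.1 e
    · rcases hcase w⁻¹ (inv_mem hwC) ((congrArg Subtype.val h).trans (map_inv θ ⟨w, hwC⟩).symm) with
        e | e
      · exact hvw.2.2.2.2.1 e
      · exact hvw.2.2.2.2.2 e
  -- centralisers in the quotient
  have hcent : ∀ (y : P8) (hy : σ * y = y * σ), (y = x ∨ y = a ∨ y = b ∨ y = a * b) →
      ∀ m : M, Commute (mk m) (θ ⟨y, Subgroup.mem_centralizer_singleton_iff.2 hy.symm⟩) →
        (m : G) ∈ S.G0 := by
    intro y hy hy' m hm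
    refine hfuse y hy' m ?_
    have h : mk (m * ⟨S.Φ y, hC8 ⟨y, Subgroup.mem_centralizer_singleton_iff.2 hy.symm⟩⟩ * m⁻¹) =
        mk ⟨S.Φ y, hC8 ⟨y, Subgroup.mem_centralizer_singleton_iff.2 hy.symm⟩⟩ := by
      rw [map_mul, map_mul, map_inv, ← hθ y hy, hm.eq, mul_inv_cancel_right]
    rcases heq _ _ h with e | e
    · exact Or.inl e
    · exact Or.inr (e.trans (map_mul S.Φ y σ).symm)
  have hfix : ∀ (y : P8) (hy : σ * y = y * σ), (y = x ∨ y = a ∨ y = b ∨ y = a * b) →
      ∀ q ∈ O, Commute q (θ ⟨y, Subgroup.mem_centralizer_singleton_iff.2 hy.symm⟩) → q = 1 := by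
    intro y hy hy' q hq hc
    obtain ⟨m, rfl⟩ := QuotientGroup.mk'_surjective T q
    exact hmeet _ hq (hθrange m (hcent y hy hy' m hc))
  have hab : σ * (a * b) = a * b * σ := by rw [← mul_assoc, ha, mul_assoc, hb, mul_assoc]
  have hθsq : ∀ (y : P8) (hy : σ * y = y * σ), y * y = 1 →
      θ ⟨y, Subgroup.mem_centralizer_singleton_iff.2 hy.symm⟩ *
        θ ⟨y, Subgroup.mem_centralizer_singleton_iff.2 hy.symm⟩ = 1 := by
    intro y hy h2
    rw [← map_mul, ← map_one θ]
    exact congrArg θ (Subtype.ext h2)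
  have hO1 : ∀ q ∈ O, q = 1 := by
    intro q hq
    refine hfix (a * b) hab (Or.inr (Or.inr (Or.inr rfl))) q hq ?_
    have ea := inverts_odd (hθsq a ha ha2) O (hfix a ha (Or.inr (Or.inl rfl)))
    have eb := inverts_odd (hθsq b hb hb2) O (hfix b hb (Or.inr (Or.inr (Or.inl rfl))))
    set A := θ ⟨a, Subgroup.mem_centralizer_singleton_iff.2 ha.symm⟩
    set B := θ ⟨b, Subgroup.mem_centralizer_singleton_iff.2 hb.symm⟩
    have hAB : θ ⟨a * b, Subgroup.mem_centralizer_singleton_iff.2 hab.symm⟩ = A * B := by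
      rw [← map_mul]; rfl
    rw [hAB]
    refine (mul_inv_eq_iff_eq_mul.1 ?_).symm
    rw [show A * B * q * (A * B)⁻¹ = A * (B * q * B⁻¹) * A⁻¹ by group, eb q hq,
      ea _ (inv_mem hq), inv_inv]
  -- the image of `x` is isolated
  set X := θ ⟨x, Subgroup.mem_centralizer_singleton_iff.2 hx.symm⟩ with hX
  have hX2 : orderOf X = 2 := by
    refine orderOf_eq_prime (by rw [pow_two]; exact hθsq x hx hx2) fun e => ?_
    rw [hX, ← map_one θ] at e
    rcases heq _ _ e with e | e
    · exact hx1 (S.inj e)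
    · change S.Φ x = S.Φ 1 * t at e
      rw [map_one, one_mul] at e
      exact hxσ (S.inj e)
  have hXiso : Cfsg.IsIsolatedInvolution X := by
    refine ⟨hX2, fun q hq => ?_⟩
    obtain ⟨m, rfl⟩ := QuotientGroup.mk'_surjective T q
    set xM : M := ⟨S.Φ x, hC8 ⟨x, Subgroup.mem_centralizer_singleton_iff.2 hx.symm⟩⟩
    set j := m * xM * m⁻¹ with hj
    have hjX : mk j = mk m * X * (mk m)⁻¹ := by rw [hj, map_mul, map_mul, map_inv]; rfl
    have hjG : (j : G) ∈ S.G0 := hcent x hx (Or.inl rfl) j (hjX ▸ hq.symm)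
    obtain ⟨τ, hτ⟩ := hjG
    have hτσ : τ * σ = σ * τ := S.inj (by
      rw [map_mul, map_mul, hτ]; exact Subgroup.mem_centralizer_singleton_iff.1 j.2)
    rcases hiso m τ (Subgroup.mem_centralizer_singleton_iff.1 m.2) hτ hτσ with rfl | rfl
    · show mk m * X * (mk m)⁻¹ = X
      rw [← hjX]
      exact congrArg mk (Subtype.ext hτ.symm)
    · show mk m * X * (mk m)⁻¹ = X
      rw [← hjX]
      have : j = xM * tM := Subtype.ext (by rw [← hτ, map_mul]; rfl)
      rw [this, map_mul, show mk tM = 1 from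
        (QuotientGroup.eq_one_iff tM).2 (Subgroup.mem_zpowers _), mul_one]
      rfl
  have hcomm := ZStarTheorem.commutator_mem hXiso (mk ⟨g, Subgroup.mem_centralizer_singleton_iff.2 hg⟩)
  have h1 := hO1 _ hcomm
  exact hcent x hx (Or.inl rfl) ⟨g, Subgroup.mem_centralizer_singleton_iff.2 hg⟩
    (mul_inv_eq_iff_eq_mul.1 (mul_inv_eq_one.1 h1)).symm

theorem pair_table : ∀ p q : Fin 8, p ≠ q → swap p q * q2 = q2 * swap p q →
    (∃ r s : Fin 8, r ≠ s ∧ swap p q * q2 = swap r s) →
    swap p q = q1 ∨ swap p q = q1 * q2 := by decide +kernel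

theorem triple_table : ∀ p q : Fin 8, p ≠ q → swap p q * q3 = q3 * swap p q →
    swap p q = swap 2 7 ∨ swap p q = swap 0 1 ∨ swap p q = swap 3 4 ∨ swap p q = swap 5 6 := by
  decide +kernel

theorem exists_swap {σ : P8} (h : IsConj q1 σ) : ∃ p q : Fin 8, p ≠ q ∧ σ = swap p q := by
  obtain ⟨c, hc⟩ := isConj_iff.1 h
  refine ⟨c 0, c 1, fun e => absurd (c.injective e) (by decide), ?_⟩
  rw [← hc, q1, mul_inv_eq_iff_eq_mul, swap_mul_eq_mul_swap]
  simp

theorem swap_isConj {p q : Fin 8} (h : p ≠ q) : IsConj q1 (swap p q) :=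
  Perm.isConj_swap (by decide) h

theorem conj_of_type {σ σ' : P8} (h : σ.cycleType = σ'.cycleType) : IsConj σ σ' :=
  Perm.isConj_iff_cycleType_eq.2 h

theorem closed_q2 : S.Closed q2 := by
  refine S.closed_of_isolated q2 q1 (swap 2 5) (swap 5 6) (by decide +kernel) (by decide +kernel)
    (by decide +kernel) (by decide +kernel) (by decide +kernel) (by decide +kernel)
    (by decide +kernel) (by decide +kernel) (by decide +kernel) ?_ ?_
    (swap 2 5 * swap 5 6) (swap 2 5 * swap 6 7) (by decide +kernel) (by decide +kernel)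
    (by decide +kernel) (by decide +kernel) 6 (by rw [cards.2.1]; norm_num)
  · intro y hy g hg
    have hc : ∀ {p q : Fin 8}, p ≠ q → S.Closed (swap p q) := fun h =>
      S.closed_of_conj (swap_isConj h) S.closed_q1
    rcases hy with rfl | rfl | rfl | rfl
    · exact S.fuse_mem S.closed_q1 (Or.inl (conj_of_type (by decide +kernel))) hg
    · exact S.fuse_mem (hc (by decide)) (Or.inr fun e => S.not_fused.2.1
        (((S.isConj_map (swap_isConj (by decide))).trans e).trans
          (S.isConj_map (conj_of_type (by decide +kernel))))) hg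
    · exact S.fuse_mem (hc (by decide)) (Or.inr fun e => S.not_fused.2.1
        (((S.isConj_map (swap_isConj (by decide))).trans e).trans
          (S.isConj_map (conj_of_type (by decide +kernel))))) hg
    · refine S.fuse_mem (S.closed_three (orderOf_eq_prime (by decide +kernel) (by decide +kernel)))
        (Or.inr fun e => ?_) hg
      obtain ⟨c, hc'⟩ := isConj_iff.1 e
      have h3 : (swap 2 5 * swap 5 6 : P8) ^ 3 = 1 := by decide +kernel
      have : (swap 2 5 * swap 5 6 * q2 : P8) ^ 3 = 1 := S.inj (by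
        rw [map_pow, ← hc', conj_pow, ← map_pow, h3, map_one]; simp)
      exact absurd this (by decide +kernel)
  · intro g τ hg hτ hcomm
    have hfused : IsConj (S.Φ q1) (S.Φ τ) := isConj_iff.2 ⟨g, hτ.symm⟩
    obtain ⟨p, q, hpq, rfl⟩ := exists_swap (S.swap_of_fused hfused)
    have h2 : IsConj (S.Φ q1) (S.Φ (swap p q * q2)) := by
      refine (S.isConj_map (swap_isConj (show (3 : Fin 8) ≠ 4 by decide))).trans
        (isConj_iff.2 ⟨g, ?_⟩)
      rw [show (swap 3 4 : P8) = q1 * q2 from by decide +kernel, map_mul, map_mul, hτ]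
      calc g * (S.Φ q1 * S.Φ q2) * g⁻¹ = g * S.Φ q1 * g⁻¹ * (g * S.Φ q2 * g⁻¹) := by group
        _ = g * S.Φ q1 * g⁻¹ * S.Φ q2 := by rw [hg.eq, mul_inv_cancel_right]
    exact pair_table p q hpq hcomm (exists_swap (S.swap_of_fused h2))

theorem card_closed {σ : P8} (h : S.Closed σ) : Nat.card (Subgroup.centralizer ({S.Φ σ} : Set G)) =
    Nat.card (Subgroup.centralizer ({σ} : Set P8)) := by
  rw [S.centralizer_eq h, S.card_map]

theorem not_fused_q2_q4 : ¬ IsConj (S.Φ q2) (S.Φ q4) := by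
  refine S.not_fused_of_card ?_
  rw [S.card_closed S.closed_q2, cards.2.1]
  intro e
  have := Subgroup.card_le_of_le (S.map_le q4)
  rw [S.card_map, cards.2.2.2, ← e] at this
  omega

theorem closed_q3 : S.Closed q3 := by
  refine S.closed_of_isolated q3 (swap 2 7) (swap 0 1) (swap 3 4) (by decide +kernel)
    (by decide +kernel) (by decide +kernel) (by decide +kernel) (by decide +kernel)
    (by decide +kernel) (by decide +kernel) (by decide +kernel) (by decide +kernel) ?_ ?_
    (swap 0 3 * swap 3 5 * (swap 1 4 * swap 4 6)) (swap 0 1) (by decide +kernel) (by decide +kernel)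
    (by decide +kernel) (by decide +kernel) 5 (by rw [cards.2.2.1]; norm_num)
  · intro y hy g hg
    have hc : ∀ {p q : Fin 8}, p ≠ q → S.Closed (swap p q) := fun h =>
      S.closed_of_conj (swap_isConj h) S.closed_q1
    rcases hy with rfl | rfl | rfl | rfl
    · exact S.fuse_mem (hc (by decide)) (Or.inr fun e => S.not_fused.2.2
        (((S.isConj_map (swap_isConj (by decide))).trans e).trans
          (S.isConj_map (conj_of_type (by decide +kernel))))) hg
    · exact S.fuse_mem (hc (by decide)) (Or.inr fun e => S.not_fused.1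
        (((S.isConj_map (swap_isConj (by decide))).trans e).trans
          (S.isConj_map (conj_of_type (by decide +kernel))))) hg
    · exact S.fuse_mem (hc (by decide)) (Or.inr fun e => S.not_fused.1
        (((S.isConj_map (swap_isConj (by decide))).trans e).trans
          (S.isConj_map (conj_of_type (by decide +kernel))))) hg
    · refine S.fuse_mem S.closed_q2 (Or.inr fun e => ?_) hg
      exact S.not_fused.1 ((S.isConj_map (conj_of_type
        (show q1.cycleType = (swap 0 1 * swap 3 4 * q3 : P8).cycleType by decide +kernel))).trans e.symm)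
  · intro g τ hg hτ hcomm
    have hfused : IsConj (S.Φ q1) (S.Φ τ) :=
      (S.isConj_map (swap_isConj (by decide))).trans (isConj_iff.2 ⟨g, hτ.symm⟩)
    obtain ⟨p, q, hpq, rfl⟩ := exists_swap (S.swap_of_fused hfused)
    have h4 : IsConj (S.Φ q4) (S.Φ (swap p q * q3)) := by
      refine isConj_iff.2 ⟨g, ?_⟩
      rw [show q4 = swap 2 7 * q3 from by decide +kernel, map_mul, map_mul, hτ]
      calc g * (S.Φ (swap 2 7) * S.Φ q3) * g⁻¹
          = g * S.Φ (swap 2 7) * g⁻¹ * (g * S.Φ q3 * g⁻¹) := by group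
        _ = _ := by rw [hg.eq, mul_inv_cancel_right]
    rcases triple_table p q hpq hcomm with e | e | e | e
    · exact Or.inl e
    all_goals
      exfalso
      rw [e] at h4
      refine S.not_fused_q2_q4 ((S.isConj_map (conj_of_type ?_)).trans h4.symm)
      decide +kernel

theorem not_fused_q2_q3 : ¬ IsConj (S.Φ q2) (S.Φ q3) := by
  refine S.not_fused_of_card ?_
  rw [S.card_closed S.closed_q2, S.card_closed S.closed_q3, cards.2.1, cards.2.2.1]
  norm_num

theorem fixed_point : ∀ p q : Fin 8, ∃ i, (swap 0 1 * swap p q : P8) i = i := by decide +kernel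

theorem q4_mul {σ : P8} (h4 : IsConj q4 σ) (hc : Commute σ q1) : IsConj q3 (q1 * σ) := by
  have hfpf : ∀ i, σ i ≠ i := by
    obtain ⟨c, rfl⟩ := isConj_iff.1 h4
    intro i hi
    have hall : ∀ i, q4 i ≠ i := by decide +kernel
    simp only [Perm.mul_apply] at hi
    exact hall (c⁻¹ i) ((Perm.eq_inv_iff_eq).2 hi)
  have hs : Perm.sign (q1 * σ) = -1 := by
    obtain ⟨c, rfl⟩ := isConj_iff.1 h4
    rw [map_mul, map_mul, map_mul, map_inv, mul_inv_cancel_comm]
    decide +kernel
  have hσ2 : σ * σ = 1 := by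
    obtain ⟨c, rfl⟩ := isConj_iff.1 h4
    rw [show c * q4 * c⁻¹ * (c * q4 * c⁻¹) = c * (q4 * q4) * c⁻¹ by group,
      show q4 * q4 = 1 from by decide +kernel]
    simp
  have ho : orderOf (q1 * σ) = 2 := by
    refine orderOf_eq_prime ?_ fun e => ?_
    · rw [hc.symm.mul_pow, pow_two, pow_two, hσ2, show q1 * q1 = 1 from by decide +kernel, one_mul]
    · rw [e, map_one] at hs; exact absurd hs (by decide)
  have hsg : Perm.sign q2 = 1 ∧ Perm.sign q4 = 1 := by decide +kernel
  rcases invol_class ho with c | c | c | c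
  · exfalso
    obtain ⟨p, q, -, e⟩ := exists_swap c
    obtain ⟨i, hi⟩ := fixed_point p q
    refine hfpf i ?_
    rw [← e, ← mul_assoc] at hi
    simpa [q1] using hi
  · obtain ⟨k, hk⟩ := isConj_iff.1 c
    rw [← hk, map_mul, map_mul, map_inv, mul_inv_cancel_comm, hsg.1] at hs
    exact absurd hs (by decide)
  · exact c
  · obtain ⟨k, hk⟩ := isConj_iff.1 c
    rw [← hk, map_mul, map_mul, map_inv, mul_inv_cancel_comm, hsg.2] at hs
    exact absurd hs (by decide)

/-- The conjugates of a double transposition lie in `G₀`. -/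
theorem conj_q2_mem (g : G) : g * S.Φ q2 * g⁻¹ ∈ S.G0 := by
  by_contra hu
  set x := S.Φ q1 with hxdef
  set u := g * S.Φ q2 * g⁻¹ with hudef
  have hxx : x * x = 1 := by
    rw [hxdef, ← map_mul, show q1 * q1 = 1 from by decide +kernel, map_one]
  have huu : u * u = 1 := by
    rw [hudef, show g * S.Φ q2 * g⁻¹ * (g * S.Φ q2 * g⁻¹) = g * (S.Φ q2 * S.Φ q2) * g⁻¹ by group,
      ← map_mul, show q2 * q2 = 1 from by decide +kernel, map_one]
    simp
  have hconj : IsConj (S.Φ q2) u := isConj_iff.2 ⟨g, rfl⟩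
  rcases Nat.even_or_odd (orderOf (x * u)) with he | ho
  swap
  · obtain ⟨c, -, hc⟩ := IsolatedInv.exists_conj_of_odd hxx huu ho
    exact S.not_fused.1 ((isConj_iff.2 ⟨c, hc⟩).trans hconj.symm)
  obtain ⟨m, hm⟩ := he
  set e := x * u with he'
  set v := e ^ m with hvdef
  have hpos := orderOf_pos e
  have hvv : v * v = 1 := by rw [hvdef, ← pow_add, ← hm, pow_orderOf_eq_one]
  have hv1 : v ≠ 1 := pow_ne_one_of_lt_orderOf (by omega) (by omega)
  have hxv : Commute v x := by
    have := IsolatedInv.conj_mul_pow hxx huu m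
    rw [← he', ← hvdef, inv_eq_of_mul_eq_one_right hvv, mul_inv_eq_iff_eq_mul] at this
    exact this.symm
  have huv : Commute v u := by
    rw [show u = x * e by rw [he', ← mul_assoc, hxx, one_mul]]
    exact hxv.mul_right ((Commute.refl e).pow_left m)
  obtain ⟨σ, hσ⟩ := S.closed_q1 v hxv
  have hσo : orderOf σ = 2 := by
    rw [← orderOf_injective S.Φ S.inj, hσ]
    exact orderOf_eq_prime (by rw [pow_two]; exact hvv) hv1
  have hcl : S.Closed σ → False := fun h => hu (h u (hσ ▸ huv.symm))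
  rcases invol_class hσo with c | c | c | c
  · exact hcl (S.closed_of_conj c S.closed_q1)
  · exact hcl (S.closed_of_conj c S.closed_q2)
  · exact hcl (S.closed_of_conj c S.closed_q3)
  have h3 : IsConj (S.Φ q3) (x * v) := by
    rw [← hσ, hxdef, ← map_mul]
    refine S.isConj_map (q4_mul c (S.inj ?_))
    rw [map_mul, map_mul, hσ]
    exact hxv.eq
  have hdih : ∀ r : ℕ, (e ^ r)⁻¹ * x * e ^ r = x * e ^ (r + r) ∧
      (e ^ r)⁻¹ * u * e ^ r = x * e ^ (r + r + 1) := by
    intro r
    have h1 : x * e ^ r = (e ^ r)⁻¹ * x :=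
      mul_inv_eq_iff_eq_mul.1 (IsolatedInv.conj_mul_pow hxx huu r)
    refine ⟨by rw [pow_add, ← mul_assoc x, h1], ?_⟩
    have h2 : u = x * e := by rw [he', ← mul_assoc, hxx, one_mul]
    rw [h2, ← mul_assoc _ x e, ← h1, mul_assoc, mul_assoc, ← pow_succ', ← pow_add, add_assoc]
  obtain ⟨r, hr | hr⟩ := Nat.even_or_odd' m
  · refine S.not_fused.2.1 ((isConj_iff.2 ⟨(e ^ r)⁻¹, ?_⟩ : IsConj x (x * v)).trans h3.symm)
    rw [inv_inv, (hdih r).1, hvdef, hr, two_mul]
  · refine S.not_fused_q2_q3 ((hconj.trans (isConj_iff.2 ⟨(e ^ r)⁻¹, ?_⟩ : IsConj u (x * v))).trans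
      h3.symm)
    rw [inv_inv, (hdih r).2, hvdef, hr, two_mul]

/-- `G = G₀`. -/
theorem G0_eq_top : S.G0 = ⊤ := by
  set N := Subgroup.normalClosure ({S.Φ q2} : Set G) with hN
  have hNle : N ≤ S.G0 := by
    rw [hN, Subgroup.normalClosure, Subgroup.closure_le]
    intro y hy
    obtain ⟨a, ha, hay⟩ := Group.mem_conjugatesOfSet_iff.1 hy
    rw [Set.mem_singleton_iff] at ha
    subst ha
    obtain ⟨g, rfl⟩ := isConj_iff.1 hay
    exact S.conj_q2_mem g
  have hA : ∀ σ : P8, Perm.sign σ = 1 → S.Φ σ ∈ N := by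
    intro σ hσ
    set R := (N.comap S.Φ).subgroupOf (alternatingGroup (Fin 8))
    haveI : IsSimpleGroup (alternatingGroup (Fin 8)) := alternatingGroup.isSimpleGroup (by simp)
    have hRn : R.Normal := (Subgroup.normalClosure_normal.comap _).subgroupOf _
    have hq : q2 ∈ alternatingGroup (Fin 8) := by
      rw [Perm.mem_alternatingGroup]; decide +kernel
    have htop : R = ⊤ := hRn.eq_bot_or_eq_top.resolve_left fun e => by
      have : (⟨q2, hq⟩ : alternatingGroup (Fin 8)) ∈ R :=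
        Subgroup.subset_normalClosure (Set.mem_singleton _)
      rw [e, Subgroup.mem_bot] at this
      exact absurd (congrArg Subtype.val this) (show ¬ q2 = (1 : P8) by decide +kernel)
    have : (⟨σ, Perm.mem_alternatingGroup.2 hσ⟩ : alternatingGroup (Fin 8)) ∈ R := by
      rw [htop]; exact Subgroup.mem_top _
    exact this
  have hPN : (d.P : Subgroup G) ≤ N := by
    intro y hy
    obtain ⟨i, j, rfl⟩ := (d.memP y).1 hy
    rw [← S.hF]
    refine hA _ ?_
    clear hy
    revert i j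
    decide +kernel
  have : Fact (Nat.Prime 3) := ⟨Nat.prime_three⟩
  haveI : N.Normal := Subgroup.normalClosure_normal
  have hfr := Sylow.normalizer_sup_eq_top (N := N) (d.P.subtype hPN)
  rw [Sylow.coe_subtype, Subgroup.map_subgroupOf_eq_of_le hPN] at hfr
  rw [eq_top_iff, ← hfr, sup_le_iff]
  refine ⟨fun y hy => ?_, hNle⟩
  obtain ⟨a, i, e, f, k, rfl⟩ := d.normalizer_form hy
  exact mul_mem (pow_mem S.s_mem _) (S.F_mem _)

end Sym8

/-- The case `alt = false`: `G` is the symmetric group of degree eight. -/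
theorem Data.caseA {G : Type*} [Group G] [Finite G] (d : Data G) (h : d.alt = false) :
    Nonempty (G ≃* Equiv.Perm (Fin 8)) := by
  obtain ⟨Φ, hinj, hF⟩ := d.exists_sym8 h
  let S : Sym8 d := ⟨h, Φ, hinj, hF⟩
  exact ⟨(MulEquiv.ofBijective Φ ⟨hinj, MonoidHom.range_eq_top.1 S.G0_eq_top⟩).symm⟩

end Cfsg.Agent.Sym8Three96
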