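import Cfsg.Agent.Lib.Sym8ThreeCaseBBase96

/-!
# The exceptional case: the subgroup `(A₅ × A₅).4` absorbs the class of `tau`
-/

set_option autoImplicit false
set_option linter.unusedSectionVars false

namespace Cfsg.Agent.Sym8Three96

open Equiv

/-- `(1 2)(3 4)`, carrying `(0 1)(3 4)` to `(0 2)(3 4)`. -/
def e5 : P5 := swap 1 2 * t5

theorem e5_even : IsEven e5 := by decide +kernel
theorem k5_even : IsEven k5 := by decide +kernel
theorem dd5_even : IsEven dd5 := by decide +kernel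
theorem c5_even_f : IsEven c5 := by decide +kernel

theorem IsEven.mul {a b : P5} (ha : IsEven a) (hb : IsEven b) : IsEven (a * b) := by
  unfold IsEven at *; rw [map_mul, ha, hb, one_mul]

theorem even_or_mul_t5 : ∀ l : P5, IsEven l ∨ IsEven (l * t5) := by decide +kernel

theorem even_t5_conj : ∀ l : P5, IsEven l → IsEven (t5 * l * t5) := by decide +kernel

theorem inV_even_f : ∀ v : P5, InV v → IsEven v := by decide +kernel

theorem inV_sq : ∀ v : P5, InV v → v * v = 1 := by decide +kernel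

theorem even_invol_conj : ∀ b : P5, IsEven b → b * b = 1 → b ≠ 1 →
    ∃ e : P5, IsEven e ∧ e * dd5 * e⁻¹ = b := by decide +kernel

theorem odd_invol_conj : ∀ b : P5, IsEven b → b * t5 * (b * t5) = 1 →
    ∃ e : P5, e * t5 * e⁻¹ = b * t5 := by decide +kernel

theorem inV_t5_invol : ∀ v : P5, InV v → v * (t5 * v * t5) = 1 → v = 1 ∨ v = dd5 := by
  decide +kernel

theorem inV_mul_dd5 : ∀ v : P5, InV v → v ≠ dd5 → InV (v * dd5) ∧ v * dd5 ≠ 1 := by decide +kernel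

theorem f5_conj : ∃ h : P5, h * t5 * h⁻¹ = f5 := ⟨swap 0 3 * swap 1 4, by decide +kernel⟩

theorem even_commute_central : ∀ a : P5, IsEven a → a * c5 = c5 * a → a * k5 = k5 * a → a = 1 := by
  decide +kernel

theorem even_pow_thirty : ∀ b : P5, IsEven b → b ^ 30 = 1 := by decide +kernel

theorem three_cycle_ten : (dd5 * (e5 * dd5 * e5⁻¹)) ^ 10 ≠ 1 ∧
    (dd5 * (e5 * dd5 * e5⁻¹)) ^ 30 = 1 := by decide +kernel

/-- In a dihedral group, a central product `v x` with `v = (x y)^m` is conjugate to `x` or `y`. -/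
theorem dihedral_step {H : Type*} [Group H] {x y : H} (hx : x * x = 1) (hy : y * y = 1) (m : ℕ) :
    ∃ g : H, g * x * g⁻¹ = (x * y) ^ m * x ∨ g * y * g⁻¹ = (x * y) ^ m * x := by
  have hxi : x⁻¹ = x := inv_eq_of_mul_eq_one_left hx
  have hyi : y⁻¹ = y := inv_eq_of_mul_eq_one_left hy
  induction m using Nat.twoStepInduction with
  | zero => exact ⟨1, Or.inl (by simp)⟩
  | one =>
    refine ⟨x, Or.inr ?_⟩
    rw [hxi, pow_one]
  | more m ih _ =>
    obtain ⟨g, h⟩ := ih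
    have key : (x * y) ^ (m + 2) * x = (x * y) * ((x * y) ^ m * x) * (x * y)⁻¹ := by
      show (x * y) ^ (m + 1 + 1) * x = _
      rw [mul_inv_rev, hxi, hyi, pow_succ, pow_succ']
      simp only [mul_assoc]
    refine ⟨x * y * g, ?_⟩
    rcases h with h | h
    · left; rw [key, ← h]; group
    · right; rw [key, ← h]; group

namespace Data

variable {G : Type*} [Group G] (d : Data G)

/-- `(A₅ × A₅).4` inside `G`. -/
def G0 : Subgroup G :=
  Subgroup.closure (d.L '' {l | IsEven l} ∪ d.L' '' {l | IsEven l} ∪ {d.tau, d.s})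

theorem tau_mem_G0 : d.tau ∈ d.G0 := Subgroup.subset_closure (Or.inr (Or.inl rfl))

theorem s_mem_G0 : d.s ∈ d.G0 := Subgroup.subset_closure (Or.inr (Or.inr rfl))

theorem cs_mem_G0 {g : G} (h : g ∈ d.G0) : d.cs g ∈ d.G0 := by
  rw [cs_apply]; exact mul_mem (mul_mem d.s_mem_G0 h) d.s_mem_G0

theorem L_mem_G0 (l : P5) : d.L l ∈ d.G0 := by
  rcases even_or_mul_t5 l with h | h
  · exact Subgroup.subset_closure (Or.inl (Or.inl ⟨l, h, rfl⟩))
  · have h1 : d.L (l * t5) ∈ d.G0 := Subgroup.subset_closure (Or.inl (Or.inl ⟨_, h, rfl⟩))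
    have h2 := mul_mem h1 (inv_mem d.tau_mem_G0)
    rwa [tau_L, ← map_inv, ← map_mul, mul_inv_cancel_right] at h2

theorem L'_mem_G0 (l : P5) : d.L' l ∈ d.G0 := d.cs_mem_G0 (d.L_mem_G0 l)

variable (hB : d.alt = true)
include hB

theorem F_mem_G0 (p : P3 × P5) : d.F p ∈ d.G0 := by
  obtain ⟨a, l⟩ := p
  obtain ⟨i, f, rfl⟩ := p3_form a
  have hz : d.z ∈ d.G0 := d.z_L' ▸ d.L'_mem_G0 c5
  have hi : d.iota ∈ d.G0 := d.iota_L' hB ▸ d.L'_mem_G0 dd5
  rw [F_eq, map_mul, map_pow, map_pow]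
  exact mul_mem (mul_mem (pow_mem hz _) (pow_mem hi _)) (d.L_mem_G0 l)

theorem F'_mem_G0 (p : P3 × P5) : d.F' p ∈ d.G0 := d.cs_mem_G0 (d.F_mem_G0 hB p)

theorem P_le_G0 : (d.P : Subgroup G) ≤ d.G0 := fun g hg => by
  obtain ⟨i, j, rfl⟩ := (d.memP g).1 hg
  exact d.F_mem_G0 hB _

omit hB

theorem cent_conj_mem_G0 {x : G} (hx : ∀ g : G, Commute g x → g ∈ d.G0) {k : G} (hk : k ∈ d.G0)
    (g : G) (hg : Commute g (k * x * k⁻¹)) : g ∈ d.G0 := by
  have h : Commute (k⁻¹ * g * k) x := by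
    have := hg.map (MulAut.conj k⁻¹).toMonoidHom
    simpa [mul_assoc] using this
  have := mul_mem (mul_mem hk (hx _ h)) (inv_mem hk)
  rwa [show k * (k⁻¹ * g * k) * k⁻¹ = g by group] at this

theorem iota_sq_f : d.iota * d.iota = 1 := by
  rw [iota, F_mul, show f3 * f3 = 1 from by decide, mul_one]; exact map_one d.F

variable (hBig : d.IsBig)
include hBig

theorem LL'_mul {a a' b b' : P5} (ha' : IsEven a') (hb : IsEven b) :
    d.L' a * d.L b * (d.L' a' * d.L b') = d.L' (a * a') * d.L (b * b') := by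
  rw [mul_assoc, ← mul_assoc (d.L b), (hBig.1 b a' hb ha').eq, map_mul, map_mul]
  group

theorem LL'_inj {a b : P5} (ha : IsEven a) (hb : IsEven b) (h : d.L' a * d.L b = 1) :
    a = 1 ∧ b = 1 := by
  have hab : d.L' a = (d.L b)⁻¹ := eq_inv_of_mul_eq_one_left h
  have hc : ∀ c : P5, IsEven c → a * c = c * a := fun c hc => by
    apply d.L'_inj
    rw [map_mul, map_mul, hab]
    exact (hBig.1 b c hb hc).inv_left.eq
  have ha1 := even_commute_central a ha (hc _ c5_even_f) (hc _ k5_even)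
  refine ⟨ha1, d.L_inj ?_⟩
  rw [map_one, ← h, ha1, map_one, one_mul]

theorem LL'_invol {a b : P5} (ha : IsEven a) (hb : IsEven b)
    (h : d.L' a * d.L b * (d.L' a * d.L b) = 1) : a * a = 1 ∧ b * b = 1 := by
  rw [d.LL'_mul hBig ha hb] at h
  exact d.LL'_inj hBig (ha.mul ha) (hb.mul hb) h

include hB

/-- An involution `L'(v) L(b)` with `v` in the four group is conjugate in `G0` to one of
`iota`, `F'(f,1)` and `rho`. -/
theorem invol_class {v b : P5} (hv : InV v) (hb : IsEven b) (hb2 : b * b = 1)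
    (hne : ¬ (v = 1 ∧ b = 1)) :
    ∃ k ∈ d.G0, (b = 1 ∧ k * d.iota * k⁻¹ = d.L' v * d.L b) ∨
      (v = 1 ∧ k * d.cs d.iota * k⁻¹ = d.L' v * d.L b) ∨
      (v ≠ 1 ∧ b ≠ 1 ∧ k * d.F (f3, dd5) * k⁻¹ = d.L' v * d.L b) := by
  by_cases hb1 : b = 1
  · obtain ⟨e, -, he⟩ := even_invol_conj v (inV_even_f v hv) (inV_sq v hv) fun h => hne ⟨h, hb1⟩
    refine ⟨d.L' e, d.L'_mem_G0 e, Or.inl ⟨hb1, ?_⟩⟩
    rw [d.iota_L' hB, L'_conj, he, hb1, map_one, mul_one]
  obtain ⟨e, he', he⟩ := even_invol_conj b hb hb2 hb1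
  by_cases hv1 : v = 1
  · refine ⟨d.L e, d.L_mem_G0 e, Or.inr (Or.inl ⟨hv1, ?_⟩)⟩
    rw [d.iota_L' hB, cs_L', L_conj, he, hv1, map_one, one_mul]
  obtain ⟨e', he'', he2⟩ := even_invol_conj v (inV_even_f v hv) (inV_sq v hv) hv1
  refine ⟨d.L' e' * d.L e, mul_mem (d.L'_mem_G0 e') (d.L_mem_G0 e), Or.inr (Or.inr ⟨hv1, hb1, ?_⟩)⟩
  rw [← d.rho_eq, d.iota_L' hB, mul_inv_eq_iff_eq_mul, d.LL'_mul hBig dd5_even he',
    d.LL'_mul hBig he'' hb]
  congr 2
  · rw [← he2]; group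
  · rw [← he]; group

omit hB in
/-- An involution `L'(v) L(b) tau` is conjugate in `G0` to `tau` or `iota tau`. -/
theorem odd_class {v b : P5} (hv : InV v) (hb : IsEven b)
    (h : d.L' v * d.L b * d.tau * (d.L' v * d.L b * d.tau) = 1) :
    ∃ e : P5, (v = 1 ∨ v = dd5) ∧ b * t5 = e * t5 * e⁻¹ ∧ t5 * t5 = 1 := by
  have hve := inV_even_f v hv
  have ht : d.tau * (d.L' v * d.L b) * d.tau = d.L' (t5 * v * t5) * d.L (t5 * b * t5) := by
    have ht2 : d.tau * d.tau = 1 := by rw [← pow_two, ← d.orderOf_tau, pow_orderOf_eq_one]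
    calc d.tau * (d.L' v * d.L b) * d.tau
        = d.tau * d.L' v * (d.tau * d.tau) * d.L b * d.tau := by rw [ht2, mul_one]; group
      _ = (d.tau * d.L' v * d.tau) * (d.tau * d.L b * d.tau) := by group
      _ = _ := by
        conv_lhs => arg 1; rw [tau_L', ← map_mul, ← map_mul]
        conv_lhs => arg 2; rw [tau_L, ← map_mul, ← map_mul]
  have h' : d.L' v * d.L b * (d.tau * (d.L' v * d.L b) * d.tau) = 1 := by
    rw [← h]; group
  rw [ht, d.LL'_mul hBig (even_t5_conj v hve) hb] at h'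
  obtain ⟨h1, h2⟩ := d.LL'_inj hBig (hve.mul (even_t5_conj v hve)) (hb.mul (even_t5_conj b hb)) h'
  obtain ⟨e, he⟩ := odd_invol_conj b hb (by rw [← h2]; group)
  exact ⟨e, inV_t5_invol v hv h1, he.symm, by decide⟩

variable [Finite G]
variable (hT : ∀ g : G, Commute g d.tau → g ∈ Subgroup.normalizer ((d.P : Subgroup G) : Set G))
variable (hI : ∀ g : G, Commute g d.iota →
  ∃ (v b : P5) (e : Fin 2), InV v ∧ IsEven b ∧ d.L' v * d.L b * d.tau ^ (e : ℕ) = g)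
include hT hI

/-- `rho` is not conjugate to `iota`. -/
theorem rho_not_iota (g : G) : g * d.F (f3, dd5) * g⁻¹ ≠ d.iota := by
  intro hg
  have htt : d.tau * d.tau = 1 := by rw [← pow_two, ← d.orderOf_tau, pow_orderOf_eq_one]
  have htρ : Commute d.tau (d.F (f3, dd5)) := d.commute_tau_F t5_dd5
  have hki : Commute (g * d.tau * g⁻¹) d.iota := by
    rw [← hg]
    exact htρ.map (MulAut.conj g).toMonoidHom
  have hksq : g * d.tau * g⁻¹ * (g * d.tau * g⁻¹) = 1 := by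
    rw [show g * d.tau * g⁻¹ * (g * d.tau * g⁻¹) = g * (d.tau * d.tau) * g⁻¹ by group, htt]
    group
  obtain ⟨v, b, e, hv, hb, hk⟩ := hI _ hki
  have h01 : ∀ e : Fin 2, (e : ℕ) = 0 ∨ (e : ℕ) = 1 := by decide
  rcases h01 e with he | he <;> rw [he] at hk
  · rw [pow_zero, mul_one] at hk
    rw [← hk] at hksq
    obtain ⟨-, hb2⟩ := d.LL'_invol hBig (inV_even_f v hv) hb hksq
    have hne : ¬ (v = 1 ∧ b = 1) := by
      rintro ⟨rfl, rfl⟩
      rw [map_one, map_one, one_mul, eq_comm, conj_eq_one_iff] at hk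
      have := d.orderOf_tau
      rw [hk, orderOf_one] at this
      omega
    obtain ⟨k, -, h⟩ := d.invol_class hB hBig hv hb hb2 hne
    rw [hk] at h
    rcases h with ⟨-, h⟩ | ⟨-, h⟩ | ⟨-, -, h⟩
    · refine d.iota_not_tau hB (k⁻¹ * g) ?_
      rw [show k⁻¹ * g * d.tau * (k⁻¹ * g)⁻¹ = k⁻¹ * (g * d.tau * g⁻¹) * k by group, ← h]
      group
    · refine d.iota_not_tau hB (d.s⁻¹ * k⁻¹ * g) ?_
      rw [show d.s⁻¹ * k⁻¹ * g * d.tau * (d.s⁻¹ * k⁻¹ * g)⁻¹ =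
        d.s⁻¹ * k⁻¹ * (g * d.tau * g⁻¹) * k * d.s by group, ← h, ← conj_s]
      group
    · refine d.rho_not_tau hT hB (k⁻¹ * g) ?_
      rw [show k⁻¹ * g * d.tau * (k⁻¹ * g)⁻¹ = k⁻¹ * (g * d.tau * g⁻¹) * k by group, ← h]
      group
  · rw [pow_one] at hk
    rw [← hk] at hksq
    obtain ⟨c, hv', hbt, -⟩ := d.odd_class hBig hv hb hksq
    have hk' : g * d.tau * g⁻¹ = d.L' v * (d.L c * d.tau * (d.L c)⁻¹) := by
      rw [← hk, tau_L, L_conj, ← hbt, map_mul, mul_assoc]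
    -- an element of order three commuting with both
    set q := d.L c * d.z' * (d.L c)⁻¹ with hq
    have hqi : Commute q d.iota := by
      rw [hq, z'_L, L_conj]; exact (d.iota_commute_L _).symm
    have hqk : Commute q (g * d.tau * g⁻¹) := by
      rw [hk']
      refine Commute.mul_right ?_ ((d.tau_mem_cent d.z'_mem).symm.map (MulAut.conj (d.L c)).toMonoidHom)
      rcases hv' with rfl | rfl
      · rw [map_one]; exact Commute.one_right _
      · rw [← d.iota_L' hB]; exact hqi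
    set w := g⁻¹ * q * g with hw
    have hwt : Commute w d.tau := by
      have := hqk.map (MulAut.conj g⁻¹).toMonoidHom
      simpa [hw, mul_assoc] using this
    have hwρ : Commute w (d.F (f3, dd5)) := by
      have := hqi.map (MulAut.conj g⁻¹).toMonoidHom
      rw [← hg] at this
      simpa [hw, mul_assoc] using this
    have hw3 : w ^ 3 = 1 := by
      have hz : d.z' ^ 3 = 1 := by rw [← d.orderOf_z', pow_orderOf_eq_one]
      rw [hw, show g⁻¹ * q * g = g⁻¹ * q * g⁻¹⁻¹ by rw [inv_inv], conj_pow, hq, conj_pow, hz]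
      group
    obtain ⟨i, j, hij⟩ := (d.memP w).1 (d.cube_mem_P hT hwt hw3)
    rw [← hij, Commute, SemiconjBy, ← map_mul, ← map_mul] at hwρ
    obtain ⟨e1, e2⟩ := rho_cent_P i j (d.inj hwρ)
    rw [e1, e2, show ((1 : P3), (1 : P5)) = 1 from rfl, map_one] at hij
    have hq1 : q = 1 := by
      rw [show q = g * w * g⁻¹ by rw [hw]; group, ← hij]; group
    rw [hq, conj_eq_one_iff] at hq1
    have := d.orderOf_z'
    rw [hq1, orderOf_one] at this
    omega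

omit hB hBig hT hI in
theorem cent_cs_mem_G0 {x : G} (hx : ∀ g : G, Commute g x → g ∈ d.G0) (g : G)
    (hg : Commute g (d.cs x)) : g ∈ d.G0 := by
  rw [← conj_s] at hg
  exact d.cent_conj_mem_G0 hx d.s_mem_G0 g hg

omit hBig in
theorem cent_tau_le_G0 {g : G} (h : Commute g d.tau) : g ∈ d.G0 := by
  obtain ⟨a, i, e, f, k, rfl⟩ := d.normalizer_form (hT g h)
  exact mul_mem (pow_mem d.s_mem_G0 _) (d.F_mem_G0 hB _)

omit hBig hT in
theorem cent_iota_le_G0 {g : G} (h : Commute g d.iota) : g ∈ d.G0 := by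
  obtain ⟨v, b, e, -, -, rfl⟩ := hI g h
  exact mul_mem (mul_mem (d.L'_mem_G0 v) (d.L_mem_G0 b)) (pow_mem d.tau_mem_G0 _)

omit hBig hT hI in
theorem norm_P_le_G0 {g : G} (h : g ∈ Subgroup.normalizer ((d.P : Subgroup G) : Set G)) :
    g ∈ d.G0 := by
  obtain ⟨a, i, e, f, k, rfl⟩ := d.normalizer_form h
  exact mul_mem (pow_mem d.s_mem_G0 _) (d.F_mem_G0 hB _)

omit hBig hT hI in
/-- Centralisers of elements of order three of `G0` lie in `G0`. -/
theorem cent_three_le_G0 {w : G} (hw : w ∈ d.G0) (ho : orderOf w = 3) {g : G} (h : Commute g w) :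
    g ∈ d.G0 := by
  -- conjugate into `P` inside `G0`
  have hle := d.P_le_G0 hB
  have hp : IsPGroup 3 (Subgroup.zpowers (⟨w, hw⟩ : d.G0)) :=
    IsPGroup.of_card (n := 1) (by rw [Nat.card_zpowers, pow_one, ← Subgroup.orderOf_coe]; exact ho)
  obtain ⟨Q, hQ⟩ := hp.exists_le_sylow
  obtain ⟨k, hk⟩ := MulAction.exists_smul_eq d.G0 Q (d.P.subtype hle)
  have hmem : (k : G) * w * (k : G)⁻¹ ∈ (d.P : Subgroup G) := by
    have h1 : MulAut.conj k • (⟨w, hw⟩ : d.G0) ∈ ((k • Q : Sylow 3 d.G0) : Subgroup d.G0) := by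
      rw [Sylow.coe_subgroup_smul]
      exact Subgroup.smul_mem_pointwise_smul _ _ _ (hQ (Subgroup.mem_zpowers _))
    rw [hk] at h1
    exact h1
  set u := (k : G) * w * (k : G)⁻¹ with hu
  have hcu : Commute ((k : G) * g * (k : G)⁻¹) u := h.map (MulAut.conj (k : G)).toMonoidHom
  have hu1 : u ≠ 1 := by
    rw [hu, Ne, conj_eq_one_iff]
    intro h1
    rw [h1, orderOf_one] at ho
    omega
  suffices (k : G) * g * (k : G)⁻¹ ∈ d.G0 by
    have := mul_mem (mul_mem (inv_mem k.2) this) k.2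
    rwa [show (k : G)⁻¹ * ((k : G) * g * (k : G)⁻¹) * k = g by group] at this
  obtain ⟨i, j, hij⟩ := (d.memP u).1 hmem
  rw [← hij] at hcu hu1
  generalize (k : G) * g * (k : G)⁻¹ = y at hcu ⊢
  have hpow : ∀ n : Fin 3, (n : ℕ) ≠ 0 → (n : ℕ) * (n : ℕ) % 3 = 1 := by decide
  by_cases hi : (i : ℕ) = 0
  · have hj : (j : ℕ) ≠ 0 := fun hj => hu1 (by
      rw [hi, hj, pow_zero, pow_zero]; exact map_one d.F)
    have he : d.F (r3 ^ (i : ℕ), c5 ^ (j : ℕ)) = d.z' ^ (j : ℕ) := by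
      rw [z', ← map_pow, hi]; simp
    rw [he] at hcu
    have hz : Commute y d.z' := by
      have := hcu.pow_right (j : ℕ)
      rwa [← pow_mul, ← pow_mod_orderOf, d.orderOf_z', hpow j hj, pow_one] at this
    obtain ⟨n, l, hn⟩ := d.cent_z' hz
    exact hn ▸ d.F'_mem_G0 hB _
  by_cases hj : (j : ℕ) = 0
  · have he : d.F (r3 ^ (i : ℕ), c5 ^ (j : ℕ)) = d.z ^ (i : ℕ) := by
      rw [z, ← map_pow, hj]; simp
    rw [he] at hcu
    have hz : Commute y d.z := by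
      have := hcu.pow_right (i : ℕ)
      rwa [← pow_mul, ← pow_mod_orderOf, d.orderOf_z, hpow i hi, pow_one] at this
    obtain ⟨n, l, hn⟩ := d.cent_z hz
    exact hn ▸ d.F_mem_G0 hB _
  exact d.norm_P_le_G0 hB (d.cent_le_normalizer hi hj hcu)

/-- An involution of the class of `tau` outside `G0` commutes with some `L'(e dd e⁻¹) L(b)`. -/
theorem exists_commute_rho {g : G} (hy : g * d.tau * g⁻¹ ∉ d.G0) {e : P5} (he : IsEven e) :
    ∃ b : P5, IsEven b ∧ Commute (g * d.tau * g⁻¹) (d.L' (e * dd5 * e⁻¹) * d.L b) := by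
  obtain ⟨y, hydef⟩ : ∃ y, y = g * d.tau * g⁻¹ := ⟨_, rfl⟩
  rw [← hydef] at hy ⊢
  have htt : d.tau * d.tau = 1 := by rw [← pow_two, ← d.orderOf_tau, pow_orderOf_eq_one]
  have hyy : y * y = 1 := by
    rw [hydef, show g * d.tau * g⁻¹ * (g * d.tau * g⁻¹) = g * (d.tau * d.tau) * g⁻¹ by group, htt]
    group
  obtain ⟨x, hxdef⟩ : ∃ x, x = d.L' (e * dd5 * e⁻¹) := ⟨_, rfl⟩
  rw [← hxdef]
  have hxe : x = d.L' e * d.iota * (d.L' e)⁻¹ := by rw [hxdef, d.iota_L' hB, L'_conj]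
  have hxx : x * x = 1 := by
    rw [hxe, show d.L' e * d.iota * (d.L' e)⁻¹ * (d.L' e * d.iota * (d.L' e)⁻¹) =
      d.L' e * (d.iota * d.iota) * (d.L' e)⁻¹ by group, d.iota_sq_f]
    group
  have hxi : x⁻¹ = x := inv_eq_of_mul_eq_one_left hxx
  have hyi : y⁻¹ = y := inv_eq_of_mul_eq_one_left hyy
  have hxc : ∀ a : G, Commute a x → a ∈ d.G0 := fun a ha => by
    rw [hxe] at ha
    exact d.cent_conj_mem_G0 (fun b hb => d.cent_iota_le_G0 hB hI hb) (d.L'_mem_G0 e) a ha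
  set n := orderOf (x * y) with hn
  have hn0 : 0 < n := orderOf_pos _
  -- the product has even order
  obtain ⟨m, hm⟩ : 2 ∣ n := by
    by_contra hodd
    obtain ⟨m, hm⟩ : ∃ m, n = 2 * m + 1 := ⟨n / 2, by omega⟩
    have h1 : (x * y) ^ (2 * m) * (x * y) = 1 := by
      rw [← pow_succ, ← hm]; exact pow_orderOf_eq_one _
    have h2 : y * (x * y) ^ m * y⁻¹ = ((x * y) ^ m)⁻¹ := by
      rw [← conj_pow, hyi, ← inv_pow, mul_inv_rev, hxi, hyi, mul_assoc, mul_assoc, hyy, mul_one]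
    have h3 : y * (x * y) ^ m = ((x * y) ^ m)⁻¹ * y := mul_inv_eq_iff_eq_mul.1 h2
    have h4 : ((x * y) ^ m)⁻¹ * y * (x * y) ^ m = x := by
      rw [mul_assoc, h3, ← mul_assoc, ← mul_inv_rev, ← pow_add, ← two_mul,
        inv_eq_of_mul_eq_one_right h1, mul_assoc, hyy, mul_one]
    refine d.iota_not_tau hB ((d.L' e)⁻¹ * ((x * y) ^ m)⁻¹ * g) ?_
    rw [show (d.L' e)⁻¹ * ((x * y) ^ m)⁻¹ * g * d.tau * ((d.L' e)⁻¹ * ((x * y) ^ m)⁻¹ * g)⁻¹ =
      (d.L' e)⁻¹ * (((x * y) ^ m)⁻¹ * y * (x * y) ^ m) * d.L' e by rw [hydef]; group, h4, hxe]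
    group
  have hm0 : 0 < m := by omega
  set v := (x * y) ^ m with hv
  have hv2 : v * v = 1 := by
    rw [hv, ← pow_add, ← two_mul, ← hm]; exact pow_orderOf_eq_one _
  have hv1 : v ≠ 1 := pow_ne_one_of_lt_orderOf hm0.ne' (by omega)
  have hvi : v⁻¹ = v := inv_eq_of_mul_eq_one_left hv2
  have hvx : Commute v x := by
    have h1 : x * v * x⁻¹ = v⁻¹ := by
      rw [hv, ← conj_pow, ← inv_pow, mul_inv_rev, hxi, hyi, mul_assoc, mul_assoc, ← mul_assoc x x,
        hxx, one_mul]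
    rw [hvi, mul_inv_eq_iff_eq_mul] at h1
    exact h1.symm
  have hvy : Commute v y := by
    have h1 : Commute v (x * y) := Commute.pow_self _ m
    have := hvx.mul_right h1
    rwa [← mul_assoc, hxx, one_mul] at this
  have hnot : ¬ ∀ a : G, Commute a v → a ∈ d.G0 := fun h => hy (h y hvy.symm)
  -- its shape
  have hvi' : Commute ((d.L' e)⁻¹ * v * d.L' e) d.iota := by
    have := hvx.map (MulAut.conj (d.L' e)⁻¹).toMonoidHom
    rw [hxe] at this
    simpa [mul_assoc] using this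
  obtain ⟨v', b, f, hv', hb, hvf⟩ := hI _ hvi'
  have hback : v = d.L' e * (d.L' v' * d.L b * d.tau ^ (f : ℕ)) * (d.L' e)⁻¹ := by
    rw [hvf]; group
  have hsq : d.L' v' * d.L b * d.tau ^ (f : ℕ) * (d.L' v' * d.L b * d.tau ^ (f : ℕ)) = 1 := by
    rw [hvf, show (d.L' e)⁻¹ * v * d.L' e * ((d.L' e)⁻¹ * v * d.L' e) =
      (d.L' e)⁻¹ * (v * v) * d.L' e by group, hv2]
    group
  have h01 : ∀ f : Fin 2, (f : ℕ) = 0 ∨ (f : ℕ) = 1 := by decide
  rcases h01 f with hf | hf <;> rw [hf] at hback hsq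
  swap
  · rw [pow_one] at hback hsq
    obtain ⟨c, hv'', hbt, -⟩ := d.odd_class hBig hv' hb hsq
    obtain ⟨h, hh⟩ : ∃ h ∈ d.G0, h * d.tau * h⁻¹ = d.L' v' * d.L b * d.tau := by
      rcases hv'' with rfl | rfl
      · refine ⟨d.L c, d.L_mem_G0 c, ?_⟩
        rw [tau_L, L_conj, ← hbt, map_one, one_mul, map_mul]
      · obtain ⟨q, hq⟩ := f5_conj
        refine ⟨d.L c * d.L' q, mul_mem (d.L_mem_G0 c) (d.L'_mem_G0 q), ?_⟩
        rw [show d.L c * d.L' q * d.tau * (d.L c * d.L' q)⁻¹ =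
          d.L c * (d.L' q * d.tau * (d.L' q)⁻¹) * (d.L c)⁻¹ by group]
        conv_lhs => rw [tau_L', L'_conj, hq, show f5 = dd5 * t5 by decide, map_mul,
          ← d.iota_L' hB, ← tau_L']
        rw [← mul_assoc (d.L c), ← (d.iota_commute_L c).eq, mul_assoc (d.iota), mul_assoc (d.iota),
          tau_L, L_conj, ← hbt, map_mul, d.iota_L' hB, mul_assoc]
    exfalso
    refine hnot fun a ha => ?_
    rw [hback, ← hh.2] at ha
    exact d.cent_conj_mem_G0 (fun a ha =>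
      d.cent_conj_mem_G0 (fun a ha => d.cent_tau_le_G0 hB hT hI ha) hh.1 a ha) (d.L'_mem_G0 e) a ha
  rw [pow_zero, mul_one] at hback hsq
  obtain ⟨-, hb2⟩ := d.LL'_invol hBig (inV_even_f v' hv') hb hsq
  have hne : ¬ (v' = 1 ∧ b = 1) := by
    rintro ⟨rfl, rfl⟩
    exact hv1 (by rw [hback]; simp)
  obtain ⟨k, hk, hcl⟩ := d.invol_class hB hBig hv' hb hb2 hne
  have hci : ∀ a : G, Commute a (k * d.iota * k⁻¹) → a ∈ d.G0 :=
    d.cent_conj_mem_G0 (fun b hb => d.cent_iota_le_G0 hB hI hb) hk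
  have hcs : ∀ a : G, Commute a (k * d.cs d.iota * k⁻¹) → a ∈ d.G0 :=
    d.cent_conj_mem_G0 (d.cent_cs_mem_G0 fun b hb => d.cent_iota_le_G0 hB hI hb) hk
  rcases hcl with ⟨-, h⟩ | ⟨-, h⟩ | ⟨hv'1, hb1, -⟩
  · exact absurd (fun a ha => d.cent_conj_mem_G0 hci (d.L'_mem_G0 e) a (by rwa [h, ← hback])) hnot
  · exact absurd (fun a ha => d.cent_conj_mem_G0 hcs (d.L'_mem_G0 e) a (by rwa [h, ← hback])) hnot
  have hLe : Commute (d.L b) (d.L' e) := hBig.1 b e hb he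
  by_cases hdd : v' = dd5
  · refine ⟨b, hb, ?_⟩
    have e1 : x * d.L b = v := by
      rw [hback, hdd, hxe, ← d.iota_L' hB]
      calc d.L' e * d.iota * (d.L' e)⁻¹ * d.L b
          = d.L' e * d.iota * ((d.L' e)⁻¹ * d.L b) := by group
        _ = d.L' e * d.iota * (d.L b * (d.L' e)⁻¹) := by rw [hLe.inv_right.eq]
        _ = _ := by group
    rw [e1]
    exact hvy.symm
  -- otherwise `v x` is conjugate to `rho`
  exfalso
  obtain ⟨hw, hw1⟩ := inV_mul_dd5 v' hv' hdd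
  obtain ⟨k', -, hcl'⟩ := d.invol_class hB hBig hw hb hb2 fun h => hw1 h.1
  have hρ : k' * d.F (f3, dd5) * k'⁻¹ = d.L' (v' * dd5) * d.L b := by
    rcases hcl' with ⟨h, -⟩ | ⟨h, -⟩ | ⟨-, -, h⟩
    exacts [absurd h hb1, absurd h hw1, h]
  have hvx' : v * x = d.L' e * (d.L' (v' * dd5) * d.L b) * (d.L' e)⁻¹ := by
    rw [hback, hxe, map_mul, ← d.iota_L' hB]
    calc d.L' e * (d.L' v' * d.L b) * (d.L' e)⁻¹ * (d.L' e * d.iota * (d.L' e)⁻¹)
        = d.L' e * d.L' v' * (d.L b * d.iota) * (d.L' e)⁻¹ := by group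
      _ = d.L' e * d.L' v' * (d.iota * d.L b) * (d.L' e)⁻¹ := by rw [(d.iota_commute_L b).eq]
      _ = _ := by group
  obtain ⟨q, hq⟩ := dihedral_step hxx hyy m
  rw [← hv, hvx', ← hρ] at hq
  rcases hq with hq | hq
  · refine d.rho_not_iota hB hBig hT hI ((d.L' e)⁻¹ * q⁻¹ * d.L' e * k') ?_
    rw [show (d.L' e)⁻¹ * q⁻¹ * d.L' e * k' * d.F (f3, dd5) * ((d.L' e)⁻¹ * q⁻¹ * d.L' e * k')⁻¹ =
      (d.L' e)⁻¹ * q⁻¹ * (d.L' e * (k' * d.F (f3, dd5) * k'⁻¹) * (d.L' e)⁻¹) * q * d.L' e by group,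
      ← hq, hxe]
    group
  · refine d.rho_not_tau hT hB (k'⁻¹ * (d.L' e)⁻¹ * q * g) ?_
    rw [show k'⁻¹ * (d.L' e)⁻¹ * q * g * d.tau * (k'⁻¹ * (d.L' e)⁻¹ * q * g)⁻¹ =
      k'⁻¹ * (d.L' e)⁻¹ * (q * y * q⁻¹) * d.L' e * k' by rw [hydef]; group, hq]
    group

/-- The class of `tau` lies in `G0`. -/
theorem conj_tau_mem_G0 (g : G) : g * d.tau * g⁻¹ ∈ d.G0 := by
  by_contra hy
  obtain ⟨b₁, hb₁, h₁⟩ := d.exists_commute_rho hB hBig hT hI hy (e := 1) (by decide +kernel)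
  obtain ⟨b₂, hb₂, h₂⟩ := d.exists_commute_rho hB hBig hT hI hy e5_even
  have he : IsEven (e5 * dd5 * e5⁻¹) := by decide +kernel
  rw [one_mul, inv_one, mul_one] at h₁
  have h := h₁.mul_right h₂
  rw [d.LL'_mul hBig he hb₁] at h
  set c := dd5 * (e5 * dd5 * e5⁻¹) with hc
  set b := b₁ * b₂
  have hb : IsEven b := hb₁.mul hb₂
  have hce : IsEven c := dd5_even.mul he
  have hcomm : Commute (d.L' c) (d.L b) := (hBig.1 b c hb hce).symm
  obtain ⟨hc10, hc30⟩ := three_cycle_ten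
  have hp : ∀ n : ℕ, (d.L' c * d.L b) ^ n = d.L' (c ^ n) * d.L (b ^ n) := fun n => by
    rw [hcomm.mul_pow, map_pow, map_pow]
  have hev : ∀ {l : P5}, IsEven l → ∀ n : ℕ, IsEven (l ^ n) := fun hl n => by
    unfold IsEven at hl ⊢; rw [map_pow, hl, one_pow]
  set w := (d.L' c * d.L b) ^ 10 with hw
  have hw3 : orderOf w = 3 := by
    refine orderOf_eq_prime ?_ ?_
    · rw [hw, ← pow_mul, hp, hc30, even_pow_thirty b hb, map_one, map_one, one_mul]
    · intro h1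
      rw [hw, hp] at h1
      exact hc10 (d.LL'_inj hBig (hev hce 10) (hev hb 10) h1).1
  exact hy (d.cent_three_le_G0 hB (pow_mem (mul_mem (d.L'_mem_G0 _) (d.L_mem_G0 _)) _) hw3
    (h.pow_right 10))

end Data

end Cfsg.Agent.Sym8Three96
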