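import Cfsg.Prelude.Def_Local
import Cfsg.Agent.Lib.Sym8ThreeFinal96A
import Cfsg.Agent.Lib.ComponentsFitting

/-!
# The exceptional case: `G = (A₅ × A₅).4`
-/

set_option autoImplicit false
set_option linter.unusedSectionVars false
set_option linter.style.haveILetI false

namespace Cfsg.Agent.Sym8Three96

open Equiv

theorem even_noncentral : ∀ a : P5, IsEven a → a ≠ 1 →
    ∃ c : P5, IsEven c ∧ a * c * a⁻¹ * c⁻¹ ≠ 1 := by
  intro a ha ha1
  by_contra! h
  have comm : ∀ c, IsEven c → a * c = c * a := fun c hc => by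
    have := h c hc
    rwa [mul_inv_eq_one, mul_inv_eq_iff_eq_mul] at this
  exact ha1 (even_commute_central a ha (comm _ c5_even_f) (comm _ k5_even))

theorem cent_k5_exp : ∀ (j : Fin 3) (e : Fin 2),
    (c5 ^ (j : ℕ) * t5 ^ (e : ℕ)) * k5 = k5 * (c5 ^ (j : ℕ) * t5 ^ (e : ℕ)) → j = 0 ∧ e = 0 := by
  decide +kernel

theorem c5_pow_k5 : ∀ i : Fin 3, c5 ^ (i : ℕ) * k5 = k5 * c5 ^ (i : ℕ) → i = 0 := by decide +kernel

namespace Data

variable {G : Type*} [Group G] (d : Data G) (hBig : d.IsBig)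

/-- `(a, b) ↦ L'(a) L(b)`. -/
def phi : alternatingGroup (Fin 5) × alternatingGroup (Fin 5) →* G :=
  MonoidHom.noncommCoprod (d.L'.comp (alternatingGroup (Fin 5)).subtype)
    (d.L.comp (alternatingGroup (Fin 5)).subtype)
    fun a b => (hBig.1 b a (Equiv.Perm.mem_alternatingGroup.1 b.2)
      (Equiv.Perm.mem_alternatingGroup.1 a.2)).symm

theorem phi_apply (a b : alternatingGroup (Fin 5)) :
    d.phi hBig (a, b) = d.L' a * d.L b := rfl

include hBig in
theorem phi_inj : Function.Injective (d.phi hBig) := by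
  rw [injective_iff_map_eq_one]
  rintro ⟨a, b⟩ h
  rw [phi_apply] at h
  obtain ⟨h1, h2⟩ := d.LL'_inj hBig (Equiv.Perm.mem_alternatingGroup.1 a.2)
    (Equiv.Perm.mem_alternatingGroup.1 b.2) h
  exact Prod.ext (Subtype.ext h1) (Subtype.ext h2)

/-- `A₅ × A₅` inside `G`. -/
def NB : Subgroup G := (d.phi hBig).range

theorem mem_NB {g : G} : g ∈ d.NB hBig ↔ ∃ a b : P5, IsEven a ∧ IsEven b ∧ d.L' a * d.L b = g := by
  constructor
  · rintro ⟨⟨a, b⟩, rfl⟩
    exact ⟨a, b, Equiv.Perm.mem_alternatingGroup.1 a.2, Equiv.Perm.mem_alternatingGroup.1 b.2,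
      (d.phi_apply hBig a b).symm⟩
  · rintro ⟨a, b, ha, hb, rfl⟩
    exact ⟨(⟨a, Equiv.Perm.mem_alternatingGroup.2 ha⟩, ⟨b, Equiv.Perm.mem_alternatingGroup.2 hb⟩),
      rfl⟩

theorem L_mem_NB {b : P5} (hb : IsEven b) : d.L b ∈ d.NB hBig :=
  (d.mem_NB hBig).2 ⟨1, b, map_one _, hb, by rw [map_one, one_mul]⟩

theorem L'_mem_NB {a : P5} (ha : IsEven a) : d.L' a ∈ d.NB hBig :=
  (d.mem_NB hBig).2 ⟨a, 1, ha, map_one _, by rw [map_one, mul_one]⟩

include hBig in
/-- `N` contains no element carrying `z` to `z'`. -/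
theorem not_swap_NB {g : G} (hg : g ∈ d.NB hBig) : g * d.z * g⁻¹ ≠ d.z' := by
  intro h
  obtain ⟨a, b, ha, hb, rfl⟩ := (d.mem_NB hBig).1 hg
  have hb' : Commute (d.L b) d.z := (d.z_commute_L b).symm
  rw [show d.L' a * d.L b * d.z * (d.L' a * d.L b)⁻¹ =
    d.L' a * (d.L b * d.z * (d.L b)⁻¹) * (d.L' a)⁻¹ by group, hb'.eq, mul_inv_cancel_right,
    z_L', L'_conj, z'_L] at h
  have h1 : d.L' (a * c5 * a⁻¹) * d.L c5⁻¹ = 1 := by rw [h, ← map_mul, mul_inv_cancel, map_one]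
  have hae : IsEven (a * c5 * a⁻¹) := by
    unfold IsEven at ha ⊢
    rw [map_mul, map_mul, map_inv, ha, c5_even_f]; rfl
  have := (d.LL'_inj hBig hae (by decide +kernel) h1).2
  exact absurd this (by decide)

theorem tau_not_NB : d.tau ∉ d.NB hBig := by
  intro h
  obtain ⟨a, b, ha, hb, hab⟩ := (d.mem_NB hBig).1 h
  have h1 : d.L' a = d.L (t5 * b⁻¹) := by
    rw [map_mul, map_inv, ← tau_L, ← hab, mul_inv_cancel_right]
  -- `a` commutes with `c`
  have h2 : Commute (d.L' a) (d.L' c5) := by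
    rw [h1, ← z_L']; exact (d.z_commute_L _).symm
  have h3 : a * c5 = c5 * a := d.L'_inj (by rw [map_mul, map_mul]; exact h2)
  obtain ⟨i, e, rfl⟩ := p5_cent_c5 a h3
  have he : e = 0 := by
    have : ∀ (i : Fin 3) (e : Fin 2), IsEven (c5 ^ (i : ℕ) * t5 ^ (e : ℕ)) → e = 0 := by decide +kernel
    exact this i e ha
  subst he
  rw [Fin.val_zero, pow_zero, mul_one, map_pow, ← z_L', z, L_apply, ← map_pow] at h1
  have h4 := congrArg Prod.snd (d.inj h1)
  simp only [Prod.pow_snd, one_pow] at h4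
  have h5 : b = t5 := by rw [eq_comm, mul_inv_eq_one] at h4; exact h4.symm
  rw [h5] at hb
  exact absurd hb (by decide +kernel)

theorem H_normalizes (g : G) (hg : g ∈ d.NB hBig) :
    d.tau * g * d.tau⁻¹ ∈ d.NB hBig ∧ d.s * g * d.s⁻¹ ∈ d.NB hBig := by
  obtain ⟨a, b, ha, hb, rfl⟩ := (d.mem_NB hBig).1 hg
  constructor
  · rw [show d.tau * (d.L' a * d.L b) * d.tau⁻¹ =
      (d.tau * d.L' a * d.tau⁻¹) * (d.tau * d.L b * d.tau⁻¹) by group]
    refine mul_mem ?_ ?_
    · rw [tau_L', L'_conj, show t5⁻¹ = t5 from by decide]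
      exact d.L'_mem_NB hBig (even_t5_conj a ha)
    · rw [tau_L, L_conj, show t5⁻¹ = t5 from by decide]
      exact d.L_mem_NB hBig (even_t5_conj b hb)
  · rw [conj_s, map_mul, cs_L', cs_L]
    exact mul_mem (d.L_mem_NB hBig ha) (d.L'_mem_NB hBig hb)

variable [Finite G]

theorem G0_le_normalizer : d.G0 ≤ Subgroup.normalizer ((d.NB hBig : Subgroup G) : Set G) := by
  have key : ∀ h : G, (∀ g ∈ d.NB hBig, h * g * h⁻¹ ∈ d.NB hBig) →
      h ∈ Subgroup.normalizer ((d.NB hBig : Subgroup G) : Set G) := by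
    intro h hh
    refine Subgroup.mem_normalizer_iff_map_conj_eq.2 (Subgroup.eq_of_le_of_card_ge ?_ ?_)
    · rintro _ ⟨g, hg, rfl⟩; exact hh g hg
    · rw [Subgroup.card_map_of_injective (MulAut.conj h).injective]
  refine (Subgroup.closure_le _).2 ?_
  rintro g ((⟨l, hl, rfl⟩ | ⟨l, hl, rfl⟩) | rfl | rfl)
  · exact Subgroup.le_normalizer (d.L_mem_NB hBig hl)
  · exact Subgroup.le_normalizer (d.L'_mem_NB hBig hl)
  · exact key _ fun g hg => (d.H_normalizes hBig g hg).1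
  · exact key _ fun g hg => (d.H_normalizes hBig g hg).2

theorem NB_simple_step (hn : (d.NB hBig).Normal) (K : Subgroup G) (hK : K.Normal) (hle : K ≤ d.NB hBig) :
    K = ⊥ ∨ K = d.NB hBig := by
  by_cases hbot : K = ⊥
  · exact Or.inl hbot
  refine Or.inr (le_antisymm hle ?_)
  -- `K` meets the first factor
  obtain ⟨k, hk, hk1⟩ := K.bot_or_exists_ne_one.resolve_left hbot
  obtain ⟨a, b, ha, hb, hab⟩ := (d.mem_NB hBig).1 (hle hk)
  have meet : ∀ a b : P5, IsEven a → IsEven b → a ≠ 1 → d.L' a * d.L b ∈ K →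
      ∃ c : P5, IsEven c ∧ c ≠ 1 ∧ d.L' c ∈ K := by
    intro a b ha hb ha1 hm
    obtain ⟨c, hc, hc1⟩ := even_noncentral a ha ha1
    refine ⟨a * c * a⁻¹ * c⁻¹, ?_, hc1, ?_⟩
    · unfold IsEven at ha hc ⊢
      rw [map_mul, map_mul, map_mul, map_inv, map_inv, ha, hc]; rfl
    · have h1 := K.mul_mem hm (hK.conj_mem _ (K.inv_mem hm) (d.L' c))
      rw [show d.L' a * d.L b * (d.L' c * (d.L' a * d.L b)⁻¹ * (d.L' c)⁻¹) =
        d.L' a * (d.L b * d.L' c * (d.L b)⁻¹) * (d.L' a)⁻¹ * (d.L' c)⁻¹ by group,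
        (hBig.1 b c hb hc).eq, mul_inv_cancel_right, L'_conj, ← map_inv, ← map_mul] at h1
      exact h1
  obtain ⟨c, hc, hc1, hcK⟩ : ∃ c : P5, IsEven c ∧ c ≠ 1 ∧ d.L' c ∈ K := by
    by_cases ha1 : a = 1
    · have hb1 : b ≠ 1 := fun h => hk1 (by rw [← hab, ha1, h, map_one, map_one, one_mul])
      refine meet b 1 hb (map_one _) hb1 ?_
      rw [map_one, mul_one, ← d.cs_L, ← conj_s]
      refine hK.conj_mem _ ?_ _
      rwa [← hab, ha1, map_one, one_mul] at hk
    · exact meet a b ha hb ha1 (hab ▸ hk)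
  -- the factor is simple
  let M : Subgroup (alternatingGroup (Fin 5)) :=
    K.comap (d.L'.comp (alternatingGroup (Fin 5)).subtype)
  haveI hMn : M.Normal := hK.comap _
  have hM : M = ⊤ := by
    refine (IsSimpleGroup.eq_bot_or_eq_top_of_normal M hMn).resolve_left fun e => ?_
    have hm : (⟨c, Equiv.Perm.mem_alternatingGroup.2 hc⟩ : alternatingGroup (Fin 5)) ∈ M := hcK
    rw [e, Subgroup.mem_bot] at hm
    exact hc1 (congrArg Subtype.val hm)
  have hL' : ∀ a : P5, IsEven a → d.L' a ∈ K := fun a ha =>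
    hM.ge (Subgroup.mem_top (⟨a, Equiv.Perm.mem_alternatingGroup.2 ha⟩ : alternatingGroup (Fin 5)))
  intro g hg
  obtain ⟨a, b, ha, hb, rfl⟩ := (d.mem_NB hBig).1 hg
  refine K.mul_mem (hL' a ha) ?_
  rw [← d.cs_L', ← conj_s]
  exact hK.conj_mem _ (hL' b hb) _

theorem cent_NB_eq_bot : Subgroup.centralizer ((d.NB hBig : Subgroup G) : Set G) = ⊥ := by
  rw [Subgroup.eq_bot_iff_forall]
  intro g hg
  have hc : ∀ x ∈ d.NB hBig, Commute g x := fun x hx =>
    (Subgroup.mem_centralizer_iff.1 hg x hx).symm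
  obtain ⟨i, j, e, rfl⟩ := d.cent_D_form (d.z_L' ▸ hc _ (d.L'_mem_NB hBig c5_even_f))
    (d.z'_L ▸ hc _ (d.L_mem_NB hBig c5_even_f))
  have h1 := hc _ (d.L_mem_NB hBig k5_even)
  rw [L_apply, Commute, SemiconjBy, ← map_mul, ← map_mul] at h1
  obtain ⟨rfl, rfl⟩ := cent_k5_exp j e (congrArg Prod.snd (d.inj h1))
  have hzi : d.F (r3 ^ (i : ℕ), c5 ^ ((0 : Fin 3) : ℕ) * t5 ^ ((0 : Fin 2) : ℕ)) =
      d.L' (c5 ^ (i : ℕ)) := by
    rw [map_pow, ← z_L', z, ← map_pow]; simp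
  have h2 := hc _ (d.L'_mem_NB hBig k5_even)
  rw [hzi, Commute, SemiconjBy, ← map_mul, ← map_mul] at h2
  rw [hzi, c5_pow_k5 i (d.L'_inj h2), Fin.val_zero, pow_zero, map_one]

theorem genFitting_eq_NB (hn : (d.NB hBig).Normal) :
    Cfsg.generalizedFittingSubgroup G = d.NB hBig := by
  haveI := hn
  have hC := d.cent_NB_eq_bot hBig
  have hdis : ∀ M : Subgroup G, M.Normal → M ⊓ d.NB hBig = ⊥ → M = ⊥ := by
    intro M hM hMN
    rw [← le_bot_iff, ← hC]
    intro m hm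
    rw [Subgroup.mem_centralizer_iff]
    intro x hx
    exact (Subgroup.commute_of_normal_of_disjoint _ _ hM hn (disjoint_iff.2 hMN) m x hm hx).symm.eq
  have hne : d.NB hBig ≠ ⊥ := fun e => by
    have h := d.L_mem_NB hBig c5_even_f
    rw [e, Subgroup.mem_bot] at h
    exact absurd (d.L_inj (h.trans (map_one d.L).symm)) (by decide)
  haveI hFn : (Cfsg.generalizedFittingSubgroup G).Normal := ComponentsFitting.gen_normal
  haveI : Nontrivial G := by
    obtain ⟨x, -, hx⟩ := (d.NB hBig).bot_or_exists_ne_one.resolve_left hne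
    exact ⟨x, 1, hx⟩
  refine le_antisymm ?_ ?_
  · -- the Fitting subgroup is trivial, the components lie in `N`
    have hfit : Cfsg.fittingSubgroup G = ⊥ := by
      haveI : (Cfsg.fittingSubgroup G).Normal := inferInstance
      refine hdis _ inferInstance ?_
      refine (d.NB_simple_step hBig hn _ (Subgroup.normal_inf_normal _ _) inf_le_right).resolve_right
        fun e => ?_
      have hle : d.NB hBig ≤ Cfsg.fittingSubgroup G := e ▸ inf_le_left
      let f : alternatingGroup (Fin 5) →* ↥(Cfsg.fittingSubgroup G) :=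
        (d.L.comp (alternatingGroup (Fin 5)).subtype).codRestrict _ fun a =>
          hle (d.L_mem_NB hBig (Equiv.Perm.mem_alternatingGroup.1 a.2))
      have hf : Function.Injective f := fun a b hab =>
        Subtype.ext (d.L_inj (congrArg Subtype.val hab))
      haveI : Group.IsSolvable (alternatingGroup (Fin 5)) := Group.isSolvable_of_isSolvable_injective hf
      have hcomm := IsSimpleGroup.comm_iff_isSolvable.2 this
      have := congrArg Subtype.val (hcomm
        (⟨c5, Equiv.Perm.mem_alternatingGroup.2 c5_even_f⟩ : alternatingGroup (Fin 5))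
        ⟨k5, Equiv.Perm.mem_alternatingGroup.2 k5_even⟩)
      exact absurd this (by decide +kernel)
    refine sup_le (sSup_le fun L hL => ?_) (hfit ▸ bot_le)
    rcases ComponentsBasic.component_le_or_commute_normal hL (d.NB hBig) with h | h
    · exact h
    · exfalso
      have hLb : L = ⊥ := by
        rw [← le_bot_iff, ← hC]
        exact Subgroup.commutator_eq_bot_iff_le_centralizer.1 h
      subst hLb
      haveI : IsSimpleGroup (↥(⊥ : Subgroup G) ⧸ Subgroup.center ↥(⊥ : Subgroup G)) := hL.2.2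
      exact not_subsingleton (↥(⊥ : Subgroup G) ⧸ Subgroup.center ↥(⊥ : Subgroup G)) inferInstance
  · refine inf_eq_right.1 ((d.NB_simple_step hBig hn _ (Subgroup.normal_inf_normal _ _)
      inf_le_right).resolve_left fun e => ComponentsFitting.gen_ne_bot (hdis _ hFn e))

variable (hB : d.alt = true)
variable (hT : ∀ g : G, Commute g d.tau → g ∈ Subgroup.normalizer ((d.P : Subgroup G) : Set G))
variable (hI : ∀ g : G, Commute g d.iota →
  ∃ (v b : P5) (e : Fin 2), InV v ∧ IsEven b ∧ d.L' v * d.L b * d.tau ^ (e : ℕ) = g)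
include hB hT hI hBig

theorem G0_eq_top : d.G0 = ⊤ := by
  obtain ⟨M, hM⟩ : ∃ M, M = Subgroup.normalClosure ({d.tau} : Set G) := ⟨_, rfl⟩
  have hMn : M.Normal := by rw [hM]; exact Subgroup.normalClosure_normal
  have hMt : d.tau ∈ M := by rw [hM]; exact Subgroup.subset_normalClosure rfl
  have hMle : M ≤ d.G0 := by
    rw [hM]
    refine (Subgroup.closure_le _).2 fun x hx => ?_
    obtain ⟨a, rfl, hax⟩ := Group.mem_conjugatesOfSet_iff.1 hx
    obtain ⟨c, hc⟩ := isConj_iff.1 hax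
    exact hc ▸ d.conj_tau_mem_G0 hB hBig hT hI c
  have key : ∀ (φ : P5 →* G), φ t5 = d.tau → ∀ l, φ l ∈ M := by
    intro φ hφ l
    have : Subgroup.closure {σ : P5 | σ.IsSwap} ≤ M.comap φ := by
      refine (Subgroup.closure_le _).2 fun σ hσ => ?_
      obtain ⟨x, y, hxy, rfl⟩ := hσ
      obtain ⟨c, hc⟩ := isConj_iff.1 (Equiv.Perm.isConj_swap (show (3 : Fin 5) ≠ 4 by decide) hxy)
      show φ (swap x y) ∈ M
      rw [← hc, map_mul, map_mul, map_inv, show swap (3 : Fin 5) 4 = t5 from rfl, hφ]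
      exact hMn.conj_mem _ hMt _
    exact this (by rw [Equiv.Perm.closure_isSwap]; exact Subgroup.mem_top l)
  have hL := key d.L d.tau_L.symm
  have hL' := key d.L' d.tau_L'.symm
  have hP : (d.P : Subgroup G) ≤ M := fun g hg => by
    obtain ⟨i, j, rfl⟩ := (d.memP g).1 hg
    rw [F_eq, map_pow, show d.J r3 = d.z from rfl, z_L']
    exact mul_mem (pow_mem (hL' c5) _) (hL _)
  rw [eq_top_iff]
  intro g _
  have hPG := hP.trans hMle
  have hgP : ((g • d.P : Sylow 3 G) : Subgroup G) ≤ d.G0 := by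
    rw [Sylow.coe_subgroup_smul]
    rintro _ ⟨p, hp, rfl⟩
    exact hMle (hMn.conj_mem _ (hP hp) _)
  obtain ⟨k, hk⟩ := MulAction.exists_smul_eq d.G0 ((g • d.P).subtype hgP) (d.P.subtype hPG)
  have hkey : ∀ p ∈ (d.P : Subgroup G), (k : G) * g * p * ((k : G) * g)⁻¹ ∈ (d.P : Subgroup G) := by
    intro p hp
    have hgp : g * p * g⁻¹ ∈ ((g • d.P : Sylow 3 G) : Subgroup G) := by
      rw [Sylow.coe_subgroup_smul]
      exact Subgroup.smul_mem_pointwise_smul _ (MulAut.conj g) _ hp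
    have h1 : MulAut.conj k • (⟨g * p * g⁻¹, hgP hgp⟩ : d.G0) ∈
        ((k • (g • d.P).subtype hgP : Sylow 3 d.G0) : Subgroup d.G0) := by
      rw [Sylow.coe_subgroup_smul]
      exact Subgroup.smul_mem_pointwise_smul _ _ _ hgp
    rw [hk] at h1
    have h2 : (k : G) * (g * p * g⁻¹) * (k : G)⁻¹ ∈ (d.P : Subgroup G) := h1
    rwa [show (k : G) * g * p * ((k : G) * g)⁻¹ = (k : G) * (g * p * g⁻¹) * (k : G)⁻¹ by group]
  have hkg : (k : G) * g ∈ Subgroup.normalizer ((d.P : Subgroup G) : Set G) := by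
    refine Subgroup.mem_normalizer_iff_map_conj_eq.2 (Subgroup.eq_of_le_of_card_ge ?_ ?_)
    · rintro _ ⟨p, hp, rfl⟩; exact hkey p hp
    · rw [Subgroup.card_map_of_injective (MulAut.conj _).injective]
  have := mul_mem (inv_mem k.2) (d.norm_P_le_G0 hB hkg)
  rwa [inv_mul_cancel_left] at this

theorem caseB_final_aux :
    ∃ N : Subgroup G, N.Normal ∧ Cfsg.generalizedFittingSubgroup G = N ∧
      Nonempty (N ≃* alternatingGroup (Fin 5) × alternatingGroup (Fin 5)) ∧
      (∀ K : Subgroup G, K.Normal → K ≤ N → K = ⊥ ∨ K = N) ∧ N.index = 4 ∧ ∀ g : G, g ^ 2 ∈ N := by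
  have htop := d.G0_eq_top hBig hB hT hI
  have hn : (d.NB hBig).Normal :=
    Subgroup.normalizer_eq_top_iff.1 (top_le_iff.1 (htop.ge.trans (d.G0_le_normalizer hBig)))
  haveI := hn
  let π := QuotientGroup.mk' (d.NB hBig)
  have hπ : ∀ g, π g = 1 ↔ g ∈ d.NB hBig := fun g => QuotientGroup.eq_one_iff g
  have htt : π d.tau * π d.tau = 1 := by
    rw [← map_mul, ← pow_two, ← d.orderOf_tau, pow_orderOf_eq_one, map_one]
  have hss : π d.s * π d.s = 1 := by rw [← map_mul, d.s_sq, map_one]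
  have hts : π d.tau * π d.s = π d.s * π d.tau := by rw [← map_mul, ← map_mul, d.commute_tau_s.eq]
  have hst : π d.s ≠ π d.tau := fun h => by
    rw [← mul_left_inj (π d.tau), htt, ← map_mul, hπ] at h
    refine d.not_swap_NB hBig h ?_
    rw [show d.s * d.tau * d.z * (d.s * d.tau)⁻¹ = d.s * (d.tau * d.z * d.tau⁻¹) * d.s⁻¹ by group,
      (d.tau_mem_cent d.z_mem).eq, mul_inv_cancel_right, conj_s, cs_z]
  let f : Fin 2 × Fin 2 → G ⧸ d.NB hBig := fun q => π d.tau ^ (q.1 : ℕ) * π d.s ^ (q.2 : ℕ)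
  have hmul : ∀ q q', f q * f q' = f (q.1 + q'.1, q.2 + q'.2) := by
    have hp : ∀ (x : G ⧸ d.NB hBig), x * x = 1 → ∀ a b : Fin 2,
        x ^ (a : ℕ) * x ^ (b : ℕ) = x ^ ((a + b : Fin 2) : ℕ) := by
      intro x hx a b
      fin_cases a <;> fin_cases b <;> simp [hx]
    intro q q'
    simp only [f]
    rw [← hp _ htt, ← hp _ hss]
    have : Commute (π d.s ^ (q.2 : ℕ)) (π d.tau ^ (q'.1 : ℕ)) :=
      (show Commute (π d.s) (π d.tau) from hts.symm).pow_pow _ _
    rw [mul_assoc, ← mul_assoc (π d.s ^ (q.2 : ℕ)), this.eq]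
    group
  have hinv : ∀ q, f q * f q = 1 := fun q => by
    rw [hmul]
    have : ∀ a : Fin 2, a + a = 0 := by decide
    simp [this, f]
  have hsurj : Function.Surjective f := by
    intro y
    obtain ⟨g, rfl⟩ := QuotientGroup.mk'_surjective _ y
    have hg : g ∈ d.G0 := htop ▸ Subgroup.mem_top g
    induction hg using Subgroup.closure_induction with
    | mem x hx =>
      rcases hx with (⟨l, hl, rfl⟩ | ⟨l, hl, rfl⟩) | rfl | rfl
      · exact ⟨(0, 0), Eq.trans (by simp [f]) ((hπ _).2 (d.L_mem_NB hBig hl)).symm⟩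
      · exact ⟨(0, 0), Eq.trans (by simp [f]) ((hπ _).2 (d.L'_mem_NB hBig hl)).symm⟩
      · exact ⟨(1, 0), by simp [f, π]⟩
      · exact ⟨(0, 1), by simp [f, π]⟩
    | one => exact ⟨(0, 0), by simp [f]⟩
    | mul x y _ _ ihx ihy =>
      obtain ⟨a, ha⟩ := ihx
      obtain ⟨b, hb⟩ := ihy
      exact ⟨_, ((hmul a b).symm.trans (by rw [ha, hb])).trans (map_mul π x y).symm⟩
    | inv x _ ih =>
      obtain ⟨a, ha⟩ := ih
      exact ⟨a, (eq_inv_of_mul_eq_one_left (hinv a)).trans (by rw [ha]; exact (map_inv π x).symm)⟩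
  have hinj : Function.Injective f := by
    have h0 : ∀ q, f q = 1 → q = (0, 0) := by
      rintro ⟨a, b⟩ h
      fin_cases a <;> fin_cases b <;> simp [f] at h ⊢
      · refine d.not_swap_NB hBig ((hπ _).1 h) ?_
        rw [conj_s, cs_z]
      · exact d.tau_not_NB hBig ((hπ _).1 h)
      · exact hst ((eq_inv_of_mul_eq_one_right h).trans (inv_eq_of_mul_eq_one_left htt))
    intro q q' h
    have h1 := h0 (q.1 + q'.1, q.2 + q'.2) (by rw [← hmul, h, hinv])
    have hF : ∀ a b : Fin 2, a + b = 0 → a = b := by decide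
    exact Prod.ext (hF _ _ (congrArg Prod.fst h1)) (hF _ _ (congrArg Prod.snd h1))
  refine ⟨d.NB hBig, hn, d.genFitting_eq_NB hBig hn,
    ⟨(MonoidHom.ofInjective (d.phi_inj hBig)).symm⟩, d.NB_simple_step hBig hn, ?_, fun g => ?_⟩
  · rw [Subgroup.index, ← Nat.card_eq_of_bijective f ⟨hinj, hsurj⟩]; simp
  · obtain ⟨q, hq⟩ := hsurj (π g)
    rw [← hπ, map_pow, pow_two, ← hq, hinv]

end Data

/-- **The exceptional configuration.** -/
theorem Data.caseB_final {G : Type*} [Group G] (d : Data G) [Finite G] (hB : d.alt = true)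
    (hT : ∀ g : G, Commute g d.tau → g ∈ Subgroup.normalizer ((d.P : Subgroup G) : Set G))
    (hBig : d.IsBig)
    (hI : ∀ g : G, Commute g d.iota →
      ∃ (v b : P5) (e : Fin 2), InV v ∧ IsEven b ∧ d.L' v * d.L b * d.tau ^ (e : ℕ) = g) :
    ∃ N : Subgroup G, N.Normal ∧ Cfsg.generalizedFittingSubgroup G = N ∧
      Nonempty (N ≃* alternatingGroup (Fin 5) × alternatingGroup (Fin 5)) ∧
      (∀ K : Subgroup G, K.Normal → K ≤ N → K = ⊥ ∨ K = N) ∧ N.index = 4 ∧ ∀ g : G, g ^ 2 ∈ N :=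
  d.caseB_final_aux hBig hB hT hI

end Cfsg.Agent.Sym8Three96
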