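import Cfsg.Agent.Lib.Sym8ThreeBase96

/-!
# Producing the normal form from the hypotheses
-/

set_option autoImplicit false

namespace Cfsg.Agent.Sym8Three96

open Equiv

theorem stab_elems : ∀ (a : P3) (i : Fin 3) (e : Fin 2) (f : Fin 2),
    (c5 ^ (i : ℕ) * t5 ^ (e : ℕ) * f5 ^ (f : ℕ)) * c5 *
      (c5 ^ (i : ℕ) * t5 ^ (e : ℕ) * f5 ^ (f : ℕ))⁻¹ ∈ ({c5, c5⁻¹} : Finset P5) ∧
    (a * r3 * a⁻¹ = r3 ∨ a * r3 * a⁻¹ = r3⁻¹) := by decide +kernel

theorem p5_norm_c5 : ∀ q : P5, (∃ v : Fin 3, q * c5 * q⁻¹ = c5 ^ (v : ℕ)) →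
    ∃ (i : Fin 3) (e f : Fin 2), q = c5 ^ (i : ℕ) * t5 ^ (e : ℕ) * f5 ^ (f : ℕ) := by decide +kernel

theorem stab_inj : ∀ (i : Fin 3) (e : Fin 2) (f : Fin 2) (i' : Fin 3) (e' : Fin 2) (f' : Fin 2),
    c5 ^ (i : ℕ) * t5 ^ (e : ℕ) * f5 ^ (f : ℕ) = c5 ^ (i' : ℕ) * t5 ^ (e' : ℕ) * f5 ^ (f' : ℕ) →
      i = i' ∧ e = e' ∧ f = f' := by decide +kernel

theorem f3_flip : ∀ k : Fin 3, (k : ℕ) ≠ 0 → f3 * r3 ^ (k : ℕ) * f3⁻¹ ≠ r3 ^ (k : ℕ) := by decide

theorem c5_flip : ∀ l : Fin 3, (l : ℕ) ≠ 0 → c5 ^ (l : ℕ) ≠ (c5 ^ (l : ℕ))⁻¹ := by decide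

theorem inv_conj_pow : ∀ (j : Fin 3) (b : P5), (j : ℕ) ≠ 0 → b * c5 ^ (j : ℕ) * b⁻¹ = c5 →
    ∃ v : Fin 3, b * c5 * b⁻¹ = c5 ^ (v : ℕ) := by decide +kernel

theorem p3_invol_cent : ∀ p : P3, p * r3 = r3 * p → p * p = 1 → p = 1 := by decide

variable {G : Type*} [Group G] [Finite G]

theorem eq_or_inv_of_mem_zpowers {x g : G} (hx : orderOf x = 3) (hg : g ∈ Subgroup.zpowers x)
    (hg1 : g ≠ 1) : g = x ∨ g = x⁻¹ := by
  obtain ⟨k, rfl⟩ := Subgroup.mem_zpowers_iff.1 hg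
  rw [← zpow_mod_orderOf, hx] at hg1 ⊢
  obtain ⟨h0, h3⟩ : 0 ≤ k % ((3 : ℕ) : ℤ) ∧ k % ((3 : ℕ) : ℤ) < 3 := by omega
  generalize k % ((3 : ℕ) : ℤ) = m at *
  interval_cases m
  · simp at hg1
  · exact Or.inl (zpow_one x)
  · right
    refine eq_inv_of_mul_eq_one_left ?_
    rw [← zpow_add_one, show ((2 : ℤ) + 1) = ((3 : ℕ) : ℤ) from rfl, zpow_natCast, ← hx,
      pow_orderOf_eq_one]

theorem card_cent_conj (g x : G) :
    Nat.card (Subgroup.centralizer ({g * x * g⁻¹} : Set G)) =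
      Nat.card (Subgroup.centralizer ({x} : Set G)) := by
  refine Nat.card_congr ((MulAut.conj g⁻¹).toEquiv.subtypeEquiv (fun a => ?_))
  simp only [Subgroup.mem_centralizer_singleton_iff, MulEquiv.toEquiv_eq_coe, MulEquiv.coe_toEquiv,
    MulAut.conj_apply, inv_inv]
  constructor
  · intro h
    calc g⁻¹ * a * g * x = g⁻¹ * (a * (g * x * g⁻¹)) * g := by group
      _ = g⁻¹ * (g * x * g⁻¹ * a) * g := by rw [h]
      _ = x * (g⁻¹ * a * g) := by group
  · intro h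
    calc a * (g * x * g⁻¹) = g * (g⁻¹ * a * g * x) * g⁻¹ := by group
      _ = g * (x * (g⁻¹ * a * g)) * g⁻¹ := by rw [h]
      _ = g * x * g⁻¹ * a := by group

theorem exists_F {D : Subgroup G} (z : G) (hz : z ∈ D) (hz1 : z ≠ 1)
    (hexp : ∀ a ∈ D, a ^ 3 = 1) (hcard : Nat.card D = 9)
    (hcomm : ∀ a ∈ D, ∀ b ∈ D, a * b = b * a)
    (eL : Subgroup.normalizer (Subgroup.zpowers z : Set G) ≃* P3 × P5) :
    ∃ F : P3 × P5 →* G, Function.Injective F ∧
      (∀ g : G, (g * F (r3, 1) * g⁻¹ = F (r3, 1) ∨ g * F (r3, 1) * g⁻¹ = (F (r3, 1))⁻¹) →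
        ∃ p, F p = g) ∧
      F (r3, 1) = z ∧
      ∀ g : G, g ∈ D ↔ ∃ i j : Fin 3, F (r3 ^ (i : ℕ), c5 ^ (j : ℕ)) = g := by
  classical
  set N := Subgroup.normalizer (Subgroup.zpowers z : Set G) with hN
  have ho : orderOf z = 3 := orderOf_eq_prime (hexp z hz) hz1
  have hmemN : ∀ g : G, (g * z * g⁻¹ = z ∨ g * z * g⁻¹ = z⁻¹) → g ∈ N := by
    intro g hg
    rw [hN, Subgroup.mem_normalizer_iff_map_conj_eq, MonoidHom.map_zpowers]
    rcases hg with h | h
    · simp [h]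
    · simp [h, Subgroup.zpowers_inv]
  let F0 : P3 × P5 →* G := N.subtype.comp eL.symm.toMonoidHom
  have hF0 : Function.Injective F0 := N.subtype_injective.comp eL.symm.injective
  have hN0 : ∀ g ∈ N, ∃ p, F0 p = g := fun g hg => ⟨eL ⟨g, hg⟩, by simp [F0]⟩
  have hzN : z ∈ N := hmemN z (Or.inl (by group))
  obtain ⟨⟨a, b⟩, hab⟩ := hN0 z hzN
  have hab3 : ((a, b) : P3 × P5) ^ 3 = 1 := hF0 (by rw [map_pow, hab, map_one]; exact hexp z hz)
  rw [Prod.pow_mk, Prod.mk_eq_one] at hab3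
  have hb : b = 1 := by
    by_contra hb1
    obtain ⟨h, h1, h2⟩ := p5_no_normal_three b hab3.2 hb1
    have hm : F0 (1, h) ∈ N := by simp [F0]
    rw [hN, Subgroup.mem_normalizer_iff] at hm
    have hc : F0 (1, h) * z * (F0 (1, h))⁻¹ ∈ Subgroup.zpowers z :=
      (hm z).1 (Subgroup.mem_zpowers z)
    rcases eq_or_inv_of_mem_zpowers ho hc (by rw [ne_eq, conj_eq_one_iff]; exact hz1) with e | e
    · rw [← hab, ← map_inv, ← map_mul, ← map_mul] at e
      exact h1 (congrArg Prod.snd (hF0 e))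
    · rw [← hab, ← map_inv, ← map_mul, ← map_mul, ← map_inv] at e
      exact h2 (congrArg Prod.snd (hF0 e))
  subst hb
  have ha1 : a ≠ 1 := fun h => hz1 (by rw [← hab, h]; exact map_one F0)
  obtain ⟨u, hu⟩ : ∃ u : P3, u * r3 * u⁻¹ = a := by
    rcases p3_gen a hab3.1 ha1 with rfl | rfl
    · exact ⟨1, by simp⟩
    · exact ⟨f3, by decide⟩
  let F1 : P3 × P5 →* G :=
    F0.comp ((MulAut.conj u).toMonoidHom.prodMap (MonoidHom.id P5))
  have hF1 : Function.Injective F1 := hF0.comp (fun p q h => by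
    simp only [MonoidHom.prodMap_def, MonoidHom.prod_apply, MonoidHom.coe_comp, MonoidHom.coe_fst,
      MonoidHom.coe_snd, Function.comp_apply, MonoidHom.id_apply, Prod.mk.injEq,
      MulEquiv.coe_toMonoidHom] at h
    exact Prod.ext ((MulAut.conj u).injective h.1) h.2)
  have hN1 : ∀ g ∈ N, ∃ p, F1 p = g := fun g hg => by
    obtain ⟨⟨p, q⟩, rfl⟩ := hN0 g hg
    exact ⟨(u⁻¹ * p * u, q), congrArg F0 (Prod.ext (show u * (u⁻¹ * p * u) * u⁻¹ = p by group) rfl)⟩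
  have hF1z : F1 (r3, 1) = z := by
    rw [← hab]; exact congrArg F0 (Prod.ext hu rfl)
  -- elements of `D`
  have hDform : ∀ g ∈ D, ∃ i : Fin 3, ∃ w : P5, w ^ 3 = 1 ∧ F1 (r3 ^ (i : ℕ), w) = g := by
    intro g hg
    obtain ⟨⟨p, q⟩, hpq⟩ := hN1 g (hmemN g (Or.inl (by rw [hcomm g hg z hz]; group)))
    have h3 : ((p, q) : P3 × P5) ^ 3 = 1 := hF1 (by rw [map_pow, hpq, map_one]; exact hexp g hg)
    rw [Prod.pow_mk, Prod.mk_eq_one] at h3
    have hc : (p, q) * (r3, (1 : P5)) = (r3, 1) * (p, q) := hF1 (by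
      rw [map_mul, map_mul, hpq, hF1z]; exact hcomm g hg z hz)
    simp only [Prod.mk_mul_mk, Prod.mk.injEq] at hc
    rcases p3_three p hc.1 with rfl | rfl | rfl
    · exact ⟨0, q, h3.2, hpq⟩
    · exact ⟨1, q, h3.2, hpq⟩
    · exact ⟨2, q, h3.2, hpq⟩
  obtain ⟨d, hd, i, w, hw3, hdw, hw1⟩ : ∃ d ∈ D, ∃ i : Fin 3, ∃ w : P5, w ^ 3 = 1 ∧
      F1 (r3 ^ (i : ℕ), w) = d ∧ w ≠ 1 := by
    by_contra hne
    push Not at hne
    have hsub : ∀ g ∈ D, g ∈ Set.range (fun i : Fin 3 => F1 (r3 ^ (i : ℕ), 1)) := fun g hg => by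
      obtain ⟨i, w, hw3, hgw⟩ := hDform g hg
      exact ⟨i, by rw [← hgw, hne g hg i w hw3 hgw]⟩
    have hf : Function.Surjective (fun i : {i : Fin 3 // F1 (r3 ^ (i : ℕ), 1) ∈ D} =>
        (⟨_, i.2⟩ : D)) := fun g => by
      obtain ⟨i, hi⟩ := hsub g g.2
      exact ⟨⟨i, by simp only at hi; rw [hi]; exact g.2⟩, Subtype.ext hi⟩
    have := Nat.card_le_card_of_surjective _ hf
    have h3 : Nat.card {i : Fin 3 // F1 (r3 ^ (i : ℕ), 1) ∈ D} ≤ 3 := by
      simpa using Nat.card_le_card_of_injective _ (Subtype.val_injective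
        (p := fun i : Fin 3 => F1 (r3 ^ (i : ℕ), 1) ∈ D))
    omega
  obtain ⟨h, hh⟩ := p5_conj_c5 w hw3 hw1
  let F : P3 × P5 →* G :=
    F1.comp ((MonoidHom.id P3).prodMap (MulAut.conj h⁻¹).toMonoidHom)
  have hF : Function.Injective F := hF1.comp (fun p q e => by
    simp only [MonoidHom.prodMap_def, MonoidHom.prod_apply, MonoidHom.coe_comp, MonoidHom.coe_fst,
      MonoidHom.coe_snd, Function.comp_apply, MonoidHom.id_apply, Prod.mk.injEq,
      MulEquiv.coe_toMonoidHom] at e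
    exact Prod.ext e.1 ((MulAut.conj h⁻¹).injective e.2))
  have hN2 : ∀ g ∈ N, ∃ p, F p = g := fun g hg => by
    obtain ⟨⟨p, q⟩, rfl⟩ := hN1 g hg
    exact ⟨(p, h * q * h⁻¹), congrArg F1 (Prod.ext rfl
      (show h⁻¹ * (h * q * h⁻¹) * h⁻¹⁻¹ = q by group))⟩
  have hFz : F (r3, 1) = z := by
    rw [← hF1z]; exact congrArg F1 (Prod.ext rfl (by simp))
  have hdF : F (r3 ^ (i : ℕ), c5) = d := by
    rw [← hdw]; exact congrArg F1 (Prod.ext rfl (show h⁻¹ * c5 * h⁻¹⁻¹ = w by rw [← hh]; group))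
  refine ⟨F, hF, fun g hg => hN2 g (hmemN g (by rwa [hFz] at hg)), hFz, fun g => ⟨fun hg => ?_, ?_⟩⟩
  · obtain ⟨⟨p, q⟩, hpq⟩ := hN2 g (hmemN g (Or.inl (by rw [hcomm g hg z hz]; group)))
    have h3 : ((p, q) : P3 × P5) ^ 3 = 1 := hF (by rw [map_pow, hpq, map_one]; exact hexp g hg)
    rw [Prod.pow_mk, Prod.mk_eq_one] at h3
    have hc : (p, q) * (r3, (1 : P5)) = (r3, 1) * (p, q) := hF (by
      rw [map_mul, map_mul, hpq, hFz]; exact hcomm g hg z hz)
    have hc' : (p, q) * (r3 ^ (i : ℕ), c5) = (r3 ^ (i : ℕ), c5) * (p, q) := hF (by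
      rw [map_mul, map_mul, hpq, hdF]; exact hcomm g hg d hd)
    simp only [Prod.mk_mul_mk, Prod.mk.injEq] at hc hc'
    obtain ⟨j, rfl⟩ := p5_commute_exp3 q hc'.2 h3.2
    rcases p3_three p hc.1 with rfl | rfl | rfl
    · exact ⟨0, j, hpq⟩
    · exact ⟨1, j, hpq⟩
    · exact ⟨2, j, hpq⟩
  · rintro ⟨i', j', rfl⟩
    have hcF : F (1, c5) ∈ D := by
      have : F (1, c5) = (F (r3, 1) ^ (i : ℕ))⁻¹ * F (r3 ^ (i : ℕ), c5) := by
        rw [eq_inv_mul_iff_mul_eq, ← map_pow, ← map_mul]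
        simp
      rw [this, hFz, hdF]
      exact mul_mem (inv_mem (pow_mem hz _)) hd
    have : F (r3 ^ (i' : ℕ), c5 ^ (j' : ℕ)) = F (r3, 1) ^ (i' : ℕ) * F (1, c5) ^ (j' : ℕ) := by
      rw [← map_pow, ← map_pow, ← map_mul]; simp
    rw [this, hFz]
    exact mul_mem (pow_mem hz _) (pow_mem hcF _)

theorem inverter_conj : ∀ i j : Fin 3, (i : ℕ) ≠ 0 → (j : ℕ) ≠ 0 →
    ∃ (a : P3) (l : P5), (a * r3 ^ (i : ℕ) * a⁻¹ = r3 ∧ l * c5 ^ (j : ℕ) * l⁻¹ = c5) := by
  decide +kernel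

theorem card_cent_ge {F : P3 × P5 →* G} (hF : Function.Injective F) (i : ℕ) :
    120 ≤ Nat.card (Subgroup.centralizer ({F (r3 ^ i, 1)} : Set G)) := by
  let f : P5 → Subgroup.centralizer ({F (r3 ^ i, 1)} : Set G) := fun l => ⟨F (1, l), by
    rw [Subgroup.mem_centralizer_singleton_iff, ← map_mul, ← map_mul]; simp⟩
  refine le_of_eq_of_le ?_ (Nat.card_le_card_of_injective f fun a b h => ?_)
  · rw [Nat.card_eq_fintype_card, Fintype.card_perm, Fintype.card_fin]; rfl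
  · exact congrArg Prod.snd (hF (congrArg Subtype.val h))

theorem cube_ne : ∀ i : Fin 3, (i : ℕ) ≠ 0 → c5 ^ (i : ℕ) = c5 ∨ c5 ^ (i : ℕ) = c5⁻¹ := by decide

theorem r3_ne : ∀ i : Fin 3, (i : ℕ) ≠ 0 → r3 ^ (i : ℕ) = r3 ∨ r3 ^ (i : ℕ) = r3⁻¹ := by decide

theorem exists_data (P : Sylow 3 G) (D : Subgroup G) (hDP : D = P) (y z : G)
    (hgen : Subgroup.closure {y, z} = D) (hcomm : IsMulCommutative D) (hcard : Nat.card D = 9)
    (hexp : ∀ a ∈ D, a ^ 3 = 1) (hN144 : Nat.card (Subgroup.normalizer (D : Set G)) = 144)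
    (hyn : (D.subgroupOf (Subgroup.centralizer ({y} : Set G))).Normal)
    (hycard : Nat.card (Subgroup.centralizer ({y} : Set G)) = 36)
    (hysq : ∀ g ∈ Subgroup.centralizer ({y} : Set G), g ^ 2 ∈ D)
    (eL : Subgroup.normalizer (Subgroup.zpowers z : Set G) ≃* P3 × P5) :
    ∃ d : Data G, (d.P : Subgroup G) = D := by
  classical
  subst hDP
  have hyD : y ∈ (P : Subgroup G) := hgen ▸ Subgroup.subset_closure (by simp)
  have hzD : z ∈ (P : Subgroup G) := hgen ▸ Subgroup.subset_closure (by simp)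
  have hab : ∀ a ∈ (P : Subgroup G), ∀ b ∈ (P : Subgroup G), a * b = b * a := fun a ha b hb =>
    congrArg Subtype.val (hcomm.is_comm.comm ⟨a, ha⟩ ⟨b, hb⟩)
  have hz1 : z ≠ 1 := fun h => by
    have hc : (P : Subgroup G) ≤ Subgroup.zpowers y := by
      rw [← hgen, Subgroup.closure_le]
      rintro x (rfl | hx)
      · exact Subgroup.mem_zpowers x
      · rw [Set.mem_singleton_iff.1 hx, h]; exact one_mem _
    have := Subgroup.card_le_of_le hc
    rw [hcard, Nat.card_zpowers] at this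
    have h3 : orderOf y ≤ 3 := Nat.le_of_dvd (by norm_num) (orderOf_dvd_of_pow_eq_one (hexp y hyD))
    omega
  obtain ⟨F, hF, hrange, hFz, hFD⟩ := exists_F z hzD hz1 hexp hcard hab eL
  obtain ⟨i, j, hy⟩ := (hFD y).1 hyD
  have hj : (j : ℕ) ≠ 0 := fun h => by
    have hc : (P : Subgroup G) ≤ Subgroup.zpowers z := by
      rw [← hgen, Subgroup.closure_le]
      rintro x (rfl | hx)
      · rw [← hy, h, ← hFz, pow_zero,
          show ((r3 ^ (i : ℕ), (1 : P5)) : P3 × P5) = (r3, (1 : P5)) ^ (i : ℕ) by simp, map_pow]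
        exact pow_mem (Subgroup.mem_zpowers _) _
      · rw [Set.mem_singleton_iff.1 hx]; exact Subgroup.mem_zpowers _
    have := Subgroup.card_le_of_le hc
    rw [hcard, Nat.card_zpowers, orderOf_eq_prime (hexp z hzD) hz1] at this
    omega
  set N := Subgroup.normalizer ((P : Subgroup G) : Set G) with hNdef
  set H : Subgroup N := (F.range).subgroupOf N with hH
  have hTN : ∀ (a : P3) (q : Fin 3) (e f : Fin 2),
      F (a, c5 ^ (q : ℕ) * t5 ^ (e : ℕ) * f5 ^ (f : ℕ)) ∈ N := by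
    intro a q e f
    set l := c5 ^ (q : ℕ) * t5 ^ (e : ℕ) * f5 ^ (f : ℕ)
    obtain ⟨hl, ha⟩ := stab_elems a q e f
    have hsub : (P : Subgroup G).map (MulAut.conj (F (a, l))).toMonoidHom ≤ (P : Subgroup G) := by
      rw [Subgroup.map_le_iff_le_comap]
      intro g hg
      obtain ⟨k, m, rfl⟩ := (hFD g).1 hg
      rw [Subgroup.mem_comap, MulEquiv.coe_toMonoidHom, MulAut.conj_apply, ← map_inv, ← map_mul,
        ← map_mul, Prod.inv_mk, Prod.mk_mul_mk, Prod.mk_mul_mk,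
        ← conj_pow, ← conj_pow]
      simp only [Finset.mem_insert, Finset.mem_singleton] at hl
      have hm1 : F (r3, 1) ∈ (P : Subgroup G) := hFz ▸ hzD
      have hm2 : F (1, c5) ∈ (P : Subgroup G) := (hFD _).2 ⟨0, 1, by simp⟩
      have hsplit : ∀ (u : P3) (v : P5), F (u ^ (k : ℕ), v ^ (m : ℕ)) =
          F (u, 1) ^ (k : ℕ) * F (1, v) ^ (m : ℕ) := fun u v => by
        rw [← map_pow, ← map_pow, ← map_mul]; simp
      rw [hsplit]
      refine mul_mem (pow_mem ?_ _) (pow_mem ?_ _)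
      · rcases ha with h | h <;> rw [h]
        · exact hm1
        · rw [show ((r3⁻¹, (1 : P5)) : P3 × P5) = (r3, 1)⁻¹ by simp, map_inv]
          exact inv_mem hm1
      · rcases hl with h | h <;> rw [h]
        · exact hm2
        · rw [show (((1 : P3), c5⁻¹) : P3 × P5) = (1, c5)⁻¹ by simp, map_inv]
          exact inv_mem hm2
    have heq := Subgroup.eq_of_le_of_card_ge hsub
      (le_of_eq (Subgroup.card_map_of_injective (MulAut.conj (F (a, l))).injective).symm)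
    rw [hNdef, Subgroup.mem_normalizer_iff_map_conj_eq]
    exact heq
  have hH72 : 72 ≤ Nat.card H := by
    let f : P3 × (Fin 3 × Fin 2 × Fin 2) → H := fun x =>
      ⟨⟨F (x.1, c5 ^ (x.2.1 : ℕ) * t5 ^ (x.2.2.1 : ℕ) * f5 ^ (x.2.2.2 : ℕ)),
        hTN x.1 x.2.1 x.2.2.1 x.2.2.2⟩, by rw [hH, Subgroup.mem_subgroupOf]; exact ⟨_, rfl⟩⟩
    refine le_of_eq_of_le ?_ (Nat.card_le_card_of_injective f fun a b h => ?_)
    · simp [Nat.card_eq_fintype_card, Fintype.card_perm]; rfl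
    · have h' := hF (congrArg (fun v : H => ((v : N) : G)) h)
      simp only [Prod.mk.injEq] at h'
      obtain ⟨h1, h2, h3⟩ := stab_inj _ _ _ _ _ _ h'.2
      exact Prod.ext h'.1 (Prod.ext h1 (Prod.ext h2 h3))
  have hH72e : Nat.card H = 72 := by
    refine le_antisymm ?_ hH72
    have hex : ∀ g : H, ∃ x : P3 × (Fin 3 × Fin 2 × Fin 2),
        F (x.1, c5 ^ (x.2.1 : ℕ) * t5 ^ (x.2.2.1 : ℕ) * f5 ^ (x.2.2.2 : ℕ)) = ((g : N) : G) := by
      intro g
      obtain ⟨⟨p, q⟩, hp⟩ := Subgroup.mem_subgroupOf.1 g.2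
      have hm : F (1, c5) ∈ (P : Subgroup G) := (hFD _).2 ⟨0, 1, by simp⟩
      have hgn := Subgroup.mem_normalizer_iff.1 (g : N).2
      obtain ⟨u, v, huv⟩ := (hFD _).1 ((hgn _).1 hm)
      rw [← hp, ← map_inv, ← map_mul, ← map_mul] at huv
      obtain ⟨e1, e2, e3, he⟩ := p5_norm_c5 q (by
        have h2 := congrArg Prod.snd (hF huv.symm)
        simp only [Prod.inv_mk, Prod.mk_mul_mk] at h2
        exact ⟨v, h2⟩)
      exact ⟨(p, e1, e2, e3), by simp only; rw [← he, hp]⟩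
    choose x hx using hex
    refine le_of_le_of_eq (Nat.card_le_card_of_injective x fun a b h => ?_) ?_
    · exact Subtype.ext (Subtype.ext ((hx a).symm.trans (h ▸ hx b)))
    · simp [Nat.card_eq_fintype_card, Fintype.card_perm]; rfl
  -- `y` is not in a factor of `D`
  have hi : (i : ℕ) ≠ 0 := by
    intro hi
    rw [hi, pow_zero] at hy
    obtain ⟨g0, hg0⟩ : ∃ g0 : N, g0 ∉ H := by
      by_contra hne
      push Not at hne
      rw [(Subgroup.eq_top_iff' H).2 hne, Subgroup.card_top, hN144] at hH72e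
      omega
    have hidx : H.index = 2 := by
      have hm := H.card_mul_index
      rw [hN144, hH72e] at hm
      omega
    have hzc : ∀ k l : Fin 3, (g0 : G) * z * (g0 : G)⁻¹ = F (r3 ^ (k : ℕ), c5 ^ (l : ℕ)) →
        (k : ℕ) ≠ 0 ∧ (l : ℕ) ≠ 0 := by
      intro k l he
      constructor
      · intro hk
        rw [hk, pow_zero] at he
        by_cases hl : (l : ℕ) = 0
        · rw [hl, pow_zero, show ((1 : P3), (1 : P5)) = (1 : P3 × P5) from rfl, map_one,
            conj_eq_one_iff] at he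
          exact hz1 he
        have h1 := card_cent_conj (g0 : G) z
        have h120 := card_cent_ge hF 1
        rw [pow_one, hFz] at h120
        rw [he] at h1
        have hsame : Subgroup.centralizer ({F (1, c5 ^ (l : ℕ))} : Set G) =
            Subgroup.centralizer ({y} : Set G) := by
          rw [← hy]
          ext x
          rcases cube_ne l hl with e1 | e1 <;> rcases cube_ne j hj with e2 | e2 <;>
            rw [e1, e2] <;>
            simp only [Subgroup.mem_centralizer_singleton_iff,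
              show (((1 : P3), c5⁻¹) : P3 × P5) = (1, c5)⁻¹ from by simp, map_inv]
          · exact (Commute.inv_right_iff (a := x)).symm
          · exact (Commute.inv_right_iff (a := x))
        rw [hsame, hycard] at h1
        omega
      · intro hl
        rw [hl, pow_zero] at he
        refine hg0 (Subgroup.mem_subgroupOf.2 (MonoidHom.mem_range.2 (hrange _ ?_)))
        rw [hFz, he]
        by_cases hk : (k : ℕ) = 0
        · exfalso
          rw [hk, pow_zero, show ((1 : P3), (1 : P5)) = (1 : P3 × P5) from rfl, map_one,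
            conj_eq_one_iff] at he
          exact hz1 he
        rcases r3_ne k hk with h | h <;> rw [h, ← hFz]
        · exact Or.inl rfl
        · exact Or.inr (by rw [← map_inv]; simp)
    obtain ⟨k, l, hkl⟩ := (hFD ((g0 : G) * z * (g0 : G)⁻¹)).1 (by
      exact (Subgroup.mem_normalizer_iff.1 g0.2 z).1 hzD)
    obtain ⟨hk, hl⟩ := hzc k l hkl.symm
    let io : N := ⟨F (f3, 1), by simpa using hTN f3 0 0 0⟩
    have hio : io ∈ H := Subgroup.mem_subgroupOf.2 ⟨_, rfl⟩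
    have h1 : io * g0 ∉ H := fun h => hg0 (by simpa using mul_mem (inv_mem hio) h)
    have h2 : g0⁻¹ * (io * g0) ∈ H :=
      (Subgroup.mul_mem_iff_of_index_two hidx).2 ⟨fun h => absurd (inv_mem_iff.1 h) hg0,
        fun h => absurd h h1⟩
    obtain ⟨⟨p, q⟩, hp⟩ := Subgroup.mem_subgroupOf.1 h2
    simp only [Subgroup.coe_mul, Subgroup.coe_inv] at hp
    have h3 : F (f3, 1) * ((g0 : G) * z * (g0 : G)⁻¹) * (F (f3, 1))⁻¹ =
        (g0 : G) * (F (p, q) * z * (F (p, q))⁻¹) * (g0 : G)⁻¹ := by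
      rw [hp]; group; rfl
    rw [← hFz, ← map_inv, ← map_inv, ← map_mul, ← map_mul, hFz, ← hkl, ← map_mul, ← map_mul] at h3
    simp only [Prod.inv_mk, Prod.mk_mul_mk, one_mul, mul_one, inv_one, mul_inv_cancel] at h3
    rcases p3_conj p with h | h <;> rw [h] at h3
    · rw [hFz, ← hkl] at h3
      have := congrArg Prod.fst (hF h3)
      simp only at this
      exact f3_flip k hk this
    · rw [show ((r3⁻¹, (1 : P5)) : P3 × P5) = (r3, 1)⁻¹ by simp, map_inv, hFz,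
        show (g0 : G) * z⁻¹ * (g0 : G)⁻¹ = ((g0 : G) * z * (g0 : G)⁻¹)⁻¹ by group, ← hkl,
        ← map_inv] at h3
      have := congrArg Prod.snd (hF h3)
      simp only at this
      exact c5_flip l hl this
  -- move `y` to `F (r3, c5)`
  have hy36 : ∀ k l : Fin 3, (k : ℕ) ≠ 0 → (l : ℕ) ≠ 0 →
      Nat.card (Subgroup.centralizer ({F (r3 ^ (k : ℕ), c5 ^ (l : ℕ))} : Set G)) = 36 := by
    intro k l hk hl
    obtain ⟨a, b, ha, hb⟩ := inverter_conj i j hi hj
    obtain ⟨a', b', ha', hb'⟩ := inverter_conj k l hk hl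
    have h1 := card_cent_conj (F (a, b)) y
    have h2 := card_cent_conj (F (a', b')) (F (r3 ^ (k : ℕ), c5 ^ (l : ℕ)))
    rw [← hy, ← map_inv, ← map_mul, ← map_mul, Prod.inv_mk, Prod.mk_mul_mk, Prod.mk_mul_mk,
      ha, hb, hy] at h1
    rw [← map_inv, ← map_mul, ← map_mul, Prod.inv_mk, Prod.mk_mul_mk, Prod.mk_mul_mk,
      ha', hb'] at h2
    rw [← h2, h1, hycard]
  obtain ⟨a, b, ha, hb⟩ := inverter_conj i j hi hj
  set g := F (a, b) with hg
  have hy0 : g * y * g⁻¹ = F (r3, c5) := by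
    rw [hg, ← hy, ← map_inv, ← map_mul, ← map_mul, Prod.inv_mk, Prod.mk_mul_mk, Prod.mk_mul_mk,
      ha, hb]
  have hsqD : ∀ x ∈ Subgroup.centralizer ({F (r3, c5)} : Set G), x ^ 2 ∈ (P : Subgroup G) ∧
      ∀ v ∈ (P : Subgroup G), x * v * x⁻¹ ∈ (P : Subgroup G) := by
    intro x hx
    have hgx : g⁻¹ * x * g ∈ Subgroup.centralizer ({y} : Set G) := by
      rw [Subgroup.mem_centralizer_singleton_iff] at hx ⊢
      calc g⁻¹ * x * g * y = g⁻¹ * (x * (g * y * g⁻¹)) * g := by group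
        _ = g⁻¹ * (g * y * g⁻¹ * x) * g := by rw [hy0, hx]
        _ = y * (g⁻¹ * x * g) := by group
    have hgD : ∀ v ∈ (P : Subgroup G), g * v * g⁻¹ ∈ (P : Subgroup G) ∧
        g⁻¹ * v * g ∈ (P : Subgroup G) := by
      have hgN : g ∈ N := by
        obtain ⟨v, hv⟩ : ∃ v : Fin 3, b * c5 * b⁻¹ = c5 ^ (v : ℕ) := inv_conj_pow j b hj hb
        obtain ⟨q, e, f, hbe⟩ := p5_norm_c5 b ⟨v, hv⟩
        rw [hg, hbe]
        exact hTN a q e f
      intro v hv
      exact ⟨(Subgroup.mem_normalizer_iff.1 hgN v).1 hv,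
        (Subgroup.mem_normalizer_iff''.1 hgN v).1 hv⟩
    refine ⟨?_, fun v hv => ?_⟩
    · have := (hgD _ (hysq _ hgx)).1
      rwa [show g * (g⁻¹ * x * g) ^ 2 * g⁻¹ = x ^ 2 by rw [pow_two, pow_two]; group] at this
    · have hle : (P : Subgroup G) ≤ Subgroup.centralizer ({y} : Set G) := fun w hw =>
        Subgroup.mem_centralizer_singleton_iff.2 (hab w hw y hyD)
      have := (hgD _ ((Subgroup.mem_normalizer_iff.1
        (((Subgroup.normal_subgroupOf_iff_le_normalizer hle).1 hyn) hgx) _).1 (hgD v hv).2)).1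
      rwa [show g * (g⁻¹ * x * g * (g⁻¹ * v * g) * (g⁻¹ * x * g)⁻¹) * g⁻¹ = x * v * x⁻¹ by group]
        at this
  have hy36' : Nat.card (Subgroup.centralizer ({F (r3, c5)} : Set G)) = 36 := by
    simpa using hy36 1 1 (by decide) (by decide)
  obtain ⟨x, hx, hxr⟩ : ∃ x ∈ Subgroup.centralizer ({F (r3, c5)} : Set G),
      ∀ q : Fin 3 × Fin 3 × Fin 2,
        F (r3 ^ (q.1 : ℕ), c5 ^ (q.2.1 : ℕ) * t5 ^ (q.2.2 : ℕ)) ≠ x := by
    by_contra hne
    push Not at hne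
    choose f hf using hne
    have := Nat.card_le_card_of_injective
      (fun x : Subgroup.centralizer ({F (r3, c5)} : Set G) => f x.1 x.2)
      (fun u v h => Subtype.ext ((hf u.1 u.2).symm.trans ((congrArg
        (fun q : Fin 3 × Fin 3 × Fin 2 =>
          F (r3 ^ (q.1 : ℕ), c5 ^ (q.2.1 : ℕ) * t5 ^ (q.2.2 : ℕ))) h).trans (hf v.1 v.2))))
    simp [hy36'] at this
  have hxy : x * F (r3, c5) = F (r3, c5) * x := Subgroup.mem_centralizer_singleton_iff.1 hx
  have hbig : ∀ v ∈ (P : Subgroup G), v ≠ 1 →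
      120 ≤ Nat.card (Subgroup.centralizer ({v} : Set G)) →
      ∃ k : Fin 3, (k : ℕ) ≠ 0 ∧
        (F (r3 ^ (k : ℕ), 1) = v ∨ F (1, c5 ^ (k : ℕ)) = v) := by
    intro v hv hv1 hv120
    obtain ⟨k, l, hkl⟩ := (hFD v).1 hv
    by_cases hk : (k : ℕ) = 0
    · refine ⟨l, fun hl => hv1 ?_, Or.inr (by rw [← hkl, hk, pow_zero])⟩
      rw [← hkl, hk, hl, pow_zero, pow_zero]; exact map_one F
    by_cases hl : (l : ℕ) = 0
    · exact ⟨k, hk, Or.inl (by rw [← hkl, hl, pow_zero])⟩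
    rw [← hkl, hy36 k l hk hl] at hv120
    omega
  have hzc : 120 ≤ Nat.card (Subgroup.centralizer ({z} : Set G)) := by
    simpa [hFz] using card_cent_ge hF 1
  have hxz : x * z * x⁻¹ ∈ (P : Subgroup G) := (hsqD x hx).2 z hzD
  obtain ⟨k, hk, hkz⟩ := hbig _ hxz (by rw [ne_eq, conj_eq_one_iff]; exact hz1)
    (by rw [card_cent_conj]; exact hzc)
  have hmul : ∀ (u u' : P3) (v v' : P5), F (u, v) * F (u', v') = F (u * u', v * v') :=
    fun u u' v v' => by rw [← map_mul]; rfl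
  have hxz' : x * F (1, c5) * x⁻¹ = (x * z * x⁻¹)⁻¹ * F (r3, c5) := by
    have h1 : x * F (r3, c5) * x⁻¹ = F (r3, c5) := by rw [hxy]; group
    have h2 : F (r3, c5) = z * F (1, c5) := by rw [← hFz, hmul]; simp
    calc x * F (1, c5) * x⁻¹ = (x * z * x⁻¹)⁻¹ * (x * (z * F (1, c5)) * x⁻¹) := by group
      _ = _ := by rw [← h2, h1]
  -- `x` exchanges `z` and `F (1, c5)`
  have hxzz : x * z * x⁻¹ = F (1, c5) := by
    rcases hkz with hkz | hkz
    · -- then `x` centralises `D` or moves `y`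
      exfalso
      rcases r3_ne k hk with e | e <;> rw [e] at hkz
      · rw [← hkz, ← map_inv, hmul] at hxz'
        simp only [Prod.inv_mk, inv_mul_cancel, inv_one, one_mul] at hxz'
        rw [hFz] at hkz
        obtain ⟨q, hq⟩ := hrange x (Or.inl (by rw [hFz]; exact hkz.symm))
        have h1 : q * (r3, (1 : P5)) = (r3, 1) * q := hF (by
          rw [map_mul, map_mul, hq, hFz]; exact mul_inv_eq_iff_eq_mul.1 hkz.symm)
        have h2 : q * ((1 : P3), c5) = (1, c5) * q := hF (by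
          rw [map_mul, map_mul, hq]; exact mul_inv_eq_iff_eq_mul.1 hxz')
        obtain ⟨q1, q2⟩ := q
        simp only [Prod.mk_mul_mk, Prod.mk.injEq] at h1 h2
        obtain ⟨u, v, rfl⟩ := p5_cent_c5 q2 h2.2
        rcases p3_three q1 h1.1 with rfl | rfl | rfl
        · exact hxr (0, u, v) hq
        · exact hxr (1, u, v) hq
        · exact hxr (2, u, v) hq
      · rw [show ((r3⁻¹, (1 : P5)) : P3 × P5) = (r3, 1)⁻¹ by simp, map_inv, hFz] at hkz
        obtain ⟨⟨q1, q2⟩, hq⟩ := hrange x (Or.inr (by rw [hFz]; exact hkz.symm))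
        rw [← hq, hmul, hmul] at hxy
        rw [← hq, ← hFz, ← map_inv, ← map_inv, hmul, hmul] at hkz
        have h1 := congrArg Prod.fst (hF hxy)
        have h2 := congrArg Prod.fst (hF hkz)
        simp only [Prod.inv_mk] at h1 h2
        rw [h1] at h2
        simp only [mul_assoc, mul_inv_cancel, mul_one] at h2
        exact absurd h2 (by decide)
    · rcases cube_ne k hk with e | e <;> rw [e] at hkz
      · exact hkz.symm
      · exfalso
        rw [← hkz, ← map_inv, hmul] at hxz'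
        simp only [Prod.inv_mk, inv_inv, inv_one, one_mul] at hxz'
        have h0 := card_cent_conj x (F (1, c5))
        rw [hxz', show r3 = r3 ^ ((1 : Fin 3) : ℕ) by decide,
          show c5 * c5 = c5 ^ ((2 : Fin 3) : ℕ) by decide, hy36 1 2 (by decide) (by decide)] at h0
        -- the centraliser of `F (1, c5)` is large
        have h1 := card_cent_conj x z
        rw [← hkz, show (((1 : P3), c5⁻¹) : P3 × P5) = (1, c5)⁻¹ by simp, map_inv] at h1
        have hsame : Subgroup.centralizer ({(F (1, c5))⁻¹} : Set G) =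
            Subgroup.centralizer ({F (1, c5)} : Set G) := by
          ext v
          simp only [Subgroup.mem_centralizer_singleton_iff]
          exact Commute.inv_right_iff (a := v)
        rw [hsame, ← h0] at h1
        omega
  have hxz'z : x * F (1, c5) * x⁻¹ = z := by
    rw [hxz', hxzz, ← map_inv, hmul, ← hFz]
    simp
  have hx2 : x ^ 2 ∈ (P : Subgroup G) := (hsqD x hx).1
  set s := x ^ 3 with hs
  have hc : ∀ v ∈ (P : Subgroup G), x ^ 2 * v * (x ^ 2)⁻¹ = v := fun v hv => by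
    rw [hab _ hx2 v hv]; group
  have hss : s * s = 1 := by
    rw [hs, ← pow_add, show 3 + 3 = 2 * 3 from rfl, pow_mul]; exact hexp _ hx2
  have hsinv : s⁻¹ = s := inv_eq_of_mul_eq_one_left hss
  have hsv : ∀ v ∈ (P : Subgroup G), x * v * x⁻¹ ∈ (P : Subgroup G) →
      s * v * s = x * v * x⁻¹ := by
    intro v hv _
    calc s * v * s = x * (x ^ 2 * v * (x ^ 2)⁻¹) * x⁻¹ := by
          nth_rewrite 2 [← hsinv]; rw [hs]; group
      _ = x * v * x⁻¹ := by rw [hc v hv]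
  have hcm : F (1, c5) ∈ (P : Subgroup G) := (hFD _).2 ⟨0, 1, by simp⟩
  have hsz : s * F (r3, 1) * s = F (1, c5) := by
    rw [hFz, hsv z hzD hxz, hxzz]
  have hsz' : s * F (1, c5) * s = F (r3, 1) := by
    rw [hFz, hsv _ hcm (hxz'z ▸ hzD), hxz'z]
  -- the image of `iota`
  set w := s * F (f3, 1) * s with hw
  have hcan : ∀ u v : G, (s * u * s) * (s * v * s) = s * (u * v) * s := fun u v => by
    rw [show (s * u * s) * (s * v * s) = s * u * (s * s) * v * s by group, hss]; group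
  obtain ⟨⟨p, q⟩, hpq⟩ := hrange w (Or.inl (by
    have h1 : w * F (r3, 1) = F (r3, 1) * w := by
      rw [hw, ← hsz', hcan, hcan, hmul, hmul]; simp
    rw [h1]; group))
  have hw2 : w * w = 1 := by
    rw [hw, hcan, hmul, show f3 * f3 = 1 by decide, one_mul, show ((1 : P3), (1 : P5)) = 1 from rfl,
      map_one, mul_one, hss]
  have hwz' : w * F (1, c5) = (F (1, c5))⁻¹ * w := by
    have hi : (F (1, c5))⁻¹ = s * (F (r3, 1))⁻¹ * s := by
      rw [← hsz, mul_inv_rev, mul_inv_rev, hsinv]; group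
    rw [hi, hw, ← hsz, hcan, hcan, ← map_inv, hmul, Prod.inv_mk, inv_one, hmul]
    congr 3
    exact Prod.ext (by decide) rfl
  have hwz : w * F (r3, 1) = F (r3, 1) * w := by
    rw [hw, ← hsz', hcan, hcan, hmul, hmul]; simp
  have e1 : (p, q) * (r3, (1 : P5)) = (r3, 1) * (p, q) := hF (by rw [map_mul, map_mul, hpq]; exact hwz)
  have e2 : (p, q) * ((1 : P3), c5) = (1, c5)⁻¹ * (p, q) := hF (by
    rw [map_mul, map_mul, map_inv, hpq]; exact hwz')
  have e3 : (p, q) * (p, q) = ((1 : P3), (1 : P5)) := hF (by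
    rw [map_mul, hpq, hw2]; exact (map_one F).symm)
  simp only [Prod.mk_mul_mk, Prod.inv_mk, Prod.mk.injEq, inv_one, one_mul, mul_one] at e1 e2 e3
  have hp : p = 1 := p3_invol_cent p e1.1 e3.1
  subst hp
  obtain ⟨m, hm⟩ := p5_inverter q (by rw [e2.2]; group) e3.2
  set v := F (1, c5 ^ (m : ℕ)) with hv
  have hvc : ∀ u : P3 × P5, u.2 * c5 = c5 * u.2 → v * F u * v⁻¹ = F u := by
    intro u hu
    obtain ⟨u1, u2⟩ := u
    rw [hv, ← map_inv, hmul, Prod.inv_mk, hmul, inv_one]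
    simp only [one_mul, mul_one]
    rw [show c5 ^ (m : ℕ) * u2 * (c5 ^ (m : ℕ))⁻¹ = u2 from by
      rw [((Commute.pow_right (show Commute u2 c5 from hu) (m : ℕ))).eq.symm]; group]
  refine ⟨⟨P, F, hF, hrange, hFD, v * s * v⁻¹, ?_, ?_, hy36', decide (c5 ^ (m : ℕ) * q *
    (c5 ^ (m : ℕ))⁻¹ = f5 * t5), ?_⟩, rfl⟩
  · rw [show v * s * v⁻¹ * (v * s * v⁻¹) = v * (s * s) * v⁻¹ by group, hss]; group
  · have h0 : v⁻¹ * F (r3, 1) * v = F (r3, 1) := by
      have := hvc (r3, 1) (by simp)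
      nth_rewrite 1 [← this]; group
    rw [show v * s * v⁻¹ * F (r3, 1) * (v * s * v⁻¹) = v * (s * (v⁻¹ * F (r3, 1) * v) * s) * v⁻¹
      by group, h0, hsz]
    exact hvc (1, c5) rfl
  · have h0 : v⁻¹ * F (f3, 1) * v = F (f3, 1) := by
      have := hvc (f3, 1) (by simp)
      nth_rewrite 1 [← this]; group
    rw [show v * s * v⁻¹ * F (f3, 1) * (v * s * v⁻¹) = v * (s * (v⁻¹ * F (f3, 1) * v) * s) * v⁻¹
      by group, h0, ← hw, ← hpq, hv, ← map_inv, hmul, Prod.inv_mk, hmul]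
    simp only [one_mul, mul_one, inv_one]
    rcases hm with e | e <;> rw [e]
    · rw [if_neg (by rw [decide_eq_true_eq]; exact by decide)]
    · rw [if_pos (by simp)]

end Cfsg.Agent.Sym8Three96
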