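import Cfsg.Agent.Lib.Sym8ThreeCaseBBase96
import Cfsg.Agent.Lib.ZStarTheorem

/-!
# The big case: the centraliser of `iota`
-/

set_option autoImplicit false

namespace Cfsg.Agent.Sym8Three96

open Equiv

theorem inV_even : ∀ v : P5, InV v → IsEven v := by decide +kernel
theorem inV_mul : ∀ v w : P5, InV v → InV w → InV (v * w) := by decide +kernel
theorem inV_inv : ∀ v : P5, InV v → InV v⁻¹ := by decide +kernel
theorem inV_comm : ∀ v w : P5, InV v → InV w → v * w = w * v := by decide +kernel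
theorem inV_t5 : ∀ v : P5, InV v → InV (t5 * v * t5) := by decide +kernel
theorem inV_t5_dd : ∀ v : P5, InV v → t5 * v * t5 = v ∨ t5 * v * t5 = dd5 * v := by decide +kernel
theorem inV_sq_t5 : ∀ v : P5, InV v → v * (t5 * v * t5) = 1 → v = 1 ∨ v = dd5 := by decide +kernel
theorem inV_conj_dd : ∀ v : P5, InV v → v ≠ 1 → ∃ b : P5, IsEven b ∧ b * v * b⁻¹ = dd5 := by
  decide +kernel
theorem even_inv_conj : ∀ l : P5, IsEven l → l * l = 1 → l ≠ 1 →
    ∃ b : P5, IsEven b ∧ b * l * b⁻¹ = dd5 := by decide +kernel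
theorem odd_inv_conj : ∀ l : P5, IsEven l → l * (t5 * l * t5) = 1 →
    ∃ b : P5, IsEven b ∧ b * (l * t5) * b⁻¹ = t5 := by decide +kernel
theorem even_centre : ∀ l : P5,
    (∀ b : P5, IsEven b → b * l = l * b) → l = 1 := by decide +kernel
theorem cent_t5_split : ∀ l : P5, t5 * l = l * t5 → IsEven l ∨ IsEven (l * t5) := by decide +kernel
theorem cent_t5_six : ∀ l : P5, t5 * l = l * t5 → l ^ 6 = 1 := by decide +kernel
theorem cent_t5_three : ∀ l : P5, t5 * l = l * t5 → l ^ 3 = 1 → ∃ i : Fin 3, l = c5 ^ (i : ℕ) := by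
  decide +kernel
theorem cent_dd_eight : ∀ l : P5, l * dd5 = dd5 * l → l ^ 8 = 1 := by decide +kernel
theorem c5_even : IsEven c5 := by decide +kernel
theorem even_mul : ∀ a b : P5, IsEven a → IsEven b → IsEven (a * b) := fun a b ha hb => by
  unfold IsEven at *; rw [map_mul, ha, hb, one_mul]
theorem even_inv : ∀ a : P5, IsEven a → IsEven a⁻¹ := fun a ha => by
  unfold IsEven at *; rw [map_inv, ha, inv_one]
theorem even_conj (a b : P5) (ha : IsEven a) (hb : IsEven b) : IsEven (b * a * b⁻¹) :=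
  even_mul _ _ (even_mul _ _ hb ha) (even_inv _ hb)
theorem even_t5 : ∀ b : P5, IsEven b → IsEven (t5 * b * t5) := by decide +kernel
theorem exists_comm_c5 : ∃ b b₂ : P5, IsEven b ∧ IsEven b₂ ∧
    b₂ * (b * t5 * b⁻¹ * t5) * b₂⁻¹ = c5 := by decide +kernel
theorem exists_inv_of_c5 : ∀ i : Fin 3, (i : ℕ) ≠ 0 → ∃ b : P5, IsEven b ∧
    c5 ^ (i : ℕ) * (b * c5 ^ (i : ℕ) * b⁻¹) ≠ 1 ∧
      (c5 ^ (i : ℕ) * (b * c5 ^ (i : ℕ) * b⁻¹)) ^ 2 = 1 := by decide +kernel

/-- An element killed by an odd power and by `2 ^ k * m` is killed by `m`. -/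
theorem pow_eq_one_of_odd {M : Type*} [Monoid M] {x : M} {o k m : ℕ} (ho : Odd o) (h1 : x ^ o = 1)
    (h2 : x ^ (2 ^ k * m) = 1) : x ^ m = 1 := by
  apply orderOf_dvd_iff_pow_eq_one.1
  have hd := orderOf_dvd_of_pow_eq_one h1
  have hc : Nat.Coprime (orderOf x) (2 ^ k) :=
    Nat.Coprime.pow_right _ (Nat.coprime_two_right.2 (ho.of_dvd_nat hd))
  exact hc.dvd_of_dvd_mul_left (orderOf_dvd_of_pow_eq_one h2)

namespace Data

variable {G : Type*} [Group G] (d : Data G)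

theorem iota_sq : d.iota * d.iota = 1 := by
  rw [iota, F_mul, show f3 * f3 = 1 from by decide, mul_one]; exact map_one d.F

theorem iota_ne_one : d.iota ≠ 1 := fun h =>
  absurd (congrArg Prod.fst (d.inj (h.trans (map_one d.F).symm))) (by decide)

theorem commute_tau_iota : Commute d.tau d.iota := d.commute_tau_F (by decide +kernel)

theorem tau_L_tau (b : P5) : d.tau * d.L b = d.L (t5 * b * t5) * d.tau := by
  rw [tau_L, ← map_mul, ← map_mul, mul_assoc (t5 * b), show t5 * t5 = 1 from by decide, mul_one]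

theorem tau_L'_tau (v : P5) : d.tau * d.L' v = d.L' (t5 * v * t5) * d.tau := by
  rw [tau_L', ← map_mul, ← map_mul, mul_assoc (t5 * v), show t5 * t5 = 1 from by decide, mul_one]

variable (hB : d.alt = true) (hBig : d.IsBig)

include hB in
theorem commute_L'_iota {v : P5} (hv : InV v) : Commute (d.L' v) d.iota := by
  rw [d.iota_L' hB, Commute, SemiconjBy, ← map_mul, ← map_mul,
    inV_comm v dd5 hv (Or.inr (Or.inl rfl))]

include hBig in
theorem commute_L'_L {v b : P5} (hv : InV v) (hb : IsEven b) : Commute (d.L' v) (d.L b) :=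
  (hBig.1 b v hb (inV_even v hv)).symm

include hBig in
/-- Uniqueness of the factorisation. -/
theorem L'_L_inj {v l : P5} (hv : InV v) (h : d.L' v * d.L l = 1) : v = 1 ∧ l = 1 := by
  have hl : l = 1 := by
    refine even_centre l fun b hb => ?_
    apply d.L_inj
    rw [map_mul, map_mul]
    have h1 : Commute (d.L b) (d.L' v)⁻¹ := (hBig.1 b v hb (inV_even v hv)).inv_right
    rw [← eq_inv_of_mul_eq_one_right h] at h1
    exact h1
  subst hl
  rw [map_one, mul_one] at h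
  exact ⟨d.L'_inj (h.trans (map_one d.L').symm), rfl⟩

include hB hBig in
theorem eq_cc_ne {v : P5} (hv : InV v) {l : P5} (hl : l ≠ 1) {w : P5} (hw : InV w) :
    d.L' v * d.L l ≠ d.L' w := by
  intro h
  have h' : d.L' (w⁻¹ * v) * d.L l = 1 := by
    rw [map_mul, mul_assoc, h, map_inv, inv_mul_cancel]
  exact hl (d.L'_L_inj hBig (inV_mul _ _ (inV_inv w hw) hv) h').2

/-- The subgroup `{L'(v) L(b) tau ^ e}`. -/
def h0Set : Set G :=
  {g | ∃ (v b : P5) (e : Fin 2), InV v ∧ IsEven b ∧ d.L' v * d.L b * d.tau ^ (e : ℕ) = g}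

include hB hBig in
theorem h0_comm_iota {g : G} (hg : g ∈ d.h0Set) : Commute g d.iota := by
  obtain ⟨v, b, e, hv, hb, rfl⟩ := hg
  exact ((d.commute_L'_iota hB hv).mul_left (d.iota_commute_L b).symm).mul_left
    (d.commute_tau_iota.pow_left _)

include hB in
theorem cc_tau : d.tau * d.cc * d.tau⁻¹ = d.cc * d.iota := by
  rw [inv_eq_of_mul_eq_one_left d.tau_sq, d.tau_L', cc, d.iota_L' hB, ← map_mul, ← map_mul,
    ← map_mul, t5_k5_t5, dd5_k5]

include hB hBig in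
theorem h0_conj_cc {g : G} (hg : g ∈ d.h0Set) :
    g * d.cc * g⁻¹ = d.cc ∨ g * d.cc * g⁻¹ = d.cc * d.iota := by
  obtain ⟨v, b, e, hv, hb, rfl⟩ := hg
  have hk : InV k5 := Or.inr (Or.inr (Or.inl rfl))
  have hcm : Commute (d.L' v * d.L b) d.cc :=
    (show Commute (d.L' v) d.cc by
      rw [cc, Commute, SemiconjBy, ← map_mul, ← map_mul, inV_comm v k5 hv hk]).mul_left
      (d.commute_L'_L hBig hk hb).symm
  have hci : Commute (d.L' v * d.L b) d.iota :=
    (d.commute_L'_iota hB hv).mul_left (d.iota_commute_L b).symm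
  rcases (show ∀ e : Fin 2, e = 0 ∨ e = 1 by decide) e with rfl | rfl
  · left; rw [Fin.val_zero, pow_zero, mul_one, hcm.eq, mul_inv_cancel_right]
  · right
    rw [Fin.val_one, pow_one, show d.L' v * d.L b * d.tau * d.cc * (d.L' v * d.L b * d.tau)⁻¹ =
      d.L' v * d.L b * (d.tau * d.cc * d.tau⁻¹) * (d.L' v * d.L b)⁻¹ by group, d.cc_tau hB,
      (hcm.mul_right hci).eq, mul_inv_cancel_right]

include hB hBig in
theorem mem_h0_of {g : G} (hi : Commute g d.iota)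
    (hc : g * d.cc * g⁻¹ = d.cc ∨ g * d.cc * g⁻¹ = d.cc * d.iota) : g ∈ d.h0Set := by
  rcases hc with hc | hc
  · obtain ⟨v, b, hv, hb, rfl⟩ := hBig.2 g hi (mul_inv_eq_iff_eq_mul.1 hc)
    exact ⟨v, b, 0, hv, hb, by simp⟩
  · have h1 : (d.tau * g) * d.cc * (d.tau * g)⁻¹ = d.cc := by
      rw [show (d.tau * g) * d.cc * (d.tau * g)⁻¹ = d.tau * (g * d.cc * g⁻¹) * d.tau⁻¹ by group, hc,
        show d.tau * (d.cc * d.iota) * d.tau⁻¹ =
          (d.tau * d.cc * d.tau⁻¹) * (d.tau * d.iota * d.tau⁻¹) by group,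
        d.cc_tau hB, d.commute_tau_iota.eq, mul_inv_cancel_right, mul_assoc, d.iota_sq, mul_one]
    obtain ⟨v, b, hv, hb, he⟩ := hBig.2 (d.tau * g) (d.commute_tau_iota.mul_left hi)
      (mul_inv_eq_iff_eq_mul.1 h1)
    refine ⟨t5 * v * t5, t5 * b * t5, 1, inV_t5 v hv, even_t5 b hb, ?_⟩
    rw [Fin.val_one, pow_one, mul_assoc, ← d.tau_L_tau, ← mul_assoc, ← d.tau_L'_tau, mul_assoc,
      he, ← mul_assoc, d.tau_sq, one_mul]

include hB hBig in
theorem h0_mul {g h : G} (hg : g ∈ d.h0Set) (hh : h ∈ d.h0Set) : g * h ∈ d.h0Set := by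
  refine d.mem_h0_of hB hBig ((d.h0_comm_iota hB hBig hg).mul_left (d.h0_comm_iota hB hBig hh)) ?_
  have hgi : g * d.iota * g⁻¹ = d.iota :=
    mul_inv_eq_iff_eq_mul.2 (d.h0_comm_iota hB hBig hg).eq
  rw [show g * h * d.cc * (g * h)⁻¹ = g * (h * d.cc * h⁻¹) * g⁻¹ by group]
  rcases d.h0_conj_cc hB hBig hh with e | e <;> rw [e]
  · exact d.h0_conj_cc hB hBig hg
  · rw [show g * (d.cc * d.iota) * g⁻¹ = (g * d.cc * g⁻¹) * (g * d.iota * g⁻¹) by group, hgi]
    rcases d.h0_conj_cc hB hBig hg with e' | e' <;> rw [e']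
    · exact Or.inr rfl
    · left; rw [mul_assoc, d.iota_sq, mul_one]

theorem one_mem_h0 : (1 : G) ∈ d.h0Set := by
  refine ⟨1, 1, 0, Or.inl rfl, ?_, by simp⟩
  decide +kernel

/-- The set `{L'(v) L(w) tau ^ e}` of size 32. -/
def tSet : Set G :=
  {g | ∃ (v w : P5) (e : Fin 2), InV v ∧ InV w ∧ d.L' v * d.L w * d.tau ^ (e : ℕ) = g}

theorem tSet_le : d.tSet ⊆ d.h0Set := by
  rintro g ⟨v, w, e, hv, hw, h⟩
  exact ⟨v, w, e, hv, inV_even w hw, h⟩

include hBig in
theorem tSet_mul {g h : G} (hg : g ∈ d.tSet) (hh : h ∈ d.tSet) : g * h ∈ d.tSet := by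
  obtain ⟨v, w, e, hv, hw, rfl⟩ := hg
  obtain ⟨v', w', e', hv', hw', rfl⟩ := hh
  rcases (show ∀ e : Fin 2, e = 0 ∨ e = 1 by decide) e with rfl | rfl
  · refine ⟨v * v', w * w', e', inV_mul v v' hv hv', inV_mul w w' hw hw', ?_⟩
    rw [Fin.val_zero, pow_zero, mul_one, map_mul, map_mul]
    simp only [mul_assoc]
    rw [← mul_assoc (d.L' v') (d.L w),
      (d.commute_L'_L hBig hv' (inV_even w hw)).eq, mul_assoc]
  · refine ⟨v * (t5 * v' * t5), w * (t5 * w' * t5), (if e' = 0 then 1 else 0),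
      inV_mul _ _ hv (inV_t5 _ hv'), inV_mul _ _ hw (inV_t5 _ hw'), ?_⟩
    have ht : d.tau * d.tau ^ (e' : ℕ) = d.tau ^ ((if e' = 0 then (1 : Fin 2) else 0 : Fin 2) : ℕ) := by
      rcases (show ∀ e : Fin 2, e = 0 ∨ e = 1 by decide) e' with rfl | rfl
      · simp
      · simp [d.tau_sq]
    rw [Fin.val_one, pow_one, map_mul d.L' v, map_mul d.L w, ← ht]
    simp only [mul_assoc]
    rw [← mul_assoc d.tau (d.L' v'), d.tau_L'_tau, mul_assoc (d.L' (t5 * v' * t5)),
      ← mul_assoc d.tau (d.L w'), d.tau_L_tau, mul_assoc (d.L (t5 * w' * t5)),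
      ← mul_assoc (d.L w) (d.L' (t5 * v' * t5)),
      ← (d.commute_L'_L hBig (inV_t5 _ hv') (inV_even w hw)).eq, mul_assoc (d.L' (t5 * v' * t5))]
    simp only [mul_assoc]

variable [Finite G]
variable (hT : ∀ g : G, Commute g d.tau → g ∈ Subgroup.normalizer ((d.P : Subgroup G) : Set G))

/-- `H₀`. -/
def h0 : Subgroup G where
  carrier := {g | (∀ g h, g ∈ d.h0Set → h ∈ d.h0Set → g * h ∈ d.h0Set) → g ∈ d.h0Set}
  one_mem' := fun _ => d.one_mem_h0
  mul_mem' := fun {a b} ha hb hm => hm a b (ha hm) (hb hm)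
  inv_mem' := fun {a} ha hm => by
    have hn : ∀ n : ℕ, a ^ n ∈ d.h0Set := fun n => by
      induction n with
      | zero => rw [pow_zero]; exact d.one_mem_h0
      | succ n ih => rw [pow_succ]; exact hm _ _ ih (ha hm)
    rw [inv_eq_of_mul_eq_one_right (show a * a ^ (orderOf a - 1) = 1 by
      rw [← pow_succ', Nat.sub_add_cancel (orderOf_pos a), pow_orderOf_eq_one])]
    exact hn _

include hB hBig in
theorem mem_h0 {g : G} : g ∈ d.h0 ↔ g ∈ d.h0Set :=
  ⟨fun h => h fun _ _ => d.h0_mul hB hBig, fun h _ => h⟩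

/-- `T`. -/
def tT : Subgroup G where
  carrier := {g | (∀ g h, g ∈ d.tSet → h ∈ d.tSet → g * h ∈ d.tSet) → g ∈ d.tSet}
  one_mem' := fun _ => ⟨1, 1, 0, Or.inl rfl, Or.inl rfl, by simp⟩
  mul_mem' := fun {a b} ha hb hm => hm a b (ha hm) (hb hm)
  inv_mem' := fun {a} ha hm => by
    have hn : ∀ n : ℕ, a ^ n ∈ d.tSet := fun n => by
      induction n with
      | zero => rw [pow_zero]; exact ⟨1, 1, 0, Or.inl rfl, Or.inl rfl, by simp⟩
      | succ n ih => rw [pow_succ]; exact hm _ _ ih (ha hm)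
    rw [inv_eq_of_mul_eq_one_right (show a * a ^ (orderOf a - 1) = 1 by
      rw [← pow_succ', Nat.sub_add_cancel (orderOf_pos a), pow_orderOf_eq_one])]
    exact hn _

include hBig in
theorem mem_tT {g : G} : g ∈ d.tT ↔ g ∈ d.tSet :=
  ⟨fun h => h fun _ _ => d.tSet_mul hBig, fun h _ => h⟩

include hBig in
theorem param_inj {Q : P5 → Prop} (hQ : ∀ b, Q b → IsEven b) :
    Function.Injective fun p : {v : P5 // InV v} × {b : P5 // Q b} × Fin 2 =>
      d.L' p.1.1 * d.L p.2.1.1 * d.tau ^ (p.2.2 : ℕ) := by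
  rintro ⟨⟨v, hv⟩, ⟨b, hb⟩, e⟩ ⟨⟨v', hv'⟩, ⟨b', hb'⟩, e'⟩ h
  simp only at h
  rw [tau_L, ← map_pow, ← map_pow, mul_assoc, mul_assoc, ← map_mul, ← map_mul] at h
  have h' : d.L' (v'⁻¹ * v) * d.L (b * t5 ^ (e : ℕ) * (b' * t5 ^ (e' : ℕ))⁻¹) = 1 := by
    rw [map_mul, map_inv, map_mul d.L _ (_ : P5)⁻¹, map_inv]
    calc (d.L' v')⁻¹ * d.L' v * (d.L (b * t5 ^ (e : ℕ)) * (d.L (b' * t5 ^ (e' : ℕ)))⁻¹)
        = (d.L' v')⁻¹ * (d.L' v * d.L (b * t5 ^ (e : ℕ))) * (d.L (b' * t5 ^ (e' : ℕ)))⁻¹ := by group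
      _ = 1 := by rw [h]; group
  obtain ⟨e1, e2⟩ := d.L'_L_inj hBig (inV_mul _ _ (inV_inv v' hv') hv) h'
  have ev : v = v' := (inv_mul_eq_one.1 e1).symm
  have eb : b * t5 ^ (e : ℕ) = b' * t5 ^ (e' : ℕ) := mul_inv_eq_one.1 e2
  have hsign := congrArg Equiv.Perm.sign eb
  have he : e = e' := by
    have h1 : Equiv.Perm.sign b = 1 := hQ b hb
    have h2 : Equiv.Perm.sign b' = 1 := hQ b' hb'
    rw [map_mul, map_mul, h1, h2, one_mul, one_mul, map_pow, map_pow] at hsign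
    revert hsign
    generalize hs : Equiv.Perm.sign t5 = s
    have : s = -1 := by rw [← hs]; decide +kernel
    subst this
    rcases (show ∀ e : Fin 2, e = 0 ∨ e = 1 by decide) e with rfl | rfl <;>
      rcases (show ∀ e : Fin 2, e = 0 ∨ e = 1 by decide) e' with rfl | rfl <;> simp
  subst ev he
  obtain rfl := mul_right_cancel eb
  rfl

include hB hBig in
theorem card_h0 : Nat.card d.h0 = 480 := by
  let f : {v : P5 // InV v} × {b : P5 // IsEven b} × Fin 2 → d.h0 := fun p =>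
    ⟨d.L' p.1.1 * d.L p.2.1.1 * d.tau ^ (p.2.2 : ℕ), (d.mem_h0 hB hBig).2
      ⟨_, _, p.2.2, p.1.2, p.2.1.2, rfl⟩⟩
  rw [← Nat.card_eq_of_bijective f ⟨fun a b h => d.param_inj hBig (fun _ h => h)
    (congrArg Subtype.val h), fun x => by
      obtain ⟨v, b, e, hv, hb, h⟩ := (d.mem_h0 hB hBig).1 x.2
      exact ⟨(⟨v, hv⟩, ⟨b, hb⟩, e), Subtype.ext h⟩⟩]
  rw [Nat.card_eq_fintype_card]
  decide +kernel

include hBig in
theorem card_tT : Nat.card d.tT = 32 := by
  let f : {v : P5 // InV v} × {b : P5 // InV b} × Fin 2 → d.tT := fun p =>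
    ⟨d.L' p.1.1 * d.L p.2.1.1 * d.tau ^ (p.2.2 : ℕ), (d.mem_tT hBig).2
      ⟨_, _, p.2.2, p.1.2, p.2.1.2, rfl⟩⟩
  rw [← Nat.card_eq_of_bijective f ⟨fun a b h => d.param_inj hBig inV_even
    (congrArg Subtype.val h), fun x => by
      obtain ⟨v, b, e, hv, hb, h⟩ := (d.mem_tT hBig).1 x.2
      exact ⟨(⟨v, hv⟩, ⟨b, hb⟩, e), Subtype.ext h⟩⟩]
  rw [Nat.card_eq_fintype_card]
  decide +kernel

include hB hT hBig in
/-- The elements of `T` conjugate to `tau`. -/
theorem not_tau_L'L {v l : P5} (hv : InV v) (hl : IsEven l) (hl2 : l * l = 1)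
    (hne : ¬ (v = 1 ∧ l = 1)) (g : G) : g * d.tau * g⁻¹ ≠ d.L' v * d.L l := by
  intro hg
  have dd : InV dd5 := Or.inr (Or.inl rfl)
  by_cases hl1 : l = 1
  · subst hl1
    obtain ⟨b, hb, hbd⟩ := inV_conj_dd v hv fun h => hne ⟨h, rfl⟩
    refine d.iota_not_tau hB (d.L' b * g) ?_
    rw [show d.L' b * g * d.tau * (d.L' b * g)⁻¹ = d.L' b * (g * d.tau * g⁻¹) * (d.L' b)⁻¹ by group,
      hg, map_one, mul_one, d.L'_conj, hbd, d.iota_L' hB]
  obtain ⟨b, hb, hbl⟩ := even_inv_conj l hl hl2 hl1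
  by_cases hv1 : v = 1
  · subst hv1
    refine d.iota_not_tau hB (d.s * d.L b * g) ?_
    rw [show d.s * d.L b * g * d.tau * (d.s * d.L b * g)⁻¹ =
      d.s * (d.L b * (g * d.tau * g⁻¹) * (d.L b)⁻¹) * d.s⁻¹ by group,
      hg, map_one, one_mul, d.L_conj, hbl, conj_s, cs_L, d.iota_L' hB]
  · obtain ⟨a, ha, had⟩ := inV_conj_dd v hv hv1
    refine d.rho_not_tau hT hB (d.L' a * d.L b * g) ?_
    rw [show d.L' a * d.L b * g * d.tau * (d.L' a * d.L b * g)⁻¹ =
      d.L' a * (d.L b * (g * d.tau * g⁻¹) * (d.L b)⁻¹) * (d.L' a)⁻¹ by group, hg]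
    rw [show d.L b * (d.L' v * d.L l) * (d.L b)⁻¹ =
      (d.L b * d.L' v * (d.L b)⁻¹) * (d.L b * d.L l * (d.L b)⁻¹) by group,
      (d.commute_L'_L hBig hv hb).symm.eq, mul_inv_cancel_right, d.L_conj, hbl,
      show d.L' a * (d.L' v * d.L dd5) * (d.L' a)⁻¹ =
        (d.L' a * d.L' v * (d.L' a)⁻¹) * (d.L' a * d.L dd5 * (d.L' a)⁻¹) by group,
      d.L'_conj, had, (hBig.1 dd5 a (inV_even _ dd) ha).symm.eq, mul_inv_cancel_right,
      ← d.iota_L' hB, d.rho_eq]

include hB in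
theorem cc_conj_tau : d.cc * d.tau * d.cc⁻¹ = d.tau * d.iota := by
  rw [d.tau_L', cc, L'_conj, d.iota_L' hB, ← map_mul]
  congr 1
  decide +kernel

theorem Lk_conj_tau : d.L k5 * d.tau * (d.L k5)⁻¹ = d.tau * d.L dd5 := by
  rw [tau_L, L_conj, ← map_mul]
  congr 1
  decide +kernel

include hB hT hBig in
/-- The normaliser of `T` in `C(iota)` lies in `H₀`. -/
theorem norm_tT {m : G} (hi : Commute m d.iota) (hn : ∀ x ∈ d.tT, m * x * m⁻¹ ∈ d.tT) :
    m ∈ d.h0Set := by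
  have dd : InV dd5 := Or.inr (Or.inl rfl)
  have kk : InV k5 := Or.inr (Or.inr (Or.inl rfl))
  have ht : d.tau ∈ d.tT := (d.mem_tT hBig).2 ⟨1, 1, 1, Or.inl rfl, Or.inl rfl, by simp⟩
  obtain ⟨v, w, e, hv, hw, he⟩ := (d.mem_tT hBig).1 (hn _ ht)
  rcases (show ∀ e : Fin 2, e = 0 ∨ e = 1 by decide) e with rfl | rfl
  · exfalso
    rw [Fin.val_zero, pow_zero, mul_one] at he
    by_cases hne : v = 1 ∧ w = 1
    · rw [hne.1, hne.2, map_one, map_one, mul_one] at he
      have := d.orderOf_tau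
      rw [conj_eq_one_iff.1 he.symm, orderOf_one] at this
      norm_num at this
    · exact d.not_tau_L'L hB hBig hT hv (inV_even w hw)
        ((show ∀ w : P5, InV w → w * w = 1 by decide +kernel) w hw) hne m he.symm
  rw [Fin.val_one, pow_one] at he
  have hsq : d.L' v * d.L w * d.tau * (d.L' v * d.L w * d.tau) = 1 := by
    rw [he, show m * d.tau * m⁻¹ * (m * d.tau * m⁻¹) = m * (d.tau * d.tau) * m⁻¹ by group, d.tau_sq]
    group
  have hsq' : d.L' (v * (t5 * v * t5)) * d.L (w * (t5 * w * t5)) = 1 := by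
    rw [← hsq, map_mul d.L' v, map_mul d.L w]
    simp only [mul_assoc]
    rw [← mul_assoc d.tau (d.L' v), d.tau_L'_tau, mul_assoc (d.L' (t5 * v * t5)),
      ← mul_assoc d.tau (d.L w), d.tau_L_tau, mul_assoc (d.L (t5 * w * t5)), d.tau_sq, mul_one,
      ← mul_assoc (d.L w) (d.L' (t5 * v * t5)),
      ← (d.commute_L'_L hBig (inV_t5 _ hv) (inV_even w hw)).eq, mul_assoc (d.L' (t5 * v * t5))]
    simp only [mul_assoc]
  obtain ⟨e1, e2⟩ := d.L'_L_inj hBig (inV_mul _ _ hv (inV_t5 _ hv)) hsq'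
  -- an element of `H₀` doing the same to `tau`
  have hu : ∃ u ∈ d.h0Set, u * d.tau * u⁻¹ = d.L' v * d.L w * d.tau := by
    have hti : d.tau * d.iota = d.iota * d.tau := d.commute_tau_iota.eq
    have htd : d.tau * d.L dd5 = d.L dd5 * d.tau := by
      rw [d.tau_L_tau, t5_dd5, mul_assoc, show t5 * t5 = 1 from by decide, mul_one]
    rcases inV_sq_t5 v hv e1 with rfl | rfl <;> rcases inV_sq_t5 w hw e2 with rfl | rfl
    · exact ⟨1, d.one_mem_h0, by simp⟩
    · exact ⟨d.L k5, ⟨1, k5, 0, Or.inl rfl, inV_even _ kk, by simp⟩,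
        by rw [d.Lk_conj_tau, htd, map_one, one_mul]⟩
    · exact ⟨d.cc, ⟨k5, 1, 0, kk, (show IsEven 1 by decide +kernel), by simp [cc]⟩,
        by rw [d.cc_conj_tau hB, hti, map_one, mul_one, ← d.iota_L' hB]⟩
    · refine ⟨d.cc * d.L k5, ⟨k5, k5, 0, kk, inV_even _ kk, by simp [cc]⟩, ?_⟩
      rw [show d.cc * d.L k5 * d.tau * (d.cc * d.L k5)⁻¹ =
        d.cc * (d.L k5 * d.tau * (d.L k5)⁻¹) * d.cc⁻¹ by group, d.Lk_conj_tau,
        show d.cc * (d.tau * d.L dd5) * d.cc⁻¹ = (d.cc * d.tau * d.cc⁻¹) * (d.cc * d.L dd5 * d.cc⁻¹) by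
          group, d.cc_conj_tau hB, cc, (d.commute_L'_L hBig kk (inV_even _ dd)).eq,
        mul_inv_cancel_right, hti, mul_assoc, htd, ← mul_assoc, ← d.iota_L' hB]
  obtain ⟨u, hu, hut⟩ := hu
  have hm' : Commute (u⁻¹ * m) d.tau := by
    have : u * d.tau * u⁻¹ = m * d.tau * m⁻¹ := hut.trans he
    show u⁻¹ * m * d.tau = d.tau * (u⁻¹ * m)
    calc u⁻¹ * m * d.tau = u⁻¹ * (m * d.tau * m⁻¹) * m := by group
      _ = u⁻¹ * (u * d.tau * u⁻¹) * m := by rw [this]
      _ = _ := by group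
  obtain ⟨a, l, ha, hl, hal⟩ := d.cent_tau_iota hT hm'
    ((d.h0_comm_iota hB hBig hu).inv_left.mul_left hi)
  have h1 : d.F (a, l) ∈ d.h0Set := by
    rw [F_eq]
    refine d.h0_mul hB hBig ?_ ?_
    · rcases ha with rfl | rfl
      · rw [map_one]; exact d.one_mem_h0
      · refine ⟨dd5, 1, 0, dd, (show IsEven 1 by decide +kernel), ?_⟩
        simp only [Fin.val_zero, pow_zero, mul_one, map_one]
        rw [← d.iota_L' hB]; rfl
    · rcases cent_t5_split l hl with h' | h'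
      · exact ⟨1, l, 0, Or.inl rfl, h', by simp⟩
      · refine ⟨1, l * t5, 1, Or.inl rfl, h', ?_⟩
        rw [map_one, one_mul, Fin.val_one, pow_one, map_mul, tau_L, mul_assoc, ← map_mul,
          show t5 * t5 = 1 from by decide, map_one, mul_one]
  rw [show m = u * (u⁻¹ * m) by group, ← hal]
  exact d.h0_mul hB hBig hu h1

include hB hT hBig in
/-- In `C(iota)/⟨iota⟩` the involution `cc` is isolated. -/
theorem cc_isolated {m : G} (hm : Commute m d.iota)
    (hx : m * d.cc * m⁻¹ ∈ d.h0Set) :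
    m * d.cc * m⁻¹ = d.cc ∨ m * d.cc * m⁻¹ = d.cc * d.iota := by
  have dd : InV dd5 := Or.inr (Or.inl rfl)
  have kk : InV k5 := Or.inr (Or.inr (Or.inl rfl))
  obtain ⟨v, l, e, hv, hl, he⟩ := hx
  have hcc : d.cc * d.cc = 1 := by rw [cc, ← map_mul, k5_sq, map_one]
  have hsq : m * d.cc * m⁻¹ * (m * d.cc * m⁻¹) = 1 := by
    rw [show m * d.cc * m⁻¹ * (m * d.cc * m⁻¹) = m * (d.cc * d.cc) * m⁻¹ by group, hcc]; group
  rw [← he] at hsq
  rcases (show ∀ e : Fin 2, e = 0 ∨ e = 1 by decide) e with rfl | rfl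
  swap
  · -- such an involution would be conjugate to `tau`
    exfalso
    rw [Fin.val_one, pow_one] at hsq he
    have hsq' : d.L' (v * (t5 * v * t5)) * d.L (l * (t5 * l * t5)) = 1 := by
      rw [← hsq, map_mul d.L' v, map_mul d.L l]
      simp only [mul_assoc]
      rw [← mul_assoc d.tau (d.L' v), d.tau_L'_tau, mul_assoc (d.L' (t5 * v * t5)),
        ← mul_assoc d.tau (d.L l), d.tau_L_tau, mul_assoc (d.L (t5 * l * t5)), d.tau_sq, mul_one,
        ← mul_assoc (d.L l) (d.L' (t5 * v * t5)),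
        ← (d.commute_L'_L hBig (inV_t5 _ hv) hl).eq, mul_assoc (d.L' (t5 * v * t5))]
      simp only [mul_assoc]
    obtain ⟨e1, e2⟩ := d.L'_L_inj hBig (inV_mul _ _ hv (inV_t5 _ hv)) hsq'
    obtain ⟨b, hb, hbl⟩ := odd_inv_conj l hl e2
    have h1 : d.L b * (m * d.cc * m⁻¹) * (d.L b)⁻¹ = d.L' v * d.tau := by
      rw [← he, mul_assoc (d.L' v), tau_L, ← map_mul,
        show d.L b * (d.L' v * d.L (l * t5)) * (d.L b)⁻¹ =
          (d.L b * d.L' v * (d.L b)⁻¹) * (d.L b * d.L (l * t5) * (d.L b)⁻¹) by group,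
        (d.commute_L'_L hBig hv hb).symm.eq, mul_inv_cancel_right, d.L_conj, hbl]
    obtain ⟨a, ha, hak⟩ := inV_conj_dd k5 kk (by decide +kernel)
    -- `cc` is a conjugate of `iota`
    have hci : d.cc = (d.L' a)⁻¹ * d.iota * d.L' a := by
      rw [d.iota_L' hB, ← hak, ← d.L'_conj, cc]; group
    rcases inV_sq_t5 v hv e1 with rfl | rfl
    · rw [map_one, one_mul, hci] at h1
      refine d.iota_not_tau hB (d.L b * m * (d.L' a)⁻¹)⁻¹ ?_
      rw [← h1]; group
    · rw [hci, ← d.iota_L' hB] at h1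
      refine d.iota_not_tau hB ((d.L b * m * (d.L' a)⁻¹)⁻¹ * d.cc) ?_
      have h2 : d.cc * d.tau * d.cc⁻¹ = d.L b * (m * ((d.L' a)⁻¹ * d.iota * d.L' a) * m⁻¹) * (d.L b)⁻¹ := by
        rw [d.cc_conj_tau hB, d.commute_tau_iota.eq, h1]
      rw [show (d.L b * m * (d.L' a)⁻¹)⁻¹ * d.cc * d.tau * ((d.L b * m * (d.L' a)⁻¹)⁻¹ * d.cc)⁻¹ =
        (d.L b * m * (d.L' a)⁻¹)⁻¹ * (d.cc * d.tau * d.cc⁻¹) * (d.L b * m * (d.L' a)⁻¹) by group, h2]
      group
  rw [Fin.val_zero, pow_zero, mul_one] at hsq he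
  have hsq' : d.L' (v * v) * d.L (l * l) = 1 := by
    rw [← hsq, map_mul, map_mul]
    simp only [mul_assoc]
    rw [← mul_assoc (d.L l) (d.L' v), ← (d.commute_L'_L hBig hv hl).eq, mul_assoc]
  obtain ⟨-, e2⟩ := d.L'_L_inj hBig (inV_mul _ _ hv hv) hsq'
  by_cases hl1 : l = 1
  · subst hl1
    rw [map_one, mul_one] at he
    rw [← he]
    rcases hv with rfl | rfl | rfl | rfl
    · exfalso
      rw [map_one] at he
      exact absurd (d.L'_inj ((conj_eq_one_iff.1 he.symm).trans (map_one d.L').symm)) (by decide +kernel)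
    · exfalso
      rw [← d.iota_L' hB] at he
      have h3 : d.cc = d.iota := by
        calc d.cc = m⁻¹ * (m * d.cc * m⁻¹) * m := by group
          _ = m⁻¹ * (d.iota * m) := by rw [← he]; group
          _ = d.iota := by rw [← hm.eq]; group
      rw [d.iota_L' hB] at h3
      exact absurd (d.L'_inj h3) (by decide +kernel)
    · exact Or.inl rfl
    · right; rw [dd5_k5, map_mul, ← d.iota_L' hB]; rfl
  exfalso
  obtain ⟨b, hb, hbl⟩ := even_inv_conj l hl e2 hl1
  set m' := d.L b * m with hm'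
  have hm'i : Commute m' d.iota := (d.iota_commute_L b).symm.mul_left hm
  have hx' : m' * d.cc * m'⁻¹ = d.L' v * d.L dd5 := by
    rw [hm', show d.L b * m * d.cc * (d.L b * m)⁻¹ = d.L b * (m * d.cc * m⁻¹) * (d.L b)⁻¹ by group,
      ← he, show d.L b * (d.L' v * d.L l) * (d.L b)⁻¹ =
        (d.L b * d.L' v * (d.L b)⁻¹) * (d.L b * d.L l * (d.L b)⁻¹) by group,
      (d.commute_L'_L hBig hv hb).symm.eq, mul_inv_cancel_right, d.L_conj, hbl]
  set x := d.L' v * d.L dd5 with hxdef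
  -- `T` normalises `{x, x iota}`
  have hTx : ∀ h ∈ d.tT, h * x * h⁻¹ = x ∨ h * x * h⁻¹ = x * d.iota := by
    intro h hh
    obtain ⟨v', w', e', hv', hw', rfl⟩ := (d.mem_tT hBig).1 hh
    have hc : Commute (d.L' v' * d.L w') x := by
      refine Commute.mul_left (Commute.mul_right ?_ (d.commute_L'_L hBig hv' (inV_even _ dd)))
        (Commute.mul_right (d.commute_L'_L hBig hv (inV_even _ hw')).symm ?_)
      · rw [Commute, SemiconjBy, ← map_mul, ← map_mul, inV_comm v' v hv' hv]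
      · rw [Commute, SemiconjBy, ← map_mul, ← map_mul, inV_comm w' dd5 hw' dd]
    have hci : Commute (d.L' v' * d.L w') d.iota :=
      (d.commute_L'_iota hB hv').mul_left (d.iota_commute_L w').symm
    rcases (show ∀ e : Fin 2, e = 0 ∨ e = 1 by decide) e' with rfl | rfl
    · left; rw [Fin.val_zero, pow_zero, mul_one, hc.eq, mul_inv_cancel_right]
    · rw [Fin.val_one, pow_one, show d.L' v' * d.L w' * d.tau * x * (d.L' v' * d.L w' * d.tau)⁻¹ =
        d.L' v' * d.L w' * (d.tau * x * d.tau⁻¹) * (d.L' v' * d.L w')⁻¹ by group]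
      have htx : d.tau * x * d.tau⁻¹ = d.L' (t5 * v * t5) * d.L dd5 := by
        rw [hxdef, ← mul_assoc, d.tau_L'_tau, mul_assoc (d.L' (t5 * v * t5)), d.tau_L_tau,
          t5_dd5, mul_assoc dd5, show t5 * t5 = 1 from by decide, mul_one, ← mul_assoc,
          mul_inv_cancel_right]
      rw [htx]
      rcases inV_t5_dd v hv with h' | h' <;> rw [h']
      · left; rw [← hxdef, hc.eq, mul_inv_cancel_right]
      · right
        rw [map_mul, ← d.iota_L' hB, mul_assoc d.iota, ← hxdef,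
          (show Commute d.iota x from ((d.commute_L'_iota hB hv).symm).mul_right
            (d.iota_commute_L dd5)).eq, (hc.mul_right hci).eq, mul_inv_cancel_right]
  have hin : ∀ h ∈ d.tT, m'⁻¹ * h * m' ∈ d.h0Set := by
    intro h hh
    have hhi := d.h0_comm_iota hB hBig (d.tSet_le ((d.mem_tT hBig).1 hh))
    refine d.mem_h0_of hB hBig ((hm'i.inv_left.mul_left hhi).mul_left hm'i) ?_
    have h1 : m'⁻¹ * h * m' * d.cc * (m'⁻¹ * h * m')⁻¹ = m'⁻¹ * (h * x * h⁻¹) * m' := by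
      rw [← hx']; group
    rw [h1]
    rcases hTx h hh with h2 | h2 <;> rw [h2]
    · left; rw [← hx']; group
    · right
      rw [← mul_assoc m'⁻¹ x, mul_assoc _ d.iota m', ← hm'i.eq, ← hx']
      group
  haveI : Fact (Nat.Prime 2) := ⟨Nat.prime_two⟩
  set R := d.tT.map (MulAut.conj m'⁻¹).toMonoidHom with hR
  have hRle : R ≤ d.h0 := by
    rintro _ ⟨h, hh, rfl⟩
    exact (d.mem_h0 hB hBig).2 (by simpa using hin h hh)
  have hTle : d.tT ≤ d.h0 := fun g hg =>
    (d.mem_h0 hB hBig).2 (d.tSet_le ((d.mem_tT hBig).1 hg))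
  have c480 : Nat.card d.h0 = 2 ^ 5 * 15 := by rw [d.card_h0 hB hBig]; norm_num
  have mkS : ∀ K : Subgroup G, K ≤ d.h0 → Nat.card K = 2 ^ 5 →
      ∃ S : Sylow 2 d.h0, (S : Subgroup d.h0) = K.subgroupOf d.h0 := by
    intro K hK hc
    refine ⟨Sylow.ofCard (K.subgroupOf d.h0) ?_, rfl⟩
    rw [Nat.card_congr (Subgroup.subgroupOfEquivOfLe hK).toEquiv, hc, c480,
      Nat.factorization_mul (by norm_num) (by norm_num), Finsupp.add_apply,
      Nat.Prime.factorization_pow Nat.prime_two, Finsupp.single_eq_same,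
      Nat.factorization_eq_zero_of_not_dvd (show ¬ 2 ∣ 15 by norm_num), add_zero]
  obtain ⟨S₁, hS₁⟩ := mkS R hRle (by
    rw [hR, Subgroup.card_map_of_injective (MulEquiv.injective _), d.card_tT hBig]; norm_num)
  obtain ⟨S₂, hS₂⟩ := mkS d.tT hTle (by rw [d.card_tT hBig]; norm_num)
  obtain ⟨k, hk⟩ := MulAction.exists_smul_eq d.h0 S₁ S₂
  have hkR : ∀ h ∈ d.tT, (k : G) * (m'⁻¹ * h * m') * (k : G)⁻¹ ∈ d.tT := by
    intro h hh
    have hmem : m'⁻¹ * h * m' ∈ d.h0 := (d.mem_h0 hB hBig).2 (hin h hh)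
    have h1 : (⟨m'⁻¹ * h * m', hmem⟩ : d.h0) ∈ (S₁ : Subgroup d.h0) := by
      rw [hS₁, Subgroup.mem_subgroupOf, hR]
      exact ⟨h, hh, by simp⟩
    have h2 : MulAut.conj k • (⟨m'⁻¹ * h * m', hmem⟩ : d.h0) ∈ ((S₂ : Sylow 2 d.h0) : Set d.h0) := by
      rw [← hk, Sylow.smul_def]
      exact Set.smul_mem_smul_set h1
    change _ ∈ (S₂ : Subgroup d.h0) at h2
    rw [hS₂, Subgroup.mem_subgroupOf] at h2
    exact h2
  have hk0 := (d.mem_h0 hB hBig).1 k.2
  have hn := d.norm_tT hB hBig hT (m := (k : G) * m'⁻¹)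
    ((d.h0_comm_iota hB hBig hk0).mul_left hm'i.inv_left) fun h hh => by
      have := hkR h hh
      rwa [show (k : G) * (m'⁻¹ * h * m') * (k : G)⁻¹ = (k : G) * m'⁻¹ * h * ((k : G) * m'⁻¹)⁻¹ by
        group] at this
  have hm'0 : m' ∈ d.h0Set := by
    have h1 : m'⁻¹ ∈ d.h0 := by
      rw [show m'⁻¹ = (k : G)⁻¹ * ((k : G) * m'⁻¹) by group]
      exact mul_mem (inv_mem k.2) ((d.mem_h0 hB hBig).2 hn)
    exact (d.mem_h0 hB hBig).1 (by simpa using inv_mem h1)
  have := d.h0_conj_cc hB hBig hm'0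
  rw [hx'] at this
  rcases this with h | h
  · exact d.eq_cc_ne hB hBig hv (by decide +kernel) kk h
  · rw [hxdef, cc, d.iota_L' hB, ← map_mul] at h
    exact d.eq_cc_ne hB hBig hv (by decide +kernel) (inV_mul _ _ kk dd) h

include hB hT hBig in
/-- `C(iota)` in the big case. -/
theorem cent_iota_form : ∀ g : G, Commute g d.iota →
    ∃ (v b : P5) (e : Fin 2), InV v ∧ IsEven b ∧ d.L' v * d.L b * d.tau ^ (e : ℕ) = g := by
  intro g hg
  set C := Subgroup.centralizer ({d.iota} : Set G) with hC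
  have memC : ∀ {x : G}, x ∈ C ↔ Commute x d.iota := Subgroup.mem_centralizer_singleton_iff
  have hiC : d.iota ∈ C := memC.2 (Commute.refl _)
  haveI hKn : (Subgroup.zpowers (⟨d.iota, hiC⟩ : C)).Normal := ⟨fun n hn x => by
    obtain ⟨i, rfl⟩ := hn
    have : Commute x (⟨d.iota, hiC⟩ : C) := Subtype.ext (memC.1 x.2).eq
    rw [show x * (⟨d.iota, hiC⟩ : C) ^ i * x⁻¹ = (⟨d.iota, hiC⟩ : C) ^ i by
      rw [(this.zpow_right i).eq, mul_inv_cancel_right]]
    exact ⟨i, rfl⟩⟩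
  set K := Subgroup.zpowers (⟨d.iota, hiC⟩ : C) with hK
  have memK : ∀ {x : C}, x ∈ K ↔ (x : G) = 1 ∨ (x : G) = d.iota := by
    intro x
    constructor
    · rintro ⟨i, rfl⟩
      rcases Int.even_or_odd i with ⟨j, rfl⟩ | ⟨j, rfl⟩
      · left
        simp only [SubgroupClass.coe_zpow]
        rw [← two_mul, zpow_mul, zpow_two, d.iota_sq, one_zpow]
      · right
        simp only [SubgroupClass.coe_zpow]
        rw [zpow_add, zpow_mul, zpow_two, d.iota_sq, one_zpow, one_mul, zpow_one]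
    · rintro (h | h)
      · rw [show x = 1 from Subtype.ext h]; exact one_mem _
      · exact ⟨1, (zpow_one _).trans (Subtype.ext h.symm)⟩
  have mkeq : ∀ {x y : C}, (QuotientGroup.mk x : C ⧸ K) = QuotientGroup.mk y →
      (y : G) = x ∨ (y : G) = x * d.iota := by
    intro x y h
    rcases memK.1 (QuotientGroup.eq.1 h) with h' | h'
    · exact Or.inl (inv_mul_eq_one.1 h').symm
    · exact Or.inr (eq_mul_of_inv_mul_eq h')
  have hkk : InV k5 := Or.inr (Or.inr (Or.inl rfl))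
  have hccC : d.cc ∈ C := memC.2 (d.commute_L'_iota hB hkk)
  set cb : C ⧸ K := QuotientGroup.mk ⟨d.cc, hccC⟩ with hcb
  have hcb2 : orderOf cb = 2 := by
    haveI : Fact (Nat.Prime 2) := ⟨Nat.prime_two⟩
    refine orderOf_eq_prime ?_ ?_
    · rw [pow_two, hcb, ← QuotientGroup.mk_mul, QuotientGroup.eq_one_iff]
      exact memK.2 (Or.inl (by show d.cc * d.cc = 1; rw [cc, ← map_mul, k5_sq, map_one]))
    · intro h
      rw [hcb, QuotientGroup.eq_one_iff] at h
      rcases memK.1 h with h' | h' <;> change d.L' k5 = _ at h'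
      · exact absurd (d.L'_inj (h'.trans (map_one d.L').symm)) (by decide +kernel)
      · rw [d.iota_L' hB] at h'
        exact absurd (d.L'_inj h') (by decide +kernel)
  have hiso : IsIsolatedInvolution cb := by
    refine ⟨hcb2, fun q hq => ?_⟩
    obtain ⟨m, rfl⟩ := QuotientGroup.mk_surjective q
    rw [hcb, ← QuotientGroup.mk_inv, ← QuotientGroup.mk_mul, ← QuotientGroup.mk_mul] at hq ⊢
    set x : C := m * ⟨d.cc, hccC⟩ * m⁻¹ with hx
    change (QuotientGroup.mk _ : C ⧸ K) * QuotientGroup.mk x =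
      QuotientGroup.mk x * QuotientGroup.mk _ at hq
    rw [← QuotientGroup.mk_mul, ← QuotientGroup.mk_mul] at hq
    have hxi : Commute (x : G) d.iota := memC.1 x.2
    have hx0 : (x : G) ∈ d.h0Set := by
      refine d.mem_h0_of hB hBig hxi ?_
      rcases mkeq hq with h | h <;> change (x : G) * d.cc = _ at h
      · left; rw [h]; show d.cc * (x : G) * (x : G)⁻¹ = d.cc; group
      · right; rw [h]
        show d.cc * (x : G) * d.iota * (x : G)⁻¹ = d.cc * d.iota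
        rw [mul_assoc d.cc, hxi.eq]; group
    rw [QuotientGroup.eq]
    rcases d.cc_isolated hB hBig hT (memC.1 m.2) hx0 with h | h
    · exact memK.2 (Or.inl (show (x : G)⁻¹ * d.cc = 1 by rw [show (x : G) = d.cc from h, inv_mul_cancel]))
    · refine memK.2 (Or.inr (show (x : G)⁻¹ * d.cc = d.iota from ?_))
      rw [show (x : G) = d.cc * d.iota from h, mul_inv_rev, mul_assoc, inv_mul_cancel, mul_one,
        inv_eq_of_mul_eq_one_left d.iota_sq]
  obtain ⟨N, hNn, hNodd, hNc⟩ := ZStarTheorem.exists_odd_normal hiso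
  haveI := hNn
  -- lifts of odd order
  have hlift : ∀ n ∈ N, ∃ (x : C) (o : ℕ), Odd o ∧ (x : G) ^ o = 1 ∧ QuotientGroup.mk x = n := by
    intro n hn
    obtain ⟨x, rfl⟩ := QuotientGroup.mk_surjective n
    set o := orderOf (QuotientGroup.mk x : C ⧸ K) with ho
    have hodd : Odd o := hNodd.of_dvd_nat (Subgroup.orderOf_dvd_natCard _ hn)
    have h1 : (QuotientGroup.mk x : C ⧸ K) ^ o = 1 := pow_orderOf_eq_one _
    refine ⟨x ^ (o + 1), o, hodd, ?_, by rw [QuotientGroup.mk_pow, pow_succ, h1, one_mul]⟩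
    rw [← QuotientGroup.mk_pow, QuotientGroup.eq_one_iff] at h1
    rw [SubgroupClass.coe_pow, ← pow_mul, mul_comm, pow_mul]
    obtain ⟨j, hj⟩ := hodd.add_one
    rcases memK.1 h1 with h' | h' <;> rw [SubgroupClass.coe_pow] at h' <;> rw [h']
    · rw [one_pow]
    · rw [hj, pow_add, ← (Commute.refl d.iota).mul_pow, d.iota_sq, one_pow]
  -- commuting modulo `iota` is commuting for elements of odd order
  have hcommute : ∀ (y x : C) (o : ℕ), Odd o → (x : G) ^ o = 1 →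
      Commute (QuotientGroup.mk y : C ⧸ K) (QuotientGroup.mk x) → Commute (y : G) x := by
    intro y x o ho hx h
    have h' : (QuotientGroup.mk (y * x * y⁻¹) : C ⧸ K) = QuotientGroup.mk x := by
      rw [QuotientGroup.mk_mul, QuotientGroup.mk_mul, h.eq, QuotientGroup.mk_inv, mul_inv_cancel_right]
    rcases mkeq h' with e | e
    · have e' : (x : G) = y * x * (y : G)⁻¹ := e
      show (y : G) * x = x * y
      calc (y : G) * x = (y : G) * x * (y : G)⁻¹ * y := by group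
        _ = x * y := by rw [← e']
    · exfalso
      have e' : (x : G) = y * x * (y : G)⁻¹ * d.iota := e
      have h2 : ((y : G) * x * (y : G)⁻¹) ^ o = 1 := by rw [conj_pow, hx]; group
      have hci : Commute ((y : G) * x * (y : G)⁻¹) d.iota := memC.1 (y * x * y⁻¹).2
      have h3 := hci.mul_pow o
      rw [← e', hx, h2, one_mul] at h3
      obtain ⟨j, hj⟩ := ho
      rw [hj, pow_succ, pow_mul, pow_two, d.iota_sq, one_pow, one_mul] at h3
      exact d.iota_ne_one h3.symm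
  have hLC : ∀ l : P5, d.L l ∈ C := fun l => memC.2 (d.iota_commute_L l).symm
  have hNconj : ∀ q n, n ∈ N → q * n * q⁻¹ ∈ N := fun q n hn => hNn.conj_mem n hn q
  -- no power of `z'` in `N`
  have hnoz : ∀ i : Fin 3, (QuotientGroup.mk ⟨d.L (c5 ^ (i : ℕ)), hLC _⟩ : C ⧸ K) ∈ N →
      c5 ^ (i : ℕ) = 1 := by
    intro i hi
    by_contra hne
    obtain ⟨b, hb, hb1, hb2⟩ := exists_inv_of_c5 i (fun h => hne (by rw [h, pow_zero]))
    set l := c5 ^ (i : ℕ) * (b * c5 ^ (i : ℕ) * b⁻¹) with hl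
    have hmem : (QuotientGroup.mk ⟨d.L l, hLC l⟩ : C ⧸ K) ∈ N := by
      have := mul_mem hi (hNconj (QuotientGroup.mk ⟨d.L b, hLC b⟩) _ hi)
      rw [← QuotientGroup.mk_inv, ← QuotientGroup.mk_mul, ← QuotientGroup.mk_mul,
        ← QuotientGroup.mk_mul] at this
      convert this using 2
      apply Subtype.ext
      simp [hl]
    have h2 : orderOf (QuotientGroup.mk ⟨d.L l, hLC l⟩ : C ⧸ K) = 2 := by
      haveI : Fact (Nat.Prime 2) := ⟨Nat.prime_two⟩
      refine orderOf_eq_prime ?_ ?_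
      · rw [← QuotientGroup.mk_pow, QuotientGroup.eq_one_iff]
        exact memK.2 (Or.inl (by rw [SubgroupClass.coe_pow, ← map_pow, hb2, map_one]))
      · intro h
        rw [QuotientGroup.eq_one_iff] at h
        rcases memK.1 h with h' | h' <;> change d.L l = _ at h'
        · exact hb1 (d.L_inj (h'.trans (map_one d.L).symm))
        · exact (show (1 : P3) ≠ f3 by decide) (congrArg Prod.fst (d.inj (h' : d.F (1, l) = d.F (f3, 1))))
    exact (Nat.not_even_iff_odd.2 hNodd) (even_iff_two_dvd.2 (h2 ▸ Subgroup.orderOf_dvd_natCard _ hmem))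
  have htC : d.tau ∈ C := memC.2 d.commute_tau_iota
  set tb : C ⧸ K := QuotientGroup.mk ⟨d.tau, htC⟩ with htb
  have hfix : ∀ n ∈ N, Commute tb n → n = 1 := by
    intro n hn hc
    obtain ⟨x, o, ho, hxo, rfl⟩ := hlift n hn
    obtain ⟨a, l, ha, hl, hal⟩ := d.cent_tau_iota hT (hcommute _ x o ho hxo hc).symm (memC.1 x.2)
    rw [← hal, ← map_pow] at hxo
    have hpo := d.inj (hxo.trans (map_one d.F).symm)
    have hao : a ^ o = 1 := congrArg Prod.fst hpo
    have hlo : l ^ o = 1 := congrArg Prod.snd hpo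
    have ha1 : a = 1 := by
      rcases ha with h | h
      · exact h
      · subst h
        have := pow_eq_one_of_odd (k := 1) (m := 1) ho hao (by decide)
        rwa [pow_one] at this
    subst ha1
    obtain ⟨i, rfl⟩ := cent_t5_three l hl
      (pow_eq_one_of_odd (k := 1) (m := 3) ho hlo (by simpa using cent_t5_six l hl))
    have hxi : x = ⟨d.L (c5 ^ (i : ℕ)), hLC _⟩ := Subtype.ext hal.symm
    rw [hxi] at hn ⊢
    rw [QuotientGroup.eq_one_iff]
    exact memK.2 (Or.inl (show d.L (c5 ^ (i : ℕ)) = 1 by rw [hnoz i hn, map_one]))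
  have ht2 : tb * tb = 1 := by
    rw [htb, ← QuotientGroup.mk_mul, QuotientGroup.eq_one_iff]
    exact memK.2 (Or.inl d.tau_sq)
  have hinv : ∀ n ∈ N, tb * n * tb⁻¹ = n⁻¹ := by
    let φ : MulAut N := MulAut.conjNormal tb
    have hφ : MonoidHom.FixedPointFree φ := by
      intro x hx
      have h' : tb * (x : C ⧸ K) * tb⁻¹ = x := congrArg Subtype.val hx
      exact Subtype.ext (hfix x x.2 (mul_inv_eq_iff_eq_mul.1 h'))
    have hφ2 : Function.Involutive φ := fun x => Subtype.ext (by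
      show tb * (tb * (x : C ⧸ K) * tb⁻¹) * tb⁻¹ = x
      rw [inv_eq_of_mul_eq_one_left ht2, ← mul_assoc, ← mul_assoc, ht2, one_mul, mul_assoc, ht2,
        mul_one])
    intro n hn
    exact congrArg Subtype.val (congrFun (hφ.coe_eq_inv_of_involutive hφ2) ⟨n, hn⟩)
  set cen : Subgroup (C ⧸ K) := Subgroup.centralizer (N : Set (C ⧸ K)) with hcen
  haveI hcn : cen.Normal := Subgroup.normal_centralizer
  obtain ⟨b, b₂, hb, hb₂, hbc⟩ := exists_comm_c5
  have hz : (QuotientGroup.mk ⟨d.L c5, hLC c5⟩ : C ⧸ K) ∈ cen := by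
    set bb : C ⧸ K := QuotientGroup.mk ⟨d.L b, hLC b⟩ with hbb
    have h1 : bb * tb * bb⁻¹ * tb⁻¹ ∈ cen := by
      rw [hcen, Subgroup.mem_centralizer_iff]
      intro n hn
      have e1 := hinv n hn
      have e2 := hinv (bb⁻¹ * n⁻¹ * bb) (by
        simpa using hNconj bb⁻¹ _ (inv_mem hn))
      have e3 : bb * tb * bb⁻¹ * tb⁻¹ * n * (bb * tb * bb⁻¹ * tb⁻¹)⁻¹ =
          bb * (tb * (bb⁻¹ * (tb⁻¹ * n * tb) * bb) * tb⁻¹) * bb⁻¹ := by group
      have e4 : tb⁻¹ * n * tb = n⁻¹ := by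
        rw [inv_eq_of_mul_eq_one_left ht2] at e1 ⊢
        exact e1
      rw [e4, e2] at e3
      have e5 : bb * (bb⁻¹ * n⁻¹ * bb)⁻¹ * bb⁻¹ = n := by group
      rw [e5] at e3
      exact (mul_inv_eq_iff_eq_mul.1 e3).symm
    have h2 := hcn.conj_mem _ h1 (QuotientGroup.mk ⟨d.L b₂, hLC b₂⟩)
    rw [hbb, htb, ← QuotientGroup.mk_inv, ← QuotientGroup.mk_inv, ← QuotientGroup.mk_inv,
      ← QuotientGroup.mk_mul, ← QuotientGroup.mk_mul, ← QuotientGroup.mk_mul, ← QuotientGroup.mk_mul,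
      ← QuotientGroup.mk_mul] at h2
    convert h2 using 2
    apply Subtype.ext
    show d.L c5 = d.L b₂ * (d.L b * d.tau * (d.L b)⁻¹ * d.tau⁻¹) * (d.L b₂)⁻¹
    rw [tau_L, ← map_inv, ← map_inv, ← map_inv, ← map_mul, ← map_mul, ← map_mul, ← map_mul,
      ← map_mul, show t5⁻¹ = t5 from by decide, hbc]
  have hN1 : ∀ n ∈ N, n = 1 := by
    intro n hn
    have hc : Commute (QuotientGroup.mk ⟨d.L c5, hLC c5⟩ : C ⧸ K) n :=
      ((Subgroup.mem_centralizer_iff.1 hz) n hn).symm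
    obtain ⟨x, o, ho, hxo, rfl⟩ := hlift n hn
    have hc' : Commute (x : G) d.z' := (hcommute _ x o ho hxo hc).symm
    obtain ⟨i, l, hil⟩ := d.cent_z' hc'
    have hxi : Commute (d.F' (r3 ^ (i : ℕ), l)) d.iota := hil ▸ memC.1 x.2
    rw [d.iota_L' hB, L'_apply, Commute, SemiconjBy, ← map_mul, ← map_mul] at hxi
    have hl : l * dd5 = dd5 * l := congrArg Prod.snd (d.F'_inj hxi)
    rw [← hil, ← map_pow] at hxo
    have hlo : l ^ o = 1 := congrArg Prod.snd (d.F'_inj (hxo.trans (map_one d.F').symm))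
    have hl1 : l = 1 := by
      have := pow_eq_one_of_odd (k := 3) (m := 1) ho hlo (by simpa using cent_dd_eight l hl)
      rwa [pow_one] at this
    subst hl1
    have hxL : x = ⟨d.L (c5 ^ (i : ℕ)), hLC _⟩ := by
      apply Subtype.ext
      show (x : G) = d.L (c5 ^ (i : ℕ))
      rw [← hil, map_pow, ← d.z'_L, z'_eq, ← map_pow]
      simp
    rw [hxL] at hn ⊢
    rw [QuotientGroup.eq_one_iff]
    exact memK.2 (Or.inl (show d.L (c5 ^ (i : ℕ)) = 1 by rw [hnoz i hn, map_one]))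
  have hgC : g ∈ C := memC.2 hg
  have h1 := hN1 _ (hNc (QuotientGroup.mk ⟨g, hgC⟩))
  have h2 : (QuotientGroup.mk ⟨d.cc, hccC⟩ : C ⧸ K) = QuotientGroup.mk (⟨g, hgC⟩ * ⟨d.cc, hccC⟩ *
      (⟨g, hgC⟩ : C)⁻¹) := by
    rw [QuotientGroup.mk_mul, QuotientGroup.mk_mul, QuotientGroup.mk_inv]
    have := mul_inv_eq_one.1 h1
    rw [hcb] at this
    exact (eq_mul_inv_iff_mul_eq.2 (mul_inv_eq_iff_eq_mul.1 this))
  refine d.mem_h0_of hB hBig hg ?_
  rcases mkeq h2 with h | h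
  · exact Or.inl h
  · exact Or.inr h

end Data

end Cfsg.Agent.Sym8Three96
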