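import Cfsg.Agent.Lib.Sym8ThreeSmallTwist96
import Cfsg.Agent.Lib.MaxClassTwo

/-!
# The small outcome is impossible

In `C(iota) / ⟨iota⟩` the image of the four group is its own centralizer, so the Sylow
2-subgroups have maximal class; they cannot contain an elementary abelian group of order 8.
-/

set_option autoImplicit false

namespace Cfsg.Agent.Sym8Three96

open Equiv

/-- The Sylow 2-subgroup of the centralizer of `dd` in `S₅`. -/
def InW (l : P5) : Prop := InV l ∨ InV (l * t5)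

instance (l : P5) : Decidable (InW l) := by unfold InW; infer_instance

theorem inV_mul_s : ∀ v : P5, InV v → ∀ w : P5, InV w → InV (v * w) ∧ v * w = w * v := by
  decide +kernel

theorem inV_inv_s : ∀ v : P5, InV v → InV v⁻¹ := by decide +kernel

theorem inW_mul : ∀ v : P5, InW v → ∀ w : P5, InW w → InW (v * w) := by decide +kernel

theorem inW_props : ∀ v : P5, InW v →
    InW v⁻¹ ∧ v * dd5 = dd5 * v ∧ (v * v = 1 ∨ v * v = dd5) := by decide +kernel

theorem f3_pair : ∀ a b : P3, (a = 1 ∨ a = f3) → (b = 1 ∨ b = f3) →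
    (a * b = 1 ∨ a * b = f3) ∧ (a⁻¹ = 1 ∨ a⁻¹ = f3) ∧ a * a = 1 := by decide

theorem b5_sq_spec : bs5 * bs5 * dd5 * (bs5 * bs5)⁻¹ = k5 ∧
    bs5 * bs5 * k5 * (bs5 * bs5)⁻¹ = dd5 * k5 := by decide +kernel

/-- The four group as a subgroup. -/
def V4 : Subgroup P5 where
  carrier := {v | InV v}
  mul_mem' ha hb := (inV_mul_s _ ha _ hb).1
  one_mem' := Or.inl rfl
  inv_mem' ha := inV_inv_s _ ha

/-- The subgroup of order 16. -/
def W16 : Subgroup (P3 × P5) where
  carrier := {p | (p.1 = 1 ∨ p.1 = f3) ∧ InW p.2}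
  mul_mem' ha hb := ⟨(f3_pair _ _ ha.1 hb.1).1, inW_mul _ ha.2 _ hb.2⟩
  one_mem' := ⟨Or.inl rfl, Or.inl (Or.inl rfl)⟩
  inv_mem' ha := ⟨(f3_pair _ _ ha.1 ha.1).2.1, (inW_props _ ha.2).1⟩

/-- Eight coset representatives in `W16`. -/
def el8 (i : Fin 2 × Fin 2 × Fin 2) : P3 × P5 :=
  (f3 ^ (i.1 : ℕ), k5 ^ (i.2.1 : ℕ) * t5 ^ (i.2.2 : ℕ))

theorem el8_mem : ∀ i, ((el8 i).1 = 1 ∨ (el8 i).1 = f3) ∧ InW (el8 i).2 := by decide +kernel

theorem el8_inj : ∀ i j, ((el8 i)⁻¹ * el8 j = 1 ∨ (el8 i)⁻¹ * el8 j = (1, dd5)) → i = j := by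
  decide +kernel

theorem mem_zpowers_invol {G : Type*} [Group G] {i x : G} (h : i * i = 1)
    (hx : x ∈ Subgroup.zpowers i) : x = 1 ∨ x = i := by
  obtain ⟨k, rfl⟩ := Subgroup.mem_zpowers_iff.1 hx
  have h2 : i ^ (2 : ℤ) = 1 := by rw [zpow_two, h]
  rw [← Int.emod_add_mul_ediv k 2, zpow_add, zpow_mul, h2, one_zpow, mul_one]
  rcases Int.emod_two_eq_zero_or_one k with e | e <;> rw [e]
  · exact Or.inl (zpow_zero i)
  · exact Or.inr (zpow_one i)

/-- Exponent two forces order at most four next to a cyclic subgroup of index two. -/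
theorem card_le_four {S : Type*} [Group S] [Finite S] (C E : Subgroup S) (hC : IsCyclic C)
    (hCi : C.index = 2) (hE : ∀ x ∈ E, x * x = 1) : Nat.card E ≤ 4 := by
  haveI := Subgroup.normal_of_index_eq_two hCi
  set K := C.subgroupOf E with hK
  have hidx : K.index ≤ 2 := Nat.le_of_dvd two_pos (hCi ▸ Subgroup.relIndex_dvd_index_of_normal C E)
  haveI : IsCyclic K := by
    refine isCyclic_of_injective ((E.subtype.comp K.subtype).codRestrict C fun x => x.2) ?_
    intro x y h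
    have h2 := congrArg (fun z : C => (z : S)) h
    exact Subtype.ext (Subtype.ext h2)
  have hK2 : Nat.card K ≤ 2 := by
    obtain ⟨g, hg⟩ := IsCyclic.exists_ofOrder_eq_natCard (α := K)
    rw [← hg]
    refine Nat.le_of_dvd two_pos (orderOf_dvd_of_pow_eq_one ?_)
    rw [pow_two]
    exact Subtype.ext (Subtype.ext (hE _ g.1.2))
  rw [← K.card_mul_index]
  exact Nat.mul_le_mul hK2 hidx

namespace Data

variable {G : Type*} [Group G] (d : Data G)

/-- `C(iota)`. -/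
def Cio : Subgroup G := Subgroup.centralizer ({d.iota} : Set G)

theorem mem_Cio {x : G} : x ∈ d.Cio ↔ Commute x d.iota := Subgroup.mem_centralizer_singleton_iff

/-- `iota` in its centralizer. -/
def ioC : d.Cio := ⟨d.iota, d.mem_Cio.2 (Commute.refl _)⟩

/-- `L` into the centralizer of `iota`. -/
def LC : P5 →* d.Cio := d.L.codRestrict _ fun l => d.mem_Cio.2 (d.iota_commute_L l).symm

instance : (Subgroup.zpowers d.ioC).Normal where
  conj_mem x hx g := by
    obtain ⟨k, rfl⟩ := Subgroup.mem_zpowers_iff.1 hx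
    have h : Commute g d.ioC := Subtype.ext (d.mem_Cio.1 g.2).eq
    rwa [(h.zpow_right k).eq, mul_inv_cancel_right]

/-- The quotient map. -/
def qC : d.Cio →* d.Cio ⧸ Subgroup.zpowers d.ioC := QuotientGroup.mk' _

theorem qC_eq_one {x : d.Cio} : d.qC x = 1 ↔ ((x : G) = 1 ∨ (x : G) = d.iota) := by
  rw [qC, QuotientGroup.mk'_apply, QuotientGroup.eq_one_iff]
  constructor
  · intro h
    rcases mem_zpowers_invol (Subtype.ext d.iota_sq_s) h with e | e
    · exact Or.inl (congrArg Subtype.val e)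
    · exact Or.inr (congrArg Subtype.val e)
  · rintro (e | e)
    · rw [show x = 1 from Subtype.ext e]; exact one_mem _
    · rw [show x = d.ioC from Subtype.ext e]; exact Subgroup.mem_zpowers _

theorem delta {m : d.Cio} (v : P5) (h : Commute (d.qC m) (d.qC (d.LC v))) :
    (m : G) * d.L v * (m : G)⁻¹ = d.L v ∨ (m : G) * d.L v * (m : G)⁻¹ = d.L v * d.iota := by
  have h1 : d.qC ((d.LC v)⁻¹ * (m * d.LC v * m⁻¹)) = 1 := by
    rw [map_mul, map_mul, map_mul, map_inv, map_inv, h.eq, mul_inv_cancel_right, inv_mul_cancel]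
  rcases d.qC_eq_one.1 h1 with e | e
  · exact Or.inl (inv_mul_eq_one.1 e).symm
  · exact Or.inr (inv_mul_eq_iff_eq_mul.1 e)

variable [Finite G] (hB : d.alt = true)
  (hT : ∀ g : G, Commute g d.tau → g ∈ Subgroup.normalizer ((d.P : Subgroup G) : Set G))
  (hS : d.IsSmall)

include hB hT hS

theorem delta_conj (g : P5) {m : G} (h1 : Commute m d.iota)
    (h2 : m * d.L (g * dd5 * g⁻¹) * m⁻¹ = d.L (g * dd5 * g⁻¹))
    (h3 : m * d.L (g * k5 * g⁻¹) * m⁻¹ = d.L (g * k5 * g⁻¹) * d.iota) : False := by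
  have hgi : Commute (d.L g) d.iota := (d.iota_commute_L g).symm
  have hc : ∀ v, (d.L g)⁻¹ * m * d.L g * d.L v * ((d.L g)⁻¹ * m * d.L g)⁻¹ =
      (d.L g)⁻¹ * (m * d.L (g * v * g⁻¹) * m⁻¹) * d.L g := fun v => by
    rw [← d.L_conj g v]; group
  refine d.no_twist hB hT hS (n := (d.L g)⁻¹ * m * d.L g)
    ((hgi.inv_left.mul_left h1).mul_left hgi) ?_ ?_
  · refine mul_inv_eq_iff_eq_mul.1 ?_
    rw [hc, h2, ← d.L_conj]; group
  · rw [hc, h3, ← d.L_conj]
    calc (d.L g)⁻¹ * (d.L g * d.L k5 * (d.L g)⁻¹ * d.iota) * d.L g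
        = d.L k5 * ((d.L g)⁻¹ * (d.iota * d.L g)) := by group
      _ = d.L k5 * d.iota := by rw [← hgi.eq, inv_mul_cancel_left]

theorem fixed_of_delta {m : G} (h1 : Commute m d.iota)
    (h2 : m * d.L dd5 * m⁻¹ = d.L dd5 ∨ m * d.L dd5 * m⁻¹ = d.L dd5 * d.iota)
    (h3 : m * d.L k5 * m⁻¹ = d.L k5 ∨ m * d.L k5 * m⁻¹ = d.L k5 * d.iota) :
    Commute m (d.L dd5) ∧ Commute m (d.L k5) := by
  have hmul : m * d.L (dd5 * k5) * m⁻¹ = (m * d.L dd5 * m⁻¹) * (m * d.L k5 * m⁻¹) := by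
    rw [map_mul]; group
  rcases h2 with e2 | e2 <;> rcases h3 with e3 | e3
  · exact ⟨mul_inv_eq_iff_eq_mul.1 e2, mul_inv_eq_iff_eq_mul.1 e3⟩
  · exact (d.no_twist hB hT hS h1 (mul_inv_eq_iff_eq_mul.1 e2) e3).elim
  · exfalso
    obtain ⟨hd, hk⟩ := b5_sq_spec
    refine d.delta_conj hB hT hS (bs5 * bs5) h1 (by rw [hd]; exact e3) ?_
    rw [hk, hmul, e2, e3, map_mul, mul_assoc, (d.iota_commute_L k5).eq, ← mul_assoc]
  · exfalso
    obtain ⟨hk, -, hd⟩ := b5_spec
    refine d.delta_conj hB hT hS bs5 h1 ?_ (by rw [hk]; exact e2)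
    rw [hd, hmul, e2, e3, map_mul, mul_assoc, ← mul_assoc d.iota, (d.iota_commute_L k5).eq,
      mul_assoc (d.L k5), d.iota_sq_s, mul_one]

/-- The image of the four group is its own centralizer. -/
theorem cent_image {y : d.Cio ⧸ Subgroup.zpowers d.ioC}
    (h : ∀ a ∈ V4.map (d.qC.comp d.LC), Commute y a) : y ∈ V4.map (d.qC.comp d.LC) := by
  obtain ⟨m, rfl⟩ := QuotientGroup.mk'_surjective _ y
  have hm := d.mem_Cio.1 m.2
  obtain ⟨e2, e3⟩ := d.fixed_of_delta hB hT hS hm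
    (d.delta dd5 (h _ ⟨dd5, Or.inr (Or.inl rfl), rfl⟩))
    (d.delta k5 (h _ ⟨k5, Or.inr (Or.inr (Or.inl rfl)), rfl⟩))
  obtain ⟨a, v, ha, hv, e⟩ := d.cent_U hB hS hm e2 e3
  refine ⟨v, hv, ?_⟩
  show d.qC (d.LC v) = d.qC m
  refine (mul_inv_eq_one.1 ?_).symm
  rw [← map_inv, ← map_mul, qC_eq_one]
  show (m : G) * (d.L v)⁻¹ = 1 ∨ (m : G) * (d.L v)⁻¹ = d.iota
  rcases ha with rfl | rfl
  · left; rw [← e, show d.F ((1 : P3), v) = d.L v from rfl, mul_inv_cancel]
  · right; rw [← e, d.F_eq_iota rfl, mul_inv_cancel_right]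

/-- The small outcome does not occur. -/
theorem small_false : False := by
  haveI : Fact (Nat.Prime 2) := ⟨Nat.prime_two⟩
  set Q := d.Cio ⧸ Subgroup.zpowers d.ioC
  set A : Subgroup Q := V4.map (d.qC.comp d.LC) with hA
  have hAc : ∀ a ∈ A, ∀ b ∈ A, a * b = b * a := by
    rintro _ ⟨v, hv, rfl⟩ _ ⟨w, hw, rfl⟩
    rw [← map_mul, ← map_mul, (inV_mul_s v hv w hw).2]
  -- `A` has order four
  have hV : Nat.card V4 = 4 := by
    rw [Nat.card_congr (show V4 ≃ {v : P5 // InV v} from Equiv.subtypeEquivRight fun _ => Iff.rfl),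
      Nat.card_eq_fintype_card]
    decide +kernel
  have hA4 : Nat.card A = 2 ^ 2 := by
    refine (Nat.card_congr (Equiv.ofBijective
      (fun v : V4 => (⟨_, Subgroup.mem_map_of_mem _ v.2⟩ : A)) ⟨?_, ?_⟩)).symm.trans (hV.trans (by norm_num))
    · intro v w hvw
      have h1 : d.qC (d.LC (v.1⁻¹ * w.1)) = 1 := by
        have := congrArg Subtype.val hvw
        simp only [MonoidHom.comp_apply] at this
        rw [map_mul, map_inv, map_mul, map_inv, this, inv_mul_cancel]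
      rcases d.qC_eq_one.1 h1 with e | e
      · exact Subtype.ext (inv_mul_eq_one.1 (d.L_inj (e.trans (map_one d.L).symm)))
      · refine absurd ?_ (d.L_ne_mul_iota (v.1⁻¹ * w.1) 1)
        rw [map_one, one_mul]; exact e
    · rintro ⟨_, v, hv, rfl⟩
      exact ⟨⟨v, hv⟩, rfl⟩
  -- a Sylow 2-subgroup containing `A`
  obtain ⟨S, hAS⟩ := (IsPGroup.of_card hA4).exists_le_sylow
  obtain ⟨n, hn⟩ := IsPGroup.iff_card.1 S.2
  have hA4' : Nat.card (A.subgroupOf S) = 2 ^ 2 :=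
    (Nat.card_congr (Subgroup.subgroupOfEquivOfLe hAS).toEquiv).trans hA4
  have hAself : Subgroup.centralizer (A.subgroupOf S : Set S) = A.subgroupOf S := by
    ext x
    rw [Subgroup.mem_centralizer_iff]
    constructor
    · intro hx
      exact d.cent_image hB hT hS fun a ha =>
        (congrArg Subtype.val (hx ⟨a, hAS ha⟩ ha)).symm
    · intro hx a ha
      exact Subtype.ext (hAc _ ha _ hx)
  have hcl := MaxClassTwo.class_of_self_centralizing n S hn _ hA4' hAself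
  -- the elementary abelian group of order eight
  let ψ : W16 →* Q := d.qC.comp ((d.F'.comp W16.subtype).codRestrict d.Cio fun p => by
    rw [mem_Cio, d.iota_L' hB, L'_apply, Commute, SemiconjBy]
    show d.F' p.1 * d.F' (1, dd5) = d.F' (1, dd5) * d.F' p.1
    rw [← map_mul, ← map_mul]
    congr 1
    exact Prod.ext (by simp) (inW_props _ p.2.2).2.1)
  have hψ1 : ∀ p : W16, ψ p = 1 ↔ (p.1 = 1 ∨ p.1 = (1, dd5)) := by
    intro p
    show d.qC _ = 1 ↔ _
    rw [qC_eq_one]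
    show d.F' p.1 = 1 ∨ d.F' p.1 = d.iota ↔ _
    rw [d.iota_L' hB, L'_apply, d.F'_inj.eq_iff, map_eq_one_iff _ d.F'_inj]
  set E : Subgroup Q := ψ.range with hE
  have hE2 : ∀ x ∈ E, x * x = 1 := by
    rintro _ ⟨⟨⟨a, l⟩, ha, hl⟩, rfl⟩
    rw [← map_mul, hψ1]
    rcases (inW_props l hl).2.2 with e | e
    · exact Or.inl (Prod.ext (f3_pair a a ha ha).2.2 e)
    · exact Or.inr (Prod.ext (f3_pair a a ha ha).2.2 e)
  have hE8 : 8 ≤ Nat.card E := by
    have h : Function.Injective (fun i => (⟨ψ ⟨el8 i, el8_mem i⟩, ⟨_, rfl⟩⟩ : E)) := by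
      intro i j h
      have h1 : ψ ((⟨el8 i, el8_mem i⟩ : W16)⁻¹ * ⟨el8 j, el8_mem j⟩) = 1 := by
        have h2 : ψ ⟨el8 i, el8_mem i⟩ = ψ ⟨el8 j, el8_mem j⟩ := congrArg Subtype.val h
        rw [map_mul, map_inv]
        exact inv_mul_eq_one.2 h2
      exact el8_inj i j ((hψ1 _).1 h1)
    simpa [Nat.card_prod] using Nat.card_le_card_of_injective _ h
  obtain ⟨T, hT'⟩ := (show IsPGroup 2 E from
    fun x => ⟨1, by rw [pow_one, pow_two]; exact Subtype.ext (hE2 x x.2)⟩).exists_le_sylow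
  obtain ⟨g, hg⟩ := MulAction.exists_smul_eq Q T S
  set E' : Subgroup Q := E.map (MulAut.conj g).toMonoidHom with hE'
  have hES : E' ≤ S := by
    rintro _ ⟨x, hx, rfl⟩
    rw [← hg, Sylow.smul_def, ← SetLike.mem_coe]
    exact Set.smul_mem_smul_set (hT' hx)
  have hcard : Nat.card (E'.subgroupOf S) = Nat.card E :=
    (Nat.card_congr (Subgroup.subgroupOfEquivOfLe hES).toEquiv).trans
      (Subgroup.card_map_of_injective (MulEquiv.injective _))
  have hexp : ∀ x ∈ E'.subgroupOf S, x * x = 1 := by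
    intro x hx
    obtain ⟨y, hy, e⟩ := hx
    apply Subtype.ext
    show (x : Q) * x = 1
    change MulAut.conj g y = (x : Q) at e
    rw [← e, ← map_mul, hE2 y hy, map_one]
  have hn3 : 3 ≤ n := by
    by_contra hlt
    have h8 : 8 ≤ 2 ^ n := by
      rw [← hn]; exact (hE8.trans_eq hcard.symm).trans (Subgroup.card_le_card_group _)
    have h4 : 2 ^ n ≤ 2 ^ 2 := Nat.pow_le_pow_right two_pos (by omega)
    omega
  obtain ⟨C', hC', hC'i⟩ := MaxClassTwo.exists_cyclic_index_two n S hn hn3 hcl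
  have := card_le_four C' (E'.subgroupOf S) hC' hC'i hexp
  omega

end Data

end Cfsg.Agent.Sym8Three96
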