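import Cfsg.Agent.Lib.Sym8ThreeCentTau96
import Cfsg.Agent.Lib.Sym8ThreeFrame96
import Cfsg.Agent.Lib.Sym8ThreeSmall96
import Cfsg.Agent.Lib.Sym8ThreeIota96
import Cfsg.Agent.Lib.Sym8ThreeFinal96

/-!
# The exceptional case assembled
-/

set_option autoImplicit false

namespace Cfsg.Agent.Sym8Three96.Data

variable {G : Type*} [Group G] [Finite G]

theorem caseB (d : Data G) (hB : d.alt = true) :
    ∃ N : Subgroup G, N.Normal ∧ Cfsg.generalizedFittingSubgroup G = N ∧
      Nonempty (N ≃* alternatingGroup (Fin 5) × alternatingGroup (Fin 5)) ∧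
      (∀ K : Subgroup G, K.Normal → K ≤ N → K = ⊥ ∨ K = N) ∧ N.index = 4 ∧ ∀ g : G, g ^ 2 ∈ N := by
  have hT : ∀ g : G, Commute g d.tau → g ∈ Subgroup.normalizer ((d.P : Subgroup G) : Set G) :=
    d.cent_tau_normalizer hB
  have hBig : d.IsBig := (d.four_cases hB).resolve_left fun hS => d.small_false hB hT hS
  exact d.caseB_final hB hT hBig (d.cent_iota_form hB hBig hT)

end Cfsg.Agent.Sym8Three96.Data

namespace Cfsg.Agent.Sym8Three96

open Equiv

theorem card_normalizer_144 {G : Type*} [Group G] [Finite G] (D : Subgroup G) (hcard : Nat.card D = 9)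
    (eN : Subgroup.normalizer (D : Set G) ⧸ D.subgroupOf (Subgroup.normalizer (D : Set G)) ≃*
      DihedralGroup 4 × Multiplicative (ZMod 2)) :
    Nat.card (Subgroup.normalizer (D : Set G)) = 144 := by
  rw [Subgroup.card_eq_card_quotient_mul_card_subgroup (D.subgroupOf (Subgroup.normalizer (D : Set G))),
    Nat.card_congr eN.toEquiv, Nat.card_congr (Subgroup.subgroupOfEquivOfLe Subgroup.le_normalizer).toEquiv,
    hcard, Nat.card_prod, DihedralGroup.nat_card, Nat.card_congr Multiplicative.toAdd, Nat.card_zmod]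

end Cfsg.Agent.Sym8Three96
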