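import Cfsg.Agent.Lib.McL3Cases39
import Cfsg.Agent.Lib.McL3Frame78
import Cfsg.Agent.Lib.Sym8ThreeCaseA96
import Cfsg.Agent.Lib.Sym8ThreeCaseB96
import Mathlib.LinearAlgebra.Projectivization.PSL.PSL2

/-!
# S2913, S5523: the centralizer of the involution in the automorphism case

Modulo `t` it satisfies the 3-local hypotheses of the characterization of `Sym(8)`; the exceptional
configuration would make `L₁` commute with its conjugate under `n`.
-/

set_option autoImplicit false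
set_option linter.unusedSectionVars false
set_option linter.style.haveILetI false

namespace Cfsg.Agent.McL3x39

open Subgroup

namespace Big10

/-! ### Facts about the models -/

section Models

open Equiv

theorem p3_norm : ∀ a u : Perm (Fin 3), a ^ 3 = 1 → a ≠ 1 → u * a * u⁻¹ = a ∨ u * a * u⁻¹ = a⁻¹ := by
  decide

theorem p3_cent : ∀ a a' : Perm (Fin 3), a ^ 3 = 1 → a ≠ 1 → a' * a = a * a' →
    a' = 1 ∨ a' = a ∨ a' = a⁻¹ := by decide

theorem p3_cent_card : ∀ a : Perm (Fin 3), a ^ 3 = 1 → a ≠ 1 →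
    Fintype.card {u : Perm (Fin 3) // u * a = a * u} = 3 := by decide

theorem p5_cent_card : ∀ c : Perm (Fin 5), c ^ 3 = 1 → c ≠ 1 →
    Fintype.card {l : Perm (Fin 5) // l * c = c * l} = 6 := by decide +kernel

theorem p5_norm_card : ∀ c : Perm (Fin 5), c ^ 3 = 1 → c ≠ 1 →
    Fintype.card {l : Perm (Fin 5) // l * c * l⁻¹ = c ∨ l * c * l⁻¹ = c⁻¹} = 12 := by
  decide +kernel

theorem a5_cent : ∀ a : alternatingGroup (Fin 5), a ^ 3 = 1 → a ≠ 1 → ∀ l : alternatingGroup (Fin 5),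
    l * a = a * l → l = 1 ∨ l = a ∨ l = a⁻¹ := by decide +kernel

end Models

/-- A perfect group has no nontrivial homomorphism with commutative image. -/
theorem perfect_hom_trivial {K M : Type*} [Group K] [Group M] (hK : commutator K = ⊤)
    (ψ : K →* M) (hc : ∀ a b : K, ψ a * ψ b = ψ b * ψ a) (k : K) : ψ k = 1 := by
  have h : commutator K ≤ ψ.ker := by
    rw [commutator_eq_closure, closure_le]
    rintro _ ⟨a, b, rfl⟩
    rw [SetLike.mem_coe, MonoidHom.mem_ker, map_commutatorElement, commutatorElement_eq_one_iff_commute]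
    exact hc a b
  rw [hK] at h
  exact h (mem_top k)

theorem mem_zpowers_cube {M : Type*} [Group M] {z x : M} (h3 : z ^ 3 = 1) (hx : x ∈ zpowers z) :
    x = 1 ∨ x = z ∨ x = z⁻¹ := by
  obtain ⟨k, rfl⟩ := mem_zpowers_iff.1 hx
  have hz : z ^ (3 : ℤ) = 1 := by rw [show (3 : ℤ) = ((3 : ℕ) : ℤ) from rfl, zpow_natCast, h3]
  have e : z ^ k = z ^ (k % 3) := by
    conv_lhs => rw [← Int.mul_ediv_add_emod k 3, zpow_add, zpow_mul, hz, one_zpow, one_mul]
  rcases (by omega : k % 3 = 0 ∨ k % 3 = 1 ∨ k % 3 = 2) with r | r | r <;> rw [e, r]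
  · exact Or.inl (zpow_zero _)
  · exact Or.inr (Or.inl (zpow_one _))
  · refine Or.inr (Or.inr (eq_inv_of_mul_eq_one_left ?_))
    rw [show z ^ (2 : ℤ) * z = z ^ (3 : ℤ) by group, hz]

theorem mem_zpowers_normalizer {M : Type*} [Group M] [Finite M] {a g : M}
    (h : g * a * g⁻¹ ∈ zpowers a) : g ∈ normalizer (zpowers a : Set M) := by
  refine mem_normalizer_fintype fun n hn => ?_
  obtain ⟨i, rfl⟩ := mem_zpowers_iff.1 hn
  rw [← conj_zpow]
  exact zpow_mem h i

/-! ### The quotient by the involution -/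

variable {G : Type*} [Group G] [Finite G] {d : Data G} (F : Frame d)

/-- `⟨z, x⟩`. -/
abbrev DD : Subgroup G := closure {d.z, F.x}

/-- The projection. -/
def π : F.toLoc.T →* F.toLoc.H := QuotientGroup.mk' F.toLoc.tT

theorem mem_T {g : G} : g ∈ F.toLoc.T ↔ g * F.t = F.t * g := mem_centralizer_singleton_iff

theorem t_sq : F.t * F.t = 1 := by
  have h := pow_orderOf_eq_one F.t
  rwa [F.order_t, pow_two] at h

theorem π_surj : Function.Surjective (π F) := QuotientGroup.mk'_surjective _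

theorem π_eq_one {a : F.toLoc.T} : π F a = 1 ↔ (a : G) = 1 ∨ (a : G) = F.t := by
  rw [π, QuotientGroup.mk'_apply, QuotientGroup.eq_one_iff]
  constructor
  · intro h
    obtain ⟨i, hi⟩ := mem_zpowers_iff.1 h
    have e : (a : G) = F.t ^ i := by rw [← hi]; rfl
    rcases Int.even_or_odd i with ⟨k, hk⟩ | ⟨k, hk⟩
    · left
      rw [e, hk, ← two_mul, zpow_mul, zpow_two, t_sq, one_zpow]
    · right
      rw [e, hk, zpow_add, zpow_mul, zpow_two, t_sq, one_zpow, one_mul, zpow_one]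
  · rintro (h | h)
    · rw [show a = 1 from Subtype.ext h]; exact one_mem _
    · exact mem_zpowers_iff.2 ⟨1, Subtype.ext (by rw [h]; exact zpow_one _)⟩

theorem π_eq {a b : F.toLoc.T} : π F a = π F b ↔ (a : G) = b ∨ (a : G) = b * F.t := by
  rw [eq_comm, ← inv_mul_eq_one, ← map_inv, ← map_mul, π_eq_one, Subgroup.coe_mul, Subgroup.coe_inv]
  constructor
  · rintro (h | h)
    · left; exact (inv_mul_eq_one.1 h).symm
    · right; rw [← h, mul_inv_cancel_left]
  · rintro (h | h)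
    · left; rw [h]; group
    · right; rw [h, inv_mul_cancel_left]

theorem cube_inj {a b : G} (hb : b * F.t = F.t * b) (ha3 : a ^ 3 = 1) (hb3 : b ^ 3 = 1)
    (h : a = b ∨ a = b * F.t) : a = b := by
  rcases h with h | h
  · exact h
  · exfalso
    rw [h, (show Commute b F.t from hb).mul_pow, hb3, one_mul] at ha3
    have h2 : F.t = 1 := by
      calc F.t = F.t ^ 3 := by rw [pow_succ, pow_two, t_sq, one_mul]
        _ = 1 := ha3
    have := F.order_t
    rw [h2, orderOf_one] at this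
    exact absurd this (by norm_num)

theorem lift_conj {g v w : F.toLoc.T} (hv : (v : G) ^ 3 = 1) (hw : (w : G) ^ 3 = 1)
    (h : π F g * π F v * (π F g)⁻¹ = π F w) : (g : G) * v * (g : G)⁻¹ = w := by
  rw [← map_inv, ← map_mul, ← map_mul, π_eq] at h
  exact cube_inj F ((mem_T F).1 w.2) (by rw [conj_pow, hv]; group) hw (by simpa using h)

theorem z_mem (h : BigCase F) : d.z ∈ F.toLoc.T := (mem_T F).2 h.comm

theorem DD_le_J : DD F ≤ d.J := by
  rw [closure_le]
  rintro a (rfl | rfl)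
  · by_contra hz
    -- `z` lies in `J` by the conjugation with `n`
    have hn := (mem_normalizer_iff''.1 (d.M0_le F.n_mem) F.x).1 F.x_mem_J
    rw [show F.n⁻¹ * F.x * F.n = d.z by rw [← F.n_z]; group] at hn
    exact hz hn
  · exact F.x_mem_J

theorem x_mem : F.x ∈ F.toLoc.T := by
  have h : F.x ∈ DD F := subset_closure (by simp)
  exact (mem_T F).2 ((F.cent_D F.x F.x_mem_J).2 h).symm

theorem DD_cube {a : G} (ha : a ∈ DD F) : a ^ 3 = 1 := d.J_exp a (DD_le_J F ha)

theorem DD_le_T : DD F ≤ F.toLoc.T := fun a ha =>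
  (mem_T F).2 ((F.cent_D a (DD_le_J F ha)).2 ha).symm

theorem n_mem_T : F.n ∈ F.toLoc.T := (mem_T F).2 F.n_comm

theorem z_cube : d.z ^ 3 = 1 := by rw [← d.order_z, pow_orderOf_eq_one]
theorem x_cube : F.x ^ 3 = 1 := by rw [← F.order_x, pow_orderOf_eq_one]

theorem x_notMem_zpowers : F.x ∉ zpowers d.z := by
  intro h
  have hle : DD F ≤ zpowers d.z := by
    rw [closure_le]
    rintro a (rfl | rfl)
    · exact mem_zpowers _
    · exact h
  have := card_le_of_le hle
  rw [F.card_D, Nat.card_zpowers, d.order_z] at this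
  omega

theorem z_notMem_zpowers : d.z ∉ zpowers F.x := by
  intro h
  have hle : DD F ≤ zpowers F.x := by
    rw [closure_le]
    rintro a (rfl | rfl)
    · exact h
    · exact mem_zpowers _
  have := card_le_of_le hle
  rw [F.card_D, Nat.card_zpowers, F.order_x] at this
  omega

/-- The image of `⟨z, x⟩`. -/
def Dbar : Subgroup F.toLoc.H := ((DD F).subgroupOf F.toLoc.T).map (π F)

theorem mem_Dbar {a : F.toLoc.H} : a ∈ Dbar F ↔ ∃ g : F.toLoc.T, (g : G) ∈ DD F ∧ π F g = a := by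
  simp only [Dbar, Subgroup.mem_map, Subgroup.mem_subgroupOf]

theorem card_Dbar : Nat.card (Dbar F) = 9 := by
  rw [← F.card_D]
  refine (Nat.card_eq_of_bijective
    (fun a : DD F => (⟨π F ⟨a, DD_le_T F a.2⟩, (mem_Dbar F).2 ⟨_, a.2, rfl⟩⟩ : Dbar F)) ⟨?_, ?_⟩).symm
  · intro a b h
    exact Subtype.ext (cube_inj F ((mem_T F).1 (DD_le_T F b.2)) (DD_cube F a.2) (DD_cube F b.2)
      ((π_eq F).1 (congrArg Subtype.val h)))
  · rintro ⟨a, ha⟩
    obtain ⟨g, hg, rfl⟩ := (mem_Dbar F).1 ha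
    exact ⟨⟨g, hg⟩, rfl⟩

theorem Dbar_exp : ∀ a ∈ Dbar F, a ^ 3 = 1 := by
  intro a ha
  obtain ⟨g, hg, rfl⟩ := (mem_Dbar F).1 ha
  rw [← map_pow, show g ^ 3 = 1 from Subtype.ext (by simpa using DD_cube F hg), map_one]

theorem Dbar_comm : ∀ a ∈ Dbar F, ∀ b ∈ Dbar F, a * b = b * a := by
  intro a ha b hb
  obtain ⟨g, hg, rfl⟩ := (mem_Dbar F).1 ha
  obtain ⟨k, hk, rfl⟩ := (mem_Dbar F).1 hb
  rw [← map_mul, ← map_mul]
  congr 1
  exact Subtype.ext (d.J_comm _ (DD_le_J F hg) _ (DD_le_J F hk))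

theorem exists_sylow : ∃ P : Sylow 3 F.toLoc.H, (P : Subgroup F.toLoc.H) = Dbar F := by
  haveI : Fact (Nat.Prime 3) := ⟨Nat.prime_three⟩
  have hD : IsPGroup 3 (Dbar F) := IsPGroup.of_card (n := 2) (by rw [card_Dbar]; norm_num)
  obtain ⟨P, hP⟩ := hD.exists_le_sylow
  refine ⟨P, (eq_of_le_of_card_ge hP ?_).symm⟩
  let R0 : Sylow 3 F.toLoc.T := default
  have hcard0 : Nat.card (R0 : Subgroup F.toLoc.T) ≤ 9 := by
    obtain ⟨c, -, hc⟩ := F.sylow ((R0 : Subgroup F.toLoc.T).map F.toLoc.T.subtype) (R0.2.map _)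
      (Subgroup.map_subtype_le _)
    rw [← F.card_D]
    refine Nat.card_le_card_of_injective
      (fun a : (R0 : Subgroup F.toLoc.T) =>
        (⟨c * (a : F.toLoc.T) * c⁻¹, hc _ ⟨(a : F.toLoc.T), a.2, rfl⟩⟩ : DD F)) fun a b h => ?_
    have h2 : c * ((a : F.toLoc.T) : G) * c⁻¹ = c * ((b : F.toLoc.T) : G) * c⁻¹ :=
      congrArg Subtype.val h
    exact Subtype.ext (Subtype.ext (mul_left_cancel (mul_right_cancel h2)))
  let Q := R0.mapSurjective (π_surj F)
  have hQ : Nat.card (Q : Subgroup F.toLoc.H) ≤ 9 := by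
    rw [Sylow.coe_mapSurjective]
    refine le_trans ?_ hcard0
    exact Nat.le_of_dvd Nat.card_pos (Subgroup.card_map_dvd _ _)
  rw [card_Dbar, P.card_eq_multiplicity, ← Q.card_eq_multiplicity]
  exact hQ

/-! ### The local subgroups -/

variable (h : BigCase F)

/-- The image of `z`. -/
abbrev zb : F.toLoc.H := π F ⟨d.z, z_mem F h⟩
/-- The image of `x`. -/
abbrev xb : F.toLoc.H := π F ⟨F.x, x_mem F⟩
/-- The image of `n`. -/
abbrev nb : F.toLoc.H := π F ⟨F.n, n_mem_T F⟩

theorem zb_eq : F.toLoc.zbar h.comm = zb F h := rfl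

theorem zb_mem : zb F h ∈ Dbar F := (mem_Dbar F).2 ⟨_, subset_closure (by simp), rfl⟩
theorem xb_mem : xb F ∈ Dbar F := (mem_Dbar F).2 ⟨_, subset_closure (by simp), rfl⟩

theorem zb_cube : zb F h ^ 3 = 1 := Dbar_exp F _ (zb_mem F h)
theorem xb_cube : xb F ^ 3 = 1 := Dbar_exp F _ (xb_mem F)

theorem xb_notMem : xb F ∉ zpowers (zb F h) := by
  intro hx
  obtain ⟨i, hi⟩ := mem_zpowers_iff.1 hx
  rw [zb, ← map_zpow, π_eq] at hi
  refine x_notMem_zpowers F (mem_zpowers_iff.2 ⟨i, ?_⟩)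
  refine cube_inj F ((mem_T F).1 (x_mem F)) ?_ (x_cube F) (by simpa using hi)
  rw [← zpow_natCast, ← zpow_mul, mul_comm, zpow_mul, zpow_natCast, z_cube, one_zpow]

theorem zb_ne : zb F h ≠ 1 := by
  intro he
  rw [← map_one (π F), π_eq] at he
  have hz := cube_inj F (b := (1 : G)) (by rw [one_mul, mul_one]) (z_cube (d := d)) (one_pow 3)
    (by simpa using he)
  have := d.order_z
  rw [hz, orderOf_one] at this
  omega

theorem Dbar_eq : closure {zb F h, xb F} = Dbar F := by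
  refine le_antisymm ((closure_le _).2 ?_) ?_
  · rintro a (rfl | rfl)
    exacts [zb_mem F h, xb_mem F]
  · intro a ha
    obtain ⟨⟨g, hgT⟩, hg, rfl⟩ := (mem_Dbar F).1 ha
    have key : ∀ k ∈ DD F, ∃ hk : k ∈ F.toLoc.T, π F ⟨k, hk⟩ ∈ closure {zb F h, xb F} := by
      intro k hk
      induction hk using Subgroup.closure_induction with
      | mem k hk =>
        rcases hk with rfl | hk
        · exact ⟨z_mem F h, subset_closure (by simp)⟩
        · rw [Set.mem_singleton_iff] at hk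
          subst hk
          exact ⟨x_mem F, subset_closure (by simp)⟩
      | one => exact ⟨one_mem _, by
          rw [show (⟨1, one_mem _⟩ : F.toLoc.T) = 1 from rfl, map_one]; exact one_mem _⟩
      | mul a b _ _ iha ihb =>
        obtain ⟨ha, ha'⟩ := iha
        obtain ⟨hb, hb'⟩ := ihb
        exact ⟨mul_mem ha hb, by
          rw [show (⟨a * b, mul_mem ha hb⟩ : F.toLoc.T) = ⟨a, ha⟩ * ⟨b, hb⟩ from rfl, map_mul]
          exact mul_mem ha' hb'⟩
      | inv a _ iha =>
        obtain ⟨ha, ha'⟩ := iha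
        exact ⟨inv_mem ha, by
          rw [show (⟨a⁻¹, inv_mem ha⟩ : F.toLoc.T) = ⟨a, ha⟩⁻¹ from rfl, map_inv]
          exact inv_mem ha'⟩
    obtain ⟨_, hk⟩ := key g hg
    exact hk

/-- `N(⟨z̄⟩)`. -/
abbrev Lb : Subgroup F.toLoc.H := normalizer (zpowers (F.toLoc.zbar h.comm) : Set F.toLoc.H)

theorem cent_le_Lb {g : F.toLoc.H} (hg : g * zb F h = zb F h * g) : g ∈ Lb F h := by
  refine mem_zpowers_normalizer ?_
  rw [zb_eq F h, hg, mul_inv_cancel_right]
  exact mem_zpowers _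

theorem Dbar_le_Lb : Dbar F ≤ Lb F h := fun _ ha =>
  cent_le_Lb F h (Dbar_comm F _ ha _ (zb_mem F h))

/-- The coordinates of `z̄` and `x̄` in `Sym(3) × Sym(5)`. -/
theorem coords : ∃ (a a' : Equiv.Perm (Fin 3)) (c : Equiv.Perm (Fin 5)),
    a ^ 3 = 1 ∧ a ≠ 1 ∧ (a' = 1 ∨ a' = a ∨ a' = a⁻¹) ∧ c ^ 3 = 1 ∧ c ≠ 1 ∧
    h.eL ⟨zb F h, Dbar_le_Lb F h (zb_mem F h)⟩ = (a, 1) ∧
    h.eL ⟨xb F, Dbar_le_Lb F h (xb_mem F)⟩ = (a', c) := by
  set Z : Lb F h := ⟨zb F h, Dbar_le_Lb F h (zb_mem F h)⟩ with hZ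
  set X : Lb F h := ⟨xb F, Dbar_le_Lb F h (xb_mem F)⟩ with hX
  rcases hp : h.eL Z with ⟨a, b⟩
  rcases hq : h.eL X with ⟨a', c⟩
  have hZ3 : Z ^ 3 = 1 := Subtype.ext (by simpa [hZ] using zb_cube F h)
  have hX3 : X ^ 3 = 1 := Subtype.ext (by simpa [hX] using xb_cube F)
  have h3 : (a, b) ^ 3 = 1 := by rw [← hp, ← map_pow, hZ3, map_one]
  have h3' : (a', c) ^ 3 = 1 := by rw [← hq, ← map_pow, hX3, map_one]
  simp only [Prod.pow_mk, Prod.mk_eq_one] at h3 h3'
  have hconj : ∀ p, p * (a, b) * p⁻¹ = 1 ∨ p * (a, b) * p⁻¹ = (a, b) ∨ p * (a, b) * p⁻¹ = (a, b)⁻¹ := by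
    intro p
    obtain ⟨g, rfl⟩ := h.eL.surjective p
    have hg := (mem_normalizer_iff.1 g.2 (zb F h)).1 (by rw [zb_eq F h]; exact mem_zpowers _)
    rw [← hp]
    rcases mem_zpowers_cube (zb_cube F h) hg with e | e | e
    · left
      rw [← map_inv, ← map_mul, ← map_mul, show g * Z * g⁻¹ = 1 from Subtype.ext e, map_one]
    · right; left
      rw [← map_inv, ← map_mul, ← map_mul, show g * Z * g⁻¹ = Z from Subtype.ext e]
    · right; right
      rw [← map_inv, ← map_mul, ← map_mul, ← map_inv, show g * Z * g⁻¹ = Z⁻¹ from Subtype.ext e]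
  have hab : (a, b) ≠ 1 := by
    rw [← hp]; intro e
    have : Z = 1 := h.eL.injective (by rw [e, map_one])
    exact zb_ne F h (congrArg Subtype.val this)
  have hb : b = 1 := by
    by_contra hb
    obtain ⟨l, hl, hl'⟩ := Sym8Three96.p5_no_normal_three b h3.2 hb
    rcases hconj (1, l) with e | e | e
    · exact hab (conj_eq_one_iff.1 e)
    · exact hl (congrArg Prod.snd e)
    · exact hl' (congrArg Prod.snd e)
  subst hb
  have ha : a ≠ 1 := fun e => hab (by rw [e]; rfl)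
  have hcomm : (a', c) * (a, 1) = (a, 1) * (a', c) := by
    rw [← hp, ← hq, ← map_mul, ← map_mul]
    congr 1
    exact Subtype.ext (Dbar_comm F _ (xb_mem F) _ (zb_mem F h))
  have ha' := p3_cent a a' h3.1 ha (congrArg Prod.fst hcomm)
  refine ⟨a, a', c, h3.1, ha, ha', h3'.2, fun hc => ?_, rfl, rfl⟩
  subst hc
  refine xb_notMem F h ?_
  have hXZ : X ∈ zpowers Z := by
    rcases ha' with rfl | rfl | rfl
    · rw [show X = 1 from h.eL.injective (hq.trans (map_one h.eL).symm)]; exact one_mem _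
    · rw [show X = Z from h.eL.injective (hq.trans hp.symm)]; exact mem_zpowers _
    · rw [show X = Z⁻¹ from h.eL.injective (by rw [hq, map_inv, hp]; simp)]
      exact inv_mem (mem_zpowers _)
  obtain ⟨i, hi⟩ := mem_zpowers_iff.1 hXZ
  exact mem_zpowers_iff.2 ⟨i, by simpa [hZ, hX] using congrArg Subtype.val hi⟩

include h in
theorem card_cent_Dbar :
    Nat.card (centralizer (Dbar F : Set F.toLoc.H)) = 18 := by
  obtain ⟨a, a', c, ha3, ha, ha', hc3, hc, hz, hx⟩ := coords F h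
  have hmem : ∀ g : F.toLoc.H, g ∈ centralizer (Dbar F : Set F.toLoc.H) ↔
      g * zb F h = zb F h * g ∧ g * xb F = xb F * g := fun g => by
    refine ⟨fun hg => ⟨(hg _ (zb_mem F h)).symm, (hg _ (xb_mem F)).symm⟩, fun hg => ?_⟩
    have hle : Dbar F ≤ centralizer ({g} : Set F.toLoc.H) := by
      rw [← Dbar_eq F h, closure_le]
      rintro v (rfl | rfl) <;> exact mem_centralizer_singleton_iff.2 (by simp [hg.1, hg.2])
    exact fun v hv => mem_centralizer_singleton_iff.1 (hle hv)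
  let Z : Lb F h := ⟨zb F h, Dbar_le_Lb F h (zb_mem F h)⟩
  let X : Lb F h := ⟨xb F, Dbar_le_Lb F h (xb_mem F)⟩
  let e1 : centralizer (Dbar F : Set F.toLoc.H) ≃ {g : Lb F h // g * Z = Z * g ∧ g * X = X * g} :=
    { toFun := fun g => ⟨⟨g, cent_le_Lb F h ((hmem g).1 g.2).1⟩, Subtype.ext ((hmem g).1 g.2).1,
        Subtype.ext ((hmem g).1 g.2).2⟩
      invFun := fun g => ⟨(g : Lb F h), (hmem _).2 ⟨congrArg Subtype.val g.2.1, congrArg Subtype.val g.2.2⟩⟩
      left_inv := fun g => rfl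
      right_inv := fun g => rfl }
  let e2 : {g : Lb F h // g * Z = Z * g ∧ g * X = X * g} ≃
      {u : Equiv.Perm (Fin 3) // u * a = a * u} × {l : Equiv.Perm (Fin 5) // l * c = c * l} :=
    (h.eL.toEquiv.subtypeEquiv (q := fun p => p.1 * a = a * p.1 ∧ p.2 * c = c * p.2) fun g => by
      show (g * Z = Z * g ∧ g * X = X * g) ↔ _
      rw [← h.eL.injective.eq_iff, ← h.eL.injective.eq_iff (a := g * X), map_mul, map_mul, map_mul,
        map_mul, hz, hx]
      change _ ↔ (h.eL g).1 * a = a * (h.eL g).1 ∧ (h.eL g).2 * c = c * (h.eL g).2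
      obtain ⟨u, l⟩ := h.eL g
      simp only [Prod.mk_mul_mk, mul_one, one_mul, Prod.mk.injEq, and_true]
      constructor
      · exact fun hh => ⟨hh.1, hh.2.2⟩
      · intro hh
        refine ⟨hh.1, ?_, hh.2⟩
        rcases ha' with rfl | rfl | rfl
        · rw [mul_one, one_mul]
        · exact hh.1
        · exact (show Commute u a from hh.1).inv_right.eq).trans (Equiv.subtypeProdEquivProd (p := fun u : Equiv.Perm (Fin 3) => u * a = a * u)
        (q := fun l : Equiv.Perm (Fin 5) => l * c = c * l))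
  rw [Nat.card_congr (e1.trans e2), Nat.card_prod, Nat.card_eq_fintype_card,
    Nat.card_eq_fintype_card, p3_cent_card a ha3 ha, p5_cent_card c hc3 hc]

theorem mem_norm_Dbar {g : F.toLoc.H} (h1 : g * zb F h * g⁻¹ ∈ Dbar F)
    (h2 : g * xb F * g⁻¹ ∈ Dbar F) : g ∈ normalizer (Dbar F : Set F.toLoc.H) := by
  refine mem_normalizer_fintype fun v hv => ?_
  have hle : Dbar F ≤ (Dbar F).comap (MulAut.conj g).toMonoidHom := by
    conv_lhs => rw [← Dbar_eq F h]
    rw [closure_le]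
    rintro v (rfl | rfl)
    exacts [h1, h2]
  exact hle hv

/-- `N(D̄) ∩ N(⟨z̄⟩)`. -/
abbrev Kb : Subgroup F.toLoc.H := normalizer (Dbar F : Set F.toLoc.H) ⊓ Lb F h

theorem mem_prod (a : Equiv.Perm (Fin 3)) (c : Equiv.Perm (Fin 5)) {p : Equiv.Perm (Fin 3) × Equiv.Perm (Fin 5)} :
    p ∈ (zpowers a).prod (zpowers c) ↔ p.1 ∈ zpowers a ∧ p.2 ∈ zpowers c := Subgroup.mem_prod

theorem card_Kb : Nat.card (Kb F h) = 72 := by
  obtain ⟨a, a', c, ha3, ha, ha', hc3, hc, hz, hx⟩ := coords F h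
  let Z : Lb F h := ⟨zb F h, Dbar_le_Lb F h (zb_mem F h)⟩
  let X : Lb F h := ⟨xb F, Dbar_le_Lb F h (xb_mem F)⟩
  -- the image of `D̄`
  have himg : ((Dbar F).subgroupOf (Lb F h)).map h.eL.toMonoidHom = (zpowers a).prod (zpowers c) := by
    have hza : h.eL Z ∈ (zpowers a).prod (zpowers c) := by
      rw [hz]; exact (mem_prod a c).2 ⟨mem_zpowers a, one_mem _⟩
    have hxa : h.eL X ∈ (zpowers a).prod (zpowers c) := by
      rw [hx]
      refine (mem_prod a c).2 ⟨?_, mem_zpowers c⟩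
      rcases ha' with rfl | rfl | rfl
      exacts [one_mem _, mem_zpowers _, inv_mem (mem_zpowers _)]
    refine eq_of_le_of_card_ge ?_ ?_
    · rintro _ ⟨g, hg, rfl⟩
      have key : ∀ v ∈ Dbar F, ∃ hv : v ∈ Lb F h, h.eL ⟨v, hv⟩ ∈ (zpowers a).prod (zpowers c) := by
        intro v hv
        rw [← Dbar_eq F h] at hv
        induction hv using Subgroup.closure_induction with
        | mem v hv =>
          rcases hv with rfl | hv
          · exact ⟨_, hza⟩
          · rw [Set.mem_singleton_iff] at hv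
            subst hv
            exact ⟨_, hxa⟩
        | one => exact ⟨one_mem _, by
            rw [show (⟨1, one_mem _⟩ : Lb F h) = 1 from rfl, map_one]; exact one_mem _⟩
        | mul u v _ _ ihu ihv =>
          obtain ⟨hu, hu'⟩ := ihu
          obtain ⟨hv, hv'⟩ := ihv
          exact ⟨mul_mem hu hv, by
            rw [show (⟨u * v, mul_mem hu hv⟩ : Lb F h) = ⟨u, hu⟩ * ⟨v, hv⟩ from rfl, map_mul]
            exact mul_mem hu' hv'⟩
        | inv u _ ihu =>
          obtain ⟨hu, hu'⟩ := ihu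
          exact ⟨inv_mem hu, by
            rw [show (⟨u⁻¹, inv_mem hu⟩ : Lb F h) = ⟨u, hu⟩⁻¹ from rfl, map_inv]
            exact inv_mem hu'⟩
      obtain ⟨_, hk⟩ := key g hg
      exact hk
    · rw [card_map_of_injective h.eL.injective,
        Nat.card_congr (subgroupOfEquivOfLe (Dbar_le_Lb F h)).toEquiv, card_Dbar,
        Nat.card_congr ((zpowers a).prodEquiv (zpowers c)).toEquiv, Nat.card_prod, Nat.card_zpowers,
        Nat.card_zpowers]
      haveI : Fact (Nat.Prime 3) := ⟨Nat.prime_three⟩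
      rw [orderOf_eq_prime ha3 ha, orderOf_eq_prime hc3 hc]
  have hiff : ∀ g : Lb F h, (g : F.toLoc.H) ∈ Dbar F ↔ h.eL g ∈ (zpowers a).prod (zpowers c) := by
    intro g
    rw [← himg]
    exact ⟨fun hg => ⟨g, mem_subgroupOf.2 hg, rfl⟩, fun ⟨v, hv, e⟩ =>
      mem_subgroupOf.1 ((h.eL.injective e) ▸ hv)⟩
  have hN : ∀ g : Lb F h, (g : F.toLoc.H) ∈ normalizer (Dbar F : Set F.toLoc.H) ↔
      ((h.eL g).2 * c * (h.eL g).2⁻¹ = c ∨ (h.eL g).2 * c * (h.eL g).2⁻¹ = c⁻¹) := by
    intro g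
    constructor
    · intro hg
      have h1 : ((g * X * g⁻¹ : Lb F h) : F.toLoc.H) ∈ Dbar F :=
        (mem_normalizer_iff.1 hg _).1 (xb_mem F)
      rw [hiff, map_mul, map_mul, map_inv, hx, mem_prod] at h1
      rcases mem_zpowers_cube hc3 h1.2 with e | e | e
      · exact absurd (conj_eq_one_iff.1 e) hc
      · exact Or.inl e
      · exact Or.inr e
    · intro hg
      have hfst : ∀ w ∈ zpowers a, (h.eL g).1 * w * (h.eL g).1⁻¹ ∈ zpowers a := by
        intro w hw
        obtain ⟨i, rfl⟩ := mem_zpowers_iff.1 hw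
        rw [← conj_zpow]
        refine zpow_mem ?_ _
        rcases p3_norm a (h.eL g).1 ha3 ha with e | e <;> rw [e]
        exacts [mem_zpowers _, inv_mem (mem_zpowers _)]
      refine mem_norm_Dbar F h ?_ ?_
      · refine (hiff (g * Z * g⁻¹)).2 ?_
        rw [map_mul, map_mul, map_inv, hz, mem_prod]
        exact ⟨hfst a (mem_zpowers a), by simp⟩
      · refine (hiff (g * X * g⁻¹)).2 ?_
        rw [map_mul, map_mul, map_inv, hx, mem_prod]
        refine ⟨hfst a' ?_, ?_⟩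
        · rcases ha' with rfl | rfl | rfl
          exacts [one_mem _, mem_zpowers _, inv_mem (mem_zpowers _)]
        · show (h.eL g).2 * c * (h.eL g).2⁻¹ ∈ zpowers c
          rcases hg with e | e <;> rw [e]
          exacts [mem_zpowers _, inv_mem (mem_zpowers _)]
  let e1 : Kb F h ≃ {g : Lb F h // (g : F.toLoc.H) ∈ normalizer (Dbar F : Set F.toLoc.H)} :=
    { toFun := fun g => ⟨⟨g, g.2.2⟩, g.2.1⟩
      invFun := fun g => ⟨(g : Lb F h), g.2, (g : Lb F h).2⟩
      left_inv := fun g => rfl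
      right_inv := fun g => rfl }
  let e2 : {g : Lb F h // (g : F.toLoc.H) ∈ normalizer (Dbar F : Set F.toLoc.H)} ≃
      Equiv.Perm (Fin 3) × {l : Equiv.Perm (Fin 5) // l * c * l⁻¹ = c ∨ l * c * l⁻¹ = c⁻¹} :=
    (h.eL.toEquiv.subtypeEquiv
      (q := fun p => p.2 * c * p.2⁻¹ = c ∨ p.2 * c * p.2⁻¹ = c⁻¹) hN).trans
      { toFun := fun p => (p.1.1, ⟨p.1.2, p.2⟩)
        invFun := fun p => ⟨(p.1, p.2.1), p.2.2⟩
        left_inv := fun p => rfl
        right_inv := fun p => rfl }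
  rw [Nat.card_congr (e1.trans e2), Nat.card_prod, Nat.card_eq_fintype_card,
    Nat.card_eq_fintype_card, Fintype.card_perm, Fintype.card_fin, p5_norm_card c hc3 hc]
  rfl

/-- An element of `C(t)` normalizing `D̄` normalizes `D`. -/
theorem lift_norm {g : F.toLoc.T} (hg : π F g ∈ normalizer (Dbar F : Set F.toLoc.H)) {v : G}
    (hv : v ∈ DD F) : (g : G) * v * (g : G)⁻¹ ∈ DD F := by
  obtain ⟨w, hw, hwe⟩ := (mem_Dbar F).1
    ((mem_normalizer_iff.1 hg (π F ⟨v, DD_le_T F hv⟩)).1 ((mem_Dbar F).2 ⟨_, hv, rfl⟩))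
  rw [lift_conj F (v := ⟨v, DD_le_T F hv⟩) (DD_cube F hv) (DD_cube F hw) hwe.symm]
  exact hw

theorem nb_sq : nb F * nb F = 1 := by
  rw [← map_mul, show (⟨F.n, n_mem_T F⟩ : F.toLoc.T) * ⟨F.n, n_mem_T F⟩ = 1 from Subtype.ext F.n_sq,
    map_one]

theorem nb_inv : (nb F)⁻¹ = nb F := inv_eq_of_mul_eq_one_left (nb_sq F)

theorem nb_z : nb F * zb F h * (nb F)⁻¹ = xb F := by
  rw [← map_inv, ← map_mul, ← map_mul]
  congr 1
  exact Subtype.ext F.n_z

theorem nb_x : nb F * xb F * (nb F)⁻¹ = zb F h := by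
  rw [← map_inv, ← map_mul, ← map_mul]
  congr 1
  exact Subtype.ext F.n_x

include h in
theorem nb_mem : nb F ∈ normalizer (Dbar F : Set F.toLoc.H) :=
  mem_norm_Dbar F h (by rw [nb_z]; exact xb_mem F) (by rw [nb_x F h]; exact zb_mem F h)

theorem nb_notMem : nb F ∉ Lb F h := by
  intro hn
  have := (mem_normalizer_iff.1 hn (zb F h)).1 (by rw [zb_eq F h]; exact mem_zpowers _)
  rw [nb_z F h] at this
  exact xb_notMem F h this

theorem norm_cases {g : F.toLoc.H} (hg : g ∈ normalizer (Dbar F : Set F.toLoc.H)) :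
    g ∈ Lb F h ∨ nb F * g ∈ Lb F h := by
  obtain ⟨g, rfl⟩ := π_surj F g
  have h1 : (g : G) * d.z * (g : G)⁻¹ ∈ DD F := lift_norm F hg (subset_closure (by simp))
  rcases F.fusion _ h1 (isConj_iff.2 ⟨g, rfl⟩) with h2 | h2
  · left
    obtain ⟨i, hi⟩ := mem_zpowers_iff.1 h2
    refine mem_zpowers_normalizer ?_
    refine mem_zpowers_iff.2 ⟨i, ?_⟩
    rw [zb_eq F h, zb, ← map_zpow, ← map_inv, ← map_mul, ← map_mul]
    congr 1
    exact Subtype.ext (by simpa using hi)
  · right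
    obtain ⟨i, hi⟩ := mem_zpowers_iff.1 h2
    refine mem_zpowers_normalizer ?_
    refine mem_zpowers_iff.2 ⟨i, ?_⟩
    rw [zb_eq F h, zb, ← map_zpow, ← map_mul, ← map_inv, ← map_mul, ← map_mul]
    congr 1
    refine Subtype.ext ?_
    simp only [Subgroup.coe_zpow, Subgroup.coe_mul, Subgroup.coe_inv]
    calc d.z ^ i = F.n * F.x ^ i * F.n⁻¹ := by rw [← conj_zpow, F.n_x]
      _ = F.n * ((g : G) * d.z * (g : G)⁻¹) * F.n⁻¹ := by rw [hi]
      _ = _ := by group

include h in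
theorem card_norm_Dbar : Nat.card (normalizer (Dbar F : Set F.toLoc.H)) = 144 := by
  have hidx : ((Kb F h).subgroupOf (normalizer (Dbar F : Set F.toLoc.H))).index = 2 := by
    rw [Subgroup.index_eq_two_iff']
    refine ⟨⟨nb F, nb_mem F h⟩, fun g => ?_⟩
    simp only [mem_subgroupOf, Subgroup.coe_mul]
    rcases norm_cases F h g.2 with hg | hg
    · exact Or.inr ⟨⟨g.2, hg⟩, fun hc => nb_notMem F h (by
        simpa using (Lb F h).mul_mem hc.2 ((Lb F h).inv_mem hg))⟩
    · exact Or.inl ⟨⟨mul_mem (nb_mem F h) g.2, hg⟩,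
        fun hc => nb_notMem F h (by simpa using (Lb F h).mul_mem hg ((Lb F h).inv_mem hc.2))⟩
  rw [← ((Kb F h).subgroupOf (normalizer (Dbar F : Set F.toLoc.H))).card_mul_index, hidx,
    Nat.card_congr (subgroupOfEquivOfLe
      (inf_le_left : Kb F h ≤ normalizer (Dbar F : Set F.toLoc.H))).toEquiv, card_Kb]

/-! ### The centralizer of `z̄ x̄` -/

/-- The image of `z * x`. -/
abbrev yb : F.toLoc.H := zb F h * xb F

theorem yb_cent_norm (hy : YLocal F) {g : F.toLoc.H} (hg : g * yb F h = yb F h * g) :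
    g ∈ normalizer (Dbar F : Set F.toLoc.H) := by
  obtain ⟨g, rfl⟩ := π_surj F g
  have hzx : d.z * F.x ∈ DD F := mul_mem (subset_closure (by simp)) (subset_closure (by simp))
  let Y : F.toLoc.T := ⟨d.z * F.x, DD_le_T F hzx⟩
  have hY : yb F h = π F Y := by rw [yb, zb, xb, ← map_mul]; rfl
  have h1 : (g : G) * (Y : G) * (g : G)⁻¹ = Y := by
    refine lift_conj F (DD_cube F hzx) (DD_cube F hzx) ?_
    rw [← hY, hg, mul_inv_cancel_right]
  have hgJ : (g : G) ∈ normalizer (d.J : Set G) := by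
    refine hy _ hzx ?_ ?_ (mem_centralizer_singleton_iff.2 (mul_inv_eq_iff_eq_mul.1 h1))
    · intro hc
      exact x_notMem_zpowers F (by simpa using mul_mem (inv_mem (mem_zpowers d.z)) hc)
    · intro hc
      exact z_notMem_zpowers F (by simpa using mul_mem hc (inv_mem (mem_zpowers F.x)))
  have key : ∀ v ∈ DD F, (g : G) * v * (g : G)⁻¹ ∈ DD F := by
    intro v hv
    have hvJ := DD_le_J F hv
    refine (F.cent_D _ ((mem_normalizer_iff.1 hgJ v).1 hvJ)).1 ?_
    have e1 : Commute F.t (g : G) := ((mem_T F).1 g.2).symm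
    have e2 : Commute F.t v := (F.cent_D v hvJ).2 hv
    exact ((e1.mul_right e2).mul_right e1.inv_right).eq
  refine mem_norm_Dbar F h ?_ ?_
  · exact (mem_Dbar F).2 ⟨g * ⟨d.z, z_mem F h⟩ * g⁻¹, key _ (subset_closure (by simp)),
      by rw [zb, map_mul, map_mul, map_inv]⟩
  · exact (mem_Dbar F).2 ⟨g * ⟨F.x, x_mem F⟩ * g⁻¹, key _ (subset_closure (by simp)),
      by rw [xb, map_mul, map_mul, map_inv]⟩

theorem yb_cent_stab {g : F.toLoc.H} (hgN : g ∈ normalizer (Dbar F : Set F.toLoc.H))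
    (hgL : g ∈ Lb F h) (hg : g * yb F h = yb F h * g) : g ∈ centralizer (Dbar F : Set F.toLoc.H) := by
  obtain ⟨a, a', c, ha3, ha, ha', hc3, hc, hz, hx⟩ := coords F h
  let Z : Lb F h := ⟨zb F h, Dbar_le_Lb F h (zb_mem F h)⟩
  let X : Lb F h := ⟨xb F, Dbar_le_Lb F h (xb_mem F)⟩
  let Gg : Lb F h := ⟨g, hgL⟩
  have h1 : Gg * (Z * X) = (Z * X) * Gg := Subtype.ext hg
  have hzg := (mem_normalizer_iff.1 hgL (zb F h)).1 (by rw [zb_eq F h]; exact mem_zpowers _)
  have hzc : g * zb F h = zb F h * g := by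
    rcases mem_zpowers_cube (zb_cube F h) hzg with e | e | e
    · exact absurd (conj_eq_one_iff.1 e) (zb_ne F h)
    · exact mul_inv_eq_iff_eq_mul.1 e
    · exfalso
      -- then the conjugate of `x̄` is neither a power of `z̄` nor of `x̄`
      obtain ⟨g₀, rfl⟩ := π_surj F g
      have hzD : d.z ∈ DD F := subset_closure (by simp)
      have hxD : F.x ∈ DD F := subset_closure (by simp)
      have ez : (g₀ : G) * d.z * (g₀ : G)⁻¹ = d.z⁻¹ :=
        lift_conj F (v := ⟨d.z, z_mem F h⟩) (w := ⟨d.z, z_mem F h⟩⁻¹) (z_cube (d := d))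
          (by simp [inv_pow, z_cube (d := d)]) (by rw [map_inv]; exact e)
      have ey : (g₀ : G) * (d.z * F.x) * (g₀ : G)⁻¹ = d.z * F.x := by
        refine lift_conj F (v := ⟨_, DD_le_T F (mul_mem hzD hxD)⟩) (w := ⟨_, DD_le_T F (mul_mem hzD hxD)⟩)
          (DD_cube F (mul_mem hzD hxD)) (DD_cube F (mul_mem hzD hxD)) ?_
        have : π F ⟨_, DD_le_T F (mul_mem hzD hxD)⟩ = yb F h := by rw [yb, zb, xb, ← map_mul]; rfl
        rw [this, hg, mul_inv_cancel_right]
      have ex : (g₀ : G) * F.x * (g₀ : G)⁻¹ = d.z * (d.z * F.x) := by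
        have : (g₀ : G) * F.x * (g₀ : G)⁻¹ =
            ((g₀ : G) * d.z * (g₀ : G)⁻¹)⁻¹ * ((g₀ : G) * (d.z * F.x) * (g₀ : G)⁻¹) := by group
        rw [this, ez, ey, inv_inv]
      have hconj : IsConj d.z (d.z * (d.z * F.x)) :=
        (isConj_iff.2 ⟨F.n, F.n_z⟩).trans (isConj_iff.2 ⟨g₀, ex⟩)
      rcases F.fusion _ (mul_mem hzD (mul_mem hzD hxD)) hconj with hm | hm
      · refine x_notMem_zpowers F ?_
        have := mul_mem (inv_mem (mem_zpowers d.z)) (mul_mem (inv_mem (mem_zpowers d.z)) hm)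
        simpa using this
      · refine z_notMem_zpowers F ?_
        have h2 : d.z * d.z ∈ zpowers F.x := by
          have := mul_mem hm (inv_mem (mem_zpowers F.x))
          simpa [mul_assoc] using this
        have h3 : d.z * d.z * (d.z * d.z) ∈ zpowers F.x := mul_mem h2 h2
        rwa [show d.z * d.z * (d.z * d.z) = d.z ^ 3 * d.z by simp [pow_succ, mul_assoc], z_cube,
          one_mul] at h3
  have hxc : g * xb F = xb F * g := by
    have e := hg
    rw [yb, ← mul_assoc, hzc, mul_assoc, mul_assoc] at e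
    exact mul_left_cancel e
  intro v hv
  have hle : Dbar F ≤ centralizer ({g} : Set F.toLoc.H) := by
    rw [← Dbar_eq F h, closure_le]
    rintro w (rfl | rfl) <;> exact mem_centralizer_singleton_iff.2 (by simp [hzc, hxc])
  exact mem_centralizer_singleton_iff.1 (hle hv)

theorem nb_yb : nb F * yb F h = yb F h * nb F := by
  have : nb F * yb F h * (nb F)⁻¹ = yb F h := by
    rw [show nb F * yb F h * (nb F)⁻¹ = (nb F * zb F h * (nb F)⁻¹) * (nb F * xb F * (nb F)⁻¹) by
      rw [yb]; group, nb_z F h, nb_x F h]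
    exact Dbar_comm F _ (xb_mem F) _ (zb_mem F h)
  exact mul_inv_eq_iff_eq_mul.1 this

theorem yb_mem : yb F h ∈ Dbar F := mul_mem (zb_mem F h) (xb_mem F)

theorem cent_Dbar_le_yb :
    centralizer (Dbar F : Set F.toLoc.H) ≤ centralizer ({yb F h} : Set F.toLoc.H) := fun g hg =>
  mem_centralizer_singleton_iff.2 (hg _ (yb_mem F h)).symm

theorem yb_cases (hy : YLocal F) {g : F.toLoc.H} (hg : g ∈ centralizer ({yb F h} : Set F.toLoc.H)) :
    g ∈ centralizer (Dbar F : Set F.toLoc.H) ∨ nb F * g ∈ centralizer (Dbar F : Set F.toLoc.H) := by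
  have hg' := mem_centralizer_singleton_iff.1 hg
  have hgN := yb_cent_norm F h hy hg'
  rcases norm_cases F h hgN with hL | hL
  · exact Or.inl (yb_cent_stab F h hgN hL hg')
  · refine Or.inr (yb_cent_stab F h (mul_mem (nb_mem F h) hgN) hL ?_)
    rw [mul_assoc, hg', ← mul_assoc, nb_yb, mul_assoc]

include h in
theorem nb_notMem_cent : nb F ∉ centralizer (Dbar F : Set F.toLoc.H) := fun hn =>
  nb_notMem F h (cent_le_Lb F h (hn _ (zb_mem F h)).symm)

theorem card_cent_yb (hy : YLocal F) :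
    Nat.card (centralizer ({yb F h} : Set F.toLoc.H)) = 36 := by
  set C := centralizer ({yb F h} : Set F.toLoc.H) with hC
  set W := centralizer (Dbar F : Set F.toLoc.H) with hW
  have hidx : (W.subgroupOf C).index = 2 := by
    rw [Subgroup.index_eq_two_iff']
    refine ⟨⟨nb F, mem_centralizer_singleton_iff.2 (nb_yb F h)⟩, fun g => ?_⟩
    simp only [mem_subgroupOf, Subgroup.coe_mul]
    rcases yb_cases F h hy g.2 with hg | hg
    · exact Or.inr ⟨hg, fun hc => nb_notMem_cent F h (by simpa using mul_mem hc (inv_mem hg))⟩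
    · exact Or.inl ⟨hg, fun hc => nb_notMem_cent F h (by simpa using mul_mem hg (inv_mem hc))⟩
  rw [← (W.subgroupOf C).card_mul_index, hidx,
    Nat.card_congr (subgroupOfEquivOfLe (cent_Dbar_le_yb F h)).toEquiv, card_cent_Dbar F h]

/-- The image of `e`. -/
abbrev eb : F.toLoc.H := π F ⟨h.e, (mem_T F).2 h.e_t⟩

theorem eb_sq : eb F h * eb F h = 1 := by
  rw [← map_mul, π_eq_one]
  exact Or.inr h.e_sq

theorem eb_mem : eb F h ∈ centralizer (Dbar F : Set F.toLoc.H) := by
  have h1 : eb F h * zb F h = zb F h * eb F h := by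
    rw [← map_mul, ← map_mul]; congr 1; exact Subtype.ext h.e_z
  have h2 : eb F h * xb F = xb F * eb F h := by
    rw [← map_mul, ← map_mul]; congr 1; exact Subtype.ext h.e_x
  intro v hv
  have hle : Dbar F ≤ centralizer ({eb F h} : Set F.toLoc.H) := by
    rw [← Dbar_eq F h, closure_le]
    rintro w (rfl | rfl) <;> exact mem_centralizer_singleton_iff.2 (by simp [h1, h2])
  exact mem_centralizer_singleton_iff.1 (hle hv)

theorem eb_notMem : eb F h ∉ Dbar F := by
  classical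
  intro he
  obtain ⟨g, hg, hge⟩ := (mem_Dbar F).1 he
  refine h.e_notMem ?_
  have hgL : (g : G) ∈ d.L :=
    d.L_three _ ?_ ⟨if (g : G) = 1 then 0 else 1, ?_⟩
  · rcases (π_eq F).1 hge.symm with e | e <;> (change h.e = _ at e; rw [e])
    · exact hgL
    · exact mul_mem hgL (F.L1_le F.t_mem_L1).1
  · refine mem_zpowers_normalizer ?_
    rw [show (g : G) * d.z = d.z * g from d.J_comm _ (DD_le_J F hg) _ (DD_le_J F (subset_closure (by simp))),
      mul_inv_cancel_right]
    exact mem_zpowers _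
  · haveI : Fact (Nat.Prime 3) := ⟨Nat.prime_three⟩
    split_ifs with h1
    · rw [h1, orderOf_one, pow_zero]
    · rw [orderOf_eq_prime (DD_cube F hg) h1, pow_one]

theorem nb_eb : nb F * eb F h * (nb F)⁻¹ = eb F h := by
  calc nb F * eb F h * (nb F)⁻¹ = (eb F h)⁻¹ := by
        rw [← map_inv, ← map_inv, ← map_mul, ← map_mul]; congr 1; exact Subtype.ext h.n_e
    _ = eb F h := inv_eq_of_mul_eq_one_left (eb_sq F h)

theorem Dbar_le_cent : Dbar F ≤ centralizer (Dbar F : Set F.toLoc.H) := fun a ha v hv =>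
  Dbar_comm F v hv a ha

include h in
theorem cent_Dbar_index :
    ((Dbar F).subgroupOf (centralizer (Dbar F : Set F.toLoc.H))).index = 2 := by
  have h1 := ((Dbar F).subgroupOf (centralizer (Dbar F : Set F.toLoc.H))).card_mul_index
  rw [Nat.card_congr (subgroupOfEquivOfLe (Dbar_le_cent F)).toEquiv, card_Dbar,
    card_cent_Dbar F h] at h1
  omega

theorem yb_cent_sq (hy : YLocal F) :
    ∀ g ∈ centralizer ({yb F h} : Set F.toLoc.H), g ^ 2 ∈ Dbar F := by
  intro g hg
  rw [pow_two]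
  have hi := cent_Dbar_index F h
  have hsq : ∀ w ∈ centralizer (Dbar F : Set F.toLoc.H), w * w ∈ Dbar F := fun w hw => by
    have := Subgroup.mul_self_mem_of_index_two hi ⟨w, hw⟩
    simpa [mem_subgroupOf] using this
  rcases yb_cases F h hy hg with hw | hw
  · exact hsq g hw
  · set w := nb F * g with hwdef
    have hg' : g = nb F * w := by rw [hwdef, ← mul_assoc, nb_sq, one_mul]
    have hc : nb F * w * (nb F)⁻¹ * w ∈ Dbar F := by
      by_cases hwD : w ∈ Dbar F
      · exact mul_mem ((mem_normalizer_iff.1 (nb_mem F h) w).1 hwD) hwD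
      · have hd : w * eb F h ∈ Dbar F := by
          have := (Subgroup.mul_mem_iff_of_index_two hi (a := ⟨w, hw⟩) (b := ⟨eb F h, eb_mem F h⟩)).2
          simp only [mem_subgroupOf, Subgroup.coe_mul] at this
          exact this ⟨fun a => absurd a hwD, fun a => absurd a (eb_notMem F h)⟩
        set v := w * eb F h with hv
        have hwv : w = v * eb F h := by rw [hv, mul_assoc, eb_sq, mul_one]
        rw [hwv, show nb F * (v * eb F h) * (nb F)⁻¹ * (v * eb F h) =
          (nb F * v * (nb F)⁻¹) * (nb F * eb F h * (nb F)⁻¹) * v * eb F h by group, nb_eb,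
          mul_assoc _ (eb F h) v, ← (eb_mem F h v hd), ← mul_assoc, mul_assoc _ (eb F h) (eb F h),
          eb_sq, mul_one]
        exact mul_mem ((mem_normalizer_iff.1 (nb_mem F h) v).1 hd) hd
    rw [hg']
    rwa [show nb F * w * (nb F * w) = nb F * w * (nb F)⁻¹ * w by rw [nb_inv]; group]

theorem yb_cent_normal (hy : YLocal F) :
    ((Dbar F).subgroupOf (centralizer ({yb F h} : Set F.toLoc.H))).Normal :=
  (normal_subgroupOf_iff_le_normalizer ((Dbar_le_cent F).trans (cent_Dbar_le_yb F h))).2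
    fun _ hg => yb_cent_norm F h hy (mem_centralizer_singleton_iff.1 hg)

theorem closure_yz : closure {yb F h, zb F h} = Dbar F := by
  rw [← Dbar_eq F h]
  refine le_antisymm ((closure_le _).2 ?_) ((closure_le _).2 ?_)
  · rintro a (rfl | rfl)
    · exact mul_mem (subset_closure (by simp)) (subset_closure (by simp))
    · exact subset_closure (by simp)
  · rintro a (rfl | rfl)
    · exact subset_closure (by simp)
    · have h1 : zb F h ∈ closure {yb F h, zb F h} := subset_closure (by simp)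
      have h2 : yb F h ∈ closure {yb F h, zb F h} := subset_closure (by simp)
      have := mul_mem (inv_mem h1) h2
      rwa [yb, inv_mul_cancel_left] at this

/-! ### The conclusion -/

theorem perfect_L1 : commutator F.L1 = ⊤ := by
  obtain ⟨e⟩ := F.eL1
  haveI : Fact (Nat.Prime 5) := ⟨Nat.prime_five⟩
  have h1 : commutator (Matrix.SpecialLinearGroup (Fin 2) (ZMod 5)) = ⊤ :=
    Matrix.SL2.commutator_eq_top (a := (2 : ZMod 5)) (by decide +revert) (by decide +revert)
  have h2 := congrArg (Subgroup.map e.symm.toMonoidHom) h1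
  rw [_root_.commutator_def, map_commutator, map_top_of_surjective _ e.symm.surjective] at h2
  rw [_root_.commutator_def]
  exact h2

/-- The exceptional configuration cannot occur. -/
theorem no_wreath (h : BigCase F) (hnc : ¬ Commute (F.n * F.f * F.n⁻¹) F.f)
    (N : Subgroup F.toLoc.H) [N.Normal] (eN : N ≃* alternatingGroup (Fin 5) × alternatingGroup (Fin 5))
    (hsq : ∀ g : F.toLoc.H, g ^ 2 ∈ N) : False := by
  classical
  have hperf := perfect_L1 F
  have hqc : ∀ a b : F.toLoc.H ⧸ N, a * b = b * a := by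
    have h2 : ∀ a : F.toLoc.H ⧸ N, a⁻¹ = a := fun a => by
      obtain ⟨g, rfl⟩ := QuotientGroup.mk_surjective a
      refine inv_eq_of_mul_eq_one_left ?_
      rw [← QuotientGroup.mk_mul, QuotientGroup.eq_one_iff, ← pow_two]
      exact hsq g
    intro a b
    have e := h2 (a * b)
    rwa [mul_inv_rev, h2, h2, eq_comm] at e
  have hL1T : F.L1 ≤ F.toLoc.T := fun l hl => (F.L1_le hl).2
  let π1 : F.L1 →* F.toLoc.H := (π F).comp (Subgroup.inclusion hL1T)
  have hπN : ∀ l, π1 l ∈ N := fun l => by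
    rw [← QuotientGroup.eq_one_iff]
    exact perfect_hom_trivial hperf ((QuotientGroup.mk' N).comp π1) (fun a b => hqc _ _) l
  have hnN : ∀ l, nb F * π1 l * (nb F)⁻¹ ∈ N := fun l =>
    Subgroup.Normal.conj_mem inferInstance _ (hπN l) _
  let θ : F.L1 →* alternatingGroup (Fin 5) × alternatingGroup (Fin 5) :=
    eN.toMonoidHom.comp (π1.codRestrict N hπN)
  let φ : F.L1 →* alternatingGroup (Fin 5) × alternatingGroup (Fin 5) :=
    eN.toMonoidHom.comp (((MulAut.conj (nb F)).toMonoidHom.comp π1).codRestrict N hnN)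
  have hzN : zb F h ∈ N := by
    have := mul_mem (hsq (zb F h)) (hsq (zb F h))
    rwa [← pow_add, show 2 + 2 = 3 + 1 from rfl, pow_succ, zb_cube, one_mul] at this
  set ζ := eN ⟨zb F h, hzN⟩ with hζ
  set ξ := θ ⟨F.x, F.x_mem_L1⟩ with hξ
  have hθc : ∀ l, θ l * ζ = ζ * θ l := fun l => by
    show eN _ * eN _ = eN _ * eN _
    rw [← map_mul, ← map_mul]
    congr 1
    refine Subtype.ext ?_
    show π F _ * π F _ = π F _ * π F _
    rw [← map_mul, ← map_mul]
    congr 1
    exact Subtype.ext (mem_centralizer_singleton_iff.1 (d.L_le (F.L1_le l.2).1))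
  have hφc : ∀ l, φ l * ξ = ξ * φ l := fun l => by
    show eN _ * eN _ = eN _ * eN _
    rw [← map_mul, ← map_mul]
    congr 1
    refine Subtype.ext ?_
    show nb F * π1 l * (nb F)⁻¹ * xb F = xb F * (nb F * π1 l * (nb F)⁻¹)
    have e : π1 l * zb F h = zb F h * π1 l := by
      show π F _ * π F _ = π F _ * π F _
      rw [← map_mul, ← map_mul]
      congr 1
      exact Subtype.ext (mem_centralizer_singleton_iff.1 (d.L_le (F.L1_le l.2).1))
    rw [← nb_z F h]
    calc nb F * π1 l * (nb F)⁻¹ * (nb F * zb F h * (nb F)⁻¹)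
        = nb F * (π1 l * zb F h) * (nb F)⁻¹ := by group
      _ = nb F * (zb F h * π1 l) * (nb F)⁻¹ := by rw [e]
      _ = _ := by group
  -- a component centralizing an element of order three is trivial
  have comp_trivial : ∀ (ψ : F.L1 →* alternatingGroup (Fin 5)) (w : alternatingGroup (Fin 5)),
      w ^ 3 = 1 → w ≠ 1 → (∀ l, ψ l * w = w * ψ l) → ∀ l, ψ l = 1 := by
    intro ψ w hw3 hw hc
    refine perfect_hom_trivial hperf ψ fun a b => ?_
    rcases a5_cent w hw3 hw _ (hc a) with e | e | e <;> rw [e]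
    · rw [one_mul, mul_one]
    · exact (hc b).symm
    · exact ((show Commute (ψ b) w from hc b).inv_right).eq.symm
  have hζ3 : ζ ^ 3 = 1 := by
    rw [hζ, ← map_pow, show (⟨zb F h, hzN⟩ : N) ^ 3 = 1 from Subtype.ext (zb_cube F h), map_one]
  have hξne : ξ ≠ 1 := by
    intro e
    refine xb_notMem F h ?_
    have h1 : π1.codRestrict N hπN ⟨F.x, F.x_mem_L1⟩ = 1 := eN.injective (e.trans (map_one eN).symm)
    have h2 : xb F = 1 := congrArg Subtype.val h1
    rw [h2]
    exact one_mem _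
  have hξ3 : ξ ^ 3 = 1 := by
    rw [hξ, ← map_pow, show (⟨F.x, F.x_mem_L1⟩ : F.L1) ^ 3 = 1 from Subtype.ext (x_cube F), map_one]
  -- the two images commute
  have key : ∀ l l', φ l * θ l' = θ l' * φ l := by
    have h1 : ∀ (i : alternatingGroup (Fin 5) × alternatingGroup (Fin 5) →* alternatingGroup (Fin 5)),
        i ζ ≠ 1 → ∀ l, i (θ l) = 1 := fun i hi =>
      comp_trivial (i.comp θ) (i ζ) (by rw [← map_pow, hζ3, map_one]) hi fun l => by
        show i (θ l) * i ζ = i ζ * i (θ l)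
        rw [← map_mul, ← map_mul, hθc]
    have h2 : ∀ (i : alternatingGroup (Fin 5) × alternatingGroup (Fin 5) →* alternatingGroup (Fin 5)),
        i ξ ≠ 1 → ∀ l, i (φ l) = 1 := fun i hi =>
      comp_trivial (i.comp φ) (i ξ) (by rw [← map_pow, hξ3, map_one]) hi fun l => by
        show i (φ l) * i ξ = i ξ * i (φ l)
        rw [← map_mul, ← map_mul, hφc]
    let p1 := MonoidHom.fst (alternatingGroup (Fin 5)) (alternatingGroup (Fin 5))
    let p2 := MonoidHom.snd (alternatingGroup (Fin 5)) (alternatingGroup (Fin 5))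
    have hζne : ζ ≠ 1 := fun e => zb_ne F h (congrArg Subtype.val (eN.injective (e.trans (map_one eN).symm)))
    intro l l'
    by_cases hz1 : p1 ζ = 1
    · have hz2 : p2 ζ ≠ 1 := fun e => hζne (Prod.ext hz1 e)
      have hθ := h1 p2 hz2
      have hx1 : p1 ξ ≠ 1 := fun e => hξne (Prod.ext e (hθ _))
      have hφ := h2 p1 hx1
      refine Prod.ext ?_ ?_
      · show p1 (φ l) * p1 (θ l') = p1 (θ l') * p1 (φ l)
        rw [hφ l, one_mul, mul_one]
      · show p2 (φ l) * p2 (θ l') = p2 (θ l') * p2 (φ l)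
        rw [hθ l', one_mul, mul_one]
    · have hθ := h1 p1 hz1
      have hx2 : p2 ξ ≠ 1 := fun e => hξne (Prod.ext (hθ _) e)
      have hφ := h2 p2 hx2
      refine Prod.ext ?_ ?_
      · show p1 (φ l) * p1 (θ l') = p1 (θ l') * p1 (φ l)
        rw [hθ l', one_mul, mul_one]
      · show p2 (φ l) * p2 (θ l') = p2 (θ l') * p2 (φ l)
        rw [hφ l, one_mul, mul_one]
  -- hence `n f n⁻¹` commutes with `L₁`
  set m := F.n * F.f * F.n⁻¹ with hm
  have hcc : ∀ l ∈ F.L1, m * l * m⁻¹ = l ∨ m * l * m⁻¹ = l * F.t := by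
    intro l hl
    have e0 : (⟨_, hnN ⟨F.f, F.f_mem⟩⟩ : N) * ⟨_, hπN ⟨l, hl⟩⟩ =
        (⟨_, hπN ⟨l, hl⟩⟩ : N) * ⟨_, hnN ⟨F.f, F.f_mem⟩⟩ := eN.injective (by
      rw [map_mul, map_mul]; exact key ⟨F.f, F.f_mem⟩ ⟨l, hl⟩)
    have e := congrArg Subtype.val e0
    have hmT : m ∈ F.toLoc.T :=
      mul_mem (mul_mem (n_mem_T F) (hL1T F.f_mem)) (inv_mem (n_mem_T F))
    have e2 : π F ⟨m, hmT⟩ * π F ⟨l, hL1T hl⟩ = π F ⟨l, hL1T hl⟩ * π F ⟨m, hmT⟩ := by
      have hM : π F ⟨m, hmT⟩ = nb F * π1 ⟨F.f, F.f_mem⟩ * (nb F)⁻¹ := by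
        show π F _ = π F _ * π F _ * (π F _)⁻¹
        rw [← map_inv, ← map_mul, ← map_mul]; rfl
      rw [hM]
      exact e
    have := (π_eq F (a := ⟨m, hmT⟩ * ⟨l, hL1T hl⟩ * ⟨m, hmT⟩⁻¹) (b := ⟨l, hL1T hl⟩)).1 (by
      rw [map_mul, map_mul, map_inv, e2, mul_inv_cancel_right])
    simpa using this
  let Tz : Subgroup G := zpowers F.t
  have hin : ∀ l : F.L1, (l : G)⁻¹ * (m * l * m⁻¹) ∈ Tz := fun l => by
    rcases hcc l l.2 with e | e <;> rw [e]
    · rw [inv_mul_cancel]; exact one_mem _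
    · rw [inv_mul_cancel_left]; exact mem_zpowers _
  have hcomT : ∀ v ∈ Tz, ∀ l : F.L1, Commute v (l : G) := fun v hv l => by
    obtain ⟨i, rfl⟩ := mem_zpowers_iff.1 hv
    exact ((show Commute (l : G) F.t from (mem_T F).1 (hL1T l.2)).symm).zpow_left i
  let ψ : F.L1 →* Tz := MonoidHom.mk' (fun l => ⟨(l : G)⁻¹ * (m * l * m⁻¹), hin l⟩) fun l l' => by
    refine Subtype.ext ?_
    show ((l * l' : F.L1) : G)⁻¹ * (m * ((l * l' : F.L1) : G) * m⁻¹) =
      ((l : G)⁻¹ * (m * l * m⁻¹)) * ((l' : G)⁻¹ * (m * l' * m⁻¹))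
    rw [Subgroup.coe_mul]
    calc ((l : G) * l')⁻¹ * (m * ((l : G) * l') * m⁻¹)
        = (l' : G)⁻¹ * ((l : G)⁻¹ * (m * l * m⁻¹)) * (m * l' * m⁻¹) := by group
      _ = ((l : G)⁻¹ * (m * l * m⁻¹)) * (l' : G)⁻¹ * (m * l' * m⁻¹) := by
          rw [((hcomT _ (hin l) l').inv_right).eq]
      _ = _ := by group
  refine hnc (?_ : Commute m F.f)
  have hone := perfect_hom_trivial hperf ψ (fun a b => Subtype.ext (by
    obtain ⟨i, hi⟩ := mem_zpowers_iff.1 (ψ a).2
    obtain ⟨j, hj⟩ := mem_zpowers_iff.1 (ψ b).2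
    show ((ψ a : Tz) : G) * (ψ b : Tz) = (ψ b : Tz) * (ψ a : Tz)
    rw [← hi, ← hj, zpow_mul_comm])) ⟨F.f, F.f_mem⟩
  have e : F.f⁻¹ * (m * F.f * m⁻¹) = 1 := congrArg Subtype.val hone
  exact mul_inv_eq_iff_eq_mul.1 (inv_mul_eq_one.1 e).symm

/-- `C(t)/t ≅ Sym(8)`. -/
theorem iso (hy : YLocal F) (h : BigCase F) (hnc : ¬ Commute (F.n * F.f * F.n⁻¹) F.f) :
    Nonempty (F.toLoc.H ≃* Equiv.Perm (Fin 8)) := by
  obtain ⟨P, hP⟩ := exists_sylow F
  have hcomm : IsMulCommutative (Dbar F) :=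
    ⟨⟨fun a b => Subtype.ext (Dbar_comm F _ a.2 _ b.2)⟩⟩
  obtain ⟨D', -⟩ := Sym8Three96.exists_data P (Dbar F) hP.symm (yb F h) (zb F h) (closure_yz F h) hcomm
    (card_Dbar F) (Dbar_exp F) (card_norm_Dbar F h) (yb_cent_normal F h hy) (card_cent_yb F h hy)
    (yb_cent_sq F h hy) h.eL
  cases hb : D'.alt
  · exact D'.caseA hb
  · exfalso
    obtain ⟨N, hN, -, ⟨eN⟩, -, -, hsq⟩ := D'.caseB hb
    haveI := hN
    exact no_wreath F h hnc N eN hsq

end Big10

/-- In the automorphism case the centralizer of `t` modulo `t` is `Sym(8)`. -/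
theorem big_iso {G : Type*} [Group G] [Finite G] {d : Data G} (F : Frame d) (hy : YLocal F)
    (h : BigCase F) : Nonempty (F.toLoc.H ≃* Equiv.Perm (Fin 8)) :=
  Big10.iso F hy h F.not_commute

end Cfsg.Agent.McL3x39
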