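import Cfsg.Agent.Lib.McL3Final34
import Cfsg.Agent.Lib.McL3Big10
import Cfsg.Agent.Lib.McL3Simple26
import Cfsg.Agent.Lib.McL3Aut42

/-!
# S3367, S5523, S2913: the recognition modulo the local condition
-/

set_option autoImplicit false

namespace Cfsg.Agent.McL3x39

variable {G : Type*} [Group G] [Finite G]

theorem classification (d : Data G) (hy : ∀ F : Frame d, YLocal F) :
    Nonempty (G ≃* Cfsg.Spor.McL) ∨ Nonempty (G ≃* MulAut Cfsg.Spor.McL) :=
  classify
    { big_iso := fun F hy h => big_iso F hy h
      mcl_of_cover := fun F hy h => mcl_of_cover F hy h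
      aut_of_big := fun F hy h eH => (aut_of_big' F hy h eH).1 }
    d hy

end Cfsg.Agent.McL3x39
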