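import Cfsg.Prelude.Def_SporadicB
import Cfsg.Agent.Lib.McL3Base39
import Cfsg.Agent.Lib.McL3Cases39
import Cfsg.Agent.Lib.McL3A8Base94
import Mathlib.GroupTheory.SpecificGroups.Alternating

/-!
# The centralizer of an involution in the small case: a double cover of `Alt(8)`
-/

set_option autoImplicit false
set_option linter.unusedSectionVars false

namespace Cfsg.Agent.McL3x39

open Subgroup

set_option maxRecDepth 100000 in
theorem McL3Centralizer94.card_sl25 : Fintype.card (Matrix.SpecialLinearGroup (Fin 2) (ZMod 5)) = 120 := by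
  decide +kernel

set_option maxRecDepth 100000 in
theorem sl25_cent94 : ∀ a : Matrix.SpecialLinearGroup (Fin 2) (ZMod 5), a * a * a = 1 → a ≠ 1 →
    ∀ c : Matrix.SpecialLinearGroup (Fin 2) (ZMod 5), c * c = 1 → c ≠ 1 →
    ∀ b : Matrix.SpecialLinearGroup (Fin 2) (ZMod 5), b * a = a * b →
      ∃ i : Fin 3, ∃ j : Fin 2, b = a ^ i.val * c ^ j.val := by decide +kernel

variable {G : Type*} [Group G] [Finite G] {d : Data G}

section Quot94

variable (l : Loc d)

/-- The image of an element of the centralizer of the involution. -/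
abbrev Loc.pr94 : l.T →* l.H := QuotientGroup.mk' l.tT

theorem Loc.t_t94 : l.t * l.t = 1 := by
  have := pow_orderOf_eq_one l.t
  rwa [l.order_t, pow_two] at this

theorem Loc.mem_tT94 {a : l.T} : a ∈ l.tT ↔ (a : G) = 1 ∨ (a : G) = l.t := by
  constructor
  · intro ha
    obtain ⟨i, rfl⟩ := mem_zpowers_iff.1 ha
    have h2 : l.t ^ (2 : ℤ) = 1 := by rw [show (2 : ℤ) = ((2 : ℕ) : ℤ) from rfl, zpow_natCast,
      pow_two, l.t_t94]
    rcases Int.even_or_odd i with ⟨k, rfl⟩ | ⟨k, rfl⟩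
    · left
      show l.t ^ (k + k) = 1
      rw [← two_mul, zpow_mul, h2, one_zpow]
    · right
      show l.t ^ (2 * k + 1) = l.t
      rw [zpow_add, zpow_mul, h2, one_zpow, one_mul, zpow_one]
  · rintro (h | h)
    · rw [show a = 1 from Subtype.ext h]; exact one_mem _
    · have : a = ⟨l.t, mem_centralizer_singleton_iff.2 rfl⟩ := Subtype.ext h
      rw [this]
      exact mem_zpowers _

theorem Loc.eq_of_pr94 {a b : l.T} (ha : (a : G) ^ 3 = 1) (hb : (b : G) ^ 3 = 1)
    (h : l.pr94 a = l.pr94 b) : (a : G) = b := by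
  have hm : a⁻¹ * b ∈ l.tT := QuotientGroup.eq.1 h
  rcases (l.mem_tT94).1 hm with e | e
  · exact inv_mul_eq_one.1 e
  · exfalso
    have hb' : (b : G) = a * l.t := by rw [← e]; simp [mul_assoc]
    have hcom : Commute (a : G) l.t := mem_centralizer_singleton_iff.1 a.2
    rw [hb', hcom.mul_pow, ha, one_mul, show l.t ^ 3 = l.t by rw [pow_succ, pow_two, l.t_t94, one_mul]] at hb
    have := l.order_t
    rw [hb, orderOf_one] at this
    exact absurd this (by norm_num)

theorem Loc.conj_of_pr94 {h a b : l.T} (ha : (a : G) ^ 3 = 1) (hb : (b : G) ^ 3 = 1)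
    (he : l.pr94 h * l.pr94 a * (l.pr94 h)⁻¹ = l.pr94 b) : (h : G) * a * (h : G)⁻¹ = b := by
  rw [← map_inv, ← map_mul, ← map_mul] at he
  exact l.eq_of_pr94 (a := h * a * h⁻¹) (by
    show ((h : G) * a * (h : G)⁻¹) ^ 3 = 1
    rw [conj_pow, ha, mul_one, mul_inv_cancel]) hb he

theorem Loc.card_tT94 : Nat.card l.tT = 2 := by
  rw [show l.tT = zpowers (⟨l.t, mem_centralizer_singleton_iff.2 rfl⟩ : l.T) from rfl,
    Nat.card_zpowers]
  rw [← Subgroup.orderOf_coe]
  exact l.order_t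

theorem Loc.exists_conj94 (hsyl : ∀ R : Subgroup G, IsPGroup 3 R → R ≤ l.T →
      ∃ c ∈ l.T, ∀ a ∈ R, c * a * c⁻¹ ∈ l.D)
    {R : Subgroup l.H} (hR : IsPGroup 3 R) :
    ∃ c : l.H, ∀ w ∈ R, c * w * c⁻¹ ∈ (l.D.subgroupOf l.T).map l.pr94 := by
  haveI : Fact (Nat.Prime 3) := ⟨Nat.prime_three⟩
  let R' := R.comap l.pr94
  obtain ⟨P⟩ : Nonempty (Sylow 3 R') := inferInstance
  let P' : Subgroup G := ((P : Subgroup R').map R'.subtype).map l.T.subtype
  have hP : IsPGroup 3 P' := (P.2.map _).map _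
  obtain ⟨c, hc, hcP⟩ := hsyl P' hP (by rintro _ ⟨a, -, rfl⟩; exact a.2)
  refine ⟨l.pr94 ⟨c, hc⟩, fun w hw => ?_⟩
  -- the image of the Sylow subgroup is all of `R`
  let χ : R' →* R := (l.pr94.comp R'.subtype).codRestrict R (fun a => a.2)
  have hχ : Function.Surjective χ := by
    rintro ⟨b, hb⟩
    obtain ⟨a, rfl⟩ := QuotientGroup.mk'_surjective l.tT b
    exact ⟨⟨a, hb⟩, rfl⟩
  have hmap : (P : Subgroup R').map χ = ⊤ :=
    ((P.mapSurjective hχ).3 (hR.of_equiv (Subgroup.topEquiv (G := R)).symm) le_top).symm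
  obtain ⟨p, hp, hpw⟩ : (⟨w, hw⟩ : R) ∈ (P : Subgroup R').map χ := hmap ▸ mem_top _
  have hpw' : l.pr94 (p : l.T) = w := congrArg Subtype.val hpw
  refine ⟨⟨c, hc⟩ * (p : l.T) * ⟨c, hc⟩⁻¹, hcP _ ⟨_, ⟨p, hp, rfl⟩, rfl⟩, ?_⟩
  rw [map_mul, map_mul, map_inv, hpw']

end Quot94

section Small94

variable (F : Frame d)

set_option maxHeartbeats 1000000 in
theorem small_cover (hy : YLocal F) (h : SmallCase F) :
    Cfsg.IsNonsplitDoubleCover (centralizer ({F.t} : Set G)) (alternatingGroup (Fin 8)) := by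
  classical
  haveI : Fact (Nat.Prime 3) := ⟨Nat.prime_three⟩
  let l := F.toLoc
  -- elements of the centralizer
  have hz3 : d.z ^ 3 = 1 := by rw [← d.order_z]; exact pow_orderOf_eq_one _
  have hx3 : F.x ^ 3 = 1 := by rw [← F.order_x]; exact pow_orderOf_eq_one _
  have hzT : d.z ∈ l.T := mem_centralizer_singleton_iff.2 h.comm
  have hxT : F.x ∈ l.T := (F.L1_le F.x_mem_L1).2
  have hfT : F.f ∈ l.T := (F.L1_le F.f_mem).2
  have hgT : F.g ∈ l.T := mem_centralizer_singleton_iff.2 F.g_comm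
  have hnT : F.n ∈ l.T := mem_centralizer_singleton_iff.2 F.n_comm
  have hzx : d.z * F.x = F.x * d.z := d.J_comm _ d.z_mem_J _ F.x_mem_J
  have hfz : F.f * d.z * F.f⁻¹ = d.z := by
    rw [mem_centralizer_singleton_iff.1 (d.L_le (F.L1_le F.f_mem).1), mul_inv_cancel_right]
  let π : l.T →* l.H := l.pr94
  let tz : l.T := ⟨d.z, hzT⟩
  let tx : l.T := ⟨F.x, hxT⟩
  set zb := π tz with hzb
  set xb := π tx with hxb
  -- the subgroup `D`
  have hDJ : l.D ≤ d.J := (closure_le _).2 (by rintro a (rfl | rfl); exacts [d.z_mem_J, F.x_mem_J])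
  have hDT : l.D ≤ l.T := (closure_le _).2 (by rintro a (rfl | rfl); exacts [hzT, hxT])
  have hzD : d.z ∈ l.D := subset_closure (Or.inl rfl)
  have hxD : F.x ∈ l.D := subset_closure (Or.inr rfl)
  have hD3 : ∀ a ∈ l.D, a ^ 3 = 1 := fun a ha => d.J_exp a (hDJ ha)
  set Db : Subgroup l.H := (l.D.subgroupOf l.T).map π with hDb
  have hzDb : zb ∈ Db := ⟨tz, hzD, rfl⟩
  have hxDb : xb ∈ Db := ⟨tx, hxD, rfl⟩
  have hDinj : Function.Injective
      (fun a : l.D => (⟨π ⟨a, hDT a.2⟩, ⟨a, hDT a.2⟩, a.2, rfl⟩ : Db)) := fun a b hab =>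
    Subtype.ext (l.eq_of_pr94 (a := ⟨a, hDT a.2⟩) (b := ⟨b, hDT b.2⟩) (hD3 a a.2) (hD3 b b.2)
      (congrArg Subtype.val hab))
  have hcardD : Nat.card Db = 9 := by
    rw [← F.card_D]
    refine (Nat.card_eq_of_bijective _ ⟨hDinj, ?_⟩).symm
    rintro ⟨_, a, ha, rfl⟩
    exact ⟨⟨a, ha⟩, rfl⟩
  have hexp : ∀ a ∈ Db, a ^ 3 = 1 := by
    rintro _ ⟨a, ha, rfl⟩
    rw [← map_pow, show a ^ 3 = 1 from Subtype.ext (hD3 a ha), map_one]
  have hcomm : ∀ a ∈ Db, ∀ b ∈ Db, a * b = b * a := by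
    rintro _ ⟨a, ha, rfl⟩ _ ⟨b, hb, rfl⟩
    rw [← map_mul, ← map_mul, show a * b = b * a from Subtype.ext (d.J_comm _ (hDJ ha) _ (hDJ hb))]
  -- the Sylow subgroup
  have hconj := fun (R : Subgroup l.H) (hR : IsPGroup 3 R) => l.exists_conj94 F.sylow hR
  have hDp : IsPGroup 3 Db := IsPGroup.of_card (n := 2) (by rw [hcardD]; norm_num)
  obtain ⟨P, hP⟩ := hDp.exists_le_sylow
  have hDP : Db = (P : Subgroup l.H) := by
    refine eq_of_le_of_card_ge hP ?_
    obtain ⟨c, hc⟩ := hconj P P.2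
    refine le_of_eq_of_le (card_map_of_injective (f := (MulAut.conj c).toMonoidHom) (MulAut.conj c).injective).symm (card_le_of_le ?_)
    rintro _ ⟨w, hw, rfl⟩
    exact hc w hw
  -- distinct elements
  have hne : ∀ a b : G, a ∈ l.D → b ∈ l.D → a ≠ b → ∀ (ha : a ∈ l.T) (hb : b ∈ l.T),
      π ⟨a, ha⟩ ≠ π ⟨b, hb⟩ := fun a b had hbd hab ha hb e =>
    hab (l.eq_of_pr94 (a := ⟨a, ha⟩) (b := ⟨b, hb⟩) (hD3 a had) (hD3 b hbd) e)
  have hz1 : d.z ≠ 1 := fun e => by simpa [e] using d.order_z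
  have hx1 : F.x ≠ 1 := fun e => by simpa [e] using F.order_x
  have hxz : F.x ∉ zpowers d.z := fun hx => by
    have hle : l.D ≤ zpowers d.z := (closure_le _).2 (by rintro a (rfl | rfl); exacts [mem_zpowers _, hx])
    have := card_le_of_le hle
    rw [show Nat.card l.D = 9 from F.card_D, Nat.card_zpowers, d.order_z] at this
    omega
  have dz : zb ≠ zb⁻¹ := by
    refine hne d.z d.z⁻¹ hzD (inv_mem hzD) (fun e => ?_) hzT (inv_mem hzT)
    apply hz1
    calc d.z = d.z ^ 3 * (d.z * d.z)⁻¹ := by group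
      _ = 1 := by rw [hz3, show d.z * d.z = 1 by nth_rewrite 2 [e]; exact mul_inv_cancel _]; group
  have dx : xb ≠ xb⁻¹ := by
    refine hne F.x F.x⁻¹ hxD (inv_mem hxD) (fun e => ?_) hxT (inv_mem hxT)
    apply hx1
    calc F.x = F.x ^ 3 * (F.x * F.x)⁻¹ := by group
      _ = 1 := by rw [hx3, show F.x * F.x = 1 by nth_rewrite 2 [e]; exact mul_inv_cancel _]; group
  have dzx : zb ≠ xb ∧ zb ≠ xb⁻¹ := by
    refine ⟨hne d.z F.x hzD hxD (fun e => hxz (e ▸ mem_zpowers _)) hzT hxT,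
      hne d.z F.x⁻¹ hzD (inv_mem hxD) (fun e => hxz ?_) hzT (inv_mem hxT)⟩
    rw [show F.x = d.z⁻¹ by rw [e, inv_inv]]
    exact inv_mem (mem_zpowers _)
  -- powers
  have hpow : ∀ {a b : G}, b ^ 3 = 1 → a ∈ zpowers b → a ≠ 1 → a = b ∨ a = b⁻¹ := by
    intro a b hb ha ha1
    obtain ⟨i, rfl⟩ := mem_zpowers_iff.1 ha
    have hb' : b ^ (3 : ℤ) = 1 := by exact_mod_cast hb
    have h3 : b ^ i = b ^ (i % 3) := by
      conv_lhs => rw [← Int.emod_add_mul_ediv i 3, zpow_add, zpow_mul, hb', one_zpow, mul_one]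
    rcases (by omega : i % 3 = 0 ∨ i % 3 = 1 ∨ i % 3 = 2) with e | e | e
    · exact absurd (by rw [h3, e, zpow_zero]) ha1
    · left; rw [h3, e, zpow_one]
    · right
      rw [h3, e]
      refine eq_inv_of_mul_eq_one_left ?_
      rw [← zpow_add_one]
      exact hb'
  -- the images of `z` and `x` under the normalizer
  have hfour : ∀ q ∈ normalizer (Db : Set l.H), ∀ a, a = zb ∨ a = xb →
      q * a * q⁻¹ = zb ∨ q * a * q⁻¹ = zb⁻¹ ∨ q * a * q⁻¹ = xb ∨ q * a * q⁻¹ = xb⁻¹ := by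
    intro q hq a ha
    obtain ⟨hh, rfl⟩ := QuotientGroup.mk'_surjective l.tT q
    obtain ⟨u, rfl, huD, huc⟩ : ∃ u : l.T, π u = a ∧ (u : G) ∈ l.D ∧ IsConj d.z (u : G) := by
      rcases ha with rfl | rfl
      · exact ⟨tz, rfl, hzD, IsConj.refl _⟩
      · exact ⟨tx, rfl, hxD, isConj_iff.2 ⟨F.n, F.n_z⟩⟩
    obtain ⟨b, hb, eb⟩ := (mem_normalizer_iff.1 hq (π u)).1 ⟨u, huD, rfl⟩
    have hG : (hh : G) * u * (hh : G)⁻¹ = b := l.conj_of_pr94 (hD3 _ huD) (hD3 _ hb) eb.symm
    have hc : IsConj d.z (b : G) := huc.trans (isConj_iff.2 ⟨hh, hG⟩)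
    have hb1 : (b : G) ≠ 1 := fun e => by
      rw [e, isConj_one_left] at hc
      exact hz1 hc
    show π hh * π u * (π hh)⁻¹ = _ ∨ _
    rw [← eb]
    rcases F.fusion _ hb hc with hm | hm
    · rcases hpow hz3 hm hb1 with e | e
      · left; rw [show b = tz from Subtype.ext e]
      · right; left; rw [show b = tz⁻¹ from Subtype.ext e, map_inv]
    · rcases hpow hx3 hm hb1 with e | e
      · right; right; left; rw [show b = tx from Subtype.ext e]
      · right; right; right; rw [show b = tx⁻¹ from Subtype.ext e, map_inv]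
  have hgen : closure {zb * xb, zb} = Db := by
    refine le_antisymm ((closure_le _).2 (by rintro a (rfl | rfl); exacts [mul_mem hzDb hxDb, hzDb])) ?_
    rintro _ ⟨a, ha, rfl⟩
    have key : l.D.subgroupOf l.T ≤ (closure {zb * xb, zb}).comap π := by
      have h1 : closure ({tz, tx} : Set l.T) = l.D.subgroupOf l.T := by
        apply Subgroup.map_injective l.T.subtype_injective
        rw [MonoidHom.map_closure, subgroupOf_map_subtype, inf_eq_left.2 hDT]
        show Subgroup.closure (_ '' _) = Subgroup.closure {d.z, F.x}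
        rw [Set.image_pair]
        rfl
      rw [← h1, closure_le]
      rintro b (rfl | rfl)
      · exact subset_closure (Or.inr rfl)
      · show xb ∈ closure {zb * xb, zb}
        have hm : zb⁻¹ * (zb * xb) ∈ closure {zb * xb, zb} :=
          mul_mem (inv_mem (subset_closure (Or.inr rfl))) (subset_closure (Or.inl rfl))
        rwa [inv_mul_cancel_left] at hm
    exact key ha
  -- the centralizer of `D`
  have hCD : centralizer (Db : Set l.H) = Db := by
    refine le_antisymm (fun q hq => ?_) (fun q hq a ha => hcomm a ha q hq)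
    obtain ⟨hh, rfl⟩ := QuotientGroup.mk'_surjective l.tT q
    have hc : ∀ u : l.T, (u : G) ∈ l.D → (hh : G) * u = u * (hh : G) := fun u hu => by
      refine mul_inv_eq_iff_eq_mul.1 (l.conj_of_pr94 (hD3 _ hu) (hD3 _ hu) ?_)
      rw [mul_inv_eq_iff_eq_mul]
      exact (hq (π u) ⟨u, hu, rfl⟩).symm
    have hhz := hc tz hzD
    have hhx := hc tx hxD
    -- `C(z) ∩ T = ⟨z⟩ L1`
    obtain ⟨e⟩ := F.eL1
    set W := centralizer ({d.z} : Set G) ⊓ centralizer ({F.t} : Set G) with hW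
    let φ : Fin 3 × F.L1 → W := fun p => ⟨d.z ^ p.1.val * p.2, mul_mem
      (pow_mem (show d.z ∈ W from ⟨mem_centralizer_singleton_iff.2 rfl, hzT⟩) _)
      (show (p.2 : G) ∈ W from ⟨d.L_le (F.L1_le p.2.2).1, (F.L1_le p.2.2).2⟩)⟩
    have hφ : Function.Bijective φ := by
      rw [Nat.bijective_iff_injective_and_card]
      refine ⟨fun p q e => ?_, ?_⟩
      · have e' : d.z ^ p.1.val * (p.2 : G) = d.z ^ q.1.val * q.2 := congrArg Subtype.val e
        have hm : (d.z ^ q.1.val)⁻¹ * d.z ^ p.1.val ∈ F.L1 := by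
          rw [show (d.z ^ q.1.val)⁻¹ * d.z ^ p.1.val = (q.2 : G) * (p.2 : G)⁻¹ by
            rw [inv_mul_eq_iff_eq_mul, ← mul_assoc, eq_mul_inv_iff_mul_eq, e']]
          exact mul_mem q.2.2 (inv_mem p.2.2)
        have hpq : p.1 = q.1 := by
          by_contra hne'
          have hmz : (d.z ^ q.1.val)⁻¹ * d.z ^ p.1.val ∈ zpowers d.z :=
            mul_mem (inv_mem (pow_mem (mem_zpowers _) _)) (pow_mem (mem_zpowers _) _)
          have hne1 : (d.z ^ q.1.val)⁻¹ * d.z ^ p.1.val ≠ 1 := fun h1 => hne' (Fin.ext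
            (pow_injOn_Iio_orderOf (x := d.z) (by simp [d.order_z, p.1.2]) (by simp [d.order_z, q.1.2])
              (inv_mul_eq_one.1 h1).symm))
          rcases hpow hz3 hmz hne1 with e1 | e1 <;> rw [e1] at hm
          · exact F.z_notMem hm
          · exact F.z_notMem (inv_inv d.z ▸ inv_mem hm)
        exact Prod.ext hpq (Subtype.ext (mul_left_cancel (hpq ▸ e')))
      · rw [Nat.card_prod, Nat.card_fin, Nat.card_congr e.toEquiv, h.card_cent,
          Nat.card_eq_fintype_card, McL3Centralizer94.card_sl25]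
    obtain ⟨⟨i, ⟨b, hb⟩⟩, eb⟩ := hφ.2 ⟨(hh : G), mem_centralizer_singleton_iff.2 hhz, hh.2⟩
    have eb' : d.z ^ i.val * b = (hh : G) := congrArg Subtype.val eb
    have hbx : b * F.x = F.x * b := by
      have hzi : Commute (d.z ^ i.val) F.x := (show Commute d.z F.x from hzx).pow_left _
      have h1 : Commute ((d.z ^ i.val)⁻¹ * (d.z ^ i.val * b)) F.x :=
        (hzi.inv_left).mul_left (eb' ▸ hhx)
      exact (show Commute b F.x by simpa using h1).eq
    set a := e ⟨F.x, F.x_mem_L1⟩ with ha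
    set c := e ⟨F.t, F.t_mem_L1⟩ with hc'
    have ha3 : a * a * a = 1 := by
      rw [ha, ← map_mul, ← map_mul, ← map_one e]
      congr 1
      exact Subtype.ext (show F.x * F.x * F.x = 1 by rw [← hx3, pow_succ, pow_two])
    have ha1 : a ≠ 1 := fun h1 => hx1 (congrArg Subtype.val ((map_eq_one_iff e e.injective).1 h1))
    have hc2 : c * c = 1 := by
      rw [hc', ← map_mul, ← map_one e]; congr 1; exact Subtype.ext l.t_t94
    have hc1 : c ≠ 1 := fun h1 => by
      have := F.order_t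
      rw [show F.t = 1 from congrArg Subtype.val ((map_eq_one_iff e e.injective).1 h1), orderOf_one] at this
      exact absurd this (by norm_num)
    obtain ⟨j, k, ejk⟩ := sl25_cent94 a ha3 ha1 c hc2 hc1 (e ⟨b, hb⟩)
      (by rw [ha, ← map_mul, ← map_mul]; exact congrArg e (Subtype.ext hbx))
    rw [ha, hc', ← map_pow, ← map_pow, ← map_mul] at ejk
    have ebb : b = F.x ^ j.val * F.t ^ k.val := congrArg Subtype.val (e.injective ejk)
    have : hh = tz ^ i.val * tx ^ j.val * (⟨F.t, mem_centralizer_singleton_iff.2 rfl⟩ : l.T) ^ k.val :=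
      Subtype.ext (by rw [← eb', ebb]; simp [mul_assoc, tz, tx])
    rw [this]
    have ht : π (⟨F.t, mem_centralizer_singleton_iff.2 rfl⟩ : l.T) = 1 :=
      (QuotientGroup.eq_one_iff _).2 (mem_zpowers _)
    show π _ ∈ Db
    rw [map_mul, map_mul, map_pow, map_pow, map_pow, ht, one_pow, mul_one]
    exact mul_mem (pow_mem hzDb _) (pow_mem hxDb _)
  -- the action of `g`, `n`, `f`
  set gb := π ⟨F.g, hgT⟩ with hgb
  set nb := π ⟨F.n, hnT⟩ with hnb
  set fb := π ⟨F.f, hfT⟩ with hfb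
  have hact : ∀ (u v w : G) (hu : u ∈ l.T) (hv : v ∈ l.T) (hw : w ∈ l.T), u * v * u⁻¹ = w →
      π ⟨u, hu⟩ * π ⟨v, hv⟩ * (π ⟨u, hu⟩)⁻¹ = π ⟨w, hw⟩ := by
    intro u v w hu hv hw e
    rw [← map_inv, ← map_mul, ← map_mul]
    exact congrArg π (Subtype.ext e)
  have gz : gb * zb * gb⁻¹ = zb⁻¹ := by
    rw [hzb, ← map_inv π tz]; exact hact _ _ _ hgT hzT (inv_mem hzT) F.g_z
  have gx : gb * xb * gb⁻¹ = xb⁻¹ := by
    rw [hxb, ← map_inv π tx]; exact hact _ _ _ hgT hxT (inv_mem hxT) F.g_x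
  have nz : nb * zb * nb⁻¹ = xb := hact _ _ _ hnT hzT hxT F.n_z
  have nx : nb * xb * nb⁻¹ = zb := hact _ _ _ hnT hxT hzT F.n_x
  have fz : fb * zb * fb⁻¹ = zb := hact _ _ _ hfT hzT hzT hfz
  have fx : fb * xb * fb⁻¹ = xb⁻¹ := by
    rw [hxb, ← map_inv π tx]; exact hact _ _ _ hfT hxT (inv_mem hxT) F.f_conj
  have hnorm : ∀ w : l.H, w * zb * w⁻¹ ∈ Db → w * xb * w⁻¹ ∈ Db → w ∈ normalizer (Db : Set l.H) := by
    intro w h1 h2
    refine mem_normalizer_fintype fun a ha => ?_
    have hle : Db ≤ Db.comap (MulAut.conj w).toMonoidHom := by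
      conv_lhs => rw [← hgen]
      rw [closure_le]
      rintro a (rfl | rfl)
      · show w * (zb * xb) * w⁻¹ ∈ Db
        rw [show w * (zb * xb) * w⁻¹ = (w * zb * w⁻¹) * (w * xb * w⁻¹) by group]
        exact mul_mem h1 h2
      · exact h1
    exact hle ha
  have hgN : gb ∈ normalizer (Db : Set l.H) :=
    hnorm _ (gz ▸ inv_mem hzDb) (gx ▸ inv_mem hxDb)
  have hnN : nb ∈ normalizer (Db : Set l.H) := hnorm _ (nz ▸ hxDb) (nx ▸ hzDb)
  have hfN : fb ∈ normalizer (Db : Set l.H) := hnorm _ (by rw [fz]; exact hzDb) (by rw [fx]; exact inv_mem hxDb)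
  let wd : Bool × Bool × Bool → l.H := fun s =>
    (bif s.1 then nb else 1) * (bif s.2.1 then gb else 1) * (bif s.2.2 then fb else 1)
  have hwN : ∀ s, wd s ∈ normalizer (Db : Set l.H) := fun s => by
    refine mul_mem (mul_mem ?_ ?_) ?_
    · cases s.1 <;> [exact one_mem _; exact hnN]
    · cases s.2.1 <;> [exact one_mem _; exact hgN]
    · cases s.2.2 <;> [exact one_mem _; exact hfN]
  have cinv : ∀ w u v : l.H, w * u * w⁻¹ = v → w * u⁻¹ * w⁻¹ = v⁻¹ := fun w u v e => by rw [← e]; group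
  have gzi := cinv _ _ _ gz
  have gxi := cinv _ _ _ gx
  have nzi := cinv _ _ _ nz
  have nxi := cinv _ _ _ nx
  have fzi := cinv _ _ _ fz
  have fxi := cinv _ _ _ fx
  have e : ∀ u v r : l.H, u * v * r * (u * v)⁻¹ = u * (v * r * v⁻¹) * u⁻¹ := fun u v r => by group
  have hwz : ∀ s, wd s * zb * (wd s)⁻¹ =
      bif s.1 then (bif s.2.1 then xb⁻¹ else xb) else (bif s.2.1 then zb⁻¹ else zb) := by
    rintro ⟨a, b, c⟩
    cases a <;> cases b <;> cases c <;>
      simp only [wd, cond_true, cond_false, one_mul, mul_one, e, gz, nz, fz, nzi, inv_one]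
  have hwx : ∀ s, wd s * xb * (wd s)⁻¹ =
      bif s.1 then (bif xor s.2.1 s.2.2 then zb⁻¹ else zb)
        else (bif xor s.2.1 s.2.2 then xb⁻¹ else xb) := by
    rintro ⟨a, b, c⟩
    cases a <;> cases b <;> cases c <;>
      simp only [wd, cond_true, cond_false, one_mul, mul_one, e, gx, nx, fx, gxi, nxi, fxi, gz, gzi, inv_one,
        inv_inv, Bool.xor_false, Bool.xor_true, Bool.not_false, Bool.not_true]
  have hconjD : ∀ a ∈ Db, ∀ b ∈ Db, a * b * a⁻¹ = b := fun a ha b hb => by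
    rw [hcomm a ha b hb, mul_inv_cancel_right]
  have hsame : ∀ q w : l.H, q * zb * q⁻¹ = w * zb * w⁻¹ → q * xb * q⁻¹ = w * xb * w⁻¹ →
      w⁻¹ * q ∈ Db := by
    intro q w h1 h2
    rw [← hCD]
    have h1' : w⁻¹ * q * zb = zb * (w⁻¹ * q) := by
      calc w⁻¹ * q * zb = w⁻¹ * (q * zb * q⁻¹) * q := by group
        _ = _ := by rw [h1]; group
    have h2' : w⁻¹ * q * xb = xb * (w⁻¹ * q) := by
      calc w⁻¹ * q * xb = w⁻¹ * (q * xb * q⁻¹) * q := by group
        _ = _ := by rw [h2]; group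
    refine fun a ha => ?_
    have hle : Db ≤ centralizer ({w⁻¹ * q} : Set l.H) := by
      conv_lhs => rw [← hgen]
      rw [closure_le]
      rintro a (rfl | rfl)
      · exact mul_mem (mem_centralizer_singleton_iff.2 h1'.symm) (mem_centralizer_singleton_iff.2 h2'.symm)
      · exact mem_centralizer_singleton_iff.2 h1'.symm
    exact mem_centralizer_singleton_iff.1 (hle ha)
  have hcl : ∀ q ∈ normalizer (Db : Set l.H), ∃ s, ∃ a ∈ Db, q = wd s * a := by
    intro q hq
    obtain ⟨s, h1, h2⟩ : ∃ s, q * zb * q⁻¹ = wd s * zb * (wd s)⁻¹ ∧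
        q * xb * q⁻¹ = wd s * xb * (wd s)⁻¹ := by
      have inj : ∀ u v : l.H, q * u * q⁻¹ = q * v * q⁻¹ → u = v := fun u v e =>
        mul_left_cancel (mul_right_cancel e)
      have einv : ∀ u v : l.H, q * u * q⁻¹ = v → q * u⁻¹ * q⁻¹ = v⁻¹ := fun u v e => by
        rw [← e]; group
      rcases hfour q hq zb (Or.inl rfl) with e1 | e1 | e1 | e1 <;>
        rcases hfour q hq xb (Or.inr rfl) with e2 | e2 | e2 | e2
      · exact absurd (inj _ _ (e1.trans e2.symm)) dzx.1
      · exact absurd (inj _ _ (e1.trans (by rw [einv _ _ e2, inv_inv]))) dzx.2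
      · exact ⟨(false, false, false), by rw [hwz, hwx, e1, e2]; exact ⟨rfl, rfl⟩⟩
      · exact ⟨(false, false, true), by rw [hwz, hwx, e1, e2]; exact ⟨rfl, rfl⟩⟩
      · exact absurd (inj _ _ (e1.trans (by rw [einv _ _ e2]))) dzx.2
      · exact absurd (inj _ _ (e1.trans e2.symm)) dzx.1
      · exact ⟨(false, true, true), by rw [hwz, hwx, e1, e2]; exact ⟨rfl, rfl⟩⟩
      · exact ⟨(false, true, false), by rw [hwz, hwx, e1, e2]; exact ⟨rfl, rfl⟩⟩
      · exact ⟨(true, false, false), by rw [hwz, hwx, e1, e2]; exact ⟨rfl, rfl⟩⟩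
      · exact ⟨(true, false, true), by rw [hwz, hwx, e1, e2]; exact ⟨rfl, rfl⟩⟩
      · exact absurd (inj _ _ (e1.trans e2.symm)) dzx.1
      · exact absurd (inj _ _ (e1.trans (by rw [einv _ _ e2, inv_inv]))) dzx.2
      · exact ⟨(true, true, true), by rw [hwz, hwx, e1, e2]; exact ⟨rfl, rfl⟩⟩
      · exact ⟨(true, true, false), by rw [hwz, hwx, e1, e2]; exact ⟨rfl, rfl⟩⟩
      · exact absurd (inj _ _ (e1.trans (by rw [einv _ _ e2]))) dzx.2
      · exact absurd (inj _ _ (e1.trans e2.symm)) dzx.1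
    exact ⟨s, (wd s)⁻¹ * q, hsame q _ h1 h2, by group⟩
  have hinj8 : ∀ s s', ∀ a ∈ Db, ∀ a' ∈ Db, wd s * a = wd s' * a' → s = s' := by
    intro s s' a ha a' ha' e
    have c1 : ∀ (s : Bool × Bool × Bool), ∀ a ∈ Db, ∀ u ∈ Db,
        (wd s * a) * u * (wd s * a)⁻¹ = wd s * u * (wd s)⁻¹ := by
      intro s a ha u hu
      calc (wd s * a) * u * (wd s * a)⁻¹ = wd s * (a * u * a⁻¹) * (wd s)⁻¹ := by group
        _ = _ := by rw [hconjD a ha u hu]
    have e1 : wd s * zb * (wd s)⁻¹ = wd s' * zb * (wd s')⁻¹ := by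
      rw [← c1 s a ha zb hzDb, ← c1 s' a' ha' zb hzDb, e]
    have e2 : wd s * xb * (wd s)⁻¹ = wd s' * xb * (wd s')⁻¹ := by
      rw [← c1 s a ha xb hxDb, ← c1 s' a' ha' xb hxDb, e]
    rw [hwz, hwz] at e1
    rw [hwx, hwx] at e2
    have d1 : ∀ p q p' q' : Bool, (bif p then (bif q then xb⁻¹ else xb) else (bif q then zb⁻¹ else zb)) =
        (bif p' then (bif q' then xb⁻¹ else xb) else (bif q' then zb⁻¹ else zb)) → p = p' ∧ q = q' := by
      have h5 : xb ≠ zb⁻¹ := fun h => dzx.2 (by rw [h, inv_inv])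
      intro p q p' q' e
      cases p <;> cases q <;> cases p' <;> cases q' <;> simp only [cond_true, cond_false] at e <;>
        first
          | exact ⟨rfl, rfl⟩
          | exact absurd e dz
          | exact absurd e dz.symm
          | exact absurd e dx
          | exact absurd e dx.symm
          | exact absurd e dzx.1
          | exact absurd e dzx.1.symm
          | exact absurd e dzx.2
          | exact absurd e dzx.2.symm
          | exact absurd e h5
          | exact absurd e h5.symm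
          | exact absurd (inv_injective e) dzx.1
          | exact absurd (inv_injective e) dzx.1.symm
    have d2 : ∀ q q' : Bool, ∀ p : Bool, (bif p then (bif q then zb⁻¹ else zb) else (bif q then xb⁻¹ else xb)) =
        (bif p then (bif q' then zb⁻¹ else zb) else (bif q' then xb⁻¹ else xb)) → q = q' := by
      intro q q' p e
      cases p <;> cases q <;> cases q' <;> simp only [cond_true, cond_false] at e <;>
        first
          | rfl
          | exact absurd e dz
          | exact absurd e dz.symm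
          | exact absurd e dx
          | exact absurd e dx.symm
    obtain ⟨h1, h2⟩ := d1 _ _ _ _ e1
    obtain ⟨a1, b1, c1'⟩ := s
    obtain ⟨a2, b2, c2'⟩ := s'
    simp only at h1 h2 e2
    subst h1; subst h2
    have := d2 _ _ _ e2
    cases b1 <;> cases c1' <;> cases c2' <;> first | rfl | cases this
  have hN : Nat.card (normalizer (Db : Set l.H)) = 72 := by
    let f : (Bool × Bool × Bool) × Db → normalizer (Db : Set l.H) :=
      fun p => ⟨wd p.1 * p.2, mul_mem (hwN _) (Subgroup.le_normalizer p.2.2)⟩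
    rw [← Nat.card_eq_of_bijective f ⟨fun p q e => ?_, fun q => ?_⟩]
    · simp [Nat.card_prod, hcardD, Nat.card_eq_fintype_card (α := Bool)]
    · have e' : wd p.1 * p.2 = wd q.1 * q.2 := congrArg Subtype.val e
      have hs := hinj8 _ _ _ p.2.2 _ q.2.2 e'
      exact Prod.ext hs (Subtype.ext (mul_left_cancel (hs ▸ e')))
    · obtain ⟨s, a, ha, e⟩ := hcl q q.2
      exact ⟨(s, ⟨a, ha⟩), Subtype.ext e.symm⟩
  -- the centralizer of `z x`
  have hyle : centralizer ({zb * xb} : Set l.H) ≤ normalizer (Db : Set l.H) := by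
    intro q hq
    obtain ⟨hh, rfl⟩ := QuotientGroup.mk'_surjective l.tT q
    have hy1 : d.z * F.x ∈ l.D := mul_mem hzD hxD
    have hq' : (hh : G) * (d.z * F.x) = d.z * F.x * (hh : G) := by
      refine mul_inv_eq_iff_eq_mul.1 (l.conj_of_pr94 (a := tz * tx) (b := tz * tx) (hD3 _ hy1) (hD3 _ hy1) ?_)
      rw [mul_inv_eq_iff_eq_mul]
      show π hh * π (tz * tx) = π (tz * tx) * π hh
      rw [map_mul]
      exact mem_centralizer_singleton_iff.1 hq
    have hJ : (hh : G) ∈ normalizer (d.J : Set G) := by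
      refine hy (d.z * F.x) hy1 (fun hm => hxz ?_) (fun hm => hxz ?_)
        (mem_centralizer_singleton_iff.2 hq')
      · simpa using mul_mem (inv_mem (mem_zpowers d.z)) hm
      · have hzm : d.z ∈ zpowers F.x := by simpa using mul_mem hm (inv_mem (mem_zpowers F.x))
        rcases hpow hx3 hzm hz1 with e | e
        · exact e ▸ mem_zpowers _
        · rw [show F.x = d.z⁻¹ by rw [e, inv_inv]]; exact inv_mem (mem_zpowers _)
    refine mem_normalizer_fintype ?_
    rintro _ ⟨a, ha, rfl⟩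
    refine ⟨hh * a * hh⁻¹, (F.cent_D _ ((mem_normalizer_iff.1 hJ _).1 (hDJ ha))).1 ?_, by simp [π]⟩
    exact ((mem_centralizer_singleton_iff.1 (hh * a * hh⁻¹).2)).symm
  have hycard : Nat.card (centralizer ({zb * xb} : Set l.H)) = 18 := by
    have hny : nb * (zb * xb) * nb⁻¹ = zb * xb := by
      rw [show nb * (zb * xb) * nb⁻¹ = (nb * zb * nb⁻¹) * (nb * xb * nb⁻¹) by group, nz, nx,
        hcomm xb hxDb zb hzDb]
    have hnc : nb ∈ centralizer ({zb * xb} : Set l.H) :=
      mem_centralizer_singleton_iff.2 (mul_inv_eq_iff_eq_mul.1 hny)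
    have hDc : Db ≤ centralizer ({zb * xb} : Set l.H) := fun a ha =>
      mem_centralizer_singleton_iff.2 (hcomm a ha _ (mul_mem hzDb hxDb))
    let f : Bool × Db → centralizer ({zb * xb} : Set l.H) := fun p =>
      ⟨(bif p.1 then nb else 1) * p.2, mul_mem (by cases p.1 <;> [exact one_mem _; exact hnc]) (hDc p.2.2)⟩
    rw [← Nat.card_eq_of_bijective f ⟨fun p q e => ?_, fun q => ?_⟩]
    · simp [Nat.card_prod, hcardD, Nat.card_eq_fintype_card (α := Bool)]
    · have e' : (bif p.1 then nb else 1) * (p.2 : l.H) = (bif q.1 then nb else 1) * q.2 :=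
        congrArg Subtype.val e
      have hw : ∀ b : Bool, wd (b, false, false) = bif b then nb else 1 := fun b => by simp [wd]
      rw [← hw, ← hw] at e'
      have hs : p.1 = q.1 := (Prod.ext_iff.1 (hinj8 _ _ _ p.2.2 _ q.2.2 e')).1
      exact Prod.ext hs (Subtype.ext (mul_left_cancel (hs ▸ e')))
    · obtain ⟨s, a, ha, e⟩ := hcl q (hyle q.2)
      have hfix : wd s * (zb * xb) * (wd s)⁻¹ = zb * xb := by
        have h1 : (q : l.H) * (zb * xb) * (q : l.H)⁻¹ = zb * xb :=
          mul_inv_eq_iff_eq_mul.2 (mem_centralizer_singleton_iff.1 q.2)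
        calc wd s * (zb * xb) * (wd s)⁻¹
            = wd s * a * (a⁻¹ * (zb * xb) * a⁻¹⁻¹) * (wd s * a)⁻¹ := by group
          _ = _ := by rw [hconjD _ (inv_mem ha) _ (mul_mem hzDb hxDb), ← e, h1]
      rw [show wd s * (zb * xb) * (wd s)⁻¹ = (wd s * zb * (wd s)⁻¹) * (wd s * xb * (wd s)⁻¹) by group,
        hwz, hwx] at hfix
      obtain ⟨p, b, c⟩ := s
      have key : b = false ∧ c = false := by
        have hz3b : zb * zb * zb = 1 := by
          have := hexp zb hzDb; rwa [pow_succ, pow_two] at this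
        have hx3b : xb * xb * xb = 1 := by
          have := hexp xb hxDb; rwa [pow_succ, pow_two] at this
        have both : zb⁻¹ * xb⁻¹ = zb * xb → False := fun h => by
          have h2 : (zb * xb) * (zb * xb) = 1 := by
            nth_rewrite 1 [← h]
            rw [hcomm _ (inv_mem hzDb) _ (inv_mem hxDb), ← mul_inv_rev, inv_mul_cancel]
          have h3 := hexp _ (mul_mem hzDb hxDb)
          rw [pow_succ, pow_two, h2, one_mul] at h3
          exact dzx.2 (eq_inv_of_mul_eq_one_left h3)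
        have onez : ∀ u, u * xb = zb * xb → u = zb := fun u h => mul_right_cancel h
        have onex : ∀ u, zb * u = zb * xb → u = xb := fun u h => mul_left_cancel h
        cases p <;> cases b <;> cases c <;>
          simp only [cond_true, cond_false, Bool.xor_false, Bool.xor_true, Bool.not_false,
            Bool.not_true] at hfix
        · exact ⟨rfl, rfl⟩
        · exact absurd (onex _ hfix).symm dx
        · exact (both hfix).elim
        · exact absurd (onez _ hfix).symm dz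
        · exact ⟨rfl, rfl⟩
        · exact absurd (onez _ ((hcomm _ (inv_mem hzDb) _ hxDb).trans hfix)).symm dz
        · exact (both ((hcomm _ (inv_mem hzDb) _ (inv_mem hxDb)).trans hfix)).elim
        · exact absurd (onex _ ((hcomm _ hzDb _ (inv_mem hxDb)).trans hfix)).symm dx
      obtain ⟨rfl, rfl⟩ := key
      exact ⟨(p, ⟨a, ha⟩), Subtype.ext (by rw [e]; cases p <;> simp [f, wd])⟩
  -- the quotient
  obtain ⟨eL⟩ := h.eL
  haveI : IsMulCommutative Db := ⟨⟨fun a b => Subtype.ext (hcomm a a.2 b b.2)⟩⟩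
  obtain ⟨iso⟩ := McL3A8Base94.iso_alt_eight P Db hDP (zb * xb) zb hgen inferInstance hcardD hexp hCD
    hN hyle hycard eL
  -- the double cover
  show Cfsg.IsNonsplitDoubleCover l.T (alternatingGroup (Fin 8))
  have hcen : center l.T = l.tT := by
    refine le_antisymm (fun a ha => ?_) (zpowers_le.2 (mem_center_iff.2 fun b =>
      Subtype.ext (mem_centralizer_singleton_iff.1 b.2)))
    apply (QuotientGroup.eq_one_iff (N := l.tT) a).1
    have h1 : iso (a : l.H) ∈ center (alternatingGroup (Fin 8)) := mem_center_iff.2 fun b => by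
      obtain ⟨q, rfl⟩ := iso.surjective b
      obtain ⟨hh, rfl⟩ := QuotientGroup.mk'_surjective l.tT q
      rw [← map_mul, ← map_mul]
      exact congrArg iso (congrArg π (mem_center_iff.1 ha hh))
    rw [_root_.alternatingGroup.center_eq_bot (by simp), mem_bot] at h1
    exact (map_eq_one_iff iso iso.injective).1 h1
  refine ⟨hcen ▸ l.card_tT94, ⟨(QuotientGroup.quotientMulEquivOfEq hcen).trans iso⟩, fun K hK => ?_⟩
  rw [hcen] at hK
  obtain ⟨⟨⟨c, hc⟩, ⟨k, hk⟩⟩, e⟩ := (hK.existsUnique ⟨F.f, hfT⟩).exists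
  replace e : c * k = (⟨F.f, hfT⟩ : l.T) := e
  have htK : (⟨F.t, mem_centralizer_singleton_iff.2 rfl⟩ : l.T) ∈ K := by
    have hcc : c * c = 1 := by
      rcases (l.mem_tT94).1 hc with h1 | h1 <;> apply Subtype.ext <;> simp [h1, l.t_t94]
    have hcomm' : c * k = k * c := (mem_center_iff.1 (hcen ▸ hc) k).symm
    have e' : (⟨F.t, mem_centralizer_singleton_iff.2 rfl⟩ : l.T) = k * k := by
      rw [show (⟨F.t, mem_centralizer_singleton_iff.2 rfl⟩ : l.T) = ⟨F.f, hfT⟩ * ⟨F.f, hfT⟩ from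
        Subtype.ext F.f_sq.symm, ← e]
      calc c * k * (c * k) = c * (k * c) * k := by group
        _ = _ := by rw [← hcomm', ← mul_assoc, hcc, one_mul]
    exact e' ▸ mul_mem hk hk
  have hbot := hK.disjoint.le_bot (show (⟨F.t, _⟩ : l.T) ∈ l.tT ⊓ K from ⟨mem_zpowers _, htK⟩)
  have := F.order_t
  rw [show F.t = 1 from congrArg Subtype.val (mem_bot.1 hbot), orderOf_one] at this
  exact absurd this (by norm_num)

end Small94

end Cfsg.Agent.McL3x39
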