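import Mathlib
import Cfsg.Agent.Lib.BlockHomocyclicLift9
import Cfsg.Agent.Lib.BSWChars84
import Cfsg.Agent.Lib.ExcChar68b
import Cfsg.Agent.Lib.CharKernel
import Cfsg.Agent.Lib.SL2Classes

/-!
# S5523, S2913: generalities used for the 3-local lemma

Sylow subgroups of subgroups, sections of 3-elements, lifting of class functions from a Sylow
3-subgroup and kernels from generalised characters of norm two and three.
-/

set_option autoImplicit false
set_option linter.unusedSectionVars false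

namespace Cfsg.Agent.McL3Chars77

open Cfsg Cfsg.Agent.CharBasic Cfsg.Agent.CharBasicOrth Cfsg.Agent.CharBasicDecomp
open Cfsg.Agent.CoherenceBasic Cfsg.Agent.BlockPCount9
open scoped ComplexConjugate

attribute [local instance] Classical.propDecidable

section Group

variable {G : Type*} [Group G] [Finite G]

/-- A 3-subgroup containing all 3-elements of its normalizer in `H` is a Sylow subgroup of `H`. -/
theorem sylow_exact {H E : Subgroup G} (hEH : E ≤ H) (hE : IsPGroup 3 E)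
    (h : ∀ m ∈ H, (∃ k : ℕ, m ^ 3 ^ k = 1) → m ∈ Subgroup.normalizer (E : Set G) → m ∈ E) :
    ∃ S : Sylow 3 H, (S : Subgroup H) = E.subgroupOf H := by
  have := Fact.mk Nat.prime_three
  obtain ⟨S, hS⟩ := (hE.comap_subtype : IsPGroup 3 (E.subgroupOf H)).exists_le_sylow
  refine ⟨S, ?_⟩
  haveI : Group.IsNilpotent (S : Subgroup H) := S.2.isNilpotent
  by_contra hne
  have hlt : (E.subgroupOf H).subgroupOf (S : Subgroup H) < ⊤ := by
    refine lt_top_iff_ne_top.2 fun he => hne (le_antisymm ?_ hS)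
    rwa [Subgroup.subgroupOf_eq_top] at he
  obtain ⟨x, hx, hxn⟩ := SetLike.exists_of_lt
    (Group.normalizerCondition_of_isNilpotent _ hlt)
  obtain ⟨k, hk⟩ := S.2 x
  refine hxn (Subgroup.mem_subgroupOf.2 (Subgroup.mem_subgroupOf.2
    (h _ (x : H).2 ⟨k, by simpa using congrArg (fun y : (S : Subgroup H) => ((y : H) : G)) hk⟩ ?_)))
  refine Subgroup.mem_normalizer_fintype fun e he => ?_
  have he' : (⟨e, hEH he⟩ : H) ∈ (S : Subgroup H) := hS (Subgroup.mem_subgroupOf.2 he)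
  exact (Subgroup.mem_normalizer_iff.1 hx ⟨_, he'⟩).1
    (Subgroup.mem_subgroupOf.2 (Subgroup.mem_subgroupOf.2 he))

/-- Every 3-element of `H` is conjugate in `H` into such a subgroup. -/
theorem conj_into {H E : Subgroup G} (hEH : E ≤ H) (hE : IsPGroup 3 E)
    (h : ∀ m ∈ H, (∃ k : ℕ, m ^ 3 ^ k = 1) → m ∈ Subgroup.normalizer (E : Set G) → m ∈ E)
    {x : G} (hx : x ∈ H) (hx3 : ∃ k : ℕ, x ^ 3 ^ k = 1) : ∃ c ∈ H, c * x * c⁻¹ ∈ E := by
  have := Fact.mk Nat.prime_three
  obtain ⟨S, hS⟩ := sylow_exact hEH hE h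
  obtain ⟨k, hk⟩ := hx3
  have hR : IsPGroup 3 (Subgroup.zpowers (⟨x, hx⟩ : H)) := by
    obtain ⟨j, -, hj⟩ := (Nat.dvd_prime_pow Nat.prime_three).1
      (orderOf_dvd_of_pow_eq_one (x := (⟨x, hx⟩ : H)) (n := 3 ^ k) (Subtype.ext (by simpa using hk)))
    exact IsPGroup.of_card (n := j) (by rw [Nat.card_zpowers, hj])
  obtain ⟨R, hR'⟩ := hR.exists_le_sylow
  obtain ⟨c, hc⟩ := MulAction.exists_smul_eq H R S
  refine ⟨c, c.2, ?_⟩
  have hmem : c * (⟨x, hx⟩ : H) * c⁻¹ ∈ (S : Subgroup H) := by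
    rw [← hc]
    exact ⟨_, hR' (Subgroup.mem_zpowers _), rfl⟩
  rw [hS, Subgroup.mem_subgroupOf] at hmem
  exact hmem

/-- Burnside's transfer theorem inside a subgroup. -/
theorem exists_complement {H E : Subgroup G} (hEH : E ≤ H) (hE : IsPGroup 3 E)
    (h : ∀ m ∈ H, (∃ k : ℕ, m ^ 3 ^ k = 1) → m ∈ Subgroup.normalizer (E : Set G) → m ∈ E)
    (hN : ∀ m ∈ H, m ∈ Subgroup.normalizer (E : Set G) → ∀ e ∈ E, m * e = e * m) :
    ∃ O : Subgroup G, O ≤ H ∧ H ≤ Subgroup.normalizer (O : Set G) ∧ ¬ 3 ∣ Nat.card O ∧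
      (∀ k ∈ H, ¬ 3 ∣ orderOf k → k ∈ O) ∧ (∀ c ∈ H, ∃ o ∈ O, ∃ e ∈ E, o * e = c) ∧
      Nat.card O * Nat.card E = Nat.card H := by
  have := Fact.mk Nat.prime_three
  obtain ⟨S, hS⟩ := sylow_exact hEH hE h
  have hmemS : ∀ y : H, y ∈ (S : Subgroup H) ↔ (y : G) ∈ E := fun y => by
    rw [hS, Subgroup.mem_subgroupOf]
  have hnc : Subgroup.normalizer ((S : Subgroup H) : Set H) ≤
      Subgroup.centralizer ((S : Subgroup H) : Set H) := by
    intro m hm e he
    refine Subtype.ext ((hN (m : G) m.2 ?_ (e : G) ((hmemS e).1 he)).symm)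
    refine Subgroup.mem_normalizer_fintype fun x hx => ?_
    exact (hmemS _).1 ((Subgroup.mem_normalizer_iff.1 hm ⟨x, hEH hx⟩).1 ((hmemS _).2 hx))
  set K := (MonoidHom.transferSylow S hnc).ker with hK
  have hc : Subgroup.IsComplement' K (S : Subgroup H) :=
    MonoidHom.ker_transferSylow_isComplement' S hnc
  have hcard : Nat.card (K.map H.subtype) = Nat.card K :=
    (Nat.card_congr (K.equivMapOfInjective _ H.subtype_injective).toEquiv).symm
  have hndvd : ¬ 3 ∣ Nat.card K := by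
    rw [← hc.index_eq_card]
    exact S.not_dvd_index
  refine ⟨K.map H.subtype, Subgroup.map_subtype_le K, ?_, by rwa [hcard], ?_, ?_, ?_⟩
  · intro m hm
    refine Subgroup.mem_normalizer_fintype ?_
    rintro _ ⟨y, hy, rfl⟩
    exact ⟨(⟨m, hm⟩ : H) * y * (⟨m, hm⟩ : H)⁻¹,
      (MonoidHom.normal_ker _).conj_mem y hy ⟨m, hm⟩, rfl⟩
  · intro k hk hk3
    refine ⟨⟨k, hk⟩, ?_, rfl⟩
    set f := MonoidHom.transferSylow S hnc with hf
    obtain ⟨j, hj⟩ := S.2 (f ⟨k, hk⟩)
    have h1 : orderOf (f ⟨k, hk⟩) ∣ 3 ^ j := orderOf_dvd_of_pow_eq_one hj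
    have h2 : orderOf (f ⟨k, hk⟩) ∣ orderOf k :=
      (orderOf_map_dvd f _).trans (Subgroup.orderOf_mk k hk).dvd
    have h3 := Nat.eq_one_of_dvd_coprimes
      (Nat.Coprime.pow_left j ((Nat.prime_three.coprime_iff_not_dvd).2 hk3)) h1 h2
    exact orderOf_eq_one_iff.1 h3
  · intro c hc'
    obtain ⟨⟨o, e⟩, hoe⟩ := hc.2 ⟨c, hc'⟩
    exact ⟨_, ⟨_, o.2, rfl⟩, _, (hmemS e.1).1 e.2, congrArg Subtype.val hoe⟩
  · rw [hcard, ← Nat.card_congr (Subgroup.subgroupOfEquivOfLe hEH).toEquiv, ← hS]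
    exact hc.card_mul

theorem pp_self {r : G} [Fact (Nat.Prime 3)] (hr : ∃ k : ℕ, r ^ 3 ^ k = 1) : pp 3 r = r := by
  obtain ⟨k, hk⟩ := hr
  exact pp_eq (BrauerBlocksPPart.isPPart_self Nat.prime_three
    (BrauerBlocksPPart.isPEl_of_pow_eq_one Nat.prime_three hk))

theorem pp_three [Fact (Nat.Prime 3)] (g : G) : ∃ k : ℕ, pp 3 g ^ 3 ^ k = 1 := by
  obtain ⟨y, -, -, ⟨k, hk⟩, -⟩ := pp_spec (p := 3) g
  exact ⟨k, hk ▸ pow_orderOf_eq_one _⟩

theorem pp_conj [Fact (Nat.Prime 3)] (g c : G) : pp 3 (c * g * c⁻¹) = c * pp 3 g * c⁻¹ :=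
  pp_eq (BrauerBlocksPPart.isPPart_conj c (pp_spec g))

theorem pp_inv [Fact (Nat.Prime 3)] (g : G) : pp 3 g⁻¹ = (pp 3 g)⁻¹ := by
  obtain ⟨y, hy, hc, ⟨k, hk⟩, hy3⟩ := pp_spec (p := 3) g
  refine pp_eq ⟨y⁻¹, ?_, hc.inv_inv, ⟨k, by rwa [orderOf_inv]⟩, by rwa [orderOf_inv]⟩
  conv_rhs => rw [← hy, hc.eq]
  rw [mul_inv_rev]

theorem pp_regular [Fact (Nat.Prime 3)] {g : G} (hg : ¬ 3 ∣ orderOf g) : pp 3 g = 1 :=
  pp_eq (BrauerBlocksPPart.isPPart_of_regular Nat.prime_three hg)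

/-- The number of elements with given 3-part. -/
theorem card_section [Fact (Nat.Prime 3)] {r : G} (hr : ∃ k : ℕ, r ^ 3 ^ k = 1) :
    Nat.card {g : G // IsConj r (pp 3 g)} * Nat.card (Subgroup.centralizer ({r} : Set G)) =
      Nat.card G * Nat.card {k : G // r * k = k * r ∧ ¬ 3 ∣ orderOf k} := by
  obtain ⟨j, hj⟩ := hr
  have hfib : ∀ c : G, Nat.card {g : G // pp 3 g = c * r * c⁻¹} =
      Nat.card {k : G // r * k = k * r ∧ ¬ 3 ∣ orderOf k} := by
    intro c
    have fwd : ∀ k : {k : G // r * k = k * r ∧ ¬ 3 ∣ orderOf k},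
        pp 3 (c * (r * (k : G)) * c⁻¹) = c * r * c⁻¹ := fun k => by
      rw [pp_conj, pp_mul k.2.1 ⟨_, (BrauerBlocksPPart.isPEl_of_pow_eq_one
        Nat.prime_three hj).choose_spec⟩ k.2.2]
    have bwd : ∀ g : {g : G // pp 3 g = c * r * c⁻¹},
        r * (r⁻¹ * (c⁻¹ * (g : G) * c)) = r⁻¹ * (c⁻¹ * (g : G) * c) * r ∧
          ¬ 3 ∣ orderOf (r⁻¹ * (c⁻¹ * (g : G) * c)) := fun g => by
      obtain ⟨y, hy, hc, -, hy3⟩ := pp_spec (p := 3) (c⁻¹ * (g : G) * c)
      have he : pp 3 (c⁻¹ * (g : G) * c) = r := by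
        have h1 := pp_conj (g : G) c⁻¹
        rw [inv_inv] at h1
        rw [h1, g.2]; group
      rw [he] at hy hc
      have hy' : r⁻¹ * (c⁻¹ * (g : G) * c) = y := by rw [← hy, inv_mul_cancel_left]
      rw [hy']
      exact ⟨hc.eq, hy3⟩
    exact (Nat.card_congr
      ({ toFun := fun k => ⟨c * (r * (k : G)) * c⁻¹, fwd k⟩
         invFun := fun g => ⟨r⁻¹ * (c⁻¹ * (g : G) * c), bwd g⟩
         left_inv := fun k => Subtype.ext (by simp [mul_assoc])
         right_inv := fun g => Subtype.ext (by simp [mul_assoc]) } :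
        {k : G // r * k = k * r ∧ ¬ 3 ∣ orderOf k} ≃ {g : G // pp 3 g = c * r * c⁻¹})).symm
  have hfib' : ∀ x : {x : G // IsConj r x}, Nat.card {g : G // pp 3 g = (x : G)} =
      Nat.card {k : G // r * k = k * r ∧ ¬ 3 ∣ orderOf k} := fun x => by
    obtain ⟨c, hc⟩ := isConj_iff.1 x.2
    rw [← hc, hfib]
  have e : {g : G // IsConj r (pp 3 g)} ≃
      Σ x : {x : G // IsConj r x}, {g : G // pp 3 g = (x : G)} :=
    { toFun := fun g => ⟨⟨pp 3 (g : G), g.2⟩, ⟨(g : G), rfl⟩⟩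
      invFun := fun p => ⟨(p.2 : G), p.2.2.symm ▸ p.1.2⟩
      left_inv := fun g => rfl
      right_inv := fun p => by
        obtain ⟨⟨x, hx⟩, ⟨g, hg⟩⟩ := p
        change pp 3 g = x at hg
        subst hg
        rfl }
  haveI := Fintype.ofFinite {x : G // IsConj r x}
  rw [Nat.card_congr e, Nat.card_sigma, Finset.sum_congr rfl fun x _ => hfib' x,
    Finset.sum_const, Finset.card_univ, smul_eq_mul, ← Nat.card_eq_fintype_card]
  have h2 : Nat.card {x : G // IsConj r x} = Nat.card (ConjClasses.mk r).carrier :=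
    Nat.card_congr (Equiv.subtypeEquivRight fun x => by
      rw [ConjClasses.mem_carrier_iff_mk_eq, ConjClasses.mk_eq_mk_iff_isConj]
      exact ⟨IsConj.symm, IsConj.symm⟩)
  rw [h2, ← SL2Classes.card_carrier_mul r]
  ring

end Group

section Chars

variable {G : Type*} [Group G] [Fintype G]

/-- A class function whose restriction to a Sylow 3-subgroup is a generalised character, composed with
the 3-part. -/
theorem isGen_lift [Fact (Nat.Prime 3)] (P : Sylow 3 G) {φ : G → ℂ}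
    (hφ : IsClassFunction G φ)
    (hP : IsGeneralizedCharacter (P : Subgroup G) fun u => φ (u : G)) :
    IsGeneralizedCharacter G fun g => φ (pp 3 g) := by
  refine BrauerInduction.isGeneralizedCharacter_of_elementary
    (fun g h => by rw [pp_conj, hφ]) fun E q hq hE => ?_
  haveI : Group.IsNilpotent E := BrauerInduction.isNilpotent_of_isElementary hq hE
  let ψ₀ : E →* G := E.subtype.comp (piP 3 E)
  have hψ₀ : ∀ e : E, ψ₀ e = pp 3 (e : G) := fun e => (pp_eq (isPPart_coe (pp_spec e))).symm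
  have hS : IsPGroup 3 ψ₀.range := by
    rintro ⟨_, e, rfl⟩
    obtain ⟨k, hk⟩ := pp_three (e : G)
    exact ⟨k, Subtype.ext (by
      show ψ₀ e ^ 3 ^ k = 1
      rw [hψ₀]; exact hk)⟩
  obtain ⟨R, hR⟩ := hS.exists_le_sylow
  obtain ⟨c, hc⟩ := MulAction.exists_smul_eq G R P
  let ψ : E →* (P : Subgroup G) :=
    ((MulAut.conj c).toMonoidHom.comp ψ₀).codRestrict (P : Subgroup G) fun e => by
      rw [← hc]
      exact ⟨ψ₀ e, hR ⟨e, rfl⟩, rfl⟩
  have e : (fun e : E => φ (pp 3 (e : G))) = (fun u : (P : Subgroup G) => φ (u : G)) ∘ ψ :=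
    funext fun e => by
      rw [← hψ₀]
      exact (hφ (ψ₀ e) c).symm
  rw [e]
  exact isGeneralizedCharacter_comap ψ hP

theorem inner_one {φ : G → ℂ} :
    classInner φ (fun _ => 1) = (Nat.card G : ℂ)⁻¹ * ∑ g : G, φ g := by
  simp [classInner]

/-- An irreducible constituent up to sign equals the trivial character if it meets it. -/
theorem eq_one_cases {a : G → ℂ} (ha : SignedIrr a) :
    classInner a (fun _ => 1) = 0 ∨
      (classInner a (fun _ => 1) = 1 ∧ a = fun _ => 1) ∨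
      (classInner a (fun _ => 1) = -1 ∧ a = -fun _ => 1) := by
  rcases si_cases BSW84.si_one ha with h | ⟨ε, hε, he, hin⟩
  · left
    rw [← conj_classInner, h, map_zero]
  · have h1 : classInner a (fun _ : G => (1 : ℂ)) = ε := by
      rw [← conj_classInner, hin, Complex.conj_ofReal]
    rcases hε with rfl | rfl
    · exact Or.inr (Or.inl ⟨by rw [h1]; norm_num, by rw [he]; simp⟩)
    · exact Or.inr (Or.inr ⟨by rw [h1]; norm_num, by rw [he]; simp⟩)

/-- A generalised character `1 - λ`: its zeros form a normal subgroup. -/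
theorem ker_two {θ : G → ℂ} (h : IsGeneralizedCharacter G θ) (h2 : classInner θ θ = 2)
    (h1 : classInner θ (fun _ => 1) = 1) (h0 : θ 1 = 0) :
    ∃ N : Subgroup G, N.Normal ∧ ∀ g, θ g = 0 ↔ g ∈ N := by
  obtain ⟨a, b, ha, hb, hab, rfl⟩ := si_sum_of_norm_two h h2
  have key : ∀ a b : G → ℂ, SignedIrr a → SignedIrr b → a + b = (fun _ => 1) + b →
      (a + b) 1 = 0 → ∃ N : Subgroup G, N.Normal ∧ ∀ g, (a + b) g = 0 ↔ g ∈ N := by
    intro a b _ hb he h0
    rw [he] at h0 ⊢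
    simp only [Pi.add_apply] at h0 ⊢
    have hb1 : b 1 = -1 := by linear_combination h0
    have hbi : IsIrrCharacter G (-b) := by
      rcases hb with hb | hb
      · obtain ⟨n, hn⟩ := isCharacter_apply_one (isCharacter_of_isIrrCharacter hb)
        rw [hn] at hb1
        exact absurd (congrArg Complex.re hb1) (by
          simp only [Complex.natCast_re, Complex.neg_re, Complex.one_re]
          linarith [Nat.cast_nonneg (α := ℝ) n])
      · exact hb
    refine ⟨CharKernel.irrKer ⟨-b, hbi⟩, CharKernel.irrKer_normal _, fun g => ?_⟩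
    rw [CharKernel.mem_irrKer]
    simp only [Pi.neg_apply, hb1, neg_neg]
    constructor <;> intro hh
    · linear_combination -hh
    · linear_combination -hh
  have hinn := h1
  rw [classInner_add_left] at hinn
  rcases eq_one_cases ha with e | ⟨e, e'⟩ | ⟨e, e'⟩
  · rw [e, zero_add] at hinn
    rcases eq_one_cases hb with f | ⟨-, f'⟩ | ⟨f, -⟩
    · rw [f] at hinn; norm_num at hinn
    · obtain ⟨N, hN, hN'⟩ := key b a hb ha (by rw [f']) (by rwa [add_comm])
      exact ⟨N, hN, fun g => by rw [add_comm a b]; exact hN' g⟩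
    · rw [f] at hinn; norm_num at hinn
  · exact key a b ha hb (by rw [e']) h0
  · rcases eq_one_cases hb with f | ⟨f, -⟩ | ⟨f, -⟩ <;> rw [e, f] at hinn <;> norm_num at hinn

theorem si_real {a : G → ℂ} (ha : SignedIrr a) {v : G} (hv : v * v = 1) :
    conj (a v) = a v := by
  have key : ∀ χ : G → ℂ, IsIrrCharacter G χ → conj (χ v) = χ v := fun χ hχ => by
    rw [← isCharacter_inv (isCharacter_of_isIrrCharacter hχ) v, inv_eq_of_mul_eq_one_right hv]
  rcases ha with h | h
  · exact key a h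
  · simpa using key _ h

theorem si_kernel {a : G → ℂ} (ha : SignedIrr a) :
    ∃ N : Subgroup G, N.Normal ∧ ∀ g, g ∈ N ↔ a g = a 1 := by
  rcases ha with h | h
  · exact ⟨CharKernel.irrKer ⟨a, h⟩, CharKernel.irrKer_normal _, fun _ => CharKernel.mem_irrKer⟩
  · exact ⟨CharKernel.irrKer ⟨-a, h⟩, CharKernel.irrKer_normal _, fun g => by
      rw [CharKernel.mem_irrKer]; simp⟩

/-- Norm three, vanishing on all products of two conjugates of an involution. -/
theorem ker_three {θ : G → ℂ} (h : IsGeneralizedCharacter G θ) (h3 : classInner θ θ = 3)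
    (h1 : classInner θ (fun _ => 1) = 1) (h0 : θ 1 = 0) {v : G} (hv : v * v = 1) (hθv : θ v = 0)
    (hp : ∀ a b : G, θ (a * v * a⁻¹ * (b * v * b⁻¹)) = 0) :
    ∃ N : Subgroup G, N.Normal ∧ v ∈ N ∧ ∀ g ∈ N, θ g = 0 := by
  have hlf : BSW84.lf v v θ = 0 := by
    haveI := finite_irrCharacter (G := G)
    letI := Fintype.ofFinite (IrrCharacter G)
    have hsum : ∀ g : G, θ g *
        (Nat.card {q : G × G // q.1 * v * q.1⁻¹ * (q.2 * v * q.2⁻¹) = g} : ℂ) = 0 := by
      intro g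
      by_cases hg : Nonempty {q : G × G // q.1 * v * q.1⁻¹ * (q.2 * v * q.2⁻¹) = g}
      · obtain ⟨q, hq⟩ := hg
        rw [← hq, hp, zero_mul]
      · rw [not_nonempty_iff] at hg
        simp
    have hz : ∑ g : G, θ g * ∑ χ : IrrCharacter G,
        (χ : G → ℂ) v * (χ : G → ℂ) v * conj ((χ : G → ℂ) g) / (χ : G → ℂ) 1 = 0 := by
      refine Finset.sum_eq_zero fun g _ => ?_
      have e := ExcChar68b.class_sum2 v v g
      calc θ g * _ = θ g * ((Nat.card {q : G × G //
              q.1 * v * q.1⁻¹ * (q.2 * v * q.2⁻¹) = g} : ℂ) / Nat.card G) := by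
            rw [← e]
        _ = 0 := by rw [← mul_div_assoc, hsum, zero_div]
    rw [BSW84.lf]
    calc ∑ χ : IrrCharacter G, classInner θ (χ : G → ℂ) *
          (conj ((χ : G → ℂ) v) * (χ : G → ℂ) v / (χ : G → ℂ) 1)
        = (Nat.card G : ℂ)⁻¹ * ∑ g : G, θ g * ∑ χ : IrrCharacter G,
          (χ : G → ℂ) v * (χ : G → ℂ) v * conj ((χ : G → ℂ) g) / (χ : G → ℂ) 1 := by
          simp only [classInner, Finset.mul_sum, Finset.sum_mul]
          rw [Finset.sum_comm]
          refine Finset.sum_congr rfl fun g _ => Finset.sum_congr rfl fun χ _ => ?_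
          rw [si_real (Or.inl χ.2) hv]
          ring
      _ = 0 := by rw [hz, mul_zero]
  have main : ∀ a b : G → ℂ, SignedIrr a → SignedIrr b → θ = (fun _ => 1) + a + b →
      ∃ N : Subgroup G, N.Normal ∧ v ∈ N ∧ ∀ g ∈ N, θ g = 0 := by
    intro a b ha hb he
    have l1 : BSW84.lf v v (fun _ : G => (1 : ℂ)) = 1 := by
      rw [BSW84.lf_si v v BSW84.si_one]; simp
    rw [he, BSW84.lf_add, BSW84.lf_add, l1, BSW84.lf_si v v ha, BSW84.lf_si v v hb,
      si_real ha hv, si_real hb hv] at hlf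
    rw [he] at h0 hθv
    simp only [Pi.add_apply] at h0 hθv
    have a1 := si_apply_one_ne_zero ha
    have b1 := si_apply_one_ne_zero hb
    field_simp at hlf
    have eb : b 1 = -1 - a 1 := by linear_combination h0
    have ebv : b v = -1 - a v := by linear_combination hθv
    rw [eb, ebv] at hlf
    have hsq : (a 1 - a v) ^ 2 = 0 := by linear_combination -hlf
    have eav : a v = a 1 := by
      have := pow_eq_zero_iff (by norm_num : 2 ≠ 0) |>.1 hsq
      linear_combination -this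
    obtain ⟨Na, hNa, hNa'⟩ := si_kernel ha
    obtain ⟨Nb, hNb, hNb'⟩ := si_kernel hb
    refine ⟨Na ⊓ Nb, Subgroup.normal_inf_normal Na Nb,
      ⟨(hNa' v).2 eav, (hNb' v).2 (by rw [eb, ebv, eav])⟩, fun g hg => ?_⟩
    rw [he]
    simp only [Pi.add_apply]
    rw [(hNa' g).1 hg.1, (hNb' g).1 hg.2]
    exact h0
  obtain ⟨a, b, c, ha, hb, hc, hab, hac, hbc, he⟩ := BSW84.si_sum_of_norm_three h h3
  have hinn := h1
  rw [he, classInner_add_left, classInner_add_left] at hinn
  rcases eq_one_cases ha with ea | ⟨ea, ea'⟩ | ⟨ea, ea'⟩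
  · rcases eq_one_cases hb with eb | ⟨eb, eb'⟩ | ⟨eb, eb'⟩
    · rcases eq_one_cases hc with ec | ⟨ec, ec'⟩ | ⟨ec, ec'⟩
      · rw [ea, eb, ec] at hinn; norm_num at hinn
      · exact main a b ha hb (by rw [he, ec']; abel)
      · rw [ea, eb, ec] at hinn; norm_num at hinn
    · exact main a c ha hc (by rw [he, eb']; abel)
    · have : classInner c (fun _ : G => (1 : ℂ)) = 0 := by
        rw [eb', classInner_neg_left, neg_eq_zero, ← conj_classInner] at hbc
        simpa using hbc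
      rw [ea, eb, this] at hinn; norm_num at hinn
  · exact main b c hb hc (by rw [he, ea'])
  · have h1b : classInner b (fun _ : G => (1 : ℂ)) = 0 := by
      rw [ea', classInner_neg_left, neg_eq_zero, ← conj_classInner] at hab
      simpa using hab
    have h1c : classInner c (fun _ : G => (1 : ℂ)) = 0 := by
      rw [ea', classInner_neg_left, neg_eq_zero, ← conj_classInner] at hac
      simpa using hac
    rw [ea, h1b, h1c] at hinn; norm_num at hinn

end Chars

end Cfsg.Agent.McL3Chars77
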