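import Mathlib
import Cfsg.Agent.Lib.McL3Chars77
import Cfsg.Agent.Lib.CoprimeGen

/-!
# S5523, S2913: the abstract configuration behind the 3-local lemma

A group `C` with a Sylow 3-subgroup `3 wr 3` whose abelian subgroup `J` of order 27 has a monomial
automizer. Consequences of the definition that need no character theory.
-/

set_option autoImplicit false
set_option linter.unusedSectionVars false

namespace Cfsg.Agent.McL3Cfg77

open Cfsg.Agent.McL3Chars77

/-- Coordinate vectors. -/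
abbrev V3 := ZMod 3 → ZMod 3

/-- The possible actions on `J`. -/
abbrev M24 := ZMod 3 × Option (ZMod 3) × Bool

/-- Cyclic shift. -/
def sh (k : ZMod 3) (d : V3) : V3 := fun j => d (j - k)

/-- Changing two signs. -/
def fl : Option (ZMod 3) → V3 → V3
  | none, d => d
  | some i, d => fun j => if j = i then d j else -d j

/-- The transposition of determinant one. -/
def sw : Bool → V3 → V3
  | false, d => d
  | true, d => fun j => if j = 0 then d 1 else if j = 1 then d 0 else -d 2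

/-- The action of a triple. -/
def act (q : M24) (d : V3) : V3 := sh q.1 (fl q.2.1 (sw q.2.2 d))

theorem sh_zero (d : V3) : sh 0 d = d := by funext j; simp [sh]

theorem sh_sh (k l : ZMod 3) (d : V3) : sh k (sh l d) = sh (k + l) d := by
  funext j; simp [sh, sub_sub]

theorem sh_add (k : ZMod 3) (a b : V3) : sh k (a + b) = sh k a + sh k b := rfl

theorem fl_add (o : Option (ZMod 3)) (a b : V3) : fl o (a + b) = fl o a + fl o b := by
  rcases o with _ | i
  · rfl
  · funext j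
    simp only [fl, Pi.add_apply]
    split_ifs <;> ring

theorem fl_fl (o : Option (ZMod 3)) (d : V3) : fl o (fl o d) = d := by
  rcases o with _ | i
  · rfl
  · funext j
    simp only [fl]
    split_ifs <;> ring

theorem sw_add (b : Bool) (x y : V3) : sw b (x + y) = sw b x + sw b y := by
  cases b
  · rfl
  · funext j
    simp only [sw, Pi.add_apply]
    split_ifs <;> ring

theorem act_add (q : M24) (a b : V3) : act q (a + b) = act q a + act q b := by
  simp only [act, sw_add, fl_add, sh_add]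

/-- Coordinates of a monomial map on the basis. -/
def col (j : ZMod 3) (f : Bool) : V3 := Pi.single j (if f then -1 else 1)

set_option synthInstance.maxSize 4096 in
theorem mono_cases : ∀ j₀ j₁ j₂ : ZMod 3, j₀ ≠ j₁ → j₀ ≠ j₂ → j₁ ≠ j₂ → ∀ f₀ f₁ f₂ : Bool,
    ∃ q : M24, (act q (Pi.single 0 1) = col j₀ f₀ ∧ act q (Pi.single 1 1) = col j₁ f₁ ∧
        act q (Pi.single 2 1) = col j₂ f₂) ∨
      (act q (-Pi.single 0 1) = col j₀ f₀ ∧ act q (-Pi.single 1 1) = col j₁ f₁ ∧
        act q (-Pi.single 2 1) = col j₂ f₂) := by decide +kernel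

theorem fix_one : ∀ q : M24, act q 1 = 1 → q.2.1 = none ∧ q.2.2 = false := by decide +kernel

theorem neg_one : ∀ q : M24, act q 1 = -1 → q.2.2 = true := by decide +kernel

set_option synthInstance.maxSize 4096 in
theorem fix_two : ∀ (q : M24) (a b : V3), act q a = a → (∃ i, a i = 0) →
    ¬ (∃ i c, a = Pi.single i c) → act q b = b →
    q = (0, none, false) ∨ ∃ c : ZMod 3, b = c • a := by decide +kernel

theorem fix_invol : ∀ (q : M24) (a : V3), a ≠ 0 → (∃ i, a i = 0) → act q a = a →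
    ∀ b, act q (act q (act q (act q b))) = b := by decide +kernel

theorem neg_one_fix : ∀ q : M24, act q 1 = -1 → ∃ a : V3, act q a = a ∧ (∃ i, a i = 0) ∧
    ¬ (∃ i c, a = Pi.single i c) := by decide +kernel

theorem sw_shift : ∀ q : M24, q.2.2 = true → ∀ i : ZMod 3, i ≠ 0 →
    ∃ d, act q (sh i d) ≠ sh i (act q d) := by decide +kernel

theorem sw_commutator : ∀ q : M24, q.2.2 = true → ∃ (k : ZMod 3) (o : Option (ZMod 3)), k ≠ 0 ∧
    ∀ d, act (k, o, false) (sh 1 (act q d)) = act q (sh 1 d) := by decide +kernel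

theorem full_cases : ∀ d : V3, (∀ i, d i ≠ 0) → ∃ o, d = fl o 1 ∨ d = fl o (-1) := by
  decide +kernel

theorem plane_sing : ∀ a b : V3, a ≠ 0 → (¬ ∃ c : ZMod 3, b = c • a) → ∃ x y : ZMod 3,
    (x • a + y • b ≠ 0) ∧ ((∀ i, (x • a + y • b) i ≠ 0) ∨ ∃ i c, x • a + y • b = Pi.single i c) := by
  decide +kernel

theorem three_cases : ∀ d : V3, d ≠ 0 → (∀ i, d i ≠ 0) ∨ (∃ i c, d = Pi.single i c) ∨
    ((∃ i, d i = 0) ∧ ¬ ∃ i c, d = Pi.single i c) := by decide +kernel

theorem single_act : ∀ (q : M24) (i : ZMod 3) (c : ZMod 3), ∃ j b, act q (Pi.single i c) = Pi.single j b := by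
  decide +kernel

theorem plane_not_mem : ∀ (a b : V3) (j : ZMod 3), a j ≠ 0 → b j = 0 → b ≠ 0 →
    ¬ ∃ c : ZMod 3, b = c • a := by decide +kernel

theorem sh_fix : ∀ (i : ZMod 3) (d : V3), i ≠ 0 → sh i d = d → d = d 0 • (1 : V3) := by decide +kernel

/-- The configuration. -/
structure Cfg (C : Type*) [Group C] [Finite C] where
  /-- A Sylow 3-subgroup. -/
  P : Sylow 3 C
  /-- The monomial basis of `J`. -/
  e : ZMod 3 → C
  /-- An element permuting the basis cyclically. -/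
  s : C
  /-- The involutions changing two signs. -/
  v : ZMod 3 → C
  card_P : Nat.card (P : Subgroup C) = 81
  e_comm : ∀ i j, e i * e j = e j * e i
  e_cube : ∀ i, e i ^ 3 = 1
  e_mem : ∀ i, e i ∈ (P : Subgroup C)
  card_J : Nat.card (Subgroup.closure (Set.range e)) = 27
  s_mem : s ∈ (P : Subgroup C)
  s_cube : s ^ 3 = 1
  s_notMem : s ∉ Subgroup.closure (Set.range e)
  s_conj : ∀ i, s * e i * s⁻¹ = e (i + 1)
  v_sq : ∀ i, v i * v i = 1
  v_fix : ∀ i, v i * e i * (v i)⁻¹ = e i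
  v_inv : ∀ i j, j ≠ i → v i * e j * (v i)⁻¹ = (e j)⁻¹
  mono : ∀ m ∈ Subgroup.normalizer (Subgroup.closure (Set.range e) : Set C), ∀ i,
    ∃ j, m * e i * m⁻¹ = e j ∨ m * e i * m⁻¹ = (e j)⁻¹
  faith : ∀ m, (∀ i, m * e i = e i * m) → m ∈ Subgroup.closure (Set.range e)
  noneg : ∀ m ∈ Subgroup.normalizer (Subgroup.closure (Set.range e) : Set C),
    (∀ i, m * e i * m⁻¹ = (e i)⁻¹) → False
  noswap : ∀ m ∈ Subgroup.normalizer (Subgroup.closure (Set.range e) : Set C),
    m * e 0 * m⁻¹ = e 1 → m * e 1 * m⁻¹ = e 0 → m * e 2 * m⁻¹ = e 2 → False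
  cent_e : ∀ i, Subgroup.centralizer ({e i} : Set C) ≤
    Subgroup.normalizer (Subgroup.closure (Set.range e) : Set C)
  cent_sum : Subgroup.centralizer ({e 0 * e 1 * e 2} : Set C) ≤
    Subgroup.normalizer (Subgroup.closure (Set.range e) : Set C)
  no_fuse : ∀ u ∈ (P : Subgroup C), u ∉ Subgroup.closure (Set.range e) → u ^ 3 = 1 →
    ¬ IsConj u (e 0 * e 1 * e 2) ∧ ¬ IsConj u (e 0 * e 1 * e 2)⁻¹

namespace Cfg

variable {C : Type*} [Group C] [Finite C] (c : Cfg C)

/-- The abelian subgroup of order 27. -/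
def J : Subgroup C := Subgroup.closure (Set.range c.e)

/-- Coordinates on `J`. -/
def el (d : V3) : C := c.e 0 ^ (d 0).val * c.e 1 ^ (d 1).val * c.e 2 ^ (d 2).val

/-- The normalizer of `J`. -/
def N : Subgroup C := Subgroup.normalizer (c.J : Set C)

theorem e_pow_add (i a b : ZMod 3) : c.e i ^ (a + b).val = c.e i ^ a.val * c.e i ^ b.val := by
  rw [← pow_add]
  refine pow_eq_pow_iff_modEq.2 (Nat.ModEq.of_dvd (orderOf_dvd_of_pow_eq_one (c.e_cube i)) ?_)
  rw [ZMod.val_add]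
  exact Nat.mod_modEq _ _

theorem el_add (a b : V3) : c.el (a + b) = c.el a * c.el b := by
  have hc : ∀ i j (m n : ℕ), Commute (c.e i ^ m) (c.e j ^ n) := fun i j m n =>
    (show Commute (c.e i) (c.e j) from c.e_comm i j).pow_pow m n
  simp only [el, Pi.add_apply, c.e_pow_add]
  rw [((hc 2 0 _ _).mul_right (hc 2 1 _ _)).mul_mul_mul_comm,
    (hc 1 0 _ _).mul_mul_mul_comm]

theorem el_zero : c.el 0 = 1 := by simp [el]

theorem el_neg (d : V3) : c.el (-d) = (c.el d)⁻¹ :=
  eq_inv_of_mul_eq_one_left (by rw [← c.el_add, neg_add_cancel, c.el_zero])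

theorem el_nsmul (n : ℕ) (d : V3) : c.el (n • d) = c.el d ^ n := by
  induction n with
  | zero => rw [zero_smul, pow_zero, c.el_zero]
  | succ k ih => rw [succ_nsmul, pow_succ, c.el_add, ih]

theorem el_smul (x : ZMod 3) (d : V3) : c.el (x • d) = c.el d ^ x.val := by
  rw [← c.el_nsmul]
  congr 1
  funext j
  simp [Pi.smul_apply, nsmul_eq_mul, ZMod.natCast_val]

theorem el_single (i : ZMod 3) : c.el (Pi.single i 1) = c.e i := by
  have h : ∀ i : ZMod 3, i = 0 ∨ i = 1 ∨ i = 2 := by decide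
  rcases h i with rfl | rfl | rfl <;> simp (config := { decide := true }) [el, ZMod.val_one]

theorem el_one : c.el 1 = c.e 0 * c.e 1 * c.e 2 := by
  simp [el, ZMod.val_one]

theorem el_decomp (d : V3) : d = d 0 • (Pi.single 0 1 : V3) + d 1 • (Pi.single 1 1 : V3) +
    d 2 • (Pi.single 2 1 : V3) := by
  revert d; decide +kernel

theorem el_mem (d : V3) : c.el d ∈ c.J :=
  mul_mem (mul_mem (pow_mem (Subgroup.subset_closure ⟨0, rfl⟩ : c.e 0 ∈ c.J) _)
    (pow_mem (Subgroup.subset_closure ⟨1, rfl⟩ : c.e 1 ∈ c.J) _))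
    (pow_mem (Subgroup.subset_closure ⟨2, rfl⟩ : c.e 2 ∈ c.J) _)

theorem exists_el {x : C} (hx : x ∈ c.J) : ∃ d, c.el d = x := by
  induction hx using Subgroup.closure_induction with
  | mem y hy =>
    obtain ⟨i, rfl⟩ := hy
    exact ⟨_, c.el_single i⟩
  | one => exact ⟨0, c.el_zero⟩
  | mul y z _ _ hy hz =>
    obtain ⟨a, rfl⟩ := hy
    obtain ⟨b, rfl⟩ := hz
    exact ⟨a + b, c.el_add a b⟩
  | inv y _ hy =>
    obtain ⟨a, rfl⟩ := hy
    exact ⟨-a, c.el_neg a⟩

theorem el_inj {a b : V3} (h : c.el a = c.el b) : a = b := by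
  have hs : Function.Surjective fun d : V3 => (⟨c.el d, c.el_mem d⟩ : c.J) := fun x => by
    obtain ⟨d, hd⟩ := c.exists_el x.2
    exact ⟨d, Subtype.ext hd⟩
  have hb := hs.bijective_of_nat_card_le (by
    rw [show Nat.card c.J = 27 from c.card_J]; simp)
  exact hb.1 (Subtype.ext h)

theorem el_comm (a b : V3) : c.el a * c.el b = c.el b * c.el a := by
  rw [← c.el_add, ← c.el_add, add_comm]

theorem J_comm {x y : C} (hx : x ∈ c.J) (hy : y ∈ c.J) : x * y = y * x := by
  obtain ⟨a, rfl⟩ := c.exists_el hx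
  obtain ⟨b, rfl⟩ := c.exists_el hy
  exact c.el_comm a b

theorem el_cube (d : V3) : c.el d ^ 3 = 1 := by
  rw [← c.el_nsmul, show (3 : ℕ) • d = 0 by funext j; simp [nsmul_eq_mul, show (3 : ZMod 3) = 0 from rfl],
    c.el_zero]

/-- `m` acts on `J` by `F`. -/
def Acts (m : C) (F : V3 → V3) : Prop := ∀ d, m * c.el d * m⁻¹ = c.el (F d)

theorem Acts.mul {c : Cfg C} {m n : C} {F G : V3 → V3} (hm : c.Acts m F) (hn : c.Acts n G) :
    c.Acts (m * n) (F ∘ G) := fun d => by
  rw [Function.comp_apply, ← hm, ← hn]; group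

theorem Acts.inv {c : Cfg C} {m : C} {F G : V3 → V3} (hm : c.Acts m F) (h : ∀ d, F (G d) = d) :
    c.Acts m⁻¹ G := fun d => by
  conv_lhs => rw [← h d, ← hm]
  group

theorem Acts.mem_N {c : Cfg C} {m : C} {F : V3 → V3} (hm : c.Acts m F) : m ∈ c.N := by
  refine Subgroup.mem_normalizer_fintype fun x hx => ?_
  obtain ⟨d, rfl⟩ := c.exists_el hx
  rw [hm d]
  exact c.el_mem _

theorem Acts.ext {c : Cfg C} {m : C} {F G : V3 → V3} (hm : c.Acts m F) (hn : c.Acts m G) (d : V3) :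
    F d = G d := c.el_inj ((hm d).symm.trans (hn d))

theorem acts_of_gens {m : C} {F : V3 → V3} (hF : ∀ a b, F (a + b) = F a + F b)
    (h : ∀ i, m * c.e i * m⁻¹ = c.el (F (Pi.single i 1))) : c.Acts m F := by
  intro d
  let φ : V3 →+ V3 := AddMonoidHom.mk' F hF
  have hsm : ∀ (x : ZMod 3) (i : ZMod 3),
      m * c.el (x • (Pi.single i 1 : V3)) * m⁻¹ = c.el (F (x • (Pi.single i 1 : V3))) := by
    intro x i
    rw [show x • (Pi.single i 1 : V3) = x.val • (Pi.single i 1 : V3) by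
      funext j; simp [Pi.smul_apply, nsmul_eq_mul, ZMod.natCast_val], c.el_nsmul, ← conj_pow,
      c.el_single, h, ← c.el_nsmul]
    exact congrArg c.el (map_nsmul φ _ _).symm
  conv_lhs => rw [el_decomp d, c.el_add, c.el_add, conj_mul.symm, conj_mul.symm, hsm, hsm, hsm,
    ← c.el_add, ← c.el_add, ← hF, ← hF, ← el_decomp d]

/-- Powers of `s`. -/
def sp (i : ZMod 3) : C := c.s ^ i.val

theorem sp_mem (i : ZMod 3) : c.sp i ∈ (c.P : Subgroup C) := pow_mem c.s_mem _

theorem sp_zero : c.sp 0 = 1 := pow_zero _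

theorem sp_add (i j : ZMod 3) : c.sp (i + j) = c.sp i * c.sp j := by
  rw [sp, sp, sp, ← pow_add]
  refine pow_eq_pow_iff_modEq.2 (Nat.ModEq.of_dvd (orderOf_dvd_of_pow_eq_one c.s_cube) ?_)
  rw [ZMod.val_add]
  exact Nat.mod_modEq _ _

theorem sp_neg (i : ZMod 3) : c.sp (-i) = (c.sp i)⁻¹ :=
  eq_inv_of_mul_eq_one_left (by rw [← c.sp_add, neg_add_cancel, c.sp_zero])

theorem acts_s : c.Acts c.s (sh 1) := c.acts_of_gens (sh_add 1) fun i => by
  rw [c.s_conj, ← c.el_single]
  congr 1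
  funext j
  simp only [sh, Pi.single_apply, sub_eq_iff_eq_add]

theorem acts_sp (i : ZMod 3) : c.Acts (c.sp i) (sh i) := by
  have key : ∀ n : ℕ, c.Acts (c.s ^ n) (sh (n : ZMod 3)) := by
    intro n
    induction n with
    | zero => intro d; simp [sh_zero]
    | succ k ih =>
      intro d
      rw [pow_succ', Nat.cast_succ, add_comm, ← sh_sh]
      exact (c.acts_s.mul ih) d
  intro d
  rw [sp, key, ZMod.natCast_val, ZMod.cast_id]

/-- The sign changes. -/
def vo : Option (ZMod 3) → C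
  | none => 1
  | some i => c.v i

theorem acts_vo (o : Option (ZMod 3)) : c.Acts (c.vo o) (fl o) := by
  rcases o with _ | i
  · intro d; simp [vo, fl]
  refine c.acts_of_gens (fl_add _) fun j => ?_
  by_cases h : j = i
  · subst h
    rw [vo, c.v_fix, ← c.el_single]
    congr 1
    funext k
    simp only [fl, Pi.single_apply]
    split_ifs <;> simp
  · rw [vo, c.v_inv i j h, ← c.el_single, ← c.el_neg]
    congr 1
    funext k
    simp only [fl, Pi.single_apply, Pi.neg_apply]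
    by_cases hk : k = j
    · subst hk; simp [h]
    · simp [hk]

theorem vo_mem_N (o : Option (ZMod 3)) : c.vo o ∈ c.N := (c.acts_vo o).mem_N

theorem J_le_N : c.J ≤ c.N := Subgroup.le_normalizer

theorem exists_act {m : C} (hm : m ∈ c.N) : ∃ q : M24, c.Acts m (act q) := by
  have hcol : ∀ i, ∃ j f, m * c.e i * m⁻¹ = c.el (col j f) := fun i => by
    obtain ⟨j, h | h⟩ := c.mono m hm i
    · exact ⟨j, false, by rw [h, col]; simp [c.el_single]⟩
    · exact ⟨j, true, by rw [h, col, if_pos rfl, Pi.single_neg, c.el_neg, c.el_single]⟩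
  choose j f hj using hcol
  have hinj : ∀ a b, j a = j b → a = b := by
    intro a b hab
    by_contra hne
    have h1 := hj a
    have h2 := hj b
    rw [← hab] at h2
    have h3 : ∃ x : ZMod 3, c.e a = c.e b ^ x.val := by
      by_cases hf : f a = f b
      · exact ⟨1, by rw [← hf] at h2; simpa [ZMod.val_one] using h1.trans h2.symm⟩
      · refine ⟨-1, ?_⟩
        have h4 : m * c.e a * m⁻¹ = (m * c.e b * m⁻¹)⁻¹ := by
          rw [h1, h2, ← c.el_neg]
          congr 1
          cases ha : f a <;> cases hb : f b <;> simp_all [col, ← Pi.single_neg]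
        have h5 : c.e a = (c.e b)⁻¹ := by
          rw [conj_inv] at h4
          exact mul_left_cancel (mul_right_cancel h4)
        rw [h5, ← c.el_single b, ← c.el_neg, ← c.el_smul]
        simp
    obtain ⟨x, hx⟩ := h3
    rw [← c.el_single a, ← c.el_single b, ← c.el_smul] at hx
    exact hne (by simpa [Pi.single_apply, eq_comm, hne] using congrFun (c.el_inj hx) a)
  obtain ⟨q, hq | hq⟩ := mono_cases (j 0) (j 1) (j 2) (fun h => absurd (hinj _ _ h) (by decide))
    (fun h => absurd (hinj _ _ h) (by decide)) (fun h => absurd (hinj _ _ h) (by decide))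
    (f 0) (f 1) (f 2)
  · exact ⟨q, c.acts_of_gens (act_add q) fun i => by
      fin_cases i
      exacts [(hj 0).trans (by rw [← hq.1]; rfl), (hj 1).trans (by rw [← hq.2.1]; rfl),
        (hj 2).trans (by rw [← hq.2.2]; rfl)]⟩
  exfalso
  have hm' : c.Acts m fun d => act q (-d) :=
    c.acts_of_gens (fun a b => by rw [neg_add, act_add]) fun i => by
      fin_cases i
      exacts [(hj 0).trans (by rw [← hq.1]; rfl), (hj 1).trans (by rw [← hq.2.1]; rfl),
        (hj 2).trans (by rw [← hq.2.2]; rfl)]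
  obtain ⟨k, o, b⟩ := q
  have h2 : c.Acts (c.vo o * (c.sp (-k) * m)) fun d => sw b (-d) := fun d => by
    rw [((c.acts_vo o).mul ((c.acts_sp (-k)).mul hm')) d]
    simp [act, sh_sh, sh_zero, fl_fl]
  cases b
  · exact c.noneg _ h2.mem_N fun i => by
      rw [← c.el_single, h2]
      exact c.el_neg _
  · have h3 := (c.acts_vo (some 2)).mul h2
    refine c.noswap _ h3.mem_N ?_ ?_ ?_ <;>
      (rw [← c.el_single, h3]; try rw [← c.el_single]
       exact congrArg c.el (by decide +kernel))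

theorem mem_J_of_acts_id {m : C} (hm : c.Acts m id) : m ∈ c.J :=
  c.faith m fun i => by
    have := hm (Pi.single i 1)
    rw [id_eq, c.el_single] at this
    exact mul_inv_eq_iff_eq_mul.1 this

theorem acts_el (d : V3) : c.Acts (c.el d) id := fun a => by
  rw [c.el_comm, mul_inv_cancel_right, id_eq]

theorem e_mem_P : c.J ≤ (c.P : Subgroup C) :=
  (Subgroup.closure_le _).2 (by rintro _ ⟨i, rfl⟩; exact c.e_mem i)

theorem exists_rep {x : C} (hx : x ∈ (c.P : Subgroup C)) : ∃ d i, x = c.el d * c.sp i := by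
  let f : V3 × ZMod 3 → (c.P : Subgroup C) := fun p =>
    ⟨c.el p.1 * c.sp p.2, mul_mem (c.e_mem_P (c.el_mem _)) (c.sp_mem _)⟩
  have hf : Function.Injective f := by
    rintro ⟨a, i⟩ ⟨b, j⟩ h
    replace h : c.el a * c.sp i = c.el b * c.sp j := congrArg Subtype.val h
    have h1 : c.el (-b + a) = c.sp (j + -i) := by
      rw [c.el_add, c.el_neg, c.sp_add, c.sp_neg, inv_mul_eq_iff_eq_mul, ← mul_assoc, ← h,
        mul_inv_cancel_right]
    have hij : j + -i = 0 := by
      by_contra hne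
      refine c.s_notMem ?_
      have hmem : c.sp (j + -i) ∈ c.J := h1 ▸ c.el_mem _
      generalize j + -i = x at hmem hne
      fin_cases x
      · exact absurd rfl hne
      · exact (show c.sp 1 = c.s from pow_one _) ▸ hmem
      · have h2 : c.sp 1 = (c.sp 2)⁻¹ := by
          rw [← c.sp_neg]; rfl
        exact (show c.sp 1 = c.s from pow_one _) ▸ h2 ▸ inv_mem hmem
    rw [hij, c.sp_zero, ← c.el_zero] at h1
    have hab : -b + a = 0 := c.el_inj h1
    exact Prod.ext (neg_add_eq_zero.1 hab).symm (by linear_combination -hij)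
  have hb := hf.bijective_of_nat_card_le (by rw [c.card_P]; simp)
  obtain ⟨p, hp⟩ := hb.2 ⟨x, hx⟩
  exact ⟨p.1, p.2, (congrArg Subtype.val hp).symm⟩

theorem acts_px (d : V3) (i : ZMod 3) : c.Acts (c.el d * c.sp i) (sh i) :=
  fun a => (c.acts_el d).mul (c.acts_sp i) a

theorem P_le_N : (c.P : Subgroup C) ≤ c.N := fun x hx => by
  obtain ⟨d, i, rfl⟩ := c.exists_rep hx
  exact (c.acts_px d i).mem_N

theorem sp_notMem {i : ZMod 3} (hi : i ≠ 0) : c.sp i ∉ c.J := fun h => by
  obtain ⟨d, hd⟩ := c.exists_el h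
  have h1 := (hd ▸ c.acts_el d : c.Acts (c.sp i) id).ext (c.acts_sp i) (Pi.single 0 1)
  have key : ∀ i : ZMod 3, i ≠ 0 → sh i (Pi.single 0 1) ≠ Pi.single 0 1 := by decide +kernel
  exact key i hi h1.symm

theorem px_notMem {d : V3} {i : ZMod 3} : c.el d * c.sp i ∈ c.J ↔ i = 0 := by
  rw [mul_mem_cancel_left (c.el_mem d)]
  exact ⟨fun h => by_contra fun hi => c.sp_notMem hi h, fun h => by rw [h, c.sp_zero]; exact one_mem _⟩

theorem P_meet_comm {u : C} {d a : V3} {i : ZMod 3} (hu : u = c.el d * c.sp i) (hi : i ≠ 0)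
    (h : u * c.el a = c.el a * u) : a = a 0 • (1 : V3) := by
  refine sh_fix i a hi ?_
  refine c.el_inj ?_
  rw [← c.acts_px d i, ← hu, h, mul_inv_cancel_right]

theorem J_unique_P {A : Subgroup C} (hA : A ≤ (c.P : Subgroup C))
    (hc : ∀ a ∈ A, ∀ b ∈ A, a * b = b * a) (h27 : Nat.card A = 27) : A = c.J := by
  refine Subgroup.eq_of_le_of_card_ge (fun u hu => ?_) (by rw [h27]; exact c.card_J.le)
  by_contra hne
  obtain ⟨d, i, rfl⟩ := c.exists_rep (hA hu)
  have hi : i ≠ 0 := fun h => hne (c.px_notMem.2 h)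
  choose da ia hda using fun a : A => c.exists_rep (hA a.2)
  have hinj : Function.Injective fun a : A => (ia a, da a 0) := by
    intro a b hab
    simp only [Prod.mk.injEq] at hab
    have hm : c.el (da a - da b) ∈ A := by
      rw [sub_eq_add_neg, c.el_add, c.el_neg]
      have e1 : c.el (da a) * (c.el (da b))⁻¹ = (a : C) * (b : C)⁻¹ := by
        rw [hda a, hda b, hab.1]; group
      rw [e1]
      exact mul_mem a.2 (inv_mem b.2)
    have h1 := c.P_meet_comm rfl hi (hc _ hu _ hm)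
    rw [Pi.sub_apply, hab.2, sub_self, zero_smul, sub_eq_zero] at h1
    exact Subtype.ext (by rw [hda a, hda b, h1, hab.1])
  have := Nat.card_le_card_of_injective _ hinj
  rw [h27] at this
  simp at this

theorem isPGroup_J : IsPGroup 3 c.J := c.P.2.to_le c.e_mem_P

theorem J_unique {R A : Subgroup C} (hR : IsPGroup 3 R) (hJ : c.J ≤ R) (hA : A ≤ R)
    (hc : ∀ a ∈ A, ∀ b ∈ A, a * b = b * a) (h27 : Nat.card A = 27) : A = c.J := by
  haveI : Fact (Nat.Prime 3) := ⟨Nat.prime_three⟩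
  obtain ⟨S, hS⟩ := hR.exists_le_sylow
  obtain ⟨g, hg⟩ := MulAction.exists_smul_eq C S c.P
  have key : ∀ B : Subgroup C, B ≤ R → (∀ a ∈ B, ∀ b ∈ B, a * b = b * a) → Nat.card B = 27 →
      B.map (MulAut.conj g).toMonoidHom = c.J := by
    intro B hB hBc hB27
    refine c.J_unique_P ?_ ?_ ?_
    · rintro _ ⟨a, ha, rfl⟩
      rw [← hg, Sylow.coe_subgroup_smul]
      exact ⟨a, hS (hB ha), rfl⟩
    · rintro _ ⟨a, ha, rfl⟩ _ ⟨b, hb, rfl⟩
      rw [← map_mul, ← map_mul, hBc a ha b hb]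
    · rw [← Nat.card_congr (B.equivMapOfInjective _ (MulAut.conj g).injective).toEquiv, hB27]
  exact Subgroup.map_injective (MulAut.conj g).injective
    ((key A hA hc h27).trans (key c.J hJ (fun a ha b hb => c.J_comm ha hb) c.card_J).symm)

/-- Elements of `J` conjugate in a subgroup containing `J` are conjugate in its normalizer. -/
theorem fusion {H : Subgroup C} (hH : c.J ≤ H) {a g : C} (ha : a ∈ c.J) (hgH : g ∈ H)
    (hg : g * a * g⁻¹ ∈ c.J) : ∃ m ∈ H ⊓ c.N, m * a * m⁻¹ = g * a * g⁻¹ := by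
  haveI : Fact (Nat.Prime 3) := ⟨Nat.prime_three⟩
  set b := g * a * g⁻¹ with hb
  set D := H ⊓ Subgroup.centralizer ({b} : Set C) with hD
  set J' := c.J.map (MulAut.conj g).toMonoidHom with hJ'
  have hJD : c.J ≤ D := fun j hj =>
    ⟨hH hj, Subgroup.mem_centralizer_singleton_iff.2 (c.J_comm hj hg)⟩
  have hJ'D : J' ≤ D := by
    rintro _ ⟨j, hj, rfl⟩
    refine ⟨H.mul_mem (H.mul_mem hgH (hH hj)) (H.inv_mem hgH),
      Subgroup.mem_centralizer_singleton_iff.2 ?_⟩
    show g * j * g⁻¹ * b = b * (g * j * g⁻¹)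
    rw [hb, conj_mul, conj_mul, c.J_comm hj ha]
  have hJ'3 : IsPGroup 3 J' := c.isPGroup_J.map _
  obtain ⟨P1, hP1⟩ := (c.isPGroup_J.comap_subtype : IsPGroup 3 (c.J.subgroupOf D)).exists_le_sylow
  obtain ⟨P2, hP2⟩ := (hJ'3.comap_subtype : IsPGroup 3 (J'.subgroupOf D)).exists_le_sylow
  obtain ⟨h, hh⟩ := MulAction.exists_smul_eq D P2 P1
  refine ⟨(h : C) * g, ⟨H.mul_mem h.2.1 hgH, ?_⟩, ?_⟩
  · have heq : c.J.map (MulAut.conj ((h : C) * g)).toMonoidHom = c.J := by
      refine c.J_unique (R := (P1 : Subgroup D).map D.subtype) (P1.2.map _) ?_ ?_ ?_ ?_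
      · exact fun j hj => ⟨⟨j, hJD hj⟩, hP1 (Subgroup.mem_subgroupOf.2 hj), rfl⟩
      · rintro _ ⟨j, hj, rfl⟩
        have hj' : g * j * g⁻¹ ∈ J' := ⟨j, hj, rfl⟩
        refine ⟨h * ⟨g * j * g⁻¹, hJ'D hj'⟩ * h⁻¹, ?_, ?_⟩
        · rw [← hh, Sylow.coe_subgroup_smul]
          exact ⟨⟨g * j * g⁻¹, hJ'D hj'⟩, hP2 (Subgroup.mem_subgroupOf.2 hj'), rfl⟩
        · show (h : C) * (g * j * g⁻¹) * (h : C)⁻¹ = (h : C) * g * j * ((h : C) * g)⁻¹
          group
      · rintro _ ⟨x, hx, rfl⟩ _ ⟨y, hy, rfl⟩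
        rw [← map_mul, ← map_mul, c.J_comm hx hy]
      · rw [← Nat.card_congr (c.J.equivMapOfInjective _ (MulAut.conj _).injective).toEquiv]
        exact c.card_J
    exact Subgroup.mem_normalizer_fintype fun n hn => heq.le ⟨n, hn, rfl⟩
  · calc (h : C) * g * a * ((h : C) * g)⁻¹ = (h : C) * b * (h : C)⁻¹ := by rw [hb]; group
      _ = b := by rw [Subgroup.mem_centralizer_singleton_iff.1 h.2.2, mul_inv_cancel_right]

theorem el_fix {m : C} {q : M24} (hm : c.Acts m (act q)) {a : V3}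
    (h : m ∈ Subgroup.centralizer ({c.el a} : Set C)) : act q a = a :=
  c.el_inj (by rw [← hm, Subgroup.mem_centralizer_singleton_iff.1 h, mul_inv_cancel_right])

theorem cent_one {m : C} (hm : m ∈ Subgroup.centralizer ({c.el 1} : Set C)) :
    m ∈ (c.P : Subgroup C) := by
  have hN : m ∈ c.N := c.cent_sum (c.el_one ▸ hm)
  obtain ⟨⟨k, o, b⟩, hq⟩ := c.exists_act hN
  obtain ⟨rfl, rfl⟩ := fix_one _ (c.el_fix hq hm)
  have h : (c.sp k)⁻¹ * m ∈ c.J := c.mem_J_of_acts_id fun d => by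
    rw [← c.sp_neg, ((c.acts_sp (-k)).mul hq) d]
    simp [act, fl, sw, sh_sh, sh_zero]
  have := mul_mem (c.sp_mem k) (c.e_mem_P h)
  rwa [mul_inv_cancel_left] at this

theorem cent_el_one : Subgroup.centralizer ({c.el 1} : Set C) = c.P := by
  refine le_antisymm (fun m => c.cent_one) fun x hx => ?_
  obtain ⟨d, i, rfl⟩ := c.exists_rep hx
  refine Subgroup.mem_centralizer_singleton_iff.2 (mul_inv_eq_iff_eq_mul.1 ?_)
  rw [c.acts_px d i]
  rfl

theorem conj_centralizer {m x g : C} (hg : g ∈ Subgroup.centralizer ({m * x * m⁻¹} : Set C)) :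
    m⁻¹ * g * m ∈ Subgroup.centralizer ({x} : Set C) := by
  refine Subgroup.mem_centralizer_singleton_iff.2 ?_
  have h := Subgroup.mem_centralizer_singleton_iff.1 hg
  calc m⁻¹ * g * m * x = m⁻¹ * (g * (m * x * m⁻¹)) * m := by group
    _ = _ := by rw [h]; group

theorem cent_sing {d : V3} (hd : d ≠ 0) (h : (∀ i, d i ≠ 0) ∨ ∃ i x, d = Pi.single i x) :
    Subgroup.centralizer ({c.el d} : Set C) ≤ c.N := by
  have hneg : ∀ y : C, Subgroup.centralizer ({y⁻¹} : Set C) ≤ Subgroup.centralizer ({y} : Set C) :=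
    fun y g hg => Subgroup.mem_centralizer_singleton_iff.2
      (inv_inv y ▸ (show Commute g y⁻¹ from Subgroup.mem_centralizer_singleton_iff.1 hg).inv_right.eq)
  rcases h with h | ⟨i, x, rfl⟩
  · have one : Subgroup.centralizer ({c.el 1} : Set C) ≤ c.N := c.cent_el_one ▸ c.P_le_N
    obtain ⟨o, rfl | rfl⟩ := full_cases d h
    all_goals
      intro g hg
      rw [← c.acts_vo o] at hg
    · have := mul_mem (mul_mem (c.vo_mem_N o) (one (conj_centralizer hg))) (inv_mem (c.vo_mem_N o))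
      simpa [mul_assoc] using this
    · have h1 := conj_centralizer hg
      rw [c.el_neg] at h1
      have := mul_mem (mul_mem (c.vo_mem_N o) (one (hneg _ h1))) (inv_mem (c.vo_mem_N o))
      simpa [mul_assoc] using this
  · have hx : x = 1 ∨ x = -1 := by
      revert hd
      revert x i
      decide +kernel
    intro g hg
    rcases hx with rfl | rfl
    · rw [c.el_single] at hg
      exact c.cent_e i hg
    · rw [Pi.single_neg, c.el_neg, c.el_single] at hg
      exact c.cent_e i (hneg _ hg)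

theorem O_meet {O : Subgroup C} (hO : ¬ 3 ∣ Nat.card O) (hJO : c.J ≤ Subgroup.normalizer (O : Set C))
    {x : C} (hx : x ∈ O) (hxN : x ∈ c.N) : x = 1 := by
  have hOJ : ∀ y ∈ O, y ∈ c.J → y = 1 := fun y hy hyJ => by
    obtain ⟨d, rfl⟩ := c.exists_el hyJ
    refine orderOf_eq_one_iff.1 (Nat.eq_one_of_dvd_coprimes
      ((Nat.prime_three.coprime_iff_not_dvd).2 hO) (orderOf_dvd_of_pow_eq_one (c.el_cube d)) ?_)
    exact (Subgroup.orderOf_mk _ hy).symm.dvd.trans (orderOf_dvd_natCard (⟨_, hy⟩ : O))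
  refine hOJ x hx (c.faith x fun i => ?_)
  have hi : c.e i ∈ c.J := Subgroup.subset_closure ⟨i, rfl⟩
  have h1 : x * c.e i * x⁻¹ * (c.e i)⁻¹ ∈ c.J :=
    mul_mem ((Subgroup.mem_normalizer_iff.1 hxN _).1 hi) (inv_mem hi)
  have h2 : x * c.e i * x⁻¹ * (c.e i)⁻¹ ∈ O := by
    have h3 := (Subgroup.mem_normalizer_iff.1 (hJO hi) _).1 (inv_mem hx)
    have := mul_mem hx h3
    simpa [mul_assoc] using this
  exact mul_inv_eq_iff_eq_mul.1 (mul_inv_eq_one.1 (hOJ _ h2 h1))

/-- The subgroup of `J` with a vanishing coordinate. -/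
def plane (j : ZMod 3) : Subgroup C where
  carrier := {x | ∃ d : V3, d j = 0 ∧ c.el d = x}
  one_mem' := ⟨0, rfl, c.el_zero⟩
  mul_mem' := by
    rintro _ _ ⟨a, ha, rfl⟩ ⟨b, hb, rfl⟩
    exact ⟨a + b, by simp [ha, hb], c.el_add a b⟩
  inv_mem' := by
    rintro _ ⟨a, ha, rfl⟩
    exact ⟨-a, by simp [ha], c.el_neg a⟩

theorem card_coord : ∀ j : ZMod 3, Fintype.card {d : V3 // d j = 0} = 9 := by decide +kernel

theorem card_plane (j : ZMod 3) : Nat.card (c.plane j) = 9 := by
  have e : {d : V3 // d j = 0} ≃ c.plane j :=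
    Equiv.ofBijective (fun d => ⟨c.el d.1, d.1, d.2, rfl⟩)
      ⟨fun a b h => Subtype.ext (c.el_inj (congrArg Subtype.val h)),
        fun x => by
          obtain ⟨d, hd, he⟩ := x.2
          exact ⟨⟨d, hd⟩, Subtype.ext he⟩⟩
  rw [← Nat.card_congr e, Nat.card_eq_fintype_card, card_coord]

theorem plane_gen {K : Subgroup C} (j : ZMod 3) (hK : ¬ 3 ∣ Nat.card K)
    (hn : c.plane j ≤ Subgroup.normalizer (K : Set C))
    (h : ∀ d : V3, d j = 0 → d ≠ 0 → ∀ x ∈ K, x * c.el d = c.el d * x → x = 1) : K = ⊥ := by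
  haveI : IsMulCommutative (c.plane j) := ⟨⟨fun a b => Subtype.ext (by
    obtain ⟨x, _, hx⟩ := a.2
    obtain ⟨y, _, hy⟩ := b.2
    show (a : C) * (b : C) = (b : C) * (a : C)
    rw [← hx, ← hy, c.el_comm])⟩⟩
  have hcyc : ¬ IsCyclic (c.plane j) := fun hc => by
    have h3 : Monoid.exponent (c.plane j) ∣ 3 := Monoid.exponent_dvd_of_forall_pow_eq_one fun a => by
      obtain ⟨x, _, hx⟩ := a.2
      exact Subtype.ext (by simpa [← hx] using c.el_cube x)
    rw [IsCyclic.exponent_eq_card, c.card_plane] at h3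
    norm_num at h3
  have hcop : (Nat.card (c.plane j)).Coprime (Nat.card K) := by
    rw [c.card_plane, show (9 : ℕ) = 3 ^ 2 by norm_num]
    exact ((Nat.prime_three.coprime_iff_not_dvd).2 hK).pow_left 2
  rw [← CoprimeGen.iSup_centralizer_eq hcyc hn hcop, eq_bot_iff]
  refine iSup₂_le fun a ha => ?_
  obtain ⟨⟨d, hd, rfl⟩, ha1⟩ := ha
  intro x hx
  exact Subgroup.mem_bot.2 (h d hd (fun e => ha1 (by rw [e, c.el_zero])) x hx.1
    (Subgroup.mem_centralizer_singleton_iff.1 hx.2))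

/-- `J` normalizes no nontrivial subgroup of order prime to three. -/
theorem signalizer {O : Subgroup C} (hO : ¬ 3 ∣ Nat.card O)
    (hJO : c.J ≤ Subgroup.normalizer (O : Set C)) : O = ⊥ := by
  refine c.plane_gen 0 hO ((fun x hx => by
    obtain ⟨d, _, rfl⟩ := hx; exact hJO (c.el_mem d))) fun a _ ha x hx hxa => ?_
  by_cases hsing : (∀ i, a i ≠ 0) ∨ ∃ i y, a = Pi.single i y
  · exact c.O_meet hO hJO hx (c.cent_sing ha hsing (Subgroup.mem_centralizer_singleton_iff.2 hxa))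
  obtain ⟨j, hj⟩ : ∃ j, a j ≠ 0 := by
    by_contra hno; push Not at hno; exact ha (funext hno)
  set K := O ⊓ Subgroup.centralizer ({c.el a} : Set C) with hK
  suffices hbot : K = ⊥ by
    have hxK : x ∈ K := ⟨hx, Subgroup.mem_centralizer_singleton_iff.2 hxa⟩
    rwa [hbot, Subgroup.mem_bot] at hxK
  refine c.plane_gen j ?_ ?_ fun b hbj hb y hy hyb => ?_
  · exact fun hd => hO (hd.trans (Subgroup.card_dvd_of_le inf_le_left))
  · rintro _ ⟨d, _, rfl⟩
    refine Subgroup.mem_normalizer_fintype fun y hy => ⟨(Subgroup.mem_normalizer_iff.1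
      (hJO (c.el_mem d)) y).1 hy.1, Subgroup.mem_centralizer_singleton_iff.2 ?_⟩
    have h1 : Commute y (c.el a) := Subgroup.mem_centralizer_singleton_iff.1 hy.2
    have h2 : Commute (c.el d) (c.el a) := c.el_comm d a
    exact ((h2.mul_left h1).mul_left h2.inv_left).eq
  · obtain ⟨p, r, hne, hs⟩ := plane_sing a b ha (plane_not_mem a b j hj hbj hb)
    refine c.O_meet hO hJO hy.1 (c.cent_sing hne hs (Subgroup.mem_centralizer_singleton_iff.2 ?_))
    rw [c.el_add, c.el_smul, c.el_smul]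
    exact (((show Commute y (c.el a) from Subgroup.mem_centralizer_singleton_iff.1 hy.2).pow_right
      p.val).mul_right ((show Commute y (c.el b) from hyb).pow_right r.val)).eq

theorem three_of_normal {H : Subgroup C} (h : H ⊓ c.N ≤ c.J) :
    ∀ m ∈ H, (∃ k : ℕ, m ^ 3 ^ k = 1) → m ∈ Subgroup.normalizer (c.J : Set C) → m ∈ c.J :=
  fun _ hm _ hn => h ⟨hm, hn⟩

/-- A subgroup meeting the normalizer of `J` in `J` equals `J`. -/
theorem eq_J {H : Subgroup C} (hJH : c.J ≤ H) (h : H ⊓ c.N ≤ c.J) : H = c.J := by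
  obtain ⟨O, hOH, hn, hO, -, hdec, -⟩ := exists_complement hJH c.isPGroup_J (c.three_of_normal h)
    (fun m hm hmn e he => c.J_comm (h ⟨hm, hmn⟩) he)
  have hbot := c.signalizer hO (hJH.trans hn)
  refine le_antisymm (fun x hx => ?_) hJH
  obtain ⟨o, ho, y, hy, rfl⟩ := hdec x hx
  rw [hbot, Subgroup.mem_bot] at ho
  rwa [ho, one_mul]

/-- In the centralizer of an element with a vanishing coordinate the 3-elements of `N(J)` are in `J`. -/
theorem nonfull_three {a : V3} (ha : a ≠ 0) (h0 : ∃ i, a i = 0) {m : C}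
    (hm : m ∈ Subgroup.centralizer ({c.el a} : Set C)) (h3 : ∃ k : ℕ, m ^ 3 ^ k = 1)
    (hN : m ∈ c.N) : m ∈ c.J := by
  obtain ⟨q, hq⟩ := c.exists_act hN
  have h2 : m ^ 4 ∈ c.J := c.mem_J_of_acts_id fun d => by
    rw [show m ^ 4 = m * (m * (m * m)) by simp [pow_succ, mul_assoc], (hq.mul (hq.mul (hq.mul hq))) d]
    simp [fix_invol q a ha h0 (c.el_fix hq hm)]
  obtain ⟨k, hk⟩ := h3
  have hcop : Nat.Coprime 4 (orderOf m) :=
    (Nat.Coprime.pow_right k (by norm_num : Nat.Coprime 4 3)).coprime_dvd_right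
      (orderOf_dvd_of_pow_eq_one hk)
  obtain ⟨e, he⟩ := exists_pow_eq_self_of_coprime hcop
  rw [← he]
  exact pow_mem h2 e

/-- Two commuting elements of `J` spanning a plane with a pair have centralizer `J`. -/
theorem pair_two {a b : V3} (h0 : ∃ i, a i = 0) (hs : ¬ ∃ i x, a = Pi.single i x)
    (hb : ¬ ∃ x : ZMod 3, b = x • a) :
    Subgroup.centralizer ({c.el a} : Set C) ⊓ Subgroup.centralizer ({c.el b} : Set C) = c.J := by
  refine c.eq_J (fun j hj => ⟨Subgroup.mem_centralizer_singleton_iff.2 (c.J_comm hj (c.el_mem a)),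
    Subgroup.mem_centralizer_singleton_iff.2 (c.J_comm hj (c.el_mem b))⟩) ?_
  rintro m ⟨⟨hma, hmb⟩, hmN⟩
  obtain ⟨q, hq⟩ := c.exists_act hmN
  rcases fix_two q a b (c.el_fix hq hma) h0 hs (c.el_fix hq hmb) with rfl | h
  · exact c.mem_J_of_acts_id fun d => by rw [hq d]; simp [act, fl, sw, sh_zero]
  · exact absurd h hb

/-- No element of `P` outside `J` is conjugate into `J`. -/
theorem not_fuse {u : C} (hu : u ∈ (c.P : Subgroup C)) (huJ : u ∉ c.J) (d : V3) :
    ¬ IsConj u (c.el d) := by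
  intro hc
  obtain ⟨g, hg⟩ := isConj_iff.1 hc
  have hu3 : u ^ 3 = 1 := by
    have := c.el_cube d
    rwa [← hg, conj_pow, mul_inv_eq_one, mul_eq_left] at this
  obtain ⟨du, iu, hue⟩ := c.exists_rep hu
  have hiu : iu ≠ 0 := fun h => huJ (hue ▸ c.px_notMem.2 h)
  by_cases hd : d = 0
  · subst hd
    rw [c.el_zero, mul_inv_eq_one, mul_eq_left] at hg
    exact huJ (hg ▸ one_mem _)
  rcases three_cases d hd with hf | hrest
  · obtain ⟨o, rfl | rfl⟩ := full_cases d hf <;> rw [← c.acts_vo o] at hc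
    · exact (c.no_fuse u hu huJ hu3).1 (c.el_one ▸ hc.trans (isConj_iff.2 ⟨c.vo o, rfl⟩).symm)
    · rw [c.el_neg, c.el_one] at hc
      exact (c.no_fuse u hu huJ hu3).2 (hc.trans (isConj_iff.2 ⟨c.vo o, rfl⟩).symm)
  have h0 : ∃ i, d i = 0 := by
    rcases hrest with ⟨i, x, rfl⟩ | ⟨h, -⟩
    · exact ⟨i + 1, Pi.single_eq_of_ne ((by decide : ∀ i : ZMod 3, i + 1 ≠ i) i) _⟩
    · exact h
  set D := Subgroup.centralizer ({c.el d} : Set C) with hD
  have hJD : c.J ≤ D := fun j hj =>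
    Subgroup.mem_centralizer_singleton_iff.2 (c.J_comm hj (c.el_mem d))
  have huz : u * c.el 1 = c.el 1 * u := by
    have : u ∈ Subgroup.centralizer ({c.el 1} : Set C) := c.cent_el_one.symm ▸ hu
    exact Subgroup.mem_centralizer_singleton_iff.1 this
  have hzD : g * c.el 1 * g⁻¹ ∈ D :=
    Subgroup.mem_centralizer_singleton_iff.2 (by rw [← hg, conj_mul, conj_mul, huz])
  obtain ⟨h, hh, hhz⟩ := conj_into hJD c.isPGroup_J (fun m hm h3 hn => c.nonfull_three hd h0 hm h3 hn)
    hzD ⟨1, by rw [pow_one, conj_pow, c.el_cube]; group⟩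
  set g' := h * g with hg'
  have hu' : g' * u * g'⁻¹ = c.el d := by
    calc g' * u * g'⁻¹ = h * (g * u * g⁻¹) * h⁻¹ := by rw [hg']; group
      _ = c.el d := by rw [hg, Subgroup.mem_centralizer_singleton_iff.1 hh, mul_inv_cancel_right]
  have hz' : g' * c.el 1 * g'⁻¹ ∈ c.J := by
    convert hhz using 1
    rw [hg']; group
  have hle : c.J.map (MulAut.conj g'⁻¹).toMonoidHom ≤ (c.P : Subgroup C) := by
    rintro _ ⟨j, hj, rfl⟩
    rw [← c.cent_el_one]
    show g'⁻¹ * j * g'⁻¹⁻¹ ∈ _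
    rw [inv_inv]
    exact conj_centralizer (Subgroup.mem_centralizer_singleton_iff.2 (c.J_comm hj hz'))
  have heq := c.J_unique_P hle (by
    rintro _ ⟨x, hx, rfl⟩ _ ⟨y, hy, rfl⟩
    rw [← map_mul, ← map_mul, c.J_comm hx hy])
    (by rw [← Nat.card_congr (c.J.equivMapOfInjective _ (MulAut.conj _).injective).toEquiv]
        exact c.card_J)
  exact huJ (heq ▸ ⟨c.el d, c.el_mem d, by
    show g'⁻¹ * c.el d * g'⁻¹⁻¹ = u
    rw [← hu']; group⟩)

end Cfg

end Cfsg.Agent.McL3Cfg77
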