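import Mathlib
import Cfsg.Agent.Lib.PSLSimple
import Cfsg.Agent.Lib.PSLCard

/-!
Facts about `SL(2,5)`: the involution, the elements of order three, perfectness.
-/

set_option autoImplicit false

namespace Cfsg.Agent.McL3Loc23

open Matrix

/-- `SL(2,5)`. -/
abbrev SL5 := Matrix.SpecialLinearGroup (Fin 2) (ZMod 5)

instance : Fact (Nat.Prime 5) := ⟨by norm_num⟩

/-- `-1`. -/
def mI : SL5 := ⟨!![4, 0; 0, 4], by decide⟩

/-- An element of order three. -/
def uu : SL5 := ⟨!![0, 4; 1, 4], by decide⟩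

/-- Another element of order three. -/
def vv : SL5 := ⟨!![0, 1; 4, 4], by decide⟩

/-- An element of order four inverting `uu`. -/
def ff : SL5 := ⟨!![0, 2; 2, 0], by decide⟩

theorem uu_cube : uu ^ 3 = 1 := by decide
theorem vv_cube : vv ^ 3 = 1 := by decide
theorem uu_ne : uu ≠ 1 := by decide
theorem vv_ne : vv ≠ 1 := by decide
theorem mI_ne : mI ≠ 1 := by decide
theorem ff_sq : ff * ff = mI := by decide
theorem ff_conj : ff * uu * ff⁻¹ = uu⁻¹ := by decide
theorem uv_five : ((uu * vv) * (uu * vv)) ^ 5 = 1 := by decide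
theorem uv_ne : (uu * vv) * (uu * vv) ≠ 1 := by decide

theorem sq_cases : ∀ a b c d : ZMod 5, a * d - b * c = 1 → a * a + b * c = 1 → a * b + b * d = 0 →
    c * a + d * c = 0 → b = 0 ∧ c = 0 ∧ (a = 1 ∧ d = 1 ∨ a = 4 ∧ d = 4) := by decide +kernel

theorem eq_mI_of_sq {g : SL5} (h : g * g = 1) (hne : g ≠ 1) : g = mI := by
  have hdet : g 0 0 * g 1 1 - g 0 1 * g 1 0 = 1 := by
    rw [← Matrix.det_fin_two]; exact g.2
  have hm : (g : Matrix (Fin 2) (Fin 2) (ZMod 5)) * g = 1 := congrArg Subtype.val h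
  have e00 := congrFun (congrFun hm 0) 0
  have e01 := congrFun (congrFun hm 0) 1
  have e10 := congrFun (congrFun hm 1) 0
  simp [Matrix.mul_apply, Fin.sum_univ_two] at e00 e01 e10
  obtain ⟨hb, hc, had⟩ := sq_cases _ _ _ _ hdet e00 e01 e10
  rcases had with ⟨ha, hd⟩ | ⟨ha, hd⟩
  · exfalso
    apply hne
    ext i j
    fin_cases i <;> fin_cases j <;> simp [ha, hb, hc, hd]
  · ext i j
    fin_cases i <;> fin_cases j <;> simp [mI, ha, hb, hc, hd]

theorem card_SL5 : Nat.card SL5 = 120 := by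
  rw [PSLCard.card_SL2, Nat.card_eq_fintype_card, ZMod.card]
  norm_num

theorem perfect : commutator SL5 = ⊤ :=
  PSLSimple.commutator_SL_fin_eq_top le_rfl fun _ => PSLSimple.exists_sq_ne_one
    (by rw [Nat.card_eq_fintype_card, ZMod.card]; norm_num)

theorem conj_uu {g : SL5} (hg : orderOf g = 3) : ∃ h : SL5, h * uu * h⁻¹ = g ∨ h * uu * h⁻¹ = g⁻¹ := by
  have : Fact (Nat.Prime 3) := ⟨Nat.prime_three⟩
  have hu : orderOf uu = 3 := orderOf_eq_prime uu_cube uu_ne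
  have key : ∀ {a : SL5}, orderOf a = 3 → ∃ P : Sylow 3 SL5, (P : Subgroup SL5) = Subgroup.zpowers a := by
    intro a ha
    have hpg : IsPGroup 3 (Subgroup.zpowers a) :=
      IsPGroup.of_card (n := 1) (by rw [Nat.card_zpowers, ha, pow_one])
    obtain ⟨P, hP⟩ := hpg.exists_le_sylow
    refine ⟨P, (Subgroup.eq_of_le_of_card_ge hP ?_).symm⟩
    rw [Nat.card_zpowers, ha]
    obtain ⟨k, hk⟩ := P.isPGroup'.exists_card_eq
    have hdvd : 3 ^ k ∣ 120 := by rw [← hk, ← card_SL5]; exact Subgroup.card_subgroup_dvd_card _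
    rw [hk]
    by_contra hlt
    have : 2 ≤ k := by
      by_contra hk2
      interval_cases k <;> omega
    have h9 : 3 ^ 2 ∣ 120 := (pow_dvd_pow 3 this).trans hdvd
    omega
  obtain ⟨P, hP⟩ := key hu
  obtain ⟨R, hR⟩ := key hg
  obtain ⟨h, rfl⟩ := MulAction.exists_smul_eq SL5 P R
  refine ⟨h, ?_⟩
  have hmem : h * uu * h⁻¹ ∈ Subgroup.zpowers g := by
    rw [← hR, Sylow.coe_subgroup_smul, hP]
    exact ⟨uu, Subgroup.mem_zpowers uu, rfl⟩
  rw [← (isOfFinOrder_of_finite g).mem_powers_iff_mem_zpowers,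
    (isOfFinOrder_of_finite g).mem_powers_iff_mem_range_orderOf, hg] at hmem
  simp only [Finset.mem_image, Finset.mem_range] at hmem
  obtain ⟨k, hk, hk'⟩ := hmem
  interval_cases k
  · exfalso
    rw [pow_zero, eq_comm, mul_inv_eq_one, mul_eq_left] at hk'
    exact uu_ne hk'
  · left; rw [← hk', pow_one]
  · right
    rw [← hk', eq_inv_iff_mul_eq_one, ← pow_succ, show 2 + 1 = orderOf g by rw [hg], pow_orderOf_eq_one]

theorem exists_inverter {g : SL5} (hg : orderOf g = 3) : ∃ f : SL5, f * f = mI ∧ f * g * f⁻¹ = g⁻¹ := by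
  obtain ⟨h, hh⟩ := conj_uu hg
  have hmI : h * mI * h⁻¹ = mI := by
    refine eq_mI_of_sq ?_ ?_
    · rw [show h * mI * h⁻¹ * (h * mI * h⁻¹) = h * (mI * mI) * h⁻¹ by group,
        show mI * mI = (1 : SL5) by decide, mul_one, mul_inv_cancel]
    · rw [Ne, mul_inv_eq_one, mul_eq_left]; exact mI_ne
  refine ⟨h * ff * h⁻¹, ?_, ?_⟩
  · rw [show h * ff * h⁻¹ * (h * ff * h⁻¹) = h * (ff * ff) * h⁻¹ by group, ff_sq, hmI]
  · have e1 : h * ff * h⁻¹ * (h * uu * h⁻¹) * (h * ff * h⁻¹)⁻¹ = (h * uu * h⁻¹)⁻¹ := by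
      rw [show h * ff * h⁻¹ * (h * uu * h⁻¹) * (h * ff * h⁻¹)⁻¹ = h * (ff * uu * ff⁻¹) * h⁻¹ by group,
        ff_conj]
      group
    rcases hh with e | e
    · rw [e] at e1; exact e1
    · rw [e, inv_inv] at e1
      have := congrArg (fun w => w⁻¹) e1
      simpa [mul_assoc] using this

end Cfsg.Agent.McL3Loc23
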