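import Cfsg.Agent.Lib.McL3Setup39
import Cfsg.Agent.Lib.McL3Loc23SL

/-!
The involution of the `SL₂(5)`-cover and its complement in the centralizer of `z`.
-/

set_option autoImplicit false
set_option linter.style.haveILetI false

namespace Cfsg.Agent.McL3Loc23

open Subgroup Cfsg.Agent.McL3x39

universe w

section Generic

variable {G : Type w} [Group G] [Finite G]

theorem card_three_pow {A : Subgroup G} {B : Subgroup G} (hAB : A ≤ B) {n : ℕ}
    (hB : Nat.card B = 3 ^ n) : ∃ k ≤ n, Nat.card A = 3 ^ k :=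
  (Nat.dvd_prime_pow Nat.prime_three).1 (hB ▸ card_dvd_of_le hAB)

/-- Fixed points of an automorphism of order five of an invariant subgroup. -/
theorem fix_modEq {c : G} (hc : c ^ 5 = 1) (A : Subgroup G) (hinv : ∀ a ∈ A, c * a * c⁻¹ ∈ A) :
    Nat.card (A ⊓ centralizer ({c} : Set G) : Subgroup G) ≡ Nat.card A [MOD 5] := by
  classical
  have : Fintype A := Fintype.ofFinite A
  let f : A → A := fun a => ⟨c * a * c⁻¹, hinv a a.2⟩
  have hbij : Function.Bijective f := Finite.injective_iff_bijective.1 fun a b h => Subtype.ext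
    (mul_left_cancel (mul_right_cancel (congrArg Subtype.val h)))
  let σ : Equiv.Perm A := Equiv.ofBijective f hbij
  have hpow : ∀ (k : ℕ) (a : A), (((σ ^ k) a : A) : G) = c ^ k * a * (c ^ k)⁻¹ := by
    intro k
    induction k with
    | zero => simp
    | succ k ih =>
      intro a
      rw [pow_succ', Equiv.Perm.mul_apply]
      show c * (((σ ^ k) a : A) : G) * c⁻¹ = _
      rw [ih, pow_succ']; group
  have hσ : σ ^ 5 ^ 1 = 1 := by
    refine Equiv.ext fun a => Subtype.ext ?_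
    rw [hpow, pow_one, hc]; simp
  have h := Equiv.Perm.card_compl_support_modEq hσ
  rw [← Nat.card_eq_fintype_card] at h
  convert h using 2
  rw [← Fintype.card_coe, ← Nat.card_eq_fintype_card]
  refine Nat.card_congr ⟨fun a => ⟨⟨a, a.2.1⟩, ?_⟩, fun a => ⟨a.1, a.1.2, ?_⟩, fun a => rfl,
    fun a => rfl⟩
  · rw [Finset.mem_compl, Equiv.Perm.mem_support, not_not]
    refine Subtype.ext ?_
    show c * (a : G) * c⁻¹ = a
    rw [← mem_centralizer_singleton_iff.1 a.2.2, mul_inv_cancel_right]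
  · have h2 := a.2
    rw [Finset.mem_compl, Equiv.Perm.mem_support, not_not] at h2
    have h3 : c * (a.1 : G) * c⁻¹ = a.1 := congrArg Subtype.val h2
    exact mem_centralizer_singleton_iff.2 (mul_inv_eq_iff_eq_mul.1 h3).symm

theorem card_inf_ge {Q A B : Subgroup G} (hA : A ≤ Q) (hB : B ≤ Q) (hQ : Nat.card Q = 243)
    (hA81 : 81 ≤ Nat.card A) (hB81 : 81 ≤ Nat.card B) : 27 ≤ Nat.card (A ⊓ B : Subgroup G) := by
  have h1 := (A.subgroupOf Q).card_mul_index
  have h2 := (B.subgroupOf Q).card_mul_index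
  have h3 := ((A ⊓ B).subgroupOf Q).card_mul_index
  have h4 : ((A ⊓ B).subgroupOf Q).index ≤ (A.subgroupOf Q).index * (B.subgroupOf Q).index := by
    rw [show (A ⊓ B).subgroupOf Q = A.subgroupOf Q ⊓ B.subgroupOf Q from
      Subgroup.comap_inf A B Q.subtype]
    exact Subgroup.index_inf_le
  rw [Nat.card_congr (subgroupOfEquivOfLe hA).toEquiv, hQ] at h1
  rw [Nat.card_congr (subgroupOfEquivOfLe hB).toEquiv, hQ] at h2
  rw [Nat.card_congr (subgroupOfEquivOfLe (inf_le_left.trans hA)).toEquiv, hQ] at h3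
  have hi : (A.subgroupOf Q).index ≤ 3 := by
    by_contra hlt; push Not at hlt
    have := Nat.mul_le_mul hA81 (show 4 ≤ (A.subgroupOf Q).index from hlt)
    omega
  have hj : (B.subgroupOf Q).index ≤ 3 := by
    by_contra hlt; push Not at hlt
    have := Nat.mul_le_mul hB81 (show 4 ≤ (B.subgroupOf Q).index from hlt)
    omega
  by_contra hlt; push Not at hlt
  have h5 := h4.trans (Nat.mul_le_mul hi hj)
  have := Nat.mul_le_mul (show Nat.card (A ⊓ B : Subgroup G) ≤ 26 by omega) h5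
  omega

end Generic

variable {G : Type w} [Group G] [Finite G] (d : Data G)

theorem z_mem_center_L {g : G} (hg : g ∈ d.L) : g * d.z = d.z * g :=
  mem_centralizer_singleton_iff.1 (d.L_le hg)

theorem mem_N_of_L {g : G} (hg : g ∈ d.L) : g ∈ normalizer (zpowers d.z : Set G) :=
  centralizer_le_normalizer _ (by
    rw [mem_centralizer_iff]
    intro y hy
    obtain ⟨i, rfl⟩ := mem_zpowers_iff.1 hy
    exact ((show Commute g d.z from z_mem_center_L d hg).zpow_right i).symm.eq)

theorem conj_Q {m q : G} (hm : m ∈ normalizer (zpowers d.z : Set G)) (hq : q ∈ d.Q) :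
    m * q * m⁻¹ ∈ d.Q :=
  (mem_normalizer_iff.1 (d.Q_normal hm) q).1 hq

theorem card_L : Nat.card d.L = 29160 := by
  haveI := d.Q_sub
  obtain ⟨e⟩ := d.eL
  have h := (d.Q.subgroupOf d.L).card_mul_index
  rw [Nat.card_congr (subgroupOfEquivOfLe d.Q_le_L).toEquiv, d.card_Q,
    show (d.Q.subgroupOf d.L).index = Nat.card (d.L ⧸ d.Q.subgroupOf d.L) from rfl,
    Nat.card_congr e.toEquiv, card_SL5] at h
  omega

theorem z_mem_S : d.z ∈ (d.S : Subgroup G) := by
  have : d.z ∈ (d.S : Subgroup G) ⊓ centralizer ((d.S : Subgroup G) : Set G) :=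
    d.center_S ▸ mem_zpowers d.z
  exact this.1

theorem S_le_C : (d.S : Subgroup G) ≤ centralizer ({d.z} : Set G) := by
  intro s hs
  have : d.z ∈ (d.S : Subgroup G) ⊓ centralizer ((d.S : Subgroup G) : Set G) :=
    d.center_S ▸ mem_zpowers d.z
  exact mem_centralizer_singleton_iff.2 (mem_centralizer_iff.1 this.2 s hs)

theorem S_le_L : (d.S : Subgroup G) ≤ d.L := by
  intro s hs
  refine d.L_three s ?_ ?_
  · refine centralizer_le_normalizer _ (mem_centralizer_iff.2 fun y hy => ?_)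
    obtain ⟨i, rfl⟩ := mem_zpowers_iff.1 hy
    exact ((show Commute s d.z from
      mem_centralizer_singleton_iff.1 (S_le_C d hs)).zpow_right i).symm.eq
  · have : Fact (Nat.Prime 3) := ⟨Nat.prime_three⟩
    obtain ⟨k, hk⟩ := IsPGroup.iff_orderOf.1 d.S.isPGroup' ⟨s, hs⟩
    exact ⟨k, by rwa [orderOf_mk] at hk⟩

theorem Q_le_S : d.Q ≤ (d.S : Subgroup G) := by
  have : Fact (Nat.Prime 3) := ⟨Nat.prime_three⟩
  have hQp : IsPGroup 3 d.Q := IsPGroup.of_card (n := 5) (by rw [d.card_Q]; norm_num)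
  have hSN : (d.S : Subgroup G) ≤ normalizer (d.Q : Set G) := fun s hs =>
    d.Q_normal (mem_N_of_L d (S_le_L d hs))
  have hj : IsPGroup 3 ((d.S : Subgroup G) ⊔ d.Q : Subgroup G) :=
    d.S.isPGroup'.to_sup_of_normal_right' hQp hSN
  exact le_sup_right.trans (d.S.3 hj le_sup_left).le

theorem card_S : Nat.card (d.S : Subgroup G) = 729 := by
  have : Fact (Nat.Prime 3) := ⟨Nat.prime_three⟩
  obtain ⟨k, hk⟩ := d.S.isPGroup'.exists_card_eq
  have h := ((d.S : Subgroup G).subgroupOf d.L).card_mul_index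
  rw [Nat.card_congr (subgroupOfEquivOfLe (S_le_L d)).toEquiv, hk, card_L] at h
  have hnd : ¬ 3 ∣ ((d.S : Subgroup G).subgroupOf d.L).index := fun hd =>
    d.S.not_dvd_index (hd.trans ((relIndex_mul_index (S_le_L d)) ▸ dvd_mul_right _ _))
  rw [hk]
  rcases Nat.lt_or_ge k 6 with hlt | hge
  · exfalso
    refine hnd ?_
    have h1 : 3 ^ k * 3 ∣ 3 ^ k * ((d.S : Subgroup G).subgroupOf d.L).index := by
      rw [h, ← pow_succ]
      exact (pow_dvd_pow 3 (show k + 1 ≤ 6 by omega)).trans (by norm_num)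
    exact Nat.dvd_of_mul_dvd_mul_left (pow_pos (by norm_num) k) h1
  · have hle : 3 ^ k ∣ 29160 := ⟨_, h.symm⟩
    have : k ≤ 6 := by
      by_contra hk7
      have := (pow_dvd_pow 3 (show 7 ≤ k by omega)).trans hle
      omega
    rw [show k = 6 by omega]; norm_num

theorem no_abelian_81 {A : Subgroup G} (hA : A ≤ d.Q) (hcard : Nat.card A = 81)
    (hcomm : ∀ a ∈ A, ∀ b ∈ A, a * b = b * a) : False := by
  obtain ⟨q, hq, hqA⟩ : ∃ q ∈ d.Q, q ∉ A := by
    by_contra hcon
    push Not at hcon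
    have := Subgroup.card_le_of_le (show d.Q ≤ A from hcon)
    rw [d.card_Q, hcard] at this
    omega
  have hz : ∀ a ∈ A, a * q * a⁻¹ * q⁻¹ ∈ zpowers d.z := fun a ha => d.comm_Q a (hA ha) q hq
  let φ : A →* zpowers d.z := MonoidHom.mk' (fun a => ⟨(a : G) * q * (a : G)⁻¹ * q⁻¹, hz a a.2⟩) fun a b => by
    refine Subtype.ext ?_
    show (a * b : G) * q * ((a : G) * b)⁻¹ * q⁻¹ = (a * q * (a : G)⁻¹ * q⁻¹) * (b * q * (b : G)⁻¹ * q⁻¹)
    obtain ⟨i, hi⟩ := mem_zpowers_iff.1 (hz b b.2)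
    have hac : Commute (a : G) (d.z ^ i) :=
      (show Commute (a : G) d.z from z_mem_center_L d (d.Q_le_L (hA a.2))).zpow_right i
    have hzq : Commute q (d.z ^ i) :=
      (show Commute q d.z from z_mem_center_L d (d.Q_le_L hq)).zpow_right i
    have hbq : (b : G) * q * (b : G)⁻¹ = d.z ^ i * q := by rw [hi]; group
    rw [← hi, show (a * b : G) * q * ((a : G) * b)⁻¹ * q⁻¹ = a * ((b : G) * q * (b : G)⁻¹) * (a : G)⁻¹ * q⁻¹ by group, hbq,
      ← mul_assoc, hac.eq]
    calc d.z ^ i * (a : G) * q * (a : G)⁻¹ * q⁻¹ = d.z ^ i * ((a : G) * q * (a : G)⁻¹ * q⁻¹) := by group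
      _ = (a : G) * q * (a : G)⁻¹ * q⁻¹ * d.z ^ i := by
        have h1 : Commute ((a : G) * q * (a : G)⁻¹ * q⁻¹) (d.z ^ i) :=
          ((hac.mul_left hzq).mul_left hac.inv_left).mul_left hzq.inv_left
        exact h1.eq.symm
  have hk := φ.ker.card_mul_index
  rw [Subgroup.index_ker, hcard] at hk
  have hr : Nat.card φ.range ≤ 3 := by
    refine (Nat.card_le_card_of_injective _ Subtype.val_injective).trans ?_
    rw [Nat.card_zpowers, d.order_z]
  have hker : 27 ≤ Nat.card φ.ker := by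
    by_contra hlt; push Not at hlt
    have := Nat.mul_le_mul (show Nat.card φ.ker ≤ 26 by omega) hr
    omega
  have hQ : d.Q ≤ A ⊔ zpowers q := by
    have hle : A ⊔ zpowers q ≤ d.Q := sup_le hA (zpowers_le.2 hq)
    have hlt : A < A ⊔ zpowers q := lt_of_le_of_ne le_sup_left fun e =>
      hqA (e ▸ mem_sup_right (mem_zpowers q))
    refine (eq_of_le_of_card_ge hle ?_).ge
    obtain ⟨k, hk5, hk'⟩ := card_three_pow hle (n := 5) (by rw [d.card_Q]; norm_num)
    have h81 : 81 < Nat.card (A ⊔ zpowers q : Subgroup G) := by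
      rw [← hcard]
      exact lt_of_le_of_ne (Subgroup.card_le_of_le hlt.le) fun e =>
        hlt.ne (eq_of_le_of_card_ge hlt.le e.ge)
    rw [d.card_Q, hk']
    rw [hk'] at h81
    interval_cases k <;> omega
  have hsub : φ.ker.map A.subtype ≤ zpowers d.z := by
    refine le_of_le_of_eq ?_ d.center_Q
    rintro _ ⟨a, ha, rfl⟩
    refine ⟨hA a.2, mem_centralizer_iff.2 fun y hy => ?_⟩
    have haq : (a : G) * q = q * a := by
      have e : (a : G) * q * (a : G)⁻¹ * q⁻¹ = 1 := congrArg Subtype.val ha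
      rw [mul_inv_eq_one, mul_inv_eq_iff_eq_mul] at e
      exact e
    have hle : A ⊔ zpowers q ≤ centralizer ({(a : G)} : Set G) :=
      sup_le (fun b hb => mem_centralizer_singleton_iff.2 (hcomm b hb a a.2))
        (zpowers_le.2 (mem_centralizer_singleton_iff.2 haq.symm))
    exact mem_centralizer_singleton_iff.1 (hle (hQ hy))
  have := Subgroup.card_le_of_le hsub
  rw [Nat.card_zpowers, d.order_z, Subgroup.card_map_of_injective A.subtype_injective] at this
  omega

theorem fixed_small {c : G} (hc : c ^ 5 = 1) (hc1 : c ≠ 1) (hcL : c ∈ d.L) {A : Subgroup G}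
    (hA : A ≤ d.Q) (hzA : d.z ∈ A) (hinv : ∀ a ∈ A, c * a * c⁻¹ ∈ A) :
    Nat.card A = 3 ∨ A = d.Q := by
  have hcz : d.z ∈ centralizer ({c} : Set G) :=
    mem_centralizer_singleton_iff.2 (z_mem_center_L d hcL).symm
  have hQ5 : Nat.card d.Q = 3 ^ 5 := by rw [d.card_Q]; norm_num
  have hz3 : ∀ B : Subgroup G, d.z ∈ B → 3 ≤ Nat.card B := fun B hB => by
    have := Subgroup.card_le_of_le (zpowers_le.2 hB)
    rwa [Nat.card_zpowers, d.order_z] at this
  -- the fixed points on the whole of `Q`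
  have hCQ : Nat.card (d.Q ⊓ centralizer ({c} : Set G) : Subgroup G) = 3 := by
    obtain ⟨k, hk5, hk⟩ := card_three_pow (inf_le_left : d.Q ⊓ centralizer ({c} : Set G) ≤ d.Q) hQ5
    have hmod := fix_modEq hc d.Q fun a ha => conj_Q d (mem_N_of_L d hcL) ha
    rw [d.card_Q, hk] at hmod
    have := hz3 _ (mem_inf.2 ⟨d.z_mem_Q, hcz⟩)
    rw [hk] at this
    rw [hk]
    unfold Nat.ModEq at hmod
    interval_cases k <;> first | omega | skip
    exfalso
    have hall : d.Q ⊓ centralizer ({c} : Set G) = d.Q :=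
      eq_of_le_of_card_ge inf_le_left (by rw [d.card_Q, hk]; norm_num)
    have hcQ : c ∈ d.Q := d.cent_Q (mem_centralizer_iff.2 fun y hy => by
      have : y ∈ d.Q ⊓ centralizer ({c} : Set G) := by rw [hall]; exact hy
      exact mem_centralizer_singleton_iff.1 this.2)
    have h3 : c ^ 3 = 1 := d.exp_Q c hcQ
    refine hc1 ?_
    have h6 : c ^ 6 = 1 := by rw [show 6 = 3 * 2 by norm_num, pow_mul, h3, one_pow]
    rw [show 6 = 5 + 1 by norm_num, pow_succ, hc, one_mul] at h6
    exact h6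
  obtain ⟨k, hk5, hk⟩ := card_three_pow hA hQ5
  have hmod := fix_modEq hc A hinv
  have hle : (A ⊓ centralizer ({c} : Set G)) ≤ d.Q ⊓ centralizer ({c} : Set G) :=
    inf_le_inf_right _ hA
  have h1 := Subgroup.card_le_of_le hle
  have h2 := hz3 _ (mem_inf.2 ⟨hzA, hcz⟩)
  rw [hCQ] at h1
  rw [show Nat.card (A ⊓ centralizer ({c} : Set G) : Subgroup G) = 3 by omega, hk] at hmod
  unfold Nat.ModEq at hmod
  interval_cases k <;> norm_num at hmod
  · left; rw [hk]; norm_num
  · right; exact eq_of_le_of_card_ge hA (by rw [d.card_Q, hk]; norm_num)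

theorem exists_loc_aux : Nonempty (Loc d) := by
  classical
  haveI := d.Q_sub
  have : Fact (Nat.Prime 2) := ⟨Nat.prime_two⟩
  have : Fact (Nat.Prime 3) := ⟨Nat.prime_three⟩
  obtain ⟨e⟩ := d.eL
  let ρ : d.L →* SL5 := e.toMonoidHom.comp (QuotientGroup.mk' (d.Q.subgroupOf d.L))
  have hρ : ∀ g : d.L, ρ g = 1 ↔ (g : G) ∈ d.Q := fun g => by
    show e (QuotientGroup.mk g) = 1 ↔ _
    rw [e.map_eq_one_iff, QuotientGroup.eq_one_iff]
    rfl
  have hρsurj : Function.Surjective ρ := e.surjective.comp (QuotientGroup.mk'_surjective _)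
  -- the involution
  obtain ⟨⟨t, htL⟩, ht⟩ := exists_prime_orderOf_dvd_card' (G := d.L) 2 (by rw [card_L]; norm_num)
  rw [orderOf_mk] at ht
  have htt : t * t = 1 := by rw [← pow_two, ← ht, pow_orderOf_eq_one]
  have htinv : t⁻¹ = t := inv_eq_of_mul_eq_one_right htt
  have htQ : t ∉ d.Q := fun h => by
    have := orderOf_dvd_of_pow_eq_one (d.exp_Q t h)
    rw [ht] at this
    norm_num at this
  have hρt : ∀ (g : G) (hg : g ∈ d.L), g * g = 1 → g ∉ d.Q → ρ ⟨g, hg⟩ = mI := fun g hg hgg hgQ =>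
    eq_mI_of_sq (by rw [← map_mul, ← map_one ρ]; exact congrArg ρ (Subtype.ext hgg))
      (fun e1 => hgQ ((hρ ⟨g, hg⟩).1 e1))
  have htN := mem_N_of_L d htL
  have hconjN : ∀ m ∈ normalizer (zpowers d.z : Set G), ∀ g ∈ d.L, m * g * m⁻¹ ∈ d.L := fun m hm g hg =>
    (mem_normalizer_iff.1 (d.L_normal hm) g).1 hg
  have t_central : ∀ m ∈ normalizer (zpowers d.z : Set G), m * t * m⁻¹ * t⁻¹ ∈ d.Q := by
    intro m hm
    have h1 : m * t * m⁻¹ ∈ d.L := hconjN m hm t htL
    have h2 : m * t * m⁻¹ * (m * t * m⁻¹) = 1 := by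
      rw [show m * t * m⁻¹ * (m * t * m⁻¹) = m * (t * t) * m⁻¹ by group, htt, mul_one, mul_inv_cancel]
    have h3 : m * t * m⁻¹ ∉ d.Q := fun h => htQ (by
      have := conj_Q d (inv_mem hm) h
      simpa [mul_assoc] using this)
    have h4 : ρ (⟨m * t * m⁻¹, h1⟩ * ⟨t, htL⟩⁻¹) = 1 := by
      rw [map_mul, map_inv, hρt _ h1 h2 h3, hρt t htL htt htQ, mul_inv_cancel]
    exact (hρ _).1 h4
  have cover : ∀ m ∈ normalizer (zpowers d.z : Set G), ∃ q ∈ d.Q, q * m ∈ centralizer ({t} : Set G) := by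
    intro m hm
    set w := t⁻¹ * (m * t * m⁻¹) with hw
    have hwQ : w ∈ d.Q := by
      have := conj_Q d (inv_mem htN) (t_central m hm)
      simpa [hw, mul_assoc] using this
    have htw : t * w * t⁻¹ = w⁻¹ := by
      have h2 : m * t * m⁻¹ * (m * t * m⁻¹) = 1 := by
        rw [show m * t * m⁻¹ * (m * t * m⁻¹) = m * (t * t) * m⁻¹ by group, htt, mul_one, mul_inv_cancel]
      have h5 : (m * t * m⁻¹)⁻¹ = m * t * m⁻¹ := inv_eq_of_mul_eq_one_right h2
      rw [hw, mul_inv_rev, h5, inv_inv, mul_inv_cancel_left, htinv]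
    have hw3 : w ^ 3 = 1 := d.exp_Q w hwQ
    refine ⟨w⁻¹, inv_mem hwQ, mem_centralizer_singleton_iff.2 ?_⟩
    have hmt : m * t = t * w * m := by rw [hw]; group
    have hw' : w⁻¹ * t = t * w := by rw [← htw]; group
    calc w⁻¹ * m * t = w⁻¹ * (t * w * m) := by rw [mul_assoc, hmt]
      _ = (w⁻¹ * t) * w * m := by group
      _ = t * (w * w) * m := by rw [hw']; group
      _ = t * (w⁻¹ * m) := by
        rw [show w * w = w⁻¹ by rw [eq_inv_iff_mul_eq_one, ← pow_two, ← pow_succ]; exact hw3, mul_assoc]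
  -- the centraliser of `t` in `L`
  set X : Subgroup G := d.L ⊓ centralizer ({t} : Set G) with hX
  let π : X →* SL5 := ρ.comp (inclusion inf_le_left)
  have hπsurj : Function.Surjective π := by
    intro s
    obtain ⟨⟨g, hg⟩, rfl⟩ := hρsurj s
    obtain ⟨q, hq, hqg⟩ := cover g (mem_N_of_L d hg)
    refine ⟨⟨q * g, mul_mem (d.Q_le_L hq) hg, hqg⟩, ?_⟩
    show ρ (⟨q, d.Q_le_L hq⟩ * ⟨g, hg⟩) = _
    rw [map_mul, (hρ ⟨q, d.Q_le_L hq⟩).2 hq, one_mul]
  obtain ⟨⟨c, hcX⟩, hc5⟩ := exists_prime_orderOf_dvd_card' (G := X) 5 (by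
    refine Dvd.dvd.trans ?_ (Subgroup.card_dvd_of_surjective π hπsurj)
    rw [card_SL5]; norm_num)
  rw [orderOf_mk] at hc5
  have hcpow : c ^ 5 = 1 := hc5 ▸ pow_orderOf_eq_one c
  have hc1 : c ≠ 1 := fun h => by rw [h, orderOf_one] at hc5; omega
  have hct : c * t = t * c := mem_centralizer_singleton_iff.1 hcX.2
  have hzt : d.z * t = t * d.z := (z_mem_center_L d htL).symm
  have hCQt : d.Q ⊓ centralizer ({t} : Set G) = zpowers d.z := by
    have hzmem : d.z ∈ d.Q ⊓ centralizer ({t} : Set G) :=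
      ⟨d.z_mem_Q, mem_centralizer_singleton_iff.2 hzt⟩
    rcases fixed_small d hcpow hc1 hcX.1 inf_le_left hzmem (fun a ha =>
      ⟨conj_Q d (mem_N_of_L d hcX.1) ha.1, Subgroup.mul_mem _ (Subgroup.mul_mem _ hcX.2 ha.2) (Subgroup.inv_mem _ hcX.2)⟩) with h3 | hall
    · exact (eq_of_le_of_card_ge (zpowers_le.2 hzmem) (by rw [h3, Nat.card_zpowers, d.order_z])).symm
    · refine absurd (d.cent_Q (mem_centralizer_iff.2 fun y hy => ?_)) htQ
      have : y ∈ d.Q ⊓ centralizer ({t} : Set G) := by rw [hall]; exact hy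
      exact mem_centralizer_singleton_iff.1 this.2
  have cent_Q_t : ∀ q ∈ d.Q, q * t = t * q → q ∈ zpowers d.z := fun q hq hqt =>
    hCQt ▸ mem_inf.2 ⟨hq, mem_centralizer_singleton_iff.2 hqt⟩
  -- the transfer
  have hπker : π.ker = (zpowers d.z).subgroupOf X := by
    ext g
    rw [MonoidHom.mem_ker, mem_subgroupOf]
    show ρ _ = 1 ↔ _
    rw [hρ]
    exact ⟨fun h => cent_Q_t g h (mem_centralizer_singleton_iff.1 g.2.2),
      fun h => (zpowers_le.2 d.z_mem_Q) h⟩
  have hzX : d.z ∈ X := ⟨d.Q_le_L d.z_mem_Q, mem_centralizer_singleton_iff.2 hzt⟩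
  set zX : X := ⟨d.z, hzX⟩ with hzXdef
  have hzo : orderOf zX = 3 := by rw [orderOf_mk]; exact d.order_z
  have hcardX : Nat.card X = 360 := by
    have h := π.ker.card_mul_index
    rw [Subgroup.index_ker, MonoidHom.range_eq_top.2 hπsurj, Subgroup.card_top, card_SL5, hπker,
      Nat.card_congr (subgroupOfEquivOfLe (zpowers_le.2 hzX)).toEquiv, Nat.card_zpowers,
      d.order_z] at h
    omega
  obtain ⟨P, hP⟩ := (IsPGroup.of_card (n := 1) (p := 3) (G := zpowers zX)
    (by rw [Nat.card_zpowers, hzo, pow_one])).exists_le_sylow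
  have hPidx : (P : Subgroup X).index = 40 ∧ Nat.card P = 3 ^ 2 := by
    have h := (P : Subgroup X).card_mul_index
    rw [hcardX] at h
    obtain ⟨k, hk⟩ := P.isPGroup'.exists_card_eq
    have hnd := P.not_dvd_index
    rw [hk] at h
    have hk2 : k = 2 := by
      rcases Nat.lt_or_ge k 2 with hlt | hge
      · exfalso; interval_cases k <;> omega
      · have hd : 3 ^ k ∣ 360 := ⟨_, h.symm⟩
        by_contra hne
        have := (pow_dvd_pow 3 (show 3 ≤ k by omega)).trans hd
        omega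
    subst hk2
    exact ⟨by omega, hk⟩
  haveI : IsMulCommutative (P : Subgroup X) :=
    ⟨⟨IsPGroup.commutative_of_card_eq_prime_sq (p := 3) hPidx.2⟩⟩
  obtain ⟨τ, hτz⟩ : ∃ τ : X →* (P : Subgroup X), τ zX = ⟨zX, hP (mem_zpowers zX)⟩ := by
    open scoped IsMulCommutative in
    refine ⟨MonoidHom.transfer (MonoidHom.id (P : Subgroup X)), ?_⟩
    open scoped IsMulCommutative in
    rw [MonoidHom.transfer_eq_pow (MonoidHom.id (P : Subgroup X)) zX (fun k g₀ _ => ?_)]
    · refine Subtype.ext ?_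
      show zX ^ (P : Subgroup X).index = zX
      rw [hPidx.1, show 40 = orderOf zX * 13 + 1 by rw [hzo], pow_succ, pow_mul, pow_orderOf_eq_one,
        one_pow, one_mul]
    · have hc' : Commute g₀ zX := Subtype.ext (z_mem_center_L d g₀.2.1)
      rw [mul_assoc, ← (hc'.pow_right k).eq, inv_mul_cancel_left]
  have hzker : ∀ g : X, π g = 1 → τ g = 1 → g = 1 := by
    intro g h1 h2
    have hg : (g : G) ∈ zpowers d.z := by
      have : g ∈ (zpowers d.z).subgroupOf X := hπker ▸ h1
      exact this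
    obtain ⟨i, hi⟩ := mem_zpowers_iff.1 hg
    have hgi : g = zX ^ i := Subtype.ext (by simp [hzXdef, hi])
    rw [hgi, map_zpow, hτz] at h2
    rw [hgi]
    have h3 := congrArg (fun w : (P : Subgroup X) => (w : X)) h2
    simpa using h3
  have hτcomm : ∀ a b : X, τ (a * b * a⁻¹ * b⁻¹) = 1 := fun a b => by
    rw [map_mul, map_mul, map_mul, map_inv, map_inv,
      (IsMulCommutative.is_comm.comm (τ a) (τ b)), mul_inv_cancel_right, mul_inv_cancel]
  let η : τ.ker →* SL5 := π.comp τ.ker.subtype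
  have hηinj : Function.Injective η := (injective_iff_map_eq_one η).2 fun g hg =>
    Subtype.ext (hzker g hg g.2)
  have hηsurj : Function.Surjective η := by
    have hle : commutator SL5 ≤ η.range := by
      rw [_root_.commutator_def, commutator_le]
      intro a _ b _
      obtain ⟨A, rfl⟩ := hπsurj a
      obtain ⟨B, rfl⟩ := hπsurj b
      exact ⟨⟨A * B * A⁻¹ * B⁻¹, hτcomm A B⟩, by
        show π (A * B * A⁻¹ * B⁻¹) = _
        simp [commutatorElement_def]⟩
    rw [perfect] at hle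
    exact MonoidHom.range_eq_top.1 (top_le_iff.1 hle)
  let eτ : τ.ker ≃* SL5 := MulEquiv.ofBijective η ⟨hηinj, hηsurj⟩
  set L1 : Subgroup G := τ.ker.map X.subtype with hL1
  have hL1le : L1 ≤ X := map_subtype_le _
  let eL1 : L1 ≃* SL5 := (τ.ker.equivMapOfInjective _ X.subtype_injective).symm.trans eτ
  have hmemL1 : ∀ g : X, (g : G) ∈ L1 ↔ τ g = 1 := fun g => by
    rw [hL1]
    exact ⟨fun ⟨g', hg', he⟩ => by rw [← Subtype.ext he]; exact hg', fun h => ⟨g, h, rfl⟩⟩
  have hL1inj : ∀ (g : G) (hg : g ∈ L1), π ⟨g, hL1le hg⟩ = 1 → g = 1 := fun g hg h =>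
    congrArg Subtype.val (hzker ⟨g, hL1le hg⟩ h ((hmemL1 ⟨g, hL1le hg⟩).1 hg))
  have L_inf : ∀ a ∈ d.L, a * t = t * a → ∃ i : ℤ, d.z ^ i * a ∈ L1 := by
    intro a ha hat
    have haX : a ∈ X := ⟨ha, mem_centralizer_singleton_iff.2 hat⟩
    obtain ⟨⟨l, hl⟩, hl'⟩ := hηsurj (π ⟨a, haX⟩)
    have h1 : π (l * ⟨a, haX⟩⁻¹) = 1 := by
      rw [map_mul, map_inv]
      exact mul_inv_eq_one.2 hl'
    have h2 : (l : G) * a⁻¹ ∈ zpowers d.z := by
      have : l * ⟨a, haX⟩⁻¹ ∈ (zpowers d.z).subgroupOf X := hπker ▸ h1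
      exact this
    obtain ⟨i, hi⟩ := mem_zpowers_iff.1 h2
    exact ⟨i, by rw [hi, inv_mul_cancel_right]; exact (hmemL1 l).2 hl⟩
  have z_notMem : d.z ∉ L1 := fun h => by
    have h1 := (hmemL1 zX).1 h
    rw [hτz] at h1
    have h2 : zX = 1 := congrArg Subtype.val h1
    rw [h2, orderOf_one] at hzo
    omega
  have t_mem_L1 : t ∈ L1 := by
    obtain ⟨i, hi⟩ := L_inf t htL rfl
    have hcomm : Commute (d.z ^ i) t := (show Commute d.z t from hzt).zpow_left i
    have h3 : (d.z ^ i * t) ^ 3 = t := by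
      rw [hcomm.mul_pow, ← zpow_natCast (d.z ^ i), ← zpow_mul, mul_comm, zpow_mul, zpow_natCast,
        ← d.order_z, pow_orderOf_eq_one, one_zpow, one_mul, d.order_z, pow_succ, pow_two, htt, one_mul]
    rw [← h3]
    exact pow_mem hi 3
  have hXcomm : ⁅X, X⁆ = L1 := by
    refine le_antisymm (commutator_le.2 fun a ha b hb => ?_) ?_
    · have := (hmemL1 (⟨a, ha⟩ * ⟨b, hb⟩ * ⟨a, ha⟩⁻¹ * ⟨b, hb⟩⁻¹)).2 (hτcomm ⟨a, ha⟩ ⟨b, hb⟩)
      simpa [commutatorElement_def] using this
    · have htop : ⁅L1, L1⁆ = L1 := by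
        have h1 : commutator L1 = ⊤ := by
          have := perfect
          rw [_root_.commutator_def] at this ⊢
          have h2 := congrArg (Subgroup.map eL1.symm.toMonoidHom) this
          rw [map_commutator, Subgroup.map_top_of_surjective _ eL1.symm.surjective] at h2
          exact h2
        rw [← map_subtype_commutator, h1, ← MonoidHom.range_eq_map, L1.range_subtype]
      rw [← htop]
      exact commutator_mono hL1le hL1le
  have L1_normal : normalizer (zpowers d.z : Set G) ⊓ centralizer ({t} : Set G) ≤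
      normalizer (L1 : Set G) := by
    have key : ∀ m ∈ normalizer (zpowers d.z : Set G) ⊓ centralizer ({t} : Set G), ∀ g ∈ L1,
        m * g * m⁻¹ ∈ L1 := by
      intro m hm g hg
      have hmap : X.map (MulAut.conj m).toMonoidHom ≤ X := by
        rintro _ ⟨w, hw, rfl⟩
        exact ⟨hconjN m hm.1 w hw.1, Subgroup.mul_mem _ (Subgroup.mul_mem _ hm.2 hw.2) (Subgroup.inv_mem _ hm.2)⟩
      have hg' : (MulAut.conj m).toMonoidHom g ∈ ⁅X, X⁆.map (MulAut.conj m).toMonoidHom :=
        mem_map_of_mem _ (hXcomm.symm ▸ hg)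
      rw [map_commutator] at hg'
      rw [← hXcomm]
      exact commutator_mono hmap hmap hg'
    intro m hm
    rw [mem_normalizer_iff]
    refine fun g => ⟨key m hm g, fun hg => ?_⟩
    have := key m⁻¹ (inv_mem hm) _ hg
    simpa [mul_assoc] using this
  -- `t` inverts `Q` modulo `⟨z⟩`
  have hQz : ∀ i : ℤ, ∀ q ∈ d.Q, q * d.z ^ i = d.z ^ i * q := fun i q hq =>
    ((show Commute q d.z from z_mem_center_L d (d.Q_le_L hq)).zpow_right i).eq
  have hinvQ : ∀ v ∈ d.Q, ∃ i : ℤ, t * v * t⁻¹ = v⁻¹ * d.z ^ i := by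
    intro v hv
    set u := t * v * t⁻¹ with hu
    have huQ : u ∈ d.Q := conj_Q d htN hv
    have htu : t * (u * v) * t⁻¹ = v * u := by
      rw [hu, htinv, show t * (t * v * t * v) * t = (t * t) * v * (t * v * t) by group, htt, one_mul]
    obtain ⟨i, hi⟩ := mem_zpowers_iff.1 (d.comm_Q v hv u huQ)
    have hvu : v * u = d.z ^ i * (u * v) := by rw [hi]; group
    have hi0 : d.z ^ i = 1 := by
      have htz : Commute t (d.z ^ i) := (show Commute t d.z from hzt.symm).zpow_right i
      have h1 : t * (v * u) * t⁻¹ = u * v := by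
        rw [← htu, htinv, show t * (t * (u * v) * t) * t = (t * t) * (u * v) * (t * t) by group, htt,
          one_mul, mul_one]
      rw [hvu, ← mul_assoc, htz.eq, mul_assoc, mul_assoc, ← mul_assoc t, htu, hvu, ← mul_assoc] at h1
      have h2 : d.z ^ i * d.z ^ i = 1 := mul_eq_right.1 h1
      have h3 : (d.z ^ i) ^ 3 = 1 := d.exp_Q _ (zpow_mem d.z_mem_Q i)
      rw [pow_succ, pow_two, h2, one_mul] at h3
      exact h3
    rw [hi0, one_mul] at hvu
    obtain ⟨j, hj⟩ := mem_zpowers_iff.1 (cent_Q_t _ (mul_mem huQ hv)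
      (mul_inv_eq_iff_eq_mul.1 (htu.trans hvu)).symm)
    refine ⟨j, ?_⟩
    have hc : v⁻¹ * d.z ^ j = d.z ^ j * v⁻¹ := hQz j v⁻¹ (inv_mem hv)
    rw [hc, hj, mul_inv_cancel_right]
  -- no element of order three of `L1` centralises a hyperplane
  have hNT : ∀ x ∈ L1, orderOf x = 3 → Nat.card (d.Q ⊓ centralizer ({x} : Set G) : Subgroup G) < 81 := by
    intro x hx hox
    by_contra hbig
    push Not at hbig
    obtain ⟨h, hh⟩ := conj_uu (g := eL1 ⟨x, hx⟩) (by rw [MulEquiv.orderOf_eq, orderOf_mk]; exact hox)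
    obtain ⟨h', hh'⟩ := conj_uu (g := vv) (orderOf_eq_prime vv_cube vv_ne)
    have hcent : ∀ g : L1, g * g * g = 1 → eL1 g ≠ 1 →
        (∃ k : SL5, k * eL1 ⟨x, hx⟩ * k⁻¹ = eL1 g ∨ k * eL1 ⟨x, hx⟩ * k⁻¹ = (eL1 g)⁻¹) →
        81 ≤ Nat.card (d.Q ⊓ centralizer ({(g : G)} : Set G) : Subgroup G) := by
      rintro g - - ⟨k, hk⟩
      set K : G := ((eL1.symm k : L1) : G) with hK
      have hKN : K ∈ normalizer (zpowers d.z : Set G) := mem_N_of_L d (hL1le (eL1.symm k).2).1
      have hKx : K * x * K⁻¹ = g ∨ K * x * K⁻¹ = (g : G)⁻¹ := by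
        rcases hk with hk | hk
        · left
          have := congrArg (fun w => ((eL1.symm w : L1) : G)) hk
          simpa [hK] using this
        · right
          have := congrArg (fun w => ((eL1.symm w : L1) : G)) hk
          simpa [hK] using this
      refine hbig.trans ((Subgroup.card_map_of_injective (f := (MulAut.conj K).toMonoidHom)
        (MulAut.conj K).injective).symm.le.trans (Subgroup.card_le_of_le ?_))
      rintro _ ⟨q, hq, rfl⟩
      refine ⟨conj_Q d hKN hq.1, mem_centralizer_singleton_iff.2 ?_⟩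
      have hc0 : Commute (K * q * K⁻¹) (K * x * K⁻¹) :=
        (show Commute q x from mem_centralizer_singleton_iff.1 hq.2).map (MulAut.conj K).toMonoidHom
      show K * q * K⁻¹ * g = g * (K * q * K⁻¹)
      rcases hKx with e1 | e1
      · rw [e1] at hc0; exact hc0.eq
      · rw [e1] at hc0; exact (Commute.inv_right_iff.1 hc0).eq
    set U := eL1.symm uu with hU
    set V := eL1.symm vv with hV
    have hrel : ∃ k : SL5, k * eL1 ⟨x, hx⟩ * k⁻¹ = uu ∨ k * eL1 ⟨x, hx⟩ * k⁻¹ = uu⁻¹ := by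
      refine ⟨h⁻¹, ?_⟩
      rcases hh with e1 | e1
      · left; rw [← e1]; group
      · right; rw [← inv_inv (eL1 ⟨x, hx⟩), ← e1]; group
    have hU81 : 81 ≤ Nat.card (d.Q ⊓ centralizer ({(U : G)} : Set G) : Subgroup G) := by
      refine hcent U ?_ (by rw [hU, MulEquiv.apply_symm_apply]; exact uu_ne) ?_
      · rw [← map_mul, ← map_mul, ← map_one eL1.symm]; congr 1; decide
      · rw [hU, MulEquiv.apply_symm_apply]; exact hrel
    have hV81 : 81 ≤ Nat.card (d.Q ⊓ centralizer ({(V : G)} : Set G) : Subgroup G) := by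
      refine hcent V ?_ (by rw [hV, MulEquiv.apply_symm_apply]; exact vv_ne) ?_
      · rw [← map_mul, ← map_mul, ← map_one eL1.symm]; congr 1; decide
      · rw [hV, MulEquiv.apply_symm_apply]
        obtain ⟨k, hk⟩ := hrel
        refine ⟨h' * k, ?_⟩
        rcases hk with hk | hk <;> rcases hh' with e1 | e1
        · left; rw [← e1, ← hk]; group
        · right; rw [← e1, ← hk]; group
        · right; rw [← e1, ← inv_inv uu, ← hk]; group
        · left; rw [← inv_inv vv, ← e1, ← inv_inv uu, ← hk]; group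
    set W := U * V * (U * V) with hW
    have hW5 : W ^ 5 = 1 := eL1.injective (by
      rw [map_pow, map_one, hW, map_mul, map_mul, hU, hV, MulEquiv.apply_symm_apply,
        MulEquiv.apply_symm_apply]
      exact uv_five)
    have hW1 : W ≠ 1 := fun h1 => uv_ne (by
      have := congrArg eL1 h1
      rwa [map_one, hW, map_mul, map_mul, hU, hV, MulEquiv.apply_symm_apply,
        MulEquiv.apply_symm_apply] at this)
    set A := (d.Q ⊓ centralizer ({(U : G)} : Set G)) ⊓ (d.Q ⊓ centralizer ({(V : G)} : Set G)) with hA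
    have hA27 := card_inf_ge (inf_le_left : d.Q ⊓ centralizer ({(U : G)} : Set G) ≤ d.Q)
      (inf_le_left : d.Q ⊓ centralizer ({(V : G)} : Set G) ≤ d.Q) d.card_Q hU81 hV81
    rw [← hA] at hA27
    have hWc : ∀ a ∈ A, (W : G) * a = a * W := by
      intro a ha
      have h1 : Commute a (U : G) := mem_centralizer_singleton_iff.1 ha.1.2
      have h2 : Commute a (V : G) := mem_centralizer_singleton_iff.1 ha.2.2
      show (((U : G) * V) * (U * V)) * a = _
      exact ((h1.mul_right h2).mul_right (h1.mul_right h2)).symm.eq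
    have hzA : d.z ∈ A := by
      have hzc : ∀ l : L1, d.z ∈ d.Q ⊓ centralizer ({(l : G)} : Set G) := fun l =>
        ⟨d.z_mem_Q, mem_centralizer_singleton_iff.2 (z_mem_center_L d (hL1le l.2).1).symm⟩
      exact ⟨hzc U, hzc V⟩
    rcases fixed_small d (c := (W : G)) (by rw [← SubmonoidClass.coe_pow, hW5]; rfl)
      (fun h1 => hW1 (Subtype.ext h1)) (hL1le W.2).1 (inf_le_left.trans inf_le_left) hzA
      (fun a ha => by rw [hWc a ha, mul_inv_cancel_right]; exact ha) with h3 | hall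
    · rw [h3] at hA27; omega
    · have hWQ : (W : G) ∈ d.Q := d.cent_Q (mem_centralizer_iff.2 fun y hy => (hWc y ((SetLike.ext_iff.1 hall y).2 hy)).symm)
      refine hW1 (Subtype.ext (hL1inj W W.2 ((hρ _).2 hWQ)))
  -- the element of order three
  have hJQ : ¬ d.J ≤ d.Q := fun h => no_abelian_81 d h d.card_J d.J_comm
  obtain ⟨a, haJ, haQ⟩ : ∃ a ∈ d.J, a ∉ d.Q := by
    by_contra hcon; push Not at hcon; exact hJQ hcon
  have haS := d.J_le_S haJ
  have haL := S_le_L d haS
  obtain ⟨q, hq, hqa⟩ := cover a (mem_N_of_L d haL)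
  obtain ⟨i, hi⟩ := L_inf (q * a) (mul_mem (d.Q_le_L hq) haL) (mem_centralizer_singleton_iff.1 hqa)
  set x := d.z ^ i * (q * a) with hxdef
  have hxX := hL1le hi
  have hxQ : x ∉ d.Q := fun h => haQ (by
    have h1 := mul_mem (inv_mem hq) (mul_mem (inv_mem (zpow_mem d.z_mem_Q i)) h)
    rw [hxdef, inv_mul_cancel_left, inv_mul_cancel_left] at h1
    exact h1)
  have hxS : x ∈ (d.S : Subgroup G) :=
    mul_mem (zpow_mem (z_mem_S d) i) (mul_mem (Q_le_S d hq) haS)
  have hox : orderOf x = 3 := by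
    obtain ⟨k, hk⟩ := IsPGroup.iff_orderOf.1 d.S.isPGroup' ⟨x, hxS⟩
    rw [orderOf_mk] at hk
    have hdvd : orderOf x ∣ 120 := by
      have h1 := orderOf_dvd_natCard (⟨x, hi⟩ : L1)
      rwa [orderOf_mk, Nat.card_congr eL1.toEquiv, card_SL5] at h1
    rw [hk] at hdvd ⊢
    have hk2 : k < 2 := by
      by_contra hk2
      have := (pow_dvd_pow 3 (show 2 ≤ k by omega)).trans hdvd
      omega
    interval_cases k
    · exfalso
      rw [pow_zero, orderOf_eq_one_iff] at hk
      exact hxQ (hk ▸ one_mem _)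
    · norm_num
  have hxt : Commute x t := mem_centralizer_singleton_iff.1 hxX.2
  set M := d.J ⊓ d.Q with hM
  have hMx : M ≤ d.Q ⊓ centralizer ({x} : Set G) := by
    intro v hv
    refine ⟨hv.2, mem_centralizer_singleton_iff.2 ?_⟩
    obtain ⟨j, hj⟩ := mem_zpowers_iff.1 (d.comm_Q q hq v hv.2)
    have hav : a * v * a⁻¹ = v := by rw [d.J_comm a haJ v hv.1, mul_inv_cancel_right]
    have hxv : x * v * x⁻¹ = d.z ^ j * v := by
      rw [hxdef, show d.z ^ i * (q * a) * v * (d.z ^ i * (q * a))⁻¹ =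
        d.z ^ i * (q * (a * v * a⁻¹) * q⁻¹) * (d.z ^ i)⁻¹ by group, hav,
        show q * v * q⁻¹ = d.z ^ j * v by rw [hj]; group, ← mul_assoc, ← zpow_add, add_comm, zpow_add,
        mul_assoc (d.z ^ j), ← hQz i v hv.2, ← mul_assoc, mul_inv_cancel_right]
    obtain ⟨l, hl⟩ := hinvQ v hv.2
    have hxz : ∀ n : ℤ, Commute x (d.z ^ n) := fun n =>
      (show Commute x d.z from z_mem_center_L d hxX.1).zpow_right n
    have h1 : t * (x * v * x⁻¹) * t⁻¹ = x * (t * v * t⁻¹) * x⁻¹ := by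
      calc t * (x * v * x⁻¹) * t⁻¹ = (t * x) * v * (t * x)⁻¹ := by group
        _ = (x * t) * v * (x * t)⁻¹ := by rw [hxt.eq]
        _ = x * (t * v * t⁻¹) * x⁻¹ := by group
    have h2 : t * (d.z ^ j * v) * t⁻¹ = d.z ^ j * (t * v * t⁻¹) := by
      have : Commute t (d.z ^ j) := (show Commute t d.z from hzt.symm).zpow_right j
      rw [← mul_assoc, this.eq]; group
    have h3 : x * (v⁻¹ * d.z ^ l) * x⁻¹ = (d.z ^ j * v)⁻¹ * d.z ^ l := by
      rw [show x * (v⁻¹ * d.z ^ l) * x⁻¹ = (x * v * x⁻¹)⁻¹ * (x * d.z ^ l * x⁻¹) by group, hxv,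
        (hxz l).eq, mul_inv_cancel_right]
    rw [hxv, h2, hl, h3] at h1
    have h4 : d.z ^ j * v⁻¹ = (d.z ^ j * v)⁻¹ := by
      rw [← mul_assoc] at h1
      exact mul_right_cancel h1
    have h4' : d.z ^ j * v⁻¹ = (d.z ^ j)⁻¹ * v⁻¹ := by
      have hc : Commute v⁻¹ (d.z ^ j)⁻¹ := (show Commute v (d.z ^ j) from hQz j v hv.2).inv_inv
      rw [h4, mul_inv_rev, hc.eq]
    have h5 : d.z ^ j = 1 := by
      have h6 : d.z ^ j * d.z ^ j = 1 := by
        have e1 : d.z ^ j = (d.z ^ j)⁻¹ := mul_right_cancel h4'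
        nth_rewrite 2 [e1]
        rw [mul_inv_cancel]
      have h7 : (d.z ^ j) ^ 3 = 1 := d.exp_Q _ (zpow_mem d.z_mem_Q j)
      rw [pow_succ, pow_two, h6, one_mul] at h7
      exact h7
    rw [h5, one_mul] at hxv
    exact (mul_inv_eq_iff_eq_mul.1 hxv).symm
  have hQ5 : Nat.card d.Q = 3 ^ 5 := by rw [d.card_Q]; norm_num
  have hMcard : Nat.card M = 27 ∧ M = d.Q ⊓ centralizer ({x} : Set G) := by
    have hge : 27 ≤ Nat.card M := by
      have h1 := (d.Q.subgroupOf d.J).card_mul_index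
      have h2 : d.Q.relIndex d.J ≤ d.Q.relIndex (d.S : Subgroup G) :=
        relIndex_le_of_le_right d.J_le_S (by rw [relIndex]; exact index_ne_zero_of_finite)
      have h3 : d.Q.relIndex (d.S : Subgroup G) = 3 := by
        have h4 := (d.Q.subgroupOf (d.S : Subgroup G)).card_mul_index
        rw [Nat.card_congr (subgroupOfEquivOfLe (Q_le_S d)).toEquiv, d.card_Q, card_S] at h4
        rw [relIndex]; omega
      have h5 : Nat.card (d.Q.subgroupOf d.J) = Nat.card M := by
        rw [← Subgroup.card_map_of_injective d.J.subtype_injective, subgroupOf_map_subtype, hM, inf_comm]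
      rw [h5, d.card_J] at h1
      rw [h3] at h2
      by_contra hlt; push Not at hlt
      have := Nat.mul_le_mul (show Nat.card M ≤ 26 by omega) (show (d.Q.subgroupOf d.J).index ≤ 3 from h2)
      omega
    obtain ⟨k, hk5, hk⟩ := card_three_pow (inf_le_left : d.Q ⊓ centralizer ({x} : Set G) ≤ d.Q) hQ5
    have hlt := hNT x hi hox
    have hle := Subgroup.card_le_of_le hMx
    have h27 : Nat.card (d.Q ⊓ centralizer ({x} : Set G) : Subgroup G) = 27 := by
      rw [hk] at hlt hle ⊢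
      interval_cases k <;> omega
    have hM27 : Nat.card M = 27 := by omega
    exact ⟨hM27, eq_of_le_of_card_ge hMx (by omega)⟩
  obtain ⟨hM27, hMeq⟩ := hMcard
  have hzM : d.z ∈ M := by
    rw [hMeq]
    exact ⟨d.z_mem_Q, mem_centralizer_singleton_iff.2 (z_mem_center_L d hxX.1).symm⟩
  have hxJ : x ∈ d.J := by
    have hqM : q ∈ M := by
      by_contra hqM
      have hqc : ∀ v ∈ M, Commute q v := by
        intro v hv
        have h1 : Commute x v := (mem_centralizer_singleton_iff.1 (hMx hv).2).symm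
        have h2 : Commute a v := d.J_comm a haJ v hv.1
        have h3 : Commute (d.z ^ i) v := (hQz i v hv.2).symm
        have hqe : q = (d.z ^ i)⁻¹ * x * a⁻¹ := by rw [hxdef]; group
        rw [hqe]
        exact (h3.inv_left.mul_left h1).mul_left h2.inv_left
      have hle : M ⊔ zpowers q ≤ d.Q := sup_le inf_le_right (zpowers_le.2 hq)
      have habel : ∀ g ∈ M ⊔ zpowers q, ∀ g' ∈ M ⊔ zpowers q, g * g' = g' * g := by
        have hboth : ∀ g ∈ M ⊔ zpowers q, (∀ v ∈ M, g * v = v * g) ∧ g * q = q * g := by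
          intro g hg
          have hle2 : M ⊔ zpowers q ≤ centralizer ((M : Set G)) ⊓ centralizer ({q} : Set G) := by
            refine sup_le (fun v hv => mem_inf.2 ⟨mem_centralizer_iff.2 fun w hw =>
              d.J_comm w hw.1 v hv.1, mem_centralizer_singleton_iff.2 (hqc v hv).symm.eq⟩)
              (zpowers_le.2 (mem_inf.2 ⟨mem_centralizer_iff.2 fun w hw => (hqc w hw).symm.eq,
                mem_centralizer_singleton_iff.2 rfl⟩))
          exact ⟨fun v hv => (mem_centralizer_iff.1 (mem_inf.1 (hle2 hg)).1 v hv).symm,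
            mem_centralizer_singleton_iff.1 (mem_inf.1 (hle2 hg)).2⟩
        intro g hg g' hg'
        have hle3 : M ⊔ zpowers q ≤ centralizer ({g} : Set G) :=
          sup_le (fun v hv => mem_centralizer_singleton_iff.2 ((hboth g hg).1 v hv).symm)
            (zpowers_le.2 (mem_centralizer_singleton_iff.2 (hboth g hg).2.symm))
        exact (mem_centralizer_singleton_iff.1 (hle3 hg')).symm
      obtain ⟨k, hk5, hk⟩ := card_three_pow hle hQ5
      have hgt : 27 < Nat.card (M ⊔ zpowers q : Subgroup G) := by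
        rw [← hM27]
        exact lt_of_le_of_ne (Subgroup.card_le_of_le le_sup_left) fun e1 =>
          hqM ((eq_of_le_of_card_ge (le_sup_left : M ≤ M ⊔ zpowers q) e1.ge) ▸ mem_sup_right (mem_zpowers q))
      rw [hk] at hgt
      have hk45 : k = 4 ∨ k = 5 := by interval_cases k <;> omega
      rcases hk45 with rfl | rfl
      · exact no_abelian_81 d hle (hk.trans (by norm_num)) habel
      · have hall : M ⊔ zpowers q = d.Q := eq_of_le_of_card_ge hle (by rw [hk, d.card_Q]; norm_num)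
        rw [hall] at habel
        have : d.Q ≤ d.Q ⊓ centralizer (d.Q : Set G) :=
          le_inf le_rfl fun g hg => mem_centralizer_iff.2 fun g' hg' => habel g' hg' g hg
        rw [d.center_Q] at this
        have := Subgroup.card_le_of_le this
        rw [d.card_Q, Nat.card_zpowers, d.order_z] at this
        omega
    rw [hxdef]
    exact Subgroup.mul_mem _ (Subgroup.zpow_mem _ hzM.1 i) (Subgroup.mul_mem _ hqM.1 haJ)
  have hJgen : d.J ≤ M ⊔ zpowers x := by
    have hle : M ⊔ zpowers x ≤ d.J := sup_le inf_le_left (zpowers_le.2 hxJ)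
    refine (eq_of_le_of_card_ge hle ?_).ge
    obtain ⟨k, hk4, hk⟩ := card_three_pow hle (n := 4) (by rw [d.card_J]; norm_num)
    have hgt : 27 < Nat.card (M ⊔ zpowers x : Subgroup G) := by
      rw [← hM27]
      exact lt_of_le_of_ne (Subgroup.card_le_of_le le_sup_left) fun e1 =>
        hxQ ((eq_of_le_of_card_ge (le_sup_left : M ≤ M ⊔ zpowers x) e1.ge) ▸ mem_sup_right (mem_zpowers x) : x ∈ M).2
    rw [hk] at hgt
    rw [d.card_J, hk]
    interval_cases k <;> omega
  have hnormJ : ∀ m ∈ normalizer (zpowers d.z : Set G), m * x * m⁻¹ ∈ zpowers x →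
      m ∈ normalizer (d.J : Set G) := by
    intro m hm hmx
    have hmap : d.J.map (MulAut.conj m).toMonoidHom = d.J := by
      refine eq_of_le_of_card_ge ((map_mono hJgen).trans ?_)
        (Subgroup.card_map_of_injective (MulAut.conj m).injective).ge
      rw [Subgroup.map_sup, MonoidHom.map_zpowers]
      refine sup_le ?_ (zpowers_le.2 (zpowers_le.2 hxJ hmx))
      rintro _ ⟨v, hv, rfl⟩
      have hv' : v ∈ d.Q ⊓ centralizer ({x} : Set G) := hMeq ▸ hv
      have : m * v * m⁻¹ ∈ d.Q ⊓ centralizer ({x} : Set G) := by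
        refine ⟨conj_Q d hm hv'.1, mem_centralizer_singleton_iff.2 ?_⟩
        obtain ⟨n, hn⟩ := mem_zpowers_iff.1 hmx
        have hgen : x ∈ zpowers (m * x * m⁻¹) := by
          refine (eq_of_le_of_card_ge (zpowers_le.2 hmx) ?_).ge (mem_zpowers x)
          rw [Nat.card_zpowers, Nat.card_zpowers, ← MulAut.conj_apply, MulEquiv.orderOf_eq]
        obtain ⟨n', hn'⟩ := mem_zpowers_iff.1 hgen
        have hc0 : Commute (m * v * m⁻¹) (m * x * m⁻¹) :=
          (show Commute v x from mem_centralizer_singleton_iff.1 hv'.2).map (MulAut.conj m).toMonoidHom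
        have := (hc0.zpow_right n').eq
        rwa [hn'] at this
      exact (hMeq ▸ this : m * v * m⁻¹ ∈ M).1
    rw [mem_normalizer_iff]
    intro g
    refine ⟨fun hg => hmap ▸ mem_map_of_mem (MulAut.conj m).toMonoidHom hg, fun hg => ?_⟩
    rw [← hmap] at hg
    obtain ⟨g', hg', he⟩ := hg
    have : g' = g := (MulAut.conj m).injective he
    exact this ▸ hg'
  -- the element of order four
  obtain ⟨f5, hf5, hf5c⟩ := exists_inverter (g := eL1 ⟨x, hi⟩)
    (by rw [MulEquiv.orderOf_eq, orderOf_mk]; exact hox)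
  set F := eL1.symm f5 with hF
  have hfsq : (F : G) * F = t := by
    have h1 : F * F = (⟨t, t_mem_L1⟩ : L1) := by
      apply eL1.injective
      rw [map_mul, hF, MulEquiv.apply_symm_apply, hf5]
      refine (eq_mI_of_sq ?_ ?_).symm
      · rw [← map_mul, ← map_one eL1]; exact congrArg eL1 (Subtype.ext htt)
      · intro h1
        rw [← map_one eL1] at h1
        have h2 : t = 1 := congrArg Subtype.val (eL1.injective h1)
        rw [h2, orderOf_one] at ht
        omega
    exact congrArg Subtype.val h1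
  have hfconj : (F : G) * x * (F : G)⁻¹ = x⁻¹ := by
    have h1 : F * ⟨x, hi⟩ * F⁻¹ = (⟨x, hi⟩ : L1)⁻¹ := by
      apply eL1.injective
      rw [map_mul, map_mul, map_inv, map_inv, hF, MulEquiv.apply_symm_apply, hf5c]
    exact congrArg Subtype.val h1
  refine ⟨⟨t, x, F, L1, ht, t_mem_L1, hL1le, ⟨eL1⟩, L_inf, z_notMem, L1_normal, cent_Q_t, t_central,
    cover, hnormJ t htN ?_, hi, hxJ, hox, F.2, hfsq, hfconj,
    hnormJ F (mem_N_of_L d (hL1le F.2).1) (by rw [hfconj]; exact inv_mem (mem_zpowers x))⟩⟩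
  rw [← hxt.eq, mul_inv_cancel_right]
  exact mem_zpowers x

end Cfsg.Agent.McL3Loc23

namespace Cfsg.Agent.McL3x39

/-- PIECE P1: the involution of the cover and its complement. -/
theorem exists_loc {G : Type*} [Group G] [Finite G] (d : Data G) : Nonempty (Loc d) :=
  McL3Loc23.exists_loc_aux d

end Cfsg.Agent.McL3x39
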