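import Mathlib
import Cfsg.Agent.S0253
import Cfsg.Agent.S2119
import Cfsg.Agent.Lib.AbelSylowCover32
import Cfsg.Agent.Lib.SL25Presentation

/-!
A subgroup isomorphic to `SL₂(5)`: the action of its normalizer on the five points of `A₅`.
-/

set_option autoImplicit false

namespace Cfsg.Agent.McL3Sl25Aut44

open Equiv

variable {G : Type*} [Group G]

/-- The symmetric group on five points. -/
abbrev P5 := Perm (Fin 5)

/-- `ρ` is the projection of `L1` onto `A₅`, with kernel generated by the involution `t`. -/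
structure Proj (L1 : Subgroup G) (t : G) (ρ : L1 →* P5) : Prop where
  range_eq : ρ.range = alternatingGroup (Fin 5)
  ker_iff : ∀ a : L1, ρ a = 1 ↔ ((a : G) = 1 ∨ (a : G) = t)

theorem sq_one_entries : ∀ p q r s : ZMod 5, p * s - q * r = 1 → p * p + q * r = 1 →
    p * q + q * s = 0 → r * p + s * r = 0 → r * q + s * s = 1 →
    (p = 1 ∧ q = 0 ∧ r = 0 ∧ s = 1) ∨ (p = -1 ∧ q = 0 ∧ r = 0 ∧ s = -1) := by
  decide +kernel

theorem card_of_iso {L1 : Subgroup G} (e : L1 ≃* Matrix.SpecialLinearGroup (Fin 2) (ZMod 5)) :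
    Nat.card L1 = 120 := by
  rw [Nat.card_congr e.toEquiv, SL25Presentation.card_SL25]

theorem perfect_of_iso {L1 : Subgroup G} (e : L1 ≃* Matrix.SpecialLinearGroup (Fin 2) (ZMod 5))
    {A : Type*} [CommGroup A] (f : L1 →* A) (a : L1) : f a = 1 := by
  haveI : Fact (Nat.Prime 5) := ⟨Nat.prime_five⟩
  have hp : commutator (Matrix.SpecialLinearGroup (Fin 2) (ZMod 5)) = ⊤ :=
    AbelSylow32.sl2_five_perfect (F := ZMod 5) (by rw [ZMod.card])
  have h : e a ∈ (f.comp e.symm.toMonoidHom).ker :=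
    Abelianization.commutator_subset_ker _ (hp ▸ Subgroup.mem_top _)
  simpa using h

theorem exists_proj {L1 : Subgroup G} {t : G} (ht : t ∈ L1) (hto : orderOf t = 2)
    (eL : Nonempty (L1 ≃* Matrix.SpecialLinearGroup (Fin 2) (ZMod 5))) :
    ∃ ρ : L1 →* P5, Proj L1 t ρ := by
  classical
  haveI : Fact (Nat.Prime 5) := ⟨Nat.prime_five⟩
  obtain ⟨e⟩ := eL
  obtain ⟨p⟩ := S0253.result (F := ZMod 5) (by rw [ZMod.card])
  let q : Matrix.SpecialLinearGroup (Fin 2) (ZMod 5) →* alternatingGroup (Fin 5) :=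
    p.toMonoidHom.comp (QuotientGroup.mk' (Subgroup.center (Matrix.SpecialLinearGroup (Fin 2) (ZMod 5))))
  let ρ : L1 →* P5 := (alternatingGroup (Fin 5)).subtype.comp (q.comp e.toMonoidHom)
  have hq : Function.Surjective q :=
    p.surjective.comp (QuotientGroup.mk'_surjective _)
  have hr : ρ.range = alternatingGroup (Fin 5) := by
    rw [MonoidHom.range_eq_map, ← Subgroup.map_map, Subgroup.map_top_of_surjective _
      (show Function.Surjective (q.comp e.toMonoidHom) from fun s => by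
        obtain ⟨y, rfl⟩ := hq s
        exact ⟨e.symm y, by simp⟩), ← MonoidHom.range_eq_map, Subgroup.range_subtype]
  haveI : Finite L1 := Nat.finite_of_card_ne_zero (by rw [card_of_iso e]; norm_num)
  have hk : Nat.card ρ.ker = 2 := by
    have h1 := ρ.ker.card_mul_index
    have h2 : 2 * Nat.card (alternatingGroup (Fin 5)) = 120 := by
      rw [two_mul_nat_card_alternatingGroup, Nat.card_perm, Nat.card_fin]; rfl
    rw [Subgroup.index_ker, hr, card_of_iso e] at h1
    nlinarith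
  have htk : ρ ⟨t, ht⟩ = 1 := by
    have hsq : ρ ⟨t, ht⟩ * ρ ⟨t, ht⟩ = 1 := by
      rw [← map_mul, ← map_one ρ]
      congr 1
      refine Subtype.ext ?_
      show t * t = 1
      rw [← pow_two, ← hto, pow_orderOf_eq_one]
    by_contra hne
    -- an involution of the cover lies in the centre
    have hc : ∀ a : Matrix.SpecialLinearGroup (Fin 2) (ZMod 5), a * a = 1 → a = 1 ∨ a = -1 := by
      intro a ha
      obtain ⟨h, -⟩ : a.1 * a.1 = 1 ∧ True := ⟨congrArg Subtype.val ha, trivial⟩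
      have hd := a.2
      rw [Matrix.det_fin_two] at hd
      have h00 := congrFun (congrFun h 0) 0
      have h01 := congrFun (congrFun h 0) 1
      have h10 := congrFun (congrFun h 1) 0
      have h11 := congrFun (congrFun h 1) 1
      simp only [Matrix.mul_apply, Fin.sum_univ_two, Matrix.one_apply] at h00 h01 h10 h11
      norm_num at h00 h01 h10 h11
      rcases sq_one_entries _ _ _ _ hd h00 h01 h10 h11 with ⟨k1, k2, k3, k4⟩ | ⟨k1, k2, k3, k4⟩
      · left
        ext i j
        fin_cases i <;> fin_cases j <;> simp [k1, k2, k3, k4]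
      · right
        ext i j
        fin_cases i <;> fin_cases j <;> simp [k1, k2, k3, k4]
    have hcen : e ⟨t, ht⟩ ∈ Subgroup.center (Matrix.SpecialLinearGroup (Fin 2) (ZMod 5)) := by
      have h2 : e ⟨t, ht⟩ * e ⟨t, ht⟩ = 1 := by
        rw [← map_mul, ← map_one e]
        congr 1
        refine Subtype.ext ?_
        show t * t = 1
        rw [← pow_two, ← hto, pow_orderOf_eq_one]
      rcases hc _ h2 with h | h <;> rw [h]
      · exact one_mem _
      · rw [Subgroup.mem_center_iff]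
        intro g
        ext i j
        simp
    refine hne ?_
    show ((p (QuotientGroup.mk' _ (e ⟨t, ht⟩)) : alternatingGroup (Fin 5)) : P5) = 1
    rw [show QuotientGroup.mk' _ (e ⟨t, ht⟩) = 1 from (QuotientGroup.eq_one_iff _).2 hcen, map_one]
    rfl
  refine ⟨ρ, hr, fun a => ⟨fun ha => ?_, ?_⟩⟩
  · have hne : (⟨t, ht⟩ : L1) ≠ 1 := fun h => by
      have h' : t = 1 := congrArg Subtype.val h
      rw [h', orderOf_one] at hto; omega
    obtain ⟨x, y, hxy, hu⟩ := Nat.card_eq_two_iff.1 hk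
    have h1 : (1 : L1) ∈ ρ.ker := one_mem _
    have hall : ∀ b : ρ.ker, b = ⟨1, h1⟩ ∨ b = ⟨⟨t, ht⟩, htk⟩ := by
      intro b
      have hb := hu.ge (Set.mem_univ b)
      have h1' := hu.ge (Set.mem_univ (⟨1, h1⟩ : ρ.ker))
      have ht' := hu.ge (Set.mem_univ (⟨⟨t, ht⟩, htk⟩ : ρ.ker))
      have hne' : (⟨1, h1⟩ : ρ.ker) ≠ ⟨⟨t, ht⟩, htk⟩ := fun h => hne (congrArg Subtype.val h).symm
      simp only [Set.mem_insert_iff, Set.mem_singleton_iff] at hb h1' ht'
      rcases hb with rfl | rfl <;> rcases h1' with e1 | e1 <;> rcases ht' with e2 | e2 <;>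
        first
          | exact Or.inl e1.symm
          | exact Or.inr e2.symm
          | exact absurd (e1.trans e2.symm) hne'
    rcases hall ⟨a, ha⟩ with h | h
    · exact Or.inl (congrArg (fun b : ρ.ker => ((b : L1) : G)) h)
    · exact Or.inr (congrArg (fun b : ρ.ker => ((b : L1) : G)) h)
  · rintro (h | h)
    · rw [show a = 1 from Subtype.ext h, map_one]
    · rw [show a = ⟨t, ht⟩ from Subtype.ext h, htk]

variable {L1 : Subgroup G} {t : G} {ρ : L1 →* P5}

theorem Proj.even (hρ : Proj L1 t ρ) (a : L1) : Perm.sign (ρ a) = 1 :=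
  Equiv.Perm.mem_alternatingGroup.1 (hρ.range_eq ▸ ⟨a, rfl⟩)

theorem Proj.surj (hρ : Proj L1 t ρ) {σ : P5} (hσ : Perm.sign σ = 1) : ∃ a : L1, ρ a = σ := by
  have : σ ∈ ρ.range := hρ.range_eq ▸ Equiv.Perm.mem_alternatingGroup.2 hσ
  exact this

/-- Conjugation by `m`, as a map of `L1`. -/
def cj (N : Subgroup G) (hN : N ≤ Subgroup.normalizer (L1 : Set G)) (m : N) : L1 →* L1 :=
  (Subgroup.normalizerMonoidHom L1 ⟨m, hN m.2⟩).toMonoidHom

theorem cj_coe (N : Subgroup G) (hN : N ≤ Subgroup.normalizer (L1 : Set G)) (m : N) (a : L1) :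
    ((cj N hN m a : L1) : G) = (m : G) * a * (m : G)⁻¹ := rfl

/-- The permutation of five points induced by an element normalising `L1`. -/
theorem exists_act [Finite G] (hρ : Proj L1 t ρ) (N : Subgroup G)
    (hN : N ≤ Subgroup.normalizer (L1 : Set G)) (ht : ∀ m ∈ N, m * t = t * m) :
    ∃ π : N →* P5, (∀ (m : N) (a : L1), ρ (cj N hN m a) = π m * ρ a * (π m)⁻¹) ∧
      ∀ (m : N) (a : L1), (m : G) = a → π m = ρ a := by
  classical
  let ρA : L1 →* alternatingGroup (Fin 5) := ρ.codRestrict _ (fun a => Equiv.Perm.mem_alternatingGroup.2 (hρ.even a))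
  have hs : Function.Surjective ρA := fun σ => by
    obtain ⟨a, ha⟩ := hρ.surj (Equiv.Perm.mem_alternatingGroup.1 σ.2)
    exact ⟨a, Subtype.ext ha⟩
  have hinv : ∀ (m : N) (a b : L1), ρ a = ρ b → ρ (cj N hN m a) = ρ (cj N hN m b) := by
    intro m a b hab
    have hk : ρ (a * b⁻¹) = 1 := by rw [map_mul, map_inv, hab, mul_inv_cancel]
    rcases (hρ.ker_iff _).1 hk with h | h
    · rw [show a = b from mul_inv_eq_one.1 (Subtype.ext h)]
    · have h1 : ρ (cj N hN m (a * b⁻¹)) = 1 := (hρ.ker_iff _).2 (Or.inr (by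
        rw [cj_coe, h, ht m m.2, mul_inv_cancel_right]))
      rwa [map_mul, map_mul, map_inv, map_inv, mul_inv_eq_one] at h1
  have hex : ∀ m : N, ∃ σ : P5, ∀ a : L1, ρ (cj N hN m a) = σ * ρ a * σ⁻¹ := by
    intro m
    let f : alternatingGroup (Fin 5) → alternatingGroup (Fin 5) := fun s =>
      ρA (cj N hN m (Function.surjInv hs s))
    have hf : ∀ a, f (ρA a) = ρA (cj N hN m a) := fun a => Subtype.ext
      (hinv m _ _ (congrArg Subtype.val (Function.surjInv_eq hs (ρA a))))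
    let g : alternatingGroup (Fin 5) →* alternatingGroup (Fin 5) := MonoidHom.mk' f (fun s u => by
      obtain ⟨a, rfl⟩ := hs s
      obtain ⟨b, rfl⟩ := hs u
      rw [← map_mul, hf, hf, hf, map_mul, map_mul])
    have hgs : Function.Surjective g := fun s => by
      obtain ⟨a, rfl⟩ := hs s
      refine ⟨ρA (cj N hN m⁻¹ a), (hf _).trans (congrArg ρA (Subtype.ext ?_))⟩
      rw [cj_coe, cj_coe]
      push_cast
      group
    let α : MulAut (alternatingGroup (Fin 5)) :=
      MulEquiv.ofBijective g ⟨Finite.injective_iff_surjective.2 hgs, hgs⟩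
    obtain ⟨σ, hσ⟩ := (S2119.result 5 (by norm_num) (by norm_num)).2 α
    refine ⟨σ, fun a => ?_⟩
    have h1 : α (ρA a) = ρA (cj N hN m a) := hf a
    rw [← hσ] at h1
    exact (congrArg Subtype.val h1).symm
  have huniq : ∀ σ σ' : P5, (∀ a : L1, σ * ρ a * σ⁻¹ = σ' * ρ a * σ'⁻¹) → σ = σ' := by
    intro σ σ' h
    refine (S2119.result 5 (by norm_num) (by norm_num)).1 ?_
    ext1 s
    obtain ⟨a, rfl⟩ := hs s
    exact Subtype.ext (h a)
  choose π hπ using hex
  refine ⟨MonoidHom.mk' π fun m m' => huniq _ _ fun a => ?_, fun m a => hπ m a, fun m b hmb => huniq _ _ fun a => ?_⟩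
  · rw [← hπ, show cj N hN (m * m') a = cj N hN m (cj N hN m' a) from Subtype.ext (by
      rw [cj_coe, cj_coe, cj_coe]
      push_cast
      group), hπ, hπ]
    group
  · show π m * ρ a * (π m)⁻¹ = _
    rw [← hπ, show cj N hN m a = b * a * b⁻¹ from Subtype.ext (by rw [cj_coe, hmb]; rfl),
      map_mul, map_mul, map_inv]

/-- An element inducing the trivial permutation centralises `L1`. -/
theorem commute_of_act [Finite G] (hρ : Proj L1 t ρ) (eL : Nonempty (L1 ≃* Matrix.SpecialLinearGroup (Fin 2) (ZMod 5)))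
    (htm : t ∈ L1) (htc : ∀ a ∈ L1, a * t = t * a) (htt : t * t = 1)
    (N : Subgroup G) (hN : N ≤ Subgroup.normalizer (L1 : Set G))
    {π : N →* P5} (hπ : ∀ (m : N) (a : L1), ρ (cj N hN m a) = π m * ρ a * (π m)⁻¹)
    (ht : ∀ m ∈ N, m * t = t * m) {m : N} (hm : π m = 1) {a : G} (ha : a ∈ L1) :
    (m : G) * a = a * m := by
  obtain ⟨e⟩ := eL
  let Z : Subgroup L1 := Subgroup.zpowers ⟨t, htm⟩
  have hχ : ∀ b : L1, cj N hN m b * b⁻¹ ∈ ρ.ker := fun b => by
    rw [MonoidHom.mem_ker, map_mul, map_inv, hπ, hm, one_mul, inv_one, mul_one, mul_inv_cancel]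
  have hkc : ∀ k : ρ.ker, ∀ b : L1, (k : L1) * b = b * k := by
    intro k b
    apply Subtype.ext
    rcases (hρ.ker_iff (k : L1)).1 k.2 with h | h
    · push_cast; rw [h, one_mul, mul_one]
    · push_cast; rw [h, htc b b.2]
  letI : CommGroup ρ.ker := { (inferInstance : Group ρ.ker) with
    mul_comm := fun x y => Subtype.ext (hkc x y) }
  let χ : L1 →* ρ.ker := MonoidHom.mk' (fun b => ⟨_, hχ b⟩) (fun b c => Subtype.ext (by
    show cj N hN m (b * c) * (b * c)⁻¹ = cj N hN m b * b⁻¹ * (cj N hN m c * c⁻¹)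
    have h1 := hkc ⟨_, hχ c⟩ b⁻¹
    change cj N hN m c * c⁻¹ * b⁻¹ = b⁻¹ * (cj N hN m c * c⁻¹) at h1
    rw [mul_assoc (cj N hN m b), ← h1, map_mul, mul_inv_rev]
    group))
  have h1 : χ ⟨a, ha⟩ = 1 := perfect_of_iso e χ _
  have h2 : (m : G) * a * (m : G)⁻¹ * a⁻¹ = 1 := congrArg (fun k : ρ.ker => ((k : L1) : G)) h1
  rwa [mul_inv_eq_one, mul_inv_eq_iff_eq_mul] at h2

end Cfsg.Agent.McL3Sl25Aut44
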