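import Cfsg.Agent.Lib.McL3Setup39
import Mathlib

/-!
Coordinates on the part of `J` inverted by the involution, and the action on it as two by two
matrices over the field of three elements.
-/

set_option autoImplicit false

namespace Cfsg.Agent.McL3U0Act44

open Cfsg.Agent.McL3x39

/-- Two by two matrices over `ZMod 3`, by rows. -/
abbrev M2 := ZMod 3 × ZMod 3 × ZMod 3 × ZMod 3

/-- Matrix product. -/
def mmul (M N : M2) : M2 :=
  (M.1 * N.1 + M.2.1 * N.2.2.1, M.1 * N.2.1 + M.2.1 * N.2.2.2,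
    M.2.2.1 * N.1 + M.2.2.2 * N.2.2.1, M.2.2.1 * N.2.1 + M.2.2.2 * N.2.2.2)

/-- The identity matrix. -/
def mI : M2 := (1, 0, 0, 1)
/-- Minus the identity. -/
def mN : M2 := (-1, 0, 0, -1)
/-- The matrix of `f`. -/
def mF : M2 := (0, -1, 1, 0)
/-- The opposite matrix. -/
def mneg (M : M2) : M2 := mmul mN M

set_option synthInstance.maxSize 2048 in
theorem sq_of_comm_F : ∀ M N : M2, mmul M N = mI → mmul M mF = mmul mF M →
    M = mI ∨ M = mN ∨ M = mF ∨ M = mneg mF ∨ mmul M M = mF ∨ mmul M M = mneg mF := by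
  decide +kernel

set_option synthInstance.maxSize 2048 in
theorem normal_V4_aux : ∀ M G0 : M2, mmul G0 G0 = mN → G0 ≠ mF → G0 ≠ mneg mF →
    (mmul M mF = mmul mF M ∨ mmul M mF = mneg (mmul mF M)) →
    (mmul M G0 = mmul G0 M ∨ mmul M G0 = mneg (mmul G0 M)) →
    M = (0, 0, 0, 0) ∨ ∃ ε ∈ [mI, mN], ∃ B ∈ [mI, mF, G0, mmul mF G0], M = mmul ε B := by
  decide +kernel

theorem mI_mul : ∀ M : M2, mmul mI M = M := by decide +kernel

theorem mul_mI : ∀ M : M2, mmul M mI = M := by decide +kernel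

theorem mmul_assoc (A B C : M2) : mmul (mmul A B) C = mmul A (mmul B C) := by
  simp only [mmul]
  refine Prod.ext ?_ (Prod.ext ?_ (Prod.ext ?_ ?_)) <;> ring

theorem mN_mul_self : mmul mN mN = mI := by decide +kernel

theorem mN_comm : ∀ M : M2, mmul M mN = mmul mN M := by decide +kernel

variable {G : Type*} [Group G] [Finite G] {d : Data G}

/-- A basis `a, f a f⁻¹` of the inverted part. -/
structure Coord (F : Frame d) (a : G) : Prop where
  mem_a : a ∈ F.toLoc.U0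
  mem_b : F.f * a * F.f⁻¹ ∈ F.toLoc.U0
  f_b : F.f * (F.f * a * F.f⁻¹) * F.f⁻¹ = a⁻¹
  inj : ∀ i j : ZMod 3, a ^ i.val * (F.f * a * F.f⁻¹) ^ j.val = 1 → i = 0 ∧ j = 0
  surj : ∀ u ∈ F.toLoc.U0, ∃ i j : ZMod 3, u = a ^ i.val * (F.f * a * F.f⁻¹) ^ j.val

variable {F : Frame d} {a : G}

/-- The element with given coordinates. -/
def el (F : Frame d) (a : G) (v : ZMod 3 × ZMod 3) : G :=
  a ^ v.1.val * (F.f * a * F.f⁻¹) ^ v.2.val

theorem pow_val_add {u : G} (h : u ^ 3 = 1) (i j : ZMod 3) :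
    u ^ (i + j).val = u ^ i.val * u ^ j.val := by
  rw [ZMod.val_add, ← pow_add]
  exact (pow_eq_pow_mod _ h).symm

theorem Coord.cube (hc : Coord F a) : a ^ 3 = 1 ∧ (F.f * a * F.f⁻¹) ^ 3 = 1 :=
  ⟨d.J_exp a hc.mem_a.1, d.J_exp _ hc.mem_b.1⟩

theorem Coord.comm_ab (hc : Coord F a) : Commute a (F.f * a * F.f⁻¹) :=
  d.J_comm a hc.mem_a.1 _ hc.mem_b.1

theorem el_add (hc : Coord F a) (v w : ZMod 3 × ZMod 3) :
    el F a (v + w) = el F a v * el F a w := by
  simp only [el, Prod.fst_add, Prod.snd_add]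
  rw [pow_val_add hc.cube.1, pow_val_add hc.cube.2]
  exact ((hc.comm_ab.pow_pow w.1.val v.2.val)).mul_mul_mul_comm _ _

theorem el_zero : el F a (0 : ZMod 3 × ZMod 3) = 1 := by simp [el]

theorem el_nsmul (hc : Coord F a) (v : ZMod 3 × ZMod 3) (n : ℕ) :
    el F a v ^ n = el F a (n • v) := by
  induction n with
  | zero => simp [el_zero]
  | succ n ih => rw [pow_succ, ih, succ_nsmul, el_add hc]

theorem el_inj (hc : Coord F a) {v w : ZMod 3 × ZMod 3} (h : el F a v = el F a w) : v = w := by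
  have h1 : el F a (v - w) * el F a w = el F a w := by rw [← el_add hc, sub_add_cancel, h]
  have h2 := hc.inj _ _ (mul_eq_right.1 h1)
  exact sub_eq_zero.1 (Prod.ext h2.1 h2.2)

theorem el_mem_U0 (hc : Coord F a) (v : ZMod 3 × ZMod 3) : el F a v ∈ F.toLoc.U0 := by
  refine ⟨mul_mem (pow_mem hc.mem_a.1 _) (pow_mem hc.mem_b.1 _), ?_⟩
  show F.t * (_ * _) * F.t⁻¹ = _
  rw [← MulAut.conj_apply, map_mul, map_pow, map_pow, MulAut.conj_apply, MulAut.conj_apply,
    hc.mem_a.2, hc.mem_b.2, inv_pow, inv_pow]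
  exact ((hc.comm_ab.pow_pow _ _).inv_inv).eq.trans (mul_inv_rev _ _).symm

/-- `r` acts on the inverted part by the matrix `M`. -/
def Act (F : Frame d) (a : G) (r : G) (M : M2) : Prop :=
  r * a * r⁻¹ = el F a (M.1, M.2.2.1) ∧
    r * (F.f * a * F.f⁻¹) * r⁻¹ = el F a (M.2.1, M.2.2.2)

theorem Act.conj_el (hc : Coord F a) {r : G} {M : M2} (h : Act F a r M) (v : ZMod 3 × ZMod 3) :
    r * el F a v * r⁻¹ =
      el F a (M.1 * v.1 + M.2.1 * v.2, M.2.2.1 * v.1 + M.2.2.2 * v.2) := by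
  rw [← MulAut.conj_apply, show el F a v = a ^ v.1.val * (F.f * a * F.f⁻¹) ^ v.2.val from rfl,
    map_mul, map_pow, map_pow, MulAut.conj_apply, MulAut.conj_apply, h.1, h.2, el_nsmul hc,
    el_nsmul hc, ← el_add hc]
  congr 1
  simp only [Prod.smul_mk, Prod.mk_add_mk, nsmul_eq_mul, ZMod.natCast_val, ZMod.cast_id', id_eq]
  refine Prod.ext ?_ ?_ <;> ring

theorem Act.mul (hc : Coord F a) {r r' : G} {M M' : M2} (h : Act F a r M) (h' : Act F a r' M') :
    Act F a (r * r') (mmul M M') := by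
  constructor
  · rw [show r * r' * a * (r * r')⁻¹ = r * (r' * a * r'⁻¹) * r⁻¹ by group, h'.1, h.conj_el hc]
    rfl
  · rw [show r * r' * (F.f * a * F.f⁻¹) * (r * r')⁻¹ = r * (r' * (F.f * a * F.f⁻¹) * r'⁻¹) * r⁻¹ by
      group, h'.2, h.conj_el hc]
    rfl

theorem Act.unique (hc : Coord F a) {r : G} {M M' : M2} (h : Act F a r M) (h' : Act F a r M') :
    M = M' := by
  have h1 := el_inj hc (h.1.symm.trans h'.1)
  have h2 := el_inj hc (h.2.symm.trans h'.2)
  simp only [Prod.mk.injEq] at h1 h2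
  exact Prod.ext h1.1 (Prod.ext h2.1 (Prod.ext h1.2 h2.2))

theorem Act.one : Act F a 1 mI := by
  constructor <;> simp [el, mI, ZMod.val_one]

theorem Act.trivial_iff (hc : Coord F a) {r : G} (h : Act F a r mI) :
    ∀ u ∈ F.toLoc.U0, r * u = u * r := by
  intro u hu
  obtain ⟨i, j, rfl⟩ := hc.surj u hu
  refine mul_inv_eq_iff_eq_mul.1 ?_
  rw [show a ^ i.val * (F.f * a * F.f⁻¹) ^ j.val = el F a (i, j) from rfl, h.conj_el hc]
  simp [mI]

theorem Act.f (hc : Coord F a) : Act F a F.f mF := by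
  constructor
  · simp [el, mF, ZMod.val_one]
  · rw [hc.f_b]
    show a⁻¹ = el F a (-1, 0)
    have h1 : el F a (-1, 0) * el F a (1, 0) = 1 := by
      rw [← el_add hc, show ((-1, 0) : ZMod 3 × ZMod 3) + (1, 0) = 0 by decide, el_zero]
    rw [eq_inv_of_mul_eq_one_left h1]
    simp [el, ZMod.val_one]

theorem Act.t (hc : Coord F a) : Act F a F.t mN := by
  have h := (Act.f hc).mul hc (Act.f hc)
  rwa [F.f_sq, show mmul mF mF = mN by decide +kernel] at h

theorem exists_act_of (hc : Coord F a) {r : G} (hrt : r * F.t = F.t * r)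
    (hrJ : r ∈ Subgroup.normalizer (d.J : Set G)) : ∃ M, Act F a r M := by
  have hmem : ∀ u ∈ F.toLoc.U0, r * u * r⁻¹ ∈ F.toLoc.U0 := by
    rintro u ⟨huJ, hut⟩
    refine ⟨(Subgroup.mem_normalizer_iff.1 hrJ u).1 huJ, ?_⟩
    show F.t * (r * u * r⁻¹) * F.t⁻¹ = _
    calc F.t * (r * u * r⁻¹) * F.t⁻¹ = F.t * r * u * (F.t * r)⁻¹ := by group
      _ = r * F.t * u * (r * F.t)⁻¹ := by rw [hrt]
      _ = r * (F.t * u * F.t⁻¹) * r⁻¹ := by group
      _ = (r * u * r⁻¹)⁻¹ := by rw [hut]; group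
  obtain ⟨p, s, h1⟩ := hc.surj _ (hmem _ hc.mem_a)
  obtain ⟨q, u, h2⟩ := hc.surj _ (hmem _ hc.mem_b)
  exact ⟨(p, q, s, u), h1, h2⟩

theorem Act.inv (hc : Coord F a) {r : G} {M : M2} (h : Act F a r M) (hrt : r * F.t = F.t * r)
    (hrJ : r ∈ Subgroup.normalizer (d.J : Set G)) :
    ∃ M', Act F a r⁻¹ M' ∧ mmul M M' = mI ∧ mmul M' M = mI := by
  obtain ⟨M', h'⟩ := exists_act_of hc (Commute.inv_left hrt).eq (inv_mem hrJ)
  refine ⟨M', h', ?_, ?_⟩
  · have := h.mul hc h'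
    rw [mul_inv_cancel] at this
    exact this.unique hc Act.one
  · have := h'.mul hc h
    rw [inv_mul_cancel] at this
    exact this.unique hc Act.one

theorem exists_coord (F : Frame d) : ∃ a, Coord F a := by
  classical
  have h9 : Nat.card F.toLoc.U0 = 9 := F.card_U0
  have hft : F.f * F.t = F.t * F.f := by rw [← F.f_sq, mul_assoc]
  have hf : ∀ u ∈ F.toLoc.U0, F.f * u * F.f⁻¹ ∈ F.toLoc.U0 := by
    rintro u ⟨huJ, hut⟩
    refine ⟨(Subgroup.mem_normalizer_iff.1 F.f_norm_J u).1 huJ, ?_⟩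
    show F.t * (F.f * u * F.f⁻¹) * F.t⁻¹ = _
    calc F.t * (F.f * u * F.f⁻¹) * F.t⁻¹ = F.t * F.f * u * (F.t * F.f)⁻¹ := by group
      _ = F.f * F.t * u * (F.f * F.t)⁻¹ := by rw [hft]
      _ = F.f * (F.t * u * F.t⁻¹) * F.f⁻¹ := by group
      _ = (F.f * u * F.f⁻¹)⁻¹ := by rw [hut]; group
  haveI : Nontrivial F.toLoc.U0 := Finite.one_lt_card_iff_nontrivial.1 (by rw [h9]; norm_num)
  have h1m : (1 : G) ∈ F.toLoc.U0 := ⟨one_mem _, by simp⟩
  obtain ⟨⟨a, ha⟩, hne⟩ := exists_ne (⟨1, h1m⟩ : F.toLoc.U0)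
  have ha1 : a ≠ 1 := fun h => hne (Subtype.ext h)
  have hfb : F.f * (F.f * a * F.f⁻¹) * F.f⁻¹ = a⁻¹ := by
    rw [show F.f * (F.f * a * F.f⁻¹) * F.f⁻¹ = (F.f * F.f) * a * (F.f * F.f)⁻¹ by group, F.f_sq]
    exact ha.2
  have hb := hf a ha
  have ha3 := d.J_exp a ha.1
  have hb3 := d.J_exp _ hb.1
  have hinj : ∀ i j : ZMod 3, a ^ i.val * (F.f * a * F.f⁻¹) ^ j.val = 1 → i = 0 ∧ j = 0 := by
    intro i j h
    by_cases hj : j = 0
    · subst hj
      simp only [ZMod.val_zero, pow_zero, mul_one] at h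
      refine ⟨?_, rfl⟩
      have hd : orderOf a ∣ i.val := orderOf_dvd_of_pow_eq_one h
      rw [orderOf_eq_prime ha3 ha1] at hd
      have hi := i.val_lt
      exact (ZMod.val_eq_zero i).1 (by omega)
    · exfalso
      have hjv : j.val ≠ 0 := fun e => hj ((ZMod.val_eq_zero j).1 e)
      have hjl := j.val_lt
      -- so `f a f⁻¹` is a power of `a`
      have hk : ∃ k : ℕ, F.f * a * F.f⁻¹ = a ^ k := by
        have h' : (F.f * a * F.f⁻¹) ^ j.val = (a ^ i.val)⁻¹ := eq_inv_of_mul_eq_one_right h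
        have h2 := congrArg (fun x => x ^ j.val) h'
        simp only [← pow_mul, inv_pow] at h2
        rw [pow_eq_pow_mod _ hb3, show j.val * j.val % 3 = 1 by
          interval_cases j.val <;> simp_all, pow_one] at h2
        refine ⟨2 * (i.val * j.val), h2.trans ?_⟩
        refine (eq_inv_of_mul_eq_one_left ?_).symm
        rw [← pow_add, show 2 * (i.val * j.val) + i.val * j.val = 3 * (i.val * j.val) by ring,
          pow_mul, ha3, one_pow]
      obtain ⟨k, hk⟩ := hk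
      have h4 : a⁻¹ = a ^ (k * k) := by
        rw [← hfb, hk, ← conj_pow, hk, ← pow_mul]
      have h5 : a ^ (k * k + 1) = 1 := by rw [pow_succ, ← h4, inv_mul_cancel]
      rw [pow_eq_pow_mod _ ha3] at h5
      have hd : orderOf a ∣ (k * k + 1) % 3 := orderOf_dvd_of_pow_eq_one h5
      rw [orderOf_eq_prime ha3 ha1] at hd
      have : ∀ r : ℕ, r < 3 → (r * r + 1) % 3 ≠ 0 := by decide
      have := this (k % 3) (Nat.mod_lt _ (by norm_num))
      have hmod : (k * k + 1) % 3 = (k % 3 * (k % 3) + 1) % 3 := by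
        rw [Nat.add_mod, Nat.mul_mod]
        omega
      omega
  refine ⟨a, ha, hb, hfb, hinj, ?_⟩
  intro u hu
  have hc : Commute a (F.f * a * F.f⁻¹) := d.J_comm a ha.1 _ hb.1
  let φ : ZMod 3 × ZMod 3 → F.toLoc.U0 := fun v =>
    ⟨a ^ v.1.val * (F.f * a * F.f⁻¹) ^ v.2.val,
      mul_mem (pow_mem ha.1 _) (pow_mem hb.1 _), by
        show F.t * (_ * _) * F.t⁻¹ = _
        rw [← MulAut.conj_apply, map_mul, map_pow, map_pow, MulAut.conj_apply, MulAut.conj_apply,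
          ha.2, hb.2, inv_pow, inv_pow]
        exact ((hc.pow_pow _ _).inv_inv).eq.trans (mul_inv_rev _ _).symm⟩
  have hφ : Function.Injective φ := by
    intro v w h
    have h' : a ^ v.1.val * (F.f * a * F.f⁻¹) ^ v.2.val =
        a ^ w.1.val * (F.f * a * F.f⁻¹) ^ w.2.val := congrArg Subtype.val h
    have e : ∀ (x : G), x ^ 3 = 1 → ∀ i j : ZMod 3, x ^ (i - j).val = x ^ i.val * (x ^ j.val)⁻¹ := by
      intro x hx i j
      rw [eq_mul_inv_iff_mul_eq, ← pow_val_add hx, sub_add_cancel]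
    have h2 := hinj (v.1 - w.1) (v.2 - w.2) (by
      rw [e a ha3, e _ hb3, mul_assoc, ← mul_assoc (a ^ w.1.val)⁻¹,
        ((hc.pow_pow w.1.val v.2.val).inv_left).eq, mul_assoc, ← mul_assoc, h',
        ← mul_inv_rev, ← (hc.pow_pow w.1.val w.2.val).eq, mul_inv_cancel])
    exact Prod.ext (sub_eq_zero.1 h2.1) (sub_eq_zero.1 h2.2)
  have hbij : Function.Bijective φ := (Nat.bijective_iff_injective_and_card φ).2
    ⟨hφ, by rw [h9, Nat.card_prod, Nat.card_zmod]⟩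
  obtain ⟨⟨i, j⟩, hij⟩ := hbij.2 ⟨u, hu⟩
  exact ⟨i, j, (congrArg Subtype.val hij).symm⟩

end Cfsg.Agent.McL3U0Act44
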