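import Cfsg.Agent.Lib.McL3Base39
import Cfsg.Agent.Lib.McL3Sl25Aut44
import Cfsg.Agent.Lib.McL3U0Act44

/-!
The normalizer of `⟨z⟩` in the centralizer of the involution: signs and actions.
-/

set_option autoImplicit false

namespace Cfsg.Agent.McL3SplitLoc44

open Equiv Cfsg.Agent.McL3x39 Cfsg.Agent.McL3Sl25Aut44 Cfsg.Agent.McL3U0Act44

variable {G : Type*} [Group G] [Finite G] {d : Data G}

/-- The normalizer of `⟨z⟩` in the centralizer of the involution. -/
def Nt (F : Frame d) : Subgroup G :=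
  Subgroup.normalizer (Subgroup.zpowers d.z : Set G) ⊓ Subgroup.centralizer ({F.t} : Set G)

/-- The standard three cycle on five points. -/
def c0 : P5 := swap 0 1 * swap 1 2

theorem c0_cent : ∀ σ : P5, σ * c0 = c0 * σ → Perm.sign σ = 1 →
    σ = 1 ∨ σ = c0 ∨ σ = c0 * c0 := by
  decide +kernel

theorem c0_swap : swap (3 : Fin 5) 4 * c0 = c0 * swap 3 4 ∧ Perm.sign (swap (3 : Fin 5) 4) = -1 ∧
    Perm.sign c0 = 1 := by
  decide +kernel

theorem a5_cent : ∀ σ : P5, σ * c0 = c0 * σ →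
    σ * (swap 2 3 * swap 3 4) = swap 2 3 * swap 3 4 * σ → σ = 1 := by
  decide +kernel

theorem conj_zpow_inv {m u : G} (h : m * u * m⁻¹ = u⁻¹) (i : ℤ) : m * u ^ i * m⁻¹ = (u ^ i)⁻¹ := by
  rw [← conj_zpow, h, inv_zpow]

theorem conj_back {m u : G} (h : m * u * m⁻¹ = u⁻¹) : m⁻¹ * u * m = u⁻¹ := by
  have h1 : m * u⁻¹ * m⁻¹ = u := by rw [← conj_inv, h, inv_inv]
  conv_lhs => rw [← h1]
  group

variable (F : Frame d)

theorem t_sq : F.t * F.t = 1 := by
  have := pow_orderOf_eq_one F.t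
  rwa [F.order_t, pow_two] at this

theorem z_cube : d.z ^ 3 = 1 := by rw [← d.order_z, pow_orderOf_eq_one]

theorem x_cube : F.x ^ 3 = 1 := by rw [← F.order_x, pow_orderOf_eq_one]

theorem L1_z {a : G} (ha : a ∈ F.L1) : a * d.z = d.z * a :=
  Subgroup.mem_centralizer_singleton_iff.1 (d.L_le (F.L1_le ha).1)

theorem L1_t {a : G} (ha : a ∈ F.L1) : a * F.t = F.t * a :=
  Subgroup.mem_centralizer_singleton_iff.1 (F.L1_le ha).2

theorem zt : d.z * F.t = F.t * d.z := (L1_z F F.t_mem_L1).symm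

theorem fx_ne : F.f * F.x ≠ F.x * F.f := by
  intro h
  have h1 := F.f_conj
  rw [h, mul_inv_cancel_right] at h1
  have h2 : F.x * F.x = 1 := by nth_rewrite 2 [h1]; exact mul_inv_cancel _
  have h3 := x_cube F
  rw [pow_succ, pow_two, h2, one_mul] at h3
  have := F.order_x
  rw [h3, orderOf_one] at this
  omega

theorem z_ne_inv : d.z ≠ d.z⁻¹ := by
  intro h
  have h2 : d.z * d.z = 1 := by nth_rewrite 2 [h]; exact mul_inv_cancel _
  have h3 := z_cube (d := d)
  rw [pow_succ, pow_two, h2, one_mul] at h3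
  have := d.order_z
  rw [h3, orderOf_one] at this
  omega

theorem mem_normalizer_z {m : G} :
    m ∈ Subgroup.normalizer (Subgroup.zpowers d.z : Set G) ↔
      m * d.z * m⁻¹ = d.z ∨ m * d.z * m⁻¹ = d.z⁻¹ := by
  constructor
  · intro h
    have h1 := (Subgroup.mem_normalizer_iff.1 h d.z).1 (Subgroup.mem_zpowers _)
    obtain ⟨k, hk⟩ := Subgroup.mem_zpowers_iff.1 h1
    rw [← zpow_mod_orderOf, d.order_z] at hk
    rcases (by omega : k % ((3 : ℕ) : ℤ) = 0 ∨ k % ((3 : ℕ) : ℤ) = 1 ∨ k % ((3 : ℕ) : ℤ) = 2)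
      with e | e | e <;> rw [e] at hk
    · rw [zpow_zero] at hk
      have := d.order_z
      rw [conj_eq_one_iff.1 hk.symm, orderOf_one] at this
      omega
    · exact Or.inl (by rw [← hk, zpow_one])
    · refine Or.inr (hk.symm.trans (eq_inv_of_mul_eq_one_left ?_))
      rw [← zpow_add_one]
      show d.z ^ ((3 : ℕ) : ℤ) = 1
      rw [zpow_natCast, z_cube]
  · intro h
    refine Subgroup.mem_normalizer_fintype fun u hu => ?_
    obtain ⟨k, rfl⟩ := Subgroup.mem_zpowers_iff.1 hu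
    rw [← conj_zpow]
    rcases h with e | e <;> rw [e]
    · exact Subgroup.zpow_mem_zpowers _ _
    · exact zpow_mem (inv_mem (Subgroup.mem_zpowers _)) _

theorem mem_Nt {m : G} : m ∈ Nt F ↔
    (m * d.z * m⁻¹ = d.z ∨ m * d.z * m⁻¹ = d.z⁻¹) ∧ m * F.t = F.t * m := by
  rw [Nt, Subgroup.mem_inf, mem_normalizer_z, Subgroup.mem_centralizer_singleton_iff]

theorem mem_Nt_of_cent {m : G} (hz : m * d.z = d.z * m) (ht : m * F.t = F.t * m) : m ∈ Nt F :=
  (mem_Nt F).2 ⟨Or.inl (by rw [hz, mul_inv_cancel_right]), ht⟩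

theorem L1_le_Nt : F.L1 ≤ Nt F := fun a ha => mem_Nt_of_cent F (L1_z F ha) (L1_t F ha)

theorem z_mem_Nt : d.z ∈ Nt F := mem_Nt_of_cent F rfl (zt F)

theorem g_mem_Nt : F.g ∈ Nt F := (mem_Nt F).2 ⟨Or.inr F.g_z, F.g_comm⟩

theorem Nt_le : Nt F ≤ Subgroup.normalizer (F.L1 : Set G) := F.L1_normal

theorem Nt_t : ∀ m ∈ Nt F, m * F.t = F.t * m := fun _ hm => ((mem_Nt F).1 hm).2

theorem mem_D {a : G} (ha : a ∈ Subgroup.closure ({d.z, F.x} : Set G)) :
    ∃ i j : ℤ, a = d.z ^ i * F.x ^ j := by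
  have hc : Commute d.z F.x := (L1_z F F.x_mem_L1).symm
  induction ha using Subgroup.closure_induction with
  | mem y hy =>
    simp only [Set.mem_insert_iff, Set.mem_singleton_iff] at hy
    rcases hy with rfl | rfl
    · exact ⟨1, 0, by simp⟩
    · exact ⟨0, 1, by simp⟩
  | one => exact ⟨0, 0, by simp⟩
  | mul y w _ _ hy hw =>
    obtain ⟨i, j, rfl⟩ := hy
    obtain ⟨k, l, rfl⟩ := hw
    exact ⟨i + k, j + l, by
      rw [zpow_add, zpow_add, (hc.symm.zpow_zpow j k).mul_mul_mul_comm]⟩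
  | inv y _ hy =>
    obtain ⟨i, j, rfl⟩ := hy
    exact ⟨-i, -j, by rw [zpow_neg, zpow_neg, mul_inv_rev, (hc.zpow_zpow i j).inv_inv.eq]⟩

theorem D_le_J : ∀ a ∈ Subgroup.closure ({d.z, F.x} : Set G), a ∈ d.J := by
  intro a ha
  exact ((Subgroup.closure_le _).2 (by
    intro y hy
    rcases hy with rfl | rfl
    exacts [d.z_mem_J, F.x_mem_J]) : Subgroup.closure ({d.z, F.x} : Set G) ≤ d.J) ha

theorem J_le_xQ : d.J ≤ Subgroup.zpowers F.x ⊔ d.Q := by
  intro j hj
  set j' := F.t * j * F.t⁻¹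
  have hj' : j' ∈ d.J := (Subgroup.mem_normalizer_iff.1 F.t_norm_J j).1 hj
  have hcj : Commute j j' := d.J_comm j hj j' hj'
  have hinv : F.t⁻¹ = F.t := inv_eq_of_mul_eq_one_right (t_sq F)
  have hback : F.t * j' * F.t⁻¹ = j := by
    show F.t * (F.t * j * F.t⁻¹) * F.t⁻¹ = j
    rw [hinv, show F.t * (F.t * j * F.t) * F.t = (F.t * F.t) * j * (F.t * F.t) by group, t_sq F]
    group
  have h1 : j * j' ∈ Subgroup.zpowers F.x ⊔ d.Q := by
    have hD : j * j' ∈ Subgroup.closure ({d.z, F.x} : Set G) := by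
      refine (F.cent_D _ (mul_mem hj hj')).1 ?_
      have e : F.t * (j * j') * F.t⁻¹ = j * j' := by
        rw [show F.t * (j * j') * F.t⁻¹ = j' * (F.t * j' * F.t⁻¹) by simp [j', mul_assoc], hback]
        exact hcj.eq.symm
      exact mul_inv_eq_iff_eq_mul.1 e
    obtain ⟨a, b, hab⟩ := mem_D F hD
    rw [hab]
    exact mul_mem (Subgroup.mem_sup_right (zpow_mem d.z_mem_Q a))
      (Subgroup.mem_sup_left (Subgroup.zpow_mem_zpowers _ b))
  have h2 : j * j'⁻¹ ∈ Subgroup.zpowers F.x ⊔ d.Q := by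
    refine Subgroup.mem_sup_right (F.inv_meet _ (mul_mem hj (inv_mem hj')) ?_)
    rw [show F.t * (j * j'⁻¹) * F.t⁻¹ = j' * (F.t * j' * F.t⁻¹)⁻¹ by simp [j', mul_assoc], hback,
      mul_inv_rev, inv_inv]
  have h3 := mul_mem h1 h2
  rw [show j * j' * (j * j'⁻¹) = j * j by
    rw [hcj.symm.mul_mul_mul_comm, mul_inv_cancel, mul_one]] at h3
  have h4 := mul_mem h3 h3
  rwa [show j * j * (j * j) = j by
    have := d.J_exp j hj
    rw [pow_succ, pow_two] at this
    rw [← mul_assoc, this, one_mul]] at h4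

theorem normJ {m : G} (hm : m ∈ Nt F) (hx : m * F.x * m⁻¹ ∈ Subgroup.zpowers F.x) :
    m ∈ Subgroup.normalizer (d.J : Set G) := by
  have hQ : m ∈ Subgroup.normalizer (d.Q : Set G) := d.Q_normal hm.1
  have hle : (Subgroup.zpowers F.x ⊔ d.Q).map (MulAut.conj m).toMonoidHom ≤
      (d.S : Subgroup G) := by
    rw [Subgroup.map_sup, sup_le_iff]
    constructor
    · rw [MonoidHom.map_zpowers, Subgroup.zpowers_le]
      exact (Subgroup.zpowers_le.2 (d.J_le_S F.x_mem_J) : _ ≤ (d.S : Subgroup G)) hx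
    · rintro _ ⟨q, hq, rfl⟩
      exact d.Q_le_S ((Subgroup.mem_normalizer_iff.1 hQ q).1 hq)
  have he : d.J.map (MulAut.conj m).toMonoidHom = d.J := by
    refine d.J_unique ((Subgroup.map_mono (J_le_xQ F)).trans hle) ?_ ?_
    · rintro _ ⟨u, hu, rfl⟩ _ ⟨v, hv, rfl⟩
      show MulAut.conj m u * MulAut.conj m v = MulAut.conj m v * MulAut.conj m u
      rw [← map_mul, ← map_mul, d.J_comm u hu v hv]
    · rw [Nat.card_congr (d.J.equivMapOfInjective _ (MulAut.conj m).injective).toEquiv.symm, d.card_J]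
  refine Subgroup.mem_normalizer_fintype fun u hu => ?_
  rw [SetLike.mem_coe, ← he]
  exact ⟨u, hu, rfl⟩

theorem normJ_fix {m : G} (hm : m ∈ Nt F) (hx : m * F.x = F.x * m) :
    m ∈ Subgroup.normalizer (d.J : Set G) :=
  normJ F hm (by rw [hx, mul_inv_cancel_right]; exact Subgroup.mem_zpowers _)

variable {F} {a : G}

theorem act_J (hc : Coord F a) {u : G} (hu : u ∈ d.J) : Act F a u mI := by
  constructor
  · rw [d.J_comm u hu a hc.mem_a.1, mul_inv_cancel_right]
    simp [el, mI, ZMod.val_one]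
  · rw [d.J_comm u hu _ hc.mem_b.1, mul_inv_cancel_right]
    simp [el, mI, ZMod.val_one]

theorem trivial_mem (hc : Coord F a) {r : G} (hrt : r * F.t = F.t * r) (hrz : r * d.z = d.z * r)
    (hA : Act F a r mI) : r ∈ Subgroup.closure ({d.z, F.x} : Set G) := by
  have htriv := Act.trivial_iff hc hA
  have hJ : r ∈ d.J := by
    refine d.cent_le_of_meet fun u huJ huQ => ?_
    have hinv : F.t⁻¹ = F.t := inv_eq_of_mul_eq_one_right (t_sq F)
    set u' := F.t * u * F.t⁻¹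
    have hu' : u' ∈ d.J := (Subgroup.mem_normalizer_iff.1 F.t_norm_J u).1 huJ
    have htL : F.t ∈ d.L := (F.L1_le F.t_mem_L1).1
    have hu'Q : u' ∈ d.Q := (Subgroup.mem_normalizer_iff.1 (d.L_le_normalizer htL) u).1 huQ
    have hcc : Commute u u' := d.J_comm u huJ u' hu'
    have hback : F.t * u' * F.t⁻¹ = u := by
      show F.t * (F.t * u * F.t⁻¹) * F.t⁻¹ = u
      rw [hinv, show F.t * (F.t * u * F.t) * F.t = (F.t * F.t) * u * (F.t * F.t) by group, t_sq F]
      group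
    have h1 : Commute r (u * u') := by
      have hfix : F.t * (u * u') * F.t⁻¹ = u * u' := by
        rw [show F.t * (u * u') * F.t⁻¹ = u' * (F.t * u' * F.t⁻¹) by simp [u', mul_assoc], hback]
        exact hcc.eq.symm
      obtain ⟨i, hi⟩ := Subgroup.mem_zpowers_iff.1
        (F.cent_Q_t _ (mul_mem huQ hu'Q) (mul_inv_eq_iff_eq_mul.1 hfix).symm)
      rw [← hi]
      exact (show Commute r d.z from hrz).zpow_right i
    have h2 : Commute r (u * u'⁻¹) := by
      refine htriv _ ⟨mul_mem huJ (inv_mem hu'), ?_⟩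
      rw [show F.t * (u * u'⁻¹) * F.t⁻¹ = u' * (F.t * u' * F.t⁻¹)⁻¹ by simp [u', mul_assoc], hback,
        mul_inv_rev, inv_inv]
    have h3 : Commute r (u * u) := by
      have := h1.mul_right h2
      rwa [show u * u' * (u * u'⁻¹) = u * u by
        rw [hcc.symm.mul_mul_mul_comm, mul_inv_cancel, mul_one]] at this
    have h4 := h3.mul_right h3
    rw [show u * u * (u * u) = u by
      have := d.J_exp u huJ
      rw [pow_succ, pow_two] at this
      rw [← mul_assoc, this, one_mul]] at h4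
    exact h4.eq
  exact (F.cent_D r hJ).1 hrt.symm

theorem scalar_mem (hc : Coord F a) {r : G} {M : M2} (hrt : r * F.t = F.t * r)
    (hrz : r * d.z = d.z * r) (hA : Act F a r M) (hM : M = mI ∨ M = mN) :
    r ∈ Subgroup.closure ({d.z, F.x} : Set G) ∨ r * F.t ∈ Subgroup.closure ({d.z, F.x} : Set G) := by
  rcases hM with rfl | rfl
  · exact Or.inl (trivial_mem hc hrt hrz hA)
  · refine Or.inr (trivial_mem hc ?_ ?_ ?_)
    · exact (Commute.mul_left hrt (Commute.refl F.t)).eq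
    · exact (Commute.mul_left hrz (zt F).symm).eq
    · have := hA.mul hc (Act.t hc)
      rwa [mN_mul_self] at this

theorem scalar_fix (hc : Coord F a) {r : G} {M : M2} (hrt : r * F.t = F.t * r)
    (hrz : r * d.z = d.z * r) (hA : Act F a r M) (hM : M = mI ∨ M = mN) : r * F.x = F.x * r := by
  have hx : ∀ u ∈ Subgroup.closure ({d.z, F.x} : Set G), Commute u F.x := fun u hu =>
    d.J_comm u (D_le_J F u hu) _ F.x_mem_J
  rcases scalar_mem hc hrt hrz hA hM with h | h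
  · exact (hx r h).eq
  · have h2 := (hx _ h).mul_left (L1_t F F.x_mem_L1).symm
    rwa [mul_assoc, t_sq F, mul_one] at h2

theorem kill_of (hc : Coord F a) {r : G} {M : M2} (hrJ : r ∈ Subgroup.normalizer (d.J : Set G))
    (hrt : r * F.t = F.t * r) (hrz : r * d.z * r⁻¹ = d.z⁻¹) (hrx : r * F.x = F.x * r)
    (hA : Act F a r M) (hM : M = mI ∨ M = mN) : False := by
  rcases hM with rfl | rfl
  · exact F.kill r hrJ hrz hrx fun u hu hut => Act.trivial_iff hc hA u ⟨hu, hut⟩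
  · refine F.kill (r * F.t) (mul_mem hrJ F.t_norm_J) ?_ ?_ fun u hu hut =>
      Act.trivial_iff hc (r := r * F.t) ?_ u ⟨hu, hut⟩
    · rw [mul_assoc r F.t, ← zt F, mul_inv_rev, show r * (d.z * F.t) * (F.t⁻¹ * r⁻¹) = r * d.z * r⁻¹ by group, hrz]
    · exact (Commute.mul_left hrx (L1_t F F.x_mem_L1).symm).eq
    · have := hA.mul hc (Act.t hc)
      rwa [mN_mul_self] at this

theorem g_act (hc : Coord F a) : ∃ M, Act F a F.g M ∧ mmul M M = mN ∧ M ≠ mF ∧ M ≠ mneg mF := by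
  have hgJ : F.g ∈ Subgroup.normalizer (d.J : Set G) := d.M0_le F.g_mem
  obtain ⟨M, hM⟩ := exists_act_of hc F.g_comm hgJ
  have hsq : mmul M M = mN := by
    have := hM.mul hc hM
    rw [F.g_sq] at this
    exact this.unique hc (Act.t hc)
  obtain ⟨M', hM', hMM', -⟩ := hM.inv hc F.g_comm hgJ
  set r := F.f * F.g⁻¹
  have hrt : r * F.t = F.t * r :=
    (Commute.mul_left (L1_t F F.f_mem) (Commute.inv_left F.g_comm)).eq
  have hrJ : r ∈ Subgroup.normalizer (d.J : Set G) := mul_mem F.f_norm_J (inv_mem hgJ)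
  have hrz : r * d.z * r⁻¹ = d.z⁻¹ := by
    rw [show r * d.z * r⁻¹ = F.f * (F.g⁻¹ * d.z * F.g) * F.f⁻¹ by simp [r, mul_assoc],
      conj_back F.g_z, (Commute.inv_right (L1_z F F.f_mem)).eq, mul_inv_cancel_right]
  have hrx : r * F.x = F.x * r := by
    have : r * F.x * r⁻¹ = F.x := by
      rw [show r * F.x * r⁻¹ = F.f * (F.g⁻¹ * F.x * F.g) * F.f⁻¹ by simp [r, mul_assoc],
        conj_back F.g_x, ← conj_inv, F.f_conj, inv_inv]
    exact mul_inv_eq_iff_eq_mul.1 this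
  refine ⟨M, hM, hsq, ?_, ?_⟩ <;> intro e <;>
    refine kill_of hc hrJ hrt hrz hrx ((Act.f hc).mul hc hM') ?_ <;> subst e
  · exact Or.inl hMM'
  · have hd : ∀ N : M2, mmul (mneg mF) N = mI → mmul mF N = mN := by decide +kernel
    exact Or.inr (hd _ hMM')

/-- A projection of `L1` onto `A₅` sending `x` to the standard three cycle, and the induced action. -/
structure Five (F : Frame d) (π : Nt F →* P5) : Prop where
  onto : ∀ σ : P5, Perm.sign σ = 1 → ∃ b : Nt F, (b : G) ∈ F.L1 ∧ π b = σ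
  ker : ∀ m : Nt F, π m = 1 → ∀ b ∈ F.L1, (m : G) * b = b * m
  ker_L1 : ∀ m : Nt F, (m : G) ∈ F.L1 → π m = 1 → (m : G) = 1 ∨ (m : G) = F.t
  x_val : ∀ m : Nt F, (m : G) = F.x → π m = c0
  z_val : ∀ m : Nt F, (m : G) = d.z → π m = 1
  t_val : ∀ m : Nt F, (m : G) = F.t → π m = 1
  even : ∀ m : Nt F, (m : G) ∈ F.L1 → Perm.sign (π m) = 1

theorem exists_five (F : Frame d) : ∃ π : Nt F →* P5, Five F π := by
  obtain ⟨ρ, hρ⟩ := exists_proj F.t_mem_L1 F.order_t F.eL1
  obtain ⟨π, hπ, hπL⟩ := exists_act hρ (Nt F) (Nt_le F) (Nt_t F)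
  set xx : F.L1 := ⟨F.x, F.x_mem_L1⟩
  have hx3 : ρ xx ^ 3 = 1 := by
    rw [← map_pow, ← map_one ρ]
    exact congrArg ρ (Subtype.ext (x_cube F))
  have hx1 : ρ xx ≠ 1 := by
    intro h
    have ho := F.order_x
    rcases (hρ.ker_iff _).1 h with e | e
    · rw [show F.x = 1 from e, orderOf_one] at ho; omega
    · rw [show F.x = F.t from e, F.order_t] at ho; omega
  obtain ⟨σ, hσ⟩ : ∃ σ : P5, σ * ρ xx * σ⁻¹ = c0 := by
    haveI : Fact (Nat.Prime 3) := ⟨Nat.prime_three⟩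
    have ho : orderOf (ρ xx) = 3 := orderOf_eq_prime hx3 hx1
    obtain ⟨k, hk⟩ := Perm.cycleType_prime_order (σ := ρ xx) (by rw [ho]; exact Nat.prime_three)
    have hs := (ρ xx).sum_cycleType
    have hle : (ρ xx).support.card ≤ 5 := (Finset.card_le_univ _).trans (by simp)
    rw [hk, ho, Multiset.sum_replicate, smul_eq_mul] at hs
    have hk0 : k = 0 := by omega
    refine isConj_iff.1 (Equiv.Perm.isConj_iff_cycleType_eq.2 ?_)
    rw [hk, ho, hk0, show c0 = swap 1 0 * swap 1 2 by decide +kernel,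
      (Perm.isThreeCycle_swap_mul_swap_same (by decide) (by decide) (by decide)).cycleType]
    rfl
  let π' : Nt F →* P5 := (MulAut.conj σ).toMonoidHom.comp π
  have happ : ∀ m, π' m = σ * π m * σ⁻¹ := fun m => rfl
  have hinj : ∀ m, π' m = 1 → π m = 1 := fun m h => conj_eq_one_iff.1 h
  refine ⟨π', ?_, ?_, ?_, ?_, ?_, ?_, ?_⟩
  · intro τ hτ
    obtain ⟨b, hb⟩ := hρ.surj (σ := σ⁻¹ * τ * σ) (by
      rw [map_mul, map_mul, map_inv, mul_comm _ (Perm.sign τ), mul_assoc, inv_mul_cancel, mul_one, hτ])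
    refine ⟨⟨b, L1_le_Nt F b.2⟩, b.2, ?_⟩
    rw [happ, hπL ⟨b, L1_le_Nt F b.2⟩ b rfl, hb]
    group
  · intro m hm b hb
    exact commute_of_act hρ F.eL1 F.t_mem_L1 (fun c hc => L1_t F hc) (t_sq F) (Nt F) (Nt_le F) hπ
      (Nt_t F) (hinj m hm) hb
  · intro m hm h
    have := hinj m h
    rw [hπL m ⟨m, hm⟩ rfl] at this
    exact (hρ.ker_iff _).1 this
  · intro m hm
    rw [happ, hπL m xx hm, hσ]
  · intro m hm
    have hfix : ∀ b : F.L1, π m * ρ b = ρ b * π m := by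
      intro b
      refine mul_inv_eq_iff_eq_mul.1 ?_
      rw [← hπ m b]
      congr 1
      refine Subtype.ext ?_
      rw [cj_coe, hm, ← L1_z F b.2, mul_inv_cancel_right]
    have hall : ∀ τ : P5, Perm.sign τ = 1 → π' m * τ = τ * π' m := by
      intro τ hτ
      obtain ⟨b, hb⟩ := hρ.surj (σ := σ⁻¹ * τ * σ) (by
        rw [map_mul, map_mul, map_inv, mul_comm _ (Perm.sign τ), mul_assoc, inv_mul_cancel, mul_one, hτ])
      have h1 := congrArg (fun u => σ * u * σ⁻¹) (hfix b)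
      rw [happ]
      simpa [hb, mul_assoc] using h1
    exact a5_cent _ (hall _ c0_swap.2.2) (hall _ (by decide +kernel))
  · intro m hm
    rw [happ, hπL m ⟨F.t, F.t_mem_L1⟩ hm, (hρ.ker_iff _).2 (Or.inr rfl), mul_one, mul_inv_cancel]
  · intro m hm
    rw [happ, map_mul, map_mul, map_inv, hπL m ⟨m, hm⟩ rfl, hρ.even, mul_one, mul_inv_cancel]

variable {π : Nt F →* P5}

/-- Elements inducing the identity and centralising `z`. -/
theorem ker_cent (hc : Coord F a) (h5 : Five F π) (m : Nt F) (hm : π m = 1)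
    (hz : (m : G) * d.z = d.z * m) :
    ∃ i : ℤ, (m : G) = d.z ^ i ∨ (m : G) = d.z ^ i * F.t := by
  have hcm := h5.ker m hm
  have ht := Nt_t F m m.2
  have hx := hcm _ F.x_mem_L1
  have hJ := normJ_fix F m.2 hx
  have hf := hcm _ F.f_mem
  obtain ⟨M, hM⟩ := exists_act_of hc ht hJ
  obtain ⟨M', -, hMM', -⟩ := hM.inv hc ht hJ
  have hcomm : mmul M mF = mmul mF M := by
    have h1 := hM.mul hc (Act.f hc)
    rw [hf] at h1
    exact h1.unique hc ((Act.f hc).mul hc hM)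
  -- no element centralising `z`, `x` and acting as `±f`
  have nof : ∀ r : G, r * F.x = F.x * r → r * d.z = d.z * r → r * F.t = F.t * r →
      r ∈ Subgroup.normalizer (d.J : Set G) → ∀ N, Act F a r N → ¬(N = mF ∨ N = mneg mF) := by
    intro r hrx hrz hrt hrJ N hN hNe
    obtain ⟨F', hF', hFF', -⟩ := (Act.f hc).inv hc (L1_t F F.f_mem) F.f_norm_J
    have h1 := hN.mul hc hF'
    have hst : (r * F.f⁻¹) * F.t = F.t * (r * F.f⁻¹) :=
      (Commute.mul_left hrt (Commute.inv_left (L1_t F F.f_mem))).eq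
    have hsz : (r * F.f⁻¹) * d.z = d.z * (r * F.f⁻¹) :=
      (Commute.mul_left hrz (Commute.inv_left (L1_z F F.f_mem))).eq
    have hsx := scalar_fix hc hst hsz h1 (by
      have hd : ∀ N : M2, mmul mF N = mI → mmul (mneg mF) N = mN := by decide +kernel
      rcases hNe with rfl | rfl
      · exact Or.inl hFF'
      · exact Or.inr (hd _ hFF'))
    apply fx_ne F
    have h2 : Commute (r⁻¹ * (r * F.f⁻¹)) F.x := (Commute.inv_left hrx).mul_left hsx
    rw [inv_mul_cancel_left] at h2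
    have h3 := h2.inv_left
    rw [inv_inv] at h3
    exact h3.eq
  have hres : M = mI ∨ M = mN := by
    rcases sq_of_comm_F M M' hMM' hcomm with h | h | h | h | h | h
    · exact Or.inl h
    · exact Or.inr h
    · exact absurd (Or.inl h) (nof m hx hz ht hJ M hM)
    · exact absurd (Or.inr h) (nof m hx hz ht hJ M hM)
    · exact absurd (Or.inl h) (nof (m * m : G) (Commute.mul_left hx hx).eq (Commute.mul_left hz hz).eq
        (Commute.mul_left ht ht).eq (mul_mem hJ hJ) _ (hM.mul hc hM))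
    · exact absurd (Or.inr h) (nof (m * m : G) (Commute.mul_left hx hx).eq (Commute.mul_left hz hz).eq
        (Commute.mul_left ht ht).eq (mul_mem hJ hJ) _ (hM.mul hc hM))
  have hDf : ∀ u ∈ Subgroup.closure ({d.z, F.x} : Set G), u * F.f = F.f * u → ∃ i : ℤ, u = d.z ^ i := by
    intro u hu hfu
    obtain ⟨i, j, rfl⟩ := mem_D F hu
    refine ⟨i, ?_⟩
    have h1 : Commute (F.x ^ j) F.f := by
      have hzf : Commute (d.z ^ i) F.f := (show Commute d.z F.f from (L1_z F F.f_mem).symm).zpow_left i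
      have h2 := hzf.inv_left.mul_left hfu
      rwa [inv_mul_cancel_left] at h2
    have h2 := conj_zpow_inv F.f_conj j
    rw [← h1.eq, mul_inv_cancel_right, eq_inv_iff_mul_eq_one] at h2
    have h3 : (F.x ^ j) ^ 3 = 1 := by
      rw [← zpow_natCast, ← zpow_mul, mul_comm, zpow_mul, zpow_natCast, x_cube F, one_zpow]
    rw [pow_succ, pow_two, h2, one_mul] at h3
    rw [h3, mul_one]
  rcases scalar_mem hc ht hz hM hres with h | h
  · obtain ⟨i, hi⟩ := hDf _ h hf
    exact ⟨i, Or.inl hi⟩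
  · obtain ⟨i, hi⟩ := hDf _ h (Commute.mul_left hf (L1_t F F.f_mem).symm).eq
    exact ⟨i, Or.inr (by rw [← hi, mul_assoc, t_sq F, mul_one])⟩

/-- An even element centralising `z` lies in `⟨z⟩ L1`. -/
theorem even_mem (hc : Coord F a) (h5 : Five F π) (m : Nt F) (hz : (m : G) * d.z = d.z * m)
    (hev : Perm.sign (π m) = 1) : ∃ i : ℤ, d.z ^ i * (m : G) ∈ F.L1 := by
  obtain ⟨b, hb, hπb⟩ := h5.onto _ hev
  have hk : π (b⁻¹ * m) = 1 := by rw [map_mul, map_inv, hπb, inv_mul_cancel]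
  have hkz : ((b⁻¹ * m : Nt F) : G) * d.z = d.z * ((b⁻¹ * m : Nt F) : G) := by
    push_cast
    exact (Commute.mul_left (Commute.inv_left (L1_z F hb)) hz).eq
  obtain ⟨i, hi⟩ := ker_cent hc h5 _ hk hkz
  push_cast at hi
  refine ⟨-i, ?_⟩
  have hbc : Commute (d.z ^ (-i)) (b : G) :=
    ((show Commute d.z (b : G) from (L1_z F hb).symm).zpow_left (-i))
  rcases hi with hi | hi <;> rw [inv_mul_eq_iff_eq_mul] at hi <;>
    rw [hi, ← mul_assoc, hbc.eq, mul_assoc]
  · rw [zpow_neg, inv_mul_cancel, mul_one]; exact hb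
  · rw [← mul_assoc (d.z ^ (-i)), zpow_neg, inv_mul_cancel, one_mul]; exact mul_mem hb F.t_mem_L1

/-- An even element centralising `z` and `x` lies in `D⟨t⟩`. -/
theorem even_fix (hc : Coord F a) (h5 : Five F π) (m : Nt F) (hz : (m : G) * d.z = d.z * m)
    (hx : (m : G) * F.x = F.x * m) (hev : Perm.sign (π m) = 1) {M : M2}
    (hM : Act F a (m : G) M) : M = mI ∨ M = mN := by
  let xx : Nt F := ⟨F.x, L1_le_Nt F F.x_mem_L1⟩
  have hxx : π xx = c0 := h5.x_val xx rfl
  have hcc : π m * c0 = c0 * π m := by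
    rw [← hxx, ← map_mul, ← map_mul]
    exact congrArg π (Subtype.ext hx)
  obtain ⟨n, hn⟩ : ∃ n : ℕ, π m = π (xx ^ n) := by
    rcases c0_cent _ hcc hev with h | h | h
    · exact ⟨0, by rw [h, pow_zero, map_one]⟩
    · exact ⟨1, by rw [h, pow_one, hxx]⟩
    · exact ⟨2, by rw [h, map_pow, hxx, pow_two]⟩
  have hk : π (m * (xx ^ n)⁻¹) = 1 := by rw [map_mul, map_inv, hn, mul_inv_cancel]
  have hkz : ((m * (xx ^ n)⁻¹ : Nt F) : G) * d.z = d.z * ((m * (xx ^ n)⁻¹ : Nt F) : G) := by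
    push_cast
    exact (Commute.mul_left hz (Commute.inv_left
      ((show Commute F.x d.z from L1_z F F.x_mem_L1).pow_left n))).eq
  obtain ⟨i, hi⟩ := ker_cent hc h5 _ hk hkz
  push_cast at hi
  have hxn : F.x ^ n ∈ d.J := pow_mem F.x_mem_J n
  rcases hi with hi | hi <;> rw [mul_inv_eq_iff_eq_mul] at hi <;> rw [hi] at hM
  · exact Or.inl (hM.unique hc (act_J hc (mul_mem (zpow_mem d.z_mem_J i) hxn)))
  · refine Or.inr (hM.unique hc ?_)
    have := ((act_J hc (zpow_mem d.z_mem_J i)).mul hc (Act.t hc)).mul hc (act_J hc hxn)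
    rwa [mI_mul, mul_mI] at this

end Cfsg.Agent.McL3SplitLoc44
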