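import Cfsg.Agent.Lib.McL3Cases39
import Cfsg.Agent.Lib.McL3SplitLoc44

/-!
The two possible normalizers of `⟨z⟩` in the centralizer of the involution.
-/

set_option autoImplicit false

namespace Cfsg.Agent.McL3Split44

open Equiv Cfsg.Agent.McL3x39 Cfsg.Agent.McL3U0Act44 Cfsg.Agent.McL3Sl25Aut44
open Cfsg.Agent.McL3SplitLoc44

variable {G : Type*} [Group G] [Finite G] {d : Data G} {F : Frame d} {a : G} {π : Nt F →* P5}

/-- The standard three cycle on three points. -/
abbrev c3 : Perm (Fin 3) := swap 0 1 * swap 1 2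

/-- The model of the centraliser of `z`. -/
noncomputable def theta : Multiplicative (ZMod 3) × P5 →* Perm (Fin 3) × P5 where
  toFun p := (c3 ^ (Multiplicative.toAdd p.1).val, p.2)
  map_one' := by simp
  map_mul' p q := by
    have hd : ∀ i j : ZMod 3, c3 ^ (i + j).val = c3 ^ i.val * c3 ^ j.val := by decide +kernel
    exact Prod.ext (hd _ _) rfl

theorem theta_injective : Function.Injective theta := by
  rintro ⟨i, s⟩ ⟨j, u⟩ h
  have hd : ∀ i j : ZMod 3, c3 ^ i.val = c3 ^ j.val → i = j := by decide +kernel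
  exact Prod.ext (Multiplicative.toAdd.injective (hd _ _ (congrArg Prod.fst h)))
    (show s = u from congrArg Prod.snd h)

theorem c3_facts : (∀ σ : Perm (Fin 3), σ * c3 * σ⁻¹ = c3⁻¹ → Perm.sign σ = -1) ∧
    (∀ σ : Perm (Fin 3), σ * c3 = c3 * σ → Perm.sign σ = 1) ∧
    (∀ σ : Perm (Fin 3), σ * c3 = c3 * σ → ∃ i : ZMod 3, σ = c3 ^ i.val) ∧
    (∀ σ : Perm (Fin 3), σ ^ 3 = 1 → σ ≠ 1 → ∃ τ : Perm (Fin 3), τ * σ * τ⁻¹ = c3) := by
  decide +kernel

/-- Two surjections with the same kernel have isomorphic images. -/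
theorem iso_of_ker {A B C : Type*} [Group A] [Group B] [Group C] (f : A →* B) (h : A →* C)
    (hf : Function.Surjective f) (hh : Function.Surjective h) (hk : f.ker = h.ker) :
    ∃ e : B ≃* C, ∀ x, e (f x) = h x := by
  let e0 : B → C := fun b => h (Function.surjInv hf b)
  have key : ∀ x, e0 (f x) = h x := fun x => by
    have : Function.surjInv hf (f x) * x⁻¹ ∈ h.ker := by
      rw [← hk, MonoidHom.mem_ker, map_mul, map_inv, Function.surjInv_eq hf, mul_inv_cancel]
    rwa [MonoidHom.mem_ker, map_mul, map_inv, mul_inv_eq_one] at this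
  let e1 : B →* C := MonoidHom.mk' e0 fun b b' => by
    obtain ⟨x, rfl⟩ := hf b
    obtain ⟨y, rfl⟩ := hf b'
    rw [← map_mul, key, key, key, map_mul]
  have hb : Function.Bijective e1 := by
    refine ⟨(injective_iff_map_eq_one e1).2 fun b hb => ?_, fun c => ?_⟩
    · obtain ⟨x, rfl⟩ := hf b
      have h1 : x ∈ h.ker := (key x).symm.trans hb
      rw [← hk] at h1
      exact h1
    · obtain ⟨x, rfl⟩ := hh c
      exact ⟨f x, key x⟩
  exact ⟨MulEquiv.ofBijective e1 hb, key⟩

theorem mem_tT_iff {u : F.toLoc.T} : u ∈ F.toLoc.tT ↔ (u : G) = 1 ∨ (u : G) = F.t := by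
  constructor
  · intro h
    obtain ⟨i, rfl⟩ := Subgroup.mem_zpowers_iff.1 h
    push_cast
    have hsq := t_sq F
    rcases Int.even_or_odd i with ⟨k, hk⟩ | ⟨k, hk⟩
    · left
      rw [hk, ← two_mul, zpow_mul, zpow_two, hsq, one_zpow]
    · right
      rw [hk, zpow_add_one, zpow_mul, zpow_two, hsq, one_zpow, one_mul]
  · rintro (h | h)
    · rw [show u = 1 from Subtype.ext h]; exact one_mem _
    · rw [show u = ⟨F.t, Subgroup.mem_centralizer_singleton_iff.2 rfl⟩ from Subtype.ext h]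
      exact Subgroup.mem_zpowers _

/-- The map to the normalizer of the image of `z`. -/
theorem exists_nu (F : Frame d) : ∃ ν : Nt F →*
      ↥(Subgroup.normalizer (Subgroup.zpowers (F.toLoc.zbar (zt F)) : Set F.toLoc.H)),
    Function.Surjective ν ∧ (∀ m, m ∈ ν.ker ↔ (m : G) = 1 ∨ (m : G) = F.t) ∧
      ∀ m : Nt F, ((ν m : _) : F.toLoc.H) =
        QuotientGroup.mk (⟨m, Subgroup.mem_centralizer_singleton_iff.2 (Nt_t F m m.2)⟩ : F.toLoc.T) := by
  let q : Nt F →* F.toLoc.H := (QuotientGroup.mk' F.toLoc.tT).comp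
    (Subgroup.inclusion (inf_le_right : Nt F ≤ F.toLoc.T))
  have hn : ∀ m : Nt F, q m ∈ Subgroup.normalizer (Subgroup.zpowers (F.toLoc.zbar (zt F)) : Set F.toLoc.H) := by
    intro m
    refine Subgroup.mem_normalizer_fintype fun u hu => ?_
    obtain ⟨k, rfl⟩ := Subgroup.mem_zpowers_iff.1 hu
    rw [← conj_zpow]
    refine zpow_mem ?_ k
    let zT : F.toLoc.T := ⟨d.z, Subgroup.mem_centralizer_singleton_iff.2 (zt F)⟩
    let mT : F.toLoc.T := Subgroup.inclusion (inf_le_right : Nt F ≤ F.toLoc.T) m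
    show QuotientGroup.mk mT * QuotientGroup.mk zT * (QuotientGroup.mk mT)⁻¹ ∈ _
    rw [← QuotientGroup.mk_mul, ← QuotientGroup.mk_inv, ← QuotientGroup.mk_mul]
    rcases ((mem_Nt F).1 m.2).1 with h | h
    · rw [show mT * zT * mT⁻¹ = zT from Subtype.ext h]
      exact Subgroup.mem_zpowers _
    · rw [show mT * zT * mT⁻¹ = zT⁻¹ from Subtype.ext h]
      exact inv_mem (Subgroup.mem_zpowers _)
  refine ⟨q.codRestrict _ hn, ?_, ?_, fun m => rfl⟩
  · rintro ⟨u, hu⟩
    obtain ⟨w, rfl⟩ := QuotientGroup.mk_surjective u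
    let zT : F.toLoc.T := ⟨d.z, Subgroup.mem_centralizer_singleton_iff.2 (zt F)⟩
    have hwt : (w : G) * F.t = F.t * (w : G) := Subgroup.mem_centralizer_singleton_iff.1 w.2
    have h1 := (Subgroup.mem_normalizer_iff.1 hu (F.toLoc.zbar (zt F))).1 (Subgroup.mem_zpowers _)
    obtain ⟨k, hk⟩ := Subgroup.mem_zpowers_iff.1 h1
    change (QuotientGroup.mk zT : F.toLoc.H) ^ k =
      QuotientGroup.mk w * QuotientGroup.mk zT * (QuotientGroup.mk w)⁻¹ at hk
    rw [← QuotientGroup.mk_zpow, ← QuotientGroup.mk_mul, ← QuotientGroup.mk_inv,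
      ← QuotientGroup.mk_mul, QuotientGroup.eq, mem_tT_iff] at hk
    have hz : (w : G) * d.z * (w : G)⁻¹ = d.z ^ k := by
      rcases hk with h | h
      · push_cast at h
        exact (inv_mul_eq_one.1 h).symm
      · push_cast at h
        rw [inv_mul_eq_iff_eq_mul] at h
        exfalso
        have h3 := congrArg (fun u => u ^ 3) h
        simp only [zT, conj_pow] at h3
        rw [z_cube, ((show Commute d.z F.t from zt F).zpow_left k).mul_pow, ← zpow_natCast (d.z ^ k),
          ← zpow_mul, mul_comm k, zpow_mul, zpow_natCast, z_cube, one_zpow, pow_succ, pow_two,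
          t_sq F, mul_one, mul_inv_cancel, one_mul] at h3
        have := F.order_t
        simp only [one_mul, mul_one] at h3
        rw [← h3, orderOf_one] at this
        omega
    refine ⟨⟨w, (mem_Nt F).2 ⟨?_, hwt⟩⟩, Subtype.ext rfl⟩
    obtain ⟨i, hi⟩ := Subgroup.mem_zpowers_iff.1
      (show (w : G) * d.z * (w : G)⁻¹ ∈ Subgroup.zpowers d.z from hz ▸ Subgroup.zpow_mem_zpowers _ _)
    rw [← hi]
    rw [← zpow_mod_orderOf, d.order_z] at hi
    rcases (by omega : i % ((3 : ℕ) : ℤ) = 0 ∨ i % ((3 : ℕ) : ℤ) = 1 ∨ i % ((3 : ℕ) : ℤ) = 2)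
      with e | e | e <;> rw [e] at hi
    · exfalso
      rw [zpow_zero] at hi
      have := d.order_z
      rw [conj_eq_one_iff.1 hi.symm, orderOf_one] at this
      omega
    · left; rw [← zpow_mod_orderOf, d.order_z, e, zpow_one]
    · right
      rw [← zpow_mod_orderOf, d.order_z, e]
      refine eq_inv_of_mul_eq_one_left ?_
      rw [← zpow_add_one]
      show d.z ^ ((3 : ℕ) : ℤ) = 1
      rw [zpow_natCast, z_cube]
  · intro m
    rw [MonoidHom.mem_ker]
    refine ⟨fun h => ?_, fun h => Subtype.ext ((QuotientGroup.eq_one_iff _).2 (mem_tT_iff.2 h))⟩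
    exact mem_tT_iff.1 ((QuotientGroup.eq_one_iff _).1 (congrArg Subtype.val h))

/-- The centraliser of `z` in the centraliser of `t`. -/
theorem card_cent_even (hc : Coord F a) (h5 : Five F π)
    (hall : ∀ m : Nt F, (m : G) * d.z = d.z * m → Perm.sign (π m) = 1) :
    Nat.card (Subgroup.centralizer ({d.z} : Set G) ⊓ Subgroup.centralizer ({F.t} : Set G) : Subgroup G) = 360 := by
  let ψ : Fin 3 × F.L1 →
      (Subgroup.centralizer ({d.z} : Set G) ⊓ Subgroup.centralizer ({F.t} : Set G) : Subgroup G) :=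
    fun p => ⟨d.z ^ (p.1 : ℕ) * p.2, ⟨mul_mem (pow_mem (Subgroup.mem_centralizer_singleton_iff.2 rfl) _)
      (Subgroup.mem_centralizer_singleton_iff.2 (L1_z F p.2.2)),
      mul_mem (pow_mem (Subgroup.mem_centralizer_singleton_iff.2 (zt F)) _)
      (Subgroup.mem_centralizer_singleton_iff.2 (L1_t F p.2.2))⟩⟩
  obtain ⟨e1⟩ := F.eL1
  have hpow : ∀ n : ℕ, d.z ^ n ∈ F.L1 → 3 ∣ n := by
    intro n hn
    by_contra h3
    refine F.z_notMem ?_
    rw [pow_eq_pow_mod n (z_cube (d := d))] at hn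
    rcases (by omega : n % 3 = 1 ∨ n % 3 = 2) with e | e <;> rw [e] at hn
    · rwa [pow_one] at hn
    · have h4 := mul_mem hn hn
      rwa [← pow_add, pow_succ, z_cube, one_mul] at h4
  have hb : Function.Bijective ψ := by
    constructor
    · rintro ⟨i, b⟩ ⟨j, b'⟩ h
      have h' : d.z ^ (i : ℕ) * (b : G) = d.z ^ (j : ℕ) * b' := congrArg Subtype.val h
      have hij : d.z ^ ((i : ℕ) + (3 - (j : ℕ))) * (b : G) = b' := by
        rw [Nat.add_comm, pow_add, mul_assoc, h', ← mul_assoc, ← pow_add,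
          show 3 - (j : ℕ) + (j : ℕ) = 3 by omega, z_cube, one_mul]
      have hd := hpow _ (show d.z ^ ((i : ℕ) + (3 - (j : ℕ))) ∈ F.L1 by
        rw [eq_mul_inv_of_mul_eq hij]; exact mul_mem b'.2 (inv_mem b.2))
      have : i = j := Fin.ext (by omega)
      subst this
      exact Prod.ext rfl (Subtype.ext (mul_left_cancel h'))
    · rintro ⟨m, hm⟩
      obtain ⟨hmz, hmt⟩ := Subgroup.mem_inf.1 hm
      rw [Subgroup.mem_centralizer_singleton_iff] at hmz hmt
      have hmN := mem_Nt_of_cent F hmz hmt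
      obtain ⟨i, hi⟩ := even_mem hc h5 ⟨m, hmN⟩ hmz (hall _ hmz)
      obtain ⟨j, hj⟩ : ∃ j : Fin 3, d.z ^ (-i) = d.z ^ (j : ℕ) := by
        refine ⟨⟨((-i) % ((3 : ℕ) : ℤ)).toNat, by omega⟩, ?_⟩
        rw [← zpow_mod_orderOf, d.order_z, ← zpow_natCast d.z]
        congr 1
        exact (Int.toNat_of_nonneg (Int.emod_nonneg _ (by norm_num))).symm
      refine ⟨(j, ⟨_, hi⟩), Subtype.ext ?_⟩
      show d.z ^ (j : ℕ) * (d.z ^ i * m) = m
      rw [← hj, zpow_neg, inv_mul_cancel_left]
  rw [← Nat.card_eq_of_bijective ψ hb, Nat.card_prod, Nat.card_fin, McL3Sl25Aut44.card_of_iso e1]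

theorem card_cent_odd (hc : Coord F a) (h5 : Five F π) {e : Nt F} (hez : (e : G) * d.z = d.z * e)
    (heo : Perm.sign (π e) = -1) :
    Nat.card (Subgroup.centralizer ({d.z} : Set G) ⊓ Subgroup.centralizer ({F.t} : Set G) : Subgroup G) = 720 := by
  classical
  set M := Subgroup.centralizer ({d.z} : Set G) ⊓ Subgroup.centralizer ({F.t} : Set G)
  have hle : M ≤ Nt F := fun m hm => mem_Nt_of_cent F
    (Subgroup.mem_centralizer_singleton_iff.1 hm.1) (Subgroup.mem_centralizer_singleton_iff.1 hm.2)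
  let χ : M →* ℤˣ := Perm.sign.comp (π.comp (Subgroup.inclusion hle))
  have heM : (e : G) ∈ M := ⟨Subgroup.mem_centralizer_singleton_iff.2 hez,
    Subgroup.mem_centralizer_singleton_iff.2 (Nt_t F e e.2)⟩
  have hs : Function.Surjective χ := by
    intro u
    rcases Int.units_eq_one_or u with rfl | rfl
    · exact ⟨1, map_one χ⟩
    · exact ⟨⟨e, heM⟩, heo⟩
  have hk : Nat.card χ.ker = 360 := by
    let ψ : Fin 3 × F.L1 → χ.ker := fun p => ⟨⟨d.z ^ (p.1 : ℕ) * p.2,
      ⟨mul_mem (pow_mem (Subgroup.mem_centralizer_singleton_iff.2 rfl) _)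
        (Subgroup.mem_centralizer_singleton_iff.2 (L1_z F p.2.2)),
      mul_mem (pow_mem (Subgroup.mem_centralizer_singleton_iff.2 (zt F)) _)
        (Subgroup.mem_centralizer_singleton_iff.2 (L1_t F p.2.2))⟩⟩, by
      rw [MonoidHom.mem_ker]
      have he : ∀ hm : d.z ^ (p.1 : ℕ) * (p.2 : G) ∈ M, Subgroup.inclusion hle ⟨_, hm⟩ =
          (⟨d.z, z_mem_Nt F⟩ : Nt F) ^ (p.1 : ℕ) * ⟨p.2, L1_le_Nt F p.2.2⟩ :=
        fun _ => Subtype.ext (by push_cast; rfl)
      show Perm.sign (π _) = 1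
      refine (congrArg (fun u => Perm.sign (π u)) (he _)).trans ?_
      rw [map_mul, map_mul, map_pow, map_pow, h5.z_val _ rfl, map_one, one_pow, one_mul,
        h5.even _ p.2.2]⟩
    obtain ⟨e1⟩ := F.eL1
    have hb : Function.Bijective ψ := by
      constructor
      · rintro ⟨i, b⟩ ⟨j, b'⟩ h
        have h' : d.z ^ (i : ℕ) * (b : G) = d.z ^ (j : ℕ) * b' :=
          congrArg (fun u : χ.ker => ((u : M) : G)) h
        have hij : d.z ^ ((i : ℕ) + (3 - (j : ℕ))) * (b : G) = b' := by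
          rw [Nat.add_comm, pow_add, mul_assoc, h', ← mul_assoc, ← pow_add,
            show 3 - (j : ℕ) + (j : ℕ) = 3 by omega, z_cube, one_mul]
        have hmem : d.z ^ ((i : ℕ) + (3 - (j : ℕ))) ∈ F.L1 := by
          rw [eq_mul_inv_of_mul_eq hij]; exact mul_mem b'.2 (inv_mem b.2)
        have hd : 3 ∣ (i : ℕ) + (3 - (j : ℕ)) := by
          by_contra h3
          refine F.z_notMem ?_
          rw [pow_eq_pow_mod _ (z_cube (d := d))] at hmem
          rcases (by omega : ((i : ℕ) + (3 - (j : ℕ))) % 3 = 1 ∨ ((i : ℕ) + (3 - (j : ℕ))) % 3 = 2)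
            with e | e <;> rw [e] at hmem
          · rwa [pow_one] at hmem
          · have h4 := mul_mem hmem hmem
            rwa [← pow_add, pow_succ, z_cube, one_mul] at h4
        have : i = j := Fin.ext (by omega)
        subst this
        exact Prod.ext rfl (Subtype.ext (mul_left_cancel h'))
      · rintro ⟨⟨m, hm⟩, hχ⟩
        obtain ⟨hmz, hmt⟩ := Subgroup.mem_inf.1 hm
        rw [Subgroup.mem_centralizer_singleton_iff] at hmz hmt
        obtain ⟨i, hi⟩ := even_mem hc h5 ⟨m, hle hm⟩ hmz hχ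
        obtain ⟨j, hj⟩ : ∃ j : Fin 3, d.z ^ (-i) = d.z ^ (j : ℕ) := by
          refine ⟨⟨((-i) % ((3 : ℕ) : ℤ)).toNat, by omega⟩, ?_⟩
          rw [← zpow_mod_orderOf, d.order_z, ← zpow_natCast d.z]
          congr 1
          exact (Int.toNat_of_nonneg (Int.emod_nonneg _ (by norm_num))).symm
        refine ⟨(j, ⟨_, hi⟩), Subtype.ext (Subtype.ext ?_)⟩
        show d.z ^ (j : ℕ) * (d.z ^ i * m) = m
        rw [← hj, zpow_neg, inv_mul_cancel_left]
    rw [← Nat.card_eq_of_bijective ψ hb, Nat.card_prod, Nat.card_fin, McL3Sl25Aut44.card_of_iso e1]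
  have h1 := χ.ker.card_mul_index
  rw [Subgroup.index_ker, MonoidHom.range_eq_top.2 hs, Subgroup.card_top,
    show Nat.card ℤˣ = 2 by simp, hk] at h1
  rw [← h1]

theorem card_Nt (F : Frame d) : Nat.card (Nt F) = 2 * Nat.card
    (Subgroup.centralizer ({d.z} : Set G) ⊓ Subgroup.centralizer ({F.t} : Set G) : Subgroup G) := by
  classical
  set M := Subgroup.centralizer ({d.z} : Set G) ⊓ Subgroup.centralizer ({F.t} : Set G)
  have hM : ∀ {m : G}, m ∈ M ↔ m * d.z = d.z * m ∧ m * F.t = F.t * m := by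
    intro m
    rw [Subgroup.mem_inf, Subgroup.mem_centralizer_singleton_iff, Subgroup.mem_centralizer_singleton_iff]
  let ψ : M ⊕ M → Nt F := Sum.elim
    (fun m => ⟨m, mem_Nt_of_cent F (hM.1 m.2).1 (hM.1 m.2).2⟩)
    (fun m => ⟨F.g * m, mul_mem (g_mem_Nt F) (mem_Nt_of_cent F (hM.1 m.2).1 (hM.1 m.2).2)⟩)
  have hg : ¬ (F.g * d.z = d.z * F.g) := by
    intro h
    have h1 := F.g_z
    rw [h, mul_inv_cancel_right] at h1
    exact z_ne_inv h1
  have hb : Function.Bijective ψ := by
    constructor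
    · rintro (m | m) (m' | m') h <;> have h' := congrArg Subtype.val h <;> simp only [ψ, Sum.elim_inl,
        Sum.elim_inr] at h'
      · exact congrArg Sum.inl (Subtype.ext h')
      · exfalso
        apply hg
        have hgm : F.g = (m : G) * (m' : G)⁻¹ := by rw [h', mul_inv_cancel_right]
        rw [hgm]
        exact ((Commute.mul_left (hM.1 m.2).1 (Commute.inv_left (hM.1 m'.2).1))).eq
      · exfalso
        apply hg
        have hgm : F.g = (m' : G) * (m : G)⁻¹ := by rw [← h', mul_inv_cancel_right]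
        rw [hgm]
        exact ((Commute.mul_left (hM.1 m'.2).1 (Commute.inv_left (hM.1 m.2).1))).eq
      · exact congrArg Sum.inr (Subtype.ext (mul_left_cancel h'))
    · rintro ⟨m, hm⟩
      obtain ⟨hz, ht⟩ := (mem_Nt F).1 hm
      rcases hz with hz | hz
      · exact ⟨Sum.inl ⟨m, hM.2 ⟨mul_inv_eq_iff_eq_mul.1 hz, ht⟩⟩, rfl⟩
      · refine ⟨Sum.inr ⟨F.g⁻¹ * m, hM.2 ⟨?_, ?_⟩⟩, Subtype.ext (mul_inv_cancel_left _ _)⟩
        · have : F.g⁻¹ * m * d.z * (F.g⁻¹ * m)⁻¹ = d.z := by
            calc F.g⁻¹ * m * d.z * (F.g⁻¹ * m)⁻¹ = F.g⁻¹ * (m * d.z * m⁻¹) * F.g := by group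
              _ = F.g⁻¹ * d.z⁻¹ * F.g := by rw [hz]
              _ = (F.g⁻¹ * d.z * F.g)⁻¹ := by group
              _ = d.z := by rw [conj_back F.g_z, inv_inv]
          exact mul_inv_eq_iff_eq_mul.1 this
        · exact (Commute.mul_left (Commute.inv_left F.g_comm) ht).eq
  rw [← Nat.card_eq_of_bijective ψ hb, Nat.card_sum]
  omega

/-- The action on three points. -/
theorem exists_three (F : Frame d)
    (h : Nat.card (Subgroup.centralizer ({d.z} : Set G) ⊓ Subgroup.centralizer ({F.t} : Set G) : Subgroup G) ∣ 720) :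
    ∃ π₁ : Nt F →* Perm (Fin 3), (∀ m : Nt F, (m : G) ∈ F.L1 → π₁ m = 1) ∧
      ∀ m : Nt F, (m : G) = d.z → π₁ m = c3 := by
  classical
  haveI : Fact (Nat.Prime 2) := ⟨Nat.prime_two⟩
  let L : Subgroup (Nt F) := F.L1.subgroupOf (Nt F)
  haveI : L.Normal := ⟨fun b hb m => by
    show ((m * b * m⁻¹ : Nt F) : G) ∈ F.L1
    push_cast
    exact (Subgroup.mem_normalizer_iff.1 (Nt_le F m.2) _).1 hb⟩
  let zz : Nt F := ⟨d.z, z_mem_Nt F⟩
  let zq : Nt F ⧸ L := QuotientGroup.mk zz
  have hz3 : zq ^ 3 = 1 := by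
    rw [← QuotientGroup.mk_pow, show zz ^ 3 = 1 from Subtype.ext (z_cube (d := d)), QuotientGroup.mk_one]
  have hz1 : zq ≠ 1 := fun e => F.z_notMem ((QuotientGroup.eq_one_iff zz).1 e)
  obtain ⟨e1⟩ := F.eL1
  have hcard : Nat.card (Nt F ⧸ L) ∣ 12 := by
    have h1 := Subgroup.card_eq_card_quotient_mul_card_subgroup L
    rw [card_Nt, Nat.card_congr (Subgroup.subgroupOfEquivOfLe (L1_le_Nt F)).toEquiv,
      McL3Sl25Aut44.card_of_iso e1] at h1
    have h2 : Nat.card (Nt F ⧸ L) * 120 ∣ 12 * 120 := by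
      rw [← h1]
      exact (Nat.mul_dvd_mul_left 2 h).trans (by norm_num)
    exact Nat.dvd_of_mul_dvd_mul_right (by norm_num) h2
  obtain ⟨U⟩ : Nonempty (Sylow 2 (Nt F ⧸ L)) := inferInstance
  have hzU : zq ∉ (U : Subgroup (Nt F ⧸ L)) := by
    intro hm
    obtain ⟨k, hk⟩ := U.2 ⟨zq, hm⟩
    have hk' : zq ^ 2 ^ k = 1 := congrArg Subtype.val hk
    have h1 := pow_gcd_eq_one.2 ⟨hk', hz3⟩
    rw [Nat.Coprime.gcd_eq_one (Nat.Coprime.pow_left k (by norm_num)), pow_one] at h1
    exact hz1 h1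
  have hidx : (U : Subgroup (Nt F ⧸ L)).index = 3 := by
    have hd : (U : Subgroup (Nt F ⧸ L)).index ∣ 12 := (Subgroup.index_dvd_card _).trans hcard
    have h2 : ¬ 2 ∣ (U : Subgroup (Nt F ⧸ L)).index := U.not_dvd_index
    have h1 : (U : Subgroup (Nt F ⧸ L)).index ≠ 1 := fun e =>
      hzU ((Subgroup.index_eq_one.1 e).symm ▸ Subgroup.mem_top _)
    have := Nat.le_of_dvd (by norm_num) hd
    interval_cases hi : (U : Subgroup (Nt F ⧸ L)).index <;> omega
  haveI := Fintype.ofFinite ((Nt F ⧸ L) ⧸ (U : Subgroup (Nt F ⧸ L)))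
  have h3 : Fintype.card ((Nt F ⧸ L) ⧸ (U : Subgroup (Nt F ⧸ L))) = 3 := by
    rw [← Nat.card_eq_fintype_card, ← Subgroup.index_eq_card, hidx]
  let act : (Nt F ⧸ L) →* Perm (Fin 3) :=
    (Fintype.equivFinOfCardEq h3).permCongrHom.toMonoidHom.comp
      (MulAction.toPermHom (Nt F ⧸ L) ((Nt F ⧸ L) ⧸ (U : Subgroup (Nt F ⧸ L))))
  have ha1 : act zq ≠ 1 := by
    intro e
    apply hzU
    have h1 : MulAction.toPermHom (Nt F ⧸ L) ((Nt F ⧸ L) ⧸ (U : Subgroup (Nt F ⧸ L))) zq = 1 :=
      (Fintype.equivFinOfCardEq h3).permCongrHom.injective (e.trans (map_one _).symm)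
    have h2 := Equiv.congr_fun h1 (QuotientGroup.mk 1)
    change (QuotientGroup.mk (zq * 1) : (Nt F ⧸ L) ⧸ (U : Subgroup (Nt F ⧸ L))) = QuotientGroup.mk 1 at h2
    rw [mul_one, QuotientGroup.eq, mul_one] at h2
    exact inv_mem_iff.1 h2
  obtain ⟨τ, hτ⟩ := c3_facts.2.2.2 (act zq) (by rw [← map_pow, hz3, map_one]) ha1
  refine ⟨(MulAut.conj τ).toMonoidHom.comp (act.comp (QuotientGroup.mk' L)), fun m hm => ?_, fun m hm => ?_⟩
  · show τ * act (QuotientGroup.mk m) * τ⁻¹ = 1
    rw [show (QuotientGroup.mk m : Nt F ⧸ L) = 1 from (QuotientGroup.eq_one_iff m).2 hm, map_one,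
      mul_one, mul_inv_cancel]
  · show τ * act (QuotientGroup.mk m) * τ⁻¹ = c3
    rw [show m = zz from Subtype.ext hm]
    exact hτ

theorem sign_three {π₁ : Nt F →* Perm (Fin 3)} (hz : ∀ m : Nt F, (m : G) = d.z → π₁ m = c3)
    (m : Nt F) :
    ((m : G) * d.z = d.z * m → Perm.sign (π₁ m) = 1) ∧
      ((m : G) * d.z * (m : G)⁻¹ = d.z⁻¹ → Perm.sign (π₁ m) = -1) := by
  let zz : Nt F := ⟨d.z, z_mem_Nt F⟩
  constructor <;> intro h
  · refine c3_facts.2.1 _ ?_
    rw [← hz zz rfl, ← map_mul, ← map_mul]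
    exact congrArg π₁ (Subtype.ext h)
  · refine c3_facts.1 _ ?_
    rw [← hz zz rfl, ← map_inv, ← map_mul, ← map_mul, ← map_inv]
    exact congrArg π₁ (Subtype.ext h)

/-- The kernel of the action on three and five points. -/
theorem prod_ker (hc : Coord F a) (h5 : Five F π) {π₁ : Nt F →* Perm (Fin 3)}
    (hL : ∀ m : Nt F, (m : G) ∈ F.L1 → π₁ m = 1) (hz : ∀ m : Nt F, (m : G) = d.z → π₁ m = c3)
    (m : Nt F) : (π₁.prod π) m = 1 ↔ (m : G) = 1 ∨ (m : G) = F.t := by
  constructor
  · intro h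
    have h1 : π₁ m = 1 := congrArg Prod.fst h
    have h2 : π m = 1 := congrArg Prod.snd h
    have hmz : (m : G) * d.z = d.z * m := by
      rcases ((mem_Nt F).1 m.2).1 with e | e
      · exact mul_inv_eq_iff_eq_mul.1 e
      · have := (sign_three hz m).2 e
        rw [h1, map_one] at this
        exact absurd this (by decide)
    obtain ⟨i, hi⟩ := ker_cent hc h5 m h2 hmz
    let zz : Nt F := ⟨d.z, z_mem_Nt F⟩
    have hzi : d.z ^ i = 1 := by
      obtain ⟨j, hj⟩ : ∃ j : Fin 3, d.z ^ i = d.z ^ (j : ℕ) := by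
        refine ⟨⟨(i % ((3 : ℕ) : ℤ)).toNat, by omega⟩, ?_⟩
        rw [← zpow_mod_orderOf, d.order_z, ← zpow_natCast d.z]
        congr 1
        exact (Int.toNat_of_nonneg (Int.emod_nonneg _ (by norm_num))).symm
      have hπz : π₁ zz ^ (j : ℕ) = 1 := by
        rw [← map_pow]
        rcases hi with hi | hi
        · rw [show zz ^ (j : ℕ) = m from Subtype.ext (by push_cast; rw [hi, hj]), h1]
        · rw [show zz ^ (j : ℕ) = m * ⟨F.t, L1_le_Nt F F.t_mem_L1⟩ from Subtype.ext (by
            push_cast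
            rw [hi, mul_assoc, t_sq F, mul_one, hj]), map_mul, h1, one_mul, hL _ F.t_mem_L1]
      rw [hz zz rfl] at hπz
      have hd : ∀ j : Fin 3, c3 ^ (j : ℕ) = 1 → j = 0 := by decide +kernel
      rw [hj, hd j hπz, Fin.val_zero, pow_zero]
    rcases hi with hi | hi <;> rw [hzi] at hi
    · exact Or.inl hi
    · exact Or.inr (by rw [hi, one_mul])
  · rintro (h | h)
    · rw [show m = 1 from Subtype.ext h, map_one]
    · exact Prod.ext (hL m (h ▸ F.t_mem_L1)) (h5.t_val m h)

theorem small (hc : Coord F a) (h5 : Five F π)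
    (hall : ∀ m : Nt F, (m : G) * d.z = d.z * m → Perm.sign (π m) = 1) : SmallCase F := by
  classical
  obtain ⟨G0, hG, hG2, -, -⟩ := g_act hc
  let gg : Nt F := ⟨F.g, g_mem_Nt F⟩
  have hgo : Perm.sign (π gg) = -1 := by
    rcases Int.units_eq_one_or (Perm.sign (π gg)) with hev | h
    swap
    · exact h
    exfalso
    obtain ⟨b, hb, hπb⟩ := h5.onto _ hev
    set k : Nt F := b⁻¹ * gg
    have hπk : π k = 1 := by rw [map_mul, map_inv, hπb, inv_mul_cancel]
    have hkc := h5.ker k hπk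
    have hkt := Nt_t F k k.2
    have hkx := hkc _ F.x_mem_L1
    have hkJ := normJ_fix F k.2 hkx
    have hkf := hkc _ F.f_mem
    have hkz : (k : G) * d.z * (k : G)⁻¹ = d.z⁻¹ := by
      have hbz : (b : G)⁻¹ * d.z⁻¹ * (b : G) = d.z⁻¹ := by
        rw [mul_assoc, ← (Commute.inv_right (L1_z F hb)).eq, inv_mul_cancel_left]
      calc (k : G) * d.z * (k : G)⁻¹ = (b : G)⁻¹ * (F.g * d.z * F.g⁻¹) * b := by
            simp [k, gg, mul_assoc]
        _ = d.z⁻¹ := by rw [F.g_z, hbz]
    obtain ⟨M, hM⟩ := exists_act_of hc hkt hkJ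
    obtain ⟨M', hM', hMM', -⟩ := hM.inv hc hkt hkJ
    have hcomm : mmul M mF = mmul mF M := by
      have h1 := hM.mul hc (Act.f hc)
      rw [hkf] at h1
      exact h1.unique hc ((Act.f hc).mul hc hM)
    -- `k` is neither scalar nor a square root of `±f`
    have hkk : ∀ N, Act F a ((k : G) * k) N → ¬(N = mF ∨ N = mneg mF) := by
      intro N hN hNe
      have hz2 : ((k * k : Nt F) : G) * d.z = d.z * ((k * k : Nt F) : G) := by
        push_cast
        refine mul_inv_eq_iff_eq_mul.1 ?_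
        calc (k : G) * k * d.z * ((k : G) * k)⁻¹ = (k : G) * ((k : G) * d.z * (k : G)⁻¹) * (k : G)⁻¹ := by group
          _ = (k : G) * d.z⁻¹ * (k : G)⁻¹ := by rw [hkz]
          _ = ((k : G) * d.z * (k : G)⁻¹)⁻¹ := by group
          _ = d.z := by rw [hkz, inv_inv]
      have hres := even_fix hc h5 (k * k) hz2 (Commute.mul_left hkx hkx).eq
        (by rw [map_mul, hπk, one_mul, map_one]) (by push_cast; exact hN)
      rcases hNe with rfl | rfl <;> exact absurd hres (by decide +kernel)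
    obtain ⟨F', hF', hFF', -⟩ := (Act.f hc).inv hc (L1_t F F.f_mem) F.f_norm_J
    have hcases : M = mF ∨ M = mneg mF := by
      rcases sq_of_comm_F M M' hMM' hcomm with h | h | h | h | h | h
      · exact (kill_of hc hkJ hkt hkz hkx hM (Or.inl h)).elim
      · exact (kill_of hc hkJ hkt hkz hkx hM (Or.inr h)).elim
      · exact Or.inl h
      · exact Or.inr h
      · exact absurd (Or.inl h) (hkk _ (hM.mul hc hM))
      · exact absurd (Or.inr h) (hkk _ (hM.mul hc hM))
    -- `r = k f⁻¹ g` centralises `z` and `x` and acts as `±g`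
    let ff : Nt F := ⟨F.f, L1_le_Nt F F.f_mem⟩
    set r : Nt F := k * ff⁻¹ * gg
    have hfz : F.f⁻¹ * d.z⁻¹ * F.f = d.z⁻¹ := by
      rw [mul_assoc, ← (Commute.inv_right (L1_z F F.f_mem)).eq, inv_mul_cancel_left]
    have hrz : (r : G) * d.z = d.z * r := by
      refine mul_inv_eq_iff_eq_mul.1 ?_
      calc (r : G) * d.z * (r : G)⁻¹
          = (k : G) * (F.f⁻¹ * (F.g * d.z * F.g⁻¹) * F.f) * (k : G)⁻¹ := by
            simp [r, ff, gg, mul_assoc]
        _ = ((k : G) * d.z * (k : G)⁻¹)⁻¹ := by rw [F.g_z, hfz]; group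
        _ = d.z := by rw [hkz, inv_inv]
    have hrx : (r : G) * F.x = F.x * r := by
      refine mul_inv_eq_iff_eq_mul.1 ?_
      calc (r : G) * F.x * (r : G)⁻¹
          = (k : G) * (F.f⁻¹ * (F.g * F.x * F.g⁻¹) * F.f) * (k : G)⁻¹ := by
            simp [r, ff, gg, mul_assoc]
        _ = (k : G) * (F.f⁻¹ * F.x * F.f)⁻¹ * (k : G)⁻¹ := by rw [F.g_x]; group
        _ = (k : G) * F.x * (k : G)⁻¹ := by rw [conj_back F.f_conj, inv_inv]
        _ = F.x := by rw [hkx, mul_inv_cancel_right]
    have hA : Act F a (r : G) (mmul (mmul M F') G0) := by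
      have := (hM.mul hc hF').mul hc hG
      simpa [r, ff, gg] using this
    have hd : ∀ M F' G0 : M2, (M = mF ∨ M = mneg mF) → mmul mF F' = mI → mmul G0 G0 = mN →
        mmul (mmul M F') G0 ≠ mI ∧ mmul (mmul M F') G0 ≠ mN := by
      intro M F' G0 hM hF hG
      have h1 : mmul M F' = mI ∨ mmul M F' = mN := by
        rcases hM with rfl | rfl
        · exact Or.inl hF
        · right
          rw [mneg, mmul_assoc, hF, mul_mI]
      rcases h1 with e | e <;> rw [e]
      · rw [mI_mul]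
        constructor <;> rintro rfl <;> exact absurd hG (by decide +kernel)
      · have h2 : ∀ N : M2, mmul mN N = mI ∨ mmul mN N = mN → N = mN ∨ N = mI := by decide +kernel
        constructor <;> intro e' <;>
          rcases h2 G0 (by first | exact Or.inl e' | exact Or.inr e') with rfl | rfl <;>
          exact absurd hG (by decide +kernel)
    rcases even_fix hc h5 r hrz hrx (hall r hrz) hA with h | h
    · exact (hd M F' G0 hcases hFF' hG2).1 h
    · exact (hd M F' G0 hcases hFF' hG2).2 h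
  have hcard := card_cent_even hc h5 hall
  obtain ⟨π₁, hL, hzv⟩ := exists_three F (by rw [hcard]; norm_num)
  obtain ⟨ν, hνs, hνk, -⟩ := exists_nu F
  have hev : ∀ m : Nt F, (π₁.prod π) m ∈ EvenPair := by
    intro m
    show Perm.sign (π₁ m) * Perm.sign (π m) = 1
    rcases ((mem_Nt F).1 m.2).1 with e | e
    · have e' := mul_inv_eq_iff_eq_mul.1 e
      rw [(sign_three hzv m).1 e', hall m e', one_mul]
    · rw [(sign_three hzv m).2 e]
      have hgm : ((gg⁻¹ * m : Nt F) : G) * d.z = d.z * ((gg⁻¹ * m : Nt F) : G) := by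
        refine mul_inv_eq_iff_eq_mul.1 ?_
        calc ((gg⁻¹ * m : Nt F) : G) * d.z * ((gg⁻¹ * m : Nt F) : G)⁻¹
            = F.g⁻¹ * ((m : G) * d.z * (m : G)⁻¹) * F.g := by simp [gg, mul_assoc]
          _ = (F.g⁻¹ * d.z * F.g)⁻¹ := by rw [e]; group
          _ = d.z := by rw [conj_back F.g_z, inv_inv]
      have h1 := hall _ hgm
      rw [map_mul, map_inv, map_mul, map_inv, hgo, inv_mul_eq_one] at h1
      rw [← h1]
      decide
  let Φ : Nt F →* EvenPair := (π₁.prod π).codRestrict _ hev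
  have hΦk : Φ.ker = ν.ker := by
    ext m
    rw [hνk, ← prod_ker hc h5 hL hzv, MonoidHom.mem_ker]
    exact ⟨fun h => congrArg Subtype.val h, fun h => Subtype.ext h⟩
  have hk2 : Nat.card Φ.ker = 2 := by
    have htne : (⟨F.t, L1_le_Nt F F.t_mem_L1⟩ : Nt F) ≠ 1 := fun h => by
      have := F.order_t
      rw [show F.t = 1 from congrArg Subtype.val h, orderOf_one] at this
      omega
    have hmem : (⟨F.t, L1_le_Nt F F.t_mem_L1⟩ : Nt F) ∈ Φ.ker := by
      rw [hΦk, hνk]; exact Or.inr rfl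
    refine Nat.card_eq_two_iff.2 ⟨1, ⟨_, hmem⟩, fun h => htne (congrArg Subtype.val h).symm, ?_⟩
    ext ⟨m, hm⟩
    simp only [Set.mem_insert_iff, Set.mem_singleton_iff, Set.mem_univ, iff_true]
    rw [hΦk, hνk] at hm
    rcases hm with h | h
    · exact Or.inl (Subtype.ext (Subtype.ext h))
    · exact Or.inr (Subtype.ext (Subtype.ext h))
  have hEP : Nat.card EvenPair = 360 := by
    have h1 := EvenPair.card_mul_index
    rw [Nat.card_prod, Nat.card_perm, Nat.card_perm, Nat.card_fin, Nat.card_fin,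
      show EvenPair.index = Nat.card ((Perm.sign.comp (MonoidHom.fst (Perm (Fin 3)) P5)) *
        (Perm.sign.comp (MonoidHom.snd (Perm (Fin 3)) P5))).range from Subgroup.index_ker _] at h1
    have hr : ((Perm.sign.comp (MonoidHom.fst (Perm (Fin 3)) P5)) *
        (Perm.sign.comp (MonoidHom.snd (Perm (Fin 3)) P5))).range = ⊤ := by
      refine MonoidHom.range_eq_top.2 fun u => ?_
      rcases Int.units_eq_one_or u with rfl | rfl
      · exact ⟨1, map_one _⟩
      · exact ⟨(swap 0 1, 1), by simp⟩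
    rw [hr, Subgroup.card_top, show Nat.card ℤˣ = 2 by simp] at h1
    have : Nat.factorial 3 * Nat.factorial 5 = 720 := by decide
    omega
  have hsurj : Function.Surjective Φ := by
    have h1 := Φ.ker.card_mul_index
    rw [hk2, Subgroup.index_ker, card_Nt, hcard] at h1
    exact MonoidHom.range_eq_top.1 (Subgroup.eq_top_of_card_eq _ (by rw [hEP]; omega))
  obtain ⟨e, -⟩ := iso_of_ker ν Φ hνs hsurj hΦk.symm
  exact ⟨zt F, hcard, ⟨e⟩⟩

theorem exists_e (hc : Coord F a) (h5 : Five F π) (m : Nt F) (hmz : (m : G) * d.z = d.z * m)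
    (hmo : Perm.sign (π m) = -1) :
    ∃ e : Nt F, (e : G) * d.z = d.z * e ∧ Perm.sign (π e) = -1 ∧ (e : G) * F.x = F.x * e ∧
      (e : G) ∈ Subgroup.normalizer (d.J : Set G) ∧ (e : G) * e = F.t ∧
      (e : G) * F.g = F.g * e ∧ F.n * (e : G) * F.n⁻¹ = (e : G)⁻¹ := by
  classical
  obtain ⟨G0, hG, hG2, hGF, hGF'⟩ := g_act hc
  -- an odd element fixing `x`
  obtain ⟨b, hb, hπb⟩ := h5.onto (swap 3 4 * (π m)⁻¹) (by
    rw [map_mul, map_inv, c0_swap.2.1, hmo]; decide)
  set r : Nt F := b * m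
  have hπr : π r = swap 3 4 := by rw [map_mul, hπb, inv_mul_cancel_right]
  have hrodd : Perm.sign (π r) = -1 := hπr ▸ c0_swap.2.1
  have hrz : (r : G) * d.z = d.z * r := (Commute.mul_left (L1_z F hb) hmz).eq
  have hrt := Nt_t F r r.2
  let xx : Nt F := ⟨F.x, L1_le_Nt F F.x_mem_L1⟩
  have hrx : (r : G) * F.x = F.x * r := by
    have hL : ((r * xx * r⁻¹ * xx⁻¹ : Nt F) : G) ∈ F.L1 := by
      push_cast
      exact mul_mem ((Subgroup.mem_normalizer_iff.1 (Nt_le F r.2) F.x).1 F.x_mem_L1)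
        (inv_mem F.x_mem_L1)
    have h1 : π (r * xx * r⁻¹ * xx⁻¹) = 1 := by
      rw [map_mul, map_mul, map_mul, map_inv, map_inv, hπr, h5.x_val xx rfl, c0_swap.1,
        mul_inv_cancel_right, mul_inv_cancel]
    have h2 := h5.ker_L1 _ hL h1
    push_cast at h2
    rcases h2 with h2 | h2
    · exact mul_inv_eq_iff_eq_mul.1 (mul_inv_eq_one.1 h2)
    · exfalso
      rw [mul_inv_eq_iff_eq_mul] at h2
      have h3 := congrArg (fun u => u ^ 3) h2
      simp only [conj_pow] at h3
      rw [show (xx : G) = F.x from rfl, x_cube F,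
        (show Commute F.t F.x from (L1_t F F.x_mem_L1).symm).mul_pow, x_cube F, pow_succ, pow_two,
        t_sq F, mul_one, mul_inv_cancel, one_mul] at h3
      have := F.order_t
      simp only [one_mul, mul_one] at h3
      rw [← h3, orderOf_one] at this
      omega
  have hrJ := normJ_fix F r.2 hrx
  obtain ⟨M, hM⟩ := exists_act_of hc hrt hrJ
  obtain ⟨M', hM', hMM', hM'M⟩ := hM.inv hc hrt hrJ
  have hgJ : F.g ∈ Subgroup.normalizer (d.J : Set G) := d.M0_le F.g_mem
  obtain ⟨F', hF', hFF', hF'F⟩ := (Act.f hc).inv hc (L1_t F F.f_mem) F.f_norm_J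
  obtain ⟨G', hG', hGG', hG'G⟩ := hG.inv hc F.g_comm hgJ
  let ff : Nt F := ⟨F.f, L1_le_Nt F F.f_mem⟩
  let gg : Nt F := ⟨F.g, g_mem_Nt F⟩
  have heven : ∀ u : Nt F, Perm.sign (π (u * r * u⁻¹ * r⁻¹)) = 1 := by
    intro u
    simp only [map_mul, map_inv, hrodd]
    rcases Int.units_eq_one_or (Perm.sign (π u)) with h | h <;> rw [h] <;> decide
  -- the conjugates of `r` by `f` and `g`
  have hcom : ∀ (u : Nt F) (N N' : M2), Act F a (u : G) N → Act F a (u : G)⁻¹ N' →
      (u : G) ∈ Subgroup.normalizer (d.J : Set G) →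
      ((u : G) * d.z * (u : G)⁻¹ = d.z ∨ (u : G) * d.z * (u : G)⁻¹ = d.z⁻¹) →
      ((u : G) * F.x * (u : G)⁻¹ = F.x⁻¹) → mmul N' N = mI →
      mmul M N = mmul N M ∨ mmul M N = mneg (mmul N M) := by
    intro u N N' hN hN' huJ huz hux hN'N
    set w : Nt F := u * r * u⁻¹ * r⁻¹
    have hwz : (w : G) * d.z = d.z * w := by
      have h1 : ∀ s : G, (r : G) * s = s * r → (u : G) * d.z * (u : G)⁻¹ = s → True := fun _ _ _ => trivial
      have hru : Commute (r : G) ((u : G)⁻¹ * d.z * u) := by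
        rcases huz with e | e
        · have : (u : G)⁻¹ * d.z * u = d.z := by
            conv_lhs => rw [← e]
            group
          rw [this]; exact hrz
        · rw [conj_back e]; exact (show Commute (r : G) d.z from hrz).inv_right
      have h2 : Commute ((u : G) * r * (u : G)⁻¹) d.z := by
        have := hru.map (MulAut.conj (u : G)).toMonoidHom
        simpa [mul_assoc] using this
      exact (Commute.mul_left h2 (Commute.inv_left hrz)).eq
    have hwx : (w : G) * F.x = F.x * w := by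
      have hru : Commute (r : G) ((u : G)⁻¹ * F.x * u) := by
        rw [conj_back hux]; exact (show Commute (r : G) F.x from hrx).inv_right
      have h2 : Commute ((u : G) * r * (u : G)⁻¹) F.x := by
        have := hru.map (MulAut.conj (u : G)).toMonoidHom
        simpa [mul_assoc] using this
      exact (Commute.mul_left h2 (Commute.inv_left hrx)).eq
    have hA : Act F a (w : G) (mmul (mmul (mmul N M) N') M') := by
      have := ((hN.mul hc hM).mul hc hN').mul hc hM'
      simpa [w] using this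
    have hε := even_fix hc h5 w hwz hwx (heven u) hA
    have key : mmul N M = mmul (mmul (mmul (mmul N M) N') M') (mmul M N) := by
      rw [← mmul_assoc, mmul_assoc (mmul (mmul N M) N') M' M, hM'M, mul_mI, mmul_assoc, hN'N,
        mul_mI]
    rcases hε with h | h <;> rw [h] at key
    · rw [mI_mul] at key
      exact Or.inl key.symm
    · refine Or.inr ?_
      rw [key, mneg, ← mmul_assoc, mN_mul_self, mI_mul]
  have hcF := hcom ff mF F' (Act.f hc) hF' F.f_norm_J
    (Or.inl (by show F.f * d.z * F.f⁻¹ = d.z; rw [L1_z F F.f_mem, mul_inv_cancel_right]))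
    F.f_conj hF'F
  have hcG := hcom gg G0 G' hG hG' hgJ (Or.inr F.g_z) F.g_x hG'G
  have hscal : ¬ (M = mI ∨ M = mN) := by
    intro h
    rcases scalar_mem hc hrt hrz hM h with hD | hD
    · obtain ⟨i, j, hij⟩ := mem_D F hD
      let zz : Nt F := ⟨d.z, z_mem_Nt F⟩
      have : r = zz ^ i * xx ^ j := Subtype.ext (by push_cast; exact hij)
      have h1 := hrodd
      rw [this, map_mul, map_zpow, map_zpow, h5.z_val zz rfl, h5.x_val xx rfl, one_zpow, one_mul,
        map_zpow, c0_swap.2.2, one_zpow] at h1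
      exact absurd h1 (by decide)
    · obtain ⟨i, j, hij⟩ := mem_D F hD
      let zz : Nt F := ⟨d.z, z_mem_Nt F⟩
      let tt : Nt F := ⟨F.t, L1_le_Nt F F.t_mem_L1⟩
      have : r * tt = zz ^ i * xx ^ j := Subtype.ext (by push_cast; exact hij)
      have h1 := congrArg (fun u => Perm.sign (π u)) this
      simp only [map_mul, map_zpow, h5.z_val zz rfl, h5.x_val xx rfl, h5.t_val tt rfl, hrodd,
        c0_swap.2.2, one_zpow, map_one, mul_one] at h1
      exact absurd h1 (by decide)
  have hMeq : M = G0 ∨ M = mneg G0 := by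
    rcases normal_V4_aux M G0 hG2 hGF hGF' hcF hcG with h | ⟨ε, hε, B, hB, hMB⟩
    · exfalso
      rw [h] at hMM'
      have hd : ∀ N : M2, mmul (0, 0, 0, 0) N ≠ mI := by decide +kernel
      exact hd _ hMM'
    · simp only [List.mem_cons, List.not_mem_nil, or_false] at hε hB
      rcases hB with hB | hB | hB | hB <;> subst hB
      · exfalso
        rw [mul_mI] at hMB
        exact hscal (hMB ▸ hε)
      · exfalso
        have hst : ((r : G) * F.f⁻¹) * F.t = F.t * ((r : G) * F.f⁻¹) :=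
          (Commute.mul_left hrt (Commute.inv_left (L1_t F F.f_mem))).eq
        have hsz : ((r : G) * F.f⁻¹) * d.z = d.z * ((r : G) * F.f⁻¹) :=
          (Commute.mul_left hrz (Commute.inv_left (L1_z F F.f_mem))).eq
        have hsx := scalar_fix hc hst hsz (hM.mul hc hF') (by
          rw [hMB, mmul_assoc, hFF', mul_mI]; exact hε)
        apply fx_ne F
        have h2 : Commute ((r : G)⁻¹ * ((r : G) * F.f⁻¹)) F.x := (Commute.inv_left hrx).mul_left hsx
        rw [inv_mul_cancel_left] at h2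
        have h3 := h2.inv_left
        rw [inv_inv] at h3
        exact h3.eq
      · rcases hε with rfl | rfl
        · exact Or.inl (by rw [hMB, mI_mul])
        · exact Or.inr hMB
      · exfalso
        set v := F.f * F.g
        have hvJ : v ∈ Subgroup.normalizer (d.J : Set G) := mul_mem F.f_norm_J hgJ
        have hvt : v * F.t = F.t * v := (Commute.mul_left (L1_t F F.f_mem) F.g_comm).eq
        have hvz : v * d.z * v⁻¹ = d.z⁻¹ := by
          rw [show v * d.z * v⁻¹ = F.f * (F.g * d.z * F.g⁻¹) * F.f⁻¹ by simp [v, mul_assoc], F.g_z,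
            (Commute.inv_right (L1_z F F.f_mem)).eq, mul_inv_cancel_right]
        have hvx : v * F.x = F.x * v := by
          refine mul_inv_eq_iff_eq_mul.1 ?_
          rw [show v * F.x * v⁻¹ = F.f * (F.g * F.x * F.g⁻¹) * F.f⁻¹ by simp [v, mul_assoc], F.g_x,
            ← conj_inv, F.f_conj, inv_inv]
        obtain ⟨V', hV', hVV', -⟩ := ((Act.f hc).mul hc hG).inv hc hvt hvJ
        refine kill_of hc (r := (r : G) * v⁻¹) (mul_mem hrJ (inv_mem hvJ))
          (Commute.mul_left hrt (Commute.inv_left hvt)).eq ?_ (Commute.mul_left hrx (Commute.inv_left hvx)).eq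
          (hM.mul hc hV') (by rw [hMB, mmul_assoc, hVV', mul_mI]; exact hε)
        have h2 : v⁻¹ * d.z * v = d.z⁻¹ := conj_back hvz
        calc (r : G) * v⁻¹ * d.z * ((r : G) * v⁻¹)⁻¹ = (r : G) * (v⁻¹ * d.z * v) * (r : G)⁻¹ := by group
          _ = d.z⁻¹ := by rw [h2, (show Commute (r : G) d.z from hrz).inv_right.eq, mul_inv_cancel_right]
  have hMsq : mmul M M = mN := by
    rcases hMeq with rfl | rfl
    · exact hG2
    · rw [mneg, mmul_assoc, ← mmul_assoc G0, mN_comm G0, mmul_assoc mN, hG2, mN_mul_self, mul_mI]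
  -- the element `e = r d` with `d = r² t`
  set tt : Nt F := ⟨F.t, L1_le_Nt F F.t_mem_L1⟩
  set dd : Nt F := r * r * tt
  have hddA : Act F a (dd : G) mI := by
    have := (hM.mul hc hM).mul hc (Act.t hc)
    rw [hMsq, mN_mul_self] at this
    simpa [dd, tt] using this
  have hrr : ((r : G) * r) * d.z = d.z * ((r : G) * r) := (Commute.mul_left hrz hrz).eq
  have hddz : (dd : G) * d.z = d.z * dd := (Commute.mul_left hrr (zt F).symm).eq
  have hddD := trivial_mem hc (Nt_t F dd dd.2) hddz hddA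
  have hddr : Commute (dd : G) (r : G) := by
    show Commute ((r : G) * r * F.t) (r : G)
    exact ((Commute.refl _).mul_left (Commute.refl _)).mul_left (show Commute F.t (r : G) from hrt.symm)
  have hdd3 : (dd : G) * dd * dd = 1 := by
    have := d.J_exp _ (D_le_J F _ hddD)
    rwa [pow_succ, pow_two] at this
  have hddo : Perm.sign (π dd) = 1 := by
    simp only [dd, map_mul, hrodd, h5.t_val tt rfl, map_one, mul_one]
    decide
  set e : Nt F := r * dd
  have hez : (e : G) * d.z = d.z * e := (Commute.mul_left hrz hddz).eq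
  have hex : (e : G) * F.x = F.x * e :=
    (Commute.mul_left hrx (d.J_comm _ (D_le_J F _ hddD) _ F.x_mem_J)).eq
  have heJ := normJ_fix F e.2 hex
  have het := Nt_t F e e.2
  have heo : Perm.sign (π e) = -1 := by rw [map_mul, map_mul, hrodd, hddo, mul_one]
  have hesq : (e : G) * e = F.t := by
    show (r : G) * dd * ((r : G) * dd) = F.t
    have h1 : (r : G) * r = (dd : G) * F.t := by
      show (r : G) * r = (r : G) * r * F.t * F.t
      rw [mul_assoc _ F.t, t_sq F, mul_one]
    rw [mul_assoc, ← mul_assoc (dd : G), hddr.eq, ← mul_assoc, ← mul_assoc, h1]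
    have hct : Commute F.t (dd : G) := (Nt_t F dd dd.2).symm
    rw [mul_assoc _ (dd : G) (dd : G), mul_assoc, (hct.mul_right hct).eq, ← mul_assoc,
      show (dd : G) * ((dd : G) * dd) = 1 by rw [← mul_assoc, hdd3], one_mul]
  have heA : Act F a (e : G) M := by
    have := hM.mul hc hddA
    rwa [mul_mI] at this
  -- recognition of `e` by its action
  have recog : ∀ e' : G, e' * d.z = d.z * e' → e' * F.t = F.t * e' → e' * e' = F.t →
      ∀ N, Act F a e' N → ∀ v : G, (v = e ∨ v = (e : G)⁻¹) → Act F a v N → e' = v := by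
    intro e' hz' ht' hsq' N hN v hv hvA
    have hvz : v * d.z = d.z * v := by
      rcases hv with rfl | rfl
      exacts [hez, (Commute.inv_left hez).eq]
    have hvx : v * F.x = F.x * v := by
      rcases hv with rfl | rfl
      exacts [hex, (Commute.inv_left hex).eq]
    have hvt : v * F.t = F.t * v := by
      rcases hv with rfl | rfl
      exacts [het, (Commute.inv_left het).eq]
    have hvJ : v ∈ Subgroup.normalizer (d.J : Set G) := by
      rcases hv with rfl | rfl
      exacts [heJ, inv_mem heJ]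
    have hvsq : v * v = F.t := by
      rcases hv with rfl | rfl
      · exact hesq
      · rw [← mul_inv_rev, hesq, inv_eq_of_mul_eq_one_right (t_sq F)]
    obtain ⟨N', hN', hNN', -⟩ := hvA.inv hc hvt hvJ
    have hD := trivial_mem hc (r := e' * v⁻¹) (Commute.mul_left ht' (Commute.inv_left hvt)).eq
      (Commute.mul_left hz' (Commute.inv_left hvz)).eq (by
        have := hN.mul hc hN'
        rwa [hNN'] at this)
    obtain ⟨i, j, hij⟩ := mem_D F hD
    set w := e' * v⁻¹
    have hwv : Commute w v := by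
      rw [hij]
      exact ((show Commute d.z v from hvz.symm).zpow_left i).mul_left
        ((show Commute F.x v from hvx.symm).zpow_left j)
    have he' : e' = w * v := (inv_mul_cancel_right _ _).symm
    have h2 : w * w * F.t = F.t := by
      rw [← hvsq, ← hwv.symm.mul_mul_mul_comm, ← he', hsq', hvsq]
    have h3 : w * w * w = 1 := by
      have := d.J_exp _ (D_le_J F _ hD)
      rwa [pow_succ, pow_two] at this
    rw [mul_eq_right.1 h2, one_mul] at h3
    rw [he', h3, one_mul]
  refine ⟨e, hez, heo, hex, heJ, hesq, ?_, ?_⟩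
  · -- `g` centralises `e`
    have hgz : Commute (F.g * (e : G) * F.g⁻¹) d.z := by
      have h1 : Commute (e : G) (F.g⁻¹ * d.z * F.g) := by
        rw [conj_back F.g_z]; exact (show Commute (e : G) d.z from hez).inv_right
      have := h1.map (MulAut.conj F.g).toMonoidHom
      simpa [mul_assoc] using this
    have hA := (hG.mul hc heA).mul hc hG'
    have hcomm : mmul (mmul G0 M) G' = M := by
      have hMG : mmul M G0 = mmul G0 M := by
        rcases hMeq with rfl | rfl
        · rfl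
        · rw [mneg, mmul_assoc, ← mmul_assoc G0, mN_comm G0, mmul_assoc]
      rw [← hMG, mmul_assoc, hGG', mul_mI]
    rw [hcomm] at hA
    have h := recog (F.g * (e : G) * F.g⁻¹) hgz.eq
      ((Commute.mul_left (Commute.mul_left F.g_comm het) (Commute.inv_left F.g_comm)).eq)
      (by rw [show F.g * (e : G) * F.g⁻¹ * (F.g * (e : G) * F.g⁻¹) = F.g * ((e : G) * e) * F.g⁻¹ by group,
        hesq, F.g_comm, mul_inv_cancel_right]) M hA e (Or.inl rfl) heA
    conv_lhs => rw [← h]
    rw [mul_assoc, inv_mul_cancel, mul_one]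
  · -- `n` inverts `e`
    have hnJ : F.n ∈ Subgroup.normalizer (d.J : Set G) := d.M0_le F.n_mem
    obtain ⟨N0, hN0⟩ := exists_act_of hc F.n_comm hnJ
    obtain ⟨N0', hN0', -, hN0'N⟩ := hN0.inv hc F.n_comm hnJ
    obtain ⟨E', hE', -, hE'E⟩ := heA.inv hc het heJ
    have hnG : mmul (mmul N0 G0) N0' = G' := by
      have h1 := (hN0.mul hc hG).mul hc hN0'
      rw [F.n_g] at h1
      exact h1.unique hc hG'
    have hconj : mmul (mmul N0 M) N0' = E' := by
      have h1 : mmul (mmul (mmul N0 M) N0') M = mI := by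
        rcases hMeq with rfl | rfl
        · rw [hnG, hG'G]
        · have hε : mmul (mmul N0 (mneg G0)) N0' = mneg G' := by
            rw [mneg, ← mmul_assoc N0, mN_comm N0, mmul_assoc mN, mmul_assoc mN, hnG]
            rfl
          rw [hε, mneg, mneg, mmul_assoc, ← mmul_assoc G', mN_comm G', mmul_assoc mN, hG'G, mul_mI,
            mN_mul_self]
      have h2 : ∀ X : M2, mmul X M = mI → X = E' := by
        intro X hX
        calc X = mmul X (mmul M E') := by
              have hME : mmul M E' = mI := by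
                have := heA.mul hc hE'
                rw [mul_inv_cancel] at this
                exact this.unique hc Act.one
              rw [hME, mul_mI]
          _ = E' := by rw [← mmul_assoc, hX, mI_mul]
      exact h2 _ h1
    have hnz : Commute (F.n * (e : G) * F.n⁻¹) d.z := by
      have h1 : Commute (e : G) (F.n⁻¹ * d.z * F.n) := by
        have : F.n⁻¹ * d.z * F.n = F.x := by rw [← F.n_x]; group
        rw [this]; exact hex
      have := h1.map (MulAut.conj F.n).toMonoidHom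
      simpa [mul_assoc] using this
    have hA := (hN0.mul hc heA).mul hc hN0'
    rw [hconj] at hA
    exact recog (F.n * (e : G) * F.n⁻¹) hnz.eq
      ((Commute.mul_left (Commute.mul_left F.n_comm het) (Commute.inv_left F.n_comm)).eq)
      (by rw [show F.n * (e : G) * F.n⁻¹ * (F.n * (e : G) * F.n⁻¹) = F.n * ((e : G) * e) * F.n⁻¹ by group,
        hesq, F.n_comm, mul_inv_cancel_right]) E' hA (e : G)⁻¹ (Or.inr rfl) hE'

theorem big (hc : Coord F a) (h5 : Five F π) (m : Nt F) (hmz : (m : G) * d.z = d.z * m)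
    (hmo : Perm.sign (π m) = -1) : Nonempty (BigCase F) := by
  classical
  obtain ⟨e, hez, heo, hex, heJ, hesq, heg, hne⟩ := exists_e hc h5 m hmz hmo
  have hcard := card_cent_odd hc h5 hez heo
  obtain ⟨π₁, hL, hzv⟩ := exists_three F (by rw [hcard])
  set zbar := F.toLoc.zbar (zt F)
  set N := Subgroup.normalizer (Subgroup.zpowers zbar : Set F.toLoc.H)
  set C := Subgroup.centralizer ({zbar} : Set F.toLoc.H)
  obtain ⟨ν, hνs, hνk, hνval⟩ := exists_nu F
  set Φ := π₁.prod π
  have hΦk : Φ.ker = ν.ker := by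
    ext m
    rw [hνk, ← prod_ker hc h5 hL hzv, MonoidHom.mem_ker]
  have hk2 : Nat.card Φ.ker = 2 := by
    have htne : (⟨F.t, L1_le_Nt F F.t_mem_L1⟩ : Nt F) ≠ 1 := fun h => by
      have := F.order_t
      rw [show F.t = 1 from congrArg Subtype.val h, orderOf_one] at this
      omega
    have hmem : (⟨F.t, L1_le_Nt F F.t_mem_L1⟩ : Nt F) ∈ Φ.ker := by
      rw [hΦk, hνk]; exact Or.inr rfl
    refine Nat.card_eq_two_iff.2 ⟨1, ⟨_, hmem⟩, fun h => htne (congrArg Subtype.val h).symm, ?_⟩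
    ext ⟨m, hm⟩
    simp only [Set.mem_insert_iff, Set.mem_singleton_iff, Set.mem_univ, iff_true]
    rw [hΦk, hνk] at hm
    rcases hm with h | h
    · exact Or.inl (Subtype.ext (Subtype.ext h))
    · exact Or.inr (Subtype.ext (Subtype.ext h))
  have hsurj : Function.Surjective Φ := by
    have h1 := Φ.ker.card_mul_index
    rw [hk2, Subgroup.index_ker, card_Nt, hcard] at h1
    refine MonoidHom.range_eq_top.1 (Subgroup.eq_top_of_card_eq _ ?_)
    rw [Nat.card_prod, Nat.card_perm, Nat.card_perm, Nat.card_fin, Nat.card_fin]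
    have : Nat.factorial 3 * Nat.factorial 5 = 720 := by decide
    omega
  obtain ⟨eL, heL⟩ := iso_of_ker ν Φ hνs hsurj hΦk.symm
  have hCN : C ≤ N := by
    intro u hu
    refine Subgroup.mem_normalizer_fintype fun w hw => ?_
    obtain ⟨k, rfl⟩ := Subgroup.mem_zpowers_iff.1 hw
    have h1 : Commute u zbar := Subgroup.mem_centralizer_singleton_iff.1 hu
    rw [(h1.zpow_right k).eq, mul_inv_cancel_right]
    exact Subgroup.zpow_mem_zpowers _ _
  let zz : Nt F := ⟨d.z, z_mem_Nt F⟩
  have hzN : ((ν zz : N) : F.toLoc.H) = zbar := hνval zz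
  have hΦz : Φ zz = (c3, 1) := Prod.ext (hzv zz rfl) (h5.z_val zz rfl)
  have himg : (C.subgroupOf N).map eL.toMonoidHom = theta.range := by
    ext ⟨σ, τ⟩
    constructor
    · rintro ⟨u, hu, huv⟩
      have hcc : Commute u (ν zz) := Subtype.ext (by
        have := Subgroup.mem_centralizer_singleton_iff.1 hu
        show (u : F.toLoc.H) * ((ν zz : N) : F.toLoc.H) = ((ν zz : N) : F.toLoc.H) * (u : F.toLoc.H)
        rw [hzN]
        exact this)
      have h1 := hcc.map eL.toMonoidHom
      rw [huv] at h1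
      change Commute (σ, τ) (eL (ν zz)) at h1
      rw [heL, hΦz] at h1
      obtain ⟨i, hi⟩ := c3_facts.2.2.1 σ (congrArg Prod.fst h1.eq)
      exact ⟨(Multiplicative.ofAdd i, τ), Prod.ext hi.symm rfl⟩
    · rintro ⟨p, hp⟩
      refine ⟨eL.symm (σ, τ), ?_, eL.apply_symm_apply _⟩
      show ((eL.symm (σ, τ) : N) : F.toLoc.H) ∈ C
      rw [Subgroup.mem_centralizer_singleton_iff, ← hzN, ← Subgroup.coe_mul, ← Subgroup.coe_mul]
      congr 1
      apply eL.injective
      rw [map_mul, map_mul, eL.apply_symm_apply, heL, hΦz, ← hp]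
      exact Prod.ext (((Commute.refl c3).pow_left _).eq) (by simp [theta])
  let eC : C ≃* Multiplicative (ZMod 3) × P5 :=
    ((Subgroup.subgroupOfEquivOfLe hCN).symm.trans (eL.subgroupMap (C.subgroupOf N))).trans
      ((MulEquiv.subgroupCongr himg).trans (MonoidHom.ofInjective theta_injective).symm)
  refine ⟨⟨zt F, hcard, eC, eL, (e : G), ?_, hez, hex, Nt_t F e e.2, heJ, hesq, heg, hne⟩⟩
  intro heLm
  obtain ⟨i, hi⟩ := F.L_inf _ heLm (Nt_t F e e.2)
  let w : Nt F := zz ^ i * e
  have hw : (w : G) ∈ F.L1 := by push_cast [w]; exact hi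
  have h1 := h5.even w hw
  rw [map_mul, map_mul, map_zpow, map_zpow, h5.z_val zz rfl, map_one, one_zpow, one_mul, heo] at h1
  exact absurd h1 (by decide)

/-- The normalizer of `⟨z⟩` in the centralizer of the involution is of one of two types. -/
theorem cases {G : Type*} [Group G] [Finite G] {d : Data G} (F : Frame d) :
    SmallCase F ∨ Nonempty (BigCase F) := by
  classical
  obtain ⟨a, hc⟩ := exists_coord F
  obtain ⟨π, h5⟩ := exists_five F
  by_cases h : ∀ m : Nt F, (m : G) * d.z = d.z * m → Perm.sign (π m) = 1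
  · exact Or.inl (small hc h5 h)
  · push_neg at h
    obtain ⟨m, hm, hne⟩ := h
    exact Or.inr (big hc h5 m hm ((Int.units_eq_one_or _).resolve_left hne))

end Cfsg.Agent.McL3Split44
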