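import Cfsg.Agent.Lib.McL3Hyp34
import Cfsg.Agent.Lib.McL3Loc23
import Cfsg.Agent.Lib.McL3Frame78
import Cfsg.Agent.Lib.McL3Split44
import Cfsg.Agent.Lib.McL3Centralizer94
import Cfsg.Agent.Lib.McL3YLocal39
import Cfsg.Agent.Lib.LeechCoOneSimple
import Cfsg.Agent.Lib.ComponentsFitting

/-!
# S3367, S5523, S2913: assembly of the 3-local characterizations of McLaughlin's group

`classify` takes the three recognition steps as hypotheses; `S3367_of_steps`, `S5523_of_steps`,
`S2913_of_steps` are the three statements modulo those steps.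
-/

set_option autoImplicit false

namespace Cfsg.Agent.McL3x39

open Subgroup

/-- The three steps that follow the determination of the normalizer of `⟨z⟩` in `C(t)`. -/
structure Steps (G : Type*) [Group G] [Finite G] : Prop where
  big_iso : ∀ {d : Data G} (F : Frame d), YLocal F → BigCase F →
    Nonempty (F.toLoc.H ≃* Equiv.Perm (Fin 8))
  mcl_of_cover : ∀ {d : Data G} (F : Frame d), YLocal F →
    Cfsg.IsNonsplitDoubleCover (centralizer ({F.t} : Set G)) (alternatingGroup (Fin 8)) →
    Nonempty (G ≃* Cfsg.Spor.McL)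
  aut_of_big : ∀ {d : Data G} (F : Frame d), YLocal F → BigCase F →
    (F.toLoc.H ≃* Equiv.Perm (Fin 8)) → Nonempty (G ≃* MulAut Cfsg.Spor.McL)

variable {G : Type*} [Group G] [Finite G]

theorem classify (st : Steps G) (d : Data G) (hy : ∀ F : Frame d, YLocal F) :
    Nonempty (G ≃* Cfsg.Spor.McL) ∨ Nonempty (G ≃* MulAut Cfsg.Spor.McL) := by
  obtain ⟨l⟩ := exists_loc d
  obtain ⟨F⟩ := Loc.exists_frame l
  rcases McL3Split44.cases F with h | ⟨⟨h⟩⟩
  · exact Or.inl (st.mcl_of_cover F (hy F) (small_cover F (hy F) h))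
  · obtain ⟨eH⟩ := st.big_iso F (hy F) h
    exact Or.inr (st.aut_of_big F (hy F) h eH)

theorem mcl_simple : IsSimpleGroup Cfsg.Spor.McL := LeechCoOneSimple.isMcL_McL.1

open scoped IsMulCommutative in
theorem mcl_not_comm : ¬ IsMulCommutative Cfsg.Spor.McL := fun h => by
  haveI := mcl_simple
  haveI := h
  have h3 : (Nat.card Cfsg.Spor.McL).Prime := IsSimpleGroup.prime_card
  rw [LeechCertOrders.card_McL] at h3
  norm_num at h3

/-- `F*` of an automorphism group of a simple non-abelian group is that group. -/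
theorem gen_eq_conj_range {K : Type*} [Group K] [Finite (MulAut K)] (hs : IsSimpleGroup K)
    (hc : ¬ IsMulCommutative K) :
    Nonempty (Cfsg.generalizedFittingSubgroup (MulAut K) ≃* K) := by
  have hinj : Function.Injective (MulAut.conj : K →* MulAut K) := by
    refine (injective_iff_map_eq_one _).2 fun k hk => ?_
    have hkc : k ∈ center K := mem_center_iff.2 fun g => by
      have h : k * g * k⁻¹ = g := congrArg (fun φ : MulAut K => φ g) hk
      exact (mul_inv_eq_iff_eq_mul.1 h).symm
    rcases Subgroup.Normal.eq_bot_or_eq_top (inferInstance : (center K).Normal) with h | h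
    · exact mem_bot.1 (h ▸ hkc)
    · exact absurd ⟨⟨fun a b => (mem_center_iff.1 (h ▸ mem_top b : b ∈ center K) a)⟩⟩ hc
  set I := (MulAut.conj : K →* MulAut K).range
  have hn : I.Normal := ⟨by
    rintro _ ⟨k, rfl⟩ φ
    exact ⟨φ k, MulEquiv.ext fun g => by simp [MulAut.conj_apply, MulAut.mul_apply]⟩⟩
  have e : K ≃* I := MonoidHom.ofInjective hinj
  have hq : Cfsg.IsQuasisimple I :=
    ComponentsBasic.isQuasisimple_of_mulEquiv e (ComponentsBasic.isQuasisimple_of_simple hs hc)
  have hC : centralizer (I : Set (MulAut K)) ≤ I := fun φ hφ => by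
    have h1 : φ = 1 := MulEquiv.ext fun k => hinj (MulEquiv.ext fun g => by
      have h := congrArg (fun ψ : MulAut K => ψ (φ.symm g))
        (mem_centralizer_iff.1 hφ (MulAut.conj k) ⟨k, rfl⟩)
      simp only [MulAut.mul_apply, MulAut.conj_apply, map_mul, map_inv,
        MulEquiv.apply_symm_apply] at h
      simpa [MulAut.conj_apply] using h.symm)
    exact h1 ▸ I.one_mem
  have hcomp : Cfsg.IsComponent I := ⟨hn.isSubnormal, hq⟩
  have hgen : Cfsg.generalizedFittingSubgroup (MulAut K) = I := by
    refine le_antisymm (sup_le (sSup_le fun L hL => ?_) ?_)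
      (ComponentsFitting.component_le_gen hcomp)
    · by_cases h : L = I
      · exact h.le
      · exact (commutator_eq_bot_iff_le_centralizer.mp
          (ComponentsBasic.components_commute hL hcomp h)).trans hC
    · have h := ComponentsFitting.component_commute_fitting hcomp
      rw [commutator_comm] at h
      exact (commutator_eq_bot_iff_le_centralizer.mp h).trans hC
  exact ⟨(MulEquiv.subgroupCongr hgen).trans e.symm⟩

theorem iso_gen_of_classified
    (h : Nonempty (G ≃* Cfsg.Spor.McL) ∨ Nonempty (G ≃* MulAut Cfsg.Spor.McL)) :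
    Cfsg.Spor.IsoMcL (Cfsg.generalizedFittingSubgroup G) := by
  rcases h with ⟨⟨e⟩⟩ | ⟨⟨e⟩⟩
  · haveI := mcl_simple
    haveI : Nontrivial G := e.toEquiv.nontrivial
    haveI : IsSimpleGroup G := MulEquiv.isSimpleGroup e
    have hne := ComponentsFitting.gen_ne_bot (G := G)
    have htop := (Subgroup.Normal.eq_bot_or_eq_top
      (inferInstance : (Cfsg.generalizedFittingSubgroup G).Normal)).resolve_left hne
    exact ⟨(MulEquiv.subgroupCongr htop).trans (Subgroup.topEquiv.trans e)⟩
  · haveI : Finite (MulAut Cfsg.Spor.McL) := Finite.of_equiv G e.toEquiv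
    obtain ⟨f⟩ := gen_eq_conj_range mcl_simple mcl_not_comm
    exact ⟨((Cfsg.generalizedFittingSubgroup G).equivMapOfInjective e.toMonoidHom e.injective).trans
      ((MulEquiv.subgroupCongr (ComponentsFitting.gen_map_mulEquiv e)).trans f)⟩

end Cfsg.Agent.McL3x39
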