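import Cfsg.Agent.Lib.McL3Setup39
import Cfsg.Agent.Lib.AutPSLApi
import Cfsg.Agent.Lib.PSLCard
import Cfsg.Agent.Lib.AbelSylowCover32
import Cfsg.Agent.Lib.ComponentsFitting
import Cfsg.Agent.Lib.ComponentsCores
import Cfsg.Prelude.Def_Transfer

/-!
# S3367, S5523, S2913: the common 3-local data from the hypotheses
-/

set_option autoImplicit false
set_option linter.unusedSectionVars false

namespace Cfsg.Agent.McL3x39

open Subgroup
open scoped commutatorElement

local notation "SL25" => Matrix.SpecialLinearGroup (Fin 2) (ZMod 5)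
local notation "PSL25" => Matrix.ProjectiveSpecialLinearGroup (Fin 2) (ZMod 5)

theorem sl25_perfect : commutator SL25 = ⊤ := by
  haveI : Fact (Nat.Prime 5) := ⟨by norm_num⟩
  exact AbelSylow32.sl2_five_perfect (ZMod.card 5)

theorem card_mulAut_psl25 : Nat.card (MulAut PSL25) = 120 := by
  haveI : Fact (Nat.Prime 5) := ⟨by norm_num⟩
  have h := AutPSLApi.card_mulAut (n := 2) (F := ZMod 5) (p := 5) (f := 1)
    (by rw [ZMod.card, pow_one]) le_rfl le_rfl
  rw [if_pos rfl, one_mul, one_mul] at h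
  refine h.trans ((PSLCard.card_PGL2 (F := ZMod 5)).trans ?_)
  rw [Nat.card_eq_fintype_card, ZMod.card]
  norm_num

theorem card_sl25 : Nat.card SL25 = 120 := by
  haveI : Fact (Nat.Prime 5) := ⟨by norm_num⟩
  rw [PSLCard.card_SL2, Nat.card_eq_fintype_card, ZMod.card]
  norm_num

theorem card_mulAut_sl25 : Nat.card (MulAut SL25) ≤ 120 := by
  haveI : Fact (Nat.Prime 5) := ⟨by norm_num⟩
  have hchar : ∀ a : MulAut SL25, (center SL25).map a.toMonoidHom = center SL25 := fun a =>
    characteristic_iff_map_eq.1 inferInstance a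
  let f : MulAut SL25 → MulAut PSL25 := fun a => QuotientGroup.congr _ _ a (hchar a)
  rw [← card_mulAut_psl25]
  refine Nat.card_le_card_of_injective f fun a b hab => ?_
  have hz : ∀ x, (a x)⁻¹ * b x ∈ center SL25 := fun x => QuotientGroup.eq.1
    (congrArg (fun φ : MulAut PSL25 => φ (QuotientGroup.mk x)) hab)
  refine MulEquiv.ext fun x => ?_
  let c : SL25 →* center SL25 :=
    { toFun := fun x => ⟨(a x)⁻¹ * b x, hz x⟩
      map_one' := Subtype.ext (by simp)
      map_mul' := fun x y => Subtype.ext (by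
        have h := (mem_center_iff.1 (hz x) (a y)⁻¹)
        simp only [map_mul, mul_inv_rev, coe_mul]
        calc (a y)⁻¹ * (a x)⁻¹ * (b x * b y) = (a y)⁻¹ * ((a x)⁻¹ * b x) * b y := by group
          _ = _ := by rw [h]; group) }
  have hker : c.ker = ⊤ := by
    rw [eq_top_iff, ← sl25_perfect, commutator_def, Subgroup.commutator_le]
    intro u _ v _
    rw [MonoidHom.mem_ker, map_commutatorElement, commutatorElement_def]
    have := mem_center_iff.1 (c v).2 (c u : SL25)
    apply Subtype.ext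
    simp only [coe_mul, coe_inv, coe_one]
    rw [this]
    group
  have h1 : c x = 1 := MonoidHom.mem_ker.1 (hker ▸ mem_top x : x ∈ c.ker)
  have := congrArg Subtype.val h1
  exact inv_mul_eq_one.1 this

/-- The 3-elements of a group with a self-centralising normal `SL₂(5)` lie in it. -/
theorem three_mem_of_sl25 {X : Type*} [Group X] [Finite X] (K : Subgroup X) [K.Normal]
    (e : K ≃* SL25) (hC : centralizer (K : Set X) ≤ K) {x : X}
    (hx : ∃ k : ℕ, orderOf x = 3 ^ k) : x ∈ K := by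
  haveI : Fact (Nat.Prime 5) := ⟨by norm_num⟩
  let θ : X →* MulAut K := MulAut.conjNormal
  have hA : Nat.card (MulAut K) ≤ 120 :=
    (Nat.card_congr (MulAut.congr e).toEquiv).trans_le card_mulAut_sl25
  have hK : Nat.card K = 120 := (Nat.card_congr e.toEquiv).trans card_sl25
  set I := K.map θ with hIdef
  -- the inner automorphisms have order at least 60
  have hker : Nat.card (θ.comp K.subtype).ker ≤ 2 := by
    have hle : Nat.card (center K) ≤ 2 := by
      rw [Nat.card_congr (Subgroup.centerCongr e).toEquiv]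
      rw [Nat.card_eq_fintype_card]
      decide +kernel
    refine le_trans (card_le_of_le fun k hk => ?_) hle
    refine mem_center_iff.2 fun j => Subtype.ext ?_
    have h : (k : X) * j * (k : X)⁻¹ = j := congrArg Subtype.val
      (congrArg (fun φ : MulAut K => φ j) (MonoidHom.mem_ker.1 hk : θ (k : X) = 1))
    exact (mul_inv_eq_iff_eq_mul.1 h).symm
  have hI : 60 ≤ Nat.card I := by
    have h := (θ.comp K.subtype).ker.index_mul_card
    rw [hK, index_ker, MonoidHom.range_comp, range_subtype] at h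
    rw [← hIdef] at h
    nlinarith
  set R := θ.range
  have hIR : I ≤ R := map_le_range θ K
  haveI : (I.subgroupOf R).Normal := ⟨by
    rintro ⟨_, a, rfl⟩ ha ⟨_, g, rfl⟩
    obtain ⟨k, hk, hka⟩ := (mem_subgroupOf.1 ha : θ a ∈ I)
    refine mem_subgroupOf.2 ⟨g * k * g⁻¹, Normal.conj_mem inferInstance k hk g, ?_⟩
    simp only [map_mul, map_inv, hka]; rfl⟩
  have hidx : (I.subgroupOf R).index ≤ 2 := by
    have h := (I.subgroupOf R).index_mul_card
    rw [Nat.card_congr (subgroupOfEquivOfLe hIR).toEquiv] at h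
    have hR : Nat.card R ≤ 120 := (card_le_card_group R).trans hA
    by_contra h3
    push Not at h3
    nlinarith
  obtain ⟨k, hk⟩ := hx
  have hodd : Odd (orderOf (⟨θ x, x, rfl⟩ : R)) := by
    refine Odd.of_dvd_nat ((Odd.pow (n := k) (by decide : Odd 3))) ?_
    rw [← hk]
    exact orderOf_dvd_of_pow_eq_one (Subtype.ext (by
      simp only [SubmonoidClass.coe_pow, coe_one, ← map_pow, pow_orderOf_eq_one, map_one]))
  have hmem : (⟨θ x, x, rfl⟩ : R) ∈ I.subgroupOf R := by
    rw [← QuotientGroup.eq_one_iff]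
    set y : R ⧸ I.subgroupOf R := QuotientGroup.mk (⟨θ x, x, rfl⟩ : R) with hy
    have hdvd : orderOf y ∣ orderOf (⟨θ x, x, rfl⟩ : R) := orderOf_map_dvd (QuotientGroup.mk' _) _
    have hle : orderOf y ≤ 2 :=
      ((Nat.le_of_dvd Nat.card_pos (orderOf_dvd_natCard y)).trans hidx)
    have hpos := orderOf_pos y
    obtain h | h : orderOf y = 1 ∨ orderOf y = 2 := by omega
    · exact orderOf_eq_one_iff.1 h
    · rw [h] at hdvd
      exact absurd (hodd.of_dvd_nat hdvd) (by decide)
  obtain ⟨j, hj, hjx⟩ := (mem_subgroupOf.1 hmem : θ x ∈ I)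
  have hc : j⁻¹ * x ∈ centralizer (K : Set X) := by
    intro u hu
    have h1 : θ (j⁻¹ * x) = 1 := by rw [map_mul, map_inv, hjx, inv_mul_cancel]
    have h := congrArg Subtype.val (congrArg (fun φ : MulAut K => φ ⟨u, hu⟩) h1)
    exact (mul_inv_eq_iff_eq_mul.1 (h : j⁻¹ * x * u * (j⁻¹ * x)⁻¹ = u)).symm
  simpa using K.mul_mem hj (hC hc)

section Normalizers

variable {G : Type*} [Group G] [Finite G]

theorem normalizer_le_normalizer_centralizer (A : Subgroup G) :
    normalizer (A : Set G) ≤ normalizer ((centralizer (A : Set G) : Subgroup G) : Set G) := by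
  intro m hm
  rw [mem_normalizer_iff]
  intro g
  simp only [mem_centralizer_iff]
  constructor
  · intro h a ha
    have h1 := h _ (mem_normalizer_iff''.1 hm a |>.1 ha)
    calc a * (m * g * m⁻¹) = m * ((m⁻¹ * a * m) * g) * m⁻¹ := by group
      _ = m * (g * (m⁻¹ * a * m)) * m⁻¹ := by rw [h1]
      _ = m * g * m⁻¹ * a := by group
  · intro h a ha
    have h1 := h _ ((mem_normalizer_iff.1 hm a).1 ha)
    calc a * g = m⁻¹ * ((m * a * m⁻¹) * (m * g * m⁻¹)) * m := by group
      _ = m⁻¹ * ((m * g * m⁻¹) * (m * a * m⁻¹)) * m := by rw [h1]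
      _ = g * a := by group

/-- A subgroup of `H` fixed by all automorphisms is normalised by the normalizer of `H`. -/
theorem normalizer_le_normalizer_map {H : Subgroup G} {K : Subgroup H}
    (hK : ∀ e : H ≃* H, K.map e.toMonoidHom = K) :
    normalizer (H : Set G) ≤ normalizer ((K.map H.subtype : Subgroup G) : Set G) := by
  intro m hm
  have hh : ∀ m ∈ normalizer (H : Set G), ∀ g ∈ K.map H.subtype, m * g * m⁻¹ ∈ K.map H.subtype := by
    rintro m hm _ ⟨k, hk, rfl⟩
    let e : H ≃* H := H.normalizerMonoidHom ⟨m, hm⟩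
    exact ⟨e k, (hK e).le ⟨k, hk, rfl⟩, rfl⟩
  rw [mem_normalizer_iff]
  refine fun g => ⟨hh m hm g, fun h => ?_⟩
  have := hh _ (inv_mem hm) _ h
  simpa [mul_assoc] using this

theorem normalizer_le_normalizer_closure {H : Subgroup G} {L : Subgroup G}
    (hL : L = closure {g : G | g ∈ normalizer (H : Set G) ∧ ∃ k : ℕ, orderOf g = 3 ^ k}) :
    normalizer (H : Set G) ≤ normalizer (L : Set G) := by
  intro m hm
  have hh : ∀ m ∈ normalizer (H : Set G), L.map (MulAut.conj m).toMonoidHom ≤ L := by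
    intro m hm
    rw [hL, MonoidHom.map_closure]
    refine closure_mono ?_
    rintro _ ⟨g, ⟨hg, k, hk⟩, rfl⟩
    exact ⟨mul_mem (mul_mem hm hg) (inv_mem hm), k, by
      rw [← hk]; exact (MulAut.conj m).orderOf_eq g⟩
  rw [mem_normalizer_iff]
  refine fun g => ⟨fun hg => hh m hm ⟨g, hg, rfl⟩, fun h => ?_⟩
  have := hh _ (inv_mem hm) ⟨_, h, rfl⟩
  simpa [mul_assoc] using this

/-- An element of odd order normalizing a group of order three centralizes it. -/
theorem three_cent {z : G} (hz : orderOf z = 3) {g : G} (hg : g ∈ normalizer (zpowers z : Set G))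
    (hk : ∃ k : ℕ, orderOf g = 3 ^ k) : g * z = z * g := by
  obtain ⟨i, hi⟩ := mem_zpowers_iff.1 ((mem_normalizer_iff.1 hg z).1 (mem_zpowers z))
  have hcase : g * z * g⁻¹ = z ∨ g * z * g⁻¹ = z⁻¹ := by
    have hz3 : z ^ (3 : ℕ) = 1 := hz ▸ pow_orderOf_eq_one z
    have hne : g * z * g⁻¹ ≠ 1 := fun h => by
      rw [mul_inv_eq_one, mul_eq_left] at h
      rw [h, orderOf_one] at hz; omega
    rw [← hi] at hne ⊢
    rw [← zpow_mod_orderOf, hz] at hne ⊢
    have h1 := Int.emod_nonneg i (by norm_num : (3 : ℤ) ≠ 0)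
    have h2 := Int.emod_lt_of_pos i (by norm_num : (0 : ℤ) < 3)
    push_cast at hne ⊢
    obtain h | h | h : i % 3 = 0 ∨ i % 3 = 1 ∨ i % 3 = 2 := by omega
    · rw [h, zpow_zero] at hne; exact absurd rfl hne
    · left; rw [h, zpow_one]
    · right; rw [h]; exact eq_inv_of_mul_eq_one_left (by
        rw [← zpow_add_one]; norm_num; exact_mod_cast hz3)
  rcases hcase with h | h
  · exact mul_inv_eq_iff_eq_mul.1 h
  · obtain ⟨k, hk⟩ := hk
    have hodd : Odd (orderOf g) := hk ▸ (by decide : Odd 3).pow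
    have h2 : ∀ n : ℕ, Odd n → g ^ n * z * (g ^ n)⁻¹ = z⁻¹ := by
      intro n ⟨r, hr⟩
      subst hr
      induction r with
      | zero => simpa using h
      | succ r ih =>
        rw [show 2 * (r + 1) + 1 = 2 + (2 * r + 1) by omega, pow_add]
        calc g ^ 2 * g ^ (2 * r + 1) * z * (g ^ 2 * g ^ (2 * r + 1))⁻¹
            = g ^ 2 * (g ^ (2 * r + 1) * z * (g ^ (2 * r + 1))⁻¹) * (g ^ 2)⁻¹ := by group
          _ = g * (g * z * g⁻¹)⁻¹ * g⁻¹ := by rw [ih, pow_two]; group
          _ = z⁻¹ := by rw [h, inv_inv, h]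
    have h3 := h2 _ hodd
    rw [pow_orderOf_eq_one, one_mul, inv_one, mul_one] at h3
    exfalso
    have : z ^ 2 = 1 := by rw [pow_two]; nth_rw 2 [h3]; exact mul_inv_cancel z
    have := orderOf_dvd_of_pow_eq_one this
    rw [hz] at this
    omega

end Normalizers

section Data

variable {G : Type*} [Group G] [Finite G]

theorem not_perm_normal_alt6 (N : Subgroup (alternatingGroup (Fin 6))) [N.Normal] : N = ⊥ ∨ N = ⊤ := by
  haveI : IsSimpleGroup (alternatingGroup (Fin 6)) :=
    alternatingGroup.isSimpleGroup (by simp)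
  exact (inferInstance : N.Normal).eq_bot_or_eq_top

/-- The centre of a Sylow subgroup of order 729 cannot contain `J`: so a central element of order
three of `S` lies in `J`. -/
theorem z_mem_J_of_alt6 (S : Sylow 3 G) (hS : Nat.card (S : Subgroup G) = 729)
    (hcen : Nat.card ((S : Subgroup G) ⊓ centralizer ((S : Subgroup G) : Set G) : Subgroup G) = 3)
    {z : G} (hz : z ∈ (S : Subgroup G) ⊓ centralizer ((S : Subgroup G) : Set G))
    {J M₀ : Subgroup G} (hJS : J ≤ (S : Subgroup G)) (hJcard : Nat.card J = 81)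
    (hJc : ∀ a ∈ J, ∀ b ∈ J, a * b = b * a)
    (hM₀ : M₀ = closure {g : G | g ∈ normalizer (J : Set G) ∧ ∃ k : ℕ, orderOf g = 3 ^ k})
    (hJM : J ≤ M₀) [(J.subgroupOf M₀).Normal]
    (eM : M₀ ⧸ J.subgroupOf M₀ ≃* alternatingGroup (Fin 6)) : z ∈ J := by
  haveI : Fact (Nat.Prime 3) := ⟨Nat.prime_three⟩
  have hzN : z ∈ normalizer (J : Set G) := by
    rw [mem_normalizer_iff]
    intro j
    constructor
    · intro hj
      rwa [show z * j * z⁻¹ = j by rw [← mem_centralizer_iff.1 hz.2 j (hJS hj)]; group]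
    · intro hj
      have h := mem_centralizer_iff.1 hz.2 _ (hJS hj)
      have e : z * j * z⁻¹ = j := by
        calc z * j * z⁻¹ = z⁻¹ * (z * (z * j * z⁻¹)) := by group
          _ = z⁻¹ * ((z * j * z⁻¹) * z) := by rw [h]
          _ = j := by group
      rwa [e] at hj
  have hzM : z ∈ M₀ := by
    rw [hM₀]
    refine subset_closure ⟨hzN, ?_⟩
    obtain ⟨k, hk⟩ := IsPGroup.iff_orderOf.1 S.2 ⟨z, hz.1⟩
    exact ⟨k, by rwa [Subgroup.orderOf_mk] at hk⟩
  let C : Subgroup M₀ := (centralizer (J : Set G)).subgroupOf M₀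
  have hMN : M₀ ≤ normalizer (J : Set G) := by
    rw [hM₀, closure_le]
    exact fun g hg => hg.1
  haveI hCn : C.Normal := ⟨fun c hc m => by
    have := normalizer_le_normalizer_centralizer J (hMN m.2)
    rw [mem_subgroupOf] at hc ⊢
    exact (mem_normalizer_iff.1 this c).1 hc⟩
  have hzC : (⟨z, hzM⟩ : M₀) ∈ C := mem_subgroupOf.2
    (mem_centralizer_iff.2 fun j hj => mem_centralizer_iff.1 hz.2 j (hJS hj))
  haveI := hCn.map (QuotientGroup.mk' (J.subgroupOf M₀)) (QuotientGroup.mk'_surjective _)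
  set Cb := C.map (QuotientGroup.mk' (J.subgroupOf M₀))
  haveI : (Cb.map eM.toMonoidHom).Normal := ‹Cb.Normal›.map _ eM.surjective
  rcases not_perm_normal_alt6 (Cb.map eM.toMonoidHom) with h | h
  · have h1 : QuotientGroup.mk' (J.subgroupOf M₀) ⟨z, hzM⟩ = 1 := by
      have h2 : eM (QuotientGroup.mk' (J.subgroupOf M₀) ⟨z, hzM⟩) ∈ Cb.map eM.toMonoidHom :=
        ⟨_, ⟨_, hzC, rfl⟩, rfl⟩
      rw [h, mem_bot] at h2
      exact eM.injective (by rw [h2, map_one])
    exact mem_subgroupOf.1 ((QuotientGroup.eq_one_iff _).1 h1)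
  · exfalso
    have hcard : Nat.card M₀ = 360 * 81 := by
      rw [← (J.subgroupOf M₀).index_mul_card, Subgroup.index, Nat.card_congr eM.toEquiv,
        Nat.card_congr (subgroupOfEquivOfLe hJM).toEquiv, hJcard, Nat.card_eq_fintype_card]
      decide +kernel
    obtain ⟨R⟩ : Nonempty (Sylow 3 M₀) := inferInstance
    have hR : Nat.card (R : Subgroup M₀) = 729 := by
      rw [R.card_eq_multiplicity, hcard]
      have : (360 * 81 : ℕ) = 3 ^ 6 * 40 := by norm_num
      rw [this, Nat.factorization_mul (by norm_num) (by norm_num), Finsupp.add_apply,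
        Nat.Prime.factorization_pow Nat.prime_three, Finsupp.single_eq_same,
        Nat.factorization_eq_zero_of_not_dvd (by norm_num : ¬ 3 ∣ 40)]
      norm_num
    have hJR : J.subgroupOf M₀ ≤ R := by
      refine (R.3 (R.2.to_sup_of_normal_right (K := J.subgroupOf M₀) ?_) le_sup_left).le.trans' le_sup_right
      exact (IsPGroup.of_card (n := 4) (by
        rw [Nat.card_congr (subgroupOfEquivOfLe hJM).toEquiv, hJcard]; norm_num))
    -- `J` is central in `M₀`
    have hcent : ∀ m : M₀, ∀ j ∈ J, j * (m : G) = (m : G) * j := by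
      intro m j hj
      have hm : eM (QuotientGroup.mk' _ m) ∈ Cb.map eM.toMonoidHom := h ▸ mem_top _
      obtain ⟨_, ⟨c, hc, rfl⟩, he⟩ := hm
      have h2 : QuotientGroup.mk' (J.subgroupOf M₀) c = QuotientGroup.mk' _ m := eM.injective he
      obtain ⟨u, hu, rfl⟩ : ∃ u ∈ J.subgroupOf M₀, c * u = m :=
        ⟨c⁻¹ * m, QuotientGroup.eq.1 h2, mul_inv_cancel_left c m⟩
      have hcj := mem_centralizer_iff.1 (mem_subgroupOf.1 hc) j hj
      have huj : j * (u : G) = (u : G) * j := hJc j hj _ (mem_subgroupOf.1 hu)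
      simp only [coe_mul]
      rw [← mul_assoc, hcj, mul_assoc, huj, mul_assoc]
    set R' := (R : Subgroup M₀).map M₀.subtype with hR'def
    have hR' : Nat.card R' = 729 := (card_map_of_injective M₀.subtype_injective).trans hR
    obtain ⟨P, hP⟩ := (R.2.map M₀.subtype).exists_le_sylow
    have hP729 : Nat.card (P : Subgroup G) = 729 := by
      rw [P.card_eq_multiplicity, ← S.card_eq_multiplicity, hS]
    have hPR : R' = (P : Subgroup G) :=
      eq_of_le_of_card_ge hP (by rw [hP729, show Nat.card R' = 729 from hR'])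
    obtain ⟨g, hg⟩ := MulAction.exists_smul_eq G P S
    have hle : J.map (MulAut.conj g).toMonoidHom ≤
        (S : Subgroup G) ⊓ centralizer ((S : Subgroup G) : Set G) := by
      have hmem : ∀ y, y ∈ (P : Subgroup G) → g * y * g⁻¹ ∈ (S : Subgroup G) := fun y hy => by
        rw [← hg]
        exact ⟨y, hy, rfl⟩
      have hsurj : ∀ w ∈ (S : Subgroup G), ∃ y ∈ (P : Subgroup G), g * y * g⁻¹ = w := fun w hw => by
        rw [← hg] at hw
        exact hw
      rintro _ ⟨j, hj, rfl⟩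
      have hjP : j ∈ (P : Subgroup G) := hPR ▸ ⟨⟨j, hJM hj⟩, hJR (mem_subgroupOf.2 hj), rfl⟩
      refine ⟨hmem j hjP, mem_centralizer_iff.2 fun w hw => ?_⟩
      obtain ⟨y, hy, rfl⟩ := hsurj w hw
      obtain ⟨m, hm, rfl⟩ : y ∈ R' := hPR ▸ hy
      have h4 := hcent m j hj
      simp only [MulEquiv.coe_toMonoidHom, MulAut.conj_apply, coe_subtype]
      calc g * (m : G) * g⁻¹ * (g * j * g⁻¹) = g * ((m : G) * j) * g⁻¹ := by group
        _ = g * (j * (m : G)) * g⁻¹ := by rw [h4]
        _ = _ := by group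
    have := card_le_of_le hle
    rw [hcen, card_map_of_injective (MulAut.conj g).injective, hJcard] at this
    omega

/-- The data from the hypotheses of S3367 and S5523, given `C(Q) ≤ Q`. -/
theorem exists_data (S : Sylow 3 G) (Z : Subgroup G)
    (hZ : Z = (S : Subgroup G) ⊓ centralizer ((S : Subgroup G) : Set G))
    (J : Subgroup G) (hJS : J ≤ S) (hJcomm : IsMulCommutative J) (hJexp : ∀ a ∈ J, a ^ 3 = 1)
    (hJcard : Nat.card J = 3 ^ 4)
    (M₀ : Subgroup G)
    (hM₀ : M₀ = closure {g : G | g ∈ normalizer (J : Set G) ∧ ∃ k : ℕ, orderOf g = 3 ^ k})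
    (hJM : J ≤ M₀) [hJn : (J.subgroupOf M₀).Normal]
    (eM : M₀ ⧸ J.subgroupOf M₀ ≃* alternatingGroup (Fin 6))
    (L₀ : Subgroup G)
    (hL₀ : L₀ = closure {g : G | g ∈ normalizer (Z : Set G) ∧ ∃ k : ℕ, orderOf g = 3 ^ k})
    (Q : Subgroup G)
    (hQ : Q = (Cfsg.pCore 3 (normalizer (Z : Set G))).map (normalizer (Z : Set G)).subtype)
    (hQex : Cfsg.IsExtraspecial 3 Q) (hQcard : Nat.card Q = 3 ^ 5) (hQexp : ∀ a ∈ Q, a ^ 3 = 1)
    (hQL : Q ≤ L₀) [hQn : (Q.subgroupOf L₀).Normal]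
    (eL : L₀ ⧸ Q.subgroupOf L₀ ≃* SL25) :
    Z ≤ J ∧ Nat.card Z = 3 ∧
      (Cfsg.pCore 3 (centralizer (Z : Set G))).map (centralizer (Z : Set G)).subtype = Q ∧
      (centralizer (Q : Set G) ≤ Q → ∃ d : Data G, zpowers d.z = Z ∧ d.J = J) := by
  haveI : Fact (Nat.Prime 3) := ⟨Nat.prime_three⟩
  set N := normalizer (Z : Set G) with hNdef
  have hQN : Q ≤ N := by rw [hQ]; exact map_subtype_le _
  have hQnorm : N ≤ normalizer (Q : Set G) := by
    rw [hQ]
    exact le_normalizer.trans (normalizer_le_normalizer_map fun e =>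
      ComponentsCores.pCore_map_mulEquiv e 3)
  have hSN : (S : Subgroup G) ≤ N := by
    intro s hs
    rw [hNdef, hZ, mem_normalizer_iff]
    intro g
    constructor
    · intro hg
      rw [← mem_centralizer_iff.1 hg.2 s hs |>.symm]
      simpa using hg
    · intro hg
      have h := mem_centralizer_iff.1 hg.2 s hs
      have : g = s * g * s⁻¹ := by
        calc g = s⁻¹ * (s * g * s⁻¹ * s) := by group
          _ = s⁻¹ * (s * (s * g * s⁻¹)) := by rw [h]
          _ = s * g * s⁻¹ := by group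
      rwa [← this] at hg
  have hQp : IsPGroup 3 Q := IsPGroup.of_card (n := 5) hQcard
  have hQS : Q ≤ (S : Subgroup G) := by
    have hsup := S.2.to_sup_of_normal_right' hQp (hSN.trans hQnorm)
    exact (S.3 hsup le_sup_left).le.trans' le_sup_right
  have hZne : Z ≠ ⊥ := by
    haveI : Nontrivial (S : Subgroup G) := (nontrivial_iff_ne_bot _).2 fun h => by
      have := card_le_of_le hQS
      rw [h, card_bot, hQcard] at this
      norm_num at this
    haveI := S.2.center_nontrivial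
    obtain ⟨c, hc⟩ := exists_ne (1 : center (S : Subgroup G))
    intro h
    have h2 : ((c : (S : Subgroup G)) : G) ∈ Z := by
      rw [hZ]
      exact ⟨(c : (S : Subgroup G)).2, mem_centralizer_iff.2 fun y hy =>
        congrArg Subtype.val (mem_center_iff.1 c.2 ⟨y, hy⟩)⟩
    rw [h, mem_bot] at h2
    exact hc (Subtype.ext (Subtype.ext h2))
  have hZcent : (centralizer ((S : Subgroup G) : Set G)) ≤ centralizer (Q : Set G) :=
    centralizer_le hQS
  have hZp : IsPGroup 3 Z := S.2.to_le (hZ ▸ inf_le_left)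
  have hZQ : Z ≤ Q := by
    haveI : (Z.subgroupOf N).Normal := by
      rw [hNdef]; exact inferInstance
    rw [hQ]
    intro x hx
    exact ⟨⟨x, le_normalizer hx⟩, ComponentsCores.le_pCore'
      (hZp.of_equiv (subgroupOfEquivOfLe le_normalizer).symm) (mem_subgroupOf.2 hx), rfl⟩
  have hZC : Z ≤ Q ⊓ centralizer (Q : Set G) := le_inf hZQ ((hZ ▸ inf_le_right).trans hZcent)
  have hcQ : Nat.card (Q ⊓ centralizer (Q : Set G) : Subgroup G) = 3 := by
    rw [← hQex.2]
    refine Nat.card_congr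
      { toFun := fun x => ⟨⟨x, x.2.1⟩, mem_center_iff.2 fun y =>
          Subtype.ext (mem_centralizer_iff.1 x.2.2 y y.2)⟩
        invFun := fun x => ⟨x.1.1, x.1.2, mem_centralizer_iff.2 fun y hy =>
          congrArg Subtype.val (mem_center_iff.1 x.2 ⟨y, hy⟩)⟩
        left_inv := fun x => rfl
        right_inv := fun x => rfl }
  have hZeq : Z = Q ⊓ centralizer (Q : Set G) := by
    refine eq_of_le_of_card_ge hZC ?_
    obtain ⟨n, hn⟩ := IsPGroup.iff_card.1 hZp
    rw [hcQ, hn]
    rcases n with _ | n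
    · exact absurd (eq_bot_of_card_eq Z (by rw [hn, pow_zero])) hZne
    · exact le_of_le_of_eq (Nat.le_of_dvd (by positivity) (dvd_pow_self 3 n.succ_ne_zero)) rfl
  have hZcard : Nat.card Z = 3 := hZeq ▸ hcQ
  obtain ⟨z, hz⟩ : ∃ z, zpowers z = Z := by
    obtain ⟨w, hw⟩ := (isCyclic_of_prime_card hZcard).exists_generator
    refine ⟨w, le_antisymm (zpowers_le.2 w.2) fun x hx => ?_⟩
    obtain ⟨i, hi⟩ := hw ⟨x, hx⟩
    exact ⟨i, congrArg Subtype.val hi⟩
  have hzo : orderOf z = 3 := by rw [← Nat.card_zpowers, hz, hZcard]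
  have hL3 : ∀ g ∈ N, (∃ k : ℕ, orderOf g = 3 ^ k) → g ∈ L₀ := fun g hg hk =>
    hL₀ ▸ subset_closure ⟨hg, hk⟩
  have hSL : (S : Subgroup G) ≤ L₀ := fun s hs => hL3 s (hSN hs) (by
    obtain ⟨k, hk⟩ := IsPGroup.iff_orderOf.1 S.2 ⟨s, hs⟩
    exact ⟨k, by rwa [Subgroup.orderOf_mk] at hk⟩)
  have hS729 : Nat.card (S : Subgroup G) = 729 := by
    have hLcard : Nat.card L₀ = 3 ^ 6 * 40 := by
      rw [← (Q.subgroupOf L₀).index_mul_card, Subgroup.index, Nat.card_congr eL.toEquiv, card_sl25,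
        Nat.card_congr (subgroupOfEquivOfLe hQL).toEquiv, hQcard]
      norm_num
    refine Nat.dvd_antisymm ?_ ?_
    · obtain ⟨n, hn⟩ := IsPGroup.iff_card.1 S.2
      have h := card_dvd_of_le hSL
      rw [hn, hLcard] at h
      have hcop : Nat.Coprime (3 ^ n) 40 := Nat.Coprime.pow_left _ (by norm_num)
      rw [hn]
      exact hcop.dvd_of_dvd_mul_right h
    · have h : 3 ^ 6 ∣ Nat.card G := ((Dvd.intro _ rfl : 3 ^ 6 ∣ 3 ^ 6 * 40).trans
        hLcard.symm.dvd).trans (card_subgroup_dvd_card L₀)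
      exact S.pow_dvd_card_of_pow_dvd_card h
  have hzJ : z ∈ J := z_mem_J_of_alt6 S hS729 (hZ ▸ hZcard)
    (by rw [← hZ, ← hz]; exact mem_zpowers z) hJS (hJcard.trans (by norm_num))
    (fun a ha b hb => congrArg Subtype.val (hJcomm.is_comm.comm ⟨a, ha⟩ ⟨b, hb⟩)) hM₀ hJM eM
  refine ⟨hz ▸ zpowers_le.2 hzJ, hZcard, ?_, fun hcent => ?_⟩
  · set C := centralizer (Z : Set G)
    have hCN : C ≤ N := centralizer_le_normalizer _
    refine le_antisymm ?_ ?_
    · rw [hQ]
      rintro _ ⟨x, hx, rfl⟩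
      haveI : (C.subgroupOf N).Normal := ⟨fun c hc m => mem_subgroupOf.2
        ((mem_normalizer_iff.1 (normalizer_le_normalizer_centralizer Z m.2) c).1
          (mem_subgroupOf.1 hc))⟩
      haveI : (((Cfsg.pCore 3 C).map C.subtype).subgroupOf N).Normal := ⟨fun c hc m =>
        mem_subgroupOf.2 ((mem_normalizer_iff.1 (normalizer_le_normalizer_map (fun e =>
          ComponentsCores.pCore_map_mulEquiv e 3) (normalizer_le_normalizer_centralizer Z m.2)) c).1
          (mem_subgroupOf.1 hc))⟩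
      refine ⟨⟨x, hCN x.2⟩, ComponentsCores.le_pCore' ((((ComponentsCores.isPGroup_pCore 3).map
        C.subtype).of_equiv (subgroupOfEquivOfLe ((map_subtype_le _).trans hCN)).symm))
        (mem_subgroupOf.2 ⟨x, hx, rfl⟩), rfl⟩
    · have hQC : Q ≤ C := fun q hq => mem_centralizer_iff.2 fun y hy =>
        (mem_centralizer_iff.1 ((hZeq.le hy).2) q hq).symm
      haveI : (Q.subgroupOf C).Normal := ⟨fun c hc m => mem_subgroupOf.2
        ((mem_normalizer_iff.1 (hQnorm (hCN m.2)) c).1 (mem_subgroupOf.1 hc))⟩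
      intro q hq
      exact ⟨⟨q, hQC hq⟩, ComponentsCores.le_pCore' (hQp.of_equiv (subgroupOfEquivOfLe hQC).symm)
        (mem_subgroupOf.2 hq), rfl⟩
  refine ⟨{
    S := S, z := z, J := J, Q := Q, M0 := M₀, L := L₀
    order_z := hzo
    center_S := hz.trans hZ
    z_mem_Q := hZQ (hz ▸ mem_zpowers z)
    Q_normal := hz ▸ hQnorm
    L_normal := hz ▸ normalizer_le_normalizer_closure hL₀
    Q_le_L := hQL
    L_le := ?_
    card_Q := hQcard.trans (by norm_num)
    exp_Q := hQexp
    center_Q := hZeq.symm.trans hz.symm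
    comm_Q := ?_
    cent_Q := hcent
    Q_sub := hQn
    eL := ⟨eL⟩
    L_three := hz ▸ hL3
    J_le_S := hJS
    J_comm := fun a ha b hb => congrArg Subtype.val (hJcomm.is_comm.comm ⟨a, ha⟩ ⟨b, hb⟩)
    J_exp := hJexp
    card_J := hJcard.trans (by norm_num)
    J_le_M0 := hJM
    M0_le := hM₀ ▸ (closure_le _).2 fun g hg => hg.1
    M0_normal := normalizer_le_normalizer_closure hM₀
    J_sub := hJn
    eM := ⟨eM⟩
    M0_three := fun g hg hk => hM₀ ▸ subset_closure ⟨hg, hk⟩ }, hz, rfl⟩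
  · rw [hL₀, closure_le]
    intro g hg
    exact mem_centralizer_singleton_iff.2 (three_cent hzo (hz.symm ▸ hg.1) hg.2)
  · intro a ha b hb
    rw [hz, hZeq]
    have h : ⁅(⟨a, ha⟩ : Q), ⟨b, hb⟩⁆ ∈ center Q := by
      rw [← hQex.1.2.2]
      exact Subgroup.commutator_mem_commutator (mem_top _) (mem_top _)
    refine ⟨Q.mul_mem (Q.mul_mem (Q.mul_mem ha hb) (Q.inv_mem ha)) (Q.inv_mem hb),
      mem_centralizer_iff.2 fun y hy => ?_⟩
    simpa [commutatorElement_def] using congrArg Subtype.val (mem_center_iff.1 h ⟨y, hy⟩)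

theorem centralizer_zpowers_eq (z : G) :
    centralizer (zpowers z : Set G) = centralizer ({z} : Set G) := by
  rw [zpowers_eq_closure, centralizer_closure]

theorem exists_data_fstar_aux (Z : Subgroup G) (hZ : Nat.card Z = 3)
    (M : Subgroup G) (hMdef : M = centralizer (Z : Set G)) (S : Sylow 3 M) (J : Subgroup G)
    (hJS : J ≤ (S : Subgroup M).map M.subtype)
    (hJ : Cfsg.IsElementaryAbelian 3 J) (hJcard : Nat.card J = 3 ^ 4)
    (hQ : Cfsg.IsExtraspecial 3 (Cfsg.generalizedFittingSubgroup M))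
    (hQcard : Nat.card (Cfsg.generalizedFittingSubgroup M) = 3 ^ 5)
    [hQn : (Cfsg.generalizedFittingSubgroup M).Normal]
    (hexp : ∀ x ∈ Cfsg.generalizedFittingSubgroup M, x ^ 3 = 1)
    (hFMQ : Nonempty (Cfsg.generalizedFittingSubgroup (M ⧸
        Cfsg.generalizedFittingSubgroup M) ≃* SL25))
    [hJn : (J.subgroupOf (normalizer (J : Set G))).Normal]
    (hA6 : Nonempty (closure {x : normalizer (J : Set G) ⧸ J.subgroupOf (normalizer (J : Set G)) |
        ∃ k : ℕ, orderOf x = 3 ^ k} ≃* alternatingGroup (Fin 6))) :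
    ∃ d : Data G, zpowers d.z = Z ∧ d.J = J := by
  haveI : Fact (Nat.Prime 3) := ⟨Nat.prime_three⟩
  obtain ⟨z, hz⟩ : ∃ z, zpowers z = Z := by
    obtain ⟨w, hw⟩ := (isCyclic_of_prime_card hZ).exists_generator
    refine ⟨w, le_antisymm (zpowers_le.2 w.2) fun x hx => ?_⟩
    obtain ⟨i, hi⟩ := hw ⟨x, hx⟩
    exact ⟨i, congrArg Subtype.val hi⟩
  have hzo : orderOf z = 3 := by rw [← Nat.card_zpowers, hz, hZ]
  have hMz : M = centralizer ({z} : Set G) := by rw [hMdef, ← hz, centralizer_zpowers_eq]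
  set F := Cfsg.generalizedFittingSubgroup M with hFdef
  set Q : Subgroup G := F.map M.subtype with hQdef
  have hQM : Q ≤ M := map_subtype_le _
  have hQc : Nat.card Q = 243 := by
    rw [hQdef, card_map_of_injective M.subtype_injective, hQcard]; norm_num
  have hmemQ : ∀ (x : G) (hx : x ∈ M), x ∈ Q ↔ (⟨x, hx⟩ : M) ∈ F := fun x hx =>
    ⟨fun ⟨y, hy, e⟩ => by rwa [show (⟨x, hx⟩ : M) = y from Subtype.ext e.symm],
      fun h => ⟨_, h, rfl⟩⟩
  have hzM : z ∈ M := by rw [hMz, mem_centralizer_singleton_iff]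
  have hzcen : (⟨z, hzM⟩ : M) ∈ centralizer (F : Set M) := mem_centralizer_iff.2 fun y _ =>
    Subtype.ext (mem_centralizer_singleton_iff.1 (hMz.le y.2))
  have hzF : (⟨z, hzM⟩ : M) ∈ F := ComponentsFitting.centralizer_gen_le hzcen
  have hzQ : z ∈ Q := (hmemQ z hzM).2 hzF
  have hcentQ : centralizer (Q : Set G) ≤ Q := by
    intro g hg
    have hgM : g ∈ M := hMz.ge (mem_centralizer_singleton_iff.2 (mem_centralizer_iff.1 hg z hzQ).symm)
    refine (hmemQ g hgM).2 (ComponentsFitting.centralizer_gen_le (mem_centralizer_iff.2 ?_))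
    exact fun y hy => Subtype.ext (mem_centralizer_iff.1 hg _ ⟨y, hy, rfl⟩)
  have hcenQ : Q ⊓ centralizer (Q : Set G) = zpowers z := by
    refine le_antisymm ?_ (zpowers_le.2 ⟨hzQ, mem_centralizer_iff.2 fun y hy =>
      mem_centralizer_singleton_iff.1 (hMz.le (hQM hy))⟩)
    intro g hg
    have hgM := hQM hg.1
    let gF : F := ⟨⟨g, hgM⟩, (hmemQ g hgM).1 hg.1⟩
    let zF : F := ⟨⟨z, hzM⟩, hzF⟩
    have hgc : gF ∈ center F := mem_center_iff.2 fun y => Subtype.ext (Subtype.ext
      (mem_centralizer_iff.1 hg.2 _ ⟨(y : M), y.2, rfl⟩))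
    have hzc : zF ∈ center F := mem_center_iff.2 fun y =>
      Subtype.ext (mem_centralizer_iff.1 hzcen (y : M) y.2)
    have hzne : zF ≠ 1 := fun h => by
      have h' : z = 1 := congrArg (fun w : F => ((w : M) : G)) h
      rw [h', orderOf_one] at hzo
      omega
    have htop : zpowers zF = center F := by
      refine eq_of_le_of_card_ge (zpowers_le.2 hzc) ?_
      rw [hQ.2, Nat.card_zpowers, orderOf_eq_prime (Subtype.ext (Subtype.ext (by
        show z ^ 3 = 1
        rw [← hzo, pow_orderOf_eq_one]))) hzne]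
    obtain ⟨i, hi⟩ := htop.ge hgc
    exact ⟨i, congrArg (fun w : F => ((w : M) : G)) hi⟩
  have hcommQ : ∀ a ∈ Q, ∀ b ∈ Q, a * b * a⁻¹ * b⁻¹ ∈ zpowers z := by
    intro a ha b hb
    rw [← hcenQ]
    have h : ⁅(⟨⟨a, hQM ha⟩, (hmemQ a (hQM ha)).1 ha⟩ : F), ⟨⟨b, hQM hb⟩, (hmemQ b (hQM hb)).1 hb⟩⁆ ∈
        center F := by
      rw [← hQ.1.2.2]
      exact Subgroup.commutator_mem_commutator (mem_top _) (mem_top _)
    refine ⟨Q.mul_mem (Q.mul_mem (Q.mul_mem ha hb) (Q.inv_mem ha)) (Q.inv_mem hb),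
      mem_centralizer_iff.2 fun y hy => ?_⟩
    simpa [commutatorElement_def] using congrArg (fun w : F => ((w : M) : G))
      (mem_center_iff.1 h ⟨⟨y, hQM hy⟩, (hmemQ y (hQM hy)).1 hy⟩)
  set Kb := Cfsg.generalizedFittingSubgroup (M ⧸ F) with hKbdef
  set L' : Subgroup M := Kb.comap (QuotientGroup.mk' F) with hL'def
  set L : Subgroup G := L'.map M.subtype with hLdef
  have hFL : F ≤ L' := fun f hf => by
    rw [hL'def, mem_comap, show QuotientGroup.mk' F f = 1 from (QuotientGroup.eq_one_iff f).2 hf]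
    exact one_mem _
  have hQL : Q ≤ L := map_mono hFL
  have hQeq : ∀ e : M ≃* M, F.map e.toMonoidHom = F := fun e => ComponentsFitting.gen_map_mulEquiv e
  have hNM : normalizer (Z : Set G) ≤ normalizer (M : Set G) :=
    hMdef ▸ normalizer_le_normalizer_centralizer Z
  have hNQ : normalizer (Z : Set G) ≤ normalizer (Q : Set G) :=
    hNM.trans (normalizer_le_normalizer_map hQeq)
  have hL'map : ∀ e : M ≃* M, L'.map e.toMonoidHom = L' := by
    intro e
    refine le_antisymm ?_ ?_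
    · rintro _ ⟨x, hx, rfl⟩
      have h := (ComponentsFitting.gen_map_mulEquiv (QuotientGroup.congr F F e (hQeq e))).le
        ⟨_, hx, rfl⟩
      exact h
    · intro x hx
      have h := (ComponentsFitting.gen_map_mulEquiv
        (QuotientGroup.congr F F e.symm (hQeq e.symm))).le ⟨_, hx, rfl⟩
      exact ⟨e.symm x, h, e.apply_symm_apply x⟩
  have hNL : normalizer (Z : Set G) ≤ normalizer (L : Set G) :=
    hNM.trans (normalizer_le_normalizer_map hL'map)
  have hQsub : (Q.subgroupOf L).Normal := ⟨fun q hq m => mem_subgroupOf.2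
    ((mem_normalizer_iff.1 (hNQ (centralizer_le_normalizer _ (hMdef.le (map_subtype_le _ m.2)))) q).1
      (mem_subgroupOf.1 hq))⟩
  haveI := hQsub
  -- `L / Q`
  let φ : L →* Kb :=
    { toFun := fun x => ⟨QuotientGroup.mk' F ⟨x, map_subtype_le _ x.2⟩, by
        obtain ⟨y, hy, e⟩ := x.2
        rw [show (⟨(x : G), map_subtype_le _ x.2⟩ : M) = y from Subtype.ext e.symm]
        exact hy⟩
      map_one' := rfl
      map_mul' := fun x y => Subtype.ext (map_mul (QuotientGroup.mk' F) ⟨x, map_subtype_le _ x.2⟩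
        ⟨y, map_subtype_le _ y.2⟩) }
  have hφs : Function.Surjective φ := by
    rintro ⟨w, hw⟩
    obtain ⟨y, rfl⟩ := QuotientGroup.mk'_surjective F w
    exact ⟨⟨y, ⟨y, hw, rfl⟩⟩, rfl⟩
  have hφk : φ.ker = Q.subgroupOf L := by
    ext x
    rw [MonoidHom.mem_ker, mem_subgroupOf]
    constructor
    · intro h
      exact (hmemQ _ (map_subtype_le _ x.2)).2 ((QuotientGroup.eq_one_iff _).1 (congrArg Subtype.val h))
    · intro h
      exact Subtype.ext ((QuotientGroup.eq_one_iff _).2 ((hmemQ _ (map_subtype_le _ x.2)).1 h))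
  obtain ⟨eK⟩ := hFMQ
  have eL : L ⧸ Q.subgroupOf L ≃* SL25 :=
    (QuotientGroup.quotientMulEquivOfEq hφk.symm).trans
      ((QuotientGroup.quotientKerEquivOfSurjective φ hφs).trans eK)
  haveI : Kb.Normal := ComponentsFitting.gen_normal
  have hL3 : ∀ g ∈ normalizer (Z : Set G), (∃ k : ℕ, orderOf g = 3 ^ k) → g ∈ L := by
    intro g hg ⟨k, hk⟩
    have hgM : g ∈ M := hMz.ge (mem_centralizer_singleton_iff.2
      (three_cent hzo (hz.symm ▸ hg) ⟨k, hk⟩))
    refine ⟨⟨g, hgM⟩, ?_, rfl⟩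
    refine three_mem_of_sl25 Kb eK ComponentsFitting.centralizer_gen_le ?_
    obtain ⟨j, -, hj⟩ := (Nat.dvd_prime_pow Nat.prime_three).1
      ((orderOf_map_dvd (QuotientGroup.mk' F) ⟨g, hgM⟩).trans
        (by rw [Subgroup.orderOf_mk, hk]))
    exact ⟨j, hj⟩
  -- the Sylow subgroup
  set S' : Subgroup G := (S : Subgroup M).map M.subtype with hS'def
  have hS'p : IsPGroup 3 S' := S.2.map _
  have hFS : F ≤ (S : Subgroup M) :=
    (S.3 (S.2.to_sup_of_normal_right (K := F) (IsPGroup.of_card hQcard)) le_sup_left).le.trans'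
      le_sup_right
  have hQS : Q ≤ S' := map_mono hFS
  have hS'M : S' ≤ M := map_subtype_le _
  have hcenS : S' ⊓ centralizer (S' : Set G) = zpowers z := by
    refine le_antisymm ?_ (zpowers_le.2 ⟨hQS hzQ, mem_centralizer_iff.2 fun y hy =>
      mem_centralizer_singleton_iff.1 (hMz.le (hS'M hy))⟩)
    intro g hg
    have hgc : g ∈ centralizer (Q : Set G) := centralizer_le hQS hg.2
    rw [← hcenQ]
    exact ⟨hcentQ hgc, hgc⟩
  obtain ⟨R, hR⟩ := hS'p.exists_le_sylow
  have hReq : (R : Subgroup G) = S' := by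
    by_contra hne
    have hlt : S' < R := lt_of_le_of_ne hR (Ne.symm hne)
    haveI := R.2.isNilpotent
    have hlt' : S'.subgroupOf R < ⊤ :=
      lt_top_iff_ne_top.2 fun e => hlt.not_ge (subgroupOf_eq_top.1 e)
    obtain ⟨t, htn, htS⟩ := SetLike.exists_of_lt (normalizerCondition_of_isNilpotent _ hlt')
    have htS' : (t : G) ∈ normalizer (S' : Set G) := by
      rw [mem_normalizer_iff]
      intro g
      constructor
      · intro hg
        have := (mem_normalizer_iff.1 htn ⟨g, hR hg⟩).1 (mem_subgroupOf.2 hg)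
        exact mem_subgroupOf.1 this
      · intro hg
        have hgR : g ∈ (R : Subgroup G) := by
          have := mul_mem (mul_mem (inv_mem t.2) (hR hg)) t.2
          simpa [mul_assoc] using this
        exact mem_subgroupOf.1 ((mem_normalizer_iff.1 htn ⟨g, hgR⟩).2 (mem_subgroupOf.2 hg))
    have hk : ∃ k : ℕ, orderOf (t : G) = 3 ^ k := by
      obtain ⟨k, hk⟩ := IsPGroup.iff_orderOf.1 R.2 t
      exact ⟨k, by rwa [Subgroup.orderOf_coe]⟩
    have htM : (t : G) ∈ M := by
      refine hMz.ge (mem_centralizer_singleton_iff.2 (three_cent hzo ?_ hk))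
      rw [← hcenS, mem_normalizer_iff]
      intro g
      have h1 := normalizer_le_normalizer_centralizer S' htS'
      exact and_congr (mem_normalizer_iff.1 htS' g) (mem_normalizer_iff.1 h1 g)
    let P : Subgroup M := (R : Subgroup G).subgroupOf M
    have hP : IsPGroup 3 P := R.2.comap_subtype
    have hSP : (S : Subgroup M) ≤ P := fun s hs => mem_subgroupOf.2 (hR ⟨s, hs, rfl⟩)
    have hPS := S.3 hP hSP
    refine htS (mem_subgroupOf.2 ⟨⟨t, htM⟩, ?_, rfl⟩)
    rw [← hPS]
    exact mem_subgroupOf.2 t.2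
  -- `N(J)`
  set N := normalizer (J : Set G) with hNdef
  set J' := J.subgroupOf N with hJ'def
  set Mb := closure {x : N ⧸ J' | ∃ k : ℕ, orderOf x = 3 ^ k} with hMbdef
  haveI : Mb.Normal := ⟨fun a ha b => by
    have hle : Mb.map (MulAut.conj b).toMonoidHom ≤ Mb := by
      rw [hMbdef, MonoidHom.map_closure]
      refine closure_mono ?_
      rintro _ ⟨y, ⟨k, hk⟩, rfl⟩
      exact ⟨k, by rw [← hk]; exact (MulAut.conj b).orderOf_eq y⟩
    exact hle ⟨a, ha, rfl⟩⟩
  set M0' : Subgroup N := Mb.comap (QuotientGroup.mk' J') with hM0'def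
  set M0 : Subgroup G := M0'.map N.subtype with hM0def
  have hJM0 : J ≤ M0 := fun j hj => ⟨⟨j, le_normalizer hj⟩, by
    rw [SetLike.mem_coe, hM0'def, mem_comap, show QuotientGroup.mk' J' ⟨j, le_normalizer hj⟩ = 1 from
      (QuotientGroup.eq_one_iff _).2 (mem_subgroupOf.2 hj)]
    exact one_mem _, rfl⟩
  have hJsub : (J.subgroupOf M0).Normal := ⟨fun q hq m => mem_subgroupOf.2
    ((mem_normalizer_iff.1 (map_subtype_le M0' m.2) q).1 (mem_subgroupOf.1 hq))⟩
  haveI := hJsub
  let χ : M0 →* Mb :=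
    { toFun := fun x => ⟨QuotientGroup.mk' J' ⟨x, map_subtype_le _ x.2⟩, by
        obtain ⟨y, hy, e⟩ := x.2
        rw [show (⟨(x : G), map_subtype_le _ x.2⟩ : N) = y from Subtype.ext e.symm]
        exact hy⟩
      map_one' := rfl
      map_mul' := fun x y => Subtype.ext (map_mul (QuotientGroup.mk' J') ⟨x, map_subtype_le _ x.2⟩
        ⟨y, map_subtype_le _ y.2⟩) }
  have hχs : Function.Surjective χ := by
    rintro ⟨w, hw⟩
    obtain ⟨y, rfl⟩ := QuotientGroup.mk'_surjective J' w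
    exact ⟨⟨y, ⟨y, hw, rfl⟩⟩, rfl⟩
  have hχk : χ.ker = J.subgroupOf M0 := by
    ext x
    rw [MonoidHom.mem_ker, mem_subgroupOf]
    constructor
    · intro h
      have h' : QuotientGroup.mk' J' ⟨(x : G), map_subtype_le _ x.2⟩ = 1 := congrArg Subtype.val h
      rw [QuotientGroup.mk'_apply, QuotientGroup.eq_one_iff] at h'
      exact mem_subgroupOf.1 h'
    · intro h
      exact Subtype.ext ((QuotientGroup.eq_one_iff _).2 (mem_subgroupOf.2 h))
  obtain ⟨eA⟩ := hA6
  have hJR : J ≤ (R : Subgroup G) := fun j hj => by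
    obtain ⟨y, hy, rfl⟩ := hJS hj
    exact hR ⟨y, hy, rfl⟩
  refine ⟨{
    S := R, z := z, J := J, Q := Q, M0 := M0, L := L
    order_z := hzo
    center_S := by rw [hReq]; exact hcenS.symm
    z_mem_Q := hzQ
    Q_normal := by rw [hz]; exact hNQ
    L_normal := by rw [hz]; exact hNL
    Q_le_L := hQL
    L_le := hMz ▸ map_subtype_le _
    card_Q := hQc
    exp_Q := by
      rintro _ ⟨y, hy, rfl⟩
      exact congrArg Subtype.val (hexp y hy)
    center_Q := hcenQ
    comm_Q := hcommQ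
    cent_Q := hcentQ
    Q_sub := hQsub
    eL := ⟨eL⟩
    L_three := by rw [hz]; exact hL3
    J_le_S := hJR
    J_comm := fun a ha b hb => congrArg Subtype.val (hJ.1.is_comm.comm ⟨a, ha⟩ ⟨b, hb⟩)
    J_exp := hJ.2
    card_J := hJcard.trans (by norm_num)
    J_le_M0 := hJM0
    M0_le := map_subtype_le _
    M0_normal := ?_
    J_sub := hJsub
    eM := ⟨(QuotientGroup.quotientMulEquivOfEq hχk.symm).trans
      ((QuotientGroup.quotientKerEquivOfSurjective χ hχs).trans eA)⟩
    M0_three := ?_ }, hz, rfl⟩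
  · intro m hm
    have key : ∀ m ∈ N, ∀ g ∈ M0, m * g * m⁻¹ ∈ M0 := by
      rintro m hm _ ⟨g, hg, rfl⟩
      exact ⟨⟨m, hm⟩ * g * ⟨m, hm⟩⁻¹, (inferInstance : M0'.Normal).conj_mem g hg _, rfl⟩
    rw [mem_normalizer_iff]
    refine fun g => ⟨key m hm g, fun h => ?_⟩
    have := key _ (inv_mem hm) _ h
    simpa [mul_assoc] using this
  · intro g hg ⟨k, hk⟩
    refine ⟨⟨g, hg⟩, ?_, rfl⟩
    refine mem_comap.2 (subset_closure ?_)
    obtain ⟨j, -, hj⟩ := (Nat.dvd_prime_pow Nat.prime_three).1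
      ((orderOf_map_dvd (QuotientGroup.mk' J') ⟨g, hg⟩).trans
        (by rw [Subgroup.orderOf_mk, hk]))
    exact ⟨j, hj⟩

/-- The data from the hypotheses of S2913. -/
theorem exists_data_fstar (Z : Subgroup G) (hZ : Nat.card Z = 3)
    (S : Sylow 3 (centralizer (Z : Set G))) (J : Subgroup G)
    (hJS : J ≤ (S : Subgroup (centralizer (Z : Set G))).map (centralizer (Z : Set G)).subtype)
    (hJ : Cfsg.IsElementaryAbelian 3 J) (hJcard : Nat.card J = 3 ^ 4)
    (hQ : Cfsg.IsExtraspecial 3 (Cfsg.generalizedFittingSubgroup (centralizer (Z : Set G))))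
    (hQcard : Nat.card (Cfsg.generalizedFittingSubgroup (centralizer (Z : Set G))) = 3 ^ 5)
    [hQn : (Cfsg.generalizedFittingSubgroup (centralizer (Z : Set G))).Normal]
    (hexp : ∀ x ∈ Cfsg.generalizedFittingSubgroup (centralizer (Z : Set G)), x ^ 3 = 1)
    (hFMQ : Nonempty (Cfsg.generalizedFittingSubgroup (centralizer (Z : Set G) ⧸
        Cfsg.generalizedFittingSubgroup (centralizer (Z : Set G))) ≃* SL25))
    [hJn : (J.subgroupOf (normalizer (J : Set G))).Normal]
    (hA6 : Nonempty (closure {x : normalizer (J : Set G) ⧸ J.subgroupOf (normalizer (J : Set G)) |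
        ∃ k : ℕ, orderOf x = 3 ^ k} ≃* alternatingGroup (Fin 6))) :
    ∃ d : Data G, zpowers d.z = Z ∧ d.J = J :=
  exists_data_fstar_aux Z hZ _ rfl S J hJS hJ hJcard hQ hQcard hexp hFMQ hA6

end Data

end Cfsg.Agent.McL3x39
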