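import Mathlib
import Cfsg.Agent.Lib.McL3Cfg77

/-!
# S5523, S2913: the configuration has `J` normal

Two steps of character theory: a normal subgroup of index divisible by three containing the sign
changes, and inside it normal subgroups missing each basis vector.
-/

set_option autoImplicit false
set_option linter.unusedSectionVars false

namespace Cfsg.Agent.McL3Cfg77

open Cfsg.Agent.McL3Chars77 Cfsg.Agent.BlockPCount9
open Cfsg Cfsg.Agent.CharBasic Cfsg.Agent.CharBasicOrth Cfsg.Agent.CharBasicDecomp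
open scoped ComplexConjugate

attribute [local instance] Classical.propDecidable

instance fact_three : Fact (Nat.Prime 3) := ⟨Nat.prime_three⟩

theorem rep_shift : ∀ (i : ZMod 3) (d : V3), i ≠ 0 →
    ∃ (a : V3) (x : ZMod 3), a + d - sh i a = Pi.single 0 x := by decide +kernel

theorem shift_commutes_smul : ∀ (i x : ZMod 3), sh i (x • (1 : V3)) = x • (1 : V3) := by decide +kernel

theorem fl_inj : ∀ o o' : Option (ZMod 3), (∀ d, fl o d = fl o' d) → o = o' := by decide +kernel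

theorem fl_sh : ∀ (i : ZMod 3) (d : V3),
    fl (some (i + 1)) (sh 1 (fl (some i) (sh (-1) d))) = d := by decide +kernel

theorem fl_nonzero : ∀ (o : Option (ZMod 3)) (d : V3) (i : ZMod 3), d i ≠ 0 → fl o d i ≠ 0 := by
  decide +kernel

theorem fl_fix_pair : ∀ (o : Option (ZMod 3)) (d : V3), (∃ i, d i = 0) →
    ¬ (∃ i x, d = Pi.single i x) → fl o d = d → o = none := by decide +kernel

theorem fl_neg_cases : ∀ (o : Option (ZMod 3)) (d : V3) (i : ZMod 3), d i ≠ 0 → fl o d = -d →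
    ∃ j, o = some j ∧ j ≠ i := by decide +kernel

theorem fl_half : ∀ (j : ZMod 3) (b : V3), b j = 0 →
    (b + b) - fl (some j) (b + b) = b := by decide +kernel

theorem fl_fixed : ∀ (j : ZMod 3) (d : V3), fl (some j) d = d → d = d j • (Pi.single j 1 : V3) := by
  decide +kernel

theorem fl_single_ne : ∀ (o : Option (ZMod 3)) (i j x : ZMod 3), i ≠ j →
    fl o (Pi.single i 1) ≠ x • (Pi.single j 1 : V3) := by decide +kernel

theorem single_of_smul : ∀ (q : M24) (x : ZMod 3) (a : V3),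
    act q (Pi.single 0 1) = x • a → (∃ i y, a = Pi.single i y) ∨ act q (Pi.single 0 1) = 0 := by
  decide +kernel

theorem act_single_ne : ∀ q : M24, act q (Pi.single 0 1) ≠ 0 := by decide +kernel

theorem kill_off : ∀ (o : ZMod 3), o ≠ 0 →
    (fl (some o) (Pi.single 0 1) - (Pi.single 0 1 : V3)) 0 ≠ 0 := by decide +kernel

/-- The projection giving 3-parts. -/
def proj : Option (ZMod 3) → V3 → V3
  | none, d => d
  | some j, d => Pi.single j (d j)

theorem card_good : ∀ i : ZMod 3,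
    Fintype.card {p : V3 × Option (ZMod 3) // proj p.2 p.1 i ≠ 0} = 36 := by decide +kernel

/-- A primitive cube root of unity. -/
noncomputable def w : ℂ := Complex.exp (2 * Real.pi * Complex.I / 3)

theorem w_prim : IsPrimitiveRoot w 3 := by
  simpa [w] using Complex.isPrimitiveRoot_exp 3 (by norm_num)

theorem w_cube : w ^ 3 = 1 := w_prim.pow_eq_one

theorem w_sum : 1 + w + w ^ 2 = 0 := by
  have h := w_prim.geom_sum_eq_zero (by norm_num)
  simpa [Finset.sum_range_succ] using h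

theorem w_ne : w ≠ w ^ 2 := fun h => w_prim.ne_one (by norm_num) (by
  have h0 : w ≠ 0 := w_prim.ne_zero (by norm_num)
  have h1 : w * 1 = w * w := by rw [mul_one, ← pow_two]; exact h
  exact (mul_left_cancel₀ h0 h1).symm)

theorem conj_w : conj w = w ^ 2 := by
  rw [← Complex.inv_eq_conj (Complex.norm_eq_one_of_pow_eq_one w_cube (by norm_num))]
  exact inv_eq_of_mul_eq_one_right (by rw [← w_cube]; ring)

/-- The character `i ↦ ω ^ i` of the cyclic group of order three. -/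
noncomputable def chi (i : ZMod 3) : ℂˣ := (Units.mk0 w (w_prim.ne_zero (by norm_num))) ^ i.val

theorem chi_add (i j : ZMod 3) : chi (i + j) = chi i * chi j := by
  rw [chi, chi, chi, ← pow_add]
  refine pow_eq_pow_iff_modEq.2 (Nat.ModEq.of_dvd (orderOf_dvd_of_pow_eq_one (n := 3)
    (Units.ext (by simpa using w_cube))) ?_)
  rw [ZMod.val_add]
  exact Nat.mod_modEq _ _

theorem chi_val (i : ZMod 3) : (chi i : ℂ) = w ^ i.val := by simp [chi]

namespace Cfg

variable {C : Type*} [Group C] [Finite C] (c : Cfg C)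

/-- The meet of `P` with a centralizer. -/
def Eu (u : C) : Subgroup C := (c.P : Subgroup C) ⊓ Subgroup.centralizer ({u} : Set C)

theorem mul_rep (d d' : V3) (i j : ZMod 3) :
    c.el d * c.sp i * (c.el d' * c.sp j) = c.el (d + sh i d') * c.sp (i + j) := by
  rw [c.el_add, c.sp_add, ← c.acts_sp i d']
  group

theorem pow_rep (d : V3) (i : ZMod 3) : ∀ n : ℕ,
    ∃ d', (c.el d * c.sp i) ^ n = c.el d' * c.sp (n * i)
  | 0 => ⟨0, by simp [el_zero, sp_zero]⟩
  | n + 1 => by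
      obtain ⟨d', h⟩ := pow_rep d i n
      exact ⟨_, by rw [pow_succ, h, c.mul_rep, Nat.cast_succ, add_mul, one_mul]⟩

theorem rep_inj {d d' : V3} {i j : ZMod 3} (h : c.el d * c.sp i = c.el d' * c.sp j) : i = j := by
  by_contra hne
  refine c.sp_notMem (i := i - j) (sub_ne_zero.2 hne) ?_
  have h1 : c.sp (i - j) = (c.el d)⁻¹ * c.el d' := by
    rw [sub_eq_add_neg, c.sp_add, c.sp_neg, eq_inv_mul_iff_mul_eq, ← mul_assoc, h, mul_inv_cancel_right]
  rw [h1]
  exact mul_mem (inv_mem (c.el_mem d)) (c.el_mem d')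

theorem const_comm {u : C} (hu : u ∈ (c.P : Subgroup C)) (x : ZMod 3) :
    u * c.el (x • 1) = c.el (x • 1) * u := by
  obtain ⟨d, i, rfl⟩ := c.exists_rep hu
  refine mul_inv_eq_iff_eq_mul.1 ?_
  rw [c.acts_px d i, shift_commutes_smul]

theorem const_mem_Eu {u : C} (hu : u ∈ (c.P : Subgroup C)) (x : ZMod 3) : c.el (x • 1) ∈ c.Eu u :=
  ⟨c.e_mem_P (c.el_mem _), Subgroup.mem_centralizer_singleton_iff.2 (c.const_comm hu x).symm⟩

theorem Eu_card {u : C} (hu : u ∈ (c.P : Subgroup C)) (huJ : u ∉ c.J) :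
    Nat.card (c.Eu u) = 9 ∧ ∀ y ∈ c.Eu u, ∃ (k : ℕ) (x : ZMod 3), y = u ^ k * c.el (x • 1) := by
  obtain ⟨d, i, hud⟩ := c.exists_rep hu
  have hi : i ≠ 0 := fun h => huJ (hud ▸ c.px_notMem.2 h)
  have huE : u ∈ c.Eu u := ⟨hu, Subgroup.mem_centralizer_singleton_iff.2 rfl⟩
  let f : ZMod 3 × ZMod 3 → c.Eu u := fun p =>
    ⟨u ^ p.1.val * c.el (p.2 • 1), mul_mem (pow_mem huE _) (c.const_mem_Eu hu _)⟩
  have hf : Function.Injective f := by
    rintro ⟨k, x⟩ ⟨l, y⟩ h
    replace h : u ^ k.val * c.el (x • 1) = u ^ l.val * c.el (y • 1) := congrArg Subtype.val h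
    obtain ⟨dk, hk⟩ := c.pow_rep d i k.val
    obtain ⟨dl, hl⟩ := c.pow_rep d i l.val
    have hk' := c.mul_rep dk (x • 1) ((k.val : ZMod 3) * i) 0
    have hl' := c.mul_rep dl (y • 1) ((l.val : ZMod 3) * i) 0
    rw [c.sp_zero, mul_one, add_zero] at hk' hl'
    have h2 := h
    rw [hud, hk, hl, hk', hl'] at h2
    have h3 := c.rep_inj h2
    rw [ZMod.natCast_val, ZMod.cast_id, ZMod.natCast_val, ZMod.cast_id] at h3
    have hkl : k = l := mul_right_cancel₀ hi h3
    subst hkl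
    exact Prod.ext rfl (by simpa using congrFun (c.el_inj (mul_left_cancel h)) 0)
  have hle : Nat.card (c.Eu u) ≤ 9 := by
    choose dy iy hy using fun y : c.Eu u => c.exists_rep y.2.1
    have hinj : Function.Injective fun y : c.Eu u => (iy y, dy y 0) := by
      intro a b hab
      simp only [Prod.mk.injEq] at hab
      have hm : c.el (dy a - dy b) ∈ c.Eu u := by
        rw [sub_eq_add_neg, c.el_add, c.el_neg]
        have e1 : c.el (dy a) * (c.el (dy b))⁻¹ = (a : C) * (b : C)⁻¹ := by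
          rw [hy a, hy b, hab.1]; group
        rw [e1]
        exact mul_mem a.2 (inv_mem b.2)
      have h1 := c.P_meet_comm hud hi (Subgroup.mem_centralizer_singleton_iff.1 hm.2).symm
      rw [Pi.sub_apply, hab.2, sub_self, zero_smul, sub_eq_zero] at h1
      exact Subtype.ext (by rw [hy a, hy b, h1, hab.1])
    refine (Nat.card_le_card_of_injective _ hinj).trans ?_
    simp
  have hge : 9 ≤ Nat.card (c.Eu u) := by
    refine le_trans ?_ (Nat.card_le_card_of_injective _ hf)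
    simp
  refine ⟨le_antisymm hle hge, fun y hy => ?_⟩
  obtain ⟨p, hp⟩ := (hf.bijective_of_nat_card_le (hle.trans (by simp))).2 ⟨y, hy⟩
  exact ⟨_, _, (congrArg Subtype.val hp).symm⟩

theorem Eu_comm {u : C} (hu : u ∈ (c.P : Subgroup C)) (huJ : u ∉ c.J) {m : C}
    (hm : m ∈ Subgroup.centralizer ({u} : Set C))
    (h1 : m ∈ Subgroup.centralizer ({c.el 1} : Set C)) {y : C} (hy : y ∈ c.Eu u) : m * y = y * m := by
  obtain ⟨k, x, rfl⟩ := (c.Eu_card hu huJ).2 y hy
  refine (((show Commute m u from Subgroup.mem_centralizer_singleton_iff.1 hm).pow_right k).mul_right ?_).eq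
  rw [c.el_smul]
  exact (show Commute m (c.el 1) from Subgroup.mem_centralizer_singleton_iff.1 h1).pow_right _

/-- The conjugates of the diagonal element lying in `P ∩ C(u)`. -/
theorem diag_conj {u : C} (hu : u ∈ (c.P : Subgroup C)) (huJ : u ∉ c.J) {m : C}
    (h : m * c.el 1 * m⁻¹ ∈ c.Eu u) :
    m ∈ Subgroup.centralizer ({c.el 1} : Set C) ∨ m * c.el 1 * m⁻¹ = c.el (-1) := by
  set y := m * c.el 1 * m⁻¹ with hy
  by_cases hJ : y ∈ c.J
  · obtain ⟨a, ha⟩ := c.exists_el hJ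
    obtain ⟨d, i, hud⟩ := c.exists_rep hu
    have hi : i ≠ 0 := fun h => huJ (hud ▸ c.px_notMem.2 h)
    have hcomm := (Subgroup.mem_centralizer_singleton_iff.1 h.2).symm
    rw [← ha] at hcomm
    have h1 := c.P_meet_comm hud hi hcomm
    have h3 : a 0 = 0 ∨ a 0 = 1 ∨ a 0 = -1 :=
      (by decide : ∀ x : ZMod 3, x = 0 ∨ x = 1 ∨ x = -1) (a 0)
    rcases h3 with e | e | e <;> rw [e] at h1
    · rw [zero_smul] at h1
      rw [h1, c.el_zero, eq_comm, hy, mul_inv_eq_one, mul_eq_left] at ha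
      exact absurd (c.el_inj (ha.trans c.el_zero.symm)) (by decide)
    · left
      rw [one_smul] at h1
      rw [h1] at ha
      exact Subgroup.mem_centralizer_singleton_iff.2 (mul_inv_eq_iff_eq_mul.1 ha.symm)
    · right
      rw [neg_one_smul] at h1
      rw [← ha, h1]
  · exact absurd (isConj_iff.2 ⟨m, rfl⟩ : IsConj (c.el 1) y).symm (c.not_fuse h.1 hJ 1)

theorem neg_mem_N {m : C} (h : m * c.el 1 * m⁻¹ = c.el (-1)) : m ∈ c.N := by
  have hle : c.J.map (MulAut.conj m).toMonoidHom ≤ (c.P : Subgroup C) := by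
    rintro _ ⟨j, hj, rfl⟩
    rw [← c.cent_el_one]
    refine Subgroup.mem_centralizer_singleton_iff.2 ?_
    show m * j * m⁻¹ * c.el 1 = c.el 1 * (m * j * m⁻¹)
    have hc : Commute (m * j * m⁻¹) (c.el (-1)) := by
      rw [← h]
      exact (show Commute j (c.el 1) from c.J_comm hj (c.el_mem 1)).map (MulAut.conj m).toMonoidHom
    rw [c.el_neg] at hc
    exact (Commute.inv_right_iff.1 hc).eq
  have heq := c.J_unique_P hle (by
    rintro _ ⟨x, hx, rfl⟩ _ ⟨y, hy, rfl⟩
    rw [← map_mul, ← map_mul, c.J_comm hx hy])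
    (by rw [← Nat.card_congr (c.J.equivMapOfInjective _ (MulAut.conj _).injective).toEquiv]
        exact c.card_J)
  exact Subgroup.mem_normalizer_fintype fun n hn => heq.le ⟨n, hn, rfl⟩

theorem Eu_three {u : C} (hu : u ∈ (c.P : Subgroup C)) (huJ : u ∉ c.J) {m : C}
    (hm : m ∈ Subgroup.centralizer ({u} : Set C)) (hn : m ∈ Subgroup.normalizer (c.Eu u : Set C)) :
    m ∈ Subgroup.centralizer ({c.el 1} : Set C) := by
  have h1 : c.el 1 ∈ c.Eu u := by simpa using c.const_mem_Eu hu 1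
  rcases c.diag_conj hu huJ ((Subgroup.mem_normalizer_iff.1 hn _).1 h1) with h | h
  · exact h
  exfalso
  obtain ⟨q, hq⟩ := c.exists_act (c.neg_mem_N h)
  have hq1 : act q 1 = -1 := c.el_inj (by rw [← hq, h])
  obtain ⟨d, i, hud⟩ := c.exists_rep hu
  have hi : i ≠ 0 := fun h => huJ (hud ▸ c.px_notMem.2 h)
  obtain ⟨a, ha⟩ := sw_shift q (neg_one q hq1) i hi
  have hu' : c.Acts u (sh i) := hud ▸ c.acts_px d i
  refine ha ?_
  have e1 := (hq.mul hu') a
  have e2 := (hu'.mul hq) a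
  rw [Subgroup.mem_centralizer_singleton_iff.1 hm, e2] at e1
  exact (c.el_inj e1).symm

theorem Eu_sylow {u : C} (hu : u ∈ (c.P : Subgroup C)) (huJ : u ∉ c.J) :
    ∀ m ∈ Subgroup.centralizer ({u} : Set C), (∃ k : ℕ, m ^ 3 ^ k = 1) →
      m ∈ Subgroup.normalizer (c.Eu u : Set C) → m ∈ c.Eu u :=
  fun _ hm _ hn => ⟨c.cent_one (c.Eu_three hu huJ hm hn), hm⟩

theorem Eu_group (u : C) : IsPGroup 3 (c.Eu u) := c.P.2.to_le inf_le_left

/-- The centralizer of an element of `P` outside `J` has a normal 3-complement. -/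
theorem cent_out {u : C} (hu : u ∈ (c.P : Subgroup C)) (huJ : u ∉ c.J) :
    ∃ O : Subgroup C, O ≤ Subgroup.centralizer ({u} : Set C) ∧
      Subgroup.centralizer ({u} : Set C) ≤ Subgroup.normalizer (O : Set C) ∧
      (∀ k, k ∈ O ↔ k * u = u * k ∧ ¬ 3 ∣ orderOf k) ∧
      (∀ k ∈ Subgroup.centralizer ({u} : Set C), ∃ o ∈ O, ∃ y ∈ c.Eu u, o * y = k) ∧
      Nat.card O * 9 = Nat.card (Subgroup.centralizer ({u} : Set C)) ∧
      (∀ k ∈ O, k * c.el 1 = c.el 1 * k → k = 1) := by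
  obtain ⟨O, hO, hn, h3, hmem, hdec, hcard⟩ := exists_complement
    (show c.Eu u ≤ Subgroup.centralizer ({u} : Set C) from inf_le_right) (c.Eu_group u)
    (c.Eu_sylow hu huJ) (fun m hm hn _ hy => c.Eu_comm hu huJ hm (c.Eu_three hu huJ hm hn) hy)
  have hord : ∀ k ∈ O, ¬ 3 ∣ orderOf k := fun k hk hd =>
    h3 (hd.trans ((Subgroup.orderOf_mk k hk).symm.dvd.trans (orderOf_dvd_natCard (⟨k, hk⟩ : O))))
  refine ⟨O, hO, hn, fun k => ⟨fun hk => ⟨Subgroup.mem_centralizer_singleton_iff.1 (hO hk), hord k hk⟩,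
    fun hk => hmem k (Subgroup.mem_centralizer_singleton_iff.2 hk.1) hk.2⟩, hdec,
    by rw [← (c.Eu_card hu huJ).1, hcard], fun k hk hkz => ?_⟩
  obtain ⟨j, hj⟩ := BrauerBlocksPPart.isPEl_of_mem c.P.2
    (c.cent_one (Subgroup.mem_centralizer_singleton_iff.2 hkz))
  cases j with
  | zero => exact orderOf_eq_one_iff.1 (by simpa using hj)
  | succ n => exact absurd (hj ▸ dvd_pow_self 3 (Nat.succ_ne_zero n)) (hord k hk)

theorem section_out {u : C} (hu : u ∈ (c.P : Subgroup C)) (huJ : u ∉ c.J) :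
    Nat.card {g : C // IsConj u (pp 3 g)} * 9 = Nat.card C := by
  obtain ⟨k, hk⟩ := c.P.2 ⟨u, hu⟩
  have h := card_section (r := u) ⟨k, by simpa using congrArg Subtype.val hk⟩
  obtain ⟨O, -, -, hmem, -, hcard, -⟩ := c.cent_out hu huJ
  have e : Nat.card {k : C // u * k = k * u ∧ ¬ 3 ∣ orderOf k} = Nat.card O :=
    Nat.card_congr (Equiv.subtypeEquivRight fun k => by rw [hmem, eq_comm])
  rw [e, ← hcard, ← mul_assoc, mul_comm (Nat.card C) (Nat.card O)] at h
  exact Nat.eq_of_mul_eq_mul_left (Nat.card_pos (α := O)) (by rw [← h]; ring)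

/-- An involution inverting the diagonal element is not conjugate to a sign change. -/
theorem inv_diag {y : C} (hy : y * y = 1) (h : y * c.el 1 * y⁻¹ = c.el (-1)) :
    ¬ IsConj (c.v 0) y := by
  intro hc
  obtain ⟨q, hq⟩ := c.exists_act (c.neg_mem_N h)
  obtain ⟨a, ha, h0, hns⟩ := neg_one_fix q (c.el_inj (by rw [← hq, h]))
  have ha0 : a ≠ 0 := fun e => hns ⟨0, 0, by rw [e, Pi.single_zero]⟩
  have hya : y * c.el a = c.el a * y := mul_inv_eq_iff_eq_mul.1 (by rw [hq, ha])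
  obtain ⟨g, hg⟩ := isConj_iff.1 hc
  have hH : Subgroup.zpowers (c.el a) ≤ Subgroup.centralizer ({y} : Set C) :=
    Subgroup.zpowers_le.2 (Subgroup.mem_centralizer_singleton_iff.2 hya.symm)
  have he : g * c.e 0 * g⁻¹ ∈ Subgroup.centralizer ({y} : Set C) := by
    rw [Subgroup.mem_centralizer_singleton_iff, ← hg, conj_mul, conj_mul,
      mul_inv_eq_iff_eq_mul.1 (c.v_fix 0)]
  have hsyl : ∀ m ∈ Subgroup.centralizer ({y} : Set C), (∃ k : ℕ, m ^ 3 ^ k = 1) →
      m ∈ Subgroup.normalizer (Subgroup.zpowers (c.el a) : Set C) → m ∈ Subgroup.zpowers (c.el a) := by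
    intro m hm h3 hn
    have hma : m ∈ Subgroup.centralizer ({c.el a} : Set C) := by
      obtain ⟨i, hi⟩ := Subgroup.mem_zpowers_iff.1
        ((Subgroup.mem_normalizer_iff.1 hn _).1 (Subgroup.mem_zpowers (c.el a)))
      rw [← zpow_mod_orderOf, orderOf_eq_prime (c.el_cube a)
        (fun e => ha0 (c.el_inj (e.trans c.el_zero.symm)))] at hi
      have hcases : i % (3 : ℕ) = 0 ∨ i % (3 : ℕ) = 1 ∨ i % (3 : ℕ) = 2 := by omega
      rcases hcases with e | e | e <;> rw [e] at hi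
      · rw [zpow_zero, eq_comm, mul_inv_eq_one, mul_eq_left] at hi
        exact absurd (c.el_inj (hi.trans c.el_zero.symm)) ha0
      · rw [zpow_one] at hi
        exact Subgroup.mem_centralizer_singleton_iff.2 (mul_inv_eq_iff_eq_mul.1 hi.symm)
      · have hi' : m * c.el a * m⁻¹ = (c.el a)⁻¹ := by
          rw [← hi]
          refine eq_inv_of_mul_eq_one_left ?_
          rw [← zpow_add_one, ← c.el_cube a]; norm_cast
        have hsq : m ^ 2 ∈ Subgroup.centralizer ({c.el a} : Set C) := by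
          refine Subgroup.mem_centralizer_singleton_iff.2 (mul_inv_eq_iff_eq_mul.1 ?_)
          calc m ^ 2 * c.el a * (m ^ 2)⁻¹ = m * (m * c.el a * m⁻¹) * m⁻¹ := by rw [pow_two]; group
            _ = c.el a := by rw [hi', ← conj_inv, hi', inv_inv]
        obtain ⟨k, hk⟩ := h3
        obtain ⟨n, hn⟩ := exists_pow_eq_self_of_coprime
          ((Nat.Coprime.pow_right k (by norm_num : Nat.Coprime 2 3)).coprime_dvd_right
            (orderOf_dvd_of_pow_eq_one hk))
        rw [← hn]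
        exact pow_mem hsq n
    obtain ⟨h', hh', hhm⟩ := conj_into
      (show c.J ≤ Subgroup.centralizer ({c.el a} : Set C) from fun j hj =>
        Subgroup.mem_centralizer_singleton_iff.2 (c.J_comm hj (c.el_mem a)))
      c.isPGroup_J (fun m hm h3 hn => c.nonfull_three ha0 h0 hm h3 hn) hma h3
    obtain ⟨b, hb⟩ := c.exists_el hhm
    have hha : h' * c.el a = c.el a * h' := Subgroup.mem_centralizer_singleton_iff.1 hh'
    by_cases hbx : ∃ x : ZMod 3, b = x • a
    · obtain ⟨x, rfl⟩ := hbx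
      have hm' : m = c.el (x • a) := by
        have h4 : m = h'⁻¹ * c.el (x • a) * h' := by rw [hb]; group
        rw [h4, c.el_smul, mul_assoc,
          ((show Commute h' (c.el a) from hha).pow_right x.val).symm.eq, inv_mul_cancel_left]
      rw [hm', c.el_smul]
      exact pow_mem (Subgroup.mem_zpowers _) _
    · exfalso
      have hy1 : h' * y * h'⁻¹ ∈ c.J := by
        rw [← c.pair_two h0 hns hbx]
        refine ⟨Subgroup.mem_centralizer_singleton_iff.2 ?_, Subgroup.mem_centralizer_singleton_iff.2 ?_⟩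
        · have := ((show Commute h' (c.el a) from hha).mul_left
            (show Commute y (c.el a) from hya)).mul_left (show Commute h' (c.el a) from hha).inv_left
          exact this.eq
        · rw [hb, conj_mul, conj_mul, Subgroup.mem_centralizer_singleton_iff.1 hm]
      obtain ⟨z, hz⟩ := c.exists_el hy1
      have h2 : (h' * y * h'⁻¹) ^ 2 = 1 := by rw [conj_pow, pow_two, hy]; group
      have h3' := c.el_cube z
      rw [hz] at h3'
      rw [pow_succ, h2, one_mul, mul_inv_eq_one, mul_eq_left] at h3'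
      rw [h3', one_mul, inv_one, mul_one] at h
      exact absurd (c.el_inj h) (by decide)
  have ha3 : IsPGroup 3 (Subgroup.zpowers (c.el a)) := c.isPGroup_J.to_le
    (Subgroup.zpowers_le.2 (c.el_mem a))
  obtain ⟨h', hh', hmem⟩ := conj_into hH ha3 hsyl he
    ⟨1, by rw [pow_one, conj_pow, c.e_cube]; group⟩
  have hmemJ : (h' * g) * c.el (Pi.single 0 1) * (h' * g)⁻¹ ∈ Subgroup.zpowers (c.el a) := by
    rw [c.el_single]
    convert hmem using 1
    group
  obtain ⟨n, hn⟩ := Submonoid.mem_powers_iff _ _ |>.1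
    ((isOfFinOrder_of_finite (c.el a)).mem_powers_iff_mem_zpowers.2 hmemJ)
  rw [← c.el_nsmul] at hn
  obtain ⟨m, ⟨-, hmN⟩, hm⟩ := c.fusion (H := ⊤) le_top (c.el_mem (Pi.single 0 1))
    (g := h' * g) trivial (hn ▸ c.el_mem _)
  obtain ⟨q', hq'⟩ := c.exists_act hmN
  rw [hq', ← hn] at hm
  have hsm : act q' (Pi.single 0 1) = (n : ZMod 3) • a := (c.el_inj hm).trans (Nat.cast_smul_eq_nsmul _ n a).symm
  rcases single_of_smul q' _ a hsm with h' | h'
  · exact hns h'
  · exact act_single_ne q' h'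

/-- No conjugate of a sign change inverts an element of `P` outside `J`. -/
theorem no_inv {u : C} (hu : u ∈ (c.P : Subgroup C)) (huJ : u ∉ c.J) {u1 : C} (h1 : u1 * u1 = 1)
    (hinv : u1 * u * u1⁻¹ = u⁻¹) : ¬ IsConj (c.v 0) u1 := by
  obtain ⟨O, hO, hn, hmem, hdec, -, hfix⟩ := c.cent_out hu huJ
  have h1E : c.el 1 ∈ c.Eu u := by simpa using c.const_mem_Eu hu 1
  have h1C : c.el 1 ∈ Subgroup.centralizer ({u} : Set C) := h1E.2
  have hconjC : u1 * c.el 1 * u1⁻¹ ∈ Subgroup.centralizer ({u} : Set C) := by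
    refine Subgroup.mem_centralizer_singleton_iff.2 ?_
    have hcu : Commute (u1 * c.el 1 * u1⁻¹) (u1 * u * u1⁻¹) :=
      (show Commute (c.el 1) u from Subgroup.mem_centralizer_singleton_iff.1 h1C).map
        (MulAut.conj u1).toMonoidHom
    rw [hinv] at hcu
    exact (Commute.inv_right_iff.1 hcu).eq
  obtain ⟨k, hk, hkz⟩ := conj_into (show c.Eu u ≤ Subgroup.centralizer ({u} : Set C) from inf_le_right)
    (c.Eu_group u) (c.Eu_sylow hu huJ) hconjC ⟨1, by rw [pow_one, conj_pow, c.el_cube]; group⟩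
  have hk' : k * u = u * k := Subgroup.mem_centralizer_singleton_iff.1 hk
  set y₁ := k * u1 with hy₁
  have hy₁u : y₁ * u * y₁⁻¹ = u⁻¹ := by
    calc y₁ * u * y₁⁻¹ = k * (u1 * u * u1⁻¹) * k⁻¹ := by rw [hy₁]; group
      _ = u⁻¹ := by rw [hinv, (show Commute k u from hk').inv_right.eq, mul_inv_cancel_right]
  have hy₁z : y₁ * c.el 1 * y₁⁻¹ = c.el (-1) := by
    have hy₁z' : y₁ * c.el 1 * y₁⁻¹ ∈ c.Eu u := by
      convert hkz using 1
      rw [hy₁]; group
    rcases c.diag_conj hu huJ hy₁z' with h | h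
    · exfalso
      obtain ⟨dy, j, hdy⟩ := c.exists_rep (c.cent_one h)
      obtain ⟨d, i, hud⟩ := c.exists_rep hu
      have hi : i ≠ 0 := fun h => huJ (hud ▸ c.px_notMem.2 h)
      have e : y₁ * u = u⁻¹ * y₁ := mul_inv_eq_iff_eq_mul.1 hy₁u
      have e2 : u * (y₁ * u) = y₁ := by rw [e, mul_inv_cancel_left]
      rw [hdy, hud, c.mul_rep, c.mul_rep] at e2
      have h3 := c.rep_inj e2
      have h4 : ∀ i j : ZMod 3, i + (j + i) = j → i = 0 := by decide
      exact hi (h4 i j h3)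
    · exact h
  obtain ⟨o, ho, x0, hx0, hdecomp⟩ := hdec k⁻¹ (inv_mem hk)
  set y := x0 * y₁ with hy
  have hu1 : u1 = o * y := by rw [hy, ← mul_assoc, hdecomp, hy₁, inv_mul_cancel_left]
  have hx0u : x0 * u = u * x0 := Subgroup.mem_centralizer_singleton_iff.1 hx0.2
  have hyu : y * u * y⁻¹ = u⁻¹ := by
    calc y * u * y⁻¹ = x0 * (y₁ * u * y₁⁻¹) * x0⁻¹ := by rw [hy]; group
      _ = u⁻¹ := by rw [hy₁u, (show Commute x0 u from hx0u).inv_right.eq, mul_inv_cancel_right]
  have hx0z : x0 * c.el (-1) = c.el (-1) * x0 := by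
    have := c.const_comm hx0.1 (-1)
    rwa [neg_one_smul] at this
  have hyz : y * c.el 1 * y⁻¹ = c.el (-1) := by
    calc y * c.el 1 * y⁻¹ = x0 * (y₁ * c.el 1 * y₁⁻¹) * x0⁻¹ := by rw [hy]; group
      _ = _ := by rw [hy₁z, hx0z, mul_inv_cancel_right]
  have hy2 : y * y = 1 := by
    have hc1 : y * y ∈ Subgroup.centralizer ({c.el 1} : Set C) := by
      refine Subgroup.mem_centralizer_singleton_iff.2 (mul_inv_eq_iff_eq_mul.1 ?_)
      calc y * y * c.el 1 * (y * y)⁻¹ = y * (y * c.el 1 * y⁻¹) * y⁻¹ := by group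
        _ = c.el 1 := by rw [hyz, c.el_neg, ← conj_inv, hyz, c.el_neg, inv_inv]
    have hc2 : y * y ∈ c.Eu u := by
      refine ⟨c.cent_one hc1, Subgroup.mem_centralizer_singleton_iff.2 (mul_inv_eq_iff_eq_mul.1 ?_)⟩
      calc y * y * u * (y * y)⁻¹ = y * (y * u * y⁻¹) * y⁻¹ := by group
        _ = u := by rw [hyu, ← conj_inv, hyu, inv_inv]
    obtain ⟨n, x, hnx⟩ := (c.Eu_card hu huJ).2 _ hc2
    have h3 : y * (y * y) * y⁻¹ = (y * y)⁻¹ := by
      rw [hnx, ← conj_mul, ← conj_pow, hyu, c.el_smul, ← conj_pow, hyz, c.el_neg, inv_pow, inv_pow,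
        mul_inv_rev]
      exact (((show Commute u (c.el 1) from
        (Subgroup.mem_centralizer_singleton_iff.1 h1E.2).symm).pow_pow n x.val).inv_inv).eq
    rw [mul_assoc y, mul_inv_cancel_right, eq_inv_iff_mul_eq_one, ← pow_two (y * y)] at h3
    obtain ⟨j, hj⟩ := BrauerBlocksPPart.isPEl_of_mem c.P.2 hc2.1
    refine orderOf_eq_one_iff.1 (Nat.eq_one_of_dvd_coprimes
      (Nat.Coprime.pow_left j (by norm_num : Nat.Coprime 3 2)) hj.dvd (orderOf_dvd_of_pow_eq_one h3))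
  have hyy : y⁻¹ = y := inv_eq_of_mul_eq_one_right hy2
  have hyo : y * o * y = o⁻¹ := by
    rw [hu1] at h1
    exact eq_inv_of_mul_eq_one_right (by rw [← h1]; group)
  set Z := c.el 1 with hZ
  have hnO : ∀ x ∈ O, Z * x * Z⁻¹ ∈ O := fun x hx => (Subgroup.mem_normalizer_iff.1 (hn h1C) x).1 hx
  let f : O → O := fun x => ⟨(x : C)⁻¹ * (Z * x * Z⁻¹), mul_mem (inv_mem x.2) (hnO x x.2)⟩
  have hf : Function.Injective f := by
    intro a b hab
    replace hab : (a : C)⁻¹ * (Z * a * Z⁻¹) = (b : C)⁻¹ * (Z * b * Z⁻¹) := congrArg Subtype.val hab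
    have h4 : Z * ((a : C) * (b : C)⁻¹) * Z⁻¹ = (a : C) * (b : C)⁻¹ := by
      calc Z * ((a : C) * (b : C)⁻¹) * Z⁻¹
          = (a : C) * ((a : C)⁻¹ * (Z * a * Z⁻¹)) * (Z * b * Z⁻¹)⁻¹ := by group
        _ = _ := by rw [hab]; group
    exact Subtype.ext (mul_inv_eq_one.1
      (hfix _ (mul_mem a.2 (inv_mem b.2)) (mul_inv_eq_iff_eq_mul.1 h4).symm))
  obtain ⟨⟨p, hp⟩, hpo⟩ := (Finite.surjective_of_injective hf) ⟨o, ho⟩
  replace hpo : p⁻¹ * (Z * p * Z⁻¹) = o := congrArg Subtype.val hpo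
  have hZ3 : Z * Z * Z = 1 := by
    rw [← c.el_cube 1, hZ]; simp [pow_succ, mul_assoc]
  have hZinv : Z⁻¹ = Z * Z := inv_eq_of_mul_eq_one_right (by rw [← mul_assoc]; exact hZ3)
  have hprod : o * (Z * o * Z⁻¹) * (Z * Z * o * (Z * Z)⁻¹) = 1 := by
    calc o * (Z * o * Z⁻¹) * (Z * Z * o * (Z * Z)⁻¹)
        = p⁻¹ * (Z * Z * Z) * p * (Z * Z * Z)⁻¹ := by rw [← hpo]; group
      _ = 1 := by rw [hZ3]; group
  set t := (Z * Z * o * (Z * Z)⁻¹)⁻¹ with ht
  have hyz' : y * Z * y⁻¹ = Z * Z := by rw [hyz, c.el_neg, ← hZ, hZinv]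
  have hconj : t * y * t⁻¹ = o * y := by
    have e1 : y * (Z * Z * o * (Z * Z)⁻¹) * y⁻¹ = Z * o⁻¹ * Z⁻¹ := by
      calc y * (Z * Z * o * (Z * Z)⁻¹) * y⁻¹
          = (y * Z * y⁻¹) * (y * Z * y⁻¹) * (y * o * y⁻¹) * ((y * Z * y⁻¹) * (y * Z * y⁻¹))⁻¹ := by
            group
        _ = (Z * Z * Z) * (Z * o⁻¹ * Z⁻¹) * (Z * Z * Z)⁻¹ := by
            rw [hyz', hyy, hyo]; group
        _ = _ := by rw [hZ3]; group
    have e2 : t * y * t⁻¹ = t * (y * (Z * Z * o * (Z * Z)⁻¹) * y⁻¹) * y := by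
      rw [mul_assoc t (y * _ * y⁻¹) y, inv_mul_cancel_right, ht, inv_inv, mul_assoc]
    rw [e2, e1]
    have e3 : t * (Z * o⁻¹ * Z⁻¹) = o := by
      rw [ht, show Z * o⁻¹ * Z⁻¹ = (Z * o * Z⁻¹)⁻¹ by group, ← mul_inv_rev]
      exact inv_eq_of_mul_eq_one_left (by rw [← mul_assoc]; exact hprod)
    rw [e3]
  intro hc
  refine c.inv_diag hy2 hyz (hc.trans (isConj_iff.2 ⟨t, ?_⟩).symm)
  rw [hconj, hu1]

end Cfg

end Cfsg.Agent.McL3Cfg77
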