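import Cfsg.Agent.Lib.McL3Final34
import Cfsg.Agent.Lib.McL3Big10
import Cfsg.Agent.Lib.McL3Simple26
import Cfsg.Agent.Lib.McL3Aut42

/-!
# S3367, S5523, S2913: the recognition steps, collected
-/

set_option autoImplicit false

namespace Cfsg.Agent.McL3x39

universe u

/-- The three recognition steps. -/
theorem steps39 (G : Type u) [Group G] [Finite G] : Steps G where
  big_iso F hy h := big_iso F hy h
  mcl_of_cover F hy h := mcl_of_cover F hy h
  aut_of_big F hy h eH := (aut_of_big' F hy h eH).1

end Cfsg.Agent.McL3x39
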