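import Mathlib
import Cfsg.Agent.Lib.McL3Stage77

/-!
# S5523, S2913: the configuration has `J` normal (conclusion)
-/

set_option autoImplicit false
set_option linter.unusedSectionVars false

namespace Cfsg.Agent.McL3Cfg77

open Cfsg.Agent.McL3Chars77 Cfsg.Agent.BlockPCount9
open Cfsg Cfsg.Agent.CharBasic Cfsg.Agent.CharBasicOrth Cfsg.Agent.CharBasicDecomp
open scoped ComplexConjugate

attribute [local instance] Classical.propDecidable

theorem diff_double : ∀ j : ZMod 3, j ≠ 0 →
    (Pi.single j 1 : V3) - fl (some 0) (Pi.single j 1) = Pi.single j 1 + Pi.single j 1 := by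
  decide +kernel

theorem double_double : ∀ d : V3, (d + d) + (d + d) = d := by decide +kernel

theorem proj_split : ∀ (j : ZMod 3) (d : V3),
    (d - Pi.single j (d j)) + fl (some j) (d - Pi.single j (d j)) = 0 := by decide +kernel

theorem fl_single_self : ∀ (j x : ZMod 3), fl (some j) (Pi.single j x) = Pi.single j x := by
  decide +kernel

theorem three_val : ∀ i : ZMod 3, i = 0 ∨ i = 1 ∨ i = 2 := by decide

namespace Cfg

section Finite

variable {C : Type*} [Group C] [Finite C] (c : Cfg C) {L : Subgroup C}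

/-- A normal subgroup meeting the hypotheses of the second step. -/
structure Good (L : Subgroup C) : Prop where
  normal : L.Normal
  J_le : c.J ≤ L
  v_mem : ∀ o, c.vo o ∈ L
  s_notMem : c.s ∉ L

theorem good_of_v {L : Subgroup C} (hL : L.Normal) (hv : c.v 0 ∈ L) (hs : c.s ∉ L) : c.Good L := by
  have hstep : ∀ j : ZMod 3, j ≠ 0 → c.e j ∈ L := by
    intro j hj
    have hact : c.v 0 * (c.el (Pi.single j 1))⁻¹ * (c.v 0)⁻¹ = c.el (-fl (some 0) (Pi.single j 1)) := by
      rw [c.el_neg (fl (some 0) (Pi.single j 1)), ← conj_inv]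
      exact congrArg (·⁻¹) (c.acts_vo (some 0) _)
    have h1 : c.el (Pi.single j 1 + Pi.single j 1) ∈ L := by
      rw [← diff_double j hj, sub_eq_add_neg, c.el_add, ← hact]
      have := mul_mem (hL.conj_mem _ hv (c.el (Pi.single j 1))) (inv_mem hv)
      simpa [mul_assoc] using this
    have h2 := mul_mem h1 h1
    rwa [← c.el_add, double_double, c.el_single] at h2
  have he : ∀ j, c.e j ∈ L := by
    intro j
    by_cases hj : j = 0
    · have := hL.conj_mem _ (hstep 2 (by decide)) c.s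
      rw [c.s_conj] at this
      rw [hj]
      exact (by decide : (2 : ZMod 3) + 1 = 0) ▸ this
    · exact hstep j hj
  have hJ : c.J ≤ L := (Subgroup.closure_le _).2 (by rintro _ ⟨j, rfl⟩; exact he j)
  have hnext : ∀ i, c.v i ∈ L → c.v (i + 1) ∈ L := by
    intro i hi
    have hjm : c.v (i + 1) * (c.s * c.v i * c.s⁻¹) ∈ c.J := c.mem_J_of_acts_id fun d => by
      have hinv : c.Acts c.s⁻¹ (sh (-1)) := c.acts_s.inv fun d => by rw [sh_sh, add_neg_cancel, sh_zero]
      have := ((c.acts_vo (some (i + 1))).mul ((c.acts_s.mul (c.acts_vo (some i))).mul hinv)) d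
      simpa [vo, fl_sh] using this
    have := mul_mem (hJ hjm) (inv_mem (hL.conj_mem _ hi c.s))
    simpa [mul_assoc] using this
  refine ⟨hL, hJ, fun o => ?_, hs⟩
  rcases o with _ | i
  · exact one_mem L
  rcases three_val i with rfl | rfl | rfl
  · exact hv
  · exact hnext 0 hv
  · exact hnext 1 (hnext 0 hv)

variable {c}

theorem Good.sp_eq (g : c.Good L) {k : ZMod 3} (h : c.sp k ∈ L) : k = 0 := by
  rcases three_val k with rfl | rfl | rfl
  · rfl
  · exact absurd ((pow_one c.s) ▸ (h : c.s ^ (1 : ZMod 3).val ∈ L)) g.s_notMem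
  · exfalso
    refine g.s_notMem ?_
    have e : c.sp 2 * c.sp 2 = c.s := by rw [← c.sp_add]; exact pow_one c.s
    exact e ▸ mul_mem h h

theorem Good.kill_shift (g : c.Good L) {m : C} (hm : m ∈ L) {k : ZMod 3} {o : Option (ZMod 3)}
    (h : c.Acts m (act (k, o, false))) : k = 0 ∧ c.vo o * m ∈ c.J := by
  have hj : c.vo o * (c.sp (-k) * m) ∈ c.J := c.mem_J_of_acts_id fun d => by
    rw [((c.acts_vo o).mul ((c.acts_sp (-k)).mul h)) d]
    simp [act, sw, sh_sh, sh_zero, fl_fl]
  have h2 : c.sp (-k) * m ∈ L := by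
    have := mul_mem (inv_mem (g.v_mem o)) (g.J_le hj)
    rwa [inv_mul_cancel_left] at this
  have hk : k = 0 := neg_eq_zero.1 (g.sp_eq (by simpa using mul_mem h2 (inv_mem hm)))
  refine ⟨hk, ?_⟩
  rwa [hk, neg_zero, c.sp_zero, one_mul] at hj

theorem Good.rep (g : c.Good L) {m : C} (hm : m ∈ L) (hN : m ∈ c.N) :
    ∃ o, c.vo o * m ∈ c.J := by
  obtain ⟨⟨k, o, b⟩, hq⟩ := c.exists_act hN
  cases b
  · exact ⟨o, (g.kill_shift hm hq).2⟩
  exfalso
  obtain ⟨q', hq'⟩ := c.exists_act (inv_mem hN : m⁻¹ ∈ c.N)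
  have hinv : ∀ d, act (k, o, true) (act q' d) = d := fun d => by
    refine c.el_inj ?_
    rw [← hq, ← hq']; group
  obtain ⟨k', o', hk', hcom⟩ := sw_commutator (k, o, true) rfl
  have hsinv : c.Acts c.s⁻¹ (sh (-1)) := c.acts_s.inv fun d => by rw [sh_sh, add_neg_cancel, sh_zero]
  have hy : c.Acts (m * (c.s * (m⁻¹ * c.s⁻¹))) (act (k', o', false)) := fun d => by
    rw [(hq.mul (c.acts_s.mul (hq'.mul hsinv))) d]
    refine congrArg c.el ?_
    simp only [Function.comp_apply]
    rw [← hcom, hinv, sh_sh, add_neg_cancel, sh_zero]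
  refine hk' (g.kill_shift ?_ hy).1
  refine mul_mem hm ?_
  have := g.normal.conj_mem _ (inv_mem hm) c.s
  simpa [mul_assoc] using this

theorem Good.three (g : c.Good L) {m : C} (hm : m ∈ L) (hN : m ∈ c.N)
    (h3 : ∃ k : ℕ, m ^ 3 ^ k = 1) : m ∈ c.J := by
  obtain ⟨o, ho⟩ := g.rep hm hN
  obtain ⟨a, ha⟩ := c.exists_el ho
  have hm' : c.Acts m (fl o) := fun d => by
    have h : m = (c.vo o)⁻¹ * c.el a := by rw [ha, inv_mul_cancel_left]
    rw [h, (((c.acts_vo o).inv (fl_fl o)).mul (c.acts_el a)) d]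
    rfl
  have h2 : m ^ 2 ∈ c.J := c.mem_J_of_acts_id fun d => by
    rw [pow_two, (hm'.mul hm') d]
    simp [fl_fl]
  obtain ⟨k, hk⟩ := h3
  obtain ⟨n, hn⟩ := exists_pow_eq_self_of_coprime
    ((Nat.Coprime.pow_right k (by norm_num : Nat.Coprime 2 3)).coprime_dvd_right
      (orderOf_dvd_of_pow_eq_one hk))
  rw [← hn]
  exact pow_mem h2 n

theorem Good.cent (g : c.Good L) {d : V3} (hd : d ≠ 0) :
    L ⊓ Subgroup.centralizer ({c.el d} : Set C) ≤ c.N := by
  rcases three_cases d hd with h | h | ⟨h0, hns⟩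
  · exact inf_le_right.trans (c.cent_sing hd (Or.inl h))
  · exact inf_le_right.trans (c.cent_sing hd (Or.inr h))
  refine le_of_eq_of_le (c.eq_J (fun j hj => ⟨g.J_le hj,
    Subgroup.mem_centralizer_singleton_iff.2 (c.J_comm hj (c.el_mem d))⟩) ?_) c.J_le_N
  rintro m ⟨⟨hmL, hmd⟩, hmN⟩
  obtain ⟨o, ho⟩ := g.rep hmL hmN
  obtain ⟨a, ha⟩ := c.exists_el ho
  have hm : m = (c.vo o)⁻¹ * c.el a := by rw [ha, inv_mul_cancel_left]
  have hfix : fl o d = d := c.el_inj (by
    have h := (((c.acts_vo o).inv (fl_fl o)).mul (c.acts_el a)) d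
    rw [← hm, Subgroup.mem_centralizer_singleton_iff.1 hmd, mul_inv_cancel_right] at h
    exact h.symm)
  obtain rfl := fl_fix_pair o d h0 hns hfix
  simpa [vo] using ho

theorem Good.fusion (g : c.Good L) {h : C} (hh : h ∈ L) {a : V3} {b : V3}
    (e : h * c.el a * h⁻¹ = c.el b) : ∃ o, fl o a = b := by
  obtain ⟨m, ⟨hmL, hmN⟩, hm⟩ := c.fusion g.J_le (c.el_mem a) hh (e ▸ c.el_mem b)
  obtain ⟨o, ho⟩ := g.rep hmL hmN
  obtain ⟨x, hx⟩ := c.exists_el ho
  refine ⟨o, c.el_inj ?_⟩
  have hm' : m = (c.vo o)⁻¹ * c.el x := by rw [hx, inv_mul_cancel_left]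
  rw [← e, ← hm, hm']
  exact ((((c.acts_vo o).inv (fl_fl o)).mul (c.acts_el x)) a).symm

/-- A sign change inside `L` does not invert elements with a nonzero coordinate there. -/
theorem Good.no_inv (g : c.Good L) {i : ZMod 3} {d : V3} (hd : d i ≠ 0) {l : C} (hl : l ∈ L)
    (hinv : l * c.v i * l⁻¹ * c.el d * (l * c.v i * l⁻¹)⁻¹ = (c.el d)⁻¹) : False := by
  set u1 := l * c.v i * l⁻¹ with hu1
  have hu1L : u1 ∈ L := mul_mem (mul_mem hl (g.v_mem (some i))) (inv_mem hl)
  have hd0 : d ≠ 0 := fun e => hd (by rw [e]; rfl)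
  have hu1N : u1 ∈ c.N := by
    refine Subgroup.mem_normalizer_fintype fun j hj => ?_
    obtain ⟨a, rfl⟩ := c.exists_el hj
    have hL : u1 * c.el a * u1⁻¹ ∈ L := mul_mem (mul_mem hu1L (g.J_le hj)) (inv_mem hu1L)
    refine g.three hL (g.cent hd0 ⟨hL, Subgroup.mem_centralizer_singleton_iff.2 ?_⟩)
      ⟨1, by rw [pow_one, conj_pow, c.el_cube]; group⟩
    have h : Commute (u1 * c.el a * u1⁻¹) (u1 * c.el d * u1⁻¹) :=
      (show Commute (c.el a) (c.el d) from c.el_comm a d).map (MulAut.conj u1).toMonoidHom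
    rw [hinv] at h
    exact (Commute.inv_right_iff.1 h).eq
  obtain ⟨o, ho⟩ := g.rep hu1L hu1N
  obtain ⟨b, hb⟩ := c.exists_el ho
  have hu : u1 = (c.vo o)⁻¹ * c.el b := by rw [hb, inv_mul_cancel_left]
  have hfl : fl o d = -d := c.el_inj (by
    rw [c.el_neg, ← hinv, hu]
    exact ((((c.acts_vo o).inv (fl_fl o)).mul (c.acts_el b)) d).symm)
  obtain ⟨j, rfl, hji⟩ := fl_neg_cases o d i hd hfl
  have hvj : (c.vo (some j))⁻¹ = c.v j := inv_eq_of_mul_eq_one_right (c.v_sq j)
  rw [hvj] at hu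
  have hu2 : u1 * u1 = 1 := by
    rw [hu1, conj_mul, c.v_sq]; group
  have hbb : fl (some j) b + b = 0 := c.el_inj (by
    rw [c.el_add, ← c.acts_vo (some j) b, c.el_zero, ← hu2, hu]
    simp only [vo]
    rw [inv_eq_of_mul_eq_one_right (c.v_sq j)]
    group)
  have hbj : b j = 0 := by
    have := congrFun hbb j
    simp only [fl, Pi.add_apply, if_pos, Pi.zero_apply] at this
    exact (by decide : ∀ x : ZMod 3, x + x = 0 → x = 0) _ this
  -- `u1` is conjugate to `v j` under `J`
  set c' := c.el (fl (some j) b + fl (some j) b) with hc'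
  have hconj : c' * c.v j * c'⁻¹ = u1 := by
    have h1 := fl_half j (fl (some j) b) (by simpa [fl] using hbj)
    have hswap : c.v j * c'⁻¹ = c.el (-fl (some j) (fl (some j) b + fl (some j) b)) * c.v j := by
      rw [c.el_neg, ← c.acts_vo (some j), hc']
      simp only [vo]
      group
    rw [mul_assoc, hswap, ← mul_assoc, hc', ← c.el_add, ← sub_eq_add_neg, h1, hu,
      ← c.acts_vo (some j) b]
    simp only [vo]
    rw [inv_mul_cancel_right]
  set h := c'⁻¹ * l with hh
  have hhL : h ∈ L := mul_mem (inv_mem (g.J_le (c.el_mem _))) hl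
  have hvij : h * c.v i * h⁻¹ = c.v j := by
    have : l * c.v i * l⁻¹ = c' * c.v j * c'⁻¹ := hconj.symm
    calc h * c.v i * h⁻¹ = c'⁻¹ * (l * c.v i * l⁻¹) * c' := by rw [hh]; group
      _ = c.v j := by rw [this]; group
  have heH : h * c.e i * h⁻¹ ∈ L ⊓ Subgroup.centralizer ({c.v j} : Set C) := by
    refine Subgroup.mem_inf.2 ⟨mul_mem (mul_mem hhL (g.J_le (Subgroup.subset_closure ⟨i, rfl⟩))) (inv_mem hhL), ?_⟩
    rw [Subgroup.mem_centralizer_singleton_iff, ← hvij, conj_mul, conj_mul,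
      mul_inv_eq_iff_eq_mul.1 (c.v_fix i)]
  have hej : c.e j ∈ c.J := Subgroup.subset_closure ⟨j, rfl⟩
  have hle : Subgroup.zpowers (c.e j) ≤ L ⊓ Subgroup.centralizer ({c.v j} : Set C) :=
    Subgroup.zpowers_le.2 ⟨g.J_le hej,
      Subgroup.mem_centralizer_singleton_iff.2 (mul_inv_eq_iff_eq_mul.1 (c.v_fix j)).symm⟩
  have hsyl : ∀ m ∈ L ⊓ Subgroup.centralizer ({c.v j} : Set C), (∃ k : ℕ, m ^ 3 ^ k = 1) →
      m ∈ Subgroup.normalizer (Subgroup.zpowers (c.e j) : Set C) → m ∈ Subgroup.zpowers (c.e j) := by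
    rintro m ⟨hmL, hmv⟩ h3 hn
    have hmj : c.e j ∈ Subgroup.centralizer ({c.v j} : Set C) := (hle (Subgroup.mem_zpowers _)).2
    obtain ⟨n, hn'⟩ := Submonoid.mem_powers_iff _ _ |>.1
      ((isOfFinOrder_of_finite (c.e j)).mem_powers_iff_mem_zpowers.2
        ((Subgroup.mem_normalizer_iff.1 hn _).1 (Subgroup.mem_zpowers (c.e j))))
    have hmN : m ∈ c.N := by
      rw [← c.el_single j, ← c.el_nsmul] at hn'
      have hsq : m ^ 2 ∈ Subgroup.centralizer ({c.el (Pi.single j 1)} : Set C) := by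
        have e1 : m ^ 2 * c.el (Pi.single j 1) * (m ^ 2)⁻¹ = c.el (n • n • (Pi.single j 1 : V3)) := by
          calc m ^ 2 * c.el (Pi.single j 1) * (m ^ 2)⁻¹
              = m * (m * c.el (Pi.single j 1) * m⁻¹) * m⁻¹ := by rw [pow_two]; group
            _ = c.el (Pi.single j 1) ^ (n * n) := by
                rw [← hn', c.el_nsmul, ← conj_pow, ← hn', c.el_nsmul, ← pow_mul]
            _ = _ := by rw [← c.el_nsmul, smul_smul]
        have hn0 : (n : ZMod 3) ≠ 0 := fun e => by
          rw [← Nat.cast_smul_eq_nsmul (ZMod 3), e, zero_smul, c.el_zero, eq_comm, mul_inv_eq_one,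
            mul_eq_left, ← c.el_zero] at hn'
          have := congrFun (c.el_inj hn') j
          simp at this
        have hn2 : n • n • (Pi.single j 1 : V3) = Pi.single j 1 := by
          rw [← Nat.cast_smul_eq_nsmul (ZMod 3), ← Nat.cast_smul_eq_nsmul (ZMod 3) n, smul_smul,
            (by decide : ∀ x : ZMod 3, x ≠ 0 → x * x = 1) _ hn0, one_smul]
        rw [hn2] at e1
        exact Subgroup.mem_centralizer_singleton_iff.2 (mul_inv_eq_iff_eq_mul.1 e1)
      obtain ⟨k, hk⟩ := h3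
      obtain ⟨r, hr⟩ := exists_pow_eq_self_of_coprime
        ((Nat.Coprime.pow_right k (by norm_num : Nat.Coprime 2 3)).coprime_dvd_right
          (orderOf_dvd_of_pow_eq_one hk))
      rw [← hr]
      exact pow_mem (c.cent_sing (fun e => by simpa using congrFun e j)
        (Or.inr ⟨j, 1, rfl⟩) hsq) r
    obtain ⟨a, ha⟩ := c.exists_el (g.three hmL hmN h3)
    have hfix : fl (some j) a = a := c.el_inj (by
      rw [← c.acts_vo (some j), ha]
      simp only [vo]
      rw [← Subgroup.mem_centralizer_singleton_iff.1 hmv, mul_inv_cancel_right])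
    rw [← ha, fl_fixed j a hfix, c.el_smul, c.el_single]
    exact pow_mem (Subgroup.mem_zpowers _) _
  obtain ⟨r, hr, hmem⟩ := conj_into hle (c.isPGroup_J.to_le (Subgroup.zpowers_le.2 hej)) hsyl heH
    ⟨1, by rw [pow_one, conj_pow, c.e_cube]; group⟩
  obtain ⟨n, hn⟩ := Submonoid.mem_powers_iff _ _ |>.1
    ((isOfFinOrder_of_finite (c.e j)).mem_powers_iff_mem_zpowers.2 hmem)
  obtain ⟨o, ho⟩ := g.fusion (h := r * h) (mul_mem hr.1 hhL) (a := Pi.single i 1)
    (b := (n : ZMod 3) • Pi.single j 1) (by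
      rw [Nat.cast_smul_eq_nsmul, c.el_nsmul, c.el_single, c.el_single, hn]; group)
  exact fl_single_ne o i j _ (Ne.symm hji) ho

theorem Good.pp_rep (g : c.Good L) (d : V3) (o : Option (ZMod 3)) :
    pp 3 (c.el d * c.vo o) = c.el (proj o d) := by
  rcases o with _ | j
  · simp only [vo, mul_one, proj]
    exact pp_self ⟨1, by rw [pow_one]; exact c.el_cube d⟩
  set r : V3 := d - Pi.single j (d j) with hr
  have hsplit : c.el d * c.vo (some j) = c.el (Pi.single j (d j)) * (c.el r * c.v j) := by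
    rw [← mul_assoc, ← c.el_add, hr, add_sub_cancel]; rfl
  have hinv : (c.el r * c.v j) * (c.el r * c.v j) = 1 := by
    calc (c.el r * c.v j) * (c.el r * c.v j)
        = c.el r * (c.v j * c.el r * (c.v j)⁻¹) * (c.v j * c.v j) := by group
      _ = 1 := by
        rw [show c.v j * c.el r * (c.v j)⁻¹ = c.el (fl (some j) r) from c.acts_vo (some j) r,
          ← c.el_add, hr, proj_split, c.el_zero, c.v_sq, one_mul]
  have hcomm : Commute (c.el (Pi.single j (d j))) (c.el r * c.v j) := by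
    refine (show Commute _ _ from c.el_comm _ _).mul_right ?_
    have h := c.acts_vo (some j) (Pi.single j (d j))
    rw [fl_single_self] at h
    exact (show Commute (c.v j) (c.el (Pi.single j (d j))) from mul_inv_eq_iff_eq_mul.1 h).symm
  rw [hsplit, proj]
  obtain ⟨k, -, hk⟩ := (Nat.dvd_prime_pow Nat.prime_three).1
    (orderOf_dvd_of_pow_eq_one (n := 3 ^ 1) (c.el_cube (Pi.single j (d j))))
  exact pp_mul hcomm ⟨k, hk⟩ fun hd => by
    have := hd.trans (orderOf_dvd_of_pow_eq_one (n := 2) (by rw [pow_two]; exact hinv))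
    norm_num at this

end Finite

section Chars

variable {C : Type*} [Group C] [Fintype C] (c : Cfg C)

/-- The class representatives outside `J`. -/
noncomputable def K (i : ZMod 3) : Finset (ConjClasses C) :=
  Finset.univ.image fun x : ZMod 3 => ConjClasses.mk (c.el (Pi.single 0 x) * c.sp i)

theorem mem_K {d : V3} {i : ZMod 3} (hi : i ≠ 0) : ConjClasses.mk (c.el d * c.sp i) ∈ c.K i := by
  obtain ⟨a, x, h⟩ := rep_shift i d hi
  refine Finset.mem_image.2 ⟨x, Finset.mem_univ _,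
    (ConjClasses.mk_eq_mk_iff_isConj.2 (isConj_iff.2 ⟨c.el a, ?_⟩)).symm⟩
  rw [← h, sub_eq_add_neg, c.el_add, c.el_add, c.el_neg, ← c.acts_sp i]
  group

theorem not_mem_K {d : V3} {i : ZMod 3} (hi : i ≠ 0) : ConjClasses.mk (c.el d) ∉ c.K i := by
  intro h
  obtain ⟨x, -, hx⟩ := Finset.mem_image.1 h
  exact c.not_fuse (mul_mem (c.e_mem_P (c.el_mem _)) (c.sp_mem i)) (fun e => hi (c.px_notMem.1 e)) d
    (ConjClasses.mk_eq_mk_iff_isConj.1 hx)

theorem card_K (i : ZMod 3) : 1 ≤ (c.K i).card ∧ (c.K i).card ≤ 3 :=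
  ⟨Finset.card_pos.2 (Finset.univ_nonempty.image _), Finset.card_image_le.trans (by simp)⟩

theorem sum_classes (Φ : ConjClasses C → ℂ) (h : ∀ q, q ∉ c.K 1 ∪ c.K 2 → Φ q = 0) :
    ∑ g : C, Φ (ConjClasses.mk (pp 3 g)) = (Nat.card C : ℂ) / 9 * ∑ q ∈ c.K 1 ∪ c.K 2, Φ q := by
  have hr : ∀ q ∈ c.K 1 ∪ c.K 2,
      ((Finset.univ.filter fun g : C => ConjClasses.mk (pp 3 g) = q).card : ℂ) = (Nat.card C : ℂ) / 9 := by
    intro q hq
    have key : ∀ i : ZMod 3, i ≠ 0 → q ∈ c.K i →
        (Finset.univ.filter fun g : C => ConjClasses.mk (pp 3 g) = q).card * 9 = Nat.card C := by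
      intro i hi hq
      obtain ⟨x, -, rfl⟩ := Finset.mem_image.1 hq
      rw [← c.section_out (mul_mem (c.e_mem_P (c.el_mem (Pi.single 0 x))) (c.sp_mem i))
        (fun e => hi (c.px_notMem.1 e)), Nat.card_eq_fintype_card, Fintype.card_subtype]
      congr 2
      ext g
      simp only [Finset.mem_filter, Finset.mem_univ, true_and, ConjClasses.mk_eq_mk_iff_isConj]
      exact ⟨IsConj.symm, IsConj.symm⟩
    rw [eq_div_iff (by norm_num : (9 : ℂ) ≠ 0)]
    rcases Finset.mem_union.1 hq with h' | h'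
    · exact_mod_cast key 1 (by decide) h'
    · exact_mod_cast key 2 (by decide) h'
  rw [← Finset.sum_fiberwise Finset.univ (fun g : C => ConjClasses.mk (pp 3 g))
    (fun g => Φ (ConjClasses.mk (pp 3 g))), Finset.mul_sum]
  refine (Finset.sum_subset (Finset.subset_univ (c.K 1 ∪ c.K 2)) fun q _ hq => ?_).symm.trans
    (Finset.sum_congr rfl fun q hq => ?_)
  · refine Finset.sum_eq_zero fun g hg => ?_
    rw [(Finset.mem_filter.1 hg).2, h q hq]
  · rw [Finset.sum_congr rfl fun g hg => by rw [(Finset.mem_filter.1 hg).2], Finset.sum_const,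
      nsmul_eq_mul, hr q hq]

/-- The position modulo `J` of an element of `P`. -/
noncomputable def idx (x : (c.P : Subgroup C)) : ZMod 3 := (c.exists_rep x.2).choose_spec.choose

theorem idx_spec (x : (c.P : Subgroup C)) : ∃ d, (x : C) = c.el d * c.sp (c.idx x) :=
  ⟨_, (c.exists_rep x.2).choose_spec.choose_spec⟩

/-- The linear character of `P` with kernel `J`. -/
noncomputable def lam : (c.P : Subgroup C) →* ℂˣ :=
  MonoidHom.mk' (fun x => chi (c.idx x)) fun x y => by
    obtain ⟨a, ha⟩ := c.idx_spec x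
    obtain ⟨b, hb⟩ := c.idx_spec y
    obtain ⟨e, he⟩ := c.idx_spec (x * y)
    rw [Subgroup.coe_mul, ha, hb, c.mul_rep] at he
    show chi _ = chi _ * chi _
    rw [← c.rep_inj he, chi_add]

theorem lam_pow (k : ℕ) (x : (c.P : Subgroup C)) : ((c.lam ^ k) x : ℂ) = w ^ ((c.idx x).val * k) := by
  simp [lam, chi_val, pow_mul]

theorem gen_one_sub (k : ℕ) : IsGeneralizedCharacter (c.P : Subgroup C)
    fun x => 1 - w ^ ((c.idx x).val * k) := by
  have h := isGeneralizedCharacter_sub
    (isGeneralizedCharacter_of_isCharacter (isCharacter_linear (1 : (c.P : Subgroup C) →* ℂˣ)))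
    (isGeneralizedCharacter_of_isCharacter (isCharacter_linear (c.lam ^ k)))
  convert h using 1
  funext x
  simp only [Pi.sub_apply, MonoidHom.one_apply, Units.val_one]
  rw [c.lam_pow]

theorem gen_const_one : IsGeneralizedCharacter C (fun _ => (1 : ℂ)) :=
  CoherenceBasic.si_gen BSW84.si_one

theorem one_sub_w_mul : (1 - w) * conj (1 - w) = 3 ∧ (1 - w ^ 2) * conj (1 - w ^ 2) = 3 := by
  constructor <;> rw [map_sub, map_one] <;> simp only [map_pow, conj_w]
  · linear_combination w_cube - w_sum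
  · linear_combination (w ^ 3 + 1 - w) * w_cube - w_sum

set_option maxHeartbeats 1000000 in
/-- The first step. -/
theorem exists_good : ∃ L : Subgroup C, c.Good L := by
  set K1 := c.K 1 with hK1
  set K2 := c.K 2 with hK2
  have hcl : ∀ Φ : ConjClasses C → ℂ, IsClassFunction C fun g => Φ (ConjClasses.mk g) := fun Φ g h =>
    congrArg Φ (ConjClasses.mk_eq_mk_iff_isConj.2 (isConj_iff.2 ⟨h, rfl⟩).symm)
  have hclass : ∀ x : (c.P : Subgroup C),
      (c.idx x = 0 ∧ ConjClasses.mk (x : C) ∉ K1 ∪ K2) ∨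
      (c.idx x = 1 ∧ ConjClasses.mk (x : C) ∈ K1) ∨ (c.idx x = 2 ∧ ConjClasses.mk (x : C) ∈ K2) := by
    intro x
    obtain ⟨d, hd⟩ := c.idx_spec x
    rcases three_val (c.idx x) with e | e | e <;> rw [e] at hd <;> rw [hd]
    · refine Or.inl ⟨e, ?_⟩
      rw [c.sp_zero, mul_one, Finset.mem_union, not_or]
      exact ⟨c.not_mem_K (by decide), c.not_mem_K (by decide)⟩
    · exact Or.inr (Or.inl ⟨e, c.mem_K (by decide)⟩)
    · exact Or.inr (Or.inr ⟨e, c.mem_K (by decide)⟩)
  have hreg1 : ConjClasses.mk (pp 3 (1 : C)) ∉ K1 ∪ K2 := by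
    rw [pp_regular (by simp), ← c.el_zero, Finset.mem_union, not_or]
    exact ⟨c.not_mem_K (by decide), c.not_mem_K (by decide)⟩
  have hregv : ConjClasses.mk (pp 3 (c.v 0)) ∉ K1 ∪ K2 := by
    rw [pp_regular (fun h => by
      have := h.trans (orderOf_dvd_of_pow_eq_one (n := 2) (by rw [pow_two]; exact c.v_sq 0))
      norm_num at this), ← c.el_zero, Finset.mem_union, not_or]
    exact ⟨c.not_mem_K (by decide), c.not_mem_K (by decide)⟩
  have hs : ConjClasses.mk (pp 3 c.s) ∈ K1 := by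
    rw [pp_self ⟨1, by rw [pow_one]; exact c.s_cube⟩]
    have h := c.mem_K (d := 0) (i := 1) (by decide)
    rwa [c.el_zero, one_mul, show c.sp 1 = c.s from pow_one _] at h
  by_cases hint : Disjoint K1 K2
  · set Φ : ConjClasses C → ℂ := fun q => if q ∈ K1 then 1 - w else if q ∈ K2 then 1 - w ^ 2 else 0
      with hΦ
    have hout : ∀ q, q ∉ K1 ∪ K2 → Φ q = 0 := fun q hq => by
      simp only [Finset.mem_union, not_or] at hq
      simp [hΦ, hq.1, hq.2]
    have h2 : ∀ q ∈ K2, Φ q = 1 - w ^ 2 := fun q hq => by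
      simp [hΦ, hq, Finset.disjoint_right.1 hint hq]
    have h1 : ∀ q ∈ K1, Φ q = 1 - w := fun q hq => by simp [hΦ, hq]
    have hgen : IsGeneralizedCharacter C fun g => Φ (ConjClasses.mk (pp 3 g)) := by
      refine isGen_lift c.P (hcl Φ) ?_
      convert c.gen_one_sub 1 using 1
      funext x
      rcases hclass x with ⟨e, h⟩ | ⟨e, h⟩ | ⟨e, h⟩
      · rw [hout _ h, e]; simp
      · rw [h1 _ h, e]; simp [ZMod.val_one]
      · rw [h2 _ h, e]; rfl
    have hsum : ∀ F : ConjClasses C → ℂ, (∀ q, q ∉ K1 ∪ K2 → F q = 0) → ∀ a b : ℂ,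
        (∀ q ∈ K1, F q = a) → (∀ q ∈ K2, F q = b) →
        (Nat.card C : ℂ)⁻¹ * ∑ g : C, F (ConjClasses.mk (pp 3 g)) =
          ((K1.card : ℂ) * a + (K2.card : ℂ) * b) / 9 := by
      intro F hF a b ha hb
      rw [c.sum_classes F hF, Finset.sum_union hint, Finset.sum_congr rfl ha, Finset.sum_congr rfl hb,
        Finset.sum_const, Finset.sum_const, nsmul_eq_mul, nsmul_eq_mul]
      field_simp
    obtain ⟨n, hn⟩ := classInner_isGeneralizedCharacter hgen gen_const_one
    rw [inner_one, hsum Φ hout _ _ h1 h2, div_eq_iff (by norm_num : (9 : ℂ) ≠ 0)] at hn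
    have hn' := congrArg conj hn
    simp only [map_add, map_mul, map_sub, map_one, map_pow, conj_w, map_natCast, map_intCast,
      map_ofNat] at hn'
    have hK : (K1.card : ℂ) = K2.card := by
      have : ((K1.card : ℂ) - K2.card) * (w ^ 2 - w) = 0 := by
        linear_combination hn - hn' + (K2.card : ℂ) * (-w) * w_cube
      rcases mul_eq_zero.1 this with h | h
      · exact sub_eq_zero.1 h
      · exact absurd (sub_eq_zero.1 h).symm w_ne
    have h3n : (K1.card : ℤ) = 3 * n := by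
      have : ((K1.card : ℤ) : ℂ) = ((3 * n : ℤ) : ℂ) := by
        rw [← hK] at hn
        push_cast
        linear_combination (hn + (K1.card : ℂ) * w_sum) / 3
      exact_mod_cast this
    have hb := c.card_K 1
    rw [← hK1] at hb
    have hk1 : K1.card = 3 := by omega
    have hn1 : n = 1 := by omega
    have hk2 : K2.card = 3 := by exact_mod_cast (hK ▸ (by exact_mod_cast hk1) : (K2.card : ℂ) = 3)
    obtain ⟨N, hN, hker⟩ := ker_two hgen (by
      have := hsum (fun q => Φ q * conj (Φ q)) (fun q hq => by simp [hout q hq]) 3 3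
        (fun q hq => by rw [h1 q hq]; exact one_sub_w_mul.1)
        (fun q hq => by rw [h2 q hq]; exact one_sub_w_mul.2)
      rw [classInner, this, hk1, hk2]; norm_num)
      (by rw [inner_one, hsum Φ hout _ _ h1 h2, hk1, hk2]
          push_cast
          linear_combination -w_sum / 3)
      (hout _ hreg1)
    refine ⟨N, c.good_of_v hN ((hker _).1 (hout _ hregv)) fun hmem => ?_⟩
    have h := (hker _).2 hmem
    rw [h1 _ hs] at h
    exact w_prim.ne_one (by norm_num) (sub_eq_zero.1 h).symm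
  · set Φ : ConjClasses C → ℂ := fun q => if q ∈ K1 ∪ K2 then 3 else 0 with hΦ
    have hout : ∀ q, q ∉ K1 ∪ K2 → Φ q = 0 := fun q hq => by simp only [hΦ, if_neg hq]
    have hin : ∀ q ∈ K1 ∪ K2, Φ q = 3 := fun q hq => by simp only [hΦ, if_pos hq]
    have hgen : IsGeneralizedCharacter C fun g => Φ (ConjClasses.mk (pp 3 g)) := by
      refine isGen_lift c.P (hcl Φ) ?_
      convert isGeneralizedCharacter_add (c.gen_one_sub 1) (c.gen_one_sub 2) using 1
      funext x
      simp only [Pi.add_apply]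
      rcases hclass x with ⟨e, h⟩ | ⟨e, h⟩ | ⟨e, h⟩
      · rw [hout _ h, e]; simp
      · rw [hin _ (Finset.mem_union_left _ h), e, ZMod.val_one]
        linear_combination w_sum
      · rw [hin _ (Finset.mem_union_right _ h), e, show (2 : ZMod 3).val = 2 from rfl]
        linear_combination w_sum + w * w_cube
    have hsum : ∀ F : ConjClasses C → ℂ, (∀ q, q ∉ K1 ∪ K2 → F q = 0) → ∀ a : ℂ,
        (∀ q ∈ K1 ∪ K2, F q = a) → (Nat.card C : ℂ)⁻¹ * ∑ g : C, F (ConjClasses.mk (pp 3 g)) =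
          ((K1 ∪ K2).card : ℂ) * a / 9 := by
      intro F hF a ha
      rw [c.sum_classes F hF, Finset.sum_congr rfl ha, Finset.sum_const, nsmul_eq_mul]
      field_simp
    obtain ⟨n, hn⟩ := classInner_isGeneralizedCharacter hgen gen_const_one
    rw [inner_one, hsum Φ hout 3 hin] at hn
    have hk : (((K1 ∪ K2).card : ℤ) : ℂ) = ((3 * n : ℤ) : ℂ) := by push_cast; linear_combination 3 * hn
    have hk' : ((K1 ∪ K2).card : ℤ) = 3 * n := by exact_mod_cast hk
    have hcardk : (K1 ∪ K2).card = 3 := by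
      have hui := Finset.card_union_add_card_inter K1 K2
      have hpos : 0 < (K1 ∩ K2).card :=
        Finset.card_pos.2 (Finset.not_disjoint_iff_nonempty_inter.1 hint)
      have := c.card_K 1
      have := c.card_K 2
      rw [← hK1, ← hK2] at *
      have : 1 ≤ (K1 ∪ K2).card := le_trans (c.card_K 1).1 (Finset.card_le_card Finset.subset_union_left)
      omega
    obtain ⟨N, hN, hvN, hker⟩ := ker_three hgen (by
      have := hsum (fun q => Φ q * conj (Φ q)) (fun q hq => by simp [hout q hq]) 9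
        (fun q hq => by rw [hin q hq, map_ofNat]; norm_num)
      rw [classInner, this, hcardk]; norm_num)
      (by rw [inner_one, hsum Φ hout 3 hin, hcardk]; norm_num)
      (hout _ hreg1) (c.v_sq 0) (hout _ hregv) (fun a b => by
        refine hout _ fun hmem => ?_
        have key : ∀ i : ZMod 3, i ≠ 0 →
            ConjClasses.mk (pp 3 (a * c.v 0 * a⁻¹ * (b * c.v 0 * b⁻¹))) ∈ c.K i → False := by
          intro i hi hq
          obtain ⟨x, -, hx⟩ := Finset.mem_image.1 hq
          obtain ⟨h, hh⟩ := isConj_iff.1 (ConjClasses.mk_eq_mk_iff_isConj.1 hx).symm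
          set x' := h * a * c.v 0 * (h * a)⁻¹ with hx'
          set y' := h * b * c.v 0 * (h * b)⁻¹ with hy'
          have e : h * (a * c.v 0 * a⁻¹ * (b * c.v 0 * b⁻¹)) * h⁻¹ = x' * y' := by
            rw [hx', hy']; group
          rw [← pp_conj, e] at hh
          have hx2 : x' * x' = 1 := by rw [hx', conj_mul, c.v_sq]; group
          have hy2 : y' * y' = 1 := by rw [hy', conj_mul, c.v_sq]; group
          refine c.no_inv (mul_mem (c.e_mem_P (c.el_mem (Pi.single 0 x))) (c.sp_mem i))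
            (fun e => hi (c.px_notMem.1 e)) hx2 ?_ (isConj_iff.2 ⟨h * a, rfl⟩)
          rw [← hh, ← pp_conj, ← pp_inv]
          congr 1
          rw [mul_inv_rev x' y', inv_eq_of_mul_eq_one_right hx2, inv_eq_of_mul_eq_one_right hy2,
            ← mul_assoc x' x' y', hx2, one_mul]
        rcases Finset.mem_union.1 hmem with h | h
        · exact key 1 (by decide) h
        · exact key 2 (by decide) h)
    refine ⟨N, c.good_of_v hN hvN fun hmem => ?_⟩
    have h := hker _ hmem
    rw [hin _ (Finset.mem_union_left _ hs)] at h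
    norm_num at h

variable {c} {L : Subgroup C}

set_option maxHeartbeats 1000000 in
/-- The second step. -/
theorem Good.exists_kernel (g : c.Good L) (i : ZMod 3) :
    ∃ N : Subgroup C, N ≤ L ∧ L ≤ Subgroup.normalizer (N : Set C) ∧ c.v i ∈ N ∧
      ∀ d : V3, d i ≠ 0 → c.el d ∉ N := by
  let Sec : C → Prop := fun x => ∃ h ∈ L, ∃ d : V3, d i ≠ 0 ∧ h * x * h⁻¹ = c.el d
  let Ψ : L → ℂ := fun x => if Sec (x : C) then 3 else 0
  have hcoe : ∀ x : L, ((pp 3 x : L) : C) = pp 3 (x : C) := fun x =>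
    (pp_eq (isPPart_coe (pp_spec x))).symm
  have hΨ : IsClassFunction L Ψ := by
    intro x h
    refine if_congr ⟨?_, ?_⟩ rfl rfl
    · rintro ⟨k, hk, d, hd, e⟩
      exact ⟨k * (h : C), mul_mem hk h.2, d, hd, by rw [← e]; simp [mul_assoc]⟩
    · rintro ⟨k, hk, d, hd, e⟩
      exact ⟨k * (h : C)⁻¹, mul_mem hk (inv_mem h.2), d, hd, by rw [← e]; simp [mul_assoc]⟩
  obtain ⟨S, hS⟩ := sylow_exact g.J_le c.isPGroup_J fun m hm h3 hn => g.three hm hn h3
  have hSJ : ∀ x : (S : Subgroup L), ((x : L) : C) ∈ c.J := fun x =>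
    Subgroup.mem_subgroupOf.1 (hS ▸ x.2)
  choose crd hcrd using fun x : (S : Subgroup L) => c.exists_el (hSJ x)
  let lam2 : (S : Subgroup L) →* ℂˣ := MonoidHom.mk' (fun x => chi (crd x i)) fun x y => by
    have e : crd (x * y) = crd x + crd y := c.el_inj (by rw [hcrd, c.el_add, hcrd, hcrd]; rfl)
    show chi _ = chi _ * chi _
    rw [e, Pi.add_apply, chi_add]
  have hlift : IsGeneralizedCharacter L fun x : L => Ψ (pp 3 x) := by
    refine isGen_lift S hΨ ?_
    convert isGeneralizedCharacter_add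
      (isGeneralizedCharacter_sub
        (isGeneralizedCharacter_of_isCharacter (isCharacter_linear (1 : (S : Subgroup L) →* ℂˣ)))
        (isGeneralizedCharacter_of_isCharacter (isCharacter_linear lam2)))
      (isGeneralizedCharacter_sub
        (isGeneralizedCharacter_of_isCharacter (isCharacter_linear (1 : (S : Subgroup L) →* ℂˣ)))
        (isGeneralizedCharacter_of_isCharacter (isCharacter_linear (lam2 ^ 2)))) using 1
    funext x
    have hsec : Sec ((x : L) : C) ↔ crd x i ≠ 0 := by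
      constructor
      · rintro ⟨h, hh, d, hd, e⟩ h0
        rw [← hcrd x] at e
        obtain ⟨o, ho⟩ := g.fusion hh e
        exact fl_nonzero o d i hd (by rw [← ho, fl_fl]; exact h0)
      · exact fun h => ⟨1, one_mem L, crd x, h, by rw [hcrd]; simp⟩
    simp only [Ψ, lam2, Pi.add_apply, Pi.sub_apply, MonoidHom.one_apply, Units.val_one,
      MonoidHom.mk'_apply, MonoidHom.pow_apply, Units.val_pow_eq_pow_val, chi_val, hsec]
    rcases three_val (crd x i) with e | e | e <;> rw [e]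
    · simp
    · rw [if_pos (by decide), ZMod.val_one]
      linear_combination w_sum
    · rw [if_pos (by decide), show (2 : ZMod 3).val = 2 from rfl]
      linear_combination w_sum + w * w_cube
  -- the count
  let T := {x : L // Sec (pp 3 (x : C))}
  let X := {m : L // (m : C) ∈ c.N ∧ ∃ d : V3, d i ≠ 0 ∧ pp 3 (m : C) = c.el d}
  let M := {k : L // (k : C) ∈ c.N}
  let f : L × X → T := fun p => ⟨p.1 * (p.2 : L) * p.1⁻¹, by
    obtain ⟨-, d, hd, e⟩ := p.2.2
    refine ⟨(p.1 : C)⁻¹, inv_mem p.1.2, d, hd, ?_⟩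
    rw [← e, ← pp_conj]
    simp [mul_assoc]⟩
  have hsurj : Function.Surjective f := by
    rintro ⟨x, h, hh, d, hd, e⟩
    set y : L := ⟨h, hh⟩ * x * ⟨h, hh⟩⁻¹ with hy
    have hpy : pp 3 (y : C) = c.el d := by
      rw [← e, ← pp_conj]; rfl
    have hyN : (y : C) ∈ c.N := by
      refine g.cent (d := d) (fun e => hd (by rw [e]; rfl))
        ⟨y.2, Subgroup.mem_centralizer_singleton_iff.2 ?_⟩
      obtain ⟨z, hz, hc, -, -⟩ := pp_spec (p := 3) (y : C)
      have h2 := (Commute.refl (pp 3 (y : C))).mul_right hc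
      rw [hz] at h2
      rw [← hpy]
      exact h2.symm.eq
    exact ⟨(⟨h, hh⟩⁻¹, ⟨y, hyN, d, hd, hpy⟩), Subtype.ext (by simp [f, hy, mul_assoc])⟩
  have hfib : ∀ t : T, Nat.card {p : L × X // f p = t} = Nat.card M := by
    intro t
    obtain ⟨⟨h0, m0⟩, h00⟩ := hsurj t
    have hk : ∀ p : {p : L × X // f p = t}, (((p.1.1)⁻¹ * h0 : L) : C) ∈ c.N := by
      rintro ⟨⟨h, m, hmN, d, hd, hpm⟩, hp⟩
      obtain ⟨-, d0, hd0, hpm0⟩ := m0.2
      have e : ((h⁻¹ * h0 : L) : C) * ((m0 : L) : C) * ((h⁻¹ * h0 : L) : C)⁻¹ = (m : C) := by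
        have := congrArg Subtype.val (congrArg Subtype.val (hp.trans h00.symm))
        simp only [f, Subgroup.coe_mul, Subgroup.coe_inv] at this ⊢
        calc (h : C)⁻¹ * h0 * ((m0 : L) : C) * ((h : C)⁻¹ * h0)⁻¹
            = (h : C)⁻¹ * ((h0 : C) * ((m0 : L) : C) * (h0 : C)⁻¹) * h := by group
          _ = _ := by rw [← this]; group
      have e' := congrArg (pp 3) e
      rw [pp_conj, hpm0, hpm] at e'
      obtain ⟨o, ho⟩ := g.fusion (h⁻¹ * h0).2 e'
      set k := ((h⁻¹ * h0 : L) : C) with hkdef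
      have hc : (c.vo o)⁻¹ * k ∈ L ⊓ Subgroup.centralizer ({c.el d0} : Set C) := by
        refine Subgroup.mem_inf.2 ⟨mul_mem (inv_mem (g.v_mem o)) (h⁻¹ * h0).2,
          Subgroup.mem_centralizer_singleton_iff.2 (mul_inv_eq_iff_eq_mul.1 ?_)⟩
        calc (c.vo o)⁻¹ * k * c.el d0 * ((c.vo o)⁻¹ * k)⁻¹
            = (c.vo o)⁻¹ * (k * c.el d0 * k⁻¹) * c.vo o := by group
          _ = c.el d0 := by rw [e', ← ho, ← c.acts_vo o]; group
      have := mul_mem (c.vo_mem_N o) (g.cent (fun e => hd0 (by rw [e]; rfl)) hc)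
      rwa [mul_inv_cancel_left] at this
    have hback : ∀ k : M, (((k : L) * m0 * (k : L)⁻¹ : L) : C) ∈ c.N ∧ ∃ d : V3, d i ≠ 0 ∧
        pp 3 (((k : L) * m0 * (k : L)⁻¹ : L) : C) = c.el d := by
      intro k
      obtain ⟨hm0, d0, hd0, hpm0⟩ := m0.2
      refine ⟨mul_mem (mul_mem k.2 hm0) (inv_mem k.2), ?_⟩
      obtain ⟨o, ho⟩ := g.rep (k : L).2 k.2
      obtain ⟨a, ha⟩ := c.exists_el ho
      refine ⟨fl o d0, fl_nonzero o d0 i hd0, ?_⟩
      rw [Subgroup.coe_mul, Subgroup.coe_mul, Subgroup.coe_inv, pp_conj, hpm0,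
        show ((k : L) : C) = (c.vo o)⁻¹ * c.el a by rw [ha, inv_mul_cancel_left]]
      exact (((c.acts_vo o).inv (fl_fl o)).mul (c.acts_el a)) d0
    refine Nat.card_congr
      { toFun := fun p => ⟨p.1.1⁻¹ * h0, hk p⟩
        invFun := fun k => ⟨(h0 * (k : L)⁻¹, ⟨_, hback k⟩), by
          rw [← h00]
          exact Subtype.ext (by simp [f, mul_assoc])⟩
        left_inv := ?_
        right_inv := fun k => Subtype.ext (by simp [mul_assoc]) }
    rintro ⟨⟨h, m⟩, hp⟩
    have := congrArg Subtype.val (hp.trans h00.symm)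
    refine Subtype.ext (Prod.ext (by simp) (Subtype.ext ?_))
    simp only [f] at this ⊢
    calc h⁻¹ * h0 * (m0 : L) * (h⁻¹ * h0)⁻¹ = h⁻¹ * (h0 * (m0 : L) * h0⁻¹) * h := by group
      _ = _ := by rw [← this]; group
  have hM : Nat.card M = 108 := by
    have e : Function.Bijective fun p : V3 × Option (ZMod 3) => (⟨⟨c.el p.1 * c.vo p.2,
        mul_mem (g.J_le (c.el_mem _)) (g.v_mem _)⟩,
        mul_mem (c.J_le_N (c.el_mem _)) (c.vo_mem_N _)⟩ : M) := by
      constructor
      · rintro ⟨a, o⟩ ⟨b, o'⟩ h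
        replace h : c.el a * c.vo o = c.el b * c.vo o' := congrArg Subtype.val (congrArg Subtype.val h)
        have : o = o' := fl_inj o o' fun d =>
          ((c.acts_el a).mul (c.acts_vo o)).ext (h.symm ▸ (c.acts_el b).mul (c.acts_vo o')) d
        subst this
        exact Prod.ext (c.el_inj (mul_right_cancel h)) rfl
      · rintro ⟨⟨k, hkL⟩, hkN⟩
        obtain ⟨o, ho⟩ := g.rep hkL hkN
        obtain ⟨a, ha⟩ := c.exists_el ho
        refine ⟨(fl o a, o), Subtype.ext (Subtype.ext ?_)⟩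
        show c.el (fl o a) * c.vo o = k
        rw [← c.acts_vo o a, inv_mul_cancel_right, ha, ← mul_assoc]
        rcases o with _ | j
        · simp [vo]
        · simp [vo, c.v_sq]
    rw [← Nat.card_congr (Equiv.ofBijective _ e), Nat.card_eq_fintype_card]
    rfl
  have hX : Nat.card X = 36 := by
    have e : Function.Bijective fun p : {p : V3 × Option (ZMod 3) // proj p.2 p.1 i ≠ 0} =>
        (⟨⟨c.el p.1.1 * c.vo p.1.2, mul_mem (g.J_le (c.el_mem _)) (g.v_mem _)⟩,
          mul_mem (c.J_le_N (c.el_mem _)) (c.vo_mem_N _), _, p.2, g.pp_rep _ _⟩ : X) := by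
      constructor
      · rintro ⟨⟨a, o⟩, ha⟩ ⟨⟨b, o'⟩, hb⟩ h
        replace h : c.el a * c.vo o = c.el b * c.vo o' := congrArg Subtype.val (congrArg Subtype.val h)
        have : o = o' := fl_inj o o' fun d =>
          ((c.acts_el a).mul (c.acts_vo o)).ext (h.symm ▸ (c.acts_el b).mul (c.acts_vo o')) d
        subst this
        exact Subtype.ext (Prod.ext (c.el_inj (mul_right_cancel h)) rfl)
      · rintro ⟨⟨k, hkL⟩, hkN, d, hd, hpk⟩
        obtain ⟨o, ho⟩ := g.rep hkL hkN
        obtain ⟨a, ha⟩ := c.exists_el ho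
        have hk : c.el (fl o a) * c.vo o = k := by
          rw [← c.acts_vo o a, inv_mul_cancel_right, ha, ← mul_assoc]
          rcases o with _ | j
          · simp [vo]
          · simp [vo, c.v_sq]
        have hpd : proj o (fl o a) = d := c.el_inj (by rw [← g.pp_rep, hk]; exact hpk)
        exact ⟨⟨(fl o a, o), by rw [hpd]; exact hd⟩, Subtype.ext (Subtype.ext hk)⟩
    rw [← Nat.card_congr (Equiv.ofBijective _ e), Nat.card_eq_fintype_card, card_good]
  haveI := Fintype.ofFinite T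
  have hT : 3 * Nat.card T = Nat.card L := by
    have h := Nat.card_congr (Equiv.sigmaFiberEquiv f)
    rw [Nat.card_sigma, Finset.sum_congr rfl fun t _ => hfib t, Finset.sum_const, Finset.card_univ,
      smul_eq_mul, ← Nat.card_eq_fintype_card, Nat.card_prod, hM, hX] at h
    omega
  have hsum : ∀ F : L → ℂ, ∀ a : ℂ, (∀ x : L, F x = if Sec (pp 3 (x : C)) then a else 0) →
      (Nat.card L : ℂ)⁻¹ * ∑ x : L, F x = a / 3 := by
    intro F a hF
    rw [Finset.sum_congr rfl fun x _ => hF x, ← Finset.sum_filter, Finset.sum_const, nsmul_eq_mul,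
      ← Fintype.card_subtype, ← Nat.card_eq_fintype_card, ← hT]
    push_cast
    have : (Nat.card T : ℂ) ≠ 0 := by
      intro h
      rw [Nat.cast_eq_zero] at h
      have := Nat.card_pos (α := L)
      omega
    field_simp
    rfl
  have hval : ∀ x : L, Ψ (pp 3 x) = if Sec (pp 3 (x : C)) then 3 else 0 := fun x => by
    simp only [Ψ, hcoe]
  have hreg : ∀ x : L, pp 3 (x : C) = 1 → Ψ (pp 3 x) = 0 := fun x hx => by
    rw [hval, hx, if_neg]
    rintro ⟨h, -, d, hd, e⟩
    rw [mul_one, mul_inv_cancel, ← c.el_zero] at e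
    exact hd (by rw [← c.el_inj e]; rfl)
  set vi : L := ⟨c.v i, g.v_mem (some i)⟩ with hvi
  have hv2 : vi * vi = 1 := Subtype.ext (c.v_sq i)
  obtain ⟨N, hN, hvN, hker⟩ := ker_three hlift
    (by
      rw [classInner, hsum (fun x => Ψ (pp 3 x) * conj (Ψ (pp 3 x))) 9 fun x => by
        rw [hval]; split_ifs <;> norm_num [map_ofNat]]
      norm_num)
    (by rw [inner_one, hsum _ 3 hval]; norm_num)
    (hreg 1 (pp_regular (by simp))) hv2
    (hreg vi (pp_regular fun h => by
      have := h.trans (orderOf_dvd_of_pow_eq_one (n := 2) (by rw [pow_two]; exact c.v_sq i))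
      norm_num at this))
    (fun a b => by
      show Ψ (pp 3 _) = 0
      rw [hval, if_neg]
      rintro ⟨h, hh, d, hd, e⟩
      simp only [Subgroup.coe_mul, Subgroup.coe_inv, hvi] at e
      rw [← pp_conj] at e
      refine g.no_inv hd (l := h * (a : C)) (mul_mem hh a.2) ?_
      set x' := h * (a : C) * c.v i * (h * (a : C))⁻¹ with hx'
      set y' := h * (b : C) * c.v i * (h * (b : C))⁻¹ with hy'
      have e2 : h * ((a : C) * c.v i * (a : C)⁻¹ * ((b : C) * c.v i * (b : C)⁻¹)) * h⁻¹ = x' * y' := by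
        rw [hx', hy']; group
      rw [e2] at e
      have hx2 : x' * x' = 1 := by rw [hx', conj_mul, c.v_sq]; group
      have hy2 : y' * y' = 1 := by rw [hy', conj_mul, c.v_sq]; group
      rw [← e, ← pp_conj, ← pp_inv]
      congr 1
      rw [mul_inv_rev x' y', inv_eq_of_mul_eq_one_right hx2, inv_eq_of_mul_eq_one_right hy2,
        ← mul_assoc x' x' y', hx2, one_mul])
  refine ⟨N.map L.subtype, Subgroup.map_subtype_le N, fun m hm => Subgroup.mem_normalizer_fintype ?_,
    ⟨vi, hvN, rfl⟩, ?_⟩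
  · rintro _ ⟨x, hx, rfl⟩
    exact ⟨⟨m, hm⟩ * x * (⟨m, hm⟩ : L)⁻¹, hN.conj_mem x hx _, rfl⟩
  · rintro d hd ⟨x, hx, e⟩
    have h := hker x hx
    rw [hval, if_pos] at h
    · norm_num at h
    · refine ⟨1, one_mem L, d, hd, ?_⟩
      rw [show (x : C) = c.el d from e, pp_self ⟨1, by rw [pow_one]; exact c.el_cube d⟩]
      simp

/-- In the configuration `J` is normal. -/
theorem top : c.N = ⊤ := by
  obtain ⟨L, g⟩ := c.exists_good
  obtain ⟨N0, hN0, hn0, hv0, hd0⟩ := g.exists_kernel 0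
  obtain ⟨N1, hN1, hn1, hv1, hd1⟩ := g.exists_kernel 1
  set K : Subgroup C := N0 ⊓ N1 with hK
  have hnK : L ≤ Subgroup.normalizer (K : Set C) := fun m hm =>
    Subgroup.mem_normalizer_fintype fun x hx =>
      ⟨(Subgroup.mem_normalizer_iff.1 (hn0 hm) x).1 hx.1,
        (Subgroup.mem_normalizer_iff.1 (hn1 hm) x).1 hx.2⟩
  have hcommv : ∀ (N : Subgroup C) (m : C) (o : Option (ZMod 3)) (d : V3), m ∈ N →
      L ≤ Subgroup.normalizer (N : Set C) → c.Acts m (fl o) → c.el (fl o d - d) ∈ N := by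
    intro N m o d hm hn hact
    have h := mul_mem hm ((Subgroup.mem_normalizer_iff.1 (hn (g.J_le (c.el_mem d))) _).1 (inv_mem hm))
    rw [sub_eq_add_neg, c.el_add, c.el_neg, ← hact d]
    simpa [mul_assoc] using h
  have hH : K ⊔ c.J = c.J := by
    refine c.eq_J le_sup_right fun m ⟨hm, hmN⟩ => ?_
    have hsL : K ⊔ c.J ≤ L := sup_le (inf_le_left.trans hN0) g.J_le
    obtain ⟨o, ho⟩ := g.rep (hsL hm) hmN
    obtain ⟨a, ha⟩ := c.exists_el ho
    rcases o with _ | j
    · simpa [vo] using ho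
    exfalso
    have hmset : m ∈ ((c.J ⊔ K : Subgroup C) : Set C) := by rw [sup_comm] at hm; exact hm
    rw [Subgroup.coe_mul_of_left_le_normalizer_right c.J K (g.J_le.trans hnK)] at hmset
    obtain ⟨y, hy, k, hk, hyk⟩ := hmset
    obtain ⟨b, hb⟩ := c.exists_el hy
    have hkact : c.Acts k (fl (some j)) := fun d => by
      have hm' : m = (c.vo (some j))⁻¹ * c.el a := by rw [ha, inv_mul_cancel_left]
      have hk' : k = (c.el b)⁻¹ * ((c.vo (some j))⁻¹ * c.el a) := by
        rw [← hm', ← hyk, ← hb]; simp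
      rw [hk', ← c.el_neg,
        ((c.acts_el (-b)).mul (((c.acts_vo (some j)).inv (fl_fl _)).mul (c.acts_el a))) d]
      rfl
    by_cases hj : j = 0
    · subst hj
      exact hd1 _ (by decide) (hcommv N1 k (some 0) (Pi.single 1 1) hk.2 hn1 hkact)
    · exact hd0 _ (kill_off j hj) (hcommv N0 k (some j) (Pi.single 0 1) hk.1 hn0 hkact)
  have hKJ : ∀ x ∈ K, ∃ y : ZMod 3, c.el (Pi.single 2 y) = x := by
    intro x hx
    obtain ⟨d, hd⟩ := c.exists_el (hH ▸ Subgroup.mem_sup_left hx)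
    refine ⟨d 2, ?_⟩
    have h0 : d 0 = 0 := by_contra fun h => hd0 d h (hd.symm ▸ hx.1)
    have h1 : d 1 = 0 := by_contra fun h => hd1 d h (hd.symm ▸ hx.2)
    rw [← hd]
    congr 1
    funext j
    rcases three_val j with rfl | rfl | rfl <;> simp (config := { decide := true }) [h0, h1]
  have he2 : c.el (Pi.single 2 1) ∈ K := by
    have h0 := hcommv N0 _ (some 0) (Pi.single 2 1) hv0 hn0 (c.acts_vo (some 0))
    have h1 := hcommv N1 _ (some 1) (Pi.single 2 1) hv1 hn1 (c.acts_vo (some 1))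
    have e : ∀ j : ZMod 3, j ≠ 2 →
        fl (some j) (Pi.single 2 1) - (Pi.single 2 1 : V3) = Pi.single 2 1 := by decide +kernel
    rw [e 0 (by decide)] at h0
    rw [e 1 (by decide)] at h1
    exact ⟨h0, h1⟩
  have hLN : L ≤ c.N := by
    intro l hl
    obtain ⟨y, hy⟩ := hKJ _ ((Subgroup.mem_normalizer_iff.1 (hnK hl) _).1 he2)
    have hns : ∀ y, Subgroup.centralizer ({c.el (Pi.single 2 y)} : Set C) ≤ c.N ∨ y = 0 := fun y => by
      by_cases h : y = 0
      · exact Or.inr h
      · exact Or.inl (c.cent_sing (fun e => h (by simpa using congrFun e 2)) (Or.inr ⟨2, y, rfl⟩))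
    have hc := (hns 1).resolve_right (by decide)
    rcases three_val y with rfl | rfl | rfl
    · rw [Pi.single_zero, c.el_zero, eq_comm, mul_inv_eq_one, mul_eq_left, ← c.el_zero] at hy
      exact absurd (congrFun (c.el_inj hy) 2) (by simp)
    · exact hc (Subgroup.mem_centralizer_singleton_iff.2 (mul_inv_eq_iff_eq_mul.1 hy.symm))
    · have h : c.vo (some 0) * l ∈ Subgroup.centralizer ({c.el (Pi.single 2 1)} : Set C) := by
        refine Subgroup.mem_centralizer_singleton_iff.2 (mul_inv_eq_iff_eq_mul.1 ?_)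
        calc c.vo (some 0) * l * c.el (Pi.single 2 1) * (c.vo (some 0) * l)⁻¹
            = c.vo (some 0) * (l * c.el (Pi.single 2 1) * l⁻¹) * (c.vo (some 0))⁻¹ := by group
          _ = _ := by
            rw [← hy, c.acts_vo]
            exact congrArg c.el (by decide +kernel)
      have := mul_mem (inv_mem (c.vo_mem_N (some 0))) (hc h)
      rwa [inv_mul_cancel_left] at this
  rw [eq_top_iff]
  intro x _
  refine Subgroup.mem_normalizer_fintype fun j hj => ?_
  have hL : x * j * x⁻¹ ∈ L := g.normal.conj_mem j (g.J_le hj) x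
  obtain ⟨k, hk⟩ := c.isPGroup_J ⟨j, hj⟩
  exact g.three hL (hLN hL) ⟨k, by rw [conj_pow, show j ^ 3 ^ k = 1 from congrArg Subtype.val hk]; group⟩

end Chars

end Cfg

end Cfsg.Agent.McL3Cfg77
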