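import Mathlib
import Cfsg.Agent.Lib.McL3Frame78
import Cfsg.Agent.Lib.McL3YLocal39
import Cfsg.Agent.Lib.McL3Loc23
import Cfsg.Agent.Lib.McL3Chars77

/-!
# S5523, S2913: elements of `Q` and their centralizers in `L`

An element of `Q` outside `Z` is centralized modulo `z` by exactly a Sylow 3-subgroup of `L`; so none
is conjugate to `z`, and an element of `C(z)` centralizing one in `J` normalizes `J`.
-/

set_option autoImplicit false
set_option linter.unusedSectionVars false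
set_option linter.style.haveILetI false

namespace Cfsg.Agent.McL3Weak77

open Cfsg.Agent.McL3x39 Cfsg.Agent.McL3Loc23

variable {G : Type*} [Group G] [Finite G]

theorem Frame_tt {d : Data G} (l : Loc d) : l.t * l.t = 1 := by
  rw [← pow_two, ← l.order_t, pow_orderOf_eq_one]

theorem zc {d : Data G} {a : G} (ha : a ∈ d.L) (i : ℤ) : a * d.z ^ i = d.z ^ i * a :=
  ((show Commute a d.z from z_mem_center_L d ha).zpow_right i).eq

/-- The elements of `L` fixing `v` modulo `z`. -/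
def stab (d : Data G) {v : G} (hv : v ∈ d.Q) : Subgroup G where
  carrier := {a | a ∈ d.L ∧ a * v * a⁻¹ * v⁻¹ ∈ Subgroup.zpowers d.z}
  one_mem' := ⟨one_mem _, by simp⟩
  mul_mem' := by
    rintro a b ⟨ha, ha'⟩ ⟨hb, hb'⟩
    refine ⟨mul_mem ha hb, ?_⟩
    obtain ⟨i, hi⟩ := Subgroup.mem_zpowers_iff.1 hb'
    have e : a * b * v * (a * b)⁻¹ * v⁻¹ = (a * (b * v * b⁻¹ * v⁻¹) * a⁻¹) * (a * v * a⁻¹ * v⁻¹) := by
      group
    rw [e, ← hi, zc ha i, mul_inv_cancel_right]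
    exact mul_mem (Subgroup.zpow_mem_zpowers _ _) ha'
  inv_mem' := by
    rintro a ⟨ha, ha'⟩
    refine ⟨inv_mem ha, ?_⟩
    obtain ⟨i, hi⟩ := Subgroup.mem_zpowers_iff.1 ha'
    have e : a⁻¹ * v * a⁻¹⁻¹ * v⁻¹ = a⁻¹ * (a * v * a⁻¹ * v⁻¹)⁻¹ * a := by group
    rw [e, ← hi, ← zpow_neg, zc (inv_mem ha) (-i), inv_mul_cancel_right]
    exact Subgroup.zpow_mem_zpowers _ _

theorem mem_stab {d : Data G} {v : G} (hv : v ∈ d.Q) {a : G} :
    a ∈ stab d hv ↔ a ∈ d.L ∧ a * v * a⁻¹ * v⁻¹ ∈ Subgroup.zpowers d.z := Iff.rfl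

theorem Q_le_stab {d : Data G} {v : G} (hv : v ∈ d.Q) : d.Q ≤ stab d hv :=
  fun a ha => ⟨d.Q_le_L ha, d.comm_Q a ha v hv⟩

theorem sl5_powers : ∀ b : SL5, b ≠ 1 →
    b ^ 3 = 1 ∨ b = mI ∨ b ^ 2 = mI ∨ b ^ 3 = mI ∨ b ^ 5 = mI ∨ b ^ 5 = 1 := by decide +kernel

/-- The projection of `L` on `SL₂(5)`. -/
theorem exists_proj5 (d : Data G) : ∃ π : d.L →* SL5, Function.Surjective π ∧
    ∀ a : d.L, π a = 1 ↔ (a : G) ∈ d.Q := by
  obtain ⟨e⟩ := d.eL
  haveI := d.Q_sub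
  refine ⟨e.toMonoidHom.comp (QuotientGroup.mk' _),
    e.surjective.comp (QuotientGroup.mk'_surjective _), fun a => ?_⟩
  show e (QuotientGroup.mk a) = 1 ↔ _
  rw [map_eq_one_iff e e.injective, QuotientGroup.eq_one_iff, Subgroup.mem_subgroupOf]

theorem t_image {d : Data G} (l : Loc d) {π : d.L →* SL5}
    (hπ : ∀ a : d.L, π a = 1 ↔ (a : G) ∈ d.Q) :
    π ⟨l.t, (l.L1_le l.t_mem_L1).1⟩ = mI := by
  refine eq_mI_of_sq ?_ ?_
  · rw [← map_mul]
    exact (hπ _).2 (by show l.t * l.t ∈ d.Q; rw [Frame_tt l]; exact one_mem _)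
  · intro h
    have hQ : l.t ∈ d.Q := (hπ _).1 h
    have h3 := d.exp_Q _ hQ
    rw [pow_succ, pow_two, Frame_tt l, one_mul] at h3
    have := l.order_t
    rw [h3, orderOf_one] at this
    omega

/-- The stabilizer has no elements of order two or five modulo `Q`. -/
theorem stab_image {d : Data G} (l : Loc d) {π : d.L →* SL5}
    (hπ : ∀ a : d.L, π a = 1 ↔ (a : G) ∈ d.Q) {v : G} (hv : v ∈ d.Q)
    (hvz : v ∉ Subgroup.zpowers d.z) {a : d.L} (ha : (a : G) ∈ stab d hv) :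
    π a ≠ mI ∧ (π a ^ 5 = 1 → π a = 1) := by
  constructor
  · intro h
    set t' : d.L := ⟨l.t, (l.L1_le l.t_mem_L1).1⟩ with ht'
    have hq : ((t'⁻¹ * a : d.L) : G) ∈ d.Q := (hπ _).1 (by rw [map_mul, map_inv, h, t_image l hπ, inv_mul_cancel])
    have htS : l.t ∈ stab d hv := by
      have := mul_mem ha (inv_mem (Q_le_stab hv hq))
      simpa [ht', mul_assoc] using this
    have h2 : l.t * v * l.t⁻¹ * v ∈ Subgroup.zpowers d.z := McL3Frame78.t_inverts (l := l) hv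
    have h3 : v⁻¹ * v⁻¹ ∈ Subgroup.zpowers d.z := by
      have e : v⁻¹ * v⁻¹ = (l.t * v * l.t⁻¹ * v)⁻¹ * (l.t * v * l.t⁻¹ * v⁻¹) := by group
      rw [e]
      exact mul_mem (inv_mem h2) htS.2
    refine hvz ?_
    have e : v = v⁻¹ * v⁻¹ * (v ^ 3) := by simp [pow_succ, mul_assoc]
    rw [e, d.exp_Q v hv, mul_one]
    exact h3
  · intro h5
    by_contra h1
    have h5Q : ((a ^ 5 : d.L) : G) ∈ d.Q := (hπ _).1 (by rw [map_pow, h5])
    set c : G := (a : G) ^ 3 with hc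
    have hc5 : c ^ 5 = 1 := by
      rw [hc, ← pow_mul, show 3 * 5 = 5 * 3 from rfl, pow_mul]
      exact d.exp_Q _ (by simpa using h5Q)
    have hcL : c ∈ d.L := pow_mem a.2 3
    have hcQ : c ∉ d.Q := fun h => h1 (by
      have h3 : π a ^ 3 = 1 := by
        rw [← map_pow]; exact (hπ _).2 (by simpa [hc] using h)
      simpa using (pow_gcd_eq_one (a := π a) (m := 3) (n := 5)).2 ⟨h3, h5⟩)
    have hcs : c ∈ stab d hv := pow_mem ha 3
    set A : Subgroup G := Subgroup.zpowers d.z ⊔ Subgroup.zpowers v with hA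
    have hAQ : A ≤ d.Q := sup_le (Subgroup.zpowers_le.2 d.z_mem_Q) (Subgroup.zpowers_le.2 hv)
    have hinv : ∀ y ∈ A, c * y * c⁻¹ ∈ A := by
      have hle : A ≤ A.comap (MulAut.conj c).toMonoidHom := by
        refine sup_le (Subgroup.zpowers_le.2 ?_) (Subgroup.zpowers_le.2 ?_)
        · show c * d.z * c⁻¹ ∈ A
          rw [z_mem_center_L d hcL, mul_inv_cancel_right]
          exact Subgroup.mem_sup_left (Subgroup.mem_zpowers _)
        · show c * v * c⁻¹ ∈ A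
          have e : c * v * c⁻¹ = (c * v * c⁻¹ * v⁻¹) * v := by group
          rw [e]
          exact mul_mem (Subgroup.mem_sup_left hcs.2) (Subgroup.mem_sup_right (Subgroup.mem_zpowers _))
      exact fun y hy => hle hy
    rcases fixed_small d hc5 (fun h => hcQ (h ▸ one_mem _)) hcL hAQ
      (Subgroup.mem_sup_left (Subgroup.mem_zpowers _)) hinv with h3 | hQ
    · refine hvz ?_
      have := Subgroup.eq_of_le_of_card_ge (le_sup_left : Subgroup.zpowers d.z ≤ A)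
        (by rw [h3, Nat.card_zpowers, d.order_z])
      exact this.symm ▸ Subgroup.mem_sup_right (Subgroup.mem_zpowers v)
    · have hc' : ∀ a ∈ A, ∀ b ∈ A, a * b = b * a := by
        have hzv : Commute d.z v := (z_mem_center_L d (d.Q_le_L hv)).symm
        have hle : ∀ y, Commute y d.z → Commute y v → A ≤ Subgroup.centralizer ({y} : Set G) :=
          fun y h1 h2 => sup_le (Subgroup.zpowers_le.2 (Subgroup.mem_centralizer_singleton_iff.2 h1.symm.eq))
            (Subgroup.zpowers_le.2 (Subgroup.mem_centralizer_singleton_iff.2 h2.symm.eq))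
        intro y hy w hw
        have hyz : Commute y d.z := (Subgroup.mem_centralizer_singleton_iff.1 (hle d.z (.refl _) hzv hy))
        have hyv : Commute y v := (Subgroup.mem_centralizer_singleton_iff.1 (hle v hzv.symm (.refl _) hy))
        exact (Subgroup.mem_centralizer_singleton_iff.1 (hle y hyz hyv hw)).symm
      have := d.abelian_le hAQ hc'
      rw [hQ, d.card_Q] at this
      omega

theorem stab_three {d : Data G} (l : Loc d) {v : G} (hv : v ∈ d.Q)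
    (hvz : v ∉ Subgroup.zpowers d.z) : IsPGroup 3 (stab d hv) := by
  obtain ⟨π, -, hπ⟩ := exists_proj5 d
  rintro ⟨a, ha⟩
  refine ⟨2, Subtype.ext ?_⟩
  set a' : d.L := ⟨a, ha.1⟩ with ha'
  have hp : ∀ n : ℕ, π a' ^ n ≠ mI ∧ ((π a' ^ n) ^ 5 = 1 → π a' ^ n = 1) := fun n => by
    rw [← map_pow]
    exact stab_image l hπ hv hvz (a := a' ^ n) (by simpa [ha'] using pow_mem (show a ∈ stab d hv from ha) n)
  have h3 : π a' ^ 3 = 1 := by
    by_cases h1 : π a' = 1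
    · rw [h1, one_pow]
    rcases sl5_powers _ h1 with h | h | h | h | h | h
    · exact h
    · exact absurd (by rwa [pow_one]) (hp 1).1
    · exact absurd h (hp 2).1
    · exact absurd h (hp 3).1
    · exact absurd h (hp 5).1
    · exact absurd (by simpa using (hp 1).2 (by rwa [pow_one])) h1
  have hQ : a ^ 3 ∈ d.Q := by
    have := (hπ (a' ^ 3)).1 (by rw [map_pow, h3])
    simpa [ha'] using this
  show a ^ 3 ^ 2 = 1
  rw [show (3 : ℕ) ^ 2 = 3 * 3 from rfl, pow_mul]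
  exact d.exp_Q _ hQ

/-- Some element outside `Q` fixes `v` modulo `z`. -/
theorem stab_ne {d : Data G} {v : G} (hv : v ∈ d.Q) : ¬ stab d hv ≤ d.Q := by
  classical
  intro hle
  set Z0 := (Subgroup.zpowers d.z).subgroupOf d.Q
  let f : d.L → d.Q ⧸ Z0 := fun a => QuotientGroup.mk ⟨(a : G) * v * (a : G)⁻¹, conj_Q d (mem_N_of_L d a.2) hv⟩
  haveI := Fintype.ofFinite d.L
  have hfib : ∀ y, Nat.card {a : d.L // f a = y} ≤ 243 := by
    intro y
    by_cases hne : Nonempty {a : d.L // f a = y}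
    · obtain ⟨⟨b, hb⟩⟩ := hne
      rw [← d.card_Q]
      refine Nat.card_le_card_of_injective
        (fun a : {a : d.L // f a = y} => (⟨(b : G)⁻¹ * ((a : d.L) : G), hle ?_⟩ : d.Q)) ?_
      · refine ⟨mul_mem (inv_mem b.2) (a : d.L).2, ?_⟩
        have hab := Subgroup.mem_subgroupOf.1 (QuotientGroup.eq.1 (hb.trans a.2.symm))
        obtain ⟨i, hi⟩ := Subgroup.mem_zpowers_iff.1 hab
        simp only [Subgroup.coe_mul, Subgroup.coe_inv] at hi
        have e1 : ((a : d.L) : G) * v * ((a : d.L) : G)⁻¹ = (b : G) * v * (b : G)⁻¹ * d.z ^ i := by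
          rw [hi]; group
        have e : (b : G)⁻¹ * ((a : d.L) : G) * v * ((b : G)⁻¹ * ((a : d.L) : G))⁻¹ * v⁻¹ = d.z ^ i := by
          calc (b : G)⁻¹ * ((a : d.L) : G) * v * ((b : G)⁻¹ * ((a : d.L) : G))⁻¹ * v⁻¹
              = (b : G)⁻¹ * (((a : d.L) : G) * v * ((a : d.L) : G)⁻¹) * b * v⁻¹ := by group
            _ = v * ((b : G)⁻¹ * d.z ^ i) * b * v⁻¹ := by rw [e1]; group
            _ = v * d.z ^ i * v⁻¹ := by rw [zc (inv_mem b.2) i]; group
            _ = d.z ^ i := by rw [zc (d.Q_le_L hv) i, mul_inv_cancel_right]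
        rw [e]
        exact Subgroup.zpow_mem_zpowers _ _
      · intro a a' h
        exact Subtype.ext (Subtype.ext (mul_left_cancel (congrArg Subtype.val h)))
    · rw [not_nonempty_iff] at hne
      simp
  haveI := Fintype.ofFinite (d.Q ⧸ Z0)
  have hZ : Nat.card (d.Q ⧸ Z0) = 81 := by
    have h := Z0.card_mul_index
    rw [Nat.card_congr (Subgroup.subgroupOfEquivOfLe (Subgroup.zpowers_le.2 d.z_mem_Q)).toEquiv,
      Nat.card_zpowers, d.order_z, d.card_Q] at h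
    show Z0.index = 81
    omega
  have h : Nat.card d.L ≤ 81 * 243 := by
    rw [← Nat.card_congr (Equiv.sigmaFiberEquiv f), Nat.card_sigma]
    refine (Finset.sum_le_sum fun y _ => hfib y).trans ?_
    rw [Finset.sum_const, Finset.card_univ, smul_eq_mul, ← Nat.card_eq_fintype_card, hZ]
  rw [card_L] at h
  omega

theorem S_three (d : Data G) {a : G} (h3 : ∃ k : ℕ, a ^ 3 ^ k = 1)
    (hn : a ∈ Subgroup.normalizer ((d.S : Subgroup G) : Set G)) : a ∈ (d.S : Subgroup G) := by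
  haveI : Fact (Nat.Prime 3) := ⟨Nat.prime_three⟩
  obtain ⟨k, hk⟩ := h3
  have hR : IsPGroup 3 (Subgroup.zpowers a) := by
    obtain ⟨j, -, hj⟩ := (Nat.dvd_prime_pow Nat.prime_three).1 (orderOf_dvd_of_pow_eq_one hk)
    exact IsPGroup.of_card (n := j) (by rw [Nat.card_zpowers, hj])
  have hsup := hR.to_sup_of_normal_right' d.S.2 (Subgroup.zpowers_le.2 hn)
  exact (d.three_group_le hsup le_sup_right) ▸ Subgroup.mem_sup_left (Subgroup.mem_zpowers a)

/-- No element of `Q` outside `Z` is conjugate to `z` or its inverse. -/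
theorem not_z_in_Q {d : Data G} (l : Loc d) {v : G} (hv : v ∈ d.Q)
    (hvz : v ∉ Subgroup.zpowers d.z) : ¬ IsConj d.z v ∧ ¬ IsConj d.z⁻¹ v := by
  obtain ⟨a, ha, haQ⟩ := SetLike.not_le_iff_exists.1 (stab_ne hv)
  obtain ⟨k, hk⟩ := stab_three l hv hvz ⟨a, ha⟩
  obtain ⟨c, hc, hca⟩ := McL3Chars77.conj_into d.S_le_L d.S.2 (fun m _ h3 hn => S_three d h3 hn) ha.1
    ⟨k, congrArg Subtype.val hk⟩
  set a' := c * a * c⁻¹ with ha'
  set v' := c * v * c⁻¹ with hv'
  have hv'Q : v' ∈ d.Q := conj_Q d (mem_N_of_L d hc) hv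
  have ha'Q : a' ∉ d.Q := fun h => haQ (by
    have := conj_Q d (mem_N_of_L d (inv_mem hc)) h
    simpa [ha', mul_assoc] using this)
  have ha'L : a' ∈ d.L := d.S_le_L hca
  have hfix : a' * v' * a'⁻¹ * v'⁻¹ ∈ Subgroup.zpowers d.z := by
    obtain ⟨i, hi⟩ := Subgroup.mem_zpowers_iff.1 ha.2
    have e : a' * v' * a'⁻¹ * v'⁻¹ = c * (a * v * a⁻¹ * v⁻¹) * c⁻¹ := by rw [ha', hv']; group
    rw [e, ← hi, zc hc i, mul_inv_cancel_right]
    exact Subgroup.zpow_mem_zpowers _ _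
  obtain ⟨j, hj, q0, hq0, hjq⟩ : ∃ j ∈ d.J, ∃ q ∈ d.Q, a' = j * q := by
    have h2 : a' ∈ ((d.J ⊔ d.Q : Subgroup G) : Set G) := by
      rw [SetLike.mem_coe, d.J_sup_Q]; exact hca
    rw [Subgroup.coe_mul_of_left_le_normalizer_right d.J d.Q
      (d.J_le_S.trans (d.S_le_L.trans d.L_le_normalizer))] at h2
    obtain ⟨j, hj, q, hq, e⟩ := h2
    exact ⟨j, hj, q, hq, e.symm⟩
  let W : Subgroup G :=
    { carrier := {w | w ∈ d.Q ∧ a' * w * a'⁻¹ * w⁻¹ ∈ Subgroup.zpowers d.z}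
      one_mem' := ⟨one_mem _, by simp⟩
      mul_mem' := by
        rintro p r ⟨hp, hp'⟩ ⟨hr, hr'⟩
        refine ⟨mul_mem hp hr, ?_⟩
        obtain ⟨i, hi⟩ := Subgroup.mem_zpowers_iff.1 hr'
        have e : a' * (p * r) * a'⁻¹ * (p * r)⁻¹ =
            (a' * p * a'⁻¹ * p⁻¹) * (p * (a' * r * a'⁻¹ * r⁻¹) * p⁻¹) := by group
        rw [e, ← hi, zc (d.Q_le_L hp) i, mul_inv_cancel_right]
        exact mul_mem hp' (Subgroup.zpow_mem_zpowers _ _)
      inv_mem' := by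
        rintro p ⟨hp, hp'⟩
        refine ⟨inv_mem hp, ?_⟩
        obtain ⟨i, hi⟩ := Subgroup.mem_zpowers_iff.1 hp'
        have e : a' * p⁻¹ * a'⁻¹ * p⁻¹⁻¹ = p⁻¹ * (a' * p * a'⁻¹ * p⁻¹)⁻¹ * p := by group
        rw [e, ← hi, ← zpow_neg, zc (d.Q_le_L (inv_mem hp)) (-i), inv_mul_cancel_right]
        exact Subgroup.zpow_mem_zpowers _ _ }
  have hJW : (d.J ⊓ d.Q : Subgroup G) ≤ W := fun w hw => by
    refine ⟨hw.2, ?_⟩
    obtain ⟨i, hi⟩ := Subgroup.mem_zpowers_iff.1 (d.comm_Q q0 hq0 w hw.2)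
    have hzj : d.z ^ i * w ∈ d.J := mul_mem (zpow_mem d.z_mem_J i) hw.1
    have e1 : q0 * w * q0⁻¹ = d.z ^ i * w := by rw [hi]; group
    have e : a' * w * a'⁻¹ * w⁻¹ = d.z ^ i := by
      calc a' * w * a'⁻¹ * w⁻¹ = j * (q0 * w * q0⁻¹) * j⁻¹ * w⁻¹ := by rw [hjq]; group
        _ = d.z ^ i := by rw [e1, d.J_comm j hj _ hzj]; group
    rw [e]
    exact Subgroup.zpow_mem_zpowers _ _
  have hzW : d.z ∈ W := hJW ⟨d.z_mem_J, d.z_mem_Q⟩
  have hWQ : W ≤ d.Q := fun w hw => hw.1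
  have h81 := d.small_fix ha'L (by
    have h9 : ((a : G)) ^ 3 ^ k = 1 := congrArg Subtype.val hk
    obtain ⟨π, -, hπ⟩ := exists_proj5 d
    have hh : (⟨a', ha'L⟩ : d.L) ^ 3 ^ k = 1 := Subtype.ext (by
      simp only [SubmonoidClass.mk_pow, OneMemClass.coe_one]
      rw [ha', conj_pow, h9, mul_one, mul_inv_cancel])
    have hsl : ∀ b : SL5, b ^ 9 = 1 → b ^ 3 = 1 := by decide +kernel
    have key : π ⟨a', ha'L⟩ ^ 3 = 1 := by
      obtain ⟨i, hik, hi⟩ := (Nat.dvd_prime_pow Nat.prime_three).1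
        (orderOf_dvd_of_pow_eq_one (x := π ⟨a', ha'L⟩) (n := 3 ^ k) (by rw [← map_pow, hh, map_one]))
      have hi2 : i ≤ 2 := by
        by_contra hlt
        have h27 : 3 ^ 3 ∣ Nat.card SL5 :=
          (pow_dvd_pow 3 (by omega : 3 ≤ i)).trans (hi ▸ orderOf_dvd_natCard _)
        rw [card_SL5] at h27
        norm_num at h27
      refine hsl _ (orderOf_dvd_iff_pow_eq_one.1 ?_)
      rw [hi, show (9 : ℕ) = 3 ^ 2 from rfl]
      exact pow_dvd_pow 3 hi2
    have := (hπ (⟨a', ha'L⟩ ^ 3)).1 (by rw [map_pow, key])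
    simpa using this) ha'Q (W := W) hWQ hzW (fun w hw => hw.2)
  have hWeq : (d.J ⊓ d.Q : Subgroup G) = W := by
    refine Subgroup.eq_of_le_of_card_ge hJW ?_
    obtain ⟨i, -, hi⟩ := (Nat.dvd_prime_pow Nat.prime_three).1
      ((Subgroup.card_dvd_of_le hWQ).trans (by rw [d.card_Q]; norm_num) : Nat.card W ∣ 3 ^ 5)
    rw [d.card_meet]
    rw [hi] at h81 ⊢
    have : i ≤ 3 := by
      by_contra hlt
      have : (3 : ℕ) ^ 4 ≤ 3 ^ i := Nat.pow_le_pow_right (by norm_num) (by omega)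
      omega
    exact (Nat.pow_le_pow_right (by norm_num) this).trans_eq (by norm_num)
  have hv'J : v' ∈ (d.J ⊓ d.Q : Subgroup G) := hWeq.symm ▸ ⟨hv'Q, hfix⟩
  have hv'z : v' ∉ Subgroup.zpowers d.z := fun h => hvz (by
    obtain ⟨i, hi⟩ := Subgroup.mem_zpowers_iff.1 h
    have e : v = c⁻¹ * d.z ^ i * c := by rw [hi, hv']; group
    rw [e, zc (inv_mem hc) i, inv_mul_cancel_right]
    exact Subgroup.zpow_mem_zpowers _ _)
  have key : ∀ g : G, g * d.z * g⁻¹ = v' ∨ g * d.z * g⁻¹ = v'⁻¹ → False := by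
    rintro g (e | e)
    · exact hv'z (e ▸ d.conj_meet (e.symm ▸ hv'J.1) (e.symm ▸ hv'J.2))
    · exact hv'z (inv_mem_iff.1 (e ▸ d.conj_meet (e.symm ▸ inv_mem hv'J.1) (e.symm ▸ inv_mem hv'J.2)))
  constructor <;> intro h <;> obtain ⟨g, hg⟩ := isConj_iff.1 h
  · exact key (c * g) (Or.inl (by rw [hv', ← hg]; group))
  · exact key (c * g) (Or.inr (by rw [hv', ← hg]; group))

/-- An element centralizing `z` and an element of `(J ∩ Q) ∖ Z` normalizes `J`. -/
theorem normalizes_of_fix {d : Data G} (l : Loc d) {v : G} (hv : v ∈ (d.J ⊓ d.Q : Subgroup G))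
    (hvz : v ∉ Subgroup.zpowers d.z) {g : G} (hgz : g * d.z = d.z * g) (hgv : g * v = v * g) :
    g ∈ Subgroup.normalizer (d.J : Set G) := by
  have hgN : g ∈ Subgroup.normalizer (Subgroup.zpowers d.z : Set G) := McL3Frame78.mem_NZ_of_comm hgz
  have hle : (d.S : Subgroup G) ≤ stab d hv.2 := by
    intro a ha
    refine ⟨d.S_le_L ha, ?_⟩
    obtain ⟨q, hq, j, hj, rfl⟩ := (McL3Frame78.facts d).S_eq a ha
    have e : q * j * v * (q * j)⁻¹ * v⁻¹ = q * (j * v * j⁻¹) * q⁻¹ * v⁻¹ := by group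
    rw [e, d.J_comm j hj v hv.1, mul_inv_cancel_right]
    exact d.comm_Q q hq v hv.2
  have heq := d.three_group_le (stab_three l hv.2 hvz) hle
  have hgS : ∀ a ∈ (d.S : Subgroup G), g * a * g⁻¹ ∈ (d.S : Subgroup G) := by
    intro a ha
    rw [← heq] at ha ⊢
    refine ⟨(Subgroup.mem_normalizer_iff.1 (d.L_normal hgN) a).1 ha.1, ?_⟩
    obtain ⟨i, hi⟩ := Subgroup.mem_zpowers_iff.1 ha.2
    have hgv' : g⁻¹ * v * g = v := by rw [mul_assoc, ← hgv, inv_mul_cancel_left]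
    have e : g * a * g⁻¹ * v * (g * a * g⁻¹)⁻¹ * v⁻¹ = g * (a * (g⁻¹ * v * g) * a⁻¹ * (g⁻¹ * v * g)⁻¹) * g⁻¹ := by
      group
    rw [e, hgv', ← hi, ((show Commute g d.z from hgz).zpow_right i).eq, mul_inv_cancel_right]
    exact Subgroup.zpow_mem_zpowers _ _
  have he : d.J.map (MulAut.conj g).toMonoidHom = d.J := by
    refine d.J_unique ?_ ?_ ?_
    · rintro _ ⟨j, hj, rfl⟩
      exact hgS j (d.J_le_S hj)
    · rintro _ ⟨a, ha, rfl⟩ _ ⟨b, hb, rfl⟩
      rw [← map_mul, ← map_mul, d.J_comm a ha b hb]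
    · rw [← Nat.card_congr (d.J.equivMapOfInjective _ (MulAut.conj g).injective).toEquiv, d.card_J]
  exact Subgroup.mem_normalizer_fintype fun n hn => he.le ⟨n, hn, rfl⟩

/-- An element centralizing `z` and `x` normalizes `J`. -/
theorem normalizes_zx {d : Data G} (l : Loc d) {g : G} (hgz : g * d.z = d.z * g)
    (hgx : g * l.x = l.x * g) : g ∈ Subgroup.normalizer (d.J : Set G) := by
  haveI : Fact (Nat.Prime 3) := ⟨Nat.prime_three⟩
  have hgN : g ∈ Subgroup.normalizer (Subgroup.zpowers d.z : Set G) := McL3Frame78.mem_NZ_of_comm hgz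
  have hxS : l.x ∈ (d.S : Subgroup G) := d.J_le_S l.x_mem_J
  set T : Subgroup G := Subgroup.zpowers l.x ⊔ d.Q with hT
  have hTS : T = (d.S : Subgroup G) := by
    refine Subgroup.eq_of_le_of_card_ge (sup_le (Subgroup.zpowers_le.2 hxS) d.Q_le_S) ?_
    obtain ⟨k, -, hk⟩ := (Nat.dvd_prime_pow Nat.prime_three).1
      (show Nat.card T ∣ 3 ^ 6 by
        rw [show (3 : ℕ) ^ 6 = 729 by norm_num, ← d.card_S]
        exact Subgroup.card_dvd_of_le (sup_le (Subgroup.zpowers_le.2 hxS) d.Q_le_S))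
    have hlt : Nat.card d.Q < Nat.card T := lt_of_le_of_ne (Subgroup.card_le_of_le le_sup_right) fun h =>
      l.x_notMem_Q ((Subgroup.eq_of_le_of_card_ge (le_sup_right : d.Q ≤ T) h.ge).symm ▸
        Subgroup.mem_sup_left (Subgroup.mem_zpowers l.x))
    rw [d.card_Q, hk, show (243 : ℕ) = 3 ^ 5 by norm_num] at hlt
    rw [d.card_S, hk, show (729 : ℕ) = 3 ^ 6 by norm_num]
    exact Nat.pow_le_pow_right (by norm_num) ((Nat.pow_lt_pow_iff_right (by norm_num : 1 < 3)).1 hlt)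
  have hTm : T ≤ T.comap (MulAut.conj g).toMonoidHom := by
    refine sup_le (Subgroup.zpowers_le.2 ?_) (fun q hq => ?_)
    · show g * l.x * g⁻¹ ∈ T
      rw [hgx, mul_inv_cancel_right]
      exact Subgroup.mem_sup_left (Subgroup.mem_zpowers _)
    · exact Subgroup.mem_sup_right (conj_Q d hgN hq)
  have he : d.J.map (MulAut.conj g).toMonoidHom = d.J := by
    refine d.J_unique ?_ ?_ ?_
    · rintro _ ⟨j, hj, rfl⟩
      exact hTS ▸ hTm (hTS.symm ▸ d.J_le_S hj)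
    · rintro _ ⟨a, ha, rfl⟩ _ ⟨b, hb, rfl⟩
      rw [← map_mul, ← map_mul, d.J_comm a ha b hb]
    · rw [← Nat.card_congr (d.J.equivMapOfInjective _ (MulAut.conj g).injective).toEquiv, d.card_J]
  exact Subgroup.mem_normalizer_fintype fun n hn => he.le ⟨n, hn, rfl⟩

end Cfsg.Agent.McL3Weak77
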