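import Mathlib
import Cfsg.Agent.Lib.McL3WeakQ77

/-!
# S5523, S2913: the conjugates of `z` in `J`

In coordinates `z, x, p, g p g⁻¹` the conjugates of `z` and of its inverse in `J` are `±z` and
`±(x + u + a Q(u) z)` with the quadratic form `Q(k,l) = k² + l²`; the sign of `a` can be prescribed.
-/

set_option autoImplicit false
set_option linter.unusedSectionVars false
set_option linter.style.haveILetI false

namespace Cfsg.Agent.McL3Weak77

open Cfsg.Agent.McL3x39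

/-- Coordinates on `J`. -/
abbrev V4 := ZMod 3 × ZMod 3 × ZMod 3 × ZMod 3

set_option maxRecDepth 100000 in
theorem double_coset : ∀ σ : Equiv.Perm (Fin 6), Equiv.Perm.sign σ = 1 →
    McL3Frame78.NP σ ∨ ∃ i j : Fin 3,
      McL3Frame78.NP (McL3Frame78.nn * (McL3Frame78.c1 ^ i.val * McL3Frame78.c2 ^ j.val) * σ) := by
  decide +kernel

theorem zmod3_cases : ∀ a : ZMod 3, a = 0 ∨ a = 1 ∨ a = -1 := by decide

theorem V4_decomp : ∀ v : V4, v = v.1 • ((1, 0, 0, 0) : V4) + v.2.1 • ((0, 1, 0, 0) : V4) +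
    v.2.2.1 • ((0, 0, 1, 0) : V4) + v.2.2.2 • ((0, 0, 0, 1) : V4) := by decide +kernel

theorem opp_values : ∀ a b b1 b2 : ZMod 3, a = a + a + b1 → b = a + a + b2 → b = a + a - b2 →
    b = -a := by decide +kernel

theorem quad_cases : ∀ f : ZMod 3 → ZMod 3 → ZMod 3, f 0 0 = 0 → (∀ k l, f l (-k) = f k l) →
    f 1 1 = -f 1 0 → ∀ k l, f k l = f 1 0 * (k * k + l * l) := by
  intro f h0 hr h1 k l
  have e1 : f 0 (-1) = f 1 0 := hr 1 0
  have e2 : f (-1) 0 = f 1 0 := by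
    have h := hr 0 (-1)
    rw [e1, neg_zero] at h
    exact h
  have e3 : f 0 1 = f 1 0 := by
    have h := hr (-1) 0
    rw [e2, neg_neg] at h
    exact h
  have f1 : f 1 (-1) = -f 1 0 := (hr 1 1).trans h1
  have f2 : f (-1) (-1) = -f 1 0 := (hr 1 (-1)).trans f1
  have f3 : f (-1) 1 = -f 1 0 := by
    have h := (hr (-1) (-1)).trans f2
    rwa [neg_neg] at h
  rcases zmod3_cases k with rfl | rfl | rfl <;> rcases zmod3_cases l with rfl | rfl | rfl <;>
    (try simp only [h0, h1, e1, e2, e3, f1, f2, f3]) <;>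
    generalize f 1 0 = a <;> revert a <;> decide

variable {G : Type*} [Group G] [Finite G] {d : Data G}

/-- A nontrivial element of the inverted part. -/
structure Bas (F : Frame d) where
  /-- The element. -/
  p : G
  mem : p ∈ F.toLoc.U0
  ne : p ≠ 1

variable {F : Frame d}

namespace Bas

variable (B : Bas F)

/-- The second basis vector. -/
def q : G := F.g * B.p * F.g⁻¹

/-- The element with given coordinates. -/
def E (v : V4) : G :=
  d.z ^ v.1.val * F.x ^ v.2.1.val * (B.p ^ v.2.2.1.val * B.q ^ v.2.2.2.val)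

end Bas

/-- Conjugate to `z` or to its inverse. -/
def Cz (d : Data G) (a : G) : Prop := IsConj d.z a ∨ IsConj d.z⁻¹ a

theorem Cz.conj {a : G} (h : Cz d a) (m : G) : Cz d (m * a * m⁻¹) :=
  h.imp (fun h => h.trans (isConj_iff.2 ⟨m, rfl⟩)) (fun h => h.trans (isConj_iff.2 ⟨m, rfl⟩))

theorem Cz.inv {a : G} (h : Cz d a) : Cz d a⁻¹ := by
  rcases h with h | h <;> obtain ⟨c, hc⟩ := isConj_iff.1 h
  · exact Or.inr (isConj_iff.2 ⟨c, by rw [← hc]; group⟩)
  · exact Or.inl (isConj_iff.2 ⟨c, by rw [← hc]; group⟩)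

theorem Cz_z : Cz d d.z := Or.inl (IsConj.refl _)

theorem Cz_x (F : Frame d) : Cz d F.x := Or.inl (isConj_iff.2 ⟨F.n, F.n_z⟩)

theorem pow_val_add {u : G} (h : u ^ 3 = 1) (i j : ZMod 3) :
    u ^ (i + j).val = u ^ i.val * u ^ j.val := by
  rw [ZMod.val_add, ← pow_add]
  exact (pow_eq_pow_mod _ h).symm

theorem D_le (F : Frame d) : Subgroup.closure ({d.z, F.x} : Set G) ≤ d.J :=
  (Subgroup.closure_le _).2 fun w hw => by
    rcases hw with rfl | rfl
    · exact d.z_mem_J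
    · exact F.x_mem_J

theorem z_mem_D (F : Frame d) : d.z ∈ Subgroup.closure ({d.z, F.x} : Set G) :=
  Subgroup.subset_closure (Set.mem_insert d.z {F.x})

theorem x_mem_D (F : Frame d) : F.x ∈ Subgroup.closure ({d.z, F.x} : Set G) :=
  Subgroup.subset_closure (Set.mem_insert_of_mem d.z (Set.mem_singleton F.x))

theorem zpow_val {a : G} (h : a ^ 3 = 1) (i : ℤ) : a ^ i = a ^ (i : ZMod 3).val := by
  rw [← zpow_natCast]
  have h1 : (((i : ZMod 3).val : ℕ) : ℤ) = i % 3 := by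
    rw [ZMod.val_intCast]; rfl
  rw [h1]
  conv_lhs => rw [← Int.mul_ediv_add_emod i 3, zpow_add, zpow_mul,
    show a ^ (3 : ℤ) = 1 from (zpow_natCast a 3).trans h, one_zpow, one_mul]

theorem conj_z_cases {m : G} (hm : m ∈ Subgroup.normalizer (Subgroup.zpowers d.z : Set G)) :
    m * d.z * m⁻¹ = d.z ∨ m * d.z * m⁻¹ = d.z⁻¹ := McL3Frame78.NZ_z hm

theorem n_notNZ (F : Frame d) : F.n ∉ Subgroup.normalizer (Subgroup.zpowers d.z : Set G) := fun h => by
  have hx : F.x ∈ Subgroup.zpowers d.z := by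
    rw [← F.n_z]; exact (Subgroup.mem_normalizer_iff.1 h _).1 (Subgroup.mem_zpowers _)
  exact F.toLoc.x_notMem_Q ((Subgroup.zpowers_le.2 d.z_mem_Q : Subgroup.zpowers d.z ≤ d.Q) hx)

/-- Conjugates of `z` by `M0` are in `Z` or translates of `x`. -/
theorem orbit (F : Frame d) {m : G} (hm : m ∈ d.M0) :
    m * d.z * m⁻¹ ∈ Subgroup.zpowers d.z ∨
      ∃ r ∈ d.Q, m * d.z * m⁻¹ = r * F.x * r⁻¹ ∨ m * d.z * m⁻¹ = r * F.x⁻¹ * r⁻¹ := by
  obtain ⟨p⟩ := McL3Frame78.exists_proj d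
  obtain ⟨k, hk, hkv⟩ := p.surj McL3Frame78.nn McL3Frame78.even_all.2.2.2.1
  have step : ∀ y ∈ d.M0, y ∉ Subgroup.normalizer (Subgroup.zpowers d.z : Set G) →
      ∃ s ∈ (d.S : Subgroup G), k * s * y ∈ Subgroup.normalizer (Subgroup.zpowers d.z : Set G) := by
    intro y hy hyN
    rcases double_coset (p.v y) (p.even y hy) with h | ⟨i, j, h⟩
    · exact absurd ((McL3Frame78.np_iff p hy).1 h) hyN
    obtain ⟨s, hs, hsv⟩ := p.surj (McL3Frame78.c1 ^ i.val * McL3Frame78.c2 ^ j.val) (by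
      rw [map_mul, map_pow, map_pow, McL3Frame78.even_all.1, McL3Frame78.even_all.2.1]; simp)
    have hsS : s ∈ (d.S : Subgroup G) := (p.sylow s hs).2 (hsv ▸ ⟨i, j, rfl⟩)
    refine ⟨s, hsS, (McL3Frame78.np_iff p (mul_mem (mul_mem hk hs) hy)).1 ?_⟩
    rw [p.mul _ (mul_mem hk hs) _ hy, p.mul _ hk _ hs, hkv, hsv]
    exact h
  by_cases hmN : m ∈ Subgroup.normalizer (Subgroup.zpowers d.z : Set G)
  · exact Or.inl ((Subgroup.mem_normalizer_iff.1 hmN _).1 (Subgroup.mem_zpowers _))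
  obtain ⟨s, hs, hm'⟩ := step m hm hmN
  obtain ⟨s0, hs0, hn'⟩ := step F.n F.n_mem (n_notNZ F)
  set h := (k * s0 * F.n)⁻¹ * (k * s * m) with hh
  have hhN : h ∈ Subgroup.normalizer (Subgroup.zpowers d.z : Set G) := mul_mem (inv_mem hn') hm'
  have hme : m = (s⁻¹ * s0) * F.n * h := by rw [hh]; group
  obtain ⟨r, hr, j, hj, hrj⟩ := (McL3Frame78.facts d).S_eq (s⁻¹ * s0) (mul_mem (inv_mem hs) hs0)
  refine Or.inr ⟨r, hr, ?_⟩
  have hjx : ∀ y ∈ d.J, j * y * j⁻¹ = y := fun y hy => by rw [d.J_comm j hj y hy, mul_inv_cancel_right]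
  have e : m * d.z * m⁻¹ = r * (j * (F.n * (h * d.z * h⁻¹) * F.n⁻¹) * j⁻¹) * r⁻¹ := by
    rw [hme, hrj]; group
  rw [e]
  rcases conj_z_cases hhN with e1 | e1 <;> rw [e1]
  · rw [F.n_z, hjx _ F.x_mem_J]; exact Or.inl rfl
  · rw [← conj_inv, F.n_z, hjx _ (inv_mem F.x_mem_J)]; exact Or.inr rfl

theorem cz_cases (F : Frame d) {a : G} (ha : a ∈ d.J) (h : Cz d a) :
    a ∈ Subgroup.zpowers d.z ∨ ∃ r ∈ d.Q, a = r * F.x * r⁻¹ ∨ a = r * F.x⁻¹ * r⁻¹ := by
  have key : ∀ b ∈ d.J, IsConj d.z b →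
      b ∈ Subgroup.zpowers d.z ∨ ∃ r ∈ d.Q, b = r * F.x * r⁻¹ ∨ b = r * F.x⁻¹ * r⁻¹ := by
    intro b hb hzb
    obtain ⟨c, rfl⟩ := isConj_iff.1 hzb
    obtain ⟨w, hw, hwe⟩ := d.fusion_J d.z_mem_J hb
    obtain ⟨m, hm, hmN⟩ := McL3Frame78.normJ_split hw
    have e : c * d.z * c⁻¹ = m * (m⁻¹ * w * d.z * (m⁻¹ * w)⁻¹) * m⁻¹ := by rw [← hwe]; group
    rcases conj_z_cases hmN with e1 | e1 <;> rw [e1] at e
    · rw [e]; exact orbit F hm
    · rw [e, ← conj_inv]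
      rcases orbit F hm with h | ⟨r, hr, h | h⟩
      · exact Or.inl (inv_mem h)
      · exact Or.inr ⟨r, hr, Or.inr (by rw [h, conj_inv])⟩
      · exact Or.inr ⟨r, hr, Or.inl (by rw [h, conj_inv, inv_inv])⟩
  rcases h with h | h
  · exact key a ha h
  · obtain ⟨c, hc⟩ := isConj_iff.1 h
    rcases key a⁻¹ (inv_mem ha) (isConj_iff.2 ⟨c, by rw [← hc]; group⟩) with h1 | ⟨r, hr, h1 | h1⟩
    · exact Or.inl (inv_mem_iff.1 h1)
    · exact Or.inr ⟨r, hr, Or.inr (by rw [← inv_inv a, h1, ← conj_inv])⟩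
    · exact Or.inr ⟨r, hr, Or.inl (by rw [← inv_inv a, h1, ← conj_inv, inv_inv])⟩

/-- The predicate describing the conjugates of `z^±` in coordinates. -/
def omP (a : ZMod 3) (v : V4) : Prop :=
  (v.2.1 = 0 ∧ v.2.2.1 = 0 ∧ v.2.2.2 = 0 ∧ v.1 ≠ 0) ∨
    (v.2.1 ≠ 0 ∧ v.1 = v.2.1 * a * (v.2.2.1 * v.2.2.1 + v.2.2.2 * v.2.2.2))

instance (a : ZMod 3) (v : V4) : Decidable (omP a v) := by unfold omP; infer_instance

namespace Bas

variable (B : Bas F)

theorem U0_conj {r : G} (hrt : r * F.t = F.t * r) (hrJ : r ∈ Subgroup.normalizer (d.J : Set G))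
    {u : G} (hu : u ∈ F.toLoc.U0) : r * u * r⁻¹ ∈ F.toLoc.U0 := by
  refine ⟨(Subgroup.mem_normalizer_iff.1 hrJ u).1 hu.1, ?_⟩
  calc F.t * (r * u * r⁻¹) * F.t⁻¹ = F.t * r * u * (F.t * r)⁻¹ := by group
    _ = r * F.t * u * (r * F.t)⁻¹ := by rw [hrt]
    _ = r * (F.t * u * F.t⁻¹) * r⁻¹ := by group
    _ = (r * u * r⁻¹)⁻¹ := by rw [hu.2]; group

theorem q_mem : B.q ∈ F.toLoc.U0 := U0_conj F.g_comm (d.M0_le F.g_mem) B.mem

theorem p_cube : B.p ^ 3 = 1 := d.J_exp _ B.mem.1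
theorem q_cube : B.q ^ 3 = 1 := d.J_exp _ B.q_mem.1

theorem g_q : F.g * B.q * F.g⁻¹ = B.p⁻¹ := by
  rw [q, show F.g * (F.g * B.p * F.g⁻¹) * F.g⁻¹ = (F.g * F.g) * B.p * (F.g * F.g)⁻¹ by group, F.g_sq]
  exact B.mem.2

theorem E_add (v w : V4) : B.E (v + w) = B.E v * B.E w := by
  have c : ∀ {a b : G}, a ∈ d.J → b ∈ d.J → ∀ m n : ℕ, Commute (a ^ m) (b ^ n) :=
    fun ha hb m n => (show Commute _ _ from d.J_comm _ ha _ hb).pow_pow m n
  simp only [E, Prod.fst_add, Prod.snd_add]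
  rw [pow_val_add (McL3Frame78.z_cube) v.1 w.1, pow_val_add (F.order_x ▸ pow_orderOf_eq_one F.x) v.2.1,
    pow_val_add B.p_cube v.2.2.1, pow_val_add B.q_cube v.2.2.2]
  have h1 : Commute (B.p ^ v.2.2.1.val * B.q ^ v.2.2.2.val) (d.z ^ w.1.val * F.x ^ w.2.1.val) :=
    ((c B.mem.1 d.z_mem_J _ _).mul_right (c B.mem.1 F.x_mem_J _ _)).mul_left
      ((c B.q_mem.1 d.z_mem_J _ _).mul_right (c B.q_mem.1 F.x_mem_J _ _))
  rw [h1.mul_mul_mul_comm, (c F.x_mem_J d.z_mem_J v.2.1.val w.1.val).mul_mul_mul_comm,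
    (c B.q_mem.1 B.mem.1 v.2.2.2.val w.2.2.1.val).mul_mul_mul_comm]

theorem E_zero : B.E 0 = 1 := by simp [E]

theorem E_neg (v : V4) : B.E (-v) = (B.E v)⁻¹ :=
  eq_inv_of_mul_eq_one_left (by rw [← B.E_add, neg_add_cancel, B.E_zero])

theorem E_mem (v : V4) : B.E v ∈ d.J :=
  mul_mem (mul_mem (pow_mem d.z_mem_J _) (pow_mem F.x_mem_J _))
    (mul_mem (pow_mem B.mem.1 _) (pow_mem B.q_mem.1 _))

theorem E_comm (v w : V4) : B.E v * B.E w = B.E w * B.E v := d.J_comm _ (B.E_mem v) _ (B.E_mem w)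

theorem pow_pow_val {u : G} (h : u ^ 3 = 1) (a b : ZMod 3) : (u ^ a.val) ^ b.val = u ^ (a * b).val := by
  rw [← pow_mul, ZMod.val_mul, ← pow_eq_pow_mod _ h]

theorem U0_D {u : G} (hu : u ∈ F.toLoc.U0) (hD : u ∈ Subgroup.closure ({d.z, F.x} : Set G)) :
    u = 1 := by
  have hc : F.t * u = u * F.t := (F.cent_D u hu.1).2 hD
  have h2 : F.t * u * F.t⁻¹ = u⁻¹ := hu.2
  rw [hc, mul_inv_cancel_right] at h2
  have h3 : u ^ 2 = 1 := by
    rw [pow_two]
    conv_lhs => arg 2; rw [h2]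
    exact mul_inv_cancel u
  have h4 := d.J_exp u hu.1
  rwa [pow_succ, h3, one_mul] at h4

theorem pq_mem (k l : ZMod 3) : B.p ^ k.val * B.q ^ l.val ∈ F.toLoc.U0 := by
  refine ⟨mul_mem (pow_mem B.mem.1 _) (pow_mem B.q_mem.1 _), ?_⟩
  rw [← conj_mul, ← conj_pow, ← conj_pow, B.mem.2, B.q_mem.2, inv_pow, inv_pow, mul_inv_rev]
  exact ((show Commute B.p B.q from d.J_comm _ B.mem.1 _ B.q_mem.1).pow_pow _ _).inv_inv.eq

theorem pq_indep {k l : ZMod 3} (h : B.p ^ k.val * B.q ^ l.val = 1) : k = 0 ∧ l = 0 := by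
  have hp : ∀ k : ZMod 3, B.p ^ k.val = 1 → k = 0 := fun k hk => by
    have := orderOf_dvd_of_pow_eq_one hk
    rw [orderOf_eq_prime B.p_cube B.ne] at this
    exact (ZMod.val_eq_zero _).1 (Nat.eq_zero_of_dvd_of_lt this (ZMod.val_lt _))
  by_cases hl : l = 0
  · subst hl
    rw [ZMod.val_zero, pow_zero, mul_one] at h
    exact ⟨hp k h, rfl⟩
  exfalso
  have hql : B.q ^ l.val = B.p ^ (-k).val := by
    refine mul_left_cancel (a := B.p ^ k.val) ?_
    rw [h, ← pow_val_add B.p_cube, add_neg_cancel, ZMod.val_zero, pow_zero]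
  have hq : B.q = B.p ^ (-k * l).val := by
    rw [← pow_pow_val B.p_cube, ← hql, pow_pow_val B.q_cube,
      (by decide : ∀ a : ZMod 3, a ≠ 0 → a * a = 1) l hl, ZMod.val_one, pow_one]
  have h3 : B.p ^ (-k * l * (-k * l)).val = B.p⁻¹ := by
    rw [← pow_pow_val B.p_cube, ← hq, ← B.g_q]
    conv_rhs => rw [hq, ← conj_pow]
    rfl
  have h4 : B.p ^ (-k * l * (-k * l) + 1).val = 1 := by
    rw [pow_val_add B.p_cube, h3, ZMod.val_one, pow_one, inv_mul_cancel]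
  exact (by decide : ∀ a : ZMod 3, a * a + 1 ≠ 0) _ (hp _ h4)

theorem x_pow_Q {a : ZMod 3} (h : F.x ^ a.val ∈ d.Q) : a = 0 := by
  by_contra hne
  have h2 := pow_mem h a.val
  rw [pow_pow_val (F.order_x ▸ pow_orderOf_eq_one F.x),
    (by decide : ∀ a : ZMod 3, a ≠ 0 → a * a = 1) _ hne, ZMod.val_one, pow_one] at h2
  exact F.toLoc.x_notMem_Q h2

theorem E_inj {v w : V4} (h : B.E v = B.E w) : v = w := by
  have key : ∀ u : V4, B.E u = 1 → u = 0 := by
    rintro ⟨i, j, k, l⟩ hu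
    simp only [E] at hu
    have hU : B.p ^ k.val * B.q ^ l.val ∈ Subgroup.closure ({d.z, F.x} : Set G) := by
      rw [eq_inv_of_mul_eq_one_right hu]
      exact inv_mem (mul_mem (pow_mem (z_mem_D F) i.val) (pow_mem (x_mem_D F) j.val))
    have h1 := U0_D (B.pq_mem k l) hU
    rw [h1, mul_one] at hu
    have hj : j = 0 := x_pow_Q (F := F) (by
      rw [eq_inv_of_mul_eq_one_right hu]; exact inv_mem (pow_mem d.z_mem_Q _))
    rw [hj, ZMod.val_zero, pow_zero, mul_one] at hu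
    have hi := orderOf_dvd_of_pow_eq_one hu
    rw [d.order_z] at hi
    obtain ⟨hk, hl⟩ := B.pq_indep h1
    rw [(ZMod.val_eq_zero _).1 (Nat.eq_zero_of_dvd_of_lt hi (ZMod.val_lt _)), hj, hk, hl]
    rfl
  refine sub_eq_zero.1 (key _ ?_)
  rw [sub_eq_add_neg, B.E_add, B.E_neg, h, mul_inv_cancel]

theorem exists_E {j : G} (hj : j ∈ d.J) : ∃ v, B.E v = j := by
  let f : V4 → d.J := fun v => ⟨B.E v, B.E_mem v⟩
  have hb : Function.Bijective f :=
    Function.Injective.bijective_of_nat_card_le (fun a b h => B.E_inj (congrArg Subtype.val h))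
      (by rw [d.card_J]; simp)
  obtain ⟨v, hv⟩ := hb.2 ⟨j, hj⟩
  exact ⟨v, congrArg Subtype.val hv⟩

theorem E_z : B.E (1, 0, 0, 0) = d.z := by simp [E, ZMod.val_one]
theorem E_x : B.E (0, 1, 0, 0) = F.x := by simp [E, ZMod.val_one]
theorem E_p : B.E (0, 0, 1, 0) = B.p := by simp [E, ZMod.val_one]
theorem E_q : B.E (0, 0, 0, 1) = B.q := by simp [E, ZMod.val_one]

theorem E_smul (a : ZMod 3) (v : V4) : B.E (a • v) = B.E v ^ a.val := by
  rcases (by decide : ∀ a : ZMod 3, a = 0 ∨ a = 1 ∨ a = 2) a with rfl | rfl | rfl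
  · simp [E_zero]
  · simp [ZMod.val_one]
  · rw [show ((2 : ZMod 3) • v) = v + v from two_smul _ v, B.E_add, show (2 : ZMod 3).val = 2 from rfl,
      pow_two]

/-- `r` acts on `J` by `A`. -/
def Acts (r : G) (A : V4 → V4) : Prop := ∀ v, r * B.E v * r⁻¹ = B.E (A v)

theorem exists_acts {r : G} (hr : r ∈ Subgroup.normalizer (d.J : Set G)) :
    ∃ A : V4 → V4, (∀ v w, A (v + w) = A v + A w) ∧ B.Acts r A := by
  choose A hA using fun v => B.exists_E ((Subgroup.mem_normalizer_iff.1 hr _).1 (B.E_mem v))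
  refine ⟨A, fun v w => B.E_inj ?_, fun v => (hA v).symm⟩
  rw [B.E_add, hA, hA, hA, B.E_add, conj_mul]

theorem lin_decomp {A : V4 → V4} (hadd : ∀ v w, A (v + w) = A v + A w) (v : V4) :
    A v = v.1 • A (1, 0, 0, 0) + v.2.1 • A (0, 1, 0, 0) + v.2.2.1 • A (0, 0, 1, 0) +
      v.2.2.2 • A (0, 0, 0, 1) := by
  have hsm : ∀ (a : ZMod 3) (w : V4), A (a • w) = a • A w := fun a w => by
    rcases (by decide : ∀ a : ZMod 3, a = 0 ∨ a = 1 ∨ a = 2) a with rfl | rfl | rfl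
    · rw [zero_smul, zero_smul]
      have h := hadd 0 0
      rw [add_zero] at h
      exact left_eq_add.1 h
    · rw [one_smul, one_smul]
    · rw [two_smul, two_smul, hadd]
  conv_lhs => rw [V4_decomp v, hadd, hadd, hadd, hsm, hsm, hsm, hsm]

theorem acts_g : B.Acts F.g fun v => (-v.1, -v.2.1, -v.2.2.2, v.2.2.1) := by
  obtain ⟨A, hadd, hA⟩ := B.exists_acts (d.M0_le F.g_mem)
  have hz : A (1, 0, 0, 0) = -(1, 0, 0, 0) := B.E_inj (by rw [← hA, B.E_neg, B.E_z, F.g_z])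
  have hx : A (0, 1, 0, 0) = -(0, 1, 0, 0) := B.E_inj (by rw [← hA, B.E_neg, B.E_x, F.g_x])
  have hp : A (0, 0, 1, 0) = (0, 0, 0, 1) := B.E_inj (by rw [← hA, B.E_p, B.E_q]; rfl)
  have hq : A (0, 0, 0, 1) = -(0, 0, 1, 0) := B.E_inj (by rw [← hA, B.E_neg, B.E_p, B.E_q, B.g_q])
  intro v
  rw [hA, lin_decomp hadd, hz, hx, hp, hq]
  congr 1
  simp

theorem x_coord_Q {v : V4} (h : B.E v ∈ d.Q) : v.2.1 = 0 := by
  by_contra hne
  refine F.toLoc.x_notMem_Q ?_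
  have h1 : B.E (v.2.1 • (0, 1, 0, 0)) ∈ d.Q := by
    have hsplit : v = v.2.1 • ((0, 1, 0, 0) : V4) +
        (v.1 • ((1, 0, 0, 0) : V4) + v.2.2.1 • ((0, 0, 1, 0) : V4) + v.2.2.2 • ((0, 0, 0, 1) : V4)) := by
      conv_lhs => rw [V4_decomp v]
      abel
    rw [hsplit, B.E_add] at h
    refine (Subgroup.mul_mem_cancel_right _ ?_).1 h
    rw [B.E_add, B.E_add, B.E_smul, B.E_smul, B.E_smul, B.E_z, B.E_p, B.E_q]
    exact mul_mem (mul_mem (pow_mem d.z_mem_Q _) (pow_mem (F.inv_meet _ B.mem.1 B.mem.2) _))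
      (pow_mem (F.inv_meet _ B.q_mem.1 B.q_mem.2) _)
  have h2 : B.E (v.2.1 • (v.2.1 • (0, 1, 0, 0))) ∈ d.Q := by
    rw [B.E_smul]; exact pow_mem h1 _
  rwa [smul_smul, (by decide : ∀ a : ZMod 3, a ≠ 0 → a * a = 1) _ hne, one_smul, B.E_x] at h2

theorem conj_x {r : G} (hr : r ∈ d.Q) : ∃ c k l, r * F.x * r⁻¹ = B.E (c, 1, k, l) := by
  have hrN : r ∈ Subgroup.normalizer (d.J : Set G) := d.S_le_normalizer (d.Q_le_S hr)
  obtain ⟨v, hv⟩ := B.exists_E ((Subgroup.mem_normalizer_iff.1 hrN _).1 F.x_mem_J)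
  have hQ : r * F.x * r⁻¹ * F.x⁻¹ ∈ d.Q := by
    have hxN : F.x ∈ Subgroup.normalizer (d.Q : Set G) :=
      (d.S_le_L.trans d.L_le_normalizer) (d.J_le_S F.x_mem_J)
    have := mul_mem hr ((Subgroup.mem_normalizer_iff.1 hxN _).1 (inv_mem hr))
    simpa [mul_assoc] using this
  rw [← hv, ← B.E_x, ← B.E_neg, ← B.E_add] at hQ
  have h0 := B.x_coord_Q hQ
  simp only [Prod.snd_add, Prod.fst_add, Prod.neg_mk, ← sub_eq_add_neg] at h0
  refine ⟨v.1, v.2.2.1, v.2.2.2, ?_⟩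
  rw [← hv]
  congr 1
  exact Prod.ext rfl (Prod.ext (sub_eq_zero.1 (by simpa using h0)) rfl)

theorem translation (k l : ZMod 3) : ∃ r ∈ d.Q, ∃ c, r * F.x * r⁻¹ = B.E (c, 1, k, l) := by
  classical
  choose c k' l' hc using fun r : d.Q => B.conj_x r.2
  suffices hs : Function.Surjective fun r : d.Q => (k' r, l' r) by
    obtain ⟨r, hr⟩ := hs (k, l)
    simp only [Prod.mk.injEq] at hr
    exact ⟨r, r.2, c r, by rw [hc, hr.1, hr.2]⟩
  set f := fun r : d.Q => (k' r, l' r) with hf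
  let W : Subgroup G :=
    { carrier := {w | w ∈ d.Q ∧ F.x * w * F.x⁻¹ * w⁻¹ ∈ Subgroup.zpowers d.z}
      one_mem' := ⟨one_mem _, by simp⟩
      mul_mem' := by
        rintro p r ⟨hp, hp'⟩ ⟨hr, hr'⟩
        refine ⟨mul_mem hp hr, ?_⟩
        obtain ⟨i, hi⟩ := Subgroup.mem_zpowers_iff.1 hr'
        have e : F.x * (p * r) * F.x⁻¹ * (p * r)⁻¹ =
            (F.x * p * F.x⁻¹ * p⁻¹) * (p * (F.x * r * F.x⁻¹ * r⁻¹) * p⁻¹) := by group
        rw [e, ← hi, zc (d.Q_le_L hp) i, mul_inv_cancel_right]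
        exact mul_mem hp' (Subgroup.zpow_mem_zpowers _ _)
      inv_mem' := by
        rintro p ⟨hp, hp'⟩
        refine ⟨inv_mem hp, ?_⟩
        obtain ⟨i, hi⟩ := Subgroup.mem_zpowers_iff.1 hp'
        have e : F.x * p⁻¹ * F.x⁻¹ * p⁻¹⁻¹ = p⁻¹ * (F.x * p * F.x⁻¹ * p⁻¹)⁻¹ * p := by group
        rw [e, ← hi, ← zpow_neg, zc (d.Q_le_L (inv_mem hp)) (-i), inv_mul_cancel_right]
        exact Subgroup.zpow_mem_zpowers _ _ }
  have hxL : F.x ∈ d.L := d.S_le_L (d.J_le_S F.x_mem_J)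
  have h81 := d.small_fix hxL (by rw [← F.order_x, pow_orderOf_eq_one]; exact one_mem _)
    F.toLoc.x_notMem_Q (W := W) (fun w hw => hw.1)
    ⟨d.z_mem_Q, by rw [McL3Loc23.z_mem_center_L d hxL, mul_inv_cancel_right, mul_inv_cancel]; exact one_mem _⟩
    (fun w hw => hw.2)
  have h27 : Nat.card W ≤ 27 := by
    obtain ⟨i, -, hi⟩ := (Nat.dvd_prime_pow Nat.prime_three).1
      ((Subgroup.card_dvd_of_le (show W ≤ d.Q from fun w hw => hw.1)).trans
        (by rw [d.card_Q]; norm_num) : Nat.card W ∣ 3 ^ 5)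
    rw [hi] at h81 ⊢
    have : i ≤ 3 := by
      by_contra hlt
      have : (3 : ℕ) ^ 4 ≤ 3 ^ i := Nat.pow_le_pow_right (by norm_num) (by omega)
      omega
    exact (Nat.pow_le_pow_right (by norm_num) this).trans_eq (by norm_num)
  have hfib : ∀ y, Nat.card {r : d.Q // f r = y} ≤ 27 := by
    intro y
    by_cases hne : Nonempty {r : d.Q // f r = y}
    · obtain ⟨⟨b, hb⟩⟩ := hne
      refine le_trans (Nat.card_le_card_of_injective
        (fun a : {r : d.Q // f r = y} => (⟨(b : G)⁻¹ * ((a : d.Q) : G), ?_⟩ : W)) ?_) h27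
      · refine ⟨mul_mem (inv_mem b.2) (a : d.Q).2, ?_⟩
        have hfe : f (a : d.Q) = f b := a.2.trans hb.symm
        simp only [hf, Prod.mk.injEq] at hfe
        set r := (b : G)⁻¹ * ((a : d.Q) : G) with hr
        have hrL : r ∈ d.L := d.Q_le_L (mul_mem (inv_mem b.2) (a : d.Q).2)
        have ha := hc (a : d.Q)
        have hb' := hc b
        have hdiff : B.E (c (a : d.Q), 1, k' (a : d.Q), l' (a : d.Q)) =
            B.E (c b, 1, k' b, l' b) * d.z ^ (c (a : d.Q) - c b).val := by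
          rw [hfe.1, hfe.2, ← B.E_z, ← B.E_smul, ← B.E_add]
          congr 1
          simp
        have e : r * F.x * r⁻¹ = F.x * d.z ^ (c (a : d.Q) - c b).val := by
          calc r * F.x * r⁻¹ = (b : G)⁻¹ * (((a : d.Q) : G) * F.x * ((a : d.Q) : G)⁻¹) * b := by
                rw [hr]; group
            _ = (b : G)⁻¹ * ((b : G) * F.x * (b : G)⁻¹) * (d.z ^ (c (a : d.Q) - c b).val * b) := by
                rw [ha, hdiff, ← hb']; group
            _ = _ := by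
                rw [← zpow_natCast d.z, ← zc (d.Q_le_L b.2)]; group
        have e2 : F.x * r * F.x⁻¹ * r⁻¹ = ((r * F.x * r⁻¹) * F.x⁻¹)⁻¹ := by group
        rw [e2, e, ← zpow_natCast d.z, zc hxL, mul_inv_cancel_right, ← zpow_neg]
        exact Subgroup.zpow_mem_zpowers _ _
      · intro a a' h
        exact Subtype.ext (Subtype.ext (mul_left_cancel (congrArg Subtype.val h)))
    · rw [not_nonempty_iff] at hne
      simp
  intro y
  by_contra hy
  haveI := Fintype.ofFinite d.Q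
  have hlt : (Finset.univ.image f).card ≤ 8 := by
    have h1 : (Finset.univ.image f).card < (Finset.univ : Finset (ZMod 3 × ZMod 3)).card :=
      Finset.card_lt_card (Finset.ssubset_iff_subset_ne.2 ⟨Finset.subset_univ _, fun e => hy (by
        have := e.symm ▸ Finset.mem_univ y
        obtain ⟨r, -, hr⟩ := Finset.mem_image.1 this
        exact ⟨r, hr⟩)⟩)
    simpa using Nat.lt_succ_iff.1 (by simpa using h1)
  have h243 : Fintype.card d.Q ≤ 27 * 8 := by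
    refine (Finset.card_le_mul_card_image (f := f) Finset.univ 27 fun b _ => ?_).trans
      (Nat.mul_le_mul_left _ hlt)
    rw [← Fintype.card_subtype, ← Nat.card_eq_fintype_card]
    exact hfib b
  rw [← Nat.card_eq_fintype_card, d.card_Q] at h243
  omega

theorem om_unique {a b k l : ZMod 3} (ha : Cz d (B.E (a, 1, k, l))) (hb : Cz d (B.E (b, 1, k, l))) :
    a = b := by
  have key : ∀ c, Cz d (B.E (c, 1, k, l)) → ∃ r ∈ d.Q, r * F.x * r⁻¹ = B.E (c, 1, k, l) := by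
    intro c hc
    rcases cz_cases F (B.E_mem _) hc with h | ⟨r, hr, h | h⟩
    · have := B.x_coord_Q ((Subgroup.zpowers_le.2 d.z_mem_Q : Subgroup.zpowers d.z ≤ d.Q) h)
      exact absurd this one_ne_zero
    · exact ⟨r, hr, h.symm⟩
    · obtain ⟨c', k', l', he⟩ := B.conj_x hr
      rw [← conj_inv, he, ← B.E_neg] at h
      have := congrArg (fun v : V4 => v.2.1) (B.E_inj h)
      exact absurd this (show (1 : ZMod 3) ≠ -1 by decide)
  obtain ⟨r, hr, hre⟩ := key a ha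
  obtain ⟨s, hs, hse⟩ := key b hb
  set w := s⁻¹ * r with hw
  have hwx : w * F.x * w⁻¹ = B.E (a - b, 1, 0, 0) := by
    have h1 : B.E (a, 1, k, l) = B.E (b, 1, k, l) * d.z ^ (a - b).val := by
      rw [← B.E_z, ← B.E_smul, ← B.E_add]; congr 1; simp
    have h2 : B.E (a - b, 1, 0, 0) = F.x * d.z ^ (a - b).val := by
      rw [← B.E_z, ← B.E_x, ← B.E_smul, ← B.E_add]; congr 1; simp
    rw [h2]
    calc w * F.x * w⁻¹ = s⁻¹ * (r * F.x * r⁻¹) * s := by rw [hw]; group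
      _ = s⁻¹ * (s * F.x * s⁻¹) * (d.z ^ (a - b).val * s) := by rw [hre, h1, ← hse]; group
      _ = _ := by rw [← zpow_natCast d.z, ← zc (d.Q_le_L hs)]; group
  have hD : B.E (a - b, 1, 0, 0) ∈ Subgroup.closure ({d.z, F.x} : Set G) := by
    have : B.E (a - b, 1, 0, 0) = d.z ^ (a - b).val * F.x ^ (1 : ZMod 3).val := by simp [E]
    rw [this]
    exact mul_mem (pow_mem (z_mem_D F) _) (pow_mem (x_mem_D F) _)
  rcases F.fusion _ hD (hwx ▸ (isConj_iff.2 ⟨F.n, F.n_z⟩ : IsConj d.z F.x).trans (isConj_iff.2 ⟨w, rfl⟩))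
    with h | h
  · exact absurd (B.x_coord_Q ((Subgroup.zpowers_le.2 d.z_mem_Q : Subgroup.zpowers d.z ≤ d.Q) h)) one_ne_zero
  · obtain ⟨i, hi⟩ := Subgroup.mem_zpowers_iff.1 h
    rw [zpow_val (F.order_x ▸ pow_orderOf_eq_one F.x), ← B.E_x, ← B.E_smul] at hi
    have := congrArg Prod.fst (B.E_inj hi)
    simp only [Prod.smul_fst, smul_zero] at this
    exact sub_eq_zero.1 this.symm

theorem om_exists (k l : ZMod 3) : ∃ c, Cz d (B.E (c, 1, k, l)) := by
  obtain ⟨r, -, c, hc⟩ := B.translation k l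
  exact ⟨c, hc ▸ (Cz_x F).conj r⟩

/-- The value of the form. -/
noncomputable def cf (k l : ZMod 3) : ZMod 3 := (B.om_exists k l).choose

theorem cf_spec (k l : ZMod 3) : Cz d (B.E (B.cf k l, 1, k, l)) := (B.om_exists k l).choose_spec

theorem cf_eq {a k l : ZMod 3} (h : Cz d (B.E (a, 1, k, l))) : B.cf k l = a :=
  B.om_unique (B.cf_spec k l) h

theorem cf_rot (k l : ZMod 3) : B.cf l (-k) = B.cf k l := by
  refine B.cf_eq ?_
  have h := ((B.cf_spec k l).conj F.g).inv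
  rw [B.acts_g, ← B.E_neg] at h
  simpa using h

theorem cf_zero : B.cf 0 0 = 0 := B.cf_eq (by rw [B.E_x]; exact Cz_x F)

theorem cf_ne {k l : ZMod 3} (h : (k, l) ≠ (0, 0)) : B.cf k l ≠ 0 := by
  intro h0
  have hom := B.cf_spec k l
  rw [h0] at hom
  set u := B.p ^ k.val * B.q ^ l.val with hu
  have hu0 : u ∈ F.toLoc.U0 := B.pq_mem k l
  have he : B.E (0, 1, k, l) = F.x * u := by simp [E, hu, ZMod.val_one]
  rw [he] at hom
  have hn := hom.conj F.n
  rw [← conj_mul, F.n_x] at hn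
  set u' := F.n * u * F.n⁻¹ with hu'
  have hu'0 : u' ∈ F.toLoc.U0 := U0_conj F.n_comm (d.M0_le F.n_mem) hu0
  have hmem : d.z * u' ∈ d.J := mul_mem d.z_mem_J hu'0.1
  have hQ : d.z * u' ∈ d.Q := mul_mem d.z_mem_Q (F.inv_meet _ hu'0.1 hu'0.2)
  have hne : d.z * u' ∉ Subgroup.zpowers d.z := by
    intro hz
    rw [Subgroup.mul_mem_cancel_left _ (Subgroup.mem_zpowers _)] at hz
    have hD : u' ∈ Subgroup.closure ({d.z, F.x} : Set G) :=
      (Subgroup.zpowers_le.2 (z_mem_D F)) hz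
    have h3 := U0_D hu'0 hD
    rw [hu', mul_inv_eq_one, mul_eq_left] at h3
    have h5 : B.E (0, 1, k, l) = B.E (0, 1, 0, 0) := by rw [he, h3, mul_one, B.E_x]
    exact h (Prod.ext (congrArg (fun v : V4 => v.2.2.1) (B.E_inj h5))
      (congrArg (fun v : V4 => v.2.2.2) (B.E_inj h5)))
  exact (not_z_in_Q F.toLoc hQ hne).elim fun h1 h2 => hn.elim h1 h2

theorem cf_quad (k l : ZMod 3) : B.cf k l = B.cf 1 0 * (k * k + l * l) := by
  refine quad_cases B.cf B.cf_zero (B.cf_rot) ?_ k l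
  obtain ⟨r, hr, c, hre⟩ := B.translation 1 0
  have hrN : r ∈ Subgroup.normalizer (d.J : Set G) := d.S_le_normalizer (d.Q_le_S hr)
  obtain ⟨A, hadd, hA⟩ := B.exists_acts hrN
  have hz : A (1, 0, 0, 0) = (1, 0, 0, 0) := B.E_inj (by
    rw [← hA, B.E_z, McL3Loc23.z_mem_center_L d (d.Q_le_L hr), mul_inv_cancel_right])
  have hx : A (0, 1, 0, 0) = (c, 1, 1, 0) := B.E_inj (by rw [← hA, B.E_x, hre])
  have hU : ∀ v : V4, B.E v ∈ d.Q → ∃ b : ZMod 3, A v = v + b • ((1, 0, 0, 0) : V4) := by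
    intro v hv
    obtain ⟨i, hi⟩ := Subgroup.mem_zpowers_iff.1 (d.comm_Q r hr _ hv)
    refine ⟨(i : ZMod 3), B.E_inj ?_⟩
    rw [← hA, add_comm, B.E_add, B.E_smul, B.E_z, ← zpow_val McL3Frame78.z_cube, hi]
    group
  obtain ⟨b1, hb1⟩ := hU (0, 0, 1, 0) (by rw [B.E_p]; exact F.inv_meet _ B.mem.1 B.mem.2)
  obtain ⟨b2, hb2⟩ := hU (0, 0, 0, 1) (by rw [B.E_q]; exact F.inv_meet _ B.q_mem.1 B.q_mem.2)
  have hc : B.cf 1 0 = c := B.cf_eq (hre ▸ (Cz_x F).conj r)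
  have hstep : ∀ k l, B.cf (1 + k) l = B.cf k l + c + k * b1 + l * b2 := by
    intro k l
    refine B.cf_eq ?_
    have h := (B.cf_spec k l).conj r
    rw [hA, lin_decomp hadd, hz, hx, hb1, hb2] at h
    convert h using 2
    simp [add_assoc]
  have h1 := hstep 1 0
  have h2 := hstep 0 1
  have h3 := hstep 0 (-1)
  have r1 : B.cf 0 (-1) = B.cf 1 0 := B.cf_rot 1 0
  have r2 : B.cf (-1) 0 = B.cf 1 0 := by
    have := B.cf_rot 0 (-1); rwa [r1, neg_zero] at this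
  have r3 : B.cf 0 1 = B.cf 1 0 := by
    have := B.cf_rot (-1) 0; rwa [r2, neg_neg] at this
  have r4 : B.cf 1 (-1) = B.cf 1 1 := B.cf_rot 1 1
  rw [show (1 : ZMod 3) + 1 = -1 by decide, r2, hc] at h1
  rw [add_zero, r3, hc] at h2
  rw [add_zero, r4, r1, hc] at h3
  rw [hc]
  exact opp_values c (B.cf 1 1) b1 b2 (by linear_combination h1) (by linear_combination h2)
    (by linear_combination h3)

theorem cz_iff (v : V4) : Cz d (B.E v) ↔ omP (B.cf 1 0) v := by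
  have key : ∀ i k l, Cz d (B.E (i, 1, k, l)) ↔ i = B.cf 1 0 * (k * k + l * l) := fun i k l => by
    rw [← B.cf_quad]
    exact ⟨fun h => (B.cf_eq h).symm, fun h => h ▸ B.cf_spec k l⟩
  obtain ⟨i, j, k, l⟩ := v
  rcases zmod3_cases j with rfl | rfl | rfl
  · constructor
    · intro h
      rcases cz_cases F (B.E_mem _) h with hz | ⟨r, hr, he | he⟩
      · obtain ⟨m, hm⟩ := Subgroup.mem_zpowers_iff.1 hz
        rw [zpow_val McL3Frame78.z_cube, ← B.E_z, ← B.E_smul] at hm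
        have he := B.E_inj hm
        simp only [Prod.smul_mk, mul_zero, Prod.mk.injEq, smul_eq_mul, mul_one] at he
        refine Or.inl ⟨rfl, he.2.2.1.symm, he.2.2.2.symm, fun h0 => ?_⟩
        simp only at h0
        rw [h0, ← he.2.2.1, ← he.2.2.2, show ((0, 0, 0, 0) : V4) = 0 from rfl, B.E_zero] at h
        have hd : d.z = 1 := by
          rcases h with h | h <;> obtain ⟨c, hc⟩ := isConj_iff.1 h <;>
            simpa [conj_eq_one_iff] using hc
        have := d.order_z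
        rw [hd, orderOf_one] at this
        omega
      · obtain ⟨c, k', l', hc⟩ := B.conj_x hr
        rw [hc] at he
        exact absurd (congrArg (fun v : V4 => v.2.1) (B.E_inj he)) (show (0 : ZMod 3) ≠ 1 by decide)
      · obtain ⟨c, k', l', hc⟩ := B.conj_x hr
        rw [← conj_inv, hc, ← B.E_neg] at he
        exact absurd (congrArg (fun v : V4 => v.2.1) (B.E_inj he)) (show (0 : ZMod 3) ≠ -1 by decide)
    · rintro (⟨-, hk, hl, hi⟩ | ⟨hj, -⟩)
      · simp only at hk hl hi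
        subst hk hl
        rcases zmod3_cases i with rfl | rfl | rfl
        · exact absurd rfl hi
        · rw [B.E_z]; exact Cz_z
        · rw [show ((-1, 0, 0, 0) : V4) = -(1, 0, 0, 0) from rfl, B.E_neg, B.E_z]; exact Cz_z.inv
      · exact absurd rfl hj
  · rw [key]
    simp [omP]
  · have hflip : Cz d (B.E (i, -1, k, l)) ↔ Cz d (B.E (-i, 1, -k, -l)) := by
      have e : ((-i, 1, -k, -l) : V4) = -(i, -1, k, l) := by simp
      rw [e, B.E_neg]
      exact ⟨Cz.inv, fun h => by simpa using h.inv⟩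
    rw [hflip, key]
    simp only [omP]
    constructor
    · intro h
      exact Or.inr ⟨by decide, by linear_combination -h⟩
    · rintro (⟨h, -⟩ | ⟨-, h⟩)
      · exact absurd h (by decide)
      · linear_combination -h

theorem form_ne : B.cf 1 0 ≠ 0 := B.cf_ne (by decide)

end Bas

theorem exists_bas (F : Frame d) {ε : ZMod 3} (hε : ε ≠ 0) :
    ∃ B : Bas F, ∀ v, Cz d (B.E v) ↔ omP ε v := by
  obtain ⟨p, hp, hp1⟩ : ∃ p ∈ F.toLoc.U0, p ≠ 1 := by
    by_contra hno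
    push Not at hno
    have h9 : Nat.card F.toLoc.U0 = 9 := F.card_U0
    have hsub : Subsingleton F.toLoc.U0 := ⟨fun a b => Subtype.ext ((hno a a.2).trans (hno b b.2).symm)⟩
    have := Finite.card_le_one_iff_subsingleton.2 hsub
    omega
  let B0 : Bas F := ⟨p, hp, hp1⟩
  by_cases ha : B0.cf 1 0 = ε
  · exact ⟨B0, fun v => ha ▸ B0.cz_iff v⟩
  have hneg : B0.cf 1 0 = -ε := by
    have h0 := B0.form_ne
    generalize B0.cf 1 0 = a at ha h0
    revert a ε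
    decide
  have hpq : B0.p * B0.q = B0.E (0, 0, 1, 1) := by simp [Bas.E, ZMod.val_one]
  have hmem : B0.p * B0.q ∈ F.toLoc.U0 := ⟨mul_mem B0.mem.1 B0.q_mem.1, by
    rw [← conj_mul, B0.mem.2, B0.q_mem.2, ← mul_inv_rev, d.J_comm _ B0.q_mem.1 _ B0.mem.1]⟩
  let B : Bas F := ⟨B0.p * B0.q, hmem, fun h => by
    rw [hpq, ← B0.E_zero] at h
    exact absurd (B0.E_inj h) (by decide)⟩
  suffices h : B.cf 1 0 = ε from ⟨B, fun v => h ▸ B.cz_iff v⟩
  refine B.cf_eq ?_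
  have e : B.E (ε, 1, 1, 0) = B0.E (ε, 1, 1, 1) := by
    simp only [Bas.E, B, ZMod.val_one, ZMod.val_zero, pow_one, pow_zero, mul_one]
  rw [e, B0.cz_iff, hneg]
  exact (by decide : ∀ ε : ZMod 3, ε ≠ 0 → omP (-ε) (ε, 1, 1, 1)) ε hε

end Cfsg.Agent.McL3Weak77
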