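import Mathlib
import Cfsg.Agent.Lib.McL3WeakOm77
import Cfsg.Agent.Lib.McL3U0Act44

/-!
# S5523, S2913: no element of `N(J)` fixing `z, x` is a reflection on the inverted part
-/

set_option autoImplicit false
set_option linter.unusedSectionVars false
set_option linter.style.haveILetI false

namespace Cfsg.Agent.McL3Weak77

open Cfsg.Agent.McL3x39 Cfsg.Agent.McL3U0Act44 Cfsg.Agent.McL3Loc23

/-- The matrix of `g` on the inverted part. -/
def mG : M2 := (0, -1, 1, 0)

/-- The action of a matrix. -/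
def app (M : M2) (k l : ZMod 3) : V4 :=
  (0, 0, M.1 * k + M.2.1 * l, M.2.2.1 * k + M.2.2.2 * l)

set_option synthInstance.maxSize 2048 in
theorem no_reflection : ∀ M : M2, mmul M M = mN → M ≠ mG → M ≠ mneg mG → ∀ a b : ZMod 3,
    a * a + b * b = 1 →
    (mmul (a, b, b, -a) M = mmul M (a, b, b, -a) ∨
      mmul (a, b, b, -a) M = mneg (mmul M (a, b, b, -a))) → False := by decide +kernel

theorem cent_uu : ∀ b : SL5, b * uu = uu * b →
    ∃ (i : Fin 3) (j : Fin 2), b = uu ^ i.val * McL3Loc23.mI ^ j.val := by decide +kernel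

theorem mI_central : ∀ b : SL5, b * McL3Loc23.mI = McL3Loc23.mI * b := by decide +kernel

variable {G : Type*} [Group G] [Finite G] {d : Data G} {F : Frame d}

namespace Bas

variable (B : Bas F)

/-- `r` acts on the inverted part by the matrix `M`. -/
def Lin (r : G) (M : M2) : Prop :=
  ∀ k l, r * B.E (0, 0, k, l) * r⁻¹ = B.E (app M k l)

theorem Lin.mul {B : Bas F} {r r' : G} {M M' : M2} (h : B.Lin r M) (h' : B.Lin r' M') :
    B.Lin (r * r') (mmul M M') := fun k l => by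
  rw [show r * r' * B.E (0, 0, k, l) * (r * r')⁻¹ = r * (r' * B.E (0, 0, k, l) * r'⁻¹) * r⁻¹ by group,
    h' k l]
  rw [show app M' k l = (0, 0, M'.1 * k + M'.2.1 * l, M'.2.2.1 * k + M'.2.2.2 * l) from rfl, h]
  congr 1
  simp only [app, mmul, Prod.mk.injEq, true_and]
  constructor <;> ring

theorem Lin.unique {B : Bas F} {r : G} {M M' : M2} (h : B.Lin r M) (h' : B.Lin r M') : M = M' := by
  have h1 := B.E_inj ((h 1 0).symm.trans (h' 1 0))
  have h2 := B.E_inj ((h 0 1).symm.trans (h' 0 1))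
  simp only [app, mul_one, mul_zero, add_zero, zero_add, Prod.mk.injEq, true_and] at h1 h2
  exact Prod.ext h1.1 (Prod.ext h2.1 (Prod.ext h1.2 h2.2))

theorem lin_of_acts {r : G} {A : V4 → V4} (hadd : ∀ v w, A (v + w) = A v + A w) (hA : B.Acts r A)
    (M : M2) (hp : A (0, 0, 1, 0) = app M 1 0) (hq : A (0, 0, 0, 1) = app M 0 1) : B.Lin r M := by
  intro k l
  rw [hA, lin_decomp hadd, hp, hq]
  congr 1
  simp [app, mul_comm]

theorem U0_coords {v : V4} (h : B.E v ∈ F.toLoc.U0) : v.1 = 0 ∧ v.2.1 = 0 := by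
  have h2 : B.E v * (B.E (0, 0, v.2.2.1, v.2.2.2))⁻¹ ∈ F.toLoc.U0 := by
    have hpq := B.pq_mem v.2.2.1 v.2.2.2
    have e : B.E (0, 0, v.2.2.1, v.2.2.2) = B.p ^ v.2.2.1.val * B.q ^ v.2.2.2.val := by simp [E]
    rw [e]
    refine ⟨mul_mem h.1 (inv_mem hpq.1), ?_⟩
    rw [← conj_mul, ← conj_inv, h.2, hpq.2]
    exact ((show Commute (B.E v) (B.p ^ v.2.2.1.val * B.q ^ v.2.2.2.val)⁻¹ from
      d.J_comm _ h.1 _ (inv_mem hpq.1)).inv_inv.eq).trans (mul_inv_rev _ _).symm
  have e : B.E v * (B.E (0, 0, v.2.2.1, v.2.2.2))⁻¹ = B.E (v.1, v.2.1, 0, 0) := by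
    rw [← B.E_neg, ← B.E_add]; congr 1; simp [Prod.ext_iff]
  rw [e] at h2
  have hD : B.E (v.1, v.2.1, 0, 0) ∈ Subgroup.closure ({d.z, F.x} : Set G) := by
    have : B.E (v.1, v.2.1, 0, 0) = d.z ^ v.1.val * F.x ^ v.2.1.val := by simp [E]
    rw [this]
    exact mul_mem (pow_mem (z_mem_D F) _) (pow_mem (x_mem_D F) _)
  have h1 := U0_D h2 hD
  rw [← B.E_zero] at h1
  have := B.E_inj h1
  simp only [Prod.ext_iff, Prod.fst_zero, Prod.snd_zero] at this
  exact ⟨this.1, this.2.1⟩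

theorem exists_lin {r : G} (hrt : r * F.t = F.t * r) (hrJ : r ∈ Subgroup.normalizer (d.J : Set G)) :
    ∃ M, B.Lin r M := by
  obtain ⟨A, hadd, hA⟩ := B.exists_acts hrJ
  have h1 : B.E (A (0, 0, 1, 0)) ∈ F.toLoc.U0 := by
    rw [← hA, B.E_p]; exact U0_conj hrt hrJ B.mem
  have h2 : B.E (A (0, 0, 0, 1)) ∈ F.toLoc.U0 := by
    rw [← hA, B.E_q]; exact U0_conj hrt hrJ B.q_mem
  refine ⟨((A (0, 0, 1, 0)).2.2.1, (A (0, 0, 0, 1)).2.2.1, (A (0, 0, 1, 0)).2.2.2, (A (0, 0, 0, 1)).2.2.2),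
    B.lin_of_acts hadd hA _ ?_ ?_⟩
  · have := B.U0_coords h1
    exact Prod.ext this.1 (Prod.ext this.2 (by simp [app]))
  · have := B.U0_coords h2
    exact Prod.ext this.1 (Prod.ext this.2 (by simp [app]))

theorem lin_g : B.Lin F.g mG := fun k l => by
  rw [B.acts_g]
  congr 1
  simp [app, mG]

theorem lin_t : B.Lin F.t mN := by
  have h := B.lin_g.mul B.lin_g
  rwa [F.g_sq, show mmul mG mG = mN by decide +kernel] at h

theorem lin_J {j : G} (hj : j ∈ d.J) : B.Lin j McL3U0Act44.mI := fun k l => by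
  rw [d.J_comm j hj _ (B.E_mem _), mul_inv_cancel_right]
  congr 1
  simp [app, McL3U0Act44.mI]

theorem lin_fix_kill {r : G} (hr : r ∈ Subgroup.normalizer (d.J : Set G))
    (hz : r * d.z * r⁻¹ = d.z⁻¹) (hx : r * F.x = F.x * r) (hl : B.Lin r McL3U0Act44.mI) : False := by
  refine F.kill r hr hz hx fun u hu htu => ?_
  obtain ⟨v, rfl⟩ := B.exists_E hu
  have hc := B.U0_coords ⟨hu, htu⟩
  have he : v = (0, 0, v.2.2.1, v.2.2.2) := Prod.ext hc.1 (Prod.ext hc.2 rfl)
  rw [he]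
  refine mul_inv_eq_iff_eq_mul.1 ?_
  rw [hl]
  congr 1
  simp [app, McL3U0Act44.mI]

theorem f_lin : ∃ M, B.Lin F.f M ∧ mmul M M = mN ∧ M ≠ mG ∧ M ≠ mneg mG := by
  have hft : F.f * F.t = F.t * F.f := by rw [← F.f_sq, mul_assoc]
  obtain ⟨M, hM⟩ := B.exists_lin hft F.f_norm_J
  have hsq : mmul M M = mN := by
    have h := hM.mul hM
    rw [F.f_sq] at h
    exact h.unique B.lin_t
  have hfz : F.f * d.z = d.z * F.f := McL3Frame78.fz
  have hgN : F.g ∈ Subgroup.normalizer (d.J : Set G) := d.M0_le F.g_mem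
  refine ⟨M, hM, hsq, ?_, ?_⟩ <;> intro he
  · have hg1 : B.Lin F.g⁻¹ (mneg mG) := fun k l => by
      have h := B.acts_g (0, 0, l, -k)
      have e : (F.g⁻¹ * B.E (0, 0, k, l) * F.g⁻¹⁻¹) = B.E (0, 0, l, -k) := by
        rw [show B.E (0, 0, k, l) = F.g * B.E (0, 0, l, -k) * F.g⁻¹ by rw [h]; simp]
        group
      rw [e]
      congr 1
      simp [app, mneg, mmul, mG, mN]
    refine B.lin_fix_kill (mul_mem F.f_norm_J (inv_mem hgN)) ?_ ?_ (r := F.f * F.g⁻¹) ?_
    · have e : F.g⁻¹ * d.z * F.g⁻¹⁻¹ = d.z⁻¹ := by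
        have := congrArg (fun a => F.g⁻¹ * a⁻¹ * F.g) F.g_z
        simp only [inv_inv] at this
        rw [inv_inv, ← this]; group
      calc F.f * F.g⁻¹ * d.z * (F.f * F.g⁻¹)⁻¹ = F.f * (F.g⁻¹ * d.z * F.g⁻¹⁻¹) * F.f⁻¹ := by group
        _ = d.z⁻¹ := by rw [e, (show Commute F.f d.z from hfz).inv_right.eq, mul_inv_cancel_right]
    · have e : F.g⁻¹ * F.x * F.g⁻¹⁻¹ = F.x⁻¹ := by
        have := congrArg (fun a => F.g⁻¹ * a⁻¹ * F.g) F.g_x
        simp only [inv_inv] at this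
        rw [inv_inv, ← this]; group
      refine mul_inv_eq_iff_eq_mul.1 ?_
      calc F.f * F.g⁻¹ * F.x * (F.f * F.g⁻¹)⁻¹ = F.f * (F.g⁻¹ * F.x * F.g⁻¹⁻¹) * F.f⁻¹ := by group
        _ = F.x := by rw [e, ← conj_inv, F.f_conj, inv_inv]
    · have h := hM.mul hg1
      rwa [he, show mmul mG (mneg mG) = McL3U0Act44.mI by decide +kernel] at h
  · refine B.lin_fix_kill (mul_mem F.f_norm_J hgN) ?_ ?_ (r := F.f * F.g) ?_
    · calc F.f * F.g * d.z * (F.f * F.g)⁻¹ = F.f * (F.g * d.z * F.g⁻¹) * F.f⁻¹ := by group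
        _ = d.z⁻¹ := by rw [F.g_z, (show Commute F.f d.z from hfz).inv_right.eq, mul_inv_cancel_right]
    · refine mul_inv_eq_iff_eq_mul.1 ?_
      calc F.f * F.g * F.x * (F.f * F.g)⁻¹ = F.f * (F.g * F.x * F.g⁻¹) * F.f⁻¹ := by group
        _ = F.x := by rw [F.g_x, ← conj_inv, F.f_conj, inv_inv]
    · have h := hM.mul B.lin_g
      rwa [he, show mmul (mneg mG) mG = McL3U0Act44.mI by decide +kernel] at h

/-- Elements of `L1` centralizing `x`. -/
theorem cent_x {c : G} (hc : c ∈ F.L1) (hcx : c * F.x = F.x * c) :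
    ∃ (i j : ℕ), c = F.x ^ i * F.t ^ j := by
  obtain ⟨e⟩ := F.eL1
  have hx : orderOf (e ⟨F.x, F.x_mem_L1⟩) = 3 := by
    rw [MulEquiv.orderOf_eq, Subgroup.orderOf_mk, F.order_x]
  have ht : e ⟨F.t, F.t_mem_L1⟩ = McL3Loc23.mI := by
    refine eq_mI_of_sq ?_ ?_
    · rw [← map_mul, map_eq_one_iff e e.injective]
      exact Subtype.ext (by show F.t * F.t = 1; exact Frame_tt F.toLoc)
    · rw [Ne, map_eq_one_iff e e.injective]
      intro h
      have := F.order_t
      rw [show F.t = 1 from congrArg Subtype.val h, orderOf_one] at this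
      omega
  obtain ⟨h, hh⟩ := conj_uu hx
  set b := h⁻¹ * e ⟨c, hc⟩ * h with hb
  have hcomm : Commute (e ⟨c, hc⟩) (e ⟨F.x, F.x_mem_L1⟩) := by
    show _ = _
    rw [← map_mul, ← map_mul]
    exact congrArg e (Subtype.ext hcx)
  have hbu : b * uu = uu * b := by
    rcases hh with hh | hh
    · have h1 : uu = h⁻¹ * e ⟨F.x, F.x_mem_L1⟩ * h := by rw [← hh]; group
      have h2 := hcomm.map (MulAut.conj h⁻¹).toMonoidHom
      simp only [MulEquiv.coe_toMonoidHom, MulAut.conj_apply, inv_inv] at h2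
      rw [← h1] at h2
      exact h2.eq
    · have h1 : uu = h⁻¹ * (e ⟨F.x, F.x_mem_L1⟩)⁻¹ * h := by rw [← hh]; group
      have h2 := hcomm.inv_right.map (MulAut.conj h⁻¹).toMonoidHom
      simp only [MulEquiv.coe_toMonoidHom, MulAut.conj_apply, inv_inv] at h2
      rw [← h1] at h2
      exact h2.eq
  obtain ⟨i, j, hij⟩ := cent_uu b hbu
  have he : e ⟨c, hc⟩ = (h * uu * h⁻¹) ^ i.val * McL3Loc23.mI ^ j.val := by
    have e1 : e ⟨c, hc⟩ = h * b * h⁻¹ := by rw [hb]; group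
    rw [e1, hij, ← conj_mul, ← conj_pow, ← conj_pow, mI_central h, mul_inv_cancel_right]
  rcases hh with hh | hh <;> rw [hh, ← ht] at he
  · refine ⟨i.val, j.val, ?_⟩
    rw [← map_pow, ← map_pow, ← map_mul] at he
    exact congrArg Subtype.val (e.injective he)
  · refine ⟨2 * i.val, j.val, ?_⟩
    have h3 : (e ⟨F.x, F.x_mem_L1⟩)⁻¹ = e ⟨F.x, F.x_mem_L1⟩ ^ 2 := by
      refine inv_eq_of_mul_eq_one_right ?_
      rw [← pow_succ', show 2 + 1 = orderOf (e ⟨F.x, F.x_mem_L1⟩) by rw [hx], pow_orderOf_eq_one]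
    rw [h3, ← pow_mul, ← map_pow, ← map_pow, ← map_mul] at he
    exact congrArg Subtype.val (e.injective he)

/-- No element of `N(J)` fixes `z` and `x` and acts as a reflection anticommuting with `g`. -/
theorem rigid {r : G} (hr : r ∈ Subgroup.normalizer (d.J : Set G)) (hz : r * d.z = d.z * r)
    (hx : r * F.x = F.x * r) {a b : ZMod 3} (hab : a * a + b * b = 1) (hl : B.Lin r (a, b, b, -a)) :
    False := by
  obtain ⟨A, hadd, hA⟩ := B.exists_acts hr
  have htJ : F.t ∈ Subgroup.normalizer (d.J : Set G) := F.t_norm_J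
  have htz : F.t * d.z = d.z * F.t := McL3Frame78.tz
  have htx : F.t * F.x = F.x * F.t := McL3Frame78.tx
  set j := r * F.t * r⁻¹ * F.t⁻¹ with hj
  have hjJ : j ∈ d.J := by
    rw [← d.cent_J]
    intro w hw
    obtain ⟨v, rfl⟩ := B.exists_E hw
    obtain ⟨A', hadd', hA'⟩ := B.exists_acts
      (mul_mem (mul_mem (mul_mem hr htJ) (inv_mem hr)) (inv_mem htJ) : j ∈ _)
    have fix : ∀ {y : G}, r * y = y * r → F.t * y = y * F.t → j * y * j⁻¹ = y := by
      intro y h1 h2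
      have : Commute j y := ((((show Commute r y from h1).mul_left h2).mul_left
        (show Commute r y from h1).inv_left).mul_left (show Commute F.t y from h2).inv_left)
      rw [this.eq, mul_inv_cancel_right]
    have hlj : B.Lin j McL3U0Act44.mI := by
      have hrinv : B.Lin r⁻¹ (a, b, b, -a) := by
        intro k l
        have h := hl (a * k + b * l) (b * k + -a * l)
        have e : app (a, b, b, -a) (a * k + b * l) (b * k + -a * l) = (0, 0, k, l) := by
          simp only [app, Prod.mk.injEq, true_and]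
          constructor
          · linear_combination k * hab
          · linear_combination l * hab
        rw [e] at h
        rw [← h]
        simp only [app]
        group
      have htinv : F.t⁻¹ = F.t := inv_eq_of_mul_eq_one_right (Frame_tt F.toLoc)
      have := ((hl.mul B.lin_t).mul hrinv).mul B.lin_t
      rw [hj, htinv]
      convert this using 1
      exact ((by decide +kernel : ∀ a b : ZMod 3, a * a + b * b = 1 →
        mmul (mmul (mmul (a, b, b, -a) mN) (a, b, b, -a)) mN = McL3U0Act44.mI) a b hab).symm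
    have hA'v : A' v = v := by
      rw [lin_decomp hadd' v,
        show A' (1, 0, 0, 0) = (1, 0, 0, 0) from B.E_inj (by rw [← hA', B.E_z]; exact fix hz htz),
        show A' (0, 1, 0, 0) = (0, 1, 0, 0) from B.E_inj (by rw [← hA', B.E_x]; exact fix hx htx),
        show A' (0, 0, 1, 0) = (0, 0, 1, 0) from B.E_inj (by rw [← hA', hlj]; congr 1),
        show A' (0, 0, 0, 1) = (0, 0, 0, 1) from B.E_inj (by rw [← hA', hlj]; congr 1)]
      exact (V4_decomp v).symm
    exact (mul_inv_eq_iff_eq_mul.1 ((hA' v).trans (congrArg B.E hA'v))).symm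
  set r' := j * r with hr'
  have hr't : r' * F.t = F.t * r' := by
    have hrt : r * F.t * r⁻¹ = j * F.t := by rw [hj]; group
    have hjt : F.t * j * F.t⁻¹ = j⁻¹ := by
      refine eq_inv_of_mul_eq_one_right ?_
      have htinv : F.t⁻¹ = F.t := inv_eq_of_mul_eq_one_right (Frame_tt F.toLoc)
      rw [htinv]
      calc j * (F.t * j * F.t) = (j * F.t) * (j * F.t) := by group
        _ = r * (F.t * F.t) * r⁻¹ := by rw [← hrt]; group
        _ = 1 := by rw [Frame_tt F.toLoc]; group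
    refine mul_inv_eq_iff_eq_mul.1 ?_
    calc r' * F.t * r'⁻¹ = j * (r * F.t * r⁻¹) * j⁻¹ := by rw [hr']; group
      _ = j * j * (F.t * j * F.t⁻¹)⁻¹ * F.t := by rw [hrt]; group
      _ = j * j * j * F.t := by rw [hjt, inv_inv]
      _ = F.t := by
        have h3 := d.J_exp j hjJ
        rw [pow_succ, pow_two] at h3
        rw [h3, one_mul]
  have hjc : ∀ {y : G}, y ∈ d.J → j * y * j⁻¹ = y := fun {y} hy => by
    rw [d.J_comm j hjJ y hy, mul_inv_cancel_right]
  have hr'z : r' * d.z = d.z * r' :=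
    ((show Commute j d.z from d.J_comm j hjJ _ d.z_mem_J).mul_left hz).eq
  have hr'x : r' * F.x = F.x * r' :=
    ((show Commute j F.x from d.J_comm j hjJ _ F.x_mem_J).mul_left hx).eq
  have hl' : B.Lin r' (a, b, b, -a) := fun k l => by
    rw [show r' * B.E (0, 0, k, l) * r'⁻¹ = j * (r * B.E (0, 0, k, l) * r⁻¹) * j⁻¹ by
      rw [hr']; group, hl, hjc (B.E_mem _)]
  obtain ⟨M, hM, hsq, hne1, hne2⟩ := B.f_lin
  have hrN : r' ∈ Subgroup.normalizer (Subgroup.zpowers d.z : Set G) :=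
    McL3Frame78.mem_NZ_of_comm hr'z
  have hrL1 := F.L1_normal (Subgroup.mem_inf.2 ⟨hrN, Subgroup.mem_centralizer_singleton_iff.2 hr't⟩)
  have hc1 : r' * F.f * r'⁻¹ * F.f⁻¹ ∈ F.L1 :=
    mul_mem ((Subgroup.mem_normalizer_iff.1 hrL1 _).1 F.f_mem) (inv_mem F.f_mem)
  have hc1x : r' * F.f * r'⁻¹ * F.f⁻¹ * F.x = F.x * (r' * F.f * r'⁻¹ * F.f⁻¹) := by
    refine mul_inv_eq_iff_eq_mul.1 ?_
    have e1 : F.f⁻¹ * F.x * F.f = F.x⁻¹ := by
      have h := congrArg (fun y => F.f⁻¹ * y⁻¹ * F.f) F.f_conj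
      simp only [inv_inv] at h
      rw [← h]; group
    have e2 : r'⁻¹ * F.x⁻¹ * r' = F.x⁻¹ := by
      rw [((show Commute r' F.x from hr'x).inv_inv).eq, inv_mul_cancel_right]
    calc r' * F.f * r'⁻¹ * F.f⁻¹ * F.x * (r' * F.f * r'⁻¹ * F.f⁻¹)⁻¹
        = r' * (F.f * (r'⁻¹ * (F.f⁻¹ * F.x * F.f) * r') * F.f⁻¹) * r'⁻¹ := by group
      _ = F.x := by rw [e1, e2, ← conj_inv, F.f_conj, inv_inv, hr'x, mul_inv_cancel_right]
  obtain ⟨i, k, hik⟩ := cent_x hc1 hc1x
  have hcl : B.Lin (r' * F.f * r'⁻¹ * F.f⁻¹) McL3U0Act44.mI ∨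
      B.Lin (r' * F.f * r'⁻¹ * F.f⁻¹) mN := by
    rw [hik]
    clear hik
    induction k with
    | zero => left; rw [pow_zero, mul_one]; exact B.lin_J (pow_mem F.x_mem_J i)
    | succ k ih =>
      rw [pow_succ, ← mul_assoc]
      rcases ih with h | h
      · right
        have := h.mul B.lin_t
        rwa [show mmul McL3U0Act44.mI mN = mN by decide +kernel] at this
      · left
        have := h.mul B.lin_t
        rwa [show mmul mN mN = McL3U0Act44.mI by decide +kernel] at this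
  have hrf : B.Lin (r' * F.f) (mmul (a, b, b, -a) M) := hl'.mul hM
  have hfr : B.Lin (F.f * r') (mmul M (a, b, b, -a)) := hM.mul hl'
  have e : r' * F.f = r' * F.f * r'⁻¹ * F.f⁻¹ * (F.f * r') := by group
  rcases hcl with h | h
  · refine no_reflection M hsq hne1 hne2 a b hab (Or.inl ?_)
    have h2 := h.mul hfr
    rw [← e, McL3U0Act44.mI_mul] at h2
    exact hrf.unique h2
  · refine no_reflection M hsq hne1 hne2 a b hab (Or.inr ?_)
    have h2 := h.mul hfr
    rw [← e] at h2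
    exact hrf.unique h2

end Bas

end Cfsg.Agent.McL3Weak77
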