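import Mathlib
import Cfsg.Agent.Lib.McL3WeakRigid77
import Cfsg.Agent.Lib.McL3Top77

/-!
# S5523, S2913: the centralizers of the elements of `⟨z, x⟩` outside `⟨z⟩, ⟨x⟩` lie in `N(J)`

The quotient of `C(y)` by `⟨y⟩`, `y = z x^±1`, satisfies the axioms of `McL3Cfg77.Cfg`.
-/

set_option autoImplicit false
set_option linter.unusedSectionVars false
set_option linter.style.haveILetI false

namespace Cfsg.Agent.McL3Weak77

open Cfsg.Agent.McL3x39 Cfsg.Agent.McL3Cfg77 Cfsg.Agent.McL3U0Act44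

/-- The coordinates of `y`. -/
def yv (ε : ZMod 3) : V4 := (1, ε, 0, 0)

/-- The coordinates of the conjugate `w` of `z`. -/
def wv (ε : ZMod 3) : V4 := (-ε, 1, 1, 1)

/-- Coordinates modulo `y`. -/
def pr (ε : ZMod 3) (v : V4) : V3 := fun n =>
  if n = 0 then v.2.2.1 else if n = 1 then v.2.2.2 else ε * v.1 - v.2.1

/-- A section of `pr`. -/
def lift3 (d : V3) : V4 := (0, -d 2, d 0, d 1)

theorem pr_add (ε : ZMod 3) (v w : V4) : pr ε (v + w) = pr ε v + pr ε w := by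
  funext n
  simp only [pr, Pi.add_apply, Prod.fst_add, Prod.snd_add]
  split_ifs <;> ring

theorem lift3_add (a b : V3) : lift3 (a + b) = lift3 a + lift3 b := by
  simp [lift3, Prod.ext_iff]; ring

theorem pr_lift : ∀ (ε : ZMod 3) (e : V3), pr ε (lift3 e) = e := by decide +kernel

set_option synthInstance.maxSize 4096 in
theorem pr_span : ∀ (ε : ZMod 3) (v w : V4), pr ε v = pr ε w → ε ≠ 0 →
    ∃ k : ZMod 3, w = v + k • yv ε := by decide +kernel

theorem pr_yv : ∀ (ε k : ZMod 3), ε ≠ 0 → pr ε (k • yv ε) = 0 := by decide +kernel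

theorem pairs : ∀ (ε : ZMod 3) (a b : V4), omP ε a → omP ε b → a ≠ b → pr ε a = pr ε b → ε ≠ 0 →
    ∃ i, pr ε a = Pi.single i 1 ∨ pr ε a = -Pi.single i 1 := by decide +kernel

theorem pair_exists : ∀ (ε i : ZMod 3), ε ≠ 0 → ∃ a b : V4, omP ε a ∧ omP ε b ∧ a ≠ b ∧
    pr ε a = Pi.single i 1 ∧ pr ε b = Pi.single i 1 := by decide +kernel

theorem no_three : ∀ (ε : ZMod 3) (v : V4) (k : ZMod 3), omP ε v → omP ε (v + k • yv ε) →
    omP ε (v + (k + k) • yv ε) → ε ≠ 0 → k = 0 := by decide +kernel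

theorem gens : ∀ ε : ZMod 3, ε ≠ 0 → omP ε (0, -1, 0, 0) ∧ omP ε (ε, 1, 1, 0) ∧ omP ε (ε, 1, 0, 1) ∧
    omP ε (1, 0, 0, 0) ∧ omP ε (0, 1, 0, 0) ∧ omP ε (ε, 1, -1, 0) ∧ omP ε (ε, 1, 0, -1) ∧
    omP ε (wv ε) ∧ omP ε (-wv ε) ∧ ¬ omP ε (yv ε) ∧
    pr ε (0, -1, 0, 0) = Pi.single 2 1 ∧ pr ε (ε, 1, 1, 0) = Pi.single 0 1 ∧
    pr ε (ε, 1, 0, 1) = Pi.single 1 1 ∧ pr ε (wv ε) = 1 := by decide +kernel

/-- The candidates for a map inducing `-1` modulo `y`. -/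
def negA (ε a b c : ZMod 3) (v : V4) : V4 :=
  v.1 • (yv ε + -(ε • (-(0, 1, 0, 0) + a • yv ε))) + v.2.1 • (-(0, 1, 0, 0) + a • yv ε) +
    v.2.2.1 • (-(0, 0, 1, 0) + b • yv ε) + v.2.2.2 • (-(0, 0, 0, 1) + c • yv ε)

theorem neg_rigid : ∀ ε a b c : ZMod 3, ε ≠ 0 → omP ε (negA ε a b c (1, 0, 0, 0)) →
    omP ε (negA ε a b c (0, 1, 0, 0)) → omP ε (negA ε a b c (ε, 1, 1, 0)) →
    omP ε (negA ε a b c (ε, 1, -1, 0)) → omP ε (negA ε a b c (ε, 1, 0, 1)) →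
    omP ε (negA ε a b c (ε, 1, 0, -1)) → a = ε ∧ b = 0 ∧ c = 0 := by decide +kernel

theorem shift_solve : ∀ (k : ZMod 3) (e : V3), e + sh k e + sh k (sh k e) = 0 → k ≠ 0 →
    ∃ a : V3, a - sh k a = e := by decide +kernel

set_option synthInstance.maxSize 4096 in
theorem shift_form : ∀ (π : ZMod 3 → ZMod 3) (f : ZMod 3 → Bool),
    col (π 0) (f 0) + col (π 1) (f 1) + col (π 2) (f 2) = 1 → (∀ i, π (π (π i)) = i) →
    (∀ i, f i = false) ∧ ((∀ i, π i = i) ∨ (∀ i, π i = i + 1) ∨ (∀ i, π i = i - 1)) := by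
  decide +kernel

theorem decomp3 : ∀ e : V3, e = e 0 • (Pi.single 0 1 : V3) + e 1 • (Pi.single 1 1 : V3) +
    e 2 • (Pi.single 2 1 : V3) := by decide +kernel

/-- A sign basis together with the sign of `y`. -/
structure Ctx {G : Type*} [Group G] [Finite G] {d : Data G} (F : Frame d) where
  /-- The basis. -/
  B : Bas F
  /-- The sign. -/
  ε : ZMod 3
  hε : ε ≠ 0
  hOm : ∀ v, Cz d (B.E v) ↔ omP ε v

variable {G : Type*} [Group G] [Finite G] {d : Data G} {F : Frame d}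

theorem linear_smul {A : V4 → V4} (hadd : ∀ v w, A (v + w) = A v + A w) (a : ZMod 3) (v : V4) :
    A (a • v) = a • A v := by
  rcases (by decide : ∀ a : ZMod 3, a = 0 ∨ a = 1 ∨ a = 2) a with rfl | rfl | rfl
  · rw [zero_smul, zero_smul]
    have h := hadd 0 0
    rw [add_zero] at h
    exact left_eq_add.1 h
  · rw [one_smul, one_smul]
  · rw [two_smul, two_smul, hadd]

namespace Ctx

variable (c : Ctx F)

/-- The centralizer of `y`. -/
abbrev Cy : Subgroup G := Subgroup.centralizer ({c.B.E (yv c.ε)} : Set G)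

/-- The subgroup generated by `y`. -/
abbrev Yb : Subgroup c.Cy := (Subgroup.zpowers (c.B.E (yv c.ε))).subgroupOf c.Cy

instance normal_Yb : c.Yb.Normal := ⟨fun a ha b => by
  obtain ⟨i, hi⟩ := Subgroup.mem_zpowers_iff.1 (Subgroup.mem_subgroupOf.1 ha)
  refine Subgroup.mem_subgroupOf.2 ?_
  simp only [Subgroup.coe_mul, Subgroup.coe_inv, ← hi]
  rw [((show Commute (b : G) (c.B.E (yv c.ε)) from
    Subgroup.mem_centralizer_singleton_iff.1 b.2).zpow_right i).eq, mul_inv_cancel_right]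
  exact Subgroup.zpow_mem_zpowers _ _⟩

theorem J_le_Cy : d.J ≤ c.Cy := fun j hj =>
  Subgroup.mem_centralizer_singleton_iff.2 (d.J_comm j hj _ (c.B.E_mem _))

/-- The quotient map. -/
abbrev proj : c.Cy →* c.Cy ⧸ c.Yb := QuotientGroup.mk' c.Yb

/-- The image of the element with given coordinates. -/
def PI (v : V4) : c.Cy ⧸ c.Yb := c.proj ⟨c.B.E v, c.J_le_Cy (c.B.E_mem v)⟩

theorem PI_add (v w : V4) : c.PI (v + w) = c.PI v * c.PI w := by
  rw [PI, PI, PI, ← map_mul]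
  exact congrArg _ (Subtype.ext (c.B.E_add v w))

theorem PI_zero : c.PI 0 = 1 := by
  have h : (⟨c.B.E 0, c.J_le_Cy (c.B.E_mem 0)⟩ : c.Cy) = 1 := Subtype.ext c.B.E_zero
  rw [PI, h, map_one]

theorem PI_neg (v : V4) : c.PI (-v) = (c.PI v)⁻¹ :=
  eq_inv_of_mul_eq_one_left (by rw [← c.PI_add, neg_add_cancel, c.PI_zero])

theorem PI_smul (a : ZMod 3) (v : V4) : c.PI (a • v) = c.PI v ^ a.val := by
  rw [PI, PI, ← map_pow]
  exact congrArg _ (Subtype.ext (c.B.E_smul a v))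

theorem proj_eq {g g' : c.Cy} (h : c.proj g = c.proj g') :
    ∃ k : ZMod 3, (g' : G) = g * c.B.E (k • yv c.ε) := by
  have h1 := Subgroup.mem_subgroupOf.1 (QuotientGroup.eq.1 h)
  obtain ⟨i, hi⟩ := Subgroup.mem_zpowers_iff.1 h1
  refine ⟨(i : ZMod 3), ?_⟩
  rw [c.B.E_smul, ← zpow_val (d.J_exp _ (c.B.E_mem _)), hi]
  simp

theorem PI_eq {v w : V4} : c.PI v = c.PI w ↔ pr c.ε v = pr c.ε w := by
  constructor
  · intro h
    obtain ⟨k, hk⟩ := c.proj_eq h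
    simp only at hk
    rw [← c.B.E_add] at hk
    rw [c.B.E_inj hk, pr_add, pr_yv _ _ c.hε, add_zero]
  · intro h
    obtain ⟨k, hk⟩ := pr_span c.ε v w h c.hε
    have hy : c.PI (k • yv c.ε) = 1 := by
      refine (QuotientGroup.eq_one_iff _).2 (Subgroup.mem_subgroupOf.2 ?_)
      show c.B.E (k • yv c.ε) ∈ _
      rw [c.B.E_smul]
      exact pow_mem (Subgroup.mem_zpowers _) _
    rw [hk, c.PI_add, hy, mul_one]

theorem PI_lift (v : V4) : c.PI v = c.PI (lift3 (pr c.ε v)) := c.PI_eq.2 (pr_lift _ _).symm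

/-- The basis of the image of `J`. -/
def e (i : ZMod 3) : c.Cy ⧸ c.Yb := c.PI (lift3 (Pi.single i 1))

theorem PI_prod (w : V3) :
    c.PI (lift3 w) = c.e 0 ^ (w 0).val * c.e 1 ^ (w 1).val * c.e 2 ^ (w 2).val := by
  rw [e, e, e, ← c.PI_smul, ← c.PI_smul, ← c.PI_smul, ← c.PI_add, ← c.PI_add]
  refine c.PI_eq.2 ?_
  have hs : ∀ (a : ZMod 3) (v : V4), pr c.ε (a • v) = a • pr c.ε v := fun a v => by
    funext n
    simp only [pr, Pi.smul_apply, smul_eq_mul, Prod.smul_fst, Prod.smul_snd]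
    split_ifs <;> ring
  rw [pr_add, pr_add, hs, hs, hs, pr_lift, pr_lift, pr_lift, pr_lift]
  exact decomp3 w

theorem mem_Jb {x : c.Cy ⧸ c.Yb} : x ∈ Subgroup.closure (Set.range c.e) ↔ ∃ v, c.PI v = x := by
  constructor
  · intro hx
    induction hx using Subgroup.closure_induction with
    | mem y hy =>
      obtain ⟨i, rfl⟩ := hy
      exact ⟨_, rfl⟩
    | one => exact ⟨0, c.PI_zero⟩
    | mul y z _ _ hy hz =>
      obtain ⟨a, rfl⟩ := hy
      obtain ⟨b, rfl⟩ := hz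
      exact ⟨a + b, c.PI_add a b⟩
    | inv y _ hy =>
      obtain ⟨a, rfl⟩ := hy
      exact ⟨-a, c.PI_neg a⟩
  · rintro ⟨v, rfl⟩
    rw [c.PI_lift, c.PI_prod]
    have h : ∀ i, c.e i ∈ Subgroup.closure (Set.range c.e) := fun i =>
      Subgroup.subset_closure ⟨i, rfl⟩
    exact mul_mem (mul_mem (pow_mem (h 0) _) (pow_mem (h 1) _)) (pow_mem (h 2) _)

theorem PI_comm (v w : V4) : c.PI v * c.PI w = c.PI w * c.PI v := by
  rw [← c.PI_add, ← c.PI_add, add_comm]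

theorem conj_PI {g : c.Cy} {A : V4 → V4} (hA : c.B.Acts (g : G) A) (v : V4) :
    c.proj g * c.PI v * (c.proj g)⁻¹ = c.PI (A v) := by
  rw [PI, PI, ← map_inv, ← map_mul, ← map_mul]
  exact congrArg _ (Subtype.ext (hA v))

theorem normal_iff {g : c.Cy} :
    c.proj g ∈ Subgroup.normalizer (Subgroup.closure (Set.range c.e) : Set (c.Cy ⧸ c.Yb)) ↔
      (g : G) ∈ Subgroup.normalizer (d.J : Set G) := by
  constructor
  · intro h
    refine Subgroup.mem_normalizer_fintype fun j hj => ?_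
    obtain ⟨v, rfl⟩ := c.B.exists_E hj
    obtain ⟨w, hw⟩ := c.mem_Jb.1 ((Subgroup.mem_normalizer_iff.1 h _).1 (c.mem_Jb.2 ⟨v, rfl⟩))
    rw [PI, PI, ← map_inv, ← map_mul, ← map_mul] at hw
    obtain ⟨k, hk⟩ := c.proj_eq hw
    simp only [Subgroup.coe_mul, Subgroup.coe_inv] at hk
    rw [hk]
    exact mul_mem (c.B.E_mem _) (c.B.E_mem _)
  · intro h
    obtain ⟨A, -, hA⟩ := c.B.exists_acts h
    refine Subgroup.mem_normalizer_fintype fun y hy => ?_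
    obtain ⟨v, rfl⟩ := c.mem_Jb.1 hy
    exact c.mem_Jb.2 ⟨A v, (c.conj_PI hA v).symm⟩

theorem exists_act {g : c.Cy} (hg : (g : G) ∈ Subgroup.normalizer (d.J : Set G)) :
    ∃ A : V4 → V4, (∀ v w, A (v + w) = A v + A w) ∧ c.B.Acts (g : G) A ∧ A (yv c.ε) = yv c.ε ∧
      (∀ v, omP c.ε v → omP c.ε (A v)) ∧ Function.Injective A := by
  obtain ⟨A, hadd, hA⟩ := c.B.exists_acts hg
  refine ⟨A, hadd, hA, c.B.E_inj ?_, fun v hv => ?_, fun v w h => c.B.E_inj ?_⟩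
  · rw [← hA, Subgroup.mem_centralizer_singleton_iff.1 g.2, mul_inv_cancel_right]
  · rw [← c.hOm, ← hA]
    exact ((c.hOm v).2 hv).conj _
  · have h1 := hA v
    rw [h, ← hA w] at h1
    exact mul_left_cancel (mul_right_cancel h1)

theorem mono (m : c.Cy ⧸ c.Yb)
    (hm : m ∈ Subgroup.normalizer (Subgroup.closure (Set.range c.e) : Set (c.Cy ⧸ c.Yb))) (i : ZMod 3) :
    ∃ j, m * c.e i * m⁻¹ = c.e j ∨ m * c.e i * m⁻¹ = (c.e j)⁻¹ := by
  obtain ⟨g, rfl⟩ := QuotientGroup.mk'_surjective c.Yb m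
  obtain ⟨A, hadd, hA, hy, hom, hinj⟩ := c.exists_act (c.normal_iff.1 hm)
  obtain ⟨a, b, ha, hb, hab, hpa, hpb⟩ := pair_exists c.ε i c.hε
  obtain ⟨k, hk⟩ := pr_span c.ε a b (hpa.trans hpb.symm) c.hε
  have hpr : pr c.ε (A a) = pr c.ε (A b) := by
    rw [hk, hadd, linear_smul hadd, hy, pr_add, pr_yv _ _ c.hε, add_zero]
  have he : c.proj g * c.e i * (c.proj g)⁻¹ = c.PI (A a) := by
    rw [e, ← hpa, ← c.PI_lift, c.conj_PI hA]
  obtain ⟨j, hj⟩ := pairs c.ε (A a) (A b) (hom a ha) (hom b hb) (fun h => hab (hinj h)) hpr c.hε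
  refine ⟨j, ?_⟩
  rw [he, c.PI_lift]
  rcases hj with h | h <;> rw [h]
  · exact Or.inl rfl
  · refine Or.inr (Eq.trans (congrArg c.PI ?_) (c.PI_neg _))
    exact eq_neg_of_add_eq_zero_left (by
      rw [← lift3_add, neg_add_cancel]; simp [lift3])

/-- The `y`-shift of a fixed conjugate of `z` vanishes. -/
theorem fixed_of_mod {g : G} (hy : g * c.B.E (yv c.ε) = c.B.E (yv c.ε) * g) {v : V4} {k : ZMod 3}
    (hv : omP c.ε v) (h : g * c.B.E v * g⁻¹ = c.B.E (v + k • yv c.ε)) :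
    g * c.B.E v * g⁻¹ = c.B.E v := by
  have hk : ∀ a : ZMod 3, g * c.B.E (a • yv c.ε) * g⁻¹ = c.B.E (a • yv c.ε) := fun a => by
    rw [c.B.E_smul, ((show Commute g (c.B.E (yv c.ε)) from hy).pow_right a.val).eq, mul_inv_cancel_right]
  have h2 : g * (g * c.B.E v * g⁻¹) * g⁻¹ = c.B.E (v + (k + k) • yv c.ε) := by
    rw [h, c.B.E_add, ← conj_mul, h, hk, ← c.B.E_add, add_smul, add_assoc]
  have h0 := no_three c.ε v k hv ((c.hOm _).1 (h ▸ ((c.hOm v).2 hv).conj g))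
    ((c.hOm _).1 (h2 ▸ (((c.hOm v).2 hv).conj g).conj g)) c.hε
  rw [h, h0, zero_smul, add_zero]

theorem fix_of_mod {g : c.Cy} {v : V4} (hv : omP c.ε v)
    (h : c.proj g * c.PI v = c.PI v * c.proj g) : (g : G) * c.B.E v = c.B.E v * g := by
  refine mul_inv_eq_iff_eq_mul.1 ?_
  have h1 : c.proj ⟨c.B.E v, c.J_le_Cy (c.B.E_mem v)⟩ =
      c.proj (g * ⟨c.B.E v, c.J_le_Cy (c.B.E_mem v)⟩ * g⁻¹) := by
    rw [map_mul, map_mul, map_inv]
    exact (mul_inv_eq_iff_eq_mul.2 h).symm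
  obtain ⟨k, hk⟩ := c.proj_eq h1
  simp only [Subgroup.coe_mul, Subgroup.coe_inv] at hk
  rw [← c.B.E_add] at hk
  exact c.fixed_of_mod (Subgroup.mem_centralizer_singleton_iff.1 g.2) hv hk

theorem comm_zx {g : c.Cy} (h : c.proj g * c.e 2 = c.e 2 * c.proj g) :
    (g : G) * d.z = d.z * g ∧ (g : G) * F.x = F.x * g := by
  have h2 : c.e 2 = c.PI (0, -1, 0, 0) := by
    rw [e]; exact c.PI_eq.2 (by rw [pr_lift]; exact (gens _ c.hε).2.2.2.2.2.2.2.2.2.2.1.symm)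
  rw [h2] at h
  have hx' := c.fix_of_mod (gens _ c.hε).1 h
  have hx : (g : G) * F.x = F.x * g := by
    rw [show ((0, -1, 0, 0) : V4) = -(0, 1, 0, 0) by simp, c.B.E_neg, c.B.E_x] at hx'
    exact (Commute.inv_right_iff.1 hx').eq
  refine ⟨?_, hx⟩
  have hz : d.z = c.B.E (yv c.ε) * (F.x ^ c.ε.val)⁻¹ := by
    rw [← c.B.E_x, ← c.B.E_smul, ← c.B.E_neg, ← c.B.E_add, ← c.B.E_z]
    congr 1
    simp [yv]
  rw [hz]
  exact ((show Commute (g : G) _ from Subgroup.mem_centralizer_singleton_iff.1 g.2).mul_right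
    ((show Commute (g : G) F.x from hx).pow_right _).inv_right).eq

theorem faith (m : c.Cy ⧸ c.Yb) (hm : ∀ i, m * c.e i = c.e i * m) :
    m ∈ Subgroup.closure (Set.range c.e) := by
  obtain ⟨g, rfl⟩ := QuotientGroup.mk'_surjective c.Yb m
  have hall : ∀ v, c.proj g * c.PI v = c.PI v * c.proj g := by
    intro v
    rw [c.PI_lift, c.PI_prod]
    exact ((((show Commute _ _ from hm 0).pow_right _).mul_right
      ((show Commute _ _ from hm 1).pow_right _)).mul_right ((show Commute _ _ from hm 2).pow_right _)).eq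
  obtain ⟨hz, hx⟩ := c.comm_zx (hm 2)
  have hp := c.fix_of_mod (gens _ c.hε).2.1 (hall _)
  have hq := c.fix_of_mod (gens _ c.hε).2.2.1 (hall _)
  have hgJ : (g : G) ∈ d.J := by
    rw [← d.cent_J]
    intro w hw
    obtain ⟨v, rfl⟩ := c.B.exists_E hw
    obtain ⟨A, hadd, hA⟩ := c.B.exists_acts (normalizes_zx F.toLoc hz hx)
    have fix : ∀ u, (g : G) * c.B.E u = c.B.E u * g → A u = u := fun u hu =>
      c.B.E_inj (by rw [← hA, hu, mul_inv_cancel_right])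
    have e1 := fix _ (c.B.E_z.symm ▸ hz)
    have e2 := fix _ (c.B.E_x.symm ▸ hx)
    have d3 : ((0, 0, 1, 0) : V4) = (c.ε, 1, 1, 0) + -(c.ε • (1, 0, 0, 0)) + -(0, 1, 0, 0) := by simp
    have d4 : ((0, 0, 0, 1) : V4) = (c.ε, 1, 0, 1) + -(c.ε • (1, 0, 0, 0)) + -(0, 1, 0, 0) := by simp
    have hneg : ∀ u, A (-u) = -A u := fun u => by
      rw [← neg_one_smul (ZMod 3) u, linear_smul hadd, neg_one_smul]
    have e3 : A (0, 0, 1, 0) = (0, 0, 1, 0) := by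
      conv_lhs => rw [d3, hadd, hadd, hneg, hneg, linear_smul hadd, fix _ hp, e1, e2, ← d3]
    have e4 : A (0, 0, 0, 1) = (0, 0, 0, 1) := by
      conv_lhs => rw [d4, hadd, hadd, hneg, hneg, linear_smul hadd, fix _ hq, e1, e2, ← d4]
    have hv := hA v
    rw [Bas.lin_decomp hadd v, e1, e2, e3, e4, ← V4_decomp v] at hv
    exact (mul_inv_eq_iff_eq_mul.1 hv).symm
  obtain ⟨v, hv⟩ := c.B.exists_E hgJ
  refine c.mem_Jb.2 ⟨v, ?_⟩
  exact congrArg c.proj (Subtype.ext hv)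

theorem n_lin : ∃ a b : ZMod 3, a * a + b * b = 1 ∧ c.B.Lin F.n (a, b, b, -a) := by
  obtain ⟨A, hadd, hA⟩ := c.B.exists_acts (d.M0_le F.n_mem)
  obtain ⟨M, hM⟩ := c.B.exists_lin F.n_comm (d.M0_le F.n_mem)
  have hcomm : mmul M mG = mmul (mneg mG) M := by
    have hgi : c.B.Lin F.g⁻¹ (mneg mG) := by
      have hgv : c.B.Lin F.g⁻¹ (mmul mN mG) := by
        have e : F.g⁻¹ = F.t * F.g := by
          refine inv_eq_of_mul_eq_one_right ?_
          rw [← mul_assoc, F.g_comm, mul_assoc, F.g_sq, Frame_tt F.toLoc]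
        rw [e]
        exact c.B.lin_t.mul c.B.lin_g
      exact hgv
    have h1 := hM.mul c.B.lin_g
    have h2 := hgi.mul hM
    rw [← F.n_g, inv_mul_cancel_right] at h2
    exact h1.unique h2
  have hsq : mmul M M = McL3U0Act44.mI := by
    have h := hM.mul hM
    rw [F.n_sq] at h
    exact h.unique (c.B.lin_J (one_mem _))
  obtain ⟨m1, m2, m3, m4⟩ := M
  have key : ∀ m1 m2 m3 m4 : ZMod 3, mmul (m1, m2, m3, m4) mG = mmul (mneg mG) (m1, m2, m3, m4) →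
      mmul (m1, m2, m3, m4) (m1, m2, m3, m4) = McL3U0Act44.mI →
      m1 * m1 + m2 * m2 = 1 ∧ m3 = m2 ∧ m4 = -m1 := by decide +kernel
  obtain ⟨h1, rfl, rfl⟩ := key m1 m2 m3 m4 hcomm hsq
  exact ⟨_, _, h1, hM⟩

theorem noswap (m : c.Cy ⧸ c.Yb)
    (hm : m ∈ Subgroup.normalizer (Subgroup.closure (Set.range c.e) : Set (c.Cy ⧸ c.Yb)))
    (h0 : m * c.e 0 * m⁻¹ = c.e 1) (h1 : m * c.e 1 * m⁻¹ = c.e 0) (h2 : m * c.e 2 * m⁻¹ = c.e 2) :
    False := by
  obtain ⟨g, rfl⟩ := QuotientGroup.mk'_surjective c.Yb m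
  obtain ⟨hz, hx⟩ := c.comm_zx (mul_inv_eq_iff_eq_mul.1 h2)
  have hgN := c.normal_iff.1 hm
  obtain ⟨A, hadd, hA, hy, hom, hinj⟩ := c.exists_act hgN
  have e1 : A (1, 0, 0, 0) = (1, 0, 0, 0) :=
    c.B.E_inj (by rw [← hA, c.B.E_z, hz, mul_inv_cancel_right])
  have e2 : A (0, 1, 0, 0) = (0, 1, 0, 0) :=
    c.B.E_inj (by rw [← hA, c.B.E_x, hx, mul_inv_cancel_right])
  have g0 := gens _ c.hε
  have key : ∀ a b : V4, omP c.ε a → pr c.ε (A a) = pr c.ε b → omP c.ε b → pr c.ε (A b) = pr c.ε a →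
      ∃ k : ZMod 3, A a = b + k • yv c.ε := fun a b _ h _ _ => pr_span c.ε b (A a) h.symm c.hε
  have hpre : ∀ (i j : ZMod 3) (a b : V4), c.proj g * c.e i * (c.proj g)⁻¹ = c.e j →
      pr c.ε a = Pi.single i 1 → pr c.ε b = Pi.single j 1 → pr c.ε (A a) = pr c.ε b := by
    intro i j a b h ha hb
    refine c.PI_eq.1 ?_
    rw [← c.conj_PI hA, c.PI_lift a, ha, c.PI_lift b, hb]
    exact h
  obtain ⟨k, hk⟩ := key _ _ g0.2.1 (hpre 0 1 _ _ h0 g0.2.2.2.2.2.2.2.2.2.2.2.1 g0.2.2.2.2.2.2.2.2.2.2.2.2.1)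
    g0.2.2.1 (hpre 1 0 _ _ h1 g0.2.2.2.2.2.2.2.2.2.2.2.2.1 g0.2.2.2.2.2.2.2.2.2.2.2.1)
  obtain ⟨l, hl⟩ := key _ _ g0.2.2.1 (hpre 1 0 _ _ h1 g0.2.2.2.2.2.2.2.2.2.2.2.2.1 g0.2.2.2.2.2.2.2.2.2.2.2.1)
    g0.2.1 (hpre 0 1 _ _ h0 g0.2.2.2.2.2.2.2.2.2.2.2.1 g0.2.2.2.2.2.2.2.2.2.2.2.2.1)
  have hdec : ∀ ε k l : ZMod 3, ε ≠ 0 → omP ε ((ε, 1, 0, 1) + k • yv ε) →
      omP ε ((ε, 1, 1, 0) + l • yv ε) →
      omP ε (ε • (1, 0, 0, 0) + (0, 1, 0, 0) + -((ε, 1, 0, 1) + k • yv ε - ε • (1, 0, 0, 0) - (0, 1, 0, 0))) →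
      omP ε (ε • (1, 0, 0, 0) + (0, 1, 0, 0) + -((ε, 1, 1, 0) + l • yv ε - ε • (1, 0, 0, 0) - (0, 1, 0, 0))) →
      k = 0 ∧ l = 0 := by decide +kernel
  have hneg : ∀ u, A (-u) = -A u := fun u => by
    rw [← neg_one_smul (ZMod 3) u, linear_smul hadd, neg_one_smul]
  have hp : A (0, 0, 1, 0) = (c.ε, 1, 0, 1) + k • yv c.ε - c.ε • (1, 0, 0, 0) - (0, 1, 0, 0) := by
    have : ((0, 0, 1, 0) : V4) = (c.ε, 1, 1, 0) + -(c.ε • (1, 0, 0, 0)) + -(0, 1, 0, 0) := by simp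
    conv_lhs => rw [this, hadd, hadd, hneg, hneg, linear_smul hadd, hk, e1, e2]
    abel
  have hq : A (0, 0, 0, 1) = (c.ε, 1, 1, 0) + l • yv c.ε - c.ε • (1, 0, 0, 0) - (0, 1, 0, 0) := by
    have : ((0, 0, 0, 1) : V4) = (c.ε, 1, 0, 1) + -(c.ε • (1, 0, 0, 0)) + -(0, 1, 0, 0) := by simp
    conv_lhs => rw [this, hadd, hadd, hneg, hneg, linear_smul hadd, hl, e1, e2]
    abel
  have hn : ∀ u : V4, A (c.ε • (1, 0, 0, 0) + (0, 1, 0, 0) + -u) =
      c.ε • (1, 0, 0, 0) + (0, 1, 0, 0) + -A u := fun u => by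
    rw [hadd, hadd, hneg, linear_smul hadd, e1, e2]
  have hm1 : omP c.ε (c.ε • (1, 0, 0, 0) + (0, 1, 0, 0) + -(0, 0, 1, 0)) := by simpa using g0.2.2.2.2.2.1
  have hm2 : omP c.ε (c.ε • (1, 0, 0, 0) + (0, 1, 0, 0) + -(0, 0, 0, 1)) := by simpa using g0.2.2.2.2.2.2.1
  obtain ⟨rfl, rfl⟩ := hdec c.ε k l c.hε (hk ▸ hom _ g0.2.1) (hl ▸ hom _ g0.2.2.1)
    (by have := hom _ hm1; rwa [hn, hp] at this) (by have := hom _ hm2; rwa [hn, hq] at this)
  refine c.B.rigid hgN hz hx (a := 0) (b := 1) (by decide) (c.B.lin_of_acts hadd hA _ ?_ ?_)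
  · rw [hp]; simp [app]
  · rw [hq]; simp [app]

theorem noneg (m : c.Cy ⧸ c.Yb)
    (hm : m ∈ Subgroup.normalizer (Subgroup.closure (Set.range c.e) : Set (c.Cy ⧸ c.Yb)))
    (h : ∀ i, m * c.e i * m⁻¹ = (c.e i)⁻¹) : False := by
  obtain ⟨g, rfl⟩ := QuotientGroup.mk'_surjective c.Yb m
  have hgN := c.normal_iff.1 hm
  obtain ⟨A, hadd, hA, hy, hom, hinj⟩ := c.exists_act hgN
  have hpr : ∀ i, ∃ k : ZMod 3, A (lift3 (Pi.single i 1)) = -lift3 (Pi.single i 1) + k • yv c.ε := by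
    intro i
    have he := h i
    rw [e, c.conj_PI hA, ← c.PI_neg, c.PI_eq] at he
    exact pr_span c.ε _ _ he.symm c.hε
  obtain ⟨a, ha⟩ := hpr 2
  obtain ⟨b, hb⟩ := hpr 0
  obtain ⟨b', hb'⟩ := hpr 1
  have l0 : lift3 (Pi.single 0 1) = ((0, 0, 1, 0) : V4) := by decide +kernel
  have l1 : lift3 (Pi.single 1 1) = ((0, 0, 0, 1) : V4) := by decide +kernel
  have l2 : lift3 (Pi.single 2 1) = -((0, 1, 0, 0) : V4) := by decide +kernel
  rw [l0] at hb
  rw [l1] at hb'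
  rw [l2] at ha
  have hneg : ∀ u, A (-u) = -A u := fun u => by
    rw [← neg_one_smul (ZMod 3) u, linear_smul hadd, neg_one_smul]
  have hx : A (0, 1, 0, 0) = -(0, 1, 0, 0) + (-a) • yv c.ε := by
    rw [hneg, neg_neg, neg_eq_iff_eq_neg] at ha
    rw [ha, neg_add, neg_smul]
  have hz : A (1, 0, 0, 0) = yv c.ε + -(c.ε • (-(0, 1, 0, 0) + (-a) • yv c.ε)) := by
    have : ((1, 0, 0, 0) : V4) = yv c.ε + -(c.ε • (0, 1, 0, 0)) := by simp [yv]
    conv_lhs => rw [this, hadd, hneg, linear_smul hadd, hx, hy]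
  have hneq : ∀ v, A v = negA c.ε (-a) b b' v := fun v => by
    rw [Bas.lin_decomp hadd v, hz, hx, hb, hb']; rfl
  have g0 := gens _ c.hε
  have hOm : ∀ v, omP c.ε v → omP c.ε (negA c.ε (-a) b b' v) := fun v hv => hneq v ▸ hom v hv
  obtain ⟨ea, rfl, rfl⟩ := neg_rigid c.ε (-a) b b' c.hε (hOm _ g0.2.2.2.1) (hOm _ g0.2.2.2.2.1)
    (hOm _ g0.2.1) (hOm _ g0.2.2.2.2.2.1) (hOm _ g0.2.2.1) (hOm _ g0.2.2.2.2.2.2.1)
  rw [zero_smul, add_zero] at hb hb'
  rw [ea] at hx hz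
  obtain ⟨ra, rb, hab, hn⟩ := c.n_lin
  have hgl : c.B.Lin (g : G) mN := c.B.lin_of_acts hadd hA _
    (by rw [hb]; decide +kernel) (by rw [hb']; decide +kernel)
  have hzg : (g : G) * d.z * (g : G)⁻¹ = F.x ^ c.ε.val := by
    rw [← c.B.E_z, hA, hz, ← c.B.E_x, ← c.B.E_smul]
    congr 1
    exact (by decide : ∀ ε : ZMod 3, ε ≠ 0 →
      (yv ε + -(ε • (-(0, 1, 0, 0) + ε • yv ε)) : V4) = ε • (0, 1, 0, 0)) c.ε c.hε
  have hxg : (g : G) * F.x * (g : G)⁻¹ = d.z ^ c.ε.val := by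
    rw [← c.B.E_x, hA, hx, ← c.B.E_z, ← c.B.E_smul]
    congr 1
    exact (by decide : ∀ ε : ZMod 3, ε ≠ 0 →
      (-(0, 1, 0, 0) + ε • yv ε : V4) = ε • (1, 0, 0, 0)) c.ε c.hε
  rcases (by decide : ∀ ε : ZMod 3, ε ≠ 0 → ε = 1 ∨ ε = -1) c.ε c.hε with hε | hε
  · rw [hε, ZMod.val_one, pow_one] at hzg hxg
    have hn' := d.M0_le F.n_mem
    refine c.B.rigid (r := F.n * g) (mul_mem hn' hgN) ?_ ?_ (a := -ra) (b := -rb)
      (by linear_combination hab) ?_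
    · refine mul_inv_eq_iff_eq_mul.1 ?_
      calc F.n * g * d.z * (F.n * (g : G))⁻¹ = F.n * ((g : G) * d.z * (g : G)⁻¹) * F.n⁻¹ := by group
        _ = d.z := by rw [hzg, F.n_x]
    · refine mul_inv_eq_iff_eq_mul.1 ?_
      calc F.n * g * F.x * (F.n * (g : G))⁻¹ = F.n * ((g : G) * F.x * (g : G)⁻¹) * F.n⁻¹ := by group
        _ = F.x := by rw [hxg, F.n_z]
    · have := hn.mul hgl
      rwa [(by decide +kernel : ∀ a b : ZMod 3, mmul (a, b, b, -a) mN = (-a, -b, -b, - -a)) ra rb] at this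
  · rw [hε, show (-1 : ZMod 3).val = 2 from rfl, pow_two] at hzg hxg
    have hxx : F.x * F.x = F.x⁻¹ := by
      refine eq_inv_of_mul_eq_one_left ?_
      rw [← pow_two, ← pow_succ]; show F.x ^ 3 = 1; rw [← F.order_x]; exact pow_orderOf_eq_one F.x
    have hzz : d.z * d.z = d.z⁻¹ := by
      refine eq_inv_of_mul_eq_one_left ?_
      rw [← pow_two, ← pow_succ]; exact McL3Frame78.z_cube
    rw [hxx] at hzg
    rw [hzz] at hxg
    refine c.B.rigid (r := F.n * F.g * g) (mul_mem (mul_mem (d.M0_le F.n_mem) (d.M0_le F.g_mem)) hgN)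
      ?_ ?_ (a := -rb) (b := ra) (by linear_combination hab) ?_
    · refine mul_inv_eq_iff_eq_mul.1 ?_
      calc F.n * F.g * g * d.z * (F.n * F.g * (g : G))⁻¹
          = F.n * (F.g * ((g : G) * d.z * (g : G)⁻¹) * F.g⁻¹) * F.n⁻¹ := by group
        _ = d.z := by rw [hzg, ← conj_inv, F.g_x, inv_inv, F.n_x]
    · refine mul_inv_eq_iff_eq_mul.1 ?_
      calc F.n * F.g * g * F.x * (F.n * F.g * (g : G))⁻¹
          = F.n * (F.g * ((g : G) * F.x * (g : G)⁻¹) * F.g⁻¹) * F.n⁻¹ := by group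
        _ = F.x := by rw [hxg, ← conj_inv, F.g_z, inv_inv, F.n_z]
    · have := (hn.mul c.B.lin_g).mul hgl
      rwa [(by decide +kernel : ∀ a b : ZMod 3,
        mmul (mmul (a, b, b, -a) mG) mN = (-b, a, a, - -b)) ra rb] at this

theorem cent_two {g : c.Cy} (h : c.proj g * c.e 2 = c.e 2 * c.proj g) :
    (g : G) ∈ Subgroup.normalizer (d.J : Set G) :=
  normalizes_zx F.toLoc (c.comm_zx h).1 (c.comm_zx h).2

/-- An element conjugating `z` to `w` and a point of `J ∩ Q` to `y`. -/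
theorem exists_h : ∃ h ∈ Subgroup.normalizer (d.J : Set G), h * d.z * h⁻¹ = c.B.E (wv c.ε) ∧
    ∃ v ∈ (d.J ⊓ d.Q : Subgroup G), v ∉ Subgroup.zpowers d.z ∧ h * v * h⁻¹ = c.B.E (yv c.ε) := by
  obtain ⟨r, hr, k, hre⟩ := c.B.translation 1 1
  have hk : k = -c.ε := by
    have h1 : omP c.ε (k, 1, 1, 1) := (c.hOm _).1 (hre ▸ (Cz_x F).conj r)
    revert h1
    have : ∀ ε k : ZMod 3, omP ε (k, 1, 1, 1) → k = -ε := by decide
    exact this _ _
  rw [hk] at hre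
  have hrN : r ∈ Subgroup.normalizer (d.J : Set G) := d.S_le_normalizer (d.Q_le_S hr)
  have hnN := d.M0_le F.n_mem
  obtain ⟨A, hadd, hA⟩ := c.B.exists_acts hrN
  have hz : A (1, 0, 0, 0) = (1, 0, 0, 0) := c.B.E_inj (by
    rw [← hA, c.B.E_z, McL3Loc23.z_mem_center_L d (d.Q_le_L hr), mul_inv_cancel_right])
  have hx : A (0, 1, 0, 0) = (-c.ε, 1, 1, 1) := c.B.E_inj (by rw [← hA, c.B.E_x, hre])
  set u : V4 := (0, 0, 1, 1) with hu
  have huQ : c.B.E u ∈ d.Q := by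
    have e : c.B.E u = c.B.p * c.B.q := by simp [Bas.E, hu, ZMod.val_one]
    rw [e]
    exact mul_mem (F.inv_meet _ c.B.mem.1 c.B.mem.2) (F.inv_meet _ c.B.q_mem.1 c.B.q_mem.2)
  obtain ⟨i, hi⟩ := Subgroup.mem_zpowers_iff.1 (d.comm_Q r hr _ huQ)
  have hAu : A u = (i : ZMod 3) • (1, 0, 0, 0) + u := c.B.E_inj (by
    rw [← hA, c.B.E_add, c.B.E_smul, c.B.E_z, ← zpow_val McL3Frame78.z_cube, hi]; group)
  have hAw : A (wv c.ε) = (-c.ε) • (1, 0, 0, 0) + (-c.ε, 1, 1, 1) + A u := by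
    conv_lhs => rw [show wv c.ε = (-c.ε) • ((1, 0, 0, 0) : V4) + (0, 1, 0, 0) + u by simp [wv, hu],
      hadd, hadd, linear_smul hadd, hz, hx]
  have hi' : (i : ZMod 3) = c.ε := by
    have h1 : omP c.ε (A (wv c.ε)) := (c.hOm _).1 (by
      rw [← hA]; exact ((c.hOm _).2 (gens _ c.hε).2.2.2.2.2.2.2.1).conj r)
    rw [hAw, hAu] at h1
    exact (by decide +kernel : ∀ ε i : ZMod 3, ε ≠ 0 →
      omP ε ((-ε) • ((1, 0, 0, 0) : V4) + (-ε, 1, 1, 1) + (i • ((1, 0, 0, 0) : V4) + (0, 0, 1, 1))) →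
        i = ε) _ _ c.hε h1
  set v' : V4 := (0, c.ε, -c.ε, -c.ε) with hv'
  have hrv : r * c.B.E v' * r⁻¹ = c.B.E (yv c.ε) := by
    rw [hA]
    congr 1
    rw [show v' = c.ε • ((0, 1, 0, 0) : V4) + (-c.ε) • u by simp [hv', hu], hadd, linear_smul hadd,
      linear_smul hadd, hx, hAu, hi', hu]
    exact (by decide +kernel : ∀ ε : ZMod 3, ε ≠ 0 → ε • ((-ε, 1, 1, 1) : V4) +
      (-ε) • (ε • ((1, 0, 0, 0) : V4) + (0, 0, 1, 1)) = yv ε) c.ε c.hε
  refine ⟨r * F.n, mul_mem hrN hnN, ?_, F.n * c.B.E v' * F.n⁻¹, ⟨?_, ?_⟩, ?_, ?_⟩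
  · calc r * F.n * d.z * (r * F.n)⁻¹ = r * (F.n * d.z * F.n⁻¹) * r⁻¹ := by group
      _ = _ := by rw [F.n_z, hre]; rfl
  · exact (Subgroup.mem_normalizer_iff.1 hnN _).1 (c.B.E_mem _)
  · have e : c.B.E v' = F.x ^ c.ε.val * (c.B.p ^ (-c.ε).val * c.B.q ^ (-c.ε).val) := by
      simp [Bas.E, hv']
    rw [e, ← conj_mul, ← conj_pow, F.n_x]
    have h1 := Bas.U0_conj F.n_comm hnN (c.B.pq_mem (-c.ε) (-c.ε))
    exact mul_mem (pow_mem d.z_mem_Q _) (F.inv_meet _ h1.1 h1.2)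
  · intro hmem
    have h1 : c.B.E (yv c.ε) ∈ Subgroup.zpowers (c.B.E (wv c.ε)) := by
      obtain ⟨m, hm⟩ := Subgroup.mem_zpowers_iff.1 hmem
      refine Subgroup.mem_zpowers_iff.2 ⟨m, ?_⟩
      have e1 : c.B.E (wv c.ε) = r * F.n * d.z * (r * F.n)⁻¹ := by
        rw [show r * F.n * d.z * (r * F.n)⁻¹ = r * (F.n * d.z * F.n⁻¹) * r⁻¹ by group, F.n_z, hre]; rfl
      rw [e1, conj_zpow, hm, ← hrv,
        show r * F.n * (F.n * c.B.E v' * F.n⁻¹) * (r * F.n)⁻¹ =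
          r * ((F.n * F.n) * c.B.E v' * (F.n * F.n)⁻¹) * r⁻¹ by group, F.n_sq]
      group
    obtain ⟨m, hm⟩ := Subgroup.mem_zpowers_iff.1 h1
    rw [zpow_val (d.J_exp _ (c.B.E_mem _)), ← c.B.E_smul] at hm
    exact (by decide : ∀ ε a : ZMod 3, ε ≠ 0 → a • wv ε ≠ yv ε) _ _ c.hε (c.B.E_inj hm)
  · rw [← hrv, show r * F.n * (F.n * c.B.E v' * F.n⁻¹) * (r * F.n)⁻¹ =
      r * ((F.n * F.n) * c.B.E v' * (F.n * F.n)⁻¹) * r⁻¹ by group, F.n_sq]
    group

theorem el_one : c.e 0 * c.e 1 * c.e 2 = c.PI (wv c.ε) := by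
  rw [e, e, e, ← c.PI_add, ← c.PI_add, c.PI_eq, pr_add, pr_add, pr_lift, pr_lift, pr_lift,
    (gens _ c.hε).2.2.2.2.2.2.2.2.2.2.2.2.2]
  decide +kernel

theorem cent_sum : Subgroup.centralizer ({c.e 0 * c.e 1 * c.e 2} : Set (c.Cy ⧸ c.Yb)) ≤
    Subgroup.normalizer (Subgroup.closure (Set.range c.e) : Set (c.Cy ⧸ c.Yb)) := by
  intro m hm
  obtain ⟨g, rfl⟩ := QuotientGroup.mk'_surjective c.Yb m
  rw [c.el_one, Subgroup.mem_centralizer_singleton_iff] at hm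
  have hw := c.fix_of_mod (gens _ c.hε).2.2.2.2.2.2.2.1 hm
  obtain ⟨h, hh, hhz, v, hv, hvz, hhv⟩ := c.exists_h
  have key : ∀ y, (g : G) * (h * y * h⁻¹) = h * y * h⁻¹ * g → h⁻¹ * g * h * y = y * (h⁻¹ * g * h) := by
    intro y hy
    calc h⁻¹ * g * h * y = h⁻¹ * ((g : G) * (h * y * h⁻¹)) * h := by group
      _ = _ := by rw [hy]; group
  have h1 := normalizes_of_fix F.toLoc hv hvz (g := h⁻¹ * g * h)
    (key _ (by rw [hhz]; exact hw))
    (key _ (by rw [hhv]; exact Subgroup.mem_centralizer_singleton_iff.1 g.2))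
  refine c.normal_iff.2 ?_
  have := mul_mem (mul_mem hh h1) (inv_mem hh)
  simpa [mul_assoc] using this

theorem pr_act {g : c.Cy} {A : V4 → V4} (hadd : ∀ v w, A (v + w) = A v + A w)
    (hy : A (yv c.ε) = yv c.ε) (hA : c.B.Acts (g : G) A) {G' : V3 → V3}
    (hG : ∀ a b, G' (a + b) = G' a + G' b)
    (h : ∀ i, c.proj g * c.e i * (c.proj g)⁻¹ = c.PI (lift3 (G' (Pi.single i 1)))) (v : V4) :
    pr c.ε (A v) = G' (pr c.ε v) := by
  obtain ⟨k, hk⟩ := pr_span c.ε (lift3 (pr c.ε v)) v (pr_lift _ _) c.hε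
  conv_lhs => rw [hk, hadd, linear_smul hadd, hy, pr_add, pr_yv _ _ c.hε, add_zero]
  have hs : ∀ i, pr c.ε (A (lift3 (Pi.single i 1))) = G' (Pi.single i 1) := fun i => by
    have h1 := h i
    rw [e, c.conj_PI hA, c.PI_eq, pr_lift] at h1
    exact h1
  let φ : V3 →+ V3 := AddMonoidHom.mk' (fun w => pr c.ε (A (lift3 w))) fun a b => by
    rw [lift3_add, hadd, pr_add]
  let ψ : V3 →+ V3 := AddMonoidHom.mk' G' hG
  have key : ∀ (x : ZMod 3) (i : ZMod 3),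
      φ (x • (Pi.single i 1 : V3)) = ψ (x • (Pi.single i 1 : V3)) := by
    intro x i
    rw [show x • (Pi.single i 1 : V3) = x.val • (Pi.single i 1 : V3) by
      funext j; simp [Pi.smul_apply, nsmul_eq_mul, ZMod.natCast_val], map_nsmul, map_nsmul]
    exact congrArg _ (hs i)
  show φ (pr c.ε v) = ψ (pr c.ε v)
  conv_lhs => rw [decomp3 (pr c.ε v), map_add, map_add, key, key, key, ← map_add, ← map_add, ← decomp3]

/-- The element inducing the cyclic shift. -/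
theorem exists_s {h : G} (hh : h ∈ Subgroup.normalizer (d.J : Set G))
    (hhz : h * d.z * h⁻¹ = c.B.E (wv c.ε)) {v : G} (hv : v ∈ (d.J ⊓ d.Q : Subgroup G))
    (hhv : h * v * h⁻¹ = c.B.E (yv c.ε)) :
    ∃ s : c.Cy, (s : G) ∈ Subgroup.normalizer (d.J : Set G) ∧ (s : G) ∉ d.J ∧ (s : G) ^ 3 = 1 ∧
      h⁻¹ * (s : G) * h ∈ d.Q ∧ ∀ i, c.proj s * c.e i * (c.proj s)⁻¹ = c.e (i + 1) := by
  classical
  -- an element of `Q` outside `J` centralizing `v`
  obtain ⟨q, hq, hqJ, hqv⟩ : ∃ q ∈ d.Q, q ∉ d.J ∧ q * v = v * q := by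
    by_contra hcon
    push Not at hcon
    let f : d.Q → Subgroup.zpowers d.z := fun q =>
      ⟨(q : G) * v * (q : G)⁻¹ * v⁻¹, d.comm_Q q q.2 v hv.2⟩
    have hfib : ∀ y, Nat.card {q : d.Q // f q = y} ≤ 27 := fun y => by
      by_cases hne : Nonempty {q : d.Q // f q = y}
      · obtain ⟨⟨r, hr⟩⟩ := hne
        rw [← d.card_meet]
        refine Nat.card_le_card_of_injective
          (fun q : {q : d.Q // f q = y} => (⟨(r : G)⁻¹ * ((q : d.Q) : G), ?_⟩ : (d.J ⊓ d.Q : Subgroup G))) ?_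
        · have hQm := d.Q.mul_mem (d.Q.inv_mem r.2) (q : d.Q).2
          refine ⟨?_, hQm⟩
          by_contra hJm
          refine hcon _ hQm hJm ?_
          have e : ((q : d.Q) : G) * v * ((q : d.Q) : G)⁻¹ * v⁻¹ = (r : G) * v * (r : G)⁻¹ * v⁻¹ :=
            congrArg Subtype.val (q.2.trans hr.symm)
          have e1 : ((q : d.Q) : G) * v * ((q : d.Q) : G)⁻¹ = (r : G) * v * (r : G)⁻¹ :=
            mul_right_cancel e
          calc (r : G)⁻¹ * ((q : d.Q) : G) * v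
              = (r : G)⁻¹ * (((q : d.Q) : G) * v * ((q : d.Q) : G)⁻¹) * ((q : d.Q) : G) := by group
            _ = _ := by rw [e1]; group
        · intro q q' h
          exact Subtype.ext (Subtype.ext (mul_left_cancel (congrArg Subtype.val h)))
      · rw [not_nonempty_iff] at hne
        simp
    haveI := Fintype.ofFinite (Subgroup.zpowers d.z : Subgroup G)
    have hsum : Nat.card d.Q ≤ 81 := by
      rw [← Nat.card_congr (Equiv.sigmaFiberEquiv f), Nat.card_sigma]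
      refine (Finset.sum_le_sum fun y _ => hfib y).trans ?_
      rw [Finset.sum_const, Finset.card_univ, ← Nat.card_eq_fintype_card, Nat.card_zpowers, d.order_z]
      norm_num
    rw [d.card_Q] at hsum
    omega
  set s0 := h * q * h⁻¹ with hs0
  have hs0C : s0 ∈ c.Cy := by
    rw [Subgroup.mem_centralizer_singleton_iff, ← hhv, hs0, conj_mul, conj_mul, hqv]
  have hqN : q ∈ Subgroup.normalizer (d.J : Set G) := d.S_le_normalizer (d.Q_le_S hq)
  have hs0N : s0 ∈ Subgroup.normalizer (d.J : Set G) := mul_mem (mul_mem hh hqN) (inv_mem hh)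
  have hs0J : s0 ∉ d.J := fun hJ => hqJ ((Subgroup.mem_normalizer_iff.1 hh q).2 hJ)
  have hs03 : s0 ^ 3 = 1 := by rw [hs0, conj_pow, d.exp_Q q hq]; group
  have hs0Q : h⁻¹ * s0 * h ∈ d.Q := by rw [hs0]; simpa [mul_assoc] using hq
  set S0 : c.Cy := ⟨s0, hs0C⟩ with hS0
  have hS03 : S0 ^ 3 = 1 := Subtype.ext hs03
  have hN : c.proj S0 ∈ Subgroup.normalizer (Subgroup.closure (Set.range c.e) : Set (c.Cy ⧸ c.Yb)) :=
    c.normal_iff.2 hs0N
  choose π f hπ using fun i => show ∃ (j : ZMod 3) (f : Bool),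
      c.proj S0 * c.e i * (c.proj S0)⁻¹ = c.PI (lift3 (col j f)) by
    obtain ⟨j, hj | hj⟩ := c.mono _ hN i
    · exact ⟨j, false, by rw [hj, e]; simp [col]⟩
    · refine ⟨j, true, ?_⟩
      rw [hj, e, ← c.PI_neg]
      refine congrArg c.PI (neg_eq_of_add_eq_zero_right ?_)
      rw [col, if_pos rfl, ← lift3_add, ← Pi.single_add, add_neg_cancel, Pi.single_zero]
      simp [lift3]
  have hsum : col (π 0) (f 0) + col (π 1) (f 1) + col (π 2) (f 2) = 1 := by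
    have hw : c.proj S0 * c.PI (wv c.ε) * (c.proj S0)⁻¹ = c.PI (wv c.ε) := by
      rw [PI, ← map_inv, ← map_mul, ← map_mul]
      refine congrArg _ (Subtype.ext ?_)
      show s0 * c.B.E (wv c.ε) * s0⁻¹ = c.B.E (wv c.ε)
      rw [← hhz, hs0, conj_inv, conj_mul, conj_mul,
        McL3Loc23.z_mem_center_L d (d.Q_le_L hq), mul_inv_cancel_right]
    rw [← c.el_one, ← conj_mul, ← conj_mul, hπ, hπ, hπ, c.el_one, ← c.PI_add, ← c.PI_add,
      c.PI_eq, pr_add, pr_add, pr_lift, pr_lift, pr_lift, (gens _ c.hε).2.2.2.2.2.2.2.2.2.2.2.2.2] at hw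
    exact hw
  have hf0 : ∀ i, f i = false := by
    have : ∀ (j0 j1 j2 : ZMod 3) (f0 f1 f2 : Bool), col j0 f0 + col j1 f1 + col j2 f2 = 1 →
        f0 = false ∧ f1 = false ∧ f2 = false := by decide +kernel
    obtain ⟨a, b, e⟩ := this _ _ _ _ _ _ hsum
    intro i
    rcases three_val i with rfl | rfl | rfl <;> assumption
  have hπ' : ∀ i, c.proj S0 * c.e i * (c.proj S0)⁻¹ = c.e (π i) := fun i => by
    rw [hπ i, hf0 i]; simp [col, e]
  have hcub : ∀ i, π (π (π i)) = i := by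
    intro i
    have h3 : c.proj S0 ^ 3 = 1 := by rw [← map_pow, hS03, map_one]
    have h4 : c.e (π (π (π i))) = c.e i := by
      rw [← hπ', ← hπ', ← hπ']
      calc c.proj S0 * (c.proj S0 * (c.proj S0 * c.e i * (c.proj S0)⁻¹) * (c.proj S0)⁻¹) * (c.proj S0)⁻¹
          = c.proj S0 ^ 3 * c.e i * (c.proj S0 ^ 3)⁻¹ := by
            simp only [pow_succ, pow_zero, one_mul, mul_inv_rev, mul_assoc]
        _ = c.e i := by rw [h3]; group
    rw [e, e, c.PI_eq, pr_lift, pr_lift] at h4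
    by_contra hne
    have := congrFun h4 (π (π (π i)))
    simp [hne] at this
  rcases (shift_form π f hsum hcub).2 with hid | hp1 | hm1
  · exfalso
    have hmem := c.faith _ (fun i => mul_inv_eq_iff_eq_mul.1 (by rw [hπ' i, hid i]))
    obtain ⟨w, hw⟩ := c.mem_Jb.1 hmem
    obtain ⟨k, hk⟩ := c.proj_eq hw
    refine hs0J ?_
    simp only [hS0] at hk
    rw [hk]
    exact mul_mem (c.B.E_mem _) (c.B.E_mem _)
  · exact ⟨S0, hs0N, hs0J, hs03, hs0Q, fun i => by rw [hπ' i, hp1 i]⟩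
  · refine ⟨S0⁻¹, inv_mem hs0N, fun hJ => hs0J (inv_mem_iff.1 hJ), by
      show s0⁻¹ ^ 3 = 1
      rw [inv_pow, hs03, inv_one], ?_, fun i => ?_⟩
    · show h⁻¹ * s0⁻¹ * h ∈ d.Q
      have := inv_mem hs0Q
      simpa [mul_assoc] using this
    · have h1 := hπ' (i + 1)
      rw [hm1, add_sub_cancel_right] at h1
      rw [map_inv, inv_inv, ← h1]
      group

theorem card_Jb : Nat.card (Subgroup.closure (Set.range c.e)) = 27 := by
  let f : V3 → Subgroup.closure (Set.range c.e) := fun w => ⟨c.PI (lift3 w), c.mem_Jb.2 ⟨_, rfl⟩⟩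
  have hf : Function.Bijective f := by
    refine ⟨fun a b h => ?_, fun x => ?_⟩
    · have := c.PI_eq.1 (congrArg Subtype.val h)
      rwa [pr_lift, pr_lift] at this
    · obtain ⟨v, hv⟩ := c.mem_Jb.1 x.2
      exact ⟨pr c.ε v, Subtype.ext ((c.PI_lift v).symm.trans hv)⟩
  rw [← Nat.card_congr (Equiv.ofBijective f hf)]
  simp

theorem e_cube (i : ZMod 3) : c.e i ^ 3 = 1 := by
  rw [e, PI, ← map_pow]
  refine (congrArg _ (Subtype.ext ?_ : _ = (1 : c.Cy))).trans (map_one _)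
  exact d.J_exp _ (c.B.E_mem _)

theorem exists_sylow (s : c.Cy) (hsN : (s : G) ∈ Subgroup.normalizer (d.J : Set G))
    (hsJ : (s : G) ∉ d.J) (hs3 : (s : G) ^ 3 = 1) :
    ∃ P : Sylow 3 (c.Cy ⧸ c.Yb), Nat.card (P : Subgroup (c.Cy ⧸ c.Yb)) = 81 ∧
      (∀ v, c.PI v ∈ (P : Subgroup (c.Cy ⧸ c.Yb))) ∧ c.proj s ∈ (P : Subgroup (c.Cy ⧸ c.Yb)) ∧
      ∀ u ∈ (P : Subgroup (c.Cy ⧸ c.Yb)), ∃ (v : V4) (n : ℕ), u = c.PI v * c.proj s ^ n := by
  haveI : Fact (Nat.Prime 3) := ⟨Nat.prime_three⟩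
  set T : Subgroup G := d.J ⊔ Subgroup.zpowers (s : G) with hT
  have hs' : Subgroup.zpowers (s : G) ≤ Subgroup.normalizer (d.J : Set G) := Subgroup.zpowers_le.2 hsN
  have hT3 : IsPGroup 3 T := by
    have hz : IsPGroup 3 (Subgroup.zpowers (s : G)) := IsPGroup.of_card (n := 1) (by
      rw [Nat.card_zpowers, orderOf_eq_prime hs3 fun e => hsJ (e ▸ one_mem _), pow_one])
    exact d.J_group.to_sup_of_normal_left' hz hs'
  have hTC : T ≤ c.Cy := sup_le c.J_le_Cy (Subgroup.zpowers_le.2 s.2)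
  obtain ⟨R, hR⟩ := (hT3.comap_subtype : IsPGroup 3 (T.subgroupOf c.Cy)).exists_le_sylow
  have hlow : 243 ≤ Nat.card T := by
    obtain ⟨n, hn⟩ := IsPGroup.iff_card.1 hT3
    have hlt : 3 ^ 4 < 3 ^ n := by
      rw [← hn, show (3 : ℕ) ^ 4 = 81 by norm_num, ← d.card_J]
      exact lt_of_le_of_ne (Subgroup.card_le_of_le le_sup_left) fun e => hsJ
        ((Subgroup.eq_of_le_of_card_ge (le_sup_left : d.J ≤ T) e.ge).symm ▸
          Subgroup.mem_sup_right (Subgroup.mem_zpowers _))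
    rw [hn, show (243 : ℕ) = 3 ^ 5 by norm_num]
    exact Nat.pow_le_pow_right (by norm_num) ((Nat.pow_lt_pow_iff_right (by norm_num : 1 < 3)).1 hlt)
  set R' := (R : Subgroup c.Cy).map c.Cy.subtype with hR'
  have hR'3 : IsPGroup 3 R' := R.2.map _
  have hcR : Nat.card R' = Nat.card (R : Subgroup c.Cy) :=
    Subgroup.card_map_of_injective c.Cy.subtype_injective
  obtain ⟨P0, hP0⟩ := hR'3.exists_le_sylow
  have hle729 : Nat.card R' ≤ 729 := by
    refine (Subgroup.card_le_of_le hP0).trans_eq ?_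
    rw [P0.card_eq_multiplicity, ← d.S.card_eq_multiplicity, d.card_S]
  have hTR : T ≤ R' := fun t ht => ⟨⟨t, hTC ht⟩, hR (Subgroup.mem_subgroupOf.2 ht), rfl⟩
  have hne729 : Nat.card R' ≠ 729 := by
    intro he
    have hPR : R' = (P0 : Subgroup G) := Subgroup.eq_of_le_of_card_ge hP0 (by
      rw [he, P0.card_eq_multiplicity, ← d.S.card_eq_multiplicity, d.card_S])
    obtain ⟨g, hg⟩ := MulAction.exists_smul_eq G P0 d.S
    have hyc : g * c.B.E (yv c.ε) * g⁻¹ ∈ Subgroup.zpowers d.z := by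
      rw [d.center_S]
      refine ⟨?_, ?_⟩
      · rw [← hg, Sylow.coe_subgroup_smul]
        exact ⟨_, hPR ▸ hTR (Subgroup.mem_sup_left (c.B.E_mem _)), rfl⟩
      · intro a ha
        rw [SetLike.mem_coe, ← hg, Sylow.coe_subgroup_smul] at ha
        obtain ⟨b, hb, rfl⟩ := ha
        rw [← hPR] at hb
        obtain ⟨b', -, rfl⟩ := hb
        show g * (b' : G) * g⁻¹ * (g * c.B.E (yv c.ε) * g⁻¹) =
          g * c.B.E (yv c.ε) * g⁻¹ * (g * (b' : G) * g⁻¹)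
        rw [conj_mul, conj_mul, Subgroup.mem_centralizer_singleton_iff.1 b'.2]
    have hCz : Cz d (c.B.E (yv c.ε)) := by
      rcases McL3Frame78.zp_cases McL3Frame78.z_cube hyc with e | e | e
      · rw [conj_eq_one_iff, ← c.B.E_zero] at e
        exact absurd (congrArg Prod.fst (c.B.E_inj e)) (one_ne_zero (α := ZMod 3))
      · exact Or.inl (isConj_iff.2 ⟨g⁻¹, by rw [← e]; group⟩)
      · exact Or.inr (isConj_iff.2 ⟨g⁻¹, by rw [← e]; group⟩)
    exact (gens _ c.hε).2.2.2.2.2.2.2.2.2.1 ((c.hOm _).1 hCz)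
  have hcard : Nat.card R' = 243 := by
    obtain ⟨n, hn⟩ := IsPGroup.iff_card.1 hR'3
    have h1 : 243 ≤ Nat.card R' := hlow.trans (Subgroup.card_le_of_le hTR)
    have hn5 : 5 ≤ n := by
      rw [hn, show (243 : ℕ) = 3 ^ 5 by norm_num] at h1
      exact (Nat.pow_le_pow_iff_right (by norm_num)).1 h1
    have hn6 : n ≤ 6 := by
      rw [hn, show (729 : ℕ) = 3 ^ 6 by norm_num] at hle729
      exact (Nat.pow_le_pow_iff_right (by norm_num)).1 hle729
    interval_cases n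
    · simpa using hn
    · exact absurd (by simpa using hn) hne729
  have hTeq : T = R' := Subgroup.eq_of_le_of_card_ge hTR (hcard ▸ hlow)
  refine ⟨R.mapSurjective (f := c.proj) (QuotientGroup.mk'_surjective _), ?_, fun v => ?_, ?_,
    fun u hu => ?_⟩
  · show Nat.card ((R : Subgroup c.Cy).map c.proj) = 81
    have hker : c.proj.ker ≤ (R : Subgroup c.Cy) := by
      rw [QuotientGroup.ker_mk']
      intro a ha
      refine hR (Subgroup.mem_subgroupOf.2 (Subgroup.mem_sup_left ?_))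
      exact (Subgroup.zpowers_le.2 (c.B.E_mem _)) (Subgroup.mem_subgroupOf.1 ha)
    have h1 := ((R : Subgroup c.Cy).map c.proj).card_mul_index
    rw [Subgroup.index_map_eq _ (QuotientGroup.mk'_surjective _) hker] at h1
    have h2 := (R : Subgroup c.Cy).card_mul_index
    rw [← hcR, hcard, Subgroup.card_eq_card_quotient_mul_card_subgroup c.Yb, ← h1] at h2
    have hY : Nat.card c.Yb = 3 := by
      rw [Nat.card_congr (Subgroup.subgroupOfEquivOfLe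
        (Subgroup.zpowers_le.2 (c.J_le_Cy (c.B.E_mem (yv c.ε))))).toEquiv, Nat.card_zpowers]
      refine orderOf_eq_prime (d.J_exp _ (c.B.E_mem _)) fun e => ?_
      rw [← c.B.E_zero] at e
      exact absurd (congrArg Prod.fst (c.B.E_inj e)) (one_ne_zero (α := ZMod 3))
    rw [hY] at h2
    have hpos : 0 < (R : Subgroup c.Cy).index := Nat.pos_of_ne_zero Subgroup.index_ne_zero_of_finite
    nlinarith
  · exact ⟨_, hR (Subgroup.mem_subgroupOf.2 (Subgroup.mem_sup_left (c.B.E_mem v))), rfl⟩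
  · exact ⟨s, hR (Subgroup.mem_subgroupOf.2 (Subgroup.mem_sup_right (Subgroup.mem_zpowers _))), rfl⟩
  · obtain ⟨a, ha, rfl⟩ := hu
    have haT : (a : G) ∈ ((T : Subgroup G) : Set G) := hTeq.symm ▸ ⟨a, ha, rfl⟩
    rw [hT, sup_comm, Subgroup.coe_mul_of_left_le_normalizer_right _ _ hs'] at haT
    obtain ⟨b, hb, j, hj, hab⟩ := haT
    obtain ⟨n, rfl⟩ := Submonoid.mem_powers_iff _ _ |>.1
      ((isOfFinOrder_of_finite (s : G)).mem_powers_iff_mem_zpowers.2 hb)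
    obtain ⟨w, hw⟩ := c.B.exists_E ((Subgroup.mem_normalizer_iff.1 (pow_mem hsN n) j).1 hj)
    refine ⟨w, n, ?_⟩
    rw [PI, ← map_pow, ← map_mul]
    refine congrArg _ (Subtype.ext ?_)
    show (a : G) = c.B.E w * (s : G) ^ n
    rw [hw, ← hab]
    group

theorem lift3_sh (i : ZMod 3) : sh 1 (Pi.single i 1) = (Pi.single (i + 1) 1 : V3) := by
  funext j
  simp only [sh, Pi.single_apply, sub_eq_iff_eq_add]

theorem no_fuse {h v : G} (hh : h ∈ Subgroup.normalizer (d.J : Set G))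
    (hhz : h * d.z * h⁻¹ = c.B.E (wv c.ε)) (hv : v ∈ (d.J ⊓ d.Q : Subgroup G))
    (hhv : h * v * h⁻¹ = c.B.E (yv c.ε)) (s : c.Cy) (hsN : (s : G) ∈ Subgroup.normalizer (d.J : Set G))
    (hsJ : (s : G) ∉ d.J) (hs3 : (s : G) ^ 3 = 1) (hsQ : h⁻¹ * (s : G) * h ∈ d.Q)
    (hs : ∀ i, c.proj s * c.e i * (c.proj s)⁻¹ = c.e (i + 1)) (w : V4) (n : ℕ)
    (hu : c.PI w * c.proj s ^ n ∉ Subgroup.closure (Set.range c.e))
    (hu3 : (c.PI w * c.proj s ^ n) ^ 3 = 1) (b : V4) (hb : omP c.ε b) :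
    ¬ IsConj (c.PI w * c.proj s ^ n) (c.PI b) := by
  obtain ⟨A, hadd, hA, hy, -, -⟩ := c.exists_act hsN
  have hpr : ∀ v, pr c.ε (A v) = sh 1 (pr c.ε v) :=
    c.pr_act hadd hy hA (sh_add 1) fun i => by rw [hs, lift3_sh]; rfl
  have hs3' : c.proj s ^ 3 = 1 := by
    rw [← map_pow, show s ^ 3 = 1 from Subtype.ext hs3, map_one]
  have hn : c.proj s ^ n = c.proj s ^ (n % 3) := pow_eq_pow_mod n hs3'
  rw [hn] at hu hu3 ⊢
  obtain ⟨m, hm, rfl⟩ : ∃ m, (m = 1 ∨ m = 2) ∧ n % 3 = m := by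
    refine ⟨n % 3, ?_, rfl⟩
    have : n % 3 ≠ 0 := fun e => hu (by rw [e, pow_zero, mul_one]; exact c.mem_Jb.2 ⟨w, rfl⟩)
    omega
  obtain ⟨g, K, hgN, hgJ, hgQ, hK, hgp, hg3⟩ : ∃ (g : c.Cy) (K : ZMod 3),
      (g : G) ∈ Subgroup.normalizer (d.J : Set G) ∧ (g : G) ∉ d.J ∧ h⁻¹ * (g : G) * h ∈ d.Q ∧
      K ≠ 0 ∧ c.proj g = c.proj s ^ (n % 3) ∧
      ∀ v, c.proj g * c.PI v * (c.proj g)⁻¹ = c.PI (lift3 (sh K (pr c.ε v))) := by
    rcases hm with e | e <;> rw [e]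
    · refine ⟨s, 1, hsN, hsJ, hsQ, by decide, (pow_one _).symm, fun v => ?_⟩
      rw [c.conj_PI hA, c.PI_eq, pr_lift, hpr]
    · refine ⟨s ^ 2, 2, pow_mem hsN 2, fun hJ => hsJ ?_, ?_, by decide, map_pow _ _ _, fun v => ?_⟩
      · have h4 := mul_mem hJ hJ
        rw [SubmonoidClass.coe_pow, ← pow_add, show 2 + 2 = 3 + 1 from rfl, pow_add, hs3, one_mul,
          pow_one] at h4
        exact h4
      · rw [SubmonoidClass.coe_pow]
        have := mul_mem hsQ hsQ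
        rw [show h⁻¹ * (s : G) * h * (h⁻¹ * s * h) = h⁻¹ * (s : G) ^ 2 * h by rw [pow_two]; group] at this
        exact this
      · rw [map_pow, pow_two, show c.proj s * c.proj s * c.PI v * (c.proj s * c.proj s)⁻¹ =
          c.proj s * (c.proj s * c.PI v * (c.proj s)⁻¹) * (c.proj s)⁻¹ by group, c.conj_PI hA,
          c.conj_PI hA, c.PI_eq, pr_lift, hpr, hpr, sh_sh]
        rfl
  rw [← hgp] at hu3 ⊢
  set D := pr c.ε w with hD
  have hD0 : D + sh K D + sh K (sh K D) = 0 := by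
    have hg3' : c.proj g ^ 3 = 1 := by
      rw [hgp, ← pow_mul, mul_comm, pow_mul, hs3', one_pow]
    have e : (c.PI w * c.proj g) ^ 3 = c.PI w * (c.proj g * c.PI w * (c.proj g)⁻¹) *
        (c.proj g * (c.proj g * c.PI w * (c.proj g)⁻¹) * (c.proj g)⁻¹) * c.proj g ^ 3 := by
      simp [pow_succ, mul_assoc]
    rw [e, hg3 w, hg3, hg3', mul_one, ← c.PI_add, ← c.PI_add, ← c.PI_zero, c.PI_eq] at hu3
    simp only [pr_add, pr_lift] at hu3
    rw [hu3]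
    funext j
    simp [pr]
  obtain ⟨a, ha⟩ := shift_solve K D hD0 hK
  have hconj : IsConj (c.proj g) (c.PI w * c.proj g) := by
    refine isConj_iff.2 ⟨c.PI (lift3 a), ?_⟩
    calc c.PI (lift3 a) * c.proj g * (c.PI (lift3 a))⁻¹
        = c.PI (lift3 a) * (c.proj g * c.PI (-lift3 a) * (c.proj g)⁻¹) * c.proj g := by
          rw [c.PI_neg]; group
      _ = c.PI w * c.proj g := by
          rw [hg3, ← c.PI_add]
          congr 1
          rw [c.PI_eq, pr_add, pr_lift, pr_lift, ← hD, ← ha, sub_eq_add_neg]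
          congr 1
          have : pr c.ε (-lift3 a) = -a := by
            rw [eq_neg_iff_add_eq_zero]
            nth_rw 2 [← pr_lift c.ε a]
            rw [← pr_add, neg_add_cancel]
            funext j; simp [pr]
          rw [this]
          funext j; simp [sh]
  intro hc
  obtain ⟨m', hm'⟩ := isConj_iff.1 (hconj.trans hc)
  obtain ⟨m, rfl⟩ := QuotientGroup.mk'_surjective c.Yb m'
  rw [← map_inv, ← map_mul, ← map_mul] at hm'
  obtain ⟨k, hk⟩ := c.proj_eq hm'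
  simp only [Subgroup.coe_mul, Subgroup.coe_inv] at hk
  set u0 : G := (g : G) * c.B.E (k • yv c.ε) with hu0
  have hu0b : (m : G) * u0 * (m : G)⁻¹ = c.B.E b := by
    have hcomm : (m : G) * c.B.E (k • yv c.ε) * (m : G)⁻¹ = c.B.E (k • yv c.ε) := by
      rw [c.B.E_smul, ((show Commute (m : G) _ from
        Subgroup.mem_centralizer_singleton_iff.1 m.2).pow_right k.val).eq, mul_inv_cancel_right]
    rw [hu0, ← conj_mul, hcomm, ← hk]
  set v0 := h⁻¹ * u0 * h with hv0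
  have hv0Q : v0 ∈ d.Q := by
    have e : v0 = (h⁻¹ * (g : G) * h) * (h⁻¹ * c.B.E (k • yv c.ε) * h) := by rw [hv0, hu0]; group
    rw [e, c.B.E_smul, ← hhv, conj_pow]
    refine mul_mem hgQ ?_
    have := pow_mem hv.2 k.val
    simpa [mul_assoc] using this
  have hv0z : v0 ∉ Subgroup.zpowers d.z := by
    intro hz
    have h1 : u0 ∈ d.J := by
      have h2 := (Subgroup.mem_normalizer_iff.1 hh v0).1
        ((Subgroup.zpowers_le.2 d.z_mem_J : Subgroup.zpowers d.z ≤ d.J) hz)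
      rw [hv0] at h2
      simpa [mul_assoc] using h2
    exact hgJ ((Subgroup.mul_mem_cancel_right _ (c.B.E_mem _)).1 h1)
  obtain ⟨hn1, hn2⟩ := not_z_in_Q F.toLoc hv0Q hv0z
  have hCz : Cz d v0 := by
    have h1 := ((c.hOm b).2 hb).conj ((m : G) * h)⁻¹
    convert h1 using 1
    rw [← hu0b, hv0]
    group
  exact hCz.elim hn1 hn2

theorem t_mem : F.t ∈ c.Cy := by
  refine Subgroup.mem_centralizer_singleton_iff.2 ?_
  have htz : F.t * d.z = d.z * F.t := McL3Frame78.tz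
  have htx : F.t * F.x = F.x * F.t := McL3Frame78.tx
  have e : c.B.E (yv c.ε) = d.z * F.x ^ c.ε.val := by simp [Bas.E, yv, ZMod.val_one]
  rw [e]
  exact ((show Commute F.t d.z from htz).mul_right ((show Commute F.t F.x from htx).pow_right _)).eq

theorem conj_t (i : ZMod 3) :
    c.proj ⟨F.t, c.t_mem⟩ * c.e i * (c.proj ⟨F.t, c.t_mem⟩)⁻¹ = if i = 2 then c.e i else (c.e i)⁻¹ := by
  have hA : c.B.Acts ((⟨F.t, c.t_mem⟩ : c.Cy) : G) fun v => (v.1, v.2.1, -v.2.2.1, -v.2.2.2) := by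
    intro v
    show F.t * c.B.E v * F.t⁻¹ = _
    rw [← F.g_sq, show F.g * F.g * c.B.E v * (F.g * F.g)⁻¹ = F.g * (F.g * c.B.E v * F.g⁻¹) * F.g⁻¹ by group,
      c.B.acts_g, c.B.acts_g]
    simp
  rw [e, c.conj_PI hA]
  split_ifs with h
  · subst h
    refine c.PI_eq.2 ?_
    congr 1
  · rw [← c.PI_neg]
    refine c.PI_eq.2 (congrArg _ ?_)
    exact (by decide +kernel : ∀ i : ZMod 3, i ≠ 2 →
      (((lift3 (Pi.single i 1)).1, (lift3 (Pi.single i 1)).2.1, -(lift3 (Pi.single i 1)).2.2.1,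
        -(lift3 (Pi.single i 1)).2.2.2) : V4) = -lift3 (Pi.single i 1)) i h

/-- The configuration in the quotient. -/
theorem exists_cfg : ∃ k : Cfg (c.Cy ⧸ c.Yb), k.e = c.e := by
  obtain ⟨h, hh, hhz, v, hv, hvz, hhv⟩ := c.exists_h
  obtain ⟨s, hsN, hsJ, hs3, hsQ, hs⟩ := c.exists_s hh hhz hv hhv
  obtain ⟨P, hP, hPJ, hsP, hPrep⟩ := c.exists_sylow s hsN hsJ hs3
  set S := c.proj s with hS
  set tt := c.proj ⟨F.t, c.t_mem⟩ with htt
  have hS3 : S ^ 3 = 1 := by rw [hS, ← map_pow, show s ^ 3 = 1 from Subtype.ext hs3, map_one]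
  have ht2 : tt * tt = 1 := by
    rw [htt, ← map_mul]
    exact (congrArg _ (Subtype.ext (Frame_tt F.toLoc) : _ = (1 : c.Cy))).trans (map_one _)
  have hSn : ∀ (n : ℕ) (i : ZMod 3), S ^ n * c.e i * (S ^ n)⁻¹ = c.e (i + n) := by
    intro n
    induction n with
    | zero => intro i; simp
    | succ n ih =>
      intro i
      rw [pow_succ', Nat.cast_succ, ← add_assoc, show S * S ^ n * c.e i * (S * S ^ n)⁻¹ =
        S * (S ^ n * c.e i * (S ^ n)⁻¹) * S⁻¹ by group, ih, hs]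
  let vv : ZMod 3 → c.Cy ⧸ c.Yb := fun i => S ^ (i + 1).val * tt * (S ^ (i + 1).val)⁻¹
  have hvv : ∀ i j, vv i * c.e j * (vv i)⁻¹ = if j = i then c.e j else (c.e j)⁻¹ := by
    intro i j
    set n := (i + 1).val with hn
    have hn' : (n : ZMod 3) = i + 1 := by rw [hn, ZMod.natCast_val, ZMod.cast_id]
    have e1 : (S ^ n)⁻¹ * c.e j * S ^ n = c.e (j - (i + 1)) := by
      have h1 := hSn n (j - (i + 1))
      rw [hn', sub_add_cancel] at h1
      rw [← h1]; group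
    have e2 : vv i * c.e j * (vv i)⁻¹ = S ^ n * (tt * ((S ^ n)⁻¹ * c.e j * S ^ n) * tt⁻¹) * (S ^ n)⁻¹ := by
      simp only [vv, ← hn]; group
    rw [e2, e1, htt, c.conj_t]
    have hiff : j - (i + 1) = 2 ↔ j = i := (by decide : ∀ i j : ZMod 3, j - (i + 1) = 2 ↔ j = i) i j
    by_cases hji : j = i
    · rw [if_pos (hiff.2 hji), if_pos hji, hSn, hn', sub_add_cancel]
    · rw [if_neg (mt hiff.1 hji), if_neg hji, ← conj_inv, hSn, hn', sub_add_cancel]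
  refine ⟨{
    P := P
    e := c.e
    s := S
    v := vv
    card_P := hP
    e_comm := fun i j => c.PI_comm _ _
    e_cube := c.e_cube
    e_mem := fun i => hPJ _
    card_J := c.card_Jb
    s_mem := hsP
    s_cube := hS3
    s_notMem := fun hmem => by
      obtain ⟨w, hw⟩ := c.mem_Jb.1 hmem
      obtain ⟨k, hk⟩ := c.proj_eq hw
      exact hsJ (by rw [hk]; exact mul_mem (c.B.E_mem _) (c.B.E_mem _))
    s_conj := hs
    v_sq := fun i => by simp only [vv]; rw [conj_mul, ht2]; group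
    v_fix := fun i => by rw [hvv, if_pos rfl]
    v_inv := fun i j hji => by rw [hvv, if_neg hji]
    mono := c.mono
    faith := c.faith
    noneg := c.noneg
    noswap := c.noswap
    cent_e := fun i => ?_
    cent_sum := c.cent_sum
    no_fuse := fun u hu huJ hu3 => ?_ }, rfl⟩
  · intro m hm
    set n := (i - 2).val with hn
    have hn' : (n : ZMod 3) = i - 2 := by rw [hn, ZMod.natCast_val, ZMod.cast_id]
    have hSnN : S ^ n ∈ Subgroup.normalizer (Subgroup.closure (Set.range c.e) : Set (c.Cy ⧸ c.Yb)) :=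
      pow_mem (c.normal_iff.2 hsN) n
    have hei : c.e i = S ^ n * c.e 2 * (S ^ n)⁻¹ := by rw [hSn, hn', add_sub_cancel]
    have h2 : ((S ^ n)⁻¹ * m * S ^ n) * c.e 2 = c.e 2 * ((S ^ n)⁻¹ * m * S ^ n) := by
      have h1 := Subgroup.mem_centralizer_singleton_iff.1 hm
      rw [hei] at h1
      calc (S ^ n)⁻¹ * m * S ^ n * c.e 2
          = (S ^ n)⁻¹ * (m * (S ^ n * c.e 2 * (S ^ n)⁻¹)) * S ^ n := by group
        _ = _ := by rw [h1]; group
    obtain ⟨g, hg⟩ := QuotientGroup.mk'_surjective c.Yb ((S ^ n)⁻¹ * m * S ^ n)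
    rw [← hg] at h2
    have h3 := mul_mem (mul_mem hSnN (c.normal_iff.2 (c.cent_two h2))) (inv_mem hSnN)
    rw [hg] at h3
    simpa [mul_assoc] using h3
  · obtain ⟨w, n, rfl⟩ := hPrep u hu
    rw [c.el_one, ← c.PI_neg]
    exact ⟨c.no_fuse hh hhz hv hhv s hsN hsJ hs3 hsQ hs w n huJ hu3 _ (gens _ c.hε).2.2.2.2.2.2.2.1,
      c.no_fuse hh hhz hv hhv s hsN hsJ hs3 hsQ hs w n huJ hu3 _ (gens _ c.hε).2.2.2.2.2.2.2.2.1⟩

theorem cent_le : c.Cy ≤ Subgroup.normalizer (d.J : Set G) := by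
  intro g hg
  obtain ⟨k, hk⟩ := c.exists_cfg
  letI := Fintype.ofFinite (c.Cy ⧸ c.Yb)
  have h : c.proj ⟨g, hg⟩ ∈ k.N := by rw [k.top]; trivial
  have h' : c.proj ⟨g, hg⟩ ∈
      Subgroup.normalizer (Subgroup.closure (Set.range c.e) : Set (c.Cy ⧸ c.Yb)) := by
    rw [← hk]; exact h
  exact c.normal_iff.1 h'

end Ctx

end Cfsg.Agent.McL3Weak77

namespace Cfsg.Agent.McL3x39

open Cfsg.Agent.McL3Weak77

variable {G : Type*} [Group G] [Finite G] {d : Data G}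

/-- The centralizers of the elements of `⟨z, x⟩` outside `⟨z⟩` and `⟨x⟩` lie in `N(J)`. -/
theorem ylocal (F : Frame d) : YLocal F := by
  intro a haD haZ haX
  obtain ⟨B0, -⟩ := exists_bas F (one_ne_zero (α := ZMod 3))
  have haJ : a ∈ d.J := D_le F haD
  obtain ⟨⟨i, j, k, l⟩, rfl⟩ := B0.exists_E haJ
  have hkl : k = 0 ∧ l = 0 := by
    have hsplit : B0.E (i, j, k, l) = d.z ^ i.val * F.x ^ j.val * (B0.p ^ k.val * B0.q ^ l.val) := rfl
    rw [hsplit] at haD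
    have hu : B0.p ^ k.val * B0.q ^ l.val ∈ Subgroup.closure ({d.z, F.x} : Set G) :=
      (Subgroup.mul_mem_cancel_left _ (mul_mem (pow_mem (z_mem_D F) _) (pow_mem (x_mem_D F) _))).1 haD
    exact B0.pq_indep (Bas.U0_D (B0.pq_mem k l) hu)
  obtain ⟨rfl, rfl⟩ := hkl
  have hi : i ≠ 0 := fun h => haX (by
    have e : B0.E (i, j, 0, 0) = F.x ^ j.val := by simp [Bas.E, h]
    rw [e]; exact pow_mem (Subgroup.mem_zpowers _) _)
  have hj : j ≠ 0 := fun h => haZ (by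
    have e : B0.E (i, j, 0, 0) = d.z ^ i.val := by simp [Bas.E, h]
    rw [e]; exact pow_mem (Subgroup.mem_zpowers _) _)
  obtain ⟨B, hB⟩ := exists_bas F (mul_ne_zero hi hj)
  set c : Ctx F := ⟨B, i * j, mul_ne_zero hi hj, hB⟩ with hc
  have hy : B.E (yv (i * j)) = B0.E (i, j, 0, 0) ^ i.val := by
    rw [← B0.E_smul]
    have e : i • ((i, j, 0, 0) : V4) = (1, i * j, 0, 0) := by
      simp [(by decide : ∀ a : ZMod 3, a ≠ 0 → a * a = 1) i hi]
    rw [e]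
    simp [yv, Bas.E]
  intro g hg
  refine c.cent_le ?_
  refine Subgroup.mem_centralizer_singleton_iff.2 ?_
  show g * B.E (yv (i * j)) = B.E (yv (i * j)) * g
  rw [hy]
  exact ((show Commute g _ from Subgroup.mem_centralizer_singleton_iff.1 hg).pow_right _).eq

end Cfsg.Agent.McL3x39
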