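import Cfsg.Agent.S5168
import Cfsg.Agent.Lib.LeechCertOrders

/-!
The 2-fusion system of the McLaughlin group: a Sylow 2-subgroup lies in the Mathieu subgroup fixing two
coordinates, and has no non-trivial automorphism of odd order.
-/

set_option autoImplicit false
set_option maxRecDepth 100000

namespace Cfsg.Agent.McLFusion95

open Cfsg Cfsg.Agent.GolayBasic Cfsg.Agent.GolayPerm Cfsg.Agent.SylowCertCodes Cfsg.Agent.SylowCert
  Cfsg.Agent.FusionSimpleCrit Cfsg.Agent.LeechAut

/-! ### an automorphism of odd order fixing two independent cosets of the Frattini subgroup -/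

theorem odd_aut_trivial {Γ : Type*} [Group Γ] [Finite Γ] (hΓ : IsPGroup 2 Γ) (F : Subgroup Γ)
    (hsq : ∀ x : Γ, x * x ∈ F) (hFM : ∀ M : Subgroup Γ, M.index = 2 → F ≤ M)
    {a b c : Γ} (hcov : ∀ x : Γ, ∃ h, (h = 1 ∨ h = b ∨ h = c ∨ h = b * c) ∧ (h⁻¹ * x ∈ F ∨ (a * h)⁻¹ * x ∈ F))
    (hout : ∀ h, (h = 1 ∨ h = b ∨ h = c ∨ h = b * c) → h⁻¹ * a ∉ F)
    (α : Γ ≃* Γ) (hαF : ∀ x, x ∈ F ↔ α x ∈ F) (hb : b⁻¹ * α b ∈ F) (hc : c⁻¹ * α c ∈ F)
    {q n : ℕ} [hq : Fact q.Prime] (hq2 : q ≠ 2) (hαq : ∀ x, α^[q ^ n] x = x) : ∀ x, α x = x := by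
  classical
  have hFn : ∀ g x : Γ, x ∈ F → g * x * g⁻¹ ∈ F := fun g x hx => by
    have h : g * x * g⁻¹ = (g * x) * (g * x) * (x⁻¹ * (g⁻¹ * g⁻¹)) := by group
    rw [h]
    exact F.mul_mem (hsq _) (F.mul_mem (F.inv_mem hx) (by
      have := hsq g⁻¹
      exact this))
  -- the elements moved inside their coset form a subgroup
  have hclosed : ∀ (β : Γ → Γ), (∀ x y, β (x * y) = β x * β y) → ∀ x y, x⁻¹ * β x ∈ F → y⁻¹ * β y ∈ F →
      (x * y)⁻¹ * β (x * y) ∈ F := fun β hβ x y hx hy => by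
    have h : (x * y)⁻¹ * β (x * y) = (y⁻¹ * (x⁻¹ * β x) * y⁻¹⁻¹) * (y⁻¹ * β y) := by rw [hβ]; group
    rw [h]
    exact F.mul_mem (hFn _ _ hx) hy
  have hFfix : ∀ x ∈ F, x⁻¹ * α x ∈ F := fun x hx => F.mul_mem (F.inv_mem hx) ((hαF x).1 hx)
  have hh : ∀ h, (h = 1 ∨ h = b ∨ h = c ∨ h = b * c) → h⁻¹ * α h ∈ F := by
    rintro h (rfl | rfl | rfl | rfl)
    · simp
    · exact hb
    · exact hc
    · exact hclosed α (map_mul α) b c hb hc
  -- the square fixes the third generator
  have hα2 : a⁻¹ * α (α a) ∈ F := by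
    obtain ⟨h, hh', hw | hw⟩ := hcov (α a)
    · exfalso
      have h1 : (α h)⁻¹ * α a ∈ F := by
        have h2 : (α h)⁻¹ * α a = (h⁻¹ * α h)⁻¹ * (h⁻¹ * α a) := by group
        rw [h2]
        exact F.mul_mem (F.inv_mem (hh h hh')) hw
      rw [← map_inv, ← map_mul, ← hαF] at h1
      exact hout h hh' h1
    · set φ := (a * h)⁻¹ * α a with hφ
      have e1 : α a = a * h * φ := by rw [hφ, mul_inv_cancel_left]
      have e2 : a⁻¹ * α (α a) = (h * φ * h) * (h⁻¹ * α h) * α φ := by
        rw [e1, map_mul, map_mul, e1]; group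
      rw [e2]
      have e3 : h * φ * h = (h * φ * h⁻¹) * (h * h) := by group
      exact F.mul_mem (F.mul_mem (e3 ▸ F.mul_mem (hFn _ _ hw) (hsq h)) (hh h hh')) ((hαF φ).1 hw)
  have h2all : ∀ x, x⁻¹ * α (α x) ∈ F := by
    have hm : ∀ x y, α (α (x * y)) = α (α x) * α (α y) := fun x y => by rw [map_mul, map_mul]
    have h2F : ∀ x ∈ F, x⁻¹ * α (α x) ∈ F := fun x hx =>
      F.mul_mem (F.inv_mem hx) ((hαF _).1 ((hαF x).1 hx))
    have h2h : ∀ h, (h = 1 ∨ h = b ∨ h = c ∨ h = b * c) → h⁻¹ * α (α h) ∈ F := fun h hh' => by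
      have e : h⁻¹ * α (α h) = (h⁻¹ * α h) * α (h⁻¹ * α h) := by rw [map_mul, map_inv]; group
      rw [e]
      exact F.mul_mem (hh h hh') ((hαF _).1 (hh h hh'))
    intro x
    obtain ⟨h, hh', hx | hx⟩ := hcov x
    · have := hclosed (fun y => α (α y)) hm h (h⁻¹ * x) (h2h h hh') (h2F _ hx)
      rwa [mul_inv_cancel_left] at this
    · have := hclosed (fun y => α (α y)) hm (a * h) ((a * h)⁻¹ * x) (hclosed (fun y => α (α y)) hm a h hα2 (h2h h hh')) (h2F _ hx)
      rwa [mul_inv_cancel_left] at this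
  have heven : ∀ (m : ℕ) x, x⁻¹ * α^[2 * m] x ∈ F := by
    intro m
    induction m with
    | zero => simp
    | succ m ih =>
      intro x
      rw [show 2 * (m + 1) = 2 + 2 * m by ring, Function.iterate_add_apply]
      show x⁻¹ * α (α (α^[2 * m] x)) ∈ F
      have e : x⁻¹ * α (α (α^[2 * m] x)) = (x⁻¹ * α^[2 * m] x) * ((α^[2 * m] x)⁻¹ * α (α (α^[2 * m] x))) := by
        group
      rw [e]
      exact F.mul_mem (ih x) (h2all _)
  have hall : ∀ x, x⁻¹ * α x ∈ F := fun x => by
    obtain ⟨m, hm⟩ : Odd (q ^ n) := (hq.out.odd_of_ne_two hq2).pow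
    have h := heven (m + 1) x
    rw [show 2 * (m + 1) = 1 + q ^ n by omega, Function.iterate_add_apply, hαq] at h
    exact h
  -- every coset has a fixed point
  have hfix : ∀ σ : Γ, ∃ φ ∈ F, α (σ * φ) = σ * φ := by
    intro σ
    let C := {y : Γ // σ⁻¹ * y ∈ F}
    let eC : F ≃ C :=
      { toFun := fun φ => ⟨σ * φ, by simp⟩
        invFun := fun y => ⟨σ⁻¹ * y.1, y.2⟩
        left_inv := fun φ => Subtype.ext (inv_mul_cancel_left σ φ.1)
        right_inv := fun y => Subtype.ext (mul_inv_cancel_left σ y.1) }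
    have hC : ∀ y : Γ, σ⁻¹ * y ∈ F ↔ σ⁻¹ * α y ∈ F := by
      intro y
      rw [show σ⁻¹ * α y = (σ⁻¹ * α σ) * α (σ⁻¹ * y) by rw [map_mul, map_inv]; group,
        F.mul_mem_cancel_left (hall σ), ← hαF]
    let π : Equiv.Perm C := α.toEquiv.subtypeEquiv hC
    have hπ : ∀ (m : ℕ) (y : C), ((π ^ m) y).1 = α^[m] y.1 := by
      intro m
      induction m with
      | zero => simp
      | succ m ih =>
        intro y
        rw [pow_succ', Equiv.Perm.mul_apply, Function.iterate_succ_apply']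
        show α ((π ^ m) y).1 = _
        rw [ih]
    have : Fintype C := Fintype.ofFinite C
    have hnd : ¬ q ∣ Fintype.card C := by
      obtain ⟨j, hj⟩ := IsPGroup.iff_card.1 (hΓ.to_subgroup F)
      rw [← Nat.card_eq_fintype_card, ← Nat.card_congr eC, hj]
      exact fun h => hq2 ((Nat.prime_dvd_prime_iff_eq hq.out Nat.prime_two).1 (hq.out.dvd_of_dvd_pow h))
    obtain ⟨y, hy⟩ := Equiv.Perm.exists_fixed_point_of_prime (n := n) hnd
      (σ := π) (Equiv.ext fun y => Subtype.ext (by rw [hπ, hαq]; rfl))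
    refine ⟨σ⁻¹ * y.1, y.2, ?_⟩
    rw [mul_inv_cancel_left]
    exact congrArg Subtype.val hy
  -- so the fixed points are everything
  intro x
  by_contra hne
  let H : Subgroup Γ := α.toMonoidHom.eqLocus (MonoidHom.id Γ)
  have hH : H ≠ ⊤ := fun h => hne (show x ∈ H from h ▸ Subgroup.mem_top x)
  obtain ⟨M, hHM, hM⟩ := exists_index_two hΓ hH
  have hMt : M = ⊤ := by
    rw [eq_top_iff]
    intro τ _
    obtain ⟨φ, hφ, hτ⟩ := hfix τ
    have := M.mul_mem (hHM (show τ * φ ∈ H from hτ)) (M.inv_mem (hFM M hM hφ))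
    rwa [mul_inv_cancel_right] at this
  rw [hMt, Subgroup.index_top] at hM
  exact absurd hM (by norm_num)

/-! ### the Sylow subgroup of the Mathieu group -/

/-- the generators -/
def LL : List ℕ := S5168.lR ++ S5168.lF

def cA : ℕ := 980228189413286253709853921236793440
def cB : ℕ := 982828142801925719134217799541536864
def cC : ℕ := 967250922934055969569890951240112224

/-- commuting codes -/
def cm (x y : ℕ) : Bool := pcomp x y == pcomp y x

/-- the first invariant -/
def pb (x : ℕ) : Bool :=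
  (elems LL).any (fun a => !cm (pcomp x x) a) && (elems S5168.lF).all (fun f => cm (pcomp x x) f) &&
    (elems S5168.lF).any (fun f => cm x f && (elems S5168.lF).any fun f' => !cm f f')

/-- the second invariant -/
def pc (x : ℕ) : Bool := !(pcomp (pcomp x x) (pcomp x x) == pid)

/-- the representatives -/
def plane : List ℕ := [pid, cB, cC, pcomp cB cC]

theorem pcOK_LL : pcOK LL = true := by decide +kernel
theorem pcOK_F : pcOK S5168.lF = true := by decide +kernel
theorem sq_ok : sqOK S5168.lR S5168.lF S5168.wit = true := by decide +kernel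
theorem inG_all : LL.all S5168.inG = true := by decide +kernel
theorem zOK_LL : zOK LL 973606461760135017242396451293777568 = true := by decide +kernel
theorem z_mem : (elems LL).contains 973606461760135017242396451293777568 = true := by decide +kernel
theorem der_all : LL.all (fun a =>
    (derive S5168.inG (elems LL) [973606461760135017242396451293777568] S5168.steps).contains a) = true := by
  decide +kernel
theorem pb_ok : pb cB = true ∧ (elems LL).all (fun x => !pb x || ((elems S5168.lF).map (pcomp cB)).contains x) = true := by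
  decide +kernel
theorem pc_ok : pc cC = true ∧ (elems LL).all (fun x => !pc x || ((elems S5168.lF).map (pcomp cC)).contains x) = true := by
  decide +kernel
theorem abc_mem : (elems LL).contains cA = true ∧ (elems LL).contains cB = true ∧ (elems LL).contains cC = true := by
  decide +kernel
theorem cov_ok : (elems LL).all (fun x => plane.any fun h =>
    ((elems S5168.lF).map (pcomp h)).contains x || ((elems S5168.lF).map (pcomp (pcomp cA h))).contains x) = true := by
  decide +kernel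
theorem out_ok : plane.all (fun h => !((elems S5168.lF).map (pcomp h)).contains cA) = true := by decide +kernel

/-- the Sylow subgroup -/
noncomputable abbrev Gam : Subgroup (Equiv.Perm GolayPt) := grp LL

/-- its Frattini subgroup -/
noncomputable def Fsub : Subgroup Gam := (grp S5168.lF).subgroupOf Gam

theorem vS {e : ℕ} (he : e ∈ elems LL) : valid e = true ∧ pnorm e = e := elems_valid (valid_of_pcOK pcOK_LL) e he
theorem vF {e : ℕ} (he : e ∈ elems S5168.lF) : valid e = true ∧ pnorm e = e :=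
  elems_valid (valid_of_pcOK pcOK_F) e he

theorem F_le : grp S5168.lF ≤ Gam := by
  rw [grp, Subgroup.closure_le]
  rintro _ ⟨b, hb, rfl⟩
  exact permOf_mem_grp (List.mem_append_right _ hb)

/-- an element by its code -/
noncomputable def el (e : ℕ) (he : e ∈ elems LL) : Gam :=
  ⟨permOf e, ((grp_spec pcOK_LL).1 _).2 ⟨e, he, rfl⟩⟩

theorem exists_el (x : Gam) : ∃ (e : ℕ) (he : e ∈ elems LL), el e he = x := by
  obtain ⟨e, he, h⟩ := ((grp_spec pcOK_LL).1 _).1 x.2
  exact ⟨e, he, Subtype.ext h⟩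

theorem memF_iff {x : Gam} : x ∈ Fsub ↔ ∃ f ∈ elems S5168.lF, permOf f = (x : Equiv.Perm GolayPt) :=
  (grp_spec pcOK_F).1 _

theorem cm_iff {x y : ℕ} (hx : valid x = true) (hy : valid y = true) :
    cm x y = true ↔ permOf x * permOf y = permOf y * permOf x := by
  rw [cm, beq_iff_eq]
  constructor
  · intro h
    rw [← (pcomp_spec hx hy).2, ← (pcomp_spec hy hx).2, h]
  · intro h
    rw [← pnorm_pcomp hx hy, ← pnorm_pcomp hy hx]
    exact pnorm_eq (pcomp_spec hx hy).1 (pcomp_spec hy hx).1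
      (by rw [(pcomp_spec hx hy).2, (pcomp_spec hy hx).2, h])

theorem comm_iff {x y : ℕ} (hx : valid x = true) (hy : valid y = true) {X Y : Gam}
    (hX : permOf x = (X : Equiv.Perm GolayPt)) (hY : permOf y = (Y : Equiv.Perm GolayPt)) :
    cm x y = true ↔ X * Y = Y * X := by
  rw [cm_iff hx hy, hX, hY]
  exact ⟨fun h => Subtype.ext h, fun h => congrArg Subtype.val h⟩

/-- the first invariant on elements -/
def PB (X : Gam) : Prop :=
  (∃ a : Gam, X * X * a ≠ a * (X * X)) ∧ (∀ f ∈ Fsub, X * X * f = f * (X * X)) ∧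
    ∃ f ∈ Fsub, X * f = f * X ∧ ∃ f' ∈ Fsub, f * f' ≠ f' * f

theorem PB_iff {e : ℕ} (he : e ∈ elems LL) : PB (el e he) ↔ pb e = true := by
  have hv := (vS he).1
  have h2 : permOf (pcomp e e) = ((el e he * el e he : Gam) : Equiv.Perm GolayPt) := (pcomp_spec hv hv).2
  simp only [pb, Bool.and_eq_true, List.any_eq_true, List.all_eq_true, Bool.not_eq_true']
  constructor
  · rintro ⟨⟨a, ha⟩, hall, f, hf, hc, f', hf', hne⟩
    obtain ⟨ca, hca, rfl⟩ := exists_el a
    obtain ⟨cf, hcf, hf2⟩ := memF_iff.1 hf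
    obtain ⟨cf', hcf', hf2'⟩ := memF_iff.1 hf'
    refine ⟨⟨⟨ca, hca, ?_⟩, fun g hg => ?_⟩, cf, hcf, (comm_iff hv (vF hcf).1 (X := el e he) rfl hf2).2 hc, cf', hcf', ?_⟩
    · rw [← Bool.not_eq_true, comm_iff (pcomp_spec hv hv).1 (vS hca).1 h2 (Y := el ca hca) rfl]; exact ha
    · exact (comm_iff (pcomp_spec hv hv).1 (vF hg).1 h2 (Y := ⟨permOf g, F_le (((grp_spec pcOK_F).1 _).2 ⟨g, hg, rfl⟩)⟩)
        rfl).2 (hall _ (memF_iff.2 ⟨g, hg, rfl⟩))
    · rw [← Bool.not_eq_true, comm_iff (vF hcf).1 (vF hcf').1 hf2 hf2']; exact hne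
  · rintro ⟨⟨⟨ca, hca, h⟩, hall⟩, cf, hcf, hc, cf', hcf', hne⟩
    refine ⟨⟨el ca hca, ?_⟩, fun f hf => ?_, ?_⟩
    · rw [← Bool.not_eq_true, comm_iff (pcomp_spec hv hv).1 (vS hca).1 h2 (Y := el ca hca) rfl] at h; exact h
    · obtain ⟨g, hg, hg2⟩ := memF_iff.1 hf
      exact (comm_iff (pcomp_spec hv hv).1 (vF hg).1 h2 hg2).1 (hall g hg)
    · let Ff : Gam := ⟨permOf cf, F_le (((grp_spec pcOK_F).1 _).2 ⟨cf, hcf, rfl⟩)⟩
      let Ff' : Gam := ⟨permOf cf', F_le (((grp_spec pcOK_F).1 _).2 ⟨cf', hcf', rfl⟩)⟩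
      refine ⟨Ff, memF_iff.2 ⟨cf, hcf, rfl⟩, (comm_iff hv (vF hcf).1 (X := el e he) (Y := Ff) rfl rfl).1 hc, Ff',
        memF_iff.2 ⟨cf', hcf', rfl⟩, ?_⟩
      rw [← Bool.not_eq_true, comm_iff (vF hcf).1 (vF hcf').1 (X := Ff) (Y := Ff') rfl rfl] at hne
      exact hne

theorem pc_iff {e : ℕ} (he : e ∈ elems LL) : el e he ^ 4 ≠ 1 ↔ pc e = true := by
  have hv := (vS he).1
  have h2 := pcomp_spec hv hv
  have h4 := pcomp_spec h2.1 h2.1
  have e4 : ((el e he ^ 4 : Gam) : Equiv.Perm GolayPt) = permOf (pcomp (pcomp e e) (pcomp e e)) := by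
    rw [h4.2, h2.2]; simp [el, pow_succ, mul_assoc]
  rw [pc, Bool.not_eq_true', beq_eq_false_iff_ne, ne_eq, ne_eq, not_iff_not, Subtype.ext_iff, e4]
  constructor
  · intro h
    rw [← pnorm_pcomp h2.1 h2.1, ← pid_spec.2.1]
    exact pnorm_eq h4.1 pid_spec.1 (by rw [h, pid_spec.2.2]; rfl)
  · intro h
    rw [h, pid_spec.2.2]; rfl

theorem coset_mem {r x : ℕ} (hr : valid r = true) {R X : Gam} (hR : permOf r = (R : Equiv.Perm GolayPt))
    (hX : permOf x = (X : Equiv.Perm GolayPt)) (h : ((elems S5168.lF).map (pcomp r)).contains x = true) :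
    R⁻¹ * X ∈ Fsub := by
  obtain ⟨f, hf, hfx⟩ := List.mem_map.1 (List.contains_iff_mem.1 h)
  refine memF_iff.2 ⟨f, hf, ?_⟩
  rw [Subgroup.coe_mul, Subgroup.coe_inv, ← hR, ← hX, ← hfx, (pcomp_spec hr (vF hf).1).2, inv_mul_cancel_left]

theorem odd_aut_Gam (α : Gam ≃* Gam) {q n : ℕ} [Fact q.Prime] (hq2 : q ≠ 2) (hαq : ∀ x, α^[q ^ n] x = x) :
    ∀ x, α x = x := by
  have hΓ : IsPGroup 2 Gam := IsPGroup.of_card (grp_spec pcOK_LL).2
  obtain ⟨hA, hB, hC⟩ := abc_mem
  rw [List.contains_iff_mem] at hA hB hC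
  have hwit := sq_ok
  simp only [sqOK, Bool.and_eq_true, List.all_eq_true, List.any_eq_true, List.contains_iff_mem,
    beq_iff_eq] at hwit
  have hsq : ∀ x : Gam, x * x ∈ Fsub := fun x => by
    obtain ⟨e, he, rfl⟩ := exists_el x
    exact memF_iff.2 ⟨_, hwit.1 e he, (pcomp_spec (vS he).1 (vS he).1).2⟩
  have hgen : ∀ f ∈ Fsub, ∀ H : Subgroup Gam, (∀ x : Gam, x * x ∈ H) → f ∈ H := by
    intro f hf H hH
    have hle : grp S5168.lF ≤ H.map Gam.subtype := by
      rw [grp, Subgroup.closure_le]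
      rintro _ ⟨b, hb, rfl⟩
      obtain ⟨⟨w₁, w₂⟩, -, ⟨hw1, hw2⟩, hw⟩ := hwit.2 b hb
      refine ⟨el w₁ hw1 * el w₁ hw1 * (el w₂ hw2 * el w₂ hw2), H.mul_mem (hH _) (hH _), ?_⟩
      have h1 := pcomp_spec (vS hw1).1 (vS hw1).1
      have h2 := pcomp_spec (vS hw2).1 (vS hw2).1
      simp only [hw, (pcomp_spec h1.1 h2.1).2, h1.2, h2.2]
      rfl
    obtain ⟨y, hy, hyf⟩ := hle hf
    rwa [show f = y from Subtype.ext hyf.symm]
  have hmapF : ∀ (β : Gam ≃* Gam) x, x ∈ Fsub → β x ∈ Fsub := fun β x hx =>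
    hgen x hx (Fsub.comap β.toMonoidHom) fun y => by
      show β (y * y) ∈ Fsub
      rw [map_mul]; exact hsq _
  have hαF : ∀ x, x ∈ Fsub ↔ α x ∈ Fsub := fun x =>
    ⟨hmapF α x, fun h => by simpa using hmapF α.symm _ h⟩
  have hvB := (vS hB).1
  have hvC := (vS hC).1
  have hbfix : (el cB hB)⁻¹ * α (el cB hB) ∈ Fsub := by
    obtain ⟨e, he, hee⟩ := exists_el (α (el cB hB))
    obtain ⟨⟨a, ha⟩, hall, f, hf, hc, f', hf', hne⟩ := (PB_iff hB).2 pb_ok.1
    have hP : PB (el e he) := by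
      rw [hee]
      refine ⟨⟨α a, ?_⟩, fun g hg => ?_, α f, (hαF f).1 hf, ?_, α f', (hαF f').1 hf', ?_⟩
      · rw [← map_mul, ← map_mul, ← map_mul]; exact fun h => ha (α.injective h)
      · have := congrArg α (hall _ ((hαF (α.symm g)).2 (by simpa using hg)))
        simpa [map_mul] using this
      · rw [← map_mul, ← map_mul, hc]
      · rw [← map_mul, ← map_mul]; exact fun h => hne (α.injective h)
    have h := List.all_eq_true.1 pb_ok.2 e he
    rw [(PB_iff he).1 hP] at h
    exact coset_mem hvB rfl (congrArg Subtype.val hee) (by simpa using h)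
  have hcfix : (el cC hC)⁻¹ * α (el cC hC) ∈ Fsub := by
    obtain ⟨e, he, hee⟩ := exists_el (α (el cC hC))
    have h1 : el e he ^ 4 ≠ 1 := by
      rw [hee, ← map_pow, ne_eq, EmbeddingLike.map_eq_one_iff]
      exact (pc_iff hC).2 pc_ok.1
    have h := List.all_eq_true.1 pc_ok.2 e he
    rw [(pc_iff he).1 h1] at h
    exact coset_mem hvC rfl (congrArg Subtype.val hee) (by simpa using h)
  have hplane : ∀ h ∈ plane, ∃ H : Gam,
      (H = 1 ∨ H = el cB hB ∨ H = el cC hC ∨ H = el cB hB * el cC hC) ∧ valid h = true ∧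
        permOf h = (H : Equiv.Perm GolayPt) := by
    intro h hh
    simp only [plane, List.mem_cons, List.not_mem_nil, or_false] at hh
    rcases hh with rfl | rfl | rfl | rfl
    · exact ⟨1, Or.inl rfl, pid_spec.1, pid_spec.2.2⟩
    · exact ⟨_, Or.inr (Or.inl rfl), hvB, rfl⟩
    · exact ⟨_, Or.inr (Or.inr (Or.inl rfl)), hvC, rfl⟩
    · exact ⟨_, Or.inr (Or.inr (Or.inr rfl)), (pcomp_spec hvB hvC).1, (pcomp_spec hvB hvC).2⟩
  refine odd_aut_trivial hΓ Fsub hsq (fun M hM f hf => hgen f hf M (Subgroup.mul_self_mem_of_index_two hM))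
    (a := el cA hA) (fun x => ?_) ?_ α hαF hbfix hcfix hq2 hαq
  · obtain ⟨e, he, rfl⟩ := exists_el x
    obtain ⟨h, hh, hx⟩ := List.any_eq_true.1 (List.all_eq_true.1 cov_ok e he)
    obtain ⟨H, hH, hv, hval⟩ := hplane h hh
    refine ⟨H, hH, ?_⟩
    rw [Bool.or_eq_true] at hx
    rcases hx with hx | hx
    · exact Or.inl (coset_mem hv hval rfl hx)
    · refine Or.inr (coset_mem (pcomp_spec (vS hA).1 hv).1 ?_ rfl hx)
      rw [(pcomp_spec (vS hA).1 hv).2, hval]; rfl
  · intro H hH hmem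
    have hhp : ∃ h ∈ plane, valid h = true ∧ permOf h = (H : Equiv.Perm GolayPt) := by
      rcases hH with rfl | rfl | rfl | rfl
      · exact ⟨pid, by simp [plane], pid_spec.1, pid_spec.2.2⟩
      · exact ⟨cB, by simp [plane], hvB, rfl⟩
      · exact ⟨cC, by simp [plane], hvC, rfl⟩
      · exact ⟨pcomp cB cC, by simp [plane], (pcomp_spec hvB hvC).1, (pcomp_spec hvB hvC).2⟩
    obtain ⟨h, hh, hv, hval⟩ := hhp
    obtain ⟨f, hf, hf2⟩ := memF_iff.1 hmem
    have h1 := List.all_eq_true.1 out_ok h hh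
    have hcA : pcomp h f = cA := by
      rw [← pnorm_pcomp hv (vF hf).1, ← (vS hA).2]
      refine pnorm_eq (pcomp_spec hv (vF hf).1).1 (vS hA).1 ?_
      rw [(pcomp_spec hv (vF hf).1).2, hf2, hval]
      simp [el]
    rw [List.contains_iff_mem.2 (List.mem_map.2 ⟨f, hf, hcA⟩)] at h1
    simp at h1

/-! ### the embedding into the McLaughlin group -/

theorem signedPerm_empty (σ : Equiv.Perm GolayPt) (x : GolayPt → ℤ) (i : GolayPt) :
    signedPerm σ ∅ x i = x (σ.symm i) := by simp [signedPerm]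

theorem monomial_mem {g : Equiv.Perm GolayPt} (hg : g ∈ Spor.M22) :
    ((monomial g hg.1.1 ∅ empty_mem_supports : Co0) : Equiv.Perm leechLattice) ∈ Spor.McL := by
  have hn : g none = none := hg.1.2
  have h0 : g (some 0) = some 0 := hg.2
  refine ⟨⟨SetLike.coe_mem _, ?_⟩, ?_⟩
  · refine Subtype.ext (funext fun i => ?_)
    show signedPerm g ∅ Spor.vecV i = Spor.vecV i
    rw [signedPerm_empty]
    simp only [Spor.vecV, Equiv.symm_apply_eq, hn]
  · refine Subtype.ext (funext fun i => ?_)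
    show signedPerm g ∅ Spor.vecU i = Spor.vecU i
    rw [signedPerm_empty]
    simp only [Spor.vecU, Equiv.symm_apply_eq, hn, h0]

/-- the Mathieu group inside -/
noncomputable def emb : Spor.M22 →* Spor.McL where
  toFun g := ⟨_, monomial_mem g.2⟩
  map_one' := Subtype.ext (Equiv.ext fun v => Subtype.ext (funext fun i => by
    show signedPerm 1 ∅ (v : GolayPt → ℤ) i = _
    rw [signedPerm_empty]; rfl))
  map_mul' g h := Subtype.ext (Equiv.ext fun v => Subtype.ext (funext fun i => by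
    show signedPerm (g.1 * h.1) ∅ (v : GolayPt → ℤ) i = signedPerm g.1 ∅ (signedPerm h.1 ∅ (v : GolayPt → ℤ)) i
    rw [signedPerm_empty, signedPerm_empty, signedPerm_empty]; rfl))

theorem emb_injective : Function.Injective emb := by
  intro g h e
  refine Subtype.ext ?_
  refine inv_inj.1 (Equiv.ext fun i => ?_)
  have h1 : signedPerm g.1 ∅ (frame (g.1⁻¹ i) : GolayPt → ℤ) i =
      signedPerm h.1 ∅ (frame (g.1⁻¹ i) : GolayPt → ℤ) i :=
    congrArg (fun z : Spor.McL => ((z.1 (frame (g.1⁻¹ i)) : leechLattice) : GolayPt → ℤ) i) e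
  rw [signedPerm_empty, signedPerm_empty] at h1
  by_contra hne
  have h2 : h.1.symm i ≠ g.1⁻¹ i := fun h3 => hne h3.symm
  simp [frame, unitVec, Equiv.Perm.inv_def] at h1
  exact h2 h1

theorem valid_inG {c : ℕ} (h : S5168.inG c = true) : valid c = true ∧ permOf c ∈ Spor.M22 := S5168.inG_spec c h

theorem Gam_le : Gam ≤ Spor.M22 := by
  rw [Gam, grp, Subgroup.closure_le]
  rintro _ ⟨a, ha, rfl⟩
  exact (S5168.inG_spec a (List.all_eq_true.1 inG_all a ha)).2

/-- The 2-fusion system of the McLaughlin group is simple. -/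
theorem main {G : Type*} [Group G] [Finite G] (hG : Spor.IsoMcL G) (S : Sylow 2 G) :
    (groupFusionSystem (S : Subgroup G)).IsSimple 2 := by
  classical
  obtain ⟨e⟩ := hG
  set emb : Spor.M22 →* G := e.symm.toMonoidHom.comp McLFusion95.emb with hemb
  set kap : Gam →* G := emb.comp (Subgroup.inclusion Gam_le) with hkap
  have kap_injective : Function.Injective kap :=
    (e.symm.injective.comp emb_injective).comp (Subgroup.inclusion_injective _)
  have : Fact (Nat.Prime 2) := ⟨Nat.prime_two⟩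
  have hcard : Nat.card G = 898128000 := (Nat.card_congr e.toEquiv).trans LeechCertOrders.card_McL
  have hlen : LL.length = 7 := rfl
  have hKc : Nat.card kap.range = 2 ^ 7 := by
    rw [← Nat.card_congr (MonoidHom.ofInjective kap_injective).toEquiv, (grp_spec pcOK_LL).2, hlen]
  obtain ⟨T, hT⟩ := (IsPGroup.of_card hKc).exists_le_sylow
  have hTc : Nat.card T = 2 ^ 7 := by
    rw [T.card_eq_multiplicity, hcard,
      show (898128000 : ℕ) = 2 ^ 7 * 7016625 by norm_num, Nat.factorization_mul (by norm_num) (by norm_num),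
      Finsupp.add_apply, Nat.Prime.factorization_pow Nat.prime_two, Finsupp.single_eq_same,
      Nat.factorization_eq_zero_of_not_dvd (by norm_num)]
  have hTeq : (T : Subgroup G) = kap.range :=
    (Subgroup.eq_of_le_of_card_ge hT (by rw [hTc, hKc])).symm
  obtain ⟨g, hg⟩ := MulAction.exists_smul_eq G T S
  have hmemS : ∀ x : G, x ∈ (S : Subgroup G) ↔ g⁻¹ * x * g ∈ kap.range := by
    intro x
    rw [← hg, Sylow.coe_subgroup_smul, Subgroup.mem_pointwise_smul_iff_inv_smul_mem, hTeq]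
    simp [MulAut.smul_def]
  have hmemK : ∀ x, g * kap x * g⁻¹ ∈ (S : Subgroup G) := fun x => by
    rw [hmemS]; exact ⟨x, by group⟩
  refine isSimple_of_closed_gen (fun h => ?_) (fun U hU hne => ?_) ?_
  · have h1 : Nat.card S = 2 ^ 7 := by rw [← hTc, S.card_eq_multiplicity, T.card_eq_multiplicity]
    rw [h, Subgroup.card_bot] at h1
    norm_num at h1
  · refine le_antisymm hU.1 ?_
    obtain ⟨u, huU, hu1, huS, huc⟩ := exists_central_mem hU hne
    set P : ℕ → Prop := fun e => valid e = true ∧ ∃ h : permOf e ∈ Spor.M22, g * emb ⟨permOf e, h⟩ * g⁻¹ ∈ U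
      with hP
    set z : ℕ := 973606461760135017242396451293777568
    have hzP : P z := by
      obtain ⟨y, hy⟩ := (hmemS u).1 huS
      obtain ⟨e, he, rfl⟩ := exists_el y
      have hcen : ∀ a ∈ LL, cm a e = true := by
        intro a ha
        have hva := valid_of_pcOK pcOK_LL a ha
        refine (comm_iff hva (vS he).1 (X := ⟨permOf a, permOf_mem_grp ha⟩) (Y := el e he) rfl rfl).2 ?_
        apply kap_injective
        rw [map_mul, map_mul, hy]
        have h := huc _ (hmemK ⟨permOf a, permOf_mem_grp ha⟩)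
        set A := kap ⟨permOf a, permOf_mem_grp ha⟩
        calc A * (g⁻¹ * u * g) = g⁻¹ * ((g * A * g⁻¹) * u) * g := by group
          _ = g⁻¹ * (u * (g * A * g⁻¹)) * g := by rw [h]
          _ = (g⁻¹ * u * g) * A := by group
      have hz := List.all_eq_true.1 zOK_LL e he
      simp only [Bool.or_eq_true, List.any_eq_true, beq_iff_eq, Bool.not_eq_true'] at hz
      rcases hz with (rfl | rfl) | ⟨a, ha, hne'⟩
      · exfalso
        apply hu1
        have h0 : el pid he = 1 := Subtype.ext pid_spec.2.2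
        rw [h0, map_one] at hy
        calc u = g * (g⁻¹ * u * g) * g⁻¹ := by group
          _ = 1 := by rw [← hy]; group
      · refine ⟨(vS he).1, Gam_le (el z he).2, ?_⟩
        show g * kap (el z he) * g⁻¹ ∈ U
        rw [hy, show g * (g⁻¹ * u * g) * g⁻¹ = u by group]
        exact huU
      · have := hcen a ha
        rw [cm] at this
        rw [this] at hne'
        exact absurd hne' (by simp)
    have hall := derive_induction (inG := S5168.inG) (es := elems LL) P
      ⟨pid_spec.1, pid_spec.2.2.symm ▸ Spor.M22.one_mem, by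
        have : (⟨permOf pid, pid_spec.2.2.symm ▸ Spor.M22.one_mem⟩ : Spor.M22) = 1 := Subtype.ext pid_spec.2.2
        rw [this]; simp⟩
      (by
        rintro x y ⟨hx, hxG, hxU⟩ ⟨hy, hyG, hyU⟩
        refine ⟨(pcomp_spec hx hy).1, (pcomp_spec hx hy).2 ▸ Spor.M22.mul_mem hxG hyG, ?_⟩
        have : (⟨permOf (pcomp x y), (pcomp_spec hx hy).2 ▸ Spor.M22.mul_mem hxG hyG⟩ : Spor.M22) =
            ⟨permOf x, hxG⟩ * ⟨permOf y, hyG⟩ := Subtype.ext (pcomp_spec hx hy).2
        rw [this, map_mul]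
        have := U.mul_mem hxU hyU
        rwa [show g * emb ⟨permOf x, hxG⟩ * g⁻¹ * (g * emb ⟨permOf y, hyG⟩ * g⁻¹) =
          g * (emb ⟨permOf x, hxG⟩ * emb ⟨permOf y, hyG⟩) * g⁻¹ by group] at this)
      (by
        rintro x c y ⟨hx, hxG, hxU⟩ hc hy he
        obtain ⟨hvc, hcG⟩ := S5168.inG_spec c hc
        have hvy := (vS hy).1
        refine ⟨hvy, Gam_le (el y hy).2, ?_⟩
        have hrel : (⟨permOf c, hcG⟩ : Spor.M22) * ⟨permOf x, hxG⟩ =
            ⟨permOf y, Gam_le (el y hy).2⟩ * ⟨permOf c, hcG⟩ := by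
          refine Subtype.ext ?_
          have := congrArg permOf he
          rwa [(pcomp_spec hvc hx).2, (pcomp_spec hvy hvc).2] at this
        have hrel' := congrArg emb hrel
        rw [map_mul, map_mul] at hrel'
        have hmem := mem_of_conj hU hxU (g := g * emb ⟨permOf c, hcG⟩ * g⁻¹)
        have e2 : g * emb ⟨permOf c, hcG⟩ * g⁻¹ * (g * emb ⟨permOf x, hxG⟩ * g⁻¹) *
            (g * emb ⟨permOf c, hcG⟩ * g⁻¹)⁻¹ = g * emb ⟨permOf y, Gam_le (el y hy).2⟩ * g⁻¹ := by
          rw [show g * emb ⟨permOf c, hcG⟩ * g⁻¹ * (g * emb ⟨permOf x, hxG⟩ * g⁻¹) *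
            (g * emb ⟨permOf c, hcG⟩ * g⁻¹)⁻¹ =
            g * ((emb ⟨permOf c, hcG⟩ * emb ⟨permOf x, hxG⟩) * (emb ⟨permOf c, hcG⟩)⁻¹) * g⁻¹ by group,
            hrel', mul_inv_cancel_right]
        rw [e2] at hmem
        exact hmem (hmemK (el y hy)))
      S5168.steps [z] (by simpa using hzP)
    intro x hx
    have hsub : Gam ≤ ((U.comap (MulAut.conj g).toMonoidHom).comap kap).map Gam.subtype := by
      show grp LL ≤ _
      rw [grp, Subgroup.closure_le]
      rintro _ ⟨a, ha, rfl⟩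
      obtain ⟨-, haG, haU⟩ := hall a (List.contains_iff_mem.1 (List.all_eq_true.1 der_all a ha))
      exact ⟨⟨permOf a, permOf_mem_grp ha⟩, haU, rfl⟩
    obtain ⟨y, hy⟩ := (hmemS x).1 hx
    obtain ⟨y', hy', hye⟩ := hsub y.2
    rw [show y' = y from Subtype.ext hye] at hy'
    have hy'' : g * kap y * g⁻¹ ∈ U := hy'
    rwa [hy, show g * (g⁻¹ * x * g) * g⁻¹ = x by group] at hy''
  · set N := Subgroup.normalizer ((S : Subgroup G) : Set G)
    set D := Subgroup.closure (((S : Subgroup G) : Set G) ∪ goodSet S)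
    have key : Nat.card N ∣ Nat.card (N ⊓ D : Subgroup G) := by
      rw [Nat.dvd_iff_prime_pow_dvd_dvd]
      intro q j hq hj
      rcases Nat.eq_zero_or_pos j with rfl | hj0
      · simp
      by_cases hq2 : q = 2
      · subst hq2
        have h1 : 2 ^ j ∣ Nat.card S := S.pow_dvd_card_of_pow_dvd_card
          (hj.trans (Subgroup.card_subgroup_dvd_card N))
        refine h1.trans (Subgroup.card_dvd_of_le (le_inf Subgroup.le_normalizer ?_))
        exact fun x hx => Subgroup.subset_closure (Or.inl hx)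
      · have : Fact q.Prime := ⟨hq⟩
        obtain ⟨Q⟩ : Nonempty (Sylow q N) := inferInstance
        refine (Q.pow_dvd_card_of_pow_dvd_card hj).trans ?_
        have hQ : (Q : Subgroup N).map N.subtype ≤ N ⊓ D := by
          rintro _ ⟨⟨k, hkN⟩, hkQ, rfl⟩
          refine ⟨hkN, Subgroup.subset_closure (Or.inr (Or.inl ?_))⟩
          obtain ⟨n, hn⟩ := Q.2 ⟨⟨k, hkN⟩, hkQ⟩
          have hkn : k ^ (q ^ n) = 1 := by
            simpa using congrArg (fun y : (Q : Subgroup N) => ((y : N) : G)) hn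
          have hkS : ∀ y : Gam, k * (g * kap y * g⁻¹) * k⁻¹ ∈ (S : Subgroup G) :=
            fun y => (Subgroup.mem_normalizer_iff.1 hkN _).1 (hmemK y)
          have hex : ∀ y : Gam, ∃ y', g * kap y' * g⁻¹ = k * (g * kap y * g⁻¹) * k⁻¹ := fun y => by
            obtain ⟨y', hy'⟩ := (hmemS _).1 (hkS y)
            exact ⟨y', by rw [hy']; group⟩
          choose β hβ using hex
          have hβinj : Function.Injective β := fun a b h => by
            have h1 := (hβ a).symm.trans ((congrArg (fun y => g * kap y * g⁻¹) h).trans (hβ b))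
            exact kap_injective (mul_left_cancel (mul_right_cancel (mul_left_cancel (mul_right_cancel h1))))
          let βh : Gam →* Gam :=
            { toFun := β
              map_one' := kap_injective (mul_left_cancel (mul_right_cancel (b := g⁻¹) (by
                rw [hβ, map_one]; group)))
              map_mul' := fun a b => kap_injective (mul_left_cancel (mul_right_cancel (b := g⁻¹) (by
                rw [hβ, map_mul kap (β a), show g * (kap (β a) * kap (β b)) * g⁻¹ =
                  (g * kap (β a) * g⁻¹) * (g * kap (β b) * g⁻¹) by group, hβ, hβ, map_mul]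
                group))) }
          have hΓf : Finite Gam := Finite.of_injective kap kap_injective
          let α : Gam ≃* Gam := MulEquiv.ofBijective βh ⟨hβinj, Finite.surjective_of_injective hβinj⟩
          have hit : ∀ (m : ℕ) (y : Gam), g * kap (α^[m] y) * g⁻¹ = k ^ m * (g * kap y * g⁻¹) * (k ^ m)⁻¹ := by
            intro m
            induction m with
            | zero => simp
            | succ m ih =>
              intro y
              rw [Function.iterate_succ_apply']
              show g * kap (β (α^[m] y)) * g⁻¹ = _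
              rw [hβ, ih, pow_succ']
              group
          have hfix := odd_aut_Gam α hq2 (n := n) fun y =>
            kap_injective (mul_left_cancel (mul_right_cancel (b := g⁻¹) (by rw [hit, hkn]; group)))
          rw [Set.mem_ofPred_eq, Subgroup.mem_centralizer_iff]
          intro x hx
          obtain ⟨y, hy⟩ := (hmemS x).1 hx
          have h1 := hit 1 y
          rw [Function.iterate_one, hfix y, pow_one] at h1
          rw [hy, show g * (g⁻¹ * x * g) * g⁻¹ = x by group] at h1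
          exact eq_mul_inv_iff_mul_eq.1 h1
        rw [Nat.card_congr ((Q : Subgroup N).equivMapOfInjective N.subtype N.subtype_injective).toEquiv]
        exact Subgroup.card_dvd_of_le hQ
    have hND : N ⊓ D = N := Subgroup.eq_of_le_of_card_ge inf_le_left
      (Nat.le_of_dvd Nat.card_pos key)
    exact inf_eq_left.1 hND

end Cfsg.Agent.McLFusion95
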