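import Cfsg.Agent.Lib.McLInvolution
import Cfsg.Agent.Lib.McLMultElts40

/-!
Words in a table of elements of the McLaughlin group on 275 points, compared on a base.
-/

set_option autoImplicit false
set_option maxRecDepth 20000

namespace Cfsg.Agent.McLMultBase40

open Cfsg.Agent.PermImageCert Cfsg.Agent.PermWordCert Cfsg.Agent.McLMultElts40

/-- The group. -/
abbrev P : Subgroup (Equiv.Perm (Fin 275)) := McLInvolution.P

/-- Earlier table. -/
def T1 : List ℕ := McLInvolution.T

/-- All letters. -/
def TT : List ℕ := T1 ++ elts.map Prod.snd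

/-- the codes agree with their words -/
theorem elts_ok : elts.all (fun q => wordOK T1 q.1 &&
    allBelow (fun k => Nat.beq (get q.2 k) (walk T1 q.1 k)) 275) = true := by decide +kernel

theorem hTT : ∀ c ∈ TT, ∃ σ ∈ P, Rep σ c := by
  intro c hc
  rcases List.mem_append.mp hc with hc | hc
  · exact McLInvolution.hT c hc
  · obtain ⟨q, hq, rfl⟩ := List.mem_map.mp hc
    have h := List.all_eq_true.mp elts_ok q hq
    simp only [Bool.and_eq_true] at h
    obtain ⟨σ, hσ, hσa⟩ := exists_act McLInvolution.hT q.1 h.1
    refine ⟨σ, hσ, fun k => ?_⟩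
    have h2 := allBelow_spec h.2 k k.2
    rw [Nat.beq_eq] at h2
    exact (hσa k).trans h2.symm

theorem exists_el (i : ℕ) : ∃ g : P, i < TT.length → Act TT [i] (g : Equiv.Perm (Fin 275)) := by
  by_cases h : i < TT.length
  · obtain ⟨σ, hσ, hσa⟩ := exists_act hTT [i] (by simpa [wordOK] using h)
    exact ⟨⟨σ, hσ⟩, fun _ => hσa⟩
  · exact ⟨1, fun h' => absurd h' h⟩

/-- the element of a letter -/
noncomputable def el (i : ℕ) : P := (exists_el i).choose

/-- the element of a word -/
noncomputable def ev (w : List ℕ) : P := (w.map el).prod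

theorem ev_nil : ev [] = 1 := rfl

theorem ev_cons (i : ℕ) (w : List ℕ) : ev (i :: w) = el i * ev w := List.prod_cons

theorem ev_append (u w : List ℕ) : ev (u ++ w) = ev u * ev w := by simp [ev]

theorem act_ev : ∀ w, wordOK TT w = true → Act TT w (ev w : Equiv.Perm (Fin 275))
  | [], _ => act_nil
  | i :: w, h => by
    simp only [wordOK, List.all_cons, Bool.and_eq_true, Nat.blt_eq] at h
    rw [ev_cons]
    exact ((exists_el i).choose_spec h.1).mul (act_ev w h.2)

/-- equality of two words on the base -/
def eqW (u w : List ℕ) : Bool :=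
  wordOK TT u && wordOK TT w && (key TT McLInvolutionData.base u == key TT McLInvolutionData.base w)

theorem ev_eq {u w : List ℕ} (h : eqW u w = true) : ev u = ev w := by
  simp only [eqW, Bool.and_eq_true, beq_iff_eq] at h
  exact Subtype.ext ((act_ev u h.1.1).eq_of_key McLInvolution.baseInj (act_ev w h.1.2)
    (ev u).2 (ev w).2 h.2)

theorem ev_apply {w : List ℕ} (h : wordOK TT w = true) (k : Fin 275) :
    (((ev w : P) : Equiv.Perm (Fin 275)) k : ℕ) = walk TT w k := act_ev w h k

theorem keys_ne {u w : List ℕ} (hu : wordOK TT u = true) (hw : wordOK TT w = true)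
    (h : key TT McLInvolutionData.base u ≠ key TT McLInvolutionData.base w) : ev u ≠ ev w :=
  fun e => (act_ev u hu).key_ne McLInvolution.base_lt (act_ev w hw) h (congrArg Subtype.val e)

end Cfsg.Agent.McLMultBase40
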