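import Mathlib
import Cfsg.Prelude.Def_KGroupFacts
import Cfsg.Agent.Lib.SchurMultiplierBasic

/-!
The Schur multiplier of a finite group via a free presentation.

`E G = F ⧸ [R, F]` for the free presentation `F = FreeGroup G → G`; `mult G = (R ⊓ F') / [R, F]`.
Main results: `hasSchurMultiplier_mult`, `exists_cover_over` (every stem extension is an image of
a covering group), `exists_lift` / `eq_on_commutator` (the lifting property),
`hasSchurMultiplier_equiv` (uniqueness of the multiplier), `mult_map_eq` (every stem extension's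
kernel is the image of `mult G`).
-/

set_option autoImplicit false

namespace Cfsg.Agent.SchurMultiplierCover

open Cfsg
open scoped commutatorElement

universe u v w

section general

variable {Δ : Type v} [Group Δ]

/-- Commutators do not change under central factors. -/
theorem commutatorElement_mul_center {a b z t : Δ} (hz : z ∈ Subgroup.center Δ)
    (ht : t ∈ Subgroup.center Δ) : ⁅a * z, b * t⁆ = ⁅a, b⁆ := by
  have e1 := Subgroup.mem_center_iff.1 hz
  have e2 := Subgroup.mem_center_iff.1 ht
  simp only [commutatorElement_def, mul_inv_rev]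
  calc a * z * (b * t) * (z⁻¹ * a⁻¹) * (t⁻¹ * b⁻¹)
      = a * z * b * (t * z⁻¹) * a⁻¹ * t⁻¹ * b⁻¹ := by group
    _ = a * z * b * (z⁻¹ * t) * a⁻¹ * t⁻¹ * b⁻¹ := by rw [e2 z⁻¹]
    _ = a * (z * b) * z⁻¹ * (t * a⁻¹) * t⁻¹ * b⁻¹ := by group
    _ = a * (b * z) * z⁻¹ * (a⁻¹ * t) * t⁻¹ * b⁻¹ := by rw [e1 b, e2 a⁻¹]
    _ = a * b * a⁻¹ * b⁻¹ := by group

/-- A group with centre of finite index has finitely many commutators. -/
theorem finite_commutatorSet_of_finite_quotient (Z : Subgroup Δ) (hZ : Z ≤ Subgroup.center Δ)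
    [Finite (Δ ⧸ Z)] : Finite (commutatorSet Δ) := by
  have hsub : commutatorSet Δ ⊆
      Set.range (fun p : (Δ ⧸ Z) × (Δ ⧸ Z) => ⁅p.1.out, p.2.out⁆) := by
    rintro _ ⟨a, b, rfl⟩
    obtain ⟨z, hz⟩ := QuotientGroup.mk_out_eq_mul Z a
    obtain ⟨t, ht⟩ := QuotientGroup.mk_out_eq_mul Z b
    refine ⟨(QuotientGroup.mk a, QuotientGroup.mk b), ?_⟩
    simp only [hz, ht]
    exact commutatorElement_mul_center (hZ z.2) (hZ t.2)
  exact Set.finite_coe_iff.2 ((Set.finite_range _).subset hsub)

/-- Two homomorphisms which agree modulo a central kernel agree on the derived group. -/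
theorem eq_on_commutator {X : Type w} {H : Type*} [Group X] [Group H] {σ : Δ →* H}
    (hc : σ.ker ≤ Subgroup.center Δ) (Φ Ψ : X →* Δ) (h : σ.comp Φ = σ.comp Ψ)
    {x : X} (hx : x ∈ commutator X) : Φ x = Ψ x := by
  have hle : commutator X ≤ Φ.eqLocus Ψ := by
    rw [commutator_def, Subgroup.commutator_le]
    intro a _ b _
    show Φ ⁅a, b⁆ = Ψ ⁅a, b⁆
    have hh : ∀ y, ∃ z ∈ Subgroup.center Δ, Ψ y = Φ y * z := fun y =>
      ⟨(Φ y)⁻¹ * Ψ y, hc (by
        rw [MonoidHom.mem_ker, map_mul, map_inv]
        exact inv_mul_eq_one.2 (DFunLike.congr_fun h y)), by group⟩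
    obtain ⟨z, hz, ez⟩ := hh a
    obtain ⟨t, ht, et⟩ := hh b
    rw [map_commutatorElement, map_commutatorElement, ez, et, commutatorElement_mul_center hz ht]
  exact hle hx

/-- Homomorphisms from a perfect group agreeing modulo a central kernel are equal. -/
theorem eq_of_perfect {X : Type w} {H : Type*} [Group X] [Group H] {σ : Δ →* H}
    (hX : Group.IsPerfect X) (hc : σ.ker ≤ Subgroup.center Δ) (Φ Ψ : X →* Δ)
    (h : σ.comp Φ = σ.comp Ψ) : Φ = Ψ :=
  MonoidHom.ext fun x => eq_on_commutator hc Φ Ψ h (by rw [hX.commutator_eq_top]; trivial)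

end general

variable (G : Type u) [Group G]

/-- The presentation map from the free group. -/
def pres : FreeGroup G →* G := FreeGroup.lift id

/-- `[R, F]`. -/
def relMod : Subgroup (FreeGroup G) := ⁅(pres G).ker, (⊤ : Subgroup (FreeGroup G))⁆

instance relMod_normal : (relMod G).Normal := by unfold relMod; infer_instance

theorem relMod_le : relMod G ≤ (pres G).ker := Subgroup.commutator_le_left _ _

/-- The free central extension `F ⧸ [R, F]`. -/
abbrev E : Type u := FreeGroup G ⧸ relMod G

/-- Projection of the free central extension. -/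
def proj : E G →* G := QuotientGroup.lift (relMod G) (pres G) (relMod_le G)

/-- The canonical generator over `g`. -/
def gen (g : G) : E G := QuotientGroup.mk (FreeGroup.of g)

theorem proj_gen (g : G) : proj G (gen G g) = g := FreeGroup.lift_apply_of

theorem proj_surjective : Function.Surjective (proj G) := fun g => ⟨gen G g, proj_gen G g⟩

theorem proj_ker_le_center : (proj G).ker ≤ Subgroup.center (E G) := by
  intro e he
  obtain ⟨r, rfl⟩ := QuotientGroup.mk_surjective e
  rw [Subgroup.mem_center_iff]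
  intro f
  obtain ⟨y, rfl⟩ := QuotientGroup.mk_surjective f
  have hr : r ∈ (pres G).ker := he
  have h : ⁅r, y⁆ ∈ relMod G := Subgroup.commutator_mem_commutator hr (Subgroup.mem_top y)
  have h2 : ⁅QuotientGroup.mk' (relMod G) r, QuotientGroup.mk' (relMod G) y⁆ = 1 := by
    rw [← map_commutatorElement, QuotientGroup.mk'_apply]
    exact (QuotientGroup.eq_one_iff _).2 h
  exact (commutatorElement_eq_one_iff_mul_comm.1 h2).symm

theorem hom_ext_gen {X : Type v} [Monoid X] (Φ Ψ : E G →* X) (h : ∀ g, Φ (gen G g) = Ψ (gen G g)) :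
    Φ = Ψ :=
  QuotientGroup.monoidHom_ext _ ((FreeGroup.ext_hom _ _ h))

variable {G}

/-- Lifting into central extensions. -/
theorem exists_lift {Δ : Type v} {H : Type w} [Group Δ] [Group H] (σ : Δ →* H)
    (hs : Function.Surjective σ) (hc : σ.ker ≤ Subgroup.center Δ) (f : G →* H) :
    ∃ Φ : E G →* Δ, σ.comp Φ = f.comp (proj G) := by
  let Φ0 : FreeGroup G →* Δ := FreeGroup.lift fun g => Function.surjInv hs (f g)
  have hcomp : σ.comp Φ0 = f.comp (pres G) := FreeGroup.ext_hom _ _ fun g => by
    simp [Φ0, pres, Function.surjInv_eq hs]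
  have hN : relMod G ≤ Φ0.ker := by
    rw [relMod, Subgroup.commutator_le]
    intro r hr y _
    have hz : Φ0 r ∈ Subgroup.center Δ := hc (by
      have := DFunLike.congr_fun hcomp r
      simp only [MonoidHom.comp_apply] at this
      rw [MonoidHom.mem_ker, this, MonoidHom.mem_ker.1 hr, map_one])
    rw [MonoidHom.mem_ker, map_commutatorElement, commutatorElement_eq_one_iff_mul_comm]
    exact (Subgroup.mem_center_iff.1 hz _).symm
  exact ⟨QuotientGroup.lift _ Φ0 hN, QuotientGroup.monoidHom_ext _ hcomp⟩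

variable (G)

/-- The Schur multiplier `(R ⊓ F') / [R, F]`. -/
def mult : Subgroup (E G) := (proj G).ker ⊓ commutator (E G)

theorem mult_le_ker : mult G ≤ (proj G).ker := inf_le_left

theorem mult_le_commutator : mult G ≤ commutator (E G) := inf_le_right

theorem mult_le_center : mult G ≤ Subgroup.center (E G) :=
  (mult_le_ker G).trans (proj_ker_le_center G)

instance multCommGroup : CommGroup (mult G) :=
  { (inferInstance : Group (mult G)) with
    mul_comm := fun a b => Subtype.ext (Subgroup.mem_center_iff.1 (mult_le_center G b.2) a) }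

instance finite_quotient_proj [Finite G] : Finite (E G ⧸ (proj G).ker) :=
  Finite.of_equiv G (QuotientGroup.quotientKerEquivOfSurjective (proj G) (proj_surjective G)).toEquiv.symm

instance finite_commutator [Finite G] : Finite (commutator (E G)) :=
  haveI := finite_commutatorSet_of_finite_quotient (proj G).ker (proj_ker_le_center G)
  inferInstance

instance finite_mult [Finite G] : Finite (mult G) :=
  Finite.of_injective (Subgroup.inclusion (mult_le_commutator G)) (Subgroup.inclusion_injective _)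

/-- The map to the free abelian group on `G`. -/
noncomputable def degHom : E G →* Multiplicative (G →₀ ℤ) :=
  QuotientGroup.lift (relMod G) (FreeGroup.lift fun g => Multiplicative.ofAdd (Finsupp.single g 1))
    (by
      rw [relMod, Subgroup.commutator_le]
      intro r _ y _
      rw [MonoidHom.mem_ker, map_commutatorElement, commutatorElement_eq_one_iff_mul_comm]
      exact mul_comm _ _)

theorem degHom_gen (g : G) : degHom G (gen G g) = Multiplicative.ofAdd (Finsupp.single g 1) :=
  FreeGroup.lift_apply_of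

theorem degHom_ker : (degHom G).ker = commutator (E G) := by
  refine le_antisymm ?_ (Abelianization.commutator_subset_ker _)
  let back : Multiplicative (G →₀ ℤ) →* Abelianization (E G) :=
    AddMonoidHom.toMultiplicativeLeft (Finsupp.liftAddHom fun g =>
      zmultiplesHom (Additive (Abelianization (E G))) (Additive.ofMul (Abelianization.of (gen G g))))
  have hb : back.comp (degHom G) = Abelianization.of := by
    refine hom_ext_gen G _ _ fun g => ?_
    simp [back, degHom_gen]
  intro e he
  rw [← Abelianization.ker_of, MonoidHom.mem_ker, ← hb, MonoidHom.comp_apply,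
    MonoidHom.mem_ker.1 he, map_one]

variable {G}

/-- Complements to the multiplier inside a supplementary subgroup of the relation module. -/
theorem exists_complement [Finite G] (K : Subgroup (E G)) (hK : K ≤ (proj G).ker)
    (hKM : K ⊔ mult G = (proj G).ker) :
    ∃ L : Subgroup (E G), L ≤ K ∧ L ⊓ mult G = ⊥ ∧ L ⊔ mult G = (proj G).ker := by
  classical
  haveI := Fintype.ofFinite G
  letI : CommGroup (Subgroup.center (E G)) :=
    { (inferInstance : Group (Subgroup.center (E G))) with
      mul_comm := fun a b => Subtype.ext (Subgroup.mem_center_iff.1 b.2 a) }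
  let f : Additive (Subgroup.center (E G)) →ₗ[ℤ] (G →₀ ℤ) :=
    (MonoidHom.toAdditiveLeft ((degHom G).comp (Subgroup.center (E G)).subtype)).toIntLinearMap
  let P : Submodule ℤ (Additive (Subgroup.center (E G))) :=
    (Subgroup.toAddSubgroup (K.subgroupOf (Subgroup.center (E G)))).toIntSubmodule
  let f' : P →ₗ[ℤ] (G →₀ ℤ) := f.domRestrict P
  obtain ⟨s, hs⟩ := Module.projective_lifting_property f'.rangeRestrict LinearMap.id
    f'.surjective_rangeRestrict
  let S : LinearMap.range f' →+ Additive (Subgroup.center (E G)) := ((P.subtype).comp s).toAddMonoidHom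
  let L : Subgroup (E G) := (AddMonoidHom.toMultiplicativeLeft S).range.map (Subgroup.center (E G)).subtype
  have hS : ∀ v, f (S v) = v.1 := fun v => congrArg Subtype.val (LinearMap.congr_fun hs v)
  have hLK : L ≤ K := by
    rintro _ ⟨c, ⟨v, rfl⟩, rfl⟩
    exact (s v.toAdd).2
  have hLA : L ≤ (proj G).ker := hLK.trans hK
  refine ⟨L, hLK, ?_, ?_⟩
  · rw [eq_bot_iff]
    rintro _ ⟨⟨c, ⟨v, rfl⟩, rfl⟩, hm⟩
    have h0 : degHom G ((Subgroup.center (E G)).subtype ((AddMonoidHom.toMultiplicativeLeft S) v)) = 1 :=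
      MonoidHom.mem_ker.1 ((degHom_ker G).symm ▸ mult_le_commutator G hm)
    have hv : v = 1 := by
      have h1 : f (S v.toAdd) = 0 := h0
      rw [hS] at h1
      exact Multiplicative.toAdd.injective (Subtype.ext h1)
    simp [hv]
  · refine le_antisymm (sup_le hLA (mult_le_ker G)) ?_
    rw [← hKM]
    refine sup_le ?_ le_sup_right
    intro k hk
    let p : P := ⟨Additive.ofMul (⟨k, proj_ker_le_center G (hK hk)⟩ : Subgroup.center (E G)), hk⟩
    let v : LinearMap.range f' := f'.rangeRestrict p
    let l : E G := ((Additive.toMul (S v) : Subgroup.center (E G)) : E G)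
    have hl : l ∈ L := ⟨Additive.toMul (S v), ⟨Multiplicative.ofAdd v, rfl⟩, rfl⟩
    have hd : degHom G l = degHom G k := congrArg Multiplicative.ofAdd (hS v)
    have hm : l⁻¹ * k ∈ mult G :=
      ⟨(proj G).ker.mul_mem ((proj G).ker.inv_mem (hLA hl)) (hK hk), by
        rw [← degHom_ker]
        show degHom G _ = 1
        rw [map_mul, map_inv, hd, inv_mul_cancel]⟩
    have : k = l * (l⁻¹ * k) := by group
    rw [this]
    exact Subgroup.mul_mem_sup hl hm

/-- A lift onto a stem extension. -/
theorem lift_stem {Δ : Type v} [Group Δ] {σ : Δ →* G} (hσ : IsStemExtension σ) (Φ : E G →* Δ)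
    (hΦ : σ.comp Φ = proj G) : Function.Surjective Φ ∧ (mult G).map Φ = σ.ker := by
  have hsur : Φ.range = ⊤ := by
    refine SchurMultiplierBasic.stem_eq_top_of_map_eq_top hσ _ ?_
    rw [MonoidHom.map_range, hΦ, MonoidHom.range_eq_top.2 (proj_surjective G)]
  refine ⟨MonoidHom.range_eq_top.1 hsur, le_antisymm ?_ fun k hk => ?_⟩
  · rintro _ ⟨m, hm, rfl⟩
    rw [MonoidHom.mem_ker, ← MonoidHom.comp_apply, hΦ]
    exact mult_le_ker G hm
  · have h := hσ.2.2 hk
    rw [← map_commutator_eq_of_range Φ hsur] at h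
    obtain ⟨e, he, rfl⟩ := h
    refine Subgroup.mem_map_of_mem Φ ⟨?_, he⟩
    show proj G e = 1
    rw [← hΦ]; exact hk
  where
    map_commutator_eq_of_range {X : Type u} {Y : Type v} [Group X] [Group Y] (Φ : X →* Y)
        (h : Φ.range = ⊤) : (commutator X).map Φ = commutator Y := by
      rw [commutator_def, commutator_def, Subgroup.map_commutator, ← MonoidHom.range_eq_map, h]

/-- Every stem extension has kernel an image of `mult G`. -/
theorem exists_surjective_mult {Δ : Type v} [Group Δ] {σ : Δ →* G} (hσ : IsStemExtension σ) :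
    ∃ π : mult G →* σ.ker, Function.Surjective π := by
  obtain ⟨Φ, hΦ⟩ := exists_lift σ hσ.1 hσ.2.1 (MonoidHom.id G)
  rw [MonoidHom.id_comp] at hΦ
  obtain ⟨-, hker⟩ := lift_stem hσ Φ hΦ
  refine ⟨(Φ.comp (mult G).subtype).codRestrict σ.ker fun m =>
    hker ▸ Subgroup.mem_map_of_mem Φ m.2, fun k => ?_⟩
  obtain ⟨m, hm, he⟩ : (k : Δ) ∈ (mult G).map Φ := hker.symm ▸ k.2
  exact ⟨⟨m, hm⟩, Subtype.ext he⟩

/-- Every finite stem extension is an image of a covering group. -/
theorem exists_cover_over [Finite G] {Δ : Type v} [Group Δ] {τ : Δ →* G}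
    (hτ : IsStemExtension τ) :
    ∃ (Γ : Type u) (_ : Group Γ) (_ : Finite Γ) (σ : Γ →* G), IsStemExtension σ ∧
      Nonempty (σ.ker ≃* mult G) ∧ ∃ β : Γ →* Δ, Function.Surjective β ∧ τ.comp β = σ := by
  obtain ⟨Φ, hΦ⟩ := exists_lift τ hτ.1 hτ.2.1 (MonoidHom.id G)
  rw [MonoidHom.id_comp] at hΦ
  obtain ⟨hsur, hker⟩ := lift_stem hτ Φ hΦ
  have hKle : Φ.ker ≤ (proj G).ker := fun e he => by
    rw [MonoidHom.mem_ker, ← hΦ, MonoidHom.comp_apply, MonoidHom.mem_ker.1 he, map_one]
  have hKM : Φ.ker ⊔ mult G = (proj G).ker := by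
    refine le_antisymm (sup_le hKle (mult_le_ker G)) fun a ha => ?_
    obtain ⟨m, hm, he⟩ : Φ a ∈ (mult G).map Φ := by
      rw [hker, MonoidHom.mem_ker, ← MonoidHom.comp_apply, hΦ]; exact ha
    have : a = a * m⁻¹ * m := by group
    rw [this]
    exact Subgroup.mul_mem_sup (by rw [MonoidHom.mem_ker, map_mul, map_inv, he, mul_inv_cancel]) hm
  obtain ⟨L, hLK, hLM, hLA⟩ := exists_complement Φ.ker hKle hKM
  have hLle : L ≤ (proj G).ker := hLK.trans hKle
  haveI : L.Normal := ⟨fun l hl g => by
    rw [Subgroup.mem_center_iff.1 (proj_ker_le_center G (hLle hl)) g, mul_inv_cancel_right]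
    exact hl⟩
  let σ : E G ⧸ L →* G := QuotientGroup.lift L (proj G) hLle
  have hσk : ∀ x ∈ σ.ker, ∃ m ∈ mult G, QuotientGroup.mk' L m = x := by
    intro x hx
    obtain ⟨e, rfl⟩ := QuotientGroup.mk'_surjective L x
    have he : e ∈ L ⊔ mult G := by rw [hLA]; exact hx
    obtain ⟨l, hl, m, hm, rfl⟩ := Subgroup.mem_sup_of_normal_left.1 he
    refine ⟨m, hm, ?_⟩
    rw [map_mul, QuotientGroup.mk'_apply (N := L) (x := l), (QuotientGroup.eq_one_iff l).2 hl,
      one_mul]
  let θ : mult G →* σ.ker :=
    ((QuotientGroup.mk' L).comp (mult G).subtype).codRestrict σ.ker fun m => mult_le_ker G m.2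
  have hθ : Function.Bijective θ := by
    refine ⟨(injective_iff_map_eq_one θ).2 fun m hm => ?_, fun x => ?_⟩
    · have h1 : (m : E G) ∈ L := (QuotientGroup.eq_one_iff _).1 (congrArg Subtype.val hm)
      have h2 : (m : E G) ∈ L ⊓ mult G := ⟨h1, m.2⟩
      rw [hLM] at h2
      exact Subtype.ext h2
    · obtain ⟨m, hm, he⟩ := hσk x.1 x.2
      exact ⟨⟨m, hm⟩, Subtype.ext he⟩
  haveI : Finite σ.ker := Finite.of_surjective θ hθ.2
  have hfin : Finite (E G ⧸ L) := by
    haveI : Finite ((E G ⧸ L) ⧸ σ.ker) := Finite.of_injective _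
      (QuotientGroup.kerLift_injective σ)
    exact Finite.of_subgroup_quotient σ.ker
  refine ⟨E G ⧸ L, inferInstance, hfin, σ, ⟨?_, ?_, ?_⟩, ⟨(MulEquiv.ofBijective θ hθ).symm⟩,
    QuotientGroup.lift L Φ hLK, ?_, ?_⟩
  · intro g; exact ⟨QuotientGroup.mk (gen G g), proj_gen G g⟩
  · intro x hx
    obtain ⟨m, hm, rfl⟩ := hσk x hx
    rw [Subgroup.mem_center_iff]
    intro y
    obtain ⟨e, rfl⟩ := QuotientGroup.mk'_surjective L y
    rw [← map_mul, ← map_mul, Subgroup.mem_center_iff.1 (mult_le_center G hm) e]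
  · intro x hx
    obtain ⟨m, hm, rfl⟩ := hσk x hx
    have hle : (commutator (E G)).map (QuotientGroup.mk' L) ≤ commutator (E G ⧸ L) := by
      rw [commutator_def, commutator_def, Subgroup.map_commutator]
      exact Subgroup.commutator_mono le_top le_top
    exact hle (Subgroup.mem_map_of_mem _ (mult_le_commutator G hm))
  · intro d
    obtain ⟨e, rfl⟩ := hsur d
    exact ⟨QuotientGroup.mk e, rfl⟩
  · exact QuotientGroup.monoidHom_ext _ hΦ

variable (G)

/-- `mult G` is the Schur multiplier of the finite group `G`. -/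
theorem hasSchurMultiplier_mult [Finite G] : HasSchurMultiplier G (mult G) := by
  obtain ⟨Γ, _, _, σ, hσ, he, -⟩ := exists_cover_over (SchurMultiplierBasic.stem_id (G := G))
  exact ⟨⟨Γ, inferInstance, inferInstance, σ, hσ, he⟩,
    fun Δ _ _ τ hτ => exists_surjective_mult hτ⟩

variable {G}

/-- Uniqueness of the Schur multiplier. -/
theorem hasSchurMultiplier_equiv [Finite G] {A : Type v} [CommGroup A]
    (hA : HasSchurMultiplier G A) : Nonempty (A ≃* mult G) := by
  obtain ⟨⟨Γ, _, _, σ, hσ, ⟨e⟩⟩, hsur⟩ := hA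
  haveI : Finite A := Finite.of_equiv σ.ker e.toEquiv
  obtain ⟨Δ, _, _, τ, hτ, ⟨e'⟩⟩ := (hasSchurMultiplier_mult G).1
  obtain ⟨π, hπ⟩ := hsur Δ τ hτ
  obtain ⟨π', hπ'⟩ := exists_surjective_mult hσ
  have h1 : Nat.card A ≤ Nat.card (mult G) := Nat.card_le_card_of_surjective _ (e.surjective.comp hπ')
  have hs : Function.Surjective ((e'.toMonoidHom).comp π) := e'.surjective.comp hπ
  have h2 : Nat.card (mult G) ≤ Nat.card A := Nat.card_le_card_of_surjective _ hs
  exact ⟨MulEquiv.ofBijective ((e'.toMonoidHom).comp π)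
    (hs.bijective_of_nat_card_le h1)⟩

/-- The multiplier can be replaced by any isomorphic group. -/
theorem hasSchurMultiplier_of_equiv [Finite G] {A : Type v} [CommGroup A]
    (e : A ≃* mult G) : HasSchurMultiplier G A := by
  obtain ⟨⟨Γ, _, _, σ, hσ, ⟨e'⟩⟩, hsur⟩ := hasSchurMultiplier_mult G
  refine ⟨⟨Γ, inferInstance, inferInstance, σ, hσ, ⟨e'.trans e.symm⟩⟩, fun Δ _ _ τ hτ => ?_⟩
  obtain ⟨π, hπ⟩ := hsur Δ τ hτ
  exact ⟨π.comp e.toMonoidHom, hπ.comp e.surjective⟩

/-- A surjection from a finite commutative group onto the multiplier, and a stem extension with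
kernel at least as big, identify the multiplier. -/
theorem hasCyclicSchurMultiplier_one_iff [Finite G] :
    HasCyclicSchurMultiplier G 1 ↔ mult G = ⊥ := by
  constructor
  · intro h
    obtain ⟨e⟩ := hasSchurMultiplier_equiv h
    haveI : Subsingleton (mult G) := e.symm.toEquiv.subsingleton
    exact Subgroup.eq_bot_of_subsingleton _
  · intro h
    refine SchurMultiplierBasic.hasCyclicSchurMultiplier_one fun Δ _ _ σ hσ => ?_
    obtain ⟨π, hπ⟩ := exists_surjective_mult hσ
    haveI : Subsingleton (mult G) := by rw [h]; infer_instance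
    haveI : Subsingleton σ.ker := hπ.subsingleton
    exact Subgroup.eq_bot_of_subsingleton _

/-- Trivial multiplier forces stem extensions in any universe to be bijective. -/
theorem ker_eq_bot_of_mult_eq_bot (h : mult G = ⊥) {Δ : Type v} [Group Δ] {σ : Δ →* G}
    (hσ : IsStemExtension σ) : σ.ker = ⊥ := by
  obtain ⟨π, hπ⟩ := exists_surjective_mult hσ
  haveI : Subsingleton (mult G) := by rw [h]; infer_instance
  haveI : Subsingleton σ.ker := hπ.subsingleton
  exact Subgroup.eq_bot_of_subsingleton _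

end Cfsg.Agent.SchurMultiplierCover
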