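import Mathlib
import Cfsg.Prelude.Def_KGroupFacts

/-!
Central extensions defined by normalised 2-cocycles with values in an abelian group.
-/

set_option autoImplicit false

namespace Cfsg.Agent.SchurMultiplierExt

open scoped commutatorElement

universe u v

/-- A normalised 2-cocycle with trivial action. -/
structure Cocycle (G : Type u) (Z : Type v) [Group G] [CommGroup Z] where
  /-- the values -/
  f : G → G → Z
  one_left : ∀ g, f 1 g = 1
  one_right : ∀ g, f g 1 = 1
  assoc : ∀ a b c, f a b * f (a * b) c = f b c * f a (b * c)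

variable {G : Type u} {Z : Type v} [Group G] [CommGroup Z] (κ : Cocycle G Z)

/-- The extension group of a cocycle. -/
@[ext]
structure Ext (κ : Cocycle G Z) where
  /-- kernel coordinate -/
  z : Z
  /-- quotient coordinate -/
  g : G

instance extMul : Mul (Ext κ) := ⟨fun x y => ⟨x.z * y.z * κ.f x.g y.g, x.g * y.g⟩⟩
instance extOne : One (Ext κ) := ⟨⟨1, 1⟩⟩
instance extInv : Inv (Ext κ) := ⟨fun x => ⟨x.z⁻¹ * (κ.f x.g⁻¹ x.g)⁻¹, x.g⁻¹⟩⟩

theorem mul_def (x y : Ext κ) : x * y = ⟨x.z * y.z * κ.f x.g y.g, x.g * y.g⟩ := rfl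
theorem one_def : (1 : Ext κ) = ⟨1, 1⟩ := rfl

instance extGroup : Group (Ext κ) :=
  Group.ofLeftAxioms
    (fun x y w => by
      ext
      · show x.z * y.z * κ.f x.g y.g * w.z * κ.f (x.g * y.g) w.g =
          x.z * (y.z * w.z * κ.f y.g w.g) * κ.f x.g (y.g * w.g)
        calc x.z * y.z * κ.f x.g y.g * w.z * κ.f (x.g * y.g) w.g
            = (x.z * y.z * w.z) * (κ.f x.g y.g * κ.f (x.g * y.g) w.g) := by ac_rfl
          _ = (x.z * y.z * w.z) * (κ.f y.g w.g * κ.f x.g (y.g * w.g)) := by rw [κ.assoc]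
          _ = _ := by ac_rfl
      · exact mul_assoc x.g y.g w.g)
    (fun x => by
      ext
      · show (1 : Z) * x.z * κ.f 1 x.g = x.z
        rw [κ.one_left, one_mul, mul_one]
      · exact one_mul x.g)
    (fun x => by
      ext
      · show x.z⁻¹ * (κ.f x.g⁻¹ x.g)⁻¹ * x.z * κ.f x.g⁻¹ x.g = 1
        calc x.z⁻¹ * (κ.f x.g⁻¹ x.g)⁻¹ * x.z * κ.f x.g⁻¹ x.g
            = (x.z⁻¹ * x.z) * ((κ.f x.g⁻¹ x.g)⁻¹ * κ.f x.g⁻¹ x.g) := by ac_rfl
          _ = 1 := by rw [inv_mul_cancel, inv_mul_cancel, one_mul]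
      · exact inv_mul_cancel x.g)

instance extFinite [Finite G] [Finite Z] : Finite (Ext κ) :=
  Finite.of_injective (fun x => (x.z, x.g)) fun x y h => by
    ext
    · exact (Prod.ext_iff.1 h).1
    · exact (Prod.ext_iff.1 h).2

/-- The projection of the extension. -/
def proj : Ext κ →* G := MonoidHom.mk' Ext.g fun _ _ => rfl

/-- The inclusion of the kernel. -/
def incl : Z →* Ext κ := MonoidHom.mk' (fun z => ⟨z, 1⟩) fun a b => by
  ext
  · show a * b = a * b * κ.f 1 1
    rw [κ.one_left, mul_one]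
  · exact (one_mul 1).symm

theorem proj_surjective : Function.Surjective (proj κ) := fun g => ⟨⟨1, g⟩, rfl⟩

theorem incl_injective : Function.Injective (incl κ) := fun _ _ h => congrArg Ext.z h

theorem ker_proj : (proj κ).ker = (incl κ).range := by
  refine le_antisymm (fun x hx => ⟨x.z, Ext.ext rfl (Eq.symm hx)⟩) ?_
  rintro _ ⟨z, rfl⟩
  rfl

theorem ker_le_center : (proj κ).ker ≤ Subgroup.center (Ext κ) := by
  rw [ker_proj]
  rintro _ ⟨z, rfl⟩
  rw [Subgroup.mem_center_iff]
  intro x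
  ext
  · show x.z * z * κ.f x.g 1 = z * x.z * κ.f 1 x.g
    rw [κ.one_left, κ.one_right, mul_comm x.z]
  · show x.g * 1 = 1 * x.g
    rw [one_mul, mul_one]

/-- The kernel is isomorphic to `Z`. -/
noncomputable def kerEquiv : (proj κ).ker ≃* Z :=
  (MulEquiv.subgroupCongr (ker_proj κ)).trans (MonoidHom.ofInjective (incl_injective κ)).symm

/-- If the image of `Z` lies in the derived group, the extension is a stem extension. -/
theorem stem_proj (h : ∀ z, incl κ z ∈ commutator (Ext κ)) :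
    Cfsg.IsStemExtension (proj κ) := by
  refine ⟨proj_surjective κ, ker_le_center κ, ?_⟩
  rw [ker_proj]
  rintro _ ⟨z, rfl⟩
  exact h z

/-- The commutator of lifts of commuting elements. -/
theorem commutator_lift {a b : G} (hab : a * b = b * a) :
    ⁅(⟨1, a⟩ : Ext κ), ⟨1, b⟩⁆ = incl κ (κ.f a b * (κ.f b a)⁻¹) := by
  rw [commutatorElement_def, mul_inv_eq_iff_eq_mul, mul_inv_eq_iff_eq_mul]
  ext
  · show (1 : Z) * 1 * κ.f a b =
      (κ.f a b * (κ.f b a)⁻¹ * 1 * κ.f 1 b) * 1 * κ.f (1 * b) a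
    rw [κ.one_left, one_mul]
    simp [inv_mul_cancel_right]
  · show a * b = 1 * b * a
    rw [one_mul, hab]

/-- The cocycle of a bilinear pairing. -/
def bilinear {A : Type*} {B : Type*} [Mul A] [Mul B] (p : G → A) (q : G → B) (β : A → B → Z)
    (hp : ∀ g h, p (g * h) = p g * p h) (hq : ∀ g h, q (g * h) = q g * q h)
    (hl : ∀ a a' b, β (a * a') b = β a b * β a' b)
    (hr : ∀ a b b', β a (b * b') = β a b * β a b') : Cocycle G Z where
  f g h := β (p g) (q h)
  one_left g := by
    have h : β (p (1 * 1)) (q g) = β (p 1) (q g) * β (p 1) (q g) := by rw [hp, hl]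
    rw [one_mul] at h
    exact mul_left_cancel (h.symm.trans (mul_one _).symm)
  one_right g := by
    have h : β (p g) (q (1 * 1)) = β (p g) (q 1) * β (p g) (q 1) := by rw [hq, hr]
    rw [one_mul] at h
    exact mul_left_cancel (h.symm.trans (mul_one _).symm)
  assoc a b c := by rw [hp, hq, hl, hr]; ac_rfl

end Cfsg.Agent.SchurMultiplierExt
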