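import Mathlib
import Cfsg.Prelude.Def_KGroupFacts
import Cfsg.Agent.Lib.SchurMultiplierCover
import Cfsg.Agent.Lib.SchurMultiplierExt

/-!
Restriction and corestriction for Schur multipliers:
`exists_transfer` gives `θ : M(G) →* M(U)` and `r : M(U) →* M(G)` with `r ∘ θ` the `[G : U]`-th power.
-/

set_option autoImplicit false

namespace Cfsg.Agent.SchurMultiplierTransfer

open scoped commutatorElement

universe u v

variable {G : Type u} [Group G] (U : Subgroup G)

/-- The `U`-part of `g` at a coset. -/
noncomputable def cpart (g : G) (x : G ⧸ U) : U :=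
  ⟨((g • x).out)⁻¹ * g * x.out, by
    rw [mul_assoc, ← QuotientGroup.eq]
    conv_lhs => rw [QuotientGroup.out_eq']
    show g • x = (QuotientGroup.mk (g * x.out) : G ⧸ U)
    conv_lhs => rw [← QuotientGroup.out_eq' x]
    rfl⟩

theorem cpart_mul (g h : G) (x : G ⧸ U) : cpart U (g * h) x = cpart U g (h • x) * cpart U h x := by
  apply Subtype.ext
  show (((g * h) • x).out)⁻¹ * (g * h) * x.out =
    (((g • h • x).out)⁻¹ * g * (h • x).out) * (((h • x).out)⁻¹ * h * x.out)
  rw [mul_smul]; group

theorem cpart_one (x : G ⧸ U) : cpart U 1 x = 1 := by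
  apply Subtype.ext
  show (((1 : G) • x).out)⁻¹ * 1 * x.out = 1
  rw [one_smul, mul_one, inv_mul_cancel]

/-- Corestriction of a cocycle. -/
noncomputable def cores [Finite G] {Y : Type v} [CommGroup Y]
    (κ : SchurMultiplierExt.Cocycle U Y) : SchurMultiplierExt.Cocycle G Y :=
  letI := Fintype.ofFinite (G ⧸ U)
  { f := fun g h => ∏ x : G ⧸ U, κ.f (cpart U g (h • x)) (cpart U h x)
    one_left := fun g => Finset.prod_eq_one fun x _ => by rw [cpart_one, κ.one_left]
    one_right := fun g => Finset.prod_eq_one fun x _ => by rw [cpart_one, κ.one_right]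
    assoc := fun a b c => by
      rw [← Equiv.prod_comp (MulAction.toPerm c)
        (fun x : G ⧸ U => κ.f (cpart U a (b • x)) (cpart U b x)), ← Finset.prod_mul_distrib,
        ← Finset.prod_mul_distrib]
      refine Finset.prod_congr rfl fun x _ => ?_
      simp only [MulAction.toPerm_apply]
      rw [cpart_mul U a b, cpart_mul U b c, κ.assoc, mul_smul] }

variable [Finite G]

/-- The section of the free central extension of `U` fixing `1`. -/
def usec (u : U) : SchurMultiplierCover.E U :=
  SchurMultiplierCover.gen U u * (SchurMultiplierCover.gen U 1)⁻¹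

theorem proj_usec (u : U) : SchurMultiplierCover.proj U (usec U u) = u := by
  simp [usec, SchurMultiplierCover.proj_gen]

theorem usec_one : usec U 1 = 1 := mul_inv_cancel _

/-- Restriction and corestriction compose to the power by the index. -/
theorem exists_transfer :
    ∃ (θ : SchurMultiplierCover.mult G →* SchurMultiplierCover.mult U)
      (r : SchurMultiplierCover.mult U →* SchurMultiplierCover.mult G),
        ∀ m, r (θ m) = m ^ U.index := by
  classical
  letI := Fintype.ofFinite (G ⧸ U)
  set pU := SchurMultiplierCover.proj U with hpU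
  set pG := SchurMultiplierCover.proj G with hpG
  have hcenU := SchurMultiplierCover.proj_ker_le_center U
  have hcenG := SchurMultiplierCover.proj_ker_le_center G
  letI : CommGroup pU.ker :=
    { (inferInstance : Group pU.ker) with
      mul_comm := fun a b => Subtype.ext (Subgroup.mem_center_iff.1 (hcenU b.2) a) }
  letI : CommGroup pG.ker :=
    { (inferInstance : Group pG.ker) with
      mul_comm := fun a b => Subtype.ext (Subgroup.mem_center_iff.1 (hcenG b.2) a) }
  have hfmem : ∀ u v, usec U u * usec U v * (usec U (u * v))⁻¹ ∈ pU.ker := fun u v => by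
    rw [MonoidHom.mem_ker, map_mul, map_mul, map_inv, proj_usec, proj_usec, proj_usec,
      mul_inv_cancel]
  let κ : SchurMultiplierExt.Cocycle U pU.ker :=
    { f := fun u v => ⟨_, hfmem u v⟩
      one_left := fun u => Subtype.ext (by
        show usec U 1 * usec U u * (usec U (1 * u))⁻¹ = 1
        rw [usec_one, one_mul, one_mul, mul_inv_cancel])
      one_right := fun u => Subtype.ext (by
        show usec U u * usec U 1 * (usec U (u * 1))⁻¹ = 1
        rw [usec_one, mul_one, mul_one, mul_inv_cancel])
      assoc := fun a b c => Subtype.ext (by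
        show usec U a * usec U b * (usec U (a * b))⁻¹ *
            (usec U (a * b) * usec U c * (usec U (a * b * c))⁻¹) =
          usec U b * usec U c * (usec U (b * c))⁻¹ *
            (usec U a * usec U (b * c) * (usec U (a * (b * c)))⁻¹)
        calc _ = usec U a * (usec U b * usec U c * (usec U (b * c))⁻¹) * usec U (b * c) *
              (usec U (a * (b * c)))⁻¹ := by rw [mul_assoc a b c]; group
          _ = _ := by
              rw [Subgroup.mem_center_iff.1 (hcenU (hfmem b c)) (usec U a)]; group) }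
  set T := cores U κ with hT
  obtain ⟨Ψ, hΨ⟩ := SchurMultiplierCover.exists_lift (SchurMultiplierExt.proj T)
    (SchurMultiplierExt.proj_surjective T) (SchurMultiplierExt.ker_le_center T) (MonoidHom.id G)
  rw [MonoidHom.id_comp] at hΨ
  have hΨg : ∀ e, (Ψ e).g = pG e := fun e => DFunLike.congr_fun hΨ e
  -- corestriction
  let θ0 : SchurMultiplierCover.mult G →* pU.ker := MonoidHom.mk' (fun m => (Ψ m).z) fun a b => by
    show (Ψ ((a : SchurMultiplierCover.E G) * b)).z = _
    rw [map_mul, SchurMultiplierExt.mul_def]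
    show (Ψ a).z * (Ψ b).z * T.f (Ψ a).g (Ψ b).g = _
    rw [hΨg a, MonoidHom.mem_ker.1 (SchurMultiplierCover.mult_le_ker G a.2), T.one_left, mul_one]
  have hθmem : ∀ m, (θ0 m : SchurMultiplierCover.E U) ∈ SchurMultiplierCover.mult U := by
    intro m
    refine ⟨(θ0 m).2, ?_⟩
    rw [← SchurMultiplierCover.degHom_ker]
    show SchurMultiplierCover.degHom U _ = 1
    have h1 : (SchurMultiplierCover.degHom U (θ0 m : SchurMultiplierCover.E U)) ^
        Nat.card (SchurMultiplierCover.mult G) = 1 := by
      rw [← map_pow, ← Subgroup.coe_pow, ← map_pow θ0, pow_card_eq_one', map_one]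
      simp
    apply Multiplicative.toAdd.injective
    have h2 := congrArg Multiplicative.toAdd h1
    rw [toAdd_pow, toAdd_one] at h2
    exact (smul_eq_zero.1 h2).resolve_left Nat.card_pos.ne'
  let θ : SchurMultiplierCover.mult G →* SchurMultiplierCover.mult U :=
    (pU.ker.subtype.comp θ0).codRestrict _ hθmem
  -- restriction
  obtain ⟨ρ, hρ⟩ := SchurMultiplierCover.exists_lift pG (SchurMultiplierCover.proj_surjective G)
    hcenG U.subtype
  have hρp : ∀ e, pG (ρ e) = (pU e : G) := fun e => DFunLike.congr_fun hρ e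
  have hrmem : ∀ m : SchurMultiplierCover.mult U, ρ m ∈ SchurMultiplierCover.mult G := by
    intro m
    refine ⟨?_, ?_⟩
    · show pG (ρ m) = 1
      rw [hρp, MonoidHom.mem_ker.1 (SchurMultiplierCover.mult_le_ker U m.2)]; rfl
    · have hle : (commutator (SchurMultiplierCover.E U)).map ρ ≤ commutator _ := by
        rw [commutator_def, commutator_def, Subgroup.map_commutator]
        exact Subgroup.commutator_mono le_top le_top
      exact hle (Subgroup.mem_map_of_mem ρ (SchurMultiplierCover.mult_le_commutator U m.2))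
  let r : SchurMultiplierCover.mult U →* SchurMultiplierCover.mult G :=
    (ρ.comp (Subgroup.subtype _)).codRestrict _ hrmem
  let ρk : pU.ker →* pG.ker := (ρ.comp pU.ker.subtype).codRestrict _ fun e => by
    rw [MonoidHom.mem_ker, MonoidHom.comp_apply, hρp, Subgroup.subtype_apply,
      MonoidHom.mem_ker.1 e.2]
    rfl
  -- comparison
  let t : G ⧸ U → SchurMultiplierCover.E G := fun x => SchurMultiplierCover.gen G x.out
  have ht : ∀ x, pG (t x) = x.out := fun x => SchurMultiplierCover.proj_gen G _
  have hkmem : ∀ (e : SchurMultiplierCover.E G) (x : G ⧸ U),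
      (t (pG e • x))⁻¹ * e * t x * (ρ (usec U (cpart U (pG e) x)))⁻¹ ∈ pG.ker := by
    intro e x
    rw [MonoidHom.mem_ker, map_mul, map_mul, map_mul, map_inv, map_inv, ht, ht, hρp, proj_usec]
    exact mul_inv_cancel _
  let k : SchurMultiplierCover.E G → G ⧸ U → pG.ker := fun e x => ⟨_, hkmem e x⟩
  have hk : ∀ e f x, k (e * f) x =
      k e (pG f • x) * k f x * ρk (κ.f (cpart U (pG e) (pG f • x)) (cpart U (pG f) x)) := by
    intro e f x
    apply Subtype.ext
    show (t (pG (e * f) • x))⁻¹ * (e * f) * t x * (ρ (usec U (cpart U (pG (e * f)) x)))⁻¹ =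
      ((t (pG e • pG f • x))⁻¹ * e * t (pG f • x) * (ρ (usec U (cpart U (pG e) (pG f • x))))⁻¹) *
      ((t (pG f • x))⁻¹ * f * t x * (ρ (usec U (cpart U (pG f) x)))⁻¹) *
      ρ (usec U (cpart U (pG e) (pG f • x)) * usec U (cpart U (pG f) x) *
        (usec U (cpart U (pG e) (pG f • x) * cpart U (pG f) x))⁻¹)
    rw [map_mul pG, mul_smul, cpart_mul, map_mul ρ, map_mul ρ, map_inv]
    generalize hA : ρ (usec U (cpart U (pG e) (pG f • x))) = A
    generalize hB : ρ (usec U (cpart U (pG f) x)) = B
    generalize hC : ρ (usec U (cpart U (pG e) (pG f • x) * cpart U (pG f) x)) = C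
    have hk2 : (t (pG f • x))⁻¹ * f * t x * B⁻¹ ∈ Subgroup.center _ := hcenG (hB ▸ hkmem f x)
    calc (t (pG e • pG f • x))⁻¹ * (e * f) * t x * C⁻¹
        = ((t (pG e • pG f • x))⁻¹ * e * t (pG f • x) * A⁻¹) *
            (A * ((t (pG f • x))⁻¹ * f * t x * B⁻¹)) * (B * C⁻¹) := by group
      _ = _ := by rw [Subgroup.mem_center_iff.1 hk2 A]; group
  let N : SchurMultiplierCover.E G → pG.ker := fun e => ∏ x, k e x
  have hN : ∀ e f, N (e * f) = N e * N f * ρk (T.f (pG e) (pG f)) := by
    intro e f
    show ∏ x, k (e * f) x = _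
    simp only [hk, Finset.prod_mul_distrib]
    rw [show (∏ x, k e (pG f • x)) = N e from Equiv.prod_comp (MulAction.toPerm (pG f)) (k e)]
    congr 1
    exact (map_prod ρk _ _).symm
  let D : SchurMultiplierCover.E G →* pG.ker :=
    MonoidHom.mk' (fun e => N e * (ρk (Ψ e).z)⁻¹) fun e f => by
      show N (e * f) * (ρk (Ψ (e * f)).z)⁻¹ = _
      rw [hN, map_mul Ψ, SchurMultiplierExt.mul_def]
      show _ * (ρk ((Ψ e).z * (Ψ f).z * T.f (Ψ e).g (Ψ f).g))⁻¹ = _
      rw [hΨg, hΨg, map_mul, map_mul, mul_inv, mul_inv]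
      rw [show ∀ a b c p q : pG.ker, a * b * c * (p⁻¹ * q⁻¹ * c⁻¹) = a * p⁻¹ * (b * q⁻¹) from
        fun a b c p q => by
          calc a * b * c * (p⁻¹ * q⁻¹ * c⁻¹) = (a * p⁻¹) * (b * q⁻¹) * (c * c⁻¹) := by ac_rfl
            _ = _ := by rw [mul_inv_cancel, mul_one]]
  refine ⟨θ, r, fun m => Subtype.ext ?_⟩
  have hD : D m = 1 :=
    Abelianization.commutator_subset_ker D (SchurMultiplierCover.mult_le_commutator G m.2)
  have hD' : N m = ρk (θ0 m) := mul_inv_eq_one.1 hD
  have hkm : ∀ x, (k m x : SchurMultiplierCover.E G) = m := by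
    intro x
    have h1 : pG m = 1 := MonoidHom.mem_ker.1 (SchurMultiplierCover.mult_le_ker G m.2)
    show (t (pG m • x))⁻¹ * m * t x * (ρ (usec U (cpart U (pG m) x)))⁻¹ = _
    rw [h1, one_smul, cpart_one, usec_one, map_one, inv_one, mul_one,
      mul_assoc, ← Subgroup.mem_center_iff.1 (SchurMultiplierCover.mult_le_center G m.2) (t x)]
    group
  have hkconst : ∀ x, k m x = ⟨m, SchurMultiplierCover.mult_le_ker G m.2⟩ := fun x =>
    Subtype.ext (hkm x)
  show ((ρk (θ0 m) : pG.ker) : SchurMultiplierCover.E G) = (m ^ U.index : SchurMultiplierCover.mult G)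
  rw [← hD']
  show ((∏ x, k m x : pG.ker) : SchurMultiplierCover.E G) = _
  simp only [hkconst, Finset.prod_const, Finset.card_univ, ← Nat.card_eq_fintype_card]
  rfl

end Cfsg.Agent.SchurMultiplierTransfer
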