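import Mathlib
import Cfsg.Agent.Lib.SchurMultiplierTransfer

/-!
The commutator of two commuting elements of order dividing three in a corestricted extension:
only the common fixed cosets contribute.
-/

set_option autoImplicit false

namespace Cfsg.Agent.TransferPairing40

open Cfsg.Agent.SchurMultiplierExt (Ext Cocycle incl)
open Cfsg.Agent.SchurMultiplierTransfer (cpart cpart_mul cpart_one cores)
open scoped commutatorElement

universe u v

section perm

variable {X : Type*} [Fintype X] [DecidableEq X] {Y : Type*} [CommGroup Y]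

/-- Over the moved points the product telescopes. -/
theorem prod_moved {α β : X → X} (hcomm : ∀ x, α (β x) = β (α x)) (hα : ∀ x, α (α (α x)) = x)
    (hβ : ∀ x, β (β (β x)) = x) (d h : X → Y) (hinv : ∀ x, h (α x) = h x)
    (hrel : ∀ x, α x ≠ x → d x * d (α x) * d (α (α x)) * h x = h (β x)) :
    ∏ x ∈ Finset.univ.filter (fun x => α x ≠ x), d x = 1 := by
  classical
  let e := Fintype.equivFin X
  let R := Finset.univ.filter fun x => e x < e (α x) ∧ e x < e (α (α x))
  have hinj : Function.Injective α := fun a b hab => by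
    rw [← hα a, ← hα b, hab]
  have hne : ∀ x, α x ≠ x → α (α x) ≠ x ∧ α (α x) ≠ α x := fun x hx =>
    ⟨fun h2 => hx (by simpa [hα x] using (congrArg α h2).symm), fun h2 => hx (hinj h2)⟩
  let r : X → X := fun x =>
    if e x < e (α x) ∧ e x < e (α (α x)) then x
    else if e (α x) < e (α (α x)) then α x else α (α x)
  have hrmem : ∀ x, α x ≠ x → r x ∈ R ∧ (r x = x ∨ r x = α x ∨ r x = α (α x)) := by
    intro x hx
    obtain ⟨h1, h2⟩ := hne x hx
    have n1 : e x ≠ e (α x) := fun he => hx (e.injective he).symm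
    have n2 : e x ≠ e (α (α x)) := fun he => h1 (e.injective he).symm
    have n3 : e (α x) ≠ e (α (α x)) := fun he => h2 (e.injective he).symm
    simp only [r]
    split_ifs with c1 c2
    · exact ⟨Finset.mem_filter.2 ⟨Finset.mem_univ _, c1⟩, Or.inl rfl⟩
    · refine ⟨Finset.mem_filter.2 ⟨Finset.mem_univ _, ?_⟩, Or.inr (Or.inl rfl)⟩
      rw [hα x]
      simp only [not_and, not_lt] at c1
      refine ⟨c2, lt_of_le_of_ne ?_ (Ne.symm n1)⟩
      by_contra hc
      push Not at hc
      exact absurd (c1 hc) (not_le.2 (hc.trans c2))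
    · refine ⟨Finset.mem_filter.2 ⟨Finset.mem_univ _, ?_⟩, Or.inr (Or.inr rfl)⟩
      rw [hα x]
      simp only [not_and, not_lt] at c1
      have c2' : e (α (α x)) < e (α x) := lt_of_le_of_ne (not_lt.1 c2) (Ne.symm n3)
      refine ⟨lt_of_le_of_ne ?_ (Ne.symm n2), c2'⟩
      by_contra hc
      push Not at hc
      exact absurd (c1 (hc.trans c2')) (not_le.2 hc)
  have huniq : ∀ y ∈ R, ∀ z ∈ R, (z = α y ∨ z = α (α y)) → False := by
    intro y hy z hz hzy
    obtain ⟨-, y1, y2⟩ := Finset.mem_filter.1 hy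
    obtain ⟨-, z1, z2⟩ := Finset.mem_filter.1 hz
    rcases hzy with rfl | rfl
    · rw [hα y] at z2
      exact absurd (y1.trans z2) (lt_irrefl _)
    · rw [hα y] at z1
      exact absurd (y2.trans z1) (lt_irrefl _)
  have hRmove : ∀ y ∈ R, α y ≠ y := fun y hy hc => by
    have := (Finset.mem_filter.1 hy).2.1
    rw [hc] at this
    exact lt_irrefl _ this
  have hmoveβ : ∀ x, α x ≠ x → α (β x) ≠ β x := fun x hx hc => hx (by
    rw [hcomm] at hc
    have := congrArg (fun y => β (β y)) hc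
    simpa [hβ] using this)
  have hr_eq : ∀ x, α x ≠ x → ∀ y ∈ R, (y = x ∨ y = α x ∨ y = α (α x)) → r x = y := by
    intro x hx y hy hyx
    obtain ⟨hr, hrx⟩ := hrmem x hx
    rcases hrx with h1 | h1 | h1 <;> rcases hyx with h2 | h2 | h2
    · rw [h1, h2]
    · exact (huniq _ hr _ hy (Or.inl (by rw [h1, h2]))).elim
    · exact (huniq _ hr _ hy (Or.inr (by rw [h1, h2]))).elim
    · exact (huniq _ hy _ hr (Or.inl (by rw [h1, h2]))).elim
    · rw [h1, h2]
    · exact (huniq _ hr _ hy (Or.inl (by rw [h1, h2]))).elim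
    · exact (huniq _ hy _ hr (Or.inr (by rw [h1, h2]))).elim
    · exact (huniq _ hy _ hr (Or.inl (by rw [h1, h2]))).elim
    · rw [h1, h2]
  -- the moved points are three copies of the transversal
  have hS : ∏ x ∈ Finset.univ.filter (fun x => α x ≠ x), d x =
      ∏ y ∈ R, d y * d (α y) * d (α (α y)) := by
    rw [← Finset.prod_fiberwise_of_maps_to (t := R) (g := r)
      (fun x hx => (hrmem x (Finset.mem_filter.1 hx).2).1) d]
    refine Finset.prod_congr rfl fun y hy => ?_
    have hy' := hRmove y hy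
    obtain ⟨h1, h2⟩ := hne y hy'
    have hset : (Finset.univ.filter fun x => α x ≠ x).filter (fun x => r x = y) =
        {y, α y, α (α y)} := by
      ext x
      simp only [Finset.mem_filter, Finset.mem_univ, true_and, Finset.mem_insert, Finset.mem_singleton]
      constructor
      · rintro ⟨hx, rfl⟩
        rcases (hrmem x hx).2 with h3 | h3 | h3
        · exact Or.inl h3.symm
        · exact Or.inr (Or.inr (by rw [h3, hα]))
        · exact Or.inr (Or.inl (by rw [h3, hα]))
      · rintro (rfl | rfl | rfl)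
        · exact ⟨hy', hr_eq _ hy' _ hy (Or.inl rfl)⟩
        · have hm : α (α y) ≠ α y := h2
          exact ⟨hm, hr_eq _ hm _ hy (Or.inr (Or.inr (hα y).symm))⟩
        · have hm : α (α (α y)) ≠ α (α y) := by rw [hα]; exact h1.symm
          exact ⟨hm, hr_eq _ hm _ hy (Or.inr (Or.inl (hα y).symm))⟩
    rw [hset, Finset.prod_insert (by simp [hy'.symm, h1.symm]),
      Finset.prod_insert (by simp [h2.symm]), Finset.prod_singleton, mul_assoc]
  have hstep : ∀ y ∈ R, d y * d (α y) * d (α (α y)) = h (r (β y)) * (h y)⁻¹ := by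
    intro y hy
    have hy' := hRmove y hy
    rw [eq_mul_inv_iff_mul_eq, hrel y hy']
    rcases (hrmem _ (hmoveβ y hy')).2 with h3 | h3 | h3 <;> rw [h3] <;> simp [hinv]
  rw [hS, Finset.prod_congr rfl hstep, Finset.prod_mul_distrib, Finset.prod_inv_distrib]
  rw [mul_inv_eq_one]
  have key : ∀ x, α x ≠ x → ∀ y ∈ R, β (β (β x)) = x →
      (r x = y → r (β x) = r (β y)) := by
    intro x hx y hy _ hxy
    obtain ⟨hr, hrx⟩ := hrmem (β x) (hmoveβ x hx)
    refine (hr_eq (β y) (hmoveβ y (hRmove y hy)) _ hr ?_).symm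
    subst hxy
    rcases (hrmem x hx).2 with h3 | h3 | h3 <;> rcases hrx with h4 | h4 | h4 <;>
      rw [h3, h4] <;> simp [← hcomm, hα]
  refine Finset.prod_bij' (fun y _ => r (β y)) (fun z _ => r (β (β z)))
    (fun y hy => (hrmem _ (hmoveβ y (hRmove y hy))).1)
    (fun z hz => (hrmem _ (hmoveβ _ (hmoveβ z (hRmove z hz)))).1) ?_ ?_ (fun y _ => rfl)
  · intro y hy
    have hy' := hRmove y hy
    have h1 := key (β y) (hmoveβ y hy') (r (β y)) (hrmem _ (hmoveβ y hy')).1 (hβ _) rfl
    have h2 := key (β (β y)) (hmoveβ _ (hmoveβ y hy')) (r (β (β y)))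
      (hrmem _ (hmoveβ _ (hmoveβ y hy'))).1 (hβ _) rfl
    rw [hβ] at h2
    show r (β (β (r (β y)))) = y
    have h3 := key (β (r (β y))) (hmoveβ _ (hRmove _ (hrmem _ (hmoveβ y hy')).1))
      (r (β (β y))) (hrmem _ (hmoveβ _ (hmoveβ y hy'))).1 (hβ _) h1.symm
    rw [h3, ← h2]
    exact hr_eq y hy' y hy (Or.inl rfl)
  · intro z hz
    have hz' := hRmove z hz
    have hm2 := hmoveβ _ (hmoveβ z hz')
    have h1 := key (β (β z)) hm2 (r (β (β z))) (hrmem _ hm2).1 (hβ _) rfl
    rw [hβ] at h1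
    show r (β (r (β (β z)))) = z
    rw [← h1]
    exact hr_eq z hz' z hz (Or.inl rfl)

/-- Only the common fixed points contribute. -/
theorem prod_eq_fixed {α β : X → X} (hcomm : ∀ x, α (β x) = β (α x)) (hα : ∀ x, α (α (α x)) = x)
    (hβ : ∀ x, β (β (β x)) = x) (d h : X → Y) (hinv : ∀ x, h (α x) = h x)
    (hrel : ∀ x, α x ≠ x → d x * d (α x) * d (α (α x)) * h x = h (β x))
    (hfix : ∀ x, α x = x → β x ≠ x → d x * d (β x) * d (β (β x)) = 1) :
    ∏ x, d x = ∏ x ∈ Finset.univ.filter (fun x => α x = x ∧ β x = x), d x := by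
  classical
  have hβfix : ∀ x, α (β x) = β x ↔ α x = x := fun x => by
    rw [hcomm]
    refine ⟨fun h' => ?_, fun h' => by rw [h']⟩
    have := congrArg (fun y => β (β y)) h'
    simpa [hβ] using this
  let d' : X → Y := fun x => if α x = x then d x else 1
  have h2 := prod_moved (α := β) (β := id) (fun _ => rfl) hβ (fun _ => rfl) d' (fun _ => 1)
    (fun _ => rfl) (fun x hx => by
      rw [mul_one]
      by_cases hxa : α x = x
      · have e1 : α (β x) = β x := (hβfix x).2 hxa
        have e2 : α (β (β x)) = β (β x) := (hβfix _).2 e1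
        simp only [d', if_pos hxa, if_pos e1, if_pos e2]
        exact hfix x hxa hx
      · have e1 : ¬ α (β x) = β x := fun he => hxa ((hβfix x).1 he)
        have e2 : ¬ α (β (β x)) = β (β x) := fun he => e1 ((hβfix _).1 he)
        simp only [d', if_neg hxa, if_neg e1, if_neg e2, mul_one])
  rw [← Finset.prod_filter_mul_prod_filter_not Finset.univ (fun x => α x = x) d,
    prod_moved hcomm hα hβ d h hinv hrel, mul_one,
    ← Finset.prod_filter_mul_prod_filter_not (Finset.univ.filter fun x => α x = x) (fun x => β x = x) d,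
    Finset.filter_filter]
  have h3 : ∏ x ∈ (Finset.univ.filter fun x => α x = x).filter (fun x => ¬ β x = x), d x =
      ∏ x ∈ Finset.univ.filter (fun x => β x ≠ x), d' x := by
    rw [Finset.filter_filter]
    simp only [d', ← Finset.prod_filter, Finset.filter_filter]
    exact Finset.prod_congr (Finset.filter_congr fun x _ => and_comm) fun _ _ => rfl
  rw [h3, h2, mul_one]

end perm

theorem central_three {H : Type*} [Group H] {p q r : H} (hq : ∀ e, e * q = q * e)
    (hr : ∀ e, e * r = r * e) (X Y Z : H) : p * X * (q * Y) * (r * Z) = p * q * r * (X * Y * Z) := by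
  calc p * X * (q * Y) * (r * Z) = p * (X * q) * (Y * r) * Z := by group
    _ = p * (q * X) * (r * Y) * Z := by rw [hq X, hr Y]
    _ = p * q * (X * r) * Y * Z := by group
    _ = p * q * (r * X) * Y * Z := by rw [hr X]
    _ = _ := by group

theorem central_conj {H : Type*} [Group H] {p q r : H} (hq : ∀ e, e * q = q * e)
    (hr : ∀ e, e * r = r * e) {A B0 B1 B2 : H} (hc : B2 * B1 * B0 * A = A * (B2 * B1 * B0))
    (h : A = p * (B2 * (q * (B1 * (r * (B0 * A * B0⁻¹)) * B1⁻¹)) * B2⁻¹)) : p * q * r = 1 := by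
  have h2 : A = p * q * r * A := by
    calc A = p * ((B2 * q) * (B1 * r) * (B0 * A * B0⁻¹ * B1⁻¹ * B2⁻¹)) := h.trans (by group)
      _ = p * (q * B2 * (r * B1) * (B0 * A * B0⁻¹ * B1⁻¹ * B2⁻¹)) := by rw [hq B2, hr B1]
      _ = p * q * (B2 * r) * B1 * (B0 * A * B0⁻¹ * B1⁻¹ * B2⁻¹) := by group
      _ = p * q * (r * B2) * B1 * (B0 * A * B0⁻¹ * B1⁻¹ * B2⁻¹) := by rw [hr B2]
      _ = p * q * r * (B2 * B1 * B0 * A) * (B2 * B1 * B0)⁻¹ := by group
      _ = p * q * r * A := by rw [hc]; group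
  exact mul_eq_right.1 h2.symm

variable {G : Type u} [Group G] (U : Subgroup G)

/-- The value of a corestricted cocycle on a commuting pair of elements of order dividing three. -/
theorem cores_pair [Finite G] {Y : Type v} [CommGroup Y] (κ : Cocycle U Y) (a b : G)
    (hab : a * b = b * a) (ha : a ^ 3 = 1) (hb : b ^ 3 = 1) [Fintype (G ⧸ U)]
    [DecidableEq (G ⧸ U)] :
    (cores U κ).f a b * ((cores U κ).f b a)⁻¹ =
      ∏ x ∈ Finset.univ.filter (fun x : G ⧸ U => a • x = x ∧ b • x = x),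
        κ.f (cpart U a x) (cpart U b x) * (κ.f (cpart U b x) (cpart U a x))⁻¹ := by
  classical
  have hcentral : ∀ (y : Y) (e : Ext κ), e * incl κ y = incl κ y * e := fun y e =>
    Subgroup.mem_center_iff.1 (SchurMultiplierExt.ker_le_center κ (show incl κ y ∈ _ from rfl)) e
  let Fa : G ⧸ U → Ext κ := fun x => ⟨1, cpart U a x⟩
  let Fb : G ⧸ U → Ext κ := fun x => ⟨1, cpart U b x⟩
  let d : G ⧸ U → Y := fun x => κ.f (cpart U a (b • x)) (cpart U b x) *
    (κ.f (cpart U b (a • x)) (cpart U a x))⁻¹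
  have hcab : ∀ x, cpart U a (b • x) * cpart U b x = cpart U b (a • x) * cpart U a x := fun x => by
    rw [← cpart_mul, ← cpart_mul, hab]
  have hpair : ∀ x, Fa (b • x) * Fb x = incl κ (d x) * (Fb (a • x) * Fa x) := by
    intro x
    ext
    · show (1 : Y) * 1 * κ.f (cpart U a (b • x)) (cpart U b x) =
        d x * (1 * 1 * κ.f (cpart U b (a • x)) (cpart U a x)) *
          κ.f 1 (cpart U b (a • x) * cpart U a x)
      rw [κ.one_left]
      simp [d]
    · show ((cpart U a (b • x) * cpart U b x : U) : G) = ((1 * (cpart U b (a • x) * cpart U a x) : U) : G)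
      rw [one_mul, hcab]
  have hrelA : ∀ x, Fa (b • x) = incl κ (d x) * (Fb (a • x) * Fa x * (Fb x)⁻¹) := fun x => by
    rw [← mul_assoc, eq_mul_inv_iff_mul_eq, hpair]
  have cycle : ∀ (g : G) (F : G ⧸ U → Ext κ), (∀ x, (F x).g = cpart U g x) → g ^ 3 = 1 →
      ∀ x, ∃ y : Y, F (g • g • x) * F (g • x) * F x = incl κ y := by
    intro g F hF hg x
    refine ⟨(F (g • g • x) * F (g • x) * F x).z, Ext.ext rfl ?_⟩
    show ((F (g • g • x)).g * (F (g • x)).g) * (F x).g = 1
    rw [hF, hF, hF, mul_assoc, ← cpart_mul, smul_smul, ← cpart_mul,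
      show g * (g * g) = 1 by rw [← hg]; simp [pow_succ, mul_assoc], cpart_one]
  choose h hh using cycle a Fa (fun _ => rfl) ha
  choose hB hhB using cycle b Fb (fun _ => rfl) hb
  have h3 : ∀ (g : G), g ^ 3 = 1 → ∀ x : G ⧸ U, g • g • g • x = x := fun g hg x => by
    rw [smul_smul, smul_smul, show g * g * g = 1 by rw [← hg]; simp [pow_succ], one_smul]
  have hinv : ∀ x, h (a • x) = h x := by
    intro x
    apply SchurMultiplierExt.incl_injective κ
    rw [← hh, h3 a ha]
    calc Fa x * Fa (a • a • x) * Fa (a • x)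
        = Fa x * (Fa (a • a • x) * Fa (a • x) * Fa x) * (Fa x)⁻¹ := by group
      _ = incl κ (h x) := by rw [hh, hcentral, mul_inv_cancel_right]
  have hswap : ∀ x : G ⧸ U, b • a • x = a • b • x := fun x => by rw [smul_smul, smul_smul, hab]
  have hrel : ∀ x, a • x ≠ x → d x * d (a • x) * d (a • a • x) * h x = h (b • x) := by
    intro x _
    apply SchurMultiplierExt.incl_injective κ
    rw [← hh (b • x), ← hswap, ← hswap, hrelA, hrelA, hrelA, h3 a ha,
      central_three (hcentral _) (hcentral _)]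
    rw [show d x * d (a • x) * d (a • a • x) = d (a • a • x) * d (a • x) * d x by ac_rfl,
      map_mul, map_mul, map_mul]
    refine congrArg _ ?_
    calc incl κ (h x) = Fb x * incl κ (h x) * (Fb x)⁻¹ := by
          rw [hcentral, mul_inv_cancel_right]
      _ = Fb x * (Fa (a • a • x) * Fa (a • x) * Fa x) * (Fb x)⁻¹ := by rw [hh]
      _ = _ := by group
  have hfix : ∀ x, a • x = x → b • x ≠ x → d x * d (b • x) * d (b • b • x) = 1 := by
    intro x hax _
    have ha1 : a • (b • x) = b • x := by rw [← hswap, hax]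
    have ha2 : a • (b • b • x) = b • b • x := by rw [← hswap, ha1]
    have e0 := hrelA x
    rw [hax] at e0
    have e1 := hrelA (b • x)
    rw [ha1, e0] at e1
    have e2 := hrelA (b • b • x)
    rw [ha2, e1, h3 b hb] at e2
    apply SchurMultiplierExt.incl_injective κ
    rw [show d x * d (b • x) * d (b • b • x) = d (b • b • x) * d (b • x) * d x by ac_rfl,
      map_one, map_mul, map_mul]
    exact central_conj (hcentral _) (hcentral _) (by rw [hhB, hcentral]) e2
  have hT : (cores U κ).f a b * ((cores U κ).f b a)⁻¹ = ∏ x, d x := by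
    simp only [cores, d, Finset.prod_mul_distrib, Finset.prod_inv_distrib]
    congr!
  rw [hT, prod_eq_fixed (α := fun x => a • x) (β := fun x => b • x)
    (fun x => (hswap x).symm) (h3 a ha) (h3 b hb) d h hinv hrel hfix]
  refine Finset.prod_congr rfl fun x hx => ?_
  obtain ⟨-, h1, h2⟩ := Finset.mem_filter.1 hx
  simp [d, h1, h2]

/-- The data of a criterion for a nontrivial multiplier. -/
theorem mult_ne_bot [Finite G] {Δ : Type v} [Group Δ] (σ : Δ →* U) (hs : Function.Surjective σ)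
    (hc : σ.ker ≤ Subgroup.center Δ) (a b : G) (hab : a * b = b * a) (ha : a ^ 3 = 1)
    (hb : b ^ 3 = 1) {m : ℕ} (g : Fin m → G)
    (hinj : ∀ i j, (g i : G ⧸ U) = g j → i = j)
    (hfix : ∀ i, a • (g i : G ⧸ U) = g i ∧ b • (g i : G ⧸ U) = g i)
    (hall : ∀ x : G ⧸ U, a • x = x → b • x = x → ∃ i, (g i : G ⧸ U) = x)
    (A B : Fin m → Δ) (hA : ∀ i, ((σ (A i) : U) : G) = (g i)⁻¹ * a * g i)
    (hB : ∀ i, ((σ (B i) : U) : G) = (g i)⁻¹ * b * g i)
    (z : Δ) (hz : σ z = 1) (hz3 : z ^ 3 = 1) (hz1 : z ≠ 1) (e : Fin m → ℕ)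
    (he : ∀ i, A i * B i = z ^ e i * (B i * A i)) (hsum : ¬ 3 ∣ ∑ i, e i) :
    SchurMultiplierCover.mult G ≠ ⊥ := by
  classical
  let _ := Fintype.ofFinite (G ⧸ U)
  letI : CommGroup σ.ker :=
    { (inferInstance : Group σ.ker) with
      mul_comm := fun p q => Subtype.ext (Subgroup.mem_center_iff.1 (hc q.2) p) }
  let s : U → Δ := fun u => if u = 1 then 1 else Function.surjInv hs u
  have hσs : ∀ u, σ (s u) = u := fun u => by
    simp only [s]
    split_ifs with hu
    · rw [map_one, hu]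
    · exact Function.surjInv_eq hs u
  have hs1 : s 1 = 1 := if_pos rfl
  have hmem : ∀ u v, s u * s v * (s (u * v))⁻¹ ∈ σ.ker := fun u v => by
    rw [MonoidHom.mem_ker, map_mul, map_mul, map_inv, hσs, hσs, hσs, mul_inv_cancel]
  let κ : Cocycle U σ.ker :=
    { f := fun u v => ⟨_, hmem u v⟩
      one_left := fun u => Subtype.ext (by
        show s 1 * s u * (s (1 * u))⁻¹ = 1
        rw [hs1, one_mul, one_mul, mul_inv_cancel])
      one_right := fun u => Subtype.ext (by
        show s u * s 1 * (s (u * 1))⁻¹ = 1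
        rw [hs1, mul_one, mul_one, mul_inv_cancel])
      assoc := fun p q r => Subtype.ext (by
        show s p * s q * (s (p * q))⁻¹ * (s (p * q) * s r * (s (p * q * r))⁻¹) =
          s q * s r * (s (q * r))⁻¹ * (s p * s (q * r) * (s (p * (q * r)))⁻¹)
        calc _ = s p * (s q * s r * (s (q * r))⁻¹) * s (q * r) * (s (p * (q * r)))⁻¹ := by
              rw [mul_assoc p q r]; group
          _ = _ := by rw [Subgroup.mem_center_iff.1 (hc (hmem q r)) (s p)]; group) }
  -- the pairing is the commutator of arbitrary lifts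
  have hlift : ∀ (u v : U) (P Q : Δ), σ P = u → σ Q = v → u * v = v * u →
      ((κ.f u v * (κ.f v u)⁻¹ : σ.ker) : Δ) * (Q * P) = P * Q := by
    intro u v P Q hP hQ huv
    show (s u * s v * (s (u * v))⁻¹) * (s v * s u * (s (v * u))⁻¹)⁻¹ * (Q * P) = P * Q
    obtain ⟨p, hp, rfl⟩ : ∃ p ∈ σ.ker, P = s u * p :=
      ⟨(s u)⁻¹ * P, by rw [MonoidHom.mem_ker, map_mul, map_inv, hσs, hP, inv_mul_cancel], by group⟩
    obtain ⟨q, hq, rfl⟩ : ∃ q ∈ σ.ker, Q = s v * q :=
      ⟨(s v)⁻¹ * Q, by rw [MonoidHom.mem_ker, map_mul, map_inv, hσs, hQ, inv_mul_cancel], by group⟩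
    have cp : ∀ y, y * p = p * y := Subgroup.mem_center_iff.1 (hc hp)
    have cq : ∀ y, y * q = q * y := Subgroup.mem_center_iff.1 (hc hq)
    rw [huv]
    calc _ = s u * s v * ((s u)⁻¹ * (s v)⁻¹) * (s v * (q * (s u * p))) := by group
      _ = s u * s v * ((s u)⁻¹ * (s v)⁻¹) * (s v * (s u * p * q)) := by rw [← cq (s u * p)]
      _ = s u * s v * p * q := by group
      _ = s u * (s v * p) * q := by group
      _ = s u * p * (s v * q) := by rw [cp (s v)]; group
  set T := cores U κ with hT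
  intro hbot
  obtain ⟨Φ, hΦ⟩ := SchurMultiplierCover.exists_lift (SchurMultiplierExt.proj T)
    (SchurMultiplierExt.proj_surjective T) (SchurMultiplierExt.ker_le_center T) (MonoidHom.id G)
  rw [MonoidHom.id_comp] at hΦ
  have hm : ⁅SchurMultiplierCover.gen G a, SchurMultiplierCover.gen G b⁆ ∈ SchurMultiplierCover.mult G := by
    refine ⟨?_, Subgroup.commutator_mem_commutator (Subgroup.mem_top _) (Subgroup.mem_top _)⟩
    show SchurMultiplierCover.proj G _ = 1
    rw [map_commutatorElement, SchurMultiplierCover.proj_gen, SchurMultiplierCover.proj_gen,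
      commutatorElement_eq_one_iff_mul_comm, hab]
  rw [hbot, Subgroup.mem_bot] at hm
  have hzero : T.f a b * (T.f b a)⁻¹ = 1 := by
    apply SchurMultiplierExt.incl_injective T
    rw [map_one, ← SchurMultiplierExt.commutator_lift T hab, ← map_one Φ, ← hm, map_commutatorElement]
    obtain ⟨za, hza⟩ : ∃ za ∈ Subgroup.center (Ext T), Φ (SchurMultiplierCover.gen G a) = ⟨1, a⟩ * za :=
      ⟨(⟨1, a⟩ : Ext T)⁻¹ * Φ (SchurMultiplierCover.gen G a), SchurMultiplierExt.ker_le_center T (by
        show SchurMultiplierExt.proj T _ = 1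
        rw [map_mul, map_inv, ← MonoidHom.comp_apply (SchurMultiplierExt.proj T) Φ, hΦ,
          SchurMultiplierCover.proj_gen]
        exact inv_mul_cancel a), by group⟩
    obtain ⟨zb, hzb⟩ : ∃ zb ∈ Subgroup.center (Ext T), Φ (SchurMultiplierCover.gen G b) = ⟨1, b⟩ * zb :=
      ⟨(⟨1, b⟩ : Ext T)⁻¹ * Φ (SchurMultiplierCover.gen G b), SchurMultiplierExt.ker_le_center T (by
        show SchurMultiplierExt.proj T _ = 1
        rw [map_mul, map_inv, ← MonoidHom.comp_apply (SchurMultiplierExt.proj T) Φ, hΦ,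
          SchurMultiplierCover.proj_gen]
        exact inv_mul_cancel b), by group⟩
    rw [hza.2, hzb.2, SchurMultiplierCover.commutatorElement_mul_center hza.1 hzb.1]
  rw [hT, cores_pair U κ a b hab ha hb] at hzero
  -- each fixed coset
  let zK : σ.ker := ⟨z, hz⟩
  have hterm : ∀ i, κ.f (cpart U a (g i : G ⧸ U)) (cpart U b (g i : G ⧸ U)) *
      (κ.f (cpart U b (g i : G ⧸ U)) (cpart U a (g i : G ⧸ U)))⁻¹ = zK ^ e i := by
    intro i
    obtain ⟨h1, h2⟩ := hfix i
    obtain ⟨w, hw⟩ : ∃ w : U, ((g i : G ⧸ U).out) = g i * w :=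
      ⟨⟨(g i)⁻¹ * (g i : G ⧸ U).out, by rw [← QuotientGroup.eq, QuotientGroup.out_eq']⟩, by
        show _ = g i * ((g i)⁻¹ * _); group⟩
    obtain ⟨W, hW⟩ := hs w
    have hu : cpart U a (g i : G ⧸ U) = w⁻¹ * σ (A i) * w := by
      apply Subtype.ext
      show ((a • (g i : G ⧸ U)).out)⁻¹ * a * (g i : G ⧸ U).out = _
      rw [h1, hw, Subgroup.coe_mul, Subgroup.coe_mul, Subgroup.coe_inv, hA]; group
    have hv : cpart U b (g i : G ⧸ U) = w⁻¹ * σ (B i) * w := by
      apply Subtype.ext
      show ((b • (g i : G ⧸ U)).out)⁻¹ * b * (g i : G ⧸ U).out = _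
      rw [h2, hw, Subgroup.coe_mul, Subgroup.coe_mul, Subgroup.coe_inv, hB]; group
    have huv : cpart U a (g i : G ⧸ U) * cpart U b (g i : G ⧸ U) =
        cpart U b (g i : G ⧸ U) * cpart U a (g i : G ⧸ U) := by
      have := cpart_mul U a b (g i : G ⧸ U)
      rw [h2, hab, cpart_mul U b a, h1] at this
      exact this.symm
    have h3 := hlift _ _ (W⁻¹ * A i * W) (W⁻¹ * B i * W) (by rw [hu, map_mul, map_mul, map_inv, hW])
      (by rw [hv, map_mul, map_mul, map_inv, hW]) huv
    apply Subtype.ext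
    apply mul_right_cancel (b := (W⁻¹ * B i * W) * (W⁻¹ * A i * W))
    rw [h3, SubgroupClass.coe_pow]
    show _ = z ^ e i * _
    have hzc : W⁻¹ * z ^ e i = z ^ e i * W⁻¹ :=
      Subgroup.mem_center_iff.1 (Subgroup.pow_mem _ (hc hz) _) W⁻¹
    calc W⁻¹ * A i * W * (W⁻¹ * B i * W) = W⁻¹ * (A i * B i) * W := by group
      _ = W⁻¹ * z ^ e i * (B i * A i) * W := by rw [he i]; group
      _ = z ^ e i * (W⁻¹ * B i * W * (W⁻¹ * A i * W)) := by rw [hzc]; group
  have hset : Finset.univ.filter (fun x : G ⧸ U => a • x = x ∧ b • x = x) =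
      Finset.univ.image (fun i => (g i : G ⧸ U)) := by
    ext x
    simp only [Finset.mem_filter, Finset.mem_univ, true_and, Finset.mem_image]
    exact ⟨fun hx => hall x hx.1 hx.2, fun ⟨i, hi⟩ => hi ▸ hfix i⟩
  rw [hset, Finset.prod_image fun i _ j _ => hinj i j, Finset.prod_congr rfl fun i _ => hterm i,
    Finset.prod_pow_eq_pow_sum] at hzero
  have hz0 : z ^ (∑ i, e i) = 1 := by simpa [zK] using congrArg Subtype.val hzero
  refine hz1 ?_
  have hd : orderOf z ∣ 1 := by
    have h1 := orderOf_dvd_of_pow_eq_one hz3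
    have h2 := orderOf_dvd_of_pow_eq_one hz0
    have := Nat.dvd_gcd h1 h2
    rwa [(Nat.Prime.coprime_iff_not_dvd Nat.prime_three).2 hsum] at this
  rwa [Nat.dvd_one, orderOf_eq_one_iff] at hd

end Cfsg.Agent.TransferPairing40
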