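import Cfsg.Agent.Lib.McLMultUpper40
import Cfsg.Agent.Lib.McLMultCoverData40
import Cfsg.Agent.Lib.TransferPairing40

/-!
The corestriction of an extension of the stabiliser of two adjacent points is not split.
-/

set_option autoImplicit false
set_option maxRecDepth 20000

namespace Cfsg.Agent.McLMultCover40

open Subgroup Cfsg.Agent.PermImageCert Cfsg.Agent.PermWordCert Cfsg.Agent.McLMultBase40
open Cfsg.Agent.McLMultUpper40 Cfsg.Agent.McLMultCoverData40

/-- codes on eighteen letters -/
def T18 : List ℕ := uLift ++ vLift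

theorem T18_ok : T18.all (fun c => allBelow (fun k => Nat.blt (get c k) 18 &&
    (List.range 18).any fun j => Nat.beq (get c j) k) 18) = true := by decide +kernel

theorem exists_rep18 {c : ℕ} (hc : c ∈ T18) :
    ∃ σ : Equiv.Perm (Fin 18), σ ∈ (⊤ : Subgroup (Equiv.Perm (Fin 18))) ∧ Rep σ c := by
  have h := List.all_eq_true.mp T18_ok c hc
  have h1 : ∀ k : Fin 18, get c k < 18 := fun k => by
    have := allBelow_spec h k k.2
    simp only [Bool.and_eq_true, Nat.blt_eq] at this
    exact this.1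
  let f : Fin 18 → Fin 18 := fun k => ⟨get c k, h1 k⟩
  have hs : Function.Surjective f := fun k => by
    have := allBelow_spec h k k.2
    simp only [Bool.and_eq_true, List.any_eq_true, List.mem_range, Nat.beq_eq] at this
    obtain ⟨j, hj, hjk⟩ := this.2
    exact ⟨⟨j, hj⟩, Fin.ext hjk⟩
  exact ⟨Equiv.ofBijective f ⟨Finite.injective_iff_surjective.2 hs, hs⟩, trivial, fun _ => rfl⟩

theorem exists_e18 (i : ℕ) : ∃ g : Equiv.Perm (Fin 18), i < T18.length → Act T18 [i] g := by
  by_cases h : i < T18.length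
  · obtain ⟨σ, -, hσa⟩ := exists_act (fun c hc => exists_rep18 hc) [i] (by simpa [wordOK] using h)
    exact ⟨σ, fun _ => hσa⟩
  · exact ⟨1, fun h' => absurd h' h⟩

/-- the permutation of a letter -/
noncomputable def e18 (i : ℕ) : Equiv.Perm (Fin 18) := (exists_e18 i).choose

/-- the permutation of a word -/
noncomputable def ev18 (w : List ℕ) : Equiv.Perm (Fin 18) := (w.map e18).prod

theorem ev18_append (u w : List ℕ) : ev18 (u ++ w) = ev18 u * ev18 w := by simp [ev18]

theorem act18 : ∀ w, wordOK T18 w = true → Act T18 w (ev18 w)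
  | [], _ => act_nil
  | i :: w, h => by
    simp only [wordOK, List.all_cons, Bool.and_eq_true, Nat.blt_eq] at h
    rw [show ev18 (i :: w) = e18 i * ev18 w from List.prod_cons]
    exact ((exists_e18 i).choose_spec h.1).mul (act18 w h.2)

/-- the same permutation -/
noncomputable def eq18 (u w : List ℕ) : Bool :=
  wordOK T18 u && wordOK T18 w && allBelow (fun k => Nat.beq (walk T18 u k) (walk T18 w k)) 18

theorem ev18_eq {u w : List ℕ} (h : eq18 u w = true) : ev18 u = ev18 w := by
  simp only [eq18, Bool.and_eq_true] at h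
  refine Equiv.ext fun k => Fin.ext ?_
  rw [act18 u h.1.1 k, act18 w h.1.2 k]
  have := allBelow_spec h.2 k k.2
  rwa [Nat.beq_eq] at this

/-- pairs -/
abbrev PP : Type := P × Equiv.Perm (Fin 18)

/-- a pair of words -/
noncomputable def pr (q : List ℕ × List ℕ) : PP := (ev q.1, ev18 q.2)

/-- the words of a word in the generators -/
def uW (w : List ℕ) : List ℕ × List ℕ := (glob uGen w, w)

theorem pr_uW_append (u w : List ℕ) : pr (uW (u ++ w)) = pr (uW u) * pr (uW w) := by
  simp [pr, uW, glob, ev_append, ev18_append]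

/-- equality of pairs of words -/
noncomputable def eqP (q q' : List ℕ × List ℕ) : Bool := eqW q.1 q'.1 && eq18 q.2 q'.2

theorem pr_eq {q q' : List ℕ × List ℕ} (h : eqP q q' = true) : pr q = pr q' := by
  simp only [eqP, Bool.and_eq_true] at h
  exact Prod.ext (ev_eq h.1) (ev18_eq h.2)

/-- append componentwise -/
def app (q q' : List ℕ × List ℕ) : List ℕ × List ℕ := (q.1 ++ q'.1, q.2 ++ q'.2)

theorem pr_app (q q' : List ℕ × List ℕ) : pr (app q q') = pr q * pr q' := by
  simp [pr, app, ev_append, ev18_append]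

/-! ### the normal subgroup -/

/-- words of the five generators of the normal subgroup -/
def vW (i : ℕ) : List ℕ × List ℕ :=
  (if i < 4 then [vGen.getD i 0] else [], [uLift.length + i])

/-- the generators -/
noncomputable def vEl (i : ℕ) : PP := pr (vW i)

theorem v_ok : ((List.range 5).all fun i => eqP (app (vW i) (app (vW i) (vW i))) ([], []) &&
    (List.range 5).all fun j => eqP (app (vW i) (vW j)) (app (vW j) (vW i))) = true := by
  decide +kernel

theorem vEl_cube {i : ℕ} (hi : i < 5) : vEl i ^ 3 = 1 := by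
  have h := List.all_eq_true.mp v_ok i (List.mem_range.2 hi)
  simp only [Bool.and_eq_true] at h
  rw [pow_three, vEl, ← pr_app, ← pr_app, pr_eq h.1]
  rfl

theorem vEl_comm {i j : ℕ} (hi : i < 5) (hj : j < 5) : vEl i * vEl j = vEl j * vEl i := by
  have h := List.all_eq_true.mp v_ok i (List.mem_range.2 hi)
  simp only [Bool.and_eq_true, List.all_eq_true] at h
  rw [vEl, vEl, ← pr_app, pr_eq (h.2 j (List.mem_range.2 hj)), pr_app]

/-- the subgroup they generate -/
noncomputable def V : Subgroup PP := closure (vEl '' Set.Iio 5)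

theorem card_V : Nat.card V ≤ 243 := by
  have main : ∀ n ≤ 5, Nat.card (closure (vEl '' Set.Iio n)) ≤ 3 ^ n := by
    intro n
    induction n with
    | zero =>
      intro _
      rw [show Set.Iio 0 = (∅ : Set ℕ) by ext; simp, Set.image_empty, Subgroup.closure_empty]
      simp
    | succ n ih =>
      intro hn
      have hset : Set.Iio (n + 1) = insert n (Set.Iio n) := by
        ext x; simp only [Set.mem_Iio, Set.mem_insert_iff]; omega
      rw [hset, Set.image_insert_eq, pow_succ']
      refine (CenSplitStableP50.card_step _ (vEl '' Set.Iio n) (vEl n) (by norm_num) rfl ?_ ?_).trans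
        (Nat.mul_le_mul_left 3 (ih (by omega)))
      · rw [vEl_cube (by omega)]; exact one_mem _
      · rintro _ ⟨j, hj, rfl⟩
        have hj' : j < n := hj
        exact ⟨vEl j, subset_closure ⟨j, hj, rfl⟩, vEl_comm (by omega) (by omega)⟩
  exact main 5 le_rfl

/-- words of an element of the subgroup -/
def vc (c : ℕ) : List ℕ × List ℕ :=
  app (app (app (app (rep (c / 81) 0) (rep (c / 27) 1)) (rep (c / 9) 2)) (rep (c / 3) 3)) (rep c 4)
where
  /-- a power of one generator -/
  rep (e i : ℕ) : List ℕ × List ℕ :=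
    if e % 3 = 1 then vW i else if e % 3 = 2 then app (vW i) (vW i) else ([], [])

theorem rep_mem (e : ℕ) {i : ℕ} (hi : i < 5) : pr (vc.rep e i) ∈ V := by
  have h : vEl i ∈ V := subset_closure ⟨i, hi, rfl⟩
  unfold vc.rep
  split_ifs
  · exact h
  · rw [pr_app]; exact mul_mem h h
  · exact one_mem _

theorem vc_mem (c : ℕ) : pr (vc c) ∈ V := by
  simp only [vc, pr_app]
  refine mul_mem (mul_mem (mul_mem (mul_mem ?_ ?_) ?_) ?_) ?_ <;> exact rep_mem _ (by norm_num)

/-! ### the extension -/

/-- the extension -/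
noncomputable def Δ : Subgroup PP := closure {x | ∃ i < uGen.length, x = pr (uW [i])}

theorem table_ok : (decide (reps.length = 360) && reps.elem [] &&
    reps.all (fun w => w.all fun a => decide (a < uGen.length)) &&
    (List.range 360).all fun j => (List.range uGen.length).all fun i =>
      decide ((table.getD j []).getD i 0 < 360 * 243) &&
      eqP (uW (i :: reps.getD j [])) (app (uW (reps.getD ((table.getD j []).getD i 0 / 243) []))
        (vc ((table.getD j []).getD i 0 % 243)))) = true := by decide +kernel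

theorem uW_mem : ∀ {w : List ℕ}, (∀ a ∈ w, a < uGen.length) → pr (uW w) ∈ Δ
  | [], _ => one_mem _
  | a :: w, h => by
    rw [show a :: w = [a] ++ w from rfl, pr_uW_append]
    exact mul_mem (subset_closure ⟨a, h a List.mem_cons_self, rfl⟩)
      (uW_mem fun b hb => h b (List.mem_cons_of_mem _ hb))

theorem card_Δ : Nat.card Δ ≤ 87480 := by
  have h := table_ok
  simp only [Bool.and_eq_true, decide_eq_true_eq, List.all_eq_true, List.mem_range,
    List.elem_iff] at h
  obtain ⟨⟨⟨hlen, hnil⟩, -⟩, htab⟩ := h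
  let f : Fin 360 × V → PP := fun q => pr (uW (reps.getD q.1 [])) * (q.2 : PP)
  have hsub : (Δ : Set PP) ⊆ Set.range f := by
    intro g hg
    rw [SetLike.mem_coe, ← Subgroup.mem_toSubmonoid, Δ, closure_toSubmonoid_of_finite] at hg
    induction hg using Submonoid.closure_induction_left with
    | one =>
      obtain ⟨j, hj, hje⟩ := List.getElem_of_mem hnil
      refine ⟨(⟨j, hlen ▸ hj⟩, 1), ?_⟩
      show pr (uW (reps.getD j [])) * 1 = 1
      rw [List.getD_eq_getElem _ _ hj, hje, mul_one]; rfl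
    | mul_left a ha y _ ih =>
      obtain ⟨i, hi, rfl⟩ := ha
      obtain ⟨⟨j, v⟩, rfl⟩ := ih
      obtain ⟨h1, h2⟩ := htab j j.2 i hi
      refine ⟨(⟨(table.getD j []).getD i 0 / 243, Nat.div_lt_of_lt_mul (by omega)⟩,
        ⟨_, mul_mem (vc_mem ((table.getD j []).getD i 0 % 243)) v.2⟩), ?_⟩
      have e := pr_eq h2
      rw [show i :: reps.getD (j : ℕ) [] = [i] ++ reps.getD (j : ℕ) [] from rfl, pr_uW_append,
        pr_app] at e
      simp only [f]
      rw [← mul_assoc, ← e, mul_assoc]
  rw [← SetLike.coe_sort_coe, Nat.card_coe_set_eq]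
  refine (Set.ncard_le_ncard hsub (Set.toFinite _)).trans ?_
  rw [← Nat.card_coe_set_eq]
  refine (Finite.card_range_le f).trans ?_
  rw [Nat.card_prod, Nat.card_fin]
  exact (Nat.mul_le_mul_left 360 card_V).trans (by norm_num)

/-- the stabiliser of two adjacent points -/
def U : Subgroup P where
  carrier := {g | (g : Equiv.Perm (Fin 275)) 83 = 83 ∧ (g : Equiv.Perm (Fin 275)) 96 = 96}
  one_mem' := ⟨rfl, rfl⟩
  mul_mem' {a b} ha hb := by
    refine ⟨?_, ?_⟩
    · show (a : Equiv.Perm (Fin 275)) ((b : Equiv.Perm (Fin 275)) 83) = 83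
      rw [hb.1, ha.1]
    · show (a : Equiv.Perm (Fin 275)) ((b : Equiv.Perm (Fin 275)) 96) = 96
      rw [hb.2, ha.2]
  inv_mem' {a} ha := by
    refine ⟨?_, ?_⟩
    · show (a : Equiv.Perm (Fin 275))⁻¹ 83 = 83
      rw [Equiv.Perm.inv_eq_iff_eq, ha.1]
    · show (a : Equiv.Perm (Fin 275))⁻¹ 96 = 96
      rw [Equiv.Perm.inv_eq_iff_eq, ha.2]

theorem uGen_fix : ((List.range uGen.length).all fun i => wordOK TT [uGen.getD i 0] &&
    Nat.beq (walk TT [uGen.getD i 0] 83) 83 && Nat.beq (walk TT [uGen.getD i 0] 96) 96) = true := by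
  decide +kernel

theorem fst_mem {x : PP} (hx : x ∈ Δ) : x.1 ∈ U := by
  induction hx using closure_induction with
  | mem x hx =>
    obtain ⟨i, hi, rfl⟩ := hx
    have h := List.all_eq_true.mp uGen_fix i (List.mem_range.2 hi)
    simp only [Bool.and_eq_true, Nat.beq_eq] at h
    exact ⟨Fin.ext ((ev_apply h.1.1 83).trans h.1.2), Fin.ext ((ev_apply h.1.1 96).trans h.2)⟩
  | one => exact one_mem U
  | mul x y _ _ hx hy => exact mul_mem hx hy
  | inv x _ hx => exact inv_mem hx

/-- the projection -/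
noncomputable def σ : Δ →* U :=
  ((MonoidHom.fst P (Equiv.Perm (Fin 18))).comp Δ.subtype).codRestrict U fun x => fst_mem x.2

theorem chain_ok : chainOK 275 (uGen.map fun i => TT.getD i 0) [96, 83] uChain = true ∧
    chainSize uChain = 29160 := by decide +kernel

theorem pair_chain_ok : chainOK 275 McLInvolution.T [] (McLInvolutionData.chain5.take 2) = true ∧
    chainSize (McLInvolutionData.chain5.take 2) = 30800 ∧
    ((McLInvolutionData.chain5.take 2).map Prod.fst).reverse ++ [] = [96, 83] := by decide +kernel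

theorem card_U : Nat.card U ≤ 29160 := by
  have h := chain_mul McLInvolution.hT _ [] pair_chain_ok.1
  rw [fixSub_nil, pair_chain_ok.2.1, pair_chain_ok.2.2, McLInvolution.card_P] at h
  have hle : Nat.card U ≤ Nat.card (fixSub P [96, 83]) := by
    refine Nat.card_le_card_of_injective (fun g => (⟨((g : P) : Equiv.Perm (Fin 275)), g.1.2,
      fun k hk => ?_⟩ : fixSub P [96, 83])) fun g g' e => ?_
    · simp only [List.mem_cons, List.not_mem_nil, or_false] at hk
      rcases hk with hk | hk
      · rw [show k = 96 from Fin.ext hk]; exact g.2.2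
      · rw [show k = 83 from Fin.ext hk]; exact g.2.1
    · exact Subtype.ext (Subtype.ext (congrArg Subtype.val e :))
  change 30800 * Nat.card (fixSub P [96, 83]) ≤ 898128000 at h
  omega

theorem le_card_range : 29160 ≤ Nat.card σ.range := by
  let W : Subgroup (Equiv.Perm (Fin 275)) := (σ.range.map U.subtype).map P.subtype
  have hT : ∀ c ∈ uGen.map (fun i => TT.getD i 0), ∃ s ∈ W, Rep s c := by
    intro c hc
    obtain ⟨u, hu, rfl⟩ := List.mem_map.1 hc
    obtain ⟨i, hi, rfl⟩ := List.getElem_of_mem hu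
    have hok := List.all_eq_true.mp uGen_fix i (List.mem_range.2 hi)
    simp only [Bool.and_eq_true] at hok
    have hm : pr (uW [i]) ∈ Δ := subset_closure ⟨i, hi, rfl⟩
    refine ⟨_, mem_map_of_mem _ (mem_map_of_mem _ ⟨⟨_, hm⟩, rfl⟩), fun k => ?_⟩
    show (((ev [uGen.getD i 0] : P) : Equiv.Perm (Fin 275)) k : ℕ) = _
    rw [ev_apply hok.1.1 k, List.getD_eq_getElem _ _ hi]
    rfl
  have h := chain_spec hT _ _ chain_ok.1
  rw [chain_ok.2] at h
  refine h.trans ?_
  have h1 : Nat.card (fixSub W [96, 83]) ≤ Nat.card W :=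
    Subgroup.card_le_of_le fun s hs => hs.1
  refine h1.trans (le_of_eq ?_)
  rw [Nat.card_congr ((σ.range.map U.subtype).equivMapOfInjective P.subtype
      Subtype.val_injective).toEquiv.symm,
    Nat.card_congr (σ.range.equivMapOfInjective U.subtype Subtype.val_injective).toEquiv.symm]

theorem σ_surjective : Function.Surjective σ := by
  rw [← MonoidHom.range_eq_top]
  exact Subgroup.eq_top_of_le_card _ (card_U.trans le_card_range)

theorem card_ker : Nat.card σ.ker ≤ 3 := by
  have h := σ.ker.card_mul_index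
  rw [Subgroup.index_ker] at h
  have h1 := le_card_range
  have h2 := card_Δ
  by_contra hc
  push Not at hc
  have : 4 * 29160 ≤ Nat.card σ.ker * Nat.card σ.range := Nat.mul_le_mul hc h1
  omega

/-- the number of fixed cosets -/
def m : ℕ := fixedCos.length

/-- an entry of the list -/
def ent (k : ℕ) : ℕ × List ℕ × List ℕ × List ℕ × ℕ := fixedCos.getD k (0, [], [], [], 0)

/-- the first element as a word -/
def aW : List ℕ := glob McLMultData40.P3.yL McLMultData40.P3.pairW.1

/-- the second element as a word -/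
def bW : List ℕ := glob McLMultData40.P3.yL McLMultData40.P3.pairW.2

/-- the shift as a word -/
def zW : List ℕ := [uLift.length + 4]

theorem fixed_ok : ((List.range m).all fun k =>
    wordOK TT (ent k).2.1 &&
    Nat.beq (walk TT (ent k).2.1 83) ((ent k).1 / 275) && Nat.beq (walk TT (ent k).2.1 96) ((ent k).1 % 275) &&
    ((ent k).2.2.1 ++ (ent k).2.2.2.1).all (fun a => decide (a < uGen.length)) &&
    eqW (aW ++ (ent k).2.1) ((ent k).2.1 ++ glob uGen (ent k).2.2.1) &&
    eqW (bW ++ (ent k).2.1) ((ent k).2.1 ++ glob uGen (ent k).2.2.2.1) &&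
    eqW (glob uGen ((ent k).2.2.1 ++ (ent k).2.2.2.1)) (glob uGen ((ent k).2.2.2.1 ++ (ent k).2.2.1)) &&
    eq18 ((ent k).2.2.1 ++ (ent k).2.2.2.1)
      ((List.replicate (ent k).2.2.2.2 (uLift.length + 4)) ++ ((ent k).2.2.2.1 ++ (ent k).2.2.1))) &&
    McLMultUpper40.distinct ((List.range m).map fun k => (ent k).1) &&
    ((List.range m).any fun k => Nat.beq (ent k).2.2.2.2 1) = true := by decide +kernel

theorem sum_ok : (((List.range m).map fun k => (ent k).2.2.2.2).sum % 3 != 0) = true := by decide +kernel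

theorem pts_ok : (allBelow (fun k => !(Nat.beq (walk TT aW k) k && Nat.beq (walk TT bW k) k) ||
      fixedPts.elem k) 275 && wordOK TT aW && wordOK TT bW &&
    (fixedPts.all fun i => fixedPts.all fun j => !((McLInvolutionData.adj.getD i 0).testBit j) ||
      (List.range m).any fun k => Nat.beq (ent k).1 (i * 275 + j)) &&
    (McLInvolutionData.adj.getD 83 0).testBit 96) = true := by decide +kernel

theorem z_ok : (List.range uGen.length).all (fun i => eq18 (zW ++ [i]) ([i] ++ zW)) = true ∧
    eq18 (zW ++ (zW ++ zW)) [] = true ∧ Nat.beq (walk T18 zW 0) 0 = false ∧ wordOK T18 zW = true := by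
  decide +kernel

/-- the shift as a pair -/
noncomputable def zP : PP := (1, ev18 zW)

theorem ev18_replicate (d : ℕ) : ev18 (List.replicate d (uLift.length + 4)) = ev18 zW ^ d := by
  simp [ev18, zW, List.prod_replicate]

theorem entry (k : ℕ) (hk : k < m) :
    pr (uW (ent k).2.2.1) * pr (uW (ent k).2.2.2.1) =
      zP ^ (ent k).2.2.2.2 * (pr (uW (ent k).2.2.2.1) * pr (uW (ent k).2.2.1)) := by
  have h := fixed_ok
  simp only [Bool.and_eq_true, List.all_eq_true, List.mem_range] at h
  obtain ⟨⟨-, h2⟩, h3⟩ := h.1.1 k hk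
  rw [← pr_uW_append, ← pr_uW_append]
  refine Prod.ext ?_ ?_
  · show ev _ = (zP ^ _).1 * ev _
    rw [Prod.pow_fst, show zP.1 = 1 from rfl, one_pow, one_mul]
    exact ev_eq h2
  · show ev18 _ = (zP ^ _).2 * ev18 _
    rw [Prod.pow_snd, show zP.2 = ev18 zW from rfl, ← ev18_replicate, ← ev18_append]
    exact ev18_eq h3

theorem zP_mem : zP ∈ Δ := by
  have h := fixed_ok
  simp only [Bool.and_eq_true, List.any_eq_true, List.all_eq_true, List.mem_range, Nat.beq_eq,
    decide_eq_true_eq] at h
  obtain ⟨k, hk, hk1⟩ := h.2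
  obtain ⟨⟨⟨⟨⟨-, hr⟩, -⟩, -⟩, -⟩, -⟩ := h.1.1 k hk
  have e := entry k hk
  rw [hk1, pow_one, ← eq_mul_inv_iff_mul_eq.2 e.symm |>.symm] at *
  have hA : pr (uW (ent k).2.2.1) ∈ Δ := uW_mem fun a ha => hr a (List.mem_append_left _ ha)
  have hB : pr (uW (ent k).2.2.2.1) ∈ Δ := uW_mem fun a ha => hr a (List.mem_append_right _ ha)
  rw [eq_mul_inv_iff_mul_eq.2 e.symm]
  exact mul_mem (mul_mem hA hB) (inv_mem (mul_mem hB hA))

theorem zP_cube : zP ^ 3 = 1 := by
  refine Prod.ext (by rw [Prod.pow_fst, show zP.1 = 1 from rfl, one_pow]; rfl) ?_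
  rw [Prod.pow_snd, show zP.2 = ev18 zW from rfl, pow_three, ← ev18_append, ← ev18_append]
  exact ev18_eq z_ok.2.1

theorem zP_ne : zP ≠ 1 := by
  intro h
  have h2 : ev18 zW = 1 := congrArg Prod.snd h
  have h3 := act18 zW z_ok.2.2.2 0
  rw [h2] at h3
  have h4 := z_ok.2.2.1
  rw [show walk T18 zW 0 = 0 from h3.symm] at h4
  simp at h4

/-- the shift in the extension -/
noncomputable def z : Δ := ⟨zP, zP_mem⟩

theorem z_ker : σ z = 1 := Subtype.ext rfl

theorem z_comm (x : Δ) : x * z = z * x := by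
  refine Subtype.ext ?_
  show (x : PP) * zP = zP * (x : PP)
  obtain ⟨x, hx⟩ := x
  show x * zP = zP * x
  induction hx using closure_induction with
  | mem x hx =>
    obtain ⟨i, hi, rfl⟩ := hx
    refine Prod.ext ?_ ?_
    · show _ * 1 = 1 * _
      rw [mul_one, one_mul]
    · show ev18 [i] * ev18 zW = ev18 zW * ev18 [i]
      rw [← ev18_append, ← ev18_append]
      exact (ev18_eq (List.all_eq_true.mp z_ok.1 i (List.mem_range.2 hi))).symm
  | one => rw [one_mul, mul_one]
  | mul a b _ _ ha hb => rw [mul_assoc, hb, ← mul_assoc, ha, mul_assoc]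
  | inv a _ ha => rw [inv_mul_eq_iff_eq_mul, ← mul_assoc, ha, mul_inv_cancel_right]

theorem ker_central : σ.ker ≤ center Δ := by
  have hz : z ∈ σ.ker := z_ker
  have hord : orderOf z = 3 := by
    haveI := Fact.mk Nat.prime_three
    exact orderOf_eq_prime (Subtype.ext zP_cube) fun h => zP_ne (congrArg Subtype.val h)
  have hker : σ.ker = zpowers z :=
    (Subgroup.eq_of_le_of_card_ge (zpowers_le.2 hz)
      (by rw [Nat.card_zpowers, hord]; exact card_ker)).symm
  rw [hker, zpowers_le, mem_center_iff]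
  exact z_comm

theorem coset_eq {g g' : P} (h1 : (g : Equiv.Perm (Fin 275)) 83 = (g' : Equiv.Perm (Fin 275)) 83)
    (h2 : (g : Equiv.Perm (Fin 275)) 96 = (g' : Equiv.Perm (Fin 275)) 96) :
    (g : P ⧸ U) = g' := by
  rw [QuotientGroup.eq]
  refine ⟨?_, ?_⟩
  · show (g : Equiv.Perm (Fin 275))⁻¹ ((g' : Equiv.Perm (Fin 275)) 83) = 83
    rw [← h1]; exact Equiv.symm_apply_apply _ _
  · show (g : Equiv.Perm (Fin 275))⁻¹ ((g' : Equiv.Perm (Fin 275)) 96) = 96
    rw [← h2]; exact Equiv.symm_apply_apply _ _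

theorem mult_ne_bot : SchurMultiplierCover.mult P ≠ ⊥ := by
  have hf := fixed_ok
  simp only [Bool.and_eq_true, List.all_eq_true, List.mem_range, Nat.beq_eq, decide_eq_true_eq] at hf
  obtain ⟨⟨hent, hdist⟩, -⟩ := hf
  have hp := pts_ok
  simp only [Bool.and_eq_true, List.all_eq_true, Bool.or_eq_true, Bool.not_eq_true',
    List.any_eq_true, List.mem_range, Nat.beq_eq, List.elem_iff] at hp
  obtain ⟨⟨⟨⟨hF, haW⟩, hbW⟩, hpairs⟩, hadj0⟩ := hp
  let g : Fin m → P := fun k => ev (ent k).2.1
  have hpt : ∀ k : Fin m, ((g k : Equiv.Perm (Fin 275)) 83 : ℕ) = (ent k).1 / 275 ∧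
      ((g k : Equiv.Perm (Fin 275)) 96 : ℕ) = (ent k).1 % 275 := fun k => by
    obtain ⟨⟨⟨⟨⟨⟨⟨hw, h83⟩, h96⟩, -⟩, -⟩, -⟩, -⟩, -⟩ := hent k k.2
    exact ⟨(ev_apply hw 83).trans h83, (ev_apply hw 96).trans h96⟩
  let A : Fin m → Δ := fun k => ⟨pr (uW (ent k).2.2.1), uW_mem fun a ha => by
    obtain ⟨⟨⟨⟨⟨-, hr⟩, -⟩, -⟩, -⟩, -⟩ := hent k k.2
    exact hr a (List.mem_append_left _ ha)⟩
  let B : Fin m → Δ := fun k => ⟨pr (uW (ent k).2.2.2.1), uW_mem fun a ha => by
    obtain ⟨⟨⟨⟨⟨-, hr⟩, -⟩, -⟩, -⟩, -⟩ := hent k k.2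
    exact hr a (List.mem_append_right _ ha)⟩
  have hA : ∀ k, ((σ (A k) : U) : P) = (g k)⁻¹ * aEl * g k := fun k => by
    obtain ⟨⟨⟨⟨-, ha⟩, -⟩, -⟩, -⟩ := hent k k.2
    have e := ev_eq ha
    rw [ev_append, ev_append] at e
    rw [mul_assoc, show aEl * g k = g k * ev (glob uGen (ent k).2.2.1) from e, inv_mul_cancel_left]
    rfl
  have hB : ∀ k, ((σ (B k) : U) : P) = (g k)⁻¹ * bEl * g k := fun k => by
    obtain ⟨⟨⟨-, hb⟩, -⟩, -⟩ := hent k k.2
    have e := ev_eq hb
    rw [ev_append, ev_append] at e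
    rw [mul_assoc, show bEl * g k = g k * ev (glob uGen (ent k).2.2.2.1) from e, inv_mul_cancel_left]
    rfl
  have hb3 : bEl ^ 3 = 1 := by
    have h : eqW (bW ++ (bW ++ bW)) [] = true := by decide +kernel
    have := ev_eq h
    rw [ev_append, ev_append, ev_nil] at this
    rw [pow_three]
    exact this
  refine TransferPairing40.mult_ne_bot U σ σ_surjective ker_central aEl bEl pair_comm pair_cube hb3 g
    ?_ ?_ ?_ A B hA hB z z_ker (Subtype.ext zP_cube) (fun h => zP_ne (congrArg Subtype.val h))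
    (fun k => (ent k).2.2.2.2) (fun k => Subtype.ext (entry k k.2)) ?_
  · intro i j hij
    rw [QuotientGroup.eq] at hij
    have h83 : (g i : Equiv.Perm (Fin 275)) 83 = (g j : Equiv.Perm (Fin 275)) 83 := by
      have := hij.1
      exact (Equiv.symm_apply_eq _).1 this |>.symm
    have h96 : (g i : Equiv.Perm (Fin 275)) 96 = (g j : Equiv.Perm (Fin 275)) 96 := by
      have := hij.2
      exact (Equiv.symm_apply_eq _).1 this |>.symm
    have e1 := (hpt i).1.symm.trans ((congrArg Fin.val h83).trans (hpt j).1)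
    have e2 := (hpt i).2.symm.trans ((congrArg Fin.val h96).trans (hpt j).2)
    have e3 : (ent i).1 = (ent j).1 := by
      rw [← Nat.div_add_mod (ent i).1 275, e1, e2, Nat.div_add_mod]
    refine Fin.ext ((List.Nodup.getElem_inj_iff (McLMultUpper40.nodup_of_distinct _ hdist)
      (i := (i : ℕ)) (j := (j : ℕ)) (hi := by simp) (hj := by simp)).1 ?_)
    rw [List.getElem_map, List.getElem_map, List.getElem_range, List.getElem_range, e3]
  · intro k
    refine ⟨?_, ?_⟩
    · rw [MulAction.Quotient.smul_mk, QuotientGroup.eq, smul_eq_mul, mul_inv_rev]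
      have := (σ (A k)).2
      rw [hA] at this
      have h2 := inv_mem this
      rwa [mul_inv_rev, mul_inv_rev, inv_inv, ← mul_assoc] at h2
    · rw [MulAction.Quotient.smul_mk, QuotientGroup.eq, smul_eq_mul, mul_inv_rev]
      have := (σ (B k)).2
      rw [hB] at this
      have h2 := inv_mem this
      rwa [mul_inv_rev, mul_inv_rev, inv_inv, ← mul_assoc] at h2
  · intro x hax hbx
    obtain ⟨h, rfl⟩ := QuotientGroup.mk_surjective x
    have hfix : ∀ (c : P) (w : List ℕ), ev w = c → wordOK TT w = true → c • (h : P ⧸ U) = (h : P ⧸ U) →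
        ∀ p : Fin 275, ((p : ℕ) = 83 ∨ (p : ℕ) = 96) →
          walk TT w ((h : Equiv.Perm (Fin 275)) p : ℕ) = ((h : Equiv.Perm (Fin 275)) p : ℕ) := by
      intro c w hc hw hcx p hp
      rw [MulAction.Quotient.smul_mk, QuotientGroup.eq, smul_eq_mul] at hcx
      have hfixp : ((c * h)⁻¹ * h : P).1 p = p := by
        rcases hp with hp | hp
        · rw [show p = (83 : Fin 275) from Fin.ext hp]; exact hcx.1
        · rw [show p = (96 : Fin 275) from Fin.ext hp]; exact hcx.2
      have h2 : (c : Equiv.Perm (Fin 275)) ((h : Equiv.Perm (Fin 275)) p) =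
          (h : Equiv.Perm (Fin 275)) p := by
        have e : (((c * h : P) : Equiv.Perm (Fin 275))⁻¹) ((h : Equiv.Perm (Fin 275)) p) = p := hfixp
        rw [Equiv.Perm.inv_eq_iff_eq] at e
        exact e.symm
      rw [← ev_apply hw, hc, h2]
    have hin : ∀ p : Fin 275, ((p : ℕ) = 83 ∨ (p : ℕ) = 96) →
        ((h : Equiv.Perm (Fin 275)) p : ℕ) ∈ fixedPts := by
      intro p hp
      have := allBelow_spec hF _ ((h : Equiv.Perm (Fin 275)) p).2
      simp only [Bool.or_eq_true, Bool.not_eq_true', Bool.and_eq_false_iff, List.elem_iff] at this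
      rcases this with (h1 | h1) | h1
      · have e := hfix aEl aW rfl haW hax p hp
        rw [e] at h1; simp at h1
      · have e := hfix bEl bW rfl hbW hbx p hp
        rw [e] at h1; simp at h1
      · exact h1
    have hedge : (McLInvolutionData.adj.getD ((h : Equiv.Perm (Fin 275)) 83) 0).testBit
        ((h : Equiv.Perm (Fin 275)) 96) = true := by
      have := rows_invariant McLInvolution.adj_ok _ h.2 83 96
      rw [← this]
      exact hadj0
    rcases hpairs _ (hin 83 (Or.inl rfl)) _ (hin 96 (Or.inr rfl)) with h1 | ⟨k, hk, hkc⟩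
    · have h2 : (McLInvolutionData.adj.getD ((h : Equiv.Perm (Fin 275)) 83 : ℕ) 0).testBit
          ((h : Equiv.Perm (Fin 275)) 96 : ℕ) = true := hedge
      exact absurd (h2.symm.trans h1) (by decide)
    refine ⟨⟨k, hk⟩, coset_eq (Fin.ext ?_) (Fin.ext ?_)⟩
    · rw [(hpt ⟨k, hk⟩).1]
      show (ent k).1 / 275 = _
      rw [hkc]
      have := ((h : Equiv.Perm (Fin 275)) 96).2
      omega
    · rw [(hpt ⟨k, hk⟩).2]
      show (ent k).1 % 275 = _
      rw [hkc]
      have := ((h : Equiv.Perm (Fin 275)) 96).2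
      omega
  · have hs := sum_ok
    simp only [bne_iff_ne, ne_eq] at hs
    rw [Fin.sum_univ_fun_getElem_eq]
    intro hd
    exact hs (Nat.mod_eq_zero_of_dvd hd)
where
  Fin.sum_univ_fun_getElem_eq : ∑ k : Fin m, (ent k).2.2.2.2 =
      ((List.range m).map fun k => (ent k).2.2.2.2).sum := by
    rw [Fin.sum_univ_eq_sum_range (fun k => (ent k).2.2.2.2) m]
    rfl

end Cfsg.Agent.McLMultCover40
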