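import Cfsg.Agent.Lib.McLMultCover40

/-!
The multiplier of the McLaughlin group has order three.
-/

set_option autoImplicit false

namespace Cfsg.Agent.McLMultFinal40

open Cfsg.Agent.McLMultBase40 (P)

/-- The multiplier of the permutation group. -/
theorem card_mult : Nat.card (SchurMultiplierCover.mult ↥P) = 3 := by
  obtain ⟨Γ, _, _, σ, hσ, ⟨e⟩, -⟩ :=
    SchurMultiplierCover.exists_cover_over (SchurMultiplierBasic.stem_id (G := ↥P))
  have hle : Nat.card (SchurMultiplierCover.mult ↥P) ≤ 3 :=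
    (Nat.card_congr e.toEquiv).symm.trans_le (McLMultUpper40.card_ker_le σ hσ)
  have hne : Nat.card (SchurMultiplierCover.mult ↥P) ≠ 1 := fun h =>
    McLMultCover40.mult_ne_bot (Subgroup.eq_bot_of_card_eq _ h)
  have hpos : 0 < Nat.card (SchurMultiplierCover.mult ↥P) := Nat.card_pos
  by_contra h3
  have h2 : Nat.card (SchurMultiplierCover.mult ↥P) = 2 := by omega
  exact two_absurd σ hσ ((Nat.card_congr e.toEquiv).trans h2)
where
  two_absurd {Γ : Type} [Group Γ] [Finite Γ] (σ : Γ →* ↥P) (hσ : Cfsg.IsStemExtension σ)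
      (h2 : Nat.card σ.ker = 2) : False := by
    haveI := Fact.mk Nat.prime_two
    haveI : IsCyclic σ.ker := isCyclic_of_prime_card h2
    let e : σ.ker ≃* Multiplicative (ZMod 2) := mulEquivOfCyclicCardEq (h2.trans (by simp))
    obtain ⟨ψ, hψ⟩ := McLMultUpper40.censplit_two Γ σ hσ.1 hσ.2.1 e.toMonoidHom
    obtain ⟨w, hw⟩ := e.surjective (Multiplicative.ofAdd 1)
    have h := hψ w
    rw [SplitVoltage.eq_one_of_mem_commutator ψ (hσ.2.2 w.2)] at h
    have h1 : (1 : Multiplicative (ZMod 2)) = Multiplicative.ofAdd 1 := h.trans hw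
    exact one_ne_zero (α := ZMod 2) (congrArg Multiplicative.toAdd h1).symm

/-- The multiplier of the McLaughlin group. -/
theorem multiplier_McL : Cfsg.HasCyclicSchurMultiplier ↥Cfsg.Spor.McL 3 := by
  obtain ⟨e⟩ := McLInvolution.exists_equiv
  haveI := Fact.mk Nat.prime_three
  have hP : Cfsg.HasSchurMultiplier ↥P (Multiplicative (ZMod 3)) :=
    SchurMultiplierCover.hasSchurMultiplier_of_equiv
      (mulEquivOfPrimeCardEq (p := 3) (by simp) card_mult)
  obtain ⟨⟨Γ, _, _, σ, hσ, ⟨k⟩⟩, hall⟩ := hP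
  refine ⟨⟨Γ, inferInstance, inferInstance, e.symm.toMonoidHom.comp σ, ?_, ?_⟩, ?_⟩
  · have hk : (e.symm.toMonoidHom.comp σ).ker = σ.ker :=
      MonoidHom.ker_mulEquiv_comp σ e.symm
    exact ⟨e.symm.surjective.comp hσ.1, hk.trans_le hσ.2.1, hk.trans_le hσ.2.2⟩
  · exact ⟨(MulEquiv.subgroupCongr (MonoidHom.ker_mulEquiv_comp σ e.symm)).trans k⟩
  · intro Δ _ _ τ hτ
    have hk : (e.toMonoidHom.comp τ).ker = τ.ker := MonoidHom.ker_mulEquiv_comp τ e
    obtain ⟨π, hπ⟩ := hall Δ (e.toMonoidHom.comp τ)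
      ⟨e.surjective.comp hτ.1, hk.trans_le hτ.2.1, hk.trans_le hτ.2.2⟩
    exact ⟨(MulEquiv.subgroupCongr hk).toMonoidHom.comp π,
      (MulEquiv.subgroupCongr hk).surjective.comp hπ⟩

end Cfsg.Agent.McLMultFinal40
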