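import Cfsg.Agent.Lib.CenSplitStableP50

/-!
Stable class certificate of the McLaughlin group for the prime 3.
-/

set_option autoImplicit false
set_option maxRecDepth 100000

namespace Cfsg.Agent.McLMultData40.P3

open Cfsg.Agent.CenSplitStableP50 (Cert Eqn)

/-- letters of the chain -/
def yL : List ℕ :=
  [180, 181, 182, 183, 184, 185]

/-- letters of the conjugators -/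
def xL : List ℕ :=
  [186, 187, 188]

/-- data -/
def relsD : List (List ℕ × List ℕ) :=
  [([0, 0, 0], [5, 5]),
   ([1, 0], [0, 1, 2, 5]),
   ([1, 1, 1], [5]),
   ([2, 0], [0, 2]),
   ([2, 1], [1, 2, 5]),
   ([2, 2, 2], []),
   ([3, 0], [0, 3, 4, 5, 5]),
   ([3, 1], [1, 3, 4, 5]),
   ([3, 2], [2, 3, 5, 5]),
   ([3, 3, 3], []),
   ([4, 0], [0, 4, 5]),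
   ([4, 1], [1, 4, 5, 5]),
   ([4, 2], [2, 4]),
   ([4, 3], [3, 4, 5, 5]),
   ([4, 4, 4], []),
   ([5, 0], [0, 5]),
   ([5, 1], [1, 5]),
   ([5, 2], [2, 5]),
   ([5, 3], [3, 5]),
   ([5, 4], [4, 5]),
   ([5, 5, 5], [])]

/-- data -/
def pairsD : List (ℕ × List ℕ × List ℕ) :=
  [(0, [3, 4, 4, 5, 5], [0, 0, 1, 4, 4, 5]),
   (0, [0, 1, 1, 2, 3, 4], [2, 2, 3, 3, 4, 5, 5]),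
   (1, [1, 2, 3, 3], [1, 2, 3, 3, 4, 5, 5]),
   (1, [1, 3, 3, 4, 4, 5], [1, 3, 3]),
   (1, [1, 3, 3, 4], [1, 3, 3, 4]),
   (1, [1, 3, 3], [5, 5]),
   (2, [0, 0, 1, 2, 3, 3, 4], [0, 1, 1, 3]),
   (2, [0, 1, 1, 2, 2, 3, 3, 5, 5], [2, 3, 4, 4, 5, 5])]

/-- data -/
def eqsD : List Eqn :=
  [.A [0] 0,
   .A [1] 0,
   .A [1, 1] 1,
   .A [1] 2,
   .A [2] 0,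
   .A [2] 1,
   .A [2] 2,
   .A [2, 2] 3,
   .A [2, 2] 4,
   .A [2] 5,
   .A [3] 0,
   .A [3] 1,
   .A [3] 2,
   .A [3] 3,
   .A [3] 4,
   .A [3] 5,
   .A [3, 3] 6,
   .A [3, 3] 7,
   .A [3, 3] 8,
   .A [3] 9,
   .A [4] 0,
   .A [4] 1,
   .A [4] 2,
   .A [4] 3,
   .A [4] 4,
   .A [4] 5,
   .A [4] 6,
   .A [4] 7,
   .A [4] 8,
   .A [4] 9,
   .A [4, 4] 10,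
   .A [4, 4] 11,
   .A [4, 4] 12,
   .A [4, 4] 13,
   .A [4] 14,
   .A [5] 0,
   .A [5] 1,
   .A [5] 2,
   .A [5] 3,
   .A [5] 4,
   .A [5] 5,
   .A [5] 6,
   .A [5] 7,
   .A [5] 8,
   .A [5] 9,
   .A [5] 10,
   .A [5] 11,
   .A [5] 12,
   .A [5] 13,
   .A [5] 14,
   .A [5, 5] 15,
   .A [5, 5] 16,
   .A [5, 5] 17,
   .A [5, 5] 18,
   .A [5, 5] 19,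
   .A [5] 20,
   .B [0, 0, 0] [],
   .B [1, 0] [0, 1],
   .B [1, 1, 1] [],
   .B [2, 2, 2] [],
   .B [3, 2] [2, 3],
   .B [3, 3, 3] [],
   .B [4, 2] [2, 4],
   .B [4, 3] [3, 4],
   .B [4, 4, 4] [],
   .B [5, 2] [2, 5],
   .B [5, 3] [3, 5],
   .B [5, 4] [4, 5],
   .B [5, 5, 5] [],
   .B [6, 6, 6] [],
   .B [7, 6] [6, 7],
   .B [7, 7, 7] []]

/-- data -/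
def formsD : List (List ℕ) :=
  [[0, 0, 0, 0, 0, 0, 0, 0, 0, 0, 0, 0, 0, 0, 0, 1, 0, 0, 0, 0, 0, 0, 0, 0, 0, 0, 0, 0, 0],
   [0, 0, 0, 0, 0, 2, 0, 0, 0, 0, 0, 0, 0, 0, 0, 0, 1, 0, 0, 0, 2, 0, 0, 0, 0, 0, 0, 0, 0],
   [0, 0, 0, 0, 0, 1, 0, 0, 0, 0, 0, 0, 0, 0, 0, 2, 1, 2, 0, 0, 2, 0, 0, 0, 0, 0, 0, 0, 0],
   [0, 0, 0, 0, 0, 0, 0, 0, 0, 0, 0, 0, 0, 0, 0, 0, 2, 0, 0, 0, 0, 0, 0, 0, 0, 0, 0, 0, 0],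
   [0, 0, 0, 0, 0, 0, 0, 0, 0, 0, 0, 0, 0, 0, 0, 0, 0, 1, 0, 0, 0, 0, 0, 0, 0, 0, 0, 0, 0],
   [0, 0, 0, 0, 0, 0, 0, 0, 0, 0, 0, 0, 0, 0, 0, 2, 0, 0, 0, 0, 0, 0, 0, 0, 0, 0, 0, 0, 0],
   [0, 0, 0, 0, 0, 0, 0, 0, 0, 0, 0, 0, 0, 0, 0, 0, 0, 2, 0, 0, 2, 0, 0, 0, 0, 0, 0, 0, 0],
   [0, 0, 0, 0, 0, 0, 0, 0, 0, 0, 0, 0, 0, 0, 0, 0, 0, 0, 0, 0, 0, 0, 0, 0, 0, 0, 0, 0, 0],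
   [0, 0, 0, 0, 0, 0, 0, 0, 0, 0, 0, 0, 0, 0, 0, 0, 0, 0, 0, 0, 1, 0, 0, 0, 0, 0, 0, 0, 0],
   [0, 0, 0, 0, 0, 0, 0, 0, 0, 0, 0, 0, 0, 0, 0, 0, 0, 0, 0, 0, 0, 0, 0, 0, 0, 0, 0, 0, 0],
   [0, 0, 0, 0, 0, 0, 0, 0, 0, 0, 0, 0, 0, 0, 2, 2, 0, 0, 1, 2, 0, 0, 0, 0, 0, 0, 0, 0, 0],
   [0, 0, 0, 0, 0, 0, 0, 0, 1, 0, 2, 1, 2, 0, 0, 2, 2, 2, 2, 1, 1, 0, 0, 0, 0, 0, 0, 0, 0],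
   [0, 0, 0, 0, 0, 0, 0, 0, 0, 0, 0, 0, 0, 0, 2, 0, 1, 0, 2, 1, 0, 0, 0, 0, 0, 0, 0, 0, 0],
   [0, 0, 0, 0, 0, 0, 0, 0, 0, 0, 0, 0, 1, 0, 0, 1, 0, 2, 0, 2, 0, 0, 0, 0, 0, 0, 0, 0, 0],
   [0, 0, 0, 0, 0, 0, 0, 0, 0, 0, 0, 0, 1, 0, 0, 0, 1, 1, 2, 1, 0, 0, 0, 0, 0, 0, 0, 0, 0],
   [0, 0, 0, 0, 0, 0, 0, 0, 0, 0, 0, 0, 0, 0, 0, 0, 0, 0, 0, 0, 1, 0, 0, 0, 0, 0, 0, 0, 0],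
   [0, 0, 0, 0, 0, 0, 0, 0, 0, 0, 0, 0, 0, 0, 1, 0, 0, 0, 2, 1, 1, 0, 0, 0, 0, 0, 0, 0, 0],
   [0, 0, 0, 0, 0, 0, 0, 0, 0, 0, 0, 0, 0, 0, 1, 0, 0, 0, 2, 1, 0, 0, 0, 0, 0, 0, 0, 0, 0],
   [0, 0, 0, 0, 0, 0, 0, 0, 0, 0, 0, 0, 0, 0, 0, 0, 0, 0, 0, 0, 2, 0, 0, 0, 0, 0, 0, 0, 0],
   [0, 0, 0, 0, 0, 0, 0, 0, 0, 0, 0, 0, 0, 0, 0, 0, 0, 0, 0, 0, 0, 0, 0, 0, 0, 0, 0, 0, 0],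
   [0, 0, 0, 0, 0, 0, 0, 0, 0, 0, 0, 0, 0, 0, 0, 0, 0, 0, 0, 1, 2, 0, 0, 0, 0, 0, 0, 0, 0],
   [0, 0, 0, 0, 0, 0, 0, 0, 0, 0, 0, 0, 1, 0, 0, 1, 1, 0, 0, 2, 0, 0, 0, 0, 0, 0, 0, 0, 0],
   [0, 0, 0, 0, 0, 0, 0, 0, 0, 0, 0, 0, 0, 0, 0, 0, 0, 0, 0, 2, 1, 0, 0, 0, 0, 0, 0, 0, 0],
   [0, 0, 0, 0, 0, 0, 0, 0, 0, 0, 0, 0, 0, 0, 0, 0, 0, 1, 0, 0, 0, 0, 0, 0, 0, 0, 0, 0, 0],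
   [0, 0, 0, 0, 0, 0, 0, 0, 0, 0, 0, 0, 0, 0, 0, 0, 0, 2, 0, 2, 0, 0, 0, 0, 0, 0, 0, 0, 0],
   [0, 0, 0, 0, 0, 0, 0, 0, 0, 0, 0, 0, 0, 0, 0, 0, 0, 0, 0, 0, 0, 0, 0, 0, 0, 0, 0, 0, 0],
   [0, 0, 0, 0, 0, 0, 0, 0, 0, 0, 0, 0, 0, 0, 0, 1, 0, 0, 1, 1, 0, 0, 0, 0, 0, 0, 0, 0, 0],
   [0, 0, 0, 0, 0, 0, 0, 0, 0, 0, 0, 0, 0, 0, 0, 0, 1, 0, 2, 0, 0, 0, 0, 0, 0, 0, 0, 0, 0],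
   [0, 0, 0, 0, 0, 0, 0, 0, 0, 0, 0, 0, 0, 0, 0, 0, 0, 1, 0, 1, 0, 0, 0, 0, 0, 0, 0, 0, 0],
   [0, 0, 0, 0, 0, 0, 0, 0, 0, 0, 0, 0, 0, 0, 0, 0, 0, 0, 0, 0, 1, 0, 0, 0, 0, 0, 0, 0, 0],
   [0, 0, 0, 0, 0, 0, 0, 0, 0, 0, 0, 0, 0, 0, 0, 0, 0, 0, 0, 0, 1, 0, 0, 0, 0, 0, 0, 0, 0],
   [0, 0, 0, 0, 0, 0, 0, 0, 0, 0, 0, 0, 0, 0, 0, 0, 0, 0, 0, 0, 2, 0, 0, 0, 0, 0, 0, 0, 0],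
   [0, 0, 0, 0, 0, 0, 0, 0, 0, 0, 0, 0, 0, 0, 0, 0, 0, 0, 0, 0, 0, 0, 0, 0, 0, 0, 0, 0, 0],
   [0, 0, 0, 0, 0, 0, 0, 0, 0, 0, 0, 0, 0, 0, 0, 0, 0, 0, 0, 0, 2, 0, 0, 0, 0, 0, 0, 0, 0],
   [0, 0, 0, 0, 0, 0, 0, 0, 0, 0, 0, 0, 0, 0, 0, 0, 0, 0, 0, 0, 0, 0, 0, 0, 0, 0, 0, 0, 0],
   [0, 0, 0, 0, 0, 0, 0, 0, 0, 0, 0, 0, 0, 0, 0, 0, 0, 0, 0, 0, 0, 0, 0, 0, 0, 0, 0, 0, 0],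
   [0, 0, 0, 0, 0, 0, 0, 0, 0, 0, 0, 0, 0, 0, 0, 0, 0, 1, 0, 0, 0, 0, 0, 0, 0, 0, 0, 0, 0],
   [0, 0, 0, 0, 0, 0, 0, 0, 0, 0, 0, 0, 0, 0, 0, 0, 0, 0, 0, 0, 0, 0, 0, 0, 0, 0, 0, 0, 0],
   [0, 0, 0, 0, 0, 0, 0, 0, 0, 0, 0, 0, 0, 0, 0, 0, 0, 0, 0, 0, 0, 0, 0, 0, 0, 0, 0, 0, 0],
   [0, 0, 0, 0, 0, 0, 0, 0, 0, 0, 0, 0, 0, 0, 0, 0, 0, 0, 0, 0, 0, 0, 0, 0, 0, 0, 0, 0, 0],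
   [0, 0, 0, 0, 0, 0, 0, 0, 0, 0, 0, 0, 0, 0, 0, 0, 0, 0, 0, 0, 0, 0, 0, 0, 0, 0, 0, 0, 0],
   [0, 0, 0, 0, 0, 0, 0, 0, 0, 0, 0, 0, 0, 0, 0, 0, 0, 0, 0, 1, 0, 0, 0, 0, 0, 0, 0, 0, 0],
   [0, 0, 0, 0, 0, 0, 0, 0, 0, 0, 0, 0, 0, 0, 0, 0, 0, 0, 0, 1, 0, 0, 0, 0, 0, 0, 0, 0, 0],
   [0, 0, 0, 0, 0, 0, 0, 0, 0, 0, 0, 0, 0, 0, 0, 0, 0, 0, 0, 0, 0, 0, 0, 0, 0, 0, 0, 0, 0],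
   [0, 0, 0, 0, 0, 0, 0, 0, 0, 0, 0, 0, 0, 0, 0, 0, 0, 0, 0, 0, 0, 0, 0, 0, 0, 0, 0, 0, 0],
   [0, 0, 0, 0, 0, 0, 0, 0, 0, 0, 0, 0, 0, 0, 0, 0, 0, 0, 0, 0, 0, 0, 0, 0, 0, 0, 0, 0, 0],
   [0, 0, 0, 0, 0, 0, 0, 0, 0, 0, 0, 0, 0, 0, 0, 0, 0, 0, 0, 0, 0, 0, 0, 0, 0, 0, 0, 0, 0],
   [0, 0, 0, 0, 0, 0, 0, 0, 0, 0, 0, 0, 0, 0, 0, 0, 0, 0, 0, 0, 0, 0, 0, 0, 0, 0, 0, 0, 0],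
   [0, 0, 0, 0, 0, 0, 0, 0, 0, 0, 0, 0, 0, 0, 0, 0, 0, 0, 0, 0, 0, 0, 0, 0, 0, 0, 0, 0, 0],
   [0, 0, 0, 0, 0, 0, 0, 0, 0, 0, 0, 0, 0, 0, 0, 0, 0, 0, 0, 0, 0, 0, 0, 0, 0, 0, 0, 0, 0],
   [0, 0, 0, 0, 0, 0, 0, 0, 0, 0, 0, 0, 0, 0, 0, 0, 0, 0, 0, 0, 0, 0, 0, 0, 0, 0, 0, 0, 0],
   [0, 0, 0, 0, 0, 0, 0, 0, 0, 0, 0, 0, 0, 0, 0, 0, 0, 0, 0, 0, 0, 0, 0, 0, 0, 0, 0, 0, 0],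
   [0, 0, 0, 0, 0, 0, 0, 0, 0, 0, 0, 0, 0, 0, 0, 0, 0, 0, 0, 0, 0, 0, 0, 0, 0, 0, 0, 0, 0],
   [0, 0, 0, 0, 0, 0, 0, 0, 0, 0, 0, 0, 0, 0, 0, 0, 0, 0, 0, 0, 0, 0, 0, 0, 0, 0, 0, 0, 0],
   [0, 0, 0, 0, 0, 0, 0, 0, 0, 0, 0, 0, 0, 0, 0, 0, 0, 0, 0, 0, 0, 0, 0, 0, 0, 0, 0, 0, 0],
   [0, 0, 0, 0, 0, 0, 0, 0, 0, 0, 0, 0, 0, 0, 0, 0, 0, 0, 0, 0, 0, 0, 0, 0, 0, 0, 0, 0, 0],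
   [2, 0, 1, 1, 1, 2, 0, 0, 0, 2, 0, 0, 0, 0, 0, 1, 1, 2, 2, 1, 0, 0, 0, 0, 0, 0, 0, 0, 0],
   [0, 0, 0, 1, 2, 0, 2, 1, 1, 0, 0, 0, 1, 0, 0, 1, 1, 0, 0, 0, 0, 0, 0, 0, 0, 0, 0, 0, 0],
   [2, 0, 1, 1, 1, 0, 0, 0, 0, 1, 0, 0, 0, 0, 0, 1, 2, 2, 0, 0, 2, 0, 0, 0, 0, 0, 0, 0, 0],
   [0, 0, 0, 0, 0, 0, 0, 0, 0, 0, 0, 0, 0, 0, 1, 0, 0, 0, 0, 0, 2, 0, 0, 0, 0, 0, 0, 0, 0],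
   [0, 0, 0, 0, 0, 0, 0, 0, 0, 0, 0, 0, 1, 0, 0, 0, 0, 1, 0, 0, 2, 0, 0, 0, 0, 0, 0, 0, 0],
   [0, 0, 0, 0, 0, 0, 0, 0, 0, 0, 0, 0, 0, 0, 1, 0, 0, 0, 0, 0, 2, 0, 0, 0, 0, 0, 0, 0, 0],
   [0, 0, 0, 0, 0, 0, 0, 0, 0, 0, 0, 2, 0, 1, 0, 0, 1, 0, 2, 1, 2, 0, 0, 0, 0, 0, 0, 0, 0],
   [0, 0, 0, 0, 0, 0, 0, 0, 0, 0, 0, 2, 0, 1, 0, 0, 1, 0, 2, 1, 0, 0, 0, 0, 0, 0, 0, 0, 0],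
   [0, 0, 0, 0, 0, 0, 0, 0, 0, 0, 0, 0, 0, 0, 0, 0, 0, 0, 0, 0, 0, 0, 0, 0, 0, 0, 0, 0, 0],
   [0, 0, 0, 0, 1, 0, 0, 0, 1, 0, 0, 0, 1, 0, 0, 0, 2, 1, 1, 2, 2, 0, 0, 0, 0, 0, 0, 0, 0],
   [0, 0, 0, 0, 0, 0, 0, 0, 0, 0, 0, 2, 0, 1, 0, 0, 0, 0, 0, 0, 0, 0, 0, 0, 0, 0, 0, 0, 0],
   [0, 0, 0, 0, 0, 0, 0, 0, 0, 0, 0, 1, 0, 2, 0, 0, 2, 0, 1, 2, 1, 0, 0, 0, 0, 0, 0, 0, 0],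
   [0, 0, 2, 0, 0, 0, 0, 0, 0, 1, 0, 1, 0, 1, 2, 0, 0, 0, 1, 1, 2, 0, 0, 0, 0, 0, 0, 0, 0],
   [2, 0, 1, 1, 1, 1, 0, 0, 0, 2, 0, 0, 0, 0, 2, 1, 0, 2, 0, 1, 2, 0, 0, 0, 0, 0, 0, 0, 0],
   [0, 0, 0, 2, 1, 2, 2, 1, 1, 0, 1, 2, 2, 1, 1, 1, 0, 2, 1, 1, 0, 0, 0, 0, 0, 0, 0, 0, 0],
   [2, 0, 1, 1, 1, 1, 0, 0, 0, 2, 0, 0, 0, 0, 2, 2, 1, 1, 1, 1, 1, 0, 0, 0, 0, 0, 0, 0, 0],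
   [0, 0, 0, 1, 2, 2, 2, 1, 2, 0, 0, 0, 0, 2, 2, 1, 2, 0, 0, 1, 0, 0, 0, 0, 0, 0, 0, 0, 0]]

/-- data -/
def lamD : List (List ℕ) :=
  [[0, 0, 0, 0, 0, 0, 0, 0, 0, 0, 0, 0, 0, 0, 0, 0, 0, 0, 0, 0, 0, 0, 0, 0, 0, 0, 0, 0, 0],
   [0, 0, 0, 0, 0, 0, 0, 0, 0, 0, 0, 0, 0, 0, 0, 0, 0, 0, 0, 0, 0, 0, 0, 0, 0, 0, 0, 0, 0],
   [0, 1, 0, 0, 0, 0, 0, 0, 0, 0, 0, 0, 0, 1, 0, 0, 0, 0, 0, 0, 0, 0, 0, 0, 0, 0, 0, 0, 0],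
   [0, 0, 0, 0, 0, 0, 0, 0, 0, 0, 0, 0, 0, 0, 0, 0, 0, 0, 0, 0, 0, 0, 0, 0, 0, 0, 0, 0, 0],
   [0, 0, 0, 0, 0, 0, 0, 1, 0, 0, 0, 0, 0, 1, 0, 0, 0, 0, 0, 0, 0, 0, 0, 0, 0, 0, 0, 0, 0],
   [0, 0, 0, 0, 0, 0, 0, 0, 0, 0, 0, 0, 0, 2, 0, 0, 0, 0, 0, 0, 0, 0, 0, 0, 0, 0, 0, 0, 0]]

/-- data -/
def combosD : List (List (ℕ × ℕ)) :=
  [[(0, 1), (1, 2), (2, 2), (3, 1), (11, 1), (12, 2), (14, 1), (56, 2), (57, 2), (62, 2), (65, 2), (68, 2), (70, 1)],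
   [],
   [(1, 1), (2, 2), (3, 2), (4, 1), (10, 2), (12, 2), (13, 1), (14, 2), (56, 1), (58, 2), (62, 2), (68, 2)],
   [(1, 2), (2, 1), (4, 2), (10, 1), (11, 1), (12, 2), (57, 1), (65, 1), (70, 1), (72, 1)],
   [(0, 1), (2, 2), (3, 2), (4, 1), (10, 1), (13, 2), (14, 2), (57, 1), (65, 1), (72, 2)],
   [(0, 2), (1, 1), (2, 2), (4, 2)],
   [(0, 1), (2, 1), (3, 1), (11, 1), (12, 1), (13, 2), (14, 2), (57, 1), (70, 1)],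
   [],
   [(0, 2), (1, 1), (2, 2), (3, 2), (10, 1), (12, 1), (13, 1), (57, 2), (72, 1)],
   [(2, 1), (3, 1), (4, 1), (10, 2), (12, 1), (56, 1), (58, 2)],
   [(0, 1), (1, 1), (2, 2), (3, 1), (10, 1), (11, 2), (12, 1), (13, 1), (14, 2), (57, 2), (62, 2), (72, 1)],
   [(1, 2), (2, 2), (3, 2), (4, 2), (10, 1), (12, 2), (62, 2)],
   [(0, 2), (3, 2), (4, 2), (10, 2), (12, 1), (14, 1)],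
   [],
   [(0, 1), (3, 1), (10, 1), (12, 1)],
   [(0, 1)],
   [(3, 2)],
   [(4, 1)],
   [(0, 2), (4, 1), (10, 1), (12, 2), (13, 2), (14, 1)],
   [(3, 2), (4, 1), (10, 2), (12, 1), (13, 2), (14, 1)],
   [(0, 1), (1, 1), (2, 1), (3, 2), (4, 1)]]

/-- the commuting pair -/
def pairW : List ℕ × List ℕ := ([0, 1, 1, 2, 4, 4, 5], [0, 0, 1, 2, 2, 3, 3, 4, 5, 5])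

/-- the certificate -/
def cert : Cert :=
  { p := 3, n := 6, fuel := 64, rels := relsD, pairs := pairsD, eqs := eqsD, forms := formsD,
    lam := lamD, combos := combosD }

end Cfsg.Agent.McLMultData40.P3
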