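import Cfsg.Agent.Lib.McLMultBase40
import Cfsg.Agent.Lib.CenSplitStableX40
import Cfsg.Agent.Lib.McLMultP2Data40
import Cfsg.Agent.Lib.McLMultP3Data40
import Cfsg.Agent.Lib.McLMultP5Data40

/-!
Kernels of stem extensions of the McLaughlin group are generated by one commutator of order three.
-/

set_option autoImplicit false
set_option maxRecDepth 20000

namespace Cfsg.Agent.McLMultUpper40

open Subgroup Cfsg.Agent.PermImageCert Cfsg.Agent.PermWordCert Cfsg.Agent.McLMultBase40
open Cfsg.Agent.CenSplitStableP50 (Cert)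
open scoped commutatorElement

/-- the word of a word in local letters -/
def glob (l : List ℕ) (w : List ℕ) : List ℕ := w.map fun a => l.getD a 0

/-- all normal forms -/
def forms (p : ℕ) : ℕ → ℕ → List (List ℕ)
  | 0, _ => [[]]
  | n + 1, i => (List.range p).flatMap fun e => (forms p n (i + 1)).map (List.replicate e i ++ ·)

/-- a key as a number -/
def num (l : List ℕ) : ℕ := l.foldr (fun a r => a + 1024 * r) 0

/-- distinct entries, quickly -/
def distinct : List ℕ → Bool
  | [] => true
  | a :: l => (l.all fun b => !(Nat.beq a b)) && distinct l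

theorem nodup_of_distinct : ∀ l : List ℕ, distinct l = true → l.Nodup
  | [], _ => List.nodup_nil
  | a :: l, h => by
    simp only [distinct, Bool.and_eq_true, List.all_eq_true, Bool.not_eq_true'] at h
    refine List.nodup_cons.2 ⟨fun ha => ?_, nodup_of_distinct l h.2⟩
    have := h.1 a ha
    simp at this

/-- the checks of a certificate in this group -/
noncomputable def dataOK (C : Cert) (yL xL : List ℕ) : Bool :=
  C.shapeOK && decide (yL.length = C.n) &&
  C.rels.all (fun l => eqW (glob yL l.1) (glob yL l.2) &&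
    (l.1 ++ l.2).all fun a => decide (a < C.n)) &&
  C.pairs.all (fun l => decide (l.1 < xL.length) &&
    eqW (xL.getD l.1 0 :: glob yL l.2.1) (glob yL l.2.2 ++ [xL.getD l.1 0])) &&
  (forms C.p C.n 0).all (fun w => wordOK TT (glob yL w) && w.all fun a => decide (a < C.n)) &&
  decide (C.p ^ C.n ≤ (forms C.p C.n 0).length) &&
  distinct ((forms C.p C.n 0).map fun w => num (key TT McLInvolutionData.base (glob yL w)))

theorem glob_P (l : List ℕ) (w : List ℕ) :
    CenSplitStableP50.P (fun a => el (l.getD a 0)) w = ev (glob l w) := by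
  rw [CenSplitStableP50.P, ev, glob, List.map_map]
  rfl

theorem of_data {C : Cert} {yL xL : List ℕ} (h : dataOK C yL xL = true) (hp : C.p.Prime)
    {m : ℕ} (hcard : 898128000 = C.p ^ C.n * m) (hm : ¬ C.p ∣ m) :
    let y : ℕ → P := fun a => el (yL.getD a 0)
    let x : ℕ → P := fun a => el (xL.getD a 0)
    C.shapeOK = true ∧
    (∀ r < C.rels.length, CenSplitStableP50.P y (C.rels.getD r ([], [])).1 =
      CenSplitStableP50.P y (C.rels.getD r ([], [])).2) ∧
    (∀ k < C.pairs.length,
      x (C.pairs.getD k (0, [], [])).1 * CenSplitStableP50.P y (C.pairs.getD k (0, [], [])).2.1 =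
        CenSplitStableP50.P y (C.pairs.getD k (0, [], [])).2.2 * x (C.pairs.getD k (0, [], [])).1) ∧
    C.p ^ C.n ≤ Nat.card (closure (y '' Set.Iio C.n)) ∧
    ¬ C.p ∣ (closure (y '' Set.Iio C.n)).index := by
  intro y x
  simp only [dataOK, Bool.and_eq_true, List.all_eq_true, decide_eq_true_eq] at h
  obtain ⟨⟨⟨⟨⟨⟨hS, -⟩, hR⟩, hP⟩, hF⟩, hlen⟩, hd⟩ := h
  have hrel : ∀ r < C.rels.length, CenSplitStableP50.P y (C.rels.getD r ([], [])).1 =
      CenSplitStableP50.P y (C.rels.getD r ([], [])).2 := by
    intro r hr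
    rw [glob_P, glob_P, List.getD_eq_getElem _ _ hr]
    exact ev_eq (hR _ (List.getElem_mem hr)).1
  have hge : C.p ^ C.n ≤ Nat.card (closure (y '' Set.Iio C.n)) := by
    classical
    refine hlen.trans ?_
    have hmem : ∀ i : Fin (forms C.p C.n 0).length,
        ev (glob yL ((forms C.p C.n 0)[i])) ∈ closure (y '' Set.Iio C.n) := fun i => by
      rw [← glob_P]
      refine Subgroup.list_prod_mem _ fun g hg => ?_
      obtain ⟨a, ha, rfl⟩ := List.mem_map.1 hg
      exact subset_closure ⟨a, (hF _ (List.getElem_mem _)).2 a ha, rfl⟩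
    refine le_of_eq_of_le (Nat.card_fin _).symm (Nat.card_le_card_of_injective
      (fun i => (⟨_, hmem i⟩ : closure (y '' Set.Iio C.n))) fun i j e => ?_)
    have e' : ev (glob yL ((forms C.p C.n 0)[i])) = ev (glob yL ((forms C.p C.n 0)[j])) :=
      congrArg Subtype.val e
    refine Fin.ext ((List.Nodup.getElem_inj_iff (nodup_of_distinct _ hd) (hi := by simp)
      (hj := by simp)).1 ?_)
    rw [List.getElem_map, List.getElem_map]
    refine congrArg num ?_
    by_contra hne
    exact keys_ne (hF _ (List.getElem_mem _)).1 (hF _ (List.getElem_mem _)).1 hne e'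
  refine ⟨hS, hrel, fun k hk => ?_, hge, ?_⟩
  · rw [glob_P, glob_P, List.getD_eq_getElem _ _ hk]
    have := ev_eq (hP _ (List.getElem_mem hk)).2
    rwa [ev_cons, ev_append, ev_cons, ev_nil, mul_one] at this
  · have hle := CenSplitStableP50.card_chain C hp.pos hS y hrel
    have h3 := (closure (y '' Set.Iio C.n)).card_mul_index
    rw [McLInvolution.card_P, le_antisymm hle hge, hcard] at h3
    rwa [Nat.eq_of_mul_eq_mul_left (pow_pos hp.pos _) h3]

open McLMultData40

theorem two_ok : dataOK P2.cert P2.yL P2.xL = true := by decide +kernel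

theorem two_comb : P2.cert.combOK = true := by decide +kernel

theorem five_ok : dataOK P5.cert P5.yL P5.xL = true := by decide +kernel

theorem five_comb : P5.cert.combOK = true := by decide +kernel

theorem three_ok : dataOK P3.cert P3.yL P3.xL = true := by decide +kernel

theorem three_comb : CenSplitStableX40.combX P3.cert [P3.pairW] = true := by decide +kernel

/-- first element of the pair -/
noncomputable def aEl : P := ev (glob P3.yL P3.pairW.1)

/-- second element of the pair -/
noncomputable def bEl : P := ev (glob P3.yL P3.pairW.2)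

theorem pair_ok : eqW (glob P3.yL P3.pairW.1 ++ glob P3.yL P3.pairW.2)
    (glob P3.yL P3.pairW.2 ++ glob P3.yL P3.pairW.1) = true ∧
    eqW (glob P3.yL P3.pairW.1 ++ (glob P3.yL P3.pairW.1 ++ glob P3.yL P3.pairW.1)) [] = true := by
  decide +kernel

theorem pair_comm : aEl * bEl = bEl * aEl := by
  have := ev_eq pair_ok.1
  rwa [ev_append, ev_append] at this

theorem pair_cube : aEl ^ 3 = 1 := by
  have := ev_eq pair_ok.2
  rw [ev_append, ev_append, ev_nil] at this
  rw [pow_three]
  exact this

theorem censplit_two : SplitVoltage.CenSplit 2 P := by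
  obtain ⟨hS, h1, h2, h3, h4⟩ := of_data two_ok Nat.prime_two (m := 7016625)
    (by decide +kernel) (by decide +kernel)
  exact CenSplitStableP50.censplit_of_cert P2.cert Nat.prime_two hS two_comb _ (fun a => el (P2.xL.getD a 0)) h1 h2 h3 h4

theorem censplit_five : SplitVoltage.CenSplit 5 P := by
  have hp : Nat.Prime P5.cert.p := (by norm_num : Nat.Prime 5)
  obtain ⟨hS, h1, h2, h3, h4⟩ := of_data five_ok hp (m := 7185024)
    (by decide +kernel) (by decide +kernel)
  exact CenSplitStableP50.censplit_of_cert P5.cert hp hS five_comb _ (fun a => el (P5.xL.getD a 0)) h1 h2 h3 h4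

theorem extend_three {Γ : Type} [Group Γ] [Finite Γ] (σ : Γ →* P) (hs : Function.Surjective σ)
    (hc : σ.ker ≤ center Γ) (χ : σ.ker →* Multiplicative (ZMod 3))
    (hex : ∀ A B : Γ, σ A = aEl → σ B = bEl → ∀ z : σ.ker, A * B = B * A * (z : Γ) → χ z = 1) :
    ∃ ψ : Γ →* Multiplicative (ZMod 3), ∀ z : σ.ker, ψ z = χ z := by
  obtain ⟨hS, h1, h2, h3, h4⟩ := of_data three_ok Nat.prime_three (m := 1232000)
    (by decide +kernel) (by decide +kernel)
  refine CenSplitStableX40.extend_of_cert P3.cert Nat.prime_three hS [P3.pairW] three_comb _ (fun a => el (P3.xL.getD a 0)) h1 h2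
    h3 h4 σ hs hc χ fun q hq A B hA hB => hex A B ?_ ?_
  · rw [hA, List.mem_singleton.1 hq, glob_P]; rfl
  · rw [hB, List.mem_singleton.1 hq, glob_P]; rfl

/-- Stem extensions in which the distinguished commutator is trivial are isomorphisms. -/
theorem ker_eq_bot {Γ : Type} [Group Γ] [Finite Γ] (σ : Γ →* P) (hσ : Cfsg.IsStemExtension σ)
    (htriv : ∀ A B : Γ, σ A = aEl → σ B = bEl → A * B = B * A) : σ.ker = ⊥ := by
  refine StemBasic.ker_eq_bot_of_primes fun p hp z hz hzo => ?_
  haveI := Fact.mk hp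
  have hext : (p = 2 ∨ p = 3 ∨ p = 5) → ∀ χ : σ.ker →* Multiplicative (ZMod p),
      ∃ ψ : Γ →* Multiplicative (ZMod p), ∀ z : σ.ker, ψ z = χ z := by
    rintro (rfl | rfl | rfl) χ
    · exact censplit_two Γ σ hσ.1 hσ.2.1 χ
    · refine extend_three σ hσ.1 hσ.2.1 χ fun A B hA hB w hw => ?_
      have : w = 1 := Subtype.ext (mul_left_cancel
        (hw.symm.trans ((htriv A B hA hB).trans (mul_one _).symm)))
      rw [this, map_one]
    · exact censplit_five Γ σ hσ.1 hσ.2.1 χ
  have hcard : Nat.card P = 898128000 := McLInvolution.card_P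
  by_cases h2 : p = 2 ∨ p = 3 ∨ p = 5
  · obtain ⟨M, hM⟩ : ∃ M : Subgroup σ.ker, M.index = p :=
      SplitVoltage.trivial_multiplier.exists_index_eq_prime hσ.2.1
        (hzo ▸ StemBasic.orderOf_dvd_card_ker hz)
    have hMn : M.Normal := by
      constructor
      intro a ha g
      have : g * a = a * g := Subtype.ext (mem_center_iff.1 (hσ.2.1 a.2) g)
      rwa [this, mul_inv_cancel_right]
    have hcard' : Nat.card (σ.ker ⧸ M) = p := hM
    haveI : IsCyclic (σ.ker ⧸ M) := isCyclic_of_prime_card hcard'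
    let e : σ.ker ⧸ M ≃* Multiplicative (ZMod p) := mulEquivOfCyclicCardEq (by simp [hcard'])
    obtain ⟨ψ, hψ⟩ := hext h2 (e.toMonoidHom.comp (QuotientGroup.mk' M))
    have htop : M = ⊤ := by
      rw [Subgroup.eq_top_iff']
      intro w
      have := hψ w
      rw [SplitVoltage.eq_one_of_mem_commutator ψ (hσ.2.2 w.2)] at this
      have h1 : QuotientGroup.mk' M w = 1 := e.injective (by simpa using this.symm)
      exact (QuotientGroup.eq_one_iff w).1 h1
    rw [htop, Subgroup.index_top] at hM
    exact hp.one_lt.ne hM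
  · -- the other primes have cyclic Sylow subgroups
    obtain ⟨hp2, hp3, hp5⟩ := not_or.1 h2 |>.imp id not_or.1
    have hsq : ¬ p ^ 2 ∣ Nat.card P := by
      intro hd
      rw [hcard, show (898128000 : ℕ) = 2 ^ 7 * 3 ^ 6 * 5 ^ 3 * (7 * 11) by norm_num] at hd
      have hc : ∀ q k : ℕ, q.Prime → p ≠ q → Nat.Coprime (p ^ 2) (q ^ k) := fun q k hq hne =>
        Nat.Coprime.pow _ _ ((Nat.coprime_primes hp hq).2 hne)
      have h4 : Nat.Coprime (p ^ 2) (2 ^ 7 * 3 ^ 6 * 5 ^ 3) :=
        Nat.Coprime.mul_right (Nat.Coprime.mul_right (hc 2 7 Nat.prime_two hp2)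
          (hc 3 6 Nat.prime_three hp3)) (hc 5 3 (by norm_num) hp5)
      have h6 := h4.dvd_of_dvd_mul_left hd
      exact hp.not_isUnit ((by decide +kernel : Squarefree (7 * 11)) p (by rwa [← sq]))
    by_cases hdvd : p ∣ Nat.card P
    · obtain ⟨a, ha⟩ := exists_prime_orderOf_dvd_card' p hdvd
      have hcop : Nat.Coprime (orderOf z) (zpowers a).index := by
        rw [hzo, hp.coprime_iff_not_dvd]
        rintro ⟨k, hk⟩
        refine hsq ⟨k, ?_⟩
        rw [← Subgroup.card_mul_index (zpowers a), Nat.card_zpowers, ha, hk]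
        ring
      have h1 := StemBasic.eq_one_of_kerFree hσ (StemBasic.kerFree_zpowers σ hσ.2.1 a) hz hcop
      rw [h1, orderOf_one] at hzo
      exact hp.one_lt.ne hzo
    · have hcop : Nat.Coprime (Nat.card P) p :=
        Nat.Coprime.symm ((hp.coprime_iff_not_dvd).2 hdvd)
      obtain ⟨M, hM⟩ : ∃ M : Subgroup σ.ker, M.index = p :=
        SplitVoltage.trivial_multiplier.exists_index_eq_prime hσ.2.1
          (hzo ▸ StemBasic.orderOf_dvd_card_ker hz)
      have hMn : M.Normal := by
        constructor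
        intro a ha g
        have : g * a = a * g := Subtype.ext (mem_center_iff.1 (hσ.2.1 a.2) g)
        rwa [this, mul_inv_cancel_right]
      have hcard' : Nat.card (σ.ker ⧸ M) = p := hM
      haveI : IsCyclic (σ.ker ⧸ M) := isCyclic_of_prime_card hcard'
      let e : σ.ker ⧸ M ≃* Multiplicative (ZMod p) := mulEquivOfCyclicCardEq (by simp [hcard'])
      obtain ⟨ψ, hψ⟩ := SplitVoltage.censplit_of_coprime hcop Γ σ hσ.1 hσ.2.1
        (e.toMonoidHom.comp (QuotientGroup.mk' M))
      have htop : M = ⊤ := by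
        rw [Subgroup.eq_top_iff']
        intro w
        have := hψ w
        rw [SplitVoltage.eq_one_of_mem_commutator ψ (hσ.2.2 w.2)] at this
        have h1 : QuotientGroup.mk' M w = 1 := e.injective (by simpa using this.symm)
        exact (QuotientGroup.eq_one_iff w).1 h1
      rw [htop, Subgroup.index_top] at hM
      exact hp.one_lt.ne hM

/-- Kernels of stem extensions have order at most three. -/
theorem card_ker_le {Γ : Type} [Group Γ] [Finite Γ] (σ : Γ →* P) (hσ : Cfsg.IsStemExtension σ) :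
    Nat.card σ.ker ≤ 3 := by
  obtain ⟨A, hA⟩ := hσ.1 aEl
  obtain ⟨B, hB⟩ := hσ.1 bEl
  have hc : ∀ {w : Γ}, w ∈ σ.ker → ∀ g, g * w = w * g := fun hw => mem_center_iff.1 (hσ.2.1 hw)
  let Z : Γ := ⁅A, B⁆
  have hZ : Z ∈ σ.ker := by
    rw [MonoidHom.mem_ker, map_commutatorElement, hA, hB, commutatorElement_eq_one_iff_mul_comm,
      pair_comm]
  have hconj : A * B * A⁻¹ = Z * B := by simp [Z, commutatorElement_def, mul_assoc]
  have hA3 : A ^ 3 ∈ σ.ker := by rw [MonoidHom.mem_ker, map_pow, hA, pair_cube]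
  have hZ3 : Z ^ 3 = 1 := by
    have hstep : ∀ n : ℕ, A ^ n * B * (A ^ n)⁻¹ = Z ^ n * B := by
      intro n
      induction n with
      | zero => simp
      | succ n ih =>
        calc A ^ (n + 1) * B * (A ^ (n + 1))⁻¹ = A * (A ^ n * B * (A ^ n)⁻¹) * A⁻¹ := by
              rw [pow_succ']; group
          _ = A * (Z ^ n * B) * A⁻¹ := by rw [ih]
          _ = Z ^ n * (A * B * A⁻¹) := by
              rw [← mul_assoc A, hc (pow_mem hZ n) A]; group
          _ = Z ^ (n + 1) * B := by rw [hconj, pow_succ, mul_assoc]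
    have h3 := hstep 3
    rw [← hc hA3 B, mul_inv_cancel_right] at h3
    exact mul_eq_right.1 h3.symm
  let N : Subgroup Γ := zpowers Z
  have hNle : N ≤ σ.ker := zpowers_le.2 hZ
  have : N.Normal := ⟨fun w hw g => by rwa [hc (hNle hw) g, mul_inv_cancel_right]⟩
  let σb : Γ ⧸ N →* P := QuotientGroup.lift N σ hNle
  have hkb : ∀ w : Γ ⧸ N, w ∈ σb.ker → ∃ u ∈ σ.ker, QuotientGroup.mk' N u = w := fun w hw => by
    obtain ⟨u, rfl⟩ := QuotientGroup.mk'_surjective N w
    exact ⟨u, hw, rfl⟩
  have hσb : Cfsg.IsStemExtension σb := by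
    refine ⟨fun g => ?_, fun w hw => ?_, fun w hw => ?_⟩
    · obtain ⟨u, rfl⟩ := hσ.1 g
      exact ⟨QuotientGroup.mk u, rfl⟩
    · obtain ⟨u, hu, rfl⟩ := hkb w hw
      rw [mem_center_iff]
      intro v
      obtain ⟨v, rfl⟩ := QuotientGroup.mk'_surjective N v
      rw [← map_mul, ← map_mul, hc hu v]
    · obtain ⟨u, hu, rfl⟩ := hkb w hw
      have h : (commutator Γ).map (QuotientGroup.mk' N) ≤ commutator (Γ ⧸ N) := by
        rw [commutator_def, commutator_def, Subgroup.map_commutator]
        exact Subgroup.commutator_mono le_top le_top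
      exact h (mem_map_of_mem _ (hσ.2.2 hu))
  have hbot := ker_eq_bot σb hσb fun A' B' hA' hB' => by
    obtain ⟨A', rfl⟩ := QuotientGroup.mk'_surjective N A'
    obtain ⟨B', rfl⟩ := QuotientGroup.mk'_surjective N B'
    obtain ⟨za, hza, rfl⟩ : ∃ za ∈ σ.ker, A' = A * za := ⟨A⁻¹ * A', by
      rw [MonoidHom.mem_ker, map_mul, map_inv, hA]
      exact inv_mul_eq_one.2 hA'.symm, by group⟩
    obtain ⟨zb, hzb, rfl⟩ : ∃ zb ∈ σ.ker, B' = B * zb := ⟨B⁻¹ * B', by
      rw [MonoidHom.mem_ker, map_mul, map_inv, hB]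
      exact inv_mul_eq_one.2 hB'.symm, by group⟩
    rw [← map_mul, ← map_mul]
    refine (QuotientGroup.eq.2 ?_)
    have hz : A * za * (B * zb) = Z * (B * zb * (A * za)) := by
      calc A * za * (B * zb) = A * (za * B) * zb := by group
        _ = A * B * za * zb := by rw [← hc hza B]; group
        _ = Z * (B * A) * (za * zb) := by simp only [Z, commutatorElement_def]; group
        _ = Z * (B * (A * (za * zb))) := by group
        _ = Z * (B * (A * za * zb)) := by group
        _ = Z * (B * (zb * (A * za))) := by rw [hc hzb (A * za)]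
        _ = _ := by group
    rw [hz, mul_inv_rev, mul_assoc, ← hc (inv_mem hZ) , inv_mul_cancel_left]
    exact inv_mem (mem_zpowers Z)
  have hle : σ.ker ≤ N := fun u hu => by
    have : QuotientGroup.mk' N u ∈ σb.ker := hu
    rw [hbot, mem_bot] at this
    exact (QuotientGroup.eq_one_iff u).1 this
  calc Nat.card σ.ker ≤ Nat.card N := Subgroup.card_le_of_le hle
    _ = orderOf Z := Nat.card_zpowers Z
    _ ≤ 3 := Nat.le_of_dvd (by norm_num) (orderOf_dvd_of_pow_eq_one hZ3)

end Cfsg.Agent.McLMultUpper40
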