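import Cfsg.Agent.Lib.McLRankThree63Local
import Cfsg.Agent.Lib.LeechUnitary43
import Cfsg.Agent.Lib.OrthUnitaryPSU

/-!
The unitary group on 112 points: orbits of a point stabiliser, simplicity, and the uniqueness of a
transitive action of degree 112 with an invariant graph of valency 30.
-/

set_option autoImplicit false
set_option linter.style.haveILetI false

namespace Cfsg.Agent.McLRankThree63

open Finset Cfsg.Agent.PermImageCert

theorem nonempty_psu_iso {F : Type} [Field F] [Fintype F] (hF : Fintype.card F = 9) :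
    Nonempty (Cfsg.PSU 4 F 3 ≃* U) := by
  obtain ⟨s, hs, hsp⟩ := UnitaryImageFields.gen_nine hF
  have hgen : UnitaryImage.GenOK LeechUnitary43.field s :=
    { tables := LeechUnitary43.tables_ok
      char := UnitaryImageFields.cast_char (k := 2) Nat.prime_three (by rw [hF]; rfl)
      sq := by simp [LeechUnitary43.field, hs]
      frob := by simpa [LeechUnitary43.field] using hsp
      prime := Nat.prime_three }
  obtain ⟨e₂⟩ := UnitaryImage.exists_iso hgen (n := 4) (r := 2) (N := 112) (by norm_num)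
    (show Fintype.card F = 3 ^ 2 by rw [hF]; rfl)
    LeechUnitary43.subspaces LeechUnitary43.annihilators LeechUnitary43.distinct_ok
    (LeechUnitary43.matrices.zip (LeechUnitary43.perms.map Prod.fst)) LeechUnitary43.matrices_ok
    (by
      rw [LeechUnitary43.matrices_map]
      exact transitive_of_tree LeechUnitary43.perms_ok LeechUnitary43.slp_ok LeechUnitary43.chain_ok
        LeechUnitary43.tree_length)
    (M := 3265920) (by rw [LeechUnitary43.matrices_map]; exact LeechUnitary43.le_card)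
    (UnitaryImageFields.card_PSU43 hF)
  exact ⟨e₂.trans (MulEquiv.subgroupCongr (by rw [LeechUnitary43.matrices_map]; rfl))⟩

theorem U_facts {F : Type} [Field F] [Fintype F] (hF : Fintype.card F = 9) :
    Nat.card U = 3265920 ∧ IsSimpleGroup U := by
  obtain ⟨e⟩ := nonempty_psu_iso hF
  haveI := OrthUnitaryPSU.isSimpleGroup_PSU (n := 4) (q := 3)
    (show Fintype.card F = 3 ^ 2 by rw [hF]; rfl) (by norm_num) (by norm_num)
  exact ⟨by rw [← Nat.card_congr e.toEquiv, UnitaryImageFields.card_PSU43 hF],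
    MulEquiv.isSimpleGroup e.symm⟩

/-- A simple subgroup of large order lies in every subgroup of small index. -/
theorem le_of_simple {W : Type*} [Group W] [Finite W] {A H K : Subgroup W} (hH : H ≤ A) (hK : K ≤ A)
    [IsSimpleGroup H] {d : ℕ} (hA : Nat.card A ≤ d * Nat.card K)
    (hd : ∀ e ≤ d, ¬ Nat.card H ∣ Nat.factorial e) : H ≤ K := by
  set K' := K.subgroupOf A with hK'
  have hcK : Nat.card K' = Nat.card K := Nat.card_congr (Subgroup.subgroupOfEquivOfLe hK).toEquiv
  have hidx : Nat.card (A ⧸ K') ≤ d := by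
    have h := K'.card_mul_index
    rw [hcK] at h
    rw [← h, mul_comm d] at hA
    exact Nat.le_of_mul_le_mul_left hA Nat.card_pos
  let f : H →* Equiv.Perm (A ⧸ K') := (MulAction.toPermHom A (A ⧸ K')).comp (Subgroup.inclusion hH)
  rcases (MonoidHom.normal_ker f).eq_bot_or_eq_top with h | h
  · exfalso
    have hdvd := Subgroup.card_dvd_of_injective f ((MonoidHom.ker_eq_bot_iff f).mp h)
    rw [Nat.card_perm] at hdvd
    exact hd _ hidx hdvd
  · intro x hx
    have hx' : f ⟨x, hx⟩ = 1 := MonoidHom.mem_ker.mp (h ▸ Subgroup.mem_top _)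
    have := Equiv.ext_iff.mp hx' ((1 : A) : A ⧸ K')
    change ((Subgroup.inclusion hH ⟨x, hx⟩ * 1 : A) : A ⧸ K') = ((1 : A) : A ⧸ K') at this
    rw [mul_one, QuotientGroup.eq, mul_one, inv_mem_iff] at this
    exact this

/-- A simple group of that order acting on the graph is the unitary group. -/
theorem eq_U {F : Type} [Field F] [Fintype F] (hF : Fintype.card F = 9)
    {K : Subgroup (Equiv.Perm (Fin 112))} (hK : K ≤ autL) [IsSimpleGroup K]
    (hc : Nat.card K = 3265920) : K = U := by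
  obtain ⟨hU, -⟩ := U_facts hF
  refine Subgroup.eq_of_le_of_card_ge (le_of_simple hK U_le_autL (d := 8) ?_ ?_) (by rw [hc, hU])
  · rw [hU]; exact card_autL_le.trans (by norm_num)
  · intro e he h
    rw [hc] at h
    have := Nat.le_of_dvd (Nat.factorial_pos _) h
    have := (Nat.factorial_le he).trans' this
    norm_num [Nat.factorial] at this

/-! ### The point stabiliser -/

/-- The stabiliser of the first point. -/
def S0 : Subgroup U := MulAction.stabilizer U (0 : Fin 112)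

theorem table_mem : ∀ P ∈ table, ∃ σ ∈ U, Rep σ P :=
  inGroup_slp LeechUnitary43.slp _ LeechUnitary43.slp_ok (inGroup_allCodes LeechUnitary43.perms_ok)

theorem adj_smul (σ : U) (i j : Fin 112) : adj (σ • i) (σ • j) ↔ adj i j := U_le_autL σ.2 i j

/-- The near points. -/
theorem card_near : (nb 0).card = 30 ∧ ∀ w, adj 0 w → ∀ w', adj 0 w' → ∃ σ ∈ S0, σ • w = w' := by
  obtain ⟨htree, hlen, hadj, hlt⟩ := near_ok
  obtain ⟨S, hS, hSr⟩ := tree_spec table_mem [0] ⟨nearRoot, hlt⟩ nearTree _ htree {⟨nearRoot, hlt⟩}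
    (fun p => by
      rw [Nat.one_shiftLeft, Nat.testBit_two_pow, decide_eq_true_eq, Finset.mem_singleton, Fin.ext_iff]
      exact ⟨Eq.symm, Eq.symm⟩)
    (fun p hp => ⟨1, one_mem _, by rw [Finset.mem_singleton] at hp; rw [hp]; rfl⟩)
  rw [Finset.card_singleton] at hS
  have hsub : S ⊆ nb 0 := by
    intro p hp
    obtain ⟨σ, ⟨hσ, hσ0⟩, rfl⟩ := hSr p hp
    rw [mem_nb, ← hσ0 0 (by simp), U_le_autL hσ]
    exact hadj
  have heq : S = nb 0 := eq_of_subset_of_card_le hsub ((card_nb_le 0).trans (by omega))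
  refine ⟨by rw [← heq, hS]; omega, fun w hw w' hw' => ?_⟩
  obtain ⟨σ, ⟨hσ, hσ0⟩, hσw⟩ := hSr w (heq ▸ mem_nb.mpr hw)
  obtain ⟨τ, ⟨hτ, hτ0⟩, hτw⟩ := hSr w' (heq ▸ mem_nb.mpr hw')
  refine ⟨⟨τ * σ⁻¹, mul_mem hτ (inv_mem hσ)⟩, ?_, ?_⟩
  · show τ (σ⁻¹ 0) = 0
    rw [show σ⁻¹ (0 : Fin 112) = 0 from Equiv.Perm.inv_eq_iff_eq.mpr (hσ0 0 (by simp)).symm]
    exact hτ0 0 (by simp)
  · show τ (σ⁻¹ w) = w'
    rw [← hσw]
    simpa using hτw

/-- The far points. -/
theorem card_far : (univ.filter (fun w : Fin 112 => w ≠ 0 ∧ ¬ adj 0 w)).card = 81 ∧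
    ∀ w, w ≠ 0 → ¬ adj 0 w → ∀ w', w' ≠ 0 → ¬ adj 0 w' → ∃ σ ∈ S0, σ • w = w' := by
  obtain ⟨htree, hlen, hadj, hlt, hne⟩ := far_ok
  obtain ⟨S, hS, hSr⟩ := tree_spec table_mem [0] ⟨farRoot, hlt⟩ farTree _ htree {⟨farRoot, hlt⟩}
    (fun p => by
      rw [Nat.one_shiftLeft, Nat.testBit_two_pow, decide_eq_true_eq, Finset.mem_singleton, Fin.ext_iff]
      exact ⟨Eq.symm, Eq.symm⟩)
    (fun p hp => ⟨1, one_mem _, by rw [Finset.mem_singleton] at hp; rw [hp]; rfl⟩)
  rw [Finset.card_singleton] at hS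
  set F := univ.filter (fun w : Fin 112 => w ≠ 0 ∧ ¬ adj 0 w) with hF
  have hsub : S ⊆ F := by
    intro p hp
    obtain ⟨σ, ⟨hσ, hσ0⟩, rfl⟩ := hSr p hp
    refine mem_filter.mpr ⟨mem_univ _, fun e => hne ?_, ?_⟩
    · exact congrArg Fin.val (σ.injective (e.trans (hσ0 0 (by simp)).symm))
    · rw [← hσ0 0 (by simp), U_le_autL hσ]
      show ¬ (row _).testBit _ = true
      simp [hadj]
  have hcF : F.card = 81 := by
    have hpart : F = (univ.erase (0 : Fin 112)) \ nb 0 := by
      ext w; simp [hF, mem_nb]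
    rw [hpart, card_sdiff_of_subset, card_erase_of_mem (mem_univ _), card_univ, Fintype.card_fin,
      card_near.1]
    intro w hw
    exact mem_erase.mpr ⟨fun e => adj_irrefl 0 (mem_nb.mp (e ▸ hw)), mem_univ _⟩
  have heq : S = F := eq_of_subset_of_card_le hsub (by omega)
  refine ⟨hcF, fun w hw hw2 w' hw' hw'2 => ?_⟩
  obtain ⟨σ, ⟨hσ, hσ0⟩, hσw⟩ := hSr w (heq ▸ mem_filter.mpr ⟨mem_univ _, hw, hw2⟩)
  obtain ⟨τ, ⟨hτ, hτ0⟩, hτw⟩ := hSr w' (heq ▸ mem_filter.mpr ⟨mem_univ _, hw', hw'2⟩)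
  refine ⟨⟨τ * σ⁻¹, mul_mem hτ (inv_mem hσ)⟩, ?_, ?_⟩
  · show τ (σ⁻¹ 0) = 0
    rw [show σ⁻¹ (0 : Fin 112) = 0 from Equiv.Perm.inv_eq_iff_eq.mpr (hσ0 0 (by simp)).symm]
    exact hτ0 0 (by simp)
  · show τ (σ⁻¹ w) = w'
    rw [← hσw]
    simpa using hτw

theorem transitive (i : Fin 112) : ∃ σ : U, σ • (0 : Fin 112) = i := by
  obtain ⟨σ, hσ, hσi⟩ := transitive_of_tree LeechUnitary43.perms_ok LeechUnitary43.slp_ok
    LeechUnitary43.chain_ok LeechUnitary43.tree_length i
  refine ⟨(⟨σ, hσ⟩ : U)⁻¹, inv_smul_eq_iff.mpr (Fin.ext ?_)⟩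
  exact hσi.symm

/-- Two adjacent points have two common neighbours. -/
theorem card_common {w : Fin 112} (hw : adj 0 w) : (nb 0 ∩ nb w).card ≤ 2 := by
  have h := allBelow_spec common_ok w w.2
  rw [Bool.or_eq_true, Bool.not_eq_true'] at h
  have hw' : (row 0).testBit w = true := hw
  rw [hw'] at h
  simp only [Bool.true_eq_false, false_or, Nat.beq_eq] at h
  rw [← h, List.countP_eq_length_filter, ← List.toFinset_card_of_nodup (List.nodup_range.filter _),
    ← card_image_of_injective _ Fin.val_injective]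
  refine card_le_card fun j hj => ?_
  obtain ⟨u, hu, rfl⟩ := mem_image.mp hj
  rw [mem_inter, mem_nb, mem_nb] at hu
  have h1 : (row 0).testBit u = true := hu.1
  have h2 : (row w).testBit u = true := hu.2
  simp [Nat.testBit_and, h1, h2]

end Cfsg.Agent.McLRankThree63
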