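import Cfsg.Agent.Lib.McLRankThree63Data
import Cfsg.Agent.Lib.PermImageCert
import Cfsg.Agent.Lib.LeechUnitary43Perms

/-!
Kernel checks of the tables for the graph on 112 points: adjacency, cliques, automorphisms, the search
for hemisystems, orbits of a point stabiliser and the base.
-/

set_option autoImplicit false

namespace Cfsg.Agent.McLRankThree63

open Cfsg.Agent.PermImageCert

/-- A row. -/
def row (i : ℕ) : ℕ := rows.getD i 0

/-- A clique. -/
def clq (k : ℕ) : List ℕ := cliques.getD k []

/-- The mask of a list. -/
def maskOf : List ℕ → ℕ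
  | [] => 0
  | j :: l => (1 <<< j) ||| maskOf l

theorem testBit_maskOf : ∀ (l : List ℕ) (j : ℕ), (maskOf l).testBit j = true ↔ j ∈ l
  | [], j => by simp [maskOf]
  | a :: l, j => by
    rw [maskOf, Nat.testBit_or, Bool.or_eq_true, testBit_maskOf l j, Nat.one_shiftLeft,
      Nat.testBit_two_pow, decide_eq_true_eq, List.mem_cons]
    exact or_congr_left ⟨Eq.symm, Eq.symm⟩

/-- Symmetry and irreflexivity. -/
noncomputable def symmOK : Bool :=
  allBelow (fun i => !(Nat.testBit (row i) i) &&
    allBelow (fun j => Nat.testBit (row i) j == Nat.testBit (row j) i) i) 112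

/-- The neighbour lists. -/
noncomputable def nbrsOK : Bool :=
  allBelow (fun i => Nat.beq (maskOf (nbrs.getD i [])) (row i) && (nbrs.getD i []).all (fun j => Nat.blt j 112) &&
    Nat.beq (nbrs.getD i []).length 30) 112

/-- The cliques have at most four points. -/
noncomputable def clqOK : Bool := allBelow (fun k => Nat.ble (clq k).length 4) 280

/-- The cliques at a point: exactly those containing it, ten, covering the neighbours once. -/
noncomputable def incidOK : Bool :=
  allBelow (fun i =>
    (incid.getD i []).all (fun k => Nat.blt k 280) &&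
    decide (incid.getD i []).Nodup && Nat.beq (incid.getD i []).length 10 &&
    allBelow (fun k => (clq k).contains i == (incid.getD i []).contains k) 280 &&
    Nat.beq (maskOf ((incid.getD i []).flatMap clq)) ((1 <<< i) ||| row i) &&
    (incid.getD i []).all (fun k => (incid.getD i []).all (fun k' => Nat.beq k k' ||
      Nat.beq (maskOf (clq k) &&& maskOf (clq k')) (1 <<< i)))) 112

/-- A permutation of the points maps neighbours to neighbours. -/
noncomputable def mapsAdjOK (P : ℕ) : Bool :=
  allBelow (fun i => (nbrs.getD i []).all (fun j => Nat.testBit (row (get P i)) (get P j))) 112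

/-- A coded automorphism. -/
noncomputable def autoOK (q : ℕ × ℕ) : Bool := invOK 112 q && mapsAdjOK q.1 && mapsAdjOK q.2

/-- The points of a mask in a clique. -/
def cnt (m : ℕ) (c : List ℕ) : ℕ := c.countP (fun j => Nat.testBit m j)

/-- The points of a clique outside a mask. -/
def outside (m : ℕ) (c : List ℕ) : ℕ := maskOf (c.filter (fun j => !(Nat.testBit m j)))

/-- A forced step. -/
def step (s : ℕ × ℕ) (k : ℕ) : ℕ × ℕ :=
  if Nat.ble 2 (cnt s.1 (clq k)) then (s.1, s.2 ||| outside s.1 (clq k))
  else if Nat.ble 2 (cnt s.2 (clq k)) then (s.1 ||| outside s.2 (clq k), s.2) else s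

/-- The state of a node. -/
def state (d : Node) : ℕ × ℕ := d.steps.foldl step (d.din, d.dout)

/-- An earlier node covers a state. -/
noncomputable def refOK (P : ℕ) (d : Node) (s : ℕ × ℕ) : Bool :=
  allBelow (fun i => (!(Nat.testBit d.din i) || Nat.testBit s.1 (get P i)) &&
    (!(Nat.testBit d.dout i) || Nat.testBit s.2 (get P i))) 112

/-- The empty node. -/
def noNode : Node := ⟨0, 0, [], .bad 0⟩

/-- A node is verified. -/
noncomputable def nodeOK (n : ℕ) (d : Node) : Bool :=
  d.steps.all (fun k => Nat.blt k 280) &&
  match d.fin with
  | .bad c => Nat.blt c 280 &&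
      (Nat.ble 3 (cnt (state d).1 (clq c)) || Nat.ble 3 (cnt (state d).2 (clq c)))
  | .leaf s => Nat.blt s autos.length &&
      allBelow (fun i => (Nat.testBit (state d).1 i || Nat.testBit (state d).2 i) &&
        (Nat.testBit (state d).1 i == Nat.testBit hemi (get (autos.getD s (0, 0)).1 i))) 112
  | .split v k₁ g₁ k₂ g₂ => Nat.blt v 112 && Nat.blt k₁ n && Nat.blt k₂ n &&
      Nat.blt g₁ autos.length && Nat.blt g₂ autos.length &&
      refOK (autos.getD g₁ (0, 0)).1 (nodes.getD k₁ noNode) ((state d).1 ||| 1 <<< v, (state d).2) &&
      refOK (autos.getD g₂ (0, 0)).1 (nodes.getD k₂ noNode) ((state d).1, (state d).2 ||| 1 <<< v)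

/-- All nodes are verified, and the last one is the root. -/
noncomputable def nodesOK : Bool :=
  allBelow (fun n => nodeOK n (nodes.getD n noNode)) nodes.length &&
    Nat.beq (nodes.getD (nodes.length - 1) noNode).din 0 &&
    Nat.beq (nodes.getD (nodes.length - 1) noNode).dout 0 && Nat.blt 0 nodes.length

/-- The table of group elements. -/
def table : List ℕ :=
  allCodes LeechUnitary43.perms ++ LeechUnitary43.slp.map (fun o => o.2.2)

/-- The class of a point under the stabiliser of a list of points. -/
def classMask : List ℕ → ℕ → ℕ
  | [], _ => 5192296858534827628530496329220095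
  | b :: bs, v =>
    (if Nat.testBit (row b) v then row b else 5192296858534827628530496329220095 ^^^ row b) &&&
      ((5192296858534827628530496329220095 ^^^ (1 <<< b)) &&& classMask bs v)

/-- The base sequence is as stated. -/
noncomputable def baseOK : List ℕ → List (ℕ × ℕ × ℕ) → Bool
  | pre, [] => allBelow (fun i => pre.contains i) 112
  | pre, (v, n, m) :: rest =>
    Nat.blt v 112 && !(pre.contains v) && Nat.beq (classMask pre v) m &&
      Nat.ble ((List.range 112).countP (fun i => Nat.testBit m i)) n && baseOK (v :: pre) rest

/-- The product of the class sizes. -/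
def baseSize : List (ℕ × ℕ × ℕ) → ℕ
  | [] => 1
  | (_, n, _) :: rest => n * baseSize rest

theorem symm_ok : symmOK = true := by decide +kernel

theorem nbrs_ok : nbrsOK = true := by decide +kernel

theorem clq_ok : clqOK = true := by decide +kernel

theorem incid_ok : incidOK = true := by decide +kernel

theorem autos_ok : autos.all autoOK = true := by decide +kernel

theorem perms_auto_ok : LeechUnitary43.perms.all autoOK = true := by decide +kernel

theorem nodes_ok : nodesOK = true := by decide +kernel

theorem near_ok : treeOK 112 table [0] (1 <<< nearRoot) nearTree = true ∧ nearTree.length + 1 = 30 ∧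
    Nat.testBit (row 0) nearRoot = true ∧ nearRoot < 112 := by decide +kernel

theorem far_ok : treeOK 112 table [0] (1 <<< farRoot) farTree = true ∧ farTree.length + 1 = 81 ∧
    Nat.testBit (row 0) farRoot = false ∧ farRoot < 112 ∧ farRoot ≠ 0 := by decide +kernel

theorem common_ok : allBelow (fun w => !(Nat.testBit (row 0) w) ||
    Nat.beq ((List.range 112).countP (fun i => Nat.testBit (row 0 &&& row w) i)) 2) 112 = true := by decide +kernel

theorem hemi_lt : hemi < 2 ^ 112 := by decide +kernel

theorem base_ok : baseOK [] base = true := by decide +kernel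

theorem base_size : baseSize base = 26127360 := by decide +kernel

end Cfsg.Agent.McLRankThree63
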