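import Cfsg.Agent.Lib.McLRankThree63Action

/-!
A transitive action of U(4,3) of degree 112 with an invariant graph of valency 30 is the action on the
totally singular lines, with the graph of meeting lines.
-/

set_option autoImplicit false
set_option linter.style.haveILetI false

namespace Cfsg.Agent.McLRankThree63

open Finset Cfsg.Agent.PermImageCert
open scoped Pointwise

theorem image_smul_nb (σ : U) (i : Fin 112) : σ • nb i = nb (σ • i) := by
  rw [Finset.smul_finset_def]
  exact image_nb (U_le_autL σ.2) i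

theorem card_nb {i : Fin 112} : (nb i).card = 30 := by
  obtain ⟨σ, rfl⟩ := transitive i
  rw [← image_smul_nb, card_smul_finset, card_near.1]

/-- The size of an orbit of the point stabiliser fixes the order of the stabiliser. -/
theorem card_stab_S0 (hU : Nat.card U = 3265920) :
    Nat.card S0 = 29160 ∧
      (∀ w, adj 0 w → Nat.card ↥(S0 ⊓ MulAction.stabilizer U w) = 972) ∧
      (∀ w, w ≠ 0 → ¬ adj 0 w → Nat.card ↥(S0 ⊓ MulAction.stabilizer U w) = 360) := by
  haveI : MulAction.IsPretransitive U (Fin 112) := ⟨fun i j => by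
    obtain ⟨σ, rfl⟩ := transitive i
    obtain ⟨τ, rfl⟩ := transitive j
    exact ⟨τ * σ⁻¹, by rw [mul_smul, inv_smul_smul]⟩⟩
  have h0 : Nat.card S0 = 29160 := by
    have := (MulAction.stabilizer U (0 : Fin 112)).card_mul_index
    rw [MulAction.index_stabilizer_of_transitive, Nat.card_eq_fintype_card (α := Fin 112), Fintype.card_fin,
      hU] at this
    show Nat.card (MulAction.stabilizer U (0 : Fin 112)) = 29160
    omega
  have key : ∀ (w : Fin 112) (F : Finset (Fin 112)), w ∈ F → (∀ σ ∈ S0, σ • w ∈ F) →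
      (∀ w' ∈ F, ∃ σ ∈ S0, σ • w = w') →
      F.card * Nat.card ↥(S0 ⊓ MulAction.stabilizer U w) = 29160 := by
    intro w F hw hinv htr
    have horb : MulAction.orbit S0 w = ↑F := by
      ext z
      rw [mem_coe]
      exact ⟨fun ⟨σ, hσ⟩ => hσ ▸ hinv σ σ.2, fun hz => by
        obtain ⟨σ, hσ, h⟩ := htr z hz
        exact ⟨⟨σ, hσ⟩, h⟩⟩
    have h := (MulAction.stabilizer S0 w).card_mul_index
    rw [MulAction.index_stabilizer, horb, Set.ncard_coe_finset, h0] at h
    have he : Nat.card (MulAction.stabilizer S0 w) = Nat.card ↥(S0 ⊓ MulAction.stabilizer U w) :=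
      Nat.card_congr
        { toFun := fun g => ⟨g.1.1, g.1.2, g.2⟩
          invFun := fun g => ⟨⟨g.1, g.2.1⟩, g.2.2⟩
          left_inv := fun _ => rfl
          right_inv := fun _ => rfl }
    rw [he] at h
    rw [mul_comm, h]
  refine ⟨h0, fun w hw => ?_, fun w hw hw2 => ?_⟩
  · have := key w (nb 0) (mem_nb.mpr hw) (fun σ hσ => mem_nb.mpr ?_)
      (fun w' hw' => card_near.2 w hw w' (mem_nb.mp hw'))
    · rw [card_near.1] at this; omega
    · have h := adj_smul σ 0 w
      rw [MulAction.mem_stabilizer_iff.mp hσ] at h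
      exact h.mpr hw
  · have := key w (univ.filter (fun w : Fin 112 => w ≠ 0 ∧ ¬ adj 0 w)) (mem_filter.mpr ⟨mem_univ _, hw, hw2⟩)
      (fun σ hσ => mem_filter.mpr ⟨mem_univ _, ?_, ?_⟩)
      (fun w' hw' => card_far.2 w hw hw2 w' (mem_filter.mp hw').2.1 (mem_filter.mp hw').2.2)
    · rw [card_far.1] at this; omega
    · intro e
      exact hw (MulAction.injective σ (e.trans (MulAction.mem_stabilizer_iff.mp hσ).symm))
    · have h := adj_smul σ 0 w
      rw [MulAction.mem_stabilizer_iff.mp hσ] at h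
      exact fun h' => hw2 (h.mp h')

/-- The clique through an edge at the first point has more than 112 images. -/
theorem lt_ncard_orbit {O : Finset (Fin 112)} (hO : O.card = 4) (h0 : 0 ∈ O) {w : Fin 112} (hwO : w ∈ O)
    (hw : adj 0 w) : 112 < (MulAction.orbit U O).ncard := by
  classical
  set 𝒪 := (Set.toFinite (MulAction.orbit U O)).toFinset with h𝒪
  have hcard4 : ∀ C ∈ 𝒪, C.card = 4 := fun C hC => by
    rw [h𝒪, Set.Finite.mem_toFinset] at hC
    obtain ⟨σ, rfl⟩ := hC
    exact (card_smul_finset σ O).trans hO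
  have hpair : ∀ i j, adj i j → ∃ C ∈ 𝒪, i ∈ C ∧ j ∈ C := by
    intro i j hij
    obtain ⟨σ, rfl⟩ := transitive i
    obtain ⟨τ, hτ, hτw⟩ := card_near.2 w hw (σ⁻¹ • j) (by
      have h := adj_smul σ 0 (σ⁻¹ • j)
      rw [smul_inv_smul] at h
      exact h.mp hij)
    refine ⟨(σ * τ) • O, ?_, ?_, ?_⟩
    · rw [h𝒪, Set.Finite.mem_toFinset]; exact MulAction.mem_orbit O _
    · have := Finset.smul_mem_smul_finset (a := σ * τ) h0
      rwa [mul_smul σ τ (0 : Fin 112), MulAction.mem_stabilizer_iff.mp hτ] at this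
    · have := Finset.smul_mem_smul_finset (a := σ * τ) hwO
      rwa [mul_smul σ τ w, hτw, smul_inv_smul] at this
  have h10 : ∀ i, 10 ≤ (𝒪.filter (fun C => i ∈ C)).card := by
    intro i
    have hsub : nb i ⊆ (𝒪.filter (fun C => i ∈ C)).biUnion (fun C => C.erase i) := fun j hj => by
      obtain ⟨C, hC, hiC, hjC⟩ := hpair i j (mem_nb.mp hj)
      exact mem_biUnion.mpr ⟨C, mem_filter.mpr ⟨hC, hiC⟩,
        mem_erase.mpr ⟨fun e => adj_irrefl i (by have h' := mem_nb.mp hj; rwa [e] at h'), hjC⟩⟩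
    have hle := (card_le_card hsub).trans card_biUnion_le
    rw [card_nb, sum_congr rfl (fun C hC => show (C.erase i).card = 3 by
      rw [card_erase_of_mem (mem_filter.mp hC).2, hcard4 C (mem_filter.mp hC).1]), sum_const,
      smul_eq_mul] at hle
    omega
  have hdc := sum_card_bipartiteAbove_eq_sum_card_bipartiteBelow (fun (C : Finset (Fin 112)) i => i ∈ C)
    (s := 𝒪) (t := univ)
  simp only [bipartiteAbove, bipartiteBelow] at hdc
  rw [sum_congr rfl (fun C hC => show (univ.filter fun i => i ∈ C).card = 4 by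
    rw [filter_univ_mem, hcard4 C hC]), sum_const, smul_eq_mul] at hdc
  have := card_nsmul_le_sum (univ : Finset (Fin 112)) _ 10 (fun i _ => h10 i)
  rw [card_univ, Fintype.card_fin, smul_eq_mul, ← hdc] at this
  rw [Set.ncard_eq_toFinset_card _ (Set.toFinite _), ← h𝒪]
  omega

/-- A subgroup of index 112 containing a Sylow 3-subgroup of the point stabiliser fixes the point. -/
theorem eq_S0 (hU : Nat.card U = 3265920) {H P : Subgroup U} (hH : Nat.card H = 29160)
    (hP : Nat.card P = 729) (hP0 : P ≤ S0) (hPH : P ≤ H) : H = S0 := by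
  classical
  obtain ⟨hS0, hnear, hfar⟩ := card_stab_S0 hU
  set O := (Set.toFinite (MulAction.orbit H (0 : Fin 112))).toFinset with hOdef
  have hmemO : ∀ {z}, z ∈ O ↔ z ∈ MulAction.orbit H (0 : Fin 112) := fun {z} => Set.Finite.mem_toFinset _
  have h0 : (0 : Fin 112) ∈ O := hmemO.mpr (MulAction.mem_orbit_self _)
  have hOinv : ∀ σ ∈ H, ∀ z ∈ O, σ • z ∈ O := fun σ hσ z hz =>
    hmemO.mpr (MulAction.mem_orbit_of_mem_orbit (⟨σ, hσ⟩ : H) (hmemO.mp hz))
  have hOcard : O.card ∣ 40 := by
    have h := (MulAction.stabilizer H (0 : Fin 112)).card_mul_index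
    rw [MulAction.index_stabilizer, Set.ncard_eq_toFinset_card _ (Set.toFinite _), ← hOdef, hH] at h
    have hdvd : Nat.card (P.subgroupOf H) ∣ Nat.card (MulAction.stabilizer H (0 : Fin 112)) :=
      Subgroup.card_dvd_of_le fun g hg => hP0 (Subgroup.mem_subgroupOf.mp hg)
    rw [Nat.card_congr (Subgroup.subgroupOfEquivOfLe hPH).toEquiv, hP] at hdvd
    obtain ⟨c, hc⟩ := hdvd
    rw [hc] at h
    exact ⟨c, by nlinarith⟩
  have hPorb : ∀ w ∈ O, w ≠ 0 → ∀ {m k : ℕ}, Nat.card ↥(S0 ⊓ MulAction.stabilizer U w) = m →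
      Nat.gcd 729 m * k = 729 → k + 1 ≤ O.card := by
    intro w hw hw0 m k hm hk
    set Of := (Set.toFinite (MulAction.orbit P w)).toFinset with hOf
    have hsub : Of ⊆ O.erase 0 := by
      intro z hz
      rw [hOf, Set.Finite.mem_toFinset] at hz
      obtain ⟨σ, rfl⟩ := hz
      refine mem_erase.mpr ⟨fun e => hw0 ?_, hOinv _ (hPH σ.2) w hw⟩
      have hfix : (σ : U) • (0 : Fin 112) = 0 := hP0 σ.2
      exact MulAction.injective (σ : U) (e.trans hfix.symm)
    have h := (MulAction.stabilizer P w).card_mul_index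
    rw [MulAction.index_stabilizer, Set.ncard_eq_toFinset_card _ (Set.toFinite _), ← hOf, hP] at h
    have hdvd : Nat.card (MulAction.stabilizer P w) ∣ Nat.gcd 729 m := by
      refine Nat.dvd_gcd (hP ▸ Subgroup.card_subgroup_dvd_card _) (hm ▸ ?_)
      let f : MulAction.stabilizer P w →* ↥(S0 ⊓ MulAction.stabilizer U w) :=
        MonoidHom.mk' (fun g => ⟨g.1.1, hP0 g.1.2, g.2⟩) (fun _ _ => rfl)
      exact Subgroup.card_dvd_of_injective f fun a b hab =>
        Subtype.ext (Subtype.ext (congrArg (fun x : ↥(S0 ⊓ MulAction.stabilizer U w) => (x : U)) hab))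
    have hg0 : 0 < Nat.gcd 729 m := Nat.gcd_pos_of_pos_left _ (by norm_num)
    have hle := Nat.le_of_dvd hg0 hdvd
    have h2 := card_le_card hsub
    rw [card_erase_of_mem h0] at h2
    have hO1 : 0 < O.card := card_pos.mpr ⟨0, h0⟩
    have hkle : k ≤ Of.card := by
      by_contra hlt
      push Not at hlt
      have := Nat.mul_le_mul hle (Nat.succ_le_of_lt hlt)
      rw [hk, Nat.mul_succ, h] at this
      have := Nat.card_pos (α := MulAction.stabilizer P w)
      omega
    omega
  have h40 := Nat.le_of_dvd (by norm_num) hOcard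
  -- no far point
  have hnofar : ∀ w ∈ O, w ≠ 0 → adj 0 w := by
    intro w hw hw0
    by_contra hna
    have := hPorb w hw hw0 (hfar w hw0 hna) (k := 81) (by norm_num)
    omega
  -- a clique
  have hclique : ∀ x ∈ O, ∀ y ∈ O, x ≠ y → adj x y := by
    intro x hx y hy hxy
    obtain ⟨σ, rfl⟩ := hmemO.mp hx
    have hy' := hOinv _ (H.inv_mem σ.2) y hy
    have hne : (σ : U)⁻¹ • y ≠ 0 := fun e => hxy (inv_smul_eq_iff.mp e).symm
    have h := (adj_smul (σ : U) 0 ((σ : U)⁻¹ • y)).mpr (hnofar _ hy' hne)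
    rwa [smul_inv_smul] at h
  have hone : O = {0} := by
    refine eq_singleton_iff_unique_mem.mpr ⟨h0, fun w hw => ?_⟩
    by_contra hw0
    have hwa := hnofar w hw hw0
    have h4 := hPorb w hw hw0 (hnear w hwa) (k := 3) (by norm_num)
    have hsub : O ⊆ {0, w} ∪ (nb 0 ∩ nb w) := by
      intro z hz
      rcases eq_or_ne z 0 with rfl | hz0
      · simp
      rcases eq_or_ne z w with rfl | hzw
      · simp
      exact mem_union_right _ (mem_inter.mpr ⟨mem_nb.mpr (hnofar z hz hz0),
        mem_nb.mpr (hclique w hw z hz (Ne.symm hzw))⟩)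
    have hle := (card_le_card hsub).trans (card_union_le _ _)
    have h2 := card_common hwa
    have h3 : ({0, w} : Finset (Fin 112)).card ≤ 2 := card_le_two
    have hO4 : O.card = 4 := by omega
    have hlt := lt_ncard_orbit hO4 h0 hw hwa
    have hstab : H ≤ MulAction.stabilizer U O := by
      intro σ hσ
      rw [MulAction.mem_stabilizer_iff]
      refine eq_of_subset_of_card_le (fun z hz => ?_) (card_smul_finset σ O).ge
      obtain ⟨y, hy, rfl⟩ := Finset.mem_smul_finset.mp hz
      exact hOinv σ hσ y hy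
    have h5 := (MulAction.stabilizer U O).card_mul_index
    rw [MulAction.index_stabilizer, hU] at h5
    have h6 := Subgroup.card_le_of_le hstab
    rw [hH] at h6
    have h7 : 29160 * 113 ≤ 3265920 := h5 ▸ Nat.mul_le_mul h6 hlt
    norm_num at h7
  refine Subgroup.eq_of_le_of_card_ge (fun σ hσ => ?_) (by rw [hH, hS0])
  have := hOinv σ hσ 0 h0
  rwa [hone, Finset.mem_singleton] at this

/-- Coordinates for an action of degree 112 with an invariant graph of valency 30. -/
theorem exists_coord (hU : Nat.card U = 3265920) {X : Type*} [Fintype X] [DecidableEq X] [MulAction U X]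
    [MulAction.IsPretransitive U X] (hX : Fintype.card X = 112) (R : X → X → Prop) [DecidableRel R]
    (hirr : ∀ x, ¬ R x x) (hinv : ∀ (σ : U) (x y : X), R (σ • x) (σ • y) ↔ R x y)
    (hdeg : ∀ x, (univ.filter (R x)).card = 30) :
    ∃ φ : Fin 112 ≃ X, (∀ (σ : U) (i : Fin 112), φ (σ • i) = σ • φ i) ∧
      ∀ i j, R (φ i) (φ j) ↔ adj i j := by
  classical
  haveI : Fact (Nat.Prime 3) := ⟨Nat.prime_three⟩
  obtain ⟨hS0, -, -⟩ := card_stab_S0 hU
  obtain ⟨P', hP'⟩ := Sylow.exists_subgroup_card_pow_prime 3 (G := S0) (n := 6) (by rw [hS0]; norm_num)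
  set P : Subgroup U := P'.map S0.subtype with hPdef
  have hP : Nat.card P = 729 := by
    rw [hPdef, Subgroup.card_map_of_injective S0.subtype_injective, hP']; norm_num
  have hP0 : P ≤ S0 := Subgroup.map_subtype_le _
  have hPp : IsPGroup 3 P := IsPGroup.of_card (n := 6) (by rw [hP]; norm_num)
  obtain ⟨x, hx⟩ := hPp.nonempty_fixed_point_of_prime_not_dvd_card X
    (by rw [Nat.card_eq_fintype_card, hX]; norm_num)
  have hHcard : Nat.card (MulAction.stabilizer U x) = 29160 := by
    have := (MulAction.stabilizer U x).card_mul_index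
    rw [MulAction.index_stabilizer_of_transitive, Nat.card_eq_fintype_card (α := X), hX, hU] at this
    omega
  have hHS : MulAction.stabilizer U x = S0 :=
    eq_S0 hU hHcard hP hP0 (fun g hg => hx ⟨g, hg⟩)
  choose t ht using transitive
  have hkey : ∀ (σ τ : U), σ • (0 : Fin 112) = τ • (0 : Fin 112) ↔ σ • x = τ • x := by
    intro σ τ
    rw [eq_comm, ← inv_smul_eq_iff, ← mul_smul, eq_comm (a := σ • x), ← inv_smul_eq_iff, ← mul_smul,
      ← MulAction.mem_stabilizer_iff, ← MulAction.mem_stabilizer_iff, hHS]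
    rfl
  let f : Fin 112 → X := fun i => t i • x
  have hinj : Function.Injective f := fun i j h => by
    rw [← ht i, ← ht j]; exact (hkey _ _).mpr h
  let φ := Equiv.ofBijective f ((Fintype.bijective_iff_injective_and_card f).mpr
    ⟨hinj, by rw [Fintype.card_fin, hX]⟩)
  have hφ : ∀ (σ : U) (i : Fin 112), φ (σ • i) = σ • φ i := fun σ i => by
    show t (σ • i) • x = σ • (t i • x)
    rw [← mul_smul]
    exact (hkey _ _).mp (by rw [ht, mul_smul, ht])
  refine ⟨φ, hφ, ?_⟩
  set N := univ.filter (fun w => R (φ 0) (φ w)) with hN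
  have hN30 : N.card = 30 := by
    rw [← hdeg (φ 0)]
    exact card_equiv φ fun w => by simp [hN]
  have hNinv : ∀ σ ∈ S0, ∀ w ∈ N, σ • w ∈ N := by
    intro σ hσ w hw
    rw [hN, mem_filter] at hw ⊢
    refine ⟨mem_univ _, ?_⟩
    have hfix : σ • (0 : Fin 112) = 0 := hσ
    rw [hφ]
    conv_lhs => rw [← hfix, hφ]
    exact (hinv σ _ _).mpr hw.2
  have hNeq : N = nb 0 := by
    have h0N : (0 : Fin 112) ∉ N := fun h => hirr _ (mem_filter.mp h).2
    refine eq_of_subset_of_card_le (fun w hw => mem_nb.mpr ?_) (by rw [hN30, card_near.1])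
    by_contra hwa
    have hw0 : w ≠ 0 := fun e => h0N (e ▸ hw)
    have hsub : univ.filter (fun z : Fin 112 => z ≠ 0 ∧ ¬ adj 0 z) ⊆ N := by
      intro z hz
      obtain ⟨σ, hσ, rfl⟩ := card_far.2 w hw0 hwa z (mem_filter.mp hz).2.1 (mem_filter.mp hz).2.2
      exact hNinv σ hσ w hw
    have := card_le_card hsub
    rw [card_far.1, hN30] at this
    omega
  intro i j
  obtain ⟨σ, rfl⟩ := transitive i
  obtain ⟨w, rfl⟩ : ∃ w, σ • w = j := ⟨σ⁻¹ • j, smul_inv_smul _ _⟩
  rw [hφ, hφ, hinv, adj_smul, ← mem_nb, ← hNeq, hN, mem_filter]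
  simp

end Cfsg.Agent.McLRankThree63
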