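import Mathlib

/-!
A transitive group of degree 275 with subdegrees 112 and 162 preserves a strongly regular graph with
parameters (275, 112, 30, 56); in such a graph the meet of two non-adjacent neighbourhoods spans at
most 280 edges, and in case of equality it determines the adjacencies.
-/

set_option autoImplicit false

namespace Cfsg.Agent.McLRankThree63

open Finset

variable {V : Type*} [Fintype V] [DecidableEq V]

/-- A strongly regular graph with the parameters of McLaughlin, by neighbourhoods. -/
structure McGraph (N : V → Finset V) : Prop where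
  card : Fintype.card V = 275
  symm : ∀ x y, y ∈ N x → x ∈ N y
  irr : ∀ x, x ∉ N x
  deg : ∀ x, (N x).card = 112
  common_adj : ∀ x y, y ∈ N x → (N x ∩ N y).card = 30
  common_non : ∀ x y, x ≠ y → y ∉ N x → (N x ∩ N y).card = 56

/-- The Gram form of the smallest eigenvalue. -/
def gram (N : V → Finset V) (x y : V) : ℤ :=
  2 + (if x = y then 10 else 0) + (if y ∈ N x then -5 else 0)

variable {N : V → Finset V}

theorem gram_comm (h : McGraph N) (x y : V) : gram N x y = gram N y x := by
  unfold gram
  congr 1
  · congr 1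
    exact if_congr eq_comm rfl rfl
  · exact if_congr ⟨h.symm x y, h.symm y x⟩ rfl rfl

theorem sum_gram (N : V → Finset V) (u : V) (B : Finset V) :
    ∑ b ∈ B, gram N u b = 2 * B.card + (if u ∈ B then 10 else 0) - 5 * ((N u ∩ B).card : ℤ) := by
  unfold gram
  rw [sum_add_distrib, sum_add_distrib, sum_const, sum_ite_eq, ← sum_filter, filter_mem_eq_inter,
    sum_const, inter_comm, nsmul_eq_mul, nsmul_eq_mul]
  ring

/-- The form is 150 times an idempotent. -/
theorem gram_sq (h : McGraph N) (x y : V) : ∑ z, gram N x z * gram N z y = 150 * gram N x y := by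
  have hexp : ∀ z, gram N x z * gram N z y =
      2 * gram N z y + (if x = z then 10 * gram N z y else 0) + (if z ∈ N x then -5 * gram N z y else 0) :=
    fun z => by
      conv_lhs => rw [gram]
      rw [add_mul, add_mul, ite_mul, ite_mul, zero_mul]
  rw [sum_congr rfl (fun z _ => hexp z), sum_add_distrib, sum_add_distrib, ← mul_sum, sum_ite_eq,
    if_pos (mem_univ x), ← sum_filter, filter_univ_mem, ← mul_sum,
    sum_congr rfl (fun z _ => gram_comm h z y),
    sum_congr (rfl : N x = N x) (fun z _ => gram_comm h z y),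
    sum_gram, sum_gram, card_univ, h.card, if_pos (mem_univ y), inter_univ, h.deg y, h.deg x,
    inter_comm (N y) (N x)]
  unfold gram
  by_cases he : x = y
  · subst he
    simp [h.irr x, h.deg x]
  · rw [if_neg he]
    by_cases ha : y ∈ N x
    · rw [if_pos ha, if_pos ha, h.common_adj x y ha]
      norm_num
    · rw [if_neg ha, if_neg ha, h.common_non x y he ha]
      norm_num

/-- The quadratic form is a sum of squares. -/
theorem gram_quad (h : McGraph N) (v : V → ℤ) :
    150 * ∑ x, v x * ∑ y, gram N x y * v y = ∑ z, (∑ y, gram N z y * v y) ^ 2 := by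
  have hz : ∀ z, (∑ y, gram N z y * v y) ^ 2 = ∑ x, ∑ y, v x * v y * (gram N x z * gram N z y) := fun z => by
    rw [sq, sum_mul_sum]
    refine sum_congr rfl fun x _ => sum_congr rfl fun y _ => ?_
    rw [gram_comm h x z]
    ring
  rw [sum_congr rfl (fun z _ => hz z), sum_comm, mul_sum]
  refine sum_congr rfl fun x _ => ?_
  rw [sum_comm, mul_sum, mul_sum]
  refine sum_congr rfl fun y _ => ?_
  rw [← mul_sum, gram_sq h]
  ring

/-- The meet of two non-adjacent neighbourhoods spans at most 280 edges; in case of equality the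
adjacencies to it decide adjacency. -/
theorem meet_facts (h : McGraph N) {a x : V} (hxa : x ≠ a) (hax : x ∉ N a) :
    (N a ∩ N x).card = 56 ∧ ∑ u ∈ N a ∩ N x, (N u ∩ (N a ∩ N x)).card ≤ 560 ∧
      (∑ u ∈ N a ∩ N x, (N u ∩ (N a ∩ N x)).card = 560 → ∀ y, y ≠ a → y ≠ x → y ∉ N a →
        (y ∈ N x → (N y ∩ (N a ∩ N x)).card = 20) ∧ (y ∉ N x → (N y ∩ (N a ∩ N x)).card = 32)) := by
  set B := N a ∩ N x with hB
  have hcB : B.card = 56 := h.common_non a x hxa.symm hax
  set v : V → ℤ := fun u => (if u ∈ B then 1 else 0) + (if u = a then 12 else 0) + (if u = x then 12 else 0)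
    with hv
  have hFv : ∀ u, ∑ y, gram N u y * v y =
      112 + (if u ∈ B then 10 else 0) - 5 * ((N u ∩ B).card : ℤ) + 12 * gram N u a + 12 * gram N u x := by
    intro u
    simp only [hv, mul_add, sum_add_distrib, mul_ite, mul_one, mul_zero, sum_ite_eq', mem_univ, if_true]
    rw [← sum_filter, filter_univ_mem, sum_gram, hcB]
    push_cast
    ring
  have haB : a ∉ B := fun hm => h.irr a (mem_inter.mp hm).1
  have hxB : x ∉ B := fun hm => h.irr x (mem_inter.mp hm).2
  have hFa : ∑ y, gram N a y * v y = 0 := by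
    rw [hFv, if_neg haB, show N a ∩ B = B by rw [hB, ← inter_assoc, inter_self], hcB]
    unfold gram
    rw [if_pos rfl, if_neg (h.irr a), if_neg hxa.symm, if_neg hax]
    norm_num
  have hFx : ∑ y, gram N x y * v y = 0 := by
    rw [hFv, if_neg hxB, show N x ∩ B = B from inter_eq_right.mpr inter_subset_right, hcB]
    unfold gram
    rw [if_pos rfl, if_neg (h.irr x), if_neg hxa, if_neg (fun hm => hax (h.symm x a hm))]
    norm_num
  have hFB : ∀ u ∈ B, ∑ y, gram N u y * v y = 50 - 5 * ((N u ∩ B).card : ℤ) := by
    intro u hu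
    have hua : u ∈ N a := (mem_inter.mp hu).1
    have hux : u ∈ N x := (mem_inter.mp hu).2
    rw [hFv, if_pos hu]
    unfold gram
    rw [if_neg (show u ≠ a from fun e => haB (e ▸ hu)), if_pos (h.symm a u hua),
      if_neg (show u ≠ x from fun e => hxB (e ▸ hu)),
      if_pos (h.symm x u hux)]
    ring
  have hQ : ∑ u, v u * ∑ y, gram N u y * v y = 2800 - 5 * ((∑ u ∈ B, (N u ∩ B).card : ℕ) : ℤ) := by
    have : ∀ u, v u * ∑ y, gram N u y * v y = if u ∈ B then 50 - 5 * ((N u ∩ B).card : ℤ) else 0 := by
      intro u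
      by_cases hu : u ∈ B
      · rw [if_pos hu, hFB u hu]
        simp only [hv, if_pos hu, if_neg (show u ≠ a from fun e => haB (e ▸ hu)),
          if_neg (show u ≠ x from fun e => hxB (e ▸ hu))]
        ring
      · rw [if_neg hu]
        by_cases hua : u = a
        · rw [hua, hFa, mul_zero]
        by_cases hux : u = x
        · rw [hux, hFx, mul_zero]
        simp [hv, hu, hua, hux]
    rw [sum_congr rfl (fun u _ => this u), ← sum_filter, filter_univ_mem, sum_sub_distrib, sum_const,
      ← mul_sum, hcB, Nat.cast_sum, nsmul_eq_mul]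
    norm_num
  have hquad := gram_quad h v
  rw [hQ] at hquad
  have hnn : 0 ≤ ∑ z, (∑ y, gram N z y * v y) ^ 2 := sum_nonneg fun z _ => sq_nonneg _
  refine ⟨hcB, by omega, fun he y hya hyx hyN => ?_⟩
  rw [he] at hquad
  norm_num at hquad
  have hz := (sum_eq_zero_iff_of_nonneg (fun z _ => sq_nonneg (∑ y, gram N z y * v y))).mp hquad.symm y
    (mem_univ y)
  rw [sq_eq_zero_iff, hFv, if_neg (fun hm => hyN (mem_inter.mp hm).1)] at hz
  unfold gram at hz
  rw [if_neg hya, if_neg (fun hm => hyN (h.symm y a hm)), if_neg hyx] at hz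
  constructor
  · intro hyX
    rw [if_pos (h.symm x y hyX)] at hz
    omega
  · intro hyX
    rw [if_neg (fun hm => hyX (h.symm y x hm))] at hz
    omega

section Action

variable {G : Type*} [Group G] [Finite G] [MulAction G V] [MulAction.IsPretransitive G V]

/-- A transitive group with subdegrees 112 and 162 on 275 points preserves such a graph. -/
theorem exists_graph (hV : Fintype.card V = 275) (a b c : V)
    (hb : (MulAction.orbit (MulAction.stabilizer G a) b).ncard = 112)
    (hc : (MulAction.orbit (MulAction.stabilizer G a) c).ncard = 162) :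
    ∃ N : V → Finset V, McGraph N ∧ (∀ (g : G) (x y : V), g • y ∈ N (g • x) ↔ y ∈ N x) ∧
      (↑(N a) : Set V) = MulAction.orbit (MulAction.stabilizer G a) b ∧
      ∀ y, y ≠ a → y ∉ N a → y ∈ MulAction.orbit (MulAction.stabilizer G a) c := by
  classical
  set O := (MulAction.orbit (MulAction.stabilizer G a) b).toFinset with hO
  set P := (MulAction.orbit (MulAction.stabilizer G a) c).toFinset with hP
  have hOc : O.card = 112 := by rw [hO, ← Set.ncard_eq_toFinset_card', hb]
  have hPc : P.card = 162 := by rw [hP, ← Set.ncard_eq_toFinset_card', hc]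
  have hOinv : ∀ k : G, k • a = a → ∀ x, x ∈ O → k • x ∈ O := fun k hk x hx => by
    rw [hO, Set.mem_toFinset] at hx ⊢
    exact MulAction.mem_orbit_of_mem_orbit (⟨k, hk⟩ : MulAction.stabilizer G a) hx
  have haU : ∀ u : V, a ∈ MulAction.orbit (MulAction.stabilizer G a) u →
      (MulAction.orbit (MulAction.stabilizer G a) u).ncard = 1 := fun u hu => by
    rw [← MulAction.orbit_eq_iff.2 hu, Set.ncard_eq_one]
    refine ⟨a, Set.eq_singleton_iff_unique_mem.2 ⟨MulAction.mem_orbit_self _, ?_⟩⟩
    rintro _ ⟨k, rfl⟩
    exact k.2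
  have hOP : ∀ x ∈ O, x ∉ P := fun x hx hx' => by
    rw [hO, Set.mem_toFinset] at hx; rw [hP, Set.mem_toFinset] at hx'
    rw [← MulAction.orbit_eq_iff.2 hx] at hb
    rw [← MulAction.orbit_eq_iff.2 hx', hb] at hc
    omega
  have haO : a ∉ O := fun h => by rw [hO, Set.mem_toFinset] at h; have := haU b h; omega
  have haP : a ∉ P := fun h => by rw [hP, Set.mem_toFinset] at h; have := haU c h; omega
  have hcover : ∀ x, x = a ∨ x ∈ O ∨ x ∈ P := by
    have : insert a (O ∪ P) = univ := eq_univ_of_card _ (by
      rw [card_insert_of_notMem (by simp [haO, haP]), card_union_of_disjoint (disjoint_left.2 hOP),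
        hOc, hPc, hV])
    intro x
    have hx := mem_univ x
    rw [← this] at hx
    simpa using hx
  let R : V → V → Prop := fun x y => ∃ g : G, g • x = a ∧ g • y ∈ O
  have hRa : ∀ y, R a y ↔ y ∈ O := fun y =>
    ⟨fun ⟨g, hg, hy⟩ => by simpa using hOinv g⁻¹ (inv_smul_eq_iff.2 hg.symm) _ hy,
      fun h => ⟨1, one_smul _ _, by rwa [one_smul]⟩⟩
  have hRinv : ∀ (g : G) (x y : V), R x y → R (g • x) (g • y) := fun g x y ⟨k, hk, hky⟩ =>
    ⟨k * g⁻¹, by rw [mul_smul, inv_smul_smul, hk], by rwa [mul_smul, inv_smul_smul]⟩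
  have hRiff : ∀ (g : G) (x y : V), R (g • x) (g • y) ↔ R x y := fun g x y =>
    ⟨fun h => by simpa using hRinv g⁻¹ _ _ h, hRinv g x y⟩
  let N : V → Finset V := fun x => univ.filter (fun y => R x y)
  have hmem : ∀ {x y}, y ∈ N x ↔ R x y := fun {x y} => by simp [N]
  have hNa : N a = O := by ext y; rw [hmem, hRa]
  have hinv : ∀ (g : G) (x y : V), g • y ∈ N (g • x) ↔ y ∈ N x := fun g x y => by
    rw [hmem, hmem, hRiff]
  have hout : ∀ x, (N x).card = 112 := by
    intro x
    obtain ⟨g, hg⟩ := MulAction.exists_smul_eq G x a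
    rw [← hOc, ← hNa, ← hg]
    exact card_equiv (MulAction.toPerm g) fun y => (hinv g x y).symm
  have hin : ∀ y, (univ.filter fun x => R x y).card = (univ.filter fun x => R x a).card := by
    intro y
    obtain ⟨g, hg⟩ := MulAction.exists_smul_eq G y a
    refine card_equiv (MulAction.toPerm g) fun x => ?_
    simp [← hRiff g x y, hg]
  have hinc : (univ.filter fun x => R x a).card = 112 := by
    have h := sum_card_bipartiteAbove_eq_sum_card_bipartiteBelow R (s := (univ : Finset V))
      (t := (univ : Finset V))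
    simp only [bipartiteAbove, bipartiteBelow] at h
    rw [sum_congr rfl (fun x _ => show (univ.filter fun y => R x y).card = 112 from hout x),
      sum_congr rfl (fun y _ => hin y), sum_const, sum_const,
      card_univ, hV, smul_eq_mul, smul_eq_mul] at h
    omega
  have hsymmO : (univ.filter fun x => R x a) = O := by
    refine eq_of_subset_of_card_le (fun x hx => ?_) (by rw [hOc, hinc])
    have hxR := (mem_filter.1 hx).2
    rcases hcover x with rfl | h | h
    · exact absurd ((hRa x).1 hxR) haO
    · exact h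
    · exfalso
      have hsub : P ⊆ univ.filter fun x => R x a := fun z hz => by
        rw [hP, Set.mem_toFinset] at h hz
        rw [← MulAction.orbit_eq_iff.2 h] at hz
        obtain ⟨k, rfl⟩ := hz
        refine mem_filter.2 ⟨mem_univ _, ?_⟩
        have := hRinv (k : G) _ _ hxR
        rwa [show (k : G) • a = a from k.2] at this
      have := card_le_card hsub
      omega
  have hsymm : ∀ x y, y ∈ N x → x ∈ N y := by
    intro x y h
    rw [hmem] at h ⊢
    obtain ⟨g, hg⟩ := MulAction.exists_smul_eq G x a
    rw [← hRiff g y x, hg]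
    have h' := (hRa _).1 (hg ▸ hRinv g x y h)
    rw [← hsymmO] at h'
    exact (mem_filter.1 h').2
  have hirr : ∀ x, x ∉ N x := fun x hx => by
    obtain ⟨g, hg, hgO⟩ := hmem.mp hx
    exact haO (hg ▸ hgO)
  have hshift : ∀ (g : G) (u v : V), (N (g • u) ∩ N (g • v)).card = (N u ∩ N v).card := fun g u v => by
    refine (card_equiv (MulAction.toPerm g) fun w => ?_).symm
    simp [hinv]
  set l := (N a ∩ N b).card with hl
  set m := (N a ∩ N c).card with hm
  have hlO : ∀ y ∈ O, (N a ∩ N y).card = l := fun y hy => by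
    rw [hO, Set.mem_toFinset] at hy
    obtain ⟨k, rfl⟩ := hy
    have h := hshift (k : G) a b
    rwa [show (k : G) • a = a from k.2] at h
  have hmP : ∀ y ∈ P, (N a ∩ N y).card = m := fun y hy => by
    rw [hP, Set.mem_toFinset] at hy
    obtain ⟨k, rfl⟩ := hy
    have h := hshift (k : G) a c
    rwa [show (k : G) • a = a from k.2] at h
  have hladj : ∀ x y, y ∈ N x → (N x ∩ N y).card = l := fun x y hxy => by
    obtain ⟨g, hg⟩ := MulAction.exists_smul_eq G x a
    rw [← hshift g, hg]
    exact hlO _ (hNa ▸ hg ▸ (hinv g x y).mpr hxy)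
  -- edges between the two orbits
  have hsum : ∀ y ∈ O, l + (N y ∩ P).card + 1 = 112 := fun y hy => by
    have hya : a ∈ N y := hsymm _ _ (hNa ▸ hy)
    have hpart : N y = insert a ((N a ∩ N y) ∪ (N y ∩ P)) := by
      ext z
      simp only [mem_insert, mem_union, mem_inter, hNa]
      constructor
      · intro hz
        rcases hcover z with h | h | h
        · exact Or.inl h
        · exact Or.inr (Or.inl ⟨h, hz⟩)
        · exact Or.inr (Or.inr ⟨hz, h⟩)
      · rintro (rfl | h | h)
        · exact hya
        · exact h.2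
        · exact h.1
    have h := congrArg Finset.card hpart
    rw [hout, card_insert_of_notMem (by simp [hNa, haO, haP]), card_union_of_disjoint
      (disjoint_left.2 fun z h1 h2 => hOP z (hNa ▸ (mem_inter.1 h1).1) (mem_inter.1 h2).2), hlO y hy] at h
    omega
  have hedge : ∑ y ∈ O, (N y ∩ P).card = ∑ z ∈ P, (N a ∩ N z).card := by
    have h := sum_card_bipartiteAbove_eq_sum_card_bipartiteBelow (fun y z => z ∈ N y) (s := O) (t := P)
    simp only [bipartiteAbove, bipartiteBelow] at h
    rw [sum_congr rfl (fun y _ => by rw [inter_comm, ← filter_mem_eq_inter]),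
      h, sum_congr rfl fun z _ => ?_]
    congr 1
    ext y
    simp only [mem_filter, mem_inter, hNa]
    exact ⟨fun ⟨h1, h2⟩ => ⟨h1, hsymm _ _ h2⟩, fun ⟨h1, h2⟩ => ⟨h1, hsymm _ _ h2⟩⟩
  have hcount : 112 * (111 - l) = 162 * m := by
    rw [sum_congr rfl (fun y hy => show (N y ∩ P).card = 111 - l by have := hsum y hy; omega),
      sum_congr rfl hmP, sum_const, sum_const, hOc, hPc, smul_eq_mul, smul_eq_mul] at hedge
    exact hedge
  have hlne : l ≠ 111 := by
    intro h111
    let C : V → Finset V := fun x => insert x (N x)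
    have hC : ∀ x, (C x).card = 113 := fun x => by rw [card_insert_of_notMem (hirr x), hout]
    have hCeq : ∀ x y, y ∈ C x → C y = C x := by
      intro x y hy
      rcases mem_insert.1 hy with rfl | hy
      · rfl
      symm
      refine eq_of_subset_of_card_le (fun z hz => ?_) (by rw [hC, hC])
      rcases mem_insert.1 hz with rfl | hz
      · exact mem_insert_of_mem (hsymm _ _ hy)
      by_cases hzy : z = y
      · exact hzy ▸ mem_insert_self _ _
      · have hsub : N x ∩ N y ⊆ (N x).erase y := fun w hw => mem_erase.2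
          ⟨fun e => hirr y (e ▸ (mem_inter.1 hw).2), (mem_inter.1 hw).1⟩
        have heq := eq_of_subset_of_card_le hsub (by
          rw [card_erase_of_mem hy, hout, hladj x y hy, h111])
        exact mem_insert_of_mem (mem_inter.1 (heq ▸ mem_erase.2 ⟨hzy, hz⟩ : z ∈ N x ∩ N y)).2
    have hfib := card_eq_sum_card_image C (univ : Finset V)
    rw [sum_congr rfl (fun t ht => show (univ.filter fun x => C x = t).card = 113 by
      obtain ⟨x, -, rfl⟩ := mem_image.1 ht
      rw [← hC x]
      congr 1
      ext y
      simp only [mem_filter, mem_univ, true_and]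
      exact ⟨fun e => e ▸ mem_insert_self _ _, hCeq x y⟩), sum_const, card_univ, hV, smul_eq_mul] at hfib
    omega
  have hbO : b ∈ O := by rw [hO, Set.mem_toFinset]; exact MulAction.mem_orbit_self _
  have hl111 : l ≤ 111 := by have := hsum b hbO; omega
  obtain ⟨h30, h56⟩ : l = 30 ∧ m = 56 := by omega
  refine ⟨N, ⟨hV, hsymm, hirr, hout, fun x y hxy => by rw [hladj x y hxy, h30], fun x y hne hxy => ?_⟩,
    hinv, ?_, fun y hy hyN => ?_⟩
  · obtain ⟨g, hg⟩ := MulAction.exists_smul_eq G x a
    rw [← hshift g, hg, ← h56]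
    apply hmP
    rcases hcover (g • y) with h | h | h
    · exact absurd (MulAction.injective g (h.trans hg.symm)).symm hne
    · exact absurd ((hinv g x y).1 (by rw [hg, hNa]; exact h)) hxy
    · exact h
  · rw [hNa, hO, Set.coe_toFinset]
  · rcases hcover y with h | h | h
    · exact absurd h hy
    · exact absurd (hNa ▸ h) hyN
    · rwa [hP, Set.mem_toFinset] at h

end Action

end Cfsg.Agent.McLRankThree63
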