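import Cfsg.Agent.Lib.McLRankThree63Coord
import Cfsg.Agent.Lib.McLRankThree63Graph

/-!
The graph of a rank three action on 275 points with point stabiliser U(4,3) is unique, and its
automorphism group has order at most eight times that of the action.
-/

set_option autoImplicit false
set_option linter.style.haveILetI false

namespace Cfsg.Agent.McLRankThree63

open Finset

/-- The unitary group is normalised by the automorphisms. -/
theorem conj_mem_U {F : Type} [Field F] [Fintype F] (hF : Fintype.card F = 9)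
    {σ : Equiv.Perm (Fin 112)} (hσ : σ ∈ autL) {τ : Equiv.Perm (Fin 112)} (hτ : τ ∈ U) :
    σ * τ * σ⁻¹ ∈ U := by
  obtain ⟨hc, hs⟩ := U_facts hF
  set f := (MulAut.conj σ).toMonoidHom with hf
  have hinj : Function.Injective f := (MulAut.conj σ).injective
  haveI : IsSimpleGroup (U.map f) := MulEquiv.isSimpleGroup (U.equivMapOfInjective f hinj).symm
  have hK : U.map f ≤ autL := by
    rintro _ ⟨ρ, hρ, rfl⟩
    exact mul_mem (mul_mem hσ (U_le_autL hρ)) (inv_mem hσ)
  have he := eq_U hF hK (by rw [Subgroup.card_map_of_injective hinj, hc])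
  exact he ▸ ⟨τ, hτ, rfl⟩

variable {V : Type*} [Fintype V] [DecidableEq V]

/-- The trace of a neighbourhood on the first one, in coordinates. -/
def bset (N : V → Finset V) (φ : Fin 112 → V) (y : V) : Finset (Fin 112) :=
  univ.filter (fun i => φ i ∈ N y)

/-- Coordinates for the neighbourhood of a point, with the unitary group acting on the traces. -/
structure Chart (N : V → Finset V) (a : V) where
  φ : Fin 112 → V
  inj : Function.Injective φ
  mem : ∀ i, φ i ∈ N a
  iff_adj : ∀ i j, φ j ∈ N (φ i) ↔ adj i j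
  fam : ∀ σ ∈ U, ∀ y, y ≠ a → y ∉ N a → ∃ y', y' ≠ a ∧ y' ∉ N a ∧ bset N φ y' = (bset N φ y).image σ
  trans : ∀ y, y ≠ a → y ∉ N a → ∀ y', y' ≠ a → y' ∉ N a → ∃ σ ∈ U, bset N φ y' = (bset N φ y).image σ

variable {N : V → Finset V} {a : V}

namespace Chart

variable (C : Chart N a)

omit [Fintype V] in
theorem mem_bset {y : V} {i : Fin 112} : i ∈ bset N C.φ y ↔ C.φ i ∈ N y := by simp [bset]

theorem image_univ (h : McGraph N) : univ.image C.φ = N a :=
  eq_of_subset_of_card_le (fun u hu => by obtain ⟨i, -, rfl⟩ := mem_image.mp hu; exact C.mem i)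
    (by rw [card_image_of_injective _ C.inj, card_univ, Fintype.card_fin, h.deg])

theorem surj (h : McGraph N) {u : V} (hu : u ∈ N a) : ∃ i, C.φ i = u := by
  rw [← C.image_univ h] at hu
  obtain ⟨i, -, hi⟩ := mem_image.mp hu
  exact ⟨i, hi⟩

theorem image_bset (h : McGraph N) (y : V) : (bset N C.φ y).image C.φ = N a ∩ N y := by
  ext u
  rw [mem_image, mem_inter]
  refine ⟨fun ⟨i, hi, e⟩ => e ▸ ⟨C.mem i, C.mem_bset.mp hi⟩, fun ⟨hu, huy⟩ => ?_⟩
  obtain ⟨i, rfl⟩ := C.surj h hu
  exact ⟨i, C.mem_bset.mpr huy, rfl⟩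

theorem image_nb (h : McGraph N) (i : Fin 112) : (nb i).image C.φ = N a ∩ N (C.φ i) := by
  ext u
  rw [mem_image, mem_inter]
  refine ⟨fun ⟨j, hj, e⟩ => e ▸ ⟨C.mem j, (C.iff_adj i j).mpr (mem_nb.mp hj)⟩, fun ⟨hu, hui⟩ => ?_⟩
  obtain ⟨j, rfl⟩ := C.surj h hu
  exact ⟨j, mem_nb.mpr ((C.iff_adj i j).mp hui), rfl⟩

theorem isHemi (h : McGraph N) {y : V} (hya : y ≠ a) (hy : y ∉ N a) : IsHemi (bset N C.φ y) := by
  obtain ⟨h1, h2, -⟩ := meet_facts h hya hy
  rw [← C.image_bset h y] at h1 h2
  refine ⟨by rwa [card_image_of_injective _ C.inj] at h1, le_of_eq_of_le ?_ h2⟩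
  rw [sum_image C.inj.injOn]
  refine sum_congr rfl fun i _ => ?_
  rw [← card_image_of_injective _ C.inj, image_inter _ _ C.inj, C.image_nb h, C.image_bset h]
  congr 1
  ext u
  simp only [mem_inter]
  tauto

theorem meet (h : McGraph N) {y y' : V} (hya : y ≠ a) (hy : y ∉ N a) (hy'a : y' ≠ a) (hy' : y' ∉ N a)
    (hne : y ≠ y') : (bset N C.φ y ∩ bset N C.φ y').card = if y' ∈ N y then 20 else 32 := by
  have hB := C.isHemi h hya hy
  obtain ⟨-, -, h3⟩ := meet_facts h hya hy
  have heq : ∑ u ∈ N a ∩ N y, (N u ∩ (N a ∩ N y)).card = 560 := by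
    rw [← C.image_bset h, sum_image C.inj.injOn, ← hB.facts.2]
    refine sum_congr rfl fun i _ => ?_
    rw [← card_image_of_injective (nb i ∩ _) C.inj, image_inter _ _ C.inj, C.image_nb h, C.image_bset h]
    congr 1
    ext u
    simp only [mem_inter]
    tauto
  obtain ⟨h20, h32⟩ := h3 heq y' hy'a hne.symm hy'
  rw [← card_image_of_injective _ C.inj, image_inter _ _ C.inj, C.image_bset h, C.image_bset h,
    show N a ∩ N y ∩ (N a ∩ N y') = N y' ∩ (N a ∩ N y) by ext u; simp only [mem_inter]; tauto]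
  split_ifs with hadj
  exacts [h20 hadj, h32 hadj]

theorem bset_inj (h : McGraph N) {y y' : V} (hya : y ≠ a) (hy : y ∉ N a) (hy'a : y' ≠ a) (hy' : y' ∉ N a)
    (he : bset N C.φ y = bset N C.φ y') : y = y' := by
  by_contra hne
  have := C.meet h hya hy hy'a hy' hne
  rw [he, inter_self, (C.isHemi h hy'a hy').1] at this
  split_ifs at this <;> omega

/-- Change of coordinates. -/
def twist {F : Type} [Field F] [Fintype F] (hF : Fintype.card F = 9) {σ : Equiv.Perm (Fin 112)}
    (hσ : σ ∈ autL) : Chart N a where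
  φ := fun i => C.φ (σ⁻¹ i)
  inj := C.inj.comp (σ⁻¹).injective
  mem := fun i => C.mem _
  iff_adj := fun i j => (C.iff_adj _ _).trans ((inv_mem hσ : σ⁻¹ ∈ autL) i j)
  fam := fun τ hτ y hya hy => by
    obtain ⟨y', h1, h2, h3⟩ := C.fam _ (conj_mem_U hF (inv_mem hσ) hτ) y hya hy
    refine ⟨y', h1, h2, ?_⟩
    ext i
    obtain ⟨j, rfl⟩ : ∃ j, τ j = i := τ.surjective i
    rw [τ.injective.mem_finset_image, bset, bset, mem_filter, mem_filter]
    have := congrArg (fun B => (σ⁻¹ * τ * σ⁻¹⁻¹) (σ⁻¹ j) ∈ B) h3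
    simp only [(σ⁻¹ * τ * σ⁻¹⁻¹).injective.mem_finset_image, eq_iff_iff] at this
    simpa [C.mem_bset] using this
  trans := fun y hya hy y' hy'a hy' => by
    obtain ⟨ρ, hρ, h3⟩ := C.trans y hya hy y' hy'a hy'
    refine ⟨σ * ρ * σ⁻¹, conj_mem_U hF hσ hρ, ?_⟩
    ext i
    obtain ⟨j, rfl⟩ : ∃ j, (σ * ρ * σ⁻¹) j = i := (σ * ρ * σ⁻¹).surjective i
    rw [(σ * ρ * σ⁻¹).injective.mem_finset_image, bset, bset, mem_filter, mem_filter]
    have := congrArg (fun B => ρ (σ⁻¹ j) ∈ B) h3
    simp only [ρ.injective.mem_finset_image, eq_iff_iff] at this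
    simpa [C.mem_bset] using this

theorem bset_twist {F : Type} [Field F] [Fintype F] (hF : Fintype.card F = 9)
    {σ : Equiv.Perm (Fin 112)} (hσ : σ ∈ autL) (y : V) :
    bset N (C.twist hF hσ).φ y = (bset N C.φ y).image σ := by
  ext i
  obtain ⟨j, rfl⟩ := σ.surjective i
  rw [σ.injective.mem_finset_image]
  rw [mem_bset, mem_bset]
  simp [twist]

end Chart

/-- A point outside the first neighbourhood. -/
theorem exists_far (h : McGraph N) (a : V) : ∃ x, x ≠ a ∧ x ∉ N a := by
  by_contra hall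
  push Not at hall
  have hsub : (univ : Finset V) ⊆ insert a (N a) := fun x _ => by
    rcases eq_or_ne x a with rfl | hxa
    · exact mem_insert_self _ _
    · exact mem_insert_of_mem (hall x hxa)
  have := (card_le_card hsub).trans (card_insert_le _ _)
  rw [card_univ, h.card, h.deg] at this
  omega

/-- Normalised coordinates. -/
theorem Chart.exists_normal {F : Type} [Field F] [Fintype F] (hF : Fintype.card F = 9) (C : Chart N a)
    (h : McGraph N) : ∃ D : Chart N a, ∀ B : Finset (Fin 112),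
      (∃ y, y ≠ a ∧ y ∉ N a ∧ bset N D.φ y = B) ↔ ∃ σ ∈ U, hemiSet.image σ = B := by
  obtain ⟨x, hxa, hx⟩ := exists_far h a
  obtain ⟨σ, hσ, hBσ⟩ := hemi_good (C.isHemi h hxa hx)
  refine ⟨C.twist hF hσ, fun B => ?_⟩
  rw [← hBσ, ← C.bset_twist hF hσ x]
  constructor
  · rintro ⟨y, hya, hy, rfl⟩
    obtain ⟨τ, hτ, he⟩ := (C.twist hF hσ).trans x hxa hx y hya hy
    exact ⟨τ, hτ, he.symm⟩
  · rintro ⟨τ, hτ, rfl⟩
    exact (C.twist hF hσ).fam τ hτ x hxa hx

/-- Codes for points. -/
noncomputable def Chart.code (C : Chart N a) (y : V) : Option (Fin 112 ⊕ Finset (Fin 112)) :=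
  if y = a then none
  else if y ∈ N a then some (Sum.inl (Function.invFun C.φ y)) else some (Sum.inr (bset N C.φ y))

/-- Adjacency of codes. -/
def codeRel : Option (Fin 112 ⊕ Finset (Fin 112)) → Option (Fin 112 ⊕ Finset (Fin 112)) → Prop
  | none, none => False
  | none, some (Sum.inl _) => True
  | none, some (Sum.inr _) => False
  | some (Sum.inl _), none => True
  | some (Sum.inr _), none => False
  | some (Sum.inl i), some (Sum.inl j) => adj i j
  | some (Sum.inl i), some (Sum.inr B) => i ∈ B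
  | some (Sum.inr B), some (Sum.inl j) => j ∈ B
  | some (Sum.inr B), some (Sum.inr B') => (B ∩ B').card = 20

theorem Chart.code_cases (C : Chart N a) (h : McGraph N) (y : V) :
    (y = a ∧ C.code y = none) ∨ (∃ i, y = C.φ i ∧ C.code y = some (Sum.inl i)) ∨
      (y ≠ a ∧ y ∉ N a ∧ C.code y = some (Sum.inr (bset N C.φ y))) := by
  unfold Chart.code
  by_cases hya : y = a
  · exact Or.inl ⟨hya, if_pos hya⟩
  rw [if_neg hya]
  by_cases hy : y ∈ N a
  · obtain ⟨i, rfl⟩ := C.surj h hy
    exact Or.inr (Or.inl ⟨i, rfl, by rw [if_pos hy, Function.leftInverse_invFun C.inj i]⟩)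
  · exact Or.inr (Or.inr ⟨hya, hy, if_neg hy⟩)

theorem Chart.code_injective (C : Chart N a) (h : McGraph N) : Function.Injective C.code := by
  intro y y' he
  rcases C.code_cases h y with ⟨e, c⟩ | ⟨i, e, c⟩ | ⟨h1, h2, c⟩ <;>
    rcases C.code_cases h y' with ⟨e', c'⟩ | ⟨i', e', c'⟩ | ⟨h1', h2', c'⟩ <;>
    rw [c, c'] at he
  · rw [e, e']
  · cases he
  · cases he
  · cases he
  · rw [Option.some.injEq, Sum.inl.injEq] at he; rw [e, e', he]
  · cases he
  · cases he
  · cases he
  · rw [Option.some.injEq, Sum.inr.injEq] at he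
    exact C.bset_inj h h1 h2 h1' h2' he

theorem Chart.code_rel (C : Chart N a) (h : McGraph N) (y y' : V) :
    y' ∈ N y ↔ codeRel (C.code y) (C.code y') := by
  rcases C.code_cases h y with ⟨e, c⟩ | ⟨i, e, c⟩ | ⟨h1, h2, c⟩ <;>
    rcases C.code_cases h y' with ⟨e', c'⟩ | ⟨i', e', c'⟩ | ⟨h1', h2', c'⟩ <;>
    simp only [c, c', codeRel]
  · rw [e, e']; simp [h.irr a]
  · rw [e, e']; simp [C.mem i']
  · rw [e]; simpa using h2'
  · rw [e, e']; simpa using h.symm _ _ (C.mem i)
  · rw [e, e']; exact C.iff_adj i i'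
  · rw [e, C.mem_bset]; exact ⟨h.symm _ _, h.symm _ _⟩
  · rw [e']; simpa using fun hm => h2 (h.symm _ _ hm)
  · rw [e', C.mem_bset]
  · by_cases hne : y = y'
    · subst hne
      rw [inter_self, (C.isHemi h h1 h2).1]
      simp [h.irr y]
    · rw [C.meet h h1 h2 h1' h2' hne]
      split_ifs with hm <;> simp [hm]

theorem Chart.range_code (C : Chart N a) (h : McGraph N)
    (hC : ∀ B : Finset (Fin 112),
      (∃ y, y ≠ a ∧ y ∉ N a ∧ bset N C.φ y = B) ↔ ∃ σ ∈ U, hemiSet.image σ = B) :
    Set.range C.code = {x | match x with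
      | none => True
      | some (Sum.inl _) => True
      | some (Sum.inr B) => ∃ σ ∈ U, hemiSet.image σ = B} := by
  ext x
  constructor
  · rintro ⟨y, rfl⟩
    rcases C.code_cases h y with ⟨-, c⟩ | ⟨i, -, c⟩ | ⟨h1, h2, c⟩ <;> rw [c]
    · trivial
    · trivial
    · exact (hC _).mp ⟨y, h1, h2, rfl⟩
  · intro hx
    match x, hx with
    | none, _ => exact ⟨a, if_pos rfl⟩
    | some (Sum.inl i), _ =>
      refine ⟨C.φ i, ?_⟩
      rw [Chart.code, if_neg (fun e => h.irr a (by simpa [e] using C.mem i)), if_pos (C.mem i),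
        Function.leftInverse_invFun C.inj i]
    | some (Sum.inr B), hx =>
      obtain ⟨y, h1, h2, rfl⟩ := (hC B).mpr hx
      exact ⟨y, by rw [Chart.code, if_neg h1, if_neg h2]⟩

/-- Two graphs with coordinates are isomorphic. -/
theorem exists_graph_iso {F : Type} [Field F] [Fintype F] (hF : Fintype.card F = 9) (C : Chart N a)
    (h : McGraph N) {W : Type*} [Fintype W] [DecidableEq W] {M : W → Finset W} {b : W} (D : Chart M b)
    (h' : McGraph M) : ∃ f : V ≃ W, ∀ x y, f y ∈ M (f x) ↔ y ∈ N x := by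
  obtain ⟨C', hC⟩ := C.exists_normal hF h
  obtain ⟨D', hD⟩ := D.exists_normal hF h'
  let f : V ≃ W := (Equiv.ofInjective _ (C'.code_injective h)).trans
    ((Equiv.setCongr ((C'.range_code h hC).trans (D'.range_code h' hD).symm)).trans
      (Equiv.ofInjective _ (D'.code_injective h')).symm)
  have hf : ∀ y, D'.code (f y) = C'.code y := fun y =>
    Equiv.apply_ofInjective_symm (D'.code_injective h') _
  exact ⟨f, fun x y => by rw [D'.code_rel h', C'.code_rel h, hf, hf]⟩

/-- The automorphisms of a graph. -/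
def autN (N : V → Finset V) : Subgroup (Equiv.Perm V) where
  carrier := {σ | ∀ x y, σ y ∈ N (σ x) ↔ y ∈ N x}
  one_mem' := fun _ _ => Iff.rfl
  mul_mem' := fun {σ τ} hσ hτ x y => (hσ (τ x) (τ y)).trans (hτ x y)
  inv_mem' := fun {σ} hσ x y => by
    have := hσ (σ⁻¹ x) (σ⁻¹ y)
    simp only [Equiv.Perm.coe_inv, Equiv.apply_symm_apply] at this
    exact this.symm

/-- The automorphism group of such a graph is small. -/
theorem card_autN_le (C : Chart N a) (h : McGraph N) : Nat.card (autN N) ≤ 275 * 26127360 := by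
  set S := MulAction.stabilizer (autN N) a
  have hfix : ∀ g : S, (g.1 : Equiv.Perm V) a = a := fun g => g.2
  have hg : ∀ (g : S) (i : Fin 112), ∃ j, C.φ j = (g.1 : Equiv.Perm V) (C.φ i) := fun g i =>
    C.surj h (by
      have h1 := (g.1.2 a (C.φ i)).mpr (C.mem i)
      rwa [hfix g] at h1)
  choose f hf using hg
  have finj : ∀ g, Function.Injective (f g) := fun g i j e => by
    refine C.inj ((g.1 : Equiv.Perm V).injective ?_)
    rw [← hf, ← hf, e]
  let p : S → autL := fun g => ⟨Equiv.ofBijective (f g) (Finite.injective_iff_bijective.mp (finj g)),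
    fun i j => by
      show adj (f g i) (f g j) ↔ adj i j
      rw [← C.iff_adj, hf, hf, g.1.2, C.iff_adj]⟩
  have hp : Function.Injective p := by
    intro g g' he
    have hff : f g = f g' := by
      funext i
      exact congrArg (fun σ : autL => (σ : Equiv.Perm (Fin 112)) i) he
    have honA : ∀ u ∈ N a, (g.1 : Equiv.Perm V) u = (g'.1 : Equiv.Perm V) u := by
      intro u hu
      obtain ⟨i, rfl⟩ := C.surj h hu
      rw [← hf, ← hf, hff]
    refine Subtype.ext (Subtype.ext (Equiv.ext fun y => ?_))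
    by_cases hya : y = a
    · rw [hya, hfix, hfix]
    by_cases hy : y ∈ N a
    · exact honA y hy
    have hfar : ∀ k : S, (k.1 : Equiv.Perm V) y ≠ a ∧ (k.1 : Equiv.Perm V) y ∉ N a := fun k =>
      ⟨fun e => hya ((k.1 : Equiv.Perm V).injective (e.trans (hfix k).symm)), fun hm => hy
        ((k.1.2 a y).mp (by rwa [hfix k]))⟩
    refine C.bset_inj h (hfar g).1 (hfar g).2 (hfar g').1 (hfar g').2 ?_
    have key : ∀ (k : S) (j : Fin 112), f k j ∈ bset N C.φ ((k.1 : Equiv.Perm V) y) ↔ j ∈ bset N C.φ y :=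
      fun k j => by rw [C.mem_bset, C.mem_bset, hf, k.1.2]
    ext i
    obtain ⟨j, rfl⟩ := (Finite.injective_iff_bijective.mp (finj g)).2 i
    rw [key g]
    conv_rhs => rw [hff, key g']
  have h1 := Nat.card_le_card_of_injective p hp
  have h2 := S.card_mul_index
  rw [MulAction.index_stabilizer] at h2
  have h3 : (MulAction.orbit (autN N) a).ncard ≤ 275 := by
    rw [← h.card, ← Nat.card_eq_fintype_card, ← Set.ncard_univ]
    exact Set.ncard_le_ncard (Set.subset_univ _)
  rw [← h2, mul_comm 275]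
  exact Nat.mul_le_mul (h1.trans card_autL_le) h3

/-- A rank three action gives a graph with coordinates. -/
theorem exists_chart {F : Type} [Field F] [Fintype F] (hF : Fintype.card F = 9) {G : Type*} [Group G]
    [Finite G] [MulAction G V] [MulAction.IsPretransitive G V] (hV : Fintype.card V = 275) (a b c : V)
    (e : MulAction.stabilizer G a ≃* Cfsg.PSU 4 F 3)
    (hb : (MulAction.orbit (MulAction.stabilizer G a) b).ncard = 112)
    (hc : (MulAction.orbit (MulAction.stabilizer G a) c).ncard = 162) :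
    ∃ N : V → Finset V, McGraph N ∧ (∀ (g : G) (x y : V), g • y ∈ N (g • x) ↔ y ∈ N x) ∧
      Nonempty (Chart N a) := by
  obtain ⟨N, hN, hinv, hNb, hNc⟩ := exists_graph hV a b c hb hc
  obtain ⟨e'⟩ := nonempty_psu_iso hF
  set ι : U ≃* MulAction.stabilizer G a := (e.trans e').symm with hι
  have hmemX : ∀ (σ : U) (u : {u // u ∈ N a}), (ι σ : G) • (u : V) ∈ N a := fun σ u => by
    have h1 := (hinv (ι σ : G) a u).mpr u.2
    rwa [show (ι σ : G) • a = a from (ι σ).2] at h1
  letI act : MulAction U {u // u ∈ N a} :=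
    { smul := fun σ u => ⟨(ι σ : G) • (u : V), hmemX σ u⟩
      one_smul := fun u => Subtype.ext (by
        show (ι 1 : G) • (u : V) = u
        rw [map_one, OneMemClass.coe_one, one_smul])
      mul_smul := fun σ τ u => Subtype.ext (by
        show (ι (σ * τ) : G) • (u : V) = (ι σ : G) • ((ι τ : G) • (u : V))
        rw [map_mul, Subgroup.coe_mul, mul_smul]) }
  have hval : ∀ (σ : U) (u : {u // u ∈ N a}), ((σ • u : {u // u ∈ N a}) : V) = (ι σ : G) • (u : V) :=
    fun _ _ => rfl
  haveI : MulAction.IsPretransitive U {u // u ∈ N a} := ⟨fun u w => by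
    have hu : (u : V) ∈ MulAction.orbit (MulAction.stabilizer G a) b := hNb ▸ (mem_coe.mpr u.2)
    have hw : (w : V) ∈ MulAction.orbit (MulAction.stabilizer G a) b := hNb ▸ (mem_coe.mpr w.2)
    rw [← MulAction.orbit_eq_iff.mpr hu] at hw
    obtain ⟨k, hk⟩ := hw
    refine ⟨ι.symm k, Subtype.ext ?_⟩
    rw [hval, MulEquiv.apply_symm_apply]
    exact hk⟩
  obtain ⟨φ, hφ, hadj⟩ := exists_coord (U_facts hF).1 (X := {u // u ∈ N a})
    (by rw [Fintype.card_coe, hN.deg]) (fun u w => (w : V) ∈ N (u : V)) (fun u => hN.irr _)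
    (fun σ u w => by rw [hval, hval]; exact hinv _ _ _)
    (fun u => by
      rw [← card_map (Function.Embedding.subtype _), ← hN.common_adj a u u.2]
      congr 1
      ext z
      simp only [mem_map, mem_filter, mem_univ, true_and, Function.Embedding.coe_subtype, mem_inter]
      exact ⟨fun ⟨w, hw, e⟩ => e ▸ ⟨w.2, hw⟩, fun ⟨h1, h2⟩ => ⟨⟨z, h1⟩, h2, rfl⟩⟩)
  have hmove : ∀ (σ : U) (y : V), y ≠ a → y ∉ N a →
      (ι σ : G) • y ≠ a ∧ (ι σ : G) • y ∉ N a ∧
      bset N (fun i => (φ i : V)) ((ι σ : G) • y) = (bset N (fun i => (φ i : V)) y).image σ.1 := by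
    intro σ y hya hy
    have hfix : (ι σ : G) • a = a := (ι σ).2
    refine ⟨fun e => hya (MulAction.injective (ι σ : G) (e.trans hfix.symm)), fun hm => hy ?_, ?_⟩
    · exact (hinv (ι σ : G) a y).mp (by rwa [hfix])
    · ext i
      obtain ⟨j, rfl⟩ := σ.1.surjective i
      rw [σ.1.injective.mem_finset_image, bset, bset, mem_filter, mem_filter]
      show _ ∧ ((φ (σ • j) : V) ∈ _) ↔ _
      rw [hφ, hval, hinv]
      simp
  refine ⟨N, hN, hinv, ⟨{
    φ := fun i => (φ i : V)
    inj := fun i j h => φ.injective (Subtype.ext h)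
    mem := fun i => (φ i).2
    iff_adj := hadj
    fam := fun σ hσ y hya hy => ⟨_, hmove ⟨σ, hσ⟩ y hya hy⟩
    trans := fun y hya hy y' hy'a hy' => ?_ }⟩⟩
  have h1 := hNc y hya hy
  have h2 := hNc y' hy'a hy'
  rw [← MulAction.orbit_eq_iff.mpr h1] at h2
  obtain ⟨k, hk⟩ := h2
  refine ⟨(ι.symm k).1, (ι.symm k).2, ?_⟩
  rw [← (hmove (ι.symm k) y hya hy).2.2, MulEquiv.apply_symm_apply]
  exact congrArg _ hk.symm

/-- Two such actions, one of a simple group, have isomorphic groups. -/
theorem iso_of_rank_three {F : Type} [Field F] [Fintype F] (hF : Fintype.card F = 9)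
    {G : Type*} [Group G] [Finite G] [MulAction G V] [FaithfulSMul G V] [MulAction.IsPretransitive G V]
    (hV : Fintype.card V = 275) (a b c : V) (e : MulAction.stabilizer G a ≃* Cfsg.PSU 4 F 3)
    (hb : (MulAction.orbit (MulAction.stabilizer G a) b).ncard = 112)
    (hc : (MulAction.orbit (MulAction.stabilizer G a) c).ncard = 162)
    {H : Type*} [Group H] [Finite H] [IsSimpleGroup H] {W : Type*} [Fintype W] [DecidableEq W]
    [MulAction H W] [FaithfulSMul H W] [MulAction.IsPretransitive H W]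
    (hW : Fintype.card W = 275) (a' b' c' : W) (e' : MulAction.stabilizer H a' ≃* Cfsg.PSU 4 F 3)
    (hb' : (MulAction.orbit (MulAction.stabilizer H a') b').ncard = 112)
    (hc' : (MulAction.orbit (MulAction.stabilizer H a') c').ncard = 162) : Nonempty (G ≃* H) := by
  obtain ⟨N, hN, hinv, ⟨C⟩⟩ := exists_chart hF hV a b c e hb hc
  obtain ⟨M, hM, hinv', ⟨D⟩⟩ := exists_chart hF hW a' b' c' e' hb' hc'
  obtain ⟨f, hf⟩ := exists_graph_iso hF C hN D hM
  let i : G →* Equiv.Perm W := f.permCongrHom.toMonoidHom.comp (MulAction.toPermHom G V)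
  let j : H →* Equiv.Perm W := MulAction.toPermHom H W
  have hi : Function.Injective i := f.permCongrHom.injective.comp MulAction.toPerm_injective
  have hj : Function.Injective j := MulAction.toPerm_injective
  have hiA : i.range ≤ autN M := by
    rintro _ ⟨g, rfl⟩ x y
    obtain ⟨x, rfl⟩ := f.surjective x
    obtain ⟨y, rfl⟩ := f.surjective y
    simp only [i, MonoidHom.comp_apply, MulEquiv.coe_toMonoidHom, Equiv.permCongrHom_coe,
      Equiv.permCongr_apply, Equiv.symm_apply_apply, MulAction.toPermHom_apply, MulAction.toPerm_apply,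
      hf, hinv]
  have hjA : j.range ≤ autN M := by
    rintro _ ⟨g, rfl⟩ x y
    exact hinv' g x y
  obtain ⟨hcU, -⟩ := U_facts hF
  obtain ⟨eU⟩ := nonempty_psu_iso hF
  have hcard : ∀ {K : Type _} [Group K] [Finite K] {X : Type _} [Fintype X] [MulAction K X]
      [MulAction.IsPretransitive K X] (x : X), Fintype.card X = 275 →
      (MulAction.stabilizer K x ≃* Cfsg.PSU 4 F 3) → Nat.card K = 898128000 := by
    intro K _ _ X _ _ _ x hX eK
    rw [← (MulAction.stabilizer K x).card_mul_index, MulAction.index_stabilizer_of_transitive,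
      Nat.card_eq_fintype_card (α := X), hX, Nat.card_congr (eK.trans eU).toEquiv, hcU]
  have hcG : Nat.card i.range = 898128000 := by
    rw [← Nat.card_congr (MonoidHom.ofInjective hi).toEquiv]; exact hcard a hV e
  have hcH : Nat.card j.range = 898128000 := by
    rw [← Nat.card_congr (MonoidHom.ofInjective hj).toEquiv]
    rw [← (MulAction.stabilizer H a').card_mul_index, MulAction.index_stabilizer_of_transitive,
      Nat.card_eq_fintype_card (α := W), hW, Nat.card_congr (e'.trans eU).toEquiv, hcU]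
  haveI : IsSimpleGroup j.range := MulEquiv.isSimpleGroup (MonoidHom.ofInjective hj).symm
  have hle : j.range ≤ i.range := le_of_simple hjA hiA (d := 8)
    ((card_autN_le D hM).trans (by rw [hcG]))
    (fun e he hd => by
      rw [hcH] at hd
      have h1 := (Nat.le_of_dvd (Nat.factorial_pos _) hd).trans (Nat.factorial_le he)
      norm_num [Nat.factorial] at h1)
  have heq : j.range = i.range := Subgroup.eq_of_le_of_card_ge hle (by rw [hcG, hcH])
  exact ⟨(MonoidHom.ofInjective hi).trans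
    ((MulEquiv.subgroupCongr heq.symm).trans (MonoidHom.ofInjective hj).symm)⟩

end Cfsg.Agent.McLRankThree63
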