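import Cfsg.Agent.Lib.McLRankThree63Check

/-!
The graph on 112 points: its cliques, the classification of its hemisystems and a bound for its
automorphism group.
-/

set_option autoImplicit false

namespace Cfsg.Agent.McLRankThree63

open Finset Cfsg.Agent.PermImageCert

/-- Adjacency. -/
def adj (i j : Fin 112) : Prop := (row i).testBit j = true

instance : DecidableRel adj := fun _ _ => inferInstanceAs (Decidable (_ = true))

/-- Neighbours. -/
def nb (i : Fin 112) : Finset (Fin 112) := univ.filter (fun j => adj i j)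

theorem mem_nb {i j : Fin 112} : j ∈ nb i ↔ adj i j := by simp [nb]

theorem adj_irrefl (i : Fin 112) : ¬ adj i i := by
  have := allBelow_spec symm_ok i i.2
  simp only [Bool.and_eq_true, Bool.not_eq_true'] at this
  simp [adj, this.1]

theorem adj_symm {i j : Fin 112} (h : adj i j) : adj j i := by
  have key : ∀ a b : Fin 112, (b : ℕ) < a → (row a).testBit b = (row b).testBit a := fun a b hab => by
    have := allBelow_spec symm_ok a a.2
    rw [Bool.and_eq_true] at this
    exact eq_of_beq (allBelow_spec this.2 b hab)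
  rcases lt_trichotomy (j : ℕ) i with hlt | heq | hgt
  · exact (key i j hlt).symm.trans h
  · exact (Fin.ext heq : j = i) ▸ h
  · exact (key j i hgt).trans h

theorem nb_spec (i : Fin 112) :
    (∀ j : Fin 112, (j : ℕ) ∈ nbrs.getD i [] ↔ adj i j) ∧ (nbrs.getD i []).length = 30 ∧
      ∀ j ∈ nbrs.getD i [], j < 112 := by
  have := allBelow_spec nbrs_ok i i.2
  simp only [Bool.and_eq_true, Nat.beq_eq, List.all_eq_true, Nat.blt_eq] at this
  obtain ⟨⟨h1, h2⟩, h3⟩ := this
  refine ⟨fun j => ?_, h3, h2⟩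
  rw [adj, ← h1, testBit_maskOf]

theorem card_nb_le (i : Fin 112) : (nb i).card ≤ 30 := by
  obtain ⟨h1, h2, -⟩ := nb_spec i
  calc (nb i).card = ((nb i).image Fin.val).card := (card_image_of_injective _ Fin.val_injective).symm
    _ ≤ (nbrs.getD i []).toFinset.card := card_le_card fun j hj => by
        obtain ⟨k, hk, rfl⟩ := mem_image.mp hj
        exact List.mem_toFinset.mpr ((h1 k).mpr (mem_nb.mp hk))
    _ ≤ 30 := (List.toFinset_card_le _).trans h2.le

/-! ### Automorphisms -/

/-- The automorphism group. -/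
def autL : Subgroup (Equiv.Perm (Fin 112)) where
  carrier := {σ | ∀ i j, adj (σ i) (σ j) ↔ adj i j}
  one_mem' := fun _ _ => Iff.rfl
  mul_mem' := fun {a b} ha hb i j => (ha (b i) (b j)).trans (hb i j)
  inv_mem' := fun {a} ha i j => by
    have := ha (a⁻¹ i) (a⁻¹ j)
    simp only [Equiv.Perm.coe_inv, Equiv.apply_symm_apply] at this
    exact this.symm

theorem maps_adj {σ : Equiv.Perm (Fin 112)} {P : ℕ} (h : mapsAdjOK P = true) (hσ : Rep σ P)
    {i j : Fin 112} (hij : adj i j) : adj (σ i) (σ j) := by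
  have h' := allBelow_spec h i i.2
  rw [List.all_eq_true] at h'
  have := h' j (((nb_spec i).1 j).mpr hij)
  rw [adj, hσ i, hσ j]
  exact this

theorem exists_auto {q : ℕ × ℕ} (h : autoOK q = true) : ∃ σ ∈ autL, Rep σ q.1 := by
  simp only [autoOK, Bool.and_eq_true] at h
  obtain ⟨σ, h1, h2⟩ := exists_rep h.1.1
  refine ⟨σ, fun i j => ⟨fun hij => ?_, maps_adj h.1.2 h1⟩, h1⟩
  simpa using maps_adj h.2 h2 hij

theorem exists_auto_getD {g : ℕ} (hg : g < autos.length) :
    ∃ σ ∈ autL, Rep σ (autos.getD g (0, 0)).1 := by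
  refine exists_auto ((List.all_eq_true.mp autos_ok) _ ?_)
  rw [List.getD_eq_getElem _ _ hg]
  exact List.getElem_mem _

/-- The group of the unitary action. -/
def U : Subgroup (Equiv.Perm (Fin 112)) := genGroup 112 (LeechUnitary43.perms.map Prod.fst)

theorem U_le_autL : U ≤ autL := by
  refine (Subgroup.closure_le _).mpr ?_
  rintro σ ⟨P, hP, hσ⟩
  obtain ⟨q, hq, rfl⟩ := List.mem_map.mp hP
  obtain ⟨τ, hτ, hτr⟩ := exists_auto ((List.all_eq_true.mp perms_auto_ok) q hq)
  exact hσ.unique hτr ▸ hτ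

/-! ### Cliques -/

/-- The points of a clique. -/
def cset (k : ℕ) : Finset (Fin 112) := univ.filter (fun i : Fin 112 => (i : ℕ) ∈ clq k)

theorem mem_cset {k : ℕ} {i : Fin 112} : i ∈ cset k ↔ (i : ℕ) ∈ clq k := by simp [cset]

theorem card_cset {k : ℕ} (hk : k < 280) : (cset k).card ≤ 4 := by
  have := allBelow_spec clq_ok k hk
  rw [Nat.ble_eq] at this
  calc (cset k).card = ((cset k).image Fin.val).card := (card_image_of_injective _ Fin.val_injective).symm
    _ ≤ (clq k).toFinset.card := card_le_card fun j hj => by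
        obtain ⟨i, hi, rfl⟩ := mem_image.mp hj
        exact List.mem_toFinset.mpr (mem_cset.mp hi)
    _ ≤ 4 := (List.toFinset_card_le _).trans this

/-- The cliques at a point. -/
def star (i : Fin 112) : Finset ℕ := (range 280).filter (fun k => i ∈ cset k)

theorem star_facts (i : Fin 112) :
    (star i).card = 10 ∧ ∀ j : Fin 112, j ≠ i →
      ((star i).filter (fun k => j ∈ cset k)).card = if adj i j then 1 else 0 := by
  have := allBelow_spec incid_ok i i.2
  simp only [Bool.and_eq_true, Nat.beq_eq, List.all_eq_true, Nat.blt_eq, decide_eq_true_eq,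
    Bool.or_eq_true] at this
  obtain ⟨⟨⟨⟨⟨hlt, hnd⟩, hlen⟩, hmem⟩, hmask⟩, hdis⟩ := this
  have hstar : star i = (incid.getD i []).toFinset := by
    ext k
    simp only [star, mem_filter, Finset.mem_range, mem_cset, List.mem_toFinset]
    constructor
    · rintro ⟨hk, hi⟩
      have h' := eq_of_beq (allBelow_spec hmem k hk)
      rw [List.contains_iff_mem.mpr hi] at h'
      exact List.contains_iff_mem.mp h'.symm
    · intro hk
      have h' := eq_of_beq (allBelow_spec hmem k (hlt k hk))
      rw [List.contains_iff_mem.mpr hk] at h'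
      exact ⟨hlt k hk, List.contains_iff_mem.mp h'⟩
  refine ⟨by rw [hstar, List.toFinset_card_of_nodup hnd, hlen], fun j hj => ?_⟩
  have hiff : (∃ k ∈ star i, j ∈ cset k) ↔ adj i j := by
    have hb : ((1 <<< (i : ℕ)) ||| row i).testBit j = (row i).testBit j := by
      rw [Nat.testBit_or, Nat.one_shiftLeft, Nat.testBit_two_pow,
        decide_eq_false (fun e => hj (Fin.ext e.symm)), Bool.false_or]
    rw [← hmask] at hb
    rw [adj, ← hb, testBit_maskOf, List.mem_flatMap, hstar]
    exact exists_congr fun k => and_congr List.mem_toFinset mem_cset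
  have huniq : ∀ k ∈ star i, ∀ k' ∈ star i, j ∈ cset k → j ∈ cset k' → k = k' := by
    intro k hk k' hk' h h'
    rw [hstar, List.mem_toFinset] at hk hk'
    rcases hdis k hk k' hk' with e | e
    · exact e
    · exfalso
      have : (maskOf (clq k) &&& maskOf (clq k')).testBit j = true := by
        rw [Nat.testBit_and, (testBit_maskOf _ _).mpr (mem_cset.mp h),
          (testBit_maskOf _ _).mpr (mem_cset.mp h'), Bool.and_self]
      rw [e, Nat.one_shiftLeft, Nat.testBit_two_pow, decide_eq_true_eq] at this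
      exact hj (Fin.ext this.symm)
  by_cases h : adj i j
  · rw [if_pos h]
    obtain ⟨k, hk, hkj⟩ := hiff.mpr h
    exact card_eq_one.mpr ⟨k, eq_singleton_iff_unique_mem.mpr ⟨mem_filter.mpr ⟨hk, hkj⟩, fun k' hk' =>
      huniq k' (mem_filter.mp hk').1 k hk (mem_filter.mp hk').2 hkj⟩⟩
  · rw [if_neg h, card_eq_zero, filter_eq_empty_iff]
    exact fun k hk hkj => h (hiff.mp ⟨k, hk, hkj⟩)

/-- Double counting: point pairs against cliques. -/
theorem sum_star (i : Fin 112) (B : Finset (Fin 112)) (hi : i ∈ B) :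
    ∑ k ∈ star i, (cset k ∩ B).card = 10 + (nb i ∩ B).card := by
  have h := star_facts i
  have hswap : ∑ k ∈ star i, (cset k ∩ B).card = ∑ j ∈ B, ((star i).filter (fun k => j ∈ cset k)).card := by
    have := sum_card_bipartiteAbove_eq_sum_card_bipartiteBelow (fun k (j : Fin 112) => j ∈ cset k)
      (s := star i) (t := B)
    simp only [bipartiteAbove, bipartiteBelow] at this
    refine Eq.trans (sum_congr rfl fun k _ => ?_) this
    rw [inter_comm, ← filter_mem_eq_inter]
  rw [hswap, ← add_sum_erase B _ hi]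
  have h1 : ((star i).filter (fun k => i ∈ cset k)) = star i :=
    filter_true_of_mem fun k hk => (mem_filter.mp hk).2
  rw [h1, h.1, sum_congr rfl (fun j hj => h.2 j (mem_erase.mp hj).1), sum_boole, Nat.cast_id]
  congr 2
  ext j
  simp only [mem_filter, mem_erase, mem_inter, mem_nb]
  exact ⟨fun ⟨⟨_, a⟩, b⟩ => ⟨b, a⟩, fun ⟨b, a⟩ => ⟨⟨fun e => adj_irrefl i (e ▸ b), a⟩, b⟩⟩

/-- Half the points spanning few edges. -/
def IsHemi (B : Finset (Fin 112)) : Prop := B.card = 56 ∧ ∑ i ∈ B, (nb i ∩ B).card ≤ 560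

/-- A hemisystem meets every clique in two points, and spans exactly 280 edges. -/
theorem IsHemi.facts {B : Finset (Fin 112)} (hB : IsHemi B) :
    (∀ k < 280, (cset k ∩ B).card = 2) ∧ ∑ i ∈ B, (nb i ∩ B).card = 560 := by
  obtain ⟨hc, he⟩ := hB
  set f : ℕ → ℤ := fun k => ((cset k ∩ B).card : ℤ) with hf
  have hswap : ∀ g : ℕ → ℤ, ∑ k ∈ range 280, f k * g k = ∑ i ∈ B, ∑ k ∈ star i, g k := by
    intro g
    simp only [hf, star, sum_filter]
    rw [sum_comm]
    refine sum_congr rfl fun k _ => ?_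
    rw [← sum_filter, filter_mem_eq_inter, inter_comm, sum_const, nsmul_eq_mul]
  have h1 : ∑ k ∈ range 280, f k = 560 := by
    have := hswap (fun _ => 1)
    simp only [mul_one, sum_const, (star_facts _).1, hc, nsmul_eq_mul] at this
    rw [this]; norm_num
  have h2 : ∑ k ∈ range 280, f k * f k = 560 + ((∑ i ∈ B, (nb i ∩ B).card : ℕ) : ℤ) := by
    rw [hswap f]
    have : ∀ i ∈ B, ∑ k ∈ star i, f k = ((10 + (nb i ∩ B).card : ℕ) : ℤ) := fun i hi => by
      rw [← sum_star i B hi, Nat.cast_sum]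
    rw [sum_congr rfl this, ← Nat.cast_sum, sum_add_distrib, sum_const, hc, smul_eq_mul,
      Nat.cast_add]
    norm_num
  have hsq : ∑ k ∈ range 280, (f k - 2) ^ 2 = ((∑ i ∈ B, (nb i ∩ B).card : ℕ) : ℤ) - 560 := by
    have : ∀ k ∈ range 280, (f k - 2) ^ 2 = f k * f k - 4 * f k + 4 := fun k _ => by ring
    rw [sum_congr rfl this, sum_add_distrib, sum_sub_distrib, ← mul_sum, h1, h2, sum_const, card_range]
    norm_num
    ring
  have hnn : 0 ≤ ∑ k ∈ range 280, (f k - 2) ^ 2 := sum_nonneg fun k _ => sq_nonneg _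
  have heq : (∑ i ∈ B, (nb i ∩ B).card) = 560 := by omega
  refine ⟨fun k hk => ?_, heq⟩
  have hz : ∑ k ∈ range 280, (f k - 2) ^ 2 = 0 := by rw [hsq, heq]; norm_num
  have := (sum_eq_zero_iff_of_nonneg (fun k _ => sq_nonneg (f k - 2))).mp hz k (Finset.mem_range.mpr hk)
  rw [sq_eq_zero_iff, sub_eq_zero] at this
  simp only [hf] at this
  exact_mod_cast this

theorem image_nb {σ : Equiv.Perm (Fin 112)} (hσ : σ ∈ autL) (i : Fin 112) : (nb i).image σ = nb (σ i) := by
  ext j
  obtain ⟨j, rfl⟩ := σ.surjective j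
  rw [mem_nb, hσ i j, mem_image]
  exact ⟨fun ⟨a, ha, hja⟩ => σ.injective hja ▸ mem_nb.mp ha, fun h => ⟨j, mem_nb.mpr h, rfl⟩⟩

theorem IsHemi.image {B : Finset (Fin 112)} (hB : IsHemi B) {σ : Equiv.Perm (Fin 112)} (hσ : σ ∈ autL) :
    IsHemi (B.image σ) := by
  refine ⟨by rw [card_image_of_injective _ σ.injective]; exact hB.1, le_of_eq_of_le ?_ hB.2⟩
  rw [sum_image σ.injective.injOn]
  refine sum_congr rfl fun i _ => ?_
  rw [← image_nb hσ, ← image_inter _ _ σ.injective, card_image_of_injective _ σ.injective]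

/-! ### The search -/

/-- The reference hemisystem. -/
def hemiSet : Finset (Fin 112) := univ.filter (fun i : Fin 112 => hemi.testBit i = true)

/-- Equivalent to the reference. -/
def Good (B : Finset (Fin 112)) : Prop := ∃ σ ∈ autL, B.image σ = hemiSet

/-- A set agrees with a partial state. -/
def Agrees (s : ℕ × ℕ) (B : Finset (Fin 112)) : Prop :=
  ∀ i : Fin 112, (s.1.testBit i = true → i ∈ B) ∧ (s.2.testBit i = true → i ∉ B)

/-- The points of a clique in a mask. -/
def cIn (m k : ℕ) : Finset (Fin 112) := (cset k).filter (fun i : Fin 112 => m.testBit i = true)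

theorem cnt_le {m k : ℕ} {n : ℕ} (h : n ≤ cnt m (clq k)) (hlt : ∀ j ∈ clq k, j < 112)
    (hnd : (clq k).Nodup) : n ≤ (cIn m k).card := by
  refine h.trans ?_
  rw [cnt, List.countP_eq_length_filter, ← List.toFinset_card_of_nodup (hnd.filter _),
    ← card_image_of_injective (cIn m k) Fin.val_injective]
  refine card_le_card fun j hj => ?_
  rw [List.mem_toFinset, List.mem_filter] at hj
  exact mem_image.mpr ⟨⟨j, hlt j hj.1⟩, mem_filter.mpr ⟨mem_cset.mpr hj.1, hj.2⟩, rfl⟩

theorem clq_ok' : allBelow (fun k => (clq k).all (fun j => Nat.blt j 112) && decide (clq k).Nodup) 280 = true := by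
  decide +kernel

theorem le_cIn {m k : ℕ} (hk : k < 280) {n : ℕ} (h : n ≤ cnt m (clq k)) : n ≤ (cIn m k).card := by
  have := allBelow_spec clq_ok' k hk
  simp only [Bool.and_eq_true, List.all_eq_true, Nat.blt_eq, decide_eq_true_eq] at this
  exact cnt_le h this.1 this.2

theorem testBit_outside {m k : ℕ} {i : Fin 112} (h : (outside m (clq k)).testBit i = true) :
    i ∈ cset k ∧ i ∉ cIn m k := by
  rw [outside, testBit_maskOf, List.mem_filter] at h
  refine ⟨mem_cset.mpr h.1, fun h' => ?_⟩
  simp [(mem_filter.mp h').2] at h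

variable {B : Finset (Fin 112)}

theorem agrees_step (hB : IsHemi B) {s : ℕ × ℕ} (hs : Agrees s B) {k : ℕ} (hk : k < 280) :
    Agrees (step s k) B := by
  have htwo := hB.facts.1 k hk
  have hin : cIn s.1 k ⊆ cset k ∩ B := fun i hi =>
    mem_inter.mpr ⟨(mem_filter.mp hi).1, (hs i).1 (mem_filter.mp hi).2⟩
  have hout : cset k ∩ B ⊆ cset k \ cIn s.2 k := fun i hi =>
    mem_sdiff.mpr ⟨(mem_inter.mp hi).1, fun h => (hs i).2 (mem_filter.mp h).2 (mem_inter.mp hi).2⟩
  unfold step
  split_ifs with h1 h2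
  · rw [Nat.ble_eq] at h1
    have heq : cIn s.1 k = cset k ∩ B := eq_of_subset_of_card_le hin (htwo ▸ le_cIn hk h1)
    refine fun i => ⟨(hs i).1, fun hi => ?_⟩
    rw [Nat.testBit_or, Bool.or_eq_true] at hi
    rcases hi with hi | hi
    · exact (hs i).2 hi
    · obtain ⟨a, b⟩ := testBit_outside hi
      exact fun hiB => b (heq ▸ mem_inter.mpr ⟨a, hiB⟩)
  · rw [Nat.ble_eq] at h2
    have heq : cset k ∩ B = cset k \ cIn s.2 k := eq_of_subset_of_card_le hout (by
      rw [htwo, card_sdiff_of_subset (show cIn s.2 k ⊆ cset k from filter_subset _ _)]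
      have : 2 ≤ (cIn s.2 k).card := le_cIn hk h2
      have := card_cset hk
      omega)
    refine fun i => ⟨fun hi => ?_, (hs i).2⟩
    rw [Nat.testBit_or, Bool.or_eq_true] at hi
    rcases hi with hi | hi
    · exact (hs i).1 hi
    · obtain ⟨a, b⟩ := testBit_outside hi
      exact (mem_inter.mp (heq ▸ mem_sdiff.mpr ⟨a, b⟩ : i ∈ cset k ∩ B)).2
  · exact hs

theorem agrees_state (hB : IsHemi B) : ∀ (ks : List ℕ) (s : ℕ × ℕ), (∀ k ∈ ks, k < 280) → Agrees s B →
    Agrees (ks.foldl step s) B
  | [], _, _, hs => hs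
  | k :: ks, s, hk, hs =>
    agrees_state hB ks (step s k) (fun k' hk' => hk k' (List.mem_cons_of_mem _ hk'))
      (agrees_step hB hs (hk k List.mem_cons_self))

theorem good_of_ref {n : ℕ} {g : ℕ} {s : ℕ × ℕ} (hg : g < autos.length)
    (hok : refOK (autos.getD g (0, 0)).1 (nodes.getD n noNode) s = true)
    (ih : ∀ B', IsHemi B' → Agrees ((nodes.getD n noNode).din, (nodes.getD n noNode).dout) B' → Good B')
    (hB : IsHemi B) (hs : Agrees s B) : Good B := by
  obtain ⟨σ, hσ, hσr⟩ := exists_auto_getD hg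
  obtain ⟨τ, hτ, hτB⟩ := ih (B.image (σ⁻¹ : Equiv.Perm (Fin 112))) (hB.image (inv_mem hσ)) (fun i => by
    have h := allBelow_spec hok i i.2
    simp only [Bool.and_eq_true, Bool.or_eq_true, Bool.not_eq_true'] at h
    rw [← hσr i] at h
    have hmem : i ∈ B.image (σ⁻¹ : Equiv.Perm (Fin 112)) ↔ σ i ∈ B := by
      rw [mem_image]
      exact ⟨fun ⟨a, ha, e⟩ => by rw [← e]; simpa using ha,
        fun h => ⟨σ i, h, by simp⟩⟩
    refine ⟨fun hi => hmem.mpr ((hs (σ i)).1 (h.1.resolve_left ?_)),
      fun hi hiB => (hs (σ i)).2 (h.2.resolve_left ?_) (hmem.mp hiB)⟩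
    · simpa using hi
    · simpa using hi)
  refine ⟨τ * σ⁻¹, mul_mem hτ (inv_mem hσ), ?_⟩
  rw [← hτB, image_image, Equiv.Perm.coe_mul]

theorem good_of_node : ∀ n < nodes.length, ∀ B, IsHemi B →
    Agrees ((nodes.getD n noNode).din, (nodes.getD n noNode).dout) B → Good B := by
  intro n
  induction n using Nat.strong_induction_on with
  | _ n ih =>
  intro hn B hB hs
  have hall := nodes_ok
  simp only [nodesOK, Bool.and_eq_true] at hall
  have hnode := allBelow_spec hall.1.1.1 n hn
  generalize hd : nodes.getD n noNode = d at hnode hs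
  rw [nodeOK, Bool.and_eq_true, List.all_eq_true] at hnode
  have hst : Agrees (state d) B :=
    agrees_state hB d.steps _ (fun k hk => by simpa using hnode.1 k hk) hs
  cases hf : d.fin with
  | bad c =>
    have h2 := hnode.2
    simp only [hf, Bool.and_eq_true, Bool.or_eq_true, Nat.blt_eq, Nat.ble_eq] at h2
    obtain ⟨hc, h3⟩ := h2
    exfalso
    have htwo := hB.facts.1 c hc
    rcases h3 with h3 | h3
    · have h4 := le_cIn hc h3
      have : cIn (state d).1 c ⊆ cset c ∩ B := fun i hi =>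
        mem_inter.mpr ⟨(mem_filter.mp hi).1, (hst i).1 (mem_filter.mp hi).2⟩
      have := card_le_card this
      omega
    · have h4 := le_cIn hc h3
      have : cset c ∩ B ⊆ cset c \ cIn (state d).2 c := fun i hi =>
        mem_sdiff.mpr ⟨(mem_inter.mp hi).1, fun h => (hst i).2 (mem_filter.mp h).2 (mem_inter.mp hi).2⟩
      have h5 := card_le_card this
      rw [card_sdiff_of_subset (show cIn (state d).2 c ⊆ cset c from filter_subset _ _)] at h5
      have := card_cset hc
      omega
  | leaf s =>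
    have h2 := hnode.2
    simp only [hf, Bool.and_eq_true, Nat.blt_eq] at h2
    obtain ⟨hs', hall'⟩ := h2
    obtain ⟨σ, hσ, hσr⟩ := exists_auto_getD hs'
    refine ⟨σ, hσ, ?_⟩
    ext j
    obtain ⟨i, rfl⟩ := σ.surjective j
    have h := allBelow_spec hall' i i.2
    rw [Bool.and_eq_true, Bool.or_eq_true] at h
    have hiff : i ∈ B ↔ (state d).1.testBit i = true :=
      ⟨fun hiB => h.1.resolve_right (fun h' => (hst i).2 h' hiB), (hst i).1⟩
    rw [mem_image, hemiSet, mem_filter, hσr i, ← eq_of_beq h.2, ← hiff]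
    exact ⟨fun ⟨a, ha, e⟩ => ⟨mem_univ _, σ.injective e ▸ ha⟩, fun h => ⟨i, h.2, rfl⟩⟩
  | split v k₁ g₁ k₂ g₂ =>
    have h2 := hnode.2
    simp only [hf, Bool.and_eq_true, Nat.blt_eq] at h2
    obtain ⟨⟨⟨⟨⟨⟨hv, hk₁⟩, hk₂⟩, hg₁⟩, hg₂⟩, h₁⟩, h₂⟩ := h2
    have hbit : ∀ (m : ℕ) (i : Fin 112), (m ||| 1 <<< v).testBit i = true →
        m.testBit i = true ∨ i = ⟨v, hv⟩ := fun m i h => by
      rw [Nat.testBit_or, Bool.or_eq_true, Nat.one_shiftLeft, Nat.testBit_two_pow, decide_eq_true_eq] at h
      exact h.imp_right fun e => Fin.ext e.symm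
    by_cases hvB : (⟨v, hv⟩ : Fin 112) ∈ B
    · refine good_of_ref hg₁ h₁ (ih k₁ hk₁ (hk₁.trans hn)) hB fun i => ⟨fun hi => ?_, (hst i).2⟩
      rcases hbit _ i hi with h | rfl
      · exact (hst i).1 h
      · exact hvB
    · refine good_of_ref hg₂ h₂ (ih k₂ hk₂ (hk₂.trans hn)) hB fun i => ⟨(hst i).1, fun hi => ?_⟩
      rcases hbit _ i hi with h | rfl
      · exact (hst i).2 h
      · exact hvB

/-- Every hemisystem is equivalent to the reference one. -/
theorem hemi_good (hB : IsHemi B) : Good B := by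
  have hall := nodes_ok
  simp only [nodesOK, Bool.and_eq_true, Nat.beq_eq, Nat.blt_eq] at hall
  obtain ⟨⟨⟨-, hdi⟩, hdo⟩, hpos⟩ := hall
  refine good_of_node (nodes.length - 1) (by omega) B hB fun i => ?_
  rw [hdi, hdo]; simp

/-! ### The bound -/

theorem testBit_full {i : ℕ} (h : i < 112) :
    (5192296858534827628530496329220095 : ℕ).testBit i = true := by
  rw [show (5192296858534827628530496329220095 : ℕ) = 2 ^ 112 - 1 by norm_num, Nat.testBit_two_pow_sub_one]
  simpa using h

theorem testBit_classMask : ∀ (pre : List ℕ) (v u : Fin 112),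
    (∀ b ∈ pre, b < 112 ∧ (u : ℕ) ≠ b ∧ (row b).testBit u = (row b).testBit v) →
      (classMask pre v).testBit u = true
  | [], v, u, _ => testBit_full u.2
  | b :: bs, v, u, h => by
    obtain ⟨hb, hne, heq⟩ := h b List.mem_cons_self
    rw [classMask, Nat.testBit_and, Nat.testBit_and,
      testBit_classMask bs v u (fun b' hb' => h b' (List.mem_cons_of_mem _ hb'))]
    rw [Nat.testBit_xor, testBit_full u.2, Nat.one_shiftLeft, Nat.testBit_two_pow,
      decide_eq_false (fun e => hne e.symm)]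
    split_ifs with hv
    · rw [heq, hv]; rfl
    · rw [Nat.testBit_xor, testBit_full u.2, heq, eq_false_of_ne_true hv]; rfl

theorem card_fix_le : ∀ (L : List (ℕ × ℕ × ℕ)) (pre : List ℕ), (∀ b ∈ pre, b < 112) →
    baseOK pre L = true → Nat.card (fixSub autL pre) ≤ baseSize L
  | [], pre, _, h => by
    rw [baseSize]
    have : Subsingleton (fixSub autL pre) := ⟨fun a b => Subtype.ext (Equiv.ext fun k => by
      have hk := List.contains_iff_mem.mp (allBelow_spec h k k.2)
      rw [a.2.2 k hk, b.2.2 k hk])⟩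
    exact Finite.card_le_one_iff_subsingleton.mpr this
  | (v, n, m) :: L, pre, hpre, h => by
    simp only [baseOK, Bool.and_eq_true, Nat.blt_eq, Bool.not_eq_true', Nat.beq_eq, Nat.ble_eq] at h
    obtain ⟨⟨⟨⟨hv, hvp⟩, hm⟩, hn⟩, hrest⟩ := h
    set H := fixSub autL pre with hH
    have hih := card_fix_le L (v :: pre) (List.forall_mem_cons.mpr ⟨hv, hpre⟩) hrest
    have hstab : Nat.card (MulAction.stabilizer H (⟨v, hv⟩ : Fin 112)) = Nat.card (fixSub autL (v :: pre)) :=
      Nat.card_congr
        { toFun := fun g => ⟨g.1.1, g.1.2.1, fun k hk => by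
            rcases List.mem_cons.mp hk with hk | hk
            · have e : k = (⟨v, hv⟩ : Fin 112) := Fin.ext hk
              rw [e]; exact g.2
            · exact g.1.2.2 k hk⟩
          invFun := fun g => ⟨⟨g.1, g.2.1, fun k hk => g.2.2 k (List.mem_cons_of_mem _ hk)⟩,
            g.2.2 _ List.mem_cons_self⟩
          left_inv := fun _ => rfl
          right_inv := fun _ => rfl }
    have horb : (MulAction.orbit H (⟨v, hv⟩ : Fin 112)).ncard ≤ n := by
      have hsub : MulAction.orbit H (⟨v, hv⟩ : Fin 112) ⊆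
          ↑(univ.filter (fun u : Fin 112 => m.testBit u = true)) := by
        rintro _ ⟨σ, rfl⟩
        rw [coe_filter, Set.mem_ofPred_eq]
        refine ⟨mem_univ _, ?_⟩
        rw [← hm]
        refine testBit_classMask pre ⟨v, hv⟩ _ fun b hb => ⟨hpre b hb, fun e => ?_, ?_⟩
        · have hfix := σ.2.2 ⟨b, hpre b hb⟩ hb
          have : (σ : Equiv.Perm (Fin 112)) ⟨v, hv⟩ = (σ : Equiv.Perm (Fin 112)) ⟨b, hpre b hb⟩ := by
            rw [hfix]; exact Fin.ext e
          have := congrArg Fin.val ((σ : Equiv.Perm (Fin 112)).injective this)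
          exact Bool.false_ne_true (hvp.symm.trans (List.contains_iff_mem.mpr (by simp only at this; rw [this]; exact hb)))
        · have hfix := σ.2.2 ⟨b, hpre b hb⟩ hb
          have := σ.2.1 ⟨b, hpre b hb⟩ ⟨v, hv⟩
          rw [hfix] at this
          exact Bool.eq_iff_iff.mpr this
      refine (Set.ncard_le_ncard hsub (Finset.finite_toSet _)).trans ?_
      rw [Set.ncard_coe_finset]
      refine le_trans ?_ hn
      rw [List.countP_eq_length_filter, ← List.toFinset_card_of_nodup (List.nodup_range.filter _),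
        ← card_image_of_injective _ Fin.val_injective]
      refine card_le_card fun j hj => ?_
      obtain ⟨u, hu, rfl⟩ := mem_image.mp hj
      simp [(mem_filter.mp hu).2]
    calc Nat.card H = (MulAction.orbit H (⟨v, hv⟩ : Fin 112)).ncard * Nat.card (fixSub autL (v :: pre)) := by
          rw [← hstab, ← MulAction.index_stabilizer, Subgroup.index_mul_card]
      _ ≤ n * baseSize L := Nat.mul_le_mul horb hih
      _ = baseSize ((v, n, m) :: L) := rfl

/-- The automorphism group has order at most eight times that of U(4,3). -/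
theorem card_autL_le : Nat.card autL ≤ 26127360 := by
  refine le_trans (le_of_eq ?_) (base_size ▸ card_fix_le base [] (by simp) base_ok)
  exact Nat.card_congr
    { toFun := fun σ => ⟨σ.1, σ.2, fun k hk => absurd hk List.not_mem_nil⟩
      invFun := fun σ => ⟨σ.1, σ.2.1⟩
      left_inv := fun _ => rfl
      right_inv := fun _ => rfl }

end Cfsg.Agent.McLRankThree63
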