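import Cfsg.Agent.Lib.McLRankThree63Iso
import Cfsg.Agent.Lib.LeechCoOneSimple
import Cfsg.Agent.Lib.LeechCertOrders
import Cfsg.Agent.S1580
import Cfsg.Agent.S1581
import Cfsg.Agent.S1582

/-!
The McLaughlin group acts on 275 vectors with rank three and point stabiliser U(4,3); so every such
action is that of the McLaughlin group.
-/

set_option autoImplicit false
set_option linter.style.haveILetI false

namespace Cfsg.Agent.McLRankThree63

open Cfsg Cfsg.Agent.LeechBasic Cfsg.Agent.LeechAut Cfsg.Agent.LeechOrbit Cfsg.Agent.LeechPairs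

/-- The 275 vectors. -/
def IsPoint (x : leechLattice) : Prop :=
  sqNorm (x : GolayPt → ℤ) = 32 ∧ sqNorm ((Spor.leechV - x) : GolayPt → ℤ) = 32 ∧
    dotInt ((-Spor.leechU : leechLattice) : GolayPt → ℤ) (x : GolayPt → ℤ) = 16

/-- The group of the two fixed vectors. -/
abbrev McLStab : Subgroup Co0 :=
  MulAction.stabilizer Co0 Spor.leechV ⊓ MulAction.stabilizer Co0 Spor.leechU

theorem fix_neg {g : Co0} (hg : g ∈ McLStab) : g • (-Spor.leechU) = -Spor.leechU := by
  rw [smul_neg_vec, (Subgroup.mem_inf.mp hg).2]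

theorem mem_McLStab {g : Co0} (h1 : g • Spor.leechV = Spor.leechV)
    (h2 : g • (-Spor.leechU) = -Spor.leechU) : g ∈ McLStab := by
  rw [smul_neg_vec, neg_inj] at h2
  exact Subgroup.mem_inf.mpr ⟨h1, h2⟩

theorem isPoint_smul {g : Co0} (hg : g ∈ McLStab) {x : leechLattice} (hx : IsPoint x) : IsPoint (g • x) := by
  obtain ⟨h1, h2, h3⟩ := hx
  refine ⟨by rw [sqNorm_smul]; exact h1, ?_, ?_⟩
  · rw [← AddSubgroup.coe_sub, ← show g • (Spor.leechV - x) = Spor.leechV - g • x by
      rw [smul_sub_vec, show g • Spor.leechV = Spor.leechV from (Subgroup.mem_inf.mp hg).1], sqNorm_smul,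
      AddSubgroup.coe_sub]
    exact h2
  · rw [← fix_neg hg, dotInt_smul]
    exact h3

/-- A faithful action on a non-trivial orbit of a simple group. -/
theorem faithful_of_simple {H W : Type*} [Group H] [IsSimpleGroup H] [MulAction H W]
    [MulAction.IsPretransitive H W] [Nontrivial W] : FaithfulSMul H W := by
  rcases (MonoidHom.normal_ker (MulAction.toPermHom H W)).eq_bot_or_eq_top with h | h
  · exact ⟨fun {m n} he => (MonoidHom.ker_eq_bot_iff _).mp h (Equiv.ext he)⟩
  · exfalso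
    obtain ⟨x, y, hxy⟩ := exists_pair_ne W
    obtain ⟨g, rfl⟩ := MulAction.exists_smul_eq H x y
    have hg : MulAction.toPermHom H W g = 1 := MonoidHom.mem_ker.mp (h ▸ Subgroup.mem_top g)
    exact hxy (Equiv.ext_iff.mp hg x).symm

theorem isoMcL {Ω : Type*} [Fintype Ω] [DecidableEq Ω] (hΩ : Fintype.card Ω = 275)
    (G : Subgroup (Equiv.Perm Ω)) [MulAction.IsPretransitive G Ω] (a : Ω) (F : Type) [Field F] [Fintype F]
    (hF : Fintype.card F = 9) (e : MulAction.stabilizer G a ≃* Cfsg.PSU 4 F 3) (b c : Ω)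
    (hb : (MulAction.orbit (MulAction.stabilizer G a) b).ncard = 112)
    (hc : (MulAction.orbit (MulAction.stabilizer G a) c).ncard = 162) : Spor.IsoMcL G := by
  classical
  have hu : sqNorm (Spor.leechV : GolayPt → ℤ) = 48 := sqNorm_leechV
  have hv : sqNorm ((-Spor.leechU : leechLattice) : GolayPt → ℤ) = 32 ∧
      sqNorm ((Spor.leechV - (-Spor.leechU : leechLattice)) : GolayPt → ℤ) = 32 :=
    ⟨by decide +kernel, by decide +kernel⟩
  obtain ⟨hcount, htrans⟩ := S1580.result Spor.leechV (-Spor.leechU) hu hv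
  change {x | IsPoint x}.ncard = 275 at hcount
  change ∀ x, IsPoint x → ∀ x', IsPoint x' → _ at htrans
  haveI : Finite {x // IsPoint x} :=
    (Set.finite_of_ncard_ne_zero (by rw [hcount]; norm_num) : {x | IsPoint x}.Finite).to_subtype
  letI : Fintype {x // IsPoint x} := Fintype.ofFinite _
  have hW : Fintype.card {x // IsPoint x} = 275 := by rw [← Nat.card_eq_fintype_card]; exact hcount
  letI act : MulAction McLStab {x // IsPoint x} :=
    { smul := fun g x => ⟨(g : Co0) • (x : leechLattice), isPoint_smul g.2 x.2⟩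
      one_smul := fun x => Subtype.ext (one_smul Co0 (x : leechLattice))
      mul_smul := fun g h x => Subtype.ext (mul_smul (g : Co0) (h : Co0) (x : leechLattice)) }
  have hval : ∀ (g : McLStab) (x : {x // IsPoint x}),
      ((g • x : {x // IsPoint x}) : leechLattice) = (g : Co0) • (x : leechLattice) := fun _ _ => rfl
  haveI : MulAction.IsPretransitive McLStab {x // IsPoint x} := ⟨fun x y => by
    obtain ⟨g, h1, h2, h3⟩ := htrans x x.2 y y.2
    exact ⟨⟨g, mem_McLStab h1 h2⟩, Subtype.ext h3⟩⟩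
  haveI : IsSimpleGroup McLStab := LeechCoOneSimple.isSimple_McL
  haveI : Nontrivial {x // IsPoint x} := Fintype.one_lt_card_iff_nontrivial.mp (by omega)
  haveI := faithful_of_simple (H := McLStab) (W := {x // IsPoint x})
  haveI : Finite McLStab := Nat.finite_of_card_ne_zero (by
    rw [Nat.card_congr (LeechCertOrders.infStabEquiv₂ Spor.leechV Spor.leechU).toEquiv]
    exact LeechCertOrders.card_McL.trans_ne (by norm_num))
  obtain ⟨x0⟩ : Nonempty {x // IsPoint x} := inferInstance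
  obtain ⟨h112, h162, horb⟩ := S1581.result Spor.leechV (-Spor.leechU) x0 hu hv x0.2
  change {z : leechLattice | IsPoint z ∧
    dotInt ((x0 : leechLattice) : GolayPt → ℤ) (z : GolayPt → ℤ) = 8}.ncard = 112 at h112
  change {z : leechLattice | IsPoint z ∧ z ≠ x0 ∧
    dotInt ((x0 : leechLattice) : GolayPt → ℤ) (z : GolayPt → ℤ) = 16}.ncard = 162 at h162
  obtain ⟨e₁⟩ := S1582.result Spor.leechV (-Spor.leechU) x0 hu hv x0.2 F hF
  -- the point stabiliser
  let eS : MulAction.stabilizer McLStab x0 ≃* ↥(MulAction.stabilizer Co0 Spor.leechV ⊓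
      MulAction.stabilizer Co0 (-Spor.leechU) ⊓ MulAction.stabilizer Co0 (x0 : leechLattice)) :=
    { toFun := fun g => ⟨g.1.1, Subgroup.mem_inf.mpr ⟨Subgroup.mem_inf.mpr
        ⟨(Subgroup.mem_inf.mp g.1.2).1, fix_neg g.1.2⟩, congrArg Subtype.val g.2⟩⟩
      invFun := fun g => ⟨⟨g.1, mem_McLStab (Subgroup.mem_inf.mp (Subgroup.mem_inf.mp g.2).1).1
        (Subgroup.mem_inf.mp (Subgroup.mem_inf.mp g.2).1).2⟩, Subtype.ext (Subgroup.mem_inf.mp g.2).2⟩
      left_inv := fun _ => rfl
      right_inv := fun _ => rfl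
      map_mul' := fun _ _ => rfl }
  -- its orbits
  let d : {x // IsPoint x} → ℤ := fun y => dotInt ((x0 : leechLattice) : GolayPt → ℤ) (y : leechLattice)
  have hd : ∀ (k : MulAction.stabilizer McLStab x0) (y : {x // IsPoint x}), d ((k : McLStab) • y) = d y := by
    intro k y
    show dotInt _ _ = dotInt _ _
    rw [hval]
    conv_lhs => rw [← show ((k : McLStab) : Co0) • (x0 : leechLattice) = x0 from congrArg Subtype.val k.2]
    exact dotInt_smul _ _ _
  have hself : d x0 = 32 := by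
    show dotInt _ _ = _
    rw [← x0.2.1, sqNorm, dotInt]
    exact Finset.sum_congr rfl fun i _ => (sq _).symm
  have horbit : ∀ (k : ℤ) (y : {x // IsPoint x}), d y = k → k ≠ 32 →
      (MulAction.orbit (MulAction.stabilizer McLStab x0) y).ncard =
        {z : leechLattice | IsPoint z ∧ dotInt ((x0 : leechLattice) : GolayPt → ℤ) (z : GolayPt → ℤ) = k}.ncard := by
    intro k y hy hk
    rw [← Set.ncard_image_of_injective _ Subtype.val_injective]
    congr 1
    ext z
    constructor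
    · rintro ⟨_, ⟨g, rfl⟩, rfl⟩
      exact ⟨((g : McLStab) • y).2, (hd g y).trans hy⟩
    · rintro ⟨hz, hzk⟩
      have hne : ∀ w : {x // IsPoint x}, d w = k → (w : leechLattice) ≠ x0 := fun w hw e => hk (by
        rw [← hw, ← hself]; show dotInt _ _ = dotInt _ _; rw [e])
      obtain ⟨g, h1, h2, h3, h4⟩ := horb y y.2 z hz (hne y hy) (hne ⟨z, hz⟩ hzk) (hy.trans hzk.symm)
      exact ⟨⟨z, hz⟩, ⟨⟨⟨g, mem_McLStab h1 h2⟩, Subtype.ext h3⟩, Subtype.ext h4⟩, rfl⟩
  obtain ⟨y, hyP, hy8⟩ : ∃ z, IsPoint z ∧ dotInt ((x0 : leechLattice) : GolayPt → ℤ) (z : GolayPt → ℤ) = 8 :=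
    Set.nonempty_of_ncard_ne_zero (s := {z : leechLattice | IsPoint z ∧
      dotInt ((x0 : leechLattice) : GolayPt → ℤ) (z : GolayPt → ℤ) = 8}) (by rw [h112]; norm_num)
  obtain ⟨y', hy'P, -, hy16⟩ := Set.nonempty_of_ncard_ne_zero (s := {z : leechLattice | IsPoint z ∧ z ≠ x0 ∧
      dotInt ((x0 : leechLattice) : GolayPt → ℤ) (z : GolayPt → ℤ) = 16}) (by rw [h162]; norm_num)
  have h16 : {z : leechLattice | IsPoint z ∧
      dotInt ((x0 : leechLattice) : GolayPt → ℤ) (z : GolayPt → ℤ) = 16}.ncard = 162 := by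
    refine Eq.trans (congrArg Set.ncard (Set.ext fun z => ?_)) h162
    exact ⟨fun ⟨h1, h2⟩ => ⟨h1, fun e => by subst e; exact absurd (hself.symm.trans h2) (by norm_num), h2⟩,
      fun ⟨h1, _, h2⟩ => ⟨h1, h2⟩⟩
  obtain ⟨eG⟩ := iso_of_rank_three hF hΩ a b c e hb hc (H := McLStab) hW x0 ⟨y, hyP⟩ ⟨y', hy'P⟩
    (eS.trans e₁) ((horbit 8 _ hy8 (by norm_num)).trans h112) ((horbit 16 _ hy16 (by norm_num)).trans h16)
  exact ⟨eG.trans (LeechCertOrders.infStabEquiv₂ Spor.leechV Spor.leechU)⟩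

end Cfsg.Agent.McLRankThree63
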