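import Mathlib

/-!
# Pieces for groups generated by transvections over a prime field (McLaughlin)

`Has H a φ` says that `x ↦ x + φ x • a` is a transvection in `H`. A piece is a decomposition `W ⊕ W'` such that `H`
contains all transvections of `SL(W)` or of `Sp(W, B)`, extended by the identity on `W'`. If every transvection of `H`
has an opposite one, a transvection linking `W` and `W'` enlarges the piece.
-/

namespace Cfsg.Agent.McLaughlinPiece

open Module LinearMap

variable {p : ℕ} [Fact p.Prime] {V : Type*} [AddCommGroup V] [Module (ZMod p) V]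
variable {H : Subgroup (V ≃ₗ[ZMod p] V)}


/-- the transvection with centre `a` and axis functional `φ` lies in `H` -/
def Has (H : Subgroup (V ≃ₗ[ZMod p] V)) (a : V) (φ : (V →ₗ[ZMod p] ZMod p)) : Prop :=
  φ a = 0 ∧ ∃ h ∈ H, ∀ x, h x = x + φ x • a

lemma Has.congr {a a' : V} {φ φ' : (V →ₗ[ZMod p] ZMod p)} (h : Has H a φ) (ea : a = a') (ef : φ = φ') : Has H a' φ' := by
  subst ea ef
  exact h

lemma Has.zero_right (a : V) : Has H a (0 : (V →ₗ[ZMod p] ZMod p)) := ⟨rfl, 1, H.one_mem, fun x => by simp⟩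

lemma Has.zero_left (φ : (V →ₗ[ZMod p] ZMod p)) : Has H (0 : V) φ := ⟨map_zero φ, 1, H.one_mem, fun x => by simp⟩

lemma Has.add_right {a : V} {φ ψ : (V →ₗ[ZMod p] ZMod p)} (h : Has H a φ) (h' : Has H a ψ) : Has H a (φ + ψ) := by
  obtain ⟨h0, g, hg, e⟩ := h
  obtain ⟨h0', g', hg', e'⟩ := h'
  refine ⟨by simp [h0, h0'], g * g', H.mul_mem hg hg', fun x => ?_⟩
  rw [LinearEquiv.mul_apply, e, e', map_add, map_smul, h0, smul_zero, add_zero, LinearMap.add_apply, add_smul]
  abel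

lemma Has.add_left {a b : V} {φ : (V →ₗ[ZMod p] ZMod p)} (h : Has H a φ) (h' : Has H b φ) : Has H (a + b) φ := by
  obtain ⟨h0, g, hg, e⟩ := h
  obtain ⟨h0', g', hg', e'⟩ := h'
  refine ⟨by simp [h0, h0'], g * g', H.mul_mem hg hg', fun x => ?_⟩
  rw [LinearEquiv.mul_apply, e, e', map_add, map_smul, h0', smul_zero, add_zero, smul_add]
  abel

lemma Has.smul_right {a : V} {φ : (V →ₗ[ZMod p] ZMod p)} (h : Has H a φ) (k : (ZMod p)) : Has H a (k • φ) := by
  rw [← ZMod.natCast_zmod_val k]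
  induction k.val with
  | zero => simpa using Has.zero_right a
  | succ n ih => simpa [add_smul] using ih.add_right h

lemma Has.smul_left {a : V} {φ : (V →ₗ[ZMod p] ZMod p)} (h : Has H a φ) (k : (ZMod p)) : Has H (k • a) φ := by
  obtain ⟨h0, g, hg, e⟩ := h.smul_right k
  refine ⟨by rw [map_smul, h.1, smul_zero], g, hg, fun x => ?_⟩
  rw [e, LinearMap.smul_apply, smul_assoc, smul_comm]

lemma Has.sub_right {a : V} {φ ψ : (V →ₗ[ZMod p] ZMod p)} (h : Has H a φ) (h' : Has H a ψ) : Has H a (φ - ψ) :=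
  (h.add_right (h'.smul_right (-1))).congr rfl (by module)

lemma Has.sub_left {a b : V} {φ : (V →ₗ[ZMod p] ZMod p)} (h : Has H a φ) (h' : Has H b φ) : Has H (a - b) φ :=
  (h.add_left (h'.smul_left (-1))).congr (by rw [neg_one_smul, sub_eq_add_neg]) rfl

lemma Has.of_smul_left {a : V} {φ : (V →ₗ[ZMod p] ZMod p)} {k : (ZMod p)} (hk : k ≠ 0) (h : Has H (k • a) φ) : Has H a φ :=
  (h.smul_left k⁻¹).congr (inv_smul_smul₀ hk a) rfl

lemma Has.of_smul_right {a : V} {φ : (V →ₗ[ZMod p] ZMod p)} {k : (ZMod p)} (hk : k ≠ 0) (h : Has H a (k • φ)) : Has H a φ :=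
  (h.smul_right k⁻¹).congr rfl (inv_smul_smul₀ hk φ)

/-- conjugating one transvection by another -/
lemma Has.conjT {a b : V} {φ ψ : (V →ₗ[ZMod p] ZMod p)} (h : Has H a φ) (h' : Has H b ψ) :
    Has H (a + ψ a • b) (φ - φ b • ψ) := by
  obtain ⟨h0, t, ht, e⟩ := h
  obtain ⟨h0', g, hg, e'⟩ := h'
  refine ⟨?_, g * t * g⁻¹, H.mul_mem (H.mul_mem hg ht) (H.inv_mem hg), fun x => ?_⟩
  · simp only [map_add, map_smul, LinearMap.sub_apply, LinearMap.smul_apply, h0, h0', smul_eq_mul]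
    ring
  have hinv : (g⁻¹ : V ≃ₗ[ZMod p] V) x = x - ψ x • b := by
    apply g.injective
    rw [← LinearEquiv.mul_apply, mul_inv_cancel, e']
    simp [h0']
  rw [LinearEquiv.mul_apply, LinearEquiv.mul_apply, hinv, e, e']
  simp only [map_add, map_sub, map_smul, LinearMap.sub_apply, LinearMap.smul_apply, h0', smul_eq_mul, mul_zero,
    sub_zero, sub_smul, add_smul, smul_add, smul_smul]
  module

/-- every transvection of `H` has an opposite one -/
def Opp (H : Subgroup (V ≃ₗ[ZMod p] V)) : Prop :=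
  ∀ a φ, Has H a φ → a ≠ 0 → φ ≠ 0 → ∃ b β, Has H b β ∧ φ b ≠ 0 ∧ β a ≠ 0

section compl

variable {W W' : Submodule (ZMod p) V} (hc : IsCompl W W')
include hc

lemma exists_vec (v : V) : ∃ w ∈ W, ∃ x ∈ W', v = w + x := by
  obtain ⟨w, hw, x, hx, e⟩ := Submodule.mem_sup.mp (hc.sup_eq_top ▸ Submodule.mem_top : v ∈ W ⊔ W')
  exact ⟨w, hw, x, hx, e.symm⟩

lemma exists_dual (φ : (V →ₗ[ZMod p] ZMod p)) : ∃ α β : (V →ₗ[ZMod p] ZMod p), W' ≤ ker α ∧ W ≤ ker β ∧ φ = α + β := by
  refine ⟨φ.comp (W.projection W' hc), φ - φ.comp (W.projection W' hc), fun y hy => ?_, fun w hw => ?_,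
    (add_sub_cancel _ _).symm⟩
  · rw [LinearMap.mem_ker, LinearMap.comp_apply, (Submodule.projection_apply_eq_zero_iff hc).mpr hy, map_zero]
  · rw [LinearMap.mem_ker, LinearMap.sub_apply, LinearMap.comp_apply,
      Submodule.projection_apply_of_mem_left hc hw, sub_self]

lemma dual_ext {φ ψ : (V →ₗ[ZMod p] ZMod p)} (h : ∀ w ∈ W, φ w = ψ w) (h' : ∀ y ∈ W', φ y = ψ y) : φ = ψ := by
  ext v
  obtain ⟨w, hw, x, hx, rfl⟩ := exists_vec hc v
  rw [map_add, map_add, h w hw, h' x hx]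

/-- a functional killing the complement, non-zero at a given vector, zero on a given subspace -/
lemma exists_separating {S : Submodule (ZMod p) V} (hS : S ≤ W) {e : V} (he : e ∈ W) (heS : e ∉ S) :
    ∃ μ : (V →ₗ[ZMod p] ZMod p), W' ≤ ker μ ∧ S ≤ ker μ ∧ μ e ≠ 0 := by
  have hne : e ∉ S ⊔ W' := by
    intro h
    obtain ⟨s, hs, y, hy, e'⟩ := Submodule.mem_sup.mp h
    have : y = 0 := by
      refine Submodule.disjoint_def.mp hc.disjoint y ?_ hy
      rw [show y = e - s from by rw [← e']; abel]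
      exact W.sub_mem he (hS hs)
    rw [this, add_zero] at e'
    exact heS (e' ▸ hs)
  obtain ⟨μ, hμ, hker⟩ := Submodule.exists_dual_map_eq_bot_of_notMem hne inferInstance
  have hle : S ⊔ W' ≤ ker μ := fun z hz => by
    rw [LinearMap.mem_ker, ← Submodule.mem_bot (R := ZMod p), ← hker]
    exact Submodule.mem_map_of_mem hz
  exact ⟨μ, le_sup_right.trans hle, le_sup_left.trans hle, hμ⟩

end compl

/-- `H` contains every transvection of `SL(W)` -/
structure SLP (H : Subgroup (V ≃ₗ[ZMod p] V)) (W W' : Submodule (ZMod p) V) : Prop where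
  compl : IsCompl W W'
  three : 3 ≤ finrank (ZMod p) W
  has : ∀ a ∈ W, ∀ φ : (V →ₗ[ZMod p] ZMod p), W' ≤ ker φ → φ a = 0 → Has H a φ

/-- `H` contains every transvection of `Sp(W, B)` -/
structure SpP (H : Subgroup (V ≃ₗ[ZMod p] V)) (W W' : Submodule (ZMod p) V) (B : V →ₗ[ZMod p] (V →ₗ[ZMod p] ZMod p)) : Prop where
  compl : IsCompl W W'
  alt : ∀ x, B x x = 0
  right : ∀ x, ∀ y ∈ W', B x y = 0
  nondeg : ∀ w ∈ W, w ≠ 0 → ∃ u ∈ W, B w u ≠ 0
  has : ∀ w ∈ W, Has H w (B w)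

/-- a piece with its measure -/
def IsPiece (H : Subgroup (V ≃ₗ[ZMod p] V)) (W W' : Submodule (ZMod p) V) (μ : ℕ) : Prop :=
  (SLP H W W' ∧ μ = 2 * finrank (ZMod p) W + 1) ∨ (∃ B, SpP H W W' B ∧ μ = 2 * finrank (ZMod p) W)

/-- there is a larger piece -/
def Grow (H : Subgroup (V ≃ₗ[ZMod p] V)) (μ : ℕ) : Prop := ∃ W W' μ', μ < μ' ∧ IsPiece H W W' μ'

lemma trivial_piece : SpP H (⊥ : Submodule (ZMod p) V) ⊤ 0 :=
  ⟨isCompl_bot_top, fun _ => rfl, fun _ _ _ => rfl, fun w hw hne => absurd ((Submodule.mem_bot (ZMod p)).mp hw) hne,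
    fun w _ => (Has.zero_right w).congr rfl rfl⟩

variable [Finite V]

lemma finrank_lt_of_mem {W W₁ : Submodule (ZMod p) V} (hle : W ≤ W₁) {x : V} (hx : x ∈ W₁) (hxW : x ∉ W) :
    finrank (ZMod p) W < finrank (ZMod p) W₁ :=
  Submodule.finrank_lt_finrank_of_lt (lt_of_le_of_ne hle fun h => hxW (h ▸ hx))

omit [Finite V] in
lemma notMem_of_dual {W : Submodule (ZMod p) V} {β : (V →ₗ[ZMod p] ZMod p)} {x : V} (hβ : W ≤ ker β) (h : β x ≠ 0) : x ∉ W :=
  fun hx => h (hβ hx)

/-- the extension by a full vector and a full functional -/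
lemma grow_of_RL {W W' : Submodule (ZMod p) V} (hc : IsCompl W W') (h2 : 2 ≤ finrank (ZMod p) W) {x : V} (hx : x ∈ W') {ψ : (V →ₗ[ZMod p] ZMod p)}
    (hψ : W ≤ ker ψ) (hψx : ψ x ≠ 0) (R : ∀ w ∈ W, Has H w ψ) (L : ∀ α : (V →ₗ[ZMod p] ZMod p), W' ≤ ker α → Has H x α) :
    Grow H (2 * finrank (ZMod p) W + 1) := by
  have hlt : finrank (ZMod p) W < finrank (ZMod p) (W ⊔ Submodule.span (ZMod p) {x} : Submodule (ZMod p) V) :=
    finrank_lt_of_mem le_sup_left (Submodule.mem_sup_right (Submodule.mem_span_singleton_self x))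
      (notMem_of_dual hψ hψx)
  refine ⟨W ⊔ Submodule.span (ZMod p) {x}, W' ⊓ ker ψ, _, ?_, .inl ⟨⟨⟨?_, ?_⟩, by omega, ?_⟩, rfl⟩⟩
  · omega
  · rw [Submodule.disjoint_def]
    rintro z hz ⟨hz', hzψ⟩
    obtain ⟨w, hw, s, hs, rfl⟩ := Submodule.mem_sup.mp hz
    obtain ⟨t, rfl⟩ := Submodule.mem_span_singleton.mp hs
    have ht : t = 0 := by
      rw [SetLike.mem_coe, LinearMap.mem_ker, map_add, hψ hw, zero_add, map_smul, smul_eq_mul] at hzψ
      exact (mul_eq_zero.mp hzψ).resolve_right hψx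
    rw [ht, zero_smul, add_zero] at hz' ⊢
    exact Submodule.disjoint_def.mp hc.disjoint w hw hz'
  · rw [codisjoint_iff, eq_top_iff]
    intro v _
    obtain ⟨w, hw, y, hy, rfl⟩ := exists_vec hc v
    rw [show w + y = (w + (ψ y / ψ x) • x) + (y - (ψ y / ψ x) • x) by abel]
    refine Submodule.add_mem_sup (Submodule.add_mem_sup hw
      (Submodule.smul_mem _ _ (Submodule.mem_span_singleton_self x))) ⟨W'.sub_mem hy (W'.smul_mem _ hx), ?_⟩
    rw [SetLike.mem_coe, LinearMap.mem_ker, map_sub, map_smul, smul_eq_mul, div_mul_cancel₀ _ hψx, sub_self]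
  · -- every transvection of the enlarged space
    intro a ha φ hφ hφa
    obtain ⟨α, β, hα, hβ, rfl⟩ := exists_dual hc φ
    set k := β x / ψ x with hk
    have hβeq : β = k • ψ := by
      refine dual_ext hc (fun w hw => ?_) (fun y hy => ?_)
      · rw [LinearMap.smul_apply, hψ hw, hβ hw, smul_zero]
      have hz : y - (ψ y / ψ x) • x ∈ W' ⊓ ker ψ := ⟨W'.sub_mem hy (W'.smul_mem _ hx), by
        rw [SetLike.mem_coe, LinearMap.mem_ker, map_sub, map_smul, smul_eq_mul, div_mul_cancel₀ _ hψx, sub_self]⟩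
      have h0 := hφ hz
      rw [LinearMap.mem_ker, LinearMap.add_apply, hα hz.1, zero_add, map_sub, map_smul, sub_eq_zero] at h0
      rw [h0, hk, LinearMap.smul_apply, smul_eq_mul, smul_eq_mul]
      field_simp
    obtain ⟨w, hw, s, hs, rfl⟩ := Submodule.mem_sup.mp ha
    obtain ⟨t, rfl⟩ := Submodule.mem_span_singleton.mp hs
    have hαx : α x = 0 := hα hx
    rw [hβeq] at hφa ⊢
    have hsum : α w + k * (t * ψ x) = 0 := by
      simp only [LinearMap.add_apply, LinearMap.smul_apply, map_add, map_smul, hαx, show ψ w = 0 from hψ hw,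
        smul_eq_mul] at hφa
      linear_combination hφa
    by_cases ht : t = 0
    · subst ht
      have hαw : α w = 0 := by simpa using hsum
      have hwα : Has H w α := by
        have h1 : Has H (x + ψ x • w) (α - α w • ψ) := (L α hα).conjT (R w hw)
        rw [hαw, zero_smul, sub_zero] at h1
        exact ((h1.sub_left (L α hα)).congr (add_sub_cancel_left _ _) rfl).of_smul_left hψx
      exact (hwα.add_right ((R w hw).smul_right k)).congr (by simp) rfl
    · have h1 := ((L α hα).smul_left t).conjT ((R w hw).smul_left ((t * ψ x)⁻¹))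
      refine h1.congr ?_ ?_
      · rw [map_smul, smul_eq_mul, smul_smul, mul_inv_cancel₀ (mul_ne_zero ht hψx), one_smul, add_comm]
      · rw [sub_eq_add_neg]
        congr 1
        ext z
        rw [LinearMap.neg_apply, LinearMap.smul_apply, LinearMap.smul_apply, map_smul, smul_eq_mul, smul_eq_mul,
          smul_eq_mul, show α w = -(k * (t * ψ x)) from eq_neg_of_add_eq_zero_left hsum]
        field_simp

/-- the extension of a symplectic piece by a hyperbolic pair -/
lemma grow_of_pair {W W' : Submodule (ZMod p) V} {B : V →ₗ[ZMod p] (V →ₗ[ZMod p] ZMod p)} (S : SpP H W W' B) {x y : V} (hx : x ∈ W') (hy : y ∈ W')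
    {β γ : (V →ₗ[ZMod p] ZMod p)} (hβ : W ≤ ker β) (hγ : W ≤ ker γ) (hxβ : Has H x β) (hyγ : Has H y γ) (hβy : β y ≠ 0)
    (hγx : γ x ≠ 0) {l : (ZMod p)} (hl : l ≠ 0) (link : ∀ v ∈ W, v ≠ 0 → Has H (l • v + x) (B v + β)) :
    Grow H (2 * finrank (ZMod p) W + 1) := by
  set c : (ZMod p) := -(l / γ x) with hc
  set B' : V →ₗ[ZMod p] (V →ₗ[ZMod p] ZMod p) := B + c • (β.smulRight γ - γ.smulRight β) with hB'
  have app : ∀ u v, B' u v = B u v + c * (β u * γ v - γ u * β v) := fun u v => by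
    simp [hB']
  have hBx : ∀ u, B u x = 0 := fun u => S.right u x hx
  have hBy : ∀ u, B u y = 0 := fun u => S.right u y hy
  have skew : ∀ u v, B u v = - B v u := fun u v => by
    have := S.alt (u + v)
    simp only [map_add, LinearMap.add_apply, S.alt, zero_add, add_zero] at this
    exact eq_neg_of_add_eq_zero_right this
  have hxB : ∀ u, B x u = 0 := fun u => by rw [skew, hBx, neg_zero]
  have hyB : ∀ u, B y u = 0 := fun u => by rw [skew, hBy, neg_zero]
  have alt' : ∀ u, B' u u = 0 := fun u => by rw [app, S.alt, zero_add, mul_comm (β u), sub_self, mul_zero]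
  have skew' : ∀ u v, B' u v = - B' v u := fun u v => by rw [app, app, skew u v]; ring
  have hB'W : ∀ w ∈ W, B' w = B w := fun w hw => by
    ext v; rw [app, hβ hw, hγ hw]; ring
  have hB'x : B' x = l • β := by
    ext v
    rw [app, hxB, hxβ.1, hc, LinearMap.smul_apply, smul_eq_mul]
    field_simp
    ring
  have hB'y : B' y = (c * β y) • γ := by
    ext v
    rw [app, hyB, hyγ.1, LinearMap.smul_apply, smul_eq_mul]
    ring
  set D := B' y x with hD
  have hD0 : D ≠ 0 := by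
    rw [hD, hB'y, LinearMap.smul_apply, smul_eq_mul]
    exact mul_ne_zero (mul_ne_zero (neg_ne_zero.mpr (div_ne_zero hl hγx)) hβy) hγx
  -- closure properties
  let G : V → Prop := fun z => Has H z (B' z)
  have scal : ∀ z (k : (ZMod p)), G z → G (k • z) := fun z k h => ((h.smul_left k).smul_right k).congr rfl (map_smul B' k z).symm
  have step : ∀ z z' (k : (ZMod p)), G z → G z' → G (z + (k * B' z' z) • z') := fun z z' k h h' => by
    refine (h.conjT (h'.smul_right k)).congr ?_ ?_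
    · rw [LinearMap.smul_apply, smul_eq_mul]
    · rw [map_add, map_smul, smul_smul, sub_eq_add_neg, ← neg_smul]
      congr 2
      rw [skew' z z']
      ring
  have gW : ∀ w ∈ W, G w := fun w hw => (S.has w hw).congr rfl (hB'W w hw).symm
  have gx : G x := (hxβ.smul_right l).congr rfl hB'x.symm
  have gy : G y := (hyγ.smul_right _).congr rfl hB'y.symm
  have gline : ∀ w ∈ W, ∀ r : (ZMod p), r ≠ 0 → G (w + r • x) := by
    intro w hw r hr
    by_cases hw0 : w = 0
    · rw [hw0, zero_add]; exact scal x r gx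
    have hv : (r * l)⁻¹ • w ≠ 0 := smul_ne_zero (inv_ne_zero (mul_ne_zero hr hl)) hw0
    have h0 : G ((r * l)⁻¹ • w + l⁻¹ • x) := by
      refine ((link _ (W.smul_mem _ hw) hv).smul_left l⁻¹).congr ?_ ?_
      · rw [smul_add, inv_smul_smul₀ hl]
      · rw [map_add, hB'W _ (W.smul_mem _ hw), map_smul B' l⁻¹ x, hB'x, inv_smul_smul₀ hl]
    convert scal _ (r * l) h0 using 1
    rw [smul_add, smul_inv_smul₀ (mul_ne_zero hr hl), smul_smul, mul_assoc, mul_inv_cancel₀ hl, mul_one]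
  have gall : ∀ w ∈ W, ∀ r q : (ZMod p), G (w + r • x + q • y) := by
    intro w hw r q
    by_cases hq : q = 0
    · rw [hq, zero_smul, add_zero]
      by_cases hr : r = 0
      · rw [hr, zero_smul, add_zero]; exact gW w hw
      · exact gline w hw r hr
    have h1 : G (w + (1 : (ZMod p)) • x + q • y) := by
      convert step _ y (q / D) (gline w hw 1 one_ne_zero) gy using 3
      rw [map_add, map_smul, show B' y w = 0 from by
        rw [hB'y, LinearMap.smul_apply, hγ hw, smul_zero], zero_add, one_smul, ← hD, div_mul_cancel₀ _ hD0]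
    convert step _ x ((1 - r) / (q * D)) h1 gx using 1
    have e : B' x (w + (1 : (ZMod p)) • x + q • y) = -(q * D) := by
      rw [map_add, map_add, map_smul, map_smul, alt', show B' x w = 0 from by
        rw [hB'x, LinearMap.smul_apply, hβ hw, smul_zero], skew' x y, ← hD]
      simp
    rw [e, mul_neg, div_mul_cancel₀ _ (mul_ne_zero hq hD0)]
    module
  have hxW : x ∉ W := notMem_of_dual hγ hγx
  have hlt : finrank (ZMod p) W < finrank (ZMod p) (W ⊔ Submodule.span (ZMod p) {x} ⊔ Submodule.span (ZMod p) {y} : Submodule (ZMod p) V) :=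
    finrank_lt_of_mem (le_sup_left.trans le_sup_left)
      (Submodule.mem_sup_left (Submodule.mem_sup_right (Submodule.mem_span_singleton_self x))) hxW
  have mem : ∀ {z}, z ∈ W ⊔ Submodule.span (ZMod p) {x} ⊔ Submodule.span (ZMod p) {y} →
      ∃ w ∈ W, ∃ r q : (ZMod p), z = w + r • x + q • y := by
    intro z hz
    obtain ⟨a, ha, s, hs, rfl⟩ := Submodule.mem_sup.mp hz
    obtain ⟨w, hw, s', hs', rfl⟩ := Submodule.mem_sup.mp ha
    obtain ⟨r, rfl⟩ := Submodule.mem_span_singleton.mp hs'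
    obtain ⟨q, rfl⟩ := Submodule.mem_span_singleton.mp hs
    exact ⟨w, hw, r, q, rfl⟩
  refine ⟨W ⊔ Submodule.span (ZMod p) {x} ⊔ Submodule.span (ZMod p) {y}, W' ⊓ ker β ⊓ ker γ, _, ?_,
    .inr ⟨B', ⟨⟨?_, ?_⟩, alt', ?_, ?_, ?_⟩, rfl⟩⟩
  · omega
  · rw [Submodule.disjoint_def]
    rintro z hz ⟨⟨hz', hzβ⟩, hzγ⟩
    obtain ⟨w, hw, r, q, rfl⟩ := mem hz
    simp only [SetLike.mem_coe, LinearMap.mem_ker, map_add, map_smul, show β w = 0 from hβ hw, show γ w = 0 from hγ hw, hxβ.1, hyγ.1, smul_eq_mul,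
      mul_zero, zero_add, add_zero, mul_eq_zero, hβy, hγx, or_false] at hzβ hzγ
    rw [hzβ, hzγ, zero_smul, zero_smul, add_zero, add_zero] at hz' ⊢
    exact Submodule.disjoint_def.mp S.compl.disjoint w hw hz'
  · rw [codisjoint_iff, eq_top_iff]
    intro v _
    obtain ⟨w, hw, z, hz, rfl⟩ := exists_vec S.compl v
    rw [show w + z = (w + (γ z / γ x) • x + (β z / β y) • y) + (z - (γ z / γ x) • x - (β z / β y) • y) by abel]
    refine Submodule.add_mem_sup (Submodule.add_mem_sup (Submodule.add_mem_sup hw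
      (Submodule.smul_mem _ _ (Submodule.mem_span_singleton_self x)))
      (Submodule.smul_mem _ _ (Submodule.mem_span_singleton_self y))) ⟨⟨?_, ?_⟩, ?_⟩
    · exact W'.sub_mem (W'.sub_mem hz (W'.smul_mem _ hx)) (W'.smul_mem _ hy)
    · simp [hxβ.1, div_mul_cancel₀ _ hβy]
    · simp [hyγ.1, div_mul_cancel₀ _ hγx]
  · rintro u z ⟨⟨hz, hzβ⟩, hzγ⟩
    rw [SetLike.mem_coe, LinearMap.mem_ker] at hzβ hzγ
    rw [app, S.right u z hz, hzβ, hzγ]
    ring
  · intro z hz hz0
    obtain ⟨w, hw, r, q, rfl⟩ := mem hz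
    by_cases hw0 : w = 0
    · subst hw0
      by_cases hr : r = 0
      · refine ⟨x, Submodule.mem_sup_left (Submodule.mem_sup_right (Submodule.mem_span_singleton_self x)), ?_⟩
        subst hr
        have hq : q ≠ 0 := fun h => hz0 (by simp [h])
        rw [zero_smul, add_zero, zero_add, map_smul, LinearMap.smul_apply, ← hD, smul_eq_mul]
        exact mul_ne_zero hq hD0
      · refine ⟨y, Submodule.mem_sup_right (Submodule.mem_span_singleton_self y), ?_⟩
        rw [zero_add, map_add, map_smul, map_smul, LinearMap.add_apply, LinearMap.smul_apply, LinearMap.smul_apply,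
          alt', skew' x y, ← hD]
        simp [hr, hD0]
    · obtain ⟨u, hu, hne⟩ := S.nondeg w hw hw0
      refine ⟨u, Submodule.mem_sup_left (Submodule.mem_sup_left hu), ?_⟩
      rw [app, hβ hu, hγ hu]
      simpa [hxB, hyB] using hne
  · intro z hz
    obtain ⟨w, hw, r, q, rfl⟩ := mem hz
    exact gall w hw r q

lemma grow_bot (hopp : Opp H) {a : V} {φ : (V →ₗ[ZMod p] ZMod p)} (h : Has H a φ) (ha : a ≠ 0) (hφ : φ ≠ 0) :
    Grow H (2 * finrank (ZMod p) (⊥ : Submodule (ZMod p) V) + 1) := by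
  obtain ⟨b, β, hb, hφb, hβa⟩ := hopp a φ h ha hφ
  exact grow_of_pair trivial_piece Submodule.mem_top Submodule.mem_top bot_le bot_le h hb hφb hβa one_ne_zero
    (fun v hv hne => absurd ((Submodule.mem_bot (ZMod p)).mp hv) hne)

/-! ### symplectic pieces -/

namespace SpP

variable {W W' : Submodule (ZMod p) V} {B : V →ₗ[ZMod p] (V →ₗ[ZMod p] ZMod p)} (S : SpP H W W' B)
include S

omit [Finite V] in
lemma skew (u v : V) : B u v = - B v u := by
  have := S.alt (u + v)
  simp only [map_add, LinearMap.add_apply, S.alt, zero_add, add_zero] at this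
  exact eq_neg_of_add_eq_zero_right this

omit [Finite V] in
lemma left {x : V} (hx : x ∈ W') (u : V) : B x u = 0 := by rw [S.skew, S.right u x hx, neg_zero]

omit [Finite V] in
lemma ker_right (u : V) : W' ≤ ker (B u) := fun y hy => S.right u y hy

lemma exists_rep {α : (V →ₗ[ZMod p] ZMod p)} (hα : W' ≤ ker α) : ∃ u ∈ W, α = B u := by
  let f : W →ₗ[ZMod p] Dual (ZMod p) W :=
    { toFun := fun w => (B w).comp W.subtype
      map_add' := fun a b => by ext; simp
      map_smul' := fun k a => by ext; simp }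
  have hinj : Function.Injective f := by
    rw [injective_iff_map_eq_zero]
    intro w hw
    by_contra hne
    obtain ⟨u, hu, h⟩ := S.nondeg w w.2 (fun h => hne (Subtype.ext h))
    exact h (LinearMap.congr_fun hw ⟨u, hu⟩)
  obtain ⟨w, hw⟩ := (LinearMap.injective_iff_surjective_of_finrank_eq_finrank
    (Subspace.dual_finrank_eq (K := ZMod p) (V := W)).symm).mp hinj (α.comp W.subtype)
  exact ⟨w, w.2, dual_ext S.compl (fun u hu => (LinearMap.congr_fun hw ⟨u, hu⟩).symm)
    (fun y hy => by rw [show α y = 0 from hα hy, S.right _ y hy])⟩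

omit [Finite V] in
lemma exists_common {u v : V} (hu : u ∈ W) (hv : v ∈ W) (hu0 : u ≠ 0) (hv0 : v ≠ 0) :
    ∃ z ∈ W, B u z ≠ 0 ∧ B v z ≠ 0 := by
  obtain ⟨a, ha, hau⟩ := S.nondeg u hu hu0
  obtain ⟨b, hb, hbv⟩ := S.nondeg v hv hv0
  by_cases h1 : B v a = 0
  · by_cases h2 : B u b = 0
    · exact ⟨a + b, W.add_mem ha hb, by rwa [map_add, h2, add_zero], by rwa [map_add, h1, zero_add]⟩
    · exact ⟨b, hb, h2, hbv⟩
  · exact ⟨a, ha, hau, h1⟩

omit [Finite V] in
/-- transvections of the piece are transitive on non-zero vectors -/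
lemma orbit (P : V → Prop) (hP : ∀ v ∈ W, v ≠ 0 → P v → ∀ z ∈ W, ∀ k : (ZMod p), P (v + (k * B z v) • z))
    {v : V} (hv : v ∈ W) (hv0 : v ≠ 0) (h : P v) {v' : V} (hv' : v' ∈ W) (hv'0 : v' ≠ 0) : P v' := by
  have one : ∀ a ∈ W, a ≠ 0 → P a → ∀ b ∈ W, B a b ≠ 0 → P b := by
    intro a ha ha0 h b hb hab
    have := hP a ha ha0 h (b - a) (W.sub_mem hb ha) (B b a)⁻¹
    rwa [map_sub, LinearMap.sub_apply, S.alt, sub_zero,
      inv_mul_cancel₀ (by rw [S.skew]; exact neg_ne_zero.mpr hab), one_smul, add_sub_cancel] at this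
  obtain ⟨z, hz, h1, h2⟩ := S.exists_common hv hv' hv0 hv'0
  have hz0 : z ≠ 0 := fun e => h1 (by rw [e, map_zero])
  exact one z hz hz0 (one v hv hv0 h z hz h1) v' hv' (by rw [S.skew]; exact neg_ne_zero.mpr h2)

omit [Finite V] in
lemma R_all {v0 : V} (hv : v0 ∈ W) (hv0 : v0 ≠ 0) {β : (V →ₗ[ZMod p] ZMod p)} (hβ : W ≤ ker β) (h : Has H v0 β) :
    ∀ u ∈ W, Has H u β := by
  have good : ∀ u ∈ W, B u v0 ≠ 0 → Has H u β := by
    intro u hu hne
    have h1 : Has H (v0 + B u v0 • u) β := (h.conjT (S.has u hu)).congr rfl (by rw [hβ hu, zero_smul, sub_zero])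
    exact ((h1.sub_left h).congr (add_sub_cancel_left _ _) rfl).of_smul_left hne
  intro u hu
  by_cases hne : B u v0 = 0
  · obtain ⟨z, hz, h1⟩ := S.nondeg v0 hv hv0
    have h2 : B z v0 ≠ 0 := by rw [S.skew]; exact neg_ne_zero.mpr h1
    exact ((good (u + z) (W.add_mem hu hz) (by rwa [map_add, LinearMap.add_apply, hne, zero_add])).sub_left
      (good z hz h2)).congr (add_sub_cancel_right u z) rfl
  · exact good u hu hne

lemma L_all {v0 x : V} (hv : v0 ∈ W) (hv0 : v0 ≠ 0) (hx : x ∈ W') (h : Has H x (B v0)) :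
    ∀ α : (V →ₗ[ZMod p] ZMod p), W' ≤ ker α → Has H x α := by
  have good : ∀ u ∈ W, B u v0 ≠ 0 → Has H x (B u) := by
    intro u hu hne
    have h1 : Has H x (B v0 - B v0 u • B u) :=
      (h.conjT (S.has u hu)).congr (by rw [S.right u x hx, zero_smul, add_zero]) rfl
    exact ((h.sub_right h1).congr rfl (sub_sub_cancel _ _)).of_smul_right (by rw [S.skew]; exact neg_ne_zero.mpr hne)
  intro α hα
  obtain ⟨u, hu, rfl⟩ := S.exists_rep hα
  by_cases hne : B u v0 = 0
  · obtain ⟨z, hz, h1⟩ := S.nondeg v0 hv hv0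
    have h2 : B z v0 ≠ 0 := by rw [S.skew]; exact neg_ne_zero.mpr h1
    exact ((good (u + z) (W.add_mem hu hz) (by rwa [map_add, LinearMap.add_apply, hne, zero_add])).sub_right
      (good z hz h2)).congr rfl (by rw [map_add, add_sub_cancel_right])
  · exact good u hu hne

omit [Finite V] in
lemma sel {v w : V} (hv : v ∈ W) (hw : w ∈ W) (h : ∀ k : (ZMod p), w ≠ k • v) :
    ∃ u ∈ W, B v u = 0 ∧ B u w ≠ 0 := by
  have hw0 : w ≠ 0 := fun e => h 0 (by rw [e, zero_smul])
  by_cases hv0 : v = 0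
  · obtain ⟨u, hu, hne⟩ := S.nondeg w hw hw0
    exact ⟨u, hu, by rw [hv0, map_zero, LinearMap.zero_apply], by rw [S.skew]; exact neg_ne_zero.mpr hne⟩
  obtain ⟨y, hy, hvy⟩ := S.nondeg v hv hv0
  set k := B w y / B v y
  by_contra hc
  push Not at hc
  obtain ⟨u, hu, hne⟩ := S.nondeg (w - k • v) (W.sub_mem hw (W.smul_mem _ hv)) (sub_ne_zero.mpr (h k))
  apply hne
  have h0 := hc (u - (B v u / B v y) • y) (W.sub_mem hu (W.smul_mem _ hy)) (by
    rw [map_sub, map_smul, smul_eq_mul, div_mul_cancel₀ _ hvy, sub_self])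
  rw [S.skew, neg_eq_zero, map_sub, map_smul, smul_eq_mul, sub_eq_zero] at h0
  rw [map_sub, map_smul, LinearMap.sub_apply, LinearMap.smul_apply, smul_eq_mul, h0]
  simp only [k]
  field_simp
  ring

omit [Finite V] in
lemma indep_all {v w x : V} (hv : v ∈ W) (hw : w ∈ W) (hx : x ∈ W') {β : (V →ₗ[ZMod p] ZMod p)} (hβ : W ≤ ker β)
    (ht : Has H (w + x) (B v + β)) (hind : ∀ k : (ZMod p), w ≠ k • v) :
    ∀ u ∈ W, B v u = 0 → Has H u (B v + β) := by
  have good : ∀ u ∈ W, B v u = 0 → B u w ≠ 0 → Has H u (B v + β) := by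
    intro u hu hvu hne
    have h1 : Has H (w + x + B u w • u) (B v + β) := (ht.conjT (S.has u hu)).congr
      (by rw [map_add, S.right u x hx, add_zero])
      (by rw [LinearMap.add_apply, hvu, hβ hu, add_zero, zero_smul, sub_zero])
    exact ((h1.sub_left ht).congr (add_sub_cancel_left _ _) rfl).of_smul_left hne
  intro u hu hvu
  by_cases hne : B u w = 0
  · obtain ⟨z, hz, h1, h2⟩ := S.sel hv hw hind
    exact ((good (u + z) (W.add_mem hu hz) (by rw [map_add, hvu, h1, add_zero])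
      (by rwa [map_add, LinearMap.add_apply, hne, zero_add])).sub_left (good z hz h1 h2)).congr
      (add_sub_cancel_right u z) rfl
  · exact good u hu hvu hne

omit [Finite V] in
lemma mix_orbit {v x : V} (hv : v ∈ W) (hv0 : v ≠ 0) (hx : x ∈ W') {β : (V →ₗ[ZMod p] ZMod p)} (hβ : W ≤ ker β) {l : (ZMod p)}
    (ht : Has H (l • v + x) (B v + β)) : ∀ v' ∈ W, v' ≠ 0 → Has H (l • v' + x) (B v' + β) := by
  intro v' hv' hv'0
  refine S.orbit (fun a => Has H (l • a + x) (B a + β)) ?_ hv hv0 ht hv' hv'0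
  intro a ha _ h z hz k
  refine (h.conjT ((S.has z hz).smul_right k)).congr ?_ ?_
  · rw [LinearMap.smul_apply, map_add, map_smul, S.right z x hx, add_zero, smul_eq_mul, smul_eq_mul]
    module
  · rw [map_add, map_smul, LinearMap.add_apply, hβ hz, add_zero, S.skew a z]
    module

omit [Finite V] in
lemma pure_of_mix (h2 : (2 : (ZMod p)) ≠ 0) {v x : V} (hv : v ∈ W) (hv0 : v ≠ 0) (hx : x ∈ W') {β : (V →ₗ[ZMod p] ZMod p)} (hβ : W ≤ ker β)
    {l : (ZMod p)} (link : ∀ v ∈ W, v ≠ 0 → Has H (l • v + x) (B v + β)) : Has H x β := by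
  have hβx : β x = 0 := by
    have h := (link v hv hv0).1
    simpa [S.alt, show β v = 0 from hβ hv, S.right v x hx] using h
  obtain ⟨-, g1, hg1, e1⟩ := link v hv hv0
  obtain ⟨-, g2, hg2, e2⟩ := link (-v) (W.neg_mem hv) (neg_ne_zero.mpr hv0)
  obtain ⟨-, g3, hg3, e3⟩ := (S.has v hv).smul_right (-(2 * l))
  refine Has.of_smul_right h2 ⟨by rw [LinearMap.smul_apply, hβx, smul_zero], g3 * (g1 * g2),
    H.mul_mem hg3 (H.mul_mem hg1 hg2), fun z => ?_⟩
  rw [LinearEquiv.mul_apply, LinearEquiv.mul_apply, e2, e1, e3]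
  simp only [map_add, map_smul, map_neg, LinearMap.add_apply, LinearMap.neg_apply, LinearMap.smul_apply, S.alt,
    S.right v x hx, hβx, show β v = 0 from hβ hv, smul_eq_mul, mul_zero, add_zero, zero_add, neg_zero, smul_neg]
  module

/-- a transvection whose centre and axis both meet `W` and `W'` in a proportional way -/
def Mix (H : Subgroup (V ≃ₗ[ZMod p] V)) (W : Submodule (ZMod p) V) (B : V →ₗ[ZMod p] (V →ₗ[ZMod p] ZMod p)) (w v x : V) (β : (V →ₗ[ZMod p] ZMod p)) : Prop :=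
  ∃ l : (ZMod p), l ≠ 0 ∧ w = l • v ∧ v ≠ 0 ∧ (∀ v ∈ W, v ≠ 0 → Has H (l • v + x) (B v + β)) ∧ Has H x β

omit [Finite V] in
lemma get_R (h2 : (2 : (ZMod p)) ≠ 0) {v w x : V} (hv : v ∈ W) (hw : w ∈ W) (hx : x ∈ W') {β : (V →ₗ[ZMod p] ZMod p)} (hβ : W ≤ ker β)
    (ht : Has H (w + x) (B v + β)) (hw0 : w ≠ 0) :
    (∀ u ∈ W, Has H u β) ∨ Mix H W B w v x β := by
  by_cases hind : ∀ k : (ZMod p), w ≠ k • v
  · left
    have h := S.indep_all hv hw hx hβ ht hind
    by_cases hv0 : v = 0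
    · intro u hu
      exact (h u hu (by rw [hv0, map_zero, LinearMap.zero_apply])).congr rfl (by rw [hv0, map_zero, zero_add])
    · exact S.R_all hv hv0 hβ (((h v hv (S.alt v)).sub_right (S.has v hv)).congr rfl (add_sub_cancel_left _ _))
  push Not at hind
  obtain ⟨k, rfl⟩ := hind
  have hk : k ≠ 0 := fun e => hw0 (by rw [e, zero_smul])
  have hv0 : v ≠ 0 := fun e => hw0 (by rw [e, smul_zero])
  have link := S.mix_orbit hv hv0 hx hβ ht
  exact .inr ⟨k, hk, rfl, hv0, link, S.pure_of_mix h2 hv hv0 hx hβ link⟩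

lemma get_L (h2 : (2 : (ZMod p)) ≠ 0) {v w x : V} (hv : v ∈ W) (hw : w ∈ W) (hx : x ∈ W') {β : (V →ₗ[ZMod p] ZMod p)} (hβ : W ≤ ker β)
    (ht : Has H (w + x) (B v + β)) (hv0 : v ≠ 0) :
    (∀ α : (V →ₗ[ZMod p] ZMod p), W' ≤ ker α → Has H x α) ∨ Mix H W B w v x β := by
  by_cases hw0 : w = 0
  · left
    have link := S.mix_orbit hv hv0 hx hβ (l := 0) (by rwa [zero_smul, ← hw0])
    have hd := (link ((2 : (ZMod p)) • v) (W.smul_mem _ hv) (smul_ne_zero h2 hv0)).sub_right (link v hv hv0 |>.congr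
      (by rw [zero_smul, zero_smul]) rfl)
    exact S.L_all hv hv0 hx (hd.congr (by rw [zero_smul, zero_add]) (by rw [map_smul]; module))
  by_cases hind : ∀ k : (ZMod p), w ≠ k • v
  · left
    have hind' : ∀ k : (ZMod p), v ≠ k • w := by
      intro k e
      have hk : k ≠ 0 := fun h => hv0 (by rw [e, h, zero_smul])
      exact hind k⁻¹ (by rw [e, inv_smul_smul₀ hk])
    have good : ∀ u ∈ W, B w u = 0 → B v u ≠ 0 → Has H (w + x) (B u) := by
      intro u hu hwu hne
      have h1 : Has H (w + x) (B v + β - B v u • B u) := (ht.conjT (S.has u hu)).congr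
        (by rw [map_add, S.right u x hx, S.skew u w, hwu, neg_zero, add_zero, zero_smul, add_zero])
        (by rw [LinearMap.add_apply, hβ hu, add_zero])
      exact ((ht.sub_right h1).congr rfl (sub_sub_cancel _ _)).of_smul_right hne
    obtain ⟨z, hz, h1, h1'⟩ := S.sel hw hv hind'
    have h1'' : B v z ≠ 0 := by rw [S.skew]; exact neg_ne_zero.mpr h1'
    have hBw : Has H (w + x) (B w) := by
      by_cases hvw : B v w = 0
      · exact ((good (w + z) (W.add_mem hw hz) (by rw [map_add, S.alt, h1, add_zero])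
          (by rwa [map_add, hvw, zero_add])).sub_right (good z hz h1 h1'')).congr rfl
          (by rw [map_add, add_sub_cancel_right])
      · exact good w hw (S.alt w) hvw
    exact S.L_all hw hw0 hx ((hBw.sub_left (S.has w hw)).congr (add_sub_cancel_left _ _) rfl)
  push Not at hind
  obtain ⟨k, rfl⟩ := hind
  have hk : k ≠ 0 := fun e => hw0 (by rw [e, zero_smul])
  have link := S.mix_orbit hv hv0 hx hβ ht
  exact .inr ⟨k, hk, rfl, hv0, link, S.pure_of_mix h2 hv hv0 hx hβ link⟩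

lemma two_le {w : V} (hw : w ∈ W) (hw0 : w ≠ 0) : 2 ≤ finrank (ZMod p) W := by
  obtain ⟨u, hu, hne⟩ := S.nondeg w hw hw0
  have h1 : Submodule.span (ZMod p) {w} < W := lt_of_le_of_ne ((Submodule.span_singleton_le_iff_mem _ _).mpr hw)
    fun e => hne (by
      rw [← e] at hu
      obtain ⟨k, rfl⟩ := Submodule.mem_span_singleton.mp hu
      rw [map_smul, S.alt, smul_zero])
  have := Submodule.finrank_lt_finrank_of_lt h1
  rw [finrank_span_singleton hw0] at this
  omega

lemma grow_of_R (hopp : Opp H) (h2 : (2 : (ZMod p)) ≠ 0) {ψ : (V →ₗ[ZMod p] ZMod p)} (hψ : W ≤ ker ψ) (hψ0 : ψ ≠ 0) {w0 : V} (hw : w0 ∈ W)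
    (hw0 : w0 ≠ 0) (R : ∀ u ∈ W, Has H u ψ) : Grow H (2 * finrank (ZMod p) W + 1) := by
  obtain ⟨b, f, hb, hψb, hfw⟩ := hopp w0 ψ (R w0 hw) hw0 hψ0
  obtain ⟨wb, hwb, y, hy, rfl⟩ := exists_vec S.compl b
  obtain ⟨α, γ, hα, hγ, rfl⟩ := exists_dual S.compl f
  obtain ⟨v, hv, rfl⟩ := S.exists_rep hα
  rw [map_add, hψ hwb, zero_add] at hψb
  have hv0 : v ≠ 0 := fun e => hfw (by
    rw [e, map_zero, zero_add]
    exact hγ hw)
  refine grow_of_RL S.compl (S.two_le hw hw0) hy hψ hψb R ?_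
  rcases S.get_L h2 hv hwb hy hγ hb hv0 with h | ⟨l, -, rfl, -, link, hpure⟩
  · exact h
  have h1 : Has H y (B v + γ) := (hb.conjT ((R v hv).smul_left (-(l / ψ y)))).congr (by
    rw [map_add, map_smul, hψ hv, smul_zero, zero_add, smul_smul, mul_neg, mul_div_cancel₀ _ hψb]
    module) (by
    rw [LinearMap.add_apply, map_smul, map_smul, S.alt, hγ hv, smul_zero, add_zero, zero_smul, sub_zero])
  exact S.L_all hv hv0 hy ((h1.sub_right hpure).congr rfl (add_sub_cancel_right _ _))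

lemma grow_of_L (hopp : Opp H) (h2 : (2 : (ZMod p)) ≠ 0) {x : V} (hx : x ∈ W') (hx0 : x ≠ 0) {w0 : V} (hw : w0 ∈ W)
    (hw0 : w0 ≠ 0) (L : ∀ α : (V →ₗ[ZMod p] ZMod p), W' ≤ ker α → Has H x α) : Grow H (2 * finrank (ZMod p) W + 1) := by
  obtain ⟨u0, hu0, hne⟩ := S.nondeg w0 hw hw0
  have hB0 : B w0 ≠ 0 := fun e => hne (by rw [e]; rfl)
  obtain ⟨b, f, hb, hαb, hfx⟩ := hopp x (B w0) (L _ (S.ker_right w0)) hx0 hB0
  obtain ⟨wb, hwb, y, hy, rfl⟩ := exists_vec S.compl b
  obtain ⟨α, γ, hα, hγ, rfl⟩ := exists_dual S.compl f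
  obtain ⟨v, hv, rfl⟩ := S.exists_rep hα
  rw [LinearMap.add_apply, S.right v x hx, zero_add] at hfx
  have hwb0 : wb ≠ 0 := fun e => hαb (by rw [e, zero_add, S.right w0 y hy])
  refine grow_of_RL S.compl (S.two_le hw hw0) hx hγ hfx ?_ L
  rcases S.get_R h2 hv hwb hy hγ hb hwb0 with h | ⟨l, hl, rfl, hv0, link, hpure⟩
  · exact h
  have h1 : Has H (l • v + y) γ := (hb.conjT ((L _ (S.ker_right v)).smul_right (γ x)⁻¹)).congr (by
    rw [LinearMap.smul_apply, map_add, map_smul, S.alt, S.right v y hy, smul_zero, add_zero, smul_zero, zero_smul,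
      add_zero]) (by
    rw [LinearMap.add_apply, S.right v x hx, zero_add, smul_smul, mul_inv_cancel₀ hfx, one_smul, add_sub_cancel_left])
  exact S.R_all hv hv0 hγ (((h1.sub_left hpure).congr (add_sub_cancel_right _ _) rfl).of_smul_left hl)

lemma grow_of_mix (hopp : Opp H) (h2 : (2 : (ZMod p)) ≠ 0) {w v x : V} (hv : v ∈ W) (hx : x ∈ W') (hx0 : x ≠ 0) {β : (V →ₗ[ZMod p] ZMod p)}
    (hβ : W ≤ ker β) (hβ0 : β ≠ 0) (M : Mix H W B w v x β) : Grow H (2 * finrank (ZMod p) W + 1) := by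
  obtain ⟨l, hl, -, hv0, link, hxβ⟩ := M
  obtain ⟨b, f, hb, hβb, hfx⟩ := hopp x β hxβ hx0 hβ0
  obtain ⟨wb, hwb, y, hy, rfl⟩ := exists_vec S.compl b
  obtain ⟨α, γ, hα, hγ, rfl⟩ := exists_dual S.compl f
  obtain ⟨u, hu, rfl⟩ := S.exists_rep hα
  rw [map_add, hβ hwb, zero_add] at hβb
  rw [LinearMap.add_apply, S.right u x hx, zero_add] at hfx
  have hy0 : y ≠ 0 := fun e => hβb (by rw [e, map_zero])
  have hγ0 : γ ≠ 0 := fun e => hfx (by rw [e]; rfl)
  by_cases hwb0 : wb = 0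
  · by_cases hu0 : u = 0
    · exact grow_of_pair S hx hy hβ hγ hxβ (hb.congr (by rw [hwb0, zero_add]) (by rw [hu0, map_zero, zero_add]))
        hβb hfx hl link
    rcases S.get_L h2 hu hwb hy hγ hb hu0 with h | ⟨-, -, -, -, -, hp⟩
    · exact S.grow_of_L hopp h2 hy hy0 hv hv0 h
    · exact grow_of_pair S hx hy hβ hγ hxβ hp hβb hfx hl link
  rcases S.get_R h2 hu hwb hy hγ hb hwb0 with h | ⟨-, -, -, -, -, hp⟩
  · exact S.grow_of_R hopp h2 hγ hγ0 hv hv0 h
  · exact grow_of_pair S hx hy hβ hγ hxβ hp hβb hfx hl link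

lemma upgrade {v w : V} (hv : v ∈ W) (hv0 : v ≠ 0) (hw : w ∈ W) (ht : Has H w (B v)) (hind : ∀ k : (ZMod p), w ≠ k • v) :
    Grow H (2 * finrank (ZMod p) W) := by
  have h := S.indep_all hv hw W'.zero_mem (β := 0) (by simp) (ht.congr (add_zero w).symm (add_zero _).symm) hind
  have three : 3 ≤ finrank (ZMod p) W := by
    obtain ⟨u, hu, hne⟩ := S.nondeg v hv hv0
    have hlt : Submodule.span (ZMod p) (Set.range ![v, w]) < W := by
      refine lt_of_le_of_ne ?_ fun e => ?_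
      · rw [Submodule.span_le]
        rintro z ⟨i, rfl⟩
        fin_cases i <;> assumption
      · apply hne
        have hle : Submodule.span (ZMod p) (Set.range ![v, w]) ≤ ker (B v) := by
          rw [Submodule.span_le]
          rintro z ⟨i, rfl⟩
          fin_cases i
          · exact S.alt v
          · exact ht.1
        exact hle (e.symm ▸ hu)
    have hli : LinearIndependent (ZMod p) ![v, w] :=
      (LinearIndependent.pair_iff' hv0).mpr fun k e => hind k e.symm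
    have := Submodule.finrank_lt_finrank_of_lt hlt
    rw [finrank_span_eq_card hli, Fintype.card_fin] at this
    omega
  have all : ∀ v' ∈ W, v' ≠ 0 → ∀ u ∈ W, B v' u = 0 → Has H u (B v') := by
    intro v' hv' hv'0
    refine S.orbit (fun a => ∀ u ∈ W, B a u = 0 → Has H u (B a)) ?_ hv hv0
      (fun u hu hvu => (h u hu hvu).congr rfl (add_zero _)) hv' hv'0
    intro a ha _ ha' z hz k u hu hau
    have hzu : B a (u - (k * B z u) • z) = 0 := by
      simp only [map_add, map_smul, LinearMap.add_apply, LinearMap.smul_apply, smul_eq_mul] at hau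
      rw [map_sub, map_smul, smul_eq_mul, S.skew a z]
      linear_combination hau
    refine ((ha' _ (W.sub_mem hu (W.smul_mem _ hz)) hzu).conjT ((S.has z hz).smul_right k)).congr ?_ ?_
    · rw [LinearMap.smul_apply, map_sub, map_smul, S.alt, smul_zero, sub_zero, smul_eq_mul, sub_add_cancel]
    · rw [map_add, map_smul, S.skew a z]
      module
  refine ⟨W, W', _, Nat.lt_succ_self _, .inl ⟨⟨S.compl, three, ?_⟩, rfl⟩⟩
  intro a ha φ hφ hφa
  obtain ⟨v', hv', rfl⟩ := S.exists_rep hφ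
  by_cases hv'0 : v' = 0
  · exact (Has.zero_right a).congr rfl (by rw [hv'0, map_zero])
  · exact all v' hv' hv'0 a ha hφa

/-- every transvection is inside or outside the piece, or the piece grows -/
theorem classify (hopp : Opp H) (h2 : (2 : (ZMod p)) ≠ 0) (hW : W ≠ ⊥) {a : V} {φ : (V →ₗ[ZMod p] ZMod p)} (ht : Has H a φ) (ha0 : a ≠ 0)
    (hφ0 : φ ≠ 0) :
    Grow H (2 * finrank (ZMod p) W) ∨ (a ∈ W ∧ ∃ k : (ZMod p), φ = k • B a) ∨ (a ∈ W' ∧ W ≤ ker φ) := by
  obtain ⟨w0, hw0', hw00⟩ := Submodule.exists_mem_ne_zero_of_ne_bot hW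
  have mono : Grow H (2 * finrank (ZMod p) W + 1) → Grow H (2 * finrank (ZMod p) W) := fun ⟨A, A', m, hm, hp⟩ =>
    ⟨A, A', m, by omega, hp⟩
  obtain ⟨w, hw, x, hx, rfl⟩ := exists_vec S.compl a
  obtain ⟨α, β, hα, hβ, rfl⟩ := exists_dual S.compl φ
  obtain ⟨v, hv, rfl⟩ := S.exists_rep hα
  by_cases h1 : w ≠ 0 ∧ β ≠ 0
  · refine .inl (mono ?_)
    rcases S.get_R h2 hv hw hx hβ ht h1.1 with h | h
    · exact S.grow_of_R hopp h2 hβ h1.2 hw0' hw00 h
    · by_cases hx0 : x = 0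
      · obtain ⟨l, hl, -, hv0, link, -⟩ := h
        exact S.grow_of_R hopp h2 hβ h1.2 hw0' hw00 (S.R_all hv hv0 hβ ((((link v hv hv0).congr
          (by rw [hx0, add_zero]) rfl).of_smul_left hl |>.sub_right (S.has v hv)).congr rfl (add_sub_cancel_left _ _)))
      · exact S.grow_of_mix hopp h2 hv hx hx0 hβ h1.2 h
  by_cases h3 : v ≠ 0 ∧ x ≠ 0
  · refine .inl (mono ?_)
    rcases S.get_L h2 hv hw hx hβ ht h3.1 with h | h
    · exact S.grow_of_L hopp h2 hx h3.2 hw0' hw00 h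
    · obtain ⟨l, hl, hwl, hv0, link, hp⟩ := h
      by_cases hβ0 : β = 0
      · exact S.grow_of_L hopp h2 hx h3.2 hw0' hw00 (S.L_all hv hv0 hx ((((link v hv hv0).congr rfl
          (by rw [hβ0, add_zero])).sub_left ((S.has v hv).smul_left l)).congr (add_sub_cancel_left _ _) rfl))
      · exact S.grow_of_mix hopp h2 hv hx h3.2 hβ hβ0 ⟨l, hl, hwl, hv0, link, hp⟩
  by_cases hw0 : w = 0
  · right; right
    have hx0 : x ≠ 0 := fun e => ha0 (by rw [hw0, e, add_zero])
    have hv0 : v = 0 := by by_contra e; exact h3 ⟨e, hx0⟩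
    exact ⟨by rw [hw0, zero_add]; exact hx, by rw [hv0, map_zero, zero_add]; exact hβ⟩
  have hβ0 : β = 0 := by by_contra e; exact h1 ⟨hw0, e⟩
  have hv0 : v ≠ 0 := fun e => hφ0 (by rw [e, hβ0, map_zero, add_zero])
  have hx0 : x = 0 := by by_contra e; exact h3 ⟨hv0, e⟩
  rw [hx0, add_zero] at ht ⊢
  rw [hβ0, add_zero] at ht ⊢
  by_cases hind : ∀ k : (ZMod p), w ≠ k • v
  · exact .inl (S.upgrade hv hv0 hw ht hind)
  push Not at hind
  obtain ⟨k, rfl⟩ := hind
  refine .inr (.inl ⟨W.smul_mem _ hv, k⁻¹, ?_⟩)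
  rw [map_smul, inv_smul_smul₀ fun e => hw0 (by rw [e, zero_smul])]

end SpP

/-! ### linear pieces -/

namespace SLP

variable {W W' : Submodule (ZMod p) V} (S : SLP H W W')
include S

lemma not_le_span_pair (a b : V) : ∃ e ∈ W, e ∉ Submodule.span (ZMod p) (Set.range ![a, b]) := by
  by_contra h
  push Not at h
  have h1 := Submodule.finrank_mono (s := W) h
  have h2 := finrank_range_le_card (R := ZMod p) (b := ![a, b])
  rw [Set.finrank, Fintype.card_fin] at h2
  have := S.three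
  omega

lemma get_R {w x : V} (hw : w ∈ W) (hx : x ∈ W') {α β : (V →ₗ[ZMod p] ZMod p)} (hα : W' ≤ ker α) (hβ : W ≤ ker β)
    (ht : Has H (w + x) (α + β)) (hw0 : w ≠ 0) : ∀ u ∈ W, Has H u β := by
  obtain ⟨u, ⟨hu, hαu⟩, huw⟩ : ∃ u, (u ∈ W ∧ α u = 0) ∧ u ∉ Submodule.span (ZMod p) {w} := by
    by_contra h
    push Not at h
    have hle : W ⊓ ker α ≤ Submodule.span (ZMod p) {w} := fun u hu => h u ⟨hu.1, hu.2⟩
    have h1 := Submodule.finrank_mono hle
    rw [finrank_span_singleton hw0] at h1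
    have h2 : finrank (ZMod p) W ≤ finrank (ZMod p) (W ⊓ ker α : Submodule (ZMod p) V) + 1 := by
      have := (α.domRestrict W).finrank_range_add_finrank_ker
      have hr : finrank (ZMod p) (LinearMap.range (α.domRestrict W)) ≤ 1 := by
        simpa using Submodule.finrank_le (LinearMap.range (α.domRestrict W))
      have e : (LinearMap.ker (α.domRestrict W)).map W.subtype = W ⊓ ker α := by
        ext z; simp [LinearMap.domRestrict, and_comm]
      have e2 := (Submodule.equivMapOfInjective _ W.injective_subtype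
        (LinearMap.ker (α.domRestrict W))).finrank_eq
      rw [e] at e2
      omega
    have := S.three
    omega
  have hu0 : u ≠ 0 := fun e => huw (e ▸ Submodule.zero_mem _)
  obtain ⟨μ, hμ', hμu, hμw⟩ := exists_separating S.compl ((Submodule.span_singleton_le_iff_mem _ _).mpr hu) hw
    (fun h => by
      obtain ⟨k, rfl⟩ := Submodule.mem_span_singleton.mp h
      exact huw (Submodule.mem_span_singleton.mpr ⟨k⁻¹, inv_smul_smul₀ (left_ne_zero_of_smul hw0) u⟩))
  have hμu' : μ u = 0 := hμu (Submodule.mem_span_singleton_self u)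
  have h1 : Has H (w + x + μ w • u) (α + β) := (ht.conjT (S.has u hu μ hμ' hμu')).congr
    (by rw [map_add, show μ x = 0 from hμ' hx, add_zero])
    (by rw [LinearMap.add_apply, hαu, hβ hu, add_zero, zero_smul, sub_zero])
  have h2 : Has H u β := ((((h1.sub_left ht).congr (add_sub_cancel_left _ _) rfl).of_smul_left hμw).sub_right
    (S.has u hu α hα hαu)).congr rfl (add_sub_cancel_left _ _)
  intro z hz
  by_cases hzu : z ∈ Submodule.span (ZMod p) {u}
  · obtain ⟨k, rfl⟩ := Submodule.mem_span_singleton.mp hzu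
    exact h2.smul_left k
  obtain ⟨ν, hν', hνz, hνu⟩ := exists_separating S.compl ((Submodule.span_singleton_le_iff_mem _ _).mpr hz) hu
    (fun h => by
      obtain ⟨k, rfl⟩ := Submodule.mem_span_singleton.mp h
      exact hzu (Submodule.mem_span_singleton.mpr ⟨k⁻¹, inv_smul_smul₀ (left_ne_zero_of_smul hu0) z⟩))
  have h3 : Has H (u + ν u • z) β := (h2.conjT (S.has z hz ν hν' (hνz (Submodule.mem_span_singleton_self z)))).congr
    rfl (by rw [hβ hz, zero_smul, sub_zero])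
  exact ((h3.sub_left h2).congr (add_sub_cancel_left _ _) rfl).of_smul_left hνu

lemma get_L {w x : V} (hw : w ∈ W) (hx : x ∈ W') {α β : (V →ₗ[ZMod p] ZMod p)} (hα : W' ≤ ker α) (hβ : W ≤ ker β)
    (ht : Has H (w + x) (α + β)) (hα0 : α ≠ 0) : ∀ μ : (V →ₗ[ZMod p] ZMod p), W' ≤ ker μ → Has H x μ := by
  obtain ⟨u, hu, hαu⟩ : ∃ u ∈ W, α u ≠ 0 := by
    by_contra h
    push Not at h
    exact hα0 (dual_ext S.compl (fun z hz => by simp [h z hz]) fun z hz => by simp [show α z = 0 from hα hz])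
  obtain ⟨e, he, hesp⟩ := S.not_le_span_pair w u
  obtain ⟨μ, hμ', hμs, hμe⟩ := exists_separating S.compl (S := Submodule.span (ZMod p) (Set.range ![w, u]))
    (by rw [Submodule.span_le]; rintro z ⟨i, rfl⟩; fin_cases i <;> assumption) he hesp
  have hμw : μ w = 0 := hμs (Submodule.subset_span ⟨0, rfl⟩)
  have hμu : μ u = 0 := hμs (Submodule.subset_span ⟨1, rfl⟩)
  have h1 : Has H (w + x) (α + β - α u • μ) := (ht.conjT (S.has u hu μ hμ' hμu)).congr
    (by rw [map_add, hμw, show μ x = 0 from hμ' hx, add_zero, zero_smul, add_zero])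
    (by rw [LinearMap.add_apply, hβ hu, add_zero])
  have h2 : Has H x μ := ((((ht.sub_right h1).congr rfl (sub_sub_cancel _ _)).of_smul_right hαu).sub_left
    (S.has w hw μ hμ' hμw)).congr (add_sub_cancel_left _ _) rfl
  intro ν hν
  by_cases hex : ∃ z ∈ W, μ z ≠ 0 ∧ ν z = 0
  · obtain ⟨z, hz, hμz, hνz⟩ := hex
    have h3 : Has H x (μ - μ z • ν) := (h2.conjT (S.has z hz ν hν hνz)).congr
      (by rw [show ν x = 0 from hν hx, zero_smul, add_zero]) rfl
    exact ((h2.sub_right h3).congr rfl (sub_sub_cancel _ _)).of_smul_right hμz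
  push Not at hex
  have hνe : ν e ≠ 0 := hex e he hμe
  have hμeq : μ = (μ e / ν e) • ν := by
    refine dual_ext S.compl (fun z hz => ?_) fun z hz => by
      simp [show μ z = 0 from hμ' hz, show ν z = 0 from hν hz]
    by_contra hne
    apply hex (z - (ν z / ν e) • e) (W.sub_mem hz (W.smul_mem _ he))
    · intro h0
      rw [map_sub, map_smul, smul_eq_mul, sub_eq_zero] at h0
      apply hne
      rw [LinearMap.smul_apply, smul_eq_mul, h0]
      field_simp
    · rw [map_sub, map_smul, smul_eq_mul, div_mul_cancel₀ _ hνe, sub_self]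
  exact (h2.congr rfl hμeq).of_smul_right (div_ne_zero hμe hνe)

/-- every transvection is inside or outside the piece, or the piece grows -/
theorem classify (hopp : Opp H) {a : V} {φ : (V →ₗ[ZMod p] ZMod p)} (ht : Has H a φ) (ha0 : a ≠ 0) (hφ0 : φ ≠ 0) :
    Grow H (2 * finrank (ZMod p) W + 1) ∨ (a ∈ W ∧ W' ≤ ker φ) ∨ (a ∈ W' ∧ W ≤ ker φ) := by
  have h3 := S.three
  obtain ⟨w, hw, x, hx, rfl⟩ := exists_vec S.compl a
  obtain ⟨α, β, hα, hβ, rfl⟩ := exists_dual S.compl φ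
  by_cases h1 : w ≠ 0 ∧ β ≠ 0
  · left
    have R := S.get_R hw hx hα hβ ht h1.1
    obtain ⟨b, f, hb, hψb, hfw⟩ := hopp w β (R w hw) h1.1 h1.2
    obtain ⟨wb, hwb, y, hy, rfl⟩ := exists_vec S.compl b
    obtain ⟨α', γ, hα', hγ, rfl⟩ := exists_dual S.compl f
    rw [map_add, hβ hwb, zero_add] at hψb
    have hα'0 : α' ≠ 0 := fun e => hfw (by rw [e, zero_add]; exact hγ hw)
    exact grow_of_RL S.compl (by omega) hy hβ hψb R (S.get_L hwb hy hα' hγ hb hα'0)
  by_cases h2 : α ≠ 0 ∧ x ≠ 0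
  · left
    have L := S.get_L hw hx hα hβ ht h2.1
    obtain ⟨b, f, hb, hαb, hfx⟩ := hopp x α (L α hα) h2.2 h2.1
    obtain ⟨wb, hwb, y, hy, rfl⟩ := exists_vec S.compl b
    obtain ⟨α', γ, hα', hγ, rfl⟩ := exists_dual S.compl f
    rw [LinearMap.add_apply, show α' x = 0 from hα' hx, zero_add] at hfx
    have hwb0 : wb ≠ 0 := fun e => hαb (by rw [e, zero_add]; exact hα hy)
    exact grow_of_RL S.compl (by omega) hx hγ hfx (S.get_R hwb hy hα' hγ hb hwb0) L
  right
  by_cases hw0 : w = 0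
  · right
    have hx0 : x ≠ 0 := fun e => ha0 (by rw [hw0, e, add_zero])
    have hα0 : α = 0 := by by_contra e; exact h2 ⟨e, hx0⟩
    exact ⟨by rw [hw0, zero_add]; exact hx, by rw [hα0, zero_add]; exact hβ⟩
  left
  have hβ0 : β = 0 := by by_contra e; exact h1 ⟨hw0, e⟩
  have hα0 : α ≠ 0 := fun e => hφ0 (by rw [e, hβ0, add_zero])
  have hx0 : x = 0 := by by_contra e; exact h2 ⟨hα0, e⟩
  exact ⟨by rw [hx0, add_zero]; exact hw, by rw [hβ0, add_zero]; exact hα⟩

end SLP

/-- a piece admitting no larger one -/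
theorem exists_maximal : ∃ W W' μ, IsPiece H W W' μ ∧ ¬ Grow H μ := by
  classical
  have hb : ∀ W W' μ, IsPiece H W W' μ → μ ≤ 2 * finrank (ZMod p) V + 1 := by
    intro W W' μ h
    have := Submodule.finrank_le W
    rcases h with ⟨-, rfl⟩ | ⟨B, -, rfl⟩ <;> omega
  let P : ℕ → Prop := fun μ => ∃ W W', IsPiece H W W' μ
  have h0 : P (2 * finrank (ZMod p) (⊥ : Submodule (ZMod p) V)) := ⟨⊥, ⊤, .inr ⟨0, trivial_piece, rfl⟩⟩
  obtain ⟨W, W', hW⟩ := Nat.findGreatest_spec (P := P) (hb _ _ _ (.inr ⟨0, trivial_piece, rfl⟩)) h0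
  refine ⟨W, W', _, hW, ?_⟩
  rintro ⟨A, A', m, hm, hA⟩
  exact absurd (Nat.le_findGreatest (P := P) (hb _ _ _ hA) ⟨A, A', hA⟩) (not_le.mpr hm)

end Cfsg.Agent.McLaughlinPiece
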