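import Cfsg.Prelude.Def_Solvable
import Cfsg.Prelude.Def_GeometricClasses
import Cfsg.Agent.Lib.BaerSuzuki
import Cfsg.Agent.Lib.TransvectionMax
import Cfsg.Agent.Lib.McLaughlinPiece

/-!
# Groups generated by transvections over a prime field with trivial `p`-core split into `SL` and `Sp` factors
-/

namespace Cfsg.Agent.McLaughlinSplit

open Module LinearMap McLaughlinPiece
open scoped Matrix

variable {p : ℕ} [Fact p.Prime] {V : Type*} [AddCommGroup V] [Module (ZMod p) V]

local notation "G" => V ≃ₗ[ZMod p] V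

/-- elements fixing `W'` pointwise and moving every vector inside `W` -/
def supp (W W' : Submodule (ZMod p) V) : Subgroup G where
  carrier := {g | (∀ y ∈ W', g y = y) ∧ ∀ x, g x - x ∈ W}
  one_mem' := ⟨fun y _ => rfl, fun x => by simp⟩
  mul_mem' {g h} hg hh := ⟨fun y hy => by rw [LinearEquiv.mul_apply, hh.1 y hy, hg.1 y hy], fun x => by
    rw [LinearEquiv.mul_apply, show g (h x) - x = (g (h x) - h x) + (h x - x) by abel]
    exact W.add_mem (hg.2 _) (hh.2 _)⟩
  inv_mem' {g} hg := by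
    have e : ∀ x, g ((g⁻¹ : G) x) = x := fun x => by rw [← LinearEquiv.mul_apply, mul_inv_cancel]; rfl
    refine ⟨fun y hy => ?_, fun x => ?_⟩
    · apply g.injective
      rw [e, hg.1 y hy]
    · rw [show (g⁻¹ : G) x - x = -(g ((g⁻¹ : G) x) - (g⁻¹ : G) x) by rw [e]; abel]
      exact W.neg_mem (hg.2 _)

lemma mem_supp {W W' : Submodule (ZMod p) V} {g : G} :
    g ∈ supp W W' ↔ (∀ y ∈ W', g y = y) ∧ ∀ x, g x - x ∈ W := Iff.rfl

lemma supp_maps {W W' : Submodule (ZMod p) V} {g : G} (hg : g ∈ supp W W') {w : V} (hw : w ∈ W) : g w ∈ W := by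
  have := W.add_mem (hg.2 w) hw
  rwa [sub_add_cancel] at this

lemma supp_commute {W W' : Submodule (ZMod p) V} (hc : IsCompl W W') {g h : G} (hg : g ∈ supp W W')
    (hh : h ∈ supp W' W) : g * h = h * g := by
  ext v
  obtain ⟨w, hw, y, hy, rfl⟩ := exists_vec hc v
  rw [LinearEquiv.mul_apply, LinearEquiv.mul_apply, map_add, map_add, map_add, map_add, hh.1 w hw, hg.1 y hy,
    hg.1 _ (supp_maps hh hy), hh.1 _ (supp_maps hg hw)]

lemma supp_inf {W W' : Submodule (ZMod p) V} (hc : IsCompl W W') {g : G} (hg : g ∈ supp W W')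
    (hh : g ∈ supp W' W) : g = 1 := by
  ext v
  obtain ⟨w, hw, y, hy, rfl⟩ := exists_vec hc v
  rw [map_add, hh.1 w hw, hg.1 y hy]
  rfl

lemma has_conj {H : Subgroup G} {a : V} {φ : V →ₗ[ZMod p] ZMod p} (h : Has H a φ) {g : G} (hg : g ∈ H) :
    Has H (g a) (φ.comp (g⁻¹ : G).toLinearMap) := by
  obtain ⟨h0, t, ht, e⟩ := h
  have e' : ∀ x, (g⁻¹ : G) (g x) = x := fun x => by rw [← LinearEquiv.mul_apply, inv_mul_cancel]; rfl
  refine ⟨by simp [e', h0], g * t * g⁻¹, H.mul_mem (H.mul_mem hg ht) (H.inv_mem hg), fun x => ?_⟩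
  rw [LinearEquiv.mul_apply, LinearEquiv.mul_apply, e, map_add, map_smul, ← LinearEquiv.mul_apply g g⁻¹,
    mul_inv_cancel]
  rfl

/-- the flag stabiliser used for one-sided pairs -/
def flag (a b : V) : Subgroup G :=
  supp (Submodule.span (ZMod p) {a} ⊔ Submodule.span (ZMod p) {b}) (Submodule.span (ZMod p) {b}) ⊓
    { carrier := {g | ∀ z ∈ Submodule.span (ZMod p) {a} ⊔ Submodule.span (ZMod p) {b},
        g z - z ∈ Submodule.span (ZMod p) {b}} ∩
          (supp (Submodule.span (ZMod p) {a} ⊔ Submodule.span (ZMod p) {b}) (⊥ : Submodule (ZMod p) V) : Set G)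
      one_mem' := ⟨fun z _ => by simp, Subgroup.one_mem _⟩
      mul_mem' := fun {g h} hg hh => ⟨fun z hz => by
        rw [LinearEquiv.mul_apply, show g (h z) - z = (g (h z) - h z) + (h z - z) by abel]
        exact Submodule.add_mem _ (hg.1 _ (supp_maps hh.2 hz)) (hh.1 z hz), Subgroup.mul_mem _ hg.2 hh.2⟩
      inv_mem' := fun {g} hg => ⟨fun z hz => by
        have e : g ((g⁻¹ : G) z) = z := by rw [← LinearEquiv.mul_apply, mul_inv_cancel]; rfl
        rw [show (g⁻¹ : G) z - z = -(g ((g⁻¹ : G) z) - (g⁻¹ : G) z) by rw [e]; abel]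
        exact Submodule.neg_mem _ (hg.1 _ (supp_maps (Subgroup.inv_mem _ hg.2) hz)), Subgroup.inv_mem _ hg.2⟩ }

lemma flag_pow (hp : Odd p) {a b : V} (ha : a ≠ 0) {g : G} (hg : g ∈ flag a b) : g ^ p = 1 := by
  have : Nontrivial V := ⟨a, 0, ha⟩
  have : CharP (Module.End (ZMod p) V) p :=
    charP_of_injective_algebraMap (algebraMap (ZMod p) (Module.End (ZMod p) V)).injective p
  obtain ⟨h1, h2, -⟩ := hg
  set N : Module.End (ZMod p) V := g.toLinearMap - 1 with hN
  have hN3 : N ^ 3 = 0 := by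
    ext x
    have e : ∀ v, N v = g v - v := fun v => rfl
    have hb := h2 _ (h1.2 x)
    rw [pow_succ, pow_two, Module.End.mul_apply, Module.End.mul_apply, LinearMap.zero_apply, e x, e, e,
      h1.1 _ hb, sub_self]
  have h3 : 3 ≤ p := by
    have := (Fact.out : p.Prime).two_le
    have : p ≠ 2 := fun e => Nat.not_odd_iff_even.mpr even_two (e ▸ hp)
    omega
  have hNp : N ^ p = 0 := pow_eq_zero_of_le h3 hN3
  have key : (g.toLinearMap : Module.End (ZMod p) V) ^ p = 1 := by
    rw [show g.toLinearMap = 1 + N from (add_sub_cancel _ _).symm, add_pow_char_of_commute p (Commute.one_left N),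
      one_pow, hNp, add_zero]
  apply LinearEquiv.toLinearMap_injective
  exact (map_pow (LinearEquiv.automorphismGroup.toLinearMapMonoidHom (R := ZMod p) (M := V)) g p).trans key

lemma flag_mem {a b : V} {φ β : V →ₗ[ZMod p] ZMod p} {t s : G} (ht : ∀ x, t x = x + φ x • a)
    (hs : ∀ x, s x = x + β x • b) (ha : φ a = 0) (hb : β b = 0) (hφb : φ b = 0) : t ∈ flag a b ∧ s ∈ flag a b := by
  have sa : a ∈ Submodule.span (ZMod p) {a} ⊔ Submodule.span (ZMod p) {b} :=
    Submodule.mem_sup_left (Submodule.mem_span_singleton_self a)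
  have sb : b ∈ Submodule.span (ZMod p) {a} ⊔ Submodule.span (ZMod p) {b} :=
    Submodule.mem_sup_right (Submodule.mem_span_singleton_self b)
  refine ⟨⟨⟨?_, ?_⟩, ?_, ?_, ?_⟩, ⟨⟨?_, ?_⟩, ?_, ?_, ?_⟩⟩
  · intro y hy
    obtain ⟨k, rfl⟩ := Submodule.mem_span_singleton.mp hy
    simp [ht, hφb]
  · intro x
    rw [ht, add_sub_cancel_left]
    exact Submodule.smul_mem _ _ sa
  · intro z hz
    obtain ⟨u, hu, v, hv, rfl⟩ := Submodule.mem_sup.mp hz
    obtain ⟨k, rfl⟩ := Submodule.mem_span_singleton.mp hu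
    obtain ⟨l, rfl⟩ := Submodule.mem_span_singleton.mp hv
    simp [ht, ha, hφb]
  · intro y hy
    simp [(Submodule.mem_bot (ZMod p)).mp hy]
  · intro x
    rw [ht, add_sub_cancel_left]
    exact Submodule.smul_mem _ _ sa
  · intro y hy
    obtain ⟨k, rfl⟩ := Submodule.mem_span_singleton.mp hy
    simp [hs, hb]
  · intro x
    rw [hs, add_sub_cancel_left]
    exact Submodule.smul_mem _ _ sb
  · intro z _
    rw [hs, add_sub_cancel_left]
    exact Submodule.smul_mem _ _ (Submodule.mem_span_singleton_self b)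
  · intro y hy
    simp [(Submodule.mem_bot (ZMod p)).mp hy]
  · intro x
    rw [hs, add_sub_cancel_left]
    exact Submodule.smul_mem _ _ sb

variable [Finite V]

/-- trivial `p`-core: every transvection has an opposite one -/
lemma opp_of_pCore (hp : Odd p) {H : Subgroup G} (hO : Cfsg.pCore p ↥H = ⊥) : Opp H := by
  intro a φ hHas ha hφ
  obtain ⟨h0, t, ht, et⟩ := id hHas
  have : Finite G := Finite.of_injective (fun g : G => (g : V → V)) DFunLike.coe_injective
  set X : Subgroup ↥H := Subgroup.zpowers ⟨t, ht⟩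
  have tp : t ^ p = 1 := flag_pow hp ha (flag_mem et et h0 h0 h0).1
  have hX : IsPGroup p X := by
    have e : (⟨t, ht⟩ : ↥H) ^ p = 1 := Subtype.ext (by simpa using tp)
    intro x
    obtain ⟨x, hx⟩ := x
    obtain ⟨i, rfl⟩ := Subgroup.mem_zpowers_iff.mp hx
    exact ⟨1, Subtype.ext (by
      simp only [pow_one, Subgroup.coe_pow, Subgroup.coe_one]
      rw [← zpow_natCast, ← zpow_mul, mul_comm, zpow_mul, zpow_natCast, e, one_zpow])⟩
  by_contra hno
  push Not at hno
  have hall : ∀ g : ↥H, IsPGroup p ↥(X ⊔ X.map (MulAut.conj g).toMonoidHom) := by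
    intro g
    set s : G := (g : G) * t * (g : G)⁻¹
    have hb := has_conj hHas g.2
    set b := (g : G) a
    set β := φ.comp ((g : G)⁻¹ : G).toLinearMap
    have es : ∀ x, s x = x + β x • b := by
      intro x
      simp only [s, LinearEquiv.mul_apply, et, map_add, map_smul]
      rw [← LinearEquiv.mul_apply (g : G) (g : G)⁻¹, mul_inv_cancel]
      rfl
    have hbase : ∀ (u v : V) (A : Subgroup G), t ∈ A → s ∈ A → A = flag u v → u ≠ 0 →
        IsPGroup p ↥(X ⊔ X.map (MulAut.conj g).toMonoidHom) := by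
      intro u v A htA hsA hA hu
      have hle : X ⊔ X.map (MulAut.conj g).toMonoidHom ≤ A.comap H.subtype := by
        refine sup_le (Subgroup.zpowers_le.mpr htA) ?_
        rw [MonoidHom.map_zpowers]
        exact Subgroup.zpowers_le.mpr hsA
      refine IsPGroup.to_le ?_ hle
      intro x
      refine ⟨1, Subtype.ext (Subtype.ext ?_)⟩
      rw [pow_one]
      exact flag_pow hp hu (show ((x : ↥H) : G) ∈ flag u v from hA.le x.2)
    have hb0 : b ≠ 0 := fun e => ha ((g : G).map_eq_zero_iff.mp e)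
    by_cases h1 : φ b = 0
    · exact hbase a b _ (flag_mem et es h0 hb.1 h1).1 (flag_mem et es h0 hb.1 h1).2 rfl ha
    · have h2 := hno b β hb h1
      exact hbase b a _ (flag_mem es et hb.1 h0 h2).2 (flag_mem es et hb.1 h0 h2).1 rfl hb0
  obtain ⟨N, hN, hNp, hXN⟩ := BaerSuzuki.exists_normal_pGroup_of_pairs X hX hall
  have h1 : (⟨t, ht⟩ : ↥H) ∈ Cfsg.pCore p ↥H :=
    (le_sSup (show N ∈ {N : Subgroup ↥H | N.Normal ∧ IsPGroup p N} from ⟨hN, hNp⟩))
      (hXN (Subgroup.mem_zpowers _))
  rw [hO, Subgroup.mem_bot] at h1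
  have ht1 : t = 1 := congrArg Subtype.val h1
  apply hφ
  ext x
  have := et x
  rw [ht1] at this
  have h2 : φ x • a = 0 := by simpa using this.symm
  exact (smul_eq_zero.mp h2).resolve_right ha

omit [Finite V] in
/-- a transvection of `H` inside the piece gives an element of `supp` -/
lemma mem_supp_of_act {W W' : Submodule (ZMod p) V} {a : V} {φ : V →ₗ[ZMod p] ZMod p} {t : G}
    (et : ∀ x, t x = x + φ x • a) (ha : a ∈ W) (hφ : W' ≤ ker φ) : t ∈ supp W W' :=
  ⟨fun y hy => by rw [et, show φ y = 0 from hφ hy, zero_smul, add_zero],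
    fun x => by rw [et, add_sub_cancel_left]; exact W.smul_mem _ ha⟩

/-- the group induced on a summand is everything of determinant one, or the isometry group of an alternating form -/
def IsClassical (W : Submodule (ZMod p) V) (L : Subgroup G) : Prop :=
  (∀ f : W ≃ₗ[ZMod p] W,
    (∃ k ∈ L, ∀ w : W, (f w : V) = k w) ↔ LinearMap.det (f : W →ₗ[ZMod p] W) = 1) ∨
  ∃ B : LinearMap.BilinForm (ZMod p) W, B.IsAlt ∧ B.Nondegenerate ∧
    ∀ f : W ≃ₗ[ZMod p] W, (∃ k ∈ L, ∀ w : W, (f w : V) = k w) ↔ ∀ x y, B (f x) (f y) = B x y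

/-- the restriction to an invariant summand -/
noncomputable def res {W W' : Submodule (ZMod p) V} : ↥(supp W W') →* (W ≃ₗ[ZMod p] W) where
  toFun k :=
    { toFun := fun w => ⟨(k : G) w, supp_maps k.2 w.2⟩
      map_add' := fun a b => Subtype.ext (map_add (k : G) (a : V) b)
      map_smul' := fun c a => Subtype.ext (map_smul (k : G) c (a : V))
      invFun := fun w => ⟨((k : G)⁻¹ : G) w, supp_maps (Subgroup.inv_mem _ k.2) w.2⟩
      left_inv := fun w => Subtype.ext (by
        show ((k : G)⁻¹ : G) ((k : G) w) = w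
        rw [← LinearEquiv.mul_apply, inv_mul_cancel]; rfl)
      right_inv := fun w => Subtype.ext (by
        show (k : G) (((k : G)⁻¹ : G) w) = w
        rw [← LinearEquiv.mul_apply, mul_inv_cancel]; rfl) }
  map_one' := by ext; rfl
  map_mul' a b := by ext; rfl

omit [Finite V] in
lemma res_apply {W W' : Submodule (ZMod p) V} (k : ↥(supp W W')) (w : W) :
    ((res k w : W) : V) = (k : G) w := rfl

/-- transvections of a piece give all of `SL` or `Sp` -/
lemma classical_of_piece {T : Set G} {W W' : Submodule (ZMod p) V} {μ : ℕ} {H : Subgroup G}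
    (hP : IsPiece H W W' μ) {L : Subgroup G} (hL : L = Subgroup.closure T) (hLs : L ≤ supp W W')
    (hmem : ∀ h ∈ H, h ∈ supp W W' → h ∈ L)
    (hT : ∀ t ∈ T, ∃ a φ, a ∈ W ∧ φ a = 0 ∧ (∀ x, t x = x + φ x • a) ∧
      ∀ B, SpP H W W' B → μ = 2 * finrank (ZMod p) W → ∃ k : ZMod p, φ = k • B a) :
    IsClassical W L := by
  classical
  let b := Module.finBasis (ZMod p) W
  let θ : GL (Fin (finrank (ZMod p) W)) (ZMod p) ≃* (W ≃ₗ[ZMod p] W) :=
    (Matrix.GeneralLinearGroup.toLin' b).trans (LinearMap.GeneralLinearGroup.generalLinearEquiv (ZMod p) W)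
  have hθ : ∀ g w, b.equivFun (θ g w) = (g : Matrix _ _ (ZMod p)) *ᵥ b.equivFun w := fun g w => by
    have h := Matrix.GeneralLinearGroup.toLin'_apply b g w
    rw [Fintype.linearCombination_apply] at h
    apply b.equivFun.symm.injective
    rw [LinearEquiv.symm_apply_apply, Basis.equivFun_symm_apply]
    exact h
  let M : Subgroup (W ≃ₗ[ZMod p] W) := (L.subgroupOf (supp W W')).map res
  have hM : ∀ f : W ≃ₗ[ZMod p] W, f ∈ M ↔ ∃ k ∈ L, ∀ w : W, (f w : V) = k w := by
    intro f
    constructor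
    · rintro ⟨k, hk, rfl⟩
      exact ⟨k, hk, fun w => res_apply k w⟩
    · rintro ⟨k, hk, e⟩
      exact ⟨⟨k, hLs hk⟩, hk, LinearEquiv.ext fun w => Subtype.ext (e w).symm⟩
  have gens : ∀ (P : (W ≃ₗ[ZMod p] W) → Prop), P 1 → (∀ f g, P f → P g → P (f * g)) → (∀ f, P f → P f⁻¹) →
      (∀ (f : W ≃ₗ[ZMod p] W) (a : W) (φ : V →ₗ[ZMod p] ZMod p), φ a = 0 →
        (∀ w : W, f w = w + φ (w : V) • a) →
        (∀ B, SpP H W W' B → μ = 2 * finrank (ZMod p) W → ∃ k : ZMod p, φ = k • B (a : V)) → P f) →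
      ∀ f ∈ M, P f := by
    intro P h1 hmul hinv hgen
    rintro f ⟨⟨k, hks⟩, hk, rfl⟩
    have hk' : k ∈ Subgroup.closure T := hL ▸ hk
    have : ∀ k, k ∈ Subgroup.closure T → ∃ h : k ∈ supp W W', P (res ⟨k, h⟩) := by
      intro k hk
      induction hk using Subgroup.closure_induction with
      | mem t ht =>
        obtain ⟨a, φ, ha, hφa, et, hB⟩ := hT t ht
        refine ⟨hLs (hL ▸ Subgroup.subset_closure ht), hgen _ ⟨a, ha⟩ φ hφa (fun w => Subtype.ext ?_) hB⟩
        rw [res_apply]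
        exact et w
      | one =>
        refine ⟨Subgroup.one_mem _, ?_⟩
        rw [show (⟨1, Subgroup.one_mem _⟩ : ↥(supp W W')) = 1 from rfl, map_one]
        exact h1
      | mul x y _ _ hx hy =>
        obtain ⟨hxs, hx⟩ := hx
        obtain ⟨hys, hy⟩ := hy
        refine ⟨Subgroup.mul_mem _ hxs hys, ?_⟩
        rw [show (⟨x * y, Subgroup.mul_mem _ hxs hys⟩ : ↥(supp W W')) = ⟨x, hxs⟩ * ⟨y, hys⟩ from rfl, map_mul]
        exact hmul _ _ hx hy
      | inv x _ hx =>
        obtain ⟨hxs, hx⟩ := hx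
        refine ⟨Subgroup.inv_mem _ hxs, ?_⟩
        rw [show (⟨x⁻¹, Subgroup.inv_mem _ hxs⟩ : ↥(supp W W')) = (⟨x, hxs⟩ : ↥(supp W W'))⁻¹ from rfl, map_inv]
        exact hinv _ hx
    exact (this k hk').2
  have hc : IsCompl W W' := by rcases hP with ⟨S, -⟩ | ⟨B, S, -⟩ <;> exact S.compl
  let π : V →ₗ[ZMod p] W := Submodule.projectionOnto W W' hc
  have hπ : ∀ w : W, π w = w := fun w => Submodule.projectionOnto_apply_left hc w
  have hπ' : ∀ y ∈ W', π y = 0 := fun y hy => (Submodule.projectionOnto_apply_eq_zero_iff hc).mpr hy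
  have lift : ∀ (a : W) (φ : V →ₗ[ZMod p] ZMod p), W' ≤ ker φ → Has H (a : V) φ →
      ∀ f : W ≃ₗ[ZMod p] W, (∀ w : W, (f w : V) = w + φ w • (a : V)) → f ∈ M := by
    intro a φ hφ hh f hf
    obtain ⟨-, h, hhH, e⟩ := hh
    exact (hM f).mpr ⟨h, hmem h hhH (mem_supp_of_act e a.2 hφ), fun w => by rw [hf, e]⟩
  rcases hP with ⟨S, hμ⟩ | ⟨B, S, hμ⟩
  · left
    intro f
    rw [← hM]
    constructor
    · intro hf
      refine gens (fun f => LinearMap.det (f : W →ₗ[ZMod p] W) = 1) LinearMap.det_id (fun f g hf hg => ?_)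
        (fun f hf => ?_) (fun f a φ hφa hf _ => ?_) f hf
      · show LinearMap.det ((f : W →ₗ[ZMod p] W) * (g : W →ₗ[ZMod p] W)) = 1
        rw [map_mul, hf, hg, one_mul]
      · have : LinearMap.det ((f⁻¹ : W ≃ₗ[ZMod p] W) : W →ₗ[ZMod p] W) * LinearMap.det (f : W →ₗ[ZMod p] W) = 1 := by
          rw [← map_mul]
          convert LinearMap.det_id (A := ZMod p) (M := W)
          ext w
          show (((f⁻¹ * f : W ≃ₗ[ZMod p] W) w : W) : V) = w
          rw [inv_mul_cancel]
          rfl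
        rwa [hf, mul_one] at this
      · have hg : θ.symm f = TransvectionMax.tv (b.equivFun a) (fun i => φ (b i : W)) := by
          have hdot : ∀ w : W, (fun i => φ (b i : V)) ⬝ᵥ b.equivFun w = φ w := by
            intro w
            show (fun i => φ.comp W.subtype (b i)) ⬝ᵥ b.equivFun w = φ.comp W.subtype w
            conv_rhs => rw [← b.sum_equivFun w]
            rw [map_sum, dotProduct]
            exact Finset.sum_congr rfl fun i _ => by rw [map_smul, smul_eq_mul, mul_comm]
          refine TransvectionMax.tv_eq_of_act (by rw [hdot]; exact hφa) fun x => ?_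
          obtain ⟨w, rfl⟩ := b.equivFun.surjective x
          rw [← hθ, MulEquiv.apply_symm_apply, hf, map_add, map_smul, hdot]
        have hdet := TransvectionMax.tv_det (b.equivFun a) (fun i => φ (b i : W))
        rw [← hg] at hdet
        have e : (f : W →ₗ[ZMod p] W) = Matrix.toLin b b (θ.symm f : Matrix _ _ (ZMod p)) := by
          apply LinearMap.ext
          intro w
          apply b.equivFun.injective
          conv_lhs => rw [show (f : W →ₗ[ZMod p] W) w = θ (θ.symm f) w by rw [MulEquiv.apply_symm_apply]; rfl, hθ]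
          simp [Matrix.toLin_apply, Basis.equivFun_apply, map_sum, Finsupp.coe_finset_sum]
          ext i
          simp [Finsupp.single_apply]
        rw [e, LinearMap.det_toLin]
        exact congrArg Units.val hdet
    · intro hdet
      have hsl : Cfsg.Geo.specialLinear (Fin (finrank (ZMod p) W)) (ZMod p) ≤ M.comap θ.toMonoidHom := by
        refine TransvectionMax.specialLinear_le fun v φ hφv => ?_
        rw [Subgroup.mem_comap]
        set a := b.equivFun.symm v with hadef
        set ψ : V →ₗ[ZMod p] ZMod p := (∑ i, φ i • LinearMap.proj i) ∘ₗ b.equivFun.toLinearMap ∘ₗ π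
        have hψ : ∀ w : W, ψ w = φ ⬝ᵥ b.equivFun w := fun w => by
          simp [ψ, hπ, dotProduct]
        have hψ' : W' ≤ ker ψ := fun y hy => by simp [ψ, hπ' y hy]
        refine lift a ψ hψ' (S.has a a.2 ψ hψ' ?_) _ (fun w => ?_)
        · rw [hψ, hadef, LinearEquiv.apply_symm_apply, hφv]
        · rw [← Submodule.coe_smul, ← Submodule.coe_add]
          congr 1
          apply b.equivFun.injective
          rw [show θ.toMonoidHom (TransvectionMax.tv v φ) w = θ (TransvectionMax.tv v φ) w from rfl, hθ,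
            TransvectionMax.tv_act hφv, map_add, map_smul, hψ, hadef, LinearEquiv.apply_symm_apply]
      have hmem' : θ.symm f ∈ Cfsg.Geo.specialLinear (Fin (finrank (ZMod p) W)) (ZMod p) := by
        rw [Cfsg.Geo.specialLinear, MonoidHom.mem_ker]
        apply Units.ext
        have e : (θ.symm f : Matrix _ _ (ZMod p)) = LinearMap.toMatrix b b (f : W →ₗ[ZMod p] W) := by
          apply Matrix.ext_iff_mulVec.mpr
          intro x
          obtain ⟨w, rfl⟩ := b.equivFun.surjective x
          rw [← hθ, MulEquiv.apply_symm_apply, Basis.equivFun_apply, Basis.equivFun_apply,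
            LinearMap.toMatrix_mulVec_repr]
          rfl
        show (θ.symm f).val.det = 1
        rw [e, LinearMap.det_toMatrix, hdet]
      have := hsl hmem'
      rwa [Subgroup.mem_comap, MulEquiv.toMonoidHom_eq_coe, MonoidHom.coe_coe, MulEquiv.apply_symm_apply] at this
  · right
    let BW : LinearMap.BilinForm (ZMod p) W := (B.domRestrict₁₂ W W)
    have hBW : ∀ x y : W, BW x y = B (x : V) (y : V) := fun x y => rfl
    have halt : BW.IsAlt := fun x => S.alt x
    refine ⟨BW, halt, (LinearMap.IsAlt.isRefl halt).nondegenerate_iff_separatingLeft.mpr ?_, fun f => ?_⟩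
    · intro x hx
      by_contra hne
      obtain ⟨u, hu, h⟩ := S.nondeg x x.2 (fun e => hne (Subtype.ext e))
      exact h (hx ⟨u, hu⟩)
    rw [← hM]
    constructor
    · intro hf
      refine gens (fun f => ∀ x y, BW (f x) (f y) = BW x y) (fun x y => rfl) (fun f g hf hg x y => ?_)
        (fun f hf x y => ?_) (fun f a φ hφa hf hB x y => ?_) f hf
      · rw [LinearEquiv.mul_apply, LinearEquiv.mul_apply, hf, hg]
      · rw [← hf ((f⁻¹ : W ≃ₗ[ZMod p] W) x) ((f⁻¹ : W ≃ₗ[ZMod p] W) y), ← LinearEquiv.mul_apply,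
          ← LinearEquiv.mul_apply, mul_inv_cancel]
        rfl
      · obtain ⟨k, hk⟩ := hB B S hμ
        subst hk
        simp only [hf, hBW, Submodule.coe_add, Submodule.coe_smul, map_add, map_smul, LinearMap.add_apply,
          LinearMap.smul_apply, S.alt, smul_eq_mul, mul_zero, add_zero]
        rw [S.skew (x : V) (a : V)]
        ring
    · intro hf
      set f₂ : (Fin (finrank (ZMod p) W) → ZMod p) → (Fin (finrank (ZMod p) W) → ZMod p) → ZMod p :=
        fun u v => BW (b.equivFun.symm u) (b.equivFun.symm v) with hf2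
      have hsymp : Cfsg.Geo.IsSymplecticForm f₂ := by
        refine ⟨⟨fun x y v => by simp only [hf2, map_add, LinearMap.add_apply],
          fun c x v => by simp only [hf2, map_smul, LinearMap.smul_apply, smul_eq_mul],
          fun v x y => by simp only [hf2, map_add],
          fun c v x => by simp only [hf2, map_smul, smul_eq_mul]⟩, fun v w => by simp only [hf2, hBW]; exact S.skew _ _,
          fun v => halt _, fun v hv => ?_⟩
        have hne : b.equivFun.symm v ≠ 0 := fun e => hv (b.equivFun.symm.map_eq_zero_iff.mp e)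
        obtain ⟨u, hu, h⟩ := S.nondeg _ (b.equivFun.symm v).2 (fun e => hne (Subtype.ext e))
        refine ⟨⟨b.equivFun ⟨u, hu⟩, ?_⟩, ⟨b.equivFun ⟨u, hu⟩, ?_⟩⟩
        · simp only [hf2, LinearEquiv.symm_apply_apply, hBW]
          rw [S.skew]
          exact neg_ne_zero.mpr h
        · simp only [hf2, LinearEquiv.symm_apply_apply, hBW]
          exact h
      have hall : ∀ u c, TransvectionMax.st f₂ u c ∈ M.comap θ.toMonoidHom := by
        intro u c
        rw [Subgroup.mem_comap]
        set a := b.equivFun.symm u with hadef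
        refine lift a ((-c) • B (a : V)) (fun y hy => by simp [S.right _ y hy]) ((S.has a a.2).smul_right (-c)) _
          (fun w => ?_)
        rw [LinearMap.smul_apply, smul_eq_mul, ← Submodule.coe_smul, ← Submodule.coe_add]
        congr 1
        apply b.equivFun.injective
        rw [show θ.toMonoidHom (TransvectionMax.st f₂ u c) w = θ (TransvectionMax.st f₂ u c) w from rfl, hθ,
          TransvectionMax.st_act hsymp, map_add, map_smul, hadef, LinearEquiv.apply_symm_apply, hf2]
        simp only [LinearEquiv.symm_apply_apply, hBW]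
        rw [S.skew (w : V)]
        congr 2
        ring
      have := TransvectionMax.isometry_mem hsymp hall (θ.symm f) (fun x y => by
        obtain ⟨w, rfl⟩ := b.equivFun.surjective x
        obtain ⟨w', rfl⟩ := b.equivFun.surjective y
        rw [← hθ, ← hθ, MulEquiv.apply_symm_apply]
        simp only [hf2, LinearEquiv.symm_apply_apply]
        exact hf w w')
      rwa [Subgroup.mem_comap, MulEquiv.toMonoidHom_eq_coe, MonoidHom.coe_coe, MulEquiv.apply_symm_apply] at this

/-- a decomposition into classical factors -/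
structure Dec (H : Subgroup G) {n : ℕ} (W W' : Fin n → Submodule (ZMod p) V) (L : Fin n → Subgroup G) : Prop where
  compl : ∀ j, IsCompl (W j) (W' j)
  sep : ∀ i j, i ≠ j → W i ≤ W' j
  le : ∀ j, L j ≤ supp (W j) (W' j)
  gen : ⨆ j, L j = H
  fixedMem : ∀ j v, (∀ h ∈ H, h v = v) → v ∈ W' j
  moveMem : ∀ U : Submodule (ZMod p) V, (∀ h ∈ H, ∀ x, h x - x ∈ U) → ∀ j, W j ≤ U
  classical : ∀ j, IsClassical (W j) (L j)

/-- transvections -/
def IsTv (t : G) : Prop :=
  ∃ (a : V) (φ : V →ₗ[ZMod p] ZMod p), a ≠ 0 ∧ φ ≠ 0 ∧ φ a = 0 ∧ ∀ x, t x = x + φ x • a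

/-- the decomposition exists -/
theorem exists_dec (hp : Odd p) (T : Set G) (hT : ∀ t ∈ T, IsTv t)
    (hO : Cfsg.pCore p ↥(Subgroup.closure T) = ⊥) :
    ∃ n, 1 ≤ n ∧ ∃ (W W' : Fin n → Submodule (ZMod p) V) (L : Fin n → Subgroup G),
      Dec (Subgroup.closure T) W W' L := by
  have : Finite G := Finite.of_injective (fun g : G => (g : V → V)) DFunLike.coe_injective
  induction hm : T.ncard using Nat.strong_induction_on generalizing T with
  | _ m ih => ?_
  by_cases hTe : T = ∅
  · subst hTe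
    refine ⟨1, le_rfl, fun _ => ⊥, fun _ => ⊤, fun _ => ⊥, fun _ => isCompl_bot_top,
      fun i j hij => absurd (Subsingleton.elim i j) hij, fun _ => bot_le, by simp, fun _ v _ => Submodule.mem_top,
      fun U _ _ => bot_le, fun _ => .inl fun f => ?_⟩
    have : Subsingleton (⊥ : Submodule (ZMod p) V) := by infer_instance
    have e : (f : (⊥ : Submodule (ZMod p) V) →ₗ[ZMod p] _) = LinearMap.id := LinearMap.ext fun x => Subsingleton.elim _ _
    rw [e, LinearMap.det_id]
    simp only [iff_true]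
    exact ⟨1, Subgroup.one_mem _, fun w => by rw [Subsingleton.elim (f w) w]; rfl⟩
  set H := Subgroup.closure T with hH
  have hopp : Opp H := opp_of_pCore hp hO
  have h2 : (2 : ZMod p) ≠ 0 := by
    intro h
    have h' : ((2 : ℕ) : ZMod p) = 0 := by exact_mod_cast h
    rw [ZMod.natCast_eq_zero_iff] at h'
    have := Nat.le_of_dvd (by norm_num) h'
    obtain ⟨k, hk⟩ := hp
    have := (Fact.out : p.Prime).two_le
    omega
  have hasT : ∀ t ∈ T, ∃ (a : V) (φ : V →ₗ[ZMod p] ZMod p),
      a ≠ 0 ∧ φ ≠ 0 ∧ Has H a φ ∧ ∀ x, t x = x + φ x • a := fun t ht => by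
    obtain ⟨a, φ, ha, hφ, h0, et⟩ := hT t ht
    exact ⟨a, φ, ha, hφ, ⟨h0, t, Subgroup.subset_closure ht, et⟩, et⟩
  obtain ⟨W, W', μ, hP, hmax⟩ := exists_maximal (H := H)
  obtain ⟨t₀, ht₀⟩ := Set.nonempty_iff_ne_empty.mpr hTe
  have hW : W ≠ ⊥ := by
    intro hbot
    obtain ⟨a, φ, ha, hφ, hh, -⟩ := hasT t₀ ht₀
    obtain ⟨A, A', ν, hν, hA⟩ := grow_bot hopp hh ha hφ
    have h0 : finrank (ZMod p) W = 0 := by rw [hbot]; simp
    have : finrank (ZMod p) (⊥ : Submodule (ZMod p) V) = 0 := by simp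
    rcases hP with ⟨S, rfl⟩ | ⟨B, S, rfl⟩
    · have := S.three; omega
    · exact hmax ⟨A, A', ν, by omega, hA⟩
  have hc : IsCompl W W' := by rcases hP with ⟨S, -⟩ | ⟨B, S, -⟩ <;> exact S.compl
  let Tin := {t ∈ T | t ∈ supp W W'}
  let Tout := {t ∈ T | t ∈ supp W' W}
  have split : ∀ t ∈ T, t ∈ Tout ∨ (t ∈ Tin ∧ ∃ (a : V) (φ : V →ₗ[ZMod p] ZMod p), a ∈ W ∧ φ a = 0 ∧
      (∀ x, t x = x + φ x • a) ∧
      ∀ B, SpP H W W' B → μ = 2 * finrank (ZMod p) W → ∃ k : ZMod p, φ = k • B a) := by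
    intro t ht
    obtain ⟨a, φ, ha, hφ, hh, et⟩ := hasT t ht
    rcases hP with ⟨S, hμ⟩ | ⟨B, S, hμ⟩
    · rcases S.classify hopp hh ha hφ with h | ⟨h1, h2⟩ | ⟨h1, h2⟩
      · exact absurd (hμ ▸ h) hmax
      · exact .inr ⟨⟨ht, mem_supp_of_act et h1 h2⟩, a, φ, h1, hh.1, et, fun B _ e => by omega⟩
      · exact .inl ⟨ht, mem_supp_of_act et h1 h2⟩
    · have h3 : ∀ B', SpP H W W' B' →
          Grow H μ ∨ (a ∈ W ∧ ∃ k : ZMod p, φ = k • B' a) ∨ (a ∈ W' ∧ W ≤ ker φ) :=
        fun B' S' => hμ ▸ S'.classify hopp h2 hW hh ha hφ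
      rcases h3 B S with h | ⟨h1, k, hk⟩ | ⟨h1, h2⟩
      · exact absurd h hmax
      · refine .inr ⟨⟨ht, mem_supp_of_act et h1 (hk ▸ fun y hy => by simp [S.right a y hy])⟩,
          a, φ, h1, hh.1, et, fun B' S' _ => ?_⟩
        rcases h3 B' S' with h | ⟨-, hk'⟩ | ⟨h1', -⟩
        · exact absurd h hmax
        · exact hk'
        · exact absurd (Submodule.disjoint_def.mp hc.disjoint a h1 h1') ha
      · exact .inl ⟨ht, mem_supp_of_act et h1 h2⟩
  set L := Subgroup.closure Tin with hLdef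
  set H' := Subgroup.closure Tout with hH'def
  have hLs : L ≤ supp W W' := (Subgroup.closure_le _).mpr fun t ht => ht.2
  have hH's : H' ≤ supp W' W := (Subgroup.closure_le _).mpr fun t ht => ht.2
  have hLH : L ≤ H := Subgroup.closure_mono fun t ht => ht.1
  have hH'H : H' ≤ H := Subgroup.closure_mono fun t ht => ht.1
  have hprod : ∀ h ∈ H, ∃ k ∈ L, ∃ h' ∈ H', h = k * h' := by
    intro h hh
    induction hh using Subgroup.closure_induction with
    | mem t ht =>
      rcases split t ht with h | ⟨h, -⟩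
      · exact ⟨1, Subgroup.one_mem _, t, Subgroup.subset_closure h, (one_mul t).symm⟩
      · exact ⟨t, Subgroup.subset_closure h, 1, Subgroup.one_mem _, (mul_one t).symm⟩
    | one => exact ⟨1, Subgroup.one_mem _, 1, Subgroup.one_mem _, (mul_one 1).symm⟩
    | mul x y _ _ hx hy =>
      obtain ⟨k, hk, u, hu, rfl⟩ := hx
      obtain ⟨l, hl, v, hv, rfl⟩ := hy
      refine ⟨k * l, Subgroup.mul_mem _ hk hl, u * v, Subgroup.mul_mem _ hu hv, ?_⟩
      rw [mul_assoc, ← mul_assoc u, ← supp_commute hc (hLs hl) (hH's hu)]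
      group
    | inv x _ hx =>
      obtain ⟨k, hk, u, hu, rfl⟩ := hx
      refine ⟨k⁻¹, Subgroup.inv_mem _ hk, u⁻¹, Subgroup.inv_mem _ hu, ?_⟩
      rw [mul_inv_rev, supp_commute hc (hLs (Subgroup.inv_mem _ hk)) (hH's (Subgroup.inv_mem _ hu))]
  have hmem : ∀ h ∈ H, h ∈ supp W W' → h ∈ L := by
    intro h hh hs
    obtain ⟨k, hk, u, hu, rfl⟩ := hprod h hh
    have hu1 : u = 1 := supp_inf hc
      (by simpa using Subgroup.mul_mem _ (Subgroup.inv_mem _ (hLs hk)) hs) (hH's hu)
    rw [hu1, mul_one]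
    exact hk
  have hclass : IsClassical W L := classical_of_piece hP rfl hLs hmem fun t ht => by
    rcases split t ht.1 with h | ⟨-, h⟩
    · exfalso
      obtain ⟨a, φ, ha, hφ, hh, et⟩ := hasT t ht.1
      have h1 := supp_inf hc ht.2 h.2
      exact hφ (LinearMap.ext fun x => (smul_eq_zero.mp (by simpa [h1] using (et x).symm :
        φ x • a = 0)).resolve_right ha)
    · exact h
  -- a vector fixed by `L` lies in `W'`, and the moves of `L` span `W`
  have hnd : ∀ w ∈ W, w ≠ 0 →
      (∃ (a : V) (φ : V →ₗ[ZMod p] ZMod p), a ∈ W ∧ W' ≤ ker φ ∧ φ w ≠ 0 ∧ a ≠ 0 ∧ Has H a φ) ∧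
      (∃ (φ : V →ₗ[ZMod p] ZMod p) (z : V), W' ≤ ker φ ∧ φ z ≠ 0 ∧ Has H w φ) := by
    intro w hw hw0
    rcases hP with ⟨S, -⟩ | ⟨B, S, -⟩
    · obtain ⟨e, he, hesp⟩ := S.not_le_span_pair w w
      have hle : Submodule.span (ZMod p) (Set.range ![w, w]) ≤ W := by
        rw [Submodule.span_le]; rintro z ⟨i, rfl⟩; fin_cases i <;> exact hw
      obtain ⟨μ', hμ', hμs, hμe⟩ := exists_separating hc hle he hesp
      have hwe : w ∉ Submodule.span (ZMod p) {e} := fun h => by
        obtain ⟨k, rfl⟩ := Submodule.mem_span_singleton.mp h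
        have h' := Submodule.smul_mem (Submodule.span (ZMod p) (Set.range ![k • e, k • e])) k⁻¹
          (Submodule.subset_span ⟨0, rfl⟩)
        exact hesp (by simpa [inv_smul_smul₀ (left_ne_zero_of_smul hw0)] using h')
      obtain ⟨ν, hν', hνe, hνw⟩ := exists_separating hc ((Submodule.span_singleton_le_iff_mem _ _).mpr he) hw hwe
      exact ⟨⟨e, ν, he, hν', hνw, fun h => hesp (h ▸ Submodule.zero_mem _),
          S.has e he ν hν' (hνe (Submodule.mem_span_singleton_self e))⟩,
        ⟨μ', e, hμ', hμe, S.has w hw μ' hμ' (hμs (Submodule.subset_span ⟨0, rfl⟩))⟩⟩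
    · obtain ⟨u, hu, hne⟩ := S.nondeg w hw hw0
      refine ⟨⟨u, B u, hu, S.ker_right u, by rw [S.skew]; exact neg_ne_zero.mpr hne,
        fun e => hne (by rw [e, map_zero]), S.has u hu⟩, ⟨B w, u, S.ker_right w, hne, S.has w hw⟩⟩
  have hTin : Tin.Nonempty := by
    by_contra hem
    rw [Set.not_nonempty_iff_eq_empty] at hem
    obtain ⟨w, hw, hw0⟩ := Submodule.exists_mem_ne_zero_of_ne_bot hW
    obtain ⟨-, φ, z, hφ', hφz, -, h, hh, e⟩ := hnd w hw hw0
    have := hmem h hh (mem_supp_of_act e hw hφ')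
    rw [hLdef, hem, Subgroup.closure_empty, Subgroup.mem_bot] at this
    exact smul_ne_zero hφz hw0 (by simpa [this] using (e z).symm)
  have hlt : Tout.ncard < m := by
    rw [← hm]
    obtain ⟨t, ht⟩ := hTin
    refine Set.ncard_lt_ncard ⟨fun x hx => hx.1, fun hsub => ?_⟩ (Set.toFinite T)
    obtain ⟨a, φ, ha, hφ, hh, et⟩ := hasT t ht.1
    have h1 := supp_inf hc ht.2 (hsub ht.1).2
    exact hφ (LinearMap.ext fun x => (smul_eq_zero.mp (by simpa [h1] using (et x).symm :
      φ x • a = 0)).resolve_right ha)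
  have hO' : Cfsg.pCore p ↥H' = ⊥ := by
    rw [eq_bot_iff]
    refine sSup_le ?_
    rintro N ⟨hN, hNp⟩
    let N₁ : Subgroup G := N.map H'.subtype
    have hN₁ : (N₁.subgroupOf H).Normal := by
      constructor
      intro x hx g
      rw [Subgroup.mem_subgroupOf] at hx ⊢
      obtain ⟨y, hy, e⟩ := hx
      obtain ⟨k, hk, u, hu, eg⟩ := hprod g g.2
      refine ⟨(⟨u, hu⟩ : ↥H') * y * (⟨u, hu⟩ : ↥H')⁻¹, hN.conj_mem y hy _, ?_⟩
      simp only [Subgroup.coe_mul, Subgroup.coe_inv, ← e]
      rw [show (g : G) = k * u from eg]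
      have hc' := supp_commute hc (hLs hk) (hH's (H'.mul_mem (H'.mul_mem hu y.2) (H'.inv_mem hu)))
      show u * (y : G) * u⁻¹ = k * u * (y : G) * (k * u)⁻¹
      calc u * (y : G) * u⁻¹ = k * (u * (y : G) * u⁻¹) * k⁻¹ := by rw [hc', mul_inv_cancel_right]
        _ = _ := by group
    have hN₁p : IsPGroup p ↥(N₁.subgroupOf H) :=
      (hNp.map _).of_equiv (Subgroup.subgroupOfEquivOfLe ((Subgroup.map_subtype_le N).trans hH'H)).symm
    have h := (le_sSup (show N₁.subgroupOf H ∈ {M : Subgroup ↥H | M.Normal ∧ IsPGroup p M} from ⟨hN₁, hN₁p⟩)).trans_eq hO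
    intro y hy
    have hy1 := h (show (⟨(y : G), hH'H y.2⟩ : ↥H) ∈ N₁.subgroupOf H from ⟨y, hy, rfl⟩)
    rw [Subgroup.mem_bot] at hy1 ⊢
    exact Subtype.ext (by simpa using congrArg (fun z : ↥H => (z : G)) hy1)
  obtain ⟨n, hn, A, A', L', D⟩ := ih _ hlt Tout (fun t ht => hT t ht.1) hO' rfl
  have hAW' : ∀ j, A j ≤ W' := D.moveMem W' fun h hh x => (hH's hh).2 x
  have hWA' : ∀ j, W ≤ A' j := fun j w hw => D.fixedMem j w fun h hh => (hH's hh).1 w hw
  refine ⟨n + 1, by omega, Fin.cons W A, Fin.cons W' A', Fin.cons L L', ?_, ?_, ?_, ?_, ?_, ?_, ?_⟩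
  · intro j
    induction j using Fin.cases with
    | zero => simpa using hc
    | succ i => simpa using D.compl i
  · intro i j hij
    induction i using Fin.cases with
    | zero =>
      induction j using Fin.cases with
      | zero => exact absurd rfl hij
      | succ j => simpa using hWA' j
    | succ i =>
      induction j using Fin.cases with
      | zero => simpa using hAW' i
      | succ j => simpa using D.sep i j (fun e => hij (by rw [e]))
  · intro j
    induction j using Fin.cases with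
    | zero => simpa using hLs
    | succ i => simpa using D.le i
  · apply le_antisymm
    · refine iSup_le fun j => ?_
      induction j using Fin.cases with
      | zero => simpa using hLH
      | succ i => simpa using ((le_iSup L' i).trans D.gen.le).trans hH'H
    · intro h hh
      obtain ⟨k, hk, u, hu, rfl⟩ := hprod h hh
      refine Subgroup.mul_mem _ (Subgroup.mem_iSup_of_mem 0 (by simpa using hk)) ?_
      have h1 : H' ≤ ⨆ j, (Fin.cons L L' : Fin (n + 1) → Subgroup G) j := D.gen.symm.le.trans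
        (iSup_le fun i => le_trans (by simp) (le_iSup (Fin.cons L L' : Fin (n + 1) → Subgroup G) i.succ))
      exact h1 hu
  · intro j v hv
    induction j using Fin.cases with
    | succ i => simpa using D.fixedMem i v fun h hh => hv h (hH'H hh)
    | zero =>
      obtain ⟨w, hw, y, hy, rfl⟩ := exists_vec hc v
      by_contra hnot
      have hw0 : w ≠ 0 := fun e => hnot (by simpa [e] using hy)
      obtain ⟨⟨a, φ, ha, hφ', hφw, ha0, -, h, hh, e⟩, -⟩ := hnd w hw hw0
      have := hv h hh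
      rw [e, map_add, show φ y = 0 from hφ' hy, add_zero] at this
      exact smul_ne_zero hφw ha0 (by simpa using this)
  · intro U hU j
    induction j using Fin.cases with
    | succ i => simpa using D.moveMem U (fun h hh => hU h (hH'H hh)) i
    | zero =>
      intro w hw
      simp only [Fin.cons_zero] at hw
      by_cases hw0 : w = 0
      · rw [hw0]; exact U.zero_mem
      obtain ⟨-, φ, z, -, hφz, -, h, hh, e⟩ := hnd w hw hw0
      have := U.smul_mem (φ z)⁻¹ (hU h hh z)
      rwa [e, add_sub_cancel_left, inv_smul_smul₀ hφz] at this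
  · intro j
    induction j using Fin.cases with
    | zero => simpa using hclass
    | succ i => simpa using D.classical i

end Cfsg.Agent.McLaughlinSplit
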