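import Mathlib
import Cfsg.Agent.Lib.CyclicSeries
import Cfsg.Agent.Lib.PGroupsBasic
import Cfsg.Prelude.Def_OddOrderLocal

/-!
A metacyclic `p`-group is cyclic, has a characteristic maximal subgroup with cyclic factor over the
Frattini subgroup, is homocyclic of rank two, or is the quaternion group of order eight.
-/

set_option autoImplicit false
set_option linter.style.haveILetI false

open Cfsg
open scoped commutatorElement

namespace Cfsg.Agent.MetacyclicAutCases

variable {S : Type*} [Group S]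

/-- A characteristic subgroup `M` above the Frattini subgroup with cyclic factors on both sides. -/
def HasCharLine (S : Type*) [Group S] : Prop :=
  ∃ M : Subgroup S, frattini S ≤ M ∧ (∀ φ : MulAut S, ∀ x ∈ M, φ x ∈ M) ∧
    (∃ x, M = frattini S ⊔ Subgroup.zpowers x) ∧ ∃ y, M ⊔ Subgroup.zpowers y = ⊤

theorem mul_pow_central {g h c : S} (hc : ∀ x : S, x * c = c * x) (hgh : h * g = c * (g * h))
    (m : ℕ) : (g * h) ^ m = c ^ m.choose 2 * (g ^ m * h ^ m) := by
  have hcp : ∀ (k : ℕ) (x : S), x * c ^ k = c ^ k * x := fun k x =>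
    (Commute.pow_right (hc x) k).eq
  have hmove : ∀ k : ℕ, h ^ k * g = c ^ k * (g * h ^ k) := by
    intro k
    induction k with
    | zero => simp
    | succ k ih =>
      rw [pow_succ', mul_assoc, ih, ← mul_assoc, hcp k h, mul_assoc, ← mul_assoc h g, hgh]
      simp only [pow_succ, mul_assoc]
  induction m with
  | zero => simp
  | succ m ih =>
    rw [pow_succ, ih, Nat.choose_succ_succ', Nat.choose_one_right, Nat.add_comm m, pow_add, pow_succ' g,
      pow_succ' h]
    have e1 : g ^ m * h ^ m * (g * h) = c ^ m * (g ^ m * g * (h ^ m * h)) := by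
      calc g ^ m * h ^ m * (g * h) = g ^ m * (h ^ m * g) * h := by group
        _ = g ^ m * c ^ m * (g * h ^ m) * h := by rw [hmove]; group
        _ = c ^ m * g ^ m * (g * h ^ m) * h := by rw [hcp m (g ^ m)]
        _ = c ^ m * (g ^ m * g * (h ^ m * h)) := by group
    rw [mul_assoc, e1, ← pow_succ, ← pow_succ, pow_succ' g, pow_succ' h, ← mul_assoc, ← mul_assoc,
      mul_assoc, ← pow_add, Nat.add_comm (m.choose 2), pow_add]

theorem quaternion_iso {a b : S} (ha : orderOf a = 4) (hb : b ^ 2 = a ^ 2)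
    (hconj : b * a * b⁻¹ = a⁻¹) (hnot : b ∉ Subgroup.zpowers a)
    (hgen : ∀ g : S, ∃ i j : ℤ, g = a ^ i * b ^ j) : Nonempty (S ≃* QuaternionGroup 2) := by
  have ha4 : a ^ 4 = 1 := ha ▸ pow_orderOf_eq_one a
  let P : ZMod (2 * 2) → S := fun i => a ^ i.val
  have hP : ∀ i : ℕ, P (i : ZMod (2 * 2)) = a ^ i := fun i => by
    show a ^ (i : ZMod (2 * 2)).val = _
    rw [ZMod.val_natCast]
    exact (pow_eq_pow_mod i ha4).symm
  have hPadd : ∀ i j, P (i + j) = P i * P j := fun i j => by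
    rw [← ZMod.natCast_zmod_val i, ← ZMod.natCast_zmod_val j, ← Nat.cast_add, hP, hP, hP, pow_add]
  have hPneg : ∀ i, P (-i) = (P i)⁻¹ := fun i => by
    refine eq_inv_of_mul_eq_one_left ?_
    rw [← hPadd, neg_add_cancel]
    exact pow_zero a
  have hP2 : P 2 = b ^ 2 := (hP 2).trans hb.symm
  have hbP : ∀ i, b * P i = P (-i) * b := fun i => by
    have : b * P i * b⁻¹ = P (-i) := by rw [hPneg, ← conj_pow, hconj, inv_pow]
    rw [← this, inv_mul_cancel_right]
  let f : QuaternionGroup 2 → S := fun q => match q with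
    | .a i => P i
    | .xa i => b * P i
  have hf : ∀ q r, f (q * r) = f q * f r := by
    rintro (i | i) (j | j)
    · exact hPadd i j
    · show b * P (j - i) = P i * (b * P j)
      rw [hbP, hbP j, sub_eq_add_neg, neg_add_rev, neg_neg, hPadd, mul_assoc]
    · show b * P (i + j) = b * P i * P j
      rw [hPadd, mul_assoc]
    · show P (((2 : ℕ) : ZMod (2 * 2)) + j - i) = b * P i * (b * P j)
      have e : (((2 : ℕ) : ZMod (2 * 2)) + j - i) = -i + 2 + j := by push_cast; ring
      rw [e, hPadd, hPadd, hP2]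
      calc P (-i) * b ^ 2 * P j = P (-i) * b * (b * P j) := by rw [pow_two]; simp only [mul_assoc]
        _ = _ := by rw [← hbP]
  let F : QuaternionGroup 2 →* S := MonoidHom.mk' f hf
  have hinj : Function.Injective F := by
    refine (injective_iff_map_eq_one F).mpr ?_
    rintro (i | i) h
    · change a ^ i.val = 1 at h
      rw [← orderOf_dvd_iff_pow_eq_one, ha] at h
      have h0 := Nat.eq_zero_of_dvd_of_lt h (ZMod.val_lt i)
      rw [QuaternionGroup.one_def]
      exact congrArg QuaternionGroup.a ((ZMod.val_eq_zero i).mp h0)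
    · change b * a ^ i.val = 1 at h
      exact absurd (by rw [eq_inv_of_mul_eq_one_left h]; exact inv_mem (pow_mem (Subgroup.mem_zpowers a) _)) hnot
  have hsurj : Function.Surjective F := by
    intro g
    obtain ⟨i, j, rfl⟩ := hgen g
    have h1 : a ∈ F.range := ⟨.a 1, show P 1 = a by rw [← Nat.cast_one, hP, pow_one]⟩
    have h2 : b ∈ F.range := ⟨.xa 0, show b * P 0 = b by rw [show P 0 = 1 from pow_zero a, mul_one]⟩
    exact F.range.mul_mem (zpow_mem h1 i) (zpow_mem h2 j)
  exact ⟨(MulEquiv.ofBijective F ⟨hinj, hsurj⟩).symm⟩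

theorem cases [Finite S] {p : ℕ} [hp : Fact p.Prime] (hS : IsPGroup p S) (hm : Cfsg.IsMetacyclic S) :
    IsCyclic S ∨ HasCharLine S ∨
      (∃ n : ℕ, 0 < n ∧ Nonempty (S ≃* Multiplicative (ZMod (p ^ n)) × Multiplicative (ZMod (p ^ n)))) ∨
      (p = 2 ∧ Nonempty (S ≃* QuaternionGroup 2)) := by
  obtain ⟨N, hN, hNc, hQc⟩ := hm
  haveI := hN
  obtain ⟨a', ha'⟩ := hNc.exists_generator
  obtain ⟨q₀, hq₀⟩ := hQc.exists_generator
  obtain ⟨y, rfl⟩ := QuotientGroup.mk_surjective q₀
  set a : S := (a' : S) with haa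
  have hNeq : N = Subgroup.zpowers a := by
    refine le_antisymm (fun x hx => ?_) (Subgroup.zpowers_le.mpr a'.2)
    obtain ⟨k, hk⟩ := Subgroup.mem_zpowers_iff.mp (ha' ⟨x, hx⟩)
    exact ⟨k, congrArg Subtype.val hk⟩
  have hgen : ∀ g : S, ∃ k : ℤ, g * (y ^ k)⁻¹ ∈ Subgroup.zpowers a := by
    intro g
    obtain ⟨k, hk⟩ := Subgroup.mem_zpowers_iff.mp (hq₀ (g : S ⧸ N))
    refine ⟨k, hNeq ▸ (QuotientGroup.eq_one_iff _).mp ?_⟩
    rw [QuotientGroup.mk_mul, QuotientGroup.mk_inv, QuotientGroup.mk_zpow, hk, mul_inv_cancel]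
  haveI hAn : (Subgroup.zpowers a).Normal := hNeq ▸ hN
  set Φ := frattini S with hΦ
  have hpowΦ : ∀ g : S, g ^ p ∈ Φ := PGroupsBasic.pow_mem_frattini hS
  set A := Φ ⊔ Subgroup.zpowers a with hA
  have hAy : A ⊔ Subgroup.zpowers y = ⊤ := eq_top_iff.mpr fun g _ => by
    obtain ⟨k, hk⟩ := hgen g
    have := Subgroup.mul_mem_sup (S := A) (Subgroup.mem_sup_right hk : _ ∈ A)
      (zpow_mem (Subgroup.mem_zpowers y) k : y ^ k ∈ Subgroup.zpowers y)
    rwa [inv_mul_cancel_right] at this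
  by_cases hinvA : ∀ φ : MulAut S, φ a ∈ A
  · refine Or.inr (Or.inl ⟨A, le_sup_left, fun φ x hx => ?_, ⟨a, rfl⟩, y, hAy⟩)
    have : A ≤ A.comap φ.toMonoidHom := sup_le
      ((Subgroup.characteristic_iff_le_comap.mp (inferInstance : Φ.Characteristic) φ).trans
        (Subgroup.comap_mono le_sup_left))
      (Subgroup.zpowers_le.mpr (hinvA φ))
    exact this hx
  push Not at hinvA
  obtain ⟨φ, hb⟩ := hinvA
  set b := φ a with hbdef
  -- `a` and `b` generate
  have hy : y ∈ A ⊔ Subgroup.zpowers b := by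
    obtain ⟨j, hj⟩ := hgen b
    have hjp : ¬ (p : ℤ) ∣ j := by
      rintro ⟨l, rfl⟩
      apply hb
      have : y ^ ((p : ℤ) * l) ∈ A := Subgroup.mem_sup_left (by
        rw [zpow_mul, zpow_natCast]; exact zpow_mem (hpowΦ y) l)
      have h2 := mul_mem (Subgroup.mem_sup_right hj : _ ∈ A) this
      rwa [inv_mul_cancel_right] at h2
    obtain ⟨u, v, huv⟩ := ((Nat.prime_iff_prime_int.mp hp.out).coprime_iff_not_dvd.mpr hjp)
    have hyj : y ^ j ∈ A ⊔ Subgroup.zpowers b := by
      have := mul_mem (inv_mem (Subgroup.mem_sup_left (Subgroup.mem_sup_right hj) :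
        b * (y ^ j)⁻¹ ∈ A ⊔ Subgroup.zpowers b)) (Subgroup.mem_sup_right (Subgroup.mem_zpowers b))
      rwa [mul_inv_rev, inv_inv, inv_mul_cancel_right] at this
    rw [← zpow_one y, ← huv, mul_comm v, mul_comm u, zpow_add, zpow_mul, zpow_mul, zpow_natCast]
    exact mul_mem (zpow_mem (Subgroup.mem_sup_left (Subgroup.mem_sup_left (hpowΦ y))) u)
      (zpow_mem hyj v)
  have habtop : Subgroup.zpowers a ⊔ Subgroup.zpowers b = ⊤ := by
    refine frattini_nongenerating (top_le_iff.mp ?_)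
    rw [← hAy]
    refine sup_le ?_ (Subgroup.zpowers_le.mpr ?_)
    · exact sup_le le_sup_right (le_sup_left.trans le_sup_left)
    · refine (?_ : A ⊔ Subgroup.zpowers b ≤ _) hy
      exact sup_le (sup_le le_sup_right (le_sup_left.trans le_sup_left))
        (le_sup_right.trans le_sup_left)
  have hab : ∀ g : S, ∃ i j : ℤ, g = a ^ i * b ^ j := by
    intro g
    have hg : g ∈ Subgroup.zpowers a ⊔ Subgroup.zpowers b := habtop ▸ Subgroup.mem_top g
    obtain ⟨u, hu, v, hv, rfl⟩ := Subgroup.mem_sup_of_normal_left.mp hg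
    obtain ⟨i, rfl⟩ := Subgroup.mem_zpowers_iff.mp hu
    obtain ⟨j, rfl⟩ := Subgroup.mem_zpowers_iff.mp hv
    exact ⟨i, j, rfl⟩
  haveI hBn : (Subgroup.zpowers b).Normal := by
    have := hAn.map φ.toMonoidHom φ.surjective
    rwa [MonoidHom.map_zpowers] at this
  set c := ⁅b, a⁆ with hc
  have hcA : c ∈ Subgroup.zpowers a := by
    rw [hc, commutatorElement_def]
    exact mul_mem (hAn.conj_mem _ (Subgroup.mem_zpowers a) b) (inv_mem (Subgroup.mem_zpowers a))
  have hcB : c ∈ Subgroup.zpowers b := by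
    rw [hc, commutatorElement_def, show b * a * b⁻¹ * a⁻¹ = b * (a * b⁻¹ * a⁻¹) by group]
    exact mul_mem (Subgroup.mem_zpowers b) (hBn.conj_mem _ (inv_mem (Subgroup.mem_zpowers b)) a)
  have hcent : ∀ w, w ∈ Subgroup.zpowers a → w ∈ Subgroup.zpowers b → ∀ g : S, g * w = w * g := by
    intro w hwa hwb g
    obtain ⟨i, j, rfl⟩ := hab g
    obtain ⟨u, rfl⟩ := Subgroup.mem_zpowers_iff.mp hwa
    obtain ⟨v, hv⟩ := Subgroup.mem_zpowers_iff.mp hwb
    have h1 : Commute (b ^ j) (a ^ u) := hv ▸ (Commute.refl b).zpow_zpow j v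
    exact (((Commute.refl a).zpow_zpow i u).mul_left h1).eq
  have hba : b * a = c * (a * b) := by rw [hc, commutatorElement_def]; group
  -- the common order
  obtain ⟨n, hn⟩ : ∃ n, orderOf a = p ^ n := IsPGroup.iff_orderOf.mp hS a
  have hbo : orderOf b = p ^ n := hn ▸ orderOf_injective φ.toMonoidHom φ.injective a
  have hn0 : n ≠ 0 := by
    rintro rfl
    rw [pow_zero, orderOf_eq_one_iff] at hn
    apply hb
    rw [hbdef, hn, map_one]
    exact one_mem _
  by_cases hZ : Subgroup.zpowers a ⊓ Subgroup.zpowers b = ⊥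
  · -- homocyclic
    refine Or.inr (Or.inr (Or.inl ⟨n, Nat.pos_of_ne_zero hn0, ?_⟩))
    have hc1 : c = 1 := Subgroup.mem_bot.mp (hZ ▸ ⟨hcA, hcB⟩)
    have hcomm : Commute a b := by
      show a * b = b * a
      rw [hba, hc1, one_mul]
    have hcomm' : ∀ (u : Subgroup.zpowers a) (v : Subgroup.zpowers b),
        Commute ((Subgroup.zpowers a).subtype u) ((Subgroup.zpowers b).subtype v) := by
      rintro ⟨_, i, rfl⟩ ⟨_, j, rfl⟩
      exact hcomm.zpow_zpow i j
    have hbij : Function.Bijective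
        ((Subgroup.zpowers a).subtype.noncommCoprod (Subgroup.zpowers b).subtype hcomm') := by
      refine ⟨(injective_iff_map_eq_one _).mpr fun uv h => ?_, fun g => ?_⟩
      · obtain ⟨u, v⟩ := uv
        change (u : S) * (v : S) = 1 at h
        have hu : (u : S) ∈ Subgroup.zpowers a ⊓ Subgroup.zpowers b :=
          ⟨u.2, by rw [eq_inv_of_mul_eq_one_left h]; exact (Subgroup.zpowers b).inv_mem v.2⟩
        rw [hZ, Subgroup.mem_bot] at hu
        rw [hu, one_mul] at h
        exact Prod.ext (Subtype.ext hu) (Subtype.ext h)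
      · obtain ⟨i, j, rfl⟩ := hab g
        exact ⟨(⟨_, i, rfl⟩, ⟨_, j, rfl⟩), rfl⟩
    have e1 : Nat.card (Subgroup.zpowers a) = Nat.card (Multiplicative (ZMod (p ^ n))) := by
      rw [Nat.card_zpowers, hn]; exact (Nat.card_zmod _).symm
    have e2 : Nat.card (Subgroup.zpowers b) = Nat.card (Multiplicative (ZMod (p ^ n))) := by
      rw [Nat.card_zpowers, hbo]; exact (Nat.card_zmod _).symm
    exact ⟨(MulEquiv.ofBijective _ hbij).symm.trans
      (MulEquiv.prodCongr (mulEquivOfCyclicCardEq e1) (mulEquivOfCyclicCardEq e2))⟩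
  -- the intersection is nontrivial
  obtain ⟨k, rfl⟩ := Nat.exists_eq_succ_of_ne_zero hn0
  set m := p ^ k with hmdef
  set z := a ^ m with hz
  have hzo : orderOf z = p := by
    rw [hz, orderOf_pow' _ (pow_ne_zero _ hp.out.ne_zero), hn,
      Nat.gcd_eq_right (pow_dvd_pow p (Nat.le_succ k)), Nat.succ_eq_add_one, pow_succ,
      Nat.mul_div_cancel_left _ (pow_pos hp.out.pos k)]
  have hbz : orderOf (b ^ m) = p := by
    rw [orderOf_pow' _ (pow_ne_zero _ hp.out.ne_zero), hbo,
      Nat.gcd_eq_right (pow_dvd_pow p (Nat.le_succ k)), Nat.succ_eq_add_one, pow_succ,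
      Nat.mul_div_cancel_left _ (pow_pos hp.out.pos k)]
  -- every element of order dividing `p` in a cyclic group
  have hsmall : ∀ {x w : S}, orderOf x = p ^ (k + 1) → w ∈ Subgroup.zpowers x → w ^ p = 1 →
      w ∈ Subgroup.zpowers (x ^ m) := by
    intro x w hx hw hwp
    obtain ⟨i, rfl⟩ := Subgroup.mem_zpowers_iff.mp hw
    rw [← zpow_natCast, ← zpow_mul, ← orderOf_dvd_iff_zpow_eq_one, hx, pow_succ] at hwp
    push_cast at hwp
    obtain ⟨l, hl⟩ := Int.dvd_of_mul_dvd_mul_right (by exact_mod_cast hp.out.ne_zero) hwp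
    exact ⟨l, show (x ^ m) ^ l = x ^ i by rw [← zpow_natCast, ← zpow_mul, hl, hmdef]; push_cast; rfl⟩
  obtain ⟨w, hwZ, hwo⟩ : ∃ w ∈ Subgroup.zpowers a ⊓ Subgroup.zpowers b, orderOf w = p := by
    have hpd : p ∣ Nat.card ↥(Subgroup.zpowers a ⊓ Subgroup.zpowers b) := by
      obtain ⟨j, hj⟩ := IsPGroup.iff_card.mp (hS.to_subgroup (Subgroup.zpowers a ⊓ Subgroup.zpowers b))
      rw [hj]
      refine dvd_pow_self p fun h0 => hZ ?_
      exact Subgroup.eq_bot_of_card_eq _ (by rw [hj, h0, pow_zero])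
    obtain ⟨w, hw⟩ := exists_prime_orderOf_dvd_card' p hpd
    exact ⟨w, w.2, (Subgroup.orderOf_coe w).trans hw⟩
  have hwp : w ^ p = 1 := hwo ▸ pow_orderOf_eq_one w
  have hsame : ∀ {x : S}, orderOf (x ^ m) = p → orderOf x = p ^ (k + 1) → w ∈ Subgroup.zpowers x →
      Subgroup.zpowers w = Subgroup.zpowers (x ^ m) := by
    intro x hxm hx hwx
    refine Subgroup.eq_of_le_of_card_ge (Subgroup.zpowers_le.mpr (hsmall hx hwx hwp)) ?_
    rw [Nat.card_zpowers, Nat.card_zpowers, hwo, hxm]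
  have hza : Subgroup.zpowers w = Subgroup.zpowers z := hsame hzo hn hwZ.1
  have hzb : b ^ m ∈ Subgroup.zpowers z := by
    rw [← hza, hsame hbz hbo hwZ.2]; exact Subgroup.mem_zpowers _
  -- `c` lies in the proper subgroup of `zpowers a`
  obtain ⟨l, hl⟩ := Subgroup.mem_zpowers_iff.mp hcA
  have hpl : (p : ℤ) ∣ l := by
    by_contra hnd
    have h1 : a ∈ Subgroup.zpowers c := by
      obtain ⟨u, v, huv⟩ := ((Nat.prime_iff_prime_int.mp hp.out).coprime_iff_not_dvd.mpr hnd).pow_left (m := k + 1)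
      refine ⟨v, ?_⟩
      show c ^ v = a
      conv_rhs => rw [← zpow_one a, ← huv, zpow_add, mul_comm u, zpow_mul]
      rw [← hl, ← zpow_mul, mul_comm l v, show ((p : ℤ) ^ (k + 1)) = ((p ^ (k + 1) : ℕ) : ℤ) by
        push_cast; rfl, zpow_natCast, ← hn, pow_orderOf_eq_one, one_zpow, one_mul]
    have hab' : a ∈ Subgroup.zpowers b := Subgroup.zpowers_le.mpr hcB h1
    apply hb
    have heq : Subgroup.zpowers a = Subgroup.zpowers b := Subgroup.eq_of_le_of_card_ge
      (Subgroup.zpowers_le.mpr hab') (by rw [Nat.card_zpowers, Nat.card_zpowers, hn, hbo])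
    exact Subgroup.mem_sup_right (heq ▸ Subgroup.mem_zpowers b)
  obtain ⟨l, rfl⟩ := hpl
  by_cases hcb : c ^ m.choose 2 = 1
  · -- the power map
    have hcz : ∀ g : S, g * c = c * g := hcent c hcA hcB
    have hcomms : ∀ g h : S, ∃ r : ℤ, h * g = c ^ r * (g * h) := by
      intro g h
      obtain ⟨i, j, rfl⟩ := hab g
      obtain ⟨s, t, rfl⟩ := hab h
      haveI : (Subgroup.zpowers c).Normal := ⟨fun x hx g => by
        obtain ⟨r, rfl⟩ := Subgroup.mem_zpowers_iff.mp hx
        rw [(Commute.zpow_right (hcz g) r).eq, mul_inv_cancel_right]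
        exact zpow_mem (Subgroup.mem_zpowers c) r⟩
      let π := QuotientGroup.mk' (Subgroup.zpowers c)
      have hπ : Commute (π a) (π b) := by
        show π a * π b = π b * π a
        rw [← map_mul, ← map_mul, hba, map_mul π c, show π c = 1 from
          (QuotientGroup.eq_one_iff c).mpr (Subgroup.mem_zpowers c), one_mul]
      have : π ((a ^ s * b ^ t) * (a ^ i * b ^ j)) = π ((a ^ i * b ^ j) * (a ^ s * b ^ t)) := by
        simp only [map_mul, map_zpow]
        exact ((((Commute.refl _).zpow_zpow s i).mul_right (hπ.zpow_zpow s j)).mul_left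
          ((hπ.symm.zpow_zpow t i).mul_right ((Commute.refl _).zpow_zpow t j))).eq
      obtain ⟨r, hr⟩ := Subgroup.mem_zpowers_iff.mp ((QuotientGroup.eq_one_iff
        ((a ^ s * b ^ t) * (a ^ i * b ^ j) * ((a ^ i * b ^ j) * (a ^ s * b ^ t))⁻¹)).mp (by
          show π _ = 1
          rw [map_mul, map_inv, this, mul_inv_cancel]))
      exact ⟨r, by rw [hr, inv_mul_cancel_right]⟩
    let q : S →* S := MonoidHom.mk' (fun g => g ^ m) fun g h => by
      obtain ⟨r, hr⟩ := hcomms g h
      rw [mul_pow_central (fun x => (Commute.zpow_right (hcz x) r).eq) hr, ← zpow_natCast,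
        ← zpow_mul, mul_comm, zpow_mul, zpow_natCast, hcb, one_zpow, one_mul]
    have hqZ : ∀ g, q g ∈ Subgroup.zpowers z := by
      intro g
      obtain ⟨i, j, rfl⟩ := hab g
      rw [map_mul, map_zpow, map_zpow]
      exact mul_mem (zpow_mem (Subgroup.mem_zpowers z) i) (zpow_mem hzb j)
    have hzp : ∀ v ∈ Subgroup.zpowers z, v ^ p = 1 := by
      intro v hv
      obtain ⟨i, rfl⟩ := Subgroup.mem_zpowers_iff.mp hv
      rw [← zpow_natCast, ← zpow_mul, mul_comm, zpow_mul, zpow_natCast, ← hzo, pow_orderOf_eq_one,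
        one_zpow]
    obtain ⟨u, hu⟩ := Subgroup.mem_zpowers_iff.mp hzb
    set x := b * (a ^ u)⁻¹ with hx
    have hΦq : Φ ≤ q.ker := by
      refine PGroupsBasic.frattini_le_of_elementary_quotient (p := p) ?_ fun g => ?_
      · refine Subgroup.commutator_le.mpr fun g _ h _ => ?_
        rw [MonoidHom.mem_ker, map_commutatorElement, commutatorElement_eq_one_iff_mul_comm]
        obtain ⟨i, hi⟩ := Subgroup.mem_zpowers_iff.mp (hqZ g)
        obtain ⟨j, hj⟩ := Subgroup.mem_zpowers_iff.mp (hqZ h)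
        rw [← hi, ← hj]
        exact ((Commute.refl z).zpow_zpow i j).eq
      · rw [MonoidHom.mem_ker, map_pow]
        exact hzp _ (hqZ g)
    have hxq : x ∈ q.ker := by
      rw [MonoidHom.mem_ker, hx, map_mul, map_inv, map_zpow]
      show b ^ m * ((a ^ m) ^ u)⁻¹ = 1
      rw [← hu, mul_inv_cancel]
    set L := Φ ⊔ Subgroup.zpowers x with hL
    have hLa : L ⊔ Subgroup.zpowers a = ⊤ := by
      rw [eq_top_iff, ← habtop]
      refine sup_le le_sup_right (Subgroup.zpowers_le.mpr ?_)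
      have := Subgroup.mul_mem_sup (Subgroup.mem_sup_right (Subgroup.mem_zpowers x) : x ∈ L)
        (zpow_mem (Subgroup.mem_zpowers a) u : a ^ u ∈ Subgroup.zpowers a)
      rwa [hx, inv_mul_cancel_right] at this
    refine Or.inr (Or.inl ⟨q.ker, hΦq, fun ψ g hg => ?_, ⟨x, ?_⟩, a, ?_⟩)
    · rw [MonoidHom.mem_ker] at hg ⊢
      show ψ g ^ m = 1
      rw [← map_pow, show g ^ m = 1 from hg, map_one]
    · refine le_antisymm (fun g hg => ?_) (sup_le hΦq (Subgroup.zpowers_le.mpr hxq))
      have hg' : g ∈ L ⊔ Subgroup.zpowers a := hLa ▸ Subgroup.mem_top g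
      obtain ⟨v, hv, v', hv', rfl⟩ := Subgroup.mem_sup_of_normal_right.mp hg'
      obtain ⟨i, rfl⟩ := Subgroup.mem_zpowers_iff.mp hv'
      have h1 : q v = 1 := (sup_le hΦq (Subgroup.zpowers_le.mpr hxq) : L ≤ q.ker) hv
      rw [MonoidHom.mem_ker, map_mul, h1, one_mul, map_zpow] at hg
      change z ^ i = 1 at hg
      rw [← orderOf_dvd_iff_zpow_eq_one, hzo] at hg
      obtain ⟨d, rfl⟩ := hg
      refine mul_mem hv (Subgroup.mem_sup_left ?_)
      rw [zpow_mul, zpow_natCast]
      exact zpow_mem (hpowΦ a) d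
    · rw [eq_top_iff, ← hLa]
      exact sup_le_sup_right (sup_le hΦq (Subgroup.zpowers_le.mpr hxq)) _
  -- the quaternion group
  have hcm : c ^ m = 1 := by
    rw [← hl, ← zpow_natCast, ← zpow_mul, ← orderOf_dvd_iff_zpow_eq_one, hn, hmdef]
    push_cast
    exact ⟨l, by rw [pow_succ]; ring⟩
  have hp2 : p = 2 := by
    by_contra hne
    apply hcb
    have hd : m ∣ m.choose 2 := by
      rw [Nat.choose_two_right, Nat.mul_div_assoc _ ?_]
      · exact dvd_mul_right _ _
      · exact even_iff_two_dvd.mp (Nat.Odd.sub_odd ((hp.out.odd_of_ne_two hne).pow) odd_one)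
    obtain ⟨d, hd⟩ := hd
    rw [hd, pow_mul, hcm, one_pow]
  subst hp2
  refine Or.inr (Or.inr (Or.inr ⟨rfl, ?_⟩))
  rcases Nat.eq_zero_or_pos k with rfl | hk
  · exfalso
    apply hcb
    rw [hmdef]
    norm_num
  have hlo : ¬ (2 : ℤ) ∣ l := by
    rintro ⟨r, rfl⟩
    apply hcb
    have hm2 : m.choose 2 = 2 ^ (k - 1) * (m - 1) := by
      rw [Nat.choose_two_right, hmdef]
      conv_lhs => rw [show 2 ^ k = 2 ^ (k - 1) * 2 by rw [← pow_succ]; congr 1; omega]
      rw [show 2 ^ k = 2 ^ (k - 1) * 2 by rw [← pow_succ]; congr 1; omega, mul_assoc,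
        mul_comm 2, ← mul_assoc, Nat.mul_div_cancel _ two_pos]
    rw [← hl, hm2, ← zpow_natCast, ← zpow_mul, ← orderOf_dvd_iff_zpow_eq_one, hn]
    refine ⟨r * ((m - 1 : ℕ) : ℤ), ?_⟩
    obtain ⟨k', rfl⟩ := Nat.exists_eq_succ_of_ne_zero hk.ne'
    push_cast
    simp only [Nat.succ_eq_add_one, pow_succ]
    ring
  have ha2c : ∀ g : S, g * a ^ (2 : ℕ) = a ^ (2 : ℕ) * g := by
    obtain ⟨u, v, huv⟩ := ((Nat.prime_iff_prime_int.mp hp.out).coprime_iff_not_dvd.mpr hlo).pow_left (m := k)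
    have hmem : a ^ (2 : ℕ) ∈ Subgroup.zpowers c := by
      refine ⟨v, ?_⟩
      show c ^ v = _
      rw [← hl, ← zpow_mul]
      calc a ^ (((2 : ℕ) : ℤ) * l * v) = a ^ (((2 : ℕ) : ℤ) - ((2 ^ (k + 1) : ℕ) : ℤ) * u) := by
            congr 1
            push_cast
            push_cast at huv
            rw [pow_succ]
            linear_combination (2 : ℤ) * huv
        _ = a ^ (2 : ℕ) := by
            rw [zpow_sub, zpow_mul, zpow_natCast, zpow_natCast, ← hn, pow_orderOf_eq_one,
              one_zpow, inv_one, mul_one]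
    exact hcent _ (Subgroup.zpowers_le.mpr hcA hmem) (Subgroup.zpowers_le.mpr hcB hmem)
  have hc2 : c ^ 2 = 1 := by
    have h1 := ha2c b
    rw [pow_two] at h1
    have h2 : b * (a * a) * b⁻¹ = c * a * (c * a) := by
      rw [show b * (a * a) * b⁻¹ = (b * a * b⁻¹) * (b * a * b⁻¹) by group, hc, commutatorElement_def]
      group
    rw [h1, mul_inv_cancel_right, show c * a * (c * a) = c * (a * c) * a by group,
      hcent c hcA hcB a, show c * (c * a) * a = c ^ 2 * (a * a) by rw [pow_two]; group] at h2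
    exact mul_right_cancel (h2.symm.trans (one_mul _).symm)
  have hk1 : k = 1 := by
    by_contra hne
    apply hlo
    rw [← hl, ← zpow_natCast, ← zpow_mul, ← orderOf_dvd_iff_zpow_eq_one, hn] at hc2
    obtain ⟨d, hd⟩ := hc2
    obtain ⟨k', rfl⟩ : ∃ k', k = k' + 2 := ⟨k - 2, by omega⟩
    push_cast at hd
    rw [pow_succ, pow_succ, pow_succ] at hd
    exact ⟨d * 2 ^ k', by linarith⟩
  subst hk1
  have ha4 : orderOf a = 4 := hn
  have hcne : c ≠ 1 := fun h => hcb (by rw [h, one_pow])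
  have hca : c = a ^ 2 := by
    have h4 : a ^ (4 : ℤ) = 1 := by
      rw [show (4 : ℤ) = ((4 : ℕ) : ℤ) from rfl, zpow_natCast, ← ha4, pow_orderOf_eq_one]
    obtain ⟨r, hr⟩ : ∃ r, l = 2 * r + 1 := ⟨l / 2, by omega⟩
    rw [← hl, hr, show ((2 : ℕ) : ℤ) * (2 * r + 1) = 4 * r + ((2 : ℕ) : ℤ) by push_cast; ring,
      zpow_add, zpow_mul, h4, one_zpow, one_mul, zpow_natCast]
  refine quaternion_iso ha4 ?_ ?_ (fun h => hb (Subgroup.mem_sup_right h)) hab
  · -- the square of `b`
    have h2 := hzb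
    have hz2 : z ^ (2 : ℤ) = 1 := by
      rw [show (2 : ℤ) = (((2 : ℕ)) : ℤ) from rfl, zpow_natCast]
      conv_lhs => arg 2; rw [← hzo]
      exact pow_orderOf_eq_one z
    rw [pow_one] at hmdef
    rw [hmdef] at h2
    obtain ⟨j, hj⟩ := Subgroup.mem_zpowers_iff.mp h2
    have hjo : ¬ (2 : ℤ) ∣ j := by
      rintro ⟨d, rfl⟩
      rw [zpow_mul, hz2, one_zpow] at hj
      rw [hmdef, ← hj, orderOf_one] at hbz
      omega
    obtain ⟨d, rfl⟩ : ∃ d, j = 2 * d + 1 := ⟨j / 2, by omega⟩
    rw [← hj, zpow_add, zpow_one, zpow_mul, hz2, one_zpow, one_mul, hz, hmdef]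
  · have e : b * a * b⁻¹ = c * a := by rw [hc, commutatorElement_def]; group
    rw [e, hca]
    refine eq_inv_of_mul_eq_one_left ?_
    rw [← pow_succ, ← pow_succ]
    rw [show (2 + 1 + 1 : ℕ) = orderOf a from ha4.symm, pow_orderOf_eq_one]

/-- A characteristic line makes the automorphisms of order prime to `p` diagonal. -/
theorem diagonal_of_charLine [Finite S] {p : ℕ} [Fact p.Prime] (hS : IsPGroup p S)
    (h : HasCharLine S) (H : Subgroup (MulAut S)) (hH : (Nat.card H).Coprime p) :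
    IsMulCommutative H ∧ ∀ g ∈ H, g ^ (p - 1) = 1 := by
  obtain ⟨M, hΦM, hinv, ⟨x, hx⟩, y, hy⟩ := h
  haveI hMn : M.Normal := ⟨fun n hn g => hinv (MulAut.conj g) n hn⟩
  let T : ℕ → Subgroup S := fun i => if i = 0 then frattini S else if i = 1 then M else ⊤
  let D : CyclicSeries.Ser H :=
    { n := 2
      T := T
      top := rfl
      inv := fun a _ i hi g hg => by
        interval_cases i
        · exact Subgroup.characteristic_iff_le_comap.mp (inferInstance : (frattini S).Characteristic)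
            a hg
        · exact hinv a g hg
        · exact Subgroup.mem_top _
      cyc := fun i hi => by
        have hcyc : ∀ (N U : Subgroup S) [N.Normal] (w : S), U ≤ N ⊔ Subgroup.zpowers w →
            IsCyclic ↥(U.map (QuotientGroup.mk' N)) := by
          intro N U _ w hU
          refine isCyclic_of_injective (Subgroup.inclusion (K := Subgroup.zpowers
            (QuotientGroup.mk' N w)) ?_) (Subgroup.inclusion_injective _)
          rintro _ ⟨g, hg, rfl⟩
          obtain ⟨u, hu, v, hv, rfl⟩ := Subgroup.mem_sup_of_normal_left.mp (hU hg)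
          obtain ⟨l, rfl⟩ := Subgroup.mem_zpowers_iff.mp hv
          rw [map_mul, map_zpow, show QuotientGroup.mk' N u = 1 from
            (QuotientGroup.eq_one_iff u).mpr hu, one_mul]
          exact zpow_mem (Subgroup.mem_zpowers _) l
        interval_cases i
        · exact ⟨_, inferInstance, hcyc (frattini S) M x hx.le,
            (QuotientGroup.mk' (frattini S)).subgroupMap M, fun g => by
              rw [← Subtype.coe_inj]; exact QuotientGroup.eq_one_iff _⟩
        · exact ⟨_, inferInstance, hcyc M ⊤ y hy.ge,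
            (QuotientGroup.mk' M).subgroupMap ⊤, fun g => by
              rw [← Subtype.coe_inj]; exact QuotientGroup.eq_one_iff _⟩ }
  exact CyclicSeries.comm_and_pow D hS le_rfl hH

end Cfsg.Agent.MetacyclicAutCases
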