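import Cfsg.Agent.Lib.BlackburnRankTwo
import Cfsg.Agent.Lib.CyclicMaxOdd
import Cfsg.Agent.Lib.MetacyclicCoprimeAct
import Cfsg.Agent.Lib.MaxClassTwo

/-!
An automorphism of order `p` of a metacyclic `p`-group without a cyclic subgroup of index `p` that moves
an element of order `p`: only for `p = 3`, and then the semidirect product has maximal class (helper57).
-/

set_option autoImplicit false
set_option linter.unusedSectionVars false

namespace Cfsg.Agent.MetacyclicOmegaAut57

open Subgroup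
open scoped commutatorElement

variable {L : Type*} [Group L] [Finite L] {p : ℕ} [hp : Fact p.Prime]

/-- The elements killed by `p` and by `p²` in a metacyclic group with no cyclic maximal subgroup. -/
structure Data (L : Type*) [Group L] (p : ℕ) where
  E : Subgroup L
  K : Subgroup L
  memE : ∀ x, x ∈ E ↔ x ^ p = 1
  memK : ∀ x, x ∈ K ↔ x ^ p ^ 2 = 1
  cardE : Nat.card E = p ^ 2
  root : ∀ z ∈ E, ∃ u ∈ K, u ^ p = z
  centE : ∀ z ∈ E, ∀ x ∈ K, z * x = x * z
  mulPow : ∀ x ∈ K, ∀ y ∈ K, (x * y) ^ p = x ^ p * y ^ p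
  four : p ^ 4 ∣ Nat.card L

theorem commutator_cyclic (hmc : Cfsg.IsMetacyclic L) : IsCyclic (commutator L) := by
  obtain ⟨N, hN, hNc, hQc⟩ := hmc
  haveI := hN
  haveI := hNc
  haveI := hQc
  letI : CommGroup (L ⧸ N) := IsCyclic.commGroup
  have hle : commutator L ≤ N := by
    rw [← QuotientGroup.ker_mk' N]
    exact Abelianization.commutator_subset_ker _
  exact isCyclic_of_injective (Subgroup.inclusion hle) (Subgroup.inclusion_injective hle)

theorem isMetacyclic_subgroup (hmc : Cfsg.IsMetacyclic L) (K : Subgroup L) :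
    Cfsg.IsMetacyclic K := by
  obtain ⟨N, hN, hNc, hQc⟩ := hmc
  haveI := hN
  haveI := hNc
  haveI := hQc
  let g : ↥((QuotientGroup.mk' N).comp K.subtype).ker →* N :=
    { toFun := fun w => ⟨((w : K) : L), (QuotientGroup.eq_one_iff _).1 w.2⟩
      map_one' := rfl
      map_mul' := fun _ _ => rfl }
  refine ⟨((QuotientGroup.mk' N).comp K.subtype).ker, inferInstance, ?_, ?_⟩
  · exact isCyclic_of_injective g fun a b h =>
      Subtype.ext (Subtype.ext (congrArg (fun t : N => (t : L)) h))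
  · exact isCyclic_of_injective (QuotientGroup.kerLift _) (QuotientGroup.kerLift_injective _)

/-- In a metacyclic `p`-group of exponent at most `p²` commutators are central and killed by `p`. -/
theorem commutator_small {K : Type*} [Group K] [Finite K] (hK : IsPGroup p K)
    (hmc : Cfsg.IsMetacyclic K) (hexp : ∀ x : K, x ^ p ^ 2 = 1) (x y : K) :
    ⁅x, y⁆ ∈ center K ∧ ⁅x, y⁆ ^ p = 1 := by
  obtain ⟨N, hN, hNc, hQc⟩ := hmc
  haveI := hN
  haveI := hNc
  haveI := hQc
  letI : CommGroup (K ⧸ N) := IsCyclic.commGroup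
  have hle : commutator K ≤ N := by
    rw [← QuotientGroup.ker_mk' N]
    exact Abelianization.commutator_subset_ker _
  obtain ⟨g, hg⟩ := IsCyclic.exists_generator (α := N)
  have hcardN : Nat.card N ∣ p ^ 2 := by
    rw [← orderOf_eq_card_of_forall_mem_zpowers hg, ← Subgroup.orderOf_coe]
    exact orderOf_dvd_of_pow_eq_one (hexp _)
  by_cases hbot : commutator K = ⊥
  · have h1 : ⁅x, y⁆ ∈ commutator K := commutator_mem_commutator (mem_top x) (mem_top y)
    rw [hbot, mem_bot] at h1
    rw [h1]; exact ⟨one_mem _, one_pow p⟩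
  have hne : commutator K ≠ N := by
    intro heq
    apply hbot
    obtain ⟨t, ht⟩ := IsCyclic.exists_generator (α := K ⧸ N)
    obtain ⟨t, rfl⟩ := QuotientGroup.mk_surjective t
    have htop : zpowers t = ⊤ := by
      by_contra hne
      obtain ⟨M, hM, htM⟩ := PGroupsBasic.exists_isCoatom_ge hne
      have hNM : N ≤ M := heq ▸ (PGroupsBasic.commutator_le_frattini hK).trans (frattini_le_coatom hM)
      refine hM.1 (eq_top_iff.2 fun z _ => ?_)
      obtain ⟨k, hk⟩ := mem_zpowers_iff.1 (ht (QuotientGroup.mk z))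
      rw [← QuotientGroup.mk_zpow, QuotientGroup.eq] at hk
      have h1 : t ^ k ∈ M := zpow_mem (htM (mem_zpowers t)) k
      simpa using mul_mem h1 (hNM hk)
    rw [_root_.commutator_def, commutator_eq_bot_iff_le_centralizer]
    intro a _
    rw [mem_centralizer_iff]
    intro b _
    obtain ⟨i, rfl⟩ := mem_zpowers_iff.1 (htop ▸ mem_top a : a ∈ zpowers t)
    obtain ⟨j, rfl⟩ := mem_zpowers_iff.1 (htop ▸ mem_top b : b ∈ zpowers t)
    rw [← zpow_add, ← zpow_add, add_comm]
  have hlt := PGroupsRegular.card_lt_of_lt (lt_of_le_of_ne hle hne)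
  obtain ⟨j, -, hj⟩ := (Nat.dvd_prime_pow hp.out).1 hcardN
  obtain ⟨i, hi⟩ := IsPGroup.iff_card.1 (hK.to_subgroup (commutator K))
  have hi1 : i ≤ 1 := by
    by_contra h
    have h2 : p ^ 2 ≤ p ^ i := Nat.pow_le_pow_right hp.out.pos (by omega)
    have h3 : p ^ j ≤ p ^ 2 := Nat.le_of_dvd (pow_pos hp.out.pos 2) (hj ▸ hcardN)
    omega
  rcases Nat.le_one_iff_eq_zero_or_eq_one.1 hi1 with rfl | rfl
  · exact absurd (card_eq_one.1 hi) hbot
  rw [pow_one] at hi
  have hmem : ⁅x, y⁆ ∈ commutator K := commutator_mem_commutator (mem_top x) (mem_top y)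
  exact ⟨PGroupsBasic.le_center_of_card_eq_prime hK hi hmem, PGroupsBasic.pow_eq_one_of_card hi hmem⟩

theorem exists_data (hp2 : p ≠ 2) (hL : IsPGroup p L) (hmc : Cfsg.IsMetacyclic L)
    (hnc : ∀ C : Subgroup L, IsCyclic C → C.index ≠ p) (hnt : Nontrivial L) :
    Nonempty (Data L p) := by
  have hreg := BlackburnRankTwo.regular_of_cyclic_commutator hp2 hL (commutator_cyclic hmc)
  have h1 := PGroupsRegular.regAt_of_regular hreg 1
  have h2 := PGroupsRegular.regAt_of_regular hreg 2
  let E := PGroupsRegular.omegaSubgroup hL h1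
  let K := PGroupsRegular.omegaSubgroup hL h2
  let P := Cfsg.powerClosure p 1 (⊤ : Subgroup L)
  have hmemE : ∀ x, x ∈ E ↔ x ^ p = 1 := fun x => by
    show x ^ p ^ 1 = 1 ↔ _
    rw [pow_one]
  have hmemK : ∀ x, x ∈ K ↔ x ^ p ^ 2 = 1 := fun x => Iff.rfl
  have hEle : Nat.card E ≤ p ^ 2 := by
    rw [sq]
    exact MetacyclicCoprimeAct.card_le_sq hp.out.pos hmc E fun w hw => (hmemE w).1 hw
  have hidx : Nat.card E = P.index := PGroupsHuppert.card_omega_eq_index hL h1
  obtain ⟨k, hk⟩ := IsPGroup.iff_card.1 hL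
  have hk0 : k ≠ 0 := fun h => by
    have := Finite.one_lt_card_iff_nontrivial.2 hnt
    rw [hk, h, pow_zero] at this
    omega
  -- there is no cyclic subgroup of index at most `p`
  have hbig : ∀ u : L, p * p ≤ (zpowers u).index := by
    intro u
    obtain ⟨i, hi⟩ : ∃ i, (zpowers u).index = p ^ i := by
      obtain ⟨i, -, hi⟩ := (Nat.dvd_prime_pow hp.out).1 (hk ▸ (zpowers u).index_dvd_card)
      exact ⟨i, hi⟩
    rcases i with _ | _ | i
    · rw [pow_zero, index_eq_one] at hi
      obtain ⟨M, hM, -⟩ := PGroupsBasic.exists_isCoatom_ge (bot_ne_top (α := Subgroup L))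
      haveI : IsCyclic L := ⟨⟨u, fun x => mem_zpowers_iff.1 (by rw [hi]; exact mem_top x)⟩⟩
      exact absurd (PGroupsBasic.index_of_isCoatom hL hM) (hnc M inferInstance)
    · exact absurd (by rw [hi, pow_one]) (hnc (zpowers u) inferInstance)
    · rw [hi, ← sq]
      exact Nat.pow_le_pow_right hp.out.pos (by omega)
  have hPnc : ¬ IsCyclic P := by
    intro hc
    obtain ⟨⟨y, hy⟩, hgen⟩ := IsCyclic.exists_generator (α := P)
    obtain ⟨u, -, hu⟩ := (PGroupsRegular.mem_powerClosure_iff hL h1).1 hy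
    rw [pow_one] at hu
    have hcardP : Nat.card P = orderOf y := by
      rw [← orderOf_eq_card_of_forall_mem_zpowers hgen, ← Subgroup.orderOf_coe]
    have hmul := P.card_mul_index
    rw [hcardP, ← hidx, hk] at hmul
    have hcu := (zpowers u).card_mul_index
    rw [Nat.card_zpowers, hk] at hcu
    have hb := hbig u
    obtain ⟨i, hi⟩ := hL u
    obtain ⟨j, -, hj⟩ := (Nat.dvd_prime_pow hp.out).1 (orderOf_dvd_of_pow_eq_one hi)
    rcases j with _ | j
    · -- every `p`th power is trivial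
      rw [pow_zero, orderOf_eq_one_iff] at hj
      rw [hj, one_pow] at hu
      rw [hu, orderOf_one, one_mul] at hmul
      have hk2 : k ≤ 2 := (Nat.pow_le_pow_iff_right hp.out.one_lt).1 (hmul ▸ hEle)
      obtain ⟨C, -, hC, hCc⟩ := PGroupsBasic.exists_normal_card_pow hL (⊤ : Subgroup L) (k - 1)
        (by rw [card_top, hk]; exact Nat.pow_le_pow_right hp.out.pos (by omega))
      have hCcyc : IsCyclic C := by
        rcases Nat.le_one_iff_eq_zero_or_eq_one.1 (by omega : k - 1 ≤ 1) with h | h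
        · rw [h, pow_zero] at hCc
          have : Subsingleton C := (Nat.card_eq_one_iff_unique.1 hCc).1
          infer_instance
        · rw [h, pow_one] at hCc
          exact isCyclic_of_prime_card hCc
      refine hnc C hCcyc ?_
      have := C.card_mul_index
      rw [hCc, hk, show k = k - 1 + 1 by omega, pow_succ, show k - 1 + 1 - 1 = k - 1 by omega] at this
      exact Nat.eq_of_mul_eq_mul_left (pow_pos hp.out.pos _) this
    · have hy' : orderOf y = p ^ j := by
        rw [hu, orderOf_pow, hj, Nat.gcd_eq_right (dvd_pow_self p (Nat.succ_ne_zero j)), pow_succ,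
          Nat.mul_div_cancel _ hp.out.pos]
      rw [hy'] at hmul
      rw [hj, pow_succ] at hcu
      have : p ^ j * p * (p * p) ≤ p ^ j * p ^ 2 := by
        calc p ^ j * p * (p * p) ≤ p ^ j * p * (zpowers u).index := Nat.mul_le_mul_left _ hb
          _ = p ^ k := hcu
          _ = p ^ j * Nat.card E := hmul.symm
          _ ≤ _ := Nat.mul_le_mul_left _ hEle
      have h2 := hp.out.two_le
      have h3 : p * (p * p) ≤ p ^ 2 :=
        Nat.le_of_mul_le_mul_left (by rwa [← mul_assoc]) (pow_pos hp.out.pos j)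
      nlinarith [pow_pos hp.out.pos 2]
  obtain ⟨A, -, hAel, hAc⟩ := CyclicMaxOdd.exists_normal_elementary_sq hp2 (hL.to_subgroup P) hPnc
  have hAE : A.map P.subtype ≤ E := by
    rintro _ ⟨x, hx, rfl⟩
    rw [hmemE, ← map_pow, hAel.2 x hx, map_one]
  have hAcard : Nat.card (A.map P.subtype) = p ^ 2 := by
    rw [card_map_of_injective P.subtype_injective, hAc]
  have hEA : A.map P.subtype = E := eq_of_le_of_card_ge hAE (hAcard ▸ hEle)
  have hcardE : Nat.card E = p ^ 2 := hEA ▸ hAcard
  have hroot : ∀ z ∈ E, ∃ u ∈ K, u ^ p = z := by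
    intro z hz
    obtain ⟨u, -, hu⟩ := (PGroupsRegular.mem_powerClosure_iff hL h1).1
      (map_subtype_le A (hEA.symm ▸ hz : z ∈ A.map P.subtype))
    rw [pow_one] at hu
    exact ⟨u, by rw [hmemK, sq, pow_mul, ← hu]; exact (hmemE z).1 hz, hu.symm⟩
  have hsmall : ∀ x ∈ K, ∀ y ∈ K, (∀ w ∈ K, ⁅x, y⁆ * w = w * ⁅x, y⁆) ∧ ⁅x, y⁆ ^ p = 1 := by
    intro x hx y hy
    obtain ⟨h3, h4⟩ := commutator_small (hL.to_subgroup K) (isMetacyclic_subgroup hmc K)
      (fun w => Subtype.ext ((hmemK w.1).1 w.2)) (⟨x, hx⟩ : K) ⟨y, hy⟩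
    refine ⟨fun w hw => ?_, congrArg Subtype.val h4⟩
    exact congrArg Subtype.val (mem_center_iff.1 h3 ⟨w, hw⟩).symm
  have hmulpow : ∀ x ∈ K, ∀ y ∈ K, (x * y) ^ p = x ^ p * y ^ p := by
    intro x hx y hy
    obtain ⟨h3, h4⟩ := commutator_small (hL.to_subgroup K) (isMetacyclic_subgroup hmc K)
      (fun w => Subtype.ext ((hmemK w.1).1 w.2)) (⟨y, hy⟩ : K) ⟨x, hx⟩
    exact congrArg Subtype.val (ClassTwoPow.mul_pow_prime_central hp.out hp2 h3 h4)
  refine ⟨⟨E, K, hmemE, hmemK, hcardE, hroot, fun z hz x hx => ?_, hmulpow, ?_⟩⟩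
  · obtain ⟨u, hu, rfl⟩ := hroot z hz
    obtain ⟨hc, hc1⟩ := hsmall x hx u hu
    have hcx : Commute ⁅x, u⁆ u := hc u hu
    have h : x * u * x⁻¹ = ⁅x, u⁆ * u := by rw [commutatorElement_def]; group
    have := congrArg (· ^ p) h
    simp only [conj_pow, hcx.mul_pow, hc1, one_mul] at this
    exact (mul_inv_eq_iff_eq_mul.1 this).symm
  · have hP4 : p ^ 2 ∣ Nat.card P := hAc ▸ A.card_subgroup_dvd_card
    have := P.card_mul_index
    rw [← hidx, hcardE] at this
    rw [← this, show p ^ 4 = p ^ 2 * p ^ 2 by ring]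
    exact Nat.mul_dvd_mul_right hP4 _

/-! ### The automorphism -/

variable (D : Data L p)

theorem Data.map_mem_E (a : MulAut L) {x : L} (hx : x ∈ D.E) : a x ∈ D.E := by
  rw [D.memE, ← map_pow, (D.memE x).1 hx, map_one]

theorem Data.map_mem_K (a : MulAut L) {x : L} (hx : x ∈ D.K) : a x ∈ D.K := by
  rw [D.memK, ← map_pow, (D.memK x).1 hx, map_one]

theorem Data.E_le_K {x : L} (hx : x ∈ D.E) : x ∈ D.K := by
  rw [D.memK, sq, pow_mul, (D.memE x).1 hx, one_pow]

theorem Data.comm_E {x y : L} (hx : x ∈ D.E) (hy : y ∈ D.E) : x * y = y * x :=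
  D.centE x hx y (D.E_le_K hy)

theorem pow_apply_succ (a : MulAut L) (k : ℕ) (x : L) : (a ^ (k + 1)) x = a ((a ^ k) x) := by
  rw [pow_succ']; rfl

/-- The data of an automorphism of order `p` that moves `E`: a line `⟨c⟩` of fixed points in `E`. -/
theorem Data.fixed_line (a : MulAut L) (ha : a ^ p = 1) (hmove : ∃ x ∈ D.E, a x ≠ x) :
    ∃ F : Subgroup L, Nat.card F = p ∧ (∀ x, x ∈ F ↔ x ∈ D.E ∧ a x = x) ∧
      ∀ x ∈ D.E, x⁻¹ * a x ∈ F := by
  obtain ⟨t, htE, ht⟩ := hmove
  let F : Subgroup L :=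
    { carrier := {x | x ∈ D.E ∧ a x = x}
      one_mem' := ⟨one_mem _, map_one a⟩
      mul_mem' := fun {x y} hx hy => ⟨mul_mem hx.1 hy.1, by rw [map_mul, hx.2, hy.2]⟩
      inv_mem' := fun {x} hx => ⟨inv_mem hx.1, by rw [map_inv, hx.2]⟩ }
  have hle : F ≤ D.E := fun x hx => hx.1
  have hd : Nat.card F ∣ p ^ 2 := D.cardE ▸ card_dvd_of_le hle
  have hne2 : Nat.card F ≠ p ^ 2 := fun h => by
    have : F = D.E := eq_of_le_of_card_ge hle (by rw [h, D.cardE])
    exact ht (this.ge htE).2
  -- a non-trivial fixed point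
  have hne1 : Nat.card F ≠ 1 := by
    intro h1
    let A := zpowers a
    have hA : IsPGroup p A := fun g => ⟨1, by
      obtain ⟨i, hi⟩ := g.2
      apply Subtype.ext
      rw [pow_one, SubmonoidClass.coe_pow, ← hi, ← zpow_natCast, ← zpow_mul, mul_comm, zpow_mul,
        zpow_natCast, ha, one_zpow]; rfl⟩
    letI : MulAction A D.E :=
      { smul := fun g x => ⟨(g : MulAut L) x, D.map_mem_E _ x.2⟩
        one_smul := fun x => rfl
        mul_smul := fun g h x => rfl }
    obtain ⟨z, hz, hzne⟩ := hA.exists_fixed_point_of_prime_dvd_card_of_fixed_point D.E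
      (by rw [D.cardE]; exact dvd_pow_self p two_ne_zero) (a := (1 : D.E))
      (fun g => Subtype.ext (map_one (g : MulAut L)))
    have hzF : (z : L) ∈ F := ⟨z.2, congrArg Subtype.val (hz ⟨a, mem_zpowers a⟩)⟩
    have : F = ⊥ := card_eq_one.1 h1
    rw [this, mem_bot] at hzF
    exact hzne (Subtype.ext hzF).symm
  have hF : Nat.card F = p := by
    obtain ⟨i, hi, hi'⟩ := (Nat.dvd_prime_pow hp.out).1 hd
    have : i = 1 := by
      rcases i with _ | _ | i
      · exact absurd hi' (by simpa using hne1)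
      · rfl
      · exact absurd hi' (by rw [show i + 2 = 2 by omega]; exact hne2)
    rw [hi', this, pow_one]
  refine ⟨F, hF, fun x => Iff.rfl, ?_⟩
  -- the image of `x ↦ x⁻¹ a x` is an invariant subgroup of order `p`
  let d : D.E →* L := MonoidHom.mk' (fun x => (x : L)⁻¹ * a x) fun x y => by
    have hy' : (y : L)⁻¹ * a y ∈ D.E := mul_mem (inv_mem y.2) (D.map_mem_E a y.2)
    have hx' : (x : L)⁻¹ * a x ∈ D.E := mul_mem (inv_mem x.2) (D.map_mem_E a x.2)
    show ((x : L) * y)⁻¹ * a ((x : L) * y) = ((x : L)⁻¹ * a x) * ((y : L)⁻¹ * a y)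
    rw [D.comm_E x.2 y.2, mul_inv_rev, map_mul, D.comm_E (D.map_mem_E a y.2) (D.map_mem_E a x.2)]
    calc _ = (x : L)⁻¹ * ((y : L)⁻¹ * a y) * a x := by
          rw [D.comm_E (D.map_mem_E a x.2) (D.map_mem_E a y.2)]; group
      _ = _ := by rw [mul_assoc, D.comm_E hy' (D.map_mem_E a x.2), ← mul_assoc]
  have hker : Nat.card d.ker = p := by
    refine Eq.trans ?_ hF
    exact Nat.card_congr
      { toFun := fun x => ⟨x.1.1, x.1.2, (inv_mul_eq_one.1 (MonoidHom.mem_ker.1 x.2)).symm⟩
        invFun := fun x => ⟨⟨x.1, x.2.1⟩, MonoidHom.mem_ker.2 (by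
          show (x : L)⁻¹ * a x = 1
          rw [x.2.2, inv_mul_cancel])⟩
        left_inv := fun x => rfl
        right_inv := fun x => rfl }
  have hrange : Nat.card d.range = p := by
    have := d.ker.card_eq_card_quotient_mul_card_subgroup
    rw [Nat.card_congr (QuotientGroup.quotientKerEquivRange d).toEquiv, hker, D.cardE, sq] at this
    exact (Nat.eq_of_mul_eq_mul_right hp.out.pos this).symm
  intro x hx
  have hxd : x⁻¹ * a x ∈ d.range := ⟨⟨x, hx⟩, rfl⟩
  refine ⟨mul_mem (inv_mem hx) (D.map_mem_E a hx), ?_⟩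
  set s := x⁻¹ * a x
  have has : a s ∈ d.range := by
    refine ⟨⟨a x, D.map_mem_E a hx⟩, ?_⟩
    show (a x)⁻¹ * a (a x) = a s
    rw [map_mul, map_inv]
  by_cases hs1 : s = 1
  · rw [hs1, map_one]
  have hgen : zpowers s = d.range := eq_of_le_of_card_ge (zpowers_le.2 hxd) (by
    rw [hrange, Nat.card_zpowers, PGroupsBasic.orderOf_eq_of_pow_eq_one
      (PGroupsBasic.pow_eq_one_of_card hrange hxd) hs1])
  obtain ⟨k, hk⟩ := mem_zpowers_iff.1 (hgen.symm ▸ has : a s ∈ zpowers s)
  have hiter : ∀ i : ℕ, (a ^ i) s = s ^ (k ^ i) := by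
    intro i
    induction i with
    | zero => simp
    | succ i ih => rw [pow_apply_succ, ih, map_zpow, ← hk, ← zpow_mul, pow_succ']
  have h := hiter p
  rw [ha, MulAut.one_apply] at h
  have hos : orderOf s = p := PGroupsBasic.orderOf_eq_of_pow_eq_one
    (PGroupsBasic.pow_eq_one_of_card hrange hxd) hs1
  nth_rewrite 1 [← zpow_one s] at h
  rw [zpow_eq_zpow_iff_modEq, hos] at h
  have hfer : k ^ p ≡ k [ZMOD p] := by
    rw [← ZMod.intCast_eq_intCast_iff, Int.cast_pow, ZMod.pow_card]
  rw [← hk]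
  conv_rhs => rw [← zpow_one s]
  rw [zpow_eq_zpow_iff_modEq, hos]
  exact hfer.symm.trans h.symm

/-- The structure forced by moving an element of order `p`. -/
theorem Data.moved (hp2 : p ≠ 2) (hL : IsPGroup p L) (a : MulAut L) (ha : a ^ p = 1)
    (hmove : ∃ x ∈ D.E, a x ≠ x) :
    p = 3 ∧ ∃ F : Subgroup L, Nat.card F = p ∧ ∀ x, x ∈ F ↔ a x = x := by
  obtain ⟨F, hF, hmemF, hdF⟩ := D.fixed_line a ha hmove
  obtain ⟨t, htE, ht⟩ := hmove
  obtain ⟨u, hu, hut⟩ := D.root t htE
  set v := u⁻¹ * a u with hv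
  have hvK : v ∈ D.K := mul_mem (inv_mem hu) (D.map_mem_K a hu)
  have hvp : v ^ p = t⁻¹ * a t := by
    rw [hv, D.mulPow _ (inv_mem hu) _ (D.map_mem_K a hu), inv_pow, ← map_pow, hut]
  have hz1 : v ^ p ≠ 1 := by
    rw [hvp]
    exact fun h => ht (inv_mul_eq_one.1 h).symm
  have hzF : v ^ p ∈ F := by rw [hvp]; exact hdF t htE
  set e := v⁻¹ * a v with he
  have heE : e ∈ D.E := by
    rw [D.memE, he, D.mulPow _ (inv_mem hvK) _ (D.map_mem_K a hvK), inv_pow, ← map_pow,
      ((hmemF _).1 hzF).2, inv_mul_cancel]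
  set c := e⁻¹ * a e with hc
  have hcF : c ∈ F := hdF e heE
  have hcE : c ∈ D.E := ((hmemF _).1 hcF).1
  have hac : a c = c := ((hmemF _).1 hcF).2
  have hau : a u = u * v := by rw [hv, mul_inv_cancel_left]
  have hav : a v = v * e := by rw [he, mul_inv_cancel_left]
  have hae : a e = e * c := by rw [hc, mul_inv_cancel_left]
  have hiter : ∀ k : ℕ, (a ^ k) u = u * v ^ k * e ^ k.choose 2 * c ^ k.choose 3 := by
    intro k
    induction k with
    | zero => simp
    | succ k ih =>
      have h2 : (k + 1).choose 2 = k + k.choose 2 := by rw [Nat.choose_succ_succ, Nat.choose_one_right]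
      have h3 : (k + 1).choose 3 = k.choose 2 + k.choose 3 := Nat.choose_succ_succ k 2
      have hve : Commute v e := (D.centE e heE v hvK).symm
      have hec : Commute e c := D.comm_E heE hcE
      rw [pow_apply_succ, ih, map_mul, map_mul, map_mul, map_pow, map_pow, map_pow, hau, hav, hae,
        hac, hve.mul_pow, hec.mul_pow, h2, h3, pow_succ', pow_add, pow_add]
      simp only [mul_assoc]
  have h := hiter p
  rw [ha, MulAut.one_apply, mul_assoc, mul_assoc, left_eq_mul] at h
  have hpc : ∀ j : ℕ, j ≠ 0 → j < p → p ∣ p.choose j := fun j h0 h1 =>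
    Nat.Prime.dvd_choose_self hp.out h0 h1
  have he2 : e ^ p.choose 2 = 1 := by
    obtain ⟨m, hm⟩ := hpc 2 two_ne_zero (lt_of_le_of_ne hp.out.two_le (Ne.symm hp2))
    rw [hm, pow_mul, (D.memE e).1 heE, one_pow]
  rw [he2, one_mul] at h
  have hp3 : p = 3 := by
    by_contra hne
    have hlt : 3 < p := by
      have := hp.out.two_le
      omega
    obtain ⟨m, hm⟩ := hpc 3 (by norm_num) hlt
    rw [hm, pow_mul, (D.memE c).1 hcE, one_pow, mul_one] at h
    exact hz1 h
  refine ⟨hp3, F, hF, fun x => ⟨fun hx => ((hmemF x).1 hx).2, fun hx => ?_⟩⟩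
  have hc1 : c ≠ 1 := by
    intro h1
    rw [h1, one_pow, mul_one] at h
    exact hz1 h
  -- fixed points have order dividing `p`
  have key : ∀ y ∈ D.K, a y = y → y ∈ D.E := by
    intro y hy hay
    by_contra hyE
    have hypE : y ^ p ∈ D.E := by
      rw [D.memE, ← pow_mul, ← sq]
      exact (D.memK y).1 hy
    have hypF : y ^ p ∈ F := (hmemF _).2 ⟨hypE, by rw [map_pow, hay]⟩
    have hvne : orderOf (v ^ p) = p := PGroupsBasic.orderOf_eq_of_pow_eq_one
      (PGroupsBasic.pow_eq_one_of_card hF hzF) hz1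
    have hgen : zpowers (v ^ p) = F := eq_of_le_of_card_ge (zpowers_le.2 hzF)
      (by rw [hF, Nat.card_zpowers, hvne])
    have hmemz : y ^ p ∈ zpowers (v ^ p) := by rw [hgen]; exact hypF
    obtain ⟨j, -, hj⟩ : ∃ j, j < p ∧ y ^ p = (v ^ p) ^ j := by
      rw [← mem_powers_iff_mem_zpowers, Submonoid.mem_powers_iff] at hmemz
      obtain ⟨j, hj⟩ := hmemz
      exact ⟨j % p, Nat.mod_lt _ hp.out.pos, by rw [← hj, ← pow_mod_orderOf (v ^ p) j, hvne]⟩
    set f := (v ^ j)⁻¹ * y with hf
    have hvj : v ^ j ∈ D.K := pow_mem hvK j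
    have hfE : f ∈ D.E := by
      rw [D.memE, hf, D.mulPow _ (inv_mem hvj) _ hy, inv_pow, ← pow_mul, mul_comm, pow_mul, ← hj,
        inv_mul_cancel]
    have hdf : f⁻¹ * a f = (e ^ j)⁻¹ := by
      have h1 : a y = v ^ j * e ^ j * a f := by
        rw [show y = v ^ j * f by rw [hf, mul_inv_cancel_left], map_mul, map_pow, hav,
          (show Commute v e from (D.centE e heE v hvK).symm).mul_pow]
      rw [hay] at h1
      have hfe : f = e ^ j * a f := by
        rw [hf, inv_mul_eq_iff_eq_mul, ← hf, ← mul_assoc]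
        exact h1
      have h2 : a f = (e ^ j)⁻¹ * f := eq_inv_mul_iff_mul_eq.2 hfe.symm
      rw [h2, D.comm_E (inv_mem (pow_mem heE j)) hfE, inv_mul_cancel_left]
    have h2 := ((hmemF _).1 (hdF f hfE)).2
    rw [hdf, map_inv, inv_inj, map_pow, hae, (show Commute e c from D.comm_E heE hcE).mul_pow,
      mul_eq_left] at h2
    have hoc : orderOf c = p := PGroupsBasic.orderOf_eq_of_pow_eq_one ((D.memE c).1 hcE) hc1
    have hdvd := orderOf_dvd_of_pow_eq_one h2
    rw [hoc] at hdvd
    apply hyE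
    rw [D.memE, hj, ← pow_mul]
    obtain ⟨m, rfl⟩ := hdvd
    rw [show p * (p * m) = p ^ 2 * m by ring, pow_mul, (D.memK v).1 hvK, one_pow]
  obtain ⟨i, hi⟩ := hL x
  have : ∀ i : ℕ, ∀ y : L, y ^ p ^ i = 1 → a y = y → y ∈ D.E := by
    intro i
    induction i with
    | zero =>
      intro y hy _
      rw [pow_zero, pow_one] at hy
      rw [hy]; exact one_mem _
    | succ i ih =>
      intro y hy hay
      have hyp : y ^ p ∈ D.E := ih _ (by rw [← pow_mul, ← pow_succ']; exact hy)
        (by rw [map_pow, hay])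
      exact key y ((D.memK y).2 (by rw [sq, pow_mul]; exact (D.memE _).1 hyp)) hay
  exact (hmemF x).2 ⟨this i x hi hx, hx⟩

/-! ### Maximal class -/

/-- In a group of maximal class there is one normal subgroup of order `p²`. -/
theorem eq_of_normal_sq {X : Type*} [Group X] [Finite X] {n : ℕ} (hn : 4 ≤ n)
    (hX : Nat.card X = p ^ n) (hc : Group.nilpotencyClass X = n - 1)
    (N₁ N₂ : Subgroup X) [N₁.Normal] [N₂.Normal] (h1 : Nat.card N₁ = p ^ 2) (h2 : Nat.card N₂ = p ^ 2) :
    N₁ = N₂ := by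
  have hP : IsPGroup p X := IsPGroup.of_card hX
  obtain ⟨hZ, hQ, hQc, -⟩ := MaxClassTwo.center_of_maxClass (by omega) hX hc
  obtain ⟨hZQ, -, -, -⟩ := MaxClassTwo.center_of_maxClass (X := X ⧸ center X) (n := n - 1)
    (by omega) hQ (by rw [hQc]; omega)
  have key : ∀ N : Subgroup X, N.Normal → Nat.card N = p ^ 2 → center X ≤ N ∧
      N.map (QuotientGroup.mk' (center X)) = center (X ⧸ center X) := by
    intro N hN hcard
    haveI := hN
    have hne : N ≠ ⊥ := fun h => by
      rw [h, card_bot] at hcard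
      exact absurd hcard.symm (Nat.one_lt_pow two_ne_zero hp.out.one_lt).ne'
    have hZN : center X ≤ N :=
      (PGroupsBasic.le_or_inf_eq_bot hZ N).resolve_right fun h =>
        PGroupsBasic.inf_center_ne_bot hP hne (by rwa [inf_comm] at h)
    haveI : (N.map (QuotientGroup.mk' (center X))).Normal :=
      Subgroup.Normal.map hN _ (QuotientGroup.mk'_surjective _)
    have hcard' : Nat.card (N.map (QuotientGroup.mk' (center X))) = p := by
      have h3 := relIndex_mul_relIndex (⊥ : Subgroup X) (center X) N bot_le hZN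
      rw [relIndex_bot_left, relIndex_bot_left, hZ, hcard, sq] at h3
      have h4 : (center X).relIndex N = p := Nat.eq_of_mul_eq_mul_left hp.out.pos h3
      rw [← relIndex_ker, QuotientGroup.ker_mk', h4]
    exact ⟨hZN, eq_of_le_of_card_ge
      (PGroupsBasic.le_center_of_card_eq_prime (hP.to_quotient _) hcard') (by rw [hcard', hZQ])⟩
  obtain ⟨hZ1, he1⟩ := key N₁ inferInstance h1
  obtain ⟨hZ2, he2⟩ := key N₂ inferInstance h2
  have := congrArg (comap (QuotientGroup.mk' (center X))) (he1.trans he2.symm)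
  rwa [comap_map_eq, comap_map_eq, QuotientGroup.ker_mk', sup_eq_left.2 hZ1, sup_eq_left.2 hZ2] at this

theorem normal_map_inl {φ : Type*} [Group φ] (ψ : φ →* MulAut L) (N : Subgroup L) [N.Normal]
    (hN : ∀ g : φ, ∀ x ∈ N, ψ g x ∈ N) :
    (N.map (SemidirectProduct.inl : L →* SemidirectProduct L φ ψ)).Normal := by
  refine ⟨?_⟩
  rintro _ ⟨x, hx, rfl⟩ ⟨l, g⟩
  refine ⟨l * ψ g x * l⁻¹, Subgroup.Normal.conj_mem ‹_› _ (hN g x hx) l, ?_⟩
  rw [SemidirectProduct.mk_eq_inl_mul_inr, map_mul, map_mul, map_inv, SemidirectProduct.inl_aut]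
  simp only [map_inv, mul_inv_rev, mul_assoc]

/-- The forward implication. -/
theorem class_of_moved (hp2 : p ≠ 2) (hL : IsPGroup p L) (D : Data L p) (a : MulAut L)
    (ha : orderOf a = p) {m : ℕ} (hm : Nat.card L = p ^ m) (hmove : ∃ x ∈ D.E, a x ≠ x) :
    p = 3 ∧ Group.nilpotencyClass (SemidirectProduct L ↥(zpowers a) (zpowers a).subtype) = m := by
  have hap : a ^ p = 1 := ha ▸ pow_orderOf_eq_one a
  obtain ⟨h3, F, hF, hmemF⟩ := D.moved hp2 hL a hap hmove
  refine ⟨h3, ?_⟩
  let X := SemidirectProduct L ↥(zpowers a) (zpowers a).subtype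
  let g : ↥(zpowers a) := ⟨a, mem_zpowers a⟩
  haveI : Finite ↥(zpowers a) :=
    Nat.finite_of_card_ne_zero (by rw [Nat.card_zpowers, ha]; exact hp.out.ne_zero)
  haveI : Finite X := Finite.of_equiv _ SemidirectProduct.equivProd.symm
  have hX : Nat.card X = p ^ (m + 1) := by
    rw [Nat.card_congr SemidirectProduct.equivProd, Nat.card_prod, hm, Nat.card_zpowers, ha, pow_succ]
  set A := centralizer ({SemidirectProduct.inr g} : Set X) with hA
  have hfix : ∀ x : X, x ∈ A ↔ a x.left = x.left := by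
    intro x
    rw [hA, mem_centralizer_singleton_iff, SemidirectProduct.ext_iff]
    simp +zetaDelta only [SemidirectProduct.mul_left, SemidirectProduct.mul_right, SemidirectProduct.left_inr,
      SemidirectProduct.right_inr, one_mul, map_one, mul_one]
    refine ⟨fun h => h.1.symm, fun h => ⟨h.symm, Std.Commutative.comm _ _⟩⟩
  have hAcard : Nat.card A = p ^ 2 := by
    rw [sq]
    have e : A ≃ F × ↥(zpowers a) :=
      { toFun := fun x => (⟨x.1.left, (hmemF _).2 ((hfix _).1 x.2)⟩, x.1.right)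
        invFun := fun y => ⟨⟨y.1.1, y.2⟩, (hfix _).2 ((hmemF _).1 y.1.2)⟩
        left_inv := fun x => rfl
        right_inv := fun y => rfl }
    rw [Nat.card_congr e, Nat.card_prod, hF, Nat.card_zpowers, ha]
  have hgA : SemidirectProduct.inr g ∈ A := mem_centralizer_singleton_iff.2 rfl
  have hself : centralizer (A : Set X) = A := le_antisymm
    (hA ▸ centralizer_le (Set.singleton_subset_iff.2 hgA)) fun x hx => mem_centralizer_iff.2 fun y hy =>
      congrArg Subtype.val (IsPGroup.commutative_of_card_eq_prime_sq hAcard (⟨y, hy⟩ : A) ⟨x, hx⟩)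
  exact MaxClassTwo.class_of_self_centralizing (p := p) (m + 1) X hX A hAcard hself

/-- A subgroup `C` of a cyclic group contains every element killed by `|C|`. -/
theorem mem_of_pow_card {G : Type*} [Group G] [Finite G] (W : Subgroup G) (hW : IsCyclic W)
    {C : Subgroup G} (hC : C ≤ W) {x : G} (hx : x ^ Nat.card C = 1) (hxW : x ∈ W) : x ∈ C := by
  classical
  haveI := hW
  haveI := Fintype.ofFinite W
  set B := C.subgroupOf W
  have hB : Nat.card B = Nat.card C := Nat.card_congr (subgroupOfEquivOfLe hC).toEquiv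
  have hsub : (B : Set W).toFinset ⊆ Finset.univ.filter fun y : W => y ^ Nat.card C = 1 := by
    intro y hy
    rw [Set.mem_toFinset] at hy
    rw [Finset.mem_filter]
    refine ⟨Finset.mem_univ _, ?_⟩
    rw [← hB]
    exact congrArg Subtype.val (pow_card_eq_one' (x := (⟨y, hy⟩ : B)))
  have heq := Finset.eq_of_subset_of_card_le hsub (by
    rw [Set.toFinset_card, ← Nat.card_eq_fintype_card]
    exact (IsCyclic.card_pow_eq_one_le Nat.card_pos).trans hB.ge)
  have : (⟨x, hxW⟩ : W) ∈ (B : Set W).toFinset := by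
    rw [heq, Finset.mem_filter]
    exact ⟨Finset.mem_univ _, Subtype.ext hx⟩
  rw [Set.mem_toFinset] at this
  exact this

/-- The backward implication. -/
theorem moved_of_class (hL : IsPGroup p L) (hmc : Cfsg.IsMetacyclic L) (D : Data L p) (a : MulAut L)
    (ha : orderOf a = p) {m : ℕ} (hm : Nat.card L = p ^ m)
    (hc : Group.nilpotencyClass (SemidirectProduct L ↥(zpowers a) (zpowers a).subtype) = m) :
    ∃ x ∈ D.E, a x ≠ x := by
  by_contra hno
  push Not at hno
  let X := SemidirectProduct L ↥(zpowers a) (zpowers a).subtype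
  haveI : Finite ↥(zpowers a) :=
    Nat.finite_of_card_ne_zero (by rw [Nat.card_zpowers, ha]; exact hp.out.ne_zero)
  haveI : Finite X := Finite.of_equiv _ SemidirectProduct.equivProd.symm
  have hX : Nat.card X = p ^ (m + 1) := by
    rw [Nat.card_congr SemidirectProduct.equivProd, Nat.card_prod, hm, Nat.card_zpowers, ha, pow_succ]
  have hm4 : 4 ≤ m := by
    have := D.four
    rw [hm] at this
    exact (Nat.pow_dvd_pow_iff_le_right hp.out.one_lt).1 this
  obtain ⟨hZ, -, -, -⟩ := MaxClassTwo.center_of_maxClass (X := X) (n := m + 1) (by omega) hX (by simpa using hc)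
  let i : L →* X := SemidirectProduct.inl
  haveI hEn : D.E.Normal := ⟨fun x hx g => by
    rw [D.memE, conj_pow, (D.memE x).1 hx, mul_one, mul_inv_cancel]⟩
  -- some element of `L` moves some element of `E`
  obtain ⟨z, hz, g, hzg⟩ : ∃ z ∈ D.E, ∃ g : L, z * g ≠ g * z := by
    by_contra hcen
    push Not at hcen
    have hle : D.E.map i ≤ center X := by
      rintro _ ⟨z, hz, rfl⟩
      rw [mem_center_iff]
      rintro ⟨l, h⟩
      have hh : (h : MulAut L) z = z := by
        obtain ⟨k, hk⟩ := h.2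
        have hst : a ∈ MulAction.stabilizer (MulAut L) z := hno z hz
        have := zpow_mem hst k
        rw [← hk]
        exact this
      apply SemidirectProduct.ext
      · simp +zetaDelta [hh, (hcen z hz l).symm]
      · simp +zetaDelta
    have h1 := card_le_of_le hle
    rw [card_map_of_injective SemidirectProduct.inl_injective, D.cardE, hZ] at h1
    exact absurd h1 (not_le.2 (by rw [sq]; exact lt_mul_self hp.out.one_lt))
  obtain ⟨w, -, rfl⟩ := D.root z hz
  have hcyc := commutator_cyclic hmc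
  obtain ⟨j, hj⟩ := IsPGroup.iff_card.1 (hL.to_subgroup (commutator L))
  have hj2 : 2 ≤ j := by
    by_contra hlt
    have hcentral : ∀ x : L, ⁅g, x⁆ ∈ center L ∧ ⁅g, x⁆ ^ p = 1 := by
      intro x
      have hmem : ⁅g, x⁆ ∈ commutator L := commutator_mem_commutator (mem_top g) (mem_top x)
      rcases Nat.le_one_iff_eq_zero_or_eq_one.1 (by omega : j ≤ 1) with rfl | rfl
      · rw [pow_zero, card_eq_one] at hj
        rw [hj, mem_bot] at hmem
        rw [hmem]; exact ⟨one_mem _, one_pow p⟩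
      · rw [pow_one] at hj
        exact ⟨PGroupsBasic.le_center_of_card_eq_prime hL hj hmem, PGroupsBasic.pow_eq_one_of_card hj hmem⟩
    obtain ⟨h1, h2⟩ := hcentral w
    apply hzg
    have := PGroupsBasic.commutatorElement_pow_right h1 p
    rw [h2, commutatorElement_eq_one_iff_mul_comm] at this
    exact this.symm
  obtain ⟨C, hCle, hCcard⟩ : ∃ C : Subgroup L, C ≤ commutator L ∧ Nat.card C = p ^ 2 := by
    obtain ⟨C, -, hC, hCc⟩ := PGroupsBasic.exists_normal_card_pow hL (commutator L) 2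
      (by rw [hj]; exact Nat.pow_le_pow_right hp.out.pos hj2)
    exact ⟨C, hC, hCc⟩
  -- `C` is the set of elements of `L'` killed by `p²`
  have hmemC : ∀ x, x ∈ C ↔ x ∈ commutator L ∧ x ^ p ^ 2 = 1 := by
    intro x
    refine ⟨fun hx => ⟨hCle hx, hCcard ▸ ?_⟩, fun ⟨hx, hx2⟩ => ?_⟩
    · exact congrArg Subtype.val (pow_card_eq_one' (x := (⟨x, hx⟩ : C)))
    · exact mem_of_pow_card (commutator L) hcyc hCle (hCcard.symm ▸ hx2) hx
  haveI hCn : C.Normal := ⟨fun x hx g => by
    rw [hmemC] at hx ⊢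
    exact ⟨Subgroup.Normal.conj_mem inferInstance x hx.1 g, by
      rw [conj_pow, hx.2, mul_one, mul_inv_cancel]⟩⟩
  haveI : (C.map i).Normal := normal_map_inl _ C fun h x hx => by
    rw [hmemC] at hx ⊢
    refine ⟨?_, by rw [← map_pow, hx.2, map_one]⟩
    exact Subgroup.characteristic_iff_le_comap.1 inferInstance ((zpowers a).subtype h) hx.1
  haveI : (D.E.map i).Normal := normal_map_inl _ D.E fun h x hx => D.map_mem_E _ hx
  have heq := eq_of_normal_sq (X := X) (n := m + 1) (by omega) hX (by simpa using hc)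
    (C.map i) (D.E.map i)
    (by rw [card_map_of_injective SemidirectProduct.inl_injective, hCcard])
    (by rw [card_map_of_injective SemidirectProduct.inl_injective, D.cardE])
  have hCE : C = D.E := map_injective SemidirectProduct.inl_injective heq
  have hC1 : IsCyclic C := isCyclic_of_injective (Subgroup.inclusion hCle)
    (Subgroup.inclusion_injective hCle)
  obtain ⟨c, hgen⟩ := IsCyclic.exists_generator (α := C)
  have h1 : orderOf (c : L) = p ^ 2 := by
    rw [Subgroup.orderOf_coe, orderOf_eq_card_of_forall_mem_zpowers hgen, hCcard]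
  have h2 := orderOf_dvd_of_pow_eq_one ((D.memE _).1 (hCE ▸ c.2 : (c : L) ∈ D.E))
  rw [h1, sq] at h2
  exact absurd (Nat.le_of_dvd hp.out.pos h2) (not_le.2 (lt_mul_self hp.out.one_lt))

end Cfsg.Agent.MetacyclicOmegaAut57
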