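import Mathlib

/-!
A lower bound for the degree of a complex representation of a group with a special unipotent subgroup:
averaging the character over a set of conjugates of a central element inside the subgroup.
-/

set_option autoImplicit false
set_option linter.unusedSectionVars false

namespace Cfsg.Agent.MinDegreeAverage32

open Module

variable {V : Type*} [AddCommGroup V] [Module ℂ V] [FiniteDimensional ℂ V]

local notation "tr" => LinearMap.trace ℂ V

theorem trace_idem {T : Module.End ℂ V} (h : T * T = T) :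
    tr T = (finrank ℂ (LinearMap.range T) : ℂ) :=
  LinearMap.IsProj.trace (LinearMap.IsIdempotentElem.isProj_range _ h)

theorem eq_zero_of_trace {T : Module.End ℂ V} (h : T * T = T) (h0 : tr T = 0) : T = 0 := by
  rw [trace_idem h, Nat.cast_eq_zero, Submodule.finrank_eq_zero, LinearMap.range_eq_bot] at h0
  exact h0

section Avg

variable {A : Type*} [AddCommGroup A] [Fintype A]

/-- the averaging operator of a character -/
noncomputable def av (D : A → Module.End ℂ V) (ψ : AddChar A ℂ) : Module.End ℂ V :=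
  (Fintype.card A : ℂ)⁻¹ • ∑ a, ψ (-a) • D a

theorem card_ne : (Fintype.card A : ℂ) ≠ 0 := Nat.cast_ne_zero.2 Fintype.card_ne_zero

theorem mul_av {D : A → Module.End ℂ V} (h : ∀ a b, D (a + b) = D a * D b) (ψ : AddChar A ℂ) (b : A) :
    D b * av D ψ = ψ b • av D ψ := by
  rw [av, mul_smul_comm, smul_comm, Finset.mul_sum]
  congr 1
  rw [Finset.smul_sum]
  refine Fintype.sum_equiv (Equiv.addLeft b) _ _ fun a => ?_
  rw [Equiv.coe_addLeft, mul_smul_comm, ← h, smul_smul, ← AddChar.map_add_eq_mul,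
    show b + -(b + a) = -a by abel]

theorem av_idem {D : A → Module.End ℂ V} (h : ∀ a b, D (a + b) = D a * D b) (ψ : AddChar A ℂ) :
    av D ψ * av D ψ = av D ψ := by
  have e : ∀ a : A, ψ (-a) • D a * av D ψ = av D ψ := fun a => by
    rw [smul_mul_assoc, mul_av h, smul_smul, ← AddChar.map_add_eq_mul, neg_add_cancel,
      AddChar.map_zero_eq_one, one_smul]
  nth_rewrite 1 [av]
  rw [smul_mul_assoc, Finset.sum_mul, Finset.sum_congr rfl fun a _ => e a, Finset.sum_const,
    Finset.card_univ, ← Nat.cast_smul_eq_nsmul ℂ, smul_smul, inv_mul_cancel₀ card_ne, one_smul]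

theorem sum_smul_av (D : A → Module.End ℂ V) (b : A) : ∑ ψ : AddChar A ℂ, ψ b • av D ψ = D b := by
  classical
  simp only [av, Finset.smul_sum, smul_smul]
  rw [Finset.sum_comm]
  simp only [← Finset.sum_smul]
  rw [Finset.sum_eq_single b]
  · have e : ∀ x : AddChar A ℂ, x b * ((Fintype.card A : ℂ)⁻¹ * x (-b)) = (Fintype.card A : ℂ)⁻¹ := fun x => by
      rw [mul_left_comm, ← AddChar.map_add_eq_mul, add_neg_cancel, AddChar.map_zero_eq_one, mul_one]
    rw [Finset.sum_congr rfl fun x _ => e x, Finset.sum_const, Finset.card_univ, AddChar.card_eq, nsmul_eq_mul,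
      mul_inv_cancel₀ (card_ne (A := A)), one_smul]
  · intro a _ ha
    have e : ∀ x : AddChar A ℂ, x b * ((Fintype.card A : ℂ)⁻¹ * x (-a)) = (Fintype.card A : ℂ)⁻¹ * x (b + -a) :=
      fun x => by rw [mul_left_comm, ← AddChar.map_add_eq_mul]
    rw [Finset.sum_congr rfl fun x _ => e x, ← Finset.mul_sum, AddChar.sum_apply_eq_ite,
      if_neg (by simpa [add_neg_eq_zero] using ha.symm), mul_zero, zero_smul]
  · simp

theorem sum_av (D : A → Module.End ℂ V) : ∑ ψ : AddChar A ℂ, av D ψ = D 0 := by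
  have := sum_smul_av D 0
  simpa [AddChar.map_zero_eq_one] using this

end Avg

variable {G : Type*} [Group G] {F W : Type*} [AddCommGroup F] [Fintype F] [AddCommGroup W] [Fintype W]

/-- the configuration -/
structure Config (ρ : Representation ℂ G V) (F W I X Y : Type*) [AddCommGroup F] [AddCommGroup W]
    [Fintype I] [AddCommGroup X] [Fintype Y] where
  /-- the centre -/
  zeta : F → G
  zeta_add : ∀ a b, zeta (a + b) = zeta a * zeta b
  /-- section of the quotient -/
  u : W → G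
  comm : ∀ w z, Commute (u w) (zeta z)
  u_mul : ∀ w w', ∃ z, u w * u w' = u (w + w') * zeta z
  /-- the distinguished elements -/
  v : I → W
  z1 : F
  z1_ne : z1 ≠ 0
  const : ∀ z, z ≠ 0 → ρ.character (zeta z) = ρ.character (zeta z1)
  conj : ∀ i, ∃ z, ρ.character (u (v i) * zeta z) = ρ.character (zeta z1)
  shift : ∀ i, ∀ ψ : AddChar F ℂ, ψ ≠ 0 → ∃ (y : G) (z : F), (∀ c, Commute y (zeta c)) ∧
    y * u (v i) * y⁻¹ = u (v i) * zeta z ∧ ψ z ≠ 1
  /-- an abelian subgroup -/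
  x : X → G
  x_add : ∀ a b, x (a + b) = x a * x b
  x_comm : ∀ a z, Commute (x a) (zeta z)
  y : Y → G
  y_comm : ∀ b z, Commute (y b) (zeta z)
  beta : Y → X →+ F
  y_conj : ∀ b a, y b * x a * (y b)⁻¹ = x a * zeta (beta b a)
  beta_inj : ∀ ψ : AddChar F ℂ, ψ ≠ 0 → ∀ b b', (∀ a, ψ (beta b a) = ψ (beta b' a)) → b = b'
  faithful : ρ (zeta z1) ≠ 1

namespace Config

variable {ρ : Representation ℂ G V} {I X Y : Type*} [Fintype I] [AddCommGroup X] [Fintype X] [Fintype Y]
  (C : Config ρ F W I X Y)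

theorem zeta_zero : C.zeta 0 = 1 := by
  have := C.zeta_add 0 0
  rw [add_zero, eq_comm, mul_eq_left] at this
  exact this

/-- projection for a character of the centre -/
noncomputable def P (ψ : AddChar F ℂ) : Module.End ℂ V := av (fun z => ρ (C.zeta z)) ψ

theorem zeta_mul_P (ψ : AddChar F ℂ) (z : F) : ρ (C.zeta z) * C.P ψ = ψ z • C.P ψ :=
  mul_av (D := fun z => ρ (C.zeta z)) (fun a b => by rw [C.zeta_add, map_mul]) ψ z

theorem P_idem (ψ : AddChar F ℂ) : C.P ψ * C.P ψ = C.P ψ :=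
  av_idem (fun a b => by rw [C.zeta_add, map_mul]) ψ

theorem P_comm {g : G} (hg : ∀ z, Commute g (C.zeta z)) (ψ : AddChar F ℂ) : Commute (ρ g) (C.P ψ) :=
  (Commute.sum_right _ _ _ fun z _ => ((hg z).map ρ).smul_right _).smul_right _

theorem sum_P : ∑ ψ, C.P ψ = 1 := by
  rw [show (1 : Module.End ℂ V) = ρ (C.zeta 0) by rw [C.zeta_zero, map_one]]
  exact sum_av _

theorem conj_P {g : G} (hg : ∀ z, Commute g (C.zeta z)) (ψ : AddChar F ℂ) (h : G) :
    ρ g * (ρ h * C.P ψ) * ρ g⁻¹ = ρ (g * h * g⁻¹) * C.P ψ := by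
  have hc : Commute (ρ g⁻¹) (C.P ψ) := C.P_comm (fun z => (hg z).inv_left) ψ
  rw [map_mul, map_mul]
  simp only [mul_assoc]
  rw [hc.eq]

theorem trace_shift_zero (ψ : AddChar F ℂ) {g y : G} {z : F} (hy : ∀ c, Commute y (C.zeta c))
    (h : y * g * y⁻¹ = g * C.zeta z) (hz : ψ z ≠ 1) : tr (ρ g * C.P ψ) = 0 := by
  have h1 : tr (ρ (y * g * y⁻¹) * C.P ψ) = tr (ρ g * C.P ψ) := by
    rw [← C.conj_P hy, LinearMap.trace_mul_comm, ← mul_assoc, ← map_mul, inv_mul_cancel, map_one, one_mul]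
  rw [h, map_mul ρ, mul_assoc, C.zeta_mul_P, mul_smul_comm, map_smul, smul_eq_mul] at h1
  have h2 : (ψ z - 1) * tr (ρ g * C.P ψ) = 0 := by rw [sub_mul, one_mul, h1, sub_self]
  exact (mul_eq_zero.1 h2).resolve_left (sub_ne_zero.2 hz)

/-- the abelian action on the fixed space of the centre -/
noncomputable def H (w : W) : Module.End ℂ V := ρ (C.u w) * C.P 0

theorem zeta_H (z : F) : ρ (C.zeta z) * C.P 0 = C.P 0 := by
  rw [C.zeta_mul_P, AddChar.zero_apply, one_smul]

theorem H_add (w w' : W) : C.H (w + w') = C.H w * C.H w' := by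
  obtain ⟨z, hz⟩ := C.u_mul w w'
  have hc : Commute (ρ (C.u w')) (C.P 0) := C.P_comm (C.comm w') 0
  rw [H, H, H, mul_assoc, ← mul_assoc (C.P 0), ← hc.eq, mul_assoc, C.P_idem, ← mul_assoc, ← map_mul, hz,
    map_mul, mul_assoc, C.zeta_H]

theorem H_zero : C.H 0 = C.P 0 := by
  obtain ⟨z, hz⟩ := C.u_mul 0 0
  rw [add_zero, mul_right_inj] at hz
  rw [H, hz, C.zeta_H]

theorem char_eq_sum (g : G) : ρ.character g = ∑ ψ, tr (ρ g * C.P ψ) := by
  rw [← map_sum, ← Finset.mul_sum, C.sum_P, mul_one]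
  rfl

theorem trace_P {ψ : AddChar F ℂ} (hψ : ψ ≠ 0) :
    (Fintype.card F : ℂ) * tr (C.P ψ) = (finrank ℂ V : ℂ) - ρ.character (C.zeta C.z1) := by
  classical
  have e : ∀ z : F, tr (ρ (C.zeta z)) =
      ρ.character (C.zeta C.z1) + if z = 0 then (finrank ℂ V : ℂ) - ρ.character (C.zeta C.z1) else 0 := by
    intro z
    by_cases hz : z = 0
    · rw [if_pos hz, hz, C.zeta_zero, map_one, LinearMap.trace_one]
      ring
    · rw [if_neg hz, add_zero]
      exact C.const z hz
  rw [P, av, map_smul, map_sum, smul_eq_mul, ← mul_assoc, mul_inv_cancel₀ card_ne, one_mul]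
  simp only [map_smul, smul_eq_mul, e, mul_add, Finset.sum_add_distrib, ← Finset.sum_mul, mul_ite, mul_zero]
  rw [Finset.sum_ite_eq' Finset.univ (0 : F), if_pos (Finset.mem_univ _), neg_zero, AddChar.map_zero_eq_one, one_mul,
    show ∑ z : F, ψ (-z) = ∑ z : F, ψ z from Fintype.sum_equiv (Equiv.neg F) _ _ (fun z => rfl),
    AddChar.sum_eq_zero_of_ne_one (by rwa [← AddChar.one_eq_zero] at hψ), zero_mul, zero_add]

variable [Nonempty I]

include C in
theorem card_Y_le {ψ : AddChar F ℂ} (hψ : ψ ≠ 0) (hP : C.P ψ ≠ 0) :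
    Fintype.card Y ≤ finrank ℂ (LinearMap.range (C.P ψ)) := by
  classical
  have hD : ∀ a b : X, ρ (C.x (a + b)) * C.P ψ = (ρ (C.x a) * C.P ψ) * (ρ (C.x b) * C.P ψ) := by
    intro a b
    have hc : Commute (ρ (C.x b)) (C.P ψ) := C.P_comm (C.x_comm b) ψ
    rw [mul_assoc (ρ (C.x a)), ← mul_assoc (C.P ψ), ← hc.eq, mul_assoc (ρ (C.x b)), C.P_idem, ← mul_assoc,
      ← map_mul, C.x_add]
  set D : X → Module.End ℂ V := fun a => ρ (C.x a) * C.P ψ with hDdef
  let n : AddChar X ℂ → ℕ := fun χ => finrank ℂ (LinearMap.range (av D χ))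
  have hn : ∀ χ, tr (av D χ) = (n χ : ℂ) := fun χ => trace_idem (av_idem hD χ)
  have hx0 : C.x 0 = 1 := by
    have := C.x_add 0 0
    rw [add_zero, eq_comm, mul_eq_left] at this
    exact this
  have hsum : ∑ χ, n χ = finrank ℂ (LinearMap.range (C.P ψ)) := by
    have : ((∑ χ, n χ : ℕ) : ℂ) = (finrank ℂ (LinearMap.range (C.P ψ)) : ℂ) := by
      rw [Nat.cast_sum, Finset.sum_congr rfl fun χ _ => (hn χ).symm, ← map_sum, sum_av, hDdef]
      simp only
      rw [hx0, map_one, one_mul, trace_idem (C.P_idem ψ)]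
    exact_mod_cast this
  obtain ⟨χ0, hχ0⟩ : ∃ χ, n χ ≠ 0 := by
    by_contra! hc
    rw [Finset.sum_eq_zero fun χ _ => hc χ, eq_comm, Submodule.finrank_eq_zero, LinearMap.range_eq_bot] at hsum
    exact hP hsum
  let s : Y → AddChar X ℂ := fun b => χ0 - ψ.compAddMonoidHom (C.beta b)
  have hs : ∀ b, n (s b) = n χ0 := by
    intro b
    have e : ρ (C.y b) * av D χ0 * ρ (C.y b)⁻¹ = av D (s b) := by
      rw [av, av, mul_smul_comm, smul_mul_assoc, Finset.mul_sum, Finset.sum_mul]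
      congr 1
      refine Finset.sum_congr rfl fun a _ => ?_
      rw [mul_smul_comm, smul_mul_assoc, hDdef]
      simp only
      rw [C.conj_P (C.y_comm b), C.y_conj, map_mul, mul_assoc, C.zeta_mul_P, mul_smul_comm, smul_smul]
      congr 1
      rw [AddChar.sub_apply, AddChar.compAddMonoidHom_apply, neg_neg]
    have h1 : tr (av D (s b)) = tr (av D χ0) := by
      rw [← e, LinearMap.trace_mul_comm, ← mul_assoc, ← map_mul, inv_mul_cancel, map_one, one_mul]
    rw [hn, hn, Nat.cast_inj] at h1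
    exact h1
  have hinj : Function.Injective s := by
    intro b b' h
    refine C.beta_inj ψ hψ b b' fun a => ?_
    have h' : ψ.compAddMonoidHom (C.beta b) = ψ.compAddMonoidHom (C.beta b') := sub_right_injective h
    exact congrArg (fun χ : AddChar X ℂ => χ a) h'
  calc Fintype.card Y = ∑ _b : Y, 1 := by simp
    _ ≤ ∑ b : Y, n (s b) := Finset.sum_le_sum fun b _ => by rw [hs]; omega
    _ = ∑ χ ∈ Finset.univ.image s, n χ := (Finset.sum_image fun a _ b _ h => hinj h).symm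
    _ ≤ ∑ χ, n χ := Finset.sum_le_sum_of_subset (Finset.subset_univ _)
    _ = _ := hsum

include C in
theorem bound (N : ℝ)
    (hN : ∀ μ : AddChar W ℂ, (Fintype.card I : ℝ) - (∑ i, μ (C.v i)).re ≤ N) :
    ∃ a m : ℕ, finrank ℂ V = a + (Fintype.card F - 1) * m ∧ Fintype.card Y ≤ m ∧
      (Fintype.card I : ℝ) * m ≤ N * a := by
  classical
  obtain ⟨ψ1, hψ1⟩ : ∃ ψ : AddChar F ℂ, ψ ≠ 0 := by
    obtain ⟨ψ, hψ⟩ := AddChar.exists_apply_ne_zero.2 C.z1_ne
    exact ⟨ψ, fun h => hψ (by rw [h, AddChar.zero_apply])⟩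
  set m := finrank ℂ (LinearMap.range (C.P ψ1)) with hm
  set a := finrank ℂ (LinearMap.range (C.P 0)) with ha
  have htP : ∀ ψ : AddChar F ℂ, ψ ≠ 0 → tr (C.P ψ) = (m : ℂ) := by
    intro ψ hψ
    have h1 := C.trace_P hψ
    rw [← C.trace_P hψ1] at h1
    rw [mul_left_cancel₀ card_ne h1, hm, trace_idem (C.P_idem ψ1)]
  have htP0 : tr (C.P 0) = (a : ℂ) := trace_idem (C.P_idem 0)
  have hd : finrank ℂ V = a + (Fintype.card F - 1) * m := by
    have h1 := C.char_eq_sum 1
    rw [Representation.char_one, map_one] at h1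
    simp only [one_mul] at h1
    rw [← Finset.add_sum_erase _ _ (Finset.mem_univ 0), htP0,
      Finset.sum_congr rfl fun ψ hψ => htP ψ (Finset.ne_of_mem_erase hψ), Finset.sum_const,
      Finset.card_erase_of_mem (Finset.mem_univ _), Finset.card_univ, AddChar.card_eq, nsmul_eq_mul] at h1
    exact_mod_cast h1
  have hz : ρ.character (C.zeta C.z1) = (a : ℂ) - m := by
    have h := C.trace_P hψ1
    rw [htP _ hψ1, hd] at h
    have hF : 1 ≤ Fintype.card F := Fintype.card_pos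
    push_cast [Nat.cast_sub hF] at h
    linear_combination h
  have hP1 : C.P ψ1 ≠ 0 := by
    intro h0
    apply C.faithful
    have hall : ∀ ψ : AddChar F ℂ, ψ ≠ 0 → C.P ψ = 0 := fun ψ hψ =>
      eq_zero_of_trace (C.P_idem ψ) (by rw [htP ψ hψ, hm, ← trace_idem (C.P_idem ψ1), h0, map_zero])
    have h1 : C.P 0 = 1 := by
      rw [← C.sum_P, Finset.sum_eq_single (0 : AddChar F ℂ) (fun ψ _ h => hall ψ h) (by simp)]
    have h2 := C.zeta_H C.z1
    rwa [h1, mul_one] at h2
  refine ⟨a, m, hd, C.card_Y_le hψ1 hP1, ?_⟩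
  let f : AddChar W ℂ → ℕ := fun μ => finrank ℂ (LinearMap.range (av C.H μ))
  have hf : ∀ μ, tr (av C.H μ) = (f μ : ℂ) := fun μ => trace_idem (av_idem C.H_add μ)
  have hfa : (∑ μ, (f μ : ℝ)) = a := by
    have : ((∑ μ, f μ : ℕ) : ℂ) = (a : ℂ) := by
      rw [Nat.cast_sum, Finset.sum_congr rfl fun μ _ => (hf μ).symm, ← map_sum, sum_av, C.H_zero, htP0]
    exact_mod_cast this
  have hvi : ∀ i, ∑ μ, μ (C.v i) * (f μ : ℂ) = (a : ℂ) - m := by
    intro i
    obtain ⟨z, hz'⟩ := C.conj i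
    have h1 : ∑ μ, μ (C.v i) * (f μ : ℂ) = tr (C.H (C.v i)) := by
      rw [← sum_smul_av C.H (C.v i), map_sum]
      exact Finset.sum_congr rfl fun μ _ => by rw [map_smul, smul_eq_mul, hf]
    rw [h1, ← hz, ← hz', C.char_eq_sum, Finset.sum_eq_single (0 : AddChar F ℂ)]
    · rw [H, map_mul ρ, mul_assoc, C.zeta_H]
    · intro ψ _ hψ
      obtain ⟨y, c, hy, hyc, hc⟩ := C.shift i ψ hψ
      rw [map_mul ρ, mul_assoc, C.zeta_mul_P, mul_smul_comm, map_smul, C.trace_shift_zero ψ hy hyc hc, smul_zero]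
    · simp
  have hre : ∑ μ, (f μ : ℝ) * (∑ i, μ (C.v i)).re = (Fintype.card I : ℝ) * ((a : ℝ) - m) := by
    have h2 : ∑ μ, (f μ : ℂ) * ∑ i, μ (C.v i) = (Fintype.card I : ℂ) * ((a : ℂ) - m) := by
      simp only [Finset.mul_sum]
      rw [Finset.sum_comm, Finset.sum_congr rfl fun i _ => (Finset.sum_congr rfl fun μ _ => mul_comm _ _).trans (hvi i),
        Finset.sum_const, Finset.card_univ, nsmul_eq_mul]
    have := congrArg Complex.re h2
    simpa using this
  have hle : ∑ μ, (f μ : ℝ) * ((Fintype.card I : ℝ) - (∑ i, μ (C.v i)).re) ≤ ∑ μ, (f μ : ℝ) * N :=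
    Finset.sum_le_sum fun μ _ => mul_le_mul_of_nonneg_left (hN μ) (Nat.cast_nonneg _)
  simp only [mul_sub, Finset.sum_sub_distrib] at hle
  rw [hre, ← Finset.sum_mul, ← Finset.sum_mul, hfa] at hle
  linarith

end Config

end Cfsg.Agent.MinDegreeAverage32
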